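import Mathlib
import Groth.Agent.Lib.R2H1PicPn
import Groth.Agent.Lib.R2H1Hyperplane
import Groth.Agent.Lib.Helper23GenNear
import Groth.Agent.Lib.R2H2PnBeilinson
import Groth.Agent.Lib.R2H1WeierAlg
set_option backward.isDefEq.respectTransparency.types false

/-!
# Pole filtration along a local equation (helper1)

X a scheme, L invertible with a section sigma, U = genLocus sigma, W an open with a generator e of L and sigma = t e on W.

* PoleLE U W t m f : the function f on U has a pole of order at most m along t = 0 (t^m f extends over W); poleLE_add/mul/succ/one, not_poleLE_mul (pole orders add when t generates the ideal of a point p)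
* rho L sigma m s : the coefficient of a global section s of L^m against sigma^m on U; rho_spec, rho_unique, poleLE_rho, exists_of_poleLE (gluing), rho_injective, hom_ext_of_sv_eq (sections of an invertible module on an integral scheme are determined on a nonempty open)
* exists_glue2_fun, exists_mul_pow_eq, exists_poleLE (exhaustion, W affine), poleLE_of_regular, resf_coef_eq, mem_genLocus_of_not_poleLE
* strU, algU (k-algebra structure on functions on an open of a k-scheme), sv_smul', Fil (the pole filtration as k-submodules), rhoL, range_rhoL, finrank_Fil (= h0(L^m))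
* isPoleFiltration : the abstract criterion for WeierAlg.IsPoleFiltration
-/

set_option autoImplicit false
set_option linter.style.haveILetI false
set_option linter.unusedSectionVars false
universe u v

open CategoryTheory CategoryTheory.Limits AlgebraicGeometry TopologicalSpace Opposite

namespace Groth.Agent.Lib.R2H1.PoleFilt

section Part1

open Groth.Agent.Lib.Helper23.SecTw Groth.Agent.Lib.Helper6 Groth.Agent.Lib.Helper23.GenLocus
open Groth.Agent.Lib.R2H1.PicPn

variable {X : Scheme.{u}}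

theorem resf_add' {A B : X.Opens} (h : B ≤ A) (a b : Γ(X, A)) :
    resf h (a + b) = resf h a + resf h b := map_add _ _ _

theorem resf_zero' {A B : X.Opens} (h : B ≤ A) : resf h (0 : Γ(X, A)) = 0 := map_zero _

section Pole

variable (U W : X.Opens) (t : Γ(X, W))

/-- `f` has a pole of order at most `m` along the zero locus of the local equation `t` -/
def PoleLE (m : ℕ) (f : Γ(X, U)) : Prop :=
  ∃ c : Γ(X, W), resf (inf_le_right : U ⊓ W ≤ W) c =
    resf (inf_le_right : U ⊓ W ≤ W) t ^ m * resf (inf_le_left : U ⊓ W ≤ U) f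

variable {U W t}

theorem poleLE_zero (m : ℕ) : PoleLE U W t m 0 :=
  ⟨0, by rw [resf_zero', resf_zero', mul_zero]⟩

theorem poleLE_add {m : ℕ} {f g : Γ(X, U)} (hf : PoleLE U W t m f) (hg : PoleLE U W t m g) :
    PoleLE U W t m (f + g) := by
  obtain ⟨c, hc⟩ := hf
  obtain ⟨d, hd⟩ := hg
  exact ⟨c + d, by rw [resf_add', resf_add', hc, hd, mul_add]⟩

theorem poleLE_global_mul {m : ℕ} {f : Γ(X, U)} (r : Γ(X, ⊤)) (hf : PoleLE U W t m f) :
    PoleLE U W t m (resf le_top r * f) := by
  obtain ⟨c, hc⟩ := hf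
  refine ⟨resf le_top r * c, ?_⟩
  rw [resf_mul', resf_mul', hc, resf_resf, resf_resf]
  ring

theorem poleLE_succ {m : ℕ} {f : Γ(X, U)} (hf : PoleLE U W t m f) : PoleLE U W t (m + 1) f := by
  obtain ⟨c, hc⟩ := hf
  refine ⟨t * c, ?_⟩
  rw [resf_mul', hc, pow_succ]
  ring

theorem poleLE_one : PoleLE U W t 0 1 :=
  ⟨1, by rw [resf_one', resf_one', pow_zero, mul_one]⟩

theorem poleLE_mul {a b : ℕ} {f g : Γ(X, U)} (hf : PoleLE U W t a f) (hg : PoleLE U W t b g) :
    PoleLE U W t (a + b) (f * g) := by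
  obtain ⟨c, hc⟩ := hf
  obtain ⟨d, hd⟩ := hg
  refine ⟨c * d, ?_⟩
  rw [resf_mul', resf_mul', hc, hd, pow_add]
  ring

/-- pole orders are additive -/
theorem not_poleLE_mul [IsIntegral X] [Nonempty (U ⊓ W : X.Opens)] (p : X)
    (hdiv : ∀ c : Γ(X, W), p ∉ X.basicOpen c → t ∣ c) (hpt : p ∉ X.basicOpen t)
    (hunit : IsUnit (resf (inf_le_right : U ⊓ W ≤ W) t))
    {a b : ℕ} {f g : Γ(X, U)} (hf : PoleLE U W t (a + 1) f) (hf' : ¬ PoleLE U W t a f)
    (hg : PoleLE U W t (b + 1) g) (hg' : ¬ PoleLE U W t b g) :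
    ¬ PoleLE U W t (a + b + 1) (f * g) := by
  obtain ⟨c, hc⟩ := hf
  obtain ⟨d, hd⟩ := hg
  have key : ∀ (n : ℕ) (h : Γ(X, U)) (c : Γ(X, W)),
      resf (inf_le_right : U ⊓ W ≤ W) c =
        resf (inf_le_right : U ⊓ W ≤ W) t ^ (n + 1) * resf (inf_le_left : U ⊓ W ≤ U) h →
      ¬ PoleLE U W t n h → p ∈ X.basicOpen c := by
    intro n h c hc hn
    by_contra hp
    obtain ⟨c', rfl⟩ := hdiv c hp
    apply hn
    refine ⟨c', ?_⟩
    rw [resf_mul', pow_succ, mul_comm _ (resf _ t), mul_assoc] at hc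
    exact hunit.mul_left_cancel hc
  have hpc := key a f c hc hf'
  have hpd := key b g d hd hg'
  rintro ⟨c'', hc''⟩
  have h1 : resf (inf_le_right : U ⊓ W ≤ W) (t * c'') = resf (inf_le_right : U ⊓ W ≤ W) (c * d) := by
    rw [resf_mul', resf_mul', hc'', hc, hd, resf_mul']
    ring
  have h2 : t * c'' = c * d := map_injective_of_isIntegral X (homOfLE inf_le_right) h1
  have h3 : p ∈ X.basicOpen (c * d) := by
    rw [Scheme.basicOpen_mul]
    exact ⟨hpc, hpd⟩
  rw [← h2, Scheme.basicOpen_mul] at h3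
  exact hpt h3.1

end Pole

section Sect

variable (L : X.Modules) (σ : Coh.structureModule X ⟶ L)
  (W : X.Opens) (e : Γ(L, W)) (hgen : IsGen L W e) (t : Γ(X, W)) (ht : sv σ W = t • e)

include hgen ht in
theorem isUnit_resf_t :
    IsUnit (resf (inf_le_right : CohB1.genLocus L σ ⊓ W ≤ W) t) := by
  have h1 : IsGen L (CohB1.genLocus L σ ⊓ W) (res L inf_le_left (sv σ (CohB1.genLocus L σ))) :=
    (isGen_sv_genLocus L σ).mono inf_le_left
  have h2 : res L (inf_le_left : CohB1.genLocus L σ ⊓ W ≤ _) (sv σ (CohB1.genLocus L σ)) =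
      resf (inf_le_right : CohB1.genLocus L σ ⊓ W ≤ W) t • res L inf_le_right e := by
    rw [res_sv, ← res_sv σ (inf_le_right : CohB1.genLocus L σ ⊓ W ≤ W), ht, res_smul]
  rw [h2] at h1
  exact (Groth.Agent.Lib.Helper23.GenNear.isGen_smul_iff (hgen.mono inf_le_right) _).1 h1

/-- the coefficient of a global section of `L^m` with respect to `σ^m` on the generating locus -/
noncomputable def rho (m : ℕ) (s : Coh.structureModule X ⟶ CohB1.tensorPow L m) :
    Γ(X, CohB1.genLocus L σ) :=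
  coef (isGen_pw L _ (sv σ (CohB1.genLocus L σ)) (isGen_sv_genLocus L σ) m) le_rfl
    (sv s (CohB1.genLocus L σ))

theorem rho_spec (m : ℕ) (s : Coh.structureModule X ⟶ CohB1.tensorPow L m) :
    rho L σ m s • pw L _ (sv σ (CohB1.genLocus L σ)) m = sv s (CohB1.genLocus L σ) := by
  have := coef_spec (isGen_pw L _ (sv σ (CohB1.genLocus L σ)) (isGen_sv_genLocus L σ) m) le_rfl
    (sv s (CohB1.genLocus L σ))
  rwa [res_self] at this

theorem rho_unique (m : ℕ) (s : Coh.structureModule X ⟶ CohB1.tensorPow L m)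
    (f : Γ(X, CohB1.genLocus L σ))
    (h : f • pw L _ (sv σ (CohB1.genLocus L σ)) m = sv s (CohB1.genLocus L σ)) :
    f = rho L σ m s :=
  coef_unique _ le_rfl _ f (by rw [res_self]; exact h)

include ht in
/-- `σ^m` against `e^m` on the overlap -/
theorem res_pw_overlap (m : ℕ) :
    res (CohB1.tensorPow L m) (inf_le_left : CohB1.genLocus L σ ⊓ W ≤ _)
      (pw L _ (sv σ (CohB1.genLocus L σ)) m) =
    resf (inf_le_right : CohB1.genLocus L σ ⊓ W ≤ W) t ^ m •
      res (CohB1.tensorPow L m) inf_le_right (pw L W e m) := by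
  rw [res_pw, res_pw, res_sv, ← res_sv σ (inf_le_right : CohB1.genLocus L σ ⊓ W ≤ W), ht, res_smul,
    pw_smul]

include hgen ht in
theorem poleLE_rho (m : ℕ) (s : Coh.structureModule X ⟶ CohB1.tensorPow L m) :
    PoleLE (CohB1.genLocus L σ) W t m (rho L σ m s) := by
  have hgW := isGen_pw L W e hgen m
  refine ⟨coef hgW le_rfl (sv s W), ?_⟩
  have hg' := hgW.mono (inf_le_right : CohB1.genLocus L σ ⊓ W ≤ W)
  apply (hg' _ le_rfl).1
  simp only [res_self]
  have h1 := coef_spec hgW le_rfl (sv s W)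
  rw [res_self] at h1
  have h2 := congrArg (res _ (inf_le_right : CohB1.genLocus L σ ⊓ W ≤ W)) h1
  rw [res_smul, res_sv] at h2
  rw [h2]
  have h3 := congrArg (res _ (inf_le_left : CohB1.genLocus L σ ⊓ W ≤ _)) (rho_spec L σ m s)
  rw [res_smul, res_sv, res_pw_overlap L σ W e t ht, ← mul_smul] at h3
  rw [← h3, mul_comm]

include hgen ht in
theorem exists_of_poleLE (hcov : CohB1.genLocus L σ ⊔ W = ⊤) (m : ℕ)
    (f : Γ(X, CohB1.genLocus L σ)) (hf : PoleLE (CohB1.genLocus L σ) W t m f) :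
    ∃ s : Coh.structureModule X ⟶ CohB1.tensorPow L m, rho L σ m s = f := by
  obtain ⟨c, hc⟩ := hf
  obtain ⟨x, hx1, hx2⟩ := exists_glue2 (CohB1.tensorPow L m) (CohB1.genLocus L σ) W
    (f • pw L _ (sv σ (CohB1.genLocus L σ)) m) (c • pw L W e m) (by
      rw [res_smul, res_smul, res_pw_overlap L σ W e t ht, ← mul_smul, hc, mul_comm])
  have htop : (⊤ : X.Opens) ≤ CohB1.genLocus L σ ⊔ W := le_of_eq hcov.symm
  refine ⟨secHom _ (res _ htop x), ?_⟩
  symm
  apply rho_unique
  rw [sv_secHom, res_res, ← hx1]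

end Sect

section Inj

variable [IsIntegral X]

/-- a section of an invertible module on an integral scheme is determined on a nonempty open -/
theorem hom_ext_of_sv_eq (M : X.Modules) (hM : PicF.IsInvertible M) (U : X.Opens) [Nonempty U]
    (s s' : Coh.structureModule X ⟶ M) (h : sv s U = sv s' U) : s = s' := by
  rw [← Groth.Agent.Lib.R2H1.Hyperplane.secHom_sv M s, ← Groth.Agent.Lib.R2H1.Hyperplane.secHom_sv M s']
  congr 1
  have hx : ∀ x : X, ∃ (Wx : X.Opens) (ex : Γ(M, Wx)), x ∈ Wx ∧ IsGen M Wx ex := fun x =>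
    exists_gen M hM x
  choose Wx ex hxW hgen using hx
  refine (modSheaf M).eq_of_locally_eq' Wx ⊤ (fun x => homOfLE le_top)
    (fun x _ => Opens.mem_iSup.2 ⟨x, hxW x⟩) _ _ (fun x => ?_)
  change res M le_top (sv s ⊤) = res M le_top (sv s' ⊤)
  rw [res_sv, res_sv]
  haveI : Nonempty (Wx x ⊓ U : X.Opens) := by
    obtain ⟨u⟩ := (inferInstance : Nonempty U)
    obtain ⟨y, hy⟩ := (nonempty_preirreducible_inter (Wx x).isOpen U.isOpen ⟨x, hxW x⟩
      ⟨u.1, u.2⟩)
    exact ⟨⟨y, hy⟩⟩
  apply res_injective_of_isGen M (inf_le_left : Wx x ⊓ U ≤ Wx x) (hgen x)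
  rw [res_sv, res_sv, ← res_sv s (inf_le_right : Wx x ⊓ U ≤ U),
    ← res_sv s' (inf_le_right : Wx x ⊓ U ≤ U), h]

theorem rho_injective (L : X.Modules) (hL : PicF.IsInvertible L)
    (σ : Coh.structureModule X ⟶ L) [Nonempty (CohB1.genLocus L σ)] (m : ℕ) :
    Function.Injective (rho L σ m) := by
  intro s s' h
  apply hom_ext_of_sv_eq _ (isInvertible_tensorPow hL m) (CohB1.genLocus L σ)
  rw [← rho_spec, ← rho_spec, h]

end Inj

end Part1

section Part2

open Groth.Agent.Lib.Helper23.SecTw Groth.Agent.Lib.Helper6 Groth.Agent.Lib.Helper23.GenLocus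
open Groth.Agent.Lib.R2H1.PicPn

variable {X : Scheme.{u}}

/-- gluing two functions -/
theorem exists_glue2_fun (A B : X.Opens) (a : Γ(X, A)) (b : Γ(X, B))
    (h : resf (inf_le_left : A ⊓ B ≤ A) a = resf (inf_le_right : A ⊓ B ≤ B) b) :
    ∃ c : Γ(X, A ⊔ B), resf le_sup_left c = a ∧ resf le_sup_right c = b :=
  exists_glue2 (Coh.structureModule X) A B a b h

/-- sections over a basic open of an affine open are fractions -/
theorem exists_mul_pow_eq {U : X.Opens} (hU : IsAffineOpen U) (f : Γ(X, U))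
    (g : Γ(X, X.basicOpen f)) :
    ∃ (n : ℕ) (a : Γ(X, U)), g * resf (X.basicOpen_le f) f ^ n = resf (X.basicOpen_le f) a := by
  haveI := hU.isLocalization_basicOpen f
  exact IsLocalization.Away.surj f g

section Pole

variable {U W : X.Opens} {t : Γ(X, W)}

theorem mem_basicOpen_of_not_poleLE (p : X)
    (hdiv : ∀ c : Γ(X, W), p ∉ X.basicOpen c → t ∣ c)
    (hunit : IsUnit (resf (inf_le_right : U ⊓ W ≤ W) t))
    (n : ℕ) (h : Γ(X, U)) (c : Γ(X, W))
    (hc : resf (inf_le_right : U ⊓ W ≤ W) c =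
      resf (inf_le_right : U ⊓ W ≤ W) t ^ (n + 1) * resf (inf_le_left : U ⊓ W ≤ U) h)
    (hn : ¬ PoleLE U W t n h) : p ∈ X.basicOpen c := by
  by_contra hp
  obtain ⟨c', rfl⟩ := hdiv c hp
  apply hn
  refine ⟨c', ?_⟩
  rw [resf_mul', pow_succ, mul_comm _ (resf _ t), mul_assoc] at hc
  exact hunit.mul_left_cancel hc

/-- every function on `U` has a pole of finite order -/
theorem exists_poleLE (hW : IsAffineOpen W) (hB : U ⊓ W = X.basicOpen t) (f : Γ(X, U)) :
    ∃ m, PoleLE U W t m f := by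
  have hBU : X.basicOpen t ≤ U := (le_of_eq hB.symm).trans inf_le_left
  obtain ⟨n, c, hc⟩ := exists_mul_pow_eq hW t (resf hBU f)
  refine ⟨n, c, ?_⟩
  have h1 := congrArg (resf (le_of_eq hB : U ⊓ W ≤ X.basicOpen t)) hc
  rw [resf_mul', resf_pow, resf_resf, resf_resf, resf_resf] at h1
  rw [← h1, mul_comm]

/-- a function regular on `V` times a power of `y` has the expected pole order -/
theorem poleLE_of_regular (V : X.Opens) (hVW : W ≤ U ⊔ V) (d N : ℕ) (y : Γ(X, U))
    (hy : PoleLE U W t d y) (g : Γ(X, V)) (a : Γ(X, U))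
    (ha : resf (inf_le_left : U ⊓ V ≤ U) a =
      resf (inf_le_right : U ⊓ V ≤ V) g * resf (inf_le_left : U ⊓ V ≤ U) y ^ N) :
    PoleLE U W t (d * N) a := by
  obtain ⟨cy, hcy⟩ := hy
  obtain ⟨c, hc1, hc2⟩ := exists_glue2_fun (W ⊓ V) (U ⊓ W)
    (resf (inf_le_right : W ⊓ V ≤ V) g * resf (inf_le_left : W ⊓ V ≤ W) cy ^ N)
    (resf (inf_le_right : U ⊓ W ≤ W) t ^ (d * N) * resf (inf_le_left : U ⊓ W ≤ U) a) (by
      have hTUV : (W ⊓ V) ⊓ (U ⊓ W) ≤ U ⊓ V := fun x hx => ⟨hx.2.1, hx.1.2⟩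
      have e1 := congrArg (resf (inf_le_right : (W ⊓ V) ⊓ (U ⊓ W) ≤ U ⊓ W)) hcy
      have e2 := congrArg (resf hTUV) ha
      rw [resf_mul', resf_pow, resf_resf, resf_resf, resf_resf] at e1
      rw [resf_mul', resf_pow, resf_resf, resf_resf, resf_resf] at e2
      rw [resf_mul', resf_mul', resf_pow, resf_pow, resf_resf, resf_resf, resf_resf, resf_resf,
        e1, e2, pow_mul]
      ring)
  have hle : W ≤ (W ⊓ V) ⊔ (U ⊓ W) := by
    intro x hx
    rcases hVW hx with h | h
    · exact Or.inr ⟨h, hx⟩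
    · exact Or.inl ⟨hx, h⟩
  refine ⟨resf hle c, ?_⟩
  rw [resf_resf, ← hc2]

end Pole

section Sect

variable (L : X.Modules) (σ : Coh.structureModule X ⟶ L)
  (W : X.Opens) (e : Γ(L, W)) (hgen : IsGen L W e) (t : Γ(X, W)) (ht : sv σ W = t • e)

include ht in
theorem resf_coef_eq (m : ℕ) (s : Coh.structureModule X ⟶ CohB1.tensorPow L m) :
    resf (inf_le_right : CohB1.genLocus L σ ⊓ W ≤ W)
      (coef (isGen_pw L W e hgen m) le_rfl (sv s W)) =
    resf (inf_le_right : CohB1.genLocus L σ ⊓ W ≤ W) t ^ m *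
      resf (inf_le_left : CohB1.genLocus L σ ⊓ W ≤ _) (rho L σ m s) := by
  have hgW := isGen_pw L W e hgen m
  have hg' := hgW.mono (inf_le_right : CohB1.genLocus L σ ⊓ W ≤ W)
  apply (hg' _ le_rfl).1
  simp only [res_self]
  have h1 := coef_spec hgW le_rfl (sv s W)
  rw [res_self] at h1
  have h2 := congrArg (res _ (inf_le_right : CohB1.genLocus L σ ⊓ W ≤ W)) h1
  rw [res_smul, res_sv] at h2
  rw [h2]
  have h3 := congrArg (res _ (inf_le_left : CohB1.genLocus L σ ⊓ W ≤ _)) (rho_spec L σ m s)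
  rw [res_smul, res_sv, res_pw_overlap L σ W e t ht, ← mul_smul] at h3
  rw [← h3, mul_comm]

include hgen ht in
/-- a section of `L^(m+1)` whose coefficient has a pole of exact order `m + 1` generates at `p` -/
theorem mem_genLocus_of_not_poleLE (p : X) (hpW : p ∈ W)
    (hdiv : ∀ c : Γ(X, W), p ∉ X.basicOpen c → t ∣ c) (m : ℕ)
    (s : Coh.structureModule X ⟶ CohB1.tensorPow L (m + 1))
    (hs : ¬ PoleLE (CohB1.genLocus L σ) W t m (rho L σ (m + 1) s)) :
    p ∈ CohB1.genLocus (CohB1.tensorPow L (m + 1)) s := by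
  have hgW := isGen_pw L W e hgen (m + 1)
  have h1 := coef_spec hgW le_rfl (sv s W)
  rw [res_self] at h1
  have h2 := genLocus_inf_eq_of_isGen (CohB1.tensorPow L (m + 1)) s W _ _ hgW h1.symm
  have h3 := mem_basicOpen_of_not_poleLE p hdiv (isUnit_resf_t L σ W e hgen t ht) m
    (rho L σ (m + 1) s) _ (resf_coef_eq L σ W e hgen t ht (m + 1) s) hs
  rw [← h2] at h3
  exact h3.1

end Sect

end Part2

section Part3

open Groth.Agent.Lib.Helper23.SecTw Groth.Agent.Lib.Helper6 Groth.Agent.Lib.Helper23.GenLocus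
open Groth.Agent.Lib.R2H1.PicPn

variable (k : Type u) [Field k] (X : Scheme.{u}) [X.Over (Spec (CommRingCat.of k))]

/-- the structure map `k → Γ(X, U)` -/
noncomputable def strU (U : X.Opens) : k →+* Γ(X, U) :=
  (X.presheaf.map (homOfLE (le_top : U ≤ ⊤)).op).hom.comp
    (Coh.toGlobal (X ↘ Spec (CommRingCat.of k)))

/-- sections over an open of a `k`-scheme form a `k`-algebra -/
noncomputable def algU (U : X.Opens) : Algebra k Γ(X, U) := (strU k X U).toAlgebra

theorem strU_apply (U : X.Opens) (a : k) :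
    strU k X U a = resf le_top (Coh.toGlobal (X ↘ Spec (CommRingCat.of k)) a) := rfl

theorem sv_smul' {M : X.Modules} (a : k) (s : Coh.structureModule X ⟶ M) (U : X.Opens) :
    sv (a • s) U = strU k X U a • sv s U := by
  rw [val_eq_app, val_eq_app, KLin.smul_app_apply]
  rfl

attribute [local instance] algU

variable {k X}

section Filt

variable (U W : X.Opens) (t : Γ(X, W))

/-- the pole filtration as `k`-submodules -/
noncomputable def Fil (m : ℕ) : Submodule k Γ(X, U) where
  carrier := {f | PoleLE U W t m f}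
  add_mem' := fun hf hg => poleLE_add hf hg
  zero_mem' := poleLE_zero m
  smul_mem' := fun a f hf => by
    change PoleLE U W t m (strU k X U a * f)
    exact poleLE_global_mul _ hf

theorem mem_Fil {m : ℕ} {f : Γ(X, U)} : f ∈ Fil (k := k) U W t m ↔ PoleLE U W t m f := Iff.rfl

end Filt

section Lin

variable (L : X.Modules) (σ : Coh.structureModule X ⟶ L)

/-- `rho` as a `k`-linear map -/
noncomputable def rhoL (m : ℕ) :
    (Coh.structureModule X ⟶ CohB1.tensorPow L m) →ₗ[k] Γ(X, CohB1.genLocus L σ) where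
  toFun := rho L σ m
  map_add' := fun s s' => by
    symm
    apply rho_unique
    rw [add_smul, rho_spec, rho_spec, sv_add]
  map_smul' := fun a s => by
    symm
    apply rho_unique
    change (strU k X _ a * rho L σ m s) • _ = _
    rw [mul_smul, rho_spec, sv_smul']

theorem rhoL_apply (m : ℕ) (s : Coh.structureModule X ⟶ CohB1.tensorPow L m) :
    rhoL (k := k) L σ m s = rho L σ m s := rfl

variable (W : X.Opens) (e : Γ(L, W)) (hgen : IsGen L W e) (t : Γ(X, W)) (ht : sv σ W = t • e)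

include hgen ht in
theorem range_rhoL (hcov : CohB1.genLocus L σ ⊔ W = ⊤) (m : ℕ) :
    LinearMap.range (rhoL (k := k) L σ m) = Fil (CohB1.genLocus L σ) W t m := by
  ext f
  constructor
  · rintro ⟨s, rfl⟩
    exact poleLE_rho L σ W e hgen t ht m s
  · intro hf
    obtain ⟨s, hs⟩ := exists_of_poleLE L σ W e hgen t ht hcov m f hf
    exact ⟨s, hs⟩

include hgen ht in
theorem finrank_Fil [IsIntegral X] (hL : PicF.IsInvertible L) [Nonempty (CohB1.genLocus L σ)]
    (hcov : CohB1.genLocus L σ ⊔ W = ⊤) (m : ℕ) :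
    Module.finrank k (Fil (k := k) (CohB1.genLocus L σ) W t m) =
      Module.finrank k (Coh.HH X (CohB1.tensorPow L m) 0) := by
  rw [← range_rhoL L σ W e hgen t ht hcov m,
    LinearMap.finrank_range_of_inj (rho_injective L hL σ m)]
  exact (Groth.Agent.Lib.R2H2.PnBeilinson.clsEquiv (k := k) (CohB1.tensorPow L m)).finrank_eq

end Lin

end Part3

section Part4

open Groth.Agent.Lib.Helper23.SecTw Groth.Agent.Lib.Helper6 Groth.Agent.Lib.Helper23.GenLocus
open Groth.Agent.Lib.R2H1.PicPn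


open Groth.Agent.Lib.R2H1.WeierAlg

variable {k : Type u} [Field k] {X : Scheme.{u}} [X.Over (Spec (CommRingCat.of k))]

attribute [local instance] algU

variable (L : X.Modules) (σ : Coh.structureModule X ⟶ L)
variable (W : X.Opens) (e : Γ(L, W)) (hgen : IsGen L W e) (t : Γ(X, W)) (ht : sv σ W = t • e)

include hgen ht in
theorem isPoleFiltration [IsIntegral X] (hL : PicF.IsInvertible L)
    [Nonempty (CohB1.genLocus L σ)]
    (hcov : CohB1.genLocus L σ ⊔ W = ⊤) (p : X) (hpW : p ∈ W)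
    (hdiv : ∀ c : Γ(X, W), p ∉ X.basicOpen c → t ∣ c) (hpt : p ∉ X.basicOpen t)
    (h0 : Module.finrank k (Coh.HH X (CohB1.tensorPow L 0) 0) = 1)
    (hpos : ∀ m : ℕ, 1 ≤ m → Module.finrank k (Coh.HH X (CohB1.tensorPow L m) 0) = m) :
    IsPoleFiltration (Fil (k := k) (CohB1.genLocus L σ) W t) := by
  haveI : Nonempty (CohB1.genLocus L σ ⊓ W : X.Opens) := by
    obtain ⟨u⟩ := (inferInstance : Nonempty (CohB1.genLocus L σ))
    obtain ⟨y, hy⟩ := (nonempty_preirreducible_inter (CohB1.genLocus L σ).isOpen W.isOpen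
      ⟨u.1, u.2⟩ ⟨p, hpW⟩)
    exact ⟨⟨y, hy⟩⟩
  refine ⟨fun m f hf => poleLE_succ hf, poleLE_one, fun hf hg => poleLE_mul hf hg, ?_, ?_, ?_⟩
  · rw [finrank_Fil L σ W e hgen t ht hL hcov 0, h0]
  · intro m hm
    rw [finrank_Fil L σ W e hgen t ht hL hcov m, hpos m hm]
  · intro a b f g hf hf' hg hg'
    exact not_poleLE_mul p hdiv hpt (isUnit_resf_t L σ W e hgen t ht) hf hf' hg hg'

end Part4

end Groth.Agent.Lib.R2H1.PoleFilt
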