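import Mathlib
import Groth.Agent.Lib.Helper13ProjUPb
set_option backward.isDefEq.respectTransparency.types false

/-!
# Morphisms to projective space with explicit charts (helper1)

* exists_mor' : Helper13ProjUP.exists_mor with the full description of the chart ring maps psi_m (values on constants and on iota m') and covering hypothesis instead of GeneratedBy
* exists_mor_Pn, exists_mor_Pn' : sections s_0..s_n of an invertible module L whose generating loci cover X give r : X -> P^n_R over R with r^-1 D_+(T_i) = genLocus (s_i) and ring maps psi_i : R[T] -> Gamma(X, genLocus s_i) with psi_i(T_j) s_i = s_j, r^*(dehom_i a) = psi_i a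
* homog_scale_poly : ring maps from a polynomial ring differing by a scalar on the variables differ by u^d on forms of degree d
* isClosedImmersion_of_charts : closed immersion checked on affine charts via appLE surjectivity
* ker_ideal_eq_ker_appLE
-/

set_option autoImplicit false
set_option linter.style.haveILetI false
set_option linter.unusedSectionVars false
universe u v

open CategoryTheory CategoryTheory.Limits AlgebraicGeometry TopologicalSpace Opposite

namespace Groth.Agent.Lib.R2H1.ProjChart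

open HomogeneousLocalization

section Part1

open Groth.Agent.Helper13ProjUP
open Groth.Agent.Lib.Helper27GrTildeSect Groth.Agent.Helper13GrTildeFrac
  Groth.Agent.Helper13Dehom Groth.Agent.Helper13AffMor Groth.Agent.Helper13SymGr
open Groth.Agent.Lib.Helper23.SecTw Groth.Agent.Lib.Helper6 Groth.Agent.Lib.Helper23.GenLocus
open Groth.Agent.Lib.Helper23.PB Groth.Agent.Helper13PullbackUnit Groth.Agent.Lib.Helper23.Extend

variable {R A : Type u} [CommRing R] [CommRing A] [Algebra R A] (𝒜 : ℕ → Submodule R A)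
  [GradedAlgebra 𝒜]
variable {M : Type u} [AddCommGroup M] [Module R M] (ι : M →ₗ[R] A)
variable {X : Scheme.{u}} (q : X ⟶ Spec (CommRingCat.of R)) (L : X.Modules)
  (v : M →+ ProjUP.Γm L)

/-- `exists_mor` with the full description of the chart maps -/
theorem exists_mor' (hι : ∀ m, ι m ∈ 𝒜 1) (hsym : IsSymmetricAlgebra ι) (hL : PicF.IsInvertible L)
    (hv : ∀ (c : R) (m : M), v (c • m) = ProjUP.toGlobal q c • v m)
    (hcov : ∀ x : X, ∃ m, x ∈ XL L v m) :
    ∃ (r : X ⟶ Proj 𝒜) (hle : ∀ m, XL L v m ≤ r ⁻¹ᵁ Proj.basicOpen 𝒜 (ι m)),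
      r ≫ toBase 𝒜 = q ∧
      ∀ m, ∃ ψ : A →+* Γ(X, XL L v m), (∀ c, ψ (algebraMap R A c) = ρL q L v m c) ∧
        (∀ m', ψ (ι m') = cf L v m m') ∧
        ∀ a, (r.appLE (Proj.basicOpen 𝒜 (ι m)) (XL L v m) (hle m)).hom (dehom (hι m) a) = ψ a := by
  have hψ : ∀ m, ∃ ψ : A →+* Γ(X, XL L v m), (∀ c, ψ (algebraMap R A c) = ρL q L v m c) ∧
      ∀ m', ψ (ι m') = cf L v m m' :=
    fun m => exists_ringHom hsym (ρL q L v m)
      (AddMonoidHom.mk' (fun m' => cf L v m m') (cf_add L v m)) (fun c m' => cf_smul q L v hv m c m')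
  choose ψ hψ0 hψ1 using hψ
  have hφ : ∀ m, ∃ φ : Γ(Proj 𝒜, Proj.basicOpen 𝒜 (ι m)) →+* Γ(X, XL L v m),
      ∀ a, φ (dehom (hι m) a) = ψ m a :=
    fun m => exists_dehomLift (hι m) (ψ m) (by rw [hψ1, cf_self])
  choose φ hφ using hφ
  let rm : ∀ m, (XL L v m : Scheme.{u}) ⟶ Proj 𝒜 :=
    fun m => toAff (isAffineOpen_basicOpen (hι m)) (CommRingCat.ofHom (φ m))
  obtain ⟨r, hr⟩ := glue_opens (fun m => XL L v m) hcov rm (by
    intro m m'
    change X.homOfLE _ ≫ toAff _ _ = X.homOfLE _ ≫ toAff _ _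
    rw [toAff_homOfLE, toAff_homOfLE]
    refine toAff_eq_toAff (hι m) (hι m') _ _ (resf inf_le_left (cf L v m m'))
      (resf inf_le_right (cf L v m' m)) (cf_inv L v m m') ?_ ?_
    · change resf _ (φ m (dehom (hι m) (ι m'))) = _
      rw [hφ, hψ1]
    · intro d a ha
      change resf _ (φ m' (dehom (hι m') a)) = _ * resf _ (φ m (dehom (hι m) a))
      rw [hφ, hφ]
      refine homog_scale 𝒜 hsym hι
        ((X.presheaf.map (homOfLE (inf_le_left : XL L v m ⊓ XL L v m' ≤ XL L v m)).op).hom.comp (ψ m))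
        ((X.presheaf.map (homOfLE (inf_le_right : XL L v m ⊓ XL L v m' ≤ XL L v m')).op).hom.comp (ψ m'))
        _ ?_ ?_ ha
      · intro c
        change resf _ (ψ m' (algebraMap R A c)) = resf _ (ψ m (algebraMap R A c))
        rw [hψ0, hψ0]
        unfold ρL
        change resf _ (resf _ _) = resf _ (resf _ _)
        rw [resf_resf, resf_resf]
      · intro m''
        change resf _ (ψ m' (ι m'')) = _ * resf _ (ψ m (ι m''))
        rw [hψ1, hψ1]
        exact cf_trans L v m m' m'')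
  have hle : ∀ m, XL L v m ≤ r ⁻¹ᵁ Proj.basicOpen 𝒜 (ι m) :=
    fun m => le_preimage_of_ι_comp_eq (isAffineOpen_basicOpen (hι m)) r _ (hr m)
  refine ⟨r, hle, ?_, ?_⟩
  · refine hom_ext_opens (fun m => XL L v m) hcov _ _ (fun m => ?_)
    rw [← Category.assoc, hr m]
    change toAff _ _ ≫ _ = _
    unfold toAff
    rw [Category.assoc, Category.assoc, fromSpec_toBase, ← Spec.map_comp]
    conv_rhs => rw [eq_toSpecΓ_SpecMap_toGlobal q, ← Category.assoc,
      ← Scheme.Opens.toSpecΓ_SpecMap_presheaf_map_top, Category.assoc, ← Spec.map_comp]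
    congr 2
    ext c
    change φ m (dehom (hι m) (algebraMap R A c)) = resf _ (ProjUP.toGlobal q c)
    rw [hφ, hψ0]
    rfl
  · intro m
    refine ⟨ψ m, hψ0 m, hψ1 m, fun a => ?_⟩
    have h1 := appLE_of_ι_comp_eq (isAffineOpen_basicOpen (hι m)) r _ (hr m)
    have h2 : r.appLE (Proj.basicOpen 𝒜 (ι m)) (XL L v m) (hle m) = CommRingCat.ofHom (φ m) := h1
    rw [h2]
    change φ m (dehom (hι m) a) = _
    rw [hφ]

end Part1

section Part2

open Groth.Agent.Helper13ProjUP
open Groth.Agent.Lib.Helper27GrTildeSect Groth.Agent.Helper13GrTildeFrac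
  Groth.Agent.Helper13Dehom Groth.Agent.Helper13AffMor Groth.Agent.Helper13SymGr
open Groth.Agent.Lib.Helper23.SecTw Groth.Agent.Lib.Helper6 Groth.Agent.Lib.Helper23.GenLocus
open Groth.Agent.Lib.Helper23.PB Groth.Agent.Helper13PullbackUnit Groth.Agent.Lib.Helper23.Extend

/-- the morphism to projective space defined by generating sections, with its chart maps -/
theorem exists_mor_Pn {R : Type u} [CommRing R] (n : ℕ) {X : Scheme.{u}}
    (q : X ⟶ Spec (CommRingCat.of R)) (L : X.Modules) (hL : PicF.IsInvertible L)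
    (s : Fin (n + 1) → ProjUP.Γm L)
    (hcov : ∀ x : X, ∃ i, x ∈ CohB1.genLocus L (secHom L (s i))) :
    ∃ (r : X ⟶ Proj (CohB1.polyGrading n R)), r ≫ toBase (CohB1.polyGrading n R) = q ∧
      ∀ i, ∃ (hle : CohB1.genLocus L (secHom L (s i)) ≤
          r ⁻¹ᵁ Proj.basicOpen (CohB1.polyGrading n R) (MvPolynomial.X i))
        (ψ : MvPolynomial (Fin (n + 1)) R →+* Γ(X, CohB1.genLocus L (secHom L (s i)))),
        (∀ c, ψ (MvPolynomial.C c) = resf le_top (ProjUP.toGlobal q c)) ∧
        (∀ j, ψ (MvPolynomial.X j) • res L (le_top : CohB1.genLocus L (secHom L (s i)) ≤ ⊤) (s i) =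
          res L (le_top : CohB1.genLocus L (secHom L (s i)) ≤ ⊤) (s j)) ∧
        ∀ a, (r.appLE _ _ hle).hom (dehom (𝒜 := CohB1.polyGrading n R)
          (MvPolynomial.isHomogeneous_X R i) a) = ψ a := by
  classical
  let b : Module.Basis (Fin (n + 1)) R (Fin (n + 1) → R) := Pi.basisFun R (Fin (n + 1))
  let ι : (Fin (n + 1) → R) →ₗ[R] MvPolynomial (Fin (n + 1)) R :=
    Module.Basis.constr b R (MvPolynomial.X : Fin (n + 1) → MvPolynomial (Fin (n + 1)) R)
  have hsym : IsSymmetricAlgebra ι := SymmetricAlgebra.IsSymmetricAlgebra.mvPolynomial (Fin (n + 1)) b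
  have hιb : ∀ i, ι (Pi.single i 1) = MvPolynomial.X i := by
    intro i
    have := Module.Basis.constr_basis b R (MvPolynomial.X : Fin (n + 1) → MvPolynomial (Fin (n + 1)) R) i
    rwa [Pi.basisFun_apply] at this
  have hι : ∀ m, ι m ∈ CohB1.polyGrading n R 1 := by
    intro m
    have hm : m = ∑ i, m i • (Pi.single i (1 : R) : Fin (n + 1) → R) := by
      ext j
      simp [Finset.sum_apply, Pi.single_apply]
    rw [hm, map_sum]
    refine Submodule.sum_mem _ (fun i _ => ?_)
    rw [map_smul, hιb]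
    exact Submodule.smul_mem _ _ (MvPolynomial.isHomogeneous_X R i)
  let v : (Fin (n + 1) → R) →+ ProjUP.Γm L :=
    { toFun := fun m => ∑ i, ProjUP.toGlobal q (m i) • s i
      map_zero' := by simp
      map_add' := fun m m' => by
        simp only [Pi.add_apply, map_add, add_smul, Finset.sum_add_distrib] }
  have hv : ∀ (c : R) (m : Fin (n + 1) → R), v (c • m) = ProjUP.toGlobal q c • v m := by
    intro c m
    change ∑ i, ProjUP.toGlobal q ((c • m) i) • s i = ProjUP.toGlobal q c • ∑ i, ProjUP.toGlobal q (m i) • s i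
    rw [Finset.smul_sum]
    refine Finset.sum_congr rfl (fun i _ => ?_)
    rw [Pi.smul_apply, smul_eq_mul, map_mul, mul_smul]
  have hvb : ∀ i, v (Pi.single i 1) = s i := by
    intro i
    change ∑ j, ProjUP.toGlobal q ((Pi.single i (1 : R) : Fin (n + 1) → R) j) • s j = s i
    rw [Finset.sum_eq_single i]
    · rw [Pi.single_eq_same, map_one, one_smul]
    · intro j _ hj
      rw [Pi.single_eq_of_ne hj, map_zero, zero_smul]
    · intro h
      exact absurd (Finset.mem_univ i) h
  have hcov' : ∀ x : X, ∃ m, x ∈ XL L v m := by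
    intro x
    obtain ⟨i, hi⟩ := hcov x
    refine ⟨Pi.single i 1, ?_⟩
    change x ∈ CohB1.genLocus L (secHom L (v (Pi.single i 1)))
    rw [hvb i]
    exact hi
  obtain ⟨r, hle, hrq, hψ⟩ := exists_mor' (CohB1.polyGrading n R) ι q L v hι hsym hL hv hcov'
  refine ⟨r, hrq, fun i => ?_⟩
  obtain ⟨ψ, h0, h1, h2⟩ := hψ (Pi.single i 1)
  have key : ∀ (x : ProjUP.Γm L) (f : MvPolynomial (Fin (n + 1)) R)
      (hf : f ∈ CohB1.polyGrading n R 1), v (Pi.single i 1) = x → ι (Pi.single i 1) = f →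
      ∃ (hle' : CohB1.genLocus L (secHom L x) ≤
          r ⁻¹ᵁ Proj.basicOpen (CohB1.polyGrading n R) f)
        (ψ' : MvPolynomial (Fin (n + 1)) R →+* Γ(X, CohB1.genLocus L (secHom L x))),
        (∀ c, ψ' (MvPolynomial.C c) = resf le_top (ProjUP.toGlobal q c)) ∧
        (∀ j, ψ' (MvPolynomial.X j) • res L (le_top : CohB1.genLocus L (secHom L x) ≤ ⊤) x =
          res L (le_top : CohB1.genLocus L (secHom L x) ≤ ⊤) (s j)) ∧
        ∀ a, (r.appLE _ _ hle').hom (dehom (𝒜 := CohB1.polyGrading n R) hf a) = ψ' a := by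
    rintro _ _ hf rfl rfl
    refine ⟨hle _, ψ, fun c => h0 c, fun j => ?_, fun a => h2 a⟩
    have h3 := cf_spec L v (Pi.single i 1) (Pi.single j 1)
    rw [← h1, hιb, hvb] at h3
    exact h3
  exact key (s i) (MvPolynomial.X i) (MvPolynomial.isHomogeneous_X R i) (hvb i) (hιb i)

end Part2

section Part3

open Groth.Agent.Helper13ProjUP
open Groth.Agent.Lib.Helper27GrTildeSect Groth.Agent.Helper13GrTildeFrac
  Groth.Agent.Helper13Dehom Groth.Agent.Helper13AffMor Groth.Agent.Helper13SymGr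
open Groth.Agent.Lib.Helper23.SecTw Groth.Agent.Lib.Helper6 Groth.Agent.Lib.Helper23.GenLocus
open Groth.Agent.Lib.Helper23.PB Groth.Agent.Helper13PullbackUnit Groth.Agent.Lib.Helper23.Extend


/-- scaling of ring homomorphisms from polynomial rings on homogeneous polynomials -/
theorem homog_scale_poly {R B : Type*} [CommRing R] [CommRing B] {σ : Type*}
    (ψ ψ' : MvPolynomial σ R →+* B) (u : B)
    (h0 : ∀ c, ψ' (MvPolynomial.C c) = ψ (MvPolynomial.C c))
    (h1 : ∀ j, ψ' (MvPolynomial.X j) = u * ψ (MvPolynomial.X j)) {d : ℕ}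
    {a : MvPolynomial σ R} (ha : a.IsHomogeneous d) : ψ' a = u ^ d * ψ a := by
  classical
  rw [a.as_sum, map_sum, map_sum, Finset.mul_sum]
  refine Finset.sum_congr rfl (fun s hs => ?_)
  have hdeg : s.sum (fun _ e => e) = d := by
    have := ha (MvPolynomial.mem_support_iff.mp hs)
    rw [Finsupp.weight_apply] at this
    simpa [Finsupp.sum] using this
  rw [MvPolynomial.monomial_eq, map_mul, map_mul, h0, map_finsuppProd, map_finsuppProd]
  simp only [map_pow, h1, mul_pow]
  rw [Finsupp.prod_mul, ← hdeg]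
  have : (s.prod fun a b => u ^ b) = u ^ s.sum (fun _ e => e) := by
    rw [Finsupp.prod, Finsupp.sum, Finset.prod_pow_eq_pow_sum]
  rw [this]
  ring

section Charts

variable {X Y : Scheme.{u}} (f : X ⟶ Y)

/-- closed immersions can be checked on affine charts of the target -/
theorem isClosedImmersion_of_charts {ι : Type*} (U : ι → Y.affineOpens)
    (hU : ⨆ i, (U i : Y.Opens) = ⊤) (V : ι → X.Opens) (hV : ∀ i, V i = f ⁻¹ᵁ (U i).1)
    (hVa : ∀ i, IsAffineOpen (V i))
    (hs : ∀ i, Function.Surjective (f.appLE (U i).1 (V i) (le_of_eq (hV i))).hom) :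
    IsClosedImmersion f := by
  rw [HasAffineProperty.iff_of_iSup_eq_top (P := @IsClosedImmersion) U hU]
  intro i
  have key : ∀ (V' : X.Opens) (hV' : V' = f ⁻¹ᵁ (U i).1), IsAffineOpen V' →
      Function.Surjective (f.appLE (U i).1 V' (le_of_eq hV')).hom →
      IsAffine ↑(f ⁻¹ᵁ (U i).1) ∧ Function.Surjective (f ∣_ (U i).1).appTop := by
    rintro _ rfl ha hs
    refine ⟨ha, ?_⟩
    rw [← Scheme.Hom.resLE_eq_morphismRestrict]
    change Function.Surjective ((f.resLE (U i).1 (f ⁻¹ᵁ (U i).1) le_rfl).app ⊤)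
    rw [Scheme.Hom.resLE_app_top]
    have e1 := ConcreteCategory.bijective_of_isIso (f ⁻¹ᵁ (U i).1).topIso.inv
    have e2 := ConcreteCategory.bijective_of_isIso (U i).1.topIso.hom
    exact (e1.2.comp (hs.comp e2.2))
  exact key (V i) (hV i) (hVa i) (hs i)

/-- the kernel ideal on an affine chart in terms of `appLE` -/
theorem ker_ideal_eq_ker_appLE [QuasiCompact f] (U : Y.affineOpens) (V : X.Opens)
    (hV : V = f ⁻¹ᵁ U.1) :
    f.ker.ideal U = RingHom.ker (f.appLE U.1 V (le_of_eq hV)).hom := by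
  subst hV
  rw [Scheme.Hom.ker_apply, Scheme.Hom.appLE_eq_app]

end Charts

/-- the morphism to projective space defined by generating sections: exact preimages of charts -/
theorem exists_mor_Pn' {R : Type u} [CommRing R] (n : ℕ) {X : Scheme.{u}}
    (q : X ⟶ Spec (CommRingCat.of R)) (L : X.Modules) (hL : PicF.IsInvertible L)
    (s : Fin (n + 1) → ProjUP.Γm L)
    (hcov : ∀ x : X, ∃ i, x ∈ CohB1.genLocus L (secHom L (s i))) :
    ∃ (r : X ⟶ Proj (CohB1.polyGrading n R)), r ≫ toBase (CohB1.polyGrading n R) = q ∧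
      ∀ i, ∃ (hV : CohB1.genLocus L (secHom L (s i)) =
          r ⁻¹ᵁ Proj.basicOpen (CohB1.polyGrading n R) (MvPolynomial.X i))
        (ψ : MvPolynomial (Fin (n + 1)) R →+* Γ(X, CohB1.genLocus L (secHom L (s i)))),
        (∀ c, ψ (MvPolynomial.C c) = resf le_top (ProjUP.toGlobal q c)) ∧
        (∀ j, ψ (MvPolynomial.X j) • res L (le_top : CohB1.genLocus L (secHom L (s i)) ≤ ⊤) (s i) =
          res L (le_top : CohB1.genLocus L (secHom L (s i)) ≤ ⊤) (s j)) ∧
        ∀ a, (r.appLE _ _ (le_of_eq hV)).hom (dehom (𝒜 := CohB1.polyGrading n R)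
          (MvPolynomial.isHomogeneous_X R i) a) = ψ a := by
  obtain ⟨r, hrq, H⟩ := exists_mor_Pn n q L hL s hcov
  refine ⟨r, hrq, fun i => ?_⟩
  obtain ⟨hle, ψ, h0, h1, h2⟩ := H i
  have hV : CohB1.genLocus L (secHom L (s i)) =
      r ⁻¹ᵁ Proj.basicOpen (CohB1.polyGrading n R) (MvPolynomial.X i) := by
    apply le_antisymm hle
    intro x hx
    obtain ⟨j, hj⟩ := hcov x
    obtain ⟨hlej, ψj, -, h1j, h2j⟩ := H j
    have hxB : x ∈ r ⁻¹ᵁ (Proj (CohB1.polyGrading n R)).basicOpen
        (dehom (𝒜 := CohB1.polyGrading n R) (MvPolynomial.isHomogeneous_X R j)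
          (MvPolynomial.X i)) := by
      rw [basicOpen_dehom (𝒜 := CohB1.polyGrading n R) (MvPolynomial.isHomogeneous_X R i)
        (MvPolynomial.isHomogeneous_X R j)]
      exact ⟨hx, hlej hj⟩
    have hxb : x ∈ X.basicOpen (ψj (MvPolynomial.X i)) := by
      rw [← h2j, Scheme.basicOpen_appLE]
      exact ⟨hj, hxB⟩
    have hg := isGen_sv_genLocus L (secHom L (s j))
    have h3 := genLocus_inf_eq_of_isGen L (secHom L (s i)) _ _ (ψj (MvPolynomial.X i)) hg (by
      rw [sv_secHom, sv_secHom]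
      exact (h1j i).symm)
    rw [← h3] at hxb
    exact hxb.1
  exact ⟨hV, ψ, h0, h1, h2⟩

end Part3

end Groth.Agent.Lib.R2H1.ProjChart
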