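import Mathlib
import Groth.Agent.Lib.R2H1IsoP1F
import Groth.Agent.Lib.Helper27ProjSpaceSurj
import Groth.Agent.Lib.Helper6EquiDim2
import Groth.Agent.Lib.R2H4FieldBC
set_option backward.isDefEq.respectTransparency.types false

/-!
helper1 (run 2): genus zero curves over arbitrary fields. API: exists_section_projSpace (rational point of P^n_R), smooth_of_smooth_bc (smoothness over a field descends along field extensions), dim_bc_eq (dimension of an irreducible base change), finrank_HH_structure_bc (h^i(O) invariant under field extension), s11575.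
-/

set_option autoImplicit false
set_option linter.style.haveILetI false
set_option linter.unusedSectionVars false
universe u v

open CategoryTheory CategoryTheory.Limits AlgebraicGeometry TopologicalSpace Opposite

namespace Groth.Agent.Lib.R2H1.IsoP1G

section Part1

section Sect

open Groth.Agent.Lib.Helper27ProjSpaceSurj HomogeneousLocalization

/-- projective space has a rational point -/
theorem exists_section_projSpace (n : ℕ) (R : Type u) [CommRing R] :
    ∃ σ : Spec (CommRingCat.of R) ⟶ CohB1.ProjSpace n R,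
      σ ≫ CohB1.ProjSpace.toSpec n R = 𝟙 _ := by
  have h : (Spec.map (CommRingCat.ofHom (retr n R)) ≫
      Proj.awayι (CohB1.polyGrading n R) (MvPolynomial.X 0)
        (Groth.Agent.Lib.Helper27ProjGamma.hX n R 0) Nat.one_pos) ≫
      Proj.toSpecZero (CohB1.polyGrading n R) = 𝟙 _ := by
    rw [Category.assoc, Proj.awayι_toSpecZero, ← Spec.map_comp, ← CommRingCat.ofHom_comp]
    have : (retr n R).comp (fromZeroRingHom _ _) = RingHom.id _ := RingHom.ext (retr_fromZero n R)
    rw [this]
    simp
  haveI := isIso_specMap_algebraMap n R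
  refine ⟨inv (Spec.map (CommRingCat.ofHom (algebraMap R (CohB1.polyGrading n R 0)))) ≫
    (Spec.map (CommRingCat.ofHom (retr n R)) ≫
      Proj.awayι (CohB1.polyGrading n R) (MvPolynomial.X 0)
        (Groth.Agent.Lib.Helper27ProjGamma.hX n R 0) Nat.one_pos), ?_⟩
  change (inv (Spec.map (CommRingCat.ofHom (algebraMap R (CohB1.polyGrading n R 0)))) ≫
    (Spec.map (CommRingCat.ofHom (retr n R)) ≫
      Proj.awayι (CohB1.polyGrading n R) (MvPolynomial.X 0)
        (Groth.Agent.Lib.Helper27ProjGamma.hX n R 0) Nat.one_pos)) ≫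
    (Proj.toSpecZero (CohB1.polyGrading n R) ≫
      Spec.map (CommRingCat.ofHom (algebraMap R (CohB1.polyGrading n R 0)))) = 𝟙 _
  rw [Category.assoc, ← Category.assoc (Spec.map (CommRingCat.ofHom (retr n R)) ≫ _), h,
    Category.id_comp, IsIso.inv_hom_id]

end Sect


section Desc

open Groth.Agent.Lib.Helper20.FlatDesc

/-- smoothness over a field descends along field extensions -/
theorem smooth_of_smooth_bc (k : Type u) [Field k] (X : Scheme.{u})
    [X.Over (Spec (CommRingCat.of k))]
    [LocallyOfFinitePresentation (X ↘ Spec (CommRingCat.of k))]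
    (K : Type u) [Field K] [Algebra k K] (h : Smooth (Curv2.bcSnd k X K)) :
    Smooth (X ↘ Spec (CommRingCat.of k)) := by
  rw [← Scheme.Hom.smoothLocus_eq_top_iff, eq_top_iff]
  intro x _
  have hsurj0 : Surjective (Spec.map (CommRingCat.ofHom (algebraMap k K))) := by
    constructor
    intro a
    exact ⟨IsLocalRing.closedPoint K, @Subsingleton.elim (PrimeSpectrum k) inferInstance _ _⟩
  have hsurj : Surjective (Curv2.bcFst k X K) :=
    MorphismProperty.pullback_fst (P := @Surjective) _ _ hsurj0
  obtain ⟨x', rfl⟩ := hsurj.surj x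
  haveI : Flat (Spec.map (CommRingCat.ofHom (algebraMap k K))) := by
    rw [HasRingHomProperty.Spec_iff (P := @Flat)]
    exact RingHom.flat_algebraMap_iff.mpr inferInstance
  haveI : Smooth ((⊤ : (Curv2.bc k X K).Opens).ι ≫ Curv2.bcSnd k X K) := by
    haveI := h
    infer_instance
  obtain ⟨U, hxU, hU⟩ := exists_smooth_nbhd_of_baseChange_flatAt
    (X ↘ Spec (CommRingCat.of k)) (Spec.map (CommRingCat.ofHom (algebraMap k K))) x'
    (Flat.stalkMap _ _) ⊤ trivial
  haveI := hU
  exact formallySmooth_stalkMap_of_nbhd _ _ U hxU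

end Desc


section Dim

open Groth.Agent.Lib.Helper6.EquiDim

/-- the dimension of an irreducible base change to a field extension -/
theorem dim_bc_eq (k : Type u) [Field k] (X : Scheme.{u}) [X.Over (Spec (CommRingCat.of k))]
    [LocallyOfFiniteType (X ↘ Spec (CommRingCat.of k))] (K : Type u) [Field K] [Algebra k K]
    [IrreducibleSpace X] [IrreducibleSpace (Curv2.bc k X K)] :
    topologicalKrullDim (Curv2.bc k X K) = topologicalKrullDim X := by
  have h1 : (Set.univ : Set (Curv2.bc k X K)) ∈ irreducibleComponents (Curv2.bc k X K) := by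
    rw [irreducibleComponents_eq_singleton]; rfl
  obtain ⟨hcomp, hdim⟩ := topologicalKrullDim_component k X K Set.univ h1
  rw [irreducibleComponents_eq_singleton] at hcomp
  have h2 : (Curv2.bcFst k X K) '' Set.univ = Set.univ := hcomp
  rw [h2] at hdim
  have e1 : topologicalKrullDim (Set.univ : Set (Curv2.bc k X K)) =
      topologicalKrullDim (Curv2.bc k X K) :=
    IsHomeomorph.topologicalKrullDim_eq _ (Homeomorph.Set.univ _).isHomeomorph
  have e2 : topologicalKrullDim (Set.univ : Set X) = topologicalKrullDim X :=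
    IsHomeomorph.topologicalKrullDim_eq _ (Homeomorph.Set.univ _).isHomeomorph
  rw [← e1, hdim, e2]

end Dim

section BC

open Groth.Agent.Lib.R2H4BCGlue Groth.Agent.Lib.R2H4FieldBC

/-- the cohomology of the structure sheaf has the same dimension after a field extension -/
theorem finrank_HH_structure_bc (k : Type u) [Field k] (X : Scheme.{u})
    [X.Over (Spec (CommRingCat.of k))] [IsProper (X ↘ Spec (CommRingCat.of k))]
    (K : Type u) [Field K] [Algebra k K] (i : ℕ) :
    letI : (Curv2.bc k X K).Over (Spec (CommRingCat.of K)) := ⟨Curv2.bcSnd k X K⟩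
    Module.finrank K (Coh.HH (Curv2.bc k X K) (Coh.structureModule (Curv2.bc k X K)) i) =
      Module.finrank k (Coh.HH X (Coh.structureModule X) i) := by
  letI : (Curv2.bc k X K).Over (Spec (CommRingCat.of K)) := ⟨Curv2.bcSnd k X K⟩
  have hpb : IsPullback (Curv2.bcFst k X K) ((Curv2.bc k X K) ↘ Spec (CommRingCat.of K))
      (X ↘ Spec (CommRingCat.of k)) (Spec.map (CommRingCat.ofHom (algebraMap k K))) :=
    IsPullback.of_hasPullback _ _
  haveI := Groth.Agent.Lib.R2H1.CurveEuler.isNoetherian_of_proper k X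
  have hBC := fieldBC k K X (Curv2.bc k X K) (Curv2.bcFst k X K) hpb (Coh.structureModule X)
    (Groth.Agent.Lib.R2H1.GenusLe.isCoh_structureModule X) i
  exact finrank_eq_of_bc (structure_bc (Curv2.bcFst k X K) i hBC)

end BC


section Main

open Groth.Agent.Lib.R2H1.CurveEuler Groth.Agent.Lib.R2H1.GenusLe Groth.Agent.Lib.R2H1.EulerAdd

/-- S11575 -/
theorem s11575 (k : Type u) [Field k] (X : Scheme.{u}) [X.Over (Spec (CommRingCat.of k))]
    (hprojX : ∃ (N : ℕ) (i : X ⟶ CohB1.ProjSpace N k), IsClosedImmersion i ∧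
      i ≫ CohB1.ProjSpace.toSpec N k = X ↘ (Spec (CommRingCat.of k)))
    [GeometricallyIntegral (X ↘ (Spec (CommRingCat.of k)))] (hdim : topologicalKrullDim X = 1)
    (hpa : 1 - Curv2.euler k X (Coh.structureModule X) ≤ 0) :
    Smooth (X ↘ (Spec (CommRingCat.of k))) ∧
      ((∃ e : X ≅ CohB1.ProjSpace 1 k,
          e.hom ≫ CohB1.ProjSpace.toSpec 1 k = X ↘ (Spec (CommRingCat.of k))) ↔
        ∃ s : Spec (CommRingCat.of k) ⟶ X, s ≫ (X ↘ (Spec (CommRingCat.of k))) = 𝟙 _) := by
  obtain ⟨N, i, hi, hcomp⟩ := hprojX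
  haveI : IsProper (X ↘ Spec (CommRingCat.of k)) := by
    rw [← hcomp]
    haveI := hi
    haveI := Groth.Agent.S9705.isProper_projSpace_toSpec N k
    infer_instance
  haveI : IsIntegral X :=
    (‹GeometricallyIntegral (X ↘ (Spec (CommRingCat.of k)))›).geometrically_isIntegral
      (𝟙 _) (𝟙 X) (X ↘ Spec (CommRingCat.of k)) IsPullback.of_id_fst
  haveI := isNoetherian_of_proper k X
  haveI : LocallyOfFinitePresentation (X ↘ Spec (CommRingCat.of k)) :=
    LocallyOfFinitePresentation.iff_locallyOfFiniteType.mpr inferInstance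
  have cO := isCoh_structureModule X
  -- base change to the algebraic closure
  letI : (Curv2.bc k X (AlgebraicClosure k)).Over (Spec (CommRingCat.of (AlgebraicClosure k))) :=
    ⟨Curv2.bcSnd k X (AlgebraicClosure k)⟩
  haveI : IsProper ((Curv2.bc k X (AlgebraicClosure k)) ↘
      Spec (CommRingCat.of (AlgebraicClosure k))) :=
    inferInstanceAs (IsProper (pullback.snd (X ↘ Spec (CommRingCat.of k))
      (Spec.map (CommRingCat.ofHom (algebraMap k (AlgebraicClosure k))))))
  haveI : IsIntegral (Curv2.bc k X (AlgebraicClosure k)) :=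
    (‹GeometricallyIntegral (X ↘ (Spec (CommRingCat.of k)))›).geometrically_isIntegral
      (Spec.map (CommRingCat.ofHom (algebraMap k (AlgebraicClosure k))))
      (Curv2.bcFst k X (AlgebraicClosure k)) (Curv2.bcSnd k X (AlgebraicClosure k))
      (IsPullback.of_hasPullback _ _)
  have hdim' : topologicalKrullDim (Curv2.bc k X (AlgebraicClosure k)) = 1 :=
    (dim_bc_eq k X (AlgebraicClosure k)).trans hdim
  have h0 := finrank_HH_structure_bc k X (AlgebraicClosure k) 0
  have h1 := finrank_HH_structure_bc k X (AlgebraicClosure k) 1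
  have h0' := Groth.Agent.Lib.R2H1.RegPoint.finrank_H0_structure_eq_one (AlgebraicClosure k)
    (Curv2.bc k X (AlgebraicClosure k))
  have eO := euler_eq_h0_sub_h1 k X hdim.le _ cO.1
  have hH1 : Module.finrank k (Coh.HH X (Coh.structureModule X) 1) = 0 := by
    rw [eO, ← h0, h0'] at hpa
    push_cast at hpa
    have hnn : (0 : ℤ) ≤ (Module.finrank k (Coh.HH X (Coh.structureModule X) 1) : ℤ) :=
      Int.natCast_nonneg _
    have : (Module.finrank k (Coh.HH X (Coh.structureModule X) 1) : ℤ) = 0 := by linarith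
    exact_mod_cast this
  have hg' : Curv2.genus (AlgebraicClosure k) (Curv2.bc k X (AlgebraicClosure k)) = 0 := by
    unfold Curv2.genus
    rw [h1]
    exact hH1
  have hsm' : Smooth (Curv2.bcSnd k X (AlgebraicClosure k)) :=
    Groth.Agent.Lib.R2H1.GenusZeroSm.smooth_of_genus_zero (AlgebraicClosure k)
      (Curv2.bc k X (AlgebraicClosure k)) hdim' hg'
  have hsm : Smooth (X ↘ Spec (CommRingCat.of k)) :=
    smooth_of_smooth_bc k X (AlgebraicClosure k) hsm'
  refine ⟨hsm, ?_, ?_⟩
  · rintro ⟨e, he⟩
    obtain ⟨σ, hσ⟩ := exists_section_projSpace 1 k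
    refine ⟨σ ≫ e.inv, ?_⟩
    rw [Category.assoc, ← he, Iso.inv_hom_id_assoc, hσ]
  · rintro ⟨s, hs⟩
    haveI := finite_HH k X _ cO 1
    have h1' : Subsingleton (Coh.HH X (Coh.structureModule X) 1) :=
      Module.finrank_zero_iff.mp hH1
    haveI := hsm
    exact Groth.Agent.Lib.R2H1.IsoP1E.iso_P1_of_regular_rational_point k X hdim h1' s hs
      (Groth.Agent.Lib.Helper6.SmRegSch.isRegularLocalRing_stalk_of_smooth_over_field k X
        (X ↘ Spec (CommRingCat.of k)) _)

end Main

end Part1

end Groth.Agent.Lib.R2H1.IsoP1G
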