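import Mathlib
import Groth.Prelude.Def_Curve
import Groth.Agent.Lib.Helper23PB
import Groth.Agent.Lib.Helper23TensorMap
import Groth.Agent.Lib.R2H3PnChart
import Groth.Agent.Lib.R2H1LiftZero
import Groth.Agent.Lib.R2H1InvHom
import Groth.Agent.Lib.Helper26FpqcMod
import Groth.Agent.Lib.R2H1CurveAmple
import Groth.Agent.Lib.R2H1IsoP1G
import Groth.Agent.Lib.R2H1SubDegBound
import Groth.Agent.Lib.H9SteinSm
import Groth.Agent.Lib.R2H1DegTensor
import Groth.Agent.Lib.R2H1VBSub
import Groth.Agent.Lib.R2H4FieldBC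
import Groth.Agent.Lib.R2H4BCGlue
import Groth.Agent.Lib.R2H1CurveDegSec
import Groth.Agent.Lib.R2H2EWFlat
import Groth.Agent.Lib.R2H1CurveEuler
import Groth.Agent.Lib.R2H3AmpleSV
import Groth.Agent.Lib.R2H1DegNonpos
import Groth.Agent.Lib.R2H1ZeroDimCoh
import Groth.Agent.Lib.R2H1CurveDeg
import Groth.Agent.Lib.R2H1H0One
import Groth.Agent.Lib.R2H1PicLaw
import Groth.Agent.Lib.R2H2ClosedPnLin
import Groth.Agent.Lib.R2H2PnSerre
set_option backward.isDefEq.respectTransparency.types false

/-!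
helper1 (run 2): twisting invertible modules on the base change of a smooth proper curve over a separably closed field by pullbacks of rational points. API: notMem_genLocus_comp_mulHom, pullbackUnitHom_unitSec, notMem_basicOpen_idealModι, pullIdealHom, notMem_genLocus_of_pullIdeal, mono_mulHom_pullIdeal (local analysis of f^*I ⊗ M ⟶ M), exists_section_mem_open (rational points in opens), section_facts (ideal of a rational point: effective Cartier, degree one, closed), h0_structure_eq_one_of_section, geometricallyConnected_of_section, deg_idealMod, flat_surjective_fst, bc_facts (base change of a smooth proper geometrically connected curve is a smooth proper integral curve), euler_pullback, deg_pullback (invariance under field extension for a general pullback square), twist_down (abstract twist-down step), deg_tensorPow, twist_up (Serre vanishing twist-up step), not_isClosed_genericPoint, exists_section_fibre_subset, step, descend, s6487.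
-/

set_option autoImplicit false
set_option linter.style.haveILetI false
set_option linter.unusedSectionVars false
universe u v

open CategoryTheory CategoryTheory.Limits AlgebraicGeometry TopologicalSpace Opposite

namespace Groth.Agent.Lib.R2H1.TwistBC

section Part1

open Groth.Agent.Lib.Helper23.SecTw Groth.Agent.Lib.Helper23.GenLocus
  Groth.Agent.Lib.Helper23.Extend Groth.Agent.Lib.Helper6 Groth.Agent.Lib.Helper23.PB
  Groth.Agent.Lib.Helper23.TensorMap Groth.Agent.Helper13PullbackUnit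

section L1

variable {X : Scheme.{u}}

/-- a section of `M` coming from `N ⊗ M` through a map `θ : N ⟶ O` vanishing at `q` does not
generate `M` at `q` -/
theorem notMem_genLocus_comp_mulHom (N M : X.Modules) (θ : N ⟶ Coh.structureModule X)
    (W : X.Opens) (ν : Γ(N, W)) (μ : Γ(M, W)) (hν : IsGen N W ν) (hμ : IsGen M W μ)
    (q : X) (hqW : q ∈ W) (hq : q ∉ X.basicOpen (ofS W (θ.app W ν)))
    (ψ : Coh.structureModule X ⟶ CohB1.tensorMod N M) :
    q ∉ CohB1.genLocus M (ψ ≫ mulHom θ M) := by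
  intro hmem
  have hτ := isGen_tm N M W ν μ hν hμ
  obtain ⟨c, hc⟩ : ∃ c : Γ(X, W), c = coef hτ le_rfl (sv ψ W) := ⟨_, rfl⟩
  have h1 : sv ψ W = c • tm N M W ν μ := by rw [hc]; exact sv_eq_coef_smul ψ hτ
  have h2 : sv (ψ ≫ mulHom θ M) W = (c * ofS W (θ.app W ν)) • μ := by
    rw [Groth.Agent.Lib.R2H1.LiftZero.sv_comp, h1, Scheme.Modules.Hom.app_smul, mulHom_tm, mul_smul]
  have h3 := genLocus_inf_eq_of_isGen M (ψ ≫ mulHom θ M) W μ _ hμ h2
  have h4 : q ∈ CohB1.genLocus M (ψ ≫ mulHom θ M) ⊓ W := ⟨hmem, hqW⟩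
  rw [h3, Scheme.basicOpen_mul] at h4
  exact hq h4.2

end L1

section L2

variable {X Y : Scheme.{u}} (f : X ⟶ Y)

/-- the comparison `f^* O_Y ⟶ O_X` on pulled back functions -/
theorem pullbackUnitHom_unitSec {V : Y.Opens} {U : X.Opens} (hle : U ≤ f ⁻¹ᵁ V) (r : Γ(Y, V)) :
    (Groth.Agent.Lib.R2H3.PnChart.pullbackUnitHom f).app U
      (unitSec f (Coh.structureModule Y) hle (toS V r)) = toS U (f.appLE V U hle r) := by
  rw [unitSec_apply]
  have h1 := app_map (Groth.Agent.Lib.R2H3.PnChart.pullbackUnitHom f) (homOfLE hle)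
    (((Scheme.Modules.pullbackPushforwardAdjunction f).unit.app (Coh.structureModule Y)).app V (toS V r))
  rw [h1]
  have h2 := Groth.Agent.Lib.R2H3.PnChart.pullbackUnitHom_pullSect f V r
  have h3 : (Groth.Agent.Lib.R2H3.PnChart.pullbackUnitHom f).app (f ⁻¹ᵁ V)
      (((Scheme.Modules.pullbackPushforwardAdjunction f).unit.app (Coh.structureModule Y)).app V (toS V r)) =
      toS (f ⁻¹ᵁ V) (f.app V r) := h2
  rw [h3]
  rfl

end L2

section L3

variable {Y : Scheme.{u}}

/-- sections of the ideal sheaf vanish at the points of the support -/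
theorem notMem_basicOpen_idealModι (I : Y.IdealSheafData) (W : Y.Opens)
    (ε : Γ(ClSub.idealMod I, W)) (Q : Y) (hQ : Q ∈ Set.range I.subschemeι) :
    Q ∉ Y.basicOpen (ofS W ((ClSub.idealModι I).app W ε)) := by
  intro hmem
  obtain ⟨z, rfl⟩ := hQ
  have h0 : ClSub.idealModι I ≫ ClSub.toSubscheme I = 0 := kernel.condition _
  have h1 : (ClSub.toSubscheme I).app W ((ClSub.idealModι I).app W ε) = 0 := by
    have := congrArg (fun φ => Scheme.Modules.Hom.app φ W ε) h0
    exact this
  have h2 : I.subschemeι.app W (ofS W ((ClSub.idealModι I).app W ε)) = 0 := h1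
  have h3 : z ∈ I.subschemeι ⁻¹ᵁ Y.basicOpen (ofS W ((ClSub.idealModι I).app W ε)) := hmem
  rw [Scheme.preimage_basicOpen, h2, Scheme.basicOpen_zero] at h3
  exact h3

end L3

section Main

variable {X Y : Scheme.{u}} (f : X ⟶ Y)

/-- the canonical map `f^* I ⟶ O_X` -/
noncomputable def pullIdealHom (I : Y.IdealSheafData) :
    (Scheme.Modules.pullback f).obj (ClSub.idealMod I) ⟶ Coh.structureModule X :=
  (Scheme.Modules.pullback f).map (ClSub.idealModι I) ≫
    Groth.Agent.Lib.R2H3.PnChart.pullbackUnitHom f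

/-- sections of `M` coming from `f^* I ⊗ M` do not generate at points over the support of `I` -/
theorem notMem_genLocus_of_pullIdeal (I : Y.IdealSheafData)
    (hI : PicF.IsInvertible (ClSub.idealMod I)) (M : X.Modules) (hM : PicF.IsInvertible M)
    (q : X) (hq : f q ∈ Set.range I.subschemeι)
    (ψ : Coh.structureModule X ⟶
      CohB1.tensorMod ((Scheme.Modules.pullback f).obj (ClSub.idealMod I)) M) :
    q ∉ CohB1.genLocus M (ψ ≫ mulHom (pullIdealHom f I) M) := by
  haveI : (ClSub.idealMod I).IsQuasicoherent := isQuasicoherent_of_isInvertible _ hI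
  obtain ⟨W, ε, hQW, hW, hε⟩ := exists_affine_gen (ClSub.idealMod I) hI (f q)
  obtain ⟨W₂, μ₂, hqW₂, hμ₂⟩ := exists_gen M hM q
  obtain ⟨W', hW'⟩ : ∃ W' : X.Opens, W' = f ⁻¹ᵁ W ⊓ W₂ := ⟨_, rfl⟩
  have hle : W' ≤ f ⁻¹ᵁ W := hW' ▸ inf_le_left
  have hle₂ : W' ≤ W₂ := hW' ▸ inf_le_right
  have hqW' : q ∈ W' := hW' ▸ ⟨hQW, hqW₂⟩
  have hν0 := isGen_unitSec f (ClSub.idealMod I) hW ε hε
  have hν : IsGen ((Scheme.Modules.pullback f).obj (ClSub.idealMod I)) W'
      (unitSec f (ClSub.idealMod I) hle ε) := by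
    have h1 := hν0.mono hle
    have h2 : res ((Scheme.Modules.pullback f).obj (ClSub.idealMod I)) hle
        (unitSec f (ClSub.idealMod I) le_rfl ε) = unitSec f (ClSub.idealMod I) hle ε := by
      rw [res_unitSec f (ClSub.idealMod I) le_rfl hle le_rfl hle, res_self]
    rw [h2] at h1
    exact h1
  have hμ : IsGen M W' (res M hle₂ μ₂) := hμ₂.mono hle₂
  refine notMem_genLocus_comp_mulHom _ M (pullIdealHom f I) W' _ _ hν hμ q hqW' ?_ ψ
  have h3 : (pullIdealHom f I).app W' (unitSec f (ClSub.idealMod I) hle ε) =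
      toS W' (f.appLE W W' hle (ofS W ((ClSub.idealModι I).app W ε))) := by
    have h4 : (pullIdealHom f I).app W' (unitSec f (ClSub.idealMod I) hle ε) =
        (Groth.Agent.Lib.R2H3.PnChart.pullbackUnitHom f).app W'
          (((Scheme.Modules.pullback f).map (ClSub.idealModι I)).app W'
            (unitSec f (ClSub.idealMod I) hle ε)) := rfl
    rw [h4, map_unitSec]
    exact pullbackUnitHom_unitSec f hle _
  rw [h3]
  intro hmem
  have h5 : q ∈ X.basicOpen (f.appLE W W' hle (ofS W ((ClSub.idealModι I).app W ε))) := hmem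
  rw [Scheme.basicOpen_appLE] at h5
  exact notMem_basicOpen_idealModι I W ε (f q) hq h5.2

/-- for flat `f` and integral `X` the map `f^* I ⊗ M ⟶ M` is a monomorphism -/
theorem mono_mulHom_pullIdeal [Flat f] [IsIntegral X] (I : Y.IdealSheafData)
    (hI : PicF.IsInvertible (ClSub.idealMod I)) (M : X.Modules) (hM : PicF.IsInvertible M) :
    Mono (mulHom (pullIdealHom f I) M) := by
  have hN : PicF.IsInvertible ((Scheme.Modules.pullback f).obj (ClSub.idealMod I)) :=
    isInvertible_pullback f _ hI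
  haveI : Mono (ClSub.idealModι I) := by
    unfold ClSub.idealModι
    exact equalizer.ι_mono
  haveI : Mono ((Scheme.Modules.pullback f).map (ClSub.idealModι I)) :=
    Groth.Agent.Lib.Helper26.FpqcMod.mono_pullback_of_flat f _
  haveI : Mono (pullIdealHom f I) := by unfold pullIdealHom; infer_instance
  refine Groth.Agent.Lib.R2H1.InvHom.mono_of_ne_zero (isInvertible_tensorMod hN hM) hM _ ?_
  intro h0
  obtain ⟨x⟩ : Nonempty X := inferInstance
  obtain ⟨W, ν, μ, hxW, hν, hμ⟩ := Groth.Agent.Lib.R2H1.CurveAmple.exists_gen₂ _ M hN hM x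
  have h1 : (mulHom (pullIdealHom f I) M).app W (tm _ M W ν μ) = 0 := by
    rw [h0]; rfl
  rw [mulHom_tm] at h1
  have h2 : ofS W ((pullIdealHom f I).app W ν) = 0 := by
    apply (hμ W le_rfl).1
    change ofS W ((pullIdealHom f I).app W ν) • res M le_rfl μ = (0 : Γ(X, W)) • res M le_rfl μ
    rw [res_self, h1, zero_smul]
  have h3 : (pullIdealHom f I).app W ν = (pullIdealHom f I).app W 0 := by
    rw [map_zero]; exact h2
  have h4 : ν = 0 := injective_app_of_mono (pullIdealHom f I) W h3
  haveI : Nonempty W := ⟨⟨x, hxW⟩⟩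
  have h5 : (1 : Γ(X, W)) = 0 := by
    apply (hν W le_rfl).1
    change (1 : Γ(X, W)) • res _ le_rfl ν = (0 : Γ(X, W)) • res _ le_rfl ν
    rw [res_self, h4, smul_zero, smul_zero]
  exact one_ne_zero h5

end Main

end Part1

section Part2

open Groth.Agent.Lib.R2H1.IsoP1B Groth.Agent.Lib.R2H1.IsoP1 Groth.Agent.Lib.R2H1.IsoP1C
  Groth.Agent.Lib.R2H1.IsoP1D
open Groth.Agent.Lib.R2H1.CurveEuler Groth.Agent.Lib.R2H1.CurveDegSec
  Groth.Agent.Lib.R2H1.EulerAdd Groth.Agent.Lib.R2H2.HHLin Groth.Agent.Lib.R2H2.PnLinRes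
  Groth.Agent.Lib.R2H1.GenusLe Groth.Agent.Lib.R2H1.RegPoint Groth.Agent.Lib.R2H1.DegCartier

variable (k : Type u) [Field k] (X : Scheme.{u}) [X.Over (Spec (CommRingCat.of k))]

/-- rational points of a smooth scheme over a separably closed field are dense -/
theorem exists_section_mem_open [IsSepClosed k] [Smooth (X ↘ Spec (CommRingCat.of k))]
    (U : X.Opens) (x : X) (hx : x ∈ U) :
    ∃ σ : Spec (CommRingCat.of k) ⟶ X, σ ≫ (X ↘ Spec (CommRingCat.of k)) = 𝟙 _ ∧
      σ (IsLocalRing.closedPoint k) ∈ U := by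
  haveI : Smooth (Over.mk (X ↘ Spec (CommRingCat.of k))).hom :=
    inferInstanceAs (Smooth (X ↘ Spec (CommRingCat.of k)))
  obtain ⟨pp, hpp⟩ := Groth.Agent.Lib.Helper11SepPts.exists_point_mem_open k k
    (X := Over.mk (X ↘ Spec (CommRingCat.of k))) U x hx
  have hw : pp.left ≫ (X ↘ Spec (CommRingCat.of k)) =
      Spec.map (CommRingCat.ofHom (algebraMap k k)) := Over.w pp
  have hid : Spec.map (CommRingCat.ofHom (algebraMap k k)) = 𝟙 (Spec (CommRingCat.of k)) := by
    rw [Algebra.algebraMap_self]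
    exact Spec.map_id _
  exact ⟨pp.left, by rw [hw, hid], hpp⟩

variable [IsIntegral X] [IsProper (X ↘ (Spec (CommRingCat.of k)))]

/-- facts about the ideal of a rational point on a smooth proper curve -/
theorem section_facts [Smooth (X ↘ Spec (CommRingCat.of k))] (hdim : topologicalKrullDim X = 1)
    (σ : Spec (CommRingCat.of k) ⟶ X) (hσ : σ ≫ (X ↘ Spec (CommRingCat.of k)) = 𝟙 _) :
    BlowUp.IsEffCartierIdeal σ.ker ∧
      Module.finrank k (Coh.HH X (ClSub.quotMod σ.ker) 0) = 1 ∧
      σ (IsLocalRing.closedPoint k) ∈ Set.range σ.ker.subschemeι ∧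
      IsClosed ({σ (IsLocalRing.closedPoint k)} : Set X) := by
  haveI := isNoetherian_of_proper k X
  haveI : IsClosedImmersion σ := by
    haveI : IsClosedImmersion (σ ≫ (X ↘ Spec (CommRingCat.of k))) := by rw [hσ]; infer_instance
    exact IsClosedImmersion.of_comp σ (X ↘ Spec (CommRingCat.of k))
  obtain ⟨pt, hpt⟩ : ∃ pt : Spec (CommRingCat.of k), pt = IsLocalRing.closedPoint k := ⟨_, rfl⟩
  rw [← hpt]
  have huniq : ∀ a : Spec (CommRingCat.of k), a = pt := fun a =>
    @Subsingleton.elim (PrimeSpectrum k) inferInstance a pt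
  have hrx : Set.range σ = {σ pt} := by
    ext z
    constructor
    · rintro ⟨a, rfl⟩
      rw [huniq a]; rfl
    · rintro rfl
      exact ⟨pt, rfl⟩
  have hpx : IsClosed ({σ pt} : Set X) := hrx ▸ σ.isClosedEmbedding.isClosed_range
  have hkx := ker_eq_vanishingIdeal σ (σ pt) hpx hrx
  haveI : IsRegularLocalRing (X.presheaf.stalk (σ pt)) :=
    Groth.Agent.Lib.Helper6.SmRegSch.isRegularLocalRing_stalk_of_smooth_over_field k X
      (X ↘ Spec (CommRingCat.of k)) _
  haveI : IsDiscreteValuationRing (X.presheaf.stalk (σ pt)) :=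
    Groth.Agent.Lib.R2LeadSmoothPSB.isDVR_of_regular_dim_one _
      (Groth.Agent.Lib.Helper8CurveEt.ringKrullDim_stalk_eq_one hdim (σ pt) hpx)
  refine ⟨?_, h0_quotMod_section k X σ hσ, ?_, hpx⟩
  · rw [hkx]
    exact isEffCartier_vanishingIdeal_singleton X (σ pt) hpx
  · rw [Scheme.IdealSheafData.range_subschemeι, hkx,
      Scheme.IdealSheafData.coe_support_vanishingIdeal]
    exact Set.mem_singleton _

/-- a proper integral curve with a rational point has only constant global functions -/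
theorem h0_structure_eq_one_of_section (hdim : topologicalKrullDim X = 1)
    (σ : Spec (CommRingCat.of k) ⟶ X) (hσ : σ ≫ (X ↘ Spec (CommRingCat.of k)) = 𝟙 _) :
    Module.finrank k (Coh.HH X (Coh.structureModule X) 0) = 1 := by
  have h1 := h0_quotMod_section k X σ hσ
  have h2 := h0_structure_le k X hdim σ.ker (by rw [h1]; exact Nat.one_pos)
  rw [h1] at h2
  have h3 := Groth.Agent.Lib.R2H1.SubDegBound.h0_structure_pos k X
  omega

open Groth.Agent.Lib.H9SteinH0 Groth.Agent.Lib.H9SteinConn Groth.Agent.Lib.H9NormFin in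
/-- a proper integral curve with a rational point is geometrically connected -/
theorem geometricallyConnected_of_section (hdim : topologicalKrullDim X = 1)
    (σ : Spec (CommRingCat.of k) ⟶ X) (hσ : σ ≫ (X ↘ Spec (CommRingCat.of k)) = 𝟙 _) :
    GeometricallyConnected (X ↘ Spec (CommRingCat.of k)) := by
  apply Groth.Agent.Lib.H9SteinSm.geometricallyConnected_of_finrank_eq_one k
  letI := algΓ k (X ↘ Spec (CommRingCat.of k))
  rw [← (hh0LinearEquiv k X).finrank_eq]
  exact h0_structure_eq_one_of_section k X hdim σ hσ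

/-- the degree of the ideal of a degree one effective Cartier divisor, and of its inverse -/
theorem deg_idealMod (hdim : topologicalKrullDim X = 1) (D : X.IdealSheafData)
    (hD : BlowUp.IsEffCartierIdeal D)
    (hQ1 : Module.finrank k (Coh.HH X (ClSub.quotMod D) 0) = 1) :
    Curv2.deg k X (ClSub.idealMod D) 1 = -1 ∧
      ∃ A : X.Modules, PicF.IsInvertible A ∧ Curv2.deg k X A 1 = 1 := by
  haveI := isNoetherian_of_proper k X
  have hI : PicF.IsInvertible (ClSub.idealMod D) :=
    Groth.Agent.Helper18Cart.isInvertible_of_isEffCartier D hD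
  obtain ⟨L, hL, ⟨e⟩⟩ := Groth.Agent.Lib.R2H1.InvExists.exists_inverse _ hI
  have eI : CohB1.tensorMod L (ClSub.idealMod D) ≅ Coh.structureModule X :=
    (Groth.Agent.Lib.R2H1.PicLaw.commI L (ClSub.idealMod D)) ≪≫ e
  have hO1 : FlatMod.IsFinLocFreeOfRank 1 (Coh.structureModule X) :=
    Groth.Agent.Lib.Helper23.SecTw.isFinLocFreeOfRank_one_of_isInvertible _
      (Groth.Agent.Lib.Helper23.TensorUnit.isInvertible_structureModule X)
  have hL1 := Groth.Agent.Lib.Helper23.SecTw.isFinLocFreeOfRank_one_of_isInvertible L hL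
  have hI1 := Groth.Agent.Lib.Helper23.SecTw.isFinLocFreeOfRank_one_of_isInvertible _ hI
  have h1 := (s1604 k X hdim.le D hD L hL ⟨eI⟩ 1 (Coh.structureModule X) hO1).2
  have h2 := Groth.Agent.Lib.R2H1.DegTensor.s7637 k X hdim.le 1 1 L (ClSub.idealMod D) hL1 hI1
  have h3 := Groth.Agent.Lib.R2H1.DegTensor.s7637 k X hdim.le 1 1 (Coh.structureModule X) L hO1 hL1
  have h0 : Curv2.deg k X (Coh.structureModule X) 1 = 0 := by
    unfold Curv2.deg; push_cast; ring
  have h4 : Curv2.deg k X (CohB1.tensorMod L (ClSub.idealMod D)) (1 * 1) = 0 := by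
    unfold Curv2.deg
    rw [euler_congr k eI]; push_cast; ring
  rw [hQ1] at h1
  rw [h4] at h2
  rw [h0] at h3 h1
  push_cast at h1 h2 h3
  have hdL : Curv2.deg k X L 1 = 1 := by
    have : Curv2.deg k X (CohB1.tensorMod (Coh.structureModule X) L) (1 * 1) =
      Curv2.deg k X (CohB1.tensorMod (Coh.structureModule X) L) 1 := rfl
    linarith
  exact ⟨by linarith, L, hL, hdL⟩

end Part2

section Part3

variable (k : Type u) [Field k] (X : Scheme.{u}) [X.Over (Spec (CommRingCat.of k))]
  (K : Type u) [Field K] [Algebra k K] (XK : Scheme.{u}) [XK.Over (Spec (CommRingCat.of K))]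
  (g : XK ⟶ X)
  (hpb : IsPullback g (XK ↘ Spec (CommRingCat.of K)) (X ↘ Spec (CommRingCat.of k))
    (Spec.map (CommRingCat.ofHom (algebraMap k K))))

include hpb in
theorem flat_surjective_fst : Flat g ∧ Surjective g := by
  have hsurj0 : Surjective (Spec.map (CommRingCat.ofHom (algebraMap k K))) := by
    constructor
    intro a
    exact ⟨IsLocalRing.closedPoint K, @Subsingleton.elim (PrimeSpectrum k) inferInstance _ _⟩
  have hflat0 : Flat (Spec.map (CommRingCat.ofHom (algebraMap k K))) := by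
    rw [HasRingHomProperty.Spec_iff (P := @Flat)]
    exact RingHom.flat_algebraMap_iff.mpr inferInstance
  exact ⟨MorphismProperty.of_isPullback (P := @Flat) hpb.flip hflat0,
    MorphismProperty.of_isPullback (P := @Surjective) hpb.flip hsurj0⟩

include hpb in
theorem bc_facts [IsProper (X ↘ Spec (CommRingCat.of k))] [Smooth (X ↘ Spec (CommRingCat.of k))]
    [IsIntegral X] [GeometricallyConnected (X ↘ Spec (CommRingCat.of k))]
    (hdim : topologicalKrullDim X = 1) :
    IsProper (XK ↘ Spec (CommRingCat.of K)) ∧ Smooth (XK ↘ Spec (CommRingCat.of K)) ∧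
      IsIntegral XK ∧ topologicalKrullDim XK = 1 := by
  have h1 : IsProper (XK ↘ Spec (CommRingCat.of K)) :=
    MorphismProperty.of_isPullback (P := @IsProper) hpb inferInstance
  have h2 : Smooth (XK ↘ Spec (CommRingCat.of K)) :=
    MorphismProperty.of_isPullback (P := @Smooth) hpb inferInstance
  have h3 : GeometricallyConnected (XK ↘ Spec (CommRingCat.of K)) :=
    MorphismProperty.of_isPullback (P := @GeometricallyConnected) hpb inferInstance
  haveI := h1
  haveI := h2
  haveI := h3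
  have h4 : IsIntegral XK := Groth.Agent.Lib.R2H1.VBSub.isIntegral_of_smooth_geomConn K XK
  refine ⟨h1, h2, h4, ?_⟩
  haveI := h4
  let e : XK ≅ Curv2.bc k X K := hpb.isoPullback
  haveI : IrreducibleSpace (Curv2.bc k X K) :=
    e.hom.homeomorph.symm.isOpenEmbedding.irreducibleSpace
  have hd := Groth.Agent.Lib.R2H1.IsoP1G.dim_bc_eq k X K
  rw [← hdim, ← hd]
  exact IsHomeomorph.topologicalKrullDim_eq _ e.hom.homeomorph.isHomeomorph

include hpb in
/-- the Euler characteristic is invariant under base field extension -/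
theorem euler_pullback [IsProper (X ↘ Spec (CommRingCat.of k))] (E : X.Modules)
    (hE : Coh.IsCoh E) :
    Curv2.euler K XK ((Scheme.Modules.pullback g).obj E) = Curv2.euler k X E :=
  Groth.Agent.Lib.R2H4BCGlue.euler_eq g E
    (fun i => Groth.Agent.Lib.R2H4FieldBC.fieldBC k K X XK g hpb E hE i)

include hpb in
/-- the degree is invariant under base field extension -/
theorem deg_pullback [IsProper (X ↘ Spec (CommRingCat.of k))] (E : X.Modules)
    (hE : PicF.IsInvertible E) :
    Curv2.deg K XK ((Scheme.Modules.pullback g).obj E) 1 = Curv2.deg k X E 1 := by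
  unfold Curv2.deg
  rw [euler_pullback k X K XK g hpb E (Groth.Agent.Lib.R2H1.CurveDegSec.isCoh_of_isInvertible E hE),
    Groth.Agent.Lib.R2H4BCGlue.euler_structure_eq g
      (fun i => Groth.Agent.Lib.R2H4FieldBC.fieldBC k K X XK g hpb _
        (Groth.Agent.Lib.R2H4BCGlue.isCoh_structureModule X) i)]

end Part3

section Part4

open Groth.Agent.Lib.R2H1.CurveEuler Groth.Agent.Lib.R2H1.CurveDegSec
  Groth.Agent.Lib.R2H1.EulerAdd Groth.Agent.Lib.R2H2.HHLin Groth.Agent.Lib.R2H2.PnLinRes
  Groth.Agent.Lib.R2H1.DegCartier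

variable (k : Type u) [Field k] (X : Scheme.{u}) [X.Over (Spec (CommRingCat.of k))]
  [IsIntegral X] [IsProper (X ↘ (Spec (CommRingCat.of k)))]

/-- the abstract twist-down step: twisting by a degree `-1` invertible module `N` through a
monomorphism `N ⊗ M ⟶ M` whose image misses a section drops `h⁰` by one and keeps `h¹ = 0` -/
theorem twist_down (hdim : topologicalKrullDim X = 1) (N M : X.Modules)
    (hN : PicF.IsInvertible N) (hM : PicF.IsInvertible M)
    (hdeg : Curv2.deg k X N 1 = -1)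
    (φ : CohB1.tensorMod N M ⟶ M) [Mono φ] (s : Coh.structureModule X ⟶ M)
    (hs : ∀ ψ : Coh.structureModule X ⟶ CohB1.tensorMod N M, ψ ≫ φ ≠ s)
    (h1 : Subsingleton (Coh.HH X M 1)) :
    Module.finrank k (Coh.HH X (CohB1.tensorMod N M) 0) + 1 = Module.finrank k (Coh.HH X M 0) ∧
      Subsingleton (Coh.HH X (CohB1.tensorMod N M) 1) := by
  haveI := isNoetherian_of_proper k X
  have hNM : PicF.IsInvertible (CohB1.tensorMod N M) :=
    Groth.Agent.Lib.Helper23.SecTw.isInvertible_tensorMod hN hM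
  have cM := isCoh_of_isInvertible M hM
  have cNM := isCoh_of_isInvertible _ hNM
  have hN1 := Groth.Agent.Lib.Helper23.SecTw.isFinLocFreeOfRank_one_of_isInvertible N hN
  have hM1 := Groth.Agent.Lib.Helper23.SecTw.isFinLocFreeOfRank_one_of_isInvertible M hM
  haveI := finite_HH k X _ cM 0
  haveI := finite_HH k X _ cNM 0
  haveI := finite_HH k X _ cM 1
  haveI := finite_HH k X _ cNM 1
  -- Euler characteristics
  have hd := Groth.Agent.Lib.R2H1.DegTensor.s7637 k X hdim.le 1 1 N M hN1 hM1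
  have hχ : Curv2.euler k X (CohB1.tensorMod N M) = Curv2.euler k X M - 1 := by
    have h11 : Curv2.deg k X (CohB1.tensorMod N M) (1 * 1) =
        Curv2.deg k X (CohB1.tensorMod N M) 1 := rfl
    rw [h11, hdeg] at hd
    push_cast at hd
    unfold Curv2.deg at hd
    linarith
  have e1 := euler_eq_h0_sub_h1 k X hdim.le M cM.1
  have e2 := euler_eq_h0_sub_h1 k X hdim.le _ cNM.1
  have hM1' : Module.finrank k (Coh.HH X M 1) = 0 := Module.finrank_zero_of_subsingleton
  -- injectivity and non-surjectivity on H⁰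
  have hS : (ShortComplex.mk φ (cokernel.π φ) (cokernel.condition φ)).ShortExact :=
    { exact := ShortComplex.exact_cokernel φ
      mono_f := inferInstanceAs (Mono φ)
      epi_g := inferInstanceAs (Epi (cokernel.π φ)) }
  have hinj : Function.Injective (HmapA k φ 0) :=
    injective_f_zero k (ShortComplex.mk φ (cokernel.π φ) (cokernel.condition φ)) hS
  have hnot : cls s ∉ LinearMap.range (HmapA k φ 0) := by
    rintro ⟨y, hy⟩
    obtain ⟨ψ, rfl⟩ := cls_surjective _ y
    have h2 : HmapL φ 0 (cls ψ) = cls s := hy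
    rw [cls_comp] at h2
    exact hs ψ (Groth.Agent.Lib.R2H2.EWFlat.cls_injective' _ _ h2)
  have hlt : Module.finrank k (Coh.HH X (CohB1.tensorMod N M) 0) <
      Module.finrank k (Coh.HH X M 0) := by
    have hr := LinearMap.finrank_range_of_inj hinj
    have hlt' : Module.finrank k (LinearMap.range (HmapA k φ 0)) <
        Module.finrank k (Coh.HH X M 0) := by
      apply Submodule.finrank_lt
      intro htop
      exact hnot (htop ▸ Submodule.mem_top)
    exact hr ▸ hlt'
  rw [hχ, e1, hM1'] at e2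
  push_cast at e2
  have h3 : Module.finrank k (Coh.HH X (CohB1.tensorMod N M) 1) = 0 := by omega
  refine ⟨by omega, ?_⟩
  exact Module.finrank_zero_iff.mp h3

end Part4

section Part5

open Groth.Agent.Lib.R2H1.CurveEuler Groth.Agent.Lib.R2H1.CurveDegSec
  Groth.Agent.Lib.R2H1.EulerAdd Groth.Agent.Lib.R2H2.HHLin Groth.Agent.Lib.R2H2.PnLinRes
  Groth.Agent.Lib.R2H1.DegCartier

variable (k : Type u) [Field k] (X : Scheme.{u}) [X.Over (Spec (CommRingCat.of k))]
  [IsIntegral X] [IsProper (X ↘ (Spec (CommRingCat.of k)))]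

/-- `deg (A^n) = n deg A` -/
theorem deg_tensorPow (hdim : topologicalKrullDim X = 1)
    (A : X.Modules) (hA : PicF.IsInvertible A) :
    ∀ n : ℕ, Curv2.deg k X (CohB1.tensorPow A n) 1 = n * Curv2.deg k X A 1 := by
  intro n
  induction n with
  | zero =>
    have e : CohB1.tensorPow A 0 = Coh.structureModule X := rfl
    rw [e]
    unfold Curv2.deg
    simp
  | succ n ih =>
    have hP := Groth.Agent.Lib.Helper23.SecTw.isInvertible_tensorPow hA n
    have hP1 := Groth.Agent.Lib.Helper23.SecTw.isFinLocFreeOfRank_one_of_isInvertible _ hP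
    have hA1 := Groth.Agent.Lib.Helper23.SecTw.isFinLocFreeOfRank_one_of_isInvertible _ hA
    have e : CohB1.tensorPow A (n + 1) = CohB1.tensorMod (CohB1.tensorPow A n) A := rfl
    have h := Groth.Agent.Lib.R2H1.DegTensor.s7637 k X hdim.le 1 1 (CohB1.tensorPow A n) A hP1 hA1
    have h11 : Curv2.deg k X (CohB1.tensorMod (CohB1.tensorPow A n) A) (1 * 1) =
        Curv2.deg k X (CohB1.tensorMod (CohB1.tensorPow A n) A) 1 := rfl
    rw [e, ← h11, h, ih]
    push_cast
    ring

/-- the twist-up step: a high power of a positive degree invertible module kills `H¹` and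
produces sections -/
theorem twist_up (hdim : topologicalKrullDim X = 1) (L A : X.Modules)
    (hL : PicF.IsInvertible L) (hA : PicF.IsInvertible A) (hdeg : 0 < Curv2.deg k X A 1) :
    ∃ n : ℕ, Subsingleton (Coh.HH X (CohB1.tensorMod L (CohB1.tensorPow A n)) 1) ∧
      0 < Module.finrank k (Coh.HH X (CohB1.tensorMod L (CohB1.tensorPow A n)) 0) := by
  haveI := isNoetherian_of_proper k X
  have hample : CohB1.IsAmple A :=
    (Groth.Agent.Lib.R2H1.CurveAmple.s1530 k X hdim A hA).2 hdeg
  have cL := isCoh_of_isInvertible L hL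
  obtain ⟨n₀, hn₀⟩ := Groth.Agent.Lib.R2H3.AmpleSV.serre_vanishing_ample k
    (X ↘ Spec (CommRingCat.of k)) A hample L cL
  obtain ⟨n, hn⟩ : ∃ n : ℕ, n = max n₀
      (1 - Curv2.deg k X L 1 - Curv2.euler k X (Coh.structureModule X)).toNat := ⟨_, rfl⟩
  have hn1 : n₀ ≤ n := hn ▸ le_max_left _ _
  have hn2 : 1 - Curv2.deg k X L 1 - Curv2.euler k X (Coh.structureModule X) ≤ (n : ℤ) := by
    have h1 : (1 - Curv2.deg k X L 1 - Curv2.euler k X (Coh.structureModule X)).toNat ≤ n :=
      hn ▸ le_max_right _ _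
    have h2 := Int.self_le_toNat (1 - Curv2.deg k X L 1 - Curv2.euler k X (Coh.structureModule X))
    exact h2.trans (by exact_mod_cast h1)
  have hvan := hn₀ n hn1 1 Nat.one_pos
  refine ⟨n, hvan, ?_⟩
  have hP := Groth.Agent.Lib.Helper23.SecTw.isInvertible_tensorPow hA n
  have hLP := Groth.Agent.Lib.Helper23.SecTw.isInvertible_tensorMod hL hP
  have cLP := isCoh_of_isInvertible _ hLP
  have hL1 := Groth.Agent.Lib.Helper23.SecTw.isFinLocFreeOfRank_one_of_isInvertible _ hL
  have hP1 := Groth.Agent.Lib.Helper23.SecTw.isFinLocFreeOfRank_one_of_isInvertible _ hP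
  have h := Groth.Agent.Lib.R2H1.DegTensor.s7637 k X hdim.le 1 1 L (CohB1.tensorPow A n) hL1 hP1
  have h11 : Curv2.deg k X (CohB1.tensorMod L (CohB1.tensorPow A n)) (1 * 1) =
      Curv2.deg k X (CohB1.tensorMod L (CohB1.tensorPow A n)) 1 := rfl
  rw [h11, deg_tensorPow k X hdim A hA n] at h
  push_cast at h
  have e1 := euler_eq_h0_sub_h1 k X hdim.le _ cLP.1
  haveI := hvan
  have h1' : Module.finrank k (Coh.HH X (CohB1.tensorMod L (CohB1.tensorPow A n)) 1) = 0 :=
    Module.finrank_zero_of_subsingleton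
  rw [h1'] at e1
  push_cast at e1
  have hdegLP : Curv2.deg k X (CohB1.tensorMod L (CohB1.tensorPow A n)) 1 =
      Curv2.euler k X (CohB1.tensorMod L (CohB1.tensorPow A n)) -
        Curv2.euler k X (Coh.structureModule X) := by
    unfold Curv2.deg; push_cast; ring
  have hnA : (n : ℤ) ≤ n * Curv2.deg k X A 1 := by nlinarith
  have : (0 : ℤ) < (Module.finrank k (Coh.HH X (CohB1.tensorMod L (CohB1.tensorPow A n)) 0) : ℤ) := by
    linarith
  exact_mod_cast this

end Part5

section Part6

open Groth.Agent.Lib.R2H1.CurveEuler Groth.Agent.Lib.R2H1.CurveDegSec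
  Groth.Agent.Lib.R2H1.ZeroDimCoh

/-- the generic point of an irreducible space of dimension one is not closed -/
theorem not_isClosed_genericPoint {T : Type*} [TopologicalSpace T] [QuasiSober T]
    [IrreducibleSpace T] (hdim : topologicalKrullDim T = 1) :
    ¬ IsClosed ({genericPoint T} : Set T) := by
  intro hcl
  have h1 : closure ({genericPoint T} : Set T) = Set.univ := (genericPoint_spec T).def
  rw [hcl.closure_eq] at h1
  haveI : Subsingleton T := ⟨fun a b => by
    have ha : a ∈ ({genericPoint T} : Set T) := h1 ▸ Set.mem_univ a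
    have hb : b ∈ ({genericPoint T} : Set T) := h1 ▸ Set.mem_univ b
    rw [Set.mem_singleton_iff] at ha hb
    rw [ha, hb]⟩
  have h2 := Groth.Agent.Lib.R2H1.H0One.topologicalKrullDim_le_zero_of_subsingleton T
  rw [hdim] at h2
  exact absurd h2 (by decide)

variable (k : Type u) [Field k] [IsSepClosed k] (X : Scheme.{u})
  [X.Over (Spec (CommRingCat.of k))] [IsIntegral X] [IsProper (X ↘ (Spec (CommRingCat.of k)))]
  [Smooth (X ↘ Spec (CommRingCat.of k))]

/-- a rational point of `X` all of whose preimages lie in a given nonempty open of a curve `C` -/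
theorem exists_section_fibre_subset (hdim : topologicalKrullDim X = 1)
    {C : Scheme.{u}} [IsIntegral C] [IsNoetherian C] (hdimC : topologicalKrullDim C = 1)
    (g : C ⟶ X) (W : C.Opens) (hW : (W : Set C).Nonempty) :
    ∃ σ : Spec (CommRingCat.of k) ⟶ X, σ ≫ (X ↘ Spec (CommRingCat.of k)) = 𝟙 _ ∧
      ∀ q : C, g q = σ (IsLocalRing.closedPoint k) → q ∈ W := by
  haveI := isNoetherian_of_proper k X
  obtain ⟨Z, hZdef⟩ : ∃ Z : Set C, Z = (W : Set C)ᶜ := ⟨_, rfl⟩
  have hZcl : IsClosed Z := hZdef ▸ W.isOpen.isClosed_compl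
  have hZne : Z ≠ Set.univ := by
    intro h
    obtain ⟨w, hw⟩ := hW
    have : w ∈ Z := h ▸ Set.mem_univ w
    rw [hZdef] at this
    exact this hw
  have hZdim : topologicalKrullDim Z ≤ 0 := dim_le_zero_of_ne_univ hdimC.le Z hZcl hZne
  haveI : Finite Z := finite_of_dim_le_zero hZdim
  have hZfin : Z.Finite := Set.toFinite Z
  obtain ⟨T, hTdef⟩ : ∃ T : Set X, T = (g '' Z) \ {genericPoint X} := ⟨_, rfl⟩
  have hTfin : T.Finite := hTdef ▸ (hZfin.image _).subset Set.sdiff_subset
  have hTcl : IsClosed T := by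
    have h1 : T = ⋃ t ∈ T, ({t} : Set X) := by
      ext y; simp
    rw [h1]
    refine hTfin.isClosed_biUnion fun t ht => ?_
    refine Groth.Agent.Lib.R2H1.CurveDeg.isClosed_of_ne_generic k X hdim t ?_
    rw [hTdef] at ht
    exact ht.2
  have hη : genericPoint X ∈ (⟨Tᶜ, hTcl.isOpen_compl⟩ : X.Opens) := by
    intro h
    rw [hTdef] at h
    exact h.2 rfl
  obtain ⟨σ, hσ, hσU⟩ := exists_section_mem_open k X
    ⟨Tᶜ, hTcl.isOpen_compl⟩ (genericPoint X) hη
  refine ⟨σ, hσ, fun q hq => ?_⟩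
  by_contra hqW
  have hqZ : q ∈ Z := by rw [hZdef]; exact hqW
  have hcl := (section_facts k X hdim σ hσ).2.2.2
  have hne : σ (IsLocalRing.closedPoint k) ≠ genericPoint X := by
    intro h
    rw [h] at hcl
    exact not_isClosed_genericPoint hdim hcl
  apply hσU
  rw [hTdef]
  exact ⟨⟨q, hqZ, hq⟩, hne⟩

end Part6

section Part7

open Groth.Agent.Lib.R2H1.CurveEuler Groth.Agent.Lib.R2H1.CurveDegSec
  Groth.Agent.Lib.R2H1.EulerAdd Groth.Agent.Lib.R2H2.HHLin Groth.Agent.Lib.R2H2.PnLinRes

open Groth.Agent.Lib.Helper23.PB Groth.Agent.Lib.Helper23.SecTw Groth.Agent.Lib.Helper23.AmpleIso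
  Groth.Agent.Lib.Helper23.TensorMap

variable (k : Type u) [Field k] [IsSepClosed k] (X : Scheme.{u})
  [X.Over (Spec (CommRingCat.of k))]
  (K : Type u) [Field K] [Algebra k K] (XK : Scheme.{u}) [XK.Over (Spec (CommRingCat.of K))]
  (g : XK ⟶ X)
  (hpb : IsPullback g (XK ↘ Spec (CommRingCat.of K)) (X ↘ Spec (CommRingCat.of k))
    (Spec.map (CommRingCat.ofHom (algebraMap k K))))

include hpb in
/-- the twist-down step on the base change -/
theorem step [IsProper (X ↘ Spec (CommRingCat.of k))] [Smooth (X ↘ Spec (CommRingCat.of k))]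
    [IsIntegral X] [GeometricallyConnected (X ↘ Spec (CommRingCat.of k))]
    (hdim : topologicalKrullDim X = 1) (L : XK.Modules) (hL : PicF.IsInvertible L)
    (L₀ : X.Modules) (hL₀ : PicF.IsInvertible L₀)
    (h1 : Subsingleton (Coh.HH XK (CohB1.tensorMod L ((Scheme.Modules.pullback g).obj L₀)) 1))
    (h0 : 0 < Module.finrank K
      (Coh.HH XK (CohB1.tensorMod L ((Scheme.Modules.pullback g).obj L₀)) 0)) :
    ∃ L₁ : X.Modules, PicF.IsInvertible L₁ ∧
      Subsingleton (Coh.HH XK (CohB1.tensorMod L ((Scheme.Modules.pullback g).obj L₁)) 1) ∧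
      Module.finrank K (Coh.HH XK (CohB1.tensorMod L ((Scheme.Modules.pullback g).obj L₁)) 0) + 1 =
        Module.finrank K (Coh.HH XK (CohB1.tensorMod L ((Scheme.Modules.pullback g).obj L₀)) 0) := by
  obtain ⟨hpropK, hsmK, hintK, hdimK⟩ := bc_facts k X K XK g hpb hdim
  haveI := hpropK
  haveI := hsmK
  haveI := hintK
  obtain ⟨hflat, hsurj⟩ := flat_surjective_fst k X K XK g hpb
  haveI := hflat
  haveI := isNoetherian_of_proper K XK
  haveI := isNoetherian_of_proper k X
  obtain ⟨M, hMdef⟩ : ∃ M : XK.Modules,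
      M = CohB1.tensorMod L ((Scheme.Modules.pullback g).obj L₀) := ⟨_, rfl⟩
  rw [← hMdef] at h1 h0 ⊢
  have hgL₀ : PicF.IsInvertible ((Scheme.Modules.pullback g).obj L₀) := isInvertible_pullback g L₀ hL₀
  have hM : PicF.IsInvertible M := hMdef ▸ isInvertible_tensorMod hL hgL₀
  have cM := isCoh_of_isInvertible M hM
  haveI := finite_HH K XK _ cM 0
  -- a nonzero section
  obtain ⟨x, hx⟩ := Module.finrank_pos_iff_exists_ne_zero.mp h0
  obtain ⟨s, hsx⟩ := cls_surjective M x
  have hs : s ≠ 0 := by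
    intro h
    apply hx
    rw [← hsx, h]
    exact Groth.Agent.Lib.R2H2.EWFlat.cls_zero'
  have hne : ((CohB1.genLocus M s : XK.Opens) : Set XK).Nonempty := by
    by_contra hne
    apply hs
    apply Groth.Agent.Lib.R2H1.DegNonpos.eq_zero_of_genLocus_eq_bot M hM s
    ext y
    simp only [Opens.coe_bot, Set.mem_empty_iff_false, iff_false]
    exact fun hy => hne ⟨y, hy⟩
  -- the rational point
  obtain ⟨σ, hσ, hσq⟩ := exists_section_fibre_subset k X hdim hdimK g (CohB1.genLocus M s) hne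
  obtain ⟨hD, hQ1, hQr, -⟩ := section_facts k X hdim σ hσ
  obtain ⟨hdegI, -⟩ := deg_idealMod k X hdim σ.ker hD hQ1
  have hI : PicF.IsInvertible (ClSub.idealMod σ.ker) :=
    Groth.Agent.Helper18Cart.isInvertible_of_isEffCartier σ.ker hD
  obtain ⟨q, hq⟩ := hsurj.surj (σ (IsLocalRing.closedPoint k))
  have hN : PicF.IsInvertible ((Scheme.Modules.pullback g).obj (ClSub.idealMod σ.ker)) :=
    isInvertible_pullback g _ hI
  have hdegN : Curv2.deg K XK ((Scheme.Modules.pullback g).obj (ClSub.idealMod σ.ker)) 1 = -1 := by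
    rw [deg_pullback k X K XK g hpb _ hI]
    exact hdegI
  obtain ⟨φ, hφdef⟩ : ∃ φ : CohB1.tensorMod
      ((Scheme.Modules.pullback g).obj (ClSub.idealMod σ.ker)) M ⟶ M,
      φ = mulHom (pullIdealHom g σ.ker) M := ⟨_, rfl⟩
  haveI : Mono φ := by
    rw [hφdef]
    exact mono_mulHom_pullIdeal g σ.ker hI M hM
  have hsφ : ∀ ψ : Coh.structureModule XK ⟶ CohB1.tensorMod _ M, ψ ≫ φ ≠ s := by
    intro ψ hψ
    have h2 := notMem_genLocus_of_pullIdeal g σ.ker hI M hM q (by rw [hq]; exact hQr) ψ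
    rw [← hφdef, hψ] at h2
    exact h2 (hσq q hq)
  obtain ⟨htd0, htd1⟩ := twist_down K XK hdimK _ M hN hM hdegN φ s hsφ h1
  -- the new module
  refine ⟨CohB1.tensorMod L₀ (ClSub.idealMod σ.ker), isInvertible_tensorMod hL₀ hI, ?_, ?_⟩
  all_goals
    obtain ⟨e1⟩ := nonempty_pullback_tensorMod_iso g L₀ (ClSub.idealMod σ.ker) hL₀ hI
    have e : CohB1.tensorMod L ((Scheme.Modules.pullback g).obj
        (CohB1.tensorMod L₀ (ClSub.idealMod σ.ker))) ≅
        CohB1.tensorMod ((Scheme.Modules.pullback g).obj (ClSub.idealMod σ.ker)) M :=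
      tensorModIso (Iso.refl L) e1 ≪≫
        (Groth.Agent.Lib.R2H1.PicLaw.assocI L _ _).symm ≪≫
        (hMdef ▸ Groth.Agent.Lib.R2H1.PicLaw.commI M _)
  · exact Groth.Agent.Lib.R2H2.PnSerre.subsingleton_HH_of_iso e.symm 1 htd1
  · rw [Groth.Agent.Lib.R2H2.ClosedPnLin.finrank_HH_of_iso K e 0]
    exact htd0

include hpb in
/-- iterating the twist-down step -/
theorem descend [IsProper (X ↘ Spec (CommRingCat.of k))] [Smooth (X ↘ Spec (CommRingCat.of k))]
    [IsIntegral X] [GeometricallyConnected (X ↘ Spec (CommRingCat.of k))]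
    (hdim : topologicalKrullDim X = 1) (L : XK.Modules) (hL : PicF.IsInvertible L) :
    ∀ (m : ℕ) (L₀ : X.Modules), PicF.IsInvertible L₀ →
      Subsingleton (Coh.HH XK (CohB1.tensorMod L ((Scheme.Modules.pullback g).obj L₀)) 1) →
      Module.finrank K (Coh.HH XK (CohB1.tensorMod L ((Scheme.Modules.pullback g).obj L₀)) 0) =
        m + 1 →
      ∃ L₁ : X.Modules, PicF.IsInvertible L₁ ∧
        Module.finrank K
          (Coh.HH XK (CohB1.tensorMod L ((Scheme.Modules.pullback g).obj L₁)) 0) = 1 ∧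
        Subsingleton (Coh.HH XK (CohB1.tensorMod L ((Scheme.Modules.pullback g).obj L₁)) 1) := by
  intro m
  induction m with
  | zero =>
    intro L₀ hL₀ h1 h0
    exact ⟨L₀, hL₀, h0, h1⟩
  | succ m ih =>
    intro L₀ hL₀ h1 h0
    obtain ⟨L₁, hL₁, h1', h0'⟩ := step k X K XK g hpb hdim L hL L₀ hL₀ h1 (by omega)
    exact ih L₁ hL₁ h1' (by omega)

include hpb in
/-- S6487 -/
theorem s6487 (hX : Curve.IsSmoothProperCurve k X (X ↘ Spec (CommRingCat.of k)))
    (L : XK.Modules) (hL : PicF.IsInvertible L) :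
    ∃ L₀ : X.Modules, PicF.IsInvertible L₀ ∧
      Module.finrank K
        (Coh.HH XK (CohB1.tensorMod L ((Scheme.Modules.pullback g).obj L₀)) 0) = 1 ∧
      Subsingleton (Coh.HH XK (CohB1.tensorMod L ((Scheme.Modules.pullback g).obj L₀)) 1) := by
  obtain ⟨hprop, hsm, hint, hdim⟩ := hX
  haveI := hprop
  haveI := hsm
  haveI := hint
  obtain ⟨x₀⟩ : Nonempty X := inferInstance
  obtain ⟨σ₀, hσ₀, -⟩ := exists_section_mem_open k X ⊤ x₀ trivial
  haveI := geometricallyConnected_of_section k X hdim σ₀ hσ₀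
  obtain ⟨hpropK, hsmK, hintK, hdimK⟩ := bc_facts k X K XK g hpb hdim
  haveI := hpropK
  haveI := hsmK
  haveI := hintK
  obtain ⟨hD, hQ1, -, -⟩ := section_facts k X hdim σ₀ hσ₀
  obtain ⟨-, A, hA, hdegA⟩ := deg_idealMod k X hdim σ₀.ker hD hQ1
  have hAK : PicF.IsInvertible ((Scheme.Modules.pullback g).obj A) := isInvertible_pullback g A hA
  have hdegAK : 0 < Curv2.deg K XK ((Scheme.Modules.pullback g).obj A) 1 := by
    rw [deg_pullback k X K XK g hpb A hA, hdegA]
    exact Int.one_pos
  obtain ⟨n, hn1, hn0⟩ := twist_up K XK hdimK L _ hL hAK hdegAK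
  obtain ⟨e⟩ := nonempty_pullback_tensorPow_iso g A hA n
  have E : CohB1.tensorMod L ((Scheme.Modules.pullback g).obj (CohB1.tensorPow A n)) ≅
      CohB1.tensorMod L (CohB1.tensorPow ((Scheme.Modules.pullback g).obj A) n) :=
    tensorModIso (Iso.refl L) e
  have h1 : Subsingleton (Coh.HH XK
      (CohB1.tensorMod L ((Scheme.Modules.pullback g).obj (CohB1.tensorPow A n))) 1) :=
    Groth.Agent.Lib.R2H2.PnSerre.subsingleton_HH_of_iso E.symm 1 hn1
  have h0 : 0 < Module.finrank K (Coh.HH XK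
      (CohB1.tensorMod L ((Scheme.Modules.pullback g).obj (CohB1.tensorPow A n))) 0) := by
    rw [Groth.Agent.Lib.R2H2.ClosedPnLin.finrank_HH_of_iso K E 0]
    exact hn0
  obtain ⟨m, hm⟩ : ∃ m : ℕ, Module.finrank K (Coh.HH XK
      (CohB1.tensorMod L ((Scheme.Modules.pullback g).obj (CohB1.tensorPow A n))) 0) = m + 1 :=
    ⟨_, (Nat.succ_pred_eq_of_pos h0).symm⟩
  exact descend k X K XK g hpb hdim L hL m (CohB1.tensorPow A n)
    (isInvertible_tensorPow hA n) h1 hm

end Part7

end Groth.Agent.Lib.R2H1.TwistBC
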