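import Mathlib
import Groth.Prelude.Def_CohCmp
import Groth.Agent.Lib.R2H3PullUnit
import Groth.Agent.Lib.R2H2PullSecLE
import Groth.Agent.Lib.Helper23SectCmpLib
import Groth.Agent.Lib.Helper16ClosedEmb
set_option backward.isDefEq.respectTransparency.types false
set_option autoImplicit false
set_option linter.unusedSectionVars false
set_option linter.style.haveILetI false
universe u
open CategoryTheory AlgebraicGeometry TopologicalSpace Opposite
open AlgebraicGeometry.Scheme.Modules

noncomputable section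

namespace Groth.Agent.Lib.R2H2.BcSect

open Groth.Agent.Helper13PullbackUnit Groth.Agent.Lib.R2H3.PullUnit

section Tr

variable {S S' : Scheme.{u}} (g : S' ⟶ S) {N : S.Modules} {N' : S'.Modules}
  (φ : N ⟶ (pushforward g).obj N')

/-- the transpose of `φ : N ⟶ g_* N'` -/
abbrev tr : (pullback g).obj N ⟶ N' := ((pullbackPushforwardAdjunction g).homEquiv _ _).symm φ

/-- `φ` over `W` followed by the restriction to `W' ≤ g⁻¹W` -/
def φres {W : S.Opens} {W' : S'.Opens} (hle : W' ≤ g ⁻¹ᵁ W) : Γ(N, W) →+ Γ(N', W') :=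
  (N'.presheaf.map (homOfLE hle).op).hom.comp (φ.app W).hom

lemma φres_apply {W : S.Opens} {W' : S'.Opens} (hle : W' ≤ g ⁻¹ᵁ W) (n : Γ(N, W)) :
    φres g φ hle n = N'.presheaf.map (homOfLE hle).op (φ.app W n) := rfl

lemma tr_unitSec {W : S.Opens} {W' : S'.Opens} (hle : W' ≤ g ⁻¹ᵁ W) (n : Γ(N, W)) :
    (tr g φ).app W' (unitSec g N hle n) = φres g φ hle n := by
  rw [unitSec_apply, app_res, φres_apply]
  congr 1
  have := homEquiv_symm_app g φ W n
  rw [unitSec_le_rfl] at this
  exact this

/-- the transpose over `W'`, as a linear map -/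
def trLin (W' : S'.Opens) : Γ((pullback g).obj N, W') →ₗ[Γ(S', W')] Γ(N', W') where
  toFun x := (tr g φ).app W' x
  map_add' x y := map_add _ x y
  map_smul' r x := Scheme.Modules.Hom.app_smul (tr g φ) r x

variable [N.IsQuasicoherent]

/-- surjectivity of the transpose over an affine open, in terms of `φ` -/
theorem surjective_tr_app_iff {W : S.Opens} (hW : IsAffineOpen W) {W' : S'.Opens}
    (hW' : IsAffineOpen W') (hle : W' ≤ g ⁻¹ᵁ W) :
    Function.Surjective ((tr g φ).app W') ↔
      Submodule.span Γ(S', W') (Set.range (φres g φ hle)) = ⊤ := by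
  have h1 := Groth.Agent.Lib.R2H2.PullSecLE.span_range_unitSec g N hW hW' hle
  have h2 : Submodule.map (trLin g φ W') (Submodule.span Γ(S', W') (Set.range (unitSec g N hle))) =
      Submodule.span Γ(S', W') (Set.range (φres g φ hle)) := by
    rw [Submodule.map_span]
    congr 1
    ext y
    constructor
    · rintro ⟨_, ⟨n, rfl⟩, rfl⟩
      exact ⟨n, (tr_unitSec g φ hle n).symm⟩
    · rintro ⟨n, rfl⟩
      exact ⟨_, ⟨n, rfl⟩, tr_unitSec g φ hle n⟩
  rw [h1, Submodule.map_top] at h2
  rw [← h2, LinearMap.range_eq_top]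
  rfl

end Tr

section Point

variable {T : Scheme.{u}} [Subsingleton T]

/-- on a one point scheme, epimorphisms are the morphisms which are surjective on sections over a
nonempty open -/
theorem epi_iff_surjective_app {A B : T.Modules} (ψ : A ⟶ B) (O : T.Opens) (z : T) (hz : z ∈ O) :
    Epi ψ ↔ Function.Surjective (ψ.app O) := by
  have hO : ∀ O' : T.Opens, z ∈ O' → O' = O := fun O' hz' => by
    ext x
    rw [Subsingleton.elim x z]
    exact ⟨fun _ => hz, fun _ => hz'⟩
  constructor
  · intro hψ t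
    obtain ⟨W, hWO, hzW, s, hs⟩ :=
      Groth.Agent.Lib.Helper23.SectCmpLib.exists_local_lift ψ O t z hz
    obtain rfl := hO W hzW
    refine ⟨s, hs.trans ?_⟩
    have h0 : (homOfLE hWO).op = 𝟙 (op W) := rfl
    rw [h0, B.presheaf.map_id]
    rfl
  · intro hsurj
    let E : SheafOfModules.{u} T.ringCatSheaf ⥤ Sheaf (Opens.grothendieckTopology T) AddCommGrpCat.{u} :=
      SheafOfModules.toSheaf T.ringCatSheaf
    have hE : Epi (E.map ψ) := by
      rw [Groth.Agent.Lib.Helper16.ClosedEmb.locSurj_iff (Y := T.toTopCat)]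
      intro V t x hx
      obtain rfl := hO V (by rw [← (Subsingleton.elim (α := T) x z)]; exact hx)
      obtain ⟨s, hs⟩ := hsurj t
      refine ⟨V, le_rfl, ⟨s, hs.trans ?_⟩, hx⟩
      have h0 : (homOfLE (le_refl V)).op = 𝟙 (op V) := rfl
      rw [h0, (E.obj B).obj.map_id]
      rfl
    exact E.epi_of_epi_map hE

end Point

end Groth.Agent.Lib.R2H2.BcSect
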