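import Mathlib
import Groth.Prelude.Def_CohCmp
import Groth.Agent.Lib.R2H3PushEdge
import Groth.Agent.Lib.R2H2SheafBC
set_option backward.isDefEq.respectTransparency.types false
set_option autoImplicit false
set_option linter.unusedSectionVars false
set_option linter.style.haveILetI false
universe u
open CategoryTheory CategoryTheory.Limits AlgebraicGeometry TopologicalSpace Opposite Abelian

noncomputable section

namespace Groth.Agent.Lib.R2H2.PullCalc

open Groth.Agent.Lib.R2H3.PushEdge

section Top

variable {X Y : TopCat.{u}} (g : X ⟶ Y)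

lemma pullAb_apply (M : CohTop.Ab Y) (p : ℕ) (x : Sheaf.H M p) :
    CohPull.pullAb g M p x =
      (Ext.mk₀ (CohPull.oneTo g)).comp (x.mapExactFunctor (CohPull.inv g)) (zero_add p) := rfl

/-- the generic pullback map attached to `Θ : g⁻¹A ⟶ A'` -/
def pullΘ {A : CohTop.Ab Y} {A' : CohTop.Ab X} (Θ : (CohPull.inv g).obj A ⟶ A') (p : ℕ) :
    Sheaf.H A p →+ Sheaf.H A' p :=
  (Sheaf.H.map Θ p).comp (CohPull.pullAb g A p)

/-- `pullΘ` is the edge map after the transposed morphism -/
lemma pullΘ_eq_edge {A : CohTop.Ab Y} {A' : CohTop.Ab X} (Θ : (CohPull.inv g).obj A ⟶ A') (p : ℕ)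
    (x : Sheaf.H A p) :
    pullΘ g Θ p x =
      edgeAb g A' p (Sheaf.H.map ((CohPull.invPushAdj g).homEquiv _ _ Θ) p x) := by
  rw [edgeAb_apply, Sheaf.H.map_apply, Ext.mapExactFunctor_comp, Ext.mapExactFunctor_mk₀,
    Ext.comp_assoc_of_third_deg_zero, Ext.mk₀_comp_mk₀]
  have h : (CohPull.inv g).map ((CohPull.invPushAdj g).homEquiv _ _ Θ) ≫
      (CohPull.invPushAdj g).counit.app A' = Θ := by
    have := (CohPull.invPushAdj g).homEquiv_counit A A' ((CohPull.invPushAdj g).homEquiv _ _ Θ)
    rw [Equiv.symm_apply_apply] at this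
    exact this.symm
  rw [h]
  change Sheaf.H.map Θ p (CohPull.pullAb g A p x) = _
  rw [Sheaf.H.map_apply, pullAb_apply, Ext.comp_assoc_of_third_deg_zero]

end Top

section Sch

variable {X Y : Scheme.{u}} (g : X ⟶ Y)

lemma homEquiv_theta (M : Y.Modules) :
    (CohPull.invPushAdj g.base).homEquiv _ _ (CohPull.theta g M) =
      (SheafOfModules.toSheaf Y.ringCatSheaf).map
        ((Scheme.Modules.pullbackPushforwardAdjunction g).unit.app M) :=
  Equiv.apply_symm_apply _ _

/-- **the pullback on cohomology is the edge map after the unit** -/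
theorem pullMod_eq_pushEdge (M : Y.Modules) (p : ℕ) (x : Coh.HH Y M p) :
    CohPull.pullMod g M p x =
      CohPull.pushEdge g ((Scheme.Modules.pullback g).obj M) p
        (CohPull.mapH ((Scheme.Modules.pullbackPushforwardAdjunction g).unit.app M) p x) := by
  rw [pushEdge_eq_edgeAb]
  have h := pullΘ_eq_edge g.base (CohPull.theta g M) p x
  rw [homEquiv_theta] at h
  exact h

/-- naturality of the edge map in the module -/
theorem pushEdge_natural {G G' : X.Modules} (φ : G ⟶ G') (p : ℕ)
    (z : Coh.HH Y ((Scheme.Modules.pushforward g).obj G) p) :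
    CohPull.pushEdge g G' p (CohPull.mapH ((Scheme.Modules.pushforward g).map φ) p z) =
      CohPull.mapH φ p (CohPull.pushEdge g G p z) := by
  rw [pushEdge_eq_edgeAb, pushEdge_eq_edgeAb]
  exact edgeAb_naturality g.base ((SheafOfModules.toSheaf X.ringCatSheaf).map φ) p z

/-- a variant of `pullMod` followed by a morphism of modules, in edge form -/
theorem mapH_pullMod_eq_pushEdge (M : Y.Modules) {G : X.Modules}
    (ω : (Scheme.Modules.pullback g).obj M ⟶ G) (p : ℕ) (x : Coh.HH Y M p) :
    CohPull.mapH ω p (CohPull.pullMod g M p x) =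
      CohPull.pushEdge g G p
        (CohPull.mapH ((Scheme.Modules.pullbackPushforwardAdjunction g).homEquiv _ _ ω) p x) := by
  rw [pullMod_eq_pushEdge, ← pushEdge_natural, Adjunction.homEquiv_unit]
  congr 1
  change Sheaf.H.map _ p (Sheaf.H.map _ p x) = Sheaf.H.map _ p x
  rw [Sheaf.H.map_apply, Sheaf.H.map_apply, Sheaf.H.map_apply, Ext.comp_assoc_of_third_deg_zero,
    Ext.mk₀_comp_mk₀, ← Functor.map_comp]
  rfl

end Sch

end Groth.Agent.Lib.R2H2.PullCalc
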