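import Mathlib
import Groth.Agent.Lib.R2H2ABC5
import Groth.Agent.Lib.R2H2PullCalc
import Groth.Agent.Lib.R2H3RpushAffVanish
import Groth.Agent.Lib.R2H3RpushRestrict
set_option backward.isDefEq.respectTransparency.types false
set_option autoImplicit false
set_option linter.unusedSectionVars false
set_option linter.style.haveILetI false
universe u
open CategoryTheory CategoryTheory.Limits AlgebraicGeometry TopologicalSpace Opposite TensorProduct

noncomputable section

namespace Groth.Agent.Lib.R2H2.CoreBC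

open Groth.Agent.Lib.R2H2.CechFun Groth.Agent.Lib.R2H2.PsiA Groth.Agent.Lib.R2H2.LiftA
  Groth.Agent.Lib.R2H2.PsiCech Groth.Agent.Lib.Helper16.TensorCmp Groth.Agent.Lib.R2H2.SheafBC
  Groth.Agent.Helper13PullbackUnit Groth.Agent.Lib.R2H2.ABC Groth.Agent.Lib.R2H2.PullCalc

variable {A B : Type u} [CommRing A] [CommRing B] [Algebra A B] {X X' : Scheme.{u}}
  [X.Over (Spec (CommRingCat.of A))] [X'.Over (Spec (CommRingCat.of B))] (g' : X' ⟶ X)
  (h : IsPullback g' (X' ↘ Spec (CommRingCat.of B)) (X ↘ Spec (CommRingCat.of A))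
    (Spec.map (CommRingCat.ofHom (algebraMap A B))))
  (F : X.Modules) [F.IsQuasicoherent]

/-- `Γ(Ψ_A(B), V) ≃ Γ(g'^*F, g'⁻¹V)` over an affine open -/
def beta0 {V : X.Opens} (hV : IsAffineOpen V) : Γ(PsiAB A B F, V) ≃+ Γ(F' g' F, g' ⁻¹ᵁ V) :=
  (AddEquiv.ofBijective (delta A B F V).toAddMonoidHom (delta_bijective A B F hV)).symm.trans
    (AddEquiv.ofBijective (sigma g' F h.w V) (sigma_bijective g' F h hV))

lemma beta0_delta {V : X.Opens} (hV : IsAffineOpen V) (t : B ⊗[A] (secA A F V)) :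
    beta0 g' h F hV (delta A B F V t) = sigma g' F h.w V t := by
  have h1 : (AddEquiv.ofBijective (delta A B F V).toAddMonoidHom (delta_bijective A B F hV)).symm
      (delta A B F V t) = t :=
    (AddEquiv.ofBijective (delta A B F V).toAddMonoidHom (delta_bijective A B F hV)).symm_apply_apply t
  show sigma g' F h.w V
    ((AddEquiv.ofBijective (delta A B F V).toAddMonoidHom (delta_bijective A B F hV)).symm
      (delta A B F V t)) = _
  rw [h1]

lemma beta0_res {V₁ V₂ : X.Opens} (hV₁ : IsAffineOpen V₁) (hV₂ : IsAffineOpen V₂) (hle : V₂ ≤ V₁)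
    (s : Γ(PsiAB A B F, V₁)) :
    (F' g' F).presheaf.map (homOfLE (g'.preimage_mono hle)).op (beta0 g' h F hV₁ s) =
      beta0 g' h F hV₂ ((PsiAB A B F).presheaf.map (homOfLE hle).op s) := by
  obtain ⟨t, rfl⟩ := (delta_bijective A B F hV₁).2 s
  rw [beta0_delta, delta_res, beta0_delta, sigma_res]

lemma beta0_mulB {V : X.Opens} (hV : IsAffineOpen V) (b : B) (s : Γ(PsiAB A B F, V)) :
    beta0 g' h F hV (((CohIII.tensorAFunctor A F).map (mulB A B b)).app V s) =
      (bA (A := B) (g' ⁻¹ᵁ V) b : Γ(X', g' ⁻¹ᵁ V)) • beta0 g' h F hV s := by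
  obtain ⟨t, rfl⟩ := (delta_bijective A B F hV).2 s
  rw [delta_mulB, beta0_delta, beta0_delta, sigma_smul]

/-- the basis of affine opens -/
abbrev Bf (X : Scheme.{u}) : X.affineOpens → Opens X := fun V => V.1

lemma isBasis_Bf (X : Scheme.{u}) : Opens.IsBasis (Set.range (Bf X)) := by
  have : Set.range (Bf X) = X.affineOpens := Subtype.range_coe
  rw [this]
  exact X.isBasis_affineOpens

/-- the target sheaf -/
abbrev P₂ : TopCat.Sheaf AddCommGrpCat.{u} X.toTopCat :=
  Coh.toAb ((Scheme.Modules.pushforward g').obj (F' g' F))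

/-- the comparison on the basis of affine opens -/
def alpha : (inducedFunctor (Bf X)).op ⋙ (Coh.toAb (PsiAB A B F)).obj ⟶
    (inducedFunctor (Bf X)).op ⋙ (P₂ g' F).obj where
  app i := AddCommGrpCat.ofHom (beta0 g' h F i.unop.2).toAddMonoidHom
  naturality i j f := by
    ext s
    have hle : (j.unop.1 : X.Opens) ≤ i.unop.1 := leOfHom f.unop.hom
    exact (beta0_res g' h F i.unop.2 j.unop.2 hle s).symm

/-- the comparison `Ψ_A(B) ⟶ g'_* g'^* F` of abelian sheaves -/
def betaHom : Coh.toAb (PsiAB A B F) ⟶ P₂ g' F :=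
  ⟨TopCat.Sheaf.restrictHomEquivHom (Coh.toAb (PsiAB A B F)).obj (P₂ g' F) (isBasis_Bf X)
    (alpha g' h F)⟩

lemma betaHom_app {V : X.Opens} (hV : IsAffineOpen V) (s : Γ(PsiAB A B F, V)) :
    (betaHom g' h F).hom.app (op V) s = beta0 g' h F hV s := by
  have := TopCat.Sheaf.extend_hom_app (Coh.toAb (PsiAB A B F)).obj (P₂ g' F) (isBasis_Bf X)
    (alpha g' h F) ⟨V, hV⟩
  exact ConcreteCategory.congr_hom this s

instance : IsIso (betaHom g' h F) := by
  apply TopCat.Sheaf.isIso_iff_isIso_basis (isBasis_Bf X)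
  intro i
  have : (betaHom g' h F).hom.app (op (Bf X i)) =
      AddCommGrpCat.ofHom (beta0 g' h F i.2).toAddMonoidHom := by
    ext s
    exact betaHom_app g' h F i.2 s
  rw [this]
  exact (ConcreteCategory.isIso_iff_bijective _).2 (beta0 g' h F i.2).bijective

/-- the structure map `F ≅ Ψ_A(A) ⟶ Ψ_A(B)` -/
def toPsiAB : F ⟶ PsiAB A B F :=
  (objUnitIso A F).inv ≫ (CohIII.tensorAFunctor A F).map (θ (idB A B 1))

lemma toPsiAB_app (V : X.Opens) (m : Γ(F, V)) :
    (toPsiAB (A := A) (B := B) F).app V m = delta A B F V ((1 : B) ⊗ₜ[A] (show secA A F V from m)) :=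
  rfl

/-- compatibility with the units -/
lemma toPsiAB_betaHom :
    (SheafOfModules.toSheaf X.ringCatSheaf).map (toPsiAB (A := A) (B := B) F) ≫ betaHom g' h F =
      (SheafOfModules.toSheaf X.ringCatSheaf).map
        ((Scheme.Modules.pullbackPushforwardAdjunction g').unit.app F) := by
  apply ObjectProperty.hom_ext
  apply TopCat.Sheaf.hom_ext _ (P₂ g' F) (isBasis_Bf X)
  intro i
  ext m
  change (betaHom g' h F).hom.app (op i.1) ((toPsiAB (A := A) (B := B) F).app i.1 m) =
    ((Scheme.Modules.pullbackPushforwardAdjunction g').unit.app F).app i.1 m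
  rw [betaHom_app g' h F i.2, toPsiAB_app, beta0_delta, sigma_tmul, map_one, one_smul,
    Groth.Agent.Lib.R2H3.PullUnit.unitSec_le_rfl]

/-- compatibility with the actions of `B` -/
lemma mulB_betaHom (b : B) :
    (SheafOfModules.toSheaf X.ringCatSheaf).map ((CohIII.tensorAFunctor A F).map (mulB A B b)) ≫
        betaHom g' h F =
      betaHom g' h F ≫ (SheafOfModules.toSheaf X.ringCatSheaf).map
        ((Scheme.Modules.pushforward g').map (Formal.smulMod B (F' g' F) b)) := by
  apply ObjectProperty.hom_ext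
  apply TopCat.Sheaf.hom_ext _ (P₂ g' F) (isBasis_Bf X)
  intro i
  ext s
  change (betaHom g' h F).hom.app (op i.1) (((CohIII.tensorAFunctor A F).map (mulB A B b)).app i.1 s) =
    (Formal.smulMod B (F' g' F) b).app (g' ⁻¹ᵁ i.1) ((betaHom g' h F).hom.app (op i.1) s)
  rw [betaHom_app g' h F i.2, betaHom_app g' h F i.2, beta0_mulB, smulMod_app]

include h in
lemma isAffineHom_of_isPullback : IsAffineHom g' :=
  MorphismProperty.of_isPullback (P := @IsAffineHom) h.flip inferInstance

lemma smul_eq_mapH {M : X'.Modules} (p : ℕ) (b : B) (z : Coh.HH X' M p) :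
    b • z = CohPull.mapH (Formal.smulMod B M b) p z := rfl

include h in
/-- **The cohomology of the base change as `T^p(B)`**, compatibly with the pullback of classes and with
the actions of `B`. -/
theorem core (p : ℕ) :
    ∃ ψ : Coh.HH X (PsiAB A B F) p ≃+ Coh.HH X' (F' g' F) p,
      (∀ x : Coh.HH X F p,
        ψ (CohPull.mapH (toPsiAB (A := A) (B := B) F) p x) = CohPull.pullMod g' F p x) ∧
      (∀ (b : B) (y : Coh.HH X (PsiAB A B F) p),
        ψ (CohPull.mapH ((CohIII.tensorAFunctor A F).map (mulB A B b)) p y) = b • ψ y) := by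
  haveI : IsAffineHom g' := isAffineHom_of_isPullback g' h
  haveI : (F' g' F).IsQuasicoherent :=
    Groth.Agent.Lib.Helper2.PullbackSec.isQuasicoherent_pullback g' F
  haveI := Groth.Agent.Lib.R2H3.RpushRestrict.hasInjectiveResolutions_modules X'
  have hedge : Function.Bijective (CohPull.pushEdge g' (F' g' F) p) := by
    refine Groth.Agent.Lib.R2H3.PushEdge.pushEdge_bijective g' (F' g' F) ?_ p
    intro q hq
    obtain ⟨q, rfl⟩ : ∃ k, q = k + 1 := ⟨q - 1, by omega⟩
    exact Groth.Agent.Lib.R2H3.RpushAffVanish.isZero_Rpush_of_isAffineHom g' (F' g' F) q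
  have hβ : Function.Bijective (Sheaf.H.map (betaHom g' h F) p) := by
    refine Function.bijective_iff_has_inverse.mpr ⟨Sheaf.H.map (inv (betaHom g' h F)) p,
      fun x => ?_, fun x => ?_⟩
    · rw [← Sheaf.H.map_comp_apply, IsIso.hom_inv_id, Sheaf.H.map_id_apply]
    · rw [← Sheaf.H.map_comp_apply, IsIso.inv_hom_id, Sheaf.H.map_id_apply]
  let ψ0 : Coh.HH X (PsiAB A B F) p →+ Coh.HH X' (F' g' F) p :=
    (CohPull.pushEdge g' (F' g' F) p).comp (Sheaf.H.map (betaHom g' h F) p)
  refine ⟨AddEquiv.ofBijective ψ0 (hedge.comp hβ), fun x => ?_, fun b y => ?_⟩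
  · change CohPull.pushEdge g' (F' g' F) p (Sheaf.H.map (betaHom g' h F) p
      (Sheaf.H.map ((SheafOfModules.toSheaf X.ringCatSheaf).map (toPsiAB (A := A) (B := B) F)) p x)) = _
    rw [← Sheaf.H.map_comp_apply, toPsiAB_betaHom, pullMod_eq_pushEdge]
  · change CohPull.pushEdge g' (F' g' F) p (Sheaf.H.map (betaHom g' h F) p
      (Sheaf.H.map ((SheafOfModules.toSheaf X.ringCatSheaf).map
        ((CohIII.tensorAFunctor A F).map (mulB A B b))) p y)) =
      b • CohPull.pushEdge g' (F' g' F) p (Sheaf.H.map (betaHom g' h F) p y)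
    rw [← Sheaf.H.map_comp_apply, mulB_betaHom, Sheaf.H.map_comp_apply, smul_eq_mapH,
      ← pushEdge_natural]

end Groth.Agent.Lib.R2H2.CoreBC
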