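import Mathlib
import Groth.Prelude.Def_CohCmp
import Groth.Agent.Lib.Helper23SectCmpLib
import Groth.Agent.Lib.R2H3RpushRestrict
import Groth.Agent.Lib.R2H3ModLocBridge
import Groth.Agent.Lib.Helper16Flasque
import Groth.Agent.S0484
import Groth.Agent.Lib.R2H3RpushQCohGen
import Groth.Agent.Lib.Helper23AffVanish7
set_option backward.isDefEq.respectTransparency.types false

/-!
# The comparison maps `ε_V : H^q(f⁻¹V, F|) → Γ(V, R^q f_* F)` are bijective over affine opens (helper2, round 2)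

Namespace `Groth.Agent.Lib.R2H2.EpsBij`.

* `mapH_sectH0`: naturality of `CohPull.sectH0`.
* `sub_X₃`, `sub_X₂`, `surj_g`, `exact_sections`: the long exact sequence of `H^•(V, -|_V)` for a short exact
  sequence of `O_Y`-modules, elementwise; `four_sub`, `four_exact` for a four term exact sequence.
* `Acy f V M`: all `R^b f_* M` are acyclic for sections over `V`; `acy_of_injective`, `acy_coker`,
  `acy_of_isQuasicoherent` (`f` qcqs, `V` affine, `M` quasi-coherent).
* `eps_bijective_of_acy`, `eps_bijective`: bijectivity of the pinned comparison maps of `CohCmp.SectCmp`.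
-/
set_option autoImplicit false
set_option linter.unusedSectionVars false
set_option linter.style.haveILetI false
universe u
open CategoryTheory CategoryTheory.Limits AlgebraicGeometry TopologicalSpace Opposite Abelian
open AlgebraicGeometry.Scheme.Modules CohCmp

noncomputable section

namespace Groth.Agent.Lib.R2H2.EpsBij

open Groth.Agent.Lib.Helper23.SectCmpLib

section Generic

universe v₁ u₁ w₁

variable {𝒜 : Type u₁} [Category.{v₁} 𝒜] [Abelian 𝒜] [HasExt.{w₁} 𝒜]

lemma comp_g_extClass {S : ShortComplex 𝒜} (hS : S.ShortExact) {W : 𝒜} (n : ℕ) (z : Ext W S.X₂ n) :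
    (z.comp (Ext.mk₀ S.g) (add_zero n)).comp hS.extClass rfl = 0 := by
  rw [Ext.comp_assoc_of_second_deg_zero, hS.comp_extClass, Ext.comp_zero]

end Generic

section Sect

variable {Y : Scheme.{u}} (V : Y.Opens)

/-- naturality of `sectH0` -/
lemma mapH_sectH0 {N N' : Y.Modules} (φ : N ⟶ N') (s : N.presheaf.obj (op V)) :
    CohPull.mapH ((restrictFunctor V.ι).map φ) 0 (CohPull.sectH0 N V s) =
      CohPull.sectH0 N' V (φ.app V s) := by
  unfold CohPull.sectH0
  simp only [AddEquiv.trans_apply]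
  erw [Sheaf.H.equiv₀_symm_naturality]
  congr 1
  have h := (ConcreteCategory.congr_hom (φ.mapPresheaf.naturality (eqToHom V.ι_image_top).op) s).symm
  simp only [ConcreteCategory.comp_apply] at h
  exact h.symm

end Sect

section LES

variable {Y : Scheme.{u}} (V : Y.Opens) {T : ShortComplex Y.Modules} (hT : T.ShortExact)

include hT

lemma sub_X₃ (a : ℕ) (h₂ : Subsingleton (Coh.HHon Y T.X₂ V a))
    (h₁ : Subsingleton (Coh.HHon Y T.X₁ V (a + 1))) : Subsingleton (Coh.HHon Y T.X₃ V a) := by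
  have hA := toAbOn_shortExact V T hT
  refine subsingleton_of_forall_eq 0 fun x₃ => ?_
  obtain ⟨x₂, hx₂⟩ := Ext.covariant_sequence_exact₃ _ hA
    (show Ext _ (T.map (toAbOn Y V)).X₃ a from x₃) (rfl : a + 1 = a + 1) (h₁.elim _ _)
  have h0 : x₂ = 0 := h₂.elim _ _
  rw [← hx₂, h0, Ext.zero_comp]
  rfl

lemma sub_X₂ (a : ℕ) (h₁ : Subsingleton (Coh.HHon Y T.X₁ V a))
    (h₃ : Subsingleton (Coh.HHon Y T.X₃ V a)) : Subsingleton (Coh.HHon Y T.X₂ V a) := by
  have hA := toAbOn_shortExact V T hT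
  refine subsingleton_of_forall_eq 0 fun x₂ => ?_
  obtain ⟨x₁, hx₁⟩ := Ext.covariant_sequence_exact₂ _ hA
    (show Ext _ (T.map (toAbOn Y V)).X₂ a from x₂) (h₃.elim _ _)
  have h0 : x₁ = 0 := h₁.elim _ _
  rw [← hx₁, h0, Ext.zero_comp]
  rfl

lemma surj_g (h₁ : Subsingleton (Coh.HHon Y T.X₁ V 1)) : Function.Surjective (T.g.app V) := by
  have hA := toAbOn_shortExact V T hT
  intro s₃
  obtain ⟨x₂, hx₂⟩ := Ext.covariant_sequence_exact₃ _ hA
    (show Ext _ (T.map (toAbOn Y V)).X₃ 0 from CohPull.sectH0 T.X₃ V s₃) (rfl : 0 + 1 = 1)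
    (h₁.elim _ _)
  obtain ⟨s₂, rfl⟩ := (CohPull.sectH0 T.X₂ V).surjective x₂
  refine ⟨s₂, (CohPull.sectH0 T.X₃ V).injective ?_⟩
  rw [← mapH_sectH0]
  exact hx₂

lemma exact_sections (s : T.X₂.presheaf.obj (op V)) (hs : T.g.app V s = 0) :
    ∃ t, T.f.app V t = s := by
  have hA := toAbOn_shortExact V T hT
  obtain ⟨x₁, hx₁⟩ := Ext.covariant_sequence_exact₂ _ hA
    (show Ext _ (T.map (toAbOn Y V)).X₂ 0 from CohPull.sectH0 T.X₂ V s) (by
      have h := mapH_sectH0 V T.g s
      rw [hs, map_zero] at h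
      exact h)
  obtain ⟨t, rfl⟩ := (CohPull.sectH0 T.X₁ V).surjective x₁
  refine ⟨t, (CohPull.sectH0 T.X₂ V).injective ?_⟩
  rw [← mapH_sectH0]
  exact hx₁

end LES

section Four

variable {Y : Scheme.{u}} (V : Y.Opens) {N₀ N₁ N₂ N₃ : Y.Modules} (i : N₀ ⟶ N₁) (u : N₁ ⟶ N₂)
  (v : N₂ ⟶ N₃) [Mono i] [Epi v] (w₁ : i ≫ u = 0) (w₂ : u ≫ v = 0)
  (h₁ : (ShortComplex.mk i u w₁).Exact) (h₂ : (ShortComplex.mk u v w₂).Exact)

/-- `0 → N₀ → N₁ → im u → 0` -/
def seqα : ShortComplex Y.Modules :=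
  ShortComplex.mk i (Abelian.factorThruImage u) (by
    rw [← cancel_mono (Abelian.image.ι u), Category.assoc, Abelian.image.fac, w₁, zero_comp])

/-- `0 → im u → N₂ → N₃ → 0` -/
def seqβ : ShortComplex Y.Modules :=
  ShortComplex.mk (Abelian.image.ι u) v (by
    rw [← cancel_epi (Abelian.factorThruImage u), ← Category.assoc, Abelian.image.fac, w₂,
      comp_zero])

include h₁ in
lemma seqα_shortExact : (seqα i u w₁).ShortExact := by
  let φ : seqα i u w₁ ⟶ ShortComplex.mk i u w₁ :=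
    { τ₁ := 𝟙 _
      τ₂ := 𝟙 _
      τ₃ := Abelian.image.ι u
      comm₁₂ := by simp [seqα]
      comm₂₃ := by simp [seqα] }
  haveI : Epi φ.τ₁ := inferInstanceAs (Epi (𝟙 _))
  haveI : IsIso φ.τ₂ := inferInstanceAs (IsIso (𝟙 _))
  haveI : Mono φ.τ₃ := inferInstanceAs (Mono (Abelian.image.ι u))
  have hex : (seqα i u w₁).Exact := (ShortComplex.exact_iff_of_epi_of_isIso_of_mono φ).2 h₁
  exact { exact := hex
          mono_f := inferInstanceAs (Mono i)
          epi_g := inferInstanceAs (Epi (Abelian.factorThruImage u)) }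

include h₂ in
lemma seqβ_shortExact : (seqβ u v w₂).ShortExact := by
  let φ : ShortComplex.mk u v w₂ ⟶ seqβ u v w₂ :=
    { τ₁ := Abelian.factorThruImage u
      τ₂ := 𝟙 _
      τ₃ := 𝟙 _
      comm₁₂ := by simp [seqβ]
      comm₂₃ := by simp [seqβ] }
  haveI : Epi φ.τ₁ := inferInstanceAs (Epi (Abelian.factorThruImage u))
  haveI : IsIso φ.τ₂ := inferInstanceAs (IsIso (𝟙 _))
  haveI : Mono φ.τ₃ := inferInstanceAs (Mono (𝟙 _))
  have hex : (seqβ u v w₂).Exact := (ShortComplex.exact_iff_of_epi_of_isIso_of_mono φ).1 h₂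
  exact { exact := hex
          mono_f := inferInstanceAs (Mono (Abelian.image.ι u))
          epi_g := inferInstanceAs (Epi v) }

include h₁ h₂ in
theorem four_sub (h0 : ∀ a, Subsingleton (Coh.HHon Y N₀ V (a + 1)))
    (h1 : ∀ a, Subsingleton (Coh.HHon Y N₁ V (a + 1)))
    (h3 : ∀ a, Subsingleton (Coh.HHon Y N₃ V (a + 1))) (a : ℕ) :
    Subsingleton (Coh.HHon Y N₂ V (a + 1)) := by
  have hα := seqα_shortExact i u w₁ h₁
  have hβ := seqβ_shortExact u v w₂ h₂
  have hK : Subsingleton (Coh.HHon Y (Abelian.image u) V (a + 1)) :=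
    sub_X₃ V hα (a + 1) (h1 a) (h0 (a + 1))
  exact sub_X₂ V hβ (a + 1) hK (h3 a)

include h₁ h₂ in
theorem four_exact (h0 : Subsingleton (Coh.HHon Y N₀ V 1)) (h0' : Subsingleton (Coh.HHon Y N₀ V 2))
    (h1 : Subsingleton (Coh.HHon Y N₁ V 1)) :
    Function.Surjective (v.app V) ∧
      ∀ s : N₂.presheaf.obj (op V), v.app V s = 0 → ∃ t, u.app V t = s := by
  have hα := seqα_shortExact i u w₁ h₁
  have hβ := seqβ_shortExact u v w₂ h₂
  have hK : Subsingleton (Coh.HHon Y (Abelian.image u) V 1) := sub_X₃ V hα 1 h1 h0'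
  refine ⟨surj_g V hβ hK, fun s hs => ?_⟩
  obtain ⟨k, hk⟩ := exact_sections V hβ s hs
  obtain ⟨t, ht⟩ := surj_g V hα h0 k
  refine ⟨t, ?_⟩
  rw [← hk, ← ht]
  have h := congrArg (fun φ : N₁ ⟶ N₂ => φ.app V t) (Abelian.image.fac u)
  exact h.symm

end Four

section Eps

variable {X Y : Scheme.{u}} (f : X ⟶ Y) [HasInjectiveResolutions X.Modules]

instance enoughInjectives (X : Scheme.{u}) : EnoughInjectives X.Modules := by
  have := Groth.Agent.S0484.result (Opens.grothendieckTopology X) X.ringCatSheaf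
  exact inferInstanceAs (EnoughInjectives (SheafOfModules.{u} X.ringCatSheaf))

lemma subsingleton_HHon_of_isZero {N : Y.Modules} (h : IsZero N) (V : Y.Opens) (a : ℕ) :
    Subsingleton (Coh.HHon Y N V a) := by
  refine subsingleton_of_forall_eq 0 fun x => ?_
  have hz : IsZero ((toAbOn Y V).obj N) := (toAbOn Y V).map_isZero h
  have h1 : (show Ext _ ((toAbOn Y V).obj N) a from x) =
      (show Ext _ ((toAbOn Y V).obj N) a from x).comp (Ext.mk₀ (𝟙 _)) (add_zero a) :=
    (Ext.comp_mk₀_id _).symm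
  rw [hz.eq_of_src (𝟙 _) 0, Ext.mk₀_zero, Ext.comp_zero] at h1
  exact h1

lemma subsingleton_HHon_of_iso {N N' : Y.Modules} (e : N ≅ N') (V : Y.Opens) (a : ℕ)
    (h : Subsingleton (Coh.HHon Y N V a)) : Subsingleton (Coh.HHon Y N' V a) := by
  refine subsingleton_of_forall_eq 0 fun x => ?_
  have hc : (toAbOn Y V).map e.inv ≫ (toAbOn Y V).map e.hom = 𝟙 _ := by
    rw [← Functor.map_comp, e.inv_hom_id, CategoryTheory.Functor.map_id]
  have h1 : Sheaf.H.map ((toAbOn Y V).map e.hom) a (Sheaf.H.map ((toAbOn Y V).map e.inv) a x) = x := by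
    rw [Sheaf.H.map_apply, Sheaf.H.map_apply, Ext.comp_assoc_of_third_deg_zero, Ext.mk₀_comp_mk₀, hc,
      Ext.comp_mk₀_id]
  rw [← h1, h.elim (Sheaf.H.map ((toAbOn Y V).map e.inv) a x) 0, map_zero]

/-- `M` has higher direct images which are acyclic for sections over `V` -/
def Acy (V : Y.Opens) (M : X.Modules) : Prop :=
  ∀ b a : ℕ, Subsingleton (Coh.HHon Y ((Coh.Rpush f b).obj M) V (a + 1))

instance : PreservesFiniteLimits (pushforward f) := by
  have : (pushforward f).IsRightAdjoint := inferInstance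
  infer_instance

lemma subsingleton_HHon_push_of_injective (V : Y.Opens) (I : X.Modules) [Injective I] (a : ℕ) :
    Subsingleton (Coh.HHon Y ((pushforward f).obj I) V (a + 1)) := by
  haveI : TopCat.Sheaf.IsFlasque (Coh.toAb I) :=
    Groth.Agent.Lib.R2H3.ModLocBridge.isFlasque_toAb_of_injective I
  haveI : TopCat.Sheaf.IsFlasque (Coh.toAb ((pushforward f).obj I)) :=
    TopCat.Sheaf.IsFlasque.pushforward_isFlasque (Coh.toAb I) f.base
  haveI : TopCat.Sheaf.IsFlasque (Coh.toAb (((pushforward f).obj I).restrict V.ι)) :=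
    Groth.Agent.Lib.R2H3.RpushRestrict.isFlasque_toAb_restrict V.ι _ inferInstance
  exact Groth.Agent.Lib.Helper16.Flasque.H_subsingleton _ a

lemma acy_of_injective (V : Y.Opens) (I : X.Modules) [Injective I] : Acy f V I := by
  intro b a
  cases b with
  | zero =>
    exact subsingleton_HHon_of_iso (asIso ((pushforward f).toRightDerivedZero.app I)) V (a + 1)
      (subsingleton_HHon_push_of_injective f V I a)
  | succ b =>
    exact subsingleton_HHon_of_isZero
      (Functor.isZero_rightDerived_obj_injective_succ _ b I) V (a + 1)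

/-- the injective embedding sequence `0 → M → I → I/M → 0` -/
def sesM (M : X.Modules) : ShortComplex X.Modules :=
  ShortComplex.mk (Injective.ι M) (cokernel.π (Injective.ι M)) (cokernel.condition _)

lemma sesM_shortExact (M : X.Modules) : (sesM M).ShortExact :=
  { exact := ShortComplex.exact_cokernel _
    mono_f := inferInstanceAs (Mono (Injective.ι M))
    epi_g := inferInstanceAs (Epi (cokernel.π (Injective.ι M))) }

instance (M : X.Modules) : Injective (sesM M).X₂ := inferInstanceAs (Injective (Injective.under M))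

variable {Δ : RDer.DerivedLES (pushforward f)}

include Δ in
lemma isIso_δ_succ (M : X.Modules) (b : ℕ) :
    IsIso (Δ.δ (sesM M) (sesM_shortExact M) (b + 1) (b + 2) rfl) := by
  have hz1 : IsZero ((Coh.Rpush f (b + 1)).obj (sesM M).X₂) :=
    Functor.isZero_rightDerived_obj_injective_succ _ b _
  have hz2 : IsZero ((Coh.Rpush f (b + 2)).obj (sesM M).X₂) :=
    Functor.isZero_rightDerived_obj_injective_succ _ (b + 1) _
  have hm : Mono (Δ.δ (sesM M) (sesM_shortExact M) (b + 1) (b + 2) rfl) :=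
    (Δ.exact₃ (sesM M) (sesM_shortExact M) (b + 1) (b + 2) rfl).mono_g (hz1.eq_of_src _ _)
  have he : Epi (Δ.δ (sesM M) (sesM_shortExact M) (b + 1) (b + 2) rfl) :=
    (Δ.exact₁ (sesM M) (sesM_shortExact M) (b + 1) (b + 2) rfl).epi_f (hz2.eq_of_tgt _ _)
  exact isIso_of_mono_of_epi _

lemma epi_δ (M : X.Modules) (b : ℕ) :
    Epi (Δ.δ (sesM M) (sesM_shortExact M) b (b + 1) rfl) := by
  have hz2 : IsZero ((Coh.Rpush f (b + 1)).obj (sesM M).X₂) :=
    Functor.isZero_rightDerived_obj_injective_succ _ b _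
  exact (Δ.exact₁ (sesM M) (sesM_shortExact M) b (b + 1) rfl).epi_f (hz2.eq_of_tgt _ _)

lemma mono_R0 {M N : X.Modules} (φ : M ⟶ N) [Mono φ] : Mono ((Coh.Rpush f 0).map φ) := by
  have nat := (pushforward f).toRightDerivedZero.naturality φ
  have h : (Coh.Rpush f 0).map φ = inv ((pushforward f).toRightDerivedZero.app M) ≫
      (pushforward f).map φ ≫ (pushforward f).toRightDerivedZero.app N := by
    rw [IsIso.eq_inv_comp]
    exact nat.symm
  rw [h]
  infer_instance

include Δ in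
lemma acy_coker (V : Y.Opens) (M : X.Modules) (hM : Acy f V M) : Acy f V (sesM M).X₃ := by
  intro b a
  cases b with
  | zero =>
    haveI : Mono ((Coh.Rpush f 0).map (sesM M).f) := mono_R0 f (Injective.ι M)
    haveI : Epi (Δ.δ (sesM M) (sesM_shortExact M) 0 1 rfl) := epi_δ f M 0
    exact four_sub V ((Coh.Rpush f 0).map (sesM M).f) ((Coh.Rpush f 0).map (sesM M).g)
      (Δ.δ (sesM M) (sesM_shortExact M) 0 1 rfl) _ _
      (Δ.exact₂ (sesM M) (sesM_shortExact M) 0) (Δ.exact₃ (sesM M) (sesM_shortExact M) 0 1 rfl)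
      (hM 0) (acy_of_injective f V (sesM M).X₂ 0) (hM 1) a
  | succ b =>
    haveI := isIso_δ_succ f (Δ := Δ) M b
    exact subsingleton_HHon_of_iso (asIso (Δ.δ (sesM M) (sesM_shortExact M) (b + 1) (b + 2) rfl)).symm
      V (a + 1) (hM (b + 2) a)

lemma app_bijective_of_isIso {N N' : Y.Modules} (φ : N ⟶ N') [IsIso φ] (V : Y.Opens) :
    Function.Bijective (φ.app V) := by
  refine Function.bijective_iff_has_inverse.mpr ⟨(inv φ).app V, fun x => ?_, fun x => ?_⟩
  · exact congrArg (fun ψ : N ⟶ N => ψ.app V x) (IsIso.hom_inv_id φ)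
  · exact congrArg (fun ψ : N' ⟶ N' => ψ.app V x) (IsIso.inv_hom_id φ)

variable (E : CohCmp.SectCmp f Δ)

lemma eps_zero_bijective (V : Y.Opens) (M : X.Modules) : Function.Bijective (E.ε V M 0) := by
  have hb := app_bijective_of_isIso ((pushforward f).toRightDerivedZero.app M) V
  have h : ⇑(E.ε V M 0) = (fun s => ((pushforward f).toRightDerivedZero.app M).app V s) ∘
      (CohPull.sectH0 M (f ⁻¹ᵁ V)).symm := by
    funext x
    obtain ⟨s, rfl⟩ := (CohPull.sectH0 M (f ⁻¹ᵁ V)).surjective x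
    rw [E.zero V M s, Function.comp_apply, AddEquiv.symm_apply_apply]
  rw [h]
  exact hb.comp (CohPull.sectH0 M (f ⁻¹ᵁ V)).symm.bijective

/-- bottom row facts -/
lemma bottom_row (V : Y.Opens) (M : X.Modules) (hM : Acy f V M) (q : ℕ) :
    Function.Surjective ((Δ.δ (sesM M) (sesM_shortExact M) q (q + 1) rfl).app V) ∧
      ∀ t' : ((Coh.Rpush f q).obj (sesM M).X₃).presheaf.obj (op V),
        (Δ.δ (sesM M) (sesM_shortExact M) q (q + 1) rfl).app V t' = 0 →
        ∃ t, ((Coh.Rpush f q).map (sesM M).g).app V t = t' := by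
  cases q with
  | zero =>
    haveI : Mono ((Coh.Rpush f 0).map (sesM M).f) := mono_R0 f (Injective.ι M)
    haveI : Epi (Δ.δ (sesM M) (sesM_shortExact M) 0 1 rfl) := epi_δ f M 0
    exact four_exact V ((Coh.Rpush f 0).map (sesM M).f) ((Coh.Rpush f 0).map (sesM M).g)
      (Δ.δ (sesM M) (sesM_shortExact M) 0 1 rfl) _ _
      (Δ.exact₂ (sesM M) (sesM_shortExact M) 0) (Δ.exact₃ (sesM M) (sesM_shortExact M) 0 1 rfl)
      (hM 0 0) (hM 0 1) (acy_of_injective f V (sesM M).X₂ 0 0)
  | succ b =>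
    haveI := isIso_δ_succ f (Δ := Δ) M b
    have hb := app_bijective_of_isIso (Δ.δ (sesM M) (sesM_shortExact M) (b + 1) (b + 2) rfl) V
    refine ⟨hb.2, fun t' ht' => ⟨0, ?_⟩⟩
    have h0 : t' = 0 := hb.1 (ht'.trans (map_zero _).symm)
    rw [h0]
    exact map_zero _

/-- **The comparison maps are bijective on modules with acyclic higher direct images.** -/
theorem eps_bijective_of_acy (V : Y.Opens) :
    ∀ (q : ℕ) (M : X.Modules), Acy f V M → Function.Bijective (E.ε V M q)
  | 0, M, _ => eps_zero_bijective f E V M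
  | q + 1, M, hM => by
    have hS := sesM_shortExact M
    have hA := toAbOn_shortExact (f ⁻¹ᵁ V) (sesM M) hS
    have ihI := eps_bijective_of_acy V q (sesM M).X₂ (acy_of_injective f V (sesM M).X₂)
    have ihG := eps_bijective_of_acy V q (sesM M).X₃ (acy_coker f (Δ := Δ) V M hM)
    obtain ⟨hsurj, hex⟩ := bottom_row f (Δ := Δ) V M hM q
    haveI : TopCat.Sheaf.IsFlasque (Coh.toAb (sesM M).X₂) :=
      Groth.Agent.Lib.R2H3.ModLocBridge.isFlasque_toAb_of_injective _
    haveI : TopCat.Sheaf.IsFlasque (Coh.toAb ((sesM M).X₂.restrict (f ⁻¹ᵁ V).ι)) :=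
      Groth.Agent.Lib.R2H3.RpushRestrict.isFlasque_toAb_restrict (f ⁻¹ᵁ V).ι _ inferInstance
    have hsub : Subsingleton (Coh.HHon X (sesM M).X₂ (f ⁻¹ᵁ V) (q + 1)) :=
      Groth.Agent.Lib.Helper16.Flasque.H_subsingleton _ q
    have hlift : ∀ x : Coh.HHon X M (f ⁻¹ᵁ V) (q + 1),
        ∃ x' : Coh.HHon X (sesM M).X₃ (f ⁻¹ᵁ V) q, extδ hA q x' = x := fun x =>
      Ext.covariant_sequence_exact₁ _ hA
        (show Ext _ ((sesM M).map (toAbOn X (f ⁻¹ᵁ V))).X₁ (q + 1) from x) (hsub.elim _ _) rfl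
    constructor
    · rw [injective_iff_map_eq_zero]
      intro x hx
      obtain ⟨x', rfl⟩ := hlift x
      have hx2 := (E.delta V (sesM M) hS hA q x').symm.trans hx
      obtain ⟨t, ht⟩ := hex _ hx2
      obtain ⟨z, rfl⟩ := ihI.2 t
      have hx' := ihG.1 ((E.natural V (sesM M).g q z).trans ht)
      rw [← hx']
      exact comp_g_extClass hA q z
    · intro t
      obtain ⟨t', rfl⟩ := hsurj t
      obtain ⟨x', rfl⟩ := ihG.2 t'
      exact ⟨extδ hA q x', E.delta V (sesM M) hS hA q x'⟩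

theorem acy_of_isQuasicoherent [QuasiCompact f] [QuasiSeparated f] (V : Y.Opens)
    (hV : IsAffineOpen V) (M : X.Modules) [M.IsQuasicoherent] : Acy f V M := by
  intro b a
  haveI := Groth.Agent.Lib.R2H3.RpushQCohGen.isQuasicoherent_Rpush_of_qcqs f M b
  haveI : IsAffine (V : Scheme.{u}) := hV
  exact Groth.Agent.Lib.Helper23.AffVanish.subsingleton_HH _ (a + 1) (Nat.succ_pos a)

/-- **The comparison maps are bijective over affine opens** (quasi-compact quasi-separated morphism,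
quasi-coherent module). -/
theorem eps_bijective [QuasiCompact f] [QuasiSeparated f] (V : Y.Opens) (hV : IsAffineOpen V)
    (M : X.Modules) [M.IsQuasicoherent] (q : ℕ) : Function.Bijective (E.ε V M q) :=
  eps_bijective_of_acy f E V q M (acy_of_isQuasicoherent f V hV M)

end Eps

end Groth.Agent.Lib.R2H2.EpsBij
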