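import Mathlib
import Groth.Prelude.Def_Coh
import Groth.Prelude.Def_Formal
import Groth.Agent.S9530
import Groth.Agent.Lib.Helper20FormalPull
set_option backward.isDefEq.respectTransparency.types false
set_option autoImplicit false
set_option linter.unusedSectionVars false
set_option linter.style.haveILetI false
universe u
open CategoryTheory CategoryTheory.Limits AlgebraicGeometry TopologicalSpace Opposite

noncomputable section

namespace Groth.Agent.Lib.R2H2.RDerLin

section Generic

universe v₁ v₂ u₁ u₂

variable {C : Type u₁} [Category.{v₁} C] [Abelian C] [HasInjectiveResolutions C]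
  {D : Type u₂} [Category.{v₂} D] [Abelian D] (F : C ⥤ D) [F.Additive]
  (ν : 𝟭 C ⟶ 𝟭 C) (μ : 𝟭 D ⟶ 𝟭 D) (hνμ : ∀ M : C, F.map (ν.app M) = μ.app (F.obj M))

/-- a natural endomorphism of the identity, on a complex -/
def cxEnd {ι : Type*} {c : ComplexShape ι} {E : Type*} [Category E] [Preadditive E] (μ : 𝟭 E ⟶ 𝟭 E)
    (K : HomologicalComplex E c) : K ⟶ K where
  f k := μ.app (K.X k)
  comm' i j _ := (μ.naturality (K.d i j)).symm

lemma homologyMap_cxEnd {ι : Type*} {c : ComplexShape ι} (μ : 𝟭 D ⟶ 𝟭 D)
    (K : HomologicalComplex D c) (n : ι) :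
    HomologicalComplex.homologyMap (cxEnd μ K) n = μ.app (K.homology n) := by
  have h1 : HomologicalComplex.cyclesMap (cxEnd μ K) n = μ.app (K.cycles n) := by
    rw [← cancel_mono (K.iCycles n), HomologicalComplex.cyclesMap_i]
    exact (μ.naturality (K.iCycles n))
  rw [← cancel_epi (K.homologyπ n), HomologicalComplex.homologyπ_naturality, h1]
  exact (μ.naturality (K.homologyπ n)).symm

include hνμ in
theorem rightDerived_map_natEnd (n : ℕ) (M : C) :
    (F.rightDerived n).map (ν.app M) = μ.app ((F.rightDerived n).obj M) := by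
  let P := injectiveResolution M
  have w : P.ι ≫ cxEnd ν P.cocomplex = (CochainComplex.single₀ C).map (ν.app M) ≫ P.ι := by
    apply HomologicalComplex.from_single_hom_ext
    simp only [HomologicalComplex.comp_f, CochainComplex.single₀_map_f_zero]
    exact (ν.naturality (P.ι.f 0))
  rw [F.rightDerived_map_eq n (ν.app M) (cxEnd ν P.cocomplex) w]
  have h2 : (F.mapHomologicalComplex _).map (cxEnd ν P.cocomplex) =
      cxEnd μ ((F.mapHomologicalComplex _).obj P.cocomplex) := by
    ext k
    exact hνμ _
  have h3 : (F.mapHomologicalComplex _ ⋙ HomologicalComplex.homologyFunctor _ _ n).map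
      (cxEnd ν P.cocomplex) = μ.app _ := by
    rw [Functor.comp_map, h2]
    exact homologyMap_cxEnd μ _ n
  rw [h3]
  have h4 := μ.naturality (P.isoRightDerivedObj F n).hom
  simp only [Functor.id_map] at h4
  rw [← Category.assoc, h4, Category.assoc, Iso.hom_inv_id, Category.comp_id]

end Generic

section Sch

variable {X Y : Scheme.{u}} (f : X ⟶ Y) [HasInjectiveResolutions X.Modules]

/-- multiplication by a global function, as a natural endomorphism of the identity -/
def smulNat (X : Scheme.{u}) (r : Coh.Γtop X) : 𝟭 X.Modules ⟶ 𝟭 X.Modules where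
  app M := Formal.smulModΓ M r
  naturality _ _ φ := (Groth.Agent.S9530.smulModΓ_comp φ r).symm

/-- **higher direct images are linear over the functions on the base** -/
theorem Rpush_map_smulModΓ (M : X.Modules) (r : Coh.Γtop Y) (p : ℕ) :
    (Coh.Rpush f p).map (Formal.smulModΓ M (f.appTop.hom r)) =
      Formal.smulModΓ ((Coh.Rpush f p).obj M) r :=
  rightDerived_map_natEnd (Scheme.Modules.pushforward f) (smulNat X (f.appTop.hom r)) (smulNat Y r)
    (fun N => Groth.Agent.Lib.Helper20.FormalPull.pushforward_map_smulModΓ f N r) p M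

lemma smulModΓ_app (N : Y.Modules) (r : Coh.Γtop Y) (V : Y.Opens) (t : N.presheaf.obj (op V)) :
    (Formal.smulModΓ N r).app V t =
      (show Γ(Y, V) from Coh.resTop Y (op V) r) • (show Γ(N, V) from t) := rfl

end Sch

end Groth.Agent.Lib.R2H2.RDerLin
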