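import Mathlib
import Groth.Prelude
import Groth.Agent.Lib.R2H2EpsBij
import Groth.Agent.Lib.R2H2HHLin
import Groth.Agent.Lib.R2H2RDerLin
set_option backward.isDefEq.respectTransparency.types false
set_option autoImplicit false
set_option linter.unusedSectionVars false
set_option linter.style.haveILetI false
universe u
open CategoryTheory CategoryTheory.Limits AlgebraicGeometry TopologicalSpace Opposite Abelian
open AlgebraicGeometry.Scheme.Modules CohCmp

noncomputable section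

namespace Groth.Agent.Lib.R2H2.EpsLin

open Groth.Agent.Lib.Helper23.SectCmpLib Groth.Agent.Lib.R2H2.EpsBij Groth.Agent.Lib.R2H2.HHLin

section Delta

variable {X : Scheme.{u}} (U : X.Opens) (S : ShortComplex X.Modules)

/-- multiplication by a function on `U` on the restricted short complex of abelian sheaves -/
def smulSC (r : Coh.Γtop (U : Scheme.{u})) : S.map (toAbOn X U) ⟶ S.map (toAbOn X U) :=
  ShortComplex.homMk (Coh.smulAb (S.X₁.restrict U.ι) r) (Coh.smulAb (S.X₂.restrict U.ι) r)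
    (Coh.smulAb (S.X₃.restrict U.ι) r)
    (smulAb_naturality ((restrictFunctor U.ι).map S.f) r)
    (smulAb_naturality ((restrictFunctor U.ι).map S.g) r)

lemma extδ_smul (hA : (S.map (toAbOn X U)).ShortExact) (q : ℕ) (r : Coh.Γtop (U : Scheme.{u}))
    (x : Coh.HHon X S.X₃ U q) :
    extδ hA q (r • x) = r • (show Coh.HHon X S.X₁ U (q + 1) from extδ hA q x) := by
  change (x.comp (Ext.mk₀ (Coh.smulAb (S.X₃.restrict U.ι) r)) (add_zero q)).comp hA.extClass rfl =
    (x.comp hA.extClass rfl).comp (Ext.mk₀ (Coh.smulAb (S.X₁.restrict U.ι) r)) (add_zero (q + 1))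
  have h := ShortComplex.ShortExact.extClass_naturality hA hA (smulSC U S r)
  rw [Ext.comp_assoc _ _ _ (add_zero q) (zero_add 1) (by omega),
    Ext.comp_assoc _ _ _ rfl (add_zero 1) (by omega)]
  congr 1
  exact h.symm

end Delta

section Sect

variable {X : Scheme.{u}}

/-- `sectH0` is linear over the functions on the open -/
lemma sectH0_smul (M : X.Modules) (U : X.Opens) (a : Γ(X, U)) (s : Γ(M, U)) :
    CohPull.sectH0 M U (a • s) =
      (show Coh.Γtop (U : Scheme.{u}) from U.topIso.inv a) •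
        (show Coh.HHon X M U 0 from CohPull.sectH0 M U s) := by
  change _ = Sheaf.H.map (Coh.smulAb (M.restrict U.ι) (U.topIso.inv a)) 0 (CohPull.sectH0 M U s)
  unfold CohPull.sectH0
  simp only [AddEquiv.trans_apply]
  erw [Sheaf.H.equiv₀_symm_naturality]
  congr 1
  rw [Coh.smulAb_app]
  have h1 : Coh.resTop (U : Scheme.{u}) (op ⊤) (U.topIso.inv a) = U.topIso.inv a := by
    change ((U : Scheme.{u}).ringCatSheaf.obj.map (𝟙 (op ⊤))).hom _ = _
    rw [CategoryTheory.Functor.map_id]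
    rfl
  rw [h1]
  refine (M.val.map_smul (eqToHom U.ι_image_top).op a s).trans ?_
  have h2 : ((U.ι.appIso ⊤).inv (U.topIso.inv a) : Γ(X, U.ι ''ᵁ ⊤)) =
      X.ringCatSheaf.obj.map (eqToHom U.ι_image_top).op a := by
    rw [Scheme.Opens.ι_appIso]
    rfl
  change _ = (show Γ(X, U.ι ''ᵁ ⊤) from (U.ι.appIso ⊤).inv (U.topIso.inv a)) •
    (show Γ(M, U.ι ''ᵁ ⊤) from M.val.map (eqToHom U.ι_image_top).op s)
  rw [h2]
  rfl

end Sect

section Lin

variable {X Y : Scheme.{u}} (f : X ⟶ Y) [HasInjectiveResolutions X.Modules]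
  {Δ : RDer.DerivedLES (pushforward f)} (E : SectCmp f Δ) (V : Y.Opens)

/-- the function on the open subscheme `f⁻¹V` induced by a function on `V` -/
def rTop (r : Γ(Y, V)) : Coh.Γtop ((f ⁻¹ᵁ V : X.Opens) : Scheme.{u}) :=
  (f ⁻¹ᵁ V).topIso.inv (f.app V r)

/-- **The comparison maps are linear over the functions on the open of the base.** -/
theorem eps_smul : ∀ (q : ℕ) (M : X.Modules) (r : Γ(Y, V)) (x : Coh.HHon X M (f ⁻¹ᵁ V) q),
    E.ε V M q (rTop f V r • x) = r • (show Γ((Coh.Rpush f q).obj M, V) from E.ε V M q x)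
  | 0, M, r, x => by
    obtain ⟨s, rfl⟩ := (CohPull.sectH0 M (f ⁻¹ᵁ V)).surjective x
    have h1 := sectH0_smul M (f ⁻¹ᵁ V) (f.app V r) s
    have h2 : E.ε V M 0 (rTop f V r • (CohPull.sectH0 M (f ⁻¹ᵁ V) s)) =
        E.ε V M 0 (CohPull.sectH0 M (f ⁻¹ᵁ V) ((f.app V r : Γ(X, f ⁻¹ᵁ V)) • s)) :=
      congrArg (E.ε V M 0) h1.symm
    rw [h2, E.zero, E.zero]
    exact Scheme.Modules.Hom.app_smul ((pushforward f).toRightDerivedZero.app M) r
      (show Γ((pushforward f).obj M, V) from s)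
  | q + 1, M, r, x => by
    have hS := sesM_shortExact M
    have hA := toAbOn_shortExact (f ⁻¹ᵁ V) (sesM M) hS
    haveI : TopCat.Sheaf.IsFlasque (Coh.toAb (sesM M).X₂) :=
      Groth.Agent.Lib.R2H3.ModLocBridge.isFlasque_toAb_of_injective _
    haveI : TopCat.Sheaf.IsFlasque (Coh.toAb ((sesM M).X₂.restrict (f ⁻¹ᵁ V).ι)) :=
      Groth.Agent.Lib.R2H3.RpushRestrict.isFlasque_toAb_restrict (f ⁻¹ᵁ V).ι _ inferInstance
    have hsub : Subsingleton (Coh.HHon X (sesM M).X₂ (f ⁻¹ᵁ V) (q + 1)) :=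
      Groth.Agent.Lib.Helper16.Flasque.H_subsingleton _ q
    obtain ⟨x', rfl⟩ : ∃ x' : Coh.HHon X (sesM M).X₃ (f ⁻¹ᵁ V) q, extδ hA q x' = x :=
      Ext.covariant_sequence_exact₁ _ hA
        (show Ext _ ((sesM M).map (toAbOn X (f ⁻¹ᵁ V))).X₁ (q + 1) from x) (hsub.elim _ _) rfl
    have h1 := extδ_smul (f ⁻¹ᵁ V) (sesM M) hA q (rTop f V r) x'
    have h2 : E.ε V M (q + 1) (rTop f V r • (show Coh.HHon X M (f ⁻¹ᵁ V) (q + 1) from extδ hA q x')) =
        E.ε V M (q + 1) (extδ hA q (rTop f V r • x')) :=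
      congrArg (E.ε V M (q + 1)) h1.symm
    refine h2.trans ?_
    have d1 := E.delta V (sesM M) hS hA q (rTop f V r • x')
    have d2 := E.delta V (sesM M) hS hA q x'
    refine d1.trans ?_
    rw [eps_smul q (sesM M).X₃ r x']
    refine (Scheme.Modules.Hom.app_smul (Δ.δ (sesM M) hS q (q + 1) rfl) r _).trans ?_
    exact congrArg (fun t : Γ((Coh.Rpush f (q + 1)).obj M, V) => r • t) d2.symm

end Lin

end Groth.Agent.Lib.R2H2.EpsLin
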