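import Mathlib
import Groth.Agent.Lib.Helper3FlatCx
import Groth.Agent.Lib.Helper3FlatCxBT
import Groth.Agent.S2406
import Groth.Agent.S2410
set_option backward.isDefEq.respectTransparency.types false

/-!
# Exactness of all `T_k` from freeness of the homology (helper2, round 2)

`Q` a chain complex of finite flat modules over a Noetherian local ring, zero in degrees `< 1 - b`, with
all `H_k(Q)` free: then every `T_k = H_k(Q ⊗ -)` preserves monomorphisms and epimorphisms, and
`dRank Q k x = finrank H_k(Q)` for all `x`.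
-/

set_option autoImplicit false
set_option linter.unusedSectionVars false
set_option linter.style.haveILetI false
universe u
open CategoryTheory CategoryTheory.Limits MonoidalCategory

noncomputable section

namespace Groth.Agent.Lib.R2H2.ExactFree

open Groth.Agent.Lib.Helper3

variable {A : Type u} [CommRing A]

/-- `T_k = 0` when `Q_k = 0` -/
lemma isZero_T_of_isZero_X (Q : ChainComplex (ModuleCat.{u} A) ℤ) (k : ℤ) (hk : IsZero (Q.X k))
    (M : ModuleCat.{u} A) : IsZero ((CohIII.TFun Q k).obj M) := by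
  have h1 : IsZero ((CohIII.tensorObj Q M).X k) :=
    Functor.map_isZero (tensorRight M) hk
  exact ShortComplex.isZero_homology_of_isZero_X₂ _ h1

/-- a functor with zero values preserves monomorphisms and epimorphisms -/
lemma preserves_of_isZero {C D : Type*} [Category C] [Category D] [HasZeroMorphisms D] (G : C ⥤ D)
    (h : ∀ M, IsZero (G.obj M)) : G.PreservesMonomorphisms ∧ G.PreservesEpimorphisms :=
  ⟨⟨fun {M N} f _ => ⟨fun g g' _ => (h M).eq_of_tgt _ _⟩⟩,
    ⟨fun {M N} f _ => ⟨fun g g' _ => (h N).eq_of_src _ _⟩⟩⟩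

variable [IsNoetherianRing A] [IsLocalRing A]

theorem exact_of_free_homology (Q : ChainComplex (ModuleCat.{u} A) ℤ)
    (hQ : ∀ i, Module.Finite A (Q.X i) ∧ Module.Flat A (Q.X i)) (b : ℕ)
    (hb : ∀ i : ℤ, i < 1 - (b : ℤ) → IsZero (Q.X i))
    (hfree : ∀ k : ℤ, Module.Free A (Q.homology k)) (k : ℤ) :
    (CohIII.TFun Q k).PreservesMonomorphisms ∧ (CohIII.TFun Q k).PreservesEpimorphisms := by
  have hfl : ∀ i, Module.Flat A (Q.X i) := fun i => (hQ i).2
  have hlow : ∀ k : ℤ, k < 1 - (b : ℤ) →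
      (CohIII.TFun Q k).PreservesMonomorphisms ∧ (CohIII.TFun Q k).PreservesEpimorphisms :=
    fun k hk => preserves_of_isZero _ (fun M => isZero_T_of_isZero_X Q k (hb k hk) M)
  have hind : ∀ n : ℕ, (CohIII.TFun Q (-(b : ℤ) + n)).PreservesMonomorphisms ∧
      (CohIII.TFun Q (-(b : ℤ) + n)).PreservesEpimorphisms := by
    intro n
    induction n with
    | zero => exact hlow _ (by push_cast; omega)
    | succ n ih =>
      have h06 := (Groth.Agent.S2406.result Q hfl (-(b : ℤ) + (n + 1 : ℕ)) (-(b : ℤ) + n)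
        (by push_cast; ring)).2 ih.1
      haveI := hfree (-(b : ℤ) + (n + 1 : ℕ))
      have hfr : Module.Free A ((CohIII.TFun Q (-(b : ℤ) + (n + 1 : ℕ))).obj (ModuleCat.of A A)) :=
        Module.Free.of_equiv (TUnitIso Q (-(b : ℤ) + (n + 1 : ℕ))).toLinearEquiv.symm
      exact (Groth.Agent.S2410.result Q hQ (-(b : ℤ) + (n + 1 : ℕ))).2 ⟨h06, hfr⟩
  by_cases hk : k < 1 - (b : ℤ)
  · exact hlow k hk
  · obtain ⟨n, hn⟩ : ∃ n : ℕ, k = -(b : ℤ) + n := ⟨(k + b).toNat, by omega⟩
    rw [hn]
    exact hind n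

theorem dRank_eq_finrank (Q : ChainComplex (ModuleCat.{u} A) ℤ)
    (hQ : ∀ i, Module.Finite A (Q.X i) ∧ Module.Flat A (Q.X i)) (b : ℕ)
    (hb : ∀ i : ℤ, i < 1 - (b : ℤ) → IsZero (Q.X i))
    (hfree : ∀ k : ℤ, Module.Free A (Q.homology k)) (k : ℤ) (x : PrimeSpectrum A) :
    CohIII.dRank Q k x = Module.finrank A (Q.homology k) := by
  have hfl : ∀ i, Module.Flat A (Q.X i) := fun i => (hQ i).2
  have hex := exact_of_free_homology Q hQ b hb hfree k
  haveI : Module.Flat A (Q.opcycles (k - 1)) :=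
    (Groth.Agent.S2410.preservesEpi_iff_flat_opcycles Q hfl k (k - 1) (by ring)).1 hex.2
  haveI : Module.Flat A (Q.X (k - 1)) := hfl _
  haveI := hfree k
  rw [dRank_eq_fd_homology, fd_of_free]

end Groth.Agent.Lib.R2H2.ExactFree
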