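import Mathlib
import Groth.Prelude.Def_ega3
import Groth.Agent.Lib.Helper3FlatCx
import Groth.Agent.Lib.Helper3FlatCxBC
import Groth.Agent.Lib.Helper3FlatCxBT
import Groth.Agent.Lib.R2H2BcTFun
import Groth.Agent.Lib.R2H2ExactFree
import Groth.Agent.S2375
import Groth.Agent.S2380
import Groth.Agent.S2406
import Groth.Agent.S2407
set_option backward.isDefEq.respectTransparency.types false

/-!
# Universal vanishing of `T_k(M) = H_k(Q ⊗ M)` from vanishing at `A` / at the residue fields
(helper2, round 2)

* `isZero_T_of_lt`: `Q` a bounded below chain complex of flat modules with `H_i(Q) = 0` for `i < m`: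
  then `H_i(Q ⊗ M) = 0` for all `M` and `i < m` (ascending induction, right exactness).
* `isZero_T_of_dRank_eq_zero`: `A` Noetherian, `Q` a complex of finite flat modules with
  `H_k(Q ⊗ κ(y)) = 0` for all `y ∈ Spec A`: then `H_k(Q ⊗ M) = 0` for all `M`.
-/

set_option autoImplicit false
set_option linter.unusedSectionVars false
set_option linter.style.haveILetI false
universe u
open CategoryTheory CategoryTheory.Limits MonoidalCategory

noncomputable section

namespace Groth.Agent.Lib.R2H2.AmpVanish

open Groth.Agent.Lib.Helper3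

variable {A : Type u} [CommRing A]

/-- homology of a complex of finite modules over a Noetherian ring is finite -/
lemma finite_homology [IsNoetherianRing A] {ι : Type} {c : ComplexShape ι}
    (P : HomologicalComplex (ModuleCat.{u} A) c) (i : ι) [Module.Finite A (P.X i)] :
    Module.Finite A (P.homology i) := by
  haveI := finite_opcycles P i
  exact Module.Finite.of_injective (P.homologyι i).hom
    ((ModuleCat.mono_iff_injective _).mp inferInstance)

/-- if `T_k ≅ N ⊗ -` then `N ≅ H_k(Q)` -/
def isoHomologyOfTensorLeft {ι : Type} {c : ComplexShape ι}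
    (Q : HomologicalComplex (ModuleCat.{u} A) c) (k : ι) (N : ModuleCat.{u} A)
    (e : CohIII.TFun Q k ≅ tensorLeft N) : N ≅ Q.homology k :=
  (ρ_ N).symm ≪≫ (e.app (ModuleCat.of A A)).symm ≪≫ TUnitIso Q k

lemma isZero_tensorLeft_obj (N : ModuleCat.{u} A) (hN : IsZero N) (M : ModuleCat.{u} A) :
    IsZero ((tensorLeft N).obj M) :=
  Functor.map_isZero (tensorRight M) hN

/-- **ascending induction**: vanishing of the homology of `Q` in low degrees is universal -/
theorem isZero_T_of_lt (Q : ChainComplex (ModuleCat.{u} A) ℤ) (hQ : ∀ i, Module.Flat A (Q.X i))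
    (b : ℤ) (hb : ∀ i : ℤ, i < b → IsZero (Q.X i)) (m : ℤ)
    (hm : ∀ i : ℤ, i < m → IsZero (Q.homology i)) :
    ∀ i : ℤ, i < m → ∀ M : ModuleCat.{u} A, IsZero ((CohIII.TFun Q i).obj M) := by
  have key : ∀ (n : ℕ) (i : ℤ), i < b + n → i < m → ∀ M : ModuleCat.{u} A,
      IsZero ((CohIII.TFun Q i).obj M) := by
    intro n
    induction n with
    | zero =>
      intro i hi _ M
      exact Groth.Agent.Lib.R2H2.ExactFree.isZero_T_of_isZero_X Q i (hb i (by simpa using hi)) M
    | succ n ih =>
      intro i hi him
      by_cases hlt : i < b + n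
      · exact ih i hlt him
      have h1 : ∀ M : ModuleCat.{u} A, IsZero ((CohIII.TFun Q (i - 1)).obj M) :=
        ih (i - 1) (by push_cast at hi; omega) (by omega)
      have h2 : (CohIII.TFun Q (i - 1)).PreservesMonomorphisms :=
        (Groth.Agent.Lib.R2H2.ExactFree.preserves_of_isZero _ h1).1
      have h3 : (CohIII.TFun Q i).PreservesEpimorphisms :=
        (Groth.Agent.S2406.result Q hQ i (i - 1) (by ring)).2 h2
      obtain ⟨N, ⟨e⟩⟩ := (Groth.Agent.S2407.result Q hQ i).1 h3
      have hN : IsZero N := (hm i him).of_iso (isoHomologyOfTensorLeft Q i N e)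
      intro M
      exact (isZero_tensorLeft_obj N hN M).of_iso (e.app M)
  intro i hi M
  by_cases hib : i < b
  · exact key 0 i (by simpa using hib) hi M
  · refine key ((i - b).toNat + 1) i ?_ hi M
    push_cast
    have : ((i - b).toNat : ℤ) = i - b := Int.toNat_of_nonneg (by omega)
    omega


section Low

open Groth.Agent.Lib.R2H2.BcTFun

variable [IsNoetherianRing A] (Q : ChainComplex (ModuleCat.{u} A) ℤ)
  (hQ : ∀ i, Module.Finite A (Q.X i) ∧ Module.Flat A (Q.X i)) (k : ℤ)

lemma finite_bcCx_X (B : Type u) [CommRing B] [Algebra A B] (i : ℤ)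
    [Module.Finite A (Q.X i)] : Module.Finite B ((CohIII.bcCx (algebraMap A B) Q).X i) := by
  exact Module.Finite.equiv (Groth.Agent.S2380.bridge A B (Q.X i)).symm

include hQ in
/-- `T_k(κ(y)) = 0` if `d_k(y) = 0` -/
lemma subsingleton_T_residueField (y : PrimeSpectrum A) (hy : CohIII.dRank Q k y = 0) :
    Subsingleton (CohIII.T Q k ((ModuleCat.restrictScalars.{u}
      (algebraMap A y.asIdeal.ResidueField)).obj
        (ModuleCat.of y.asIdeal.ResidueField y.asIdeal.ResidueField))) := by
  let κ := y.asIdeal.ResidueField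
  haveI := (hQ k).1
  haveI : Module.Finite κ ((CohIII.bcCx (algebraMap A κ) Q).X k) := finite_bcCx_X Q κ k
  haveI : Module.Finite κ ((CohIII.bcCx (algebraMap A κ) Q).homology k) := finite_homology _ k
  haveI h0 : Subsingleton ((CohIII.bcCx (algebraMap A κ) Q).homology k) :=
    (Module.finrank_eq_zero_iff_of_free κ _).1 hy
  haveI h1 : Subsingleton (CohIII.T (CohIII.bcCx (algebraMap A κ) Q) k (ModuleCat.of κ κ)) :=
    (TUnitIso (CohIII.bcCx (algebraMap A κ) Q) k).toLinearEquiv.toEquiv.subsingleton
  exact @Equiv.subsingleton _ _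
    (((TFunBcIso κ Q k).app (ModuleCat.of κ κ)).addCommGroupIsoToAddEquiv).toEquiv h1

/-- an additive equivalence compatible with scalars is an isomorphism of modules -/
def isoOfSmulEq {R : Type u} [Ring R] (X Y : ModuleCat.{u} R) (e : X ≃+ Y)
    (h : ∀ (a : R) (x : X), e (a • x) = a • e x) : X ≅ Y :=
  LinearEquiv.toModuleIso { e with map_smul' := h }

/-- `κ(y)` as an `A_y`-module restricted to `A` is `κ(y)` as an `A`-module -/
def residueIso (y : PrimeSpectrum A) :
    (ModuleCat.restrictScalars.{u} (algebraMap A (Localization.AtPrime y.asIdeal))).obj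
        (ModuleCat.of (Localization.AtPrime y.asIdeal) y.asIdeal.ResidueField) ≅
      (ModuleCat.restrictScalars.{u} (algebraMap A y.asIdeal.ResidueField)).obj
        (ModuleCat.of y.asIdeal.ResidueField y.asIdeal.ResidueField) := by
  refine isoOfSmulEq _ _ (AddEquiv.refl y.asIdeal.ResidueField) ?_
  intro a x
  have h1 := ModuleCat.restrictScalars.smul_def
    (algebraMap A (Localization.AtPrime y.asIdeal))
    (M := ModuleCat.of (Localization.AtPrime y.asIdeal) y.asIdeal.ResidueField) a x
  have h2 := ModuleCat.restrictScalars.smul_def (algebraMap A y.asIdeal.ResidueField)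
    (M := ModuleCat.of y.asIdeal.ResidueField y.asIdeal.ResidueField) a x
  refine h1.trans (Eq.trans ?_ h2.symm)
  rw [IsScalarTower.algebraMap_apply A (Localization.AtPrime y.asIdeal)
    y.asIdeal.ResidueField]
  exact Algebra.smul_def (algebraMap A (Localization.AtPrime y.asIdeal) a)
    (show y.asIdeal.ResidueField from x)

include hQ in
/-- `T_k(Q_y)(κ(y)) = 0` over the local ring `A_y` if `d_k(y) = 0` -/
lemma subsingleton_T_local (y : PrimeSpectrum A) (hy : CohIII.dRank Q k y = 0) :
    Subsingleton (CohIII.T (CohIII.bcCx (algebraMap A (Localization.AtPrime y.asIdeal)) Q) k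
      (ModuleCat.of (Localization.AtPrime y.asIdeal)
        (IsLocalRing.ResidueField (Localization.AtPrime y.asIdeal)))) := by
  have h0 := subsingleton_T_residueField Q hQ k y hy
  have h1 : Subsingleton (CohIII.T Q k ((ModuleCat.restrictScalars.{u}
      (algebraMap A (Localization.AtPrime y.asIdeal))).obj
        (ModuleCat.of (Localization.AtPrime y.asIdeal) y.asIdeal.ResidueField))) :=
    @Equiv.subsingleton _ _
      ((CohIII.TFun Q k).mapIso (residueIso y)).toLinearEquiv.toEquiv h0
  exact @Equiv.subsingleton _ _ (((TFunBcIso (Localization.AtPrime y.asIdeal) Q k).app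
    (ModuleCat.of (Localization.AtPrime y.asIdeal)
      y.asIdeal.ResidueField)).addCommGroupIsoToAddEquiv).symm.toEquiv h1

end Low

/-- `B ⊗_A N = 0` if `N ⊗_A B_A = 0` -/
lemma subsingleton_tensor_of_tensorLeft (B : Type u) [CommRing B] [Algebra A B]
    (N : ModuleCat.{u} A)
    (h : Subsingleton ((tensorLeft N).obj ((ModuleCat.restrictScalars.{u} (algebraMap A B)).obj
      (ModuleCat.of B B)))) : Subsingleton (TensorProduct A B N) := by
  let eA : ((ModuleCat.restrictScalars.{u} (algebraMap A B)).obj (ModuleCat.of B B)) ≃ₗ[A] B :=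
    { toFun := fun x => x
      invFun := fun x => x
      left_inv := fun _ => rfl
      right_inv := fun _ => rfl
      map_add' := fun _ _ => rfl
      map_smul' := fun r x => (Algebra.smul_def r (show B from x)).symm }
  have h' : Subsingleton (TensorProduct A N
      ((ModuleCat.restrictScalars.{u} (algebraMap A B)).obj (ModuleCat.of B B))) := h
  exact @Equiv.subsingleton _ _
    ((TensorProduct.comm A B N).trans (TensorProduct.congr (LinearEquiv.refl A N) eA.symm)).toEquiv
    h'

section Low2

variable [IsNoetherianRing A] (Q : ChainComplex (ModuleCat.{u} A) ℤ)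
  (hQ : ∀ i, Module.Finite A (Q.X i) ∧ Module.Flat A (Q.X i)) (k : ℤ)

include hQ in
/-- the local freeness of the opcycles from fibrewise vanishing -/
theorem flat_opcycles_of_dRank_eq_zero (h : ∀ y : PrimeSpectrum A, CohIII.dRank Q k y = 0) :
    Module.Flat A (Q.opcycles (k - 1)) := by
  haveI := (hQ (k - 1)).1
  haveI := finite_opcycles Q (k - 1)
  haveI : Module.FinitePresentation A (Q.opcycles (k - 1)) :=
    Module.finitePresentation_of_finite A _
  have hloc : ∀ y, y ∈ Module.freeLocus A (Q.opcycles (k - 1)) := by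
    intro y
    rw [← flat_bcCx_opcycles_atPrime_iff Q (k - 1) y]
    haveI : IsNoetherianRing (Localization.AtPrime y.asIdeal) :=
      IsLocalization.isNoetherianRing y.asIdeal.primeCompl _ inferInstance
    have hP' : ∀ i, Module.Finite (Localization.AtPrime y.asIdeal)
          ((CohIII.bcCx (algebraMap A (Localization.AtPrime y.asIdeal)) Q).X i) ∧
        Module.Flat (Localization.AtPrime y.asIdeal)
          ((CohIII.bcCx (algebraMap A (Localization.AtPrime y.asIdeal)) Q).X i) := fun i =>
      ⟨by haveI := (hQ i).1; exact finite_bcCx_X Q _ i,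
        flat_bcCx_X _ Q (fun i => (hQ i).2) i⟩
    have hsub := subsingleton_T_local Q hQ k y (h y)
    haveI := free_opcycles_of_surjective
      (CohIII.bcCx (algebraMap A (Localization.AtPrime y.asIdeal)) Q) hP' k (k - 1)
      (show k - 1 + 1 = k by ring) (fun z => ⟨0, @Subsingleton.elim _ hsub _ _⟩)
    exact Module.Flat.of_free
  haveI : Module.Projective A (Q.opcycles (k - 1)) :=
    Module.freeLocus_eq_univ_iff.1 (Set.eq_univ_of_forall hloc)
  infer_instance

include hQ in
/-- **fibrewise vanishing is universal vanishing** -/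
theorem isZero_T_of_dRank_eq_zero (h : ∀ y : PrimeSpectrum A, CohIII.dRank Q k y = 0)
    (M : ModuleCat.{u} A) : IsZero ((CohIII.TFun Q k).obj M) := by
  have hfl : ∀ i, Module.Flat A (Q.X i) := fun i => (hQ i).2
  have h1 := flat_opcycles_of_dRank_eq_zero Q hQ k h
  have h2 : (CohIII.TFun Q (k - 1)).PreservesMonomorphisms :=
    (Groth.Agent.S2375.result Q hfl (k - 1)).2 h1
  have h3 : (CohIII.TFun Q k).PreservesEpimorphisms :=
    (Groth.Agent.S2406.result Q hfl k (k - 1) (by ring)).2 h2
  obtain ⟨N, ⟨e⟩⟩ := (Groth.Agent.S2407.result Q hfl k).1 h3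
  haveI := (hQ k).1
  haveI := finite_homology Q k
  haveI : Module.Finite A N :=
    Module.Finite.equiv (isoHomologyOfTensorLeft Q k N e).symm.toLinearEquiv
  have hsupp : Module.support A N = ∅ := by
    rw [Set.eq_empty_iff_forall_notMem]
    intro y
    rw [Module.mem_support_iff_nontrivial_residueField_tensorProduct,
      not_nontrivial_iff_subsingleton]
    apply subsingleton_tensor_of_tensorLeft
    exact @Equiv.subsingleton _ _
      (e.app ((ModuleCat.restrictScalars.{u} (algebraMap A y.asIdeal.ResidueField)).obj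
        (ModuleCat.of y.asIdeal.ResidueField y.asIdeal.ResidueField))).symm.toLinearEquiv.toEquiv
      (subsingleton_T_residueField Q hQ k y (h y))
  have hN : Subsingleton N := Module.support_eq_empty_iff.1 hsupp
  exact (isZero_tensorLeft_obj N (ModuleCat.isZero_of_subsingleton N) M).of_iso (e.app M)

end Low2

end Groth.Agent.Lib.R2H2.AmpVanish
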