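import Mathlib
import Groth.Prelude.Def_ega3
import Groth.Agent.Lib.Helper3FlatCx
import Groth.Agent.Lib.Helper3FlatCxBC
import Groth.Agent.Lib.Helper3FlatCxBT
import Groth.Agent.Lib.R2H2BcTFun
import Groth.Agent.Lib.R2H2ExactFree
import Groth.Agent.Lib.R2H2AmpVanish
import Groth.Agent.S2375
import Groth.Agent.S2406
import Groth.Agent.S2440
set_option backward.isDefEq.respectTransparency.types false

/-!
# Base change of a Grothendieck complex: vanishing and local freeness of the homology (helper2, round 2)

`A` Noetherian, `Q` a chain complex of finite flat `A`-modules, `a ∈ A`, `B` an `A`-algebra in which `a` is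
invertible.

* `bcCxCompIso`: transitivity of base change of complexes;
* `subsingleton_homology_bc_of_dRank`: if `d_k = 0` on `D(a)` then `H_k(Q ⊗_A B) = 0`;
* `finite_projective_homology_bc`: if `T_{k-1}` and `T_{k+1}` vanish universally over `A_a` then
  `H_k(Q ⊗_A B)` is a finite projective `B`-module.
-/

set_option autoImplicit false
set_option linter.unusedSectionVars false
set_option linter.style.haveILetI false
universe u
open CategoryTheory CategoryTheory.Limits MonoidalCategory

noncomputable section

namespace Groth.Agent.Lib.R2H2.BcAlg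

open Groth.Agent.Lib.Helper3 Groth.Agent.Lib.R2H2.BcTFun Groth.Agent.Lib.R2H2.AmpVanish

section Comp

variable {R₁ R₂ R₃ : Type u} [CommRing R₁] [CommRing R₂] [CommRing R₃]
  {ι : Type} {c : ComplexShape ι}

/-- transitivity of base change of complexes -/
def bcCxCompIso (f₁₂ : R₁ →+* R₂) (f₂₃ : R₂ →+* R₃)
    (Q : HomologicalComplex (ModuleCat.{u} R₁) c) :
    CohIII.bcCx (f₂₃.comp f₁₂) Q ≅ CohIII.bcCx f₂₃ (CohIII.bcCx f₁₂ Q) :=
  (NatIso.mapHomologicalComplex (ModuleCat.extendScalarsComp f₁₂ f₂₃) c).app Q ≪≫
    HomologicalComplex.Hom.isoOfComponents (fun i => Iso.refl _) (fun i j _ => by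
      exact (Category.id_comp _).trans (Category.comp_id _).symm)

/-- base change along equal ring maps -/
def bcCxCongr {f g : R₁ →+* R₂} (h : f = g) (Q : HomologicalComplex (ModuleCat.{u} R₁) c) :
    CohIII.bcCx f Q ≅ CohIII.bcCx g Q := eqToIso (by rw [h])

end Comp

section Van

variable {A : Type u} [CommRing A] [IsNoetherianRing A] (Q : ChainComplex (ModuleCat.{u} A) ℤ)
  (hQ : ∀ i, Module.Finite A (Q.X i) ∧ Module.Flat A (Q.X i))

include hQ in
/-- finite flat terms are preserved by base change -/
lemma finite_flat_bcCx (A' : Type u) [CommRing A'] [Algebra A A'] (i : ℤ) :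
    Module.Finite A' ((CohIII.bcCx (algebraMap A A') Q).X i) ∧
      Module.Flat A' ((CohIII.bcCx (algebraMap A A') Q).X i) :=
  ⟨by haveI := (hQ i).1; exact finite_bcCx_X Q A' i, flat_bcCx_X A' Q (fun i => (hQ i).2) i⟩

omit [IsNoetherianRing A] in
/-- universal vanishing is inherited by base changes -/
theorem isZero_T_bcCx_of_isZero_T (k : ℤ)
    (h : ∀ M : ModuleCat.{u} A, IsZero ((CohIII.TFun Q k).obj M))
    (A' : Type u) [CommRing A'] [Algebra A A'] (M' : ModuleCat.{u} A') :
    IsZero ((CohIII.TFun (CohIII.bcCx (algebraMap A A') Q) k).obj M') := by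
  have h1 : Subsingleton (CohIII.T Q k ((ModuleCat.restrictScalars.{u} (algebraMap A A')).obj M')) :=
    ModuleCat.subsingleton_of_isZero (h _)
  have h2 : Subsingleton (CohIII.T (CohIII.bcCx (algebraMap A A') Q) k M') :=
    @Equiv.subsingleton _ _
      (((TFunBcIso A' Q k).app M').addCommGroupIsoToAddEquiv).symm.toEquiv h1
  exact @ModuleCat.isZero_of_subsingleton _ _ _ h2

omit [IsNoetherianRing A] in
/-- universal vanishing of `T_k` kills the homology of every base change -/
theorem subsingleton_homology_bcCx_of_isZero_T (k : ℤ)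
    (h : ∀ M : ModuleCat.{u} A, IsZero ((CohIII.TFun Q k).obj M))
    (B : Type u) [CommRing B] [Algebra A B] :
    Subsingleton ((CohIII.bcCx (algebraMap A B) Q).homology k) := by
  have h1 : Subsingleton (CohIII.T (CohIII.bcCx (algebraMap A B) Q) k (ModuleCat.of B B)) :=
    ModuleCat.subsingleton_of_isZero (isZero_T_bcCx_of_isZero_T Q k h B _)
  exact @Equiv.subsingleton _ _
    (TUnitIso (CohIII.bcCx (algebraMap A B) Q) k).toLinearEquiv.symm.toEquiv h1

include hQ in
/-- **vanishing on `D(a)` is universal vanishing over `A_a`** -/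
theorem isZero_T_away_of_dRank (k : ℤ) (a : A)
    (h : ∀ y : PrimeSpectrum A, a ∉ y.asIdeal → CohIII.dRank Q k y = 0)
    (M' : ModuleCat.{u} (Localization.Away a)) :
    IsZero ((CohIII.TFun (CohIII.bcCx (algebraMap A (Localization.Away a)) Q) k).obj M') := by
  haveI : IsNoetherianRing (Localization.Away a) :=
    IsLocalization.isNoetherianRing (Submonoid.powers a) _ inferInstance
  refine isZero_T_of_dRank_eq_zero _ (finite_flat_bcCx Q hQ (Localization.Away a)) k
    (fun y' => ?_) M'
  rw [Groth.Agent.S2440.result Q (fun i => (hQ i).2) k y']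
  apply h
  intro hmem
  have h1 : algebraMap A (Localization.Away a) a ∈ y'.asIdeal := hmem
  exact y'.2.ne_top (Ideal.eq_top_of_isUnit_mem _ h1 (IsLocalization.Away.algebraMap_isUnit a))

include hQ in
/-- **exactness of `T_k` gives finite projective homology after every base change** -/
theorem finite_projective_homology_bcCx (k : ℤ)
    (hlo : ∀ M : ModuleCat.{u} A, IsZero ((CohIII.TFun Q (k - 1)).obj M))
    (hhi : ∀ M : ModuleCat.{u} A, IsZero ((CohIII.TFun Q (k + 1)).obj M))
    (B : Type u) [CommRing B] [Algebra A B] :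
    Module.Finite B ((CohIII.bcCx (algebraMap A B) Q).homology k) ∧
      Module.Projective B ((CohIII.bcCx (algebraMap A B) Q).homology k) := by
  have hfl : ∀ i, Module.Flat A (Q.X i) := fun i => (hQ i).2
  have hm1 : (CohIII.TFun Q (k - 1)).PreservesMonomorphisms :=
    (Groth.Agent.Lib.R2H2.ExactFree.preserves_of_isZero _ hlo).1
  have hmk : (CohIII.TFun Q k).PreservesMonomorphisms :=
    (Groth.Agent.S2406.result Q hfl (k + 1) k rfl).1
      (Groth.Agent.Lib.R2H2.ExactFree.preserves_of_isZero _ hhi).2
  haveI hf0 : Module.Flat A (Q.opcycles k) := (Groth.Agent.S2375.result Q hfl k).1 hmk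
  haveI hf1 : Module.Flat A (Q.opcycles (k - 1)) := (Groth.Agent.S2375.result Q hfl (k - 1)).1 hm1
  haveI := hfl (k - 1)
  haveI hfh : Module.Flat A (Q.homology k) :=
    (flat_opcycles_iff_flat_homology Q k (k - 1) (show k - 1 + 1 = k by ring)).1 hf0
  haveI := (hQ k).1
  haveI : Module.Finite A (Q.homology k) := finite_homology Q k
  haveI : Module.FinitePresentation A (Q.homology k) := Module.finitePresentation_of_finite A _
  haveI : Module.Projective A (Q.homology k) := Module.Flat.projective_of_finitePresentation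
  obtain ⟨e⟩ := nonempty_bcHomologyEquiv B Q k (k - 1) (show k - 1 + 1 = k by ring)
  exact ⟨Module.Finite.equiv e.symm, Module.Projective.of_equiv e.symm⟩

end Van

section Away

variable {A : Type u} [CommRing A] [IsNoetherianRing A] (Q : ChainComplex (ModuleCat.{u} A) ℤ)
  (hQ : ∀ i, Module.Finite A (Q.X i) ∧ Module.Flat A (Q.X i))
  (a : A) (B : Type u) [CommRing B] [Algebra A B] (ha : IsUnit (algebraMap A B a))

/-- the `A_a`-algebra structure of an `A`-algebra in which `a` is invertible -/
@[reducible] def awayAlgebra : Algebra (Localization.Away a) B :=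
  (IsLocalization.Away.lift a ha).toAlgebra

omit [IsNoetherianRing A] in
lemma algebraMap_eq_comp_away :
    algebraMap A B = (@algebraMap (Localization.Away a) B _ _ (awayAlgebra a B ha)).comp
      (algebraMap A (Localization.Away a)) :=
  (IsLocalization.Away.lift_comp a ha).symm

/-- base change to `B` factors through `A_a` -/
def bcCxAwayIso : CohIII.bcCx (algebraMap A B) Q ≅
    CohIII.bcCx (@algebraMap (Localization.Away a) B _ _ (awayAlgebra a B ha))
      (CohIII.bcCx (algebraMap A (Localization.Away a)) Q) :=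
  bcCxCongr (algebraMap_eq_comp_away a B ha) Q ≪≫ bcCxCompIso _ _ Q

include hQ ha in
/-- **vanishing of the fibre ranks on `D(a)` kills `H_k(Q ⊗_A B)`** for `a` invertible in `B` -/
theorem subsingleton_homology_bcCx_of_dRank (k : ℤ)
    (h : ∀ y : PrimeSpectrum A, a ∉ y.asIdeal → CohIII.dRank Q k y = 0) :
    Subsingleton ((CohIII.bcCx (algebraMap A B) Q).homology k) := by
  letI := awayAlgebra a B ha
  have h1 := subsingleton_homology_bcCx_of_isZero_T
    (CohIII.bcCx (algebraMap A (Localization.Away a)) Q) k
    (isZero_T_away_of_dRank Q hQ k a h) B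
  exact @Equiv.subsingleton _ _
    ((HomologicalComplex.homologyFunctor _ _ k).mapIso
      (bcCxAwayIso Q a B ha)).toLinearEquiv.toEquiv h1

include hQ ha in
/-- **exactness of `T_k` over `A_a` gives finite projective `H_k(Q ⊗_A B)`** for `a` invertible in `B` -/
theorem finite_projective_homology_bcCx_away (k : ℤ)
    (hlo : ∀ M : ModuleCat.{u} (Localization.Away a),
      IsZero ((CohIII.TFun (CohIII.bcCx (algebraMap A (Localization.Away a)) Q) (k - 1)).obj M))
    (hhi : ∀ M : ModuleCat.{u} (Localization.Away a),
      IsZero ((CohIII.TFun (CohIII.bcCx (algebraMap A (Localization.Away a)) Q) (k + 1)).obj M)) :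
    Module.Finite B ((CohIII.bcCx (algebraMap A B) Q).homology k) ∧
      Module.Projective B ((CohIII.bcCx (algebraMap A B) Q).homology k) := by
  letI := awayAlgebra a B ha
  haveI : IsNoetherianRing (Localization.Away a) :=
    IsLocalization.isNoetherianRing (Submonoid.powers a) _ inferInstance
  obtain ⟨h1, h2⟩ := finite_projective_homology_bcCx
    (CohIII.bcCx (algebraMap A (Localization.Away a)) Q)
    (finite_flat_bcCx Q hQ (Localization.Away a)) k hlo hhi B
  let e : (CohIII.bcCx (algebraMap A B) Q).homology k ≃ₗ[B]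
      (CohIII.bcCx (algebraMap (Localization.Away a) B)
        (CohIII.bcCx (algebraMap A (Localization.Away a)) Q)).homology k :=
    ((HomologicalComplex.homologyFunctor _ _ k).mapIso (bcCxAwayIso Q a B ha)).toLinearEquiv
  exact ⟨Module.Finite.equiv e.symm, Module.Projective.of_equiv' e.symm⟩

end Away

end Groth.Agent.Lib.R2H2.BcAlg
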