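import Mathlib

/-!
# Algebra behind `δ : P^{n+n'} → P^{n'}(P^n)` (helper3, round 2)

* `sup_pow_succ_le`: `(I ⊔ J)^(a+b+1) ≤ I^(a+1) ⊔ J^(b+1)`.
* `rho_eq_zero`: a ring map `ρ : R → N' ⊗[B] N` out of a "pushout ring" `R` (generated by `p₁ b * p₂ c`, with
  a common retraction `μ` of `p₁`, `p₂`) that is `ν' ∘ p₁` on the left and `ν ∘ p₂` on the right, kills
  `(ker μ)^(n+n'+1)` as soon as `ν'` kills `(ker μ)^(n'+1)` and `ν` kills `(ker μ)^(n+1)`.
-/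

set_option autoImplicit false
universe u

open TensorProduct

namespace Groth.Agent.Lib.R2H3.DeltaAlg

theorem sup_pow_succ_le {R : Type*} [CommSemiring R] (I J : Ideal R) (a b : ℕ) :
    (I ⊔ J) ^ (a + b + 1) ≤ I ^ (a + 1) ⊔ J ^ (b + 1) := by
  rw [← Ideal.add_eq_sup, ← Ideal.add_eq_sup, add_pow, Ideal.sum_eq_sup]
  apply Finset.sup_le
  intro i hi
  by_cases hn : a + 1 ≤ i
  · exact (Ideal.mul_le_left.trans (Ideal.mul_le_left.trans
      ((Ideal.pow_le_pow_right hn).trans le_sup_left)))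
  · refine (Ideal.mul_le_left.trans (Ideal.mul_le_right.trans
      ((Ideal.pow_le_pow_right ?_).trans le_sup_right)))
    lia

section main

variable {B R N' N : Type u} [CommRing B] [CommRing R] [CommRing N'] [CommRing N]
  [Algebra B N'] [Algebra B N]
  (p₁ p₂ : B →+* R) (μ : R →+* B) (hμ₁ : ∀ b, μ (p₁ b) = b) (hμ₂ : ∀ b, μ (p₂ b) = b)
  (hgen : ∀ r : R, r ∈ AddSubmonoid.closure {x : R | ∃ y z, x = p₁ y * p₂ z})

include hμ₁ hμ₂ hgen in
theorem ker_le_span : RingHom.ker μ ≤ Ideal.span (Set.range fun b => p₁ b - p₂ b) := by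
  have key : ∀ r : R, r - p₁ (μ r) ∈ Ideal.span (Set.range fun b => p₁ b - p₂ b) := by
    intro r
    induction hgen r using AddSubmonoid.closure_induction with
    | mem x hx =>
      obtain ⟨y, z, rfl⟩ := hx
      have e : p₁ y * p₂ z - p₁ (μ (p₁ y * p₂ z)) = -(p₁ y) * (p₁ z - p₂ z) := by
        rw [map_mul, hμ₁, hμ₂, map_mul]; ring
      rw [e]
      exact Ideal.mul_mem_left _ _ (Ideal.subset_span ⟨z, rfl⟩)
    | zero =>
      rw [map_zero, map_zero, sub_zero]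
      exact Ideal.zero_mem _
    | add x y _ _ hx hy =>
      have e : x + y - p₁ (μ (x + y)) = (x - p₁ (μ x)) + (y - p₁ (μ y)) := by
        rw [map_add, map_add]; ring
      rw [e]
      exact Ideal.add_mem _ hx hy
  intro r hr
  have h := key r
  rwa [(RingHom.mem_ker).1 hr, map_zero, sub_zero] at h

variable (ν' : R →+* N') (ν : R →+* N) (n n' : ℕ)
  (hν' : ∀ r ∈ RingHom.ker μ ^ (n' + 1), ν' r = 0)
  (hν : ∀ r ∈ RingHom.ker μ ^ (n + 1), ν r = 0)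
  (h2' : ∀ b, ν' (p₂ b) = algebraMap B N' b)
  (h1 : ∀ b, ν (p₁ b) = algebraMap B N b)
  (ρ : R →+* N' ⊗[B] N)
  (hρ₁ : ∀ b, ρ (p₁ b) = ν' (p₁ b) ⊗ₜ[B] (1 : N))
  (hρ₂ : ∀ c, ρ (p₂ c) = (1 : N') ⊗ₜ[B] ν (p₂ c))

include hμ₁ hμ₂ hgen hν' hν h2' h1 hρ₁ hρ₂ in
theorem rho_eq_zero (r : R) (hr : r ∈ RingHom.ker μ ^ (n + n' + 1)) : ρ r = 0 := by
  let iL : N' →+* N' ⊗[B] N := Algebra.TensorProduct.includeLeftRingHom
  let iR : N →+* N' ⊗[B] N := (Algebra.TensorProduct.includeRight : N →ₐ[B] N' ⊗[B] N).toRingHom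
  have hiL : ∀ x, iL x = x ⊗ₜ[B] (1 : N) := fun _ => rfl
  have hiR : ∀ y, iR y = (1 : N') ⊗ₜ[B] y := fun _ => rfl
  have hI := ker_le_span p₁ p₂ μ hμ₁ hμ₂ hgen
  have hmap : (RingHom.ker μ).map ρ ≤
      ((RingHom.ker μ).map ν').map iL ⊔ ((RingHom.ker μ).map ν).map iR := by
    refine (Ideal.map_mono hI).trans ?_
    rw [Ideal.map_span, Ideal.span_le]
    rintro _ ⟨_, ⟨b, rfl⟩, rfl⟩
    have hker : p₁ b - p₂ b ∈ RingHom.ker μ := by
      rw [RingHom.mem_ker, map_sub, hμ₁, hμ₂, sub_self]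
    have hbal : (algebraMap B N' b ⊗ₜ[B] (1 : N)) = (1 : N') ⊗ₜ[B] algebraMap B N b := by
      rw [Algebra.algebraMap_eq_smul_one, Algebra.algebraMap_eq_smul_one, TensorProduct.smul_tmul]
    have e : ρ (p₁ b - p₂ b) = iL (ν' (p₁ b - p₂ b)) + iR (ν (p₁ b - p₂ b)) := by
      rw [map_sub, hρ₁, hρ₂, map_sub, map_sub, map_sub, map_sub, h2', h1, hiL, hiL, hiR, hiR, hbal]
      abel
    change ρ (p₁ b - p₂ b) ∈ _
    rw [e]
    exact Ideal.add_mem _
      (Ideal.mem_sup_left (Ideal.mem_map_of_mem _ (Ideal.mem_map_of_mem _ hker)))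
      (Ideal.mem_sup_right (Ideal.mem_map_of_mem _ (Ideal.mem_map_of_mem _ hker)))
  have h3 : ρ r ∈ ((RingHom.ker μ).map ρ) ^ (n + n' + 1) := by
    rw [← Ideal.map_pow]
    exact Ideal.mem_map_of_mem _ hr
  have h4 := Ideal.pow_right_mono hmap (n + n' + 1) h3
  have h5 : n + n' + 1 = n' + n + 1 := by ring
  rw [h5] at h4
  have h6 := sup_pow_succ_le _ _ n' n h4
  have h7 : (((RingHom.ker μ).map ν').map iL) ^ (n' + 1) = ⊥ := by
    rw [← Ideal.map_pow, ← Ideal.map_pow, eq_bot_iff, Ideal.map_le_iff_le_comap,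
      Ideal.map_le_iff_le_comap]
    intro x hx
    rw [Ideal.mem_comap, Ideal.mem_comap, hν' x hx, map_zero]
    exact Ideal.zero_mem _
  have h8 : (((RingHom.ker μ).map ν).map iR) ^ (n + 1) = ⊥ := by
    rw [← Ideal.map_pow, ← Ideal.map_pow, eq_bot_iff, Ideal.map_le_iff_le_comap,
      Ideal.map_le_iff_le_comap]
    intro x hx
    rw [Ideal.mem_comap, Ideal.mem_comap, hν x hx, map_zero]
    exact Ideal.zero_mem _
  rw [h7, h8, sup_bot_eq] at h6
  exact (Ideal.mem_bot).1 h6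

end main

end Groth.Agent.Lib.R2H3.DeltaAlg
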