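import Mathlib

/-!
# Base change of quotients by powers of the augmentation ideal (helper3, round 2)

Setting: a pushout square of commutative rings `B → B'`, `B → R`, `R → R'`, `B' → R'` (`R' = B' ⊗[B] R`).

* `lam` : the canonical iso `B' ⊗[B] R ≃ₗ[B'] R'`.
* `lTensor_eq_zero_of_lam_mem_map` : for a `B`-linear `κ : R → M` vanishing on an ideal `K`, `B' ⊗ κ` vanishes
  on every `w` with `lam w ∈ K·R'`.
* `ker_eq_map_of_retraction` : if `δ : R → B`, `δ' : R' → B'` are compatible retractions of the structure maps
  then `ker δ' = (ker δ)·R'`.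
* `bijective_of_pushout` : the induced map `B' ⊗[B] M → M'` is bijective when `M = R/K`, `M' = R'/K·R'`.
-/

set_option autoImplicit false
set_option linter.style.haveILetI false
universe u

namespace Groth.Agent.Lib.R2H3.PnBC

open TensorProduct

section alg

variable {B B' R R' : Type u} [CommRing B] [CommRing B'] [CommRing R] [CommRing R']
  [Algebra B B'] [Algebra B R] [Algebra B' R'] [Algebra R R'] [Algebra B R']
  [IsScalarTower B B' R'] [IsScalarTower B R R'] [Algebra.IsPushout B B' R R']

variable (B B' R R') in
/-- the canonical iso `B' ⊗[B] R ≃ R'` -/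
noncomputable def lam : B' ⊗[B] R ≃ₗ[B'] R' :=
  (Algebra.IsPushout.out (R := B) (S := B') (R' := R) (S' := R')).equiv

theorem lam_tmul (s : B') (m : R) : lam B B' R R' (s ⊗ₜ m) = s • algebraMap R R' m :=
  IsBaseChange.equiv_tmul _ s m

variable (B B') in
/-- multiplication by `r` on the right factor, `B'`-linear -/
noncomputable def mu (r : R) : B' ⊗[B] R →ₗ[B'] B' ⊗[B] R :=
  LinearMap.baseChange B' (LinearMap.mulLeft B r)

theorem mu_tmul (r : R) (s : B') (m : R) : mu B B' r (s ⊗ₜ m) = s ⊗ₜ (r * m) := rfl

theorem lam_mu (r : R) (v : B' ⊗[B] R) :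
    lam B B' R R' (mu B B' r v) = algebraMap R R' r * lam B B' R R' v := by
  induction v using TensorProduct.induction_on with
  | zero => simp
  | tmul s m => rw [mu_tmul, lam_tmul, lam_tmul, map_mul, mul_smul_comm]
  | add x y hx hy => rw [map_add, map_add, hx, hy, map_add, mul_add]

theorem lam_symm_mul (r : R) (a : R') :
    (lam B B' R R').symm (algebraMap R R' r * a) = mu B B' r ((lam B B' R R').symm a) := by
  rw [LinearEquiv.symm_apply_eq, lam_mu, LinearEquiv.apply_symm_apply]

theorem mu_mu (r r' : R) (v : B' ⊗[B] R) : mu B B' r (mu B B' r' v) = mu B B' (r * r') v := by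
  induction v using TensorProduct.induction_on with
  | zero => simp
  | tmul s m => rw [mu_tmul, mu_tmul, mu_tmul, mul_assoc]
  | add x y hx hy => rw [map_add, map_add, map_add, hx, hy]

theorem mu_one (v : B' ⊗[B] R) : mu B B' (1 : R) v = v := by
  induction v using TensorProduct.induction_on with
  | zero => simp
  | tmul s m => rw [mu_tmul, one_mul]
  | add x y hx hy => rw [map_add, hx, hy]

theorem lTensor_eq_zero_of_lam_mem_map {M : Type u} [AddCommGroup M] [Module B M]
    (κ : R →ₗ[B] M) (K : Ideal R) (hK : ∀ r ∈ K, κ r = 0) (w : B' ⊗[B] R)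
    (hw : lam B B' R R' w ∈ K.map (algebraMap R R')) : LinearMap.lTensor B' κ w = 0 := by
  have key : ∀ a ∈ K.map (algebraMap R R'), ∀ r : R,
      LinearMap.baseChange B' κ (mu B B' r ((lam B B' R R').symm a)) = 0 := by
    intro a ha
    unfold Ideal.map at ha
    induction ha using Submodule.span_induction with
    | mem y hy =>
      obtain ⟨x, hx, rfl⟩ := hy
      intro r
      have h1 : (lam B B' R R').symm (algebraMap R R' x) = (1 : B') ⊗ₜ[B] x := by
        rw [LinearEquiv.symm_apply_eq, lam_tmul, one_smul]
      rw [h1, mu_tmul, LinearMap.baseChange_tmul, hK _ (K.mul_mem_left r hx), TensorProduct.tmul_zero]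
    | zero =>
      intro r
      rw [map_zero, map_zero, map_zero]
    | add a b _ _ iha ihb =>
      intro r
      rw [map_add, map_add, map_add, iha r, ihb r, add_zero]
    | smul c a _ iha =>
      intro r
      obtain ⟨wc, rfl⟩ := (lam B B' R R').surjective c
      rw [smul_eq_mul]
      induction wc using TensorProduct.induction_on with
      | zero => rw [map_zero, zero_mul, map_zero, map_zero, map_zero]
      | tmul s m =>
        rw [lam_tmul, smul_mul_assoc, map_smul, lam_symm_mul, map_smul, mu_mu, map_smul, iha,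
          smul_zero]
      | add x y hx hy =>
        rw [map_add, add_mul, map_add, map_add, map_add, hx, hy, add_zero]
  have h := key _ hw 1
  rw [LinearEquiv.symm_apply_apply, mu_one] at h
  exact h

/-- compatible retractions: `ker δ' = (ker δ) R'` -/
theorem ker_eq_map_of_retraction (δ : R →+* B) (δ' : R' →+* B')
    (hδ : ∀ b, δ (algebraMap B R b) = b) (hδ' : ∀ b', δ' (algebraMap B' R' b') = b')
    (hcomm : ∀ r, δ' (algebraMap R R' r) = algebraMap B B' (δ r)) :
    RingHom.ker δ' = (RingHom.ker δ).map (algebraMap R R') := by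
  apply le_antisymm
  · have key : ∀ w : B' ⊗[B] R, lam B B' R R' w - algebraMap B' R' (δ' (lam B B' R R' w)) ∈
        (RingHom.ker δ).map (algebraMap R R') := by
      intro w
      induction w using TensorProduct.induction_on with
      | zero =>
        rw [map_zero, map_zero, map_zero, sub_zero]
        exact Ideal.zero_mem _
      | tmul s m =>
        have h1 : lam B B' R R' (s ⊗ₜ m) - algebraMap B' R' (δ' (lam B B' R R' (s ⊗ₜ m))) =
            algebraMap B' R' s * algebraMap R R' (m - algebraMap B R (δ m)) := by
          rw [lam_tmul, Algebra.smul_def, map_mul, hδ', hcomm, map_mul, map_sub, mul_sub,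
            ← IsScalarTower.algebraMap_apply B R R', ← IsScalarTower.algebraMap_apply B B' R']
        rw [h1]
        refine Ideal.mul_mem_left _ _ (Ideal.mem_map_of_mem _ ?_)
        rw [RingHom.mem_ker, map_sub, hδ, sub_self]
      | add x y hx hy =>
        have : lam B B' R R' (x + y) - algebraMap B' R' (δ' (lam B B' R R' (x + y))) =
            (lam B B' R R' x - algebraMap B' R' (δ' (lam B B' R R' x))) +
            (lam B B' R R' y - algebraMap B' R' (δ' (lam B B' R R' y))) := by
          rw [map_add, map_add, map_add]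
          ring
        rw [this]
        exact Ideal.add_mem _ hx hy
    intro r' hr'
    obtain ⟨w, rfl⟩ := (lam B B' R R').surjective r'
    have h := key w
    rw [RingHom.mem_ker] at hr'
    rw [hr', map_zero, sub_zero] at h
    exact h
  · rw [Ideal.map_le_iff_le_comap]
    intro x hx
    rw [Ideal.mem_comap, RingHom.mem_ker, hcomm, (RingHom.mem_ker).1 hx, map_zero]

/-- the comparison map `B' ⊗[B] M → M'` is bijective when `M = R/K` and `M' = R'/K R'`. -/
theorem bijective_of_pushout {M M' : Type u} [AddCommGroup M] [Module B M] [AddCommGroup M']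
    (κ : R →ₗ[B] M) (hκs : Function.Surjective κ) (K : Ideal R) (hK : ∀ r ∈ K, κ r = 0)
    (κ' : R' →+ M') (hκ's : Function.Surjective κ')
    (hK' : ∀ r', κ' r' = 0 → r' ∈ K.map (algebraMap R R'))
    (Φ : B' ⊗[B] M →+ M')
    (hΦ : ∀ (s : B') (r : R), Φ (s ⊗ₜ κ r) = κ' (s • algebraMap R R' r)) :
    Function.Bijective Φ := by
  have hΦ' : ∀ w : B' ⊗[B] R, Φ (LinearMap.lTensor B' κ w) = κ' (lam B B' R R' w) := by
    intro w
    induction w using TensorProduct.induction_on with
    | zero => rw [map_zero, map_zero, map_zero, map_zero]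
    | tmul s r => rw [LinearMap.lTensor_tmul, hΦ, lam_tmul]
    | add x y hx hy => rw [map_add, map_add, hx, hy, map_add, map_add]
  have hsurj : Function.Surjective (LinearMap.lTensor B' κ) := LinearMap.lTensor_surjective B' hκs
  constructor
  · rw [injective_iff_map_eq_zero]
    intro t ht
    obtain ⟨w, rfl⟩ := hsurj t
    rw [hΦ'] at ht
    exact lTensor_eq_zero_of_lam_mem_map κ K hK w (hK' _ ht)
  · intro m'
    obtain ⟨r', rfl⟩ := hκ's m'
    obtain ⟨w, rfl⟩ := (lam B B' R R').surjective r'
    exact ⟨LinearMap.lTensor B' κ w, hΦ' w⟩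

end alg

end Groth.Agent.Lib.R2H3.PnBC
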