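import Groth.Agent.Lib.R2H3PnChart

/-!
# Kernel of `Γ(X ×_S X, W0) → Γ(nbhd f n)` and the affine case of `P^n` (helper3, round 2)

* `ker_nbhdι_appLE`: the kernel is the `(n+1)`-st power of the kernel of `Δ♯` on the chart `W0 f U`.
* `affine_case`: for `Spec B → Spec A`, a ring iso `B ⊗[A] B ≃+* Γ(W0 ⊤)` carrying `KaehlerDifferential.ideal` to
  the kernel of `Δ♯`.
-/

set_option autoImplicit false
universe u
open CategoryTheory CategoryTheory.Limits AlgebraicGeometry TopologicalSpace Opposite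

namespace Groth.Agent.Lib.R2H3.PnKer

open Groth.Agent.Lib.R2H3.PnChart

theorem comap_pow_of_bijective {R S : Type*} [CommRing R] [CommRing S] (φ : R →+* S)
    (hφ : Function.Bijective φ) (I : Ideal S) (k : ℕ) :
    (I ^ k).comap φ = (I.comap φ) ^ k := by
  let e := RingEquiv.ofBijective φ hφ
  have h : ∀ J : Ideal S, J.comap φ = J.map e.symm := fun J => by
    rw [Ideal.map_symm]
    rfl
  rw [h, h, Ideal.map_pow]

theorem ker_eq_of_comp_injective {A B C : CommRingCat.{u}} (φ : A ⟶ B) (ψ : B ⟶ C)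
    (h : Function.Injective ψ.hom) : RingHom.ker (φ ≫ ψ).hom = RingHom.ker φ.hom := by
  rw [CommRingCat.hom_comp]
  exact RingHom.ker_comp_of_injective _ h

theorem ker_comp_pow {A B C D : CommRingCat.{u}} (α : A ⟶ B) (β : B ⟶ C) (δ : B ⟶ D)
    (hα : Function.Bijective α.hom) (n : ℕ)
    (hβ : RingHom.ker β.hom = RingHom.ker δ.hom ^ n) :
    RingHom.ker (α ≫ β).hom = RingHom.ker (α ≫ δ).hom ^ n := by
  rw [CommRingCat.hom_comp, ← RingHom.comap_ker, hβ, comap_pow_of_bijective _ hα, RingHom.comap_ker,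
    ← CommRingCat.hom_comp]

theorem ker_of_eq {A B : CommRingCat.{u}} (φ ψ : A ⟶ B) (h : φ = ψ) :
    RingHom.ker φ.hom = RingHom.ker ψ.hom := by rw [h]

theorem presheaf_map_injective_of_eq {Y : Scheme.{u}} {V V' : Y.Opens} (e : V = V') (h : V ≤ V') :
    Function.Injective (Y.presheaf.map (homOfLE h).op).hom := by
  subst e
  have : homOfLE h = 𝟙 V := Subsingleton.elim _ _
  rw [this, op_id, Y.presheaf.map_id]
  exact Function.injective_id

section

variable {X S : Scheme.{u}} (f : X ⟶ S) {U : X.Opens} {T : S.Opens} (hU : IsAffineOpen U)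
  (hT : IsAffineOpen T) (hUT : U ≤ f ⁻¹ᵁ T)

include hU hT hUT in
theorem ker_nbhdι_appLE (n : ℕ) :
    RingHom.ker ((PrinPart.nbhdι f n).appLE (W0 f U) (PrinPart.pr1 f n ⁻¹ᵁ U)
      (pr1_preimage_eq f n U).le).hom =
      RingHom.ker ((pullback.diagonal f).app (W0 f U)).hom ^ (n + 1) := by
  have hle : W0 f U ≤ (pullback.diagonal f).coborderRange := W0_le_coborderRange f hU hT hUT
  have hle' : W0 f U ≤ (pullback.diagonal f).coborderRange.ι.opensRange := by
    rw [Scheme.Opens.opensRange_ι]; exact hle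
  have hV : IsAffineOpen ((pullback.diagonal f).coborderRange.ι ⁻¹ᵁ W0 f U) :=
    (isAffineOpen_W0 f hU hT hUT).preimage_of_isOpenImmersion _ hle'
  have hβ : RingHom.ker ((PrinPart.infNbhdι (PrinPart.diagCl f) n).app
      ((pullback.diagonal f).coborderRange.ι ⁻¹ᵁ W0 f U)).hom =
      RingHom.ker ((PrinPart.diagCl f).app
        ((pullback.diagonal f).coborderRange.ι ⁻¹ᵁ W0 f U)).hom ^ (n + 1) := by
    have h1 := Scheme.IdealSheafData.ker_subschemeι_app ((PrinPart.diagCl f).ker ^ (n + 1)) ⟨_, hV⟩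
    rw [Scheme.IdealSheafData.ideal_pow, Pi.pow_apply, Scheme.Hom.ker_apply] at h1
    exact h1
  haveI := (pullback.diagonal f).coborderRange.ι.isIso_app (W0 f U) hle'
  have hα : Function.Bijective ((pullback.diagonal f).coborderRange.ι.app (W0 f U)).hom :=
    ConcreteCategory.bijective_of_isIso (C := CommRingCat) _
  have key : (PrinPart.nbhdι f n).appLE (W0 f U) (PrinPart.pr1 f n ⁻¹ᵁ U)
      (pr1_preimage_eq f n U).le =
      ((pullback.diagonal f).coborderRange.ι.app (W0 f U) ≫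
        (PrinPart.infNbhdι (PrinPart.diagCl f) n).app _) ≫
        (PrinPart.nbhd f n).presheaf.map (homOfLE (pr1_preimage_eq f n U).le).op := by
    change (PrinPart.infNbhdι (PrinPart.diagCl f) n ≫
      (pullback.diagonal f).coborderRange.ι).app _ ≫ _ = _
    rw [Scheme.Hom.comp_app]
    rfl
  refine (ker_of_eq _ _ key).trans ?_
  refine (ker_eq_of_comp_injective _ _
    (presheaf_map_injective_of_eq (pr1_preimage_eq f n U) _)).trans ?_
  refine (ker_comp_pow _ _ _ hα _ hβ).trans ?_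
  congr 1
  have h2 : (pullback.diagonal f).coborderRange.ι.app (W0 f U) ≫
      (PrinPart.diagCl f).app ((pullback.diagonal f).coborderRange.ι ⁻¹ᵁ W0 f U) =
      (pullback.diagonal f).app (W0 f U) ≫ X.presheaf.map (eqToHom (by
        rw [← Scheme.Hom.comp_preimage, Scheme.Hom.liftCoborder_ι])).op := by
    rw [← Scheme.Hom.comp_app]
    exact Scheme.Hom.congr_app (pullback.diagonal f).liftCoborder_ι (W0 f U)
  rw [ker_of_eq _ _ h2]
  refine ker_eq_of_comp_injective _ _ ?_
  exact (ConcreteCategory.bijective_of_isIso (C := CommRingCat) _).1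

theorem fst_comp_nbhdι (n : ℕ) (U : X.Opens) :
    (pullback.fst f f).appLE U (W0 f U) inf_le_left ≫
      (PrinPart.nbhdι f n).appLE (W0 f U) (PrinPart.pr1 f n ⁻¹ᵁ U) (pr1_preimage_eq f n U).le =
      (PrinPart.pr1 f n).app U := by
  rw [Scheme.Hom.appLE_comp_appLE]
  exact Scheme.Hom.appLE_eq_app (PrinPart.pr1 f n)

theorem snd_comp_nbhdι (n : ℕ) (U : X.Opens) :
    (pullback.snd f f).appLE U (W0 f U) inf_le_right ≫
      (PrinPart.nbhdι f n).appLE (W0 f U) (PrinPart.pr1 f n ⁻¹ᵁ U) (pr1_preimage_eq f n U).le =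
      (PrinPart.pr2 f n).appLE U (PrinPart.pr1 f n ⁻¹ᵁ U) (PrinPart.preimage_pr1 f n U).le := by
  rw [Scheme.Hom.appLE_comp_appLE]
  rfl

theorem fst_comp_diagonal (U : X.Opens) :
    (pullback.fst f f).appLE U (W0 f U) inf_le_left ≫ (pullback.diagonal f).app (W0 f U) =
      X.presheaf.map (homOfLE (diagonal_preimage_W0 f U).le).op := by
  have hle : pullback.diagonal f ⁻¹ᵁ (W0 f U) ≤ U := (diagonal_preimage_W0 f U).le
  have h1 : (pullback.fst f f).appLE U (W0 f U) inf_le_left ≫
      (pullback.diagonal f).appLE (W0 f U) (pullback.diagonal f ⁻¹ᵁ (W0 f U)) le_rfl =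
      (pullback.diagonal f ≫ pullback.fst f f).appLE U (pullback.diagonal f ⁻¹ᵁ (W0 f U))
        (by rw [pullback.diagonal_fst]; exact hle) :=
    Scheme.Hom.appLE_comp_appLE _ _ _ _ _ _ _
  have h2 : ∀ (k : X ⟶ X) (_ : k = 𝟙 X) (e : pullback.diagonal f ⁻¹ᵁ (W0 f U) ≤ k ⁻¹ᵁ U),
      k.appLE U (pullback.diagonal f ⁻¹ᵁ (W0 f U)) e = X.presheaf.map (homOfLE hle).op := by
    rintro _ rfl e
    rw [Scheme.Hom.appLE, Scheme.Hom.id_app]
    exact Category.id_comp _
  rw [h2 _ (pullback.diagonal_fst f)] at h1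
  rw [Scheme.Hom.appLE_eq_app] at h1
  exact h1

theorem snd_comp_diagonal (U : X.Opens) :
    (pullback.snd f f).appLE U (W0 f U) inf_le_right ≫ (pullback.diagonal f).app (W0 f U) =
      X.presheaf.map (homOfLE (diagonal_preimage_W0 f U).le).op := by
  have hle : pullback.diagonal f ⁻¹ᵁ (W0 f U) ≤ U := (diagonal_preimage_W0 f U).le
  have h1 : (pullback.snd f f).appLE U (W0 f U) inf_le_right ≫
      (pullback.diagonal f).appLE (W0 f U) (pullback.diagonal f ⁻¹ᵁ (W0 f U)) le_rfl =
      (pullback.diagonal f ≫ pullback.snd f f).appLE U (pullback.diagonal f ⁻¹ᵁ (W0 f U))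
        (by rw [pullback.diagonal_snd]; exact hle) :=
    Scheme.Hom.appLE_comp_appLE _ _ _ _ _ _ _
  have h2 : ∀ (k : X ⟶ X) (_ : k = 𝟙 X) (e : pullback.diagonal f ⁻¹ᵁ (W0 f U) ≤ k ⁻¹ᵁ U),
      k.appLE U (pullback.diagonal f ⁻¹ᵁ (W0 f U)) e = X.presheaf.map (homOfLE hle).op := by
    rintro _ rfl e
    rw [Scheme.Hom.appLE, Scheme.Hom.id_app]
    exact Category.id_comp _
  rw [h2 _ (pullback.diagonal_snd f)] at h1
  rw [Scheme.Hom.appLE_eq_app] at h1
  exact h1

end

section affine

open TensorProduct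

variable (A B : Type u) [CommRing A] [CommRing B] [Algebra A B]

theorem affine_case :
    ∃ (τ : B ⊗[A] B ≃+* Γ(pullback (Spec.map (CommRingCat.ofHom (algebraMap A B)))
        (Spec.map (CommRingCat.ofHom (algebraMap A B))),
        W0 (Spec.map (CommRingCat.ofHom (algebraMap A B))) ⊤)),
      (∀ b b' : B, τ (b ⊗ₜ[A] b') =
        (pullback.fst (Spec.map (CommRingCat.ofHom (algebraMap A B)))
          (Spec.map (CommRingCat.ofHom (algebraMap A B)))).appLE ⊤ (W0 _ ⊤) inf_le_left
            ((Scheme.ΓSpecIso (CommRingCat.of B)).inv b) *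
        (pullback.snd (Spec.map (CommRingCat.ofHom (algebraMap A B)))
          (Spec.map (CommRingCat.ofHom (algebraMap A B)))).appLE ⊤ (W0 _ ⊤) inf_le_right
            ((Scheme.ΓSpecIso (CommRingCat.of B)).inv b')) ∧
      (RingHom.ker ((pullback.diagonal (Spec.map (CommRingCat.ofHom (algebraMap A B)))).app
        (W0 _ ⊤)).hom).comap (τ : B ⊗[A] B →+* _) = KaehlerDifferential.ideal A B := by
  set f := Spec.map (CommRingCat.ofHom (algebraMap A B)) with hf
  have hU : IsAffineOpen (⊤ : (Spec (CommRingCat.of B)).Opens) := isAffineOpen_top _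
  have hT : IsAffineOpen (⊤ : (Spec (CommRingCat.of A)).Opens) := isAffineOpen_top _
  have hUT : (⊤ : (Spec (CommRingCat.of B)).Opens) ≤ f ⁻¹ᵁ ⊤ := le_top
  have hpo := Groth.Agent.Lib.R2H3.ProdChart.isPushout_appLE (IsPullback.of_hasPullback f f)
    hT hU hU hUT hUT
  have happ : f.appLE ⊤ ⊤ hUT = f.appTop := Scheme.Hom.appLE_eq_app f
  have hsq : CommRingCat.ofHom (algebraMap A B) ≫ (Scheme.ΓSpecIso (CommRingCat.of B)).inv =
      (Scheme.ΓSpecIso (CommRingCat.of A)).inv ≫ f.appLE ⊤ ⊤ hUT := by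
    rw [happ, Scheme.ΓSpecIso_inv_naturality]
  have commf : f.appLE ⊤ ⊤ hUT ≫ (Scheme.ΓSpecIso (CommRingCat.of B)).hom =
      (Scheme.ΓSpecIso (CommRingCat.of A)).hom ≫ CommRingCat.ofHom (algebraMap A B) := by
    rw [← Iso.inv_comp_eq, ← Category.assoc, ← hsq, Category.assoc, Iso.inv_hom_id, Category.comp_id]
  have hpo2 : IsPushout (CommRingCat.ofHom (algebraMap A B)) (CommRingCat.ofHom (algebraMap A B))
      ((Scheme.ΓSpecIso (CommRingCat.of B)).inv ≫ (pullback.fst f f).appLE ⊤ (W0 f ⊤) inf_le_left)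
      ((Scheme.ΓSpecIso (CommRingCat.of B)).inv ≫ (pullback.snd f f).appLE ⊤ (W0 f ⊤) inf_le_right) :=
    IsPushout.of_iso hpo (Scheme.ΓSpecIso (CommRingCat.of A)) (Scheme.ΓSpecIso (CommRingCat.of B))
      (Scheme.ΓSpecIso (CommRingCat.of B)) (Iso.refl _) commf commf
      (by rw [Iso.refl_hom, Category.comp_id, Iso.hom_inv_id_assoc])
      (by rw [Iso.refl_hom, Category.comp_id, Iso.hom_inv_id_assoc])
  let τiso := (CommRingCat.isPushout_tensorProduct A B B).isoIsPushout _ _ hpo2
  have hl : CommRingCat.ofHom (Algebra.TensorProduct.includeLeftRingHom (R := A) (A := B) (B := B)) ≫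
      τiso.hom = (Scheme.ΓSpecIso (CommRingCat.of B)).inv ≫
        (pullback.fst f f).appLE ⊤ (W0 f ⊤) inf_le_left :=
    IsPushout.inl_isoIsPushout_hom _ _ _ _
  have hr : CommRingCat.ofHom (Algebra.TensorProduct.includeRight (R := A) (A := B) (B := B)).toRingHom ≫
      τiso.hom = (Scheme.ΓSpecIso (CommRingCat.of B)).inv ≫
        (pullback.snd f f).appLE ⊤ (W0 f ⊤) inf_le_right :=
    IsPushout.inr_isoIsPushout_hom _ _ _ _
  refine ⟨τiso.commRingCatIsoToRingEquiv, ?_, ?_⟩
  · intro b b'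
    have h1 : b ⊗ₜ[A] b' = Algebra.TensorProduct.includeLeftRingHom (R := A) (A := B) (B := B) b *
        (Algebra.TensorProduct.includeRight (R := A) (A := B) (B := B)).toRingHom b' := by
      change _ = (b ⊗ₜ[A] (1 : B)) * ((1 : B) ⊗ₜ[A] b')
      rw [Algebra.TensorProduct.tmul_mul_tmul, mul_one, one_mul]
    rw [h1, map_mul]
    have hl' := congr($hl b)
    have hr' := congr($hr b')
    rw [CommRingCat.comp_apply, CommRingCat.comp_apply] at hl' hr'
    exact congr($hl' * $hr')
  · have hres : Function.Injective ((Spec (CommRingCat.of B)).presheaf.map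
        (homOfLE (diagonal_preimage_W0 f ⊤).le).op).hom :=
      presheaf_map_injective_of_eq (diagonal_preimage_W0 f ⊤) _
    have hinj : Function.Injective ((Scheme.ΓSpecIso (CommRingCat.of B)).inv ≫
        (Spec (CommRingCat.of B)).presheaf.map (homOfLE (diagonal_preimage_W0 f ⊤).le).op).hom := by
      rw [CommRingCat.hom_comp]
      exact hres.comp (ConcreteCategory.bijective_of_isIso (C := CommRingCat)
        (Scheme.ΓSpecIso (CommRingCat.of B)).inv).1
    have hil : CommRingCat.ofHom (Algebra.TensorProduct.includeLeftRingHom (R := A) (A := B) (B := B)) ≫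
        CommRingCat.ofHom (Algebra.TensorProduct.lmul' A (S := B)).toRingHom = 𝟙 _ := by
      ext b
      change Algebra.TensorProduct.lmul' A (S := B) (b ⊗ₜ[A] (1 : B)) = b
      rw [Algebra.TensorProduct.lmul'_apply_tmul, mul_one]
    have hir : CommRingCat.ofHom
        (Algebra.TensorProduct.includeRight (R := A) (A := B) (B := B)).toRingHom ≫
        CommRingCat.ofHom (Algebra.TensorProduct.lmul' A (S := B)).toRingHom = 𝟙 _ := by
      ext b
      change Algebra.TensorProduct.lmul' A (S := B) ((1 : B) ⊗ₜ[A] b) = b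
      rw [Algebra.TensorProduct.lmul'_apply_tmul, one_mul]
    have hcomp : τiso.hom ≫ (pullback.diagonal f).app (W0 f ⊤) =
        CommRingCat.ofHom (Algebra.TensorProduct.lmul' A (S := B)).toRingHom ≫
          ((Scheme.ΓSpecIso (CommRingCat.of B)).inv ≫
            (Spec (CommRingCat.of B)).presheaf.map (homOfLE (diagonal_preimage_W0 f ⊤).le).op) := by
      refine (CommRingCat.isPushout_tensorProduct A B B).hom_ext ?_ ?_
      · rw [← Category.assoc, hl, Category.assoc, fst_comp_diagonal, ← Category.assoc, hil,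
          Category.id_comp]
      · rw [← Category.assoc, hr, Category.assoc, snd_comp_diagonal, ← Category.assoc, hir,
          Category.id_comp]
    rw [RingHom.comap_ker]
    have h3 : ((pullback.diagonal f).app (W0 f ⊤)).hom.comp
        (τiso.commRingCatIsoToRingEquiv : B ⊗[A] B →+* _) =
        (τiso.hom ≫ (pullback.diagonal f).app (W0 f ⊤)).hom := rfl
    rw [h3, hcomp, ker_eq_of_comp_injective _ _ hinj]
    rfl

end affine

end Groth.Agent.Lib.R2H3.PnKer
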