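import Mathlib
import Groth.Prelude.Def_OmegaPn
import Groth.Agent.Lib.R2H3PnBC
import Groth.Agent.Lib.R2H3PnKer
import Groth.Agent.Lib.R2H3ProdChart
import Groth.Agent.Lib.Helper18OmLS13
import Groth.Agent.Lib.Helper18OmLS23
import Groth.Agent.Lib.Helper20OmegaAff
import Groth.Agent.S5959

/-!
# Sections of `P^n` over a chart as a quotient of `Γ(X ×_S X, W0)` (helper3, round 2)

* `kap f hU hT hUT n : Γ(X ×_S X, W0 f U) →+ Γ(P^n, U)`: additive surjection with `thetaU (kap r) = ν r`,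
  `kap (pr₁♯ b * r) = b • kap r`, `kap (pr₂♯ c) = d^n c`, kernel `(ker Δ♯)^(n+1)`.
-/

set_option autoImplicit false
set_option linter.style.haveILetI false
set_option linter.unusedSectionVars false
universe u
open CategoryTheory CategoryTheory.Limits AlgebraicGeometry TopologicalSpace Opposite

namespace Groth.Agent.Lib.R2H3.PnBCGeo

open Groth.Agent.Lib.R2H3 Groth.Agent.Lib.R2H3.PnChart Groth.Agent.Lib.R2H3.PnKer
open Groth.Agent.Helper18OmLS Groth.Agent.Helper13PullbackUnit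

section single

variable {X S : Scheme.{u}} (f : X ⟶ S) {U : X.Opens} {T : S.Opens} (hU : IsAffineOpen U)
  (hT : IsAffineOpen T) (hUT : U ≤ f ⁻¹ᵁ T) (n : ℕ)

/-- `ν : Γ(X ×_S X, W0) → Γ(nbhd, pr1⁻¹ U)` -/
noncomputable abbrev nu (n : ℕ) (U : X.Opens) :
    Γ(pullback f f, W0 f U) →+* Γ(PrinPart.nbhd f n, PrinPart.pr1 f n ⁻¹ᵁ U) :=
  ((PrinPart.nbhdι f n).appLE (W0 f U) (PrinPart.pr1 f n ⁻¹ᵁ U) (pr1_preimage_eq f n U).le).hom

theorem nu_pp₁ (b : Γ(X, U)) : nu f n U (pp₁ f U b) = (PrinPart.pr1 f n).app U b :=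
  congr($(fst_comp_nbhdι f n U) b)

theorem nu_pp₂ (b : Γ(X, U)) : nu f n U (pp₂ f U b) =
    (PrinPart.pr2 f n).appLE U (PrinPart.pr1 f n ⁻¹ᵁ U) (PrinPart.preimage_pr1 f n U).le b :=
  congr($(snd_comp_nbhdι f n U) b)

theorem ker_mm : RingHom.ker (mm f U) = RingHom.ker ((pullback.diagonal f).app (W0 f U)).hom := by
  have h1 : (pullback.diagonal f).appLE (W0 f U) U (OmegaSh.le_preimage_diagNbhd f U) =
      (pullback.diagonal f).app (W0 f U) ≫
        X.presheaf.map (homOfLE (OmegaSh.le_preimage_diagNbhd f U)).op := rfl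
  refine (ker_of_eq _ _ h1).trans ?_
  exact ker_eq_of_comp_injective _ _
    (presheaf_map_injective_of_eq (diagonal_preimage_W0 f U).symm _)

include hU hT hUT in
theorem ker_nu : RingHom.ker (nu f n U) = RingHom.ker (mm f U) ^ (n + 1) := by
  rw [ker_mm]
  exact ker_nbhdι_appLE f hU hT hUT n

theorem mm_pp₁ (b : Γ(X, U)) : mm f U (pp₁ f U b) = b := congr($(mm_comp_pp₁ f U) b)
theorem mm_pp₂ (b : Γ(X, U)) : mm f U (pp₂ f U b) = b := congr($(mm_comp_pp₂ f U) b)

include hU hT hUT in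
theorem closure_pp (r : Γ(pullback f f, W0 f U)) :
    r ∈ AddSubmonoid.closure {x : Γ(pullback f f, W0 f U) | ∃ y z, x = pp₁ f U y * pp₂ f U z} :=
  pushout_closure (ProdChart.isPushout_appLE (IsPullback.of_hasPullback f f) hT hU hU hUT hUT) r

include hU hT hUT in
theorem exists_thetaU_eq (r : Γ(pullback f f, W0 f U)) :
    ∃ y : Γ(PrinPart.P f n, U), thetaU f n U y = nu f n U r := by
  have hr := closure_pp f hU hT hUT r
  induction hr using AddSubmonoid.closure_induction with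
  | mem x hx =>
    obtain ⟨b, c, rfl⟩ := hx
    refine ⟨b • PrinPart.dn f n U c, ?_⟩
    rw [thetaU_smul, thetaU_dn, map_mul, nu_pp₁, nu_pp₂]
  | zero => exact ⟨0, by rw [map_zero, map_zero]⟩
  | add x y _ _ hx hy =>
    obtain ⟨x', ex⟩ := hx
    obtain ⟨y', ey⟩ := hy
    exact ⟨x' + y', by rw [map_add, ex, ey, map_add]⟩

/-- the additive surjection `Γ(X ×_S X, W0 f U) → Γ(P^n, U)` -/
noncomputable def kap : Γ(pullback f f, W0 f U) →+ Γ(PrinPart.P f n, U) where
  toFun r := Classical.choose (exists_thetaU_eq f hU hT hUT n r)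
  map_zero' := by
    apply thetaU_injective f n U
    rw [Classical.choose_spec (exists_thetaU_eq f hU hT hUT n 0), map_zero, map_zero]
  map_add' a b := by
    apply thetaU_injective f n U
    rw [Classical.choose_spec (exists_thetaU_eq f hU hT hUT n (a + b)), map_add, map_add,
      Classical.choose_spec (exists_thetaU_eq f hU hT hUT n a),
      Classical.choose_spec (exists_thetaU_eq f hU hT hUT n b)]

theorem thetaU_kap (r : Γ(pullback f f, W0 f U)) :
    thetaU f n U (kap f hU hT hUT n r) = nu f n U r :=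
  Classical.choose_spec (exists_thetaU_eq f hU hT hUT n r)

theorem kap_pp₁_mul (b : Γ(X, U)) (r : Γ(pullback f f, W0 f U)) :
    kap f hU hT hUT n (pp₁ f U b * r) = b • kap f hU hT hUT n r := by
  apply thetaU_injective f n U
  rw [thetaU_kap, thetaU_smul, thetaU_kap, map_mul, nu_pp₁]

theorem kap_pp₂ (c : Γ(X, U)) : kap f hU hT hUT n (pp₂ f U c) = PrinPart.dn f n U c := by
  apply thetaU_injective f n U
  rw [thetaU_kap, thetaU_dn, nu_pp₂]

theorem kap_surjective : Function.Surjective (kap f hU hT hUT n) := by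
  intro y
  obtain ⟨r, hr⟩ := nbhdι_appLE_surjective f hU hT hUT n (thetaU f n U y)
  refine ⟨r, ?_⟩
  apply thetaU_injective f n U
  rw [thetaU_kap]
  exact hr

theorem kap_eq_zero_iff (r : Γ(pullback f f, W0 f U)) :
    kap f hU hT hUT n r = 0 ↔ r ∈ RingHom.ker (mm f U) ^ (n + 1) := by
  rw [← ker_nu f hU hT hUT n, RingHom.mem_ker, ← thetaU_kap f hU hT hUT n]
  constructor
  · intro h
    rw [h, map_zero]
  · intro h
    apply thetaU_injective f n U
    rw [h, map_zero]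

end single

theorem dn_map {X S : Scheme.{u}} (f : X ⟶ S) (n : ℕ) {U V : X.Opens} (e : V ≤ U) (t : Γ(X, U)) :
    PrinPart.dn f n V (X.presheaf.map (homOfLE e).op t) =
      (PrinPart.P f n).presheaf.map (homOfLE e).op (PrinPart.dn f n U t) :=
  PrinPart.dP_map f n (Coh.structureModule X) e (OmegaSh.strSect X U t)

section rel

variable {X S X' S' : Scheme.{u}} (f : X ⟶ S) (g : S' ⟶ S) (u : X' ⟶ X) (f' : X' ⟶ S')
  (hsq : IsPullback u f' f g)

/-- the map `X' ×_{S'} X' ⟶ X ×_S X` -/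
noncomputable def rho : pullback f' f' ⟶ pullback f f :=
  pullback.map f' f' f f u u g hsq.w.symm hsq.w.symm

theorem rho_fst : rho f g u f' hsq ≫ pullback.fst f f = pullback.fst f' f' ≫ u :=
  pullback.lift_fst _ _ _

theorem rho_snd : rho f g u f' hsq ≫ pullback.snd f f = pullback.snd f' f' ≫ u :=
  pullback.lift_snd _ _ _

theorem diagonal_rho : pullback.diagonal f' ≫ rho f g u f' hsq = u ≫ pullback.diagonal f := by
  apply pullback.hom_ext
  · rw [Category.assoc, rho_fst, pullback.diagonal_fst_assoc, Category.assoc, pullback.diagonal_fst,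
      Category.comp_id]
  · rw [Category.assoc, rho_snd, pullback.diagonal_snd_assoc, Category.assoc, pullback.diagonal_snd,
      Category.comp_id]

theorem isPullback_rho :
    IsPullback (pullback.fst f' f') (rho f g u f' hsq) u (pullback.fst f f) := by
  have h1 : IsPullback (pullback.snd f' f' ≫ u) (pullback.fst f' f') f (f' ≫ g) :=
    (IsPullback.of_hasPullback f' f').flip.paste_horiz hsq
  have h2 : IsPullback (rho f g u f' hsq ≫ pullback.snd f f) (pullback.fst f' f') f (u ≫ f) := by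
    rw [rho_snd, hsq.w]
    exact h1
  exact (IsPullback.of_right h2 (rho_fst f g u f' hsq) (IsPullback.of_hasPullback f f).flip).flip

variable {T : S.Opens} {T' : S'.Opens} {U : X.Opens} (hT : IsAffineOpen T)
  (hT' : IsAffineOpen T') (hU : IsAffineOpen U) (hT'T : T' ≤ g ⁻¹ᵁ T) (hUT : U ≤ f ⁻¹ᵁ T)

/-- the product chart of `X'` -/
abbrev Uc (u : X' ⟶ X) (f' : X' ⟶ S') (U : X.Opens) (T' : S'.Opens) : X'.Opens :=
  u ⁻¹ᵁ U ⊓ f' ⁻¹ᵁ T'

include hsq hT hT' hU hT'T hUT in
theorem isAffineOpen_Uc : IsAffineOpen (Uc u f' U T') :=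
  ProdChart.isAffineOpen_inf hsq hT hU hT' hUT hT'T

theorem W0_eq : W0 f' (Uc u f' U T') =
    pullback.fst f' f' ⁻¹ᵁ (Uc u f' U T') ⊓ rho f g u f' hsq ⁻¹ᵁ (W0 f U) := by
  ext z
  have h1 : pullback.fst f f (rho f g u f' hsq z) = u (pullback.fst f' f' z) := by
    rw [← Scheme.Hom.comp_apply, rho_fst, Scheme.Hom.comp_apply]
  have h2 : pullback.snd f f (rho f g u f' hsq z) = u (pullback.snd f' f' z) := by
    rw [← Scheme.Hom.comp_apply, rho_snd, Scheme.Hom.comp_apply]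
  have h3 : f' (pullback.snd f' f' z) = f' (pullback.fst f' f' z) := by
    rw [← Scheme.Hom.comp_apply, ← Scheme.Hom.comp_apply, pullback.condition]
  change ((u (pullback.fst f' f' z) ∈ U ∧ f' (pullback.fst f' f' z) ∈ T') ∧
      (u (pullback.snd f' f' z) ∈ U ∧ f' (pullback.snd f' f' z) ∈ T')) ↔
    ((u (pullback.fst f' f' z) ∈ U ∧ f' (pullback.fst f' f' z) ∈ T') ∧
      (pullback.fst f f (rho f g u f' hsq z) ∈ U ∧ pullback.snd f f (rho f g u f' hsq z) ∈ U))
  rw [h1, h2, h3]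
  tauto

theorem W0_le_rho : W0 f' (Uc u f' U T') ≤ rho f g u f' hsq ⁻¹ᵁ (W0 f U) := by
  rw [W0_eq f g u f' hsq]
  exact inf_le_right

/-- `ρ♯` on the charts -/
noncomputable abbrev rhoS (U : X.Opens) (T' : S'.Opens) :
    Γ(pullback f f, W0 f U) →+* Γ(pullback f' f', W0 f' (Uc u f' U T')) :=
  ((rho f g u f' hsq).appLE (W0 f U) (W0 f' (Uc u f' U T')) (W0_le_rho f g u f' hsq)).hom

/-- `u♯` on the charts -/
noncomputable abbrev uS (U : X.Opens) (T' : S'.Opens) : Γ(X, U) →+* Γ(X', Uc u f' U T') :=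
  (u.appLE U (Uc u f' U T') inf_le_left).hom

theorem rhoS_pp₁ (b : Γ(X, U)) :
    rhoS f g u f' hsq U T' (pp₁ f U b) = pp₁ f' (Uc u f' U T') (uS u f' U T' b) := by
  have h1 := Scheme.Hom.appLE_comp_appLE (rho f g u f' hsq) (pullback.fst f f) U (W0 f U)
    (W0 f' (Uc u f' U T')) inf_le_left (W0_le_rho f g u f' hsq)
  have h2 := Scheme.Hom.appLE_comp_appLE (pullback.fst f' f') u U (Uc u f' U T')
    (W0 f' (Uc u f' U T')) inf_le_left inf_le_left
  have h3 := OmegaSh.appLE_congr_hom (rho_fst f g u f' hsq) (U := U)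
    (V := W0 f' (Uc u f' U T'))
    ((W0_le_rho f g u f' hsq).trans ((rho f g u f' hsq).preimage_mono inf_le_left))
    (inf_le_left.trans ((pullback.fst f' f').preimage_mono inf_le_left))
  have h4 := (h1.trans h3).trans h2.symm
  have h5 := congr($h4 b)
  rw [CommRingCat.comp_apply, CommRingCat.comp_apply] at h5
  exact h5

theorem rhoS_pp₂ (b : Γ(X, U)) :
    rhoS f g u f' hsq U T' (pp₂ f U b) = pp₂ f' (Uc u f' U T') (uS u f' U T' b) := by
  have h1 := Scheme.Hom.appLE_comp_appLE (rho f g u f' hsq) (pullback.snd f f) U (W0 f U)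
    (W0 f' (Uc u f' U T')) inf_le_right (W0_le_rho f g u f' hsq)
  have h2 := Scheme.Hom.appLE_comp_appLE (pullback.snd f' f') u U (Uc u f' U T')
    (W0 f' (Uc u f' U T')) inf_le_left inf_le_right
  have h3 := OmegaSh.appLE_congr_hom (rho_snd f g u f' hsq) (U := U)
    (V := W0 f' (Uc u f' U T'))
    ((W0_le_rho f g u f' hsq).trans ((rho f g u f' hsq).preimage_mono inf_le_right))
    (inf_le_right.trans ((pullback.snd f' f').preimage_mono inf_le_left))
  have h4 := (h1.trans h3).trans h2.symm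
  have h5 := congr($h4 b)
  rw [CommRingCat.comp_apply, CommRingCat.comp_apply] at h5
  exact h5

theorem mm_rhoS (r : Γ(pullback f f, W0 f U)) :
    mm f' (Uc u f' U T') (rhoS f g u f' hsq U T' r) = uS u f' U T' (mm f U r) := by
  have h1 := Scheme.Hom.appLE_comp_appLE (pullback.diagonal f') (rho f g u f' hsq) (W0 f U)
    (W0 f' (Uc u f' U T')) (Uc u f' U T') (W0_le_rho f g u f' hsq)
    (OmegaSh.le_preimage_diagNbhd f' _)
  have h2 := Scheme.Hom.appLE_comp_appLE u (pullback.diagonal f) (W0 f U) U (Uc u f' U T')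
    (OmegaSh.le_preimage_diagNbhd f U) inf_le_left
  have h3 := OmegaSh.appLE_congr_hom (diagonal_rho f g u f' hsq) (U := W0 f U)
    (V := Uc u f' U T')
    ((OmegaSh.le_preimage_diagNbhd f' _).trans
      ((pullback.diagonal f').preimage_mono (W0_le_rho f g u f' hsq)))
    (inf_le_left.trans (u.preimage_mono (OmegaSh.le_preimage_diagNbhd f U)))
  have h4 := (h1.trans h3).trans h2.symm
  have h5 := congr($h4 r)
  rw [CommRingCat.comp_apply, CommRingCat.comp_apply] at h5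
  exact h5

include hT hT' hU hT'T hUT in
theorem isPushout_chart :
    IsPushout (u.appLE U (Uc u f' U T') inf_le_left)
      ((pullback.fst f f).appLE U (W0 f U) inf_le_left)
      ((pullback.fst f' f').appLE (Uc u f' U T') (W0 f' (Uc u f' U T')) inf_le_left)
      ((rho f g u f' hsq).appLE (W0 f U) (W0 f' (Uc u f' U T')) (W0_le_rho f g u f' hsq)) := by
  have hU' := isAffineOpen_Uc f g u f' hsq hT hT' hU hT'T hUT
  have hpo := ProdChart.isPushout_appLE (isPullback_rho f g u f' hsq) hU hU'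
    (isAffineOpen_W0 f hU hT hUT) (inf_le_left : Uc u f' U T' ≤ u ⁻¹ᵁ U)
    (inf_le_left : W0 f U ≤ pullback.fst f f ⁻¹ᵁ U)
  have key : ∀ (W'' : (pullback f' f').Opens)
      (_ : W'' = pullback.fst f' f' ⁻¹ᵁ (Uc u f' U T') ⊓ rho f g u f' hsq ⁻¹ᵁ (W0 f U))
      (h1 : W'' ≤ pullback.fst f' f' ⁻¹ᵁ (Uc u f' U T'))
      (h2 : W'' ≤ rho f g u f' hsq ⁻¹ᵁ (W0 f U)),
      IsPushout (u.appLE U (Uc u f' U T') inf_le_left)
        ((pullback.fst f f).appLE U (W0 f U) inf_le_left)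
        ((pullback.fst f' f').appLE (Uc u f' U T') W'' h1)
        ((rho f g u f' hsq).appLE (W0 f U) W'' h2) := by
    rintro _ rfl h1 h2
    exact hpo
  exact key _ (W0_eq f g u f' hsq) _ _

end rel

section main

open TensorProduct

variable {X S X' S' : Scheme.{u}} (f : X ⟶ S) (g : S' ⟶ S) (u : X' ⟶ X) (f' : X' ⟶ S')
  (hsq : IsPullback u f' f g) (n : ℕ)
  (φ : (Scheme.Modules.pullback u).obj (PrinPart.P f n) ⟶ PrinPart.P f' n)
  (hφ : PrinPart.IsPMap f f' u n φ)
  {T : S.Opens} {T' : S'.Opens} {U : X.Opens} (hT : IsAffineOpen T)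
  (hT' : IsAffineOpen T') (hU : IsAffineOpen U) (hT'T : T' ≤ g ⁻¹ᵁ T) (hUT : U ≤ f ⁻¹ᵁ T)

include hφ in
theorem phi_unitSec_dn (c : Γ(X, U)) :
    φ.app (Uc u f' U T') (unitSec u (PrinPart.P f n) (inf_le_left : Uc u f' U T' ≤ u ⁻¹ᵁ U)
      (PrinPart.dn f n U c)) = PrinPart.dn f' n (Uc u f' U T') (uS u f' U T' c) := by
  change φ.app (Uc u f' U T') (((Scheme.Modules.pullback u).obj (PrinPart.P f n)).presheaf.map
    (homOfLE (inf_le_left : Uc u f' U T' ≤ u ⁻¹ᵁ U)).op
    (OmegaSh.pullSect u (PrinPart.P f n) U (PrinPart.dn f n U c))) = _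
  rw [PnChart.app_naturality, hφ U c]
  exact (dn_map f' n _ _).symm

include hsq hφ in
theorem phi_unitSec_kap (r : Γ(pullback f f, W0 f U)) :
    φ.app (Uc u f' U T') (unitSec u (PrinPart.P f n) (inf_le_left : Uc u f' U T' ≤ u ⁻¹ᵁ U)
      (kap f hU hT hUT n r)) =
      kap f' (isAffineOpen_Uc f g u f' hsq hT hT' hU hT'T hUT) hT' inf_le_right n
        (rhoS f g u f' hsq U T' r) := by
  have hr := closure_pp f hU hT hUT r
  induction hr using AddSubmonoid.closure_induction with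
  | mem x hx =>
    obtain ⟨b, c, rfl⟩ := hx
    rw [kap_pp₁_mul, kap_pp₂, unitSec_smul, Scheme.Modules.Hom.app_smul, map_mul, rhoS_pp₁,
      rhoS_pp₂, kap_pp₁_mul, kap_pp₂, phi_unitSec_dn f u f' n φ hφ]
  | zero =>
    rw [map_zero, map_zero, map_zero, map_zero, map_zero]
  | add x y _ _ hx hy =>
    rw [map_add, map_add, map_add, map_add, hx, hy, map_add]

theorem isQuasicoherent_P {X S : Scheme.{u}} (f : X ⟶ S) (n : ℕ) :
    (PrinPart.P f n).IsQuasicoherent :=
  Groth.Agent.S5959.result f n _ Groth.Agent.Lib.Helper20.OmegaAff.isQuasicoherent_structureModule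

include hsq hφ hT hT' hU hT'T hUT in
theorem bijective_app_chart : Function.Bijective (φ.app (Uc u f' U T')) := by
  have hU' := isAffineOpen_Uc f g u f' hsq hT hT' hU hT'T hUT
  have hU'T' : Uc u f' U T' ≤ f' ⁻¹ᵁ T' := inf_le_right
  have hle : Uc u f' U T' ≤ u ⁻¹ᵁ U := inf_le_left
  have hpo := isPushout_chart f g u f' hsq hT hT' hU hT'T hUT
  letI algBB' : Algebra Γ(X, U) Γ(X', Uc u f' U T') := (uS u f' U T').toAlgebra
  letI algBR : Algebra Γ(X, U) Γ(pullback f f, W0 f U) := (pp₁ f U).toAlgebra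
  letI algB'R' : Algebra Γ(X', Uc u f' U T') Γ(pullback f' f', W0 f' (Uc u f' U T')) :=
    (pp₁ f' (Uc u f' U T')).toAlgebra
  letI algRR' : Algebra Γ(pullback f f, W0 f U) Γ(pullback f' f', W0 f' (Uc u f' U T')) :=
    (rhoS f g u f' hsq U T').toAlgebra
  letI algBR' : Algebra Γ(X, U) Γ(pullback f' f', W0 f' (Uc u f' U T')) :=
    ((rhoS f g u f' hsq U T').comp (pp₁ f U)).toAlgebra
  haveI tw1 : IsScalarTower Γ(X, U) Γ(pullback f f, W0 f U)
      Γ(pullback f' f', W0 f' (Uc u f' U T')) := IsScalarTower.of_algebraMap_eq (fun _ => rfl)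
  haveI tw2 : IsScalarTower Γ(X, U) Γ(X', Uc u f' U T')
      Γ(pullback f' f', W0 f' (Uc u f' U T')) :=
    IsScalarTower.of_algebraMap_eq (fun x => rhoS_pp₁ f g u f' hsq x)
  haveI hAP : Algebra.IsPushout Γ(X, U) Γ(X', Uc u f' U T') Γ(pullback f f, W0 f U)
      Γ(pullback f' f', W0 f' (Uc u f' U T')) :=
    (CommRingCat.isPushout_iff_isPushout (R := Γ(X, U)) (R' := Γ(X', Uc u f' U T'))
      (S := Γ(pullback f f, W0 f U)) (S' := Γ(pullback f' f', W0 f' (Uc u f' U T')))).mp hpo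
  let κ : Γ(pullback f f, W0 f U) →ₗ[Γ(X, U)] Γ(PrinPart.P f n, U) :=
    { toFun := kap f hU hT hUT n
      map_add' := map_add _
      map_smul' := fun b r => kap_pp₁_mul f hU hT hUT n b r }
  let K : Ideal Γ(pullback f f, W0 f U) := RingHom.ker (mm f U) ^ (n + 1)
  have hK : ∀ r ∈ K, κ r = 0 := fun r hr => (kap_eq_zero_iff f hU hT hUT n r).2 hr
  have hkerEq : RingHom.ker (mm f' (Uc u f' U T')) = (RingHom.ker (mm f U)).map
      (algebraMap Γ(pullback f f, W0 f U) Γ(pullback f' f', W0 f' (Uc u f' U T'))) :=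
    PnBC.ker_eq_map_of_retraction (mm f U) (mm f' (Uc u f' U T')) (mm_pp₁ f) (mm_pp₁ f')
      (mm_rhoS f g u f' hsq)
  have hK' : ∀ r', kap f' hU' hT' hU'T' n r' = 0 → r' ∈ K.map
      (algebraMap Γ(pullback f f, W0 f U) Γ(pullback f' f', W0 f' (Uc u f' U T'))) := by
    intro r' hr'
    rw [kap_eq_zero_iff, hkerEq, ← Ideal.map_pow] at hr'
    exact hr'
  haveI : (PrinPart.P f n).IsQuasicoherent := isQuasicoherent_P f n
  obtain ⟨e, he⟩ := exists_pullback_equiv u (PrinPart.P f n) hle hU hU' rfl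
  let Φ : Γ(X', Uc u f' U T') ⊗[Γ(X, U)] Γ(PrinPart.P f n, U) →+
      Γ(PrinPart.P f' n, Uc u f' U T') :=
    (φ.app (Uc u f' U T')).hom.comp e.toLinearMap.toAddMonoidHom
  have hΦ : ∀ (s : Γ(X', Uc u f' U T')) (r : Γ(pullback f f, W0 f U)),
      Φ (s ⊗ₜ κ r) = kap f' hU' hT' hU'T' n
        (s • algebraMap Γ(pullback f f, W0 f U) Γ(pullback f' f', W0 f' (Uc u f' U T')) r) := by
    intro s r
    change φ.app (Uc u f' U T') (e (s ⊗ₜ kap f hU hT hUT n r)) =
      kap f' hU' hT' hU'T' n (pp₁ f' (Uc u f' U T') s * rhoS f g u f' hsq U T' r)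
    rw [he, Scheme.Modules.Hom.app_smul, phi_unitSec_kap f g u f' hsq n φ hφ hT hT' hU hT'T hUT,
      kap_pp₁_mul]
  have hbij := PnBC.bijective_of_pushout κ (kap_surjective f hU hT hUT n) K hK
    (kap f' hU' hT' hU'T' n) (kap_surjective f' hU' hT' hU'T' n) hK' Φ hΦ
  have hcomp : ⇑(φ.app (Uc u f' U T')) = Φ ∘ e.symm := by
    funext x
    change _ = φ.app (Uc u f' U T') (e (e.symm x))
    rw [LinearEquiv.apply_symm_apply]
  rw [hcomp]
  exact hbij.comp e.symm.bijective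

end main

end Groth.Agent.Lib.R2H3.PnBCGeo
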