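import Mathlib
import Groth.Prelude.Def_OmegaPn
import Groth.Prelude.Def_Omega4
import Groth.Agent.Lib.R2H3PnChart
import Groth.Agent.Lib.Helper13ModBasis

/-!
# The pullback of a module is generated by pulled-back sections (helper3, round 2)

* `eq_zero_of_pullSect_basis`: a map out of `h^*F` killing all pulled-back sections over a basis is zero.
* `epi_of_pullSect_mem_range`: a map into `h^*F` whose image contains all pulled-back sections over a basis
  is an epimorphism.
-/

set_option autoImplicit false
universe u v
open CategoryTheory CategoryTheory.Limits AlgebraicGeometry TopologicalSpace Opposite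

namespace Groth.Agent.Lib.R2H3.PullGen

open Groth.Agent.Lib.R2H3.PnChart

variable {Z X : Scheme.{u}} (h : Z ⟶ X) (F : X.Modules)

/-- A map out of `h^*F` vanishing on all sections pulled back from a basis of opens is zero. -/
theorem eq_zero_of_pullSect_basis {ι : Type v} (B : ι → X.Opens)
    (hB : Opens.IsBasis (Set.range B)) {C : Z.Modules}
    (q : (Scheme.Modules.pullback h).obj F ⟶ C)
    (H : ∀ (i : ι) (t : Γ(F, B i)), q.app (h ⁻¹ᵁ B i) (OmegaSh.pullSect h F (B i) t) = 0) :
    q = 0 := by
  apply ((Scheme.Modules.pullbackPushforwardAdjunction h).homEquiv F C).injective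
  refine Groth.Agent.Helper13ModBasis.hom_ext_basis B hB _ _ (fun i => ?_)
  ext t
  rw [homEquiv_app, H, homEquiv_app]
  rfl

/-- A map into `h^*F` whose image contains all sections pulled back from a basis of opens is an epimorphism. -/
theorem epi_of_pullSect_mem_range {ι : Type v} (B : ι → X.Opens)
    (hB : Opens.IsBasis (Set.range B)) {N : Z.Modules}
    (π : N ⟶ (Scheme.Modules.pullback h).obj F)
    (H : ∀ (i : ι) (t : Γ(F, B i)), ∃ s : Γ(N, h ⁻¹ᵁ B i),
      π.app (h ⁻¹ᵁ B i) s = OmegaSh.pullSect h F (B i) t) :
    Epi π := by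
  apply Abelian.epi_of_cokernel_π_eq_zero
  apply eq_zero_of_pullSect_basis h F B hB
  intro i t
  obtain ⟨s, hs⟩ := H i t
  rw [← hs]
  have h0 : π ≫ cokernel.π π = 0 := cokernel.condition π
  have h1 : (π ≫ cokernel.π π).app (h ⁻¹ᵁ B i) s = 0 := by rw [h0]; rfl
  exact h1

end Groth.Agent.Lib.R2H3.PullGen
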