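import Mathlib
import Groth.Prelude.Def_OmegaPn
import Groth.Prelude.Def_Omega4
import Groth.Agent.Lib.R2H3PullGen

/-!
# An induction principle for sections of a pulled back module (helper3, round 2)

`pullback_induction`: a predicate on local sections of `h^*F` which is stable under `0`, `+`, multiplication by
functions and restriction, is local, and holds for all pulled back sections, holds for all sections.
-/

set_option autoImplicit false
universe u
open CategoryTheory CategoryTheory.Limits AlgebraicGeometry TopologicalSpace Opposite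

namespace Groth.Agent.Lib.R2H3.PullInd

section Sub

variable {Z : Scheme.{u}} (M : Z.Modules) (P : ∀ W : Z.Opens, Γ(M, W) → Prop)

/-- The hypotheses making `P` a subsheaf of modules. -/
structure IsSubsheafPred : Prop where
  zero : ∀ W, P W 0
  add : ∀ W (s t : Γ(M, W)), P W s → P W t → P W (s + t)
  smul : ∀ W (r : Γ(Z, W)) (s : Γ(M, W)), P W s → P W (r • s)
  res : ∀ {W W' : Z.Opens} (i : W' ⟶ W) (s : Γ(M, W)), P W s → P W' (M.presheaf.map i.op s)
  loc : ∀ W (s : Γ(M, W)), (∀ z ∈ W, ∃ (W' : Z.Opens) (i : W' ⟶ W), z ∈ W' ∧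
    P W' (M.presheaf.map i.op s)) → P W s

variable {M P}

/-- The sub-presheaf of modules defined by the predicate. -/
noncomputable def subN (hP : IsSubsheafPred M P) : PresheafOfModules.Submodule M.val where
  obj W :=
    { carrier := {s | P W.unop s}
      add_mem' := fun {s t} hs ht => hP.add W.unop s t hs ht
      zero_mem' := hP.zero W.unop
      smul_mem' := fun r s hs => hP.smul W.unop r s hs }
  map {W W'} f := by
    intro s hs
    exact hP.res f.unop s hs

theorem subN_map_val (hP : IsSubsheafPred M P) {W W' : (Opens Z)ᵒᵖ} (f : W ⟶ W')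
    (x : (subN hP).toPresheafOfModules.presheaf.obj W) :
    ((subN hP).toPresheafOfModules.presheaf.map f x : (subN hP).obj W').val =
      M.presheaf.map f (x : (subN hP).obj W).val := rfl

theorem isSheaf_subN (hP : IsSubsheafPred M P) :
    TopCat.Presheaf.IsSheaf (X := Z.carrier) (subN hP).toPresheafOfModules.presheaf := by
  rw [TopCat.Presheaf.isSheaf_iff_isSheafUniqueGluing]
  intro ι U sf hsf
  -- the sections in `M`
  let sf' : ∀ i, Γ(M, U i) := fun i => (sf i : (subN hP).obj (op (U i))).val
  have hsf' : TopCat.Presheaf.IsCompatible M.presheaf U sf' := by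
    intro i j
    have := congrArg Subtype.val (hsf i j)
    exact this
  obtain ⟨s, hs, hs'⟩ := TopCat.Sheaf.existsUnique_gluing ⟨M.presheaf, M.isSheaf⟩ U sf' hsf'
  have hPs : P (iSup U) s := by
    apply hP.loc
    intro z hz
    obtain ⟨i, hi⟩ := Opens.mem_iSup.mp hz
    refine ⟨U i, Opens.leSupr U i, hi, ?_⟩
    have h1 : M.presheaf.map (Opens.leSupr U i).op s = sf' i := hs i
    rw [h1]
    exact (sf i : (subN hP).obj (op (U i))).2
  refine ⟨⟨s, hPs⟩, ?_, ?_⟩
  · intro i
    apply Subtype.ext
    exact hs i
  · intro t ht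
    apply Subtype.ext
    apply hs'
    intro i
    have := congrArg Subtype.val (ht i)
    exact this

/-- The subsheaf of modules defined by the predicate. -/
noncomputable def subE (hP : IsSubsheafPred M P) : Z.Modules :=
  { val := (subN hP).toPresheafOfModules
    isSheaf := isSheaf_subN hP }

/-- The inclusion of the subsheaf. -/
noncomputable def subι (hP : IsSubsheafPred M P) : subE hP ⟶ M := ⟨(subN hP).ι⟩

theorem subι_app (hP : IsSubsheafPred M P) (W : Z.Opens) (x : Γ(subE hP, W)) :
    (subι hP).app W x = (x : (subN hP).obj (op W)).val := rfl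

instance (hP : IsSubsheafPred M P) : Mono (subι hP) := by
  have : Mono ((SheafOfModules.forget _).map (subι hP)) :=
    inferInstanceAs (Mono (subN hP).ι)
  exact (SheafOfModules.forget _).mono_of_mono_map this

end Sub

/-- Induction principle for sections of a pulled back module. -/
theorem pullback_induction {Z X : Scheme.{u}} (h : Z ⟶ X) (F : X.Modules)
    (P : ∀ W : Z.Opens, Γ((Scheme.Modules.pullback h).obj F, W) → Prop)
    (hP : IsSubsheafPred ((Scheme.Modules.pullback h).obj F) P)
    {ι : Type*} (B : ι → X.Opens) (hB : Opens.IsBasis (Set.range B))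
    (pull : ∀ (i : ι) (t : Γ(F, B i)), P (h ⁻¹ᵁ B i) (OmegaSh.pullSect h F (B i) t))
    (W : Z.Opens) (s : Γ((Scheme.Modules.pullback h).obj F, W)) : P W s := by
  have : Epi (subι hP) := PullGen.epi_of_pullSect_mem_range h F B hB (subι hP)
    (fun i t => ⟨⟨OmegaSh.pullSect h F (B i) t, pull i t⟩, rfl⟩)
  have : IsIso (subι hP) := isIso_of_mono_of_epi _
  have hiso : IsIso ((subι hP).app W) := inferInstance
  obtain ⟨x, hx⟩ := ((ConcreteCategory.isIso_iff_bijective _).mp hiso).2 s
  rw [← hx]
  exact (x : (subN hP).obj (op W)).2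

end Groth.Agent.Lib.R2H3.PullInd
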