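import Mathlib
import Groth.Prelude.Def_OmegaPn
import Groth.Agent.Lib.R2H3DeltaAlg
import Groth.Agent.Lib.R2H3PnBCGeo
import Groth.Agent.Lib.Helper13ModGlue
import Groth.Agent.S5958

/-!
# The canonical map `δ : P^{n+n'} → P^{n'}(P^n)` (helper3, round 2)

* `exists_chart_map`: over a good affine chart `U`, a `Γ(X,U)`-linear map
  `Γ(P^{n+n'}, U) → Γ(P^{n'}(P^n), U)` with `d^{n+n'} t ↦ d^{n'}(d^n t)`.
* `exists_delta`: the global map.
-/

set_option autoImplicit false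
set_option linter.style.haveILetI false
set_option linter.unusedSectionVars false
universe u
open CategoryTheory CategoryTheory.Limits AlgebraicGeometry TopologicalSpace Opposite
open Nrm16 TensorProduct

namespace Groth.Agent.Lib.R2H3.DeltaGeo

open Groth.Agent.Lib.R2H3 Groth.Agent.Lib.R2H3.PnChart Groth.Agent.Lib.R2H3.PnKer
open Groth.Agent.Lib.R2H3.PnBCGeo
open Groth.Agent.Helper18OmLS Groth.Agent.Helper13PullbackUnit

section chart

variable {X S : Scheme.{u}} (f : X ⟶ S)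

/-- `thetaU` as an additive equivalence -/
noncomputable def thetaEquiv (n : ℕ) (U : X.Opens) :
    Γ(PrinPart.P f n, U) ≃+ Γ(PrinPart.nbhd f n, PrinPart.pr1 f n ⁻¹ᵁ U) :=
  AddEquiv.ofBijective (thetaU f n U)
    ⟨thetaU_injective f n U, Groth.Agent.S5958.Aux.thetaU_surjective f n U⟩

theorem thetaEquiv_apply (n : ℕ) (U : X.Opens) (y : Γ(PrinPart.P f n, U)) :
    thetaEquiv f n U y = thetaU f n U y := rfl

theorem thetaEquiv_symm_mul (n : ℕ) (U : X.Opens) (b : Γ(X, U))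
    (ν : Γ(PrinPart.nbhd f n, PrinPart.pr1 f n ⁻¹ᵁ U)) :
    (thetaEquiv f n U).symm ((PrinPart.pr1 f n).app U b * ν) = b • (thetaEquiv f n U).symm ν := by
  apply (thetaEquiv f n U).injective
  rw [AddEquiv.apply_symm_apply, thetaEquiv_apply, thetaU_smul, ← thetaEquiv_apply,
    AddEquiv.apply_symm_apply]

theorem thetaEquiv_symm_pr2 (n : ℕ) (U : X.Opens) (c : Γ(X, U)) :
    (thetaEquiv f n U).symm
      ((PrinPart.pr2 f n).appLE U (PrinPart.pr1 f n ⁻¹ᵁ U) (PrinPart.preimage_pr1 f n U).le c) =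
      PrinPart.dn f n U c := by
  apply (thetaEquiv f n U).injective
  rw [AddEquiv.apply_symm_apply, thetaEquiv_apply, thetaU_dn]

variable (n n' : ℕ) (U : X.Opens)

/-- the bilinear map `(ν', ν) ↦ ν' • d^{n'}(θ⁻¹ ν)` -/
noncomputable def beta :
    Γ(PrinPart.nbhd f n', PrinPart.pr1 f n' ⁻¹ᵁ U) →+
      Γ(PrinPart.nbhd f n, PrinPart.pr1 f n ⁻¹ᵁ U) →+
        Γ((Scheme.Modules.pullback (PrinPart.pr2 f n')).obj (PrinPart.P f n),
          PrinPart.pr1 f n' ⁻¹ᵁ U) :=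
  AddMonoidHom.mk' (fun ν' => AddMonoidHom.mk' (fun ν => ν' •
      (show Γ((Scheme.Modules.pullback (PrinPart.pr2 f n')).obj (PrinPart.P f n),
          PrinPart.pr1 f n' ⁻¹ᵁ U) from
        PrinPart.dP f n' (PrinPart.P f n) U ((thetaEquiv f n U).symm ν)))
    (fun ν₁ ν₂ => by
      rw [map_add, map_add]
      exact smul_add _ _ _))
    (fun ν₁' ν₂' => by
      ext ν
      exact add_smul _ _ _)

theorem beta_apply (ν' : Γ(PrinPart.nbhd f n', PrinPart.pr1 f n' ⁻¹ᵁ U))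
    (ν : Γ(PrinPart.nbhd f n, PrinPart.pr1 f n ⁻¹ᵁ U)) :
    beta f n n' U ν' ν = ν' •
      (show Γ((Scheme.Modules.pullback (PrinPart.pr2 f n')).obj (PrinPart.P f n),
          PrinPart.pr1 f n' ⁻¹ᵁ U) from
        PrinPart.dP f n' (PrinPart.P f n) U ((thetaEquiv f n U).symm ν)) := rfl

end chart

theorem exists_factor {A B C : Type*} [AddCommGroup A] [AddCommGroup B] [AddCommGroup C]
    (κ : A →+ B) (hκ : Function.Surjective κ) (Λ : A →+ C) (h : ∀ a, κ a = 0 → Λ a = 0) :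
    ∃ L : B →+ C, ∀ a, L (κ a) = Λ a := by
  have key : ∀ a a', κ a = κ a' → Λ a = Λ a' := by
    intro a a' e
    have := h (a - a') (by rw [map_sub, e, sub_self])
    rwa [map_sub, sub_eq_zero] at this
  refine ⟨AddMonoidHom.mk' (fun b => Λ (Classical.choose (hκ b))) ?_, ?_⟩
  · intro b b'
    rw [← map_add]
    apply key
    rw [map_add, Classical.choose_spec (hκ b), Classical.choose_spec (hκ b'),
      Classical.choose_spec (hκ (b + b'))]
  · intro a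
    exact key _ _ (Classical.choose_spec (hκ (κ a)))

section chartmap

variable {X S : Scheme.{u}} (f : X ⟶ S) {U : X.Opens} {T : S.Opens} (hU : IsAffineOpen U)
  (hT : IsAffineOpen T) (hUT : U ≤ f ⁻¹ᵁ T) (n n' : ℕ)

include hU hT hUT in
theorem exists_chart_map :
    ∃ L : Γ(PrinPart.P f (n + n'), U) →+ Γ(PrinPart.PMod f n' (PrinPart.P f n), U),
      (∀ (a : Γ(X, U)) (y : Γ(PrinPart.P f (n + n'), U)), L (a • y) = a • L y) ∧
      ∀ t : Γ(X, U), L (PrinPart.dn f (n + n') U t) =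
        PrinPart.dP f n' (PrinPart.P f n) U (PrinPart.dn f n U t) := by
  letI algN' : Algebra Γ(X, U) Γ(PrinPart.nbhd f n', PrinPart.pr1 f n' ⁻¹ᵁ U) :=
    ((PrinPart.pr2 f n').appLE U (PrinPart.pr1 f n' ⁻¹ᵁ U)
      (PrinPart.preimage_pr1 f n' U).le).hom.toAlgebra
  letI algN : Algebra Γ(X, U) Γ(PrinPart.nbhd f n, PrinPart.pr1 f n ⁻¹ᵁ U) :=
    ((PrinPart.pr1 f n).app U).hom.toAlgebra
  have hbal : ∀ (b : Γ(X, U)) (ν' : Γ(PrinPart.nbhd f n', PrinPart.pr1 f n' ⁻¹ᵁ U))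
      (ν : Γ(PrinPart.nbhd f n, PrinPart.pr1 f n ⁻¹ᵁ U)),
      beta f n n' U (b • ν') ν = beta f n n' U ν' (b • ν) := by
    intro b ν' ν
    rw [beta_apply, beta_apply, Algebra.smul_def, Algebra.smul_def]
    change (_ * ν') • _ = ν' • (show Γ((Scheme.Modules.pullback (PrinPart.pr2 f n')).obj
      (PrinPart.P f n), PrinPart.pr1 f n' ⁻¹ᵁ U) from PrinPart.dP f n' (PrinPart.P f n) U
        ((thetaEquiv f n U).symm ((PrinPart.pr1 f n).app U b * ν)))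
    rw [thetaEquiv_symm_mul, Groth.Agent.S5958.Aux.dP_smul, mul_comm, mul_smul]
    rfl
  let Ξ := TensorProduct.liftAddHom (beta f n n' U) hbal
  have hΞ : ∀ ν' ν, Ξ (ν' ⊗ₜ ν) = beta f n n' U ν' ν := fun ν' ν => rfl
  let iL : Γ(PrinPart.nbhd f n', PrinPart.pr1 f n' ⁻¹ᵁ U) →+*
      Γ(PrinPart.nbhd f n', PrinPart.pr1 f n' ⁻¹ᵁ U) ⊗[Γ(X, U)]
        Γ(PrinPart.nbhd f n, PrinPart.pr1 f n ⁻¹ᵁ U) :=
    Algebra.TensorProduct.includeLeftRingHom
  let iR : Γ(PrinPart.nbhd f n, PrinPart.pr1 f n ⁻¹ᵁ U) →+*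
      Γ(PrinPart.nbhd f n', PrinPart.pr1 f n' ⁻¹ᵁ U) ⊗[Γ(X, U)]
        Γ(PrinPart.nbhd f n, PrinPart.pr1 f n ⁻¹ᵁ U) :=
    (Algebra.TensorProduct.includeRight : Γ(PrinPart.nbhd f n, PrinPart.pr1 f n ⁻¹ᵁ U) →ₐ[Γ(X, U)]
      Γ(PrinPart.nbhd f n', PrinPart.pr1 f n' ⁻¹ᵁ U) ⊗[Γ(X, U)]
        Γ(PrinPart.nbhd f n, PrinPart.pr1 f n ⁻¹ᵁ U)).toRingHom
  have h2' : ∀ b, nu f n' U (pp₂ f U b) =
      algebraMap Γ(X, U) Γ(PrinPart.nbhd f n', PrinPart.pr1 f n' ⁻¹ᵁ U) b := fun b => nu_pp₂ f n' b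
  have h1 : ∀ b, nu f n U (pp₁ f U b) =
      algebraMap Γ(X, U) Γ(PrinPart.nbhd f n, PrinPart.pr1 f n ⁻¹ᵁ U) b := fun b => nu_pp₁ f n b
  obtain ⟨ρ, ⟨hρ1, hρ2⟩, -⟩ := PO_ring f hUT hU hT
    (Γ(PrinPart.nbhd f n', PrinPart.pr1 f n' ⁻¹ᵁ U) ⊗[Γ(X, U)]
      Γ(PrinPart.nbhd f n, PrinPart.pr1 f n ⁻¹ᵁ U))
    (iL.comp ((nu f n' U).comp (pp₁ f U))) (iR.comp ((nu f n U).comp (pp₂ f U))) (by
      ext α
      have e1 : pp₁ f U ((f.appLE T U hUT).hom α) = pp₂ f U ((f.appLE T U hUT).hom α) :=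
        congr($(pp₁_comp_cc f hUT) α)
      change (nu f n' U (pp₁ f U ((f.appLE T U hUT).hom α))) ⊗ₜ[Γ(X, U)] 1 =
        1 ⊗ₜ[Γ(X, U)] (nu f n U (pp₂ f U ((f.appLE T U hUT).hom α)))
      rw [e1, h2', ← e1, h1, Algebra.algebraMap_eq_smul_one, Algebra.algebraMap_eq_smul_one,
        TensorProduct.smul_tmul])
  have hρ₁ : ∀ b, ρ (pp₁ f U b) = nu f n' U (pp₁ f U b) ⊗ₜ[Γ(X, U)] 1 := fun b => congr($hρ1 b)
  have hρ₂ : ∀ c, ρ (pp₂ f U c) = 1 ⊗ₜ[Γ(X, U)] nu f n U (pp₂ f U c) := fun c => congr($hρ2 c)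
  have hzero : ∀ r, kap f hU hT hUT (n + n') r = 0 → (Ξ.comp ρ.toAddMonoidHom) r = 0 := by
    intro r hr
    rw [kap_eq_zero_iff] at hr
    have := Groth.Agent.Lib.R2H3.DeltaAlg.rho_eq_zero (pp₁ f U) (pp₂ f U) (mm f U)
      (mm_pp₁ f) (mm_pp₂ f) (closure_pp f hU hT hUT) (nu f n' U) (nu f n U) n n'
      (fun r hr => by
        rw [← ker_nu f hU hT hUT n'] at hr
        exact hr)
      (fun r hr => by
        rw [← ker_nu f hU hT hUT n] at hr
        exact hr) h2' h1 ρ hρ₁ hρ₂ r hr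
    change Ξ (ρ r) = 0
    rw [this, map_zero]
  obtain ⟨L, hL⟩ : ∃ L : Γ(PrinPart.P f (n + n'), U) →+
        Γ(PrinPart.PMod f n' (PrinPart.P f n), U),
      ∀ a, L (kap f hU hT hUT (n + n') a) = Ξ (ρ a) :=
    exists_factor (kap f hU hT hUT (n + n')) (kap_surjective f hU hT hUT (n + n'))
      (Ξ.comp ρ.toAddMonoidHom) hzero
  have hΞmul : ∀ (x : Γ(PrinPart.nbhd f n', PrinPart.pr1 f n' ⁻¹ᵁ U))
      (τ : Γ(PrinPart.nbhd f n', PrinPart.pr1 f n' ⁻¹ᵁ U) ⊗[Γ(X, U)]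
        Γ(PrinPart.nbhd f n, PrinPart.pr1 f n ⁻¹ᵁ U)),
      Ξ ((x ⊗ₜ[Γ(X, U)] 1) * τ) = x • Ξ τ := by
    intro x τ
    induction τ using TensorProduct.induction_on with
    | zero => rw [mul_zero, map_zero, smul_zero]
    | tmul ν' ν =>
      rw [Algebra.TensorProduct.tmul_mul_tmul, one_mul, hΞ, hΞ, beta_apply, beta_apply, mul_smul]
    | add a b ha hb => rw [mul_add, map_add, map_add, ha, hb, smul_add]
  refine ⟨L, ?_, ?_⟩
  · intro a y
    obtain ⟨r, rfl⟩ := kap_surjective f hU hT hUT (n + n') y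
    rw [← kap_pp₁_mul, hL, hL, map_mul, hρ₁, hΞmul, nu_pp₁]
    rfl
  · intro t
    rw [← kap_pp₂ f hU hT hUT, hL, hρ₂, hΞ, beta_apply, nu_pp₂, thetaEquiv_symm_pr2, one_smul]

end chartmap

section glue

open Groth.Agent.Lib.Helper6 Groth.Agent.Helper13ModGlue

variable {X S : Scheme.{u}} (f : X ⟶ S) (n n' : ℕ)

/-- two sections that agree locally agree -/
theorem eq_of_locally {G : X.Modules} {U : X.Opens} (γ γ' : Γ(G, U))
    (H : ∀ x ∈ U, ∃ (V : X.Opens) (e : V ≤ U), x ∈ V ∧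
      G.presheaf.map (homOfLE e).op γ = G.presheaf.map (homOfLE e).op γ') : γ = γ' := by
  choose V e hxV hV using H
  refine TopCat.Sheaf.eq_of_locally_eq' ⟨G.presheaf, G.isSheaf⟩
    (fun x : {x : X // x ∈ U} => V x.1 x.2) U (fun x => homOfLE (e x.1 x.2)) ?_ γ γ' (fun x => ?_)
  · intro x hx
    exact Opens.mem_iSup.mpr ⟨⟨x, hx⟩, hxV x hx⟩
  · exact hV x.1 x.2

/-- the good charts -/
abbrev Chart : Type u :=
  {p : X.Opens × S.Opens // IsAffineOpen p.1 ∧ IsAffineOpen p.2 ∧ p.1 ≤ f ⁻¹ᵁ p.2}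

theorem exists_chart_le (U : X.Opens) (x : X) (hx : x ∈ U) :
    ∃ k : Chart f, x ∈ k.1.1 ∧ k.1.1 ≤ U := by
  obtain ⟨_, ⟨T, hT, rfl⟩, hxT, -⟩ :=
    S.isBasis_affineOpens.exists_subset_of_mem_open (Set.mem_univ (f x)) isOpen_univ
  have hx2 : x ∈ U ⊓ f ⁻¹ᵁ T := ⟨hx, hxT⟩
  obtain ⟨_, ⟨U', hU', rfl⟩, hxU', hle⟩ :=
    X.isBasis_affineOpens.exists_subset_of_mem_open hx2 (U ⊓ f ⁻¹ᵁ T).isOpen
  exact ⟨⟨(U', T), hU', hT, fun y hy => (hle hy).2⟩, hxU', fun y hy => (hle hy).1⟩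

/-- the defining property of the local families -/
def IsDeltaFam (V : X.Opens)
    (D : LocFam V (PrinPart.P f (n + n')) (PrinPart.PMod f n' (PrinPart.P f n))) : Prop :=
  ∀ t : Γ(X, V), D.d V le_rfl (PrinPart.dn f (n + n') V t) =
    PrinPart.dP f n' (PrinPart.P f n) V (PrinPart.dn f n V t)

theorem exists_chart_fam (k : Chart f) :
    ∃ D : LocFam k.1.1 (PrinPart.P f (n + n')) (PrinPart.PMod f n' (PrinPart.P f n)),
      IsDeltaFam f n n' k.1.1 D := by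
  haveI := isQuasicoherent_P f (n + n')
  obtain ⟨L, hL1, hL2⟩ := exists_chart_map f k.2.1 k.2.2.1 k.2.2.2 n n'
  obtain ⟨D, hD⟩ := exists_locFam k.2.1 (PrinPart.P f (n + n'))
    (PrinPart.PMod f n' (PrinPart.P f n)) L hL1
  refine ⟨D, fun t => ?_⟩
  rw [hD, hL2]

theorem locFam_eq {V V' : X.Opens} {T : S.Opens} (hV : IsAffineOpen V) (hT : IsAffineOpen T)
    (hVT : V ≤ f ⁻¹ᵁ T) (hle : V' ≤ V)
    (D : LocFam V (PrinPart.P f (n + n')) (PrinPart.PMod f n' (PrinPart.P f n)))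
    (D' : LocFam V' (PrinPart.P f (n + n')) (PrinPart.PMod f n' (PrinPart.P f n)))
    (hD : IsDeltaFam f n n' V D) (hD' : IsDeltaFam f n n' V' D')
    (W : X.Opens) (hW : W ≤ V') (τ : Γ(PrinPart.P f (n + n'), W)) :
    D.d W (hW.trans hle) τ = D'.d W hW τ := by
  haveI := isQuasicoherent_P f (n + n')
  refine LocFam.eq_of_le hV _ _ hle (D.restrict hle) D' ?_ W hW τ
  intro σ
  change D.d V' _ (res _ hle σ) = D'.d V' le_rfl (res _ hle σ)
  rw [← D.nat V V' le_rfl hle σ]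
  have hσ : σ ∈ Submodule.span Γ(X, V) (Set.range (PrinPart.dn f (n + n') V)) := by
    rw [span_dn_eq_top f hV hT hVT]; trivial
  induction hσ using Submodule.span_induction with
  | mem y hy =>
    obtain ⟨t, rfl⟩ := hy
    rw [hD]
    have e1 := PrinPart.dP_map f n' (PrinPart.P f n) hle (PrinPart.dn f n V t)
    have e2 := dn_map f n hle t
    have e3 := dn_map f (n + n') hle t
    change (PrinPart.PMod f n' (PrinPart.P f n)).presheaf.map (homOfLE hle).op _ =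
      D'.d V' le_rfl ((PrinPart.P f (n + n')).presheaf.map (homOfLE hle).op _)
    rw [← e1, ← e2, ← e3, hD']
  | zero => rw [map_zero, res_zero, res_zero, map_zero]
  | add y y' _ _ hy hy' =>
    rw [map_add, res_add', res_add', map_add, hy, hy']
  | smul a y _ hy =>
    rw [D.lin, res_smul, res_smul, D'.lin, hy]

/-- **Existence of `δ`.** -/
theorem exists_delta :
    ∃ δ : PrinPart.P f (n + n') ⟶ PrinPart.PMod f n' (PrinPart.P f n),
      ∀ (U : X.Opens) (t : Γ(X, U)),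
        δ.app U (PrinPart.dn f (n + n') U t) =
          PrinPart.dP f n' (PrinPart.P f n) U (PrinPart.dn f n U t) := by
  choose D hD using exists_chart_fam f n n'
  have hcov : ⨆ k : Chart f, k.1.1 = ⊤ := by
    rw [eq_top_iff]
    intro x _
    obtain ⟨k, hk, -⟩ := exists_chart_le f ⊤ x trivial
    exact Opens.mem_iSup.mpr ⟨k, hk⟩
  obtain ⟨ψ, hψ⟩ := exists_hom_of_locFams (fun k : Chart f => k.1.1) hcov _ _ D (by
    intro i j W hi hj τ
    apply eq_of_locally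
    intro x hx
    obtain ⟨k, hxk, hkW⟩ := exists_chart_le f W x hx
    refine ⟨k.1.1, hkW, hxk, ?_⟩
    change res _ hkW _ = res _ hkW _
    rw [(D i).nat W k.1.1 hi hkW τ, (D j).nat W k.1.1 hj hkW τ,
      locFam_eq f n n' i.2.1 i.2.2.1 i.2.2.2 (hkW.trans hi) (D i) (D k) (hD i) (hD k) k.1.1 le_rfl,
      locFam_eq f n n' j.2.1 j.2.2.1 j.2.2.2 (hkW.trans hj) (D j) (D k) (hD j) (hD k) k.1.1 le_rfl])
  refine ⟨ψ, fun U t => ?_⟩
  apply eq_of_locally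
  intro x hx
  obtain ⟨k, hxk, hkU⟩ := exists_chart_le f U x hx
  refine ⟨k.1.1, hkU, hxk, ?_⟩
  rw [← app_naturality, ← dn_map, hψ k k.1.1 le_rfl, hD k, ← PrinPart.dP_map, ← dn_map]

end glue

end Groth.Agent.Lib.R2H3.DeltaGeo
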