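import Mathlib
import Groth.Agent.Lib.Helper18ColimSys

/-!
# Linear maps from a finitely presented module into `A ⊗ N`, `A` a filtered colimit (helper3, round 2)

For a directed system `Sys R G A g` (helper18), `M` finitely presented and any `N`, every `R`-linear map
`ℓ : M → A ⊗[R] N` factors through some `G j ⊗[R] N` (`Sys.exists_linearMap_lift`).
-/

set_option autoImplicit false
set_option linter.unusedSectionVars false
universe u

open TensorProduct Groth.Agent.Lib.Helper18ColimSys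

namespace Groth.Agent.Lib.R2H3.LimHomAlg

variable {R : Type u} [CommRing R] {ι : Type u} {G : ι → Type u} [∀ i, CommRing (G i)]
    [∀ i, Algebra R (G i)] {A : Type u} [CommRing A] [Algebra R A] {g : ∀ i, G i →ₐ[R] A}

/-- a single element of `A ⊗ N` comes from a stage -/
theorem exists_rTensor_eq (hS : Sys R G A g) (N : Type u) [AddCommGroup N] [Module R N]
    (y : A ⊗[R] N) : ∃ j, ∃ z : G j ⊗[R] N, (g j).toLinearMap.rTensor N z = y := by
  induction y using TensorProduct.induction_on with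
  | zero =>
    obtain ⟨j⟩ := hS.nonempty
    exact ⟨j, 0, map_zero _⟩
  | tmul a n =>
    obtain ⟨j, x, hx⟩ := hS.surj a
    exact ⟨j, x ⊗ₜ n, by rw [LinearMap.rTensor_tmul, AlgHom.toLinearMap_apply, hx]⟩
  | add y₁ y₂ h₁ h₂ =>
    obtain ⟨j₁, z₁, hz₁⟩ := h₁
    obtain ⟨j₂, z₂, hz₂⟩ := h₂
    obtain ⟨l, φ, ψ, hφ, hψ⟩ := hS.dir j₁ j₂
    refine ⟨l, φ.toLinearMap.rTensor N z₁ + ψ.toLinearMap.rTensor N z₂, ?_⟩
    rw [map_add, ← LinearMap.comp_apply, ← LinearMap.comp_apply, ← LinearMap.rTensor_comp,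
      ← LinearMap.rTensor_comp, ← AlgHom.comp_toLinearMap, ← AlgHom.comp_toLinearMap, hφ, hψ, hz₁,
      hz₂]

/-- finitely many elements of `A ⊗ N` come from a common stage -/
theorem exists_rTensor_eq_fin (hS : Sys R G A g) (N : Type u) [AddCommGroup N] [Module R N]
    (n : ℕ) (y : Fin n → A ⊗[R] N) :
    ∃ j, ∃ z : Fin n → G j ⊗[R] N, ∀ k, (g j).toLinearMap.rTensor N (z k) = y k := by
  induction n with
  | zero =>
    obtain ⟨j⟩ := hS.nonempty
    exact ⟨j, fun k => k.elim0, fun k => k.elim0⟩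
  | succ n ih =>
    obtain ⟨j₁, z₁, hz₁⟩ := ih (fun k => y k.succ)
    obtain ⟨j₂, z₂, hz₂⟩ := exists_rTensor_eq hS N (y 0)
    obtain ⟨l, φ, ψ, hφ, hψ⟩ := hS.dir j₁ j₂
    refine ⟨l, Fin.cons (ψ.toLinearMap.rTensor N z₂) (fun k => φ.toLinearMap.rTensor N (z₁ k)), ?_⟩
    intro k
    refine Fin.cases ?_ (fun k => ?_) k
    · rw [Fin.cons_zero, ← LinearMap.comp_apply, ← LinearMap.rTensor_comp,
        ← AlgHom.comp_toLinearMap, hψ, hz₂]
    · rw [Fin.cons_succ, ← LinearMap.comp_apply, ← LinearMap.rTensor_comp,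
        ← AlgHom.comp_toLinearMap, hφ, hz₁]

/-- **lifting linear maps out of a finitely presented module to a stage** -/
theorem Sys.exists_linearMap_lift (hS : Sys R G A g) (M N : Type u) [AddCommGroup M] [Module R M]
    [AddCommGroup N] [Module R N] [Module.FinitePresentation R M] (ℓ : M →ₗ[R] A ⊗[R] N) :
    ∃ j, ∃ ℓj : M →ₗ[R] G j ⊗[R] N, ∀ m, (g j).toLinearMap.rTensor N (ℓj m) = ℓ m := by
  classical
  obtain ⟨n, K, eM, hK⟩ := Module.FinitePresentation.exists_fin R M
  obtain ⟨s, hs⟩ := hK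
  -- the images of the generators
  let q : (Fin n → R) →ₗ[R] M := eM.symm.toLinearMap ∘ₗ K.mkQ
  obtain ⟨j, z, hz⟩ := exists_rTensor_eq_fin hS N n (fun i => ℓ (q (Pi.single i 1)))
  -- the map on the free module at stage j
  let lam : ∀ j', (Fin n → G j' ⊗[R] N) → ((Fin n → R) →ₗ[R] G j' ⊗[R] N) := fun j' z' =>
    { toFun := fun v => ∑ i, v i • z' i
      map_add' := fun v w => by
        simp only [Pi.add_apply, add_smul, Finset.sum_add_distrib]
      map_smul' := fun r v => by
        simp only [Pi.smul_apply, smul_eq_mul, mul_smul, RingHom.id_apply, Finset.smul_sum] }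
  have hlam : ∀ v, (g j).toLinearMap.rTensor N (lam j z v) = ℓ (q v) := by
    intro v
    change (g j).toLinearMap.rTensor N (∑ i, v i • z i) = ℓ (q v)
    rw [map_sum]
    have hv : v = ∑ i, v i • (Pi.single i (1 : R) : Fin n → R) := by
      ext k
      simp [Finset.sum_apply, Pi.single_apply]
    conv_rhs => rw [hv, map_sum, map_sum]
    refine Finset.sum_congr rfl fun i _ => ?_
    rw [map_smul, map_smul, map_smul, hz]
  -- kill the relations
  have hq0 : ∀ v ∈ K, q v = 0 := by
    intro v hv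
    change eM.symm (K.mkQ v) = 0
    rw [Submodule.mkQ_apply, (Submodule.Quotient.mk_eq_zero K).2 hv, map_zero]
  obtain ⟨j', φ, hφ, hkill⟩ := hS.tensor_kill_left_finset N j (s.image (lam j z)) (by
    intro x hx
    obtain ⟨v, hv, rfl⟩ := Finset.mem_image.1 hx
    rw [hlam, hq0 v (hs ▸ Submodule.subset_span hv), map_zero])
  let z' : Fin n → G j' ⊗[R] N := fun i => φ.toLinearMap.rTensor N (z i)
  have hlam' : ∀ v, lam j' z' v = φ.toLinearMap.rTensor N (lam j z v) := by
    intro v
    change ∑ i, v i • z' i = φ.toLinearMap.rTensor N (∑ i, v i • z i)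
    rw [map_sum]
    refine Finset.sum_congr rfl fun i _ => ?_
    rw [map_smul]
  have hK' : K ≤ LinearMap.ker (lam j' z') := by
    rw [← hs, Submodule.span_le]
    intro v hv
    change lam j' z' v = 0
    rw [hlam']
    exact hkill _ (Finset.mem_image_of_mem _ hv)
  refine ⟨j', (K.liftQ (lam j' z') hK') ∘ₗ eM.toLinearMap, fun m => ?_⟩
  obtain ⟨v, hv⟩ := K.mkQ_surjective (eM m)
  change (g j').toLinearMap.rTensor N (K.liftQ (lam j' z') hK' (eM m)) = ℓ m
  rw [← hv, Submodule.mkQ_apply, Submodule.liftQ_apply, hlam', ← LinearMap.comp_apply,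
    ← LinearMap.rTensor_comp, ← AlgHom.comp_toLinearMap, hφ, hlam]
  congr 1
  change eM.symm (K.mkQ v) = m
  rw [hv, LinearEquiv.symm_apply_apply]

end Groth.Agent.Lib.R2H3.LimHomAlg
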