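import Mathlib
import Groth.Agent.Lib.R2H3PullUnit
import Groth.Agent.Lib.R2H3LimHomAlg
import Groth.Agent.Lib.R2H3DeltaGeo
import Groth.Agent.Lib.Helper26ModLim
import Groth.Agent.Lib.Helper18OmLS13
import Groth.Agent.Lib.Helper13ModGlue
import Groth.Agent.Lib.Helper2FPAff

/-!
# Surjectivity of `colim Hom(F_j, G_j) → Hom(F, G)` over a limit of schemes (helper3, round 2)

EGA IV 8.5.2 (surjectivity part).  We work on the base stage `S₀ = D.obj i₀` with the modules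
`GG j = (u_j)_* u_j^* G₀` and `GA = u_* u^* G₀`, and factor a given `F₀ ⟶ GA` through some `GG j`.
-/

set_option autoImplicit false
set_option linter.style.haveILetI false
set_option linter.unusedSectionVars false
universe u
open CategoryTheory CategoryTheory.Limits AlgebraicGeometry TopologicalSpace Opposite TensorProduct

namespace Groth.Agent.Lib.R2H3.LimHom

open Groth.Agent.Lib.R2H3.PullUnit Groth.Agent.Lib.Helper26.ModLim
open Groth.Agent.Helper13PullbackUnit Groth.Agent.Helper18OmLS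
open Groth.Agent.Lib.Helper18ColimSys

section setup

variable {I : Type u} [SmallCategory I] [IsCofiltered I] (D : I ⥤ Scheme.{u}) (c : Cone D)
  (hc : IsLimit c) [∀ (i j : I) (f : i ⟶ j), IsAffineHom (D.map f)] (i₀ : I)
  (G₀ : (D.obj i₀).Modules)

/-- the projection `S ⟶ S_{i₀}` with its source written as `c.pt` -/
abbrev πA : c.pt ⟶ D.obj i₀ := c.π.app i₀

/-- `(u_j)_* u_j^* G₀` -/
noncomputable abbrev GG (j : Over i₀) : (D.obj i₀).Modules :=
  (Scheme.Modules.pushforward (D.map j.hom)).obj ((Scheme.Modules.pullback (D.map j.hom)).obj G₀)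

/-- `u_* u^* G₀` -/
noncomputable abbrev GA : (D.obj i₀).Modules :=
  (Scheme.Modules.pushforward (πA D c i₀)).obj ((Scheme.Modules.pullback (πA D c i₀)).obj G₀)

/-- the canonical map `GG j ⟶ GA` -/
noncomputable abbrev kap (j : Over i₀) : GG D i₀ G₀ j ⟶ GA D c i₀ G₀ :=
  kappa (c.w j.hom) G₀

theorem map_tr_eq {j j' : Over i₀} (a : j' ⟶ j) : D.map a.left ≫ D.map j.hom = D.map j'.hom := by
  rw [← D.map_comp, Over.w]

/-- the transition map `GG j ⟶ GG j'` -/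
noncomputable abbrev kapTr {j j' : Over i₀} (a : j' ⟶ j) : GG D i₀ G₀ j ⟶ GG D i₀ G₀ j' :=
  kappa (map_tr_eq D i₀ a) G₀

/-- `κ_j` on sections -/
noncomputable def kapSec (j : Over i₀) (V : (D.obj i₀).Opens) :
    Γ((Scheme.Modules.pullback (D.map j.hom)).obj G₀, D.map j.hom ⁻¹ᵁ V) →+
      Γ((Scheme.Modules.pullback (πA D c i₀)).obj G₀, πA D c i₀ ⁻¹ᵁ V) :=
  ((kap D c i₀ G₀ j).app V).hom

/-- `κ_a` on sections -/
noncomputable def kapTrSec {j j' : Over i₀} (a : j' ⟶ j) (V : (D.obj i₀).Opens) :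
    Γ((Scheme.Modules.pullback (D.map j.hom)).obj G₀, D.map j.hom ⁻¹ᵁ V) →+
      Γ((Scheme.Modules.pullback (D.map j'.hom)).obj G₀, D.map j'.hom ⁻¹ᵁ V) :=
  ((kapTr D i₀ G₀ a).app V).hom

end setup

section sections

variable {I : Type u} [SmallCategory I] [IsCofiltered I] (D : I ⥤ Scheme.{u}) (c : Cone D)
  (hc : IsLimit c) [∀ (i j : I) (f : i ⟶ j), IsAffineHom (D.map f)] (i₀ : I)
  (G₀ : (D.obj i₀).Modules) [G₀.IsQuasicoherent] {V : (D.obj i₀).Opens} (hV : IsAffineOpen V)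

attribute [local instance] algG algA

include hV in
/-- sections of `GG j` over an affine open -/
theorem exists_eG (j : Over i₀) :
    ∃ e : (Gj D i₀ V j) ⊗[Γ(D.obj i₀, V)] Γ(G₀, V) ≃ₗ[Gj D i₀ V j]
        Γ((Scheme.Modules.pullback (D.map j.hom)).obj G₀, D.map j.hom ⁻¹ᵁ V),
      ∀ (b : Gj D i₀ V j) (n : Γ(G₀, V)), e (b ⊗ₜ n) = b • unitSec (D.map j.hom) G₀ le_rfl n :=
  exists_pullback_equiv (D.map j.hom) G₀ le_rfl hV (hV.preimage (D.map j.hom)) rfl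

include hV hc in
/-- sections of `GA` over an affine open -/
theorem exists_eA :
    ∃ e : Γ(c.pt, πA D c i₀ ⁻¹ᵁ V) ⊗[Γ(D.obj i₀, V)] Γ(G₀, V) ≃ₗ[Γ(c.pt, πA D c i₀ ⁻¹ᵁ V)]
        Γ((Scheme.Modules.pullback (πA D c i₀)).obj G₀, πA D c i₀ ⁻¹ᵁ V),
      ∀ (b : Γ(c.pt, πA D c i₀ ⁻¹ᵁ V)) (n : Γ(G₀, V)),
        e (b ⊗ₜ n) = b • unitSec (πA D c i₀) G₀ le_rfl n := by
  haveI : IsAffineHom (πA D c i₀) := isAffineHom_π_app D c hc i₀
  exact exists_pullback_equiv (πA D c i₀) G₀ le_rfl hV (hV.preimage (πA D c i₀)) rfl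

/-- `κ_j` on sections over an affine open is `g_j ⊗ id` -/
theorem kap_eG (j : Over i₀)
    (eG : (Gj D i₀ V j) ⊗[Γ(D.obj i₀, V)] Γ(G₀, V) ≃ₗ[Gj D i₀ V j]
        Γ((Scheme.Modules.pullback (D.map j.hom)).obj G₀, D.map j.hom ⁻¹ᵁ V))
    (heG : ∀ (b : Gj D i₀ V j) (n : Γ(G₀, V)),
      eG (b ⊗ₜ n) = b • unitSec (D.map j.hom) G₀ le_rfl n)
    (eA : Γ(c.pt, πA D c i₀ ⁻¹ᵁ V) ⊗[Γ(D.obj i₀, V)] Γ(G₀, V) ≃ₗ[Γ(c.pt, πA D c i₀ ⁻¹ᵁ V)]
        Γ((Scheme.Modules.pullback (πA D c i₀)).obj G₀, πA D c i₀ ⁻¹ᵁ V))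
    (heA : ∀ (b : Γ(c.pt, πA D c i₀ ⁻¹ᵁ V)) (n : Γ(G₀, V)),
        eA (b ⊗ₜ n) = b • unitSec (πA D c i₀) G₀ le_rfl n)
    (z : (Gj D i₀ V j) ⊗[Γ(D.obj i₀, V)] Γ(G₀, V)) :
    kapSec D c i₀ G₀ j V (eG z) = eA ((gAlg D c i₀ V j).toLinearMap.rTensor Γ(G₀, V) z) := by
  induction z using TensorProduct.induction_on with
  | zero => rw [map_zero, map_zero, map_zero, map_zero]
  | tmul b n =>
    rw [heG, LinearMap.rTensor_tmul, heA]
    exact kappa_smul_unitSec (c.w j.hom) G₀ V b n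
  | add x y hx hy => rw [map_add, map_add, map_add, map_add, hx, hy]

/-- the transition `κ_a` on sections over an affine open is `tr_a ⊗ id` -/
theorem kapTr_eG {j j' : Over i₀} (a : j' ⟶ j)
    (eG : (Gj D i₀ V j) ⊗[Γ(D.obj i₀, V)] Γ(G₀, V) ≃ₗ[Gj D i₀ V j]
        Γ((Scheme.Modules.pullback (D.map j.hom)).obj G₀, D.map j.hom ⁻¹ᵁ V))
    (heG : ∀ (b : Gj D i₀ V j) (n : Γ(G₀, V)),
      eG (b ⊗ₜ n) = b • unitSec (D.map j.hom) G₀ le_rfl n)
    (eG' : (Gj D i₀ V j') ⊗[Γ(D.obj i₀, V)] Γ(G₀, V) ≃ₗ[Gj D i₀ V j']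
        Γ((Scheme.Modules.pullback (D.map j'.hom)).obj G₀, D.map j'.hom ⁻¹ᵁ V))
    (heG' : ∀ (b : Gj D i₀ V j') (n : Γ(G₀, V)),
      eG' (b ⊗ₜ n) = b • unitSec (D.map j'.hom) G₀ le_rfl n)
    (z : (Gj D i₀ V j) ⊗[Γ(D.obj i₀, V)] Γ(G₀, V)) :
    kapTrSec D i₀ G₀ a V (eG z) = eG' ((trAlg D i₀ V a).toLinearMap.rTensor Γ(G₀, V) z) := by
  induction z using TensorProduct.induction_on with
  | zero => rw [map_zero, map_zero, map_zero, map_zero]
  | tmul b n =>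
    rw [heG, LinearMap.rTensor_tmul, heG']
    exact kappa_smul_unitSec (map_tr_eq D i₀ a) G₀ V b n
  | add x y hx hy => rw [map_add, map_add, map_add, map_add, hx, hy]

end sections

/-- morphisms of modules agreeing on sections over affine opens agree -/
theorem hom_ext_affine {X : Scheme.{u}} {M N : X.Modules} (a b : M ⟶ N)
    (h : ∀ (V : X.Opens), IsAffineOpen V → ∀ x : Γ(M, V), a.app V x = b.app V x) : a = b := by
  apply Scheme.Modules.hom_ext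
  intro W
  ext x
  apply DeltaGeo.eq_of_locally
  intro y hy
  obtain ⟨_, ⟨V, hV, rfl⟩, hyV, hVW⟩ :=
    X.isBasis_affineOpens.exists_subset_of_mem_open hy W.isOpen
  have hVW' : V ≤ W := hVW
  refine ⟨V, hVW', hyV, ?_⟩
  exact ((app_res a hVW' x).symm.trans (h V hV _)).trans (app_res b hVW' x)

section coherence

variable {I : Type u} [SmallCategory I] [IsCofiltered I] (D : I ⥤ Scheme.{u}) (c : Cone D)
  (hc : IsLimit c) [∀ (i j : I) (f : i ⟶ j), IsAffineHom (D.map f)] (i₀ : I)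
  (G₀ : (D.obj i₀).Modules) [G₀.IsQuasicoherent]

attribute [local instance] algG algA

include hc in
/-- `κ_a ≫ κ_{j'} = κ_j` -/
theorem kapTr_kap {j j' : Over i₀} (a : j' ⟶ j) :
    kapTr D i₀ G₀ a ≫ kap D c i₀ G₀ j' = kap D c i₀ G₀ j := by
  apply hom_ext_affine
  intro V hV x
  obtain ⟨eG, heG⟩ := exists_eG D i₀ G₀ hV j
  obtain ⟨eG', heG'⟩ := exists_eG D i₀ G₀ hV j'
  obtain ⟨eA, heA⟩ := exists_eA D c hc i₀ G₀ hV
  obtain ⟨z, rfl⟩ := eG.surjective x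
  change kapSec D c i₀ G₀ j' V (kapTrSec D i₀ G₀ a V (eG z)) = kapSec D c i₀ G₀ j V (eG z)
  rw [kapTr_eG D i₀ G₀ a eG heG eG' heG', kap_eG D c i₀ G₀ j' eG' heG' eA heA,
    kap_eG D c i₀ G₀ j eG heG eA heA, ← LinearMap.comp_apply, ← LinearMap.rTensor_comp,
    ← AlgHom.comp_toLinearMap, gAlg_comp_trAlg]

end coherence

section locfam

open Groth.Agent.Helper13ModGlue Groth.Agent.Lib.Helper6

variable {X : Scheme.{u}}

/-- composition of a local family with a morphism of modules -/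
noncomputable def LocFam.comp {V : X.Opens} {H F F' : X.Modules} (E : LocFam V H F) (κ : F ⟶ F') :
    LocFam V H F' where
  d W hW := (κ.app W).hom.comp (E.d W hW)
  nat W W' hW hW' τ := by
    change res F' hW' (κ.app W (E.d W hW τ)) = κ.app W' (E.d W' _ (res H hW' τ))
    rw [← E.nat]
    exact (app_res κ hW' _).symm
  lin W hW a τ := by
    change κ.app W (E.d W hW (a • τ)) = a • κ.app W (E.d W hW τ)
    rw [E.lin, Scheme.Modules.Hom.app_smul]

theorem LocFam.comp_d {V : X.Opens} {H F F' : X.Modules} (E : LocFam V H F) (κ : F ⟶ F')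
    (W : X.Opens) (hW : W ≤ V) (τ : Γ(H, W)) :
    (LocFam.comp E κ).d W hW τ = κ.app W (E.d W hW τ) := rfl

/-- the local family of a morphism -/
noncomputable def LocFam.ofHom {H F : X.Modules} (ψ : H ⟶ F) (V : X.Opens) : LocFam V H F where
  d W _ := (ψ.app W).hom
  nat W W' hW hW' τ := (app_res ψ hW' τ).symm
  lin W hW a τ := Scheme.Modules.Hom.app_smul ψ a τ

theorem LocFam.ofHom_d {H F : X.Modules} (ψ : H ⟶ F) (V : X.Opens)
    (W : X.Opens) (hW : W ≤ V) (τ : Γ(H, W)) : (LocFam.ofHom ψ V).d W hW τ = ψ.app W τ := rfl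

end locfam

section loc

open Groth.Agent.Helper13ModGlue Groth.Agent.Lib.Helper6

variable {I : Type u} [SmallCategory I] [IsCofiltered I] (D : I ⥤ Scheme.{u}) (c : Cone D)
  (hc : IsLimit c) [∀ (i j : I) (f : i ⟶ j), IsAffineHom (D.map f)] (i₀ : I)
  (F₀ G₀ : (D.obj i₀).Modules) [F₀.IsQuasicoherent] [G₀.IsQuasicoherent]
  [SheafOfModules.IsFinitePresentation (R := (D.obj i₀).ringCatSheaf) F₀]

attribute [local instance] algG algA

include hc in
/-- the local lifting step over an affine open of `S_{i₀}` -/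
theorem exists_local_lift {V : (D.obj i₀).Opens} (hV : IsAffineOpen V)
    (tA : F₀ ⟶ GA D c i₀ G₀) :
    ∃ (j : Over i₀) (L : Γ(F₀, V) →+ Γ(GG D i₀ G₀ j, V)),
      (∀ (r : Γ(D.obj i₀, V)) (m : Γ(F₀, V)), L (r • m) = r • L m) ∧
      ∀ m, (kap D c i₀ G₀ j).app V (L m) = tA.app V m := by
  obtain ⟨eA, heA⟩ := exists_eA D c hc i₀ G₀ hV
  haveI : Module.FinitePresentation Γ(D.obj i₀, V) Γ(F₀, V) :=
    Groth.Agent.Lib.Helper2.FPAff.finitePresentation_sections F₀ hV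
  have happ : ∀ r : Γ(D.obj i₀, V), (πA D c i₀).app V r =
      algebraMap Γ(D.obj i₀, V) Γ(c.pt, πA D c i₀ ⁻¹ᵁ V) r := by
    intro r
    change _ = (ψA D c i₀ V).hom r
    rw [Scheme.Hom.app_eq_appLE]
  let tV : Γ(F₀, V) →+ Γ((Scheme.Modules.pullback (πA D c i₀)).obj G₀, πA D c i₀ ⁻¹ᵁ V) :=
    (tA.app V).hom
  have htV : ∀ (r : Γ(D.obj i₀, V)) (m : Γ(F₀, V)), tV (r • m) = (πA D c i₀).app V r • tV m :=
    fun r m => Scheme.Modules.Hom.app_smul tA r m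
  let ℓ : Γ(F₀, V) →ₗ[Γ(D.obj i₀, V)]
      Γ(c.pt, πA D c i₀ ⁻¹ᵁ V) ⊗[Γ(D.obj i₀, V)] Γ(G₀, V) :=
    { toFun := fun m => eA.symm (tV m)
      map_add' := fun m m' => by rw [map_add, map_add]
      map_smul' := fun r m => by
        rw [htV, map_smul, happ, algebraMap_smul]
        rfl }
  obtain ⟨j, ℓj, hℓj⟩ := Groth.Agent.Lib.R2H3.LimHomAlg.Sys.exists_linearMap_lift
    (sys D c hc i₀ V hV) Γ(F₀, V) Γ(G₀, V) ℓ
  obtain ⟨eG, heG⟩ := exists_eG D i₀ G₀ hV j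
  have happ' : ∀ r : Γ(D.obj i₀, V), (D.map j.hom).app V r =
      algebraMap Γ(D.obj i₀, V) (Gj D i₀ V j) r := by
    intro r
    change _ = (ψG D i₀ V j).hom r
    rw [Scheme.Hom.app_eq_appLE]
  refine ⟨j, (eG.toLinearMap.toAddMonoidHom).comp ℓj.toAddMonoidHom, ?_, ?_⟩
  · intro r m
    change eG (ℓj (r • m)) = (D.map j.hom).app V r •
      (show Γ((Scheme.Modules.pullback (D.map j.hom)).obj G₀, D.map j.hom ⁻¹ᵁ V) from eG (ℓj m))
    rw [map_smul, ← algebraMap_smul (Gj D i₀ V j) r (ℓj m), map_smul, ← happ']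
  · intro m
    change kapSec D c i₀ G₀ j V (eG (ℓj m)) = tA.app V m
    rw [kap_eG D c i₀ G₀ j eG heG eA heA, hℓj]
    exact eA.apply_symm_apply (tV m)

end loc

end Groth.Agent.Lib.R2H3.LimHom
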