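import Mathlib
import Groth.Agent.Lib.R2H3LimHom
import Groth.Agent.Lib.Helper2PullbackSec

/-!
# Surjectivity of `colim Hom(F_j, G_j) → Hom(F, G)`: killing at a stage, gluing (helper3, round 2)
-/

set_option autoImplicit false
set_option linter.style.haveILetI false
set_option linter.unusedSectionVars false
set_option linter.unusedVariables false
universe u
open CategoryTheory CategoryTheory.Limits AlgebraicGeometry TopologicalSpace Opposite TensorProduct

namespace Groth.Agent.Lib.R2H3.LimHom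

open Groth.Agent.Lib.R2H3.PullUnit Groth.Agent.Lib.Helper26.ModLim
open Groth.Agent.Helper13PullbackUnit Groth.Agent.Helper18OmLS
open Groth.Agent.Lib.Helper18ColimSys

theorem unitSec_eq_res {X Y : Scheme.{u}} (f : Y ⟶ X) (F : X.Modules) {V : X.Opens} {U : Y.Opens}
    (hle : U ≤ f ⁻¹ᵁ V) (x : Γ(F, V)) :
    unitSec f F hle x = ((Scheme.Modules.pullback f).obj F).presheaf.map (homOfLE hle).op
      (unitSec f F le_rfl x) := by
  rw [unitSec_le_rfl, unitSec_apply]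

theorem unitSec_eq_zero_iff {X Y : Scheme.{u}} (f : Y ⟶ X) (F : X.Modules) {V : X.Opens}
    {U : Y.Opens} (hle : U ≤ f ⁻¹ᵁ V) (heq : U = f ⁻¹ᵁ V) (x : Γ(F, V)) :
    unitSec f F hle x = 0 ↔ unitSec f F le_rfl x = 0 := by
  rw [unitSec_eq_res]
  have hb := map_bijective_of_eq ((Scheme.Modules.pullback f).obj F) heq (homOfLE hle)
  constructor
  · intro h
    apply hb.1
    rw [h, map_zero]
  · intro h
    rw [h, map_zero]

section kill

variable {I : Type u} [SmallCategory I] [IsCofiltered I] (D : I ⥤ Scheme.{u}) (c : Cone D)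
  (hc : IsLimit c) [∀ (i j : I) (f : i ⟶ j), IsAffineHom (D.map f)]

attribute [local instance] algG algA

include hc in
/-- finitely many sections over an affine open of a stage whose pullbacks to the limit vanish
have vanishing pullbacks to a further stage -/
theorem kill_stage (k : I) {U : (D.obj k).Opens} (hU : IsAffineOpen U) (M : (D.obj k).Modules)
    [M.IsQuasicoherent] (r : ℕ) (x : Fin r → Γ(M, U))
    (hx : ∀ i, unitSec (πA D c k) M le_rfl (x i) = 0) :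
    ∃ j' : Over k, ∀ (j'' : Over k) (_ : j'' ⟶ j'),
      ∀ i, unitSec (D.map j''.hom) M le_rfl (x i) = 0 := by
  haveI : IsAffineHom (πA D c k) := isAffineHom_π_app D c hc k
  obtain ⟨eA, heA⟩ := exists_pullback_equiv (πA D c k) M le_rfl hU (hU.preimage (πA D c k)) rfl
  let d : (Fin r → Γ(D.obj k, U)) →ₗ[Γ(D.obj k, U)] Γ(M, U) :=
    { toFun := fun v => ∑ i, v i • x i
      map_add' := fun v w => by simp only [Pi.add_apply, add_smul, Finset.sum_add_distrib]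
      map_smul' := fun a v => by
        simp only [Pi.smul_apply, smul_eq_mul, mul_smul, RingHom.id_apply, Finset.smul_sum] }
  have h1 : ∀ i, (1 : Γ(c.pt, πA D c k ⁻¹ᵁ U)) ⊗ₜ[Γ(D.obj k, U)] x i = 0 := by
    intro i
    apply eA.injective
    rw [heA, one_smul, hx, map_zero]
  have h : ∀ v, (1 : Γ(c.pt, πA D c k ⁻¹ᵁ U)) ⊗ₜ[Γ(D.obj k, U)] d v = 0 := by
    intro v
    change (1 : Γ(c.pt, πA D c k ⁻¹ᵁ U)) ⊗ₜ[Γ(D.obj k, U)] (∑ i, v i • x i) = 0
    rw [TensorProduct.tmul_sum]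
    refine Finset.sum_eq_zero fun i _ => ?_
    rw [TensorProduct.tmul_smul, h1, smul_zero]
  obtain ⟨j', hj'⟩ := Sys.exists_tmul_eq_zero (sys D c hc k U hU) d h
  refine ⟨j', fun j'' b i => ?_⟩
  obtain ⟨eG, heG⟩ := exists_pullback_equiv (D.map j''.hom) M le_rfl hU
    (hU.preimage (D.map j''.hom)) rfl
  have h2' := hj' (Pi.single i 1)
  have h2 : (1 : Gj D k U j'') ⊗ₜ[Γ(D.obj k, U)] d (Pi.single i 1) = 0 := by
    have := congrArg ((trAlg D k U b).toLinearMap.rTensor Γ(M, U)) h2'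
    rwa [LinearMap.rTensor_tmul, AlgHom.toLinearMap_apply, map_one, map_zero] at this
  have h3 : d (Pi.single i 1) = x i := by
    change ∑ i', (Pi.single i (1 : Γ(D.obj k, U)) : Fin r → Γ(D.obj k, U)) i' • x i' = x i
    rw [Finset.sum_eq_single i]
    · rw [Pi.single_eq_same, one_smul]
    · intro b _ hb
      rw [Pi.single_eq_of_ne hb, zero_smul]
    · intro hi
      exact absurd (Finset.mem_univ i) hi
  rw [h3] at h2
  have h4 := congrArg eG h2
  rw [heG, one_smul, map_zero] at h4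
  exact h4

theorem T_hom_app_injective {X Y Z : Scheme.{u}} {f : X ⟶ Y} {g : Y ⟶ Z} {p : X ⟶ Z}
    (e : f ≫ g = p) (G : Z.Modules) (W : X.Opens)
    (y : Γ((Scheme.Modules.pullback f).obj ((Scheme.Modules.pullback g).obj G), W))
    (hy : (T e G).hom.app W y = 0) : y = 0 := by
  have h4 : (T e G).hom ≫ (T e G).inv = 𝟙 _ := (T e G).hom_inv_id
  have h5 := congrArg (fun ψ => Scheme.Modules.Hom.app ψ W y) h4
  have h6 : (T e G).inv.app W ((T e G).hom.app W y) = y := h5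
  rw [← h6, hy, map_zero]

variable (i₀ : I) (G₀ : (D.obj i₀).Modules) [G₀.IsQuasicoherent]

include hc in
/-- sections of `GG j₁` over an affine open killed by `κ_{j₁}` are killed by a transition map -/
theorem kill_kap (j₁ : Over i₀) {W : (D.obj i₀).Opens} (hW : IsAffineOpen W) (r : ℕ)
    (x : Fin r → Γ((Scheme.Modules.pullback (D.map j₁.hom)).obj G₀, D.map j₁.hom ⁻¹ᵁ W))
    (hx : ∀ i, kapSec D c i₀ G₀ j₁ W (x i) = 0) :
    ∃ j' : Over j₁.left, ∀ (j'' : Over j₁.left) (_ : j'' ⟶ j'), ∀ i,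
      kapTrSec D i₀ G₀ (Over.homMk j''.hom rfl : Over.mk (j''.hom ≫ j₁.hom) ⟶ j₁) W (x i) = 0 := by
  haveI : ((Scheme.Modules.pullback (D.map j₁.hom)).obj G₀).IsQuasicoherent :=
    Groth.Agent.Lib.Helper2.PullbackSec.isQuasicoherent_pullback _ G₀
  have hU : IsAffineOpen (D.map j₁.hom ⁻¹ᵁ W) := hW.preimage (D.map j₁.hom)
  have h1 : ∀ i, unitSec (πA D c j₁.left) ((Scheme.Modules.pullback (D.map j₁.hom)).obj G₀)
      le_rfl (x i) = 0 := by
    intro i
    have h2 : (T (c.w j₁.hom) G₀).hom.app (πA D c i₀ ⁻¹ᵁ W)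
        (unitSec (c.π.app j₁.left) ((Scheme.Modules.pullback (D.map j₁.hom)).obj G₀)
          (preimage_le (c.w j₁.hom) W) (x i)) = 0 :=
      (kappa_app (c.w j₁.hom) G₀ W (x i)).symm.trans (hx i)
    have h3 := T_hom_app_injective (c.w j₁.hom) G₀ _ _ h2
    refine (unitSec_eq_zero_iff (πA D c j₁.left) _ (preimage_le (c.w j₁.hom) W) ?_ (x i)).1 h3
    rw [← Scheme.Hom.comp_preimage]
    exact congrArg (fun q => q ⁻¹ᵁ W) (c.w j₁.hom).symm
  obtain ⟨j₀', hj₀'⟩ := kill_stage D c hc j₁.left hU _ r x h1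
  refine ⟨j₀', fun j' b i => ?_⟩
  have hj' := hj₀' j' b
  have h4 : kapTrSec D i₀ G₀ (Over.homMk j'.hom rfl : Over.mk (j'.hom ≫ j₁.hom) ⟶ j₁) W (x i) =
      (T (map_tr_eq D i₀ (Over.homMk j'.hom rfl : Over.mk (j'.hom ≫ j₁.hom) ⟶ j₁)) G₀).hom.app _
        (unitSec (D.map j'.hom) ((Scheme.Modules.pullback (D.map j₁.hom)).obj G₀)
          (preimage_le (map_tr_eq D i₀
            (Over.homMk j'.hom rfl : Over.mk (j'.hom ≫ j₁.hom) ⟶ j₁)) W) (x i)) :=
    kappa_app (map_tr_eq D i₀ (Over.homMk j'.hom rfl : Over.mk (j'.hom ≫ j₁.hom) ⟶ j₁)) G₀ W (x i)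
  refine h4.trans ?_
  have h5 : unitSec (D.map j'.hom) ((Scheme.Modules.pullback (D.map j₁.hom)).obj G₀)
      (preimage_le (map_tr_eq D i₀
        (Over.homMk j'.hom rfl : Over.mk (j'.hom ≫ j₁.hom) ⟶ j₁)) W) (x i) = 0 := by
    refine (unitSec_eq_zero_iff (D.map j'.hom) _ _ ?_ (x i)).2 (hj' i)
    rw [← Scheme.Hom.comp_preimage]
    exact congrArg (fun q => q ⁻¹ᵁ W)
      (map_tr_eq D i₀ (Over.homMk j'.hom rfl : Over.mk (j'.hom ≫ j₁.hom) ⟶ j₁)).symm
  rw [h5]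
  exact map_zero _

end kill

section fam

open Groth.Agent.Helper13ModGlue Groth.Agent.Lib.Helper6

variable {I : Type u} [SmallCategory I] [IsCofiltered I] (D : I ⥤ Scheme.{u}) (c : Cone D)
  (hc : IsLimit c) [∀ (i j : I) (f : i ⟶ j), IsAffineHom (D.map f)] (i₀ : I)
  (F₀ G₀ : (D.obj i₀).Modules) [F₀.IsQuasicoherent] [G₀.IsQuasicoherent]
  [SheafOfModules.IsFinitePresentation (R := (D.obj i₀).ringCatSheaf) F₀]

/-- the local family `E` over `V` at stage `j` lifts `tA` -/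
def IsLift (tA : F₀ ⟶ GA D c i₀ G₀) (j : Over i₀) (V : (D.obj i₀).Opens)
    (E : LocFam V F₀ (GG D i₀ G₀ j)) : Prop :=
  ∀ (W : (D.obj i₀).Opens) (hW : W ≤ V) (τ : Γ(F₀, W)),
    (kap D c i₀ G₀ j).app W (E.d W hW τ) = tA.app W τ

include hc in
theorem exists_local_fam {V : (D.obj i₀).Opens} (hV : IsAffineOpen V) (tA : F₀ ⟶ GA D c i₀ G₀) :
    ∃ (j : Over i₀) (E : LocFam V F₀ (GG D i₀ G₀ j)), IsLift D c i₀ F₀ G₀ tA j V E := by
  obtain ⟨j, L, hL, hk⟩ := exists_local_lift D c hc i₀ F₀ G₀ hV tA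
  obtain ⟨E, hE⟩ := exists_locFam hV F₀ (GG D i₀ G₀ j) L hL
  refine ⟨j, E, fun W hW τ => ?_⟩
  refine LocFam.eq_of_le hV F₀ (GA D c i₀ G₀) le_rfl (LocFam.comp E (kap D c i₀ G₀ j))
    (LocFam.ofHom tA V) (fun σ => ?_) W hW τ
  rw [res_self]
  change (kap D c i₀ G₀ j).app V (E.d V le_rfl σ) = tA.app V σ
  rw [hE, hk]

include hc in
theorem IsLift.comp_kapTr {tA : F₀ ⟶ GA D c i₀ G₀} {j j' : Over i₀} {V : (D.obj i₀).Opens}
    {E : LocFam V F₀ (GG D i₀ G₀ j)} (h : IsLift D c i₀ F₀ G₀ tA j V E) (a : j' ⟶ j) :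
    IsLift D c i₀ F₀ G₀ tA j' V (LocFam.comp E (kapTr D i₀ G₀ a)) := by
  intro W hW τ
  rw [LocFam.comp_d]
  have h1 := congrArg (fun ψ => Scheme.Modules.Hom.app ψ W (E.d W hW τ)) (kapTr_kap D c hc i₀ G₀ a)
  exact h1.trans (h W hW τ)

end fam

end Groth.Agent.Lib.R2H3.LimHom
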