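import Mathlib
import Groth.Agent.Lib.R2H3LimHom2

/-!
# Surjectivity of `colim Hom(F_j, G_j) → Hom(F, G)`: agreement on overlaps and gluing
(helper3, round 2)
-/

set_option autoImplicit false
set_option linter.style.haveILetI false
set_option linter.unusedSectionVars false
set_option linter.unusedVariables false
universe u
open CategoryTheory CategoryTheory.Limits AlgebraicGeometry TopologicalSpace Opposite TensorProduct

namespace Groth.Agent.Lib.R2H3.LimHom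

open Groth.Agent.Lib.R2H3.PullUnit Groth.Agent.Lib.Helper26.ModLim
open Groth.Agent.Helper13PullbackUnit Groth.Agent.Helper18OmLS
open Groth.Agent.Lib.Helper18ColimSys
open Groth.Agent.Helper13ModGlue Groth.Agent.Lib.Helper6

section agree

variable {I : Type u} [SmallCategory I] [IsCofiltered I] (D : I ⥤ Scheme.{u}) (c : Cone D)
  (hc : IsLimit c) [∀ (i j : I) (f : i ⟶ j), IsAffineHom (D.map f)] (i₀ : I)
  (F₀ G₀ : (D.obj i₀).Modules) [F₀.IsQuasicoherent] [G₀.IsQuasicoherent]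
  [SheafOfModules.IsFinitePresentation (R := (D.obj i₀).ringCatSheaf) F₀]

/-- the stage over `j₁` obtained from `j'' : Over j₁.left` -/
abbrev stg (j₁ : Over i₀) (j'' : Over j₁.left) : Over i₀ := Over.mk (j''.hom ≫ j₁.hom)

/-- the transition morphism to the stage `stg j₁ j''` -/
abbrev stgHom (j₁ : Over i₀) (j'' : Over j₁.left) : stg i₀ j₁ j'' ⟶ j₁ := Over.homMk j''.hom rfl

include hc in
/-- two local lifts at the same stage agree, after passing to a further stage, over an affine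
open contained in both domains -/
theorem exists_agree (tA : F₀ ⟶ GA D c i₀ G₀) (j₁ : Over i₀) {Va Vb W : (D.obj i₀).Opens}
    (hW : IsAffineOpen W) (hWa : W ≤ Va) (hWb : W ≤ Vb)
    (Ea : LocFam Va F₀ (GG D i₀ G₀ j₁)) (Eb : LocFam Vb F₀ (GG D i₀ G₀ j₁))
    (ha : IsLift D c i₀ F₀ G₀ tA j₁ Va Ea) (hb : IsLift D c i₀ F₀ G₀ tA j₁ Vb Eb) :
    ∃ j' : Over j₁.left, ∀ (j'' : Over j₁.left) (_ : j'' ⟶ j'),
      ∀ (W' : (D.obj i₀).Opens) (hW' : W' ≤ W) (τ : Γ(F₀, W')),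
        (kapTr D i₀ G₀ (stgHom i₀ j₁ j'')).app W' (Ea.d W' (hW'.trans hWa) τ) =
          (kapTr D i₀ G₀ (stgHom i₀ j₁ j'')).app W' (Eb.d W' (hW'.trans hWb) τ) := by
  haveI : Module.FinitePresentation Γ(D.obj i₀, W) Γ(F₀, W) :=
    Groth.Agent.Lib.Helper2.FPAff.finitePresentation_sections F₀ hW
  haveI : Module.Finite Γ(D.obj i₀, W) Γ(F₀, W) := inferInstance
  obtain ⟨r, s, hs⟩ := Module.Finite.exists_fin (R := Γ(D.obj i₀, W)) (M := Γ(F₀, W))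
  let x : Fin r → Γ((Scheme.Modules.pullback (D.map j₁.hom)).obj G₀, D.map j₁.hom ⁻¹ᵁ W) :=
    fun i => Ea.d W hWa (s i) - Eb.d W hWb (s i)
  have hx : ∀ i, kapSec D c i₀ G₀ j₁ W (x i) = 0 := by
    intro i
    have h1 : kapSec D c i₀ G₀ j₁ W (x i) =
        (kap D c i₀ G₀ j₁).app W (Ea.d W hWa (s i)) - (kap D c i₀ G₀ j₁).app W (Eb.d W hWb (s i)) :=
      map_sub (kapSec D c i₀ G₀ j₁ W) _ _
    rw [h1, ha W hWa (s i), hb W hWb (s i)]
    exact sub_self _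
  obtain ⟨j', hj'⟩ := kill_kap D c hc i₀ G₀ j₁ hW r x hx
  refine ⟨j', fun j'' b => ?_⟩
  have hz := hj' j'' b
  have hgen : ∀ i, (kapTr D i₀ G₀ (stgHom i₀ j₁ j'')).app W (Ea.d W hWa (s i)) =
      (kapTr D i₀ G₀ (stgHom i₀ j₁ j'')).app W (Eb.d W hWb (s i)) := by
    intro i
    have h1 : kapTrSec D i₀ G₀ (stgHom i₀ j₁ j'') W (x i) =
        (kapTr D i₀ G₀ (stgHom i₀ j₁ j'')).app W (Ea.d W hWa (s i)) -
          (kapTr D i₀ G₀ (stgHom i₀ j₁ j'')).app W (Eb.d W hWb (s i)) :=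
      map_sub (kapTrSec D i₀ G₀ (stgHom i₀ j₁ j'') W) _ _
    have h2 := (h1.symm.trans (hz i))
    exact sub_eq_zero.1 h2
  have key : ∀ σ : Γ(F₀, W),
      ((LocFam.comp Ea (kapTr D i₀ G₀ (stgHom i₀ j₁ j''))).restrict hWa).d W le_rfl σ =
        ((LocFam.comp Eb (kapTr D i₀ G₀ (stgHom i₀ j₁ j''))).restrict hWb).d W le_rfl σ := by
    intro σ
    have hσ : σ ∈ Submodule.span Γ(D.obj i₀, W) (Set.range s) := by rw [hs]; trivial
    induction hσ using Submodule.span_induction with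
    | mem y hy =>
      obtain ⟨i, rfl⟩ := hy
      exact hgen i
    | zero => rw [map_zero, map_zero]
    | add y z _ _ hy hz => rw [map_add, map_add, hy, hz]
    | smul a y _ hy => rw [LocFam.lin, LocFam.lin, hy]
  intro W' hW' τ
  refine LocFam.eq_of_le hW F₀ _ le_rfl
    ((LocFam.comp Ea (kapTr D i₀ G₀ (stgHom i₀ j₁ j''))).restrict hWa)
    ((LocFam.comp Eb (kapTr D i₀ G₀ (stgHom i₀ j₁ j''))).restrict hWb) (fun σ => ?_) W' hW' τ
  rw [res_self]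
  exact key σ

end agree

section glue

variable {I : Type u} [SmallCategory I] [IsCofiltered I] (D : I ⥤ Scheme.{u}) (c : Cone D)
  (hc : IsLimit c) [∀ (i j : I) (f : i ⟶ j), IsAffineHom (D.map f)] (i₀ : I)
  (F₀ G₀ : (D.obj i₀).Modules) [F₀.IsQuasicoherent] [G₀.IsQuasicoherent]
  [SheafOfModules.IsFinitePresentation (R := (D.obj i₀).ringCatSheaf) F₀]
  [CompactSpace (D.obj i₀)] [QuasiSeparatedSpace (D.obj i₀)]

include hc in
/-- a morphism `F₀ ⟶ u_* u^* G₀` (with `F₀` of finite presentation, `S_{i₀}` qcqs) factors through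
`(u_j)_* u_j^* G₀` for some stage `j` -/
theorem exists_factor_stage (tA : F₀ ⟶ GA D c i₀ G₀) :
    ∃ (j : Over i₀) (t : F₀ ⟶ GG D i₀ G₀ j), t ≫ kap D c i₀ G₀ j = tA := by
  classical
  obtain ⟨s, hs⟩ := exists_finite_affine_cover (D.obj i₀)
  have key : ∀ k : s, ∃ (j : Over i₀) (E : LocFam k.1.1 F₀ (GG D i₀ G₀ j)),
      IsLift D c i₀ F₀ G₀ tA j k.1.1 E :=
    fun k => exists_local_fam D c hc i₀ F₀ G₀ k.1.2 tA
  choose jk Ek hEk using key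
  obtain ⟨j₁, hj₁⟩ := IsCofiltered.inf_objs_exists (Finset.univ.image jk)
  have ak : ∀ k : s, j₁ ⟶ jk k :=
    fun k => (hj₁ (Finset.mem_image_of_mem jk (Finset.mem_univ k))).some
  let E1 : ∀ k : s, LocFam k.1.1 F₀ (GG D i₀ G₀ j₁) :=
    fun k => LocFam.comp (Ek k) (kapTr D i₀ G₀ (ak k))
  have hE1 : ∀ k, IsLift D c i₀ F₀ G₀ tA j₁ k.1.1 (E1 k) :=
    fun k => (hEk k).comp_kapTr D c hc i₀ F₀ G₀ (ak k)
  have hov : ∀ (k l : s), ∃ t : Set (D.obj i₀).affineOpens, t.Finite ∧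
      k.1.1 ⊓ l.1.1 = ⨆ i ∈ t, (i : (D.obj i₀).Opens) := by
    intro k l
    apply isCompact_iff_finite_and_eq_biUnion_affineOpens.mp
    exact IsCompact.inter_of_isOpen k.1.2.isCompact l.1.2.isCompact k.1.1.isOpen l.1.1.isOpen
  choose tkl htfin htkl using hov
  have hWle : ∀ (k l : s) (W : (D.obj i₀).affineOpens), W ∈ tkl k l → W.1 ≤ k.1.1 ⊓ l.1.1 := by
    intro k l W hW
    rw [htkl k l]
    exact le_iSup₂ (f := fun (i : (D.obj i₀).affineOpens) (_ : i ∈ tkl k l) =>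
      (i : (D.obj i₀).Opens)) W hW
  have hag : ∀ (q : Σ (k : s) (l : s), ↥(htfin k l).toFinset), ∃ j' : Over j₁.left,
      ∀ (j'' : Over j₁.left) (_ : j'' ⟶ j'), ∀ (W' : (D.obj i₀).Opens) (hW' : W' ≤ q.2.2.1.1)
        (hk : W' ≤ q.1.1.1) (hl : W' ≤ q.2.1.1.1) (τ : Γ(F₀, W')),
        (kapTr D i₀ G₀ (stgHom i₀ j₁ j'')).app W' ((E1 q.1).d W' hk τ) =
          (kapTr D i₀ G₀ (stgHom i₀ j₁ j'')).app W' ((E1 q.2.1).d W' hl τ) := by
    rintro ⟨k, l, W, hW⟩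
    have hW0 : W ∈ tkl k l := (htfin k l).mem_toFinset.1 hW
    have hle := hWle k l W hW0
    obtain ⟨j', hj'⟩ := exists_agree D c hc i₀ F₀ G₀ tA j₁ W.2 (hle.trans inf_le_left)
      (hle.trans inf_le_right) (E1 k) (E1 l) (hE1 k) (hE1 l)
    exact ⟨j', fun j'' b W' hW' hk hl τ => hj' j'' b W' hW' τ⟩
  choose jq hjq using hag
  obtain ⟨j'', hj''⟩ := IsCofiltered.inf_objs_exists (Finset.univ.image jq)
  let E2 : ∀ k : s, LocFam k.1.1 F₀ (GG D i₀ G₀ (stg i₀ j₁ j'')) :=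
    fun k => LocFam.comp (E1 k) (kapTr D i₀ G₀ (stgHom i₀ j₁ j''))
  have hE2 : ∀ k, IsLift D c i₀ F₀ G₀ tA (stg i₀ j₁ j'') k.1.1 (E2 k) :=
    fun k => (hE1 k).comp_kapTr D c hc i₀ F₀ G₀ (stgHom i₀ j₁ j'')
  have compat : ∀ (k l : s) (W : (D.obj i₀).Opens) (hk : W ≤ k.1.1) (hl : W ≤ l.1.1)
      (τ : Γ(F₀, W)), (E2 k).d W hk τ = (E2 l).d W hl τ := by
    intro k l W hk hl τ
    apply DeltaGeo.eq_of_locally
    intro y hy
    have hy' : y ∈ k.1.1 ⊓ l.1.1 := ⟨hk hy, hl hy⟩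
    rw [htkl k l] at hy'
    obtain ⟨W₀, hy0⟩ := Opens.mem_iSup.mp hy'
    obtain ⟨hW₀, hyW₀⟩ := Opens.mem_iSup.mp hy0
    refine ⟨W ⊓ W₀.1, inf_le_left, ⟨hy, hyW₀⟩, ?_⟩
    have h1 := (E2 k).nat W (W ⊓ W₀.1) hk inf_le_left τ
    have h2 := (E2 l).nat W (W ⊓ W₀.1) hl inf_le_left τ
    refine h1.trans (Eq.trans ?_ h2.symm)
    obtain ⟨b⟩ := hj'' (Finset.mem_image_of_mem jq
      (Finset.mem_univ ⟨k, l, ⟨W₀, (htfin k l).mem_toFinset.2 hW₀⟩⟩))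
    exact hjq ⟨k, l, ⟨W₀, (htfin k l).mem_toFinset.2 hW₀⟩⟩ j'' b (W ⊓ W₀.1) inf_le_right _ _ _
  obtain ⟨ψ, hψ⟩ := exists_hom_of_locFams (fun k : s => k.1.1) hs.iSup_eq_top F₀
    (GG D i₀ G₀ (stg i₀ j₁ j'')) E2 compat
  refine ⟨stg i₀ j₁ j'', ψ, ?_⟩
  apply Scheme.Modules.hom_ext
  intro W
  ext x
  apply DeltaGeo.eq_of_locally
  intro y hy
  obtain ⟨k, hk⟩ := hs.exists_mem y
  refine ⟨W ⊓ k.1.1, inf_le_left, ⟨hy, hk⟩, ?_⟩
  have e1 := app_res (ψ ≫ kap D c i₀ G₀ (stg i₀ j₁ j'')) (inf_le_left : W ⊓ k.1.1 ≤ W) x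
  have e2 := app_res tA (inf_le_left : W ⊓ k.1.1 ≤ W) x
  refine e1.symm.trans (Eq.trans ?_ e2)
  have e3 := hψ k (W ⊓ k.1.1) inf_le_right (F₀.presheaf.map (homOfLE inf_le_left).op x)
  have e4 := hE2 k (W ⊓ k.1.1) inf_le_right (F₀.presheaf.map (homOfLE inf_le_left).op x)
  refine Eq.trans ?_ e4
  exact congrArg (fun z => (kap D c i₀ G₀ (stg i₀ j₁ j'')).app (W ⊓ k.1.1) z) e3

end glue

end Groth.Agent.Lib.R2H3.LimHom
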