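import Groth.Agent.Lib.R2H3FPQuot
import Groth.Agent.Lib.Helper26ModLim
import Groth.Agent.Lib.Helper2PullbackSec
import Groth.Agent.Lib.Helper18Strict6
import Groth.Agent.S4811

/-!
# Descent of finitely presented modules over a limit of schemes: preparations (helper3, round 2)

* `isFiniteType_kernel_of_epi`: the kernel of an epimorphism from a finite type quasi-coherent module onto a finitely
  presented one is of finite type.
* `isFinitePresentation_cokernel`: the cokernel of a morphism from a finite type quasi-coherent module to a finitely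
  presented one is finitely presented.
* `exists_fp_pullback_epi`: for an affine morphism `u : S ⟶ S₀` with `S₀` qcqs, every finite type quasi-coherent
  module on `S` is a quotient of the pullback of a finitely presented quasi-coherent module on `S₀`.
-/

set_option autoImplicit false
set_option linter.style.haveILetI false
universe u
open CategoryTheory Limits AlgebraicGeometry TopologicalSpace Opposite

namespace Groth.Agent.Lib.R2H3.LimFPDesc

open Groth.Agent.Lib.Helper23.QCohLocal Groth.Agent.Lib.Helper2.Push Groth.Agent.Lib.Helper2.QCoh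
  Groth.Agent.Lib.Helper23.FinType Groth.Agent.Lib.Helper23.ModLocal Groth.Agent.Lib.Helper23.Extend
  Groth.Agent.Lib.Helper2.FPAff Groth.Agent.Lib.R2H3.FPExtend Groth.Agent.Lib.Helper23.FTsub
  Groth.Agent.Lib.R2H3.FPQuot

section general
variable {X : Scheme.{u}}

/-- the kernel of an epimorphism from a finite type quasi-coherent module onto a finitely presented quasi-coherent
module is of finite type -/
theorem isFiniteType_kernel_of_epi {A B : X.Modules} [A.IsQuasicoherent] [B.IsQuasicoherent]
    [SheafOfModules.IsFiniteType (R := X.ringCatSheaf) A]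
    [SheafOfModules.IsFinitePresentation (R := X.ringCatSheaf) B] (p : A ⟶ B) [Epi p] :
    SheafOfModules.IsFiniteType (R := X.ringCatSheaf) (kernel p : X.Modules) := by
  have hKq : (kernel p).IsQuasicoherent := isQuasicoherent_kernel p
  let S₀ : ShortComplex X.Modules := ShortComplex.mk (kernel.ι p) p (kernel.condition p)
  have hS₀ : S₀.ShortExact :=
    { exact := ShortComplex.exact_kernel p
      mono_f := inferInstanceAs (Mono (kernel.ι p))
      epi_g := inferInstanceAs (Epi p) }
  refine (isFiniteType_iff_forall_affine (kernel p)).2 ?_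
  intro W hW
  have h1 : Module.FinitePresentation Γ(X, W) Γ(B, W) := finitePresentation_sections B hW
  have h2 : Module.Finite Γ(X, W) Γ(A, W) := finite_of_isFiniteType A hW
  have hsurj : Function.Surjective (appₗ p W) := surjective_app_of_epi p hW
  have hfg : (LinearMap.ker (appₗ p W)).FG := Module.FinitePresentation.fg_ker (appₗ p W) hsurj
  have hr : LinearMap.range (appₗ (kernel.ι p) W) = LinearMap.ker (appₗ p W) := range_appₗ_eq_ker S₀ hS₀ W
  have hinj : Function.Injective (appₗ (kernel.ι p) W) := injective_app_of_mono (kernel.ι p) W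
  rw [← hr] at hfg
  have : Module.Finite Γ(X, W) (LinearMap.range (appₗ (kernel.ι p) W)) := Module.Finite.iff_fg.2 hfg
  exact Module.Finite.equiv (LinearEquiv.ofInjective (appₗ (kernel.ι p) W) hinj).symm

/-- the cokernel of a morphism from a finite type quasi-coherent module to a finitely presented quasi-coherent module
is finitely presented -/
theorem isFinitePresentation_cokernel {A B : X.Modules} [A.IsQuasicoherent] [B.IsQuasicoherent]
    [SheafOfModules.IsFiniteType (R := X.ringCatSheaf) A]
    [SheafOfModules.IsFinitePresentation (R := X.ringCatSheaf) B] (α : A ⟶ B) :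
    SheafOfModules.IsFinitePresentation (R := X.ringCatSheaf) (cokernel α : X.Modules) := by
  have hCq : (cokernel α).IsQuasicoherent := isQuasicoherent_cokernel α
  let π : B ⟶ cokernel α := cokernel.π α
  have hIq : (kernel π).IsQuasicoherent := isQuasicoherent_kernel π
  let S₁ : ShortComplex X.Modules := ShortComplex.mk (kernel.ι π) π (kernel.condition π)
  have hS₁ : S₁.ShortExact :=
    { exact := ShortComplex.exact_kernel π
      mono_f := inferInstanceAs (Mono (kernel.ι π))
      epi_g := inferInstanceAs (Epi (cokernel.π α)) }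
  let q : A ⟶ kernel π := Abelian.factorThruImage α
  have hq : Epi q := inferInstanceAs (Epi (Abelian.factorThruImage α))
  have hIf : SheafOfModules.IsFiniteType (R := X.ringCatSheaf) (kernel π : X.Modules) := isFiniteType_of_epi q
  refine isFinitePresentation_of_fpOn_top (cokernel α : X.Modules) (fun W hW _ => ?_)
  have h2 : Module.FinitePresentation Γ(X, W) Γ(B, W) := finitePresentation_sections B hW
  have h3 : Module.Finite Γ(X, W) Γ(kernel π, W) := finite_of_isFiniteType (kernel π) hW
  have hsurj : Function.Surjective (appₗ π W) := surjective_app_of_epi π hW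
  have hr : LinearMap.range (appₗ (kernel.ι π) W) = LinearMap.ker (appₗ π W) := range_appₗ_eq_ker S₁ hS₁ W
  have hfg : (LinearMap.ker (appₗ π W)).FG := by
    rw [← hr, LinearMap.range_eq_map]
    exact (Module.Finite.fg_top).map _
  exact Module.finitePresentation_of_surjective (appₗ π W) hsurj hfg

end general

section pull
variable {S S₀ : Scheme.{u}} (u : S ⟶ S₀)

/-- for an affine morphism `u : S ⟶ S₀` to a qcqs scheme, every finite type quasi-coherent module on `S` is a quotient of
the pullback of a finitely presented quasi-coherent module on `S₀` -/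
theorem exists_fp_pullback_epi [IsAffineHom u] [CompactSpace S₀] [QuasiSeparatedSpace S₀]
    (F : S.Modules) [F.IsQuasicoherent] [SheafOfModules.IsFiniteType (R := S.ringCatSheaf) F] :
    ∃ (H : S₀.Modules) (p : (Scheme.Modules.pullback u).obj H ⟶ F), H.IsQuasicoherent ∧
      SheafOfModules.IsFinitePresentation (R := S₀.ringCatSheaf) H ∧ Epi p := by
  classical
  let P : S₀.Modules := (Scheme.Modules.pushforward u).obj F
  have hPq : P.IsQuasicoherent := isQuasicoherent_pushforward u F
  obtain ⟨s, hs⟩ := Groth.Agent.Lib.Helper26.ModLim.exists_finite_affine_cover S₀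
  have hgen : ∀ V : s, ∃ t : Finset Γ(F, u ⁻¹ᵁ V.1.1),
      Submodule.span Γ(S, u ⁻¹ᵁ V.1.1) (t : Set Γ(F, u ⁻¹ᵁ V.1.1)) = ⊤ := by
    intro V
    have hU : IsAffineOpen (u ⁻¹ᵁ V.1.1) := V.1.2.preimage u
    have : Module.Finite Γ(S, u ⁻¹ᵁ V.1.1) Γ(F, u ⁻¹ᵁ V.1.1) := finite_of_isFiniteType F hU
    exact Module.Finite.fg_top
  choose t ht using hgen
  let mk : ∀ V : s, Γ(F, u ⁻¹ᵁ V.1.1) → (Σ U : S₀.affineOpens, Γ(P, U.1)) := fun V g => ⟨V.1, g⟩
  let l : List (Σ U : S₀.affineOpens, Γ(P, U.1)) :=
    (Finset.univ : Finset s).toList.flatMap (fun V => (t V).toList.map (mk V))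
  let a₀ : Σ U : S₀.affineOpens, Γ(P, U.1) := ⟨⟨⊥, isAffineOpen_bot S₀⟩, 0⟩
  obtain ⟨H', i, hi, hq', hft', hmem⟩ := exists_ft_sub_list P a₀ l
  have := hq'
  have := hft'
  obtain ⟨H, q, hq, hfp, hepi⟩ := exists_fp_epi H'
  have := hq
  have := hepi
  let m : H ⟶ P := q ≫ i
  let adj := Scheme.Modules.pullbackPushforwardAdjunction u
  let p : (Scheme.Modules.pullback u).obj H ⟶ F := (adj.homEquiv H F).symm m
  have hm : adj.unit.app H ≫ (Scheme.Modules.pushforward u).map p = m := by
    exact (adj.homEquiv_unit (f := p)).symm.trans (Equiv.apply_symm_apply _ _)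
  refine ⟨H, p, hq, hfp, ?_⟩
  have : ((Scheme.Modules.pullback u).obj H).IsQuasicoherent :=
    Groth.Agent.Lib.Helper2.PullbackSec.isQuasicoherent_pullback u H
  refine Groth.Agent.Helper18OmLS.epi_of_surjective_app_cover p (fun V : s => u ⁻¹ᵁ V.1.1)
    (Groth.Agent.Lib.Helper26.ModLim.isOpenCover_preimage u hs) (fun V => V.1.2.preimage u) (fun V => ?_)
  have hrange : LinearMap.range (appₗ p (u ⁻¹ᵁ V.1.1)) = ⊤ := by
    rw [eq_top_iff, ← ht V, Submodule.span_le]
    intro g hg
    have hgl : mk V g ∈ a₀ :: l := by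
      refine List.mem_cons_of_mem _ ?_
      simp only [l, List.mem_flatMap, Finset.mem_toList, Finset.mem_univ, true_and, List.mem_map]
      exact ⟨V, g, hg, rfl⟩
    obtain ⟨g', hg'⟩ := hmem _ hgl
    obtain ⟨h, hh⟩ := surjective_app_of_epi q V.1.2 g'
    refine ⟨(adj.unit.app H).app V.1.1 h, ?_⟩
    have h1 := congrArg (fun θ : H ⟶ P => θ.app V.1.1 h) hm
    simp only [Scheme.Modules.Hom.comp_app] at h1
    have h2 : m.app V.1.1 h = g := by
      change (q ≫ i).app V.1.1 h = g
      rw [Scheme.Modules.Hom.comp_app]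
      change i.app V.1.1 (q.app V.1.1 h) = g
      rw [hh]; exact hg'
    exact h1.trans h2
  intro z
  have hz : z ∈ LinearMap.range (appₗ p (u ⁻¹ᵁ V.1.1)) := by rw [hrange]; trivial
  exact hz

end pull

section limit

variable {I : Type u} [SmallCategory I] [IsCofiltered I] (D : I ⥤ Scheme.{u}) (c : Cone D)
  (hc : IsLimit c) [∀ (i j : I) (f : i ⟶ j), IsAffineHom (D.map f)] (i₀ : I)
  [CompactSpace (D.obj i₀)] [QuasiSeparatedSpace (D.obj i₀)]

/-- the canonical identification of the pullback to `S` of the pullback to `S_j` with the pullback to `S` -/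
noncomputable abbrev stageIso {j : I} (φ : j ⟶ i₀) (M : (D.obj i₀).Modules) :
    (Scheme.Modules.pullback (c.π.app j)).obj ((Scheme.Modules.pullback (D.map φ)).obj M) ≅
      (Scheme.Modules.pullback (c.π.app i₀)).obj M :=
  (Scheme.Modules.pullbackComp (c.π.app j) (D.map φ) ≪≫ Scheme.Modules.pullbackCongr (c.w φ)).app M

include hc in
/-- **EGA IV 8.5.2 (ii), quotient form**: a finitely presented quotient of the pullback of a finitely presented module
descends to a finite stage. -/
theorem exists_descent_quotient (F₀ : (D.obj i₀).Modules) [F₀.IsQuasicoherent]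
    [SheafOfModules.IsFinitePresentation (R := (D.obj i₀).ringCatSheaf) F₀]
    {G : c.pt.Modules} [G.IsQuasicoherent] [SheafOfModules.IsFinitePresentation (R := c.pt.ringCatSheaf) G]
    (p : (Scheme.Modules.pullback (c.π.app i₀)).obj F₀ ⟶ G) [Epi p] :
    ∃ (j : I) (φ : j ⟶ i₀) (Gj : (D.obj j).Modules) (_ : Gj.IsQuasicoherent)
      (pj : (Scheme.Modules.pullback (D.map φ)).obj F₀ ⟶ Gj)
      (e : (Scheme.Modules.pullback (c.π.app j)).obj Gj ≅ G),
      SheafOfModules.IsFinitePresentation (R := (D.obj j).ringCatSheaf) Gj ∧ Epi pj ∧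
        (stageIso D c i₀ φ F₀).inv ≫ (Scheme.Modules.pullback (c.π.app j)).map pj ≫ e.hom = p := by
  have haff : IsAffineHom (c.π.app i₀) := isAffineHom_π_app D c hc i₀
  have hAq : ((Scheme.Modules.pullback (c.π.app i₀)).obj F₀).IsQuasicoherent :=
    Groth.Agent.Lib.Helper2.PullbackSec.isQuasicoherent_pullback (c.π.app i₀) F₀
  have hAfp : SheafOfModules.IsFinitePresentation (R := c.pt.ringCatSheaf)
      ((Scheme.Modules.pullback (c.π.app i₀)).obj F₀) :=
    Groth.Agent.Helper18Strict.isFP_pullback (c.π.app i₀) F₀ inferInstance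
  have hAft : SheafOfModules.IsFiniteType (R := c.pt.ringCatSheaf)
      ((Scheme.Modules.pullback (c.π.app i₀)).obj F₀) := Groth.Agent.Helper18Strict.isFT_of_isFP _ hAfp
  have hKq : (kernel p : c.pt.Modules).IsQuasicoherent := isQuasicoherent_kernel p
  have hKft : SheafOfModules.IsFiniteType (R := c.pt.ringCatSheaf) (kernel p : c.pt.Modules) :=
    isFiniteType_kernel_of_epi p
  obtain ⟨H₁, p₁, hH₁q, hH₁fp, hp₁⟩ := exists_fp_pullback_epi (c.π.app i₀) (kernel p : c.pt.Modules)
  have := hH₁q
  have := hH₁fp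
  have := hp₁
  let α : (Scheme.Modules.pullback (c.π.app i₀)).obj H₁ ⟶ (Scheme.Modules.pullback (c.π.app i₀)).obj F₀ :=
    p₁ ≫ kernel.ι p
  obtain ⟨j, φ, αj, hαj⟩ := Groth.Agent.S4811.result D c hc i₀ H₁ F₀ hH₁fp α
  have hB₁q : ((Scheme.Modules.pullback (D.map φ)).obj H₁).IsQuasicoherent :=
    Groth.Agent.Lib.Helper2.PullbackSec.isQuasicoherent_pullback (D.map φ) H₁
  have hB₀q : ((Scheme.Modules.pullback (D.map φ)).obj F₀).IsQuasicoherent :=
    Groth.Agent.Lib.Helper2.PullbackSec.isQuasicoherent_pullback (D.map φ) F₀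
  have hB₁fp : SheafOfModules.IsFinitePresentation (R := (D.obj j).ringCatSheaf)
      ((Scheme.Modules.pullback (D.map φ)).obj H₁) :=
    Groth.Agent.Helper18Strict.isFP_pullback (D.map φ) H₁ hH₁fp
  have hB₀fp : SheafOfModules.IsFinitePresentation (R := (D.obj j).ringCatSheaf)
      ((Scheme.Modules.pullback (D.map φ)).obj F₀) :=
    Groth.Agent.Helper18Strict.isFP_pullback (D.map φ) F₀ inferInstance
  have hB₁ft : SheafOfModules.IsFiniteType (R := (D.obj j).ringCatSheaf)
      ((Scheme.Modules.pullback (D.map φ)).obj H₁) := Groth.Agent.Helper18Strict.isFT_of_isFP _ hB₁fp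
  have hGjq : (cokernel αj : (D.obj j).Modules).IsQuasicoherent := isQuasicoherent_cokernel αj
  have hGjfp : SheafOfModules.IsFinitePresentation (R := (D.obj j).ringCatSheaf)
      (cokernel αj : (D.obj j).Modules) := isFinitePresentation_cokernel αj
  let L := Scheme.Modules.pullback (c.π.app j)
  let e₁ : L.obj (cokernel αj) ≅ cokernel (L.map αj) := PreservesCokernel.iso L αj
  have w : L.map αj ≫ (stageIso D c i₀ φ F₀).hom = (stageIso D c i₀ φ H₁).hom ≫ α := by
    rw [← hαj, Iso.hom_inv_id_assoc]
  let e₂ : cokernel (L.map αj) ≅ cokernel α :=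
    cokernel.mapIso (L.map αj) α (stageIso D c i₀ φ H₁) (stageIso D c i₀ φ F₀) w
  let e₃ : cokernel α ≅ cokernel (kernel.ι p) := cokernelEpiComp p₁ (kernel.ι p)
  let e₄ : cokernel (kernel.ι p) ≅ G :=
    (cokernelIsCokernel (kernel.ι p)).coconePointUniqueUpToIso
      (Abelian.epiIsCokernelOfKernel (Fork.ofι (kernel.ι p) ((kernel.condition p).trans comp_zero.symm))
        (kernelIsKernel p))
  have h₁ : L.map (cokernel.π αj) ≫ e₁.hom = cokernel.π (L.map αj) := PreservesCokernel.π_iso_hom L αj
  have h₂ : cokernel.π (L.map αj) ≫ e₂.hom = (stageIso D c i₀ φ F₀).hom ≫ cokernel.π α :=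
    cokernel.π_desc _ _ _
  have h₃ : cokernel.π α ≫ e₃.hom = cokernel.π (kernel.ι p) := cokernel.π_desc _ _ _
  have h₄ : cokernel.π (kernel.ι p) ≫ e₄.hom = p :=
    IsColimit.comp_coconePointUniqueUpToIso_hom (cokernelIsCokernel (kernel.ι p)) _ WalkingParallelPair.one
  refine ⟨j, φ, cokernel αj, hGjq, cokernel.π αj, e₁ ≪≫ e₂ ≪≫ e₃ ≪≫ e₄, hGjfp, inferInstance, ?_⟩
  simp only [Iso.trans_hom]
  rw [reassoc_of% h₁, reassoc_of% h₂, reassoc_of% h₃, h₄, Iso.inv_hom_id_assoc]

end limit

end Groth.Agent.Lib.R2H3.LimFPDesc
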