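import Mathlib
import Groth.Prelude
import Groth.Agent.S0590
import Groth.Agent.S0591
import Groth.Agent.S2074
import Groth.Agent.S4788
import Groth.Agent.S4849
import Groth.Agent.Lib.Helper22NA4
import Groth.Agent.Lib.Helper22LimBC
import Groth.Agent.Lib.R2H4NoethApprox
import Groth.Agent.Lib.Helper26FlatLimC
import Groth.Agent.Lib.Helper2PullbackSec3
import Groth.Agent.Lib.Helper18Strict6
set_option backward.isDefEq.respectTransparency.types false

/-!
# Noetherian models of proper morphisms with a flat finitely presented module (helper2, round 2)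

`exists_model`: `f : X ⟶ S` proper and locally of finite presentation, `S` quasi-compact quasi-separated,
`F` a quasi-coherent `O_X`-module of finite presentation, flat over `S`.  Then `(f, F)` is the base change of
`(f₀ : X₀ ⟶ S₀, F₀)` with `S₀` Noetherian, `f₀` proper and `F₀` quasi-coherent of finite presentation and flat
over `S₀`.
-/

set_option autoImplicit false
set_option linter.unusedSectionVars false
set_option linter.style.haveILetI false
universe u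
open CategoryTheory CategoryTheory.Limits AlgebraicGeometry TopologicalSpace

noncomputable section

namespace Groth.Agent.Lib.R2H2.NoethModel

open Groth.Agent.Lib.Helper22.LimBC

/-- flatness over the base does not change when the base is replaced by an isomorphic one -/
theorem isFlatOver_comp_iso {X S S' : Scheme.{u}} (f : X ⟶ S) (e : S ≅ S') (F : X.Modules)
    [F.IsQuasicoherent] (h : FlatMod.IsFlatOver f F) : FlatMod.IsFlatOver (f ≫ e.hom) F := by
  have sq : IsPullback (𝟙 X) (f ≫ e.hom) f e.inv :=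
    IsPullback.of_horiz_isIso ⟨by simp⟩
  have h1 : FlatMod.IsFlatOver (f ≫ e.hom) ((Scheme.Modules.pullback (𝟙 X)).obj F) := fun x =>
    Groth.Agent.Lib.Helper2.PullbackSec.isFlatOverAt_pullback_of_isPullback sq F x (h _)
  exact Groth.Agent.Lib.Helper26.FlatLim.isFlatOver_of_iso _
    ((Scheme.Modules.pullbackId X).app F) h1

/-- a model can be pulled back along a morphism through which the base map factors -/
theorem model_baseChange {X S X₀ S₀ S₁ : Scheme.{u}} {f : X ⟶ S} {f₀ : X₀ ⟶ S₀} {g : S ⟶ S₀}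
    {g' : X ⟶ X₀} (sq : IsPullback g' f f₀ g) (F₀ : X₀.Modules) [F₀.IsQuasicoherent]
    (hfp : CohB1.IsFP F₀) (hfl : FlatMod.IsFlatOver f₀ F₀) [IsProper f₀] (u : S₁ ⟶ S₀) (g₁ : S ⟶ S₁)
    (hg : g₁ ≫ u = g) :
    ∃ (X₁ : Scheme.{u}) (f₁ : X₁ ⟶ S₁) (g₁' : X ⟶ X₁) (F₁ : X₁.Modules),
      IsPullback g₁' f f₁ g₁ ∧ IsProper f₁ ∧ F₁.IsQuasicoherent ∧ CohB1.IsFP F₁ ∧
        FlatMod.IsFlatOver f₁ F₁ ∧
        Nonempty ((Scheme.Modules.pullback g₁').obj F₁ ≅ (Scheme.Modules.pullback g').obj F₀) := by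
  have hR := IsPullback.of_hasPullback f₀ u
  have big : IsPullback g' f f₀ (g₁ ≫ u) := by rw [hg]; exact sq
  let l : X ⟶ pullback f₀ u := hR.lift g' (f ≫ g₁) (by rw [Category.assoc]; exact big.w)
  have hl1 : l ≫ pullback.fst f₀ u = g' := hR.lift_fst _ _ _
  have t : IsPullback (l ≫ pullback.fst f₀ u) f f₀ (g₁ ≫ u) := by rw [hl1]; exact big
  have sq1 : IsPullback l f (pullback.snd f₀ u) g₁ := IsPullback.of_right t (hR.lift_snd _ _ _) hR
  refine ⟨pullback f₀ u, pullback.snd f₀ u, l, (Scheme.Modules.pullback (pullback.fst f₀ u)).obj F₀,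
    sq1, inferInstance, Groth.Agent.Lib.Helper2.PullbackSec.isQuasicoherent_pullback _ F₀,
    Groth.Agent.Helper18Strict.isFP_pullback _ F₀ hfp, fun x =>
      Groth.Agent.Lib.Helper2.PullbackSec.isFlatOverAt_pullback_of_isPullback hR F₀ x (hfl _), ⟨?_⟩⟩
  exact (Scheme.Modules.pullbackComp l (pullback.fst f₀ u)).app F₀ ≪≫
    (Scheme.Modules.pullbackCongr hl1).app F₀

/-- **Noetherian model at a stage of a limit presentation of the base.** -/
theorem exists_model_stage {X S : Scheme.{u}} (f : X ⟶ S) [IsProper f]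
    [LocallyOfFinitePresentation f]
    (F : X.Modules) [F.IsQuasicoherent] (hFP : CohB1.IsFP F) (hfl : FlatMod.IsFlatOver f F)
    {I : Type u} [Preorder I] [IsDirected I (fun a b => a ≤ b)] [Nonempty I]
    (D : Iᵒᵖ ⥤ Scheme.{u}) (c : Cone D) (hc : IsLimit c)
    (hAff : ∀ (i j : Iᵒᵖ) (a : i ⟶ j), IsAffineHom (D.map a))
    (hD : ∀ i, CompactSpace (D.obj i) ∧
      LocallyOfFiniteType (IsTerminal.from specULiftZIsTerminal (D.obj i)))
    (e : c.pt ≅ S) :
    ∃ (k : Iᵒᵖ) (X₀ : Scheme.{u}) (f₀ : X₀ ⟶ D.obj k) (g' : X ⟶ X₀) (F₀ : X₀.Modules),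
      IsPullback g' f f₀ (e.inv ≫ c.π.app k) ∧ IsProper f₀ ∧ F₀.IsQuasicoherent ∧ CohB1.IsFP F₀ ∧
        FlatMod.IsFlatOver f₀ F₀ ∧ Nonempty ((Scheme.Modules.pullback g').obj F₀ ≅ F) := by
  haveI : ∀ (i j : Iᵒᵖ) (a : i ⟶ j), IsAffineHom (D.map a) := hAff
  haveI hAff' : ∀ {i j : Iᵒᵖ} (a : i ⟶ j), IsAffineHom (D.map a) := fun a => hAff _ _ a
  haveI : ∀ i, CompactSpace (D.obj i) := fun i => (hD i).1
  haveI : ∀ i, LocallyOfFiniteType (IsTerminal.from specULiftZIsTerminal (D.obj i)) :=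
    fun i => (hD i).2
  haveI : ∀ i, QuasiSeparatedSpace (D.obj i) := fun i =>
    Groth.Agent.Lib.Helper22.NA4.quasiSeparatedSpace_of_lft _
  haveI : ∀ i, IsLocallyNoetherian (D.obj i) := fun i =>
    Groth.Agent.Lib.Helper22.NA4.isLocallyNoetherian_of_lft _
  haveI : IsCofiltered Iᵒᵖ := inferInstance
  -- the morphism to the limit
  let f' : X ⟶ c.pt := f ≫ e.inv
  haveI : IsProper f' := inferInstanceAs (IsProper (f ≫ e.inv))
  haveI : LocallyOfFinitePresentation f' :=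
    inferInstanceAs (LocallyOfFinitePresentation (f ≫ e.inv))
  have hfl' : FlatMod.IsFlatOver f' F := isFlatOver_comp_iso f e.symm F hfl
  obtain ⟨i₀, X₀, f₀, g₁, hlfp, hqc, hqs, hpb⟩ := Groth.Agent.S0591.result D c hc X f'
  haveI := hlfp
  haveI := hqc
  haveI := hqs
  haveI : CompactSpace X₀ := QuasiCompact.compactSpace_of_compactSpace f₀
  haveI : QuasiSeparatedSpace X₀ := quasiSeparatedSpace_of_quasiSeparated f₀
  have hY : IsPullback (c.π.app i₀) (𝟙 c.pt) (𝟙 (D.obj i₀)) (c.π.app i₀) := IsPullback.id_vert _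
  obtain ⟨i, φ, Xi, Yi, fi, gi, pY, pX, h1, h2, hprop⟩ :=
    Groth.Agent.S2074.result D c hc i₀ f₀ (𝟙 (D.obj i₀)) f' (𝟙 c.pt) (c.π.app i₀) g₁ hY hpb
  -- the system of base changes of `f₀`
  haveI : ∀ (j k : Over i₀) (a : j ⟶ k), IsAffineHom ((bcDiagram D i₀ f₀).map a) :=
    fun _ _ a => inferInstance
  let j₀ : Over i₀ := Over.mk φ
  haveI : CompactSpace ((bcDiagram D i₀ f₀).obj j₀) := inferInstance
  haveI : QuasiSeparatedSpace ((bcDiagram D i₀ f₀).obj j₀) := inferInstance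
  haveI hFq' : Coh.IsQCoh (X := (bcCone i₀ hpb).pt) F := ‹F.IsQuasicoherent›
  obtain ⟨j, a, Fj, hFjq, hFjfp, ⟨eF⟩⟩ :=
    @Groth.Agent.S4788.result _ _ _ (bcDiagram D i₀ f₀) (bcCone i₀ hpb) (isLimitBcCone i₀ hpb hc)
      _ j₀ _ _ F hFq' hFP
  haveI : Fj.IsQuasicoherent := hFjq
  -- properness at the stage `j`
  have hPj : IsProper (dSnd D i₀ f₀ j) := by
    have h := Groth.Agent.Lib.R2H4NoethApprox.prop_snd_of_stage D @IsProper f₀ φ fi gi pY pX h1 h2
      hprop a.left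
    have hw : a.left ≫ φ = j.hom := Over.w a
    rw [hw] at h
    exact h
  haveI := hPj
  haveI hLj : LocallyOfFinitePresentation (dSnd D i₀ f₀ j) :=
    MorphismProperty.pullback_snd (P := @LocallyOfFinitePresentation) f₀ (D.map j.hom) inferInstance
  haveI : QuasiCompact (dSnd D i₀ f₀ j) := inferInstance
  haveI : QuasiSeparated (dSnd D i₀ f₀ j) := inferInstance
  haveI : LocallyOfFinitePresentation (dSnd D i₀ f₀ j ≫ 𝟙 (D.obj j.left)) := by
    rw [Category.comp_id]; infer_instance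
  haveI : QuasiCompact (dSnd D i₀ f₀ j ≫ 𝟙 (D.obj j.left)) := by
    rw [Category.comp_id]; infer_instance
  haveI : QuasiSeparated (dSnd D i₀ f₀ j ≫ 𝟙 (D.obj j.left)) := by
    rw [Category.comp_id]; infer_instance
  -- flatness descent
  have hXj : IsPullback (bcπ i₀ hpb j) f' (dSnd D i₀ f₀ j) (c.π.app j.left) :=
    isPullback_bcπ i₀ hpb j
  have hYj : IsPullback (c.π.app j.left) (𝟙 c.pt) (𝟙 (D.obj j.left)) (c.π.app j.left) :=
    IsPullback.id_vert _
  have hflj : FlatMod.IsFlatOver f' ((Scheme.Modules.pullback (bcπ i₀ hpb j)).obj Fj) :=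
    Groth.Agent.Lib.Helper26.FlatLim.isFlatOver_of_iso f' eF.symm hfl'
  obtain ⟨k, χ, Xk, Yk, fk, gk, pYk, pXk, hk1, hk2, hkfl⟩ :=
    (Groth.Agent.S4849.result D c hc j.left (dSnd D i₀ f₀ j) (𝟙 (D.obj j.left)) Fj hFjfp f' (𝟙 c.pt)
      (c.π.app j.left) (bcπ i₀ hpb j) hYj hXj).1 hflj
  haveI : IsIso gk := hk1.isIso_snd_of_isIso
  -- the model
  let F₀ : Xk.Modules := (Scheme.Modules.pullback pXk).obj Fj
  haveI hF₀q : F₀.IsQuasicoherent :=
    Groth.Agent.Lib.Helper2.PullbackSec.isQuasicoherent_pullback pXk Fj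
  have hF₀fp : CohB1.IsFP F₀ := Groth.Agent.Helper18Strict.isFP_pullback pXk Fj hFjfp
  haveI hPk : IsProper fk := MorphismProperty.of_isPullback hk2 hPj
  have hPk' : IsProper (fk ≫ gk) := inferInstance
  have hflk : FlatMod.IsFlatOver (fk ≫ gk) F₀ := isFlatOver_comp_iso fk (asIso gk) F₀ hkfl
  -- the pullback square
  have hR : IsPullback pXk (fk ≫ gk) (dSnd D i₀ f₀ j) (D.map χ) := by
    have := hk2.paste_vert hk1
    rw [Category.comp_id] at this
    exact this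
  have hw : c.π.app k ≫ D.map χ = c.π.app j.left := c.w χ
  have big : IsPullback (bcπ i₀ hpb j) f' (dSnd D i₀ f₀ j) (c.π.app k ≫ D.map χ) := by
    rw [hw]; exact hXj
  let l : X ⟶ Xk := hR.lift (bcπ i₀ hpb j) (f' ≫ c.π.app k) (by
    rw [Category.assoc]; exact big.w)
  have hl1 : l ≫ pXk = bcπ i₀ hpb j := hR.lift_fst _ _ _
  have t : IsPullback (l ≫ pXk) f' (dSnd D i₀ f₀ j) (c.π.app k ≫ D.map χ) := by
    rw [hl1]; exact big
  have sq : IsPullback l f' (fk ≫ gk) (c.π.app k) :=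
    IsPullback.of_right t (hR.lift_snd _ _ _) hR
  have hiso : IsPullback (𝟙 X) f f' e.inv := IsPullback.of_horiz_isIso ⟨by simp [f']⟩
  have sq' := hiso.paste_horiz sq
  rw [Category.id_comp] at sq'
  -- the module
  let eM : (Scheme.Modules.pullback l).obj F₀ ≅ F :=
    (Scheme.Modules.pullbackComp l pXk).app Fj ≪≫
      (Scheme.Modules.pullbackCongr hl1).app Fj ≪≫ eF
  exact ⟨k, Xk, fk ≫ gk, l, F₀, sq', hPk', hF₀q, hF₀fp, hflk, ⟨eM⟩⟩

/-- **Noetherian model of a proper morphism with a flat finitely presented module.** -/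
theorem exists_model {X S : Scheme.{u}} (f : X ⟶ S) [IsProper f]
    [LocallyOfFinitePresentation f] [CompactSpace S] [QuasiSeparatedSpace S]
    (F : X.Modules) [F.IsQuasicoherent] (hFP : CohB1.IsFP F) (hfl : FlatMod.IsFlatOver f F) :
    ∃ (X₀ S₀ : Scheme.{u}) (f₀ : X₀ ⟶ S₀) (g : S ⟶ S₀) (g' : X ⟶ X₀) (F₀ : X₀.Modules),
      IsPullback g' f f₀ g ∧ IsNoetherian S₀ ∧ IsProper f₀ ∧
        F₀.IsQuasicoherent ∧ CohB1.IsFP F₀ ∧ FlatMod.IsFlatOver f₀ F₀ ∧
        Nonempty ((Scheme.Modules.pullback g').obj F₀ ≅ F) := by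
  obtain ⟨I, _, _, _, D, c, hc, hAff, hD, ⟨e⟩⟩ := Groth.Agent.S0590.result S
  obtain ⟨k, X₀, f₀, g', F₀, sq, hP, hq, hfp, hfl₀, hiso⟩ :=
    exists_model_stage f F hFP hfl D c hc hAff hD e
  haveI : CompactSpace (D.obj k) := (hD k).1
  haveI : LocallyOfFiniteType (IsTerminal.from specULiftZIsTerminal (D.obj k)) := (hD k).2
  haveI : IsLocallyNoetherian (D.obj k) :=
    Groth.Agent.Lib.Helper22.NA4.isLocallyNoetherian_of_lft _
  have hN : IsNoetherian (D.obj k) := { }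
  exact ⟨X₀, D.obj k, f₀, e.inv ≫ c.π.app k, g', F₀, sq, hN, hP, hq, hfp, hfl₀, hiso⟩

/-- **Affine Noetherian model** over an affine base. -/
theorem exists_affine_model {X S : Scheme.{u}} (f : X ⟶ S) [IsProper f]
    [LocallyOfFinitePresentation f] [IsAffine S]
    (F : X.Modules) [F.IsQuasicoherent] (hFP : CohB1.IsFP F) (hfl : FlatMod.IsFlatOver f F) :
    ∃ (X₀ S₀ : Scheme.{u}) (f₀ : X₀ ⟶ S₀) (g : S ⟶ S₀) (g' : X ⟶ X₀) (F₀ : X₀.Modules),
      IsPullback g' f f₀ g ∧ IsAffine S₀ ∧ IsNoetherianRing Γ(S₀, ⊤) ∧ IsProper f₀ ∧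
        F₀.IsQuasicoherent ∧ CohB1.IsFP F₀ ∧ FlatMod.IsFlatOver f₀ F₀ ∧
        Nonempty ((Scheme.Modules.pullback g').obj F₀ ≅ F) := by
  obtain ⟨I, _, _, _, D, c, hc, hAff, hD, ⟨e⟩⟩ := Groth.Agent.S0590.result S
  obtain ⟨k, X₀, f₀, g', F₀, sq, hP, hq, hfp, hfl₀, ⟨iso⟩⟩ :=
    exists_model_stage f F hFP hfl D c hc hAff hD e
  haveI := hP
  haveI := hq
  haveI hAff' : ∀ {i j : Iᵒᵖ} (a : i ⟶ j), IsAffineHom (D.map a) := fun a => hAff _ _ a
  haveI : ∀ i, CompactSpace (D.obj i) := fun i => (hD i).1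
  haveI : ∀ i, LocallyOfFiniteType (IsTerminal.from specULiftZIsTerminal (D.obj i)) :=
    fun i => (hD i).2
  haveI : ∀ i, QuasiSeparatedSpace (D.obj i) := fun i =>
    Groth.Agent.Lib.Helper22.NA4.quasiSeparatedSpace_of_lft _
  haveI : ∀ i, IsLocallyNoetherian (D.obj i) := fun i =>
    Groth.Agent.Lib.Helper22.NA4.isLocallyNoetherian_of_lft _
  haveI : IsCofiltered Iᵒᵖ := inferInstance
  haveI : IsAffine c.pt := IsAffine.of_isIso e.hom
  obtain ⟨ia, hia⟩ := Scheme.exists_isAffine_of_isLimit D c hc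
  obtain ⟨k', ψ, ψa, -⟩ := IsCofilteredOrEmpty.cone_objs k ia
  haveI : IsAffine (D.obj k') := isAffine_of_isAffineHom (D.map ψa)
  have hg : (e.inv ≫ c.π.app k') ≫ D.map ψ = e.inv ≫ c.π.app k := by
    rw [Category.assoc, c.w]
  obtain ⟨X₁, f₁, g₁', F₁, sq1, hP1, hq1, hfp1, hfl1, ⟨iso1⟩⟩ :=
    model_baseChange sq F₀ hfp hfl₀ (D.map ψ) (e.inv ≫ c.π.app k') hg
  haveI : IsNoetherianRing Γ(D.obj k', ⊤) :=
    IsLocallyNoetherian.component_noetherian ⟨⊤, isAffineOpen_top (D.obj k')⟩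
  exact ⟨X₁, D.obj k', f₁, e.inv ≫ c.π.app k', g₁', F₁, sq1, inferInstance, inferInstance, hP1, hq1,
    hfp1, hfl1, ⟨iso1 ≪≫ iso⟩⟩

end Groth.Agent.Lib.R2H2.NoethModel
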