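import Mathlib

/-!
# Finitely presented approximation of a module which is locally finitely presented (helper3, round 2)

`exists_fp_approx`: `L` an `R`-module, `a k` finitely many elements of `R` such that every localization
`L[1/a k]` is a finitely presented `R[1/a k]`-module.  Then there is a finitely presented `R`-module `N`
with a linear map `c : N → L` which becomes bijective after inverting each `a k` (stated elementwise).
This is the affine core of Stacks 01PI (extension of finitely presented modules from quasi-compact opens).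
-/

set_option autoImplicit false
universe u

namespace Groth.Agent.Lib.R2H3.FPApprox

open Finsupp

set_option linter.unusedSectionVars false

section zero

variable {R : Type u} [CommRing R] (a : R) (R' : Type u) [CommRing R'] [Algebra R R']
  [IsLocalization.Away a R']

theorem exists_mul_pow_eq (r : R') : ∃ (j : ℕ) (r' : R), r * algebraMap R R' (a ^ j) = algebraMap R R' r' := by
  obtain ⟨j, r', h⟩ := IsLocalization.Away.surj (x := a) r
  exact ⟨j, r', by rw [map_pow]; exact h⟩

end zero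

section one

variable {R : Type u} [CommRing R] {L : Type u} [AddCommGroup L] [Module R L]
variable (a : R) (R' : Type u) [CommRing R'] [Algebra R R'] [IsLocalization.Away a R']
variable (L' : Type u) [AddCommGroup L'] [Module R L'] [Module R' L'] [IsScalarTower R R' L']
variable (ρ : L →ₗ[R] L') [IsLocalizedModule (Submonoid.powers a) ρ]

theorem pow_smul' (j : ℕ) (z : L') : a ^ j • z = algebraMap R R' (a ^ j) • z :=
  (algebraMap_smul R' (a ^ j) z).symm

include ρ in
theorem exists_pow_smul_eq_zero {l : L} (h : ρ l = 0) : ∃ i : ℕ, a ^ i • l = 0 := by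
  have h' : ρ l = ρ 0 := by rw [h, map_zero]
  obtain ⟨⟨_, i, rfl⟩, hs⟩ := IsLocalizedModule.exists_of_eq (S := Submonoid.powers a) (f := ρ) h'
  exact ⟨i, by simpa [Submonoid.smul_def] using hs⟩

variable {T : Type u} [Fintype T] [DecidableEq T] (τ : T → L)

/-- the `R`-linear map `R^T → L` -/
noncomputable abbrev pi : (T →₀ R) →ₗ[R] L := Finsupp.linearCombination R τ

/-- the `R'`-linear map `R'^T → L'` -/
noncomputable abbrev pi' : (T →₀ R') →ₗ[R'] L' := Finsupp.linearCombination R' (fun t => ρ (τ t))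

/-- coefficientwise map `R^T → R'^T` -/
noncomputable abbrev eps : (T →₀ R) →ₗ[R] (T →₀ R') :=
  Finsupp.mapRange.linearMap (Algebra.linearMap R R')

theorem pi'_eps (x : T →₀ R) : pi' R' L' ρ τ (eps R' x) = ρ (pi τ x) := by
  induction x using Finsupp.induction_linear with
  | zero => simp
  | add x y hx hy => simp only [map_add, hx, hy]
  | single t r =>
    simp only [pi', eps, pi, Finsupp.mapRange.linearMap_apply, Finsupp.mapRange_single,
      Algebra.linearMap_apply, Finsupp.linearCombination_single, map_smul, algebraMap_smul]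

theorem eps_smul (r : R) (x : T →₀ R) : eps R' (r • x) = algebraMap R R' r • eps R' x := by
  rw [map_smul, algebraMap_smul]

/-- clearing denominators in `R'^T` -/
theorem exists_eps_eq (y : T →₀ R') : ∃ (m : ℕ) (x : T →₀ R), eps R' x = a ^ m • y := by
  induction y using Finsupp.induction_linear with
  | zero => exact ⟨0, 0, by simp⟩
  | add y₁ y₂ h₁ h₂ =>
    obtain ⟨m₁, x₁, e₁⟩ := h₁
    obtain ⟨m₂, x₂, e₂⟩ := h₂
    refine ⟨m₁ + m₂, a ^ m₂ • x₁ + a ^ m₁ • x₂, ?_⟩
    rw [map_add, map_smul, map_smul, e₁, e₂, smul_add, smul_smul, smul_smul, ← pow_add, ← pow_add,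
      add_comm m₂ m₁]
  | single t r =>
    obtain ⟨j, r', h⟩ := exists_mul_pow_eq a R' r
    refine ⟨j, Finsupp.single t r', ?_⟩
    simp only [eps, Finsupp.mapRange.linearMap_apply, Finsupp.mapRange_single,
      Algebra.linearMap_apply]
    rw [← h, Finsupp.smul_single, Algebra.smul_def, mul_comm]

/-- `eps` kills only `a`-power torsion -/
theorem exists_pow_smul_eq_zero_of_eps {x : T →₀ R} (h : eps R' x = 0) : ∃ i : ℕ, a ^ i • x = 0 := by
  have h1 : ∀ t : T, ∃ i : ℕ, a ^ i * x t = 0 := by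
    intro t
    have h2 : algebraMap R R' (x t) = 0 := by
      have := DFunLike.congr_fun h t
      simpa [eps] using this
    obtain ⟨m, hm⟩ := (IsLocalization.map_eq_zero_iff (Submonoid.powers a) R' (x t)).1 h2
    obtain ⟨i, hi⟩ := m.2
    have hi' : a ^ i = (m : R) := hi
    exact ⟨i, by rw [hi']; exact hm⟩
  choose i hi using h1
  refine ⟨∑ t, i t, ?_⟩
  ext t
  simp only [Finsupp.smul_apply, smul_eq_mul, Finsupp.zero_apply]
  have : a ^ (∑ t, i t) = a ^ (∑ t' ∈ Finset.univ.erase t, i t') * a ^ i t := by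
    rw [← pow_add, Finset.sum_erase_add _ _ (Finset.mem_univ t)]
  rw [this, mul_assoc, hi, mul_zero]

/-- generation: if the `ρ (τ t)` generate `L'`, every element of `L'` times a power of `a` comes from `R^T` -/
theorem exists_pi_eq (hgen : Submodule.span R' (Set.range fun t => ρ (τ t)) = ⊤) (y : L') :
    ∃ (m : ℕ) (x : T →₀ R), ρ (pi τ x) = a ^ m • y := by
  have hy : y ∈ Submodule.span R' (Set.range fun t => ρ (τ t)) := by rw [hgen]; trivial
  induction hy using Submodule.span_induction with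
  | mem y hy =>
    obtain ⟨t, rfl⟩ := hy
    exact ⟨0, Finsupp.single t 1, by simp [pi]⟩
  | zero => exact ⟨0, 0, by simp⟩
  | add y₁ y₂ _ _ h₁ h₂ =>
    obtain ⟨m₁, x₁, e₁⟩ := h₁
    obtain ⟨m₂, x₂, e₂⟩ := h₂
    refine ⟨m₁ + m₂, a ^ m₂ • x₁ + a ^ m₁ • x₂, ?_⟩
    rw [map_add, map_add, map_smul, map_smul, map_smul, map_smul, e₁, e₂, smul_add, smul_smul,
      smul_smul, ← pow_add, ← pow_add, add_comm m₂ m₁]
  | smul r y _ h =>
    obtain ⟨m, x, e⟩ := h
    obtain ⟨j, r', hr⟩ := exists_mul_pow_eq a R' r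
    refine ⟨j + m, r' • x, ?_⟩
    rw [map_smul, map_smul, e, ← algebraMap_smul R' r' (a ^ m • y), ← hr, pow_add, mul_smul,
      mul_smul, pow_smul' a R' L' j]
    rw [smul_comm r, smul_comm r]

include ρ in
/-- surjectivity up to powers of `a` -/
theorem exists_pi_eq_pow_smul (hgen : Submodule.span R' (Set.range fun t => ρ (τ t)) = ⊤) (l : L) :
    ∃ (m : ℕ) (x : T →₀ R), pi τ x = a ^ m • l := by
  obtain ⟨m, x, e⟩ := exists_pi_eq a R' L' ρ τ hgen (ρ l)
  have h0 : ρ (pi τ x - a ^ m • l) = 0 := by rw [map_sub, map_smul, e, sub_self]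
  obtain ⟨i, hi⟩ := exists_pow_smul_eq_zero a L' ρ h0
  refine ⟨i + m, a ^ i • x, ?_⟩
  rw [smul_sub, sub_eq_zero] at hi
  rw [map_smul, hi, smul_smul, ← pow_add]

/-- every element of the kernel of `pi'`, times a power of `a`, comes from the kernel of `pi` -/
theorem exists_ker_eq {y : T →₀ R'} (hy : pi' R' L' ρ τ y = 0) :
    ∃ (m : ℕ) (x : T →₀ R), pi τ x = 0 ∧ eps R' x = a ^ m • y := by
  obtain ⟨m, x, e⟩ := exists_eps_eq a R' y
  have h0 : ρ (pi τ x) = 0 := by
    rw [← pi'_eps R' L' ρ τ, e, LinearMap.map_smul_of_tower, hy, smul_zero]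
  obtain ⟨i, hi⟩ := exists_pow_smul_eq_zero a L' ρ h0
  refine ⟨i + m, a ^ i • x, by rw [map_smul, hi], ?_⟩
  rw [map_smul, e, smul_smul, ← pow_add]

end one

section main

variable {R : Type u} [CommRing R] {L : Type u} [AddCommGroup L] [Module R L]
  {κ : Type*} [Fintype κ] (a : κ → R)
  (Rk : κ → Type u) [∀ k, CommRing (Rk k)] [∀ k, Algebra R (Rk k)]
  [∀ k, IsLocalization.Away (a k) (Rk k)]
  (Lk : κ → Type u) [∀ k, AddCommGroup (Lk k)] [∀ k, Module R (Lk k)] [∀ k, Module (Rk k) (Lk k)]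
  [∀ k, IsScalarTower R (Rk k) (Lk k)]

/-- **Affine core of Stacks 01PI.**  If every `L[1/a k]` is finitely presented over `R[1/a k]` (finitely many
`a k`), there is a finitely presented `R`-module `N` with a linear map `c : N → L` which is bijective
after inverting each `a k`: every element of `L` times a power of `a k` is in the image, and every element
of the kernel is killed by a power of `a k`. -/
theorem exists_fp_approx (ρ : ∀ k, L →ₗ[R] Lk k)
    [∀ k, IsLocalizedModule (Submonoid.powers (a k)) (ρ k)]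
    (h : ∀ k, Module.FinitePresentation (Rk k) (Lk k)) :
    ∃ (N : Type u) (_ : AddCommGroup N) (_ : Module R N) (_ : Module.FinitePresentation R N)
      (c : N →ₗ[R] L), ∀ k, (∀ l : L, ∃ (m : ℕ) (n : N), c n = a k ^ m • l) ∧
        ∀ n : N, c n = 0 → ∃ m : ℕ, a k ^ m • n = 0 := by
  classical
  have hfin : ∀ k, Module.Finite (Rk k) (Lk k) := fun k => inferInstance
  choose G hG using fun k => (hfin k).fg_top
  have hlift : ∀ k (g : Lk k), ∃ (l : L) (m : ℕ), a k ^ m • g = ρ k l := by
    intro k g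
    obtain ⟨⟨l, s⟩, hl⟩ := IsLocalizedModule.surj (Submonoid.powers (a k)) (ρ k) g
    obtain ⟨m, hm⟩ := s.2
    have hm' : a k ^ m = (s : R) := hm
    exact ⟨l, m, by rw [hm']; exact hl⟩
  choose tl tm htl using hlift
  let T0 : Finset L := Finset.univ.biUnion (fun k => (G k).image (tl k))
  let τ : T0 → L := Subtype.val
  have hgen : ∀ k, Submodule.span (Rk k) (Set.range fun t : T0 => ρ k (τ t)) = ⊤ := by
    intro k
    rw [← top_le_iff, ← hG k, Submodule.span_le]
    intro g hg
    have hmem : tl k g ∈ T0 :=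
      Finset.mem_biUnion.2 ⟨k, Finset.mem_univ k, Finset.mem_image_of_mem _ hg⟩
    have hu : IsUnit (algebraMap R (Rk k) (a k ^ tm k g)) := by
      rw [map_pow]; exact (IsLocalization.Away.algebraMap_isUnit (a k)).pow _
    have h1 : g = (hu.unit⁻¹ : (Rk k)ˣ) • ρ k (tl k g) := by
      rw [← htl k g, ← algebraMap_smul (Rk k) (a k ^ tm k g) g, Units.smul_def, smul_smul,
        IsUnit.val_inv_mul, one_smul]
    rw [h1]
    exact Submodule.smul_mem _ _ (Submodule.subset_span ⟨⟨tl k g, hmem⟩, rfl⟩)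
  have hsurj : ∀ k, Function.Surjective (pi' (Rk k) (Lk k) (ρ k) τ) := by
    intro k
    rw [← LinearMap.range_eq_top, Finsupp.range_linearCombination]
    exact hgen k
  choose Y hY using fun k => Module.FinitePresentation.fg_ker (pi' (Rk k) (Lk k) (ρ k) τ) (hsurj k)
  have hrel : ∀ k (y : T0 →₀ Rk k), ∃ (m : ℕ) (x : T0 →₀ R), pi τ x = 0 ∧
      (pi' (Rk k) (Lk k) (ρ k) τ y = 0 → eps (Rk k) x = a k ^ m • y) := by
    intro k y
    by_cases hy : pi' (Rk k) (Lk k) (ρ k) τ y = 0
    · obtain ⟨m, x, h1, h2⟩ := exists_ker_eq (a k) (Rk k) (Lk k) (ρ k) τ hy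
      exact ⟨m, x, h1, fun _ => h2⟩
    · exact ⟨0, 0, map_zero _, fun h => absurd h hy⟩
  choose rm rx hrx0 hrx using hrel
  let Rel : Set (T0 →₀ R) := ⋃ k, (fun y => rx k y) '' (Y k : Set (T0 →₀ Rk k))
  have hRelfin : Rel.Finite := Set.finite_iUnion fun k => (Y k).finite_toSet.image _
  let K' : Submodule R (T0 →₀ R) := Submodule.span R Rel
  have hK' : K' ≤ LinearMap.ker (pi τ) := by
    rw [Submodule.span_le]
    rintro x hx
    obtain ⟨k, hk⟩ := Set.mem_iUnion.1 hx
    obtain ⟨y, -, rfl⟩ := hk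
    exact hrx0 k y
  have hfp : Module.FinitePresentation R ((T0 →₀ R) ⧸ K') :=
    Module.finitePresentation_of_surjective K'.mkQ (Submodule.mkQ_surjective _)
      (by rw [Submodule.ker_mkQ]; exact Submodule.fg_span hRelfin)
  refine ⟨(T0 →₀ R) ⧸ K', inferInstance, inferInstance, hfp, K'.liftQ (pi τ) hK', fun k => ⟨?_, ?_⟩⟩
  · intro l
    obtain ⟨m, x, e⟩ := exists_pi_eq_pow_smul (a k) (Rk k) (Lk k) (ρ k) τ (hgen k) l
    exact ⟨m, K'.mkQ x, by rw [Submodule.mkQ_apply, Submodule.liftQ_apply, e]⟩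
  · intro n hn
    obtain ⟨x, rfl⟩ := K'.mkQ_surjective n
    rw [Submodule.mkQ_apply, Submodule.liftQ_apply] at hn
    have hz : eps (Rk k) x ∈ Submodule.span (Rk k) (Y k : Set (T0 →₀ Rk k)) := by
      rw [hY k, LinearMap.mem_ker, pi'_eps, hn, map_zero]
    have claim : ∀ z ∈ Submodule.span (Rk k) (Y k : Set (T0 →₀ Rk k)),
        ∃ (m : ℕ) (w : T0 →₀ R), w ∈ K' ∧ eps (Rk k) w = a k ^ m • z := by
      intro z hz
      induction hz using Submodule.span_induction with
      | mem y hy =>
        have hyker : pi' (Rk k) (Lk k) (ρ k) τ y = 0 := by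
          have : y ∈ LinearMap.ker (pi' (Rk k) (Lk k) (ρ k) τ) := by
            rw [← hY k]; exact Submodule.subset_span hy
          exact this
        exact ⟨rm k y, rx k y, Submodule.subset_span (Set.mem_iUnion.2 ⟨k, y, hy, rfl⟩),
          hrx k y hyker⟩
      | zero => exact ⟨0, 0, Submodule.zero_mem _, by simp⟩
      | add z₁ z₂ _ _ h₁ h₂ =>
        obtain ⟨m₁, w₁, hw₁, e₁⟩ := h₁
        obtain ⟨m₂, w₂, hw₂, e₂⟩ := h₂
        refine ⟨m₁ + m₂, a k ^ m₂ • w₁ + a k ^ m₁ • w₂,
          Submodule.add_mem _ (Submodule.smul_mem _ _ hw₁) (Submodule.smul_mem _ _ hw₂), ?_⟩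
        rw [map_add, map_smul, map_smul, e₁, e₂, smul_add, smul_smul, smul_smul, ← pow_add,
          ← pow_add, add_comm m₂ m₁]
      | smul r z _ h =>
        obtain ⟨m, w, hw, e⟩ := h
        obtain ⟨j, r', hr⟩ := exists_mul_pow_eq (a k) (Rk k) r
        refine ⟨j + m, r' • w, Submodule.smul_mem _ _ hw, ?_⟩
        rw [eps_smul, e, ← hr, pow_add, mul_smul, mul_smul, algebraMap_smul]
        rw [smul_comm r, smul_comm r]
    obtain ⟨m, w, hw, e⟩ := claim _ hz
    have h0 : eps (Rk k) (a k ^ m • x - w) = 0 := by rw [map_sub, map_smul, e, sub_self]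
    obtain ⟨i, hi⟩ := exists_pow_smul_eq_zero_of_eps (a k) (Rk k) h0
    refine ⟨i + m, ?_⟩
    rw [smul_sub, sub_eq_zero, smul_smul, ← pow_add] at hi
    rw [Submodule.mkQ_apply, ← Submodule.Quotient.mk_smul, Submodule.Quotient.mk_eq_zero, hi]
    exact Submodule.smul_mem _ _ hw

end main

end Groth.Agent.Lib.R2H3.FPApprox
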