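import Groth.Agent.Lib.Helper23Extend2
import Groth.Agent.Lib.Helper2FinPushFP
import Groth.Agent.Lib.R2H3FPApprox

/-!
# Extension of finitely presented quasi-coherent modules on qcqs schemes (helper3, round 2)

Stacks 01PI in "global" form.

* `surjective_app_basicOpen`, `injective_app_basicOpen`: criteria for a morphism of quasi-coherent modules to be
  surjective / injective on sections over a basic open of an affine open.
* `FPOn M W`: `M` is of finite presentation on the open `W` (expressed on sections over affine opens).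
* `exists_fp_isoOn_spec`: affine case.
* `exists_fp_sup`: one affine step.
* `exists_fp_isoOn`: on a qcqs scheme, a quasi-coherent `H` which is of finite presentation on a quasi-compact open `U`
  receives a morphism `F ⟶ H` from a finitely presented quasi-coherent `F` which is an isomorphism on `U`.
-/

set_option autoImplicit false
set_option linter.style.haveILetI false
universe u
open CategoryTheory Limits AlgebraicGeometry TopologicalSpace Opposite

namespace Groth.Agent.Lib.R2H3.FPExtend

open Groth.Agent.Lib.Helper23.QCohLocal Groth.Agent.Lib.Helper2.Push Groth.Agent.Lib.Helper2.QCoh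
  Groth.Agent.Lib.Helper23.FinType Groth.Agent.Lib.Helper23.ModLocal Groth.Agent.Lib.Helper23.Extend
  Groth.Agent.Lib.Helper2.FPAff

section criteria
variable {X : Scheme.{u}}

theorem isUnit_resf {U : X.Opens} (f : Γ(X, U)) :
    IsUnit (X.presheaf.map (homOfLE (X.basicOpen_le f)).op f) :=
  RingedSpace.isUnit_res_basicOpen _ f

/-- surjectivity on sections over a basic open -/
theorem surjective_app_basicOpen {A B : X.Modules} (m : A ⟶ B) {U : X.Opens} (hB : IsLocOn B U)
    (f : Γ(X, U)) (h : ∀ z : Γ(B, U), ∃ (k : ℕ) (σ : Γ(A, U)), m.app U σ = f ^ k • z) :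
    Function.Surjective (m.app (X.basicOpen f)) := by
  intro z'
  obtain ⟨n, t, ht⟩ := hB.exists_extension f z'
  obtain ⟨k, σ, hσ⟩ := h t
  set i : X.basicOpen f ⟶ U := homOfLE (X.basicOpen_le f) with hi
  obtain ⟨w, hw⟩ := isUnit_resf f
  refine ⟨(↑(w⁻¹ ^ (k + n)) : Γ(X, X.basicOpen f)) • A.presheaf.map i.op σ, ?_⟩
  rw [Scheme.Modules.Hom.app_smul, app_map, hσ, Scheme.Modules.map_smul, ht, map_pow, ← hw, smul_smul,
    smul_smul, mul_assoc, ← pow_add, ← Units.val_pow_eq_pow_val, ← Units.val_mul]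
  simp

/-- injectivity on sections over a basic open -/
theorem injective_app_basicOpen {A B : X.Modules} (m : A ⟶ B) {U : X.Opens} (hA : IsLocOn A U)
    (hB : IsLocOn B U) (f : Γ(X, U))
    (h : ∀ σ : Γ(A, U), m.app U σ = 0 → ∃ k : ℕ, f ^ k • σ = 0) :
    Function.Injective (m.app (X.basicOpen f)) := by
  have key : ∀ σ' : Γ(A, X.basicOpen f), m.app (X.basicOpen f) σ' = 0 → σ' = 0 := by
    intro σ' hσ'
    obtain ⟨n, t, ht⟩ := hA.exists_extension f σ'
    set i : X.basicOpen f ⟶ U := homOfLE (X.basicOpen_le f) with hi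
    have h1 : B.presheaf.map i.op (m.app U t) = 0 := by
      rw [← app_map, ht, Scheme.Modules.Hom.app_smul, hσ', smul_zero]
    obtain ⟨j, hj⟩ := hB.exists_pow_smul_eq_zero f _ h1
    have h2 : m.app U (f ^ j • t) = 0 := by rw [Scheme.Modules.Hom.app_smul, hj]
    obtain ⟨l, hl⟩ := h _ h2
    have h3 : A.presheaf.map i.op (f ^ l • f ^ j • t) = 0 := by rw [hl, map_zero]
    rw [Scheme.Modules.map_smul, Scheme.Modules.map_smul, ht, map_pow, map_pow, smul_smul, smul_smul,
      ← pow_add, ← pow_add] at h3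
    obtain ⟨w, hw⟩ := isUnit_resf f
    rw [← hw] at h3
    have h4 := congrArg (fun z => (↑(w⁻¹ ^ (l + j + n)) : Γ(X, X.basicOpen f)) • z) h3
    simp only [smul_zero, smul_smul] at h4
    rw [← Units.val_pow_eq_pow_val, ← Units.val_mul] at h4
    simpa using h4
  intro x y hxy
  have : m.app (X.basicOpen f) (x - y) = 0 := by rw [map_sub, hxy, sub_self]
  exact sub_eq_zero.1 (key _ this)

end criteria

section fpon
variable {X : Scheme.{u}}

/-- `M` is of finite presentation on the open `W`: sections over affine opens inside `W` are finitely presented -/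
def FPOn (M : X.Modules) (W : X.Opens) : Prop :=
  ∀ W' : X.Opens, IsAffineOpen W' → W' ≤ W → Module.FinitePresentation Γ(X, W') Γ(M, W')

theorem FPOn.mono {M : X.Modules} {W W₁ : X.Opens} (h : FPOn M W) (hle : W₁ ≤ W) : FPOn M W₁ :=
  fun W' hW' hW'le => h W' hW' (hW'le.trans hle)

theorem FPOn.ftOn {M : X.Modules} {W : X.Opens} (h : FPOn M W) : FTOn M W :=
  fun W' hW' hW'le => by
    haveI := h W' hW' hW'le
    infer_instance

theorem FPOn.of_isoOn {A B : X.Modules} (m : A ⟶ B) {U : X.Opens} (hm : IsoOn m U) (hB : FPOn B U) :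
    FPOn A U := by
  intro W hW hWle
  have := hB W hW hWle
  have := hm W hWle
  have hbij : Function.Bijective (m.app W) := ConcreteCategory.bijective_of_isIso (m.app W)
  let e : Γ(A, W) ≃ₗ[Γ(X, W)] Γ(B, W) :=
    LinearEquiv.ofBijective
      { toFun := fun x => m.app W x
        map_add' := fun x y => map_add _ x y
        map_smul' := fun r x => Scheme.Modules.Hom.app_smul m r x } hbij
  exact Module.FinitePresentation.of_equiv e.symm

theorem FPOn.of_isoOn' {A B : X.Modules} (m : A ⟶ B) {U : X.Opens} (hm : IsoOn m U) (hA : FPOn A U) :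
    FPOn B U := by
  intro W hW hWle
  have := hA W hW hWle
  have := hm W hWle
  have hbij : Function.Bijective (m.app W) := ConcreteCategory.bijective_of_isIso (m.app W)
  let e : Γ(A, W) ≃ₗ[Γ(X, W)] Γ(B, W) :=
    LinearEquiv.ofBijective
      { toFun := fun x => m.app W x
        map_add' := fun x y => map_add _ x y
        map_smul' := fun r x => Scheme.Modules.Hom.app_smul m r x } hbij
  exact Module.FinitePresentation.of_equiv e

/-- finite presentation of sections is local on an affine open -/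
theorem finitePresentation_of_basicOpen_cover {U : X.Opens} (hU : IsAffineOpen U) (M : X.Modules)
    [M.IsQuasicoherent] (s : Set Γ(X, U)) (hs : Ideal.span s = ⊤)
    (H : ∀ f ∈ s, Module.FinitePresentation Γ(X, X.basicOpen f) Γ(M, X.basicOpen f)) :
    Module.FinitePresentation Γ(X, U) Γ(M, U) := by
  letI : ∀ g : s, Module Γ(X, U) Γ(M, X.basicOpen g.1) := fun g => moduleRes M (X.basicOpen_le g.1)
  haveI : ∀ g : s, IsScalarTower Γ(X, U) Γ(X, X.basicOpen g.1) Γ(M, X.basicOpen g.1) :=
    fun g => isScalarTower_basicOpen M g.1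
  haveI : ∀ g : s, IsLocalization.Away g.1 Γ(X, X.basicOpen g.1) :=
    fun g => hU.isLocalization_basicOpen g.1
  haveI : ∀ g : s, IsLocalizedModule (Submonoid.powers g.1) (resₗ M (X.basicOpen_le g.1)) :=
    fun g => isLocalizedModule_basicOpen M hU g.1
  exact Module.FinitePresentation.of_localizationSpan' s hs
    (Rₚ := fun g => Γ(X, X.basicOpen g.1)) (Mₚ := fun g => Γ(M, X.basicOpen g.1))
    (fun g => resₗ M (X.basicOpen_le g.1)) (fun g => H g.1 g.2)

theorem FPOn.sup {M : X.Modules} [M.IsQuasicoherent] {U V : X.Opens} (hU : FPOn M U) (hV : FPOn M V) :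
    FPOn M (U ⊔ V) := by
  intro W hW hWle
  let s : Set Γ(X, W) := {f | X.basicOpen f ≤ U ∨ X.basicOpen f ≤ V}
  have hs : Ideal.span s = ⊤ := by
    rw [← hW.self_le_iSup_basicOpen_iff]
    intro x hx
    have hx' : x ∈ U ⊔ V := hWle hx
    rcases hx' with hxU | hxV
    · obtain ⟨f, hf, hxf⟩ := hW.exists_basicOpen_le (V := U) ⟨x, hxU⟩ hx
      exact Opens.mem_iSup.2 ⟨⟨f, Or.inl hf⟩, hxf⟩
    · obtain ⟨f, hf, hxf⟩ := hW.exists_basicOpen_le (V := V) ⟨x, hxV⟩ hx
      exact Opens.mem_iSup.2 ⟨⟨f, Or.inr hf⟩, hxf⟩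
  refine finitePresentation_of_basicOpen_cover hW M s hs (fun f hf => ?_)
  rcases hf with hf | hf
  · exact hU _ (hW.basicOpen f) hf
  · exact hV _ (hW.basicOpen f) hf

theorem isFinitePresentation_of_fpOn_top (M : X.Modules) [M.IsQuasicoherent] (h : FPOn M ⊤) :
    SheafOfModules.IsFinitePresentation (R := X.ringCatSheaf) M :=
  Groth.Agent.Lib.Helper2.FinPushFP.isFinitePresentation_of_finitePresentation_sections M
    (fun V : X.affineOpens => (V : X.Opens)) (iSup_affineOpens_eq_top X) (fun V => V.2)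
    (fun V => h V.1 V.2 le_top)

theorem fpOn_of_isFinitePresentation (M : X.Modules) [M.IsQuasicoherent]
    [SheafOfModules.IsFinitePresentation (R := X.ringCatSheaf) M] (W : X.Opens) : FPOn M W :=
  fun _ hW' _ => finitePresentation_sections M hW'

theorem finitePresentation_restrict_iff {Y : Scheme.{u}} (j : Y ⟶ X) [IsOpenImmersion j] (M : X.Modules)
    (W : Y.Opens) :
    Module.FinitePresentation Γ(Y, W) Γ(M.restrict j, W) ↔
      Module.FinitePresentation Γ(X, j ''ᵁ W) Γ(M, j ''ᵁ W) := by
  refine finitePresentation_iff_of_semilinear (j.appIso W).inv.hom ?_ (AddEquiv.refl _) (fun r x => ?_)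
  · exact ConcreteCategory.bijective_of_isIso (j.appIso W).inv
  · exact Scheme.Modules.smul_restrictAppIso_hom_apply j M W r x

theorem finitePresentation_iff_of_eq (M : X.Modules) {U W : X.Opens} (h : W = U) :
    Module.FinitePresentation Γ(X, W) Γ(M, W) ↔ Module.FinitePresentation Γ(X, U) Γ(M, U) := by
  subst h; rfl

theorem fpOn_of_isFinitePresentation_restrict {Z : Scheme.{u}} (k : Z ⟶ X) [IsOpenImmersion k]
    (M : X.Modules) [M.IsQuasicoherent]
    [SheafOfModules.IsFinitePresentation (R := Z.ringCatSheaf) (M.restrict k)] :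
    FPOn M k.opensRange := by
  intro W hW hWV
  have hW' : IsAffineOpen (k ⁻¹ᵁ W) := hW.preimage_of_isOpenImmersion k hWV
  have himg : k ''ᵁ (k ⁻¹ᵁ W) = W := by
    rw [Scheme.Hom.image_preimage_eq_opensRange_inf]
    exact inf_eq_right.2 hWV
  have h1 : Module.FinitePresentation Γ(Z, k ⁻¹ᵁ W) Γ(M.restrict k, k ⁻¹ᵁ W) :=
    finitePresentation_sections (M.restrict k) hW'
  rw [finitePresentation_restrict_iff] at h1
  exact (finitePresentation_iff_of_eq M himg).1 h1

theorem isFinitePresentation_restrict_of_fpOn {Z : Scheme.{u}} (k : Z ⟶ X) [IsOpenImmersion k]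
    (M : X.Modules) [M.IsQuasicoherent] {U : X.Opens} (h : FPOn M U) (hk : k.opensRange ≤ U) :
    SheafOfModules.IsFinitePresentation (R := Z.ringCatSheaf) (M.restrict k) := by
  refine Groth.Agent.Lib.Helper2.FinPushFP.isFinitePresentation_of_finitePresentation_sections
    (M.restrict k) (fun V : Z.affineOpens => (V : Z.Opens)) (iSup_affineOpens_eq_top Z)
      (fun V => V.2) (fun V => ?_)
  rw [finitePresentation_restrict_iff]
  exact h _ (V.2.image_of_isOpenImmersion k) ((Scheme.Hom.image_le_opensRange k _).trans hk)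

end fpon

section spec
variable (R : CommRingCat.{u})

/-- the ring isomorphism `R → Γ(Spec R, ⊤)` through which `R` acts on sections -/
noncomputable def phi : R →+* Γ(Spec R, ⊤) :=
  ((Scheme.ΓSpecIso R).inv ≫ (Spec R).presheaf.map (⊤ : (Spec R).Opens).leTop.op).hom

theorem phi_bijective : Function.Bijective (phi R) := by
  have : IsIso ((Scheme.ΓSpecIso R).inv ≫ (Spec R).presheaf.map (⊤ : (Spec R).Opens).leTop.op) := by
    have h : (⊤ : (Spec R).Opens).leTop.op = 𝟙 _ := rfl
    rw [h, (Spec R).presheaf.map_id]; infer_instance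
  exact ConcreteCategory.bijective_of_isIso _

theorem smul_eq_phi_smul (B : (Spec R).Modules) (r : R) (x : Γ(B, ⊤)) : r • x = phi R r • x :=
  Scheme.Modules.smul_Spec_def r x

/-- **Affine case**: a quasi-coherent module on `Spec R` which is of finite presentation on a quasi-compact open `Ω`
receives a map from `N^~`, `N` finitely presented, which is an isomorphism on `Ω`. -/
theorem exists_fp_isoOn_spec (B : (Spec R).Modules) [B.IsQuasicoherent] (Ω : (Spec R).Opens)
    (hΩ : IsCompact (Ω : Set (Spec R))) (hB : FPOn B Ω) :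
    ∃ (N : ModuleCat.{u} R) (_ : Module.FinitePresentation R N) (c : N ⟶ (ΓF R).obj B),
      IsoOn (adjTilde R B c) Ω := by
  classical
  obtain ⟨κ, hκ, a, hΩeq⟩ := (isBasis_basicOpen (Spec R)).exists_iSup_eq_of_isCompact Ω hΩ
  have : Fintype κ := Fintype.ofFinite κ
  have hle : ∀ k, (Spec R).basicOpen (a k) ≤ Ω := fun k => by
    rw [hΩeq]; exact le_iSup (fun k => (Spec R).basicOpen (a k)) k
  have hD : ∀ k, IsAffineOpen ((Spec R).basicOpen (a k)) := fun k =>
    (isAffineOpen_top (Spec R)).basicOpen (a k)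
  have hfp : ∀ k, Module.FinitePresentation Γ(Spec R, (Spec R).basicOpen (a k))
      Γ(B, (Spec R).basicOpen (a k)) := fun k => hB _ (hD k) (hle k)
  letI : ∀ k, Module Γ(Spec R, ⊤) Γ(B, (Spec R).basicOpen (a k)) := fun k =>
    moduleRes B ((Spec R).basicOpen_le (a k))
  haveI : ∀ k, IsScalarTower Γ(Spec R, ⊤) Γ(Spec R, (Spec R).basicOpen (a k))
      Γ(B, (Spec R).basicOpen (a k)) := fun k => isScalarTower_basicOpen B (a k)
  haveI : ∀ k, IsLocalization.Away (a k) Γ(Spec R, (Spec R).basicOpen (a k)) := fun k =>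
    (isAffineOpen_top (Spec R)).isLocalization_basicOpen (a k)
  haveI : ∀ k, IsLocalizedModule (Submonoid.powers (a k)) (resₗ B ((Spec R).basicOpen_le (a k))) :=
    fun k => isLocalizedModule_basicOpen B (isAffineOpen_top (Spec R)) (a k)
  obtain ⟨N₁, iN₁, mN₁, hN₁, c₁, hc₁⟩ := Groth.Agent.Lib.R2H3.FPApprox.exists_fp_approx
    (R := Γ(Spec R, ⊤)) (L := Γ(B, ⊤)) a (fun k => Γ(Spec R, (Spec R).basicOpen (a k)))
    (fun k => Γ(B, (Spec R).basicOpen (a k))) (fun k => resₗ B ((Spec R).basicOpen_le (a k))) hfp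
  letI : Module R N₁ := Module.compHom N₁ (phi R)
  have hsm : ∀ (r : R) (n : N₁), r • n = phi R r • n := fun _ _ => rfl
  let N : ModuleCat.{u} R := ModuleCat.of R N₁
  have hN : Module.FinitePresentation R N :=
    finitePresentation_of_semilinear (phi R) (phi_bijective R) (AddEquiv.refl N₁) (fun r x => hsm r x)
  let cl : N₁ →ₗ[R] ((ΓF R).obj B) :=
    { toFun := fun n => (show Γ(B, ⊤) from c₁ n)
      map_add' := fun x y => c₁.map_add x y
      map_smul' := fun r n => by
        change c₁ (phi R r • n) = r • (show Γ(B, ⊤) from c₁ n)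
        rw [c₁.map_smul, smul_eq_phi_smul] }
  let c : N ⟶ (ΓF R).obj B := ModuleCat.ofHom (X := N₁) (Y := ((ΓF R).obj B)) cl
  have hc : ∀ n : N₁, c.hom n = c₁ n := fun _ => rfl
  refine ⟨N, hN, c, ?_⟩
  have hlocB : IsLocOn B ⊤ := IsLocOn.of_isQuasicoherent (isAffineOpen_top (Spec R)) B
  haveI : ((tilde.functor R).obj N).IsQuasicoherent := inferInstanceAs (tilde N).IsQuasicoherent
  have hlocA : IsLocOn ((tilde.functor R).obj N) ⊤ :=
    IsLocOn.of_isQuasicoherent (isAffineOpen_top (Spec R)) _
  let un : N₁ → Γ((tilde.functor R).obj N, ⊤) := fun n => ((tildeΓAdj R).unit.app N).hom n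
  have hunit : ∀ σ : Γ((tilde.functor R).obj N, ⊤), ∃ n : N₁, un n = σ := by
    intro σ
    have : IsIso ((tildeΓAdj R).unit.app N) :=
      inferInstanceAs (IsIso ((tilde.toTildeΓNatIso (R := R)).hom.app N))
    exact (ConcreteCategory.bijective_of_isIso ((tildeΓAdj R).unit.app N)).2 σ
  have hun_smul : ∀ (r : R) (n : N₁), un (phi R r • n) = phi R r • un n := by
    intro r n
    have h1 : ((tildeΓAdj R).unit.app N).hom (r • n) = r • ((tildeΓAdj R).unit.app N).hom n :=
      ((tildeΓAdj R).unit.app N).hom.map_smul r n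
    exact h1.trans (smul_eq_phi_smul R ((tilde.functor R).obj N) r (un n))
  have hun_zero : un 0 = 0 := map_zero ((tildeΓAdj R).unit.app N).hom
  have happ : ∀ n : N₁, (adjTilde R B c).app ⊤ (un n) = c₁ n := by
    intro n
    have h := congrArg (fun φ => φ.hom n) (unit_adjTilde R B c)
    exact h
  have hbij : ∀ k, Function.Bijective ((adjTilde R B c).app ((Spec R).basicOpen (a k))) := by
    intro k
    constructor
    · refine injective_app_basicOpen (adjTilde R B c) hlocA hlocB (a k) (fun σ hσ => ?_)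
      obtain ⟨n, rfl⟩ := hunit σ
      rw [happ] at hσ
      obtain ⟨m, hm⟩ := (hc₁ k).2 n hσ
      obtain ⟨r, hr⟩ := (phi_bijective R).2 (a k ^ m)
      refine ⟨m, ?_⟩
      rw [← hr, ← hun_smul, hr, hm, hun_zero]
    · refine surjective_app_basicOpen (adjTilde R B c) hlocB (a k) (fun z => ?_)
      obtain ⟨m, n, hn⟩ := (hc₁ k).1 z
      exact ⟨m, un n, by rw [happ, hn]⟩
  have hiso := isIso_restrict_of_bijective_app (adjTilde R B c) Ω (fun k => (Spec R).basicOpen (a k))
    hD hle (by rw [hΩeq]) hbij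
  have h2 := (isIso_restrict_iff Ω.ι (adjTilde R B c)).1 hiso
  rwa [Scheme.Opens.opensRange_ι] at h2

end spec

section global
variable {X : Scheme.{u}}

/-- one step: enlarge the open on which a quasi-coherent module is of finite presentation by an affine open,
passing to a module mapping to it which is unchanged on the original open. -/
theorem exists_fp_sup [QuasiSeparatedSpace X] (H : X.Modules) [H.IsQuasicoherent] (U V : X.Opens)
    (hV : IsAffineOpen V) (hUV : IsCompact ((U : Set X) ∩ (V : Set X))) (hH : FPOn H U) :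
    ∃ (F : X.Modules) (ψ : F ⟶ H), F.IsQuasicoherent ∧ FPOn F (U ⊔ V) ∧ IsoOn ψ U := by
  let R : CommRingCat.{u} := Γ(X, V)
  let h : Spec R ⟶ X := hV.fromSpec
  have : QuasiCompact h := quasiCompact_of_compactSpace h
  let Ω : (Spec R).Opens := h ⁻¹ᵁ U
  have hΩ : IsCompact (Ω : Set (Spec R)) := by
    rw [h.isOpenEmbedding.isInducing.isCompact_iff]
    have : (h '' (Ω : Set (Spec R))) = (U : Set X) ∩ (V : Set X) := by
      change h '' (h ⁻¹' (U : Set X)) = _
      rw [Set.image_preimage_eq_inter_range, hV.range_fromSpec]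
    rw [this]; exact hUV
  let B : (Spec R).Modules := H.restrict h
  have hBΩ : FPOn B Ω := by
    intro W hW hWΩ
    have h1 : Module.FinitePresentation Γ(X, h ''ᵁ W) Γ(H, h ''ᵁ W) := by
      refine hH _ (hW.image_of_isOpenImmersion h) ?_
      rintro _ ⟨y, hy, rfl⟩
      exact hWΩ hy
    exact (finitePresentation_restrict_iff h H W).2 h1
  obtain ⟨N, hN, c, hiso⟩ := exists_fp_isoOn_spec R B Ω hΩ hBΩ
  have : ((tilde.functor R).obj N).IsQuasicoherent := inferInstanceAs (tilde N).IsQuasicoherent
  obtain ⟨F, ψ, e, hFq, -, -, hisoOn⟩ := exists_extension' h H ((tilde.functor R).obj N) (adjTilde R B c)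
  have := hFq
  have hψU : IsoOn ψ U := by
    refine hisoOn U (fun W' hW' => ?_)
    exact hiso (h ⁻¹ᵁ W') (h.preimage_mono hW')
  refine ⟨F, ψ, hFq, FPOn.sup (FPOn.of_isoOn ψ hψU hH) ?_, hψU⟩
  have : SheafOfModules.IsFinitePresentation (R := (Spec R).ringCatSheaf) ((tilde.functor R).obj N) :=
    (isFinitePresentation_tilde_iff R N).2 hN
  have hFr : FPOn (F.restrict h) ⊤ := by
    intro W hW _
    have h1 : Module.FinitePresentation Γ(Spec R, W) Γ((tilde.functor R).obj N, W) :=
      finitePresentation_sections _ hW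
    have hb : IsIso (e.hom.app W) := inferInstance
    have hbij : Function.Bijective (e.hom.app W) := ConcreteCategory.bijective_of_isIso (e.hom.app W)
    let e' : Γ(F.restrict h, W) ≃ₗ[Γ(Spec R, W)] Γ((tilde.functor R).obj N, W) :=
      LinearEquiv.ofBijective
        { toFun := fun x => e.hom.app W x
          map_add' := fun x y => map_add _ x y
          map_smul' := fun r x => Scheme.Modules.Hom.app_smul e.hom r x } hbij
    exact Module.FinitePresentation.of_equiv e'.symm
  have : SheafOfModules.IsFinitePresentation (R := (Spec R).ringCatSheaf) (F.restrict h) :=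
    isFinitePresentation_of_fpOn_top _ hFr
  have := fpOn_of_isFinitePresentation_restrict h F
  rw [hV.opensRange_fromSpec] at this
  exact this

/-- **Stacks 01PI (global form)**: on a qcqs scheme, if `H` is quasi-coherent and of finite presentation on a
quasi-compact open `U`, there is a quasi-coherent module `F` of finite presentation with a morphism `F ⟶ H` which is
an isomorphism on `U`. -/
theorem exists_fp_isoOn [CompactSpace X] [QuasiSeparatedSpace X] (H : X.Modules) [H.IsQuasicoherent]
    (U : X.Opens) (hU : IsCompact (U : Set X)) (hH : FPOn H U) :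
    ∃ (F : X.Modules) (ψ : F ⟶ H), F.IsQuasicoherent ∧
      SheafOfModules.IsFinitePresentation (R := X.ringCatSheaf) F ∧ IsoOn ψ U := by
  have key : ∀ (S : X.Opens), IsCompact (S : Set X) → ∀ (H : X.Modules) [H.IsQuasicoherent], FPOn H U →
      ∃ (F : X.Modules) (ψ : F ⟶ H), F.IsQuasicoherent ∧ FPOn F (U ⊔ S) ∧ IsoOn ψ U := by
    intro S hS
    refine compact_open_induction_on (P := fun S => ∀ (H : X.Modules) [H.IsQuasicoherent], FPOn H U →
      ∃ (F : X.Modules) (ψ : F ⟶ H), F.IsQuasicoherent ∧ FPOn F (U ⊔ S) ∧ IsoOn ψ U) S hS ?_ ?_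
    · intro H _ hH
      exact ⟨H, 𝟙 H, inferInstance, by rw [sup_bot_eq]; exact hH, isoOn_id H U⟩
    · intro S hS V ih H _ hH
      obtain ⟨F₁, ψ₁, hq₁, hfp₁, hiso₁⟩ := ih H hH
      have := hq₁
      have hcpt : IsCompact (((U ⊔ S : X.Opens) : Set X)) := by
        have : ((U ⊔ S : X.Opens) : Set X) = (U : Set X) ∪ (S : Set X) := rfl
        rw [this]; exact hU.union hS
      obtain ⟨F₂, ψ₂, hq₂, hfp₂, hiso₂⟩ := exists_fp_sup F₁ (U ⊔ S) V V.2
        (QuasiSeparatedSpace.inter_isCompact _ _ (U ⊔ S).isOpen hcpt V.1.isOpen V.2.isCompact) hfp₁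
      refine ⟨F₂, ψ₂ ≫ ψ₁, hq₂, ?_, (hiso₂.mono le_sup_left).comp hiso₁⟩
      rw [← sup_assoc]; exact hfp₂
  obtain ⟨F, ψ, hq, hfp, hiso⟩ := key ⊤ isCompact_univ H hH
  have := hq
  refine ⟨F, ψ, hq, isFinitePresentation_of_fpOn_top F ?_, hiso⟩
  rw [sup_top_eq] at hfp; exact hfp

end global

end Groth.Agent.Lib.R2H3.FPExtend
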