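import Mathlib
import Groth.Prelude
import Groth.Agent.Lib.R2H2NoethModel
import Groth.Agent.Lib.R2H2Bridge
import Groth.Agent.Lib.R2H2FibRank
import Groth.Agent.Lib.R2H2BcAlg
import Groth.Agent.Lib.R2H3RpushRestrict
import Groth.Agent.Lib.R2H3FPExtend
import Groth.Agent.Lib.R2H2GammaDer
import Groth.Agent.Lib.R2H2ProperCoh
import Groth.Agent.Lib.Helper20LocFree
import Groth.Agent.Lib.Helper20PullbackAff
import Groth.Agent.Lib.Helper23ModLocal
import Groth.Agent.S2380
set_option backward.isDefEq.respectTransparency.types false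

/-!
# Cohomology and base change over an arbitrary base, locally (helper2, round 2)

For `f : X ⟶ S` proper and locally of finite presentation and `F` quasi-coherent of finite presentation and flat
over `S`, every point of `S` has an affine open neighbourhood `V₁` over which `(f, F)` is the base change of a
proper `X₀ ⟶ Spec A` with `A` Noetherian and a coherent flat `F₀`.  Grothendieck's complex `Q` of `(X₀, F₀)` then
computes the cohomology of every base change of `(f, F)` to a ring `B` over `V₁`.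
-/

set_option autoImplicit false
set_option linter.unusedSectionVars false
set_option linter.style.haveILetI false
universe u
open CategoryTheory CategoryTheory.Limits AlgebraicGeometry TopologicalSpace Opposite

noncomputable section

namespace Groth.Agent.Lib.R2H2.LocalCBC

open Groth.Agent.Lib.R2H2.FibRank

section Restrict

variable {X S : Scheme.{u}}

/-- restriction to an open subscheme preserves finite presentation -/
theorem isFP_restrict {Z : Scheme.{u}} (k : Z ⟶ X) [IsOpenImmersion k] (F : X.Modules)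
    [F.IsQuasicoherent] (hF : CohB1.IsFP F) : CohB1.IsFP (F.restrict k) := by
  haveI : SheafOfModules.IsFinitePresentation (R := X.ringCatSheaf) F := hF
  exact Groth.Agent.Lib.R2H3.FPExtend.isFinitePresentation_restrict_of_fpOn k F
    (Groth.Agent.Lib.R2H3.FPExtend.fpOn_of_isFinitePresentation F ⊤) le_top

/-- flatness over the base restricts to opens of the base -/
theorem isFlatOver_morphismRestrict (f : X ⟶ S) (V : S.Opens) (F : X.Modules) [F.IsQuasicoherent]
    (h : FlatMod.IsFlatOver f F) : FlatMod.IsFlatOver (f ∣_ V) (F.restrict (f ⁻¹ᵁ V).ι) := by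
  have hR : IsPullback (f ⁻¹ᵁ V).ι (f ∣_ V) f V.ι := (isPullback_morphismRestrict f V).flip
  have h1 : FlatMod.IsFlatOver (f ∣_ V) ((Scheme.Modules.pullback (f ⁻¹ᵁ V).ι).obj F) := fun x =>
    Groth.Agent.Lib.Helper2.PullbackSec.isFlatOverAt_pullback_of_isPullback hR F x (h _)
  exact Groth.Agent.Lib.Helper26.FlatLim.isFlatOver_of_iso _
    ((Scheme.Modules.restrictFunctorIsoPullback (f ⁻¹ᵁ V).ι).app F).symm h1

end Restrict

section Core

variable {A : Type u} [CommRing A] {X₀ : Scheme.{u}} [X₀.Over (Spec (CommRingCat.of A))]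
  [IsSeparated (X₀ ↘ Spec (CommRingCat.of A))] [CompactSpace X₀]
  {X S : Scheme.{u}} {f : X ⟶ S} {g : S ⟶ Spec (CommRingCat.of A)} {g' : X ⟶ X₀}
  (sq : IsPullback g' f (X₀ ↘ Spec (CommRingCat.of A)) g)
  (F₀ : X₀.Modules) [F₀.IsQuasicoherent] {F : X.Modules}
  (ε : (Scheme.Modules.pullback g').obj F₀ ≅ F)
  {B : Type u} [CommRing B] [Algebra A B] {P : Scheme.{u}} [P.Over (Spec (CommRingCat.of B))]
  (j : Spec (CommRingCat.of B) ⟶ S)
  (hj : Spec.map (CommRingCat.ofHom (algebraMap A B)) = j ≫ g)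
  (p₁ : P ⟶ X) (hP : IsPullback p₁ (P ↘ Spec (CommRingCat.of B)) f j)
  (Q : ChainComplex (ModuleCat.{u} A) ℤ) (k : ℤ) (p : ℕ)
  (e : CohIII.TFun Q k ⋙ forget₂ (ModuleCat.{u} A) AddCommGrpCat.{u} ≅
    CohIII.tensorAFunctor A F₀ ⋙ CohIII.HAb X₀ p)

include sq hj hP in
theorem isPullback_paste : IsPullback (p₁ ≫ g') (P ↘ Spec (CommRingCat.of B))
    (X₀ ↘ Spec (CommRingCat.of A)) (Spec.map (CommRingCat.ofHom (algebraMap A B))) := by
  rw [hj]; exact hP.paste_horiz sq

/-- the pullback of `F` to `P` is the pullback of the model -/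
def pullbackIso : (Scheme.Modules.pullback (p₁ ≫ g')).obj F₀ ≅ (Scheme.Modules.pullback p₁).obj F :=
  ((Scheme.Modules.pullbackComp p₁ g').app F₀).symm ≪≫ (Scheme.Modules.pullback p₁).mapIso ε

include sq hj hP e ε in
/-- **the cohomology of a base change is computed by the base change of Grothendieck's complex** -/
theorem nonempty_HH_linearEquiv_of_model :
    Nonempty (Coh.HH P ((Scheme.Modules.pullback p₁).obj F) p ≃ₗ[B]
      (CohIII.bcCx (algebraMap A B) Q).homology k) := by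
  obtain ⟨l⟩ := nonempty_HH_linearEquiv (p₁ ≫ g') (isPullback_paste sq j hj p₁ hP) F₀ Q k p e
  exact ⟨(HHLinEquiv (pullbackIso F₀ ε p₁) p).symm ≪≫ₗ l⟩

end Core

section Fibre

/-- isomorphic modules have cohomology of the same dimension -/
theorem finrank_HH_congr {B : Type u} [Field B] {X' : Scheme.{u}}
    [X'.Over (Spec (CommRingCat.of B))] {M N : X'.Modules} (ε : M ≅ N) (p : ℕ) :
    Module.finrank B (Coh.HH X' M p) = Module.finrank B (Coh.HH X' N p) :=
  (HHLinEquiv ε p).finrank_eq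

variable {A : Type u} [CommRing A] {X₀ : Scheme.{u}} [X₀.Over (Spec (CommRingCat.of A))]
  [IsSeparated (X₀ ↘ Spec (CommRingCat.of A))] [CompactSpace X₀]
  {X S : Scheme.{u}} {f : X ⟶ S} {g : S ⟶ Spec (CommRingCat.of A)} {g' : X ⟶ X₀}
  (sq : IsPullback g' f (X₀ ↘ Spec (CommRingCat.of A)) g)
  (F₀ : X₀.Modules) [F₀.IsQuasicoherent] {F : X.Modules}
  (ε : (Scheme.Modules.pullback g').obj F₀ ≅ F)
  (Q : ChainComplex (ModuleCat.{u} A) ℤ) (hQ : ∀ i, Module.Flat A (Q.X i)) (k : ℤ) (p : ℕ)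
  (e : CohIII.TFun Q k ⋙ forget₂ (ModuleCat.{u} A) AddCommGrpCat.{u} ≅
    CohIII.tensorAFunctor A F₀ ⋙ CohIII.HAb X₀ p)

include sq ε hQ e in
/-- **fibre ranks of a base change are computed by the rank function of Grothendieck's complex** -/
theorem fiberRank_eq_dRank_of_model (t : S) :
    CohIII.fiberRank f F p t = CohIII.dRank Q k (g t) := by
  let ψ : CommRingCat.of A ⟶ S.residueField t := Spec.preimage (S.fromSpecResidueField t ≫ g)
  have hψ : Spec.map ψ = S.fromSpecResidueField t ≫ g := Spec.map_preimage _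
  have hpb : IsPullback (f.fiberι t ≫ g') (f.fiberToSpecResidueField t)
      (X₀ ↘ Spec (CommRingCat.of A)) (Spec.map ψ) := by
    rw [hψ]; exact (IsPullback.of_hasPullback f (S.fromSpecResidueField t)).paste_horiz sq
  have x' : PrimeSpectrum (S.residueField t) := ⟨⊥, Ideal.isPrime_bot⟩
  have hx' : PrimeSpectrum.comap ψ.hom x' = g t := by
    have h1 : (Spec.map ψ) x' = g t := by
      rw [hψ]
      have h2 := Scheme.fromSpecResidueField_apply t x'
      rw [Scheme.Hom.comp_apply, h2]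
    exact h1
  have key := @finrank_HH_eq_dRank A (S.residueField t) _ inferInstance ψ.hom.toAlgebra X₀
    (f.fiber t) _ (CohIII.fiberOver f t) (f.fiberι t ≫ g') hpb F₀ _ _ _ Q hQ k p e x'
  have h3 := @finrank_HH_congr (S.residueField t) inferInstance (f.fiber t) (CohIII.fiberOver f t)
    _ _ (pullbackIso F₀ ε (f.fiberι t)) p
  have h4 := (h3.symm.trans key).trans (congrArg (CohIII.dRank Q k) hx')
  exact h4

end Fibre

section OverOpen

variable {A : Type u} [CommRing A] {X₀ : Scheme.{u}} [X₀.Over (Spec (CommRingCat.of A))]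
  [IsSeparated (X₀ ↘ Spec (CommRingCat.of A))] [CompactSpace X₀]
  {X S : Scheme.{u}} {f : X ⟶ S} {V₁ : S.Opens}
  {g : (V₁ : Scheme.{u}) ⟶ Spec (CommRingCat.of A)}
  {g' : ((f ⁻¹ᵁ V₁ : X.Opens) : Scheme.{u}) ⟶ X₀}
  (sq : IsPullback g' (f ∣_ V₁) (X₀ ↘ Spec (CommRingCat.of A)) g)
  (F₀ : X₀.Modules) [F₀.IsQuasicoherent] {F : X.Modules}
  (ε : (Scheme.Modules.pullback g').obj F₀ ≅ F.restrict (f ⁻¹ᵁ V₁).ι)
  {B : Type u} [CommRing B] [Algebra A B] {P : Scheme.{u}} [P.Over (Spec (CommRingCat.of B))]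
  (j₁ : Spec (CommRingCat.of B) ⟶ (V₁ : Scheme.{u}))
  (hj : Spec.map (CommRingCat.ofHom (algebraMap A B)) = j₁ ≫ g)
  (p₁ : P ⟶ X) (hP : IsPullback p₁ (P ↘ Spec (CommRingCat.of B)) f (j₁ ≫ V₁.ι))
  (Q : ChainComplex (ModuleCat.{u} A) ℤ) (k : ℤ) (p : ℕ)
  (e : CohIII.TFun Q k ⋙ forget₂ (ModuleCat.{u} A) AddCommGrpCat.{u} ≅
    CohIII.tensorAFunctor A F₀ ⋙ CohIII.HAb X₀ p)

/-- the lift of `P ⟶ X` to the open subscheme `f⁻¹ V₁` -/
def liftOpen : P ⟶ ((f ⁻¹ᵁ V₁ : X.Opens) : Scheme.{u}) :=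
  (isPullback_morphismRestrict f V₁).flip.lift p₁ ((P ↘ Spec (CommRingCat.of B)) ≫ j₁)
    (by rw [Category.assoc]; exact hP.w)

lemma liftOpen_ι : liftOpen j₁ p₁ hP ≫ (f ⁻¹ᵁ V₁).ι = p₁ :=
  (isPullback_morphismRestrict f V₁).flip.lift_fst _ _ _

lemma isPullback_liftOpen :
    IsPullback (liftOpen j₁ p₁ hP) (P ↘ Spec (CommRingCat.of B)) (f ∣_ V₁) j₁ := by
  have hR := (isPullback_morphismRestrict f V₁).flip
  have t : IsPullback (liftOpen j₁ p₁ hP ≫ (f ⁻¹ᵁ V₁).ι) (P ↘ Spec (CommRingCat.of B)) f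
      (j₁ ≫ V₁.ι) := by
    rw [liftOpen_ι]; exact hP
  exact IsPullback.of_right t (hR.lift_snd _ _ _) hR

/-- the pullback of the restriction along the lift is the pullback of `F` -/
def liftOpenIso : (Scheme.Modules.pullback (liftOpen j₁ p₁ hP)).obj (F.restrict (f ⁻¹ᵁ V₁).ι) ≅
    (Scheme.Modules.pullback p₁).obj F :=
  (Scheme.Modules.pullback (liftOpen j₁ p₁ hP)).mapIso
      ((Scheme.Modules.restrictFunctorIsoPullback (f ⁻¹ᵁ V₁).ι).app F) ≪≫
    (Scheme.Modules.pullbackComp (liftOpen j₁ p₁ hP) (f ⁻¹ᵁ V₁).ι).app F ≪≫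
    (Scheme.Modules.pullbackCongr (liftOpen_ι j₁ p₁ hP)).app F

include sq ε hj hP e in
/-- **cohomology of a base change landing in `V₁`** -/
theorem nonempty_HH_linearEquiv_of_localModel :
    Nonempty (Coh.HH P ((Scheme.Modules.pullback p₁).obj F) p ≃ₗ[B]
      (CohIII.bcCx (algebraMap A B) Q).homology k) := by
  obtain ⟨l⟩ := nonempty_HH_linearEquiv_of_model sq F₀ ε j₁ hj (liftOpen j₁ p₁ hP)
    (isPullback_liftOpen j₁ p₁ hP) Q k p e
  exact ⟨(HHLinEquiv (liftOpenIso j₁ p₁ hP) p).symm ≪≫ₗ l⟩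

end OverOpen

end Groth.Agent.Lib.R2H2.LocalCBC
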