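import Mathlib
import Groth.Prelude
import Groth.Agent.Lib.R2H2LocalCBC
set_option backward.isDefEq.respectTransparency.types false

/-!
# Cohomology and base change over an arbitrary base, locally II (helper2, round 2)

* `finrank_HH_eq_dRank_of_localModel`, `fiberRank_eq_dRank_of_localModel`: fibre ranks over the open `V₁` carrying
  the model;
* `isUnit_algebraMap_of_forall_mem_basicOpen`;
* `toGlobal_isoSpec`, `isFinLocFree_Rpush_of_finite_projective`: on an affine base, a finite projective `H^p(X, G)`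
  gives a finite locally free `R^p f_* G`.
-/

set_option autoImplicit false
set_option linter.unusedSectionVars false
set_option linter.style.haveILetI false
universe u
open CategoryTheory CategoryTheory.Limits AlgebraicGeometry TopologicalSpace Opposite

noncomputable section

namespace Groth.Agent.Lib.R2H2.LocalCBC

open Groth.Agent.Lib.R2H2.FibRank

section Rank

/-- the dimension of a vector space isomorphic to the homology of `Q ⊗_A B`, `B` a field -/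
theorem finrank_eq_dRank_of_linearEquiv {A B : Type u} [CommRing A] [Field B] [Algebra A B]
    (Q : ChainComplex (ModuleCat.{u} A) ℤ) (hQ : ∀ i, Module.Flat A (Q.X i)) (k : ℤ)
    {M : Type u} [AddCommGroup M] [Module B M]
    (l : M ≃ₗ[B] (CohIII.bcCx (algebraMap A B) Q).homology k) (x' : PrimeSpectrum B) :
    Module.finrank B M = CohIII.dRank Q k (PrimeSpectrum.comap (algebraMap A B) x') := by
  rw [l.finrank_eq, ← Groth.Agent.S2440.result Q hQ k x',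
    Groth.Agent.Lib.Helper3.dRank_eq_fd_homology, Groth.Agent.Lib.Helper3.fd_of_free]

end Rank

section FieldPoint

variable {A : Type u} [CommRing A] {X₀ : Scheme.{u}} [X₀.Over (Spec (CommRingCat.of A))]
  [IsSeparated (X₀ ↘ Spec (CommRingCat.of A))] [CompactSpace X₀]
  {X S : Scheme.{u}} {f : X ⟶ S} {V₁ : S.Opens}
  {g : (V₁ : Scheme.{u}) ⟶ Spec (CommRingCat.of A)}
  {g' : ((f ⁻¹ᵁ V₁ : X.Opens) : Scheme.{u}) ⟶ X₀}
  (sq : IsPullback g' (f ∣_ V₁) (X₀ ↘ Spec (CommRingCat.of A)) g)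
  (F₀ : X₀.Modules) [F₀.IsQuasicoherent] {F : X.Modules}
  (ε : (Scheme.Modules.pullback g').obj F₀ ≅ F.restrict (f ⁻¹ᵁ V₁).ι)
  {B : Type u} [Field B] [Algebra A B] {P : Scheme.{u}} [P.Over (Spec (CommRingCat.of B))]
  (j₁ : Spec (CommRingCat.of B) ⟶ (V₁ : Scheme.{u}))
  (hj : Spec.map (CommRingCat.ofHom (algebraMap A B)) = j₁ ≫ g)
  (p₁ : P ⟶ X) (hP : IsPullback p₁ (P ↘ Spec (CommRingCat.of B)) f (j₁ ≫ V₁.ι))
  (Q : ChainComplex (ModuleCat.{u} A) ℤ) (hQ : ∀ i, Module.Flat A (Q.X i)) (k : ℤ) (p : ℕ)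
  (e : CohIII.TFun Q k ⋙ forget₂ (ModuleCat.{u} A) AddCommGrpCat.{u} ≅
    CohIII.tensorAFunctor A F₀ ⋙ CohIII.HAb X₀ p)

include sq ε hj hP hQ e in
theorem finrank_HH_eq_dRank_of_localModel (x' : PrimeSpectrum B) :
    Module.finrank B (Coh.HH P ((Scheme.Modules.pullback p₁).obj F) p) =
      CohIII.dRank Q k (PrimeSpectrum.comap (algebraMap A B) x') := by
  obtain ⟨l⟩ := nonempty_HH_linearEquiv_of_localModel sq F₀ ε j₁ hj p₁ hP Q k p e
  exact finrank_eq_dRank_of_linearEquiv Q hQ k l x'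

end FieldPoint

section Fibre

variable {A : Type u} [CommRing A] {X₀ : Scheme.{u}} [X₀.Over (Spec (CommRingCat.of A))]
  [IsSeparated (X₀ ↘ Spec (CommRingCat.of A))] [CompactSpace X₀]
  {X S : Scheme.{u}} {f : X ⟶ S} {V₁ : S.Opens}
  {g : (V₁ : Scheme.{u}) ⟶ Spec (CommRingCat.of A)}
  {g' : ((f ⁻¹ᵁ V₁ : X.Opens) : Scheme.{u}) ⟶ X₀}
  (sq : IsPullback g' (f ∣_ V₁) (X₀ ↘ Spec (CommRingCat.of A)) g)
  (F₀ : X₀.Modules) [F₀.IsQuasicoherent] {F : X.Modules}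
  (ε : (Scheme.Modules.pullback g').obj F₀ ≅ F.restrict (f ⁻¹ᵁ V₁).ι)
  (Q : ChainComplex (ModuleCat.{u} A) ℤ) (hQ : ∀ i, Module.Flat A (Q.X i)) (k : ℤ) (p : ℕ)
  (e : CohIII.TFun Q k ⋙ forget₂ (ModuleCat.{u} A) AddCommGrpCat.{u} ≅
    CohIII.tensorAFunctor A F₀ ⋙ CohIII.HAb X₀ p)

include sq ε hQ e in
/-- **fibre ranks over `V₁` are computed by the rank function of Grothendieck's complex** -/
theorem fiberRank_eq_dRank_of_localModel (t : S) (ht : t ∈ V₁) :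
    CohIII.fiberRank f F p t = CohIII.dRank Q k (g ⟨t, ht⟩) := by
  have hr : Set.range (S.fromSpecResidueField t) ⊆ Set.range V₁.ι := by
    rw [Scheme.range_fromSpecResidueField, Scheme.Opens.range_ι]
    exact Set.singleton_subset_iff.mpr ht
  let j₁ : Spec (S.residueField t) ⟶ (V₁ : Scheme.{u}) :=
    IsOpenImmersion.lift V₁.ι (S.fromSpecResidueField t) hr
  have hj₁ : j₁ ≫ V₁.ι = S.fromSpecResidueField t := IsOpenImmersion.lift_fac _ _ _
  let ψ : CommRingCat.of A ⟶ S.residueField t := Spec.preimage (j₁ ≫ g)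
  have hψ : Spec.map ψ = j₁ ≫ g := Spec.map_preimage _
  have hP : IsPullback (f.fiberι t) (f.fiberToSpecResidueField t) f (j₁ ≫ V₁.ι) := by
    rw [hj₁]; exact IsPullback.of_hasPullback f (S.fromSpecResidueField t)
  have x' : PrimeSpectrum (S.residueField t) := ⟨⊥, Ideal.isPrime_bot⟩
  have hx' : PrimeSpectrum.comap ψ.hom x' = g ⟨t, ht⟩ := by
    have h1 : (Spec.map ψ) x' = g ⟨t, ht⟩ := by
      rw [hψ, Scheme.Hom.comp_apply]
      congr 1
      apply Subtype.ext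
      have h2 := Scheme.fromSpecResidueField_apply t x'
      rw [← hj₁, Scheme.Hom.comp_apply] at h2
      exact h2
    exact h1
  have key := @finrank_HH_eq_dRank_of_localModel A _ X₀ _ _ _ X S f V₁ g g' sq F₀ _ F ε
    (S.residueField t) inferInstance ψ.hom.toAlgebra (f.fiber t) (CohIII.fiberOver f t) j₁ hψ
    (f.fiberι t) hP Q hQ k p e x'
  exact key.trans (congrArg (CohIII.dRank Q k) hx')

end Fibre

section Unit

theorem isUnit_of_forall_notMem {B : Type*} [CommRing B] (b : B)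
    (h : ∀ q : PrimeSpectrum B, b ∉ q.asIdeal) : IsUnit b := by
  by_contra hb
  obtain ⟨I, hI, hbI⟩ := exists_max_ideal_of_mem_nonunits (show b ∈ nonunits B from hb)
  exact h ⟨I, hI.isPrime⟩ hbI

/-- `a` becomes a unit in `B` when `Spec B` maps into `D(a)` -/
theorem isUnit_algebraMap_of_forall_mem_basicOpen {A B : Type u} [CommRing A] [CommRing B]
    [Algebra A B] (a : A)
    (h : ∀ x : ↥(Spec (CommRingCat.of B)),
      (Spec.map (CommRingCat.ofHom (algebraMap A B))) x ∈ PrimeSpectrum.basicOpen a) :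
    IsUnit (algebraMap A B a) := by
  refine isUnit_of_forall_notMem _ (fun q hq => ?_)
  exact h q hq

end Unit

section AffineBase

open Groth.Agent.Lib.R2H2.GammaDer

theorem toGlobal_isoSpec {P T : Scheme.{u}} [IsAffine T] (f' : P ⟶ T) (b : Γ(T, ⊤)) :
    Coh.toGlobal (A := Γ(T, ⊤)) (f' ≫ T.isoSpec.hom) b = topHom f' b := by
  rw [topHom_apply]
  unfold Coh.toGlobal
  change (f' ≫ T.isoSpec.hom).appTop.hom ((Scheme.ΓSpecIso (CommRingCat.of ↑Γ(T, ⊤))).inv.hom b) = _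
  have h1 : (f' ≫ T.isoSpec.hom).appTop = T.isoSpec.hom.appTop ≫ f'.appTop :=
    Scheme.Hom.comp_appTop _ _
  rw [h1]
  change f'.appTop.hom (T.isoSpec.hom.appTop.hom _) = _
  congr 1
  have h2 : T.isoSpec.hom.appTop = (Scheme.ΓSpecIso Γ(T, ⊤)).hom := by
    simp [Scheme.isoSpec]
  rw [h2]
  exact congrArg (fun φ => φ.hom b) (Scheme.ΓSpecIso Γ(T, ⊤)).inv_hom_id

open Groth.Agent.Lib.Helper20.Thickening Groth.Agent.Lib.Helper20.PullbackAff
  Groth.Agent.Lib.Helper20.LocFree in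
theorem isFinLocFree_Rpush_of_finite_projective {P T : Scheme.{u}} [IsAffine T] (f' : P ⟶ T)
    [QuasiCompact f'] [QuasiSeparated f'] [HasInjectiveResolutions P.Modules]
    [P.Over (Spec (CommRingCat.of Γ(T, ⊤)))]
    (hover : (P ↘ Spec (CommRingCat.of Γ(T, ⊤))) = f' ≫ T.isoSpec.hom)
    (G : P.Modules) [G.IsQuasicoherent] (p : ℕ)
    [Module.Finite Γ(T, ⊤) (Coh.HH P G p)] [Module.Projective Γ(T, ⊤) (Coh.HH P G p)] :
    FlatMod.IsFinLocFree ((Coh.Rpush f' p).obj G) := by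
  set N := (Coh.Rpush f' p).obj G with hN
  haveI : N.IsQuasicoherent :=
    Groth.Agent.Lib.R2H3.RpushQCohGen.isQuasicoherent_Rpush_of_qcqs f' G p
  obtain ⟨φ⟩ := nonempty_sections_Rpush_iso f' G p
  let L : Γ(N, ⊤) ≃ₗ[Γ(T, ⊤)] Coh.HH P G p :=
    { toFun := fun x => φ.hom.hom x
      invFun := fun y => φ.inv.hom y
      map_add' := fun x y => map_add φ.hom.hom x y
      map_smul' := fun b x => by
        have h1 := φ.hom.hom.map_smul b x
        refine h1.trans ?_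
        change topHom f' b • φ.hom.hom x =
          Coh.toGlobal (P ↘ Spec (CommRingCat.of Γ(T, ⊤))) b • φ.hom.hom x
        rw [hover, toGlobal_isoSpec]
      left_inv := fun x => by
        exact congrArg (fun ψ => ψ.hom x) φ.hom_inv_id
      right_inv := fun y => by
        exact congrArg (fun ψ => ψ.hom y) φ.inv_hom_id }
  haveI : Module.Finite Γ(T, ⊤) Γ(N, ⊤) := Module.Finite.equiv L.symm
  haveI : Module.Projective Γ(T, ⊤) Γ(N, ⊤) := Module.Projective.of_equiv L.symm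
  have hU := isAffineOpen_top T
  haveI : Module.Finite Γ(T, ⊤) ((ΓUF hU).obj N) := Module.Finite.equiv (ΓUEquiv hU N)
  haveI : Module.Projective Γ(T, ⊤) ((ΓUF hU).obj N) := Module.Projective.of_equiv (ΓUEquiv hU N)
  haveI : Module.FinitePresentation Γ(T, ⊤) ((ΓUF hU).obj N) :=
    Module.finitePresentation_of_projective _ _
  haveI : Module.Flat Γ(T, ⊤) ((ΓUF hU).obj N) := inferInstance
  intro x
  obtain ⟨D, m, hxD, -, hiso⟩ := exists_restrict_iso_freeMod N hU x trivial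
  exact ⟨D, m, hxD, hiso⟩

end AffineBase

section Opens

variable {A : Type u} [CommRing A] [IsNoetherianRing A] {X₀ : Scheme.{u}}
  [X₀.Over (Spec (CommRingCat.of A))]
  [IsSeparated (X₀ ↘ Spec (CommRingCat.of A))] [CompactSpace X₀]
  {X S : Scheme.{u}} {f : X ⟶ S} [QuasiCompact f] [QuasiSeparated f] {V₁ : S.Opens}
  {g : (V₁ : Scheme.{u}) ⟶ Spec (CommRingCat.of A)}
  {g' : ((f ⁻¹ᵁ V₁ : X.Opens) : Scheme.{u}) ⟶ X₀}
  (sq : IsPullback g' (f ∣_ V₁) (X₀ ↘ Spec (CommRingCat.of A)) g)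
  (F₀ : X₀.Modules) [F₀.IsQuasicoherent] {F : X.Modules} [F.IsQuasicoherent]
  (ε : (Scheme.Modules.pullback g').obj F₀ ≅ F.restrict (f ⁻¹ᵁ V₁).ι)
  (Q : ChainComplex (ModuleCat.{u} A) ℤ)
  (hQ : ∀ i, Module.Finite A (Q.X i) ∧ Module.Flat A (Q.X i)) (k : ℤ) (p : ℕ)
  (e : CohIII.TFun Q k ⋙ forget₂ (ModuleCat.{u} A) AddCommGrpCat.{u} ≅
    CohIII.tensorAFunctor A F₀ ⋙ CohIII.HAb X₀ p)
  [HasInjectiveResolutions X.Modules]
  {V : S.Opens} (hV : IsAffineOpen V) (hVV₁ : V ≤ V₁) (a : A)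
  (hVa : ∀ z : ↥(V₁ : Scheme.{u}), V₁.ι z ∈ V → g z ∈ PrimeSpectrum.basicOpen a)

include sq ε hQ e hV hVV₁ hVa in
/-- common part: the cohomology over an affine open `V ≤ V₁` mapping into `D(a)` -/
theorem exists_linearEquiv_opens :
    haveI : IsAffine (V : Scheme.{u}) := hV
    ∃ (_ : Algebra A Γ((V : Scheme.{u}), ⊤))
      (_ : ((f ⁻¹ᵁ V : X.Opens) : Scheme.{u}).Over (Spec (CommRingCat.of Γ((V : Scheme.{u}), ⊤)))),
      (((f ⁻¹ᵁ V : X.Opens) : Scheme.{u}) ↘ Spec (CommRingCat.of Γ((V : Scheme.{u}), ⊤))) =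
          (f ∣_ V) ≫ (V : Scheme.{u}).isoSpec.hom ∧
        IsUnit (algebraMap A Γ((V : Scheme.{u}), ⊤) a) ∧
        Nonempty (Coh.HH ((f ⁻¹ᵁ V : X.Opens) : Scheme.{u}) (F.restrict (f ⁻¹ᵁ V).ι) p
          ≃ₗ[Γ((V : Scheme.{u}), ⊤)]
          (CohIII.bcCx (algebraMap A Γ((V : Scheme.{u}), ⊤)) Q).homology k) := by
  haveI : IsAffine (V : Scheme.{u}) := hV
  let j₁ : Spec (CommRingCat.of Γ((V : Scheme.{u}), ⊤)) ⟶ (V₁ : Scheme.{u}) :=
    (V : Scheme.{u}).isoSpec.inv ≫ S.homOfLE hVV₁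
  have hj₁ : j₁ ≫ V₁.ι = (V : Scheme.{u}).isoSpec.inv ≫ V.ι := by
    rw [Category.assoc, Scheme.homOfLE_ι]
  letI alg : Algebra A Γ((V : Scheme.{u}), ⊤) := (Spec.preimage (j₁ ≫ g)).hom.toAlgebra
  have hj : Spec.map (CommRingCat.ofHom (algebraMap A Γ((V : Scheme.{u}), ⊤))) = j₁ ≫ g :=
    Spec.map_preimage _
  letI ov : ((f ⁻¹ᵁ V : X.Opens) : Scheme.{u}).Over
      (Spec (CommRingCat.of Γ((V : Scheme.{u}), ⊤))) := ⟨(f ∣_ V) ≫ (V : Scheme.{u}).isoSpec.hom⟩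
  have hP : IsPullback (f ⁻¹ᵁ V).ι
      (((f ⁻¹ᵁ V : X.Opens) : Scheme.{u}) ↘ Spec (CommRingCat.of Γ((V : Scheme.{u}), ⊤))) f
      (j₁ ≫ V₁.ι) := by
    rw [hj₁]
    have sq2 : IsPullback (𝟙 ((f ⁻¹ᵁ V : X.Opens) : Scheme.{u}))
        ((f ∣_ V) ≫ (V : Scheme.{u}).isoSpec.hom) (f ∣_ V) (V : Scheme.{u}).isoSpec.inv :=
      IsPullback.of_horiz_isIso ⟨by simp⟩
    have := sq2.paste_horiz (isPullback_morphismRestrict f V).flip
    rw [Category.id_comp] at this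
    exact this
  obtain ⟨l⟩ := nonempty_HH_linearEquiv_of_localModel sq F₀ ε j₁ hj (f ⁻¹ᵁ V).ι hP Q k p e
  refine ⟨alg, ov, rfl, ?_, ⟨(HHLinEquiv
    ((Scheme.Modules.restrictFunctorIsoPullback (f ⁻¹ᵁ V).ι).app F) p) ≪≫ₗ l⟩⟩
  refine isUnit_algebraMap_of_forall_mem_basicOpen a (fun y => ?_)
  rw [hj, Scheme.Hom.comp_apply]
  apply hVa
  have h1 : V₁.ι (j₁ y) = V.ι ((V : Scheme.{u}).isoSpec.inv y) := by
    rw [← Scheme.Hom.comp_apply, hj₁, Scheme.Hom.comp_apply]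
  rw [h1]
  exact ((V : Scheme.{u}).isoSpec.inv y).2

end Opens

end Groth.Agent.Lib.R2H2.LocalCBC
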