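import Mathlib
import Groth.Prelude
import Groth.Agent.Lib.R2H2EpsLin
import Groth.Agent.Lib.R2H2BcSect
import Groth.Agent.Lib.R2H2CoreBC
import Groth.Agent.Lib.R2H2LocalCBC2
set_option backward.isDefEq.respectTransparency.types false
set_option autoImplicit false
set_option linter.unusedSectionVars false
set_option linter.style.haveILetI false
universe u
open CategoryTheory AlgebraicGeometry TopologicalSpace Opposite Abelian
open AlgebraicGeometry.Scheme.Modules CohCmp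

noncomputable section

namespace Groth.Agent.Lib.R2H2.BcLocal

open Groth.Agent.Lib.R2H2.EpsBij Groth.Agent.Lib.R2H2.EpsLin Groth.Agent.Lib.R2H2.BcSect

section Mod

variable {X' S' : Scheme.{u}} (f' : X' ⟶ S') (W' : S'.Opens)

/-- the ring map `Γ(S', W') → Γ(f'⁻¹W', O)` -/
def rTopHom : Γ(S', W') →+* Coh.Γtop ((f' ⁻¹ᵁ W' : X'.Opens) : Scheme.{u}) :=
  ((f' ⁻¹ᵁ W').topIso.inv.hom).comp (f'.app W').hom

lemma rTopHom_apply (r : Γ(S', W')) : rTopHom f' W' r = rTop f' W' r := rfl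

/-- the cohomology over `f'⁻¹W'` as a module over `Γ(S', W')` -/
abbrev modOn (M : X'.Modules) (q : ℕ) : Module Γ(S', W') (Coh.HHon X' M (f' ⁻¹ᵁ W') q) :=
  Module.compHom _ (rTopHom f' W')

end Mod

section BL

variable {X S S' X' : Scheme.{u}} {f : X ⟶ S} {g : S' ⟶ S} {f' : X' ⟶ S'} {g' : X' ⟶ X}
  {w : g' ≫ f = f' ≫ g} [HasInjectiveResolutions X.Modules] [HasInjectiveResolutions X'.Modules]
  {Δ : RDer.DerivedLES (pushforward f)} {Δ' : RDer.DerivedLES (pushforward f')}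
  {E : SectCmp f Δ} {E' : SectCmp f' Δ'} (B : GenBC f g f' g' w E E')
  [QuasiCompact f] [QuasiSeparated f] [QuasiCompact f'] [QuasiSeparated f']
  (F : X.Modules) [F.IsQuasicoherent] (p : ℕ) {W : S.Opens} (hW : IsAffineOpen W)
  (hW' : IsAffineOpen (g ⁻¹ᵁ W))

/-- the comparison map over `W'`, as a linear equivalence -/
def epsLin (W' : S'.Opens) (hW' : IsAffineOpen W') (M : X'.Modules) [M.IsQuasicoherent] (q : ℕ) :
    letI := modOn f' W' M q
    Coh.HHon X' M (f' ⁻¹ᵁ W') q ≃ₗ[Γ(S', W')] Γ((Coh.Rpush f' q).obj M, W') :=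
  letI := modOn f' W' M q
  LinearEquiv.ofBijective
    { toFun := fun x => E'.ε W' M q x
      map_add' := fun x y => map_add _ x y
      map_smul' := fun r x => by
        change E'.ε W' M q (rTop f' W' r • x) = r • E'.ε W' M q x
        exact eps_smul f' E' W' q M r x }
    (eps_bijective f' E' W' hW' M q)

include hW hW' in
theorem surjective_bc_app_iff :
    letI := modOn f' (g ⁻¹ᵁ W) ((pullback g').obj F) p
    Function.Surjective ((B.bc p F).app (g ⁻¹ᵁ W)) ↔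
      Submodule.span Γ(S', g ⁻¹ᵁ W) (Set.range (CohPull.pullOn g' (f ⁻¹ᵁ W) (f' ⁻¹ᵁ (g ⁻¹ᵁ W))
        (sqLE f g f' g' w W) F p)) = ⊤ := by
  letI := modOn f' (g ⁻¹ᵁ W) ((pullback g').obj F) p
  haveI : ((Coh.Rpush f p).obj F).IsQuasicoherent :=
    Groth.Agent.Lib.R2H3.RpushQCohGen.isQuasicoherent_Rpush_of_qcqs f F p
  haveI : ((pullback g').obj F).IsQuasicoherent :=
    Groth.Agent.Lib.Helper2.PullbackSec.isQuasicoherent_pullback g' F
  have h1 := surjective_tr_app_iff g (B.φ p F) hW hW' le_rfl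
  refine h1.trans ?_
  set L := epsLin (E' := E') (g ⁻¹ᵁ W) hW' ((pullback g').obj F) p with hL
  have hφ : ∀ x : Coh.HHon X F (f ⁻¹ᵁ W) p,
      φres g (B.φ p F) (le_refl (g ⁻¹ᵁ W)) (E.ε W F p x) =
        L (CohPull.pullOn g' (f ⁻¹ᵁ W) (f' ⁻¹ᵁ (g ⁻¹ᵁ W)) (sqLE f g f' g' w W) F p x) := by
    intro x
    rw [φres_apply]
    have h2 := B.compat W F p x
    have h3 : (homOfLE (le_refl (g ⁻¹ᵁ W))).op = 𝟙 (op (g ⁻¹ᵁ W)) := rfl
    rw [h3, CategoryTheory.Functor.map_id]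
    exact h2
  have hr : Set.range (φres g (B.φ p F) (le_refl (g ⁻¹ᵁ W))) =
      L '' (Set.range (CohPull.pullOn g' (f ⁻¹ᵁ W) (f' ⁻¹ᵁ (g ⁻¹ᵁ W)) (sqLE f g f' g' w W) F p)) := by
    ext y
    constructor
    · rintro ⟨n, rfl⟩
      obtain ⟨x, rfl⟩ := (eps_bijective f E W hW F p).2 n
      refine ⟨_, ⟨x, rfl⟩, ?_⟩
      exact (hφ x).symm
    · rintro ⟨_, ⟨x, rfl⟩, rfl⟩
      exact ⟨E.ε W F p x, hφ x⟩
  rw [hr]
  have h3 := Submodule.map_span L.toLinearMap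
    (Set.range (CohPull.pullOn g' (f ⁻¹ᵁ W) (f' ⁻¹ᵁ (g ⁻¹ᵁ W)) (sqLE f g f' g' w W) F p))
  have h4 : (⇑L '' Set.range (CohPull.pullOn g' (f ⁻¹ᵁ W) (f' ⁻¹ᵁ (g ⁻¹ᵁ W)) (sqLE f g f' g' w W) F p)) =
      (⇑L.toLinearMap '' Set.range (CohPull.pullOn g' (f ⁻¹ᵁ W) (f' ⁻¹ᵁ (g ⁻¹ᵁ W))
        (sqLE f g f' g' w W) F p)) := rfl
  rw [h4, ← h3]
  exact Submodule.map_eq_top_iff (e := L)

end BL

section Gen

open Pointwise

variable {Z : Scheme.{u}}

/-- the classes `T` generate the cohomology group under the scalars `P` -/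
def GenS {M : Z.Modules} {q : ℕ} (P : Set (Coh.Γtop Z)) (T : Set (Coh.HH Z M q)) : Prop :=
  ∀ z : Coh.HH Z M q, z ∈ AddSubmonoid.closure {y | ∃ a ∈ P, ∃ t ∈ T, y = a • t}

lemma span_eq_top_iff_genS {B : Type u} [CommRing B] (ρ : B →+* Coh.Γtop Z) {M : Z.Modules} {q : ℕ}
    (T : Set (Coh.HH Z M q)) :
    letI : Module B (Coh.HH Z M q) := Module.compHom _ ρ
    Submodule.span B T = ⊤ ↔ GenS (Set.range ρ) T := by
  letI : Module B (Coh.HH Z M q) := Module.compHom _ ρ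
  have h1 : {y : Coh.HH Z M q | ∃ a ∈ Set.range ρ, ∃ t ∈ T, y = a • t} =
      (Set.univ : Set B) • T := by
    ext y
    constructor
    · rintro ⟨_, ⟨b, rfl⟩, t, ht, rfl⟩
      exact ⟨b, trivial, t, ht, rfl⟩
    · rintro ⟨b, -, t, ht, rfl⟩
      exact ⟨ρ b, ⟨b, rfl⟩, t, ht, rfl⟩
  unfold GenS
  rw [h1, ← Submodule.span_eq_closure, Submodule.eq_top_iff']
  rfl

lemma forall_mem_closure_image_iff {N N' : Type*} [AddCommMonoid N] [AddCommMonoid N'] (e : N ≃+ N')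
    (S : Set N) :
    (∀ z' : N', z' ∈ AddSubmonoid.closure (e '' S)) ↔ ∀ z : N, z ∈ AddSubmonoid.closure S := by
  have h : AddSubmonoid.closure (e '' S) = (AddSubmonoid.closure S).map e.toAddMonoidHom :=
    (AddMonoidHom.map_mclosure e.toAddMonoidHom S).symm
  rw [h]
  constructor
  · intro hz z
    obtain ⟨y, hy, hyz⟩ := hz (e z)
    have : y = z := e.injective hyz
    rwa [this] at hy
  · intro hz z'
    exact ⟨e.symm z', hz _, e.apply_symm_apply z'⟩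

/-- the additive equivalence on cohomology induced by an isomorphism of modules -/
def mapHEquiv {M M' : Z.Modules} (v : M ≅ M') (q : ℕ) : Coh.HH Z M q ≃+ Coh.HH Z M' q where
  toFun := CohPull.mapH v.hom q
  invFun := CohPull.mapH v.inv q
  left_inv x := by
    have := Groth.Agent.Lib.R2H2.HHLin.HmapL_comp v.hom v.inv q x
    rw [v.hom_inv_id, Groth.Agent.Lib.R2H2.HHLin.HmapL_id] at this
    exact this.symm
  right_inv x := by
    have := Groth.Agent.Lib.R2H2.HHLin.HmapL_comp v.inv v.hom q x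
    rw [v.inv_hom_id, Groth.Agent.Lib.R2H2.HHLin.HmapL_id] at this
    exact this.symm
  map_add' := map_add _

lemma genS_map_iff {M M' : Z.Modules} (v : M ≅ M') {q : ℕ} (P : Set (Coh.Γtop Z))
    (T : Set (Coh.HH Z M q)) :
    GenS P (CohPull.mapH v.hom q '' T) ↔ GenS P T := by
  unfold GenS
  rw [← forall_mem_closure_image_iff (mapHEquiv v q)]
  have h : {y : Coh.HH Z M' q | ∃ a ∈ P, ∃ t ∈ CohPull.mapH v.hom q '' T, y = a • t} =
      mapHEquiv v q '' {y | ∃ a ∈ P, ∃ t ∈ T, y = a • t} := by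
    ext y
    constructor
    · rintro ⟨a, ha, _, ⟨t, ht, rfl⟩, rfl⟩
      exact ⟨a • t, ⟨a, ha, t, ht, rfl⟩,
        (Groth.Agent.Lib.R2H2.HHLin.HmapL v.hom q).map_smul a t⟩
    · rintro ⟨_, ⟨a, ha, t, ht, rfl⟩, rfl⟩
      exact ⟨a, ha, _, ⟨t, ht, rfl⟩, (Groth.Agent.Lib.R2H2.HHLin.HmapL v.hom q).map_smul a t⟩
  rw [h]

end Gen

section Geo

variable {X S S' X' : Scheme.{u}} {f : X ⟶ S} {g : S' ⟶ S} {f' : X' ⟶ S'} {g' : X' ⟶ X}
  (hpb : IsPullback g' f' f g) {W : S.Opens} {W' : S'.Opens} (hle : W' ≤ g ⁻¹ᵁ W)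

include hpb hle in
lemma preimage_le : f' ⁻¹ᵁ W' ≤ g' ⁻¹ᵁ (f ⁻¹ᵁ W) := by
  rw [← Scheme.Hom.comp_preimage, hpb.w, Scheme.Hom.comp_preimage]
  exact f'.preimage_mono hle

/-- the restriction of a cartesian square to opens of the bases is cartesian -/
theorem isPullback_resLE :
    IsPullback (g'.resLE (f ⁻¹ᵁ W) (f' ⁻¹ᵁ W') (preimage_le hpb hle)) (f' ∣_ W') (f ∣_ W)
      (g.resLE W W' hle) := by
  have hR := (isPullback_morphismRestrict f W).flip
  have hb := (isPullback_morphismRestrict f' W').flip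
  have t0 := hb.paste_horiz hpb
  have t : IsPullback (g'.resLE (f ⁻¹ᵁ W) (f' ⁻¹ᵁ W') (preimage_le hpb hle) ≫ (f ⁻¹ᵁ W).ι)
      (f' ∣_ W') f (g.resLE W W' hle ≫ W.ι) := by
    rw [Scheme.Hom.resLE_comp_ι, Scheme.Hom.resLE_comp_ι]
    exact t0
  refine IsPullback.of_right t ?_ hR
  rw [← cancel_mono W.ι, Category.assoc, Category.assoc, Scheme.Hom.resLE_comp_ι,
    morphismRestrict_ι, Scheme.Hom.resLE_comp_ι_assoc, hpb.w, morphismRestrict_ι_assoc]

end Geo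

section SpecForm

variable {X S S' X' : Scheme.{u}} {f : X ⟶ S} {g : S' ⟶ S} {f' : X' ⟶ S'} {g' : X' ⟶ X}
  (hpb : IsPullback g' f' f g) {W : S.Opens} {W' : S'.Opens} (hle : W' ≤ g ⁻¹ᵁ W)
  [IsAffine (W : Scheme.{u})] [IsAffine (W' : Scheme.{u})]

/-- `f⁻¹W` as a scheme over `Spec Γ(W, O)` -/
abbrev overW (f : X ⟶ S) (W : S.Opens) [IsAffine (W : Scheme.{u})] :
    ((f ⁻¹ᵁ W : X.Opens) : Scheme.{u}).Over (Spec (CommRingCat.of Γ((W : Scheme.{u}), ⊤))) :=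
  ⟨f ∣_ W ≫ (W : Scheme.{u}).isoSpec.hom⟩

/-- `Γ(W', O)` as an algebra over `Γ(W, O)` -/
abbrev algW (g : S' ⟶ S) {W : S.Opens} {W' : S'.Opens} (hle : W' ≤ g ⁻¹ᵁ W) :
    Algebra Γ((W : Scheme.{u}), ⊤) Γ((W' : Scheme.{u}), ⊤) :=
  ((g.resLE W W' hle).appTop).hom.toAlgebra

theorem isPullback_spec :
    letI := overW f W
    letI := overW f' W'
    letI := algW g hle
    IsPullback (g'.resLE (f ⁻¹ᵁ W) (f' ⁻¹ᵁ W') (preimage_le hpb hle))
      (((f' ⁻¹ᵁ W' : X'.Opens) : Scheme.{u}) ↘ Spec (CommRingCat.of Γ((W' : Scheme.{u}), ⊤)))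
      (((f ⁻¹ᵁ W : X.Opens) : Scheme.{u}) ↘ Spec (CommRingCat.of Γ((W : Scheme.{u}), ⊤)))
      (Spec.map (CommRingCat.ofHom (algebraMap Γ((W : Scheme.{u}), ⊤) Γ((W' : Scheme.{u}), ⊤)))) := by
  have h1 := isPullback_resLE hpb hle
  have h2 : IsPullback (g.resLE W W' hle) (W' : Scheme.{u}).isoSpec.hom (W : Scheme.{u}).isoSpec.hom
      (Spec.map (g.resLE W W' hle).appTop) :=
    IsPullback.of_vert_isIso ⟨(Scheme.isoSpec_hom_naturality (g.resLE W W' hle)).symm⟩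
  exact h1.paste_vert h2

theorem topIso_inv_appTop {X' S' : Scheme.{u}} (f' : X' ⟶ S') (W' : S'.Opens) :
    W'.topIso.inv ≫ (f' ∣_ W').appTop = f'.app W' ≫ (f' ⁻¹ᵁ W').topIso.inv := by
  simp only [Scheme.Opens.topIso_inv, Scheme.Hom.appTop, morphismRestrict_app']
  erw [Scheme.Hom.map_appLE]
  rw [Scheme.Hom.app_eq_appLE]
  erw [Scheme.Hom.appLE_map]
  rfl

/-- the two descriptions of the scalars coming from the base -/
theorem range_rTopHom (f' : X' ⟶ S') (W' : S'.Opens) [IsAffine (W' : Scheme.{u})] :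
    letI := overW f' W'
    Set.range (rTopHom f' W') =
      Set.range (Coh.toGlobal (((f' ⁻¹ᵁ W' : X'.Opens) : Scheme.{u}) ↘
        Spec (CommRingCat.of Γ((W' : Scheme.{u}), ⊤)))) := by
  letI := overW f' W'
  have h1 : ∀ b : Γ((W' : Scheme.{u}), ⊤),
      Coh.toGlobal (((f' ⁻¹ᵁ W' : X'.Opens) : Scheme.{u}) ↘
        Spec (CommRingCat.of Γ((W' : Scheme.{u}), ⊤))) b = (f' ∣_ W').appTop.hom b := fun b =>
    (Groth.Agent.Lib.R2H2.LocalCBC.toGlobal_isoSpec (f' ∣_ W') b).trans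
      (Groth.Agent.Lib.R2H2.GammaDer.topHom_apply _ _)
  have h2 : ∀ r : Γ(S', W'), rTopHom f' W' r = (f' ∣_ W').appTop.hom (W'.topIso.inv.hom r) := fun r =>
    (congrArg (fun φ => φ.hom r) (topIso_inv_appTop f' W')).symm
  ext a
  constructor
  · rintro ⟨r, rfl⟩
    exact ⟨W'.topIso.inv.hom r, (h1 _).trans (h2 r).symm⟩
  · rintro ⟨b, rfl⟩
    refine ⟨W'.topIso.hom.hom b, ?_⟩
    rw [h2, h1]
    congr 1
    exact congrArg (fun φ => φ.hom b) W'.topIso.hom_inv_id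

end SpecForm

section GenF

open Groth.Agent.Lib.R2H2.ABC Groth.Agent.Lib.Helper16.TensorCmp

variable (A B : Type u) [CommRing A] [CommRing B] [Algebra A B]

/-- `T(B)` is generated, under the action of `B`, by the image of `T(A)` -/
def GenF (T : ModuleCat.{u} A ⥤ AddCommGrpCat.{u}) : Prop :=
  ∀ y : T.obj (BA A B), y ∈ AddSubmonoid.closure
    {y | ∃ (b : B) (x : T.obj (ModuleCat.of A A)),
      y = (T.map (mulB A B b)).hom ((T.map (θ (idB A B 1))).hom x)}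

lemma genF_iso {T₁ T₂ : ModuleCat.{u} A ⥤ AddCommGrpCat.{u}} (e : T₁ ≅ T₂) :
    GenF A B T₁ ↔ GenF A B T₂ := by
  unfold GenF
  let ε := (e.app (BA A B)).addCommGroupIsoToAddEquiv
  rw [← forall_mem_closure_image_iff ε]
  have h : ε '' {y | ∃ (b : B) (x : T₁.obj (ModuleCat.of A A)),
      y = (T₁.map (mulB A B b)).hom ((T₁.map (θ (idB A B 1))).hom x)} =
      {y | ∃ (b : B) (x : T₂.obj (ModuleCat.of A A)),
      y = (T₂.map (mulB A B b)).hom ((T₂.map (θ (idB A B 1))).hom x)} := by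
    have hn : ∀ {M N : ModuleCat.{u} A} (u : M ⟶ N) (x : T₁.obj M),
        (e.hom.app N).hom ((T₁.map u).hom x) = (T₂.map u).hom ((e.hom.app M).hom x) := fun u x =>
      congrArg (fun φ => φ.hom x) (e.hom.naturality u)
    ext y
    constructor
    · rintro ⟨_, ⟨b, x, rfl⟩, rfl⟩
      refine ⟨b, (e.hom.app _).hom x, ?_⟩
      change (e.hom.app _).hom _ = _
      rw [hn, hn]
    · rintro ⟨b, x, rfl⟩
      refine ⟨_, ⟨b, (e.inv.app _).hom x, rfl⟩, ?_⟩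
      change (e.hom.app _).hom _ = _
      rw [hn, hn]
      have : (e.hom.app (ModuleCat.of A A)).hom ((e.inv.app (ModuleCat.of A A)).hom x) = x :=
        congrArg (fun φ => φ.hom x) (e.inv_hom_id_app (ModuleCat.of A A))
      rw [this]
  rw [h]

end GenF

section Core

open Groth.Agent.Lib.R2H2.ABC Groth.Agent.Lib.Helper16.TensorCmp Groth.Agent.Lib.R2H2.CoreBC
  Groth.Agent.Lib.R2H2.PsiA

variable {A B : Type u} [CommRing A] [CommRing B] [Algebra A B] {X X' : Scheme.{u}}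
  [X.Over (Spec (CommRingCat.of A))] [X'.Over (Spec (CommRingCat.of B))] (g' : X' ⟶ X)
  (h : IsPullback g' (X' ↘ Spec (CommRingCat.of B)) (X ↘ Spec (CommRingCat.of A))
    (Spec.map (CommRingCat.ofHom (algebraMap A B))))
  (F : X.Modules) [F.IsQuasicoherent]

include h in
theorem genS_pullMod_iff_genF (p : ℕ) :
    GenS (Set.range (Coh.toGlobal (X' ↘ Spec (CommRingCat.of B))))
        (Set.range (CohPull.pullMod g' F p)) ↔
      GenF A B (CohIII.tensorAFunctor A F ⋙ CohIII.HAb X p) := by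
  obtain ⟨ψ, hψ1, hψ2⟩ := core g' h F p
  unfold GenS GenF
  have key := forall_mem_closure_image_iff ψ
    {y | ∃ (b : B) (x : (CohIII.tensorAFunctor A F ⋙ CohIII.HAb X p).obj (ModuleCat.of A A)),
        y = ((CohIII.tensorAFunctor A F ⋙ CohIII.HAb X p).map (mulB A B b)).hom
          (((CohIII.tensorAFunctor A F ⋙ CohIII.HAb X p).map (θ (idB A B 1))).hom x)}
  refine Iff.trans ?_ key
  have hset : {y : Coh.HH X' (F' g' F) p | ∃ a ∈ Set.range (Coh.toGlobal (X' ↘ Spec (CommRingCat.of B))),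
      ∃ t ∈ Set.range (CohPull.pullMod g' F p), y = a • t} =
      ψ '' {y | ∃ (b : B) (x : (CohIII.tensorAFunctor A F ⋙ CohIII.HAb X p).obj (ModuleCat.of A A)),
        y = ((CohIII.tensorAFunctor A F ⋙ CohIII.HAb X p).map (mulB A B b)).hom
          (((CohIII.tensorAFunctor A F ⋙ CohIII.HAb X p).map (θ (idB A B 1))).hom x)} := by
    have hto : ∀ x₀ : Coh.HH X F p, CohPull.mapH (toPsiAB (A := A) (B := B) F) p x₀ =
        CohPull.mapH ((CohIII.tensorAFunctor A F).map (θ (idB A B 1))) p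
          (CohPull.mapH (objUnitIso A F).inv p x₀) := by
      intro x₀
      unfold toPsiAB
      exact Groth.Agent.Lib.R2H2.HHLin.HmapL_comp _ _ p x₀
    ext y
    constructor
    · rintro ⟨_, ⟨b, rfl⟩, _, ⟨x₀, rfl⟩, rfl⟩
      refine ⟨_, ⟨b, CohPull.mapH (objUnitIso A F).inv p x₀, rfl⟩, ?_⟩
      have h1 := hψ2 b (CohPull.mapH (toPsiAB (A := A) (B := B) F) p x₀)
      rw [hψ1, hto] at h1
      exact h1
    · rintro ⟨_, ⟨b, x, rfl⟩, rfl⟩
      refine ⟨_, ⟨b, rfl⟩, _, ⟨CohPull.mapH (objUnitIso A F).hom p x, rfl⟩, ?_⟩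
      have h1 := hψ2 b (CohPull.mapH (toPsiAB (A := A) (B := B) F) p
        (CohPull.mapH (objUnitIso A F).hom p x))
      rw [hψ1, hto] at h1
      have h2 : CohPull.mapH (objUnitIso A F).inv p (CohPull.mapH (objUnitIso A F).hom p x) = x :=
        (mapHEquiv (objUnitIso A F) p).symm_apply_apply x
      rw [h2] at h1
      exact h1
  rw [hset]

end Core

section Main

variable {X S S' X' : Scheme.{u}} {f : X ⟶ S} {g : S' ⟶ S} {f' : X' ⟶ S'} {g' : X' ⟶ X}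
  (hpb : IsPullback g' f' f g) [HasInjectiveResolutions X.Modules]
  [HasInjectiveResolutions X'.Modules]
  {Δ : RDer.DerivedLES (pushforward f)} {Δ' : RDer.DerivedLES (pushforward f')}
  {E : SectCmp f Δ} {E' : SectCmp f' Δ'} (B : GenBC f g f' g' hpb.w E E')
  [QuasiCompact f] [QuasiSeparated f] [QuasiCompact f'] [QuasiSeparated f']
  (F : X.Modules) [F.IsQuasicoherent] (p : ℕ) (W : S.Opens)
  [IsAffine (W : Scheme.{u})] [IsAffine ((g ⁻¹ᵁ W : S'.Opens) : Scheme.{u})]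

/-- **Surjectivity of the base change map over `g⁻¹W`, in terms of the functor `T^p` of `f⁻¹W` over `Γ(W, O)`.** -/
theorem surjective_bc_app_iff_genF :
    letI := overW f W
    letI := algW g (le_refl (g ⁻¹ᵁ W))
    Function.Surjective ((B.bc p F).app (g ⁻¹ᵁ W)) ↔
      GenF Γ((W : Scheme.{u}), ⊤) Γ(((g ⁻¹ᵁ W : S'.Opens) : Scheme.{u}), ⊤)
        (CohIII.tensorAFunctor Γ((W : Scheme.{u}), ⊤) (F.restrict (f ⁻¹ᵁ W).ι) ⋙
          CohIII.HAb ((f ⁻¹ᵁ W : X.Opens) : Scheme.{u}) p) := by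
  letI := overW f W
  letI := overW f' (g ⁻¹ᵁ W)
  letI := algW g (le_refl (g ⁻¹ᵁ W))
  haveI : (F.restrict (f ⁻¹ᵁ W).ι).IsQuasicoherent :=
    Scheme.Modules.isQuasicoherent_restrictFunctor (f ⁻¹ᵁ W).ι F
  have hW : IsAffineOpen W := ‹IsAffine (W : Scheme.{u})›
  have hW' : IsAffineOpen (g ⁻¹ᵁ W) := ‹IsAffine ((g ⁻¹ᵁ W : S'.Opens) : Scheme.{u})›
  refine (surjective_bc_app_iff B F p hW hW').trans ?_
  refine (span_eq_top_iff_genS (rTopHom f' (g ⁻¹ᵁ W)) _).trans ?_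
  have hle := preimage_le hpb (le_refl (g ⁻¹ᵁ W))
  have hr : Set.range (CohPull.pullOn g' (f ⁻¹ᵁ W) (f' ⁻¹ᵁ (g ⁻¹ᵁ W)) (sqLE f g f' g' hpb.w W) F p) =
      CohPull.mapH (CohPull.pullOnIso g' (f ⁻¹ᵁ W) (f' ⁻¹ᵁ (g ⁻¹ᵁ W)) hle F).hom p ''
        Set.range (CohPull.pullMod (g'.resLE (f ⁻¹ᵁ W) (f' ⁻¹ᵁ (g ⁻¹ᵁ W)) hle)
          (F.restrict (f ⁻¹ᵁ W).ι) p) := by
    ext y
    constructor
    · rintro ⟨x, rfl⟩
      exact ⟨_, ⟨x, rfl⟩, rfl⟩
    · rintro ⟨_, ⟨x, rfl⟩, rfl⟩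
      exact ⟨x, rfl⟩
  rw [hr, genS_map_iff, range_rTopHom]
  exact genS_pullMod_iff_genF _ (isPullback_spec hpb (le_refl (g ⁻¹ᵁ W))) _ p

end Main

end Groth.Agent.Lib.R2H2.BcLocal
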