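import Mathlib
import Groth.Prelude.Def_CohCmp
import Groth.Agent.Lib.R2H2PullCalc
import Groth.Agent.Lib.Helper23SectCmpLib
set_option backward.isDefEq.respectTransparency.types false
set_option autoImplicit false
set_option linter.unusedSectionVars false
set_option linter.style.haveILetI false
universe u
open CategoryTheory CategoryTheory.Limits AlgebraicGeometry TopologicalSpace Opposite Abelian
open AlgebraicGeometry.Scheme.Modules CohCmp

noncomputable section

namespace Groth.Agent.Lib.R2H2.ResDelta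

open Groth.Agent.Lib.R2H3.PushEdge Groth.Agent.Lib.R2H2.PullCalc

section Theta

variable {X Y : Scheme.{u}} (g : X ⟶ Y)

/-- naturality of `theta : g⁻¹M ⟶ g^*M` -/
theorem theta_naturality {M N : Y.Modules} (ψ : M ⟶ N) :
    (CohPull.inv g.base).map ((SheafOfModules.toSheaf Y.ringCatSheaf).map ψ) ≫ CohPull.theta g N =
      CohPull.theta g M ≫
        (SheafOfModules.toSheaf X.ringCatSheaf).map ((Scheme.Modules.pullback g).map ψ) := by
  have h1 : (SheafOfModules.toSheaf Y.ringCatSheaf).map ψ ≫
      (SheafOfModules.toSheaf Y.ringCatSheaf).map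
        ((Scheme.Modules.pullbackPushforwardAdjunction g).unit.app N) =
      (SheafOfModules.toSheaf Y.ringCatSheaf).map
        ((Scheme.Modules.pullbackPushforwardAdjunction g).unit.app M) ≫
      (CohTop.push g.base).map
        ((SheafOfModules.toSheaf X.ringCatSheaf).map ((Scheme.Modules.pullback g).map ψ)) := by
    exact ((SheafOfModules.toSheaf Y.ringCatSheaf).map_comp _ _).symm.trans
      ((congrArg (fun φ => (SheafOfModules.toSheaf Y.ringCatSheaf).map φ)
        ((Scheme.Modules.pullbackPushforwardAdjunction g).unit.naturality ψ)).trans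
        ((SheafOfModules.toSheaf Y.ringCatSheaf).map_comp _ _))
  unfold CohPull.theta
  refine ((Adjunction.homEquiv_naturality_left_symm _ _ _).symm.trans ?_).trans
    (Adjunction.homEquiv_naturality_right_symm _ _ _)
  exact congrArg _ h1

end Theta

section PullOnNat

variable {X Y : Scheme.{u}} (g : X ⟶ Y) (U : Y.Opens) (U' : X.Opens) (h : U' ≤ g ⁻¹ᵁ U)

/-- `pullOnIso` as a natural isomorphism -/
def pullOnNatIso : restrictFunctor U.ι ⋙ Scheme.Modules.pullback (g.resLE U U' h) ≅
    Scheme.Modules.pullback g ⋙ restrictFunctor U'.ι :=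
  Functor.isoWhiskerRight (Scheme.Modules.restrictFunctorIsoPullback U.ι)
      (Scheme.Modules.pullback (g.resLE U U' h)) ≪≫
    Scheme.Modules.pullbackComp (g.resLE U U' h) U.ι ≪≫
    Scheme.Modules.pullbackCongr (Scheme.Hom.resLE_comp_ι g h) ≪≫
    (Scheme.Modules.pullbackComp U'.ι g).symm ≪≫
    Functor.isoWhiskerLeft (Scheme.Modules.pullback g)
      (Scheme.Modules.restrictFunctorIsoPullback U'.ι).symm

lemma pullOnNatIso_hom_app (F : Y.Modules) :
    (pullOnNatIso g U U' h).hom.app F = (CohPull.pullOnIso g U U' h F).hom := by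
  simp [pullOnNatIso, CohPull.pullOnIso]

/-- naturality of `pullOnIso` -/
theorem pullOnIso_hom_naturality {F G : Y.Modules} (ψ : F ⟶ G) :
    (Scheme.Modules.pullback (g.resLE U U' h)).map ((restrictFunctor U.ι).map ψ) ≫
        (CohPull.pullOnIso g U U' h G).hom =
      (CohPull.pullOnIso g U U' h F).hom ≫
        (restrictFunctor U'.ι).map ((Scheme.Modules.pullback g).map ψ) := by
  rw [← pullOnNatIso_hom_app, ← pullOnNatIso_hom_app]
  exact (pullOnNatIso g U U' h).hom.naturality ψ

end PullOnNat

section Res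

variable {X : Scheme.{u}} {U U' : X.Opens} (h : U' ≤ U)

include h in
lemma hid : U' ≤ (𝟙 X) ⁻¹ᵁ U := by rwa [Scheme.Hom.id_preimage]

/-- the inclusion `U' ⟶ U` -/
abbrev jj : (U' : Scheme.{u}) ⟶ (U : Scheme.{u}) := Scheme.Hom.resLE (𝟙 X) U U' (hid h)

/-- the comparison `j^*(M|_U) ⟶ M|_{U'}` -/
def omega (M : X.Modules) :
    (Scheme.Modules.pullback (jj h)).obj (M.restrict U.ι) ⟶ M.restrict U'.ι :=
  (CohPull.pullOnIso (𝟙 X) U U' (hid h) M).hom ≫
    (restrictFunctor U'.ι).map ((Scheme.Modules.pullbackId X).hom.app M)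

lemma omega_naturality {M N : X.Modules} (ψ : M ⟶ N) :
    (Scheme.Modules.pullback (jj h)).map ((restrictFunctor U.ι).map ψ) ≫ omega h N =
      omega h M ≫ (restrictFunctor U'.ι).map ψ := by
  unfold omega
  rw [← Category.assoc, pullOnIso_hom_naturality, Category.assoc, Category.assoc,
    ← Functor.map_comp, ← Functor.map_comp]
  congr 2
  exact (Scheme.Modules.pullbackId X).hom.naturality ψ

/-- the comparison `j⁻¹(M|_U) ⟶ M|_{U'}` of abelian sheaves -/
def tau (M : X.Modules) :
    (CohPull.inv (jj h).base).obj ((toAbOn X U).obj M) ⟶ (toAbOn X U').obj M :=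
  CohPull.theta (jj h) (M.restrict U.ι) ≫
    (SheafOfModules.toSheaf (U' : Scheme.{u}).ringCatSheaf).map (omega h M)

lemma tau_naturality {M N : X.Modules} (ψ : M ⟶ N) :
    (CohPull.inv (jj h).base).map ((toAbOn X U).map ψ) ≫ tau h N =
      tau h M ≫ (toAbOn X U').map ψ := by
  unfold tau
  have h1 := theta_naturality (jj h) ((restrictFunctor U.ι).map ψ)
  have h2 := (((SheafOfModules.toSheaf (U' : Scheme.{u}).ringCatSheaf).map_comp _ _).symm.trans
    (congrArg (fun φ => (SheafOfModules.toSheaf (U' : Scheme.{u}).ringCatSheaf).map φ)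
    (omega_naturality h ψ))).trans ((SheafOfModules.toSheaf (U' : Scheme.{u}).ringCatSheaf).map_comp _ _)
  calc (CohPull.inv (jj h).base).map ((toAbOn X U).map ψ) ≫
        CohPull.theta (jj h) (N.restrict U.ι) ≫
          (SheafOfModules.toSheaf (U' : Scheme.{u}).ringCatSheaf).map (omega h N)
      = (CohPull.theta (jj h) (M.restrict U.ι) ≫
          (SheafOfModules.toSheaf (U' : Scheme.{u}).ringCatSheaf).map
            ((Scheme.Modules.pullback (jj h)).map ((restrictFunctor U.ι).map ψ))) ≫
          (SheafOfModules.toSheaf (U' : Scheme.{u}).ringCatSheaf).map (omega h N) := by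
        rw [← Category.assoc]
        exact congrArg (fun t => t ≫ (SheafOfModules.toSheaf (U' : Scheme.{u}).ringCatSheaf).map
          (omega h N)) h1
    _ = _ := by
        rw [Category.assoc, Category.assoc]
        exact congrArg (fun t => CohPull.theta (jj h) (M.restrict U.ι) ≫ t) h2

end Res

section ResDelta

variable {X : Scheme.{u}} {U U' : X.Opens} (h : U' ≤ U)

lemma extδ_apply {Z : Scheme.{u}} {S : ShortComplex (CohTop.Ab Z)} (hS : S.ShortExact) (p : ℕ)
    (x : Sheaf.H S.X₃ p) : extδ hS p x = x.comp hS.extClass rfl := rfl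

/-- the restriction map, in terms of `Ext` -/
lemma resLE_apply (M : X.Modules) (p : ℕ) (x : Coh.HHon X M U p) :
    CohPull.resLE M h p x =
      (Ext.mk₀ (CohPull.oneTo (jj h).base)).comp
        ((x.mapExactFunctor (CohPull.inv (jj h).base)).comp (Ext.mk₀ (tau h M)) (add_zero p))
        (zero_add p) := by
  unfold CohPull.resLE CohPull.pullOn CohPull.pullMod
  simp only [AddMonoidHom.coe_comp, Function.comp_apply]
  rw [Sheaf.H.map_apply, Sheaf.H.map_apply, Sheaf.H.map_apply, pullAb_apply]
  repeat rw [Ext.comp_assoc_of_third_deg_zero]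
  rw [Ext.mk₀_comp_mk₀, Ext.mk₀_comp_mk₀]
  congr 3

/-- the morphism of short complexes `j⁻¹(S|_U) ⟶ S|_{U'}` -/
def tauSC (S : ShortComplex X.Modules) :
    ((S.map (toAbOn X U)).map (CohPull.inv (jj h).base)) ⟶ S.map (toAbOn X U') where
  τ₁ := tau h S.X₁
  τ₂ := tau h S.X₂
  τ₃ := tau h S.X₃
  comm₁₂ := (tau_naturality h S.f).symm
  comm₂₃ := (tau_naturality h S.g).symm

/-- **restriction commutes with the connecting homomorphisms** -/
theorem resLE_extδ (S : ShortComplex X.Modules) (hA : (S.map (toAbOn X U)).ShortExact)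
    (hA' : (S.map (toAbOn X U')).ShortExact) (p : ℕ) (x : Coh.HHon X S.X₃ U p) :
    CohPull.resLE S.X₁ h (p + 1) (extδ hA p x) = extδ hA' p (CohPull.resLE S.X₃ h p x) := by
  rw [resLE_apply, extδ_apply, extδ_apply, resLE_apply]
  exact generic_extClass (CohPull.inv (jj h).base) hA hA' (tauSC h S)
    (Ext.mk₀ (CohPull.oneTo (jj h).base)) p x

end ResDelta

end Groth.Agent.Lib.R2H2.ResDelta
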