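import Mathlib
import Groth.Prelude.Def_CohCmp
import Groth.Agent.Lib.R2H3PullUnit
import Groth.Agent.Lib.R2H2ResDelta
set_option backward.isDefEq.respectTransparency.types false
set_option autoImplicit false
set_option linter.unusedSectionVars false
set_option linter.style.haveILetI false
universe u
open CategoryTheory CategoryTheory.Limits AlgebraicGeometry TopologicalSpace Opposite
open AlgebraicGeometry.Scheme.Modules

noncomputable section

namespace Groth.Agent.Lib.R2H2.PullOnUnit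

open Groth.Agent.Helper13PullbackUnit Groth.Agent.Lib.R2H3.PullUnit

section Res

variable {T : Scheme.{u}} (M : T.Modules)

lemma res_res {A B C : T.Opens} (h₁ : A ≤ B) (h₂ : B ≤ C) (m : Γ(M, C)) :
    M.presheaf.map (homOfLE h₁).op (M.presheaf.map (homOfLE h₂).op m) =
      M.presheaf.map (homOfLE (h₁.trans h₂)).op m := by
  rw [← ConcreteCategory.comp_apply, ← Functor.map_comp]
  rfl

lemma res_rfl {A : T.Opens} (h : A ≤ A) (m : Γ(M, A)) : M.presheaf.map (homOfLE h).op m = m := by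
  have h0 : (homOfLE h).op = 𝟙 (op A) := rfl
  rw [h0, M.presheaf.map_id]
  rfl

end Res

section OpenImm

variable {Q Y : Scheme.{u}} (B : Q ⟶ Y) [IsOpenImmersion B] (F : Y.Modules)

lemma le_preimage_image (V : Q.Opens) : V ≤ B ⁻¹ᵁ (B ''ᵁ V) := by
  rw [Scheme.Hom.preimage_image_eq]

/-- the comparison `F|_B ≅ B^*F` on sections: a section goes to its pullback -/
theorem restrictFunctorIsoPullback_hom_app (V : Q.Opens) (n : Γ(F.restrict B, V)) :
    ((restrictFunctorIsoPullback B).hom.app F).app V n =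
      unitSec B F (le_preimage_image B V) (show Γ(F, B ''ᵁ V) from n) := by
  have key : (Scheme.Modules.pullbackPushforwardAdjunction B).unit.app F =
      (Scheme.Modules.restrictAdjunction B).unit.app F ≫
        (Scheme.Modules.pushforward B).map
          ((Scheme.Modules.restrictFunctorIsoPullback B).hom.app F) :=
    ((Scheme.Modules.restrictAdjunction B).unit_leftAdjointUniq_hom_app
      (Scheme.Modules.pullbackPushforwardAdjunction B) F).symm
  rw [unitSec_apply, key]
  change _ = ((Scheme.Modules.pullback B).obj F).presheaf.map (homOfLE (le_preimage_image B V)).op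
    (((restrictFunctorIsoPullback B).hom.app F).app (B ⁻¹ᵁ (B ''ᵁ V))
      (F.presheaf.map (homOfLE (B.image_preimage_le (B ''ᵁ V))).op (show Γ(F, B ''ᵁ V) from n)))
  rw [← app_res]
  congr 1
  change n = F.presheaf.map (homOfLE (B.image_mono (le_preimage_image B V))).op
    (F.presheaf.map (homOfLE (B.image_preimage_le (B ''ᵁ V))).op (show Γ(F, B ''ᵁ V) from n))
  rw [res_res, res_rfl]

end OpenImm

section IsoApp

lemma inv_app_eq_of_hom_app_eq {T : Scheme.{u}} {M N : T.Modules} (e : M ≅ N) (W : T.Opens)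
    (a : Γ(M, W)) (b : Γ(N, W)) (h : e.hom.app W a = b) : e.inv.app W b = a := by
  subst h
  exact congrArg (fun ψ => Scheme.Modules.Hom.app ψ W a) e.hom_inv_id

end IsoApp

section UnitRes

variable {X Z : Scheme.{u}} (p : X ⟶ Z) (F : Z.Modules)

lemma unitSec_res {V : Z.Opens} {A A' : X.Opens} (hle : A ≤ p ⁻¹ᵁ V) (h' : A' ≤ A) (x : Γ(F, V)) :
    ((Scheme.Modules.pullback p).obj F).presheaf.map (homOfLE h').op (unitSec p F hle x) =
      unitSec p F (h'.trans hle) x := by
  rw [unitSec_apply, unitSec_apply, res_res]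

lemma unitSec_of_res {V V₂ : Z.Opens} (hV : V ≤ V₂) {A : X.Opens} (hle : A ≤ p ⁻¹ᵁ V)
    (x : Γ(F, V₂)) :
    unitSec p F hle (F.presheaf.map (homOfLE hV).op x) =
      unitSec p F (hle.trans (p.preimage_mono hV)) x := by
  rw [unitSec_apply, unitSec_apply]
  have h1 := app_res ((Scheme.Modules.pullbackPushforwardAdjunction p).unit.app F) hV x
  exact (congrArg (fun t => ((Scheme.Modules.pullback p).obj F).presheaf.map (homOfLE hle).op t)
    h1).trans (res_res ((Scheme.Modules.pullback p).obj F) hle (p.preimage_mono hV) _)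

end UnitRes

section K

variable {X Y : Scheme.{u}} (g : X ⟶ Y) (U : Y.Opens) (U' : X.Opens) (h : U' ≤ g ⁻¹ᵁ U)
  (F : Y.Modules)

include h in
lemma image_preimage_resLE_le (V : (U : Scheme.{u}).Opens) :
    U'.ι ''ᵁ ((g.resLE U U' h) ⁻¹ᵁ V) ≤ g ⁻¹ᵁ (U.ι ''ᵁ V) := by
  rintro _ ⟨y, hy, rfl⟩
  refine ⟨(g.resLE U U' h) y, hy, ?_⟩
  have := congrArg (fun φ => φ y) (Scheme.Hom.resLE_comp_ι g h)
  simp only [Scheme.Hom.comp_apply] at this
  exact this

/-- **`pullOnIso` sends the pullback of a section along `U' ⟶ U` to its pullback along `g`** -/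
theorem pullOnIso_hom_unit (V : (U : Scheme.{u}).Opens) (n : Γ(F.restrict U.ι, V)) :
    (CohPull.pullOnIso g U U' h F).hom.app ((g.resLE U U' h) ⁻¹ᵁ V)
        (unitSec (g.resLE U U' h) (F.restrict U.ι) le_rfl n) =
      unitSec g F (image_preimage_resLE_le g U U' h V) (show Γ(F, U.ι ''ᵁ V) from n) := by
  have e1 : g.resLE U U' h ≫ U.ι = U'.ι ≫ g := Scheme.Hom.resLE_comp_ι g h
  -- unfold `pullOnIso` into its pieces
  have hΩ : (CohPull.pullOnIso g U U' h F).hom =
      (Scheme.Modules.pullback (g.resLE U U' h)).map ((restrictFunctorIsoPullback U.ι).hom.app F) ≫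
        (T e1 F).hom ≫ (T (rfl : U'.ι ≫ g = U'.ι ≫ g) F).inv ≫
          (restrictFunctorIsoPullback U'.ι).inv.app ((Scheme.Modules.pullback g).obj F) := by
    simp [CohPull.pullOnIso, T, Scheme.Modules.pullbackCongr]
  rw [hΩ]
  change ((restrictFunctorIsoPullback U'.ι).inv.app ((Scheme.Modules.pullback g).obj F)).app
    ((g.resLE U U' h) ⁻¹ᵁ V)
    ((T (rfl : U'.ι ≫ g = U'.ι ≫ g) F).inv.app ((g.resLE U U' h) ⁻¹ᵁ V)
      ((T e1 F).hom.app ((g.resLE U U' h) ⁻¹ᵁ V)
      (((Scheme.Modules.pullback (g.resLE U U' h)).map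
        ((restrictFunctorIsoPullback U.ι).hom.app F)).app ((g.resLE U U' h) ⁻¹ᵁ V)
        (unitSec (g.resLE U U' h) (F.restrict U.ι) le_rfl n)))) = _
  set n₀ : Γ(F, U.ι ''ᵁ V) := n with hn₀
  -- step 1
  rw [map_unitSec, restrictFunctorIsoPullback_hom_app]
  -- step 2
  have hV : V ≤ U.ι ⁻¹ᵁ (U.ι ''ᵁ V) := le_preimage_image U.ι V
  have h2le : (g.resLE U U' h) ⁻¹ᵁ V ≤ (U'.ι ≫ g) ⁻¹ᵁ (U.ι ''ᵁ V) := by
    rw [← e1, Scheme.Hom.comp_preimage]
    exact (g.resLE U U' h).preimage_mono hV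
  have s2 : (T e1 F).hom.app ((g.resLE U U' h) ⁻¹ᵁ V)
      (unitSec (g.resLE U U' h) ((Scheme.Modules.pullback U.ι).obj F) le_rfl
        (unitSec U.ι F hV n₀)) =
      unitSec (U'.ι ≫ g) F h2le n₀ := by
    have h3 := T_hom_unitSec e1 F (U.ι ''ᵁ V) n₀
    have h4 : unitSec (g.resLE U U' h) ((Scheme.Modules.pullback U.ι).obj F) le_rfl
        (unitSec U.ι F hV n₀) =
        ((Scheme.Modules.pullback (g.resLE U U' h)).obj
          ((Scheme.Modules.pullback U.ι).obj F)).presheaf.map (homOfLE h2le).op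
          (unitSec (g.resLE U U' h) ((Scheme.Modules.pullback U.ι).obj F)
            (preimage_le e1 (U.ι ''ᵁ V)) (unitSec U.ι F le_rfl n₀)) := by
      rw [unitSec_res, ← unitSec_res U.ι F le_rfl hV n₀, unitSec_of_res]
    rw [h4, app_res, h3, unitSec_res]
  rw [s2]
  -- step 3
  have s3 : (T (rfl : U'.ι ≫ g = U'.ι ≫ g) F).inv.app ((g.resLE U U' h) ⁻¹ᵁ V)
      (unitSec (U'.ι ≫ g) F h2le n₀) =
      unitSec U'.ι ((Scheme.Modules.pullback g).obj F)
        (h2le.trans (preimage_le (rfl : U'.ι ≫ g = U'.ι ≫ g) (U.ι ''ᵁ V)))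
        (unitSec g F le_rfl n₀) := by
    rw [← unitSec_res (U'.ι ≫ g) F le_rfl h2le n₀, app_res, T_inv_unitSec, unitSec_res]
  rw [s3]
  -- step 4
  have s4 := restrictFunctorIsoPullback_hom_app U'.ι ((Scheme.Modules.pullback g).obj F)
    ((g.resLE U U' h) ⁻¹ᵁ V) (unitSec g F (image_preimage_resLE_le g U U' h V) n₀)
  have s5 : unitSec U'.ι ((Scheme.Modules.pullback g).obj F)
      (le_preimage_image U'.ι ((g.resLE U U' h) ⁻¹ᵁ V))
      (unitSec g F (image_preimage_resLE_le g U U' h V) n₀) =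
      unitSec U'.ι ((Scheme.Modules.pullback g).obj F)
        (h2le.trans (preimage_le (rfl : U'.ι ≫ g = U'.ι ≫ g) (U.ι ''ᵁ V)))
        (unitSec g F le_rfl n₀) := by
    rw [← unitSec_res g F le_rfl (image_preimage_resLE_le g U U' h V) n₀, unitSec_of_res]
  exact inv_app_eq_of_hom_app_eq
    ((restrictFunctorIsoPullback U'.ι).app ((Scheme.Modules.pullback g).obj F))
    ((g.resLE U U' h) ⁻¹ᵁ V) _ _ (s4.trans s5)

end K

end Groth.Agent.Lib.R2H2.PullOnUnit
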