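import Mathlib
import Groth.Prelude.Def_CohCmp
import Groth.Agent.Lib.R2H2PullOnUnit
set_option backward.isDefEq.respectTransparency.types false
set_option autoImplicit false
set_option linter.unusedSectionVars false
set_option linter.style.haveILetI false
universe u
open CategoryTheory CategoryTheory.Limits AlgebraicGeometry TopologicalSpace Opposite Abelian
open AlgebraicGeometry.Scheme.Modules CohCmp

noncomputable section

namespace Groth.Agent.Lib.R2H2.ResSect

open Groth.Agent.Helper13PullbackUnit Groth.Agent.Lib.R2H3.PullUnit Groth.Agent.Lib.R2H2.PullOnUnit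
  Groth.Agent.Lib.R2H2.ResDelta

section Id

variable {X : Scheme.{u}} (M : X.Modules)

/-- `pullbackId` undoes the pullback of sections along the identity -/
theorem pullbackId_hom_unit (V : X.Opens) (y : Γ(M, V)) :
    ((Scheme.Modules.pullbackId X).hom.app M).app ((𝟙 X) ⁻¹ᵁ V)
      (((Scheme.Modules.pullbackPushforwardAdjunction (𝟙 X)).unit.app M).app V y) = y := by
  have h := unit_conjugateEquiv Adjunction.id (Scheme.Modules.pullbackPushforwardAdjunction (𝟙 X))
    (Scheme.Modules.pullbackId X).hom M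
  rw [Scheme.Modules.conjugateEquiv_pullbackId_hom] at h
  have h2 := congrArg (fun ψ => Scheme.Modules.Hom.app ψ V y) h
  exact h2.symm

end Id

section Sect

variable {X : Scheme.{u}} (M : X.Modules) {U U' : X.Opens} (h : U' ≤ U)

lemma equiv₀_sectH0 (W : X.Opens) (s : M.presheaf.obj (op W)) :
    Sheaf.H.equiv₀ (Coh.toAb (M.restrict W.ι)) isTerminalTop (CohPull.sectH0 M W s) =
      M.presheaf.map (homOfLE (le_of_eq W.ι_image_top)).op s := by
  unfold CohPull.sectH0
  simp only [AddEquiv.trans_apply, AddEquiv.apply_symm_apply]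
  rfl

/-- **in degree zero, the restriction map on cohomology is the restriction of sections** -/
theorem resLE_sectH0 (s : M.presheaf.obj (op U)) :
    CohPull.resLE M h 0 (CohPull.sectH0 M U s) =
      CohPull.sectH0 M U' (M.presheaf.map (homOfLE h).op s) := by
  apply (Sheaf.H.equiv₀ (Coh.toAb (M.restrict U'.ι)) isTerminalTop).injective
  rw [equiv₀_sectH0]
  unfold CohPull.resLE CohPull.pullOn
  simp only [AddMonoidHom.coe_comp, Function.comp_apply]
  rw [← Sheaf.H.equiv₀_naturality, ← Sheaf.H.equiv₀_naturality, CohPull.equiv₀_pullMod,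
    equiv₀_sectH0]
  set s₁ : Γ(M.restrict U.ι, ⊤) := M.presheaf.map (homOfLE (le_of_eq U.ι_image_top)).op s with hs₁
  have hK := pullOnIso_hom_unit (𝟙 X) U U' (hid h) M ⊤ s₁
  rw [unitSec_le_rfl] at hK
  change ((Scheme.Modules.pullbackId X).hom.app M).app (U'.ι ''ᵁ ⊤)
    ((CohPull.pullOnIso (𝟙 X) U U' (hid h) M).hom.app ((Scheme.Hom.resLE (𝟙 X) U U' (hid h)) ⁻¹ᵁ ⊤)
      (((Scheme.Modules.pullbackPushforwardAdjunction (Scheme.Hom.resLE (𝟙 X) U U' (hid h))).unit.app
        (M.restrict U.ι)).app ⊤ s₁)) = _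
  rw [hK, unitSec_apply]
  have h3 := app_res ((Scheme.Modules.pullbackId X).hom.app M)
    (image_preimage_resLE_le (𝟙 X) U U' (hid h) ⊤)
    (((Scheme.Modules.pullbackPushforwardAdjunction (𝟙 X)).unit.app M).app (U.ι ''ᵁ ⊤)
      (show Γ(M, U.ι ''ᵁ ⊤) from s₁))
  refine h3.trans ?_
  rw [pullbackId_hom_unit, hs₁]
  exact (res_res M _ _ s).trans (res_res M _ _ s).symm

end Sect

end Groth.Agent.Lib.R2H2.ResSect
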