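import Mathlib
import Groth.Prelude.Def_CohCmp
import Groth.Agent.Lib.R2H2ResSect
import Groth.Agent.Lib.R2H2EpsBij
set_option backward.isDefEq.respectTransparency.types false
set_option autoImplicit false
set_option linter.unusedSectionVars false
set_option linter.style.haveILetI false
universe u
open CategoryTheory CategoryTheory.Limits AlgebraicGeometry TopologicalSpace Opposite Abelian
open AlgebraicGeometry.Scheme.Modules CohCmp

noncomputable section

namespace Groth.Agent.Lib.R2H2.EpsRes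

open Groth.Agent.Lib.R2H3.PullUnit Groth.Agent.Lib.R2H2.PullOnUnit
  Groth.Agent.Lib.R2H2.ResDelta Groth.Agent.Lib.R2H2.ResSect Groth.Agent.Lib.R2H2.EpsBij
  Groth.Agent.Lib.Helper23.SectCmpLib

section Inj

variable {X : Scheme.{u}}

lemma subsingleton_HHon_of_injective (U : X.Opens) (I : X.Modules) [Injective I] (a : ℕ) :
    Subsingleton (Coh.HHon X I U (a + 1)) := by
  haveI : TopCat.Sheaf.IsFlasque (Coh.toAb I) :=
    Groth.Agent.Lib.R2H3.ModLocBridge.isFlasque_toAb_of_injective I
  haveI : TopCat.Sheaf.IsFlasque (Coh.toAb (I.restrict U.ι)) :=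
    Groth.Agent.Lib.R2H3.RpushRestrict.isFlasque_toAb_restrict U.ι _ inferInstance
  exact Groth.Agent.Lib.Helper16.Flasque.H_subsingleton _ a

/-- every class of positive degree is a connecting image for the injective embedding sequence -/
lemma exists_extδ_eq (U : X.Opens) (M : X.Modules) (p : ℕ)
    (hA : ((sesM M).map (toAbOn X U)).ShortExact) (x : Coh.HHon X M U (p + 1)) :
    ∃ y : Coh.HHon X (sesM M).X₃ U p, extδ hA p y = x := by
  haveI : Subsingleton (Coh.HHon X (sesM M).X₂ U (p + 1)) :=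
    subsingleton_HHon_of_injective U (sesM M).X₂ p
  have h0 : (show Ext _ ((sesM M).map (toAbOn X U)).X₁ (p + 1) from x).comp
      (Ext.mk₀ ((sesM M).map (toAbOn X U)).f) (add_zero (p + 1)) = 0 :=
    Subsingleton.elim (α := Coh.HHon X (sesM M).X₂ U (p + 1)) _ _
  obtain ⟨y, hy⟩ := Ext.covariant_sequence_exact₁ _ hA _ h0 rfl
  exact ⟨y, hy⟩

end Inj

section P2

variable {X Y : Scheme.{u}} (f : X ⟶ Y) [HasInjectiveResolutions X.Modules]
  {Δ : RDer.DerivedLES (pushforward f)} (E : SectCmp f Δ)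

/-- **the comparison maps commute with restriction** -/
theorem eps_resLE {V W : Y.Opens} (hWV : W ≤ V) (M : X.Modules) (p : ℕ)
    (x : Coh.HHon X M (f ⁻¹ᵁ V) p) :
    ((Coh.Rpush f p).obj M).presheaf.map (homOfLE hWV).op (E.ε V M p x) =
      E.ε W M p (CohPull.resLE M (f.preimage_mono hWV) p x) := by
  induction p generalizing M with
  | zero =>
    obtain ⟨s, rfl⟩ := (CohPull.sectH0 M (f ⁻¹ᵁ V)).surjective x
    rw [resLE_sectH0, E.zero, E.zero]
    exact (app_res ((pushforward f).toRightDerivedZero.app M) hWV s).symm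
  | succ p ih =>
    have hS := sesM_shortExact M
    have hAV := toAbOn_shortExact (f ⁻¹ᵁ V) (sesM M) hS
    have hAW := toAbOn_shortExact (f ⁻¹ᵁ W) (sesM M) hS
    obtain ⟨y, rfl⟩ := exists_extδ_eq (f ⁻¹ᵁ V) M p hAV x
    have h1 := resLE_extδ (f.preimage_mono hWV) (sesM M) hAV hAW p y
    have h2 := E.delta V (sesM M) hS hAV p y
    have h3 := E.delta W (sesM M) hS hAW p (CohPull.resLE (sesM M).X₃ (f.preimage_mono hWV) p y)
    have h4 := ih (sesM M).X₃ y
    have h5 := app_res (Δ.δ (sesM M) hS p (p + 1) rfl) hWV (E.ε V (sesM M).X₃ p y)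
    refine (congrArg (fun t => ((Coh.Rpush f (p + 1)).obj M).presheaf.map (homOfLE hWV).op t)
      h2).trans ?_
    refine h5.symm.trans ?_
    refine (congrArg (fun t => (Δ.δ (sesM M) hS p (p + 1) rfl).app W t) h4).trans ?_
    refine h3.symm.trans ?_
    exact congrArg (fun t => E.ε W M (p + 1) t) h1.symm

end P2

end Groth.Agent.Lib.R2H2.EpsRes
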