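import Mathlib
import Groth.Prelude.Def_CohCmp
import Groth.Agent.Lib.R2H2PullCalc
import Groth.Agent.Lib.Helper22ExtFunctor
set_option autoImplicit false
set_option linter.unusedSectionVars false
set_option linter.style.haveILetI false
universe u
open CategoryTheory CategoryTheory.Limits AlgebraicGeometry TopologicalSpace Opposite Abelian

noncomputable section

namespace Groth.Agent.Lib.R2H2.PullComp

open Groth.Agent.Lib.R2H3.PushEdge Groth.Agent.Lib.R2H2.PullCalc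

section Sand

universe v₁ v₂ u₁ u₂ w₁ w₂

variable {𝒜 : Type u₁} [Category.{v₁} 𝒜] [Abelian 𝒜] [HasExt.{w₁} 𝒜]
  {ℬ : Type u₂} [Category.{v₂} ℬ] [Abelian ℬ] [HasExt.{w₂} ℬ]

/-- sandwich an `Ext` class between two morphisms -/
def sand {Z' Z A A' : 𝒜} (φ : Z' ⟶ Z) {n : ℕ} (y : Ext.{w₁} Z A n) (ψ : A ⟶ A') : Ext.{w₁} Z' A' n :=
  (Ext.mk₀ φ).comp (y.comp (Ext.mk₀ ψ) (add_zero n)) (zero_add n)

lemma sand_sand {Z'' Z' Z A A' A'' : 𝒜} (φ' : Z'' ⟶ Z') (φ : Z' ⟶ Z) {n : ℕ} (y : Ext.{w₁} Z A n)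
    (ψ : A ⟶ A') (ψ' : A' ⟶ A'') :
    sand φ' (sand φ y ψ) ψ' = sand (φ' ≫ φ) y (ψ ≫ ψ') := by
  unfold sand
  rw [Ext.comp_assoc_of_third_deg_zero, Ext.comp_assoc_of_third_deg_zero, Ext.mk₀_comp_mk₀,
    ← Ext.mk₀_comp_mk₀ φ' φ, Ext.comp_assoc_of_second_deg_zero]

variable (F : 𝒜 ⥤ ℬ) [F.Additive] [PreservesFiniteLimits F] [PreservesFiniteColimits F]

lemma sand_mapExactFunctor {Z' Z A A' : 𝒜} (φ : Z' ⟶ Z) {n : ℕ} (y : Ext.{w₁} Z A n) (ψ : A ⟶ A') :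
    (sand φ y ψ).mapExactFunctor F = sand (F.map φ) (y.mapExactFunctor F) (F.map ψ) := by
  unfold sand
  rw [Ext.mapExactFunctor_comp, Ext.mapExactFunctor_comp, Ext.mapExactFunctor_mk₀,
    Ext.mapExactFunctor_mk₀]

variable (G : 𝒜 ⥤ ℬ) [G.Additive] [PreservesFiniteLimits G] [PreservesFiniteColimits G]
  (τ : F ⟶ G) [EnoughInjectives 𝒜]

lemma sand_natTrans {Z A : 𝒜} {Z' A' : ℬ} (φ : Z' ⟶ F.obj Z) {n : ℕ} (y : Ext.{w₁} Z A n)
    (ψ : G.obj A ⟶ A') :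
    sand φ (y.mapExactFunctor F) (τ.app A ≫ ψ) = sand (φ ≫ τ.app Z) (y.mapExactFunctor G) ψ := by
  unfold sand
  have e1 := Ext.comp_assoc_of_third_deg_zero (y.mapExactFunctor F) (Ext.mk₀ (τ.app A)) (Ext.mk₀ ψ)
    (add_zero n)
  have e2 := Groth.Agent.Lib.Helper22.mapExactFunctor_natTrans F G τ y
  have e3 := Ext.comp_assoc_of_third_deg_zero (Ext.mk₀ (τ.app Z)) (y.mapExactFunctor G) (Ext.mk₀ ψ)
    (zero_add n)
  have e4 := Ext.comp_assoc_of_second_deg_zero (Ext.mk₀ φ) (Ext.mk₀ (τ.app Z))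
    ((y.mapExactFunctor G).comp (Ext.mk₀ ψ) (add_zero n)) (zero_add n)
  rw [← Ext.mk₀_comp_mk₀ (τ.app A) ψ, ← e1, e2, e3, ← Ext.mk₀_comp_mk₀ φ (τ.app Z), e4]

end Sand

section Top

variable {Y₂ Y₁ Y₀ : TopCat.{u}} (a : Y₂ ⟶ Y₁) (b : Y₁ ⟶ Y₀)

/-- the composite adjunction -/
def adjc : CohPull.inv b ⋙ CohPull.inv a ⊣ CohTop.push (a ≫ b) :=
  (CohPull.invPushAdj b).comp (CohPull.invPushAdj a)

/-- `a⁻¹ b⁻¹ ≅ (a ≫ b)⁻¹` -/
def iota : CohPull.inv b ⋙ CohPull.inv a ≅ CohPull.inv (a ≫ b) :=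
  (adjc a b).leftAdjointUniq (CohPull.invPushAdj (a ≫ b))

lemma adjZ_homEquiv {Y : TopCat.{u}} {G : CohTop.Ab Y} (φ : CohTop.const Y (ULift.{u} ℤ) ⟶ G) :
    (CohPull.adjZ Y).homEquiv _ _ φ = CohPull.oneSec Y ≫ φ.hom.app (op ⊤) := by
  have h : ((sheafSections (Opens.grothendieckTopology ↑Y) AddCommGrpCat).obj (op ⊤)).map φ =
      φ.hom.app (op ⊤) := rfl
  rw [← h, CohPull.oneSec, ← Adjunction.homEquiv_naturality_right, Category.id_comp]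

lemma adjZ_homEquiv_oneTo {X Y : TopCat.{u}} (f : X ⟶ Y) :
    (CohPull.adjZ X).homEquiv _ _ (CohPull.oneTo f) =
      CohPull.oneSec Y ≫ ((CohPull.invPushAdj f).unit.app (CohTop.const Y (ULift.{u} ℤ))).hom.app
        (op ⊤) :=
  Equiv.apply_symm_apply _ _

/-- the unit of the composite, on global sections -/
lemma unit_iota (A : CohTop.Ab Y₀) :
    ((CohPull.invPushAdj b).unit.app A).hom.app (op ⊤) ≫
      ((CohPull.invPushAdj a).unit.app ((CohPull.inv b).obj A)).hom.app (op ⊤) ≫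
        ((iota a b).hom.app A).hom.app (op ⊤) =
      ((CohPull.invPushAdj (a ≫ b)).unit.app A).hom.app (op ⊤) := by
  have h1 := Adjunction.unit_leftAdjointUniq_hom_app (adjc a b) (CohPull.invPushAdj (a ≫ b)) A
  have h2 : (adjc a b).unit.app A = (CohPull.invPushAdj b).unit.app A ≫
      (CohTop.push b).map ((CohPull.invPushAdj a).unit.app ((CohPull.inv b).obj A)) :=
    Adjunction.comp_unit_app _ _ A
  rw [h2] at h1
  exact congrArg (fun t => t.hom.app (op ⊤)) h1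

lemma cat_aux {C : Type*} [Category C] {P Q R S T W V : C} (s1 : P ⟶ Q) (ua1 : Q ⟶ R) (m : R ⟶ S)
    (i : S ⟶ T) (t : Q ⟶ W) (ua0 : W ⟶ S) (s0 : P ⟶ V) (ub : V ⟶ W) (uab : V ⟶ T)
    (h1 : t ≫ ua0 = ua1 ≫ m) (h2 : s0 ≫ ub = s1 ≫ t) (h3 : ub ≫ ua0 ≫ i = uab) :
    (s1 ≫ ua1) ≫ (m ≫ i) = s0 ≫ uab := by
  calc (s1 ≫ ua1) ≫ m ≫ i = s1 ≫ (ua1 ≫ m) ≫ i := by simp
    _ = s1 ≫ (t ≫ ua0) ≫ i := by rw [h1]
    _ = (s1 ≫ t) ≫ ua0 ≫ i := by simp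
    _ = (s0 ≫ ub) ≫ ua0 ≫ i := by rw [h2]
    _ = s0 ≫ uab := by rw [← h3]; simp

theorem oneTo_comp :
    CohPull.oneTo a ≫ (CohPull.inv a).map (CohPull.oneTo b) ≫
        (iota a b).hom.app (CohTop.const Y₀ (ULift.{u} ℤ)) = CohPull.oneTo (a ≫ b) := by
  apply ((CohPull.adjZ Y₂).homEquiv _ _).injective
  rw [Adjunction.homEquiv_naturality_right, adjZ_homEquiv_oneTo, adjZ_homEquiv_oneTo]
  have hΓ : ∀ {G H : CohTop.Ab Y₂} (ψ : G ⟶ H),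
      ((sheafSections (Opens.grothendieckTopology ↑Y₂) AddCommGrpCat).obj (op ⊤)).map ψ =
        ψ.hom.app (op ⊤) := fun _ => rfl
  rw [hΓ]
  have h1 := congrArg (fun t => t.hom.app (op ⊤))
    ((CohPull.invPushAdj a).unit.naturality (CohPull.oneTo b))
  have h2 := adjZ_homEquiv (CohPull.oneTo b)
  rw [adjZ_homEquiv_oneTo] at h2
  have h3 := unit_iota a b (CohTop.const Y₀ (ULift.{u} ℤ))
  exact cat_aux _ _ _ _ _ _ _ _ _ h1 h2 h3

lemma pullΘ_eq_sand {X Y : TopCat.{u}} (g : X ⟶ Y) {A : CohTop.Ab Y} {A' : CohTop.Ab X}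
    (Θ : (CohPull.inv g).obj A ⟶ A') (p : ℕ) (x : Sheaf.H A p) :
    pullΘ g Θ p x = sand (CohPull.oneTo g) (x.mapExactFunctor (CohPull.inv g)) Θ := by
  change Sheaf.H.map Θ p (CohPull.pullAb g A p x) = _
  rw [Sheaf.H.map_apply, pullAb_apply, Ext.comp_assoc_of_third_deg_zero]
  rfl

variable {A₀ : CohTop.Ab Y₀} {A₁ : CohTop.Ab Y₁} {A₂ : CohTop.Ab Y₂}
  (σ₁ : (CohPull.inv b).obj A₀ ⟶ A₁) (t : (CohPull.inv a).obj A₁ ⟶ A₂)
  (σ₂ : (CohPull.inv (a ≫ b)).obj A₀ ⟶ A₂)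

/-- the compatibility condition, from its transposed form -/
lemma iota_comp_of_homEquiv
    (hσ : (CohPull.invPushAdj (a ≫ b)).homEquiv _ _ σ₂ =
      (CohPull.invPushAdj b).homEquiv _ _ σ₁ ≫
        (CohTop.push b).map ((CohPull.invPushAdj a).homEquiv _ _ t)) :
    (iota a b).hom.app A₀ ≫ σ₂ = (CohPull.inv a).map σ₁ ≫ t := by
  apply ((adjc a b).homEquiv _ _).injective
  rw [Adjunction.homEquiv_naturality_right]
  have h1 := Adjunction.homEquiv_leftAdjointUniq_hom_app (adjc a b) (CohPull.invPushAdj (a ≫ b)) A₀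
  have h1' : ((adjc a b).homEquiv A₀ ((CohPull.inv (a ≫ b)).obj A₀)) ((iota a b).hom.app A₀) =
      (CohPull.invPushAdj (a ≫ b)).unit.app A₀ := h1
  rw [h1', ← Adjunction.homEquiv_unit, hσ]
  have h2 : (adjc a b).homEquiv A₀ A₂ ((CohPull.inv a).map σ₁ ≫ t) =
      (CohPull.invPushAdj b).homEquiv _ _
        ((CohPull.invPushAdj a).homEquiv _ _ ((CohPull.inv a).map σ₁ ≫ t)) :=
    congrArg (fun e => e ((CohPull.inv a).map σ₁ ≫ t)) (congrFun (congrFun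
      (Adjunction.comp_homEquiv (CohPull.invPushAdj b) (CohPull.invPushAdj a)) A₀) A₂)
  rw [h2, Adjunction.homEquiv_naturality_left, Adjunction.homEquiv_naturality_right]

theorem pullΘ_comp (hσ : (iota a b).hom.app A₀ ≫ σ₂ = (CohPull.inv a).map σ₁ ≫ t) (p : ℕ)
    (x : Sheaf.H A₀ p) :
    pullΘ a t p (pullΘ b σ₁ p x) = pullΘ (a ≫ b) σ₂ p x := by
  rw [pullΘ_eq_sand, pullΘ_eq_sand, pullΘ_eq_sand, sand_mapExactFunctor, sand_sand,
    ← Groth.Agent.Lib.Helper22.mapExactFunctor_compFunctor, ← hσ,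
    sand_natTrans (CohPull.inv b ⋙ CohPull.inv a) (CohPull.inv (a ≫ b)) (iota a b).hom,
    Category.assoc, oneTo_comp]

end Top

end Groth.Agent.Lib.R2H2.PullComp
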