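import Mathlib
import Groth.Prelude.Def_CohCmp
import Groth.Agent.Lib.R2H2PullComp
import Groth.Agent.Lib.R2H2ResSect
set_option backward.isDefEq.respectTransparency.types false
set_option autoImplicit false
set_option linter.unusedSectionVars false
set_option linter.style.haveILetI false
universe u
open CategoryTheory CategoryTheory.Limits AlgebraicGeometry TopologicalSpace Opposite Abelian
open AlgebraicGeometry.Scheme.Modules CohCmp

noncomputable section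

namespace Groth.Agent.Lib.R2H2.PullRes

open Groth.Agent.Helper13PullbackUnit Groth.Agent.Lib.R2H3.PullUnit Groth.Agent.Lib.R2H2.PullOnUnit
  Groth.Agent.Lib.R2H2.ResDelta Groth.Agent.Lib.R2H2.PullComp Groth.Agent.Lib.R2H2.PullCalc
  Groth.Agent.Lib.R2H2.ResSect

section Top

variable {Y₂ Y₁ Y₀ : TopCat.{u}} (a : Y₂ ⟶ Y₁) (b : Y₁ ⟶ Y₀) (c : Y₂ ⟶ Y₀) (e : a ≫ b = c)

include e in
lemma map_le (V : Opens Y₀) : (Opens.map c).obj V ≤ (Opens.map a).obj ((Opens.map b).obj V) := by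
  subst e
  exact le_rfl

variable {A₀ : CohTop.Ab Y₀} {A₁ : CohTop.Ab Y₁} {A₂ : CohTop.Ab Y₂}
  (σ₁ : (CohPull.inv b).obj A₀ ⟶ A₁) (t : (CohPull.inv a).obj A₁ ⟶ A₂)
  (σ₂ : (CohPull.inv c).obj A₀ ⟶ A₂)

lemma map_self {Y : TopCat.{u}} (A : CohTop.Ab Y) {W : Opens Y} (h : W ≤ W)
    (m : A.obj.obj (op W)) : A.obj.map (homOfLE h).op m = m := by
  have h0 : (homOfLE h).op = 𝟙 (op W) := rfl
  rw [h0, A.obj.map_id]
  rfl

theorem pullΘ_comp_of_sections
    (hσ : ∀ (V : Opens Y₀) (n : A₀.obj.obj (op V)),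
      ((CohPull.invPushAdj c).homEquiv _ _ σ₂).hom.app (op V) n =
        A₂.obj.map (homOfLE (map_le a b c e V)).op
          (((CohPull.invPushAdj a).homEquiv _ _ t).hom.app (op ((Opens.map b).obj V))
            (((CohPull.invPushAdj b).homEquiv _ _ σ₁).hom.app (op V) n)))
    (p : ℕ) (x : Sheaf.H A₀ p) :
    pullΘ a t p (pullΘ b σ₁ p x) = pullΘ c σ₂ p x := by
  subst e
  refine pullΘ_comp a b σ₁ t σ₂ (iota_comp_of_homEquiv a b σ₁ t σ₂ ?_) p x
  ext V n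
  induction V using Opposite.rec with
  | op V =>
    refine (hσ V n).trans ?_
    exact map_self A₂ (W := (Opens.map a).obj ((Opens.map b).obj V)) _ _

end Top

section Sch

variable {X Y : Scheme.{u}} (g : X ⟶ Y) (U : Y.Opens) (U' : X.Opens) (h : U' ≤ g ⁻¹ᵁ U)
  (F : Y.Modules)

/-- the comparison `k⁻¹(F|_U) ⟶ (g^*F)|_{U'}` of abelian sheaves, `k : U' ⟶ U` the restriction of `g` -/
def sigma : (CohPull.inv (g.resLE U U' h).base).obj ((toAbOn Y U).obj F) ⟶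
    (toAbOn X U').obj ((Scheme.Modules.pullback g).obj F) :=
  CohPull.theta (g.resLE U U' h) (F.restrict U.ι) ≫
    (SheafOfModules.toSheaf (U' : Scheme.{u}).ringCatSheaf).map (CohPull.pullOnIso g U U' h F).hom

lemma pullOn_eq_pullΘ (p : ℕ) (x : Coh.HHon Y F U p) :
    CohPull.pullOn g U U' h F p x = pullΘ (g.resLE U U' h).base (sigma g U U' h F) p x := by
  rw [pullΘ_eq_sand]
  unfold CohPull.pullOn CohPull.pullMod sand sigma
  simp only [AddMonoidHom.coe_comp, Function.comp_apply]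
  rw [Sheaf.H.map_apply, Sheaf.H.map_apply, pullAb_apply]
  repeat rw [Ext.comp_assoc_of_third_deg_zero]
  rw [Ext.mk₀_comp_mk₀]

lemma resLE_eq_pullΘ {X : Scheme.{u}} {U U' : X.Opens} (h : U' ≤ U) (M : X.Modules) (p : ℕ)
    (x : Coh.HHon X M U p) :
    CohPull.resLE M h p x = pullΘ (jj h).base (tau h M) p x := by
  rw [resLE_apply, pullΘ_eq_sand]
  rfl

/-- transposing a composite `theta ≫ (module map)` -/
lemma homEquiv_theta_comp {X Y : Scheme.{u}} (k : X ⟶ Y) (M : Y.Modules) {N : X.Modules}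
    (φ : (Scheme.Modules.pullback k).obj M ⟶ N) (V : Y.Opens) (n : Γ(M, V)) :
    ((CohPull.invPushAdj k.base).homEquiv _ _
      (CohPull.theta k M ≫ (SheafOfModules.toSheaf X.ringCatSheaf).map φ)).hom.app (op V) n =
      φ.app (k ⁻¹ᵁ V) (unitSec k M le_rfl n) := by
  rw [Adjunction.homEquiv_naturality_right, homEquiv_theta, unitSec_le_rfl]
  rfl

theorem homEquiv_sigma_app (V : (U : Scheme.{u}).Opens) (n : Γ(F.restrict U.ι, V)) :
    ((CohPull.invPushAdj (g.resLE U U' h).base).homEquiv _ _ (sigma g U U' h F)).hom.app (op V) n =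
      unitSec g F (image_preimage_resLE_le g U U' h V) (show Γ(F, U.ι ''ᵁ V) from n) := by
  unfold sigma
  exact (homEquiv_theta_comp (g.resLE U U' h) (F.restrict U.ι) (CohPull.pullOnIso g U U' h F).hom
    V n).trans (pullOnIso_hom_unit g U U' h F V n)

lemma image_preimage_jj_le {X : Scheme.{u}} {U₁ U₂ : X.Opens} (h' : U₂ ≤ U₁)
    (V₁ : (U₁ : Scheme.{u}).Opens) : U₂.ι ''ᵁ ((jj h') ⁻¹ᵁ V₁) ≤ U₁.ι ''ᵁ V₁ :=
  (image_preimage_resLE_le (𝟙 X) U₁ U₂ (hid h') V₁).trans (le_of_eq (Scheme.Hom.id_preimage _))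

/-- the transpose of `tau` is the restriction of sections -/
theorem homEquiv_tau_app {X : Scheme.{u}} {U₁ U₂ : X.Opens} (h' : U₂ ≤ U₁) (G : X.Modules)
    (V₁ : (U₁ : Scheme.{u}).Opens) (m : Γ(G.restrict U₁.ι, V₁)) :
    ((CohPull.invPushAdj (jj h').base).homEquiv _ _ (tau h' G)).hom.app (op V₁) m =
      G.presheaf.map (homOfLE (image_preimage_jj_le h' V₁)).op (show Γ(G, U₁.ι ''ᵁ V₁) from m) := by
  unfold tau
  refine (homEquiv_theta_comp (jj h') (G.restrict U₁.ι) (omega h' G) V₁ m).trans ?_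
  unfold omega
  change ((Scheme.Modules.pullbackId X).hom.app G).app (U₂.ι ''ᵁ ((jj h') ⁻¹ᵁ V₁))
    ((CohPull.pullOnIso (𝟙 X) U₁ U₂ (hid h') G).hom.app ((jj h') ⁻¹ᵁ V₁)
      (unitSec (jj h') (G.restrict U₁.ι) le_rfl m)) = _
  rw [pullOnIso_hom_unit, unitSec_apply]
  have h3 := app_res ((Scheme.Modules.pullbackId X).hom.app G)
    (image_preimage_resLE_le (𝟙 X) U₁ U₂ (hid h') V₁)
    (((Scheme.Modules.pullbackPushforwardAdjunction (𝟙 X)).unit.app G).app (U₁.ι ''ᵁ V₁)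
      (show Γ(G, U₁.ι ''ᵁ V₁) from m))
  refine h3.trans ?_
  rw [pullbackId_hom_unit]
  rfl

lemma jj_comp_resLE (U₁ U₂ : X.Opens) (h₁ : U₁ ≤ g ⁻¹ᵁ U) (h' : U₂ ≤ U₁) :
    jj h' ≫ g.resLE U U₁ h₁ = g.resLE U U₂ (h'.trans h₁) := by
  rw [← cancel_mono U.ι, Category.assoc, Scheme.Hom.resLE_comp_ι, Scheme.Hom.resLE_comp_ι,
    ← Category.assoc]
  have : jj h' ≫ U₁.ι = U₂.ι ≫ 𝟙 X := Scheme.Hom.resLE_comp_ι (𝟙 X) (hid h')
  rw [this, Category.comp_id]

/-- **restriction after pullback is pullback to the smaller open** -/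
theorem resLE_pullOn (U₁ U₂ : X.Opens) (h₁ : U₁ ≤ g ⁻¹ᵁ U) (h' : U₂ ≤ U₁) (p : ℕ)
    (x : Coh.HHon Y F U p) :
    CohPull.resLE ((Scheme.Modules.pullback g).obj F) h' p (CohPull.pullOn g U U₁ h₁ F p x) =
      CohPull.pullOn g U U₂ (h'.trans h₁) F p x := by
  rw [pullOn_eq_pullΘ, pullOn_eq_pullΘ, resLE_eq_pullΘ]
  have e : (jj h').base ≫ (g.resLE U U₁ h₁).base = (g.resLE U U₂ (h'.trans h₁)).base :=
    congrArg (fun φ => φ.base) (jj_comp_resLE g U U₁ U₂ h₁ h')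
  refine pullΘ_comp_of_sections _ _ _ e _ _ _ ?_ p x
  intro V n
  have s1 := homEquiv_sigma_app g U U₁ h₁ F V n
  have s2 := homEquiv_tau_app h' ((Scheme.Modules.pullback g).obj F) ((g.resLE U U₁ h₁) ⁻¹ᵁ V)
    (unitSec g F (image_preimage_resLE_le g U U₁ h₁ V) (show Γ(F, U.ι ''ᵁ V) from n))
  have s3 := homEquiv_sigma_app g U U₂ (h'.trans h₁) F V n
  refine s3.trans (Eq.symm ?_)
  erw [s1, s2]
  have hh : (g.resLE U U₂ (h'.trans h₁)) ⁻¹ᵁ V ≤ (jj h') ⁻¹ᵁ ((g.resLE U U₁ h₁) ⁻¹ᵁ V) :=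
    map_le (jj h').base (g.resLE U U₁ h₁).base (g.resLE U U₂ (h'.trans h₁)).base e V
  change ((Scheme.Modules.pullback g).obj F).presheaf.map (homOfLE (U₂.ι.image_mono hh)).op
    (((Scheme.Modules.pullback g).obj F).presheaf.map
      (homOfLE (image_preimage_jj_le h' ((g.resLE U U₁ h₁) ⁻¹ᵁ V))).op
      (unitSec g F (image_preimage_resLE_le g U U₁ h₁ V) (show Γ(F, U.ι ''ᵁ V) from n))) = _
  rw [res_res, unitSec_res]

end Sch

end Groth.Agent.Lib.R2H2.PullRes
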