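import Mathlib
import Groth.Prelude
import Groth.Agent.Lib.R2H2BcLocal
import Groth.Agent.Lib.R2H2EpsRes
import Groth.Agent.Lib.R2H2PullRes
set_option backward.isDefEq.respectTransparency.types false
set_option autoImplicit false
set_option linter.unusedSectionVars false
set_option linter.style.haveILetI false
universe u
open CategoryTheory AlgebraicGeometry TopologicalSpace Opposite Abelian
open AlgebraicGeometry.Scheme.Modules CohCmp

noncomputable section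

namespace Groth.Agent.Lib.R2H2.BcGen

open Groth.Agent.Lib.R2H2.EpsBij Groth.Agent.Lib.R2H2.EpsLin Groth.Agent.Lib.R2H2.BcSect
  Groth.Agent.Lib.R2H2.BcLocal Groth.Agent.Lib.R2H2.EpsRes Groth.Agent.Lib.R2H2.PullRes

section BL

variable {X S S' X' : Scheme.{u}} {f : X ⟶ S} {g : S' ⟶ S} {f' : X' ⟶ S'} {g' : X' ⟶ X}
  {w : g' ≫ f = f' ≫ g} [HasInjectiveResolutions X.Modules] [HasInjectiveResolutions X'.Modules]
  {Δ : RDer.DerivedLES (pushforward f)} {Δ' : RDer.DerivedLES (pushforward f')}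
  {E : SectCmp f Δ} {E' : SectCmp f' Δ'} (B : GenBC f g f' g' w E E')
  (F : X.Modules) (p : ℕ) {W : S.Opens} {W' : S'.Opens} (hle : W' ≤ g ⁻¹ᵁ W)

include w hle in
lemma preimage_le' : f' ⁻¹ᵁ W' ≤ g' ⁻¹ᵁ (f ⁻¹ᵁ W) :=
  (f'.preimage_mono hle).trans (sqLE f g f' g' w W)

/-- **the base change map on sections over `W' ≤ g⁻¹W`, on classes coming from `H^p(f⁻¹W, F)`** -/
theorem φres_eps (x : Coh.HHon X F (f ⁻¹ᵁ W) p) :
    φres g (B.φ p F) hle (E.ε W F p x) =
      E'.ε W' ((pullback g').obj F) p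
        (CohPull.pullOn g' (f ⁻¹ᵁ W) (f' ⁻¹ᵁ W') (preimage_le' (w := w) hle) F p x) := by
  rw [φres_apply, B.compat W F p x]
  have h1 := eps_resLE f' E' hle ((pullback g').obj F) p
    (CohPull.pullOn g' (f ⁻¹ᵁ W) (f' ⁻¹ᵁ (g ⁻¹ᵁ W)) (sqLE f g f' g' w W) F p x)
  refine h1.trans ?_
  rw [resLE_pullOn]

variable [QuasiCompact f] [QuasiSeparated f] [QuasiCompact f'] [QuasiSeparated f']
  [F.IsQuasicoherent] (hW : IsAffineOpen W) (hW' : IsAffineOpen W')

include hW hW' in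
theorem surjective_bc_app_iff' :
    letI := modOn f' W' ((pullback g').obj F) p
    Function.Surjective ((B.bc p F).app W') ↔
      Submodule.span Γ(S', W') (Set.range (CohPull.pullOn g' (f ⁻¹ᵁ W) (f' ⁻¹ᵁ W')
        (preimage_le' (w := w) hle) F p)) = ⊤ := by
  letI := modOn f' W' ((pullback g').obj F) p
  haveI : ((Coh.Rpush f p).obj F).IsQuasicoherent :=
    Groth.Agent.Lib.R2H3.RpushQCohGen.isQuasicoherent_Rpush_of_qcqs f F p
  haveI : ((pullback g').obj F).IsQuasicoherent :=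
    Groth.Agent.Lib.Helper2.PullbackSec.isQuasicoherent_pullback g' F
  have h1 := surjective_tr_app_iff g (B.φ p F) hW hW' hle
  refine h1.trans ?_
  set L := epsLin (E' := E') W' hW' ((pullback g').obj F) p with hL
  have hφ : ∀ x : Coh.HHon X F (f ⁻¹ᵁ W) p,
      φres g (B.φ p F) hle (E.ε W F p x) =
        L (CohPull.pullOn g' (f ⁻¹ᵁ W) (f' ⁻¹ᵁ W') (preimage_le' (w := w) hle) F p x) :=
    fun x => φres_eps B F p hle x
  have hr : Set.range (φres g (B.φ p F) hle) =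
      L '' (Set.range (CohPull.pullOn g' (f ⁻¹ᵁ W) (f' ⁻¹ᵁ W') (preimage_le' (w := w) hle) F p)) := by
    ext y
    constructor
    · rintro ⟨n, rfl⟩
      obtain ⟨x, rfl⟩ := (eps_bijective f E W hW F p).2 n
      refine ⟨_, ⟨x, rfl⟩, ?_⟩
      exact (hφ x).symm
    · rintro ⟨_, ⟨x, rfl⟩, rfl⟩
      exact ⟨E.ε W F p x, hφ x⟩
  rw [hr]
  have h3 := Submodule.map_span L.toLinearMap
    (Set.range (CohPull.pullOn g' (f ⁻¹ᵁ W) (f' ⁻¹ᵁ W') (preimage_le' (w := w) hle) F p))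
  have h4 : (⇑L '' Set.range (CohPull.pullOn g' (f ⁻¹ᵁ W) (f' ⁻¹ᵁ W') (preimage_le' (w := w) hle) F p)) =
      (⇑L.toLinearMap '' Set.range (CohPull.pullOn g' (f ⁻¹ᵁ W) (f' ⁻¹ᵁ W')
        (preimage_le' (w := w) hle) F p)) := rfl
  rw [h4, ← h3]
  exact Submodule.map_eq_top_iff (e := L)

end BL

section Main

variable {X S S' X' : Scheme.{u}} {f : X ⟶ S} {g : S' ⟶ S} {f' : X' ⟶ S'} {g' : X' ⟶ X}
  (hpb : IsPullback g' f' f g) [HasInjectiveResolutions X.Modules]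
  [HasInjectiveResolutions X'.Modules]
  {Δ : RDer.DerivedLES (pushforward f)} {Δ' : RDer.DerivedLES (pushforward f')}
  {E : SectCmp f Δ} {E' : SectCmp f' Δ'} (B : GenBC f g f' g' hpb.w E E')
  [QuasiCompact f] [QuasiSeparated f] [QuasiCompact f'] [QuasiSeparated f']
  (F : X.Modules) [F.IsQuasicoherent] (p : ℕ) (W : S.Opens) (W' : S'.Opens) (hle : W' ≤ g ⁻¹ᵁ W)
  [IsAffine (W : Scheme.{u})] [IsAffine (W' : Scheme.{u})]

/-- **Surjectivity of the base change map over an affine `W' ≤ g⁻¹W`, in terms of the functor `T^p` of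
`f⁻¹W` over `Γ(W, O)`.** -/
theorem surjective_bc_app_iff_genF' :
    letI := overW f W
    letI := algW g hle
    Function.Surjective ((B.bc p F).app W') ↔
      GenF Γ((W : Scheme.{u}), ⊤) Γ((W' : Scheme.{u}), ⊤)
        (CohIII.tensorAFunctor Γ((W : Scheme.{u}), ⊤) (F.restrict (f ⁻¹ᵁ W).ι) ⋙
          CohIII.HAb ((f ⁻¹ᵁ W : X.Opens) : Scheme.{u}) p) := by
  letI := overW f W
  letI := overW f' W'
  letI := algW g hle
  haveI : (F.restrict (f ⁻¹ᵁ W).ι).IsQuasicoherent :=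
    Scheme.Modules.isQuasicoherent_restrictFunctor (f ⁻¹ᵁ W).ι F
  have hW : IsAffineOpen W := ‹IsAffine (W : Scheme.{u})›
  have hW' : IsAffineOpen W' := ‹IsAffine (W' : Scheme.{u})›
  refine (surjective_bc_app_iff' B F p hle hW hW').trans ?_
  refine (span_eq_top_iff_genS (rTopHom f' W') _).trans ?_
  have hle' := preimage_le hpb hle
  have hr : Set.range (CohPull.pullOn g' (f ⁻¹ᵁ W) (f' ⁻¹ᵁ W') (preimage_le' (w := hpb.w) hle) F p) =
      CohPull.mapH (CohPull.pullOnIso g' (f ⁻¹ᵁ W) (f' ⁻¹ᵁ W') hle' F).hom p ''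
        Set.range (CohPull.pullMod (g'.resLE (f ⁻¹ᵁ W) (f' ⁻¹ᵁ W') hle')
          (F.restrict (f ⁻¹ᵁ W).ι) p) := by
    ext y
    constructor
    · rintro ⟨x, rfl⟩
      exact ⟨_, ⟨x, rfl⟩, rfl⟩
    · rintro ⟨_, ⟨x, rfl⟩, rfl⟩
      exact ⟨x, rfl⟩
  rw [hr, genS_map_iff, range_rTopHom]
  exact genS_pullMod_iff_genF _ (isPullback_spec hpb hle) _ p

end Main

end Groth.Agent.Lib.R2H2.BcGen
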