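import Mathlib
import Groth.Prelude
import Groth.Agent.Lib.R2H2BcGen
import Groth.Agent.Lib.R2H2ResSect
set_option backward.isDefEq.respectTransparency.types false
set_option autoImplicit false
set_option linter.unusedSectionVars false
set_option linter.style.haveILetI false
universe u
open CategoryTheory AlgebraicGeometry TopologicalSpace Opposite Abelian
open AlgebraicGeometry.Scheme.Modules CohCmp

noncomputable section

namespace Groth.Agent.Lib.R2H2.Bc0

open Groth.Agent.Lib.R2H2.EpsBij Groth.Agent.Lib.R2H2.EpsLin Groth.Agent.Lib.R2H2.BcSect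
  Groth.Agent.Lib.R2H2.BcLocal Groth.Agent.Lib.R2H2.EpsRes Groth.Agent.Lib.R2H2.PullRes
  Groth.Agent.Helper13PullbackUnit Groth.Agent.Lib.R2H3.PullUnit Groth.Agent.Lib.R2H2.PullOnUnit
  Groth.Agent.Lib.R2H2.ResSect

section PullOn0

variable {X Y : Scheme.{u}} (g : X ⟶ Y) (U : Y.Opens) (U' : X.Opens) (h : U' ≤ g ⁻¹ᵁ U)
  (F : Y.Modules)

/-- **in degree zero, the pullback on cohomology over opens is the pullback of sections** -/
theorem pullOn_sectH0 (s : F.presheaf.obj (op U)) :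
    CohPull.pullOn g U U' h F 0 (CohPull.sectH0 F U s) =
      CohPull.sectH0 ((Scheme.Modules.pullback g).obj F) U' (unitSec g F h s) := by
  apply (Sheaf.H.equiv₀ (Coh.toAb (((Scheme.Modules.pullback g).obj F).restrict U'.ι))
    Limits.isTerminalTop).injective
  rw [equiv₀_sectH0]
  unfold CohPull.pullOn
  simp only [AddMonoidHom.coe_comp, Function.comp_apply]
  rw [← Sheaf.H.equiv₀_naturality, CohPull.equiv₀_pullMod, equiv₀_sectH0]
  set s₁ : Γ(F.restrict U.ι, ⊤) := F.presheaf.map (homOfLE (le_of_eq U.ι_image_top)).op s with hs₁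
  have hK := pullOnIso_hom_unit g U U' h F ⊤ s₁
  rw [unitSec_le_rfl] at hK
  change (CohPull.pullOnIso g U U' h F).hom.app ((g.resLE U U' h) ⁻¹ᵁ ⊤)
      (((Scheme.Modules.pullbackPushforwardAdjunction (g.resLE U U' h)).unit.app
        (F.restrict U.ι)).app ⊤ s₁) = _
  rw [hK, unitSec_res, hs₁]
  exact unitSec_of_res g F _ _ s

end PullOn0

section Adj

variable {X S S' X' : Scheme.{u}} (f : X ⟶ S) (g : S' ⟶ S) (f' : X' ⟶ S') (g' : X' ⟶ X)
  (w : g' ≫ f = f' ≫ g) (F : X.Modules)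

/-- **the degree zero base change map in adjoint form is the pullback of sections** -/
theorem bc0Adj_app (V : S.Opens) (s : Γ(F, f ⁻¹ᵁ V)) :
    (CohBC.bc0Adj f g f' g' w F).app V s = unitSec g' F (sqLE f g f' g' w V) s := by
  unfold CohBC.bc0Adj
  rw [unitSec_apply]
  rfl

/-- the restriction of the degree zero base change map in adjoint form to a smaller open -/
theorem φres_bc0Adj {W : S.Opens} {W' : S'.Opens} (hle : W' ≤ g ⁻¹ᵁ W) (s : Γ(F, f ⁻¹ᵁ W)) :
    φres g (CohBC.bc0Adj f g f' g' w F) hle s =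
      unitSec g' F (Groth.Agent.Lib.R2H2.BcGen.preimage_le' (w := w) hle) s := by
  rw [φres_apply, bc0Adj_app]
  exact unitSec_res g' F (sqLE f g f' g' w W) (f'.preimage_mono hle) s

end Adj

section Lin

variable {X' S' : Scheme.{u}} (f' : X' ⟶ S') (W' : S'.Opens)

/-- sections of the direct image over `W'`, as degree zero cohomology over `f'⁻¹W'`: a linear equivalence -/
def sectLin (M : X'.Modules) :
    letI := modOn f' W' M 0
    Γ((pushforward f').obj M, W') ≃ₗ[Γ(S', W')] Coh.HHon X' M (f' ⁻¹ᵁ W') 0 :=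
  letI := modOn f' W' M 0
  { toFun := fun s => CohPull.sectH0 M (f' ⁻¹ᵁ W') s
    invFun := fun x => (CohPull.sectH0 M (f' ⁻¹ᵁ W')).symm x
    left_inv := fun s => (CohPull.sectH0 M (f' ⁻¹ᵁ W')).symm_apply_apply s
    right_inv := fun x => (CohPull.sectH0 M (f' ⁻¹ᵁ W')).apply_symm_apply x
    map_add' := fun a b => map_add (CohPull.sectH0 M (f' ⁻¹ᵁ W')) a b
    map_smul' := fun r s => by
      change CohPull.sectH0 M (f' ⁻¹ᵁ W')
          ((f'.app W' r : Γ(X', f' ⁻¹ᵁ W')) • (show Γ(M, f' ⁻¹ᵁ W') from s)) =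
        rTop f' W' r • CohPull.sectH0 M (f' ⁻¹ᵁ W') s
      exact sectH0_smul M (f' ⁻¹ᵁ W') (f'.app W' r) s }

lemma sectLin_apply (M : X'.Modules) (s : Γ(M, f' ⁻¹ᵁ W')) :
    sectLin f' W' M s = CohPull.sectH0 M (f' ⁻¹ᵁ W') s := rfl

end Lin

section BL

variable {X S S' X' : Scheme.{u}} {f : X ⟶ S} {g : S' ⟶ S} {f' : X' ⟶ S'} {g' : X' ⟶ X}
  (w : g' ≫ f = f' ≫ g) [QuasiCompact f] [QuasiSeparated f]
  (F : X.Modules) [F.IsQuasicoherent] {W : S.Opens} {W' : S'.Opens} (hle : W' ≤ g ⁻¹ᵁ W)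
  (hW : IsAffineOpen W) (hW' : IsAffineOpen W')

include hW hW' in
theorem surjective_bc0_app_iff' :
    letI := modOn f' W' ((pullback g').obj F) 0
    Function.Surjective ((CohBC.bc0 f g f' g' w F).app W') ↔
      Submodule.span Γ(S', W') (Set.range (CohPull.pullOn g' (f ⁻¹ᵁ W) (f' ⁻¹ᵁ W')
        (Groth.Agent.Lib.R2H2.BcGen.preimage_le' (w := w) hle) F 0)) = ⊤ := by
  letI := modOn f' W' ((pullback g').obj F) 0
  haveI : ((pushforward f).obj F).IsQuasicoherent :=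
    Groth.Agent.Lib.Helper23.QCohLocal.isQuasicoherent_pushforward f F
  have h1 := surjective_tr_app_iff g (CohBC.bc0Adj f g f' g' w F) hW hW' hle
  refine h1.trans ?_
  set L := sectLin f' W' ((pullback g').obj F) with hL
  have hφ : ∀ s : Γ(F, f ⁻¹ᵁ W),
      L (φres g (CohBC.bc0Adj f g f' g' w F) hle s) =
        CohPull.pullOn g' (f ⁻¹ᵁ W) (f' ⁻¹ᵁ W')
          (Groth.Agent.Lib.R2H2.BcGen.preimage_le' (w := w) hle) F 0
          (CohPull.sectH0 F (f ⁻¹ᵁ W) s) := by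
    intro s
    rw [φres_bc0Adj, pullOn_sectH0]
    rfl
  have hr : L '' Set.range (φres g (CohBC.bc0Adj f g f' g' w F) hle) =
      Set.range (CohPull.pullOn g' (f ⁻¹ᵁ W) (f' ⁻¹ᵁ W')
        (Groth.Agent.Lib.R2H2.BcGen.preimage_le' (w := w) hle) F 0) := by
    ext y
    constructor
    · rintro ⟨_, ⟨n, rfl⟩, rfl⟩
      exact ⟨_, (hφ n).symm⟩
    · rintro ⟨x, rfl⟩
      obtain ⟨s, rfl⟩ := (CohPull.sectH0 F (f ⁻¹ᵁ W)).surjective x
      exact ⟨_, ⟨s, rfl⟩, hφ s⟩
  rw [← hr]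
  have h3 := Submodule.map_span L.toLinearMap
    (Set.range (φres g (CohBC.bc0Adj f g f' g' w F) hle))
  have h4 : (⇑L '' Set.range (φres g (CohBC.bc0Adj f g f' g' w F) hle)) =
      (⇑L.toLinearMap '' Set.range (φres g (CohBC.bc0Adj f g f' g' w F) hle)) := rfl
  rw [h4, ← h3]
  exact (Submodule.map_eq_top_iff (e := L)).symm

end BL

section Main

variable {X S S' X' : Scheme.{u}} {f : X ⟶ S} {g : S' ⟶ S} {f' : X' ⟶ S'} {g' : X' ⟶ X}
  (hpb : IsPullback g' f' f g)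
  [QuasiCompact f] [QuasiSeparated f]
  (F : X.Modules) [F.IsQuasicoherent] (W : S.Opens) (W' : S'.Opens) (hle : W' ≤ g ⁻¹ᵁ W)
  [IsAffine (W : Scheme.{u})] [IsAffine (W' : Scheme.{u})]

/-- **Surjectivity of the degree zero base change map over an affine `W' ≤ g⁻¹W`, in terms of the functor `T^0` of
`f⁻¹W` over `Γ(W, O)`.** -/
theorem surjective_bc0_app_iff_genF' :
    letI := overW f W
    letI := algW g hle
    Function.Surjective ((CohBC.bc0 f g f' g' hpb.w F).app W') ↔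
      GenF Γ((W : Scheme.{u}), ⊤) Γ((W' : Scheme.{u}), ⊤)
        (CohIII.tensorAFunctor Γ((W : Scheme.{u}), ⊤) (F.restrict (f ⁻¹ᵁ W).ι) ⋙
          CohIII.HAb ((f ⁻¹ᵁ W : X.Opens) : Scheme.{u}) 0) := by
  haveI : QuasiCompact f' := MorphismProperty.of_isPullback (P := @QuasiCompact) hpb inferInstance
  haveI : QuasiSeparated f' :=
    MorphismProperty.of_isPullback (P := @QuasiSeparated) hpb inferInstance
  letI := overW f W
  letI := overW f' W'
  letI := algW g hle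
  haveI : (F.restrict (f ⁻¹ᵁ W).ι).IsQuasicoherent :=
    Scheme.Modules.isQuasicoherent_restrictFunctor (f ⁻¹ᵁ W).ι F
  have hW : IsAffineOpen W := ‹IsAffine (W : Scheme.{u})›
  have hW' : IsAffineOpen W' := ‹IsAffine (W' : Scheme.{u})›
  refine (surjective_bc0_app_iff' hpb.w F hle hW hW').trans ?_
  refine (span_eq_top_iff_genS (rTopHom f' W') _).trans ?_
  have hle' := preimage_le hpb hle
  have hr : Set.range (CohPull.pullOn g' (f ⁻¹ᵁ W) (f' ⁻¹ᵁ W')
        (Groth.Agent.Lib.R2H2.BcGen.preimage_le' (w := hpb.w) hle) F 0) =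
      CohPull.mapH (CohPull.pullOnIso g' (f ⁻¹ᵁ W) (f' ⁻¹ᵁ W') hle' F).hom 0 ''
        Set.range (CohPull.pullMod (g'.resLE (f ⁻¹ᵁ W) (f' ⁻¹ᵁ W') hle')
          (F.restrict (f ⁻¹ᵁ W).ι) 0) := by
    ext y
    constructor
    · rintro ⟨x, rfl⟩
      exact ⟨_, ⟨x, rfl⟩, rfl⟩
    · rintro ⟨_, ⟨x, rfl⟩, rfl⟩
      exact ⟨x, rfl⟩
  rw [hr, genS_map_iff, range_rTopHom]
  exact genS_pullMod_iff_genF _ (isPullback_spec hpb hle) _ 0

end Main

end Groth.Agent.Lib.R2H2.Bc0
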