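import Mathlib
import Groth.Prelude
import Groth.Agent.Lib.R2H2BcLocal
import Groth.Agent.Lib.R2H2BcTFun
import Groth.Agent.Lib.Helper3FlatCx
import Groth.Agent.Lib.Helper3FlatCxBC
import Groth.Agent.Lib.Helper3FlatCxBT
set_option backward.isDefEq.respectTransparency.types false
set_option autoImplicit false
set_option linter.unusedSectionVars false
set_option linter.style.haveILetI false
universe u
open CategoryTheory CategoryTheory.Limits MonoidalCategory TensorProduct

noncomputable section

namespace Groth.Agent.Lib.R2H2.GenFAlg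

open Groth.Agent.Lib.Helper3 Groth.Agent.Lib.R2H2.BcLocal Groth.Agent.Lib.R2H2.ABC
  Groth.Agent.Lib.Helper16.TensorCmp Groth.Agent.Lib.R2H2.BcTFun

section FP

variable {A : Type u} [CommRing A] {ι : Type} {c : ComplexShape ι}

/-- the opcycles of a complex of finitely presented modules are finitely presented -/
theorem finitePresentation_opcycles (P : HomologicalComplex (ModuleCat.{u} A) c) (q : ι)
    [Module.FinitePresentation A (P.X q)] [Module.Finite A (P.X (c.prev q))] :
    Module.FinitePresentation A (P.opcycles q) := by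
  have hsurj : Function.Surjective (P.pOpcycles q).hom :=
    (ModuleCat.epi_iff_surjective _).mp inferInstance
  refine Module.finitePresentation_of_surjective (P.pOpcycles q).hom hsurj ?_
  have hex : (ShortComplex.mk (P.d (c.prev q) q) (P.pOpcycles q) (P.d_pOpcycles (c.prev q) q)).Exact :=
    ShortComplex.exact_of_g_is_cokernel _ (P.opcyclesIsCokernel (c.prev q) q rfl)
  have hex' := (ShortComplex.ShortExact.moduleCat_exact_iff_function_exact _).mp hex
  have hker : LinearMap.ker (P.pOpcycles q).hom = LinearMap.range (P.d (c.prev q) q).hom :=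
    LinearMap.exact_iff.mp hex'
  rw [hker, LinearMap.range_eq_map]
  exact (Module.Finite.fg_top).map _

end FP

section Local

variable {A : Type u} [CommRing A] [IsLocalRing A] {ι : Type} {c : ComplexShape ι}

/-- the sequence `0 → m → A → K → 0` for a model `K` of the residue field -/
def residueSC' (K : ModuleCat.{u} A) (π : ModuleCat.of A A ⟶ K)
    (hker : ∀ a : A, π.hom a = 0 ↔ a ∈ IsLocalRing.maximalIdeal A) : ShortComplex (ModuleCat.{u} A) :=
  ShortComplex.mk (ModuleCat.ofHom (IsLocalRing.maximalIdeal A).subtype) π (by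
    ext x
    exact (hker x.1).2 x.2)

theorem residueSC'_shortExact (K : ModuleCat.{u} A) (π : ModuleCat.of A A ⟶ K)
    (hker : ∀ a : A, π.hom a = 0 ↔ a ∈ IsLocalRing.maximalIdeal A)
    (hsurj : Function.Surjective π.hom) : (residueSC' K π hker).ShortExact := by
  have hmono : Mono (residueSC' K π hker).f :=
    (ModuleCat.mono_iff_injective _).mpr (Submodule.injective_subtype _)
  have hepi : Epi (residueSC' K π hker).g := (ModuleCat.epi_iff_surjective _).mpr hsurj
  refine ShortComplex.ShortExact.mk' ?_ hmono hepi
  rw [ShortComplex.moduleCat_exact_iff]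
  intro x hx
  exact ⟨⟨x, (hker x).1 hx⟩, rfl⟩

/-- over a local ring, for a complex of finite projective modules: if `T_p(A) → T_p(K)` is surjective
(`K` the residue field) then `opcycles_q(P)` is free, `c.Rel p q`. -/
theorem free_opcycles_of_surjective'
    (P : HomologicalComplex (ModuleCat.{u} A) c)
    (hP : ∀ i, Module.Finite A (P.X i) ∧ Module.Projective A (P.X i)) (p q : ι) (hrel : c.Rel p q)
    (K : ModuleCat.{u} A) (π : ModuleCat.of A A ⟶ K)
    (hker : ∀ a : A, π.hom a = 0 ↔ a ∈ IsLocalRing.maximalIdeal A)
    (hsurj : Function.Surjective π.hom)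
    (h : Function.Surjective ((CohIII.TFun P p).map π).hom) :
    Module.Free A (P.opcycles q) := by
  have hflat : ∀ i, Module.Flat A (P.X i) := fun i => by
    haveI := (hP i).2
    infer_instance
  have hepi : Epi ((CohIII.TFun P p).map (residueSC' K π hker).g) :=
    (ModuleCat.epi_iff_surjective _).mpr h
  have hmono := mono_T_map_of_epi P hflat (residueSC' K π hker)
    (residueSC'_shortExact K π hker hsurj) p q hrel hepi
  have hm : Mono (residueSC' K π hker).f := (residueSC'_shortExact K π hker hsurj).mono_f
  have h2 := mono_whiskerLeft_opcycles P q (hflat _) (residueSC' K π hker).f hmono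
  haveI := (hP q).1
  haveI := (hP q).2
  haveI := (hP (c.prev q)).1
  haveI : Module.FinitePresentation A (P.X q) := Module.finitePresentation_of_projective A _
  haveI : Module.FinitePresentation A (P.opcycles q) := finitePresentation_opcycles P q
  apply Module.free_of_maximalIdeal_rTensor_injective
  rw [← LinearMap.lTensor_inj_iff_rTensor_inj]
  exact (ModuleCat.mono_iff_injective _).mp h2

end Local

section Flat

variable {R K : Type u} [CommRing R] [CommRing K] [Algebra R K]

/-- `H ⊗ -` satisfies the generation property -/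
theorem genF_tensorLeft (H : ModuleCat.{u} R) :
    GenF R K (tensorLeft H ⋙ forget₂ (ModuleCat.{u} R) AddCommGrpCat.{u}) := by
  intro y
  induction (show (H : Type u) ⊗[R] (BA R K : Type u) from y) using TensorProduct.induction_on with
  | zero => exact zero_mem _
  | tmul h b =>
    refine AddSubmonoid.subset_closure ⟨(idB R K).symm b, (h ⊗ₜ[R] (1 : R) : (H : Type u) ⊗[R] R), ?_⟩
    change h ⊗ₜ[R] b = h ⊗ₜ[R] ((mulB R K ((idB R K).symm b)).hom ((θ (idB R K 1)).hom (1 : R)))
    congr 1
    rw [θ_apply, one_smul, mulB_apply]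
    simp
  | add a b ha hb => exact add_mem ha hb

/-- if the next opcycles are flat, `T_k` satisfies the generation property for every algebra -/
theorem genF_of_flat (P : ChainComplex (ModuleCat.{u} R) ℤ) (k : ℤ)
    [Module.Flat R (P.X (k - 1))] [Module.Flat R (P.opcycles (k - 1))] :
    GenF R K (CohIII.TFun P k ⋙ forget₂ (ModuleCat.{u} R) AddCommGrpCat.{u}) := by
  have hrel : (ComplexShape.down ℤ).Rel k (k - 1) := by
    change k - 1 + 1 = k
    ring
  have e := thetaIso P k (k - 1) hrel
  exact (genF_iso R K (Functor.isoWhiskerRight e (forget₂ (ModuleCat.{u} R) AddCommGrpCat.{u}))).1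
    (genF_tensorLeft (P.homology k))

end Flat

section Four

variable {R : Type u} [CommRing R] {H W Pq Wq : Type u} [AddCommGroup H] [AddCommGroup W]
  [AddCommGroup Pq] [AddCommGroup Wq] [Module R H] [Module R W] [Module R Pq] [Module R Wq]
  (ι : H →ₗ[R] W) (g : W →ₗ[R] Pq) (π : Pq →ₗ[R] Wq)
  (hι : Function.Injective ι) (hπ : Function.Surjective π)
  (h1 : Function.Exact ι g) (h2 : Function.Exact g π)

include hπ h2 in
/-- in an exact sequence `W → P → W' → 0` with `P`, `W'` projective, `ker (W → P)` is a retract of `W` -/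
theorem exists_retraction_of_four [Module.Projective R Pq] [Module.Projective R Wq] :
    ∃ ρ : W →ₗ[R] LinearMap.ker g, ρ.comp (LinearMap.ker g).subtype = LinearMap.id := by
  obtain ⟨σ, hσ⟩ := Module.projective_lifting_property π LinearMap.id hπ
  -- `ker π` is a retract of `Pq`
  let r : Pq →ₗ[R] LinearMap.ker π :=
    LinearMap.codRestrict (LinearMap.ker π) (LinearMap.id - σ.comp π) (fun x => by
      rw [LinearMap.mem_ker, LinearMap.sub_apply, map_sub, LinearMap.id_apply, LinearMap.comp_apply]
      have := LinearMap.congr_fun hσ (π x)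
      rw [LinearMap.comp_apply, LinearMap.id_apply] at this
      rw [this, sub_self])
  have hr : r.comp (LinearMap.ker π).subtype = LinearMap.id := by
    ext x
    change (x : Pq) - σ (π x) = x
    rw [LinearMap.mem_ker.1 x.2, map_zero, sub_zero]
  haveI : Module.Projective R (LinearMap.ker π) :=
    Module.Projective.of_split (LinearMap.ker π).subtype r hr
  -- `g` corestricted to `ker π` is surjective
  let g' : W →ₗ[R] LinearMap.ker π :=
    LinearMap.codRestrict (LinearMap.ker π) g (fun w => LinearMap.mem_ker.2 ((h2 (g w)).2 ⟨w, rfl⟩))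
  have hg' : Function.Surjective g' := by
    rintro ⟨x, hx⟩
    obtain ⟨w, rfl⟩ := (h2 x).1 (LinearMap.mem_ker.1 hx)
    exact ⟨w, rfl⟩
  obtain ⟨τ, hτ⟩ := Module.projective_lifting_property g' LinearMap.id hg'
  -- `ker g` is a retract of `W`
  let ρ : W →ₗ[R] LinearMap.ker g :=
    LinearMap.codRestrict (LinearMap.ker g) (LinearMap.id - τ.comp g') (fun w => by
      rw [LinearMap.mem_ker, LinearMap.sub_apply, map_sub, LinearMap.id_apply, LinearMap.comp_apply]
      have := LinearMap.congr_fun hτ (g' w)
      rw [LinearMap.comp_apply, LinearMap.id_apply] at this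
      have h3 : g (τ (g' w)) = g w := congrArg Subtype.val this
      rw [h3, sub_self])
  refine ⟨ρ, ?_⟩
  ext x
  change (x : W) - τ (g' x) = x
  have : g' x = 0 := Subtype.ext (LinearMap.mem_ker.1 x.2)
  rw [this, map_zero, sub_zero]

include hι hπ h1 h2 in
/-- in an exact sequence `0 → H → W → P → W' → 0` with `W` finite and `P`, `W'` projective, `H` is finite -/
theorem finite_of_four [Module.Finite R W] [Module.Projective R Pq] [Module.Projective R Wq] :
    Module.Finite R H := by
  obtain ⟨ρ, hρ⟩ := exists_retraction_of_four g π hπ h2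
  have hρs : Function.Surjective ρ := fun x => ⟨x, LinearMap.congr_fun hρ x⟩
  haveI : Module.Finite R (LinearMap.ker g) := Module.Finite.of_surjective ρ hρs
  let e : H ≃ₗ[R] LinearMap.ker g :=
    (LinearEquiv.ofInjective ι hι).trans (LinearEquiv.ofEq _ _ (LinearMap.exact_iff.1 h1).symm)
  exact Module.Finite.equiv e.symm

include hι hπ h1 h2 in
/-- in an exact sequence `0 → H → W → P → W' → 0` with `W` finite projective and `P`, `W'` projective,
`H` is finite projective -/
theorem finite_projective_of_four [Module.Finite R W] [Module.Projective R W]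
    [Module.Projective R Pq] [Module.Projective R Wq] :
    Module.Finite R H ∧ Module.Projective R H := by
  obtain ⟨ρ, hρ⟩ := exists_retraction_of_four g π hπ h2
  haveI : Module.Projective R (LinearMap.ker g) :=
    Module.Projective.of_split (LinearMap.ker g).subtype ρ hρ
  let e : H ≃ₗ[R] LinearMap.ker g :=
    (LinearEquiv.ofInjective ι hι).trans (LinearEquiv.ofEq _ _ (LinearMap.exact_iff.1 h1).symm)
  exact ⟨finite_of_four ι g π hι hπ h1 h2, Module.Projective.of_equiv e.symm⟩

end Four

section Cx

variable {R : Type u} [CommRing R] (P : ChainComplex (ModuleCat.{u} R) ℤ)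
  (hP : ∀ i, Module.Finite R (P.X i) ∧ Module.Projective R (P.X i))

include hP in
theorem finitePresentation_opcycles' (q : ℤ) : Module.FinitePresentation R (P.opcycles q) := by
  haveI := (hP q).1
  haveI := (hP q).2
  haveI := (hP ((ComplexShape.down ℤ).prev q)).1
  haveI : Module.FinitePresentation R (P.X q) := Module.finitePresentation_of_projective R _
  exact finitePresentation_opcycles P q

include hP in
theorem projective_opcycles_of_flat (q : ℤ) [Module.Flat R (P.opcycles q)] :
    Module.Projective R (P.opcycles q) := by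
  haveI := finitePresentation_opcycles' P hP q
  exact Module.Flat.projective_of_finitePresentation

include hP in
/-- finite projective terms are preserved by base change -/
theorem finite_projective_bcCx (R' : Type u) [CommRing R'] [Algebra R R'] (i : ℤ) :
    Module.Finite R' ((CohIII.bcCx (algebraMap R R') P).X i) ∧
      Module.Projective R' ((CohIII.bcCx (algebraMap R R') P).X i) := by
  haveI := (hP i).1
  haveI := (hP i).2
  exact ⟨Module.Finite.equiv (Groth.Agent.S2380.bridge R R' (P.X i)).symm,
    Module.Projective.of_equiv (Groth.Agent.S2380.bridge R R' (P.X i)).symm⟩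

include hP in
/-- **flat opcycles in two consecutive degrees give finite projective homology** -/
theorem finite_projective_homology (k : ℤ) [Module.Flat R (P.opcycles (k - 1))]
    [Module.Flat R (P.opcycles k)] :
    Module.Finite R (P.homology k) ∧ Module.Projective R (P.homology k) := by
  haveI := projective_opcycles_of_flat P hP (k - 1)
  haveI := projective_opcycles_of_flat P hP k
  haveI := (hP (k - 1)).2
  haveI := (hP k).1
  haveI : Module.Finite R (P.opcycles k) := finite_opcycles P k
  have hrel : (ComplexShape.down ℤ).Rel k (k - 1) := by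
    change k - 1 + 1 = k
    ring
  exact finite_projective_of_four (P.homologyι k).hom (P.fromOpcycles k (k - 1)).hom
    (P.pOpcycles (k - 1)).hom ((ModuleCat.mono_iff_injective _).mp inferInstance)
    ((ModuleCat.epi_iff_surjective _).mp inferInstance)
    (exact_homologyι_fromOpcycles P k (k - 1) ((ComplexShape.down ℤ).next_eq' hrel))
    (exact_fromOpcycles_pOpcycles P k (k - 1) ((ComplexShape.down ℤ).prev_eq' hrel))

include hP in
theorem flat_opcycles_of_flat_homology (k : ℤ) [Module.Flat R (P.opcycles (k - 1))]
    [Module.Flat R (P.homology k)] : Module.Flat R (P.opcycles k) := by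
  haveI : Module.Flat R (P.X (k - 1)) := by
    haveI := (hP (k - 1)).2
    infer_instance
  have hrel : (ComplexShape.down ℤ).Rel k (k - 1) := by
    change k - 1 + 1 = k
    ring
  exact (flat_opcycles_iff_flat_homology P k (k - 1) hrel).2 inferInstance

include hP in
/-- the opcycles of a base change are flat if the base change lands in the free locus -/
theorem flat_bcCx_opcycles_of_freeLocus (R' : Type u) [CommRing R'] [Algebra R R'] (q : ℤ)
    (h : ∀ x' : PrimeSpectrum R',
      PrimeSpectrum.comap (algebraMap R R') x' ∈ Module.freeLocus R (P.opcycles q)) :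
    Module.Flat R' ((CohIII.bcCx (algebraMap R R') P).opcycles q) := by
  haveI := finitePresentation_opcycles' (CohIII.bcCx (algebraMap R R') P)
    (finite_projective_bcCx P hP R') q
  let e : (CohIII.bcCx (algebraMap R R') P).opcycles q ≃ₗ[R'] R' ⊗[R] (P.opcycles q) :=
    (bcOpcyclesIso R' P q).toLinearEquiv ≪≫ₗ Groth.Agent.S2380.bridge R R' (P.opcycles q)
  have h1 : Module.freeLocus R' ((CohIII.bcCx (algebraMap R R') P).opcycles q) = Set.univ := by
    rw [Module.freeLocus_congr e]
    exact Set.eq_univ_of_forall fun x' => Module.comap_freeLocus_le (h x')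
  haveI : Module.Projective R' ((CohIII.bcCx (algebraMap R R') P).opcycles q) :=
    Module.freeLocus_eq_univ_iff.1 h1
  infer_instance

end Cx

section Tower

variable {R A' K : Type u} [CommRing R] [CommRing A'] [CommRing K] [Algebra R A'] [Algebra R K]
  [Algebra A' K] [IsScalarTower R A' K]

/-- the identity `K_R → K_R'`, where `K_R'` is `K` as an `R`-module through `A'` -/
def towerLin : (BA R K : Type u) →ₗ[R]
    ((ModuleCat.restrictScalars.{u} (algebraMap R A')).obj (ModuleCat.of A' K) : Type u) where
  toFun b := b
  map_add' _ _ := rfl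
  map_smul' r b := by
    change (algebraMap R K r) • (show K from b) = (algebraMap R A' r) • (show K from b)
    rw [algebraMap_smul, algebraMap_smul]

/-- the identity `K_R' → K_R` -/
def towerLinInv : ((ModuleCat.restrictScalars.{u} (algebraMap R A')).obj (ModuleCat.of A' K) : Type u)
    →ₗ[R] (BA R K : Type u) where
  toFun b := b
  map_add' _ _ := rfl
  map_smul' r b := by
    change (algebraMap R A' r) • (show K from b) = (algebraMap R K r) • (show K from b)
    rw [algebraMap_smul, algebraMap_smul]

/-- `K` as an `R`-module, in its two guises -/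
def towerIso : BA R K ≅ (ModuleCat.restrictScalars.{u} (algebraMap R A')).obj (ModuleCat.of A' K) where
  hom := @ModuleCat.ofHom R _ (BA R K : Type u)
    ((ModuleCat.restrictScalars.{u} (algebraMap R A')).obj (ModuleCat.of A' K) : Type u)
    _ (BA R K).isModule _
    ((ModuleCat.restrictScalars.{u} (algebraMap R A')).obj (ModuleCat.of A' K)).isModule
    (towerLin (R := R) (A' := A') (K := K))
  inv := @ModuleCat.ofHom R _
    ((ModuleCat.restrictScalars.{u} (algebraMap R A')).obj (ModuleCat.of A' K) : Type u)
    (BA R K : Type u) _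
    ((ModuleCat.restrictScalars.{u} (algebraMap R A')).obj (ModuleCat.of A' K)).isModule
    _ (BA R K).isModule
    (towerLinInv (R := R) (A' := A') (K := K))
  hom_inv_id := by
    ext x
    rfl
  inv_hom_id := by
    ext x
    rfl

lemma towerIso_hom_apply (b : BA R K) :
    (towerIso (R := R) (A' := A') (K := K)).hom.hom b = towerLin (R := R) (A' := A') (K := K) b := rfl

theorem surjective_T_map_of_genF (hsurj : Function.Surjective (algebraMap A' K))
    {ι : Type} {c : ComplexShape ι} (P : HomologicalComplex (ModuleCat.{u} R) c) (k : ι)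
    (h : GenF R K (CohIII.TFun P k ⋙ forget₂ (ModuleCat.{u} R) AddCommGrpCat.{u})) :
    Function.Surjective ((CohIII.TFun (CohIII.bcCx (algebraMap R A') P) k).map
      (ModuleCat.ofHom (Algebra.linearMap A' K) : ModuleCat.of A' A' ⟶ ModuleCat.of A' K)).hom := by
  let ρ := ModuleCat.restrictScalars.{u} (algebraMap R A')
  let T := CohIII.TFun P k ⋙ forget₂ (ModuleCat.{u} R) AddCommGrpCat.{u}
  let T' := CohIII.TFun (CohIII.bcCx (algebraMap R A') P) k ⋙
    forget₂ (ModuleCat.{u} A') AddCommGrpCat.{u}
  let τ : ρ ⋙ T ≅ T' := TFunBcIso A' P k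
  let π' : ModuleCat.of A' A' ⟶ ModuleCat.of A' K := ModuleCat.ofHom (Algebra.linearMap A' K)
  let j := towerIso (R := R) (A' := A') (K := K)
  have hmap : ∀ {M N L : ModuleCat.{u} R} (u : M ⟶ N) (v : N ⟶ L) (x : T.obj M),
      (T.map v).hom ((T.map u).hom x) = (T.map (u ≫ v)).hom x := fun u v x => by
    rw [T.map_comp]
    rfl
  have key : ∀ z : T.obj (BA R K), z ∈ AddSubmonoid.closure
      {y | ∃ (b : K) (x : T.obj (ModuleCat.of R R)),
        y = (T.map (mulB R K b)).hom ((T.map (θ (idB R K 1))).hom x)} →
      ∃ w : T.obj (ρ.obj (ModuleCat.of A' A')), (T.map (ρ.map π')).hom w = (T.map j.hom).hom z := by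
    intro z hz
    induction hz using AddSubmonoid.closure_induction with
    | mem z hz =>
      obtain ⟨b, x, rfl⟩ := hz
      obtain ⟨a', ha'⟩ := hsurj b
      refine ⟨(T.map (θ (M := ρ.obj (ModuleCat.of A' A')) a')).hom x, ?_⟩
      rw [hmap, hmap, hmap]
      congr 3
      apply ModuleCat.hom_ext
      apply LinearMap.ext_ring
      have e1 : (θ (M := ρ.obj (ModuleCat.of A' A')) a').hom (1 : R) = a' :=
        (θ_apply _ _).trans (one_smul R _)
      have e2 : (θ (idB R K 1)).hom (1 : R) = idB R K 1 := (θ_apply _ _).trans (one_smul R _)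
      change (ρ.map π').hom ((θ (M := ρ.obj (ModuleCat.of A' A')) a').hom (1 : R)) =
        j.hom.hom ((mulB R K b).hom ((θ (idB R K 1)).hom (1 : R)))
      rw [e1, e2, mulB_apply, towerIso_hom_apply]
      change algebraMap A' K a' = b * 1
      rw [mul_one, ha']
    | zero => exact ⟨0, by rw [map_zero, map_zero]⟩
    | add z₁ z₂ _ _ h₁ h₂ =>
      obtain ⟨w₁, hw₁⟩ := h₁
      obtain ⟨w₂, hw₂⟩ := h₂
      exact ⟨w₁ + w₂, by rw [map_add, map_add, hw₁, hw₂]⟩
  intro y'
  set y := (τ.inv.app (ModuleCat.of A' K)).hom y' with hy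
  obtain ⟨w, hw⟩ := key ((T.map j.inv).hom y) (h _)
  rw [hmap, j.inv_hom_id, T.map_id] at hw
  have hw' : (T.map (ρ.map π')).hom w = y := hw
  refine ⟨(τ.hom.app (ModuleCat.of A' A')).hom w, ?_⟩
  have hn := congrArg (fun φ => φ.hom w) (τ.hom.naturality π')
  have h2 : (τ.hom.app (ModuleCat.of A' K)).hom y = y' :=
    congrArg (fun φ => φ.hom y') (τ.inv_hom_id_app (ModuleCat.of A' K))
  refine Eq.trans ?_ h2
  rw [← hw']
  exact hn.symm

end Tower

section Prime

variable {R K : Type u} [CommRing R] [CommRing K] [Algebra R K]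
  (hK1 : Nontrivial K) (hK2 : ∀ r : R, algebraMap R K r = 0 ∨ IsUnit (algebraMap R K r))
  (hK3 : ∀ b : K, ∃ a t : R, IsUnit (algebraMap R K t) ∧ b * algebraMap R K t = algebraMap R K a)

include hK1 hK2 in
theorem isPrime_ker : (RingHom.ker (algebraMap R K)).IsPrime := by
  refine ⟨?_, ?_⟩
  · exact RingHom.ker_ne_top _
  · intro a b hab
    rw [RingHom.mem_ker, map_mul] at hab
    rcases hK2 a with ha | ha
    · exact Or.inl ha
    · exact Or.inr ((ha.mul_right_eq_zero).1 hab)

/-- the point of `Spec R` cut out by the "residue field" `K` -/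
def kerPt : PrimeSpectrum R := ⟨RingHom.ker (algebraMap R K), isPrime_ker hK1 hK2⟩

include hK3 in
/-- **Surjectivity of the base change map at a point forces the next opcycles to be free at that point.** -/
theorem mem_freeLocus_of_genF (P : ChainComplex (ModuleCat.{u} R) ℤ)
    (hP : ∀ i, Module.Finite R (P.X i) ∧ Module.Projective R (P.X i)) (k : ℤ)
    (h : GenF R K (CohIII.TFun P k ⋙ forget₂ (ModuleCat.{u} R) AddCommGrpCat.{u})) :
    kerPt hK1 hK2 ∈ Module.freeLocus R (P.opcycles (k - 1)) := by
  set x := kerPt (K := K) hK1 hK2 with hx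
  let A' := Localization.AtPrime x.asIdeal
  have hunits : ∀ y : x.asIdeal.primeCompl, IsUnit (algebraMap R K y) := fun y => by
    rcases hK2 y with h0 | hu
    · exact absurd h0 y.2
    · exact hu
  letI : Algebra A' K := (IsLocalization.lift (M := x.asIdeal.primeCompl) (S := A') hunits).toAlgebra
  haveI : IsScalarTower R A' K := IsScalarTower.of_algebraMap_eq fun r =>
    (IsLocalization.lift_eq (M := x.asIdeal.primeCompl) (S := A') hunits r).symm
  let K' : ModuleCat.{u} A' := ModuleCat.of A' K
  let π' : ModuleCat.of A' A' ⟶ K' := ModuleCat.ofHom (Algebra.linearMap A' K)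
  have hπ' : ∀ a' : A', π'.hom a' = algebraMap A' K a' := fun a' => rfl
  have hmk : ∀ (a : R) (t : x.asIdeal.primeCompl),
      algebraMap A' K (IsLocalization.mk' A' a t) * algebraMap R K t = algebraMap R K a := by
    intro a t
    have h1 := IsLocalization.mk'_spec A' a t
    have h2 := congrArg (algebraMap A' K) h1
    rw [map_mul, ← IsScalarTower.algebraMap_apply, ← IsScalarTower.algebraMap_apply] at h2
    exact h2
  have hsurj : Function.Surjective π'.hom := by
    intro b
    obtain ⟨a, t, ht, hb⟩ := hK3 b
    have htm : t ∈ x.asIdeal.primeCompl := fun h0 => by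
      have : algebraMap R K t = 0 := h0
      rw [this] at ht
      exact not_isUnit_zero ht
    refine ⟨IsLocalization.mk' A' a ⟨t, htm⟩, ?_⟩
    rw [hπ']
    have h3 := hmk a ⟨t, htm⟩
    exact ht.mul_left_injective (h3.trans hb.symm)
  have hker : ∀ a' : A', π'.hom a' = 0 ↔ a' ∈ IsLocalRing.maximalIdeal A' := by
    intro a'
    obtain ⟨a, t, rfl⟩ := IsLocalization.exists_mk'_eq x.asIdeal.primeCompl a'
    rw [hπ', IsLocalization.AtPrime.mk'_mem_maximal_iff A' x.asIdeal]
    have h3 := hmk a t
    constructor
    · intro h0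
      rw [h0, zero_mul] at h3
      exact h3.symm
    · intro ha
      have : algebraMap R K a = 0 := ha
      rw [this] at h3
      exact ((hunits t).mul_left_eq_zero).1 h3
  let Q' := CohIII.bcCx (algebraMap R A') P
  have hP' : ∀ i, Module.Finite A' (Q'.X i) ∧ Module.Projective A' (Q'.X i) := fun i => by
    haveI := (hP i).1
    haveI := (hP i).2
    exact ⟨Module.Finite.equiv (Groth.Agent.S2380.bridge R A' (P.X i)).symm,
      Module.Projective.of_equiv (Groth.Agent.S2380.bridge R A' (P.X i)).symm⟩
  have hrel : (ComplexShape.down ℤ).Rel k (k - 1) := by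
    change k - 1 + 1 = k
    ring
  have hT : Function.Surjective ((CohIII.TFun Q' k).map π').hom :=
    surjective_T_map_of_genF (R := R) (A' := A') (K := K) hsurj P k h
  haveI := free_opcycles_of_surjective' Q' hP' k (k - 1) hrel K' π' hker hsurj hT
  haveI := (hP (k - 1)).1
  exact (flat_bcCx_opcycles_atPrime_iff P (k - 1) x).1 Module.Flat.of_free

end Prime

end Groth.Agent.Lib.R2H2.GenFAlg
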