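import Mathlib
import Groth.Prelude
import Groth.Agent.Lib.R2H2GenFAlg

set_option autoImplicit false
set_option backward.isDefEq.respectTransparency.types false
set_option linter.style.haveILetI false
set_option linter.unusedSectionVars false

open CategoryTheory CategoryTheory.Limits MonoidalCategory TensorProduct

universe u

namespace Groth.Agent.Lib.R2H2.FibreAlg

open Groth.Agent.Lib.Helper3 Groth.Agent.Lib.R2H2.BcLocal Groth.Agent.Lib.R2H2.ABC
  Groth.Agent.Lib.R2H2.GenFAlg Groth.Agent.Lib.Helper16.TensorCmp Groth.Agent.Lib.R2H2.BcTFun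

section Local

variable {A : Type u} [CommRing A] [IsLocalRing A]

/-- Nakayama: a finite module over a local ring vanishes if its tensor with (a model of) the residue
field does -/
theorem subsingleton_of_subsingleton_tensor (H K : Type u) [AddCommGroup H] [Module A H]
    [Module.Finite A H] [AddCommGroup K] [Module A K] (π : A →ₗ[A] K)
    (hker : ∀ a : A, π a = 0 ↔ a ∈ IsLocalRing.maximalIdeal A) (hsurj : Function.Surjective π)
    (h : Subsingleton (H ⊗[A] K)) : Subsingleton H := by
  have hk : LinearMap.ker π = IsLocalRing.maximalIdeal A := by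
    ext a
    exact hker a
  let e1 : (A ⧸ LinearMap.ker π) ≃ₗ[A] K := LinearMap.quotKerEquivOfSurjective π hsurj
  let e2 : (A ⧸ LinearMap.ker π) ≃ₗ[A] IsLocalRing.ResidueField A := Submodule.quotEquivOfEq _ _ hk
  let e : K ≃ₗ[A] IsLocalRing.ResidueField A := e1.symm ≪≫ₗ e2
  have h3 : Subsingleton (IsLocalRing.ResidueField A ⊗[A] H) :=
    (TensorProduct.comm A _ _ ≪≫ₗ TensorProduct.congr (LinearEquiv.refl A H) e.symm).toEquiv.subsingleton
  exact IsLocalRing.subsingleton_tensorProduct.1 h3

/-- over a local ring, vanishing of `T_k` at the residue field makes the opcycles in degrees `k - 1` and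
`k` flat -/
theorem flat_opcycles_of_subsingleton_T (P : ChainComplex (ModuleCat.{u} A) ℤ)
    (hP : ∀ i, Module.Finite A (P.X i) ∧ Module.Projective A (P.X i)) (k : ℤ)
    (K : ModuleCat.{u} A) (π : ModuleCat.of A A ⟶ K)
    (hker : ∀ a : A, π.hom a = 0 ↔ a ∈ IsLocalRing.maximalIdeal A)
    (hsurj : Function.Surjective π.hom)
    (h : Subsingleton ((CohIII.TFun P k).obj K)) :
    Module.Flat A (P.opcycles (k - 1)) ∧ Module.Flat A (P.opcycles k) := by
  have hrel : (ComplexShape.down ℤ).Rel k (k - 1) := by
    change k - 1 + 1 = k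
    ring
  haveI : Module.Free A (P.opcycles (k - 1)) :=
    free_opcycles_of_surjective' P hP k (k - 1) hrel K π hker hsurj
      (fun y => ⟨0, Subsingleton.elim _ _⟩)
  haveI : Module.Flat A (P.opcycles (k - 1)) := Module.Flat.of_free
  refine ⟨inferInstance, ?_⟩
  haveI := (hP (k - 1)).2
  haveI := (hP k).1
  haveI : Module.Flat A (P.X (k - 1)) := inferInstance
  haveI : Module.Projective A (P.opcycles (k - 1)) := Module.Projective.of_free
  haveI : Module.Finite A (P.opcycles k) := finite_opcycles P k
  let e := thetaIso P k (k - 1) hrel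
  have hsub : Subsingleton ((P.homology k : Type u) ⊗[A] (K : Type u)) :=
    (e.app K).toLinearEquiv.toEquiv.subsingleton
  haveI : Module.Finite A (P.homology k) :=
    finite_of_four (P.homologyι k).hom (P.fromOpcycles k (k - 1)).hom
      (P.pOpcycles (k - 1)).hom ((ModuleCat.mono_iff_injective _).mp inferInstance)
      ((ModuleCat.epi_iff_surjective _).mp inferInstance)
      (exact_homologyι_fromOpcycles P k (k - 1) ((ComplexShape.down ℤ).next_eq' hrel))
      (exact_fromOpcycles_pOpcycles P k (k - 1) ((ComplexShape.down ℤ).prev_eq' hrel))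
  haveI : Subsingleton (P.homology k) :=
    subsingleton_of_subsingleton_tensor (P.homology k) K π.hom hker hsurj hsub
  haveI : Module.Flat A (P.homology k) := Module.Flat.of_free
  exact flat_opcycles_of_flat_homology P hP k

end Local

section Prime

variable {R K : Type u} [CommRing R] [CommRing K] [Algebra R K]
  (hK1 : Nontrivial K) (hK2 : ∀ r : R, algebraMap R K r = 0 ∨ IsUnit (algebraMap R K r))
  (hK3 : ∀ b : K, ∃ a t : R, IsUnit (algebraMap R K t) ∧ b * algebraMap R K t = algebraMap R K a)

include hK3 in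
/-- **Vanishing of `T_k` at a point forces the opcycles in degrees `k - 1` and `k` to be free at that
point.** -/
theorem mem_freeLocus_of_subsingleton_T (P : ChainComplex (ModuleCat.{u} R) ℤ)
    (hP : ∀ i, Module.Finite R (P.X i) ∧ Module.Projective R (P.X i)) (k : ℤ)
    (h : Subsingleton ((CohIII.TFun P k).obj (BA R K))) :
    kerPt hK1 hK2 ∈ Module.freeLocus R (P.opcycles (k - 1)) ∧
      kerPt hK1 hK2 ∈ Module.freeLocus R (P.opcycles k) := by
  set x := kerPt (K := K) hK1 hK2 with hx
  let A' := Localization.AtPrime x.asIdeal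
  have hunits : ∀ y : x.asIdeal.primeCompl, IsUnit (algebraMap R K y) := fun y => by
    rcases hK2 y with h0 | hu
    · exact absurd h0 y.2
    · exact hu
  letI : Algebra A' K := (IsLocalization.lift (M := x.asIdeal.primeCompl) (S := A') hunits).toAlgebra
  haveI : IsScalarTower R A' K := IsScalarTower.of_algebraMap_eq fun r =>
    (IsLocalization.lift_eq (M := x.asIdeal.primeCompl) (S := A') hunits r).symm
  let K' : ModuleCat.{u} A' := ModuleCat.of A' K
  let π' : ModuleCat.of A' A' ⟶ K' := ModuleCat.ofHom (Algebra.linearMap A' K)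
  have hπ' : ∀ a' : A', π'.hom a' = algebraMap A' K a' := fun a' => rfl
  have hmk : ∀ (a : R) (t : x.asIdeal.primeCompl),
      algebraMap A' K (IsLocalization.mk' A' a t) * algebraMap R K t = algebraMap R K a := by
    intro a t
    have h1 := IsLocalization.mk'_spec A' a t
    have h2 := congrArg (algebraMap A' K) h1
    rw [map_mul, ← IsScalarTower.algebraMap_apply, ← IsScalarTower.algebraMap_apply] at h2
    exact h2
  have hsurj : Function.Surjective π'.hom := by
    intro b
    obtain ⟨a, t, ht, hb⟩ := hK3 b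
    have htm : t ∈ x.asIdeal.primeCompl := fun h0 => by
      have : algebraMap R K t = 0 := h0
      rw [this] at ht
      exact not_isUnit_zero ht
    refine ⟨IsLocalization.mk' A' a ⟨t, htm⟩, ?_⟩
    rw [hπ']
    have h3 := hmk a ⟨t, htm⟩
    exact ht.mul_left_injective (h3.trans hb.symm)
  have hker : ∀ a' : A', π'.hom a' = 0 ↔ a' ∈ IsLocalRing.maximalIdeal A' := by
    intro a'
    obtain ⟨a, t, rfl⟩ := IsLocalization.exists_mk'_eq x.asIdeal.primeCompl a'
    rw [hπ', IsLocalization.AtPrime.mk'_mem_maximal_iff A' x.asIdeal]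
    have h3 := hmk a t
    constructor
    · intro h0
      rw [h0, zero_mul] at h3
      exact h3.symm
    · intro ha
      have : algebraMap R K a = 0 := ha
      rw [this] at h3
      exact ((hunits t).mul_left_eq_zero).1 h3
  let Q' := CohIII.bcCx (algebraMap R A') P
  have hP' : ∀ i, Module.Finite A' (Q'.X i) ∧ Module.Projective A' (Q'.X i) :=
    finite_projective_bcCx P hP A'
  let ρ := ModuleCat.restrictScalars.{u} (algebraMap R A')
  let T := CohIII.TFun P k ⋙ forget₂ (ModuleCat.{u} R) AddCommGrpCat.{u}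
  let T' := CohIII.TFun Q' k ⋙ forget₂ (ModuleCat.{u} A') AddCommGrpCat.{u}
  let τ : ρ ⋙ T ≅ T' := TFunBcIso A' P k
  let j := towerIso (R := R) (A' := A') (K := K)
  let i0 : T'.obj K' ≅ T.obj (BA R K) := (τ.app K').symm ≪≫ T.mapIso j.symm
  haveI : Subsingleton (T.obj (BA R K)) := h
  have hsub : Subsingleton ((CohIII.TFun Q' k).obj K') :=
    (i0.addCommGroupIsoToAddEquiv).toEquiv.subsingleton
  obtain ⟨hf1, hf2⟩ := flat_opcycles_of_subsingleton_T Q' hP' k K' π' hker hsurj hsub
  haveI := (hP (k - 1)).1
  haveI := (hP k).1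
  exact ⟨(flat_bcCx_opcycles_atPrime_iff P (k - 1) x).1 hf1,
    (flat_bcCx_opcycles_atPrime_iff P k x).1 hf2⟩

end Prime

end Groth.Agent.Lib.R2H2.FibreAlg
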