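import Mathlib
import Groth.Prelude
import Groth.Agent.Lib.R2H2BcLocal
set_option backward.isDefEq.respectTransparency.types false
set_option autoImplicit false
set_option linter.unusedSectionVars false
set_option linter.style.haveILetI false
universe u
open CategoryTheory AlgebraicGeometry TopologicalSpace Opposite

noncomputable section

namespace Groth.Agent.Lib.R2H2.FibreFP

open Groth.Agent.Lib.R2H2.BcLocal

variable {S : Scheme.{u}} (s : S) {W : S.Opens} (hW : IsAffineOpen W) (hs : s ∈ W)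

include hW in
theorem fromSpecResidueField_eq :
    S.fromSpecResidueField s = Spec.map (S.evaluation W s hs) ≫ hW.fromSpec := by
  unfold Scheme.fromSpecResidueField
  rw [← hW.fromSpecStalk_eq_fromSpecStalk hs, IsAffineOpen.fromSpecStalk, ← Category.assoc,
    ← Spec.map_comp]
  rfl

include hW in
theorem evaluation_fp (k : S.residueField s) :
    ∃ a t : Γ(S, W), IsUnit (S.evaluation W s hs t) ∧
      k * S.evaluation W s hs t = S.evaluation W s hs a := by
  obtain ⟨z, rfl⟩ := S.residue_surjective s k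
  letI := S.presheaf.algebra_section_stalk ⟨s, hs⟩
  haveI := hW.isLocalization_stalk ⟨s, hs⟩
  obtain ⟨⟨a, t⟩, h⟩ := IsLocalization.surj (hW.primeIdealOf ⟨s, hs⟩).asIdeal.primeCompl z
  refine ⟨a, t, ?_, ?_⟩
  · have hu : IsUnit (algebraMap Γ(S, W) (S.presheaf.stalk s) t) :=
      IsLocalization.map_units _ t
    exact hu.map (S.residue s).hom
  · have := congrArg (S.residue s).hom h
    rw [map_mul] at this
    exact this

include hs in
theorem preimage_eq_top : (S.fromSpecResidueField s) ⁻¹ᵁ W = ⊤ := by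
  refine top_unique fun z _ => ?_
  change (S.fromSpecResidueField s) z ∈ W
  rw [Scheme.fromSpecResidueField_apply]
  exact hs

include hs in
theorem isAffineOpen_preimage : IsAffineOpen ((S.fromSpecResidueField s) ⁻¹ᵁ W) := by
  rw [preimage_eq_top s hs]
  exact isAffineOpen_top _

theorem isIso_ι_of_eq_top {X : Scheme.{u}} (U : X.Opens) (h : U = ⊤) : IsIso U.ι := by
  subst h
  exact inferInstanceAs (IsIso (Scheme.topIso X).hom)

include hW hs in
/-- the restriction of `Spec κ(s) ⟶ S` over the affine open `W`, through the evaluation map -/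
theorem resLE_eq :
    (S.fromSpecResidueField s).resLE W ((S.fromSpecResidueField s) ⁻¹ᵁ W) le_rfl =
      ((S.fromSpecResidueField s) ⁻¹ᵁ W).ι ≫ Spec.map (S.evaluation W s hs) ≫ hW.isoSpec.inv := by
  rw [← cancel_mono W.ι, Scheme.Hom.resLE_comp_ι, Category.assoc, Category.assoc]
  congr 1
  exact fromSpecResidueField_eq s hW hs

include hW hs in
/-- the ring map `Γ(W, O) → Γ(g⁻¹W, O)` is the evaluation at `s` up to isomorphisms -/
theorem exists_factorization :
    ∃ (e₁ : Γ((W : Scheme.{u}), ⊤) ≅ Γ(S, W))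
      (e₂ : S.residueField s ≅ Γ((((S.fromSpecResidueField s) ⁻¹ᵁ W : (Spec (S.residueField s)).Opens) :
        Scheme.{u}), ⊤)),
      ((S.fromSpecResidueField s).resLE W ((S.fromSpecResidueField s) ⁻¹ᵁ W) le_rfl).appTop =
        e₁.hom ≫ S.evaluation W s hs ≫ e₂.hom := by
  haveI : IsIso ((S.fromSpecResidueField s) ⁻¹ᵁ W).ι :=
    isIso_ι_of_eq_top _ (preimage_eq_top s hs)
  haveI : IsIso (((S.fromSpecResidueField s) ⁻¹ᵁ W).ι).appTop :=
    inferInstanceAs (IsIso (Scheme.Γ.map ((S.fromSpecResidueField s) ⁻¹ᵁ W).ι.op))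
  haveI : IsIso (hW.isoSpec.inv).appTop :=
    inferInstanceAs (IsIso (Scheme.Γ.map hW.isoSpec.inv.op))
  refine ⟨asIso (hW.isoSpec.inv).appTop ≪≫ Scheme.ΓSpecIso Γ(S, W),
    (Scheme.ΓSpecIso (S.residueField s)).symm ≪≫
      asIso (((S.fromSpecResidueField s) ⁻¹ᵁ W).ι).appTop, ?_⟩
  rw [resLE_eq s hW hs, Scheme.Hom.comp_appTop, Scheme.Hom.comp_appTop]
  simp only [Iso.trans_hom, asIso_hom, Iso.symm_hom, Category.assoc]
  rw [← Scheme.ΓSpecIso_naturality_assoc, Iso.hom_inv_id_assoc]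

include hW hs in
/-- **`Γ(g⁻¹W, O)` is the residue field of `Γ(W, O)` at `s`**, for `g : Spec κ(s) ⟶ S`. -/
theorem fibre_fp :
    letI := algW (S.fromSpecResidueField s) (le_refl ((S.fromSpecResidueField s) ⁻¹ᵁ W))
    Nontrivial Γ((((S.fromSpecResidueField s) ⁻¹ᵁ W : (Spec (S.residueField s)).Opens) : Scheme.{u}), ⊤) ∧
      (∀ r : Γ((W : Scheme.{u}), ⊤),
        algebraMap Γ((W : Scheme.{u}), ⊤)
          Γ((((S.fromSpecResidueField s) ⁻¹ᵁ W : (Spec (S.residueField s)).Opens) : Scheme.{u}), ⊤) r = 0 ∨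
        IsUnit (algebraMap Γ((W : Scheme.{u}), ⊤)
          Γ((((S.fromSpecResidueField s) ⁻¹ᵁ W : (Spec (S.residueField s)).Opens) : Scheme.{u}), ⊤) r)) ∧
      (∀ b : Γ((((S.fromSpecResidueField s) ⁻¹ᵁ W : (Spec (S.residueField s)).Opens) : Scheme.{u}), ⊤),
        ∃ a t : Γ((W : Scheme.{u}), ⊤),
          IsUnit (algebraMap Γ((W : Scheme.{u}), ⊤)
            Γ((((S.fromSpecResidueField s) ⁻¹ᵁ W : (Spec (S.residueField s)).Opens) : Scheme.{u}), ⊤) t) ∧
          b * algebraMap Γ((W : Scheme.{u}), ⊤)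
            Γ((((S.fromSpecResidueField s) ⁻¹ᵁ W : (Spec (S.residueField s)).Opens) : Scheme.{u}), ⊤) t =
            algebraMap Γ((W : Scheme.{u}), ⊤)
              Γ((((S.fromSpecResidueField s) ⁻¹ᵁ W : (Spec (S.residueField s)).Opens) : Scheme.{u}), ⊤) a) := by
  letI := algW (S.fromSpecResidueField s) (le_refl ((S.fromSpecResidueField s) ⁻¹ᵁ W))
  obtain ⟨e₁, e₂, he⟩ := exists_factorization s hW hs
  have hι : ∀ r : Γ((W : Scheme.{u}), ⊤),
      algebraMap Γ((W : Scheme.{u}), ⊤)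
        Γ((((S.fromSpecResidueField s) ⁻¹ᵁ W : (Spec (S.residueField s)).Opens) : Scheme.{u}), ⊤) r =
      e₂.hom.hom (S.evaluation W s hs (e₁.hom.hom r)) := fun r =>
    congrArg (fun φ => φ.hom r) he
  have h21 : ∀ k : S.residueField s, e₂.inv.hom (e₂.hom.hom k) = k := fun k =>
    congrArg (fun φ => φ.hom k) e₂.hom_inv_id
  have h12 : ∀ b, e₂.hom.hom (e₂.inv.hom b) = b := fun b =>
    congrArg (fun φ => φ.hom b) e₂.inv_hom_id
  have h11 : ∀ a : Γ(S, W), e₁.hom.hom (e₁.inv.hom a) = a := fun a =>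
    congrArg (fun φ => φ.hom a) e₁.inv_hom_id
  refine ⟨?_, ?_, ?_⟩
  · exact (e₂.inv.hom).domain_nontrivial
  · intro r
    rw [hι]
    rcases eq_or_ne (S.evaluation W s hs (e₁.hom.hom r)) 0 with h0 | h0
    · left
      rw [h0, map_zero]
    · right
      exact (IsUnit.mk0 _ h0).map e₂.hom.hom
  · intro b
    obtain ⟨a₀, t₀, hu, hk⟩ := evaluation_fp s hW hs (e₂.inv.hom b)
    refine ⟨e₁.inv.hom a₀, e₁.inv.hom t₀, ?_, ?_⟩
    · rw [hι, h11]
      exact hu.map e₂.hom.hom
    · rw [hι, hι, h11, h11, ← hk, map_mul, h12]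

end Groth.Agent.Lib.R2H2.FibreFP
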