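import Mathlib
import Groth.Prelude
import Groth.Agent.Lib.R2H2LocalCBC2
set_option backward.isDefEq.respectTransparency.types false

/-!
# Cohomology and base change over an arbitrary base, locally III (helper2, round 2)

Vanishing and local freeness of `(R^p f_* F)|_V` for small affine opens `V` from the rank function of
Grothendieck's complex of a local Noetherian model.
-/

set_option autoImplicit false
set_option linter.unusedSectionVars false
set_option linter.style.haveILetI false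
universe u
open CategoryTheory CategoryTheory.Limits AlgebraicGeometry TopologicalSpace Opposite

noncomputable section

namespace Groth.Agent.Lib.R2H2.LocalCBC

open Groth.Agent.Lib.R2H2.FibRank Groth.Agent.Lib.R2H2.BcAlg

section Opens

variable {A : Type u} [CommRing A] [IsNoetherianRing A] {X₀ : Scheme.{u}}
  [X₀.Over (Spec (CommRingCat.of A))]
  [IsSeparated (X₀ ↘ Spec (CommRingCat.of A))] [CompactSpace X₀]
  {X S : Scheme.{u}} {f : X ⟶ S} [QuasiCompact f] [QuasiSeparated f] {V₁ : S.Opens}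
  {g : (V₁ : Scheme.{u}) ⟶ Spec (CommRingCat.of A)}
  {g' : ((f ⁻¹ᵁ V₁ : X.Opens) : Scheme.{u}) ⟶ X₀}
  (sq : IsPullback g' (f ∣_ V₁) (X₀ ↘ Spec (CommRingCat.of A)) g)
  (F₀ : X₀.Modules) [F₀.IsQuasicoherent] {F : X.Modules} [F.IsQuasicoherent]
  (ε : (Scheme.Modules.pullback g').obj F₀ ≅ F.restrict (f ⁻¹ᵁ V₁).ι)
  (Q : ChainComplex (ModuleCat.{u} A) ℤ)
  (hQ : ∀ i, Module.Finite A (Q.X i) ∧ Module.Flat A (Q.X i)) (k : ℤ) (p : ℕ)
  (e : CohIII.TFun Q k ⋙ forget₂ (ModuleCat.{u} A) AddCommGrpCat.{u} ≅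
    CohIII.tensorAFunctor A F₀ ⋙ CohIII.HAb X₀ p)
  [HasInjectiveResolutions X.Modules]
  {V : S.Opens} (hV : IsAffineOpen V) (hVV₁ : V ≤ V₁) (a : A)
  (hVa : ∀ z : ↥(V₁ : Scheme.{u}), V₁.ι z ∈ V → g z ∈ PrimeSpectrum.basicOpen a)

include sq ε hQ e hV hVV₁ hVa in
/-- **vanishing of `(R^p f_* F)|_V`** from the vanishing of the rank function on `D(a)` -/
theorem isZero_Rpush_restrict_of_dRank
    (h : ∀ y : PrimeSpectrum A, a ∉ y.asIdeal → CohIII.dRank Q k y = 0) :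
    IsZero (((Coh.Rpush f p).obj F).restrict V.ι) := by
  haveI : IsAffine (V : Scheme.{u}) := hV
  obtain ⟨alg, ov, hov, ha, ⟨l⟩⟩ := exists_linearEquiv_opens sq F₀ ε Q hQ k p e hV hVV₁ a hVa
  haveI := Groth.Agent.Lib.R2H3.RpushRestrict.hasInjectiveResolutions_modules
    ((f ⁻¹ᵁ V : X.Opens) : Scheme.{u})
  haveI : (F.restrict (f ⁻¹ᵁ V).ι).IsQuasicoherent :=
    Scheme.Modules.isQuasicoherent_restrictFunctor (f ⁻¹ᵁ V).ι F
  have h1 : Subsingleton ((CohIII.bcCx (algebraMap A Γ((V : Scheme.{u}), ⊤)) Q).homology k) :=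
    subsingleton_homology_bcCx_of_dRank Q hQ a Γ((V : Scheme.{u}), ⊤) ha k h
  have h2 : Subsingleton (Coh.HH ((f ⁻¹ᵁ V : X.Opens) : Scheme.{u}) (F.restrict (f ⁻¹ᵁ V).ι) p) :=
    @Equiv.subsingleton _ _ l.toEquiv h1
  have hz := Groth.Agent.Lib.R2H2.ProperCoh.isZero_Rpush_of_subsingleton_HH (f ∣_ V)
    (F.restrict (f ⁻¹ᵁ V).ι) p h2
  obtain ⟨ι⟩ := Groth.Agent.Lib.R2H3.RpushRestrict.nonempty_Rpush_restrict_iso f V F p
  exact hz.of_iso ι

include sq ε hQ e hV hVV₁ hVa in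
/-- **local freeness of `(R^p f_* F)|_V`** from the universal vanishing over `A_a` of the neighbouring
`T`-functors -/
theorem isFinLocFree_Rpush_restrict
    (hlo : ∀ M : ModuleCat.{u} (Localization.Away a),
      IsZero ((CohIII.TFun (CohIII.bcCx (algebraMap A (Localization.Away a)) Q) (k - 1)).obj M))
    (hhi : ∀ M : ModuleCat.{u} (Localization.Away a),
      IsZero ((CohIII.TFun (CohIII.bcCx (algebraMap A (Localization.Away a)) Q) (k + 1)).obj M)) :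
    FlatMod.IsFinLocFree (((Coh.Rpush f p).obj F).restrict V.ι) := by
  haveI : IsAffine (V : Scheme.{u}) := hV
  obtain ⟨alg, ov, hov, ha, ⟨l⟩⟩ := exists_linearEquiv_opens sq F₀ ε Q hQ k p e hV hVV₁ a hVa
  haveI := Groth.Agent.Lib.R2H3.RpushRestrict.hasInjectiveResolutions_modules
    ((f ⁻¹ᵁ V : X.Opens) : Scheme.{u})
  haveI : (F.restrict (f ⁻¹ᵁ V).ι).IsQuasicoherent :=
    Scheme.Modules.isQuasicoherent_restrictFunctor (f ⁻¹ᵁ V).ι F
  obtain ⟨h1, h2⟩ := finite_projective_homology_bcCx_away Q hQ a Γ((V : Scheme.{u}), ⊤) ha k hlo hhi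
  haveI : Module.Finite Γ((V : Scheme.{u}), ⊤)
      (Coh.HH ((f ⁻¹ᵁ V : X.Opens) : Scheme.{u}) (F.restrict (f ⁻¹ᵁ V).ι) p) :=
    Module.Finite.equiv l.symm
  haveI : Module.Projective Γ((V : Scheme.{u}), ⊤)
      (Coh.HH ((f ⁻¹ᵁ V : X.Opens) : Scheme.{u}) (F.restrict (f ⁻¹ᵁ V).ι) p) :=
    Module.Projective.of_equiv l.symm
  have hlf := isFinLocFree_Rpush_of_finite_projective (f ∣_ V) hov (F.restrict (f ⁻¹ᵁ V).ι) p
  obtain ⟨ι⟩ := Groth.Agent.Lib.R2H3.RpushRestrict.nonempty_Rpush_restrict_iso f V F p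
  intro x
  obtain ⟨U, n, hxU, ⟨e'⟩⟩ := hlf x
  exact ⟨U, n, hxU, ⟨(Scheme.Modules.restrictFunctor U.ι).mapIso ι ≪≫ e'⟩⟩

end Opens

end Groth.Agent.Lib.R2H2.LocalCBC
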