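import Mathlib
import Groth.Prelude
import Groth.Agent.Lib.R2H2LocalCBC3
set_option backward.isDefEq.respectTransparency.types false

/-!
# Cohomology and base change over an arbitrary base, locally IV (helper2, round 2)

`local_main`: for `f : X ⟶ S` proper and locally of finite presentation, `F` quasi-coherent of finite presentation
and flat over `S`, and `s ∈ S`: an open neighbourhood `V₁` of `s`, a Noetherian ring `A`, a continuous map
`γ : V₁ → Spec A` and a complex `Q` of finite free `A`-modules with `T_i(Q) = 0` for `i > 0`, such that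
* the fibre ranks of `F` over `V₁` are `dRank Q (-p) ∘ γ`;
* for an affine open `V ≤ V₁` mapped by `γ` into `D(a)`: `(R^p f_* F)|_V = 0` when `dRank Q (-p)` vanishes on
  `D(a)`, and `(R^p f_* F)|_V` is finite locally free when `T_{-p ± 1}(Q_a)` vanish universally.
-/

set_option autoImplicit false
set_option linter.unusedSectionVars false
set_option linter.style.haveILetI false
universe u
open CategoryTheory CategoryTheory.Limits AlgebraicGeometry TopologicalSpace Opposite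

noncomputable section

namespace Groth.Agent.Lib.R2H2.LocalCBC

theorem local_main' {X S : Scheme.{u}} (f : X ⟶ S) [IsProper f] [LocallyOfFinitePresentation f]
    [HasInjectiveResolutions X.Modules] (F : X.Modules) [F.IsQuasicoherent]
    (hFP : CohB1.IsFP F) (hfl : FlatMod.IsFlatOver f F) (s : S) :
    ∃ (V₁ : S.Opens) (_ : s ∈ V₁) (A : Type u) (_ : CommRing A) (_ : IsNoetherianRing A)
      (Q : ChainComplex (ModuleCat.{u} A) ℤ) (γ : V₁ → PrimeSpectrum A) (b : ℕ),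
      (∀ i : ℤ, i < 1 - (b : ℤ) → IsZero (Q.X i)) ∧
      Continuous γ ∧ (∀ i, Module.Finite A (Q.X i) ∧ Module.Free A (Q.X i)) ∧
      (∀ i : ℤ, 0 < i → ∀ M : ModuleCat.{u} A, IsZero ((CohIII.TFun Q i).obj M)) ∧
      (∀ (p : ℕ) (t : S) (ht : t ∈ V₁),
        CohIII.fiberRank f F p t = CohIII.dRank Q (-(p : ℤ)) (γ ⟨t, ht⟩)) ∧
      (∀ (p : ℕ) (V : S.Opens) (a : A), IsAffineOpen V → V ≤ V₁ →
        (∀ z : V₁, z.1 ∈ V → a ∉ (γ z).asIdeal) →
        ((∀ y : PrimeSpectrum A, a ∉ y.asIdeal → CohIII.dRank Q (-(p : ℤ)) y = 0) →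
          IsZero (((Coh.Rpush f p).obj F).restrict V.ι)) ∧
        ((∀ M : ModuleCat.{u} (Localization.Away a), IsZero ((CohIII.TFun
            (CohIII.bcCx (algebraMap A (Localization.Away a)) Q) (-(p : ℤ) - 1)).obj M)) →
          (∀ M : ModuleCat.{u} (Localization.Away a), IsZero ((CohIII.TFun
            (CohIII.bcCx (algebraMap A (Localization.Away a)) Q) (-(p : ℤ) + 1)).obj M)) →
          FlatMod.IsFinLocFree (((Coh.Rpush f p).obj F).restrict V.ι))) := by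
  obtain ⟨V₁, hV₁, hsV₁, -⟩ := exists_isAffineOpen_mem_and_subset (x := s) (U := ⊤) trivial
  haveI : IsAffine (V₁ : Scheme.{u}) := hV₁
  haveI : (F.restrict (f ⁻¹ᵁ V₁).ι).IsQuasicoherent :=
    Scheme.Modules.isQuasicoherent_restrictFunctor (f ⁻¹ᵁ V₁).ι F
  have hFP₁ : CohB1.IsFP (F.restrict (f ⁻¹ᵁ V₁).ι) := isFP_restrict (f ⁻¹ᵁ V₁).ι F hFP
  have hfl₁ : FlatMod.IsFlatOver (f ∣_ V₁) (F.restrict (f ⁻¹ᵁ V₁).ι) :=
    isFlatOver_morphismRestrict f V₁ F hfl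
  haveI : IsProper (f ∣_ V₁) := inferInstance
  haveI : LocallyOfFinitePresentation (f ∣_ V₁) := inferInstance
  obtain ⟨X₀, S₀, f₀, g, g', F₀, sq, hS₀, hN, hP, hq, hfp, hfl₀, ⟨iso⟩⟩ :=
    Groth.Agent.Lib.R2H2.NoethModel.exists_affine_model (f ∣_ V₁) (F.restrict (f ⁻¹ᵁ V₁).ι) hFP₁ hfl₁
  haveI := hS₀
  haveI := hN
  haveI := hP
  haveI := hq
  -- the model in `Spec` form
  letI ov : X₀.Over (Spec (CommRingCat.of Γ(S₀, ⊤))) := ⟨f₀ ≫ S₀.isoSpec.hom⟩
  haveI : IsProper (X₀ ↘ Spec (CommRingCat.of Γ(S₀, ⊤))) :=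
    inferInstanceAs (IsProper (f₀ ≫ S₀.isoSpec.hom))
  have hfl₀' : FlatMod.IsFlatOver (X₀ ↘ Spec (CommRingCat.of Γ(S₀, ⊤))) F₀ :=
    Groth.Agent.Lib.R2H2.NoethModel.isFlatOver_comp_iso f₀ S₀.isoSpec F₀ hfl₀
  have hcoh : Coh.IsCoh F₀ := ⟨hq, Groth.Agent.Helper18Strict.isFT_of_isFP F₀ hfp⟩
  obtain ⟨Q, b, hQ, hQz, hQv, hQi⟩ :=
    Groth.Agent.Lib.R2H2.Bridge.bridge' Γ(S₀, ⊤) X₀ F₀ hcoh hfl₀'
  haveI : CompactSpace X₀ :=
    QuasiCompact.compactSpace_of_compactSpace (X₀ ↘ Spec (CommRingCat.of Γ(S₀, ⊤)))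
  have hiso : IsPullback g (𝟙 (V₁ : Scheme.{u})) S₀.isoSpec.hom (g ≫ S₀.isoSpec.hom) :=
    IsPullback.of_vert_isIso ⟨by simp⟩
  have sq' : IsPullback g' (f ∣_ V₁) (X₀ ↘ Spec (CommRingCat.of Γ(S₀, ⊤)))
      (g ≫ S₀.isoSpec.hom) := by
    have := sq.paste_vert hiso
    rw [Category.comp_id] at this
    exact this
  have hQfl : ∀ i, Module.Finite Γ(S₀, ⊤) (Q.X i) ∧ Module.Flat Γ(S₀, ⊤) (Q.X i) := fun i => by
    haveI := (hQ i).2
    exact ⟨(hQ i).1, inferInstance⟩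
  refine ⟨V₁, hsV₁, Γ(S₀, ⊤), inferInstance, inferInstance, Q,
    fun z => (g ≫ S₀.isoSpec.hom) z, b, hQz, (g ≫ S₀.isoSpec.hom).continuous, hQ, hQv, ?_, ?_⟩
  · intro p t ht
    exact fiberRank_eq_dRank_of_localModel sq' F₀ iso Q (fun i => (hQfl i).2) (-(p : ℤ)) p
      (hQi p).some t ht
  · intro p V a hV hVV₁ hVa
    have hVa' : ∀ z : ↥(V₁ : Scheme.{u}), V₁.ι z ∈ V →
        (g ≫ S₀.isoSpec.hom) z ∈ PrimeSpectrum.basicOpen a := fun z hz => hVa z hz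
    exact ⟨fun h => isZero_Rpush_restrict_of_dRank sq' F₀ iso Q hQfl (-(p : ℤ)) p (hQi p).some hV
        hVV₁ a hVa' h,
      fun hlo hhi => isFinLocFree_Rpush_restrict sq' F₀ iso Q hQfl (-(p : ℤ)) p (hQi p).some hV
        hVV₁ a hVa' hlo hhi⟩

theorem local_main {X S : Scheme.{u}} (f : X ⟶ S) [IsProper f] [LocallyOfFinitePresentation f]
    [HasInjectiveResolutions X.Modules] (F : X.Modules) [F.IsQuasicoherent]
    (hFP : CohB1.IsFP F) (hfl : FlatMod.IsFlatOver f F) (s : S) :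
    ∃ (V₁ : S.Opens) (_ : s ∈ V₁) (A : Type u) (_ : CommRing A) (_ : IsNoetherianRing A)
      (Q : ChainComplex (ModuleCat.{u} A) ℤ) (γ : V₁ → PrimeSpectrum A),
      Continuous γ ∧ (∀ i, Module.Finite A (Q.X i) ∧ Module.Free A (Q.X i)) ∧
      (∀ i : ℤ, 0 < i → ∀ M : ModuleCat.{u} A, IsZero ((CohIII.TFun Q i).obj M)) ∧
      (∀ (p : ℕ) (t : S) (ht : t ∈ V₁),
        CohIII.fiberRank f F p t = CohIII.dRank Q (-(p : ℤ)) (γ ⟨t, ht⟩)) ∧
      (∀ (p : ℕ) (V : S.Opens) (a : A), IsAffineOpen V → V ≤ V₁ →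
        (∀ z : V₁, z.1 ∈ V → a ∉ (γ z).asIdeal) →
        ((∀ y : PrimeSpectrum A, a ∉ y.asIdeal → CohIII.dRank Q (-(p : ℤ)) y = 0) →
          IsZero (((Coh.Rpush f p).obj F).restrict V.ι)) ∧
        ((∀ M : ModuleCat.{u} (Localization.Away a), IsZero ((CohIII.TFun
            (CohIII.bcCx (algebraMap A (Localization.Away a)) Q) (-(p : ℤ) - 1)).obj M)) →
          (∀ M : ModuleCat.{u} (Localization.Away a), IsZero ((CohIII.TFun
            (CohIII.bcCx (algebraMap A (Localization.Away a)) Q) (-(p : ℤ) + 1)).obj M)) →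
          FlatMod.IsFinLocFree (((Coh.Rpush f p).obj F).restrict V.ι))) := by
  obtain ⟨V₁, hs, A, i1, i2, Q, γ, b, -, h⟩ := local_main' f F hFP hfl s
  exact ⟨V₁, hs, A, i1, i2, Q, γ, h⟩

end Groth.Agent.Lib.R2H2.LocalCBC
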