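import Mathlib
import Groth.Prelude
import Groth.Agent.Lib.R2H2LocalCBC4
import Groth.Agent.Lib.R2H2AmpVanish
set_option backward.isDefEq.respectTransparency.types false

/-!
# Cohomology and base change over an arbitrary base, locally V (helper2, round 2)

Topological helpers for using `local_main`:
* `exists_affine_nhd`: an affine open neighbourhood mapping into a basic open inside a given open of `Spec A`;
* `isOpen_dRank_lt`: the sets `{dRank Q k < n}` are open;
* `isFinLocFree_of_restrict_cover`;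
* `isZero_T_away_of_dRank'`.
-/

set_option autoImplicit false
set_option linter.unusedSectionVars false
set_option linter.style.haveILetI false
universe u
open CategoryTheory CategoryTheory.Limits AlgebraicGeometry TopologicalSpace Opposite

noncomputable section

namespace Groth.Agent.Lib.R2H2.LocalCBC

theorem exists_affine_nhd {S : Scheme.{u}} {V₁ : S.Opens} {A : Type u} [CommRing A]
    (γ : V₁ → PrimeSpectrum A) (hγ : Continuous γ) (s : S) (hs : s ∈ V₁)
    (O : Set (PrimeSpectrum A)) (hO : IsOpen O) (hsO : γ ⟨s, hs⟩ ∈ O) :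
    ∃ (a : A) (V : S.Opens), IsAffineOpen V ∧ s ∈ V ∧ V ≤ V₁ ∧
      (∀ z : V₁, z.1 ∈ V → a ∉ (γ z).asIdeal) ∧
      (∀ y : PrimeSpectrum A, a ∉ y.asIdeal → y ∈ O) := by
  obtain ⟨_, ⟨_, ⟨a, rfl⟩, rfl⟩, hsa, haO⟩ :=
    PrimeSpectrum.isBasis_basic_opens.exists_subset_of_mem_open hsO hO
  have hW : IsOpen (γ ⁻¹' (PrimeSpectrum.basicOpen a : Set (PrimeSpectrum A))) :=
    (PrimeSpectrum.basicOpen a).2.preimage hγ
  have hW' : IsOpen (Subtype.val '' (γ ⁻¹' (PrimeSpectrum.basicOpen a : Set (PrimeSpectrum A)))) :=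
    V₁.2.isOpenMap_subtype_val _ hW
  have hsW' : s ∈ (⟨_, hW'⟩ : S.Opens) := ⟨⟨s, hs⟩, hsa, rfl⟩
  obtain ⟨V, hV, hsV, hVW⟩ := exists_isAffineOpen_mem_and_subset (x := s) (U := ⟨_, hW'⟩) hsW'
  refine ⟨a, V, hV, hsV, ?_, ?_, ?_⟩
  · intro x hx
    obtain ⟨z, -, rfl⟩ := hVW hx
    exact z.2
  · intro z hz
    obtain ⟨z', hz', hzz'⟩ := hVW hz
    have : z' = z := Subtype.ext hzz'
    subst this
    exact hz'
  · intro y hy
    exact haO hy

theorem isOpen_dRank_lt {A : Type u} [CommRing A] [IsNoetherianRing A]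
    (Q : ChainComplex (ModuleCat.{u} A) ℤ)
    (hQ : ∀ i, Module.Finite A (Q.X i) ∧ Module.Free A (Q.X i)) (k : ℤ) (n : ℕ) :
    IsOpen {y : PrimeSpectrum A | CohIII.dRank Q k y < n} := by
  have h := Groth.Agent.S2380.result Q (fun i => by
    haveI := (hQ i).2
    exact ⟨(hQ i).1, inferInstance⟩) k
  exact (upperSemicontinuous_iff_isOpen_preimage.1 h) n

/-- finite local freeness is local -/
theorem isFinLocFree_of_restrict_cover {X : Scheme.{u}} (M : X.Modules)
    (h : ∀ x : X, ∃ W : X.Opens, x ∈ W ∧ FlatMod.IsFinLocFree (M.restrict W.ι)) :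
    FlatMod.IsFinLocFree M := by
  intro x
  obtain ⟨W, hxW, hW⟩ := h x
  obtain ⟨U', n, hxU', ⟨e⟩⟩ := hW ⟨x, hxW⟩
  let g : (U' : Scheme.{u}) ⟶ X := U'.ι ≫ W.ι
  have e1 : M.restrict g ≅ FlatMod.freeMod (U' : Scheme.{u}) n :=
    (Scheme.Modules.restrictFunctorComp U'.ι W.ι).app M ≪≫ e
  refine ⟨g.opensRange, n, ⟨⟨⟨x, hxW⟩, hxU'⟩, rfl⟩, ⟨?_⟩⟩
  exact (Scheme.Modules.restrictFunctorCongr g.isoOpensRange_inv_comp.symm).app M ≪≫
    (Scheme.Modules.restrictFunctorComp g.isoOpensRange.inv g).app M ≪≫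
    (Scheme.Modules.restrictFunctor g.isoOpensRange.inv).mapIso e1 ≪≫
    Groth.Agent.Lib.Helper20.LocFree.restrictFreeMod g.isoOpensRange.inv n

end Groth.Agent.Lib.R2H2.LocalCBC
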