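import Mathlib
import Groth.Prelude
import Groth.Agent.Lib.R2H2BcLocal
import Groth.Agent.Lib.R2H2GenFAlg
import Groth.Agent.Lib.R2H2FibreFP
import Groth.Agent.Lib.R2H2LocalCBC5
set_option backward.isDefEq.respectTransparency.types false
set_option autoImplicit false
set_option linter.unusedSectionVars false
set_option linter.style.haveILetI false
universe u
open CategoryTheory AlgebraicGeometry TopologicalSpace Opposite

noncomputable section

namespace Groth.Agent.Lib.R2H2.LocalModel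

open Groth.Agent.Lib.R2H2.BcLocal Groth.Agent.Lib.R2H2.GenFAlg Groth.Agent.Lib.R2H2.FibreFP

section Congr

variable (A : Type u) [CommRing A] {X : Scheme.{u}} [X.Over (Spec (CommRingCat.of A))]

/-- `tensorRightMod` is functorial in the module -/
def tensorRightModCongr {F G : X.Modules} (e : F ≅ G) : DCoh.tensorRightMod F ≅ DCoh.tensorRightMod G :=
  Functor.isoWhiskerLeft DCoh.toP
    (Functor.isoWhiskerRight ((MonoidalCategory.tensoringRight (CohB1.PMod X)).mapIso (DCoh.toP.mapIso e))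
      DCoh.shP)

/-- `tensorAFunctor` is functorial in the module -/
def tensorAFunctorCongr {F G : X.Modules} (e : F ≅ G) :
    CohIII.tensorAFunctor A F ≅ CohIII.tensorAFunctor A G :=
  Functor.isoWhiskerLeft (tilde.functor (CommRingCat.of A))
    (Functor.isoWhiskerLeft (Scheme.Modules.pullback (X ↘ Spec (CommRingCat.of A)))
      (tensorRightModCongr e))

end Congr

section HHQ

open Groth.Agent.Lib.R2H2.LiftA Groth.Agent.Lib.R2H2.PsiA Groth.Agent.Lib.R2H2.PsiCech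
  Groth.Agent.Lib.R2H2.ABC Groth.Agent.Lib.R2H2.BcTFun Groth.Agent.Lib.R2H2.GAlg
  Groth.Agent.Lib.R2H2.HHLin Groth.Agent.Lib.R2H2.FibRank

variable {A : Type u} [CommRing A] {X : Scheme.{u}} [X.Over (Spec (CommRingCat.of A))]
  (F : X.Modules) [F.IsQuasicoherent]
  {κ : Type} {c : ComplexShape κ} (Q : HomologicalComplex (ModuleCat.{u} A) c) (k : κ) (p : ℕ)
  (e : CohIII.TFun Q k ⋙ forget₂ (ModuleCat.{u} A) AddCommGrpCat.{u} ≅
    CohIII.tensorAFunctor A F ⋙ CohIII.HAb X p)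

include e in
/-- a Grothendieck complex computes the cohomology of the module -/
theorem nonempty_HH_linearEquiv_of_bridge :
    Nonempty (Coh.HH X F p ≃ₗ[A] Q.homology k) := by
  let e1 : Coh.HH X F p ≃ₗ[A]
      Coh.HH X ((CohIII.tensorAFunctor A F).obj (ModuleCat.of A A)) p :=
    HHLinEquiv (objUnitIso A F).symm p
  let e2 := (liftHAbEquiv A F (ModuleCat.of A A) p).symm
  let e3 := ((liftIso e).app (ModuleCat.of A A)).symm.toLinearEquiv
  let e4 := ((liftAForget (CohIII.TFun Q k)).app (ModuleCat.of A A)).toLinearEquiv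
  let e5 := (Groth.Agent.Lib.Helper3.TUnitIso Q k).toLinearEquiv
  exact ⟨e1 ≪≫ₗ e2 ≪≫ₗ e3 ≪≫ₗ e4 ≪≫ₗ e5⟩

end HHQ

section Bridge

variable {X S : Scheme.{u}} (f : X ⟶ S) (F : X.Modules)

/-- `Q` is a Grothendieck complex for `F` over the affine open `W` of the base: for every `p`, the functor
`M ↦ H_{-p}(Q ⊗ M)` is the functor `M ↦ H^p(f⁻¹W, F ⊗ M)` on `Γ(W, O)`-modules. -/
def IsBridge (W : S.Opens) [IsAffine (W : Scheme.{u})]
    (Q : ChainComplex (ModuleCat.{u} Γ((W : Scheme.{u}), ⊤)) ℤ) : Prop :=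
  letI := overW f W
  ∀ p : ℕ, Nonempty (CohIII.TFun Q (-(p : ℤ)) ⋙
      forget₂ (ModuleCat.{u} Γ((W : Scheme.{u}), ⊤)) AddCommGrpCat.{u} ≅
    CohIII.tensorAFunctor Γ((W : Scheme.{u}), ⊤) (F.restrict (f ⁻¹ᵁ W).ι) ⋙
      CohIII.HAb ((f ⁻¹ᵁ W : X.Opens) : Scheme.{u}) p)

variable {f F}

theorem isBridge_restrict [IsSeparated f] [QuasiCompact f] [F.IsQuasicoherent]
    {V₁ W : S.Opens} [IsAffine (V₁ : Scheme.{u})] [IsAffine (W : Scheme.{u})]
    (hWV : W ≤ (𝟙 S) ⁻¹ᵁ V₁) {Q₁ : ChainComplex (ModuleCat.{u} Γ((V₁ : Scheme.{u}), ⊤)) ℤ}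
    (h : IsBridge f F V₁ Q₁) :
    letI := algW (𝟙 S) hWV
    IsBridge f F W
      (CohIII.bcCx (algebraMap Γ((V₁ : Scheme.{u}), ⊤) Γ((W : Scheme.{u}), ⊤)) Q₁) := by
  letI := algW (𝟙 S) hWV
  letI := overW f V₁
  letI := overW f W
  intro p
  obtain ⟨e₁⟩ := h p
  have hpb : IsPullback (𝟙 X) f f (𝟙 S) := IsPullback.of_id_fst
  have hsq := isPullback_spec hpb hWV
  haveI : (F.restrict (f ⁻¹ᵁ V₁).ι).IsQuasicoherent :=
    Scheme.Modules.isQuasicoherent_restrictFunctor (f ⁻¹ᵁ V₁).ι F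
  haveI : IsSeparated (((f ⁻¹ᵁ V₁ : X.Opens) : Scheme.{u}) ↘
      Spec (CommRingCat.of Γ((V₁ : Scheme.{u}), ⊤))) :=
    inferInstanceAs (IsSeparated (f ∣_ V₁ ≫ (V₁ : Scheme.{u}).isoSpec.hom))
  haveI : CompactSpace ((f ⁻¹ᵁ V₁ : X.Opens) : Scheme.{u}) :=
    QuasiCompact.compactSpace_of_compactSpace (f ∣_ V₁)
  obtain ⟨e₂⟩ := Groth.Agent.Lib.R2H2.FibRank.nonempty_bridge_baseChange _ hsq
    (F.restrict (f ⁻¹ᵁ V₁).ι) Q₁ (-(p : ℤ)) p e₁
  have hle := preimage_le hpb hWV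
  let ε : (Scheme.Modules.pullback (Scheme.Hom.resLE (𝟙 X) (f ⁻¹ᵁ V₁) (f ⁻¹ᵁ W) hle)).obj
      (F.restrict (f ⁻¹ᵁ V₁).ι) ≅ F.restrict (f ⁻¹ᵁ W).ι :=
    CohPull.pullOnIso (𝟙 X) (f ⁻¹ᵁ V₁) (f ⁻¹ᵁ W) hle F ≪≫
      (Scheme.Modules.restrictFunctor (f ⁻¹ᵁ W).ι).mapIso ((Scheme.Modules.pullbackId X).app F)
  exact ⟨e₂ ≪≫ Functor.isoWhiskerRight (tensorAFunctorCongr Γ((W : Scheme.{u}), ⊤) ε)
    (CohIII.HAb ((f ⁻¹ᵁ W : X.Opens) : Scheme.{u}) p)⟩

end Bridge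

section Model

open Groth.Agent.Lib.R2H2.LocalCBC

/-- **A Grothendieck complex over an affine neighbourhood of a point of an arbitrary base.** -/
theorem exists_local_model {X S : Scheme.{u}} (f : X ⟶ S) [IsProper f] [LocallyOfFinitePresentation f]
    (F : X.Modules) [F.IsQuasicoherent]
    (hFP : CohB1.IsFP F) (hfl : FlatMod.IsFlatOver f F) (s : S) :
    ∃ (V₁ : S.Opens) (hV₁ : IsAffineOpen V₁) (_ : s ∈ V₁),
      haveI : IsAffine (V₁ : Scheme.{u}) := hV₁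
      ∃ (Q₁ : ChainComplex (ModuleCat.{u} Γ((V₁ : Scheme.{u}), ⊤)) ℤ) (b : ℕ),
        (∀ i, Module.Finite Γ((V₁ : Scheme.{u}), ⊤) (Q₁.X i) ∧
          Module.Projective Γ((V₁ : Scheme.{u}), ⊤) (Q₁.X i)) ∧
        (∀ i : ℤ, i < 1 - (b : ℤ) → Limits.IsZero (Q₁.X i)) ∧
        IsBridge f F V₁ Q₁ := by
  obtain ⟨V₁, hV₁, hsV₁, -⟩ := exists_isAffineOpen_mem_and_subset (x := s) (U := ⊤) trivial
  refine ⟨V₁, hV₁, hsV₁, ?_⟩
  haveI : IsAffine (V₁ : Scheme.{u}) := hV₁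
  haveI : (F.restrict (f ⁻¹ᵁ V₁).ι).IsQuasicoherent :=
    Scheme.Modules.isQuasicoherent_restrictFunctor (f ⁻¹ᵁ V₁).ι F
  have hFP₁ : CohB1.IsFP (F.restrict (f ⁻¹ᵁ V₁).ι) := isFP_restrict (f ⁻¹ᵁ V₁).ι F hFP
  have hfl₁ : FlatMod.IsFlatOver (f ∣_ V₁) (F.restrict (f ⁻¹ᵁ V₁).ι) :=
    isFlatOver_morphismRestrict f V₁ F hfl
  haveI : IsProper (f ∣_ V₁) := inferInstance
  haveI : LocallyOfFinitePresentation (f ∣_ V₁) := inferInstance
  obtain ⟨X₀, S₀, f₀, g, g', F₀, sq, hS₀, hN, hP, hq, hfp, hfl₀, ⟨iso⟩⟩ :=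
    Groth.Agent.Lib.R2H2.NoethModel.exists_affine_model (f ∣_ V₁) (F.restrict (f ⁻¹ᵁ V₁).ι) hFP₁ hfl₁
  haveI := hS₀
  haveI := hN
  haveI := hP
  haveI := hq
  letI ov : X₀.Over (Spec (CommRingCat.of Γ(S₀, ⊤))) := ⟨f₀ ≫ S₀.isoSpec.hom⟩
  haveI : IsProper (X₀ ↘ Spec (CommRingCat.of Γ(S₀, ⊤))) :=
    inferInstanceAs (IsProper (f₀ ≫ S₀.isoSpec.hom))
  have hfl₀' : FlatMod.IsFlatOver (X₀ ↘ Spec (CommRingCat.of Γ(S₀, ⊤))) F₀ :=
    Groth.Agent.Lib.R2H2.NoethModel.isFlatOver_comp_iso f₀ S₀.isoSpec F₀ hfl₀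
  have hcoh : Coh.IsCoh F₀ := ⟨hq, Groth.Agent.Helper18Strict.isFT_of_isFP F₀ hfp⟩
  obtain ⟨Q, b, hQ, hQz, hQv, hQi⟩ :=
    Groth.Agent.Lib.R2H2.Bridge.bridge' Γ(S₀, ⊤) X₀ F₀ hcoh hfl₀'
  haveI : CompactSpace X₀ :=
    QuasiCompact.compactSpace_of_compactSpace (X₀ ↘ Spec (CommRingCat.of Γ(S₀, ⊤)))
  have hiso : IsPullback g (𝟙 (V₁ : Scheme.{u})) S₀.isoSpec.hom (g ≫ S₀.isoSpec.hom) :=
    IsPullback.of_vert_isIso ⟨by simp⟩
  have sq' : IsPullback g' (f ∣_ V₁) (X₀ ↘ Spec (CommRingCat.of Γ(S₀, ⊤)))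
      (g ≫ S₀.isoSpec.hom) := by
    have := sq.paste_vert hiso
    rw [Category.comp_id] at this
    exact this
  -- the algebra structure of `Γ(V₁, O)` over the model ring
  letI alg : Algebra Γ(S₀, ⊤) Γ((V₁ : Scheme.{u}), ⊤) :=
    (Spec.preimage ((V₁ : Scheme.{u}).isoSpec.inv ≫ g ≫ S₀.isoSpec.hom)).hom.toAlgebra
  have hj : Spec.map (CommRingCat.ofHom (algebraMap Γ(S₀, ⊤) Γ((V₁ : Scheme.{u}), ⊤))) =
      (V₁ : Scheme.{u}).isoSpec.inv ≫ g ≫ S₀.isoSpec.hom := Spec.map_preimage _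
  letI := overW f V₁
  have h : IsPullback g' (((f ⁻¹ᵁ V₁ : X.Opens) : Scheme.{u}) ↘
        Spec (CommRingCat.of Γ((V₁ : Scheme.{u}), ⊤)))
      (X₀ ↘ Spec (CommRingCat.of Γ(S₀, ⊤)))
      (Spec.map (CommRingCat.ofHom (algebraMap Γ(S₀, ⊤) Γ((V₁ : Scheme.{u}), ⊤)))) := by
    rw [hj]
    have sq2 : IsPullback (𝟙 ((f ⁻¹ᵁ V₁ : X.Opens) : Scheme.{u}))
        ((f ∣_ V₁) ≫ (V₁ : Scheme.{u}).isoSpec.hom) (f ∣_ V₁) (V₁ : Scheme.{u}).isoSpec.inv :=
      IsPullback.of_horiz_isIso ⟨by simp⟩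
    have := sq2.paste_horiz sq'
    rw [Category.id_comp] at this
    exact this
  have hQp : ∀ i, Module.Finite Γ(S₀, ⊤) (Q.X i) ∧ Module.Projective Γ(S₀, ⊤) (Q.X i) := fun i => by
    haveI := (hQ i).2
    exact ⟨(hQ i).1, inferInstance⟩
  refine ⟨CohIII.bcCx (algebraMap Γ(S₀, ⊤) Γ((V₁ : Scheme.{u}), ⊤)) Q, b,
    finite_projective_bcCx Q hQp Γ((V₁ : Scheme.{u}), ⊤), fun i hi => ?_, fun p => ?_⟩
  · exact (ModuleCat.extendScalars (algebraMap Γ(S₀, ⊤) Γ((V₁ : Scheme.{u}), ⊤))).map_isZero (hQz i hi)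
  · obtain ⟨e₂⟩ := Groth.Agent.Lib.R2H2.FibRank.nonempty_bridge_baseChange g' h F₀ Q (-(p : ℤ)) p
      (hQi p).some
    exact ⟨e₂ ≪≫ Functor.isoWhiskerRight (tensorAFunctorCongr Γ((V₁ : Scheme.{u}), ⊤) iso)
      (CohIII.HAb ((f ⁻¹ᵁ V₁ : X.Opens) : Scheme.{u}) p)⟩

end Model

section FB

open AlgebraicGeometry.Scheme.Modules CohCmp Groth.Agent.Lib.R2H2.BcSect

variable {X S : Scheme.{u}} (f : X ⟶ S) [QuasiCompact f] [QuasiSeparated f] (s : S)
  [HasInjectiveResolutions X.Modules] [HasInjectiveResolutions (f.fiber s).Modules]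
  (F : X.Modules) [F.IsQuasicoherent]
  {Δ : RDer.DerivedLES (pushforward f)}
  {Δs : RDer.DerivedLES (pushforward (f.fiberToSpecResidueField s))}
  {E : CohCmp.SectCmp f Δ} {Es : CohCmp.SectCmp (f.fiberToSpecResidueField s) Δs}
  (Bs : CohCmp.GenBC f (S.fromSpecResidueField s) (f.fiberToSpecResidueField s) (f.fiberι s)
    (f.fiber_fac s) E Es)
  (W : S.Opens) [IsAffine (W : Scheme.{u})] (hs : s ∈ W)
  [IsAffine (((S.fromSpecResidueField s) ⁻¹ᵁ W : (Spec (S.residueField s)).Opens) : Scheme.{u})]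
  (Q : ChainComplex (ModuleCat.{u} Γ((W : Scheme.{u}), ⊤)) ℤ) (hQ : IsBridge f F W Q)

include hs hQ in
/-- **The base change map of the fibre square at `s` is an epimorphism iff the Grothendieck complex over an
affine neighbourhood `W` of `s` satisfies the generation property at the residue field.** -/
theorem epi_bc_iff_genF (p : ℕ) :
    letI := algW (S.fromSpecResidueField s) (le_refl ((S.fromSpecResidueField s) ⁻¹ᵁ W))
    Epi (Bs.bc p F) ↔
      GenF Γ((W : Scheme.{u}), ⊤)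
        Γ((((S.fromSpecResidueField s) ⁻¹ᵁ W : (Spec (S.residueField s)).Opens) : Scheme.{u}), ⊤)
        (CohIII.TFun Q (-(p : ℤ)) ⋙
          forget₂ (ModuleCat.{u} Γ((W : Scheme.{u}), ⊤)) AddCommGrpCat.{u}) := by
  letI := algW (S.fromSpecResidueField s) (le_refl ((S.fromSpecResidueField s) ⁻¹ᵁ W))
  letI := overW f W
  have hpb : IsPullback (f.fiberι s) (f.fiberToSpecResidueField s) f (S.fromSpecResidueField s) :=
    IsPullback.of_hasPullback f (S.fromSpecResidueField s)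
  haveI : QuasiCompact (f.fiberToSpecResidueField s) :=
    MorphismProperty.of_isPullback (P := @QuasiCompact) hpb inferInstance
  haveI : QuasiSeparated (f.fiberToSpecResidueField s) :=
    MorphismProperty.of_isPullback (P := @QuasiSeparated) hpb inferInstance
  haveI : Subsingleton ↥(Spec (S.residueField s)) :=
    inferInstanceAs (Subsingleton (PrimeSpectrum (S.residueField s)))
  have z : ↥(Spec (S.residueField s)) := (⊥ : PrimeSpectrum (S.residueField s))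
  have hz : z ∈ (S.fromSpecResidueField s) ⁻¹ᵁ W := by
    rw [preimage_eq_top s hs]
    trivial
  obtain ⟨e⟩ := hQ p
  refine (epi_iff_surjective_app (Bs.bc p F) _ z hz).trans ?_
  refine (surjective_bc_app_iff_genF hpb Bs F p W).trans ?_
  exact (genF_iso _ _ e).symm

end FB

section FLF

open Groth.Agent.Lib.R2H2.LocalCBC Groth.Agent.Lib.R2H2.GammaDer

/-- global sections of `R^p f'_* G` over an affine base are the cohomology of `G`, linearly -/
theorem nonempty_sections_linearEquiv {P T : Scheme.{u}} [IsAffine T] (f' : P ⟶ T)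
    [QuasiCompact f'] [QuasiSeparated f'] [HasInjectiveResolutions P.Modules]
    [P.Over (Spec (CommRingCat.of Γ(T, ⊤)))]
    (hover : (P ↘ Spec (CommRingCat.of Γ(T, ⊤))) = f' ≫ T.isoSpec.hom)
    (G : P.Modules) [G.IsQuasicoherent] (p : ℕ) :
    Nonempty (Γ((Coh.Rpush f' p).obj G, ⊤) ≃ₗ[Γ(T, ⊤)] Coh.HH P G p) := by
  obtain ⟨φ⟩ := nonempty_sections_Rpush_iso f' G p
  exact ⟨{ toFun := fun x => φ.hom.hom x
           invFun := fun y => φ.inv.hom y
           map_add' := fun x y => map_add φ.hom.hom x y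
           map_smul' := fun b x => by
             have h1 := φ.hom.hom.map_smul b x
             refine h1.trans ?_
             change topHom f' b • φ.hom.hom x =
               Coh.toGlobal (P ↘ Spec (CommRingCat.of Γ(T, ⊤))) b • φ.hom.hom x
             rw [hover, toGlobal_isoSpec]
           left_inv := fun x => by
             exact congrArg (fun ψ => ψ.hom x) φ.hom_inv_id
           right_inv := fun y => by
             exact congrArg (fun ψ => ψ.hom y) φ.inv_hom_id }⟩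

variable {X S : Scheme.{u}} (f : X ⟶ S) [QuasiCompact f] [QuasiSeparated f]
  [HasInjectiveResolutions X.Modules] (F : X.Modules) [F.IsQuasicoherent]
  (W : S.Opens) [IsAffine (W : Scheme.{u})]
  (Q : ChainComplex (ModuleCat.{u} Γ((W : Scheme.{u}), ⊤)) ℤ) (hQ : IsBridge f F W Q) (p : ℕ)

include hQ in
/-- the cohomology over `f⁻¹W` is the homology of the Grothendieck complex -/
theorem nonempty_HH_linearEquiv_of_isBridge :
    letI := overW f W
    Nonempty (Coh.HH ((f ⁻¹ᵁ W : X.Opens) : Scheme.{u}) (F.restrict (f ⁻¹ᵁ W).ι) p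
      ≃ₗ[Γ((W : Scheme.{u}), ⊤)] Q.homology (-(p : ℤ))) := by
  letI := overW f W
  haveI : (F.restrict (f ⁻¹ᵁ W).ι).IsQuasicoherent :=
    Scheme.Modules.isQuasicoherent_restrictFunctor (f ⁻¹ᵁ W).ι F
  obtain ⟨e⟩ := hQ p
  exact nonempty_HH_linearEquiv_of_bridge (F.restrict (f ⁻¹ᵁ W).ι) Q (-(p : ℤ)) p e

include hQ in
/-- **finite projective homology of the Grothendieck complex gives a finite locally free `R^p f_* F` over `W`** -/
theorem isFinLocFree_Rpush_restrict_of_projective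
    [Module.Finite Γ((W : Scheme.{u}), ⊤) (Q.homology (-(p : ℤ)))]
    [Module.Projective Γ((W : Scheme.{u}), ⊤) (Q.homology (-(p : ℤ)))] :
    FlatMod.IsFinLocFree (((Coh.Rpush f p).obj F).restrict W.ι) := by
  letI := overW f W
  obtain ⟨l⟩ := nonempty_HH_linearEquiv_of_isBridge f F W Q hQ p
  haveI := Groth.Agent.Lib.R2H3.RpushRestrict.hasInjectiveResolutions_modules
    ((f ⁻¹ᵁ W : X.Opens) : Scheme.{u})
  haveI : (F.restrict (f ⁻¹ᵁ W).ι).IsQuasicoherent :=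
    Scheme.Modules.isQuasicoherent_restrictFunctor (f ⁻¹ᵁ W).ι F
  haveI : Module.Finite Γ((W : Scheme.{u}), ⊤)
      (Coh.HH ((f ⁻¹ᵁ W : X.Opens) : Scheme.{u}) (F.restrict (f ⁻¹ᵁ W).ι) p) :=
    Module.Finite.equiv l.symm
  haveI : Module.Projective Γ((W : Scheme.{u}), ⊤)
      (Coh.HH ((f ⁻¹ᵁ W : X.Opens) : Scheme.{u}) (F.restrict (f ⁻¹ᵁ W).ι) p) :=
    Module.Projective.of_equiv l.symm
  have hlf := isFinLocFree_Rpush_of_finite_projective (f ∣_ W) rfl (F.restrict (f ⁻¹ᵁ W).ι) p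
  obtain ⟨ι⟩ := Groth.Agent.Lib.R2H3.RpushRestrict.nonempty_Rpush_restrict_iso f W F p
  intro x
  obtain ⟨U, n, hxU, ⟨e'⟩⟩ := hlf x
  exact ⟨U, n, hxU, ⟨(Scheme.Modules.restrictFunctor U.ι).mapIso ι ≪≫ e'⟩⟩

include hQ in
/-- **if `R^p f_* F` is finite locally free over `W`, the homology of the Grothendieck complex is flat** -/
theorem flat_homology_of_isFinLocFree
    (h : FlatMod.IsFinLocFree (((Coh.Rpush f p).obj F).restrict W.ι)) :
    Module.Flat Γ((W : Scheme.{u}), ⊤) (Q.homology (-(p : ℤ))) := by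
  letI := overW f W
  obtain ⟨l⟩ := nonempty_HH_linearEquiv_of_isBridge f F W Q hQ p
  haveI := Groth.Agent.Lib.R2H3.RpushRestrict.hasInjectiveResolutions_modules
    ((f ⁻¹ᵁ W : X.Opens) : Scheme.{u})
  haveI : (F.restrict (f ⁻¹ᵁ W).ι).IsQuasicoherent :=
    Scheme.Modules.isQuasicoherent_restrictFunctor (f ⁻¹ᵁ W).ι F
  obtain ⟨ι⟩ := Groth.Agent.Lib.R2H3.RpushRestrict.nonempty_Rpush_restrict_iso f W F p
  set G := (Coh.Rpush (f ∣_ W) p).obj (F.restrict (f ⁻¹ᵁ W).ι) with hG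
  haveI : G.IsQuasicoherent :=
    Groth.Agent.Lib.R2H3.RpushQCohGen.isQuasicoherent_Rpush_of_qcqs (f ∣_ W) _ p
  have hG' : FlatMod.IsFinLocFree G := fun x => by
    obtain ⟨U, n, hxU, ⟨e'⟩⟩ := h x
    exact ⟨U, n, hxU, ⟨(Scheme.Modules.restrictFunctor U.ι).mapIso ι.symm ≪≫ e'⟩⟩
  obtain ⟨-, hfl⟩ := Groth.Agent.Lib.Helper26.ModLocFree.fp_flat_sections_of_isFinLocFree G hG'
    (isAffineOpen_top (W : Scheme.{u}))
  obtain ⟨L⟩ := nonempty_sections_linearEquiv (f ∣_ W) rfl (F.restrict (f ⁻¹ᵁ W).ι) p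
  haveI : Module.Flat Γ((W : Scheme.{u}), ⊤) Γ(G, ⊤) :=
    Module.Flat.of_linearEquiv
      (Groth.Agent.Lib.Helper20.PullbackAff.ΓUEquiv (isAffineOpen_top (W : Scheme.{u})) G)
  exact Module.Flat.of_linearEquiv (L.trans l).symm

end FLF

end Groth.Agent.Lib.R2H2.LocalModel
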