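import Mathlib
import Groth.Prelude
import Groth.Agent.Lib.R2H2LocalModel
import Groth.Agent.Lib.R2H2FibreAlg
import Groth.Agent.Lib.R2H2QAffine
import Groth.Agent.Lib.H6xPerfLoc
set_option backward.isDefEq.respectTransparency.types false
set_option autoImplicit false
set_option linter.unusedSectionVars false
set_option linter.style.haveILetI false
universe u
open CategoryTheory AlgebraicGeometry TopologicalSpace Opposite

noncomputable section

namespace Groth.Agent.Lib.R2H2.FibreBC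

open Groth.Agent.Lib.R2H2.BcLocal Groth.Agent.Lib.R2H2.GenFAlg Groth.Agent.Lib.R2H2.FibreFP
  Groth.Agent.Lib.R2H2.LocalModel Groth.Agent.Lib.R2H2.FibreAlg Groth.Agent.Lib.R2H2.ABC
  Groth.Agent.Lib.R2H2.CoreBC

section FB

variable {X S : Scheme.{u}} (f : X ⟶ S) [QuasiCompact f] [QuasiSeparated f] (s : S)
  (F : X.Modules) [F.IsQuasicoherent]
  (W : S.Opens) [IsAffine (W : Scheme.{u})] (hs : s ∈ W)
  [IsAffine (((S.fromSpecResidueField s) ⁻¹ᵁ W : (Spec (S.residueField s)).Opens) : Scheme.{u})]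
  (Q : ChainComplex (ModuleCat.{u} Γ((W : Scheme.{u}), ⊤)) ℤ) (hQ : IsBridge f F W Q)

include hs hQ in
/-- vanishing of the cohomology of the fibre at `s` is vanishing of `T` of the Grothendieck complex at the
residue field -/
theorem subsingleton_T_of_fiberH (p : ℕ) (h : Subsingleton (CohIII.fiberH f F s p)) :
    letI := algW (S.fromSpecResidueField s) (le_refl ((S.fromSpecResidueField s) ⁻¹ᵁ W))
    Subsingleton ((CohIII.TFun Q (-(p : ℤ))).obj (BA Γ((W : Scheme.{u}), ⊤)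
      Γ((((S.fromSpecResidueField s) ⁻¹ᵁ W : (Spec (S.residueField s)).Opens) : Scheme.{u}), ⊤))) := by
  letI := algW (S.fromSpecResidueField s) (le_refl ((S.fromSpecResidueField s) ⁻¹ᵁ W))
  letI := overW f W
  letI := overW (f.fiberToSpecResidueField s) ((S.fromSpecResidueField s) ⁻¹ᵁ W)
  have hpb : IsPullback (f.fiberι s) (f.fiberToSpecResidueField s) f (S.fromSpecResidueField s) :=
    IsPullback.of_hasPullback f (S.fromSpecResidueField s)
  obtain ⟨e⟩ := hQ p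
  have hle := preimage_le hpb (le_refl ((S.fromSpecResidueField s) ⁻¹ᵁ W))
  have hsq := isPullback_spec hpb (le_refl ((S.fromSpecResidueField s) ⁻¹ᵁ W))
  haveI : (F.restrict (f ⁻¹ᵁ W).ι).IsQuasicoherent :=
    Scheme.Modules.isQuasicoherent_restrictFunctor (f ⁻¹ᵁ W).ι F
  obtain ⟨ψ, -, -⟩ := core _ hsq (F.restrict (f ⁻¹ᵁ W).ι) p
  let φ := mapHEquiv (CohPull.pullOnIso (f.fiberι s) (f ⁻¹ᵁ W)
    ((f.fiberToSpecResidueField s) ⁻¹ᵁ ((S.fromSpecResidueField s) ⁻¹ᵁ W)) hle F) p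
  have htop : (f.fiberToSpecResidueField s) ⁻¹ᵁ ((S.fromSpecResidueField s) ⁻¹ᵁ W) = ⊤ := by
    rw [preimage_eq_top s hs]
    rfl
  haveI : Subsingleton (Coh.HHon (f.fiber s) (CohIII.fiberMod f F s)
      ((f.fiberToSpecResidueField s) ⁻¹ᵁ ((S.fromSpecResidueField s) ⁻¹ᵁ W)) p) :=
    Groth.Agent.Lib.R2H2.QAffine.subsingleton_HHon_of_eq_top _ _ _ htop p h
  haveI h1 : Subsingleton (Coh.HH ((f ⁻¹ᵁ W : X.Opens) : Scheme.{u})
      (PsiAB Γ((W : Scheme.{u}), ⊤)
        Γ((((S.fromSpecResidueField s) ⁻¹ᵁ W : (Spec (S.residueField s)).Opens) : Scheme.{u}), ⊤)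
        (F.restrict (f ⁻¹ᵁ W).ι)) p) := (ψ.trans φ).toEquiv.subsingleton
  haveI h2 : Subsingleton ((CohIII.tensorAFunctor Γ((W : Scheme.{u}), ⊤) (F.restrict (f ⁻¹ᵁ W).ι) ⋙
      CohIII.HAb ((f ⁻¹ᵁ W : X.Opens) : Scheme.{u}) p).obj (BA Γ((W : Scheme.{u}), ⊤)
      Γ((((S.fromSpecResidueField s) ⁻¹ᵁ W : (Spec (S.residueField s)).Opens) : Scheme.{u}), ⊤))) := h1
  exact ((e.app (BA Γ((W : Scheme.{u}), ⊤)
      Γ((((S.fromSpecResidueField s) ⁻¹ᵁ W : (Spec (S.residueField s)).Opens) : Scheme.{u}), ⊤))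
    ).addCommGroupIsoToAddEquiv).toEquiv.subsingleton

end FB

section Pt

variable {S : Scheme.{u}} (s : S) (W : S.Opens) [IsAffine (W : Scheme.{u})] (hs : s ∈ W)
  [IsAffine (((S.fromSpecResidueField s) ⁻¹ᵁ W : (Spec (S.residueField s)).Opens) : Scheme.{u})]

include hs in
/-- the point of `Spec Γ(W, O)` cut out by the residue field at `s` is the point `s` -/
theorem kerPt_eq :
    letI := algW (S.fromSpecResidueField s) (le_refl ((S.fromSpecResidueField s) ⁻¹ᵁ W))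
    ∀ (hK1 : Nontrivial Γ((((S.fromSpecResidueField s) ⁻¹ᵁ W :
        (Spec (S.residueField s)).Opens) : Scheme.{u}), ⊤))
      (hK2 : ∀ r : Γ((W : Scheme.{u}), ⊤),
        algebraMap Γ((W : Scheme.{u}), ⊤)
          Γ((((S.fromSpecResidueField s) ⁻¹ᵁ W : (Spec (S.residueField s)).Opens) : Scheme.{u}), ⊤) r = 0 ∨
        IsUnit (algebraMap Γ((W : Scheme.{u}), ⊤)
          Γ((((S.fromSpecResidueField s) ⁻¹ᵁ W : (Spec (S.residueField s)).Opens) : Scheme.{u}), ⊤) r)),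
      kerPt hK1 hK2 = (W : Scheme.{u}).isoSpec.hom ⟨s, hs⟩ := by
  letI := algW (S.fromSpecResidueField s) (le_refl ((S.fromSpecResidueField s) ⁻¹ᵁ W))
  intro hK1 hK2
  set gres := (S.fromSpecResidueField s).resLE W ((S.fromSpecResidueField s) ⁻¹ᵁ W) le_rfl with hgres
  have z : ↥(((S.fromSpecResidueField s) ⁻¹ᵁ W : (Spec (S.residueField s)).Opens) : Scheme.{u}) :=
    ⟨(⊥ : PrimeSpectrum (S.residueField s)), by
      rw [preimage_eq_top s hs]
      trivial⟩
  have hz : gres z = ⟨s, hs⟩ := by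
    apply W.ι.isOpenEmbedding.injective
    have h1 := congrArg (fun φ => φ z) (Scheme.Hom.resLE_comp_ι (S.fromSpecResidueField s)
      (le_refl ((S.fromSpecResidueField s) ⁻¹ᵁ W)))
    simp only [Scheme.Hom.comp_apply] at h1
    refine h1.trans ?_
    exact Scheme.fromSpecResidueField_apply s _
  have hnat := Scheme.isoSpec_hom_naturality gres
  have h2 : (W : Scheme.{u}).isoSpec.hom (gres z) =
      (Spec.map gres.appTop) ((((S.fromSpecResidueField s) ⁻¹ᵁ W :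
        (Spec (S.residueField s)).Opens) : Scheme.{u}).isoSpec.hom z) := by
    have h3 := congrArg (fun φ => φ z) hnat
    simp only [Scheme.Hom.comp_apply] at h3
    exact h3.symm
  rw [← hz, h2]
  set Pz := (((S.fromSpecResidueField s) ⁻¹ᵁ W :
    (Spec (S.residueField s)).Opens) : Scheme.{u}).isoSpec.hom z with hPz
  apply PrimeSpectrum.ext
  ext r
  have hL : r ∈ (kerPt hK1 hK2).asIdeal ↔ algebraMap Γ((W : Scheme.{u}), ⊤)
      Γ((((S.fromSpecResidueField s) ⁻¹ᵁ W : (Spec (S.residueField s)).Opens) : Scheme.{u}), ⊤) r = 0 :=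
    RingHom.mem_ker
  have hR : r ∈ ((Spec.map gres.appTop) Pz).asIdeal ↔ algebraMap Γ((W : Scheme.{u}), ⊤)
      Γ((((S.fromSpecResidueField s) ⁻¹ᵁ W : (Spec (S.residueField s)).Opens) : Scheme.{u}), ⊤) r ∈
      (show PrimeSpectrum Γ((((S.fromSpecResidueField s) ⁻¹ᵁ W :
        (Spec (S.residueField s)).Opens) : Scheme.{u}), ⊤) from Pz).asIdeal := Iff.rfl
  rw [hL, hR]
  constructor
  · intro h
    rw [h]
    exact zero_mem _
  · intro h
    rcases hK2 r with h0 | hu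
    · exact h0
    · exact absurd (Ideal.eq_top_of_isUnit_mem _ h hu)
        (show PrimeSpectrum Γ((((S.fromSpecResidueField s) ⁻¹ᵁ W :
          (Spec (S.residueField s)).Opens) : Scheme.{u}), ⊤) from Pz).isPrime.ne_top

end Pt

section Shrink

variable {S : Scheme.{u}} (s : S) (W : S.Opens) [IsAffine (W : Scheme.{u})] (hs : s ∈ W)

include hs in
/-- **shrinking**: an open condition on `Spec Γ(W, O)` which holds at `s` holds on all of a smaller affine
neighbourhood `W'` of `s` -/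
theorem exists_affine_shrink (O : Set (PrimeSpectrum Γ((W : Scheme.{u}), ⊤))) (hO : IsOpen O)
    (hsO : (W : Scheme.{u}).isoSpec.hom ⟨s, hs⟩ ∈ O) :
    ∃ (W' : S.Opens) (hW' : IsAffineOpen W') (_ : s ∈ W') (hle : W' ≤ (𝟙 S) ⁻¹ᵁ W),
      haveI : IsAffine (W' : Scheme.{u}) := hW'
      letI := algW (𝟙 S) hle
      ∀ x' : PrimeSpectrum Γ((W' : Scheme.{u}), ⊤),
        PrimeSpectrum.comap (algebraMap Γ((W : Scheme.{u}), ⊤) Γ((W' : Scheme.{u}), ⊤)) x' ∈ O := by
  let U0 : (W : Scheme.{u}).Opens :=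
    ⟨(W : Scheme.{u}).isoSpec.hom ⁻¹' O, hO.preimage (W : Scheme.{u}).isoSpec.hom.continuous⟩
  let U : S.Opens := W.ι ''ᵁ U0
  have hsU : s ∈ U := ⟨⟨s, hs⟩, hsO, rfl⟩
  obtain ⟨_, ⟨W', hW', rfl⟩, hsW', hW'U⟩ :=
    S.isBasis_affineOpens.exists_subset_of_mem_open hsU U.2
  have hle : W' ≤ (𝟙 S) ⁻¹ᵁ W := by
    intro x hx
    obtain ⟨u, -, rfl⟩ := hW'U hx
    exact u.2
  refine ⟨W', hW', hsW', hle, ?_⟩
  haveI : IsAffine (W' : Scheme.{u}) := hW'
  letI := algW (𝟙 S) hle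
  intro x'
  set res := Scheme.Hom.resLE (𝟙 S) W W' hle with hres
  set t' := (W' : Scheme.{u}).isoSpec.inv x' with ht'
  have h1 : (W' : Scheme.{u}).isoSpec.hom t' = x' := by
    have := congrArg (fun φ => φ x') (W' : Scheme.{u}).isoSpec.inv_hom_id
    simp only [Scheme.Hom.comp_apply] at this
    exact this
  have hnat := Scheme.isoSpec_hom_naturality res
  have h2 : (W : Scheme.{u}).isoSpec.hom (res t') =
      (Spec.map res.appTop) ((W' : Scheme.{u}).isoSpec.hom t') := by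
    have h3 := congrArg (fun φ => φ t') hnat
    simp only [Scheme.Hom.comp_apply] at h3
    exact h3.symm
  rw [h1] at h2
  have h4 : PrimeSpectrum.comap (algebraMap Γ((W : Scheme.{u}), ⊤) Γ((W' : Scheme.{u}), ⊤)) x' =
      (Spec.map res.appTop) x' := rfl
  rw [h4, ← h2]
  have h5 : W.ι (res t') = Scheme.Opens.ι W' t' := by
    have h6 := congrArg (fun φ => φ t') (Scheme.Hom.resLE_comp_ι (𝟙 S) hle)
    simp only [Scheme.Hom.comp_apply] at h6
    exact h6
  obtain ⟨u, hu, hu2⟩ := hW'U t'.2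
  have h7 : u = res t' := W.ι.isOpenEmbedding.injective (hu2.trans h5.symm)
  rw [← h7]
  exact hu

end Shrink

section Loc

open AlgebraicGeometry.Scheme.Modules CohCmp

variable {X S : Scheme.{u}} (f : X ⟶ S) [QuasiCompact f] [QuasiSeparated f] (s : S)
  [HasInjectiveResolutions X.Modules] [HasInjectiveResolutions (f.fiber s).Modules]
  (F : X.Modules) [F.IsQuasicoherent]
  {Δ : RDer.DerivedLES (pushforward f)}
  {Δs : RDer.DerivedLES (pushforward (f.fiberToSpecResidueField s))}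
  {E : CohCmp.SectCmp f Δ} {Es : CohCmp.SectCmp (f.fiberToSpecResidueField s) Δs}
  (Bs : CohCmp.GenBC f (S.fromSpecResidueField s) (f.fiberToSpecResidueField s) (f.fiberι s)
    (f.fiber_fac s) E Es)
  (W : S.Opens) [IsAffine (W : Scheme.{u})] (hs : s ∈ W)
  (Q : ChainComplex (ModuleCat.{u} Γ((W : Scheme.{u}), ⊤)) ℤ) (hQ : IsBridge f F W Q)
  (hP : ∀ i, Module.Finite Γ((W : Scheme.{u}), ⊤) (Q.X i) ∧ Module.Projective Γ((W : Scheme.{u}), ⊤) (Q.X i))

include hs hQ hP in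
/-- **surjectivity of the fibre base change map in degree `p` makes `opcycles_{-p-1}` free at `s`** -/
theorem mem_freeLocus_of_epi (p : ℕ) (k : ℤ) (hk : k = -(p : ℤ) - 1) (h : Epi (Bs.bc p F)) :
    (W : Scheme.{u}).isoSpec.hom ⟨s, hs⟩ ∈ Module.freeLocus Γ((W : Scheme.{u}), ⊤) (Q.opcycles k) := by
  subst hk
  have hW : IsAffineOpen W := ‹IsAffine (W : Scheme.{u})›
  haveI : IsAffine (((S.fromSpecResidueField s) ⁻¹ᵁ W : (Spec (S.residueField s)).Opens) : Scheme.{u}) :=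
    isAffineOpen_preimage s hs
  letI := algW (S.fromSpecResidueField s) (le_refl ((S.fromSpecResidueField s) ⁻¹ᵁ W))
  obtain ⟨hK1, hK2, hK3⟩ := fibre_fp s hW hs
  have hg := (epi_bc_iff_genF f s F Bs W hs Q hQ p).1 h
  have h1 := mem_freeLocus_of_genF hK1 hK2 hK3 Q hP (-(p : ℤ)) hg
  rw [kerPt_eq s W hs hK1 hK2] at h1
  exact h1

include hs hQ hP in
/-- **vanishing of the cohomology of the fibre in degree `p` makes `opcycles_{-p-1}` and `opcycles_{-p}`
free at `s`** -/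
theorem mem_freeLocus_of_fiberH (p : ℕ) (h : Subsingleton (CohIII.fiberH f F s p)) :
    (W : Scheme.{u}).isoSpec.hom ⟨s, hs⟩ ∈
        Module.freeLocus Γ((W : Scheme.{u}), ⊤) (Q.opcycles (-(p : ℤ) - 1)) ∧
      (W : Scheme.{u}).isoSpec.hom ⟨s, hs⟩ ∈
        Module.freeLocus Γ((W : Scheme.{u}), ⊤) (Q.opcycles (-(p : ℤ))) := by
  have hW : IsAffineOpen W := ‹IsAffine (W : Scheme.{u})›
  haveI : IsAffine (((S.fromSpecResidueField s) ⁻¹ᵁ W : (Spec (S.residueField s)).Opens) : Scheme.{u}) :=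
    isAffineOpen_preimage s hs
  letI := algW (S.fromSpecResidueField s) (le_refl ((S.fromSpecResidueField s) ⁻¹ᵁ W))
  obtain ⟨hK1, hK2, hK3⟩ := fibre_fp s hW hs
  have hsub := subsingleton_T_of_fiberH f s F W hs Q hQ p h
  have h1 := mem_freeLocus_of_subsingleton_T hK1 hK2 hK3 Q hP (-(p : ℤ)) hsub
  rw [kerPt_eq s W hs hK1 hK2] at h1
  exact h1

include hs hQ hP in
/-- **flatness of `opcycles_{-p-1}` gives surjectivity of the fibre base change map in degree `p`** -/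
theorem epi_of_flat (p : ℕ) [Module.Flat Γ((W : Scheme.{u}), ⊤) (Q.opcycles (-(p : ℤ) - 1))] :
    Epi (Bs.bc p F) := by
  haveI : IsAffine (((S.fromSpecResidueField s) ⁻¹ᵁ W : (Spec (S.residueField s)).Opens) : Scheme.{u}) :=
    isAffineOpen_preimage s hs
  letI := algW (S.fromSpecResidueField s) (le_refl ((S.fromSpecResidueField s) ⁻¹ᵁ W))
  haveI : Module.Flat Γ((W : Scheme.{u}), ⊤) (Q.X (-(p : ℤ) - 1)) := by
    haveI := (hP (-(p : ℤ) - 1)).2
    infer_instance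
  exact (epi_bc_iff_genF f s F Bs W hs Q hQ p).2 (genF_of_flat Q (-(p : ℤ)))

end Loc

section Near

variable {X S : Scheme.{u}} (f : X ⟶ S) [IsSeparated f] [QuasiCompact f] (s : S)
  [HasInjectiveResolutions X.Modules]
  (F : X.Modules) [F.IsQuasicoherent]
  (W : S.Opens) [IsAffine (W : Scheme.{u})] (hs : s ∈ W)
  (Q : ChainComplex (ModuleCat.{u} Γ((W : Scheme.{u}), ⊤)) ℤ) (hQ : IsBridge f F W Q)
  (hP : ∀ i, Module.Finite Γ((W : Scheme.{u}), ⊤) (Q.X i) ∧ Module.Projective Γ((W : Scheme.{u}), ⊤) (Q.X i))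

include hs hP in
/-- freeness of two opcycles at `s` spreads out to flatness over a smaller affine neighbourhood -/
theorem exists_flat_shrink (q₁ q₂ : ℤ)
    (h₁ : (W : Scheme.{u}).isoSpec.hom ⟨s, hs⟩ ∈
      Module.freeLocus Γ((W : Scheme.{u}), ⊤) (Q.opcycles q₁))
    (h₂ : (W : Scheme.{u}).isoSpec.hom ⟨s, hs⟩ ∈
      Module.freeLocus Γ((W : Scheme.{u}), ⊤) (Q.opcycles q₂)) :
    ∃ (W' : S.Opens) (hW' : IsAffineOpen W') (_ : s ∈ W') (hle : W' ≤ (𝟙 S) ⁻¹ᵁ W),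
      haveI : IsAffine (W' : Scheme.{u}) := hW'
      letI := algW (𝟙 S) hle
      Module.Flat Γ((W' : Scheme.{u}), ⊤) ((CohIII.bcCx
        (algebraMap Γ((W : Scheme.{u}), ⊤) Γ((W' : Scheme.{u}), ⊤)) Q).opcycles q₁) ∧
      Module.Flat Γ((W' : Scheme.{u}), ⊤) ((CohIII.bcCx
        (algebraMap Γ((W : Scheme.{u}), ⊤) Γ((W' : Scheme.{u}), ⊤)) Q).opcycles q₂) := by
  haveI := finitePresentation_opcycles' Q hP q₁
  haveI := finitePresentation_opcycles' Q hP q₂
  obtain ⟨W', hW', hsW', hle, hall⟩ := exists_affine_shrink s W hs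
    (Module.freeLocus Γ((W : Scheme.{u}), ⊤) (Q.opcycles q₁) ∩
      Module.freeLocus Γ((W : Scheme.{u}), ⊤) (Q.opcycles q₂))
    (Module.isOpen_freeLocus.inter Module.isOpen_freeLocus) ⟨h₁, h₂⟩
  refine ⟨W', hW', hsW', hle, ?_⟩
  haveI : IsAffine (W' : Scheme.{u}) := hW'
  letI := algW (𝟙 S) hle
  exact ⟨flat_bcCx_opcycles_of_freeLocus Q hP _ q₁ (fun x' => (hall x').1),
    flat_bcCx_opcycles_of_freeLocus Q hP _ q₂ (fun x' => (hall x').2)⟩

include hs hQ hP in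
/-- **freeness of `opcycles_{-i-1}` and `opcycles_{-i}` at `s` makes `R^i f_* F` finite locally free near
`s`** -/
theorem exists_isFinLocFree_near (i : ℕ)
    (h₁ : (W : Scheme.{u}).isoSpec.hom ⟨s, hs⟩ ∈
      Module.freeLocus Γ((W : Scheme.{u}), ⊤) (Q.opcycles (-(i : ℤ) - 1)))
    (h₂ : (W : Scheme.{u}).isoSpec.hom ⟨s, hs⟩ ∈
      Module.freeLocus Γ((W : Scheme.{u}), ⊤) (Q.opcycles (-(i : ℤ)))) :
    ∃ W' : S.Opens, s ∈ W' ∧ W' ≤ W ∧
      FlatMod.IsFinLocFree (((Coh.Rpush f i).obj F).restrict W'.ι) := by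
  obtain ⟨W', hW', hsW', hle, hf1, hf2⟩ := exists_flat_shrink s W hs Q hP _ _ h₁ h₂
  haveI : IsAffine (W' : Scheme.{u}) := hW'
  letI := algW (𝟙 S) hle
  have hQ' := isBridge_restrict hle hQ
  have hP' := finite_projective_bcCx Q hP Γ((W' : Scheme.{u}), ⊤)
  haveI := hf1
  haveI := hf2
  obtain ⟨hfin, hproj⟩ := finite_projective_homology _ hP' (-(i : ℤ))
  haveI := hfin
  haveI := hproj
  exact ⟨W', hsW', hle, isFinLocFree_Rpush_restrict_of_projective f F W' _ hQ' i⟩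

end Near

end Groth.Agent.Lib.R2H2.FibreBC
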