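import Mathlib
import Groth.Prelude
import Groth.Agent.Lib.R2H2FibreBC
import Groth.Agent.S2375
import Groth.Agent.S2406
import Groth.Agent.S4485
set_option backward.isDefEq.respectTransparency.types false
set_option autoImplicit false
set_option linter.unusedSectionVars false
set_option linter.style.haveILetI false
universe u
open CategoryTheory AlgebraicGeometry TopologicalSpace Opposite

noncomputable section

namespace Groth.Agent.Lib.R2H2.FibreRank

open Groth.Agent.Lib.R2H2.BcLocal Groth.Agent.Lib.R2H2.GenFAlg Groth.Agent.Lib.R2H2.FibreFP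
  Groth.Agent.Lib.R2H2.LocalModel Groth.Agent.Lib.R2H2.FibreAlg Groth.Agent.Lib.R2H2.FibreBC
  Groth.Agent.Lib.Helper3

section Alg

variable {R : Type u} [CommRing R] (P : ChainComplex (ModuleCat.{u} R) ℤ)
  (hP : ∀ i, Module.Finite R (P.X i) ∧ Module.Projective R (P.X i))

include hP in
/-- flat opcycles in two consecutive degrees make the rank function of the complex locally constant -/
theorem isLocallyConstant_dRank_of_flat (k : ℤ) [Module.Flat R (P.opcycles (k - 1))]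
    [Module.Flat R (P.opcycles k)] : IsLocallyConstant (CohIII.dRank P k) := by
  have hfl : ∀ i, Module.Flat R (P.X i) := fun i => by
    haveI := (hP i).2
    infer_instance
  have hm : (CohIII.TFun P k).PreservesMonomorphisms :=
    (Groth.Agent.S2375.result P hfl k).2 inferInstance
  have hm1 : (CohIII.TFun P (k - 1)).PreservesMonomorphisms :=
    (Groth.Agent.S2375.result P hfl (k - 1)).2 inferInstance
  have he : (CohIII.TFun P k).PreservesEpimorphisms :=
    (Groth.Agent.S2406.result P hfl k (k - 1) (by ring)).2 hm1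
  obtain ⟨hfin, hproj⟩ := finite_projective_homology P hP k
  haveI := hfin
  haveI := hproj
  haveI : Module.FinitePresentation R (P.homology k) := Module.finitePresentation_of_projective R _
  have hfp : Module.FinitePresentation R (CohIII.T P k (ModuleCat.of R R)) :=
    Module.FinitePresentation.of_equiv (TUnitIso P k).toLinearEquiv.symm
  exact Groth.Agent.S4485.result P hfl k ⟨hm, he⟩ hfp

end Alg

section Geo

variable {X S : Scheme.{u}} (f : X ⟶ S) [IsSeparated f] [QuasiCompact f]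
  (F : X.Modules) [F.IsQuasicoherent]
  (W : S.Opens) [IsAffine (W : Scheme.{u})]
  (Q : ChainComplex (ModuleCat.{u} Γ((W : Scheme.{u}), ⊤)) ℤ) (hQ : IsBridge f F W Q)
  (hfl : ∀ i, Module.Flat Γ((W : Scheme.{u}), ⊤) (Q.X i))

include hQ hfl in
/-- the fibre ranks over `W` are computed by the rank function of the Grothendieck complex -/
theorem fiberRank_eq_dRank_of_isBridge (p : ℕ) (t : S) (ht : t ∈ W) :
    CohIII.fiberRank f F p t =
      CohIII.dRank Q (-(p : ℤ)) ((W : Scheme.{u}).isoSpec.hom ⟨t, ht⟩) := by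
  letI := overW f W
  obtain ⟨e⟩ := hQ p
  haveI : (F.restrict (f ⁻¹ᵁ W).ι).IsQuasicoherent :=
    Scheme.Modules.isQuasicoherent_restrictFunctor (f ⁻¹ᵁ W).ι F
  haveI : IsSeparated (((f ⁻¹ᵁ W : X.Opens) : Scheme.{u}) ↘
      Spec (CommRingCat.of Γ((W : Scheme.{u}), ⊤))) :=
    inferInstanceAs (IsSeparated (f ∣_ W ≫ (W : Scheme.{u}).isoSpec.hom))
  haveI : CompactSpace ((f ⁻¹ᵁ W : X.Opens) : Scheme.{u}) :=
    QuasiCompact.compactSpace_of_compactSpace (f ∣_ W)
  have sq : IsPullback (𝟙 ((f ⁻¹ᵁ W : X.Opens) : Scheme.{u})) (f ∣_ W)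
      (((f ⁻¹ᵁ W : X.Opens) : Scheme.{u}) ↘ Spec (CommRingCat.of Γ((W : Scheme.{u}), ⊤)))
      (W : Scheme.{u}).isoSpec.hom :=
    IsPullback.of_horiz_isIso ⟨by rw [Category.id_comp]; rfl⟩
  exact Groth.Agent.Lib.R2H2.LocalCBC.fiberRank_eq_dRank_of_localModel sq (F.restrict (f ⁻¹ᵁ W).ι)
    ((Scheme.Modules.pullbackId _).app _) Q hfl (-(p : ℤ)) p e t ht

end Geo

section Shrink

variable {S : Scheme.{u}} (s : S) (W : S.Opens) [IsAffine (W : Scheme.{u})] (hs : s ∈ W)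

/-- finite local freeness over an open restricts to smaller opens -/
theorem isFinLocFree_restrict_of_le (M : S.Modules) {V W' : S.Opens} (h : W' ≤ V)
    (hM : FlatMod.IsFinLocFree (M.restrict V.ι)) : FlatMod.IsFinLocFree (M.restrict W'.ι) := by
  have h1 := Groth.Agent.Lib.H6xPerfLoc.isFinLocFree_restrict (S.homOfLE h) (M.restrict V.ι) hM
  have hj : S.homOfLE h ≫ V.ι = W'.ι := S.homOfLE_ι h
  exact Groth.Agent.H3.FLF.isFinLocFree_of_iso
    ((Scheme.Modules.restrictFunctorCongr hj.symm).app M ≪≫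
      (Scheme.Modules.restrictFunctorComp (S.homOfLE h) V.ι).app M).symm h1

include hs in
/-- **shrinking**, inside a given neighbourhood `V` of `s` -/
theorem exists_affine_shrink' (V : S.Opens) (hsV : s ∈ V)
    (O : Set (PrimeSpectrum Γ((W : Scheme.{u}), ⊤))) (hO : IsOpen O)
    (hsO : (W : Scheme.{u}).isoSpec.hom ⟨s, hs⟩ ∈ O) :
    ∃ (W' : S.Opens) (hW' : IsAffineOpen W') (_ : s ∈ W') (_ : W' ≤ V) (hle : W' ≤ (𝟙 S) ⁻¹ᵁ W),
      haveI : IsAffine (W' : Scheme.{u}) := hW'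
      letI := algW (𝟙 S) hle
      ∀ x' : PrimeSpectrum Γ((W' : Scheme.{u}), ⊤),
        PrimeSpectrum.comap (algebraMap Γ((W : Scheme.{u}), ⊤) Γ((W' : Scheme.{u}), ⊤)) x' ∈ O := by
  let U0 : (W : Scheme.{u}).Opens :=
    ⟨(W : Scheme.{u}).isoSpec.hom ⁻¹' O, hO.preimage (W : Scheme.{u}).isoSpec.hom.continuous⟩
  let U : S.Opens := W.ι ''ᵁ U0
  have hsU : s ∈ U ⊓ V := ⟨⟨⟨s, hs⟩, hsO, rfl⟩, hsV⟩
  obtain ⟨_, ⟨W', hW', rfl⟩, hsW', hW'U⟩ :=
    S.isBasis_affineOpens.exists_subset_of_mem_open hsU (U ⊓ V).2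
  have hle : W' ≤ (𝟙 S) ⁻¹ᵁ W := by
    intro x hx
    obtain ⟨u, -, rfl⟩ := (hW'U hx).1
    exact u.2
  refine ⟨W', hW', hsW', fun x hx => (hW'U hx).2, hle, ?_⟩
  haveI : IsAffine (W' : Scheme.{u}) := hW'
  letI := algW (𝟙 S) hle
  intro x'
  set res := Scheme.Hom.resLE (𝟙 S) W W' hle with hres
  set t' := (W' : Scheme.{u}).isoSpec.inv x' with ht'
  have h1 : (W' : Scheme.{u}).isoSpec.hom t' = x' := by
    have := congrArg (fun φ => φ x') (W' : Scheme.{u}).isoSpec.inv_hom_id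
    simp only [Scheme.Hom.comp_apply] at this
    exact this
  have hnat := Scheme.isoSpec_hom_naturality res
  have h2 : (W : Scheme.{u}).isoSpec.hom (res t') =
      (Spec.map res.appTop) ((W' : Scheme.{u}).isoSpec.hom t') := by
    have h3 := congrArg (fun φ => φ t') hnat
    simp only [Scheme.Hom.comp_apply] at h3
    exact h3.symm
  rw [h1] at h2
  have h4 : PrimeSpectrum.comap (algebraMap Γ((W : Scheme.{u}), ⊤) Γ((W' : Scheme.{u}), ⊤)) x' =
      (Spec.map res.appTop) x' := rfl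
  rw [h4, ← h2]
  have h5 : W.ι (res t') = Scheme.Opens.ι W' t' := by
    have h6 := congrArg (fun φ => φ t') (Scheme.Hom.resLE_comp_ι (𝟙 S) hle)
    simp only [Scheme.Hom.comp_apply] at h6
    exact h6
  obtain ⟨u, hu, hu2⟩ := (hW'U t'.2).1
  have h7 : u = res t' := W.ι.isOpenEmbedding.injective (hu2.trans h5.symm)
  rw [← h7]
  exact hu

variable (Q : ChainComplex (ModuleCat.{u} Γ((W : Scheme.{u}), ⊤)) ℤ)
  (hP : ∀ i, Module.Finite Γ((W : Scheme.{u}), ⊤) (Q.X i) ∧ Module.Projective Γ((W : Scheme.{u}), ⊤) (Q.X i))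

include hs hP in
/-- freeness of two opcycles at `s` spreads out to flatness over a smaller affine neighbourhood, inside a given
neighbourhood of `s` -/
theorem exists_flat_shrink' (V : S.Opens) (hsV : s ∈ V) (q₁ q₂ : ℤ)
    (h₁ : (W : Scheme.{u}).isoSpec.hom ⟨s, hs⟩ ∈
      Module.freeLocus Γ((W : Scheme.{u}), ⊤) (Q.opcycles q₁))
    (h₂ : (W : Scheme.{u}).isoSpec.hom ⟨s, hs⟩ ∈
      Module.freeLocus Γ((W : Scheme.{u}), ⊤) (Q.opcycles q₂)) :
    ∃ (W' : S.Opens) (hW' : IsAffineOpen W') (_ : s ∈ W') (_ : W' ≤ V) (hle : W' ≤ (𝟙 S) ⁻¹ᵁ W),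
      haveI : IsAffine (W' : Scheme.{u}) := hW'
      letI := algW (𝟙 S) hle
      Module.Flat Γ((W' : Scheme.{u}), ⊤) ((CohIII.bcCx
        (algebraMap Γ((W : Scheme.{u}), ⊤) Γ((W' : Scheme.{u}), ⊤)) Q).opcycles q₁) ∧
      Module.Flat Γ((W' : Scheme.{u}), ⊤) ((CohIII.bcCx
        (algebraMap Γ((W : Scheme.{u}), ⊤) Γ((W' : Scheme.{u}), ⊤)) Q).opcycles q₂) := by
  haveI := finitePresentation_opcycles' Q hP q₁
  haveI := finitePresentation_opcycles' Q hP q₂
  obtain ⟨W', hW', hsW', hW'V, hle, hall⟩ := exists_affine_shrink' s W hs V hsV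
    (Module.freeLocus Γ((W : Scheme.{u}), ⊤) (Q.opcycles q₁) ∩
      Module.freeLocus Γ((W : Scheme.{u}), ⊤) (Q.opcycles q₂))
    (Module.isOpen_freeLocus.inter Module.isOpen_freeLocus) ⟨h₁, h₂⟩
  refine ⟨W', hW', hsW', hW'V, hle, ?_⟩
  haveI : IsAffine (W' : Scheme.{u}) := hW'
  letI := algW (𝟙 S) hle
  exact ⟨flat_bcCx_opcycles_of_freeLocus Q hP _ q₁ (fun x' => (hall x').1),
    flat_bcCx_opcycles_of_freeLocus Q hP _ q₂ (fun x' => (hall x').2)⟩

end Shrink

section Near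

open AlgebraicGeometry.Scheme.Modules CohCmp

variable {X S : Scheme.{u}} (f : X ⟶ S) [IsSeparated f] [QuasiCompact f] (s : S)
  [HasInjectiveResolutions X.Modules]
  (F : X.Modules) [F.IsQuasicoherent]
  (W : S.Opens) [IsAffine (W : Scheme.{u})] (hs : s ∈ W)
  (Q : ChainComplex (ModuleCat.{u} Γ((W : Scheme.{u}), ⊤)) ℤ) (hQ : IsBridge f F W Q)
  (hP : ∀ i, Module.Finite Γ((W : Scheme.{u}), ⊤) (Q.X i) ∧ Module.Projective Γ((W : Scheme.{u}), ⊤) (Q.X i))

include hs hQ hP in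
/-- **freeness of `opcycles_{-i-1}` and `opcycles_{-i}` at `s` makes `R^i f_* F` finite locally free near
`s`, with locally constant fibre ranks** -/
theorem exists_isFinLocFree_rank_near (i : ℕ)
    (h₁ : (W : Scheme.{u}).isoSpec.hom ⟨s, hs⟩ ∈
      Module.freeLocus Γ((W : Scheme.{u}), ⊤) (Q.opcycles (-(i : ℤ) - 1)))
    (h₂ : (W : Scheme.{u}).isoSpec.hom ⟨s, hs⟩ ∈
      Module.freeLocus Γ((W : Scheme.{u}), ⊤) (Q.opcycles (-(i : ℤ)))) :
    ∃ W' : S.Opens, s ∈ W' ∧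
      FlatMod.IsFinLocFree (((Coh.Rpush f i).obj F).restrict W'.ι) ∧
      IsLocallyConstant (fun v : W' => CohIII.fiberRank f F i v.1) := by
  obtain ⟨W', hW', hsW', hle, hf1, hf2⟩ := exists_flat_shrink s W hs Q hP _ _ h₁ h₂
  haveI : IsAffine (W' : Scheme.{u}) := hW'
  letI := algW (𝟙 S) hle
  have hQ' := isBridge_restrict hle hQ
  have hP' := finite_projective_bcCx Q hP Γ((W' : Scheme.{u}), ⊤)
  haveI := hf1
  haveI := hf2
  obtain ⟨hfin, hproj⟩ := finite_projective_homology _ hP' (-(i : ℤ))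
  haveI := hfin
  haveI := hproj
  refine ⟨W', hsW', isFinLocFree_Rpush_restrict_of_projective f F W' _ hQ' i, ?_⟩
  have hfl' : ∀ j, Module.Flat Γ((W' : Scheme.{u}), ⊤) ((CohIII.bcCx
      (algebraMap Γ((W : Scheme.{u}), ⊤) Γ((W' : Scheme.{u}), ⊤)) Q).X j) := fun j => by
    haveI := (hP' j).2
    infer_instance
  have hlc := isLocallyConstant_dRank_of_flat _ hP' (-(i : ℤ))
  have hfun : (fun v : W' => CohIII.fiberRank f F i v.1) =
      (CohIII.dRank (CohIII.bcCx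
        (algebraMap Γ((W : Scheme.{u}), ⊤) Γ((W' : Scheme.{u}), ⊤)) Q) (-(i : ℤ))) ∘
        (fun v : W' => (W' : Scheme.{u}).isoSpec.hom v) := by
    funext v
    exact fiberRank_eq_dRank_of_isBridge f F W' _ hQ' hfl' i v.1 v.2
  rw [hfun]
  exact hlc.comp_continuous (W' : Scheme.{u}).isoSpec.hom.continuous

end Near

section Conv

open AlgebraicGeometry.Scheme.Modules CohCmp

variable {X S : Scheme.{u}} (f : X ⟶ S) [IsSeparated f] [QuasiCompact f] (s : S)
  [HasInjectiveResolutions X.Modules] [HasInjectiveResolutions (f.fiber s).Modules]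
  (F : X.Modules) [F.IsQuasicoherent]
  {Δ : RDer.DerivedLES (pushforward f)}
  {Δs : RDer.DerivedLES (pushforward (f.fiberToSpecResidueField s))}
  {E : CohCmp.SectCmp f Δ} {Es : CohCmp.SectCmp (f.fiberToSpecResidueField s) Δs}
  (Bs : CohCmp.GenBC f (S.fromSpecResidueField s) (f.fiberToSpecResidueField s) (f.fiberι s)
    (f.fiber_fac s) E Es)
  (W : S.Opens) [IsAffine (W : Scheme.{u})] (hs : s ∈ W)
  (Q : ChainComplex (ModuleCat.{u} Γ((W : Scheme.{u}), ⊤)) ℤ) (hQ : IsBridge f F W Q)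
  (hP : ∀ i, Module.Finite Γ((W : Scheme.{u}), ⊤) (Q.X i) ∧ Module.Projective Γ((W : Scheme.{u}), ⊤) (Q.X i))

include hs hQ hP in
/-- **if `opcycles_{-(i+1)-1}` is free at `s` and `R^{i+1} f_* F` is finite locally free near `s`, the fibre
base change map in degree `i` is an epimorphism** -/
theorem epi_of_isFinLocFree_near (i : ℕ)
    (h₁ : (W : Scheme.{u}).isoSpec.hom ⟨s, hs⟩ ∈
      Module.freeLocus Γ((W : Scheme.{u}), ⊤) (Q.opcycles (-((i + 1 : ℕ) : ℤ) - 1)))
    (V : S.Opens) (hsV : s ∈ V)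
    (hV : FlatMod.IsFinLocFree (((Coh.Rpush f (i + 1)).obj F).restrict V.ι)) :
    Epi (Bs.bc i F) := by
  obtain ⟨W', hW', hsW', hW'V, hle, hf1, -⟩ := exists_flat_shrink' s W hs Q hP V hsV _ _ h₁ h₁
  haveI : IsAffine (W' : Scheme.{u}) := hW'
  letI := algW (𝟙 S) hle
  have hQ' := isBridge_restrict hle hQ
  have hP' := finite_projective_bcCx Q hP Γ((W' : Scheme.{u}), ⊤)
  haveI := hf1
  haveI : Module.Flat Γ((W' : Scheme.{u}), ⊤) ((CohIII.bcCx
      (algebraMap Γ((W : Scheme.{u}), ⊤) Γ((W' : Scheme.{u}), ⊤)) Q).homology (-((i + 1 : ℕ) : ℤ))) :=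
    flat_homology_of_isFinLocFree f F W' _ hQ' (i + 1) (isFinLocFree_restrict_of_le _ hW'V hV)
  have h2 := flat_opcycles_of_flat_homology _ hP' (-((i + 1 : ℕ) : ℤ))
  have e1 : (-((i + 1 : ℕ) : ℤ)) = -(i : ℤ) - 1 := by push_cast; ring
  rw [e1] at h2
  haveI := h2
  exact epi_of_flat f s F Bs W' hsW' _ hQ' hP' i

end Conv

end Groth.Agent.Lib.R2H2.FibreRank
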