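import Mathlib
set_option autoImplicit false
set_option linter.unusedSectionVars false
set_option linter.style.haveILetI false
universe u
open TensorProduct

noncomputable section

namespace Groth.Agent.Lib.R2H2.OrzechBC

section Conv

variable {R R' A A' : Type*} [CommRing R] [CommRing R'] [CommRing A] [CommRing A']
  [Algebra R R'] [Algebra A A'] (ρ : R ≃+* A) (ρ' : R' ≃+* A')
  (hcomp : ∀ r, ρ' (algebraMap R R' r) = algebraMap A A' (ρ r))
  {Y : Type*} [AddCommGroup Y] [Module R Y] [Module A Y] (hY : ∀ (r : R) (y : Y), r • y = ρ r • y)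

include hcomp hY in
/-- the comparison `R' ⊗[R] Y → A' ⊗[A] Y` -/
def convHom : R' ⊗[R] Y →+ A' ⊗[A] Y :=
  TensorProduct.liftAddHom
    { toFun := fun r' =>
        { toFun := fun y => ρ' r' ⊗ₜ[A] y
          map_zero' := by simp
          map_add' := fun y z => by simp [tmul_add] }
      map_zero' := by ext y; simp
      map_add' := fun a b => by ext y; simp [add_tmul] }
    (fun r r' y => by
      change ρ' (r • r') ⊗ₜ[A] y = ρ' r' ⊗ₜ[A] (r • y)
      rw [Algebra.smul_def, map_mul, hcomp, hY, ← Algebra.smul_def, TensorProduct.smul_tmul])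

include hcomp hY in
lemma convHom_tmul (r' : R') (y : Y) :
    convHom ρ ρ' hcomp hY (r' ⊗ₜ[R] y) = ρ' r' ⊗ₜ[A] y := rfl

include hcomp hY in
lemma convHom_smul (r' : R') (z : R' ⊗[R] Y) :
    convHom ρ ρ' hcomp hY (r' • z) = ρ' r' • convHom ρ ρ' hcomp hY z := by
  induction z using TensorProduct.induction_on with
  | zero => simp
  | tmul s y =>
    rw [TensorProduct.smul_tmul', convHom_tmul, convHom_tmul, TensorProduct.smul_tmul', smul_eq_mul,
      smul_eq_mul, map_mul]
  | add a b ha hb => rw [smul_add, map_add, map_add, smul_add, ha, hb]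

include hcomp in
lemma hcomp_symm (a : A) : ρ'.symm (algebraMap A A' a) = algebraMap R R' (ρ.symm a) := by
  apply ρ'.injective
  rw [RingEquiv.apply_symm_apply, hcomp, RingEquiv.apply_symm_apply]

include hY in
lemma hY_symm (a : A) (y : Y) : a • y = ρ.symm a • y := by
  rw [hY, RingEquiv.apply_symm_apply]

include hcomp hY in
/-- the comparison `R' ⊗[R] Y ≃+ A' ⊗[A] Y` -/
def convEquiv : R' ⊗[R] Y ≃+ A' ⊗[A] Y where
  toFun := convHom ρ ρ' hcomp hY
  invFun := convHom ρ.symm ρ'.symm (hcomp_symm ρ ρ' hcomp) (hY_symm ρ hY)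
  left_inv z := by
    induction z using TensorProduct.induction_on with
    | zero => simp
    | tmul s y => rw [convHom_tmul, convHom_tmul, RingEquiv.symm_apply_apply]
    | add a b ha hb => rw [map_add, map_add, ha, hb]
  right_inv z := by
    induction z using TensorProduct.induction_on with
    | zero => simp
    | tmul s y => rw [convHom_tmul, convHom_tmul, RingEquiv.apply_symm_apply]
    | add a b ha hb => rw [map_add, map_add, ha, hb]
  map_add' := map_add _

end Conv

section Main

variable {R R' A A' : Type u} [CommRing R] [CommRing R'] [CommRing A] [CommRing A']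
  [Algebra R R'] [Algebra A A'] (ρ : R ≃+* A) (ρ' : R' ≃+* A')
  (hcomp : ∀ r, ρ' (algebraMap R R' r) = algebraMap A A' (ρ r))
  {M₁ M₂ : Type u} [AddCommGroup M₁] [AddCommGroup M₂] [Module R' M₁] [Module R' M₂]
  (v : M₁ →ₗ[R'] M₂) (hv : Function.Surjective v)
  {N₀ : Type u} [AddCommGroup N₀] [Module R N₀] (i1 : M₁ ≃ₗ[R'] R' ⊗[R] N₀)
  {Y : Type u} [AddCommGroup Y] [Module R Y] [Module A Y] (hY : ∀ (r : R) (y : Y), r • y = ρ r • y)
  (i2 : N₀ ≃ₗ[R] Y)
  {X : Type u} [AddCommGroup X] [Module R' X] [Module A' X]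
  (hX : ∀ (r' : R') (x : X), r' • x = ρ' r' • x) (i4 : X ≃ₗ[R'] M₂)
  (Φ : X ≃ₗ[A'] A' ⊗[A] Y) [Module.Finite A Y]

include hcomp hv i1 hY i2 hX i4 Φ in
/-- a surjective linear map between abstractly isomorphic finite modules is bijective -/
theorem bijective_of_surjective : Function.Bijective v := by
  refine ⟨?_, hv⟩
  -- the abstract isomorphism `M₁ ≃ M₂`, linear over `R'`
  let c := convEquiv ρ ρ' hcomp hY
  let j : M₁ ≃+ M₂ :=
    ((i1.toAddEquiv.trans (LinearEquiv.baseChange R R' N₀ Y i2).toAddEquiv).trans c).trans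
      (Φ.symm.toAddEquiv.trans i4.toAddEquiv)
  have hj : ∀ (r' : R') (m : M₁), j (r' • m) = r' • j m := by
    intro r' m
    change i4 (Φ.symm (c ((LinearEquiv.baseChange R R' N₀ Y i2) (i1 (r' • m))))) =
      r' • i4 (Φ.symm (c ((LinearEquiv.baseChange R R' N₀ Y i2) (i1 m))))
    rw [map_smul, map_smul]
    have h1 : c (r' • (LinearEquiv.baseChange R R' N₀ Y i2) (i1 m)) =
        ρ' r' • c ((LinearEquiv.baseChange R R' N₀ Y i2) (i1 m)) := convHom_smul ρ ρ' hcomp hY r' _
    rw [h1, map_smul, ← hX, map_smul]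
  let jl : M₁ →ₗ[R'] M₂ :=
    { toFun := j
      map_add' := map_add j
      map_smul' := hj }
  -- finiteness of `M₂` over `R'`
  haveI : Module.Finite A' (A' ⊗[A] Y) := inferInstance
  haveI : Module.Finite A' X := Module.Finite.equiv Φ.symm
  letI : Algebra A' R' := ρ'.symm.toRingHom.toAlgebra
  haveI : IsScalarTower A' R' X := ⟨fun a r' x => by
    change (ρ'.symm a * r') • x = a • (r' • x)
    rw [hX, hX, map_mul, RingEquiv.apply_symm_apply, mul_smul]⟩
  haveI : Module.Finite R' X := Module.Finite.of_restrictScalars_finite A' R' X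
  haveI : Module.Finite R' M₂ := Module.Finite.equiv i4
  exact OrzechProperty.injective_of_surjective_of_injective jl v j.injective hv

end Main

end Groth.Agent.Lib.R2H2.OrzechBC
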