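import Mathlib
import Groth.Prelude
import Groth.Agent.Lib.R2H2FibreRank
import Groth.Agent.Lib.R2H2OrzechBC
import Groth.Agent.Lib.R2H2BcGen
import Groth.Agent.Lib.Helper20PullbackAff
set_option backward.isDefEq.respectTransparency.types false
set_option autoImplicit false
set_option linter.unusedSectionVars false
set_option linter.style.haveILetI false
universe u
open CategoryTheory AlgebraicGeometry TopologicalSpace Opposite TensorProduct
open AlgebraicGeometry.Scheme.Modules CohCmp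

noncomputable section

namespace Groth.Agent.Lib.R2H2.BcBij

open Groth.Agent.Lib.R2H2.EpsBij Groth.Agent.Lib.R2H2.EpsLin Groth.Agent.Lib.R2H2.BcSect
  Groth.Agent.Lib.R2H2.BcLocal Groth.Agent.Lib.R2H2.GenFAlg Groth.Agent.Lib.R2H2.LocalModel
  Groth.Agent.Lib.Helper3

section Rings

variable {X' S' : Scheme.{u}} (f' : X' ⟶ S') (W' : S'.Opens) [IsAffine (W' : Scheme.{u})]

/-- the scalars from `Γ(S', W')` and from `Γ(W', ⊤)` agree -/
theorem rTopHom_eq (r : Γ(S', W')) :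
    letI := overW f' W'
    rTopHom f' W' r =
      Coh.toGlobal (((f' ⁻¹ᵁ W' : X'.Opens) : Scheme.{u}) ↘
        Spec (CommRingCat.of Γ((W' : Scheme.{u}), ⊤))) (W'.topIso.inv.hom r) := by
  letI := overW f' W'
  have h1 : ∀ b : Γ((W' : Scheme.{u}), ⊤),
      Coh.toGlobal (((f' ⁻¹ᵁ W' : X'.Opens) : Scheme.{u}) ↘
        Spec (CommRingCat.of Γ((W' : Scheme.{u}), ⊤))) b = (f' ∣_ W').appTop.hom b := fun b =>
    (Groth.Agent.Lib.R2H2.LocalCBC.toGlobal_isoSpec (f' ∣_ W') b).trans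
      (Groth.Agent.Lib.R2H2.GammaDer.topHom_apply _ _)
  have h2 : rTopHom f' W' r = (f' ∣_ W').appTop.hom (W'.topIso.inv.hom r) :=
    (congrArg (fun φ => φ.hom r) (topIso_inv_appTop f' W')).symm
  exact h2.trans (h1 _).symm

end Rings

section Res

variable {S S' : Scheme.{u}} (g : S' ⟶ S) {W : S.Opens} {W' : S'.Opens} (hle : W' ≤ g ⁻¹ᵁ W)

theorem topIso_inv_resLE_appTop :
    W.topIso.inv ≫ (g.resLE W W' hle).appTop = g.appLE W W' hle ≫ W'.topIso.inv := by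
  simp only [Scheme.Opens.topIso_inv, Scheme.Hom.appTop, Scheme.Hom.app_eq_appLE,
    Scheme.Hom.resLE_appLE]
  erw [Scheme.Hom.map_appLE]
  erw [Scheme.Hom.appLE_map]
  rfl

end Res

section Alg

variable {R : Type u} [CommRing R] (P : ChainComplex (ModuleCat.{u} R) ℤ)
  (hP : ∀ i, Module.Finite R (P.X i) ∧ Module.Projective R (P.X i))

include hP in
/-- flat next opcycles give finite homology -/
theorem finite_homology_of_flat (k : ℤ) [Module.Flat R (P.opcycles (k - 1))] :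
    Module.Finite R (P.homology k) := by
  haveI := projective_opcycles_of_flat P hP (k - 1)
  haveI := (hP (k - 1)).2
  haveI := (hP k).1
  haveI : Module.Finite R (P.opcycles k) := finite_opcycles P k
  have hrel : (ComplexShape.down ℤ).Rel k (k - 1) := by
    change k - 1 + 1 = k
    ring
  exact finite_of_four (P.homologyι k).hom (P.fromOpcycles k (k - 1)).hom
    (P.pOpcycles (k - 1)).hom ((ModuleCat.mono_iff_injective _).mp inferInstance)
    ((ModuleCat.epi_iff_surjective _).mp inferInstance)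
    (exact_homologyι_fromOpcycles P k (k - 1) ((ComplexShape.down ℤ).next_eq' hrel))
    (exact_fromOpcycles_pOpcycles P k (k - 1) ((ComplexShape.down ℤ).prev_eq' hrel))

end Alg

section Main

variable {X S S' X' : Scheme.{u}} {f : X ⟶ S} {g : S' ⟶ S} {f' : X' ⟶ S'} {g' : X' ⟶ X}
  (hpb : IsPullback g' f' f g) [HasInjectiveResolutions X.Modules]
  [HasInjectiveResolutions X'.Modules]
  {Δ : RDer.DerivedLES (pushforward f)} {Δ' : RDer.DerivedLES (pushforward f')}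
  {E : SectCmp f Δ} {E' : SectCmp f' Δ'} (B : GenBC f g f' g' hpb.w E E')
  [IsSeparated f] [QuasiCompact f]
  (F : X.Modules) [F.IsQuasicoherent] (p : ℕ) (W : S.Opens) (W' : S'.Opens) (hle : W' ≤ g ⁻¹ᵁ W)
  [IsAffine (W : Scheme.{u})] [IsAffine (W' : Scheme.{u})]
  (Q : ChainComplex (ModuleCat.{u} Γ((W : Scheme.{u}), ⊤)) ℤ) (hQ : IsBridge f F W Q)
  (hP : ∀ i, Module.Finite Γ((W : Scheme.{u}), ⊤) (Q.X i) ∧
    Module.Projective Γ((W : Scheme.{u}), ⊤) (Q.X i))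
  [Module.Flat Γ((W : Scheme.{u}), ⊤) (Q.opcycles (-(p : ℤ) - 1))]

include hQ hP hle in
/-- surjectivity of the base change map on sections over `W'` -/
theorem surjective_bc_app_of_flat : Function.Surjective ((B.bc p F).app W') := by
  haveI : QuasiCompact f' := MorphismProperty.of_isPullback (P := @QuasiCompact) hpb inferInstance
  haveI : QuasiSeparated f' :=
    MorphismProperty.of_isPullback (P := @QuasiSeparated) hpb inferInstance
  letI := overW f W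
  letI := algW g hle
  obtain ⟨e⟩ := hQ p
  haveI := (hP (-(p : ℤ) - 1)).2
  haveI : Module.Flat Γ((W : Scheme.{u}), ⊤) (Q.X (-(p : ℤ) - 1)) := inferInstance
  exact (Groth.Agent.Lib.R2H2.BcGen.surjective_bc_app_iff_genF' hpb B F p W W' hle).mpr
    ((genF_iso _ _ e).mp (genF_of_flat Q (-(p : ℤ))))

include hQ hP hle in
/-- **bijectivity of the base change map on sections over an affine `W' ≤ g⁻¹W`** when the opcycles of the
Grothendieck complex over `W` in degree `-p-1` are flat -/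
theorem bijective_bc_app_of_flat : Function.Bijective ((B.bc p F).app W') := by
  haveI : QuasiCompact f' := MorphismProperty.of_isPullback (P := @QuasiCompact) hpb inferInstance
  haveI : QuasiSeparated f' :=
    MorphismProperty.of_isPullback (P := @QuasiSeparated) hpb inferInstance
  have hW : IsAffineOpen W := ‹IsAffine (W : Scheme.{u})›
  have hW' : IsAffineOpen W' := ‹IsAffine (W' : Scheme.{u})›
  have hsurj := surjective_bc_app_of_flat hpb B F p W W' hle Q hQ hP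
  letI := overW f W
  letI := overW f' W'
  letI := algW g hle
  letI : Algebra Γ(S, W) Γ(S', W') := (g.appLE W W' hle).hom.toAlgebra
  letI := modOn f W F p
  letI := modOn f' W' ((pullback g').obj F) p
  haveI : ((Coh.Rpush f p).obj F).IsQuasicoherent :=
    Groth.Agent.Lib.R2H3.RpushQCohGen.isQuasicoherent_Rpush_of_qcqs f F p
  haveI : ((pullback g').obj F).IsQuasicoherent :=
    Groth.Agent.Lib.Helper2.PullbackSec.isQuasicoherent_pullback g' F
  haveI : (F.restrict (f ⁻¹ᵁ W).ι).IsQuasicoherent :=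
    Scheme.Modules.isQuasicoherent_restrictFunctor (f ⁻¹ᵁ W).ι F
  -- ring isomorphisms
  let ρ : Γ(S, W) ≃+* Γ((W : Scheme.{u}), ⊤) := W.topIso.symm.commRingCatIsoToRingEquiv
  let ρ' : Γ(S', W') ≃+* Γ((W' : Scheme.{u}), ⊤) := W'.topIso.symm.commRingCatIsoToRingEquiv
  have hcomp : ∀ r, ρ' (algebraMap Γ(S, W) Γ(S', W') r) =
      algebraMap Γ((W : Scheme.{u}), ⊤) Γ((W' : Scheme.{u}), ⊤) (ρ r) := fun r =>
    (congrArg (fun φ => φ.hom r) (topIso_inv_resLE_appTop g hle)).symm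
  have hY : ∀ (r : Γ(S, W)) (y : Coh.HHon X F (f ⁻¹ᵁ W) p), r • y = ρ r • y := by
    intro r y
    change rTopHom f W r • y = Coh.toGlobal (((f ⁻¹ᵁ W : X.Opens) : Scheme.{u}) ↘
        Spec (CommRingCat.of Γ((W : Scheme.{u}), ⊤))) (ρ r) • y
    rw [rTopHom_eq]
    rfl
  have hX : ∀ (r : Γ(S', W')) (x : Coh.HHon X' ((pullback g').obj F) (f' ⁻¹ᵁ W') p),
      r • x = ρ' r • x := by
    intro r x
    change rTopHom f' W' r • x = Coh.toGlobal (((f' ⁻¹ᵁ W' : X'.Opens) : Scheme.{u}) ↘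
        Spec (CommRingCat.of Γ((W' : Scheme.{u}), ⊤))) (ρ' r) • x
    rw [rTopHom_eq]
    rfl
  -- the modules of sections
  let i1 : Γ((pullback g).obj ((Coh.Rpush f p).obj F), W') ≃ₗ[Γ(S', W')]
      (Γ(S', W') ⊗[Γ(S, W)] ((Groth.Agent.Lib.Helper20.Thickening.ΓUF hW).obj
        ((Coh.Rpush f p).obj F))) :=
    (Groth.Agent.Lib.Helper20.PullbackAff.ΓUEquiv hW' _).trans
      (Groth.Agent.Lib.Helper20.PullbackAff.ΓUFPullbackIso g hW hW' hle
        ((Coh.Rpush f p).obj F)).toLinearEquiv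
  let i2 : (Groth.Agent.Lib.Helper20.Thickening.ΓUF hW).obj ((Coh.Rpush f p).obj F) ≃ₗ[Γ(S, W)]
      Coh.HHon X F (f ⁻¹ᵁ W) p :=
    (Groth.Agent.Lib.Helper20.PullbackAff.ΓUEquiv hW ((Coh.Rpush f p).obj F)).symm.trans
      (epsLin (E' := E) W hW F p).symm
  let i4 := epsLin (E' := E') W' hW' ((pullback g').obj F) p
  -- the cohomology groups
  obtain ⟨e⟩ := hQ p
  haveI : IsSeparated (((f ⁻¹ᵁ W : X.Opens) : Scheme.{u}) ↘
      Spec (CommRingCat.of Γ((W : Scheme.{u}), ⊤))) :=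
    inferInstanceAs (IsSeparated (f ∣_ W ≫ (W : Scheme.{u}).isoSpec.hom))
  haveI : CompactSpace ((f ⁻¹ᵁ W : X.Opens) : Scheme.{u}) :=
    QuasiCompact.compactSpace_of_compactSpace (f ∣_ W)
  obtain ⟨Φ₁⟩ := Groth.Agent.Lib.R2H2.FibRank.nonempty_HH_linearEquiv
    (g'.resLE (f ⁻¹ᵁ W) (f' ⁻¹ᵁ W') (preimage_le hpb hle)) (isPullback_spec hpb hle)
    (F.restrict (f ⁻¹ᵁ W).ι) Q (-(p : ℤ)) p e
  let Φ₀ : Coh.HHon X' ((pullback g').obj F) (f' ⁻¹ᵁ W') p ≃ₗ[Γ((W' : Scheme.{u}), ⊤)] _ :=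
    Groth.Agent.Lib.R2H2.FibRank.HHLinEquiv (B := Γ((W' : Scheme.{u}), ⊤))
      (CohPull.pullOnIso g' (f ⁻¹ᵁ W) (f' ⁻¹ᵁ W') (preimage_le hpb hle) F).symm p
  have hrel : (ComplexShape.down ℤ).Rel (-(p : ℤ)) (-(p : ℤ) - 1) := by
    change -(p : ℤ) - 1 + 1 = -(p : ℤ)
    ring
  haveI := (hP (-(p : ℤ) - 1)).2
  haveI : Module.Flat Γ((W : Scheme.{u}), ⊤) (Q.X (-(p : ℤ) - 1)) := inferInstance
  obtain ⟨Φ₂⟩ := Groth.Agent.Lib.Helper3.nonempty_bcHomologyEquiv Γ((W' : Scheme.{u}), ⊤) Q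
    (-(p : ℤ)) (-(p : ℤ) - 1) hrel
  obtain ⟨Φ₃⟩ := nonempty_HH_linearEquiv_of_isBridge f F W Q hQ p
  haveI : Module.Finite Γ((W : Scheme.{u}), ⊤) (Q.homology (-(p : ℤ))) :=
    finite_homology_of_flat Q hP (-(p : ℤ))
  haveI : Module.Finite Γ((W : Scheme.{u}), ⊤) (Coh.HHon X F (f ⁻¹ᵁ W) p) :=
    Module.Finite.equiv Φ₃.symm
  let Φ : Coh.HHon X' ((pullback g').obj F) (f' ⁻¹ᵁ W') p ≃ₗ[Γ((W' : Scheme.{u}), ⊤)]
      (Γ((W' : Scheme.{u}), ⊤) ⊗[Γ((W : Scheme.{u}), ⊤)] Coh.HHon X F (f ⁻¹ᵁ W) p) :=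
    Φ₀ ≪≫ₗ Φ₁ ≪≫ₗ Φ₂ ≪≫ₗ
      (LinearEquiv.baseChange Γ((W : Scheme.{u}), ⊤) Γ((W' : Scheme.{u}), ⊤) _ _ Φ₃).symm
  exact Groth.Agent.Lib.R2H2.OrzechBC.bijective_of_surjective ρ ρ' hcomp
    (trLin g (B.φ p F) W') hsurj i1 hY i2 hX i4 Φ

end Main

end Groth.Agent.Lib.R2H2.BcBij
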