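import Mathlib
import Groth.Prelude
import Groth.Agent.Lib.R2H2BcBij
import Groth.Agent.Lib.Helper13AffBC
set_option backward.isDefEq.respectTransparency.types false
set_option autoImplicit false
set_option linter.unusedSectionVars false
set_option linter.style.haveILetI false
universe u
open CategoryTheory AlgebraicGeometry TopologicalSpace Opposite TensorProduct
open AlgebraicGeometry.Scheme.Modules CohCmp

noncomputable section

namespace Groth.Agent.Lib.R2H2.BcIso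

open Groth.Agent.Lib.R2H2.BcLocal Groth.Agent.Lib.R2H2.GenFAlg Groth.Agent.Lib.R2H2.LocalModel
  Groth.Agent.Lib.R2H2.BcBij Groth.Agent.Lib.R2H2.FibreRank

section Good

variable {X S : Scheme.{u}} (f : X ⟶ S) (F : X.Modules)

/-- `W` is an affine open of the base carrying a Grothendieck complex for `F` whose opcycles in degree `-p-1`
are flat: over such a `W`, the formation of `R^p f_* F` commutes with every base change -/
def Good (p : ℕ) (W : S.Opens) : Prop :=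
  ∃ hW : IsAffineOpen W,
    haveI : IsAffine (W : Scheme.{u}) := hW
    ∃ Q : ChainComplex (ModuleCat.{u} Γ((W : Scheme.{u}), ⊤)) ℤ,
      (∀ i, Module.Finite Γ((W : Scheme.{u}), ⊤) (Q.X i) ∧
        Module.Projective Γ((W : Scheme.{u}), ⊤) (Q.X i)) ∧
      IsBridge f F W Q ∧ Module.Flat Γ((W : Scheme.{u}), ⊤) (Q.opcycles (-(p : ℤ) - 1))

variable {f F}

theorem good_of_flat (p : ℕ) (W : S.Opens) [IsAffine (W : Scheme.{u})]
    (Q : ChainComplex (ModuleCat.{u} Γ((W : Scheme.{u}), ⊤)) ℤ)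
    (hP : ∀ i, Module.Finite Γ((W : Scheme.{u}), ⊤) (Q.X i) ∧
      Module.Projective Γ((W : Scheme.{u}), ⊤) (Q.X i))
    (hQ : IsBridge f F W Q) [Module.Flat Γ((W : Scheme.{u}), ⊤) (Q.opcycles (-(p : ℤ) - 1))] :
    Good f F p W :=
  ⟨‹IsAffine (W : Scheme.{u})›, Q, hP, hQ, inferInstance⟩

/-- freeness of the opcycles at a point spreads out to a good neighbourhood -/
theorem exists_good_of_mem_freeLocus [IsSeparated f] [QuasiCompact f] [F.IsQuasicoherent]
    (s : S) (W : S.Opens) [IsAffine (W : Scheme.{u})] (hs : s ∈ W)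
    (Q : ChainComplex (ModuleCat.{u} Γ((W : Scheme.{u}), ⊤)) ℤ)
    (hP : ∀ i, Module.Finite Γ((W : Scheme.{u}), ⊤) (Q.X i) ∧
      Module.Projective Γ((W : Scheme.{u}), ⊤) (Q.X i))
    (hQ : IsBridge f F W Q) (p : ℕ)
    (h : (W : Scheme.{u}).isoSpec.hom ⟨s, hs⟩ ∈
      Module.freeLocus Γ((W : Scheme.{u}), ⊤) (Q.opcycles (-(p : ℤ) - 1)))
    (V : S.Opens) (hsV : s ∈ V) :
    ∃ W' : S.Opens, s ∈ W' ∧ W' ≤ V ∧ Good f F p W' := by
  obtain ⟨W', hW', hsW', hW'V, hle, hfl, -⟩ :=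
    exists_flat_shrink' s W hs Q hP V hsV (-(p : ℤ) - 1) (-(p : ℤ) - 1) h h
  haveI : IsAffine (W' : Scheme.{u}) := hW'
  letI := algW (𝟙 S) hle
  exact ⟨W', hsW', hW'V, hW', _, finite_projective_bcCx Q hP _, isBridge_restrict hle hQ, hfl⟩

end Good

section Iso

variable {X S S' X' : Scheme.{u}} {f : X ⟶ S} {g : S' ⟶ S} {f' : X' ⟶ S'} {g' : X' ⟶ X}
  (hpb : IsPullback g' f' f g) [HasInjectiveResolutions X.Modules]
  [HasInjectiveResolutions X'.Modules]
  {Δ : RDer.DerivedLES (pushforward f)} {Δ' : RDer.DerivedLES (pushforward f')}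
  {E : SectCmp f Δ} {E' : SectCmp f' Δ'} (B : GenBC f g f' g' hpb.w E E')
  [IsSeparated f] [QuasiCompact f]
  (F : X.Modules) [F.IsQuasicoherent] (p : ℕ)

/-- **the base change map is an isomorphism when the base change lands in good affine opens** -/
theorem isIso_bc_of_good (h : ∀ z : S', ∃ W : S.Opens, g z ∈ W ∧ Good f F p W) :
    IsIso (B.bc p F) := by
  let ι : Type u := {W' : S'.Opens // IsAffineOpen W' ∧ ∃ W : S.Opens, W' ≤ g ⁻¹ᵁ W ∧ Good f F p W}
  refine Groth.Agent.Helper13AffBC.isIso_of_bijective_on_basis (B.bc p F) (fun i : ι => i.1) ?_ ?_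
  · rw [Opens.isBasis_iff_nbhd]
    intro O z hz
    obtain ⟨W, hzW, hW⟩ := h z
    have hz' : z ∈ O ⊓ g ⁻¹ᵁ W := ⟨hz, hzW⟩
    obtain ⟨_, ⟨W', hW', rfl⟩, hzW', hW'O⟩ :=
      S'.isBasis_affineOpens.exists_subset_of_mem_open hz' (O ⊓ g ⁻¹ᵁ W).2
    exact ⟨W', ⟨⟨W', hW', W, fun x hx => (hW'O hx).2, hW⟩, rfl⟩, hzW', fun x hx => (hW'O hx).1⟩
  · rintro ⟨W', hW', W, hle, hW, Q, hP, hQ, hfl⟩
    haveI : IsAffine (W : Scheme.{u}) := hW
    haveI : IsAffine (W' : Scheme.{u}) := hW'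
    haveI := hfl
    exact bijective_bc_app_of_flat hpb B F p W W' hle Q hQ hP

end Iso

end Groth.Agent.Lib.R2H2.BcIso
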