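import Mathlib

/-!
# Freeness from a tower of quotients over a Noetherian local ring (helper2, round 2)

* `socle_induction`: induction over `𝔪`-primary ideals, adding one socle element at a time.
* `free_of_tower`: a finite module `H` with compatible quotients `T J` (`J` `𝔪`-primary) which behave
  like `(A/J)^r` along socle steps is free of rank `r`.
-/

set_option autoImplicit false
set_option linter.unusedSectionVars false
universe u v w

namespace Groth.Agent.Lib.R2H2.TowerFree

open IsLocalRing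

section Socle

variable {A : Type u} [CommRing A] [IsNoetherianRing A] [IsLocalRing A]

theorem mem_maximalIdeal_of_mul_mem (J : Ideal A) (a : A) (ha : a ∉ J) (b : A)
    (hb : a * b ∈ J) : b ∈ maximalIdeal A := by
  by_contra hb'
  obtain ⟨u, rfl⟩ := IsLocalRing.notMem_maximalIdeal.1 hb'
  apply ha
  have := J.mul_mem_right (↑u⁻¹ : A) hb
  rwa [mul_assoc, Units.mul_inv, mul_one] at this

/-- induction over `𝔪`-primary ideals along socle steps -/
theorem socle_induction (P : Ideal A → Prop) (htop : P ⊤)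
    (hstep : ∀ (J : Ideal A) (a : A), J ≤ maximalIdeal A → a ∉ J →
      (∀ b ∈ maximalIdeal A, a * b ∈ J) → (∃ N : ℕ, maximalIdeal A ^ N ≤ J) →
      P (J ⊔ Ideal.span {a}) → P J) :
    ∀ J : Ideal A, (∃ N : ℕ, maximalIdeal A ^ N ≤ J) → P J := by
  intro J
  induction J using IsNoetherian.induction with
  | hgt J ih =>
    intro hex
    by_cases hJ : J = ⊤
    · subst hJ
      exact htop
    · classical
      have hN₀ : maximalIdeal A ^ (Nat.find hex) ≤ J := Nat.find_spec hex
      have hpos : Nat.find hex ≠ 0 := by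
        intro h0
        rw [h0, pow_zero, Ideal.one_eq_top, top_le_iff] at hN₀
        exact hJ hN₀
      obtain ⟨k, hk⟩ := Nat.exists_eq_succ_of_ne_zero hpos
      have hk' : ¬ maximalIdeal A ^ k ≤ J := Nat.find_min hex (by omega)
      obtain ⟨a, ha, haJ⟩ := SetLike.not_le_iff_exists.1 hk'
      have h2 : ∀ b ∈ maximalIdeal A, a * b ∈ J := fun b hb => hN₀ (by
        rw [hk, pow_succ]
        exact Ideal.mul_mem_mul ha hb)
      have hlt : J < J ⊔ Ideal.span {a} := lt_of_le_of_ne le_sup_left (fun h => haJ (by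
        rw [h]
        exact Ideal.mem_sup_right (Ideal.subset_span (Set.mem_singleton a))))
      exact hstep J a (IsLocalRing.le_maximalIdeal hJ) haJ h2 hex
        (ih _ hlt ⟨Nat.find hex, hN₀.trans le_sup_left⟩)

end Socle

section Tower

variable {A : Type u} [CommRing A] [IsNoetherianRing A] [IsLocalRing A]
  {H : Type v} [AddCommGroup H] [Module A H] [Module.Finite A H]
  (T : Ideal A → Type w) [∀ J, AddCommGroup (T J)] [∀ J, Module A (T J)]
  (q : ∀ J, H →ₗ[A] T J)
  (t : ∀ {J J' : Ideal A}, J ≤ J' → T J →ₗ[A] T J')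
  (htq : ∀ {J J' : Ideal A} (h : J ≤ J') (x : H), t h (q J x) = q J' x)
  (hkill : ∀ (J : Ideal A) (a : A), a ∈ J → ∀ x : T J, a • x = 0)
  (htop : Subsingleton (T ⊤))
  (hstep : ∀ (J : Ideal A) (a : A) (hJm : J ≤ maximalIdeal A), a ∉ J →
    (∀ b ∈ maximalIdeal A, a * b ∈ J) → (∃ N : ℕ, maximalIdeal A ^ N ≤ J) →
    ∃ abar : T (maximalIdeal A) →ₗ[A] T J, Function.Injective abar ∧
      (∀ x : T J, abar (t hJm x) = a • x) ∧
      ∀ x : T J, t (le_sup_left : J ≤ J ⊔ Ideal.span {a}) x = 0 → ∃ z, abar z = x)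
  {r : ℕ} (h : Fin r → H)
  (hgen : ∀ z : T (maximalIdeal A), ∃ c : Fin r → A, z = ∑ j, c j • q (maximalIdeal A) (h j))
  (hrel : ∀ c : Fin r → A, ∑ j, c j • q (maximalIdeal A) (h j) = 0 → ∀ j, c j ∈ maximalIdeal A)
  (hker : ∃ c : ℕ, ∀ n : ℕ, c ≤ n → ∀ x : H, q (maximalIdeal A ^ (n + 1)) x = 0 →
    x ∈ maximalIdeal A ^ (n - c) • (⊤ : Submodule A H))

include htq hkill htop hstep hgen hrel in
/-- the images of the `h j` behave like a basis of `(A/J)^r` in every `T J` -/
theorem tower_basis (J : Ideal A) (hJ : ∃ N : ℕ, maximalIdeal A ^ N ≤ J) :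
    (∀ x : T J, ∃ c : Fin r → A, x = ∑ j, c j • q J (h j)) ∧
      ∀ c : Fin r → A, ∑ j, c j • q J (h j) = 0 → ∀ j, c j ∈ J := by
  revert hJ
  refine socle_induction (fun J => (∀ x : T J, ∃ c : Fin r → A, x = ∑ j, c j • q J (h j)) ∧
      ∀ c : Fin r → A, ∑ j, c j • q J (h j) = 0 → ∀ j, c j ∈ J) ?_ ?_ J
  · refine ⟨fun x => ⟨fun _ => 0, Subsingleton.elim _ _⟩, fun _ _ _ => trivial⟩
  · intro J a hJm haJ h2 hprim ⟨ihgen, ihrel⟩
    obtain ⟨abar, hinj, hab, hex⟩ := hstep J a hJm haJ h2 hprim
    have hqm : ∀ j, q (maximalIdeal A) (h j) = t hJm (q J (h j)) := fun j => (htq hJm (h j)).symm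
    constructor
    · intro x
      obtain ⟨c, hc⟩ := ihgen (t le_sup_left x)
      have h0 : t (le_sup_left : J ≤ J ⊔ Ideal.span {a}) (x - ∑ j, c j • q J (h j)) = 0 := by
        rw [map_sub, hc, map_sum, sub_eq_zero]
        refine Finset.sum_congr rfl (fun j _ => ?_)
        rw [map_smul, htq]
      obtain ⟨z, hz⟩ := hex _ h0
      obtain ⟨b, hb⟩ := hgen z
      refine ⟨fun j => c j + a * b j, ?_⟩
      have hz' : abar z = ∑ j, (a * b j) • q J (h j) := by
        rw [hb, map_sum]
        refine Finset.sum_congr rfl (fun j _ => ?_)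
        rw [map_smul, hqm, hab, smul_smul, mul_comm]
      have : x = ∑ j, c j • q J (h j) + abar z := by rw [hz]; abel
      rw [this, hz', ← Finset.sum_add_distrib]
      refine Finset.sum_congr rfl (fun j _ => ?_)
      rw [add_smul]
    · intro c hc j
      have h1 : ∑ j, c j • q (J ⊔ Ideal.span {a}) (h j) = 0 := by
        have := congrArg (t (le_sup_left : J ≤ J ⊔ Ideal.span {a})) hc
        rw [map_zero, map_sum] at this
        rw [← this]
        refine Finset.sum_congr rfl (fun j _ => ?_)
        rw [map_smul, htq]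
      have h3 := ihrel c h1
      -- decompose `c j = d j + a * b j`
      have hdec : ∀ j, ∃ d ∈ J, ∃ b : A, c j = d + a * b := by
        intro j
        obtain ⟨d, hd, e, he, hde⟩ := Submodule.mem_sup.1 (h3 j)
        obtain ⟨b, rfl⟩ := Ideal.mem_span_singleton'.1 he
        exact ⟨d, hd, b, by rw [← hde, mul_comm]⟩
      choose d hd b hcb using hdec
      have h4 : abar (∑ j, b j • q (maximalIdeal A) (h j)) = 0 := by
        rw [map_sum]
        rw [← hc]
        refine Finset.sum_congr rfl (fun j _ => ?_)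
        rw [map_smul, hqm, hab, smul_smul, hcb j, add_smul, hkill J (d j) (hd j), zero_add, mul_comm]
      have h5 := hrel b (hinj (h4.trans (map_zero abar).symm))
      rw [hcb j]
      exact J.add_mem (hd j) (h2 _ (h5 j))

include htq hkill htop hstep hgen hrel hker in
/-- **the module `H` is free with basis `h`** -/
theorem free_of_tower : ∃ b : Module.Basis (Fin r) A H, ∀ j, b j = h j := by
  classical
  have hA := fun (k : ℕ) => tower_basis T q (fun {J J'} => t) (fun {J J'} => htq) hkill htop hstep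
    h hgen hrel (maximalIdeal A ^ k) ⟨k, le_rfl⟩
  obtain ⟨c, hc⟩ := hker
  -- linear independence
  have hli : LinearIndependent A h := by
    rw [Fintype.linearIndependent_iff]
    intro a ha j
    have hmem : ∀ k : ℕ, a j ∈ maximalIdeal A ^ k := by
      intro k
      refine (hA k).2 a ?_ j
      have := congrArg (q (maximalIdeal A ^ k)) ha
      rw [map_sum, map_zero] at this
      rw [← this]
      refine Finset.sum_congr rfl (fun j _ => ?_)
      rw [map_smul]
    have hbot : (⨅ k : ℕ, maximalIdeal A ^ k) = ⊥ := Ideal.iInf_pow_eq_bot_of_isLocalRing _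
      (IsLocalRing.maximalIdeal.isMaximal A).ne_top
    have : a j ∈ (⨅ k : ℕ, maximalIdeal A ^ k) := (Submodule.mem_iInf _).2 hmem
    rw [hbot] at this
    exact this
  -- spanning
  have hsp : (⊤ : Submodule A H) ≤ Submodule.span A (Set.range h) := by
    refine Submodule.le_of_le_smul_of_le_jacobson_bot (I := maximalIdeal A) Module.Finite.fg_top
      (IsLocalRing.maximalIdeal_le_jacobson _) ?_
    intro x _
    obtain ⟨a, ha⟩ := (hA (c + 1 + 1)).1 (q (maximalIdeal A ^ (c + 1 + 1)) x)
    have h0 : q (maximalIdeal A ^ (c + 1 + 1)) (x - ∑ j, a j • h j) = 0 := by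
      rw [map_sub, ha, map_sum, sub_eq_zero]
      refine Finset.sum_congr rfl (fun j _ => ?_)
      rw [map_smul]
    have h1 := hc (c + 1) (by omega) _ h0
    have e : c + 1 - c = 1 := by omega
    rw [e, pow_one] at h1
    have : x = ∑ j, a j • h j + (x - ∑ j, a j • h j) := by abel
    rw [this]
    refine Submodule.add_mem_sup ?_ h1
    exact Submodule.sum_mem _ (fun j _ => Submodule.smul_mem _ _ (Submodule.subset_span ⟨j, rfl⟩))
  exact ⟨Module.Basis.mk hli hsp, fun j => Module.Basis.mk_apply hli hsp j⟩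

end Tower

end Groth.Agent.Lib.R2H2.TowerFree
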