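import Mathlib
import Groth.Agent.Lib.R2H2FlatDev
import Groth.Agent.Lib.R2H2TowerFree
import Groth.Agent.S0002

/-!
# Freeness of `H^i(X, F)` over a local base from vanishing on the closed fibre in adjacent degrees
(helper2, round 2)

`A` Noetherian local, `X` proper over `A`, `F` coherent and flat over `A`, with
`H^{i+1}(X, F/𝔪F) = 0` and `H^{i-1}(X, F/𝔪F) = 0`: then any lifts to `H^i(X, F)` of an
`A/𝔪`-basis of `H^i(X, F/𝔪F)` form an `A`-basis of `H^i(X, F)`.
-/

set_option autoImplicit false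
set_option linter.unusedSectionVars false
universe u
open CategoryTheory CategoryTheory.Limits AlgebraicGeometry TopologicalSpace Opposite

noncomputable section

namespace Groth.Agent.Lib.R2H2.FlatFree

open Groth.Agent.Lib.R2H2.FlatDev Groth.Agent.Lib.R2H2.HHLin Groth.Agent.Lib.R2H2.ReesCoh
  Groth.Agent.Lib.R2H2.ReesAR Groth.Agent.Lib.R2H2.FormalFn Groth.Agent.Lib.R2H2.TowerFree

section Zero

variable {X : Scheme.{u}}

/-- `H^0` is left exact -/
theorem HmapL_zero_injective (S : ShortComplex X.Modules) (hS : S.ShortExact) :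
    Function.Injective (HmapL S.f 0) := by
  haveI : Mono (abMap S.f) := (Groth.Agent.Lib.Helper23.QCohLocal.shortExact_toAbF S hS).mono_f
  intro x y hxy
  rw [HmapL_apply, HmapL_apply, Sheaf.H.map_apply, Sheaf.H.map_apply] at hxy
  exact Abelian.Ext.postcomp_mk₀_injective_of_mono _ (abMap S.f) hxy

end Zero

section Tower

variable {A : Type u} [CommRing A] {X : Scheme.{u}} [X.Over (Spec (CommRingCat.of A))]
  (F : X.Modules)

/-- `F/JF` is killed by `J` -/
theorem smulMod_modJ (J : Ideal A) (a : A) (ha : a ∈ J) : Formal.smulMod A (modJ J F) a = 0 := by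
  rw [← cancel_epi (πJ J F), ← Groth.Agent.S9530.smulMod_comp, comp_zero]
  exact smulMod_πJ J F a ha

theorem modLE_abar (𝔪 J : Ideal A) (a : A) (h2 : ∀ b ∈ 𝔪, a * b ∈ J) (hJm : J ≤ 𝔪) :
    modLE hJm F ≫ abar F 𝔪 J a h2 = Formal.smulMod A (modJ J F) a := by
  rw [← cancel_epi (πJ J F), πJ_modLE_assoc, π_abar, Groth.Agent.S9530.smulMod_comp]

variable [IsNoetherianRing A] [IsLocalRing A] [F.IsQuasicoherent]
  (hcp : ∀ U : X.Opens, IsAffineOpen U → ColonProp A F U) (i : ℕ)
  (hup : Subsingleton (Coh.HH X (modJ (IsLocalRing.maximalIdeal A) F) (i + 1)))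
  (hdown : ∀ j : ℕ, j + 1 = i → Subsingleton (Coh.HH X (modJ (IsLocalRing.maximalIdeal A) F) j))

include hcp hdown in
/-- the socle step on cohomology -/
theorem step (J : Ideal A) (a : A) (hJm : J ≤ IsLocalRing.maximalIdeal A) (haJ : a ∉ J)
    (h2 : ∀ b ∈ IsLocalRing.maximalIdeal A, a * b ∈ J)
    (hprim : ∃ N : ℕ, IsLocalRing.maximalIdeal A ^ N ≤ J) :
    ∃ ab : Coh.HH X (modJ (IsLocalRing.maximalIdeal A) F) i →ₗ[A] Coh.HH X (modJ J F) i,
      Function.Injective ab ∧
      (∀ x : Coh.HH X (modJ J F) i, ab (HmapA A (modLE hJm F) i x) = a • x) ∧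
      ∀ x : Coh.HH X (modJ J F) i,
        HmapA A (modLE (le_sup_left : J ≤ J ⊔ Ideal.span {a}) F) i x = 0 → ∃ z, ab z = x := by
  have h1 := FlatDev.mem_maximalIdeal_of_mul_mem J a haJ
  haveI := isIso_abar' F (IsLocalRing.maximalIdeal A) J a h2 hcp h1
  have hfac : ∀ z, HmapL (abar F (IsLocalRing.maximalIdeal A) J a h2) i z =
      HmapL (ses F J a).f i (HmapL (abar' F (IsLocalRing.maximalIdeal A) J a h2) i z) := by
    intro z
    refine Eq.trans ?_ (HmapL_comp _ _ i z)
    exact congrArg (fun φ => HmapL φ i z) (abar'_ι F (IsLocalRing.maximalIdeal A) J a h2).symm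
  have hinj' : Function.Injective (HmapL (abar' F (IsLocalRing.maximalIdeal A) J a h2) i) := by
    intro x y hxy
    have := congrArg (HmapL (inv (abar' F (IsLocalRing.maximalIdeal A) J a h2)) i) hxy
    rwa [← HmapL_comp, ← HmapL_comp, IsIso.hom_inv_id, HmapL_id, HmapL_id] at this
  have hinjι : Function.Injective (HmapL (ses F J a).f i) := by
    cases i with
    | zero => exact HmapL_zero_injective (ses F J a) (ses_shortExact F J a)
    | succ j =>
      haveI : Subsingleton (Coh.HH X (ses F J a).X₃ j) :=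
        subsingleton_HH_modJ F hcp j (hdown j rfl) (Ja J a)
          (hprim.imp fun N hN => hN.trans (le_Ja J a))
      rw [injective_iff_map_eq_zero]
      intro x hx
      obtain ⟨x₃, hx₃⟩ := exact₁ (ses F J a) (ses_shortExact F J a) j x hx
      rw [← hx₃, Subsingleton.elim x₃ 0, map_zero]
  refine ⟨HmapA A (abar F (IsLocalRing.maximalIdeal A) J a h2) i, ?_, ?_, ?_⟩
  · intro x y hxy
    have hxy' : HmapL (abar F (IsLocalRing.maximalIdeal A) J a h2) i x =
        HmapL (abar F (IsLocalRing.maximalIdeal A) J a h2) i y := hxy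
    rw [hfac, hfac] at hxy'
    exact hinj' (hinjι hxy')
  · intro x
    change HmapL (abar F (IsLocalRing.maximalIdeal A) J a h2) i (HmapL (modLE hJm F) i x) = a • x
    rw [← HmapL_comp, modLE_abar]
    exact Hm_smulMod (A := A) X i (modJ J F) a x
  · intro x hx
    obtain ⟨x₁, hx₁⟩ := exact₂ (ses F J a) (ses_shortExact F J a) i x hx
    refine ⟨HmapL (inv (abar' F (IsLocalRing.maximalIdeal A) J a h2)) i x₁, ?_⟩
    change HmapL (abar F (IsLocalRing.maximalIdeal A) J a h2) i _ = x
    rw [hfac, ← HmapL_comp, IsIso.inv_hom_id, HmapL_id]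
    exact hx₁

end Tower

section Main

variable {A : Type u} [CommRing A] [IsNoetherianRing A] [IsLocalRing A] {X : Scheme.{u}}
  [X.Over (Spec (CommRingCat.of A))] [IsProper (X ↘ Spec (CommRingCat.of A))]
  (F : X.Modules) (hF : Coh.IsCoh F)
  (hcp : ∀ U : X.Opens, IsAffineOpen U → ColonProp A F U) (i : ℕ)
  (hup : Subsingleton (Coh.HH X (modJ (IsLocalRing.maximalIdeal A) F) (i + 1)))
  (hdown : ∀ j : ℕ, j + 1 = i → Subsingleton (Coh.HH X (modJ (IsLocalRing.maximalIdeal A) F) j))

include hF hcp hup in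
/-- `H^i(X, F) → H^i(X, F/𝔪F)` is surjective -/
theorem surjective_toFibre :
    Function.Surjective (HmapA A (πJ (IsLocalRing.maximalIdeal A) F) i) := by
  haveI : F.IsQuasicoherent := hF.1
  have h := surjective_toHHmodPow (IsLocalRing.maximalIdeal A) F i hF
    (HHmodPowTrans_surjective F hcp i hup) 0
  have key : ∀ (J J' : Ideal A), J = J' → Function.Surjective (HmapL (πJ J F) i) →
      Function.Surjective (HmapL (πJ J' F) i) := by
    intro J J' hJ hs
    subst hJ
    exact hs
  exact key _ _ (by rw [zero_add, pow_one]) h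

include hF hcp hup hdown in
/-- **freeness from vanishing on the closed fibre in the adjacent degrees** -/
theorem free_of_fibre_vanishing {r : ℕ} (h : Fin r → Coh.HH X F i)
    (hgen : ∀ z : Coh.HH X (modJ (IsLocalRing.maximalIdeal A) F) i, ∃ c : Fin r → A,
      z = ∑ j, c j • HmapA A (πJ (IsLocalRing.maximalIdeal A) F) i (h j))
    (hrel : ∀ c : Fin r → A,
      ∑ j, c j • HmapA A (πJ (IsLocalRing.maximalIdeal A) F) i (h j) = 0 →
        ∀ j, c j ∈ IsLocalRing.maximalIdeal A) :
    ∃ b : Module.Basis (Fin r) A (Coh.HH X F i), ∀ j, b j = h j := by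
  haveI : F.IsQuasicoherent := hF.1
  haveI : Module.Finite A (Coh.HH X F i) := Groth.Agent.S0002.result A X F hF i
  refine free_of_tower (fun J => Coh.HH X (modJ J F) i) (fun J => HmapA A (πJ J F) i)
    (fun {J J'} hJ => HmapA A (modLE hJ F) i) ?_ ?_ ?_ ?_ h hgen hrel ?_
  · intro J J' hJ x
    change HmapL (modLE hJ F) i (HmapL (πJ J F) i x) = HmapL (πJ J' F) i x
    rw [← HmapL_comp, πJ_modLE]
  · intro J a ha x
    have h1 := Hm_smulMod (A := A) X i (modJ J F) a x
    rw [smulMod_modJ F J a ha] at h1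
    rw [← h1]
    exact HmapL_zero i x
  · exact subsingleton_HH_of_isZero (isZero_modJ_top F) i
  · intro J a hJm haJ h2 hprim
    exact step F hcp i hdown J a hJm haJ h2 hprim
  · obtain ⟨c, hc⟩ := ker_subset (IsLocalRing.maximalIdeal A) X F i hF
    refine ⟨c, fun n hn x hx => ?_⟩
    exact hc n hn hx

end Main

end Groth.Agent.Lib.R2H2.FlatFree
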