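import Mathlib
import Groth.Agent.Lib.R2H2StalkBC

/-!
# The stalk of `R^p f_* F` at `y` is `H^p(X ×_Y Spec O_{Y,y}, F)` (helper2, round 2)

`stalk_equiv`: for `f : X ⟶ Y` qcqs, `F` quasi-coherent, `X₁ = X ×_Y Spec O_{Y,y}` with projection `g`:
`H^p(X₁, g^* F) ≃ₗ[O_{Y,y}] (R^p f_* F)_y`.
-/

set_option autoImplicit false
universe u
open CategoryTheory CategoryTheory.Limits Opposite TopologicalSpace Abelian AlgebraicGeometry TensorProduct

namespace Groth.Agent.Lib.R2H2.StalkBC2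

open Groth.Agent.Lib.R2H2.GammaDer Groth.Agent.Lib.Helper2.FlatOver Groth.Agent.Lib.R2H2.HHLin
  Groth.Agent.Lib.R2H2.StalkBC Groth.Agent.Lib.R2H2.SheafBC

theorem stalk_equiv {X Y : Scheme.{u}} (f : X ⟶ Y)
    [QuasiCompact f] [QuasiSeparated f] [CategoryTheory.HasInjectiveResolutions X.Modules]
    (F : X.Modules) [F.IsQuasicoherent] (y : Y) (p : ℕ)
    (X₁ : Scheme.{u}) [X₁.Over (Spec (CommRingCat.of (Y.presheaf.stalk y)))] (g : X₁ ⟶ X)
    (hsq : IsPullback g (X₁ ↘ Spec (CommRingCat.of (Y.presheaf.stalk y))) f (Y.fromSpecStalk y)) :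
    Nonempty (Coh.HH X₁ ((Scheme.Modules.pullback g).obj F) p ≃ₗ[Y.presheaf.stalk y]
      ((Coh.Rpush f p).obj F).presheaf.stalk y) := by
  obtain ⟨V, hV, hyV⟩ : ∃ V : Y.Opens, IsAffineOpen V ∧ y ∈ V := by
    obtain ⟨_, ⟨V, hV, rfl⟩, hyV, -⟩ := Y.isBasis_affineOpens.exists_subset_of_mem_open
      (Set.mem_univ y) isOpen_univ
    exact ⟨V, hV, hyV⟩
  letI : (f ⁻¹ᵁ V).toScheme.Over (Spec (CommRingCat.of Γ(Y, V))) := ⟨sV f V⟩
  letI : Algebra Γ(Y, V) (Y.presheaf.stalk y) := (Y.presheaf.germ V y hyV).hom.toAlgebra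
  obtain ⟨e₁⟩ := nonempty_tensor_equiv_stalk f F p hV hyV
  -- flatness
  haveI : IsLocalization.AtPrime (Y.presheaf.stalk y) (hV.primeIdealOf ⟨y, hyV⟩).asIdeal :=
    hV.isLocalization_stalk ⟨y, hyV⟩
  haveI : Module.Flat Γ(Y, V) (Y.presheaf.stalk y) :=
    IsLocalization.flat _ (hV.primeIdealOf ⟨y, hyV⟩).asIdeal.primeCompl
  -- topology of `f⁻¹V`
  haveI : IsAffine V.toScheme := hV
  haveI : QuasiCompact (f ∣_ V) :=
    MorphismProperty.of_isPullback (isPullback_morphismRestrict f V).flip inferInstance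
  haveI : QuasiSeparated (f ∣_ V) :=
    MorphismProperty.of_isPullback (isPullback_morphismRestrict f V).flip inferInstance
  haveI : CompactSpace (f ⁻¹ᵁ V).toScheme := QuasiCompact.compactSpace_of_compactSpace (f ∣_ V)
  haveI : QuasiSeparatedSpace (f ⁻¹ᵁ V).toScheme := quasiSeparatedSpace_of_quasiSeparated (f ∣_ V)
  haveI : (F.restrict (f ⁻¹ᵁ V).ι).IsQuasicoherent := inferInstance
  -- the cartesian square
  have hpb := isPullback_g₁ f hV hyV g (X₁ ↘ Spec (CommRingCat.of (Y.presheaf.stalk y))) hsq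
  let e₂ := flatBaseChangeEquiv Γ(Y, V) (Y.presheaf.stalk y) (f ⁻¹ᵁ V).toScheme X₁
    (g₁ f hV hyV g (X₁ ↘ Spec (CommRingCat.of (Y.presheaf.stalk y))) hsq) hpb
    (F.restrict (f ⁻¹ᵁ V).ι) p
  let θ := pullRestrictIso (f ⁻¹ᵁ V) (g₁ f hV hyV g (X₁ ↘ Spec (CommRingCat.of (Y.presheaf.stalk y))) hsq)
    g (g₁_ι f hV hyV g _ hsq) F
  let e₃ := HHequivOfIso (Y.presheaf.stalk y) θ p
  exact ⟨e₃.symm ≪≫ₗ e₂.symm ≪≫ₗ e₁⟩

end Groth.Agent.Lib.R2H2.StalkBC2
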