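import Mathlib
import Groth.Agent.Lib.R2H2FlatFree
import Groth.Agent.Lib.R2H2FibreVanish
import Groth.Agent.Lib.R2H2StalkBC2
import Groth.Agent.Lib.Helper2RankLoc
import Groth.Agent.Lib.R2H2ProperCoh2

/-!
# Local freeness of `R^i f_* F` from vanishing of fibre cohomology in the adjacent degrees
(helper2, round 2)
-/

set_option autoImplicit false
set_option linter.unusedSectionVars false
universe u
open CategoryTheory CategoryTheory.Limits AlgebraicGeometry TopologicalSpace Opposite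

noncomputable section

namespace Groth.Agent.Lib.R2H2.FibreFree

open Groth.Agent.Lib.R2H2.FlatDev Groth.Agent.Lib.R2H2.FibreCoh Groth.Agent.Lib.R2H2.HHLin
  Groth.Agent.Lib.R2H2.ReesCoh Groth.Agent.Lib.R2H2.ReesAR Groth.Agent.Lib.R2H2.FlatFree
  Groth.Agent.Lib.R2H2.FibreVanish

section Glob

open TensorProduct

/-- a coherent module on a locally Noetherian scheme whose stalk at `y` is free of rank `r` is free of
rank `r` near `y` -/
theorem exists_restrict_iso_freeMod_of_stalk_basis {Y : Scheme.{u}} [IsLocallyNoetherian Y]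
    (N : Y.Modules) (hN : Coh.IsCoh N) (y : Y) (r : ℕ)
    (b : Module.Basis (Fin r) (Y.presheaf.stalk y) (N.presheaf.stalk y)) :
    ∃ U : Y.Opens, y ∈ U ∧ Nonempty (N.restrict U.ι ≅ FlatMod.freeMod (↑U) r) := by
  haveI : N.IsQuasicoherent := hN.1
  haveI : SheafOfModules.IsFiniteType (R := Y.ringCatSheaf) N := hN.2
  haveI : SheafOfModules.IsFinitePresentation (R := Y.ringCatSheaf) N :=
    Groth.Agent.Lib.Helper23.FinType.isFinitePresentation_of_isFiniteType N
  haveI : Module.Free (Y.presheaf.stalk y) (N.presheaf.stalk y) := Module.Free.of_basis b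
  have hflat : FlatMod.IsFlatAt N y := Module.Flat.of_free
  obtain ⟨D, m, hyD, ⟨e⟩⟩ :=
    Groth.Agent.Lib.Helper2.LocFree.exists_restrict_iso_freeMod_of_isFlatAt N y hflat
  have h1 := (Groth.Agent.Lib.Helper2.RankLoc.fibreRank_eq_of_restrict_iso_freeMod D.ι N e ⟨y, hyD⟩).2
  have h2 : Groth.Agent.Lib.Helper2.RankLoc.fibreRank N y = r := by
    unfold Groth.Agent.Lib.Helper2.RankLoc.fibreRank
    rw [Module.finrank_baseChange, Module.finrank_eq_card_basis b, Fintype.card_fin]
  have h3 : m = r := h1.symm.trans h2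
  subst h3
  exact ⟨D, hyD, ⟨e⟩⟩

end Glob

section Alg

/-- lifting a basis of the fibre through a semilinear bijection -/
theorem exists_lifts {A B : Type*} [CommRing A] [IsLocalRing A] [CommRing B] (φ : A →+* B)
    (hsurj : Function.Surjective φ)
    (hker : ∀ a, φ a = 0 → a ∈ IsLocalRing.maximalIdeal A)
    {H T V : Type*} [AddCommGroup H] [Module A H] [AddCommGroup T] [Module A T] [AddCommGroup V]
    [Module B V] (q : H →ₗ[A] T) (hq : Function.Surjective q) (Φ : T →+ V)
    (hΦ : Function.Bijective Φ) (hsemi : ∀ (a : A) (x : T), Φ (a • x) = φ a • Φ x)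
    {r : ℕ} (v : Module.Basis (Fin r) B V) :
    ∃ h : Fin r → H,
      (∀ z : T, ∃ c : Fin r → A, z = ∑ j, c j • q (h j)) ∧
      (∀ c : Fin r → A, ∑ j, c j • q (h j) = 0 → ∀ j, c j ∈ IsLocalRing.maximalIdeal A) := by
  have hh : ∀ j, ∃ x : H, Φ (q x) = v j := fun j => by
    obtain ⟨t, ht⟩ := hΦ.2 (v j)
    obtain ⟨x, rfl⟩ := hq t
    exact ⟨x, ht⟩
  choose h hh using hh
  have hsum : ∀ c : Fin r → A, Φ (∑ j, c j • q (h j)) = ∑ j, φ (c j) • v j := by
    intro c
    rw [map_sum]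
    refine Finset.sum_congr rfl (fun j _ => ?_)
    rw [hsemi, hh]
  refine ⟨h, fun z => ?_, fun c hc j => ?_⟩
  · have hc : ∀ j, ∃ a : A, φ a = v.repr (Φ z) j := fun j => hsurj _
    choose c hc using hc
    refine ⟨c, hΦ.1 ?_⟩
    rw [hsum]
    conv_lhs => rw [← v.sum_repr (Φ z)]
    refine Finset.sum_congr rfl (fun j _ => ?_)
    rw [hc]
  · have h0 : ∑ j, φ (c j) • v j = 0 := by rw [← hsum, hc, map_zero]
    have := Fintype.linearIndependent_iff.1 v.linearIndependent _ h0 j
    exact hker _ this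

end Alg

section Phi

variable {A B : Type u} [CommRing A] [CommRing B] [Algebra A B] {X X' : Scheme.{u}}
  [X.Over (Spec (CommRingCat.of A))] (f' : X' ⟶ Spec (CommRingCat.of B)) (g' : X' ⟶ X)
  (h : IsPullback g' f' (X ↘ Spec (CommRingCat.of A))
    (Spec.map (CommRingCat.ofHom (algebraMap A B))))
  (M : X.Modules) [M.IsQuasicoherent]

theorem edge_smulΓ {T : Scheme.{u}} (i : T ⟶ X) [IsClosedImmersion i] (p : ℕ) (G : T.Modules)
    (r : Coh.Γtop X) (x : Coh.HH X ((Scheme.Modules.pushforward i).obj G) p) :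
    Groth.Agent.Lib.R2H2.PushModPow.edge i p G (r • x) =
      i.appTop.hom r • Groth.Agent.Lib.R2H2.PushModPow.edge i p G x := by
  have h1 : r • x = Hm (Formal.smulModΓ _ r) p x := rfl
  rw [h1, ← Groth.Agent.Lib.Helper20.FormalPull.pushforward_map_smulModΓ i,
    Groth.Agent.Lib.R2H2.PushModPow.edge_natural]
  rfl

include h in
/-- `H^q(X, M / I M) ≃ H^q(X', g'^* M)`, semilinearly over `A → B` -/
theorem exists_Φ (hsurj : Function.Surjective (algebraMap A B)) (I : Ideal A)
    (hI : ∀ a ∈ I, algebraMap A B a = 0) (hI' : ∀ a : A, algebraMap A B a = 0 → a ∈ I) (q : ℕ) :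
    ∃ Φ : Coh.HH X (modJ I M) q →+ Coh.HH X' ((Scheme.Modules.pullback g').obj M) q,
      Function.Bijective Φ ∧ ∀ (a : A) (x : Coh.HH X (modJ I M) q),
        Φ (a • x) = Coh.toGlobal f' (algebraMap A B a) • Φ x := by
  haveI := isClosedImmersion_of_surjective f' g' h hsurj
  haveI := isIso_ubar f' g' h M hsurj I hI hI'
  haveI : ((Scheme.Modules.pullback g').obj M).IsQuasicoherent :=
    Groth.Agent.Lib.Helper2.PullbackSec.isQuasicoherent_pullback g' M
  have hedge := Groth.Agent.Lib.R2H2.PushModPow.edge_bijective g' q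
    ((Scheme.Modules.pullback g').obj M)
  have hbij : Function.Bijective (Hm (ubar f' g' h M I hI) q) := by
    constructor
    · intro x y hxy
      have := congrArg (Hm (inv (ubar f' g' h M I hI)) q) hxy
      rwa [← Hm_comp, ← Hm_comp, IsIso.hom_inv_id, Hm_id, Hm_id] at this
    · intro y
      refine ⟨Hm (inv (ubar f' g' h M I hI)) q y, ?_⟩
      rw [← Hm_comp, IsIso.inv_hom_id, Hm_id]
  refine ⟨(Groth.Agent.Lib.R2H2.PushModPow.edge g' q ((Scheme.Modules.pullback g').obj M)).comp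
    (Hm (ubar f' g' h M I hI) q), hedge.comp hbij, fun a x => ?_⟩
  change Groth.Agent.Lib.R2H2.PushModPow.edge g' q ((Scheme.Modules.pullback g').obj M)
      (Hm (ubar f' g' h M I hI) q (a • x)) =
    Coh.toGlobal f' (algebraMap A B a) •
      Groth.Agent.Lib.R2H2.PushModPow.edge g' q ((Scheme.Modules.pullback g').obj M)
      (Hm (ubar f' g' h M I hI) q x)
  rw [Hm_smul]
  change Groth.Agent.Lib.R2H2.PushModPow.edge g' q ((Scheme.Modules.pullback g').obj M)
      (Coh.toGlobal (X ↘ Spec (CommRingCat.of A)) a • Hm (ubar f' g' h M I hI) q x) = _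
  rw [edge_smulΓ, Groth.Agent.Lib.R2H2.SheafBC.toGlobal_algebraMap (X ↘ Spec (CommRingCat.of A))
    f' g' h.w]
  rfl

end Phi

section Geo

variable {X Y : Scheme.{u}} (f : X ⟶ Y) (y : Y)

/-- `X₁ = X ×_Y Spec O_{Y,y}` as a scheme over `Spec O_{Y,y}` -/
@[reducible] def over₁ : (X₁ f y).Over (Spec (CommRingCat.of (Y.presheaf.stalk y))) := ⟨f₁ f y⟩

attribute [local instance] over₁

/-- the pullback of `F` to `X₁` -/
abbrev F₁ (F : X.Modules) : (X₁ f y).Modules := (Scheme.Modules.pullback (g₁ f y)).obj F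

/-- `g₀^* g₁^* F ≅ F_y` -/
def fibreIso (F : X.Modules) :
    (Scheme.Modules.pullback (g₀ f y)).obj (F₁ f y F) ≅ CohIII.fiberMod f F y :=
  (Scheme.Modules.pullbackComp (g₀ f y) (g₁ f y)).app F ≪≫
    (Scheme.Modules.pullbackCongr (g₀_g₁ f y)).app F

variable (F : X.Modules) [F.IsQuasicoherent]

instance : (F₁ f y F).IsQuasicoherent :=
  Groth.Agent.Lib.Helper2.PullbackSec.isQuasicoherent_pullback _ F

/-- `H^i(X₁, F₁/𝔪F₁) ≃ H^i(X_y, F_y)`, semilinearly over `O_{Y,y} → κ(y)` -/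
theorem exists_ΦFibre (i : ℕ) :
    ∃ Φ : Coh.HH (X₁ f y) (modJ (IsLocalRing.maximalIdeal (Y.presheaf.stalk y)) (F₁ f y F)) i →+
        CohIII.fiberH f F y i,
      Function.Bijective Φ ∧ ∀ (a : Y.presheaf.stalk y)
        (x : Coh.HH (X₁ f y) (modJ (IsLocalRing.maximalIdeal (Y.presheaf.stalk y)) (F₁ f y F)) i),
        Φ (a • x) = (Y.residue y).hom a • Φ x := by
  obtain ⟨Φ', hbij, hsemi⟩ := exists_Φ (A := Y.presheaf.stalk y)
    (B := IsLocalRing.ResidueField (Y.presheaf.stalk y))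
    (f.fiberToSpecResidueField y) (g₀ f y) (isPullback₀ f y) (F₁ f y F)
    Ideal.Quotient.mk_surjective
    (IsLocalRing.maximalIdeal (Y.presheaf.stalk y))
    (fun a ha => Ideal.Quotient.eq_zero_iff_mem.2 ha)
    (fun a ha => Ideal.Quotient.eq_zero_iff_mem.1 ha) i
  have hb2 : Function.Bijective (HmapL (fibreIso f y F).hom i) := by
    constructor
    · intro x x' hxx'
      have := congrArg (HmapL (fibreIso f y F).inv i) hxx'
      rwa [← HmapL_comp, ← HmapL_comp, Iso.hom_inv_id, HmapL_id, HmapL_id] at this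
    · intro z
      refine ⟨HmapL (fibreIso f y F).inv i z, ?_⟩
      rw [← HmapL_comp, Iso.inv_hom_id, HmapL_id]
  refine ⟨(HmapL (fibreIso f y F).hom i).toAddMonoidHom.comp Φ', hb2.comp hbij, fun a x => ?_⟩
  change HmapL (fibreIso f y F).hom i (Φ' (a • x)) = _
  rw [hsemi, map_smul]
  rfl

variable [IsProper f] [IsLocallyNoetherian Y]

omit [F.IsQuasicoherent] in
theorem finite_fiberH (hF : Coh.IsCoh F) (i : ℕ) :
    Module.Finite (Y.residueField y) (CohIII.fiberH f F y i) := by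
  letI : (f.fiber y).Over (Spec (CommRingCat.of ↑(Y.residueField y))) :=
    ⟨f.fiberToSpecResidueField y⟩
  haveI : IsProper (f.fiber y ↘ Spec (CommRingCat.of ↑(Y.residueField y))) :=
    MorphismProperty.of_isPullback (IsPullback.of_hasPullback f (Y.fromSpecResidueField y))
      inferInstance
  haveI : F.IsQuasicoherent := hF.1
  haveI : SheafOfModules.IsFiniteType (R := X.ringCatSheaf) F := hF.2
  have hcoh : Coh.IsCoh (CohIII.fiberMod f F y) :=
    ⟨Groth.Agent.Lib.Helper2.PullbackSec.isQuasicoherent_pullback _ F,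
      Groth.Agent.Lib.Helper20.FormalPull.isFiniteType_pullback _ F⟩
  exact Groth.Agent.S0002.result (Y.residueField y) (f.fiber y) _ hcoh i

variable [HasInjectiveResolutions X.Modules]

omit [F.IsQuasicoherent] in
/-- the local structure: with `H^{i+1}(X_y, F_y) = 0`, the map `H^i(X₁, F₁) → H^i(X_y, F_y)` is
surjective; if moreover `H^{i-1}(X_y, F_y) = 0`, then `R^i f_* F` is free near `y` of rank
`h^i(y)` -/
theorem local_main (hF : Coh.IsCoh F) (hfl : FlatMod.IsFlatOver f F) (i : ℕ)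
    (hup : Subsingleton (CohIII.fiberH f F y (i + 1))) :
    (Subsingleton (((Coh.Rpush f i).obj F).presheaf.stalk y) →
      Subsingleton (CohIII.fiberH f F y i)) ∧
    ((∀ j : ℕ, j + 1 = i → Subsingleton (CohIII.fiberH f F y j)) →
      ∃ U : Y.Opens, y ∈ U ∧ Nonempty (((Coh.Rpush f i).obj F).restrict U.ι ≅
        FlatMod.freeMod (↑U) (CohIII.fiberRank f F i y))) := by
  haveI : F.IsQuasicoherent := hF.1
  haveI : SheafOfModules.IsFiniteType (R := X.ringCatSheaf) F := hF.2
  haveI : IsProper (X₁ f y ↘ Spec (CommRingCat.of (Y.presheaf.stalk y))) :=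
    MorphismProperty.of_isPullback (isPullback₁ f y) inferInstance
  have hcoh₁ : Coh.IsCoh (F₁ f y F) :=
    ⟨Groth.Agent.Lib.Helper2.PullbackSec.isQuasicoherent_pullback _ F,
      Groth.Agent.Lib.Helper20.FormalPull.isFiniteType_pullback _ F⟩
  have hfl₁ : FlatMod.IsFlatOver (X₁ f y ↘ Spec (CommRingCat.of (Y.presheaf.stalk y)))
      (F₁ f y F) := fun x' =>
    Groth.Agent.Lib.Helper2.PullbackSec.isFlatOverAt_pullback_of_isPullback (isPullback₁ f y) F x'
      (hfl _)
  have hcp : ∀ U : (X₁ f y).Opens, IsAffineOpen U →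
      ColonProp (Y.presheaf.stalk y) (F₁ f y F) U :=
    fun U hU => colonProp _ hfl₁ hU
  have hsub : ∀ j : ℕ, Subsingleton (CohIII.fiberH f F y j) →
      Subsingleton (Coh.HH (X₁ f y)
        (modJ (IsLocalRing.maximalIdeal (Y.presheaf.stalk y)) (F₁ f y F)) j) := by
    intro j hj
    obtain ⟨Φ, hΦ, -⟩ := exists_ΦFibre f y F j
    exact hΦ.1.subsingleton
  have hup' := hsub (i + 1) hup
  have hsurj := surjective_toFibre (F₁ f y F) hcoh₁ hcp i hup'
  obtain ⟨Φ, hΦ, hsemi⟩ := exists_ΦFibre f y F i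
  obtain ⟨e⟩ := Groth.Agent.Lib.R2H2.StalkBC2.stalk_equiv f F y i (X₁ f y) (g₁ f y)
    (isPullback₁ f y)
  constructor
  · intro hst
    haveI : Subsingleton (Coh.HH (X₁ f y) (F₁ f y F) i) := e.toEquiv.subsingleton
    refine ⟨fun a b => ?_⟩
    obtain ⟨a', rfl⟩ := hΦ.2 a
    obtain ⟨b', rfl⟩ := hΦ.2 b
    obtain ⟨a'', rfl⟩ := hsurj a'
    obtain ⟨b'', rfl⟩ := hsurj b'
    rw [Subsingleton.elim a'' b'']
  · intro hdown
    have hdown' : ∀ j : ℕ, j + 1 = i → Subsingleton (Coh.HH (X₁ f y)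
        (modJ (IsLocalRing.maximalIdeal (Y.presheaf.stalk y)) (F₁ f y F)) j) :=
      fun j hj => hsub j (hdown j hj)
    haveI := finite_fiberH f y F hF i
    haveI : Module.Free (Y.residueField y) (CohIII.fiberH f F y i) := inferInstance
    let v : Module.Basis (Fin (CohIII.fiberRank f F i y)) (Y.residueField y)
        (CohIII.fiberH f F y i) :=
      Module.finBasisOfFinrankEq (Y.residueField y) (CohIII.fiberH f F y i) rfl
    obtain ⟨h, hgen, hrel⟩ := exists_lifts (A := Y.presheaf.stalk y) (B := Y.residueField y)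
      (Y.residue y).hom IsLocalRing.residue_surjective
      (fun a ha => (IsLocalRing.residue_eq_zero_iff a).1 ha)
      (HmapA (Y.presheaf.stalk y)
        (πJ (IsLocalRing.maximalIdeal (Y.presheaf.stalk y)) (F₁ f y F)) i) hsurj Φ hΦ hsemi v
    obtain ⟨b, -⟩ := free_of_fibre_vanishing (F₁ f y F) hcoh₁ hcp i hup' hdown' h hgen hrel
    exact exists_restrict_iso_freeMod_of_stalk_basis _
      (Groth.Agent.Lib.R2H2.ProperCoh2.isCoh_Rpush f F hF i) y _ (b.map e)

end Geo

end Groth.Agent.Lib.R2H2.FibreFree
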