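import Mathlib
import Groth.Prelude
import Groth.Agent.Lib.R2H2BcIso
import Groth.Agent.Lib.R2H2FibreFree
import Groth.Agent.Lib.R2H2LocalCBC5
set_option backward.isDefEq.respectTransparency.types false
set_option autoImplicit false
set_option linter.unusedSectionVars false
set_option linter.style.haveILetI false
universe u
open CategoryTheory AlgebraicGeometry TopologicalSpace Opposite TensorProduct
open AlgebraicGeometry.Scheme.Modules CohCmp

noncomputable section

namespace Groth.Agent.Lib.R2H2.BcNear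

open Groth.Agent.Lib.R2H2.BcLocal Groth.Agent.Lib.R2H2.GenFAlg Groth.Agent.Lib.R2H2.LocalModel
  Groth.Agent.Lib.R2H2.BcIso Groth.Agent.Lib.R2H2.FibreRank Groth.Agent.Lib.R2H2.FibreBC

section Fin

variable {X S : Scheme.{u}} (f : X ⟶ S) [IsProper f] (F : X.Modules) [F.IsQuasicoherent]
  [SheafOfModules.IsFiniteType (R := X.ringCatSheaf) F]

/-- the cohomology of a fibre of a proper morphism is finite dimensional -/
theorem finite_fiberH (s : S) (i : ℕ) :
    Module.Finite (S.residueField s) (CohIII.fiberH f F s i) := by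
  letI : (f.fiber s).Over (Spec (CommRingCat.of ↑(S.residueField s))) :=
    ⟨f.fiberToSpecResidueField s⟩
  haveI : IsProper (f.fiber s ↘ Spec (CommRingCat.of ↑(S.residueField s))) :=
    MorphismProperty.of_isPullback (IsPullback.of_hasPullback f (S.fromSpecResidueField s))
      inferInstance
  have hcoh : Coh.IsCoh (CohIII.fiberMod f F s) :=
    ⟨Groth.Agent.Lib.Helper2.PullbackSec.isQuasicoherent_pullback _ F,
      Groth.Agent.Lib.Helper20.FormalPull.isFiniteType_pullback _ F⟩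
  exact Groth.Agent.S0002.result (S.residueField s) (f.fiber s) _ hcoh i

theorem subsingleton_fiberH_iff (s : S) (i : ℕ) :
    Subsingleton (CohIII.fiberH f F s i) ↔ CohIII.fiberRank f F i s = 0 := by
  haveI := finite_fiberH f F s i
  unfold CohIII.fiberRank
  constructor
  · intro h
    exact Module.finrank_zero_of_subsingleton
  · intro h
    exact (Module.finrank_eq_zero_iff_of_free (R := S.residueField s) (M := CohIII.fiberH f F s i)).mp h

end Fin

section Near

variable {X S : Scheme.{u}} (f : X ⟶ S) [IsProper f] [LocallyOfFinitePresentation f]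
  [HasInjectiveResolutions X.Modules]
  (F : X.Modules) [F.IsQuasicoherent] (hfp : CohB1.IsFP F) (hfl : FlatMod.IsFlatOver f F)

include hfp hfl in
/-- **vanishing of `H^p` of the fibre at `s` gives a neighbourhood over which the formation of `R^p f_* F`
and of `R^{p-1} f_* F` commutes with base change** -/
theorem exists_good_of_fiberH (s : S) (p : ℕ) (h : Subsingleton (CohIII.fiberH f F s p))
    (V : S.Opens) (hsV : s ∈ V) :
    ∃ W' : S.Opens, s ∈ W' ∧ W' ≤ V ∧ Good f F p W' ∧ ∀ j : ℕ, j + 1 = p → Good f F j W' := by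
  obtain ⟨V₁, hV₁, hsV₁, hex⟩ := exists_local_model f F hfp hfl s
  haveI : IsAffine (V₁ : Scheme.{u}) := hV₁
  obtain ⟨Q₁, b, hP, -, hQ⟩ := hex
  haveI := Groth.Agent.Lib.R2H3.RpushRestrict.hasInjectiveResolutions_modules (f.fiber s)
  obtain ⟨h₁, h₂⟩ := mem_freeLocus_of_fiberH f s F V₁ hsV₁ Q₁ hQ hP p h
  obtain ⟨W', hW', hsW', hW'V, hle, hf1, hf2⟩ :=
    exists_flat_shrink' s V₁ hsV₁ Q₁ hP V hsV (-(p : ℤ) - 1) (-(p : ℤ)) h₁ h₂
  haveI : IsAffine (W' : Scheme.{u}) := hW'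
  letI := algW (𝟙 S) hle
  refine ⟨W', hsW', hW'V, ⟨hW', _, finite_projective_bcCx Q₁ hP _, isBridge_restrict hle hQ, hf1⟩,
    fun j hj => ⟨hW', _, finite_projective_bcCx Q₁ hP _, isBridge_restrict hle hQ, ?_⟩⟩
  have e : -(j : ℤ) - 1 = -(p : ℤ) := by
    subst hj
    push_cast
    ring
  have key : ∀ k : ℤ, k = -(p : ℤ) →
      Module.Flat Γ(↑W', ⊤)
        ((CohIII.bcCx (algebraMap Γ(↑V₁, ⊤) Γ(↑W', ⊤)) Q₁).opcycles k) := by
    intro k hk
    subst hk
    exact hf2
  exact key _ e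

include hfp hfl in
/-- the vanishing locus of the cohomology of the fibres in a given degree is open -/
theorem isOpen_vanishing (i : ℕ) : IsOpen {t : S | Subsingleton (CohIII.fiberH f F t i)} := by
  haveI : SheafOfModules.IsFiniteType (R := X.ringCatSheaf) F :=
    Groth.Agent.Helper18Strict.isFT_of_isFP F hfp
  rw [isOpen_iff_forall_mem_open]
  intro s hs
  obtain ⟨V₁, hV₁, hsV₁, hex⟩ := exists_local_model f F hfp hfl s
  haveI : IsAffine (V₁ : Scheme.{u}) := hV₁
  obtain ⟨Q₁, b, hP, -, hQ⟩ := hex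
  haveI := Groth.Agent.Lib.R2H3.RpushRestrict.hasInjectiveResolutions_modules (f.fiber s)
  obtain ⟨h₁, h₂⟩ := mem_freeLocus_of_fiberH f s F V₁ hsV₁ Q₁ hQ hP i hs
  obtain ⟨W', hsW', -, hlc⟩ := exists_isFinLocFree_rank_near f s F V₁ hsV₁ Q₁ hQ hP i h₁ h₂
  have ho : IsOpen {v : W' | CohIII.fiberRank f F i v.1 = 0} := hlc.isOpen_fiber 0
  refine ⟨Subtype.val '' {v : W' | CohIII.fiberRank f F i v.1 = 0}, ?_,
    W'.2.isOpenMap_subtype_val _ ho, ⟨⟨s, hsW'⟩, ?_, rfl⟩⟩
  · rintro _ ⟨v, hv, rfl⟩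
    exact (subsingleton_fiberH_iff f F v.1 i).2 hv
  · exact (subsingleton_fiberH_iff f F s i).1 hs

include hfp hfl in
/-- vanishing of `H^p` of the fibre at `s` makes `R^p f_* F` vanish near `s` -/
theorem exists_nhd_isZero (s : S) (p : ℕ) (h : Subsingleton (CohIII.fiberH f F s p)) :
    ∃ V : S.Opens, s ∈ V ∧ Limits.IsZero (((Coh.Rpush f p).obj F).restrict V.ι) := by
  obtain ⟨V₁, hs, A, _, _, Q, γ, hγ, hQ, hQv, hrank, hmain⟩ :=
    Groth.Agent.Lib.R2H2.LocalCBC.local_main f F hfp hfl s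
  have h1 : CohIII.dRank Q (-(p : ℤ)) (γ ⟨s, hs⟩) = 0 := by
    rw [← hrank p s hs]
    exact Module.finrank_zero_of_subsingleton
  obtain ⟨a, V, hV, hsV, hVV₁, hVa, haO⟩ :=
    Groth.Agent.Lib.R2H2.LocalCBC.exists_affine_nhd γ hγ s hs _
      (Groth.Agent.Lib.R2H2.LocalCBC.isOpen_dRank_lt Q hQ (-(p : ℤ)) 1)
      (show CohIII.dRank Q (-(p : ℤ)) (γ ⟨s, hs⟩) < 1 by rw [h1]; exact Nat.one_pos)
  refine ⟨V, hsV, (hmain p V a hV hVV₁ hVa).1 (fun y hy => ?_)⟩
  have h2 : CohIII.dRank Q (-(p : ℤ)) y < 1 := haO y hy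
  exact Nat.lt_one_iff.mp h2

include hfp hfl in
/-- `R^p f_* F` vanishes over an open set over which the cohomology of the fibres vanishes in degree `p` -/
theorem isZero_restrict_of_forall (U : S.Opens) (p : ℕ)
    (h : ∀ t ∈ U, Subsingleton (CohIII.fiberH f F t p)) :
    Limits.IsZero (((Coh.Rpush f p).obj F).restrict U.ι) := by
  have key : ∀ t : U, ∃ V : S.Opens, t.1 ∈ V ∧
      Limits.IsZero (((Coh.Rpush f p).obj F).restrict V.ι) := fun t =>
    exists_nhd_isZero f F hfp hfl t.1 p (h t.1 t.2)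
  choose V htV hz using key
  refine Groth.Agent.Lib.Helper23.ModLocal.isZero_of_isZero_restrict
    (fun t : U => ((V t ⊓ U : S.Opens) : Scheme.{u}))
    (fun t => S.homOfLE (inf_le_right : V t ⊓ U ≤ U))
    (fun x => ⟨x, ⟨x.1, htV x, x.2⟩, Subtype.ext (Scheme.homOfLE_apply _ _)⟩) (fun t => ?_)
  have hj : S.homOfLE (inf_le_right : V t ⊓ U ≤ U) ≫ U.ι = (V t ⊓ U).ι := S.homOfLE_ι _
  have hj' : S.homOfLE (inf_le_left : V t ⊓ U ≤ V t) ≫ (V t).ι = (V t ⊓ U).ι := S.homOfLE_ι _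
  have e1 : (((Coh.Rpush f p).obj F).restrict U.ι).restrict (S.homOfLE (inf_le_right : V t ⊓ U ≤ U)) ≅
      ((Coh.Rpush f p).obj F).restrict (V t ⊓ U).ι :=
    ((Scheme.Modules.restrictFunctorCongr hj.symm).app _ ≪≫
      (Scheme.Modules.restrictFunctorComp (S.homOfLE _) U.ι).app _).symm
  have e2 : (((Coh.Rpush f p).obj F).restrict (V t).ι).restrict
      (S.homOfLE (inf_le_left : V t ⊓ U ≤ V t)) ≅
      ((Coh.Rpush f p).obj F).restrict (V t ⊓ U).ι :=
    ((Scheme.Modules.restrictFunctorCongr hj'.symm).app _ ≪≫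
      (Scheme.Modules.restrictFunctorComp (S.homOfLE _) (V t).ι).app _).symm
  have hz2 : Limits.IsZero ((((Coh.Rpush f p).obj F).restrict (V t).ι).restrict
      (S.homOfLE (inf_le_left : V t ⊓ U ≤ V t))) :=
    (Scheme.Modules.restrictFunctor (S.homOfLE (inf_le_left : V t ⊓ U ≤ V t))).map_isZero (hz t)
  exact (hz2.of_iso e2.symm).of_iso e1

end Near

end Groth.Agent.Lib.R2H2.BcNear
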