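import Mathlib
import Groth.Prelude
import Groth.Agent.Lib.R2H2BcNear
import Groth.Agent.Lib.Helper3FlatCxBC
import Groth.Agent.S2406
import Groth.Agent.S2375
set_option backward.isDefEq.respectTransparency.types false
set_option autoImplicit false
set_option linter.unusedSectionVars false
set_option linter.style.haveILetI false
universe u
open CategoryTheory AlgebraicGeometry TopologicalSpace Opposite TensorProduct
open AlgebraicGeometry.Scheme.Modules CohCmp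

noncomputable section

namespace Groth.Agent.Lib.R2H2.BcNear2

open Groth.Agent.Lib.R2H2.BcLocal Groth.Agent.Lib.R2H2.GenFAlg Groth.Agent.Lib.R2H2.LocalModel
  Groth.Agent.Lib.R2H2.BcIso Groth.Agent.Lib.R2H2.FibreRank Groth.Agent.Lib.R2H2.FibreBC
  Groth.Agent.Lib.R2H2.FibreFP Groth.Agent.Lib.R2H2.BcNear

section Alg

/-- a complex of flat modules which is universally exact in positive degrees has flat `opcycles_0` -/
theorem flat_opcycles_zero {A : Type u} [CommRing A] (Q : ChainComplex (ModuleCat.{u} A) ℤ)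
    (hfl : ∀ i, Module.Flat A (Q.X i))
    (hQv : ∀ i : ℤ, 0 < i → ∀ M : ModuleCat.{u} A, Limits.IsZero ((CohIII.TFun Q i).obj M)) :
    Module.Flat A (Q.opcycles 0) := by
  have h1 : (CohIII.TFun Q 1).PreservesEpimorphisms :=
    ⟨fun {X Y} g _ => ⟨fun a b _ => (hQv 1 Int.one_pos Y).eq_of_src a b⟩⟩
  have h0 := (Groth.Agent.S2406.result Q hfl 1 0 (by norm_num)).1 h1
  exact (Groth.Agent.S2375.result Q hfl 0).1 h0

end Alg

section Model

open Groth.Agent.Lib.R2H2.LocalCBC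

/-- **A Grothendieck complex over an affine neighbourhood of a point of an arbitrary base, with flat
`opcycles_0`.** -/
theorem exists_local_model' {X S : Scheme.{u}} (f : X ⟶ S) [IsProper f] [LocallyOfFinitePresentation f]
    (F : X.Modules) [F.IsQuasicoherent]
    (hFP : CohB1.IsFP F) (hfl : FlatMod.IsFlatOver f F) (s : S) :
    ∃ (V₁ : S.Opens) (hV₁ : IsAffineOpen V₁) (_ : s ∈ V₁),
      haveI : IsAffine (V₁ : Scheme.{u}) := hV₁
      ∃ (Q₁ : ChainComplex (ModuleCat.{u} Γ((V₁ : Scheme.{u}), ⊤)) ℤ) (b : ℕ),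
        (∀ i, Module.Finite Γ((V₁ : Scheme.{u}), ⊤) (Q₁.X i) ∧
          Module.Projective Γ((V₁ : Scheme.{u}), ⊤) (Q₁.X i)) ∧
        (∀ i : ℤ, i < 1 - (b : ℤ) → Limits.IsZero (Q₁.X i)) ∧
        IsBridge f F V₁ Q₁ ∧ Module.Flat Γ((V₁ : Scheme.{u}), ⊤) (Q₁.opcycles 0) := by
  obtain ⟨V₁, hV₁, hsV₁, -⟩ := exists_isAffineOpen_mem_and_subset (x := s) (U := ⊤) trivial
  refine ⟨V₁, hV₁, hsV₁, ?_⟩
  haveI : IsAffine (V₁ : Scheme.{u}) := hV₁
  haveI : (F.restrict (f ⁻¹ᵁ V₁).ι).IsQuasicoherent :=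
    Scheme.Modules.isQuasicoherent_restrictFunctor (f ⁻¹ᵁ V₁).ι F
  have hFP₁ : CohB1.IsFP (F.restrict (f ⁻¹ᵁ V₁).ι) := isFP_restrict (f ⁻¹ᵁ V₁).ι F hFP
  have hfl₁ : FlatMod.IsFlatOver (f ∣_ V₁) (F.restrict (f ⁻¹ᵁ V₁).ι) :=
    isFlatOver_morphismRestrict f V₁ F hfl
  haveI : IsProper (f ∣_ V₁) := inferInstance
  haveI : LocallyOfFinitePresentation (f ∣_ V₁) := inferInstance
  obtain ⟨X₀, S₀, f₀, g, g', F₀, sq, hS₀, hN, hP, hq, hfp, hfl₀, ⟨iso⟩⟩ :=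
    Groth.Agent.Lib.R2H2.NoethModel.exists_affine_model (f ∣_ V₁) (F.restrict (f ⁻¹ᵁ V₁).ι) hFP₁ hfl₁
  haveI := hS₀
  haveI := hN
  haveI := hP
  haveI := hq
  letI ov : X₀.Over (Spec (CommRingCat.of Γ(S₀, ⊤))) := ⟨f₀ ≫ S₀.isoSpec.hom⟩
  haveI : IsProper (X₀ ↘ Spec (CommRingCat.of Γ(S₀, ⊤))) :=
    inferInstanceAs (IsProper (f₀ ≫ S₀.isoSpec.hom))
  have hfl₀' : FlatMod.IsFlatOver (X₀ ↘ Spec (CommRingCat.of Γ(S₀, ⊤))) F₀ :=
    Groth.Agent.Lib.R2H2.NoethModel.isFlatOver_comp_iso f₀ S₀.isoSpec F₀ hfl₀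
  have hcoh : Coh.IsCoh F₀ := ⟨hq, Groth.Agent.Helper18Strict.isFT_of_isFP F₀ hfp⟩
  obtain ⟨Q, b, hQ, hQz, hQv, hQi⟩ :=
    Groth.Agent.Lib.R2H2.Bridge.bridge' Γ(S₀, ⊤) X₀ F₀ hcoh hfl₀'
  haveI : CompactSpace X₀ :=
    QuasiCompact.compactSpace_of_compactSpace (X₀ ↘ Spec (CommRingCat.of Γ(S₀, ⊤)))
  have hiso : IsPullback g (𝟙 (V₁ : Scheme.{u})) S₀.isoSpec.hom (g ≫ S₀.isoSpec.hom) :=
    IsPullback.of_vert_isIso ⟨by simp⟩
  have sq' : IsPullback g' (f ∣_ V₁) (X₀ ↘ Spec (CommRingCat.of Γ(S₀, ⊤)))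
      (g ≫ S₀.isoSpec.hom) := by
    have := sq.paste_vert hiso
    rw [Category.comp_id] at this
    exact this
  -- the algebra structure of `Γ(V₁, O)` over the model ring
  letI alg : Algebra Γ(S₀, ⊤) Γ((V₁ : Scheme.{u}), ⊤) :=
    (Spec.preimage ((V₁ : Scheme.{u}).isoSpec.inv ≫ g ≫ S₀.isoSpec.hom)).hom.toAlgebra
  have hj : Spec.map (CommRingCat.ofHom (algebraMap Γ(S₀, ⊤) Γ((V₁ : Scheme.{u}), ⊤))) =
      (V₁ : Scheme.{u}).isoSpec.inv ≫ g ≫ S₀.isoSpec.hom := Spec.map_preimage _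
  letI := overW f V₁
  have h : IsPullback g' (((f ⁻¹ᵁ V₁ : X.Opens) : Scheme.{u}) ↘
        Spec (CommRingCat.of Γ((V₁ : Scheme.{u}), ⊤)))
      (X₀ ↘ Spec (CommRingCat.of Γ(S₀, ⊤)))
      (Spec.map (CommRingCat.ofHom (algebraMap Γ(S₀, ⊤) Γ((V₁ : Scheme.{u}), ⊤)))) := by
    rw [hj]
    have sq2 : IsPullback (𝟙 ((f ⁻¹ᵁ V₁ : X.Opens) : Scheme.{u}))
        ((f ∣_ V₁) ≫ (V₁ : Scheme.{u}).isoSpec.hom) (f ∣_ V₁) (V₁ : Scheme.{u}).isoSpec.inv :=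
      IsPullback.of_horiz_isIso ⟨by simp⟩
    have := sq2.paste_horiz sq'
    rw [Category.id_comp] at this
    exact this
  have hQp : ∀ i, Module.Finite Γ(S₀, ⊤) (Q.X i) ∧ Module.Projective Γ(S₀, ⊤) (Q.X i) := fun i => by
    haveI := (hQ i).2
    exact ⟨(hQ i).1, inferInstance⟩
  refine ⟨CohIII.bcCx (algebraMap Γ(S₀, ⊤) Γ((V₁ : Scheme.{u}), ⊤)) Q, b,
    finite_projective_bcCx Q hQp Γ((V₁ : Scheme.{u}), ⊤), fun i hi => ?_, fun p => ?_, ?_⟩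
  · exact (ModuleCat.extendScalars (algebraMap Γ(S₀, ⊤) Γ((V₁ : Scheme.{u}), ⊤))).map_isZero (hQz i hi)
  · obtain ⟨e₂⟩ := Groth.Agent.Lib.R2H2.FibRank.nonempty_bridge_baseChange g' h F₀ Q (-(p : ℤ)) p
      (hQi p).some
    exact ⟨e₂ ≪≫ Functor.isoWhiskerRight (tensorAFunctorCongr Γ((V₁ : Scheme.{u}), ⊤) iso)
      (CohIII.HAb ((f ⁻¹ᵁ V₁ : X.Opens) : Scheme.{u}) p)⟩
  · haveI : Module.Flat Γ(S₀, ⊤) (Q.opcycles 0) :=
      flat_opcycles_zero Q (fun i => by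
        haveI := (hQ i).2
        infer_instance) hQv
    exact Groth.Agent.Lib.Helper3.flat_bcCx_opcycles Γ((V₁ : Scheme.{u}), ⊤) Q 0

end Model

section Near

variable {X S : Scheme.{u}} (f : X ⟶ S) [IsProper f] [LocallyOfFinitePresentation f]
  [HasInjectiveResolutions X.Modules]
  (F : X.Modules) [F.IsQuasicoherent] (hfp : CohB1.IsFP F) (hfl : FlatMod.IsFlatOver f F)

/-- vanishing over an open restricts to smaller opens -/
theorem isZero_restrict_of_le (M : S.Modules) {V W' : S.Opens} (h : W' ≤ V)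
    (hM : Limits.IsZero (M.restrict V.ι)) : Limits.IsZero (M.restrict W'.ι) := by
  have h1 : Limits.IsZero ((M.restrict V.ι).restrict (S.homOfLE h)) :=
    (Scheme.Modules.restrictFunctor (S.homOfLE h)).map_isZero hM
  have hj : S.homOfLE h ≫ V.ι = W'.ι := S.homOfLE_ι h
  exact h1.of_iso ((Scheme.Modules.restrictFunctorCongr hj.symm).app M ≪≫
      (Scheme.Modules.restrictFunctorComp (S.homOfLE h) V.ι).app M)

include hfp hfl in
/-- **vanishing of `H^{i+1}` and `H^{i-1}` of the fibre at `s` makes `R^i f_* F` finite locally free near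
`s`** -/
theorem exists_nhd_isFinLocFree (s : S) (i : ℕ)
    (hup : Subsingleton (CohIII.fiberH f F s (i + 1)))
    (hdown : ∀ j : ℕ, j + 1 = i → Subsingleton (CohIII.fiberH f F s j)) :
    ∃ U : S.Opens, s ∈ U ∧ FlatMod.IsFinLocFree (((Coh.Rpush f i).obj F).restrict U.ι) := by
  obtain ⟨V₁, hV₁, hsV₁, hex⟩ := exists_local_model' f F hfp hfl s
  haveI : IsAffine (V₁ : Scheme.{u}) := hV₁
  obtain ⟨Q₁, b, hP, -, hQ, hfl0⟩ := hex
  haveI := Groth.Agent.Lib.R2H3.RpushRestrict.hasInjectiveResolutions_modules (f.fiber s)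
  obtain ⟨-, hu₂⟩ := mem_freeLocus_of_fiberH f s F V₁ hsV₁ Q₁ hQ hP (i + 1) hup
  have cast : ∀ k l : ℤ, k = l →
      (V₁ : Scheme.{u}).isoSpec.hom ⟨s, hsV₁⟩ ∈
        Module.freeLocus Γ((V₁ : Scheme.{u}), ⊤) (Q₁.opcycles k) →
      (V₁ : Scheme.{u}).isoSpec.hom ⟨s, hsV₁⟩ ∈
        Module.freeLocus Γ((V₁ : Scheme.{u}), ⊤) (Q₁.opcycles l) := by
    intro k l hkl hk
    subst hkl
    exact hk
  have h₁ : (V₁ : Scheme.{u}).isoSpec.hom ⟨s, hsV₁⟩ ∈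
      Module.freeLocus Γ((V₁ : Scheme.{u}), ⊤) (Q₁.opcycles (-(i : ℤ) - 1)) :=
    cast _ _ (by push_cast; ring) hu₂
  have h₂ : (V₁ : Scheme.{u}).isoSpec.hom ⟨s, hsV₁⟩ ∈
      Module.freeLocus Γ((V₁ : Scheme.{u}), ⊤) (Q₁.opcycles (-(i : ℤ))) := by
    rcases i with _ | j
    · haveI := hfl0
      haveI : Module.Projective Γ((V₁ : Scheme.{u}), ⊤) (Q₁.opcycles 0) :=
        projective_opcycles_of_flat Q₁ hP 0
      haveI := finitePresentation_opcycles' Q₁ hP 0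
      have h0 : (V₁ : Scheme.{u}).isoSpec.hom ⟨s, hsV₁⟩ ∈
          Module.freeLocus Γ((V₁ : Scheme.{u}), ⊤) (Q₁.opcycles 0) := by
        rw [Module.freeLocus_eq_univ]
        trivial
      exact cast _ _ (by simp) h0
    · obtain ⟨hd₁, -⟩ := mem_freeLocus_of_fiberH f s F V₁ hsV₁ Q₁ hQ hP j (hdown j rfl)
      exact cast _ _ (by push_cast; ring) hd₁
  obtain ⟨W', hsW', hflf, -⟩ := exists_isFinLocFree_rank_near f s F V₁ hsV₁ Q₁ hQ hP i h₁ h₂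
  exact ⟨W', hsW', hflf⟩

end Near

end Groth.Agent.Lib.R2H2.BcNear2
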