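import Mathlib
import Groth.Prelude
import Groth.Agent.Lib.R2H2Bc0
import Groth.Agent.Lib.R2H2BcIso
import Groth.Agent.Lib.R2H2BcNear2
set_option backward.isDefEq.respectTransparency.types false
set_option autoImplicit false
set_option linter.unusedSectionVars false
set_option linter.style.haveILetI false
universe u
open CategoryTheory AlgebraicGeometry TopologicalSpace Opposite TensorProduct
open AlgebraicGeometry.Scheme.Modules CohCmp

noncomputable section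

namespace Groth.Agent.Lib.R2H2.Bc0Bij

open Groth.Agent.Lib.R2H2.EpsBij Groth.Agent.Lib.R2H2.EpsLin Groth.Agent.Lib.R2H2.BcSect
  Groth.Agent.Lib.R2H2.BcLocal Groth.Agent.Lib.R2H2.GenFAlg Groth.Agent.Lib.R2H2.LocalModel
  Groth.Agent.Lib.Helper3 Groth.Agent.Lib.R2H2.BcBij Groth.Agent.Lib.R2H2.Bc0
  Groth.Agent.Lib.R2H2.BcIso Groth.Agent.Lib.R2H2.FibreFP

section Main

variable {X S S' X' : Scheme.{u}} {f : X ⟶ S} {g : S' ⟶ S} {f' : X' ⟶ S'} {g' : X' ⟶ X}
  (hpb : IsPullback g' f' f g)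
  [IsSeparated f] [QuasiCompact f]
  (F : X.Modules) [F.IsQuasicoherent] (W : S.Opens) (W' : S'.Opens) (hle : W' ≤ g ⁻¹ᵁ W)
  [IsAffine (W : Scheme.{u})] [IsAffine (W' : Scheme.{u})]
  (Q : ChainComplex (ModuleCat.{u} Γ((W : Scheme.{u}), ⊤)) ℤ) (hQ : IsBridge f F W Q)
  (hP : ∀ i, Module.Finite Γ((W : Scheme.{u}), ⊤) (Q.X i) ∧
    Module.Projective Γ((W : Scheme.{u}), ⊤) (Q.X i))
  [Module.Flat Γ((W : Scheme.{u}), ⊤) (Q.opcycles (-1))]

include hQ hP hle in
/-- surjectivity of the degree zero base change map on sections over `W'` -/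
theorem surjective_bc0_app_of_flat :
    Function.Surjective ((CohBC.bc0 f g f' g' hpb.w F).app W') := by
  letI := overW f W
  letI := algW g hle
  obtain ⟨e⟩ := hQ 0
  haveI := (hP (-1)).2
  haveI : Module.Flat Γ((W : Scheme.{u}), ⊤) (Q.X (-1)) := inferInstance
  haveI : Module.Flat Γ((W : Scheme.{u}), ⊤) (Q.opcycles (-((0 : ℕ) : ℤ) - 1)) := by
    have key : ∀ k : ℤ, k = -1 → Module.Flat Γ((W : Scheme.{u}), ⊤) (Q.opcycles k) := by
      intro k hk
      subst hk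
      infer_instance
    exact key _ (by norm_num)
  haveI : Module.Flat Γ((W : Scheme.{u}), ⊤) (Q.X (-((0 : ℕ) : ℤ) - 1)) := by
    haveI := (hP (-((0 : ℕ) : ℤ) - 1)).2
    infer_instance
  exact (surjective_bc0_app_iff_genF' hpb F W W' hle).mpr
    ((genF_iso _ _ e).mp (genF_of_flat Q (-((0 : ℕ) : ℤ))))

include hQ hP hle in
/-- **bijectivity of the degree zero base change map on sections over an affine `W' ≤ g⁻¹W`** when the opcycles of
the Grothendieck complex over `W` in degree `-1` are flat -/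
theorem bijective_bc0_app_of_flat :
    Function.Bijective ((CohBC.bc0 f g f' g' hpb.w F).app W') := by
  haveI : QuasiCompact f' := MorphismProperty.of_isPullback (P := @QuasiCompact) hpb inferInstance
  haveI : QuasiSeparated f' :=
    MorphismProperty.of_isPullback (P := @QuasiSeparated) hpb inferInstance
  have hW : IsAffineOpen W := ‹IsAffine (W : Scheme.{u})›
  have hW' : IsAffineOpen W' := ‹IsAffine (W' : Scheme.{u})›
  have hsurj := surjective_bc0_app_of_flat hpb F W W' hle Q hQ hP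
  letI := overW f W
  letI := overW f' W'
  letI := algW g hle
  letI : Algebra Γ(S, W) Γ(S', W') := (g.appLE W W' hle).hom.toAlgebra
  letI := modOn f W F 0
  letI := modOn f' W' ((Scheme.Modules.pullback g').obj F) 0
  haveI : ((pushforward f).obj F).IsQuasicoherent :=
    Groth.Agent.Lib.Helper23.QCohLocal.isQuasicoherent_pushforward f F
  haveI : ((Scheme.Modules.pullback g').obj F).IsQuasicoherent :=
    Groth.Agent.Lib.Helper2.PullbackSec.isQuasicoherent_pullback g' F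
  haveI : (F.restrict (f ⁻¹ᵁ W).ι).IsQuasicoherent :=
    Scheme.Modules.isQuasicoherent_restrictFunctor (f ⁻¹ᵁ W).ι F
  -- ring isomorphisms
  let ρ : Γ(S, W) ≃+* Γ((W : Scheme.{u}), ⊤) := W.topIso.symm.commRingCatIsoToRingEquiv
  let ρ' : Γ(S', W') ≃+* Γ((W' : Scheme.{u}), ⊤) := W'.topIso.symm.commRingCatIsoToRingEquiv
  have hcomp : ∀ r, ρ' (algebraMap Γ(S, W) Γ(S', W') r) =
      algebraMap Γ((W : Scheme.{u}), ⊤) Γ((W' : Scheme.{u}), ⊤) (ρ r) := fun r =>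
    (congrArg (fun φ => φ.hom r) (topIso_inv_resLE_appTop g hle)).symm
  have hY : ∀ (r : Γ(S, W)) (y : Coh.HHon X F (f ⁻¹ᵁ W) 0), r • y = ρ r • y := by
    intro r y
    change rTopHom f W r • y = Coh.toGlobal (((f ⁻¹ᵁ W : X.Opens) : Scheme.{u}) ↘
        Spec (CommRingCat.of Γ((W : Scheme.{u}), ⊤))) (ρ r) • y
    rw [rTopHom_eq]
    rfl
  have hX : ∀ (r : Γ(S', W')) (x : Coh.HHon X' ((Scheme.Modules.pullback g').obj F) (f' ⁻¹ᵁ W') 0),
      r • x = ρ' r • x := by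
    intro r x
    change rTopHom f' W' r • x = Coh.toGlobal (((f' ⁻¹ᵁ W' : X'.Opens) : Scheme.{u}) ↘
        Spec (CommRingCat.of Γ((W' : Scheme.{u}), ⊤))) (ρ' r) • x
    rw [rTopHom_eq]
    rfl
  -- the modules of sections
  let i1 : Γ((Scheme.Modules.pullback g).obj ((pushforward f).obj F), W') ≃ₗ[Γ(S', W')]
      (Γ(S', W') ⊗[Γ(S, W)] ((Groth.Agent.Lib.Helper20.Thickening.ΓUF hW).obj
        ((pushforward f).obj F))) :=
    (Groth.Agent.Lib.Helper20.PullbackAff.ΓUEquiv hW' _).trans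
      (Groth.Agent.Lib.Helper20.PullbackAff.ΓUFPullbackIso g hW hW' hle
        ((pushforward f).obj F)).toLinearEquiv
  let i2 : (Groth.Agent.Lib.Helper20.Thickening.ΓUF hW).obj ((pushforward f).obj F) ≃ₗ[Γ(S, W)]
      Coh.HHon X F (f ⁻¹ᵁ W) 0 :=
    (Groth.Agent.Lib.Helper20.PullbackAff.ΓUEquiv hW ((pushforward f).obj F)).symm.trans
      (sectLin f W F)
  let i4 := (sectLin f' W' ((Scheme.Modules.pullback g').obj F)).symm
  -- the cohomology groups
  obtain ⟨e⟩ := hQ 0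
  haveI : IsSeparated (((f ⁻¹ᵁ W : X.Opens) : Scheme.{u}) ↘
      Spec (CommRingCat.of Γ((W : Scheme.{u}), ⊤))) :=
    inferInstanceAs (IsSeparated (f ∣_ W ≫ (W : Scheme.{u}).isoSpec.hom))
  haveI : CompactSpace ((f ⁻¹ᵁ W : X.Opens) : Scheme.{u}) :=
    QuasiCompact.compactSpace_of_compactSpace (f ∣_ W)
  obtain ⟨Φ₁⟩ := Groth.Agent.Lib.R2H2.FibRank.nonempty_HH_linearEquiv
    (g'.resLE (f ⁻¹ᵁ W) (f' ⁻¹ᵁ W') (preimage_le hpb hle)) (isPullback_spec hpb hle)
    (F.restrict (f ⁻¹ᵁ W).ι) Q (-((0 : ℕ) : ℤ)) 0 e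
  let Φ₀ : Coh.HHon X' ((Scheme.Modules.pullback g').obj F) (f' ⁻¹ᵁ W') 0 ≃ₗ[Γ((W' : Scheme.{u}), ⊤)] _ :=
    Groth.Agent.Lib.R2H2.FibRank.HHLinEquiv (B := Γ((W' : Scheme.{u}), ⊤))
      (CohPull.pullOnIso g' (f ⁻¹ᵁ W) (f' ⁻¹ᵁ W') (preimage_le hpb hle) F).symm 0
  have hrel : (ComplexShape.down ℤ).Rel (-((0 : ℕ) : ℤ)) (-((0 : ℕ) : ℤ) - 1) := by
    change -((0 : ℕ) : ℤ) - 1 + 1 = -((0 : ℕ) : ℤ)
    ring
  have key : ∀ k : ℤ, k = -1 → Module.Flat Γ((W : Scheme.{u}), ⊤) (Q.opcycles k) := by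
    intro k hk
    subst hk
    infer_instance
  haveI : Module.Flat Γ((W : Scheme.{u}), ⊤) (Q.opcycles (-((0 : ℕ) : ℤ) - 1)) :=
    key _ (by norm_num)
  haveI := (hP (-((0 : ℕ) : ℤ) - 1)).2
  haveI : Module.Flat Γ((W : Scheme.{u}), ⊤) (Q.X (-((0 : ℕ) : ℤ) - 1)) := inferInstance
  obtain ⟨Φ₂⟩ := Groth.Agent.Lib.Helper3.nonempty_bcHomologyEquiv Γ((W' : Scheme.{u}), ⊤) Q
    (-((0 : ℕ) : ℤ)) (-((0 : ℕ) : ℤ) - 1) hrel
  obtain ⟨Φ₃⟩ := nonempty_HH_linearEquiv_of_isBridge f F W Q hQ 0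
  haveI : Module.Finite Γ((W : Scheme.{u}), ⊤) (Q.homology (-((0 : ℕ) : ℤ))) :=
    finite_homology_of_flat Q hP (-((0 : ℕ) : ℤ))
  haveI : Module.Finite Γ((W : Scheme.{u}), ⊤) (Coh.HHon X F (f ⁻¹ᵁ W) 0) :=
    Module.Finite.equiv Φ₃.symm
  let Φ : Coh.HHon X' ((Scheme.Modules.pullback g').obj F) (f' ⁻¹ᵁ W') 0 ≃ₗ[Γ((W' : Scheme.{u}), ⊤)]
      (Γ((W' : Scheme.{u}), ⊤) ⊗[Γ((W : Scheme.{u}), ⊤)] Coh.HHon X F (f ⁻¹ᵁ W) 0) :=
    Φ₀ ≪≫ₗ Φ₁ ≪≫ₗ Φ₂ ≪≫ₗ
      (LinearEquiv.baseChange Γ((W : Scheme.{u}), ⊤) Γ((W' : Scheme.{u}), ⊤) _ _ Φ₃).symm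
  exact Groth.Agent.Lib.R2H2.OrzechBC.bijective_of_surjective ρ ρ' hcomp
    (trLin g (CohBC.bc0Adj f g f' g' hpb.w F) W') hsurj i1 hY i2 hX i4 Φ

end Main

section Iso

variable {X S S' X' : Scheme.{u}} {f : X ⟶ S} {g : S' ⟶ S} {f' : X' ⟶ S'} {g' : X' ⟶ X}
  (hpb : IsPullback g' f' f g) [IsSeparated f] [QuasiCompact f]
  (F : X.Modules) [F.IsQuasicoherent]

/-- **the degree zero base change map is an isomorphism when the base change lands in good affine opens** -/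
theorem isIso_bc0_of_good (h : ∀ z : S', ∃ W : S.Opens, g z ∈ W ∧ Good f F 0 W) :
    IsIso (CohBC.bc0 f g f' g' hpb.w F) := by
  let ι : Type u := {W' : S'.Opens // IsAffineOpen W' ∧ ∃ W : S.Opens, W' ≤ g ⁻¹ᵁ W ∧ Good f F 0 W}
  refine Groth.Agent.Helper13AffBC.isIso_of_bijective_on_basis (CohBC.bc0 f g f' g' hpb.w F)
    (fun i : ι => i.1) ?_ ?_
  · rw [Opens.isBasis_iff_nbhd]
    intro O z hz
    obtain ⟨W, hzW, hW⟩ := h z
    have hz' : z ∈ O ⊓ g ⁻¹ᵁ W := ⟨hz, hzW⟩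
    obtain ⟨_, ⟨W', hW', rfl⟩, hzW', hW'O⟩ :=
      S'.isBasis_affineOpens.exists_subset_of_mem_open hz' (O ⊓ g ⁻¹ᵁ W).2
    exact ⟨W', ⟨⟨W', hW', W, fun x hx => (hW'O hx).2, hW⟩, rfl⟩, hzW', fun x hx => (hW'O hx).1⟩
  · rintro ⟨W', hW', W, hle, hW, Q, hP, hQ, hfl⟩
    haveI : IsAffine (W : Scheme.{u}) := hW
    haveI : IsAffine (W' : Scheme.{u}) := hW'
    have key : ∀ k : ℤ, -((0 : ℕ) : ℤ) - 1 = k →
        Module.Flat Γ((W : Scheme.{u}), ⊤) (Q.opcycles k) := by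
      intro k hk
      subst hk
      exact hfl
    haveI : Module.Flat Γ((W : Scheme.{u}), ⊤) (Q.opcycles (-1)) := key _ (by norm_num)
    exact bijective_bc0_app_of_flat hpb F W W' hle Q hQ hP

end Iso

section Fibre

open Groth.Agent.Lib.R2H2.FibreBC Groth.Agent.Lib.R2H2.FibreAlg

variable {X S : Scheme.{u}} (f : X ⟶ S) [QuasiCompact f] [QuasiSeparated f] (s : S)
  (F : X.Modules) [F.IsQuasicoherent]
  (W : S.Opens) [IsAffine (W : Scheme.{u})] (hs : s ∈ W)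
  (Q : ChainComplex (ModuleCat.{u} Γ((W : Scheme.{u}), ⊤)) ℤ) (hQ : IsBridge f F W Q)
  (hP : ∀ i, Module.Finite Γ((W : Scheme.{u}), ⊤) (Q.X i) ∧
    Module.Projective Γ((W : Scheme.{u}), ⊤) (Q.X i))

include hs hQ in
/-- **The degree zero base change map of the fibre square at `s` is an epimorphism iff the Grothendieck complex
over an affine neighbourhood `W` of `s` satisfies the generation property at the residue field.** -/
theorem epi_bc0_iff_genF
    [IsAffine (((S.fromSpecResidueField s) ⁻¹ᵁ W : (Spec (S.residueField s)).Opens) : Scheme.{u})] :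
    letI := algW (S.fromSpecResidueField s) (le_refl ((S.fromSpecResidueField s) ⁻¹ᵁ W))
    Epi (CohBC.bc0 f (S.fromSpecResidueField s) (f.fiberToSpecResidueField s) (f.fiberι s)
        (f.fiber_fac s) F) ↔
      GenF Γ((W : Scheme.{u}), ⊤)
        Γ((((S.fromSpecResidueField s) ⁻¹ᵁ W : (Spec (S.residueField s)).Opens) : Scheme.{u}), ⊤)
        (CohIII.TFun Q (-((0 : ℕ) : ℤ)) ⋙
          forget₂ (ModuleCat.{u} Γ((W : Scheme.{u}), ⊤)) AddCommGrpCat.{u}) := by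
  letI := algW (S.fromSpecResidueField s) (le_refl ((S.fromSpecResidueField s) ⁻¹ᵁ W))
  letI := overW f W
  have hpb : IsPullback (f.fiberι s) (f.fiberToSpecResidueField s) f (S.fromSpecResidueField s) :=
    IsPullback.of_hasPullback f (S.fromSpecResidueField s)
  haveI : Subsingleton ↥(Spec (S.residueField s)) :=
    inferInstanceAs (Subsingleton (PrimeSpectrum (S.residueField s)))
  have z : ↥(Spec (S.residueField s)) := (⊥ : PrimeSpectrum (S.residueField s))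
  have hz : z ∈ (S.fromSpecResidueField s) ⁻¹ᵁ W := by
    rw [preimage_eq_top s hs]
    trivial
  obtain ⟨e⟩ := hQ 0
  refine (epi_iff_surjective_app (CohBC.bc0 f (S.fromSpecResidueField s)
    (f.fiberToSpecResidueField s) (f.fiberι s) (f.fiber_fac s) F) _ z hz).trans ?_
  refine (surjective_bc0_app_iff_genF' hpb F W _ (le_refl _)).trans ?_
  exact (genF_iso _ _ e).symm

include hs hQ hP in
/-- **surjectivity of the degree zero fibre base change map makes `opcycles_{-1}` free at `s`** -/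
theorem mem_freeLocus_of_epi_bc0 (k : ℤ) (hk : k = -((0 : ℕ) : ℤ) - 1)
    (h : Epi (CohBC.bc0 f (S.fromSpecResidueField s) (f.fiberToSpecResidueField s) (f.fiberι s)
        (f.fiber_fac s) F)) :
    (W : Scheme.{u}).isoSpec.hom ⟨s, hs⟩ ∈ Module.freeLocus Γ((W : Scheme.{u}), ⊤) (Q.opcycles k) := by
  subst hk
  have hW : IsAffineOpen W := ‹IsAffine (W : Scheme.{u})›
  haveI : IsAffine (((S.fromSpecResidueField s) ⁻¹ᵁ W : (Spec (S.residueField s)).Opens) : Scheme.{u}) :=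
    isAffineOpen_preimage s hs
  letI := algW (S.fromSpecResidueField s) (le_refl ((S.fromSpecResidueField s) ⁻¹ᵁ W))
  obtain ⟨hK1, hK2, hK3⟩ := fibre_fp s hW hs
  have hg := (epi_bc0_iff_genF f s F W hs Q hQ).1 h
  have h1 := mem_freeLocus_of_genF hK1 hK2 hK3 Q hP (-((0 : ℕ) : ℤ)) hg
  rw [kerPt_eq s W hs hK1 hK2] at h1
  exact h1

end Fibre

section Near0

open Groth.Agent.Lib.R2H2.FibreBC Groth.Agent.Lib.R2H2.FibreRank Groth.Agent.Lib.R2H2.BcNear2

variable {X S : Scheme.{u}} (f : X ⟶ S) [IsProper f] [LocallyOfFinitePresentation f]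
  (F : X.Modules) [F.IsQuasicoherent] (hfp : CohB1.IsFP F) (hfl : FlatMod.IsFlatOver f F)

/-- finite local freeness of `R^0 f_* F` over an open is finite local freeness of `f_* F` over it -/
theorem isFinLocFree_push_restrict [HasInjectiveResolutions X.Modules] (U : S.Opens)
    (h : FlatMod.IsFinLocFree (((Coh.Rpush f 0).obj F).restrict U.ι)) :
    FlatMod.IsFinLocFree (((pushforward f).obj F).restrict U.ι) :=
  Groth.Agent.H3.FLF.isFinLocFree_of_iso
    ((Scheme.Modules.restrictFunctor U.ι).mapIso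
      (asIso ((pushforward f).toRightDerivedZero.app F)).symm) h

include hfp hfl in
/-- **freeness of `opcycles_{-1}` of every local Grothendieck complex at `s` gives a neighbourhood of `s` over which
`f_* F` is finite locally free and its formation commutes with base change** -/
theorem exists_nhd_push (s : S)
    (H : ∀ (V₁ : S.Opens) (hV₁ : IsAffineOpen V₁) (hs : s ∈ V₁),
      haveI : IsAffine (V₁ : Scheme.{u}) := hV₁
      ∀ (Q₁ : ChainComplex (ModuleCat.{u} Γ((V₁ : Scheme.{u}), ⊤)) ℤ),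
        IsBridge f F V₁ Q₁ →
        (∀ i, Module.Finite Γ((V₁ : Scheme.{u}), ⊤) (Q₁.X i) ∧
          Module.Projective Γ((V₁ : Scheme.{u}), ⊤) (Q₁.X i)) →
        (V₁ : Scheme.{u}).isoSpec.hom ⟨s, hs⟩ ∈
          Module.freeLocus Γ((V₁ : Scheme.{u}), ⊤) (Q₁.opcycles (-((0 : ℕ) : ℤ) - 1))) :
    ∃ U : S.Opens, s ∈ U ∧ FlatMod.IsFinLocFree (((pushforward f).obj F).restrict U.ι) ∧
      Good f F 0 U := by
  haveI := Groth.Agent.Lib.R2H3.RpushRestrict.hasInjectiveResolutions_modules X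
  obtain ⟨V₁, hV₁, hsV₁, hex⟩ := exists_local_model' f F hfp hfl s
  haveI : IsAffine (V₁ : Scheme.{u}) := hV₁
  obtain ⟨Q₁, b, hP, -, hQ, hfl0⟩ := hex
  have h₁ := H V₁ hV₁ hsV₁ Q₁ hQ hP
  have h₂ : (V₁ : Scheme.{u}).isoSpec.hom ⟨s, hsV₁⟩ ∈
      Module.freeLocus Γ((V₁ : Scheme.{u}), ⊤) (Q₁.opcycles (-((0 : ℕ) : ℤ))) := by
    haveI := hfl0
    haveI : Module.Projective Γ((V₁ : Scheme.{u}), ⊤) (Q₁.opcycles 0) :=
      projective_opcycles_of_flat Q₁ hP 0
    haveI := finitePresentation_opcycles' Q₁ hP 0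
    have h0 : (V₁ : Scheme.{u}).isoSpec.hom ⟨s, hsV₁⟩ ∈
        Module.freeLocus Γ((V₁ : Scheme.{u}), ⊤) (Q₁.opcycles 0) := by
      rw [Module.freeLocus_eq_univ]
      trivial
    have cast : ∀ k l : ℤ, k = l →
        (V₁ : Scheme.{u}).isoSpec.hom ⟨s, hsV₁⟩ ∈
          Module.freeLocus Γ((V₁ : Scheme.{u}), ⊤) (Q₁.opcycles k) →
        (V₁ : Scheme.{u}).isoSpec.hom ⟨s, hsV₁⟩ ∈
          Module.freeLocus Γ((V₁ : Scheme.{u}), ⊤) (Q₁.opcycles l) := by
      intro k l hkl hk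
      subst hkl
      exact hk
    exact cast _ _ (by simp) h0
  obtain ⟨W', hsW', hflf, -⟩ := exists_isFinLocFree_rank_near f s F V₁ hsV₁ Q₁ hQ hP 0 h₁ h₂
  obtain ⟨W'', hsW'', hle, hgood⟩ :=
    exists_good_of_mem_freeLocus s V₁ hsV₁ Q₁ hP hQ 0 h₁ W' hsW'
  exact ⟨W'', hsW'', isFinLocFree_push_restrict f F W''
    (isFinLocFree_restrict_of_le _ hle hflf), hgood⟩

include hfp hfl in
/-- **if the degree zero base change map of the fibre square at `s` is an epimorphism, then `f_* F` is finite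
locally free near `s` and its formation commutes with base change there** -/
theorem exists_nhd_push_of_epi_bc0 (s : S)
    (h : Epi (CohBC.bc0 f (S.fromSpecResidueField s) (f.fiberToSpecResidueField s) (f.fiberι s)
        (f.fiber_fac s) F)) :
    ∃ U : S.Opens, s ∈ U ∧ FlatMod.IsFinLocFree (((pushforward f).obj F).restrict U.ι) ∧
      Good f F 0 U :=
  exists_nhd_push f F hfp hfl s (fun V₁ hV₁ hs Q₁ hQ hP =>
    haveI : IsAffine (V₁ : Scheme.{u}) := hV₁
    mem_freeLocus_of_epi_bc0 f s F V₁ hs Q₁ hQ hP _ rfl h)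

include hfp hfl in
/-- **if `H^1` of the fibre at `s` vanishes, then `f_* F` is finite locally free near `s` and its formation commutes
with base change there** -/
theorem exists_nhd_push_of_fiberH_one (s : S) (h : Subsingleton (CohIII.fiberH f F s 1)) :
    ∃ U : S.Opens, s ∈ U ∧ FlatMod.IsFinLocFree (((pushforward f).obj F).restrict U.ι) ∧
      Good f F 0 U := by
  haveI := Groth.Agent.Lib.R2H3.RpushRestrict.hasInjectiveResolutions_modules X
  haveI := Groth.Agent.Lib.R2H3.RpushRestrict.hasInjectiveResolutions_modules (f.fiber s)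
  refine exists_nhd_push f F hfp hfl s (fun V₁ hV₁ hs Q₁ hQ hP => ?_)
  haveI : IsAffine (V₁ : Scheme.{u}) := hV₁
  obtain ⟨-, h2⟩ := mem_freeLocus_of_fiberH f s F V₁ hs Q₁ hQ hP 1 h
  have cast : ∀ k l : ℤ, k = l →
      (V₁ : Scheme.{u}).isoSpec.hom ⟨s, hs⟩ ∈
        Module.freeLocus Γ((V₁ : Scheme.{u}), ⊤) (Q₁.opcycles k) →
      (V₁ : Scheme.{u}).isoSpec.hom ⟨s, hs⟩ ∈
        Module.freeLocus Γ((V₁ : Scheme.{u}), ⊤) (Q₁.opcycles l) := by
    intro k l hkl hk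
    subst hkl
    exact hk
  exact cast _ _ (by norm_num) h2

end Near0

end Groth.Agent.Lib.R2H2.Bc0Bij
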