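import Mathlib
import Groth.Prelude.Def_ega3
import Groth.Agent.Lib.Helper3FlatCx
import Groth.Agent.Lib.R2H2TensorQis
set_option backward.isDefEq.respectTransparency.types false

/-!
# Truncating a bounded above complex of finite projective modules to its universal amplitude
(helper2, round 2)

* `quasiIso_tensorMapL_cochain`: the cochain version of `TensorQis.quasiIso_tensorMapL`;
* `flat_opcycles_of_isZero_T`, `flat_opcycles_of_isZero_T_prev`: flatness of opcycles from universal vanishing;
* `exists_amplitude`: `K` bounded above, finite projective terms, over a Noetherian ring, with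
  `H^i(K ⊗ M) = 0` for all `M` and all `i < d'`, `i > d`: there is a complex `L` of finite projective
  modules concentrated in `[d', d]` with `H^p(L ⊗ M) ≅ H^p(K ⊗ M)` for all `M`, `p`.
-/

set_option autoImplicit false
set_option linter.unusedSectionVars false
set_option linter.style.haveILetI false
universe u
open CategoryTheory CategoryTheory.Limits MonoidalCategory

noncomputable section

namespace Groth.Agent.Lib.R2H2.TruncCx

open Groth.Agent.Lib.Helper3 Groth.Agent.Lib.R2H2.TensorQis

variable {A : Type u} [CommRing A]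

/-- **tensoring a quasi-isomorphism of flat cochain complexes** (vanishing above `d`) -/
theorem quasiIso_tensorMapL_cochain {K L : CochainComplex (ModuleCat.{u} A) ℤ} (u : K ⟶ L)
    [QuasiIso u]
    (hK : ∀ i, Module.Flat A (K.X i)) (hL : ∀ i, Module.Flat A (L.X i)) (d : ℤ)
    (hvK : ∀ (M : ModuleCat.{u} A) (i : ℤ), d < i → IsZero ((CohIII.tensorObj K M).homology i))
    (hvL : ∀ (M : ModuleCat.{u} A) (i : ℤ), d < i → IsZero ((CohIII.tensorObj L M).homology i))
    (M : ModuleCat.{u} A) : QuasiIso (tensorMapL u M) := by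
  have key : ∀ (n : ℕ) (i : ℤ), d - n < i → ∀ M : ModuleCat.{u} A,
      IsIso (HomologicalComplex.homologyMap (tensorMapL u M) i) := by
    intro n
    induction n with
    | zero =>
      intro i hi M
      have hi' : d < i := by simpa using hi
      exact ⟨⟨0, (hvK M i hi').eq_of_src _ _, (hvL M i hi').eq_of_src _ _⟩⟩
    | succ n ih =>
      intro i hi
      by_cases hlt : d - n < i
      · exact ih i hlt
      have hi0 : i = d - n := by push_cast at hi; omega
      have hdata : ∀ M : ModuleCat.{u} A, ∃ (S : ShortComplex (ModuleCat.{u} A)),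
          S.ShortExact ∧ Module.Flat A S.X₂ ∧ S.X₃ = M := by
        intro M
        let p := Groth.Agent.Lib.Helper16.TensorCmp.freeCover M
        haveI hp : Epi p := (ModuleCat.epi_iff_surjective _).2
          (Groth.Agent.Lib.Helper16.TensorCmp.freeCover_surjective M)
        let S := ShortComplex.kernelSequence p
        haveI : Epi S.g := hp
        refine ⟨S, ⟨ShortComplex.kernelSequence_exact p⟩, ?_, rfl⟩
        show Module.Flat A (M →₀ A)
        infer_instance
      have hrel : ∀ j, (ComplexShape.up ℤ).Rel i j → d - n < j := by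
        intro j hj
        have : i + 1 = j := hj
        omega
      have hepi : ∀ M : ModuleCat.{u} A,
          Epi (HomologicalComplex.homologyMap (tensorMapL u M) i) := by
        intro M
        obtain ⟨S, hS, hfl, rfl⟩ := hdata M
        haveI := hfl
        haveI hq : QuasiIso (tensorMapL u S.X₂) := quasiIso_tensorMapL_of_flat u S.X₂
        have hS₁ := tensorSC_shortExact K hK S hS
        have hS₂ := tensorSC_shortExact L hL S hS
        refine HomologicalComplex.HomologySequence.epi_homologyMap_τ₃ (tensorSCMap u S) hS₁ hS₂ i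
          ?_ ?_ ?_
        · show Epi (HomologicalComplex.homologyMap (tensorMapL u S.X₂) i)
          infer_instance
        · intro j hj
          haveI := ih j (hrel j hj) S.X₁
          show Epi (HomologicalComplex.homologyMap (tensorMapL u S.X₁) j)
          infer_instance
        · intro j hj
          show Mono (HomologicalComplex.homologyMap (tensorMapL u S.X₂) j)
          infer_instance
      intro M
      obtain ⟨S, hS, hfl, rfl⟩ := hdata M
      haveI := hfl
      haveI hq : QuasiIso (tensorMapL u S.X₂) := quasiIso_tensorMapL_of_flat u S.X₂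
      have hS₁ := tensorSC_shortExact K hK S hS
      have hS₂ := tensorSC_shortExact L hL S hS
      haveI hm : Mono (HomologicalComplex.homologyMap (tensorMapL u S.X₃) i) := by
        refine HomologicalComplex.HomologySequence.mono_homologyMap_τ₃ (tensorSCMap u S) hS₁ hS₂ i
          ?_ ?_ ?_
        · exact hepi S.X₁
        · show Mono (HomologicalComplex.homologyMap (tensorMapL u S.X₂) i)
          infer_instance
        · intro j hj
          haveI := ih j (hrel j hj) S.X₁
          show Mono (HomologicalComplex.homologyMap (tensorMapL u S.X₁) j)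
          infer_instance
      haveI := hepi S.X₃
      exact isIso_of_mono_of_epi _
  rw [quasiIso_iff]
  intro i
  rw [quasiIsoAt_iff_isIso_homologyMap]
  by_cases hi : d < i
  · exact key 0 i (by simpa using hi) M
  · refine key ((d - i).toNat + 1) i ?_ M
    push_cast
    have : ((d - i).toNat : ℤ) = d - i := Int.toNat_of_nonneg (by omega)
    omega

section Flat

variable {ι : Type} {c : ComplexShape ι} (P : HomologicalComplex (ModuleCat.{u} A) c)

/-- `T_q` preserves monomorphisms ⇒ `opcycles_q` is flat (any shape) -/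
theorem flat_opcycles_of_preservesMono (q : ι) (hflat : Module.Flat A (P.X (c.next q)))
    (h : ∀ {M' M : ModuleCat.{u} A} (φ : M' ⟶ M), Mono φ → Mono ((CohIII.TFun P q).map φ)) :
    Module.Flat A (P.opcycles q) := by
  rw [Module.Flat.iff_lTensor_preserves_injective_linearMap'.{u, u, u}]
  intro N N' _ _ _ _ f hf
  let φ : ModuleCat.of A N ⟶ ModuleCat.of A N' := ModuleCat.ofHom f
  haveI hφ : Mono φ := (ModuleCat.mono_iff_injective φ).mpr hf
  have h1 := mono_whiskerLeft_opcycles P q hflat φ (h φ hφ)
  exact (ModuleCat.mono_iff_injective (P.opcycles q ◁ φ)).mp h1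

/-- universal vanishing of `T_q` ⇒ `opcycles_q` is flat -/
theorem flat_opcycles_of_isZero_T (hP : ∀ i, Module.Flat A (P.X i)) (q : ι)
    (h : ∀ M : ModuleCat.{u} A, IsZero ((CohIII.TFun P q).obj M)) :
    Module.Flat A (P.opcycles q) :=
  flat_opcycles_of_preservesMono P q (hP _)
    (fun {M' _} _ _ => ⟨fun _ _ _ => (h M').eq_of_tgt _ _⟩)

/-- universal vanishing of `T_p` ⇒ `opcycles_q` is flat, `c.Rel p q` -/
theorem flat_opcycles_of_isZero_T_prev (hP : ∀ i, Module.Flat A (P.X i)) (p q : ι)
    (hrel : c.Rel p q) (h : ∀ M : ModuleCat.{u} A, IsZero ((CohIII.TFun P p).obj M)) :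
    Module.Flat A (P.opcycles q) := by
  refine flat_opcycles_of_preservesMono P q (hP _) ?_
  intro M' M φ hφ
  let S := ShortComplex.cokernelSequence φ
  haveI : Mono S.f := hφ
  have hS : S.ShortExact := ⟨ShortComplex.cokernelSequence_exact φ⟩
  exact mono_T_map_of_epi P hP S hS p q hrel ⟨fun _ _ _ => (h S.X₃).eq_of_src _ _⟩

/-- vanishing of a term gives vanishing of `T` -/
lemma isZero_T_of_isZero_X (k : ι) (hk : IsZero (P.X k)) (M : ModuleCat.{u} A) :
    IsZero ((CohIII.TFun P k).obj M) := by
  have h1 : IsZero ((CohIII.tensorObj P M).X k) := Functor.map_isZero (tensorRight M) hk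
  exact ShortComplex.isZero_homology_of_isZero_X₂ _ h1

end Flat

section Trunc

variable [IsNoetherianRing A] (K : CochainComplex (ModuleCat.{u} A) ℤ)
  (hK : ∀ i, Module.Finite A (K.X i) ∧ Module.Flat A (K.X i))
  (b : ℤ) (hb : ∀ i : ℤ, b < i → IsZero (K.X i))

lemma finite_flat_of_isZero (X : ModuleCat.{u} A) (h : IsZero X) :
    Module.Finite A X ∧ Module.Flat A X := by
  haveI : Subsingleton X := ModuleCat.subsingleton_of_isZero h
  exact ⟨inferInstance, inferInstance⟩

lemma finite_flat_of_iso {X Y : ModuleCat.{u} A} (e : X ≅ Y)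
    (h : Module.Finite A Y ∧ Module.Flat A Y) : Module.Finite A X ∧ Module.Flat A X := by
  haveI := h.1
  haveI := h.2
  exact ⟨Module.Finite.equiv e.symm.toLinearEquiv, Module.Flat.of_linearEquiv e.toLinearEquiv⟩

include hK hb in
/-- **the truncation `τ_{≥ d'}`** of a complex with universally vanishing cohomology below `d'` -/
theorem truncGE_step (d' : ℤ)
    (hlo : ∀ (M : ModuleCat.{u} A) (i : ℤ), i < d' → IsZero ((CohIII.TFun K i).obj M)) :
    (∀ i, Module.Finite A ((K.truncGE d').X i) ∧ Module.Flat A ((K.truncGE d').X i)) ∧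
    (∀ i : ℤ, i < d' → IsZero ((K.truncGE d').X i)) ∧
    (∀ i : ℤ, b < i → IsZero ((K.truncGE d').X i)) ∧
    ∀ M : ModuleCat.{u} A, QuasiIso (tensorMapL (K.πTruncGE d') M) := by
  have hfl : ∀ i, Module.Flat A (K.X i) := fun i => (hK i).2
  have hlow : ∀ i : ℤ, i < d' → IsZero ((K.truncGE d').X i) := fun i hi =>
    (K.truncGE d').isZero_of_isStrictlyGE d' i hi
  haveI hopf : Module.Flat A (K.opcycles d') :=
    flat_opcycles_of_isZero_T_prev K hfl (d' - 1) d' (show d' - 1 + 1 = d' by ring)
      (fun M => hlo M (d' - 1) (by omega))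
  haveI := (hK d').1
  haveI hopfin : Module.Finite A (K.opcycles d') := finite_opcycles K d'
  have hterm : ∀ i, Module.Finite A ((K.truncGE d').X i) ∧ Module.Flat A ((K.truncGE d').X i) := by
    intro i
    rcases lt_trichotomy i d' with hi | rfl | hi
    · exact finite_flat_of_isZero _ (hlow i hi)
    · exact finite_flat_of_iso (K.truncGEXIsoOpcycles i) ⟨hopfin, hopf⟩
    · exact finite_flat_of_iso (K.truncGEXIso d' i hi) (hK i)
  have hup : ∀ i : ℤ, b < i → IsZero ((K.truncGE d').X i) := by
    intro i hi
    rcases lt_trichotomy i d' with hi' | rfl | hi'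
    · exact hlow i hi'
    · refine IsZero.of_iso ?_ (K.truncGEXIsoOpcycles i)
      exact IsZero.of_epi (K.pOpcycles i) (hb i hi)
    · exact (hb i hi).of_iso (K.truncGEXIso d' i hi')
  haveI : K.IsGE d' := by
    rw [K.isGE_iff]
    intro i hi
    rw [HomologicalComplex.exactAt_iff_isZero_homology]
    exact (hlo (ModuleCat.of A A) i hi).of_iso (TUnitIso K i).symm
  refine ⟨hterm, hlow, hup, fun M => ?_⟩
  exact quasiIso_tensorMapL_cochain (K.πTruncGE d') hfl (fun i => (hterm i).2) b
    (fun M i hi => isZero_T_of_isZero_X K i (hb i hi) M)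
    (fun M i hi => isZero_T_of_isZero_X (K.truncGE d') i (hup i hi) M) M

include hK hb in
/-- **the truncation `τ_{≤ d}`** of a complex with universally vanishing cohomology above `d` -/
theorem truncLE_step (d : ℤ)
    (hhi : ∀ (M : ModuleCat.{u} A) (i : ℤ), d < i → IsZero ((CohIII.TFun K i).obj M)) :
    (∀ i, Module.Finite A ((K.truncLE d).X i) ∧ Module.Flat A ((K.truncLE d).X i)) ∧
    (∀ i : ℤ, d < i → IsZero ((K.truncLE d).X i)) ∧
    (∀ i : ℤ, IsZero (K.X i) → IsZero ((K.truncLE d).X i)) ∧
    ∀ M : ModuleCat.{u} A, QuasiIso (tensorMapL (K.ιTruncLE d) M) := by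
  have hfl : ∀ i, Module.Flat A (K.X i) := fun i => (hK i).2
  have hhigh : ∀ i : ℤ, d < i → IsZero ((K.truncLE d).X i) := fun i hi =>
    (K.truncLE d).isZero_of_isStrictlyLE d i hi
  haveI hopf : Module.Flat A (K.opcycles (d + 1)) :=
    flat_opcycles_of_isZero_T K hfl (d + 1) (fun M => hhi M (d + 1) (by omega))
  haveI := (hK d).1
  haveI := (hK d).2
  haveI := (hK (d + 1)).2
  have hinj : Function.Injective (K.iCycles d).hom :=
    (ModuleCat.mono_iff_injective _).mp inferInstance
  haveI hcfin : Module.Finite A (K.cycles d) := Module.Finite.of_injective (K.iCycles d).hom hinj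
  have hcfl : Module.Flat A (K.cycles d) := by
    have hex1 : (ShortComplex.mk (K.iCycles d) (K.d d (d + 1)) (K.iCycles_d d (d + 1))).Exact :=
      ShortComplex.exact_of_f_is_kernel _ (K.cyclesIsKernel d (d + 1) (by simp))
    have hex2 : (ShortComplex.mk (K.d d (d + 1)) (K.pOpcycles (d + 1))
        (K.d_pOpcycles d (d + 1))).Exact :=
      ShortComplex.exact_of_g_is_cokernel _ (K.opcyclesIsCokernel d (d + 1) (by simp))
    exact (flat_four (K.iCycles d).hom (K.d d (d + 1)).hom (K.pOpcycles (d + 1)).hom hinj
      ((ModuleCat.epi_iff_surjective _).mp inferInstance)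
      ((ShortComplex.ShortExact.moduleCat_exact_iff_function_exact _).mp hex1)
      ((ShortComplex.ShortExact.moduleCat_exact_iff_function_exact _).mp hex2)).1 inferInstance
  have hterm : ∀ i, Module.Finite A ((K.truncLE d).X i) ∧ Module.Flat A ((K.truncLE d).X i) := by
    intro i
    rcases lt_trichotomy i d with hi | rfl | hi
    · exact finite_flat_of_iso (K.truncLEXIso d i hi) (hK i)
    · exact finite_flat_of_iso (K.truncLEXIsoCycles i) ⟨hcfin, hcfl⟩
    · exact finite_flat_of_isZero _ (hhigh i hi)
  have hzero : ∀ i : ℤ, IsZero (K.X i) → IsZero ((K.truncLE d).X i) := by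
    intro i hi
    rcases lt_trichotomy i d with hi' | rfl | hi'
    · exact hi.of_iso (K.truncLEXIso d i hi')
    · refine IsZero.of_iso ?_ (K.truncLEXIsoCycles i)
      exact IsZero.of_mono (K.iCycles i) hi
    · exact hhigh i hi'
  haveI : K.IsLE d := by
    rw [K.isLE_iff]
    intro i hi
    rw [HomologicalComplex.exactAt_iff_isZero_homology]
    exact (hhi (ModuleCat.of A A) i hi).of_iso (TUnitIso K i).symm
  refine ⟨hterm, hhigh, hzero, fun M => ?_⟩
  exact quasiIso_tensorMapL_cochain (K.ιTruncLE d) (fun i => (hterm i).2) hfl b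
    (fun M i hi => isZero_T_of_isZero_X (K.truncLE d) i (hzero i (hb i hi)) M)
    (fun M i hi => isZero_T_of_isZero_X K i (hb i hi) M) M


include hK hb in
/-- **the universal amplitude**: a complex of finite projective modules in `[d', d]` with the same
`T`-functors -/
theorem exists_amplitude (d' d : ℤ)
    (hlo : ∀ (M : ModuleCat.{u} A) (i : ℤ), i < d' → IsZero ((CohIII.TFun K i).obj M))
    (hhi : ∀ (M : ModuleCat.{u} A) (i : ℤ), d < i → IsZero ((CohIII.TFun K i).obj M)) :
    ∃ L : CochainComplex (ModuleCat.{u} A) ℤ,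
      (∀ i, Module.Finite A (L.X i) ∧ Module.Projective A (L.X i)) ∧
      (∀ i : ℤ, i < d' ∨ d < i → IsZero (L.X i)) ∧
      ∀ (M : ModuleCat.{u} A) (p : ℤ), Nonempty (CohIII.T L p M ≅ CohIII.T K p M) := by
  obtain ⟨h1, h2, h3, h4⟩ := truncGE_step K hK b hb d' hlo
  have iso1 : ∀ (M : ModuleCat.{u} A) (p : ℤ),
      CohIII.T K p M ≅ CohIII.T (K.truncGE d') p M := fun M p => by
    haveI : IsIso (HomologicalComplex.homologyMap (tensorMapL (K.πTruncGE d') M) p) :=
      (quasiIsoAt_iff_isIso_homologyMap _ p).1 ((quasiIso_iff _).1 (h4 M) p)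
    exact asIso (HomologicalComplex.homologyMap (tensorMapL (K.πTruncGE d') M) p)
  have hhi' : ∀ (M : ModuleCat.{u} A) (i : ℤ), d < i →
      IsZero ((CohIII.TFun (K.truncGE d') i).obj M) :=
    fun M i hi => (hhi M i hi).of_iso (iso1 M i).symm
  obtain ⟨g1, g2, g3, g4⟩ := truncLE_step (K.truncGE d') h1 b h3 d hhi'
  refine ⟨(K.truncGE d').truncLE d, ?_, ?_, ?_⟩
  · intro i
    haveI := (g1 i).1
    haveI := (g1 i).2
    haveI : Module.FinitePresentation A (((K.truncGE d').truncLE d).X i) :=
      Module.finitePresentation_of_finite A _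
    exact ⟨inferInstance, Module.Flat.projective_of_finitePresentation⟩
  · rintro i (hi | hi)
    · exact g3 i (h2 i hi)
    · exact g2 i hi
  · intro M p
    haveI : IsIso (HomologicalComplex.homologyMap
        (tensorMapL ((K.truncGE d').ιTruncLE d) M) p) :=
      (quasiIsoAt_iff_isIso_homologyMap _ p).1 ((quasiIso_iff _).1 (g4 M) p)
    exact ⟨asIso (HomologicalComplex.homologyMap
      (tensorMapL ((K.truncGE d').ιTruncLE d) M) p) ≪≫ (iso1 M p).symm⟩


end Trunc

end Groth.Agent.Lib.R2H2.TruncCx
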