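import Mathlib
import Groth.Prelude
import Groth.Agent.Lib.Helper3FlatCxRank
import Groth.Agent.Lib.R2H2TruncCx
set_option backward.isDefEq.respectTransparency.types false

/-!
# The Euler characteristic of the rank functions of a complex (helper2, round 2)

For a chain complex `Q` of finite free modules over a Noetherian ring, vanishing below degree `1 - b` and with
`T_1(Q) = 0` universally, the alternating sum `Σ_{p < b} (-1)^p dRank Q (-p)` is a locally constant function on
`Spec A` (`isLocallyConstant_eulerQ`), and `dRank Q (-p) = 0` for `p ≥ b`.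
-/

set_option autoImplicit false
set_option linter.unusedSectionVars false
set_option linter.style.haveILetI false
universe u
open CategoryTheory CategoryTheory.Limits TensorProduct

noncomputable section

namespace Groth.Agent.Lib.R2H2.EulerQ

open Groth.Agent.Lib.Helper3 Groth.Agent.S2380

variable {A : Type u} [CommRing A]

lemma fd_of_subsingleton (M : Type u) [AddCommGroup M] [Module A M] [Subsingleton M]
    (x : PrimeSpectrum A) : fd M x = 0 := by
  unfold fd
  exact Module.finrank_zero_of_subsingleton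

lemma fd_eq_rankAtStalk (M : Type u) [AddCommGroup M] [Module A M] [Module.Flat A M]
    [Module.Finite A M] (x : PrimeSpectrum A) :
    fd M x = Module.rankAtStalk M x :=
  (Module.rankAtStalk_eq x).symm

lemma isLocallyConstant_fd (M : Type u) [AddCommGroup M] [Module A M] [Module.Flat A M]
    [Module.Finite A M] [Module.FinitePresentation A M] :
    IsLocallyConstant (fun x : PrimeSpectrum A => fd M x) := by
  have h : (fun x : PrimeSpectrum A => fd M x) = Module.rankAtStalk (R := A) M := by
    funext x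
    exact fd_eq_rankAtStalk M x
  rw [h]
  exact Module.isLocallyConstant_rankAtStalk

variable (Q : ChainComplex (ModuleCat.{u} A) ℤ)

lemma fd_opcycles_of_isZero (i : ℤ) (h : IsZero (Q.X i)) (x : PrimeSpectrum A) :
    fd (Q.opcycles i) x = 0 := by
  haveI : Subsingleton (Q.opcycles i) :=
    ModuleCat.subsingleton_of_isZero (IsZero.of_epi (Q.pOpcycles i) h)
  exact fd_of_subsingleton _ x

lemma fd_X_of_isZero (i : ℤ) (h : IsZero (Q.X i)) (x : PrimeSpectrum A) :
    fd (Q.X i) x = 0 := by
  haveI : Subsingleton (Q.X i) := ModuleCat.subsingleton_of_isZero h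
  exact fd_of_subsingleton _ x

/-- the telescoping sum -/
theorem sum_dRank (hQ : ∀ i, Module.Finite A (Q.X i)) (y : PrimeSpectrum A) (n : ℕ) :
    ∑ p ∈ Finset.range n, (-1 : ℤ) ^ p * (CohIII.dRank Q (-(p : ℤ)) y : ℤ) =
      (fd (Q.opcycles 0) y : ℤ) - (-1 : ℤ) ^ n * (fd (Q.opcycles (-(n : ℤ))) y : ℤ) -
        ∑ p ∈ Finset.range n, (-1 : ℤ) ^ p * (fd (Q.X (-(p : ℤ) - 1)) y : ℤ) := by
  induction n with
  | zero => simp
  | succ n ih =>
    rw [Finset.sum_range_succ, Finset.sum_range_succ, ih]
    have h := dRank_add_opcycles Q hQ (-(n : ℤ)) y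
    have e1 : -((n + 1 : ℕ) : ℤ) = -(n : ℤ) - 1 := by push_cast; ring
    rw [e1]
    have h' : (CohIII.dRank Q (-(n : ℤ)) y : ℤ) =
        (fd (Q.opcycles (-(n : ℤ))) y : ℤ) + (fd (Q.opcycles (-(n : ℤ) - 1)) y : ℤ) -
          (fd (Q.X (-(n : ℤ) - 1)) y : ℤ) := by
      have := congrArg (fun m : ℕ => (m : ℤ)) h
      push_cast at this
      linarith
    rw [h', pow_succ]
    ring

/-- the rank function vanishes where the complex does -/
theorem dRank_eq_zero_of_isZero (hQ : ∀ i, Module.Finite A (Q.X i)) (k : ℤ)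
    (h0 : IsZero (Q.X k)) (h1 : IsZero (Q.X (k - 1))) (y : PrimeSpectrum A) :
    CohIII.dRank Q k y = 0 := by
  have h := dRank_add_opcycles Q hQ k y
  rw [fd_opcycles_of_isZero Q k h0, fd_opcycles_of_isZero Q (k - 1) h1,
    fd_X_of_isZero Q (k - 1) h1] at h
  omega

/-- the Euler characteristic of the rank functions -/
def eulerQ (b : ℕ) (y : PrimeSpectrum A) : ℤ :=
  ∑ p ∈ Finset.range b, (-1 : ℤ) ^ p * (CohIII.dRank Q (-(p : ℤ)) y : ℤ)

theorem isLocallyConstant_sum {X : Type*} [TopologicalSpace X] (h : ℕ → X → ℕ)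
    (hh : ∀ p, IsLocallyConstant (h p)) (n : ℕ) :
    IsLocallyConstant (fun x => ∑ p ∈ Finset.range n, (-1 : ℤ) ^ p * (h p x : ℤ)) := by
  induction n with
  | zero =>
    simp only [Finset.range_zero, Finset.sum_empty]
    exact IsLocallyConstant.const (0 : ℤ)
  | succ n ih =>
    have h1 : IsLocallyConstant (fun x => (-1 : ℤ) ^ n * (h n x : ℤ)) :=
      (hh n).comp (fun m : ℕ => (-1 : ℤ) ^ n * (m : ℤ))
    have h2 := ih.comp₂ h1 (fun a b : ℤ => a + b)
    have h3 : (fun x => ∑ p ∈ Finset.range (n + 1), (-1 : ℤ) ^ p * (h p x : ℤ)) =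
        fun x => (∑ p ∈ Finset.range n, (-1 : ℤ) ^ p * (h p x : ℤ)) + (-1 : ℤ) ^ n * (h n x : ℤ) := by
      funext x
      rw [Finset.sum_range_succ]
    rw [h3]
    exact h2

section Noeth

variable [IsNoetherianRing A]

/-- **the Euler characteristic of the rank functions is locally constant** -/
theorem isLocallyConstant_eulerQ (hQ : ∀ i, Module.Finite A (Q.X i) ∧ Module.Free A (Q.X i))
    (hQv : ∀ M : ModuleCat.{u} A, IsZero ((CohIII.TFun Q 1).obj M))
    (b : ℕ) (hb : ∀ i : ℤ, i < 1 - (b : ℤ) → IsZero (Q.X i)) :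
    IsLocallyConstant (eulerQ Q b) := by
  have hfin : ∀ i, Module.Finite A (Q.X i) := fun i => (hQ i).1
  have hfl : ∀ i, Module.Flat A (Q.X i) := fun i => by
    haveI := (hQ i).2
    infer_instance
  -- the formula
  have hform : eulerQ Q b = fun y => (fd (Q.opcycles 0) y : ℤ) -
      ∑ p ∈ Finset.range b, (-1 : ℤ) ^ p * (fd (Q.X (-(p : ℤ) - 1)) y : ℤ) := by
    funext y
    unfold eulerQ
    rw [sum_dRank Q hfin y b, fd_opcycles_of_isZero Q (-(b : ℤ)) (hb _ (by omega)) y]
    simp
  rw [hform]
  -- the opcycles are finite projective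
  haveI : Module.Flat A (Q.opcycles 0) :=
    Groth.Agent.Lib.R2H2.TruncCx.flat_opcycles_of_isZero_T_prev Q hfl 1 0 (by simp) hQv
  haveI := hfin 0
  haveI : Module.Finite A (Q.opcycles 0) :=
    Module.Finite.of_surjective (Q.pOpcycles 0).hom ((ModuleCat.epi_iff_surjective _).mp inferInstance)
  haveI : Module.FinitePresentation A (Q.opcycles 0) := Module.finitePresentation_of_finite A _
  have h0 : IsLocallyConstant (fun y : PrimeSpectrum A => fd (Q.opcycles 0) y) :=
    isLocallyConstant_fd _
  have hX : ∀ p : ℕ, IsLocallyConstant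
      (fun y : PrimeSpectrum A => fd (Q.X (-(p : ℤ) - 1)) y) := by
    intro p
    haveI := hfin (-(p : ℤ) - 1)
    haveI := hfl (-(p : ℤ) - 1)
    haveI : Module.FinitePresentation A (Q.X (-(p : ℤ) - 1)) :=
      Module.finitePresentation_of_finite A _
    exact isLocallyConstant_fd _
  have h1 := isLocallyConstant_sum (fun p y => fd (Q.X (-(p : ℤ) - 1)) y) hX b
  exact (h0.comp (fun m : ℕ => (m : ℤ))).comp₂ h1 (fun a c : ℤ => a - c)

end Noeth

end Groth.Agent.Lib.R2H2.EulerQ
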