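import Mathlib
import Groth.Prelude
import Groth.Agent.Lib.R2H2BcNear
import Groth.Agent.Lib.Helper3FlatCxRank
import Groth.Agent.Lib.Helper22RedProj
import Groth.Agent.Lib.R2H2EulerQ
set_option backward.isDefEq.respectTransparency.types false
set_option autoImplicit false
set_option linter.unusedSectionVars false
set_option linter.style.haveILetI false
universe u
open CategoryTheory AlgebraicGeometry TopologicalSpace Opposite TensorProduct Topology
open AlgebraicGeometry.Scheme.Modules CohCmp

noncomputable section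

namespace Groth.Agent.Lib.R2H2.BcNear3

open Groth.Agent.Lib.R2H2.BcLocal Groth.Agent.Lib.R2H2.GenFAlg Groth.Agent.Lib.R2H2.LocalModel
  Groth.Agent.Lib.R2H2.BcIso Groth.Agent.Lib.R2H2.FibreRank Groth.Agent.Lib.R2H2.FibreBC
  Groth.Agent.Lib.R2H2.BcNear

section Alg

open Groth.Agent.S2380

variable {R : Type u} [CommRing R] (P : ChainComplex (ModuleCat.{u} R) ℤ)
  (hP : ∀ i, Module.Finite R (P.X i) ∧ Module.Projective R (P.X i))

include hP in
/-- over a reduced ring, a locally constant rank function of a complex of finite projective modules in degree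
`k` makes `opcycles_k` and `opcycles_{k-1}` projective -/
theorem projective_opcycles_of_isLocallyConstant [IsReduced R] (k : ℤ)
    (hlc : IsLocallyConstant (CohIII.dRank P k)) :
    Module.Projective R (P.opcycles k) ∧ Module.Projective R (P.opcycles (k - 1)) := by
  haveI := finitePresentation_opcycles' P hP k
  haveI := finitePresentation_opcycles' P hP (k - 1)
  haveI := (hP (k - 1)).1
  haveI := (hP (k - 1)).2
  haveI : Module.FinitePresentation R (P.X (k - 1)) := Module.finitePresentation_of_projective R _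
  have hfin : ∀ i, Module.Finite R (P.X i) := fun i => (hP i).1
  have hc : IsLocallyConstant (fun x : PrimeSpectrum R => fd (P.X (k - 1)) x) :=
    Groth.Agent.Lib.R2H2.EulerQ.isLocallyConstant_fd _
  have key : ∀ x0 : PrimeSpectrum R, ∀ᶠ x in 𝓝 x0,
      fd (P.opcycles k) x = fd (P.opcycles k) x0 ∧
        fd (P.opcycles (k - 1)) x = fd (P.opcycles (k - 1)) x0 := by
    intro x0
    have h1 := fd_eventually_le (M := P.opcycles k) x0
    have h2 := fd_eventually_le (M := P.opcycles (k - 1)) x0
    have h3 := (IsLocallyConstant.iff_eventually_eq _).1 hc x0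
    have h4 := (IsLocallyConstant.iff_eventually_eq _).1 hlc x0
    filter_upwards [h1, h2, h3, h4] with x hx1 hx2 hx3 hx4
    have e := Groth.Agent.Lib.Helper3.dRank_add_opcycles P hfin k x
    have e0 := Groth.Agent.Lib.Helper3.dRank_add_opcycles P hfin k x0
    omega
  have ha : IsLocallyConstant (fun x : PrimeSpectrum R => fd (P.opcycles k) x) :=
    (IsLocallyConstant.iff_eventually_eq _).2 (fun x0 => (key x0).mono (fun x hx => hx.1))
  have hb : IsLocallyConstant (fun x : PrimeSpectrum R => fd (P.opcycles (k - 1)) x) :=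
    (IsLocallyConstant.iff_eventually_eq _).2 (fun x0 => (key x0).mono (fun x hx => hx.2))
  exact ⟨Groth.Agent.Lib.Helper22.RedProj.projective_of_isLocallyConstant ha,
    Groth.Agent.Lib.Helper22.RedProj.projective_of_isLocallyConstant hb⟩

end Alg

section Near

variable {X S : Scheme.{u}} (f : X ⟶ S) [IsProper f] [LocallyOfFinitePresentation f]
  [HasInjectiveResolutions X.Modules]
  (F : X.Modules) [F.IsQuasicoherent] (hfp : CohB1.IsFP F) (hfl : FlatMod.IsFlatOver f F)

include hfp hfl in
/-- **over a reduced base, a locally constant `h^i` of the fibres makes `R^i f_* F` finite locally free and the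
formation of `R^i f_* F` and `R^{i-1} f_* F` commute with base change** (local form) -/
theorem exists_good_of_isLocallyConstant [IsReduced S] (i : ℕ)
    (hlc : IsLocallyConstant (CohIII.fiberRank f F i)) (s : S) :
    ∃ W : S.Opens, s ∈ W ∧ Good f F i W ∧ (∀ j : ℕ, j + 1 = i → Good f F j W) ∧
      FlatMod.IsFinLocFree (((Coh.Rpush f i).obj F).restrict W.ι) := by
  obtain ⟨V₁, hV₁, hsV₁, hex⟩ := exists_local_model f F hfp hfl s
  haveI : IsAffine (V₁ : Scheme.{u}) := hV₁
  obtain ⟨Q₁, b, hP, -, hQ⟩ := hex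
  have hflat : ∀ j, Module.Flat Γ((V₁ : Scheme.{u}), ⊤) (Q₁.X j) := fun j => by
    haveI := (hP j).2
    infer_instance
  have hd : IsLocallyConstant (CohIII.dRank Q₁ (-(i : ℤ))) := by
    have hfun : CohIII.dRank Q₁ (-(i : ℤ)) =
        (fun v : V₁ => CohIII.fiberRank f F i v.1) ∘
          (fun x => (V₁ : Scheme.{u}).isoSpec.inv x) := by
      funext x
      have h1 := fiberRank_eq_dRank_of_isBridge f F V₁ Q₁ hQ hflat i
        ((V₁ : Scheme.{u}).isoSpec.inv x).1 ((V₁ : Scheme.{u}).isoSpec.inv x).2
      have h2 : (V₁ : Scheme.{u}).isoSpec.hom ((V₁ : Scheme.{u}).isoSpec.inv x) = x := by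
        rw [← Scheme.Hom.comp_apply, Iso.inv_hom_id]
        rfl
      rw [Function.comp_apply, h1]
      exact congrArg _ h2.symm
    rw [hfun]
    exact (hlc.comp_continuous continuous_subtype_val).comp_continuous
      (V₁ : Scheme.{u}).isoSpec.inv.continuous
  haveI : _root_.IsReduced Γ((V₁ : Scheme.{u}), ⊤) := inferInstance
  obtain ⟨hp1, hp2⟩ := projective_opcycles_of_isLocallyConstant Q₁ hP (-(i : ℤ)) hd
  haveI : Module.Flat Γ((V₁ : Scheme.{u}), ⊤) (Q₁.opcycles (-(i : ℤ))) := inferInstance
  haveI : Module.Flat Γ((V₁ : Scheme.{u}), ⊤) (Q₁.opcycles (-(i : ℤ) - 1)) := inferInstance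
  obtain ⟨hfin, hproj⟩ := finite_projective_homology Q₁ hP (-(i : ℤ))
  refine ⟨V₁, hsV₁, good_of_flat i V₁ Q₁ hP hQ, fun j hj => ?_,
    isFinLocFree_Rpush_restrict_of_projective f F V₁ Q₁ hQ i⟩
  have key : ∀ k : ℤ, k = -(i : ℤ) →
      Module.Flat Γ((V₁ : Scheme.{u}), ⊤) (Q₁.opcycles k) := by
    intro k hk
    subst hk
    infer_instance
  haveI : Module.Flat Γ((V₁ : Scheme.{u}), ⊤) (Q₁.opcycles (-(j : ℤ) - 1)) :=
    key _ (by subst hj; push_cast; ring)
  exact good_of_flat j V₁ Q₁ hP hQ

end Near

end Groth.Agent.Lib.R2H2.BcNear3
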