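import Mathlib
import Groth.Agent.Lib.Helper13FlatMV

/-!
# Faithfully flat descent of "free of rank one" over a semilocal ring (helper4, round 2)

`exists_isUnit`: `Γ` semilocal, `Γ → Γ'` faithfully flat, `u : P → P'` a base change of the `Γ`-module
`P` to `Γ'`, `P' ≃ Γ'`.  Then some `s : P` has `u s` a generator of `P'`.
-/

set_option autoImplicit false
set_option linter.style.haveILetI false
set_option linter.unusedSectionVars false
universe u
open TensorProduct

noncomputable section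

namespace Groth.Agent.Lib.R2H4FFPicAlg

variable {Γ Γ' P : Type u} [CommRing Γ] [CommRing Γ'] [Algebra Γ Γ']
  [Module.FaithfullyFlat Γ Γ'] [AddCommGroup P] [Module Γ P]

theorem finrank_quotient_tensor_eq_one (e : Γ' ⊗[Γ] P ≃ₗ[Γ'] Γ') (m : Ideal Γ) [hm : m.IsMaximal] :
    letI := Ideal.Quotient.field m
    Module.finrank (Γ ⧸ m) ((Γ ⧸ m) ⊗[Γ] P) = 1 := by
  letI := Ideal.Quotient.field m
  have hne : m.map (algebraMap Γ Γ') ≠ ⊤ := by
    intro h
    have h1 := Ideal.comap_map_eq_self_of_faithfullyFlat (B := Γ') m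
    rw [h, Ideal.comap_top] at h1
    exact hm.ne_top h1.symm
  obtain ⟨n, hn, hle⟩ := Ideal.exists_le_maximal _ hne
  have hcomap : n.comap (algebraMap Γ Γ') = m := by
    have h1 : m ≤ n.comap (algebraMap Γ Γ') := Ideal.le_comap_of_map_le hle
    have h2 : n.comap (algebraMap Γ Γ') ≠ ⊤ := (Ideal.comap_isPrime _ n).ne_top
    exact (hm.eq_of_le h2 h1).symm
  haveI : n.LiesOver m := ⟨hcomap.symm⟩
  letI := Ideal.Quotient.field n
  let e1 : (Γ' ⧸ n) ⊗[Γ'] (Γ' ⊗[Γ] P) ≃ₗ[Γ' ⧸ n] (Γ' ⧸ n) ⊗[Γ] P :=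
    AlgebraTensorModule.cancelBaseChange Γ Γ' (Γ' ⧸ n) (Γ' ⧸ n) P
  let e2 : (Γ' ⧸ n) ⊗[Γ'] (Γ' ⊗[Γ] P) ≃ₗ[Γ' ⧸ n] (Γ' ⧸ n) ⊗[Γ'] Γ' :=
    AlgebraTensorModule.congr (LinearEquiv.refl (Γ' ⧸ n) (Γ' ⧸ n)) e
  let e3 : (Γ' ⧸ n) ⊗[Γ'] Γ' ≃ₗ[Γ' ⧸ n] (Γ' ⧸ n) := AlgebraTensorModule.rid Γ' (Γ' ⧸ n) (Γ' ⧸ n)
  let e4 : (Γ' ⧸ n) ⊗[Γ ⧸ m] ((Γ ⧸ m) ⊗[Γ] P) ≃ₗ[Γ' ⧸ n] (Γ' ⧸ n) ⊗[Γ] P :=
    AlgebraTensorModule.cancelBaseChange Γ (Γ ⧸ m) (Γ' ⧸ n) (Γ' ⧸ n) P
  have h1 : Module.finrank (Γ' ⧸ n) ((Γ' ⧸ n) ⊗[Γ ⧸ m] ((Γ ⧸ m) ⊗[Γ] P)) =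
      Module.finrank (Γ ⧸ m) ((Γ ⧸ m) ⊗[Γ] P) := Module.finrank_baseChange
  rw [← h1, (e4.trans (e1.symm.trans (e2.trans e3))).finrank_eq, Module.finrank_self]

theorem exists_isUnit [Finite (MaximalSpectrum Γ)] {P' : Type u} [AddCommGroup P'] [Module Γ' P']
    [Module Γ P'] [IsScalarTower Γ Γ' P'] (u : P →ₗ[Γ] P') (hu : IsBaseChange Γ' u)
    (e : P' ≃ₗ[Γ'] Γ') : ∃ s : P, IsUnit (e (u s)) := by
  let e' : Γ' ⊗[Γ] P ≃ₗ[Γ'] Γ' := hu.equiv.trans e
  haveI : Module.Finite Γ' (Γ' ⊗[Γ] P) := Module.Finite.equiv e'.symm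
  haveI : Module.Finite Γ P := Module.Finite.of_finite_tensorProduct_of_faithfullyFlat Γ'
  haveI : Module.Flat Γ' (Γ' ⊗[Γ] P) := Module.Flat.of_linearEquiv e'
  haveI : Module.Flat Γ P := Module.Flat.of_flat_tensorProduct Γ P Γ'
  obtain ⟨b⟩ := Module.nonempty_basis_of_flat_of_finrank_eq Γ P 1 (fun m => by
    haveI := m.2
    exact finrank_quotient_tensor_eq_one e' m.1)
  refine ⟨b 0, ?_⟩
  -- the base-changed basis
  let b' : Module.Basis (Fin 1) Γ' Γ' := (b.baseChange Γ').map e'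
  have hb' : b' 0 = e (u (b 0)) := by
    simp only [b', Module.Basis.map_apply, Module.Basis.baseChange_apply, e', LinearEquiv.trans_apply,
      IsBaseChange.equiv_tmul, one_smul]
  have hspan := b'.span_eq
  have h1 : (1 : Γ') ∈ Submodule.span Γ' (Set.range b') := by rw [hspan]; trivial
  have hrange : Set.range b' = {b' 0} := by
    ext x
    constructor
    · rintro ⟨i, rfl⟩
      rw [Subsingleton.elim i 0]
      rfl
    · rintro rfl
      exact ⟨0, rfl⟩
  rw [hrange, Submodule.mem_span_singleton] at h1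
  obtain ⟨c, hc⟩ := h1
  rw [← hb']
  exact IsUnit.of_mul_eq_one c (by rw [mul_comm]; exact hc)


section Pushout

open Groth.Agent.Helper13FlatMV

variable {R R' G G' P P' : Type u} [CommRing R] [CommRing R'] [CommRing G] [CommRing G']
  [Algebra R R'] [Algebra R G] [Algebra R' G'] [Algebra G G'] [Algebra R G']
  [IsScalarTower R R' G'] [IsScalarTower R G G'] [Algebra.IsPushout R R' G G']
  [Module.FaithfullyFlat R R'] [Finite (MaximalSpectrum G)]
  [AddCommGroup P] [Module G P] [Module R P] [IsScalarTower R G P]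
  [AddCommGroup P'] [Module G' P'] [Module R' P'] [IsScalarTower R' G' P']

omit [Finite (MaximalSpectrum G)] in
theorem faithfullyFlat_of_isPushout (R R' G G' : Type u) [CommRing R] [CommRing R'] [CommRing G]
    [CommRing G'] [Algebra R R'] [Algebra R G] [Algebra R' G'] [Algebra G G'] [Algebra R G']
    [IsScalarTower R R' G'] [IsScalarTower R G G'] [Algebra.IsPushout R R' G G']
    [Module.FaithfullyFlat R R'] : Module.FaithfullyFlat G G' := by
  have h := RingHom.FaithfullyFlat.isStableUnderBaseChange R R' G G'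
    ((RingHom.faithfullyFlat_algebraMap_iff).2 (inferInstance : Module.FaithfullyFlat R R'))
  exact (RingHom.faithfullyFlat_algebraMap_iff).1 h

/-- `Γ` semilocal; the square `R → R'`, `R → G`, `G' = R' ⊗_R G` a pushout with `R → R'` faithfully flat;
`u : P → P'` semilinear with `R' ⊗_R P → P'` bijective and `P' ≃ G'`.  Then some `u s` generates `P'`. -/
theorem exists_isUnit_of_pushout (u : P →+ P')
    (hu : ∀ (x : G) (p : P), u (x • p) = algebraMap G G' x • u p)
    (hu' : ∀ (r : R) (p : P), u (r • p) = algebraMap R R' r • u p)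
    (hk : Function.Bijective (kap u hu')) (e : P' ≃ₗ[G'] G') : ∃ s : P, IsUnit (e (u s)) := by
  haveI : Module.FaithfullyFlat G G' := faithfullyFlat_of_isPushout R R' G G'
  letI : Module G P' := Module.compHom P' (algebraMap G G')
  haveI : IsScalarTower G G' P' := IsScalarTower.of_algebraMap_smul fun r x => rfl
  let uL : P →ₗ[G] P' := { toFun := u, map_add' := u.map_add, map_smul' := hu }
  let lam : G' ⊗[G] P →ₗ[G'] P' := LinearMap.liftBaseChange G' uL
  have hlam : ∀ z : R' ⊗[R] P, lam ((Algebra.IsPushout.cancelBaseChange R R' G G' P).symm z) =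
      kap u hu' z := by
    intro z
    induction z with
    | zero => simp
    | add x y hx hy => rw [map_add, map_add, map_add, hx, hy]
    | tmul r' p =>
      rw [Algebra.IsPushout.cancelBaseChange_symm_tmul, kap_tmul]
      change algebraMap R' G' r' • u p = r' • u p
      rw [algebraMap_smul]
  have hbij : Function.Bijective lam := by
    have h1 : ⇑lam = ⇑(kap u hu') ∘ ⇑(Algebra.IsPushout.cancelBaseChange R R' G G' P) := by
      funext w
      have := hlam ((Algebra.IsPushout.cancelBaseChange R R' G G' P) w)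
      rw [LinearEquiv.symm_apply_apply] at this
      exact this
    rw [h1]
    exact hk.comp (LinearEquiv.bijective _)
  have hbc : IsBaseChange G' uL :=
    IsBaseChange.of_equiv (LinearEquiv.ofBijective lam hbij) (fun x => by
      change lam (1 ⊗ₜ x) = uL x
      simp [lam])
  exact exists_isUnit uL hbc e

end Pushout

end Groth.Agent.Lib.R2H4FFPicAlg
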