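import Mathlib
import Groth.Prelude
import Groth.Agent.Lib.R2H4FFPicAlg
import Groth.Agent.Lib.Helper13QcqsBC
import Groth.Agent.Lib.Helper12AffineDescent
import Groth.Agent.Lib.Helper27PullGen
import Groth.Agent.Lib.Helper23GenNear
import Groth.Agent.Lib.Helper23PB
import Groth.Agent.Lib.Helper23SecTw6

/-!
# `Pic(X) → Pic(X_B)` is injective for `A → B` faithfully flat, `X` qcqs with semilocal `Γ(X, O_X)` (helper4)
-/

set_option autoImplicit false
set_option linter.style.haveILetI false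
set_option linter.unusedSectionVars false
universe u
open CategoryTheory CategoryTheory.Limits AlgebraicGeometry TopologicalSpace Opposite

noncomputable section

namespace Groth.Agent.Lib.R2H4FFPic

open Groth.Agent.Lib.Helper23.SecTw Groth.Agent.Lib.Helper23.GenLocus
  Groth.Agent.Lib.Helper23.Extend Groth.Agent.Lib.Helper6 Groth.Agent.Helper13PullbackUnit
  Groth.Agent.Lib.Helper27PullGen Groth.Agent.Lib.Helper23.PB Groth.Agent.Lib.Helper23.GenNear

section Gen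

variable {X Y : Scheme.{u}}

/-- a global generator gives an isomorphism `O ≅ M` -/
theorem isIso_secHom_of_isGen (M : X.Modules) (σ : Γ(M, ⊤)) (hσ : IsGen M ⊤ σ) :
    IsIso (secHom M σ) := by
  rw [Scheme.Modules.Hom.isIso_iff_isIso_app]
  intro V
  rw [ConcreteCategory.isIso_iff_bijective]
  have hfun : ⇑((secHom M σ).app V) = (fun r : Γ(X, V) => r • res M (le_top : V ≤ ⊤) σ) ∘ (ofS V) := by
    funext b
    have h1 := app_toS (secHom M σ) V (ofS V b)
    rw [toS_ofS] at h1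
    rw [h1, sv_secHom]
    rfl
  rw [hfun]
  exact (hσ V le_top).comp ⟨fun a b h => h, fun b => ⟨b, rfl⟩⟩

/-- units can be detected after a surjective pull-back -/
theorem isUnit_of_isUnit_app (g : Y ⟶ X) (hg : Function.Surjective g.base) (W : X.Opens) (c : Γ(X, W))
    (h : IsUnit (g.app W c)) : IsUnit c := by
  have h1 : Y.basicOpen (g.app W c) = g ⁻¹ᵁ W := Y.basicOpen_of_isUnit h
  have h2 : g ⁻¹ᵁ X.basicOpen c = g ⁻¹ᵁ W := by rw [Scheme.preimage_basicOpen, h1]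
  have h3 : X.basicOpen c = W := by
    refine le_antisymm (X.basicOpen_le c) ?_
    intro x hx
    obtain ⟨y, rfl⟩ := hg x
    have : y ∈ g ⁻¹ᵁ X.basicOpen c := by rw [h2]; exact hx
    exact this
  have h4 := RingedSpace.isUnit_res_basicOpen X.toRingedSpace c
  have h5 : ∀ (V : X.Opens) (hV : V = W) (hle : V ≤ W),
      IsUnit (X.presheaf.map (homOfLE hle).op c) → IsUnit c := by
    intro V hV hle hu
    subst hV
    have : (homOfLE hle).op = 𝟙 _ := Subsingleton.elim _ _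
    rw [this] at hu
    erw [X.presheaf.map_id] at hu
    exact hu
  exact h5 _ h3 (X.basicOpen_le c) h4

/-- if the pull-back of a global section along a surjective morphism generates, so does the section -/
theorem isGen_of_isGen_unitSec (g : Y ⟶ X) (hg : Function.Surjective g.base) (L : X.Modules)
    (hL : PicF.IsInvertible L) (s : Γ(L, ⊤))
    (h : IsGen ((Scheme.Modules.pullback g).obj L) (g ⁻¹ᵁ ⊤) (unitSec g L (le_refl (g ⁻¹ᵁ ⊤)) s)) :
    IsGen L ⊤ s := by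
  haveI : L.IsQuasicoherent := isQuasicoherent_of_isInvertible L hL
  apply isGen_of_cover
  intro x _
  obtain ⟨W, ε, hxW, hε⟩ := exists_gen L hL x
  refine ⟨W, le_top, hxW, ?_⟩
  have hc := coef_spec hε le_rfl (res L (le_top : W ≤ ⊤) s)
  rw [res_self] at hc
  rw [← hc]
  rw [isGen_smul_iff hε]
  apply isUnit_of_isUnit_app g hg W
  have h1 : IsGen ((Scheme.Modules.pullback g).obj L) (g ⁻¹ᵁ W)
      (unitSec g L (le_refl (g ⁻¹ᵁ W)) (res L (le_top : W ≤ ⊤) s)) := by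
    have := h.mono (g.preimage_mono (le_top : W ≤ ⊤))
    rwa [Groth.Agent.Helper13QcqsBC.unitSec_res g L (le_refl _) (le_refl (g ⁻¹ᵁ W)) le_top
      (g.preimage_mono (le_top : W ≤ ⊤)) s] at this
  rw [← hc, unitSec_smul, Scheme.Hom.appLE_eq_app] at h1
  exact (isGen_smul_iff (isGen_pullback g L W ε hε) _).1 h1

end Gen


section Key

open Groth.Agent.Helper13QcqsBC Groth.Agent.Helper13FlatMV Groth.Agent.Lib.R2H4FFPicAlg

variable {X S X' S' : Scheme.{u}} (f : X ⟶ S) (g : S' ⟶ S) (g' : X' ⟶ X) (f' : X' ⟶ S')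
  (h : IsPullback g' f' f g) [IsAffine S] [IsAffine S'] [Flat g] [CompactSpace X]
  [QuasiSeparatedSpace X] (L : X.Modules)

include h in
theorem key (hle : (⊤ : S'.Opens) ≤ g ⁻¹ᵁ ⊤) (hW : (⊤ : X.Opens) ≤ f ⁻¹ᵁ ⊤)
    (hff : (g.appLE ⊤ ⊤ hle).hom.FaithfullyFlat)
    (hsl : Finite (MaximalSpectrum Γ(X, ⊤)))
    (ε : (Scheme.Modules.pullback g').obj L ≅ Coh.structureModule X')
    (T : X'.Opens) (hT : T = ⊤) (hTW : T ≤ g' ⁻¹ᵁ ⊤) (hTU : T ≤ f' ⁻¹ᵁ ⊤)
    (hbij : letI : Algebra Γ(S, ⊤) Γ(S', ⊤) := (g.appLE ⊤ ⊤ hle).hom.toAlgebra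
      Function.Bijective (kap (R := Γ(S, ⊤)) (R' := Γ(S', ⊤)) (uW f g' f' L hW hTW hTU)
        (uW_smul f g g' f' h L hle hW hTW hTU))) :
    ∃ s : Γ(L, ⊤), IsGen ((Scheme.Modules.pullback g').obj L) (g' ⁻¹ᵁ ⊤)
      (unitSec g' L (le_refl (g' ⁻¹ᵁ ⊤)) s) := by
  subst hT
  letI aRR' : Algebra Γ(S, ⊤) Γ(S', ⊤) := (g.appLE ⊤ ⊤ hle).hom.toAlgebra
  letI aRG : Algebra Γ(S, ⊤) Γ(X, ⊤) := (f.appLE ⊤ ⊤ hW).hom.toAlgebra
  letI aR'G' : Algebra Γ(S', ⊤) Γ(X', ⊤) := (f'.appLE ⊤ ⊤ hTU).hom.toAlgebra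
  letI aGG' : Algebra Γ(X, ⊤) Γ(X', ⊤) := (g'.appLE ⊤ ⊤ hTW).hom.toAlgebra
  letI aRG' : Algebra Γ(S, ⊤) Γ(X', ⊤) :=
    ((g'.appLE ⊤ ⊤ hTW).hom.comp (f.appLE ⊤ ⊤ hW).hom).toAlgebra
  haveI t1 : IsScalarTower Γ(S, ⊤) Γ(X, ⊤) Γ(X', ⊤) := IsScalarTower.of_algebraMap_eq (fun r => rfl)
  have hcomm : f.appLE ⊤ ⊤ hW ≫ g'.appLE ⊤ ⊤ hTW = g.appLE ⊤ ⊤ hle ≫ f'.appLE ⊤ ⊤ hTU := by
    simp only [Scheme.Hom.appLE_comp_appLE, h.w]
  haveI t2 : IsScalarTower Γ(S, ⊤) Γ(S', ⊤) Γ(X', ⊤) := IsScalarTower.of_algebraMap_eq (fun r =>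
    congrArg (fun t : Γ(S, ⊤) ⟶ Γ(X', ⊤) => t.hom r) hcomm)
  haveI hpush : Algebra.IsPushout Γ(S, ⊤) Γ(S', ⊤) Γ(X, ⊤) Γ(X', ⊤) := by
    have hpo := Groth.Agent.Lib.Helper12.isPushout_appTop h
    rw [← Groth.Agent.Lib.Helper12.appLE_top_top f hW,
      ← Groth.Agent.Lib.Helper12.appLE_top_top g hle,
      ← Groth.Agent.Lib.Helper12.appLE_top_top g' hTW,
      ← Groth.Agent.Lib.Helper12.appLE_top_top f' hTU] at hpo
    exact CommRingCat.isPushout_iff_isPushout.mp hpo.flip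
  haveI : Module.FaithfullyFlat Γ(S, ⊤) Γ(S', ⊤) := (RingHom.faithfullyFlat_algebraMap_iff).1 hff
  letI mGP : Module Γ(X, ⊤) (SecR f L ⊤ ⊤ hW) := inferInstanceAs (Module Γ(X, ⊤) Γ(L, ⊤))
  haveI t3 : IsScalarTower Γ(S, ⊤) Γ(X, ⊤) (SecR f L ⊤ ⊤ hW) :=
    IsScalarTower.of_algebraMap_smul (fun r p => rfl)
  letI mG'P' : Module Γ(X', ⊤) (SecR f' ((Scheme.Modules.pullback g').obj L) ⊤ ⊤ hTU) :=
    inferInstanceAs (Module Γ(X', ⊤) Γ((Scheme.Modules.pullback g').obj L, ⊤))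
  haveI t4 : IsScalarTower Γ(S', ⊤) Γ(X', ⊤) (SecR f' ((Scheme.Modules.pullback g').obj L) ⊤ ⊤ hTU) :=
    IsScalarTower.of_algebraMap_smul (fun r p => rfl)
  -- the trivialisation as a linear equivalence
  have hisoε : IsIso (ε.hom.app ⊤) := Scheme.Modules.Hom.isIso_iff_isIso_app.1 inferInstance _
  have hbε : Function.Bijective (ε.hom.app ⊤) := ConcreteCategory.bijective_of_isIso _
  let eL : SecR f' ((Scheme.Modules.pullback g').obj L) ⊤ ⊤ hTU →ₗ[Γ(X', ⊤)] Γ(X', ⊤) :=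
    { toFun := fun y => ofS ⊤ (ε.hom.app ⊤ y)
      map_add' := fun y z => map_add (ε.hom.app ⊤).hom y z
      map_smul' := fun r y => by
        change ofS ⊤ (ε.hom.app ⊤ (r • (show Γ((Scheme.Modules.pullback g').obj L, ⊤) from y))) =
          r * ofS ⊤ (ε.hom.app ⊤ y)
        rw [Scheme.Modules.Hom.app_smul]
        rfl }
  let e : SecR f' ((Scheme.Modules.pullback g').obj L) ⊤ ⊤ hTU ≃ₗ[Γ(X', ⊤)] Γ(X', ⊤) :=
    LinearEquiv.ofBijective eL hbε
  obtain ⟨s, hs⟩ := exists_isUnit_of_pushout (R := Γ(S, ⊤)) (R' := Γ(S', ⊤)) (G := Γ(X, ⊤))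
    (G' := Γ(X', ⊤)) (uW f g' f' L hW hTW hTU)
    (fun x p => unitSec_smul g' L hTW x p)
    (uW_smul f g g' f' h L hle hW hTW hTU) hbij e
  refine ⟨s, ?_⟩
  -- `unitSec s = d • ε⁻¹(1)` with `d` a unit
  have hσ₀ : IsGen ((Scheme.Modules.pullback g').obj L) ⊤ (ε.inv.app ⊤ (toS ⊤ 1)) :=
    isGen_of_iso ε.symm (isGen_one ⊤)
  have hd : unitSec g' L hTW s = (ofS ⊤ (ε.hom.app ⊤ (unitSec g' L hTW s)) : Γ(X', ⊤)) •
      ε.inv.app ⊤ (toS ⊤ 1) := by
    rw [← Scheme.Modules.Hom.app_smul]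
    have h1 : (ofS ⊤ (ε.hom.app ⊤ (unitSec g' L hTW s)) : Γ(X', ⊤)) • toS ⊤ (1 : Γ(X', ⊤)) =
        ε.hom.app ⊤ (unitSec g' L hTW s) := by
      rw [smul_toS, mul_one, toS_ofS]
    rw [h1]
    have h2 := congrArg (fun φ => Scheme.Modules.Hom.app φ ⊤ (unitSec g' L hTW s)) ε.hom_inv_id
    exact h2.symm
  have hgen : IsGen ((Scheme.Modules.pullback g').obj L) ⊤ (unitSec g' L hTW s) := by
    rw [hd]
    exact (isGen_smul_iff hσ₀ _).2 hs
  exact hgen

end Key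


section Main

open Groth.Agent.Helper13QcqsBC Groth.Agent.Helper13FlatMV

variable (A B : Type u) [CommRing A] [CommRing B] [Algebra A B] [Module.FaithfullyFlat A B]
variable (X : Scheme.{u}) (f : X ⟶ Spec (CommRingCat.of A)) [CompactSpace X] [QuasiSeparatedSpace X]

/-- **S7671**: `Pic(X) → Pic(X_B)` is injective. -/
theorem main (hsl : Finite (MaximalSpectrum Γ(X, ⊤))) (L : X.Modules) (hL : PicF.IsInvertible L)
    (htriv : Nonempty ((Scheme.Modules.pullback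
        (pullback.fst f (Spec.map (CommRingCat.ofHom (algebraMap A B))))).obj L ≅
      Coh.structureModule (pullback f (Spec.map (CommRingCat.ofHom (algebraMap A B)))))) :
    Nonempty (L ≅ Coh.structureModule X) := by
  obtain ⟨ε⟩ := htriv
  have hffAB : (CommRingCat.ofHom (algebraMap A B)).hom.FaithfullyFlat :=
    (RingHom.faithfullyFlat_algebraMap_iff).2 inferInstance
  obtain ⟨hflat, hsurjg⟩ := (flat_and_surjective_SpecMap_iff _).2 hffAB
  have hfftop := (Flat.flat_and_surjective_iff_faithfullyFlat_of_isAffine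
    (f := Spec.map (CommRingCat.ofHom (algebraMap A B)))).1 ⟨hflat, hsurjg⟩
  have h : IsPullback (pullback.fst f (Spec.map (CommRingCat.ofHom (algebraMap A B))))
      (pullback.snd f (Spec.map (CommRingCat.ofHom (algebraMap A B)))) f
      (Spec.map (CommRingCat.ofHom (algebraMap A B))) := IsPullback.of_hasPullback _ _
  haveI : L.IsQuasicoherent := isQuasicoherent_of_isInvertible L hL
  have hle : (⊤ : (Spec (CommRingCat.of B)).Opens) ≤
      (Spec.map (CommRingCat.ofHom (algebraMap A B))) ⁻¹ᵁ ⊤ := le_of_eq rfl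
  have hW : (⊤ : X.Opens) ≤ f ⁻¹ᵁ ⊤ := le_of_eq rfl
  have hff : ((Spec.map (CommRingCat.ofHom (algebraMap A B))).appLE ⊤ ⊤ hle).hom.FaithfullyFlat := by
    rw [Groth.Agent.Lib.Helper12.appLE_top_top]
    exact hfftop
  have hqs : IsQuasiSeparated ((f ⁻¹ᵁ ⊤ : X.Opens) : Set X) := by
    have : ((f ⁻¹ᵁ ⊤ : X.Opens) : Set X) = Set.univ := rfl
    rw [this]
    exact isQuasiSeparated_univ
  have hK := KBij_of_qcqs f (Spec.map (CommRingCat.ofHom (algebraMap A B)))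
    (pullback.fst f (Spec.map (CommRingCat.ofHom (algebraMap A B))))
    (pullback.snd f (Spec.map (CommRingCat.ofHom (algebraMap A B)))) h L hle
    (isAffineOpen_top _) (isAffineOpen_top _) hff.flat hqs ⊤ isCompact_univ hW
  obtain ⟨s, hs⟩ := key f (Spec.map (CommRingCat.ofHom (algebraMap A B)))
    (pullback.fst f (Spec.map (CommRingCat.ofHom (algebraMap A B))))
    (pullback.snd f (Spec.map (CommRingCat.ofHom (algebraMap A B)))) h L hle hW hff hsl ε
    (Vp (pullback.fst f (Spec.map (CommRingCat.ofHom (algebraMap A B))))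
      (pullback.snd f (Spec.map (CommRingCat.ofHom (algebraMap A B)))) ⊤ ⊤)
    (by ext x; simp) inf_le_left inf_le_right hK
  haveI : Surjective (pullback.fst f (Spec.map (CommRingCat.ofHom (algebraMap A B)))) := inferInstance
  have hgen := isGen_of_isGen_unitSec
    (pullback.fst f (Spec.map (CommRingCat.ofHom (algebraMap A B))))
    (Scheme.Hom.surjective _) L hL s hs
  haveI := isIso_secHom_of_isGen L s hgen
  exact ⟨(asIso (secHom L s)).symm⟩

end Main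

end Groth.Agent.Lib.R2H4FFPic
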