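import Mathlib
import Groth.Prelude
import Groth.Agent.Lib.R2H4FFPic
import Groth.Agent.Lib.Helper23SecTw10
import Groth.Agent.Lib.Helper13AffBC
import Groth.Agent.Lib.Helper20ParaF6

set_option autoImplicit false
set_option linter.style.haveILetI false
set_option linter.unusedSectionVars false
universe u
open CategoryTheory CategoryTheory.Limits AlgebraicGeometry TopologicalSpace Opposite
open AlgebraicGeometry.Scheme.Modules

noncomputable section

namespace Groth.Agent.Lib.R2H4FibTriv

open Groth.Agent.Lib.Helper23.SecTw Groth.Agent.Lib.Helper23.GenLocus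
  Groth.Agent.Lib.Helper23.Extend Groth.Agent.Lib.Helper6 Groth.Agent.Helper13PullbackUnit
  Groth.Agent.Lib.Helper27PullGen Groth.Agent.Lib.Helper23.PB Groth.Agent.Lib.Helper23.GenNear

section IsoCrit

variable {X : Scheme.{u}}

/-- **a morphism from an invertible module which locally hits a generator of the target is an isomorphism** -/
theorem isIso_of_locally_gen {A B : X.Modules} (ψ : A ⟶ B) (hA : PicF.IsInvertible A)
    (h : ∀ x : X, ∃ (V : X.Opens) (_ : x ∈ V) (a : Γ(A, V)), IsGen B V (ψ.app V a)) : IsIso ψ := by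
  have key : ∀ x : X, ∃ (V : X.Opens) (_ : x ∈ V) (a : Γ(A, V)),
      IsGen A V a ∧ IsGen B V (ψ.app V a) := by
    intro x
    obtain ⟨V, hxV, a, hb⟩ := h x
    obtain ⟨V₀, a₀, hxV₀, ha₀⟩ := exists_gen A hA x
    let V' : X.Opens := V ⊓ V₀
    have hV'V : V' ≤ V := inf_le_left
    have hV'V₀ : V' ≤ V₀ := inf_le_right
    have ha₀' : IsGen A V' (res A hV'V₀ a₀) := ha₀.mono hV'V₀
    have hb' : IsGen B V' (res B hV'V (ψ.app V a)) := hb.mono hV'V
    have hr := coef_spec ha₀' le_rfl (res A hV'V a)
    have hc := coef_spec hb' le_rfl (ψ.app V' (res A hV'V₀ a₀))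
    rw [res_self] at hr hc
    set r := coef ha₀' le_rfl (res A hV'V a)
    set c := coef hb' le_rfl (ψ.app V' (res A hV'V₀ a₀))
    have hnat : ψ.app V' (res A hV'V a) = res B hV'V (ψ.app V a) :=
      app_map ψ (homOfLE hV'V) a
    have h1 : (r * c) • res B hV'V (ψ.app V a) = (1 : Γ(X, V')) • res B hV'V (ψ.app V a) := by
      rw [one_smul, mul_smul, hc, ← Scheme.Modules.Hom.app_smul, hr, hnat]
    have h2 : r * c = 1 := by
      apply (hb' V' le_rfl).1
      change (r * c) • res B le_rfl (res B hV'V (ψ.app V a)) =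
        (1 : Γ(X, V')) • res B le_rfl (res B hV'V (ψ.app V a))
      rw [res_self]
      exact h1
    have hru : IsUnit r := IsUnit.of_mul_eq_one c h2
    refine ⟨V', ⟨hxV, hxV₀⟩, res A hV'V a, ?_, ?_⟩
    · rw [← hr]
      exact (isGen_smul_iff ha₀' r).2 hru
    · rw [hnat]
      exact hb'
  let ι : Type u := {W : X.Opens // ∃ (V : X.Opens) (a : Γ(A, V)) (_ : W ≤ V),
    IsGen A V a ∧ IsGen B V (ψ.app V a)}
  refine Groth.Agent.Helper13AffBC.isIso_of_bijective_on_basis ψ (fun W : ι => W.1) ?_ ?_
  · rw [Opens.isBasis_iff_nbhd]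
    intro U x hxU
    obtain ⟨V, hxV, a, hgA, hgB⟩ := key x
    exact ⟨V ⊓ U, ⟨⟨V ⊓ U, V, a, inf_le_left, hgA, hgB⟩, rfl⟩, ⟨hxV, hxU⟩, inf_le_right⟩
  · rintro ⟨W, V, a, hWV, hgA, hgB⟩
    have h1 := hgA W hWV
    have h2 := hgB W hWV
    have h3 : (fun r : Γ(X, W) => r • res B hWV (ψ.app V a)) =
        (ψ.app W) ∘ (fun r : Γ(X, W) => r • res A hWV a) := by
      funext r
      change _ = ψ.app W (r • res A hWV a)
      rw [Scheme.Modules.Hom.app_smul]
      congr 1
      exact (app_map ψ (homOfLE hWV) a).symm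
    rw [h3] at h2
    exact (Function.Bijective.of_comp_iff _ h1).1 h2

end IsoCrit

section Push

variable {X Y : Scheme.{u}} (f : X ⟶ Y)

/-- a generator of `L` over `f⁻¹ U` is a generator of `f_* L` over `U` when `O_Y → f_* O_X` is an isomorphism -/
theorem isGen_pushforward (hf : ∀ V : Y.Opens, IsIso (f.app V)) (L : X.Modules) (U : Y.Opens)
    (t : Γ(L, f ⁻¹ᵁ U)) (ht : IsGen L (f ⁻¹ᵁ U) t) :
    IsGen ((pushforward f).obj L) U (show Γ((pushforward f).obj L, U) from t) := by
  intro W' h
  have h1 := ht (f ⁻¹ᵁ W') (f.preimage_mono h)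
  haveI := hf W'
  have h2 : Function.Bijective (f.app W').hom := ConcreteCategory.bijective_of_isIso (f.app W')
  have h3 : (fun r : Γ(Y, W') => r • res ((pushforward f).obj L) h
      (show Γ((pushforward f).obj L, U) from t)) =
      (fun c : Γ(X, f ⁻¹ᵁ W') => c • res L (f.preimage_mono h) t) ∘ (f.app W').hom := by
    funext r
    rw [pushforward_smul]
    rfl
  rw [h3]
  exact h1.comp h2

/-- the triangle identity on sections -/
theorem counit_app_unit (L : X.Modules) (U : Y.Opens) (t : Γ((pushforward f).obj L, U)) :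
    ((pullbackPushforwardAdjunction f).counit.app L).app (f ⁻¹ᵁ U)
      (((pullbackPushforwardAdjunction f).unit.app ((pushforward f).obj L)).app U t) = t := by
  have h := (pullbackPushforwardAdjunction f).right_triangle_components L
  have h2 := congrArg (fun φ : (pushforward f).obj L ⟶ (pushforward f).obj L =>
    (Scheme.Modules.Hom.app φ U) t) h
  exact h2

end Push

section PullTriv

/-- an invertible module on a scheme with a single point is trivial -/
theorem nonempty_iso_of_subsingleton {Z : Scheme.{u}} [Subsingleton Z] [Nonempty Z] (M : Z.Modules)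
    (hM : PicF.IsInvertible M) : Nonempty (M ≅ Coh.structureModule Z) := by
  obtain ⟨z⟩ := (inferInstance : Nonempty Z)
  obtain ⟨W, a, hzW, ha⟩ := exists_gen M hM z
  have hW : W = ⊤ := by
    ext w
    simp only [Opens.coe_top, Set.mem_univ, iff_true]
    rw [Subsingleton.elim w z]
    exact hzW
  subst hW
  exact Groth.Agent.Lib.Helper20.ParaFLib.nonempty_iso_of_triv_top M ⟨a, ha⟩

variable {X Y : Scheme.{u}} (f : X ⟶ Y)

/-- the pullback of an invertible module on the base is trivial on every fibre -/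
theorem fibre_trivial_of_pullback (M : Y.Modules) (hM : PicF.IsInvertible M) (y : Y) :
    Nonempty (CohIII.fiberMod f ((Scheme.Modules.pullback f).obj M) y ≅ Coh.structureModule (f.fiber y)) := by
  let g := Y.fromSpecResidueField y
  let p := f.fiberToSpecResidueField y
  have hM' := isInvertible_pullback g M hM
  haveI : Subsingleton ↥(Spec (Y.residueField y)) :=
    inferInstanceAs (Subsingleton (PrimeSpectrum (Y.residueField y)))
  haveI : Nonempty ↥(Spec (Y.residueField y)) :=
    inferInstanceAs (Nonempty (PrimeSpectrum (Y.residueField y)))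
  obtain ⟨e⟩ := nonempty_iso_of_subsingleton ((Scheme.Modules.pullback g).obj M) hM'
  have hw : f.fiberι y ≫ f = p ≫ g := Limits.pullback.condition
  exact ⟨(Scheme.Modules.pullbackComp (f.fiberι y) f).app M ≪≫ (Scheme.Modules.pullbackCongr hw).app M ≪≫
    ((Scheme.Modules.pullbackComp p g).app M).symm ≪≫ (Scheme.Modules.pullback p).mapIso e ≪≫ pullbackUnitIso p⟩

end PullTriv

end Groth.Agent.Lib.R2H4FibTriv
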