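import Mathlib
import Groth.Agent.Lib.Helper23SecTw6
import Groth.Agent.Lib.Helper23SecTw4
import Groth.Agent.Lib.Helper2FlatOver2
import Groth.Agent.Lib.Helper23TensorQCoh
set_option backward.isDefEq.respectTransparency.types false

/-!
# Flatness over the base is stable under tensoring with an invertible module (helper2, round 2)

* `isFlatOver_tensorMod_of_isInvertible` : `E` quasi-coherent and flat over `S`, `L` invertible:
  `E ⊗ L` is flat over `S`.
-/

set_option autoImplicit false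
set_option linter.unusedSectionVars false
set_option linter.style.haveILetI false
universe u
open CategoryTheory CategoryTheory.Limits AlgebraicGeometry TopologicalSpace Opposite

namespace Groth.Agent.Lib.R2H2.FlatTwist

open Groth.Agent.Lib.Helper23.SecTw Groth.Agent.Lib.Helper23.GenLocus
  Groth.Agent.Lib.Helper23.QCohLocal Groth.Agent.Lib.Helper6 Groth.Agent.Lib.Helper2.FlatOver

variable {X S : Scheme.{u}}

theorem isFlatOver_tensorMod_of_isInvertible (f : X ⟶ S) (E L : X.Modules)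
    [E.IsQuasicoherent] (hL : PicF.IsInvertible L) (hE : FlatMod.IsFlatOver f E) :
    FlatMod.IsFlatOver f (CohB1.tensorMod E L) := by
  haveI : L.IsQuasicoherent := isQuasicoherent_of_isInvertible L hL
  haveI : (CohB1.tensorMod E L).IsQuasicoherent :=
    Groth.Agent.Lib.Helper23.TensorQCoh.isQuasicoherent_tensorMod E L
  intro x
  obtain ⟨W, e, hxW, hgen⟩ := exists_gen L hL x
  obtain ⟨V, hV, hxV⟩ : ∃ V : S.Opens, IsAffineOpen V ∧ f.base x ∈ V := by
    obtain ⟨W', hW'⟩ := (S.isBasis_affineOpens).exists_subset_of_mem_open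
      (Set.mem_univ (f.base x)) isOpen_univ
    obtain ⟨⟨V, hV, rfl⟩, hxV, -⟩ := hW'
    exact ⟨V, hV, hxV⟩
  obtain ⟨U, hU, hxU, hUle⟩ : ∃ U : X.Opens, IsAffineOpen U ∧ x ∈ U ∧ U ≤ W ⊓ f ⁻¹ᵁ V := by
    obtain ⟨W', hW'⟩ := (X.isBasis_affineOpens).exists_subset_of_mem_open
      (show x ∈ ((W ⊓ f ⁻¹ᵁ V : X.Opens) : Set X) from ⟨hxW, hxV⟩) (W ⊓ f ⁻¹ᵁ V).isOpen
    obtain ⟨⟨U, hU, rfl⟩, hxU, hUV⟩ := hW'
    exact ⟨U, hU, hxU, hUV⟩
  have hUW : U ≤ W := hUle.trans inf_le_left
  have hUV : U ≤ f ⁻¹ᵁ V := hUle.trans inf_le_right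
  have H := flat_sections_of_isFlatOverAt f E hU hV hUV (fun y _ => hE y)
  refine isFlatOverAt_of_flat_sections f (CohB1.tensorMod E L) hU hV hUV ?_ x hxU
  letI m1 : Module Γ(S, V) Γ(E, U) := Module.compHom Γ(E, U) (f.appLE V U hUV).hom
  letI m2 : Module Γ(S, V) Γ(CohB1.tensorMod E L, U) :=
    Module.compHom Γ(CohB1.tensorMod E L, U) (f.appLE V U hUV).hom
  have hbij := bijective_tm_of_isGen E L W e hgen U hUW
  let φ : Γ(E, U) →ₗ[Γ(S, V)] Γ(CohB1.tensorMod E L, U) :=
    { toFun := fun t => tm E L U t (res L hUW e)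
      map_add' := fun t t' => tm_add_left E L U t t' _
      map_smul' := fun a t => by
        change tm E L U ((f.appLE V U hUV).hom a • t) (res L hUW e) =
          (f.appLE V U hUV).hom a • tm E L U t (res L hUW e)
        exact tm_smul_left E L U _ t _ }
  let le : Γ(E, U) ≃ₗ[Γ(S, V)] Γ(CohB1.tensorMod E L, U) := LinearEquiv.ofBijective φ hbij
  haveI : Module.Flat Γ(S, V) Γ(E, U) := H
  exact Module.Flat.of_linearEquiv le.symm

end Groth.Agent.Lib.R2H2.FlatTwist
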