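import Mathlib
import Groth.Prelude
import Groth.Agent.Lib.R2H4FFPic
import Groth.Agent.Lib.R2H4InvExists

set_option autoImplicit false
set_option linter.style.haveILetI false
set_option linter.unusedSectionVars false
universe u
open CategoryTheory CategoryTheory.Limits AlgebraicGeometry TopologicalSpace Opposite

noncomputable section

namespace Groth.Agent.Lib.R2H4NearFibre

open Groth.Agent.Lib.Helper23.SecTw Groth.Agent.Lib.Helper23.GenLocus
  Groth.Agent.Lib.Helper23.Extend Groth.Agent.Lib.Helper6 Groth.Agent.Helper13PullbackUnit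
  Groth.Agent.Lib.Helper27PullGen Groth.Agent.Lib.Helper23.PB Groth.Agent.Lib.Helper23.GenNear

section Gen

variable {X Y : Scheme.{u}}

/-- if the pull-back of a section of an invertible module generates near `y`, the section generates near the image
of `y` -/
theorem exists_isGen_nhd_of_isGen_unitSec (g : Y ⟶ X) (L : X.Modules) (hL : PicF.IsInvertible L)
    (Ω : X.Opens) (s : Γ(L, Ω)) (T : Y.Opens) (hT : T ≤ g ⁻¹ᵁ Ω)
    (h : IsGen ((Scheme.Modules.pullback g).obj L) T (unitSec g L hT s)) (y : Y) (hy : y ∈ T) :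
    ∃ (V : X.Opens) (hV : V ≤ Ω), g y ∈ V ∧ IsGen L V (res L hV s) := by
  haveI : L.IsQuasicoherent := isQuasicoherent_of_isInvertible L hL
  obtain ⟨W₀, ε₀, hxW₀, hε₀⟩ := exists_gen L hL (g y)
  -- shrink to `W ≤ Ω`
  let W : X.Opens := W₀ ⊓ Ω
  have hWW₀ : W ≤ W₀ := inf_le_left
  have hWΩ : W ≤ Ω := inf_le_right
  have hxW : g y ∈ W := ⟨hxW₀, hT hy⟩
  have hε : IsGen L W (res L hWW₀ ε₀) := hε₀.mono hWW₀
  have hc := coef_spec hε le_rfl (res L hWΩ s)
  rw [res_self] at hc
  set c := coef hε le_rfl (res L hWΩ s) with hcdef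
  -- the pull-back of `c` is a unit near `y`
  let T' : Y.Opens := T ⊓ g ⁻¹ᵁ W
  have hT'W : T' ≤ g ⁻¹ᵁ W := inf_le_right
  have hT'T : T' ≤ T := inf_le_left
  have hyT' : y ∈ T' := ⟨hy, hxW⟩
  have h1 : IsGen ((Scheme.Modules.pullback g).obj L) T' (unitSec g L hT'W (res L hWΩ s)) := by
    have := h.mono hT'T
    rwa [Groth.Agent.Helper13QcqsBC.unitSec_res g L hT hT'W hWΩ hT'T s] at this
  have h2 : IsGen ((Scheme.Modules.pullback g).obj L) T' (unitSec g L hT'W (res L hWW₀ ε₀)) := by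
    have h3 := (isGen_pullback g L W (res L hWW₀ ε₀) hε).mono hT'W
    rwa [Groth.Agent.Helper13QcqsBC.unitSec_res g L (le_refl _) hT'W le_rfl hT'W, res_self] at h3
  rw [← hc, unitSec_smul] at h1
  have h4 : IsUnit (g.appLE W T' hT'W c) := (isGen_smul_iff h2 _).1 h1
  -- hence `c` does not vanish at `g y`
  have h5 : y ∈ Y.basicOpen (g.appLE W T' hT'W c) := by
    rw [Y.basicOpen_of_isUnit h4]
    exact hyT'
  have h6 : g y ∈ X.basicOpen c := by
    have h7 : Y.basicOpen (g.appLE W T' hT'W c) = T' ⊓ g ⁻¹ᵁ X.basicOpen c := by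
      rw [Scheme.Hom.appLE, CommRingCat.comp_apply]
      erw [Scheme.basicOpen_res]
      rw [Scheme.preimage_basicOpen]
    rw [h7] at h5
    exact h5.2
  have hVW : X.basicOpen c ≤ W := X.basicOpen_le c
  refine ⟨X.basicOpen c, hVW.trans hWΩ, h6, ?_⟩
  have h8 : res L (hVW.trans hWΩ) s = resf hVW c • res L hVW (res L hWW₀ ε₀) := by
    rw [← res_smul, hc, res_res]
  rw [h8]
  exact (isGen_smul_iff (hε.mono hVW) _).2 (RingedSpace.isUnit_res_basicOpen X.toRingedSpace c)

end Gen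

end Groth.Agent.Lib.R2H4NearFibre
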