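import Mathlib
import Groth.Prelude
import Groth.Agent.Lib.Helper12AffineDescent

set_option autoImplicit false
universe u
open CategoryTheory CategoryTheory.Limits AlgebraicGeometry TopologicalSpace Opposite

noncomputable section

namespace Groth.Agent.Lib.R2H4NearFibre

section Eval

variable {S : Scheme.{u}}

theorem appLE_fromSpecResidueField_ΓSpecIso (s : S) (U : S.Opens) (hs : s ∈ U)
    (e : (⊤ : (Spec (S.residueField s)).Opens) ≤ (S.fromSpecResidueField s) ⁻¹ᵁ U) :
    (S.fromSpecResidueField s).appLE U ⊤ e ≫ (Scheme.ΓSpecIso (S.residueField s)).hom =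
      S.evaluation U s hs := by
  have key : ∀ (f : Spec (S.residueField s) ⟶ S)
      (hf : f = Spec.map (S.residue s) ≫ S.fromSpecStalk s)
      (e : (⊤ : (Spec (S.residueField s)).Opens) ≤ f ⁻¹ᵁ U),
      f.appLE U ⊤ e ≫ (Scheme.ΓSpecIso (S.residueField s)).hom = S.evaluation U s hs := by
    intro f hf e
    subst hf
    rw [Scheme.Hom.comp_appLE, Scheme.fromSpecStalk_app hs]
    simp only [Category.assoc]
    rw [Scheme.Hom.map_appLE_assoc, Groth.Agent.Lib.Helper12.appLE_top_top,
      Scheme.ΓSpecIso_naturality, Iso.inv_hom_id_assoc]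
    rfl
  exact key _ rfl e

/-- every element of the residue field at `s` is a fraction of functions on an affine neighbourhood -/
theorem exists_frac (s : S) (U : S.Opens) (hU : IsAffineOpen U) (hs : s ∈ U)
    (e : (⊤ : (Spec (S.residueField s)).Opens) ≤ (S.fromSpecResidueField s) ⁻¹ᵁ U)
    (c : Γ(Spec (S.residueField s), ⊤)) :
    ∃ a b : Γ(S, U), IsUnit (((S.fromSpecResidueField s).appLE U ⊤ e).hom b) ∧
      c * ((S.fromSpecResidueField s).appLE U ⊤ e).hom b =
        ((S.fromSpecResidueField s).appLE U ⊤ e).hom a := by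
  have hev := appLE_fromSpecResidueField_ΓSpecIso s U hs e
  set ev := (S.fromSpecResidueField s).appLE U ⊤ e with hevdef
  let γ := (Scheme.ΓSpecIso (S.residueField s))
  have hγ : ∀ r : Γ(S, U), γ.hom.hom (ev.hom r) = (S.evaluation U s hs).hom r := fun r =>
    congrArg (fun φ : Γ(S, U) ⟶ S.residueField s => φ.hom r) hev
  -- the element of the residue field
  obtain ⟨z, hz⟩ := S.residue_surjective s (γ.hom.hom c)
  haveI := hU.isLocalization_stalk ⟨s, hs⟩
  letI : Algebra Γ(S, U) (S.presheaf.stalk s) := (S.presheaf.germ U s hs).hom.toAlgebra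
  obtain ⟨⟨a, b⟩, hab⟩ := IsLocalization.surj (hU.primeIdealOf ⟨s, hs⟩).asIdeal.primeCompl z
  have hab' : z * (S.presheaf.germ U s hs).hom b.1 = (S.presheaf.germ U s hs).hom a := hab
  have hbu : IsUnit ((S.presheaf.germ U s hs).hom b.1) :=
    IsLocalization.map_units (S.presheaf.stalk s) b
  refine ⟨a, b.1, ?_, ?_⟩
  · have h1 : IsUnit ((S.evaluation U s hs).hom b.1) := by
      have : (S.evaluation U s hs).hom b.1 = (S.residue s).hom ((S.presheaf.germ U s hs).hom b.1) := rfl
      rw [this]
      exact hbu.map _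
    rw [← hγ] at h1
    have h2 := h1.map γ.inv.hom
    have h3 : γ.inv.hom (γ.hom.hom (ev.hom b.1)) = ev.hom b.1 :=
      congrArg (fun φ : Γ(Spec (S.residueField s), ⊤) ⟶ Γ(Spec (S.residueField s), ⊤) => φ.hom (ev.hom b.1))
        γ.hom_inv_id
    rwa [h3] at h2
  · have hinj : Function.Injective γ.hom.hom := by
      intro x y hxy
      have hx : γ.inv.hom (γ.hom.hom x) = x :=
        congrArg (fun φ : Γ(Spec (S.residueField s), ⊤) ⟶ Γ(Spec (S.residueField s), ⊤) => φ.hom x)
          γ.hom_inv_id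
      have hy : γ.inv.hom (γ.hom.hom y) = y :=
        congrArg (fun φ : Γ(Spec (S.residueField s), ⊤) ⟶ Γ(Spec (S.residueField s), ⊤) => φ.hom y)
          γ.hom_inv_id
      rw [← hx, ← hy, hxy]
    apply hinj
    rw [map_mul, hγ, hγ, ← hz]
    have e1 : (S.evaluation U s hs).hom b.1 = (S.residue s).hom ((S.presheaf.germ U s hs).hom b.1) := rfl
    have e2 : (S.evaluation U s hs).hom a = (S.residue s).hom ((S.presheaf.germ U s hs).hom a) := rfl
    rw [e1, e2, ← hab', map_mul]

end Eval

end Groth.Agent.Lib.R2H4NearFibre
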