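import Mathlib
import Groth.Prelude
import Groth.Agent.Lib.R2H4NearFibreA
import Groth.Agent.Lib.R2H4NearFibreB
import Groth.Agent.Lib.R2H2Bc0Bij

set_option autoImplicit false
set_option linter.style.haveILetI false
set_option linter.unusedSectionVars false
universe u
open CategoryTheory CategoryTheory.Limits AlgebraicGeometry TopologicalSpace Opposite
open AlgebraicGeometry.Scheme.Modules

noncomputable section

namespace Groth.Agent.Lib.R2H4NearFibre

open Groth.Agent.Lib.Helper23.SecTw Groth.Agent.Lib.Helper23.GenLocus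
  Groth.Agent.Lib.Helper23.Extend Groth.Agent.Lib.Helper6 Groth.Agent.Helper13PullbackUnit
  Groth.Agent.Lib.Helper27PullGen Groth.Agent.Lib.Helper23.PB Groth.Agent.Lib.Helper23.GenNear
  Groth.Agent.Lib.R2H2.BcSect Groth.Agent.Lib.R2H2.Bc0 Groth.Agent.Lib.R2H2.Bc0Bij
  Groth.Agent.Lib.R2H2.BcIso

section Lin

variable {S S' : Scheme.{u}} (g : S' ⟶ S) {N : S.Modules} {N' : S'.Modules}
  (φ : N ⟶ (pushforward g).obj N')

theorem φres_smul {W : S.Opens} {W' : S'.Opens} (hle : W' ≤ g ⁻¹ᵁ W) (b : Γ(S, W)) (t : Γ(N, W)) :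
    φres g φ hle (b • t) = (g.appLE W W' hle).hom b • φres g φ hle t := by
  rw [φres_apply, φres_apply, Scheme.Modules.Hom.app_smul]
  exact res_smul N' hle (g.app W b) (φ.app W t)

end Lin

section Lift

variable {X S : Scheme.{u}} (f : X ⟶ S) [IsProper f] [LocallyOfFinitePresentation f]
  (N : X.Modules) [N.IsQuasicoherent]

/-- **lifting a generator of the restriction to a fibre over a point of a good open (one over which the formation
of `f_* N` commutes with base change)** -/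
theorem exists_section_isGen_fibre_of_good (s : S) (U : S.Opens) (hsU : s ∈ U)
    (hgood : Good f N 0 U)
    (ε : Γ(CohIII.fiberMod f N s, (f.fiberToSpecResidueField s) ⁻¹ᵁ ⊤))
    (hε : IsGen (CohIII.fiberMod f N s) ((f.fiberToSpecResidueField s) ⁻¹ᵁ ⊤) ε) :
    ∃ (hle : (f.fiberToSpecResidueField s) ⁻¹ᵁ ⊤ ≤ (f.fiberι s) ⁻¹ᵁ (f ⁻¹ᵁ U))
      (t : Γ(N, f ⁻¹ᵁ U)),
      IsGen (CohIII.fiberMod f N s) ((f.fiberToSpecResidueField s) ⁻¹ᵁ ⊤)
        (unitSec (f.fiberι s) N hle t) := by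
  have hU : IsAffineOpen U := hgood.1
  have hpb : IsPullback (f.fiberι s) (f.fiberToSpecResidueField s) f (S.fromSpecResidueField s) :=
    IsPullback.of_hasPullback f (S.fromSpecResidueField s)
  have hz : ∀ z : Spec (S.residueField s), S.fromSpecResidueField s z ∈ U := fun z => by
    rw [Scheme.fromSpecResidueField_apply]; exact hsU
  haveI hiso : IsIso (CohBC.bc0 f (S.fromSpecResidueField s) (f.fiberToSpecResidueField s)
      (f.fiberι s) hpb.w N) := isIso_bc0_of_good hpb N (fun z => ⟨U, hz z, hgood⟩)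
  have hle : (⊤ : (Spec (S.residueField s)).Opens) ≤ (S.fromSpecResidueField s) ⁻¹ᵁ U :=
    fun z _ => hz z
  have hsurj : Function.Surjective ((CohBC.bc0 f (S.fromSpecResidueField s)
      (f.fiberToSpecResidueField s) (f.fiberι s) hpb.w N).app ⊤) := by
    have h2 := Scheme.Modules.Hom.isIso_iff_isIso_app.1 hiso ⊤
    rw [ConcreteCategory.isIso_iff_bijective] at h2
    exact h2.2
  haveI : ((pushforward f).obj N).IsQuasicoherent :=
    Groth.Agent.Lib.Helper23.QCohLocal.isQuasicoherent_pushforward f N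
  have hspan := (surjective_tr_app_iff (S.fromSpecResidueField s)
    (CohBC.bc0Adj f (S.fromSpecResidueField s) (f.fiberToSpecResidueField s) (f.fiberι s) hpb.w N)
    hU (isAffineOpen_top _) hle).1 hsurj
  set φ := CohBC.bc0Adj f (S.fromSpecResidueField s) (f.fiberToSpecResidueField s) (f.fiberι s)
    hpb.w N with hφ
  set ev := ((S.fromSpecResidueField s).appLE U ⊤ hle).hom with hev
  -- the fraction property of the span
  have hP : ∀ x ∈ Submodule.span Γ(Spec (S.residueField s), ⊤)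
      (Set.range (φres (S.fromSpecResidueField s) φ hle)),
      ∃ (b : Γ(S, U)) (t : Γ((pushforward f).obj N, U)), IsUnit (ev b) ∧
        ev b • x = φres (S.fromSpecResidueField s) φ hle t := by
    intro x hx
    induction hx using Submodule.span_induction with
    | mem x hx =>
      obtain ⟨t, rfl⟩ := hx
      exact ⟨1, t, by rw [map_one]; exact isUnit_one, by rw [map_one, one_smul]⟩
    | zero => exact ⟨1, 0, by rw [map_one]; exact isUnit_one, by rw [smul_zero, map_zero]⟩
    | add x y _ _ hx hy =>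
      obtain ⟨b₁, t₁, hb₁, ht₁⟩ := hx
      obtain ⟨b₂, t₂, hb₂, ht₂⟩ := hy
      refine ⟨b₁ * b₂, b₂ • t₁ + b₁ • t₂, by rw [map_mul]; exact hb₁.mul hb₂, ?_⟩
      rw [map_add, φres_smul, φres_smul, ← ht₁, ← ht₂, map_mul, smul_add, smul_smul, smul_smul,
        mul_comm (ev b₂) (ev b₁)]
    | smul c x _ hx =>
      obtain ⟨b, t, hb, ht⟩ := hx
      obtain ⟨a, b', hb', hab⟩ := exists_frac s U hU hsU hle c
      refine ⟨b' * b, a • t, by rw [map_mul]; exact hb'.mul hb, ?_⟩
      rw [φres_smul, ← ht, map_mul, smul_smul, smul_smul, ← hab]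
      congr 1
      ring
  obtain ⟨b, t, hb, hbt⟩ := hP (show Γ((pushforward (f.fiberToSpecResidueField s)).obj
      (CohIII.fiberMod f N s), ⊤) from ε) (by rw [hspan]; exact Submodule.mem_top)
  have hle'' : (f.fiberToSpecResidueField s) ⁻¹ᵁ ⊤ ≤ (f.fiberι s) ⁻¹ᵁ (f ⁻¹ᵁ U) :=
    Groth.Agent.Lib.R2H2.BcGen.preimage_le' (w := hpb.w) hle
  refine ⟨hle'', t, ?_⟩
  have h3 : unitSec (f.fiberι s) N hle'' t =
      ((f.fiberToSpecResidueField s).app ⊤ (ev b)) • ε := by
    have h4 := φres_bc0Adj f (S.fromSpecResidueField s) (f.fiberToSpecResidueField s) (f.fiberι s)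
      hpb.w N hle t
    rw [← h4]
    exact hbt.symm
  rw [h3]
  exact (isGen_smul_iff hε _).2 (hb.map _)

/-- **lifting a generator of the restriction to a fibre with vanishing `H¹`** -/
theorem exists_section_isGen_fibre (hfp : CohB1.IsFP N) (hfl : FlatMod.IsFlatOver f N) (s : S)
    (h1 : Subsingleton (CohIII.fiberH f N s 1))
    (ε : Γ(CohIII.fiberMod f N s, (f.fiberToSpecResidueField s) ⁻¹ᵁ ⊤))
    (hε : IsGen (CohIII.fiberMod f N s) ((f.fiberToSpecResidueField s) ⁻¹ᵁ ⊤) ε) :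
    ∃ (U : S.Opens) (_ : s ∈ U)
      (hle : (f.fiberToSpecResidueField s) ⁻¹ᵁ ⊤ ≤ (f.fiberι s) ⁻¹ᵁ (f ⁻¹ᵁ U))
      (t : Γ(N, f ⁻¹ᵁ U)),
      IsGen (CohIII.fiberMod f N s) ((f.fiberToSpecResidueField s) ⁻¹ᵁ ⊤)
        (unitSec (f.fiberι s) N hle t) := by
  obtain ⟨U, hsU, -, hgood⟩ := exists_nhd_push_of_fiberH_one f N hfp hfl s h1
  obtain ⟨hle, t, ht⟩ := exists_section_isGen_fibre_of_good f N s U hsU hgood ε hε
  exact ⟨U, hsU, hle, t, ht⟩

end Lift

end Groth.Agent.Lib.R2H4NearFibre
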