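import Mathlib
import Groth.Prelude
import Groth.Agent.Lib.R2H4NearFibreC
import Groth.Agent.Lib.Helper18PBUnit2
import Groth.Agent.Lib.Helper2LocFree
import Groth.Agent.Lib.Helper26FlatLimC
import Groth.Agent.Lib.R2H2FlatTwist
import Groth.Agent.Lib.R2H2PnSerre
import Groth.Agent.Lib.R2H3SchemDense
import Groth.Agent.Lib.Helper23RestrTensor
import Groth.Agent.Lib.R2H4TensorPows

set_option autoImplicit false
set_option linter.style.haveILetI false
set_option linter.unusedSectionVars false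
universe u
open CategoryTheory CategoryTheory.Limits AlgebraicGeometry TopologicalSpace Opposite
open AlgebraicGeometry.Scheme.Modules

noncomputable section

namespace Groth.Agent.Lib.R2H4NearFibre

open Groth.Agent.Lib.Helper23.SecTw Groth.Agent.Lib.Helper23.GenLocus
  Groth.Agent.Lib.Helper23.Extend Groth.Agent.Lib.Helper6 Groth.Agent.Helper13PullbackUnit
  Groth.Agent.Lib.Helper27PullGen Groth.Agent.Lib.Helper23.PB Groth.Agent.Lib.Helper23.GenNear
  Groth.Agent.Lib.R2H4TensorPows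

section Main

variable {X S : Scheme.{u}} (f : X ⟶ S) [IsProper f] [LocallyOfFinitePresentation f]

/-- **an invertible module trivial on the fibre over a point `s` of a good open `U` is generated by a single section
over the preimage of a neighbourhood of `s`** -/
theorem exists_nhd_isGen_of_good (N : X.Modules) (hN : PicF.IsInvertible N) (s : S) (U : S.Opens)
    (hsU : s ∈ U) (hgood : Groth.Agent.Lib.R2H2.BcIso.Good f N 0 U)
    (htriv : Nonempty (CohIII.fiberMod f N s ≅ Coh.structureModule (f.fiber s))) :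
    ∃ (U' : S.Opens) (_ : U' ≤ U) (_ : s ∈ U') (t : Γ(N, f ⁻¹ᵁ U')), IsGen N (f ⁻¹ᵁ U') t := by
  haveI : N.IsQuasicoherent := isQuasicoherent_of_isInvertible N hN
  obtain ⟨Φ⟩ := htriv
  have hε := isGen_of_iso Φ.symm (isGen_one ((f.fiberToSpecResidueField s) ⁻¹ᵁ ⊤))
  obtain ⟨hle, t, ht⟩ := exists_section_isGen_fibre_of_good f N s U hsU hgood _ hε
  -- the section generates near every point of the fibre
  have hloc : ∀ x : X, f x = s →
      ∃ (V : X.Opens) (hV : V ≤ f ⁻¹ᵁ U), x ∈ V ∧ IsGen N V (res N hV t) := by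
    intro x hx
    have hx' : x ∈ Set.range (f.fiberι s) := by
      rw [Scheme.Hom.range_fiberι]
      exact hx
    obtain ⟨y, rfl⟩ := hx'
    exact exists_isGen_nhd_of_isGen_unitSec (f.fiberι s) N hN (f ⁻¹ᵁ U) t _ hle ht y trivial
  let G : X.Opens := ⨆ V : {V : X.Opens // ∃ hV : V ≤ f ⁻¹ᵁ U, IsGen N V (res N hV t)}, V.1
  have hfibG : ∀ x : X, f x = s → x ∈ G := by
    intro x hx
    obtain ⟨V, hV, hxV, hgen⟩ := hloc x hx
    exact Opens.mem_iSup.2 ⟨⟨V, hV, hgen⟩, hxV⟩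
  have hcl : IsClosed (f '' ((G : Set X)ᶜ)) := f.isClosedMap _ G.2.isClosed_compl
  let U' : S.Opens := U ⊓ ⟨(f '' ((G : Set X)ᶜ))ᶜ, hcl.isOpen_compl⟩
  have hsU' : s ∈ U' := by
    refine ⟨hsU, ?_⟩
    rintro ⟨x, hxG, hx⟩
    exact hxG (hfibG x hx)
  have hU'G : f ⁻¹ᵁ U' ≤ G := by
    intro x hx
    by_contra hxG
    exact hx.2 ⟨x, hxG, rfl⟩
  have hU'U : f ⁻¹ᵁ U' ≤ f ⁻¹ᵁ U := f.preimage_mono inf_le_left
  refine ⟨U', inf_le_left, hsU', res N hU'U t, ?_⟩
  apply isGen_of_cover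
  intro x hx
  obtain ⟨V, hxV⟩ := Opens.mem_iSup.1 (hU'G hx)
  obtain ⟨hVU, hVgen⟩ := V.2
  refine ⟨V.1 ⊓ f ⁻¹ᵁ U', inf_le_right, ⟨hxV, hx⟩, ?_⟩
  have h2 := hVgen.mono (inf_le_left : V.1 ⊓ f ⁻¹ᵁ U' ≤ V.1)
  rw [res_res] at h2 ⊢
  exact h2

/-- **an invertible module, flat over the base, trivial on a fibre with `H¹(X_s, O) = 0`, is trivial over a
neighbourhood of `s`** -/
theorem exists_nhd_trivial (N : X.Modules) (hN : PicF.IsInvertible N)
    (hfl : FlatMod.IsFlatOver f N) (s : S)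
    (h1 : Subsingleton (CohIII.fiberH f N s 1))
    (htriv : Nonempty (CohIII.fiberMod f N s ≅ Coh.structureModule (f.fiber s))) :
    ∃ U : S.Opens, s ∈ U ∧
      Nonempty (N.restrict (f ⁻¹ᵁ U).ι ≅ Coh.structureModule ((f ⁻¹ᵁ U : X.Opens) : Scheme.{u})) := by
  haveI : N.IsQuasicoherent := isQuasicoherent_of_isInvertible N hN
  have hfp : CohB1.IsFP N := Groth.Agent.Lib.Helper2.LocFree.isFP_of_isFinLocFree N
    (Groth.Agent.Helper18PBUnit.isFinLocFree_of_isInvertible hN)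
  obtain ⟨U, hsU, -, hgood⟩ :=
    Groth.Agent.Lib.R2H2.Bc0Bij.exists_nhd_push_of_fiberH_one f N hfp hfl s h1
  obtain ⟨U', -, hsU', t, ht⟩ := exists_nhd_isGen_of_good f N hN s U hsU hgood htriv
  exact ⟨U', hsU', nonempty_restrict_iso_of_isGen N (f ⁻¹ᵁ U') t ht⟩

/-- **S2388**: two invertible modules isomorphic on a fibre with `H¹(X_y, O) = 0` of a proper flat morphism are
isomorphic over a neighbourhood of `y` -/
theorem main [Flat f] (y : S)
    (h1 : Subsingleton (Coh.HH (f.fiber y) (Coh.structureModule (f.fiber y)) 1))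
    (L M : X.Modules) (hL : PicF.IsInvertible L) (hM : PicF.IsInvertible M)
    (hy : Nonempty (CohIII.fiberMod f L y ≅ CohIII.fiberMod f M y)) :
    ∃ U : S.Opens, y ∈ U ∧ Nonempty (L.restrict (f ⁻¹ᵁ U).ι ≅ M.restrict (f ⁻¹ᵁ U).ι) := by
  obtain ⟨L', hL', ⟨eL⟩⟩ := Groth.Agent.Lib.R2H4InvExists.exists_inverse L hL
  obtain ⟨ey⟩ := hy
  let N : X.Modules := CohB1.tensorMod L' M
  have hN : PicF.IsInvertible N := isInvertible_tensorMod hL' hM
  haveI : N.IsQuasicoherent := isQuasicoherent_of_isInvertible N hN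
  haveI : (Coh.structureModule X).IsQuasicoherent :=
    Groth.Agent.Lib.Helper23.Serre.isQuasicoherent_structureModule' X
  -- flatness
  have hfl : FlatMod.IsFlatOver f N :=
    Groth.Agent.Lib.Helper26.FlatLim.isFlatOver_of_iso f (lUnit N)
      (Groth.Agent.Lib.R2H2.FlatTwist.isFlatOver_tensorMod_of_isInvertible f
        (Coh.structureModule X) N hN (Groth.Agent.Lib.R2H3.SchemDense.isFlatOver_structureModule f))
  -- the fibre
  let g' := f.fiberι y
  have efib : CohIII.fiberMod f N y ≅ Coh.structureModule (f.fiber y) :=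
    Groth.Agent.Lib.Helper23.RestrTensor.pullbackTensorIso L' M g' ≪≫
      tIso (Iso.refl _) ey.symm ≪≫
      (Groth.Agent.Lib.Helper23.RestrTensor.pullbackTensorIso L' L g').symm ≪≫
      (Scheme.Modules.pullback g').mapIso (tComm L' L ≪≫ eL) ≪≫ pullbackUnitIso g'
  have h1' : Subsingleton (CohIII.fiberH f N y 1) :=
    Groth.Agent.Lib.R2H2.PnSerre.subsingleton_HH_of_iso efib.symm 1 h1
  obtain ⟨U, hyU, ⟨eN⟩⟩ := exists_nhd_trivial f N hN hfl y h1' ⟨efib⟩
  refine ⟨U, hyU, ⟨?_⟩⟩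
  -- `L ⊗ N ≅ M`
  have α : CohB1.tensorMod L N ≅ M :=
    (tAssoc L L' M).symm ≪≫ tIso eL (Iso.refl M) ≪≫ lUnit M
  let j := (f ⁻¹ᵁ U).ι
  exact (rUnit (L.restrict j)).symm ≪≫ tIso (Iso.refl _) eN.symm ≪≫
    (Groth.Agent.Lib.Helper23.RestrTensor.restrictTensorIso L N j).symm ≪≫
    (Scheme.Modules.restrictFunctor j).mapIso α

end Main

end Groth.Agent.Lib.R2H4NearFibre
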