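import Mathlib
import Groth.Prelude
import Groth.Agent.Lib.R2H4FFPic
import Groth.Agent.Lib.Helper2QcPush
import Groth.Agent.Lib.Helper23SecTw10

set_option autoImplicit false
set_option linter.style.haveILetI false
set_option linter.unusedSectionVars false
universe u
open CategoryTheory CategoryTheory.Limits AlgebraicGeometry TopologicalSpace Opposite

noncomputable section

namespace Groth.Agent.Lib.R2H4TrivInt

open Groth.Agent.Lib.Helper23.SecTw Groth.Agent.Lib.Helper23.GenLocus
  Groth.Agent.Lib.Helper23.Extend Groth.Agent.Lib.Helper6 Groth.Agent.Helper13PullbackUnit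
  Groth.Agent.Lib.Helper27PullGen Groth.Agent.Lib.Helper23.PB Groth.Agent.Lib.Helper23.GenNear

section Int

variable {X : Scheme.{u}} [IsIntegral X]

/-- restriction of functions to a nonempty open of an integral scheme is injective -/
theorem resf_injective {U V : X.Opens} (h : V ≤ U) (hV : (V : Set X).Nonempty) :
    Function.Injective (resf h : Γ(X, U) → Γ(X, V)) := by
  haveI : Nonempty (V : Scheme.{u}) := ⟨⟨hV.some, hV.some_mem⟩⟩
  exact map_injective_of_isIntegral X (homOfLE h)

/-- a section of an invertible module on an integral scheme vanishing on a nonempty open vanishes -/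
theorem eq_zero_of_res_eq_zero (A : X.Modules) (hA : PicF.IsInvertible A) {Ω : X.Opens} (s : Γ(A, Ω))
    (W : X.Opens) (hWΩ : W ≤ Ω) (hW : (W : Set X).Nonempty) (h : res A hWΩ s = 0) : s = 0 := by
  apply Groth.Agent.Lib.Helper2.QcPush.section_eq_zero_of_cover A Ω s
  intro x hx
  obtain ⟨W₀, a, hxW₀, ha⟩ := exists_gen A hA x
  let V : X.Opens := W₀ ⊓ Ω
  have hVW₀ : V ≤ W₀ := inf_le_left
  have hVΩ : V ≤ Ω := inf_le_right
  refine ⟨V, hVΩ, ⟨hxW₀, hx⟩, ?_⟩
  have haV : IsGen A V (res A hVW₀ a) := ha.mono hVW₀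
  have hc := coef_spec haV le_rfl (res A hVΩ s)
  rw [res_self] at hc
  set c := coef haV le_rfl (res A hVΩ s)
  -- `c` vanishes on `V ⊓ W`
  have hne : ((V ⊓ W : X.Opens) : Set X).Nonempty := by
    have hVne : (V : Set X).Nonempty := ⟨x, hxW₀, hx⟩
    exact (PreirreducibleSpace.isPreirreducible_univ (X := X)) V W V.2 W.2
      (by simpa using hVne) (by simpa using hW) |>.imp (fun z hz => ⟨hz.2.1, hz.2.2⟩)
  have h1 : res A (inf_le_left : V ⊓ W ≤ V) (res A hVΩ s) = 0 := by
    rw [res_res]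
    have : res A ((inf_le_right : V ⊓ W ≤ W).trans hWΩ) s =
        res A (inf_le_right : V ⊓ W ≤ W) (res A hWΩ s) := (res_res _ _ _ _).symm
    rw [this, h]
    exact map_zero (A.presheaf.map (homOfLE (inf_le_right : V ⊓ W ≤ W)).op).hom
  rw [← hc, res_smul] at h1
  have hgen := haV.mono (inf_le_left : V ⊓ W ≤ V)
  have h2 : resf (inf_le_left : V ⊓ W ≤ V) c = 0 := by
    apply (hgen (V ⊓ W) le_rfl).1
    change resf (inf_le_left : V ⊓ W ≤ V) c • res A le_rfl (res A inf_le_left (res A hVW₀ a)) =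
      (0 : Γ(X, V ⊓ W)) • res A le_rfl (res A inf_le_left (res A hVW₀ a))
    rw [res_self, zero_smul]
    exact h1
  have h3 : c = 0 := resf_injective inf_le_left hne
    (h2.trans (map_zero (X.presheaf.map (homOfLE (inf_le_left : V ⊓ W ≤ V)).op).hom).symm)
  change res A hVΩ s = 0
  rw [← hc, h3, zero_smul]

/-- **on an integral scheme with a field of global functions, an invertible module `A` such that `A` and an inverse
`B` of `A` both have a nonzero global section is generated by that section** -/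
theorem isGen_of_tensor_sections (A B : X.Modules) (hA : PicF.IsInvertible A) (hB : PicF.IsInvertible B)
    (e : CohB1.tensorMod A B ≅ Coh.structureModule X) (s : Γ(A, ⊤)) (t : Γ(B, ⊤)) (hs : s ≠ 0)
    (ht : t ≠ 0) (hfield : IsField Γ(X, ⊤)) : IsGen A ⊤ s := by
  set h : Γ(X, ⊤) := ofS ⊤ (e.hom.app ⊤ (tm A B ⊤ s t)) with hh
  -- local computation
  have key : ∀ x : X, ∃ (W : X.Opens) (_ : x ∈ W) (a : Γ(A, W)) (_ : IsGen A W a) (c d u : Γ(X, W)),
      IsUnit u ∧ res A (le_top : W ≤ ⊤) s = c • a ∧ (∃ b : Γ(B, W), IsGen B W b ∧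
        res B (le_top : W ≤ ⊤) t = d • b) ∧ resf (le_top : W ≤ ⊤) h = c * d * u := by
    intro x
    obtain ⟨W₁, a₁, hxW₁, ha₁⟩ := exists_gen A hA x
    obtain ⟨W₂, b₂, hxW₂, hb₂⟩ := exists_gen B hB x
    let W : X.Opens := W₁ ⊓ W₂
    have ha : IsGen A W (res A (inf_le_left : W ≤ W₁) a₁) := ha₁.mono inf_le_left
    have hb : IsGen B W (res B (inf_le_right : W ≤ W₂) b₂) := hb₂.mono inf_le_right
    set a := res A (inf_le_left : W ≤ W₁) a₁
    set b := res B (inf_le_right : W ≤ W₂) b₂
    have hc := coef_spec ha le_rfl (res A (le_top : W ≤ ⊤) s)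
    have hd := coef_spec hb le_rfl (res B (le_top : W ≤ ⊤) t)
    rw [res_self] at hc hd
    set c := coef ha le_rfl (res A (le_top : W ≤ ⊤) s)
    set d := coef hb le_rfl (res B (le_top : W ≤ ⊤) t)
    have hv : IsGen (Coh.structureModule X) W (e.hom.app W (tm A B W a b)) :=
      isGen_of_iso e (isGen_tm A B W a b ha hb)
    set v := e.hom.app W (tm A B W a b)
    have hu : IsUnit (ofS W v) := by
      have h1 : v = (ofS W v) • toS W 1 := by
        rw [smul_toS, mul_one, toS_ofS]
      rw [h1] at hv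
      exact (isGen_smul_iff (isGen_one W) _).1 hv
    refine ⟨W, ⟨hxW₁, hxW₂⟩, a, ha, c, d, ofS W v, hu, hc.symm, ⟨b, hb, hd.symm⟩, ?_⟩
    have h2 : res (Coh.structureModule X) (le_top : W ≤ ⊤) (e.hom.app ⊤ (tm A B ⊤ s t)) =
        e.hom.app W (tm A B W (res A le_top s) (res B le_top t)) := by
      rw [← res_tm]
      exact (app_map e.hom (homOfLE (le_top : W ≤ ⊤)) _).symm
    rw [← hc, ← hd, tm_smul_smul, Scheme.Modules.Hom.app_smul] at h2
    have h3 : toS W (resf (le_top : W ≤ ⊤) h) = toS W (c * d * ofS W v) := by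
      rw [← smul_toS, toS_ofS]
      exact h2
    exact h3
  -- `h ≠ 0`
  have hne : h ≠ 0 := by
    intro h0
    obtain ⟨x⟩ := (inferInstance : Nonempty X)
    obtain ⟨W, hxW, a, ha, c, d, u, hu, hsc, ⟨b, hb, htd⟩, hcdu⟩ := key x
    have hWne : (W : Set X).Nonempty := ⟨x, hxW⟩
    haveI : Nonempty (W : Scheme.{u}) := ⟨⟨x, hxW⟩⟩
    haveI : IsDomain Γ(X, W) := inferInstance
    rw [h0] at hcdu
    have h4 : c * d * u = 0 := by
      rw [← hcdu]
      exact map_zero (X.presheaf.map (homOfLE (le_top : W ≤ ⊤)).op).hom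
    have h5 : c * d = 0 := by
      rcases mul_eq_zero.1 h4 with h | h
      · exact h
      · exact absurd h hu.ne_zero
    rcases mul_eq_zero.1 h5 with h | h
    · apply hs
      apply eq_zero_of_res_eq_zero A hA s W le_top hWne
      rw [hsc, h, zero_smul]
    · apply ht
      apply eq_zero_of_res_eq_zero B hB t W le_top hWne
      rw [htd, h, zero_smul]
  have hunit : IsUnit h := by
    obtain ⟨h', hh'⟩ := hfield.mul_inv_cancel hne
    exact IsUnit.of_mul_eq_one h' hh'
  apply isGen_of_cover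
  intro x _
  obtain ⟨W, hxW, a, ha, c, d, u, hu, hsc, -, hcdu⟩ := key x
  refine ⟨W, le_top, hxW, ?_⟩
  rw [hsc]
  refine (isGen_smul_iff ha c).2 ?_
  have h6 : IsUnit (c * d * u) := by
    rw [← hcdu]
    exact hunit.map (X.presheaf.map (homOfLE (le_top : W ≤ ⊤)).op).hom
  have h7 : IsUnit (c * (d * u)) := by rwa [← mul_assoc]
  exact isUnit_of_mul_isUnit_left h7

end Int

end Groth.Agent.Lib.R2H4TrivInt
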