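import Mathlib
import Groth.Prelude
import Groth.Agent.Lib.R2H4TrivIntA
import Groth.Agent.Lib.Helper20ParaF6
import Groth.Agent.Lib.Helper27PnSections
import Groth.Agent.Lib.Helper23RestrTensor
import Groth.Agent.Lib.R2H4TensorPows
import Groth.Agent.Lib.R2H4InvExists

set_option autoImplicit false
set_option linter.style.haveILetI false
set_option linter.unusedSectionVars false
universe u
open CategoryTheory CategoryTheory.Limits AlgebraicGeometry TopologicalSpace Opposite

noncomputable section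

namespace Groth.Agent.Lib.R2H4TrivInt

open Groth.Agent.Lib.Helper23.SecTw Groth.Agent.Lib.Helper23.GenLocus
  Groth.Agent.Lib.Helper23.Extend Groth.Agent.Lib.Helper6 Groth.Agent.Helper13PullbackUnit
  Groth.Agent.Lib.Helper27PullGen Groth.Agent.Lib.Helper23.PB Groth.Agent.Lib.Helper23.GenNear

section Crit

variable {Z : Scheme.{u}}

/-- `H⁰(Z, A) ≃ Γ(A, ⊤)` -/
def h0E (A : Z.Modules) : Coh.HH Z A 0 ≃+ Γ(A, ⊤) :=
  Groth.Agent.Lib.Helper27PnSections.hh0Equiv Z A

theorem not_subsingleton_HH_of_iso [Nontrivial Γ(Z, ⊤)] (A : Z.Modules)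
    (φ : A ≅ Coh.structureModule Z) : ¬ Subsingleton (Coh.HH Z A 0) := by
  intro hsub
  have h1 : (h0E A).symm (φ.inv.app ⊤ (toS ⊤ 1)) = (h0E A).symm 0 := Subsingleton.elim _ _
  have h2 : φ.inv.app ⊤ (toS ⊤ 1) = 0 := (h0E A).symm.injective h1
  have h3 : φ.hom.app ⊤ (φ.inv.app ⊤ (toS ⊤ 1)) = toS ⊤ 1 := by
    have := congrArg (fun ψ : Coh.structureModule Z ⟶ Coh.structureModule Z => ψ.app ⊤ (toS ⊤ 1))
      φ.inv_hom_id
    exact this
  rw [h2] at h3
  have h4 : (toS ⊤ (1 : Γ(Z, ⊤))) = toS ⊤ 0 := by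
    rw [← h3]
    have : φ.hom.app ⊤ 0 = 0 := map_zero (φ.hom.app ⊤).hom
    rw [this]
    rfl
  have h5 : ofS ⊤ (toS ⊤ (1 : Γ(Z, ⊤))) = ofS ⊤ (toS ⊤ 0) := congrArg _ h4
  rw [ofS_toS, ofS_toS] at h5
  exact one_ne_zero h5

theorem exists_ne_zero_of_not_subsingleton (A : Z.Modules) (h : ¬ Subsingleton (Coh.HH Z A 0)) :
    ∃ s : Γ(A, ⊤), s ≠ 0 := by
  haveI : Nontrivial (Coh.HH Z A 0) := not_subsingleton_iff_nontrivial.1 h
  obtain ⟨x, hx⟩ := exists_ne (0 : Coh.HH Z A 0)
  exact ⟨h0E A x, (AddEquiv.map_ne_zero_iff (h0E A)).2 hx⟩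

/-- **on an integral scheme whose ring of global functions is a field, an invertible module with an inverse `B`
is trivial iff it and its inverse have nonzero global sections** -/
theorem trivial_iff [IsIntegral Z] (hfield : IsField Γ(Z, ⊤)) (A B : Z.Modules)
    (hA : PicF.IsInvertible A) (hB : PicF.IsInvertible B)
    (e : CohB1.tensorMod A B ≅ Coh.structureModule Z) :
    Nonempty (A ≅ Coh.structureModule Z) ↔
      ¬ Subsingleton (Coh.HH Z A 0) ∧ ¬ Subsingleton (Coh.HH Z B 0) := by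
  haveI : Nontrivial Γ(Z, ⊤) := hfield.nontrivial
  constructor
  · rintro ⟨φ⟩
    refine ⟨not_subsingleton_HH_of_iso A φ, not_subsingleton_HH_of_iso B ?_⟩
    exact (Groth.Agent.Lib.R2H4TensorPows.lUnit B).symm ≪≫
      Groth.Agent.Lib.R2H4TensorPows.tIso φ.symm (Iso.refl B) ≪≫ e
  · rintro ⟨h1, h2⟩
    obtain ⟨s, hs⟩ := exists_ne_zero_of_not_subsingleton A h1
    obtain ⟨t, ht⟩ := exists_ne_zero_of_not_subsingleton B h2
    exact Groth.Agent.Lib.Helper20.ParaFLib.nonempty_iso_of_triv_top A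
      ⟨s, isGen_of_tensor_sections A B hA hB e s t hs ht hfield⟩

end Crit

section Fib

variable {X Y : Scheme.{u}} (f : X ⟶ Y) [IsProper f]

/-- the fibre version -/
theorem fibre_trivial_iff (y : Y) [IsIntegral (f.fiber y)] (L L' : X.Modules)
    (hL : PicF.IsInvertible L) (hL' : PicF.IsInvertible L')
    (e : CohB1.tensorMod L L' ≅ Coh.structureModule X) :
    Nonempty (CohIII.fiberMod f L y ≅ Coh.structureModule (f.fiber y)) ↔
      ¬ Subsingleton (CohIII.fiberH f L y 0) ∧ ¬ Subsingleton (CohIII.fiberH f L' y 0) := by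
  haveI : IsProper (f.fiberToSpecResidueField y) :=
    MorphismProperty.of_isPullback (IsPullback.of_hasPullback f (Y.fromSpecResidueField y))
      inferInstance
  have hfield : IsField Γ(f.fiber y, ⊤) :=
    isField_of_universallyClosed (Y.residueField y) (f.fiberToSpecResidueField y)
  exact trivial_iff hfield _ _ (isInvertible_pullback (f.fiberι y) L hL)
    (isInvertible_pullback (f.fiberι y) L' hL')
    ((Groth.Agent.Lib.Helper23.RestrTensor.pullbackTensorIso L L' (f.fiberι y)).symm ≪≫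
      (Scheme.Modules.pullback (f.fiberι y)).mapIso e ≪≫ pullbackUnitIso (f.fiberι y))

end Fib

end Groth.Agent.Lib.R2H4TrivInt
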