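import Mathlib
import Groth.Prelude
import Groth.Agent.Lib.R2H4TrivIntB
import Groth.Agent.Lib.R2H2BcNear
import Groth.Agent.Lib.Helper18PBUnit2
import Groth.Agent.Lib.Helper2LocFree
import Groth.Agent.Lib.Helper26FlatLimC
import Groth.Agent.Lib.R2H2FlatTwist
import Groth.Agent.Lib.R2H3SchemDense

set_option autoImplicit false
set_option linter.style.haveILetI false
set_option linter.unusedSectionVars false
universe u
open CategoryTheory CategoryTheory.Limits AlgebraicGeometry TopologicalSpace Opposite

noncomputable section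

namespace Groth.Agent.Lib.R2H4TrivInt

open Groth.Agent.Lib.Helper23.SecTw Groth.Agent.Lib.Helper23.GenLocus
  Groth.Agent.Lib.Helper23.Extend Groth.Agent.Lib.Helper6 Groth.Agent.Helper13PullbackUnit
  Groth.Agent.Lib.Helper27PullGen Groth.Agent.Lib.Helper23.PB Groth.Agent.Lib.Helper23.GenNear

section Closed

variable {X Y : Scheme.{u}} (f : X ⟶ Y)

/-- an invertible module on the source of a flat morphism is flat over the base -/
theorem isFlatOver_of_isInvertible [Flat f] (L : X.Modules) (hL : PicF.IsInvertible L) :
    FlatMod.IsFlatOver f L :=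
  Groth.Agent.Lib.Helper26.FlatLim.isFlatOver_of_iso f (Groth.Agent.Lib.R2H4TensorPows.lUnit L)
    (Groth.Agent.Lib.R2H2.FlatTwist.isFlatOver_tensorMod_of_isInvertible f
      (Coh.structureModule X) L hL (Groth.Agent.Lib.R2H3.SchemDense.isFlatOver_structureModule f))

variable [IsProper f] [Flat f] [LocallyOfFinitePresentation f]

/-- **for a proper flat finitely presented morphism with integral fibres, the locus of points over which an
invertible module is trivial on the fibre is closed** -/
theorem isClosed_trivial_locus (hint : ∀ y : Y, IsIntegral (f.fiber y)) (L : X.Modules)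
    (hL : PicF.IsInvertible L) :
    IsClosed {y : Y | Nonempty (CohIII.fiberMod f L y ≅ Coh.structureModule (f.fiber y))} := by
  obtain ⟨L', hL', ⟨e⟩⟩ := Groth.Agent.Lib.R2H4InvExists.exists_inverse L hL
  haveI : HasInjectiveResolutions X.Modules :=
    Groth.Agent.Lib.R2H3.RpushRestrict.hasInjectiveResolutions_modules X
  haveI : L.IsQuasicoherent := isQuasicoherent_of_isInvertible L hL
  haveI : L'.IsQuasicoherent := isQuasicoherent_of_isInvertible L' hL'
  have hfp : CohB1.IsFP L := Groth.Agent.Lib.Helper2.LocFree.isFP_of_isFinLocFree L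
    (Groth.Agent.Helper18PBUnit.isFinLocFree_of_isInvertible hL)
  have hfp' : CohB1.IsFP L' := Groth.Agent.Lib.Helper2.LocFree.isFP_of_isFinLocFree L'
    (Groth.Agent.Helper18PBUnit.isFinLocFree_of_isInvertible hL')
  have h1 := Groth.Agent.Lib.R2H2.BcNear.isOpen_vanishing f L hfp (isFlatOver_of_isInvertible f L hL) 0
  have h2 := Groth.Agent.Lib.R2H2.BcNear.isOpen_vanishing f L' hfp'
    (isFlatOver_of_isInvertible f L' hL') 0
  have hset : {y : Y | Nonempty (CohIII.fiberMod f L y ≅ Coh.structureModule (f.fiber y))} =
      {t : Y | Subsingleton (CohIII.fiberH f L t 0)}ᶜ ∩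
        {t : Y | Subsingleton (CohIII.fiberH f L' t 0)}ᶜ := by
    ext y
    haveI := hint y
    exact fibre_trivial_iff f y L L' hL hL' e
  rw [hset]
  exact h1.isClosed_compl.inter h2.isClosed_compl

end Closed

end Groth.Agent.Lib.R2H4TrivInt
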