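import Mathlib
import Groth.Prelude
import Groth.Agent.Lib.R2H4FibTrivA
import Groth.Agent.Lib.R2H4NearFibre
import Groth.Agent.Lib.R2H4TrivInt
import Groth.Agent.Lib.R2H2BcNear3
import Groth.Agent.Lib.H9CbH
import Groth.Agent.Lib.H9FibOne
import Groth.Agent.Lib.R2H3PullUnit

set_option autoImplicit false
set_option linter.style.haveILetI false
set_option linter.unusedSectionVars false
universe u
open CategoryTheory CategoryTheory.Limits AlgebraicGeometry TopologicalSpace Opposite
open AlgebraicGeometry.Scheme.Modules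

noncomputable section

namespace Groth.Agent.Lib.R2H4FibTriv

open Groth.Agent.Lib.Helper23.SecTw Groth.Agent.Lib.Helper23.GenLocus
  Groth.Agent.Lib.Helper23.Extend Groth.Agent.Lib.Helper6 Groth.Agent.Helper13PullbackUnit
  Groth.Agent.Lib.Helper27PullGen Groth.Agent.Lib.Helper23.PB Groth.Agent.Lib.Helper23.GenNear

section Rank

open Groth.Agent.Lib.H9CbF Groth.Agent.Lib.R2H2.FibRank

/-- the fibre rank in degree `0` of a module trivial on the fibre at `q` is one when `h⁰(X_q, O) = 1` -/
theorem fiberRank_eq_one_of_iso {X S : Scheme.{u}} (f : X ⟶ S) (M : X.Modules) (q : S)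
    (ε' : CohIII.fiberMod f M q ≅ Coh.structureModule (f.fiber q))
    (hq : Module.finrank (S.residueField q) Γ(f.fiber q, ⊤) = 1) :
    CohIII.fiberRank f M 0 q = 1 := by
  unfold CohIII.fiberRank
  letI := CohIII.fiberOver f q
  letI := algΓ (S.residueField q) (f.fiberToSpecResidueField q)
  have l1 : CohIII.fiberH f M q 0 ≃ₗ[S.residueField q]
      Coh.HH (f.fiber q) (Coh.structureModule (f.fiber q)) 0 := HHLinEquiv ε' 0
  have l2 := hh0LinearEquiv (S.residueField q) (f.fiber q)
  exact (l1.finrank_eq.trans l2.finrank_eq).trans hq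

end Rank

section Main

variable {X Y : Scheme.{u}} (f : X ⟶ Y)

/-- **local generators over preimages of opens of the base, together with `O_Y ≅ f_* O_X`, make `f_* L` invertible
and the counit `f^* f_* L ⟶ L` an isomorphism** -/
theorem push_invertible_of_local_gen (hfV : ∀ V : Y.Opens, IsIso (f.app V)) (L : X.Modules)
    (claim : ∀ y : Y, ∃ (U : Y.Opens) (_ : y ∈ U) (t : Γ(L, f ⁻¹ᵁ U)), IsGen L (f ⁻¹ᵁ U) t) :
    PicF.IsInvertible ((pushforward f).obj L) ∧
      IsIso ((pullbackPushforwardAdjunction f).counit.app L) := by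
  have hinv : PicF.IsInvertible ((pushforward f).obj L) := by
    refine isInvertible_of_isGen _ (fun y => ?_)
    obtain ⟨U, hyU, t, ht⟩ := claim y
    exact ⟨U, t, hyU, isGen_pushforward f hfV L U t ht⟩
  refine ⟨hinv, ?_⟩
  refine isIso_of_locally_gen _ (isInvertible_pullback f _ hinv) (fun x => ?_)
  obtain ⟨U, hyU, t, ht⟩ := claim (f x)
  refine ⟨f ⁻¹ᵁ U, hyU,
    ((pullbackPushforwardAdjunction f).unit.app ((pushforward f).obj L)).app U t, ?_⟩
  rw [counit_app_unit]
  exact ht

/-- the unit `L₀ ⟶ f_* f^* L₀` is an isomorphism for invertible `L₀` when `O_Y ≅ f_* O_X` -/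
theorem isIso_unit_of_isInvertible (hfV : ∀ V : Y.Opens, IsIso (f.app V)) (L₀ : Y.Modules)
    (hL₀ : PicF.IsInvertible L₀) :
    IsIso ((pullbackPushforwardAdjunction f).unit.app L₀) := by
  haveI : L₀.IsQuasicoherent := isQuasicoherent_of_isInvertible L₀ hL₀
  refine isIso_of_locally_gen _ hL₀ (fun y => ?_)
  obtain ⟨V, a, hyV, ha⟩ := exists_gen L₀ hL₀ y
  refine ⟨V, hyV, a, ?_⟩
  have h1 := isGen_pullback f L₀ V a ha
  rw [Groth.Agent.Lib.R2H3.PullUnit.unitSec_le_rfl] at h1
  exact isGen_pushforward f hfV _ V _ h1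

variable [IsProper f] [LocallyOfFinitePresentation f]

/-- an invertible module trivial on all fibres, with good opens around every point of the base, is generated by a
single section over the preimage of a neighbourhood of each point of the base -/
theorem exists_local_gen_of_good (L : X.Modules) (hL : PicF.IsInvertible L)
    (hgood : ∀ y : Y, ∃ W : Y.Opens, y ∈ W ∧ Groth.Agent.Lib.R2H2.BcIso.Good f L 0 W)
    (htriv : ∀ y : Y, Nonempty (CohIII.fiberMod f L y ≅ Coh.structureModule (f.fiber y))) :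
    ∀ y : Y, ∃ (U : Y.Opens) (_ : y ∈ U) (t : Γ(L, f ⁻¹ᵁ U)), IsGen L (f ⁻¹ᵁ U) t := by
  intro y
  obtain ⟨W, hyW, hg⟩ := hgood y
  obtain ⟨U', -, hyU', t, ht⟩ :=
    Groth.Agent.Lib.R2H4NearFibre.exists_nhd_isGen_of_good f L hL y W hyW hg (htriv y)
  exact ⟨U', hyU', t, ht⟩

variable [Flat f]

/-- **over a reduced base, with `h⁰(X_y, O) = 1` for all `y`, an invertible module trivial on all fibres has
invertible direct image, and the counit `f^* f_* L ⟶ L` is an isomorphism** -/
theorem main [IsReduced Y]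
    (h0 : ∀ y : Y, Module.finrank (Y.residueField y) Γ(f.fiber y, ⊤) = 1)
    (L : X.Modules) (hL : PicF.IsInvertible L)
    (htriv : ∀ y : Y, Nonempty (CohIII.fiberMod f L y ≅ Coh.structureModule (f.fiber y))) :
    PicF.IsInvertible ((pushforward f).obj L) ∧
      IsIso ((pullbackPushforwardAdjunction f).counit.app L) := by
  haveI : HasInjectiveResolutions X.Modules :=
    Groth.Agent.Lib.R2H3.RpushRestrict.hasInjectiveResolutions_modules X
  haveI : L.IsQuasicoherent := isQuasicoherent_of_isInvertible L hL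
  have hfp : CohB1.IsFP L := Groth.Agent.Lib.Helper2.LocFree.isFP_of_isFinLocFree L
    (Groth.Agent.Helper18PBUnit.isFinLocFree_of_isInvertible hL)
  have hfl : FlatMod.IsFlatOver f L := Groth.Agent.Lib.R2H4TrivInt.isFlatOver_of_isInvertible f L hL
  have hfV : ∀ V : Y.Opens, IsIso (f.app V) := fun V =>
    Groth.Agent.Lib.H9CbH.main f
      (fun s => (Groth.Agent.Lib.H9FibOne.isIso_appTop_iff_finrank f s).2 (h0 s)) V
  have hrank : ∀ y : Y, CohIII.fiberRank f L 0 y = 1 := fun y => by
    obtain ⟨e⟩ := htriv y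
    exact fiberRank_eq_one_of_iso f L y e (h0 y)
  have hlc : IsLocallyConstant (CohIII.fiberRank f L 0) := by
    have h1 : CohIII.fiberRank f L 0 = fun _ => 1 := funext hrank
    rw [h1]
    exact IsLocallyConstant.const 1
  refine push_invertible_of_local_gen f hfV L
    (exists_local_gen_of_good f L hL (fun y => ?_) htriv)
  obtain ⟨W, hyW, hgood, -, -⟩ :=
    Groth.Agent.Lib.R2H2.BcNear3.exists_good_of_isLocallyConstant f L hfp hfl 0 hlc y
  exact ⟨W, hyW, hgood⟩

/-- **S16759** -/
theorem main' [IsReduced Y]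
    (h0 : ∀ y : Y, Module.finrank (Y.residueField y) Γ(f.fiber y, ⊤) = 1)
    (L : X.Modules) (hL : PicF.IsInvertible L) :
    ((∃ M : Y.Modules, PicF.IsInvertible M ∧ Nonempty ((Scheme.Modules.pullback f).obj M ≅ L)) ↔
        ∀ y : Y, Nonempty (CohIII.fiberMod f L y ≅ Coh.structureModule (f.fiber y))) ∧
      ((∀ y : Y, Nonempty (CohIII.fiberMod f L y ≅ Coh.structureModule (f.fiber y))) →
        PicF.IsInvertible ((Scheme.Modules.pushforward f).obj L) ∧
          IsIso ((Scheme.Modules.pullbackPushforwardAdjunction f).counit.app L)) := by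
  have key := fun h => main f h0 L hL h
  refine ⟨⟨?_, fun h => ?_⟩, key⟩
  · rintro ⟨M, hM, ⟨e⟩⟩ y
    obtain ⟨e'⟩ := fibre_trivial_of_pullback f M hM y
    exact ⟨(Scheme.Modules.pullback (f.fiberι y)).mapIso e.symm ≪≫ e'⟩
  · obtain ⟨h1, h2⟩ := key h
    haveI := h2
    exact ⟨(pushforward f).obj L, h1,
      ⟨asIso ((pullbackPushforwardAdjunction f).counit.app L)⟩⟩

end Main

end Groth.Agent.Lib.R2H4FibTriv
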