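import Mathlib
import Groth.Prelude
import Groth.Agent.Lib.R2H4FibTriv
import Groth.Agent.Lib.R2H2LocalCBC5
import Groth.Agent.Lib.H9NormFin

/-!
# Upper semicontinuity of fibre ranks, and `h⁰(X_y, O) = 1` from closed points (helper4)

* `isOpen_fiberRank_lt`: for `f` proper of finite presentation and `F` finitely presented, flat over the
  base, `{t | dim H^p(X_t, F_t) < n}` is open;
* `fiberRank_structure`: `fiberRank f O_X 0 q = dim_{κ(q)} Γ(X_q, O)`;
* `finrank_fiber_eq_one_of_isAlgClosed`: an integral proper fibre over an algebraically closed residue field has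
  `h⁰(X_y, O) = 1`;
* `finrank_fiber_eq_one_of_closed`: over a quasi-compact base, if the fibres are nonempty and `h⁰(X_y, O) = 1`
  at all closed points, then `h⁰(X_y, O) = 1` everywhere (`f` proper flat of finite presentation).
-/

set_option autoImplicit false
set_option linter.style.haveILetI false
set_option linter.unusedSectionVars false
universe u
open CategoryTheory CategoryTheory.Limits AlgebraicGeometry TopologicalSpace Opposite
open AlgebraicGeometry.Scheme.Modules

noncomputable section

namespace Groth.Agent.Lib.R2H4FibSemi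

/-- **upper semicontinuity of the fibre ranks** -/
theorem isOpen_fiberRank_lt {X S : Scheme.{u}} (f : X ⟶ S) [IsProper f]
    [LocallyOfFinitePresentation f] [HasInjectiveResolutions X.Modules] (F : X.Modules)
    [F.IsQuasicoherent] (hFP : CohB1.IsFP F) (hfl : FlatMod.IsFlatOver f F) (p n : ℕ) :
    IsOpen {t : S | CohIII.fiberRank f F p t < n} := by
  rw [isOpen_iff_forall_mem_open]
  intro s hs
  obtain ⟨V₁, hsV₁, A, _, _, Q, γ, hγ, hQ, -, hrank, -⟩ :=
    Groth.Agent.Lib.R2H2.LocalCBC.local_main f F hFP hfl s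
  have hO := Groth.Agent.Lib.R2H2.LocalCBC.isOpen_dRank_lt Q hQ (-(p : ℤ)) n
  have hW : IsOpen (γ ⁻¹' {y | CohIII.dRank Q (-(p : ℤ)) y < n}) := hO.preimage hγ
  have hW' := V₁.2.isOpenMap_subtype_val _ hW
  refine ⟨_, ?_, hW', ⟨⟨s, hsV₁⟩, ?_, rfl⟩⟩
  · rintro _ ⟨z, hz, rfl⟩
    change CohIII.fiberRank f F p z.1 < n
    rw [hrank p z.1 z.2]
    exact hz
  · change CohIII.dRank Q _ (γ ⟨s, hsV₁⟩) < n
    rw [← hrank p s hsV₁]
    exact hs

open Groth.Agent.Lib.H9CbF Groth.Agent.Lib.R2H2.FibRank in
/-- the fibre rank in degree `0` of the structure sheaf is `dim Γ(X_q, O)` -/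
theorem fiberRank_structure {X S : Scheme.{u}} (f : X ⟶ S) (q : S) :
    CohIII.fiberRank f (Coh.structureModule X) 0 q =
      Module.finrank (S.residueField q) Γ(f.fiber q, ⊤) := by
  unfold CohIII.fiberRank
  letI := CohIII.fiberOver f q
  letI := algΓ (S.residueField q) (f.fiberToSpecResidueField q)
  let ε' : CohIII.fiberMod f (Coh.structureModule X) q ≅ Coh.structureModule (f.fiber q) :=
    Groth.Agent.Lib.Helper23.PB.pullbackUnitIso (f.fiberι q)
  have l1 : CohIII.fiberH f (Coh.structureModule X) q 0 ≃ₗ[S.residueField q]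
      Coh.HH (f.fiber q) (Coh.structureModule (f.fiber q)) 0 := HHLinEquiv ε' 0
  have l2 := hh0LinearEquiv (S.residueField q) (f.fiber q)
  exact l1.finrank_eq.trans l2.finrank_eq

/-- finiteness of the global functions of a proper fibre -/
theorem finite_of_field {Z : Scheme.{u}} (K : Type u) [Field K] (p : Z ⟶ Spec (CommRingCat.of K))
    [IsProper p] : ((p.appTop).hom.comp (Scheme.ΓSpecIso (CommRingCat.of K)).inv.hom).Finite :=
  Groth.Agent.Lib.H9NormFin.finite_toGlobal K p

/-- finiteness of the global functions of a proper fibre -/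
theorem finite_fiber {X S : Scheme.{u}} (f : X ⟶ S) [IsProper f] (y : S) :
    Module.Finite (S.residueField y) Γ(f.fiber y, ⊤) := by
  haveI : IsProper (f.fiberToSpecResidueField y) :=
    inferInstanceAs (IsProper (pullback.snd f (S.fromSpecResidueField y)))
  exact finite_of_field (S.residueField y) (f.fiberToSpecResidueField y)

/-- an integral proper fibre over an algebraically closed residue field has `h⁰(X_y, O) = 1` -/
theorem finrank_fiber_eq_one_of_isAlgClosed {X S : Scheme.{u}} (f : X ⟶ S) [IsProper f] (y : S)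
    [IsAlgClosed (S.residueField y)] [IsIntegral (f.fiber y)] :
    Module.finrank (S.residueField y) Γ(f.fiber y, ⊤) = 1 := by
  haveI := finite_fiber f y
  haveI : Algebra.IsIntegral (S.residueField y) Γ(f.fiber y, ⊤) := Algebra.IsIntegral.of_finite _ _
  have hb : Function.Bijective (algebraMap (S.residueField y) Γ(f.fiber y, ⊤)) :=
    IsAlgClosed.algebraMap_bijective_of_isIntegral
  let l3 : (S.residueField y) ≃ₗ[S.residueField y] Γ(f.fiber y, ⊤) :=
    LinearEquiv.ofBijective (Algebra.linearMap _ _) hb
  exact l3.finrank_eq.symm.trans (Module.finrank_self _)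

/-- the residue fields at the closed points of a scheme locally of finite type over an algebraically closed field
are algebraically closed -/
theorem isAlgClosed_residueField_of_isClosed (k : Type u) [Field k] [IsAlgClosed k]
    {X : Scheme.{u}} (f : X ⟶ Spec (CommRingCat.of k)) [LocallyOfFiniteType f] (x : X)
    (hx : IsClosed ({x} : Set X)) : IsAlgClosed (X.residueField x) := by
  haveI : JacobsonSpace X := LocallyOfFiniteType.jacobsonSpace f
  haveI h1 : LocallyOfFiniteType (X.fromSpecResidueField x) :=
    isClosed_singleton_iff_locallyOfFiniteType.mp hx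
  have h2 : LocallyOfFiniteType (X.fromSpecResidueField x ≫ f) := inferInstance
  obtain ⟨φ, hφ⟩ := Spec.map_surjective (X.fromSpecResidueField x ≫ f)
  rw [← hφ, HasRingHomProperty.Spec_iff (P := @LocallyOfFiniteType)] at h2
  algebraize [φ.hom]
  haveI : Algebra.FiniteType k (X.residueField x) := h2
  haveI : Module.Finite k (X.residueField x) := finite_of_finite_type_of_isJacobsonRing k _
  have hb : Function.Bijective (algebraMap k (X.residueField x)) :=
    IsAlgClosed.algebraMap_bijective_of_isIntegral
  exact IsAlgClosed.of_ringEquiv (k := k) (X.residueField x) (RingEquiv.ofBijective _ hb)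

/-- **`h⁰(X_y, O) = 1` spreads from the closed points** of a quasi-compact base -/
theorem finrank_fiber_eq_one_of_closed {X S : Scheme.{u}} (f : X ⟶ S) [IsProper f]
    [LocallyOfFinitePresentation f] [Flat f] [CompactSpace S]
    (hne : ∀ y : S, Nonempty (f.fiber y))
    (hcl : ∀ y : S, IsClosed ({y} : Set S) →
      Module.finrank (S.residueField y) Γ(f.fiber y, ⊤) = 1) (y : S) :
    Module.finrank (S.residueField y) Γ(f.fiber y, ⊤) = 1 := by
  haveI : HasInjectiveResolutions X.Modules :=
    Groth.Agent.Lib.R2H3.RpushRestrict.hasInjectiveResolutions_modules X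
  have hO : PicF.IsInvertible (Coh.structureModule X) :=
    Groth.Agent.Lib.Helper23.TensorUnit.isInvertible_structureModule X
  haveI : (Coh.structureModule X).IsQuasicoherent :=
    Groth.Agent.Lib.Helper23.SecTw.isQuasicoherent_of_isInvertible _ hO
  have hfp : CohB1.IsFP (Coh.structureModule X) :=
    Groth.Agent.Lib.Helper2.LocFree.isFP_of_isFinLocFree _
      (Groth.Agent.Helper18PBUnit.isFinLocFree_of_isInvertible hO)
  have hfl : FlatMod.IsFlatOver f (Coh.structureModule X) :=
    Groth.Agent.Lib.R2H4TrivInt.isFlatOver_of_isInvertible f _ hO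
  have hopen := isOpen_fiberRank_lt f (Coh.structureModule X) hfp hfl 0 2
  have hle : ∀ t : S, CohIII.fiberRank f (Coh.structureModule X) 0 t < 2 := by
    by_contra hcon
    push Not at hcon
    obtain ⟨t, ht⟩ := hcon
    have hZ : IsClosed ({t : S | CohIII.fiberRank f (Coh.structureModule X) 0 t < 2}ᶜ) :=
      hopen.isClosed_compl
    obtain ⟨z, hz, hzc⟩ := hZ.exists_closed_singleton
      ⟨t, fun (h : CohIII.fiberRank f (Coh.structureModule X) 0 t < 2) => by omega⟩
    apply hz
    change CohIII.fiberRank f (Coh.structureModule X) 0 z < 2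
    rw [fiberRank_structure, hcl z hzc]
    norm_num
  have h1 := hle y
  rw [fiberRank_structure] at h1
  haveI := finite_fiber f y
  obtain ⟨x⟩ := hne y
  haveI : Nonempty ((⊤ : (f.fiber y).Opens)) := ⟨⟨x, trivial⟩⟩
  haveI : Nontrivial Γ(f.fiber y, ⊤) := Scheme.component_nontrivial _ _
  have h2 : 0 < Module.finrank (S.residueField y) Γ(f.fiber y, ⊤) := Module.finrank_pos
  omega

open Groth.Agent.Lib.R2H4TensorPows Groth.Agent.Lib.Helper23.PB in
/-- **two invertible modules isomorphic on all fibres differ by a pullback from the base** (reduced base,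
`h⁰(X_y, O) = 1`) -/
theorem exists_twist_of_fibrewise_iso {X Y : Scheme.{u}} (f : X ⟶ Y) [IsProper f]
    [LocallyOfFinitePresentation f] [Flat f] [IsReduced Y]
    (h0 : ∀ y : Y, Module.finrank (Y.residueField y) Γ(f.fiber y, ⊤) = 1)
    (L M : X.Modules) (hL : PicF.IsInvertible L) (hM : PicF.IsInvertible M)
    (hLM : ∀ y : Y, Nonempty ((Scheme.Modules.pullback (f.fiberι y)).obj L ≅
      (Scheme.Modules.pullback (f.fiberι y)).obj M)) :
    ∃ E : Y.Modules, PicF.IsInvertible E ∧
      Nonempty (L ≅ CohB1.tensorMod M ((Scheme.Modules.pullback f).obj E)) := by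
  obtain ⟨M', hM', ⟨eM⟩⟩ := Groth.Agent.Lib.R2H4InvExists.exists_inverse M hM
  let N : X.Modules := CohB1.tensorMod L M'
  have hN : PicF.IsInvertible N := Groth.Agent.Lib.Helper23.SecTw.isInvertible_tensorMod hL hM'
  have htriv : ∀ y : Y, Nonempty (CohIII.fiberMod f N y ≅ Coh.structureModule (f.fiber y)) := by
    intro y
    obtain ⟨ey⟩ := hLM y
    exact ⟨Groth.Agent.Lib.Helper23.RestrTensor.pullbackTensorIso L M' (f.fiberι y) ≪≫
      tIso ey (Iso.refl _) ≪≫
      (Groth.Agent.Lib.Helper23.RestrTensor.pullbackTensorIso M M' (f.fiberι y)).symm ≪≫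
      (Scheme.Modules.pullback (f.fiberι y)).mapIso eM ≪≫ pullbackUnitIso (f.fiberι y)⟩
  obtain ⟨hinv, hcounit⟩ := Groth.Agent.Lib.R2H4FibTriv.main f h0 N hN htriv
  haveI := hcounit
  refine ⟨(pushforward f).obj N, hinv, ⟨?_⟩⟩
  exact (lUnit L).symm ≪≫ tIso eM.symm (Iso.refl L) ≪≫ tAssoc M M' L ≪≫
    tIso (Iso.refl M) (tComm M' L ≪≫
      (asIso ((pullbackPushforwardAdjunction f).counit.app N)).symm)

end Groth.Agent.Lib.R2H4FibSemi
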