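import Mathlib
import Groth.Prelude
import Groth.Agent.Lib.R2H1TwistBC
import Groth.Agent.Lib.R2H1NonSpecial
import Groth.Agent.Lib.R2H1VBSub
import Groth.Agent.Lib.R2H4FieldBC
import Groth.Agent.Lib.R2H4FibSemi
import Groth.Agent.Lib.R2H2Bc0Bij
import Groth.Agent.Lib.R2H2BcNear
import Groth.Agent.Lib.H9Models

/-!
# `H¹` vanishing in degree `> 2g - 2` on smooth proper curves over arbitrary fields, and in families (helper4)

* `subsingleton_H1_of_deg`: `X` smooth proper geometrically connected curve over a field `k` (not necessarily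
  algebraically closed), `L` invertible with `deg L ≥ 2g - 1`; then `H¹(X, L) = 0` (base change to an algebraic
  closure and helper1's `s1522`);
* `fibre_H1_vanish`, `main`: the relative version (S7824).
-/

set_option autoImplicit false
set_option linter.style.haveILetI false
set_option linter.unusedSectionVars false
universe u
open CategoryTheory CategoryTheory.Limits AlgebraicGeometry TopologicalSpace Opposite
open AlgebraicGeometry.Scheme.Modules

noncomputable section

namespace Groth.Agent.Lib.R2H4CurveH1Van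

section Field

variable (k : Type u) [Field k] (X : Scheme.{u}) [X.Over (Spec (CommRingCat.of k))]
  [IsProper (X ↘ Spec (CommRingCat.of k))] [Smooth (X ↘ Spec (CommRingCat.of k))]
  [GeometricallyConnected (X ↘ Spec (CommRingCat.of k))]

/-- **`H¹(X, L) = 0` for `deg L ≥ 2g - 1`** on a smooth proper geometrically connected curve over any field -/
theorem subsingleton_H1_of_deg (hdim : topologicalKrullDim X = 1) (L : X.Modules)
    (hL : PicF.IsInvertible L)
    (hdeg : 2 * (Curv2.genus k X : ℤ) - 1 ≤ Curv2.deg k X L 1) :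
    Subsingleton (Coh.HH X L 1) := by
  haveI : IsIntegral X := Groth.Agent.Lib.R2H1.VBSub.isIntegral_of_smooth_geomConn k X
  let K := AlgebraicClosure k
  let XK : Scheme.{u} := pullback (X ↘ Spec (CommRingCat.of k))
    (Spec.map (CommRingCat.ofHom (algebraMap k K)))
  letI : XK.Over (Spec (CommRingCat.of K)) := ⟨pullback.snd _ _⟩
  let g : XK ⟶ X := pullback.fst _ _
  have hpb : IsPullback g (XK ↘ Spec (CommRingCat.of K)) (X ↘ Spec (CommRingCat.of k))
      (Spec.map (CommRingCat.ofHom (algebraMap k K))) := IsPullback.of_hasPullback _ _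
  obtain ⟨hP, -, hI, hd⟩ := Groth.Agent.Lib.R2H1.TwistBC.bc_facts k X K XK g hpb hdim
  haveI := hP
  haveI := hI
  have cL : Coh.IsCoh L := Groth.Agent.Lib.R2H1.CurveDegSec.isCoh_of_isInvertible L hL
  have hdeg' := Groth.Agent.Lib.R2H1.TwistBC.deg_pullback k X K XK g hpb L hL
  have hgen : Curv2.genus K XK = Curv2.genus k X := by
    unfold Curv2.genus
    exact Groth.Agent.Lib.R2H4BCGlue.finrank_eq_of_bc
      (Groth.Agent.Lib.R2H4BCGlue.structure_bc g 1
        (Groth.Agent.Lib.R2H4FieldBC.fieldBC k K X XK g hpb _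
          (Groth.Agent.Lib.R2H4BCGlue.isCoh_structureModule X) 1))
  have h1 : Subsingleton (Coh.HH XK ((Scheme.Modules.pullback g).obj L) 1) :=
    Groth.Agent.Lib.R2H1.NonSpecial.s1522 K XK hd _
      (Groth.Agent.Lib.Helper23.PB.isInvertible_pullback g L hL) (by rw [hdeg', hgen]; exact hdeg)
  exact (Groth.Agent.Lib.R2H4BCGlue.subsingleton_iff_of_bc
    (Groth.Agent.Lib.R2H4FieldBC.fieldBC k K X XK g hpb L cL 1)).1 h1

end Field

section Family

open Groth.Agent.Lib.R2H2.FibRank

variable {C S : Scheme.{u}} (f : C ⟶ S) [Smooth f] [IsProper f] [GeometricallyConnected f]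

/-- `h⁰(C_s, O) = 1` on the fibres of a smooth proper morphism with geometrically connected fibres -/
theorem fiberRank_structure_zero (s : S) : CohIII.fiberRank f (Coh.structureModule C) 0 s = 1 := by
  rw [Groth.Agent.Lib.R2H4FibSemi.fiberRank_structure]
  refine (Groth.Agent.Lib.H9FibOne.isIso_appTop_iff_finrank f s).1 ?_
  haveI : IsProper (f.fiberToSpecResidueField s) :=
    inferInstanceAs (IsProper (pullback.snd f (S.fromSpecResidueField s)))
  haveI : Smooth (f.fiberToSpecResidueField s) :=
    inferInstanceAs (Smooth (pullback.snd f (S.fromSpecResidueField s)))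
  haveI : GeometricallyConnected (f.fiberToSpecResidueField s) :=
    MorphismProperty.pullback_snd (P := @GeometricallyConnected) _ _ inferInstance
  haveI : GeometricallyReduced (f.fiberToSpecResidueField s) :=
    Groth.Agent.Lib.H9SteinSm.geometricallyReduced_of_smooth _
  exact Groth.Agent.Lib.H9Models.isIso_appTop_of_geometricallyConnected (S.residueField s)
    (f.fiberToSpecResidueField s)

/-- **fibrewise `H¹` vanishing in degree `> 2g - 2`** -/
theorem fibre_H1_vanish (L : C.Modules) (hL : PicF.IsInvertible L) (s : S)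
    (hdim : topologicalKrullDim ↥(f.fiber s) = 1)
    (hdeg : ((CohIII.fiberRank f L 0 s : ℤ) - CohIII.fiberRank f L 1 s) -
        (1 - (CohIII.fiberRank f (Coh.structureModule C) 1 s : ℤ)) >
      2 * (CohIII.fiberRank f (Coh.structureModule C) 1 s : ℤ) - 2) :
    Subsingleton (CohIII.fiberH f L s 1) := by
  letI := CohIII.fiberOver f s
  haveI : IsProper ((f.fiber s) ↘ Spec (CommRingCat.of (S.residueField s))) :=
    inferInstanceAs (IsProper (pullback.snd f (S.fromSpecResidueField s)))
  haveI : Smooth ((f.fiber s) ↘ Spec (CommRingCat.of (S.residueField s))) :=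
    inferInstanceAs (Smooth (pullback.snd f (S.fromSpecResidueField s)))
  haveI : GeometricallyConnected ((f.fiber s) ↘ Spec (CommRingCat.of (S.residueField s))) :=
    MorphismProperty.pullback_snd (P := @GeometricallyConnected) f (S.fromSpecResidueField s)
      inferInstance
  have hLs : PicF.IsInvertible (CohIII.fiberMod f L s) :=
    Groth.Agent.Lib.Helper23.PB.isInvertible_pullback (f.fiberι s) L hL
  have hO := Groth.Agent.Lib.Helper23.TensorUnit.isInvertible_structureModule (f.fiber s)
  -- the structure sheaf of the fibre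
  let ε : CohIII.fiberMod f (Coh.structureModule C) s ≅ Coh.structureModule (f.fiber s) :=
    Groth.Agent.Lib.Helper23.PB.pullbackUnitIso (f.fiberι s)
  have hO0 : Module.finrank (S.residueField s)
      (Coh.HH (f.fiber s) (Coh.structureModule (f.fiber s)) 0) = 1 := by
    rw [← (HHLinEquiv ε 0).finrank_eq]
    exact fiberRank_structure_zero f s
  have hO1 : Module.finrank (S.residueField s)
      (Coh.HH (f.fiber s) (Coh.structureModule (f.fiber s)) 1) =
      CohIII.fiberRank f (Coh.structureModule C) 1 s := by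
    rw [← (HHLinEquiv ε 1).finrank_eq]
    rfl
  have e1 := Groth.Agent.Lib.R2H1.CurveEuler.euler_eq_h0_sub_h1 (S.residueField s) (f.fiber s)
    hdim.le (CohIII.fiberMod f L s)
    (Groth.Agent.Lib.Helper23.SecTw.isQuasicoherent_of_isInvertible _ hLs)
  have e2 := Groth.Agent.Lib.R2H1.CurveEuler.euler_eq_h0_sub_h1 (S.residueField s) (f.fiber s)
    hdim.le (Coh.structureModule (f.fiber s))
    (Groth.Agent.Lib.Helper23.SecTw.isQuasicoherent_of_isInvertible _ hO)
  refine subsingleton_H1_of_deg (S.residueField s) (f.fiber s) hdim (CohIII.fiberMod f L s) hLs ?_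
  unfold Curv2.deg Curv2.genus
  rw [e1, e2, hO0, hO1]
  have a0 : Module.finrank (S.residueField s) (Coh.HH (f.fiber s) (CohIII.fiberMod f L s) 0) =
    CohIII.fiberRank f L 0 s := rfl
  have a1 : Module.finrank (S.residueField s) (Coh.HH (f.fiber s) (CohIII.fiberMod f L s) 1) =
    CohIII.fiberRank f L 1 s := rfl
  rw [a0, a1]
  push_cast
  omega

/-- **S7824** -/
theorem main (hdim : ∀ s : S, topologicalKrullDim ↥(f.fiber s) = 1) (L : C.Modules)
    (hL : PicF.IsInvertible L)
    (hdeg : ∀ s : S, ((CohIII.fiberRank f L 0 s : ℤ) - CohIII.fiberRank f L 1 s) -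
        (1 - (CohIII.fiberRank f (Coh.structureModule C) 1 s : ℤ)) >
      2 * (CohIII.fiberRank f (Coh.structureModule C) 1 s : ℤ) - 2)
    [HasInjectiveResolutions C.Modules] :
    IsZero ((Coh.Rpush f 1).obj L) ∧ FlatMod.IsFinLocFree ((Coh.push f).obj L) ∧
      ∀ s : S, CohIII.fiberRank f L 1 s = 0 := by
  haveI : L.IsQuasicoherent := Groth.Agent.Lib.Helper23.SecTw.isQuasicoherent_of_isInvertible L hL
  have hfp : CohB1.IsFP L := Groth.Agent.Lib.Helper2.LocFree.isFP_of_isFinLocFree L
    (Groth.Agent.Helper18PBUnit.isFinLocFree_of_isInvertible hL)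
  have hfl : FlatMod.IsFlatOver f L := Groth.Agent.Lib.R2H4TrivInt.isFlatOver_of_isInvertible f L hL
  have hvan : ∀ s : S, Subsingleton (CohIII.fiberH f L s 1) := fun s =>
    fibre_H1_vanish f L hL s (hdim s) (hdeg s)
  refine ⟨?_, ?_, fun s => ?_⟩
  · have h0 := Groth.Agent.Lib.R2H2.BcNear.isZero_restrict_of_forall f L hfp hfl ⊤ 1
      (fun t _ => hvan t)
    exact Groth.Agent.Lib.Helper23.ModLocal.isZero_of_isZero_restrict
      (fun _ : Unit => ((⊤ : S.Opens) : Scheme.{u})) (fun _ => (⊤ : S.Opens).ι)
      (fun x => ⟨(), ⟨x, trivial⟩, rfl⟩) (fun _ => h0)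
  · refine Groth.Agent.Lib.R2H2.LocalCBC.isFinLocFree_of_restrict_cover _ (fun s => ?_)
    obtain ⟨U, hsU, hU, -⟩ :=
      Groth.Agent.Lib.R2H2.Bc0Bij.exists_nhd_push_of_fiberH_one f L hfp hfl s (hvan s)
    exact ⟨U, hsU, hU⟩
  · haveI := hvan s
    exact Module.finrank_zero_of_subsingleton

end Family

end Groth.Agent.Lib.R2H4CurveH1Van
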