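import Mathlib
import Groth.Agent.Lib.R2H1WeierAlg
import Groth.Agent.Lib.R2H1PoleFilt
import Groth.Agent.Lib.R2H1ProjChart
import Groth.Agent.Lib.R2H1CurveAffProj
import Groth.Agent.Lib.R2H1RegPoint
import Groth.Agent.Lib.Helper14FtPts
import Groth.Agent.Lib.R2H1TwistBC
import Groth.Agent.Lib.R2H4CurveH1Van
import Groth.Agent.Lib.Helper11SmInt
import Groth.Agent.Lib.R2H1HypIdeal
set_option backward.isDefEq.respectTransparency.types false

/-!
# Weierstrass form of a pointed genus one curve (helper1)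

* vanishingIdeal_ideal_eq, exists_local_data : near a closed point p with L tensor I_p iso O, the canonical section of L is t e with e a generator and t generating the ideal of p on an affine W
* isIntegral_of_connected, exists_pole_data : the data (L = O(p), sigma, W, e, t) for a smooth proper connected curve of genus one with rational point, with h0(L^m) = m
* chart_main : analysis of one chart (surjectivity and kernel) at the level of functions
* exists_weierstrass_embedding : abstract pole data + affineness give a closed immersion into P^2 with ideal generated by a Weierstrass cubic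
* weierstrass : the closed immersion E -> P^2_k for a pointed genus one curve (S7841)
-/

set_option autoImplicit false
set_option linter.style.haveILetI false
set_option linter.unusedSectionVars false
universe u v

open CategoryTheory CategoryTheory.Limits AlgebraicGeometry TopologicalSpace Opposite

namespace Groth.Agent.Lib.R2H1.WeierGeom

section Part1

open Groth.Agent.Lib.Helper23.SecTw Groth.Agent.Lib.Helper6 Groth.Agent.Lib.Helper23.GenLocus
open Groth.Agent.Lib.R2H1.CurveAffProj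
open Groth.Agent.Lib.Helper23.Extend Groth.Agent.Lib.Helper23.IdealSec

variable {X : Scheme.{u}}

/-- the vanishing ideal of a closed point on an affine open is the prime of the point -/
theorem vanishingIdeal_ideal_eq (p : X) (hp : IsClosed ({p} : Set X)) (W : X.Opens)
    (hW : IsAffineOpen W) (hpW : p ∈ W) :
    (Scheme.IdealSheafData.vanishingIdeal ⟨{p}, hp⟩).ideal ⟨W, hW⟩ =
      (hW.primeIdealOf ⟨p, hpW⟩).asIdeal := by
  rw [Scheme.IdealSheafData.vanishingIdeal_ideal]
  have : (hW.fromSpec ⁻¹' ((⟨{p}, hp⟩ : Closeds X) : Set X)) = {hW.primeIdealOf ⟨p, hpW⟩} := by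
    ext q
    simp only [Set.mem_preimage, Closeds.coe_mk, Set.mem_singleton_iff]
    constructor
    · intro h
      exact hW.fromSpec.isOpenEmbedding.injective
        (h.trans (hW.fromSpec_primeIdealOf ⟨p, hpW⟩).symm)
    · rintro rfl
      exact hW.fromSpec_primeIdealOf ⟨p, hpW⟩
  exact (congrArg PrimeSpectrum.vanishingIdeal this).trans
    (PrimeSpectrum.vanishingIdeal_singleton _)

/-- local description of the canonical section of `O(p)` near `p` -/
theorem exists_local_data (p : X) (hp : IsClosed ({p} : Set X)) (L : X.Modules)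
    (hL : PicF.IsInvertible L)
    (eJ : CohB1.tensorMod L (ClSub.idealMod (Scheme.IdealSheafData.vanishingIdeal ⟨{p}, hp⟩)) ≅
      Coh.structureModule X) :
    ∃ (W : X.Opens) (e : Γ(L, W)) (t : Γ(X, W)), IsAffineOpen W ∧ p ∈ W ∧ IsGen L W e ∧
      sv (canonSec _ L eJ) W = t • e ∧ (∀ c : Γ(X, W), p ∉ X.basicOpen c → t ∣ c) ∧
      p ∉ X.basicOpen t := by
  obtain ⟨D, hD⟩ : ∃ D : X.IdealSheafData, D = Scheme.IdealSheafData.vanishingIdeal ⟨{p}, hp⟩ :=
    ⟨_, rfl⟩
  obtain ⟨W₀, e₀, hyW₀, hgen₀⟩ := exists_gen L hL p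
  obtain ⟨W, hW, hpW, hWW₀⟩ : ∃ W : X.Opens, IsAffineOpen W ∧ p ∈ W ∧ W ≤ W₀ := by
    obtain ⟨W, hW, hyW, hle⟩ := Opens.isBasis_iff_nbhd.1 X.isBasis_affineOpens hyW₀
    exact ⟨W, hW, hyW, hle⟩
  have hgen : IsGen L W (res L hWW₀ e₀) := hgen₀.mono hWW₀
  have hbij := Groth.Agent.Lib.Helper27TmLeft.bijective_tm_of_isGen_left L
    (ClSub.idealMod (Scheme.IdealSheafData.vanishingIdeal ⟨{p}, hp⟩)) W _ hgen W le_rfl
  obtain ⟨j', hj'⟩ := hbij.2 (sv eJ.inv W)
  simp only [res_self] at hj'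
  have h2 : sv (canonSec _ L eJ) W =
      ofS W ((ClSub.idealModι (Scheme.IdealSheafData.vanishingIdeal ⟨{p}, hp⟩)).app W j') •
        res L hWW₀ e₀ := by
    have h1 : sv (canonSec _ L eJ) W = (SecTwist.unitorR L).hom.app W
        (((DCoh.tensorBi.obj L).map
          (ClSub.idealModι (Scheme.IdealSheafData.vanishingIdeal ⟨{p}, hp⟩))).app W
            (sv eJ.inv W)) := rfl
    rw [h1, ← hj', Groth.Agent.Lib.R2H1.CurveAmple.tensorBi_map_tm]
    exact SecTwist.unitorR_tmul L W (res L hWW₀ e₀)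
      (ofS W ((ClSub.idealModι (Scheme.IdealSheafData.vanishingIdeal ⟨{p}, hp⟩)).app W j'))
  have hpD : p ∈ (Scheme.IdealSheafData.vanishingIdeal ⟨{p}, hp⟩).support := by
    have : p ∈ ((Scheme.IdealSheafData.vanishingIdeal ⟨{p}, hp⟩).support : Set X) := by
      rw [Scheme.IdealSheafData.coe_support_vanishingIdeal]
      exact Set.mem_singleton p
    exact this
  refine ⟨W, res L hWW₀ e₀, _, hW, hpW, hgen, h2, ?_, ?_⟩
  · intro c hc
    have hcI : c ∈ (Scheme.IdealSheafData.vanishingIdeal ⟨{p}, hp⟩).ideal ⟨W, hW⟩ := by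
      rw [vanishingIdeal_ideal_eq p hp W hW hpW]
      by_contra hcon
      exact hc ((Groth.Agent.Lib.Helper2.mem_basicOpen_iff_notMem_primeIdealOf hW p hpW c).2 hcon)
    obtain ⟨j, hj⟩ := exists_ι_eq _ ⟨W, hW⟩ c hcI
    obtain ⟨a, ha⟩ : ∃ a : Γ(X, W), a = ofS W (eJ.hom.app W (tm L _ W (res L hWW₀ e₀) j)) :=
      ⟨_, rfl⟩
    have h3 : tm L _ W (res L hWW₀ e₀) j = a • sv eJ.inv W := by
      rw [← app_toS, ha, toS_ofS]
      have := congrArg (fun φ => φ.app W (tm L _ W (res L hWW₀ e₀) j)) eJ.hom_inv_id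
      exact this.symm
    rw [← hj', ← tm_smul_right] at h3
    have h4 : j = a • j' := hbij.1 (by simpa only [res_self] using h3)
    refine ⟨a, ?_⟩
    have h5 : toS W c = a • (ClSub.idealModι
        (Scheme.IdealSheafData.vanishingIdeal ⟨{p}, hp⟩)).app W j' := by
      rw [← hj, h4, Scheme.Modules.Hom.app_smul]
    have h6 : a • (ClSub.idealModι (Scheme.IdealSheafData.vanishingIdeal ⟨{p}, hp⟩)).app W j' =
        toS W (a * ofS W ((ClSub.idealModι
          (Scheme.IdealSheafData.vanishingIdeal ⟨{p}, hp⟩)).app W j')) := rfl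
    have h7 := congrArg (ofS W) (h5.trans h6)
    rw [ofS_toS, ofS_toS] at h7
    rw [h7, mul_comm]
  · exact not_mem_basicOpen_of_mem_support _ ⟨W, hW⟩ _ (ι_mem_ideal _ ⟨W, hW⟩ j') p hpW hpD

end Part1

section Part2

open Groth.Agent.Lib.Helper23.SecTw Groth.Agent.Lib.Helper6 Groth.Agent.Lib.Helper23.GenLocus
open Groth.Agent.Lib.R2H1.CurveAffProj
open Groth.Agent.Lib.R2H1.CurveEuler Groth.Agent.Lib.R2H1.CurveDegSec
open Groth.Agent.Lib.R2H1.GenusLe

variable (k : Type u) [Field k] (E : Scheme.{u}) [E.Over (Spec (CommRingCat.of k))]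
    [IsProper (E ↘ (Spec (CommRingCat.of k)))] [Smooth (E ↘ (Spec (CommRingCat.of k)))]

include k in
theorem isIntegral_of_connected [ConnectedSpace E] : IsIntegral E := by
  haveI := isNoetherian_of_proper k E
  exact Groth.Agent.Lib.Helper11SmInt.isIntegral_of_connected_of_isDomain_stalk
    (fun x => Groth.Agent.Lib.Helper11SmInt.isDomain_stalk_of_smooth k
      (E ↘ Spec (CommRingCat.of k)) x)

/-- the geometric data attached to a pointed genus one curve -/
theorem exists_pole_data [IsIntegral E] (hdim : topologicalKrullDim E = 1)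
    (o : Spec (CommRingCat.of k) ⟶ E) (ho : o ≫ (E ↘ (Spec (CommRingCat.of k))) = 𝟙 _)
    (hg : Curv2.genus k E = 1) :
    ∃ (L : E.Modules) (_ : PicF.IsInvertible L) (σ : Coh.structureModule E ⟶ L) (W : E.Opens)
      (e : Γ(L, W)) (t : Γ(E, W)) (p : E),
      IsAffineOpen W ∧ p ∈ W ∧ IsGen L W e ∧ sv σ W = t • e ∧
      (∀ c : Γ(E, W), p ∉ E.basicOpen c → t ∣ c) ∧ p ∉ E.basicOpen t ∧
      ((CohB1.genLocus L σ : Set E) = {p}ᶜ) ∧ IsClosed ({p} : Set E) ∧
      Curv2.deg k E L 1 = 1 ∧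
      Module.finrank k (Coh.HH E (CohB1.tensorPow L 0) 0) = 1 ∧
      (∀ m : ℕ, 1 ≤ m → Module.finrank k (Coh.HH E (CohB1.tensorPow L m) 0) = m) := by
  haveI := isNoetherian_of_proper k E
  obtain ⟨-, hQ1, -, -⟩ := Groth.Agent.Lib.R2H1.TwistBC.section_facts k E hdim o ho
  haveI : IsClosedImmersion o := by
    haveI : IsClosedImmersion (o ≫ (E ↘ Spec (CommRingCat.of k))) := by rw [ho]; infer_instance
    exact IsClosedImmersion.of_comp o (E ↘ Spec (CommRingCat.of k))
  obtain ⟨pt, hpt⟩ : ∃ pt : Spec (CommRingCat.of k), pt = IsLocalRing.closedPoint k := ⟨_, rfl⟩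
  have huniq : ∀ a : Spec (CommRingCat.of k), a = pt := fun a =>
    @Subsingleton.elim (PrimeSpectrum k) inferInstance a pt
  have hrx : Set.range o = {o pt} := by
    ext z
    constructor
    · rintro ⟨a, rfl⟩
      rw [huniq a]; rfl
    · rintro rfl
      exact ⟨pt, rfl⟩
  have hpx : IsClosed ({o pt} : Set E) := hrx ▸ o.isClosedEmbedding.isClosed_range
  have hkx := Groth.Agent.Lib.R2H1.IsoP1D.ker_eq_vanishingIdeal o (o pt) hpx hrx
  rw [hkx] at hQ1
  haveI : IsRegularLocalRing (E.presheaf.stalk (o pt)) :=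
    Groth.Agent.Lib.Helper6.SmRegSch.isRegularLocalRing_stalk_of_smooth_over_field k E
      (E ↘ Spec (CommRingCat.of k)) _
  haveI : IsDiscreteValuationRing (E.presheaf.stalk (o pt)) :=
    Groth.Agent.Lib.R2LeadSmoothPSB.isDVR_of_regular_dim_one _
      (Groth.Agent.Lib.Helper8CurveEt.ringKrullDim_stalk_eq_one hdim (o pt) hpx)
  obtain ⟨L, hL, ⟨eJ⟩, hdegL⟩ :=
    Groth.Agent.Lib.R2H1.IsoP1D.exists_inverse_point k E hdim (o pt) hpx
  rw [hQ1] at hdegL
  obtain ⟨W, e, t, hW, hpW, hgen, hsv, hdiv, hpt'⟩ := exists_local_data (o pt) hpx L hL eJ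
  have hsupp : ((Scheme.IdealSheafData.vanishingIdeal ⟨{o pt}, hpx⟩).support : Set E) = {o pt} :=
    Scheme.IdealSheafData.coe_support_vanishingIdeal _
  have hU : (CohB1.genLocus L (canonSec _ L eJ) : Set E) = {o pt}ᶜ := by
    ext y
    simp only [SetLike.mem_coe, Set.mem_compl_iff]
    have hiff : y ∈ ({o pt} : Set E) ↔
        y ∈ (Scheme.IdealSheafData.vanishingIdeal ⟨{o pt}, hpx⟩).support := by
      rw [← SetLike.mem_coe, hsupp]
    rw [hiff]
    constructor
    · intro hy
      exact notMem_support_of_mem_genLocus_canonSec _ L hL eJ y hy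
    · intro hy
      exact mem_genLocus_canonSec _ L hL eJ y hy
  have hh0 : Module.finrank k (Coh.HH E (Coh.structureModule E) 0) = 1 :=
    Groth.Agent.Lib.R2H1.TwistBC.h0_structure_eq_one_of_section k E hdim o ho
  haveI : GeometricallyConnected (E ↘ Spec (CommRingCat.of k)) :=
    Groth.Agent.Lib.R2H1.TwistBC.geometricallyConnected_of_section k E hdim o ho
  have cO := isCoh_structureModule E
  have eO := euler_eq_h0_sub_h1 k E hdim.le _ cO.1
  have hχ : Curv2.euler k E (Coh.structureModule E) = 0 := by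
    unfold Curv2.genus at hg
    rw [eO, hh0, hg]; norm_num
  refine ⟨L, hL, canonSec _ L eJ, W, e, t, o pt, hW, hpW, hgen, hsv, hdiv, hpt', hU, hpx,
    by exact_mod_cast hdegL, hh0, ?_⟩
  intro m hm
  have hLm := isInvertible_tensorPow hL m
  have cLm := isCoh_of_isInvertible _ hLm
  have hdegm := Groth.Agent.Lib.R2H1.TwistBC.deg_tensorPow k E hdim L hL m
  rw [hdegL] at hdegm
  have hH1 : Subsingleton (Coh.HH E (CohB1.tensorPow L m) 1) := by
    apply Groth.Agent.Lib.R2H4CurveH1Van.subsingleton_H1_of_deg k E hdim _ hLm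
    rw [hdegm, hg]
    push_cast
    have : (1 : ℤ) ≤ m := by exact_mod_cast hm
    linarith
  have e1 := euler_eq_h0_sub_h1 k E hdim.le _ cLm.1
  have h1 : Module.finrank k (Coh.HH E (CohB1.tensorPow L m) 1) = 0 :=
    Module.finrank_zero_of_subsingleton
  unfold Curv2.deg at hdegm
  rw [hχ, e1, h1] at hdegm
  push_cast at hdegm
  have : (Module.finrank k (Coh.HH E (CohB1.tensorPow L m) 0) : ℤ) = m := by linarith
  exact_mod_cast this

end Part2

section Part3

open Groth.Agent.Lib.Helper23.SecTw Groth.Agent.Lib.Helper6 Groth.Agent.Lib.Helper23.GenLocus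
open Groth.Agent.Lib.R2H1.PicPn
open Groth.Agent.Lib.R2H1.PoleFilt
open Groth.Agent.Lib.R2H1.PoleFilt
open Groth.Agent.Lib.R2H1.PoleFilt
open Groth.Agent.Lib.R2H1.WeierAlg
open Groth.Agent.Lib.R2H1.WeierAlg
open Groth.Agent.Lib.R2H1.WeierAlg
open Groth.Agent.Lib.R2H1.ProjChart

variable {k : Type u} [Field k] {X : Scheme.{u}} [X.Over (Spec (CommRingCat.of k))]

attribute [local instance] algU

variable {U W : X.Opens} {t : Γ(X, W)}

/-- the analysis of one chart of the Weierstrass embedding, at the level of functions -/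
theorem chart_main [IsIntegral X] (hU : IsAffineOpen U) (hW : IsAffineOpen W)
    (hB : U ⊓ W = X.basicOpen t)
    (hF : IsPoleFiltration (Fil (k := k) U W t)) {x y : Γ(X, U)}
    (hx : Exact (Fil (k := k) U W t) x 1) (hy : Exact (Fil (k := k) U W t) y 2)
    (V : X.Opens) (z : Γ(X, U)) (hOV : X.basicOpen z ≤ V) (hUV : U ⊓ V ≤ X.basicOpen z)
    [Nonempty (X.basicOpen z : X.Opens)]
    (hcase : PoleLE U W t 2 z ∨ (W ≤ U ⊔ V ∧ PoleLE U W t 3 z))
    (ψ : MvPolynomial (Fin (2 + 1)) k →+* Γ(X, V))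
    (h0 : ∀ c, ψ (MvPolynomial.C c) =
      resf le_top (Coh.toGlobal (X ↘ Spec (CommRingCat.of k)) c))
    (hψX : ∀ j : Fin (2 + 1), resf (X.basicOpen_le z) (ev (k := k) x y (MvPolynomial.X j)) =
      resf (X.basicOpen_le z) z * resf hOV (ψ (MvPolynomial.X j))) :
    (∀ g : Γ(X, V), ∃ P, ψ P = g) ∧
      ∀ (m : ℕ) (P : MvPolynomial (Fin (2 + 1)) k), P.IsHomogeneous m →
        (ψ P = 0 ↔ ev (k := k) x y P = 0) := by
  have hscale : ∀ (m : ℕ) (P : MvPolynomial (Fin (2 + 1)) k), P.IsHomogeneous m →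
      resf (X.basicOpen_le z) (ev x y P) =
        resf (X.basicOpen_le z) z ^ m * resf hOV (ψ P) := by
    intro m P hP
    refine homog_scale_poly
      ((X.presheaf.map (homOfLE hOV).op).hom.comp ψ)
      ((X.presheaf.map (homOfLE (X.basicOpen_le z)).op).hom.comp (ev x y).toRingHom)
      (resf (X.basicOpen_le z) z) ?_ ?_ hP
    · intro c
      change resf _ (ev x y (MvPolynomial.C c)) = resf _ (ψ (MvPolynomial.C c))
      rw [h0, resf_resf]
      have : ev x y (MvPolynomial.C c) = algebraMap k Γ(X, U) c := by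
        rw [← MvPolynomial.algebraMap_eq]
        exact (ev x y).commutes c
      rw [this]
      change resf _ (strU k X U c) = _
      rw [strU_apply, resf_resf]
    · intro j
      exact hψX j
  have hzu : IsUnit (resf (X.basicOpen_le z) z) :=
    RingedSpace.isUnit_res_basicOpen X.toRingedSpace z
  have hinjU : Function.Injective (resf (X.basicOpen_le z) : Γ(X, U) → _) :=
    map_injective_of_isIntegral X (homOfLE (X.basicOpen_le z))
  have hinjV : Function.Injective (resf hOV : Γ(X, V) → _) :=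
    map_injective_of_isIntegral X (homOfLE hOV)
  refine ⟨fun g => ?_, fun m P hP => ⟨fun h => ?_, fun h => ?_⟩⟩
  · -- surjectivity
    obtain ⟨n, a, hna⟩ := exists_mul_pow_eq hU z (resf hOV g)
    -- find `N ≥ 1` and `a' ∈ F (3N)` with `g z^N = a'` on the overlap
    obtain ⟨N, hN, a', ha'F, ha'⟩ : ∃ (N : ℕ) (_ : 1 ≤ N) (a' : Γ(X, U)),
        a' ∈ Fil (k := k) U W t (3 * N) ∧
        resf hOV g * resf (X.basicOpen_le z) z ^ N = resf (X.basicOpen_le z) a' := by
      rcases hcase with hz2 | ⟨hVW, hz3⟩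
      · obtain ⟨m₀, hm₀⟩ := exists_poleLE hW hB a
        refine ⟨n + (m₀ + 1), by omega, a * z ^ (m₀ + 1), ?_, ?_⟩
        · have h1 : z ^ (m₀ + 1) ∈ Fil (k := k) U W t (2 * (m₀ + 1)) := by
            have := hF.mul_mem (a := 0) (b := 0) hF.one_mem hF.one_mem
            clear this
            induction (m₀ + 1) with
            | zero => simpa using hF.one_mem
            | succ q ih =>
              have := hF.mul_mem ih (show z ∈ Fil (k := k) U W t 2 from hz2)
              rw [pow_succ]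
              have e : 2 * q + 2 = 2 * (q + 1) := by ring
              rwa [e] at this
          have h2 := hF.mul_mem (show a ∈ Fil (k := k) U W t m₀ from hm₀) h1
          exact hF.mono_le (by omega) h2
        · rw [pow_add, ← mul_assoc, hna, resf_mul', resf_pow]
      · refine ⟨n + 1, by omega, a * z, ?_, ?_⟩
        · have e : 3 * (n + 1) = 3 * (n + 1) := rfl
          rw [e]
          apply poleLE_of_regular V hVW 3 (n + 1) z hz3 g (a * z)
          have h1 := congrArg (resf hUV) hna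
          rw [resf_mul', resf_pow, resf_resf, resf_resf, resf_resf] at h1
          rw [resf_mul', ← h1, pow_succ]
          ring
        · rw [pow_succ, ← mul_assoc, hna, resf_mul']
    obtain ⟨P, hP, hPa⟩ : ∃ P ∈ MvPolynomial.homogeneousSubmodule (Fin (2 + 1)) k N,
        (ev x y).toLinearMap P = a' := by
      have := map_ev_eq hF hx hy N hN
      rw [← this] at ha'F
      exact ha'F
    refine ⟨P, hinjV ?_⟩
    have h1 := hscale N P ((MvPolynomial.mem_homogeneousSubmodule _ _).mp hP)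
    have h2 : ev x y P = a' := hPa
    rw [h2, ← ha', mul_comm] at h1
    exact ((hzu.pow N).mul_left_cancel h1).symm
  · apply hinjU
    rw [hscale m P hP, h, resf_zero', resf_zero', mul_zero]
  · apply hinjV
    have h1 := hscale m P hP
    rw [h, resf_zero'] at h1
    rw [resf_zero']
    exact ((hzu.pow m).mul_left_cancel (by rw [mul_zero]; exact h1.symm))

end Part3

section Part4

open Groth.Agent.Lib.Helper23.SecTw Groth.Agent.Lib.Helper6 Groth.Agent.Lib.Helper23.GenLocus
open Groth.Agent.Lib.R2H1.PicPn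
open Groth.Agent.Lib.R2H1.PoleFilt
open Groth.Agent.Lib.R2H1.PoleFilt
open Groth.Agent.Lib.R2H1.PoleFilt
open Groth.Agent.Lib.R2H1.WeierAlg
open Groth.Agent.Lib.R2H1.WeierAlg
open Groth.Agent.Lib.R2H1.WeierAlg
open Groth.Agent.Lib.R2H1.WeierAlg
open Groth.Agent.Lib.R2H1.ProjChart

open Groth.Agent.Helper13ProjUP Groth.Agent.Helper13Dehom
open Groth.Agent.Lib.R2H1.HypIdeal

variable {k : Type u} [Field k] {X : Scheme.{u}} [X.Over (Spec (CommRingCat.of k))]

attribute [local instance] algU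

theorem nonempty_basicOpen [IsIntegral X] {U : X.Opens} (z : Γ(X, U)) (hz : z ≠ 0) :
    Nonempty (X.basicOpen z : X.Opens) := by
  by_contra h
  apply hz
  rw [← basicOpen_eq_bot_iff]
  ext w
  simp only [Opens.coe_bot, Set.mem_empty_iff_false, iff_false, SetLike.mem_coe]
  intro hw
  exact h ⟨⟨w, hw⟩⟩

variable (L : X.Modules) (σ : Coh.structureModule X ⟶ L)
variable (W : X.Opens) (e : Γ(L, W)) (hgen : IsGen L W e) (t : Γ(X, W)) (ht : sv σ W = t • e)

include hgen ht in
theorem exists_weierstrass_embedding [IsIntegral X] (hL : PicF.IsInvertible L)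
    (hW : IsAffineOpen W) (p : X) (hpW : p ∈ W)
    (hdiv : ∀ c : Γ(X, W), p ∉ X.basicOpen c → t ∣ c)
    (hUc : ∀ w : X, w ∉ CohB1.genLocus L σ → w = p)
    (hUa : IsAffineOpen (CohB1.genLocus L σ))
    (haff : ∀ s : Coh.structureModule X ⟶ CohB1.tensorPow L 3,
      IsAffineOpen (CohB1.genLocus _ s))
    (hF : IsPoleFiltration (Fil (k := k) (CohB1.genLocus L σ) W t)) :
    ∃ (a₁ a₂ a₃ a₄ a₆ : k) (r : X ⟶ Proj (CohB1.polyGrading 2 k)),
      r ≫ toBase (CohB1.polyGrading 2 k) = (X ↘ Spec (CommRingCat.of k)) ∧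
      IsClosedImmersion r ∧
      r.ker = hypI (⟨Wpoly a₁ a₂ a₃ a₄ a₆, Wpoly_mem a₁ a₂ a₃ a₄ a₆⟩ : LefPen.Form 2 k 3) := by
  classical
  obtain ⟨x, y, a₁, a₂, a₃, a₄, a₆, hx, hy, hrel⟩ := exists_weierstrass hF
  have hcov : CohB1.genLocus L σ ⊔ W = ⊤ := by
    rw [eq_top_iff]
    intro w _
    by_cases hw : w ∈ CohB1.genLocus L σ
    · exact Or.inl hw
    · exact Or.inr (hUc w hw ▸ hpW)
  have hB := genLocus_inf_eq_of_isGen L σ W e t hgen ht
  obtain ⟨sX, hsX⟩ := exists_of_poleLE L σ W e hgen t ht hcov 3 x (hF.mono 2 hx.1)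
  obtain ⟨sY, hsY⟩ := exists_of_poleLE L σ W e hgen t ht hcov 3 y hy.1
  have hM := isInvertible_tensorPow hL 3
  have hsZ : rho L σ 3 (SecTwist.powHom σ 3) = 1 := by
    symm
    apply rho_unique
    rw [one_smul]
    exact ((SecTwist.val_powHom σ 3 _).trans (pow_eq_pw σ 3 _)).symm
  -- the three sections and their coefficients
  obtain ⟨sec, hsecdef⟩ : ∃ sec : Fin (2 + 1) → (Coh.structureModule X ⟶ CohB1.tensorPow L 3),
      sec = ![sX, sY, SecTwist.powHom σ 3] := ⟨_, rfl⟩
  obtain ⟨z, hzdef⟩ : ∃ z : Fin (2 + 1) → Γ(X, CohB1.genLocus L σ), z = ![x, y, 1] := ⟨_, rfl⟩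
  have hsec : ∀ i, rho L σ 3 (sec i) = z i := by
    intro i
    rw [hsecdef, hzdef]
    fin_cases i
    · exact hsX
    · exact hsY
    · exact hsZ
  have hevX : ∀ i, ev (k := k) x y (MvPolynomial.X i) = z i := by
    intro i
    rw [hzdef]
    fin_cases i
    · exact ev_X0 x y
    · exact ev_X1 x y
    · exact ev_X2 x y
  have hz0 : ∀ i, z i ≠ 0 := by
    intro i
    rw [hzdef]
    fin_cases i
    · intro h0
      have h0' : x = 0 := h0
      apply hx.2
      rw [h0']
      exact Submodule.zero_mem _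
    · intro h0
      have h0' : y = 0 := h0
      apply hy.2
      rw [h0']
      exact Submodule.zero_mem _
    · exact hF.one_ne_zero'
  have hsec1 : sec 1 = sY := by rw [hsecdef]; rfl
  have hsec2 : sec 2 = SecTwist.powHom σ 3 := by rw [hsecdef]; rfl
  have hpY : p ∈ CohB1.genLocus _ sY :=
    mem_genLocus_of_not_poleLE L σ W e hgen t ht p hpW hdiv 2 sY (by rw [hsY]; exact hy.2)
  have hcase : ∀ i, PoleLE (CohB1.genLocus L σ) W t 2 (z i) ∨
      (W ≤ CohB1.genLocus L σ ⊔ CohB1.genLocus _ (sec i) ∧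
        PoleLE (CohB1.genLocus L σ) W t 3 (z i)) := by
    intro i
    rw [hzdef, hsecdef]
    fin_cases i
    · exact Or.inl hx.1
    · refine Or.inr ⟨?_, hy.1⟩
      intro w hw
      by_cases hwU : w ∈ CohB1.genLocus L σ
      · exact Or.inl hwU
      · right
        rw [hUc w hwU]
        exact hpY
    · exact Or.inl (hF.mono_le (Nat.zero_le 2) hF.one_mem)
  obtain ⟨s, hsdef⟩ : ∃ s : Fin (2 + 1) → ProjUP.Γm (CohB1.tensorPow L 3),
      s = fun i => sv (sec i) ⊤ := ⟨_, rfl⟩
  have hss : ∀ i, secHom _ (s i) = sec i := by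
    intro i
    rw [hsdef]
    exact Groth.Agent.Lib.R2H1.Hyperplane.secHom_sv _ _
  have hcovs : ∀ w : X, ∃ i, w ∈ CohB1.genLocus _ (secHom _ (s i)) := by
    intro w
    by_cases hw : w ∈ CohB1.genLocus L σ
    · refine ⟨2, ?_⟩
      rw [hss, hsec2, genLocus_powHom hL σ 3 (by norm_num)]
      exact hw
    · refine ⟨1, ?_⟩
      rw [hss, hsec1, hUc w hw]
      exact hpY
  obtain ⟨r, hrq, H⟩ := exists_mor_Pn' 2 (X ↘ Spec (CommRingCat.of k)) _ hM s hcovs
  -- the analysis of the charts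
  have main : ∀ i, ∃ (hV : CohB1.genLocus _ (secHom _ (s i)) =
        r ⁻¹ᵁ Proj.basicOpen (CohB1.polyGrading 2 k) (MvPolynomial.X i))
      (ψ : MvPolynomial (Fin (2 + 1)) k →+* Γ(X, CohB1.genLocus _ (secHom _ (s i)))),
      (∀ a, (r.appLE _ _ (le_of_eq hV)).hom (dehom (𝒜 := CohB1.polyGrading 2 k)
          (MvPolynomial.isHomogeneous_X k i) a) = ψ a) ∧
      (∀ g, ∃ P, ψ P = g) ∧
      ∀ (m : ℕ) (P : MvPolynomial (Fin (2 + 1)) k), P.IsHomogeneous m →
        (ψ P = 0 ↔ ev (k := k) x y P = 0) := by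
    intro i
    obtain ⟨hV, ψ, h0, h1, h2⟩ := H i
    have hgU := isGen_pw L _ (sv σ (CohB1.genLocus L σ)) (isGen_sv_genLocus L σ) 3
    have hzi : ∀ j, sv (secHom _ (s j)) (CohB1.genLocus L σ) =
        z j • pw L _ (sv σ (CohB1.genLocus L σ)) 3 := by
      intro j
      rw [hss, ← hsec, rho_spec]
    have hOi := genLocus_inf_eq_of_isGen _ (secHom _ (s i)) _ _ (z i) hgU (hzi i)
    have hOV : X.basicOpen (z i) ≤ CohB1.genLocus _ (secHom _ (s i)) := by
      rw [← hOi]; exact inf_le_left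
    have hUV : CohB1.genLocus L σ ⊓ CohB1.genLocus _ (secHom _ (s i)) ≤ X.basicOpen (z i) := by
      rw [← hOi, inf_comm]
    haveI := nonempty_basicOpen (z i) (hz0 i)
    have hcase' : PoleLE (CohB1.genLocus L σ) W t 2 (z i) ∨
        (W ≤ CohB1.genLocus L σ ⊔ CohB1.genLocus _ (secHom _ (s i)) ∧
          PoleLE (CohB1.genLocus L σ) W t 3 (z i)) := by
      rw [hss]; exact hcase i
    have hψX : ∀ j : Fin (2 + 1), resf (X.basicOpen_le (z i)) (ev (k := k) x y (MvPolynomial.X j)) =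
        resf (X.basicOpen_le (z i)) (z i) * resf hOV (ψ (MvPolynomial.X j)) := by
      intro j
      rw [hevX]
      have hG := hgU.mono (X.basicOpen_le (z i))
      apply (hG _ le_rfl).1
      simp only [res_self]
      have e1 := congrArg (res _ hOV) (h1 j)
      rw [res_smul, res_res, res_res, ← sv_secHom, ← sv_secHom] at e1
      have e2 := congrArg (res _ (X.basicOpen_le (z i))) (hzi i)
      have e3 := congrArg (res _ (X.basicOpen_le (z i))) (hzi j)
      rw [res_smul, res_sv] at e2 e3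
      rw [e2, e3, ← mul_smul] at e1
      rw [← e1, mul_comm]
    obtain ⟨hsurj, hker⟩ := chart_main hUa hW hB hF hx hy _ (z i) hOV hUV hcase' ψ h0 hψX
    exact ⟨hV, ψ, h2, hsurj, hker⟩
  have hci : IsClosedImmersion r := by
    refine isClosedImmersion_of_charts r (fun i => chartAff (r := 2) (k := k) i) iSup_chartAff
      (fun i => CohB1.genLocus _ (secHom _ (s i))) (fun i => (main i).1) (fun i => haff _)
      (fun i => ?_)
    obtain ⟨hV, ψ, h2, hsurj, -⟩ := main i
    intro g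
    obtain ⟨P, hP⟩ := hsurj g
    exact ⟨dehom (𝒜 := CohB1.polyGrading 2 k) (MvPolynomial.isHomogeneous_X k i) P,
      (h2 P).trans hP⟩
  refine ⟨a₁, a₂, a₃, a₄, a₆, r, hrq, hci, ?_⟩
  refine Scheme.IdealSheafData.ext_of_iSup_eq_top (chartAff (r := 2) (k := k)) iSup_chartAff
    (fun i => ?_)
  obtain ⟨hV, ψ, h2, -, hker⟩ := main i
  rw [hypI_ideal_chart, ker_ideal_eq_ker_appLE r (chartAff i) _ hV, deh_eq]
  have hW0 : ev (k := k) x y (Wpoly a₁ a₂ a₃ a₄ a₆) = 0 := by rw [ev_Wpoly, hrel, sub_self]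
  have hWh : (Wpoly a₁ a₂ a₃ a₄ a₆).IsHomogeneous 3 :=
    (MvPolynomial.mem_homogeneousSubmodule _ _).mp (Wpoly_mem a₁ a₂ a₃ a₄ a₆)
  apply le_antisymm
  · intro y' hy'
    obtain ⟨m, a, ha, rfl⟩ := exists_dehom_eq (𝒜 := CohB1.polyGrading 2 k)
      (MvPolynomial.isHomogeneous_X k i) y'
    rw [RingHom.mem_ker] at hy'
    have hy'' : ψ a = 0 := (h2 a).symm.trans hy'
    have h3 := (hker m a ((MvPolynomial.mem_homogeneousSubmodule _ _).mp ha)).1 hy''
    obtain ⟨b, hb⟩ := dvd_of_ev_eq_zero hF hx hy hrel m a ha h3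
    rw [hb, map_mul]
    exact Ideal.mul_mem_right _ _ (Ideal.subset_span rfl)
  · refine (Ideal.span_singleton_le_iff_mem _).mpr ?_
    exact RingHom.mem_ker.mpr ((h2 _).trans ((hker 3 _ hWh).2 hW0))

end Part4

section Part5

open Groth.Agent.Lib.Helper23.SecTw Groth.Agent.Lib.Helper6 Groth.Agent.Lib.Helper23.GenLocus
open Groth.Agent.Lib.R2H1.PoleFilt
open Groth.Agent.Lib.R2H1.PoleFilt
open Groth.Agent.Lib.R2H1.PoleFilt

open Groth.Agent.Lib.R2H1.WeierAlg
open Groth.Agent.Lib.R2H1.WeierAlg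

open Groth.Agent.Helper13ProjUP
open Groth.Agent.Lib.R2H1.HypIdeal
open Groth.Agent.Lib.R2H1.CurveEuler

attribute [local instance] algU

/-- Weierstrass form of a pointed genus one curve -/
theorem weierstrass (k : Type u) [Field k] (E : Scheme.{u}) [E.Over (Spec (CommRingCat.of k))]
    [IsProper (E ↘ (Spec (CommRingCat.of k)))] [Smooth (E ↘ (Spec (CommRingCat.of k)))]
    [ConnectedSpace E]
    (hdim : topologicalKrullDim E = 1) (o : Spec (CommRingCat.of k) ⟶ E)
    (ho : o ≫ (E ↘ (Spec (CommRingCat.of k))) = 𝟙 _)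
    (hg : Curv2.genus k E = 1) :
    ∃ (a₁ a₂ a₃ a₄ a₆ : k) (r : E ⟶ Proj (CohB1.polyGrading 2 k)),
      r ≫ toBase (CohB1.polyGrading 2 k) = (E ↘ Spec (CommRingCat.of k)) ∧
      IsClosedImmersion r ∧
      r.ker = hypI (⟨Wpoly a₁ a₂ a₃ a₄ a₆, Wpoly_mem a₁ a₂ a₃ a₄ a₆⟩ : LefPen.Form 2 k 3) := by
  haveI : IsIntegral E := isIntegral_of_connected k E
  haveI := isNoetherian_of_proper k E
  obtain ⟨L, hL, σ, W, e, t, p, hW, hpW, hgen, hsv, hdiv, hpt, hU, hpc, hdeg, h0, hpos⟩ :=
    exists_pole_data k E hdim o ho hg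
  have hUc : ∀ w : E, w ∉ CohB1.genLocus L σ → w = p := by
    intro w hw
    by_contra hne
    apply hw
    have : w ∈ (CohB1.genLocus L σ : Set E) := by
      rw [hU]
      exact hne
    exact this
  haveI : Nonempty (CohB1.genLocus L σ) := by
    refine ⟨⟨genericPoint E, ?_⟩⟩
    have : genericPoint E ∈ (CohB1.genLocus L σ : Set E) := by
      rw [hU]
      intro h
      rw [Set.mem_singleton_iff] at h
      apply Groth.Agent.Lib.R2H1.TwistBC.not_isClosed_genericPoint (T := E) hdim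
      rw [h]
      exact hpc
    exact this
  have hcov : CohB1.genLocus L σ ⊔ W = ⊤ := by
    rw [eq_top_iff]
    intro w _
    by_cases hw : w ∈ CohB1.genLocus L σ
    · exact Or.inl hw
    · exact Or.inr (hUc w hw ▸ hpW)
  have hF := isPoleFiltration (k := k) L σ W e hgen t hsv hL hcov p hpW hdiv hpt h0 hpos
  have hample1 : CohB1.IsAmple L :=
    (Groth.Agent.Lib.R2H1.CurveAmple.s1530 k E hdim L hL).2 (by rw [hdeg]; norm_num)
  have hUa : IsAffineOpen (CohB1.genLocus L σ) :=
    Groth.Agent.Lib.R2H3.GenLocAffine.isAffine_genLocus_of_universallyClosed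
      (E ↘ (Spec (CommRingCat.of k))) L hample1 σ
  have hM := isInvertible_tensorPow hL 3
  have hample3 : CohB1.IsAmple (CohB1.tensorPow L 3) := by
    refine (Groth.Agent.Lib.R2H1.CurveAmple.s1530 k E hdim _ hM).2 ?_
    rw [Groth.Agent.Lib.R2H1.TwistBC.deg_tensorPow k E hdim L hL 3, hdeg]
    norm_num
  have haff : ∀ s : Coh.structureModule E ⟶ CohB1.tensorPow L 3,
      IsAffineOpen (CohB1.genLocus _ s) := fun s =>
    Groth.Agent.Lib.R2H3.GenLocAffine.isAffine_genLocus_of_universallyClosed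
      (E ↘ (Spec (CommRingCat.of k))) _ hample3 s
  exact exists_weierstrass_embedding (k := k) L σ W e hgen t hsv hL hW p hpW hdiv hUc hUa haff hF

end Part5

end Groth.Agent.Lib.R2H1.WeierGeom
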