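import Mathlib
import Groth.Agent.Lib.R2H1WeierGeom
import Groth.Agent.Lib.R2H1PlaneChart
set_option backward.isDefEq.respectTransparency.types false

/-!
# Legendre form of genus one curves; general Weierstrass embedding (helper1)

* embedding_of_rel : the closed immersion into P^2 attached to ANY pair x, y of exact pole orders 2, 3 satisfying a Weierstrass relation (generalizes WeierGeom.exists_weierstrass_embedding)
* exists_pole_algebra : pointed genus one curve E gives (A, F) with IsPoleFiltration F and, for every Weierstrass relation in A, a closed immersion E -> P^2 with ideal generated by the cubic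
* complete_square, legendre_subst, exists_roots : algebra in a pole filtration
* wpoly (affine Weierstrass polynomial), dq2_Wpoly, pt_wpoly, pt_d0_wpoly, pt_d1_wpoly, wpoly_ne_zero
* smooth_of_closedImmersion : smoothness of E transfers to V_+(G) when E -> P^2 is a closed immersion with ideal hypI G
* roots_distinct, legendre (S7848)
-/

set_option autoImplicit false
set_option linter.style.haveILetI false
set_option linter.unusedSectionVars false
universe u v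

open CategoryTheory CategoryTheory.Limits AlgebraicGeometry TopologicalSpace Opposite

namespace Groth.Agent.Lib.R2H1.Legendre

section Part1

open Groth.Agent.Lib.Helper23.SecTw Groth.Agent.Lib.Helper6 Groth.Agent.Lib.Helper23.GenLocus
open Groth.Agent.Lib.R2H1.PicPn
open Groth.Agent.Lib.R2H1.PoleFilt
open Groth.Agent.Lib.R2H1.WeierAlg
open Groth.Agent.Lib.R2H1.ProjChart
open Groth.Agent.Lib.R2H1.WeierGeom
open Groth.Agent.Helper13ProjUP Groth.Agent.Helper13Dehom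
open Groth.Agent.Lib.R2H1.HypIdeal

variable {k : Type u} [Field k] {X : Scheme.{u}} [X.Over (Spec (CommRingCat.of k))]

attribute [local instance] algU

variable (L : X.Modules) (σ : Coh.structureModule X ⟶ L)
variable (W : X.Opens) (e : Γ(L, W)) (hgen : IsGen L W e) (t : Γ(X, W)) (ht : sv σ W = t • e)

include hgen ht in
theorem embedding_of_rel [IsIntegral X] (hL : PicF.IsInvertible L)
    (hW : IsAffineOpen W) (p : X) (hpW : p ∈ W)
    (hdiv : ∀ c : Γ(X, W), p ∉ X.basicOpen c → t ∣ c)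
    (hUc : ∀ w : X, w ∉ CohB1.genLocus L σ → w = p)
    (hUa : IsAffineOpen (CohB1.genLocus L σ))
    (haff : ∀ s : Coh.structureModule X ⟶ CohB1.tensorPow L 3,
      IsAffineOpen (CohB1.genLocus _ s))
    (hF : IsPoleFiltration (Fil (k := k) (CohB1.genLocus L σ) W t))
    (x y : Γ(X, CohB1.genLocus L σ)) (a₁ a₂ a₃ a₄ a₆ : k)
    (hx : Exact (Fil (k := k) (CohB1.genLocus L σ) W t) x 1)
    (hy : Exact (Fil (k := k) (CohB1.genLocus L σ) W t) y 2)
    (hrel : y ^ 2 + a₁ • (x * y) + a₃ • y = x ^ 3 + a₂ • x ^ 2 + a₄ • x + a₆ • (1 : Γ(X, CohB1.genLocus L σ))) :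
    ∃ (r : X ⟶ Proj (CohB1.polyGrading 2 k)),
      r ≫ toBase (CohB1.polyGrading 2 k) = (X ↘ Spec (CommRingCat.of k)) ∧
      IsClosedImmersion r ∧
      r.ker = hypI (⟨Wpoly a₁ a₂ a₃ a₄ a₆, Wpoly_mem a₁ a₂ a₃ a₄ a₆⟩ : LefPen.Form 2 k 3) := by
  classical
  have hcov : CohB1.genLocus L σ ⊔ W = ⊤ := by
    rw [eq_top_iff]
    intro w _
    by_cases hw : w ∈ CohB1.genLocus L σ
    · exact Or.inl hw
    · exact Or.inr (hUc w hw ▸ hpW)
  have hB := genLocus_inf_eq_of_isGen L σ W e t hgen ht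
  obtain ⟨sX, hsX⟩ := exists_of_poleLE L σ W e hgen t ht hcov 3 x (hF.mono 2 hx.1)
  obtain ⟨sY, hsY⟩ := exists_of_poleLE L σ W e hgen t ht hcov 3 y hy.1
  have hM := isInvertible_tensorPow hL 3
  have hsZ : rho L σ 3 (SecTwist.powHom σ 3) = 1 := by
    symm
    apply rho_unique
    rw [one_smul]
    exact ((SecTwist.val_powHom σ 3 _).trans (pow_eq_pw σ 3 _)).symm
  -- the three sections and their coefficients
  obtain ⟨sec, hsecdef⟩ : ∃ sec : Fin (2 + 1) → (Coh.structureModule X ⟶ CohB1.tensorPow L 3),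
      sec = ![sX, sY, SecTwist.powHom σ 3] := ⟨_, rfl⟩
  obtain ⟨z, hzdef⟩ : ∃ z : Fin (2 + 1) → Γ(X, CohB1.genLocus L σ), z = ![x, y, 1] := ⟨_, rfl⟩
  have hsec : ∀ i, rho L σ 3 (sec i) = z i := by
    intro i
    rw [hsecdef, hzdef]
    fin_cases i
    · exact hsX
    · exact hsY
    · exact hsZ
  have hevX : ∀ i, ev (k := k) x y (MvPolynomial.X i) = z i := by
    intro i
    rw [hzdef]
    fin_cases i
    · exact ev_X0 x y
    · exact ev_X1 x y
    · exact ev_X2 x y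
  have hz0 : ∀ i, z i ≠ 0 := by
    intro i
    rw [hzdef]
    fin_cases i
    · intro h0
      have h0' : x = 0 := h0
      apply hx.2
      rw [h0']
      exact Submodule.zero_mem _
    · intro h0
      have h0' : y = 0 := h0
      apply hy.2
      rw [h0']
      exact Submodule.zero_mem _
    · exact hF.one_ne_zero'
  have hsec1 : sec 1 = sY := by rw [hsecdef]; rfl
  have hsec2 : sec 2 = SecTwist.powHom σ 3 := by rw [hsecdef]; rfl
  have hpY : p ∈ CohB1.genLocus _ sY :=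
    mem_genLocus_of_not_poleLE L σ W e hgen t ht p hpW hdiv 2 sY (by rw [hsY]; exact hy.2)
  have hcase : ∀ i, PoleLE (CohB1.genLocus L σ) W t 2 (z i) ∨
      (W ≤ CohB1.genLocus L σ ⊔ CohB1.genLocus _ (sec i) ∧
        PoleLE (CohB1.genLocus L σ) W t 3 (z i)) := by
    intro i
    rw [hzdef, hsecdef]
    fin_cases i
    · exact Or.inl hx.1
    · refine Or.inr ⟨?_, hy.1⟩
      intro w hw
      by_cases hwU : w ∈ CohB1.genLocus L σ
      · exact Or.inl hwU
      · right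
        rw [hUc w hwU]
        exact hpY
    · exact Or.inl (hF.mono_le (Nat.zero_le 2) hF.one_mem)
  obtain ⟨s, hsdef⟩ : ∃ s : Fin (2 + 1) → ProjUP.Γm (CohB1.tensorPow L 3),
      s = fun i => sv (sec i) ⊤ := ⟨_, rfl⟩
  have hss : ∀ i, secHom _ (s i) = sec i := by
    intro i
    rw [hsdef]
    exact Groth.Agent.Lib.R2H1.Hyperplane.secHom_sv _ _
  have hcovs : ∀ w : X, ∃ i, w ∈ CohB1.genLocus _ (secHom _ (s i)) := by
    intro w
    by_cases hw : w ∈ CohB1.genLocus L σ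
    · refine ⟨2, ?_⟩
      rw [hss, hsec2, genLocus_powHom hL σ 3 (by norm_num)]
      exact hw
    · refine ⟨1, ?_⟩
      rw [hss, hsec1, hUc w hw]
      exact hpY
  obtain ⟨r, hrq, H⟩ := exists_mor_Pn' 2 (X ↘ Spec (CommRingCat.of k)) _ hM s hcovs
  -- the analysis of the charts
  have main : ∀ i, ∃ (hV : CohB1.genLocus _ (secHom _ (s i)) =
        r ⁻¹ᵁ Proj.basicOpen (CohB1.polyGrading 2 k) (MvPolynomial.X i))
      (ψ : MvPolynomial (Fin (2 + 1)) k →+* Γ(X, CohB1.genLocus _ (secHom _ (s i)))),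
      (∀ a, (r.appLE _ _ (le_of_eq hV)).hom (dehom (𝒜 := CohB1.polyGrading 2 k)
          (MvPolynomial.isHomogeneous_X k i) a) = ψ a) ∧
      (∀ g, ∃ P, ψ P = g) ∧
      ∀ (m : ℕ) (P : MvPolynomial (Fin (2 + 1)) k), P.IsHomogeneous m →
        (ψ P = 0 ↔ ev (k := k) x y P = 0) := by
    intro i
    obtain ⟨hV, ψ, h0, h1, h2⟩ := H i
    have hgU := isGen_pw L _ (sv σ (CohB1.genLocus L σ)) (isGen_sv_genLocus L σ) 3
    have hzi : ∀ j, sv (secHom _ (s j)) (CohB1.genLocus L σ) =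
        z j • pw L _ (sv σ (CohB1.genLocus L σ)) 3 := by
      intro j
      rw [hss, ← hsec, rho_spec]
    have hOi := genLocus_inf_eq_of_isGen _ (secHom _ (s i)) _ _ (z i) hgU (hzi i)
    have hOV : X.basicOpen (z i) ≤ CohB1.genLocus _ (secHom _ (s i)) := by
      rw [← hOi]; exact inf_le_left
    have hUV : CohB1.genLocus L σ ⊓ CohB1.genLocus _ (secHom _ (s i)) ≤ X.basicOpen (z i) := by
      rw [← hOi, inf_comm]
    haveI := nonempty_basicOpen (z i) (hz0 i)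
    have hcase' : PoleLE (CohB1.genLocus L σ) W t 2 (z i) ∨
        (W ≤ CohB1.genLocus L σ ⊔ CohB1.genLocus _ (secHom _ (s i)) ∧
          PoleLE (CohB1.genLocus L σ) W t 3 (z i)) := by
      rw [hss]; exact hcase i
    have hψX : ∀ j : Fin (2 + 1), resf (X.basicOpen_le (z i)) (ev (k := k) x y (MvPolynomial.X j)) =
        resf (X.basicOpen_le (z i)) (z i) * resf hOV (ψ (MvPolynomial.X j)) := by
      intro j
      rw [hevX]
      have hG := hgU.mono (X.basicOpen_le (z i))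
      apply (hG _ le_rfl).1
      simp only [res_self]
      have e1 := congrArg (res _ hOV) (h1 j)
      rw [res_smul, res_res, res_res, ← sv_secHom, ← sv_secHom] at e1
      have e2 := congrArg (res _ (X.basicOpen_le (z i))) (hzi i)
      have e3 := congrArg (res _ (X.basicOpen_le (z i))) (hzi j)
      rw [res_smul, res_sv] at e2 e3
      rw [e2, e3, ← mul_smul] at e1
      rw [← e1, mul_comm]
    obtain ⟨hsurj, hker⟩ := chart_main hUa hW hB hF hx hy _ (z i) hOV hUV hcase' ψ h0 hψX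
    exact ⟨hV, ψ, h2, hsurj, hker⟩
  have hci : IsClosedImmersion r := by
    refine isClosedImmersion_of_charts r (fun i => chartAff (r := 2) (k := k) i) iSup_chartAff
      (fun i => CohB1.genLocus _ (secHom _ (s i))) (fun i => (main i).1) (fun i => haff _)
      (fun i => ?_)
    obtain ⟨hV, ψ, h2, hsurj, -⟩ := main i
    intro g
    obtain ⟨P, hP⟩ := hsurj g
    exact ⟨dehom (𝒜 := CohB1.polyGrading 2 k) (MvPolynomial.isHomogeneous_X k i) P,
      (h2 P).trans hP⟩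
  refine ⟨r, hrq, hci, ?_⟩
  refine Scheme.IdealSheafData.ext_of_iSup_eq_top (chartAff (r := 2) (k := k)) iSup_chartAff
    (fun i => ?_)
  obtain ⟨hV, ψ, h2, -, hker⟩ := main i
  rw [hypI_ideal_chart, ker_ideal_eq_ker_appLE r (chartAff i) _ hV, deh_eq]
  have hW0 : ev (k := k) x y (Wpoly a₁ a₂ a₃ a₄ a₆) = 0 := by rw [ev_Wpoly, hrel, sub_self]
  have hWh : (Wpoly a₁ a₂ a₃ a₄ a₆).IsHomogeneous 3 :=
    (MvPolynomial.mem_homogeneousSubmodule _ _).mp (Wpoly_mem a₁ a₂ a₃ a₄ a₆)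
  apply le_antisymm
  · intro y' hy'
    obtain ⟨m, a, ha, rfl⟩ := exists_dehom_eq (𝒜 := CohB1.polyGrading 2 k)
      (MvPolynomial.isHomogeneous_X k i) y'
    rw [RingHom.mem_ker] at hy'
    have hy'' : ψ a = 0 := (h2 a).symm.trans hy'
    have h3 := (hker m a ((MvPolynomial.mem_homogeneousSubmodule _ _).mp ha)).1 hy''
    obtain ⟨b, hb⟩ := dvd_of_ev_eq_zero hF hx hy hrel m a ha h3
    rw [hb, map_mul]
    exact Ideal.mul_mem_right _ _ (Ideal.subset_span rfl)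
  · refine (Ideal.span_singleton_le_iff_mem _).mpr ?_
    exact RingHom.mem_ker.mpr ((h2 _).trans ((hker 3 _ hWh).2 hW0))

end Part1

section Part2

open Groth.Agent.Lib.Helper23.SecTw Groth.Agent.Lib.Helper6 Groth.Agent.Lib.Helper23.GenLocus
open Groth.Agent.Lib.R2H1.PoleFilt
open Groth.Agent.Lib.R2H1.WeierAlg
open Groth.Agent.Lib.R2H1.WeierGeom
open Groth.Agent.Helper13ProjUP
open Groth.Agent.Lib.R2H1.HypIdeal
open Groth.Agent.Lib.R2H1.CurveEuler

attribute [local instance] algU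

/-- the pole algebra of a pointed genus one curve together with the embedding theorem -/
theorem exists_pole_algebra (k : Type u) [Field k] (E : Scheme.{u}) [E.Over (Spec (CommRingCat.of k))]
    [IsProper (E ↘ (Spec (CommRingCat.of k)))] [Smooth (E ↘ (Spec (CommRingCat.of k)))]
    [ConnectedSpace E]
    (hdim : topologicalKrullDim E = 1) (o : Spec (CommRingCat.of k) ⟶ E)
    (ho : o ≫ (E ↘ (Spec (CommRingCat.of k))) = 𝟙 _)
    (hg : Curv2.genus k E = 1) :
    ∃ (A : Type u) (_ : CommRing A) (_ : Algebra k A) (F : ℕ → Submodule k A),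
      IsPoleFiltration F ∧ ∀ (x y : A) (a₁ a₂ a₃ a₄ a₆ : k), Exact F x 1 → Exact F y 2 →
        y ^ 2 + a₁ • (x * y) + a₃ • y = x ^ 3 + a₂ • x ^ 2 + a₄ • x + a₆ • (1 : A) →
        ∃ r : E ⟶ Proj (CohB1.polyGrading 2 k),
          r ≫ toBase (CohB1.polyGrading 2 k) = (E ↘ Spec (CommRingCat.of k)) ∧
          IsClosedImmersion r ∧
          r.ker = hypI (⟨Wpoly a₁ a₂ a₃ a₄ a₆, Wpoly_mem a₁ a₂ a₃ a₄ a₆⟩ : LefPen.Form 2 k 3) := by
  haveI : IsIntegral E := isIntegral_of_connected k E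
  haveI := isNoetherian_of_proper k E
  obtain ⟨L, hL, σ, W, e, t, p, hW, hpW, hgen, hsv, hdiv, hpt, hU, hpc, hdeg, h0, hpos⟩ :=
    exists_pole_data k E hdim o ho hg
  have hUc : ∀ w : E, w ∉ CohB1.genLocus L σ → w = p := by
    intro w hw
    by_contra hne
    apply hw
    have : w ∈ (CohB1.genLocus L σ : Set E) := by
      rw [hU]
      exact hne
    exact this
  haveI : Nonempty (CohB1.genLocus L σ) := by
    refine ⟨⟨genericPoint E, ?_⟩⟩
    have : genericPoint E ∈ (CohB1.genLocus L σ : Set E) := by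
      rw [hU]
      intro h
      rw [Set.mem_singleton_iff] at h
      apply Groth.Agent.Lib.R2H1.TwistBC.not_isClosed_genericPoint (T := E) hdim
      rw [h]
      exact hpc
    exact this
  have hcov : CohB1.genLocus L σ ⊔ W = ⊤ := by
    rw [eq_top_iff]
    intro w _
    by_cases hw : w ∈ CohB1.genLocus L σ
    · exact Or.inl hw
    · exact Or.inr (hUc w hw ▸ hpW)
  have hF := isPoleFiltration (k := k) L σ W e hgen t hsv hL hcov p hpW hdiv hpt h0 hpos
  have hample1 : CohB1.IsAmple L :=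
    (Groth.Agent.Lib.R2H1.CurveAmple.s1530 k E hdim L hL).2 (by rw [hdeg]; norm_num)
  have hUa : IsAffineOpen (CohB1.genLocus L σ) :=
    Groth.Agent.Lib.R2H3.GenLocAffine.isAffine_genLocus_of_universallyClosed
      (E ↘ (Spec (CommRingCat.of k))) L hample1 σ
  have hM := isInvertible_tensorPow hL 3
  have hample3 : CohB1.IsAmple (CohB1.tensorPow L 3) := by
    refine (Groth.Agent.Lib.R2H1.CurveAmple.s1530 k E hdim _ hM).2 ?_
    rw [Groth.Agent.Lib.R2H1.TwistBC.deg_tensorPow k E hdim L hL 3, hdeg]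
    norm_num
  have haff : ∀ s : Coh.structureModule E ⟶ CohB1.tensorPow L 3,
      IsAffineOpen (CohB1.genLocus _ s) := fun s =>
    Groth.Agent.Lib.R2H3.GenLocAffine.isAffine_genLocus_of_universallyClosed
      (E ↘ (Spec (CommRingCat.of k))) _ hample3 s
  refine ⟨Γ(E, CohB1.genLocus L σ), inferInstance, algU k E _, Fil (k := k) (CohB1.genLocus L σ) W t, hF, ?_⟩
  intro x y a₁ a₂ a₃ a₄ a₆ hx hy hrel
  exact embedding_of_rel (k := k) L σ W e hgen t hsv hL hW p hpW hdiv hUc hUa haff hF x y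
    a₁ a₂ a₃ a₄ a₆ hx hy hrel

end Part2

section Part3

open Groth.Agent.Lib.R2H1.WeierAlg

variable {k A : Type u} [Field k] [CommRing A] [Algebra k A] {F : ℕ → Submodule k A}

theorem exact_add_of_mem (hF : IsPoleFiltration F) {f g : A} {m : ℕ} (hf : Exact F f m)
    (hg : g ∈ F m) : Exact F (f + g) m := by
  refine ⟨Submodule.add_mem _ hf.1 (hF.mono m hg), fun h => hf.2 ?_⟩
  have := Submodule.sub_mem _ h hg
  rwa [add_sub_cancel_right] at this

/-- completing the square -/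
theorem complete_square (hF : IsPoleFiltration F) (h2 : (2 : k) ≠ 0) {x y : A}
    {a₁ a₂ a₃ a₄ a₆ : k} (hx : Exact F x 1) (hy : Exact F y 2)
    (hrel : y ^ 2 + a₁ • (x * y) + a₃ • y = x ^ 3 + a₂ • x ^ 2 + a₄ • x + a₆ • (1 : A)) :
    ∃ (y₁ : A) (b₂ b₄ b₆ : k), Exact F y₁ 2 ∧
      y₁ ^ 2 + (0 : k) • (x * y₁) + (0 : k) • y₁ =
        x ^ 3 + b₂ • x ^ 2 + b₄ • x + b₆ • (1 : A) := by
  obtain ⟨c₁, rfl⟩ : ∃ c₁, a₁ = 2 * c₁ := ⟨a₁ / 2, by field_simp⟩
  obtain ⟨c₃, rfl⟩ : ∃ c₃, a₃ = 2 * c₃ := ⟨a₃ / 2, by field_simp⟩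
  refine ⟨y + (c₁ • x + c₃ • (1 : A)), a₂ + c₁ ^ 2, a₄ + 2 * c₁ * c₃, a₆ + c₃ ^ 2, ?_, ?_⟩
  · apply exact_add_of_mem hF hy
    refine Submodule.add_mem _ (Submodule.smul_mem _ _ hx.1) (Submodule.smul_mem _ _ ?_)
    exact hF.mono_le (Nat.zero_le 2) hF.one_mem
  · simp only [Algebra.smul_def, map_add, map_mul, map_pow, map_ofNat, map_zero, zero_mul,
      add_zero, mul_one] at hrel ⊢
    linear_combination hrel

/-- the affine change of coordinates to Legendre form -/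
theorem legendre_subst (hF : IsPoleFiltration F) {x y : A} {b₂ b₄ b₆ e₁ e₂ e₃ c : k}
    (hx : Exact F x 1) (hy : Exact F y 2)
    (hrel : y ^ 2 + (0 : k) • (x * y) + (0 : k) • y =
      x ^ 3 + b₂ • x ^ 2 + b₄ • x + b₆ • (1 : A))
    (hb₂ : b₂ = -(e₁ + e₂ + e₃)) (hb₄ : b₄ = e₁ * e₂ + e₁ * e₃ + e₂ * e₃)
    (hb₆ : b₆ = -(e₁ * e₂ * e₃)) (hc : c ^ 2 = e₂ - e₁) (hc0 : c ≠ 0) :
    ∃ x' y' : A, Exact F x' 1 ∧ Exact F y' 2 ∧
      y' ^ 2 + (0 : k) • (x' * y') + (0 : k) • y' =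
        x' ^ 3 + (-(1 + (e₃ - e₁) / (e₂ - e₁))) • x' ^ 2 + ((e₃ - e₁) / (e₂ - e₁)) • x' +
          (0 : k) • (1 : A) := by
  have hd : e₂ - e₁ ≠ 0 := by rw [← hc]; exact pow_ne_zero 2 hc0
  have hci : c⁻¹ ≠ 0 := inv_ne_zero hc0
  refine ⟨(c⁻¹ ^ 2) • (x + (-e₁) • (1 : A)), (c⁻¹ ^ 3) • y, ?_, ?_, ?_⟩
  · apply IsPoleFiltration.Exact.smul hF _ (pow_ne_zero 2 hci)
    apply exact_add_of_mem hF hx
    exact Submodule.smul_mem _ _ (hF.mono_le (Nat.zero_le 1) hF.one_mem)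
  · exact IsPoleFiltration.Exact.smul hF hy (pow_ne_zero 3 hci)
  · subst hb₂ hb₄ hb₆
    have h1 : (algebraMap k A c⁻¹) ^ 2 * (algebraMap k A e₂ - algebraMap k A e₁) = 1 := by
      rw [← map_pow, ← map_sub, ← map_mul, ← hc, inv_pow, inv_mul_cancel₀ (pow_ne_zero 2 hc0),
        map_one]
    have h2 : algebraMap k A ((e₃ - e₁) / (e₂ - e₁)) * (algebraMap k A e₂ - algebraMap k A e₁) =
        algebraMap k A e₃ - algebraMap k A e₁ := by
      rw [← map_sub, ← map_mul, div_mul_cancel₀ _ hd, map_sub]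
    simp only [Algebra.smul_def, map_add, map_mul, map_pow, map_neg, map_zero, zero_mul,
      add_zero, mul_one, map_one] at hrel ⊢
    set γ := algebraMap k A c⁻¹ with hγ
    set Λ := algebraMap k A ((e₃ - e₁) / (e₂ - e₁)) with hΛ
    set E₁ := algebraMap k A e₁
    set E₂ := algebraMap k A e₂
    set E₃ := algebraMap k A e₃
    have hrel' : y ^ 2 = (x - E₁) * (x - E₂) * (x - E₃) := by linear_combination hrel
    have e1 : γ ^ 2 * (x + -E₁) - 1 = γ ^ 2 * (x - E₂) := by linear_combination h1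
    have e2 : γ ^ 2 * (x + -E₁) - Λ = γ ^ 2 * (x - E₃) := by
      linear_combination (-γ ^ 2) * h2 + Λ * h1
    calc (γ ^ 3 * y) ^ 2 = γ ^ 6 * y ^ 2 := by ring
      _ = γ ^ 6 * ((x - E₁) * (x - E₂) * (x - E₃)) := by rw [hrel']
      _ = (γ ^ 2 * (x + -E₁)) * (γ ^ 2 * (x - E₂)) * (γ ^ 2 * (x - E₃)) := by ring
      _ = (γ ^ 2 * (x + -E₁)) * (γ ^ 2 * (x + -E₁) - 1) * (γ ^ 2 * (x + -E₁) - Λ) := by
          rw [e1, e2]
      _ = _ := by ring

/-- roots of a monic cubic over an algebraically closed field -/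
theorem exists_roots [IsAlgClosed k] (b₂ b₄ b₆ : k) :
    ∃ e₁ e₂ e₃ : k, b₂ = -(e₁ + e₂ + e₃) ∧ b₄ = e₁ * e₂ + e₁ * e₃ + e₂ * e₃ ∧
      b₆ = -(e₁ * e₂ * e₃) := by
  obtain ⟨e₁, h1⟩ := IsAlgClosed.exists_root
    (Polynomial.C 1 * Polynomial.X ^ 3 + Polynomial.C b₂ * Polynomial.X ^ 2 +
      Polynomial.C b₄ * Polynomial.X + Polynomial.C b₆ : Polynomial k) (by
      rw [Polynomial.degree_cubic one_ne_zero]
      norm_num)
  obtain ⟨e₂, h2⟩ := IsAlgClosed.exists_root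
    (Polynomial.C 1 * Polynomial.X ^ 2 + Polynomial.C (b₂ + e₁) * Polynomial.X +
      Polynomial.C (b₄ + e₁ * (b₂ + e₁)) : Polynomial k) (by
      rw [Polynomial.degree_quadratic one_ne_zero]
      norm_num)
  simp only [Polynomial.IsRoot.def, Polynomial.eval_add, Polynomial.eval_mul, Polynomial.eval_pow,
    Polynomial.eval_X, Polynomial.eval_C] at h1 h2
  refine ⟨e₁, e₂, -(b₂ + e₁) - e₂, ?_, ?_, ?_⟩
  · ring
  · linear_combination h2
  · linear_combination h1 - e₁ * h2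

end Part3

section Part4

open Groth.Agent.Lib.R2H1.WeierAlg Groth.Agent.Lib.R2H1.PlaneChart
open Groth.Agent.Lib.R2H1.HypIdeal Groth.Agent.Helper13ProjUP
open MvPolynomial

variable {k : Type u} [Field k]

/-- the affine Weierstrass polynomial -/
noncomputable def wpoly (a₁ a₂ a₃ a₄ a₆ : k) : MvPolynomial (Fin 2) k :=
  X 1 ^ 2 + C a₁ * X 0 * X 1 + C a₃ * X 1 - X 0 ^ 3 - C a₂ * X 0 ^ 2 - C a₄ * X 0 - C a₆

theorem dq2_Wpoly (a₁ a₂ a₃ a₄ a₆ : k) :
    dq 2 k 2 (Wpoly a₁ a₂ a₃ a₄ a₆) = wpoly a₁ a₂ a₃ a₄ a₆ := by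
  simp only [Wpoly, wpoly, map_sub, map_add, map_mul, map_pow, dq2_X0, dq2_X1, dq2_X2, dq_C,
    one_pow, mul_one]

section Pt
variable {K : Type u} [Field K] [Algebra k K] (x y : K) (a₁ a₂ a₃ a₄ a₆ : k)

theorem pt_wpoly : pt (k := k) x y (wpoly a₁ a₂ a₃ a₄ a₆) =
    y ^ 2 + algebraMap k K a₁ * x * y + algebraMap k K a₃ * y - x ^ 3 -
      algebraMap k K a₂ * x ^ 2 - algebraMap k K a₄ * x - algebraMap k K a₆ := by
  simp only [wpoly, map_sub, map_add, map_mul, map_pow, pt_X0, pt_X1, pt_C]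

theorem pt_d0_wpoly : pt (k := k) x y (pderiv 0 (wpoly a₁ a₂ a₃ a₄ a₆)) =
    algebraMap k K a₁ * y - 3 * x ^ 2 - 2 * algebraMap k K a₂ * x - algebraMap k K a₄ := by
  simp [wpoly, Derivation.leibniz, Derivation.leibniz_pow, pt_X0, pt_X1, pt_C, map_ofNat]
  ring

theorem pt_d1_wpoly : pt (k := k) x y (pderiv 1 (wpoly a₁ a₂ a₃ a₄ a₆)) =
    2 * y + algebraMap k K a₁ * x + algebraMap k K a₃ := by
  simp [wpoly, Derivation.leibniz, Derivation.leibniz_pow, pt_X0, pt_X1, pt_C, map_ofNat]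

end Pt

theorem wpoly_ne_zero (a₁ a₂ a₃ a₄ a₆ : k) : wpoly a₁ a₂ a₃ a₄ a₆ ≠ 0 := by
  intro h
  have h1 := congrArg (MvPolynomial.aeval (![Polynomial.X, 0] : Fin 2 → Polynomial k)) h
  have h2 : (MvPolynomial.aeval (![Polynomial.X, 0] : Fin 2 → Polynomial k))
      (wpoly a₁ a₂ a₃ a₄ a₆) =
      Polynomial.C (-1) * Polynomial.X ^ 3 + Polynomial.C (-a₂) * Polynomial.X ^ 2 +
        Polynomial.C (-a₄) * Polynomial.X + Polynomial.C (-a₆) := by
    simp [wpoly]
    ring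
  rw [h2, map_zero] at h1
  have h3 := congrArg Polynomial.degree h1
  rw [Polynomial.degree_cubic (by simp), Polynomial.degree_zero] at h3
  exact absurd h3 (by simp)

/-- transfer of smoothness to the plane model -/
theorem smooth_of_closedImmersion {E : Scheme.{u}} [E.Over (Spec (CommRingCat.of k))]
    [Smooth (E ↘ Spec (CommRingCat.of k))] {d : ℕ} (G : LefPen.Form 2 k d)
    (r : E ⟶ Proj (CohB1.polyGrading 2 k))
    (hr : r ≫ toBase (CohB1.polyGrading 2 k) = (E ↘ Spec (CommRingCat.of k)))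
    [IsClosedImmersion r] (hker : r.ker = hypI G) :
    Smooth ((hypI G).subschemeι ≫ toBase (CohB1.polyGrading 2 k)) := by
  have hk : (hypI G).subschemeι.ker = r.ker := by
    rw [Scheme.IdealSheafData.ker_subschemeι, hker]
  haveI := IsClosedImmersion.isIso_lift (hypI G).subschemeι r hk
  have h1 : (hypI G).subschemeι ≫ toBase (CohB1.polyGrading 2 k) =
      inv (IsClosedImmersion.lift (hypI G).subschemeι r hk.le) ≫
        (E ↘ Spec (CommRingCat.of k)) := by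
    rw [IsIso.eq_inv_comp, ← Category.assoc, IsClosedImmersion.lift_fac, hr]
  rw [h1]
  infer_instance

end Part4

section Part5

open Groth.Agent.Lib.R2H1.WeierAlg Groth.Agent.Lib.R2H1.PlaneChart
open Groth.Agent.Lib.R2H1.HypIdeal Groth.Agent.Helper13ProjUP

open MvPolynomial

variable {k : Type u} [Field k]

/-- smoothness forces the roots of the cubic to be distinct -/
theorem roots_distinct (h2 : (2 : k) ≠ 0) {b₂ b₄ b₆ e₁ e₂ e₃ : k}
    (hb₂ : b₂ = -(e₁ + e₂ + e₃)) (hb₄ : b₄ = e₁ * e₂ + e₁ * e₃ + e₂ * e₃)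
    (hb₆ : b₆ = -(e₁ * e₂ * e₃))
    (hsm : Smooth ((hypI (⟨Wpoly 0 b₂ 0 b₄ b₆, Wpoly_mem 0 b₂ 0 b₄ b₆⟩ : LefPen.Form 2 k 3)).subschemeι ≫
      toBase (CohB1.polyGrading 2 k))) :
    e₁ ≠ e₂ ∧ e₁ ≠ e₃ ∧ e₂ ≠ e₃ := by
  have key : ∀ e : k, (e - e₁) * (e - e₂) * (e - e₃) = 0 →
      3 * e ^ 2 + 2 * b₂ * e + b₄ ≠ 0 := by
    intro e he hd
    obtain ⟨j, hj⟩ := jac_of_smooth
      (⟨Wpoly 0 b₂ 0 b₄ b₆, Wpoly_mem 0 b₂ 0 b₄ b₆⟩ : LefPen.Form 2 k 3) hsm 2
      (by
        change dq 2 k 2 (Wpoly 0 b₂ 0 b₄ b₆) ≠ 0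
        rw [dq2_Wpoly]; exact wpoly_ne_zero _ _ _ _ _)
      k e 0 (by
        change pt (k := k) e 0 (dq 2 k 2 (Wpoly 0 b₂ 0 b₄ b₆)) = 0
        rw [dq2_Wpoly, pt_wpoly]
        simp only [Algebra.algebraMap_self, RingHom.id_apply]
        rw [hb₂, hb₄, hb₆]
        linear_combination -he)
    apply hj
    change pt (k := k) e 0 (pderiv j (dq 2 k 2 (Wpoly 0 b₂ 0 b₄ b₆))) = 0
    rw [dq2_Wpoly]
    fin_cases j
    · change pt (k := k) e 0 (pderiv 0 _) = 0
      rw [pt_d0_wpoly]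
      simp only [Algebra.algebraMap_self, RingHom.id_apply]
      linear_combination -hd
    · change pt (k := k) e 0 (pderiv 1 _) = 0
      rw [pt_d1_wpoly]
      simp only [Algebra.algebraMap_self, RingHom.id_apply]
      ring
  have k1 := key e₁ (by ring)
  have k2 := key e₂ (by ring)
  rw [hb₂, hb₄] at k1 k2
  refine ⟨?_, ?_, ?_⟩
  · rintro rfl
    apply k1
    ring
  · rintro rfl
    apply k1
    ring
  · rintro rfl
    apply k2
    ring

/-- Legendre form of a genus one curve over an algebraically closed field of characteristic not 2 -/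
theorem legendre (k : Type u) [Field k] [IsAlgClosed k] (h2 : (2 : k) ≠ 0)
    (E : Scheme.{u}) [E.Over (Spec (CommRingCat.of k))]
    [IsProper (E ↘ (Spec (CommRingCat.of k)))] [Smooth (E ↘ (Spec (CommRingCat.of k)))]
    [ConnectedSpace E]
    (hdim : topologicalKrullDim E = 1) (hg : Curv2.genus k E = 1) :
    ∃ (l : k) (r : E ⟶ Proj (CohB1.polyGrading 2 k)), l ≠ 0 ∧ l ≠ 1 ∧
      r ≫ toBase (CohB1.polyGrading 2 k) = (E ↘ Spec (CommRingCat.of k)) ∧
      IsClosedImmersion r ∧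
      r.ker = hypI (⟨Wpoly 0 (-(1 + l)) 0 l 0, Wpoly_mem 0 (-(1 + l)) 0 l 0⟩ :
        LefPen.Form 2 k 3) := by
  obtain ⟨z⟩ : Nonempty E := inferInstance
  obtain ⟨o, ho, -⟩ := Groth.Agent.Lib.R2H1.TwistBC.exists_section_mem_open k E ⊤ z trivial
  obtain ⟨A, _, _, F, hF, hemb⟩ := exists_pole_algebra k E hdim o ho hg
  obtain ⟨x, y, a₁, a₂, a₃, a₄, a₆, hx, hy, hrel⟩ := exists_weierstrass hF
  obtain ⟨y₁, b₂, b₄, b₆, hy₁, hrel₁⟩ := complete_square hF h2 hx hy hrel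
  obtain ⟨e₁, e₂, e₃, hb₂, hb₄, hb₆⟩ := exists_roots b₂ b₄ b₆
  obtain ⟨r₁, hr₁, hci₁, hker₁⟩ := hemb x y₁ 0 b₂ 0 b₄ b₆ hx hy₁ hrel₁
  have hsm := smooth_of_closedImmersion _ r₁ hr₁ hker₁
  obtain ⟨h12, h13, h23⟩ := roots_distinct h2 hb₂ hb₄ hb₆ hsm
  obtain ⟨c, hc⟩ := IsAlgClosed.exists_pow_nat_eq (e₂ - e₁) (n := 2) (by norm_num)
  have hd : e₂ - e₁ ≠ 0 := sub_ne_zero.mpr (Ne.symm h12)
  have hc0 : c ≠ 0 := by
    rintro rfl
    apply hd
    rw [← hc]
    ring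
  obtain ⟨x', y', hx', hy', hrel'⟩ := legendre_subst hF hx hy₁ hrel₁ hb₂ hb₄ hb₆ hc hc0
  obtain ⟨r, hr, hci, hker⟩ := hemb x' y' 0 _ 0 _ 0 hx' hy' hrel'
  refine ⟨(e₃ - e₁) / (e₂ - e₁), r, ?_, ?_, hr, hci, hker⟩
  · exact div_ne_zero (sub_ne_zero.mpr (Ne.symm h13)) hd
  · intro h
    rw [div_eq_one_iff_eq hd] at h
    apply h23
    have : e₃ = e₂ := by linear_combination h
    exact this.symm

end Part5

end Groth.Agent.Lib.R2H1.Legendre
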