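import Mathlib
import Groth.Prelude.Def_LinSer
import Groth.Prelude.Def_Twist2
import Groth.Prelude.Def_Omega3
import Groth.Agent.Lib.Helper23GG
import Groth.Agent.Lib.R2H3VAmpleMor
import Groth.Agent.Lib.R2H1VBSub
import Groth.Agent.Lib.R2H1VBTwist
import Groth.Agent.Lib.R2H1G12
import Groth.Agent.S3572
set_option backward.isDefEq.respectTransparency.types false

/-!
helper1 (run 2): a linear series on a regular proper curve gives a morphism to projective space (S6578). exists_mem_genLocus_of_epi (an invertible quotient of O^n is generated at each point by one of the coordinate sections), isFinLocFreeOfRank_freeMod, s6578.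
-/

set_option autoImplicit false
set_option linter.style.haveILetI false
set_option linter.unusedSectionVars false
universe u v

open CategoryTheory CategoryTheory.Limits AlgebraicGeometry TopologicalSpace Opposite

namespace Groth.Agent.Lib.R2H1.LinSerMor

section Part1

open Groth.Agent.Lib.Helper23.GenLocus Groth.Agent.Lib.Helper23.Serre Groth.Agent.Lib.Helper23.AmpleIso
open Groth.Agent.Lib.Helper23.SecTw Groth.Agent.Lib.Helper23.TensorUnit Groth.Agent.Lib.Helper23.GG

section gen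

variable {X : Scheme.{u}}

/-- an invertible quotient of `O^n` is generated at each point by one of the coordinate sections -/
theorem exists_mem_genLocus_of_epi (n : ℕ) (I : X.Modules) (hI : PicF.IsInvertible I)
    (p : FlatMod.freeMod X n ⟶ I) (hp : Epi p) (x : X) :
    ∃ i : Fin n, x ∈ CohB1.genLocus I (Sigma.ι (fun _ : Fin n => Coh.structureModule X) i ≫ p) := by
  by_contra hcon
  push Not at hcon
  obtain ⟨W, hxW, ⟨ε⟩⟩ := hI x
  obtain ⟨x', hx'⟩ : ∃ x' : (↑W : Scheme.{u}), x' = ⟨x, hxW⟩ := ⟨_, rfl⟩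
  obtain ⟨ψW, hψW⟩ : ∃ ψW : I.restrict W.ι ⟶
      (Scheme.Modules.pushforward ((↑W : Scheme.{u}).fromSpecResidueField x')).obj (Coh.structureModule _),
      ψW = ε.hom ≫ unitPush ((↑W : Scheme.{u}).fromSpecResidueField x') := ⟨_, rfl⟩
  have hcomp : ∀ t : Coh.structureModule X ⟶ I, x ∉ CohB1.genLocus I t →
      (Scheme.Modules.restrictFunctor W.ι).map t ≫ ψW = 0 := by
    intro t ht
    have h2 : (restrSec t W ≫ ε.hom) ≫ unitPush ((↑W : Scheme.{u}).fromSpecResidueField x') = 0 := by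
      refine comp_unitPush_eq_zero _ x' ?_
      rw [← genLocus_eq_basicOpen _ ε (restrSec t W), genLocus_restrSec, hx']
      exact ht
    rw [hψW]
    exact comp_eq_zero_aux _ (Scheme.Modules.restrictUnitIso W.ι).hom (Scheme.Modules.restrictUnitIso W.ι).inv
      (Iso.hom_inv_id _) _ _ h2
  have hzero : ψW = 0 := by
    refine eq_of_adj_of_epi (Scheme.Modules.restrictAdjunction W.ι)
      (A := FlatMod.freeMod X n) (L := I) (B := fun _ : Fin n => Coh.structureModule X)
      (fun a => Sigma.ι (fun _ : Fin n => Coh.structureModule X) a) ?_ p hp ψW 0 ?_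
    · intro M f g hfg
      exact Sigma.hom_ext _ _ hfg
    · intro a
      rw [hcomp _ (hcon a), comp_zero]
  have h3 : unitPush ((↑W : Scheme.{u}).fromSpecResidueField x') = 0 := by
    have h4 : ε.inv ≫ ψW = unitPush ((↑W : Scheme.{u}).fromSpecResidueField x') := by
      rw [hψW, Iso.inv_hom_id_assoc]
    rw [← h4, hzero, comp_zero]
  exact unitPush_ne_zero x' h3

theorem isFinLocFreeOfRank_freeMod (n : ℕ) : FlatMod.IsFinLocFreeOfRank n (FlatMod.freeMod X n) := fun x =>
  ⟨⊤, trivial, ⟨Groth.Agent.Lib.Helper20.LocFree.restrictFreeMod _ n⟩⟩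

end gen

end Part1

section Part2

open Groth.Agent.Lib.Helper23.GenLocus Groth.Agent.Lib.Helper23.Serre Groth.Agent.Lib.Helper23.AmpleIso
open Groth.Agent.Lib.Helper23.SecTw Groth.Agent.Lib.Helper23.TensorUnit Groth.Agent.Lib.Helper23.GG

open Groth.Agent.Lib.R2H1.VBSub Groth.Agent.Lib.R2H3.VAmpleMor Groth.Agent.Lib.R2H1.G12

section main

variable (k : Type u) [Field k] (X : Scheme.{u}) [X.Over (Spec (CommRingCat.of k))]
    [IsIntegral X] [IsProper (X ↘ (Spec (CommRingCat.of k)))]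

theorem s6578 (hdim : topologicalKrullDim X = 1) (hreg : ∀ x : X, IsRegularLocalRing (X.presheaf.stalk x))
    (d r : ℕ) (L : X.Modules) (s : Fin (r + 1) → LinSer.Sect X L) (hL : LinSer.IsLinSer k X L d r s) :
    ∃ (φ : X ⟶ CohB1.ProjSpace r k) (α : (Scheme.Modules.pullback φ).obj (Twist.twistProjSpace r k 1) ⟶ L),
      φ ≫ CohB1.ProjSpace.toSpec r k = X ↘ (Spec (CommRingCat.of k)) ∧
        ∀ i : Fin (r + 1), (α.val.app (Opposite.op ⊤)).hom (OmegaSh.pullSect φ (Twist.twistProjSpace r k 1) ⊤ (Twist.globalOf (CohB1.polyGrading r k) (⟨MvPolynomial.X i, MvPolynomial.isHomogeneous_X k i⟩ : (CohB1.polyGrading r k) 1))) = s i := by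
  classical
  obtain ⟨hLinv, hdeg, hli⟩ := hL
  have hL1 : FlatMod.IsFinLocFreeOfRank 1 L := isFinLocFreeOfRank_one_of_isInvertible L hLinv
  obtain ⟨σ, hσ⟩ : ∃ σ : FlatMod.freeMod X (r+1) ⟶ L, σ = Sigma.desc (fun i => secHom L (s i)) := ⟨_, rfl⟩
  have hσι : ∀ i, Sigma.ι (fun _ : Fin (r+1) => Coh.structureModule X) i ≫ σ = secHom L (s i) := by
    intro i; rw [hσ]; exact Sigma.ι_desc _ _
  obtain ⟨K₀, I, a, p, j, r₀, r₁, ha, hp, hj, hpj, hap, hK₀, hI, hrk, hdg, h0, h1, hle⟩ :=
    exists_ker_im k X hdim hreg (isFinLocFreeOfRank_freeMod (r+1)) hL1 σ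
  have hs0 : s 0 ≠ 0 := by
    intro h
    have h2 : (∑ i, (Coh.toGlobal (X ↘ Spec (CommRingCat.of k)) ((Pi.single 0 1 : Fin (r+1) → k) i)) • s i) = 0 := by
      rw [Finset.sum_eq_single 0]
      · rw [h, smul_zero]
      · intro b _ hb
        rw [Pi.single_eq_of_ne hb, map_zero, zero_smul]
      · intro h; exact absurd (Finset.mem_univ _) h
    have h3 := congrFun (hli _ h2) 0
    simp at h3
  have hσ0 : σ ≠ 0 := by
    intro h
    have h2 := hσι 0
    rw [h, comp_zero] at h2
    have h3 : sv (secHom L (s 0)) ⊤ = sv (0 : Coh.structureModule X ⟶ L) ⊤ := by rw [← h2]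
    rw [sv_secHom, sv_zero, res_self] at h3
    exact hs0 h3
  have hr₁ : r₁ = 1 := by
    have : r₁ ≠ 0 := fun h => hσ0 (h1 h)
    omega
  subst hr₁
  have hIinv : PicF.IsInvertible I := Groth.Agent.Lib.R2H1.VBTwist.isInvertible_of_rank_one hI
  obtain ⟨t, ht⟩ : ∃ t : Fin (r+1) → ProjUP.Γm I,
      t = fun i => sv (Sigma.ι (fun _ : Fin (r+1) => Coh.structureModule X) i ≫ p) ⊤ := ⟨_, rfl⟩
  have hgen : ProjUP.GeneratedBy I t := by
    refine generatedBy_of_cover I t (fun x => ?_)
    obtain ⟨i, hi⟩ := exists_mem_genLocus_of_epi (r+1) I hIinv p hp x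
    refine ⟨i, ?_⟩
    rw [ht]
    simp only []
    rw [secHom_sv]
    exact hi
  obtain ⟨φ, hφ, τ, hτ⟩ := Groth.Agent.S3572.result r (X ↘ Spec (CommRingCat.of k)) I hIinv t hgen
  refine ⟨φ, τ.hom ≫ j, hφ, fun i => ?_⟩
  show j.app ⊤ (τ.hom.app ⊤ (ProjUP.pullSec φ _ (ProjUP.coord r k i))) = s i
  rw [hτ i, ht]
  simp only []
  rw [← sv_comp, Category.assoc, hpj, hσι, sv_secHom, res_self]

end main

end Part2

end Groth.Agent.Lib.R2H1.LinSerMor
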