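import Mathlib
import Groth.Prelude.Def_LinSer
import Groth.Prelude.Def_Twist2
import Groth.Prelude.Def_Omega3
import Groth.Agent.Lib.R2H1LinSerMor
import Groth.Agent.Lib.R2H1IsoP1C
import Groth.Agent.Lib.R2H4ModContr
import Groth.Agent.Lib.R2H1CurveDeg
set_option backward.isDefEq.respectTransparency.types false

/-!
helper1 (run 2): the morphism to P^1 attached to a g^1_d has degree at most d or is constant (S6579). deg_O1 (deg O(1) = 1 on P^1_k), ne_zero_of_linIndep, s6579.
-/

set_option autoImplicit false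
set_option linter.style.haveILetI false
set_option linter.unusedSectionVars false
universe u v

open CategoryTheory CategoryTheory.Limits AlgebraicGeometry TopologicalSpace Opposite

namespace Groth.Agent.Lib.R2H1.LinSerDeg

section Part1

open Groth.Agent.Lib.Helper23.SecTw
open Groth.Agent.Lib.R2H1.G12 Groth.Agent.Lib.R2H1.IsoP1
open Groth.Agent.Lib.R2Lead.KRR Groth.Agent.Lib.R2H2.PnEuler
open Groth.Agent.Lib.R2H1.CurveEuler Groth.Agent.Lib.R2H1.CurveDegSec Groth.Agent.Lib.R2H1.DegCartier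
  Groth.Agent.Lib.R2H1.EulerAdd

section P1

variable (k : Type u) [Field k]

theorem deg_O1 : Curv2.deg k (CohB1.ProjSpace 1 k) (Twist.twistProjSpace 1 k 1) 1 = 1 := by
  haveI := isIntegral_P1k k
  haveI := isProper_P1k k
  have hdimP := dim_P1k k
  haveI := isNoetherian_of_proper k (CohB1.ProjSpace 1 k)
  have hE := isInvertible_twistProjSpace 1 k 1
  have cE := isCoh_of_isInvertible _ hE
  have e1 := euler_eq_h0_sub_h1 k (CohB1.ProjSpace 1 k) hdimP.le _ cE.1
  have h01 : Module.finrank k (Coh.HH (CohB1.ProjSpace 1 k) (Twist.twistProjSpace 1 k 1) 0) = 2 :=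
    finrank_HH_nonneg k 1 1
  have h11 : Module.finrank k (Coh.HH (CohB1.ProjSpace 1 k) (Twist.twistProjSpace 1 k 1) 1) = 0 :=
    finrank_HH_zero k 1 1 1 (by omega) (by omega)
  rw [h01, h11] at e1
  obtain ⟨e0⟩ := nonempty_twistProjSpace_zero_iso 1 k
  have c0 := isCoh_of_isInvertible _ (isInvertible_twistProjSpace 1 k 0)
  have e2 := euler_eq_h0_sub_h1 k (CohB1.ProjSpace 1 k) hdimP.le _ c0.1
  have h00 : Module.finrank k (Coh.HH (CohB1.ProjSpace 1 k) (Twist.twistProjSpace 1 k 0) 0) = 1 :=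
    finrank_HH_nonneg k 1 0
  have h10 : Module.finrank k (Coh.HH (CohB1.ProjSpace 1 k) (Twist.twistProjSpace 1 k 0) 1) = 0 :=
    finrank_HH_zero k 1 0 1 (by omega) (by omega)
  rw [h00, h10] at e2
  have e3 := euler_congr k (X := CohB1.ProjSpace 1 k) e0
  unfold Curv2.deg
  push_cast at e1 e2 ⊢
  linarith

end P1

section Lin

variable (k : Type u) [Field k] (X : Scheme.{u}) [X.Over (Spec (CommRingCat.of k))]

theorem ne_zero_of_linIndep (L : X.Modules) {n : ℕ} (s : Fin n → LinSer.Sect X L)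
    (hli : LinSer.LinIndep k X L s) (i : Fin n) : s i ≠ 0 := by
  classical
  intro h
  have h2 : (∑ j, (Coh.toGlobal (X ↘ Spec (CommRingCat.of k)) ((Pi.single i 1 : Fin n → k) j)) • s j) = 0 := by
    rw [Finset.sum_eq_single i]
    · rw [h, smul_zero]
    · intro b _ hb
      rw [Pi.single_eq_of_ne hb, map_zero, zero_smul]
    · intro h; exact absurd (Finset.mem_univ _) h
  have h3 := congrFun (hli _ h2) i
  simp at h3

end Lin

end Part1

section Part2

open Groth.Agent.Lib.Helper23.SecTw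
open Groth.Agent.Lib.R2H1.G12 Groth.Agent.Lib.R2H1.IsoP1
open Groth.Agent.Lib.R2Lead.KRR Groth.Agent.Lib.R2H2.PnEuler
open Groth.Agent.Lib.R2H1.CurveEuler Groth.Agent.Lib.R2H1.CurveDegSec Groth.Agent.Lib.R2H1.DegCartier
  Groth.Agent.Lib.R2H1.EulerAdd Groth.Agent.Lib.R2H1.DegPullback

variable (k : Type u) [Field k] (X : Scheme.{u}) [X.Over (Spec (CommRingCat.of k))]
    [IsIntegral X] [IsProper (X ↘ (Spec (CommRingCat.of k)))]

theorem s6579 (hdim : topologicalKrullDim X = 1) (hreg : ∀ x : X, IsRegularLocalRing (X.presheaf.stalk x))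
    (d : ℕ) (L : X.Modules) (s : Fin (1 + 1) → LinSer.Sect X L) (hL : LinSer.IsLinSer k X L d 1 s)
    (φ : X ⟶ CohB1.ProjSpace 1 k) (α : (Scheme.Modules.pullback φ).obj (Twist.twistProjSpace 1 k 1) ⟶ L)
    (hφ : φ ≫ CohB1.ProjSpace.toSpec 1 k = X ↘ (Spec (CommRingCat.of k)) ∧
        ∀ i : Fin (1 + 1), (α.val.app (Opposite.op ⊤)).hom (OmegaSh.pullSect φ (Twist.twistProjSpace 1 k 1) ⊤ (Twist.globalOf (CohB1.polyGrading 1 k) (⟨MvPolynomial.X i, MvPolynomial.isHomogeneous_X k i⟩ : (CohB1.polyGrading 1 k) 1))) = s i) :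
    ((¬ ∃ p : CohB1.ProjSpace 1 k, IsClosed ({p} : Set (CohB1.ProjSpace 1 k)) ∧ Set.range φ ⊆ {p}) ∧
      (letI := (φ.stalkMap (genericPoint X)).hom.toAlgebra
       Module.finrank ((CohB1.ProjSpace 1 k).presheaf.stalk (φ (genericPoint X))) X.functionField ≤ d)) ∨
    ((∃ p : CohB1.ProjSpace 1 k, IsClosed ({p} : Set (CohB1.ProjSpace 1 k)) ∧ Set.range φ ⊆ {p}) ∧
      Module.finrank k (Coh.HH X (Coh.structureModule X) 0) ≠ 1) := by
  classical
  haveI := isNoetherian_of_proper k X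
  haveI := isIntegral_P1k k
  haveI := isProper_P1k k
  have hdimP := dim_P1k k
  obtain ⟨hLinv, hdeg, hli⟩ := hL
  obtain ⟨hφ1, hφ2⟩ := hφ
  have hE := isInvertible_twistProjSpace 1 k 1
  have hE1 := isFinLocFreeOfRank_one_of_isInvertible _ hE
  have hM : PicF.IsInvertible ((Scheme.Modules.pullback φ).obj (Twist.twistProjSpace 1 k 1)) :=
    Groth.Agent.Lib.Helper23.PB.isInvertible_pullback φ _ hE
  have cM := isCoh_of_isInvertible _ hM
  by_cases hc : ∃ p : CohB1.ProjSpace 1 k, IsClosed ({p} : Set (CohB1.ProjSpace 1 k)) ∧ Set.range φ ⊆ {p}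
  · right
    refine ⟨hc, fun h1 => ?_⟩
    obtain ⟨p, hp, hr⟩ := hc
    obtain ⟨e⟩ := Groth.Agent.Lib.R2H4ModContr.nonempty_iso_of_range_subset φ p hr _ hE
    haveI := finite_HH k X _ cM 0
    have hfr : Module.finrank k (Coh.HH X ((Scheme.Modules.pullback φ).obj (Twist.twistProjSpace 1 k 1)) 0) = 1 := by
      rw [← Groth.Agent.Lib.R2H2.ClosedPnLin.finrank_HH_of_iso k e 0]; exact h1
    obtain ⟨s', hs'⟩ : ∃ s' : Fin (1 + 1) → LinSer.Sect X ((Scheme.Modules.pullback φ).obj (Twist.twistProjSpace 1 k 1)),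
        s' = fun i => OmegaSh.pullSect φ (Twist.twistProjSpace 1 k 1) ⊤ (Twist.globalOf (CohB1.polyGrading 1 k) (⟨MvPolynomial.X i, MvPolynomial.isHomogeneous_X k i⟩ : (CohB1.polyGrading 1 k) 1)) := ⟨_, rfl⟩
    have hnli : ¬ LinSer.LinIndep k X _ s' := fun h => by
      have := le_finrank_of_linIndep k X _ s' h
      omega
    apply hnli
    intro c hc
    apply hli
    have h3 : ∑ i, (Coh.toGlobal (X ↘ Spec (CommRingCat.of k)) (c i)) • s i =
        (α.val.app (Opposite.op ⊤)).hom (∑ i, (Coh.toGlobal (X ↘ Spec (CommRingCat.of k)) (c i)) • s' i) := by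
      rw [map_sum]
      refine Finset.sum_congr rfl fun i _ => ?_
      rw [map_smul, hs']
      simp only []
      rw [hφ2 i]
    rw [h3, hc, map_zero]
  · left
    refine ⟨hc, ?_⟩
    have hξ : φ (genericPoint X) = genericPoint (CohB1.ProjSpace 1 k) := by
      by_contra hne
      apply hc
      have hcl := Groth.Agent.Lib.R2H1.CurveDeg.isClosed_of_ne_generic k (CohB1.ProjSpace 1 k) hdimP _ hne
      refine ⟨_, hcl, ?_⟩
      rintro _ ⟨x, rfl⟩
      have hsp : φ (genericPoint X) ⤳ φ x :=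
        ((genericPoint_spec X).specializes trivial).map φ.continuous
      exact hsp.mem_closed hcl rfl
    have h1 := s7640 k X (CohB1.ProjSpace 1 k) hdim hdimP φ hφ1 hξ 1 _ hE1
    rw [deg_O1, mul_one] at h1
    have hα0 : α ≠ 0 := by
      intro h
      have := hφ2 0
      rw [h] at this
      exact ne_zero_of_linIndep k X L s hli 0 this.symm
    have h2 := (s1521 k X hdim _ L hM hLinv α hα0).1
    rw [h1, hdeg] at h2
    have h3 := finrank_stalk_eq_residueDegree φ (genericPoint X)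
      (isField_stalk_of_eq_genericPoint _ rfl) (isField_stalk_of_eq_genericPoint _ hξ)
    have h4 : φ.residueDegree (genericPoint X) ≤ d := by exact_mod_cast h2
    exact h3.le.trans h4

end Part2

end Groth.Agent.Lib.R2H1.LinSerDeg
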