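import Mathlib
import Groth.Agent.Lib.R2H1ProjChart
import Groth.Agent.Lib.R2H1IsoP1
import Groth.Agent.Lib.R2H1LinSerDeg
import Groth.Agent.Lib.R2H1PoleFilt
import Groth.Agent.Lib.R2H1WeierGeom
import Groth.Agent.Lib.R2H1WeierAlg
import Groth.Agent.Lib.R2H1Legendre
set_option backward.isDefEq.respectTransparency.types false

/-!
# An elliptic curve is a separable double cover of the projective line (helper1)

* exists_iso_of_mor, exists_mor_Pn_iso : sections s_0..s_n of an invertible L whose generating loci cover X give r : X -> P^n with chart ring maps AND an isomorphism r^* O(1) = L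
* finite_and_degree : r : X -> P^1 with r^* O(1) of positive degree d on an integral proper curve is finite with residue degree d at the generic point
* exists_double_cover : a function with a double pole at p gives a finite morphism of degree 2 to P^1, with the chart ring map on X minus p
* evaluation_injective, exists_fraction, residueFieldMap_evaluation : evaluation at the generic point
* formallyUnramified_of_weierstrass : derivation argument, K(x,y)/K_0 unramified when dW/dy is nonzero
* of_dy_eq_zero, not_smooth_of_char_two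
* hyperelliptic (S11577)
-/

set_option autoImplicit false
set_option linter.style.haveILetI false
set_option linter.unusedSectionVars false
universe u v

open CategoryTheory CategoryTheory.Limits AlgebraicGeometry TopologicalSpace Opposite

namespace Groth.Agent.Lib.R2H1.Hyperell

section Part1

open HomogeneousLocalization
open Groth.Agent.Helper13ProjUP
open Groth.Agent.Lib.Helper27GrTildeSect Groth.Agent.Helper13GrTildeFrac
  Groth.Agent.Helper13Dehom Groth.Agent.Helper13AffMor Groth.Agent.Helper13SymGr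
open Groth.Agent.Lib.Helper23.SecTw Groth.Agent.Lib.Helper6 Groth.Agent.Lib.Helper23.GenLocus
open Groth.Agent.Lib.Helper23.PB Groth.Agent.Helper13PullbackUnit Groth.Agent.Lib.Helper23.Extend
open Groth.Agent.Lib.R2H1.ProjChart

section General

variable {R A : Type u} [CommRing R] [CommRing A] [Algebra R A] (𝒜 : ℕ → Submodule R A)
  [GradedAlgebra 𝒜]
variable {M : Type u} [AddCommGroup M] [Module R M] (ι : M →ₗ[R] A)
variable {X : Scheme.{u}} (L : X.Modules)
  (v : M →+ ProjUP.Γm L)

/-- the isomorphism `r^* O(1) ≅ L` attached to a morphism with the expected chart maps -/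
theorem exists_iso_of_mor (hι : ∀ m, ι m ∈ 𝒜 1) (hL : PicF.IsInvertible L)
    (r : X ⟶ Proj 𝒜) (hle : ∀ m, XL L v m ≤ r ⁻¹ᵁ Proj.basicOpen 𝒜 (ι m))
    (hcov : ∀ x : X, ∃ m, x ∈ XL L v m)
    (hcf : ∀ m m', (r.appLE (Proj.basicOpen 𝒜 (ι m)) (XL L v m) (hle m)).hom
      (dehom (hι m) (ι m')) = cf L v m m') :
    Nonempty ((Scheme.Modules.pullback r).obj (O1 𝒜) ≅ L) := by
  set P := (Scheme.Modules.pullback r).obj (O1 𝒜) with hP
  obtain ⟨Φ, hΦ⟩ := exists_iso_of_frames P L (fun m => XL L v m) hcov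
    (fun m => pcoord r (hι m) (hle m)) (fun m => eL L v m)
    (fun m => isGen_pcoord r (hι m) (hle m)) (fun m => isGen_eL L v m)
    (fun m m' => by
      refine cocycle_of_transition (isGen_pcoord r (hι m') (hle m'))
        (resf inf_le_right (cf L v m' m)) ?_ ?_
      · rw [res_pcoord, res_pcoord]
        have h1 := unitSec_gsec r (hι m') (hι m)
          ((inf_le_right : XL L v m ⊓ XL L v m' ≤ XL L v m').trans (hle m'))
          ((inf_le_left : XL L v m ⊓ XL L v m' ≤ XL L v m).trans (hle m))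
        change pcoord r (hι m) _ = _
        unfold pcoord at h1 ⊢
        rw [h1]
        congr 1
        rw [← hcf m' m]
        have h3 := r.appLE_map (hle m') (homOfLE (inf_le_right : XL L v m ⊓ XL L v m' ≤ XL L v m')).op
        have h4 := congrArg (fun φ => φ.hom (dehom (hι m') (ι m))) h3
        exact h4.symm
      · rw [← res_smul, cf_spec, res_res, res_eL])
  exact ⟨Φ⟩

end General

/-- the morphism to projective space defined by sections, with chart maps and the isomorphism
`r^* O(1) ≅ L` -/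
theorem exists_mor_Pn_iso {R : Type u} [CommRing R] (n : ℕ) {X : Scheme.{u}}
    (q : X ⟶ Spec (CommRingCat.of R)) (L : X.Modules) (hL : PicF.IsInvertible L)
    (s : Fin (n + 1) → ProjUP.Γm L)
    (hcov : ∀ x : X, ∃ i, x ∈ CohB1.genLocus L (secHom L (s i))) :
    ∃ (r : X ⟶ Proj (CohB1.polyGrading n R)), r ≫ Groth.Agent.Helper13ProjUP.toBase (CohB1.polyGrading n R) = q ∧
      (∀ i, ∃ (hle : CohB1.genLocus L (secHom L (s i)) ≤
          r ⁻¹ᵁ Proj.basicOpen (CohB1.polyGrading n R) (MvPolynomial.X i))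
        (ψ : MvPolynomial (Fin (n + 1)) R →+* Γ(X, CohB1.genLocus L (secHom L (s i)))),
        (∀ c, ψ (MvPolynomial.C c) = resf le_top (ProjUP.toGlobal q c)) ∧
        (∀ j, ψ (MvPolynomial.X j) • res L (le_top : CohB1.genLocus L (secHom L (s i)) ≤ ⊤) (s i) =
          res L (le_top : CohB1.genLocus L (secHom L (s i)) ≤ ⊤) (s j)) ∧
        ∀ a, (r.appLE _ _ hle).hom (dehom (𝒜 := CohB1.polyGrading n R)
          (MvPolynomial.isHomogeneous_X R i) a) = ψ a) ∧
      Nonempty ((Scheme.Modules.pullback r).obj (O1 (CohB1.polyGrading n R)) ≅ L) := by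
  classical
  let b : Module.Basis (Fin (n + 1)) R (Fin (n + 1) → R) := Pi.basisFun R (Fin (n + 1))
  let ι : (Fin (n + 1) → R) →ₗ[R] MvPolynomial (Fin (n + 1)) R :=
    Module.Basis.constr b R (MvPolynomial.X : Fin (n + 1) → MvPolynomial (Fin (n + 1)) R)
  have hsym : IsSymmetricAlgebra ι := SymmetricAlgebra.IsSymmetricAlgebra.mvPolynomial (Fin (n + 1)) b
  have hιb : ∀ i, ι (Pi.single i 1) = MvPolynomial.X i := by
    intro i
    have := Module.Basis.constr_basis b R (MvPolynomial.X : Fin (n + 1) → MvPolynomial (Fin (n + 1)) R) i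
    rwa [Pi.basisFun_apply] at this
  have hι : ∀ m, ι m ∈ CohB1.polyGrading n R 1 := by
    intro m
    have hm : m = ∑ i, m i • (Pi.single i (1 : R) : Fin (n + 1) → R) := by
      ext j
      simp [Finset.sum_apply, Pi.single_apply]
    rw [hm, map_sum]
    refine Submodule.sum_mem _ (fun i _ => ?_)
    rw [map_smul, hιb]
    exact Submodule.smul_mem _ _ (MvPolynomial.isHomogeneous_X R i)
  let v : (Fin (n + 1) → R) →+ ProjUP.Γm L :=
    { toFun := fun m => ∑ i, ProjUP.toGlobal q (m i) • s i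
      map_zero' := by simp
      map_add' := fun m m' => by
        simp only [Pi.add_apply, map_add, add_smul, Finset.sum_add_distrib] }
  have hv : ∀ (c : R) (m : Fin (n + 1) → R), v (c • m) = ProjUP.toGlobal q c • v m := by
    intro c m
    change ∑ i, ProjUP.toGlobal q ((c • m) i) • s i = ProjUP.toGlobal q c • ∑ i, ProjUP.toGlobal q (m i) • s i
    rw [Finset.smul_sum]
    refine Finset.sum_congr rfl (fun i _ => ?_)
    rw [Pi.smul_apply, smul_eq_mul, map_mul, mul_smul]
  have hvb : ∀ i, v (Pi.single i 1) = s i := by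
    intro i
    change ∑ j, ProjUP.toGlobal q ((Pi.single i (1 : R) : Fin (n + 1) → R) j) • s j = s i
    rw [Finset.sum_eq_single i]
    · rw [Pi.single_eq_same, map_one, one_smul]
    · intro j _ hj
      rw [Pi.single_eq_of_ne hj, map_zero, zero_smul]
    · intro h
      exact absurd (Finset.mem_univ i) h
  have hcov' : ∀ x : X, ∃ m, x ∈ XL L v m := by
    intro x
    obtain ⟨i, hi⟩ := hcov x
    refine ⟨Pi.single i 1, ?_⟩
    change x ∈ CohB1.genLocus L (secHom L (v (Pi.single i 1)))
    rw [hvb i]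
    exact hi
  obtain ⟨r, hle, hrq, hψ⟩ := exists_mor' (CohB1.polyGrading n R) ι q L v hι hsym hL hv hcov'
  have hiso := exists_iso_of_mor (CohB1.polyGrading n R) ι L v hι hL r hle hcov' (fun m m' => by
    obtain ⟨ψ, h0, h1, h2⟩ := hψ m
    rw [h2, h1])
  refine ⟨r, hrq, fun i => ?_, hiso⟩
  obtain ⟨ψ, h0, h1, h2⟩ := hψ (Pi.single i 1)
  have key : ∀ (x : ProjUP.Γm L) (f : MvPolynomial (Fin (n + 1)) R)
      (hf : f ∈ CohB1.polyGrading n R 1), v (Pi.single i 1) = x → ι (Pi.single i 1) = f →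
      ∃ (hle' : CohB1.genLocus L (secHom L x) ≤
          r ⁻¹ᵁ Proj.basicOpen (CohB1.polyGrading n R) f)
        (ψ' : MvPolynomial (Fin (n + 1)) R →+* Γ(X, CohB1.genLocus L (secHom L x))),
        (∀ c, ψ' (MvPolynomial.C c) = resf le_top (ProjUP.toGlobal q c)) ∧
        (∀ j, ψ' (MvPolynomial.X j) • res L (le_top : CohB1.genLocus L (secHom L x) ≤ ⊤) x =
          res L (le_top : CohB1.genLocus L (secHom L x) ≤ ⊤) (s j)) ∧
        ∀ a, (r.appLE _ _ hle').hom (dehom (𝒜 := CohB1.polyGrading n R) hf a) = ψ' a := by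
    rintro _ _ hf rfl rfl
    refine ⟨hle _, ψ, fun c => h0 c, fun j => ?_, fun a => h2 a⟩
    have h3 := cf_spec L v (Pi.single i 1) (Pi.single j 1)
    rw [← h1, hιb, hvb] at h3
    exact h3
  exact key (s i) (MvPolynomial.X i) (MvPolynomial.isHomogeneous_X R i) (hvb i) (hιb i)

end Part1

section Part2

open Groth.Agent.Lib.Helper23.SecTw Groth.Agent.Lib.Helper23.GenLocus
  Groth.Agent.Lib.Helper23.Extend Groth.Agent.Lib.Helper6
open Groth.Agent.Lib.R2H1.CurveDegSec Groth.Agent.Lib.R2H1.CurveEuler Groth.Agent.Lib.R2H1.DegCartier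
open Groth.Agent.Lib.R2H1.CurveAmple Groth.Agent.Lib.R2H1.GenusLe
open Groth.Agent.Lib.R2H1.DegPullback Groth.Agent.Lib.R2H1.PointTwist
open Groth.Agent.Lib.R2H1.IsoP1

variable (k : Type u) [Field k] (X : Scheme.{u}) [X.Over (Spec (CommRingCat.of k))]
    [IsIntegral X] [IsProper (X ↘ (Spec (CommRingCat.of k)))]

/-- a morphism to the projective line with `r^* O(1)` of positive degree `d` is finite of
degree `d` -/
theorem finite_and_degree (hdim : topologicalKrullDim X = 1) (M : X.Modules) (d : ℕ)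
    (hd : 0 < d) (hdegM : Curv2.deg k X M 1 = d)
    (r : X ⟶ CohB1.ProjSpace 1 k)
    (hr : r ≫ CohB1.ProjSpace.toSpec 1 k = X ↘ (Spec (CommRingCat.of k)))
    (τ : (Scheme.Modules.pullback r).obj (Twist.twistProjSpace 1 k 1) ≅ M) :
    IsFinite r ∧ r.residueDegree (genericPoint X) = d := by
  haveI := isNoetherian_of_proper k X
  haveI := isIntegral_P1k k
  haveI := isProper_P1k k
  have hdimP := dim_P1k k
  haveI := isNoetherian_of_proper k (CohB1.ProjSpace 1 k)
  have hr' : r ≫ ((CohB1.ProjSpace 1 k) ↘ Spec (CommRingCat.of k)) =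
      X ↘ Spec (CommRingCat.of k) := hr
  haveI : IsProper (CohB1.ProjSpace.toSpec 1 k) :=
    Groth.Agent.S9705.isProper_projSpace_toSpec 1 k
  haveI : IsProper (r ≫ CohB1.ProjSpace.toSpec 1 k) := by rw [hr]; infer_instance
  haveI : IsProper r := IsProper.of_comp r (CohB1.ProjSpace.toSpec 1 k)
  have hO1 := Groth.Agent.Lib.R2H2.QProjK0.isAmple_twistProjSpace_one 1 k
  have hO1inv := hO1.1
  have hpinv := Groth.Agent.Lib.Helper23.PB.isInvertible_pullback r _ hO1inv
  -- no fibre is everything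
  have hnc : ∀ p, r ⁻¹' {p} ≠ Set.univ := by
    intro p huniv
    obtain ⟨j, s', hp, -⟩ := hO1.2.2 p
    obtain ⟨s'', hs''⟩ := Groth.Agent.Lib.Helper23.PB.exists_pullback_section r _ hO1inv (j + 1) s'
    have htop : CohB1.genLocus _ s'' = ⊤ := by
      rw [hs'', eq_top_iff]
      intro x _
      have hx : x ∈ r ⁻¹' {p} := by rw [huniv]; trivial
      have hx' : r x = p := hx
      show r x ∈ CohB1.genLocus _ s'
      rw [hx']
      exact hp
    haveI : IsIso s'' := (Groth.Agent.Lib.H9YBlowUp.isIso_iff_genLocus_eq_top _ s'').mpr htop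
    have hd0 : Curv2.deg k X (CohB1.tensorPow ((Scheme.Modules.pullback r).obj
        (Twist.twistProjSpace 1 k 1)) (j + 1)) 1 = 0 := by
      rw [← deg_congr k X (asIso s'') 1]
      unfold Curv2.deg
      push_cast
      ring
    have hd1 := deg_tensorPow k X hdim _ hpinv (j + 1)
    rw [hd0, deg_congr k X τ 1, hdegM] at hd1
    have h1 : (0 : ℤ) < ((j + 1 : ℕ) : ℤ) := by positivity
    have h2 : (0 : ℤ) < (d : ℤ) := by exact_mod_cast hd
    have h3 := mul_pos h1 h2
    omega
  -- the generic point goes to the generic point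
  have hξ : r.base (genericPoint X) = genericPoint (CohB1.ProjSpace 1 k) := by
    by_contra hne
    have hcl : closure ({r.base (genericPoint X)} : Set (CohB1.ProjSpace 1 k)) ≠ Set.univ := by
      intro h
      have hg : IsGenericPoint (r.base (genericPoint X)) (⊤ : Set (CohB1.ProjSpace 1 k)) := h
      exact hne (hg.eq (genericPoint_spec _))
    have hc := isClosed_singleton_of_closure_ne_univ hdimP.le _ hcl
    have hpre : IsClosed (r ⁻¹' {r.base (genericPoint X)}) := hc.preimage r.continuous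
    apply hnc (r.base (genericPoint X))
    rw [← hpre.closure_eq]
    apply Set.eq_univ_of_univ_subset
    have h1 : closure ({genericPoint X} : Set X) = Set.univ := (genericPoint_spec X).def
    rw [← h1]
    exact closure_mono (Set.singleton_subset_iff.mpr rfl)
  have hfin := isFinite_of_nonconstant k X (CohB1.ProjSpace 1 k) hdim hdimP r hr' hξ
  have hO1rank : FlatMod.IsFinLocFreeOfRank 1 (Twist.twistProjSpace 1 k 1) :=
    Groth.Agent.Lib.Helper23.SecTw.isFinLocFreeOfRank_one_of_isInvertible _ hO1inv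
  have h7640 := s7640 k X (CohB1.ProjSpace 1 k) hdim hdimP r hr' hξ 1 _ hO1rank
  rw [deg_congr k X τ 1, hdegM, Groth.Agent.Lib.R2H1.LinSerDeg.deg_O1, mul_one] at h7640
  exact ⟨hfin, by exact_mod_cast h7640.symm⟩

end Part2

section Part3

open Groth.Agent.Lib.Helper23.SecTw Groth.Agent.Lib.Helper23.GenLocus
  Groth.Agent.Lib.Helper23.Extend Groth.Agent.Lib.Helper6
open Groth.Agent.Lib.R2H1.CurveDegSec Groth.Agent.Lib.R2H1.CurveEuler Groth.Agent.Lib.R2H1.DegCartier
open Groth.Agent.Lib.R2H1.CurveAmple Groth.Agent.Lib.R2H1.GenusLe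
open Groth.Agent.Lib.R2H1.DegPullback Groth.Agent.Lib.R2H1.PointTwist
open Groth.Agent.Lib.R2H1.IsoP1
open Groth.Agent.Lib.R2H1.PoleFilt
open Groth.Agent.Helper13ProjUP Groth.Agent.Helper13Dehom

variable {k : Type u} [Field k] {X : Scheme.{u}} [X.Over (Spec (CommRingCat.of k))]

variable (L : X.Modules) (σ : Coh.structureModule X ⟶ L)
variable (W : X.Opens) (e : Γ(L, W)) (hgen : IsGen L W e) (t : Γ(X, W)) (ht : sv σ W = t • e)

include hgen ht in
/-- the double cover of the projective line defined by a function with a double pole -/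
theorem exists_double_cover [IsIntegral X] [IsProper (X ↘ (Spec (CommRingCat.of k)))]
    (hdim : topologicalKrullDim X = 1) (hL : PicF.IsInvertible L)
    (hdeg : Curv2.deg k X L 1 = 1)
    (p : X) (hpW : p ∈ W)
    (hdiv : ∀ c : Γ(X, W), p ∉ X.basicOpen c → t ∣ c)
    (hUc : ∀ w : X, w ∉ CohB1.genLocus L σ → w = p)
    (x : Γ(X, CohB1.genLocus L σ))
    (hx1 : PoleLE (CohB1.genLocus L σ) W t 2 x)
    (hx2 : ¬ PoleLE (CohB1.genLocus L σ) W t 1 x) :
    ∃ (r : X ⟶ Proj (CohB1.polyGrading 1 k)),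
      r ≫ toBase (CohB1.polyGrading 1 k) = (X ↘ Spec (CommRingCat.of k)) ∧ IsFinite r ∧
      r.residueDegree (genericPoint X) = 2 ∧
      ∃ (hle : CohB1.genLocus L σ ≤
          r ⁻¹ᵁ Proj.basicOpen (CohB1.polyGrading 1 k) (MvPolynomial.X 0))
        (ψ : MvPolynomial (Fin (1 + 1)) k →+* Γ(X, CohB1.genLocus L σ)),
        (∀ c, ψ (MvPolynomial.C c) =
          resf le_top (ProjUP.toGlobal (X ↘ Spec (CommRingCat.of k)) c)) ∧
        ψ (MvPolynomial.X 1) = x ∧
        ∀ a, (r.appLE _ _ hle).hom (dehom (𝒜 := CohB1.polyGrading 1 k)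
          (MvPolynomial.isHomogeneous_X k 0) a) = ψ a := by
  classical
  haveI := isNoetherian_of_proper k X
  have hcovW : CohB1.genLocus L σ ⊔ W = ⊤ := by
    rw [eq_top_iff]
    intro w _
    by_cases hw : w ∈ CohB1.genLocus L σ
    · exact Or.inl hw
    · exact Or.inr (hUc w hw ▸ hpW)
  have hM := isInvertible_tensorPow hL 2
  obtain ⟨sX, hsX⟩ := exists_of_poleLE L σ W e hgen t ht hcovW 2 x hx1
  have hpX : p ∈ CohB1.genLocus _ sX :=
    mem_genLocus_of_not_poleLE L σ W e hgen t ht p hpW hdiv 1 sX (by rw [hsX]; exact hx2)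
  obtain ⟨sec, hsecdef⟩ : ∃ sec : Fin (1 + 1) → (Coh.structureModule X ⟶ CohB1.tensorPow L 2),
      sec = ![SecTwist.powHom σ 2, sX] := ⟨_, rfl⟩
  have hsec0 : sec 0 = SecTwist.powHom σ 2 := by rw [hsecdef]; rfl
  have hsec1 : sec 1 = sX := by rw [hsecdef]; rfl
  obtain ⟨s, hsdef⟩ : ∃ s : Fin (1 + 1) → ProjUP.Γm (CohB1.tensorPow L 2),
      s = fun i => sv (sec i) ⊤ := ⟨_, rfl⟩
  have hss : ∀ i, secHom _ (s i) = sec i := by
    intro i
    rw [hsdef]
    exact Groth.Agent.Lib.R2H1.Hyperplane.secHom_sv _ _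
  have hcovs : ∀ w : X, ∃ i, w ∈ CohB1.genLocus _ (secHom _ (s i)) := by
    intro w
    by_cases hw : w ∈ CohB1.genLocus L σ
    · refine ⟨0, ?_⟩
      rw [hss, hsec0, genLocus_powHom hL σ 2 (by norm_num)]
      exact hw
    · refine ⟨1, ?_⟩
      rw [hss, hsec1, hUc w hw]
      exact hpX
  obtain ⟨r, hrq, H, ⟨τ⟩⟩ :=
    exists_mor_Pn_iso 1 (X ↘ Spec (CommRingCat.of k)) _ hM s hcovs
  have hdeg2 : Curv2.deg k X (CohB1.tensorPow L 2) 1 = 2 := by
    rw [Groth.Agent.Lib.R2H1.TwistBC.deg_tensorPow k X hdim L hL 2, hdeg]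
    norm_num
  have hfd : IsFinite r ∧ r.residueDegree (genericPoint X) = 2 := by
    have := finite_and_degree k X hdim (CohB1.tensorPow L 2) 2 (by norm_num)
      (by rw [hdeg2]; norm_num) r hrq τ
    exact this
  refine ⟨r, hrq, hfd.1, hfd.2, ?_⟩
  obtain ⟨hle, ψ, h0, h1, h2⟩ := H 0
  have hV : CohB1.genLocus _ (secHom _ (s 0)) = CohB1.genLocus L σ := by
    rw [hss, hsec0, genLocus_powHom hL σ 2 (by norm_num)]
  have key : ∀ (V : X.Opens) (hV : V = CohB1.genLocus L σ)
      (hle : V ≤ r ⁻¹ᵁ Proj.basicOpen (CohB1.polyGrading 1 k) (MvPolynomial.X 0))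
      (ψ : MvPolynomial (Fin (1 + 1)) k →+* Γ(X, V)),
      (∀ c, ψ (MvPolynomial.C c) =
        resf le_top (ProjUP.toGlobal (X ↘ Spec (CommRingCat.of k)) c)) →
      (ψ (MvPolynomial.X 1) • res _ (le_top : V ≤ ⊤) (s 0) = res _ (le_top : V ≤ ⊤) (s 1)) →
      (∀ a, (r.appLE _ _ hle).hom (dehom (𝒜 := CohB1.polyGrading 1 k)
        (MvPolynomial.isHomogeneous_X k 0) a) = ψ a) →
      ∃ (hle : CohB1.genLocus L σ ≤
          r ⁻¹ᵁ Proj.basicOpen (CohB1.polyGrading 1 k) (MvPolynomial.X 0))
        (ψ : MvPolynomial (Fin (1 + 1)) k →+* Γ(X, CohB1.genLocus L σ)),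
        (∀ c, ψ (MvPolynomial.C c) =
          resf le_top (ProjUP.toGlobal (X ↘ Spec (CommRingCat.of k)) c)) ∧
        ψ (MvPolynomial.X 1) = x ∧
        ∀ a, (r.appLE _ _ hle).hom (dehom (𝒜 := CohB1.polyGrading 1 k)
          (MvPolynomial.isHomogeneous_X k 0) a) = ψ a := by
    rintro _ rfl hle ψ h0 h1 h2
    refine ⟨hle, ψ, h0, ?_, h2⟩
    rw [← hsX]
    apply rho_unique
    rw [hsdef] at h1
    simp only [res_sv] at h1
    rw [hsec0, hsec1, sv_powHom] at h1
    exact h1
  exact key _ hV hle ψ h0 (h1 1) h2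

end Part3

section Part4

variable {X : Scheme.{u}} [IsIntegral X]

/-- evaluation at the generic point is injective -/
theorem evaluation_injective (U : X.Opens) (hη : genericPoint X ∈ U) :
    Function.Injective (X.evaluation U (genericPoint X) hη).hom := by
  have h1 : Function.Injective (X.presheaf.germ U (genericPoint X) hη).hom :=
    germ_injective_of_isIntegral X (genericPoint X) hη
  have h2 : Function.Injective (X.residue (genericPoint X)).hom := by
    letI : Field (X.presheaf.stalk (genericPoint X)) :=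
      inferInstanceAs (Field X.functionField)
    exact RingHom.injective _
  exact h2.comp h1

/-- every element of the residue field of the generic point is a fraction of sections over an
affine open -/
theorem exists_fraction (U : X.Opens) (hU : IsAffineOpen U) (hη : genericPoint X ∈ U)
    (z : X.residueField (genericPoint X)) :
    ∃ a b : Γ(X, U), (X.evaluation U (genericPoint X) hη).hom b ≠ 0 ∧
      z * (X.evaluation U (genericPoint X) hη).hom b =
        (X.evaluation U (genericPoint X) hη).hom a := by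
  haveI : Nonempty U := ⟨⟨_, hη⟩⟩
  haveI := functionField_isFractionRing_of_isAffineOpen X U hU
  obtain ⟨g, rfl⟩ := X.residue_surjective (genericPoint X) z
  obtain ⟨⟨a, b⟩, hab⟩ := IsLocalization.surj (nonZeroDivisors Γ(X, U)) (g : X.functionField)
  refine ⟨a, b.1, ?_, ?_⟩
  · intro h0
    have hb : (b.1 : Γ(X, U)) = 0 := by
      apply evaluation_injective U hη
      rw [h0, map_zero]
    exact nonZeroDivisors.ne_zero b.2 hb
  · have := congrArg (X.residue (genericPoint X)).hom hab
    rw [map_mul] at this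
    exact this

variable {Y : Scheme.{u}} (r : X ⟶ Y)

/-- naturality of evaluation with respect to `appLE` -/
theorem residueFieldMap_evaluation (x : X) (V : Y.Opens) (U : X.Opens) (hle : U ≤ r ⁻¹ᵁ V)
    (hx : x ∈ U) (a : Γ(Y, V)) :
    (r.residueFieldMap x).hom ((Y.evaluation V (r x) (hle hx)).hom a) =
      (X.evaluation U x hx).hom ((r.appLE V U hle).hom a) := by
  have h1 := Scheme.evaluation_naturality_apply r x (hle hx) a
  rw [h1]
  unfold Scheme.Hom.appLE
  change _ = (X.evaluation U x hx).hom ((X.presheaf.map (homOfLE hle).op).hom ((r.app V).hom a))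
  unfold Scheme.evaluation
  change _ = (X.residue x).hom ((X.presheaf.germ U x hx).hom
    ((X.presheaf.map (homOfLE hle).op).hom ((r.app V).hom a)))
  rw [TopCat.Presheaf.germ_res_apply]
  rfl

end Part4

section Part5

open Groth.Agent.Lib.R2H1.WeierAlg

variable {k A : Type u} [Field k] [CommRing A] [Algebra k A]
variable {F₀ K : Type u} [Field F₀] [Field K] [Algebra F₀ K]

/-- the function field of a Weierstrass curve is unramified over the field of functions of `x`
as soon as the `y`-derivative of the equation does not vanish -/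
theorem formallyUnramified_of_weierstrass (ev' : A →+* K)
    (hk : ∀ c : k, ev' (algebraMap k A c) ∈ (algebraMap F₀ K).range)
    {x y : A} {a₁ a₂ a₃ a₄ a₆ : k} (hx : ev' x ∈ (algebraMap F₀ K).range)
    (hrel : y ^ 2 + a₁ • (x * y) + a₃ • y = x ^ 3 + a₂ • x ^ 2 + a₄ • x + a₆ • (1 : A))
    (hwy : ev' (y + y + a₁ • x + a₃ • (1 : A)) ≠ 0)
    (hgen : ∀ a : A, ∃ P : MvPolynomial (Fin (2 + 1)) k, ev (k := k) x y P = a)
    (hfrac : ∀ z : K, ∃ a b : A, ev' b ≠ 0 ∧ z * ev' b = ev' a) :
    Algebra.FormallyUnramified F₀ K := by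
  let A₁ : Subring A :=
    { carrier := {a | KaehlerDifferential.D F₀ K (ev' a) = 0}
      mul_mem' := fun {a b} ha hb => by
        change KaehlerDifferential.D F₀ K (ev' (a * b)) = 0
        rw [map_mul, Derivation.leibniz]
        have ha' : KaehlerDifferential.D F₀ K (ev' a) = 0 := ha
        have hb' : KaehlerDifferential.D F₀ K (ev' b) = 0 := hb
        rw [ha', hb', smul_zero, smul_zero, add_zero]
      one_mem' := by
        change KaehlerDifferential.D F₀ K (ev' 1) = 0
        rw [map_one, Derivation.map_one_eq_zero]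
      add_mem' := fun {a b} ha hb => by
        change KaehlerDifferential.D F₀ K (ev' (a + b)) = 0
        have ha' : KaehlerDifferential.D F₀ K (ev' a) = 0 := ha
        have hb' : KaehlerDifferential.D F₀ K (ev' b) = 0 := hb
        rw [map_add, map_add, ha', hb', add_zero]
      zero_mem' := by
        change KaehlerDifferential.D F₀ K (ev' 0) = 0
        rw [map_zero, map_zero]
      neg_mem' := fun {a} ha => by
        change KaehlerDifferential.D F₀ K (ev' (-a)) = 0
        have ha' : KaehlerDifferential.D F₀ K (ev' a) = 0 := ha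
        rw [map_neg, map_neg, ha', neg_zero] }
  have hmem : ∀ a, a ∈ A₁ ↔ KaehlerDifferential.D F₀ K (ev' a) = 0 := fun a => Iff.rfl
  have hrange : ∀ a, ev' a ∈ (algebraMap F₀ K).range → a ∈ A₁ := by
    rintro a ⟨f, hf⟩
    rw [hmem, ← hf, Derivation.map_algebraMap]
  have hkmem : ∀ c : k, algebraMap k A c ∈ A₁ := fun c => hrange _ (hk c)
  have hxmem : x ∈ A₁ := hrange _ hx
  have hsmul : ∀ (c : k) (a : A), a ∈ A₁ → c • a ∈ A₁ := by
    intro c a ha
    rw [Algebra.smul_def]
    exact A₁.mul_mem (hkmem c) ha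
  have hRHS : x ^ 3 + a₂ • x ^ 2 + a₄ • x + a₆ • (1 : A) ∈ A₁ :=
    A₁.add_mem (A₁.add_mem (A₁.add_mem (A₁.pow_mem hxmem 3) (hsmul _ _ (A₁.pow_mem hxmem 2)))
      (hsmul _ _ hxmem)) (hsmul _ _ A₁.one_mem)
  have hLHS : y ^ 2 + a₁ • (x * y) + a₃ • y = (y + a₁ • x + a₃ • (1 : A)) * y := by
    simp only [Algebra.smul_def]
    ring
  have hv : a₁ • x + a₃ • (1 : A) ∈ A₁ := A₁.add_mem (hsmul _ _ hxmem) (hsmul _ _ A₁.one_mem)
  have hymem : y ∈ A₁ := by
    rw [hmem]
    have h1 : KaehlerDifferential.D F₀ K (ev' ((y + a₁ • x + a₃ • (1 : A)) * y)) = 0 := by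
      rw [← hLHS, hrel]
      exact hRHS
    rw [map_mul, Derivation.leibniz] at h1
    have h2 : KaehlerDifferential.D F₀ K (ev' (y + a₁ • x + a₃ • (1 : A))) =
        KaehlerDifferential.D F₀ K (ev' y) := by
      rw [add_assoc, map_add, map_add]
      have : KaehlerDifferential.D F₀ K (ev' (a₁ • x + a₃ • (1 : A))) = 0 := hv
      rw [this, add_zero]
    rw [h2, ← add_smul, ← map_add] at h1
    have h3 : y + a₁ • x + a₃ • (1 : A) + y = y + y + a₁ • x + a₃ • (1 : A) := by ring
    rw [h3] at h1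
    rcases smul_eq_zero.mp h1 with h | h
    · exact absurd h hwy
    · exact h
  have hall : ∀ a : A, a ∈ A₁ := by
    intro a
    obtain ⟨P, rfl⟩ := hgen a
    induction P using MvPolynomial.induction_on with
    | C c =>
      have : ev (k := k) x y (MvPolynomial.C c) = algebraMap k A c := by simp [ev]
      rw [this]
      exact hkmem c
    | add p q hp hq =>
      rw [map_add]
      exact A₁.add_mem hp hq
    | mul_X p i hp =>
      rw [map_mul]
      refine A₁.mul_mem hp ?_
      fin_cases i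
      · change ev (k := k) x y (MvPolynomial.X 0) ∈ A₁
        rw [ev_X0]; exact hxmem
      · change ev (k := k) x y (MvPolynomial.X 1) ∈ A₁
        rw [ev_X1]; exact hymem
      · change ev (k := k) x y (MvPolynomial.X 2) ∈ A₁
        rw [ev_X2]; exact A₁.one_mem
  have hD : ∀ z : K, KaehlerDifferential.D F₀ K z = 0 := by
    intro z
    obtain ⟨a, b, hb, hab⟩ := hfrac z
    have h1 := congrArg (KaehlerDifferential.D F₀ K) hab
    rw [Derivation.leibniz, (hmem a).mp (hall a), (hmem b).mp (hall b), smul_zero, zero_add] at h1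
    rcases smul_eq_zero.mp h1 with h | h
    · exact absurd h hb
    · exact h
  constructor
  have htop : (⊥ : Submodule K (Ω[K⁄F₀])) = ⊤ := by
    rw [← KaehlerDifferential.span_range_derivation, eq_comm, Submodule.span_eq_bot]
    rintro _ ⟨z, rfl⟩
    exact hD z
  exact (Submodule.subsingleton_iff K).mp (subsingleton_of_bot_eq_top htop)

end Part5

section Part6

open Groth.Agent.Lib.R2H1.WeierAlg Groth.Agent.Lib.R2H1.PlaneChart
open Groth.Agent.Lib.R2H1.HypIdeal Groth.Agent.Helper13ProjUP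
open Groth.Agent.Lib.R2H1.Legendre

section Alg

variable {k A : Type u} [Field k] [CommRing A] [Algebra k A] {F : ℕ → Submodule k A}

/-- if the `y`-derivative of a Weierstrass equation vanishes identically, the characteristic is
two and `a₁ = a₃ = 0` -/
theorem of_dy_eq_zero (hF : IsPoleFiltration F) {x y : A} {a₁ a₃ : k}
    (hx : Exact F x 1) (hy : Exact F y 2)
    (h : y + y + a₁ • x + a₃ • (1 : A) = 0) : (2 : k) = 0 ∧ a₁ = 0 ∧ a₃ = 0 := by
  have h1F : (1 : A) ∈ F 2 := hF.mono_le (Nat.zero_le 2) hF.one_mem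
  have h2 : (2 : k) = 0 := by
    by_contra h2
    apply hy.2
    have hy' : y = (-(2 : k)⁻¹) • (a₁ • x + a₃ • (1 : A)) := by
      have e1 : (2 : k) • y = -(a₁ • x + a₃ • (1 : A)) := by
        rw [two_smul]
        linear_combination h
      have e2 : y = (2 : k)⁻¹ • ((2 : k) • y) := by
        rw [smul_smul, inv_mul_cancel₀ h2, one_smul]
      rw [e2, e1, neg_smul, smul_neg]
    rw [hy']
    exact Submodule.smul_mem _ _
      (Submodule.add_mem _ (Submodule.smul_mem _ _ hx.1) (Submodule.smul_mem _ _ h1F))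
  have hyy : y + y = 0 := by
    rw [← two_smul k y, h2, zero_smul]
  rw [hyy, zero_add] at h
  have ha₁ : a₁ = 0 := by
    by_contra ha₁
    apply hx.2
    have hx' : x = (-(a₁⁻¹ * a₃)) • (1 : A) := by
      have e1 : a₁ • x = -(a₃ • (1 : A)) := by linear_combination h
      have e2 : x = a₁⁻¹ • (a₁ • x) := by
        rw [smul_smul, inv_mul_cancel₀ ha₁, one_smul]
      rw [e2, e1, neg_smul, smul_neg, smul_smul]
    rw [hx']
    exact Submodule.smul_mem _ _ (hF.mono_le (Nat.zero_le 1) hF.one_mem)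
  refine ⟨h2, ha₁, ?_⟩
  rw [ha₁, zero_smul, zero_add] at h
  by_contra ha₃
  apply hF.one_ne_zero'
  have : (1 : A) = a₃⁻¹ • (a₃ • (1 : A)) := by
    rw [smul_smul, inv_mul_cancel₀ ha₃, one_smul]
  rw [this, h, smul_zero]

end Alg

variable {k : Type u} [Field k]

/-- in characteristic two a Weierstrass cubic with `a₁ = a₃ = 0` is not smooth -/
theorem not_smooth_of_char_two (h2 : (2 : k) = 0) (a₂ a₄ a₆ : k) :
    ¬ Smooth ((hypI (⟨Wpoly 0 a₂ 0 a₄ a₆, Wpoly_mem 0 a₂ 0 a₄ a₆⟩ :
      LefPen.Form 2 k 3)).subschemeι ≫ toBase (CohB1.polyGrading 2 k)) := by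
  intro hsm
  have h2K : (2 : AlgebraicClosure k) = 0 := by
    have := congrArg (algebraMap k (AlgebraicClosure k)) h2
    rwa [map_ofNat, map_zero] at this
  obtain ⟨x₀, hx0⟩ := IsAlgClosed.exists_pow_nat_eq
    (algebraMap k (AlgebraicClosure k) a₄) (n := 2) (by norm_num)
  obtain ⟨y₀, hy0⟩ := IsAlgClosed.exists_pow_nat_eq
    (x₀ ^ 3 + algebraMap k (AlgebraicClosure k) a₂ * x₀ ^ 2 +
      algebraMap k (AlgebraicClosure k) a₄ * x₀ + algebraMap k (AlgebraicClosure k) a₆)
    (n := 2) (by norm_num)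
  obtain ⟨j, hj⟩ := jac_of_smooth
    (⟨Wpoly 0 a₂ 0 a₄ a₆, Wpoly_mem 0 a₂ 0 a₄ a₆⟩ : LefPen.Form 2 k 3) hsm 2
    (by
      change dq 2 k 2 (Wpoly 0 a₂ 0 a₄ a₆) ≠ 0
      rw [dq2_Wpoly]; exact wpoly_ne_zero _ _ _ _ _)
    (AlgebraicClosure k) x₀ y₀ (by
      change pt (k := k) x₀ y₀ (dq 2 k 2 (Wpoly 0 a₂ 0 a₄ a₆)) = 0
      rw [dq2_Wpoly, pt_wpoly, map_zero]
      linear_combination hy0)
  apply hj
  change pt (k := k) x₀ y₀ (MvPolynomial.pderiv j (dq 2 k 2 (Wpoly 0 a₂ 0 a₄ a₆))) = 0
  rw [dq2_Wpoly]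
  fin_cases j
  · change pt (k := k) x₀ y₀ (MvPolynomial.pderiv 0 _) = 0
    rw [pt_d0_wpoly, map_zero]
    linear_combination (-3) * hx0 -
      (2 * algebraMap k (AlgebraicClosure k) a₄ + algebraMap k (AlgebraicClosure k) a₂ * x₀) * h2K
  · change pt (k := k) x₀ y₀ (MvPolynomial.pderiv 1 _) = 0
    rw [pt_d1_wpoly, map_zero]
    linear_combination y₀ * h2K

end Part6

section Part7

open Groth.Agent.Lib.Helper23.SecTw Groth.Agent.Lib.Helper6 Groth.Agent.Lib.Helper23.GenLocus
open Groth.Agent.Lib.R2H1.PoleFilt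
open Groth.Agent.Lib.R2H1.WeierAlg
open Groth.Agent.Lib.R2H1.WeierGeom
open Groth.Agent.Helper13ProjUP Groth.Agent.Helper13Dehom
open Groth.Agent.Lib.R2H1.HypIdeal
open Groth.Agent.Lib.R2H1.CurveEuler
open Groth.Agent.Lib.R2H1.Legendre


attribute [local instance] algU

/-- an elliptic curve is a separable double cover of the projective line -/
theorem hyperelliptic (k : Type u) [Field k] (X : Scheme.{u}) [X.Over (Spec (CommRingCat.of k))]
    [IsIntegral X] [IsProper (X ↘ (Spec (CommRingCat.of k)))]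
    [Smooth (X ↘ (Spec (CommRingCat.of k)))]
    (hdim : topologicalKrullDim X = 1) (o : Spec (CommRingCat.of k) ⟶ X)
    (ho : o ≫ (X ↘ (Spec (CommRingCat.of k))) = 𝟙 _)
    (hg : Curv2.genus k X = 1) :
    ∃ f : X ⟶ Proj (CohB1.polyGrading 1 k),
      f ≫ toBase (CohB1.polyGrading 1 k) = (X ↘ Spec (CommRingCat.of k)) ∧ IsFinite f ∧
      f.residueDegree (genericPoint X) = 2 ∧
      letI := (f.residueFieldMap (genericPoint X)).hom.toAlgebra
      Algebra.IsSeparable
        ((Proj (CohB1.polyGrading 1 k)).residueField (f (genericPoint X)))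
        (X.residueField (genericPoint X)) := by
  haveI := isNoetherian_of_proper k X
  obtain ⟨L, hL, σ, W, e, t, p, hW, hpW, hgen, hsv, hdiv, hpt, hU, hpc, hdeg, h0, hpos⟩ :=
    exists_pole_data k X hdim o ho hg
  have hUc : ∀ w : X, w ∉ CohB1.genLocus L σ → w = p := by
    intro w hw
    by_contra hne
    apply hw
    have : w ∈ (CohB1.genLocus L σ : Set X) := by
      rw [hU]
      exact hne
    exact this
  have hη : genericPoint X ∈ CohB1.genLocus L σ := by
    have : genericPoint X ∈ (CohB1.genLocus L σ : Set X) := by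
      rw [hU]
      intro h
      rw [Set.mem_singleton_iff] at h
      apply Groth.Agent.Lib.R2H1.TwistBC.not_isClosed_genericPoint (T := X) hdim
      rw [h]
      exact hpc
    exact this
  haveI : Nonempty (CohB1.genLocus L σ) := ⟨⟨genericPoint X, hη⟩⟩
  have hcov : CohB1.genLocus L σ ⊔ W = ⊤ := by
    rw [eq_top_iff]
    intro w _
    by_cases hw : w ∈ CohB1.genLocus L σ
    · exact Or.inl hw
    · exact Or.inr (hUc w hw ▸ hpW)
  have hF := isPoleFiltration (k := k) L σ W e hgen t hsv hL hcov p hpW hdiv hpt h0 hpos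
  have hample1 : CohB1.IsAmple L :=
    (Groth.Agent.Lib.R2H1.CurveAmple.s1530 k X hdim L hL).2 (by rw [hdeg]; norm_num)
  have hUa : IsAffineOpen (CohB1.genLocus L σ) :=
    Groth.Agent.Lib.R2H3.GenLocAffine.isAffine_genLocus_of_universallyClosed
      (X ↘ (Spec (CommRingCat.of k))) L hample1 σ
  have hM := isInvertible_tensorPow hL 3
  have hample3 : CohB1.IsAmple (CohB1.tensorPow L 3) := by
    refine (Groth.Agent.Lib.R2H1.CurveAmple.s1530 k X hdim _ hM).2 ?_
    rw [Groth.Agent.Lib.R2H1.TwistBC.deg_tensorPow k X hdim L hL 3, hdeg]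
    norm_num
  have haff : ∀ s : Coh.structureModule X ⟶ CohB1.tensorPow L 3,
      IsAffineOpen (CohB1.genLocus _ s) := fun s =>
    Groth.Agent.Lib.R2H3.GenLocAffine.isAffine_genLocus_of_universallyClosed
      (X ↘ (Spec (CommRingCat.of k))) _ hample3 s
  obtain ⟨x, y, a₁, a₂, a₃, a₄, a₆, hx, hy, hrel⟩ := exists_weierstrass hF
  -- the y-derivative does not vanish
  have hwy : y + y + a₁ • x + a₃ • (1 : Γ(X, CohB1.genLocus L σ)) ≠ 0 := by
    intro h
    obtain ⟨h2, rfl, rfl⟩ := of_dy_eq_zero hF hx hy h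
    obtain ⟨r₂, hr₂, hci₂, hker₂⟩ := embedding_of_rel (k := k) L σ W e hgen t hsv hL hW p hpW
      hdiv hUc hUa haff hF x y 0 a₂ 0 a₄ a₆ hx hy hrel
    exact not_smooth_of_char_two h2 a₂ a₄ a₆ (smooth_of_closedImmersion _ r₂ hr₂ hker₂)
  -- the double cover
  obtain ⟨r, hrq, hfin, hres, hle, ψ, hψC, hψX, hψr⟩ :=
    exists_double_cover L σ W e hgen t hsv hdim hL hdeg p hpW hdiv hUc x hx.1 hx.2
  refine ⟨r, hrq, hfin, hres, ?_⟩
  letI := (r.residueFieldMap (genericPoint X)).hom.toAlgebra
  have halg : ∀ z, algebraMap ((Proj (CohB1.polyGrading 1 k)).residueField (r (genericPoint X)))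
      (X.residueField (genericPoint X)) z = (r.residueFieldMap (genericPoint X)).hom z :=
    fun z => rfl
  have hrange : ∀ a : MvPolynomial (Fin (1 + 1)) k,
      (X.evaluation (CohB1.genLocus L σ) (genericPoint X) hη).hom (ψ a) ∈
        (algebraMap ((Proj (CohB1.polyGrading 1 k)).residueField (r (genericPoint X)))
          (X.residueField (genericPoint X))).range := by
    intro a
    refine ⟨((Proj (CohB1.polyGrading 1 k)).evaluation _ (r (genericPoint X)) (hle hη)).hom
      (dehom (𝒜 := CohB1.polyGrading 1 k) (MvPolynomial.isHomogeneous_X k 0) a), ?_⟩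
    rw [halg, residueFieldMap_evaluation r (genericPoint X) _ _ hle hη, hψr]
  have hB := genLocus_inf_eq_of_isGen L σ W e t hgen hsv
  have hunr : Algebra.FormallyUnramified
      ((Proj (CohB1.polyGrading 1 k)).residueField (r (genericPoint X)))
      (X.residueField (genericPoint X)) := by
    refine formallyUnramified_of_weierstrass (k := k)
      (X.evaluation (CohB1.genLocus L σ) (genericPoint X) hη).hom ?_ ?_ hrel ?_ ?_ ?_
    · intro c
      have h1 : algebraMap k Γ(X, CohB1.genLocus L σ) c = ψ (MvPolynomial.C c) := by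
        rw [hψC]
        rfl
      rw [h1]
      exact hrange _
    · rw [← hψX]
      exact hrange _
    · intro h
      apply hwy
      apply evaluation_injective _ hη
      rw [h, map_zero]
    · intro a
      obtain ⟨m, hm⟩ := exists_poleLE hW hB a
      have h1 : a ∈ Fil (k := k) (CohB1.genLocus L σ) W t (3 * (m + 1)) :=
        hF.mono_le (by omega) hm
      rw [← map_ev_eq hF hx hy (m + 1) (by omega)] at h1
      obtain ⟨P, -, hP⟩ := h1
      exact ⟨P, hP⟩
    · intro z
      exact exists_fraction _ hUa hη z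
  haveI : Module.Finite ((Proj (CohB1.polyGrading 1 k)).residueField (r (genericPoint X)))
      (X.residueField (genericPoint X)) := by
    apply Module.finite_of_finrank_pos
    have : Module.finrank ((Proj (CohB1.polyGrading 1 k)).residueField (r (genericPoint X)))
        (X.residueField (genericPoint X)) = 2 := hres
    rw [this]
    norm_num
  exact Algebra.FormallyUnramified.isSeparable _ _

end Part7

end Groth.Agent.Lib.R2H1.Hyperell
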