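import Mathlib
import Groth.Agent.Lib.R2H1Hyperell
import Groth.Agent.Lib.R2H1PlaneChart
import Groth.Agent.Lib.Helper4NormIso
import Groth.Agent.Lib.H9FEtDegA
import Groth.Agent.Lib.R2H4DegAdd
import Groth.Agent.Lib.H9SteinSm
import Groth.Agent.Lib.R2H1DblCoverAlg
set_option backward.isDefEq.respectTransparency.types false

/-!
helper1 (round 2): the geometry of a double cover r : X -> P^1_k of a smooth proper geometrically connected curve. LL r = r^*O(1), sigma, ratio r h1 f0 = r^#(f0/f1), basicOpen_ratio, genLocus_sigma, ratio_mul_ratio, finrank_H0_tensorPow (RR with vanishing), isNormalScheme_of_smooth_curve, exists_of_sq_add_mul, isIntegralElem, not_isAffine, map_genericPoint, deg_LL, geom_main (the structure theorem: Gamma(r^-1 D+(T0)) = k[t] + k[t] y, y^2 + Q(t) y = P(t), degree bounds, h0(L^m) = m+1 for m <= g), hX0_of_geomConn, residueDegree_of_finrank, exists_iso_of_algEquiv.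
-/

set_option autoImplicit false
set_option linter.style.haveILetI false
set_option linter.unusedSectionVars false
universe u v

open CategoryTheory CategoryTheory.Limits AlgebraicGeometry TopologicalSpace Opposite

namespace Groth.Agent.Lib.R2H1.DblCoverGeom

section Part1

open HomogeneousLocalization
open Groth.Agent.Helper13ProjUP
open Groth.Agent.Lib.Helper27GrTildeSect Groth.Agent.Helper13GrTildeFrac
  Groth.Agent.Helper13Dehom Groth.Agent.Helper13AffMor Groth.Agent.Helper13SymGr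
open Groth.Agent.Lib.Helper23.SecTw Groth.Agent.Lib.Helper6 Groth.Agent.Lib.Helper23.GenLocus
open Groth.Agent.Lib.Helper23.PB Groth.Agent.Helper13PullbackUnit Groth.Agent.Lib.Helper23.Extend
open Groth.Agent.Lib.R2H1.ProjChart Groth.Agent.Lib.R2H1.PoleFilt

section General

variable {R A : Type u} [CommRing R] [CommRing A] [Algebra R A] {𝒜 : ℕ → Submodule R A}
  [GradedAlgebra 𝒜]
variable {X : Scheme.{u}} (r : X ⟶ Proj 𝒜)
variable {f₀ f₁ : A} (h₀ : f₀ ∈ 𝒜 1) (h₁ : f₁ ∈ 𝒜 1)

/-- the pullback of `O(1)` -/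
noncomputable abbrev LL : X.Modules := (Scheme.Modules.pullback r).obj (O1 𝒜)

/-- the pulled back global section `r^* f₀` -/
noncomputable def σ₀ : Γ(LL r, ⊤) :=
  unitSec r (O1 𝒜) (le_top : (⊤ : X.Opens) ≤ r ⁻¹ᵁ ⊤) (gsec 𝒜 1 ⊤ h₀)

/-- the corresponding morphism `O ⟶ r^* O(1)` -/
noncomputable def σ : Coh.structureModule X ⟶ LL r := secHom (LL r) (σ₀ r h₀)

/-- the chart `r⁻¹ D₊(f)` -/
noncomputable abbrev VV (f : A) : X.Opens := r ⁻¹ᵁ Proj.basicOpen 𝒜 f

/-- the function `r^*(f₀/f₁)` on an open of `r⁻¹ D₊(f₁)` -/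
noncomputable def ratio (f₀ : A) {V : X.Opens} (hV : V ≤ VV r f₁) : Γ(X, V) :=
  (r.appLE (Proj.basicOpen 𝒜 f₁) V hV).hom (dehom h₁ f₀)

theorem resf_ratio (f₀ : A) {V V' : X.Opens} (hV : V ≤ VV r f₁) (h : V' ≤ V) :
    resf h (ratio r h₁ f₀ hV) = ratio r h₁ f₀ (h.trans hV) := by
  unfold ratio
  have h3 := r.appLE_map hV (homOfLE h).op
  exact congrArg (fun φ => φ.hom (dehom h₁ f₀)) h3

theorem sv_σ {V : X.Opens} (hV : V ≤ VV r f₁) :
    sv (σ r h₀) V = ratio r h₁ f₀ hV • pcoord r h₁ hV := by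
  unfold σ
  rw [sv_secHom]
  unfold σ₀
  rw [res_unitSec r (O1 𝒜) (le_top : (⊤ : X.Opens) ≤ r ⁻¹ᵁ ⊤)
    (fun _ _ => trivial : V ≤ r ⁻¹ᵁ ⊤) le_rfl le_top, res_self]
  exact unitSec_gsec r h₁ h₀ hV (U := ⊤) (fun _ _ => trivial)

theorem ratio_self {V : X.Opens} (hV : V ≤ VV r f₀) : ratio r h₀ f₀ hV = 1 := by
  unfold ratio
  rw [dehom_self, map_one]

theorem genLocus_inf (f₁ : A) (h₁ : f₁ ∈ 𝒜 1) :
    CohB1.genLocus (LL r) (σ r h₀) ⊓ VV r f₁ = X.basicOpen (ratio r h₁ f₀ (le_rfl : VV r f₁ ≤ _)) :=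
  genLocus_inf_eq_of_isGen _ _ _ _ _ (isGen_pcoord r h₁ le_rfl) (sv_σ r h₀ h₁ le_rfl)

include h₀ in
theorem basicOpen_ratio :
    X.basicOpen (ratio r h₁ f₀ (le_rfl : VV r f₁ ≤ _)) = VV r f₀ ⊓ VV r f₁ := by
  unfold ratio
  rw [Scheme.Hom.appLE_eq_app, ← Scheme.preimage_basicOpen, basicOpen_dehom h₀ h₁]
  rfl

include h₀ h₁ in
theorem genLocus_σ (hcov : Proj.basicOpen 𝒜 f₀ ⊔ Proj.basicOpen 𝒜 f₁ = ⊤) :
    CohB1.genLocus (LL r) (σ r h₀) = VV r f₀ := by
  have h1 := genLocus_inf r h₀ f₀ h₀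
  rw [ratio_self, Scheme.basicOpen_of_isUnit _ isUnit_one] at h1
  have h2 := genLocus_inf r h₀ f₁ h₁
  rw [basicOpen_ratio r h₀ h₁] at h2
  apply le_antisymm
  · intro x hx
    have hx' : r x ∈ Proj.basicOpen 𝒜 f₀ ⊔ Proj.basicOpen 𝒜 f₁ := by rw [hcov]; trivial
    rcases hx' with h | h
    · exact h
    · have : x ∈ CohB1.genLocus (LL r) (σ r h₀) ⊓ VV r f₁ := ⟨hx, h⟩
      rw [h2] at this
      exact this.1
  · intro x hx
    have : x ∈ CohB1.genLocus (LL r) (σ r h₀) ⊓ VV r f₀ := by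
      rw [h1]
      exact hx
    exact this.1

/-- `r^*(f₁/f₀) · r^*(f₀/f₁) = 1` on the overlap -/
theorem ratio_mul_ratio {V : X.Opens} (hV₀ : V ≤ VV r f₀) (hV₁ : V ≤ VV r f₁) :
    ratio r h₀ f₁ hV₀ * ratio r h₁ f₀ hV₁ = 1 := by
  have hVW : V ≤ r ⁻¹ᵁ (Proj.basicOpen 𝒜 f₀ ⊓ Proj.basicOpen 𝒜 f₁) := fun x hx => ⟨hV₀ hx, hV₁ hx⟩
  have h := dehom_mul_dehom h₁ h₀
    (inf_le_right : Proj.basicOpen 𝒜 f₀ ⊓ Proj.basicOpen 𝒜 f₁ ≤ Proj.basicOpen 𝒜 f₁)
    (inf_le_left : Proj.basicOpen 𝒜 f₀ ⊓ Proj.basicOpen 𝒜 f₁ ≤ Proj.basicOpen 𝒜 f₀)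
  have h2 := congrArg (r.appLE _ V hVW).hom h
  rw [map_mul, map_one] at h2
  have e0 : (r.appLE _ V hVW).hom (resO inf_le_left (dehom h₀ f₁)) = ratio r h₀ f₁ hV₀ := by
    have h3 := r.map_appLE hVW (homOfLE (inf_le_left :
      Proj.basicOpen 𝒜 f₀ ⊓ Proj.basicOpen 𝒜 f₁ ≤ Proj.basicOpen 𝒜 f₀)).op
    exact congrArg (fun φ => φ.hom (dehom h₀ f₁)) h3
  have e1 : (r.appLE _ V hVW).hom (resO inf_le_right (dehom h₁ f₀)) = ratio r h₁ f₀ hV₁ := by
    have h3 := r.map_appLE hVW (homOfLE (inf_le_right :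
      Proj.basicOpen 𝒜 f₀ ⊓ Proj.basicOpen 𝒜 f₁ ≤ Proj.basicOpen 𝒜 f₁)).op
    exact congrArg (fun φ => φ.hom (dehom h₁ f₀)) h3
  rw [e0, e1] at h2
  exact h2

theorem fromSpec_comp {Z : Scheme.{u}} (q : Z ⟶ Spec (CommRingCat.of R)) {V : Z.Opens}
    (hV : IsAffineOpen V) :
    hV.fromSpec ≫ q =
      Spec.map ((Scheme.ΓSpecIso (CommRingCat.of R)).inv ≫ q.appLE ⊤ V le_top) := by
  have h1 := IsAffineOpen.SpecMap_appLE_fromSpec q (isAffineOpen_top (Spec (CommRingCat.of R)))
    hV (U := ⊤) (V := V) le_top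
  rw [← h1, IsAffineOpen.fromSpec_top, Scheme.isoSpec_Spec_inv, ← Spec.map_comp]

/-- the structure constants -/
theorem appLE_dehom_algebraMap (q : X ⟶ Spec (CommRingCat.of R))
    (hq : r ≫ Groth.Agent.Helper13ProjUP.toBase 𝒜 = q)
    {V : X.Opens} (hV : V ≤ VV r f₁) (c : R) :
    (r.appLE (Proj.basicOpen 𝒜 f₁) V hV).hom (dehom h₁ (algebraMap R A c)) =
      resf (le_top : V ≤ ⊤) (Coh.toGlobal q c) := by
  have hU := isAffineOpen_basicOpen h₁
  -- the structure map on the chart
  have h1 : (Scheme.ΓSpecIso (CommRingCat.of R)).inv ≫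
      (Groth.Agent.Helper13ProjUP.toBase 𝒜).appLE ⊤ (Proj.basicOpen 𝒜 f₁) le_top = strMap h₁ := by
    apply Spec.map_injective
    rw [← fromSpec_toBase h₁, fromSpec_comp]
  have h2 : dehom h₁ (algebraMap R A c) =
      ((Groth.Agent.Helper13ProjUP.toBase 𝒜).appLE ⊤ (Proj.basicOpen 𝒜 f₁) le_top).hom
        ((Scheme.ΓSpecIso (CommRingCat.of R)).inv.hom c) := by
    rw [← strMap_apply h₁ c, ← h1]
    rfl
  rw [h2]
  have h3 := Scheme.Hom.appLE_comp_appLE r (Groth.Agent.Helper13ProjUP.toBase 𝒜) ⊤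
    (Proj.basicOpen 𝒜 f₁) V le_top hV
  have h4 := congrArg (fun φ => φ.hom ((Scheme.ΓSpecIso (CommRingCat.of R)).inv.hom c)) h3
  change (r.appLE _ V hV).hom (((Groth.Agent.Helper13ProjUP.toBase 𝒜).appLE ⊤ _ le_top).hom _) = _ at h4
  rw [h4]
  subst hq
  rfl

end General

end Part1

section Part2

open Groth.Agent.Lib.Helper23.SecTw Groth.Agent.Lib.Helper23.GenLocus
  Groth.Agent.Lib.Helper23.Extend Groth.Agent.Lib.Helper6
open Groth.Agent.Lib.R2H1.CurveDegSec Groth.Agent.Lib.R2H1.CurveEuler Groth.Agent.Lib.R2H1.DegCartier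
open Groth.Agent.Lib.R2H1.CurveAmple Groth.Agent.Lib.R2H1.GenusLe
open Groth.Agent.Lib.R2H1.DegPullback Groth.Agent.Lib.R2H1.PointTwist
open Groth.Agent.Lib.R2H1.IsoP1

section RR

variable (k : Type u) [Field k] (X : Scheme.{u}) [X.Over (Spec (CommRingCat.of k))]
  [IsProper (X ↘ Spec (CommRingCat.of k))] [Smooth (X ↘ Spec (CommRingCat.of k))]
  [GeometricallyConnected (X ↘ Spec (CommRingCat.of k))]

/-- Riemann–Roch with vanishing: `h⁰(L^m) = d m + 1 - g` when `d m ≥ 2g - 1` -/
theorem finrank_H0_tensorPow (hdim : topologicalKrullDim X = 1)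
    (hX0 : Module.finrank k (Coh.HH X (Coh.structureModule X) 0) = 1)
    (L : X.Modules) (hL : PicF.IsInvertible L) (d : ℕ) (hdeg : Curv2.deg k X L 1 = d)
    (m : ℕ) (hm : 2 * (Curv2.genus k X : ℤ) - 1 ≤ d * m) :
    (Module.finrank k (Coh.HH X (CohB1.tensorPow L m) 0) : ℤ) = d * m + 1 - Curv2.genus k X := by
  haveI : IsIntegral X := Groth.Agent.Lib.R2H1.VBSub.isIntegral_of_smooth_geomConn k X
  haveI := isNoetherian_of_proper k X
  have cO := isCoh_structureModule X
  have eO := euler_eq_h0_sub_h1 k X hdim.le _ cO.1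
  have hχ : Curv2.euler k X (Coh.structureModule X) = 1 - Curv2.genus k X := by
    unfold Curv2.genus
    rw [eO, hX0]; norm_num
  have hLm := isInvertible_tensorPow hL m
  have cLm := isCoh_of_isInvertible _ hLm
  have hdegm := Groth.Agent.Lib.R2H1.TwistBC.deg_tensorPow k X hdim L hL m
  rw [hdeg] at hdegm
  have hH1 : Subsingleton (Coh.HH X (CohB1.tensorPow L m) 1) := by
    apply Groth.Agent.Lib.R2H4CurveH1Van.subsingleton_H1_of_deg k X hdim _ hLm
    rw [hdegm]
    linarith
  have e1 := euler_eq_h0_sub_h1 k X hdim.le _ cLm.1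
  have h1 : Module.finrank k (Coh.HH X (CohB1.tensorPow L m) 1) = 0 :=
    Module.finrank_zero_of_subsingleton
  unfold Curv2.deg at hdegm
  rw [hχ, e1, h1] at hdegm
  push_cast at hdegm
  linarith

end RR

section Normal

variable (k : Type u) [Field k] (X : Scheme.{u}) [X.Over (Spec (CommRingCat.of k))]
  [Smooth (X ↘ Spec (CommRingCat.of k))]

include k in
/-- a smooth curve over a field is a normal scheme -/
theorem isNormalScheme_of_smooth_curve (hdim : topologicalKrullDim X ≤ 1) :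
    Pi1.IsNormalScheme X := by
  intro x
  haveI : IsRegularLocalRing (X.presheaf.stalk x) :=
    Groth.Agent.Lib.Helper6.SmRegSch.isRegularLocalRing_stalk_of_smooth_over_field k _
      (X ↘ Spec (CommRingCat.of k)) x
  haveI : IsDomain (X.presheaf.stalk x) :=
    Groth.Agent.Lib.Helper11SmInt.isDomain_stalk_of_smooth k (X ↘ Spec (CommRingCat.of k)) x
  have hle : ringKrullDim (X.presheaf.stalk x) ≤ 1 :=
    (Groth.Agent.Lib.Helper4.FibDim.ringKrullDim_stalk_le_topologicalKrullDim _ x).trans hdim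
  haveI := Groth.Agent.Lib.R2H1.VBSub.isPrincipalIdealRing_of_regular_dim_le_one _ hle
  exact ⟨inferInstance, inferInstance⟩

end Normal

section IntClosed

variable {X : Scheme.{u}} [IsIntegral X]

/-- on a normal integral scheme, a function on a smaller open which satisfies a monic quadratic
equation over the functions of an affine open extends -/
theorem exists_of_sq_add_mul (hN : Pi1.IsNormalScheme X) {W V : X.Opens} (hW : IsAffineOpen W)
    (h : V ≤ W) [Nonempty V] (w : Γ(X, V)) (p q : Γ(X, W))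
    (hw : w ^ 2 + resf h q * w = resf h p) : ∃ b : Γ(X, W), resf h b = w := by
  haveI : Nonempty W := ⟨⟨(Classical.arbitrary V).1, h (Classical.arbitrary V).2⟩⟩
  haveI : IsDomain Γ(X, W) := IsIntegral.component_integral W
  haveI : IsIntegrallyClosed Γ(X, W) :=
    Groth.Agent.Lib.Helper4.NormIso.isIntegrallyClosed_sections hN W hW
  haveI : IsFractionRing Γ(X, W) X.functionField :=
    functionField_isFractionRing_of_isAffineOpen X W hW
  have hcomp : ∀ b : Γ(X, W), algebraMap Γ(X, V) X.functionField (resf h b) =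
      algebraMap Γ(X, W) X.functionField b := by
    intro b
    exact TopCat.Presheaf.germ_res_apply X.presheaf (homOfLE h) (genericPoint X) _ b
  have hint : IsIntegral Γ(X, W) (algebraMap Γ(X, V) X.functionField w) := by
    refine ⟨Polynomial.X ^ 2 + Polynomial.C q * Polynomial.X - Polynomial.C p, ?_, ?_⟩
    · have h1 : (Polynomial.X ^ 2 + Polynomial.C q * Polynomial.X - Polynomial.C p :
          Polynomial Γ(X, W)) = Polynomial.X ^ 2 + (Polynomial.C q * Polynomial.X - Polynomial.C p) := by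
        ring
      rw [h1]
      apply Polynomial.monic_X_pow_add
      apply lt_of_le_of_lt (Polynomial.degree_sub_le _ _)
      apply max_lt
      · apply lt_of_le_of_lt (Polynomial.degree_C_mul_X_le q)
        norm_num
      · apply lt_of_le_of_lt Polynomial.degree_C_le
        norm_num
    · rw [Polynomial.eval₂_sub, Polynomial.eval₂_add, Polynomial.eval₂_mul, Polynomial.eval₂_pow,
        Polynomial.eval₂_X, Polynomial.eval₂_C, Polynomial.eval₂_C, ← hcomp, ← hcomp, ← map_pow,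
        ← map_mul, ← map_add, ← map_sub, hw, sub_self, map_zero]
  obtain ⟨b, hb⟩ := IsIntegrallyClosed.isIntegral_iff.1 hint
  refine ⟨b, ?_⟩
  apply X.germToFunctionField_injective V
  change algebraMap Γ(X, V) X.functionField (resf h b) = algebraMap Γ(X, V) X.functionField w
  rw [hcomp, hb]

end IntClosed

end Part2

section Part3

open HomogeneousLocalization
open Groth.Agent.Helper13ProjUP
open Groth.Agent.Lib.Helper27GrTildeSect Groth.Agent.Helper13GrTildeFrac
  Groth.Agent.Helper13Dehom Groth.Agent.Helper13AffMor Groth.Agent.Helper13SymGr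
open Groth.Agent.Lib.Helper23.SecTw Groth.Agent.Lib.Helper6 Groth.Agent.Lib.Helper23.GenLocus
open Groth.Agent.Lib.Helper23.PB Groth.Agent.Helper13PullbackUnit Groth.Agent.Lib.Helper23.Extend
open Groth.Agent.Lib.R2H1.ProjChart Groth.Agent.Lib.R2H1.PoleFilt
open Groth.Agent.Lib.R2H1.PicPn Groth.Agent.Lib.Helper27PnChart Groth.Agent.Lib.R2H1.PlaneChart

section P1

variable {k : Type u} [Field k]

theorem hT (i : Fin (1 + 1)) :
    (MvPolynomial.X i : MvPolynomial (Fin (1 + 1)) k) ∈ CohB1.polyGrading 1 k 1 :=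
  X_mem_one 1 k i

/-- the polynomial ring surjects onto the chart ring of the projective line -/
noncomputable def π₀ : Polynomial k →+* Γ(Proj (CohB1.polyGrading 1 k),
    Proj.basicOpen (CohB1.polyGrading 1 k) (MvPolynomial.X 0)) :=
  (dehom (hT (k := k) 0)).comp
    (Polynomial.aeval (MvPolynomial.X 1 : MvPolynomial (Fin (1 + 1)) k)).toRingHom

theorem π₀_C (c : k) : π₀ (Polynomial.C c) = dehom (hT (k := k) 0) (MvPolynomial.C c) := by
  unfold π₀
  simp only [RingHom.comp_apply, AlgHom.toRingHom_eq_coe, RingHom.coe_coe, Polynomial.aeval_C]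
  rfl

theorem π₀_X : π₀ (Polynomial.X : Polynomial k) = dehom (hT (k := k) 0) (MvPolynomial.X 1) := by
  unfold π₀
  simp only [RingHom.comp_apply, AlgHom.toRingHom_eq_coe, RingHom.coe_coe, Polynomial.aeval_X]

theorem π₀_surjective : Function.Surjective (π₀ (k := k)) := by
  intro z
  obtain ⟨q, rfl⟩ := (θ'_bijective 1 k 0).2 z
  induction q using MvPolynomial.induction_on with
  | C c => exact ⟨Polynomial.C c, by rw [π₀_C, θ'_C]; rfl⟩
  | add p q hp hq =>
    obtain ⟨a, ha⟩ := hp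
    obtain ⟨b, hb⟩ := hq
    exact ⟨a + b, by rw [map_add, map_add, ha, hb]⟩
  | mul_X p j hp =>
    obtain ⟨a, ha⟩ := hp
    refine ⟨a * Polynomial.X, ?_⟩
    rw [map_mul, map_mul, ha, π₀_X, θ'_X]
    congr 2
    fin_cases j
    rfl

variable {X : Scheme.{u}} [X.Over (Spec (CommRingCat.of k))]
variable (r : X ⟶ Proj (CohB1.polyGrading 1 k))

attribute [local instance] algU

/-- functions on `r⁻¹ D₊(T₀)` are integral over `k[t]`, `t = r^*(T₁/T₀)` -/
theorem isIntegralElem [IsFinite r]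
    (hr : r ≫ Groth.Agent.Helper13ProjUP.toBase (CohB1.polyGrading 1 k) =
      X ↘ Spec (CommRingCat.of k))
    (a : Γ(X, VV r (MvPolynomial.X 0 : MvPolynomial (Fin (1 + 1)) k))) :
    (Polynomial.aeval (ratio r (hT (k := k) 0) (MvPolynomial.X 1) le_rfl) :
      Polynomial k →ₐ[k] Γ(X, VV r (MvPolynomial.X 0 : MvPolynomial (Fin (1 + 1)) k))).toRingHom.IsIntegralElem
        a := by
  have hfin : (r.app (Proj.basicOpen (CohB1.polyGrading 1 k) (MvPolynomial.X 0))).hom.Finite :=
    IsFinite.finite_app r _ (isAffineOpen_basicOpen (hT 0))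
  have hint := hfin.to_isIntegral
  have hcomp : (Polynomial.aeval (ratio r (hT (k := k) 0) (MvPolynomial.X 1) le_rfl) :
      Polynomial k →ₐ[k] Γ(X, VV r (MvPolynomial.X 0 : MvPolynomial (Fin (1 + 1)) k))).toRingHom =
      (r.app (Proj.basicOpen (CohB1.polyGrading 1 k) (MvPolynomial.X 0))).hom.comp π₀ := by
    apply Polynomial.ringHom_ext
    · intro c
      simp only [AlgHom.toRingHom_eq_coe, RingHom.coe_coe, Polynomial.aeval_C, RingHom.comp_apply]
      rw [π₀_C]
      have h1 := appLE_dehom_algebraMap r (hT (k := k) 0) (X ↘ Spec (CommRingCat.of k)) hr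
        (le_rfl : VV r (MvPolynomial.X 0) ≤ _) c
      rw [Scheme.Hom.appLE_eq_app] at h1
      exact h1.symm
    · simp only [AlgHom.toRingHom_eq_coe, RingHom.coe_coe, Polynomial.aeval_X, RingHom.comp_apply]
      rw [π₀_X]
      unfold ratio
      rw [Scheme.Hom.appLE_eq_app]
  rw [hcomp]
  exact RingHom.IsIntegral.trans _ _ (RingHom.isIntegral_of_surjective _ π₀_surjective) hint a

end P1

end Part3

section Part4

open HomogeneousLocalization
open Groth.Agent.Helper13ProjUP
open Groth.Agent.Lib.Helper27GrTildeSect Groth.Agent.Helper13GrTildeFrac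
  Groth.Agent.Helper13Dehom Groth.Agent.Helper13AffMor Groth.Agent.Helper13SymGr
open Groth.Agent.Lib.Helper23.SecTw Groth.Agent.Lib.Helper6 Groth.Agent.Lib.Helper23.GenLocus
open Groth.Agent.Lib.Helper23.PB Groth.Agent.Helper13PullbackUnit Groth.Agent.Lib.Helper23.Extend
open Groth.Agent.Lib.R2H1.ProjChart Groth.Agent.Lib.R2H1.PoleFilt
open Groth.Agent.Lib.R2H1.PicPn Groth.Agent.Lib.Helper27PnChart Groth.Agent.Lib.R2H1.PlaneChart
open Groth.Agent.Lib.R2H1.CurveEuler Groth.Agent.Lib.R2H1.DegPullback Groth.Agent.Lib.R2H1.IsoP1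

section Gen

variable (k : Type u) [Field k] (X : Scheme.{u}) [X.Over (Spec (CommRingCat.of k))]
  [IsIntegral X]

theorem cover_P1 (y : Proj (CohB1.polyGrading 1 k)) :
    y ∈ Proj.basicOpen (CohB1.polyGrading 1 k) (MvPolynomial.X 0) ∨
      y ∈ Proj.basicOpen (CohB1.polyGrading 1 k) (MvPolynomial.X 1) := by
  have h : y ∈ (⨆ i : Fin (1 + 1), U 1 k i) := by rw [iSup_U]; trivial
  obtain ⟨i, hi⟩ := Opens.mem_iSup.1 h
  fin_cases i
  · exact Or.inl hi
  · exact Or.inr hi

open Groth.Agent.Lib.H9SteinH0 Groth.Agent.Lib.H9SteinConn Groth.Agent.Lib.H9NormFin in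
/-- a proper curve with only constant global functions is not affine -/
theorem not_isAffine (hdim : topologicalKrullDim X = 1)
    (hX0 : Module.finrank k (Coh.HH X (Coh.structureModule X) 0) = 1) : ¬ IsAffine X := by
  intro haff
  letI := algΓ k (X ↘ Spec (CommRingCat.of k))
  have h : Module.finrank k Γ(X, ⊤) = 1 := by
    rw [← (hh0LinearEquiv k X).finrank_eq]
    exact hX0
  have hbt : (⊥ : Subalgebra k Γ(X, ⊤)) = ⊤ := Subalgebra.bot_eq_top_of_finrank_eq_one h
  have hsurj : Function.Surjective (algebraMap k Γ(X, ⊤)) := by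
    intro a
    have : a ∈ (⊥ : Subalgebra k Γ(X, ⊤)) := hbt ▸ Algebra.mem_top
    exact Algebra.mem_bot.mp this
  haveI : Nontrivial Γ(X, ⊤) := by
    by_contra hn
    rw [not_nontrivial_iff_subsingleton] at hn
    have : Module.finrank k Γ(X, ⊤) = 0 := Module.finrank_zero_of_subsingleton
    omega
  have hbij : Function.Bijective (algebraMap k Γ(X, ⊤)) :=
    ⟨(algebraMap k Γ(X, ⊤)).injective, hsurj⟩
  have hF : IsField Γ(X, ⊤) :=
    (RingEquiv.ofBijective _ hbij).symm.toMulEquiv.isField (Field.toIsField k)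
  have hsub : ∀ a b : X, a = b := by
    intro a b
    have hinj : Function.Injective X.isoSpec.hom := by
      intro a b hab
      have := congrArg X.isoSpec.inv hab
      simpa using this
    apply hinj
    have hp : ∀ p : PrimeSpectrum Γ(X, ⊤), p.asIdeal = ⊥ := by
      intro p
      letI := hF.toField
      rcases Ideal.eq_bot_or_top p.asIdeal with h | h
      · exact h
      · exact absurd h p.2.ne_top
    exact PrimeSpectrum.ext ((hp _).trans (hp _).symm)
  obtain ⟨x⟩ : Nonempty X := inferInstance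
  apply univ_ne_singleton hdim x
  ext y
  simp only [Set.mem_univ, Set.mem_singleton_iff, true_iff]
  exact hsub y x

variable [IsProper (X ↘ (Spec (CommRingCat.of k)))]

/-- an affine morphism from a proper curve with constant global functions to the projective line
is dominant -/
theorem map_genericPoint (hdim : topologicalKrullDim X = 1)
    (hX0 : Module.finrank k (Coh.HH X (Coh.structureModule X) 0) = 1)
    (r : X ⟶ Proj (CohB1.polyGrading 1 k)) [IsAffineHom r] :
    r (genericPoint X) = genericPoint (Proj (CohB1.polyGrading 1 k)) := by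
  haveI : IsIntegral (Proj (CohB1.polyGrading 1 k)) := isIntegral_P1k k
  have hdimP : topologicalKrullDim (Proj (CohB1.polyGrading 1 k)) = 1 := dim_P1k k
  haveI := isProper_P1k k
  haveI : IsNoetherian (Proj (CohB1.polyGrading 1 k)) :=
    isNoetherian_of_proper k (CohB1.ProjSpace 1 k)
  by_contra hne
  have hcl : closure ({r (genericPoint X)} : Set (Proj (CohB1.polyGrading 1 k))) ≠ Set.univ := by
    intro h
    have hg : IsGenericPoint (r (genericPoint X)) (⊤ : Set (Proj (CohB1.polyGrading 1 k))) := h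
    exact hne (hg.eq (genericPoint_spec _))
  have hc := isClosed_singleton_of_closure_ne_univ hdimP.le _ hcl
  have hpre : IsClosed (r ⁻¹' {r (genericPoint X)}) := hc.preimage r.continuous
  have huniv : r ⁻¹' {r (genericPoint X)} = Set.univ := by
    rw [← hpre.closure_eq]
    apply Set.eq_univ_of_univ_subset
    have h1 : closure ({genericPoint X} : Set X) = Set.univ := (genericPoint_spec X).def
    rw [← h1]
    exact closure_mono (Set.singleton_subset_iff.mpr rfl)
  have key : ∀ i : Fin (1 + 1),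
      r (genericPoint X) ∈ Proj.basicOpen (CohB1.polyGrading 1 k) (MvPolynomial.X i) → False := by
    intro i hi
    have htop : r ⁻¹ᵁ Proj.basicOpen (CohB1.polyGrading 1 k) (MvPolynomial.X i) = ⊤ := by
      rw [eq_top_iff]
      intro x _
      have hx : x ∈ r ⁻¹' {r (genericPoint X)} := by rw [huniv]; trivial
      have hx' : r x = r (genericPoint X) := hx
      change r x ∈ Proj.basicOpen (CohB1.polyGrading 1 k) (MvPolynomial.X i)
      rw [hx']
      exact hi
    have haff : IsAffineOpen (r ⁻¹ᵁ Proj.basicOpen (CohB1.polyGrading 1 k) (MvPolynomial.X i)) :=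
      (isAffineOpen_basicOpen (hT i)).preimage r
    rw [htop] at haff
    haveI : IsAffine ((⊤ : X.Opens) : Scheme.{u}) := haff
    exact not_isAffine k X hdim hX0 (IsAffine.of_isIso (X.topIso.inv))
  rcases cover_P1 k (r (genericPoint X)) with h | h
  · exact key 0 h
  · exact key 1 h

end Gen

end Part4

section Part5

open HomogeneousLocalization
open Groth.Agent.Helper13ProjUP
open Groth.Agent.Lib.Helper27GrTildeSect Groth.Agent.Helper13GrTildeFrac
  Groth.Agent.Helper13Dehom Groth.Agent.Helper13AffMor Groth.Agent.Helper13SymGr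
open Groth.Agent.Lib.Helper23.SecTw Groth.Agent.Lib.Helper6 Groth.Agent.Lib.Helper23.GenLocus
open Groth.Agent.Lib.Helper23.PB Groth.Agent.Helper13PullbackUnit Groth.Agent.Lib.Helper23.Extend
open Groth.Agent.Lib.R2H1.ProjChart Groth.Agent.Lib.R2H1.PoleFilt
open Groth.Agent.Lib.R2H1.PicPn Groth.Agent.Lib.Helper27PnChart Groth.Agent.Lib.R2H1.PlaneChart
open Groth.Agent.Lib.R2H1.CurveEuler Groth.Agent.Lib.R2H1.DegPullback Groth.Agent.Lib.R2H1.IsoP1

section Fil

variable {k : Type u} [Field k] {X : Scheme.{u}} [X.Over (Spec (CommRingCat.of k))]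

attribute [local instance] algU

variable (L : X.Modules) (σ : Coh.structureModule X ⟶ L)
variable (W : X.Opens) (e : Γ(L, W)) (hgen : IsGen L W e) (t : Γ(X, W)) (ht : sv σ W = t • e)

include hgen ht in
theorem finrank_Fil' [IsIntegral X] (hL : PicF.IsInvertible L) (U : X.Opens)
    (hU : U = CohB1.genLocus L σ) [Nonempty U] (hcov : U ⊔ W = ⊤) (m : ℕ) :
    Module.finrank k (Fil (k := k) U W t m) =
      Module.finrank k (Coh.HH X (CohB1.tensorPow L m) 0) := by
  subst hU
  exact finrank_Fil L σ W e hgen t ht hL hcov m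

end Fil

section Main

variable (k : Type u) [Field k] (X : Scheme.{u}) [X.Over (Spec (CommRingCat.of k))]
  [IsProper (X ↘ Spec (CommRingCat.of k))] [Smooth (X ↘ Spec (CommRingCat.of k))]
  [GeometricallyConnected (X ↘ Spec (CommRingCat.of k))]

attribute [local instance] algU

/-- the degree of the pullback of `O(1)` along a double cover -/
theorem deg_LL [IsIntegral X] (hdim : topologicalKrullDim X = 1)
    (r : X ⟶ Proj (CohB1.polyGrading 1 k))
    (hr : r ≫ Groth.Agent.Helper13ProjUP.toBase (CohB1.polyGrading 1 k) =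
      X ↘ Spec (CommRingCat.of k))
    (hξ : r (genericPoint X) = genericPoint (Proj (CohB1.polyGrading 1 k)))
    (d : ℕ) (hres : r.residueDegree (genericPoint X) = d) :
    Curv2.deg k X (LL r) 1 = d := by
  haveI := isIntegral_P1k k
  haveI := isProper_P1k k
  have hdimP := dim_P1k k
  have hO1 := Groth.Agent.Lib.R2H2.QProjK0.isAmple_twistProjSpace_one 1 k
  have hO1rank : FlatMod.IsFinLocFreeOfRank 1 (Twist.twistProjSpace 1 k 1) :=
    Groth.Agent.Lib.Helper23.SecTw.isFinLocFreeOfRank_one_of_isInvertible _ hO1.1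
  have h7640 := s7640 k X (CohB1.ProjSpace 1 k) hdim hdimP r hr hξ 1 _ hO1rank
  rw [Groth.Agent.Lib.R2H1.LinSerDeg.deg_O1, mul_one] at h7640
  have h2 : (r.residueDegree (genericPoint X) : ℤ) = d := by exact_mod_cast hres
  exact h7640.trans h2

/-- **the structure of a double cover of the projective line** -/
theorem geom_main [IsIntegral X] (hdim : topologicalKrullDim X = 1)
    (hX0 : Module.finrank k (Coh.HH X (Coh.structureModule X) 0) = 1)
    (r : X ⟶ Proj (CohB1.polyGrading 1 k))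
    (hr : r ≫ Groth.Agent.Helper13ProjUP.toBase (CohB1.polyGrading 1 k) =
      X ↘ Spec (CommRingCat.of k)) [IsFinite r]
    (hres : r.residueDegree (genericPoint X) = 2) :
    ∃ (y : Γ(X, VV r (MvPolynomial.X 0 : MvPolynomial (Fin (1 + 1)) k))) (P Q : Polynomial k),
      Function.Injective (Polynomial.aeval (ratio r (hT (k := k) 0) (MvPolynomial.X 1) le_rfl) :
        Polynomial k →ₐ[k] Γ(X, VV r (MvPolynomial.X 0 : MvPolynomial (Fin (1 + 1)) k))) ∧
      y ∉ Set.range (Polynomial.aeval (ratio r (hT (k := k) 0) (MvPolynomial.X 1) le_rfl) :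
        Polynomial k →ₐ[k] Γ(X, VV r (MvPolynomial.X 0 : MvPolynomial (Fin (1 + 1)) k))) ∧
      (∀ u v : Polynomial k,
        Polynomial.aeval (ratio r (hT (k := k) 0) (MvPolynomial.X 1) le_rfl) u +
          Polynomial.aeval (ratio r (hT (k := k) 0) (MvPolynomial.X 1) le_rfl) v * y = 0 →
        u = 0 ∧ v = 0) ∧
      (∀ a : Γ(X, VV r (MvPolynomial.X 0 : MvPolynomial (Fin (1 + 1)) k)), ∃ u v : Polynomial k,
        a = Polynomial.aeval (ratio r (hT (k := k) 0) (MvPolynomial.X 1) le_rfl) u +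
          Polynomial.aeval (ratio r (hT (k := k) 0) (MvPolynomial.X 1) le_rfl) v * y) ∧
      y ^ 2 + Polynomial.aeval (ratio r (hT (k := k) 0) (MvPolynomial.X 1) le_rfl) Q * y =
        Polynomial.aeval (ratio r (hT (k := k) 0) (MvPolynomial.X 1) le_rfl) P ∧
      P.natDegree ≤ 2 * Curv2.genus k X + 2 ∧ Q.natDegree ≤ Curv2.genus k X + 1 ∧
      (∀ (y₁ : Γ(X, VV r (MvPolynomial.X 0 : MvPolynomial (Fin (1 + 1)) k))) (P₁ Q₁ : Polynomial k),
        y₁ ∉ Set.range (Polynomial.aeval (ratio r (hT (k := k) 0) (MvPolynomial.X 1) le_rfl) :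
          Polynomial k →ₐ[k] Γ(X, VV r (MvPolynomial.X 0 : MvPolynomial (Fin (1 + 1)) k))) →
        y₁ ^ 2 + Polynomial.aeval (ratio r (hT (k := k) 0) (MvPolynomial.X 1) le_rfl) Q₁ * y₁ =
          Polynomial.aeval (ratio r (hT (k := k) 0) (MvPolynomial.X 1) le_rfl) P₁ →
        ¬ (P₁.natDegree ≤ 2 * Curv2.genus k X ∧ Q₁.natDegree ≤ Curv2.genus k X)) ∧
      (∀ m, m ≤ Curv2.genus k X →
        Module.finrank k (Coh.HH X (CohB1.tensorPow (LL r) m) 0) = m + 1) := by
  haveI := isNoetherian_of_proper k X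
  haveI := isIntegral_P1k k
  have hξ := map_genericPoint k X hdim hX0 r
  have hdeg := deg_LL k X hdim r hr hξ 2 hres
  have hO1 := Groth.Agent.Lib.R2H2.QProjK0.isAmple_twistProjSpace_one 1 k
  have hL : PicF.IsInvertible (LL r) :=
    Groth.Agent.Lib.Helper23.PB.isInvertible_pullback r _ hO1.1
  -- notation
  have h0 : (MvPolynomial.X 0 : MvPolynomial (Fin (1 + 1)) k) ∈
      CohB1.polyGrading 1 k 1 := hT (k := k) 0
  have h1 : (MvPolynomial.X 1 : MvPolynomial (Fin (1 + 1)) k) ∈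
      CohB1.polyGrading 1 k 1 := hT (k := k) 1
  have hcovP : Proj.basicOpen (CohB1.polyGrading 1 k) (MvPolynomial.X 0) ⊔
      Proj.basicOpen (CohB1.polyGrading 1 k) (MvPolynomial.X 1) = ⊤ := by
    rw [eq_top_iff]
    intro y _
    exact cover_P1 k y
  have hUg := (genLocus_σ r h0 h1 hcovP).symm
  have hcov : VV r (MvPolynomial.X 0 : MvPolynomial (Fin (1 + 1)) k) ⊔
      VV r (MvPolynomial.X 1 : MvPolynomial (Fin (1 + 1)) k) = ⊤ := by
    rw [eq_top_iff]
    intro x _
    exact cover_P1 k (r x)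
  have hgen := isGen_pcoord r h1 (le_rfl : VV r (MvPolynomial.X 1) ≤ _)
  have ht := sv_σ r h0 h1 (le_rfl : VV r (MvPolynomial.X 1) ≤ _)
  have hBas : VV r (MvPolynomial.X 0 : MvPolynomial (Fin (1 + 1)) k) ⊓ VV r (MvPolynomial.X 1) =
      X.basicOpen (ratio r h1 (MvPolynomial.X 0) le_rfl) := (basicOpen_ratio r h0 h1).symm
  have hW : IsAffineOpen (VV r (MvPolynomial.X 1 : MvPolynomial (Fin (1 + 1)) k)) :=
    (isAffineOpen_basicOpen h1).preimage r
  -- the generic point lies in both charts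
  have hηi : ∀ i : Fin (1 + 1), genericPoint X ∈ VV r (MvPolynomial.X i : MvPolynomial (Fin (1 + 1)) k) := by
    intro i
    change r (genericPoint X) ∈ Proj.basicOpen (CohB1.polyGrading 1 k) (MvPolynomial.X i)
    rw [hξ]
    haveI := nonempty_U 1 k i
    exact ((genericPoint_spec _).mem_open_set_iff (U 1 k i).isOpen).mpr (by
      obtain ⟨⟨z, hz⟩⟩ := nonempty_U 1 k i
      exact ⟨z, trivial, hz⟩)
  haveI : Nonempty (VV r (MvPolynomial.X 0 : MvPolynomial (Fin (1 + 1)) k)) :=
    ⟨⟨genericPoint X, hηi 0⟩⟩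
  haveI : Nonempty (VV r (MvPolynomial.X 0 : MvPolynomial (Fin (1 + 1)) k) ⊓
      VV r (MvPolynomial.X 1 : MvPolynomial (Fin (1 + 1)) k) : X.Opens) :=
    ⟨⟨genericPoint X, hηi 0, hηi 1⟩⟩
  have hne : ((VV r (MvPolynomial.X 0 : MvPolynomial (Fin (1 + 1)) k) ⊓
      VV r (MvPolynomial.X 1 : MvPolynomial (Fin (1 + 1)) k) : X.Opens) : Set X).Nonempty :=
    ⟨genericPoint X, hηi 0, hηi 1⟩
  haveI : IsDomain Γ(X, VV r (MvPolynomial.X 0 : MvPolynomial (Fin (1 + 1)) k) ⊓
      VV r (MvPolynomial.X 1 : MvPolynomial (Fin (1 + 1)) k)) := IsIntegral.component_integral _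
  have hN := isNormalScheme_of_smooth_curve k X hdim.le
  -- dimensions
  have hfin : ∀ m, Module.finrank k (Fil (k := k) (VV r (MvPolynomial.X 0)) (VV r (MvPolynomial.X 1))
      (ratio r h1 (MvPolynomial.X 0) le_rfl) m) =
      Module.finrank k (Coh.HH X (CohB1.tensorPow (LL r) m) 0) :=
    fun m => finrank_Fil' (LL r) (σ r h0) _ _ hgen _ ht hL _ hUg hcov m
  have hd : ∀ n, Curv2.genus k X ≤ n →
      Module.finrank k (Fil (k := k) (VV r (MvPolynomial.X 0)) (VV r (MvPolynomial.X 1))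
        (ratio r h1 (MvPolynomial.X 0) le_rfl) n) = 2 * n + 1 - Curv2.genus k X := by
    intro n hn
    rw [hfin]
    have := finrank_H0_tensorPow k X hdim hX0 (LL r) hL 2 hdeg n (by push_cast; omega)
    push_cast at this
    omega
  have key := Groth.Agent.Lib.R2H1.DblCoverAlg.main (k := k)
    (A := Γ(X, VV r (MvPolynomial.X 0 : MvPolynomial (Fin (1 + 1)) k)))
    (B := Γ(X, VV r (MvPolynomial.X 1 : MvPolynomial (Fin (1 + 1)) k)))
    (R := Γ(X, VV r (MvPolynomial.X 0 : MvPolynomial (Fin (1 + 1)) k) ⊓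
      VV r (MvPolynomial.X 1 : MvPolynomial (Fin (1 + 1)) k)))
    (X.presheaf.map (homOfLE (inf_le_left : VV r (MvPolynomial.X 0 : MvPolynomial (Fin (1 + 1)) k) ⊓
      VV r (MvPolynomial.X 1 : MvPolynomial (Fin (1 + 1)) k) ≤ _)).op).hom
    (X.presheaf.map (homOfLE (inf_le_right : VV r (MvPolynomial.X 0 : MvPolynomial (Fin (1 + 1)) k) ⊓
      VV r (MvPolynomial.X 1 : MvPolynomial (Fin (1 + 1)) k) ≤ _)).op).hom
    (Groth.Agent.Lib.R2H4TrivInt.resf_injective inf_le_left hne)
    (Groth.Agent.Lib.R2H4TrivInt.resf_injective inf_le_right hne)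
    (fun c => by
      change resf inf_le_left (resf le_top _) = resf inf_le_right (resf le_top _)
      rw [resf_resf, resf_resf])
    (ratio r h0 (MvPolynomial.X 1) le_rfl) (ratio r h1 (MvPolynomial.X 0) le_rfl)
    (by
      change resf inf_le_left (ratio r h0 (MvPolynomial.X 1) le_rfl) *
        resf inf_le_right (ratio r h1 (MvPolynomial.X 0) le_rfl) = 1
      rw [resf_ratio, resf_ratio]
      exact ratio_mul_ratio r h0 h1 _ _)
    (fun n => Fil (k := k) (VV r (MvPolynomial.X 0)) (VV r (MvPolynomial.X 1))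
      (ratio r h1 (MvPolynomial.X 0) le_rfl) n)
    (fun n a => Iff.rfl)
    (Curv2.genus k X) hd
    (fun a => isIntegralElem r hr a)
    (fun a => exists_poleLE hW hBas a)
    (fun w p q hw => exists_of_sq_add_mul hN hW inf_le_right w p q hw)
  obtain ⟨y, P, Q, c1, c2, c3, c4, c5, c6, c7, c8, c9⟩ := key
  refine ⟨y, P, Q, c1, c2, c3, c4, c5, c6, c7, c8, fun m hm => ?_⟩
  rw [← hfin]
  exact c9 m hm

end Main

end Part5

section Part6

open Groth.Agent.Helper13ProjUP
open Groth.Agent.Lib.Helper23.SecTw Groth.Agent.Lib.Helper6 Groth.Agent.Lib.Helper23.GenLocus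
open Groth.Agent.Lib.R2H1.PicPn Groth.Agent.Lib.Helper27PnChart Groth.Agent.Lib.R2H1.PlaneChart
open Groth.Agent.Lib.R2H1.CurveEuler Groth.Agent.Lib.R2H1.DegPullback Groth.Agent.Lib.R2H1.IsoP1

section Conv

variable (k : Type u) [Field k] (X : Scheme.{u}) [X.Over (Spec (CommRingCat.of k))]
  [IsProper (X ↘ Spec (CommRingCat.of k))] [Smooth (X ↘ Spec (CommRingCat.of k))]
  [GeometricallyConnected (X ↘ Spec (CommRingCat.of k))]

theorem hX0_of_geomConn :
    Module.finrank k (Coh.HH X (Coh.structureModule X) 0) = 1 := by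
  haveI := Groth.Agent.Lib.H9SteinSm.geometricallyReduced_of_smooth (X ↘ Spec (CommRingCat.of k))
  exact Groth.Agent.Lib.H9SteinH0.main k X

/-- a finite flat morphism of constant rank `2` onto the projective line has generic residue
degree `2` -/
theorem residueDegree_of_finrank [IsIntegral X] (hdim : topologicalKrullDim X = 1)
    (r : X ⟶ Proj (CohB1.polyGrading 1 k))
    (hr : r ≫ Groth.Agent.Helper13ProjUP.toBase (CohB1.polyGrading 1 k) =
      X ↘ Spec (CommRingCat.of k)) [IsFinite r] [Flat r]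
    (d : ℕ) (hrk : ∀ y, Scheme.Hom.finrank r y = d) :
    r.residueDegree (genericPoint X) = d := by
  haveI := isNoetherian_of_proper k X
  haveI := isIntegral_P1k k
  haveI := isProper_P1k k
  haveI : IsNoetherian (Proj (CohB1.polyGrading 1 k)) :=
    isNoetherian_of_proper k (CohB1.ProjSpace 1 k)
  have hdimP := dim_P1k k
  have hX0 := hX0_of_geomConn k X
  have hξ := map_genericPoint k X hdim hX0 r
  haveI : LocallyOfFinitePresentation r :=
    LocallyOfFinitePresentation.iff_locallyOfFiniteType.mpr inferInstance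
  have hrank := Groth.Agent.Lib.H9FEtDegA.rank_of_finrank_eq r d hrk
  have h3 := (Groth.Agent.Lib.R2H4DegAdd.stalk_facts hrank
    (genericPoint (Proj (CohB1.polyGrading 1 k)))).2.2
  have hcl : IsClosedMap r := r.isClosedMap
  have hfib := fiber_generic r hdim.le hdimP hcl hξ
  rw [← finrank_stalk_congr ((Scheme.Modules.pushforward r).obj (Coh.structureModule X)) _ _ hξ]
    at h3
  have h1 := finrank_stalk_pushO r hcl (genericPoint X) hfib
  have h2 := finrank_stalk_eq_residueDegree r (genericPoint X)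
    (isField_stalk_of_eq_genericPoint _ rfl) (isField_stalk_of_eq_genericPoint _ hξ)
  exact (h1.trans h2).symm.trans h3

end Conv

end Part6

section Part7

open Groth.Agent.Lib.R2H1.PoleFilt Groth.Agent.Lib.Helper6

section Iso

variable (k : Type u) [Field k] (X : Scheme.{u}) [X.Over (Spec (CommRingCat.of k))]

attribute [local instance] algU

/-- an affine open of a `k`-scheme whose ring of functions is presented by a `k`-algebra `B` is
isomorphic, over `k`, to `Spec B` -/
theorem exists_iso_of_algEquiv (U : X.Opens) (hU : IsAffineOpen U) (B : Type u) [CommRing B]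
    [Algebra k B] (e : B ≃ₐ[k] Γ(X, U)) (φ : k →+* B) (hφ : φ = algebraMap k B) :
    ∃ ι : (U : Scheme.{u}) ≅ Spec (CommRingCat.of B),
      ι.hom ≫ Spec.map (CommRingCat.ofHom φ) = U.ι ≫ (X ↘ Spec (CommRingCat.of k)) := by
  subst hφ
  refine ⟨hU.isoSpec ≪≫ Scheme.Spec.mapIso (e.toRingEquiv.toCommRingCatIso).op, ?_⟩
  have h1 : CommRingCat.ofHom (algebraMap k B) ≫ (e.toRingEquiv.toCommRingCatIso).hom =
      (Scheme.ΓSpecIso (CommRingCat.of k)).inv ≫ (X ↘ Spec (CommRingCat.of k)).appTop ≫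
        X.presheaf.map (homOfLE (le_top : U ≤ ⊤)).op := by
    ext c
    exact e.commutes c
  have h2 : (hU.isoSpec ≪≫ Scheme.Spec.mapIso (e.toRingEquiv.toCommRingCatIso).op).hom =
      U.toSpecΓ ≫ Spec.map (e.toRingEquiv.toCommRingCatIso).hom := rfl
  rw [h2, Category.assoc, ← Spec.map_comp, h1, Spec.map_comp, Spec.map_comp]
  simp only [Category.assoc]
  rw [Scheme.Opens.toSpecΓ_SpecMap_presheaf_map_top_assoc, ← Scheme.toSpecΓ_naturality_assoc,
    toSpecΓ_SpecMap_ΓSpecIso_inv, Category.comp_id]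

end Iso

end Part7

end Groth.Agent.Lib.R2H1.DblCoverGeom
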