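import Mathlib
import Groth.Agent.Lib.R2H1DblCoverGeom
set_option backward.isDefEq.respectTransparency.types false

/-!
helper1 (round 2): the function field of a double cover of P^1. isSeparable_of_ringHom (transport of separability), adjoin_eq_top / finrank_eq_two (K = k(t,y), [K : k(t)] = 2 from A = k[t] + k[t]y), c3_shift/c4_shift/c5_shift (completing the square in char != 2), jGerm (germ at the generic point as k-algebra map), residueFieldMap_mem, isSeparable_adjoin, ff_main (hyperelliptic equation of the function field).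
-/

set_option autoImplicit false
set_option linter.style.haveILetI false
set_option linter.unusedSectionVars false
universe u v

open CategoryTheory CategoryTheory.Limits AlgebraicGeometry TopologicalSpace Opposite

namespace Groth.Agent.Lib.R2H1.DblCoverFF

section Part1

open Polynomial

section Sep

/-- transport of separability along an embedding of the big field and a compatible map of the
small fields -/
theorem isSeparable_of_ringHom {E₀ E F K : Type*} [Field E₀] [Field E] [Field F] [Field K]
    [Algebra E₀ E] [Algebra F K] [Algebra.IsSeparable E₀ E] (ρ : K →+* E) (ψ : E₀ →+* F)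
    (h : ∀ z, ρ (algebraMap F K (ψ z)) = algebraMap E₀ E z) : Algebra.IsSeparable F K := by
  refine ⟨fun x => ?_⟩
  have hsep : (minpoly E₀ (ρ x)).Separable := Algebra.IsSeparable.isSeparable E₀ (ρ x)
  have hq : ((minpoly E₀ (ρ x)).map ψ).Separable := hsep.map
  have hroot : aeval x ((minpoly E₀ (ρ x)).map ψ) = 0 := by
    apply ρ.injective
    rw [map_zero, aeval_def, eval₂_map, hom_eval₂]
    have hcomp : ρ.comp ((algebraMap F K).comp ψ) = algebraMap E₀ E := by
      ext z
      exact h z
    rw [hcomp]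
    exact minpoly.aeval E₀ (ρ x)
  exact hq.of_dvd (minpoly.dvd F x hroot)

end Sep

section FF

variable {k A K : Type u} [Field k] [CommRing A] [Algebra k A] [Field K] [Algebra k K]
  (j : A →ₐ[k] K) (hj : Function.Injective j)
  (hfrac : ∀ z : K, ∃ a b : A, j b ≠ 0 ∧ z * j b = j a)
  (t y : A) (P Q : k[X])
  (c3 : ∀ u v : k[X], aeval t u + aeval t v * y = 0 → u = 0 ∧ v = 0)
  (c4 : ∀ a : A, ∃ u v : k[X], a = aeval t u + aeval t v * y)
  (c5 : y ^ 2 + aeval t Q * y = aeval t P)

theorem aeval_mem_adjoin (S : Set K) (x : K) (hx : x ∈ S) (p : k[X]) :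
    aeval x p ∈ IntermediateField.adjoin k S := by
  have h1 : aeval x p ∈ Algebra.adjoin k {x} := aeval_mem_adjoin_singleton k x
  have h2 : Algebra.adjoin k {x} ≤ (IntermediateField.adjoin k S).toSubalgebra :=
    Algebra.adjoin_le (Set.singleton_subset_iff.2 (IntermediateField.subset_adjoin k S hx))
  exact h2 h1

include hfrac c4 in
theorem adjoin_eq_top : IntermediateField.adjoin k ({j t, j y} : Set K) = ⊤ := by
  rw [eq_top_iff]
  intro z _
  have hA : ∀ a : A, j a ∈ IntermediateField.adjoin k ({j t, j y} : Set K) := by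
    intro a
    obtain ⟨u, v, rfl⟩ := c4 a
    rw [map_add, map_mul, ← aeval_algHom_apply, ← aeval_algHom_apply]
    refine add_mem (aeval_mem_adjoin _ _ (by simp) u) (mul_mem (aeval_mem_adjoin _ _ (by simp) v) ?_)
    exact IntermediateField.subset_adjoin k _ (by simp)
  obtain ⟨a, b, hb, hab⟩ := hfrac z
  have hz : z = j a / j b := by
    rw [eq_div_iff hb, hab]
  rw [hz]
  exact div_mem (hA a) (hA b)

include hj c3 in
theorem not_mem_adjoin : j y ∉ IntermediateField.adjoin k ({j t} : Set K) := by
  intro hmem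
  obtain ⟨r, s, hrs⟩ := (IntermediateField.mem_adjoin_simple_iff k (j y)).mp hmem
  by_cases hs : aeval (j t) s = 0
  · rw [hs, div_zero] at hrs
    have hy0 : y = 0 := hj (by rw [hrs, map_zero])
    have := c3 0 1 (by rw [map_zero, map_one, hy0, mul_zero, add_zero])
    exact one_ne_zero this.2
  · have h1 : j y * aeval (j t) s = aeval (j t) r := by
      rw [hrs, div_mul_cancel₀ _ hs]
    rw [aeval_algHom_apply, aeval_algHom_apply, ← map_mul] at h1
    have h2 := hj h1
    have h3 := c3 (-r) s (by rw [map_neg, ← h2]; ring)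
    apply hs
    rw [h3.2, map_zero]

include hj hfrac c3 c4 c5 in
theorem finrank_eq_two :
    Module.finrank (IntermediateField.adjoin k ({j t} : Set K)) K = 2 := by
  set F := IntermediateField.adjoin k ({j t} : Set K) with hF
  have htF : ∀ p : k[X], aeval (j t) p ∈ F := fun p => aeval_mem_adjoin _ _ (by simp) p
  -- the quadratic equation over `F`
  have hrel : (j y) ^ 2 + aeval (j t) Q * j y = aeval (j t) P := by
    rw [aeval_algHom_apply, aeval_algHom_apply, ← map_pow, ← map_mul, ← map_add, c5]
  let q : F[X] := X ^ 2 + (C ⟨aeval (j t) Q, htF Q⟩ * X - C ⟨aeval (j t) P, htF P⟩)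
  have hqm : q.Monic := by
    apply monic_X_pow_add
    apply lt_of_le_of_lt (degree_sub_le _ _)
    apply max_lt
    · exact lt_of_le_of_lt (degree_C_mul_X_le _) (by norm_num)
    · exact lt_of_le_of_lt degree_C_le (by norm_num)
  have hqdeg : q.natDegree = 2 := by
    have hlt : (C (⟨aeval (j t) Q, htF Q⟩ : F) * X - C (⟨aeval (j t) P, htF P⟩ : F)).degree <
        ((X : F[X]) ^ 2).degree := by
      rw [degree_X_pow]
      apply lt_of_le_of_lt (degree_sub_le _ _)
      apply max_lt
      · exact lt_of_le_of_lt (degree_C_mul_X_le _) (by norm_num)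
      · exact lt_of_le_of_lt degree_C_le (by norm_num)
    change ((X : F[X]) ^ 2 + _).natDegree = 2
    rw [natDegree_add_eq_left_of_degree_lt hlt, natDegree_X_pow]
  have hqroot : aeval (j y) q = 0 := by
    simp only [q, map_add, map_sub, map_mul, map_pow, aeval_X, aeval_C]
    change (j y) ^ 2 + (aeval (j t) Q * j y - aeval (j t) P) = 0
    rw [← hrel]
    ring
  have hint : IsIntegral F (j y) := ⟨q, hqm, hqroot⟩
  have hle : (minpoly F (j y)).natDegree ≤ 2 := by
    rw [← hqdeg]
    exact natDegree_le_natDegree (minpoly.degree_le_of_ne_zero F (j y) hqm.ne_zero hqroot)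
  have hge : 2 ≤ (minpoly F (j y)).natDegree := by
    rw [minpoly.two_le_natDegree_iff hint]
    rintro ⟨⟨w, hw⟩, hwy⟩
    apply not_mem_adjoin j hj t y c3
    rw [← hwy]
    exact hw
  have htop : IntermediateField.adjoin F ({j y} : Set K) = ⊤ := by
    apply IntermediateField.restrictScalars_injective k
    rw [IntermediateField.adjoin_adjoin_left, Set.singleton_union]
    rw [adjoin_eq_top j hfrac t y c4]
    rfl
  rw [← IntermediateField.finrank_top', ← htop, IntermediateField.adjoin.finrank hint]
  omega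

end FF

section Char

variable {k A : Type u} [Field k] [CommRing A] [Algebra k A]
  (t y : A) (P Q : k[X])
  (c3 : ∀ u v : k[X], aeval t u + aeval t v * y = 0 → u = 0 ∧ v = 0)
  (c4 : ∀ a : A, ∃ u v : k[X], a = aeval t u + aeval t v * y)
  (c5 : y ^ 2 + aeval t Q * y = aeval t P)

include c3 in
theorem c3_shift (h : k[X]) (u v : k[X]) (huv : aeval t u + aeval t v * (y + aeval t h) = 0) :
    u = 0 ∧ v = 0 := by
  have h1 := c3 (u + v * h) v (by rw [map_add, map_mul, ← huv]; ring)
  refine ⟨?_, h1.2⟩
  have := h1.1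
  rw [h1.2, zero_mul, add_zero] at this
  exact this

include c4 in
theorem c4_shift (h : k[X]) (a : A) : ∃ u v : k[X], a = aeval t u + aeval t v * (y + aeval t h) := by
  obtain ⟨u, v, rfl⟩ := c4 a
  refine ⟨u - v * h, v, ?_⟩
  rw [map_sub, map_mul]
  ring

include c5 in
theorem c5_shift (h2 : (2 : k) ≠ 0) :
    (y + aeval t (C (2 : k)⁻¹ * Q)) ^ 2 = aeval t (P + (C (2 : k)⁻¹ * Q) ^ 2) := by
  rw [map_add, ← c5, map_pow, map_mul, aeval_C]
  have h3 : algebraMap k A (2 : k)⁻¹ * 2 = 1 := by
    have : (2 : A) = algebraMap k A 2 := (map_ofNat (algebraMap k A) 2).symm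
    rw [this, ← map_mul, inv_mul_cancel₀ h2, map_one]
  have h4 : (y + algebraMap k A (2 : k)⁻¹ * aeval t Q) ^ 2 =
      y ^ 2 + (algebraMap k A (2 : k)⁻¹ * 2) * aeval t Q * y +
        (algebraMap k A (2 : k)⁻¹ * aeval t Q) ^ 2 := by ring
  rw [h4, h3, one_mul]

theorem natDegree_shift_le (n : ℕ) (hP : P.natDegree ≤ 2 * n) (hQ : Q.natDegree ≤ n) :
    (P + (C (2 : k)⁻¹ * Q) ^ 2).natDegree ≤ 2 * n := by
  apply (natDegree_add_le _ _).trans
  apply max_le hP
  apply (natDegree_pow_le).trans
  have : (C (2 : k)⁻¹ * Q).natDegree ≤ n := (natDegree_C_mul_le _ _).trans hQ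
  omega

end Char

end Part1

section Part2

open Groth.Agent.Helper13ProjUP Groth.Agent.Helper13Dehom
open Groth.Agent.Lib.Helper6
open Groth.Agent.Lib.R2H1.PoleFilt Groth.Agent.Lib.R2H1.DblCoverGeom
open Groth.Agent.Lib.R2H1.DegPullback Groth.Agent.Lib.R2H1.IsoP1
open Groth.Agent.Lib.R2H1.PicPn

section Frac

variable {Y : Scheme.{u}} [IsIntegral Y]

theorem exists_fraction' (y : Y) (hy : y = genericPoint Y) (U : Y.Opens) (hU : IsAffineOpen U)
    (hyU : y ∈ U) (z : Y.residueField y) :
    ∃ a b : Γ(Y, U), (Y.evaluation U y hyU).hom b ≠ 0 ∧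
      z * (Y.evaluation U y hyU).hom b = (Y.evaluation U y hyU).hom a := by
  subst hy
  exact Groth.Agent.Lib.R2H1.Hyperell.exists_fraction U hU hyU z

end Frac

section FF

variable {k : Type u} [Field k] {X : Scheme.{u}} [X.Over (Spec (CommRingCat.of k))] [IsIntegral X]
variable (r : X ⟶ Proj (CohB1.polyGrading 1 k))

attribute [local instance] algU Curv2.stalkAlgebra

/-- pullback of polynomials in `T₁/T₀` -/
theorem aeval_ratio_eq
    (hr : r ≫ Groth.Agent.Helper13ProjUP.toBase (CohB1.polyGrading 1 k) =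
      X ↘ Spec (CommRingCat.of k)) (p : Polynomial k) :
    Polynomial.aeval (ratio r (hT (k := k) 0) (MvPolynomial.X 1) le_rfl) p =
      (r.app (Proj.basicOpen (CohB1.polyGrading 1 k) (MvPolynomial.X 0))).hom (π₀ p) := by
  have hcomp : (Polynomial.aeval (ratio r (hT (k := k) 0) (MvPolynomial.X 1) le_rfl) :
      Polynomial k →ₐ[k] Γ(X, VV r (MvPolynomial.X 0 : MvPolynomial (Fin (1 + 1)) k))).toRingHom =
      (r.app (Proj.basicOpen (CohB1.polyGrading 1 k) (MvPolynomial.X 0))).hom.comp π₀ := by
    apply Polynomial.ringHom_ext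
    · intro c
      simp only [AlgHom.toRingHom_eq_coe, RingHom.coe_coe, Polynomial.aeval_C, RingHom.comp_apply]
      rw [π₀_C]
      have h1 := appLE_dehom_algebraMap r (hT (k := k) 0) (X ↘ Spec (CommRingCat.of k)) hr
        (le_rfl : VV r (MvPolynomial.X 0) ≤ _) c
      rw [Scheme.Hom.appLE_eq_app] at h1
      exact h1.symm
    · simp only [AlgHom.toRingHom_eq_coe, RingHom.coe_coe, Polynomial.aeval_X, RingHom.comp_apply]
      rw [π₀_X]
      unfold ratio
      rw [Scheme.Hom.appLE_eq_app]
  exact congrFun (congrArg DFunLike.coe hcomp) p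

/-- the germ at the generic point, as a map of `k`-algebras -/
noncomputable def jGerm (U : X.Opens) (hη : genericPoint X ∈ U) :
    Γ(X, U) →ₐ[k] X.functionField :=
  { (X.presheaf.germ U (genericPoint X) hη).hom with
    commutes' := fun c => by
      change (X.presheaf.germ U (genericPoint X) hη).hom
        (resf le_top (Coh.toGlobal (X ↘ Spec (CommRingCat.of k)) c)) =
        (X.presheaf.germ ⊤ (genericPoint X) trivial).hom
          (Coh.toGlobal (X ↘ Spec (CommRingCat.of k)) c)
      exact TopCat.Presheaf.germ_res_apply X.presheaf (homOfLE le_top) (genericPoint X) hη _ }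

theorem jGerm_apply (U : X.Opens) (hη : genericPoint X ∈ U) (a : Γ(X, U)) :
    jGerm (k := k) U hη a = (X.presheaf.germ U (genericPoint X) hη).hom a := rfl

theorem jGerm_injective (U : X.Opens) (hη : genericPoint X ∈ U) :
    Function.Injective (jGerm (k := k) U hη) :=
  germ_injective_of_isIntegral X (genericPoint X) hη

theorem jGerm_frac (U : X.Opens) (hU : IsAffineOpen U) (hη : genericPoint X ∈ U)
    (z : X.functionField) :
    ∃ a b : Γ(X, U), jGerm (k := k) U hη b ≠ 0 ∧ z * jGerm (k := k) U hη b = jGerm (k := k) U hη a := by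
  haveI : Nonempty U := ⟨⟨_, hη⟩⟩
  haveI := functionField_isFractionRing_of_isAffineOpen X U hU
  obtain ⟨⟨a, b⟩, hab⟩ := IsLocalization.surj (nonZeroDivisors Γ(X, U)) z
  refine ⟨a, b.1, ?_, hab⟩
  intro h0
  have hb : (b.1 : Γ(X, U)) = 0 := by
    apply jGerm_injective (k := k) U hη
    rw [h0, map_zero]
  exact nonZeroDivisors.ne_zero b.2 hb

/-- the image of the residue field of the generic point of the line lies in `k(t)` -/
theorem residueFieldMap_mem
    (hr : r ≫ Groth.Agent.Helper13ProjUP.toBase (CohB1.polyGrading 1 k) =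
      X ↘ Spec (CommRingCat.of k))
    (hη : genericPoint X ∈ VV r (MvPolynomial.X 0 : MvPolynomial (Fin (1 + 1)) k))
    (hξ : r (genericPoint X) = genericPoint (Proj (CohB1.polyGrading 1 k)))
    [IsIntegral (Proj (CohB1.polyGrading 1 k))]
    (z : (Proj (CohB1.polyGrading 1 k)).residueField (r (genericPoint X))) :
    ∃ w ∈ IntermediateField.adjoin k ({jGerm (k := k) _ hη
        (ratio r (hT (k := k) 0) (MvPolynomial.X 1) le_rfl)} : Set X.functionField),
      (X.residue (genericPoint X)).hom w = (r.residueFieldMap (genericPoint X)).hom z := by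
  obtain ⟨a, b, hb, hab⟩ := exists_fraction' (r (genericPoint X)) hξ
    (Proj.basicOpen (CohB1.polyGrading 1 k) (MvPolynomial.X 0)) (isAffineOpen_basicOpen (hT 0)) hη z
  obtain ⟨pa, rfl⟩ := π₀_surjective a
  obtain ⟨pb, rfl⟩ := π₀_surjective b
  have hev : ∀ p : Polynomial k,
      (r.residueFieldMap (genericPoint X)).hom
        (((Proj (CohB1.polyGrading 1 k)).evaluation _ (r (genericPoint X)) hη).hom (π₀ p)) =
      (X.residue (genericPoint X)).hom (Polynomial.aeval (jGerm (k := k) _ hη
        (ratio r (hT (k := k) 0) (MvPolynomial.X 1) le_rfl)) p) := by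
    intro p
    have h1 := Groth.Agent.Lib.R2H1.Hyperell.residueFieldMap_evaluation r (genericPoint X)
      (Proj.basicOpen (CohB1.polyGrading 1 k) (MvPolynomial.X 0))
      (VV r (MvPolynomial.X 0 : MvPolynomial (Fin (1 + 1)) k)) le_rfl hη (π₀ p)
    rw [h1, Scheme.Hom.appLE_eq_app, ← aeval_ratio_eq r hr p, Polynomial.aeval_algHom_apply]
    rfl
  have hb' : (X.residue (genericPoint X)).hom (Polynomial.aeval (jGerm (k := k) _ hη
        (ratio r (hT (k := k) 0) (MvPolynomial.X 1) le_rfl)) pb) ≠ 0 := by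
    rw [← hev pb]
    intro h0
    exact hb ((r.residueFieldMap (genericPoint X)).hom.injective (by rw [h0, map_zero]))
  refine ⟨Polynomial.aeval (jGerm (k := k) _ hη
        (ratio r (hT (k := k) 0) (MvPolynomial.X 1) le_rfl)) pa /
      Polynomial.aeval (jGerm (k := k) _ hη
        (ratio r (hT (k := k) 0) (MvPolynomial.X 1) le_rfl)) pb, ?_, ?_⟩
  · exact div_mem (aeval_mem_adjoin _ _ (by simp) pa) (aeval_mem_adjoin _ _ (by simp) pb)
  · rw [map_div₀, ← hev pa, ← hev pb, ← hab, map_mul]
    rw [hev pb]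
    exact mul_div_cancel_right₀ _ hb'

/-- separability of the function field over `k(t)` -/
theorem isSeparable_adjoin
    (hr : r ≫ Groth.Agent.Helper13ProjUP.toBase (CohB1.polyGrading 1 k) =
      X ↘ Spec (CommRingCat.of k))
    (hη : genericPoint X ∈ VV r (MvPolynomial.X 0 : MvPolynomial (Fin (1 + 1)) k))
    (hξ : r (genericPoint X) = genericPoint (Proj (CohB1.polyGrading 1 k)))
    [IsIntegral (Proj (CohB1.polyGrading 1 k))]
    (hsep : letI := (r.residueFieldMap (genericPoint X)).hom.toAlgebra
      Algebra.IsSeparable ((Proj (CohB1.polyGrading 1 k)).residueField (r (genericPoint X)))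
        (X.residueField (genericPoint X))) :
    Algebra.IsSeparable (IntermediateField.adjoin k ({jGerm (k := k) _ hη
        (ratio r (hT (k := k) 0) (MvPolynomial.X 1) le_rfl)} : Set X.functionField))
      X.functionField := by
  letI := (r.residueFieldMap (genericPoint X)).hom.toAlgebra
  haveI : Algebra.IsSeparable ((Proj (CohB1.polyGrading 1 k)).residueField (r (genericPoint X)))
        (X.residueField (genericPoint X)) := hsep
  have hfield : IsField (X.presheaf.stalk (genericPoint X)) :=
    isField_stalk_of_eq_genericPoint _ rfl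
  have hbij := residue_bijective_of_isField (genericPoint X) hfield
  let ρe : X.functionField ≃+* X.residueField (genericPoint X) :=
    RingEquiv.ofBijective (X.residue (genericPoint X)).hom hbij
  let χ : (Proj (CohB1.polyGrading 1 k)).residueField (r (genericPoint X)) →+* X.functionField :=
    ρe.symm.toRingHom.comp (r.residueFieldMap (genericPoint X)).hom
  have hmem : ∀ z, χ z ∈ IntermediateField.adjoin k ({jGerm (k := k) _ hη
        (ratio r (hT (k := k) 0) (MvPolynomial.X 1) le_rfl)} : Set X.functionField) := by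
    intro z
    obtain ⟨w, hw, hwz⟩ := residueFieldMap_mem r hr hη hξ z
    have : χ z = w := by
      change ρe.symm ((r.residueFieldMap _).hom z) = w
      rw [← hwz]
      exact ρe.symm_apply_apply w
    rw [this]
    exact hw
  exact isSeparable_of_ringHom (X.residue (genericPoint X)).hom (χ.codRestrict _ hmem) (fun z => by
    change (X.residue _).hom (χ z) = (r.residueFieldMap _).hom z
    exact ρe.apply_symm_apply _)

end FF

end Part2

section Part3

open Groth.Agent.Helper13ProjUP Groth.Agent.Helper13Dehom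
open Groth.Agent.Lib.Helper6
open Groth.Agent.Lib.R2H1.PoleFilt Groth.Agent.Lib.R2H1.DblCoverGeom
open Groth.Agent.Lib.R2H1.DegPullback Groth.Agent.Lib.R2H1.IsoP1
open Groth.Agent.Lib.R2H1.PicPn

section Main

variable (k : Type u) [Field k] (X : Scheme.{u}) [X.Over (Spec (CommRingCat.of k))]
  [IsProper (X ↘ Spec (CommRingCat.of k))] [Smooth (X ↘ Spec (CommRingCat.of k))]
  [GeometricallyConnected (X ↘ Spec (CommRingCat.of k))]

attribute [local instance] algU Curv2.stalkAlgebra

theorem genericPoint_mem_VV [IsIntegral X] (r : X ⟶ Proj (CohB1.polyGrading 1 k))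
    [IsIntegral (Proj (CohB1.polyGrading 1 k))]
    (hξ : r (genericPoint X) = genericPoint (Proj (CohB1.polyGrading 1 k))) (i : Fin (1 + 1)) :
    genericPoint X ∈ VV r (MvPolynomial.X i : MvPolynomial (Fin (1 + 1)) k) := by
  change r (genericPoint X) ∈ Proj.basicOpen (CohB1.polyGrading 1 k) (MvPolynomial.X i)
  rw [hξ]
  exact ((genericPoint_spec _).mem_open_set_iff (U 1 k i).isOpen).mpr (by
    obtain ⟨⟨z, hz⟩⟩ := nonempty_U 1 k i
    exact ⟨z, trivial, hz⟩)

/-- **the function field of a double cover of the projective line** -/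
theorem ff_main [IsIntegral X] (hdim : topologicalKrullDim X = 1)
    (hX0 : Module.finrank k (Coh.HH X (Coh.structureModule X) 0) = 1)
    (r : X ⟶ Proj (CohB1.polyGrading 1 k))
    (hr : r ≫ Groth.Agent.Helper13ProjUP.toBase (CohB1.polyGrading 1 k) =
      X ↘ Spec (CommRingCat.of k)) [IsFinite r]
    (hres : r.residueDegree (genericPoint X) = 2)
    (hsep : letI := (r.residueFieldMap (genericPoint X)).hom.toAlgebra
      Algebra.IsSeparable ((Proj (CohB1.polyGrading 1 k)).residueField (r (genericPoint X)))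
        (X.residueField (genericPoint X)))
    (g : ℕ) (hg : Curv2.genus k X = g) :
    ∃ (t y : X.functionField) (P Q : Polynomial k),
      IntermediateField.adjoin k ({t, y} : Set X.functionField) = ⊤ ∧
      Module.finrank (IntermediateField.adjoin k ({t} : Set X.functionField)) X.functionField = 2 ∧
      Algebra.IsSeparable (IntermediateField.adjoin k ({t} : Set X.functionField)) X.functionField ∧
      y ^ 2 + Polynomial.aeval t Q * y = Polynomial.aeval t P ∧
      2 * g + 1 ≤ max (2 * Q.natDegree) P.natDegree ∧ max (2 * Q.natDegree) P.natDegree ≤ 2 * g + 2 ∧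
      (ringChar k ≠ 2 → ∃ (t' y' : X.functionField) (P' : Polynomial k),
        IntermediateField.adjoin k ({t', y'} : Set X.functionField) = ⊤ ∧
        Module.finrank (IntermediateField.adjoin k ({t'} : Set X.functionField)) X.functionField = 2 ∧
        y' ^ 2 = Polynomial.aeval t' P' ∧ 2 * g + 1 ≤ P'.natDegree ∧ P'.natDegree ≤ 2 * g + 2) := by
  haveI := isIntegral_P1k k
  have hξ := map_genericPoint k X hdim hX0 r
  have hη := genericPoint_mem_VV k X r hξ 0
  have hU : IsAffineOpen (VV r (MvPolynomial.X 0 : MvPolynomial (Fin (1 + 1)) k)) :=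
    (isAffineOpen_basicOpen (hT (k := k) 0)).preimage r
  obtain ⟨y, P, Q, c1, c2, c3, c4, c5, c6, c7, c8, -⟩ := geom_main k X hdim hX0 r hr hres
  rw [hg] at c6 c7 c8
  have hj := jGerm_injective (k := k) _ hη
  have hfrac := jGerm_frac (k := k) _ hU hη
  have hrel : ∀ (y₁ : Γ(X, VV r (MvPolynomial.X 0 : MvPolynomial (Fin (1 + 1)) k)))
      (P₁ Q₁ : Polynomial k),
      y₁ ^ 2 + Polynomial.aeval (ratio r (hT (k := k) 0) (MvPolynomial.X 1) le_rfl) Q₁ * y₁ =
        Polynomial.aeval (ratio r (hT (k := k) 0) (MvPolynomial.X 1) le_rfl) P₁ →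
      (jGerm (k := k) _ hη y₁) ^ 2 + Polynomial.aeval (jGerm (k := k) _ hη
        (ratio r (hT (k := k) 0) (MvPolynomial.X 1) le_rfl)) Q₁ * jGerm (k := k) _ hη y₁ =
      Polynomial.aeval (jGerm (k := k) _ hη
        (ratio r (hT (k := k) 0) (MvPolynomial.X 1) le_rfl)) P₁ := by
    intro y₁ P₁ Q₁ h
    rw [Polynomial.aeval_algHom_apply, Polynomial.aeval_algHom_apply, ← map_pow, ← map_mul,
      ← map_add, h]
  refine ⟨jGerm (k := k) _ hη (ratio r (hT (k := k) 0) (MvPolynomial.X 1) le_rfl),
    jGerm (k := k) _ hη y, P, Q, adjoin_eq_top _ hfrac _ y c4,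
    finrank_eq_two _ hj hfrac _ y P Q c3 c4 c5, isSeparable_adjoin r hr hη hξ hsep,
    hrel y P Q c5, ?_, ?_, ?_⟩
  · have h8 := c8 y P Q c2 c5
    rcases Nat.lt_or_ge (2 * g) P.natDegree with h | h
    · exact le_max_of_le_right h
    · have : g < Q.natDegree := by
        by_contra hq
        exact h8 ⟨h, by omega⟩
      exact le_max_of_le_left (by omega)
  · exact max_le (by omega) c6
  · intro hchar
    have h2 : (2 : k) ≠ 0 := Ring.two_ne_zero hchar
    have c3' := c3_shift _ y c3 (Polynomial.C (2 : k)⁻¹ * Q)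
    have c4' := c4_shift _ y c4 (Polynomial.C (2 : k)⁻¹ * Q)
    have c5' := c5_shift _ y P Q c5 h2
    have c5'' : (y + Polynomial.aeval (ratio r (hT (k := k) 0) (MvPolynomial.X 1) le_rfl)
        (Polynomial.C (2 : k)⁻¹ * Q)) ^ 2 +
        Polynomial.aeval (ratio r (hT (k := k) 0) (MvPolynomial.X 1) le_rfl) (0 : Polynomial k) *
          (y + Polynomial.aeval (ratio r (hT (k := k) 0) (MvPolynomial.X 1) le_rfl)
            (Polynomial.C (2 : k)⁻¹ * Q)) =
        Polynomial.aeval (ratio r (hT (k := k) 0) (MvPolynomial.X 1) le_rfl)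
          (P + (Polynomial.C (2 : k)⁻¹ * Q) ^ 2) := by
      rw [map_zero, zero_mul, add_zero, c5']
    refine ⟨jGerm (k := k) _ hη (ratio r (hT (k := k) 0) (MvPolynomial.X 1) le_rfl),
      jGerm (k := k) _ hη (y + Polynomial.aeval (ratio r (hT (k := k) 0) (MvPolynomial.X 1) le_rfl)
        (Polynomial.C (2 : k)⁻¹ * Q)), P + (Polynomial.C (2 : k)⁻¹ * Q) ^ 2,
      adjoin_eq_top _ hfrac _ _ c4', finrank_eq_two _ hj hfrac _ _ _ 0 c3' c4' c5'', ?_, ?_, ?_⟩
    · have := hrel _ _ _ c5''
      rw [map_zero, zero_mul, add_zero] at this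
      exact this
    · have hnr : (y + Polynomial.aeval (ratio r (hT (k := k) 0) (MvPolynomial.X 1) le_rfl)
          (Polynomial.C (2 : k)⁻¹ * Q)) ∉ Set.range (Polynomial.aeval
            (ratio r (hT (k := k) 0) (MvPolynomial.X 1) le_rfl) :
          Polynomial k →ₐ[k] Γ(X, VV r (MvPolynomial.X 0 : MvPolynomial (Fin (1 + 1)) k))) := by
        rintro ⟨w, hw⟩
        apply c2
        refine ⟨w - Polynomial.C (2 : k)⁻¹ * Q, ?_⟩
        rw [map_sub, hw]
        ring
      have h8 := c8 _ _ 0 hnr c5''
      by_contra hlt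
      exact h8 ⟨by omega, by simp⟩
    · have := natDegree_shift_le P Q (g + 1) (by omega) c7
      omega

end Main

end Part3

end Groth.Agent.Lib.R2H1.DblCoverFF
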