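import Mathlib
import Groth.Prelude
import Groth.Agent.Lib.Helper23AffVanish1
import Groth.Agent.Lib.Helper23AffVanish2
import Groth.Agent.Lib.Helper23AffVanish7
import Groth.Agent.Lib.Helper23AffOpen2
import Groth.Agent.Lib.R2H2HHLin
set_option backward.isDefEq.respectTransparency.types false

/-!
# The Mayer-Vietoris connecting map H0(U0 ∩ U1, F) -> H1(X, F) (helper1, round 2)

Topological: δE (on Ext groups), δE_eq_zero_iff, δE_surjective, δE_naturality, δE_refine; mvδ on sections with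
mvδ_eq_zero_iff (kernel = differences of restrictions), mvδ_naturality (in the sheaf), mvδ_refine (refinement of the
cover), mvδ_surjective.  Schemes: mvδM M U0 U1 hcov : Γ(M, U0 ⊓ U1) →+ Coh.HH X M 1 with mvδM_eq_zero_iff,
mvδM_naturality (HmapL), mvδM_smul (Γtop-linearity), mvδM_refine, mvδM_surjective (affine opens, quasi-coherent).
-/

set_option autoImplicit false
set_option linter.style.haveILetI false
set_option linter.unusedSectionVars false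
universe u v

open CategoryTheory CategoryTheory.Limits AlgebraicGeometry TopologicalSpace Opposite

namespace Groth.Agent.Lib.R2H1.MVDelta

section Part1

open CategoryTheory.Abelian

open Groth.Agent.Lib.Helper23.AffVanish

section Top

variable {X : TopCat.{u}} (F : CohTop.Ab X) (U₀ U₁ : Opens X) (hcov : (⊤ : Opens X) ≤ U₀ ⊔ U₁)

/-- the Mayer–Vietoris square of a cover by two opens -/
noncomputable abbrev sq : (Opens.grothendieckTopology X).MayerVietorisSquare :=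
  mvSquare U₀ U₁ ⊤ le_top le_top hcov

/-- the Mayer–Vietoris connecting map `H⁰(U₀ ∩ U₁) → H¹(X)` on Ext groups -/
noncomputable def δE : HE F 0 (U₀ ⊓ U₁) →+ HE F 1 ⊤ :=
  ((sq U₀ U₁ hcov).δ F 0 1 rfl).hom

theorem δE_apply (x : HE F 0 (U₀ ⊓ U₁)) :
    δE F U₀ U₁ hcov x =
      (sq U₀ U₁ hcov).shortComplex_shortExact.extClass.comp x (by omega) := rfl

theorem δE_naturality {F G : CohTop.Ab X} (φ : F ⟶ G) (x : HE F 0 (U₀ ⊓ U₁)) :
    (δE F U₀ U₁ hcov x).comp (Ext.mk₀ φ) (add_zero 1) =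
      δE G U₀ U₁ hcov (x.comp (Ext.mk₀ φ) (add_zero 0)) := by
  rw [δE_apply, δE_apply]
  exact Ext.comp_assoc _ _ _ _ _ (by omega)

theorem δE_eq_zero_of (y₀ : HE F 0 U₀) (y₁ : HE F 0 U₁) :
    δE F U₀ U₁ hcov (resE F 0 inf_le_left y₀ - resE F 0 inf_le_right y₁) = 0 := by
  have h := (sq U₀ U₁ hcov).fromBiprod_δ F 0 1 rfl
  have h2 := ConcreteCategory.congr_hom h ((AddCommGrpCat.biprodIsoProd _ _).inv ⟨y₀, y₁⟩)
  rw [ConcreteCategory.comp_apply,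
    GrothendieckTopology.MayerVietorisSquare.fromBiprod_biprodIsoProd_inv_apply] at h2
  exact h2

theorem δE_eq_zero_iff (x : HE F 0 (U₀ ⊓ U₁)) :
    δE F U₀ U₁ hcov x = 0 ↔ ∃ (y₀ : HE F 0 U₀) (y₁ : HE F 0 U₁),
      x = resE F 0 inf_le_left y₀ - resE F 0 inf_le_right y₁ := by
  constructor
  · intro hx
    have hex := ((sq U₀ U₁ hcov).sequence_exact F 0 1 rfl).exact 1
    rw [ShortComplex.ab_exact_iff] at hex
    obtain ⟨z, hz⟩ := hex x hx
    obtain ⟨⟨y₀, y₁⟩, rfl⟩ :=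
      (AddCommGrpCat.biprodIsoProd _ _).addCommGroupIsoToAddEquiv.symm.surjective z
    refine ⟨y₀, y₁, ?_⟩
    rw [← hz]
    exact GrothendieckTopology.MayerVietorisSquare.fromBiprod_biprodIsoProd_inv_apply _ F y₀ y₁
  · rintro ⟨y₀, y₁, rfl⟩
    exact δE_eq_zero_of F U₀ U₁ hcov y₀ y₁

theorem δE_surjective (h₀ : Subsingleton (HE F 1 U₀)) (h₁ : Subsingleton (HE F 1 U₁)) :
    Function.Surjective (δE F U₀ U₁ hcov) := by
  intro y
  have hex := ((sq U₀ U₁ hcov).sequence_exact F 0 1 rfl).exact 2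
  rw [ShortComplex.ab_exact_iff] at hex
  refine hex y ?_
  change (sq U₀ U₁ hcov).toBiprod F 1 y = 0
  rw [GrothendieckTopology.MayerVietorisSquare.toBiprod_apply]
  have e0 : ((F.cohomologyPresheaf 1).map (sq U₀ U₁ hcov).f₂₄.op) y = (0 : HE F 1 U₀) :=
    @Subsingleton.elim _ h₀ _ _
  have e1 : ((F.cohomologyPresheaf 1).map (sq U₀ U₁ hcov).f₃₄.op) y = (0 : HE F 1 U₁) :=
    @Subsingleton.elim _ h₁ _ _
  rw [e0, e1]
  exact map_zero (AddCommGrpCat.biprodIsoProd _ _).inv.hom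

end Top

end Part1

section Part2

open CategoryTheory.Abelian

open Groth.Agent.Lib.Helper23.AffVanish

section Top

variable {X : TopCat.{u}} (F : CohTop.Ab X) (U₀ U₁ : Opens X) (hcov : (⊤ : Opens X) ≤ U₀ ⊔ U₁)

/-- refinement of the cover does not change the connecting map -/
theorem δE_refine (U₀' U₁' : Opens X) (h₀ : U₀' ≤ U₀) (h₁ : U₁' ≤ U₁)
    (hcov' : (⊤ : Opens X) ≤ U₀' ⊔ U₁') (x : HE F 0 (U₀ ⊓ U₁)) :
    δE F U₀' U₁' hcov' (resE F 0 (inf_le_inf h₀ h₁) x) = δE F U₀ U₁ hcov x := by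
  have key : ∀ {A B C : Opens X} (f : A ⟶ B) (g : B ⟶ C) (h : A ⟶ C),
      CohCx.freeSheafMap (J X) f ≫ CohCx.freeSheafMap (J X) g = CohCx.freeSheafMap (J X) h := by
    intro A B C f g h
    rw [← CohFree.freeSheafMap_comp]
    exact congrArg (CohCx.freeSheafMap (J X)) (Subsingleton.elim _ _)
  let f : (sq U₀' U₁' hcov').shortComplex ⟶ (sq U₀ U₁ hcov).shortComplex :=
    { τ₁ := CohCx.freeSheafMap (J X) (homOfLE (inf_le_inf h₀ h₁))
      τ₂ := biprod.map (CohCx.freeSheafMap (J X) (homOfLE h₀))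
        (CohCx.freeSheafMap (J X) (homOfLE h₁))
      τ₃ := 𝟙 _
      comm₁₂ := by
        change CohCx.freeSheafMap (J X) (homOfLE (inf_le_inf h₀ h₁)) ≫
            biprod.lift (CohCx.freeSheafMap (J X) (homOfLE (inf_le_left : U₀ ⊓ U₁ ≤ U₀)))
              (-(CohCx.freeSheafMap (J X) (homOfLE (inf_le_right : U₀ ⊓ U₁ ≤ U₁)))) =
          biprod.lift (CohCx.freeSheafMap (J X) (homOfLE (inf_le_left : U₀' ⊓ U₁' ≤ U₀')))
            (-(CohCx.freeSheafMap (J X) (homOfLE (inf_le_right : U₀' ⊓ U₁' ≤ U₁')))) ≫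
          biprod.map (CohCx.freeSheafMap (J X) (homOfLE h₀))
            (CohCx.freeSheafMap (J X) (homOfLE h₁))
        apply biprod.hom_ext
        · simp only [Category.assoc, biprod.map_fst, biprod.lift_fst, biprod.lift_fst_assoc]
          rw [key _ _ (homOfLE (inf_le_left.trans h₀)), key _ _ (homOfLE (inf_le_left.trans h₀))]
        · simp only [Category.assoc, biprod.map_snd, biprod.lift_snd, biprod.lift_snd_assoc,
            Preadditive.neg_comp, Preadditive.comp_neg]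
          rw [key _ _ (homOfLE (inf_le_right.trans h₁)), key _ _ (homOfLE (inf_le_right.trans h₁))]
      comm₂₃ := by
        change biprod.map (CohCx.freeSheafMap (J X) (homOfLE h₀))
            (CohCx.freeSheafMap (J X) (homOfLE h₁)) ≫
          biprod.desc (CohCx.freeSheafMap (J X) (homOfLE (le_top : U₀ ≤ ⊤)))
            (CohCx.freeSheafMap (J X) (homOfLE (le_top : U₁ ≤ ⊤))) =
          biprod.desc (CohCx.freeSheafMap (J X) (homOfLE (le_top : U₀' ≤ ⊤)))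
            (CohCx.freeSheafMap (J X) (homOfLE (le_top : U₁' ≤ ⊤))) ≫ 𝟙 _
        apply biprod.hom_ext'
        · simp only [Category.comp_id, biprod.inl_desc, biprod.inl_map_assoc]
          rw [key _ _ (homOfLE le_top)]
        · simp only [Category.comp_id, biprod.inr_desc, biprod.inr_map_assoc]
          rw [key _ _ (homOfLE le_top)] }
  have hnat := ShortComplex.ShortExact.extClass_naturality
    (sq U₀' U₁' hcov').shortComplex_shortExact (sq U₀ U₁ hcov).shortComplex_shortExact f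
  rw [δE_apply, δE_apply, resE_apply]
  have h1 : (Ext.mk₀ f.τ₃).comp (sq U₀ U₁ hcov).shortComplex_shortExact.extClass (zero_add 1) =
      (sq U₀ U₁ hcov).shortComplex_shortExact.extClass := Ext.mk₀_id_comp _
  rw [← h1, ← hnat]
  exact (Ext.comp_assoc _ _ _ _ _ (by omega)).symm

theorem h0Equiv_naturality {F G : CohTop.Ab X} (φ : F ⟶ G) (U : Opens X) (x : HE F 0 U) :
    h0Equiv G U (x.comp (Ext.mk₀ φ) (add_zero 0)) = φ.hom.app (op U) (h0Equiv F U x) := by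
  obtain ⟨ψ, rfl⟩ := (Ext.mk₀_bijective _ _).2 x
  rw [Ext.mk₀_comp_mk₀]
  unfold h0Equiv
  rw [AddEquiv.trans_apply, AddEquiv.trans_apply, addEquiv₀_mk₀, addEquiv₀_mk₀]
  rfl

/-- the Mayer–Vietoris connecting map on sections -/
noncomputable def mvδ : F.obj.obj (op (U₀ ⊓ U₁)) →+ CohTop.H F 1 :=
  ((HETopEquivH X F 1).toAddMonoidHom.comp (δE F U₀ U₁ hcov)).comp
    (h0Equiv F (U₀ ⊓ U₁)).symm.toAddMonoidHom

theorem mvδ_apply (s : F.obj.obj (op (U₀ ⊓ U₁))) :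
    mvδ F U₀ U₁ hcov s = HETopEquivH X F 1 (δE F U₀ U₁ hcov ((h0Equiv F (U₀ ⊓ U₁)).symm s)) := rfl

theorem mvδ_eq_zero_iff (s : F.obj.obj (op (U₀ ⊓ U₁))) :
    mvδ F U₀ U₁ hcov s = 0 ↔ ∃ (a : F.obj.obj (op U₀)) (b : F.obj.obj (op U₁)),
      s = (F.obj.map (homOfLE (inf_le_left : U₀ ⊓ U₁ ≤ U₀)).op).hom a -
        (F.obj.map (homOfLE (inf_le_right : U₀ ⊓ U₁ ≤ U₁)).op).hom b := by
  rw [mvδ_apply, EmbeddingLike.map_eq_zero_iff, δE_eq_zero_iff]
  constructor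
  · rintro ⟨y₀, y₁, h⟩
    refine ⟨h0Equiv F U₀ y₀, h0Equiv F U₁ y₁, ?_⟩
    rw [← h0Equiv_res, ← h0Equiv_res, ← map_sub, ← h, AddEquiv.apply_symm_apply]
  · rintro ⟨a, b, h⟩
    refine ⟨(h0Equiv F U₀).symm a, (h0Equiv F U₁).symm b, ?_⟩
    apply (h0Equiv F (U₀ ⊓ U₁)).injective
    rw [AddEquiv.apply_symm_apply, map_sub, h0Equiv_res, h0Equiv_res, AddEquiv.apply_symm_apply,
      AddEquiv.apply_symm_apply, h]

theorem HETopEquivH_apply (n : ℕ) (y : HE F n ⊤) :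
    HETopEquivH X F n y = (Ext.mk₀ (wTop X)).comp y (zero_add n) := rfl

theorem mvδ_naturality {F G : CohTop.Ab X} (φ : F ⟶ G) (s : F.obj.obj (op (U₀ ⊓ U₁))) :
    Sheaf.H.map φ 1 (mvδ F U₀ U₁ hcov s) = mvδ G U₀ U₁ hcov (φ.hom.app (op (U₀ ⊓ U₁)) s) := by
  rw [mvδ_apply, mvδ_apply, Sheaf.H.map_apply, HETopEquivH_apply, HETopEquivH_apply]
  have h1 : (h0Equiv G (U₀ ⊓ U₁)).symm (φ.hom.app (op (U₀ ⊓ U₁)) s) =
      ((h0Equiv F (U₀ ⊓ U₁)).symm s).comp (Ext.mk₀ φ) (add_zero 0) := by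
    apply (h0Equiv G (U₀ ⊓ U₁)).injective
    rw [AddEquiv.apply_symm_apply, h0Equiv_naturality, AddEquiv.apply_symm_apply]
  rw [h1, ← δE_naturality]
  exact Ext.comp_assoc _ _ _ _ _ (by omega)

theorem mvδ_refine (U₀' U₁' : Opens X) (h₀ : U₀' ≤ U₀) (h₁ : U₁' ≤ U₁)
    (hcov' : (⊤ : Opens X) ≤ U₀' ⊔ U₁') (s : F.obj.obj (op (U₀ ⊓ U₁))) :
    mvδ F U₀' U₁' hcov' ((F.obj.map (homOfLE (inf_le_inf h₀ h₁)).op).hom s) =
      mvδ F U₀ U₁ hcov s := by
  rw [mvδ_apply, mvδ_apply]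
  congr 1
  rw [← δE_refine F U₀ U₁ hcov U₀' U₁' h₀ h₁ hcov']
  congr 1
  apply (h0Equiv F (U₀' ⊓ U₁')).injective
  rw [AddEquiv.apply_symm_apply, h0Equiv_res, AddEquiv.apply_symm_apply]

theorem mvδ_surjective (h₀ : Subsingleton (HE F 1 U₀)) (h₁ : Subsingleton (HE F 1 U₁)) :
    Function.Surjective (mvδ F U₀ U₁ hcov) := by
  intro y
  obtain ⟨x, hx⟩ := δE_surjective F U₀ U₁ hcov h₀ h₁ ((HETopEquivH X F 1).symm y)
  refine ⟨h0Equiv F (U₀ ⊓ U₁) x, ?_⟩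
  rw [mvδ_apply, AddEquiv.symm_apply_apply, hx, AddEquiv.apply_symm_apply]

end Top

end Part2

section Part3

open CategoryTheory.Abelian

open Groth.Agent.Lib.Helper23.AffVanish
  Groth.Agent.Lib.R2H2.HHLin

section Sch

variable {X : Scheme.{u}} (M : X.Modules) (U₀ U₁ : X.Opens) (hcov : (⊤ : X.Opens) ≤ U₀ ⊔ U₁)

/-- restriction of sections -/
noncomputable abbrev rs (M : X.Modules) {V W : X.Opens} (h : W ≤ V) (m : Γ(M, V)) : Γ(M, W) :=
  M.presheaf.map (homOfLE h).op m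

/-- the Mayer–Vietoris connecting map `Γ(U₀ ∩ U₁, M) → H¹(X, M)` -/
noncomputable def mvδM : Γ(M, U₀ ⊓ U₁) →+ Coh.HH X M 1 :=
  mvδ (X := X.carrier) (Coh.toAb M) U₀ U₁ hcov

theorem mvδM_eq_zero_iff (s : Γ(M, U₀ ⊓ U₁)) :
    mvδM M U₀ U₁ hcov s = 0 ↔ ∃ (a : Γ(M, U₀)) (b : Γ(M, U₁)),
      s = rs M inf_le_left a - rs M inf_le_right b :=
  mvδ_eq_zero_iff (X := X.carrier) (Coh.toAb M) U₀ U₁ hcov s

theorem mvδM_naturality {M N : X.Modules} (θ : M ⟶ N) (s : Γ(M, U₀ ⊓ U₁)) :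
    HmapL θ 1 (mvδM M U₀ U₁ hcov s) = mvδM N U₀ U₁ hcov (θ.app (U₀ ⊓ U₁) s) :=
  mvδ_naturality (X := X.carrier) U₀ U₁ hcov (abMap θ) s

theorem mvδM_smul (r : Coh.Γtop X) (s : Γ(M, U₀ ⊓ U₁)) :
    mvδM M U₀ U₁ hcov (X.presheaf.map (homOfLE (le_top : U₀ ⊓ U₁ ≤ ⊤)).op r • s) =
      r • mvδM M U₀ U₁ hcov s :=
  (mvδ_naturality (X := X.carrier) U₀ U₁ hcov (Coh.smulAb M r) s).symm

theorem mvδM_refine (U₀' U₁' : X.Opens) (h₀ : U₀' ≤ U₀) (h₁ : U₁' ≤ U₁)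
    (hcov' : (⊤ : X.Opens) ≤ U₀' ⊔ U₁') (s : Γ(M, U₀ ⊓ U₁)) :
    mvδM M U₀' U₁' hcov' (rs M (inf_le_inf h₀ h₁) s) = mvδM M U₀ U₁ hcov s :=
  mvδ_refine (X := X.carrier) (Coh.toAb M) U₀ U₁ hcov U₀' U₁' h₀ h₁ hcov' s

theorem mvδM_surjective [M.IsQuasicoherent] (hU₀ : IsAffineOpen U₀) (hU₁ : IsAffineOpen U₁) :
    Function.Surjective (mvδM M U₀ U₁ hcov) :=
  mvδ_surjective (X := X.carrier) (Coh.toAb M) U₀ U₁ hcov
    (subsingleton_HE_of_isAffineOpen hU₀ M 0) (subsingleton_HE_of_isAffineOpen hU₁ M 0)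

end Sch

end Part3

end Groth.Agent.Lib.R2H1.MVDelta
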