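import Mathlib
set_option backward.isDefEq.respectTransparency.types false

/-!
# Tate residues (helper1, round 2): pure linear algebra

Almost-containment of subspaces (AlmostLE), finite potent endomorphisms and their trace (trV, trV_eq_trace,
trV_add, trV_mul_comm), the ideals TT S P, Tates residue res A F G = trV ([pi_A, G] F) with independence of the
projection (trV_comm_eq_res), bilinearity, Leibniz rule (res_mul_right), vanishing (res_eq_zero_of_stable, _of_cofinite,
_of_finiteDimensional), additivity res_A + res_B = res_(A+B) + res_(A cap B) (res_sup_inf), local computation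
(res_eq_one), the pairing resK on a field K over k, the residue functional resΩ on Kaehler differentials
(resΩ_smul_D, hom_ext_Ω), resK_inv_self, resK_mul_inv, allE_of_fractions.
-/

set_option autoImplicit false
set_option linter.style.haveILetI false
set_option linter.unusedSectionVars false
universe u v

open CategoryTheory CategoryTheory.Limits AlgebraicGeometry TopologicalSpace Opposite

namespace Groth.Agent.Lib.R2H1.TateRes

section Part1

section Almost

variable {k : Type*} {V : Type*} [Field k] [AddCommGroup V] [Module k V]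

/-- `A` is contained in `B` up to a finite dimensional subspace -/
def AlmostLE (A B : Submodule k V) : Prop :=
  ∃ F : Submodule k V, FiniteDimensional k F ∧ A ≤ B ⊔ F

theorem almostLE_of_le {A B : Submodule k V} (h : A ≤ B) : AlmostLE A B :=
  ⟨⊥, inferInstance, by rw [sup_bot_eq]; exact h⟩

theorem AlmostLE.refl (A : Submodule k V) : AlmostLE A A := almostLE_of_le le_rfl

theorem AlmostLE.trans {A B C : Submodule k V} (h₁ : AlmostLE A B) (h₂ : AlmostLE B C) :
    AlmostLE A C := by
  obtain ⟨F₁, hF₁, h₁⟩ := h₁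
  obtain ⟨F₂, hF₂, h₂⟩ := h₂
  refine ⟨F₂ ⊔ F₁, inferInstance, ?_⟩
  calc A ≤ B ⊔ F₁ := h₁
    _ ≤ (C ⊔ F₂) ⊔ F₁ := sup_le_sup_right h₂ _
    _ = C ⊔ (F₂ ⊔ F₁) := sup_assoc _ _ _

theorem AlmostLE.mono_left {A A' B : Submodule k V} (h : A' ≤ A) (h₁ : AlmostLE A B) :
    AlmostLE A' B := (almostLE_of_le h).trans h₁

theorem AlmostLE.mono_right {A B B' : Submodule k V} (h : B ≤ B') (h₁ : AlmostLE A B) :
    AlmostLE A B' := h₁.trans (almostLE_of_le h)

theorem AlmostLE.sup {A A' B B' : Submodule k V} (h₁ : AlmostLE A B) (h₂ : AlmostLE A' B') :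
    AlmostLE (A ⊔ A') (B ⊔ B') := by
  obtain ⟨F₁, hF₁, h₁⟩ := h₁
  obtain ⟨F₂, hF₂, h₂⟩ := h₂
  refine ⟨F₁ ⊔ F₂, inferInstance, ?_⟩
  refine sup_le (h₁.trans ?_) (h₂.trans ?_)
  · exact sup_le (le_sup_of_le_left le_sup_left) (le_sup_of_le_right le_sup_left)
  · exact sup_le (le_sup_of_le_left le_sup_right) (le_sup_of_le_right le_sup_right)

theorem AlmostLE.sup_left {A A' B : Submodule k V} (h₁ : AlmostLE A B) (h₂ : AlmostLE A' B) :
    AlmostLE (A ⊔ A') B := by
  have := h₁.sup h₂
  rwa [sup_idem] at this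

theorem almostLE_of_finiteDimensional (A B : Submodule k V) [FiniteDimensional k A] :
    AlmostLE A B := ⟨A, inferInstance, le_sup_right⟩

theorem almostLE_bot_iff {A : Submodule k V} : AlmostLE A ⊥ ↔ FiniteDimensional k A := by
  constructor
  · rintro ⟨F, hF, h⟩
    rw [bot_sup_eq] at h
    exact Submodule.finiteDimensional_of_le h
  · intro h
    exact almostLE_of_finiteDimensional A ⊥

theorem AlmostLE.map {V' : Type*} [AddCommGroup V'] [Module k V'] (f : V →ₗ[k] V')
    {A B : Submodule k V} (h : AlmostLE A B) : AlmostLE (A.map f) (B.map f) := by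
  obtain ⟨F, hF, h⟩ := h
  refine ⟨F.map f, inferInstance, ?_⟩
  rw [← Submodule.map_sup]
  exact Submodule.map_mono h

/-- a subspace whose image in a quotient is finite dimensional -/
theorem almostLE_of_finiteDimensional_map (W N : Submodule k V)
    (h : FiniteDimensional k (W.map N.mkQ)) : AlmostLE W N := by
  -- choose a finite dimensional subspace of `W` surjecting onto the image
  obtain ⟨s, hs⟩ := Module.finite_def.1 h
  have hs' : Submodule.span k ((↑s : Set (W.map N.mkQ)) : Set (W.map N.mkQ)) = ⊤ := hs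
  -- lift generators
  have hlift : ∀ x : W.map N.mkQ, ∃ w : V, w ∈ W ∧ N.mkQ w = x.1 := by
    rintro ⟨x, hx⟩
    obtain ⟨w, hw, rfl⟩ := hx
    exact ⟨w, hw, rfl⟩
  choose g hgW hg using hlift
  refine ⟨Submodule.span k (g '' (↑s : Set (W.map N.mkQ))), ?_, ?_⟩
  · exact FiniteDimensional.span_of_finite k (s.finite_toSet.image g)
  · intro w hw
    have hx : (⟨N.mkQ w, ⟨w, hw, rfl⟩⟩ : W.map N.mkQ) ∈
        Submodule.span k ((↑s : Set (W.map N.mkQ))) := by rw [hs']; trivial
    -- induction on the span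
    have key : ∀ x ∈ Submodule.span k ((↑s : Set (W.map N.mkQ))),
        ∃ f ∈ Submodule.span k (g '' (↑s : Set (W.map N.mkQ))), N.mkQ f = x.1 := by
      intro x hx
      induction hx using Submodule.span_induction with
      | mem y hy => exact ⟨g y, Submodule.subset_span ⟨y, hy, rfl⟩, hg y⟩
      | zero => exact ⟨0, zero_mem _, by simp⟩
      | add a b _ _ ha hb =>
        obtain ⟨fa, hfa, ea⟩ := ha
        obtain ⟨fb, hfb, eb⟩ := hb
        exact ⟨fa + fb, add_mem hfa hfb, by rw [map_add, ea, eb]; rfl⟩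
      | smul c a _ ha =>
        obtain ⟨fa, hfa, ea⟩ := ha
        exact ⟨c • fa, Submodule.smul_mem _ c hfa, by rw [map_smul, ea]; rfl⟩
    obtain ⟨f, hf, ef⟩ := key _ hx
    have hd : w - f ∈ N := by
      rw [← Submodule.Quotient.mk_eq_zero, Submodule.Quotient.mk_sub]
      change N.mkQ w - N.mkQ f = 0
      rw [ef, sub_self]
    have : w = (w - f) + f := by abel
    rw [this]
    exact add_mem (Submodule.mem_sup_left hd) (Submodule.mem_sup_right hf)

theorem AlmostLE.finiteDimensional_map {A B : Submodule k V} (h : AlmostLE A B) :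
    FiniteDimensional k (A.map B.mkQ) := by
  obtain ⟨F, hF, h⟩ := h
  have : A.map B.mkQ ≤ F.map B.mkQ := by
    rintro _ ⟨a, ha, rfl⟩
    obtain ⟨b, hb, f, hf, rfl⟩ := Submodule.mem_sup.1 (h ha)
    refine ⟨f, hf, ?_⟩
    rw [map_add]
    have : B.mkQ b = 0 := (Submodule.Quotient.mk_eq_zero B).2 hb
    rw [this, zero_add]
  exact Submodule.finiteDimensional_of_le this

theorem AlmostLE.inf {A A' B B' : Submodule k V} (h₁ : AlmostLE A B) (h₂ : AlmostLE A' B') :
    AlmostLE (A ⊓ A') (B ⊓ B') := by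
  apply almostLE_of_finiteDimensional_map
  -- the image in `V / (B ⊓ B')` embeds into `V / B × V / B'`
  have f1 := h₁.finiteDimensional_map
  have f2 := h₂.finiteDimensional_map
  let φ : (V ⧸ (B ⊓ B')) →ₗ[k] (V ⧸ B) × (V ⧸ B') :=
    LinearMap.prod ((B ⊓ B').mapQ B LinearMap.id (by intro x hx; exact hx.1))
      ((B ⊓ B').mapQ B' LinearMap.id (by intro x hx; exact hx.2))
  have hφ : Function.Injective φ := by
    rw [← LinearMap.ker_eq_bot, LinearMap.ker_eq_bot']
    intro x hx
    obtain ⟨v, rfl⟩ := Submodule.Quotient.mk_surjective _ x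
    have h1 : B.mkQ v = 0 := congrArg Prod.fst hx
    have h2 : B'.mkQ v = 0 := congrArg Prod.snd hx
    rw [Submodule.mkQ_apply, Submodule.Quotient.mk_eq_zero] at h1 h2
    exact (Submodule.Quotient.mk_eq_zero _).2 ⟨h1, h2⟩
  have hle : ((A ⊓ A').map (B ⊓ B').mkQ).map φ ≤
      (A.map B.mkQ).prod (A'.map B'.mkQ) := by
    rintro _ ⟨_, ⟨v, hv, rfl⟩, rfl⟩
    exact ⟨⟨v, hv.1, rfl⟩, ⟨v, hv.2, rfl⟩⟩
  haveI : FiniteDimensional k ((A.map B.mkQ).prod (A'.map B'.mkQ)) := by
    exact Module.Finite.iff_fg.2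
      (Submodule.FG.prod (Module.Finite.iff_fg.1 f1) (Module.Finite.iff_fg.1 f2))
  haveI : FiniteDimensional k (((A ⊓ A').map (B ⊓ B').mkQ).map φ) :=
    Submodule.finiteDimensional_of_le hle
  exact Module.Finite.equiv
    (Submodule.equivMapOfInjective φ hφ ((A ⊓ A').map (B ⊓ B').mkQ)).symm

end Almost

end Part1

section Part2


section FinPotent

variable {k : Type*} {V : Type*} [Field k] [AddCommGroup V] [Module k V]

/-- finite potent endomorphisms -/
def FinPotent (θ : Module.End k V) : Prop :=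
  ∃ n : ℕ, FiniteDimensional k (LinearMap.range (θ ^ n))

theorem pow_succ_apply (θ : Module.End k V) (n : ℕ) (v : V) :
    (θ ^ (n + 1)) v = θ ((θ ^ n) v) := by
  rw [pow_succ', Module.End.mul_apply]

theorem pow_succ_apply' (θ : Module.End k V) (n : ℕ) (v : V) :
    (θ ^ (n + 1)) v = (θ ^ n) (θ v) := by
  rw [pow_succ, Module.End.mul_apply]

theorem stable_range_pow (θ : Module.End k V) (n : ℕ) :
    ∀ x ∈ LinearMap.range (θ ^ n), θ x ∈ LinearMap.range (θ ^ n) := by
  rintro _ ⟨v, rfl⟩
  exact ⟨θ v, by rw [← pow_succ_apply', pow_succ_apply]⟩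

theorem map_pow_le (θ : Module.End k V) (W : Submodule k V) (h : ∀ x ∈ W, θ x ∈ W) (j : ℕ) :
    W.map (θ ^ j) ≤ W := by
  induction j with
  | zero =>
    rintro _ ⟨x, hx, rfl⟩
    simpa using hx
  | succ j ih =>
    rintro _ ⟨x, hx, rfl⟩
    rw [pow_succ_apply]
    exact h _ (ih ⟨x, hx, rfl⟩)

/-- one step: if `θ W ⊆ W₂ ⊆ W` the traces on `W` and `W₂` agree -/
theorem trace_restrict_of_map_le (θ : Module.End k V) (W W₂ : Submodule k V)
    [FiniteDimensional k W] (hle : W₂ ≤ W) (h : ∀ x ∈ W, θ x ∈ W₂) :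
    LinearMap.trace k W (θ.restrict (fun x hx => hle (h x hx))) =
      LinearMap.trace k W₂ (θ.restrict (fun x hx => h x (hle hx))) := by
  haveI : FiniteDimensional k W₂ := Submodule.finiteDimensional_of_le hle
  let f : W →ₗ[k] W₂ := (θ.domRestrict W).codRestrict W₂ (fun x => h x x.2)
  let g : W₂ →ₗ[k] W := Submodule.inclusion hle
  have h1 : θ.restrict (fun x hx => hle (h x hx)) = g ∘ₗ f := by
    ext x; rfl
  have h2 : θ.restrict (fun x hx => h x (hle hx)) = f ∘ₗ g := by
    ext x; rfl
  rw [h1, h2, LinearMap.trace_comp_comm']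

theorem trace_restrict_eq_of_pow (θ : Module.End k V) (W₂ : Submodule k V)
    (h₂ : ∀ x ∈ W₂, θ x ∈ W₂) :
    ∀ (j : ℕ) (W : Submodule k V) [FiniteDimensional k W] (_hle : W₂ ≤ W)
      (hW : ∀ x ∈ W, θ x ∈ W) (_hj : W.map (θ ^ j) ≤ W₂),
      LinearMap.trace k W (θ.restrict hW) = LinearMap.trace k W₂ (θ.restrict h₂) := by
  intro j
  induction j with
  | zero =>
    intro W _ hle hW hj
    have : W = W₂ := by
      refine le_antisymm ?_ hle
      intro x hx
      exact hj ⟨x, hx, by simp⟩
    subst this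
    rfl
  | succ j ih =>
    intro W _ hle hW hj
    let W' : Submodule k V := W₂ ⊔ W.map θ
    have hle' : W' ≤ W := by
      refine sup_le hle ?_
      rintro _ ⟨x, hx, rfl⟩
      exact hW x hx
    haveI : FiniteDimensional k W' := Submodule.finiteDimensional_of_le hle'
    have hstep : ∀ x ∈ W, θ x ∈ W' := fun x hx =>
      Submodule.mem_sup_right ⟨x, hx, rfl⟩
    have hW' : ∀ x ∈ W', θ x ∈ W' := fun x hx => hstep x (hle' hx)
    have hj' : W'.map (θ ^ j) ≤ W₂ := by
      rw [Submodule.map_sup]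
      refine sup_le (map_pow_le θ W₂ h₂ j) ?_
      rintro _ ⟨_, ⟨x, hx, rfl⟩, rfl⟩
      rw [← pow_succ_apply']
      exact hj ⟨x, hx, rfl⟩
    exact (trace_restrict_of_map_le θ W W' hle' hstep).trans (ih W' le_sup_left hW' hj')

open Classical in
/-- Tate's trace of a finite potent endomorphism (`0` if not finite potent) -/
noncomputable def trV (θ : Module.End k V) : k :=
  if h : FinPotent θ then
    LinearMap.trace k (LinearMap.range (θ ^ Nat.find h))
      (θ.restrict (stable_range_pow θ (Nat.find h)))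
  else 0

theorem range_pow_add_le_left (θ : Module.End k V) (n m : ℕ) :
    LinearMap.range (θ ^ (n + m)) ≤ LinearMap.range (θ ^ n) := by
  rintro _ ⟨v, rfl⟩
  exact ⟨(θ ^ m) v, by rw [pow_add, Module.End.mul_apply]⟩

theorem range_pow_add_le_right (θ : Module.End k V) (n m : ℕ) :
    LinearMap.range (θ ^ (n + m)) ≤ LinearMap.range (θ ^ m) := by
  rw [add_comm]
  exact range_pow_add_le_left θ m n

theorem trV_eq_trace (θ : Module.End k V) (W : Submodule k V) [FiniteDimensional k W]
    (hW : ∀ x ∈ W, θ x ∈ W) (n : ℕ) (hn : LinearMap.range (θ ^ n) ≤ W) :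
    trV θ = LinearMap.trace k W (θ.restrict hW) := by
  classical
  have hfp : FinPotent θ := ⟨n, Submodule.finiteDimensional_of_le hn⟩
  unfold trV
  rw [dif_pos hfp]
  set n₀ := Nat.find hfp with hn₀
  haveI h₀ : FiniteDimensional k (LinearMap.range (θ ^ n₀)) := Nat.find_spec hfp
  let W₂ : Submodule k V := LinearMap.range (θ ^ (n + n₀))
  have hs₂ : ∀ x ∈ W₂, θ x ∈ W₂ := stable_range_pow θ (n + n₀)
  have e1 := trace_restrict_eq_of_pow θ W₂ hs₂ (n + n₀) W
    ((range_pow_add_le_left θ n n₀).trans hn) hW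
    (by rintro _ ⟨x, _, rfl⟩; exact ⟨x, rfl⟩)
  have e2 := trace_restrict_eq_of_pow θ W₂ hs₂ (n + n₀) (LinearMap.range (θ ^ n₀))
    (range_pow_add_le_right θ n n₀) (stable_range_pow θ n₀)
    (by rintro _ ⟨x, _, rfl⟩; exact ⟨x, rfl⟩)
  rw [e1, e2]

theorem trV_eq_zero_of_pow_eq_zero (θ : Module.End k V) (n : ℕ) (h : θ ^ n = 0) : trV θ = 0 := by
  have e := trV_eq_trace θ ⊥ (by intro x hx; rw [Submodule.mem_bot] at hx ⊢; rw [hx, map_zero])
    n (by rw [h]; simp)
  rw [e]
  have : θ.restrict (p := (⊥ : Submodule k V)) (q := ⊥)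
      (by intro x hx; rw [Submodule.mem_bot] at hx ⊢; rw [hx, map_zero]) = 0 :=
    Subsingleton.elim _ _
  rw [this, map_zero]

@[simp] theorem trV_zero : trV (0 : Module.End k V) = 0 :=
  trV_eq_zero_of_pow_eq_zero 0 1 (by simp)

/-- the descending sequence of subspaces generated by two endomorphisms -/
def Rseq (θ θ' : Module.End k V) : ℕ → Submodule k V
  | 0 => ⊤
  | (j + 1) => (Rseq θ θ' j).map θ ⊔ (Rseq θ θ' j).map θ'

theorem Rseq_succ_le (θ θ' : Module.End k V) (j : ℕ) : Rseq θ θ' (j + 1) ≤ Rseq θ θ' j := by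
  induction j with
  | zero => exact le_top
  | succ j ih =>
    exact sup_le_sup (Submodule.map_mono ih) (Submodule.map_mono ih)

theorem Rseq_stable_left (θ θ' : Module.End k V) (j : ℕ) :
    ∀ x ∈ Rseq θ θ' j, θ x ∈ Rseq θ θ' j := fun x hx =>
  Rseq_succ_le θ θ' j (Submodule.mem_sup_left ⟨x, hx, rfl⟩)

theorem Rseq_stable_right (θ θ' : Module.End k V) (j : ℕ) :
    ∀ x ∈ Rseq θ θ' j, θ' x ∈ Rseq θ θ' j := fun x hx =>
  Rseq_succ_le θ θ' j (Submodule.mem_sup_right ⟨x, hx, rfl⟩)

theorem range_pow_le_Rseq (θ θ' φ : Module.End k V)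
    (hφ : ∀ U : Submodule k V, U.map φ ≤ U.map θ ⊔ U.map θ') (n : ℕ) :
    LinearMap.range (φ ^ n) ≤ Rseq θ θ' n := by
  induction n with
  | zero => exact le_top
  | succ n ih =>
    rintro _ ⟨v, rfl⟩
    rw [pow_succ_apply]
    have : φ ((φ ^ n) v) ∈ (Rseq θ θ' n).map φ := ⟨_, ih ⟨v, rfl⟩, rfl⟩
    exact hφ _ this

theorem map_add_le (θ θ' : Module.End k V) (U : Submodule k V) :
    U.map (θ + θ') ≤ U.map θ ⊔ U.map θ' := by
  rintro _ ⟨x, hx, rfl⟩
  rw [LinearMap.add_apply]
  exact Submodule.add_mem_sup ⟨x, hx, rfl⟩ ⟨x, hx, rfl⟩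

theorem map_smul_le (c : k) (θ : Module.End k V) (U : Submodule k V) :
    U.map (c • θ) ≤ U.map θ := by
  rintro _ ⟨x, hx, rfl⟩
  rw [LinearMap.smul_apply]
  exact Submodule.smul_mem _ c ⟨x, hx, rfl⟩

/-- additivity of the trace on a pair with finite dimensional `Rseq` -/
theorem trV_add (θ θ' : Module.End k V) (n : ℕ) (hfin : FiniteDimensional k (Rseq θ θ' n)) :
    trV (θ + θ') = trV θ + trV θ' := by
  have h1 : ∀ x ∈ Rseq θ θ' n, θ x ∈ Rseq θ θ' n := Rseq_stable_left θ θ' n
  have h2 : ∀ x ∈ Rseq θ θ' n, θ' x ∈ Rseq θ θ' n := Rseq_stable_right θ θ' n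
  have h3 : ∀ x ∈ Rseq θ θ' n, (θ + θ') x ∈ Rseq θ θ' n := fun x hx => by
    rw [LinearMap.add_apply]; exact add_mem (h1 x hx) (h2 x hx)
  rw [trV_eq_trace θ _ h1 n (range_pow_le_Rseq θ θ' θ (fun U => le_sup_left) n),
    trV_eq_trace θ' _ h2 n (range_pow_le_Rseq θ θ' θ' (fun U => le_sup_right) n),
    trV_eq_trace (θ + θ') _ h3 n (range_pow_le_Rseq θ θ' (θ + θ') (map_add_le θ θ') n),
    ← map_add]
  congr 1

theorem trV_smul (c : k) (θ : Module.End k V) (h : FinPotent θ) : trV (c • θ) = c * trV θ := by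
  obtain ⟨n, hn⟩ := h
  have h1 := stable_range_pow θ n
  have h2 : ∀ x ∈ LinearMap.range (θ ^ n), (c • θ) x ∈ LinearMap.range (θ ^ n) := fun x hx => by
    rw [LinearMap.smul_apply]; exact Submodule.smul_mem _ c (h1 x hx)
  have h3 : LinearMap.range ((c • θ) ^ n) ≤ LinearMap.range (θ ^ n) := by
    rw [smul_pow]
    rintro _ ⟨v, rfl⟩
    rw [LinearMap.smul_apply]
    exact Submodule.smul_mem _ _ ⟨v, rfl⟩
  rw [trV_eq_trace θ _ h1 n le_rfl, trV_eq_trace (c • θ) _ h2 n h3, ← smul_eq_mul, ← map_smul]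
  congr 1

theorem mul_pow_succ_eq (a b : Module.End k V) (n : ℕ) :
    (b * a) ^ (n + 1) = b * (a * b) ^ n * a := by
  induction n with
  | zero => simp
  | succ n ih =>
    rw [pow_succ, ih, pow_succ (a * b)]
    simp only [mul_assoc]

/-- `tr (ab) = tr (ba)` -/
theorem trV_mul_comm (a b : Module.End k V) (h : FinPotent (a * b)) :
    trV (a * b) = trV (b * a) := by
  obtain ⟨n, hn⟩ := h
  let W : Submodule k V := LinearMap.range ((a * b) ^ n)
  haveI : FiniteDimensional k W := hn
  let W' : Submodule k V := W.map b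
  have hW : ∀ x ∈ W, (a * b) x ∈ W := stable_range_pow (a * b) n
  have hW' : ∀ x ∈ W', (b * a) x ∈ W' := by
    rintro _ ⟨w, hw, rfl⟩
    exact ⟨(a * b) w, hW w hw, rfl⟩
  have hr : LinearMap.range ((b * a) ^ (n + 1)) ≤ W' := by
    rintro _ ⟨v, rfl⟩
    rw [mul_pow_succ_eq]
    exact ⟨((a * b) ^ n) (a v), ⟨a v, rfl⟩, rfl⟩
  rw [trV_eq_trace (a * b) W hW n le_rfl, trV_eq_trace (b * a) W' hW' (n + 1) hr]
  let f : W →ₗ[k] W' := (b.domRestrict W).codRestrict W' (fun x => ⟨x.1, x.2, rfl⟩)
  let g : W' →ₗ[k] W := (a.domRestrict W').codRestrict W (fun x => by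
    obtain ⟨w, hw, e⟩ := x.2
    change a x.1 ∈ W
    rw [← e]
    exact hW w hw)
  have h1 : (a * b).restrict hW = g ∘ₗ f := by
    ext x; rfl
  have h2 : (b * a).restrict hW' = f ∘ₗ g := by
    ext x; rfl
  rw [h1, h2, LinearMap.trace_comp_comm']

end FinPotent

end Part2

section Part3


section Res

variable {k : Type*} {V : Type*} [Field k] [AddCommGroup V] [Module k V]

/-- `θ` almost preserves `A` -/
def InE (A : Submodule k V) (θ : Module.End k V) : Prop := AlmostLE (A.map θ) A

theorem map_mul_eq (θ θ' : Module.End k V) (U : Submodule k V) :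
    U.map (θ * θ') = (U.map θ').map θ := by
  rw [Module.End.mul_eq_comp, Submodule.map_comp]

theorem InE.mul {A : Submodule k V} {θ θ' : Module.End k V} (h : InE A θ) (h' : InE A θ') :
    InE A (θ * θ') := by
  unfold InE
  rw [map_mul_eq]
  exact (AlmostLE.map θ h').trans h

theorem almostLE_map_add {θ θ' : Module.End k V} {U U' : Submodule k V}
    (h : AlmostLE (U.map θ) U') (h' : AlmostLE (U.map θ') U') :
    AlmostLE (U.map (θ + θ')) U' :=
  (h.sup_left h').mono_left (map_add_le θ θ' U)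

theorem almostLE_map_smul (c : k) {θ : Module.End k V} {U U' : Submodule k V}
    (h : AlmostLE (U.map θ) U') : AlmostLE (U.map (c • θ)) U' :=
  h.mono_left (map_smul_le c θ U)

theorem InE.add {A : Submodule k V} {θ θ' : Module.End k V} (h : InE A θ) (h' : InE A θ') :
    InE A (θ + θ') := almostLE_map_add h h'

theorem InE.smul {A : Submodule k V} (c : k) {θ : Module.End k V} (h : InE A θ) :
    InE A (c • θ) := almostLE_map_smul c h

theorem InE.one (A : Submodule k V) : InE A (1 : Module.End k V) := by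
  unfold InE
  apply almostLE_of_le
  rintro _ ⟨x, hx, rfl⟩
  exact hx

/-- operators with `V ↦ S`, `S ↦ P`, `P ↦ 0` up to finite dimensional spaces -/
def TT (S P : Submodule k V) : Submodule k (Module.End k V) where
  carrier := {θ | AlmostLE ((⊤ : Submodule k V).map θ) S ∧ AlmostLE (S.map θ) P ∧
    AlmostLE (P.map θ) ⊥}
  zero_mem' := by
    refine ⟨?_, ?_, ?_⟩ <;>
    · apply almostLE_of_le
      exact (Submodule.map_zero _).le.trans bot_le
  add_mem' := by
    rintro θ θ' ⟨h1, h2, h3⟩ ⟨h1', h2', h3'⟩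
    exact ⟨almostLE_map_add h1 h1', almostLE_map_add h2 h2', almostLE_map_add h3 h3'⟩
  smul_mem' := by
    rintro c θ ⟨h1, h2, h3⟩
    exact ⟨almostLE_map_smul c h1, almostLE_map_smul c h2, almostLE_map_smul c h3⟩

theorem mem_TT_iff {S P : Submodule k V} {θ : Module.End k V} :
    θ ∈ TT S P ↔ AlmostLE ((⊤ : Submodule k V).map θ) S ∧ AlmostLE (S.map θ) P ∧
      AlmostLE (P.map θ) ⊥ := Iff.rfl

theorem almostLE_step {θ θ' : Module.End k V} {R U U' : Submodule k V} (hR : AlmostLE R U)
    (h : AlmostLE (U.map θ) U') (h' : AlmostLE (U.map θ') U') :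
    AlmostLE (R.map θ ⊔ R.map θ') U' :=
  ((hR.map θ).trans h).sup_left ((hR.map θ').trans h')

theorem Rseq_finite {S P : Submodule k V} {θ θ' : Module.End k V} (h : θ ∈ TT S P)
    (h' : θ' ∈ TT S P) : FiniteDimensional k (Rseq θ θ' 3) := by
  obtain ⟨h1, h2, h3⟩ := h
  obtain ⟨h1', h2', h3'⟩ := h'
  have s0 : AlmostLE (Rseq θ θ' 0) ⊤ := AlmostLE.refl _
  have s1 : AlmostLE (Rseq θ θ' 1) S := almostLE_step s0 h1 h1'
  have s2 : AlmostLE (Rseq θ θ' 2) P := almostLE_step s1 h2 h2'
  have s3 : AlmostLE (Rseq θ θ' 3) ⊥ := almostLE_step s2 h3 h3'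
  exact almostLE_bot_iff.1 s3

theorem finPotent_of_mem {S P : Submodule k V} {θ : Module.End k V} (h : θ ∈ TT S P) :
    FinPotent θ := by
  haveI := Rseq_finite h h
  exact ⟨3, Submodule.finiteDimensional_of_le
    (range_pow_le_Rseq θ θ θ (fun U => le_sup_left) 3)⟩

theorem trV_add_of_mem {S P : Submodule k V} {θ θ' : Module.End k V} (h : θ ∈ TT S P)
    (h' : θ' ∈ TT S P) : trV (θ + θ') = trV θ + trV θ' :=
  trV_add θ θ' 3 (Rseq_finite h h')

theorem trV_smul_of_mem {S P : Submodule k V} (c : k) {θ : Module.End k V} (h : θ ∈ TT S P) :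
    trV (c • θ) = c * trV θ :=
  trV_smul c θ (finPotent_of_mem h)

theorem trV_neg_of_mem {S P : Submodule k V} {θ : Module.End k V} (h : θ ∈ TT S P) :
    trV (-θ) = -trV θ := by
  have := trV_smul_of_mem (-1 : k) h
  rwa [neg_one_smul, neg_one_mul] at this

theorem trV_sub_of_mem {S P : Submodule k V} {θ θ' : Module.End k V} (h : θ ∈ TT S P)
    (h' : θ' ∈ TT S P) : trV (θ - θ') = trV θ - trV θ' := by
  rw [sub_eq_add_neg, trV_add_of_mem h ((TT S P).neg_mem h'), trV_neg_of_mem h', sub_eq_add_neg]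

theorem TT_mul_right {S P : Submodule k V} {θ F : Module.End k V} (h : θ ∈ TT S P)
    (hS : InE S F) (hP : InE P F) : θ * F ∈ TT S P := by
  obtain ⟨h1, h2, h3⟩ := h
  refine ⟨?_, ?_, ?_⟩
  · rw [map_mul_eq]
    exact h1.mono_left (Submodule.map_mono le_top)
  · rw [map_mul_eq]
    exact (AlmostLE.map θ hS).trans h2
  · rw [map_mul_eq]
    exact (AlmostLE.map θ hP).trans h3

theorem TT_mul_left {S P : Submodule k V} {θ F : Module.End k V} (h : θ ∈ TT S P)
    (hS : InE S F) (hP : InE P F) : F * θ ∈ TT S P := by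
  obtain ⟨h1, h2, h3⟩ := h
  refine ⟨?_, ?_, ?_⟩
  · rw [map_mul_eq]
    exact (AlmostLE.map F h1).trans hS
  · rw [map_mul_eq]
    exact (AlmostLE.map F h2).trans hP
  · rw [map_mul_eq]
    have := AlmostLE.map F h3
    rwa [Submodule.map_bot] at this

/-- existence of projections -/
theorem exists_isProj (A : Submodule k V) : ∃ π : Module.End k V, LinearMap.IsProj A π := by
  obtain ⟨C, hC⟩ := Submodule.exists_isCompl A
  exact ⟨A.projection C hC, ⟨fun x => Submodule.projection_apply_mem hC x,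
    fun x hx => Submodule.projection_apply_of_mem_left hC hx⟩⟩

/-- a chosen projection onto `A` -/
noncomputable def proj (A : Submodule k V) : Module.End k V := Classical.choose (exists_isProj A)

theorem proj_isProj (A : Submodule k V) : LinearMap.IsProj A (proj A) :=
  Classical.choose_spec (exists_isProj A)

/-- the commutator of a projection onto `A` with an operator almost preserving `A` -/
theorem comm_mem_TT {A : Submodule k V} {π G : Module.End k V} (hπ : LinearMap.IsProj A π)
    (hG : InE A G) : π * G - G * π ∈ TT A A := by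
  have hbot : AlmostLE (A.map (π * G - G * π)) ⊥ := by
    -- on `A` the operator is `-(1 - π) G`
    obtain ⟨F, hF, hle⟩ := hG
    rw [almostLE_bot_iff]
    have : A.map (π * G - G * π) ≤ F.map (π - 1) := by
      rintro _ ⟨a, ha, rfl⟩
      obtain ⟨a', ha', f, hf, e⟩ := Submodule.mem_sup.1 (hle ⟨a, ha, rfl⟩)
      refine ⟨f, hf, ?_⟩
      rw [LinearMap.sub_apply, LinearMap.sub_apply, Module.End.mul_apply, Module.End.mul_apply,
        hπ.map_id a ha, ← e, map_add, hπ.map_id a' ha', Module.End.one_apply]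
      abel
    exact Submodule.finiteDimensional_of_le this
  refine ⟨?_, hbot.mono_right bot_le, hbot⟩
  -- the range is in `A + G A`
  have : (⊤ : Submodule k V).map (π * G - G * π) ≤ A ⊔ A.map G := by
    rintro _ ⟨v, -, rfl⟩
    rw [LinearMap.sub_apply, Module.End.mul_apply, Module.End.mul_apply]
    exact Submodule.sub_mem_sup (hπ.map_mem _) ⟨π v, hπ.map_mem _, rfl⟩
  exact ((AlmostLE.refl A).sup_left hG).mono_left this

/-- Tate's residue of the pair `(F, G)` with respect to the subspace `A` -/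
noncomputable def res (A : Submodule k V) (F G : Module.End k V) : k :=
  trV ((proj A * G - G * proj A) * F)

theorem theta_mem {A : Submodule k V} {π F G : Module.End k V} (hπ : LinearMap.IsProj A π)
    (hF : InE A F) (hG : InE A G) : (π * G - G * π) * F ∈ TT A A :=
  TT_mul_right (comm_mem_TT hπ hG) hF hF

/-- the master lemma: the residue may be computed with any "almost projection" -/
theorem trV_comm_eq_res (A : Submodule k V) {F G : Module.End k V} (hF : InE A F) (hG : InE A G)
    (hFG : F * G = G * F) (π' : Module.End k V) (hπ' : π' - proj A ∈ TT A A) :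
    trV ((π' * G - G * π') * F) = res A F G := by
  set ε := π' - proj A with hε
  have h0 := theta_mem (proj_isProj A) hF hG
  have h1 : ε * F * G ∈ TT A A := TT_mul_right (TT_mul_right hπ' hF hF) hG hG
  have h2 : G * (ε * F) ∈ TT A A := TT_mul_left (TT_mul_right hπ' hF hF) hG hG
  have e : (π' * G - G * π') * F = (proj A * G - G * proj A) * F + (ε * F * G - G * (ε * F)) := by
    have : π' = proj A + ε := by rw [hε]; abel
    rw [this]
    simp only [mul_assoc, hFG]
    noncomm_ring
  rw [e, trV_add_of_mem h0 ((TT A A).sub_mem h1 h2), trV_sub_of_mem h1 h2]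
  have : trV (ε * F * G) = trV (G * (ε * F)) :=
    (trV_mul_comm (ε * F) G (finPotent_of_mem h1))
  rw [this, sub_self, add_zero]
  rfl

theorem sub_proj_mem {A : Submodule k V} {π' : Module.End k V} (h : LinearMap.IsProj A π') :
    π' - proj A ∈ TT A A := by
  have hbot : AlmostLE (A.map (π' - proj A)) ⊥ := by
    apply almostLE_of_le
    rintro _ ⟨a, ha, rfl⟩
    rw [LinearMap.sub_apply, h.map_id a ha, (proj_isProj A).map_id a ha, sub_self]
    exact zero_mem _
  refine ⟨?_, hbot.mono_right bot_le, hbot⟩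
  apply almostLE_of_le
  rintro _ ⟨v, -, rfl⟩
  rw [LinearMap.sub_apply]
  exact sub_mem (h.map_mem _) ((proj_isProj A).map_mem _)

theorem res_eq_of_isProj (A : Submodule k V) {F G : Module.End k V} (hF : InE A F) (hG : InE A G)
    (hFG : F * G = G * F) {π' : Module.End k V} (h : LinearMap.IsProj A π') :
    res A F G = trV ((π' * G - G * π') * F) :=
  (trV_comm_eq_res A hF hG hFG π' (sub_proj_mem h)).symm

theorem res_add_left (A : Submodule k V) {F F' G : Module.End k V} (hF : InE A F)
    (hF' : InE A F') (hG : InE A G) : res A (F + F') G = res A F G + res A F' G := by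
  unfold res
  rw [mul_add]
  exact trV_add_of_mem (theta_mem (proj_isProj A) hF hG) (theta_mem (proj_isProj A) hF' hG)

theorem res_smul_left (A : Submodule k V) (c : k) {F G : Module.End k V} (hF : InE A F)
    (hG : InE A G) : res A (c • F) G = c * res A F G := by
  unfold res
  rw [mul_smul_comm]
  exact trV_smul_of_mem c (theta_mem (proj_isProj A) hF hG)

theorem res_add_right (A : Submodule k V) {F G G' : Module.End k V} (hF : InE A F)
    (hG : InE A G) (hG' : InE A G') : res A F (G + G') = res A F G + res A F G' := by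
  unfold res
  have : (proj A * (G + G') - (G + G') * proj A) * F =
      (proj A * G - G * proj A) * F + (proj A * G' - G' * proj A) * F := by
    noncomm_ring
  rw [this]
  exact trV_add_of_mem (theta_mem (proj_isProj A) hF hG) (theta_mem (proj_isProj A) hF hG')

theorem res_smul_right (A : Submodule k V) (c : k) {F G : Module.End k V} (hF : InE A F)
    (hG : InE A G) : res A F (c • G) = c * res A F G := by
  unfold res
  have : (proj A * (c • G) - (c • G) * proj A) * F = c • ((proj A * G - G * proj A) * F) := by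
    rw [mul_smul_comm, smul_mul_assoc, ← smul_sub, smul_mul_assoc]
  rw [this]
  exact trV_smul_of_mem c (theta_mem (proj_isProj A) hF hG)

/-- the residue vanishes when both operators preserve `A` -/
theorem res_eq_zero_of_stable (A : Submodule k V) {F G : Module.End k V} (hF : A.map F ≤ A)
    (hG : A.map G ≤ A) : res A F G = 0 := by
  unfold res
  set π := proj A
  have hπ := proj_isProj A
  apply trV_eq_zero_of_pow_eq_zero _ 2
  rw [pow_two]
  ext v
  rw [Module.End.mul_apply, LinearMap.zero_apply]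
  have hmem : ∀ v, ((π * G - G * π) * F) v ∈ A := by
    intro v
    rw [Module.End.mul_apply, LinearMap.sub_apply, Module.End.mul_apply, Module.End.mul_apply]
    exact sub_mem (hπ.map_mem _) (hG ⟨π (F v), hπ.map_mem _, rfl⟩)
  have hzero : ∀ a ∈ A, ((π * G - G * π) * F) a = 0 := by
    intro a ha
    have h1 : F a ∈ A := hF ⟨a, ha, rfl⟩
    have h2 : G (F a) ∈ A := hG ⟨F a, h1, rfl⟩
    rw [Module.End.mul_apply, LinearMap.sub_apply, Module.End.mul_apply, Module.End.mul_apply,
      hπ.map_id _ h1, hπ.map_id _ h2, sub_self]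
  exact hzero _ (hmem v)

/-- the residue vanishes when the second operator commutes with the projection -/
theorem res_eq_zero_of_comm (A : Submodule k V) {F G : Module.End k V}
    (hG : proj A * G = G * proj A) : res A F G = 0 := by
  unfold res
  rw [hG, sub_self, zero_mul, trV_zero]

/-- the Leibniz rule -/
theorem res_mul_right (A : Submodule k V) {F G H : Module.End k V} (hF : InE A F) (hG : InE A G)
    (hH : InE A H) (hFG : F * G = G * F) (hFH : F * H = H * F) :
    res A F (G * H) = res A (F * G) H + res A (F * H) G := by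
  unfold res
  set π := proj A
  have hπ := proj_isProj A
  have t1 : (π * G - G * π) * (H * F) ∈ TT A A := theta_mem hπ (hH.mul hF) hG
  have t2 : (π * H - H * π) * F ∈ TT A A := theta_mem hπ hF hH
  have t2' : G * ((π * H - H * π) * F) ∈ TT A A := TT_mul_left t2 hG hG
  have e : (π * (G * H) - G * H * π) * F =
      (π * G - G * π) * (H * F) + G * ((π * H - H * π) * F) := by
    noncomm_ring
  rw [e, trV_add_of_mem t1 t2', add_comm]
  congr 1
  · -- `tr (G ([π,H] F)) = tr (([π,H] F) G)`
    rw [trV_mul_comm G ((π * H - H * π) * F) (finPotent_of_mem t2'), mul_assoc, hFG]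
  · rw [hFH]

theorem res_eq_zero_of_finiteDimensional (A : Submodule k V) [FiniteDimensional k A]
    {F G : Module.End k V} (hF : InE A F) (hG : InE A G) (hFG : F * G = G * F) :
    res A F G = 0 := by
  have h : (0 : Module.End k V) - proj A ∈ TT A A := by
    rw [zero_sub]
    apply (TT A A).neg_mem
    have hbot : AlmostLE (A.map (proj A)) ⊥ := almostLE_bot_iff.2 inferInstance
    refine ⟨?_, hbot.mono_right bot_le, hbot⟩
    apply almostLE_of_le
    rintro _ ⟨v, -, rfl⟩
    exact (proj_isProj A).map_mem v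
  have := trV_comm_eq_res A hF hG hFG 0 h
  rw [← this]
  simp

theorem res_eq_zero_of_cofinite (A : Submodule k V) (hA : AlmostLE ⊤ A)
    {F G : Module.End k V} (hF : InE A F) (hG : InE A G) (hFG : F * G = G * F) :
    res A F G = 0 := by
  have h : (1 : Module.End k V) - proj A ∈ TT A A := by
    have hbot : AlmostLE (A.map (1 - proj A)) ⊥ := by
      apply almostLE_of_le
      rintro _ ⟨a, ha, rfl⟩
      rw [LinearMap.sub_apply, (proj_isProj A).map_id a ha, Module.End.one_apply, sub_self]
      exact zero_mem _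
    exact ⟨hA.mono_left le_top, hbot.mono_right bot_le, hbot⟩
  have := trV_comm_eq_res A hF hG hFG 1 h
  rw [← this]
  simp

end Res

end Part3

section Part4


section SupInf

variable {k : Type*} {V : Type*} [Field k] [AddCommGroup V] [Module k V]

theorem InE.sup {A B : Submodule k V} {F : Module.End k V} (hA : InE A F) (hB : InE B F) :
    InE (A ⊔ B) F := by
  unfold InE
  rw [Submodule.map_sup]
  exact AlmostLE.sup hA hB

theorem InE.inf {A B : Submodule k V} {F : Module.End k V} (hA : InE A F) (hB : InE B F) :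
    InE (A ⊓ B) F := by
  unfold InE
  exact (AlmostLE.inf hA hB).mono_left (Submodule.map_inf_le _)

/-- commuting projections onto two subspaces -/
theorem exists_comm_proj (A B : Submodule k V) :
    ∃ eA eB : Module.End k V, LinearMap.IsProj A eA ∧ LinearMap.IsProj B eB ∧
      eA * eB = eB * eA := by
  obtain ⟨Q, hQ⟩ := Submodule.exists_isCompl (A ⊓ B)
  set B' : Submodule k V := Q ⊓ B with hB'
  have hB'B : B' ≤ B := inf_le_right
  have hsup : (A ⊓ B) ⊔ B' = B := by
    rw [hB', ← sup_inf_assoc_of_le Q (inf_le_right : A ⊓ B ≤ B), hQ.sup_eq_top, top_inf_eq]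
  have hdisj : Disjoint A B' := by
    rw [Submodule.disjoint_def]
    intro x hxA hxB'
    have h1 : x ∈ (A ⊓ B) ⊓ Q := ⟨⟨hxA, hxB'.2⟩, hxB'.1⟩
    rw [hQ.inf_eq_bot] at h1
    exact (Submodule.mem_bot k).1 h1
  obtain ⟨C, hC⟩ := Submodule.exists_isCompl (A ⊔ B')
  have hAN : IsCompl A (B' ⊔ C) := by
    refine ⟨hdisj.disjoint_sup_right_of_disjoint_sup_left hC.disjoint, ?_⟩
    rw [codisjoint_iff, ← sup_assoc, hC.sup_eq_top]
  set eA : Module.End k V := A.projection (B' ⊔ C) hAN with heA
  have eA_mem : ∀ v, eA v ∈ A := fun v => Submodule.projection_apply_mem hAN v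
  have eA_id : ∀ a ∈ A, eA a = a := fun a ha => Submodule.projection_apply_of_mem_left hAN ha
  have eA_zero : ∀ b ∈ B', eA b = 0 := fun b hb =>
    Submodule.projection_apply_of_mem_right hAN (Submodule.mem_sup_left hb)
  set eP : Module.End k V := proj (A ⊓ B)
  have hP := proj_isProj (A ⊓ B)
  set eB' : Module.End k V := proj B'
  have hPB' := proj_isProj B'
  refine ⟨eA, eP * eA + eB' * (1 - eA), ⟨eA_mem, eA_id⟩, ⟨?_, ?_⟩, ?_⟩
  · intro v
    rw [LinearMap.add_apply, Module.End.mul_apply, Module.End.mul_apply]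
    exact add_mem (hP.map_mem _).2 (hB'B (hPB'.map_mem _))
  · intro b hb
    rw [← hsup] at hb
    obtain ⟨p, hp, b', hb', rfl⟩ := Submodule.mem_sup.1 hb
    have e1 : eA (p + b') = p := by rw [map_add, eA_id p hp.1, eA_zero b' hb', add_zero]
    rw [LinearMap.add_apply, Module.End.mul_apply, Module.End.mul_apply, LinearMap.sub_apply,
      Module.End.one_apply, e1, hP.map_id p hp, add_sub_cancel_left, hPB'.map_id b' hb']
  · ext v
    simp only [Module.End.mul_apply, LinearMap.add_apply, LinearMap.sub_apply,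
      Module.End.one_apply, map_add]
    rw [eA_id _ (hP.map_mem _).1, eA_zero _ (hPB'.map_mem _), eA_id _ (eA_mem v), sub_self,
      map_zero]

theorem isProj_inf {A B : Submodule k V} {eA eB : Module.End k V} (hA : LinearMap.IsProj A eA)
    (hB : LinearMap.IsProj B eB) (hc : eA * eB = eB * eA) : LinearMap.IsProj (A ⊓ B) (eA * eB) := by
  refine ⟨fun v => ⟨?_, ?_⟩, fun x hx => ?_⟩
  · rw [Module.End.mul_apply]; exact hA.map_mem _
  · rw [hc, Module.End.mul_apply]; exact hB.map_mem _
  · rw [Module.End.mul_apply, hB.map_id x hx.2, hA.map_id x hx.1]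

theorem isProj_sup {A B : Submodule k V} {eA eB : Module.End k V} (hA : LinearMap.IsProj A eA)
    (hB : LinearMap.IsProj B eB) (hc : eA * eB = eB * eA) :
    LinearMap.IsProj (A ⊔ B) (eA + eB - eA * eB) := by
  refine ⟨fun v => ?_, fun x hx => ?_⟩
  · rw [LinearMap.sub_apply, LinearMap.add_apply, Module.End.mul_apply]
    have : eA v + eB v - eA (eB v) = (eA v - eA (eB v)) + eB v := by abel
    rw [this]
    exact Submodule.add_mem_sup (sub_mem (hA.map_mem _) (hA.map_mem _)) (hB.map_mem _)
  · obtain ⟨a, ha, b, hb, rfl⟩ := Submodule.mem_sup.1 hx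
    have e1 : (eA + eB - eA * eB) a = a := by
      rw [LinearMap.sub_apply, LinearMap.add_apply, hc, Module.End.mul_apply, hA.map_id a ha]
      abel
    have e2 : (eA + eB - eA * eB) b = b := by
      rw [LinearMap.sub_apply, LinearMap.add_apply, Module.End.mul_apply, hB.map_id b hb]
      abel
    rw [map_add, e1, e2]

/-- the commutator with `eA` lies in `TT (A ⊔ B) (A ⊓ B)` -/
theorem comm_mem_TT_sup_inf {A B : Submodule k V} {eA eB G : Module.End k V}
    (hA : LinearMap.IsProj A eA) (hB : LinearMap.IsProj B eB) (hc : eA * eB = eB * eA)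
    (hGA : InE A G) (hGB : InE B G) : eA * G - G * eA ∈ TT (A ⊔ B) (A ⊓ B) := by
  obtain ⟨h1, -, h3⟩ := comm_mem_TT hA hGA
  have hBeA : B.map eA ≤ A ⊓ B := by
    rintro _ ⟨b, hb, rfl⟩
    refine ⟨hA.map_mem _, ?_⟩
    have : eA b = eB (eA b) := by
      conv_lhs => rw [← hB.map_id b hb]
      rw [← Module.End.mul_apply, hc, Module.End.mul_apply]
    rw [this]
    exact hB.map_mem _
  refine ⟨h1.mono_right le_sup_left, ?_, h3.mono_left (Submodule.map_mono inf_le_left)⟩
  rw [Submodule.map_sup]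
  refine AlmostLE.sup_left (h3.mono_right bot_le) ?_
  have hle : B.map (eA * G - G * eA) ≤ (B.map G).map eA ⊔ (B.map eA).map G := by
    rintro _ ⟨b, hb, rfl⟩
    rw [LinearMap.sub_apply, Module.End.mul_apply, Module.End.mul_apply]
    exact Submodule.sub_mem_sup ⟨G b, ⟨b, hb, rfl⟩, rfl⟩ ⟨eA b, ⟨b, hb, rfl⟩, rfl⟩
  refine AlmostLE.mono_left hle (AlmostLE.sup_left ?_ ?_)
  · exact ((AlmostLE.map eA hGB).mono_right hBeA)
  · exact (InE.inf hGA hGB).mono_left (Submodule.map_mono hBeA)

/-- Tate's additivity: `res_A + res_B = res_{A+B} + res_{A∩B}` -/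
theorem res_sup_inf (A B : Submodule k V) {F G : Module.End k V} (hFA : InE A F) (hFB : InE B F)
    (hGA : InE A G) (hGB : InE B G) (hFG : F * G = G * F) :
    res A F G + res B F G = res (A ⊔ B) F G + res (A ⊓ B) F G := by
  obtain ⟨eA, eB, hA, hB, hc⟩ := exists_comm_proj A B
  have hFS := InE.sup hFA hFB
  have hFP := InE.inf hFA hFB
  have hGS := InE.sup hGA hGB
  have hGP := InE.inf hGA hGB
  have hS := isProj_sup hA hB hc
  have hP := isProj_inf hA hB hc
  rw [res_eq_of_isProj A hFA hGA hFG hA, res_eq_of_isProj B hFB hGB hFG hB,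
    res_eq_of_isProj (A ⊔ B) hFS hGS hFG hS, res_eq_of_isProj (A ⊓ B) hFP hGP hFG hP]
  -- membership
  have dA : eA * G - G * eA ∈ TT (A ⊔ B) (A ⊓ B) := comm_mem_TT_sup_inf hA hB hc hGA hGB
  have dB : eB * G - G * eB ∈ TT (A ⊔ B) (A ⊓ B) := by
    have := comm_mem_TT_sup_inf hB hA hc.symm hGB hGA
    rwa [sup_comm, inf_comm] at this
  have eA_S : InE (A ⊔ B) eA := by
    apply almostLE_of_le
    rintro _ ⟨x, -, rfl⟩
    exact Submodule.mem_sup_left (hA.map_mem _)
  have eB_S : InE (A ⊔ B) eB := by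
    apply almostLE_of_le
    rintro _ ⟨x, -, rfl⟩
    exact Submodule.mem_sup_right (hB.map_mem _)
  have eA_P : InE (A ⊓ B) eA := by
    apply almostLE_of_le
    rintro _ ⟨x, hx, rfl⟩
    rw [hA.map_id x hx.1]
    exact hx
  have eB_P : InE (A ⊓ B) eB := by
    apply almostLE_of_le
    rintro _ ⟨x, hx, rfl⟩
    rw [hB.map_id x hx.2]
    exact hx
  have tA : (eA * G - G * eA) * F ∈ TT (A ⊔ B) (A ⊓ B) := TT_mul_right dA hFS hFP
  have tB : (eB * G - G * eB) * F ∈ TT (A ⊔ B) (A ⊓ B) := TT_mul_right dB hFS hFP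
  have dP : eA * eB * G - G * (eA * eB) ∈ TT (A ⊔ B) (A ⊓ B) := by
    have e : eA * eB * G - G * (eA * eB) = eA * (eB * G - G * eB) + (eA * G - G * eA) * eB := by
      noncomm_ring
    rw [e]
    exact (TT _ _).add_mem (TT_mul_left dB eA_S eA_P) (TT_mul_right dA eB_S eB_P)
  have tP : (eA * eB * G - G * (eA * eB)) * F ∈ TT (A ⊔ B) (A ⊓ B) := TT_mul_right dP hFS hFP
  have e : ((eA + eB - eA * eB) * G - G * (eA + eB - eA * eB)) * F =
      (eA * G - G * eA) * F + (eB * G - G * eB) * F - (eA * eB * G - G * (eA * eB)) * F := by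
    noncomm_ring
  rw [e, trV_sub_of_mem ((TT _ _).add_mem tA tB) tP, trV_add_of_mem tA tB]
  ring

end SupInf

end Part4

section Part5


section Local

variable {k : Type*} {V : Type*} [Field k] [AddCommGroup V] [Module k V]

/-- the local computation `res (u⁻¹ du) = 1` in abstract form -/
theorem res_eq_one (A : Submodule k V) {F G : Module.End k V} (hFG : F * G = 1) (hGF : G * F = 1)
    (hGA : A.map G ≤ A) (e : V) (he : e ∈ A) (he' : e ∉ A.map G)
    (hspan : ∀ a ∈ A, ∃ c : k, a - c • e ∈ A.map G) : res A F G = 1 := by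
  unfold res
  set π := proj A with hπdef
  have hπ := proj_isProj A
  set θ : Module.End k V := (π * G - G * π) * F with hθ
  have hFGa : ∀ v, F (G v) = v := fun v => by
    rw [← Module.End.mul_apply, hFG, Module.End.one_apply]
  have hGFa : ∀ v, G (F v) = v := fun v => by
    rw [← Module.End.mul_apply, hGF, Module.End.one_apply]
  have hθv : ∀ v, θ v = π v - G (π (F v)) := fun v => by
    rw [hθ, Module.End.mul_apply, LinearMap.sub_apply, Module.End.mul_apply, Module.End.mul_apply,
      hGFa]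
  have hmem : ∀ v, θ v ∈ A := fun v => by
    rw [hθv]
    exact sub_mem (hπ.map_mem _) (hGA ⟨π (F v), hπ.map_mem _, rfl⟩)
  have hzero : ∀ x ∈ A.map G, θ x = 0 := by
    rintro _ ⟨a, ha, rfl⟩
    rw [hθv, hFGa, hπ.map_id a ha, hπ.map_id _ (hGA ⟨a, ha, rfl⟩), sub_self]
  set w := θ e with hw
  have hwe : w = e - G (π (F e)) := by rw [hw, hθv, hπ.map_id e he]
  have hθw : θ w = w := by
    rw [hwe, map_sub, hzero _ ⟨π (F e), hπ.map_mem _, rfl⟩, sub_zero, ← hwe]
  have hw0 : w ≠ 0 := by
    intro h0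
    rw [hwe, sub_eq_zero] at h0
    exact he' (h0 ▸ ⟨π (F e), hπ.map_mem _, rfl⟩)
  have hθa : ∀ a ∈ A, ∃ c : k, θ a = c • w := by
    intro a ha
    obtain ⟨c, hc⟩ := hspan a ha
    refine ⟨c, ?_⟩
    have := hzero _ hc
    rw [map_sub, map_smul, sub_eq_zero] at this
    exact this
  let W : Submodule k V := Submodule.span k {w}
  have hW : ∀ x ∈ W, θ x ∈ W := by
    intro x hx
    obtain ⟨c, rfl⟩ := Submodule.mem_span_singleton.1 hx
    rw [map_smul, hθw]
    exact Submodule.smul_mem _ c (Submodule.mem_span_singleton_self w)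
  have hr : LinearMap.range (θ ^ 2) ≤ W := by
    rintro _ ⟨v, rfl⟩
    rw [pow_two, Module.End.mul_apply]
    obtain ⟨c, hc⟩ := hθa _ (hmem v)
    rw [hc]
    exact Submodule.smul_mem _ c (Submodule.mem_span_singleton_self w)
  rw [trV_eq_trace θ W hW 2 hr]
  have hid : θ.restrict hW = 1 := by
    ext ⟨x, hx⟩
    obtain ⟨c, rfl⟩ := Submodule.mem_span_singleton.1 hx
    change θ (c • w) = c • w
    rw [map_smul, hθw]
  rw [hid, LinearMap.trace_one, finrank_span_singleton hw0, Nat.cast_one]

end Local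

section Field

variable {k : Type*} {K : Type*} [Field k] [Field K] [Algebra k K]

/-- multiplication operators -/
noncomputable def mulE (k : Type*) {K : Type*} [Field k] [Field K] [Algebra k K] :
    K →ₐ[k] Module.End k K := Algebra.lmul k K

@[simp] theorem mulE_apply (f x : K) : mulE k f x = f * x := rfl

theorem mulE_comm (f g : K) : mulE k f * mulE k g = mulE k g * mulE k f := by
  rw [← map_mul, ← map_mul, mul_comm]

/-- the hypothesis that every multiplication operator almost preserves `A` -/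
def AllE (A : Submodule k K) : Prop := ∀ f : K, InE A (mulE k f)

/-- the residue pairing on `K` -/
noncomputable def resK (A : Submodule k K) (f g : K) : k := res A (mulE k f) (mulE k g)

variable {A : Submodule k K}

theorem resK_add_left (hA : AllE A) (f f' g : K) :
    resK A (f + f') g = resK A f g + resK A f' g := by
  unfold resK
  rw [map_add]
  exact res_add_left A (hA f) (hA f') (hA g)

theorem resK_smul_left (hA : AllE A) (c : k) (f g : K) :
    resK A (c • f) g = c * resK A f g := by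
  unfold resK
  rw [map_smul]
  exact res_smul_left A c (hA f) (hA g)

theorem resK_add_right (hA : AllE A) (f g g' : K) :
    resK A f (g + g') = resK A f g + resK A f g' := by
  unfold resK
  rw [map_add]
  exact res_add_right A (hA f) (hA g) (hA g')

theorem resK_smul_right (hA : AllE A) (c : k) (f g : K) :
    resK A f (c • g) = c * resK A f g := by
  unfold resK
  rw [map_smul]
  exact res_smul_right A c (hA f) (hA g)

theorem resK_mul_right (hA : AllE A) (f g h : K) :
    resK A f (g * h) = resK A (f * g) h + resK A (f * h) g := by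
  unfold resK
  rw [map_mul, map_mul, map_mul]
  exact res_mul_right A (hA f) (hA g) (hA h) (mulE_comm f g) (mulE_comm f h)

theorem resK_algebraMap_right (f : K) (c : k) : resK A f (algebraMap k K c) = 0 := by
  unfold resK
  apply res_eq_zero_of_comm
  rw [AlgHom.commutes]
  exact (Algebra.commutes c (proj A)).symm

theorem resK_one_right (f : K) : resK A f 1 = 0 := by
  have := resK_algebraMap_right (A := A) f (1 : k)
  rwa [map_one] at this

/-- the `k`-dual of `K`, as a `K`-vector space -/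
def KD (k K : Type*) [Field k] [Field K] [Algebra k K] : Type _ := K →ₗ[k] k

noncomputable instance : AddCommGroup (KD k K) := inferInstanceAs (AddCommGroup (K →ₗ[k] k))
noncomputable instance : Module k (KD k K) := inferInstanceAs (Module k (K →ₗ[k] k))

/-- evaluation -/
def KD.ev (φ : KD k K) : K →ₗ[k] k := φ

noncomputable instance : SMul K (KD k K) :=
  ⟨fun a φ => (φ.ev).comp (LinearMap.mulLeft k a)⟩

theorem KD.smul_ev (a : K) (φ : KD k K) (f : K) : (a • φ).ev f = φ.ev (a * f) := rfl

theorem KD.add_ev (φ ψ : KD k K) (f : K) : (φ + ψ).ev f = φ.ev f + ψ.ev f := rfl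

theorem KD.ksmul_ev (c : k) (φ : KD k K) (f : K) : (c • φ).ev f = c * φ.ev f := rfl

@[ext] theorem KD.ext {φ ψ : KD k K} (h : ∀ f, φ.ev f = ψ.ev f) : φ = ψ := LinearMap.ext h

noncomputable instance : Module K (KD k K) where
  one_smul φ := by ext f; rw [KD.smul_ev, one_mul]
  mul_smul a b φ := by
    ext f; rw [KD.smul_ev, KD.smul_ev, KD.smul_ev, mul_comm a b, mul_assoc]
  smul_zero a := by ext f; rfl
  smul_add a φ ψ := by ext f; rfl
  add_smul a b φ := by
    ext f
    rw [KD.smul_ev, KD.add_ev, KD.smul_ev, KD.smul_ev, add_mul, map_add]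
  zero_smul φ := by
    ext f
    rw [KD.smul_ev, zero_mul, map_zero]
    rfl

instance : IsScalarTower k K (KD k K) where
  smul_assoc c a φ := by
    ext f
    rw [KD.smul_ev, KD.ksmul_ev, KD.smul_ev, smul_mul_assoc, map_smul, smul_eq_mul]

/-- the residue derivation -/
noncomputable def resDer (A : Submodule k K) (hA : AllE A) : Derivation k K (KD k K) where
  toFun g :=
    ({ toFun := fun f => resK A f g
       map_add' := fun f f' => resK_add_left hA f f' g
       map_smul' := fun c f => resK_smul_left hA c f g } : K →ₗ[k] k)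
  map_add' g g' := by
    ext f
    exact resK_add_right hA f g g'
  map_smul' c g := by
    ext f
    exact resK_smul_right hA c f g
  map_one_eq_zero' := by
    ext f
    exact resK_one_right f
  leibniz' g h := by
    ext f
    change resK A f (g * h) = resK A (g * f) h + resK A (h * f) g
    rw [resK_mul_right hA, mul_comm f g, mul_comm f h]

theorem resDer_ev (A : Submodule k K) (hA : AllE A) (f g : K) :
    (resDer A hA g).ev f = resK A f g := rfl

/-- the residue functional on Kähler differentials -/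
noncomputable def resΩ (A : Submodule k K) (hA : AllE A) : Ω[K⁄k] →ₗ[k] k where
  toFun ω := ((resDer A hA).liftKaehlerDifferential ω).ev 1
  map_add' ω ω' := by rw [map_add]; rfl
  map_smul' c ω := by
    rw [← algebraMap_smul K c ω, map_smul, algebraMap_smul]
    rfl

theorem resΩ_smul_D (A : Submodule k K) (hA : AllE A) (f g : K) :
    resΩ A hA (f • KaehlerDifferential.D k K g) = resK A f g := by
  change ((resDer A hA).liftKaehlerDifferential (f • KaehlerDifferential.D k K g)).ev 1 = _
  rw [map_smul, Derivation.liftKaehlerDifferential_comp_D, KD.smul_ev, mul_one, resDer_ev]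

/-- extensionality for `k`-linear functionals on `Ω[K⁄k]` -/
theorem hom_ext_Ω {N : Type*} [AddCommGroup N] [Module k N] (φ ψ : Ω[K⁄k] →ₗ[k] N)
    (h : ∀ f g : K, φ (f • KaehlerDifferential.D k K g) = ψ (f • KaehlerDifferential.D k K g)) :
    φ = ψ := by
  refine LinearMap.ext fun ω => ?_
  have hω : ω ∈ Submodule.span K (Set.range (KaehlerDifferential.D k K)) := by
    rw [KaehlerDifferential.span_range_derivation]; trivial
  have key : ∀ f : K, φ (f • ω) = ψ (f • ω) := by
    induction hω using Submodule.span_induction with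
    | mem x hx =>
      obtain ⟨g, rfl⟩ := hx
      intro f
      exact h f g
    | zero => intro f; rw [smul_zero, map_zero, map_zero]
    | add x y _ _ hx hy => intro f; rw [smul_add, map_add, map_add, hx f, hy f]
    | smul a x _ hx => intro f; rw [smul_smul]; exact hx _
  have := key 1
  rwa [one_smul] at this

end Field

end Part5

section Part6


section Field

variable {k : Type*} {K : Type*} [Field k] [Field K] [Algebra k K]

theorem AllE.sup {A B : Submodule k K} (hA : AllE A) (hB : AllE B) : AllE (A ⊔ B) :=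
  fun f => InE.sup (hA f) (hB f)

theorem AllE.inf {A B : Submodule k K} (hA : AllE A) (hB : AllE B) : AllE (A ⊓ B) :=
  fun f => InE.inf (hA f) (hB f)

theorem inE_of_stable {A : Submodule k K} {f : K} (hf : ∀ a ∈ A, f * a ∈ A) :
    InE A (mulE k f) := by
  apply almostLE_of_le
  rintro _ ⟨a, ha, rfl⟩
  exact hf a ha

theorem resK_sup_inf (A B : Submodule k K) {f g : K} (hfA : InE A (mulE k f))
    (hfB : InE B (mulE k f)) (hgA : InE A (mulE k g)) (hgB : InE B (mulE k g)) :
    resK A f g + resK B f g = resK (A ⊔ B) f g + resK (A ⊓ B) f g :=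
  res_sup_inf A B hfA hfB hgA hgB (mulE_comm f g)

theorem resK_eq_zero_of_stable {A : Submodule k K} {f g : K} (hf : ∀ a ∈ A, f * a ∈ A)
    (hg : ∀ a ∈ A, g * a ∈ A) : resK A f g = 0 := by
  apply res_eq_zero_of_stable
  · rintro _ ⟨a, ha, rfl⟩; exact hf a ha
  · rintro _ ⟨a, ha, rfl⟩; exact hg a ha

theorem resK_eq_zero_of_cofinite {A : Submodule k K} (h : AlmostLE ⊤ A) {f g : K}
    (hf : InE A (mulE k f)) (hg : InE A (mulE k g)) : resK A f g = 0 :=
  res_eq_zero_of_cofinite A h hf hg (mulE_comm f g)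

theorem resK_eq_zero_of_finiteDimensional {A : Submodule k K} [FiniteDimensional k A] {f g : K}
    (hf : InE A (mulE k f)) (hg : InE A (mulE k g)) : resK A f g = 0 :=
  res_eq_zero_of_finiteDimensional A hf hg (mulE_comm f g)

theorem resΩ_sup_inf {A B : Submodule k K} (hA : AllE A) (hB : AllE B) :
    resΩ A hA + resΩ B hB = resΩ (A ⊔ B) (AllE.sup hA hB) + resΩ (A ⊓ B) (AllE.inf hA hB) := by
  apply hom_ext_Ω
  intro f g
  rw [LinearMap.add_apply, LinearMap.add_apply, resΩ_smul_D, resΩ_smul_D, resΩ_smul_D,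
    resΩ_smul_D]
  exact resK_sup_inf A B (hA f) (hB f) (hA g) (hB g)

theorem resΩ_eq_zero_of_cofinite {A : Submodule k K} (hA : AllE A) (h : AlmostLE ⊤ A) :
    resΩ A hA = 0 := by
  apply hom_ext_Ω
  intro f g
  rw [resΩ_smul_D, LinearMap.zero_apply]
  exact resK_eq_zero_of_cofinite h (hA f) (hA g)

theorem resΩ_eq_zero_of_finiteDimensional {A : Submodule k K} (hA : AllE A)
    [FiniteDimensional k A] : resΩ A hA = 0 := by
  apply hom_ext_Ω
  intro f g
  rw [resΩ_smul_D, LinearMap.zero_apply]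
  exact resK_eq_zero_of_finiteDimensional (hA f) (hA g)

/-- the local computation: `res (u⁻¹ du) = 1` -/
theorem resK_inv_self {A : Submodule k K} {u : K} (hu : u ≠ 0) (hone : (1 : K) ∈ A)
    (huA : ∀ a ∈ A, u * a ∈ A) (hne : ∀ a ∈ A, u * a ≠ 1)
    (hsplit : ∀ a ∈ A, ∃ c : k, ∃ a' ∈ A, a = algebraMap k K c + u * a') :
    resK A u⁻¹ u = 1 := by
  unfold resK
  refine res_eq_one A ?_ ?_ ?_ (1 : K) hone ?_ ?_
  · rw [← map_mul, inv_mul_cancel₀ hu, map_one]
  · rw [← map_mul, mul_inv_cancel₀ hu, map_one]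
  · rintro _ ⟨a, ha, rfl⟩; exact huA a ha
  · rintro ⟨a, ha, e⟩; exact hne a ha e
  · intro a ha
    obtain ⟨c, a', ha', e⟩ := hsplit a ha
    refine ⟨c, a', ha', ?_⟩
    rw [e, mulE_apply, Algebra.smul_def, mul_one, add_sub_cancel_left]

/-- `res (h u⁻¹ du) = h(x)` -/
theorem resK_mul_inv {A : Submodule k K} (hA : AllE A) {u : K} (hu : u ≠ 0) (hone : (1 : K) ∈ A)
    (hmul : ∀ a ∈ A, ∀ b ∈ A, a * b ∈ A) (huA : u ∈ A) (hne : ∀ a ∈ A, u * a ≠ 1)
    (hsplit : ∀ a ∈ A, ∃ c : k, ∃ a' ∈ A, a = algebraMap k K c + u * a')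
    {h : K} (c : k) {h₁ : K} (hh₁ : h₁ ∈ A) (e : h = algebraMap k K c + u * h₁) :
    resK A (h * u⁻¹) u = c := by
  have e' : h * u⁻¹ = c • u⁻¹ + h₁ := by
    rw [e, add_mul, Algebra.smul_def, mul_comm u h₁, mul_assoc, mul_inv_cancel₀ hu, mul_one]
  rw [e', resK_add_left hA, resK_smul_left hA,
    resK_inv_self hu hone (fun a ha => hmul u huA a ha) hne hsplit, mul_one,
    resK_eq_zero_of_stable (fun a ha => hmul h₁ hh₁ a ha) (fun a ha => hmul u huA a ha), add_zero]

/-- if `A` is stable under multiplication by its own elements, `K` is generated by fractions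
and `A / bA` is finite dimensional for `b ≠ 0` in `A`, every multiplication almost preserves `A` -/
theorem allE_of_fractions {A : Submodule k K} (hmul : ∀ a ∈ A, ∀ b ∈ A, a * b ∈ A)
    (hfrac : ∀ f : K, ∃ a ∈ A, ∃ b ∈ A, b ≠ 0 ∧ f = a * b⁻¹)
    (hfin : ∀ b ∈ A, b ≠ 0 → AlmostLE A (A.map (mulE k b))) : AllE A := by
  intro f
  obtain ⟨a, ha, b, hb, hb0, rfl⟩ := hfrac f
  rw [map_mul]
  refine InE.mul (inE_of_stable (hmul a ha)) ?_
  have := AlmostLE.map (mulE k b⁻¹) (hfin b hb hb0)
  have e : (A.map (mulE k b)).map (mulE k b⁻¹) = A := by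
    rw [← map_mul_eq, ← map_mul, inv_mul_cancel₀ hb0, map_one]
    exact Submodule.map_id A
  rwa [e] at this

end Field

end Part6

end Groth.Agent.Lib.R2H1.TateRes
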