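import Mathlib
import Groth.Agent.Lib.R2H1TateRes
set_option backward.isDefEq.respectTransparency.types false

/-!
# Tate residues at a DVR (helper1, round 2): pure algebra

finrank_range_le_of_ker_le, almostLE_top_of_directed (directed unions of bounded codimension), imgR k R K (image of
a DVR R in its fraction field K as a k-subspace), exists_split, allE_imgR (every multiplication almost preserves imgR when
the residue field is k), resK_imgR_inv_self (res(dϖ/ϖ) = 1), resK_imgR_mul_inv (res(h dϖ/ϖ) = h(x)),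
resK_imgR_eq_zero.
-/

set_option autoImplicit false
set_option linter.style.haveILetI false
set_option linter.unusedSectionVars false
universe u v

open CategoryTheory CategoryTheory.Limits AlgebraicGeometry TopologicalSpace Opposite

namespace Groth.Agent.Lib.R2H1.TateDVR

section Part1

open Groth.Agent.Lib.R2H1.TateRes

section LinAlg

variable {k : Type*} [Field k]

/-- a map killing the kernel of a map to a finite dimensional space has small range -/
theorem finrank_range_le_of_ker_le {M P H : Type*} [AddCommGroup M] [Module k M] [AddCommGroup P]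
    [Module k P] [AddCommGroup H] [Module k H] [FiniteDimensional k H] (φ : M →ₗ[k] P)
    (δ : M →ₗ[k] H) (h : LinearMap.ker δ ≤ LinearMap.ker φ) :
    FiniteDimensional k (LinearMap.range φ) ∧
      Module.finrank k (LinearMap.range φ) ≤ Module.finrank k H := by
  let ψ : (M ⧸ LinearMap.ker δ) →ₗ[k] P := (LinearMap.ker δ).liftQ φ h
  have hr : LinearMap.range ψ = LinearMap.range φ := Submodule.range_liftQ _ _ _
  haveI : FiniteDimensional k (M ⧸ LinearMap.ker δ) :=
    Module.Finite.equiv (LinearMap.quotKerEquivRange δ).symm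
  have h1 : Module.finrank k (M ⧸ LinearMap.ker δ) ≤ Module.finrank k H := by
    rw [(LinearMap.quotKerEquivRange δ).finrank_eq]
    exact Submodule.finrank_le _
  rw [← hr]
  exact ⟨inferInstance, (LinearMap.finrank_range_le ψ).trans h1⟩

/-- a directed union of subspaces of bounded dimension modulo `N` exhausting everything shows
that `N` has finite codimension -/
theorem almostLE_top_of_directed {V : Type*} [AddCommGroup V] [Module k V] {ι : Type*}
    [Nonempty ι] (N : Submodule k V) (C : ι → Submodule k V) (g : ℕ)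
    (hdir : ∀ i j, ∃ l, C i ≤ C l ∧ C j ≤ C l) (hcov : ∀ v : V, ∃ i, v ∈ C i)
    (hbd : ∀ i, FiniteDimensional k ((C i).map N.mkQ) ∧
      Module.finrank k ((C i).map N.mkQ) ≤ g) : AlmostLE ⊤ N := by
  classical
  -- choose an index of maximal rank
  have hex : ∃ n, ∃ i, Module.finrank k ((C i).map N.mkQ) = n := ⟨_, Classical.arbitrary ι, rfl⟩
  have hbdd : ∀ n, (∃ i, Module.finrank k ((C i).map N.mkQ) = n) → n ≤ g := by
    rintro n ⟨i, rfl⟩; exact (hbd i).2
  obtain ⟨i₀, hi₀⟩ := Nat.findGreatest_spec (P := fun n => ∃ i, Module.finrank k ((C i).map N.mkQ) = n)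
    (hbdd _ hex.choose_spec) hex.choose_spec
  set m := Nat.findGreatest (fun n => ∃ i, Module.finrank k ((C i).map N.mkQ) = n) g with hm
  have hmax : ∀ i, Module.finrank k ((C i).map N.mkQ) ≤ m := fun i =>
    Nat.le_findGreatest (hbd i).2 ⟨i, rfl⟩
  have hle : ∀ i, (C i).map N.mkQ ≤ (C i₀).map N.mkQ := by
    intro i
    obtain ⟨l, h1, h2⟩ := hdir i₀ i
    haveI := (hbd l).1
    have e : (C i₀).map N.mkQ = (C l).map N.mkQ := by
      apply Submodule.eq_of_le_of_finrank_le (Submodule.map_mono h1)
      rw [hi₀]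
      exact hmax l
    rw [e]
    exact Submodule.map_mono h2
  apply almostLE_of_finiteDimensional_map
  haveI := (hbd i₀).1
  apply Submodule.finiteDimensional_of_le (S₂ := (C i₀).map N.mkQ)
  rintro _ ⟨v, -, rfl⟩
  obtain ⟨i, hi⟩ := hcov v
  exact hle i ⟨v, hi, rfl⟩

end LinAlg

section DVR

variable (k R K : Type*) [Field k] [CommRing R] [IsDomain R] [IsDiscreteValuationRing R]
  [Field K] [Algebra k R] [Algebra k K] [Algebra R K] [IsScalarTower k R K] [IsFractionRing R K]

/-- the image of `R` in `K` -/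
def imgR : Submodule k K := LinearMap.range (IsScalarTower.toAlgHom k R K).toLinearMap

variable {k R K}

theorem mem_imgR {f : K} : f ∈ imgR k R K ↔ ∃ r : R, algebraMap R K r = f := Iff.rfl

theorem algebraMap_mem_imgR (r : R) : algebraMap R K r ∈ imgR k R K := ⟨r, rfl⟩

theorem imgR_mul {a b : K} (ha : a ∈ imgR k R K) (hb : b ∈ imgR k R K) : a * b ∈ imgR k R K := by
  obtain ⟨r, rfl⟩ := ha
  obtain ⟨s, rfl⟩ := hb
  exact ⟨r * s, map_mul (algebraMap R K) r s⟩

theorem one_mem_imgR : (1 : K) ∈ imgR k R K := ⟨1, map_one (algebraMap R K)⟩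

/-- splitting off the residue class -/
theorem exists_split (hres : Function.Surjective (algebraMap k (IsLocalRing.ResidueField R)))
    {ϖ : R} (hϖ : Irreducible ϖ) (r : R) :
    ∃ c : k, IsLocalRing.residue R r = algebraMap k _ c ∧
      ∃ r' : R, r = algebraMap k R c + ϖ * r' := by
  obtain ⟨c, hc⟩ := hres (IsLocalRing.residue R r)
  refine ⟨c, hc.symm, ?_⟩
  have h1 : r - algebraMap k R c ∈ IsLocalRing.maximalIdeal R := by
    rw [← IsLocalRing.residue_eq_zero_iff, map_sub, ← hc]
    exact sub_eq_zero.2 rfl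
  rw [hϖ.maximalIdeal_eq, Ideal.mem_span_singleton'] at h1
  obtain ⟨r', hr'⟩ := h1
  exact ⟨r', by rw [mul_comm, hr']; ring⟩

theorem imgR_split (hres : Function.Surjective (algebraMap k (IsLocalRing.ResidueField R)))
    {ϖ : R} (hϖ : Irreducible ϖ) :
    ∀ a ∈ imgR k R K, ∃ c : k, ∃ a' ∈ imgR k R K,
      a = algebraMap k K c + algebraMap R K ϖ * a' := by
  rintro _ ⟨r, rfl⟩
  obtain ⟨c, -, r', hr'⟩ := exists_split hres hϖ r
  refine ⟨c, algebraMap R K r', ⟨r', rfl⟩, ?_⟩
  change algebraMap R K r = _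
  rw [hr', map_add, map_mul, ← IsScalarTower.algebraMap_apply]

theorem algebraMap_ne_zero' {r : R} (hr : r ≠ 0) : algebraMap R K r ≠ 0 := by
  intro h
  exact hr ((IsFractionRing.injective R K) (by rw [h, map_zero]))

theorem uniformizer_mul_ne_one {ϖ : R} (hϖ : Irreducible ϖ) :
    ∀ a ∈ imgR k R K, algebraMap R K ϖ * a ≠ 1 := by
  rintro _ ⟨r, rfl⟩ h
  change algebraMap R K ϖ * algebraMap R K r = 1 at h
  rw [← map_mul, ← map_one (algebraMap R K)] at h
  have := (IsFractionRing.injective R K) h
  exact hϖ.not_isUnit (IsUnit.of_mul_eq_one _ this)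

/-- every multiplication operator almost preserves the image of a DVR with residue field `k` -/
theorem allE_imgR (hres : Function.Surjective (algebraMap k (IsLocalRing.ResidueField R))) :
    AllE (imgR k R K) := by
  obtain ⟨ϖ, hϖ⟩ := IsDiscreteValuationRing.exists_irreducible R
  set u : K := algebraMap R K ϖ with hu
  have hstep : AlmostLE (imgR k R K) ((imgR k R K).map (mulE k u)) := by
    refine ⟨Submodule.span k {(1 : K)}, inferInstance, ?_⟩
    intro a ha
    obtain ⟨c, a', ha', e⟩ := imgR_split hres hϖ a ha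
    rw [e, add_comm]
    refine Submodule.add_mem_sup ⟨a', ha', rfl⟩ ?_
    rw [Algebra.algebraMap_eq_smul_one]
    exact Submodule.smul_mem _ c (Submodule.mem_span_singleton_self 1)
  have hpow : ∀ n : ℕ, AlmostLE (imgR k R K) ((imgR k R K).map (mulE k (u ^ n))) := by
    intro n
    induction n with
    | zero =>
      rw [pow_zero, map_one]
      exact almostLE_of_le (by rw [Module.End.one_eq_id, Submodule.map_id])
    | succ n ih =>
      refine ih.trans ?_
      have := AlmostLE.map (mulE k (u ^ n)) hstep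
      rwa [← map_mul_eq, ← map_mul, ← pow_succ] at this
  apply allE_of_fractions
  · intro a ha b hb; exact imgR_mul ha hb
  · intro f
    obtain ⟨x, y, hy, rfl⟩ := IsFractionRing.div_surjective (A := R) f
    exact ⟨_, algebraMap_mem_imgR x, _, algebraMap_mem_imgR y,
      algebraMap_ne_zero' (nonZeroDivisors.ne_zero hy), div_eq_mul_inv _ _⟩
  · rintro _ ⟨b, rfl⟩ hb0
    change algebraMap R K b ≠ 0 at hb0
    have hb : b ≠ 0 := by rintro rfl; exact hb0 (map_zero _)
    obtain ⟨n, v, hv⟩ := IsDiscreteValuationRing.eq_unit_mul_pow_irreducible hb hϖ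
    refine (hpow n).mono_right ?_
    change (imgR k R K).map (mulE k (u ^ n)) ≤ (imgR k R K).map (mulE k (algebraMap R K b))
    rintro _ ⟨_, ⟨r, rfl⟩, rfl⟩
    refine ⟨algebraMap R K ((↑v⁻¹ : R) * r), ⟨_, rfl⟩, ?_⟩
    change algebraMap R K b * algebraMap R K ((↑v⁻¹ : R) * r) = u ^ n * algebraMap R K r
    rw [hv, hu, ← map_pow, ← map_mul, ← map_mul]
    congr 1
    have : (v : R) * (↑v⁻¹ : R) = 1 := Units.mul_inv v
    calc (v : R) * ϖ ^ n * ((↑v⁻¹ : R) * r) = ((v : R) * (↑v⁻¹ : R)) * (ϖ ^ n * r) := by ring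
      _ = ϖ ^ n * r := by rw [this, one_mul]

/-- `res (ϖ⁻¹ dϖ) = 1` -/
theorem resK_imgR_inv_self (hres : Function.Surjective (algebraMap k (IsLocalRing.ResidueField R)))
    {ϖ : R} (hϖ : Irreducible ϖ) :
    resK (imgR k R K) (algebraMap R K ϖ)⁻¹ (algebraMap R K ϖ) = 1 :=
  resK_inv_self (algebraMap_ne_zero' hϖ.ne_zero) one_mem_imgR
    (fun a ha => imgR_mul (algebraMap_mem_imgR ϖ) ha) (uniformizer_mul_ne_one hϖ)
    (imgR_split hres hϖ)

/-- `res (h ϖ⁻¹ dϖ) = h(x)` -/
theorem resK_imgR_mul_inv (hres : Function.Surjective (algebraMap k (IsLocalRing.ResidueField R)))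
    {ϖ : R} (hϖ : Irreducible ϖ) (h : R) (c : k)
    (hc : IsLocalRing.residue R h = algebraMap k _ c) :
    resK (imgR k R K) (algebraMap R K h * (algebraMap R K ϖ)⁻¹) (algebraMap R K ϖ) = c := by
  obtain ⟨c', hc', r', hr'⟩ := exists_split hres hϖ h
  have hcc : c' = c := by
    have : algebraMap k (IsLocalRing.ResidueField R) c' = algebraMap k _ c := by rw [← hc', hc]
    exact (algebraMap k (IsLocalRing.ResidueField R)).injective this
  subst hcc
  refine resK_mul_inv (allE_imgR hres) (algebraMap_ne_zero' hϖ.ne_zero) one_mem_imgR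
    (fun a ha b hb => imgR_mul ha hb) (algebraMap_mem_imgR ϖ) (uniformizer_mul_ne_one hϖ)
    (imgR_split hres hϖ) c' (algebraMap_mem_imgR r') ?_
  rw [hr', map_add, map_mul, ← IsScalarTower.algebraMap_apply]

/-- the residue of a pair of regular functions vanishes -/
theorem resK_imgR_eq_zero (f g : R) :
    resK (imgR k R K) (algebraMap R K f) (algebraMap R K g) = 0 :=
  resK_eq_zero_of_stable (fun a ha => imgR_mul (algebraMap_mem_imgR f) ha)
    (fun a ha => imgR_mul (algebraMap_mem_imgR g) ha)

end DVR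

end Part1

end Groth.Agent.Lib.R2H1.TateDVR
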