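import Mathlib
import Groth.Prelude
import Groth.Agent.Lib.R2H1TateRes
import Groth.Agent.Lib.R2H1TateDVR
import Groth.Agent.Lib.R2H1MVDelta
import Groth.Agent.Lib.R2H1VBEndo
import Groth.Agent.Lib.R2H1PointTwist
import Groth.Agent.Lib.R2H1GenusLe
import Groth.Agent.Lib.R2H1ZeroDimCoh
import Groth.Agent.Lib.R2H1EulerAdd
import Groth.Agent.Lib.R2H1CurveEuler
set_option backward.isDefEq.respectTransparency.types false

/-!
# Residues on a regular proper curve over an algebraically closed field (helper1, round 2)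

K = X.functionField as a k-algebra (Curv2.stalkAlgebra); Ox k X x (functions regular at x, a k-subspace of K),
BU k X U (functions regular on U) with exists_of_mem_BU (gluing) / germ_mem_BU, OS k X S; residue_surjective, allE_Ox,
resx (the residue functional at a closed point on Ω[K/k]) with resx_smul_D, resx_eq_zero_of_mem, resx_dlog
(res(dϖ/ϖ)=1); algΓU, germL, range_germL, finiteDimensional_BU_top; mvL, almostLE_top_OS_sup_BU (O_S + Γ(X∖S) has
finite codimension in K, from finiteness of H^1(O_X) and Mayer-Vietoris); resK_OS_eq_zero, genericPoint_ne_of_closed,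
compl1, compl2, resK_one_point, resK_two_point (residue theorems); ΩB k X U (differentials generated by functions
regular on U), resx_eq_zero_of_mem_ΩB, resx_one_point, resx_two_point.
-/

set_option autoImplicit false
set_option linter.style.haveILetI false
set_option linter.unusedSectionVars false
universe u v

open CategoryTheory CategoryTheory.Limits AlgebraicGeometry TopologicalSpace Opposite

namespace Groth.Agent.Lib.R2H1.CurveRes

section Part1

open Groth.Agent.Lib.R2H1.TateRes Groth.Agent.Lib.R2H1.TateDVR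

section Defs

variable (k : Type u) [Field k] (X : Scheme.{u}) [X.Over (Spec (CommRingCat.of k))] [IsIntegral X]

attribute [local instance] Curv2.stalkAlgebra

theorem genericPoint_mem {U : X.Opens} {x : X} (hx : x ∈ U) : genericPoint X ∈ U :=
  ((genericPoint_spec X).mem_open_set_iff U.isOpen).mpr ⟨x, trivial, hx⟩

instance isScalarTower_stalk (x : X) :
    IsScalarTower k (X.presheaf.stalk x) X.functionField := by
  apply IsScalarTower.of_algebraMap_eq'
  simp only [RingHom.algebraMap_toAlgebra]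
  unfold Curv2.stalkMap
  rw [← RingHom.comp_assoc]
  congr 1
  rw [← CommRingCat.hom_comp, X.presheaf.germ_stalkSpecializes]

/-- the functions regular at `x`, as a `k`-subspace of the function field -/
noncomputable def Ox (x : X) : Submodule k X.functionField :=
  imgR k (X.presheaf.stalk x) X.functionField

theorem mem_Ox_iff {x : X} {f : X.functionField} :
    f ∈ Ox k X x ↔ ∃ (V : X.Opens) (hx : x ∈ V) (a : Γ(X, V)),
      X.presheaf.germ V (genericPoint X) (genericPoint_mem X hx) a = f := by
  constructor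
  · rintro ⟨s, rfl⟩
    obtain ⟨V, hx, a, rfl⟩ := X.presheaf.exists_germ_eq s
    refine ⟨V, hx, a, ?_⟩
    change _ = (X.presheaf.stalkSpecializes _).hom (X.presheaf.germ V x hx a)
    rw [← CommRingCat.comp_apply, X.presheaf.germ_stalkSpecializes]
  · rintro ⟨V, hx, a, rfl⟩
    refine ⟨X.presheaf.germ V x hx a, ?_⟩
    change (X.presheaf.stalkSpecializes _).hom (X.presheaf.germ V x hx a) = _
    rw [← CommRingCat.comp_apply, X.presheaf.germ_stalkSpecializes]

/-- the functions regular on `U`, as a `k`-subspace of the function field -/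
noncomputable def BU (U : X.Opens) : Submodule k X.functionField :=
  ⨅ (x : X) (_ : x ∈ U), Ox k X x

theorem mem_BU_iff {U : X.Opens} {f : X.functionField} :
    f ∈ BU k X U ↔ ∀ x ∈ U, f ∈ Ox k X x := by
  unfold BU
  simp only [Submodule.mem_iInf]

theorem BU_le_Ox {U : X.Opens} {x : X} (hx : x ∈ U) : BU k X U ≤ Ox k X x :=
  fun _ hf => (mem_BU_iff k X).1 hf x hx

theorem BU_anti {U V : X.Opens} (h : V ≤ U) : BU k X U ≤ BU k X V :=
  fun _ hf => (mem_BU_iff k X).2 fun x hx => (mem_BU_iff k X).1 hf x (h hx)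

theorem germ_mem_BU {U : X.Opens} (hη : genericPoint X ∈ U) (a : Γ(X, U)) :
    X.presheaf.germ U (genericPoint X) hη a ∈ BU k X U :=
  (mem_BU_iff k X).2 fun x hx => (mem_Ox_iff k X).2 ⟨U, hx, a, rfl⟩

/-- gluing: a rational function regular at every point of `U` is a section over `U` -/
theorem exists_of_mem_BU {U : X.Opens} (hη : genericPoint X ∈ U) {f : X.functionField}
    (hf : f ∈ BU k X U) : ∃ a : Γ(X, U), X.presheaf.germ U (genericPoint X) hη a = f := by
  have h1 : ∀ x : U, ∃ (V : X.Opens) (hx : x.1 ∈ V) (hVU : V ≤ U) (a : Γ(X, V)),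
      X.presheaf.germ V (genericPoint X) (genericPoint_mem X hx) a = f := by
    intro x
    obtain ⟨V, hx, a, ha⟩ := (mem_Ox_iff k X).1 ((mem_BU_iff k X).1 hf x.1 x.2)
    refine ⟨V ⊓ U, ⟨hx, x.2⟩, inf_le_right, X.presheaf.map (homOfLE inf_le_left).op a, ?_⟩
    rw [← ha]
    exact X.presheaf.germ_res_apply (homOfLE inf_le_left) (genericPoint X) _ a
  choose V hxV hVU a ha using h1
  have hcompat : TopCat.Presheaf.IsCompatible X.presheaf V a := by
    intro x y
    have hη' : genericPoint X ∈ V x ⊓ V y :=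
      ⟨genericPoint_mem X (hxV x), genericPoint_mem X (hxV y)⟩
    apply germ_injective_of_isIntegral X (genericPoint X) hη'
    rw [X.presheaf.germ_res_apply, X.presheaf.germ_res_apply, ha, ha]
  have hcov : U ≤ ⨆ x, V x := fun x hx => Opens.mem_iSup.2 ⟨⟨x, hx⟩, hxV ⟨x, hx⟩⟩
  obtain ⟨s, hs, -⟩ := X.sheaf.existsUnique_gluing' V U (fun x => homOfLE (hVU x)) hcov a hcompat
  refine ⟨s, ?_⟩
  obtain ⟨x₀⟩ : Nonempty U := ⟨⟨_, hη⟩⟩
  rw [← ha x₀, ← hs x₀]
  exact (X.presheaf.germ_res_apply (homOfLE (hVU x₀)) (genericPoint X) _ s).symm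

end Defs

end Part1

section Part2

open Groth.Agent.Lib.R2H1.TateRes Groth.Agent.Lib.R2H1.TateDVR

section Local

variable (k : Type u) [Field k] [IsAlgClosed k] (X : Scheme.{u}) [X.Over (Spec (CommRingCat.of k))]
  [IsIntegral X] [IsProper (X ↘ (Spec (CommRingCat.of k)))]

attribute [local instance] Curv2.stalkAlgebra

/-- the residue field at a closed point is `k` -/
theorem residue_surjective (x : X) (hx : IsClosed ({x} : Set X)) :
    Function.Surjective (algebraMap k (IsLocalRing.ResidueField (X.presheaf.stalk x))) :=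
  (Groth.Agent.Lib.R2H1.VBEndo.resMap_bijective k (X ↘ (Spec (CommRingCat.of k))) x hx).2

variable (hdim : topologicalKrullDim X = 1)
  (hreg : ∀ x : X, IsRegularLocalRing (X.presheaf.stalk x))

include hdim hreg in
theorem allE_Ox (x : X) (hx : IsClosed ({x} : Set X)) : AllE (Ox k X x) := by
  haveI := Groth.Agent.Lib.R2H1.PointTwist.isDVR_of_closed k X hdim hreg x hx
  exact allE_imgR (residue_surjective k X x hx)

/-- the residue at a closed point, as a functional on the Kähler differentials of the function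
field -/
noncomputable def resx (x : X) (hx : IsClosed ({x} : Set X)) : Ω[X.functionField⁄k] →ₗ[k] k :=
  resΩ (Ox k X x) (allE_Ox k X hdim hreg x hx)

theorem resx_smul_D (x : X) (hx : IsClosed ({x} : Set X)) (f g : X.functionField) :
    resx k X hdim hreg x hx (f • KaehlerDifferential.D k X.functionField g) =
      resK (Ox k X x) f g :=
  resΩ_smul_D _ _ f g

/-- the residue of a differential regular at `x` vanishes -/
theorem resx_eq_zero_of_mem (x : X) (hx : IsClosed ({x} : Set X)) {f g : X.functionField}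
    (hf : f ∈ Ox k X x) (hg : g ∈ Ox k X x) :
    resx k X hdim hreg x hx (f • KaehlerDifferential.D k X.functionField g) = 0 := by
  rw [resx_smul_D]
  haveI := Groth.Agent.Lib.R2H1.PointTwist.isDVR_of_closed k X hdim hreg x hx
  obtain ⟨a, rfl⟩ := hf
  obtain ⟨b, rfl⟩ := hg
  exact resK_imgR_eq_zero a b

/-- `res_x (dϖ/ϖ) = 1` for a uniformizer `ϖ` -/
theorem resx_dlog (x : X) (hx : IsClosed ({x} : Set X)) (ϖ : X.presheaf.stalk x)
    (hϖ : Irreducible ϖ) :
    resx k X hdim hreg x hx ((algebraMap (X.presheaf.stalk x) X.functionField ϖ)⁻¹ •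
      KaehlerDifferential.D k X.functionField
        (algebraMap (X.presheaf.stalk x) X.functionField ϖ)) = 1 := by
  rw [resx_smul_D]
  haveI := Groth.Agent.Lib.R2H1.PointTwist.isDVR_of_closed k X hdim hreg x hx
  exact resK_imgR_inv_self (residue_surjective k X x hx) hϖ

end Local

end Part2

section Part3

open Groth.Agent.Lib.R2H1.TateRes Groth.Agent.Lib.R2H1.TateDVR Groth.Agent.Lib.R2H1.MVDelta

section Global

variable (k : Type u) [Field k] (X : Scheme.{u}) [X.Over (Spec (CommRingCat.of k))]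
  [IsIntegral X]

attribute [local instance] Curv2.stalkAlgebra

/-- the `k`-algebra structure on sections -/
noncomputable def algΓU (U : X.Opens) : Algebra k Γ(X, U) :=
  ((X.presheaf.map (homOfLE (le_top : U ≤ ⊤)).op).hom.comp
    (Coh.toGlobal (X ↘ (Spec (CommRingCat.of k))))).toAlgebra

attribute [local instance] algΓU

theorem algebraMap_ΓU (U : X.Opens) (c : k) : algebraMap k Γ(X, U) c =
    X.presheaf.map (homOfLE (le_top : U ≤ ⊤)).op
      (Coh.toGlobal (X ↘ (Spec (CommRingCat.of k))) c) := rfl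

/-- the germ at the generic point as a `k`-linear map -/
noncomputable def germL (U : X.Opens) (hη : genericPoint X ∈ U) :
    Γ(X, U) →ₗ[k] X.functionField where
  toFun := X.presheaf.germ U (genericPoint X) hη
  map_add' := map_add _
  map_smul' c a := by
    rw [Algebra.smul_def, map_mul, RingHom.id_apply, Algebra.smul_def]
    congr 1
    exact X.presheaf.germ_res_apply (homOfLE le_top) (genericPoint X) hη _

theorem germL_apply (U : X.Opens) (hη : genericPoint X ∈ U) (a : Γ(X, U)) :
    germL k X U hη a = X.presheaf.germ U (genericPoint X) hη a := rfl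

theorem range_germL (U : X.Opens) (hη : genericPoint X ∈ U) :
    LinearMap.range (germL k X U hη) = BU k X U := by
  apply le_antisymm
  · rintro _ ⟨a, rfl⟩
    exact germ_mem_BU k X hη a
  · intro f hf
    obtain ⟨a, ha⟩ := exists_of_mem_BU k X hη hf
    exact ⟨a, ha⟩

theorem germL_res {U V : X.Opens} (h : V ≤ U) (hη : genericPoint X ∈ V) (a : Γ(X, U)) :
    germL k X V hη (X.presheaf.map (homOfLE h).op a) = germL k X U (h hη) a :=
  X.presheaf.germ_res_apply (homOfLE h) (genericPoint X) hη a

end Global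

section Proper

variable (k : Type u) [Field k] [IsAlgClosed k] (X : Scheme.{u})
  [X.Over (Spec (CommRingCat.of k))] [IsIntegral X] [IsProper (X ↘ (Spec (CommRingCat.of k)))]

attribute [local instance] Curv2.stalkAlgebra
attribute [local instance] algΓU

theorem finite_ΓTop : Module.Finite k Γ(X, ⊤) := by
  have h1 : (X ↘ (Spec (CommRingCat.of k))).appTop.hom.Finite :=
    finite_appTop_of_universallyClosed k (X ↘ (Spec (CommRingCat.of k)))
  have h2 : (Scheme.ΓSpecIso (CommRingCat.of k)).inv.hom.Finite :=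
    RingHom.Finite.of_surjective _
      (ConcreteCategory.bijective_of_isIso (Scheme.ΓSpecIso (CommRingCat.of k)).inv).2
  have h3 : (X.presheaf.map (homOfLE (le_top : (⊤ : X.Opens) ≤ ⊤)).op).hom.Finite := by
    apply RingHom.Finite.of_surjective
    intro a
    refine ⟨a, ?_⟩
    have : (homOfLE (le_top : (⊤ : X.Opens) ≤ ⊤)).op = 𝟙 _ := Subsingleton.elim _ _
    rw [this, X.presheaf.map_id]
    rfl
  exact (h3.comp (h1.comp h2))

theorem finiteDimensional_BU_top : FiniteDimensional k (BU k X ⊤) := by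
  rw [← range_germL k X ⊤ trivial]
  haveI := finite_ΓTop k X
  infer_instance

end Proper

end Part3

section Part4

open Groth.Agent.Lib.R2H1.TateRes Groth.Agent.Lib.R2H1.TateDVR Groth.Agent.Lib.R2H1.MVDelta

section Cofinite

variable (k : Type u) [Field k] [IsAlgClosed k] (X : Scheme.{u})
  [X.Over (Spec (CommRingCat.of k))] [IsIntegral X] [IsProper (X ↘ (Spec (CommRingCat.of k)))]

attribute [local instance] Curv2.stalkAlgebra
attribute [local instance] algΓU

/-- the functions regular along a set of points -/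
noncomputable def OS (S : Set X) : Submodule k X.functionField :=
  ⨅ (x : X) (_ : x ∈ S), Ox k X x

theorem mem_OS_iff {S : Set X} {f : X.functionField} :
    f ∈ OS k X S ↔ ∀ x ∈ S, f ∈ Ox k X x := by
  unfold OS
  simp only [Submodule.mem_iInf]

theorem BU_le_OS {U : X.Opens} {S : Set X} (h : S ⊆ U) : BU k X U ≤ OS k X S :=
  fun _ hf => (mem_OS_iff k X).2 fun x hx => (mem_BU_iff k X).1 hf x (h hx)

/-- the Mayer–Vietoris connecting map of the structure sheaf as a `k`-linear map -/
noncomputable def mvL (U₀ U₁ : X.Opens) (hcov : (⊤ : X.Opens) ≤ U₀ ⊔ U₁) :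
    Γ(X, U₀ ⊓ U₁) →ₗ[k] Coh.HH X (Coh.structureModule X) 1 where
  toFun := mvδM (Coh.structureModule X) U₀ U₁ hcov
  map_add' := map_add _
  map_smul' c s :=
    mvδM_smul (Coh.structureModule X) U₀ U₁ hcov
      (Coh.toGlobal (X ↘ (Spec (CommRingCat.of k))) c) s

variable (hdim : topologicalKrullDim X = 1)

include hdim in
/-- `O_S + Γ(X ∖ S)` has finite codimension in the function field -/
theorem almostLE_top_OS_sup_BU (U₁ : X.Opens) (hη₁ : genericPoint X ∈ U₁) :
    AlmostLE ⊤ (OS k X ((U₁ : Set X)ᶜ) ⊔ BU k X U₁) := by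
  haveI := Groth.Agent.Lib.R2H1.CurveEuler.isNoetherian_of_proper k X
  haveI : Module.Finite k (Coh.HH X (Coh.structureModule X) 1) :=
    Groth.Agent.Lib.R2H1.EulerAdd.finite_HH k X _
      (Groth.Agent.Lib.R2H1.GenusLe.isCoh_structureModule X) 1
  set N := OS k X ((U₁ : Set X)ᶜ) ⊔ BU k X U₁ with hN
  let ι := {U₀ : X.Opens // ((U₁ : Set X)ᶜ ⊆ (U₀ : Set X)) ∧ genericPoint X ∈ U₀}
  haveI : Nonempty ι := ⟨⟨⊤, fun _ _ => trivial, trivial⟩⟩
  refine almostLE_top_of_directed N (fun U₀ : ι => BU k X (U₀.1 ⊓ U₁))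
    (Module.finrank k (Coh.HH X (Coh.structureModule X) 1)) ?_ ?_ ?_
  · rintro ⟨U₀, h0, hη0⟩ ⟨U₀', h0', hη0'⟩
    refine ⟨⟨U₀ ⊓ U₀', fun x hx => ⟨h0 hx, h0' hx⟩, ⟨hη0, hη0'⟩⟩, ?_, ?_⟩
    · exact BU_anti k X (inf_le_inf_right _ inf_le_left)
    · exact BU_anti k X (inf_le_inf_right _ inf_le_right)
  · intro f
    obtain ⟨W, hηW, a, rfl⟩ := X.presheaf.exists_germ_eq f
    have hdense : Dense (W : Set X) := W.isOpen.dense ⟨_, hηW⟩
    have hZdim := Groth.Agent.Lib.R2H1.GenusLe.dim_compl_le_zero_of_dense X hdim.le W hdense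
    have hT : IsClosed ((W : Set X)ᶜ ∩ (U₁ : Set X)) :=
      Groth.Agent.Lib.R2H1.ZeroDimCoh.isClosed_of_subset_of_dim_le_zero _
        W.isOpen.isClosed_compl hZdim _ Set.inter_subset_left
    refine ⟨⟨⟨((W : Set X)ᶜ ∩ (U₁ : Set X))ᶜ, hT.isOpen_compl⟩, ?_, ?_⟩, ?_⟩
    · intro x hx hxT
      exact hx hxT.2
    · intro hT'
      exact hT'.1 hηW
    · refine BU_anti k X ?_ (germ_mem_BU k X hηW a)
      rintro x ⟨hx0, hx1⟩
      by_contra hxW
      exact hx0 ⟨hxW, hx1⟩
  · rintro ⟨U₀, h0, hη0⟩
    have hcov : (⊤ : X.Opens) ≤ U₀ ⊔ U₁ := by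
      intro x _
      by_cases hx : x ∈ U₁
      · exact Or.inr hx
      · exact Or.inl (h0 hx)
    have hη : genericPoint X ∈ U₀ ⊓ U₁ := ⟨hη0, hη₁⟩
    let φ : Γ(X, U₀ ⊓ U₁) →ₗ[k] (X.functionField ⧸ N) := N.mkQ ∘ₗ germL k X (U₀ ⊓ U₁) hη
    have hker : LinearMap.ker (mvL k X U₀ U₁ hcov) ≤ LinearMap.ker φ := by
      intro s hs
      rw [LinearMap.mem_ker] at hs ⊢
      obtain ⟨a, b, hab⟩ := (mvδM_eq_zero_iff (Coh.structureModule X) U₀ U₁ hcov s).1 hs
      let a' : Γ(X, U₀) := a
      let b' : Γ(X, U₁) := b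
      have hab' : s = X.presheaf.map (homOfLE (inf_le_left : U₀ ⊓ U₁ ≤ U₀)).op a' -
          X.presheaf.map (homOfLE (inf_le_right : U₀ ⊓ U₁ ≤ U₁)).op b' := hab
      change N.mkQ (germL k X (U₀ ⊓ U₁) hη s) = 0
      rw [Submodule.mkQ_apply, Submodule.Quotient.mk_eq_zero, hab', map_sub,
        germL_res k X inf_le_left hη a', germL_res k X inf_le_right hη b']
      refine Submodule.sub_mem_sup ?_ ?_
      · exact BU_le_OS k X h0 (germ_mem_BU k X hη0 a')
      · exact germ_mem_BU k X hη₁ b'
    have := finrank_range_le_of_ker_le φ (mvL k X U₀ U₁ hcov) hker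
    have hr : LinearMap.range φ = (BU k X (U₀ ⊓ U₁)).map N.mkQ := by
      rw [LinearMap.range_comp, range_germL]
    rw [hr] at this
    exact this

end Cofinite

end Part4

section Part5

open Groth.Agent.Lib.R2H1.TateRes Groth.Agent.Lib.R2H1.TateDVR
  Groth.Agent.Lib.R2H1.MVDelta

section ResThm

variable (k : Type u) [Field k] [IsAlgClosed k] (X : Scheme.{u})
  [X.Over (Spec (CommRingCat.of k))] [IsIntegral X] [IsProper (X ↘ (Spec (CommRingCat.of k)))]

attribute [local instance] Curv2.stalkAlgebra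

theorem Ox_mul {x : X} {a b : X.functionField} (ha : a ∈ Ox k X x) (hb : b ∈ Ox k X x) :
    a * b ∈ Ox k X x := by
  obtain ⟨r, rfl⟩ := ha
  obtain ⟨s, rfl⟩ := hb
  exact ⟨r * s, map_mul (algebraMap (X.presheaf.stalk x) X.functionField) r s⟩

theorem OS_mul {S : Set X} {a b : X.functionField} (ha : a ∈ OS k X S) (hb : b ∈ OS k X S) :
    a * b ∈ OS k X S :=
  (mem_OS_iff k X).2 fun x hx => Ox_mul k X ((mem_OS_iff k X).1 ha x hx) ((mem_OS_iff k X).1 hb x hx)

theorem BU_mul {U : X.Opens} {a b : X.functionField} (ha : a ∈ BU k X U) (hb : b ∈ BU k X U) :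
    a * b ∈ BU k X U :=
  (mem_BU_iff k X).2 fun x hx => Ox_mul k X ((mem_BU_iff k X).1 ha x hx) ((mem_BU_iff k X).1 hb x hx)

theorem OS_singleton (x : X) : OS k X {x} = Ox k X x := by
  ext f
  rw [mem_OS_iff]
  constructor
  · intro h; exact h x rfl
  · rintro h y rfl; exact h

theorem OS_pair (x y : X) : OS k X {x, y} = Ox k X x ⊓ Ox k X y := by
  ext f
  rw [mem_OS_iff, Submodule.mem_inf]
  constructor
  · intro h; exact ⟨h x (Set.mem_insert _ _), h y (Set.mem_insert_of_mem _ rfl)⟩
  · rintro ⟨h1, h2⟩ z hz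
    rcases hz with rfl | rfl
    · exact h1
    · exact h2

variable (hdim : topologicalKrullDim X = 1)

include hdim in
/-- the residue theorem for a closed set of points `S` not containing the generic point -/
theorem resK_OS_eq_zero (S : Set X) (hS : IsClosed S) (hηS : genericPoint X ∉ S)
    (hall : AllE (OS k X S)) {f g : X.functionField}
    (hf : f ∈ BU k X ⟨Sᶜ, hS.isOpen_compl⟩) (hg : g ∈ BU k X ⟨Sᶜ, hS.isOpen_compl⟩) :
    resK (OS k X S) f g = 0 := by
  set U₁ : X.Opens := ⟨Sᶜ, hS.isOpen_compl⟩ with hU₁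
  have hcof := almostLE_top_OS_sup_BU k X hdim U₁ hηS
  have hSS : ((U₁ : Set X)ᶜ) = S := compl_compl S
  rw [hSS] at hcof
  have hfB : InE (BU k X U₁) (mulE k f) := inE_of_stable fun a ha => BU_mul k X hf ha
  have hgB : InE (BU k X U₁) (mulE k g) := inE_of_stable fun a ha => BU_mul k X hg ha
  have h3 := resK_sup_inf (OS k X S) (BU k X U₁) (hall f) hfB (hall g) hgB
  have z1 : resK (BU k X U₁) f g = 0 :=
    resK_eq_zero_of_stable (fun a ha => BU_mul k X hf ha) (fun a ha => BU_mul k X hg ha)
  have z2 : resK (OS k X S ⊔ BU k X U₁) f g = 0 :=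
    resK_eq_zero_of_cofinite hcof (InE.sup (hall f) hfB) (InE.sup (hall g) hgB)
  have hle : OS k X S ⊓ BU k X U₁ ≤ BU k X ⊤ := by
    rintro a ⟨ha1, ha2⟩
    refine (mem_BU_iff k X).2 fun x _ => ?_
    by_cases hx : x ∈ S
    · exact (mem_OS_iff k X).1 ha1 x hx
    · exact (mem_BU_iff k X).1 ha2 x hx
  haveI := finiteDimensional_BU_top k X
  haveI : FiniteDimensional k ↥(OS k X S ⊓ BU k X U₁) := Submodule.finiteDimensional_of_le hle
  have z3 : resK (OS k X S ⊓ BU k X U₁) f g = 0 :=
    resK_eq_zero_of_finiteDimensional (InE.inf (hall f) hfB) (InE.inf (hall g) hgB)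
  rw [z1, z2, z3, add_zero, add_zero] at h3
  exact h3

variable (hreg : ∀ x : X, IsRegularLocalRing (X.presheaf.stalk x))

include k hdim hreg in
theorem genericPoint_ne_of_closed (x : X) (hx : IsClosed ({x} : Set X)) : genericPoint X ≠ x := by
  intro h
  subst h
  haveI := Groth.Agent.Lib.R2H1.PointTwist.isDVR_of_closed k X hdim hreg _ hx
  exact IsDiscreteValuationRing.not_isField (X.presheaf.stalk (genericPoint X))
    (Field.toIsField X.functionField)

/-- the complement of a closed point -/
def compl1 (x : X) (hx : IsClosed ({x} : Set X)) : X.Opens := ⟨{x}ᶜ, hx.isOpen_compl⟩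

/-- the complement of two closed points -/
def compl2 (x y : X) (hx : IsClosed ({x} : Set X)) (hy : IsClosed ({y} : Set X)) : X.Opens :=
  ⟨({x, y} : Set X)ᶜ, (by
    have : ({x, y} : Set X) = {x} ∪ {y} := Set.insert_eq x {y}
    rw [this]
    exact (hx.union hy).isOpen_compl)⟩

include hdim hreg in
/-- the one-point residue theorem -/
theorem resK_one_point (x : X) (hx : IsClosed ({x} : Set X)) {f g : X.functionField}
    (hf : f ∈ BU k X (compl1 X x hx)) (hg : g ∈ BU k X (compl1 X x hx)) :
    resK (Ox k X x) f g = 0 := by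
  have h := resK_OS_eq_zero k X hdim {x} hx
    (fun h => genericPoint_ne_of_closed k X hdim hreg x hx h)
    (by rw [OS_singleton]; exact allE_Ox k X hdim hreg x hx) hf hg
  rwa [OS_singleton] at h

include hdim hreg in
/-- the two-point residue theorem -/
theorem resK_two_point (x y : X) (hx : IsClosed ({x} : Set X)) (hy : IsClosed ({y} : Set X))
    (hxy : x ≠ y) {f g : X.functionField}
    (hf : f ∈ BU k X (compl2 X x y hx hy)) (hg : g ∈ BU k X (compl2 X x y hx hy)) :
    resK (Ox k X x) f g + resK (Ox k X y) f g = 0 := by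
  have hAx := allE_Ox k X hdim hreg x hx
  have hAy := allE_Ox k X hdim hreg y hy
  have h3 := resK_sup_inf (Ox k X x) (Ox k X y) (hAx f) (hAy f) (hAx g) (hAy g)
  -- the sum is cofinite
  have hcof : AlmostLE ⊤ (Ox k X x ⊔ Ox k X y) := by
    have h1 := almostLE_top_OS_sup_BU k X hdim (compl1 X x hx)
      (fun h => genericPoint_ne_of_closed k X hdim hreg x hx h)
    have hSS : (((compl1 X x hx : X.Opens) : Set X)ᶜ) = {x} := compl_compl _
    rw [hSS, OS_singleton] at h1
    refine h1.mono_right (sup_le_sup_left ?_ _)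
    exact BU_le_Ox k X (fun h => hxy h.symm)
  have z1 : resK (Ox k X x ⊔ Ox k X y) f g = 0 :=
    resK_eq_zero_of_cofinite hcof (InE.sup (hAx f) (hAy f)) (InE.sup (hAx g) (hAy g))
  have hcl : IsClosed ({x, y} : Set X) := by
    have : ({x, y} : Set X) = {x} ∪ {y} := Set.insert_eq x {y}
    rw [this]
    exact hx.union hy
  have z2 : resK (Ox k X x ⊓ Ox k X y) f g = 0 := by
    have h := resK_OS_eq_zero k X hdim {x, y} hcl
      (by
        rintro (h | h)
        · exact genericPoint_ne_of_closed k X hdim hreg x hx h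
        · exact genericPoint_ne_of_closed k X hdim hreg y hy h)
      (by rw [OS_pair]; exact AllE.inf hAx hAy) hf hg
    rwa [OS_pair] at h
  rw [z1, z2, add_zero] at h3
  exact h3

end ResThm

end Part5

section Part6

open Groth.Agent.Lib.R2H1.TateRes Groth.Agent.Lib.R2H1.TateDVR Groth.Agent.Lib.R2H1.MVDelta

section OmegaB

variable (k : Type u) [Field k] [IsAlgClosed k] (X : Scheme.{u})
  [X.Over (Spec (CommRingCat.of k))] [IsIntegral X] [IsProper (X ↘ (Spec (CommRingCat.of k)))]

attribute [local instance] Curv2.stalkAlgebra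

/-- the differentials of the function field generated by functions regular on `U` -/
noncomputable def ΩB (U : X.Opens) : Submodule k Ω[X.functionField⁄k] :=
  Submodule.span k {α | ∃ f ∈ BU k X U, ∃ g ∈ BU k X U,
    α = f • KaehlerDifferential.D k X.functionField g}

theorem smul_D_mem_ΩB {U : X.Opens} {f g : X.functionField} (hf : f ∈ BU k X U)
    (hg : g ∈ BU k X U) : f • KaehlerDifferential.D k X.functionField g ∈ ΩB k X U :=
  Submodule.subset_span ⟨f, hf, g, hg, rfl⟩

theorem ΩB_anti {U V : X.Opens} (h : V ≤ U) : ΩB k X U ≤ ΩB k X V := by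
  apply Submodule.span_mono
  rintro _ ⟨f, hf, g, hg, rfl⟩
  exact ⟨f, BU_anti k X h hf, g, BU_anti k X h hg, rfl⟩

variable (hdim : topologicalKrullDim X = 1)
  (hreg : ∀ x : X, IsRegularLocalRing (X.presheaf.stalk x))

/-- differentials regular at `x` have no residue at `x` -/
theorem resx_eq_zero_of_mem_ΩB (x : X) (hx : IsClosed ({x} : Set X)) {U : X.Opens} (hxU : x ∈ U)
    {α : Ω[X.functionField⁄k]} (hα : α ∈ ΩB k X U) : resx k X hdim hreg x hx α = 0 := by
  induction hα using Submodule.span_induction with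
  | mem α h =>
    obtain ⟨f, hf, g, hg, rfl⟩ := h
    exact resx_eq_zero_of_mem k X hdim hreg x hx (BU_le_Ox k X hxU hf) (BU_le_Ox k X hxU hg)
  | zero => exact map_zero _
  | add a b _ _ ha hb => rw [map_add, ha, hb, add_zero]
  | smul c a _ ha => rw [map_smul, ha, smul_zero]

/-- the residue theorem for differentials regular outside one point -/
theorem resx_one_point (x : X) (hx : IsClosed ({x} : Set X))
    {α : Ω[X.functionField⁄k]} (hα : α ∈ ΩB k X (compl1 X x hx)) :
    resx k X hdim hreg x hx α = 0 := by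
  induction hα using Submodule.span_induction with
  | mem α h =>
    obtain ⟨f, hf, g, hg, rfl⟩ := h
    rw [resx_smul_D]
    exact resK_one_point k X hdim hreg x hx hf hg
  | zero => exact map_zero _
  | add a b _ _ ha hb => rw [map_add, ha, hb, add_zero]
  | smul c a _ ha => rw [map_smul, ha, smul_zero]

/-- the residue theorem for differentials regular outside two points -/
theorem resx_two_point (x y : X) (hx : IsClosed ({x} : Set X)) (hy : IsClosed ({y} : Set X))
    (hxy : x ≠ y) {α : Ω[X.functionField⁄k]} (hα : α ∈ ΩB k X (compl2 X x y hx hy)) :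
    resx k X hdim hreg x hx α + resx k X hdim hreg y hy α = 0 := by
  induction hα using Submodule.span_induction with
  | mem α h =>
    obtain ⟨f, hf, g, hg, rfl⟩ := h
    rw [resx_smul_D, resx_smul_D]
    exact resK_two_point k X hdim hreg x y hx hy hxy hf hg
  | zero => rw [map_zero, map_zero, add_zero]
  | add a b _ _ ha hb =>
    rw [map_add, map_add]
    linear_combination ha + hb
  | smul c a _ ha =>
    rw [map_smul, map_smul, ← smul_add, ha, smul_zero]

end OmegaB

end Part6

end Groth.Agent.Lib.R2H1.CurveRes
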