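import Mathlib
import Groth.Prelude
import Groth.Agent.Lib.R2H1CurveRes
import Groth.Agent.Lib.Helper18OmLS23
import Groth.Agent.Lib.Helper18OmLS25
import Groth.Agent.Lib.Helper19SmVarB
import Groth.Agent.Lib.Helper6EquiDim4
import Groth.Agent.Lib.Helper4RectDepthB
import Groth.Agent.Lib.Helper18FittSh6
import Groth.Agent.Lib.Helper18Cart1
import Groth.Agent.Lib.R2H1CurveEuler
set_option backward.isDefEq.respectTransparency.types false

/-!
helper1 (run 2): the sheaf of differentials of a curve and the function field. Om k X (= Omega.sheaf of the structure morphism), dΩ (universal derivation on sections), germ_appLE, iU k X U hU hη : Γ(Ω, U) →+ Ω[K⁄k] (sections of differentials on an affine open as Kähler differentials of the function field) with iU_smul, iU_d, iU_unique, iU_mem_ΩB, iU_res (compatibility with restriction); smul_mem_ΩB, one_mem_BU; omega_affine_facts (Ω of an affine chart of a regular proper curve over alg closed k is projective of rank one), isInvertible_Om (Ω is invertible).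
-/

set_option autoImplicit false
set_option linter.style.haveILetI false
set_option linter.unusedSectionVars false
universe u v

open CategoryTheory CategoryTheory.Limits AlgebraicGeometry TopologicalSpace Opposite

namespace Groth.Agent.Lib.R2H1.OmegaCurve

section Part1

open Groth.Agent.Lib.R2H1.TateRes Groth.Agent.Lib.R2H1.CurveRes Groth.Agent.Helper18OmLS

section IU

variable (k : Type u) [Field k] (X : Scheme.{u}) [X.Over (Spec (CommRingCat.of k))]
  [IsIntegral X] [QuasiSeparated (X ↘ (Spec (CommRingCat.of k)))]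

attribute [local instance] Curv2.stalkAlgebra

/-- the sheaf of differentials of `X` over `k` -/
noncomputable abbrev Om : X.Modules := Omega.sheaf (X ↘ (Spec (CommRingCat.of k)))

/-- the universal derivation on sections -/
noncomputable abbrev dΩ (U : X.Opens) : Γ(X, U) →+ Γ(Om k X, U) :=
  (OmegaSh.dOmega (X ↘ (Spec (CommRingCat.of k)))).app U

theorem germ_appLE (U : X.Opens) (hη : genericPoint X ∈ U)
    (h : U ≤ (X ↘ (Spec (CommRingCat.of k))) ⁻¹ᵁ ⊤) (x : Γ(Spec (CommRingCat.of k), ⊤)) :
    X.presheaf.germ U (genericPoint X) hη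
        (((X ↘ (Spec (CommRingCat.of k))).appLE ⊤ U h).hom x) =
      algebraMap k X.functionField ((Scheme.ΓSpecIso (CommRingCat.of k)).hom.hom x) := by
  have e1 : (Scheme.ΓSpecIso (CommRingCat.of k)).inv.hom
      ((Scheme.ΓSpecIso (CommRingCat.of k)).hom.hom x) = x :=
    congr($((Scheme.ΓSpecIso (CommRingCat.of k)).hom_inv_id) x)
  change _ = (X.presheaf.germ ⊤ (genericPoint X) trivial).hom
    ((X ↘ (Spec (CommRingCat.of k))).appTop.hom ((Scheme.ΓSpecIso (CommRingCat.of k)).inv.hom
      ((Scheme.ΓSpecIso (CommRingCat.of k)).hom.hom x)))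
  rw [e1]
  exact X.presheaf.germ_res_apply (homOfLE h) (genericPoint X) hη _

/-- existence of the map from sections of the differentials on an affine open to the Kähler
differentials of the function field -/
theorem exists_iU (U : X.Opens) (hU : IsAffineOpen U) (hη : genericPoint X ∈ U) :
    ∃ L : Γ(Om k X, U) →+ Ω[X.functionField⁄k],
      (∀ (a : Γ(X, U)) (s : Γ(Om k X, U)),
        L (a • s) = X.presheaf.germ U (genericPoint X) hη a • L s) ∧
      ∀ a : Γ(X, U), L (dΩ k X U a) =
        KaehlerDifferential.D k X.functionField (X.presheaf.germ U (genericPoint X) hη a) := by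
  letI : Module Γ(X, U) Ω[X.functionField⁄k] :=
    Module.compHom _ (X.presheaf.germ U (genericPoint X) hη).hom
  have hsm : ∀ (a : Γ(X, U)) (ω : Ω[X.functionField⁄k]),
      a • ω = X.presheaf.germ U (genericPoint X) hη a • ω := fun _ _ => rfl
  let δ : Γ(X, U) →+ Ω[X.functionField⁄k] :=
    { toFun := fun a => KaehlerDifferential.D k X.functionField
        (X.presheaf.germ U (genericPoint X) hη a)
      map_zero' := by rw [map_zero, map_zero]
      map_add' := fun a b => by rw [map_add, map_add] }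
  have h : U ≤ (X ↘ (Spec (CommRingCat.of k))) ⁻¹ᵁ ⊤ := le_top
  obtain ⟨L, hL⟩ := exists_lift_dOmega' (X ↘ (Spec (CommRingCat.of k))) h hU
    (isAffineOpen_top _) Ω[X.functionField⁄k] δ
    (fun a b => by
      change KaehlerDifferential.D k X.functionField
        (X.presheaf.germ U (genericPoint X) hη (a * b)) = _
      rw [map_mul, Derivation.leibniz, hsm, hsm]
      rfl)
    (fun x => by
      change KaehlerDifferential.D k X.functionField
        (X.presheaf.germ U (genericPoint X) hη _) = 0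
      rw [germ_appLE, Derivation.map_algebraMap])
  exact ⟨L.toAddMonoidHom, fun a s => L.map_smul a s, hL⟩

/-- the map from sections of the differentials on an affine open to the Kähler differentials of
the function field -/
noncomputable def iU (U : X.Opens) (hU : IsAffineOpen U) (hη : genericPoint X ∈ U) :
    Γ(Om k X, U) →+ Ω[X.functionField⁄k] := (exists_iU k X U hU hη).choose

theorem iU_smul (U : X.Opens) (hU : IsAffineOpen U) (hη : genericPoint X ∈ U) (a : Γ(X, U))
    (s : Γ(Om k X, U)) :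
    iU k X U hU hη (a • s) = X.presheaf.germ U (genericPoint X) hη a • iU k X U hU hη s :=
  (exists_iU k X U hU hη).choose_spec.1 a s

theorem iU_d (U : X.Opens) (hU : IsAffineOpen U) (hη : genericPoint X ∈ U) (a : Γ(X, U)) :
    iU k X U hU hη (dΩ k X U a) =
      KaehlerDifferential.D k X.functionField (X.presheaf.germ U (genericPoint X) hη a) :=
  (exists_iU k X U hU hη).choose_spec.2 a

/-- uniqueness -/
theorem iU_unique (U : X.Opens) (hU : IsAffineOpen U) (hη : genericPoint X ∈ U)
    (L : Γ(Om k X, U) →+ Ω[X.functionField⁄k])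
    (h1 : ∀ (a : Γ(X, U)) (s : Γ(Om k X, U)),
      L (a • s) = X.presheaf.germ U (genericPoint X) hη a • L s)
    (h2 : ∀ a : Γ(X, U), L (dΩ k X U a) =
      KaehlerDifferential.D k X.functionField (X.presheaf.germ U (genericPoint X) hη a))
    (s : Γ(Om k X, U)) : L s = iU k X U hU hη s := by
  have hs := mem_span_dOmega (X ↘ (Spec (CommRingCat.of k))) (le_top : U ≤ _ ⁻¹ᵁ ⊤) hU
    (isAffineOpen_top _) s
  induction hs using Submodule.span_induction with
  | mem x hx =>
    obtain ⟨a, rfl⟩ := hx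
    exact (h2 a).trans (iU_d k X U hU hη a).symm
  | zero => rw [map_zero, map_zero]
  | add x y _ _ hx hy => rw [map_add, map_add, hx, hy]
  | smul a x _ hx => rw [h1, iU_smul, hx]

end IU

end Part1

section Part2

open Groth.Agent.Lib.R2H1.TateRes Groth.Agent.Lib.R2H1.CurveRes Groth.Agent.Helper18OmLS

section IU2

variable (k : Type u) [Field k] [IsAlgClosed k] (X : Scheme.{u})
  [X.Over (Spec (CommRingCat.of k))]
  [IsIntegral X] [IsProper (X ↘ (Spec (CommRingCat.of k)))]

attribute [local instance] Curv2.stalkAlgebra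

theorem smul_mem_ΩB {U : X.Opens} {h : X.functionField} (hh : h ∈ BU k X U)
    {α : Ω[X.functionField⁄k]} (hα : α ∈ ΩB k X U) : h • α ∈ ΩB k X U := by
  induction hα using Submodule.span_induction with
  | mem α hα =>
    obtain ⟨f, hf, g, hg, rfl⟩ := hα
    rw [smul_smul]
    exact smul_D_mem_ΩB k X (BU_mul k X hh hf) hg
  | zero => rw [smul_zero]; exact zero_mem _
  | add a b _ _ ha hb => rw [smul_add]; exact add_mem ha hb
  | smul c a _ ha => rw [smul_comm]; exact Submodule.smul_mem _ c ha

theorem one_mem_BU (U : X.Opens) : (1 : X.functionField) ∈ BU k X U :=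
  (mem_BU_iff k X).2 fun x _ => ⟨1, map_one (algebraMap (X.presheaf.stalk x) X.functionField)⟩

theorem iU_mem_ΩB (U : X.Opens) (hU : IsAffineOpen U) (hη : genericPoint X ∈ U)
    (s : Γ(Om k X, U)) : iU k X U hU hη s ∈ ΩB k X U := by
  have hs := mem_span_dOmega (X ↘ (Spec (CommRingCat.of k))) (le_top : U ≤ _ ⁻¹ᵁ ⊤) hU
    (isAffineOpen_top _) s
  induction hs using Submodule.span_induction with
  | mem x hx =>
    obtain ⟨a, rfl⟩ := hx
    change iU k X U hU hη (dΩ k X U a) ∈ _
    rw [iU_d, ← one_smul X.functionField (KaehlerDifferential.D k X.functionField _)]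
    exact smul_D_mem_ΩB k X (one_mem_BU k X U) (germ_mem_BU k X hη a)
  | zero => rw [map_zero]; exact zero_mem _
  | add x y _ _ hx hy => rw [map_add]; exact add_mem hx hy
  | smul a x _ hx =>
    rw [iU_smul]
    exact smul_mem_ΩB k X (germ_mem_BU k X hη a) hx

/-- compatibility with restriction -/
theorem iU_res {U V : X.Opens} (hU : IsAffineOpen U) (hV : IsAffineOpen V) (hVU : V ≤ U)
    (hη : genericPoint X ∈ V) (s : Γ(Om k X, U)) :
    iU k X V hV hη ((Om k X).presheaf.map (homOfLE hVU).op s) = iU k X U hU (hVU hη) s := by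
  let L : Γ(Om k X, U) →+ Ω[X.functionField⁄k] :=
    (iU k X V hV hη).comp ((Om k X).presheaf.map (homOfLE hVU).op).hom
  refine iU_unique k X U hU (hVU hη) L ?_ ?_ s
  · intro a s
    change iU k X V hV hη ((Om k X).presheaf.map (homOfLE hVU).op (a • s)) = _
    rw [Scheme.Modules.map_smul (Om k X) (homOfLE hVU) a s, iU_smul]
    congr 1
    exact X.presheaf.germ_res_apply (homOfLE hVU) (genericPoint X) hη a
  · intro a
    change iU k X V hV hη ((Om k X).presheaf.map (homOfLE hVU).op (dΩ k X U a)) = _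
    have hd : (Om k X).presheaf.map (homOfLE hVU).op (dΩ k X U a) =
        dΩ k X V (X.presheaf.map (homOfLE hVU).op a) :=
      ((OmegaSh.dOmega (X ↘ (Spec (CommRingCat.of k)))).d_map (homOfLE hVU).op a).symm
    rw [hd, iU_d]
    congr 1
    exact X.presheaf.germ_res_apply (homOfLE hVU) (genericPoint X) hη a

end IU2

end Part2

section Part3

open TensorProduct

open Groth.Agent.Lib.R2H1.TateRes Groth.Agent.Lib.R2H1.CurveRes Groth.Agent.Helper18OmLS

section Inv

variable (k : Type u) [Field k] [IsAlgClosed k] (X : Scheme.{u})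
  [X.Over (Spec (CommRingCat.of k))]
  [IsIntegral X] [IsProper (X ↘ (Spec (CommRingCat.of k)))]

/-- the ground ring of sections is an algebraically closed field -/
theorem exists_field_Γ : ∃ (F : Field Γ(Spec (CommRingCat.of k), ⊤)),
    F.toCommRing = (inferInstance : CommRing Γ(Spec (CommRingCat.of k), ⊤)) ∧
    @IsAlgClosed _ F := by
  let e : k ≃+* Γ(Spec (CommRingCat.of k), ⊤) :=
    (Scheme.ΓSpecIso (CommRingCat.of k)).commRingCatIsoToRingEquiv.symm
  let F : Field Γ(Spec (CommRingCat.of k), ⊤) :=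
    (e.symm.toMulEquiv.isField (Field.toIsField k)).toField
  refine ⟨F, rfl, ?_⟩
  letI := F
  exact IsAlgClosed.of_ringEquiv k _ e

/-- the differentials of an affine chart of a regular curve are projective of rank one -/
theorem omega_affine_facts (hdim : topologicalKrullDim X = 1)
    (hreg : ∀ x : X, IsRegularLocalRing (X.presheaf.stalk x))
    (W : X.Opens) (hW : IsAffineOpen W) (hne : (W : Set X).Nonempty) :
    letI := ((X ↘ (Spec (CommRingCat.of k))).appLE ⊤ W le_top).hom.toAlgebra
    Module.Projective Γ(X, W) Ω[Γ(X, W)⁄Γ(Spec (CommRingCat.of k), ⊤)] ∧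
      ∀ (P : Ideal Γ(X, W)) [P.IsPrime],
        Module.finrank P.ResidueField
          (P.ResidueField ⊗[Γ(X, W)] Ω[Γ(X, W)⁄Γ(Spec (CommRingCat.of k), ⊤)]) = 1 := by
  letI := ((X ↘ (Spec (CommRingCat.of k))).appLE ⊤ W le_top).hom.toAlgebra
  let e : k ≃+* Γ(Spec (CommRingCat.of k), ⊤) :=
    (Scheme.ΓSpecIso (CommRingCat.of k)).commRingCatIsoToRingEquiv.symm
  letI F : Field Γ(Spec (CommRingCat.of k), ⊤) :=
    (e.symm.toMulEquiv.isField (Field.toIsField k)).toField
  haveI : IsAlgClosed Γ(Spec (CommRingCat.of k), ⊤) := IsAlgClosed.of_ringEquiv k _ e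
  haveI : Algebra.FiniteType Γ(Spec (CommRingCat.of k), ⊤) Γ(X, W) :=
    (X ↘ (Spec (CommRingCat.of k))).finiteType_appLE (isAffineOpen_top _) hW le_top
  haveI : Nonempty W := ⟨⟨hne.some, hne.some_mem⟩⟩
  haveI : IsDomain Γ(X, W) := inferInstance
  haveI := Groth.Agent.Lib.R2H1.CurveEuler.isNoetherian_of_proper k X
  haveI : IsRegularRing Γ(X, W) :=
    Groth.Agent.Lib.Helper4.RectDepth.isRegularRing_sections hreg hW
  have hnil : (nilradical Γ(X, W)).IsPrime := by
    rw [nilradical_eq_zero]
    exact Ideal.isPrime_bot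
  have hd : ringKrullDim Γ(X, W) = ((1 : ℕ) : WithBot ℕ∞) := by
    have := Groth.Agent.Lib.Helper6.EquiDim.topologicalKrullDim_eq_ringKrullDim_chart k X
      (A := Γ(X, W)) hW.fromSpec
    rw [← this, hdim]
    rfl
  exact (Groth.Agent.Lib.Helper19.SmVar.isReduced_and_isRegularRing_iff
    Γ(Spec (CommRingCat.of k), ⊤) Γ(X, W) hnil 1 hd).1 ⟨inferInstance, inferInstance⟩

open Groth.Agent.Lib.Helper20.LocFree Groth.Agent.Lib.Helper20.OmegaAff
  Groth.Agent.Lib.Helper20.PullbackAff Groth.Agent.Lib.Helper20.OmegaQCoh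
  Groth.Agent.Lib.Helper20.Thickening in
/-- the sheaf of differentials of a regular proper curve over an algebraically closed field is
invertible -/
theorem isInvertible_Om (hdim : topologicalKrullDim X = 1)
    (hreg : ∀ x : X, IsRegularLocalRing (X.presheaf.stalk x)) :
    PicF.IsInvertible (Om k X) := by
  haveI := isQuasicoherent_omega (X ↘ (Spec (CommRingCat.of k)))
  intro x
  obtain ⟨W, hW, hxW, -⟩ := exists_isAffineOpen_mem_and_subset (X := X) (x := x) (U := ⊤) trivial
  letI := ((X ↘ (Spec (CommRingCat.of k))).appLE ⊤ W le_top).hom.toAlgebra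
  obtain ⟨hproj, -⟩ := omega_affine_facts k X hdim hreg W hW ⟨x, hxW⟩
  obtain ⟨ε⟩ := Groth.Agent.Helper18FittSh.nonempty_sections_omega_equiv
    (X ↘ (Spec (CommRingCat.of k))) hW (isAffineOpen_top _) (le_top : W ≤ _ ⁻¹ᵁ ⊤)
  haveI : Algebra.FiniteType Γ(Spec (CommRingCat.of k), ⊤) Γ(X, W) :=
    (X ↘ (Spec (CommRingCat.of k))).finiteType_appLE (isAffineOpen_top _) hW le_top
  haveI : Module.Finite Γ(X, W) Ω[Γ(X, W)⁄Γ(Spec (CommRingCat.of k), ⊤)] := inferInstance
  let ε' : ((ΓUF hW).obj (Om k X)) ≃ₗ[Γ(X, W)] Ω[Γ(X, W)⁄Γ(Spec (CommRingCat.of k), ⊤)] :=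
    (ΓUEquiv hW (Om k X)).symm.trans ε
  haveI : Module.Finite Γ(X, W) ((ΓUF hW).obj (Om k X)) := Module.Finite.equiv ε'.symm
  haveI : Module.Projective Γ(X, W) ((ΓUF hW).obj (Om k X)) := Module.Projective.of_equiv ε'.symm
  haveI : Module.FinitePresentation Γ(X, W) ((ΓUF hW).obj (Om k X)) :=
    Module.finitePresentation_of_projective _ _
  obtain ⟨D, m, hxD, hDW, ⟨φ⟩⟩ := exists_restrict_iso_freeMod (Om k X) hW x hxW
  obtain ⟨W', hW', hxW', ⟨bs⟩⟩ :=
    Groth.Agent.Helper18FittSh.exists_affine_basis_of_restrict_iso_freeMod (Om k X) D.ι φ ⟨x, hxD⟩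
  letI := ((X ↘ (Spec (CommRingCat.of k))).appLE ⊤ W' le_top).hom.toAlgebra
  obtain ⟨-, hrk⟩ := omega_affine_facts k X hdim hreg W' hW' ⟨_, hxW'⟩
  obtain ⟨ε₂⟩ := Groth.Agent.Helper18FittSh.nonempty_sections_omega_equiv
    (X ↘ (Spec (CommRingCat.of k))) hW' (isAffineOpen_top _) (le_top : W' ≤ _ ⁻¹ᵁ ⊤)
  haveI : Nonempty W' := ⟨⟨_, hxW'⟩⟩
  haveI : IsDomain Γ(X, W') := inferInstance
  let bs' : Module.Basis (Fin m) Γ(X, W') Ω[Γ(X, W')⁄Γ(Spec (CommRingCat.of k), ⊤)] := bs.map ε₂
  have hm : m = 1 := by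
    have h1 := hrk ⊥
    haveI : Module.Free Γ(X, W') Ω[Γ(X, W')⁄Γ(Spec (CommRingCat.of k), ⊤)] :=
      Module.Free.of_basis bs'
    rw [Module.finrank_baseChange, Module.finrank_eq_card_basis bs', Fintype.card_fin] at h1
    exact h1
  subst hm
  exact ⟨W', hxW', ⟨restrictIsoFreeMod (Om k X) hW' bs ≪≫
    coproductUniqueIso (fun _ : Fin 1 => Coh.structureModule (W' : Scheme.{u}))⟩⟩

end Inv

end Part3

end Groth.Agent.Lib.R2H1.OmegaCurve
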