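import Mathlib
import Groth.Prelude
import Groth.Agent.Lib.R2H1CurveRes
import Groth.Agent.Lib.R2H1MVDelta
import Groth.Agent.Lib.R2H1CurveAffProj
import Groth.Agent.Lib.R2H1OmegaCurve
set_option backward.isDefEq.respectTransparency.types false

/-!
helper1 (run 2): the residue functional on H^1(X, Ω) of an integral proper regular curve over an algebraically closed field. isAffineOpen_inf, exists_linear_of_surjective, isAffineOpen_compl1/compl2, cov1, cov2, gen_mem1, gen_mem2; Rep ψ A0 A1 hcov ρ (ψ ∘ Mayer-Vietoris boundary = ρ), rep_iff_of_refine; ρ1 (residue at x on sections over V minus x), ρ2, RP ψ x hx V hV hxV (ψ computes residues at x on the affine neighbourhood V), resx_iU_rs, rp_iff_of_le, rp_change, rp_iff_rep2_left/right, rp_move; germ_toGlobal, exists_rp, exists_closed_point_mem, exists_residue_functional (a k-linear form on H^1(Ω) with RP at every closed point and every affine neighbourhood).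
-/

set_option autoImplicit false
set_option linter.style.haveILetI false
set_option linter.unusedSectionVars false
universe u v

open CategoryTheory CategoryTheory.Limits AlgebraicGeometry TopologicalSpace Opposite

namespace Groth.Agent.Lib.R2H1.ResFunctional

section Part1

open Groth.Agent.Lib.R2H1.TateRes Groth.Agent.Lib.R2H1.CurveRes Groth.Agent.Lib.R2H1.MVDelta
  Groth.Agent.Lib.R2H1.OmegaCurve

section A

variable (k : Type u) [Field k] [IsAlgClosed k] (X : Scheme.{u})
  [X.Over (Spec (CommRingCat.of k))]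
  [IsIntegral X] [IsProper (X ↘ (Spec (CommRingCat.of k)))]

attribute [local instance] Curv2.stalkAlgebra

include k in
theorem isAffineOpen_inf {U V : X.Opens} (hU : IsAffineOpen U) (hV : IsAffineOpen V) :
    IsAffineOpen (U ⊓ V) := by
  haveI : X.IsSeparated := ⟨by
    rw [← terminal.comp_from (X ↘ (Spec (CommRingCat.of k)))]
    infer_instance⟩
  exact hU.inf hV

/-- abstract construction of a linear functional from a surjection -/
theorem exists_linear_of_surjective {S H : Type*} [AddCommGroup S] [AddCommGroup H] [Module k H]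
    (δ : S →+ H) (hδ : Function.Surjective δ) (ρ : S →+ k)
    (hker : ∀ s, δ s = 0 → ρ s = 0)
    (hsm : ∀ (c : k) (s : S), ∃ s' : S, δ s' = c • δ s ∧ ρ s' = c * ρ s) :
    ∃ ψ : H →ₗ[k] k, ∀ s, ψ (δ s) = ρ s := by
  have hwd : ∀ s s', δ s = δ s' → ρ s = ρ s' := by
    intro s s' h
    have h1 : δ (s - s') = 0 := by rw [map_sub, h, sub_self]
    have h2 := hker _ h1
    rw [map_sub, sub_eq_zero] at h2
    exact h2
  let f : H → k := fun h => ρ (hδ h).choose
  have hf : ∀ s, f (δ s) = ρ s := fun s => hwd _ _ (hδ (δ s)).choose_spec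
  refine ⟨{ toFun := f, map_add' := ?_, map_smul' := ?_ }, hf⟩
  · intro a b
    obtain ⟨s, rfl⟩ := hδ a
    obtain ⟨t, rfl⟩ := hδ b
    rw [← map_add, hf, hf, hf, map_add]
  · intro c a
    obtain ⟨s, rfl⟩ := hδ a
    obtain ⟨s', h1, h2⟩ := hsm c s
    rw [← h1, hf, hf, h2, RingHom.id_apply, smul_eq_mul]

variable (hdim : topologicalKrullDim X = 1)
  (hreg : ∀ x : X, IsRegularLocalRing (X.presheaf.stalk x))

include k hdim hreg in
theorem isAffineOpen_compl1 (x : X) (hx : IsClosed ({x} : Set X)) :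
    IsAffineOpen (compl1 X x hx) := by
  refine Groth.Agent.Lib.R2H1.CurveAffProj.isAffineOpen_compl_finset k X hdim {x} ?_
    (Finset.singleton_nonempty x) _ ?_
  · intro p hp
    rw [Finset.mem_singleton] at hp
    subst hp
    exact ⟨hx, Groth.Agent.Lib.R2H1.PointTwist.isDVR_of_closed k X hdim hreg p hx⟩
  · rw [Finset.coe_singleton]
    rfl

include k hdim hreg in
theorem isAffineOpen_compl2 (x y : X) (hx : IsClosed ({x} : Set X)) (hy : IsClosed ({y} : Set X)) :
    IsAffineOpen (compl2 X x y hx hy) := by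
  classical
  refine Groth.Agent.Lib.R2H1.CurveAffProj.isAffineOpen_compl_finset k X hdim {x, y} ?_
    ⟨x, Finset.mem_insert_self x _⟩ _ ?_
  · intro p hp
    rw [Finset.mem_insert, Finset.mem_singleton] at hp
    rcases hp with rfl | rfl
    · exact ⟨hx, Groth.Agent.Lib.R2H1.PointTwist.isDVR_of_closed k X hdim hreg p hx⟩
    · exact ⟨hy, Groth.Agent.Lib.R2H1.PointTwist.isDVR_of_closed k X hdim hreg p hy⟩
  · rw [Finset.coe_insert, Finset.coe_singleton]
    rfl

theorem cov1 (x : X) (hx : IsClosed ({x} : Set X)) {V : X.Opens} (hxV : x ∈ V) :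
    (⊤ : X.Opens) ≤ V ⊔ compl1 X x hx := by
  intro z _
  by_cases h : z = x
  · exact Or.inl (h ▸ hxV)
  · exact Or.inr h

theorem cov2 (x y : X) (hx : IsClosed ({x} : Set X)) (hy : IsClosed ({y} : Set X))
    {V : X.Opens} (hxV : x ∈ V) (hyV : y ∈ V) :
    (⊤ : X.Opens) ≤ V ⊔ compl2 X x y hx hy := by
  intro z _
  by_cases h : z = x
  · exact Or.inl (h ▸ hxV)
  · by_cases h' : z = y
    · exact Or.inl (h' ▸ hyV)
    · refine Or.inr ?_
      rintro (h1 | h1)
      · exact h h1
      · exact h' h1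

include k hdim hreg in
theorem gen_mem1 (x : X) (hx : IsClosed ({x} : Set X)) {V : X.Opens} (hxV : x ∈ V) :
    genericPoint X ∈ V ⊓ compl1 X x hx :=
  ⟨genericPoint_mem X hxV, fun h => genericPoint_ne_of_closed k X hdim hreg x hx h⟩

include k hdim hreg in
theorem gen_mem2 (x y : X) (hx : IsClosed ({x} : Set X)) (hy : IsClosed ({y} : Set X))
    {V : X.Opens} (hxV : x ∈ V) :
    genericPoint X ∈ V ⊓ compl2 X x y hx hy := by
  refine ⟨genericPoint_mem X hxV, ?_⟩
  rintro (h | h)
  · exact genericPoint_ne_of_closed k X hdim hreg x hx h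
  · exact genericPoint_ne_of_closed k X hdim hreg y hy h

end A

end Part1

section Part2

open Groth.Agent.Lib.R2H1.TateRes Groth.Agent.Lib.R2H1.CurveRes Groth.Agent.Lib.R2H1.MVDelta
  Groth.Agent.Lib.R2H1.OmegaCurve

section B

variable (k : Type u) [Field k] [IsAlgClosed k] (X : Scheme.{u})
  [X.Over (Spec (CommRingCat.of k))]
  [IsIntegral X] [IsProper (X ↘ (Spec (CommRingCat.of k)))]

attribute [local instance] Curv2.stalkAlgebra

/-- `ψ` is represented on the cover `(A₀, A₁)` by `ρ` -/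
def Rep (ψ : Coh.HH X (Om k X) 1 →+ k) (A₀ A₁ : X.Opens) (hcov : (⊤ : X.Opens) ≤ A₀ ⊔ A₁)
    (ρ : Γ(Om k X, A₀ ⊓ A₁) →+ k) : Prop :=
  ∀ s, ψ (mvδM (Om k X) A₀ A₁ hcov s) = ρ s

open Groth.Agent.Lib.Helper20.OmegaQCoh in
/-- comparing representations on a cover and a refinement -/
theorem rep_iff_of_refine (ψ : Coh.HH X (Om k X) 1 →+ k) {A₀ A₁ B₀ B₁ : X.Opens}
    (hA₀ : IsAffineOpen A₀) (hA₁ : IsAffineOpen A₁) (h₀ : B₀ ≤ A₀) (h₁ : B₁ ≤ A₁)
    (hcovA : (⊤ : X.Opens) ≤ A₀ ⊔ A₁) (hcovB : (⊤ : X.Opens) ≤ B₀ ⊔ B₁)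
    (ρA : Γ(Om k X, A₀ ⊓ A₁) →+ k) (ρB : Γ(Om k X, B₀ ⊓ B₁) →+ k)
    (hres : ∀ s, ρB (rs (Om k X) (inf_le_inf h₀ h₁) s) = ρA s)
    (hz₀ : ∀ a : Γ(Om k X, B₀), ρB (rs (Om k X) inf_le_left a) = 0)
    (hz₁ : ∀ b : Γ(Om k X, B₁), ρB (rs (Om k X) inf_le_right b) = 0) :
    Rep k X ψ A₀ A₁ hcovA ρA ↔ Rep k X ψ B₀ B₁ hcovB ρB := by
  haveI := isQuasicoherent_omega (X ↘ (Spec (CommRingCat.of k)))
  constructor
  · intro h s'
    obtain ⟨s, hs⟩ := mvδM_surjective (Om k X) A₀ A₁ hcovA hA₀ hA₁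
      (mvδM (Om k X) B₀ B₁ hcovB s')
    have h1 : mvδM (Om k X) B₀ B₁ hcovB (s' - rs (Om k X) (inf_le_inf h₀ h₁) s) = 0 := by
      rw [map_sub, mvδM_refine (Om k X) A₀ A₁ hcovA B₀ B₁ h₀ h₁ hcovB s, hs, sub_self]
    obtain ⟨a, b, hab⟩ := (mvδM_eq_zero_iff (Om k X) B₀ B₁ hcovB _).1 h1
    have h2 : ρB s' = ρA s := by
      have : s' = rs (Om k X) (inf_le_inf h₀ h₁) s +
          (rs (Om k X) inf_le_left a - rs (Om k X) inf_le_right b) := by
        rw [← hab]; abel
      rw [this, map_add, map_sub, hres, hz₀, hz₁, sub_zero, add_zero]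
    rw [h2, ← hs]
    exact h s
  · intro h s
    rw [← mvδM_refine (Om k X) A₀ A₁ hcovA B₀ B₁ h₀ h₁ hcovB s, h, hres]

variable (hdim : topologicalKrullDim X = 1)
  (hreg : ∀ x : X, IsRegularLocalRing (X.presheaf.stalk x))

/-- the residue at `x` on sections over `V ∖ {x}` -/
noncomputable def ρ1 (x : X) (hx : IsClosed ({x} : Set X)) (V : X.Opens) (hV : IsAffineOpen V)
    (hxV : x ∈ V) : Γ(Om k X, V ⊓ compl1 X x hx) →+ k :=
  (resx k X hdim hreg x hx).toAddMonoidHom.comp
    (iU k X (V ⊓ compl1 X x hx)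
      (isAffineOpen_inf k X hV (isAffineOpen_compl1 k X hdim hreg x hx))
      (gen_mem1 k X hdim hreg x hx hxV))

/-- the sum of the residues at `x` and `y` on sections over `V ∖ {x, y}` -/
noncomputable def ρ2 (x y : X) (hx : IsClosed ({x} : Set X)) (hy : IsClosed ({y} : Set X))
    (V : X.Opens) (hV : IsAffineOpen V) (hxV : x ∈ V) :
    Γ(Om k X, V ⊓ compl2 X x y hx hy) →+ k :=
  ((resx k X hdim hreg x hx).toAddMonoidHom + (resx k X hdim hreg y hy).toAddMonoidHom).comp
    (iU k X (V ⊓ compl2 X x y hx hy)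
      (isAffineOpen_inf k X hV (isAffineOpen_compl2 k X hdim hreg x y hx hy))
      (gen_mem2 k X hdim hreg x y hx hy hxV))

/-- `ψ` computes residues at `x` on the affine neighbourhood `V` -/
def RP (ψ : Coh.HH X (Om k X) 1 →+ k) (x : X) (hx : IsClosed ({x} : Set X)) (V : X.Opens)
    (hV : IsAffineOpen V) (hxV : x ∈ V) : Prop :=
  Rep k X ψ V (compl1 X x hx) (cov1 X x hx hxV) (ρ1 k X hdim hreg x hx V hV hxV)

/-- restricting an affine-open section of the differentials and taking residues -/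
theorem resx_iU_rs (x : X) (hx : IsClosed ({x} : Set X)) {U W : X.Opens} (hU : IsAffineOpen U)
    (hW : IsAffineOpen W) (hWU : W ≤ U) (hη : genericPoint X ∈ W) (hxU : x ∈ U)
    (a : Γ(Om k X, U)) :
    resx k X hdim hreg x hx (iU k X W hW hη (rs (Om k X) hWU a)) = 0 := by
  rw [show rs (Om k X) hWU a = (Om k X).presheaf.map (homOfLE hWU).op a from rfl,
    iU_res k X hU hW hWU hη a]
  exact resx_eq_zero_of_mem_ΩB k X hdim hreg x hx hxU (iU_mem_ΩB k X U hU (hWU hη) a)

/-- changing the affine neighbourhood (shrinking) -/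
theorem rp_iff_of_le (ψ : Coh.HH X (Om k X) 1 →+ k) (x : X) (hx : IsClosed ({x} : Set X))
    {V W : X.Opens} (hV : IsAffineOpen V) (hW : IsAffineOpen W) (hWV : W ≤ V) (hxW : x ∈ W) :
    RP k X hdim hreg ψ x hx V hV (hWV hxW) ↔ RP k X hdim hreg ψ x hx W hW hxW := by
  have hc := isAffineOpen_compl1 k X hdim hreg x hx
  refine rep_iff_of_refine k X ψ hV hc hWV le_rfl _ _ _ _ ?_ ?_ ?_
  · intro s
    change resx k X hdim hreg x hx (iU k X _ _ _ (rs (Om k X) _ s)) =
      resx k X hdim hreg x hx (iU k X _ _ _ s)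
    rw [show rs (Om k X) (inf_le_inf hWV (le_refl (compl1 X x hx))) s =
      (Om k X).presheaf.map (homOfLE (inf_le_inf hWV (le_refl (compl1 X x hx)))).op s from rfl,
      iU_res k X (isAffineOpen_inf k X hV hc) (isAffineOpen_inf k X hW hc)]
  · intro a
    exact resx_iU_rs k X hdim hreg x hx hW _ inf_le_left _ hxW a
  · intro b
    change resx k X hdim hreg x hx (iU k X _ _ _ (rs (Om k X) _ b)) = 0
    rw [show rs (Om k X) (inf_le_right : W ⊓ compl1 X x hx ≤ compl1 X x hx) b =
      (Om k X).presheaf.map (homOfLE (inf_le_right : W ⊓ compl1 X x hx ≤ _)).op b from rfl,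
      iU_res k X hc (isAffineOpen_inf k X hW hc)]
    exact resx_one_point k X hdim hreg x hx (iU_mem_ΩB k X _ hc _ b)

end B

end Part2

section Part3

open Groth.Agent.Lib.R2H1.TateRes Groth.Agent.Lib.R2H1.CurveRes Groth.Agent.Lib.R2H1.MVDelta
  Groth.Agent.Lib.R2H1.OmegaCurve

section C

variable (k : Type u) [Field k] [IsAlgClosed k] (X : Scheme.{u})
  [X.Over (Spec (CommRingCat.of k))]
  [IsIntegral X] [IsProper (X ↘ (Spec (CommRingCat.of k)))]

attribute [local instance] Curv2.stalkAlgebra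

variable (hdim : topologicalKrullDim X = 1)
  (hreg : ∀ x : X, IsRegularLocalRing (X.presheaf.stalk x))

/-- changing the affine neighbourhood -/
theorem rp_change (ψ : Coh.HH X (Om k X) 1 →+ k) (x : X) (hx : IsClosed ({x} : Set X))
    {V V' : X.Opens} (hV : IsAffineOpen V) (hV' : IsAffineOpen V') (hxV : x ∈ V) (hxV' : x ∈ V')
    (h : RP k X hdim hreg ψ x hx V hV hxV) : RP k X hdim hreg ψ x hx V' hV' hxV' := by
  have hW := isAffineOpen_inf k X hV hV'
  have hxW : x ∈ V ⊓ V' := ⟨hxV, hxV'⟩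
  have h1 := (rp_iff_of_le k X hdim hreg ψ x hx hV hW inf_le_left hxW).1 h
  exact (rp_iff_of_le k X hdim hreg ψ x hx hV' hW inf_le_right hxW).2 h1

theorem compl2_le_left (x y : X) (hx : IsClosed ({x} : Set X)) (hy : IsClosed ({y} : Set X)) :
    compl2 X x y hx hy ≤ compl1 X x hx := fun _ hz h => hz (Or.inl h)

theorem compl2_le_right (x y : X) (hx : IsClosed ({x} : Set X)) (hy : IsClosed ({y} : Set X)) :
    compl2 X x y hx hy ≤ compl1 X y hy := fun _ hz h => hz (Or.inr h)

/-- one-point and two-point representations (first point) -/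
theorem rp_iff_rep2_left (ψ : Coh.HH X (Om k X) 1 →+ k) (x y : X) (hx : IsClosed ({x} : Set X))
    (hy : IsClosed ({y} : Set X)) (hxy : x ≠ y)
    {V : X.Opens} (hV : IsAffineOpen V) (hxV : x ∈ V) (hyV : y ∈ V) :
    RP k X hdim hreg ψ x hx V hV hxV ↔
      Rep k X ψ V (compl2 X x y hx hy) (cov2 X x y hx hy hxV hyV)
        (ρ2 k X hdim hreg x y hx hy V hV hxV) := by
  have hc1 := isAffineOpen_compl1 k X hdim hreg x hx
  have hc2 := isAffineOpen_compl2 k X hdim hreg x y hx hy
  refine rep_iff_of_refine k X ψ hV hc1 le_rfl (compl2_le_left X x y hx hy) _ _ _ _ ?_ ?_ ?_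
  · intro s
    change resx k X hdim hreg x hx (iU k X _ _ _ (rs (Om k X) _ s)) +
      resx k X hdim hreg y hy (iU k X _ _ _ (rs (Om k X) _ s)) =
      resx k X hdim hreg x hx (iU k X _ _ _ s)
    rw [resx_iU_rs k X hdim hreg y hy (isAffineOpen_inf k X hV hc1) _ _ _
      ⟨hyV, fun h => hxy h.symm⟩ s, add_zero]
    rw [show rs (Om k X) (inf_le_inf (le_refl V) (compl2_le_left X x y hx hy)) s =
      (Om k X).presheaf.map (homOfLE (inf_le_inf (le_refl V)
        (compl2_le_left X x y hx hy))).op s from rfl,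
      iU_res k X (isAffineOpen_inf k X hV hc1) (isAffineOpen_inf k X hV hc2)]
  · intro a
    change resx k X hdim hreg x hx (iU k X _ _ _ (rs (Om k X) _ a)) +
      resx k X hdim hreg y hy (iU k X _ _ _ (rs (Om k X) _ a)) = 0
    rw [resx_iU_rs k X hdim hreg x hx hV _ inf_le_left _ hxV a,
      resx_iU_rs k X hdim hreg y hy hV _ inf_le_left _ hyV a, add_zero]
  · intro b
    change resx k X hdim hreg x hx (iU k X _ _ _ (rs (Om k X) _ b)) +
      resx k X hdim hreg y hy (iU k X _ _ _ (rs (Om k X) _ b)) = 0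
    rw [show rs (Om k X) (inf_le_right : V ⊓ compl2 X x y hx hy ≤ compl2 X x y hx hy) b =
      (Om k X).presheaf.map (homOfLE (inf_le_right : V ⊓ compl2 X x y hx hy ≤ _)).op b from rfl,
      iU_res k X hc2 (isAffineOpen_inf k X hV hc2)]
    exact resx_two_point k X hdim hreg x y hx hy hxy (iU_mem_ΩB k X _ hc2 _ b)

/-- one-point and two-point representations (second point) -/
theorem rp_iff_rep2_right (ψ : Coh.HH X (Om k X) 1 →+ k) (x y : X) (hx : IsClosed ({x} : Set X))
    (hy : IsClosed ({y} : Set X)) (hxy : x ≠ y)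
    {V : X.Opens} (hV : IsAffineOpen V) (hxV : x ∈ V) (hyV : y ∈ V) :
    RP k X hdim hreg ψ y hy V hV hyV ↔
      Rep k X ψ V (compl2 X x y hx hy) (cov2 X x y hx hy hxV hyV)
        (ρ2 k X hdim hreg x y hx hy V hV hxV) := by
  have hc1 := isAffineOpen_compl1 k X hdim hreg y hy
  have hc2 := isAffineOpen_compl2 k X hdim hreg x y hx hy
  refine rep_iff_of_refine k X ψ hV hc1 le_rfl (compl2_le_right X x y hx hy) _ _ _ _ ?_ ?_ ?_
  · intro s
    change resx k X hdim hreg x hx (iU k X _ _ _ (rs (Om k X) _ s)) +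
      resx k X hdim hreg y hy (iU k X _ _ _ (rs (Om k X) _ s)) =
      resx k X hdim hreg y hy (iU k X _ _ _ s)
    rw [resx_iU_rs k X hdim hreg x hx (isAffineOpen_inf k X hV hc1) _ _ _
      ⟨hxV, hxy⟩ s, zero_add]
    rw [show rs (Om k X) (inf_le_inf (le_refl V) (compl2_le_right X x y hx hy)) s =
      (Om k X).presheaf.map (homOfLE (inf_le_inf (le_refl V)
        (compl2_le_right X x y hx hy))).op s from rfl,
      iU_res k X (isAffineOpen_inf k X hV hc1) (isAffineOpen_inf k X hV hc2)]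
  · intro a
    change resx k X hdim hreg x hx (iU k X _ _ _ (rs (Om k X) _ a)) +
      resx k X hdim hreg y hy (iU k X _ _ _ (rs (Om k X) _ a)) = 0
    rw [resx_iU_rs k X hdim hreg x hx hV _ inf_le_left _ hxV a,
      resx_iU_rs k X hdim hreg y hy hV _ inf_le_left _ hyV a, add_zero]
  · intro b
    change resx k X hdim hreg x hx (iU k X _ _ _ (rs (Om k X) _ b)) +
      resx k X hdim hreg y hy (iU k X _ _ _ (rs (Om k X) _ b)) = 0
    rw [show rs (Om k X) (inf_le_right : V ⊓ compl2 X x y hx hy ≤ compl2 X x y hx hy) b =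
      (Om k X).presheaf.map (homOfLE (inf_le_right : V ⊓ compl2 X x y hx hy ≤ _)).op b from rfl,
      iU_res k X hc2 (isAffineOpen_inf k X hV hc2)]
    exact resx_two_point k X hdim hreg x y hx hy hxy (iU_mem_ΩB k X _ hc2 _ b)

/-- moving the point inside a common affine neighbourhood -/
theorem rp_move (ψ : Coh.HH X (Om k X) 1 →+ k) (x y : X) (hx : IsClosed ({x} : Set X))
    (hy : IsClosed ({y} : Set X)) (hxy : x ≠ y)
    {V : X.Opens} (hV : IsAffineOpen V) (hxV : x ∈ V) (hyV : y ∈ V)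
    (h : RP k X hdim hreg ψ x hx V hV hxV) : RP k X hdim hreg ψ y hy V hV hyV :=
  (rp_iff_rep2_right k X hdim hreg ψ x y hx hy hxy hV hxV hyV).2
    ((rp_iff_rep2_left k X hdim hreg ψ x y hx hy hxy hV hxV hyV).1 h)

end C

end Part3

section Part4

open Groth.Agent.Lib.R2H1.TateRes Groth.Agent.Lib.R2H1.CurveRes Groth.Agent.Lib.R2H1.MVDelta
  Groth.Agent.Lib.R2H1.OmegaCurve

section D

variable (k : Type u) [Field k] [IsAlgClosed k] (X : Scheme.{u})
  [X.Over (Spec (CommRingCat.of k))]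
  [IsIntegral X] [IsProper (X ↘ (Spec (CommRingCat.of k)))]

attribute [local instance] Curv2.stalkAlgebra
attribute [local instance] algΓU

theorem germ_toGlobal (U : X.Opens) (hη : genericPoint X ∈ U) (c : k) :
    X.presheaf.germ U (genericPoint X) hη
      (X.presheaf.map (homOfLE (le_top : U ≤ ⊤)).op
        (Coh.toGlobal (X ↘ (Spec (CommRingCat.of k))) c)) =
      algebraMap k X.functionField c := by
  rw [← algebraMap_ΓU k X U c, ← germL_apply k X U hη, Algebra.algebraMap_eq_smul_one,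
    map_smul, germL_apply, map_one, ← Algebra.algebraMap_eq_smul_one]

variable (hdim : topologicalKrullDim X = 1)
  (hreg : ∀ x : X, IsRegularLocalRing (X.presheaf.stalk x))

open Groth.Agent.Lib.Helper20.OmegaQCoh in
/-- existence of a functional computing residues at `x` -/
theorem exists_rp (x : X) (hx : IsClosed ({x} : Set X)) (V : X.Opens) (hV : IsAffineOpen V)
    (hxV : x ∈ V) :
    ∃ ψ : Coh.HH X (Om k X) 1 →ₗ[k] k, RP k X hdim hreg ψ.toAddMonoidHom x hx V hV hxV := by
  haveI := isQuasicoherent_omega (X ↘ (Spec (CommRingCat.of k)))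
  have hc := isAffineOpen_compl1 k X hdim hreg x hx
  have hVc := isAffineOpen_inf k X hV hc
  refine exists_linear_of_surjective k (mvδM (Om k X) V (compl1 X x hx) (cov1 X x hx hxV))
    (mvδM_surjective (Om k X) V (compl1 X x hx) (cov1 X x hx hxV) hV hc)
    (ρ1 k X hdim hreg x hx V hV hxV) ?_ ?_
  · intro s hs
    obtain ⟨a, b, rfl⟩ := (mvδM_eq_zero_iff (Om k X) V (compl1 X x hx) _ s).1 hs
    rw [map_sub]
    have h1 : ρ1 k X hdim hreg x hx V hV hxV (rs (Om k X) inf_le_left a) = 0 :=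
      resx_iU_rs k X hdim hreg x hx hV _ inf_le_left _ hxV a
    have h2 : ρ1 k X hdim hreg x hx V hV hxV (rs (Om k X) inf_le_right b) = 0 := by
      change resx k X hdim hreg x hx (iU k X _ _ _ (rs (Om k X) _ b)) = 0
      rw [show rs (Om k X) (inf_le_right : V ⊓ compl1 X x hx ≤ compl1 X x hx) b =
        (Om k X).presheaf.map (homOfLE (inf_le_right : V ⊓ compl1 X x hx ≤ _)).op b from rfl,
        iU_res k X hc hVc]
      exact resx_one_point k X hdim hreg x hx (iU_mem_ΩB k X _ hc _ b)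
    rw [h1, h2, sub_zero]
  · intro c s
    refine ⟨X.presheaf.map (homOfLE (le_top : V ⊓ compl1 X x hx ≤ ⊤)).op
      (Coh.toGlobal (X ↘ (Spec (CommRingCat.of k))) c) • s, ?_, ?_⟩
    · rw [mvδM_smul]
      rfl
    · change resx k X hdim hreg x hx (iU k X _ _ _ (_ • s)) =
        c * resx k X hdim hreg x hx (iU k X _ _ _ s)
      rw [iU_smul, germ_toGlobal, algebraMap_smul, map_smul, smul_eq_mul]

include k in
theorem exists_closed_point_mem (U : X.Opens) (hU : (U : Set X).Nonempty) :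
    ∃ z : X, z ∈ U ∧ IsClosed ({z} : Set X) := by
  haveI : JacobsonSpace X := LocallyOfFiniteType.jacobsonSpace (X ↘ (Spec (CommRingCat.of k)))
  obtain ⟨z, hzU, hz⟩ := nonempty_inter_closedPoints hU U.isOpen.isLocallyClosed
  exact ⟨z, hzU, hz⟩

/-- **the residue functional**: a `k`-linear form on `H¹(X, Ω)` computing, through the
Mayer–Vietoris boundary, the residue at every closed point -/
theorem exists_residue_functional :
    ∃ ψ : Coh.HH X (Om k X) 1 →ₗ[k] k, ∀ (y : X) (hy : IsClosed ({y} : Set X)) (V : X.Opens)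
      (hV : IsAffineOpen V) (hyV : y ∈ V), RP k X hdim hreg ψ.toAddMonoidHom y hy V hV hyV := by
  obtain ⟨x, -, hx⟩ := exists_closed_point_mem k X ⊤ ⟨(inferInstance : Nonempty X).some, trivial⟩
  obtain ⟨V₀, hV₀, hxV₀, -⟩ :=
    exists_isAffineOpen_mem_and_subset (X := X) (x := x) (U := ⊤) trivial
  obtain ⟨ψ, hψ⟩ := exists_rp k X hdim hreg x hx V₀ hV₀ hxV₀
  refine ⟨ψ, fun y hy V hV hyV => ?_⟩
  by_cases hxy : x = y
  · subst hxy
    exact rp_change k X hdim hreg _ x hx hV₀ hV hxV₀ hyV hψ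
  · obtain ⟨z, hz, hzc⟩ := exists_closed_point_mem k X (compl2 X x y hx hy)
      ⟨genericPoint X, (gen_mem2 k X hdim hreg x y hx hy hxV₀).2⟩
    have hT := isAffineOpen_compl1 k X hdim hreg z hzc
    have hxT : x ∈ compl1 X z hzc := fun h => hz (Or.inl h.symm)
    have hyT : y ∈ compl1 X z hzc := fun h => hz (Or.inr h.symm)
    have h1 := rp_change k X hdim hreg _ x hx hV₀ hT hxV₀ hxT hψ
    have h2 := rp_move k X hdim hreg _ x y hx hy hxy hT hxT hyT h1
    exact rp_change k X hdim hreg _ y hy hT hV hyT hyV h2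

end D

end Part4

end Groth.Agent.Lib.R2H1.ResFunctional
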