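import Mathlib
import Groth.Prelude
import Groth.Agent.Lib.R2H1CurveRes
import Groth.Agent.Lib.R2H1MVDelta
import Groth.Agent.Lib.R2H1CurveAffProj
import Groth.Agent.Lib.R2H1InvHom
import Groth.Agent.Lib.R2H4FibTrivA
import Groth.Agent.Lib.Helper20UFDPic
import Groth.Agent.Lib.R2H1SerreDual
import Groth.Agent.Lib.R2H1VBEndo
import Groth.Agent.Lib.R2H1RegPoint
import Groth.Agent.Lib.Helper14FtPts
import Groth.Agent.Lib.R2H1OmegaCurve
import Groth.Agent.Lib.R2H1ResFunctional
set_option backward.isDefEq.respectTransparency.types false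

/-!
helper1 (run 2): Serre duality with differentials and residues on an integral proper regular curve over an algebraically closed field. exists_local_uniformizer (affine neighbourhood and function which is a uniformizer at a closed DVR point, divides all functions vanishing there, invertible elsewhere), algebraMap_germ, resx_dlog_section (residue of du/u is 1), mem_basicOpen_of_local_data (key local step), isIso_of_residue (a morphism Ω → ω to an invertible module realizing the residue functional is an isomorphism), dualityL_bijective, dualizing_numerics (h0(ω)=g, h1(ω)=1, deg ω = 2g-2 for a dualizing pair), serre_duality_Om (Ω invertible; a nonzero ψ on H^1(Ω) computing residues with Hom(F, Ω) → H^1(F)^∨ bijective for all coherent F), numerics_Om (h0(Ω)=g, h1(Ω)=1, deg Ω = 2g-2).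
-/

set_option autoImplicit false
set_option linter.style.haveILetI false
set_option linter.unusedSectionVars false
universe u v

open CategoryTheory CategoryTheory.Limits AlgebraicGeometry TopologicalSpace Opposite

namespace Groth.Agent.Lib.R2H1.OmegaDual

section Part1

section U

open Groth.Agent.Lib.R2H1.RegPoint

/-- a local uniformizer at a closed point with discrete valuation local ring: an affine
neighbourhood `V` and a function `u` on it which is a uniformizer at `y`, divides every function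
vanishing at `y`, and is invertible away from `y` -/
theorem exists_local_uniformizer (X : Scheme.{u}) [IsIntegral X] [IsLocallyNoetherian X] (y : X)
    (hy : IsClosed ({y} : Set X)) [IsDiscreteValuationRing (X.presheaf.stalk y)]
    (V₀ : X.Opens) (hyV₀ : y ∈ V₀) :
    ∃ (V : X.Opens) (_ : IsAffineOpen V) (hyV : y ∈ V) (u : Γ(X, V)), V ≤ V₀ ∧
      Irreducible (X.presheaf.germ V y hyV u) ∧
      (∀ b : Γ(X, V), y ∉ X.basicOpen b → ∃ c : Γ(X, V), b = c * u) ∧
      (∀ z ∈ V, z ≠ y → z ∈ X.basicOpen u) := by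
  obtain ⟨U, hU₀, hxU, hUV₀⟩ :=
    (Opens.isBasis_iff_nbhd.mp X.isBasis_affineOpens) hyV₀
  have hU : IsAffineOpen U := hU₀
  haveI : Nonempty U := ⟨⟨y, hxU⟩⟩
  haveI : IsNoetherianRing Γ(X, U) := IsLocallyNoetherian.component_noetherian ⟨U, hU⟩
  letI : Algebra Γ(X, U) (X.presheaf.stalk y) :=
    TopCat.Presheaf.algebra_section_stalk X.presheaf ⟨y, hxU⟩
  haveI : IsLocalization.AtPrime (X.presheaf.stalk y) (hU.primeIdealOf ⟨y, hxU⟩).asIdeal :=
    hU.isLocalization_stalk ⟨y, hxU⟩
  obtain ⟨ϖ, hϖ⟩ := IsDiscreteValuationRing.exists_irreducible (X.presheaf.stalk y)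
  have hmax : IsLocalRing.maximalIdeal (X.presheaf.stalk y) = Ideal.span {ϖ} :=
    hϖ.maximalIdeal_eq
  obtain ⟨⟨a, s⟩, has⟩ :=
    IsLocalization.surj (hU.primeIdealOf ⟨y, hxU⟩).asIdeal.primeCompl ϖ
  have hsu : IsUnit (algebraMap Γ(X, U) (X.presheaf.stalk y) s.1) :=
    IsLocalization.map_units _ s
  have hmax' : IsLocalRing.maximalIdeal (X.presheaf.stalk y) =
      Ideal.span {algebraMap Γ(X, U) (X.presheaf.stalk y) a} := by
    rw [hmax, ← has]
    exact (Ideal.span_singleton_mul_right_unit hsu ϖ).symm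
  have hirr : Irreducible (algebraMap Γ(X, U) (X.presheaf.stalk y) a) :=
    (IsDiscreteValuationRing.irreducible_iff_uniformizer _).2 hmax'
  obtain ⟨g, hgp, hg⟩ := @exists_mul_mem_span Γ(X, U) (X.presheaf.stalk y) _ _ _ _ _
    (hU.primeIdealOf ⟨y, hxU⟩).asIdeal _ (hU.isLocalization_stalk ⟨y, hxU⟩) _ a hmax'
  have hyg : y ∈ X.basicOpen g :=
    (Groth.Agent.Lib.Helper14.mem_basicOpen_iff_notMem_primeIdealOf hU y hxU g).2 hgp
  have hV : IsAffineOpen (X.basicOpen g) := hU.basicOpen g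
  have hVU : X.basicOpen g ≤ U := X.basicOpen_le g
  let ρ := X.presheaf.map (homOfLE hVU).op
  have hgu : IsUnit (ρ.hom g) := RingedSpace.isUnit_res_basicOpen X.toRingedSpace g
  -- divisibility
  have hdiv : ∀ b : Γ(X, X.basicOpen g), y ∉ X.basicOpen b → ∃ c : Γ(X, X.basicOpen g),
      b = c * ρ.hom a := by
    intro b hb
    haveI := hU.isLocalization_basicOpen g
    obtain ⟨⟨b', t⟩, hbt⟩ := IsLocalization.surj (Submonoid.powers g) b
    obtain ⟨n, hn⟩ := t.2
    have hbt' : b * ρ.hom (g ^ n) = ρ.hom b' := by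
      have h1 : (t : Γ(X, U)) = g ^ n := hn.symm
      rw [← h1]
      exact hbt
    -- `b'` vanishes at `y`
    have hb' : b' ∈ (hU.primeIdealOf ⟨y, hxU⟩).asIdeal := by
      by_contra hcon
      have h2 : y ∈ X.basicOpen b' :=
        (Groth.Agent.Lib.Helper14.mem_basicOpen_iff_notMem_primeIdealOf hU y hxU b').2 hcon
      have h3 : y ∈ X.basicOpen (ρ.hom b') := by
        rw [Scheme.basicOpen_res]
        exact ⟨hyg, h2⟩
      rw [← hbt', Scheme.basicOpen_mul] at h3
      exact hb h3.1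
    obtain ⟨c, hc⟩ := Ideal.mem_span_singleton'.mp (hg b' hb')
    obtain ⟨v, hv⟩ := hgu
    have h4 : ρ.hom c * ρ.hom a = ρ.hom g * (b * (ρ.hom g) ^ n) := by
      rw [← map_mul, hc, map_mul, ← map_pow, ← hbt']
    refine ⟨(↑(v⁻¹) : Γ(X, X.basicOpen g)) ^ (n + 1) * ρ.hom c, ?_⟩
    rw [mul_assoc, h4, ← hv]
    have h5 : (↑(v⁻¹) : Γ(X, X.basicOpen g)) ^ (n + 1) * ((v : Γ(X, X.basicOpen g)) ^ (n + 1)) = 1 := by
      rw [← mul_pow, Units.inv_mul, one_pow]
    calc b = b * ((↑(v⁻¹) : Γ(X, X.basicOpen g)) ^ (n + 1) *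
          ((v : Γ(X, X.basicOpen g)) ^ (n + 1))) := by rw [h5, mul_one]
      _ = _ := by ring
  have hya : y ∉ X.basicOpen (ρ.hom a) := by
    intro h
    rw [Scheme.basicOpen_res] at h
    have hap : a ∈ (hU.primeIdealOf ⟨y, hxU⟩).asIdeal := by
      rw [← IsLocalization.AtPrime.to_map_mem_maximal_iff (X.presheaf.stalk y)
        (hU.primeIdealOf ⟨y, hxU⟩).asIdeal a, hmax']
      exact Ideal.subset_span rfl
    exact (Groth.Agent.Lib.Helper14.mem_basicOpen_iff_notMem_primeIdealOf hU y hxU a).1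
      h.2 hap
  refine ⟨X.basicOpen g, hV, hyg, ρ.hom a, hVU.trans hUV₀, ?_, hdiv, ?_⟩
  · have : X.presheaf.germ (X.basicOpen g) y hyg (ρ.hom a) =
        algebraMap Γ(X, U) (X.presheaf.stalk y) a :=
      X.presheaf.germ_res_apply (homOfLE hVU) y hyg a
    rw [this]
    exact hirr
  · intro z hz hzy
    let W : X.Opens := ⟨({y} : Set X)ᶜ, hy.isOpen_compl⟩
    obtain ⟨b, hbW, hzb⟩ := hV.exists_basicOpen_le (V := W) ⟨z, hzy⟩ hz
    have hyb : y ∉ X.basicOpen b := fun h => hbW h rfl
    obtain ⟨c, rfl⟩ := hdiv b hyb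
    rw [Scheme.basicOpen_mul] at hzb
    exact hzb.2

end U

end Part1

section Part2

open Groth.Agent.Lib.R2H1.TateRes Groth.Agent.Lib.R2H1.CurveRes Groth.Agent.Lib.R2H1.MVDelta
  Groth.Agent.Lib.R2H1.OmegaCurve
  Groth.Agent.Lib.R2H1.ResFunctional
  Groth.Agent.Lib.R2H1.InvHom

section B

variable (k : Type u) [Field k] [IsAlgClosed k] (X : Scheme.{u})
  [X.Over (Spec (CommRingCat.of k))]
  [IsIntegral X] [IsProper (X ↘ (Spec (CommRingCat.of k)))]

attribute [local instance] Curv2.stalkAlgebra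

theorem algebraMap_germ {V : X.Opens} {x : X} (hx : x ∈ V) (a : Γ(X, V)) :
    algebraMap (X.presheaf.stalk x) X.functionField (X.presheaf.germ V x hx a) =
      X.presheaf.germ V (genericPoint X) (genericPoint_mem X hx) a := by
  change (X.presheaf.stalkSpecializes _).hom (X.presheaf.germ V x hx a) = _
  rw [← CommRingCat.comp_apply, X.presheaf.germ_stalkSpecializes]

variable (hdim : topologicalKrullDim X = 1)
  (hreg : ∀ x : X, IsRegularLocalRing (X.presheaf.stalk x))

/-- the logarithmic differential of a local uniformizer has residue one -/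
theorem resx_dlog_section (y : X) (hy : IsClosed ({y} : Set X)) (V : X.Opens)
    (hV : IsAffineOpen V) (hyV : y ∈ V) (u : Γ(X, V))
    (hirr : Irreducible (X.presheaf.germ V y hyV u))
    (v : Γ(X, V ⊓ compl1 X y hy))
    (hv : v * X.presheaf.map (homOfLE (inf_le_left : V ⊓ compl1 X y hy ≤ V)).op u = 1) :
    ρ1 k X hdim hreg y hy V hV hyV
      (v • dΩ k X (V ⊓ compl1 X y hy)
        (X.presheaf.map (homOfLE (inf_le_left : V ⊓ compl1 X y hy ≤ V)).op u)) = 1 := by
  change resx k X hdim hreg y hy (iU k X _ _ _ (v • dΩ k X (V ⊓ compl1 X y hy) _)) = 1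
  rw [iU_smul, iU_d]
  have hη := gen_mem1 k X hdim hreg y hy hyV
  have h1 : X.presheaf.germ (V ⊓ compl1 X y hy) (genericPoint X) hη
      (X.presheaf.map (homOfLE (inf_le_left : V ⊓ compl1 X y hy ≤ V)).op u) =
      algebraMap (X.presheaf.stalk y) X.functionField (X.presheaf.germ V y hyV u) := by
    rw [algebraMap_germ]
    exact X.presheaf.germ_res_apply (homOfLE inf_le_left) (genericPoint X) hη u
  have h2 : X.presheaf.germ (V ⊓ compl1 X y hy) (genericPoint X) hη v =
      (algebraMap (X.presheaf.stalk y) X.functionField (X.presheaf.germ V y hyV u))⁻¹ := by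
    have h3 := congrArg (X.presheaf.germ (V ⊓ compl1 X y hy) (genericPoint X) hη) hv
    rw [map_mul, map_one, h1] at h3
    exact eq_inv_of_mul_eq_one_left h3
  rw [h1, h2]
  exact resx_dlog k X hdim hreg y hy _ hirr

open Groth.Agent.Lib.R2H2.HHLin in
/-- **key local step**: the function by which a morphism `θ : Ω ⟶ ω` realizing the residue
functional multiplies local generators does not vanish at any closed point -/
theorem mem_basicOpen_of_local_data {ω : X.Modules} (θ : Om k X ⟶ ω)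
    (t : Coh.HH X ω 1 →ₗ[k] k) (ψ : Coh.HH X (Om k X) 1 →ₗ[k] k)
    (hψ : ∀ x, ψ x = t (HmapL θ 1 x))
    (hrp : ∀ (y : X) (hy : IsClosed ({y} : Set X)) (V : X.Opens) (hV : IsAffineOpen V)
      (hyV : y ∈ V), RP k X hdim hreg ψ.toAddMonoidHom y hy V hV hyV)
    (y : X) (hy : IsClosed ({y} : Set X)) (W : X.Opens) (hyW : y ∈ W)
    (gN : Γ(Om k X, W)) (gL : Γ(ω, W)) (f : Γ(X, W))
    (hbN : ∀ (W' : X.Opens) (h : W' ≤ W),
      Function.Bijective (fun r : Γ(X, W') => r • res (Om k X) h gN))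
    (hθ : θ.app W gN = f • gL) : y ∈ X.basicOpen f := by
  by_contra hyf
  haveI := Groth.Agent.Lib.R2H1.CurveEuler.isNoetherian_of_proper k X
  haveI := Groth.Agent.Lib.R2H1.PointTwist.isDVR_of_closed k X hdim hreg y hy
  obtain ⟨V, hV, hyV, u, hVW, hirr, hdiv, hunit⟩ := exists_local_uniformizer X y hy W hyW
  -- `f` is divisible by `u` on `V`
  have hyf' : y ∉ X.basicOpen (X.presheaf.map (homOfLE hVW).op f) := by
    rw [Scheme.basicOpen_res]
    exact fun h => hyf h.2
  obtain ⟨f₁, hf₁⟩ := hdiv _ hyf'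
  -- `du = c • gN`
  obtain ⟨c, hc⟩ := (hbN V hVW).2 (dΩ k X V u)
  have hc' : c • res (Om k X) hVW gN = dΩ k X V u := hc
  -- the punctured neighbourhood
  have hle : V ⊓ compl1 X y hy ≤ V := inf_le_left
  have hleW : V ⊓ compl1 X y hy ≤ W := hle.trans hVW
  have hunit' : IsUnit (X.presheaf.map (homOfLE hle).op u) :=
    isUnit_res_of_le_basicOpen u hle (fun z hz => hunit z hz.1 hz.2)
  obtain ⟨v, hv⟩ : ∃ v : Γ(X, V ⊓ compl1 X y hy), v * X.presheaf.map (homOfLE hle).op u = 1 :=
    ⟨↑(hunit'.unit⁻¹), by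
      have := hunit'.unit.inv_mul
      rwa [IsUnit.unit_spec] at this⟩
  have hres1 := resx_dlog_section k X hdim hreg y hy V hV hyV u hirr v hv
  set s : Γ(Om k X, V ⊓ compl1 X y hy) :=
    v • dΩ k X (V ⊓ compl1 X y hy) (X.presheaf.map (homOfLE hle).op u) with hs
  -- `θ s` extends over `V`
  have hd : dΩ k X (V ⊓ compl1 X y hy) (X.presheaf.map (homOfLE hle).op u) =
      res (Om k X) hle (dΩ k X V u) :=
    (OmegaSh.dOmega (X ↘ (Spec (CommRingCat.of k)))).d_map (homOfLE hle).op u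
  have hθs : θ.app (V ⊓ compl1 X y hy) s =
      rs ω (inf_le_left : V ⊓ compl1 X y hy ≤ V) ((c * f₁) • res ω hVW gL) := by
    rw [hs, hd, ← hc', res_smul, res_res, Scheme.Modules.Hom.app_smul,
      Scheme.Modules.Hom.app_smul, app_res, hθ, res_smul]
    change _ = res ω hle ((c * f₁) • res ω hVW gL)
    rw [res_smul, res_res, smul_smul, smul_smul]
    congr 1
    have e1 : X.presheaf.map (homOfLE hleW).op f =
        X.presheaf.map (homOfLE hle).op (X.presheaf.map (homOfLE hVW).op f) := by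
      rw [← CommRingCat.comp_apply, ← Functor.map_comp]
      rfl
    rw [e1, hf₁, map_mul, map_mul]
    calc v * (X.presheaf.map (homOfLE hle).op) c *
          ((X.presheaf.map (homOfLE hle).op) f₁ * (X.presheaf.map (homOfLE hle).op) u)
        = (v * (X.presheaf.map (homOfLE hle).op) u) *
          ((X.presheaf.map (homOfLE hle).op) c * (X.presheaf.map (homOfLE hle).op) f₁) := by
          ring
      _ = _ := by rw [hv, one_mul]
  have hz : mvδM ω V (compl1 X y hy) (cov1 X y hy hyV) (θ.app (V ⊓ compl1 X y hy) s) = 0 := by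
    rw [mvδM_eq_zero_iff]
    refine ⟨(c * f₁) • res ω hVW gL, 0, ?_⟩
    rw [hθs]
    unfold rs
    rw [map_zero, sub_zero]
  have h1 := hrp y hy V hV hyV s
  change ψ (mvδM (Om k X) V (compl1 X y hy) (cov1 X y hy hyV) s) = _ at h1
  rw [hres1, hψ, mvδM_naturality, hz, map_zero] at h1
  exact zero_ne_one h1

end B

end Part2

section Part3

open Groth.Agent.Lib.R2H1.TateRes Groth.Agent.Lib.R2H1.CurveRes Groth.Agent.Lib.R2H1.MVDelta
  Groth.Agent.Lib.R2H1.OmegaCurve
  Groth.Agent.Lib.R2H1.ResFunctional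
  Groth.Agent.Lib.R2H1.InvHom

section C

variable (k : Type u) [Field k] [IsAlgClosed k] (X : Scheme.{u})
  [X.Over (Spec (CommRingCat.of k))]
  [IsIntegral X] [IsProper (X ↘ (Spec (CommRingCat.of k)))]

attribute [local instance] Curv2.stalkAlgebra

variable (hdim : topologicalKrullDim X = 1)
  (hreg : ∀ x : X, IsRegularLocalRing (X.presheaf.stalk x))

open Groth.Agent.Lib.R2H2.HHLin Groth.Agent.Lib.Helper23.SecTw in
/-- a morphism `θ : Ω ⟶ ω` to an invertible module realizing the residue functional is an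
isomorphism -/
theorem isIso_of_residue {ω : X.Modules} (hω : PicF.IsInvertible ω) (θ : Om k X ⟶ ω)
    (t : Coh.HH X ω 1 →ₗ[k] k) (ψ : Coh.HH X (Om k X) 1 →ₗ[k] k)
    (hψ : ∀ x, ψ x = t (HmapL θ 1 x))
    (hrp : ∀ (y : X) (hy : IsClosed ({y} : Set X)) (V : X.Opens) (hV : IsAffineOpen V)
      (hyV : y ∈ V), RP k X hdim hreg ψ.toAddMonoidHom y hy V hV hyV) : IsIso θ := by
  have hΩ := isInvertible_Om k X hdim hreg
  refine Groth.Agent.Lib.R2H4FibTriv.isIso_of_locally_gen θ hΩ fun x => ?_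
  haveI : JacobsonSpace X := LocallyOfFiniteType.jacobsonSpace (X ↘ (Spec (CommRingCat.of k)))
  obtain ⟨y, hyx, hy⟩ := nonempty_inter_closedPoints (Z := closure ({x} : Set X))
    ⟨x, subset_closure rfl⟩ isClosed_closure.isLocallyClosed
  have hy' : IsClosed ({y} : Set X) := hy
  have hspec : x ⤳ y := specializes_iff_mem_closure.2 hyx
  obtain ⟨W, gN, gL, f, hyW, hbN, hbL, hθ⟩ := exists_local_data hΩ hω θ y
  have hyf := mem_basicOpen_of_local_data k X hdim hreg θ t ψ hψ hrp y hy' W hyW gN gL f hbN hθ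
  have hxf : x ∈ X.basicOpen f := hspec.mem_open (X.basicOpen f).isOpen hyf
  have hle : X.basicOpen f ≤ W := X.basicOpen_le f
  refine ⟨X.basicOpen f, hxf, res (Om k X) hle gN, ?_⟩
  have hgL : IsGen ω W gL := hbL
  have h1 : θ.app (X.basicOpen f) (res (Om k X) hle gN) =
      X.presheaf.map (homOfLE hle).op f • res ω hle gL := by
    rw [app_res, hθ, res_smul]
  rw [h1]
  exact Groth.Agent.Lib.Helper20.UFDPic.isGen_unit_smul (hgL.mono hle) _
    (RingedSpace.isUnit_res_basicOpen X.toRingedSpace f)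

end C

end Part3

section Part4

open Groth.Agent.Lib.R2H2.HHLin Groth.Agent.Lib.R2H2.DualRep Groth.Agent.Lib.R2H2.DualExtGen
  Groth.Agent.Lib.R2H2.PnBeilinson Groth.Agent.Lib.R2H1.CurveEuler Groth.Agent.Lib.R2H1.CurveDegSec
  Groth.Agent.Lib.R2H1.EulerAdd Groth.Agent.Lib.R2H1.LiftZero

section Num

variable (k : Type u) [Field k] [IsAlgClosed k] (X : Scheme.{u})
  [X.Over (Spec (CommRingCat.of k))]
  [IsIntegral X] [IsProper (X ↘ (Spec (CommRingCat.of k)))]

variable {ω : X.Modules} (t : Coh.HH X ω 1 →ₗ[k] k)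

theorem dualityL_bijective (F : X.Modules) (hI : Inj t F) (hS : Sur t F) :
    Function.Bijective (dualityL t F) := by
  constructor
  · rw [injective_iff_map_eq_zero]
    intro φ hφ
    exact hI φ (fun x => by
      have := LinearMap.congr_fun hφ x
      rwa [dualityL_apply] at this)
  · intro η
    obtain ⟨φ, hφ⟩ := hS η
    refine ⟨φ, LinearMap.ext fun x => ?_⟩
    rw [dualityL_apply, hφ]

variable (hdim : topologicalKrullDim X = 1)

include hdim in
/-- numerics of a dualizing pair on a curve: `h⁰(ω) = g`, `h¹(ω) = 1`, `deg ω = 2g - 2` -/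
theorem dualizing_numerics (hω : PicF.IsInvertible ω) (ht : t ≠ 0)
    (hdual : ∀ F : X.Modules, Coh.IsCoh F → Inj t F ∧ Sur t F) :
    Module.finrank k (Coh.HH X ω 0) = Curv2.genus k X ∧
      Module.finrank k (Coh.HH X ω 1) = 1 ∧
      Curv2.deg k X ω 1 = 2 * (Curv2.genus k X : ℤ) - 2 := by
  haveI := isNoetherian_of_proper k X
  have cω := isCoh_of_isInvertible ω hω
  have cO : Coh.IsCoh (Coh.structureModule X) :=
    Groth.Agent.Lib.R2H1.GenusLe.isCoh_structureModule X
  haveI := finite_HH k X _ cO 1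
  haveI := finite_HH k X _ cω 1
  -- h⁰(ω) = g
  have h0 : Module.finrank k (Coh.HH X ω 0) = Curv2.genus k X := by
    rw [← (clsEquiv (k := k) ω).finrank_eq]
    have e := LinearEquiv.ofBijective (dualityL t (Coh.structureModule X))
      (dualityL_bijective k X t _ (hdual _ cO).1 (hdual _ cO).2)
    rw [e.finrank_eq, Subspace.dual_finrank_eq]
    rfl
  -- h¹(ω) = 1
  have h1 : Module.finrank k (Coh.HH X ω 1) = 1 := by
    have e := LinearEquiv.ofBijective (dualityL t ω)
      (dualityL_bijective k X t _ (hdual _ cω).1 (hdual _ cω).2)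
    rw [← Subspace.dual_finrank_eq, ← e.finrank_eq]
    have hid : (𝟙 ω : ω ⟶ ω) ≠ 0 := by
      intro h
      apply ht
      refine LinearMap.ext fun x => ?_
      rw [← HmapL_id ω 1 x, h, HmapL_zero, map_zero, LinearMap.zero_apply]
    rw [finrank_eq_one_iff_of_nonzero' (𝟙 ω) hid]
    intro φ
    obtain ⟨c, hc⟩ := Groth.Agent.Lib.R2H1.VBEndo.endo_invertible_eq_smul k X hdim ω hω φ
    exact ⟨c, hc.symm⟩
  refine ⟨h0, h1, ?_⟩
  have e1 := euler_eq_h0_sub_h1 k X hdim.le _ cω.1
  have χO := euler_structure k X hdim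
  unfold Curv2.deg
  rw [e1, χO, h0, h1]
  push_cast
  ring

end Num

end Part4

section Part5

open Groth.Agent.Lib.R2H1.TateRes Groth.Agent.Lib.R2H1.CurveRes Groth.Agent.Lib.R2H1.MVDelta
  Groth.Agent.Lib.R2H1.OmegaCurve
  Groth.Agent.Lib.R2H1.ResFunctional
  Groth.Agent.Lib.R2H1.InvHom
  Groth.Agent.Lib.R2H2.HHLin Groth.Agent.Lib.R2H2.DualRep Groth.Agent.Lib.R2H1.SerreDual
  Groth.Agent.Lib.R2H1.CurveDegSec

section E

variable (k : Type u) [Field k] [IsAlgClosed k] (X : Scheme.{u})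
  [X.Over (Spec (CommRingCat.of k))]
  [IsIntegral X] [IsProper (X ↘ (Spec (CommRingCat.of k)))]

attribute [local instance] Curv2.stalkAlgebra

variable (hdim : topologicalKrullDim X = 1)
  (hreg : ∀ x : X, IsRegularLocalRing (X.presheaf.stalk x))

/-- **Serre duality with differentials and residues**: on an integral proper regular curve over an
algebraically closed field, the sheaf of differentials `Ω` is invertible, and there is a nonzero
linear form `ψ` on `H¹(X, Ω)` which computes residues at every closed point through the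
Mayer–Vietoris boundary and for which `φ ↦ ψ ∘ H¹(φ)` is a bijection
`Hom(F, Ω) → H¹(X, F)^∨` for every coherent `F` -/
theorem serre_duality_Om :
    PicF.IsInvertible (Om k X) ∧ ∃ ψ : Coh.HH X (Om k X) 1 →ₗ[k] k, ψ ≠ 0 ∧
      (∀ (y : X) (hy : IsClosed ({y} : Set X)) (V : X.Opens) (hV : IsAffineOpen V)
        (hyV : y ∈ V), RP k X hdim hreg ψ.toAddMonoidHom y hy V hV hyV) ∧
      ∀ F : X.Modules, Coh.IsCoh F → Inj ψ F ∧ Sur ψ F := by
  have hΩ := isInvertible_Om k X hdim hreg
  have cΩ := isCoh_of_isInvertible _ hΩ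
  obtain ⟨ω, hω, t, -, ht0, hdual⟩ := exists_dualizing k X hdim hreg
  obtain ⟨ψ, hrp⟩ := exists_residue_functional k X hdim hreg
  obtain ⟨θ, hθ⟩ := (hdual _ cΩ).2 ψ
  haveI := isIso_of_residue k X hdim hreg hω θ t ψ hθ hrp
  have hψt : ∀ x, t x = ψ (HmapL (inv θ) 1 x) := by
    intro x
    rw [hθ, ← HmapL_comp, IsIso.inv_hom_id, HmapL_id]
  refine ⟨hΩ, ψ, ?_, hrp, fun F hF => ⟨?_, ?_⟩⟩
  · intro h0
    apply ht0
    refine LinearMap.ext fun x => ?_
    rw [hψt, h0, LinearMap.zero_apply, LinearMap.zero_apply]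
  · intro φ hφ
    have h1 : φ ≫ θ = 0 := (hdual F hF).1 (φ ≫ θ) (fun x => by
      rw [HmapL_comp, ← hθ]
      exact hφ x)
    rw [← cancel_mono θ, h1, zero_comp]
  · intro η
    obtain ⟨φ', hφ'⟩ := (hdual F hF).2 η
    refine ⟨φ' ≫ inv θ, fun x => ?_⟩
    rw [hφ', hθ, ← HmapL_comp, Category.assoc, IsIso.inv_hom_id, Category.comp_id]

include hdim hreg in
/-- `h⁰(Ω) = g`, `h¹(Ω) = 1` and `deg Ω = 2g - 2` -/
theorem numerics_Om :
    Module.finrank k (Coh.HH X (Om k X) 0) = Curv2.genus k X ∧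
      Module.finrank k (Coh.HH X (Om k X) 1) = 1 ∧
      Curv2.deg k X (Om k X) 1 = 2 * (Curv2.genus k X : ℤ) - 2 := by
  obtain ⟨hΩ, ψ, hψ0, -, hdual⟩ := serre_duality_Om k X hdim hreg
  exact dualizing_numerics k X ψ hdim hΩ hψ0 hdual

end E

end Part5

end Groth.Agent.Lib.R2H1.OmegaDual
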