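import Mathlib
import Groth.Prelude
import Groth.Agent.Lib.R2H1OmegaDual
import Groth.Agent.Lib.R2H1Clifford
import Groth.Agent.Lib.R2H1VBIndecTwo
import Groth.Agent.Lib.R2H2ClosedPnLin
set_option backward.isDefEq.respectTransparency.types false

/-!
helper1 (run 2): numerical Serre duality with the sheaf of differentials on integral proper regular curves over alg closed k. h1_eq_finrank_hom (h1(F) = dim Hom(F, Ω) for coherent F), riemann_roch (h0 - h1 = deg + 1 - g for invertible N), serre_numerics (N invertible with inverse P: h1(N) = h0(P ⊗ Ω) and h0(N) = h1(P ⊗ Ω)), h0_le_one_of_deg_one (g >= 1: degree one invertible modules have at most one section), isGloballyGenerated_Om (g >= 1: Ω is globally generated).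
-/

set_option autoImplicit false
set_option linter.style.haveILetI false
set_option linter.unusedSectionVars false
universe u v

open CategoryTheory CategoryTheory.Limits AlgebraicGeometry TopologicalSpace Opposite

namespace Groth.Agent.Lib.R2H1.SerreNum

section Part1

open Groth.Agent.Lib.R2H1.OmegaCurve Groth.Agent.Lib.R2H1.OmegaDual
  Groth.Agent.Lib.R2H2.HHLin Groth.Agent.Lib.R2H2.DualRep Groth.Agent.Lib.R2H2.DualExtGen
  Groth.Agent.Lib.R2H2.PnBeilinson Groth.Agent.Lib.R2H1.CurveEuler Groth.Agent.Lib.R2H1.CurveDegSec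
  Groth.Agent.Lib.R2H1.EulerAdd Groth.Agent.Lib.R2H1.LiftZero Groth.Agent.Lib.R2H1.SerreDual
  Groth.Agent.Lib.R2H1.PicLaw Groth.Agent.Lib.R2H1.Clifford

section A

variable (k : Type u) [Field k] [IsAlgClosed k] (X : Scheme.{u})
  [X.Over (Spec (CommRingCat.of k))]
  [IsIntegral X] [IsProper (X ↘ (Spec (CommRingCat.of k)))]

variable (hdim : topologicalKrullDim X = 1)
  (hreg : ∀ x : X, IsRegularLocalRing (X.presheaf.stalk x))

include hdim hreg in
/-- `h¹(F) = dim Hom(F, Ω)` for coherent `F` -/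
theorem h1_eq_finrank_hom (F : X.Modules) (hF : Coh.IsCoh F) :
    Module.finrank k (Coh.HH X F 1) = Module.finrank k (F ⟶ Om k X) := by
  haveI := isNoetherian_of_proper k X
  obtain ⟨-, ψ, -, -, hdual⟩ := serre_duality_Om k X hdim hreg
  haveI := finite_HH k X F hF 1
  have e := LinearEquiv.ofBijective (dualityL ψ F)
    (dualityL_bijective k X ψ F (hdual F hF).1 (hdual F hF).2)
  rw [e.finrank_eq, Subspace.dual_finrank_eq]

include hdim hreg in
/-- Riemann–Roch for an invertible module -/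
theorem riemann_roch (N : X.Modules) (hN : PicF.IsInvertible N) :
    (Module.finrank k (Coh.HH X N 0) : ℤ) - Module.finrank k (Coh.HH X N 1) =
      Curv2.deg k X N 1 + 1 - Curv2.genus k X := by
  haveI := isNoetherian_of_proper k X
  have cN := isCoh_of_isInvertible N hN
  have e1 := euler_eq_h0_sub_h1 k X hdim.le _ cN.1
  have χO := euler_structure k X hdim
  unfold Curv2.deg
  rw [← e1, χO]
  push_cast
  ring

include hdim hreg in
/-- **Serre duality, numerical form**: for an invertible module `N` with inverse `P`,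
`h¹(N) = h⁰(P ⊗ Ω)` and `h⁰(N) = h¹(P ⊗ Ω)` -/
theorem serre_numerics (N P : X.Modules) (hN : PicF.IsInvertible N) (hP : PicF.IsInvertible P)
    (e : CohB1.tensorMod P N ≅ Coh.structureModule X) :
    Module.finrank k (Coh.HH X N 1) =
        Module.finrank k (Coh.HH X (CohB1.tensorMod P (Om k X)) 0) ∧
      Module.finrank k (Coh.HH X N 0) =
        Module.finrank k (Coh.HH X (CohB1.tensorMod P (Om k X)) 1) := by
  haveI := isNoetherian_of_proper k X
  letI := lawOfIntegral X
  have hΩ := isInvertible_Om k X hdim hreg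
  have hO := Groth.Agent.Lib.Helper23.TensorUnit.isInvertible_structureModule X
  obtain ⟨Q, hQ, ⟨eQ⟩⟩ := Groth.Agent.Lib.R2H1.InvExists.exists_inverse (Om k X) hΩ
  have hPΩ := Groth.Agent.Lib.Helper23.SecTw.isInvertible_tensorMod hP hΩ
  have hNQ := Groth.Agent.Lib.Helper23.SecTw.isInvertible_tensorMod hN hQ
  have cN := isCoh_of_isInvertible N hN
  have cPΩ := isCoh_of_isInvertible _ hPΩ
  -- group relations
  have g1 := cls_mul_eq_of_iso hP hN hO e
  have g2 := cls_mul_eq_of_iso hΩ hQ hO eQ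
  rw [PicGrp.cls_structureModule_eq_one] at g1 g2
  -- first injection
  obtain ⟨Φ₁, hΦ₁⟩ := exists_hom_injection k X hdim hP hN hΩ e
  -- second injection
  obtain ⟨e₂⟩ : Nonempty (CohB1.tensorMod (CohB1.tensorMod N Q) (CohB1.tensorMod P (Om k X)) ≅
      Coh.structureModule X) := by
    apply iso_of_cls_mul_eq hNQ hPΩ hO
    rw [← cls_mul hN hQ, ← cls_mul hP hΩ, PicGrp.cls_structureModule_eq_one]
    calc PicGrp.cls N hN * PicGrp.cls Q hQ * (PicGrp.cls P hP * PicGrp.cls (Om k X) hΩ)
        = (PicGrp.cls P hP * PicGrp.cls N hN) * (PicGrp.cls (Om k X) hΩ * PicGrp.cls Q hQ) := by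
          rw [mul_mul_mul_comm, mul_comm (PicGrp.cls N hN), mul_comm (PicGrp.cls Q hQ)]
      _ = 1 := by rw [g1, g2, one_mul]
  obtain ⟨Φ₂, hΦ₂⟩ := exists_hom_injection k X hdim hNQ hPΩ hΩ e₂
  obtain ⟨e₃⟩ : Nonempty (CohB1.tensorMod (CohB1.tensorMod N Q) (Om k X) ≅ N) := by
    apply iso_of_cls_mul_eq hNQ hΩ hN
    rw [← cls_mul hN hQ, mul_assoc, mul_comm (PicGrp.cls Q hQ), g2, mul_one]
  -- finiteness
  haveI := finite_HH k X _ cN 0
  haveI := finite_HH k X _ cN 1
  haveI := finite_HH k X _ cPΩ 0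
  haveI := finite_HH k X _ cPΩ 1
  have hNQΩ := Groth.Agent.Lib.Helper23.SecTw.isInvertible_tensorMod hNQ hΩ
  haveI := finite_HH k X _ (isCoh_of_isInvertible _ hNQΩ) 0
  haveI : Module.Finite k (N ⟶ Om k X) := by
    obtain ⟨-, ψ, -, -, hdual⟩ := serre_duality_Om k X hdim hreg
    exact Module.Finite.equiv (LinearEquiv.ofBijective (dualityL ψ N)
      (dualityL_bijective k X ψ N (hdual N cN).1 (hdual N cN).2)).symm
  haveI : Module.Finite k (CohB1.tensorMod P (Om k X) ⟶ Om k X) := by
    obtain ⟨-, ψ, -, -, hdual⟩ := serre_duality_Om k X hdim hreg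
    exact Module.Finite.equiv (LinearEquiv.ofBijective (dualityL ψ _)
      (dualityL_bijective k X ψ _ (hdual _ cPΩ).1 (hdual _ cPΩ).2)).symm
  -- inequalities
  have i1 : Module.finrank k (Coh.HH X (CohB1.tensorMod P (Om k X)) 0) ≤
      Module.finrank k (Coh.HH X N 1) := by
    rw [h1_eq_finrank_hom k X hdim hreg N cN, ← (clsEquiv (k := k) _).finrank_eq]
    exact LinearMap.finrank_le_finrank_of_injective hΦ₁
  have i2 : Module.finrank k (Coh.HH X N 0) ≤
      Module.finrank k (Coh.HH X (CohB1.tensorMod P (Om k X)) 1) := by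
    rw [h1_eq_finrank_hom k X hdim hreg _ cPΩ,
      ← Groth.Agent.Lib.R2H2.ClosedPnLin.finrank_HH_of_iso (A := k) e₃ 0,
      ← (clsEquiv (k := k) _).finrank_eq]
    exact LinearMap.finrank_le_finrank_of_injective hΦ₂
  -- Riemann–Roch
  have r1 := riemann_roch k X hdim hreg N hN
  have r2 := riemann_roch k X hdim hreg _ hPΩ
  obtain ⟨-, -, dΩ⟩ := numerics_Om k X hdim hreg
  have d1 := Groth.Agent.Lib.R2H1.VBIndecTwo.deg_tensor_invertible k X hdim hP hΩ
  have d2 := Groth.Agent.Lib.R2H1.VBTwist.deg_inverse k X hdim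
    (Groth.Agent.Lib.Helper23.SecTw.isFinLocFreeOfRank_one_of_isInvertible _ hP)
    (Groth.Agent.Lib.Helper23.SecTw.isFinLocFreeOfRank_one_of_isInvertible _ hN) e
  constructor <;> omega

end A

end Part1

section Part2

open Groth.Agent.Lib.R2H1.OmegaCurve Groth.Agent.Lib.R2H1.OmegaDual
  Groth.Agent.Lib.R2H2.HHLin Groth.Agent.Lib.R2H2.DualRep Groth.Agent.Lib.R2H2.DualExtGen
  Groth.Agent.Lib.R2H2.PnBeilinson Groth.Agent.Lib.R2H1.CurveEuler Groth.Agent.Lib.R2H1.CurveDegSec
  Groth.Agent.Lib.R2H1.EulerAdd Groth.Agent.Lib.R2H1.LiftZero Groth.Agent.Lib.R2H1.SerreDual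
  Groth.Agent.Lib.R2H1.PicLaw Groth.Agent.Lib.R2H1.Clifford Groth.Agent.Lib.R2H1.PointTwist

section B

variable (k : Type u) [Field k] [IsAlgClosed k] (X : Scheme.{u})
  [X.Over (Spec (CommRingCat.of k))]
  [IsIntegral X] [IsProper (X ↘ (Spec (CommRingCat.of k)))]

variable (hdim : topologicalKrullDim X = 1)
  (hreg : ∀ x : X, IsRegularLocalRing (X.presheaf.stalk x))

include hdim hreg in
/-- on a curve of positive genus an invertible module of degree one has at most one section -/
theorem h0_le_one_of_deg_one (hg : 1 ≤ Curv2.genus k X) (J : X.Modules)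
    (hJ : PicF.IsInvertible J) (hd : Curv2.deg k X J 1 = 1) :
    Module.finrank k (Coh.HH X J 0) ≤ 1 := by
  have r := riemann_roch k X hdim hreg J hJ
  by_cases h0 : 1 ≤ Module.finrank k (Coh.HH X J 0)
  · by_cases h1 : 1 ≤ Module.finrank k (Coh.HH X J 1)
    · have := clifford k X hdim hreg J hJ h0 h1
      omega
    · omega
  · omega

include hdim hreg in
/-- the canonical sheaf of a curve of positive genus is globally generated -/
theorem isGloballyGenerated_Om (hg : 1 ≤ Curv2.genus k X) :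
    Curv2.IsGloballyGenerated (Om k X) := by
  haveI := isNoetherian_of_proper k X
  letI := lawOfIntegral X
  have hΩ := isInvertible_Om k X hdim hreg
  have hO := Groth.Agent.Lib.Helper23.TensorUnit.isInvertible_structureModule X
  obtain ⟨h0Ω, -, dΩ⟩ := numerics_Om k X hdim hreg
  rw [s11330 k X hdim hreg (Om k X) hΩ]
  intro P hP
  have hI : PicF.IsInvertible (ClSub.idealMod (Scheme.IdealSheafData.vanishingIdeal ⟨{P}, hP⟩)) :=
    Groth.Agent.Helper18Cart.isInvertible_of_isEffCartier _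
      (point_isEffCartier k X hdim hreg P hP)
  have dI := deg_pointIdeal k X hdim hreg P hP
  set I := ClSub.idealMod (Scheme.IdealSheafData.vanishingIdeal ⟨{P}, hP⟩) with hIdef
  have hN := Groth.Agent.Lib.Helper23.SecTw.isInvertible_tensorMod hΩ hI
  obtain ⟨P', hP', ⟨e'⟩⟩ := Groth.Agent.Lib.R2H1.InvExists.exists_inverse _ hN
  have e : CohB1.tensorMod P' (CohB1.tensorMod (Om k X) I) ≅ Coh.structureModule X :=
    commI _ _ ≪≫ e'
  obtain ⟨s1, -⟩ := serre_numerics k X hdim hreg _ P' hN hP' e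
  have hJ := Groth.Agent.Lib.Helper23.SecTw.isInvertible_tensorMod hP' hΩ
  have dN := Groth.Agent.Lib.R2H1.VBIndecTwo.deg_tensor_invertible k X hdim hΩ hI
  have dP' := Groth.Agent.Lib.R2H1.VBTwist.deg_inverse k X hdim
    (Groth.Agent.Lib.Helper23.SecTw.isFinLocFreeOfRank_one_of_isInvertible _ hP')
    (Groth.Agent.Lib.Helper23.SecTw.isFinLocFreeOfRank_one_of_isInvertible _ hN) e
  have dJ := Groth.Agent.Lib.R2H1.VBIndecTwo.deg_tensor_invertible k X hdim hP' hΩ
  have hJ1 := h0_le_one_of_deg_one k X hdim hreg hg _ hJ (by rw [dJ]; omega)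
  have r := riemann_roch k X hdim hreg _ hN
  have b := h0_point_twist_bounds k X hdim hreg 1 (Om k X)
    (Groth.Agent.Lib.Helper23.SecTw.isFinLocFreeOfRank_one_of_isInvertible _ hΩ) P hP
  rw [← hIdef] at b
  omega

end B

end Part2

end Groth.Agent.Lib.R2H1.SerreNum
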