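import Mathlib
import Groth.Prelude
import Groth.Agent.Lib.R2H1IsoP1G
import Groth.Agent.Lib.Helper6SmGeom
import Groth.Agent.Lib.Helper6Var1
import Groth.Agent.Lib.Helper4EtNormalSch
import Groth.Agent.Lib.H9SteinConn
import Groth.Agent.Lib.H9SteinH0
import Groth.Agent.Lib.R2H4BCGlue
import Groth.Agent.Lib.R2H4FieldBC
import Groth.Agent.Lib.Helper18Grp2
import Groth.Agent.Lib.R2H1RegPoint
import Groth.Agent.Lib.Helper20OmegaQCoh
import Groth.Agent.Lib.R2H1OmegaDual
import Groth.Agent.Lib.R2H1SerreNum
import Groth.Agent.Lib.R2H1SubDegBound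
import Groth.Agent.Lib.Helper23RestrTensor
import Groth.Agent.Lib.Helper2FamDesc
import Groth.Agent.Lib.Helper26ModRank
import Groth.Agent.Lib.Helper2RankLoc
import Groth.Agent.Lib.Helper18PBUnit2
set_option backward.isDefEq.respectTransparency.types false

/-!
Base change of a smooth proper geometrically connected curve to the algebraic closure: integrality, dimension, regularity, cohomology ranks, degree, genus, Omega; numerics of Omega over any field; descent of isomorphisms of invertible modules; Omega invertible; characterisation of Omega by degree and sections; Omega trivial in genus one.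
-/

set_option autoImplicit false
set_option linter.style.haveILetI false
set_option linter.unusedSectionVars false
universe u v

open CategoryTheory CategoryTheory.Limits AlgebraicGeometry TopologicalSpace Opposite

namespace Groth.Agent.Lib.R2H1.CurveBC

section Part1

section A

/-- a connected scheme, smooth and quasi-compact over a field, is integral -/
theorem isIntegral_of_smooth_of_connected (K : Type u) [Field K] (Z : Scheme.{u})
    (g : Z ⟶ Spec (CommRingCat.of K)) [Smooth g] [QuasiCompact g] [ConnectedSpace Z] :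
    IsIntegral Z := by
  haveI : IsReduced Z := Groth.Agent.Lib.Helper6.SmGeom.isReduced_of_smooth_over_field K Z g
  have hdom : ∀ z : Z, IsDomain (Z.presheaf.stalk z) := by
    intro z
    haveI := Groth.Agent.Lib.Helper6.SmRegSch.isRegularLocalRing_stalk_of_smooth_over_field K Z g z
    exact Groth.Agent.Lib.Helper5.isDomain_of_isRegularLocalRing _
  haveI : LocallyOfFiniteType g := inferInstance
  haveI : IsLocallyNoetherian Z := LocallyOfFiniteType.isLocallyNoetherian g
  haveI : CompactSpace Z := QuasiCompact.compactSpace_of_compactSpace g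
  haveI : IsNoetherian Z := {}
  have hfin : (irreducibleComponents Z).Finite :=
    TopologicalSpace.NoetherianSpace.finite_irreducibleComponents
  haveI := Groth.Agent.Lib.Helper4.EtNormalSch.irreducibleSpace_of_connected hdom hfin
  exact isIntegral_of_irreducibleSpace_of_isReduced Z

variable (k : Type u) [Field k] (X : Scheme.{u}) [X.Over (Spec (CommRingCat.of k))]

/-- the base change of a geometrically connected scheme to a field extension is connected -/
theorem connectedSpace_bc [GeometricallyConnected (X ↘ Spec (CommRingCat.of k))]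
    (K : Type u) [Field K] [Algebra k K] : ConnectedSpace (Curv2.bc k X K) := by
  have h := ‹GeometricallyConnected (X ↘ Spec (CommRingCat.of k))›
  rw [geometricallyConnected_iff,
    geometrically_iff_of_commRing_of_isClosedUnderIsomorphisms] at h
  exact h K

end A

end Part1

section Part2



section B

variable (k : Type u) [Field k] (X : Scheme.{u}) [X.Over (Spec (CommRingCat.of k))]

open Groth.Agent.Lib.H9SteinConn Groth.Agent.Lib.H9SteinH0 in
/-- a proper `k`-scheme whose global functions are `k` is geometrically connected -/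
theorem geometricallyConnected_of_h0 [IsProper (X ↘ Spec (CommRingCat.of k))]
    (h0 : Module.finrank k (Coh.HH X (Coh.structureModule X) 0) = 1) :
    GeometricallyConnected (X ↘ Spec (CommRingCat.of k)) := by
  letI := algΓ k (X ↘ Spec (CommRingCat.of k))
  rw [(hh0LinearEquiv k X).finrank_eq] at h0
  haveI : Module.Finite k Γ(X, ⊤) := Module.finite_of_finrank_eq_succ h0
  have hbij : Function.Bijective (algebraMap k Γ(X, ⊤)) := by
    have hinj : Function.Injective (Algebra.linearMap k Γ(X, ⊤)) := by
      haveI : Nontrivial Γ(X, ⊤) := Module.nontrivial_of_finrank_eq_succ h0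
      exact (algebraMap k Γ(X, ⊤)).injective
    have : Function.Surjective (Algebra.linearMap k Γ(X, ⊤)) :=
      (LinearMap.injective_iff_surjective_of_finrank_eq_finrank
        (by rw [Module.finrank_self, h0])).1 hinj
    exact ⟨hinj, this⟩
  let e : k ≃+* Γ(X, ⊤) := RingEquiv.ofBijective (algebraMap k Γ(X, ⊤)) hbij
  rw [Groth.Agent.Lib.H9SteinConn.main k (X ↘ Spec (CommRingCat.of k))]
  refine ⟨e.isLocalRing, ?_, fun a => ⟨0, e.symm a, ?_⟩⟩
  · rw [← ringKrullDim_eq_of_ringEquiv e]
    exact ringKrullDim_eq_zero_of_field k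
  · have : (X ↘ Spec (CommRingCat.of k)).appTop.hom
        ((Scheme.ΓSpecIso (CommRingCat.of k)).inv.hom (e.symm a)) = a :=
      e.apply_symm_apply a
    rw [this, pow_zero, pow_one, sub_self]
    exact IsNilpotent.zero

end B

end Part2

section Part3



section C

variable (k : Type u) [Field k] (X : Scheme.{u}) [X.Over (Spec (CommRingCat.of k))]
  (K : Type u) [Field K] [Algebra k K]

/-- the structure of `K`-scheme on the base change -/
noncomputable abbrev bcOver : (Curv2.bc k X K).Over (Spec (CommRingCat.of K)) :=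
  ⟨Curv2.bcSnd k X K⟩

attribute [local instance] bcOver

theorem isPullback_bc :
    IsPullback (Curv2.bcFst k X K) ((Curv2.bc k X K) ↘ Spec (CommRingCat.of K))
      (X ↘ Spec (CommRingCat.of k)) (Spec.map (CommRingCat.ofHom (algebraMap k K))) :=
  IsPullback.of_hasPullback _ _

instance isProper_bc [IsProper (X ↘ Spec (CommRingCat.of k))] :
    IsProper ((Curv2.bc k X K) ↘ Spec (CommRingCat.of K)) := by
  change IsProper (pullback.snd _ _)
  infer_instance

instance smooth_bc [Smooth (X ↘ Spec (CommRingCat.of k))] :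
    Smooth ((Curv2.bc k X K) ↘ Spec (CommRingCat.of K)) := by
  change Smooth (pullback.snd _ _)
  infer_instance

/-- cohomology of a coherent module after base change -/
theorem finrank_HH_bc [IsProper (X ↘ Spec (CommRingCat.of k))] (N : X.Modules)
    (hN : Coh.IsCoh N) (i : ℕ) :
    Module.finrank K (Coh.HH (Curv2.bc k X K)
        ((Scheme.Modules.pullback (Curv2.bcFst k X K)).obj N) i) =
      Module.finrank k (Coh.HH X N i) :=
  Groth.Agent.Lib.R2H4BCGlue.finrank_eq_of_bc
    (Groth.Agent.Lib.R2H4FieldBC.fieldBC k K X (Curv2.bc k X K) (Curv2.bcFst k X K)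
      (isPullback_bc k X K) N hN i)

theorem genus_bc [IsProper (X ↘ Spec (CommRingCat.of k))] :
    Curv2.genus K (Curv2.bc k X K) = Curv2.genus k X :=
  Groth.Agent.Lib.R2H1.IsoP1G.finrank_HH_structure_bc k X K 1

/-- base change of the sheaf of differentials -/
theorem nonempty_omega_bc [QuasiSeparated (X ↘ Spec (CommRingCat.of k))] :
    Nonempty ((Scheme.Modules.pullback (Curv2.bcFst k X K)).obj
        (Omega.sheaf (X ↘ Spec (CommRingCat.of k))) ≅
      Omega.sheaf ((Curv2.bc k X K) ↘ Spec (CommRingCat.of K))) := by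
  haveI : QuasiSeparated ((Curv2.bc k X K) ↘ Spec (CommRingCat.of K)) := by
    change QuasiSeparated (pullback.snd _ _)
    infer_instance
  exact Groth.Agent.Helper18Grp.nonempty_bc_iso (X ↘ Spec (CommRingCat.of k))
    (Spec.map (CommRingCat.ofHom (algebraMap k K))) (Curv2.bcFst k X K)
    ((Curv2.bc k X K) ↘ Spec (CommRingCat.of K)) (isPullback_bc k X K)

/-- a smooth proper geometrically connected scheme over a field is integral -/
theorem isIntegral_of_geometricallyConnected [IsProper (X ↘ Spec (CommRingCat.of k))]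
    [Smooth (X ↘ Spec (CommRingCat.of k))]
    [GeometricallyConnected (X ↘ Spec (CommRingCat.of k))] : IsIntegral X := by
  haveI : ConnectedSpace X :=
    GeometricallyConnected.connectedSpace (X ↘ Spec (CommRingCat.of k))
      (X ↘ Spec (CommRingCat.of k)).isOpenMap
  exact isIntegral_of_smooth_of_connected k X (X ↘ Spec (CommRingCat.of k))

/-- the base change of a smooth proper geometrically connected scheme is integral -/
theorem isIntegral_bc [IsProper (X ↘ Spec (CommRingCat.of k))]
    [Smooth (X ↘ Spec (CommRingCat.of k))]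
    [GeometricallyConnected (X ↘ Spec (CommRingCat.of k))] : IsIntegral (Curv2.bc k X K) := by
  haveI := connectedSpace_bc k X K
  exact isIntegral_of_smooth_of_connected K (Curv2.bc k X K)
    ((Curv2.bc k X K) ↘ Spec (CommRingCat.of K))

theorem dim_bc [IsProper (X ↘ Spec (CommRingCat.of k))]
    [Smooth (X ↘ Spec (CommRingCat.of k))]
    [GeometricallyConnected (X ↘ Spec (CommRingCat.of k))] :
    topologicalKrullDim (Curv2.bc k X K) = topologicalKrullDim X := by
  haveI := isIntegral_of_geometricallyConnected k X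
  haveI := isIntegral_bc k X K
  exact Groth.Agent.Lib.R2H1.IsoP1G.dim_bc_eq k X K

theorem isRegularLocalRing_stalk_bc [Smooth (X ↘ Spec (CommRingCat.of k))]
    (x : Curv2.bc k X K) : IsRegularLocalRing ((Curv2.bc k X K).presheaf.stalk x) :=
  Groth.Agent.Lib.Helper6.SmRegSch.isRegularLocalRing_stalk_of_smooth_over_field K _
    ((Curv2.bc k X K) ↘ Spec (CommRingCat.of K)) x

end C

end Part3

section Part4



section D

variable (k : Type u) [Field k] (X : Scheme.{u}) [X.Over (Spec (CommRingCat.of k))]
  (K : Type u) [Field K] [Algebra k K]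

attribute [local instance] bcOver

theorem euler_bc [IsProper (X ↘ Spec (CommRingCat.of k))] (F : X.Modules) (hF : Coh.IsCoh F) :
    Curv2.euler K (Curv2.bc k X K) ((Scheme.Modules.pullback (Curv2.bcFst k X K)).obj F) =
      Curv2.euler k X F :=
  Groth.Agent.Lib.R2H4BCGlue.s7673 Groth.Agent.Lib.R2H4FieldBC.fieldBC k X K F hF

theorem euler_structure_bc [IsProper (X ↘ Spec (CommRingCat.of k))] :
    Curv2.euler K (Curv2.bc k X K) (Coh.structureModule (Curv2.bc k X K)) =
      Curv2.euler k X (Coh.structureModule X) :=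
  Groth.Agent.Lib.R2H4BCGlue.euler_structure_eq (Curv2.bcFst k X K)
    (fun i => Groth.Agent.Lib.R2H4FieldBC.fieldBC k K X (Curv2.bc k X K) (Curv2.bcFst k X K)
      (isPullback_bc k X K) _ (Groth.Agent.Lib.R2H4BCGlue.isCoh_structureModule X) i)

theorem deg_bc [IsProper (X ↘ Spec (CommRingCat.of k))] (F : X.Modules) (hF : Coh.IsCoh F)
    (n : ℕ) :
    Curv2.deg K (Curv2.bc k X K) ((Scheme.Modules.pullback (Curv2.bcFst k X K)).obj F) n =
      Curv2.deg k X F n := by
  unfold Curv2.deg
  rw [euler_bc k X K F hF, euler_structure_bc k X K]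

open Groth.Agent.Lib.Helper20.OmegaQCoh in
theorem isCoh_omega {X S : Scheme.{u}} (f : X ⟶ S) [LocallyOfFiniteType f] [QuasiSeparated f] :
    Coh.IsCoh (Omega.sheaf f) :=
  ⟨isQuasicoherent_omega f, isFiniteType_omega f⟩

/-- **differentials of a smooth proper geometrically connected curve over any field**:
`h⁰(Ω) = g` and `deg Ω = 2g - 2` -/
theorem numerics_omega_of_geometricallyConnected [IsProper (X ↘ Spec (CommRingCat.of k))]
    [Smooth (X ↘ Spec (CommRingCat.of k))]
    [GeometricallyConnected (X ↘ Spec (CommRingCat.of k))]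
    (hdim : topologicalKrullDim X = 1) :
    Module.finrank k (Coh.HH X (Omega.sheaf (X ↘ Spec (CommRingCat.of k))) 0) =
        Curv2.genus k X ∧
      Curv2.deg k X (Omega.sheaf (X ↘ Spec (CommRingCat.of k))) 1 =
        2 * (Curv2.genus k X : ℤ) - 2 := by
  let K := AlgebraicClosure k
  haveI := isIntegral_bc k X K
  have hdim' : topologicalKrullDim (Curv2.bc k X K) = 1 := (dim_bc k X K).trans hdim
  have hreg' := isRegularLocalRing_stalk_bc k X K
  obtain ⟨h0, -, d⟩ := Groth.Agent.Lib.R2H1.OmegaDual.numerics_Om K (Curv2.bc k X K) hdim' hreg'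
  obtain ⟨e⟩ := nonempty_omega_bc k X K
  have cΩ := isCoh_omega (X ↘ Spec (CommRingCat.of k))
  constructor
  · rw [← finrank_HH_bc k X K _ cΩ 0,
      Groth.Agent.Lib.R2H2.ClosedPnLin.finrank_HH_of_iso (A := K) e 0, ← genus_bc k X K]
    exact h0
  · rw [← deg_bc k X K _ cΩ 1, Groth.Agent.Lib.R2H1.CurveAmple.deg_congr K _ e 1,
      ← genus_bc k X K]
    exact d

end D

end Part4

section Part5

open  Groth.Agent.Lib.R2H1.PicLaw Groth.Agent.Lib.R2H1.Clifford Groth.Agent.Lib.R2H1.CurveDegSec
  Groth.Agent.Lib.R2H1.CurveAmple Groth.Agent.Lib.R2H2.PnBeilinson Groth.Agent.Lib.R2H1.InvHom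
  Groth.Agent.Lib.R2H1.GenusZero

section E

variable (k : Type u) [Field k] (X : Scheme.{u}) [X.Over (Spec (CommRingCat.of k))]
  [IsProper (X ↘ Spec (CommRingCat.of k))] [IsIntegral X]

/-- on an integral proper scheme with only constant functions, an invertible module such that it
and an inverse both have nonzero sections is trivial -/
theorem iso_structure_of_sections
    (h0 : Module.finrank k (Coh.HH X (Coh.structureModule X) 0) = 1)
    (N N' : X.Modules) (hN : PicF.IsInvertible N) (hN' : PicF.IsInvertible N')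
    (e : CohB1.tensorMod N N' ≅ Coh.structureModule X)
    (s : Coh.structureModule X ⟶ N) (hs : s ≠ 0) (s' : Coh.structureModule X ⟶ N') (hs' : s' ≠ 0) :
    Nonempty (N ≅ Coh.structureModule X) := by
  have hO := Groth.Agent.Lib.Helper23.TensorUnit.isInvertible_structureModule X
  have hm : mulSec N s' ≠ 0 := mulSec_ne_zero N hN hN' s' hs'
  have hNN' := Groth.Agent.Lib.Helper23.SecTw.isInvertible_tensorMod hN hN'
  let r₀ : N ⟶ Coh.structureModule X := mulSec N s' ≫ e.hom
  have hr₀ : r₀ ≠ 0 := by
    intro h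
    apply hm
    have : mulSec N s' = r₀ ≫ e.inv := by
      change _ = (mulSec N s' ≫ e.hom) ≫ e.inv
      rw [Category.assoc, e.hom_inv_id, Category.comp_id]
    rw [this, h, zero_comp]
  haveI : Mono r₀ := mono_of_ne_zero hN hO r₀ hr₀
  have hc : s ≫ r₀ ≠ 0 := by
    intro h
    apply hs
    rw [← cancel_mono r₀, h, zero_comp]
  have h1 : Module.finrank k (Coh.structureModule X ⟶ Coh.structureModule X) = 1 := by
    rw [(clsEquiv (k := k) (Coh.structureModule X)).finrank_eq]
    exact h0
  have hid : (𝟙 (Coh.structureModule X)) ≠ 0 :=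
    Groth.Agent.Lib.R2H1.SubDegBound.id_structureModule_ne_zero' X
  obtain ⟨c, hc'⟩ := (finrank_eq_one_iff_of_nonzero' (𝟙 (Coh.structureModule X)) hid).1 h1
    (s ≫ r₀)
  have hc0 : c ≠ 0 := by
    rintro rfl
    rw [zero_smul] at hc'
    exact hc hc'.symm
  let r : N ⟶ Coh.structureModule X := c⁻¹ • r₀
  have hsr : s ≫ r = 𝟙 _ := by
    change s ≫ (c⁻¹ • r₀) = _
    rw [Linear.comp_smul, ← hc', smul_smul, inv_mul_cancel₀ hc0, one_smul]
  have hr : r ≠ 0 := by
    intro h
    apply hid
    rw [← hsr, h, comp_zero]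
  haveI : Mono r := mono_of_ne_zero hN hO r hr
  haveI : IsSplitEpi r := ⟨⟨⟨s, hsr⟩⟩⟩
  haveI : IsIso r := isIso_of_mono_of_isSplitEpi r
  exact ⟨asIso r⟩

end E

section F

variable (k : Type u) [Field k] (X : Scheme.{u}) [X.Over (Spec (CommRingCat.of k))]
  [IsProper (X ↘ Spec (CommRingCat.of k))] [Smooth (X ↘ Spec (CommRingCat.of k))]
  [GeometricallyConnected (X ↘ Spec (CommRingCat.of k))]

attribute [local instance] bcOver

/-- a smooth proper geometrically connected scheme has only constant functions -/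
theorem h0_structure_eq_one :
    Module.finrank k (Coh.HH X (Coh.structureModule X) 0) = 1 := by
  let K := AlgebraicClosure k
  haveI := isIntegral_bc k X K
  rw [← Groth.Agent.Lib.R2H1.IsoP1G.finrank_HH_structure_bc k X K 0]
  exact Groth.Agent.Lib.R2H1.RegPoint.finrank_H0_structure_eq_one K (Curv2.bc k X K)

/-- an invertible module which becomes trivial over the algebraic closure is trivial -/
theorem iso_structure_of_bc (N : X.Modules) (hN : PicF.IsInvertible N)
    (e : (Scheme.Modules.pullback (Curv2.bcFst k X (AlgebraicClosure k))).obj N ≅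
      Coh.structureModule (Curv2.bc k X (AlgebraicClosure k))) :
    Nonempty (N ≅ Coh.structureModule X) := by
  let K := AlgebraicClosure k
  haveI := isIntegral_of_geometricallyConnected k X
  haveI := isIntegral_bc k X K
  have h0 := h0_structure_eq_one k X
  have h0' := Groth.Agent.Lib.R2H1.RegPoint.finrank_H0_structure_eq_one K (Curv2.bc k X K)
  obtain ⟨N', hN', ⟨eN⟩⟩ := Groth.Agent.Lib.R2H1.InvExists.exists_inverse N hN
  let g := Curv2.bcFst k X K
  have hgN := Groth.Agent.Lib.Helper23.PB.isInvertible_pullback g N hN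
  have hgN' := Groth.Agent.Lib.Helper23.PB.isInvertible_pullback g N' hN'
  have hO' := Groth.Agent.Lib.Helper23.TensorUnit.isInvertible_structureModule (Curv2.bc k X K)
  obtain ⟨e'⟩ : Nonempty ((Scheme.Modules.pullback g).obj N' ≅
      Coh.structureModule (Curv2.bc k X K)) := by
    letI := lawOfIntegral (Curv2.bc k X K)
    have e1 : CohB1.tensorMod ((Scheme.Modules.pullback g).obj N)
        ((Scheme.Modules.pullback g).obj N') ≅ Coh.structureModule (Curv2.bc k X K) :=
      (Groth.Agent.Lib.Helper23.RestrTensor.pullbackTensorIso N N' g).symm ≪≫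
        (Scheme.Modules.pullback g).mapIso eN ≪≫ Groth.Agent.Lib.Helper23.PB.pullbackUnitIso g
    have g1 := cls_mul_eq_of_iso hgN hgN' hO' e1
    have g2 : PicGrp.cls _ hgN = PicGrp.cls _ hO' := (PicGrp.cls_eq_cls_iff hgN hO').2 ⟨e⟩
    rw [g2, PicGrp.cls_structureModule_eq_one, one_mul] at g1
    rw [← PicGrp.cls_structureModule_eq_one] at g1
    exact (PicGrp.cls_eq_cls_iff hgN' _).1 g1
  have cN := isCoh_of_isInvertible N hN
  have cN' := isCoh_of_isInvertible N' hN'
  have f1 : Module.finrank k (Coh.HH X N 0) = 1 := by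
    rw [← finrank_HH_bc k X K N cN 0,
      Groth.Agent.Lib.R2H2.ClosedPnLin.finrank_HH_of_iso (A := K) e 0]
    exact h0'
  have f2 : Module.finrank k (Coh.HH X N' 0) = 1 := by
    rw [← finrank_HH_bc k X K N' cN' 0,
      Groth.Agent.Lib.R2H2.ClosedPnLin.finrank_HH_of_iso (A := K) e' 0]
    exact h0'
  obtain ⟨s, hs⟩ := exists_section_of_pos k X N cN (by omega)
  obtain ⟨s', hs'⟩ := exists_section_of_pos k X N' cN' (by omega)
  exact iso_structure_of_sections k X h0 N N' hN hN' eN s hs s' hs'

/-- **descent of isomorphisms of invertible modules** along the base change to the algebraic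
closure -/
theorem iso_of_bc_iso (L M : X.Modules) (hL : PicF.IsInvertible L) (hM : PicF.IsInvertible M)
    (e : (Scheme.Modules.pullback (Curv2.bcFst k X (AlgebraicClosure k))).obj L ≅
      (Scheme.Modules.pullback (Curv2.bcFst k X (AlgebraicClosure k))).obj M) :
    Nonempty (L ≅ M) := by
  let K := AlgebraicClosure k
  haveI := isIntegral_of_geometricallyConnected k X
  haveI := isIntegral_bc k X K
  obtain ⟨P, hP, ⟨eP⟩⟩ := Groth.Agent.Lib.R2H1.InvExists.exists_inverse L hL
  let g := Curv2.bcFst k X K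
  have hPM := Groth.Agent.Lib.Helper23.SecTw.isInvertible_tensorMod hP hM
  have hO := Groth.Agent.Lib.Helper23.TensorUnit.isInvertible_structureModule X
  have e1 : (Scheme.Modules.pullback g).obj (CohB1.tensorMod P M) ≅
      Coh.structureModule (Curv2.bc k X K) :=
    Groth.Agent.Lib.Helper23.RestrTensor.pullbackTensorIso P M g ≪≫
      Groth.Agent.Lib.Helper23.AmpleIso.tensorModIso (Iso.refl _) e.symm ≪≫
      (Groth.Agent.Lib.Helper23.RestrTensor.pullbackTensorIso P L g).symm ≪≫
      (Scheme.Modules.pullback g).mapIso (commI P L ≪≫ eP) ≪≫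
      Groth.Agent.Lib.Helper23.PB.pullbackUnitIso g
  obtain ⟨e2⟩ := iso_structure_of_bc k X _ hPM e1
  letI := lawOfIntegral X
  have g1 := cls_mul_eq_of_iso hL hP hO eP
  have g2 := cls_mul_eq_of_iso hP hM hO e2
  rw [PicGrp.cls_structureModule_eq_one] at g1 g2
  rw [← PicGrp.cls_eq_cls_iff hL hM]
  calc PicGrp.cls L hL = PicGrp.cls L hL * (PicGrp.cls P hP * PicGrp.cls M hM) := by
        rw [g2, mul_one]
    _ = PicGrp.cls M hM := by rw [← mul_assoc, g1, one_mul]

end F

end Part5

section Part6

open  Groth.Agent.Lib.R2H1.PicLaw Groth.Agent.Lib.R2H1.Clifford Groth.Agent.Lib.R2H1.CurveDegSec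
  Groth.Agent.Lib.R2H1.CurveAmple Groth.Agent.Lib.R2H2.PnBeilinson Groth.Agent.Lib.R2H1.InvHom
  Groth.Agent.Lib.R2H1.GenusZero

section F

variable (k : Type u) [Field k] (X : Scheme.{u}) [X.Over (Spec (CommRingCat.of k))]
  (K : Type u) [Field K] [Algebra k K]

attribute [local instance] bcOver

instance surjective_bcFst : Surjective (Curv2.bcFst k X K) := by
  have hsurj0 : Surjective (Spec.map (CommRingCat.ofHom (algebraMap k K))) := by
    constructor
    intro a
    exact ⟨IsLocalRing.closedPoint K, @Subsingleton.elim (PrimeSpectrum k) inferInstance _ _⟩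
  exact MorphismProperty.pullback_fst (P := @Surjective) _ _ hsurj0

instance quasiCompact_bcFst : QuasiCompact (Curv2.bcFst k X K) := by
  change QuasiCompact (pullback.fst _ _)
  infer_instance

end F

section G

variable (k : Type u) [Field k] (X : Scheme.{u}) [X.Over (Spec (CommRingCat.of k))]
  [IsProper (X ↘ Spec (CommRingCat.of k))] [Smooth (X ↘ Spec (CommRingCat.of k))]
  [GeometricallyConnected (X ↘ Spec (CommRingCat.of k))]

attribute [local instance] bcOver

open Groth.Agent.Lib.Helper20.OmegaQCoh Groth.Agent.Lib.Helper6.Var1 in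
/-- the sheaf of differentials of a smooth proper geometrically connected curve over any field is
invertible -/
theorem isInvertible_omega (hdim : topologicalKrullDim X = 1) :
    PicF.IsInvertible (Omega.sheaf (X ↘ Spec (CommRingCat.of k))) := by
  let K := AlgebraicClosure k
  let g := Curv2.bcFst k X K
  haveI := isIntegral_bc k X K
  have hdim' : topologicalKrullDim (Curv2.bc k X K) = 1 := (dim_bc k X K).trans hdim
  have hreg' := isRegularLocalRing_stalk_bc k X K
  have hΩ' := Groth.Agent.Lib.R2H1.OmegaCurve.isInvertible_Om K (Curv2.bc k X K) hdim' hreg'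
  obtain ⟨e⟩ := nonempty_omega_bc k X K
  have hgΩ : PicF.IsInvertible ((Scheme.Modules.pullback g).obj
      (Omega.sheaf (X ↘ Spec (CommRingCat.of k)))) :=
    Groth.Agent.Lib.Helper23.AmpleIso.isInvertible_of_iso e.symm hΩ'
  haveI := isQuasicoherent_omega (X ↘ Spec (CommRingCat.of k))
  have hlf : FlatMod.IsFinLocFree (Omega.sheaf (X ↘ Spec (CommRingCat.of k))) :=
    Groth.Agent.Lib.Helper2.FamDesc.isFinLocFree_of_pullback g _
      (Groth.Agent.Helper18PBUnit.isFinLocFree_of_isInvertible hgΩ)
  intro x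
  obtain ⟨x', rfl⟩ := (surjective_bcFst k X K).surj x
  obtain ⟨D, m, hxD, ⟨ε⟩⟩ := hlf (g x')
  obtain ⟨U', hx'U', ⟨ε'⟩⟩ :=
    Groth.Agent.Lib.Helper26.ModRank.exists_restrict_iso_freeMod_pullback g _ ε x' hxD
  haveI : ((Scheme.Modules.pullback g).obj
      (Omega.sheaf (X ↘ Spec (CommRingCat.of k)))).IsQuasicoherent :=
    Groth.Agent.Lib.Helper20.PullbackAff.isQuasicoherent_pullback g _
  have r1 := (Groth.Agent.Lib.Helper2.RankLoc.fibreRank_eq_of_restrict_iso_freeMod U'.ι _ ε'
    ⟨x', hx'U'⟩).2
  obtain ⟨U₂, hx'U₂, ⟨ε₂⟩⟩ :=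
    Groth.Agent.Lib.Helper23.SecTw.isFinLocFreeOfRank_one_of_isInvertible _ hgΩ x'
  have r2 := (Groth.Agent.Lib.Helper2.RankLoc.fibreRank_eq_of_restrict_iso_freeMod U₂.ι _ ε₂
    ⟨x', hx'U₂⟩).2
  have hm : m = 1 := r1.symm.trans r2
  subst hm
  exact ⟨D, hxD, ⟨ε ≪≫ coproductUniqueIso
    (fun _ : Fin 1 => Coh.structureModule (D : Scheme.{u}))⟩⟩

end G

end Part6

section Part7

open  Groth.Agent.Lib.R2H1.PicLaw Groth.Agent.Lib.R2H1.Clifford Groth.Agent.Lib.R2H1.CurveDegSec
  Groth.Agent.Lib.R2H1.CurveAmple Groth.Agent.Lib.R2H2.PnBeilinson Groth.Agent.Lib.R2H1.InvHom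
  Groth.Agent.Lib.R2H1.GenusZero Groth.Agent.Lib.R2H1.OmegaCurve Groth.Agent.Lib.R2H1.OmegaDual
  Groth.Agent.Lib.R2H1.SerreNum

section G

variable (k : Type u) [Field k] (X : Scheme.{u}) [X.Over (Spec (CommRingCat.of k))]
  [IsProper (X ↘ Spec (CommRingCat.of k))] [Smooth (X ↘ Spec (CommRingCat.of k))]
  [GeometricallyConnected (X ↘ Spec (CommRingCat.of k))]

attribute [local instance] bcOver

local notation "K" => AlgebraicClosure k

/-- an invertible module of degree `2g - 2` with at least `g` sections is the canonical sheaf -/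
theorem iso_omega_of_deg_of_h0 (hdim : topologicalKrullDim X = 1) (L : X.Modules)
    (hL : PicF.IsInvertible L)
    (hdeg : Curv2.deg k X L 1 = 2 * (Curv2.genus k X : ℤ) - 2)
    (hh0 : Curv2.genus k X ≤ Module.finrank k (Coh.HH X L 0)) :
    Nonempty (L ≅ Omega.sheaf (X ↘ Spec (CommRingCat.of k))) := by
  haveI := isIntegral_bc k X K
  haveI := Groth.Agent.Lib.R2H1.CurveEuler.isNoetherian_of_proper K (Curv2.bc k X K)
  have hdim' : topologicalKrullDim (Curv2.bc k X K) = 1 := (dim_bc k X K).trans hdim
  have hreg' := isRegularLocalRing_stalk_bc k X K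
  have hΩ' := isInvertible_Om K (Curv2.bc k X K) hdim' hreg'
  obtain ⟨e⟩ := nonempty_omega_bc k X K
  have hΩ := isInvertible_omega k X hdim
  have cL := isCoh_of_isInvertible L hL
  have hL' := Groth.Agent.Lib.Helper23.PB.isInvertible_pullback (Curv2.bcFst k X K) L hL
  have cL' := isCoh_of_isInvertible _ hL'
  have d1 := deg_bc k X K L cL 1
  have f1 := finrank_HH_bc k X K L cL 0
  have gg := genus_bc k X K
  have r := riemann_roch K (Curv2.bc k X K) hdim' hreg' _ hL'
  have hh := h1_eq_finrank_hom K (Curv2.bc k X K) hdim' hreg' _ cL'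
  obtain ⟨-, -, dΩ⟩ := numerics_Om K (Curv2.bc k X K) hdim' hreg'
  have h1pos : 1 ≤ Module.finrank K ((Scheme.Modules.pullback (Curv2.bcFst k X K)).obj L ⟶ Om K (Curv2.bc k X K)) := by
    rw [← hh]
    have : (Curv2.genus k X : ℤ) ≤ Module.finrank k (Coh.HH X L 0) := by exact_mod_cast hh0
    omega
  obtain ⟨φ, hφ⟩ : ∃ φ : (Scheme.Modules.pullback (Curv2.bcFst k X K)).obj L ⟶ Om K (Curv2.bc k X K), φ ≠ 0 := by
    by_contra hcon
    push_neg at hcon
    haveI : Subsingleton ((Scheme.Modules.pullback (Curv2.bcFst k X K)).obj L ⟶ Om K (Curv2.bc k X K)) :=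
      ⟨fun a b => (hcon a).trans (hcon b).symm⟩
    have := Module.finrank_zero_of_subsingleton (R := K)
      (M := ((Scheme.Modules.pullback (Curv2.bcFst k X K)).obj L ⟶ Om K (Curv2.bc k X K)))
    omega
  obtain ⟨m1, m2⟩ := main K (Curv2.bc k X K) hdim' _ _ hL' hΩ' φ hφ
  have d1' := d1.trans hdeg
  haveI : IsIso φ := m2 (by
    unfold Curv2.deg at dΩ d1'
    have : (0 : ℤ) ≤ Module.finrank K (Coh.HH (Curv2.bc k X K) (cokernel φ) 0) :=
      Int.natCast_nonneg _
    omega)
  exact iso_of_bc_iso k X L _ hL hΩ (asIso φ ≪≫ e.symm)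

/-- the canonical sheaf of a curve of genus one is trivial -/
theorem iso_omega_structure_of_genus_one (hdim : topologicalKrullDim X = 1)
    (hg : Curv2.genus k X = 1) :
    Nonempty (Omega.sheaf (X ↘ Spec (CommRingCat.of k)) ≅ Coh.structureModule X) := by
  haveI := isIntegral_bc k X K
  haveI := Groth.Agent.Lib.R2H1.CurveEuler.isNoetherian_of_proper K (Curv2.bc k X K)
  have hdim' : topologicalKrullDim (Curv2.bc k X K) = 1 := (dim_bc k X K).trans hdim
  have hreg' := isRegularLocalRing_stalk_bc k X K
  have hΩ' := isInvertible_Om K (Curv2.bc k X K) hdim' hreg'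
  obtain ⟨e⟩ := nonempty_omega_bc k X K
  have hΩ := isInvertible_omega k X hdim
  have gg := genus_bc k X K
  obtain ⟨h0, -, dΩ⟩ := numerics_Om K (Curv2.bc k X K) hdim' hreg'
  obtain ⟨s, hs⟩ := exists_section_of_pos K (Curv2.bc k X K) _ (isCoh_of_isInvertible _ hΩ')
    (by rw [h0, gg, hg]; exact Nat.one_pos)
  haveI := isIso_of_deg_nonpos K (Curv2.bc k X K) hdim' _ hΩ' s hs (by
    rw [dΩ, gg, hg]; norm_num)
  exact iso_structure_of_bc k X _ hΩ (e ≪≫ (asIso s).symm)

end G

end Part7

end Groth.Agent.Lib.R2H1.CurveBC
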