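import Mathlib
import Groth.Prelude
import Groth.Agent.Lib.R2H1CurveBC
import Groth.Agent.Lib.R2H1DegPullback
import Groth.Agent.Lib.R2H4BirIso
import Groth.Agent.Lib.R2H1SmoothCompl
import Groth.Agent.Lib.Helper18Om1
import Groth.Agent.Lib.Helper18OmLS8
import Groth.Agent.Lib.Helper18OmLS24
import Groth.Agent.Lib.R2H1IsoP1
import Groth.Agent.Lib.R2H1P1Inter
import Groth.Agent.Lib.R2H2PnEuler
import Groth.Agent.Lib.R2LeadKRR
import Groth.Agent.Lib.R2H2ClosedPnLin
import Groth.Agent.Lib.R2H1CurveLift
set_option backward.isDefEq.respectTransparency.types false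

/-!
Finite etale covers of genus zero curves are trivial (Riemann-Hurwitz for etale covers via pullback of differentials and the degree formula); the projective line is simply connected.
-/

set_option autoImplicit false
set_option linter.style.haveILetI false
set_option linter.unusedSectionVars false
universe u v

open CategoryTheory CategoryTheory.Limits AlgebraicGeometry TopologicalSpace Opposite

namespace Groth.Agent.Lib.R2H1.EtaleP1

section Part1

open Groth.Agent.Lib.R2H1.CurveBC

section A

/-- a flat locally finitely presented morphism of integral schemes is dominant on generic points -/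
theorem map_genericPoint_of_flat {X Y : Scheme.{u}} [IsIntegral X] [IsIntegral Y] (f : X ⟶ Y)
    [Flat f] [LocallyOfFinitePresentation f] :
    f (genericPoint X) = genericPoint Y := by
  have hopen : IsOpen (Set.range f) := f.isOpenMap.isOpen_range
  have hne : (Set.range f).Nonempty := ⟨f (genericPoint X), ⟨_, rfl⟩⟩
  have hmem : genericPoint Y ∈ Set.range f :=
    ((genericPoint_spec Y).mem_open_set_iff hopen).mpr
      (by obtain ⟨y, hy⟩ := hne; exact ⟨y, ⟨trivial, hy⟩⟩)
  obtain ⟨x, hx⟩ := hmem
  have h1 : genericPoint X ⤳ x := genericPoint_specializes x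
  have h2 : f (genericPoint X) ⤳ genericPoint Y := hx ▸ h1.map f.continuous
  exact (h2.antisymm (genericPoint_specializes _)).eq

/-- residue degree one at a point with field stalks gives an isomorphism of stalks -/
theorem isIso_stalkMap_of_residueDegree_eq_one {X Y : Scheme.{u}} (f : X ⟶ Y) (x : X)
    (hX : IsField (X.presheaf.stalk x)) (hY : IsField (Y.presheaf.stalk (f x)))
    (h1 : f.residueDegree x = 1) : IsIso (f.stalkMap x) := by
  letI := (f.residueFieldMap x).hom.toAlgebra
  have hb : Function.Bijective (f.residueFieldMap x).hom :=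
    Algebra.finrank_eq_one_iff_bijective_algebraMap.mp h1
  have hi := Groth.Agent.Lib.R2H1.DegPullback.residue_bijective_of_isField (f x) hY
  have hj := Groth.Agent.Lib.R2H1.DegPullback.residue_bijective_of_isField x hX
  have hc : ∀ a, (X.residue x).hom ((f.stalkMap x).hom a) =
      (f.residueFieldMap x).hom ((Y.residue (f x)).hom a) := fun a =>
    (ConcreteCategory.congr_hom (Scheme.residue_residueFieldMap f x) a).symm
  rw [ConcreteCategory.isIso_iff_bijective]
  constructor
  · intro a b hab
    apply hi.1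
    apply hb.1
    rw [← hc, ← hc]
    exact congrArg _ hab
  · intro c
    obtain ⟨d, hd⟩ := hb.2 ((X.residue x).hom c)
    obtain ⟨a, ha⟩ := hi.2 d
    refine ⟨a, hj.1 ?_⟩
    rw [← hd, ← ha]
    exact hc a

end A

section B

variable (k : Type u) [Field k] (X Y : Scheme.{u}) [X.Over (Spec (CommRingCat.of k))]
  [Y.Over (Spec (CommRingCat.of k))]
  [IsProper (X ↘ Spec (CommRingCat.of k))] [Smooth (X ↘ Spec (CommRingCat.of k))]
  [GeometricallyConnected (X ↘ Spec (CommRingCat.of k))]
  [IsProper (Y ↘ Spec (CommRingCat.of k))] [Smooth (Y ↘ Spec (CommRingCat.of k))]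
  [GeometricallyConnected (Y ↘ Spec (CommRingCat.of k))]

/-- for an etale morphism over `k`, the pullback of the differentials is the differentials -/
theorem nonempty_pullback_omega_iso (f : X ⟶ Y) [Etale f]
    (hf : f ≫ (Y ↘ Spec (CommRingCat.of k)) = X ↘ Spec (CommRingCat.of k)) :
    Nonempty ((Scheme.Modules.pullback f).obj (Omega.sheaf (Y ↘ Spec (CommRingCat.of k))) ≅
      Omega.sheaf (X ↘ Spec (CommRingCat.of k))) := by
  have hsq : (X ↘ Spec (CommRingCat.of k)) ≫ 𝟙 (Spec (CommRingCat.of k)) =
      f ≫ (Y ↘ Spec (CommRingCat.of k)) := by rw [Category.comp_id, hf]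
  obtain ⟨c, hc, -⟩ := Groth.Agent.Helper18Om.main_S9370 (Y ↘ Spec (CommRingCat.of k))
    (X ↘ Spec (CommRingCat.of k)) f (𝟙 _) hsq _ (OmegaSh.dOmega _)
    (Groth.Agent.Helper18OmLS.isUniversal_dOmega _) _ (OmegaSh.dOmega (X ↘ Spec (CommRingCat.of k)))
  haveI : IsIso c := Groth.Agent.Helper18OmLS.main_S9776 (Y ↘ Spec (CommRingCat.of k))
    (X ↘ Spec (CommRingCat.of k)) f (𝟙 _) hsq.symm _ (OmegaSh.dOmega _)
    (Groth.Agent.Helper18OmLS.isUniversal_dOmega _) _ (OmegaSh.dOmega _)
    (Groth.Agent.Helper18OmLS.isUniversal_dOmega _) c hc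
  exact ⟨asIso c⟩

open Groth.Agent.Lib.R2H1.CurveAmple in
/-- a finite etale cover of a smooth proper geometrically connected curve of genus zero by a
geometrically connected curve is an isomorphism -/
theorem isIso_of_finite_etale_of_genus_zero (hdX : topologicalKrullDim X = 1)
    (hdY : topologicalKrullDim Y = 1) (f : X ⟶ Y) [IsFinite f] [Etale f]
    (hf : f ≫ (Y ↘ Spec (CommRingCat.of k)) = X ↘ Spec (CommRingCat.of k))
    (hg : Curv2.genus k Y = 0) : IsIso f := by
  haveI := isIntegral_of_geometricallyConnected k X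
  haveI := isIntegral_of_geometricallyConnected k Y
  have hξ := map_genericPoint_of_flat f
  obtain ⟨e⟩ := nonempty_pullback_omega_iso k X Y f hf
  have hΩY := isInvertible_omega k Y hdY
  have d1 := Groth.Agent.Lib.R2H1.DegPullback.s7640 k X Y hdX hdY f hf hξ 1 _
    (Groth.Agent.Lib.Helper23.SecTw.isFinLocFreeOfRank_one_of_isInvertible _ hΩY)
  have d2 := deg_congr k X e 1
  obtain ⟨-, dX⟩ := numerics_omega_of_geometricallyConnected k X hdX
  obtain ⟨-, dY⟩ := numerics_omega_of_geometricallyConnected k Y hdY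
  have hpos : 0 < f.residueDegree (genericPoint X) := by
    have hfin := Groth.Agent.Lib.Helper20.ResFld.finite_residueFieldMap_of_quasiFiniteAt f
      (genericPoint X) (f.quasiFiniteAt _)
    unfold Scheme.Hom.residueDegree
    letI := (f.residueFieldMap (genericPoint X)).hom.toAlgebra
    haveI : Module.Finite (Y.residueField (f (genericPoint X)))
        (X.residueField (genericPoint X)) := hfin
    exact Module.finrank_pos
  have hn1 : f.residueDegree (genericPoint X) = 1 := by
    rw [d2, dX, dY, hg] at d1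
    have hpos' : (0 : ℤ) < (f.residueDegree (genericPoint X) : ℤ) := by exact_mod_cast hpos
    have : (f.residueDegree (genericPoint X) : ℤ) = 1 := by
      push_cast at d1
      nlinarith [Int.natCast_nonneg (Curv2.genus k X)]
    exact_mod_cast this
  haveI : IsIso (f.stalkMap (genericPoint X)) :=
    isIso_stalkMap_of_residueDegree_eq_one f _
      (Groth.Agent.Lib.R2H1.DegPullback.isField_stalk_of_eq_genericPoint _ rfl)
      (Groth.Agent.Lib.R2H1.DegPullback.isField_stalk_of_eq_genericPoint _ hξ) hn1
  haveI : Surjective f := by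
    constructor
    have hcl : IsClosed (Set.range f) := f.isClosedMap.isClosed_range
    have hd : Dense (Set.range f) := by
      have := (genericPoint_spec Y).def
      rw [← hξ] at this
      intro y
      have h2 : closure {f (genericPoint X)} ⊆ closure (Set.range f) :=
        closure_mono (Set.singleton_subset_iff.mpr ⟨_, rfl⟩)
      exact h2 (this ▸ Set.mem_univ y)
    intro y
    have := hd.closure_eq
    rw [hcl.closure_eq] at this
    have hy : y ∈ Set.range f := this ▸ Set.mem_univ y
    exact hy
  exact Groth.Agent.Lib.R2H4.BirIso.isIso_of_finite_birational_normal f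
    (Groth.Agent.Lib.R2H1.SmoothCompl.isNormalScheme_of_smooth k Y (Y ↘ Spec (CommRingCat.of k)))
    inferInstance

end B

end Part1

section Part2

open Groth.Agent.Lib.R2H1.CurveBC Groth.Agent.Lib.R2H1.IsoP1

section A

variable (k : Type u) [Field k]

theorem finrank_HH_structure_P1k_zero :
    Module.finrank k (Coh.HH (CohB1.ProjSpace 1 k) (Coh.structureModule (CohB1.ProjSpace 1 k)) 0) = 1 := by
  obtain ⟨e0⟩ := Groth.Agent.Lib.R2Lead.KRR.nonempty_twistProjSpace_zero_iso 1 k
  rw [← Groth.Agent.Lib.R2H2.ClosedPnLin.finrank_HH_of_iso k e0 0]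
  exact Groth.Agent.Lib.R2H2.PnEuler.finrank_HH_nonneg k 1 0

theorem finrank_HH_structure_P1k_one :
    Module.finrank k (Coh.HH (CohB1.ProjSpace 1 k) (Coh.structureModule (CohB1.ProjSpace 1 k)) 1) = 0 := by
  obtain ⟨e0⟩ := Groth.Agent.Lib.R2Lead.KRR.nonempty_twistProjSpace_zero_iso 1 k
  rw [← Groth.Agent.Lib.R2H2.ClosedPnLin.finrank_HH_of_iso k e0 1]
  exact Groth.Agent.Lib.R2H2.PnEuler.finrank_HH_zero k 1 0 1 (by omega) (by omega)

/-- the projective line is simply connected -/
theorem isIso_of_finite_etale_P1 {X : Scheme.{u}} (f : X ⟶ CohB1.ProjSpace 1 k) [IsFinite f]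
    [Etale f] [GeometricallyConnected (f ≫ CohB1.ProjSpace.toSpec 1 k)] : IsIso f := by
  letI : X.Over (Spec (CommRingCat.of k)) := ⟨f ≫ CohB1.ProjSpace.toSpec 1 k⟩
  haveI := isProper_P1k k
  haveI : Smooth ((CohB1.ProjSpace 1 k) ↘ Spec (CommRingCat.of k)) :=
    Groth.Agent.Lib.R2H1.P1Inter.smooth_toSpec 1 k
  haveI := isIntegral_P1k k
  have hdP := dim_P1k k
  haveI : GeometricallyConnected ((CohB1.ProjSpace 1 k) ↘ Spec (CommRingCat.of k)) :=
    geometricallyConnected_of_h0 k _ (finrank_HH_structure_P1k_zero k)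
  haveI : IsProper (X ↘ Spec (CommRingCat.of k)) := by
    change IsProper (f ≫ CohB1.ProjSpace.toSpec 1 k)
    haveI : IsProper (CohB1.ProjSpace.toSpec 1 k) := isProper_P1k k
    infer_instance
  haveI : Smooth (X ↘ Spec (CommRingCat.of k)) := by
    change Smooth (f ≫ CohB1.ProjSpace.toSpec 1 k)
    haveI : Smooth (CohB1.ProjSpace.toSpec 1 k) := Groth.Agent.Lib.R2H1.P1Inter.smooth_toSpec 1 k
    infer_instance
  haveI : GeometricallyConnected (X ↘ Spec (CommRingCat.of k)) :=
    ‹GeometricallyConnected (f ≫ CohB1.ProjSpace.toSpec 1 k)›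
  haveI : Nonempty X := by
    haveI := connectedSpace_bc k X k
    obtain ⟨z⟩ := (inferInstance : Nonempty (Curv2.bc k X k))
    exact ⟨Curv2.bcFst k X k z⟩
  haveI : Surjective f := by
    constructor
    have hcl : IsClosed (Set.range f) := f.isClosedMap.isClosed_range
    have hop : IsOpen (Set.range f) := f.isOpenMap.isOpen_range
    have hne : (Set.range f).Nonempty := Set.range_nonempty f
    have := IsClopen.eq_univ ⟨hcl, hop⟩ hne
    intro y
    have hy : y ∈ Set.range f := this ▸ Set.mem_univ y
    exact hy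
  haveI : CompactSpace (CohB1.ProjSpace 1 k) :=
    (quasiCompact_iff_compactSpace ((CohB1.ProjSpace 1 k) ↘ Spec (CommRingCat.of k))).mp inferInstance
  have hdX : topologicalKrullDim X = 1 :=
    (Groth.Agent.Lib.R2H1.CurveLift.topologicalKrullDim_eq_of_isFinite_of_surjective k f rfl).trans hdP
  exact isIso_of_finite_etale_of_genus_zero k X (CohB1.ProjSpace 1 k) hdX hdP f rfl
    (finrank_HH_structure_P1k_one k)

end A

end Part2

end Groth.Agent.Lib.R2H1.EtaleP1
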