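import Mathlib

/-!
# Fredholm index of linear maps over a field (helper4, round 2)

* `finite_of_exact`, `finrank_eq_of_exact`, `six_term`: finite-dimensionality and Euler
  characteristic for exact sequences of vector spaces.
* `Fred f`, `ind f`: finite-dimensional kernel and cokernel; `ind = dim ker - dim coker`.
* `fred_comp`: `ind (g ∘ f) = ind f + ind g`.
* `fred_mid`: index of the middle map of an exact triple `φ, ψ, χ`.
* `two_seq`: two six-term exact sequences sharing two terms; index of the diagonal composites.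
-/

set_option autoImplicit false
set_option linter.style.haveILetI false
universe u
open Module

namespace Groth.Agent.Lib.R2H4.FredIndex


variable {F : Type*} [Field F]

section Exact

variable {M N P : Type*} [AddCommGroup M] [AddCommGroup N] [AddCommGroup P]
  [Module F M] [Module F N] [Module F P]

/-- middle term of an exact pair is finite-dimensional if the outer terms are. -/
theorem finite_of_exact (φ : M →ₗ[F] N) (ψ : N →ₗ[F] P) (h : Function.Exact φ ψ)
    [Module.Finite F M] [Module.Finite F P] : Module.Finite F N := by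
  haveI : Module.Finite F (LinearMap.ker ψ) := by
    rw [LinearMap.exact_iff.1 h]
    exact Module.Finite.range φ
  haveI : Module.Finite F (N ⧸ LinearMap.ker ψ) :=
    Module.Finite.equiv ψ.quotKerEquivRange.symm
  exact Module.Finite.of_submodule_quotient (LinearMap.ker ψ)

theorem finrank_eq_of_exact (φ : M →ₗ[F] N) (ψ : N →ₗ[F] P) (h : Function.Exact φ ψ)
    [Module.Finite F N] :
    finrank F N = finrank F (LinearMap.range φ) + finrank F (LinearMap.range ψ) := by
  have := LinearMap.finrank_range_add_finrank_ker ψ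
  rw [LinearMap.exact_iff.1 h] at this
  omega

end Exact



section Six

variable {E0 E1 E2 E3 E4 E5 : Type*} [AddCommGroup E0] [AddCommGroup E1] [AddCommGroup E2]
  [AddCommGroup E3] [AddCommGroup E4] [AddCommGroup E5]
  [Module F E0] [Module F E1] [Module F E2] [Module F E3] [Module F E4] [Module F E5]

theorem six_term (j : E0 →ₗ[F] E1) (φ1 : E1 →ₗ[F] E2) (φ2 : E2 →ₗ[F] E3) (φ3 : E3 →ₗ[F] E4)
    (φ4 : E4 →ₗ[F] E5) (hj : Function.Injective j) (h1 : Function.Exact j φ1)
    (h2 : Function.Exact φ1 φ2) (h3 : Function.Exact φ2 φ3) (h4 : Function.Exact φ3 φ4)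
    (h5 : Function.Surjective φ4)
    [Module.Finite F E0] [Module.Finite F E2] [Module.Finite F E3] [Module.Finite F E5] :
    Module.Finite F E1 ∧ Module.Finite F E4 ∧
      (finrank F E0 : ℤ) - finrank F E1 + finrank F E2 - finrank F E3 + finrank F E4
        - finrank F E5 = 0 := by
  haveI : Module.Finite F E1 := finite_of_exact j φ1 h1
  haveI : Module.Finite F E4 := finite_of_exact φ3 φ4 h4
  refine ⟨inferInstance, inferInstance, ?_⟩
  have e0 : finrank F (LinearMap.range j) = finrank F E0 := LinearMap.finrank_range_of_inj hj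
  have e1 := finrank_eq_of_exact j φ1 h1
  have e2 := finrank_eq_of_exact φ1 φ2 h2
  have e3 := finrank_eq_of_exact φ2 φ3 h3
  have e4 := finrank_eq_of_exact φ3 φ4 h4
  have e5 : finrank F (LinearMap.range φ4) = finrank F E5 := by
    rw [LinearMap.range_eq_top.2 h5, finrank_top]
  omega

end Six

section Comp

variable {U V W : Type*} [AddCommGroup U] [AddCommGroup V] [AddCommGroup W]
  [Module F U] [Module F V] [Module F W]

/-- a linear map with finite-dimensional kernel and cokernel -/
def Fred (f : U →ₗ[F] V) : Prop :=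
  Module.Finite F (LinearMap.ker f) ∧ Module.Finite F (V ⧸ LinearMap.range f)

/-- the index `dim ker - dim coker`. -/
noncomputable def ind (f : U →ₗ[F] V) : ℤ :=
  (finrank F (LinearMap.ker f) : ℤ) - finrank F (V ⧸ LinearMap.range f)

theorem fred_comp (f : U →ₗ[F] V) (g : V →ₗ[F] W) (hf : Fred f) (hg : Fred g) :
    Fred (g ∘ₗ f) ∧ ind (g ∘ₗ f) = ind f + ind g := by
  obtain ⟨hf1, hf2⟩ := hf
  obtain ⟨hg1, hg2⟩ := hg
  let j : LinearMap.ker f →ₗ[F] LinearMap.ker (g ∘ₗ f) :=
    Submodule.inclusion (LinearMap.ker_le_ker_comp f g)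
  let φ1 : LinearMap.ker (g ∘ₗ f) →ₗ[F] LinearMap.ker g :=
    f.restrict (fun x hx => by simpa using hx)
  let φ2 : LinearMap.ker g →ₗ[F] V ⧸ LinearMap.range f :=
    (LinearMap.range f).mkQ ∘ₗ (LinearMap.ker g).subtype
  let φ3 : (V ⧸ LinearMap.range f) →ₗ[F] W ⧸ LinearMap.range (g ∘ₗ f) :=
    Submodule.mapQ (LinearMap.range f) (LinearMap.range (g ∘ₗ f)) g (by
      rintro _ ⟨u, rfl⟩
      exact ⟨u, rfl⟩)
  let φ4 : (W ⧸ LinearMap.range (g ∘ₗ f)) →ₗ[F] W ⧸ LinearMap.range g :=
    Submodule.mapQ (LinearMap.range (g ∘ₗ f)) (LinearMap.range g) LinearMap.id (by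
      rintro _ ⟨u, rfl⟩
      exact ⟨f u, rfl⟩)
  have hj : Function.Injective j := Submodule.inclusion_injective _
  have h1 : Function.Exact j φ1 := by
    intro x
    constructor
    · intro hx
      have hx' : f x.1 = 0 := by
        have := congrArg Subtype.val hx
        simpa [φ1] using this
      exact ⟨⟨x.1, hx'⟩, Subtype.ext rfl⟩
    · rintro ⟨y, rfl⟩
      apply Subtype.ext
      simpa [φ1, j] using y.2
  have h2 : Function.Exact φ1 φ2 := by
    intro x
    constructor
    · intro hx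
      have hx' : x.1 ∈ LinearMap.range f := by
        simpa [φ2, Submodule.Quotient.mk_eq_zero] using hx
      obtain ⟨u, hu⟩ := hx'
      have hu' : u ∈ LinearMap.ker (g ∘ₗ f) := by
        simp [hu]
      exact ⟨⟨u, hu'⟩, Subtype.ext (by simpa [φ1] using hu)⟩
    · rintro ⟨y, rfl⟩
      simp [φ2, φ1, Submodule.Quotient.mk_eq_zero]
  have h3 : Function.Exact φ2 φ3 := by
    intro x
    obtain ⟨v, rfl⟩ := Submodule.Quotient.mk_surjective _ x
    constructor
    · intro hx
      have hx' : g v ∈ LinearMap.range (g ∘ₗ f) := by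
        simpa [φ3, Submodule.Quotient.mk_eq_zero] using hx
      obtain ⟨u, hu⟩ := hx'
      have hk : v - f u ∈ LinearMap.ker g := by
        simp only [LinearMap.mem_ker, map_sub]
        rw [← hu]
        simp
      refine ⟨⟨v - f u, hk⟩, ?_⟩
      simp only [φ2, LinearMap.coe_comp, Function.comp_apply, Submodule.subtype_apply,
        Submodule.mkQ_apply]
      rw [Submodule.Quotient.eq]
      simp
    · rintro ⟨y, hy⟩
      have : (LinearMap.range f).mkQ y.1 = Submodule.Quotient.mk v := by simpa [φ2] using hy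
      rw [Submodule.mkQ_apply, Submodule.Quotient.eq] at this
      obtain ⟨u, hu⟩ := this
      have hv : v = y.1 - f u := by rw [hu]; abel
      simp only [φ3, Submodule.mapQ_apply, Submodule.Quotient.mk_eq_zero]
      refine ⟨-u, ?_⟩
      rw [hv]
      simp
  have h4 : Function.Exact φ3 φ4 := by
    intro x
    obtain ⟨w, rfl⟩ := Submodule.Quotient.mk_surjective _ x
    constructor
    · intro hx
      have hx' : w ∈ LinearMap.range g := by
        simpa [φ4, Submodule.Quotient.mk_eq_zero] using hx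
      obtain ⟨v, rfl⟩ := hx'
      exact ⟨Submodule.Quotient.mk v, by simp [φ3]⟩
    · rintro ⟨y, hy⟩
      obtain ⟨v, rfl⟩ := Submodule.Quotient.mk_surjective _ y
      have : Submodule.Quotient.mk (g v) = (Submodule.Quotient.mk w : W ⧸ LinearMap.range (g ∘ₗ f)) := by
        simpa [φ3] using hy
      rw [← this]
      simp [φ4, Submodule.Quotient.mk_eq_zero]
  have h5 : Function.Surjective φ4 := by
    intro x
    obtain ⟨w, rfl⟩ := Submodule.Quotient.mk_surjective _ x
    exact ⟨Submodule.Quotient.mk w, by simp [φ4]⟩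
  obtain ⟨k1, k2, k3⟩ := six_term j φ1 φ2 φ3 φ4 hj h1 h2 h3 h4 h5
  refine ⟨⟨k1, k2⟩, ?_⟩
  simp only [ind]
  omega

end Comp



section Mid

variable {M N P Q : Type*} [AddCommGroup M] [AddCommGroup N] [AddCommGroup P] [AddCommGroup Q]
  [Module F M] [Module F N] [Module F P] [Module F Q]

theorem fred_mid (φ : M →ₗ[F] N) (ψ : N →ₗ[F] P) (χ : P →ₗ[F] Q) (h1 : Function.Exact φ ψ)
    (h2 : Function.Exact ψ χ) [hφ : Module.Finite F (LinearMap.range φ)]
    [hχ : Module.Finite F (LinearMap.range χ)] :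
    Fred ψ ∧ ind ψ = (finrank F (LinearMap.range φ) : ℤ) - finrank F (LinearMap.range χ) := by
  have e1 : LinearMap.ker ψ = LinearMap.range φ := LinearMap.exact_iff.1 h1
  have e2 : LinearMap.ker χ = LinearMap.range ψ := LinearMap.exact_iff.1 h2
  let E : (P ⧸ LinearMap.range ψ) ≃ₗ[F] LinearMap.range χ :=
    (Submodule.quotEquivOfEq _ _ e2.symm).trans χ.quotKerEquivRange
  refine ⟨⟨?_, Module.Finite.equiv E.symm⟩, ?_⟩
  · rw [e1]; exact hφ
  · simp only [ind]
    rw [E.finrank_eq, e1]

end Mid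

section Two

variable {A1 H A3 A4 Om A6 B1 B3 B4 B6 : Type*}
  [AddCommGroup A1] [AddCommGroup H] [AddCommGroup A3] [AddCommGroup A4] [AddCommGroup Om]
  [AddCommGroup A6] [AddCommGroup B1] [AddCommGroup B3] [AddCommGroup B4] [AddCommGroup B6]
  [Module F A1] [Module F H] [Module F A3] [Module F A4] [Module F Om]
  [Module F A6] [Module F B1] [Module F B3] [Module F B4] [Module F B6]

theorem two_seq (a1 : A1 →ₗ[F] H) (a2 : H →ₗ[F] A3) (a3 : A3 →ₗ[F] A4) (a4 : A4 →ₗ[F] Om)
    (a5 : Om →ₗ[F] A6) (b1 : B1 →ₗ[F] H) (b2 : H →ₗ[F] B3) (b3 : B3 →ₗ[F] B4)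
    (b4 : B4 →ₗ[F] Om) (b5 : Om →ₗ[F] B6)
    (ha1 : Function.Injective a1) (ha12 : Function.Exact a1 a2) (ha23 : Function.Exact a2 a3)
    (ha34 : Function.Exact a3 a4) (ha45 : Function.Exact a4 a5) (ha5 : Function.Surjective a5)
    (hb1 : Function.Injective b1) (hb12 : Function.Exact b1 b2) (hb23 : Function.Exact b2 b3)
    (hb34 : Function.Exact b3 b4) (hb45 : Function.Exact b4 b5) (hb5 : Function.Surjective b5)
    [Module.Finite F A3] [Module.Finite F A6] [Module.Finite F B1] [Module.Finite F B4] :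
    Fred (b5 ∘ₗ a4) ∧ Fred (b2 ∘ₗ a1) ∧
      ind (b5 ∘ₗ a4) - ind (b2 ∘ₗ a1) =
        ((finrank F B4 : ℤ) - finrank F B1) - ((finrank F A6 : ℤ) - finrank F A3) := by
  -- a4
  obtain ⟨fa4, ia4⟩ := fred_mid a3 a4 a5 ha34 ha45
  -- b5
  have hb5' : Function.Exact b5 (0 : B6 →ₗ[F] B6) := by
    intro y
    simp only [LinearMap.zero_apply, true_iff]
    exact hb5 y
  haveI : Module.Finite F (LinearMap.range (0 : B6 →ₗ[F] B6)) := by
    rw [LinearMap.range_zero]; infer_instance
  obtain ⟨fb5, ib5⟩ := fred_mid b4 b5 (0 : B6 →ₗ[F] B6) hb45 hb5'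
  -- a1
  have ha1' : Function.Exact (0 : A1 →ₗ[F] A1) a1 := by
    intro y
    simp only [Set.mem_range, LinearMap.zero_apply, exists_const]
    constructor
    · intro h; exact (ha1 (h.trans (map_zero a1).symm)).symm
    · intro h; rw [← h, map_zero]
  haveI : Module.Finite F (LinearMap.range (0 : A1 →ₗ[F] A1)) := by
    rw [LinearMap.range_zero]; infer_instance
  obtain ⟨fa1, ia1⟩ := fred_mid (0 : A1 →ₗ[F] A1) a1 a2 ha1' ha12
  -- b2
  obtain ⟨fb2, ib2⟩ := fred_mid b1 b2 b3 hb12 hb23
  obtain ⟨fα, iα⟩ := fred_comp a4 b5 fa4 fb5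
  obtain ⟨fβ, iβ⟩ := fred_comp a1 b2 fa1 fb2
  refine ⟨fα, fβ, ?_⟩
  have d1 := finrank_eq_of_exact a2 a3 ha23
  have d2 := finrank_eq_of_exact b3 b4 hb34
  have d3 : finrank F (LinearMap.range a5) = finrank F A6 := by
    rw [LinearMap.range_eq_top.2 ha5, finrank_top]
  have d4 : finrank F (LinearMap.range b1) = finrank F B1 := LinearMap.finrank_range_of_inj hb1
  have d5 : finrank F (LinearMap.range (0 : B6 →ₗ[F] B6)) = 0 := by
    rw [LinearMap.range_zero, finrank_bot]
  have d6 : finrank F (LinearMap.range (0 : A1 →ₗ[F] A1)) = 0 := by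
    rw [LinearMap.range_zero, finrank_bot]
  rw [iα, iβ, ia4, ib5, ia1, ib2]
  omega

end Two

end Groth.Agent.Lib.R2H4.FredIndex
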