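import Mathlib
import Groth.Agent.Lib.Helper7Cartier2
import Groth.Agent.Lib.Helper7H1Fields
import Groth.Agent.Lib.R2H4FredIndex

/-!
# Cartier equality via `H¹` of the cotangent complex, and squares of field extensions
(helper4, round 2)

* `h1map_comp`, `kaehler_map_comp`: functoriality of `Algebra.H1Cotangent.map` and
  `KaehlerDifferential.map` for composable squares.
* `h1map_int_eq_zero`, `delta_int_injective`, `h1EquivImperfection`: for a field extension `L/K`,
  `H¹(L_{L/K}) ≃ Υ_{L/K/ℤ}`.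
* `cartier_h1`: `dim H¹(L_{L/K}) + trdeg = dim Ω_{L/K}` for finitely generated field extensions.
* `alpha_eq`, `beta_eq`, `main`: S9320.
-/

set_option autoImplicit false
set_option linter.style.haveILetI false
set_option linter.unusedSectionVars false
universe u
open Module Algebra TensorProduct KaehlerDifferential

namespace Groth.Agent.Lib.R2H4.CartierSq


section Functoriality

variable {R₁ R₂ R₃ S₁ S₂ S₃ : Type*} [CommRing R₁] [CommRing R₂] [CommRing R₃]
  [CommRing S₁] [CommRing S₂] [CommRing S₃]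
  [Algebra R₁ S₁] [Algebra R₂ S₂] [Algebra R₃ S₃]
  [Algebra R₁ R₂] [Algebra R₂ R₃] [Algebra R₁ R₃] [IsScalarTower R₁ R₂ R₃]
  [Algebra S₁ S₂] [Algebra S₂ S₃] [Algebra S₁ S₃] [IsScalarTower S₁ S₂ S₃]
  [Algebra R₁ S₂] [IsScalarTower R₁ R₂ S₂] [IsScalarTower R₁ S₁ S₂]
  [Algebra R₂ S₃] [IsScalarTower R₂ R₃ S₃] [IsScalarTower R₂ S₂ S₃]
  [Algebra R₁ S₃] [IsScalarTower R₁ R₃ S₃] [IsScalarTower R₁ S₁ S₃]

theorem h1map_comp (x : H1Cotangent R₁ S₁) :
    H1Cotangent.map R₂ R₃ S₂ S₃ (H1Cotangent.map R₁ R₂ S₁ S₂ x) =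
      H1Cotangent.map R₁ R₃ S₁ S₃ x := by
  unfold H1Cotangent.map
  rw [← Extension.H1Cotangent.map_comp_apply]
  rw [Extension.H1Cotangent.map_eq _
    ((Generators.self R₁ S₁).defaultHom (Generators.self R₃ S₃)).toExtensionHom]

theorem kaehler_map_comp (x : Ω[S₁⁄R₁]) :
    KaehlerDifferential.map R₂ R₃ S₂ S₃ (KaehlerDifferential.map R₁ R₂ S₁ S₂ x) =
      KaehlerDifferential.map R₁ R₃ S₁ S₃ x := by
  have h : ((KaehlerDifferential.map R₂ R₃ S₂ S₃).restrictScalars S₁ ∘ₗ
      KaehlerDifferential.map R₁ R₂ S₁ S₂) = KaehlerDifferential.map R₁ R₃ S₁ S₃ := by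
    apply Derivation.liftKaehlerDifferential_unique
    ext a
    change KaehlerDifferential.map R₂ R₃ S₂ S₃ (KaehlerDifferential.map R₁ R₂ S₁ S₂ (D R₁ S₁ a)) =
      KaehlerDifferential.map R₁ R₃ S₁ S₃ (D R₁ S₁ a)
    rw [KaehlerDifferential.map_D, KaehlerDifferential.map_D, KaehlerDifferential.map_D,
      ← IsScalarTower.algebraMap_apply]
  exact congrArg (fun f => f x) h

end Functoriality


theorem h1map_int_eq_zero (K L : Type u) [Field K] [Field L] [Algebra K L]
    (x : H1Cotangent ℤ L) : H1Cotangent.map ℤ K L L x = 0 := by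
  obtain ⟨p, hp⟩ := CharP.exists K
  rcases CharP.char_is_prime_or_zero K p with hpp | rfl
  · haveI : Fact p.Prime := ⟨hpp⟩
    haveI : CharP L p := charP_of_injective_algebraMap (algebraMap K L).injective p
    letI : Algebra (ZMod p) K := ZMod.algebra K p
    letI : Algebra (ZMod p) L := ZMod.algebra L p
    haveI : IsScalarTower (ZMod p) K L := IsScalarTower.of_algebraMap_eq' (Subsingleton.elim _ _)
    haveI := Groth.Agent.Lib.Helper19.PBasis.formallySmooth_zmod p L
    rw [← h1map_comp (R₁ := ℤ) (R₂ := ZMod p) (R₃ := K) (S₁ := L) (S₂ := L) (S₃ := L) x]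
    rw [Subsingleton.elim (H1Cotangent.map ℤ (ZMod p) L L x) 0, map_zero]
  · haveI : CharZero K := CharP.charP_to_charZero K
    haveI : CharZero L := charZero_of_injective_algebraMap (algebraMap K L).injective
    haveI : IsScalarTower ℚ K L := IsScalarTower.of_algebraMap_eq' (RingHom.ext_rat _ _)
    haveI := Groth.Agent.Lib.Helper7.CoefField.formallySmooth_rat L
    rw [← h1map_comp (R₁ := ℤ) (R₂ := ℚ) (R₃ := K) (S₁ := L) (S₂ := L) (S₃ := L) x]
    rw [Subsingleton.elim (H1Cotangent.map ℤ ℚ L L x) 0, map_zero]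

theorem delta_int_injective (K L : Type u) [Field K] [Field L] [Algebra K L] :
    Function.Injective (H1Cotangent.δ ℤ K L) := by
  rw [injective_iff_map_eq_zero]
  intro z hz
  obtain ⟨w, rfl⟩ := (H1Cotangent.exact_map_δ ℤ K L z).1 hz
  exact h1map_int_eq_zero K L w

open Groth.Agent.Lib.Helper7.ExalLib in
/-- `H¹(L_{L/K}) ≃ Υ_{L/K/ℤ}` for a field extension. -/
noncomputable def h1EquivImperfection (K L : Type u) [Field K] [Field L] [Algebra K L] :
    H1Cotangent K L ≃ₗ[L] EGA41.imperfection ℤ K L :=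
  (LinearEquiv.ofInjective (H1Cotangent.δ ℤ K L) (delta_int_injective K L)).trans
    (LinearEquiv.ofEq _ _ (imperfection_eq_range_delta (k := ℤ) (K := K) (L := L)).symm)

open Groth.Agent.Lib.Helper7.ExalLib in
/-- Cartier's equality in terms of `H¹` of the cotangent complex. -/
theorem cartier_h1 (K L : Type u) [Field K] [Field L] [Algebra K L] [Algebra.EssFiniteType K L] :
    Module.Finite L (Ω[L⁄K]) ∧ Module.Finite L (H1Cotangent K L) ∧
      Module.finrank L (H1Cotangent K L) + Cardinal.toNat (Algebra.trdeg K L) =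
        Module.finrank L (Ω[L⁄K]) := by
  obtain ⟨h1, h2, -, h4⟩ := cartierEQ_of_essFiniteType (K := K) (L := L)
  refine ⟨h1, Module.Finite.equiv (h1EquivImperfection K L).symm, ?_⟩
  rw [(h1EquivImperfection K L).finrank_eq]
  exact h4


open Groth.Agent.Lib.R2H4.FredIndex

variable {k k' K K' : Type u} [Field k] [Field k']
    [Field K] [Field K'] [Algebra k k'] [Algebra k K] [Algebra k K'] [Algebra k' K'] [Algebra K K']
    [IsScalarTower k k' K'] [IsScalarTower k K K']

theorem alpha_eq :
    (KaehlerDifferential.map k k' K K').liftBaseChange K' =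
      (KaehlerDifferential.map k k' K' K') ∘ₗ (KaehlerDifferential.mapBaseChange k K K') := by
  apply TensorProduct.AlgebraTensorModule.ext
  intro c m
  rw [LinearMap.liftBaseChange_tmul, LinearMap.comp_apply, KaehlerDifferential.mapBaseChange_tmul,
    map_smul, kaehler_map_comp (R₁ := k) (R₂ := k) (R₃ := k') (S₁ := K) (S₂ := K') (S₃ := K') m]

theorem beta_eq :
    (H1Cotangent.map k k' K K').liftBaseChange K' =
      (H1Cotangent.map k k' K' K') ∘ₗ ((H1Cotangent.map k k K K').liftBaseChange K') := by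
  apply TensorProduct.AlgebraTensorModule.ext
  intro c m
  rw [LinearMap.liftBaseChange_tmul, LinearMap.comp_apply, LinearMap.liftBaseChange_tmul,
    map_smul, h1map_comp (R₁ := k) (R₂ := k) (R₃ := k') (S₁ := K) (S₂ := K') (S₃ := K') m]

theorem main [Algebra.EssFiniteType k k'] [Algebra.EssFiniteType K K'] :
    Fred ((KaehlerDifferential.map k k' K K').liftBaseChange K') ∧
    Fred ((H1Cotangent.map k k' K K').liftBaseChange K') ∧
    ind ((KaehlerDifferential.map k k' K K').liftBaseChange K') -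
      ind ((H1Cotangent.map k k' K K').liftBaseChange K') =
      (Cardinal.toNat (Algebra.trdeg k k') : ℤ) - Cardinal.toNat (Algebra.trdeg K K') := by
  obtain ⟨f1, f2, f3⟩ := cartier_h1 K K'
  obtain ⟨g1, g2, g3⟩ := cartier_h1 k k'
  haveI : Module.Finite K' (K' ⊗[k'] H1Cotangent k k') := Module.Finite.base_change k' K' _
  haveI : Module.Finite K' (K' ⊗[k'] Ω[k'⁄k]) := Module.Finite.base_change k' K' _
  obtain ⟨r1, r2, r3⟩ := two_seq (F := K')
    ((H1Cotangent.map k k K K').liftBaseChange K') (H1Cotangent.map k K K' K')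
    (H1Cotangent.δ k K K') (KaehlerDifferential.mapBaseChange k K K')
    (KaehlerDifferential.map k K K' K')
    ((H1Cotangent.map k k k' K').liftBaseChange K') (H1Cotangent.map k k' K' K')
    (H1Cotangent.δ k k' K') (KaehlerDifferential.mapBaseChange k k' K')
    (KaehlerDifferential.map k k' K' K')
    (Groth.Agent.Lib.Helper7.H1Nat.injective_liftBaseChange_map_fields (K := k) (L := K) (M := K'))
    (H1Cotangent.exact_liftBaseChange_map_of_flat k K K')
    (H1Cotangent.exact_map_δ k K K') (H1Cotangent.exact_δ_mapBaseChange k K K')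
    (KaehlerDifferential.exact_mapBaseChange_map k K K') (KaehlerDifferential.map_surjective k K K')
    (Groth.Agent.Lib.Helper7.H1Nat.injective_liftBaseChange_map_fields (K := k) (L := k') (M := K'))
    (H1Cotangent.exact_liftBaseChange_map_of_flat k k' K')
    (H1Cotangent.exact_map_δ k k' K') (H1Cotangent.exact_δ_mapBaseChange k k' K')
    (KaehlerDifferential.exact_mapBaseChange_map k k' K')
    (KaehlerDifferential.map_surjective k k' K')
  rw [← alpha_eq] at r1 r3
  rw [← beta_eq] at r2 r3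
  refine ⟨r1, r2, ?_⟩
  rw [r3, Module.finrank_baseChange, Module.finrank_baseChange]
  omega

end Groth.Agent.Lib.R2H4.CartierSq
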