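import Mathlib
import Groth.Prelude
import Groth.Agent.Lib.R2H4CartierSq
import Groth.Agent.Lib.R2H1CurveDeg
import Groth.Agent.Lib.R2H1NormCompl
import Groth.Agent.Lib.R2H1BirGenus
import Groth.Agent.Lib.R2H1CurveBC
import Groth.Agent.Lib.H9RadA
import Groth.Agent.Lib.R2H1SmoothCompl
import Groth.Agent.Lib.R2H4BirIso
set_option backward.isDefEq.respectTransparency.types false

/-!
R2H1FrobTwist (helper1, round 2): purely inseparable morphisms of curves. Field theory: finrank_le_of_separating (K/k(t) separable, S contains k and all p^n-th powers => [K:S] <= p^n), pow_exponent_le_finrank, surjective_of_separating (a k-subfield of L containing the image of the iterated Frobenius K -> L is L); exists_separating (f.g. formally smooth field ext of trdeg 1 has a separating element, via Cartier equality), smooth_sections, formallySmooth_functionField, exists_separating_functionField. Geometry: stalkMap_algebraMap(_apply), stalkSpecializes_algebraMap(_apply) (k-linearity of stalk maps), eq_of_SpecMap_fromSpecStalk, valuationRing_stalk', exists_hom_of_generic (extension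 of a generic point of a normal curve to a morphism into a proper scheme), not_isClosed_generic, isProper_of_over, isFinite_of_generic (nonconstant morphism of curves with proper source is finite), isHomeomorph_fst / dim_twist / irreducibleSpace_twist / isIntegral_twist / isNormalScheme_twist (base change along a purely inseparable field hom), isPurelyInseparable_iterateFrobenius, fromSpecStalk_apply_of_isField, map_genericPoint_of_isHomeomorph, spec_spec, main (X smooth proper integral curve, Y normal proper integral curve, f : X -> Y generically purely inseparable => Y is k-isomorphic to the Frobenius twist X^(p^r)).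
-/

set_option autoImplicit false
set_option linter.style.haveILetI false
set_option linter.unusedSectionVars false
universe u v

open CategoryTheory CategoryTheory.Limits AlgebraicGeometry TopologicalSpace Opposite

namespace Groth.Agent.Lib.R2H1.FrobTwist

section Part1

open IntermediateField Polynomial

variable {k K : Type*} [Field k] [Field K] [Algebra k K]

/-- If `K / k(t)` is separable and the subfield `S ⊇ k` contains all `p^n`-th powers, then
`[K : S] ≤ p ^ n`. -/
theorem finrank_le_of_separating (p : ℕ) [ExpChar k p] (n : ℕ) (t : K)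
    [Algebra.IsSeparable k⟮t⟯ K]
    (S : IntermediateField k K) (hS : ∀ x : K, x ^ p ^ n ∈ S) :
    Module.Finite S K ∧ Module.finrank S K ≤ p ^ n := by
  haveI : ExpChar k⟮t⟯ p := expChar_of_injective_algebraMap (algebraMap k k⟮t⟯).injective p
  have hpos : 0 < p ^ n := expChar_pow_pos k p n
  -- K = S⟮t⟯
  have htop : (IntermediateField.adjoin S {t} : IntermediateField S K) = ⊤ := by
    rw [eq_top_iff]
    intro x _
    have h1 := adjoin_eq_adjoin_pow_expChar_pow_of_isSeparable' k⟮t⟯ K (Set.univ) p n
    have hx : x ∈ IntermediateField.adjoin k⟮t⟯ (Set.univ : Set K) := subset_adjoin _ _ (Set.mem_univ x)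
    rw [h1] at hx
    -- the big field restricted
    let M : IntermediateField k K := (IntermediateField.adjoin S {t}).restrictScalars k
    have hle : k⟮t⟯ ≤ M := by
      rw [adjoin_simple_le_iff]
      exact subset_adjoin S {t} (Set.mem_singleton t)
    let M' : IntermediateField k⟮t⟯ K := IntermediateField.extendScalars hle
    have h2 : IntermediateField.adjoin k⟮t⟯ ((· ^ p ^ n) '' (Set.univ : Set K)) ≤ M' := by
      rw [adjoin_le_iff]
      rintro _ ⟨y, -, rfl⟩
      change y ^ p ^ n ∈ IntermediateField.adjoin S {t}
      have : y ^ p ^ n = algebraMap S K ⟨y ^ p ^ n, hS y⟩ := rfl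
      rw [this]
      exact (IntermediateField.adjoin S {t}).algebraMap_mem _
    exact h2 hx
  have hint : IsIntegral S t := by
    refine ⟨X ^ p ^ n - C (⟨t ^ p ^ n, hS t⟩ : S), monic_X_pow_sub_C _ hpos.ne', ?_⟩
    simp [sub_eq_zero]
  have hfin : FiniteDimensional S (IntermediateField.adjoin S {t}) :=
    IntermediateField.adjoin.finiteDimensional hint
  have hfr : Module.finrank S (IntermediateField.adjoin S {t}) ≤ p ^ n := by
    rw [IntermediateField.adjoin.finrank hint]
    have hdvd : minpoly S t ∣ X ^ p ^ n - C (⟨t ^ p ^ n, hS t⟩ : S) := by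
      apply minpoly.dvd
      simp [sub_eq_zero]
    have hne : (X ^ p ^ n - C (⟨t ^ p ^ n, hS t⟩ : S) : S[X]) ≠ 0 :=
      (monic_X_pow_sub_C _ hpos.ne').ne_zero
    calc (minpoly S t).natDegree ≤ (X ^ p ^ n - C (⟨t ^ p ^ n, hS t⟩ : S) : S[X]).natDegree :=
          natDegree_le_of_dvd hdvd hne
      _ = p ^ n := natDegree_X_pow_sub_C
  rw [htop] at hfin hfr
  constructor
  · exact (IntermediateField.topEquiv (F := S) (E := K)).toLinearEquiv.finiteDimensional
  · rwa [IntermediateField.finrank_top'] at hfr

end Part1

section Part2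

open IntermediateField Polynomial IsPurelyInseparable

variable {L K : Type*} [Field L] [Field K] [Algebra L K]

theorem pow_exponent_le_finrank (p : ℕ) [ExpChar L p] [IsPurelyInseparable L K]
    [FiniteDimensional L K] :
    p ^ exponent L K ≤ Module.finrank L K := by
  rcases Nat.eq_zero_or_pos (exponent L K) with h | h
  · rw [h, pow_zero]; exact Module.finrank_pos
  · obtain ⟨a, ha⟩ := exponent_min' (K := L) (L := K) p (Nat.sub_one_lt h.ne')
    have hlt : exponent L K - 1 < elemExponent L a := by
      by_contra hc
      push_neg at hc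
      apply ha
      obtain ⟨y, hy⟩ := elemExponent_def' L p a
      refine ⟨y ^ p ^ (exponent L K - 1 - elemExponent L a), ?_⟩
      rw [map_pow, hy, ← pow_mul, ← pow_add, Nat.add_sub_cancel' hc]
    have h1 : exponent L K ≤ elemExponent L a := by omega
    have hp1 : 1 ≤ p := (expChar_pos L p)
    calc p ^ exponent L K ≤ p ^ elemExponent L a := Nat.pow_le_pow_right hp1 h1
      _ = (minpoly L a).natDegree := (minpoly_natDegree_eq' L p a).symm
      _ ≤ Module.finrank L K := minpoly.natDegree_le a

variable {k : Type*} [Field k] [Algebra k L] [Algebra k K] [IsScalarTower k L K]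

/-- the field theoretic core: a subfield of `L` containing `k` and the image of the iterated
Frobenius `K → L` is all of `L`, if `K / k` has a separating element. -/
theorem surjective_of_separating (p : ℕ) [ExpChar k p] [ExpChar L p] [IsPurelyInseparable L K]
    [FiniteDimensional L K] (t : K) [Algebra.IsSeparable k⟮t⟯ K]
    {F : Type*} [Field F] [Algebra k F] (σ : F →ₐ[k] L)
    (hσ : ∀ x : K, ∃ z : F, σ z = IsPurelyInseparable.iterateFrobenius L K p (le_refl (exponent L K)) x) :
    Function.Surjective σ := by
  let τ : F →ₐ[k] K := (IsScalarTower.toAlgHom k L K).comp σ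
  let S : IntermediateField k K := τ.fieldRange
  let L' : IntermediateField k K := (IsScalarTower.toAlgHom k L K).fieldRange
  have hSL : S ≤ L' := by
    rintro _ ⟨z, rfl⟩
    exact ⟨σ z, rfl⟩
  have hS : ∀ x : K, x ^ p ^ exponent L K ∈ S := by
    intro x
    obtain ⟨z, hz⟩ := hσ x
    refine ⟨z, ?_⟩
    change algebraMap L K (σ z) = _
    rw [hz, algebraMap_iterateFrobenius]
  obtain ⟨hfin, hle⟩ := finrank_le_of_separating p (exponent L K) t S hS
  have h1 : Module.finrank L' K ≤ Module.finrank S K := finrank_le_of_le_left hSL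
  have h2 : Module.finrank L K = Module.finrank L' K := by
    refine Algebra.finrank_eq_of_equiv_equiv
      (AlgEquiv.ofInjectiveField (IsScalarTower.toAlgHom k L K)).toRingEquiv (RingEquiv.refl K) ?_
    ext y
    rfl
  have h3 := pow_exponent_le_finrank (L := L) (K := K) p
  have heq : S = L' := eq_of_le_of_finrank_eq' hSL (by omega)
  intro y
  have hy : algebraMap L K y ∈ L' := ⟨y, rfl⟩
  rw [← heq] at hy
  obtain ⟨z, hz⟩ := hy
  exact ⟨z, (algebraMap L K).injective hz⟩

end Part2

section Part3

open IntermediateField Polynomial KaehlerDifferential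

/-- A finitely generated formally smooth field extension of transcendence degree one has a
separating element. -/
theorem exists_separating (k K : Type u) [Field k] [Field K] [Algebra k K]
    [Algebra.EssFiniteType k K] [Algebra.FormallySmooth k K]
    (htr : Algebra.trdeg k K = 1) :
    ∃ t : K, Algebra.IsSeparable k⟮t⟯ K := by
  obtain ⟨hfinΩ, -, hcart⟩ := Groth.Agent.Lib.R2H4.CartierSq.cartier_h1 k K
  have h0 : Module.finrank K (Algebra.H1Cotangent k K) = 0 := Module.finrank_zero_of_subsingleton
  have hrk : Module.finrank K (Ω[K⁄k]) = 1 := by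
    rw [← hcart, h0, htr]; simp
  -- a nonzero differential
  have hex : ∃ t : K, D k K t ≠ 0 := by
    by_contra hc
    push_neg at hc
    have hspan := KaehlerDifferential.span_range_derivation k K
    have hbot : Submodule.span K (Set.range (D k K)) = ⊥ := by
      rw [Submodule.span_eq_bot]
      rintro _ ⟨t, rfl⟩
      exact hc t
    rw [hbot] at hspan
    haveI : Subsingleton (Ω[K⁄k]) := by
      rw [← Submodule.subsingleton_iff K]  
      exact subsingleton_of_bot_eq_top hspan
    rw [Module.finrank_zero_of_subsingleton] at hrk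
    exact zero_ne_one hrk
  obtain ⟨t, ht⟩ := hex
  refine ⟨t, ?_⟩
  have hgen := (finrank_eq_one_iff_of_nonzero' (D k K t) ht).1 hrk
  -- the map Ω[K/k] → Ω[K/k(t)] is zero and surjective
  have hsurj := KaehlerDifferential.map_surjective k k⟮t⟯ K
  haveI : Subsingleton (Ω[K⁄k⟮t⟯]) := by
    refine ⟨fun a b => ?_⟩
    have hz : ∀ w : Ω[K⁄k⟮t⟯], w = 0 := by
      intro w
      obtain ⟨v, rfl⟩ := hsurj w
      obtain ⟨c, rfl⟩ := hgen v
      rw [map_smul, KaehlerDifferential.map_D]
      have : (algebraMap K K) t = algebraMap k⟮t⟯ K ⟨t, mem_adjoin_simple_self k t⟩ := rfl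
      rw [this, Derivation.map_algebraMap, smul_zero]
    rw [hz a, hz b]
  haveI : Algebra.FormallyUnramified k⟮t⟯ K := ⟨inferInstance⟩
  haveI : Algebra.EssFiniteType k⟮t⟯ K := Algebra.EssFiniteType.of_comp k k⟮t⟯ K
  exact Algebra.FormallyUnramified.isSeparable k⟮t⟯ K

end Part3

section Part4

open CategoryTheory CategoryTheory.Limits AlgebraicGeometry IntermediateField
open Groth.Agent.Lib.Helper4.VarDim Groth.Agent.Lib.R2H1.CurveDeg

attribute [local instance] sectionsAlgebra Curv2.stalkAlgebra

variable (k : Type u) [Field k] (X : Scheme.{u}) [X.Over (Spec (CommRingCat.of k))]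

theorem smooth_sections [Smooth (X ↘ Spec (CommRingCat.of k))] {U : X.Opens}
    (hU : IsAffineOpen U) : Algebra.Smooth k Γ(X, U) := by
  have h1 : ((X ↘ (Spec (CommRingCat.of k))).appLE ⊤ U le_top).hom.Smooth :=
    (X ↘ (Spec (CommRingCat.of k))).smooth_appLE (isAffineOpen_top (Spec (CommRingCat.of k))) hU le_top
  have h2 : ((Scheme.ΓSpecIso (CommRingCat.of k)).inv ≫
      (X ↘ (Spec (CommRingCat.of k))).appLE ⊤ U le_top).hom.Smooth := by
    rw [CommRingCat.hom_comp]
    refine RingHom.Smooth.comp (RingHom.Smooth.of_bijective ?_) h1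
    exact ConcreteCategory.bijective_of_isIso (Scheme.ΓSpecIso (CommRingCat.of k)).inv
  exact h2

variable [IsIntegral X]

theorem formallySmooth_functionField [Smooth (X ↘ Spec (CommRingCat.of k))] :
    Algebra.FormallySmooth k X.functionField := by
  obtain ⟨x₀⟩ := (inferInstance : Nonempty X)
  obtain ⟨U, hU, hx₀, -⟩ := exists_isAffineOpen_mem_and_subset (U := ⊤) (x := x₀) trivial
  haveI : Nonempty U := ⟨⟨x₀, hx₀⟩⟩
  haveI := smooth_sections k X hU
  haveI := functionField_isFractionRing_of_isAffineOpen X U hU
  haveI : Algebra.FormallySmooth Γ(X, U) X.functionField :=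
    Algebra.FormallySmooth.of_isLocalization (nonZeroDivisors Γ(X, U))
  exact Algebra.FormallySmooth.comp k Γ(X, U) X.functionField

theorem exists_separating_functionField [Smooth (X ↘ Spec (CommRingCat.of k))]
    (hdim : topologicalKrullDim X = 1) :
    ∃ t : X.functionField, Algebra.IsSeparable k⟮t⟯ X.functionField := by
  haveI := formallySmooth_functionField k X
  haveI := essFiniteType_functionField k X
  exact exists_separating k X.functionField (trdeg_functionField k X hdim)

end Part4

section Part5

open CategoryTheory CategoryTheory.Limits AlgebraicGeometry TopologicalSpace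

attribute [local instance] Curv2.stalkAlgebra

section Lin

variable (k : Type u) [Field k] {X Y : Scheme.{u}} [X.Over (Spec (CommRingCat.of k))]
  [Y.Over (Spec (CommRingCat.of k))]

open Groth.Agent.Lib.R2H1.CurveDeg in
theorem stalkMap_algebraMap (f : X ⟶ Y)
    (hf : f ≫ (Y ↘ Spec (CommRingCat.of k)) = X ↘ Spec (CommRingCat.of k)) (x : X) :
    CommRingCat.ofHom (algebraMap k (Y.presheaf.stalk (f x))) ≫ f.stalkMap x =
      CommRingCat.ofHom (algebraMap k (X.presheaf.stalk x)) := by
  apply Spec.map_injective
  rw [Spec.map_comp, SpecMap_stalkMap k X x, SpecMap_stalkMap k Y (f x), ← Category.assoc,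
    Scheme.SpecMap_stalkMap_fromSpecStalk, Category.assoc, hf]

open Groth.Agent.Lib.R2H1.CurveDeg in
theorem stalkSpecializes_algebraMap {x y : X} (h : x ⤳ y) :
    CommRingCat.ofHom (algebraMap k (X.presheaf.stalk y)) ≫ X.presheaf.stalkSpecializes h =
      CommRingCat.ofHom (algebraMap k (X.presheaf.stalk x)) := by
  apply Spec.map_injective
  rw [Spec.map_comp, SpecMap_stalkMap k X x, SpecMap_stalkMap k X y, ← Category.assoc,
    Scheme.SpecMap_stalkSpecializes_fromSpecStalk]

theorem stalkMap_algebraMap_apply (f : X ⟶ Y)
    (hf : f ≫ (Y ↘ Spec (CommRingCat.of k)) = X ↘ Spec (CommRingCat.of k)) (x : X) (c : k) :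
    (f.stalkMap x).hom (algebraMap k (Y.presheaf.stalk (f x)) c) =
      algebraMap k (X.presheaf.stalk x) c :=
  congrArg (fun ψ => ψ.hom c) (stalkMap_algebraMap k f hf x)

theorem stalkSpecializes_algebraMap_apply {x y : X} (h : x ⤳ y) (c : k) :
    (X.presheaf.stalkSpecializes h).hom (algebraMap k (X.presheaf.stalk y) c) =
      algebraMap k (X.presheaf.stalk x) c :=
  congrArg (fun ψ => ψ.hom c) (stalkSpecializes_algebraMap k h)

end Lin

section Sp

variable {X : Scheme.{u}}

theorem eq_of_SpecMap_fromSpecStalk {F : CommRingCat.{u}} {x x' : X} (e : x = x')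
    (a : X.presheaf.stalk x ⟶ F) (b : X.presheaf.stalk x' ⟶ F)
    (h : Spec.map a ≫ X.fromSpecStalk x = Spec.map b ≫ X.fromSpecStalk x') :
    a = X.presheaf.stalkSpecializes (specializes_of_eq e.symm) ≫ b := by
  subst e
  rw [TopCat.Presheaf.stalkSpecializes_refl, Category.id_comp]
  apply Spec.map_injective
  exact (cancel_mono (X.fromSpecStalk x)).1 h

end Sp

section Ext

open Groth.Agent.Lib.R2H1.NormCompl

variable (k : Type u) [Field k] (Y C : Scheme.{u}) [Y.Over (Spec (CommRingCat.of k))]
    [C.Over (Spec (CommRingCat.of k))] [IsIntegral Y]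
    [LocallyOfFiniteType (Y ↘ Spec (CommRingCat.of k))]

include k in
theorem valuationRing_stalk' (hdim : topologicalKrullDim Y = 1)
    (hnorm : Pi1.IsNormalScheme Y) (x : Y) : ValuationRing (Y.presheaf.stalk x) := by
  haveI : IsLocallyNoetherian Y :=
    LocallyOfFiniteType.isLocallyNoetherian (Y ↘ Spec (CommRingCat.of k))
  by_cases hx : x = genericPoint Y
  · subst hx
    exact Groth.Agent.Lib.Helper8Dedekind.valuationRing_of_isField
      (Field.toIsField Y.functionField)
  · have hcl := Groth.Agent.Lib.R2H1.CurveDeg.isClosed_of_ne_generic k Y hdim x hx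
    haveI := Groth.Agent.Lib.R2H1.IsoP1D.isDVR_of_normal_closed hdim x hcl (hnorm x).2
    infer_instance

/-- the morphism from a normal curve to a proper scheme extending a generic point -/
theorem exists_hom_of_generic [IsProper (C ↘ Spec (CommRingCat.of k))]
    (hdim : topologicalKrullDim Y = 1) (hnorm : Pi1.IsNormalScheme Y)
    (s : Spec Y.functionField ⟶ C)
    (hs : s ≫ (C ↘ Spec (CommRingCat.of k)) =
      Y.fromSpecStalk (genericPoint Y) ≫ (Y ↘ Spec (CommRingCat.of k))) :
    ∃ j : Y ⟶ C, j ≫ (C ↘ Spec (CommRingCat.of k)) = Y ↘ Spec (CommRingCat.of k) ∧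
      Y.fromSpecStalk (genericPoint Y) ≫ j = s := by
  obtain ⟨t, ht1, ht2⟩ := exists_section_extending (valuationRing_stalk' k Y hdim hnorm)
    (pullback.fst (Y ↘ Spec (CommRingCat.of k)) (C ↘ Spec (CommRingCat.of k)))
    (pullback.lift _ _ hs.symm) (pullback.lift_fst _ _ _)
  refine ⟨t ≫ pullback.snd _ _, ?_, ?_⟩
  · rw [Category.assoc, ← pullback.condition, ← Category.assoc, ht1, Category.id_comp]
  · rw [← Category.assoc, ht2, pullback.lift_snd]

end Ext

end Part5

section Part6

open CategoryTheory CategoryTheory.Limits AlgebraicGeometry TopologicalSpace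


section Top

theorem not_isClosed_generic (Z : Scheme.{u}) [IsIntegral Z] (hdim : topologicalKrullDim Z = 1) :
    ¬ IsClosed ({genericPoint Z} : Set Z) := by
  intro hcl
  have h1 : (Set.univ : Set Z) = {genericPoint Z} := by
    rw [← (genericPoint_spec Z).def, hcl.closure_eq]
  haveI : Subsingleton Z := by
    refine ⟨fun a b => ?_⟩
    have ha : a ∈ ({genericPoint Z} : Set Z) := h1 ▸ Set.mem_univ a
    have hb : b ∈ ({genericPoint Z} : Set Z) := h1 ▸ Set.mem_univ b
    rw [Set.mem_singleton_iff] at ha hb
    rw [ha, hb]
  haveI : Subsingleton (IrreducibleCloseds Z) := by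
    refine ⟨fun a b => ?_⟩
    apply IrreducibleCloseds.ext
    obtain ⟨x, hx⟩ := a.isIrreducible.nonempty
    obtain ⟨y, hy⟩ := b.isIrreducible.nonempty
    ext z
    rw [Subsingleton.elim z x]
    constructor
    · intro _; rw [Subsingleton.elim x y]; exact hy
    · intro _; exact hx
  have h2 : topologicalKrullDim Z ≤ 0 := Order.krullDim_nonpos_of_subsingleton
  rw [hdim] at h2
  exact absurd h2 (by decide)

end Top

section Fin

open Groth.Agent.Lib.R2H1.GenusLe Groth.Agent.Lib.R2H1.ZeroDimCoh

variable (k : Type u) [Field k] {Y Z : Scheme.{u}} [Y.Over (Spec (CommRingCat.of k))]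
  [Z.Over (Spec (CommRingCat.of k))] [IsIntegral Y] [IsIntegral Z]
  [IsProper (Y ↘ Spec (CommRingCat.of k))] [IsSeparated (Z ↘ Spec (CommRingCat.of k))]
  [LocallyOfFiniteType (Z ↘ Spec (CommRingCat.of k))]

theorem isProper_of_over (g : Y ⟶ Z)
    (hg : g ≫ (Z ↘ Spec (CommRingCat.of k)) = Y ↘ Spec (CommRingCat.of k)) : IsProper g := by
  haveI : IsProper (g ≫ (Z ↘ Spec (CommRingCat.of k))) := by rw [hg]; infer_instance
  exact IsProper.of_comp g (Z ↘ Spec (CommRingCat.of k))

/-- a nonconstant morphism of curves with proper source is finite -/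
theorem isFinite_of_generic (hdY : topologicalKrullDim Y = 1) (hdZ : topologicalKrullDim Z = 1)
    (g : Y ⟶ Z) (hg : g ≫ (Z ↘ Spec (CommRingCat.of k)) = Y ↘ Spec (CommRingCat.of k))
    (hgen : g (genericPoint Y) = genericPoint Z) : IsFinite g := by
  haveI := isProper_of_over k g hg
  haveI := Groth.Agent.Lib.R2H1.CurveEuler.isNoetherian_of_proper k Y
  have hfinite : ∀ (C : Set Y), IsClosed C → genericPoint Y ∉ C → C.Finite := by
    intro C hC hη
    let U : Y.Opens := ⟨Cᶜ, hC.isOpen_compl⟩
    have hU : Dense (U : Set Y) := by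
      have hne : (U : Set Y).Nonempty := ⟨genericPoint Y, hη⟩
      exact U.isOpen.dense hne
    have hZ := dim_compl_le_zero_of_dense Y hdY.le U hU
    haveI : Finite ↥((U : Set Y)ᶜ) := finite_of_dim_le_zero hZ
    have : ((U : Set Y)ᶜ).Finite := Set.toFinite _
    have hcc : (U : Set Y)ᶜ = C := compl_compl C
    rwa [hcc] at this
  haveI : LocallyQuasiFinite g := by
    rw [locallyQuasiFinite_iff_finite_preimage_singleton]
    intro z
    by_cases hz : z = genericPoint Z
    · subst hz
      refine Set.Subsingleton.finite ?_
      have key : ∀ y : Y, g y = genericPoint Z → y = genericPoint Y := by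
        intro y hy
        by_contra hne
        have hcl := Groth.Agent.Lib.R2H1.CurveDeg.isClosed_of_ne_generic k Y hdY y hne
        have hcl' : IsClosed (g '' {y}) := g.isClosedMap _ hcl
        rw [Set.image_singleton, hy] at hcl'
        exact not_isClosed_generic Z hdZ hcl'
      intro y hy y' hy'
      rw [key y hy, key y' hy']
    · have hcl := Groth.Agent.Lib.R2H1.CurveDeg.isClosed_of_ne_generic k Z hdZ z hz
      refine hfinite _ (hcl.preimage g.continuous) ?_
      intro h
      have h' : g (genericPoint Y) = z := h
      exact hz (h'.symm.trans hgen)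
  exact IsFinite.of_isProper_of_locallyQuasiFinite g

end Fin

end Part6

section Part7

open CategoryTheory CategoryTheory.Limits AlgebraicGeometry TopologicalSpace

section Tw

variable {k k' : Type u} [Field k] [Field k'] (φ : k →+* k')
  {X : Scheme.{u}} (p : X ⟶ Spec (CommRingCat.of k))

/-- the projection from the base change along a purely inseparable field extension is a
homeomorphism -/
theorem isHomeomorph_fst (hφ : φ.IsPurelyInseparable) :
    IsHomeomorph (pullback.fst p (Spec.map (CommRingCat.ofHom φ))) := by
  haveI := Groth.Agent.Lib.H9RadA.universallyInjective_SpecMap k k' φ hφ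
  haveI : Surjective (Spec.map (CommRingCat.ofHom φ)) := by
    constructor
    intro x
    haveI : Subsingleton (Spec (CommRingCat.of k)) :=
      inferInstanceAs (Subsingleton (PrimeSpectrum k))
    haveI : Nonempty (Spec (CommRingCat.of k')) :=
      inferInstanceAs (Nonempty (PrimeSpectrum k'))
    obtain ⟨y⟩ := (inferInstance : Nonempty (Spec (CommRingCat.of k')))
    exact ⟨y, Subsingleton.elim _ _⟩
  haveI : Subsingleton (Spec (CommRingCat.of k)) :=
    inferInstanceAs (Subsingleton (PrimeSpectrum k))
  haveI : UniversallyOpen (Spec.map (CommRingCat.ofHom φ)) := inferInstance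
  haveI : UniversallyInjective (pullback.fst p (Spec.map (CommRingCat.ofHom φ))) :=
    MorphismProperty.pullback_fst (P := @UniversallyInjective) _ _ inferInstance
  haveI : Surjective (pullback.fst p (Spec.map (CommRingCat.ofHom φ))) :=
    MorphismProperty.pullback_fst (P := @Surjective) _ _ inferInstance
  exact ⟨(pullback.fst p (Spec.map (CommRingCat.ofHom φ))).continuous,
    (pullback.fst p (Spec.map (CommRingCat.ofHom φ))).isOpenMap,
    ⟨(pullback.fst p (Spec.map (CommRingCat.ofHom φ))).injective,
      (pullback.fst p (Spec.map (CommRingCat.ofHom φ))).surjective⟩⟩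

theorem dim_twist (hφ : φ.IsPurelyInseparable) :
    topologicalKrullDim ↥(pullback p (Spec.map (CommRingCat.ofHom φ))) = topologicalKrullDim X :=
  IsHomeomorph.topologicalKrullDim_eq _ (isHomeomorph_fst φ p hφ)

theorem irreducibleSpace_twist (hφ : φ.IsPurelyInseparable) [IrreducibleSpace X] :
    IrreducibleSpace ↥(pullback p (Spec.map (CommRingCat.ofHom φ))) := by
  let e := (isHomeomorph_fst φ p hφ).homeomorph
  rw [irreducibleSpace_def]
  have h := (IrreducibleSpace.isIrreducible_univ X).image e.symm e.symm.continuous.continuousOn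
  rwa [Set.image_univ, e.symm.surjective.range_eq] at h

theorem isIntegral_twist (hφ : φ.IsPurelyInseparable) [IsIntegral X] [Smooth p] [QuasiCompact p] :
    IsIntegral (pullback p (Spec.map (CommRingCat.ofHom φ))) := by
  haveI := irreducibleSpace_twist φ p hφ
  haveI : IsReduced (pullback p (Spec.map (CommRingCat.ofHom φ))) :=
    Groth.Agent.Lib.Helper6.SmGeom.isReduced_of_smooth_over_field k' _
      (pullback.snd p (Spec.map (CommRingCat.ofHom φ)))
  exact isIntegral_of_irreducibleSpace_of_isReduced _

theorem isNormalScheme_twist [Smooth p] :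
    Pi1.IsNormalScheme (pullback p (Spec.map (CommRingCat.ofHom φ))) :=
  Groth.Agent.Lib.R2H1.SmoothCompl.isNormalScheme_of_smooth k' _
    (pullback.snd p (Spec.map (CommRingCat.ofHom φ)))

end Tw

section Frob

variable (k : Type u) [Field k] (p : ℕ) [ExpChar k p]

theorem isPurelyInseparable_iterateFrobenius (r : ℕ) :
    (iterateFrobenius k p r).IsPurelyInseparable := by
  letI : Algebra k k := (iterateFrobenius k p r).toAlgebra
  change IsPurelyInseparable k k
  rw [isPurelyInseparable_iff_pow_mem k p]
  intro x
  exact ⟨r, x, (iterateFrobenius_def p r x)⟩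

end Frob

end Part7

section Part8

open CategoryTheory CategoryTheory.Limits AlgebraicGeometry TopologicalSpace


open Groth.Agent.Lib.R2H1.CurveDeg

attribute [local instance] Curv2.stalkAlgebra

section Pts

theorem fromSpecStalk_apply_of_isField {X : Scheme.{u}} (x : X)
    (hF : IsField (X.presheaf.stalk x)) (q : Spec (X.presheaf.stalk x)) :
    X.fromSpecStalk x q = x := by
  letI := hF.toField
  haveI : Subsingleton (PrimeSpectrum (X.presheaf.stalk x)) :=
    (PrimeSpectrum.instUnique (R := X.presheaf.stalk x)).instSubsingleton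
  have : q = IsLocalRing.closedPoint (X.presheaf.stalk x) := Subsingleton.elim (α := PrimeSpectrum (X.presheaf.stalk x)) _ _
  rw [this]
  exact Scheme.fromSpecStalk_closedPoint

theorem map_genericPoint_of_isHomeomorph {X Y : Scheme.{u}} [IsIntegral X] [IsIntegral Y]
    (f : X ⟶ Y) (hf : IsHomeomorph f) : f (genericPoint X) = genericPoint Y := by
  have h1 := (genericPoint_spec X).image f.continuous
  rw [Set.image_univ, hf.surjective.range_eq, closure_univ] at h1
  exact h1.eq (genericPoint_spec Y)

theorem spec_spec {X : Scheme.{u}} {a b : X} (h : a = b) (v : X.presheaf.stalk b) :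
    (X.presheaf.stalkSpecializes (specializes_of_eq h.symm)).hom
      ((X.presheaf.stalkSpecializes (specializes_of_eq h)).hom v) = v := by
  subst h
  rw [TopCat.Presheaf.stalkSpecializes_refl]
  rfl

end Pts

end Part8

section Part9

open CategoryTheory CategoryTheory.Limits AlgebraicGeometry TopologicalSpace



open Groth.Agent.Lib.R2H1.CurveDeg

attribute [local instance] Curv2.stalkAlgebra

section Main

variable (k : Type u) [Field k] (p : ℕ) [ExpChar k p]
  (X Y : Scheme.{u}) [X.Over (Spec (CommRingCat.of k))] [Y.Over (Spec (CommRingCat.of k))]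
  [IsIntegral X] [IsIntegral Y] [IsProper (X ↘ Spec (CommRingCat.of k))]
  [IsProper (Y ↘ Spec (CommRingCat.of k))] [Smooth (X ↘ Spec (CommRingCat.of k))]

set_option maxHeartbeats 1600000 in
theorem main (hdX : topologicalKrullDim X = 1) (hdY : topologicalKrullDim Y = 1)
    (hnY : Pi1.IsNormalScheme Y)
    (f : X ⟶ Y) (hf : f ≫ (Y ↘ Spec (CommRingCat.of k)) = X ↘ Spec (CommRingCat.of k))
    (e : f (genericPoint X) = genericPoint Y)
    (hpi : letI := ((Y.presheaf.stalkSpecializes (specializes_of_eq e) ≫
        f.stalkMap (genericPoint X)).hom).toAlgebra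
      IsPurelyInseparable Y.functionField X.functionField) :
    ∃ (r : ℕ) (i : Y ≅ pullback (X ↘ Spec (CommRingCat.of k))
        (Spec.map (CommRingCat.ofHom (iterateFrobenius k p r)))),
      i.hom ≫ pullback.snd (X ↘ Spec (CommRingCat.of k))
        (Spec.map (CommRingCat.ofHom (iterateFrobenius k p r))) =
        Y ↘ Spec (CommRingCat.of k) := by
  classical
  letI aLK : Algebra Y.functionField X.functionField :=
    ((Y.presheaf.stalkSpecializes (specializes_of_eq e) ≫
        f.stalkMap (genericPoint X)).hom).toAlgebra
  haveI : IsPurelyInseparable Y.functionField X.functionField := hpi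
  haveI : IsScalarTower k Y.functionField X.functionField := by
    refine IsScalarTower.of_algebraMap_eq (fun c => ?_)
    change _ = (f.stalkMap (genericPoint X)).hom
      ((Y.presheaf.stalkSpecializes (specializes_of_eq e)).hom
        (algebraMap k (Y.presheaf.stalk (genericPoint Y)) c))
    rw [stalkSpecializes_algebraMap_apply, stalkMap_algebraMap_apply k f hf]
  haveI : Algebra.EssFiniteType k X.functionField := essFiniteType_functionField k X
  haveI : Algebra.EssFiniteType Y.functionField X.functionField :=
    Algebra.EssFiniteType.of_comp k Y.functionField X.functionField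
  haveI : FiniteDimensional Y.functionField X.functionField :=
    Algebra.finite_of_essFiniteType_of_isAlgebraic
  haveI : ExpChar Y.functionField p :=
    expChar_of_injective_algebraMap (algebraMap k Y.functionField).injective p
  set r := IsPurelyInseparable.exponent Y.functionField X.functionField with hr
  let θ : X.functionField →+* Y.functionField :=
    IsPurelyInseparable.iterateFrobenius Y.functionField X.functionField p (le_refl r)
  let φ := iterateFrobenius k p r
  have hθ : ∀ c : k, θ (algebraMap k X.functionField c) = algebraMap k Y.functionField (φ c) := by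
    intro c
    apply (algebraMap Y.functionField X.functionField).injective
    rw [IsPurelyInseparable.algebraMap_iterateFrobenius, ← IsScalarTower.algebraMap_apply,
      ← map_pow, iterateFrobenius_def]
  refine ⟨r, ?_⟩
  have hφ := isPurelyInseparable_iterateFrobenius k p r
  letI oX' : (pullback (X ↘ Spec (CommRingCat.of k)) (Spec.map (CommRingCat.ofHom φ))).Over
      (Spec (CommRingCat.of k)) := ⟨pullback.snd _ _⟩
  have hcond : (Spec.map (CommRingCat.ofHom θ) ≫ X.fromSpecStalk (genericPoint X)) ≫
      (X ↘ Spec (CommRingCat.of k)) =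
      (Y.fromSpecStalk (genericPoint Y) ≫ (Y ↘ Spec (CommRingCat.of k))) ≫
        Spec.map (CommRingCat.ofHom φ) := by
    rw [Category.assoc, ← SpecMap_stalkMap k X (genericPoint X),
      ← SpecMap_stalkMap k Y (genericPoint Y), ← Spec.map_comp, ← Spec.map_comp]
    congr 1
    ext c
    exact hθ c
  let s : Spec Y.functionField ⟶
      pullback (X ↘ Spec (CommRingCat.of k)) (Spec.map (CommRingCat.ofHom φ)) :=
    pullback.lift _ _ hcond
  have hs : s ≫ ((pullback (X ↘ Spec (CommRingCat.of k)) (Spec.map (CommRingCat.ofHom φ))) ↘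
      Spec (CommRingCat.of k)) =
      Y.fromSpecStalk (genericPoint Y) ≫ (Y ↘ Spec (CommRingCat.of k)) :=
    pullback.lift_snd _ _ _
  haveI : IsProper ((pullback (X ↘ Spec (CommRingCat.of k)) (Spec.map (CommRingCat.ofHom φ))) ↘
      Spec (CommRingCat.of k)) :=
    (inferInstance : IsProper (pullback.snd (X ↘ Spec (CommRingCat.of k))
      (Spec.map (CommRingCat.ofHom φ))))
  obtain ⟨g, hg1, hg2⟩ := exists_hom_of_generic k Y
    (pullback (X ↘ Spec (CommRingCat.of k)) (Spec.map (CommRingCat.ofHom φ))) hdY hnY s hs
  haveI : IsIntegral (pullback (X ↘ Spec (CommRingCat.of k)) (Spec.map (CommRingCat.ofHom φ))) :=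
    isIntegral_twist φ (X ↘ Spec (CommRingCat.of k)) hφ
  have hdX' : topologicalKrullDim
      ↥(pullback (X ↘ Spec (CommRingCat.of k)) (Spec.map (CommRingCat.ofHom φ))) = 1 :=
    (dim_twist φ (X ↘ Spec (CommRingCat.of k)) hφ).trans hdX
  have hhomeo := isHomeomorph_fst φ (X ↘ Spec (CommRingCat.of k)) hφ
  -- the generic point goes to the generic point
  have hpt : (g ≫ pullback.fst (X ↘ Spec (CommRingCat.of k)) (Spec.map (CommRingCat.ofHom φ)))
      (genericPoint Y) = genericPoint X := by
    have h2 : Y.fromSpecStalk (genericPoint Y) ≫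
        (g ≫ pullback.fst (X ↘ Spec (CommRingCat.of k)) (Spec.map (CommRingCat.ofHom φ))) =
        Spec.map (CommRingCat.ofHom θ) ≫ X.fromSpecStalk (genericPoint X) := by
      rw [← Category.assoc, hg2, pullback.lift_fst]
    have h3 := congrArg (fun ψ => ψ (IsLocalRing.closedPoint (Y.presheaf.stalk (genericPoint Y)))) h2
    simp only [Scheme.Hom.comp_apply] at h3
    rw [Scheme.fromSpecStalk_closedPoint] at h3
    rw [Scheme.Hom.comp_apply, h3]
    exact fromSpecStalk_apply_of_isField (genericPoint X) (Field.toIsField X.functionField) _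
  have hgη : g (genericPoint Y) =
      genericPoint ↥(pullback (X ↘ Spec (CommRingCat.of k)) (Spec.map (CommRingCat.ofHom φ))) := by
    apply hhomeo.injective
    rw [map_genericPoint_of_isHomeomorph _ hhomeo, ← hpt, Scheme.Hom.comp_apply]
  haveI : IsFinite g := isFinite_of_generic k hdY hdX' g hg1 hgη
  haveI : Surjective g := by
    constructor
    have hcl : IsClosed (Set.range g) := g.isClosedMap.isClosed_range
    intro z
    have hz : z ∈ closure ({genericPoint _} : Set
        ↥(pullback (X ↘ Spec (CommRingCat.of k)) (Spec.map (CommRingCat.ofHom φ)))) := by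
      rw [(genericPoint_spec _).def]; trivial
    have hsub : ({genericPoint _} : Set
        ↥(pullback (X ↘ Spec (CommRingCat.of k)) (Spec.map (CommRingCat.ofHom φ)))) ⊆
        Set.range g := by
      rw [Set.singleton_subset_iff]
      exact ⟨genericPoint Y, hgη⟩
    exact closure_minimal hsub hcl hz
  -- the function field map of g
  let σ₀ : (pullback (X ↘ Spec (CommRingCat.of k))
      (Spec.map (CommRingCat.ofHom φ))).functionField →+* Y.functionField :=
    ((pullback (X ↘ Spec (CommRingCat.of k))
      (Spec.map (CommRingCat.ofHom φ))).presheaf.stalkSpecializes (specializes_of_eq hgη) ≫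
        g.stalkMap (genericPoint Y)).hom
  let σ : (pullback (X ↘ Spec (CommRingCat.of k))
      (Spec.map (CommRingCat.ofHom φ))).functionField →ₐ[k] Y.functionField :=
    { σ₀ with
      commutes' := fun c => by
        change (g.stalkMap (genericPoint Y)).hom
          (((pullback (X ↘ Spec (CommRingCat.of k))
            (Spec.map (CommRingCat.ofHom φ))).presheaf.stalkSpecializes
              (specializes_of_eq hgη)).hom (algebraMap k _ c)) = _
        rw [stalkSpecializes_algebraMap_apply, stalkMap_algebraMap_apply k g hg1] }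
  have hσ : ∀ x : X.functionField, ∃ z, σ z = θ x := by
    intro x
    have h1 := Scheme.SpecMap_stalkMap_fromSpecStalk
      (g ≫ pullback.fst (X ↘ Spec (CommRingCat.of k)) (Spec.map (CommRingCat.ofHom φ)))
      (x := genericPoint Y)
    have h2 : Y.fromSpecStalk (genericPoint Y) ≫
        (g ≫ pullback.fst (X ↘ Spec (CommRingCat.of k)) (Spec.map (CommRingCat.ofHom φ))) =
        Spec.map (CommRingCat.ofHom θ) ≫ X.fromSpecStalk (genericPoint X) := by
      rw [← Category.assoc, hg2, pullback.lift_fst]
    have h3 := eq_of_SpecMap_fromSpecStalk hpt _ (CommRingCat.ofHom θ) (h1.trans h2)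
    rw [Scheme.Hom.stalkMap_comp] at h3
    let w := (X.presheaf.stalkSpecializes (specializes_of_eq hpt)).hom x
    have hw : (X.presheaf.stalkSpecializes (specializes_of_eq hpt.symm)).hom w = x :=
      spec_spec hpt x
    let v := ((pullback.fst (X ↘ Spec (CommRingCat.of k))
      (Spec.map (CommRingCat.ofHom φ))).stalkMap (g (genericPoint Y))).hom w
    refine ⟨((pullback (X ↘ Spec (CommRingCat.of k))
      (Spec.map (CommRingCat.ofHom φ))).presheaf.stalkSpecializes
        (specializes_of_eq hgη.symm)).hom v, ?_⟩
    change (g.stalkMap (genericPoint Y)).hom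
      (((pullback (X ↘ Spec (CommRingCat.of k))
        (Spec.map (CommRingCat.ofHom φ))).presheaf.stalkSpecializes
          (specializes_of_eq hgη)).hom _) = θ x
    rw [spec_spec hgη.symm v]
    have h4 := congrArg (fun ψ => ψ.hom w) h3
    simp only [CommRingCat.hom_comp, RingHom.coe_comp, Function.comp_apply] at h4
    rw [hw] at h4
    exact h4
  obtain ⟨t, ht⟩ := exists_separating_functionField k X hdX
  haveI := ht
  have hsurj : Function.Surjective σ := surjective_of_separating p t σ hσ
  have hbij : Function.Bijective σ₀ := ⟨σ₀.injective, hsurj⟩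
  haveI : IsIso ((pullback (X ↘ Spec (CommRingCat.of k))
      (Spec.map (CommRingCat.ofHom φ))).presheaf.stalkSpecializes (specializes_of_eq hgη)) :=
    ((pullback (X ↘ Spec (CommRingCat.of k))
      (Spec.map (CommRingCat.ofHom φ))).presheaf.stalkCongr
        (Inseparable.of_eq hgη.symm)).isIso_hom
  have hiso : IsIso ((pullback (X ↘ Spec (CommRingCat.of k))
      (Spec.map (CommRingCat.ofHom φ))).presheaf.stalkSpecializes (specializes_of_eq hgη) ≫
        g.stalkMap (genericPoint Y)) :=
    (ConcreteCategory.isIso_iff_bijective _).2 hbij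
  haveI : IsIso (g.stalkMap (genericPoint Y)) := IsIso.of_isIso_comp_left
    ((pullback (X ↘ Spec (CommRingCat.of k))
      (Spec.map (CommRingCat.ofHom φ))).presheaf.stalkSpecializes (specializes_of_eq hgη)) _
  haveI : IsIso g := Groth.Agent.Lib.R2H4.BirIso.isIso_of_finite_birational_normal g
    (isNormalScheme_twist φ (X ↘ Spec (CommRingCat.of k))) inferInstance
  exact ⟨asIso g, hg1⟩

end Main

end Part9

end Groth.Agent.Lib.R2H1.FrobTwist
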