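import Mathlib
import Groth.Prelude
import Groth.Agent.Lib.R2H1FrobTwist
import Groth.Agent.Lib.R2H2ProjOverPush
import Groth.Agent.Lib.R2H2ClosedPnLin
import Groth.Agent.Lib.R2H2ProperFin
import Groth.Agent.Lib.R2H1GenusLe
import Groth.Agent.Lib.R2H1IsoP1G
set_option backward.isDefEq.respectTransparency.types false

/-!
R2H1FrobTwist2 (helper1, round 2): cohomology of Frobenius twists. isIso_strToPush_of_isIso, finrank_HH_structure_of_isIso (k-isomorphic schemes have the same H^q(O)), Tw k p r (k as k-algebra through the r-fold Frobenius), finrank_HH_structure_twist (H^q(O) of the Frobenius twist X^(p^r), by flat base change along the field hom Frobenius), finrank_HH_structure_of_iso_twist, smooth_of_iso_twist.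
-/

set_option autoImplicit false
set_option linter.style.haveILetI false
set_option linter.unusedSectionVars false
universe u v

open CategoryTheory CategoryTheory.Limits AlgebraicGeometry TopologicalSpace Opposite

namespace Groth.Agent.Lib.R2H1.FrobTwist2

section Part1

open CategoryTheory CategoryTheory.Limits AlgebraicGeometry TopologicalSpace
open Groth.Agent.Lib.R2H2.ProjOverPush

section Iso

variable (k : Type u) [Field k] {Y Z : Scheme.{u}} [Y.Over (Spec (CommRingCat.of k))]
  [Z.Over (Spec (CommRingCat.of k))] [IsProper (Z ↘ Spec (CommRingCat.of k))]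

theorem isIso_strToPush_of_isIso (i : Y ⟶ Z) [IsIso i] : IsIso (strToPush i) := by
  refine isIso_of_bijective_on_affines _ (fun V hV => ?_)
  exact (ConcreteCategory.isIso_iff_bijective (i.app V)).1 inferInstance

/-- cohomology of the structure sheaf is invariant under isomorphisms of `k`-schemes -/
theorem finrank_HH_structure_of_isIso (i : Y ⟶ Z) [IsIso i]
    (hi : i ≫ (Z ↘ Spec (CommRingCat.of k)) = Y ↘ Spec (CommRingCat.of k)) (q : ℕ) :
    Module.finrank k (Coh.HH Y (Coh.structureModule Y) q) =
      Module.finrank k (Coh.HH Z (Coh.structureModule Z) q) := by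
  haveI : CompactSpace Z :=
    QuasiCompact.compactSpace_of_compactSpace (Z ↘ Spec (CommRingCat.of k))
  obtain ⟨ι, hfin, V, hcov, hVa, hV⟩ :=
    Groth.Agent.Lib.R2H2.ProperFin.exists_affine_cover_of_isSeparated
      (Z ↘ Spec (CommRingCat.of k))
  obtain ⟨e⟩ := Groth.Agent.Lib.R2H2.AffPushLin.exists_push_linear i V k hi hcov hV
    (Coh.structureModule Y)
    (Groth.Agent.Lib.R2H1.GenusLe.isCoh_structureModule _).1 q
  rw [e.finrank_eq]
  haveI := isIso_strToPush_of_isIso i
  exact (Groth.Agent.Lib.R2H2.ClosedPnLin.finrank_HH_of_iso k (asIso (strToPush i)) q).symm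

end Iso

end Part1

section Part2

open CategoryTheory CategoryTheory.Limits AlgebraicGeometry TopologicalSpace


/-- `k` as an algebra over itself through the `r`-fold Frobenius -/
def Tw (k : Type u) (_p _r : ℕ) : Type u := k

noncomputable instance (k : Type u) [Field k] (p r : ℕ) : Field (Tw k p r) :=
  inferInstanceAs (Field k)

noncomputable instance (k : Type u) [Field k] (p r : ℕ) [ExpChar k p] : Algebra k (Tw k p r) :=
  (iterateFrobenius k p r).toAlgebra

section Coh

variable (k : Type u) [Field k] (p : ℕ) [ExpChar k p] (r : ℕ)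
  (X : Scheme.{u}) [X.Over (Spec (CommRingCat.of k))] [IsProper (X ↘ Spec (CommRingCat.of k))]

/-- the cohomology of the structure sheaf of the Frobenius twist -/
theorem finrank_HH_structure_twist (i : ℕ) :
    letI : (pullback (X ↘ Spec (CommRingCat.of k))
      (Spec.map (CommRingCat.ofHom (iterateFrobenius k p r)))).Over (Spec (CommRingCat.of k)) :=
      ⟨pullback.snd _ _⟩
    Module.finrank k (Coh.HH (pullback (X ↘ Spec (CommRingCat.of k))
      (Spec.map (CommRingCat.ofHom (iterateFrobenius k p r))))
        (Coh.structureModule (pullback (X ↘ Spec (CommRingCat.of k))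
      (Spec.map (CommRingCat.ofHom (iterateFrobenius k p r))))) i) =
      Module.finrank k (Coh.HH X (Coh.structureModule X) i) :=
  Groth.Agent.Lib.R2H1.IsoP1G.finrank_HH_structure_bc k X (Tw k p r) i

/-- a `k`-scheme isomorphic to the Frobenius twist of `X` has the same cohomology of the structure
sheaf -/
theorem finrank_HH_structure_of_iso_twist {Y : Scheme.{u}} [Y.Over (Spec (CommRingCat.of k))]
    (i : Y ≅ pullback (X ↘ Spec (CommRingCat.of k))
        (Spec.map (CommRingCat.ofHom (iterateFrobenius k p r))))
    (hi : i.hom ≫ pullback.snd (X ↘ Spec (CommRingCat.of k))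
        (Spec.map (CommRingCat.ofHom (iterateFrobenius k p r))) =
        Y ↘ Spec (CommRingCat.of k)) (q : ℕ) :
    Module.finrank k (Coh.HH Y (Coh.structureModule Y) q) =
      Module.finrank k (Coh.HH X (Coh.structureModule X) q) := by
  letI : (pullback (X ↘ Spec (CommRingCat.of k))
      (Spec.map (CommRingCat.ofHom (iterateFrobenius k p r)))).Over (Spec (CommRingCat.of k)) :=
      ⟨pullback.snd _ _⟩
  haveI : IsProper ((pullback (X ↘ Spec (CommRingCat.of k))
      (Spec.map (CommRingCat.ofHom (iterateFrobenius k p r)))) ↘ Spec (CommRingCat.of k)) :=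
    (inferInstance : IsProper (pullback.snd (X ↘ Spec (CommRingCat.of k))
      (Spec.map (CommRingCat.ofHom (iterateFrobenius k p r)))))
  rw [finrank_HH_structure_of_isIso k i.hom hi q]
  exact finrank_HH_structure_twist k p r X q

theorem smooth_of_iso_twist [Smooth (X ↘ Spec (CommRingCat.of k))]
    {Y : Scheme.{u}} [Y.Over (Spec (CommRingCat.of k))]
    (i : Y ≅ pullback (X ↘ Spec (CommRingCat.of k))
        (Spec.map (CommRingCat.ofHom (iterateFrobenius k p r))))
    (hi : i.hom ≫ pullback.snd (X ↘ Spec (CommRingCat.of k))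
        (Spec.map (CommRingCat.ofHom (iterateFrobenius k p r))) =
        Y ↘ Spec (CommRingCat.of k)) :
    Smooth (Y ↘ Spec (CommRingCat.of k)) := by
  rw [← hi]
  infer_instance

end Coh

end Part2

end Groth.Agent.Lib.R2H1.FrobTwist2
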