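import Mathlib

open CategoryTheory AlgebraicGeometry

universe u

namespace Groth.Agent.Lib.R2H4.GenEtale

variable {X Y : Scheme.{u}}

set_option backward.defeqAttrib.useBackward true in
set_option backward.isDefEq.respectTransparency false in
/-- If the stalk map at `x` is formally étale and `f` is locally of finite presentation,
then `f` is étale on an open neighbourhood of `x`. -/
theorem exists_etale_of_formallyEtale_stalk
    (f : X ⟶ Y) [LocallyOfFinitePresentation f]
    (x : X) (H : (f.stalkMap x).hom.FormallyEtale) :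
    ∃ V : X.Opens, x ∈ V ∧ Etale (V.ι ≫ f) := by
  obtain ⟨_, ⟨U, hU, rfl⟩, hxU, -⟩ :=
    Y.isBasis_affineOpens.exists_subset_of_mem_open (Set.mem_univ (f x)) isOpen_univ
  obtain ⟨_, ⟨V, hV, rfl⟩, hxV, hVU⟩ :=
    X.isBasis_affineOpens.exists_subset_of_mem_open hxU (U.2.preimage f.continuous)
  have := f.finitePresentation_appLE hU hV hVU
  algebraize [(f.appLE U V hVU).hom]
  let p := (hU.primeIdealOf ⟨f x, hVU hxV⟩).asIdeal
  let q := (hV.primeIdealOf ⟨x, hxV⟩).asIdeal
  have : q.LiesOver p :=
    ⟨congr($(IsAffineOpen.comap_primeIdealOf_appLE U hU V hV hVU hxV).1).symm⟩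
  let := Localization.AtPrime.algebraOfLiesOver p q
  have Hs : (f.stalkMap x).hom.FormallySmooth := by
    algebraize [(f.stalkMap x).hom]
    show Algebra.FormallySmooth _ _
    infer_instance
  have Hu : (f.stalkMap x).hom.FormallyUnramified := by
    algebraize [(f.stalkMap x).hom]
    show Algebra.FormallyUnramified _ _
    infer_instance
  have h1s : Algebra.FormallySmooth (Localization.AtPrime p) (Localization.AtPrime q) := by
    rw [← RingHom.formallySmooth_algebraMap]
    exact (RingHom.FormallySmooth.respectsIso.arrow_mk_iso_iff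
      (IsAffineOpen.arrowStalkMapIso f U hU V hV hVU hxV)).mp Hs
  have h1u : Algebra.FormallyUnramified (Localization.AtPrime p) (Localization.AtPrime q) := by
    rw [← RingHom.formallyUnramified_algebraMap]
    exact (RingHom.FormallyUnramified.respectsIso.arrow_mk_iso_iff
      (IsAffineOpen.arrowStalkMapIso f U hU V hV hVU hxV)).mp Hu
  have h1 : Algebra.FormallyEtale (Localization.AtPrime p) (Localization.AtPrime q) :=
    .of_formallyUnramified_and_formallySmooth
  have h2 : Algebra.FormallyEtale Γ(Y, U) (Localization.AtPrime p) :=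
    .of_isLocalization p.primeCompl
  have : Algebra.IsEtaleAt Γ(Y, U) q :=
    Algebra.FormallyEtale.comp _ (Localization.AtPrime p) _
  obtain ⟨r, hrx, hr⟩ := Algebra.exists_etale_of_isEtaleAt (R := Γ(Y, U)) q
  refine ⟨X.basicOpen r, ?_, ?_⟩
  · rwa [← PrimeSpectrum.mem_basicOpen, IsAffineOpen.primeIdealOf,
      ← hV.fromSpec_preimage_basicOpen, Scheme.Hom.mem_preimage, ← Scheme.Hom.comp_apply,
      IsAffineOpen.isoSpec_hom, IsAffineOpen.toSpecΓ_fromSpec] at hrx
  · have hle : X.basicOpen r ≤ f ⁻¹ᵁ U := (X.basicOpen_le r).trans hVU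
    have hE : (f.appLE U (X.basicOpen r) hle).hom.Etale := by
      have := hV.isLocalization_basicOpen r
      rw [← RingHom.etale_algebraMap] at hr
      convert!
        RingHom.Etale.propertyIsLocal.respectsIso.1 _
          (IsLocalization.algEquiv (.powers r) _ Γ(X, X.basicOpen r)).toRingEquiv hr
      ext
      dsimp
      simp only [IsScalarTower.algebraMap_apply Γ(Y, U) Γ(X, V) (Localization _),
        IsLocalization.map_eq]
      simp only [RingHom.algebraMap_toAlgebra, RingHomCompTriple.comp_apply, ← ConcreteCategory.comp_apply,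
        Scheme.Hom.appLE_map]
    have hres : Etale (f.resLE U (X.basicOpen r) hle) := by
      have : IsAffine U := hU
      have : IsAffine (X.basicOpen r) := hV.basicOpen r
      rw [HasRingHomProperty.iff_of_isAffine (P := @Etale)]
      exact (RingHom.Etale.propertyIsLocal.respectsIso.arrow_mk_iso_iff
        (arrowResLEAppIso f U (X.basicOpen r) hle)).mpr hE
    have : (X.basicOpen r).ι ≫ f = f.resLE U (X.basicOpen r) hle ≫ Scheme.Opens.ι U := by
      simp
    rw [this]
    infer_instance

lemma formallyEtale_eq : @RingHom.FormallyEtale =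
    fun R S (_ : CommRing R) (_ : CommRing S) f ↦ f.FormallyUnramified ∧ f.FormallySmooth := by
  funext R S _ _ f
  apply propext
  let := f.toAlgebra
  exact Algebra.FormallyEtale.iff_formallyUnramified_and_formallySmooth

lemma formallyEtale_respectsIso : RingHom.RespectsIso @RingHom.FormallyEtale := by
  rw [formallyEtale_eq]
  exact RingHom.FormallyUnramified.respectsIso.and RingHom.FormallySmooth.respectsIso

lemma isIso_stalkSpecializes_of_eq {x y : Y} (h : x = y) :
    IsIso (Y.presheaf.stalkSpecializes (specializes_of_eq h)) := by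
  subst h
  rw [TopCat.Presheaf.stalkSpecializes_refl]
  infer_instance

lemma formallyUnramified_stalkMap_of_comp_ι (f : X ⟶ Y) (U : X.Opens)
    [FormallyUnramified (U.ι ≫ f)] (x : X) (hx : x ∈ U) :
    (f.stalkMap x).hom.FormallyUnramified := by
  have h := FormallyUnramified.stalkMap (U.ι ≫ f) ⟨x, hx⟩
  rw [Scheme.Hom.stalkMap_comp] at h
  exact (RingHom.FormallyUnramified.respectsIso.cancel_right_isIso _ (U.ι.stalkMap ⟨x, hx⟩)).mp h

theorem main (k : Type u) [Field k]
    (X Y : Scheme.{u}) [X.Over (Spec (CommRingCat.of k))] [Y.Over (Spec (CommRingCat.of k))]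
    [IsIntegral X] [LocallyOfFiniteType (X ↘ (Spec (CommRingCat.of k)))]
    [IsIntegral Y] [LocallyOfFiniteType (Y ↘ (Spec (CommRingCat.of k)))]
    (f : X ⟶ Y) (hf : f ≫ (Y ↘ (Spec (CommRingCat.of k))) = X ↘ (Spec (CommRingCat.of k)))
    (e : f (genericPoint X) = genericPoint Y) :
    letI := ((Y.presheaf.stalkSpecializes (specializes_of_eq e) ≫
      f.stalkMap (genericPoint X)).hom).toAlgebra
    ((∃ U : X.Opens, (U : Set X).Nonempty ∧ FormallyUnramified (U.ι ≫ f)) ↔
      (∃ U : X.Opens, (U : Set X).Nonempty ∧ Etale (U.ι ≫ f))) ∧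
    ((∃ U : X.Opens, (U : Set X).Nonempty ∧ Etale (U.ι ≫ f)) ↔
      Algebra.IsSeparable Y.functionField X.functionField) := by
  let alg : Algebra Y.functionField X.functionField :=
    ((Y.presheaf.stalkSpecializes (specializes_of_eq e) ≫
      f.stalkMap (genericPoint X)).hom).toAlgebra
  have hft : LocallyOfFiniteType f := by
    have : LocallyOfFiniteType (f ≫ (Y ↘ (Spec (CommRingCat.of k)))) := by rw [hf]; infer_instance
    exact locallyOfFiniteType_of_comp f (Y ↘ (Spec (CommRingCat.of k)))
  have hN : IsLocallyNoetherian Y :=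
    LocallyOfFiniteType.isLocallyNoetherian (Y ↘ (Spec (CommRingCat.of k)))
  have hfp : LocallyOfFinitePresentation f := inferInstance
  have hiso := isIso_stalkSpecializes_of_eq (Y := Y) e
  -- (ii) ⇒ (iii)
  have h23 : (∃ U : X.Opens, (U : Set X).Nonempty ∧ FormallyUnramified (U.ι ≫ f)) →
      Algebra.IsSeparable Y.functionField X.functionField := by
    rintro ⟨U, hU, hUf⟩
    have hξ : genericPoint X ∈ U := by
      have := (genericPoint_spec X).mem_open_set_iff U.2
      exact this.mpr (by simpa using hU)
    have h1 := formallyUnramified_stalkMap_of_comp_ι f U _ hξ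
    have h2 : (Y.presheaf.stalkSpecializes (specializes_of_eq e) ≫
      f.stalkMap (genericPoint X)).hom.FormallyUnramified :=
      (RingHom.FormallyUnramified.respectsIso.cancel_left_isIso _ _).mpr h1
    have h3 : (Y.presheaf.stalkSpecializes (specializes_of_eq e) ≫
      f.stalkMap (genericPoint X)).hom.EssFiniteType :=
      (RingHom.EssFiniteType.respectsIso.cancel_left_isIso _ _).mpr
        (LocallyOfFiniteType.stalkMap f _)
    have h2' : Algebra.FormallyUnramified Y.functionField X.functionField := h2
    have h3' : Algebra.EssFiniteType Y.functionField X.functionField := h3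
    exact Algebra.FormallyUnramified.isSeparable _ _
  have h31 : Algebra.IsSeparable Y.functionField X.functionField →
      (∃ U : X.Opens, (U : Set X).Nonempty ∧ Etale (U.ι ≫ f)) := by
    intro hsep
    have h1 : Algebra.FormallyEtale Y.functionField X.functionField :=
      Algebra.FormallyEtale.of_isSeparable _ _
    have h2 : (Y.presheaf.stalkSpecializes (specializes_of_eq e) ≫
      f.stalkMap (genericPoint X)).hom.FormallyEtale := h1
    have h3 : (f.stalkMap (genericPoint X)).hom.FormallyEtale :=
      (formallyEtale_respectsIso.cancel_left_isIso _ _).mp h2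
    obtain ⟨V, hV, hVf⟩ := exists_etale_of_formallyEtale_stalk f _ h3
    exact ⟨V, ⟨_, hV⟩, hVf⟩
  have h12 : (∃ U : X.Opens, (U : Set X).Nonempty ∧ Etale (U.ι ≫ f)) →
      (∃ U : X.Opens, (U : Set X).Nonempty ∧ FormallyUnramified (U.ι ≫ f)) := by
    rintro ⟨U, hU, hUf⟩
    exact ⟨U, hU, inferInstance⟩
  exact ⟨⟨fun h ↦ h31 (h23 h), h12⟩, ⟨fun h ↦ h23 (h12 h), h31⟩⟩

end Groth.Agent.Lib.R2H4.GenEtale
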