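import Mathlib
import Groth.Prelude
import Groth.Agent.Lib.R2H1FrobTwist2
import Groth.Agent.Lib.R2H1PoleFilt
import Groth.Agent.Lib.Helper23SecTw9
import Groth.Agent.Lib.Helper23GG
import Groth.Agent.Lib.R2H2PnBeilinson
import Groth.Agent.Lib.R2H1NormPush
import Groth.Agent.Lib.R2H1Hyperell
import Groth.Agent.Lib.R2H1DblCoverGeom
import Groth.Agent.Lib.R2H1EtaleP1
import Groth.Agent.Lib.R2H4GenEtale
import Groth.Agent.Lib.R2H1P1Inter
import Groth.Agent.S3572
set_option backward.isDefEq.respectTransparency.types false

/-!
R2H1DoubleCover (helper1, round 2): double covers of the projective line from pencils. genLocus_smul_le, exists_two_sections_cover (globally generated invertible L with h0 = 2 is generated by two sections), stalkMap_injective_of_generic, flat_of_generic (dominant morphism of integral schemes onto a scheme with valuation ring stalks is flat), finrank_functionField_eq_residueDegree, isSeparable_functionField_iff (function field vs residue field at the generic point), isPurelyInseparable_of_finrank_two, exists_double_cover_of_pencil (L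 invertible globally generated, h0 = 2, deg 2 on a smooth proper geometrically connected curve => finite f of degree 2 to P1 with f^*O(1) = L), double_cover_facts (finite degree 2 morphism from a curve of positive genus to P1 is flat of constant rank 2, generically etale, with separable function field extension: otherwise P1 would be a Frobenius twist of X).
-/

set_option autoImplicit false
set_option linter.style.haveILetI false
set_option linter.unusedSectionVars false
universe u v

open CategoryTheory CategoryTheory.Limits AlgebraicGeometry TopologicalSpace Opposite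

namespace Groth.Agent.Lib.R2H1.DoubleCover

section Part1

open CategoryTheory CategoryTheory.Limits AlgebraicGeometry TopologicalSpace

section Gen

open Groth.Agent.Lib.Helper23.SecTw Groth.Agent.Lib.Helper23.GenLocus Groth.Agent.Lib.Helper6
open Groth.Agent.Lib.R2H1.PoleFilt Groth.Agent.Lib.R2H2.PnBeilinson

variable (k : Type u) [Field k] (X : Scheme.{u}) [X.Over (Spec (CommRingCat.of k))]

theorem genLocus_smul_le (L : X.Modules) (hL : PicF.IsInvertible L) (a : k)
    (σ : Coh.structureModule X ⟶ L) :
    CohB1.genLocus L (a • σ) ≤ CohB1.genLocus L σ := by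
  intro x hx
  obtain ⟨W, e, hxW, he⟩ := exists_gen L hL x
  have h1 : sv (a • σ) W = (strU k X W a * coef he le_rfl (sv σ W)) • e := by
    rw [sv_smul', mul_smul, ← sv_eq_coef_smul σ he]
  have h2 := genLocus_inf_eq_of_isGen L _ W e _ he h1
  have h3 : x ∈ CohB1.genLocus L (a • σ) ⊓ W := ⟨hx, hxW⟩
  rw [h2, Scheme.basicOpen_mul] at h3
  have h4 : x ∈ X.basicOpen (coef he le_rfl (sv σ W)) := h3.2
  rw [← genLocus_inf_eq_coef σ he] at h4
  exact h4.1

/-- a globally generated invertible module with a two-dimensional space of sections is generated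
by two sections -/
theorem exists_two_sections_cover (L : X.Modules) (hL : PicF.IsInvertible L)
    (hgg : Curv2.IsGloballyGenerated L) (h0 : Module.finrank k (Coh.HH X L 0) = 2) :
    ∃ t₀ t₁ : Coh.structureModule X ⟶ L,
      ∀ x : X, x ∈ CohB1.genLocus L t₀ ∨ x ∈ CohB1.genLocus L t₁ := by
  have h2 : Module.finrank k (Coh.structureModule X ⟶ L) = 2 := by
    rw [(clsEquiv (k := k) L).finrank_eq, h0]
  haveI : Module.Finite k (Coh.structureModule X ⟶ L) :=
    Module.finite_of_finrank_pos (by omega)
  let b := Module.finBasisOfFinrankEq k (Coh.structureModule X ⟶ L) h2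
  refine ⟨b 0, b 1, fun x => ?_⟩
  obtain ⟨t, ht⟩ := Groth.Agent.Lib.Helper23.GG.exists_section_mem_genLocus L hL hgg x
  have hrep := b.sum_repr t
  rw [Fin.sum_univ_two] at hrep
  rw [← hrep] at ht
  rcases genLocus_add_le L hL _ _ ht with h | h
  · exact Or.inl (genLocus_smul_le k X L hL _ _ h)
  · exact Or.inr (genLocus_smul_le k X L hL _ _ h)

end Gen

end Part1

section Part2

open CategoryTheory CategoryTheory.Limits AlgebraicGeometry TopologicalSpace

section Flat

variable {X Y : Scheme.{u}} [IsIntegral X] [IsIntegral Y] (f : X ⟶ Y)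
  (e : f (genericPoint X) = genericPoint Y)

include e in
theorem stalkMap_injective_of_generic (x : X) : Function.Injective (f.stalkMap x).hom := by
  have hsp : genericPoint X ⤳ x := (genericPoint_spec X).specializes trivial
  have hc := Scheme.Hom.stalkSpecializes_stalkMap f (genericPoint X) x hsp
  -- the composite through the function fields is injective
  have hspY : genericPoint Y ⤳ f x := (genericPoint_spec Y).specializes trivial
  have h1 : Y.presheaf.stalkSpecializes (f.base.hom.map_specializes hsp) =
      Y.presheaf.stalkSpecializes hspY ≫ Y.presheaf.stalkSpecializes (specializes_of_eq e) :=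
    (TopCat.Presheaf.stalkSpecializes_comp Y.presheaf (specializes_of_eq e) hspY).symm
  have hinj : Function.Injective
      (Y.presheaf.stalkSpecializes (f.base.hom.map_specializes hsp) ≫ f.stalkMap (genericPoint X)).hom := by
    rw [h1, Category.assoc, CommRingCat.hom_comp, RingHom.coe_comp]
    exact Function.Injective.comp
      (RingHom.injective ((Y.presheaf.stalkSpecializes (specializes_of_eq e) ≫
        f.stalkMap (genericPoint X)).hom : Y.functionField →+* X.functionField))
      (IsFractionRing.injective (Y.presheaf.stalk (f x)) Y.functionField)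
  rw [hc, CommRingCat.hom_comp, RingHom.coe_comp] at hinj
  exact Function.Injective.of_comp hinj

include e in
/-- a dominant morphism from an integral scheme to an integral scheme whose local rings are
valuation rings is flat -/
theorem flat_of_generic (hval : ∀ y : Y, ValuationRing (Y.presheaf.stalk y)) : Flat f := by
  rw [Flat.iff_flat_stalkMap]
  intro x
  have hinj := stalkMap_injective_of_generic f e x
  haveI := hval (f x)
  algebraize [(f.stalkMap x).hom]
  change Module.Flat (Y.presheaf.stalk (f x)) (X.presheaf.stalk x)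
  rw [Module.Flat.flat_iff_torsion_eq_bot_of_isBezout, eq_bot_iff]
  intro b hb
  rw [Submodule.mem_torsion_iff] at hb
  obtain ⟨a, ha⟩ := hb
  rw [Submodule.mem_bot]
  have ha' : (f.stalkMap x).hom (a : Y.presheaf.stalk (f x)) * b = 0 := ha
  rcases mul_eq_zero.1 ha' with h | h
  · exfalso
    have : (a : Y.presheaf.stalk (f x)) = 0 := hinj (h.trans (map_zero _).symm)
    exact nonZeroDivisors.coe_ne_zero a this
  · exact h

end Flat

section Deg

open Groth.Agent.Lib.R2H1.NormPush

variable {X Y : Scheme.{u}} [IsIntegral X] [IsIntegral Y] (f : X ⟶ Y)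
  (e : f (genericPoint X) = genericPoint Y)

theorem finrank_functionField_eq_residueDegree :
    letI := (ffMap f e).toAlgebra
    Module.finrank Y.functionField X.functionField = f.residueDegree (genericPoint X) := by
  letI := (ffMap f e).toAlgebra
  letI := (f.residueFieldMap (genericPoint X)).hom.toAlgebra
  unfold Scheme.Hom.residueDegree
  refine Algebra.finrank_eq_of_equiv_equiv (eY f e) (eX X) ?_
  ext z
  exact (eX_ffMap f e z).symm

theorem isSeparable_functionField_iff :
    letI := (ffMap f e).toAlgebra
    letI := (f.residueFieldMap (genericPoint X)).hom.toAlgebra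
    Algebra.IsSeparable Y.functionField X.functionField ↔
      Algebra.IsSeparable (Y.residueField (f (genericPoint X))) (X.residueField (genericPoint X)) := by
  letI := (ffMap f e).toAlgebra
  letI := (f.residueFieldMap (genericPoint X)).hom.toAlgebra
  have hc : (algebraMap (Y.residueField (f (genericPoint X))) (X.residueField (genericPoint X))).comp
      (eY f e : Y.functionField →+* _) =
      ((eX X : X.functionField →+* _)).comp (algebraMap Y.functionField X.functionField) := by
    ext z
    exact (eX_ffMap f e z).symm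
  constructor
  · intro h
    exact Algebra.IsSeparable.of_equiv_equiv (eY f e) (eX X) hc
  · intro h
    refine Algebra.IsSeparable.of_equiv_equiv (eY f e).symm (eX X).symm ?_
    ext z
    apply (eX X).injective
    have := congrArg (fun ψ => ψ ((eY f e).symm z)) hc
    simp only [RingHom.coe_comp, RingHom.coe_coe, Function.comp_apply,
      RingEquiv.apply_symm_apply] at this
    simp only [RingHom.coe_comp, RingHom.coe_coe, Function.comp_apply,
      RingEquiv.apply_symm_apply]
    exact this.symm

end Deg

section Insep

theorem isPurelyInseparable_of_finrank_two {F E : Type*} [Field F] [Field E] [Algebra F E]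
    (h2 : Module.finrank F E = 2) (hns : ¬ Algebra.IsSeparable F E) : IsPurelyInseparable F E := by
  haveI : FiniteDimensional F E := Module.finite_of_finrank_pos (by omega)
  have hmul := Field.finSepDegree_mul_finInsepDegree F E
  rw [h2] at hmul
  have hdvd : Field.finSepDegree F E ∣ 2 := ⟨_, hmul.symm⟩
  have hcases : Field.finSepDegree F E = 1 ∨ Field.finSepDegree F E = 2 :=
    (Nat.dvd_prime Nat.prime_two).1 hdvd
  rcases hcases with h | h
  · exact isPurelyInseparable_of_finSepDegree_eq_one h
  · exfalso
    apply hns
    rw [← Field.finSepDegree_eq_finrank_iff, h, h2]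

end Insep

end Part2

section Part3

open CategoryTheory CategoryTheory.Limits AlgebraicGeometry TopologicalSpace

open Groth.Agent.Lib.R2H1.IsoP1 Groth.Agent.Lib.R2H1.CurveBC

section Main

variable (k : Type u) [Field k] (X : Scheme.{u}) [X.Over (Spec (CommRingCat.of k))]
  [IsProper (X ↘ Spec (CommRingCat.of k))] [Smooth (X ↘ Spec (CommRingCat.of k))]
  [GeometricallyConnected (X ↘ Spec (CommRingCat.of k))] [IsIntegral X]

/-- the morphism to the projective line defined by a base point free pencil of degree two on a
curve of positive genus is finite flat of degree two and generically étale -/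
theorem exists_double_cover_of_pencil (hdim : topologicalKrullDim X = 1) (L : X.Modules)
    (hL : PicF.IsInvertible L) (hgg : Curv2.IsGloballyGenerated L)
    (h0 : Module.finrank k (Coh.HH X L 0) = 2) (hdeg : Curv2.deg k X L 1 = 2)
    (hg : 1 ≤ Curv2.genus k X) :
    ∃ f : X ⟶ CohB1.ProjSpace 1 k,
      f ≫ CohB1.ProjSpace.toSpec 1 k = X ↘ Spec (CommRingCat.of k) ∧ IsFinite f ∧
      f.residueDegree (genericPoint X) = 2 ∧
      Nonempty ((Scheme.Modules.pullback f).obj (Twist.twistProjSpace 1 k 1) ≅ L) := by
  obtain ⟨t₀, t₁, hcov⟩ := exists_two_sections_cover k X L hL hgg h0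
  obtain ⟨s, hs0, hs1⟩ : ∃ s : Fin (1 + 1) → ProjUP.Γm L,
      s 0 = Groth.Agent.Lib.Helper23.SecTw.sv t₀ ⊤ ∧ s 1 = Groth.Agent.Lib.Helper23.SecTw.sv t₁ ⊤ :=
    ⟨![Groth.Agent.Lib.Helper23.SecTw.sv t₀ ⊤, Groth.Agent.Lib.Helper23.SecTw.sv t₁ ⊤], rfl, rfl⟩
  have hs : ProjUP.GeneratedBy L s := by
    refine Groth.Agent.Lib.R2H3.VAmpleMor.generatedBy_of_cover L s (fun x => ?_)
    rcases hcov x with h | h
    · exact ⟨0, by rw [hs0, Groth.Agent.Lib.R2H3.VAmpleMor.secHom_sv]; exact h⟩
    · exact ⟨1, by rw [hs1, Groth.Agent.Lib.R2H3.VAmpleMor.secHom_sv]; exact h⟩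
  obtain ⟨r, hr, τ, -⟩ := Groth.Agent.S3572.result 1 (X ↘ Spec (CommRingCat.of k)) L hL s hs
  obtain ⟨hfin, hres⟩ := Groth.Agent.Lib.R2H1.Hyperell.finite_and_degree k X hdim L 2
    (by norm_num) (by rw [hdeg]; rfl) r hr τ
  exact ⟨r, hr, hfin, hres, ⟨τ⟩⟩

end Main

end Part3

section Part4

open CategoryTheory CategoryTheory.Limits AlgebraicGeometry TopologicalSpace

open Groth.Agent.Lib.R2H1.IsoP1 Groth.Agent.Lib.R2H1.CurveBC

section Facts

variable (k : Type u) [Field k] (X : Scheme.{u}) [X.Over (Spec (CommRingCat.of k))]
  [IsProper (X ↘ Spec (CommRingCat.of k))] [Smooth (X ↘ Spec (CommRingCat.of k))]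
  [GeometricallyConnected (X ↘ Spec (CommRingCat.of k))] [IsIntegral X]

/-- a finite morphism of degree two from a curve of positive genus to the projective line is
flat of constant rank two and generically étale -/
theorem double_cover_facts (hdim : topologicalKrullDim X = 1) (hg : 1 ≤ Curv2.genus k X)
    (f : X ⟶ CohB1.ProjSpace 1 k)
    (hf : f ≫ CohB1.ProjSpace.toSpec 1 k = X ↘ Spec (CommRingCat.of k)) [IsFinite f]
    (hres : f.residueDegree (genericPoint X) = 2) :
    Flat f ∧ (∀ y : ↥(CohB1.ProjSpace 1 k), Scheme.Hom.finrank f y = 2) ∧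
      (∃ V : X.Opens, (V : Set X).Nonempty ∧ Etale (V.ι ≫ f)) ∧
      letI := (f.residueFieldMap (genericPoint X)).hom.toAlgebra
      Algebra.IsSeparable ((CohB1.ProjSpace 1 k).residueField (f (genericPoint X)))
        (X.residueField (genericPoint X)) := by
  haveI := isIntegral_P1k k
  haveI := isProper_P1k k
  have hdimP := dim_P1k k
  haveI := Groth.Agent.Lib.R2H1.CurveEuler.isNoetherian_of_proper k (CohB1.ProjSpace 1 k)
  have hX0 := Groth.Agent.Lib.R2H1.DblCoverGeom.hX0_of_geomConn k X
  let f' : X ⟶ Proj (CohB1.polyGrading 1 k) := f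
  haveI : IsFinite f' := ‹IsFinite f›
  have e : f (genericPoint X) = genericPoint ↥(CohB1.ProjSpace 1 k) :=
    Groth.Agent.Lib.R2H1.DblCoverGeom.map_genericPoint k X hdim hX0 f'
  have hf' : f ≫ ((CohB1.ProjSpace 1 k) ↘ Spec (CommRingCat.of k)) =
      X ↘ Spec (CommRingCat.of k) := hf
  haveI : Smooth (CohB1.ProjSpace.toSpec 1 k) := Groth.Agent.Lib.R2H1.P1Inter.smooth_toSpec 1 k
  have hnormP : Pi1.IsNormalScheme (CohB1.ProjSpace 1 k) :=
    Groth.Agent.Lib.R2H1.SmoothCompl.isNormalScheme_of_smooth k _ (CohB1.ProjSpace.toSpec 1 k)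
  haveI hflat : Flat f := flat_of_generic f e
    (Groth.Agent.Lib.R2H1.FrobTwist.valuationRing_stalk' k (CohB1.ProjSpace 1 k) hdimP hnormP)
  haveI : Flat f' := hflat
  haveI : LocallyOfFinitePresentation f :=
    LocallyOfFinitePresentation.iff_locallyOfFiniteType.mpr inferInstance
  -- the rank
  have hlc := Scheme.Hom.isLocallyConstant_finrank f
  have hrk : ∀ y : ↥(CohB1.ProjSpace 1 k), Scheme.Hom.finrank f y =
      Scheme.Hom.finrank f (genericPoint ↥(CohB1.ProjSpace 1 k)) := fun y =>
    hlc.apply_eq_of_preconnectedSpace _ _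
  have hd := Groth.Agent.Lib.R2H1.DblCoverGeom.residueDegree_of_finrank k X hdim f' hf
    (Scheme.Hom.finrank f (genericPoint ↥(CohB1.ProjSpace 1 k))) hrk
  have hd2 : Scheme.Hom.finrank f (genericPoint ↥(CohB1.ProjSpace 1 k)) = 2 :=
    hd.symm.trans hres
  -- separability
  have hsep : letI := (Groth.Agent.Lib.R2H1.NormPush.ffMap f e).toAlgebra
      Algebra.IsSeparable (CohB1.ProjSpace 1 k).functionField X.functionField := by
    letI := (Groth.Agent.Lib.R2H1.NormPush.ffMap f e).toAlgebra
    by_contra hns
    have h2 : Module.finrank (CohB1.ProjSpace 1 k).functionField X.functionField = 2 :=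
      (finrank_functionField_eq_residueDegree f e).trans hres
    have hpi := isPurelyInseparable_of_finrank_two h2 hns
    obtain ⟨p, hp⟩ := ExpChar.exists k
    haveI := hp
    obtain ⟨r, i, hi⟩ := Groth.Agent.Lib.R2H1.FrobTwist.main k p X (CohB1.ProjSpace 1 k) hdim
      hdimP hnormP f hf' e hpi
    have h3 := Groth.Agent.Lib.R2H1.FrobTwist2.finrank_HH_structure_of_iso_twist k p r X i hi 1
    rw [Groth.Agent.Lib.R2H1.EtaleP1.finrank_HH_structure_P1k_one k] at h3
    have h4 : Curv2.genus k X = 0 := h3.symm
    omega
  refine ⟨hflat, fun y => (hrk y).trans hd2, ?_, (isSeparable_functionField_iff f e).1 hsep⟩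
  exact (Groth.Agent.Lib.R2H4.GenEtale.main k X (CohB1.ProjSpace 1 k) f hf' e).2.2 hsep

end Facts

end Part4

end Groth.Agent.Lib.R2H1.DoubleCover
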