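import Mathlib
import Groth.Prelude
import Groth.Agent.Lib.Helper18Om1
import Groth.Agent.Lib.Helper18OmLS11
import Groth.Agent.Lib.Helper18OmLS24
import Groth.Agent.Lib.H6xDiffMono
import Groth.Agent.Lib.R2H1CurveBC
import Groth.Agent.Lib.R2H1DegPullback
import Groth.Agent.Lib.R2H4BirIso
import Groth.Agent.Lib.R2H1SmoothCompl
import Groth.Agent.Lib.R2H1VBRankTwo
import Groth.Agent.Lib.R2H1EtaleP1
set_option backward.isDefEq.respectTransparency.types false

/-!
Riemann-Hurwitz: the cotangent sequence of a finite separable morphism of curves is short exact, degree formula deg Omega_X = n deg Omega_Y + h0(Omega_{X/Y}), the Riemann-Hurwitz genus formula, and the equality case in genus at least two.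
-/

set_option autoImplicit false
set_option linter.style.haveILetI false
set_option linter.unusedSectionVars false
universe u v

open CategoryTheory CategoryTheory.Limits AlgebraicGeometry TopologicalSpace Opposite

namespace Groth.Agent.Lib.R2H1.RiemannHurwitz

section Part1

section A

/-- an exact sequence `N ⟶ L ⟶ Q ⟶ 0` (image = kernel, second map epi) identifies `Q` with the
cokernel of the first map -/
theorem nonempty_cokernel_iso {C : Type*} [Category C] [Abelian C] {N L Q : C} (c₁ : N ⟶ L)
    (c₂ : L ⟶ Q) [Epi c₂] (himg : imageSubobject c₁ = kernelSubobject c₂) :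
    Nonempty (cokernel c₁ ≅ Q) := by
  have w : c₁ ≫ c₂ = 0 := by
    rw [← imageSubobject_arrow_comp c₁, Category.assoc]
    have : (imageSubobject c₁).arrow ≫ c₂ = 0 := by
      rw [← Subobject.ofLE_arrow (le_of_eq himg), Category.assoc, kernelSubobject_arrow_comp,
        comp_zero]
    rw [this, comp_zero]
  let S : ShortComplex C := ShortComplex.mk c₁ c₂ w
  have hS : S.Exact := (ShortComplex.exact_iff_image_eq_kernel S).mpr himg
  haveI : Epi S.g := inferInstanceAs (Epi c₂)
  exact ⟨IsColimit.coconePointUniqueUpToIso (cokernelIsCokernel c₁) hS.gIsCokernel⟩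

end A

section B

variable (k : Type u) [Field k] {X Y : Scheme.{u}}

/-- the cotangent sequence of a dominant generically separable morphism to a smooth `k`-scheme is
short exact -/
theorem exists_mono_cotangent (pX : X ⟶ Spec (CommRingCat.of k))
    (pY : Y ⟶ Spec (CommRingCat.of k)) (f : X ⟶ Y) (hf : f ≫ pY = pX)
    [IsIntegral X] [IsIntegral Y] [Smooth pY] [QuasiSeparated pX] [QuasiSeparated pY]
    [QuasiSeparated f]
    (hdom : DenseRange f.base)
    (hsep : letI := (f.residueFieldMap (genericPoint X)).hom.toAlgebra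
      Algebra.IsSeparable (Y.residueField (f.base (genericPoint X)))
        (X.residueField (genericPoint X))) :
    ∃ c : (Scheme.Modules.pullback f).obj (Omega.sheaf pY) ⟶ Omega.sheaf pX,
      Mono c ∧ Nonempty (cokernel c ≅ Omega.sheaf f) := by
  subst hf
  have hsq : (f ≫ pY) ≫ 𝟙 (Spec (CommRingCat.of k)) = f ≫ pY := Category.comp_id _
  obtain ⟨c₁, hc₁, -⟩ := Groth.Agent.Helper18Om.main_S9370 pY (f ≫ pY) f (𝟙 _) hsq _
    (OmegaSh.dOmega pY) (Groth.Agent.Helper18OmLS.isUniversal_dOmega _) _
    (OmegaSh.dOmega (f ≫ pY))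
  have hsq2 : f ≫ pY = 𝟙 X ≫ (f ≫ pY) := (Category.id_comp _).symm
  obtain ⟨c₂, hc₂, -⟩ := Groth.Agent.Helper18Om.main_S9370 (f ≫ pY) f (𝟙 X) pY hsq2 _
    (OmegaSh.dOmega (f ≫ pY)) (Groth.Agent.Helper18OmLS.isUniversal_dOmega _) _
    (OmegaSh.dOmega f)
  have hmono : Mono c₁ := Groth.Agent.Lib.H6xDiffMono.main k pY f hdom hsep _ (OmegaSh.dOmega pY)
    (Groth.Agent.Helper18OmLS.isUniversal_dOmega _) _ (OmegaSh.dOmega (f ≫ pY))
    (Groth.Agent.Helper18OmLS.isUniversal_dOmega _) c₁ hc₁
  obtain ⟨hepi, himg⟩ := Groth.Agent.Helper18OmLS.main_S5975 f pY _ (OmegaSh.dOmega pY)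
    (Groth.Agent.Helper18OmLS.isUniversal_dOmega _) _ (OmegaSh.dOmega (f ≫ pY))
    (Groth.Agent.Helper18OmLS.isUniversal_dOmega _) _ (OmegaSh.dOmega f)
    (Groth.Agent.Helper18OmLS.isUniversal_dOmega _) c₁ hc₁ c₂ hc₂
  haveI : Epi ((Scheme.Modules.pullbackId X).inv.app (Omega.sheaf (f ≫ pY)) ≫ c₂) :=
    epi_comp _ _
  exact ⟨c₁, hmono, nonempty_cokernel_iso c₁ _ himg⟩

end B

end Part1

section Part2

open Groth.Agent.Lib.R2H1.CurveDegSec Groth.Agent.Lib.R2H1.CurveAmple
  Groth.Agent.Lib.R2H1.OmegaCurve Groth.Agent.Lib.R2H1.OmegaDual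

section C

variable {X Y : Scheme.{u}} [IsIntegral X] [IsIntegral Y]

/-- separability of the function field extension, in residue field form -/
theorem isSeparable_residueField_of_functionField (f : X ⟶ Y)
    (e : f (genericPoint X) = genericPoint Y)
    (hsep : letI := ((Y.presheaf.stalkSpecializes (specializes_of_eq e) ≫
        f.stalkMap (genericPoint X)).hom).toAlgebra
      Algebra.IsSeparable Y.functionField X.functionField) :
    letI := (f.residueFieldMap (genericPoint X)).hom.toAlgebra
    Algebra.IsSeparable (Y.residueField (f (genericPoint X))) (X.residueField (genericPoint X)) := by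
  letI a1 := ((Y.presheaf.stalkSpecializes (specializes_of_eq e) ≫
        f.stalkMap (genericPoint X)).hom).toAlgebra
  letI a2 := (f.residueFieldMap (genericPoint X)).hom.toAlgebra
  haveI : Algebra.IsSeparable Y.functionField X.functionField := hsep
  haveI : IsIso (Y.presheaf.stalkSpecializes (specializes_of_eq e)) :=
    (Y.presheaf.stalkCongr (Inseparable.of_eq e.symm)).isIso_hom
  have hb1 : Function.Bijective (Y.presheaf.stalkSpecializes (specializes_of_eq e)).hom :=
    ConcreteCategory.bijective_of_isIso _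
  have hb2 := Groth.Agent.Lib.R2H1.DegPullback.residue_bijective_of_isField (f (genericPoint X))
    (Groth.Agent.Lib.R2H1.DegPullback.isField_stalk_of_eq_genericPoint _ e)
  have hb3 := Groth.Agent.Lib.R2H1.DegPullback.residue_bijective_of_isField (genericPoint X)
    (Groth.Agent.Lib.R2H1.DegPullback.isField_stalk_of_eq_genericPoint _ rfl)
  let e₁ : Y.functionField ≃+* Y.residueField (f (genericPoint X)) :=
    RingEquiv.ofBijective ((Y.residue (f (genericPoint X))).hom.comp
      (Y.presheaf.stalkSpecializes (specializes_of_eq e)).hom) (hb2.comp hb1)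
  let e₂ : X.functionField ≃+* X.residueField (genericPoint X) :=
    RingEquiv.ofBijective (X.residue (genericPoint X)).hom hb3
  refine Algebra.IsSeparable.of_equiv_equiv e₁ e₂ ?_
  ext a
  exact ConcreteCategory.congr_hom (Scheme.residue_residueFieldMap f (genericPoint X))
    ((Y.presheaf.stalkSpecializes (specializes_of_eq e)).hom a)

theorem denseRange_of_map_genericPoint (f : X ⟶ Y) (e : f (genericPoint X) = genericPoint Y) :
    DenseRange f.base := by
  intro y
  have h1 := (genericPoint_spec Y).def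
  rw [← e] at h1
  have h2 : closure {f (genericPoint X)} ⊆ closure (Set.range f) :=
    closure_mono (Set.singleton_subset_iff.mpr ⟨_, rfl⟩)
  exact h2 (h1 ▸ Set.mem_univ y)

end C

section D

variable (k : Type u) [Field k] (X Y : Scheme.{u}) [X.Over (Spec (CommRingCat.of k))]
  [Y.Over (Spec (CommRingCat.of k))] [IsIntegral X] [IsIntegral Y]
  [IsProper (X ↘ Spec (CommRingCat.of k))] [IsProper (Y ↘ Spec (CommRingCat.of k))]

/-- Riemann-Hurwitz in degree form -/
theorem deg_omega_eq (hdX : topologicalKrullDim X = 1) (hdY : topologicalKrullDim Y = 1)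
    [Smooth (Y ↘ Spec (CommRingCat.of k))]
    (hΩX : PicF.IsInvertible (Omega.sheaf (X ↘ Spec (CommRingCat.of k))))
    (hΩY : PicF.IsInvertible (Omega.sheaf (Y ↘ Spec (CommRingCat.of k))))
    (f : X ⟶ Y) [QuasiSeparated f]
    (hf : f ≫ (Y ↘ Spec (CommRingCat.of k)) = X ↘ Spec (CommRingCat.of k))
    (e : f (genericPoint X) = genericPoint Y)
    (hsep : letI := ((Y.presheaf.stalkSpecializes (specializes_of_eq e) ≫
        f.stalkMap (genericPoint X)).hom).toAlgebra
      Algebra.IsSeparable Y.functionField X.functionField) :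
    Curv2.deg k X (Omega.sheaf (X ↘ Spec (CommRingCat.of k))) 1 =
      (f.residueDegree (genericPoint X) : ℤ) *
        Curv2.deg k Y (Omega.sheaf (Y ↘ Spec (CommRingCat.of k))) 1 +
      (Module.finrank k (Coh.HH X (Omega.sheaf f) 0) : ℤ) := by
  obtain ⟨c, hmono, ⟨ι⟩⟩ := exists_mono_cotangent k (X ↘ Spec (CommRingCat.of k))
    (Y ↘ Spec (CommRingCat.of k)) f hf (denseRange_of_map_genericPoint f e)
    (isSeparable_residueField_of_functionField f e hsep)
  have hN := Groth.Agent.Lib.Helper23.PB.isInvertible_pullback f _ hΩY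
  obtain ⟨m1, -⟩ := main k X hdX _ _ hN hΩX c
    (Groth.Agent.Lib.R2H1.VBRankTwo.mono_ne_zero_of_isInvertible hN c)
  have h2 := Groth.Agent.Lib.R2H2.ClosedPnLin.finrank_HH_of_iso k ι 0
  have d1 := Groth.Agent.Lib.R2H1.DegPullback.s7640 k X Y hdX hdY f hf e 1 _
    (Groth.Agent.Lib.Helper23.SecTw.isFinLocFreeOfRank_one_of_isInvertible _ hΩY)
  rw [h2] at m1
  rw [← d1]
  unfold Curv2.deg
  linarith

end D

section E

variable (k : Type u) [Field k] [IsAlgClosed k] (X Y : Scheme.{u})
  [X.Over (Spec (CommRingCat.of k))] [Y.Over (Spec (CommRingCat.of k))] [IsIntegral X]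
  [IsIntegral Y] [IsProper (X ↘ Spec (CommRingCat.of k))] [IsProper (Y ↘ Spec (CommRingCat.of k))]

theorem isNormalScheme_of_regular (hreg : ∀ y : Y, IsRegularLocalRing (Y.presheaf.stalk y)) :
    Pi1.IsNormalScheme Y := fun y => by
  haveI := hreg y
  exact ⟨Groth.Agent.Lib.Helper5.isDomain_of_isRegularLocalRing _,
    Groth.Agent.Lib.Helper28.isIntegrallyClosed_of_isRegularLocalRing _⟩

/-- the Riemann-Hurwitz formula -/
theorem riemann_hurwitz (hdX : topologicalKrullDim X = 1)
    (hregX : ∀ x : X, IsRegularLocalRing (X.presheaf.stalk x))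
    (hdY : topologicalKrullDim Y = 1)
    (hregY : ∀ y : Y, IsRegularLocalRing (Y.presheaf.stalk y))
    (f : X ⟶ Y) [IsFinite f]
    (hf : f ≫ (Y ↘ Spec (CommRingCat.of k)) = X ↘ Spec (CommRingCat.of k))
    (e : f (genericPoint X) = genericPoint Y)
    (hsep : letI := ((Y.presheaf.stalkSpecializes (specializes_of_eq e) ≫
        f.stalkMap (genericPoint X)).hom).toAlgebra
      Algebra.IsSeparable Y.functionField X.functionField) :
    2 * (Curv2.genus k X : ℤ) - 2 =
      (f.residueDegree (genericPoint X) : ℤ) * (2 * (Curv2.genus k Y : ℤ) - 2) +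
        (Module.finrank k (Coh.HH X (Omega.sheaf f) 0) : ℤ) := by
  haveI := Groth.Agent.Lib.R2H1.SmoothCompl.smooth_of_normal k Y hdY
    (isNormalScheme_of_regular Y hregY)
  obtain ⟨-, -, dX⟩ := numerics_Om k X hdX hregX
  obtain ⟨-, -, dY⟩ := numerics_Om k Y hdY hregY
  have h := deg_omega_eq k X Y hdX hdY (isInvertible_Om k X hdX hregX)
    (isInvertible_Om k Y hdY hregY) f hf e hsep
  rw [dX, dY] at h
  exact h

end E

end Part2

section Part3

open Groth.Agent.Lib.R2H1.CurveDegSec
  Groth.Agent.Lib.R2H1.CurveAmple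
  Groth.Agent.Lib.R2H1.OmegaCurve Groth.Agent.Lib.R2H1.OmegaDual Groth.Agent.Lib.R2H1.EtaleP1

section F

variable {X Y : Scheme.{u}} [IsIntegral X] [IsIntegral Y]

theorem residueDegree_pos_of_isFinite (f : X ⟶ Y) [IsFinite f] (x : X) :
    0 < f.residueDegree x := by
  have hfin := Groth.Agent.Lib.Helper20.ResFld.finite_residueFieldMap_of_quasiFiniteAt f
    x (f.quasiFiniteAt _)
  unfold Scheme.Hom.residueDegree
  letI := (f.residueFieldMap x).hom.toAlgebra
  haveI : Module.Finite (Y.residueField (f x)) (X.residueField x) := hfin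
  exact Module.finrank_pos

/-- a finite morphism of degree one onto a normal integral scheme is an isomorphism -/
theorem isIso_of_residueDegree_eq_one (f : X ⟶ Y) [IsFinite f]
    (e : f (genericPoint X) = genericPoint Y) (hY : Pi1.IsNormalScheme Y)
    (hn1 : f.residueDegree (genericPoint X) = 1) : IsIso f := by
  haveI : IsIso (f.stalkMap (genericPoint X)) :=
    isIso_stalkMap_of_residueDegree_eq_one f _
      (Groth.Agent.Lib.R2H1.DegPullback.isField_stalk_of_eq_genericPoint _ rfl)
      (Groth.Agent.Lib.R2H1.DegPullback.isField_stalk_of_eq_genericPoint _ e) hn1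
  haveI : Surjective f := by
    constructor
    have hcl : IsClosed (Set.range f) := f.isClosedMap.isClosed_range
    have hd := denseRange_of_map_genericPoint f e
    intro y
    have := hd.closure_eq
    rw [hcl.closure_eq] at this
    have hy : y ∈ Set.range f := this ▸ Set.mem_univ y
    exact hy
  exact Groth.Agent.Lib.R2H4.BirIso.isIso_of_finite_birational_normal f hY inferInstance

end F

section G

variable (k : Type u) [Field k] [IsAlgClosed k] (X Y : Scheme.{u})
  [X.Over (Spec (CommRingCat.of k))] [Y.Over (Spec (CommRingCat.of k))] [IsIntegral X]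
  [IsIntegral Y] [IsProper (X ↘ Spec (CommRingCat.of k))] [IsProper (Y ↘ Spec (CommRingCat.of k))]

/-- a finite separable morphism between curves of the same genus at least two is an isomorphism -/
theorem isIso_of_separable_of_genus_eq (hdX : topologicalKrullDim X = 1)
    (hregX : ∀ x : X, IsRegularLocalRing (X.presheaf.stalk x))
    (hdY : topologicalKrullDim Y = 1)
    (hregY : ∀ y : Y, IsRegularLocalRing (Y.presheaf.stalk y))
    (f : X ⟶ Y) [IsFinite f]
    (hf : f ≫ (Y ↘ Spec (CommRingCat.of k)) = X ↘ Spec (CommRingCat.of k))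
    (e : f (genericPoint X) = genericPoint Y)
    (hg : Curv2.genus k X = Curv2.genus k Y) (h2 : 2 ≤ Curv2.genus k Y)
    (hsep : letI := ((Y.presheaf.stalkSpecializes (specializes_of_eq e) ≫
        f.stalkMap (genericPoint X)).hom).toAlgebra
      Algebra.IsSeparable Y.functionField X.functionField) : IsIso f := by
  have rh := riemann_hurwitz k X Y hdX hregX hdY hregY f hf e hsep
  have hpos := residueDegree_pos_of_isFinite f (genericPoint X)
  have hn1 : f.residueDegree (genericPoint X) = 1 := by
    rw [hg] at rh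
    have hpos' : (0 : ℤ) < (f.residueDegree (genericPoint X) : ℤ) := by exact_mod_cast hpos
    have h2' : (2 : ℤ) ≤ (Curv2.genus k Y : ℤ) := by exact_mod_cast h2
    have hr : (0 : ℤ) ≤ (Module.finrank k (Coh.HH X (Omega.sheaf f) 0) : ℤ) :=
      Int.natCast_nonneg _
    have : (f.residueDegree (genericPoint X) : ℤ) = 1 := by nlinarith
    exact_mod_cast this
  exact isIso_of_residueDegree_eq_one f e (isNormalScheme_of_regular Y hregY) hn1

end G

end Part3

end Groth.Agent.Lib.R2H1.RiemannHurwitz
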