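import Mathlib
import Groth.Prelude
import Groth.Agent.Lib.R2H1DoubleCover
import Groth.Agent.Lib.R2H1CurveLift
import Groth.Agent.Lib.R2H1RiemannHurwitz
import Groth.Agent.S2345
import Groth.Agent.Lib.R2H1FrobTwist2
import Groth.Agent.Lib.Helper8CurveEt
set_option backward.isDefEq.respectTransparency.types false

/-!
Genus does not increase along finite morphisms of smooth proper curves: function field map of a morphism given generically (ffMap_eq_of_fromSpecStalk), finite morphisms of curves are dominant (map_genericPoint_of_isFinite), separable closure of a function field (sepClosure_facts), transfer of pure inseparability (isPurelyInseparable_of_equiv_equiv), factorisation through a Frobenius twist and a generically etale finite morphism (exists_separable_model), genus_le_of_isFinite_algClosed, genus_le_of_isFinite.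
-/

set_option autoImplicit false
set_option linter.style.haveILetI false
set_option linter.unusedSectionVars false
universe u v

open CategoryTheory CategoryTheory.Limits AlgebraicGeometry TopologicalSpace Opposite

namespace Groth.Agent.Lib.R2H1.GenusFinite

section Part1

open CategoryTheory CategoryTheory.Limits AlgebraicGeometry TopologicalSpace

section FF

open Groth.Agent.Lib.R2H1.NormPush Groth.Agent.Lib.R2H1.FrobTwist

variable {X C : Scheme.{u}} [IsIntegral X] [IsIntegral C]

/-- a morphism whose generic point is given by a field homomorphism is dominant, with that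
function field map -/
theorem ffMap_eq_of_fromSpecStalk (j : X ⟶ C) (e : C.functionField →+* X.functionField)
    (hj : X.fromSpecStalk (genericPoint X) ≫ j =
      Spec.map (CommRingCat.ofHom e) ≫ C.fromSpecStalk (genericPoint C)) :
    ∃ h : j (genericPoint X) = genericPoint C, ffMap j h = e := by
  have hpt : j (genericPoint X) = genericPoint C := by
    have h3 := congrArg (fun ψ => ψ (IsLocalRing.closedPoint (X.presheaf.stalk (genericPoint X)))) hj
    simp only [Scheme.Hom.comp_apply] at h3
    rw [Scheme.fromSpecStalk_closedPoint] at h3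
    rw [h3]
    exact fromSpecStalk_apply_of_isField (genericPoint C) (Field.toIsField C.functionField) _
  refine ⟨hpt, ?_⟩
  have h1 := Scheme.SpecMap_stalkMap_fromSpecStalk j (x := genericPoint X)
  have h3 := eq_of_SpecMap_fromSpecStalk hpt _ (CommRingCat.ofHom e) (h1.trans hj)
  ext z
  change (j.stalkMap (genericPoint X)).hom
    ((C.presheaf.stalkSpecializes (specializes_of_eq hpt)).hom z) = e z
  rw [h3]
  change e ((C.presheaf.stalkSpecializes (specializes_of_eq hpt.symm)).hom
    ((C.presheaf.stalkSpecializes (specializes_of_eq hpt)).hom z)) = e z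
  rw [spec_spec hpt z]

end FF

section Dom

open Groth.Agent.Lib.Helper4.VarDim

variable (k : Type u) [Field k] {X Y : Scheme.{u}} [X.Over (Spec (CommRingCat.of k))]
  [Y.Over (Spec (CommRingCat.of k))] [IsIntegral X] [IsIntegral Y]
  [LocallyOfFiniteType (X ↘ Spec (CommRingCat.of k))]
  [LocallyOfFiniteType (Y ↘ Spec (CommRingCat.of k))]

/-- a finite morphism between integral curves is dominant -/
theorem map_genericPoint_of_isFinite (hdX : topologicalKrullDim X = 1)
    (hdY : topologicalKrullDim Y = 1) (f : X ⟶ Y) [IsFinite f]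
    (hf : f ≫ (Y ↘ Spec (CommRingCat.of k)) = X ↘ Spec (CommRingCat.of k)) :
    f (genericPoint X) = genericPoint Y := by
  by_contra hne
  have h1 : trdegNat k X (genericPoint X) = 1 :=
    trdegNat_eq_of_trdeg_eq k X (genericPoint X) 1
      (by simpa using (Groth.Agent.Lib.R2H1.CurveDeg.dim_facts k X hdX).1)
  have h2 : trdegNat k Y (genericPoint Y) = 1 :=
    trdegNat_eq_of_trdeg_eq k Y (genericPoint Y) 1
      (by simpa using (Groth.Agent.Lib.R2H1.CurveDeg.dim_facts k Y hdY).1)
  have h3 := Groth.Agent.Lib.R2H1.CurveLift.trdegNat_eq_of_isFinite k f hf (genericPoint X)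
  have h4 := trdegNat_lt_of_specializes k Y (genericPoint Y) (f (genericPoint X))
    ((genericPoint_spec Y).specializes trivial) (Ne.symm hne)
  omega

end Dom

end Part1

section Part2

open IntermediateField

section Alg

variable (k L M : Type u) [Field k] [Field L] [Field M] [Algebra k L] [Algebra k M] [Algebra L M]
  [IsScalarTower k L M] [FiniteDimensional L M] [Algebra.EssFiniteType k L]

/-- the separable closure of a finite extension of a function field is a function field -/
theorem sepClosure_facts (htr : Algebra.trdeg k L = 1) :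
    (⊤ : IntermediateField k (separableClosure L M)).FG ∧
      Algebra.trdeg k (separableClosure L M) = 1 := by
  haveI : Algebra.EssFiniteType L (separableClosure L M) := inferInstance
  haveI : Algebra.EssFiniteType k (separableClosure L M) :=
    Algebra.EssFiniteType.comp k L (separableClosure L M)
  refine ⟨IntermediateField.fg_top k _, ?_⟩
  have h := _root_.trdeg_add_eq (R := k) (S := L) (A := separableClosure L M)
  rw [_root_.trdeg_eq_zero (R := L) (A := separableClosure L M), add_zero] at h
  rw [← h, htr]

end Alg

section Transfer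

variable {F₁ F₂ E₁ E₂ : Type u} [Field F₁] [Field F₂] [Field E₁] [Field E₂] [Algebra F₁ E₁]
  [Algebra F₂ E₂]

/-- transfer of pure inseparability along isomorphisms -/
theorem isPurelyInseparable_of_equiv_equiv (e₁ : F₁ ≃+* F₂) (e₂ : E₁ ≃+* E₂)
    (he : (algebraMap F₂ E₂).comp (e₁ : F₁ →+* F₂) = (e₂ : E₁ →+* E₂).comp (algebraMap F₁ E₁))
    [IsPurelyInseparable F₁ E₁] : IsPurelyInseparable F₂ E₂ := by
  obtain ⟨q, hq⟩ := ExpChar.exists F₁
  haveI := hq
  haveI : ExpChar F₂ q := expChar_of_injective_ringHom (e₁ : F₁ →+* F₂).injective q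
  rw [isPurelyInseparable_iff_pow_mem F₂ q]
  intro x
  obtain ⟨n, y, hy⟩ := (isPurelyInseparable_iff_pow_mem F₁ q).1 inferInstance (e₂.symm x)
  refine ⟨n, e₁ y, ?_⟩
  have := congrArg (fun ψ => ψ y) he
  simp only [RingHom.comp_apply, RingHom.coe_coe] at this
  rw [this, hy, map_pow, RingEquiv.apply_symm_apply]

end Transfer

end Part2

section Part3

open CategoryTheory CategoryTheory.Limits AlgebraicGeometry TopologicalSpace
open Groth.Agent.Lib.R2H1.NormPush Groth.Agent.Lib.R2H1.FrobTwist Groth.Agent.Lib.R2H1.CurveDeg
open Groth.Agent.Lib.R2H1.NormCompl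


attribute [local instance] Curv2.stalkAlgebra

section A

variable (K : Type u) [Field K] (X Y : Scheme.{u}) [X.Over (Spec (CommRingCat.of K))]
  [Y.Over (Spec (CommRingCat.of K))] [IsIntegral X] [IsIntegral Y]
  [IsProper (X ↘ Spec (CommRingCat.of K))] [IsProper (Y ↘ Spec (CommRingCat.of K))]
  [Smooth (X ↘ Spec (CommRingCat.of K))]

set_option maxHeartbeats 1600000 in
/-- a finite morphism from a smooth proper curve factors, up to a Frobenius twist of the source,
through a generically étale finite morphism -/
theorem exists_separable_model (hdX : topologicalKrullDim X = 1) (hdY : topologicalKrullDim Y = 1)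
    (f : X ⟶ Y) [IsFinite f]
    (hf : f ≫ (Y ↘ Spec (CommRingCat.of K)) = X ↘ Spec (CommRingCat.of K)) :
    ∃ (Z : Scheme.{u}) (_ : Z.Over (Spec (CommRingCat.of K))) (_ : IsIntegral Z)
      (_ : IsProper (Z ↘ Spec (CommRingCat.of K))) (_ : Smooth (Z ↘ Spec (CommRingCat.of K))),
      topologicalKrullDim Z = 1 ∧
      (∀ q : ℕ, Module.finrank K (Coh.HH Z (Coh.structureModule Z) q) =
        Module.finrank K (Coh.HH X (Coh.structureModule X) q)) ∧
      ∃ (g : Z ⟶ Y) (_ : IsFinite g) (e : g (genericPoint Z) = genericPoint Y),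
        g ≫ (Y ↘ Spec (CommRingCat.of K)) = Z ↘ Spec (CommRingCat.of K) ∧
        (letI := (ffMap g e).toAlgebra
         Algebra.IsSeparable Y.functionField Z.functionField) := by
  classical
  obtain ⟨p, hp⟩ := ExpChar.exists K
  haveI := hp
  have e := map_genericPoint_of_isFinite K hdX hdY f hf
  letI aLM : Algebra Y.functionField X.functionField := (ffMap f e).toAlgebra
  haveI : IsScalarTower K Y.functionField X.functionField := by
    refine IsScalarTower.of_algebraMap_eq (fun c => ?_)
    change _ = (f.stalkMap (genericPoint X)).hom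
      ((Y.presheaf.stalkSpecializes (specializes_of_eq e)).hom
        (algebraMap K (Y.presheaf.stalk (genericPoint Y)) c))
    rw [stalkSpecializes_algebraMap_apply, stalkMap_algebraMap_apply K f hf]
  haveI : FiniteDimensional Y.functionField X.functionField :=
    finiteDimensional_ff f e
      (Groth.Agent.Lib.Helper20.ResFld.finite_residueFieldMap_of_quasiFiniteAt f _
        (f.quasiFiniteAt _))
  haveI := essFiniteType_functionField K Y
  have htrY := trdeg_functionField K Y hdY
  obtain ⟨hfg, htr⟩ := sepClosure_facts K Y.functionField X.functionField htrY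
  obtain ⟨Z, hZo, hZi, hZp, hZn, hZc, eZ, heZ⟩ :=
    Groth.Agent.S2345.result K (separableClosure Y.functionField X.functionField) hfg htr
  have hdZ : topologicalKrullDim Z = 1 := dim_eq_one_of_hcurve K Z hZc
  have hcurveX : ∀ x : X, IsClosed ({x} : Set X) → ringKrullDim (X.presheaf.stalk x) = 1 :=
    fun x hx => Groth.Agent.Lib.Helper8CurveEt.ringKrullDim_stalk_eq_one hdX x hx
  have hnormX := Groth.Agent.Lib.R2H1.SmoothCompl.isNormalScheme_of_smooth K X
    (X ↘ Spec (CommRingCat.of K))
  -- the morphism X ⟶ Z
  let e1 : Z.functionField →+* X.functionField :=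
    (algebraMap (separableClosure Y.functionField X.functionField) X.functionField).comp
      (eZ : Z.presheaf.stalk (genericPoint Z) →+* _)
  have he1 : ∀ c : K, e1 (algebraMap K (Z.presheaf.stalk (genericPoint Z)) c) =
      algebraMap K (X.presheaf.stalk (genericPoint X)) c := by
    intro c
    change algebraMap (separableClosure Y.functionField X.functionField) X.functionField
      (eZ (algebraMap K (Z.presheaf.stalk (genericPoint Z)) c)) = _
    rw [heZ c]
    rfl
  obtain ⟨j1, hj1, hj1g⟩ := exists_hom_of_functionField_hom K X Z hcurveX hnormX e1 he1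
  obtain ⟨h1, hff1⟩ := ffMap_eq_of_fromSpecStalk j1 e1 hj1g
  haveI : Algebra.IsAlgebraic Y.functionField X.functionField := inferInstance
  have hpi : letI := (ffMap j1 h1).toAlgebra
      IsPurelyInseparable Z.functionField X.functionField := by
    letI := (ffMap j1 h1).toAlgebra
    refine isPurelyInseparable_of_equiv_equiv
      (F₁ := separableClosure Y.functionField X.functionField) (E₁ := X.functionField)
      eZ.symm (RingEquiv.refl _) ?_
    ext z
    change ffMap j1 h1 (eZ.symm z) = algebraMap _ X.functionField z
    rw [hff1]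
    change algebraMap _ X.functionField (eZ (eZ.symm z)) = _
    rw [RingEquiv.apply_symm_apply]
  obtain ⟨r, i, hi⟩ := main K p X Z hdX hdZ hZn j1 hj1 h1 hpi
  have hsm := Groth.Agent.Lib.R2H1.FrobTwist2.smooth_of_iso_twist K p r X i hi
  have hcoh := Groth.Agent.Lib.R2H1.FrobTwist2.finrank_HH_structure_of_iso_twist K p r X i hi
  refine ⟨Z, hZo, hZi, hZp, hsm, hdZ, hcoh, ?_⟩
  -- the morphism Z ⟶ Y
  let e2 : Y.functionField →+* Z.functionField :=
    (eZ.symm : _ →+* Z.presheaf.stalk (genericPoint Z)).comp
      (algebraMap Y.functionField (separableClosure Y.functionField X.functionField))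
  have he2 : ∀ c : K, e2 (algebraMap K (Y.presheaf.stalk (genericPoint Y)) c) =
      algebraMap K (Z.presheaf.stalk (genericPoint Z)) c := by
    intro c
    change eZ.symm (algebraMap Y.functionField (separableClosure Y.functionField X.functionField)
      (algebraMap K (Y.presheaf.stalk (genericPoint Y)) c)) = _
    rw [RingEquiv.symm_apply_eq, heZ c]
    exact (IsScalarTower.algebraMap_apply K Y.functionField
      (separableClosure Y.functionField X.functionField) c).symm
  obtain ⟨j2, hj2, hj2g⟩ := exists_hom_of_functionField_hom K Z Y hZc hZn e2 he2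
  obtain ⟨h2, hff2⟩ := ffMap_eq_of_fromSpecStalk j2 e2 hj2g
  haveI hfin2 : IsFinite j2 := isFinite_of_generic K hdZ hdY j2 hj2 h2
  refine ⟨j2, hfin2, h2, hj2, ?_⟩
  letI := (ffMap j2 h2).toAlgebra
  refine Algebra.IsSeparable.of_equiv_equiv
    (A₁ := Y.functionField) (B₁ := separableClosure Y.functionField X.functionField)
    (RingEquiv.refl _) eZ.symm ?_
  ext z
  change ffMap j2 h2 z = eZ.symm (algebraMap Y.functionField _ z)
  rw [hff2]
  rfl

end A

end Part3

section Part4

open CategoryTheory CategoryTheory.Limits AlgebraicGeometry TopologicalSpace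
open Groth.Agent.Lib.R2H1.NormPush


section A

variable (K : Type u) [Field K] [IsAlgClosed K] (X Y : Scheme.{u})
  [X.Over (Spec (CommRingCat.of K))]
  [Y.Over (Spec (CommRingCat.of K))] [IsIntegral X] [IsIntegral Y]
  [IsProper (X ↘ Spec (CommRingCat.of K))] [IsProper (Y ↘ Spec (CommRingCat.of K))]
  [Smooth (X ↘ Spec (CommRingCat.of K))] [Smooth (Y ↘ Spec (CommRingCat.of K))]

/-- the genus does not increase along a finite morphism of smooth proper curves over an
algebraically closed field -/
theorem genus_le_of_isFinite_algClosed (hdX : topologicalKrullDim X = 1)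
    (hdY : topologicalKrullDim Y = 1) (f : X ⟶ Y) [IsFinite f]
    (hf : f ≫ (Y ↘ Spec (CommRingCat.of K)) = X ↘ Spec (CommRingCat.of K)) :
    Curv2.genus K Y ≤ Curv2.genus K X := by
  obtain ⟨Z, hZo, hZi, hZp, hZs, hdZ, hcoh, g, hgf, e, hg, hsep⟩ :=
    exists_separable_model K X Y hdX hdY f hf
  have hregZ : ∀ z : Z, IsRegularLocalRing (Z.presheaf.stalk z) := fun z =>
    Groth.Agent.Lib.Helper6.SmRegSch.isRegularLocalRing_stalk_of_smooth_over_field K Z
      (Z ↘ Spec (CommRingCat.of K)) z
  have hregY : ∀ y : Y, IsRegularLocalRing (Y.presheaf.stalk y) := fun y =>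
    Groth.Agent.Lib.Helper6.SmRegSch.isRegularLocalRing_stalk_of_smooth_over_field K Y
      (Y ↘ Spec (CommRingCat.of K)) y
  have hrh := Groth.Agent.Lib.R2H1.RiemannHurwitz.riemann_hurwitz K Z Y hdZ hregZ hdY hregY g hg e
    hsep
  have hpos : 0 < g.residueDegree (genericPoint Z) := by
    have hfin := Groth.Agent.Lib.Helper20.ResFld.finite_residueFieldMap_of_quasiFiniteAt g
      (genericPoint Z) (g.quasiFiniteAt _)
    unfold Scheme.Hom.residueDegree
    letI := (g.residueFieldMap (genericPoint Z)).hom.toAlgebra
    haveI : Module.Finite (Y.residueField (g.base (genericPoint Z)))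
        (Z.residueField (genericPoint Z)) := hfin
    exact Module.finrank_pos
  have hgZ : Curv2.genus K Z = Curv2.genus K X := hcoh 1
  rw [← hgZ]
  by_contra hlt
  push_neg at hlt
  have h1 : (1 : ℤ) ≤ (g.residueDegree (genericPoint Z) : ℤ) := by exact_mod_cast hpos
  have h2 : (0 : ℤ) ≤ (Module.finrank K (Coh.HH Z (Omega.sheaf g) 0) : ℤ) := Int.natCast_nonneg _
  have h3 : (Curv2.genus K Z : ℤ) + 1 ≤ (Curv2.genus K Y : ℤ) := by exact_mod_cast hlt
  have h4 : (0 : ℤ) ≤ 2 * (Curv2.genus K Y : ℤ) - 2 := by
    have : (0 : ℤ) ≤ (Curv2.genus K Z : ℤ) := Int.natCast_nonneg _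
    linarith
  nlinarith

end A

end Part4

section Part5

open CategoryTheory CategoryTheory.Limits AlgebraicGeometry TopologicalSpace
open Groth.Agent.Lib.R2H1.CurveBC


section B

variable (k : Type u) [Field k] (X Y : Scheme.{u})
  [X.Over (Spec (CommRingCat.of k))] [Y.Over (Spec (CommRingCat.of k))]
  [IsProper (X ↘ Spec (CommRingCat.of k))] [IsProper (Y ↘ Spec (CommRingCat.of k))]
  [Smooth (X ↘ Spec (CommRingCat.of k))] [Smooth (Y ↘ Spec (CommRingCat.of k))]
  [GeometricallyConnected (X ↘ Spec (CommRingCat.of k))]
  [GeometricallyConnected (Y ↘ Spec (CommRingCat.of k))]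

attribute [local instance] bcOver

/-- the genus does not increase along a finite morphism of smooth proper geometrically connected
curves -/
theorem genus_le_of_isFinite (hdX : topologicalKrullDim X = 1)
    (hdY : topologicalKrullDim Y = 1) (f : X ⟶ Y) [IsFinite f]
    (hf : f ≫ (Y ↘ Spec (CommRingCat.of k)) = X ↘ Spec (CommRingCat.of k)) :
    Curv2.genus k Y ≤ Curv2.genus k X := by
  rw [← genus_bc k X (AlgebraicClosure k), ← genus_bc k Y (AlgebraicClosure k)]
  haveI := isIntegral_bc k X (AlgebraicClosure k)
  haveI := isIntegral_bc k Y (AlgebraicClosure k)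
  have hdXK : topologicalKrullDim (Curv2.bc k X (AlgebraicClosure k)) = 1 :=
    (dim_bc k X (AlgebraicClosure k)).trans hdX
  have hdYK : topologicalKrullDim (Curv2.bc k Y (AlgebraicClosure k)) = 1 :=
    (dim_bc k Y (AlgebraicClosure k)).trans hdY
  have hfin : IsFinite (pullback.map (X ↘ Spec (CommRingCat.of k))
      (Spec.map (CommRingCat.ofHom (algebraMap k (AlgebraicClosure k))))
      (Y ↘ Spec (CommRingCat.of k))
      (Spec.map (CommRingCat.ofHom (algebraMap k (AlgebraicClosure k)))) f (𝟙 _) (𝟙 _)
      ((Category.comp_id _).trans hf.symm) ((Category.comp_id _).trans (Category.id_comp _).symm)) :=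
    MorphismProperty.pullbackMap (P := @IsFinite) (inferInstance : IsFinite f)
      (inferInstance : IsFinite (𝟙 _)) hf.symm (Category.id_comp _).symm
  haveI := hfin
  refine genus_le_of_isFinite_algClosed (AlgebraicClosure k) _ _ hdXK hdYK
    (pullback.map (X ↘ Spec (CommRingCat.of k))
      (Spec.map (CommRingCat.ofHom (algebraMap k (AlgebraicClosure k))))
      (Y ↘ Spec (CommRingCat.of k))
      (Spec.map (CommRingCat.ofHom (algebraMap k (AlgebraicClosure k)))) f (𝟙 _) (𝟙 _)
      ((Category.comp_id _).trans hf.symm) ((Category.comp_id _).trans (Category.id_comp _).symm))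
    ?_
  change pullback.map _ _ _ _ _ _ _ _ _ ≫ pullback.snd _ _ = pullback.snd _ _
  rw [pullback.lift_snd, Category.comp_id]

end B

end Part5

end Groth.Agent.Lib.R2H1.GenusFinite
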