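import Mathlib
import Groth.Prelude
import Groth.Agent.Lib.R2H1GenusFinite
import Groth.Agent.Lib.R2H1IsoP1
import Groth.Agent.Lib.R2H1DblCoverFF
set_option backward.isDefEq.respectTransparency.types false

/-!
Lueroth for curves: a connected normal curve dominated by the projective line is the projective line. isIntegral_of_normal_of_connected, map_genericPoint_of_nonconstant, surjective_of_dominant, isProper_of_dominant, chartEquiv (k[T] = chart ring of P^1), exists_ratFunc_equiv (function field of a k-scheme with an affine-line chart), exists_ratFunc_equiv_P1, luroth_equiv, iso_P1_of_nonconstant.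
-/

set_option autoImplicit false
set_option linter.style.haveILetI false
set_option linter.unusedSectionVars false
universe u v

open CategoryTheory CategoryTheory.Limits AlgebraicGeometry TopologicalSpace Opposite

namespace Groth.Agent.Lib.R2H1.LurothCurve

section Part1

open CategoryTheory CategoryTheory.Limits AlgebraicGeometry TopologicalSpace

section A

/-- a connected locally noetherian quasi-compact scheme with normal local rings is integral -/
theorem isIntegral_of_normal_of_connected (X : Scheme.{u}) [IsLocallyNoetherian X]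
    [CompactSpace X] [ConnectedSpace X] (hN : Pi1.IsNormalScheme X) : IsIntegral X := by
  have hdom : ∀ z : X, IsDomain (X.presheaf.stalk z) := fun z => (hN z).1
  haveI : IsReduced X := by
    refine @isReduced_of_isReduced_stalk X ?_
    intro x
    haveI := hdom x
    infer_instance
  haveI : IsNoetherian X := {}
  have hfin : (irreducibleComponents X).Finite :=
    TopologicalSpace.NoetherianSpace.finite_irreducibleComponents
  haveI := Groth.Agent.Lib.Helper4.EtNormalSch.irreducibleSpace_of_connected hdom hfin
  exact isIntegral_of_irreducibleSpace_of_isReduced X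

end A

section B

variable (k : Type u) [Field k] {P X : Scheme.{u}} [X.Over (Spec (CommRingCat.of k))]
  [IsIntegral X] [IsIntegral P] [LocallyOfFiniteType (X ↘ Spec (CommRingCat.of k))]

include k in
/-- a nonconstant morphism from an integral scheme to an integral curve is dominant -/
theorem map_genericPoint_of_nonconstant (hdim : topologicalKrullDim X = 1) (f : P ⟶ X)
    (hnc : ∃ a b : P, f a ≠ f b) : f (genericPoint P) = genericPoint X := by
  by_contra hne
  have hcl := Groth.Agent.Lib.R2H1.CurveDeg.isClosed_of_ne_generic k X hdim _ hne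
  have hconst : ∀ a : P, f a = f (genericPoint P) := by
    intro a
    have h1 : genericPoint P ⤳ a := (genericPoint_spec P).specializes trivial
    have h2 : f (genericPoint P) ⤳ f a := f.base.hom.map_specializes h1
    have h3 : f a ∈ closure ({f (genericPoint P)} : Set X) := h2.mem_closure
    rw [hcl.closure_eq] at h3
    exact h3
  obtain ⟨a, b, hab⟩ := hnc
  exact hab ((hconst a).trans (hconst b).symm)

end B

section C

variable (k : Type u) [Field k] {P X : Scheme.{u}} [X.Over (Spec (CommRingCat.of k))]
  [P.Over (Spec (CommRingCat.of k))]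
  [IsIntegral X] [IsIntegral P] [IsProper (P ↘ Spec (CommRingCat.of k))]
  [IsSeparated (X ↘ Spec (CommRingCat.of k))]
  [LocallyOfFiniteType (X ↘ Spec (CommRingCat.of k))]

/-- a dominant morphism from a proper scheme is surjective -/
theorem surjective_of_dominant (f : P ⟶ X)
    (hf : f ≫ (X ↘ Spec (CommRingCat.of k)) = P ↘ Spec (CommRingCat.of k))
    (hgen : f (genericPoint P) = genericPoint X) : Surjective f := by
  haveI := Groth.Agent.Lib.R2H1.FrobTwist.isProper_of_over k f hf
  constructor
  have hcl : IsClosed (Set.range f) := f.isClosedMap.isClosed_range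
  have : Set.range f = Set.univ := by
    rw [← hcl.closure_eq]
    apply Set.eq_univ_of_univ_subset
    have h1 : closure ({genericPoint X} : Set X) = Set.univ := (genericPoint_spec _).def
    rw [← h1]
    exact closure_mono (Set.singleton_subset_iff.mpr ⟨genericPoint P, hgen⟩)
  exact Set.range_eq_univ.mp this

/-- the target of a dominant morphism from a proper scheme is proper -/
theorem isProper_of_dominant [QuasiCompact (X ↘ Spec (CommRingCat.of k))] (f : P ⟶ X)
    (hf : f ≫ (X ↘ Spec (CommRingCat.of k)) = P ↘ Spec (CommRingCat.of k))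
    (hgen : f (genericPoint P) = genericPoint X) : IsProper (X ↘ Spec (CommRingCat.of k)) := by
  haveI := surjective_of_dominant k f hf hgen
  haveI : UniversallyClosed (f ≫ (X ↘ Spec (CommRingCat.of k))) := by rw [hf]; infer_instance
  haveI : UniversallyClosed (X ↘ Spec (CommRingCat.of k)) :=
    UniversallyClosed.of_comp_surjective f _
  exact {}

end C

end Part1

section Part2

open CategoryTheory CategoryTheory.Limits AlgebraicGeometry TopologicalSpace
open Groth.Agent.Lib.R2H1.DblCoverGeom Groth.Agent.Lib.R2H1.PlaneChart Groth.Agent.Lib.R2H1.PicPn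
open Groth.Agent.Helper13Dehom

section A

variable (k : Type u) [Field k]

theorem π₀_aeval (q : MvPolynomial (Fin 1) k) :
    π₀ (MvPolynomial.aeval (fun _ : Fin 1 => (Polynomial.X : Polynomial k)) q) = θ' 1 k 0 q := by
  induction q using MvPolynomial.induction_on with
  | C c =>
    rw [MvPolynomial.aeval_C, ← Polynomial.C_eq_algebraMap, π₀_C, θ'_C]
    rfl
  | add p q hp hq => rw [map_add, map_add, map_add, hp, hq]
  | mul_X p j hp =>
    rw [map_mul, map_mul, map_mul, hp, MvPolynomial.aeval_X, π₀_X, θ'_X]
    congr 2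
    fin_cases j
    rfl

theorem π₀_injective : Function.Injective (π₀ (k := k)) := by
  rw [injective_iff_map_eq_zero]
  intro p hp
  have h1 : MvPolynomial.aeval (fun _ : Fin 1 => (Polynomial.X : Polynomial k))
      (Polynomial.aeval (MvPolynomial.X 0 : MvPolynomial (Fin 1) k) p) = p := by
    rw [← Polynomial.aeval_algHom_apply, MvPolynomial.aeval_X, Polynomial.aeval_X_left_apply]
  have h2 := π₀_aeval k (Polynomial.aeval (MvPolynomial.X 0 : MvPolynomial (Fin 1) k) p)
  rw [h1, hp] at h2
  have h3 : Polynomial.aeval (MvPolynomial.X 0 : MvPolynomial (Fin 1) k) p = 0 := by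
    apply (θ'_bijective 1 k 0).1
    rw [← h2, map_zero]
  rw [← h1, h3, map_zero]

/-- the coordinate ring of the standard chart of the projective line -/
noncomputable def chartEquiv : Polynomial k ≃+* Γ(Proj (CohB1.polyGrading 1 k),
    Proj.basicOpen (CohB1.polyGrading 1 k) (MvPolynomial.X 0)) :=
  RingEquiv.ofBijective π₀ ⟨π₀_injective k, π₀_surjective⟩

theorem chartEquiv_apply (p : Polynomial k) : chartEquiv k p = π₀ p := rfl

end A

section B

variable (k : Type u) [Field k]

attribute [local instance] Curv2.stalkAlgebra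

/-- constants in the chart ring of the projective line -/
theorem π₀_C_eq (c : k) :
    (π₀ (Polynomial.C c) : Γ(Proj (CohB1.polyGrading 1 k),
      Proj.basicOpen (CohB1.polyGrading 1 k) (MvPolynomial.X 0))) =
      Groth.Agent.Lib.Helper6.resf (le_top : Proj.basicOpen (CohB1.polyGrading 1 k) (MvPolynomial.X 0) ≤ ⊤)
        (Coh.toGlobal (CohB1.ProjSpace.toSpec 1 k) c) := by
  rw [π₀_C]
  have h := appLE_dehom_algebraMap (𝟙 (Proj (CohB1.polyGrading 1 k))) (hT (k := k) 0)
    (CohB1.ProjSpace.toSpec 1 k) (Category.id_comp _)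
    (le_rfl : VV (𝟙 (Proj (CohB1.polyGrading 1 k))) (MvPolynomial.X 0) ≤ _) c
  rw [Scheme.Hom.appLE_eq_app] at h
  exact h

end B

section C

variable (k : Type u) [Field k] (P : Scheme.{u}) [P.Over (Spec (CommRingCat.of k))] [IsIntegral P]

attribute [local instance] Curv2.stalkAlgebra

/-- an integral `k`-scheme with an affine open isomorphic to the affine line has function field
`k(T)` -/
theorem exists_ratFunc_equiv (V : P.Opens) (hV : IsAffineOpen V) [Nonempty V]
    (φ : Polynomial k ≃+* Γ(P, V))
    (hφ : ∀ c : k, φ (Polynomial.C c) = Groth.Agent.Lib.Helper6.resf (le_top : V ≤ ⊤)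
      (Coh.toGlobal (P ↘ Spec (CommRingCat.of k)) c)) :
    ∃ ι : RatFunc k ≃+* P.functionField, ∀ c : k, ι (algebraMap k (RatFunc k) c) =
      algebraMap k (P.presheaf.stalk (genericPoint P)) c := by
  haveI := functionField_isFractionRing_of_isAffineOpen P V hV
  refine ⟨IsFractionRing.ringEquivOfRingEquiv (K := RatFunc k) (L := P.functionField) φ, ?_⟩
  intro c
  have h1 : algebraMap k (RatFunc k) c = algebraMap (Polynomial k) (RatFunc k) (Polynomial.C c) := by
    rw [IsScalarTower.algebraMap_apply k (Polynomial k) (RatFunc k), Polynomial.C_eq_algebraMap]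
  rw [h1, IsFractionRing.ringEquivOfRingEquiv_algebraMap, hφ]
  exact TopCat.Presheaf.germ_res_apply P.presheaf (homOfLE le_top) (genericPoint P) _ _

end C

section D

variable (k : Type u) [Field k]

attribute [local instance] Curv2.stalkAlgebra

/-- the function field of the projective line -/
theorem exists_ratFunc_equiv_P1 [IsIntegral (CohB1.ProjSpace 1 k)] :
    ∃ ι : RatFunc k ≃+* (CohB1.ProjSpace 1 k).functionField, ∀ c : k,
      ι (algebraMap k (RatFunc k) c) =
        algebraMap k ((CohB1.ProjSpace 1 k).presheaf.stalk (genericPoint (CohB1.ProjSpace 1 k))) c := by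
  let V : (CohB1.ProjSpace 1 k).Opens :=
    Proj.basicOpen (CohB1.polyGrading 1 k) (MvPolynomial.X 0 : MvPolynomial (Fin (1 + 1)) k)
  have hV : IsAffineOpen V := Groth.Agent.Helper13ProjUP.isAffineOpen_basicOpen (hT (k := k) 0)
  haveI : Nonempty V := nonempty_U 1 k 0
  exact exists_ratFunc_equiv k (CohB1.ProjSpace 1 k) V hV (chartEquiv k) (fun c => π₀_C_eq k c)

end D

end Part2

section Part3

section E

variable (k : Type u) [Field k] (F K : Type u) [Field F] [Field K] [Algebra k F] [Algebra k K]

/-- Lüroth: a subfield of transcendence degree one of a field of rational functions in one variable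
is itself a field of rational functions -/
theorem luroth_equiv (ι : RatFunc k ≃+* K)
    (hι : ∀ c : k, ι (algebraMap k (RatFunc k) c) = algebraMap k K c)
    (ρ : F →+* K) (hρ : ∀ c : k, ρ (algebraMap k F c) = algebraMap k K c)
    (htr : Algebra.trdeg k F = 1) :
    ∃ θ : K ≃+* F, ∀ c : k, θ (algebraMap k K c) = algebraMap k F c := by
  let ρ' : F →ₐ[k] RatFunc k :=
    { (ι.symm : K →+* RatFunc k).comp ρ with
      commutes' := fun c => by
        change ι.symm (ρ (algebraMap k F c)) = _
        rw [hρ, RingEquiv.symm_apply_eq, hι] }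
  have hE : ρ'.fieldRange ≠ ⊥ := by
    intro h
    have hall : ∀ x : F, ∃ c : k, algebraMap k F c = x := by
      intro x
      have hx : ρ' x ∈ ρ'.fieldRange := ⟨x, rfl⟩
      rw [h, IntermediateField.mem_bot] at hx
      obtain ⟨c, hc⟩ := hx
      refine ⟨c, ρ'.toRingHom.injective ?_⟩
      change ρ' (algebraMap k F c) = ρ' x
      rw [AlgHom.commutes, hc]
    haveI : Algebra.IsAlgebraic k F := ⟨fun x => by
      obtain ⟨c, rfl⟩ := hall x
      exact isAlgebraic_algebraMap c⟩
    rw [_root_.trdeg_eq_zero (R := k) (A := F)] at htr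
    exact zero_ne_one htr
  let e1 : RatFunc k ≃ₐ[k] ρ'.fieldRange := RatFunc.Luroth.algEquiv hE
  let e2 : F ≃ₐ[k] ρ'.fieldRange := AlgEquiv.ofInjectiveField ρ'
  let e3 : RatFunc k ≃ₐ[k] F := e1.trans e2.symm
  refine ⟨ι.symm.trans e3.toRingEquiv, ?_⟩
  intro c
  change e3 (ι.symm (algebraMap k K c)) = _
  have : ι.symm (algebraMap k K c) = algebraMap k (RatFunc k) c := by
    rw [RingEquiv.symm_apply_eq, hι]
  rw [this, AlgEquiv.commutes]

end E

end Part3

section Part4

open CategoryTheory CategoryTheory.Limits AlgebraicGeometry TopologicalSpace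
open Groth.Agent.Lib.R2H1.NormPush Groth.Agent.Lib.R2H1.FrobTwist Groth.Agent.Lib.R2H1.CurveDeg
open Groth.Agent.Lib.R2H1.NormCompl Groth.Agent.Lib.R2H1.GenusFinite Groth.Agent.Lib.R2H1.IsoP1


attribute [local instance] Curv2.stalkAlgebra

section F

variable (k : Type u) [Field k] (X : Scheme.{u}) [X.Over (Spec (CommRingCat.of k))]
  [IsSeparated (X ↘ Spec (CommRingCat.of k))] [LocallyOfFiniteType (X ↘ Spec (CommRingCat.of k))]
  [QuasiCompact (X ↘ Spec (CommRingCat.of k))] [ConnectedSpace X]

/-- Lüroth's theorem for curves: a normal curve dominated by the projective line is the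
projective line -/
theorem iso_P1_of_nonconstant (hN : Pi1.IsNormalScheme X) (hdim : topologicalKrullDim X = 1)
    (f : CohB1.ProjSpace 1 k ⟶ X)
    (hf : f ≫ (X ↘ Spec (CommRingCat.of k)) = CohB1.ProjSpace.toSpec 1 k)
    (hnc : ∃ a b : ↥(CohB1.ProjSpace 1 k), f a ≠ f b) :
    ∃ e : X ≅ CohB1.ProjSpace 1 k,
      e.hom ≫ CohB1.ProjSpace.toSpec 1 k = X ↘ Spec (CommRingCat.of k) := by
  haveI : IsLocallyNoetherian X :=
    LocallyOfFiniteType.isLocallyNoetherian (X ↘ Spec (CommRingCat.of k))
  haveI : CompactSpace X :=
    QuasiCompact.compactSpace_of_compactSpace (X ↘ Spec (CommRingCat.of k))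
  haveI := isIntegral_of_normal_of_connected X hN
  haveI := isIntegral_P1k k
  haveI := isProper_P1k k
  have hgen := map_genericPoint_of_nonconstant k hdim f hnc
  haveI := isProper_of_dominant k f hf hgen
  obtain ⟨ι, hι⟩ := exists_ratFunc_equiv_P1 k
  have hρ : ∀ c : k, ffMap f hgen (algebraMap k (X.presheaf.stalk (genericPoint X)) c) =
      algebraMap k ((CohB1.ProjSpace 1 k).presheaf.stalk (genericPoint (CohB1.ProjSpace 1 k))) c := by
    intro c
    change (f.stalkMap (genericPoint (CohB1.ProjSpace 1 k))).hom
      ((X.presheaf.stalkSpecializes (specializes_of_eq hgen)).hom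
        (algebraMap k (X.presheaf.stalk (genericPoint X)) c)) = _
    rw [stalkSpecializes_algebraMap_apply, stalkMap_algebraMap_apply k f hf]
  obtain ⟨θ, hθ⟩ := luroth_equiv k X.functionField (CohB1.ProjSpace 1 k).functionField ι hι
    (ffMap f hgen) hρ (trdeg_functionField k X hdim)
  have hcurveX : ∀ x : X, IsClosed ({x} : Set X) → ringKrullDim (X.presheaf.stalk x) = 1 :=
    fun x hx => Groth.Agent.Lib.Helper8CurveEt.ringKrullDim_stalk_eq_one hdim x hx
  obtain ⟨j, hj, hjg⟩ := exists_hom_of_functionField_hom k X (CohB1.ProjSpace 1 k) hcurveX hN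
    (θ : (CohB1.ProjSpace 1 k).functionField →+* X.functionField) hθ
  obtain ⟨h1, hff⟩ := ffMap_eq_of_fromSpecStalk j
    (θ : (CohB1.ProjSpace 1 k).functionField →+* X.functionField) hjg
  haveI : IsFinite j := isFinite_of_generic k hdim (dim_P1k k) j hj h1
  haveI : Surjective j := surjective_of_dominant k j hj h1
  have hbij : Function.Bijective (ffMap j h1) := by
    rw [hff]
    exact θ.bijective
  haveI hsp : IsIso ((CohB1.ProjSpace 1 k).presheaf.stalkSpecializes (specializes_of_eq h1)) :=
    ((CohB1.ProjSpace 1 k).presheaf.stalkCongr (Inseparable.of_eq h1.symm)).isIso_hom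
  have hcomp : IsIso ((CohB1.ProjSpace 1 k).presheaf.stalkSpecializes (specializes_of_eq h1) ≫
      j.stalkMap (genericPoint X)) := (ConcreteCategory.isIso_iff_bijective _).mpr hbij
  have hiso : IsIso (j.stalkMap (genericPoint X)) := IsIso.of_isIso_comp_left
    ((CohB1.ProjSpace 1 k).presheaf.stalkSpecializes (specializes_of_eq h1)) _
  haveI := Groth.Agent.Lib.R2H4.BirIso.isIso_of_finite_birational_normal j
    (isNormalScheme_P1k k) hiso
  exact ⟨asIso j, hj⟩

end F

end Part4

end Groth.Agent.Lib.R2H1.LurothCurve
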