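import Mathlib
import Groth.Agent.Lib.H9CurveFamNormal
import Groth.Agent.Lib.R2H1LurothCurve
import Groth.Agent.Lib.Helper4NormIsoDense
import Groth.Agent.Lib.H9FibrBirB

set_option autoImplicit false
set_option linter.style.haveILetI false
universe u

namespace Groth.Agent.Lib.H9CurveFamBir

open CategoryTheory CategoryTheory.Limits AlgebraicGeometry TopologicalSpace

/-- a closed surjective morphism with connected fibres over a connected base has connected source -/
theorem connectedSpace_of_fibres {C S : Scheme.{u}} (f : C ⟶ S) [ConnectedSpace S]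
    (hcl : IsClosedMap f.base) (hsurj : Function.Surjective f.base)
    (hfib : ∀ s : S, ConnectedSpace (f.fiber s)) : ConnectedSpace C := by
  have hq : Topology.IsQuotientMap f.base := hcl.isQuotientMap f.continuous hsurj
  have hfc : ∀ s : S, _root_.IsConnected (f.base ⁻¹' {s}) := by
    intro s
    haveI := hfib s
    rw [← Scheme.Hom.range_fiberι]
    exact isConnected_range (f.fiberι s).continuous
  obtain ⟨s⟩ := (inferInstance : Nonempty S)
  obtain ⟨c, hc⟩ := hsurj s
  refine connectedSpace_iff_connectedComponent.mpr ⟨c, ?_⟩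
  rw [← hq.isCoinducing.preimage_connectedComponent hfc c, PreconnectedSpace.connectedComponent_eq_univ,
    Set.preimage_univ]

/-- the total space of a flat proper family of geometrically reduced, geometrically connected
curves with smooth generic fibre over a normal integral Noetherian base is integral and normal -/
theorem isIntegral_and_normal (S C : Scheme.{u}) [IsIntegral S] [IsNoetherian S]
    (hS : Pi1.IsNormalScheme S) (f : C ⟶ S) [Flat f] [IsProper f] [LocallyOfFinitePresentation f]
    [GeometricallyReduced f] [GeometricallyConnected f]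
    (hdim : ∀ s : ↥S, topologicalKrullDim ↥(f.fiber s) = 1)
    (hsm : Smooth (f.fiberToSpecResidueField (genericPoint ↥S))) :
    IsIntegral C ∧ Pi1.IsNormalScheme C := by
  have hN := Groth.Agent.Lib.H9CurveFamNormal.main S C hS f hdim hsm
  haveI : IsLocallyNoetherian C := LocallyOfFiniteType.isLocallyNoetherian f
  haveI : CompactSpace C := QuasiCompact.compactSpace_of_compactSpace f
  have hsurj : Function.Surjective f.base := by
    intro s
    have hne : Nonempty ↥(f.fiber s) := by
      by_contra hemp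
      rw [not_nonempty_iff] at hemp
      haveI : IsEmpty (IrreducibleCloseds ↥(f.fiber s)) :=
        ⟨fun Z => hemp.elim Z.isIrreducible'.nonempty.some⟩
      have h1 := hdim s
      unfold topologicalKrullDim at h1
      rw [Order.krullDim_eq_bot] at h1
      exact absurd h1 (by simp)
    obtain ⟨z⟩ := hne
    refine ⟨f.fiberι s z, ?_⟩
    have h2 : f.fiberι s z ∈ Set.range (f.fiberι s) := ⟨z, rfl⟩
    rw [Scheme.Hom.range_fiberι] at h2
    exact h2
  haveI : ConnectedSpace C :=
    connectedSpace_of_fibres f f.isClosedMap hsurj (fun s => inferInstance)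
  exact ⟨Groth.Agent.Lib.R2H1.LurothCurve.isIntegral_of_normal_of_connected C hN, hN⟩

/-- **S18353**: a birational morphism between two such families induces `O = φ_* O`. -/
theorem main (S C₁ C₂ : Scheme.{u}) [IsIntegral S]
    [IsNoetherian S] (hS : Pi1.IsNormalScheme S) (f₁ : C₁ ⟶ S) (f₂ : C₂ ⟶ S)
    [Flat f₁] [IsProper f₁] [LocallyOfFinitePresentation f₁] [GeometricallyReduced f₁]
    [GeometricallyConnected f₁]
    [Flat f₂] [IsProper f₂] [LocallyOfFinitePresentation f₂] [GeometricallyReduced f₂]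
    [GeometricallyConnected f₂]
    (hdim₁ : ∀ s : ↥S, topologicalKrullDim ↥(f₁.fiber s) = 1)
    (hdim₂ : ∀ s : ↥S, topologicalKrullDim ↥(f₂.fiber s) = 1)
    (hsm₁ : Smooth (f₁.fiberToSpecResidueField (genericPoint ↥S)))
    (hsm₂ : Smooth (f₂.fiberToSpecResidueField (genericPoint ↥S)))
    (φ : C₁ ⟶ C₂) (hφ : φ ≫ f₂ = f₁) (hbir : ∃ U : C₂.Opens, Dense (U : Set ↥C₂) ∧ IsIso (φ ∣_ U)) :
    ∀ V : C₂.Opens, IsIso (φ.app V) := by
  obtain ⟨hI₁, hN₁⟩ := isIntegral_and_normal S C₁ hS f₁ hdim₁ hsm₁
  obtain ⟨hI₂, hN₂⟩ := isIntegral_and_normal S C₂ hS f₂ hdim₂ hsm₂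
  haveI := hI₁
  haveI := hI₂
  haveI : IsLocallyNoetherian C₂ := LocallyOfFiniteType.isLocallyNoetherian f₂
  haveI : IsProper φ := by
    haveI : IsProper (φ ≫ f₂) := by rw [hφ]; infer_instance
    exact IsProper.of_comp φ f₂
  obtain ⟨U, hU, hiso⟩ := hbir
  have hfU : Dense ((φ ⁻¹ᵁ U : C₁.Opens) : Set ↥C₁) := by
    obtain ⟨x, hx⟩ := hU.nonempty
    have hne : ((φ ⁻¹ᵁ U : C₁.Opens) : Set ↥C₁).Nonempty := by
      let z := (inv (φ ∣_ U)) ⟨x, hx⟩
      exact ⟨z.1, z.2⟩
    exact (φ ⁻¹ᵁ U).2.dense hne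
  obtain ⟨_, hgen, hstalk⟩ :=
    Groth.Agent.Lib.Helper4.NormIso.birational_of_dense φ hN₁ U hU hfU hiso
  have h : φ.base (genericPoint ↥C₁) ⤳ genericPoint ↥C₂ := by rw [hgen]
  intro V
  refine Groth.Agent.Lib.H9FibrBirB.isIso_app_of_algClosed φ hN₂ h (fun x _ => ?_) V
  have hbij1 : Function.Bijective (φ.stalkMap (genericPoint ↥C₁)).hom :=
    ConcreteCategory.bijective_of_isIso _
  have hins : Inseparable (genericPoint ↥C₂) (φ.base (genericPoint ↥C₁)) := by rw [hgen]
  have hbij2 : Function.Bijective (C₂.presheaf.stalkSpecializes h).hom := by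
    have : IsIso (C₂.presheaf.stalkSpecializes h) :=
      (C₂.presheaf.stalkCongr hins).isIso_hom
    exact ConcreteCategory.bijective_of_isIso _
  obtain ⟨y, hy⟩ := hbij1.2 x
  obtain ⟨w, hw⟩ := hbij2.2 y
  refine ⟨w, ?_⟩
  show (φ.stalkMap (genericPoint ↥C₁)).hom ((C₂.presheaf.stalkSpecializes h).hom w) = x
  rw [hw, hy]

end Groth.Agent.Lib.H9CurveFamBir
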