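import Mathlib
import Groth.Prelude
import Groth.Agent.Lib.H9Models
import Groth.Agent.Lib.H9ContrU2

/-! helper9: global functions of a proper flat scheme over a Noetherian integrally closed domain
whose generic fibre has only constants as global functions (Dedekind version of
`H9Models.isIso_appTop`), and S7915. -/

set_option autoImplicit false
set_option linter.style.haveILetI false
universe u

namespace Groth.Agent.Lib.H9DedM

open CategoryTheory CategoryTheory.Limits AlgebraicGeometry TopologicalSpace Opposite

section M
variable (R : Type u) [CommRing R] [IsDomain R] [IsNoetherianRing R] [IsIntegrallyClosed R]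
  {C X : Scheme.{u}} (f : C ⟶ Spec (CommRingCat.of (FractionRing R)))
  (p : X ⟶ Spec (CommRingCat.of R)) (g : C ⟶ X)
  (H : IsPullback g f p (Spec.map (CommRingCat.ofHom (algebraMap R (FractionRing R)))))

omit [IsNoetherianRing R] [IsIntegrallyClosed R] in
theorem isDominant_genPt :
    IsDominant (Spec.map (CommRingCat.ofHom (algebraMap R (FractionRing R)))) := by
  rw [isDominant_iff]
  change DenseRange (PrimeSpectrum.comap (algebraMap R (FractionRing R)))
  rw [PrimeSpectrum.denseRange_comap_iff_ker_le_nilRadical]
  rw [(RingHom.injective_iff_ker_eq_bot _).mp (IsFractionRing.injective R (FractionRing R))]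
  exact bot_le

include H in
theorem isIso_appTop [IsProper p] [Flat p] (hf : IsIso f.appTop) : IsIso p.appTop := by
  let j := Spec.map (CommRingCat.ofHom (algebraMap R (FractionRing R)))
  haveI : IsDominant j := isDominant_genPt R
  haveI : IsSchemeTheoreticallyDominant j := IsSchemeTheoreticallyDominant.of_isDominant j
  haveI : IsSchemeTheoreticallyDominant g := IsSchemeTheoreticallyDominant.of_isPullback H.flip
  haveI : QuasiCompact g := MorphismProperty.of_isPullback (P := @QuasiCompact) H.flip inferInstance
  have hginj : Function.Injective g.appTop.hom := g.app_injective ⊤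
  let gR : R →+* Γ(X, ⊤) := p.appTop.hom.comp (Scheme.ΓSpecIso (CommRingCat.of R)).inv.hom
  have hfin : gR.Finite := Groth.Agent.Lib.H9NormFin.finite_toGlobal R p
  let φ : FractionRing R →+* Γ(C, ⊤) :=
    f.appTop.hom.comp (Scheme.ΓSpecIso (CommRingCat.of (FractionRing R))).inv.hom
  have hφ : Function.Bijective φ := by
    have h1 : Function.Bijective f.appTop.hom := (ConcreteCategory.isIso_iff_bijective _).mp hf
    have h2 : Function.Bijective (Scheme.ΓSpecIso (CommRingCat.of (FractionRing R))).inv.hom :=
      (ConcreteCategory.isIso_iff_bijective _).mp inferInstance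
    exact h1.comp h2
  have hcomm : g.appTop.hom.comp gR = φ.comp (algebraMap R (FractionRing R)) := by
    have h1 : p.appTop ≫ g.appTop = j.appTop ≫ f.appTop := by
      rw [← Scheme.Hom.comp_appTop, ← Scheme.Hom.comp_appTop, H.w]
    have h2 : (Scheme.ΓSpecIso (CommRingCat.of R)).inv ≫ j.appTop =
        CommRingCat.ofHom (algebraMap R (FractionRing R)) ≫
          (Scheme.ΓSpecIso (CommRingCat.of (FractionRing R))).inv :=
      (Scheme.ΓSpecIso_inv_naturality (CommRingCat.ofHom (algebraMap R (FractionRing R)))).symm
    have h3 : (Scheme.ΓSpecIso (CommRingCat.of R)).inv ≫ p.appTop ≫ g.appTop =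
        CommRingCat.ofHom (algebraMap R (FractionRing R)) ≫
          (Scheme.ΓSpecIso (CommRingCat.of (FractionRing R))).inv ≫ f.appTop := by
      rw [h1, ← Category.assoc, h2, Category.assoc]
    exact congrArg CommRingCat.Hom.hom h3
  have hbij : Function.Bijective gR :=
    Groth.Agent.Lib.H9ZarBir.bijective_of_finite_of_birational (K := FractionRing R) gR hfin φ hφ
      g.appTop.hom hginj hcomm
  have h4 : Function.Bijective p.appTop.hom := by
    have h2 : Function.Bijective (Scheme.ΓSpecIso (CommRingCat.of R)).hom.hom :=
      (ConcreteCategory.isIso_iff_bijective _).mp inferInstance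
    have : p.appTop.hom = gR.comp (Scheme.ΓSpecIso (CommRingCat.of R)).hom.hom := by
      ext a
      change _ = p.appTop.hom ((Scheme.ΓSpecIso (CommRingCat.of R)).inv.hom
        ((Scheme.ΓSpecIso (CommRingCat.of R)).hom.hom a))
      congr 1
      exact (congrArg (fun ψ => ψ.hom a) (Scheme.ΓSpecIso (CommRingCat.of R)).hom_inv_id).symm
    rw [this]
    exact hbij.comp h2
  exact (ConcreteCategory.isIso_iff_bijective _).mpr h4

end M

/-- **S7915** -/
theorem main7915 {R : Type u} [CommRing R] [IsDedekindDomain R]
    (X : Over (Spec (CommRingCat.of R))) [Flat X.hom] (hproj : Neron.IsProjectiveOver R X)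
    [GeometricallyIrreducible ((Neron.genericFibre R).obj X).hom]
    [GeometricallyReduced ((Neron.genericFibre R).obj X).hom] :
    Function.Bijective (Coh.toGlobal X.hom) := by
  haveI hpX : IsProper X.hom := Groth.Agent.Lib.H9ContrU2.isProper_of_isProjectiveOver R X hproj
  haveI hirr : GeometricallyIrreducible (pullback.snd X.hom (Neron.genPt R)) :=
    ‹GeometricallyIrreducible ((Neron.genericFibre R).obj X).hom›
  haveI hred : GeometricallyReduced (pullback.snd X.hom (Neron.genPt R)) :=
    ‹GeometricallyReduced ((Neron.genericFibre R).obj X).hom›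
  haveI hconn : GeometricallyConnected (pullback.snd X.hom (Neron.genPt R)) :=
    ⟨fun K _ y Z fst snd h => by
      haveI : IrreducibleSpace Z := hirr.geometrically_irreducibleSpace y fst snd h
      infer_instance⟩
  have hf : IsIso (pullback.snd X.hom (Neron.genPt R)).appTop :=
    Groth.Agent.Lib.H9Models.isIso_appTop_of_geometricallyConnected (FractionRing R)
      (pullback.snd X.hom (Neron.genPt R))
  haveI hiso : IsIso X.hom.appTop :=
    isIso_appTop R (pullback.snd X.hom (Neron.genPt R)) X.hom (pullback.fst X.hom (Neron.genPt R))
      (IsPullback.of_hasPullback _ _) hf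
  have h1 : Function.Bijective X.hom.appTop.hom :=
    (ConcreteCategory.isIso_iff_bijective _).mp hiso
  have h2 : Function.Bijective (Scheme.ΓSpecIso (CommRingCat.of R)).inv.hom :=
    (ConcreteCategory.isIso_iff_bijective _).mp inferInstance
  exact h1.comp h2

end Groth.Agent.Lib.H9DedM
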