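import Mathlib

/-! finite_residue_tensor_of_flat (local PID R, fraction field K, M flat with K ⊗ M finite-dimensional ⇒ κ ⊗ M finite-dimensional over the residue field) (helper9). -/

set_option autoImplicit false

namespace Groth.Agent.Lib.H9DedQf1

open TensorProduct

/-- Local PID `R` with fraction field `K`, `M` flat with `K ⊗ M` finite-dimensional: then
`κ ⊗ M` is finite-dimensional over the residue field. -/
theorem finite_residue_tensor_of_flat {R : Type*} [CommRing R] [IsDomain R] [IsLocalRing R]
    [IsPrincipalIdealRing R] (K : Type*) [Field K] [Algebra R K] [IsFractionRing R K]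
    (M : Type*) [AddCommGroup M] [Module R M] [Module.Flat R M] [Module.Finite K (K ⊗[R] M)] :
    Module.Finite (IsLocalRing.ResidueField R) (IsLocalRing.ResidueField R ⊗[R] M) := by
  classical
  set κ := IsLocalRing.ResidueField R with hκ
  have hsurj : Function.Surjective (TensorProduct.mk R κ M 1) :=
    TensorProduct.mk_surjective R M κ IsLocalRing.residue_surjective
  have hinj : Function.Injective (TensorProduct.mk R K M 1) := by
    have h1 : Function.Injective ((Algebra.linearMap R K).rTensor M) :=
      Module.Flat.rTensor_preserves_injective_linearMap _ (IsFractionRing.injective R K)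
    have h2 : (TensorProduct.mk R K M 1 : M →ₗ[R] K ⊗[R] M) =
        ((Algebra.linearMap R K).rTensor M) ∘ₗ (TensorProduct.lid R M).symm.toLinearMap := by
      ext m
      simp
    rw [h2]
    exact h1.comp (TensorProduct.lid R M).symm.injective
  have htf : ∀ (d : R) (y : M), d ≠ 0 → d • y = 0 → y = 0 := by
    intro d y hd hy
    apply hinj
    rw [map_zero]
    have h1 : d • (TensorProduct.mk R K M 1 y) = 0 := by rw [← map_smul, hy, map_zero]
    rw [← algebraMap_smul K d] at h1
    exact (smul_eq_zero.mp h1).resolve_left
      (fun h => hd ((IsFractionRing.injective R K) (by rw [h, map_zero])))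
  have hrank : Module.rank κ (κ ⊗[R] M) ≤ (Module.finrank K (K ⊗[R] M) : ℕ) := by
    apply rank_le
    intro s hs
    choose a ha using fun i : s => hsurj i.1
    have hli : LinearIndependent R a := by
      rw [Fintype.linearIndependent_iff]
      intro g hg
      by_contra hne
      push Not at hne
      obtain ⟨i₀, hi₀⟩ := hne
      obtain ⟨d, hd⟩ := (IsPrincipalIdealRing.principal (Ideal.span (Set.range g))).principal
      have hd' : Ideal.span (Set.range g) = Ideal.span {d} := hd
      have hd0 : d ≠ 0 := by
        rintro rfl
        have : g i₀ ∈ Ideal.span (Set.range g) := Ideal.subset_span ⟨i₀, rfl⟩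
        rw [hd', Ideal.mem_span_singleton'] at this
        obtain ⟨r, hr⟩ := this
        exact hi₀ (by rw [← hr, mul_zero])
      have hdiv : ∀ i, ∃ r, g i = d * r := fun i => by
        have : g i ∈ Ideal.span (Set.range g) := Ideal.subset_span ⟨i, rfl⟩
        rw [hd', Ideal.mem_span_singleton'] at this
        obtain ⟨r, hr⟩ := this
        exact ⟨r, by rw [← hr, mul_comm]⟩
      choose g' hg' using hdiv
      have hdmem : d ∈ Ideal.span (Set.range g) := by
        rw [hd']
        exact Ideal.mem_span_singleton_self d
      obtain ⟨c, hc⟩ := (Ideal.mem_span_range_iff_exists_fun).mp hdmem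
      have h1 : ∑ i, c i * g' i = 1 := by
        have : d * ∑ i, c i * g' i = d * 1 := by
          rw [mul_one, Finset.mul_sum]
          conv_rhs => rw [← hc]
          apply Finset.sum_congr rfl
          intro i _
          rw [hg' i]
          ring
        exact mul_left_cancel₀ hd0 this
      have hunit : ∃ j, g' j ∉ IsLocalRing.maximalIdeal R := by
        by_contra hall
        push Not at hall
        have : (1 : R) ∈ IsLocalRing.maximalIdeal R := by
          rw [← h1]
          exact Ideal.sum_mem _ (fun i _ => Ideal.mul_mem_left _ _ (hall i))
        exact (Ideal.ne_top_iff_one _).mp (IsLocalRing.maximalIdeal.isMaximal R).ne_top this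
      obtain ⟨j, hj⟩ := hunit
      have h2 : ∑ i, g' i • a i = 0 := by
        apply htf d _ hd0
        rw [Finset.smul_sum, ← hg]
        apply Finset.sum_congr rfl
        intro i _
        rw [smul_smul, ← hg' i]
      have h3 : ∑ i : s, IsLocalRing.residue R (g' i) • (i : κ ⊗[R] M) = 0 := by
        have := congrArg (TensorProduct.mk R κ M 1) h2
        rw [map_sum, map_zero] at this
        rw [← this]
        apply Finset.sum_congr rfl
        intro i _
        rw [map_smul, ha i]
        exact algebraMap_smul κ (g' i) (i : κ ⊗[R] M)
      have := Fintype.linearIndependent_iff.mp hs _ h3 j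
      exact hj ((IsLocalRing.residue_eq_zero_iff _).mp this)
    have hli2 : LinearIndependent R (fun i => TensorProduct.mk R K M 1 (a i)) :=
      hli.map' _ (LinearMap.ker_eq_bot.mpr hinj)
    have hli3 : LinearIndependent K (fun i => TensorProduct.mk R K M 1 (a i)) :=
      (LinearIndependent.iff_fractionRing R K).mp hli2
    have := hli3.fintype_card_le_finrank
    simpa using this
  exact Module.rank_lt_aleph0_iff.mp (lt_of_le_of_lt hrank (Cardinal.natCast_lt_aleph0))

end Groth.Agent.Lib.H9DedQf1
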