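import Mathlib
import Groth.Agent.Lib.H9DedQf1

/-! quasiFinite_of_flat_of_finite_generic (flat algebra over a Dedekind domain with finite generic fibre is Algebra.QuasiFinite) (helper9). -/

set_option autoImplicit false

namespace Groth.Agent.Lib.H9DedQf2

open TensorProduct Groth.Agent.Lib.H9DedQf1

/-- A flat algebra over a Dedekind domain whose generic fibre is finite over the fraction field is
quasi-finite. -/
theorem quasiFinite_of_flat_of_finite_generic {R : Type*} [CommRing R] [IsDedekindDomain R]
    (A : Type*) [CommRing A] [Algebra R A] [Module.Flat R A]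
    [Module.Finite (FractionRing R) (FractionRing R ⊗[R] A)] : Algebra.QuasiFinite R A := by
  refine ⟨fun P hP => ?_⟩
  let K := FractionRing R
  let Rp := Localization.AtPrime P
  haveI : IsDedekindDomain Rp :=
    IsLocalization.isDedekindDomain R P.primeCompl_le_nonZeroDivisors Rp
  haveI : IsPrincipalIdealRing Rp := by
    apply IsPrincipalIdealRing.of_finite_maximals
    refine (Set.finite_singleton (IsLocalRing.maximalIdeal Rp)).subset ?_
    intro I hI
    exact IsLocalRing.eq_maximalIdeal hI
  let M := Rp ⊗[R] A
  haveI : Module.Flat Rp M := inferInstance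
  let e1 : K ⊗[Rp] M ≃ₗ[K] K ⊗[R] A :=
    TensorProduct.AlgebraTensorModule.cancelBaseChange R Rp K K A
  haveI : Module.Finite K (K ⊗[Rp] M) := Module.Finite.equiv e1.symm
  have h := finite_residue_tensor_of_flat (R := Rp) K M
  let e2 : P.ResidueField ⊗[Rp] M ≃ₗ[P.ResidueField] P.ResidueField ⊗[R] A :=
    TensorProduct.AlgebraTensorModule.cancelBaseChange R Rp P.ResidueField P.ResidueField A
  exact Module.Finite.equiv e2

end Groth.Agent.Lib.H9DedQf2
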