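import Mathlib
import Groth.Prelude.Def_Neron
import Groth.Agent.Lib.H9DedQf2

/-! lqf_Spec_of_generic, lqf_of_flat_of_generic (S18485: flat scheme over Spec of a Dedekind domain with locally quasi-finite generic fibre is locally quasi-finite) (helper9). -/

set_option autoImplicit false
universe u

namespace Groth.Agent.Lib.H9DedQf3

open CategoryTheory CategoryTheory.Limits AlgebraicGeometry TensorProduct
open Groth.Agent.Lib.H9DedQf2

theorem lqf_Spec_of_generic (R : Type u) [CommRing R] [IsDedekindDomain R] (A : Type u)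
    [CommRing A] [Algebra R A] [Module.Flat R A]
    (hgen : LocallyQuasiFinite (pullback.snd (Spec.map (CommRingCat.ofHom (algebraMap R A)))
      (Neron.genPt R))) :
    LocallyQuasiFinite (Spec.map (CommRingCat.ofHom (algebraMap R A))) := by
  let K := FractionRing R
  have h1 : LocallyQuasiFinite (pullback.fst (Neron.genPt R)
      (Spec.map (CommRingCat.ofHom (algebraMap R A)))) := by
    rw [← pullbackSymmetry_hom_comp_snd]
    infer_instance
  have h2 : LocallyQuasiFinite (Spec.map (CommRingCat.ofHom (algebraMap K (K ⊗[R] A)))) := by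
    rw [← pullbackSpecIso_inv_fst' R K A]
    exact MorphismProperty.comp_mem _ _ _ inferInstance h1
  have h3 : (algebraMap K (K ⊗[R] A)).QuasiFinite :=
    (HasRingHomProperty.Spec_iff (P := @LocallyQuasiFinite)).mp h2
  haveI : Algebra.QuasiFinite K (K ⊗[R] A) := RingHom.quasiFinite_algebraMap.mp h3
  haveI : Module.Finite K (K ⊗[R] A) := Module.Finite.of_quasiFinite
  have h4 : Algebra.QuasiFinite R A := quasiFinite_of_flat_of_finite_generic A
  exact (HasRingHomProperty.Spec_iff (P := @LocallyQuasiFinite)).mpr
    (RingHom.quasiFinite_algebraMap.mpr h4)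

end Groth.Agent.Lib.H9DedQf3

namespace Groth.Agent.Lib.H9DedQf3

open CategoryTheory CategoryTheory.Limits AlgebraicGeometry TensorProduct

theorem lqf_of_flat_of_generic (R : Type u) [CommRing R] [IsDedekindDomain R]
    (H : Over (Spec (CommRingCat.of R))) [Flat H.hom]
    [LocallyQuasiFinite ((Neron.genericFibre R).obj H).hom] : LocallyQuasiFinite H.hom := by
  have hgen : LocallyQuasiFinite (pullback.snd H.hom (Neron.genPt R)) :=
    ‹LocallyQuasiFinite ((Neron.genericFibre R).obj H).hom›
  rw [IsZariskiLocalAtSource.iff_of_openCover (P := @LocallyQuasiFinite) H.left.affineCover]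
  intro i
  let W := H.left.affineCover.X i
  let w : W ⟶ Spec (CommRingCat.of R) := H.left.affineCover.f i ≫ H.hom
  let ψ : CommRingCat.of R ⟶ Γ(W, ⊤) := (Scheme.ΓSpecIso (CommRingCat.of R)).inv ≫ w.appTop
  letI : Algebra R Γ(W, ⊤) := ψ.hom.toAlgebra
  have hψ : CommRingCat.ofHom (algebraMap R Γ(W, ⊤)) = ψ := rfl
  have hw : w = W.isoSpec.hom ≫ Spec.map ψ := by
    have := Scheme.isoSpec_hom_naturality w
    rw [Scheme.isoSpec_Spec_hom] at this
    rw [Spec.map_comp, ← Category.assoc, this, Category.assoc, ← Spec.map_comp,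
      Iso.inv_hom_id, Spec.map_id, Category.comp_id]
  have hw' : Spec.map ψ = W.isoSpec.inv ≫ w := by rw [hw, Iso.inv_hom_id_assoc]
  haveI : Flat (Spec.map ψ) := by
    rw [hw']
    infer_instance
  haveI : Module.Flat R Γ(W, ⊤) := by
    have h : ψ.hom.Flat := (HasRingHomProperty.Spec_iff (P := @Flat)).mp ‹_›
    exact h
  have key : LocallyQuasiFinite (Spec.map ψ) := by
    rw [← hψ]
    apply lqf_Spec_of_generic
    rw [hψ]
    have e : pullback.snd (Spec.map ψ) (Neron.genPt R) =
        pullback.map (Spec.map ψ) (Neron.genPt R) H.hom (Neron.genPt R)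
          (W.isoSpec.inv ≫ H.left.affineCover.f i) (𝟙 _) (𝟙 _)
          (by rw [Category.comp_id, Category.assoc, hw']) (by simp) ≫
          pullback.snd H.hom (Neron.genPt R) := by
      rw [pullback.lift_snd, Category.comp_id]
    rw [e]
    exact MorphismProperty.comp_mem _ _ _ inferInstance hgen
  show LocallyQuasiFinite w
  rw [hw]
  infer_instance

end Groth.Agent.Lib.H9DedQf3
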