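import Mathlib
import Groth.Prelude
import Groth.Agent.S8890

set_option autoImplicit false
universe u

namespace Groth.Agent.Lib.H9DefoIso

open AlgebraicGeometry CategoryTheory

theorem le_of_le_sup_smul {A N : Type*} [CommRing A] [AddCommGroup N] [Module A N] (m : Ideal A)
    (hm : IsNilpotent m) (Q P : Submodule A N) (h : Q ≤ P ⊔ m • Q) : Q ≤ P := by
  obtain ⟨n, hn⟩ := hm
  have key : ∀ k : ℕ, Q ≤ P ⊔ m ^ k • Q := by
    intro k
    induction k with
    | zero =>
      rw [pow_zero, Ideal.one_eq_top, Submodule.top_smul]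
      exact le_sup_right
    | succ k ih =>
      calc Q ≤ P ⊔ m ^ k • Q := ih
        _ ≤ P ⊔ m ^ k • (P ⊔ m • Q) := sup_le_sup_left (Submodule.smul_mono le_rfl h) _
        _ = P ⊔ (m ^ k • P ⊔ m ^ k • m • Q) := by rw [Submodule.smul_sup]
        _ ≤ P ⊔ m ^ (k + 1) • Q := by
            rw [← Submodule.mul_smul, ← pow_succ]
            exact sup_le le_sup_left
              (sup_le (le_sup_of_le_left Submodule.smul_le_right) le_sup_right)
  have := key n
  rwa [hn, Ideal.zero_eq_bot, Submodule.bot_smul, sup_bot_eq] at this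

theorem bijective_of_reduction {A M N E : Type*} [CommRing A] [AddCommGroup M] [Module A M]
    [AddCommGroup N] [Module A N] [Module.Flat A N] [AddCommGroup E] (m : Ideal A)
    (hm : IsNilpotent m) (φ : M →ₗ[A] N) (πM : M →+ E) (πN : N →+ E)
    (hπ : ∀ x, πN (φ x) = πM x) (hsurj : Function.Surjective πM)
    (hkerM : ∀ x, πM x = 0 → x ∈ m • (⊤ : Submodule A M))
    (hkerN : ∀ y, πN y = 0 → y ∈ m • (⊤ : Submodule A N)) : Function.Bijective φ := by
  have hs : Function.Surjective φ := by
    have : (⊤ : Submodule A N) ≤ LinearMap.range φ := by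
      apply le_of_le_sup_smul m hm
      intro y _
      obtain ⟨x, hx⟩ := hsurj (πN y)
      have h1 : y - φ x ∈ m • (⊤ : Submodule A N) :=
        hkerN _ (by rw [map_sub, hπ, hx, sub_self])
      have h2 : y = φ x + (y - φ x) := by abel
      rw [h2]
      exact Submodule.add_mem_sup (LinearMap.mem_range_self φ x) h1
    exact LinearMap.range_eq_top.mp (top_le_iff.mp this)
  refine ⟨?_, hs⟩
  rw [← LinearMap.ker_eq_bot, eq_bot_iff]
  apply le_of_le_sup_smul m hm
  rw [bot_sup_eq]
  intro x hx
  have hx0 : φ x = 0 := hx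
  have hxm : x ∈ m • (⊤ : Submodule A M) := hkerM x (by rw [← hπ, hx0, map_zero])
  obtain ⟨a, ha, hax⟩ := (Submodule.mem_ideal_smul_span_iff_exists_sum m (id : M → M) x).mp
    (by rwa [Set.range_id, Submodule.span_univ])
  have hax' : ∑ i ∈ a.support, a i • i = x := hax
  have hrel : ∑ i : a.support, a i.1 • φ i.1 = 0 := by
    rw [Finset.sum_coe_sort a.support (fun i => a i • φ i)]
    have : φ x = ∑ i ∈ a.support, a i • φ i := by
      rw [← hax', map_sum]
      simp only [map_smul]
    rw [← this, hx0]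
  obtain ⟨k, b, y, hy, hb⟩ := Module.Flat.isTrivialRelation_of_sum_smul_eq_zero hrel
  choose z hz using fun j => hs (y j)
  have hx' : x = ∑ i : a.support, a i.1 • (i.1 - ∑ j, b i j • z j) := by
    have h1 : x = ∑ i : a.support, a i.1 • i.1 := by
      rw [Finset.sum_coe_sort a.support (fun i => a i • i)]
      exact hax'.symm
    have h2 : ∑ i : a.support, a i.1 • ∑ j, b i j • z j = 0 := by
      simp_rw [Finset.smul_sum, smul_smul]
      rw [Finset.sum_comm]
      apply Finset.sum_eq_zero
      intro j _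
      rw [← Finset.sum_smul, hb j, zero_smul]
    simp_rw [smul_sub]
    rw [Finset.sum_sub_distrib, h2, sub_zero]
    exact h1
  rw [hx']
  apply Submodule.sum_mem
  intro i _
  apply Submodule.smul_mem_smul (ha i.1)
  show φ (i.1 - ∑ j, b i j • z j) = 0
  rw [map_sub, map_sum]
  simp_rw [map_smul, hz]
  rw [← hy i, sub_self]

open DefoSh in
theorem main17441 (k : Type u) [Field k] (X : Scheme.{u})
    [X.Over (Spec (CommRingCat.of k))] (E : X.Modules) (A : ArtFun.Art k k)
    (D D' : DefoSh.Defo E A) (φ : D.sheaf ⟶ D'.sheaf)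
    (hact : ∀ a : A, D.act a ≫ φ = φ ≫ D'.act a) (hπ : φ ≫ D'.π = D.π) :
    IsIso φ := by
  apply Groth.Agent.S8890.isIso_of_stalk_bijective
  intro p
  let _ := D.stalkMod p
  let _ := D'.stalkMod p
  have : Module.Flat A (D'.sheaf.presheaf.stalk p) := D'.flat p
  have hnil : IsNilpotent (IsLocalRing.maximalIdeal A) := by
    rw [← IsLocalRing.jacobson_eq_maximalIdeal ⊥ bot_ne_top]
    exact IsArtinianRing.isNilpotent_jacobson_bot
  let φp : D.sheaf.presheaf.stalk p →ₗ[A] D'.sheaf.presheaf.stalk p :=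
    { toFun := RefHull.stalkMapₗ φ p
      map_add' := map_add _
      map_smul' := fun a v => by
        show RefHull.stalkMapₗ φ p (RefHull.stalkMapₗ (D.act a) p v) =
          RefHull.stalkMapₗ (D'.act a) p (RefHull.stalkMapₗ φ p v)
        rw [← stalkMapₗ_comp_apply, ← stalkMapₗ_comp_apply, hact] }
  exact bijective_of_reduction (IsLocalRing.maximalIdeal A) hnil φp
    (RefHull.stalkMapₗ D.π p).toAddMonoidHom (RefHull.stalkMapₗ D'.π p).toAddMonoidHom
    (fun x => by
      show RefHull.stalkMapₗ D'.π p (RefHull.stalkMapₗ φ p x) = RefHull.stalkMapₗ D.π p x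
      rw [← stalkMapₗ_comp_apply, hπ])
    (D.surj p) (D.ker_le p) (D'.ker_le p)

end Groth.Agent.Lib.H9DefoIso
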