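import Mathlib

set_option autoImplicit false
set_option linter.style.haveILetI false
set_option linter.unusedSectionVars false
universe u v w

namespace Groth.Agent.Lib.H9Deform280

-- ===== from DF1 =====
section SecDF1
open TensorProduct

section NilBij

variable {A : Type u} [CommRing A] (m : Ideal A) {P : Type v} {B : Type w}
  [AddCommGroup P] [Module A P] [AddCommGroup B] [Module A B] (φ : P →ₗ[A] B)

theorem pow_smul_top_succ (n : ℕ) (M : Type*) [AddCommGroup M] [Module A M] :
    m ^ (n + 1) • (⊤ : Submodule A M) = m ^ n • (m • (⊤ : Submodule A M)) := by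
  rw [pow_succ, mul_smul]

theorem surjective_of_nilpotent (hm : IsNilpotent m)
    (hs : ∀ b : B, ∃ p : P, b - φ p ∈ m • (⊤ : Submodule A B)) : Function.Surjective φ := by
  obtain ⟨N, hN⟩ := hm
  have key : ∀ n : ℕ, (⊤ : Submodule A B) ≤ LinearMap.range φ ⊔ m ^ n • (⊤ : Submodule A B) := by
    intro n
    induction n with
    | zero =>
      rw [pow_zero, Ideal.one_eq_top, Submodule.top_smul]
      exact le_sup_right
    | succ n ih =>
      refine ih.trans (sup_le le_sup_left ?_)
      rw [Submodule.smul_le]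
      intro a ha b _
      obtain ⟨p, hp⟩ := hs b
      have : a • b = φ (a • p) + a • (b - φ p) := by
        rw [map_smul, smul_sub, add_sub_cancel]
      rw [this]
      refine Submodule.add_mem _ (Submodule.mem_sup_left ⟨_, rfl⟩) (Submodule.mem_sup_right ?_)
      rw [pow_smul_top_succ]
      exact Submodule.smul_mem_smul ha hp
  intro b
  have hb := key N Submodule.mem_top (x := b)
  rw [hN, Ideal.zero_eq_bot, Submodule.bot_smul, sup_bot_eq] at hb
  exact hb

theorem injective_of_nilpotent_of_flat [Module.Flat A B] (hm : IsNilpotent m)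
    (hsurj : Function.Surjective φ)
    (hi : ∀ p : P, φ p ∈ m • (⊤ : Submodule A B) → p ∈ m • (⊤ : Submodule A P)) :
    Function.Injective φ := by
  obtain ⟨N, hN⟩ := hm
  set K := LinearMap.ker φ with hK
  have hinj : Function.Injective (K.subtype.lTensor (A ⧸ m)) :=
    LinearMap.lTensor_injective_of_exact_of_flat φ hsurj K.subtype (Submodule.injective_subtype _)
      (LinearMap.exact_subtype_ker_map φ) (A ⧸ m)
  have hstep : K ≤ m • K := by
    intro x hx
    have hxP : x ∈ m • (⊤ : Submodule A P) := hi x (by rw [LinearMap.mem_ker.mp hx]; exact zero_mem _)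
    have h1 : (1 : A ⧸ m) ⊗ₜ[A] x = 0 := by
      apply (TensorProduct.quotTensorEquivQuotSMul P m).injective
      rw [map_zero]
      have : TensorProduct.quotTensorEquivQuotSMul P m ((1 : A ⧸ m) ⊗ₜ[A] x) =
          Submodule.Quotient.mk x := by
        rw [show (1 : A ⧸ m) = Ideal.Quotient.mk m 1 from (map_one _).symm,
          TensorProduct.quotTensorEquivQuotSMul_mk_tmul, one_smul]
      rw [this, Submodule.Quotient.mk_eq_zero]
      exact hxP
    have h2 : (1 : A ⧸ m) ⊗ₜ[A] (⟨x, hx⟩ : K) = 0 := by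
      apply hinj
      rw [LinearMap.lTensor_tmul, map_zero]
      exact h1
    have h3 : (⟨x, hx⟩ : K) ∈ m • (⊤ : Submodule A K) := by
      rw [← Submodule.Quotient.mk_eq_zero]
      have : TensorProduct.quotTensorEquivQuotSMul K m ((1 : A ⧸ m) ⊗ₜ[A] (⟨x, hx⟩ : K)) =
          Submodule.Quotient.mk (⟨x, hx⟩ : K) := by
        rw [show (1 : A ⧸ m) = Ideal.Quotient.mk m 1 from (map_one _).symm,
          TensorProduct.quotTensorEquivQuotSMul_mk_tmul, one_smul]
      rw [← this, h2, map_zero]
    have h4 : K.subtype ⟨x, hx⟩ ∈ (m • (⊤ : Submodule A K)).map K.subtype :=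
      Submodule.mem_map_of_mem h3
    rw [Submodule.map_smul'', Submodule.map_top, Submodule.range_subtype] at h4
    exact h4
  have key : ∀ n : ℕ, K ≤ m ^ n • K := by
    intro n
    induction n with
    | zero => rw [pow_zero, Ideal.one_eq_top, Submodule.top_smul]
    | succ n ih =>
      calc K ≤ m ^ n • K := ih
        _ ≤ m ^ n • (m • K) := Submodule.smul_mono le_rfl hstep
        _ = m ^ (n + 1) • K := by rw [pow_succ, mul_smul]
  rw [← LinearMap.ker_eq_bot, ← hK, eq_bot_iff]
  refine (key N).trans ?_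
  rw [hN, Ideal.zero_eq_bot, Submodule.bot_smul]

end NilBij

end SecDF1

-- ===== from DF2 =====
section SecDF2
open TensorProduct

section Triv

variable {k : Type u} [Field k] {A : Type u} [CommRing A] [Algebra k A] [IsLocalRing A]
  [IsArtinianRing A]
  (hres : ∀ a : A, ∃ c : k, a - algebraMap k A c ∈ IsLocalRing.maximalIdeal A)
  {B : Type u} [CommRing B] [Algebra A B] [Module.Flat A B] [Algebra k B] [IsScalarTower k A B]
  [hsm : Algebra.FormallySmooth k (B ⧸ (IsLocalRing.maximalIdeal A).map (algebraMap A B))]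

omit [Algebra k A] in
theorem isNilpotent_maximalIdeal : IsNilpotent (IsLocalRing.maximalIdeal A) := by
  have := IsArtinianRing.isNilpotent_jacobson_bot (R := A)
  rwa [IsLocalRing.jacobson_eq_maximalIdeal ⊥ bot_ne_top] at this

omit [Algebra k A] in
theorem isNilpotent_map : IsNilpotent ((IsLocalRing.maximalIdeal A).map (algebraMap A B)) := by
  obtain ⟨n, hn⟩ := isNilpotent_maximalIdeal (A := A)
  refine ⟨n, ?_⟩
  rw [← Ideal.map_pow, hn, Ideal.zero_eq_bot, Ideal.map_bot, Ideal.zero_eq_bot]

omit [Algebra k A] in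
theorem mem_smul_top_iff (b : B) :
    b ∈ IsLocalRing.maximalIdeal A • (⊤ : Submodule A B) ↔
      b ∈ (IsLocalRing.maximalIdeal A).map (algebraMap A B) := by
  rw [Ideal.smul_top_eq_map]
  exact Iff.rfl

include hres in
theorem exists_sub_mem (p : A ⊗[k] (B ⧸ (IsLocalRing.maximalIdeal A).map (algebraMap A B))) :
    ∃ b₀ : B ⧸ (IsLocalRing.maximalIdeal A).map (algebraMap A B),
      p - (1 : A) ⊗ₜ[k] b₀ ∈ IsLocalRing.maximalIdeal A •
        (⊤ : Submodule A (A ⊗[k] (B ⧸ (IsLocalRing.maximalIdeal A).map (algebraMap A B)))) := by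
  induction p using TensorProduct.induction_on with
  | zero => exact ⟨0, by simp⟩
  | tmul a b =>
    obtain ⟨c, hc⟩ := hres a
    refine ⟨c • b, ?_⟩
    have : a ⊗ₜ[k] b - (1 : A) ⊗ₜ[k] (c • b) = (a - algebraMap k A c) • ((1 : A) ⊗ₜ[k] b) := by
      rw [TensorProduct.smul_tmul', smul_eq_mul, mul_one, TensorProduct.sub_tmul,
        TensorProduct.tmul_smul, TensorProduct.smul_tmul', Algebra.smul_def c (1 : A), mul_one]
    rw [this]
    exact Submodule.smul_mem_smul hc Submodule.mem_top
  | add p q hp hq =>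
    obtain ⟨b₁, h₁⟩ := hp
    obtain ⟨b₂, h₂⟩ := hq
    refine ⟨b₁ + b₂, ?_⟩
    have : p + q - (1 : A) ⊗ₜ[k] (b₁ + b₂) = (p - (1 : A) ⊗ₜ[k] b₁) + (q - (1 : A) ⊗ₜ[k] b₂) := by
      rw [TensorProduct.tmul_add]; abel
    rw [this]
    exact Submodule.add_mem _ h₁ h₂

/-- The section of `B → B/mB`. -/
noncomputable def sec :
    (B ⧸ (IsLocalRing.maximalIdeal A).map (algebraMap A B)) →ₐ[k] B :=
  Algebra.FormallySmooth.lift _ (isNilpotent_map (A := A) (B := B)) (AlgHom.id k _)

theorem mk_sec (x : B ⧸ (IsLocalRing.maximalIdeal A).map (algebraMap A B)) :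
    Ideal.Quotient.mk _ (sec (k := k) (A := A) (B := B) x) = x :=
  Algebra.FormallySmooth.mk_lift _ _ _ x

/-- The comparison map from the trivial deformation. -/
noncomputable def cmp :
    A ⊗[k] (B ⧸ (IsLocalRing.maximalIdeal A).map (algebraMap A B)) →ₐ[A] B :=
  Algebra.TensorProduct.lift (Algebra.ofId A B) (sec (k := k) (A := A) (B := B))
    (fun _ _ => Commute.all _ _)

theorem cmp_tmul (a : A) (x : B ⧸ (IsLocalRing.maximalIdeal A).map (algebraMap A B)) :
    cmp (k := k) (a ⊗ₜ[k] x) = algebraMap A B a * sec (k := k) (A := A) (B := B) x := by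
  simp [cmp, Algebra.ofId_apply]

include hres in
theorem cmp_bijective : Function.Bijective (cmp (k := k) (A := A) (B := B)) := by
  have hm := isNilpotent_maximalIdeal (A := A)
  have hsurj : Function.Surjective (cmp (k := k) (A := A) (B := B)).toLinearMap := by
    apply surjective_of_nilpotent _ _ hm
    intro b
    refine ⟨(1 : A) ⊗ₜ[k] Ideal.Quotient.mk _ b, ?_⟩
    rw [mem_smul_top_iff, ← Ideal.Quotient.eq_zero_iff_mem]
    change Ideal.Quotient.mk _ (b - cmp (k := k) ((1 : A) ⊗ₜ[k] Ideal.Quotient.mk _ b)) = 0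
    rw [cmp_tmul, map_one, one_mul, map_sub, mk_sec, sub_self]
  refine ⟨?_, hsurj⟩
  apply injective_of_nilpotent_of_flat _ (cmp (k := k) (A := A) (B := B)).toLinearMap hm hsurj
  intro p hp
  obtain ⟨b₀, hb₀⟩ := exists_sub_mem hres p
  have h1 : (cmp (k := k) (A := A) (B := B)).toLinearMap (p - (1 : A) ⊗ₜ[k] b₀) ∈
      IsLocalRing.maximalIdeal A • (⊤ : Submodule A B) := by
    have := Submodule.mem_map_of_mem (f := (cmp (k := k) (A := A) (B := B)).toLinearMap) hb₀
    rw [Submodule.map_smul''] at this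
    exact Submodule.smul_mono le_rfl le_top this
  have h2 : sec (k := k) (A := A) (B := B) b₀ ∈
      IsLocalRing.maximalIdeal A • (⊤ : Submodule A B) := by
    have h3 : sec (k := k) (A := A) (B := B) b₀ =
        (cmp (k := k) (A := A) (B := B)).toLinearMap p -
          (cmp (k := k) (A := A) (B := B)).toLinearMap (p - (1 : A) ⊗ₜ[k] b₀) := by
      rw [map_sub, sub_sub_cancel]
      change _ = cmp (k := k) ((1 : A) ⊗ₜ[k] b₀)
      rw [cmp_tmul, map_one, one_mul]
    rw [h3]
    exact Submodule.sub_mem _ hp h1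
  rw [mem_smul_top_iff, ← Ideal.Quotient.eq_zero_iff_mem, mk_sec] at h2
  rw [h2, TensorProduct.tmul_zero, sub_zero] at hb₀
  exact hb₀

include hres in
theorem formallySmooth_of_flat : Algebra.FormallySmooth A B :=
  Algebra.FormallySmooth.of_equiv (AlgEquiv.ofBijective (cmp (k := k) (A := A) (B := B))
    (cmp_bijective hres))

end Triv

end SecDF2

-- ===== from DF3 =====
section SecDF3
open TensorProduct

section Auto

variable {A : Type u} [CommRing A] {B : Type v} [CommRing B] [Algebra A B] (t : A)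
  (ht : t * t = 0)

include ht in
/-- An endomorphism congruent to the identity modulo a square-zero principal ideal generated from
the base is bijective. -/
theorem bijective_of_mk_eq (ρ : B →ₐ[A] B)
    (h : ∀ b, Ideal.Quotient.mk (Ideal.span {algebraMap A B t}) (ρ b) =
      Ideal.Quotient.mk (Ideal.span {algebraMap A B t}) b) : Function.Bijective ρ := by
  have hδ : ∀ b, ρ b - b ∈ Ideal.span {algebraMap A B t} := fun b =>
    Ideal.Quotient.eq.mp (h b)
  have key : ∀ z ∈ Ideal.span {algebraMap A B t}, ρ z = z := by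
    intro z hz
    obtain ⟨c, rfl⟩ := Ideal.mem_span_singleton'.mp hz
    obtain ⟨c', hc'⟩ := Ideal.mem_span_singleton'.mp (hδ c)
    rw [map_mul, AlgHom.commutes]
    have : ρ c = c + c' * algebraMap A B t := by rw [hc']; ring
    rw [this, add_mul, mul_assoc, ← map_mul, ht, map_zero, mul_zero, add_zero]
  constructor
  · rw [injective_iff_map_eq_zero]
    intro b hb
    have hbT : b ∈ Ideal.span {algebraMap A B t} := by
      have := hδ b
      rw [hb, zero_sub] at this
      exact (Ideal.neg_mem_iff _).mp this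
    rw [← key b hbT, hb]
  · intro c
    refine ⟨c - (ρ c - c), ?_⟩
    rw [map_sub, key _ (hδ c), sub_sub_cancel]

end Auto

section Main

variable {k : Type u} [Field k] {A : Type u} [CommRing A] [Algebra k A] [IsLocalRing A]
  [IsArtinianRing A]
  (hres : ∀ a : A, ∃ c : k, a - algebraMap k A c ∈ IsLocalRing.maximalIdeal A)
  (t : A) (ht : t ∈ IsLocalRing.maximalIdeal A)
  (htm : ∀ a ∈ IsLocalRing.maximalIdeal A, a * t = 0)
  {B : Type u} [CommRing B] [Algebra A B] [Module.Flat A B] [Algebra k B] [IsScalarTower k A B]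
  (hsm : Algebra.FormallySmooth k (B ⧸ (IsLocalRing.maximalIdeal A).map (algebraMap A B)))
  (σ : (B ⧸ Ideal.span {algebraMap A B t}) ≃ₐ[A] (B ⧸ Ideal.span {algebraMap A B t}))

include hres ht htm hsm in
theorem main : ∃ τ : B ≃ₐ[A] B, ∀ b : B,
      Ideal.Quotient.mk (Ideal.span {algebraMap A B t}) (τ b) =
        σ (Ideal.Quotient.mk (Ideal.span {algebraMap A B t}) b) := by
  haveI := hsm
  haveI : Algebra.FormallySmooth A B := formallySmooth_of_flat hres
  have htt : t * t = 0 := htm t ht
  have hTn : IsNilpotent (Ideal.span {algebraMap A B t}) := by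
    refine ⟨2, ?_⟩
    rw [Ideal.span_singleton_pow, pow_two, ← map_mul, htt, map_zero, Ideal.zero_eq_bot]
    exact Ideal.span_singleton_eq_bot.mpr rfl
  let τ₁ : B →ₐ[A] B := Algebra.FormallySmooth.lift _ hTn
    (σ.toAlgHom.comp (Ideal.Quotient.mkₐ A (Ideal.span {algebraMap A B t})))
  let τ₂ : B →ₐ[A] B := Algebra.FormallySmooth.lift _ hTn
    (σ.symm.toAlgHom.comp (Ideal.Quotient.mkₐ A (Ideal.span {algebraMap A B t})))
  have h₁ : ∀ b, Ideal.Quotient.mk (Ideal.span {algebraMap A B t}) (τ₁ b) =
      σ (Ideal.Quotient.mk _ b) := fun b => Algebra.FormallySmooth.mk_lift _ hTn _ b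
  have h₂ : ∀ b, Ideal.Quotient.mk (Ideal.span {algebraMap A B t}) (τ₂ b) =
      σ.symm (Ideal.Quotient.mk _ b) := fun b => Algebra.FormallySmooth.mk_lift _ hTn _ b
  have hb₁ : Function.Bijective (τ₂.comp τ₁) := bijective_of_mk_eq t htt _ (fun b => by
    rw [AlgHom.comp_apply, h₂, h₁, AlgEquiv.symm_apply_apply])
  have hb₂ : Function.Bijective (τ₁.comp τ₂) := bijective_of_mk_eq t htt _ (fun b => by
    rw [AlgHom.comp_apply, h₁, h₂, AlgEquiv.apply_symm_apply])
  have hbij : Function.Bijective τ₁ := by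
    constructor
    · have := hb₁.1
      rw [AlgHom.coe_comp] at this
      exact Function.Injective.of_comp this
    · have := hb₂.2
      rw [AlgHom.coe_comp] at this
      exact Function.Surjective.of_comp this
  exact ⟨AlgEquiv.ofBijective τ₁ hbij, fun b => h₁ b⟩

end Main

end SecDF3


end Groth.Agent.Lib.H9Deform280
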