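import Mathlib

set_option autoImplicit false
universe u

attribute [local instance] FractionRing.liftAlgebra

namespace Groth.Agent.Lib.H9DiffLoc

open nonZeroDivisors IsLocalization Algebra Submodule Module

theorem main11086 (A B : Type u) [CommRing A] [CommRing B]
    [IsDedekindDomain A] [IsDedekindDomain B] [Algebra A B] [Module.Finite A B] [Module.IsTorsionFree A B]
    [Algebra.IsSeparable (FractionRing A) (FractionRing B)]
    (S : Submonoid A) (hS : S ≤ nonZeroDivisors A)
    (Aₛ Bₛ : Type u) [CommRing Aₛ] [CommRing Bₛ] [Algebra A Aₛ] [Algebra B Bₛ] [Algebra Aₛ Bₛ]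
    [Algebra A Bₛ] [IsScalarTower A Aₛ Bₛ] [IsScalarTower A B Bₛ]
    [IsLocalization S Aₛ] [IsLocalization (Algebra.algebraMapSubmonoid B S) Bₛ]
    [IsDomain Aₛ] [IsIntegrallyClosed Aₛ] [IsDedekindDomain Bₛ] [Module.IsTorsionFree Aₛ Bₛ] :
    Ideal.map (algebraMap B Bₛ) (differentIdeal A B) = differentIdeal Aₛ Bₛ := by
  let K := FractionRing A
  let f : Aₛ →+* K := IsLocalization.map _ (T := A⁰) (RingHom.id A) hS
  let L := FractionRing B
  let g : Bₛ →+* L := IsLocalization.map _ (M := Algebra.algebraMapSubmonoid B S) (T := B⁰)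
      (RingHom.id B) (Submonoid.map_le_of_le_comap _ <| hS.trans
      (nonZeroDivisors_le_comap_nonZeroDivisors_of_injective _
        (FaithfulSMul.algebraMap_injective _ _)))
  algebraize [f, g, (algebraMap K L).comp f]
  have : IsScalarTower A Aₛ K := IsScalarTower.of_algebraMap_eq'
    (by rw [RingHom.algebraMap_toAlgebra, IsLocalization.map_comp, RingHomCompTriple.comp_eq])
  let _ := IsFractionRing.isFractionRing_of_isDomain_of_isLocalization S Aₛ K
  have : IsScalarTower B Bₛ L := IsScalarTower.of_algebraMap_eq'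
    (by rw [RingHom.algebraMap_toAlgebra, IsLocalization.map_comp, RingHomCompTriple.comp_eq])
  have : IsScalarTower Aₛ Bₛ L := by
    apply IsScalarTower.of_algebraMap_eq'
    apply IsLocalization.ringHom_ext S
    rw [RingHom.algebraMap_toAlgebra, RingHom.algebraMap_toAlgebra (R := Bₛ), RingHom.comp_assoc,
      RingHom.comp_assoc, ← IsScalarTower.algebraMap_eq, IsScalarTower.algebraMap_eq A B Bₛ,
      IsLocalization.map_comp, RingHom.comp_id, ← RingHom.comp_assoc, IsLocalization.map_comp,
      RingHom.comp_id, ← IsScalarTower.algebraMap_eq, ← IsScalarTower.algebraMap_eq]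
  let _ := IsFractionRing.isFractionRing_of_isDomain_of_isLocalization
    (Algebra.algebraMapSubmonoid B S) Bₛ L
  haveI : FiniteDimensional K L := .of_isLocalization A B A⁰
  haveI : Module.Finite Aₛ Bₛ := Module.Finite.of_isLocalization A B S
  haveI : Algebra.IsIntegral Aₛ Bₛ := Algebra.IsIntegral.of_finite _ _
  haveI : Algebra.IsIntegral A B := Algebra.IsIntegral.of_finite _ _
  have hBle : Algebra.algebraMapSubmonoid B S ≤ B⁰ :=
    Submonoid.map_le_of_le_comap _ <| hS.trans
      (nonZeroDivisors_le_comap_nonZeroDivisors_of_injective _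
        (FaithfulSMul.algebraMap_injective _ _))
  haveI : Module.IsTorsionFree B Bₛ :=
    Module.isTorsionFree_iff_algebraMap_injective.mpr (IsLocalization.injective Bₛ hBle)
  rw [← FractionalIdeal.coeIdeal_inj (K := L)]
  rw [← FractionalIdeal.extendedHom_coeIdeal_eq_map (K := L) L Bₛ, coeIdeal_differentIdeal A K L B,
    coeIdeal_differentIdeal Aₛ K L Bₛ, map_inv₀]
  congr 1
  -- the trace dual commutes with localization
  have hmapid : ∀ (hf' : B⁰ ≤ Submonoid.comap (algebraMap B Bₛ) Bₛ⁰) (x : L),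
      IsLocalization.map (S := L) L (algebraMap B Bₛ) hf' x = x := by
    intro hf' x
    have h1 : (IsLocalization.map (S := L) L (algebraMap B Bₛ) hf') = RingHom.id L := by
      apply IsLocalization.ringHom_ext B⁰
      ext b
      simp [← IsScalarTower.algebraMap_apply]
    rw [h1]; rfl
  have hunitK : ∀ s : S, algebraMap A K (s : A) ≠ 0 := by
    intro s
    exact IsFractionRing.to_map_ne_zero_of_mem_nonZeroDivisors (hS s.2)
  have hAₛK : ∀ (a : A) (s : S), algebraMap Aₛ K (IsLocalization.mk' Aₛ a s) =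
      (algebraMap A K (s : A))⁻¹ * algebraMap A K a := by
    intro a s
    rw [eq_inv_mul_iff_mul_eq₀ (hunitK s), IsScalarTower.algebraMap_apply A Aₛ K, ← map_mul,
      IsLocalization.mk'_spec', ← IsScalarTower.algebraMap_apply]
  rw [← FractionalIdeal.coeToSubmodule_inj]
  rw [FractionalIdeal.extendedHom'_apply, FractionalIdeal.coe_extended_eq_span,
    FractionalIdeal.coe_dual_one]
  apply le_antisymm
  · rw [Submodule.span_le]
    rintro _ ⟨c, hc, rfl⟩
    rw [hmapid]
    rw [SetLike.mem_coe, FractionalIdeal.mem_dual (one_ne_zero (α := FractionalIdeal B⁰ L))] at hc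
    rw [SetLike.mem_coe, Submodule.mem_traceDual]
    intro a ha
    obtain ⟨b', rfl⟩ := Submodule.mem_one.mp ha
    obtain ⟨b, ⟨_, s, hs, rfl⟩, rfl⟩ := IsLocalization.exists_mk'_eq (Algebra.algebraMapSubmonoid B S) b'
    obtain ⟨a₀, ha₀⟩ := hc (algebraMap B L b) ((FractionalIdeal.mem_one_iff _).mpr ⟨b, rfl⟩)
    refine ⟨IsLocalization.mk' Aₛ a₀ ⟨s, hs⟩, ?_⟩
    rw [hAₛK]
    have hb' : algebraMap Bₛ L (IsLocalization.mk' Bₛ b
        (⟨algebraMap A B s, ⟨s, hs, rfl⟩⟩ : Algebra.algebraMapSubmonoid B S)) =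
        (algebraMap A K s)⁻¹ • algebraMap B L b := by
      rw [eq_inv_smul_iff₀ (hunitK ⟨s, hs⟩), Algebra.smul_def,
        ← IsScalarTower.algebraMap_apply A K L, IsScalarTower.algebraMap_apply A B L,
        IsScalarTower.algebraMap_apply B Bₛ L, ← map_mul, IsLocalization.mk'_spec'_mk,
        ← IsScalarTower.algebraMap_apply B Bₛ L]
    rw [hb', map_smul, smul_eq_mul, ha₀]
  · intro c' hc'
    rw [Submodule.mem_traceDual] at hc'
    obtain ⟨t, ht⟩ := (Module.Finite.fg_top : (⊤ : Submodule A B).FG)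
    have hex : ∀ b : B, ∃ a' : Aₛ, algebraMap Aₛ K a' =
        Algebra.traceForm K L c' (algebraMap B L b) := by
      intro b
      obtain ⟨a', ha'⟩ := hc' (algebraMap B L b)
        (Submodule.mem_one.mpr ⟨algebraMap B Bₛ b, by
          rw [← IsScalarTower.algebraMap_apply]⟩)
      exact ⟨a', ha'⟩
    choose a' ha' using hex
    classical
    obtain ⟨s, hs⟩ := IsLocalization.exist_integer_multiples_of_finset S (t.image a')
    -- the element c = s • c' lies in the dual of A
    have hsK : algebraMap A K (s : A) ≠ 0 := hunitK s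
    have hcC : algebraMap A K (s : A) • c' ∈ (FractionalIdeal.dual A K (1 : FractionalIdeal B⁰ L)) := by
      rw [FractionalIdeal.mem_dual (one_ne_zero (α := FractionalIdeal B⁰ L))]
      intro x hx
      obtain ⟨b, rfl⟩ := (FractionalIdeal.mem_one_iff _).mp hx
      have hb : b ∈ Submodule.span A (t : Set B) := by rw [ht]; trivial
      induction hb using Submodule.span_induction with
      | mem y hy =>
        obtain ⟨a₀, ha₀⟩ := hs (a' y) (Finset.mem_image_of_mem _ hy)
        refine ⟨a₀, ?_⟩
        rw [map_smul, LinearMap.smul_apply, ← ha', smul_eq_mul,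
          IsScalarTower.algebraMap_apply A Aₛ K a₀, ha₀, Algebra.smul_def, map_mul,
          ← IsScalarTower.algebraMap_apply A Aₛ K]
      | zero => exact ⟨0, by simp⟩
      | add y z _ _ hy hz =>
        obtain ⟨ay, hay⟩ := hy ((FractionalIdeal.mem_one_iff _).mpr ⟨y, rfl⟩)
        obtain ⟨az, haz⟩ := hz ((FractionalIdeal.mem_one_iff _).mpr ⟨z, rfl⟩)
        exact ⟨ay + az, by rw [map_add, map_add, map_add, hay, haz]⟩
      | smul r y _ hy =>
        obtain ⟨ay, hay⟩ := hy ((FractionalIdeal.mem_one_iff _).mpr ⟨y, rfl⟩)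
        refine ⟨r * ay, ?_⟩
        have h1 : algebraMap B L (r • y) = algebraMap A K r • algebraMap B L y := by
          rw [Algebra.smul_def, map_mul, ← IsScalarTower.algebraMap_apply A B L,
            IsScalarTower.algebraMap_apply A K L, ← Algebra.smul_def]
        rw [h1, map_smul, smul_eq_mul, ← hay, map_mul]
    have hb' : algebraMap Bₛ L (IsLocalization.mk' Bₛ (1 : B)
        (⟨algebraMap A B s, ⟨s, s.2, rfl⟩⟩ : Algebra.algebraMapSubmonoid B S)) =
        (algebraMap A K s)⁻¹ • algebraMap B L 1 := by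
      rw [eq_inv_smul_iff₀ hsK, Algebra.smul_def,
        ← IsScalarTower.algebraMap_apply A K L, IsScalarTower.algebraMap_apply A B L,
        IsScalarTower.algebraMap_apply B Bₛ L, ← map_mul, IsLocalization.mk'_spec'_mk,
        ← IsScalarTower.algebraMap_apply B Bₛ L]
    have hc'eq : c' = (IsLocalization.mk' Bₛ (1 : B)
        (⟨algebraMap A B s, ⟨s, s.2, rfl⟩⟩ : Algebra.algebraMapSubmonoid B S)) •
        (algebraMap A K (s : A) • c') := by
      rw [Algebra.smul_def, hb', map_one, smul_mul_assoc, one_mul, inv_smul_smul₀ hsK]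
    rw [hc'eq]
    refine Submodule.smul_mem _ _ (Submodule.subset_span ⟨_, hcC, hmapid _ _⟩)

end Groth.Agent.Lib.H9DiffLoc
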