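import Mathlib
import Groth.Prelude.Def_Disc
import Groth.Agent.Lib.Helper27NoetherDiff
import Groth.Agent.Lib.Helper18Disc

/-! Dedekind different (`Disc.differentSet`) vs Noether different for finite free algebras: `noetherDifferent ⊆ differentSet`, `b ∈ differentSet → b² ∈ noetherDifferent`, and the support statement `differentSet ⊆ q ↔ ¬ IsUnramifiedAt` (helper9). -/

namespace Groth.Agent.Lib.H9DiffUnr

open TensorProduct Groth.Agent.Lib.Helper27NoetherDiff

universe u v

variable {A : Type u} {B : Type v} [CommRing A] [CommRing B] [Algebra A B]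

section Basis

variable {ι : Type*} [Fintype ι] [DecidableEq ι] (b : Module.Basis ι A B)

theorem sum_coord_pair (l : B →ₗ[A] A) (x : B) (ξ : B ⊗[A] B) :
    ∑ j, b.coord j (pair (l ∘ₗ LinearMap.mulLeft A (b j * x)) ξ) =
      l (x * Algebra.TensorProduct.lmul' (S := B) A ξ) := by
  induction ξ using TensorProduct.induction_on with
  | zero => simp
  | tmul y z =>
    simp only [pair_tmul, Algebra.TensorProduct.lmul'_apply_tmul, LinearMap.comp_apply,
      LinearMap.mulLeft_apply, map_smul, smul_eq_mul, Module.Basis.coord_apply]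
    conv_rhs => rw [← b.sum_repr z]
    rw [Finset.mul_sum, Finset.mul_sum, map_sum]
    refine Finset.sum_congr rfl (fun j _ => ?_)
    rw [mul_smul_comm, mul_smul_comm, map_smul, smul_eq_mul, mul_comm]
    congr 2
    ring
  | add y z hy hz =>
    simp only [map_add, mul_add, Finset.sum_add_distrib, hy, hz]

include b in
/-- elements of the Noether different lie in the (Dedekind) different. -/
theorem lmul_mem_differentSet (ξ : B ⊗[A] B)
    (hξ : ξ ∈ Submodule.annihilator (RingHom.ker (Algebra.TensorProduct.lmul' (S := B) A))) :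
    Algebra.TensorProduct.lmul' (S := B) A ξ ∈ Disc.differentSet A B := by
  intro l
  rw [mem_ann_iff] at hξ
  refine ⟨pair l ξ, fun x => ?_⟩
  rw [trace_eq_sum b, mul_comm _ x, ← sum_coord_pair b]
  refine Finset.sum_congr rfl (fun j _ => ?_)
  rw [← pair_mul_left, hξ, pair_mul_right]
  congr 1
  ring

end Basis

variable [Module.Finite A B] [Module.Free A B]

theorem mem_differentSet_of_mem_noetherDifferent {d : B} (hd : d ∈ Disc.noetherDifferent A B) :
    d ∈ Disc.differentSet A B := by
  classical
  have hsurj : Function.Surjective (Algebra.TensorProduct.lmul' (S := B) A) :=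
    fun x => ⟨x ⊗ₜ 1, by simp⟩
  have hd' : d ∈ Ideal.map (Algebra.TensorProduct.lmul' (S := B) A)
      (Submodule.annihilator (RingHom.ker (Algebra.TensorProduct.lmul' (S := B) A))) := hd
  rw [Ideal.mem_map_iff_of_surjective _ hsurj] at hd'
  obtain ⟨ξ, hξ, rfl⟩ := hd'
  exact lmul_mem_differentSet (Module.Free.chooseBasis A B) ξ hξ

theorem mul_eq_zero_of_trace_eq_zero {b₀ : B} (h : b₀ ∈ Disc.differentSet A B) (e : B)
    (he : ∀ x, Algebra.trace A B (e * x) = 0) : b₀ * e = 0 := by
  classical
  let b := Module.Free.chooseBasis A B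
  apply b.ext_elem
  intro i
  obtain ⟨c, hc⟩ := h (b.coord i)
  have := hc e
  rw [mul_comm c e, he] at this
  simpa using this

theorem sq_mem_noetherDifferent {b₀ : B} (h : b₀ ∈ Disc.differentSet A B) :
    b₀ * b₀ ∈ Disc.noetherDifferent A B := by
  classical
  have hmain := Groth.Agent.Lib.Helper27NoetherDiff.main (A := A) (B := B)
  choose c hc using fun l : Disc.Omega A B => h l.toLinearMap
  let φ : Disc.Omega A B →ₗ[B] B :=
    { toFun := fun l => b₀ * c l
      map_add' := fun l l' => by
        have := mul_eq_zero_of_trace_eq_zero h (c (l + l') - c l - c l') (fun x => by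
          rw [sub_mul, sub_mul, map_sub, map_sub, ← hc, ← hc, ← hc]
          simp)
        rw [mul_sub, mul_sub, sub_sub, sub_eq_zero] at this
        exact this
      map_smul' := fun y l => by
        have := mul_eq_zero_of_trace_eq_zero h (c (y • l) - y * c l) (fun x => by
          rw [sub_mul, map_sub, ← hc, mul_assoc, mul_comm y (c l * x), mul_assoc, ← hc,
            Disc.Omega.smul_toLinearMap_apply, sub_eq_zero]
          congr 1
          ring)
        rw [mul_sub, sub_eq_zero] at this
        rw [this, RingHom.id_apply, smul_eq_mul]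
        ring }
  have hφ : φ (Disc.Omega.trace A B) = b₀ * b₀ := by
    have := mul_eq_zero_of_trace_eq_zero h (c (Disc.Omega.trace A B) - b₀) (fun x => by
      rw [sub_mul, map_sub, ← hc, sub_eq_zero]
      rfl)
    rw [mul_sub, sub_eq_zero] at this
    exact this
  have : b₀ * b₀ ∈ (Disc.noetherDifferent A B : Set B) := by
    rw [hmain]
    exact ⟨φ, hφ⟩
  exact this

theorem main (q : Ideal B) [q.IsPrime] :
    Disc.differentSet A B ⊆ q ↔ ¬Algebra.IsUnramifiedAt A q := by
  have hloc := Groth.Agent.Lib.Helper18Disc.main (A := A) (B := B)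
  have hiff : Algebra.IsUnramifiedAt A q ↔ ¬ Disc.noetherDifferent A B ≤ q := by
    have h1 : (⟨q, inferInstance⟩ : PrimeSpectrum B) ∈ Algebra.unramifiedLocus A B ↔
        Algebra.IsUnramifiedAt A q := Iff.rfl
    have h2 : (⟨q, inferInstance⟩ : PrimeSpectrum B) ∈
        {q : PrimeSpectrum B | Disc.noetherDifferent A B ≤ q.asIdeal} ↔
        Disc.noetherDifferent A B ≤ q := Iff.rfl
    rw [← h1, ← h2, hloc, Set.mem_compl_iff, not_not]
  rw [hiff, not_not]
  constructor
  · intro h d hd
    exact h (mem_differentSet_of_mem_noetherDifferent hd)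
  · intro h b₀ hb₀
    have := h (sq_mem_noetherDifferent hb₀)
    exact (Ideal.IsPrime.mem_or_mem inferInstance this).elim id id

end Groth.Agent.Lib.H9DiffUnr
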