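import Mathlib
import Groth.Prelude
import Groth.Agent.Lib.H9Div21Alg2
import Groth.Agent.Lib.H9Div21Geo9

set_option autoImplicit false
set_option linter.style.haveILetI false
universe u

namespace Groth.Agent.Lib.H9Div21Alg3

open IsLocalRing Groth.Agent.Lib.H9Div21Alg Groth.Agent.Lib.H9Div21Alg2

/-- the local computation in the case of fibres without embedded components. -/
theorem span_eq_span_pow' {A : Type u} [CommRing A] (τ s : A)
    (hτ : τ ∈ nonZeroDivisors A) (hs : s ∈ nonZeroDivisors A) (n : ℕ)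
    (h1 : ∀ 𝔮 : Ideal A, 𝔮.IsPrime → τ ∉ 𝔮 → s ∉ 𝔮)
    (h2 : ∀ 𝔓 ∈ (Ideal.span {τ}).minimalPrimes,
      ∃ c₁ c₂ : A, c₁ ∉ 𝔓 ∧ c₂ ∉ 𝔓 ∧ c₁ * s = c₂ * τ ^ n)
    (h3 : ∀ b : A, b ∉ Ideal.span {τ} → ∃ 𝔓 ∈ (Ideal.span {τ}).minimalPrimes,
      ∀ c : A, c * b ∈ Ideal.span {τ} → c ∈ 𝔓) :
    Ideal.span {s} = Ideal.span {τ ^ n} := by
  -- Step 1: `s ∈ (τ^k)` for `k ≤ n`
  have step1 : ∀ k : ℕ, k ≤ n → s ∈ Ideal.span {τ ^ k} := by
    intro k
    induction k with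
    | zero =>
      intro _
      rw [pow_zero, Ideal.span_singleton_one]; trivial
    | succ k ih =>
      intro hk
      obtain ⟨a, ha⟩ := Ideal.mem_span_singleton'.mp (ih (Nat.le_of_succ_le hk))
      have haτ : a ∈ Ideal.span {τ} := by
        by_contra hcon
        obtain ⟨𝔓, h𝔓, hc𝔓⟩ := h3 a hcon
        obtain ⟨c₁, c₂, hc₁, hc₂, hc⟩ := h2 𝔓 h𝔓
        apply hc₁
        apply hc𝔓
        have hτk : τ ^ k ∈ nonZeroDivisors A := pow_mem hτ k
        have h4 : (c₁ * a - c₂ * τ ^ (n - k)) * τ ^ k = 0 := by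
          have : τ ^ (n - k) * τ ^ k = τ ^ n := by
            rw [← pow_add, Nat.sub_add_cancel (Nat.le_of_succ_le hk)]
          calc (c₁ * a - c₂ * τ ^ (n - k)) * τ ^ k
              = c₁ * (a * τ ^ k) - c₂ * (τ ^ (n - k) * τ ^ k) := by ring
            _ = 0 := by rw [ha, this, hc]; ring
        have h5 := sub_eq_zero.mp ((mul_right_mem_nonZeroDivisors_eq_zero_iff hτk).mp h4)
        rw [h5]
        obtain ⟨m, hm⟩ : ∃ m, n - k = m + 1 := ⟨n - k - 1, by omega⟩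
        rw [hm, pow_succ, ← mul_assoc]
        exact Ideal.mul_mem_left _ _ (Ideal.mem_span_singleton_self τ)
      obtain ⟨a', ha'⟩ := Ideal.mem_span_singleton'.mp haτ
      exact Ideal.mem_span_singleton'.mpr ⟨a', by rw [← ha, ← ha', pow_succ]; ring⟩
  obtain ⟨a, ha⟩ := Ideal.mem_span_singleton'.mp (step1 n le_rfl)
  have hτn : τ ^ n ∈ nonZeroDivisors A := pow_mem hτ n
  have hanz : a ∈ nonZeroDivisors A := by
    rw [← ha] at hs
    exact (mul_mem_nonZeroDivisors.mp hs).1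
  -- `a` is regular modulo `τ`
  have hareg : ∀ b : A, a * b ∈ Ideal.span {τ} → b ∈ Ideal.span {τ} := by
    intro b hab
    by_contra hcon
    obtain ⟨𝔓, h𝔓, hc𝔓⟩ := h3 b hcon
    obtain ⟨c₁, c₂, hc₁, hc₂, hc⟩ := h2 𝔓 h𝔓
    have ha𝔓 : a ∈ 𝔓 := hc𝔓 a hab
    apply hc₂
    have h4 : (c₁ * a - c₂) * τ ^ n = 0 := by
      calc (c₁ * a - c₂) * τ ^ n = c₁ * (a * τ ^ n) - c₂ * τ ^ n := by ring
        _ = 0 := by rw [ha, hc]; ring
    have h5 := sub_eq_zero.mp ((mul_right_mem_nonZeroDivisors_eq_zero_iff hτn).mp h4)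
    rw [← h5]
    haveI := h𝔓.1.1
    exact Ideal.mul_mem_left _ _ ha𝔓
  -- `τ` is regular modulo `a`
  have hτreg : ∀ b : A, τ * b ∈ Ideal.span {a} → b ∈ Ideal.span {a} := by
    intro b hb
    exact exchange a τ a b hanz hτ hareg hb
      (Ideal.mul_mem_right _ _ (Ideal.mem_span_singleton_self a))
  -- `τ ∈ √(a)`
  have hrad : τ ∈ (Ideal.span {a}).radical := by
    rw [Ideal.radical_eq_sInf, Ideal.mem_sInf]
    rintro 𝔮 ⟨ha𝔮, h𝔮⟩
    by_contra hτ𝔮
    apply h1 𝔮 h𝔮 hτ𝔮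
    rw [← ha]
    exact Ideal.mul_mem_right _ _ (ha𝔮 (Ideal.mem_span_singleton_self a))
  obtain ⟨m, hm⟩ := hrad
  have hone : ∀ m : ℕ, τ ^ m ∈ Ideal.span {a} → (1 : A) ∈ Ideal.span {a} := by
    intro m
    induction m with
    | zero => intro h; simpa using h
    | succ m ih =>
      intro h
      apply ih
      apply hτreg
      rw [← pow_succ']
      exact h
  have hunit : IsUnit a := by
    rw [← Ideal.span_singleton_eq_top, Ideal.eq_top_iff_one]
    exact hone m hm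
  rw [← ha]
  exact Ideal.span_singleton_mul_left_unit hunit _

/-- equality of principal ideals in a localization at a prime, pulled back. -/
theorem exists_mul_eq_of_span_eq {A A' : Type u} [CommRing A] [CommRing A'] [Algebra A A']
    (𝔓 : Ideal A) [𝔓.IsPrime] [IsLocalization.AtPrime A' 𝔓] (s r : A)
    (hr : algebraMap A A' r ∈ nonZeroDivisors A')
    (h : Ideal.span {algebraMap A A' s} = Ideal.span {algebraMap A A' r}) :
    ∃ c₁ c₂ : A, c₁ ∉ 𝔓 ∧ c₂ ∉ 𝔓 ∧ c₁ * s = c₂ * r := by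
  obtain ⟨v, hv, hsv⟩ := Groth.Agent.Lib.H9Div21Geo.exists_unit_of_span_eq _ _ hr h
  obtain ⟨⟨c₂, c₁⟩, hc⟩ := IsLocalization.surj 𝔓.primeCompl v
  have hc' : v * algebraMap A A' c₁ = algebraMap A A' c₂ := hc
  have hc₂ : c₂ ∈ 𝔓.primeCompl := by
    have hu : IsUnit (algebraMap A A' c₂) := by
      rw [← hc']
      exact hv.mul (IsLocalization.map_units A' c₁)
    exact (IsLocalization.AtPrime.isUnit_to_map_iff A' 𝔓 c₂).mp hu
  have heq : algebraMap A A' ((c₁ : A) * s) = algebraMap A A' (c₂ * r) := by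
    rw [map_mul, map_mul, hsv, ← hc']; ring
  obtain ⟨c₃, hc₃⟩ := (IsLocalization.eq_iff_exists 𝔓.primeCompl A').mp heq
  refine ⟨c₃ * c₁, c₃ * c₂, ?_, ?_, ?_⟩
  · intro hmem
    rcases Ideal.IsPrime.mem_or_mem ‹_› hmem with h1 | h1
    · exact c₃.2 h1
    · exact c₁.2 h1
  · intro hmem
    rcases Ideal.IsPrime.mem_or_mem ‹_› hmem with h1 | h1
    · exact c₃.2 h1
    · exact hc₂ h1
  · rw [mul_assoc, mul_assoc]; exact hc₃

end Groth.Agent.Lib.H9Div21Alg3
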