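import Mathlib
import Groth.Prelude
import Groth.Agent.Lib.H9Div21Geo9
import Groth.Agent.Lib.H9CodimTwo

set_option autoImplicit false
set_option linter.style.haveILetI false
universe u

namespace Groth.Agent.Lib.H9Div21Geo

open AlgebraicGeometry CategoryTheory CategoryTheory.Limits TopologicalSpace IsLocalRing
open Groth.Agent.Lib.R2H1.CartierProd Groth.Agent.Lib.H9Div21Alg Groth.Agent.Lib.H9Div21Alg2

variable {X Y : Scheme.{u}}

/-- a Noetherian local domain with nonzero principal maximal ideal has dimension one. -/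
theorem ringKrullDim_eq_one_of_principal (R : Type u) [CommRing R] [IsLocalRing R]
    [IsNoetherianRing R] [IsDomain R] (h : (maximalIdeal R).IsPrincipal)
    (hne : maximalIdeal R ≠ ⊥) : ringKrullDim R = 1 := by
  haveI : IsPrincipalIdealRing R :=
    ((tfae_of_isNoetherianRing_of_isLocalRing_of_isDomain R).out 4 0).mp h
  exact IsPrincipalIdealRing.ringKrullDim_eq_one R (isField_iff_maximalIdeal_eq.not.mpr hne)

/-- no proper generization below dimension zero. -/
theorem eq_of_specializes_of_dim_le_zero [IsLocallyNoetherian Y] {z y : Y} (h : z ⤳ y)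
    (hd : ringKrullDim (Y.presheaf.stalk y) ≤ 0) : z = y := by
  by_contra hne
  have h1 := Groth.Agent.Lib.Helper10.CodimFib.ringKrullDim_stalk_lt_of_specializes h hne
  have h2 : (0 : WithBot ℕ∞) ≤ ringKrullDim (Y.presheaf.stalk z) := ringKrullDim_nonneg_of_nontrivial
  exact absurd (h2.trans_lt (h1.trans_le hd)) (lt_irrefl _)

theorem dim_le_zero_of_lt_one (d : WithBot ℕ∞) (h : d < 1) : d ≤ 0 := by
  induction d using WithBot.recBotCoe with
  | bot => exact bot_le
  | coe n =>
    have h' : n < 1 := by exact_mod_cast h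
    have h2 : n ≤ 0 := by
      have := ENat.lt_one_iff_eq_zero.mp h'
      rw [this]
    exact_mod_cast h2

/-- The main theorem (S3839). -/
theorem main3839 [IsLocallyNoetherian X] [IsLocallyNoetherian Y] (f : X ⟶ Y) [Flat f]
    [Surjective f] (hf : QuasiCompact f ∨ IsOpenMap f) (hY : Pi1.IsNormalScheme Y)
    (hfib : ∀ y : ↥Y, ringKrullDim ↑(Y.presheaf.stalk y) = 1 → IsIntegral (f.fiber y))
    (𝓙 : X.IdealSheafData) (hJ : BlowUp.IsEffCartierIdeal 𝓙) :
    (∃ 𝓘 : Y.IdealSheafData, BlowUp.IsEffCartierIdeal 𝓘 ∧ 𝓘.comap f = 𝓙) ↔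
      ∀ η : ↥Y, (∀ z : ↥Y, z ⤳ η → z = η) → 𝓙.comap (f.fiberι η) = ⊤ := by
  constructor
  · rintro ⟨𝓘, h𝓘, rfl⟩ η hη
    haveI := (hY η).1
    have hdim := Groth.Agent.Lib.H9CodimTwo.stalk_dim_zero η hη
    haveI : Ring.KrullDimLE 0 (Y.presheaf.stalk η) :=
      ringKrullDimZero_iff_ringKrullDim_eq_zero.mpr hdim
    have hfield : IsField (Y.presheaf.stalk η) := Ring.KrullDimLE.isField_of_isDomain
    obtain ⟨a, ha, hIa⟩ := stalkIdeal_principal h𝓘 η
    have hunit : IsUnit a := by
      letI := hfield.toField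
      exact (nonZeroDivisors.ne_zero ha).isUnit
    have htop : IntMult.stalkIdeal 𝓘 η = ⊤ := by
      rw [hIa, Ideal.span_singleton_eq_top]; exact hunit
    have hnot : η ∉ 𝓘.support := by
      intro hmem
      have := Groth.Agent.Lib.H9CodimTwo.stalkIdeal_le_maximalIdeal 𝓘 η hmem
      rw [htop] at this
      exact (Ideal.IsMaximal.ne_top inferInstance) (top_le_iff.mp this)
    rw [← Scheme.IdealSheafData.comap_comp, ← Scheme.IdealSheafData.support_eq_bot_iff,
      Scheme.IdealSheafData.support_comap]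
    apply SetLike.coe_injective
    rw [TopologicalSpace.Closeds.coe_preimage]
    ext z
    simp only [Set.mem_preimage, TopologicalSpace.Closeds.coe_bot, Set.mem_empty_iff_false,
      iff_false]
    intro hz
    apply hnot
    have h1 : f.fiberι η z ∈ Set.range (f.fiberι η) := ⟨z, rfl⟩
    rw [Scheme.Hom.range_fiberι] at h1
    have h2 : (f.fiberι η ≫ f) z = η := h1
    rw [h2] at hz
    exact hz
  · intro H
    apply core_theorem f 𝓙 hf hJ
    intro y hy
    haveI := (hY y).1
    haveI := (hY y).2
    haveI : IsNoetherianRing (Y.presheaf.stalk y) := inferInstance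
    have hprin := maximalIdeal_isPrincipal_of_depth_le_one _ hy
    have hGenTop : ∀ x : X, (∀ z : Y, z ⤳ f x → z = f x) → IntMult.stalkIdeal 𝓙 x = ⊤ :=
      fun x hx => stalkIdeal_eq_top_of_comap_fiberι f 𝓙 x (H (f x) hx)
    by_cases hbot : maximalIdeal (Y.presheaf.stalk y) = ⊥
    · have hfield : IsField (Y.presheaf.stalk y) := isField_iff_maximalIdeal_eq.mpr hbot
      have hd0 : ringKrullDim (Y.presheaf.stalk y) ≤ 0 := (ringKrullDim_eq_zero_of_isField hfield).le
      refine ⟨1, fun x h => ?_⟩
      have hfx : f x = y := eq_of_specializes_of_dim_le_zero h hd0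
      rw [hGenTop x (fun z hz => by
        rw [hfx] at hz ⊢
        exact eq_of_specializes_of_dim_le_zero hz hd0), map_one, Ideal.span_singleton_one]
    · have hdim : ringKrullDim (Y.presheaf.stalk y) = 1 :=
        ringKrullDim_eq_one_of_principal _ hprin hbot
      haveI := hfib y hdim
      obtain ⟨t, ht⟩ := hprin.principal
      have ht' : maximalIdeal (Y.presheaf.stalk y) = Ideal.span {t} := ht
      have ht0 : t ≠ 0 := by
        rintro rfl
        apply hbot
        rw [ht', Ideal.span_singleton_eq_bot]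
      apply hypAt_of_dvr f 𝓙 hJ y t ht' (mem_nonZeroDivisors_of_ne_zero ht0)
      intro x h hne
      apply hGenTop x
      intro z hz
      have h1 := Groth.Agent.Lib.Helper10.CodimFib.ringKrullDim_stalk_lt_of_specializes h hne
      rw [hdim] at h1
      exact eq_of_specializes_of_dim_le_zero hz (dim_le_zero_of_lt_one _ h1)

end Groth.Agent.Lib.H9Div21Geo
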