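import Mathlib
import Groth.Prelude
import Groth.Agent.Lib.H9Div21Geo10

set_option autoImplicit false
set_option linter.style.haveILetI false
universe u

namespace Groth.Agent.Lib.H9Div21Geo

open AlgebraicGeometry CategoryTheory CategoryTheory.Limits TopologicalSpace IsLocalRing
open Groth.Agent.Lib.R2H1.CartierProd Groth.Agent.Lib.H9Div21Alg Groth.Agent.Lib.H9Div21Alg2

variable {X Y : Scheme.{u}}

/-- the ideal of global sections of the pullback of `𝓙` to `Spec O_{X,x}` corresponds to the stalk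
ideal of `𝓙` at `x`. -/
theorem map_ideal_top_comap_fromSpecStalk (𝓙 : X.IdealSheafData) (x : X) :
    ((𝓙.comap (X.fromSpecStalk x)).ideal ⟨⊤, isAffineOpen_top _⟩).map
      (Scheme.ΓSpecIso (X.presheaf.stalk x)).hom.hom = IntMult.stalkIdeal 𝓙 x := by
  have hc : X.fromSpecStalk x (closedPoint (X.presheaf.stalk x)) = x :=
    Scheme.fromSpecStalk_closedPoint
  have h1 := stalkIdeal_eq_map_germ (𝓙.comap (X.fromSpecStalk x)) ⟨⊤, isAffineOpen_top _⟩
    (closedPoint (X.presheaf.stalk x)) trivial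
  have h2 := Groth.Agent.Lib.H9EffCartDesc.stalkIdeal_comap (X.fromSpecStalk x) 𝓙
    (closedPoint (X.presheaf.stalk x))
  have h3 := germ_stalkClosedPointIso_hom (X.presheaf.stalk x)
  have h4 := Scheme.stalkClosedPointTo_fromSpecStalk x
  unfold Scheme.stalkClosedPointTo at h4
  rw [← h3, CommRingCat.hom_comp, ← Ideal.map_map, ← h1, h2, Ideal.map_map,
    ← CommRingCat.hom_comp, h4]
  exact Groth.Agent.Lib.H9CartExt.stalkIdeal_specializes 𝓙 (specializes_of_eq hc.symm)

theorem ideal_top_comap_fromSpecStalk (𝓙 : X.IdealSheafData) (x : X) :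
    (𝓙.comap (X.fromSpecStalk x)).ideal ⟨⊤, isAffineOpen_top _⟩ =
      (IntMult.stalkIdeal 𝓙 x).map (Scheme.ΓSpecIso (X.presheaf.stalk x)).inv.hom := by
  rw [← map_ideal_top_comap_fromSpecStalk 𝓙 x, Ideal.map_map, ← CommRingCat.hom_comp,
    Iso.hom_inv_id]
  exact (Ideal.map_id _).symm

end Groth.Agent.Lib.H9Div21Geo
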