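import Mathlib
import Groth.Prelude
import Groth.Agent.Lib.H9Div21Geo11
import Groth.Agent.Lib.H9Div21Alg3

set_option autoImplicit false
set_option linter.style.haveILetI false
universe u

namespace Groth.Agent.Lib.H9Div21Geo

open AlgebraicGeometry CategoryTheory CategoryTheory.Limits TopologicalSpace IsLocalRing
open Groth.Agent.Lib.R2H1.CartierProd Groth.Agent.Lib.H9Div21Alg Groth.Agent.Lib.H9Div21Alg2
open Groth.Agent.Lib.H9Div21Alg3

variable {X Y : Scheme.{u}}

/-- the maximal ideal of the local ring at a generization is associated when the corresponding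
prime is. -/
theorem isAssociatedPrime_maximalIdeal_of_specializes {W : Scheme.{u}} (z z' : W) (hsp : z' ⤳ z)
    (hass : IsAssociatedPrime (RingHom.ker (Cyc.specMap z z' hsp)) (W.presheaf.stalk z)) :
    IsAssociatedPrime (maximalIdeal (W.presheaf.stalk z')) (W.presheaf.stalk z') := by
  letI := (W.presheaf.stalkSpecializes hsp).hom.toAlgebra
  haveI hloc := Groth.Agent.Lib.R2H1.LocQuot.isLocalization_stalkSpecializes z z' hsp
  apply Module.associatedPrimes.mem_associatedPrimes_of_comap_mem_associatedPrimes_of_isLocalizedModule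
    (RingHom.ker (Cyc.specMap z z' hsp)).primeCompl
    (Algebra.linearMap (W.presheaf.stalk z) (W.presheaf.stalk z'))
  have hcm : Ideal.comap (algebraMap (W.presheaf.stalk z) (W.presheaf.stalk z'))
      (maximalIdeal (W.presheaf.stalk z')) = RingHom.ker (Cyc.specMap z z' hsp) :=
    IsLocalization.AtPrime.under_maximalIdeal _ _
  rw [hcm]
  exact hass

/-- the maximal ideal of the local ring at the point of an associated prime is associated. -/
theorem isAssociatedPrime_maximalIdeal_fromSpecStalk {W : Scheme.{u}} (z : W)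
    (Q : Ideal (W.presheaf.stalk z)) [hQ : Q.IsPrime]
    (hass : IsAssociatedPrime Q (W.presheaf.stalk z)) :
    IsAssociatedPrime (maximalIdeal (W.presheaf.stalk (W.fromSpecStalk z ⟨Q, hQ⟩)))
      (W.presheaf.stalk (W.fromSpecStalk z ⟨Q, hQ⟩)) := by
  have hsp : W.fromSpecStalk z ⟨Q, hQ⟩ ⤳ z :=
    Groth.Agent.Lib.Helper4.DimFormula.fromSpecStalk_specializes _ _
  have hker : RingHom.ker (Cyc.specMap z (W.fromSpecStalk z ⟨Q, hQ⟩) hsp) = Q :=
    Groth.Agent.Lib.R2H1.LocQuot.ker_specMap_fromSpecStalk _ Q hsp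
  apply isAssociatedPrime_maximalIdeal_of_specializes z _ hsp
  rw [hker]
  exact hass

/-- on a scheme without embedded points, annihilators of nonzero germs lie in minimal primes. -/
theorem exists_minimalPrime_of_noEmb {W : Scheme.{u}}
    (hN : ∀ z : W, IsNoetherianRing (W.presheaf.stalk z))
    (hW : ∀ z z' : W,
      IsAssociatedPrime (maximalIdeal (W.presheaf.stalk z)) (W.presheaf.stalk z) →
      IsAssociatedPrime (maximalIdeal (W.presheaf.stalk z')) (W.presheaf.stalk z') →
      z' ⤳ z → z' = z)
    (z : W) (b : W.presheaf.stalk z) (hb : b ≠ 0) :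
    ∃ P ∈ minimalPrimes (W.presheaf.stalk z), ∀ c : W.presheaf.stalk z, c * b = 0 → c ∈ P := by
  haveI := hN z
  obtain ⟨P, hP, hle⟩ := exists_le_isAssociatedPrime_of_isNoetherianRing (W.presheaf.stalk z) b hb
  haveI hPprime := hP.isPrime
  obtain ⟨P₀, hP₀min, hP₀le⟩ := Ideal.exists_minimalPrimes_le (I := ⊥) (J := P) bot_le
  haveI hP₀prime : P₀.IsPrime := hP₀min.1.1
  have hP₀ass : IsAssociatedPrime P₀ (W.presheaf.stalk z) := by
    have h := Module.associatedPrimes.minimalPrimes_annihilator_subset_associatedPrimes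
      (W.presheaf.stalk z) (W.presheaf.stalk z)
    apply h
    have hann : Module.annihilator (W.presheaf.stalk z) (W.presheaf.stalk z) = ⊥ := by
      rw [eq_bot_iff]
      intro a ha
      have := Module.mem_annihilator.mp ha 1
      simpa using this
    rw [hann]
    exact hP₀min
  have h1 := isAssociatedPrime_maximalIdeal_fromSpecStalk z P hP
  have h2 := isAssociatedPrime_maximalIdeal_fromSpecStalk z P₀ hP₀ass
  have hsp : W.fromSpecStalk z ⟨P₀, hP₀prime⟩ ⤳ W.fromSpecStalk z ⟨P, hPprime⟩ :=
    (Groth.Agent.Lib.Helper4.DimFormula.fromSpecStalk_specializes_iff z P₀ P).mpr hP₀le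
  have heq := hW _ _ h1 h2 hsp
  have hPP : P₀ = P := Groth.Agent.Lib.Helper4.DimFormula.fromSpecStalk_injective z P₀ P heq
  refine ⟨P, hPP ▸ hP₀min, fun c hc => hle ?_⟩
  rw [Submodule.mem_colon_singleton]
  simpa using hc

/-- the discrete valuation case without embedded points in the fibre: `HypAt` holds at a point `y`
whose maximal ideal is generated by a nonzerodivisor `t`, when the fibre over `y` has no embedded
associated points, `𝓙` is trivial over the proper generizations of `y`, and `𝓙` is generated by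
`t ^ n` at the maximal points of the fibre. -/
theorem hypAt_of_dvr' [IsLocallyNoetherian X] [IsLocallyNoetherian Y] (f : X ⟶ Y)
    (𝓙 : X.IdealSheafData) [Flat f]
    (hJ : BlowUp.IsEffCartierIdeal 𝓙) (y : Y) (t : Y.presheaf.stalk y)
    (ht : maximalIdeal (Y.presheaf.stalk y) = Ideal.span {t})
    (htreg : t ∈ nonZeroDivisors (Y.presheaf.stalk y))
    (hfib : ∀ z z' : f.fiber y,
      IsAssociatedPrime (maximalIdeal ((f.fiber y).presheaf.stalk z))
        ((f.fiber y).presheaf.stalk z) →
      IsAssociatedPrime (maximalIdeal ((f.fiber y).presheaf.stalk z'))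
        ((f.fiber y).presheaf.stalk z') → z' ⤳ z → z' = z)
    (hGen : ∀ x : X, f x ⤳ y → f x ≠ y → IntMult.stalkIdeal 𝓙 x = ⊤)
    (n : ℕ)
    (hmax : ∀ (x : X) (hx : f x = y), (∀ z : X, f z = y → z ⤳ x → z = x) →
      IntMult.stalkIdeal 𝓙 x = Ideal.span {psi f x (specializes_of_eq hx) t ^ n}) :
    HypAt f 𝓙 y := by
  have hfι : ∀ z : f.fiber y, f (f.fiberι y z) = y := fun z => by
    have : f.fiberι y z ∈ Set.range (f.fiberι y) := ⟨z, rfl⟩
    rw [Scheme.Hom.range_fiberι] at this; exact this
  have hsp : ∀ z : f.fiber y, f (f.fiberι y z) ⤳ y := fun z => specializes_of_eq (hfι z)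
  have hker : ∀ z : f.fiber y, RingHom.ker ((f.fiberι y).stalkMap z).hom =
      Ideal.span {psi f (f.fiberι y z) (hsp z) t} := by
    intro z
    rw [Groth.Agent.Lib.H9ModFibSch.ker_stalkMap_fiberι f y z,
      ← map_psi_maximalIdeal f (f.fiberι y z) (hsp z) (hfι z), ht, Ideal.map_span,
      Set.image_singleton]
  have hτreg : ∀ z : f.fiber y, psi f (f.fiberι y z) (hsp z) t ∈
      nonZeroDivisors (X.presheaf.stalk (f.fiberι y z)) := fun z =>
    map_mem_nonZeroDivisors_of_flat _ (flat_psi f _ (hsp z)) t htreg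
  have hNoeth : ∀ z : f.fiber y, IsNoetherianRing ((f.fiber y).presheaf.stalk z) := fun z =>
    isNoetherianRing_of_surjective _ _ ((f.fiberι y).stalkMap z).hom
      ((f.fiberι y).stalkMap_surjective z)
  refine ⟨t ^ n, ?_⟩
  intro x h
  by_cases hxy : f x = y
  · obtain ⟨z, rfl⟩ : ∃ z, f.fiberι y z = x := by
      have : x ∈ f ⁻¹' {y} := hxy
      rw [← Scheme.Hom.range_fiberι] at this
      exact this
    obtain ⟨s, hs, hJs⟩ := stalkIdeal_principal hJ (f.fiberι y z)
    rw [hJs, map_pow]
    apply span_eq_span_pow' (psi f (f.fiberι y z) h t) s (hτreg z) hs n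
    · -- primes not containing `τ`
      intro 𝔮 h𝔮 hτ𝔮 hs𝔮
      haveI := h𝔮
      set x'' := X.fromSpecStalk (f.fiberι y z) ⟨𝔮, h𝔮⟩ with hx''
      have hsp'' : x'' ⤳ f.fiberι y z :=
        Groth.Agent.Lib.Helper4.DimFormula.fromSpecStalk_specializes _ _
      have h'' : f x'' ⤳ y := (f.base.hom.map_specializes hsp'').trans h
      have hker'' : RingHom.ker (Cyc.specMap (f.fiberι y z) x'' hsp'') = 𝔮 :=
        Groth.Agent.Lib.R2H1.LocQuot.ker_specMap_fromSpecStalk _ 𝔮 hsp''
      have hne : f x'' ≠ y := by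
        intro heq
        apply hτ𝔮
        rw [← hker'', RingHom.mem_ker]
        unfold Cyc.specMap
        rw [CommRingCat.hom_comp, RingHom.comp_apply, stalkSpecializes_psi f hsp'' h h'' t]
        apply (IsLocalRing.residue_eq_zero_iff _).mpr
        apply psi_mem_maximalIdeal_of_eq f x'' h'' heq t
        rw [ht]; exact Ideal.mem_span_singleton_self t
      have h1 := hGen x'' h'' hne
      rw [← Groth.Agent.Lib.H9CartExt.stalkIdeal_specializes 𝓙 hsp'', hJs, Ideal.map_span,
        Set.image_singleton, Ideal.span_singleton_eq_top] at h1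
      have h2 : s ∈ RingHom.ker (Cyc.specMap (f.fiberι y z) x'' hsp'') := by rw [hker'']; exact hs𝔮
      rw [RingHom.mem_ker] at h2
      unfold Cyc.specMap at h2
      rw [CommRingCat.hom_comp, RingHom.comp_apply] at h2
      exact (mem_maximalIdeal _).mp ((IsLocalRing.residue_eq_zero_iff _).mp h2) h1
    · -- minimal primes over `τ`
      intro 𝔓 h𝔓
      haveI h𝔓prime : 𝔓.IsPrime := h𝔓.1.1
      set x' := X.fromSpecStalk (f.fiberι y z) ⟨𝔓, h𝔓prime⟩ with hx'
      have hsp' : x' ⤳ f.fiberι y z :=
        Groth.Agent.Lib.Helper4.DimFormula.fromSpecStalk_specializes _ _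
      have h' : f x' ⤳ y := (f.base.hom.map_specializes hsp').trans h
      have hker' : RingHom.ker (Cyc.specMap (f.fiberι y z) x' hsp') = 𝔓 :=
        Groth.Agent.Lib.R2H1.LocQuot.ker_specMap_fromSpecStalk _ 𝔓 hsp'
      have hτ𝔓 : psi f (f.fiberι y z) h t ∈ 𝔓 := h𝔓.1.2 (Ideal.mem_span_singleton_self _)
      have hfx' : f x' = y := by
        by_contra hne
        have hu := psi_isUnit_of_ne f x' t ht h' hne
        rw [← stalkSpecializes_psi f hsp' h h' t] at hu
        have hmem : psi f (f.fiberι y z) h t ∈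
            RingHom.ker (Cyc.specMap (f.fiberι y z) x' hsp') := by rw [hker']; exact hτ𝔓
        rw [RingHom.mem_ker] at hmem
        unfold Cyc.specMap at hmem
        rw [CommRingCat.hom_comp, RingHom.comp_apply] at hmem
        exact (mem_maximalIdeal _).mp ((IsLocalRing.residue_eq_zero_iff _).mp hmem) hu
      have hmaxpt : ∀ z'' : X, f z'' = y → z'' ⤳ x' → z'' = x' := by
        intro z'' hfz'' hz''
        have hz''x : z'' ⤳ f.fiberι y z := hz''.trans hsp'
        have h'' : f z'' ⤳ y := specializes_of_eq hfz''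
        have h𝔮z'' := Groth.Agent.Lib.R2H1.LocQuot.fromSpecStalk_ker_specMap (f.fiberι y z) z'' hz''x
        have h𝔮le : RingHom.ker (Cyc.specMap (f.fiberι y z) z'' hz''x) ≤ 𝔓 := by
          rw [← Groth.Agent.Lib.Helper4.DimFormula.fromSpecStalk_specializes_iff (f.fiberι y z)
            (RingHom.ker (Cyc.specMap (f.fiberι y z) z'' hz''x)) 𝔓, h𝔮z'']
          exact hz''
        have hτ𝔮 : psi f (f.fiberι y z) h t ∈
            RingHom.ker (Cyc.specMap (f.fiberι y z) z'' hz''x) := by
          rw [RingHom.mem_ker]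
          unfold Cyc.specMap
          rw [CommRingCat.hom_comp, RingHom.comp_apply, stalkSpecializes_psi f hz''x h h'' t]
          apply (IsLocalRing.residue_eq_zero_iff _).mpr
          apply psi_mem_maximalIdeal_of_eq f z'' h'' hfz'' t
          rw [ht]; exact Ideal.mem_span_singleton_self t
        have h𝔓le : 𝔓 ≤ RingHom.ker (Cyc.specMap (f.fiberι y z) z'' hz''x) :=
          h𝔓.2 ⟨inferInstance, (Ideal.span_singleton_le_iff_mem _).mpr hτ𝔮⟩ h𝔮le
        have h𝔮eq : RingHom.ker (Cyc.specMap (f.fiberι y z) z'' hz''x) = 𝔓 :=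
          le_antisymm h𝔮le h𝔓le
        rw [← h𝔮z'', hx']
        congr 1
        exact PrimeSpectrum.ext h𝔮eq
      have hJx' := hmax x' hfx' hmaxpt
      letI := (X.presheaf.stalkSpecializes hsp').hom.toAlgebra
      haveI hloc := Groth.Agent.Lib.R2H1.LocQuot.isLocalization_stalkSpecializes
        (f.fiberι y z) x' hsp'
      have hspecτ : (X.presheaf.stalkSpecializes hsp').hom (psi f (f.fiberι y z) h t) =
          psi f x' (specializes_of_eq hfx') t := stalkSpecializes_psi f hsp' h _ t
      have hspan : Ideal.span {algebraMap (X.presheaf.stalk (f.fiberι y z)) (X.presheaf.stalk x') s} =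
          Ideal.span {algebraMap (X.presheaf.stalk (f.fiberι y z)) (X.presheaf.stalk x')
            (psi f (f.fiberι y z) h t ^ n)} := by
        show Ideal.span {(X.presheaf.stalkSpecializes hsp').hom s} =
          Ideal.span {(X.presheaf.stalkSpecializes hsp').hom (psi f (f.fiberι y z) h t ^ n)}
        rw [map_pow, hspecτ, ← hJx', ← Groth.Agent.Lib.H9CartExt.stalkIdeal_specializes 𝓙 hsp', hJs,
          Ideal.map_span, Set.image_singleton]
      have hreg : algebraMap (X.presheaf.stalk (f.fiberι y z)) (X.presheaf.stalk x')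
          (psi f (f.fiberι y z) h t ^ n) ∈ nonZeroDivisors (X.presheaf.stalk x') := by
        show (X.presheaf.stalkSpecializes hsp').hom (psi f (f.fiberι y z) h t ^ n) ∈ _
        rw [map_pow, hspecτ]
        exact pow_mem (map_mem_nonZeroDivisors_of_flat _ (flat_psi f _ _) t htreg) n
      obtain ⟨c₁, c₂, hc₁, hc₂, hc⟩ := exists_mul_eq_of_span_eq
        (RingHom.ker (Cyc.specMap (f.fiberι y z) x' hsp')) s (psi f (f.fiberι y z) h t ^ n)
        hreg hspan
      rw [hker'] at hc₁ hc₂
      exact ⟨c₁, c₂, hc₁, hc₂, hc⟩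
    · -- no embedded components
      intro b hb
      have hφb : ((f.fiberι y).stalkMap z).hom b ≠ 0 := by
        intro h0
        apply hb
        have : b ∈ RingHom.ker ((f.fiberι y).stalkMap z).hom := h0
        rw [hker z] at this
        exact this
      obtain ⟨P, hP, hPc⟩ := exists_minimalPrime_of_noEmb hNoeth hfib z _ hφb
      refine ⟨P.comap ((f.fiberι y).stalkMap z).hom, ?_, ?_⟩
      · have h1 := Ideal.comap_minimalPrimes_eq_of_surjective
          (f := ((f.fiberι y).stalkMap z).hom) ((f.fiberι y).stalkMap_surjective z) ⊥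
        have h2 : Ideal.comap ((f.fiberι y).stalkMap z).hom ⊥ =
            Ideal.span {psi f (f.fiberι y z) h t} := by
          rw [← RingHom.ker_eq_comap_bot]; exact hker z
        rw [h2] at h1
        rw [h1]
        exact ⟨P, hP, rfl⟩
      · intro c hc
        rw [Ideal.mem_comap]
        apply hPc
        rw [← map_mul]
        have : c * b ∈ RingHom.ker ((f.fiberι y).stalkMap z).hom := by
          rw [hker z]; exact hc
        exact this
  · rw [hGen x h hxy, map_pow]
    symm
    rw [Ideal.span_singleton_eq_top]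
    exact (psi_isUnit_of_ne f x t ht h hxy).pow n

end Groth.Agent.Lib.H9Div21Geo
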