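import Mathlib
import Groth.Prelude
import Groth.Agent.Lib.H9Div21Geo12

set_option autoImplicit false
set_option linter.style.haveILetI false
universe u

namespace Groth.Agent.Lib.H9Div21Geo

open AlgebraicGeometry CategoryTheory CategoryTheory.Limits TopologicalSpace IsLocalRing
open Groth.Agent.Lib.R2H1.CartierProd Groth.Agent.Lib.H9Div21Alg Groth.Agent.Lib.H9Div21Alg2
open Groth.Agent.Lib.H9Div21Alg3

variable {X Y : Scheme.{u}}

/-- a pulled-back effective Cartier divisor is trivial on the fibres over maximal points of a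
normal scheme. -/
theorem comap_fiberι_eq_top_of_comap [IsLocallyNoetherian Y] (f : X ⟶ Y)
    (hY : Pi1.IsNormalScheme Y) (𝓘 : Y.IdealSheafData) (h𝓘 : BlowUp.IsEffCartierIdeal 𝓘)
    (η : Y) (hη : ∀ z : Y, z ⤳ η → z = η) : (𝓘.comap f).comap (f.fiberι η) = ⊤ := by
  haveI := (hY η).1
  have hdim := Groth.Agent.Lib.H9CodimTwo.stalk_dim_zero η hη
  haveI : Ring.KrullDimLE 0 (Y.presheaf.stalk η) :=
    ringKrullDimZero_iff_ringKrullDim_eq_zero.mpr hdim
  have hfield : IsField (Y.presheaf.stalk η) := Ring.KrullDimLE.isField_of_isDomain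
  obtain ⟨a, ha, hIa⟩ := stalkIdeal_principal h𝓘 η
  have hunit : IsUnit a := by
    letI := hfield.toField
    exact (nonZeroDivisors.ne_zero ha).isUnit
  have htop : IntMult.stalkIdeal 𝓘 η = ⊤ := by
    rw [hIa, Ideal.span_singleton_eq_top]; exact hunit
  have hnot : η ∉ 𝓘.support := by
    intro hmem
    have := Groth.Agent.Lib.H9CodimTwo.stalkIdeal_le_maximalIdeal 𝓘 η hmem
    rw [htop] at this
    exact (Ideal.IsMaximal.ne_top inferInstance) (top_le_iff.mp this)
  rw [← Scheme.IdealSheafData.comap_comp, ← Scheme.IdealSheafData.support_eq_bot_iff,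
    Scheme.IdealSheafData.support_comap]
  apply SetLike.coe_injective
  rw [TopologicalSpace.Closeds.coe_preimage]
  ext z
  simp only [Set.mem_preimage, TopologicalSpace.Closeds.coe_bot, Set.mem_empty_iff_false,
    iff_false]
  intro hz
  apply hnot
  have h1 : f.fiberι η z ∈ Set.range (f.fiberι η) := ⟨z, rfl⟩
  rw [Scheme.Hom.range_fiberι] at h1
  have h2 : (f.fiberι η ≫ f) z = η := h1
  rw [h2] at hz
  exact hz

/-- The main theorem (S5100). -/
theorem main5100 [IsLocallyNoetherian X] [IsLocallyNoetherian Y] (f : X ⟶ Y) [Flat f]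
    [Surjective f] (hf : QuasiCompact f ∨ IsOpenMap f) (hY : Pi1.IsNormalScheme Y)
    (hfib : ∀ y : ↥Y, ringKrullDim ↑(Y.presheaf.stalk y) = 1 → ∀ z z' : ↥(f.fiber y),
      IsAssociatedPrime (IsLocalRing.maximalIdeal ↑((f.fiber y).presheaf.stalk z))
        ↑((f.fiber y).presheaf.stalk z) →
      IsAssociatedPrime (IsLocalRing.maximalIdeal ↑((f.fiber y).presheaf.stalk z'))
        ↑((f.fiber y).presheaf.stalk z') →
      z' ⤳ z → z' = z)
    (𝓙 : X.IdealSheafData) (hJ : BlowUp.IsEffCartierIdeal 𝓙) :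
    (∃ 𝓘 : Y.IdealSheafData, BlowUp.IsEffCartierIdeal 𝓘 ∧ 𝓘.comap f = 𝓙) ↔
      ((∀ η : ↥Y, (∀ z : ↥Y, z ⤳ η → z = η) → 𝓙.comap (f.fiberι η) = ⊤) ∧
        ∀ y : ↥Y, ringKrullDim ↑(Y.presheaf.stalk y) = 1 → ∃ n : ℕ, ∀ t : ↑(Y.presheaf.stalk y),
          IsLocalRing.maximalIdeal ↑(Y.presheaf.stalk y) = Ideal.span {t} →
          ∀ (x : ↥X) (hx : f x = y), (∀ z : ↥X, f z = y → z ⤳ x → z = x) →
            (𝓙.comap (X.fromSpecStalk x)).ideal ⟨⊤, isAffineOpen_top _⟩ =
              Ideal.span {(Scheme.ΓSpecIso (X.presheaf.stalk x)).inv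
                (((f.stalkMap x).hom ((Y.presheaf.stalkCongr (.of_eq hx.symm)).hom t)) ^ n)}) := by
  constructor
  · rintro ⟨𝓘, h𝓘, rfl⟩
    refine ⟨fun η hη => comap_fiberι_eq_top_of_comap f hY 𝓘 h𝓘 η hη, ?_⟩
    intro y hdim
    haveI := (hY y).1
    haveI : IsNoetherianRing (Y.presheaf.stalk y) := inferInstance
    by_cases hex : ∃ t₀ : Y.presheaf.stalk y, maximalIdeal (Y.presheaf.stalk y) = Ideal.span {t₀}
    · obtain ⟨t₀, ht₀⟩ := hex
      obtain ⟨a, ha, hIa⟩ := stalkIdeal_principal h𝓘 y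
      obtain ⟨n, w, hw, hawn⟩ := exists_unit_mul_pow t₀ ht₀ a (nonZeroDivisors.ne_zero ha)
      refine ⟨n, ?_⟩
      intro t ht x hx _
      have ht₀ne : t₀ ≠ 0 := by
        rintro rfl
        have hbot : maximalIdeal (Y.presheaf.stalk y) = ⊥ := by
          rw [ht₀, Ideal.span_singleton_eq_bot]
        have hfield : IsField (Y.presheaf.stalk y) := isField_iff_maximalIdeal_eq.mpr hbot
        have hd0 := ringKrullDim_eq_zero_of_isField hfield
        rw [hdim] at hd0
        exact one_ne_zero hd0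
      obtain ⟨v, hv, htv⟩ := exists_unit_of_span_eq t t₀ (mem_nonZeroDivisors_of_ne_zero ht₀ne)
        (ht.symm.trans ht₀)
      have hIy : IntMult.stalkIdeal 𝓘 y = Ideal.span {t ^ n} := by
        rw [hIa, hawn, htv, mul_pow, Ideal.span_singleton_mul_left_unit hw,
          Ideal.span_singleton_mul_left_unit (hv.pow n)]
      have hsp : f x ⤳ y := specializes_of_eq hx
      have hJx : IntMult.stalkIdeal (𝓘.comap f) x = Ideal.span {psi f x hsp t ^ n} := by
        rw [Groth.Agent.Lib.H9EffCartDesc.stalkIdeal_comap,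
          ← Groth.Agent.Lib.H9CartExt.stalkIdeal_specializes 𝓘 hsp, hIy, Ideal.map_map,
          Ideal.map_span, Set.image_singleton, map_pow]
        rfl
      rw [ideal_top_comap_fromSpecStalk, hJx, Ideal.map_span, Set.image_singleton]
      rfl
    · refine ⟨0, fun t ht => absurd ⟨t, ht⟩ hex⟩
  · rintro ⟨H1, H2⟩
    apply core_theorem f 𝓙 hf hJ
    intro y hy
    haveI := (hY y).1
    haveI := (hY y).2
    haveI : IsNoetherianRing (Y.presheaf.stalk y) := inferInstance
    have hprin := maximalIdeal_isPrincipal_of_depth_le_one _ hy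
    have hGenTop : ∀ x : X, (∀ z : Y, z ⤳ f x → z = f x) → IntMult.stalkIdeal 𝓙 x = ⊤ :=
      fun x hx => stalkIdeal_eq_top_of_comap_fiberι f 𝓙 x (H1 (f x) hx)
    by_cases hbot : maximalIdeal (Y.presheaf.stalk y) = ⊥
    · have hfield : IsField (Y.presheaf.stalk y) := isField_iff_maximalIdeal_eq.mpr hbot
      have hd0 : ringKrullDim (Y.presheaf.stalk y) ≤ 0 := (ringKrullDim_eq_zero_of_isField hfield).le
      refine ⟨1, fun x h => ?_⟩
      have hfx : f x = y := eq_of_specializes_of_dim_le_zero h hd0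
      rw [hGenTop x (fun z hz => by
        rw [hfx] at hz ⊢
        exact eq_of_specializes_of_dim_le_zero hz hd0), map_one, Ideal.span_singleton_one]
    · have hdim : ringKrullDim (Y.presheaf.stalk y) = 1 :=
        ringKrullDim_eq_one_of_principal _ hprin hbot
      obtain ⟨t, ht⟩ := hprin.principal
      have ht' : maximalIdeal (Y.presheaf.stalk y) = Ideal.span {t} := ht
      have ht0 : t ≠ 0 := by
        rintro rfl
        apply hbot
        rw [ht', Ideal.span_singleton_eq_bot]
      obtain ⟨n, hn⟩ := H2 y hdim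
      apply hypAt_of_dvr' f 𝓙 hJ y t ht' (mem_nonZeroDivisors_of_ne_zero ht0) (hfib y hdim) _ n
      · intro x hx hmaxpt
        have h1 := hn t ht' x hx hmaxpt
        rw [← map_ideal_top_comap_fromSpecStalk 𝓙 x, h1, Ideal.map_span, Set.image_singleton]
        congr 2
        show ((Scheme.ΓSpecIso (X.presheaf.stalk x)).inv ≫
          (Scheme.ΓSpecIso (X.presheaf.stalk x)).hom).hom _ = _
        rw [Iso.inv_hom_id]
        rfl
      · intro x h hne
        apply hGenTop x
        intro z hz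
        have h1 := Groth.Agent.Lib.Helper10.CodimFib.ringKrullDim_stalk_lt_of_specializes h hne
        rw [hdim] at h1
        exact eq_of_specializes_of_dim_le_zero hz (dim_le_zero_of_lt_one _ h1)

end Groth.Agent.Lib.H9Div21Geo
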