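import Groth.Agent.Lib.H9ModPair6
import Groth.Agent.Lib.H9ModPair2
import Groth.Agent.Lib.Helper20EffCartier

/-! helper9: descending sections, divisibility relations and inclusions of locally principal ideal
sheaves along cofiltered limits with affine transitions; descent of ambient morphisms (S18745). -/

set_option autoImplicit false
universe u
open CategoryTheory CategoryTheory.Limits AlgebraicGeometry TopologicalSpace

namespace Groth.Agent.Lib.H9ModPair7

section Part1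

variable {I : Type u} [SmallCategory I] [IsCofiltered I] (D : I ⥤ Scheme.{u}) (c : Cone D)
  (hc : IsLimit c)

theorem res_injective {X : Scheme.{u}} {V W : X.Opens} (h : V ≤ W) (h' : W ≤ V) :
    Function.Injective (X.presheaf.map (homOfLE h).op) := by
  intro a b hab
  have := congrArg (X.presheaf.map (homOfLE h').op) hab
  rw [← ConcreteCategory.comp_apply, ← ConcreteCategory.comp_apply, ← Functor.map_comp] at this
  have h2 : (homOfLE h).op ≫ (homOfLE h').op = 𝟙 _ := Subsingleton.elim _ _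
  rw [h2, CategoryTheory.Functor.map_id] at this
  simpa using this

include hc in
/-- sections of the limit over the preimage of an affine open come from a finite level -/
theorem exists_appLE_eq [∀ {i j} (f : i ⟶ j), IsAffineHom (D.map f)] (i : I)
    {U : (D.obj i).Opens} (hU : IsAffineOpen U) (s : Γ(c.pt, c.π.app i ⁻¹ᵁ U)) :
    ∃ (j : I) (f : j ⟶ i) (t : Γ(D.obj j, D.map f ⁻¹ᵁ U)),
      (c.π.app j).appLE (D.map f ⁻¹ᵁ U) (c.π.app i ⁻¹ᵁ U)
        (by rw [← Scheme.Hom.comp_preimage, c.w]) t = s := by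
  have (j : Over i) : IsAffine ((opensDiagram D i U).obj j) := hU.preimage (D.map _)
  have H0 : (c.π.app i ⁻¹ᵁ U).ι ''ᵁ ⊤ ≤ c.π.app i ⁻¹ᵁ U := by simp
  obtain ⟨j, t, hj⟩ := exists_appTop_π_eq_of_isAffine_of_isLimit _ _
    (isLimitOpensCone D c hc i U) (c.pt.presheaf.map (homOfLE H0).op s)
  have H1 : D.map j.hom ⁻¹ᵁ U ≤ (D.map j.hom ⁻¹ᵁ U).ι ''ᵁ ⊤ := by simp
  refine ⟨j.left, j.hom, (D.obj j.left).presheaf.map (homOfLE H1).op t, ?_⟩
  have hinj : Function.Injective (c.pt.presheaf.map (homOfLE H0).op) :=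
    res_injective H0 (by simp)
  apply hinj
  rw [← hj]
  simp only [Scheme.Hom.appTop, Scheme.Hom.app_eq_appLE, opensCone_π_app,
    ← ConcreteCategory.comp_apply]
  congr 2
  have key := Scheme.Hom.resLE_appLE (c.π.app j.left) (U := D.map j.hom ⁻¹ᵁ U)
    (V := c.π.app i ⁻¹ᵁ U) (by rw [← Scheme.Hom.comp_preimage, c.w]) ⊤ ⊤ (by simp)
  refine Eq.trans ?_ key.symm
  rw [Scheme.Hom.map_appLE]
  exact Scheme.Hom.appLE_map _ _ _

theorem appLE_of_eq {X Y : Scheme.{u}} {f g : X ⟶ Y} (h : f = g) (U : Y.Opens) (V : X.Opens)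
    (e : V ≤ f ⁻¹ᵁ U) : f.appLE U V e = g.appLE U V (h ▸ e) := by
  subst h
  rfl

include hc in
/-- descending a divisibility relation between sections over an affine open to a finite level -/
theorem exists_mem_span [∀ {i j} (f : i ⟶ j), IsAffineHom (D.map f)] (i : I)
    {U : (D.obj i).Opens} (hU : IsAffineOpen U) (a b : Γ(D.obj i, U))
    (h : (c.π.app i).app U a ∈ Ideal.span {(c.π.app i).app U b}) :
    ∃ (j : I) (f : j ⟶ i), (D.map f).app U a ∈ Ideal.span {(D.map f).app U b} := by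
  obtain ⟨s, hs⟩ := Ideal.mem_span_singleton'.mp h
  obtain ⟨j, f, t, ht⟩ := exists_appLE_eq D c hc i hU s
  have e : c.π.app i ⁻¹ᵁ U ≤ c.π.app j ⁻¹ᵁ (D.map f ⁻¹ᵁ U) := by
    rw [← Scheme.Hom.comp_preimage, c.w]
  have e' : c.π.app j ⁻¹ᵁ (D.map f ⁻¹ᵁ U) ≤ c.π.app i ⁻¹ᵁ U := by
    rw [← Scheme.Hom.comp_preimage, c.w]
  have hE : ∀ x : Γ(D.obj i, U), (c.π.app j).appLE (D.map f ⁻¹ᵁ U) (c.π.app i ⁻¹ᵁ U) e
      ((D.map f).app U x) = (c.π.app i).app U x := by
    intro x
    rw [Scheme.Hom.app_eq_appLE, ← ConcreteCategory.comp_apply, Scheme.Hom.appLE_comp_appLE,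
      appLE_of_eq (c.w f), Scheme.Hom.app_eq_appLE]
  have h1 : (c.π.app j).appLE (D.map f ⁻¹ᵁ U) (c.π.app i ⁻¹ᵁ U) e (t * (D.map f).app U b) =
      (c.π.app j).appLE (D.map f ⁻¹ᵁ U) (c.π.app i ⁻¹ᵁ U) e ((D.map f).app U a) := by
    rw [map_mul, hE, hE, ht, hs]
  have h2 : (c.π.app j).app (D.map f ⁻¹ᵁ U) (t * (D.map f).app U b) =
      (c.π.app j).app (D.map f ⁻¹ᵁ U) ((D.map f).app U a) := by
    apply res_injective e e'
    simp only [Scheme.Hom.appLE, CommRingCat.comp_apply] at h1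
    exact h1
  obtain ⟨k, g, hk⟩ := exists_app_map_eq_map_of_isLimit D c hc (hU.preimage (D.map f)).isCompact
    _ _ h2
  refine ⟨k, g ≫ f, ?_⟩
  rw [D.map_comp, Scheme.Hom.comp_app]
  show (D.map g).app (D.map f ⁻¹ᵁ U) ((D.map f).app U a) ∈
    Ideal.span {((D.map g).app (D.map f ⁻¹ᵁ U) ((D.map f).app U b) :
      Γ(D.obj k, D.map g ⁻¹ᵁ D.map f ⁻¹ᵁ U))}
  rw [← hk, map_mul]
  exact Ideal.mul_mem_left _ _ (Ideal.subset_span rfl)

end Part1

section Part2

variable {I : Type u} [SmallCategory I] [IsCofiltered I] (D : I ⥤ Scheme.{u}) (c : Cone D)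
  (hc : IsLimit c)

theorem mem_span_comp {i j k : I} (f : j ⟶ i) (g : k ⟶ j) {U : (D.obj i).Opens}
    (a b : Γ(D.obj i, U)) (h : (D.map f).app U a ∈ Ideal.span {(D.map f).app U b}) :
    (D.map (g ≫ f)).app U a ∈ Ideal.span {(D.map (g ≫ f)).app U b} := by
  obtain ⟨s, hs⟩ := Ideal.mem_span_singleton'.mp h
  rw [D.map_comp, Scheme.Hom.comp_app]
  show (D.map g).app (D.map f ⁻¹ᵁ U) ((D.map f).app U a) ∈
    Ideal.span {((D.map g).app (D.map f ⁻¹ᵁ U) ((D.map f).app U b) :
      Γ(D.obj k, D.map g ⁻¹ᵁ D.map f ⁻¹ᵁ U))}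
  rw [← hs, map_mul]
  exact Ideal.mul_mem_left _ _ (Ideal.subset_span rfl)

/-- ideal of a pulled back ideal sheaf on the preimage of an affine open with principal ideal -/
theorem comap_ideal_preimage {X Y : Scheme.{u}} (g : X ⟶ Y) (A : Y.IdealSheafData)
    {U : Y.Opens} (hU : IsAffineOpen U) (hU' : IsAffineOpen (g ⁻¹ᵁ U)) (a : Γ(Y, U))
    (hA : A.ideal ⟨U, hU⟩ = Ideal.span {a}) :
    (A.comap g).ideal ⟨g ⁻¹ᵁ U, hU'⟩ = Ideal.span {g.app U a} := by
  rw [Groth.Agent.Lib.Helper20.EffCartier.ideal_comap_eq_map g A hU' hU le_rfl, hA, Ideal.map_span,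
    Set.image_singleton, Scheme.Hom.appLE_eq_app]

include hc in
/-- descending an inclusion of locally principal ideal sheaves to a finite level -/
theorem exists_comap_le [∀ {i j} (f : i ⟶ j), IsAffineHom (D.map f)] (i : I)
    [CompactSpace (D.obj i)] (A B : (D.obj i).IdealSheafData)
    (hloc : ∀ x : D.obj i, ∃ (U : (D.obj i).affineOpens), x ∈ U.1 ∧ ∃ a b : Γ(D.obj i, U.1),
      A.ideal U = Ideal.span {a} ∧ B.ideal U = Ideal.span {b})
    (h : A.comap (c.π.app i) ≤ B.comap (c.π.app i)) :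
    ∃ (k : I) (F : k ⟶ i), A.comap (D.map F) ≤ B.comap (D.map F) := by
  classical
  have := isAffineHom_π_app D c hc
  choose U hxU a b hA hB using hloc
  have hP : ∀ x, ∃ (j : I) (f : j ⟶ i),
      (D.map f).app (U x).1 (a x) ∈ Ideal.span {(D.map f).app (U x).1 (b x)} := by
    intro x
    apply exists_mem_span D c hc i (U x).2
    have haff : IsAffineOpen (c.π.app i ⁻¹ᵁ (U x).1) := (U x).2.preimage _
    have h1 := h ⟨_, haff⟩
    rw [comap_ideal_preimage (c.π.app i) A (U x).2 haff (a x) (hA x),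
      comap_ideal_preimage (c.π.app i) B (U x).2 haff (b x) (hB x)] at h1
    exact h1 (Ideal.subset_span rfl)
  choose j f hjf using hP
  obtain ⟨σ, hσ⟩ := CompactSpace.elim_nhds_subcover (fun x => ((U x).1 : Set (D.obj i)))
    (fun x => (U x).1.2.mem_nhds (hxU x))
  have hQ : ∀ τ : Finset (D.obj i), ∃ (k : I) (F : k ⟶ i), ∀ x ∈ τ,
      (D.map F).app (U x).1 (a x) ∈ Ideal.span {(D.map F).app (U x).1 (b x)} := by
    intro τ
    induction τ using Finset.induction_on with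
    | empty => exact ⟨i, 𝟙 i, by simp⟩
    | insert x τ hx ih =>
      obtain ⟨k, F, hF⟩ := ih
      let k' := IsCofiltered.min k (j x)
      let g₁ : k' ⟶ k := IsCofiltered.minToLeft k (j x)
      let g₂ : k' ⟶ j x := IsCofiltered.minToRight k (j x)
      let e := IsCofiltered.eqHom (g₁ ≫ F) (g₂ ≫ f x)
      have he : e ≫ g₁ ≫ F = e ≫ g₂ ≫ f x := IsCofiltered.eq_condition _ _
      refine ⟨_, e ≫ g₁ ≫ F, ?_⟩
      intro y hy
      rcases Finset.mem_insert.mp hy with rfl | hy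
      · rw [he, ← Category.assoc]
        exact mem_span_comp D _ _ _ _ (hjf y)
      · rw [← Category.assoc]
        exact mem_span_comp D _ _ _ _ (hF y hy)
  obtain ⟨k, F, hF⟩ := hQ σ
  refine ⟨k, F, ?_⟩
  refine Groth.Agent.Lib.H9ModPair2.le_of_cover
    (fun x : σ => ⟨D.map F ⁻¹ᵁ (U x.1).1, (U x.1).2.preimage _⟩) ?_ _ _ ?_
  · rw [eq_top_iff]
    intro y _
    have hy : (D.map F).base y ∈ ⋃ x ∈ σ, ((U x).1 : Set (D.obj i)) := by
      rw [hσ]; trivial
    obtain ⟨x, hx, hyx⟩ := Set.mem_iUnion₂.mp hy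
    exact Opens.mem_iSup.mpr ⟨⟨x, hx⟩, hyx⟩
  · intro x
    rw [comap_ideal_preimage (D.map F) A (U x.1).2 _ (a x.1) (hA x.1),
      comap_ideal_preimage (D.map F) B (U x.1).2 _ (b x.1) (hB x.1),
      Ideal.span_singleton_le_iff_mem]
    exact hF x.1 x.2

end Part2

section Part3

theorem main {S : Scheme.{u}}
    [CompactSpace S] [QuasiSeparatedSpace S] {I : Type u} [SmallCategory I] [IsCofiltered I]
    (D : I ⥤ Over S) (c : Cone D) (hc : IsLimit c)
    [∀ (i j : I) (t : i ⟶ j), IsAffineHom (D.map t).left]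
    [∀ i, CompactSpace (D.obj i).left] [∀ i, QuasiSeparatedSpace (D.obj i).left]
    (J : ∀ i, (D.obj i).left.IdealSheafData) (hJ : ∀ i, BlowUp.IsEffCartierIdeal (J i))
    (hmin : ∀ (i j : I) (t : i ⟶ j), ModPair.IsMinimal (J i) (J j) (D.map t).left)
    (IX : c.pt.left.IdealSheafData) (hIX : ∀ i, IX = (J i).comap (c.π.app i).left)
    (Y : Over S) [CompactSpace Y.left] [QuasiSeparatedSpace Y.left] [LocallyOfFiniteType Y.hom]
    (IY : Y.left.IdealSheafData) (hY : BlowUp.IsEffCartierIdeal IY)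
    (h : (∀ (i j : I) (t : i ⟶ j), IsSchemeTheoreticallyDominant (D.map t).left) ∨
      LocallyOfFinitePresentation Y.hom)
    (φ : c.pt ⟶ Y) (hφ : ModPair.IsAmbient IX IY φ.left) :
    ∃ (i : I) (φi : D.obj i ⟶ Y), ModPair.IsAmbient (J i) IY φi.left ∧ c.π.app i ≫ φi = φ := by
  have : IsConnected I := IsCofiltered.isConnected I
  let D' : I ⥤ Scheme.{u} := D ⋙ Over.forget S
  let c' : Cone D' := (Over.forget S).mapCone c
  have hc' : IsLimit c' := isLimitOfPreserves (Over.forget S) hc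
  let t' : D' ⟶ (Functor.const I).obj S :=
    { app := fun i => (D.obj i).hom
      naturality := fun i j f => by
        simp only [Functor.const_obj_obj, Functor.const_obj_map, Category.comp_id]
        exact Over.w (D.map f) }
  have hA : ∀ {i j : I} (f : i ⟶ j), IsAffineHom (D'.map f) := fun {i j} f =>
    inferInstanceAs (IsAffineHom (D.map f).left)
  have hC : ∀ i, CompactSpace (D'.obj i) := fun i => inferInstanceAs (CompactSpace (D.obj i).left)
  have hQ : ∀ i, QuasiSeparatedSpace (D'.obj i) := fun i =>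
    inferInstanceAs (QuasiSeparatedSpace (D.obj i).left)
  -- step 1: descend the morphism
  obtain ⟨i₀, φ₀, hφ₀⟩ : ∃ (i : I) (φi : D.obj i ⟶ Y), c.π.app i ≫ φi = φ := by
    rcases h with h | h
    · haveI := h
      exact (Groth.Agent.Lib.H9ModPair6.main D c hc Y).1 φ
    · obtain ⟨i, g, hg1, hg2⟩ := Scheme.exists_π_app_comp_eq_of_locallyOfFinitePresentation D' t'
        Y.hom c' hc' φ.left (by
          ext i
          simp only [NatTrans.comp_app, Functor.const_obj_obj, Functor.const_map_app]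
          show (c.π.app i).left ≫ (D.obj i).hom = φ.left ≫ Y.hom
          rw [Over.w, Over.w]
          rfl)
      refine ⟨i, Over.homMk g hg2, ?_⟩
      ext1
      exact hg1
  -- step 2: descend the modulus condition
  have hloc : ∀ x : (D.obj i₀).left, ∃ (U : (D.obj i₀).left.affineOpens), x ∈ U.1 ∧
      ∃ a b : Γ((D.obj i₀).left, U.1),
        (J i₀).ideal U = Ideal.span {a} ∧ (IY.comap φ₀.left).ideal U = Ideal.span {b} := by
    intro x
    obtain ⟨V, hV, hxV, -, y, -, hy⟩ :=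
      Groth.Agent.Lib.Helper20.EffCartier.exists_le_of_isEffCartierIdeal hY (φ₀.left.base x) ⊤ trivial
    obtain ⟨U, hU, hxU, hUW, a, -, ha⟩ :=
      Groth.Agent.Lib.Helper20.EffCartier.exists_le_of_isEffCartierIdeal (hJ i₀) x (φ₀.left ⁻¹ᵁ V) hxV
    refine ⟨⟨U, hU⟩, hxU, a, φ₀.left.appLE V U hUW y, ha, ?_⟩
    rw [Groth.Agent.Lib.Helper20.EffCartier.ideal_comap_eq_map φ₀.left IY hU hV hUW, hy,
      Ideal.map_span, Set.image_singleton]
  have hle : (J i₀).comap (c'.π.app i₀) ≤ (IY.comap φ₀.left).comap (c'.π.app i₀) := by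
    have h1 : (J i₀).comap (c'.π.app i₀) = IX := (hIX i₀).symm
    have h2 : (IY.comap φ₀.left).comap (c'.π.app i₀) = IY.comap φ.left := by
      rw [← hφ₀, Over.comp_left, Scheme.IdealSheafData.comap_comp]
      rfl
    rw [h1, h2]
    exact hφ
  obtain ⟨k, F, hF⟩ := exists_comap_le D' c' hc' i₀ (J i₀)
    (IY.comap φ₀.left) hloc hle
  refine ⟨k, D.map F ≫ φ₀, ?_, ?_⟩
  · show J k ≤ IY.comap (D.map F ≫ φ₀).left
    rw [Over.comp_left, Scheme.IdealSheafData.comap_comp, hmin k i₀ F]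
    exact hF
  · rw [← Category.assoc, c.w, hφ₀]

end Part3

end Groth.Agent.Lib.H9ModPair7
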