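import Mathlib
import Groth.Prelude.Def_BlowUp2
import Groth.Agent.Lib.Helper20BlowUp
import Groth.Agent.Lib.Helper20EffCartier
import Groth.Agent.Lib.Helper22IdealComap
import Groth.Agent.Lib.H9BlowComp
import Groth.Agent.Lib.H9BlowProper
import Groth.Agent.Lib.H9ModPair7

set_option autoImplicit false
universe u
open nonZeroDivisors CategoryTheory CategoryTheory.Limits AlgebraicGeometry TopologicalSpace Opposite

namespace Groth.Agent.Lib.H9StrictCI

variable {P : Scheme.{u}}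

/-- the ideal sheaf is locally generated by one section. -/
def IsLP (𝓔 : P.IdealSheafData) : Prop :=
  ∀ x : P, ∃ V : P.affineOpens, x ∈ V.1 ∧ ∃ t : Γ(P, V.1), 𝓔.ideal V = Ideal.span {t}

theorem isLP_of_effCartier {𝓔 : P.IdealSheafData} (h : BlowUp.IsEffCartierIdeal 𝓔) : IsLP 𝓔 := by
  intro x
  obtain ⟨V, hxV, t, -, ht⟩ := h x
  exact ⟨V, hxV, t, ht⟩

theorem isLP_small {𝓔 : P.IdealSheafData} (h : IsLP 𝓔) (x : P) (O : P.Opens) (hx : x ∈ O) :
    ∃ V : P.affineOpens, x ∈ V.1 ∧ V.1 ≤ O ∧ ∃ t : Γ(P, V.1), 𝓔.ideal V = Ideal.span {t} := by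
  obtain ⟨U', hxU', a, hIa⟩ := h x
  obtain ⟨r, hrW, hxr⟩ := U'.2.exists_basicOpen_le ⟨x, hx⟩ hxU'
  refine ⟨P.affineBasicOpen r, hxr, hrW,
    (P.presheaf.map (homOfLE (P.basicOpen_le r)).op).hom a, ?_⟩
  have h2 := 𝓔.map_ideal_basicOpen U' r
  rw [hIa, Ideal.map_span, Set.image_singleton] at h2
  exact h2.symm

theorem isLP_comap {T : Scheme.{u}} {𝓔 : P.IdealSheafData} (h : IsLP 𝓔) (g : T ⟶ P) :
    IsLP (𝓔.comap g) := by
  intro x
  obtain ⟨V, hxV, t, ht⟩ := h (g x)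
  obtain ⟨W, hW, hxW, hWV⟩ := exists_isAffineOpen_mem_and_subset (x := x) (U := g ⁻¹ᵁ V.1) hxV
  refine ⟨⟨W, hW⟩, hxW, (g.appLE V.1 W hWV).hom t, ?_⟩
  rw [Groth.Agent.Lib.Helper22.IdealComap.ideal_comap_eq_map g 𝓔 ⟨W, hW⟩ V hWV, ht, Ideal.map_span,
    Set.image_singleton]

/-- the open complement of the support. -/
abbrev cmpl (𝓔 : P.IdealSheafData) : P.Opens := 𝓔.support.compl

theorem cmpl_inf_eq_basicOpen (𝓔 : P.IdealSheafData) (V : P.affineOpens) (a : Γ(P, V.1))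
    (ha : 𝓔.ideal V = Ideal.span {a}) : cmpl 𝓔 ⊓ V.1 = P.basicOpen a := by
  ext x
  constructor
  · rintro ⟨hx, hxV⟩
    have hx' : x ∉ 𝓔.support := hx
    rw [Scheme.IdealSheafData.mem_support_iff_of_mem (U := V) hxV, ha, Scheme.zeroLocus_span,
      Scheme.zeroLocus_singleton] at hx'
    simpa using hx'
  · intro hx
    have hxV : x ∈ V.1 := P.basicOpen_le a hx
    refine ⟨?_, hxV⟩
    show x ∉ 𝓔.support
    rw [Scheme.IdealSheafData.mem_support_iff_of_mem (U := V) hxV, ha, Scheme.zeroLocus_span,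
      Scheme.zeroLocus_singleton]
    simpa using hx

theorem ι_image_preimage (D V : P.Opens) : D.ι ''ᵁ (D.ι ⁻¹ᵁ V) = D ⊓ V := by
  rw [Scheme.Hom.image_preimage_eq_opensRange_inf, Scheme.Opens.opensRange_ι]

set_option backward.isDefEq.respectTransparency false in
theorem quasiCompact_cmpl_ι {𝓔 : P.IdealSheafData} (hE : IsLP 𝓔) : QuasiCompact (cmpl 𝓔).ι := by
  choose V hxV a ha using hE
  have hcov : ⨆ x : P, ((V x : P.affineOpens) : P.Opens) = ⊤ := by
    rw [eq_top_iff]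
    intro x _
    exact Opens.mem_iSup.mpr ⟨x, hxV x⟩
  apply IsZariskiLocalAtTarget.of_iSup_eq_top (P := @QuasiCompact) (fun x => (V x).1) hcov
  intro x
  have : IsAffine ((V x).1 : Scheme.{u}) := (V x).2
  rw [HasAffineProperty.iff_of_isAffine (P := @QuasiCompact)]
  show CompactSpace ↥((cmpl 𝓔).ι ⁻¹ᵁ (V x).1)
  refine (isCompact_iff_compactSpace
    (s := (((cmpl 𝓔).ι ⁻¹ᵁ (V x).1 : (cmpl 𝓔).toScheme.Opens) : Set (cmpl 𝓔).toScheme))).mp ?_
  have hemb := (cmpl 𝓔).ι.isOpenEmbedding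
  rw [hemb.isInducing.isCompact_iff]
  have h1 : ((cmpl 𝓔).ι '' (((cmpl 𝓔).ι ⁻¹ᵁ (V x).1 : (cmpl 𝓔).toScheme.Opens) : Set (cmpl 𝓔).toScheme)) =
      ((P.basicOpen (a x) : P.Opens) : Set P) := by
    have := ι_image_preimage (cmpl 𝓔) (V x).1
    rw [cmpl_inf_eq_basicOpen 𝓔 (V x) (a x) (ha x)] at this
    exact congrArg (fun W : P.Opens => (W : Set P)) this
  rw [h1]
  exact ((V x).2.basicOpen (a x)).isCompact

theorem map_eq_zero_iff_of_eq {V W₁ W₂ : P.Opens} (h₁ : W₁ ≤ V) (h₂ : W₂ ≤ V) (h : W₁ = W₂)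
    (m : Γ(P, V)) :
    P.presheaf.map (homOfLE h₁).op m = 0 ↔ P.presheaf.map (homOfLE h₂).op m = 0 := by
  subst h
  rfl

/-- sections of the kernel of the inclusion of the complement of a locally principal ideal: those
killed by a power of the local generator. -/
theorem mem_ker_ideal_iff {𝓔 : P.IdealSheafData} (hE : IsLP 𝓔) (V : P.affineOpens) (t : Γ(P, V.1))
    (ht : 𝓔.ideal V = Ideal.span {t}) (s : Γ(P, V.1)) :
    s ∈ (cmpl 𝓔).ι.ker.ideal V ↔ ∃ n : ℕ, t ^ n * s = 0 := by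
  haveI := quasiCompact_cmpl_ι hE
  rw [Scheme.Hom.ker_apply, RingHom.mem_ker, Scheme.Opens.ι_app]
  have hle : (cmpl 𝓔).ι ''ᵁ ((cmpl 𝓔).ι ⁻¹ᵁ V.1) ≤ V.1 := by
    rw [ι_image_preimage]; exact inf_le_right
  have heq : (cmpl 𝓔).ι ''ᵁ ((cmpl 𝓔).ι ⁻¹ᵁ V.1) = P.basicOpen t := by
    rw [ι_image_preimage, cmpl_inf_eq_basicOpen 𝓔 V t ht]
  change P.presheaf.map (homOfLE hle).op s = 0 ↔ _
  rw [map_eq_zero_iff_of_eq hle (P.basicOpen_le t) heq]
  haveI := V.2.isLocalization_basicOpen t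
  have h1 : (P.presheaf.map (homOfLE (P.basicOpen_le t)).op).hom = algebraMap _ _ := rfl
  change (P.presheaf.map (homOfLE (P.basicOpen_le t)).op).hom s = 0 ↔ _
  rw [h1, IsLocalization.map_eq_zero_iff (Submonoid.powers t)]
  constructor
  · rintro ⟨⟨_, n, rfl⟩, hc⟩
    exact ⟨n, hc⟩
  · rintro ⟨n, hn⟩
    exact ⟨⟨t ^ n, n, rfl⟩, hn⟩


/-- the closed subscheme obtained by removing the `𝓔`-torsion: the scheme-theoretic closure of the
complement of the support of `𝓔`. -/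
noncomputable abbrev tf (𝓔 : P.IdealSheafData) : P.IdealSheafData := (cmpl 𝓔).ι.ker

/-- on the scheme-theoretic closure of the complement of a locally principal ideal, the inverse
image of that ideal is effective Cartier. -/
theorem effCartier_comap_subschemeι {𝓔 : P.IdealSheafData} (hE : IsLP 𝓔) :
    BlowUp.IsEffCartierIdeal (𝓔.comap (tf 𝓔).subschemeι) := by
  intro x
  set i := (tf 𝓔).subschemeι with hi
  obtain ⟨V, hyV, t, ht⟩ := hE (i x)
  have hV' : IsAffineOpen (i ⁻¹ᵁ V.1) := V.2.preimage i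
  refine ⟨⟨i ⁻¹ᵁ V.1, hV'⟩, hyV, (i.app V.1).hom t, ?_, ?_⟩
  · rw [mem_nonZeroDivisors_iff_right]
    intro z hz
    obtain ⟨s, rfl⟩ := (tf 𝓔).subschemeι_app_surjective V z
    have h1 : s * t ∈ RingHom.ker ((tf 𝓔).subschemeι.app V.1).hom := by
      rw [RingHom.mem_ker, map_mul]; exact hz
    rw [Scheme.IdealSheafData.ker_subschemeι_app, mem_ker_ideal_iff hE V t ht] at h1
    obtain ⟨n, hn⟩ := h1
    have h2 : s ∈ RingHom.ker ((tf 𝓔).subschemeι.app V.1).hom := by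
      rw [Scheme.IdealSheafData.ker_subschemeι_app, mem_ker_ideal_iff hE V t ht]
      refine ⟨n + 1, ?_⟩
      rw [pow_succ, mul_assoc, mul_comm t s]; exact hn
    exact h2
  · exact Groth.Agent.Lib.H9ModPair7.comap_ideal_preimage i 𝓔 V.2 hV' t ht


/-- a morphism under which the inverse image of the locally principal `𝓔` becomes effective
Cartier kills the `𝓔`-torsion. -/
theorem tf_le_ker {T : Scheme.{u}} {𝓔 : P.IdealSheafData} (hE : IsLP 𝓔) (φ : T ⟶ P)
    (hφ : BlowUp.IsEffCartierIdeal (𝓔.comap φ)) : tf 𝓔 ≤ φ.ker := by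
  change _ ≤ Scheme.IdealSheafData.ofIdeals _
  rw [Scheme.IdealSheafData.le_ofIdeals_iff]
  intro V s hs
  rw [RingHom.mem_ker]
  apply T.IsSheaf.section_ext (U := op (φ ⁻¹ᵁ V.1))
  intro w hw
  obtain ⟨V', hwV', hV'V, t, ht⟩ := isLP_small hE (φ w) V.1 hw
  obtain ⟨W, hW, hwW, hWV', d, hd, hId⟩ :=
    Groth.Agent.Lib.Helper20.EffCartier.exists_le_of_isEffCartierIdeal hφ w (φ ⁻¹ᵁ V'.1) hwV'
  have hWV : W ≤ φ ⁻¹ᵁ V.1 := hWV'.trans (fun _ h => hV'V h)
  refine ⟨W, hWV, hwW, ?_⟩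
  rw [map_zero]
  have hs' : (P.presheaf.map (homOfLE hV'V).op).hom s ∈ (tf 𝓔).ideal V' :=
    (tf 𝓔).ideal_le_comap_ideal (U := V') (V := V) hV'V hs
  obtain ⟨n, hn⟩ := (mem_ker_ideal_iff hE V' t ht _).mp hs'
  have hτ : (𝓔.comap φ).ideal ⟨W, hW⟩ = Ideal.span {(φ.appLE V'.1 W hWV').hom t} := by
    rw [Groth.Agent.Lib.Helper22.IdealComap.ideal_comap_eq_map φ 𝓔 ⟨W, hW⟩ V' hWV', ht,
      Ideal.map_span, Set.image_singleton]
  have hdτ : d ∈ Ideal.span {(φ.appLE V'.1 W hWV').hom t} := by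
    rw [← hτ, hId]; exact Ideal.mem_span_singleton_self d
  obtain ⟨v, hv⟩ := Ideal.mem_span_singleton'.mp hdτ
  have hτnzd : ∀ z, (φ.appLE V'.1 W hWV').hom t * z = 0 → z = 0 := by
    intro z hz
    apply (mem_nonZeroDivisors_iff_right.mp hd)
    rw [mul_comm, ← hv, mul_assoc, hz, mul_zero]
  have hpow : ∀ (m : ℕ) z, (φ.appLE V'.1 W hWV').hom t ^ m * z = 0 → z = 0 := by
    intro m
    induction m with
    | zero => intro z hz; simpa using hz
    | succ m ih =>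
      intro z hz
      apply ih
      apply hτnzd
      rw [← mul_assoc, ← pow_succ']; exact hz
  have h3 : (φ.appLE V'.1 W hWV').hom ((P.presheaf.map (homOfLE hV'V).op).hom s) = 0 := by
    apply hpow n
    rw [← map_pow, ← map_mul, hn, map_zero]
  have h4 : (φ.appLE V'.1 W hWV').hom ((P.presheaf.map (homOfLE hV'V).op).hom s) =
      (T.presheaf.map (homOfLE hWV).op).hom ((φ.app V.1).hom s) := by
    rw [← CommRingCat.comp_apply, Scheme.Hom.map_appLE, Scheme.Hom.appLE, CommRingCat.comp_apply]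
  rw [← h4]; exact h3


section strict
variable {X Y X' : Scheme.{u}} (𝓘 : X.IdealSheafData) (f : Y ⟶ X)
  (b : X' ⟶ X)

/-- the inverse image of the centre on the fibre product `Y ×_X X'`. -/
noncomputable abbrev sE : (pullback f b).IdealSheafData := 𝓘.comap (pullback.snd f b ≫ b)

theorem isLP_sE (hb : BlowUp.IsBlowUp b 𝓘) : IsLP (sE 𝓘 f b) := by
  rw [sE, Scheme.IdealSheafData.comap_comp]
  exact isLP_comap (isLP_of_effCartier hb.1) _

/-- the strict transform of `Y` in the blow-up `X'` -/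
noncomputable abbrev sT : Scheme.{u} := (tf (sE 𝓘 f b)).subscheme

noncomputable abbrev sι : sT 𝓘 f b ⟶ pullback f b := (tf (sE 𝓘 f b)).subschemeι

/-- the strict transform of `Y` is the blow-up of `Y` in the inverse image ideal (for an arbitrary
morphism `f : Y ⟶ X`). -/
theorem isBlowUp_sT (hb : BlowUp.IsBlowUp b 𝓘) :
    BlowUp.IsBlowUp (sι 𝓘 f b ≫ pullback.fst f b) (𝓘.comap f) := by
  have hLP := isLP_sE 𝓘 f b hb
  refine ⟨?_, ?_⟩
  · have h1 := effCartier_comap_subschemeι hLP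
    rw [← Scheme.IdealSheafData.comap_comp] at h1 ⊢
    rw [Category.assoc, pullback.condition]
    exact h1
  · intro T g hg
    rw [← Scheme.IdealSheafData.comap_comp] at hg
    obtain ⟨h₀, hh₀, hu₀⟩ := hb.2 T (g ≫ f) hg
    let φ : T ⟶ pullback f b := pullback.lift g h₀ hh₀.symm
    have hφE : BlowUp.IsEffCartierIdeal ((sE 𝓘 f b).comap φ) := by
      rw [← Scheme.IdealSheafData.comap_comp, ← Category.assoc, pullback.lift_snd, hh₀]
      exact hg
    have hle : (sι 𝓘 f b).ker ≤ φ.ker := by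
      rw [Scheme.IdealSheafData.ker_subschemeι]
      exact tf_le_ker hLP φ hφE
    refine ⟨IsClosedImmersion.lift (sι 𝓘 f b) φ hle, ?_, ?_⟩
    · dsimp only
      rw [← Category.assoc, IsClosedImmersion.lift_fac, pullback.lift_fst]
    · intro k hk
      rw [← cancel_mono (sι 𝓘 f b), IsClosedImmersion.lift_fac]
      apply pullback.hom_ext
      · rw [pullback.lift_fst, Category.assoc]; exact hk
      · rw [pullback.lift_snd]
        apply hu₀
        rw [Category.assoc, Category.assoc, ← pullback.condition, ← Category.assoc,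
          ← Category.assoc, Category.assoc k]
        rw [hk]

/-- the blow-up of a closed subscheme in the inverse image ideal embeds as a closed subscheme of
the blow-up of the ambient scheme (strict transform). -/
theorem isClosedImmersion_of_isBlowUp [IsClosedImmersion f] (hb : BlowUp.IsBlowUp b 𝓘)
    {Y' : Scheme.{u}} (b' : Y' ⟶ Y) (hb' : BlowUp.IsBlowUp b' (𝓘.comap f))
    (f' : Y' ⟶ X') (hf' : f' ≫ b = b' ≫ f) : IsClosedImmersion f' := by
  obtain ⟨e, he⟩ := Groth.Agent.Lib.H9BlowProper.exists_iso_of_isBlowUp b'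
    (sι 𝓘 f b ≫ pullback.fst f b) (𝓘.comap f) hb' (isBlowUp_sT 𝓘 f b hb)
  have hEC : BlowUp.IsEffCartierIdeal (𝓘.comap (b' ≫ f)) := by
    rw [Scheme.IdealSheafData.comap_comp]; exact hb'.1
  obtain ⟨w, -, hw⟩ := hb.2 Y' (b' ≫ f) hEC
  have h1 : f' = e.hom ≫ sι 𝓘 f b ≫ pullback.snd f b := by
    rw [hw f' hf']
    symm
    apply hw
    rw [Category.assoc, Category.assoc, ← pullback.condition, ← Category.assoc,
      ← Category.assoc, Category.assoc e.hom, he]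
  rw [h1]
  infer_instance

end strict


/-- the inclusion of the complement of a locally principal closed subscheme is affine. -/
theorem isAffineHom_cmpl_ι {𝓔 : P.IdealSheafData} (hE : IsLP 𝓔) : IsAffineHom (cmpl 𝓔).ι := by
  apply isAffineHom_of_forall_exists_isAffineOpen
  intro x
  obtain ⟨V, hxV, t, ht⟩ := hE x
  refine ⟨V.1, hxV, V.2, ?_⟩
  have h1 : (cmpl 𝓔).ι ''ᵁ ((cmpl 𝓔).ι ⁻¹ᵁ V.1) = P.basicOpen t := by
    rw [ι_image_preimage, cmpl_inf_eq_basicOpen 𝓔 V t ht]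
  have h2 : IsAffineOpen ((cmpl 𝓔).ι ''ᵁ ((cmpl 𝓔).ι ⁻¹ᵁ V.1)) := by
    rw [h1]; exact V.2.basicOpen t
  exact (Scheme.Hom.isAffineOpen_iff_of_isOpenImmersion (cmpl 𝓔).ι).mp h2

theorem isAffineHom_ι_of_eq {𝓔 : P.IdealSheafData} (hE : IsLP 𝓔) (W : P.Opens) (hW : W = cmpl 𝓔) :
    IsAffineHom W.ι := by
  subst hW
  exact isAffineHom_cmpl_ι hE

/-- the complement of an effective Cartier divisor is scheme-theoretically dense. -/
theorem ker_cmpl_ι_eq_bot {𝓔 : P.IdealSheafData} (hE : BlowUp.IsEffCartierIdeal 𝓔) :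
    (cmpl 𝓔).ι.ker = ⊥ := by
  have h := tf_le_ker (isLP_of_effCartier hE) (𝟙 P) (by rw [Scheme.IdealSheafData.comap_id]; exact hE)
  rw [Scheme.Hom.ker_eq_bot_of_isIso] at h
  exact le_bot_iff.mp h

theorem ker_ι_eq_bot_of_eq {𝓔 : P.IdealSheafData} (hE : BlowUp.IsEffCartierIdeal 𝓔) (W : P.Opens)
    (hW : W = cmpl 𝓔) : W.ι.ker = ⊥ := by
  subst hW
  exact ker_cmpl_ι_eq_bot hE

theorem preimage_cmpl {T : Scheme.{u}} (𝓔 : P.IdealSheafData) (g : T ⟶ P) :
    g ⁻¹ᵁ cmpl 𝓔 = cmpl (𝓔.comap g) := by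
  ext x
  change g x ∉ 𝓔.support ↔ x ∉ (𝓔.comap g).support
  rw [Scheme.IdealSheafData.support_comap]
  rfl


end Groth.Agent.Lib.H9StrictCI
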