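import Mathlib
import Groth.Prelude.Def_BlowUp2
import Groth.Prelude.Def_Coh
import Groth.Agent.Lib.H9StrictCI
import Groth.Agent.S10855

set_option autoImplicit false
universe u
open nonZeroDivisors CategoryTheory CategoryTheory.Limits AlgebraicGeometry TopologicalSpace Opposite

namespace Groth.Agent.Lib.H9FlatClos

open Groth.Agent.Lib.H9StrictCI

variable {P : Scheme.{u}}

/-- an ideal sheaf whose sections are exactly those killed by a power of the locally principal
`𝓔` is the ideal of the scheme-theoretic closure of the complement of `𝓔`. -/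
theorem eq_tf_of_killedByPowerNear {𝓔 : P.IdealSheafData} (hE : IsLP 𝓔) (𝒥 : P.IdealSheafData)
    (h𝒥 : ∀ (V : P.affineOpens) (a : Γ(P, V.1)), a ∈ 𝒥.ideal V ↔
      BlowUp.KilledByPowerNear 𝓔 (Coh.structureModule P) V a) : 𝒥 = tf 𝓔 := by
  have key : ∀ (V : P.affineOpens) (t : Γ(P, V.1)), 𝓔.ideal V = Ideal.span {t} →
      𝒥.ideal V = (tf 𝓔).ideal V := by
    intro V t ht
    ext a
    rw [h𝒥, mem_ker_ideal_iff hE V t ht]
    constructor
    · rintro ⟨n, hn⟩
      refine ⟨n, hn _ ?_⟩
      rw [Scheme.IdealSheafData.ideal_pow, Pi.pow_apply, ht]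
      exact Ideal.pow_mem_pow (Ideal.mem_span_singleton_self t) n
    · rintro ⟨n, hn⟩
      refine ⟨n, fun a' ha' => ?_⟩
      rw [Scheme.IdealSheafData.ideal_pow, Pi.pow_apply, ht, Ideal.span_singleton_pow,
        Ideal.mem_span_singleton'] at ha'
      obtain ⟨c, rfl⟩ := ha'
      change c * t ^ n * a = 0
      rw [mul_assoc, hn, mul_zero]
  let ι : Type u := {V : P.affineOpens // ∃ t : Γ(P, V.1), 𝓔.ideal V = Ideal.span {t}}
  refine Scheme.IdealSheafData.ext_of_iSup_eq_top (ι := ι) (fun V => V.1) ?_ ?_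
  · rw [eq_top_iff]
    intro x _
    obtain ⟨V, hxV, t, ht⟩ := hE x
    exact Opens.mem_iSup.mpr ⟨⟨V, t, ht⟩, hxV⟩
  · rintro ⟨V, t, ht⟩
    exact key V t ht

/-- the kernel of an open immersion onto the complement of an ideal sheaf. -/
theorem ker_eq_tf_of_isOpenImmersion {A : Scheme.{u}} (j : A ⟶ P) [IsOpenImmersion j]
    (𝓟 : P.IdealSheafData) (hr : j.opensRange = cmpl 𝓟) : j.ker = tf 𝓟 := by
  have h1 : Set.range j = Set.range (cmpl 𝓟).ι := by
    rw [Scheme.Opens.range_ι, ← hr]; rfl
  rw [← IsOpenImmersion.isoOfRangeEq_hom_fac j (cmpl 𝓟).ι h1, Scheme.Hom.ker_comp_of_isIso]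

/-- abstract form of "the flat closure is the base change of the strict transform". -/
theorem ker_eq_comap_tf {WT W T WK : Scheme.{u}} (h : WT ⟶ W) (s : WT ⟶ T) (j : WK ⟶ WT)
    [IsOpenImmersion j] (𝓟 : T.IdealSheafData) (h𝓟 : BlowUp.IsEffCartierIdeal 𝓟)
    (hr : j.opensRange = s ⁻¹ᵁ cmpl 𝓟) {𝓔 : W.IdealSheafData} (hE : IsLP 𝓔)
    (htop : 𝓔.comap (j ≫ h) = ⊤)
    [Flat (pullback.fst h (tf 𝓔).subschemeι ≫ s)] :
    j.ker = (tf 𝓔).comap h := by
  apply le_antisymm
  · rw [ker_eq_tf_of_isOpenImmersion j (𝓟.comap s) (by rw [hr, preimage_cmpl])]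
    have := tf_le_ker (isLP_comap (isLP_of_effCartier h𝓟) s) (pullback.fst h (tf 𝓔).subschemeι)
      (by rw [← Scheme.IdealSheafData.comap_comp]; exact Groth.Agent.S10855.result _ _ h𝓟)
    exact this
  · rw [← Scheme.IdealSheafData.le_map_iff_comap_le, Scheme.IdealSheafData.map_ker]
    exact tf_le_ker hE (j ≫ h) (by
      rw [htop]; exact Groth.Agent.Lib.Helper20.BlowUpBasic.isEffCartierIdeal_top)

section dvr

variable (R : Type u) [CommRing R] [IsDomain R] [IsDiscreteValuationRing R]

theorem isLocalization_away_of_irreducible (K : Type u) [Field K] [Algebra R K] [IsFractionRing R K]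
    (ϖ : R) (hϖ : Irreducible ϖ) : IsLocalization.Away ϖ K := by
  haveI : IsLocalization (nonZeroDivisors R) (Localization.Away ϖ) :=
    IsLocalization.of_le_of_exists_dvd (Submonoid.powers ϖ) (nonZeroDivisors R)
      (powers_le_nonZeroDivisors_of_noZeroDivisors hϖ.ne_zero) (fun n hn => by
        obtain ⟨k, u, hu⟩ := IsDiscreteValuationRing.eq_unit_mul_pow_irreducible
          (nonZeroDivisors.ne_zero hn) hϖ
        exact ⟨ϖ ^ k, ⟨k, rfl⟩, ⟨(↑u⁻¹ : R), by rw [hu]; ring_nf; simp⟩⟩)
  exact IsLocalization.isLocalization_of_algEquiv (Submonoid.powers ϖ)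
    (IsLocalization.algEquiv (nonZeroDivisors R) (Localization.Away ϖ) K)

/-- the ideal sheaf of the closed point of the spectrum of a discrete valuation ring. -/
noncomputable def unifIdeal (ϖ : R) : (Spec (CommRingCat.of R)).IdealSheafData :=
  Scheme.IdealSheafData.ofIdealTop (Ideal.span {(Scheme.ΓSpecIso (CommRingCat.of R)).inv.hom ϖ})

theorem isEffCartier_unifIdeal (ϖ : R) (hϖ : ϖ ≠ 0) : BlowUp.IsEffCartierIdeal (unifIdeal R ϖ) := by
  intro x
  refine ⟨⟨⊤, isAffineOpen_top _⟩, trivial, (Scheme.ΓSpecIso (CommRingCat.of R)).inv.hom ϖ, ?_, ?_⟩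
  · let e : R ≃+* Γ(Spec (CommRingCat.of R), ⊤) :=
      (Scheme.ΓSpecIso (CommRingCat.of R)).symm.commRingCatIsoToRingEquiv
    have h1 : ϖ ∈ nonZeroDivisors R := mem_nonZeroDivisors_of_ne_zero hϖ
    exact Groth.Agent.S10855.mem_nonZeroDivisors_map_equiv e h1
  · rw [unifIdeal, Scheme.IdealSheafData.ofIdealTop_ideal]
    change Ideal.map (CommRingCat.Hom.hom ((Spec (CommRingCat.of R)).presheaf.map (𝟙 _))) _ = _
    rw [CategoryTheory.Functor.map_id]
    exact Ideal.map_id _

theorem cmpl_unifIdeal (ϖ : R) :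
    ((cmpl (unifIdeal R ϖ) : (Spec (CommRingCat.of R)).Opens) : Set (Spec (CommRingCat.of R))) =
      (PrimeSpectrum.basicOpen ϖ : Set (PrimeSpectrum R)) := by
  change ((unifIdeal R ϖ).support : Set (Spec (CommRingCat.of R)))ᶜ = _
  rw [unifIdeal, Scheme.IdealSheafData.coe_support_ofIdealTop, Scheme.zeroLocus_span,
    Scheme.zeroLocus_singleton, compl_compl, basicOpen_eq_of_affine]
  rfl

theorem range_specMap_fractionRing (ϖ : R) (hϖ : Irreducible ϖ) :
    Set.range (Spec.map (CommRingCat.ofHom (algebraMap R (FractionRing R)))) =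
      (PrimeSpectrum.basicOpen ϖ : Set (PrimeSpectrum R)) := by
  haveI := isLocalization_away_of_irreducible R (FractionRing R) ϖ hϖ
  exact PrimeSpectrum.localization_away_comap_range (FractionRing R) ϖ

theorem isOpenImmersion_specMap_fractionRing :
    IsOpenImmersion (Spec.map (CommRingCat.ofHom (algebraMap R (FractionRing R)))) := by
  obtain ⟨ϖ, hϖ⟩ := IsDiscreteValuationRing.exists_irreducible R
  haveI := isLocalization_away_of_irreducible R (FractionRing R) ϖ hϖ
  exact IsOpenImmersion.of_isLocalization ϖ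

/-- an ideal sheaf on the spectrum of a discrete valuation ring which is the unit ideal at the
generic point is effective Cartier. -/
theorem isEffCartier_of_dvr (𝓚 : (Spec (CommRingCat.of R)).IdealSheafData)
    (h : (⟨⊥, Ideal.isPrime_bot⟩ : PrimeSpectrum R) ∉
      (𝓚.support : Set (Spec (CommRingCat.of R)))) : BlowUp.IsEffCartierIdeal 𝓚 := by
  let e : R ≃+* Γ(Spec (CommRingCat.of R), ⊤) :=
    (Scheme.ΓSpecIso (CommRingCat.of R)).symm.commRingCatIsoToRingEquiv
  haveI : IsDomain Γ(Spec (CommRingCat.of R), ⊤) := e.symm.toMulEquiv.isDomain R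
  haveI : IsPrincipalIdealRing Γ(Spec (CommRingCat.of R), ⊤) :=
    IsPrincipalIdealRing.of_surjective e.toRingHom e.surjective
  set U0 : (Spec (CommRingCat.of R)).affineOpens := ⟨⊤, isAffineOpen_top _⟩ with hU0
  obtain ⟨d, hd⟩ := (IsPrincipalIdealRing.principal (𝓚.ideal U0)).principal
  have hd0 : d ≠ 0 := by
    rintro rfl
    apply h
    let η0 : Spec (CommRingCat.of R) := (⟨⊥, Ideal.isPrime_bot⟩ : PrimeSpectrum R)
    change η0 ∈ 𝓚.support
    rw [Scheme.IdealSheafData.mem_support_iff_of_mem (U := U0) trivial, hd]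
    change _ ∈ (Spec (CommRingCat.of R)).zeroLocus (U := ⊤)
      (SetLike.coe (Ideal.span {(0 : Γ(Spec (CommRingCat.of R), ⊤))}))
    rw [Scheme.zeroLocus_span, Scheme.zeroLocus_singleton, Scheme.basicOpen_zero]
    simp
  intro x
  exact ⟨U0, trivial, d, mem_nonZeroDivisors_of_ne_zero hd0, hd⟩

end dvr

theorem specMap_fractionRing_apply (R : Type u) [CommRing R] [IsDomain R]
    (x : Spec (CommRingCat.of (FractionRing R))) :
    (Spec.map (CommRingCat.ofHom (algebraMap R (FractionRing R)))).base x =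
      (⟨⊥, Ideal.isPrime_bot⟩ : PrimeSpectrum R) := by
  apply PrimeSpectrum.ext
  change Ideal.comap (algebraMap R (FractionRing R)) x.asIdeal = ⊥
  have h1 : x.asIdeal = ⊥ := by
    have := x.isPrime
    exact (Ideal.eq_bot_or_top x.asIdeal).resolve_right this.ne_top
  rw [h1]
  exact Ideal.comap_bot_of_injective _ (IsFractionRing.injective R (FractionRing R))

/-- the flat closure over a discrete valuation ring is the base change of the strict transform
(general base `g : Z ⟶ S`). -/
theorem main {S Z S' : Scheme.{u}} (g : Z ⟶ S)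
    (𝓘 : S.IdealSheafData) (b : S' ⟶ S) (hb : BlowUp.IsBlowUp b 𝓘)
    (𝒥 : (pullback g b).IdealSheafData)
    (h𝒥 : ∀ (V : (pullback g b).affineOpens) (a : Γ(pullback g b, V.1)), a ∈ 𝒥.ideal V ↔
      BlowUp.KilledByPowerNear ((𝓘.comap g).comap (pullback.fst g b))
        (Coh.structureModule (pullback g b)) V a)
    [Flat (𝒥.subschemeι ≫ pullback.snd g b)]
    (R : Type u) [CommRing R] [IsDomain R] [IsDiscreteValuationRing R]
    (f : Spec (CommRingCat.of R) ⟶ S)
    (hf : f.base ⟨⊥, Ideal.isPrime_bot⟩ ∉ (𝓘.support : Set ↥S)) :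
    (∃! f' : Spec (CommRingCat.of R) ⟶ S', f' ≫ b = f) ∧
      ∀ (f' : Spec (CommRingCat.of R) ⟶ S') (hf' : f' ≫ b = f),
        (pullback.map g (Spec.map (CommRingCat.ofHom (algebraMap R (FractionRing R))) ≫ f) g f
          (𝟙 Z) (Spec.map (CommRingCat.ofHom (algebraMap R (FractionRing R)))) (𝟙 S)
          ((Category.comp_id _).trans (Category.id_comp _).symm) (Category.comp_id _)).ker =
        𝒥.comap (pullback.map g f g b (𝟙 Z) f' (𝟙 S)
          ((Category.comp_id _).trans (Category.id_comp _).symm)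
          ((Category.comp_id f).trans hf'.symm)) := by
  constructor
  · refine hb.2 _ f (isEffCartier_of_dvr R (𝓘.comap f) ?_)
    rw [Scheme.IdealSheafData.support_comap]
    exact hf
  · intro f' hf'
    set η := Spec.map (CommRingCat.ofHom (algebraMap R (FractionRing R))) with hη
    set j := pullback.map g (η ≫ f) g f (𝟙 Z) η (𝟙 S)
      ((Category.comp_id _).trans (Category.id_comp _).symm) (Category.comp_id _) with hj
    set h := pullback.map g f g b (𝟙 Z) f' (𝟙 S)
          ((Category.comp_id _).trans (Category.id_comp _).symm)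
          ((Category.comp_id f).trans hf'.symm) with hh
    set 𝓔 := (𝓘.comap g).comap (pullback.fst g b) with h𝓔
    have hE : IsLP 𝓔 := by
      rw [h𝓔, ← Scheme.IdealSheafData.comap_comp, pullback.condition,
        Scheme.IdealSheafData.comap_comp]
      exact isLP_comap (isLP_of_effCartier hb.1) _
    obtain rfl := eq_tf_of_killedByPowerNear hE 𝒥 h𝒥
    obtain ⟨ϖ, hϖ⟩ := IsDiscreteValuationRing.exists_irreducible R
    haveI : IsOpenImmersion η := isOpenImmersion_specMap_fractionRing R
    have hjfst : j ≫ pullback.fst g f = pullback.fst g (η ≫ f) := by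
      rw [hj, pullback.lift_fst, Category.comp_id]
    have hjsnd : j ≫ pullback.snd g f = pullback.snd g (η ≫ f) ≫ η := by
      rw [hj, pullback.lift_snd]
    have hhfst : h ≫ pullback.fst g b = pullback.fst g f := by
      rw [hh, pullback.lift_fst, Category.comp_id]
    have hhsnd : h ≫ pullback.snd g b = pullback.snd g f ≫ f' := by
      rw [hh, pullback.lift_snd]
    have sqj : IsPullback j (pullback.snd g (η ≫ f)) (pullback.snd g f) η := by
      refine IsPullback.of_right (h₁₂ := pullback.fst g f) (v₁₃ := g) (h₂₂ := f) ?_ hjsnd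
        (IsPullback.of_hasPullback g f)
      rw [hjfst]
      exact IsPullback.of_hasPullback g (η ≫ f)
    haveI : IsOpenImmersion j :=
      MorphismProperty.of_isPullback (P := @IsOpenImmersion) sqj.flip inferInstance
    have sqh : IsPullback h (pullback.snd g f) (pullback.snd g b) f' := by
      refine IsPullback.of_right (h₁₂ := pullback.fst g b) (v₁₃ := g) (h₂₂ := b) ?_ hhsnd
        (IsPullback.of_hasPullback g b)
      rw [hhfst, hf']
      exact IsPullback.of_hasPullback g f
    haveI : Flat (pullback.fst h (tf 𝓔).subschemeι ≫ pullback.snd g f) := by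
      have sq1 : IsPullback (pullback.snd h (tf 𝓔).subschemeι) (pullback.fst h (tf 𝓔).subschemeι)
          (tf 𝓔).subschemeι h := (IsPullback.of_hasPullback h (tf 𝓔).subschemeι).flip
      have sq2 := sq1.paste_vert sqh
      exact MorphismProperty.of_isPullback (P := @Flat) sq2 inferInstance
    refine ker_eq_comap_tf h (pullback.snd g f) j (unifIdeal R ϖ)
      (isEffCartier_unifIdeal R ϖ hϖ.ne_zero) ?_ hE ?_
    · apply SetLike.coe_injective
      change Set.range j = (pullback.snd g f) ⁻¹' (cmpl (unifIdeal R ϖ) : Set _)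
      rw [cmpl_unifIdeal, ← range_specMap_fractionRing R ϖ hϖ, hj, Scheme.Pullback.range_map]
      have hid : Set.range (𝟙 Z : Z ⟶ Z) = Set.univ := by
        ext z; exact ⟨fun _ => trivial, fun _ => ⟨z, rfl⟩⟩
      rw [hid, Set.preimage_univ, Set.univ_inter]
    · rw [h𝓔, ← Scheme.IdealSheafData.comap_comp, ← Scheme.IdealSheafData.comap_comp]
      apply Groth.Agent.Lib.Helper20.BlowUpBasic.comap_eq_top_of_le
      intro y
      have h1 : ((j ≫ h) ≫ pullback.fst g b) ≫ g = pullback.snd g (η ≫ f) ≫ η ≫ f := by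
        rw [Category.assoc, Category.assoc, reassoc_of% hhfst, pullback.condition,
          reassoc_of% hjsnd]
      rw [h1]
      change f.base (η.base ((pullback.snd g (η ≫ f)).base y)) ∉ (𝓘.support : Set S)
      have h2 : η.base ((pullback.snd g (η ≫ f)).base y) =
          (⟨⊥, Ideal.isPrime_bot⟩ : PrimeSpectrum R) := specMap_fractionRing_apply R _
      rw [h2]
      exact hf


end Groth.Agent.Lib.H9FlatClos
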