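import Mathlib
import Groth.Prelude.Def_BlowUp2
import Groth.Agent.Lib.Helper20EffCartier
import Groth.Agent.Lib.Helper22IdealComap
import Groth.Agent.Lib.H9StrictCI

set_option autoImplicit false
universe u
open nonZeroDivisors CategoryTheory CategoryTheory.Limits AlgebraicGeometry TopologicalSpace Opposite

namespace Groth.Agent.Lib.H9PtVan

variable {X : Scheme.{u}}

/-- the prime ideal of sections over `U` vanishing at the point `x`. -/
noncomputable def vanAt (U : X.Opens) (x : X) (hx : x ∈ U) : Ideal Γ(X, U) :=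
  (IsLocalRing.maximalIdeal (X.presheaf.stalk x)).comap (X.presheaf.germ U x hx).hom

theorem mem_vanAt_iff {U : X.Opens} {x : X} (hx : x ∈ U) (s : Γ(X, U)) :
    s ∈ vanAt U x hx ↔ x ∉ X.basicOpen s := by
  rw [Scheme.mem_basicOpen _ _ _ hx]
  rfl

instance isPrime_vanAt (U : X.Opens) (x : X) (hx : x ∈ U) : (vanAt U x hx).IsPrime := by
  unfold vanAt
  infer_instance

theorem one_not_mem_vanAt {U : X.Opens} {x : X} (hx : x ∈ U) : (1 : Γ(X, U)) ∉ vanAt U x hx :=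
  (Ideal.ne_top_iff_one _).mp (isPrime_vanAt U x hx).ne_top

/-- pulling back sections along a morphism is compatible with vanishing at points. -/
theorem appLE_mem_vanAt_iff {Y : Scheme.{u}} (f : Y ⟶ X) {U : X.Opens} {V : Y.Opens}
    (e : V ≤ f ⁻¹ᵁ U) {y : Y} (hy : y ∈ V) (s : Γ(X, U)) :
    (f.appLE U V e).hom s ∈ vanAt V y hy ↔ s ∈ vanAt U (f y) (e hy) := by
  rw [mem_vanAt_iff, mem_vanAt_iff, Scheme.Hom.appLE, CommRingCat.comp_apply]
  change y ∉ Y.basicOpen ((Y.presheaf.map (homOfLE e).op).hom ((f.app U).hom s)) ↔ _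
  rw [Scheme.basicOpen_res, ← Scheme.preimage_basicOpen]
  constructor
  · intro h h'
    exact h ⟨hy, h'⟩
  · intro h h'
    exact h h'.2

theorem map_appLE_le_vanAt {Y : Scheme.{u}} (f : Y ⟶ X) {U : X.Opens} {V : Y.Opens}
    (e : V ≤ f ⁻¹ᵁ U) {y : Y} (hy : y ∈ V) (I : Ideal Γ(X, U)) (hI : I ≤ vanAt U (f y) (e hy)) :
    I.map (f.appLE U V e).hom ≤ vanAt V y hy := by
  rw [Ideal.map_le_iff_le_comap]
  intro s hs
  exact (appLE_mem_vanAt_iff f e hy s).mpr (hI hs)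

/-- sections of an ideal sheaf vanish at the points of its support. -/
theorem ideal_le_vanAt_of_mem_support (𝓙 : X.IdealSheafData) (W : X.affineOpens) {x : X}
    (hxW : x ∈ W.1) (hx : x ∈ 𝓙.support) : 𝓙.ideal W ≤ vanAt W.1 x hxW := by
  intro s hs
  rw [mem_vanAt_iff]
  rw [Scheme.IdealSheafData.mem_support_iff_of_mem (U := W) hxW, Scheme.mem_zeroLocus_iff] at hx
  exact hx s hs

/-- a local generator of an ideal sheaf does not vanish off the support. -/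
theorem gen_not_mem_vanAt (𝓙 : X.IdealSheafData) (W : X.affineOpens) (e : Γ(X, W.1))
    (he : 𝓙.ideal W = Ideal.span {e}) {x : X} (hxW : x ∈ W.1) (hx : x ∉ 𝓙.support) :
    e ∉ vanAt W.1 x hxW := by
  rw [mem_vanAt_iff, not_not]
  have h1 : x ∈ Groth.Agent.Lib.H9StrictCI.cmpl 𝓙 ⊓ W.1 := ⟨hx, hxW⟩
  rw [Groth.Agent.Lib.H9StrictCI.cmpl_inf_eq_basicOpen 𝓙 W e he] at h1
  exact h1

/-- a section not vanishing at a point of the closure of a set does not vanish at some point of the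
set. -/
theorem exists_mem_of_mem_closure {U : X.Opens} {x : X} (hx : x ∈ U) (s : Γ(X, U))
    (hs : s ∉ vanAt U x hx) (A : Set X) (hA : x ∈ closure A) :
    ∃ y, ∃ hy : y ∈ U, y ∈ A ∧ s ∉ vanAt U y hy := by
  rw [mem_vanAt_iff, not_not] at hs
  obtain ⟨y, hy1, hy2⟩ := mem_closure_iff.mp hA (X.basicOpen s) (X.basicOpen s).isOpen hs
  refine ⟨y, X.basicOpen_le s hy1, hy2, ?_⟩
  rw [mem_vanAt_iff, not_not]
  exact hy1

/-- the colon ideal `(J : e)`. -/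
def colon {R : Type*} [CommRing R] (J : Ideal R) (e : R) : Ideal R where
  carrier := {β | e * β ∈ J}
  add_mem' := by
    intro a b ha hb
    change e * (a + b) ∈ J
    rw [mul_add]; exact J.add_mem ha hb
  zero_mem' := by
    change e * 0 ∈ J
    rw [mul_zero]; exact J.zero_mem
  smul_mem' := by
    intro c a ha
    change e * (c • a) ∈ J
    rw [smul_eq_mul, mul_left_comm]; exact J.mul_mem_left c ha

theorem mem_colon {R : Type*} [CommRing R] (J : Ideal R) (e β : R) : β ∈ colon J e ↔ e * β ∈ J :=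
  Iff.rfl

theorem eq_span_mul_colon {R : Type*} [CommRing R] (J : Ideal R) (e : R) (h : J ≤ Ideal.span {e}) :
    J = Ideal.span {e} * colon J e := by
  apply le_antisymm
  · intro x hx
    obtain ⟨β, rfl⟩ := Ideal.mem_span_singleton'.mp (h hx)
    rw [Ideal.mem_span_singleton_mul]
    refine ⟨β, ?_, mul_comm _ _⟩
    rw [mem_colon, mul_comm]; exact hx
  · rw [Ideal.span_singleton_mul_le_iff]
    intro β hβ
    exact hβ



theorem appLE_congr' {A B : Scheme.{u}} {f g : A ⟶ B} (h : f = g) (U : B.Opens) (V : A.Opens)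
    (e : V ≤ f ⁻¹ᵁ U) : f.appLE U V e = g.appLE U V (h ▸ e) := by
  subst h; rfl

/-- the square of ring maps on affine opens coming from a commutative square of schemes. -/
theorem appLE_square {Z' Z X' X : Scheme.{u}} (a : Z' ⟶ Z) (b : Z' ⟶ X') (p : Z ⟶ X) (π : X' ⟶ X)
    (h : a ≫ p = b ≫ π) (W : X.Opens) (W' : X'.Opens) (M : Z.Opens) (N : Z'.Opens)
    (hW'W : W' ≤ π ⁻¹ᵁ W) (hMW : M ≤ p ⁻¹ᵁ W) (hNW' : N ≤ b ⁻¹ᵁ W') (hNM : N ≤ a ⁻¹ᵁ M) :
    (b.appLE W' N hNW').hom.comp (π.appLE W W' hW'W).hom =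
      (a.appLE M N hNM).hom.comp (p.appLE W M hMW).hom := by
  rw [← CommRingCat.hom_comp, ← CommRingCat.hom_comp, Scheme.Hom.appLE_comp_appLE,
    Scheme.Hom.appLE_comp_appLE, appLE_congr' h]

theorem core17889 {X Z X' : Scheme.{u}} (p : Z ⟶ X) (X₀ : X.Opens) (F : Closeds X) (G : Closeds Z)
    (𝔞 : X.IdealSheafData) (h₁ : Disjoint (𝔞.support : Set X) (X₀ : Set X))
    (h₂ : Scheme.IdealSheafData.vanishingIdeal F ≤ 𝔞)
    (h₃ : 𝔞.comap p ≤ (Scheme.IdealSheafData.vanishingIdeal F).comap p ⊔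
      Scheme.IdealSheafData.vanishingIdeal G)
    (π : X' ⟶ X) (hπ : BlowUp.IsEffCartierIdeal (𝔞.comap π))
    (z : ↑(pullback p π))
    (hz1 : pullback.snd p π z ∈ closure (π ⁻¹' ((F : Set X) ∩ (X₀ : Set X))))
    (hz2 : z ∈ closure (pullback.fst p π ⁻¹' ((G : Set Z) ∩ (p ⁻¹ᵁ X₀ : Set Z)))) : False := by
  set IF := Scheme.IdealSheafData.vanishingIdeal F with hIF
  set IG := Scheme.IdealSheafData.vanishingIdeal G with hIG
  have hFsupp : (F : Set X) ⊆ IF.support := fun x hx =>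
    (Scheme.IdealSheafData.le_support_iff_le_vanishingIdeal.mpr (le_refl IF)) hx
  have hGsupp : (G : Set Z) ⊆ IG.support := fun x hx =>
    (Scheme.IdealSheafData.le_support_iff_le_vanishingIdeal.mpr (le_refl IG)) hx
  set x' := pullback.snd p π z with hx'
  obtain ⟨W, hW, hxW, -⟩ := exists_isAffineOpen_mem_and_subset (x := π x') (U := ⊤) trivial
  obtain ⟨W', hW', hx'W', hW'W, e, he, hIe⟩ :=
    Groth.Agent.Lib.Helper20.EffCartier.exists_le_of_isEffCartierIdeal hπ x' (π ⁻¹ᵁ W) hxW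
  have hcond : ∀ w : ↑(pullback p π), p (pullback.fst p π w) = π (pullback.snd p π w) := by
    intro w
    rw [← Scheme.Hom.comp_apply, ← Scheme.Hom.comp_apply, pullback.condition]
  obtain ⟨M, hM, hzM, hMW⟩ := exists_isAffineOpen_mem_and_subset (x := pullback.fst p π z)
    (U := p ⁻¹ᵁ W) (by change p (pullback.fst p π z) ∈ W; rw [hcond]; exact hxW)
  obtain ⟨N, hN, hzN, hNle⟩ := exists_isAffineOpen_mem_and_subset (x := z)
    (U := pullback.snd p π ⁻¹ᵁ W' ⊓ pullback.fst p π ⁻¹ᵁ M) ⟨hx'W', hzM⟩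
  have hNW' : N ≤ pullback.snd p π ⁻¹ᵁ W' := hNle.trans inf_le_left
  have hNM : N ≤ pullback.fst p π ⁻¹ᵁ M := hNle.trans inf_le_right
  set α := (π.appLE W W' hW'W).hom with hα
  set ρ := ((pullback.snd p π).appLE W' N hNW').hom with hρ
  set σ := ((pullback.fst p π).appLE M N hNM).hom with hσ
  set τ := (p.appLE W M hMW).hom with hτ
  have hcomm : ρ.comp α = σ.comp τ :=
    appLE_square (pullback.fst p π) (pullback.snd p π) p π pullback.condition W W' M N _ _ _ _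
  have hA' : (𝔞.comap π).ideal ⟨W', hW'⟩ = (𝔞.ideal ⟨W, hW⟩).map α :=
    Groth.Agent.Lib.Helper22.IdealComap.ideal_comap_eq_map π 𝔞 ⟨W', hW'⟩ ⟨W, hW⟩ hW'W
  have hF' : (IF.ideal ⟨W, hW⟩).map α ≤ Ideal.span {e} := by
    rw [← hIe, hA']; exact Ideal.map_mono (h₂ ⟨W, hW⟩)
  set 𝔟 := colon ((IF.ideal ⟨W, hW⟩).map α) e with h𝔟
  have hFb : (IF.ideal ⟨W, hW⟩).map α = Ideal.span {e} * 𝔟 := eq_span_mul_colon _ _ hF'
  have hM1 : (𝔞.ideal ⟨W, hW⟩).map τ ≤ (IF.ideal ⟨W, hW⟩).map τ ⊔ IG.ideal ⟨M, hM⟩ := by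
    have := h₃ ⟨M, hM⟩
    rw [Groth.Agent.Lib.Helper22.IdealComap.ideal_comap_eq_map p 𝔞 ⟨M, hM⟩ ⟨W, hW⟩ hMW,
      Scheme.IdealSheafData.ideal_sup, Pi.sup_apply,
      Groth.Agent.Lib.Helper22.IdealComap.ideal_comap_eq_map p IF ⟨M, hM⟩ ⟨W, hW⟩ hMW] at this
    exact this
  have h5 : ρ e ∈ Ideal.span {ρ e} * 𝔟.map ρ ⊔ (IG.ideal ⟨M, hM⟩).map σ := by
    have h6 : ρ e ∈ ((𝔞.ideal ⟨W, hW⟩).map α).map ρ :=
      Ideal.mem_map_of_mem ρ (by rw [← hA', hIe]; exact Ideal.mem_span_singleton_self e)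
    rw [Ideal.map_map, hcomm, ← Ideal.map_map] at h6
    have h7 := Ideal.map_mono (f := σ) hM1 h6
    rw [Ideal.map_sup, Ideal.map_map, ← hcomm, ← Ideal.map_map, hFb, Ideal.map_mul, Ideal.map_span,
      Set.image_singleton] at h7
    exact h7
  obtain ⟨u, hu, γ, hγ, huγ⟩ := Submodule.mem_sup.mp h5
  obtain ⟨β', hβ', rfl⟩ := Ideal.mem_span_singleton_mul.mp hu
  -- points over `X₀` are off the support of `𝔞.comap π`
  have hoff : ∀ y : X', π y ∈ X₀ → y ∉ (𝔞.comap π).support := by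
    intro y hy hc
    rw [Scheme.IdealSheafData.support_comap] at hc
    exact Set.disjoint_left.mp h₁ hc hy
  have c1 : 𝔟 ≤ vanAt W' x' hx'W' := by
    intro β hβ
    by_contra hcon
    obtain ⟨y, hyW', hyA, hyβ⟩ := exists_mem_of_mem_closure hx'W' β hcon _ hz1
    have hyW : π y ∈ W := hW'W hyW'
    have h8 : e * β ∈ vanAt W' y hyW' := by
      have : (IF.ideal ⟨W, hW⟩).map α ≤ vanAt W' y hyW' :=
        map_appLE_le_vanAt π hW'W hyW' _
          (ideal_le_vanAt_of_mem_support IF ⟨W, hW⟩ hyW (hFsupp hyA.1))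
      exact this hβ
    rcases (isPrime_vanAt _ _ _).mem_or_mem h8 with h9 | h9
    · exact gen_not_mem_vanAt (𝔞.comap π) ⟨W', hW'⟩ e hIe hyW' (hoff y hyA.2) h9
    · exact hyβ h9
  have c1' : β' ∈ vanAt N z hzN :=
    map_appLE_le_vanAt (pullback.snd p π) hNW' hzN 𝔟 c1 hβ'
  have c2 : (1 - β') ∈ vanAt N z hzN := by
    by_contra hcon
    obtain ⟨y, hyN, hyA, hyβ⟩ := exists_mem_of_mem_closure hzN (1 - β') hcon _ hz2
    have hyM : pullback.fst p π y ∈ M := hNM hyN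
    have hyW' : pullback.snd p π y ∈ W' := hNW' hyN
    have h8 : ρ e * (1 - β') ∈ vanAt N y hyN := by
      have : (IG.ideal ⟨M, hM⟩).map σ ≤ vanAt N y hyN :=
        map_appLE_le_vanAt (pullback.fst p π) hNM hyN _
          (ideal_le_vanAt_of_mem_support IG ⟨M, hM⟩ hyM (hGsupp hyA.1))
      have h9 : ρ e * (1 - β') = γ := by
        rw [mul_sub, mul_one, sub_eq_iff_eq_add, add_comm]; exact huγ.symm
      rw [h9]; exact this hγ
    rcases (isPrime_vanAt _ _ _).mem_or_mem h8 with h9 | h9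
    · rw [hρ, appLE_mem_vanAt_iff] at h9
      refine gen_not_mem_vanAt (𝔞.comap π) ⟨W', hW'⟩ e hIe hyW' (hoff _ ?_) h9
      rw [← hcond]; exact hyA.2
    · exact hyβ h9
  have h10 : (1 : Γ(pullback p π, N)) ∈ vanAt N z hzN := by
    have := (vanAt N z hzN).add_mem c1' c2
    rwa [add_sub_cancel] at this
  exact one_not_mem_vanAt hzN h10


theorem main17889 {X Z : Scheme.{u}} (p : Z ⟶ X)
    (X₀ : X.Opens) (F : Closeds X) (G : Closeds Z)
    (𝔞 : X.IdealSheafData) (h₁ : Disjoint (𝔞.support : Set X) (X₀ : Set X))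
    (h₂ : Scheme.IdealSheafData.vanishingIdeal F ≤ 𝔞)
    (h₃ : 𝔞 ≤ (((Scheme.IdealSheafData.vanishingIdeal F).comap p ⊔
      Scheme.IdealSheafData.vanishingIdeal G).subschemeι ≫ p).ker)
    {X' : Scheme.{u}} (π : X' ⟶ X) (hπ : BlowUp.IsBlowUp π 𝔞) :
    (Limits.pullback.snd p π).base ⁻¹' closure (π.base ⁻¹' ((F : Set X) ∩ (X₀ : Set X))) ∩
      closure ((Limits.pullback.fst p π).base ⁻¹' ((G : Set Z) ∩ (p ⁻¹ᵁ X₀ : Set Z))) = ∅ := by
  rw [Scheme.Hom.ker_comp, Scheme.IdealSheafData.ker_subschemeι,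
    Scheme.IdealSheafData.le_map_iff_comap_le] at h₃
  rw [Set.eq_empty_iff_forall_notMem]
  rintro z ⟨hz1, hz2⟩
  exact core17889 p X₀ F G 𝔞 h₁ h₂ h₃ π hπ.1 z hz1 hz2



/-- sections of the kernel ideal of `f` vanish at the points of the image of `f`. -/
theorem ker_ideal_le_vanAt {Y Z : Scheme.{u}} (f : Y ⟶ Z) (M : Z.affineOpens) (y₀ : Y)
    (hy₀ : f y₀ ∈ M.1) : f.ker.ideal M ≤ vanAt M.1 (f y₀) hy₀ := by
  intro κ hκ
  have h1 : (f.app M.1).hom κ = 0 := f.ideal_ker_le M hκ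
  have h2 : (f.appLE M.1 (f ⁻¹ᵁ M.1) le_rfl).hom κ ∈ vanAt (f ⁻¹ᵁ M.1) y₀ hy₀ := by
    rw [Scheme.Hom.appLE_eq_app, h1]; exact Ideal.zero_mem _
  exact (appLE_mem_vanAt_iff f le_rfl hy₀ κ).mp h2

theorem core17391 {X Y Z X' : Scheme.{u}} (p : Z ⟶ X) (U V : X.Opens)
    (f : Y ⟶ Z) (hY : Set.range (fun y => p (f y)) ⊆ (U : Set X))
    (𝓘₁ 𝓘₂ : X.IdealSheafData)
    (h₁ : (V : Set X) \ (U : Set X) ⊆ (𝓘₁.support : Set X))
    (h₁' : Disjoint (𝓘₁.support : Set X) (U : Set X))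
    (h₂ : (𝓘₂.support : Set X) ⊆ (𝓘₁.support : Set X) \ (V : Set X))
    (hincl : 𝓘₂.comap p ≤ (𝓘₁ * 𝓘₁).comap p ⊔ f.ker)
    (q : X' ⟶ X) (hq : BlowUp.IsEffCartierIdeal ((𝓘₁ ⊔ 𝓘₂).comap q))
    (z : ↑(pullback p q))
    (hz1 : z ∈ closure (Set.range (pullback.snd f (pullback.fst p q))))
    (hz2 : pullback.snd p q z ∈ closure (q ⁻¹' ((V : Set X) \ (U : Set X)))) : False := by
  set 𝓢 := 𝓘₁ ⊔ 𝓘₂ with h𝓢
  set x' := pullback.snd p q z with hx'
  obtain ⟨W, hW, hxW, -⟩ := exists_isAffineOpen_mem_and_subset (x := q x') (U := ⊤) trivial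
  obtain ⟨W', hW', hx'W', hW'W, e, he, hIe⟩ :=
    Groth.Agent.Lib.Helper20.EffCartier.exists_le_of_isEffCartierIdeal hq x' (q ⁻¹ᵁ W) hxW
  have hcond : ∀ w : ↑(pullback p q), p (pullback.fst p q w) = q (pullback.snd p q w) := by
    intro w
    rw [← Scheme.Hom.comp_apply, ← Scheme.Hom.comp_apply, pullback.condition]
  obtain ⟨M, hM, hzM, hMW⟩ := exists_isAffineOpen_mem_and_subset (x := pullback.fst p q z)
    (U := p ⁻¹ᵁ W) (by change p (pullback.fst p q z) ∈ W; rw [hcond]; exact hxW)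
  obtain ⟨N, hN, hzN, hNle⟩ := exists_isAffineOpen_mem_and_subset (x := z)
    (U := pullback.snd p q ⁻¹ᵁ W' ⊓ pullback.fst p q ⁻¹ᵁ M) ⟨hx'W', hzM⟩
  have hNW' : N ≤ pullback.snd p q ⁻¹ᵁ W' := hNle.trans inf_le_left
  have hNM : N ≤ pullback.fst p q ⁻¹ᵁ M := hNle.trans inf_le_right
  set α := (q.appLE W W' hW'W).hom with hα
  set ρ := ((pullback.snd p q).appLE W' N hNW').hom with hρ
  set σ := ((pullback.fst p q).appLE M N hNM).hom with hσ
  set τ := (p.appLE W M hMW).hom with hτ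
  have hcomm : ρ.comp α = σ.comp τ :=
    appLE_square (pullback.fst p q) (pullback.snd p q) p q
      pullback.condition W W' M N _ _ _ _
  set J₁ := (𝓘₁.ideal ⟨W, hW⟩).map α with hJ₁
  set J₂ := (𝓘₂.ideal ⟨W, hW⟩).map α with hJ₂
  have hS' : J₁ ⊔ J₂ = Ideal.span {e} := by
    rw [← hIe, Groth.Agent.Lib.Helper22.IdealComap.ideal_comap_eq_map q 𝓢 ⟨W', hW'⟩ ⟨W, hW⟩ hW'W,
      h𝓢, Scheme.IdealSheafData.ideal_sup, Pi.sup_apply, Ideal.map_sup]
  have hJ₁le : J₁ ≤ Ideal.span {e} := hS' ▸ le_sup_left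
  have hJ₂le : J₂ ≤ Ideal.span {e} := hS' ▸ le_sup_right
  set 𝔟₁ := colon J₁ e with h𝔟₁
  set 𝔟₂ := colon J₂ e with h𝔟₂
  have hJb₁ : J₁ = Ideal.span {e} * 𝔟₁ := eq_span_mul_colon _ _ hJ₁le
  have hJb₂ : J₂ = Ideal.span {e} * 𝔟₂ := eq_span_mul_colon _ _ hJ₂le
  -- `1 = b₁ + b₂`
  have he' : e ∈ J₁ ⊔ J₂ := by rw [hS']; exact Ideal.mem_span_singleton_self e
  obtain ⟨j₁, hj₁, j₂, hj₂, hj⟩ := Submodule.mem_sup.mp he'
  rw [hJb₁] at hj₁
  rw [hJb₂] at hj₂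
  obtain ⟨b₁, hb₁, rfl⟩ := Ideal.mem_span_singleton_mul.mp hj₁
  obtain ⟨b₂, hb₂, rfl⟩ := Ideal.mem_span_singleton_mul.mp hj₂
  have hb12 : b₁ + b₂ = 1 := by
    have h3 : (b₁ + b₂ - 1) * e = 0 := by
      rw [sub_mul, add_mul, one_mul, mul_comm b₁, mul_comm b₂, hj, sub_self]
    have := (mem_nonZeroDivisors_iff_right.mp he) _ h3
    exact sub_eq_zero.mp this
  -- points of `V` are off the support of `𝓢.comap q`
  have hoffV : ∀ y : X', q y ∈ V → y ∉ (𝓢.comap q).support := by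
    intro y hy hc
    rw [Scheme.IdealSheafData.support_comap, h𝓢, Scheme.IdealSheafData.support_sup] at hc
    exact (h₂ hc.2).2 hy
  have hoffU : ∀ y : X', q y ∈ U → y ∉ (𝓢.comap q).support := by
    intro y hy hc
    rw [Scheme.IdealSheafData.support_comap, h𝓢, Scheme.IdealSheafData.support_sup] at hc
    exact Set.disjoint_left.mp h₁' hc.1 hy
  have c1 : 𝔟₁ ≤ vanAt W' x' hx'W' := by
    intro β hβ
    by_contra hcon
    obtain ⟨y, hyW', hyA, hyβ⟩ := exists_mem_of_mem_closure hx'W' β hcon _ hz2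
    have hyW : q y ∈ W := hW'W hyW'
    have h8 : e * β ∈ vanAt W' y hyW' := by
      have : J₁ ≤ vanAt W' y hyW' :=
        map_appLE_le_vanAt q hW'W hyW' _
          (ideal_le_vanAt_of_mem_support 𝓘₁ ⟨W, hW⟩ hyW (h₁ hyA))
      exact this hβ
    rcases (isPrime_vanAt _ _ _).mem_or_mem h8 with h9 | h9
    · exact gen_not_mem_vanAt (𝓢.comap q) ⟨W', hW'⟩ e hIe hyW' (hoffV y hyA.1) h9
    · exact hyβ h9
  have hb₂ne : b₂ ∉ vanAt W' x' hx'W' := by
    intro hc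
    have := (vanAt W' x' hx'W').add_mem (c1 hb₁) hc
    rw [hb12] at this
    exact one_not_mem_vanAt hx'W' this
  have hρb₂ : ρ b₂ ∉ vanAt N z hzN := by
    rw [hρ, appLE_mem_vanAt_iff]; exact hb₂ne
  -- the inclusion hypothesis on `M`
  have hM1 : (𝓘₂.ideal ⟨W, hW⟩).map τ ≤
      ((𝓘₁.ideal ⟨W, hW⟩) * (𝓘₁.ideal ⟨W, hW⟩)).map τ ⊔ f.ker.ideal ⟨M, hM⟩ := by
    have := hincl ⟨M, hM⟩
    rw [Groth.Agent.Lib.Helper22.IdealComap.ideal_comap_eq_map p 𝓘₂ ⟨M, hM⟩ ⟨W, hW⟩ hMW,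
      Scheme.IdealSheafData.ideal_sup, Pi.sup_apply,
      Groth.Agent.Lib.Helper22.IdealComap.ideal_comap_eq_map p (𝓘₁ * 𝓘₁) ⟨M, hM⟩ ⟨W, hW⟩ hMW,
      Scheme.IdealSheafData.ideal_mul] at this
    exact this
  have h5 : ρ (e * b₂) ∈ Ideal.span {ρ e * ρ e} * (𝔟₁.map ρ * 𝔟₁.map ρ) ⊔
      (f.ker.ideal ⟨M, hM⟩).map σ := by
    have hmapJ₁ : J₁.map ρ = Ideal.span {ρ e} * 𝔟₁.map ρ := by
      conv_lhs => rw [hJb₁]
      rw [Ideal.map_mul, Ideal.map_span, Set.image_singleton]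
    have h6 : ρ (e * b₂) ∈ J₂.map ρ := Ideal.mem_map_of_mem ρ (by rw [hJb₂]; exact hj₂)
    rw [hJ₂, Ideal.map_map, hcomm, ← Ideal.map_map] at h6
    have h7 := Ideal.map_mono (f := σ) hM1 h6
    rw [Ideal.map_sup, Ideal.map_map, ← hcomm, ← Ideal.map_map, Ideal.map_mul, ← hJ₁,
      Ideal.map_mul, hmapJ₁, mul_mul_mul_comm,
      Ideal.span_singleton_mul_span_singleton] at h7
    exact h7
  obtain ⟨u, hu, κ, hκ, huκ⟩ := Submodule.mem_sup.mp h5
  obtain ⟨c, hc, rfl⟩ := Ideal.mem_span_singleton_mul.mp hu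
  have hcz : c ∈ vanAt N z hzN := by
    have h9 : 𝔟₁.map ρ ≤ vanAt N z hzN :=
      map_appLE_le_vanAt (pullback.snd p q) hNW' hzN 𝔟₁ c1
    exact h9 (Ideal.mul_le_right hc)
  have c2 : (ρ b₂ - ρ e * c) ∈ vanAt N z hzN := by
    by_contra hcon
    obtain ⟨y, hyN, ⟨y', rfl⟩, hyβ⟩ := exists_mem_of_mem_closure hzN _ hcon _ hz1
    set y₀ := pullback.fst f (pullback.fst p q) y' with hy₀
    set yy := pullback.snd f (pullback.fst p q) y' with hyy
    have hfy : pullback.fst p q yy = f y₀ := by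
      rw [hyy, hy₀, ← Scheme.Hom.comp_apply, ← Scheme.Hom.comp_apply, pullback.condition]
    have hyM : f y₀ ∈ M := by rw [← hfy]; exact hNM hyN
    have hyW' : pullback.snd p q yy ∈ W' := hNW' hyN
    have h8 : ρ e * (ρ b₂ - ρ e * c) ∈ vanAt N yy hyN := by
      have h10 : f.ker.ideal ⟨M, hM⟩ ≤ vanAt M (pullback.fst p q yy) (hNM hyN) := by
        have := ker_ideal_le_vanAt f ⟨M, hM⟩ y₀ hyM
        intro k hk
        rw [mem_vanAt_iff, hfy, ← mem_vanAt_iff hyM]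
        exact this hk
      have : (f.ker.ideal ⟨M, hM⟩).map σ ≤ vanAt N yy hyN :=
        map_appLE_le_vanAt (pullback.fst p q) hNM hyN _ h10
      have h9 : ρ e * (ρ b₂ - ρ e * c) = κ := by
        rw [mul_sub, sub_eq_iff_eq_add, ← mul_assoc, add_comm, ← map_mul]; exact huκ.symm
      rw [h9]; exact this hκ
    rcases (isPrime_vanAt _ _ _).mem_or_mem h8 with h9 | h9
    · rw [hρ, appLE_mem_vanAt_iff] at h9
      refine gen_not_mem_vanAt (𝓢.comap q) ⟨W', hW'⟩ e hIe hyW' (hoffU _ ?_) h9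
      rw [← hcond, hfy]
      exact hY ⟨y₀, rfl⟩
    · exact hyβ h9
  apply hρb₂
  have := (vanAt N z hzN).add_mem c2 ((vanAt N z hzN).mul_mem_left (ρ e) hcz)
  rwa [sub_add_cancel] at this


theorem main17391 {X Y Z X' : Scheme.{u}} (p : Z ⟶ X) (U V : X.Opens)
    (f : Y ⟶ Z) (hY : Set.range (fun y => p (f y)) ⊆ (U : Set X))
    (𝓘₁ 𝓘₂ : X.IdealSheafData)
    (h₁ : (V : Set X) \ (U : Set X) ⊆ (𝓘₁.support : Set X))
    (h₁' : Disjoint (𝓘₁.support : Set X) (U : Set X))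
    (h₂ : (𝓘₂.support : Set X) ⊆ (𝓘₁.support : Set X) \ (V : Set X))
    (hincl : 𝓘₂.comap p ≤ (𝓘₁ * 𝓘₁).comap p ⊔ f.ker)
    (q : X' ⟶ X) (hq : BlowUp.IsBlowUp q (𝓘₁ ⊔ 𝓘₂)) :
    Disjoint (closure (Set.range (fun y => (pullback.snd f (pullback.fst p q)) y)))
      ((fun z => (pullback.snd p q) z) ⁻¹'
        closure ((fun x' => q x') ⁻¹' ((V : Set X) \ (U : Set X)))) := by
  rw [Set.disjoint_left]
  intro z hz1 hz2
  exact core17391 p U V f hY 𝓘₁ 𝓘₂ h₁ h₁' h₂ hincl q hq.1 z hz1 hz2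


end Groth.Agent.Lib.H9PtVan
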