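import Mathlib
import Groth.Prelude.Def_BlowUp2
import Groth.Prelude.Def_W4c6modpairsegaMP
import Groth.Agent.Lib.H9BlowExist
import Groth.Agent.Lib.H9BlowExt
import Groth.Agent.Lib.Helper22FTIdeal
import Groth.Agent.Lib.Helper20BlowUp
import Groth.Agent.Lib.Helper18Strict1

set_option autoImplicit false
universe u
open nonZeroDivisors CategoryTheory CategoryTheory.Limits AlgebraicGeometry TopologicalSpace Opposite
open Groth.Agent.Lib.Helper22.FTIdeal Groth.Agent.Lib.H9BlowExt

namespace Groth.Agent.Lib.H9ZarCov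

/-- Stacks 01PH: on a qcqs scheme the complement of a quasi-compact open is the support of a
finite type ideal sheaf. -/
theorem exists_ft_support_eq_compl {S : Scheme.{u}} [CompactSpace S] [QuasiSeparatedSpace S]
    (V : S.Opens) (hV : IsCompact (V : Set S)) :
    ∃ F : S.IdealSheafData, BlowUp.IsFiniteTypeIdeal F ∧ (F.support : Set S) = (V : Set S)ᶜ := by
  classical
  let Z : Closeds S := ⟨(V : Set S)ᶜ, V.2.isClosed_compl⟩
  set I₀ := Scheme.IdealSheafData.vanishingIdeal Z with hI₀
  have hsupp₀ : (I₀.support : Set S) = (V : Set S)ᶜ :=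
    Scheme.IdealSheafData.coe_support_vanishingIdeal Z
  obtain ⟨s, hs, hsV⟩ := isCompact_iff_finite_and_eq_biUnion_affineOpens.mp hV
  have hsle : ∀ W ∈ s, (W : S.Opens) ≤ V := by
    intro W hW
    rw [hsV]
    exact le_iSup₂ (f := fun (i : S.affineOpens) (_ : i ∈ s) => (i : S.Opens)) W hW
  have hex : ∀ W : s, ∃ J : S.IdealSheafData, J ≤ I₀ ∧ FT J ∧ (1 : Γ(S, W.1.1)) ∈ J.ideal W.1 := by
    intro W
    have h1 : I₀.ideal W.1 = ⊤ := by
      apply ideal_eq_top_of_disjoint
      rw [hsupp₀]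
      exact (disjoint_compl_left).mono_right (hsle W.1 W.2)
    exact exists_ft_le_mem I₀ W.1 1 (by rw [h1]; trivial)
  choose J hJle hJft hJ1 using hex
  have : Finite s := hs.to_subtype
  refine ⟨⨆ W : s, J W, ?_, ?_⟩
  · intro W'
    rw [Scheme.IdealSheafData.ideal_iSup]
    simp only [iSup_apply]
    exact Submodule.fg_iSup _ (fun W => hJft W W')
  · apply Set.Subset.antisymm
    · intro x hx hxV
      have hxV' : x ∈ V := hxV
      rw [hsV] at hxV'
      simp only [Opens.mem_iSup] at hxV'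
      obtain ⟨W, hWs, hxW⟩ := hxV'
      have h2 := (Scheme.IdealSheafData.mem_support_iff_of_mem (I := ⨆ W : s, J W) (U := W) hxW).1 hx
      have h3 : (⨆ W : s, J W).ideal W = ⊤ := by
        rw [Ideal.eq_top_iff_one]
        have hle : J ⟨W, hWs⟩ ≤ ⨆ W : s, J W := le_iSup J ⟨W, hWs⟩
        exact hle W (hJ1 ⟨W, hWs⟩)
      rw [h3] at h2
      have h4 : x ∈ S.zeroLocus (U := W.1) (Set.univ : Set Γ(S, W.1)) := h2
      rw [Scheme.zeroLocus_univ] at h4
      exact h4 hxW
    · rw [← hsupp₀]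
      have : (⨆ W : s, J W) ≤ I₀ := iSup_le hJle
      exact Scheme.IdealSheafData.support_antitone this

theorem isCompact_interior {S : Scheme.{u}} [CompactSpace S] (I : S.IdealSheafData)
    (hI : BlowUp.IsEffCartierIdeal I) : IsCompact (ModPair.interior I : Set S) := by
  haveI : QuasiCompact (ModPair.interior I).ι :=
    Groth.Agent.Helper18Strict.quasiCompact_cmpl_ι I hI
  have h := QuasiCompact.isCompact_preimage (f := (ModPair.interior I).ι) _ isOpen_univ
    isCompact_univ
  rw [Set.preimage_univ] at h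
  have h2 := h.image (ModPair.interior I).ι.continuous
  rw [Set.image_univ, Scheme.Opens.range_ι] at h2
  exact h2

theorem main {S : Scheme.{u}} [CompactSpace S] [QuasiSeparatedSpace S] (I : S.IdealSheafData)
    (hI : BlowUp.IsEffCartierIdeal I) {ι : Type u} (V : ι → S.Opens)
    (hVU : ∀ i, V i ≤ ModPair.interior I) (hVqc : ∀ i, IsCompact (V i : Set S))
    (hcov : ModPair.interior I ≤ ⨆ i, V i) :
    ∃ (F : S.IdealSheafData) (Y : Scheme.{u}) (b : Y ⟶ S) (κ : Type u) (W : κ → Y.Opens),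
      BlowUp.IsAdmissibleFor (ModPair.interior I) F ∧ BlowUp.IsBlowUp b F ∧
        BlowUp.IsEffCartierIdeal (I.comap b) ∧ (∀ k, IsCompact (W k : Set Y)) ∧
        (⨆ k, W k) = ⊤ ∧ ∀ k, ∃ i, W k ⊓ b ⁻¹ᵁ ModPair.interior I ≤ b ⁻¹ᵁ V i := by
  classical
  -- finitely many `V i` cover the interior
  have hUc := isCompact_interior I hI
  obtain ⟨t, ht⟩ := hUc.elim_finite_subcover (fun i => (V i : Set S)) (fun i => (V i).2) (by
    intro x hx
    have := hcov hx
    simpa using this)
  -- finite type ideals with the right supports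
  choose G hGft hGsupp using fun i => exists_ft_support_eq_compl (V i) (hVqc i)
  set F : S.IdealSheafData := ⨆ i : t, G i.1 with hF
  have hFft : BlowUp.IsFiniteTypeIdeal F := by
    intro W'
    rw [hF, Scheme.IdealSheafData.ideal_iSup]
    simp only [iSup_apply]
    exact Submodule.fg_iSup _ (fun i => hGft i.1 W')
  have hFsupp : Disjoint (F.support : Set S) (ModPair.interior I : Set S) := by
    rw [Set.disjoint_iff]
    rintro x ⟨hx, hxU⟩
    obtain ⟨i, hi, hxi⟩ : ∃ i ∈ t, x ∈ V i := by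
      have := ht hxU
      simpa using this
    have hle : G i ≤ F := le_iSup (fun j : t => G j.1) ⟨i, hi⟩
    have h1 : x ∈ (G i).support := Scheme.IdealSheafData.support_antitone hle hx
    have h2 : x ∈ ((G i).support : Set S) := h1
    rw [hGsupp i] at h2
    exact h2 hxi
  obtain ⟨Y, b, hb⟩ := Groth.Agent.Lib.H9BlowExist.exists_isBlowUp F
  have hIb : BlowUp.IsEffCartierIdeal (I.comap b) :=
    Groth.Agent.Lib.Helper20.BlowUpBasic.isEffCartierIdeal_comap F b hb I hI
  -- the local choice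
  have key : ∀ y : Y, ∃ W : Y.Opens, IsCompact (W : Set Y) ∧ y ∈ W ∧
      ∃ i, W ⊓ b ⁻¹ᵁ ModPair.interior I ≤ b ⁻¹ᵁ V i := by
    intro y
    obtain ⟨W₀, hyW, e, he, hEe⟩ := hb.1 y
    have hcomap : F.comap b = ⨆ i : t, (G i.1).comap b :=
      (Scheme.IdealSheafData.map_gc b).l_iSup
    rw [hcomap, Scheme.IdealSheafData.ideal_iSup] at hEe
    simp only [iSup_apply] at hEe
    let p : Ideal Γ(Y, W₀.1) :=
      (IsLocalRing.maximalIdeal (Y.presheaf.stalk y)).comap (Y.presheaf.germ W₀.1 y hyW).hom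
    have hp : ∀ r, r ∈ p ↔ y ∉ Y.basicOpen r := by
      intro r
      rw [Scheme.mem_basicOpen _ _ _ hyW]
      rfl
    have hex : ∃ i : t, ∃ a ∈ ((G i.1).comap b).ideal W₀, a ∉ Ideal.span {e} * p := by
      by_contra hcon
      push Not at hcon
      have h1 : (⨆ i : t, ((G i.1).comap b).ideal W₀) ≤ Ideal.span {e} * p :=
        iSup_le (fun i a ha => hcon i a ha)
      rw [hEe] at h1
      have h2 : e ∈ Ideal.span {e} * p := h1 (Ideal.subset_span rfl)
      obtain ⟨m, hm, hem⟩ := Ideal.mem_span_singleton_mul.1 h2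
      have h3 : m = 1 := by
        have : e * m = e * 1 := by rw [hem, mul_one]
        exact (mul_cancel_left_mem_nonZeroDivisors he).1 this
      rw [h3, hp] at hm
      apply hm
      rw [Scheme.basicOpen_one]
      exact hyW
    obtain ⟨i, a, ha, hane⟩ := hex
    have h4 : a ∈ Ideal.span {e} := by
      rw [← hEe]
      exact (le_iSup (fun i : t => ((G i.1).comap b).ideal W₀) i) ha
    obtain ⟨w, hw⟩ := Ideal.mem_span_singleton'.1 h4
    have hwp : w ∉ p := by
      intro hwp
      apply hane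
      rw [← hw, mul_comm w e]
      exact Ideal.mul_mem_mul (Ideal.subset_span rfl) hwp
    rw [hp, not_not] at hwp
    refine ⟨Y.basicOpen w, (W₀.2.basicOpen w).isCompact, hwp, i.1, ?_⟩
    rintro z ⟨hzw, hzU⟩
    have hzW₀ : z ∈ W₀.1 := Y.basicOpen_le w hzw
    -- `e` does not vanish at `z`
    have hze : z ∈ Y.basicOpen e := by
      by_contra hze
      have hz1 : z ∈ Y.zeroLocus (U := W₀.1) ((F.comap b).ideal W₀ : Set Γ(Y, W₀.1)) := by
        rw [hcomap, Scheme.IdealSheafData.ideal_iSup]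
        simp only [iSup_apply]
        rw [hEe, Scheme.zeroLocus_span, Scheme.zeroLocus_singleton]
        exact hze
      have hz2 : z ∈ (F.comap b).support :=
        (Scheme.IdealSheafData.mem_support_iff_of_mem (U := W₀) hzW₀).2 hz1
      rw [Scheme.IdealSheafData.support_comap] at hz2
      exact Set.disjoint_iff.1 hFsupp ⟨hz2, hzU⟩
    have hza : z ∈ Y.basicOpen a := by
      rw [← hw, Scheme.basicOpen_mul]
      exact ⟨hzw, hze⟩
    -- so `z` is not in the support of `G i`
    change b z ∈ V i.1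
    by_contra hzV
    have hz3 : b z ∈ ((G i.1).support : Set S) := by rw [hGsupp i.1]; exact hzV
    have hz4 : z ∈ ((G i.1).comap b).support := by
      rw [Scheme.IdealSheafData.support_comap]; exact hz3
    have hz5 := (Scheme.IdealSheafData.mem_support_iff_of_mem (U := W₀) hzW₀).1 hz4
    have hz6 : z ∈ Y.zeroLocus (U := W₀.1) ({a} : Set Γ(Y, W₀.1)) :=
      Scheme.zeroLocus_mono Y (Set.singleton_subset_iff.2 ha) hz5
    rw [Scheme.zeroLocus_singleton] at hz6
    exact hz6 hza
  choose W hWc hyW hWi using key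
  refine ⟨F, Y, b, Y, W, ⟨hFft, hFsupp⟩, hb, hIb, hWc, ?_, hWi⟩
  rw [eq_top_iff]
  intro y _
  exact Opens.mem_iSup.2 ⟨y, hyW y⟩


end Groth.Agent.Lib.H9ZarCov
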