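import Mathlib
import Groth.Prelude.Def_BlowUp2
import Groth.Agent.Lib.H9PtVan
import Groth.Agent.Lib.H9BlowExist
import Groth.Agent.Lib.H9BlowExt
import Groth.Agent.Lib.H9ZarCov
import Groth.Agent.Lib.Helper20BlowUp
import Groth.Agent.Lib.Helper22FTIdeal

set_option autoImplicit false
universe u
open nonZeroDivisors CategoryTheory CategoryTheory.Limits AlgebraicGeometry TopologicalSpace Opposite
open Groth.Agent.Lib.H9PtVan

namespace Groth.Agent.Lib.H9SepBlow3

open Matrix in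
/-- determinant trick / Nakayama: if `d i * ε i ∈ (ε) * 𝔭 + 𝔎` with `d i ∉ 𝔭`, then some `r ∉ 𝔭`
multiplies every `ε i` into `𝔎`. -/
theorem alg_key {R : Type*} [CommRing R] (𝔭 : Ideal R) [𝔭.IsPrime] (𝔎 : Ideal R) {m : ℕ}
    (ε d : Fin m → R) (hd : ∀ i, d i ∉ 𝔭)
    (h : ∀ i, d i * ε i ∈ Ideal.span (Set.range ε) * 𝔭 ⊔ 𝔎) :
    ∃ r : R, r ∉ 𝔭 ∧ ∀ i, r * ε i ∈ 𝔎 := by
  classical
  have h' : ∀ i, ∃ μ : Fin m → R, (∀ j, μ j ∈ 𝔭) ∧ d i * ε i - ∑ j, μ j * ε j ∈ 𝔎 := by
    intro i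
    obtain ⟨x, hx, k, hk, hxk⟩ := Submodule.mem_sup.mp (h i)
    rw [mul_comm, ← smul_eq_mul, Submodule.mem_ideal_smul_span_iff_exists_sum] at hx
    obtain ⟨a, ha, rfl⟩ := hx
    refine ⟨fun j => a j, ha, ?_⟩
    have : (a.sum fun i c => c • ε i) = ∑ j, a j * ε j := by
      rw [Finsupp.sum_fintype]
      · simp
      · intro i; simp
    rw [← hxk, this]
    simpa using hk
  choose μ hμ hμ' using h'
  let M : Matrix (Fin m) (Fin m) R := Matrix.diagonal d - Matrix.of μ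
  refine ⟨M.det, ?_, ?_⟩
  · intro hdet
    have h1 : (Ideal.Quotient.mk 𝔭) M.det = 0 := Ideal.Quotient.eq_zero_iff_mem.mpr hdet
    rw [RingHom.map_det] at h1
    have h2 : (Ideal.Quotient.mk 𝔭).mapMatrix M =
        Matrix.diagonal (fun i => Ideal.Quotient.mk 𝔭 (d i)) := by
      ext i j
      simp only [RingHom.mapMatrix_apply, Matrix.map_apply, M, Matrix.sub_apply, Matrix.of_apply,
        map_sub]
      rw [Ideal.Quotient.eq_zero_iff_mem.mpr (hμ i j), sub_zero]
      by_cases hij : i = j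
      · subst hij; simp
      · simp [Matrix.diagonal_apply_ne _ hij]
    rw [h2, Matrix.det_diagonal, Finset.prod_eq_zero_iff] at h1
    obtain ⟨i, -, hi⟩ := h1
    exact hd i (Ideal.Quotient.eq_zero_iff_mem.mp hi)
  · intro i
    have h3 : ∀ k, (M.mulVec ε) k ∈ 𝔎 := by
      intro k
      have : (M.mulVec ε) k = d k * ε k - ∑ j, μ k j * ε j := by
        simp only [M, Matrix.sub_mulVec, Pi.sub_apply, Matrix.mulVec_diagonal]
        simp [Matrix.mulVec, dotProduct]
      rw [this]; exact hμ' k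
    have h4 : M.det * ε i = (M.adjugate.mulVec (M.mulVec ε)) i := by
      rw [Matrix.mulVec_mulVec, Matrix.adjugate_mul, Matrix.smul_mulVec, Matrix.one_mulVec]
      simp
    rw [h4]
    simp only [Matrix.mulVec, dotProduct]
    exact Ideal.sum_mem _ fun k _ => Ideal.mul_mem_left _ _ (h3 k)



/-- the wide pullback over `Fin (m+1)` is the pullback of the `0`-th arrow and the wide pullback
of the tail. -/
theorem isPullback_lift_succ {m : ℕ} {S : Scheme.{u}} (X : Fin (m + 1) → Scheme.{u})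
    (g : ∀ i, X i ⟶ S) :
    IsPullback
      (WidePullback.lift (objs := fun i : Fin m => X i.succ) (arrows := fun i : Fin m => g i.succ)
        (WidePullback.base g) (fun i : Fin m => WidePullback.π g i.succ)
        (fun i => WidePullback.π_arrow g i.succ))
      (WidePullback.π g 0) (WidePullback.base (fun i : Fin m => g i.succ)) (g 0) := by
  refine ⟨⟨?_⟩, ⟨PullbackCone.IsLimit.mk _ ?_ ?_ ?_ ?_⟩⟩
  · rw [WidePullback.lift_base, WidePullback.π_arrow]
  · intro s
    refine WidePullback.lift (s.snd ≫ g 0)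
      (Fin.cases (motive := fun i => s.pt ⟶ X i) s.snd
        (fun i => s.fst ≫ WidePullback.π (fun i : Fin m => g i.succ) i)) ?_
    intro j
    refine Fin.cases ?_ (fun i => ?_) j
    · simp
    · simp only [Fin.cases_succ, Category.assoc]
      rw [WidePullback.π_arrow (fun i : Fin m => g i.succ) i, s.condition]
  · intro s
    apply WidePullback.hom_ext
    · intro j
      simp only [Category.assoc, WidePullback.lift_π]
      simp
    · simp only [Category.assoc, WidePullback.lift_base]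
      exact s.condition.symm
  · intro s
    rw [WidePullback.lift_π]
    simp
  · intro s l h1 h2
    apply WidePullback.hom_ext
    · intro j
      rw [WidePullback.lift_π]
      refine Fin.cases ?_ (fun i => ?_) j
      · simpa using h2
      · simp only [Fin.cases_succ]
        rw [← h1, Category.assoc, WidePullback.lift_π]
    · rw [WidePullback.lift_base, ← h2, Category.assoc, WidePullback.π_arrow]

theorem widePullback_base_of {P : MorphismProperty Scheme.{u}} [P.IsStableUnderBaseChange]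
    [P.IsStableUnderComposition] [P.ContainsIdentities] [P.RespectsIso] :
    ∀ (m : ℕ) {S : Scheme.{u}} (X : Fin m → Scheme.{u}) (g : ∀ i, X i ⟶ S), (∀ i, P (g i)) →
      P (WidePullback.base g) := by
  intro m
  induction m with
  | zero =>
    intro S X g _
    have : IsIso (WidePullback.base g) := by
      refine ⟨WidePullback.lift (𝟙 S) (fun i => Fin.elim0 i) (fun i => Fin.elim0 i), ?_, ?_⟩
      · apply WidePullback.hom_ext
        · intro i; exact Fin.elim0 i
        · rw [Category.assoc, WidePullback.lift_base, Category.comp_id, Category.id_comp]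
      · exact WidePullback.lift_base (arrows := g) _ _ _
    exact P.of_isIso _
  | succ m ih =>
    intro S X g hg
    have h1 := isPullback_lift_succ X g
    have h2 : P (WidePullback.base (fun i : Fin m => g i.succ)) :=
      ih (fun i => X i.succ) (fun i => g i.succ) (fun i => hg i.succ)
    have h3 : P (WidePullback.π g 0) := P.of_isPullback h1 h2
    have h4 : WidePullback.base g = WidePullback.π g 0 ≫ g 0 := (WidePullback.π_arrow g 0).symm
    rw [h4]
    exact P.comp_mem _ _ h3 (hg 0)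

theorem isProper_widePullback_base {m : ℕ} {S : Scheme.{u}} (X : Fin m → Scheme.{u})
    (g : ∀ i, X i ⟶ S) [∀ i, IsProper (g i)] : IsProper (WidePullback.base g) :=
  widePullback_base_of (P := @IsProper) m X g inferInstance

theorem isProper_widePullback_π {m : ℕ} {S : Scheme.{u}} (X : Fin m → Scheme.{u})
    (g : ∀ i, X i ⟶ S) [∀ i, IsProper (g i)] (i : Fin m) : IsProper (WidePullback.π g i) := by
  haveI : IsProper (WidePullback.π g i ≫ g i) := by
    rw [WidePullback.π_arrow]; exact isProper_widePullback_base X g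
  exact IsProper.of_comp (WidePullback.π g i) (g i)



/-- local structure of the blow-up of `F ⊔ E₀` at a point of the closure of the preimage of a set
`A ⊆ V(F)` missing `V(E₀)`. -/
theorem local_key {X X' : Scheme.{u}} (F E₀ : X.IdealSheafData) (c : X' ⟶ X)
    (hc : BlowUp.IsEffCartierIdeal ((F ⊔ E₀).comap c)) (A : Set X)
    (hA : A ⊆ F.support) (hA' : Disjoint A (E₀.support : Set X))
    (x' : X') (hx' : x' ∈ closure (c ⁻¹' A)) :
    ∃ (W : X.affineOpens) (W' : X'.affineOpens) (hx'W' : x' ∈ W'.1) (hW'W : W'.1 ≤ c ⁻¹ᵁ W.1)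
      (e b : Γ(X', W'.1)),
      ((F ⊔ E₀).comap c).ideal W' = Ideal.span {e} ∧
      e * b ∈ (E₀.ideal W).map (c.appLE W.1 W'.1 hW'W).hom ∧
      b ∉ vanAt W'.1 x' hx'W' ∧
      (F.ideal W).map (c.appLE W.1 W'.1 hW'W).hom ≤ Ideal.span {e} * vanAt W'.1 x' hx'W' := by
  set 𝓢 := F ⊔ E₀ with h𝓢
  obtain ⟨W, hW, hxW, -⟩ := exists_isAffineOpen_mem_and_subset (x := c x') (U := ⊤) trivial
  obtain ⟨W', hW', hx'W', hW'W, e, he, hIe⟩ :=
    Groth.Agent.Lib.Helper20.EffCartier.exists_le_of_isEffCartierIdeal hc x' (c ⁻¹ᵁ W) hxW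
  set α := (c.appLE W W' hW'W).hom with hα
  set J₁ := (F.ideal ⟨W, hW⟩).map α with hJ₁
  set J₂ := (E₀.ideal ⟨W, hW⟩).map α with hJ₂
  have hS' : J₁ ⊔ J₂ = Ideal.span {e} := by
    rw [← hIe, Groth.Agent.Lib.Helper22.IdealComap.ideal_comap_eq_map c 𝓢 ⟨W', hW'⟩ ⟨W, hW⟩ hW'W,
      h𝓢, Scheme.IdealSheafData.ideal_sup, Pi.sup_apply, Ideal.map_sup]
  have hJ₁le : J₁ ≤ Ideal.span {e} := hS' ▸ le_sup_left
  set 𝔟₁ := colon J₁ e with h𝔟₁
  have hJb₁ : J₁ = Ideal.span {e} * 𝔟₁ := eq_span_mul_colon _ _ hJ₁le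
  have he' : e ∈ J₁ ⊔ J₂ := by rw [hS']; exact Ideal.mem_span_singleton_self e
  obtain ⟨j₁, hj₁, j₂, hj₂, hj⟩ := Submodule.mem_sup.mp he'
  rw [hJb₁] at hj₁
  obtain ⟨b₁, hb₁, rfl⟩ := Ideal.mem_span_singleton_mul.mp hj₁
  obtain ⟨b₂, rfl⟩ : ∃ b₂, e * b₂ = j₂ := by
    have : j₂ ∈ Ideal.span {e} := hS' ▸ (le_sup_right : J₂ ≤ J₁ ⊔ J₂) hj₂
    obtain ⟨b₂, hb₂⟩ := Ideal.mem_span_singleton'.mp this
    exact ⟨b₂, by rw [mul_comm]; exact hb₂⟩
  have hb12 : b₁ + b₂ = 1 := by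
    have h3 : (b₁ + b₂ - 1) * e = 0 := by
      rw [sub_mul, add_mul, one_mul, mul_comm b₁, mul_comm b₂, hj, sub_self]
    have := (mem_nonZeroDivisors_iff_right.mp he) _ h3
    exact sub_eq_zero.mp this
  have hAS : Disjoint A (𝓢.support : Set X) := by
    rw [Set.disjoint_left]
    intro x hxA hxS
    rw [h𝓢, Scheme.IdealSheafData.support_sup] at hxS
    exact Set.disjoint_left.mp hA' hxA hxS.2
  have key : 𝔟₁ ≤ vanAt W' x' hx'W' := by
    intro β hβ
    by_contra hcon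
    obtain ⟨y, hyW', hyA, hyβ⟩ := exists_mem_of_mem_closure hx'W' β hcon _ hx'
    have hyW : c y ∈ W := hW'W hyW'
    have h8 : e * β ∈ vanAt W' y hyW' := by
      have : (F.ideal ⟨W, hW⟩).map α ≤ vanAt W' y hyW' :=
        map_appLE_le_vanAt c hW'W hyW' _
          (ideal_le_vanAt_of_mem_support F ⟨W, hW⟩ hyW (hA hyA))
      exact this hβ
    rcases (isPrime_vanAt _ _ _).mem_or_mem h8 with h9 | h9
    · refine gen_not_mem_vanAt (𝓢.comap c) ⟨W', hW'⟩ e hIe hyW' ?_ h9
      intro hc'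
      rw [Scheme.IdealSheafData.support_comap] at hc'
      exact Set.disjoint_left.mp hAS hyA hc'
    · exact hyβ h9
  refine ⟨⟨W, hW⟩, ⟨W', hW'⟩, hx'W', hW'W, e, b₂, hIe, hj₂, ?_, ?_⟩
  · intro hb₂
    have := (vanAt W' x' hx'W').add_mem (key hb₁) hb₂
    rw [hb12] at this
    exact one_not_mem_vanAt hx'W' this
  · change J₁ ≤ _
    rw [hJb₁]
    exact Ideal.mul_mono_right key

/-- sections of the kernel of `f' ≫ g`, pulled back along `g`, vanish at the points of the image of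
`f'`. -/
theorem ker_map_le_vanAt {Y Z Z' : Scheme.{u}} (f' : Y ⟶ Z') (g : Z' ⟶ Z) (M : Z.affineOpens)
    (N : Z'.Opens) (hNM : N ≤ g ⁻¹ᵁ M.1) (u : Y) (hu : f' u ∈ N) :
    ((f' ≫ g).ker.ideal M).map (g.appLE M.1 N hNM).hom ≤ vanAt N (f' u) hu := by
  apply map_appLE_le_vanAt g hNM hu
  exact ker_ideal_le_vanAt (f' ≫ g) M u (hNM hu)



theorem core {m : ℕ} {P P' U : Scheme.{u}} (φ : P' ⟶ P) (Xb Xb' : Fin m → Scheme.{u})
    (c : ∀ i, Xb' i ⟶ Xb i) (π : ∀ i, P ⟶ Xb i) (π' : ∀ i, P' ⟶ Xb' i)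
    (hsq : ∀ i, φ ≫ π i = π' i ≫ c i)
    (ι' : U ⟶ P')
    (F E₀ : ∀ i, (Xb i).IdealSheafData)
    (hc : ∀ i, BlowUp.IsEffCartierIdeal ((F i ⊔ E₀ i).comap (c i)))
    (A : ∀ i, Set (Xb i)) (hA : ∀ i, A i ⊆ (F i).support)
    (hA' : ∀ i, Disjoint (A i) ((E₀ i).support : Set (Xb i)))
    (hincl : ∀ i, (E₀ i).comap (π i) ≤ (⨆ j, (F j).comap (π j)) ⊔ (ι' ≫ φ).ker)
    (hU : ∀ i u, c i (π' i (ι' u)) ∉ (F i ⊔ E₀ i).support)
    (i₀ : Fin m) (z : P') (hz : z ∈ closure (Set.range ι'))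
    (hzi : ∀ i, π' i z ∈ closure (c i ⁻¹' A i)) : False := by
  have hloc := fun i => local_key (F i) (E₀ i) (c i) (hc i) (A i) (hA i) (hA' i) (π' i z) (hzi i)
  choose W W' hx'W' hW'W e b hIe heb hb hFle using hloc
  -- affine open of `P` around `φ z`
  let O : P.Opens := ⨅ i, π i ⁻¹ᵁ (W i).1
  have hπφ : ∀ i, π i (φ z) = c i (π' i z) := by
    intro i
    rw [← Scheme.Hom.comp_apply, ← Scheme.Hom.comp_apply, hsq]
  have hzO : φ z ∈ O := by
    change φ z ∈ (O : Set P)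
    rw [Opens.coe_iInf, Set.mem_iInter]
    intro i
    change π i (φ z) ∈ (W i).1
    rw [hπφ]
    exact hW'W i (hx'W' i)
  obtain ⟨M, hM, hzM, hMO⟩ := exists_isAffineOpen_mem_and_subset (x := φ z) (U := O) hzO
  have hOle : ∀ i, O ≤ π i ⁻¹ᵁ (W i).1 := fun i => iInf_le _ i
  have hMW : ∀ i, M ≤ π i ⁻¹ᵁ (W i).1 := fun i x hx => hOle i (hMO hx)
  let O' : P'.Opens := φ ⁻¹ᵁ M ⊓ ⨅ i, π' i ⁻¹ᵁ (W' i).1
  have hzO' : z ∈ O' := by
    refine ⟨hzM, ?_⟩
    change z ∈ ((⨅ i, π' i ⁻¹ᵁ (W' i).1 : P'.Opens) : Set P')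
    rw [Opens.coe_iInf, Set.mem_iInter]
    intro i
    exact hx'W' i
  obtain ⟨N, hN, hzN, hNO'⟩ := exists_isAffineOpen_mem_and_subset (x := z) (U := O') hzO'
  have hO'le1 : O' ≤ φ ⁻¹ᵁ M := inf_le_left
  have hO'le2 : ∀ i, O' ≤ π' i ⁻¹ᵁ (W' i).1 := fun i => inf_le_right.trans (iInf_le _ i)
  have hNM : N ≤ φ ⁻¹ᵁ M := fun x hx => hO'le1 (hNO' hx)
  have hNW' : ∀ i, N ≤ π' i ⁻¹ᵁ (W' i).1 := fun i x hx => hO'le2 i (hNO' hx)
  set σ := (φ.appLE M N hNM).hom with hσ
  let α := fun i => ((c i).appLE (W i).1 (W' i).1 (hW'W i)).hom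
  let ρ := fun i => ((π' i).appLE (W' i).1 N (hNW' i)).hom
  let τ := fun i => ((π i).appLE (W i).1 M (hMW i)).hom
  have hcomm : ∀ i, (ρ i).comp (α i) = σ.comp (τ i) := fun i =>
    appLE_square φ (π' i) (π i) (c i) (hsq i) (W i).1 (W' i).1 M N _ _ _ _
  set 𝔭 := vanAt N z hzN with h𝔭
  set 𝔎 := ((ι' ≫ φ).ker.ideal ⟨M, hM⟩).map σ with h𝔎
  let ε : Fin m → Γ(P', N) := fun i => ρ i (e i)
  let d : Fin m → Γ(P', N) := fun i => ρ i (b i)
  have hd : ∀ i, d i ∉ 𝔭 := by
    intro i hdi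
    exact hb i ((appLE_mem_vanAt_iff (π' i) (hNW' i) hzN (b i)).mp hdi)
  have hmapcomap : ∀ (i : Fin m) (G : (Xb i).IdealSheafData),
      ((G.comap (π i)).ideal ⟨M, hM⟩).map σ = ((G.ideal (W i)).map (α i)).map (ρ i) := by
    intro i G
    rw [Groth.Agent.Lib.Helper22.IdealComap.ideal_comap_eq_map (π i) G ⟨M, hM⟩ (W i) (hMW i),
      Ideal.map_map, Ideal.map_map, hcomm]
  have hFj : ∀ j, (((F j).comap (π j)).ideal ⟨M, hM⟩).map σ ≤ Ideal.span (Set.range ε) * 𝔭 := by
    intro j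
    rw [hmapcomap]
    refine (Ideal.map_mono (hFle j)).trans ?_
    rw [Ideal.map_mul, Ideal.map_span, Set.image_singleton]
    refine Ideal.mul_mono (Ideal.span_mono ?_) ?_
    · rintro _ rfl
      exact ⟨j, rfl⟩
    · exact map_appLE_le_vanAt (π' j) (hNW' j) hzN _ le_rfl
  have h : ∀ i, d i * ε i ∈ Ideal.span (Set.range ε) * 𝔭 ⊔ 𝔎 := by
    intro i
    have h1 : d i * ε i ∈ (((E₀ i).comap (π i)).ideal ⟨M, hM⟩).map σ := by
      rw [hmapcomap]
      have : d i * ε i = ρ i (e i * b i) := by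
        change ρ i (b i) * ρ i (e i) = _
        rw [← map_mul, mul_comm]
      rw [this]
      exact Ideal.mem_map_of_mem _ (heb i)
    have h2 := Ideal.map_mono (f := σ) (hincl i ⟨M, hM⟩) h1
    rw [Scheme.IdealSheafData.ideal_sup, Pi.sup_apply, Ideal.map_sup,
      Scheme.IdealSheafData.ideal_iSup, iSup_apply, Ideal.map_iSup] at h2
    refine sup_le_sup_right (iSup_le hFj) _ h2
  obtain ⟨r, hr, hrε⟩ := alg_key 𝔭 𝔎 ε d hd h
  obtain ⟨y, hyN, ⟨u, rfl⟩, hyr⟩ := exists_mem_of_mem_closure hzN r hr (Set.range ι') hz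
  have h3 : r * ε i₀ ∈ vanAt N (ι' u) hyN :=
    ker_map_le_vanAt ι' φ ⟨M, hM⟩ N hNM u hyN (hrε i₀)
  rcases (isPrime_vanAt _ _ _).mem_or_mem h3 with h4 | h4
  · exact hyr h4
  · have h5 : e i₀ ∈ vanAt (W' i₀).1 (π' i₀ (ι' u)) (hNW' i₀ hyN) :=
      (appLE_mem_vanAt_iff (π' i₀) (hNW' i₀) hyN (e i₀)).mp h4
    refine gen_not_mem_vanAt ((F i₀ ⊔ E₀ i₀).comap (c i₀)) (W' i₀) (e i₀) (hIe i₀)
      (hNW' i₀ hyN) ?_ h5
    intro hc'
    rw [Scheme.IdealSheafData.support_comap] at hc'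
    exact hU i₀ u hc'



/-- points of the closure of `U` in `X̄ᵢ ×_S X̄ⱼ` lying over `Xᵢ` lie over `Xⱼ`, when `Xⱼ → X` is
proper. -/
theorem mem_range_of_closure {S X U Xi Xj Xbi Xbj : Scheme.{u}} (gX : X ⟶ S)
    (gbi : Xbi ⟶ S) (gbj : Xbj ⟶ S) [IsProper gbj]
    (oi : Xi ⟶ Xbi) (oj : Xj ⟶ Xbj) [IsOpenImmersion oi]
    (qi : Xi ⟶ X) (qj : Xj ⟶ X) [IsProper qj]
    (hqi : qi ≫ gX = oi ≫ gbi) (hqj : qj ≫ gX = oj ≫ gbj)
    (vi : U ⟶ Xi) (vj : U ⟶ Xj) (hv : vi ≫ qi = vj ≫ qj)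
    (ιQ : U ⟶ pullback gbi gbj) (hιQ1 : ιQ ≫ pullback.fst gbi gbj = vi ≫ oi)
    (hιQ2 : ιQ ≫ pullback.snd gbi gbj = vj ≫ oj)
    (a : ↑(pullback gbi gbj)) (ha : a ∈ closure (Set.range ιQ))
    (hai : pullback.fst gbi gbj a ∈ Set.range oi) :
    pullback.snd gbi gbj a ∈ Set.range oj := by
  let ω := pullback.fst (pullback.fst gbi gbj) oi
  let aT : pullback qi qj ⟶ pullback gbi gbj := pullback.map qi qj gbi gbj oi oj gX hqi hqj
  have haT1 : aT ≫ pullback.fst gbi gbj = pullback.fst qi qj ≫ oi :=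
    pullback.lift_fst _ _ _
  have haT2 : aT ≫ pullback.snd gbi gbj = pullback.snd qi qj ≫ oj :=
    pullback.lift_snd _ _ _
  let τ : pullback qi qj ⟶ pullback (pullback.fst gbi gbj) oi :=
    pullback.lift aT (pullback.fst qi qj) haT1
  have hτ1 : τ ≫ ω = aT := pullback.lift_fst _ _ _
  have hτ2 : τ ≫ pullback.snd (pullback.fst gbi gbj) oi = pullback.fst qi qj :=
    pullback.lift_snd _ _ _
  haveI : IsProper (τ ≫ pullback.snd (pullback.fst gbi gbj) oi) := by
    rw [hτ2]; infer_instance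
  haveI : IsProper τ := IsProper.of_comp τ (pullback.snd (pullback.fst gbi gbj) oi)
  let uT : U ⟶ pullback qi qj := pullback.lift vi vj hv
  have huT : uT ≫ τ ≫ ω = ιQ := by
    rw [hτ1]
    apply pullback.hom_ext
    · rw [Category.assoc, haT1, hιQ1, pullback.lift_fst_assoc]
    · rw [Category.assoc, haT2, hιQ2, pullback.lift_snd_assoc]
  have hrω : Set.range ω = pullback.fst gbi gbj ⁻¹' Set.range oi :=
    Scheme.Pullback.range_fst _ _
  obtain ⟨w, rfl⟩ : a ∈ Set.range ω := by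
    rw [hrω]; exact hai
  have hw : w ∈ closure (Set.range (uT ≫ τ)) := by
    have hind : Topology.IsInducing ω := ω.isOpenEmbedding.isInducing
    rw [hind.closure_eq_preimage_closure_image]
    refine closure_mono ?_ ha
    rintro _ ⟨u, rfl⟩
    refine ⟨(uT ≫ τ) u, ⟨u, rfl⟩, ?_⟩
    rw [← huT]
    simp only [Scheme.Hom.comp_apply]
  have hcl : IsClosed (Set.range τ) := τ.isClosedMap.isClosed_range
  have hw' : w ∈ Set.range τ := by
    refine (closure_minimal ?_ hcl) hw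
    rintro _ ⟨u, rfl⟩
    exact ⟨uT u, by simp only [Scheme.Hom.comp_apply]⟩
  obtain ⟨t, rfl⟩ := hw'
  refine ⟨pullback.snd qi qj t, ?_⟩
  rw [← Scheme.Hom.comp_apply, ← haT2, ← hτ1]
  simp only [Scheme.Hom.comp_apply, Category.assoc]



/-- the complement of the support of a finite type ideal sheaf on a quasi-compact scheme is
quasi-compact. -/
theorem isCompact_compl_support {X : Scheme.{u}} [CompactSpace X] (Y : X.IdealSheafData)
    (hY : BlowUp.IsFiniteTypeIdeal Y) : IsCompact ((Y.support : Set X)ᶜ) := by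
  classical
  obtain ⟨s, hs, hsX⟩ := isCompact_iff_finite_and_eq_biUnion_affineOpens.mp
    (show IsCompact ((⊤ : X.Opens) : Set X) from isCompact_univ)
  choose t ht using fun W : X.affineOpens => hY W
  have hcov : ∀ x : X, ∃ W ∈ s, x ∈ W.1 := by
    intro x
    have hx : x ∈ ((⊤ : X.Opens) : Set X) := trivial
    rw [hsX] at hx
    simpa using hx
  have heq : (Y.support : Set X)ᶜ = ⋃ W ∈ s, ⋃ f ∈ t W, (X.basicOpen f : Set X) := by
    ext x
    simp only [Set.mem_compl_iff, SetLike.mem_coe, Set.mem_iUnion, exists_prop]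
    constructor
    · intro hx
      obtain ⟨W, hWs, hxW⟩ := hcov x
      rw [Scheme.IdealSheafData.mem_support_iff_of_mem (U := W) hxW, Scheme.mem_zeroLocus_iff] at hx
      push Not at hx
      obtain ⟨f, hf, hxf⟩ := hx
      by_contra hcon
      push Not at hcon
      have h1 : ∀ g ∈ t W, x ∉ X.basicOpen g := fun g hg => hcon W hWs g hg
      have h2 : Y.ideal W ≤ Groth.Agent.Lib.H9PtVan.vanAt W.1 x hxW := by
        rw [← ht W, Ideal.span_le]
        intro g hg
        rw [SetLike.mem_coe, Groth.Agent.Lib.H9PtVan.mem_vanAt_iff]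
        exact h1 g hg
      have h3 := h2 hf
      rw [Groth.Agent.Lib.H9PtVan.mem_vanAt_iff] at h3
      exact h3 hxf
    · rintro ⟨W, hWs, f, hf, hxf⟩ hx
      have hxW : x ∈ W.1 := X.basicOpen_le f hxf
      rw [Scheme.IdealSheafData.mem_support_iff_of_mem (U := W) hxW, Scheme.mem_zeroLocus_iff] at hx
      refine hx f ?_ hxf
      rw [← ht W]
      exact Ideal.subset_span hf
  rw [heq]
  refine hs.isCompact_biUnion fun W _ => ?_
  refine (t W).finite_toSet.isCompact_biUnion fun f _ => ?_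
  exact (W.2.basicOpen f).isCompact

open Groth.Agent.Lib.Helper22.FTIdeal in
/-- a finite type sub-ideal which is still the unit ideal on a quasi-compact open missing the
support. -/
theorem exists_ft_le {X : Scheme.{u}} [CompactSpace X] [QuasiSeparatedSpace X]
    (K : X.IdealSheafData) (V : X.Opens) (hV : IsCompact (V : Set X))
    (hKV : Disjoint (K.support : Set X) (V : Set X)) :
    ∃ E₀ : X.IdealSheafData, E₀ ≤ K ∧ BlowUp.IsFiniteTypeIdeal E₀ ∧
      Disjoint (E₀.support : Set X) (V : Set X) := by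
  classical
  have hKV' : ∀ W : X.affineOpens, W.1 ≤ V → K.ideal W = ⊤ := by
    intro W hWV
    apply Groth.Agent.Lib.H9BlowExt.ideal_eq_top_of_disjoint
    rw [Set.disjoint_left]
    intro x hx hxW
    exact Set.disjoint_left.mp hKV hx (hWV hxW)
  have hFTK : FTOn K V := by
    intro W hWV
    rw [hKV' W hWV]
    exact ⟨{1}, by simp⟩
  obtain ⟨s, hs, hsX⟩ := isCompact_iff_finite_and_eq_biUnion_affineOpens.mp
    (show IsCompact ((⊤ : X.Opens) : Set X) from isCompact_univ)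
  obtain ⟨E₀, hE₀le, hE₀ft, hE₀eq⟩ := extend_finset hs.toFinset K V hV hFTK
  refine ⟨E₀, hE₀le, ?_, ?_⟩
  · intro W
    refine hE₀ft W ?_
    refine le_sup_of_le_right ?_
    intro x hx
    have hx' : x ∈ (⊤ : X.Opens) := trivial
    rw [hsX] at hx'
    simpa using hx'
  · apply Groth.Agent.Lib.H9BlowExt.disjoint_support_of_ideal_eq_top
    intro W hWV
    rw [hE₀eq W hWV, hKV' W hWV]



theorem main {S X U : Scheme.{u}} [CompactSpace S] [QuasiSeparatedSpace S] {m : ℕ}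
    (gX : X ⟶ S) [QuasiCompact gX]
    (Xi Xb : Fin m → Scheme.{u}) (gb : ∀ i, Xb i ⟶ S) [∀ i, IsProper (gb i)]
    (o : ∀ i, Xi i ⟶ Xb i) [∀ i, IsOpenImmersion (o i)] [∀ i, QuasiCompact (o i)]
    (q : ∀ i, Xi i ⟶ X) [∀ i, IsProper (q i)] (hq : ∀ i, q i ≫ gX = o i ≫ gb i)
    (jU : U ⟶ X) [QuasiCompact jU]
    (v : ∀ i, U ⟶ Xi i)
    (hv : ∀ i, v i ≫ q i = jU) (w : ∀ i, (v i ≫ o i) ≫ gb i = jU ≫ gX)
    (Y : ∀ i, (Xi i).IdealSheafData) (hY : ∀ i, BlowUp.IsFiniteTypeIdeal (Y i))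
    (hempty : ∀ z ∈ closure (Set.range (fun x => (WidePullback.lift (jU ≫ gX) (fun i => v i ≫ o i) w) x)),
      ∃ i, (WidePullback.π gb i) z ∉ (fun x => o i x) '' ((Y i).support : Set (Xi i))) :
    ∃ (𝓔 : ∀ i, (Xb i).IdealSheafData) (Xb' : Fin m → Scheme.{u}) (c : ∀ i, Xb' i ⟶ Xb i)
      (v' : ∀ i, U ⟶ Xb' i) (w' : ∀ i, v' i ≫ c i ≫ gb i = jU ≫ gX),
      (∀ i, BlowUp.IsBlowUp (c i) (𝓔 i) ∧ BlowUp.IsAdmissibleFor (o i).opensRange (𝓔 i) ∧
        v' i ≫ c i = v i ≫ o i) ∧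
      ∀ z ∈ closure (Set.range (fun x => (WidePullback.lift (jU ≫ gX) (fun i => v' i) w') x)),
        ∃ i, (WidePullback.π (fun i => c i ≫ gb i) i) z ∉
          closure ((fun y => c i y) ⁻¹' ((fun x => o i x) '' ((Y i).support : Set (Xi i)))) := by
  classical
  haveI : ∀ i, CompactSpace (Xb i) := fun i => QuasiCompact.compactSpace_of_compactSpace (gb i)
  haveI : ∀ i, QuasiSeparatedSpace (Xb i) := fun i => quasiSeparatedSpace_of_quasiSeparated (gb i)
  haveI : ∀ i, CompactSpace (Xi i) := fun i => QuasiCompact.compactSpace_of_compactSpace (o i)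
  haveI : CompactSpace X := QuasiCompact.compactSpace_of_compactSpace gX
  haveI : CompactSpace U := QuasiCompact.compactSpace_of_compactSpace jU
  let π := fun i => WidePullback.π gb i
  set ιU : U ⟶ widePullback S Xb gb :=
    WidePullback.lift (jU ≫ gX) (fun i => v i ≫ o i) w with hιU
  haveI : IsProper (WidePullback.base gb) := isProper_widePullback_base Xb gb
  haveI : CompactSpace ↑(widePullback S Xb gb) :=
    QuasiCompact.compactSpace_of_compactSpace (WidePullback.base gb)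
  haveI : QuasiSeparatedSpace ↑(widePullback S Xb gb) :=
    quasiSeparatedSpace_of_quasiSeparated (WidePullback.base gb)
  haveI : ∀ i, IsProper (π i) := fun i => isProper_widePullback_π Xb gb i
  have hιUπ : ∀ i, ιU ≫ π i = v i ≫ o i := fun i => WidePullback.lift_π _ _ _ _ i
  -- the ideals `F i`
  have hF : ∀ i, ∃ F : (Xb i).IdealSheafData, BlowUp.IsFiniteTypeIdeal F ∧
      (fun x => o i x) '' ((Y i).support : Set (Xi i)) ⊆ F.support ∧
      (F.support : Set (Xb i)) ∩ Set.range (o i) ⊆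
        (fun x => o i x) '' ((Y i).support : Set (Xi i)) := by
    intro i
    let O : (Xb i).Opens := ⟨o i '' ((Y i).support : Set (Xi i))ᶜ,
      (o i).isOpenEmbedding.isOpenMap _ (Y i).support.isClosed.isOpen_compl⟩
    have hO : IsCompact (O : Set (Xb i)) :=
      (isCompact_compl_support (Y i) (hY i)).image (o i).continuous
    obtain ⟨F, hF, hFs⟩ := Groth.Agent.Lib.H9ZarCov.exists_ft_support_eq_compl O hO
    refine ⟨F, hF, ?_, ?_⟩
    · rintro _ ⟨y, hy, rfl⟩
      rw [hFs]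
      rintro ⟨y', hy', hyy'⟩
      have := (o i).isOpenEmbedding.injective hyy'
      subst this
      exact hy' hy
    · rintro _ ⟨hxF, ⟨y, rfl⟩⟩
      rw [hFs] at hxF
      refine ⟨y, ?_, rfl⟩
      by_contra hy
      exact hxF ⟨y, hy, rfl⟩
  choose F hFft hFsub hFcap using hF
  set B : (widePullback S Xb gb).IdealSheafData := (⨆ j, (F j).comap (π j)) ⊔ ιU.ker with hB
  have hBsupp : ∀ i, ∀ z ∈ (B.support : Set ↑(widePullback S Xb gb)), π i z ∉ Set.range (o i) := by
    intro i z hz hzi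
    rw [hB, Scheme.IdealSheafData.support_sup] at hz
    have hz1 : ∀ j, π j z ∈ (F j).support := by
      intro j
      have h1 := hz.1
      rw [Scheme.IdealSheafData.support_iSup] at h1
      have h2 : z ∈ ((F j).comap (π j)).support :=
        (iInf_le (fun j => ((F j).comap (π j)).support) j) h1
      rwa [Scheme.IdealSheafData.support_comap] at h2
    have hz2 : z ∈ closure (Set.range ιU) := by
      have h1 := hz.2
      rwa [Scheme.Hom.support_ker] at h1
    have hall : ∀ j, π j z ∈ Set.range (o j) := by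
      intro j
      let pr : widePullback S Xb gb ⟶ pullback (gb i) (gb j) :=
        pullback.lift (π i) (π j) (by rw [WidePullback.π_arrow, WidePullback.π_arrow])
      have hpr1 : pr ≫ pullback.fst (gb i) (gb j) = π i := pullback.lift_fst _ _ _
      have hpr2 : pr ≫ pullback.snd (gb i) (gb j) = π j := pullback.lift_snd _ _ _
      have key := mem_range_of_closure gX (gb i) (gb j) (o i) (o j)
        (q i) (q j) (hq i) (hq j) (v i) (v j) ((hv i).trans (hv j).symm) (ιU ≫ pr)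
        (by rw [Category.assoc, hpr1, hιUπ]) (by rw [Category.assoc, hpr2, hιUπ]) (pr z)
        (map_mem_closure pr.continuous hz2 (by
          rintro _ ⟨u, rfl⟩
          exact ⟨u, by simp only [Scheme.Hom.comp_apply]⟩))
        (by rw [← Scheme.Hom.comp_apply, hpr1]; exact hzi)
      rwa [← Scheme.Hom.comp_apply, hpr2] at key
    obtain ⟨j, hj⟩ := hempty z hz2
    exact hj (hFcap j ⟨hz1 j, hall j⟩)
  -- the finite type ideals `E₀ i`
  have hE : ∀ i, ∃ E₀ : (Xb i).IdealSheafData, BlowUp.IsFiniteTypeIdeal E₀ ∧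
      Disjoint (E₀.support : Set (Xb i)) (Set.range (o i)) ∧ E₀.comap (π i) ≤ B := by
    intro i
    set K := B.map (π i) with hK
    have hKs : Disjoint (K.support : Set (Xb i)) (((o i).opensRange : (Xb i).Opens) : Set (Xb i)) := by
      rw [hK, Scheme.IdealSheafData.support_map]
      change Disjoint (closure (π i '' (B.support : Set ↑(widePullback S Xb gb)))) (Set.range (o i))
      rw [Set.disjoint_left]
      intro x hx hxo
      have hcl : IsClosed ((Set.range (o i))ᶜ) :=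
        (o i).isOpenEmbedding.isOpen_range.isClosed_compl
      have hsub : closure (π i '' (B.support : Set ↑(widePullback S Xb gb))) ⊆ (Set.range (o i))ᶜ :=
        closure_minimal (by rintro _ ⟨z, hz, rfl⟩; exact hBsupp i z hz) hcl
      exact hsub hx hxo
    obtain ⟨E₀, hle, hft, hdis⟩ := exists_ft_le K (o i).opensRange
      (show IsCompact (Set.range (o i)) from isCompact_range (o i).continuous) hKs
    exact ⟨E₀, hft, hdis, (Scheme.IdealSheafData.comap_mono (π i) hle).trans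
      (Scheme.IdealSheafData.comap_map_le _ _)⟩
  choose E₀ hE₀ft hE₀dis hE₀B using hE
  have hEsupp : ∀ i, Disjoint ((F i ⊔ E₀ i).support : Set (Xb i)) (Set.range (o i)) := by
    intro i
    rw [Set.disjoint_left]
    intro x hx hxo
    rw [Scheme.IdealSheafData.support_sup] at hx
    exact Set.disjoint_left.mp (hE₀dis i) hx.2 hxo
  -- the blow-ups
  have hbl : ∀ i, ∃ (X' : Scheme.{u}) (c : X' ⟶ Xb i), BlowUp.IsBlowUp c (F i ⊔ E₀ i) :=
    fun i => Groth.Agent.Lib.H9BlowExist.exists_isBlowUp _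
  choose Xb' c hc using hbl
  have hlift : ∀ i, ∃ v' : U ⟶ Xb' i, v' ≫ c i = v i ≫ o i := by
    intro i
    have htop : (F i ⊔ E₀ i).comap (v i ≫ o i) = ⊤ := by
      apply Groth.Agent.Lib.Helper20.BlowUpBasic.comap_eq_top_of_le
      intro u hu
      refine Set.disjoint_left.mp (hEsupp i) hu ⟨v i u, ?_⟩
      simp only [Scheme.Hom.comp_apply]
    obtain ⟨s, hs, -⟩ := (hc i).2 U (v i ≫ o i)
      (htop ▸ Groth.Agent.Lib.Helper20.BlowUpBasic.isEffCartierIdeal_top)
    exact ⟨s, hs⟩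
  choose v' hv' using hlift
  have w' : ∀ i, v' i ≫ c i ≫ gb i = jU ≫ gX := by
    intro i
    rw [← Category.assoc, hv', w i]
  refine ⟨fun i => F i ⊔ E₀ i, Xb', c, v', w', fun i => ⟨hc i,
    ⟨Groth.Agent.Lib.Helper22.FTIdeal.FT.sup (hFft i) (hE₀ft i), hEsupp i⟩, hv' i⟩, ?_⟩
  intro z hz
  by_contra hcon
  push Not at hcon
  let π' := fun i => WidePullback.π (fun i => c i ≫ gb i) i
  let φ : widePullback S Xb' (fun i => c i ≫ gb i) ⟶ widePullback S Xb gb :=
    WidePullback.lift (WidePullback.base (fun i => c i ≫ gb i)) (fun i => π' i ≫ c i)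
      (fun i => by rw [Category.assoc]; exact WidePullback.π_arrow (fun i => c i ≫ gb i) i)
  have hsq : ∀ i, φ ≫ π i = π' i ≫ c i := fun i => WidePullback.lift_π _ _ _ _ i
  set ι' : U ⟶ widePullback S Xb' (fun i => c i ≫ gb i) :=
    WidePullback.lift (jU ≫ gX) (fun i => v' i) w' with hι'
  have hι'π : ∀ i, ι' ≫ π' i = v' i := fun i => WidePullback.lift_π _ _ _ _ i
  have hι'φ : ι' ≫ φ = ιU := by
    apply WidePullback.hom_ext
    · intro i
      rw [Category.assoc]
      change ι' ≫ φ ≫ π i = ιU ≫ π i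
      rw [hsq, ← Category.assoc, hι'π, hv', hιUπ]
    · rw [Category.assoc, WidePullback.lift_base, WidePullback.lift_base, WidePullback.lift_base]
  have hφz : φ z ∈ closure (Set.range ιU) := by
    refine map_mem_closure φ.continuous hz ?_
    rintro _ ⟨u, rfl⟩
    exact ⟨u, by rw [← hι'φ]; simp only [Scheme.Hom.comp_apply]⟩
  obtain ⟨i₀, -⟩ := hempty (φ z) hφz
  refine core φ Xb Xb' c π π' hsq ι' F E₀ (fun i => (hc i).1)
    (fun i => (fun x => o i x) '' ((Y i).support : Set (Xi i))) hFsub ?_ ?_ ?_ i₀ z hz hcon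
  · intro i
    rw [Set.disjoint_left]
    rintro _ ⟨y, -, rfl⟩ hy
    exact Set.disjoint_left.mp (hE₀dis i) hy ⟨y, rfl⟩
  · intro i
    rw [hι'φ]
    exact hE₀B i
  · intro i u hu
    refine Set.disjoint_left.mp (hEsupp i) hu ⟨v i u, ?_⟩
    rw [← Scheme.Hom.comp_apply, ← Scheme.Hom.comp_apply, ← Scheme.Hom.comp_apply, ← hv',
      ← hι'π]
    simp only [Scheme.Hom.comp_apply]


end Groth.Agent.Lib.H9SepBlow3
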