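import Mathlib
import Groth.Prelude.Def_BlowUp2
import Groth.Agent.Lib.H9StrictCI
import Groth.Agent.Lib.H9BlowExt
import Groth.Agent.Lib.H9BlowExist
import Groth.Agent.Lib.H9BlowProper
import Groth.Agent.Lib.H9BlowComp
import Groth.Agent.Lib.H9BlowGlue
import Groth.Agent.Lib.H9SepBlow3
import Groth.Agent.Lib.Helper20BlowUp

set_option autoImplicit false
universe u
open CategoryTheory CategoryTheory.Limits AlgebraicGeometry TopologicalSpace Opposite

namespace Groth.Agent.Lib.H9QuasiDom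

theorem ker_comp_of_ker_eq_bot {X Y Z : Scheme.{u}} (f : X ⟶ Y) (g : Y ⟶ Z) (hf : f.ker = ⊥) :
    (f ≫ g).ker = g.ker := by
  rw [Scheme.Hom.ker_comp, hf, Scheme.IdealSheafData.map_bot]

/-- two morphisms to a separated `Z`-scheme which agree on a scheme-theoretically dense source
agree. -/
theorem ext_of_ker_eq_bot {W X Y Z : Scheme.{u}} {f g : X ⟶ Y}
    (s : Y ⟶ Z) [IsSeparated s] (h : f ≫ s = g ≫ s)
    (ι : W ⟶ X) (hι : ι.ker = ⊥) (hU : ι ≫ f = ι ≫ g) : f = g := by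
  let X' : Over Z := Over.mk (f ≫ s)
  let Y' : Over Z := Over.mk s
  let U' : Over Z := Over.mk (ι ≫ f ≫ s)
  let f' : X' ⟶ Y' := Over.homMk f
  let g' : X' ⟶ Y' := Over.homMk g (by simpa [X', Y'] using h.symm)
  let ι' : U' ⟶ X' := Over.homMk ι
  have : IsSeparated Y'.hom := ‹_›
  have hlift : ι' ≫ f' = ι' ≫ g' := by ext1; exact hU
  have hfac : (equalizer.lift ι' hlift).left ≫ (equalizer.ι f' g').left = ι := by
    rw [← Over.comp_left, equalizer.lift_ι]; rfl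
  have hker : (equalizer.ι f' g').left.ker = ⊥ := by
    have h1 := Scheme.Hom.le_ker_comp (equalizer.lift ι' hlift).left (equalizer.ι f' g').left
    rw [hfac, hι] at h1
    exact le_bot_iff.mp h1
  have : IsIso (equalizer.ι f' g').left := IsClosedImmersion.isIso_iff_ker_eq_bot.mpr hker
  rw [← cancel_epi (equalizer.ι f' g').left]
  exact congr($(equalizer.condition f' g').left)

/-- a morphism from a quasi-compact scheme into an open subscheme of a quasi-separated scheme is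
scheme-theoretically dominant as soon as its composite with the inclusion is. -/
theorem ker_eq_bot_of_comp_ι {U X : Scheme.{u}} [CompactSpace U] [QuasiSeparatedSpace X]
    (W : X.Opens) (u : U ⟶ (W : Scheme.{u})) (h : (u ≫ W.ι).ker = ⊥) : u.ker = ⊥ := by
  haveI : QuasiSeparatedSpace ↥(W : Scheme.{u}) :=
    QuasiSeparatedSpace.of_isOpenEmbedding W.2.isOpenEmbedding_subtypeVal
  haveI : IsSchemeTheoreticallyDominant (u ≫ W.ι) := ⟨h⟩
  ext M : 2
  rw [Scheme.Hom.ker_apply, Scheme.IdealSheafData.ideal_bot, Pi.bot_apply]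
  rw [← RingHom.injective_iff_ker_eq_bot]
  have h1 := (u ≫ W.ι).app_injective (W.ι ''ᵁ M.1)
  rw [Scheme.Hom.comp_app] at h1
  have hbij : Function.Bijective (W.ι.app (W.ι ''ᵁ M.1)).hom := by
    haveI : IsIso (W.ι.app (W.ι ''ᵁ M.1)) := Scheme.Hom.isIso_app W.ι _ (by
      rw [Scheme.Opens.opensRange_ι]; exact W.ι_image_le M.1)
    exact ConcreteCategory.bijective_of_isIso (W.ι.app (W.ι ''ᵁ M.1))
  have h2 : Function.Injective (u.app (W.ι ⁻¹ᵁ (W.ι ''ᵁ M.1))).hom := by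
    have : ((W.ι.app (W.ι ''ᵁ M.1) ≫ u.app (W.ι ⁻¹ᵁ (W.ι ''ᵁ M.1))).hom : _ → _) =
        (u.app (W.ι ⁻¹ᵁ (W.ι ''ᵁ M.1))).hom ∘ (W.ι.app (W.ι ''ᵁ M.1)).hom := by
      ext x; simp
    change Function.Injective ((W.ι.app (W.ι ''ᵁ M.1) ≫ u.app (W.ι ⁻¹ᵁ (W.ι ''ᵁ M.1))).hom : _ → _) at h1
    rw [this] at h1
    exact (Function.Injective.of_comp_iff' _ hbij).mp h1
  have key : ∀ M' : (W : Scheme.{u}).Opens, M' = M.1 → Function.Injective (u.app M').hom →
      Function.Injective (u.app M.1).hom := by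
    rintro M' rfl h; exact h
  exact key _ (Scheme.Hom.preimage_image_eq W.ι M.1) h2



open Groth.Agent.Lib.Helper20.BlowUpBasic in
/-- a scheme-theoretically dense subscheme missing the centre stays scheme-theoretically dense in
the blow-up. -/
theorem ker_lift_eq_bot {V Vt U : Scheme.{u}} (𝓙 : V.IdealSheafData) (β : Vt ⟶ V)
    (hβ : BlowUp.IsBlowUp β 𝓙) [QuasiCompact (compl 𝓙).ι]
    (jV : U ⟶ V) (hjV : jV.ker = ⊥) (hr : ∀ u, jV u ∈ compl 𝓙)
    (uV : U ⟶ Vt) (huV : uV ≫ β = jV) : uV.ker = ⊥ := by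
  set O := compl 𝓙 with hO
  haveI : IsIso (β ∣_ O) := isIso_morphismRestrict 𝓙 β hβ
  have hrO : Set.range jV ⊆ Set.range O.ι := by
    rintro _ ⟨u, rfl⟩
    rw [Scheme.Opens.range_ι]; exact hr u
  let jO : U ⟶ (O : Scheme.{u}) := IsOpenImmersion.lift O.ι jV hrO
  have hjO : jO ≫ O.ι = jV := IsOpenImmersion.lift_fac _ _ _
  have hrÕ : Set.range uV ⊆ Set.range (β ⁻¹ᵁ O).ι := by
    rintro _ ⟨u, rfl⟩
    rw [Scheme.Opens.range_ι]
    change β (uV u) ∈ O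
    rw [← Scheme.Hom.comp_apply, huV]; exact hr u
  let uO : U ⟶ ((β ⁻¹ᵁ O : Vt.Opens) : Scheme.{u}) := IsOpenImmersion.lift (β ⁻¹ᵁ O).ι uV hrÕ
  have huO : uO ≫ (β ⁻¹ᵁ O).ι = uV := IsOpenImmersion.lift_fac _ _ _
  have hcomp : uO ≫ (β ∣_ O) = jO := by
    rw [← cancel_mono O.ι, Category.assoc, morphismRestrict_ι, ← Category.assoc, huO, huV, hjO]
  have hkjO : jO.ker = ⊥ := by
    have h1 := Groth.Agent.Lib.H9BlowExt.comap_map_ι O jO.ker
    rw [← Scheme.Hom.ker_comp, hjO, hjV, Scheme.IdealSheafData.comap_bot] at h1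
    exact h1.symm
  have hkuO : uO.ker = ⊥ := by
    have h1 : uO = jO ≫ inv (β ∣_ O) := by rw [← hcomp, Category.assoc, IsIso.hom_inv_id, Category.comp_id]
    rw [h1, ker_comp_of_ker_eq_bot _ _ hkjO, Scheme.Hom.ker_eq_bot_of_isIso]
  rw [← huO, ker_comp_of_ker_eq_bot _ _ hkuO]
  apply Groth.Agent.Lib.H9StrictCI.ker_ι_eq_bot_of_eq hβ.1
  rw [← Groth.Agent.Lib.H9StrictCI.preimage_cmpl]
  rfl



open Groth.Agent.Lib.Helper20.BlowUpBasic in
theorem part1 {S U X Y Xt : Scheme.{u}} [CompactSpace S] [QuasiSeparatedSpace S]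
    (gX : X ⟶ S) (gY : Y ⟶ S)
    [IsSeparated gX] [QuasiCompact gX]
    [IsSeparated gY] [QuasiCompact gY]
    (jX : U ⟶ X) [IsOpenImmersion jX] [CompactSpace U]
    (V : Y.Opens) (hVc : IsCompact (V : Set Y))
    (jV : U ⟶ (V : Scheme.{u})) [IsSchemeTheoreticallyDominant jV]
    (φ : (V : Scheme.{u}) ⟶ X) (hφU : jV ≫ φ = jX) (hφ : V.ι ≫ gY = φ ≫ gX)
    (𝓘 : X.IdealSheafData) (h𝓘 : BlowUp.IsAdmissibleFor jX.opensRange 𝓘)
    (b : Xt ⟶ X) (hb : BlowUp.IsBlowUp b 𝓘)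
    (W : Xt.Opens) (u : U ⟶ (W : Scheme.{u})) (hu : u ≫ W.ι ≫ b = jX)
    [IsSchemeTheoreticallyDominant (u ≫ W.ι)]
    (ψ : (W : Scheme.{u}) ⟶ (V : Scheme.{u})) (hψU : u ≫ ψ = jV)
    (hψ : W.ι ≫ b ≫ gX = ψ ≫ V.ι ≫ gY)
    (hψcl : IsClosed (Set.range (fun x => pullback.lift W.ι ψ hψ x))) :
    BlowUp.IsBlowUp ψ (𝓘.comap φ) ∧ ψ ≫ φ = W.ι ≫ b := by
  -- basic finiteness
  haveI : CompactSpace X := QuasiCompact.compactSpace_of_compactSpace gX
  haveI : QuasiSeparatedSpace X := quasiSeparatedSpace_of_quasiSeparated gX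
  haveI : IsProper b := Groth.Agent.Lib.H9BlowProper.isProper_of_isBlowUp b 𝓘 h𝓘.1 hb
  haveI : QuasiSeparatedSpace Xt := quasiSeparatedSpace_of_quasiSeparated b
  haveI : QuasiSeparatedSpace Y := quasiSeparatedSpace_of_quasiSeparated gY
  haveI : CompactSpace ↥(V : Scheme.{u}) := isCompact_iff_compactSpace.mp hVc
  haveI : QuasiSeparatedSpace ↥(V : Scheme.{u}) :=
    QuasiSeparatedSpace.of_isOpenEmbedding V.2.isOpenEmbedding_subtypeVal
  have hukr : u.ker = ⊥ := ker_eq_bot_of_comp_ι W u (Scheme.Hom.ker_eq_bot (u ≫ W.ι))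
  -- (1) `ψ ≫ φ = W.ι ≫ b`
  have h1 : ψ ≫ φ = W.ι ≫ b := by
    refine ext_of_ker_eq_bot gX ?_ u hukr ?_
    · rw [Category.assoc, Category.assoc, ← hφ, hψ]
    · rw [← Category.assoc, hψU, hφU, hu]
  refine ⟨?_, h1⟩
  -- (2) the pulled back ideal is effective Cartier on `W`
  set 𝓙 := 𝓘.comap φ with h𝓙
  have hECW : BlowUp.IsEffCartierIdeal (𝓙.comap ψ) := by
    rw [h𝓙, ← Scheme.IdealSheafData.comap_comp, h1, Scheme.IdealSheafData.comap_comp]
    exact Groth.Agent.Lib.H9BlowGlue.effCartier_comap_of_isOpenImmersion _ hb.1 W.ι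
  -- the blow-up of `V`
  obtain ⟨Vt, β, hβ⟩ := Groth.Agent.Lib.H9BlowExist.exists_isBlowUp 𝓙
  have h𝓙ft : BlowUp.IsFiniteTypeIdeal 𝓙 :=
    Groth.Agent.Lib.H9BlowComp.isFiniteTypeIdeal_comap 𝓘 h𝓘.1 φ
  haveI : QuasiCompact (compl 𝓙).ι :=
    Groth.Agent.Lib.H9BlowExt.quasiCompact_ι _
      (Groth.Agent.Lib.H9SepBlow3.isCompact_compl_support 𝓙 h𝓙ft)
  -- `U → Vt`
  have hjXc : ∀ y, jX y ∈ compl 𝓘 := by
    intro y hy
    exact Set.disjoint_left.mp h𝓘.2 hy ⟨y, rfl⟩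
  have htopU : 𝓙.comap jV = ⊤ := by
    rw [h𝓙, ← Scheme.IdealSheafData.comap_comp, hφU]
    exact comap_eq_top_of_le 𝓘 jX hjXc
  obtain ⟨uV, huV, -⟩ := hβ.2 U jV (htopU ▸ isEffCartierIdeal_top)
  have huVk : uV.ker = ⊥ := by
    refine ker_lift_eq_bot 𝓙 β hβ jV (Scheme.Hom.ker_eq_bot jV) ?_ uV huV
    intro y hy
    rw [h𝓙, Scheme.IdealSheafData.support_comap] at hy
    have : φ (jV y) ∈ 𝓘.support := hy
    rw [← Scheme.Hom.comp_apply, hφU] at this
    exact hjXc y this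
  -- `α : W → Vt`
  obtain ⟨α, hα, -⟩ := hβ.2 W ψ hECW
  -- `κ : Vt → Xt`
  have hECκ : BlowUp.IsEffCartierIdeal (𝓘.comap (β ≫ φ)) := by
    rw [Scheme.IdealSheafData.comap_comp]; exact hβ.1
  obtain ⟨κ, hκ, -⟩ := hb.2 Vt (β ≫ φ) hECκ
  -- the graph of `ψ` is a closed immersion
  set i := pullback.lift W.ι ψ hψ with hi
  haveI : IsImmersion (i ≫ pullback.fst (b ≫ gX) (V.ι ≫ gY)) := by
    rw [hi, pullback.lift_fst]; infer_instance
  haveI : IsImmersion i := IsImmersion.of_comp i (pullback.fst (b ≫ gX) (V.ι ≫ gY))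
  haveI : IsClosedImmersion i := IsClosedImmersion.of_isPreimmersion i hψcl
  -- `γ : Vt → Π`
  have hγc : κ ≫ b ≫ gX = β ≫ V.ι ≫ gY := by
    rw [← Category.assoc, hκ, Category.assoc, hφ]
  set γ := pullback.lift κ β hγc with hγ
  -- uniqueness of lifts to `Xt`
  have hECu : BlowUp.IsEffCartierIdeal (𝓘.comap (W.ι ≫ b)) := by
    rw [Scheme.IdealSheafData.comap_comp]
    exact Groth.Agent.Lib.H9BlowGlue.effCartier_comap_of_isOpenImmersion _ hb.1 W.ι
  have hακ : α ≫ κ = W.ι := by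
    obtain ⟨w, -, hw⟩ := hb.2 W (W.ι ≫ b) hECu
    rw [hw (α ≫ κ) (by dsimp only; rw [Category.assoc, hκ, ← Category.assoc, hα, h1]),
      hw W.ι rfl]
  -- `u ≫ α = uV`
  have huα : u ≫ α = uV := by
    obtain ⟨w, -, hw⟩ := hβ.2 U jV (htopU ▸ isEffCartierIdeal_top)
    rw [hw (u ≫ α) (by dsimp only; rw [Category.assoc, hα, hψU]), hw uV huV]
  have hαγ : α ≫ γ = i := by
    apply pullback.hom_ext
    · rw [Category.assoc, hγ, pullback.lift_fst, hακ, hi, pullback.lift_fst]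
    · rw [Category.assoc, hγ, pullback.lift_snd, hα, hi, pullback.lift_snd]
  have hker : i.ker = γ.ker := by
    rw [← ker_comp_of_ker_eq_bot uV γ huVk, ← huα, Category.assoc, hαγ,
      ker_comp_of_ker_eq_bot u i hukr]
  let δ : Vt ⟶ (W : Scheme.{u}) := IsClosedImmersion.lift i γ hker.le
  have hδ : δ ≫ i = γ := IsClosedImmersion.lift_fac i γ hker.le
  have hδψ : δ ≫ ψ = β := by
    have h2 : δ ≫ ψ = (δ ≫ i) ≫ pullback.snd (b ≫ gX) (V.ι ≫ gY) := by
      rw [Category.assoc, hi, pullback.lift_snd]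
    rw [h2, hδ, hγ, pullback.lift_snd]
  have hδα : δ ≫ α = 𝟙 Vt := by
    obtain ⟨w, -, hw⟩ := hβ.2 Vt β hβ.1
    rw [hw (δ ≫ α) (by dsimp only; rw [Category.assoc, hα, hδψ]), hw (𝟙 _) (Category.id_comp _)]
  have hαδ : α ≫ δ = 𝟙 _ := by
    rw [← cancel_mono i, Category.assoc, hδ, hαγ, Category.id_comp]
  have hiso := Groth.Agent.Lib.H9BlowComp.isBlowUp_iso_comp β 𝓙 hβ ⟨α, δ, hαδ, hδα⟩
  rwa [hα] at hiso



theorem part2 {S X Y Xt : Scheme.{u}}
    (gX : X ⟶ S) (gY : Y ⟶ S)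
    (V : Y.Opens)
    (φ : (V : Scheme.{u}) ⟶ X) (hφ : V.ι ≫ gY = φ ≫ gX)
    (hφcl : IsClosed (Set.range (fun x => pullback.lift V.ι φ hφ x)))
    (b : Xt ⟶ X)
    (W : Xt.Opens)
    (ψ : (W : Scheme.{u}) ⟶ (V : Scheme.{u}))
    (hψ : W.ι ≫ b ≫ gX = ψ ≫ V.ι ≫ gY)
    (hψcl : IsClosed (Set.range (fun x => pullback.lift W.ι ψ hψ x)))
    (h1 : ψ ≫ φ = W.ι ≫ b) :
    IsClosed (Set.range (fun x => pullback.lift (f := b ≫ gX) (g := gY) W.ι (ψ ≫ V.ι)
        (hψ.trans (Category.assoc ψ V.ι gY).symm) x)) := by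
  set i := pullback.lift W.ι ψ hψ with hi
  set iY := pullback.lift (f := b ≫ gX) (g := gY) W.ι (ψ ≫ V.ι)
    (hψ.trans (Category.assoc ψ V.ι gY).symm) with hiY
  let ω : pullback (b ≫ gX) (V.ι ≫ gY) ⟶ pullback (b ≫ gX) gY :=
    pullback.map (b ≫ gX) (V.ι ≫ gY) (b ≫ gX) gY (𝟙 Xt) V.ι (𝟙 S) (by simp) (by simp)
  have hω1 : ω ≫ pullback.fst (b ≫ gX) gY = pullback.fst (b ≫ gX) (V.ι ≫ gY) := by
    rw [pullback.lift_fst, Category.comp_id]
  have hω2 : ω ≫ pullback.snd (b ≫ gX) gY = pullback.snd (b ≫ gX) (V.ι ≫ gY) ≫ V.ι :=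
    pullback.lift_snd _ _ _
  have hiω : i ≫ ω = iY := by
    apply pullback.hom_ext
    · rw [Category.assoc, hω1, hi, pullback.lift_fst, hiY, pullback.lift_fst]
    · rw [Category.assoc, hω2, hi, pullback.lift_snd_assoc, hiY, pullback.lift_snd]
  have hrω : Set.range ω = pullback.snd (b ≫ gX) gY ⁻¹' Set.range V.ι := by
    have := Scheme.Pullback.range_map (f := b ≫ gX) (g := V.ι ≫ gY) (b ≫ gX) gY (𝟙 Xt) V.ι (𝟙 S)
      (by simp) (by simp)
    rw [this]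
    simp
  let θ : pullback (b ≫ gX) gY ⟶ pullback gY gX :=
    pullback.lift (pullback.snd _ _) (pullback.fst _ _ ≫ b)
      (by rw [Category.assoc, pullback.condition])
  have hθ1 : θ ≫ pullback.fst gY gX = pullback.snd (b ≫ gX) gY := pullback.lift_fst _ _ _
  have hθ2 : θ ≫ pullback.snd gY gX = pullback.fst (b ≫ gX) gY ≫ b := pullback.lift_snd _ _ _
  set Gφ := pullback.lift V.ι φ hφ with hGφ
  have hiθ : iY ≫ θ = ψ ≫ Gφ := by
    apply pullback.hom_ext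
    · rw [Category.assoc, hθ1, hiY, pullback.lift_snd, Category.assoc, hGφ, pullback.lift_fst]
    · rw [Category.assoc, hθ2, hiY, pullback.lift_fst_assoc, Category.assoc, hGφ, pullback.lift_snd,
        h1]
  have hcl : IsClosed (θ ⁻¹' Set.range Gφ) := hφcl.preimage θ.continuous
  have hsub1 : Set.range iY ⊆ θ ⁻¹' Set.range Gφ := by
    rintro _ ⟨w, rfl⟩
    refine ⟨ψ w, ?_⟩
    rw [← Scheme.Hom.comp_apply, ← hiθ, Scheme.Hom.comp_apply]
  have hsub2 : θ ⁻¹' Set.range Gφ ⊆ Set.range ω := by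
    rintro z ⟨v, hv⟩
    rw [hrω]
    refine ⟨v, ?_⟩
    have := congrArg (pullback.fst gY gX) hv
    rw [← Scheme.Hom.comp_apply, ← Scheme.Hom.comp_apply, hθ1, hGφ, pullback.lift_fst] at this
    exact this
  have hrange : Set.range iY = ω '' Set.range i := by
    rw [← hiω, ← Set.range_comp]
    rfl
  change IsClosed (Set.range iY)
  have hcsub : closure (Set.range iY) ⊆ Set.range ω :=
    (closure_minimal hsub1 hcl).trans hsub2
  have hind : Topology.IsInducing ω := ω.isOpenEmbedding.isInducing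
  have h2 : closure (Set.range i) = Set.range i := IsClosed.closure_eq hψcl
  rw [hind.closure_eq_preimage_closure_image, ← hrange] at h2
  have h3 : ω '' (ω ⁻¹' closure (Set.range iY)) = closure (Set.range iY) := by
    rw [Set.image_preimage_eq_inter_range, Set.inter_eq_left.mpr hcsub]
  rw [h2, ← hrange] at h3
  rw [h3]
  exact isClosed_closure


end Groth.Agent.Lib.H9QuasiDom
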