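import Mathlib
import Groth.Agent.Lib.H9FlatClos
import Groth.Agent.Lib.H9QuasiDom
import Groth.Agent.Lib.Helper4RatExt

set_option autoImplicit false
universe u
open nonZeroDivisors CategoryTheory CategoryTheory.Limits AlgebraicGeometry TopologicalSpace Opposite

namespace Groth.Agent.Lib.H9DvrIso

open Groth.Agent.Lib.H9StrictCI Groth.Agent.Lib.H9FlatClos Groth.Agent.Lib.Helper4.RatExt

/-- a noetherian local normal domain of dimension one is a valuation ring. -/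
theorem valuationRing_of_dim_one (A : Type u) [CommRing A] [IsDomain A] [IsLocalRing A]
    [IsNoetherianRing A] [IsIntegrallyClosed A] (hdim : ringKrullDim A = 1) : ValuationRing A := by
  have h13 := (tfae_of_isNoetherianRing_of_isLocalRing_of_isDomain A).out 1 3
  rw [h13]
  refine ⟨inferInstance, ?_⟩
  intro P hP hPp
  haveI : Ring.KrullDimLE 1 A := (Ring.krullDimLE_iff).mpr hdim.le
  exact IsLocalRing.eq_maximalIdeal
    ((Ring.krullDimLE_one_iff_of_noZeroDivisors.mp inferInstance) P hP hPp)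

section

variable (R : Type u) [CommRing R] [IsDomain R] [IsDiscreteValuationRing R]

/-- for a flat `R`-scheme, the generic fibre is scheme-theoretically dense. -/
theorem genericFibre_facts {Y : Scheme.{u}} (π : Y ⟶ Spec (CommRingCat.of R)) [Flat π] (ϖ : R)
    (hϖ : ϖ ≠ 0) (W : Y.Opens) (hW : W = π ⁻¹ᵁ (PrimeSpectrum.basicOpen ϖ)) :
    BlowUp.IsEffCartierIdeal ((unifIdeal R ϖ).comap π) ∧ W = cmpl ((unifIdeal R ϖ).comap π) := by
  refine ⟨Groth.Agent.S10855.result π _ (isEffCartier_unifIdeal R ϖ hϖ), ?_⟩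
  rw [← preimage_cmpl, hW]
  congr 1
  apply SetLike.coe_injective
  exact (cmpl_unifIdeal R ϖ).symm

/-- an open subscheme of a flat `R`-scheme: the part over the generic point is scheme-theoretically
dense. -/
theorem ker_homOfLE_eq_bot {Y : Scheme.{u}} (π : Y ⟶ Spec (CommRingCat.of R)) [Flat π] (ϖ : R)
    (hϖ : ϖ ≠ 0) (W Y' : Y.Opens) (hW : W = π ⁻¹ᵁ (PrimeSpectrum.basicOpen ϖ)) (hWY : W ≤ Y') :
    (Y.homOfLE hWY).ker = ⊥ := by
  haveI : Flat (Y'.ι ≫ π) := inferInstance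
  obtain ⟨h1, h2⟩ := genericFibre_facts R (Y'.ι ≫ π) ϖ hϖ (Y'.ι ⁻¹ᵁ W) (by rw [hW]; rfl)
  rw [ker_eq_tf_of_isOpenImmersion (Y.homOfLE hWY) ((unifIdeal R ϖ).comap (Y'.ι ≫ π)) ?_]
  · exact ker_cmpl_ι_eq_bot h1
  · rw [← h2]
    ext y
    constructor
    · rintro ⟨w, rfl⟩
      have : ((Y.homOfLE hWY) w).1 = w.1 := by rw [Scheme.homOfLE_apply]
      change ((Y.homOfLE hWY) w).1 ∈ W
      rw [this]; exact w.2
    · intro hy
      refine ⟨⟨y.1, hy⟩, ?_⟩
      apply Subtype.ext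
      rw [Scheme.homOfLE_apply]

theorem morphismRestrict_homOfLE {Z C : Scheme.{u}} (g : Z ⟶ C) (W U' : C.Opens) (h : W ≤ U') :
    Z.homOfLE (g.preimage_mono h) ≫ (g ∣_ U') = (g ∣_ W) ≫ C.homOfLE h := by
  rw [← cancel_mono U'.ι, Category.assoc, Category.assoc, morphismRestrict_ι,
    Scheme.homOfLE_ι_assoc, Scheme.homOfLE_ι, morphismRestrict_ι]

theorem main {C Z : Scheme.{u}}
    (πC : C ⟶ Spec (CommRingCat.of R)) [Flat πC] [LocallyOfFiniteType πC] (g : Z ⟶ C) [IsProper g]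
    [Flat (g ≫ πC)] (ϖ : R) (hϖ : Irreducible ϖ)
    (hgen : IsIso (g ∣_ (πC ⁻¹ᵁ (PrimeSpectrum.basicOpen ϖ))))
    (c : C) (hdom : IsDomain (C.presheaf.stalk c)) (hnorm : IsIntegrallyClosed (C.presheaf.stalk c))
    (hdim : ringKrullDim (C.presheaf.stalk c) = 1) :
    ∃ V : C.Opens, c ∈ V ∧ IsIso (g ∣_ V) := by
  haveI : IsLocallyNoetherian C := LocallyOfFiniteType.isLocallyNoetherian πC
  haveI := hdom
  haveI : ValuationRing (C.presheaf.stalk c) := valuationRing_of_dim_one _ hdim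
  set W : C.Opens := πC ⁻¹ᵁ (PrimeSpectrum.basicOpen ϖ) with hW
  -- the section over the generic fibre
  let τ : W.toScheme ⟶ Z := inv (g ∣_ W) ≫ (g ⁻¹ᵁ W).ι
  have hτ : τ ≫ g = W.ι := by
    change (inv (g ∣_ W) ≫ (g ⁻¹ᵁ W).ι) ≫ g = _
    rw [Category.assoc, ← morphismRestrict_ι, IsIso.inv_hom_id_assoc]
  -- density of the generic fibre
  obtain ⟨hC1, hC2⟩ := genericFibre_facts R πC ϖ hϖ.ne_zero W hW
  have hdense : closure (W : Set C) = Set.univ := by
    haveI : IsAffineHom W.ι := isAffineHom_ι_of_eq (isLP_of_effCartier hC1) W hC2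
    have h1 := Scheme.Hom.support_ker W.ι
    rw [ker_ι_eq_bot_of_eq hC1 W hC2, Scheme.Opens.range_ι] at h1
    rw [← h1]
    simp
  have hξ : genericHom C c (IsLocalRing.closedPoint (FractionRing (C.presheaf.stalk c))) ∈ W :=
    genericHom_mem c W (by rw [hdense]; trivial)
  have hrange := range_genericHom_subset c W hξ
  let jU : Spec (CommRingCat.of (FractionRing (C.presheaf.stalk c))) ⟶ W.toScheme :=
    IsOpenImmersion.lift W.ι (genericHom C c) hrange
  have hjU : jU ≫ W.ι = genericHom C c := IsOpenImmersion.lift_fac _ _ _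
  -- valuative criterion
  have hex : ValuativeCriterion.Existence g := by
    have h1 : UniversallyClosed g := inferInstance
    rw [UniversallyClosed.eq_valuativeCriterion] at h1
    exact h1.1
  let sq : ValuativeCommSq g :=
    { R := C.presheaf.stalk c
      domain := hdom
      valuationRing := ‹ValuationRing (C.presheaf.stalk c)›
      K := FractionRing (C.presheaf.stalk c)
      i₁ := jU ≫ τ
      i₂ := C.fromSpecStalk c
      commSq := ⟨by rw [Category.assoc, hτ, hjU]⟩ }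
  obtain ⟨⟨l0, hl01, hl02⟩⟩ := (hex sq).exists_lift
  let l : Spec (C.presheaf.stalk c) ⟶ Z := l0
  have hl1 : Spec.map (CommRingCat.ofHom (algebraMap (C.presheaf.stalk c)
      (FractionRing (C.presheaf.stalk c)))) ≫ l = jU ≫ τ := hl01
  have hl2 : l ≫ g = C.fromSpecStalk c := hl02
  obtain ⟨U', hWU', hcU', σ, hσ1, hσ2, -⟩ := exists_extension_of_stalk_lift (𝟙 C) g c W τ
    (by rw [hτ, Category.comp_id]) jU hjU l (by rw [Category.comp_id]; exact hl2) hl1
  rw [Category.comp_id] at hσ1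
  refine ⟨U', hcU', ?_⟩
  have hσr : Set.range σ ⊆ Set.range (g ⁻¹ᵁ U').ι := by
    rintro _ ⟨u, rfl⟩
    rw [Scheme.Opens.range_ι]
    change g (σ u) ∈ U'
    rw [← Scheme.Hom.comp_apply, hσ1]
    exact u.2
  let σ' : U'.toScheme ⟶ (g ⁻¹ᵁ U').toScheme := IsOpenImmersion.lift (g ⁻¹ᵁ U').ι σ hσr
  have hσ' : σ' ≫ (g ⁻¹ᵁ U').ι = σ := IsOpenImmersion.lift_fac _ _ _
  have h1 : σ' ≫ (g ∣_ U') = 𝟙 _ := by
    rw [← cancel_mono U'.ι, Category.assoc, morphismRestrict_ι, reassoc_of% hσ', hσ1,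
      Category.id_comp]
  have h2 : (g ∣_ U') ≫ σ' = 𝟙 _ := by
    refine Groth.Agent.Lib.H9QuasiDom.ext_of_ker_eq_bot (g ∣_ U') ?_
      (Z.homOfLE (g.preimage_mono hWU')) ?_ ?_
    · rw [Category.assoc, h1, Category.comp_id, Category.id_comp]
    · refine ker_homOfLE_eq_bot R (g ≫ πC) ϖ hϖ.ne_zero (g ⁻¹ᵁ W) (g ⁻¹ᵁ U') ?_ _
      rw [hW]; rfl
    · rw [Category.comp_id, ← cancel_mono (g ⁻¹ᵁ U').ι, Category.assoc, Category.assoc, hσ',
        reassoc_of% (morphismRestrict_homOfLE g W U' hWU'), hσ2, Scheme.homOfLE_ι]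
      change (g ∣_ W) ≫ inv (g ∣_ W) ≫ (g ⁻¹ᵁ W).ι = _
      rw [IsIso.hom_inv_id_assoc]
  exact ⟨σ', h2, h1⟩

end


end Groth.Agent.Lib.H9DvrIso
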