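import Mathlib
import Groth.Prelude.Def_Neron
import Groth.Agent.Lib.H9AlgClB
import Groth.Agent.Lib.H9FlatClos

/-! helper9: S13746. `H9DvrPush.surjective_of_integral` (integral injective ring map with (t) radical, t regular, iso after inverting t is surjective), `H9DvrPushB.isIso_app_of_affine` (bijective on affine opens ⇒ iso on all opens), `H9DvrPushC.eq_zero_of_mul` (uniformizer regular on all sections of a flat R-scheme), `H9DvrPushD.mem_span_of_pow_mem`/`isReduced_tensor` (reduced fibre ⇒ (ϖ) radical on affine pieces), `H9DvrPushE.bijective_app_affine`, `H9DvrPushF.isIso_restrict_of_genericFibre`, `H9DvrPushF.main`. -/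

set_option autoImplicit false
universe u



namespace Groth.Agent.Lib.H9DvrPush

open Polynomial

/-- **Lemma A**: an injective integral ring map `φ : B → C`, an element `t` of `B` whose image is a
nonzerodivisor of `C`, `(t)` radical in `B`, and every element of `C` has a `t`-power multiple in the
image: then `φ` is surjective. -/
theorem surjective_of_integral {B C : Type u} [CommRing B] [CommRing C] (φ : B →+* C)
    (hinj : Function.Injective φ) (hint : φ.IsIntegral) (t : B)
    (hreg : ∀ c : C, φ t * c = 0 → c = 0)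
    (hred : ∀ (b : B) (d : ℕ), b ^ d ∈ Ideal.span {t} → b ∈ Ideal.span {t})
    (hloc : ∀ c : C, ∃ (n : ℕ) (b : B), φ t ^ n * c = φ b) :
    Function.Surjective φ := by
  have key : ∀ (n : ℕ) (c : C), (∃ b : B, φ t ^ n * c = φ b) → ∃ b : B, c = φ b := by
    intro n
    induction n with
    | zero =>
      intro c ⟨b, hb⟩
      exact ⟨b, by simpa using hb⟩
    | succ n ih =>
      intro c ⟨b, hb⟩
      apply ih
      -- c' = t^n c, t c' = φ b
      set c' := φ t ^ n * c with hc'
      have htc : φ t * c' = φ b := by rw [← hb, hc', pow_succ]; ring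
      -- c' integral
      obtain ⟨p, hpm, hp⟩ := hint c'
      -- scale roots
      have h1 : (scaleRoots p t).eval₂ φ (φ t * c') = 0 := by
        have := scaleRoots_eval₂_eq_zero φ (p := p) (r := c') (s := t) hp
        rwa [mul_comm] at this ⊢
      rw [htc] at h1
      have h2 : (scaleRoots p t).eval b = 0 := by
        apply hinj
        rw [map_zero, ← h1, eval₂_hom]
      -- b^d ∈ (t)
      have hb_mem : b ^ p.natDegree ∈ Ideal.span {t} := by
        have hmon : (scaleRoots p t).Monic := (monic_scaleRoots_iff t).mpr hpm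
        have hdeg : (scaleRoots p t).natDegree = p.natDegree := natDegree_scaleRoots p t
        have h3 := eval_eq_sum_range (p := scaleRoots p t) b
        rw [h2, hdeg, Finset.sum_range_succ] at h3
        have h4 : (scaleRoots p t).coeff p.natDegree = 1 := by
          rw [← hdeg]; exact hmon.coeff_natDegree
        rw [h4, one_mul] at h3
        have h5 : b ^ p.natDegree = - ∑ i ∈ Finset.range p.natDegree,
            (scaleRoots p t).coeff i * b ^ i := by
          linear_combination -h3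
        rw [h5]
        apply neg_mem
        apply Ideal.sum_mem
        intro i hi
        have hi' : i < p.natDegree := Finset.mem_range.mp hi
        apply Ideal.mul_mem_right
        rw [coeff_scaleRoots]
        apply Ideal.mul_mem_left
        have : p.natDegree - i = (p.natDegree - i - 1) + 1 := by omega
        rw [this, pow_succ]
        exact Ideal.mul_mem_left _ _ (Ideal.mem_span_singleton_self t)
      obtain ⟨b', hb'⟩ := Ideal.mem_span_singleton'.mp (hred b _ hb_mem)
      refine ⟨b', ?_⟩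
      have h6 : φ t * (c' - φ b') = 0 := by
        rw [mul_sub, htc, ← hb', map_mul]; ring
      have := hreg _ h6
      exact sub_eq_zero.mp this
  intro c
  obtain ⟨n, b, hb⟩ := hloc c
  obtain ⟨b', hb'⟩ := key n c ⟨b, hb⟩
  exact ⟨b', hb'.symm⟩

end Groth.Agent.Lib.H9DvrPush



namespace Groth.Agent.Lib.H9DvrPushB

open CategoryTheory CategoryTheory.Limits AlgebraicGeometry TopologicalSpace Opposite
open Groth.Agent.Lib.H9AlgClB

variable {X Y : Scheme.{u}} (f : X ⟶ Y)

/-- sections over an open are determined by their restrictions to the affine opens inside -/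
theorem eq_of_affine_res (Z : Scheme.{u}) (V : Z.Opens) (a a' : Γ(Z, V))
    (h : ∀ (W : Z.Opens) (_ : IsAffineOpen W) (hWV : W ≤ V),
      (Z.presheaf.map (homOfLE hWV).op).hom a = (Z.presheaf.map (homOfLE hWV).op).hom a') :
    a = a' := by
  refine Z.sheaf.eq_of_locally_eq' (fun W : {W : Z.Opens // IsAffineOpen W ∧ W ≤ V} => W.1) V
    (fun W => homOfLE W.2.2) ?_ a a' (fun W => h W.1 W.2.1 W.2.2)
  intro x hx
  obtain ⟨_, ⟨W, hW, rfl⟩, hxW, hWV⟩ := Z.isBasis_affineOpens.exists_subset_of_mem_open hx V.2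
  exact Opens.mem_iSup.mpr ⟨⟨W, hW, hWV⟩, hxW⟩

theorem app_res (V W : Y.Opens) (hWV : W ≤ V) (a : Γ(Y, V)) :
    (f.app W).hom ((Y.presheaf.map (homOfLE hWV).op).hom a) =
      (X.presheaf.map (homOfLE (f.preimage_mono hWV)).op).hom ((f.app V).hom a) := by
  have := f.naturality (homOfLE hWV).op
  exact congrArg (fun φ => φ.hom a) this

/-- **Lemma B**: bijective on affine opens ⇒ iso on all opens. -/
theorem isIso_app_of_affine
    (h : ∀ V : Y.Opens, IsAffineOpen V → Function.Bijective (f.app V).hom) (V : Y.Opens) :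
    IsIso (f.app V) := by
  have hinj : ∀ V : Y.Opens, Function.Injective (f.app V).hom := by
    intro V a a' haa
    apply eq_of_affine_res Y V a a'
    intro W hW hWV
    apply (h W hW).1
    rw [app_res, app_res, haa]
  refine (ConcreteCategory.isIso_iff_bijective _).mpr ⟨hinj V, ?_⟩
  have hstalk : ∀ x ∈ V, Function.Injective
      ((TopCat.Presheaf.stalkFunctor CommRingCat x).map (cSh f).hom) := fun x _ =>
    TopCat.Presheaf.stalkFunctor_map_injective_of_app_injective (f := (cSh f).hom)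
      (fun U => hinj U) x
  refine TopCat.Presheaf.app_surjective_of_injective_of_locally_surjective (cSh f) V hstalk ?_
  intro t x hx
  obtain ⟨_, ⟨W, hW, rfl⟩, hxW, hWV⟩ := Y.isBasis_affineOpens.exists_subset_of_mem_open hx V.2
  obtain ⟨c, hc⟩ := (h W hW).2 ((X.presheaf.map (homOfLE (f.preimage_mono hWV)).op).hom t)
  exact ⟨W, hxW, homOfLE hWV, c, hc⟩

end Groth.Agent.Lib.H9DvrPushB



namespace Groth.Agent.Lib.H9DvrPushC

open CategoryTheory CategoryTheory.Limits AlgebraicGeometry TopologicalSpace Opposite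
open Groth.Agent.Lib.H9DvrPushB

variable (R : Type u) [CommRing R] [IsDomain R]

variable {R} in
/-- the pulled back function on `Z` -/
noncomputable def tt {Z : Scheme.{u}} (q : Z ⟶ Spec (CommRingCat.of R)) (ϖ : R) : Γ(Z, ⊤) :=
  q.appTop.hom ((Scheme.ΓSpecIso (CommRingCat.of R)).inv.hom ϖ)

variable {R} in
/-- restricted to an open -/
noncomputable def tr {Z : Scheme.{u}} (q : Z ⟶ Spec (CommRingCat.of R)) (ϖ : R) (W : Z.Opens) :
    Γ(Z, W) :=
  (Z.presheaf.map (homOfLE le_top).op).hom (tt q ϖ)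

variable {R}

theorem tr_res {Z : Scheme.{u}} (q : Z ⟶ Spec (CommRingCat.of R)) (ϖ : R) (W W' : Z.Opens)
    (h : W' ≤ W) : (Z.presheaf.map (homOfLE h).op).hom (tr q ϖ W) = tr q ϖ W' := by
  unfold tr
  change (Z.presheaf.map (homOfLE le_top).op ≫ Z.presheaf.map (homOfLE h).op).hom (tt q ϖ) = _
  rw [← Functor.map_comp]
  rfl

theorem tt_comp {Y Z : Scheme.{u}} (π : Y ⟶ Z) (q : Z ⟶ Spec (CommRingCat.of R)) (ϖ : R) :
    tt (π ≫ q) ϖ = π.appTop.hom (tt q ϖ) := by
  unfold tt
  rw [Scheme.Hom.comp_appTop]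
  rfl

theorem tr_comp {Y Z : Scheme.{u}} (π : Y ⟶ Z) (q : Z ⟶ Spec (CommRingCat.of R)) (ϖ : R)
    (V : Z.Opens) : tr (π ≫ q) ϖ (π ⁻¹ᵁ V) = (π.app V).hom (tr q ϖ V) := by
  unfold tr
  rw [tt_comp]
  have := π.naturality (homOfLE (le_top : V ≤ ⊤)).op
  exact (congrArg (fun φ => φ.hom (tt q ϖ)) this).symm

/-- (P1) on affine opens of a flat `R`-scheme, a nonzero `ϖ` is a nonzerodivisor -/
theorem eq_zero_of_affine {Z : Scheme.{u}} (q : Z ⟶ Spec (CommRingCat.of R)) [Flat q] (ϖ : R)
    (hϖ : ϖ ≠ 0) (W : Z.Opens) (hW : IsAffineOpen W) (z : Γ(Z, W)) (hz : tr q ϖ W * z = 0) :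
    z = 0 := by
  have hfl : (q.appLE ⊤ W le_top).hom.Flat :=
    HasRingHomProperty.appLE (P := @Flat) q inferInstance ⟨⊤, isAffineOpen_top _⟩ ⟨W, hW⟩ le_top
  let ψ : R →+* Γ(Z, W) :=
    (q.appLE ⊤ W le_top).hom.comp (Scheme.ΓSpecIso (CommRingCat.of R)).inv.hom
  have hψfl : ψ.Flat := by
    have h1 : ((Scheme.ΓSpecIso (CommRingCat.of R)).inv ≫ q.appLE ⊤ W le_top).hom.Flat :=
      (RingHom.Flat.respectsIso.cancel_left_isIso _ _).mpr hfl
    exact h1
  letI : Algebra R Γ(Z, W) := ψ.toAlgebra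
  haveI : Module.Flat R Γ(Z, W) := hψfl
  have hreg : IsSMulRegular Γ(Z, W) ϖ :=
    Module.Flat.isSMulRegular_of_nonZeroDivisors (mem_nonZeroDivisors_of_ne_zero hϖ)
  apply hreg
  change ψ ϖ * z = ϖ • (0 : Γ(Z, W))
  rw [smul_zero]
  exact hz

/-- (P2) on all opens -/
theorem eq_zero_of_mul {Z : Scheme.{u}} (q : Z ⟶ Spec (CommRingCat.of R)) [Flat q] (ϖ : R)
    (hϖ : ϖ ≠ 0) (W : Z.Opens) (z : Γ(Z, W)) (hz : tr q ϖ W * z = 0) :
    z = 0 := by
  apply eq_of_affine_res Z W z 0
  intro W' hW' hle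
  rw [map_zero]
  apply eq_zero_of_affine q ϖ hϖ W' hW'
  rw [← tr_res q ϖ W W' hle, ← map_mul, hz, map_zero]

end Groth.Agent.Lib.H9DvrPushC



namespace Groth.Agent.Lib.H9DvrPushD

open CategoryTheory CategoryTheory.Limits AlgebraicGeometry TopologicalSpace Opposite TensorProduct
open Groth.Agent.Lib.H9DvrPushC

/-- (P3a) algebra -/
theorem mem_span_of_pow_mem (R B κ : Type u) [CommRing R] [CommRing B] [CommRing κ] [Algebra R B]
    [Algebra R κ] (ϖ : R) (hsurj : Function.Surjective (algebraMap R κ))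
    (hker : RingHom.ker (algebraMap R κ) = Ideal.span {ϖ}) [IsReduced (B ⊗[R] κ)]
    (b : B) (d : ℕ) (hb : b ^ d ∈ Ideal.span {algebraMap R B ϖ}) :
    b ∈ Ideal.span {algebraMap R B ϖ} := by
  obtain ⟨b'', hb''⟩ := Ideal.mem_span_singleton'.mp hb
  have hϖ0 : algebraMap R κ ϖ = 0 := by
    have : ϖ ∈ RingHom.ker (algebraMap R κ) := by
      rw [hker]; exact Ideal.mem_span_singleton_self ϖ
    exact this
  have h1 : (b ⊗ₜ[R] (1 : κ)) ^ d = 0 := by
    rw [Algebra.TensorProduct.tmul_pow, one_pow, ← hb'', mul_comm, ← Algebra.smul_def,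
      TensorProduct.smul_tmul, Algebra.smul_def, hϖ0, zero_mul, TensorProduct.tmul_zero]
  have h2 : b ⊗ₜ[R] (1 : κ) = 0 := IsReduced.eq_zero _ ⟨d, h1⟩
  -- exactness
  let f : R →ₗ[R] R := LinearMap.lsmul R R ϖ
  let g : R →ₗ[R] κ := Algebra.linearMap R κ
  have hfg : Function.Exact f g := by
    intro y
    constructor
    · intro hy
      have : y ∈ RingHom.ker (algebraMap R κ) := hy
      rw [hker] at this
      obtain ⟨c, hc⟩ := Ideal.mem_span_singleton'.mp this
      exact ⟨c, by simp [f, ← hc, mul_comm]⟩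
    · rintro ⟨c, rfl⟩
      simp [f, g, hϖ0]
  have hex := lTensor_exact B hfg hsurj
  have h3 : (LinearMap.lTensor B g) (b ⊗ₜ[R] (1 : R)) = 0 := by
    rw [LinearMap.lTensor_tmul]
    simpa [g] using h2
  obtain ⟨z, hz⟩ := (hex _).mp h3
  have h4 : ∀ z : B ⊗[R] R, TensorProduct.rid R B (LinearMap.lTensor B f z) =
      algebraMap R B ϖ * TensorProduct.rid R B z := by
    intro z
    induction z with
    | zero => simp
    | tmul x y =>
      simp only [LinearMap.lTensor_tmul, TensorProduct.rid_tmul, f, LinearMap.lsmul_apply]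
      rw [smul_eq_mul, mul_smul, Algebra.smul_def, Algebra.smul_def (y : R) x]
    | add x y hx hy => rw [map_add, map_add, map_add, hx, hy, mul_add]
  have h5 := congrArg (TensorProduct.rid R B) hz
  rw [h4, TensorProduct.rid_tmul, one_smul] at h5
  rw [← h5, mul_comm]
  exact Ideal.mul_mem_left _ _ (Ideal.mem_span_singleton_self _)

end Groth.Agent.Lib.H9DvrPushD

namespace Groth.Agent.Lib.H9DvrPushD

open CategoryTheory CategoryTheory.Limits AlgebraicGeometry TopologicalSpace Opposite TensorProduct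
open Groth.Agent.Lib.H9DvrPushC

variable {R : Type u} [CommRing R]

/-- (P3b) reducedness of the affine pieces of a reduced fibre -/
theorem isReduced_tensor {X : Scheme.{u}} (p : X ⟶ Spec (CommRingCat.of R))
    (s : Spec (CommRingCat.of R)) [IsReduced (p.fiber s)] (V : X.Opens) (hV : IsAffineOpen V) :
    letI : Algebra R Γ(X, V) := ((p.appLE ⊤ V le_top).hom.comp
      (Scheme.ΓSpecIso (CommRingCat.of R)).inv.hom).toAlgebra
    IsReduced (Γ(X, V) ⊗[R] s.asIdeal.ResidueField) := by
  letI : Algebra R Γ(X, V) := ((p.appLE ⊤ V le_top).hom.comp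
      (Scheme.ΓSpecIso (CommRingCat.of R)).inv.hom).toAlgebra
  let ψc : CommRingCat.of R ⟶ Γ(X, V) :=
    (Scheme.ΓSpecIso (CommRingCat.of R)).inv ≫ p.appLE ⊤ V le_top
  have hψ : CommRingCat.ofHom (algebraMap R Γ(X, V)) = ψc := rfl
  let g : Spec (CommRingCat.of s.asIdeal.ResidueField) ⟶ Spec (CommRingCat.of R) :=
    Spec.map (CommRingCat.ofHom (algebraMap R s.asIdeal.ResidueField))
  let iso := Scheme.Spec.residueFieldIso (CommRingCat.of R) s
  have hg : Spec.map iso.inv ≫ g = (Spec (CommRingCat.of R)).fromSpecResidueField s :=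
    Scheme.Spec.map_residueFieldIso_inv_eq_fromSpecResidueField _ _
  -- step 1
  let q1 : pullback p g ⟶ pullback p ((Spec (CommRingCat.of R)).fromSpecResidueField s) :=
    pullback.map p g p _ (𝟙 X) (Spec.map iso.hom) (𝟙 _) (by simp) (by
      rw [← hg, ← Spec.map_comp_assoc, Iso.inv_hom_id, Spec.map_id, Category.id_comp,
        Category.comp_id])
  haveI : IsIso q1 := by
    dsimp only [q1]
    infer_instance
  haveI : IsReduced (pullback p ((Spec (CommRingCat.of R)).fromSpecResidueField s)) :=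
    ‹IsReduced (p.fiber s)›
  haveI h1 : IsReduced (pullback p g) := isReduced_of_isOpenImmersion q1
  -- step 2
  haveI h2 : IsReduced (pullback V.ι (pullback.fst p g)) :=
    isReduced_of_isOpenImmersion (pullback.snd V.ι (pullback.fst p g))
  haveI h3 : IsReduced (pullback (V.ι ≫ p) g) :=
    isReduced_of_isOpenImmersion (pullbackRightPullbackFstIso p g V.ι).inv
  -- step 3
  have hVp : V.ι ≫ p = hV.isoSpec.hom ≫ Spec.map ψc := by
    rw [← hV.isoSpec_hom_fromSpec, Category.assoc]
    congr 1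
    rw [← IsAffineOpen.SpecMap_appLE_fromSpec p (isAffineOpen_top _) hV le_top,
      IsAffineOpen.fromSpec_top (X := Spec (CommRingCat.of R)), Scheme.isoSpec_Spec_inv,
      ← Spec.map_comp]
  let q4 : pullback (Spec.map ψc) g ⟶ pullback (V.ι ≫ p) g :=
    pullback.map (Spec.map ψc) g (V.ι ≫ p) g hV.isoSpec.inv (𝟙 _) (𝟙 _) (by
      rw [hVp, Iso.inv_hom_id_assoc, Category.comp_id]) (by simp)
  haveI : IsIso q4 := by
    dsimp only [q4]
    infer_instance
  haveI h4 : IsReduced (pullback (Spec.map ψc) g) := isReduced_of_isOpenImmersion q4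
  haveI h5 : IsReduced (Spec (CommRingCat.of (Γ(X, V) ⊗[R] s.asIdeal.ResidueField))) := by
    have e := pullbackSpecIso R Γ(X, V) s.asIdeal.ResidueField
    rw [hψ] at e
    exact isReduced_of_isOpenImmersion e.inv
  exact (affine_isReduced_iff _).mp h5

end Groth.Agent.Lib.H9DvrPushD



namespace Groth.Agent.Lib.H9DvrPushE

open CategoryTheory CategoryTheory.Limits AlgebraicGeometry TopologicalSpace Opposite TensorProduct
open Groth.Agent.Lib.H9DvrPushB Groth.Agent.Lib.H9DvrPushC Groth.Agent.Lib.H9DvrPushD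

/-- iso of a restriction ⇒ iso on sections over smaller opens -/
theorem isIso_app_of_isIso_restrict {X Y : Scheme.{u}} (π : Y ⟶ X) (U W : X.Opens) (hWU : W ≤ U)
    [IsIso (π ∣_ U)] : IsIso (π.app W) := by
  have h : IsIso ((π ∣_ U).app (U.ι ⁻¹ᵁ W)) := inferInstance
  rw [morphismRestrict_app] at h
  have h1 : IsIso (π.app (U.ι ''ᵁ (U.ι ⁻¹ᵁ W))) := by
    have h0 : IsIso (Y.presheaf.map
        (eqToHom (image_morphismRestrict_preimage π U (U.ι ⁻¹ᵁ W))).op) := inferInstance
    exact @IsIso.of_isIso_comp_right _ _ _ _ _ _ _ h0 h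
  have e : U.ι ''ᵁ (U.ι ⁻¹ᵁ W) = W := by
    rw [Scheme.Hom.image_preimage_eq_opensRange_inf, Scheme.Opens.opensRange_ι]
    exact inf_eq_right.2 hWU
  rw [Scheme.Hom.app_eq π e.symm]
  infer_instance

/-- integrality of `π.app V` for `π` universally closed and `V` affine -/
theorem isIntegral_app {X Y : Scheme.{u}} (π : Y ⟶ X) [UniversallyClosed π] (V : X.Opens)
    (hV : IsAffineOpen V) : (π.app V).hom.IsIntegral := by
  haveI : IsAffine (V : Scheme.{u}) := hV
  have h : ((π ∣_ V).appTop).hom.IsIntegral := isIntegral_appTop_of_universallyClosed (π ∣_ V)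
  rw [morphismRestrict_appTop] at h
  have h1 := (RingHom.isIntegral_respectsIso.cancel_right_isIso _ _).mp h
  have e : V.ι ''ᵁ ⊤ = V := by simp
  rw [Scheme.Hom.app_eq π e.symm]
  refine (RingHom.isIntegral_respectsIso.cancel_left_isIso _ _).mpr ?_
  exact (RingHom.isIntegral_respectsIso.cancel_right_isIso _ _).mpr h1

variable {R : Type u} [CommRing R] [IsDomain R]

theorem eq_zero_of_pow_mul {Z : Scheme.{u}} (q : Z ⟶ Spec (CommRingCat.of R)) [Flat q] (ϖ : R)
    (hϖ : ϖ ≠ 0) (W : Z.Opens) (n : ℕ) (z : Γ(Z, W)) (hz : tr q ϖ W ^ n * z = 0) :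
    z = 0 := by
  induction n with
  | zero => simpa using hz
  | succ n ih =>
    apply ih
    apply eq_zero_of_mul q ϖ hϖ W
    rw [← mul_assoc, ← pow_succ']
    exact hz

end Groth.Agent.Lib.H9DvrPushE

namespace Groth.Agent.Lib.H9DvrPushE

open CategoryTheory CategoryTheory.Limits AlgebraicGeometry TopologicalSpace Opposite TensorProduct
open Groth.Agent.Lib.H9DvrPushB Groth.Agent.Lib.H9DvrPushC Groth.Agent.Lib.H9DvrPushD

variable {R : Type u} [CommRing R] [IsDomain R]

theorem basicOpen_tt {X : Scheme.{u}} (p : X ⟶ Spec (CommRingCat.of R)) (ϖ : R) :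
    X.basicOpen (tt p ϖ) = p ⁻¹ᵁ (PrimeSpectrum.basicOpen ϖ) := by
  unfold tt
  rw [← Scheme.preimage_basicOpen_top, basicOpen_eq_of_affine]

theorem basicOpen_tr {X : Scheme.{u}} (p : X ⟶ Spec (CommRingCat.of R)) (ϖ : R) (V : X.Opens) :
    X.basicOpen (tr p ϖ V) = V ⊓ p ⁻¹ᵁ (PrimeSpectrum.basicOpen ϖ) := by
  rw [← basicOpen_tt]
  exact Scheme.basicOpen_res X (tt p ϖ) (homOfLE le_top).op

theorem exists_pow_mul_eq_zero' (Z : Scheme.{u}) (Ω V'' : Z.Opens) (hΩ : IsCompact Ω.1)
    (g x : Γ(Z, Ω)) (e : V'' = Z.basicOpen g) (hle : V'' ≤ Ω)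
    (H : (Z.presheaf.map (homOfLE hle).op).hom x = 0) : ∃ n : ℕ, g ^ n * x = 0 := by
  subst e
  exact exists_pow_mul_eq_zero_of_res_basicOpen_eq_zero_of_isCompact Z hΩ x g H

theorem bijective_app_affine [IsDiscreteValuationRing R] {X Y : Scheme.{u}}
    (p : X ⟶ Spec (CommRingCat.of R)) (π : Y ⟶ X) [Flat p] [Flat (π ≫ p)] [IsProper π]
    (ϖ : R) (hϖ : Irreducible ϖ)
    (hgen : IsIso (π ∣_ (p ⁻¹ᵁ (PrimeSpectrum.basicOpen ϖ))))
    [IsReduced (p.fiber (IsLocalRing.closedPoint R))]
    (V : X.Opens) (hV : IsAffineOpen V) : Function.Bijective (π.app V).hom := by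
  have hϖ0 : ϖ ≠ 0 := hϖ.ne_zero
  have hφt : (π.app V).hom (tr p ϖ V) = tr (π ≫ p) ϖ (π ⁻¹ᵁ V) := (tr_comp π p ϖ V).symm
  have hV'U : X.basicOpen (tr p ϖ V) ≤ p ⁻¹ᵁ (PrimeSpectrum.basicOpen ϖ) := by
    rw [basicOpen_tr]; exact inf_le_right
  have hV'V : X.basicOpen (tr p ϖ V) ≤ V := X.basicOpen_le _
  haveI : IsIso (π.app (X.basicOpen (tr p ϖ V))) := isIso_app_of_isIso_restrict π _ _ hV'U
  have hbij : Function.Bijective (π.app (X.basicOpen (tr p ϖ V))).hom :=
    (ConcreteCategory.isIso_iff_bijective _).mp inferInstance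
  have hpre : π ⁻¹ᵁ X.basicOpen (tr p ϖ V) = Y.basicOpen ((π.app V).hom (tr p ϖ V)) :=
    Scheme.preimage_basicOpen π _
  have hinj : Function.Injective (π.app V).hom := by
    rw [injective_iff_map_eq_zero]
    intro b hb
    have h1 : (X.presheaf.map (homOfLE hV'V).op).hom b = 0 := by
      apply hbij.1
      rw [app_res, hb, map_zero, map_zero]
    obtain ⟨n, hn⟩ := exists_pow_mul_eq_zero_of_res_basicOpen_eq_zero_of_isAffineOpen X hV b
      (tr p ϖ V) h1
    exact eq_zero_of_pow_mul p ϖ hϖ0 V n b hn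
  refine ⟨hinj, ?_⟩
  refine Groth.Agent.Lib.H9DvrPush.surjective_of_integral (π.app V).hom hinj
    (isIntegral_app π V hV) (tr p ϖ V) ?_ ?_ ?_
  · intro c hc
    rw [hφt] at hc
    exact eq_zero_of_mul (π ≫ p) ϖ hϖ0 _ c hc
  · -- reducedness
    intro b d hb
    letI : Algebra R Γ(X, V) := ((p.appLE ⊤ V le_top).hom.comp
      (Scheme.ΓSpecIso (CommRingCat.of R)).inv.hom).toAlgebra
    haveI := isReduced_tensor p (IsLocalRing.closedPoint R) V hV
    have halg : algebraMap R Γ(X, V) ϖ = tr p ϖ V := rfl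
    haveI : (IsLocalRing.closedPoint R).asIdeal.IsMaximal :=
      inferInstanceAs (IsLocalRing.maximalIdeal R).IsMaximal
    rw [← halg] at hb ⊢
    refine mem_span_of_pow_mem R Γ(X, V) (IsLocalRing.closedPoint R).asIdeal.ResidueField ϖ
      (Ideal.algebraMap_residueField_surjective _) ?_ b d hb
    rw [Ideal.ker_algebraMap_residueField]
    exact hϖ.maximalIdeal_eq
  · -- localization
    intro c
    obtain ⟨β, hβ⟩ := hbij.2 ((Y.presheaf.map (homOfLE (π.preimage_mono hV'V)).op).hom c)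
    obtain ⟨n, b, hb⟩ := exists_eq_pow_mul_of_isAffineOpen X V hV (tr p ϖ V) β
    refine ⟨n, b, ?_⟩
    have hx : (Y.presheaf.map (homOfLE (π.preimage_mono hV'V)).op).hom
        ((π.app V).hom (tr p ϖ V) ^ n * c - (π.app V).hom b) = 0 := by
      rw [map_sub, map_mul, map_pow, ← app_res π V _ hV'V, ← app_res π V _ hV'V, ← hβ, ← map_pow,
        ← map_mul, ← map_sub]
      have : (X.presheaf.map (homOfLE hV'V).op).hom (tr p ϖ V) ^ n * β -
          (X.presheaf.map (homOfLE hV'V).op).hom b = 0 := by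
        rw [sub_eq_zero]
        exact hb.symm
      rw [this, map_zero]
    obtain ⟨m, hm⟩ := exists_pow_mul_eq_zero' Y (π ⁻¹ᵁ V) _
      (π.isCompact_preimage hV.isCompact) ((π.app V).hom (tr p ϖ V)) _ hpre
      (π.preimage_mono hV'V) hx
    rw [hφt] at hm
    have := eq_zero_of_pow_mul (π ≫ p) ϖ hϖ0 _ m _ hm
    rw [← hφt] at this
    exact sub_eq_zero.mp this

end Groth.Agent.Lib.H9DvrPushE



namespace Groth.Agent.Lib.H9DvrPushF

open CategoryTheory CategoryTheory.Limits AlgebraicGeometry TopologicalSpace Opposite TensorProduct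
open Groth.Agent.Lib.H9DvrPushB Groth.Agent.Lib.H9DvrPushE

variable (R : Type u) [CommRing R] [IsDomain R] [IsDiscreteValuationRing R]

/-- from an isomorphism on generic fibres to an isomorphism of the restriction over `D(ϖ)` -/
theorem isIso_restrict_of_genericFibre (X Y : Over (Spec (CommRingCat.of R))) (π : Y ⟶ X)
    (hgen : IsIso ((Neron.genericFibre R).map π)) (ϖ : R) (hϖ : Irreducible ϖ) :
    IsIso (π.left ∣_ (X.hom ⁻¹ᵁ (PrimeSpectrum.basicOpen ϖ))) := by
  set η := Neron.genPt R with hη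
  haveI : IsOpenImmersion η := Groth.Agent.Lib.H9FlatClos.isOpenImmersion_specMap_fractionRing R
  let πK : pullback Y.hom η ⟶ pullback X.hom η := ((Neron.genericFibre R).map π).left
  haveI : IsIso πK := by
    have : IsIso ((Over.forget _).map ((Neron.genericFibre R).map π)) := inferInstance
    exact this
  have hfst : πK ≫ pullback.fst X.hom η = pullback.fst Y.hom η ≫ π.left :=
    pullback.lift_fst _ _ _
  have hsnd : πK ≫ pullback.snd X.hom η = pullback.snd Y.hom η :=
    pullback.lift_snd _ _ _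
  have h1 : IsPullback πK (pullback.fst Y.hom η) (pullback.fst X.hom η) π.left := by
    refine IsPullback.of_right ?_ hfst (IsPullback.of_hasPullback X.hom η).flip
    rw [hsnd, Over.w π]
    exact (IsPullback.of_hasPullback Y.hom η).flip
  set U : X.left.Opens := X.hom ⁻¹ᵁ (PrimeSpectrum.basicOpen ϖ) with hU
  have hrange : Set.range U.ι = Set.range (pullback.fst X.hom η) := by
    rw [Scheme.Pullback.range_fst, Scheme.Opens.range_ι, hU]
    have := Groth.Agent.Lib.H9FlatClos.range_specMap_fractionRing R ϖ hϖ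
    change _ = X.hom ⁻¹' Set.range (Spec.map (CommRingCat.ofHom (algebraMap R (FractionRing R))))
    rw [this]
    rfl
  let e : (U : Scheme.{u}) ≅ pullback X.hom η :=
    IsOpenImmersion.isoOfRangeEq U.ι (pullback.fst X.hom η) hrange
  have he : e.hom ≫ pullback.fst X.hom η = U.ι := IsOpenImmersion.isoOfRangeEq_hom_fac _ _ _
  have s' : IsPullback (π.left ∣_ U) (π.left ⁻¹ᵁ U).ι (e.hom ≫ pullback.fst X.hom η) π.left := by
    rw [he]
    exact isPullback_morphismRestrict π.left U
  have h2 := IsPullback.of_bot' s' h1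
  exact h2.isIso_fst_of_isIso

/-- **S13746** -/
theorem main (X Y : Over (Spec (CommRingCat.of R))) [Flat X.hom] [Flat Y.hom]
    (π : Y ⟶ X) [IsProper π.left]
    (hgen : IsIso ((Neron.genericFibre R).map π))
    [IsReduced (X.hom.fiber (IsLocalRing.closedPoint R))] :
    ∀ V : X.left.Opens, IsIso (π.left.app V) := by
  obtain ⟨ϖ, hϖ⟩ := IsDiscreteValuationRing.exists_irreducible R
  haveI : Flat (π.left ≫ X.hom) := by
    rw [Over.w π]
    infer_instance
  have hgen' := isIso_restrict_of_genericFibre R X Y π hgen ϖ hϖ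
  intro V
  exact isIso_app_of_affine π.left
    (fun V hV => bijective_app_affine X.hom π.left ϖ hϖ hgen' V hV) V

end Groth.Agent.Lib.H9DvrPushF
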