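import Mathlib

/-! helper9: ring-level lemmas for the étale Stein factorization. -/

set_option autoImplicit false
universe u

namespace Groth.Agent.Lib.H9EsA

open TensorProduct

section Local

variable {A A' L : Type u} [CommRing A] [IsLocalRing A] [CommRing A'] [Algebra A A']
  [CommRing L] [Algebra (IsLocalRing.ResidueField A) L]

/-- **P3**: a finite free algebra over a local ring which surjects onto an étale algebra over the
residue field of the same rank is étale. -/
theorem etale_of_local [Module.Free A A'] [Module.Finite A A']
    (ρ : A' →+* L) (hρ : Function.Surjective ρ)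
    (hcompat : ∀ a : A, ρ (algebraMap A A' a) =
      algebraMap (IsLocalRing.ResidueField A) L (IsLocalRing.residue A a))
    (hrank : Module.finrank A A' = Module.finrank (IsLocalRing.ResidueField A) L)
    [Algebra.Etale (IsLocalRing.ResidueField A) L] : Algebra.Etale A A' := by
  classical
  let K := IsLocalRing.ResidueField A
  letI : Algebra A L := ((algebraMap K L).comp (algebraMap A K)).toAlgebra
  haveI : IsScalarTower A K L := IsScalarTower.of_algebraMap_eq' rfl
  let g : A' →ₐ[A] L := { ρ with commutes' := fun a => hcompat a }
  let ψ : K ⊗[A] A' →ₐ[K] L :=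
    Algebra.TensorProduct.lift (Algebra.ofId K L) g (fun _ _ => Commute.all _ _)
  have hψs : Function.Surjective ψ := by
    intro l
    obtain ⟨a', rfl⟩ := hρ l
    exact ⟨1 ⊗ₜ a', by simp [ψ, g]⟩
  haveI : Module.Finite K L := Algebra.FormallyUnramified.finite_of_free K L
  have hfin : Module.finrank K (K ⊗[A] A') = Module.finrank K L := by
    rw [Module.finrank_baseChange, hrank]
  have hψi : Function.Injective ψ :=
    (LinearMap.injective_iff_surjective_of_finrank_eq_finrank (f := ψ.toLinearMap) hfin).mpr hψs
  let e : K ⊗[A] A' ≃ₐ[K] L := AlgEquiv.ofBijective ψ ⟨hψi, hψs⟩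
  haveI : Algebra.FormallyUnramified K (K ⊗[A] A') := Algebra.FormallyUnramified.of_equiv e.symm
  -- formally unramified by Nakayama
  haveI : Algebra.FormallyUnramified A A' := by
    constructor
    haveI : Module.Finite A Ω[A'⁄A] := Module.Finite.trans A' _
    rw [← IsLocalRing.subsingleton_tensorProduct (R := A)]
    let _ : Algebra A' (K ⊗[A] A') := Algebra.TensorProduct.rightAlgebra
    exact (KaehlerDifferential.tensorKaehlerEquivBase A K A' (K ⊗[A] A')).subsingleton
  haveI : Module.FinitePresentation A A' := Module.finitePresentation_of_projective A A'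
  exact Algebra.Etale.of_formallyUnramified_of_flat

end Local


section Locus

variable {R S O S₁ : Type u} [CommRing R] [CommRing S] [CommRing O] [CommRing S₁]
  [Algebra R S] [Algebra R O] [Algebra O S₁] [Algebra S S₁] [Algebra R S₁]
  [IsScalarTower R O S₁] [IsScalarTower R S S₁]

/-- **P4**: if the base change `S₁ = S ⊗_R R_p` is formally étale over `R_p`, then `S` is étale
over `R` at all primes over `p`. -/
theorem isEtaleAt_of_isPushout (p : Ideal R) [p.IsPrime] [IsLocalization.AtPrime O p]
    (hpo : Algebra.IsPushout R S O S₁) [Algebra.FormallyEtale O S₁]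
    (q : Ideal S) [q.IsPrime] (hq : q.comap (algebraMap R S) = p) :
    Algebra.IsEtaleAt R q := by
  haveI : IsLocalization (Algebra.algebraMapSubmonoid S p.primeCompl) S₁ :=
    (Algebra.isLocalization_iff_isPushout p.primeCompl O).mpr hpo
  have hle : Algebra.algebraMapSubmonoid S p.primeCompl ≤ q.primeCompl := by
    rintro _ ⟨r, hr, rfl⟩ hmem
    exact hr (hq ▸ (Ideal.mem_comap.mpr hmem))
  let φ : S₁ →+* Localization.AtPrime q :=
    IsLocalization.lift (M := Algebra.algebraMapSubmonoid S p.primeCompl)
      (g := algebraMap S (Localization.AtPrime q))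
      (fun y => IsLocalization.map_units (Localization.AtPrime q) ⟨y.1, hle y.2⟩)
  letI : Algebra S₁ (Localization.AtPrime q) := φ.toAlgebra
  haveI : IsScalarTower S S₁ (Localization.AtPrime q) :=
    .of_algebraMap_eq' (IsLocalization.lift_comp _).symm
  haveI : IsLocalization ((q.primeCompl).map (algebraMap S S₁)) (Localization.AtPrime q) :=
    IsLocalization.isLocalization_of_submonoid_le S₁ (Localization.AtPrime q) _ _ hle
  haveI : Algebra.FormallyEtale S₁ (Localization.AtPrime q) :=
    .of_isLocalization ((q.primeCompl).map (algebraMap S S₁))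
  haveI : Algebra.FormallyEtale R O := .of_isLocalization p.primeCompl
  letI : Algebra O (Localization.AtPrime q) := (φ.comp (algebraMap O S₁)).toAlgebra
  haveI : IsScalarTower O S₁ (Localization.AtPrime q) := .of_algebraMap_eq' rfl
  haveI : IsScalarTower R O (Localization.AtPrime q) := by
    refine .of_algebraMap_eq fun r => ?_
    change _ = algebraMap S₁ (Localization.AtPrime q) (algebraMap O S₁ (algebraMap R O r))
    rw [← IsScalarTower.algebraMap_apply R O S₁, IsScalarTower.algebraMap_apply R S S₁,
      ← IsScalarTower.algebraMap_apply S S₁ (Localization.AtPrime q),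
      ← IsScalarTower.algebraMap_apply R S (Localization.AtPrime q)]
  haveI : Algebra.FormallyEtale O (Localization.AtPrime q) :=
    Algebra.FormallyEtale.comp O S₁ (Localization.AtPrime q)
  exact Algebra.FormallyEtale.comp R O (Localization.AtPrime q)

end Locus


section Field

attribute [local instance] IsArtinianRing.fieldOfSubtypeIsMaximal in
/-- a finite reduced algebra over an algebraically closed field is étale -/
theorem etale_of_finite_of_isReduced_of_isAlgClosed (T B : Type u) [Field T] [IsAlgClosed T]
    [CommRing B] [Algebra T B] [Module.Finite T B] [IsReduced B] : Algebra.Etale T B := by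
  haveI : IsArtinianRing B := isArtinian_of_tower T inferInstance
  rw [Algebra.Etale.iff_exists_algEquiv_prod]
  refine ⟨MaximalSpectrum B, inferInstance, fun m => B ⧸ m.asIdeal, inferInstance, inferInstance,
    (IsArtinianRing.equivPi B).restrictScalars T, fun m => ⟨?_, ?_⟩⟩
  · exact Module.Finite.of_surjective (Ideal.Quotient.mkₐ T m.asIdeal).toLinearMap
      (Ideal.Quotient.mkₐ_surjective T m.asIdeal)
  · haveI : Module.Finite T (B ⧸ m.asIdeal) :=
      Module.Finite.of_surjective (Ideal.Quotient.mkₐ T m.asIdeal).toLinearMap
        (Ideal.Quotient.mkₐ_surjective T m.asIdeal)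
    infer_instance

/-- **Lemma E (algebra)**: a finite algebra over a field which is geometrically reduced is
étale. -/
theorem etale_of_finite_of_isReduced_tensor (K L : Type u) [Field K] [CommRing L] [Algebra K L]
    [Module.Finite K L] (h : IsReduced (AlgebraicClosure K ⊗[K] L)) : Algebra.Etale K L := by
  haveI := h
  haveI : Algebra.Etale (AlgebraicClosure K) (AlgebraicClosure K ⊗[K] L) :=
    etale_of_finite_of_isReduced_of_isAlgClosed _ _
  exact Algebra.Etale.of_etale_tensorProduct_of_faithfullyFlat (AlgebraicClosure K)

end Field

end Groth.Agent.Lib.H9EsA
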