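import Mathlib
import Groth.Agent.Lib.H9EtE

/-! helper9: `surjective_app_of_separable`: ring-level form of the core lemma: Γ(X,⊤) → Γ(X ×_A A/I, ⊤) is surjective. -/

set_option autoImplicit false
set_option linter.unusedSectionVars false
universe u

noncomputable section

namespace Groth.Agent.Lib.H9EsB1

open CategoryTheory CategoryTheory.Limits AlgebraicGeometry TopologicalSpace Opposite Polynomial
open Groth.Agent.Lib.R2H2.FlatDev Groth.Agent.Lib.R2H2.SheafBC Groth.Agent.Lib.H9EtB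
open Groth.Agent.Lib.R2H2.FibreCoh Groth.Agent.Lib.R2H3.PnChart Groth.Agent.Lib.H9Pfb3
open Groth.Agent.Lib.H9EtC Groth.Agent.Lib.H9ZarLift Groth.Agent.Lib.H9EtD Groth.Agent.Lib.H9EtE
open Groth.Agent.Lib.R2H2.HHLin Groth.Agent.Lib.R2H2.ReesCoh Groth.Agent.Lib.R2H2.FormalFn

variable {A B : Type u} [CommRing A] [CommRing B] [Algebra A B] {X X' : Scheme.{u}}
  [X.Over (Spec (CommRingCat.of A))] (f' : X' ⟶ Spec (CommRingCat.of B)) (g' : X' ⟶ X)
  (h : IsPullback g' f' (X ↘ Spec (CommRingCat.of A))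
    (Spec.map (CommRingCat.ofHom (algebraMap A B))))

include h in
/-- ring-level core lemma: functions on `X' = X ×_A A/I` lift to `X`. -/
theorem surjective_app_of_separable [IsNoetherianRing A]
    [IsProper (X ↘ Spec (CommRingCat.of A))]
    (hsurj : Function.Surjective (algebraMap A B)) (I : Ideal A)
    (hI : ∀ a ∈ I, algebraMap A B a = 0) (hI' : ∀ a : A, algebraMap A B a = 0 → a ∈ I)
    (hsep : ∀ β : Γ(X', g' ⁻¹ᵁ ⊤), ∃ Q : B[X], Q.Separable ∧
      Q.eval₂ (bW f' (g' ⁻¹ᵁ ⊤)) β = 0) :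
    Function.Surjective (g'.app ⊤).hom := by
  have h1 : Function.Surjective (HmapA A (πJ I (Coh.structureModule X)) 0) :=
    surjective_toFibre_of_separable f' g' h hsurj I hI hI' hsep (Coh.structureModule X) (Iso.refl _)
  intro β
  obtain ⟨z₀, hz₀⟩ := (ΦU_bijective f' g' h hsurj I hI hI' ⊤).surjective β
  obtain ⟨x, hx⟩ := h1 ((h0 (modJ I (Coh.structureModule X))).symm z₀)
  refine ⟨h0 (Coh.structureModule X) x, ?_⟩
  have e2 := h0_natural (πJ I (Coh.structureModule X)) x
  have hx' : Sheaf.H.map ((SheafOfModules.toSheaf _).map (πJ I (Coh.structureModule X))) 0 x =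
      (h0 (modJ I (Coh.structureModule X))).symm z₀ := hx
  rw [hx', AddEquiv.apply_symm_apply] at e2
  have e3 := ΦU_pU f' g' h I hI ⊤ (h0 (Coh.structureModule X) x)
  rw [← hz₀, ← e3]
  congr 1
  exact e2.symm

end Groth.Agent.Lib.H9EsB1
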