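import Mathlib
import Groth.Agent.Lib.H9EtF
import Groth.Agent.Lib.H9CbF
set_option backward.isDefEq.respectTransparency.types false

/-! helper9: local freeness of global functions: `exists_basis_HH`, `free_global`. -/

set_option autoImplicit false
set_option linter.unusedSectionVars false
universe u

noncomputable section

namespace Groth.Agent.Lib.H9EsB2

open CategoryTheory CategoryTheory.Limits AlgebraicGeometry TopologicalSpace Opposite Polynomial
open Groth.Agent.Lib.R2H2.FlatDev Groth.Agent.Lib.R2H2.SheafBC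
open Groth.Agent.Lib.R2H2.HHLin Groth.Agent.Lib.R2H2.FibreCoh Groth.Agent.Lib.R2H2.FibreVanish
open Groth.Agent.Lib.R2H2.FibreFree Groth.Agent.Lib.R2H2.FlatFree Groth.Agent.Lib.R2H2.TowerFree
open Groth.Agent.Lib.R2H2.ReesCoh Groth.Agent.Lib.R2H2.ReesAR Groth.Agent.Lib.R2H2.FormalFn
open Groth.Agent.Lib.H9EtE Groth.Agent.Lib.R2H3.PnChart

attribute [local instance] over₁

/-- a basis of `H⁰(X₁, O)` of the size of the fibre rank -/
theorem exists_basis_HH {X Y : Scheme.{u}} (f : X ⟶ Y) [IsProper f] [Flat f]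
    [IsLocallyNoetherian Y] (y : Y)
    (het : Algebra.Etale (Y.residueField y) Γ(f.fiber y, ⊤)) :
    Nonempty (Module.Basis (Fin (CohIII.fiberRank f (Coh.structureModule X) 0 y))
      (Y.presheaf.stalk y) (Coh.HH (X₁ f y) (F₁ f y (Coh.structureModule X)) 0)) := by
  have := Groth.Agent.S0484.result (Opens.grothendieckTopology X) X.ringCatSheaf
  haveI : EnoughInjectives X.Modules :=
    inferInstanceAs (EnoughInjectives (SheafOfModules.{u} X.ringCatSheaf))
  set F := Coh.structureModule X with hFdef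
  haveI hqc : F.IsQuasicoherent :=
    Groth.Agent.Lib.Helper23.Serre.isQuasicoherent_structureModule' _
  have hF : Coh.IsCoh F := ⟨hqc, Groth.Agent.Lib.R2H2.PnFinite.isFiniteType_structureModule _⟩
  haveI : SheafOfModules.IsFiniteType (R := X.ringCatSheaf) F := hF.2
  have hfl : FlatMod.IsFlatOver f F := Groth.Agent.Lib.R2H3.SchemDense.isFlatOver_structureModule f
  haveI : IsProper (X₁ f y ↘ Spec (CommRingCat.of (Y.presheaf.stalk y))) :=
    MorphismProperty.of_isPullback (isPullback₁ f y) inferInstance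
  have hcoh₁ : Coh.IsCoh (F₁ f y F) :=
    ⟨Groth.Agent.Lib.Helper2.PullbackSec.isQuasicoherent_pullback _ F,
      Groth.Agent.Lib.Helper20.FormalPull.isFiniteType_pullback _ F⟩
  have hfl₁ : FlatMod.IsFlatOver (X₁ f y ↘ Spec (CommRingCat.of (Y.presheaf.stalk y)))
      (F₁ f y F) := fun x' =>
    Groth.Agent.Lib.Helper2.PullbackSec.isFlatOverAt_pullback_of_isPullback (isPullback₁ f y) F x'
      (hfl _)
  have hcp : ∀ U : (X₁ f y).Opens, IsAffineOpen U →
      ColonProp (Y.presheaf.stalk y) (F₁ f y F) U :=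
    fun U hU => colonProp _ hfl₁ hU
  -- the core lemma
  have hsurj : Function.Surjective (HmapA (Y.presheaf.stalk y)
      (πJ (IsLocalRing.maximalIdeal (Y.presheaf.stalk y)) (F₁ f y F)) 0) :=
    surjective_toFibre_of_separable (A := Y.presheaf.stalk y)
      (B := IsLocalRing.ResidueField (Y.presheaf.stalk y))
      (f.fiberToSpecResidueField y) (g₀ f y) (isPullback₀ f y) Ideal.Quotient.mk_surjective
      (IsLocalRing.maximalIdeal (Y.presheaf.stalk y))
      (fun a ha => Ideal.Quotient.eq_zero_iff_mem.2 ha)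
      (fun a ha => Ideal.Quotient.eq_zero_iff_mem.1 ha)
      (fun β => by
        letI : Algebra (IsLocalRing.ResidueField (Y.presheaf.stalk y)) Γ(f.fiber y, ⊤) :=
          inferInstanceAs (Algebra (Y.residueField y) Γ(f.fiber y, ⊤))
        haveI : Algebra.Etale (IsLocalRing.ResidueField (Y.presheaf.stalk y)) Γ(f.fiber y, ⊤) := het
        exact hsep_of_etale (K := IsLocalRing.ResidueField (Y.presheaf.stalk y))
          (f.fiberToSpecResidueField y) rfl β)
      (F₁ f y F) (asIso (pullbackUnitHom (g₁ f y))).symm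
  obtain ⟨Φ, hΦ, hsemi⟩ := exists_ΦFibre f y F 0
  haveI := finite_fiberH f y F hF 0
  haveI : Module.Free (Y.residueField y) (CohIII.fiberH f F y 0) := inferInstance
  let v : Module.Basis (Fin (CohIII.fiberRank f F 0 y)) (Y.residueField y)
      (CohIII.fiberH f F y 0) :=
    Module.finBasisOfFinrankEq (Y.residueField y) (CohIII.fiberH f F y 0) rfl
  obtain ⟨hh, hgen, hrel⟩ := exists_lifts (A := Y.presheaf.stalk y) (B := Y.residueField y)
    (Y.residue y).hom IsLocalRing.residue_surjective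
    (fun a ha => (IsLocalRing.residue_eq_zero_iff a).1 ha)
    (HmapA (Y.presheaf.stalk y)
      (πJ (IsLocalRing.maximalIdeal (Y.presheaf.stalk y)) (F₁ f y F)) 0) hsurj Φ hΦ hsemi v
  -- freeness
  haveI : (F₁ f y F).IsQuasicoherent := hcoh₁.1
  haveI : Module.Finite (Y.presheaf.stalk y) (Coh.HH (X₁ f y) (F₁ f y F) 0) :=
    Groth.Agent.S0002.result (Y.presheaf.stalk y) (X₁ f y) (F₁ f y F) hcoh₁ 0
  have hdown' : ∀ j : ℕ, j + 1 = 0 → Subsingleton (Coh.HH (X₁ f y)
      (modJ (IsLocalRing.maximalIdeal (Y.presheaf.stalk y)) (F₁ f y F)) j) :=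
    fun j hj => absurd hj (Nat.succ_ne_zero j)
  obtain ⟨b, -⟩ : ∃ b : Module.Basis (Fin (CohIII.fiberRank f F 0 y)) (Y.presheaf.stalk y)
      (Coh.HH (X₁ f y) (F₁ f y F) 0), ∀ j, b j = hh j := by
    refine free_of_tower (fun J => Coh.HH (X₁ f y) (modJ J (F₁ f y F)) 0)
      (fun J => HmapA (Y.presheaf.stalk y) (πJ J (F₁ f y F)) 0)
      (fun {J J'} hJ => HmapA (Y.presheaf.stalk y) (modLE hJ (F₁ f y F)) 0) ?_ ?_ ?_ ?_ hh hgen hrel ?_
    · intro J J' hJ x
      change HmapL (modLE hJ (F₁ f y F)) 0 (HmapL (πJ J (F₁ f y F)) 0 x) =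
        HmapL (πJ J' (F₁ f y F)) 0 x
      rw [← HmapL_comp, πJ_modLE]
    · intro J a ha x
      have h1 := Hm_smulMod (A := Y.presheaf.stalk y) (X₁ f y) 0 (modJ J (F₁ f y F)) a x
      rw [smulMod_modJ (F₁ f y F) J a ha] at h1
      rw [← h1]
      exact HmapL_zero 0 x
    · exact subsingleton_HH_of_isZero (isZero_modJ_top (F₁ f y F)) 0
    · intro J a hJm haJ h2 hprim
      exact step (F₁ f y F) hcp 0 hdown' J a hJm haJ h2 hprim
    · obtain ⟨c, hc⟩ := ker_subset (IsLocalRing.maximalIdeal (Y.presheaf.stalk y)) (X₁ f y)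
        (F₁ f y F) 0 hcoh₁
      exact ⟨c, fun n hn x hx => hc n hn hx⟩
  exact ⟨b⟩

open Groth.Agent.Lib.H9CbF Groth.Agent.Lib.R2H2.FibRank in
/-- the fibre rank of the structure sheaf is the dimension of the global functions of the fibre -/
theorem fiberRank_eq {X S : Scheme.{u}} (f : X ⟶ S) (q : S) :
    CohIII.fiberRank f (Coh.structureModule X) 0 q =
      Module.finrank (S.residueField q) Γ(f.fiber q, ⊤) := by
  unfold CohIII.fiberRank
  letI := CohIII.fiberOver f q
  let ε' : CohIII.fiberMod f (Coh.structureModule X) q ≅ Coh.structureModule (f.fiber q) :=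
    Groth.Agent.Lib.Helper23.PB.pullbackUnitIso (f.fiberι q)
  have l1 : CohIII.fiberH f (Coh.structureModule X) q 0 ≃ₗ[S.residueField q]
      Coh.HH (f.fiber q) (Coh.structureModule (f.fiber q)) 0 := HHLinEquiv ε' 0
  have l2 := hh0LinearEquiv (S.residueField q) (f.fiber q)
  exact l1.finrank_eq.trans l2.finrank_eq

open Groth.Agent.Lib.H9CbF Groth.Agent.Lib.R2H2.FibRank in
/-- **local freeness of global functions**: `Γ(X₁, O)` is a free `O_{Y,y}`-module whose rank is
the dimension of `Γ(X_y, O)` over `κ(y)`, when the latter is étale. -/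
theorem free_global {X Y : Scheme.{u}} (f : X ⟶ Y) [IsProper f] [Flat f]
    [IsLocallyNoetherian Y] (y : Y)
    (het : Algebra.Etale (Y.residueField y) Γ(f.fiber y, ⊤)) :
    letI := algΓ (Y.presheaf.stalk y) (f₁ f y)
    Nonempty (Module.Basis (Fin (Module.finrank (Y.residueField y) Γ(f.fiber y, ⊤)))
      (Y.presheaf.stalk y) Γ(X₁ f y, ⊤)) := by
  letI := algΓ (Y.presheaf.stalk y) (f₁ f y)
  obtain ⟨b⟩ := exists_basis_HH f y het
  rw [fiberRank_eq] at b
  let l1 : Coh.HH (X₁ f y) (F₁ f y (Coh.structureModule X)) 0 ≃ₗ[Y.presheaf.stalk y]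
      Coh.HH (X₁ f y) (Coh.structureModule (X₁ f y)) 0 :=
    HHLinEquiv (Groth.Agent.Lib.Helper23.PB.pullbackUnitIso (g₁ f y)) 0
  let l2 := hh0LinearEquiv (Y.presheaf.stalk y) (X₁ f y)
  exact ⟨b.map (l1 ≪≫ₗ l2)⟩

end Groth.Agent.Lib.H9EsB2
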