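import Mathlib
import Groth.Agent.Lib.H9EsA
import Groth.Agent.Lib.H9EsB1
import Groth.Agent.Lib.H9EsB2
set_option backward.isDefEq.respectTransparency.types false

/-! helper9: (LOC) `etale_local`: Γ(X₁,O) is étale over O_{Y,y} when Γ(X_y,O) is étale over κ(y). -/

set_option autoImplicit false
set_option linter.unusedSectionVars false
universe u

noncomputable section

namespace Groth.Agent.Lib.H9EsB3

open CategoryTheory CategoryTheory.Limits AlgebraicGeometry TopologicalSpace Opposite Polynomial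
open Groth.Agent.Lib.R2H2.FibreVanish Groth.Agent.Lib.R2H2.FibreFree
open Groth.Agent.Lib.H9EtE Groth.Agent.Lib.H9CbF

attribute [local instance] over₁

theorem etale_local {X Y : Scheme.{u}} (f : X ⟶ Y) [IsProper f] [Flat f]
    [IsLocallyNoetherian Y] (y : Y)
    (het : Algebra.Etale (Y.residueField y) Γ(f.fiber y, ⊤)) :
    letI := algΓ (Y.presheaf.stalk y) (f₁ f y)
    Algebra.Etale (Y.presheaf.stalk y) Γ(X₁ f y, ⊤) := by
  letI := algΓ (Y.presheaf.stalk y) (f₁ f y)
  obtain ⟨b⟩ := Groth.Agent.Lib.H9EsB2.free_global f y het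
  haveI : Module.Free (Y.presheaf.stalk y) Γ(X₁ f y, ⊤) := Module.Free.of_basis b
  haveI : Module.Finite (Y.presheaf.stalk y) Γ(X₁ f y, ⊤) := Module.Finite.of_basis b
  letI : Algebra (IsLocalRing.ResidueField (Y.presheaf.stalk y)) Γ(f.fiber y, ⊤) :=
    inferInstanceAs (Algebra (Y.residueField y) Γ(f.fiber y, ⊤))
  haveI : Algebra.Etale (IsLocalRing.ResidueField (Y.presheaf.stalk y)) Γ(f.fiber y, ⊤) := het
  haveI : IsProper (X₁ f y ↘ Spec (CommRingCat.of (Y.presheaf.stalk y))) :=
    MorphismProperty.of_isPullback (isPullback₁ f y) inferInstance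
  have hρ : Function.Surjective ((g₀ f y).app ⊤).hom :=
    Groth.Agent.Lib.H9EsB1.surjective_app_of_separable (A := Y.presheaf.stalk y)
      (B := IsLocalRing.ResidueField (Y.presheaf.stalk y))
      (f.fiberToSpecResidueField y) (g₀ f y) (isPullback₀ f y) Ideal.Quotient.mk_surjective
      (IsLocalRing.maximalIdeal (Y.presheaf.stalk y))
      (fun a ha => Ideal.Quotient.eq_zero_iff_mem.2 ha)
      (fun a ha => Ideal.Quotient.eq_zero_iff_mem.1 ha)
      (fun β => hsep_of_etale (K := IsLocalRing.ResidueField (Y.presheaf.stalk y))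
          (f.fiberToSpecResidueField y) rfl β)
  refine Groth.Agent.Lib.H9EsA.etale_of_local (A := Y.presheaf.stalk y)
    (A' := Γ(X₁ f y, ⊤)) (L := Γ(f.fiber y, ⊤)) ((g₀ f y).app ⊤).hom hρ ?_ ?_
  · intro a
    have h1 : (f₁ f y).appTop ≫ (g₀ f y).appTop =
        (Spec.map (Y.residue y)).appTop ≫ (f.fiberToSpecResidueField y).appTop := by
      rw [← Scheme.Hom.comp_appTop, ← Scheme.Hom.comp_appTop, g₀_f₁]
    have h2 := Scheme.ΓSpecIso_inv_naturality (Y.residue y)
    have h3 : (Scheme.ΓSpecIso (Y.presheaf.stalk y)).inv ≫ (f₁ f y).appTop ≫ (g₀ f y).appTop =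
        Y.residue y ≫ (Scheme.ΓSpecIso (Y.residueField y)).inv ≫
          (f.fiberToSpecResidueField y).appTop := by
      rw [h1, ← Category.assoc, ← h2, Category.assoc]
    exact congrArg (fun φ => φ.hom a) h3
  · rw [Module.finrank_eq_card_basis b, Fintype.card_fin]
    rfl

end Groth.Agent.Lib.H9EsB3
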