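import Mathlib
import Groth.Agent.Lib.H9EsA
import Groth.Agent.Lib.H9SteinConn
import Groth.Agent.Lib.H9NormFin
import Groth.Prelude.Def_ega3
set_option backward.isDefEq.respectTransparency.types false

/-! helper9: Lemma E: global functions of a proper geometrically reduced fibre form an étale algebra. -/

set_option autoImplicit false
set_option linter.unusedSectionVars false
universe u

noncomputable section

namespace Groth.Agent.Lib.H9EsC

open CategoryTheory CategoryTheory.Limits AlgebraicGeometry TopologicalSpace Opposite TensorProduct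

/-- the hypothesis of S3701: all geometric fibres over algebraically closed fields are reduced -/
def HR {X S : Scheme.{u}} (f : X ⟶ S) : Prop :=
  ∀ (Ω : Type u) [Field Ω] [IsAlgClosed Ω] (σ : Spec (CommRingCat.of Ω) ⟶ S),
    IsReduced (pullback f σ)

theorem hR_of_geometricallyReduced {X S : Scheme.{u}} (f : X ⟶ S) [GeometricallyReduced f] :
    HR f := fun Ω _ _ σ =>
  pullback_of_geometrically (GeometricallyReduced.geometrically_isReduced (f := f)) Ω σ

/-- `HR` is stable under base change -/
theorem HR.of_isPullback {X S X' S' : Scheme.{u}} {f : X ⟶ S} {f' : X' ⟶ S'} {g' : X' ⟶ X}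
    {g : S' ⟶ S} (h : IsPullback g' f' f g) (hf : HR f) : HR f' := by
  intro Ω _ _ σ
  have h1 : IsPullback (pullback.fst f' σ ≫ g') (pullback.snd f' σ) f (σ ≫ g) :=
    (IsPullback.of_hasPullback f' σ).paste_horiz h
  let e : pullback f' σ ≅ pullback f (σ ≫ g) := h1.isoPullback
  haveI := hf Ω (σ ≫ g)
  exact isReduced_of_isOpenImmersion e.hom

/-- **Lemma E**: the global functions of a proper fibre which is geometrically reduced form an
étale algebra over the residue field. -/
theorem etale_fiber {X Y : Scheme.{u}} (f : X ⟶ Y) [IsProper f] (hred : HR f) (y : Y) :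
    Algebra.Etale (Y.residueField y) Γ(f.fiber y, ⊤) := by
  let k : Type u := Y.residueField y
  let fy : f.fiber y ⟶ Spec (CommRingCat.of k) := f.fiberToSpecResidueField y
  haveI : IsProper fy :=
    inferInstanceAs (IsProper (pullback.snd f (Y.fromSpecResidueField y)))
  letI := Groth.Agent.Lib.H9SteinConn.algΓ k fy
  change Algebra.Etale k Γ(f.fiber y, ⊤)
  haveI : CompactSpace ↥(f.fiber y) := (quasiCompact_iff_compactSpace fy).mp inferInstance
  haveI : QuasiSeparatedSpace ↥(f.fiber y) :=
    (quasiSeparated_iff_quasiSeparatedSpace fy).mp inferInstance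
  haveI : Module.Finite k Γ(f.fiber y, ⊤) := Groth.Agent.Lib.H9NormFin.finite_toGlobal k fy
  obtain ⟨e⟩ := Groth.Agent.Lib.H9SteinConn.nonempty_tensorEquiv k fy (AlgebraicClosure k)
  let g := Spec.map (CommRingCat.ofHom (algebraMap k (AlgebraicClosure k)))
  haveI : IsReduced (pullback fy g) := by
    have h1 : IsPullback (pullback.fst fy g ≫ f.fiberι y) (pullback.snd fy g) f
        (g ≫ Y.fromSpecResidueField y) :=
      (IsPullback.of_hasPullback fy g).paste_horiz
        (IsPullback.of_hasPullback f (Y.fromSpecResidueField y))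
    haveI := hred (AlgebraicClosure k) (g ≫ Y.fromSpecResidueField y)
    exact isReduced_of_isOpenImmersion h1.isoPullback.hom
  haveI : IsReduced Γ(pullback fy g, ⊤) := inferInstance
  haveI : IsReduced (Γ(f.fiber y, ⊤) ⊗[k] AlgebraicClosure k) :=
    isReduced_of_injective e.toRingHom e.injective
  apply Groth.Agent.Lib.H9EsA.etale_of_finite_of_isReduced_tensor
  exact isReduced_of_injective
    (Algebra.TensorProduct.comm k (AlgebraicClosure k) Γ(f.fiber y, ⊤)).toRingEquiv.toRingHom
    (Algebra.TensorProduct.comm k (AlgebraicClosure k) Γ(f.fiber y, ⊤)).injective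

end Groth.Agent.Lib.H9EsC
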