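import Mathlib
import Groth.Agent.Lib.H9EsB3
import Groth.Agent.Lib.H9EsC
import Groth.Agent.Lib.H9ZarLocal
import Groth.Agent.Lib.Helper12AffineDescent
set_option backward.isDefEq.respectTransparency.types false

/-! helper9: (GLOB) `etale_global`: for `f : X ⟶ Spec A` proper flat over a Noetherian ring whose
fibres have étale rings of global functions, `Γ(X, O)` is a finite étale `A`-algebra. -/

set_option autoImplicit false
set_option linter.unusedSectionVars false
universe u

noncomputable section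

namespace Groth.Agent.Lib.H9EsD

open CategoryTheory CategoryTheory.Limits AlgebraicGeometry TopologicalSpace Opposite
open Groth.Agent.Lib.R2H2.FibreVanish Groth.Agent.Lib.R2H2.FibreFree
open Groth.Agent.Lib.H9CbF

attribute [local instance] over₁

variable (A : Type u) [CommRing A] [IsNoetherianRing A] {X : Scheme.{u}}
  (f : X ⟶ Spec (CommRingCat.of A)) [IsProper f] [Flat f]

/-- the local ring of `Spec A` at `y` as an `A`-algebra -/
abbrev algStalk (y : ↥(Spec (CommRingCat.of A))) :
    Algebra A ((Spec (CommRingCat.of A)).presheaf.stalk y) :=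
  ((Scheme.ΓSpecIso (CommRingCat.of A)).inv ≫
    (Spec (CommRingCat.of A)).presheaf.germ ⊤ y trivial).hom.toAlgebra

theorem isLocalization_stalk (y : ↥(Spec (CommRingCat.of A))) :
    letI := algStalk A y
    IsLocalization.AtPrime ((Spec (CommRingCat.of A)).presheaf.stalk y) y.asIdeal :=
  AlgebraicGeometry.StructureSheaf.IsLocalization.to_stalk (R := A) y


/-- the pushout square of global sections for the localization at `y` -/
theorem isPushout_stalk (y : ↥(Spec (CommRingCat.of A))) :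
    letI := algΓ A f
    letI := algStalk A y
    letI := algΓ ((Spec (CommRingCat.of A)).presheaf.stalk y) (f₁ f y)
    letI : Algebra Γ(X, ⊤) Γ(X₁ f y, ⊤) := (g₁ f y).appTop.hom.toAlgebra
    letI : Algebra A Γ(X₁ f y, ⊤) :=
      ((algebraMap Γ(X, ⊤) Γ(X₁ f y, ⊤)).comp (algebraMap A Γ(X, ⊤))).toAlgebra
    IsPushout (CommRingCat.ofHom (algebraMap A Γ(X, ⊤)))
      (CommRingCat.ofHom (algebraMap A ((Spec (CommRingCat.of A)).presheaf.stalk y)))
      (CommRingCat.ofHom (algebraMap Γ(X, ⊤) Γ(X₁ f y, ⊤)))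
      (CommRingCat.ofHom (algebraMap ((Spec (CommRingCat.of A)).presheaf.stalk y)
        Γ(X₁ f y, ⊤))) := by
  haveI := Groth.Agent.Lib.H9ZarLocal.flat_fromSpecStalk (Spec (CommRingCat.of A)) y
  haveI : CompactSpace X := (quasiCompact_iff_compactSpace f).mp inferInstance
  haveI : QuasiSeparatedSpace X := (quasiSeparated_iff_quasiSeparatedSpace f).mp inferInstance
  have hpo := Groth.Agent.Lib.Helper12.isPushout_appTop (isPullback₁ f y)
  refine IsPushout.of_iso hpo (Scheme.ΓSpecIso (CommRingCat.of A)) (Iso.refl _)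
    (Scheme.ΓSpecIso ((Spec (CommRingCat.of A)).presheaf.stalk y)) (Iso.refl _) ?_ ?_ ?_ ?_
  · ext a
    change f.appTop.hom a = f.appTop.hom ((Scheme.ΓSpecIso (CommRingCat.of A)).inv.hom
      ((Scheme.ΓSpecIso (CommRingCat.of A)).hom.hom a))
    congr 1
    exact (congrArg (fun φ => φ.hom a) (Scheme.ΓSpecIso (CommRingCat.of A)).hom_inv_id).symm
  · rw [Scheme.fromSpecStalk_appTop]
    have hm : ∀ (U : (Spec ((Spec (CommRingCat.of A)).presheaf.stalk y)).Opens) (hU : U = ⊤)
        (e : U ≤ ⊤),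
        (Spec ((Spec (CommRingCat.of A)).presheaf.stalk y)).presheaf.map (homOfLE e).op =
          eqToHom (by rw [hU]) := by
      intro U hU e
      subst hU
      have : (homOfLE e).op = 𝟙 _ := Subsingleton.elim _ _
      rw [this, CategoryTheory.Functor.map_id]
      rfl
    rw [hm _ rfl]
    ext a
    change (Scheme.ΓSpecIso ((Spec (CommRingCat.of A)).presheaf.stalk y)).hom.hom
      ((Scheme.ΓSpecIso ((Spec (CommRingCat.of A)).presheaf.stalk y)).inv.hom
        (((Spec (CommRingCat.of A)).presheaf.germ ⊤ y trivial).hom a)) =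
      ((Spec (CommRingCat.of A)).presheaf.germ ⊤ y trivial).hom
        ((Scheme.ΓSpecIso (CommRingCat.of A)).inv.hom
          ((Scheme.ΓSpecIso (CommRingCat.of A)).hom.hom a))
    rw [show (Scheme.ΓSpecIso (CommRingCat.of A)).inv.hom
        ((Scheme.ΓSpecIso (CommRingCat.of A)).hom.hom a) = a from
      congrArg (fun φ => φ.hom a) (Scheme.ΓSpecIso (CommRingCat.of A)).hom_inv_id]
    exact congrArg (fun φ => φ.hom (((Spec (CommRingCat.of A)).presheaf.germ ⊤ y trivial).hom a))
      (Scheme.ΓSpecIso ((Spec (CommRingCat.of A)).presheaf.stalk y)).inv_hom_id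
  · simp
    rfl
  · ext a
    change (f₁ f y).appTop.hom a = (f₁ f y).appTop.hom
      ((Scheme.ΓSpecIso ((Spec (CommRingCat.of A)).presheaf.stalk y)).inv.hom
        ((Scheme.ΓSpecIso ((Spec (CommRingCat.of A)).presheaf.stalk y)).hom.hom a))
    congr 1
    exact (congrArg (fun φ => φ.hom a)
      (Scheme.ΓSpecIso ((Spec (CommRingCat.of A)).presheaf.stalk y)).hom_inv_id).symm


/-- **(GLOB)**: `Γ(X, O)` is a finite étale `A`-algebra. -/
theorem etale_global
    (het : ∀ y : ↥(Spec (CommRingCat.of A)),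
      Algebra.Etale ((Spec (CommRingCat.of A)).residueField y) Γ(f.fiber y, ⊤)) :
    letI := algΓ A f
    Module.Finite A Γ(X, ⊤) ∧ Algebra.Etale A Γ(X, ⊤) := by
  letI := algΓ A f
  haveI hfin : Module.Finite A Γ(X, ⊤) := Groth.Agent.Lib.H9NormFin.finite_toGlobal A f
  refine ⟨hfin, ?_⟩
  haveI : Algebra.FinitePresentation A Γ(X, ⊤) :=
    Algebra.FinitePresentation.of_finiteType.mp inferInstance
  rw [← Algebra.etaleLocus_eq_univ_iff_etale, Set.eq_univ_iff_forall]
  intro q
  let y : ↥(Spec (CommRingCat.of A)) := (PrimeSpectrum.comap (algebraMap A Γ(X, ⊤))) q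
  letI := algStalk A y
  letI := algΓ ((Spec (CommRingCat.of A)).presheaf.stalk y) (f₁ f y)
  letI : Algebra Γ(X, ⊤) Γ(X₁ f y, ⊤) := (g₁ f y).appTop.hom.toAlgebra
  letI : Algebra A Γ(X₁ f y, ⊤) :=
    ((algebraMap Γ(X, ⊤) Γ(X₁ f y, ⊤)).comp (algebraMap A Γ(X, ⊤))).toAlgebra
  haveI : IsScalarTower A Γ(X, ⊤) Γ(X₁ f y, ⊤) := IsScalarTower.of_algebraMap_eq' rfl
  have hpo := isPushout_stalk A f y
  haveI : IsScalarTower A ((Spec (CommRingCat.of A)).presheaf.stalk y) Γ(X₁ f y, ⊤) := by
    refine IsScalarTower.of_algebraMap_eq' ?_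
    have := congrArg CommRingCat.Hom.hom hpo.w
    exact this
  haveI := isLocalization_stalk A y
  haveI : Algebra.Etale ((Spec (CommRingCat.of A)).presheaf.stalk y) Γ(X₁ f y, ⊤) :=
    Groth.Agent.Lib.H9EsB3.etale_local f y (het y)
  have hpo' : Algebra.IsPushout A Γ(X, ⊤) ((Spec (CommRingCat.of A)).presheaf.stalk y)
      Γ(X₁ f y, ⊤) := CommRingCat.isPushout_iff_isPushout.mp hpo
  exact Groth.Agent.Lib.H9EsA.isEtaleAt_of_isPushout y.asIdeal hpo' q.asIdeal rfl

end Groth.Agent.Lib.H9EsD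


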