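import Mathlib
import Groth.Agent.Lib.H9EsD
import Groth.Agent.Lib.H9ZarGeomU
set_option backward.isDefEq.respectTransparency.types false

/-! helper9: étale Stein factorization over an affine Noetherian base. -/

set_option autoImplicit false
set_option linter.unusedSectionVars false
universe u

noncomputable section

namespace Groth.Agent.Lib.H9EsE

open CategoryTheory CategoryTheory.Limits AlgebraicGeometry TopologicalSpace Opposite
open Groth.Agent.Lib.H9EsC

section Post

variable {X T S : Scheme.{u}} (h : X ⟶ T) (π : T ⟶ S)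

theorem flat_of_comp_etale [Etale π] [Flat (h ≫ π)] : Flat h := by
  haveI : MorphismProperty.HasOfPostcompProperty @Flat @Etale := by
    rw [MorphismProperty.hasOfPostcompProperty_iff_le_diagonal]
    intro X Y f hf
    haveI : Etale f := hf
    exact inferInstanceAs (Flat (pullback.diagonal f))
  exact MorphismProperty.of_postcomp (W := @Flat) (W' := @Etale) h π ‹_› ‹_›

theorem lfp_of_comp_etale [Etale π] [LocallyOfFinitePresentation (h ≫ π)] :
    LocallyOfFinitePresentation h := by
  haveI : MorphismProperty.IsMultiplicative @LocallyOfFinitePresentation :=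
    { id_mem := fun X => inferInstanceAs (LocallyOfFinitePresentation (𝟙 X)) }
  haveI : MorphismProperty.HasOfPostcompProperty @LocallyOfFinitePresentation @Etale := by
    rw [MorphismProperty.hasOfPostcompProperty_iff_le_diagonal]
    intro X Y f hf
    haveI : Etale f := hf
    exact inferInstanceAs (LocallyOfFinitePresentation (pullback.diagonal f))
  exact MorphismProperty.of_postcomp (W := @LocallyOfFinitePresentation) (W' := @Etale) h π ‹_› ‹_›

theorem hR_of_comp_etale [Etale π] (hf : HR (h ≫ π)) : HR h := by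
  intro Ω _ _ σ
  have hpb := pullback_map_diagonal_isPullback h σ π
  haveI : IsOpenImmersion (pullback.map h σ (h ≫ π) (σ ≫ π) (𝟙 _) (𝟙 _) π
      (Category.id_comp _).symm (Category.id_comp _).symm) :=
    MorphismProperty.of_isPullback (P := @IsOpenImmersion) hpb inferInstance
  haveI := hf Ω (σ ≫ π)
  exact isReduced_of_isOpenImmersion (pullback.map h σ (h ≫ π) (σ ≫ π) (𝟙 _) (𝟙 _) π
      (Category.id_comp _).symm (Category.id_comp _).symm)

end Post


section Factor

open Groth.Agent.Lib.H9CbF

variable (A : Type u) [CommRing A] [IsNoetherianRing A] {X : Scheme.{u}}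
  (f : X ⟶ Spec (CommRingCat.of A)) [IsProper f] [Flat f] [LocallyOfFinitePresentation f]

/-- **étale Stein factorization over an affine Noetherian base** -/
theorem exists_factorization (hred : HR f) :
    ∃ (T : Scheme.{u}) (h : X ⟶ T) (π : T ⟶ Spec (CommRingCat.of A)), h ≫ π = f ∧
      IsFinite π ∧ Etale π ∧ IsProper h ∧ Flat h ∧ LocallyOfFinitePresentation h ∧ HR h ∧
      GeometricallyConnected h := by
  letI := algΓ A f
  obtain ⟨hfin, het⟩ := Groth.Agent.Lib.H9EsD.etale_global A f
    (fun y => etale_fiber f hred y)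
  let φ : CommRingCat.of A ⟶ Γ(X, ⊤) := (Scheme.ΓSpecIso (CommRingCat.of A)).inv ≫ f.appTop
  let π : Spec Γ(X, ⊤) ⟶ Spec (CommRingCat.of A) := Spec.map φ
  have hfac : X.toSpecΓ ≫ π = f := by
    change X.toSpecΓ ≫ Spec.map ((Scheme.ΓSpecIso (CommRingCat.of A)).inv ≫ f.appTop) = f
    rw [Spec.map_comp, ← Scheme.toSpecΓ_naturality_assoc, toSpecΓ_SpecMap_ΓSpecIso_inv,
      Category.comp_id]
  haveI hπfin : IsFinite π := by
    rw [IsFinite.SpecMap_iff]
    exact hfin
  haveI hπet : Etale π := by
    rw [HasRingHomProperty.Spec_iff (P := @Etale)]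
    exact RingHom.etale_algebraMap.mpr het
  haveI : IsProper (X.toSpecΓ ≫ π) := hfac ▸ inferInstance
  haveI : Flat (X.toSpecΓ ≫ π) := hfac ▸ inferInstance
  haveI : LocallyOfFinitePresentation (X.toSpecΓ ≫ π) := hfac ▸ inferInstance
  haveI hprop : IsProper X.toSpecΓ := IsProper.of_comp X.toSpecΓ π
  haveI : IsNoetherianRing Γ(X, ⊤) := IsNoetherianRing.of_finite A Γ(X, ⊤)
  haveI : IsLocallyNoetherian (Spec Γ(X, ⊤)) := inferInstance
  refine ⟨Spec Γ(X, ⊤), X.toSpecΓ, π, hfac, hπfin, hπet, hprop, flat_of_comp_etale X.toSpecΓ π,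
    lfp_of_comp_etale X.toSpecΓ π, hR_of_comp_etale X.toSpecΓ π (hfac ▸ hred), ?_⟩
  rw [GeometricallyConnected.iff_geometricallyConnected_fiber]
  intro t
  refine Groth.Agent.Lib.H9ZarGeomU.geometricallyConnected_fiber X.toSpecΓ t ⊤
    (isAffineOpen_top _) trivial ?_
  change IsIso X.toSpecΓ.appTop
  rw [Scheme.toSpecΓ_appTop]
  infer_instance

end Factor

end Groth.Agent.Lib.H9EsE
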