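import Mathlib
import Groth.Agent.S1340
set_option backward.isDefEq.respectTransparency.types false

/-! helper9: (A1) recognising the relative normalization. -/

set_option autoImplicit false
set_option linter.unusedSectionVars false
universe u

noncomputable section

namespace Groth.Agent.Lib.H9EsF

open CategoryTheory CategoryTheory.Limits AlgebraicGeometry TopologicalSpace Opposite

/-- an affine morphism inducing isomorphisms on sections over all opens is an isomorphism -/
theorem isIso_of_isAffineHom_of_isIso_app {X Y : Scheme.{u}} (d : X ⟶ Y) [IsAffineHom d]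
    (h : ∀ V : Y.Opens, IsIso (d.app V)) : IsIso d := by
  change MorphismProperty.isomorphisms Scheme.{u} d
  rw [IsZariskiLocalAtTarget.iff_of_iSup_eq_top (P := MorphismProperty.isomorphisms Scheme.{u}) _
    (iSup_affineOpens_eq_top Y)]
  intro U
  exact (isIso_morphismRestrict_iff_isIso_app d U.2).mpr (h U.1)

/-- **(A1)**: if `f = f₁ ≫ f₂` with `f₂` integral and `f₁_* O_X = O_T` on all opens, then `T`
is the relative normalization of `f`. -/
theorem isIso_normalizationDesc {X S T : Scheme.{u}} (f : X ⟶ S) [UniversallyClosed f]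
    [QuasiSeparated f] (f₁ : X ⟶ T) (f₂ : T ⟶ S) [IsIntegralHom f₂] (H : f = f₁ ≫ f₂)
    (h : ∀ V : T.Opens, IsIso (f₁.app V)) : IsIso (f.normalizationDesc f₁ f₂ H) := by
  apply isIso_of_isAffineHom_of_isIso_app
  intro V
  have e : f₁ = f.toNormalization ≫ f.normalizationDesc f₁ f₂ H :=
    (f.toNormalization_normalizationDesc f₁ f₂ H).symm
  have h1 := Scheme.Hom.congr_app e V
  rw [Scheme.Hom.comp_app] at h1
  haveI := Groth.Agent.S1340.result f (f.normalizationDesc f₁ f₂ H ⁻¹ᵁ V)
  haveI := h V
  haveI : IsIso ((f.normalizationDesc f₁ f₂ H).app V ≫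
      f.toNormalization.app (f.normalizationDesc f₁ f₂ H ⁻¹ᵁ V)) := by
    have key : ∀ (W W' : X.Opens) (hW : W' = W) (a : Γ(T, V) ⟶ Γ(X, W)),
        IsIso (a ≫ X.presheaf.map (eqToHom hW).op) → IsIso a := by
      intro W W' hW a ha
      subst hW
      simpa using ha
    exact key _ _ _ _ (h1 ▸ h V)
  exact IsIso.of_isIso_comp_right _ (f.toNormalization.app (f.normalizationDesc f₁ f₂ H ⁻¹ᵁ V))

end Groth.Agent.Lib.H9EsF
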