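import Mathlib
import Groth.Agent.Lib.H9EsE
import Groth.Agent.Lib.H9EsF
import Groth.Agent.Lib.H9CbI
set_option backward.isDefEq.respectTransparency.types false

/-! helper9: étale Stein factorizations: the predicate `P`, base change, comparison with the
relative normalization. -/

set_option autoImplicit false
set_option linter.unusedSectionVars false
universe u

noncomputable section

namespace Groth.Agent.Lib.H9EsG

open CategoryTheory CategoryTheory.Limits AlgebraicGeometry TopologicalSpace Opposite
open Groth.Agent.Lib.H9EsC Groth.Agent.Lib.H9EsE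

/-- all geometric fibres over algebraically closed fields are connected -/
def HC {X S : Scheme.{u}} (f : X ⟶ S) : Prop :=
  ∀ (Ω : Type u) [Field Ω] [IsAlgClosed Ω] (σ : Spec (CommRingCat.of Ω) ⟶ S),
    ConnectedSpace ↥(pullback f σ)

theorem hC_of_geometricallyConnected {X S : Scheme.{u}} (f : X ⟶ S) [GeometricallyConnected f] :
    HC f := fun Ω _ _ σ =>
  pullback_of_geometrically (GeometricallyConnected.geometrically_connectedSpace (f := f)) Ω σ

theorem HC.of_isPullback {X S X' S' : Scheme.{u}} {f : X ⟶ S} {f' : X' ⟶ S'} {g' : X' ⟶ X}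
    {g : S' ⟶ S} (h : IsPullback g' f' f g) (hf : HC f) : HC f' := by
  intro Ω _ _ σ
  have h1 : IsPullback (pullback.fst f' σ ≫ g') (pullback.snd f' σ) f (σ ≫ g) :=
    (IsPullback.of_hasPullback f' σ).paste_horiz h
  let e : pullback f' σ ≅ pullback f (σ ≫ g) := h1.isoPullback
  haveI := hf Ω (σ ≫ g)
  exact e.hom.homeomorph.symm.surjective.connectedSpace e.hom.homeomorph.symm.continuous

/-- `f` has an étale Stein factorization -/
def P {X S : Scheme.{u}} (f : X ⟶ S) : Prop :=
  ∃ (T : Scheme.{u}) (h : X ⟶ T) (p : T ⟶ S), h ≫ p = f ∧ IsFinite p ∧ Etale p ∧ IsProper h ∧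
    Flat h ∧ LocallyOfFinitePresentation h ∧ HR h ∧ HC h

/-- **Lemma BC**: `P` is stable under base change -/
theorem P.of_isPullback {X S X₀ S₀ : Scheme.{u}} {f : X ⟶ S} {f₀ : X₀ ⟶ S₀} {g' : X ⟶ X₀}
    {g : S ⟶ S₀} (hpb : IsPullback g' f f₀ g) (h₀ : P f₀) : P f := by
  obtain ⟨T₀, h₀, p₀, hfac, hfin, het, hprop, hflat, hlfp, hr, hc⟩ := h₀
  haveI := hfin
  haveI := het
  let h : X ⟶ pullback p₀ g := pullback.lift (g' ≫ h₀) f (by
    rw [Category.assoc, hfac]
    exact hpb.w)
  have hh1 : h ≫ pullback.fst p₀ g = g' ≫ h₀ := pullback.lift_fst _ _ _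
  have hh2 : h ≫ pullback.snd p₀ g = f := pullback.lift_snd _ _ _
  have htop : IsPullback g' h h₀ (pullback.fst p₀ g) := by
    refine IsPullback.of_bot ?_ hh1.symm (IsPullback.of_hasPullback p₀ g)
    rw [hh2, hfac]
    exact hpb
  exact ⟨pullback p₀ g, h, pullback.snd p₀ g, hh2, inferInstance, inferInstance,
    MorphismProperty.of_isPullback htop hprop, MorphismProperty.of_isPullback htop hflat,
    MorphismProperty.of_isPullback htop hlfp, hr.of_isPullback htop, hc.of_isPullback htop⟩

/-- **Part B'**: `P` holds over an affine Noetherian base -/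
theorem P.of_affine_noetherian {X Y : Scheme.{u}} [IsAffine Y] [IsLocallyNoetherian Y]
    (f : X ⟶ Y) [IsProper f] [Flat f] [LocallyOfFinitePresentation f] (hred : HR f) : P f := by
  haveI : IsNoetherianRing Γ(Y, ⊤) :=
    IsLocallyNoetherian.component_noetherian ⟨⊤, isAffineOpen_top Y⟩
  let f₁ : X ⟶ Spec (CommRingCat.of Γ(Y, ⊤)) := f ≫ Y.isoSpec.hom
  haveI : IsProper f₁ := inferInstanceAs (IsProper (f ≫ Y.isoSpec.hom))
  haveI : Flat f₁ := inferInstanceAs (Flat (f ≫ Y.isoSpec.hom))
  haveI : LocallyOfFinitePresentation f₁ :=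
    inferInstanceAs (LocallyOfFinitePresentation (f ≫ Y.isoSpec.hom))
  have hsq : IsPullback (𝟙 X) f₁ f Y.isoSpec.inv :=
    IsPullback.of_horiz_isIso ⟨by simp [f₁]⟩
  obtain ⟨T, h, π, hfac, hfin, het, hprop, hflat, hlfp, hr, hc⟩ :=
    exists_factorization Γ(Y, ⊤) f₁ (hred.of_isPullback hsq)
  haveI := hfin
  haveI := het
  refine ⟨T, h, π ≫ Y.isoSpec.inv, ?_, inferInstance, inferInstance, hprop, hflat, hlfp, hr,
    hC_of_geometricallyConnected h⟩
  rw [← Category.assoc, hfac]
  simp [f₁]


/-- the conclusion about the canonical Stein factorization -/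
def Q {X S : Scheme.{u}} (f : X ⟶ S) [QuasiCompact f] [QuasiSeparated f] : Prop :=
  IsFinite f.fromNormalization ∧ Etale f.fromNormalization ∧ HC f.toNormalization

/-- **Lemma N**: an étale Stein factorization is the canonical one -/
theorem Q_of_P {X S : Scheme.{u}} (f : X ⟶ S) [IsProper f] (hP : P f) : Q f := by
  obtain ⟨T, h, p, hfac, hfin, het, hprop, hflat, hlfp, hr, hc⟩ := hP
  haveI := hfin
  haveI := het
  haveI := hprop
  haveI := hflat
  haveI := hlfp
  have hiso : ∀ V : T.Opens, IsIso (h.app V) :=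
    Groth.Agent.Lib.H9CbI.main h (fun K _ _ g => ⟨hr K g, hc K g⟩)
  haveI hd := Groth.Agent.Lib.H9EsF.isIso_normalizationDesc f h p hfac.symm hiso
  have e1 : f.normalizationDesc h p hfac.symm ≫ p = f.fromNormalization :=
    f.normalizationDesc_comp h p hfac.symm
  have e2 : f.toNormalization ≫ f.normalizationDesc h p hfac.symm = h :=
    f.toNormalization_normalizationDesc h p hfac.symm
  refine ⟨e1 ▸ inferInstance, e1 ▸ inferInstance, ?_⟩
  have hsq : IsPullback (𝟙 X) f.toNormalization h (f.normalizationDesc h p hfac.symm) :=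
    IsPullback.of_horiz_isIso ⟨by rw [Category.id_comp, e2]⟩
  exact hc.of_isPullback hsq


theorem connectedSpace_of_isPullback {X S X' S' : Scheme.{u}} {f : X ⟶ S} {f' : X' ⟶ S'}
    {g' : X' ⟶ X} {g : S' ⟶ S} (h : IsPullback g' f' f g) {Z : Scheme.{u}} (σ : Z ⟶ S')
    [ConnectedSpace ↥(pullback f' σ)] : ConnectedSpace ↥(pullback f (σ ≫ g)) := by
  have h1 : IsPullback (pullback.fst f' σ ≫ g') (pullback.snd f' σ) f (σ ≫ g) :=
    (IsPullback.of_hasPullback f' σ).paste_horiz h
  let e : pullback f' σ ≅ pullback f (σ ≫ g) := h1.isoPullback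
  exact e.hom.homeomorph.surjective.connectedSpace e.hom.homeomorph.continuous

/-- the restriction of the Stein factor map over an open of the base -/
theorem isPullback_toNormalization_restrict {X S : Scheme.{u}} (f : X ⟶ S) [QuasiCompact f]
    [QuasiSeparated f] (U : S.Opens) :
    IsPullback (pullback.fst f U.ι) (pullback.snd f U.ι).toNormalization f.toNormalization
      (f.normalizationPullback U.ι ≫ pullback.fst f.fromNormalization U.ι) := by
  have t : IsPullback (pullback.snd f U.ι).fromNormalization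
      (f.normalizationPullback U.ι ≫ pullback.fst f.fromNormalization U.ι) U.ι
      f.fromNormalization := by
    have h0 := (IsPullback.of_hasPullback f.fromNormalization U.ι).flip
    rw [← f.normalizationPullback_snd U.ι]
    exact IsPullback.of_iso h0 (asIso (f.normalizationPullback U.ι)).symm (Iso.refl _)
      (Iso.refl _) (Iso.refl _) (by simp) (by simp) (by simp) (by simp)
  have s : IsPullback ((pullback.snd f U.ι).toNormalization ≫
      (pullback.snd f U.ι).fromNormalization) (pullback.fst f U.ι) U.ι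
      (f.toNormalization ≫ f.fromNormalization) := by
    rw [Scheme.Hom.toNormalization_fromNormalization, Scheme.Hom.toNormalization_fromNormalization]
    exact (IsPullback.of_hasPullback f U.ι).flip
  exact (IsPullback.of_right s (f.toNormalization_normalizationPullback_fst U.ι) t).flip

/-- **locality of `Q`** on the base -/
theorem Q_of_local {X S : Scheme.{u}} (f : X ⟶ S) [IsProper f]
    (hloc : ∀ s : S, ∃ U : S.Opens, s ∈ U ∧ Q (pullback.snd f U.ι)) : Q f := by
  choose U hsU hQ using hloc
  have hU : IsOpenCover U := by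
    refine top_le_iff.mp fun x _ => ?_
    exact Opens.mem_iSup.mpr ⟨x, hsU x⟩
  let 𝒰 := S.openCoverOfIsOpenCover U hU
  have hsnd : ∀ s, pullback.snd f.fromNormalization (U s).ι =
      inv (f.normalizationPullback (U s).ι) ≫ (pullback.snd f (U s).ι).fromNormalization := by
    intro s
    rw [IsIso.eq_inv_comp, f.normalizationPullback_snd]
  refine ⟨?_, ?_, ?_⟩
  · rw [IsZariskiLocalAtTarget.iff_of_openCover (P := @IsFinite) 𝒰]
    intro s
    change IsFinite (pullback.snd f.fromNormalization (U s).ι)
    rw [hsnd]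
    haveI := (hQ s).1
    infer_instance
  · rw [IsZariskiLocalAtTarget.iff_of_openCover (P := @Etale) 𝒰]
    intro s
    change Etale (pullback.snd f.fromNormalization (U s).ι)
    rw [hsnd]
    haveI := (hQ s).2.1
    infer_instance
  · intro Ω _ _ σ
    let x₀ : ↥(Spec (CommRingCat.of Ω)) := IsLocalRing.closedPoint Ω
    let s : S := (σ ≫ f.fromNormalization) x₀
    have hrange : Set.range (σ ≫ f.fromNormalization) ⊆ Set.range (U s).ι := by
      rintro _ ⟨x, rfl⟩
      have hx : x = x₀ := Subsingleton.elim _ _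
      rw [hx, Scheme.Opens.range_ι]
      exact hsU s
    let τ : Spec (CommRingCat.of Ω) ⟶ (U s : Scheme.{u}) :=
      IsOpenImmersion.lift (U s).ι (σ ≫ f.fromNormalization) hrange
    have hτ : τ ≫ (U s).ι = σ ≫ f.fromNormalization := IsOpenImmersion.lift_fac _ _ _
    let σ' : Spec (CommRingCat.of Ω) ⟶ pullback f.fromNormalization (U s).ι :=
      pullback.lift σ τ hτ.symm
    let σ'' := σ' ≫ inv (f.normalizationPullback (U s).ι)
    have hσ : σ'' ≫ (f.normalizationPullback (U s).ι ≫
        pullback.fst f.fromNormalization (U s).ι) = σ := by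
      simp only [σ'', σ', Category.assoc, IsIso.inv_hom_id_assoc]
      exact pullback.lift_fst _ _ _
    haveI := (hQ s).2.2 Ω σ''
    have := connectedSpace_of_isPullback (isPullback_toNormalization_restrict f (U s)) σ''
    rw [hσ] at this
    exact this

end Groth.Agent.Lib.H9EsG
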