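import Groth.Agent.Lib.R2H2DevL
import Groth.Agent.Lib.Helper13ModAffine
import Groth.Agent.Lib.Helper13ModBasis
import Groth.Prelude.Def_Formal
set_option backward.isDefEq.respectTransparency.types false

/-!
# Direct images of the structure sheaf along finite morphisms from integral schemes
(helper2, round 2)

For `g : W ⟶ X` we study `G = g_* O_W`:
* `nontrivial_stalk_pushO` : the stalk at `g z` is nonzero;
* `stalk_pushO_smul_eq_zero` : for `W` integral and `g` finite the stalk at the image of the generic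
  point is killed by the maximal ideal;
* `mulO g b : G ⟶ G`, multiplication by a global function `b` of `W`; `mono_mulO`,
  `bijective_stalkLin_mulO`;
* `exists_pow_mulO_comp_un_eq_zero` : if `b` vanishes on `g⁻¹ V(J)` then some power of `b` maps
  `G` into `J G`.
-/

set_option autoImplicit false
set_option linter.style.haveILetI false
universe u

open CategoryTheory CategoryTheory.Limits AlgebraicGeometry TopologicalSpace

namespace Groth.Agent.Lib.R2H2.FinPush

open Groth.Agent.Lib.R2H2.StalkPow Groth.Agent.Lib.R2H2.DevA Groth.Agent.Lib.R2H2.IdealMulSec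

variable {W X : Scheme.{u}} (g : W ⟶ X)

/-- `g_* O_W` -/
noncomputable abbrev pushO : X.Modules :=
  (Scheme.Modules.pushforward g).obj (Coh.structureModule W)

/-- the section `1` of `g_* O_W` -/
noncomputable def one (U : X.Opens) : Γ(pushO g, U) := (show Γ(W, g ⁻¹ᵁ U) from 1)

theorem one_res {U V : X.Opens} (h : V ≤ U) :
    (pushO g).presheaf.map (homOfLE h).op (one g U) = one g V :=
  map_one (W.presheaf.map (homOfLE (show g ⁻¹ᵁ V ≤ g ⁻¹ᵁ U from fun w hw => h hw)).op).hom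

theorem nontrivial_stalk_pushO (z : W) : Nontrivial ((pushO g).presheaf.stalk (g z)) := by
  set G := pushO g with hG
  set y := g z with hy
  let g₁ := G.presheaf.germ ⊤ y (Opens.mem_top y) (one g ⊤)
  have hne : g₁ ≠ 0 := by
    intro h0
    have h0' : G.presheaf.germ ⊤ y (Opens.mem_top y) (one g ⊤) =
        G.presheaf.germ ⊤ y (Opens.mem_top y) 0 := by
      rw [map_zero]; exact h0
    obtain ⟨W', hW', iU, iV, hres⟩ := G.presheaf.germ_eq y (Opens.mem_top y) (Opens.mem_top y)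
      (one g ⊤) 0 h0'
    rw [map_zero] at hres
    have h1 : one g W' = 0 := by rw [← one_res g (iU.le)]; exact hres
    haveI : Nonempty (g ⁻¹ᵁ W') := ⟨⟨z, hW'⟩⟩
    exact one_ne_zero (α := Γ(W, g ⁻¹ᵁ W')) h1
  exact ⟨⟨g₁, 0, hne⟩⟩

theorem stalk_pushO_smul_eq_zero [IsIntegral W] [IsFinite g] (M : W.Modules)
    (a : X.presheaf.stalk (g (genericPoint W)))
    (ha : a ∈ IsLocalRing.maximalIdeal (X.presheaf.stalk (g (genericPoint W))))
    (s : ((Scheme.Modules.pushforward g).obj M).presheaf.stalk (g (genericPoint W))) :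
    a • s = 0 := by
  have hcm : IsClosedMap g := g.isClosedMap
  have hZ : IsClosed (Set.range ⇑g) := hcm.isClosed_range
  have hcl : closure {g (genericPoint W)} = Set.range ⇑g := by
    rw [← Set.image_singleton, hcm.closure_image_eq_of_continuous g.continuous,
      (genericPoint_spec W).def, Set.image_univ]
  exact stalk_smul_eq_zero ⟨Set.range ⇑g, hZ⟩ _
    (Groth.Agent.Lib.R2H2.DevI.ker_eq_vanishingIdeal g _ hZ rfl ▸
      Groth.Agent.Lib.R2H2.DevE.killed_push g M)
    (g (genericPoint W)) Set.univ isOpen_univ trivial (fun x hx => by rw [hcl]; exact hx.1) a ha s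

/-! ### multiplication by a global function -/

/-- multiplication by a global function of `W` on `g_* O_W` -/
noncomputable def mulO (b : Coh.Γtop W) : pushO g ⟶ pushO g :=
  (Scheme.Modules.pushforward g).map (Formal.smulModΓ (Coh.structureModule W) b)

/-- the restriction of a global function -/
noncomputable abbrev resG (b : Coh.Γtop W) (U : X.Opens) : Γ(W, g ⁻¹ᵁ U) :=
  Coh.resTop W (Opposite.op (g ⁻¹ᵁ U)) b

theorem mulO_app (b : Coh.Γtop W) (U : X.Opens) (s : Γ(pushO g, U)) :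
    (mulO g b).app U s = (resG g b U * (show Γ(W, g ⁻¹ᵁ U) from s) : Γ(W, g ⁻¹ᵁ U)) := rfl


theorem mono_of_app_injective {Y : Scheme.{u}} {M N : Y.Modules} (φ : M ⟶ N)
    (h : ∀ U : Y.Opens, Function.Injective (φ.app U)) : Mono φ := by
  apply Functor.mono_of_mono_map (Scheme.Modules.toPresheaf Y)
  apply (config := { allowSynthFailures := true }) NatTrans.mono_of_mono_app
  intro U
  rw [AddCommGrpCat.mono_iff_injective]
  exact h U.unop

theorem mono_mulO [IsIntegral W] (b : Coh.Γtop W) (hb : b ≠ 0) : Mono (mulO g b) := by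
  refine mono_of_app_injective _ (fun U => ?_)
  intro s t hst
  rw [mulO_app, mulO_app] at hst
  by_cases hne : Nonempty (g ⁻¹ᵁ U)
  · haveI := hne
    haveI : IsDomain Γ(W, g ⁻¹ᵁ U) := inferInstance
    have hb' : resG g b U ≠ 0 := by
      intro h0
      apply hb
      have hinj := AlgebraicGeometry.map_injective_of_isIntegral W
        (homOfLE (le_top : g ⁻¹ᵁ U ≤ ⊤))
      have h1 : (W.presheaf.map (homOfLE (le_top : g ⁻¹ᵁ U ≤ ⊤)).op).hom (show Γ(W, ⊤) from b) =
          (W.presheaf.map (homOfLE (le_top : g ⁻¹ᵁ U ≤ ⊤)).op).hom 0 := by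
        rw [map_zero]; exact h0
      exact hinj h1
    have h2 : (show Γ(W, g ⁻¹ᵁ U) from s) = (show Γ(W, g ⁻¹ᵁ U) from t) :=
      mul_left_cancel₀ hb' hst
    exact h2
  · have hbot : g ⁻¹ᵁ U = ⊥ := by
      ext x
      simp only [Opens.coe_bot, Set.mem_empty_iff_false, iff_false]
      exact fun hx => hne ⟨⟨x, hx⟩⟩
    haveI : Subsingleton Γ(W, g ⁻¹ᵁ U) := by rw [hbot]; infer_instance
    exact Subsingleton.elim (α := Γ(W, g ⁻¹ᵁ U)) s t

theorem isArtinian_of_killed {R : Type u} [CommRing R] [IsLocalRing R] (M : Type u)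
    [AddCommGroup M] [Module R M] [Module.Finite R M]
    (hk : ∀ a ∈ IsLocalRing.maximalIdeal R, ∀ m : M, a • m = 0) : IsArtinian R M := by
  obtain ⟨r, ⟨e⟩⟩ := Groth.Agent.Lib.R2H2.ResField.exists_equiv_pi_residueField M hk
  have h1 : IsSimpleModule R (R ⧸ IsLocalRing.maximalIdeal R) :=
    isSimpleModule_iff_isCoatom.2 (Ideal.isMaximal_def.1 inferInstance)
  haveI h2 : IsArtinian R (IsLocalRing.ResidueField R) := by
    change IsArtinian R (R ⧸ IsLocalRing.maximalIdeal R)
    infer_instance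
  haveI : IsArtinian R (Fin r → IsLocalRing.ResidueField R) := inferInstance
  exact isArtinian_of_linearEquiv e.symm

theorem bijective_stalkLin_mulO [IsIntegral W] [IsFinite g] [IsNoetherian X]
    (hO : Coh.IsCoh (Coh.structureModule W)) (b : Coh.Γtop W) (hb : b ≠ 0) :
    Function.Bijective (stalkLin (mulO g b) (g (genericPoint W))) := by
  haveI := mono_mulO g b hb
  have cG : Coh.IsCoh (pushO g) := Groth.Agent.Lib.R2H2.ClosedPn.isCoh_push g _ hO
  haveI := finite_stalk (pushO g) cG (g (genericPoint W))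
  haveI := isArtinian_of_killed ((pushO g).presheaf.stalk (g (genericPoint W)))
    (stalk_pushO_smul_eq_zero g (Coh.structureModule W))
  have hinj : Function.Injective (stalkLin (mulO g b) (g (genericPoint W))) :=
    TopCat.Presheaf.stalkFunctor_map_injective_of_app_injective
      (f := Scheme.Modules.Hom.mapPresheaf (mulO g b))
      (fun U => Groth.Agent.Lib.Helper20.StalkExact.injective_app_of_mono (mulO g b) U) _
  exact IsArtinian.bijective_of_injective_endomorphism _ hinj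


/-! ### powers of functions vanishing on `g⁻¹ V(J)` land in `J G` -/

section Factor

variable (J : X.IdealSheafData)

/-- `J(U) G(U)` is stable under multiplication by functions on `g⁻¹ U` -/
theorem mul_mem_smul_top {U : X.Opens} (hU : IsAffineOpen U) (c : Γ(W, g ⁻¹ᵁ U))
    (x : Γ(pushO g, U))
    (hx : x ∈ J.ideal ⟨U, hU⟩ • (⊤ : Submodule Γ(X, U) Γ(pushO g, U))) :
    (show Γ(pushO g, U) from (c * (show Γ(W, g ⁻¹ᵁ U) from x) : Γ(W, g ⁻¹ᵁ U))) ∈
      J.ideal ⟨U, hU⟩ • (⊤ : Submodule Γ(X, U) Γ(pushO g, U)) := by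
  refine Submodule.smul_induction_on (p := fun x : Γ(pushO g, U) => (show Γ(pushO g, U) from
      (c * (show Γ(W, g ⁻¹ᵁ U) from x) : Γ(W, g ⁻¹ᵁ U))) ∈
      J.ideal ⟨U, hU⟩ • (⊤ : Submodule Γ(X, U) Γ(pushO g, U))) hx ?_ ?_
  · intro a ha m _
    have h1 : (show Γ(pushO g, U) from
        (c * (show Γ(W, g ⁻¹ᵁ U) from (a • m : Γ(pushO g, U))) : Γ(W, g ⁻¹ᵁ U))) =
        a • (show Γ(pushO g, U) from (c * (show Γ(W, g ⁻¹ᵁ U) from m) : Γ(W, g ⁻¹ᵁ U))) := by
      change (c * ((g.app U).hom a * (show Γ(W, g ⁻¹ᵁ U) from m)) : Γ(W, g ⁻¹ᵁ U)) =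
        ((g.app U).hom a * (c * (show Γ(W, g ⁻¹ᵁ U) from m)) : Γ(W, g ⁻¹ᵁ U))
      ring
    rw [h1]
    exact Submodule.smul_mem_smul ha trivial
  · intro x y hx hy
    have h1 : (show Γ(pushO g, U) from
        (c * (show Γ(W, g ⁻¹ᵁ U) from (x + y : Γ(pushO g, U))) : Γ(W, g ⁻¹ᵁ U))) =
        (show Γ(pushO g, U) from (c * (show Γ(W, g ⁻¹ᵁ U) from x) : Γ(W, g ⁻¹ᵁ U))) +
        (show Γ(pushO g, U) from (c * (show Γ(W, g ⁻¹ᵁ U) from y) : Γ(W, g ⁻¹ᵁ U))) := by
      change (c * ((show Γ(W, g ⁻¹ᵁ U) from x) + (show Γ(W, g ⁻¹ᵁ U) from y)) :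
        Γ(W, g ⁻¹ᵁ U)) = _
      exact mul_add _ _ _
    rw [h1]
    exact Submodule.add_mem _ hx hy

/-- the ideal generated by the image of `J(U)` lies in `J(U) G(U)` -/
theorem map_ideal_le_smul_top {U : X.Opens} (hU : IsAffineOpen U) (x : Γ(W, g ⁻¹ᵁ U))
    (hx : x ∈ Ideal.map (g.app U).hom (J.ideal ⟨U, hU⟩)) :
    (show Γ(pushO g, U) from x) ∈
      J.ideal ⟨U, hU⟩ • (⊤ : Submodule Γ(X, U) Γ(pushO g, U)) := by
  induction hx using Submodule.span_induction with
  | mem x hx =>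
    obtain ⟨a, ha, rfl⟩ := hx
    have h1 : (show Γ(pushO g, U) from (g.app U).hom a) = a • one g U := by
      change _ = ((g.app U).hom a * (1 : Γ(W, g ⁻¹ᵁ U)) : Γ(W, g ⁻¹ᵁ U))
      rw [mul_one]
    rw [h1]
    exact Submodule.smul_mem_smul ha trivial
  | zero => exact Submodule.zero_mem _
  | add x y _ _ hx hy => exact Submodule.add_mem _ hx hy
  | smul c x _ hx => exact mul_mem_smul_top g J hU c _ hx

theorem exists_pow_mem_smul_top [IsAffineHom g] {U : X.Opens} (hU : IsAffineOpen U)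
    (b : Coh.Γtop W)
    (hb : ∀ w : W, g w ∈ (J.support : Set X) → w ∉ W.basicOpen (show Γ(W, ⊤) from b)) :
    ∃ N : ℕ, (show Γ(pushO g, U) from (resG g b U) ^ N) ∈
      J.ideal ⟨U, hU⟩ • (⊤ : Submodule Γ(X, U) Γ(pushO g, U)) := by
  have hV : IsAffineOpen (g ⁻¹ᵁ U) := hU.preimage g
  set β : Γ(W, g ⁻¹ᵁ U) := resG g b U with hβ
  set 𝔞 : Ideal Γ(W, g ⁻¹ᵁ U) := Ideal.map (g.app U).hom (J.ideal ⟨U, hU⟩) with h𝔞
  have hrad : β ∈ 𝔞.radical := by
    rw [← PrimeSpectrum.vanishingIdeal_zeroLocus_eq_radical, PrimeSpectrum.mem_vanishingIdeal]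
    intro p hp
    by_contra hβp
    -- the point of `W`
    have hxV : hV.fromSpec p ∈ W.zeroLocus (U := g ⁻¹ᵁ U) (𝔞 : Set Γ(W, g ⁻¹ᵁ U)) ∩
        (g ⁻¹ᵁ U : Set W) := by
      rw [← hV.fromSpec_image_zeroLocus]
      exact ⟨p, hp, rfl⟩
    have hgx : g (hV.fromSpec p) ∈ (J.support : Set X) := by
      have hU' : g (hV.fromSpec p) ∈ (⟨U, hU⟩ : X.affineOpens).1 := hxV.2
      rw [SetLike.mem_coe, Scheme.IdealSheafData.mem_support_iff_of_mem hU',
        Scheme.mem_zeroLocus_iff]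
      intro a ha hmem
      have h1 : hV.fromSpec p ∈ W.basicOpen ((g.app U).hom a) := by
        rw [← Scheme.preimage_basicOpen]
        exact hmem
      exact (Scheme.mem_zeroLocus_iff _ _ _).1 hxV.1 _ (Ideal.mem_map_of_mem _ ha) h1
    apply hb _ hgx
    have h2 : p ∈ hV.fromSpec ⁻¹ᵁ W.basicOpen β := by
      rw [hV.fromSpec_preimage_basicOpen]
      exact hβp
    have h3 : W.basicOpen β ≤ W.basicOpen (show Γ(W, ⊤) from b) := by
      rw [hβ]
      exact (Scheme.basicOpen_res W _ _).le.trans inf_le_right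
    exact h3 h2
  obtain ⟨N, hN⟩ := hrad
  exact ⟨N, map_ideal_le_smul_top g J hU _ hN⟩

end Factor


section Global

variable (J : X.IdealSheafData)

theorem resG_pow (b : Coh.Γtop W) (N : ℕ) (U : X.Opens) :
    resG g (b ^ N) U = (resG g b U) ^ N := map_pow _ _ _

theorem resG_res (b : Coh.Γtop W) {U V : X.Opens} (h : V ≤ U) :
    (pushO g).presheaf.map (homOfLE h).op (show Γ(pushO g, U) from resG g b U) =
      (show Γ(pushO g, V) from resG g b V) := by
  change (W.presheaf.map (homOfLE (show g ⁻¹ᵁ V ≤ g ⁻¹ᵁ U from fun w hw => h hw)).op).hom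
    ((W.presheaf.map (homOfLE (le_top : g ⁻¹ᵁ U ≤ ⊤)).op).hom (show Γ(W, ⊤) from b)) = _
  rw [← CommRingCat.comp_apply, ← Functor.map_comp]
  rfl

/-- **a power of a function vanishing on `g⁻¹ V(J)` maps `g_* O_W` into `J · g_* O_W`** -/
theorem exists_pow_mulO_comp_un_eq_zero [IsAffineHom g] [CompactSpace X]
    [(pushO g).IsQuasicoherent] (b : Coh.Γtop W)
    (hb : ∀ w : W, g w ∈ (J.support : Set X) → w ∉ W.basicOpen (show Γ(W, ⊤) from b)) :
    ∃ N : ℕ, mulO g (b ^ N) ≫ un J (pushO g) = 0 := by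
  classical
  obtain ⟨s, hs⟩ : ∃ s : Finset X.affineOpens, (Set.univ : Set X) ⊆ ⋃ U ∈ s, (U.1 : Set X) :=
    isCompact_univ.elim_finite_subcover (fun U : X.affineOpens => (U.1 : Set X))
      (fun U => U.1.2) (fun x _ => by
        obtain ⟨V, hV, hxV, -⟩ := exists_isAffineOpen_mem_and_subset (x := x) (U := ⊤) trivial
        exact Set.mem_iUnion.2 ⟨⟨V, hV⟩, hxV⟩)
  choose NU hNU using fun U : X.affineOpens => exists_pow_mem_smul_top g J U.2 b hb
  refine ⟨s.sup NU, ?_⟩
  set N := s.sup NU with hN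
  -- on the members of the cover
  have hcov : ∀ U ∈ s, (show Γ(pushO g, U.1) from (resG g b U.1) ^ N) ∈
      J.ideal U • (⊤ : Submodule Γ(X, U.1) Γ(pushO g, U.1)) := by
    intro U hU
    have hle : NU U ≤ N := Finset.le_sup hU
    have h1 : (resG g b U.1) ^ N = (resG g b U.1) ^ (N - NU U) * (resG g b U.1) ^ (NU U) := by
      rw [← pow_add, Nat.sub_add_cancel hle]
    rw [h1]
    exact mul_mem_smul_top g J U.2 _ _ (hNU U)
  -- the basis of affine opens inside members of the cover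
  let ι := {V : X.Opens // IsAffineOpen V ∧ ∃ U ∈ s, V ≤ U.1}
  let B : ι → X.Opens := fun V => V.1
  have hB : Opens.IsBasis (Set.range B) := by
    rw [Opens.isBasis_iff_nbhd]
    intro O x hxO
    obtain ⟨U, hU, hxU⟩ : ∃ U ∈ s, x ∈ (U.1 : Set X) := by
      have := hs (Set.mem_univ x)
      simpa using this
    obtain ⟨V, hV, hxV, hVle⟩ := exists_isAffineOpen_mem_and_subset (x := x) (U := O ⊓ U.1)
      ⟨hxO, hxU⟩
    exact ⟨V, ⟨⟨V, hV, U, hU, fun z hz => (hVle hz).2⟩, rfl⟩, hxV, fun z hz => (hVle hz).1⟩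
  refine Groth.Agent.Helper13ModBasis.hom_ext_basis B hB _ _ (fun V => ?_)
  obtain ⟨V, hV, U, hU, hVU⟩ := V
  ext t
  change (un J (pushO g)).app V ((mulO g (b ^ N)).app V t) = 0
  rw [un_app_eq_zero_iff J (pushO g) hV, mulO_app, resG_pow]
  -- `β_V ^ N ∈ J(V) G(V)`
  have h2 : (un J (pushO g)).app V (show Γ(pushO g, V) from (resG g b V) ^ N) = 0 := by
    have h3 : (show Γ(pushO g, V) from (resG g b V) ^ N) =
        (pushO g).presheaf.map (homOfLE hVU).op
          (show Γ(pushO g, U.1) from (resG g b U.1) ^ N) := by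
      have := resG_res g (b ^ N) hVU
      rw [resG_pow, resG_pow] at this
      exact this.symm
    rw [h3, Groth.Agent.Lib.R2H3.PullUnit.app_res,
      (un_app_eq_zero_iff J (pushO g) U.2 _).2 (hcov U hU), map_zero]
  have h4 := (un_app_eq_zero_iff J (pushO g) hV _).1 h2
  have h5 := mul_mem_smul_top g J hV (show Γ(W, g ⁻¹ᵁ V) from t) _ h4
  have h6 : ((show Γ(W, g ⁻¹ᵁ V) from t) * (resG g b V) ^ N : Γ(W, g ⁻¹ᵁ V)) =
      (resG g b V) ^ N * (show Γ(W, g ⁻¹ᵁ V) from t) := mul_comm _ _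
  rw [← h6]
  exact h5

end Global


end Groth.Agent.Lib.R2H2.FinPush
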