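import Mathlib
import Groth.Prelude.Def_Coh
import Groth.Prelude.Def_ClSub2
import Groth.Agent.Lib.R2H2HHLin
import Groth.Agent.Lib.R2H2FinPush
import Groth.Agent.Lib.H9ZarLift
import Groth.Agent.Lib.H9Models
import Groth.Agent.Lib.H9SteinSm

/-! helper9: S18926. `app_injective_of_flat_surjective` (flat surjective ρ: O_Y(U) → O_X(ρ⁻¹U) injective for all opens U), `mono_unitToPush`, `ses`/`ses_shortExact` (0 → O_Y → ρ_*O_X → coker → 0), `appTop_surjective` (H⁰(coker)=0 ⇒ ρ.appTop surjective), `main`. -/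

set_option autoImplicit false
universe u

namespace Groth.Agent.Lib.H9FinCov

open CategoryTheory CategoryTheory.Limits AlgebraicGeometry TopologicalSpace Opposite
open Groth.Agent.Lib.R2H2.HHLin

variable {X Y : Scheme.{u}} (ρ : X ⟶ Y)

/-- for a flat surjective morphism, `O_Y(U) → O_X(ρ⁻¹U)` is injective for every open `U` -/
theorem app_injective_of_flat_surjective [Flat ρ] [Surjective ρ] (U : Y.Opens) :
    Function.Injective (ρ.app U).hom := by
  rw [injective_iff_map_eq_zero]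
  intro a ha
  have hstalk : ∀ x : X, Function.Injective (ρ.stalkMap x).hom := by
    intro x
    algebraize [(ρ.stalkMap x).hom]
    have : Module.FaithfullyFlat (Y.presheaf.stalk (ρ x)) (X.presheaf.stalk x) :=
      @Module.FaithfullyFlat.of_flat_of_isLocalHom _ _ _ _ _ _ _
        (Flat.stalkMap ρ x) (ρ.toLRSHom.prop x)
    exact ‹RingHom.FaithfullyFlat _›.injective
  have key : ∀ x : X, ∀ hx : ρ x ∈ U, (Y.presheaf.germ U (ρ x) hx).hom a = 0 := by
    intro x hx
    apply hstalk x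
    rw [map_zero]
    have := Scheme.Hom.germ_stalkMap_apply ρ U x hx a
    rw [this, ha, map_zero]
  apply TopCat.Presheaf.section_ext Y.sheaf U
  intro y hy
  obtain ⟨x, rfl⟩ := ‹Surjective ρ›.surj y
  exact (key x hy).trans (map_zero (Y.presheaf.germ U (ρ x) hy).hom).symm

end Groth.Agent.Lib.H9FinCov

namespace Groth.Agent.Lib.H9FinCov

open CategoryTheory CategoryTheory.Limits AlgebraicGeometry TopologicalSpace Opposite
open Groth.Agent.Lib.R2H2.HHLin

variable {X Y : Scheme.{u}} (ρ : X ⟶ Y)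

theorem mono_unitToPush [Flat ρ] [Surjective ρ] : Mono (ClSub.unitToPush ρ) := by
  apply Groth.Agent.Lib.R2H2.FinPush.mono_of_app_injective
  intro U
  exact app_injective_of_flat_surjective ρ U

/-- the short exact sequence `0 → O_Y → ρ_* O_X → coker → 0` -/
noncomputable def ses : ShortComplex Y.Modules :=
  ShortComplex.mk (ClSub.unitToPush ρ) (cokernel.π (ClSub.unitToPush ρ)) (cokernel.condition _)

theorem ses_shortExact [Flat ρ] [Surjective ρ] : (ses ρ).ShortExact := by
  haveI : Mono (ses ρ).f := mono_unitToPush ρ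
  haveI : Epi (ses ρ).g := inferInstanceAs (Epi (cokernel.π (ClSub.unitToPush ρ)))
  exact ShortComplex.ShortExact.mk (ShortComplex.exact_cokernel (ClSub.unitToPush ρ))

theorem appTop_surjective [Flat ρ] [Surjective ρ]
    (h0 : Subsingleton (Coh.HH Y (cokernel (ClSub.unitToPush ρ)) 0)) :
    Function.Surjective ρ.appTop.hom := by
  intro m
  let M := (Scheme.Modules.pushforward ρ).obj (Coh.structureModule X)
  let m' : Γ(M, ⊤) := m
  let x₂ : Coh.HH Y M 0 := (Groth.Agent.Lib.H9ZarLift.h0 M).symm m'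
  haveI : Subsingleton (Coh.HH Y (ses ρ).X₃ 0) := h0
  obtain ⟨x₁, hx₁⟩ := exact₂ (ses ρ) (ses_shortExact ρ) 0 x₂ (Subsingleton.elim _ _)
  refine ⟨Groth.Agent.Lib.H9ZarLift.h0 (Coh.structureModule Y) x₁, ?_⟩
  have h1 := Groth.Agent.Lib.H9ZarLift.h0_natural (ClSub.unitToPush ρ) x₁
  have h2 : Sheaf.H.map ((SheafOfModules.toSheaf _).map (ClSub.unitToPush ρ)) 0 x₁ = x₂ := hx₁
  rw [h2] at h1
  have h3 : Groth.Agent.Lib.H9ZarLift.h0 M x₂ = m' := AddEquiv.apply_symm_apply _ _
  rw [h3] at h1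
  exact h1.symm

end Groth.Agent.Lib.H9FinCov

namespace Groth.Agent.Lib.H9FinCov

open CategoryTheory CategoryTheory.Limits AlgebraicGeometry TopologicalSpace Opposite
open Groth.Agent.Lib.H9SteinConn

/-- **S18926** -/
theorem main (k : Type u) [Field k] (X Y : Scheme.{u}) (g : Y ⟶ Spec (CommRingCat.of k))
    (ρ : X ⟶ Y) [IsProper g] [GeometricallyConnected g] [GeometricallyReduced g]
    [IsFinite ρ] [Flat ρ] [Surjective ρ]
    (h0 : Subsingleton (Coh.HH Y (cokernel (ClSub.unitToPush ρ)) 0)) :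
    GeometricallyConnected (ρ ≫ g) := by
  haveI : IsIso g.appTop := Groth.Agent.Lib.H9Models.isIso_appTop_of_geometricallyConnected k g
  have hρ := appTop_surjective ρ h0
  apply Groth.Agent.Lib.H9SteinSm.geometricallyConnected_of_finrank_eq_one k (ρ ≫ g)
  letI := algΓ k (ρ ≫ g)
  -- nonemptiness
  haveI : Nontrivial Γ(Y, ⊤) := by
    let e : Γ(Spec (CommRingCat.of k), ⊤) ≃+* Γ(Y, ⊤) := (asIso g.appTop).commRingCatIsoToRingEquiv
    haveI : Nontrivial Γ(Spec (CommRingCat.of k), ⊤) :=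
      (Scheme.ΓSpecIso (CommRingCat.of k)).commRingCatIsoToRingEquiv.symm.injective.nontrivial
    exact e.injective.nontrivial
  haveI : Nonempty Y := nonempty_of_nontrivial Y
  haveI : Nonempty X := by
    obtain ⟨y⟩ := ‹Nonempty Y›
    obtain ⟨x, _⟩ := ‹Surjective ρ›.surj y
    exact ⟨x⟩
  haveI : Nontrivial Γ(X, ⊤) := nontrivial_of_nonempty X
  have hsurj : Function.Surjective (algebraMap k Γ(X, ⊤)) := by
    change Function.Surjective (((ρ ≫ g).appTop.hom.comp
      (Scheme.ΓSpecIso (CommRingCat.of k)).inv.hom))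
    rw [Scheme.Hom.comp_appTop]
    intro m
    obtain ⟨b, hb⟩ := hρ m
    obtain ⟨c, hc⟩ := ((ConcreteCategory.isIso_iff_bijective g.appTop).mp inferInstance).2 b
    obtain ⟨d, hd⟩ := (Scheme.ΓSpecIso (CommRingCat.of k)).commRingCatIsoToRingEquiv.symm.surjective c
    refine ⟨d, ?_⟩
    change ρ.appTop.hom (g.appTop.hom ((Scheme.ΓSpecIso (CommRingCat.of k)).inv.hom d)) = m
    have hd' : (Scheme.ΓSpecIso (CommRingCat.of k)).inv.hom d = c := hd
    rw [hd']
    have hc' : g.appTop.hom c = b := hc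
    rw [hc', hb]
  have hinj : Function.Injective (algebraMap k Γ(X, ⊤)) := (algebraMap k Γ(X, ⊤)).injective
  let e : k ≃ₗ[k] Γ(X, ⊤) := LinearEquiv.ofBijective (Algebra.linearMap k Γ(X, ⊤)) ⟨hinj, hsurj⟩
  rw [← e.finrank_eq, Module.finrank_self]

end Groth.Agent.Lib.H9FinCov
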