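import Mathlib
import Groth.Agent.Lib.H5bFibGR
import Groth.Agent.Lib.Helper12Reduced

/-! helper9: `exists_common_field` (two field extensions of k embed in a common field); `geometricallyReduced_fiber_of_isPullback` (geometric reducedness of a fibre DESCENDS along base change: X' = X ×_T T', fibre of X' at t' geom. reduced ⇒ fibre of X at p(t') geom. reduced). -/

set_option autoImplicit false
universe u

namespace Groth.Agent.Lib.H9GrD

open CategoryTheory CategoryTheory.Limits AlgebraicGeometry TopologicalSpace Topology Set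
open scoped TensorProduct

theorem exists_common_field {k K k' : Type u} [Field k] [Field K] [Field k'] (β : k →+* K)
    (α : k →+* k') :
    ∃ (Ω : Type u) (_ : Field Ω) (a : K →+* Ω) (b : k' →+* Ω), a.comp β = b.comp α := by
  letI := β.toAlgebra
  letI := α.toAlgebra
  haveI : Nontrivial (K ⊗[k] k') :=
    Algebra.TensorProduct.nontrivial_of_algebraMap_injective_of_isDomain k K k'
      β.injective α.injective
  obtain ⟨m, hm⟩ := Ideal.exists_maximal (K ⊗[k] k')
  letI : Field ((K ⊗[k] k') ⧸ m) := Ideal.Quotient.field m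
  refine ⟨(K ⊗[k] k') ⧸ m, inferInstance,
    (Ideal.Quotient.mk m).comp (Algebra.TensorProduct.includeLeft : K →ₐ[k] K ⊗[k] k').toRingHom,
    (Ideal.Quotient.mk m).comp (Algebra.TensorProduct.includeRight : k' →ₐ[k] K ⊗[k] k').toRingHom,
    ?_⟩
  ext x
  simp only [RingHom.coe_comp, Function.comp_apply, AlgHom.toRingHom_eq_coe, RingHom.coe_coe]
  congr 1
  have h1 : β x = algebraMap k K x := rfl
  have h2 : α x = algebraMap k k' x := rfl
  rw [h1, h2, AlgHom.commutes, AlgHom.commutes]

/-- geometric reducedness of a fibre descends along base change. -/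
theorem geometricallyReduced_fiber_of_isPullback {W T W' T' : Scheme.{u}} (h : W ⟶ T)
    (h' : W' ⟶ T') (p' : W' ⟶ W) (p : T' ⟶ T) (sq : IsPullback p' h' h p) (t' : T')
    (H : GeometricallyReduced (h'.fiberToSpecResidueField t')) :
    GeometricallyReduced (h.fiberToSpecResidueField (p.base t')) := by
  apply Groth.Agent.Lib.H5bFibGR.geometricallyReduced_fiber_of_forall
  intro K _ ψ
  refine ⟨pullback h (ψ ≫ T.fromSpecResidueField (p.base t')), pullback.fst _ _, pullback.snd _ _,
    IsPullback.of_hasPullback _ _, ?_⟩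
  obtain ⟨β, rfl⟩ := Spec.map_surjective ψ
  obtain ⟨Ω, _, a, b, hab⟩ := exists_common_field β.hom (p.residueFieldMap t').hom
  let aΩ : Spec (.of Ω) ⟶ Spec (.of K) := Spec.map (CommRingCat.ofHom a)
  let bΩ : Spec (.of Ω) ⟶ Spec (T'.residueField t') := Spec.map (CommRingCat.ofHom b)
  have hcomm : aΩ ≫ Spec.map β = bΩ ≫ Spec.map (p.residueFieldMap t') := by
    simp only [aΩ, bΩ, ← Spec.map_comp]
    congr 1
    ext x
    exact congrFun (congrArg DFunLike.coe hab) x
  let ω : Spec (.of Ω) ⟶ T' := bΩ ≫ T'.fromSpecResidueField t'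
  have hω : ω ≫ p = aΩ ≫ Spec.map β ≫ T.fromSpecResidueField (p.base t') := by
    simp only [ω, Category.assoc]
    rw [← Scheme.Hom.SpecMap_residueFieldMap_fromSpecResidueField, ← Category.assoc, ← hcomm,
      Category.assoc]
  have hZ' : IsReduced (pullback h' ω) :=
    Groth.Agent.Lib.H5bFibGR.isReduced_of_geometricallyReduced_fiber h' t' H bΩ
      (pullback.fst h' ω) (pullback.snd h' ω) (IsPullback.of_hasPullback h' ω)
  have hbig : IsPullback (pullback.fst h' ω ≫ p') (pullback.snd h' ω) h
      (aΩ ≫ Spec.map β ≫ T.fromSpecResidueField (p.base t')) := by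
    rw [← hω]
    exact (IsPullback.of_hasPullback h' ω).paste_horiz sq
  let l : pullback h' ω ⟶ pullback h (Spec.map β ≫ T.fromSpecResidueField (p.base t')) :=
    pullback.lift (pullback.fst h' ω ≫ p') (pullback.snd h' ω ≫ aΩ)
      (by rw [hbig.w, Category.assoc])
  have hl1 : l ≫ pullback.fst _ _ = pullback.fst h' ω ≫ p' := pullback.lift_fst _ _ _
  have hl2 : l ≫ pullback.snd _ _ = pullback.snd h' ω ≫ aΩ := pullback.lift_snd _ _ _
  have hsq : IsPullback l (pullback.snd h' ω)
      (pullback.snd h (Spec.map β ≫ T.fromSpecResidueField (p.base t'))) aΩ := by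
    refine IsPullback.of_right ?_ hl2 (IsPullback.of_hasPullback h _)
    rw [hl1]
    exact hbig
  haveI : Flat aΩ := by
    rw [Flat.SpecMap_iff]
    exact RingHom.Flat.of_isField (Field.toIsField K) _
  haveI : Surjective aΩ := by
    refine ⟨fun x => ⟨IsLocalRing.closedPoint Ω, ?_⟩⟩
    exact Subsingleton.elim (α := PrimeSpectrum K) _ _
  haveI : Flat l := MorphismProperty.of_isPullback (P := @Flat) hsq.flip inferInstance
  haveI : Surjective l := MorphismProperty.of_isPullback (P := @Surjective) hsq.flip inferInstance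
  haveI := hZ'
  exact Groth.Agent.Lib.Helper12.Reduced.isReduced_of_flat_of_surjective l

end Groth.Agent.Lib.H9GrD
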