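import Mathlib
import Groth.Agent.Lib.H9SteinFib
import Groth.Agent.Lib.H9ZarGeomU
import Groth.Prelude.Def_MoreMor
import Groth.Prelude.Def_EGA43

/-! helper9: Stein factorisation and geometric connected components (f proper, Y loc. Noetherian): `isPullback_geomFiber` (MoreMor.geomFiber h z = W ×_Y Spec κ(z)^sep), `geometricallyConnected_toNormalization` (X → Y' = Stein factor is GeometricallyConnected), `π`, `isPullback_π`, `discreteTopology_geomFiber`, `nGeomConnComp_eq` (n_{X/Y}(z) = n_{Y'/Y}(z)). -/

set_option autoImplicit false
universe u

namespace Groth.Agent.Lib.H9LscA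

open CategoryTheory CategoryTheory.Limits AlgebraicGeometry TopologicalSpace Opposite
open Groth.Agent.Lib.H9SteinFib

section geom

variable {W Y : Scheme.{u}} (h : W ⟶ Y) (z : Y)

/-- the geometric point `Spec κ(z)^sep → Spec κ(z)` -/
noncomputable abbrev a : Spec (CommRingCat.of (SeparableClosure (Y.residueField z))) ⟶
    Spec (Y.residueField z) :=
  Spec.map (CommRingCat.ofHom
    (algebraMap (Y.residueField z) (SeparableClosure (Y.residueField z))))

noncomputable def gX : MoreMor.geomFiber h z ⟶ W :=
  pullback.fst (h.fiberToSpecResidueField z) (a z) ≫ h.fiberι z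

noncomputable def gK : MoreMor.geomFiber h z ⟶
    Spec (CommRingCat.of (SeparableClosure (Y.residueField z))) :=
  pullback.snd (h.fiberToSpecResidueField z) (a z)

theorem isPullback_geomFiber :
    IsPullback (gX h z) (gK h z) h (a z ≫ Y.fromSpecResidueField z) := by
  have h1 : IsPullback (pullback.fst (h.fiberToSpecResidueField z) (a z))
      (pullback.snd (h.fiberToSpecResidueField z) (a z)) (h.fiberToSpecResidueField z) (a z) :=
    IsPullback.of_hasPullback _ _
  have h2 : IsPullback (h.fiberι z) (h.fiberToSpecResidueField z) h (Y.fromSpecResidueField z) :=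
    IsPullback.of_hasPullback _ _
  exact h1.paste_horiz h2

end geom

variable {X Y : Scheme.{u}} (f : X ⟶ Y) [IsProper f] [IsLocallyNoetherian Y]

theorem geometricallyConnected_toNormalization : GeometricallyConnected f.toNormalization := by
  haveI := isProper_toNormalization f
  haveI := isLocallyNoetherian_normalization f
  haveI := isFinite_fromNormalization f
  rw [GeometricallyConnected.iff_geometricallyConnected_fiber]
  intro y'
  obtain ⟨_, ⟨U, hU, rfl⟩, hyU, -⟩ :=
    Y.isBasis_affineOpens.exists_subset_of_mem_open (Set.mem_univ (f.fromNormalization.base y'))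
      isOpen_univ
  exact Groth.Agent.Lib.H9ZarGeomU.geometricallyConnected_fiber f.toNormalization y'
    (f.fromNormalization ⁻¹ᵁ U) (hU.preimage f.fromNormalization) hyU
    (isIso_toNormalization_app f U hU)

/-- the map of geometric fibres induced by `toNormalization`. -/
noncomputable def π (z : Y) :
    MoreMor.geomFiber f z ⟶ MoreMor.geomFiber f.fromNormalization z :=
  (isPullback_geomFiber f.fromNormalization z).lift (gX f z ≫ f.toNormalization) (gK f z) (by
    rw [Category.assoc, f.toNormalization_fromNormalization]
    exact (isPullback_geomFiber f z).w)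

theorem π_gX (z : Y) : π f z ≫ gX f.fromNormalization z = gX f z ≫ f.toNormalization :=
  IsPullback.lift_fst _ _ _ _

theorem π_gK (z : Y) : π f z ≫ gK f.fromNormalization z = gK f z :=
  IsPullback.lift_snd _ _ _ _

theorem isPullback_π (z : Y) :
    IsPullback (gX f z) (π f z) f.toNormalization (gX f.fromNormalization z) := by
  have hout : IsPullback (π f z ≫ gK f.fromNormalization z) (gX f z)
      (a z ≫ Y.fromSpecResidueField z) (f.toNormalization ≫ f.fromNormalization) := by
    rw [π_gK, f.toNormalization_fromNormalization]
    exact (isPullback_geomFiber f z).flip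
  exact (IsPullback.of_right hout (π_gX f z) (isPullback_geomFiber f.fromNormalization z).flip).flip

theorem geometricallyConnected_π (z : Y) : GeometricallyConnected (π f z) :=
  MorphismProperty.of_isPullback (P := @GeometricallyConnected) (isPullback_π f z)
    (geometricallyConnected_toNormalization f)

theorem discreteTopology_geomFiber (z : Y) :
    DiscreteTopology ↥(MoreMor.geomFiber f.fromNormalization z) := by
  haveI := isFinite_fromNormalization f
  haveI h1 : IsFinite (f.fromNormalization.fiberToSpecResidueField z) :=
    MorphismProperty.pullback_snd (P := @IsFinite) _ _ inferInstance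
  haveI : IsFinite (gK f.fromNormalization z) :=
    MorphismProperty.pullback_snd (P := @IsFinite) _ _ h1
  haveI : IsLocallyArtinian (MoreMor.geomFiber f.fromNormalization z) :=
    IsLocallyArtinian.of_locallyQuasiFinite (gK f.fromNormalization z)
  infer_instance

/-- **Stein factorisation preserves the number of geometric connected components.** -/
theorem nGeomConnComp_eq (z : Y) :
    MoreMor.nGeomConnComp f z = MoreMor.nGeomConnComp f.fromNormalization z := by
  haveI := geometricallyConnected_π f z
  haveI := discreteTopology_geomFiber f z
  have hopen : IsOpenMap (π f z).base := fun s _ => isOpen_discrete _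
  exact ENat.card_congr ((π f z).connectedComponentsHomeomorph hopen).toEquiv

end Groth.Agent.Lib.H9LscA
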