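import Mathlib
import Groth.Agent.Lib.H9LscA
import Groth.Agent.S3411
import Groth.Agent.S4926

/-! helper9: `isUnivOpenAt_fromNormalization` (f univ. open at the fibre over y ⇒ so is the finite part of the Stein factorisation), `main` (= S3415: lower semicontinuity of the geometric number of connected components for proper f universally open along the fibre; via S3411 + S4926). -/

set_option autoImplicit false
universe u

namespace Groth.Agent.Lib.H9LscB

open CategoryTheory CategoryTheory.Limits AlgebraicGeometry TopologicalSpace Opposite
open Groth.Agent.Lib.H9SteinFib Groth.Agent.Lib.H9LscA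

variable {X Y : Scheme.{u}} [IsLocallyNoetherian Y] (f : X ⟶ Y) [IsProper f]

theorem isUnivOpenAt_fromNormalization (y : Y)
    (h : ∀ x : X, f.base x = y → EGA43.IsUnivOpenAt f x) (y' : f.normalization)
    (hy' : f.fromNormalization.base y' = y) : EGA43.IsUnivOpenAt f.fromNormalization y' := by
  obtain ⟨x, rfl⟩ := surjective_toNormalization f y'
  have hx : f.base x = y := by
    rw [← hy']
    conv_lhs => rw [← f.toNormalization_fromNormalization]
    rfl
  have h' : EGA43.IsUnivOpenAt (f.toNormalization ≫ f.fromNormalization) x := by
    rw [f.toNormalization_fromNormalization]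
    exact h x hx
  exact Groth.Agent.S4926.result f.toNormalization f.fromNormalization x h'

theorem main (y : Y) (h : ∀ x : X, f.base x = y → EGA43.IsUnivOpenAt f x) :
    ∃ V ∈ nhds y, ∀ z ∈ V, MoreMor.nGeomConnComp f y ≤ MoreMor.nGeomConnComp f z := by
  haveI := isFinite_fromNormalization f
  obtain ⟨V, hV, hle⟩ := Groth.Agent.S3411.result f.fromNormalization y
    (isUnivOpenAt_fromNormalization f y h)
  refine ⟨V, hV, fun z hz => ?_⟩
  rw [nGeomConnComp_eq f y, nGeomConnComp_eq f z]
  exact hle z hz

end Groth.Agent.Lib.H9LscB
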