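import Mathlib

/-! helper9: Noetherian spaces have finitely many (open) connected components (`finite_connectedComponents`, `isOpen_connectedComponent`); `card_connectedComponents_eq` (continuous map to a discrete space with connected fibres: π₀(S) ≃ T); `card_le_of_preconnected` (counting over a local base). -/

set_option autoImplicit false
universe u

namespace Groth.Agent.Lib.H9NcA

open TopologicalSpace Topology Set

/-- a Noetherian space has finitely many connected components. -/
theorem finite_connectedComponents (α : Type*) [TopologicalSpace α] [NoetherianSpace α] :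
    Finite (ConnectedComponents α) := by
  have hfin : (irreducibleComponents α).Finite := NoetherianSpace.finite_irreducibleComponents
  haveI : Finite ↥(irreducibleComponents α) := hfin.to_subtype
  by_cases hne : Nonempty α
  · obtain ⟨x₀⟩ := hne
    classical
    let φ : ↥(irreducibleComponents α) → ConnectedComponents α := fun Z =>
      if h : (Z.1 : Set α).Nonempty then ConnectedComponents.mk h.some else ConnectedComponents.mk x₀
    refine Finite.of_surjective φ ?_
    intro c
    obtain ⟨x, rfl⟩ := ConnectedComponents.surjective_coe c
    refine ⟨⟨irreducibleComponent x, irreducibleComponent_mem_irreducibleComponents x⟩, ?_⟩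
    have hne : (irreducibleComponent x).Nonempty := ⟨x, mem_irreducibleComponent⟩
    simp only [φ, dif_pos hne]
    rw [ConnectedComponents.coe_eq_coe']
    have hconn : IsPreconnected (irreducibleComponent x) :=
      isIrreducible_irreducibleComponent.isConnected.isPreconnected
    exact hconn.subset_connectedComponent mem_irreducibleComponent hne.some_mem
  · haveI : IsEmpty α := not_nonempty_iff.mp hne
    haveI : IsEmpty (ConnectedComponents α) :=
      ⟨fun c => by obtain ⟨x, -⟩ := ConnectedComponents.surjective_coe c; exact isEmptyElim x⟩
    infer_instance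

theorem isOpen_connectedComponent (α : Type*) [TopologicalSpace α] [NoetherianSpace α] (x : α) :
    IsOpen (connectedComponent x) := by
  haveI := finite_connectedComponents α
  haveI : DiscreteTopology (ConnectedComponents α) := inferInstance
  exact (ConnectedComponents.discreteTopology_iff.mp inferInstance) x

/-- a continuous map to a discrete space with connected fibres induces a bijection on connected
components. -/
theorem card_connectedComponents_eq {S T : Type*} [TopologicalSpace S] [TopologicalSpace T]
    [DiscreteTopology T] (ρ : S → T) (hρ : Continuous ρ) (hconn : ∀ τ, IsConnected (ρ ⁻¹' {τ})) :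
    ENat.card (ConnectedComponents S) = ENat.card T := by
  apply ENat.card_congr
  refine Equiv.ofBijective hρ.connectedComponentsLift ⟨?_, ?_⟩
  · intro c c' h
    obtain ⟨s, rfl⟩ := ConnectedComponents.surjective_coe c
    obtain ⟨s', rfl⟩ := ConnectedComponents.surjective_coe c'
    rw [hρ.connectedComponentsLift_apply_coe, hρ.connectedComponentsLift_apply_coe] at h
    rw [ConnectedComponents.coe_eq_coe']
    have h1 : s ∈ ρ ⁻¹' {ρ s'} := h
    have h2 : s' ∈ ρ ⁻¹' {ρ s'} := rfl
    exact (hconn (ρ s')).isPreconnected.subset_connectedComponent h2 h1
  · intro τ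
    obtain ⟨s, hs⟩ := (hconn τ).nonempty
    exact ⟨ConnectedComponents.mk s, by rw [hρ.connectedComponentsLift_apply_coe]; exact hs⟩

/-- the counting argument over a "local" base: `a` lies in every nonempty closed set. -/
theorem card_le_of_preconnected {W B : Type*} [TopologicalSpace W] [TopologicalSpace B]
    (p : W → B) (hcl : IsClosedMap p) (a b : B)
    (ha : ∀ Z : Set B, IsClosed Z → Z.Nonempty → a ∈ Z)
    (hpre : ∀ w : W, IsPreconnected (connectedComponent w ∩ p ⁻¹' {b})) :
    ENat.card (ConnectedComponents ↥(p ⁻¹' {b})) ≤ ENat.card (ConnectedComponents ↥(p ⁻¹' {a})) := by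
  have hcb : Continuous (Subtype.val : ↥(p ⁻¹' {b}) → W) := continuous_subtype_val
  have hca : Continuous (Subtype.val : ↥(p ⁻¹' {a}) → W) := continuous_subtype_val
  have hinj : Function.Injective hcb.connectedComponentsMap := by
    intro c c' h
    obtain ⟨s, rfl⟩ := ConnectedComponents.surjective_coe c
    obtain ⟨s', rfl⟩ := ConnectedComponents.surjective_coe c'
    rw [hcb.connectedComponentsMap_mk, hcb.connectedComponentsMap_mk,
      ConnectedComponents.coe_eq_coe'] at h
    rw [ConnectedComponents.coe_eq_coe']
    -- the preconnected set `connectedComponent s' ∩ p⁻¹{b}` pulled back to the subspace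
    have hP := hpre s'.1
    have himg : (Subtype.val : ↥(p ⁻¹' {b}) → W) '' (Subtype.val ⁻¹' (connectedComponent s'.1)) =
        connectedComponent s'.1 ∩ p ⁻¹' {b} := by
      rw [Subtype.image_preimage_coe, Set.inter_comm]
    have hP' : IsPreconnected
        ((Subtype.val : ↥(p ⁻¹' {b}) → W) ⁻¹' (connectedComponent s'.1)) := by
      rw [← Topology.IsInducing.subtypeVal.isPreconnected_image, himg]
      exact hP
    exact hP'.subset_connectedComponent (x := s') mem_connectedComponent h
  have hsurj : Function.Surjective hca.connectedComponentsMap := by
    intro c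
    obtain ⟨w, rfl⟩ := ConnectedComponents.surjective_coe c
    have h1 : a ∈ p '' connectedComponent w :=
      ha _ (hcl _ isClosed_connectedComponent) ⟨p w, w, mem_connectedComponent, rfl⟩
    obtain ⟨w', hw', hpw'⟩ := h1
    refine ⟨ConnectedComponents.mk ⟨w', hpw'⟩, ?_⟩
    rw [hca.connectedComponentsMap_mk, ConnectedComponents.coe_eq_coe']
    exact hw'
  calc ENat.card (ConnectedComponents ↥(p ⁻¹' {b}))
      ≤ ENat.card (ConnectedComponents W) := ENat.card_le_card_of_injective hinj
    _ ≤ ENat.card (ConnectedComponents ↥(p ⁻¹' {a})) := ENat.card_le_card_of_injective (Function.injective_surjInv hsurj)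

end Groth.Agent.Lib.H9NcA
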