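import Mathlib
import Groth.Agent.Lib.H9NcA
import Groth.Agent.S3417

/-! helper9: `isReduced_fiber_restrict` (fibre of U.ι ≫ p is open in fibre of p); `dvr_card_le` (proper open map to Spec of a DVR with reduced closed fibre: #π₀(generic fibre) ≤ #π₀(closed fibre); via S3417 on connected components). -/

set_option autoImplicit false
universe u

namespace Groth.Agent.Lib.H9NcB

open CategoryTheory CategoryTheory.Limits AlgebraicGeometry TopologicalSpace Topology Set
open Groth.Agent.Lib.H9NcA

/-- restriction of a morphism to an open: the fibre is an open subscheme of the fibre. -/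
theorem isReduced_fiber_restrict {W B : Scheme.{u}} (p : W ⟶ B) (U : W.Opens) (a : B)
    [IsReduced (p.fiber a)] : IsReduced ((U.ι ≫ p).fiber a) := by
  let j : (U.ι ≫ p).fiber a ⟶ p.fiber a :=
    pullback.map (U.ι ≫ p) (B.fromSpecResidueField a) p (B.fromSpecResidueField a) U.ι (𝟙 _) (𝟙 _)
      (by simp) (by simp)
  have hj2 : j ≫ pullback.snd p (B.fromSpecResidueField a) =
      pullback.snd (U.ι ≫ p) (B.fromSpecResidueField a) :=
    (pullback.lift_snd _ _ _).trans (Category.comp_id _)
  have hj1 : j ≫ pullback.fst p (B.fromSpecResidueField a) =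
      pullback.fst (U.ι ≫ p) (B.fromSpecResidueField a) ≫ U.ι :=
    pullback.lift_fst _ _ _
  have hsq : IsPullback j (pullback.fst (U.ι ≫ p) (B.fromSpecResidueField a))
      (pullback.fst p (B.fromSpecResidueField a)) U.ι := by
    refine IsPullback.of_right ?_ hj1 (IsPullback.of_hasPullback p (B.fromSpecResidueField a)).flip
    rw [hj2]
    exact (IsPullback.of_hasPullback (U.ι ≫ p) (B.fromSpecResidueField a)).flip
  haveI : IsOpenImmersion j :=
    MorphismProperty.of_isPullback (P := @IsOpenImmersion) hsq.flip inferInstance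
  exact isReduced_of_isOpenImmersion j

variable (A : Type u) [CommRing A] [IsDomain A] [IsDiscreteValuationRing A]

theorem closedPoint_mem_of_isClosed (Z : Set ↥(Spec (CommRingCat.of A))) (hZ : IsClosed Z)
    (hne : Z.Nonempty) : IsLocalRing.closedPoint A ∈ Z := by
  obtain ⟨z, hz⟩ := hne
  have h1 : z ⤳ IsLocalRing.closedPoint A := IsLocalRing.specializes_closedPoint z
  exact h1.mem_closed hZ hz

/-- the DVR counting lemma. -/
theorem dvr_card_le {W : Scheme.{u}} (p : W ⟶ Spec (CommRingCat.of A)) [IsProper p]
    (hopen : IsOpenMap p.base)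
    (hred : IsReduced (p.fiber (IsLocalRing.closedPoint A))) :
    ENat.card (_root_.ConnectedComponents ↥(p.base ⁻¹' {genericPoint ↥(Spec (CommRingCat.of A))})) ≤
      ENat.card (_root_.ConnectedComponents ↥(p.base ⁻¹' {IsLocalRing.closedPoint A})) := by
  haveI : IsLocallyNoetherian W := LocallyOfFiniteType.isLocallyNoetherian p
  haveI : CompactSpace W := QuasiCompact.compactSpace_of_compactSpace p
  haveI : IsNoetherian W := {}
  haveI : NoetherianSpace W := inferInstance
  refine card_le_of_preconnected p.base p.isClosedMap _ _ (closedPoint_mem_of_isClosed A) ?_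
  intro w
  let U : W.Opens := ⟨connectedComponent w, isOpen_connectedComponent W w⟩
  haveI : PreconnectedSpace ↥(U : Scheme.{u}) :=
    (isPreconnected_iff_preconnectedSpace.mp isPreconnected_connectedComponent :
      PreconnectedSpace ↥(connectedComponent w))
  have hopen' : IsOpenMap (U.ι ≫ p).base := by
    rw [Scheme.Hom.comp_base]
    exact hopen.comp U.ι.isOpenEmbedding.isOpenMap
  haveI := hred
  have hred' : IsReduced ((U.ι ≫ p).fiber (IsLocalRing.closedPoint A)) :=
    isReduced_fiber_restrict p U _
  have hpre := Groth.Agent.S3417.result A (U.ι ≫ p) hopen' (IsLocalRing.closedPoint A)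
    (genericPoint ↥(Spec (CommRingCat.of A)))
    (IsLocalRing.isClosed_singleton_closedPoint A)
    (fun z => genericPoint_specializes z) hred'
  -- transfer to the subset
  have hrange : Set.range ((U.ι ≫ p).fiberι (genericPoint ↥(Spec (CommRingCat.of A))) ≫ U.ι) =
      connectedComponent w ∩ p.base ⁻¹' {genericPoint ↥(Spec (CommRingCat.of A))} := by
    ext x
    constructor
    · rintro ⟨t, rfl⟩
      have h1 : (U.ι ≫ p) ((U.ι ≫ p).fiberι _ t) = genericPoint ↥(Spec (CommRingCat.of A)) := by
        have := (U.ι ≫ p).range_fiberι (genericPoint ↥(Spec (CommRingCat.of A)))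
        have h2 : (U.ι ≫ p).fiberι _ t ∈ Set.range ((U.ι ≫ p).fiberι (genericPoint ↥(Spec (CommRingCat.of A)))) := ⟨t, rfl⟩
        rw [this] at h2
        exact h2
      refine ⟨?_, ?_⟩
      · rw [Scheme.Hom.comp_apply]
        exact ((U.ι ≫ p).fiberι _ t).2
      · rw [Set.mem_preimage, Set.mem_singleton_iff, Scheme.Hom.comp_apply,
          ← Scheme.Hom.comp_apply]
        exact h1
    · rintro ⟨hx1, hx2⟩
      have h2 : (⟨x, hx1⟩ : U) ∈ (U.ι ≫ p) ⁻¹' {genericPoint ↥(Spec (CommRingCat.of A))} := by
        change (U.ι ≫ p) (⟨x, hx1⟩ : U) = _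
        rw [Scheme.Hom.comp_apply]
        exact hx2
      rw [← (U.ι ≫ p).range_fiberι] at h2
      obtain ⟨t, ht⟩ := h2
      refine ⟨t, ?_⟩
      rw [Scheme.Hom.comp_apply, ht]
      rfl
  rw [← hrange]
  exact isPreconnected_range (Scheme.Hom.continuous _)

end Groth.Agent.Lib.H9NcB
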