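import Mathlib
import Groth.Agent.Lib.H9NcB
import Groth.Agent.S4950
import Groth.Agent.Lib.H9LscA

/-! helper9: `card_cc_fibre` (π geom. connected, q quasi-finite: #π₀((π≫q)⁻¹t) = #q⁻¹t); `isOpenMap_of_dvr`, `isReduced_fiber_of_dvr`; `gen_le` (EGA IV 15.5.9(ii), generization bound n(z) ≤ n(y) for proper f universally open along a geometrically reduced fibre X_y; via S4950 + Stein factorisation + dvr_card_le). -/

set_option autoImplicit false
universe u

namespace Groth.Agent.Lib.H9NcC

open CategoryTheory CategoryTheory.Limits AlgebraicGeometry TopologicalSpace Topology Set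
open Groth.Agent.Lib.H9NcA Groth.Agent.Lib.H9NcB
open Groth.Agent.Lib.H9SteinFib Groth.Agent.Lib.H9LscA

/-- counting: connected components of the fibre of `π ≫ q` over `t` = points of the fibre of `q`,
for `π` geometrically connected and `q` with discrete fibres. -/
theorem card_cc_fibre {P Q B : Scheme.{u}} (π : P ⟶ Q) (q : Q ⟶ B) [GeometricallyConnected π]
    [LocallyQuasiFinite q] (t : B) :
    ENat.card (_root_.ConnectedComponents ↥((π ≫ q).base ⁻¹' {t})) = ENat.card ↥(q.fiber t) := by
  rw [ENat.card_congr (q.fiberHomeo t).toEquiv]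
  haveI : DiscreteTopology ↥(q.base ⁻¹' {t}) := (q.isDiscrete_preimage_singleton t).to_subtype
  let ρ : ↥((π ≫ q).base ⁻¹' {t}) → ↥(q.base ⁻¹' {t}) := fun s => ⟨π.base s.1, by
    have := s.2
    rw [Set.mem_preimage, Scheme.Hom.comp_apply] at this
    exact this⟩
  have hρ : Continuous ρ :=
    Continuous.subtype_mk (π.continuous.comp continuous_subtype_val) _
  refine card_connectedComponents_eq ρ hρ ?_
  intro τ
  have hc := π.isConnected_preimage_singleton τ.1
  have himg : (Subtype.val : ↥((π ≫ q).base ⁻¹' {t}) → P) '' (ρ ⁻¹' {τ}) = π.base ⁻¹' {τ.1} := by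
    ext x
    constructor
    · rintro ⟨s, hs, rfl⟩
      exact congrArg Subtype.val hs
    · intro hx
      have hx' : π.base x = τ.1 := hx
      have hxt : x ∈ (π ≫ q).base ⁻¹' {t} := by
        rw [Set.mem_preimage, Scheme.Hom.comp_apply, hx']
        exact τ.2
      exact ⟨⟨x, hxt⟩, Subtype.ext hx', rfl⟩
  refine ⟨?_, ?_⟩
  · obtain ⟨x, hx⟩ := hc.nonempty
    rw [← himg] at hx
    obtain ⟨s, hs, -⟩ := hx
    exact ⟨s, hs⟩
  · rw [← Topology.IsInducing.subtypeVal.isPreconnected_image, himg]
    exact hc.isPreconnected

variable {X Y : Scheme.{u}} [IsLocallyNoetherian Y] (f : X ⟶ Y) [IsProper f]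

theorem isOpenMap_of_dvr (A : Type u) [CommRing A] [IsDomain A] [IsDiscreteValuationRing A]
    (g : Spec (CommRingCat.of A) ⟶ Y)
    (h : ∀ x : X, f.base x = g.base (IsLocalRing.closedPoint A) → EGA43.IsUnivOpenAt f x) :
    IsOpenMap (pullback.snd f g).base := by
  rw [isOpenMap_iff_nhds_le]
  intro x'
  rw [Filter.le_map_iff]
  intro U hU
  rcases Groth.Agent.Lib.Helper10.DVRFibre.eq_genPt_or_closedPoint
    ((pullback.snd f g).base x') with hx | hx
  · -- generic point: `{b}` is open
    have hopen : IsOpen ({Groth.Agent.Lib.Helper10.DVRFibre.genPt A} : Set (PrimeSpectrum A)) := by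
      have h1 : ({Groth.Agent.Lib.Helper10.DVRFibre.genPt A} : Set (PrimeSpectrum A)) =
          ({IsLocalRing.closedPoint A} : Set (PrimeSpectrum A))ᶜ := by
        ext z
        simp only [Set.mem_singleton_iff, Set.mem_compl_iff]
        constructor
        · rintro rfl hc
          have h3 : IsLocalRing.maximalIdeal A = ⊥ := (congrArg PrimeSpectrum.asIdeal hc).symm
          exact IsDiscreteValuationRing.not_a_field A h3
        · intro hz
          rcases Groth.Agent.Lib.Helper10.DVRFibre.eq_genPt_or_closedPoint z with h2 | h2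
          · exact h2
          · exact absurd h2 hz
      rw [h1]
      exact (IsLocalRing.isClosed_singleton_closedPoint A).isOpen_compl
    refine Filter.mem_of_superset (hopen.mem_nhds hx) ?_
    rintro _ rfl
    exact ⟨x', mem_of_mem_nhds hU, hx⟩
  · -- closed point: universal openness
    have h1 : f.base ((pullback.fst f g).base x') = g.base (IsLocalRing.closedPoint A) := by
      rw [← hx, ← Scheme.Hom.comp_apply, ← Scheme.Hom.comp_apply, pullback.condition]
    exact h _ h1 _ g x' rfl U hU

theorem isReduced_fiber_of_dvr (A : Type u) [CommRing A]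
    (g : Spec (CommRingCat.of A) ⟶ Y) (a : ↥(Spec (CommRingCat.of A)))
    (hred : GeometricallyReduced (f.fiberToSpecResidueField (g.base a))) :
    IsReduced ((pullback.snd f g).fiber a) := by
  have hp := isPullback_fiberToSpecResidueField_of_isPullback (IsPullback.of_hasPullback f g) a
  exact hred.geometrically_isReduced _ _ _ hp

/-- **the generization bound.** -/
theorem gen_le (y z : Y) (hne : z ≠ y) (hgen : z ⤳ y)
    (h : ∀ x : X, f.base x = y → EGA43.IsUnivOpenAt f x)
    (hred : GeometricallyReduced (f.fiberToSpecResidueField y)) :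
    MoreMor.nGeomConnComp f z ≤ MoreMor.nGeomConnComp f y := by
  haveI := isFinite_fromNormalization f
  haveI := geometricallyConnected_toNormalization f
  obtain ⟨A, _, _, _, g, hga, hgb, hny, hnz⟩ :=
    Groth.Agent.S4950.result f.fromNormalization y z hne hgen
  subst hga
  rw [nGeomConnComp_eq f z, nGeomConnComp_eq f _, hny, hnz]
  -- the base-changed Stein factorisation
  let πA : pullback f g ⟶ pullback f.fromNormalization g :=
    pullback.map f g f.fromNormalization g f.toNormalization (𝟙 _) (𝟙 _)
      (by rw [Category.comp_id, f.toNormalization_fromNormalization]) (by simp)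
  have hπ2 : πA ≫ pullback.snd f.fromNormalization g = pullback.snd f g :=
    (pullback.lift_snd _ _ _).trans (Category.comp_id _)
  have hπ1 : πA ≫ pullback.fst f.fromNormalization g = pullback.fst f g ≫ f.toNormalization :=
    pullback.lift_fst _ _ _
  have hsq : IsPullback πA (pullback.fst f g) (pullback.fst f.fromNormalization g)
      f.toNormalization := by
    refine IsPullback.of_right ?_ hπ1 (IsPullback.of_hasPullback f.fromNormalization g).flip
    rw [hπ2, f.toNormalization_fromNormalization]
    exact (IsPullback.of_hasPullback f g).flip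
  haveI : GeometricallyConnected πA :=
    MorphismProperty.of_isPullback (P := @GeometricallyConnected) hsq.flip inferInstance
  have hca := card_cc_fibre πA (pullback.snd f.fromNormalization g) (IsLocalRing.closedPoint A)
  have hcb := card_cc_fibre πA (pullback.snd f.fromNormalization g)
    (genericPoint ↥(Spec (CommRingCat.of A)))
  rw [hπ2] at hca hcb
  rw [← hca, ← hcb]
  exact dvr_card_le A (pullback.snd f g) (isOpenMap_of_dvr f A g h)
    (isReduced_fiber_of_dvr f A g _ hred)

end Groth.Agent.Lib.H9NcC
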