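import Mathlib

/-! helper9: `exists_basicOpen_disjoint`, `exists_nhd_disjoint`: a locally constructible subset of a scheme containing no generization of y misses a neighbourhood of y. -/

set_option autoImplicit false
universe u

namespace Groth.Agent.Lib.H9NcD

open CategoryTheory AlgebraicGeometry TopologicalSpace Topology Set

/-- ring-level: a constructible subset of `Spec R` containing no generization of `p` misses a
basic open neighbourhood of `p`. -/
theorem exists_basicOpen_disjoint {R : Type u} [CommRing R] (E : Set (PrimeSpectrum R))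
    (hE : IsConstructible E) (p : PrimeSpectrum R) (hp : ∀ z : PrimeSpectrum R, z ⤳ p → z ∉ E) :
    ∃ g : R, p ∈ PrimeSpectrum.basicOpen g ∧
      Disjoint (PrimeSpectrum.basicOpen g : Set (PrimeSpectrum R)) E := by
  obtain ⟨S, _, φ, rfl⟩ := PrimeSpectrum.exists_range_eq_of_isConstructible hE
  let M : Submonoid S := p.asIdeal.primeCompl.map φ
  have h0 : (0 : S) ∈ M := by
    by_contra h0
    have hdisj : Disjoint ((⊥ : Ideal S) : Set S) (M : Set S) := by
      rw [Set.disjoint_left]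
      intro s hs hsM
      rw [SetLike.mem_coe, Ideal.mem_bot] at hs
      subst hs
      exact h0 hsM
    obtain ⟨Q, hQ, -, hQM⟩ := Ideal.exists_le_prime_disjoint (⊥ : Ideal S) M hdisj
    let q : PrimeSpectrum S := ⟨Q, hQ⟩
    have hle : (PrimeSpectrum.comap φ q).asIdeal ≤ p.asIdeal := by
      intro r hr
      by_contra hrp
      have h1 : φ r ∈ (M : Set S) := ⟨r, hrp, rfl⟩
      have h2 : φ r ∈ (Q : Set S) := hr
      exact Set.disjoint_left.mp hQM h2 h1
    have hspec : PrimeSpectrum.comap φ q ⤳ p := (PrimeSpectrum.le_iff_specializes _ _).mp hle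
    exact hp _ hspec ⟨q, rfl⟩
  obtain ⟨g, hg, hg0⟩ := h0
  refine ⟨g, hg, ?_⟩
  rw [Set.disjoint_left]
  rintro _ hz ⟨q, rfl⟩
  apply hz
  change φ g ∈ q.asIdeal
  rw [hg0]
  exact q.asIdeal.zero_mem

/-- scheme-level version. -/
theorem exists_nhd_disjoint {Y : Scheme.{u}} (E : Set Y) (hE : IsLocallyConstructible E) (y : Y)
    (hy : ∀ z : Y, z ⤳ y → z ∉ E) : ∃ V : Set Y, IsOpen V ∧ y ∈ V ∧ Disjoint V E := by
  obtain ⟨_, ⟨U, hU, rfl⟩, hyU, -⟩ :=
    Y.isBasis_affineOpens.exists_subset_of_mem_open (Set.mem_univ y) isOpen_univ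
  let j := hU.fromSpec
  have hj : IsOpenEmbedding j.base := j.isOpenEmbedding
  have hrange : Set.range j.base = (U : Set Y) := hU.range_fromSpec
  obtain ⟨p, hp⟩ : y ∈ Set.range j.base := by rw [hrange]; exact hyU
  have hE' : IsConstructible (j.base ⁻¹' E) :=
    (hE.preimage_of_isOpenEmbedding hj).isConstructible
  have hgen : ∀ z : PrimeSpectrum Γ(Y, U), z ⤳ p → z ∉ j.base ⁻¹' E := by
    intro z hz hzE
    have h1 : j.base z ⤳ j.base p := hz.map j.continuous
    rw [hp] at h1
    exact hy _ h1 hzE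
  obtain ⟨g, hpg, hdisj⟩ := exists_basicOpen_disjoint (j.base ⁻¹' E) hE' p hgen
  refine ⟨j.base '' (PrimeSpectrum.basicOpen g : Set (PrimeSpectrum Γ(Y, U))),
    hj.isOpenMap _ (PrimeSpectrum.basicOpen g).2, ⟨p, hpg, hp⟩, ?_⟩
  rw [Set.disjoint_left]
  rintro _ ⟨z, hz, rfl⟩ hzE
  exact Set.disjoint_left.mp hdisj hz hzE

end Groth.Agent.Lib.H9NcD
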