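import Mathlib
import Groth.Agent.Lib.Helper2GeomPts

/-! helper9: `N g s` = Σ_{x over s} [κ(x):κ(s)]_sep (ℤ-valued fibre integral of 1); `W₂`, `g₂` (complement of the diagonal in T×_S T over T); `N_g₂ : N (g₂ g) t = N g (g t) - 1`; `sd_eq_one_of_surjective`, `exists_of_N_pos`. -/

set_option autoImplicit false
universe u

namespace Groth.Agent.Lib.H9NcE

open CategoryTheory CategoryTheory.Limits AlgebraicGeometry TopologicalSpace Topology Set
open Groth.Agent.Lib.Helper2.Weight

/-- separable degree one if the residue field map is surjective. -/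
theorem sd_eq_one_of_surjective {P V : Scheme.{u}} (p : P ⟶ V) (z : P)
    (hz : Function.Surjective (p.residueFieldMap z).hom) : sd p z = 1 := by
  unfold sd
  letI := (p.residueFieldMap z).hom.toAlgebra
  have hbij : Function.Bijective (Algebra.ofId (V.residueField (p z)) (P.residueField z)) :=
    ⟨(p.residueFieldMap z).hom.injective, hz⟩
  let e : V.residueField (p z) ≃ₐ[V.residueField (p z)] P.residueField z :=
    AlgEquiv.ofBijective (Algebra.ofId _ _) hbij
  rw [← Field.finSepDegree_eq_of_equiv (V.residueField (p z)) (V.residueField (p z))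
    (P.residueField z) e]
  exact Field.finSepDegree_self _

variable {S T : Scheme.{u}} (g : T ⟶ S)

/-- the fibre count `Σ [κ(x):κ(s)]_s`. -/
noncomputable def N (s : S) : ℤ := MoreMor.fibreIntegral g (fun _ => 1) s

theorem N_nonneg (s : S) : 0 ≤ N g s := by
  unfold N
  rw [fibreIntegral_eq]
  exact finsum_nonneg (fun x => by positivity)

theorem exists_of_N_pos (s : S) (h : 0 < N g s) : ∃ t : T, g.base t = s := by
  by_contra hne
  haveI : IsEmpty {x : T // g x = s} := ⟨fun x => hne ⟨x.1, x.2⟩⟩
  unfold N at h
  rw [fibreIntegral_eq, finsum_of_isEmpty] at h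
  exact lt_irrefl _ h

section sep
variable [IsSeparated g]

/-- the open complement of the diagonal -/
noncomputable def W₂ : (pullback g g).Opens :=
  ⟨(Set.range (pullback.diagonal g).base)ᶜ,
    (pullback.diagonal g).isClosedEmbedding.isClosed_range.isOpen_compl⟩

noncomputable def g₂ : ((W₂ g : (pullback g g).Opens) : Scheme.{u}) ⟶ T :=
  (W₂ g).ι ≫ pullback.fst g g

theorem sd_fst_diagonal (t : T) : sd (pullback.fst g g) ((pullback.diagonal g).base t) = 1 := by
  apply sd_eq_one_of_surjective
  set Δ := pullback.diagonal g with hΔ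
  have e : Δ ≫ pullback.fst g g = 𝟙 T := pullback.diagonal_fst g
  have hcomp : (pullback.fst g g).residueFieldMap (Δ.base t) ≫ Δ.residueFieldMap t =
      (T.residueFieldCongr (by rw [← Scheme.Hom.comp_apply, e]; rfl)).hom := by
    rw [← Scheme.residueFieldMap_comp, Scheme.Hom.residueFieldMap_congr e, Scheme.residueFieldMap_id]
    exact Category.comp_id _
  intro x
  have hbij : Function.Bijective
      ((pullback.fst g g).residueFieldMap (Δ.base t) ≫ Δ.residueFieldMap t).hom := by
    rw [hcomp]
    exact ConcreteCategory.bijective_of_isIso _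
  obtain ⟨r, hr⟩ := hbij.2 ((Δ.residueFieldMap t).hom x)
  refine ⟨r, ?_⟩
  apply (Δ.residueFieldMap t).hom.injective
  exact hr

theorem N_g₂ [LocallyQuasiFinite g] [QuasiCompact g] (t : T) :
    N (g₂ g) t = N g (g.base t) - 1 := by
  have hfin : ∀ s : S, (g ⁻¹' {s}).Finite := fun s => g.finite_preimage_singleton s
  obtain ⟨hbc, hfin'⟩ := fibreIntegral_baseChange g hfin (pullback.fst g g) (pullback.snd g g) g
    (IsPullback.of_hasPullback g g).flip (fun _ => 1) t
  have h1 : MoreMor.fibreIntegral (pullback.fst g g) (fun _ => 1) t = N g (g.base t) := hbc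
  have hfinA : ∀ A : Set ↥(pullback g g), ({x | pullback.fst g g x = t} ∩ A).Finite :=
    fun A => hfin'.subset Set.inter_subset_left
  have h2 : fI (pullback.fst g g) (fun _ => 1) Set.univ t =
      fI (pullback.fst g g) (fun _ => 1) (W₂ g : Set ↥(pullback g g)) t +
      fI (pullback.fst g g) (fun _ => 1) (W₂ g : Set ↥(pullback g g))ᶜ t := by
    rw [← fI_union _ _ _ _ _ (hfinA _) (hfinA _), Set.union_compl_self]
    rw [Set.disjoint_left]
    rintro x ⟨-, hx1⟩ ⟨-, hx2⟩
    exact hx2 hx1
  have h3 : fI (pullback.fst g g) (fun _ => 1) (W₂ g : Set ↥(pullback g g)) t = N (g₂ g) t := by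
    unfold N g₂
    rw [← fibreIntegral_opens]
  have h4 : fI (pullback.fst g g) (fun _ => 1) (W₂ g : Set ↥(pullback g g))ᶜ t = 1 := by
    have hset : {x | pullback.fst g g x = t} ∩ (W₂ g : Set ↥(pullback g g))ᶜ =
        {(pullback.diagonal g).base t} := by
      ext x
      simp only [W₂, Set.mem_inter_iff, Set.mem_ofPred_eq, TopologicalSpace.Opens.coe_mk,
        compl_compl, Set.mem_range, Set.mem_singleton_iff]
      constructor
      · rintro ⟨hx, t', rfl⟩
        have : (pullback.diagonal g ≫ pullback.fst g g).base t' = t := by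
          rw [Scheme.Hom.comp_apply]; exact hx
        rw [pullback.diagonal_fst] at this
        have h5 : t' = t := this
        rw [h5]
      · rintro rfl
        refine ⟨?_, t, rfl⟩
        have : (pullback.diagonal g ≫ pullback.fst g g).base t = t := by
          rw [pullback.diagonal_fst]; rfl
        rw [Scheme.Hom.comp_apply] at this
        exact this
    unfold fI
    rw [hset, finsum_mem_singleton, sd_fst_diagonal]
    norm_num
  rw [fibreIntegral_eq_fI_univ, h2, h3, h4] at h1
  omega

end sep

end Groth.Agent.Lib.H9NcE
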