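import Mathlib
import Groth.Agent.Lib.H9NcE

/-! helper9: `isLocallyConstructible_N_ge`: for g separated quasi-finite of finite type over a locally Noetherian base, {s | k ≤ N g s} is locally constructible (induction on k via the diagonal complement + Chevalley). -/

set_option autoImplicit false
universe u

namespace Groth.Agent.Lib.H9NcF

open CategoryTheory CategoryTheory.Limits AlgebraicGeometry TopologicalSpace Topology Set
open Groth.Agent.Lib.Helper2.Weight Groth.Agent.Lib.H9NcE

theorem isLocallyConstructible_N_ge (k : ℕ) : ∀ {S T : Scheme.{u}} (g : T ⟶ S)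
    [IsLocallyNoetherian S] [LocallyQuasiFinite g] [QuasiCompact g] [IsSeparated g]
    [LocallyOfFiniteType g], IsLocallyConstructible {s : S | (k : ℤ) ≤ N g s} := by
  induction k with
  | zero =>
    intro S T g _ _ _ _ _
    have : {s : S | ((0 : ℕ) : ℤ) ≤ N g s} = Set.univ := by
      ext s
      simp only [Nat.cast_zero, Set.mem_ofPred_eq, Set.mem_univ, iff_true]
      exact N_nonneg g s
    rw [this]
    exact IsLocallyConstructible.univ
  | succ k ih =>
    intro S T g _ _ _ _ _
    haveI : IsLocallyNoetherian T := LocallyOfFiniteType.isLocallyNoetherian g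
    haveI : IsLocallyNoetherian (pullback g g) :=
      LocallyOfFiniteType.isLocallyNoetherian (pullback.fst g g)
    haveI : LocallyQuasiFinite (g₂ g) := by unfold g₂; infer_instance
    haveI : QuasiCompact (g₂ g) := by unfold g₂; infer_instance
    haveI : IsSeparated (g₂ g) := by unfold g₂; infer_instance
    haveI : LocallyOfFiniteType (g₂ g) := by unfold g₂; infer_instance
    have hih := ih (g₂ g)
    haveI : LocallyOfFinitePresentation g :=
      LocallyOfFinitePresentation.iff_locallyOfFiniteType.mpr inferInstance
    have himg := g.isLocallyConstructible_image hih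
    have hset : {s : S | ((k + 1 : ℕ) : ℤ) ≤ N g s} = g.base '' {t : T | (k : ℤ) ≤ N (g₂ g) t} := by
      ext s
      simp only [Set.mem_ofPred_eq, Set.mem_image]
      constructor
      · intro hs
        have hpos : 0 < N g s := by push_cast at hs; omega
        obtain ⟨t, rfl⟩ := exists_of_N_pos g s hpos
        refine ⟨t, ?_, rfl⟩
        rw [N_g₂]
        push_cast at hs
        omega
      · rintro ⟨t, ht, rfl⟩
        rw [N_g₂] at ht
        push_cast
        omega
    rw [hset]
    exact himg

end Groth.Agent.Lib.H9NcF
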