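import Mathlib
import Groth.Agent.Lib.H9NcC
import Groth.Agent.Lib.H9NcD
import Groth.Agent.Lib.H9NcF
import Groth.Agent.Lib.H9LscB

/-! helper9: `main` (= S3416, EGA IV 15.5.9 (ii)): proper f, universally open along a geometrically reduced fibre X_y ⇒ geometric number of connected components constant near y. -/

set_option autoImplicit false
universe u

namespace Groth.Agent.Lib.H9NcG

open CategoryTheory CategoryTheory.Limits AlgebraicGeometry TopologicalSpace Topology Set
open Groth.Agent.Lib.Helper2.Weight Groth.Agent.Lib.H9NcE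
open Groth.Agent.Lib.H9SteinFib Groth.Agent.Lib.H9LscA

variable {X Y : Scheme.{u}} [IsLocallyNoetherian Y] (f : X ⟶ Y) [IsProper f]

theorem main (y : Y) (h : ∀ x : X, f.base x = y → EGA43.IsUnivOpenAt f x)
    (hred : GeometricallyReduced (f.fiberToSpecResidueField y)) :
    ∃ V ∈ nhds y, ∀ z ∈ V, MoreMor.nGeomConnComp f z = MoreMor.nGeomConnComp f y := by
  haveI := isFinite_fromNormalization f
  set q := f.fromNormalization with hq
  have hfin : ∀ z : Y, (q ⁻¹' {z}).Finite := fun z => q.finite_preimage_singleton z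
  have hn : ∀ z : Y, MoreMor.nGeomConnComp f z = (ng q z : ℕ∞) := fun z => by
    rw [nGeomConnComp_eq f z]
    exact Groth.Agent.Lib.Helper2.Weight.nGeomConnComp_eq q z (hfin z)
  have hN : ∀ z : Y, N q z = (ng q z : ℤ) := fun z => fibreIntegral_one q z (hfin z)
  obtain ⟨V₁, hV₁, hle₁⟩ := Groth.Agent.Lib.H9LscB.main f y h
  set r := ng q y with hr
  have hE := Groth.Agent.Lib.H9NcF.isLocallyConstructible_N_ge (r + 1) q
  have hgen : ∀ z : Y, z ⤳ y → z ∉ {s : Y | ((r + 1 : ℕ) : ℤ) ≤ N q s} := by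
    intro z hz hzE
    simp only [Set.mem_ofPred_eq] at hzE
    rw [hN z] at hzE
    have h1 : r + 1 ≤ ng q z := by exact_mod_cast hzE
    by_cases hzy : z = y
    · rw [hzy] at h1
      omega
    · have h2 := Groth.Agent.Lib.H9NcC.gen_le f y z hzy hz h hred
      rw [hn z, hn y] at h2
      have h3 : ng q z ≤ ng q y := by exact_mod_cast h2
      omega
  obtain ⟨V₂, hV₂o, hyV₂, hdisj⟩ := Groth.Agent.Lib.H9NcD.exists_nhd_disjoint _ hE y hgen
  refine ⟨V₁ ∩ V₂, Filter.inter_mem hV₁ (hV₂o.mem_nhds hyV₂), ?_⟩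
  rintro z ⟨hz1, hz2⟩
  refine le_antisymm ?_ (hle₁ z hz1)
  have hzE : z ∉ {s : Y | ((r + 1 : ℕ) : ℤ) ≤ N q s} := Set.disjoint_left.mp hdisj hz2
  simp only [Set.mem_ofPred_eq, not_le] at hzE
  rw [hN z] at hzE
  have h1 : ng q z < r + 1 := by exact_mod_cast hzE
  rw [hn z, hn y]
  have h2 : ng q z ≤ ng q y := by omega
  exact_mod_cast h2

end Groth.Agent.Lib.H9NcG
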