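import Mathlib
import Groth.Agent.Lib.H9GrD
import Groth.Agent.Lib.H9NcG
import Groth.Agent.Lib.R2H4NoethApprox
import Groth.Agent.Lib.Helper2GeomFibBC
import Groth.Agent.Lib.Helper26UnivOpenAt
import Groth.Agent.Lib.H9GeomRedFibre

/-! helper9: `geometricallyReduced_fiber_baseChange` (ascent); `exists_nhd_eq` (proper flat lfp f over ANY base, fibre at s geom. reduced ⇒ nGeomConnComp constant near s; via helper4's R2H4NoethApprox + S3416); `isLocallyConstant` (= S1364); `isOpen_setOf` (= S5935). -/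

set_option autoImplicit false
universe u

namespace Groth.Agent.Lib.H9GrE

open CategoryTheory CategoryTheory.Limits AlgebraicGeometry TopologicalSpace Topology Set

/-- geometric reducedness of a fibre ascends along base change. -/
theorem geometricallyReduced_fiber_baseChange {W T W' T' : Scheme.{u}} (h : W ⟶ T)
    (h' : W' ⟶ T') (p' : W' ⟶ W) (p : T' ⟶ T) (sq : IsPullback p' h' h p) (t' : T')
    (H : GeometricallyReduced (h.fiberToSpecResidueField (p.base t'))) :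
    GeometricallyReduced (h'.fiberToSpecResidueField t') :=
  MorphismProperty.of_isPullback (P := @GeometricallyReduced)
    (isPullback_fiberToSpecResidueField_of_isPullback sq t') H

theorem exists_nhd_eq {X S : Scheme.{u}} (f : X ⟶ S) [IsProper f] [Flat f]
    [LocallyOfFinitePresentation f] (s : S)
    (hs : GeometricallyReduced (f.fiberToSpecResidueField s)) :
    ∃ V ∈ nhds s, ∀ z ∈ V, MoreMor.nGeomConnComp f z = MoreMor.nGeomConnComp f s := by
  obtain ⟨U, hU, hsU⟩ : ∃ U : S.Opens, IsAffineOpen U ∧ s ∈ U := by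
    obtain ⟨U, hU, hsU, -⟩ := exists_isAffineOpen_mem_and_subset (x := s) (U := ⊤) trivial
    exact ⟨U, hU, hsU⟩
  haveI : IsAffine (U : Scheme.{u}) := hU
  have hpbU : IsPullback (f ⁻¹ᵁ U).ι (f ∣_ U) f U.ι := (isPullback_morphismRestrict f U).flip
  obtain ⟨X₀, S₀, f₀, g, g', hpb, hN, hP, hF, hL⟩ :=
    Groth.Agent.Lib.R2H4NoethApprox.exists_proper_flat_model (f ∣_ U)
  have e1 : ∀ z : U, MoreMor.nGeomConnComp (f ∣_ U) z = MoreMor.nGeomConnComp f (U.ι z) :=
    fun z => Groth.Agent.Lib.Helper2.GeomFibBC.nGeomConnComp_eq f (f ∣_ U) _ U.ι hpbU z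
  have e2 : ∀ z : U, MoreMor.nGeomConnComp (f ∣_ U) z = MoreMor.nGeomConnComp f₀ (g z) :=
    fun z => Groth.Agent.Lib.Helper2.GeomFibBC.nGeomConnComp_eq f₀ (f ∣_ U) g' g hpb z
  haveI : IsLocallyNoetherian S₀ := hN.1
  have hredU : GeometricallyReduced ((f ∣_ U).fiberToSpecResidueField (⟨s, hsU⟩ : U)) :=
    geometricallyReduced_fiber_baseChange f (f ∣_ U) _ U.ι hpbU ⟨s, hsU⟩ hs
  have hred₀ : GeometricallyReduced (f₀.fiberToSpecResidueField (g.base (⟨s, hsU⟩ : U))) :=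
    Groth.Agent.Lib.H9GrD.geometricallyReduced_fiber_of_isPullback f₀ (f ∣_ U) g' g hpb _ hredU
  obtain ⟨V₀, hV₀, hV⟩ := Groth.Agent.Lib.H9NcG.main f₀ (g.base (⟨s, hsU⟩ : U))
    (fun x _ => Groth.Agent.Lib.Helper26.UnivOpenAt.isUnivOpenAt_of_universallyOpen f₀ x) hred₀
  refine ⟨U.ι '' (g ⁻¹' V₀), ?_, ?_⟩
  · have h1 : g ⁻¹' V₀ ∈ nhds (⟨s, hsU⟩ : U) := g.continuous.continuousAt hV₀
    have h2 := (U.ι.isOpenEmbedding.image_mem_nhds (x := (⟨s, hsU⟩ : U))).2 h1
    exact h2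
  · rintro _ ⟨z, hz, rfl⟩
    have hs' : U.ι (⟨s, hsU⟩ : U) = s := rfl
    rw [← e1 z, e2 z, ← hs', ← e1 ⟨s, hsU⟩, e2]
    exact hV _ hz

theorem isLocallyConstant {X S : Scheme.{u}} (f : X ⟶ S) [IsProper f] [Flat f]
    [LocallyOfFinitePresentation f] [GeometricallyReduced f] :
    IsLocallyConstant (fun s : ↑S => MoreMor.nGeomConnComp f s) := by
  rw [IsLocallyConstant.iff_eventually_eq]
  intro s
  obtain ⟨V, hV, h⟩ := exists_nhd_eq f s inferInstance
  exact Filter.mem_of_superset hV (fun z hz => h z hz)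

theorem isOpen_setOf {X Y : Scheme.{u}} (f : X ⟶ Y) [IsProper f] [Flat f]
    [LocallyOfFinitePresentation f] (k : ℕ) :
    IsOpen {y : Y | GeometricallyReduced (f.fiberToSpecResidueField y) ∧
      MoreMor.nGeomConnComp f y = k} := by
  rw [isOpen_iff_mem_nhds]
  rintro y ⟨hy1, hy2⟩
  have h1 := (Groth.Agent.Lib.H9GeomRedFibre.isOpen_geometricallyReduced_fibre f).mem_nhds hy1
  obtain ⟨V, hV, h⟩ := exists_nhd_eq f y hy1
  refine Filter.mem_of_superset (Filter.inter_mem h1 hV) ?_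
  rintro z ⟨hz1, hz2⟩
  exact ⟨hz1, (h z hz2).trans hy2⟩

end Groth.Agent.Lib.H9GrE
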