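import Mathlib
import Groth.Agent.Lib.H9EsG
import Groth.Agent.Lib.H9FinCov
import Groth.Agent.Lib.H9GrE
import Groth.Agent.Lib.R2H4NoethApprox
set_option backward.isDefEq.respectTransparency.types false

/-! helper9: étale Stein factorization over an arbitrary base (Theorem G). -/

set_option autoImplicit false
set_option linter.unusedSectionVars false
universe u

noncomputable section

namespace Groth.Agent.Lib.H9EsH

open CategoryTheory CategoryTheory.Limits AlgebraicGeometry TopologicalSpace Opposite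
open Groth.Agent.Lib.H9EsC Groth.Agent.Lib.H9EsE Groth.Agent.Lib.H9EsG

/-- reducedness descends along flat surjective morphisms -/
theorem isReduced_of_flat_surjective {X Y : Scheme.{u}} (ρ : X ⟶ Y) [Flat ρ] [Surjective ρ]
    [IsReduced X] : IsReduced Y :=
  ⟨fun U => isReduced_of_injective (ρ.app U).hom
    (Groth.Agent.Lib.H9FinCov.app_injective_of_flat_surjective ρ U)⟩

/-- reduced geometric fibres over algebraically closed fields ⇒ geometrically reduced -/
theorem geometricallyReduced_of_hR {X S : Scheme.{u}} (f : X ⟶ S) (hf : HR f) :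
    GeometricallyReduced f := by
  rw [geometricallyReduced_iff, geometrically_iff_of_isClosedUnderIsomorphisms]
  intro K _ y
  let j : Spec (CommRingCat.of (AlgebraicClosure K)) ⟶ Spec (CommRingCat.of K) :=
    Spec.map (CommRingCat.ofHom (algebraMap K (AlgebraicClosure K)))
  haveI : Flat j := Groth.Agent.Lib.H9SteinConn.flat_specMap K (AlgebraicClosure K)
  haveI : Surjective j := by
    refine ⟨fun x => ⟨IsLocalRing.closedPoint _, Subsingleton.elim _ _⟩⟩
  haveI := hf (AlgebraicClosure K) (j ≫ y)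
  haveI : IsReduced (pullback (pullback.snd f y) j) :=
    isReduced_of_isOpenImmersion (pullbackLeftPullbackSndIso f y j).hom
  exact isReduced_of_flat_surjective (pullback.fst (pullback.snd f y) j)


/-- restriction of a pullback square over an open of the base whose image lies in an open of
the target base -/
theorem isPullback_restrict {X S X₀ S₀ : Scheme.{u}} {f : X ⟶ S} {f₀ : X₀ ⟶ S₀} {g' : X ⟶ X₀}
    {g : S ⟶ S₀} (hpb : IsPullback g' f f₀ g) (U : S.Opens) (W : S₀.Opens)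
    (hUW : ∀ x : S, x ∈ U → g x ∈ W) :
    ∃ (c : pullback f U.ι ⟶ pullback f₀ W.ι) (τ : (U : Scheme.{u}) ⟶ (W : Scheme.{u})),
      IsPullback c (pullback.snd f U.ι) (pullback.snd f₀ W.ι) τ := by
  have hrange : Set.range (U.ι ≫ g) ⊆ Set.range W.ι := by
    rintro _ ⟨x, rfl⟩
    rw [Scheme.Opens.range_ι]
    exact hUW _ x.2
  let τ : (U : Scheme.{u}) ⟶ (W : Scheme.{u}) := IsOpenImmersion.lift W.ι (U.ι ≫ g) hrange
  have hτ : τ ≫ W.ι = U.ι ≫ g := IsOpenImmersion.lift_fac _ _ _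
  have hbig : IsPullback (pullback.fst f U.ι ≫ g') (pullback.snd f U.ι) f₀ (U.ι ≫ g) :=
    (IsPullback.of_hasPullback f U.ι).flip.paste_vert hpb.flip |>.flip
  let c : pullback f U.ι ⟶ pullback f₀ W.ι :=
    pullback.lift (pullback.fst f U.ι ≫ g') (pullback.snd f U.ι ≫ τ) (by
      rw [Category.assoc (pullback.snd f U.ι), hτ]
      exact hbig.w)
  refine ⟨c, τ, ?_⟩
  have hc1 : c ≫ pullback.fst f₀ W.ι = pullback.fst f U.ι ≫ g' := pullback.lift_fst _ _ _
  have hc2 : c ≫ pullback.snd f₀ W.ι = pullback.snd f U.ι ≫ τ := pullback.lift_snd _ _ _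
  refine (IsPullback.of_bot ?_ hc2.symm (IsPullback.of_hasPullback f₀ W.ι).flip).flip
  rw [hc1, hτ]
  exact hbig.flip



/-- `P` for an iterated restriction gives `P` for the restriction to the image open -/
theorem P_restrict_image {X S : Scheme.{u}} (f : X ⟶ S) (U₁ : S.Opens)
    (U₂ : (U₁ : Scheme.{u}).Opens) (h : P (pullback.snd (pullback.snd f U₁.ι) U₂.ι)) :
    P (pullback.snd f (U₁.ι ''ᵁ U₂).ι) := by
  let f₁ := pullback.snd f U₁.ι
  let e : ((U₁.ι ''ᵁ U₂ : S.Opens) : Scheme.{u}) ⟶ (U₂ : Scheme.{u}) := (U₁.ι.isoImage U₂).inv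
  have he : e ≫ U₂.ι ≫ U₁.ι = (U₁.ι ''ᵁ U₂).ι := by
    rw [← Scheme.Hom.isoImage_hom_ι, Iso.inv_hom_id_assoc]
  have hAB : IsPullback (pullback.fst f₁ U₂.ι ≫ pullback.fst f U₁.ι) (pullback.snd f₁ U₂.ι) f
      (U₂.ι ≫ U₁.ι) :=
    (IsPullback.of_hasPullback f₁ U₂.ι).paste_horiz (IsPullback.of_hasPullback f U₁.ι)
  let a : pullback f (U₁.ι ''ᵁ U₂).ι ⟶ pullback f₁ U₂.ι :=
    hAB.lift (pullback.fst f (U₁.ι ''ᵁ U₂).ι) (pullback.snd f (U₁.ι ''ᵁ U₂).ι ≫ e) (by
      rw [Category.assoc, he]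
      exact pullback.condition)
  have ha1 : a ≫ (pullback.fst f₁ U₂.ι ≫ pullback.fst f U₁.ι) =
      pullback.fst f (U₁.ι ''ᵁ U₂).ι := hAB.lift_fst _ _ _
  have ha2 : a ≫ pullback.snd f₁ U₂.ι = pullback.snd f (U₁.ι ''ᵁ U₂).ι ≫ e :=
    hAB.lift_snd _ _ _
  have hsq : IsPullback a (pullback.snd f (U₁.ι ''ᵁ U₂).ι) (pullback.snd f₁ U₂.ι) e := by
    refine IsPullback.of_right ?_ ha2 hAB
    rw [ha1, he]
    exact IsPullback.of_hasPullback f (U₁.ι ''ᵁ U₂).ι
  exact P.of_isPullback hsq h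

/-- locally on the base, there is an étale Stein factorization -/
theorem exists_nhd_P {X S : Scheme.{u}} (f : X ⟶ S) [IsProper f] [Flat f]
    [LocallyOfFinitePresentation f] (hf : HR f) (s : S) :
    ∃ U : S.Opens, s ∈ U ∧ P (pullback.snd f U.ι) := by
  haveI := geometricallyReduced_of_hR f hf
  obtain ⟨U₁, hU₁, hsU₁⟩ : ∃ U : S.Opens, IsAffineOpen U ∧ s ∈ U := by
    obtain ⟨U, hU, hsU, -⟩ := exists_isAffineOpen_mem_and_subset (x := s) (U := ⊤) trivial
    exact ⟨U, hU, hsU⟩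
  haveI : IsAffine (U₁ : Scheme.{u}) := hU₁
  let f₁ := pullback.snd f U₁.ι
  obtain ⟨X₀, S₀, f₀, g, g', hpb, hN, hP, hF, hL⟩ :=
    Groth.Agent.Lib.R2H4NoethApprox.exists_proper_flat_model f₁
  haveI : IsLocallyNoetherian S₀ := hN.1
  haveI := hP
  haveI := hF
  haveI := hL
  have hE₀ := Groth.Agent.Lib.H9GeomRedFibre.isOpen_geometricallyReduced_fibre f₀
  have hmem : ∀ z : (U₁ : Scheme.{u}),
      GeometricallyReduced (f₀.fiberToSpecResidueField (g z)) := by
    intro z
    refine Groth.Agent.Lib.H9GrD.geometricallyReduced_fiber_of_isPullback f₀ f₁ g' g hpb z ?_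
    exact inferInstanceAs (GeometricallyReduced (pullback.snd f₁ _))
  let E₀ : S₀.Opens := ⟨_, hE₀⟩
  obtain ⟨W, hW, hsW, hWE⟩ := exists_isAffineOpen_mem_and_subset
    (x := g (⟨s, hsU₁⟩ : U₁)) (U := E₀) (hmem _)
  haveI : IsAffine (W : Scheme.{u}) := hW
  -- the model over `W`
  let f₀W := pullback.snd f₀ W.ι
  haveI : GeometricallyReduced f₀W := by
    rw [geometricallyReduced_iff, geometrically_iff_forall_fiberToSpecResidueField]
    intro w
    rw [← geometricallyReduced_iff]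
    exact Groth.Agent.Lib.H9GrE.geometricallyReduced_fiber_baseChange f₀ f₀W
      (pullback.fst f₀ W.ι) W.ι (IsPullback.of_hasPullback f₀ W.ι) w (hWE w.2)
  have hPW : P f₀W := P.of_affine_noetherian f₀W (hR_of_geometricallyReduced f₀W)
  -- the neighbourhood
  let U₂ : (U₁ : Scheme.{u}).Opens := g ⁻¹ᵁ W
  obtain ⟨c, τ, hsq⟩ := isPullback_restrict hpb U₂ W (fun x hx => hx)
  have hP₂ : P (pullback.snd f₁ U₂.ι) := P.of_isPullback hsq hPW
  exact ⟨U₁.ι ''ᵁ U₂, ⟨⟨s, hsU₁⟩, hsW, rfl⟩, P_restrict_image f U₁ U₂ hP₂⟩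

/-- **Theorem G**: the Stein factorization of a proper flat finitely presented morphism with
reduced geometric fibres is finite étale, with geometrically connected first factor. -/
theorem main {X S : Scheme.{u}} (f : X ⟶ S) [IsProper f] [Flat f]
    [LocallyOfFinitePresentation f] (hf : HR f) : Q f := by
  refine Q_of_local f fun s => ?_
  obtain ⟨U, hsU, hP⟩ := exists_nhd_P f hf s
  exact ⟨U, hsU, Q_of_P _ hP⟩

end Groth.Agent.Lib.H9EsH


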