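import Mathlib

set_option autoImplicit false
universe u
open CategoryTheory CategoryTheory.Limits AlgebraicGeometry TopologicalSpace Opposite

namespace Groth.Agent.Lib.H9EtExt

/-- Extension of a morphism to affine space across a closed immersion into an affine scheme. -/
theorem exists_extension {X X₀ : Scheme.{u}} [IsAffine X] (j : X₀ ⟶ X) [IsClosedImmersion j]
    (R : Type u) [CommRing R] (n : ℕ)
    (m₀ : X₀ ⟶ Spec (.of (MvPolynomial (Fin n) R))) (pX : X ⟶ Spec (.of R))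
    (h : j ≫ pX = m₀ ≫ Spec.map (CommRingCat.ofHom (MvPolynomial.C (σ := Fin n) (R := R)))) :
    ∃ hX : X ⟶ Spec (.of (MvPolynomial (Fin n) R)),
      hX ≫ Spec.map (CommRingCat.ofHom (MvPolynomial.C (σ := Fin n) (R := R))) = pX ∧
        j ≫ hX = m₀ := by
  obtain ⟨-, hsurj⟩ := IsClosedImmersion.isAffine_surjective_of_isAffine j
  let ψ : CommRingCat.of R ⟶ Γ(X, ⊤) := (Scheme.ΓSpecIso (.of R)).inv ≫ pX.appTop
  let θ : CommRingCat.of (MvPolynomial (Fin n) R) ⟶ Γ(X₀, ⊤) :=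
    (Scheme.ΓSpecIso (.of (MvPolynomial (Fin n) R))).inv ≫ m₀.appTop
  choose a ha using fun k : Fin n => hsurj (θ.hom (MvPolynomial.X k))
  let hring : MvPolynomial (Fin n) R →+* Γ(X, ⊤) := MvPolynomial.eval₂Hom ψ.hom a
  have h1 : CommRingCat.ofHom (MvPolynomial.C (σ := Fin n) (R := R)) ≫ CommRingCat.ofHom hring
      = ψ := by
    ext r
    simp [hring]
  have h2 : CommRingCat.ofHom hring ≫ j.appTop = θ := by
    ext1
    apply MvPolynomial.ringHom_ext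
    · intro r
      have := congrArg (fun t => (Scheme.ΓSpecIso (.of R)).inv ≫ Scheme.Hom.appTop t) h
      simp only [Scheme.Hom.comp_appTop] at this
      have h3 : (ψ ≫ j.appTop) = CommRingCat.ofHom MvPolynomial.C ≫ θ := by
        simp only [ψ, θ, Category.assoc]
        rw [this, ← Category.assoc, ← Category.assoc, Scheme.ΓSpecIso_inv_naturality]
      have := congrArg (fun t => t.hom r) h3
      simpa [hring] using this
    · intro k
      simpa [hring] using ha k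
  refine ⟨X.toSpecΓ ≫ Spec.map (CommRingCat.ofHom hring), ?_, ?_⟩
  · rw [Category.assoc, ← Spec.map_comp, h1]
    apply ext_of_isAffine
    simp [ψ, Scheme.toSpecΓ_appTop, Scheme.ΓSpecIso_naturality]
  · apply ext_of_isAffine
    have : m₀.appTop = (Scheme.ΓSpecIso (.of (MvPolynomial (Fin n) R))).hom ≫ θ := by
      simp [θ]
    rw [this, ← h2]
    simp [Scheme.toSpecΓ_appTop, Scheme.ΓSpecIso_naturality]



theorem isOpenImmersion_section {Q X₀ : Scheme.{u}} (s : Q ⟶ X₀) [Etale s] (σ : X₀ ⟶ Q)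
    (hσ : σ ≫ s = 𝟙 X₀) : IsOpenImmersion σ := by
  haveI : Etale (σ ≫ s) := by rw [hσ]; infer_instance
  haveI : Etale σ := Etale.of_comp σ s
  haveI : Mono σ := mono_of_mono_fac hσ
  exact IsOpenImmersion.of_flat_of_mono σ

theorem exists_open_section {U₁ X X₀ : Scheme.{u}} (e₁ : U₁ ⟶ X) [Etale e₁] (j : X₀ ⟶ X)
    [IsClosedImmersion j] (σ : X₀ ⟶ pullback e₁ j) (hσ : σ ≫ pullback.snd e₁ j = 𝟙 X₀) :
    ∃ U' : U₁.Opens, IsIso (pullback.snd (U'.ι ≫ e₁) j) ∧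
      pullback.fst (U'.ι ≫ e₁) j ≫ U'.ι =
        pullback.snd (U'.ι ≫ e₁) j ≫ σ ≫ pullback.fst e₁ j := by
  haveI : IsOpenImmersion σ := isOpenImmersion_section (pullback.snd e₁ j) σ hσ
  have hemb : Topology.IsInducing (pullback.fst e₁ j).base :=
    (pullback.fst e₁ j).isClosedEmbedding.isEmbedding.isInducing
  obtain ⟨t, ht, hts⟩ := hemb.isOpen_iff.mp σ.opensRange.2
  let U' : U₁.Opens := ⟨t, ht⟩
  have hmem : ∀ z : ↥(pullback e₁ j), (pullback.fst e₁ j).base z ∈ t ↔ z ∈ Set.range σ.base := by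
    intro z
    have := Set.ext_iff.mp hts z
    simpa using this
  have hr : Set.range (σ ≫ pullback.fst e₁ j).base ⊆ Set.range U'.ι.base := by
    rintro _ ⟨x, rfl⟩
    rw [Scheme.Opens.range_ι]
    show (σ ≫ pullback.fst e₁ j).base x ∈ t
    rw [Scheme.Hom.comp_apply, hmem]
    exact ⟨x, rfl⟩
  let s' : X₀ ⟶ U' := IsOpenImmersion.lift U'.ι (σ ≫ pullback.fst e₁ j) hr
  have hs' : s' ≫ U'.ι = σ ≫ pullback.fst e₁ j := IsOpenImmersion.lift_fac _ _ _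
  have hcond : s' ≫ U'.ι ≫ e₁ = 𝟙 X₀ ≫ j := by
    rw [← Category.assoc, hs', Category.assoc, pullback.condition, ← Category.assoc, hσ]
  let τ : X₀ ⟶ pullback (U'.ι ≫ e₁) j := pullback.lift s' (𝟙 X₀) hcond
  let m : pullback (U'.ι ≫ e₁) j ⟶ pullback e₁ j :=
    pullback.lift (pullback.fst (U'.ι ≫ e₁) j ≫ U'.ι) (pullback.snd (U'.ι ≫ e₁) j)
      (by rw [Category.assoc, pullback.condition])
  have hm : Set.range m.base ⊆ Set.range σ.base := by
    rintro _ ⟨z, rfl⟩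
    rw [← hmem, ← Scheme.Hom.comp_apply]
    have : m ≫ pullback.fst e₁ j = pullback.fst (U'.ι ≫ e₁) j ≫ U'.ι := pullback.lift_fst _ _ _
    rw [this, Scheme.Hom.comp_apply]
    exact (pullback.fst (U'.ι ≫ e₁) j z).2
  let m' : pullback (U'.ι ≫ e₁) j ⟶ X₀ := IsOpenImmersion.lift σ m hm
  have hm' : m' ≫ σ = m := IsOpenImmersion.lift_fac _ _ _
  have hm'' : m' = pullback.snd (U'.ι ≫ e₁) j := by
    have : m' = m' ≫ σ ≫ pullback.snd e₁ j := by rw [hσ, Category.comp_id]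
    rw [this, ← Category.assoc, hm']
    exact pullback.lift_snd _ _ _
  have key : pullback.fst (U'.ι ≫ e₁) j ≫ U'.ι =
      pullback.snd (U'.ι ≫ e₁) j ≫ σ ≫ pullback.fst e₁ j := by
    rw [← hm'', ← Category.assoc, hm']
    exact (pullback.lift_fst _ _ _).symm
  refine ⟨U', ⟨τ, ?_, pullback.lift_snd _ _ _⟩, key⟩
  apply pullback.hom_ext
  · rw [Category.assoc, Category.id_comp, pullback.lift_fst, ← cancel_mono U'.ι, Category.assoc,
      hs', key]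
  · rw [Category.assoc, Category.id_comp, pullback.lift_snd, Category.comp_id]




theorem main {S X X₀ Y : Scheme.{u}} (j : X₀ ⟶ X) [IsClosedImmersion j]
    (p : X ⟶ S) (q : Y ⟶ S) [Smooth q] (f₀ : X₀ ⟶ Y) (hf₀ : f₀ ≫ q = j ≫ p) (x₀ : X₀) :
    ∃ (U : Scheme.{u}) (e : U ⟶ X) (f : U ⟶ Y), Etale e ∧ f ≫ q = e ≫ p ∧
      IsOpenImmersion (pullback.snd e j) ∧ x₀ ∈ Set.range (pullback.snd e j).base ∧
      pullback.snd e j ≫ f₀ = pullback.fst e j ≫ f := by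
  obtain ⟨W, hW, V, hV, hyV, hVW, hsm⟩ := Smooth.exists_isStandardSmooth q (f₀ x₀)
  obtain ⟨n, g, hgC, hg⟩ := hsm.exists_etale_mvPolynomial
  -- choose the affine open `X'`
  have hind : Topology.IsInducing j.base := j.isClosedEmbedding.isEmbedding.isInducing
  obtain ⟨O, hO, hOV⟩ := hind.isOpen_iff.mp (f₀ ⁻¹ᵁ V).2
  have hxO : j x₀ ∈ O := by
    have : x₀ ∈ j.base ⁻¹' O := by rw [hOV]; exact hyV
    exact this
  have hxW : j x₀ ∈ p ⁻¹ᵁ W := by
    show p (j x₀) ∈ W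
    rw [← Scheme.Hom.comp_apply, ← hf₀, Scheme.Hom.comp_apply]
    exact hVW hyV
  obtain ⟨(X' : X.Opens), hX'aff, hxX', hX'le⟩ := TopologicalSpace.Opens.isBasis_iff_nbhd.mp
    X.isBasis_affineOpens (U := (⟨O, hO⟩ : X.Opens) ⊓ p ⁻¹ᵁ W) ⟨hxO, hxW⟩
  have hX'W : X' ≤ p ⁻¹ᵁ W := hX'le.trans inf_le_right
  have hX'V : j ⁻¹ᵁ X' ≤ f₀ ⁻¹ᵁ V := by
    intro z hz
    have h1 : j z ∈ O := (hX'le hz).1
    have : z ∈ j.base ⁻¹' O := h1
    rw [hOV] at this
    exact this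
  haveI : IsAffine X'.toScheme := hX'aff
  -- the étale chart of `V`
  let gV : V.toScheme ⟶ Spec (.of (MvPolynomial (Fin n) Γ(S, W))) :=
    V.toSpecΓ ≫ Spec.map (CommRingCat.ofHom g)
  haveI : IsIso V.toSpecΓ := by rw [← hV.isoSpec_hom]; infer_instance
  haveI : Etale (Spec.map (CommRingCat.ofHom g)) :=
    (HasRingHomProperty.Spec_iff (P := @Etale)).mpr hg
  haveI : Etale gV := by dsimp only [gV]; infer_instance
  have hCg : CommRingCat.ofHom (MvPolynomial.C (σ := Fin n) (R := Γ(S, W))) ≫ CommRingCat.ofHom g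
      = q.appLE W V hVW := by
    ext1
    exact hgC
  have hgVq : gV ≫ Spec.map (CommRingCat.ofHom (MvPolynomial.C (σ := Fin n) (R := Γ(S, W)))) ≫
      hW.fromSpec = V.ι ≫ q := by
    dsimp only [gV]
    rw [Category.assoc, ← Spec.map_comp_assoc, hCg, Scheme.Opens.toSpecΓ_SpecMap_appLE_assoc,
      hW.toSpecΓ_fromSpec, Scheme.Hom.resLE_comp_ι]
  let pX' : X'.toScheme ⟶ Spec (.of Γ(S, W)) := X'.toSpecΓ ≫ Spec.map (p.appLE W X' hX'W)
  have hpX' : pX' ≫ hW.fromSpec = X'.ι ≫ p := by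
    dsimp only [pX']
    rw [Category.assoc, Scheme.Opens.toSpecΓ_SpecMap_appLE_assoc, hW.toSpecΓ_fromSpec,
      Scheme.Hom.resLE_comp_ι]
  let j' : (j ⁻¹ᵁ X').toScheme ⟶ X'.toScheme := j ∣_ X'
  haveI : IsClosedImmersion j' := by dsimp only [j']; infer_instance
  have hrange : Set.range ((j ⁻¹ᵁ X').ι ≫ f₀).base ⊆ Set.range V.ι.base := by
    rintro _ ⟨z, rfl⟩
    rw [Scheme.Opens.range_ι, Scheme.Hom.comp_apply]
    exact hX'V z.2
  let f₀' : (j ⁻¹ᵁ X').toScheme ⟶ V.toScheme := IsOpenImmersion.lift V.ι ((j ⁻¹ᵁ X').ι ≫ f₀) hrange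
  have hf₀' : f₀' ≫ V.ι = (j ⁻¹ᵁ X').ι ≫ f₀ := IsOpenImmersion.lift_fac _ _ _
  have hj' : j' ≫ X'.ι = (j ⁻¹ᵁ X').ι ≫ j := morphismRestrict_ι j X'
  have hc1 : j' ≫ pX' ≫ hW.fromSpec = (j ⁻¹ᵁ X').ι ≫ j ≫ p := by
    rw [hpX', ← Category.assoc, hj', Category.assoc]
  have hc2 : f₀' ≫ gV ≫ Spec.map (CommRingCat.ofHom (MvPolynomial.C (σ := Fin n) (R := Γ(S, W)))) ≫
      hW.fromSpec = (j ⁻¹ᵁ X').ι ≫ j ≫ p := by
    rw [hgVq, ← Category.assoc, hf₀', Category.assoc, hf₀]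
  have hcond : j' ≫ pX' = (f₀' ≫ gV) ≫
      Spec.map (CommRingCat.ofHom (MvPolynomial.C (σ := Fin n) (R := Γ(S, W)))) := by
    rw [← cancel_mono hW.fromSpec]
    simp only [Category.assoc]
    rw [hc1, hc2]
  obtain ⟨hX, hXC, hXj⟩ := exists_extension j' Γ(S, W) n (f₀' ≫ gV) pX' hcond
  -- the étale neighbourhood before shrinking
  let e₁ : pullback hX gV ⟶ X'.toScheme := pullback.fst hX gV
  let f₁ : pullback hX gV ⟶ V.toScheme := pullback.snd hX gV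
  have hef : f₁ ≫ V.ι ≫ q = e₁ ≫ X'.ι ≫ p := by
    rw [← hgVq, ← hpX', ← hXC]
    simp only [e₁, f₁, Category.assoc]
    rw [pullback.condition_assoc]
  let σ₁ : (j ⁻¹ᵁ X').toScheme ⟶ pullback hX gV := pullback.lift j' f₀' hXj
  have hσ₁e : σ₁ ≫ e₁ = j' := pullback.lift_fst _ _ _
  have hσ₁f : σ₁ ≫ f₁ = f₀' := pullback.lift_snd _ _ _
  let σ : (j ⁻¹ᵁ X').toScheme ⟶ pullback e₁ j' :=
    pullback.lift σ₁ (𝟙 _) (by rw [hσ₁e, Category.id_comp])
  have hσ : σ ≫ pullback.snd e₁ j' = 𝟙 _ := pullback.lift_snd _ _ _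
  have hσfst : σ ≫ pullback.fst e₁ j' = σ₁ := pullback.lift_fst _ _ _
  obtain ⟨U', hiso, hkey⟩ := exists_open_section e₁ j' σ hσ
  -- the final étale neighbourhood
  have hpb : IsPullback (pullback.fst (U'.ι ≫ e₁) j') (pullback.snd (U'.ι ≫ e₁) j' ≫ (j ⁻¹ᵁ X').ι)
      ((U'.ι ≫ e₁) ≫ X'.ι) j :=
    (IsPullback.of_hasPullback (U'.ι ≫ e₁) j').paste_vert (isPullback_morphismRestrict j X')
  refine ⟨U'.toScheme, (U'.ι ≫ e₁) ≫ X'.ι, U'.ι ≫ f₁ ≫ V.ι, inferInstance, ?_, ?_, ?_, ?_⟩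
  · simp only [Category.assoc]
    rw [hef]
  · rw [← hpb.isoPullback_inv_snd]
    infer_instance
  · have hx₀ : x₀ ∈ j ⁻¹ᵁ X' := hxX'
    let z := (inv (pullback.snd (U'.ι ≫ e₁) j')) ⟨x₀, hx₀⟩
    refine ⟨hpb.isoPullback.hom z, ?_⟩
    rw [← Scheme.Hom.comp_apply, hpb.isoPullback_hom_snd, Scheme.Hom.comp_apply]
    have : (pullback.snd (U'.ι ≫ e₁) j') z = ⟨x₀, hx₀⟩ := by
      dsimp only [z]
      rw [← Scheme.Hom.comp_apply, IsIso.inv_hom_id]
      rfl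
    rw [this]
    rfl
  · rw [← cancel_epi hpb.isoPullback.hom, hpb.isoPullback_hom_snd_assoc,
      hpb.isoPullback_hom_fst_assoc, reassoc_of% hkey, reassoc_of% hσfst, reassoc_of% hσ₁f, hf₀',
      Category.assoc]


end Groth.Agent.Lib.H9EtExt
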