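import Mathlib
import Groth.Agent.Lib.H9SteinAlg
import Groth.Agent.Lib.H9SteinConn
import Groth.Agent.Lib.Helper4UnibranchSch

/-! helper9: S7809. `subsingleton_primeSpectrum` (integral algebra over a field with only trivial idempotents has ≤ 1 prime), `isProper_toNormalization`/`surjective_toNormalization` (any base, f proper), `subsingleton_pullback` (f proper + geometrically connected: geometric fibres of the Stein factor are single points), `universallyInjective_fromNormalization`, `main` (Stein factor → S is a universal homeomorphism). -/

set_option autoImplicit false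
universe u

namespace Groth.Agent.Lib.H9SteinUH

open CategoryTheory CategoryTheory.Limits AlgebraicGeometry TopologicalSpace Opposite
open Groth.Agent.Lib.H9SteinAlg

/-- an integral algebra over a field with only trivial idempotents has at most one prime -/
theorem subsingleton_primeSpectrum {K R : Type*} [Field K] [CommRing R] (φ : K →+* R)
    (hφ : φ.IsIntegral) (h : TrivIdem R) : Subsingleton (PrimeSpectrum R) := by
  letI := φ.toAlgebra
  have key : ∀ p q : PrimeSpectrum R, p.asIdeal ≤ q.asIdeal := by
    intro p q a ha
    have hint : IsIntegral K a := hφ a
    let S : Subalgebra K R := Algebra.adjoin K {a}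
    haveI : Module.Finite K S := by
      have := hint.fg_adjoin_singleton
      exact Module.Finite.iff_fg.mpr this
    haveI : IsArtinianRing S := IsArtinianRing.of_finite K S
    have hS : TrivIdem S := by
      intro e he
      have he' : IsIdempotentElem (e : R) := by
        have := congrArg Subtype.val he.eq
        exact this
      rcases h _ he' with h0 | h1
      · left; exact Subtype.ext h0
      · right; exact Subtype.ext h1
    let p' : Ideal S := p.asIdeal.comap S.val
    let q' : Ideal S := q.asIdeal.comap S.val
    haveI : p'.IsPrime := Ideal.comap_isPrime _ _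
    haveI : q'.IsPrime := Ideal.comap_isPrime _ _
    have heq : p' = q' := prime_unique_of_trivIdem hS p' q'
    have haS : a ∈ S := Algebra.subset_adjoin (Set.mem_singleton a)
    have h1 : (⟨a, haS⟩ : S) ∈ p' := ha
    rw [heq] at h1
    exact h1
  exact ⟨fun p q => PrimeSpectrum.ext (le_antisymm (key p q) (key q p))⟩

end Groth.Agent.Lib.H9SteinUH

namespace Groth.Agent.Lib.H9SteinUH

open CategoryTheory CategoryTheory.Limits AlgebraicGeometry TopologicalSpace Opposite
open Groth.Agent.Lib.H9SteinAlg

variable {X S : Scheme.{u}} (f : X ⟶ S) [IsProper f]

theorem isProper_toNormalization : IsProper f.toNormalization := by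
  have h : IsProper (f.toNormalization ≫ f.fromNormalization) := by
    rw [Scheme.Hom.toNormalization_fromNormalization]; infer_instance
  exact IsProper.of_comp f.toNormalization f.fromNormalization

theorem surjective_toNormalization : Surjective f.toNormalization := by
  haveI := isProper_toNormalization f
  have hcl : IsClosedMap f.toNormalization.base := f.toNormalization.isClosedMap
  have hd : DenseRange f.toNormalization.base := f.toNormalization.denseRange
  have h1 : IsClosed (Set.range f.toNormalization.base) := hcl.isClosed_range
  refine ⟨?_⟩
  rw [← Set.range_eq_univ, ← h1.closure_eq]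
  exact hd.closure_range

/-- geometric fibres of the Stein factor of a geometrically connected proper morphism are
single points -/
theorem subsingleton_pullback [GeometricallyConnected f] (K : Type u) [Field K]
    (σ : Spec (CommRingCat.of K) ⟶ S) : Subsingleton ↥(pullback f.fromNormalization σ) := by
  haveI : ConnectedSpace ↥(pullback f σ) :=
    GeometricallyConnected.geometrically_connectedSpace (f := f) σ _ _
      (IsPullback.of_hasPullback f σ)
  -- the comparison map
  let ψ : pullback f σ ⟶ pullback f.fromNormalization σ :=
    pullback.map _ _ _ _ f.toNormalization (𝟙 _) (𝟙 _) (by simp) (by simp)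
  have hsq : IsPullback (pullback.fst f σ) ψ f.toNormalization
      (pullback.fst f.fromNormalization σ) := by
    refine IsPullback.of_bot ?_ (by simp [ψ, pullback.lift_fst]) (IsPullback.of_hasPullback f.fromNormalization σ)
    have : ψ ≫ pullback.snd f.fromNormalization σ = pullback.snd f σ := by
      simp [ψ, pullback.lift_snd]
    rw [this, Scheme.Hom.toNormalization_fromNormalization]
    exact IsPullback.of_hasPullback f σ
  haveI := surjective_toNormalization f
  haveI : Surjective ψ := MorphismProperty.of_isPullback hsq inferInstance
  haveI : ConnectedSpace ↥(pullback f.fromNormalization σ) :=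
    Function.Surjective.connectedSpace ψ.surjective ψ.continuous
  -- affine and integral over `K`
  haveI : IsAffine (pullback f.fromNormalization σ) :=
    isAffine_of_isAffineHom (pullback.snd f.fromNormalization σ)
  have hint : (pullback.snd f.fromNormalization σ).appTop.hom.IsIntegral :=
    IsIntegralHom.isIntegral_app (pullback.snd f.fromNormalization σ) ⊤ (isAffineOpen_top _)
  obtain ⟨-, hti⟩ := (Groth.Agent.Lib.H9SteinConn.connectedSpace_iff_trivIdem _).mp
    (inferInstance : ConnectedSpace ↥(pullback f.fromNormalization σ))
  have hsurj : Function.Surjective (Scheme.ΓSpecIso (CommRingCat.of K)).inv.hom :=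
    (ConcreteCategory.bijective_of_isIso (Scheme.ΓSpecIso (CommRingCat.of K)).inv).surjective
  have hφ : ((pullback.snd f.fromNormalization σ).appTop.hom.comp
      (Scheme.ΓSpecIso (CommRingCat.of K)).inv.hom).IsIntegral :=
    RingHom.IsIntegral.trans _ _ (RingHom.isIntegral_of_surjective _ hsurj) hint
  haveI : Subsingleton ↥(Spec Γ(pullback f.fromNormalization σ, ⊤)) :=
    subsingleton_primeSpectrum _ hφ hti
  exact (pullback f.fromNormalization σ).isoSpec.hom.homeomorph.injective.subsingleton

end Groth.Agent.Lib.H9SteinUH

namespace Groth.Agent.Lib.H9SteinUH

open CategoryTheory CategoryTheory.Limits AlgebraicGeometry TopologicalSpace Opposite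
open Groth.Agent.Lib.H9SteinAlg

variable {X S : Scheme.{u}} (f : X ⟶ S) [IsProper f]

theorem universallyInjective_fromNormalization [GeometricallyConnected f] :
    UniversallyInjective f.fromNormalization := by
  rw [universallyInjective_iff]
  intro Z T i₁ i₂ π' h z₁ z₂ hz
  let t : T := π' z₁
  let τ : Spec (T.residueField t) ⟶ T := T.fromSpecResidueField t
  have hτ : τ (IsLocalRing.closedPoint (T.residueField t)) = t :=
    Scheme.fromSpecResidueField_apply t _
  obtain ⟨w₁, hw₁, -⟩ := Scheme.Pullback.exists_preimage_pullback (f := π') (g := τ) z₁
    (IsLocalRing.closedPoint (T.residueField t)) hτ.symm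
  obtain ⟨w₂, hw₂, -⟩ := Scheme.Pullback.exists_preimage_pullback (f := π') (g := τ) z₂
    (IsLocalRing.closedPoint (T.residueField t)) (hz.symm.trans hτ.symm)
  have hpb : IsPullback (pullback.fst π' τ ≫ i₁) (pullback.snd π' τ) f.fromNormalization
      (τ ≫ i₂) := (IsPullback.of_hasPullback π' τ).paste_horiz h.flip
  haveI : Subsingleton ↥(pullback f.fromNormalization (τ ≫ i₂)) :=
    subsingleton_pullback f (T.residueField t) (τ ≫ i₂)
  haveI : Subsingleton ↥(pullback π' τ) :=
    hpb.isoPullback.hom.homeomorph.injective.subsingleton
  rw [← hw₁, ← hw₂, Subsingleton.elim w₁ w₂]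

theorem main [GeometricallyConnected f] : FlatMor.IsUnivHomeo f.fromNormalization := by
  haveI := universallyInjective_fromNormalization f
  haveI : Surjective f.fromNormalization := by
    have h : Surjective (f.toNormalization ≫ f.fromNormalization) := by
      rw [Scheme.Hom.toNormalization_fromNormalization]; infer_instance
    exact Surjective.of_comp f.toNormalization f.fromNormalization
  exact Groth.Agent.Lib.Helper4.UnibranchSch.isUnivHomeo_of_isIntegralHom f.fromNormalization

end Groth.Agent.Lib.H9SteinUH
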