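import Mathlib
import Groth.Agent.Lib.H9EsH
import Groth.Agent.Lib.H9SteinUH
import Groth.Agent.Lib.H9EtExt
import Groth.Agent.Lib.H9SteinSm
set_option backward.isDefEq.respectTransparency.types false

/-! helper9: consequences of Theorem G: base change of the Stein factorization (S7857),
geometric integrality of proper smooth morphisms with a section (S7791). -/

set_option autoImplicit false
set_option linter.unusedSectionVars false
universe u

noncomputable section

namespace Groth.Agent.Lib.H9EsI

open CategoryTheory CategoryTheory.Limits AlgebraicGeometry TopologicalSpace Opposite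
open Groth.Agent.Lib.H9EsC Groth.Agent.Lib.H9EsE Groth.Agent.Lib.H9EsG

section BaseChange

variable {X S T : Scheme.{u}} (f : X ⟶ S) [IsProper f] [Flat f] [LocallyOfFinitePresentation f]

/-- **S7857** -/
theorem isIso_normalizationPullback (hf : HR f) (g : T ⟶ S) :
    IsIso (f.normalizationPullback g) := by
  obtain ⟨hfin, het, hc⟩ := Groth.Agent.Lib.H9EsH.main f hf
  haveI := hfin
  haveI := het
  haveI hprop := Groth.Agent.Lib.H9SteinUH.isProper_toNormalization f
  have hfac : f.toNormalization ≫ f.fromNormalization = f :=
    f.toNormalization_fromNormalization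
  haveI : Flat (f.toNormalization ≫ f.fromNormalization) := by rw [hfac]; infer_instance
  haveI : LocallyOfFinitePresentation (f.toNormalization ≫ f.fromNormalization) := by
    rw [hfac]; infer_instance
  haveI hflat : Flat f.toNormalization := flat_of_comp_etale f.toNormalization f.fromNormalization
  haveI hlfp : LocallyOfFinitePresentation f.toNormalization :=
    lfp_of_comp_etale f.toNormalization f.fromNormalization
  have hr : HR f.toNormalization :=
    hR_of_comp_etale f.toNormalization f.fromNormalization (by rw [hfac]; exact hf)
  -- the comparison map is a base change of `f.toNormalization`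
  let m : pullback f g ⟶ pullback f.fromNormalization g :=
    pullback.map _ _ _ _ f.toNormalization (𝟙 _) (𝟙 _) (by simp) (by simp)
  have hsq : IsPullback (pullback.fst f g) m f.toNormalization
      (pullback.fst f.fromNormalization g) := by
    refine IsPullback.of_bot ?_ (by simp [m, pullback.lift_fst])
      (IsPullback.of_hasPullback f.fromNormalization g)
    have : m ≫ pullback.snd f.fromNormalization g = pullback.snd f g := by
      simp [m, pullback.lift_snd]
    rw [this, Scheme.Hom.toNormalization_fromNormalization]
    exact IsPullback.of_hasPullback f g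
  haveI : IsProper m := MorphismProperty.of_isPullback hsq hprop
  haveI : Flat m := MorphismProperty.of_isPullback hsq hflat
  haveI : LocallyOfFinitePresentation m := MorphismProperty.of_isPullback hsq hlfp
  have hiso : ∀ V, IsIso (m.app V) :=
    Groth.Agent.Lib.H9CbI.main m (fun K _ _ σ =>
      ⟨hr.of_isPullback hsq K σ, hc.of_isPullback hsq K σ⟩)
  exact Groth.Agent.Lib.H9EsF.isIso_normalizationDesc (pullback.snd f g) m
    (pullback.snd f.fromNormalization g) _ hiso

end BaseChange


section Smooth

/-- connected geometric fibres over algebraically closed fields ⇒ geometrically connected -/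
theorem geometricallyConnected_of_hC {X S : Scheme.{u}} (f : X ⟶ S) (hf : HC f) :
    GeometricallyConnected f := by
  rw [geometricallyConnected_iff, geometrically_iff_of_isClosedUnderIsomorphisms]
  intro K _ y
  let j : Spec (CommRingCat.of (AlgebraicClosure K)) ⟶ Spec (CommRingCat.of K) :=
    Spec.map (CommRingCat.ofHom (algebraMap K (AlgebraicClosure K)))
  haveI : Surjective j := by
    refine ⟨fun x => ⟨IsLocalRing.closedPoint _, Subsingleton.elim _ _⟩⟩
  haveI := hf (AlgebraicClosure K) (j ≫ y)
  haveI : ConnectedSpace ↥(pullback (pullback.snd f y) j) :=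
    (pullbackLeftPullbackSndIso f y j).hom.homeomorph.symm.surjective.connectedSpace
      (pullbackLeftPullbackSndIso f y j).hom.homeomorph.symm.continuous
  exact (pullback.fst (pullback.snd f y) j).surjective.connectedSpace
    (pullback.fst (pullback.snd f y) j).continuous

/-- a smooth proper geometrically connected morphism is geometrically integral -/
theorem geometricallyIntegral_of_smooth {X S : Scheme.{u}} (f : X ⟶ S) [IsProper f] [Smooth f]
    [GeometricallyConnected f] : GeometricallyIntegral f := by
  constructor
  intro K _ y Z fst snd h
  haveI : ConnectedSpace ↥Z :=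
    GeometricallyConnected.geometrically_connectedSpace (f := f) y fst snd h
  haveI : Smooth snd := MorphismProperty.of_isPullback h inferInstance
  haveI : IsProper snd := MorphismProperty.of_isPullback h inferInstance
  haveI : IsLocallyNoetherian Z := LocallyOfFiniteType.isLocallyNoetherian snd
  haveI : CompactSpace ↥Z := (quasiCompact_iff_compactSpace snd).mp inferInstance
  haveI : IsNoetherian Z := {}
  exact Groth.Agent.Lib.Helper11SmInt.isIntegral_of_connected_of_isDomain_stalk
    (fun x => Groth.Agent.Lib.Helper11SmInt.isDomain_stalk_of_smooth K snd x)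

/-- **S7791** -/
theorem geometricallyIntegral_of_section {X S : Scheme.{u}} (f : X ⟶ S) [Smooth f] [IsProper f]
    [ConnectedSpace X] [ConnectedSpace S] (σ : S ⟶ X) (hσ : σ ≫ f = 𝟙 S) :
    GeometricallyIntegral f := by
  haveI := Groth.Agent.Lib.H9SteinSm.geometricallyReduced_of_smooth f
  obtain ⟨hfin, het, hc⟩ := Groth.Agent.Lib.H9EsH.main f (hR_of_geometricallyReduced f)
  haveI := hfin
  haveI := het
  have hfac : f.toNormalization ≫ f.fromNormalization = f :=
    f.toNormalization_fromNormalization
  -- the induced section of the Stein factor
  let σ' : S ⟶ f.normalization := σ ≫ f.toNormalization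
  have hσ' : σ' ≫ f.fromNormalization = 𝟙 S := by
    rw [Category.assoc, hfac, hσ]
  haveI : IsOpenImmersion σ' := Groth.Agent.Lib.H9EtExt.isOpenImmersion_section _ σ' hσ'
  haveI : IsClosedImmersion (σ' ≫ f.fromNormalization) := by rw [hσ']; infer_instance
  haveI : IsClosedImmersion σ' := IsClosedImmersion.of_comp σ' f.fromNormalization
  haveI := Groth.Agent.Lib.H9SteinUH.surjective_toNormalization f
  haveI : ConnectedSpace ↥f.normalization :=
    f.toNormalization.surjective.connectedSpace f.toNormalization.continuous
  haveI : Surjective σ' := by
    have hclopen : IsClopen (Set.range σ') :=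
      ⟨σ'.isClosedEmbedding.isClosed_range, σ'.isOpenEmbedding.isOpen_range⟩
    have hne : (Set.range σ').Nonempty := Set.range_nonempty _
    have := IsClopen.eq_univ hclopen hne
    exact ⟨Set.range_eq_univ.mp this⟩
  haveI : Mono σ' := mono_of_mono_fac hσ'
  haveI : IsIso σ' := Flat.isIso_of_surjective_of_mono σ'
  haveI : IsIso f.fromNormalization := by
    have : f.fromNormalization = inv σ' := by
      rw [← Category.comp_id (inv σ'), ← hσ', IsIso.inv_hom_id_assoc]
    rw [this]
    infer_instance
  have hsq : IsPullback (𝟙 X) f f.toNormalization (inv f.fromNormalization) :=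
    IsPullback.of_horiz_isIso ⟨by
      rw [Category.id_comp, IsIso.eq_comp_inv]
      exact hfac⟩
  haveI := geometricallyConnected_of_hC f (hc.of_isPullback hsq)
  exact geometricallyIntegral_of_smooth f

end Smooth

end Groth.Agent.Lib.H9EsI
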