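import Mathlib
import Groth.Prelude

/-!
# Separated + universally closed + essentially of finite type ⇒ proper (Noetherian not needed)

* `finiteType_of_isOpen_range`: a localization `C → M⁻¹C` whose image on spectra is open is of
  finite type.
* `isOpen_range_of_universallyClosed`: for `h : X ⟶ T` separated and universally closed, an open
  `V ⊆ X` and a dominant preimmersion `j : V ⟶ Y` over `T` with `Y` separated over `T`, the image
  of `j` is open.
* `main`: S18199.
-/

universe u

open CategoryTheory CategoryTheory.Limits AlgebraicGeometry Topology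

namespace Groth.Agent.Lib.H9EssFTProper

section Ring

variable {C B : Type*} [CommRing C] [CommRing B] [Algebra C B]

/-- a localization whose image on prime spectra is open is of finite type -/
theorem finiteType_of_isOpen_range (M : Submonoid C) [IsLocalization M B]
    (hO : IsOpen (Set.range (PrimeSpectrum.comap (algebraMap C B)))) : Algebra.FiniteType C B := by
  classical
  have hrange : Set.range (PrimeSpectrum.comap (algebraMap C B)) =
      {p | Disjoint (M : Set C) p.asIdeal} := PrimeSpectrum.localization_comap_range B M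
  set O := Set.range (PrimeSpectrum.comap (algebraMap C B)) with hOdef
  set I : Ideal C := PrimeSpectrum.vanishingIdeal Oᶜ with hI
  have hzI : PrimeSpectrum.zeroLocus (I : Set C) = Oᶜ := by
    rw [hI, PrimeSpectrum.zeroLocus_vanishingIdeal_eq_closure, hO.isClosed_compl.closure_eq]
  -- `I B = B`
  have hmap : Ideal.map (algebraMap C B) I = ⊤ := by
    by_contra hne
    obtain ⟨𝔪, h𝔪, hle⟩ := Ideal.exists_le_maximal _ hne
    haveI := h𝔪.isPrime
    have h1 : PrimeSpectrum.comap (algebraMap C B) ⟨𝔪, inferInstance⟩ ∈ O := ⟨_, rfl⟩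
    have h2 : PrimeSpectrum.comap (algebraMap C B) ⟨𝔪, inferInstance⟩ ∈ Oᶜ := by
      rw [← hzI, PrimeSpectrum.mem_zeroLocus]
      intro c hc
      show algebraMap C B c ∈ 𝔪
      exact hle (Ideal.mem_map_of_mem _ hc)
    exact h2 h1
  -- an element of `M ∩ I`
  obtain ⟨m₀, hm₀M, hm₀I⟩ : ∃ m₀ : C, m₀ ∈ M ∧ m₀ ∈ I := by
    have h1 : (1 : B) ∈ Ideal.map (algebraMap C B) I := by rw [hmap]; trivial
    rw [IsLocalization.mem_map_algebraMap_iff M] at h1
    obtain ⟨⟨⟨c, hc⟩, ⟨m, hm⟩⟩, h⟩ := h1
    simp only [one_mul] at h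
    obtain ⟨⟨m', hm'⟩, h'⟩ := (IsLocalization.eq_iff_exists M B).1 h
    exact ⟨m' * m, M.mul_mem hm' hm, by
      have : m' * m = m' * c := h'
      rw [this]; exact I.mul_mem_left _ hc⟩
  -- every element of `M` divides a power of `m₀`
  have hdiv : ∀ m ∈ M, ∃ (k : ℕ) (r : C), m₀ ^ k = r * m := by
    intro m hm
    have h1 : m₀ ∈ (Ideal.span {m}).radical := by
      rw [Ideal.radical_eq_sInf, Ideal.mem_sInf]
      rintro 𝔭 ⟨h𝔭le, h𝔭⟩
      have hm𝔭 : m ∈ 𝔭 := h𝔭le (Ideal.subset_span rfl)
      have hnot : (⟨𝔭, h𝔭⟩ : PrimeSpectrum C) ∉ O := by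
        rw [hrange]
        intro hdis
        exact Set.disjoint_left.1 hdis hm hm𝔭
      have : (⟨𝔭, h𝔭⟩ : PrimeSpectrum C) ∈ PrimeSpectrum.zeroLocus (I : Set C) := by
        rw [hzI]; exact hnot
      exact (PrimeSpectrum.mem_zeroLocus _ _).1 this hm₀I
    obtain ⟨k, hk⟩ := h1
    obtain ⟨r, hr⟩ := Ideal.mem_span_singleton'.1 hk
    exact ⟨k, r, hr.symm⟩
  -- `B` is generated by `1 / m₀`
  set v : B := IsLocalization.mk' B (1 : C) (⟨m₀, hm₀M⟩ : M) with hv
  have huv : algebraMap C B m₀ * v = 1 := by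
    rw [hv, mul_comm]
    exact (IsLocalization.mk'_spec B (1 : C) (⟨m₀, hm₀M⟩ : M)).trans (map_one _)
  refine ⟨⟨{v}, ?_⟩⟩
  rw [eq_top_iff]
  intro b _
  obtain ⟨x, ⟨m, hm⟩, rfl⟩ := IsLocalization.exists_mk'_eq M b
  obtain ⟨k, r, hr⟩ := hdiv m hm
  have h1 : IsLocalization.mk' B x (⟨m, hm⟩ : M) = algebraMap C B (x * r) * v ^ k := by
    rw [IsLocalization.mk'_eq_iff_eq_mul]
    show algebraMap C B x = algebraMap C B (x * r) * v ^ k * algebraMap C B m
    have h2 : algebraMap C B r * algebraMap C B m = algebraMap C B m₀ ^ k := by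
      rw [← map_mul, ← hr, map_pow]
    calc algebraMap C B x = algebraMap C B x * (algebraMap C B m₀ * v) ^ k := by
          rw [huv, one_pow, mul_one]
      _ = algebraMap C B x * (algebraMap C B r * algebraMap C B m) * v ^ k := by
          rw [mul_pow, h2]; ring
      _ = algebraMap C B (x * r) * v ^ k * algebraMap C B m := by
          rw [map_mul]; ring
  rw [h1]
  refine Subalgebra.mul_mem _ (Subalgebra.algebraMap_mem _ _) (Subalgebra.pow_mem _ ?_ _)
  exact Algebra.subset_adjoin (by simp)

end Ring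

section Geom

theorem closure_inter_range_subset {A P V : Scheme.{u}} (e : A ⟶ P) (he : IsEmbedding e)
    (s : V ⟶ A) (hs : IsClosed (Set.range s)) :
    closure (Set.range (s ≫ e)) ∩ Set.range e ⊆ Set.range (s ≫ e) := by
  rintro z ⟨hz, a, rfl⟩
  have h1 : Set.range (s ≫ e) = e '' Set.range s := by
    rw [← Set.range_comp]; rfl
  rw [h1] at hz ⊢
  have h2 : a ∈ closure (Set.range s) := by
    rw [he.closure_eq_preimage_closure_image]; exact hz
  rw [hs.closure_eq] at h2
  exact ⟨a, h2, rfl⟩

/-- the image of a dominant preimmersion from an open of a separated universally closed `T`-scheme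
into a separated `T`-scheme is open -/
theorem isOpen_range_of_universallyClosed {X T Y : Scheme.{u}} (h : X ⟶ T) [IsSeparated h]
    [UniversallyClosed h] (V : X.Opens) (p : Y ⟶ T) [IsSeparated p] (j : (V : Scheme.{u}) ⟶ Y)
    [IsPreimmersion j] (hd : DenseRange j) (w : j ≫ p = V.ι ≫ h) : IsOpen (Set.range j) := by
  let pr₁ : pullback h p ⟶ X := pullback.fst h p
  let q : pullback h p ⟶ Y := pullback.snd h p
  let σ : (V : Scheme.{u}) ⟶ pullback h p := pullback.lift V.ι j w.symm
  have hσ₁ : σ ≫ pr₁ = V.ι := pullback.lift_fst _ _ _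
  have hσ₂ : σ ≫ q = j := pullback.lift_snd _ _ _
  -- (b)
  have hb : closure (Set.range σ) ∩ pr₁ ⁻¹' (V : Set X) ⊆ Set.range σ := by
    let σ' : (V : Scheme.{u}) ⟶ pullback pr₁ V.ι :=
      pullback.lift σ (𝟙 _) (by rw [hσ₁, Category.id_comp])
    have h1 : σ' ≫ pullback.fst pr₁ V.ι = σ := pullback.lift_fst _ _ _
    have h2 : σ' ≫ pullback.snd pr₁ V.ι = 𝟙 _ := pullback.lift_snd _ _ _
    haveI : IsClosedImmersion σ' :=
      MorphismProperty.of_postcomp (W := @IsClosedImmersion) (W' := @IsSeparated) σ'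
        (pullback.snd pr₁ V.ι) inferInstance (by rw [h2]; infer_instance)
    have h3 := closure_inter_range_subset (pullback.fst pr₁ V.ι)
      (pullback.fst pr₁ V.ι).isOpenEmbedding.isEmbedding σ' σ'.isClosedEmbedding.isClosed_range
    rw [h1, Scheme.Pullback.range_fst, Scheme.Opens.range_ι] at h3
    exact h3
  -- (e)
  have he : closure (Set.range σ) ∩ q ⁻¹' (Set.range j) ⊆ Set.range σ := by
    let δ : (V : Scheme.{u}) ⟶ pullback q j :=
      pullback.lift σ (𝟙 _) (by rw [hσ₂, Category.id_comp])
    have h1 : δ ≫ pullback.fst q j = σ := pullback.lift_fst _ _ _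
    have h2 : δ ≫ pullback.snd q j = 𝟙 _ := pullback.lift_snd _ _ _
    haveI : IsClosedImmersion δ :=
      MorphismProperty.of_postcomp (W := @IsClosedImmersion) (W' := @IsSeparated) δ
        (pullback.snd q j) inferInstance (by rw [h2]; infer_instance)
    have h3 := closure_inter_range_subset (pullback.fst q j)
      (pullback.fst q j).isEmbedding δ δ.isClosedEmbedding.isClosed_range
    rw [h1, Scheme.Pullback.range_fst] at h3
    exact h3
  have hr₁ : Set.range σ ⊆ pr₁ ⁻¹' (V : Set X) := by
    rintro _ ⟨v, rfl⟩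
    show pr₁ (σ v) ∈ (V : Set X)
    rw [← Scheme.Hom.comp_apply, hσ₁]
    exact v.2
  have hr₂ : ∀ v, q (σ v) = j v := by
    intro v
    rw [← Scheme.Hom.comp_apply, hσ₂]
  set F : Set ↥(pullback h p) := closure (Set.range σ) ∩ (pr₁ ⁻¹' (V : Set X))ᶜ with hF
  have hFc : IsClosed F :=
    isClosed_closure.inter (V.2.preimage pr₁.continuous).isClosed_compl
  have hqF : IsClosed (q '' F) := q.isClosedMap F hFc
  have hqZ : q '' closure (Set.range σ) = Set.univ := by
    have hc : IsClosed (q '' closure (Set.range σ)) := q.isClosedMap _ isClosed_closure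
    have hsub : Set.range j ⊆ q '' closure (Set.range σ) := by
      rintro _ ⟨v, rfl⟩
      exact ⟨σ v, subset_closure ⟨v, rfl⟩, hr₂ v⟩
    have := hd.closure_range
    rw [← Set.univ_subset_iff, ← this]
    exact closure_minimal hsub hc
  have key : Set.range j = (q '' F)ᶜ := by
    ext y
    constructor
    · rintro hy ⟨z, ⟨hz1, hz2⟩, rfl⟩
      exact hz2 (hr₁ (he ⟨hz1, hy⟩))
    · intro hy
      by_contra hyj
      have : y ∈ q '' closure (Set.range σ) := by rw [hqZ]; trivial
      obtain ⟨z, hz, rfl⟩ := this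
      refine hy ⟨z, ⟨hz, fun hzV => hyj ?_⟩, rfl⟩
      obtain ⟨v, rfl⟩ := hb ⟨hz, hzV⟩
      exact ⟨v, (hr₂ v).symm⟩
  rw [key]
  exact hqF.isOpen_compl

end Geom

section Main

variable {X S : Scheme.{u}} (f : X ⟶ S)

theorem finiteType_appLE [IsSeparated f] [UniversallyClosed f] (U : S.affineOpens)
    (V : X.affineOpens) (e : V.1 ≤ f ⁻¹ᵁ U.1) (hφ : (f.appLE U V e).hom.EssFiniteType) :
    (f.appLE U V e).hom.FiniteType := by
  set φ := (f.appLE U V e).hom with hφdef
  algebraize [φ]
  let A : Type u := Γ(S, U.1)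
  let B : Type u := Γ(X, V.1)
  let C := Algebra.EssFiniteType.subalgebra A B
  let M := Algebra.EssFiniteType.submonoid A B
  haveI : IsLocalization M B := Algebra.EssFiniteType.isLocalization A B
  let Y : Scheme.{u} := Spec (CommRingCat.of C)
  let p : Y ⟶ S := Spec.map (CommRingCat.ofHom (algebraMap A C)) ≫ U.2.fromSpec
  let j₀ : Spec (CommRingCat.of B) ⟶ Y := Spec.map (CommRingCat.ofHom (algebraMap C B))
  let j : (V.1 : Scheme.{u}) ⟶ Y := V.2.isoSpec.hom ≫ j₀
  haveI : IsPreimmersion j₀ := IsPreimmersion.of_isLocalization M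
  haveI : IsPreimmersion j := IsPreimmersion.comp _ _
  have hinj : Function.Injective (algebraMap C B) := Subtype.val_injective
  have hd₀ : DenseRange j₀ := by
    have : DenseRange (PrimeSpectrum.comap (algebraMap C B)) := by
      rw [PrimeSpectrum.denseRange_comap_iff_ker_le_nilRadical,
        (RingHom.injective_iff_ker_eq_bot _).1 hinj]
      exact bot_le
    exact this
  have hd : DenseRange j := by
    have hs : Function.Surjective V.2.isoSpec.hom :=
      (TopCat.homeoOfIso (Scheme.forgetToTop.mapIso V.2.isoSpec)).surjective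
    have : (j : _ → _) = j₀ ∘ V.2.isoSpec.hom := by
      ext v; exact Scheme.Hom.comp_apply _ _ _
    rw [this]
    exact hd₀.comp hs.denseRange j₀.continuous
  have w : j ≫ p = V.1.ι ≫ f := by
    have h1 : Spec.map (CommRingCat.ofHom (algebraMap C B)) ≫
        Spec.map (CommRingCat.ofHom (algebraMap A C)) = Spec.map (f.appLE U V e) := by
      rw [← Spec.map_comp]
      congr 1
    show (V.2.isoSpec.hom ≫ j₀) ≫ Spec.map (CommRingCat.ofHom (algebraMap A C)) ≫ U.2.fromSpec = _
    rw [Category.assoc, ← Category.assoc j₀, h1, IsAffineOpen.SpecMap_appLE_fromSpec f U.2 V.2 e,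
      ← Category.assoc, IsAffineOpen.isoSpec_hom_fromSpec]
  have hopen : IsOpen (Set.range j) := isOpen_range_of_universallyClosed f V.1 p j hd w
  have hopen₀ : IsOpen (Set.range (PrimeSpectrum.comap (algebraMap C B))) := by
    have hs : Function.Surjective V.2.isoSpec.hom :=
      (TopCat.homeoOfIso (Scheme.forgetToTop.mapIso V.2.isoSpec)).surjective
    have : Set.range j = Set.range (PrimeSpectrum.comap (algebraMap C B)) := by
      have h2 : (j : _ → _) = j₀ ∘ V.2.isoSpec.hom := by
        ext v; exact Scheme.Hom.comp_apply _ _ _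
      rw [h2, hs.range_comp]
      rfl
    rw [← this]; exact hopen
  haveI : Algebra.FiniteType C B := finiteType_of_isOpen_range M hopen₀
  have : Algebra.FiniteType A B := Algebra.FiniteType.trans (S := C) inferInstance inferInstance
  exact this

theorem main [IsSeparated f] [EssFT.EssFiniteType f] [UniversallyClosed f] : IsProper f := by
  have hft : LocallyOfFiniteType f := by
    rw [HasRingHomProperty.iff_exists_appLE (P := @LocallyOfFiniteType)
      (RingHom.finiteType_stableUnderComposition.stableUnderCompositionWithLocalizationAway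
        RingHom.finiteType_holdsForLocalizationAway).left]
    intro x
    obtain ⟨U, V, hxV, e, hφ⟩ :=
      EssFT.LocallyEssFiniteType.exists_appLE_essFiniteType (f := f) x
    exact ⟨U, V, hxV, e, finiteType_appLE f U V e hφ⟩
  exact {}

end Main

end Groth.Agent.Lib.H9EssFTProper
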