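import Mathlib
import Groth.Agent.Lib.Helper6Tower

set_option autoImplicit false
set_option linter.style.haveILetI false
set_option linter.unusedSectionVars false
universe u

namespace Groth.Agent.Lib.H9EtChart854

-- ===== from S17854a =====
open TensorProduct KaehlerDifferential

theorem finite_quot (k : Type u) [CommRing k] [IsLocalRing k]
    [Finite (IsLocalRing.ResidueField k)]
    (R : Type u) [CommRing R] [Algebra k R] [Algebra.FiniteType k R]
    (m : Ideal R) [m.IsMaximal]
    (hm : m.comap (algebraMap k R) = IsLocalRing.maximalIdeal k) : Finite (R ⧸ m) := by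
  haveI : m.LiesOver (IsLocalRing.maximalIdeal k) := ⟨hm.symm⟩
  letI : Field (R ⧸ m) := Ideal.Quotient.field m
  letI : Field (k ⧸ IsLocalRing.maximalIdeal k) := Ideal.Quotient.field _
  haveI : Algebra.FiniteType k (R ⧸ m) :=
    Algebra.FiniteType.of_surjective (Ideal.Quotient.mkₐ k m) Ideal.Quotient.mk_surjective
  haveI : Algebra.FiniteType (k ⧸ IsLocalRing.maximalIdeal k) (R ⧸ m) :=
    Algebra.FiniteType.of_restrictScalars_finiteType k _ _
  haveI : Module.Finite (k ⧸ IsLocalRing.maximalIdeal k) (R ⧸ m) :=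
    finite_of_finite_type_of_isJacobsonRing _ _
  haveI : Finite (k ⧸ IsLocalRing.maximalIdeal k) := ‹Finite (IsLocalRing.ResidueField k)›
  exact Module.finite_of_finite (k ⧸ IsLocalRing.maximalIdeal k)

variable (k : Type u) [CommRing k] (R : Type u) [CommRing R] [Algebra k R]
  (m : Ideal R) [m.IsMaximal] [Finite (R ⧸ m)]

theorem pow_card_sub_mem (r : R) : r ^ Nat.card (R ⧸ m) - r ∈ m := by
  letI : Field (R ⧸ m) := Ideal.Quotient.field m
  letI : Fintype (R ⧸ m) := Fintype.ofFinite _
  rw [← Ideal.Quotient.eq, map_pow, Nat.card_eq_fintype_card, FiniteField.pow_card]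

theorem natCast_card_mem : ((Nat.card (R ⧸ m) : ℕ) : R) ∈ m := by
  letI : Field (R ⧸ m) := Ideal.Quotient.field m
  letI : Fintype (R ⧸ m) := Fintype.ofFinite _
  rw [← Ideal.Quotient.eq_zero_iff_mem, map_natCast, Nat.card_eq_fintype_card,
    FiniteField.cast_card_eq_zero]

theorem tmul_smul_of_mem (a : R) (ha : a ∈ m) (y : Ω[R⁄k]) :
    (1 : R ⧸ m) ⊗ₜ[R] (a • y) = 0 := by
  rw [← TensorProduct.smul_tmul, Algebra.smul_def, mul_one, Ideal.Quotient.algebraMap_eq,
    Ideal.Quotient.eq_zero_iff_mem.mpr ha, TensorProduct.zero_tmul]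

theorem tmul_D_pow_card (t : R) :
    (1 : R ⧸ m) ⊗ₜ[R] D k R (t ^ Nat.card (R ⧸ m)) = 0 := by
  rw [Derivation.leibniz_pow, ← Nat.cast_smul_eq_nsmul R]
  exact tmul_smul_of_mem k R m _ (natCast_card_mem R m) _

theorem span_D_mem :
    Submodule.span (R ⧸ m) {x : (R ⧸ m) ⊗[R] Ω[R⁄k] | ∃ f ∈ m, x = 1 ⊗ₜ D k R f} = ⊤ := by
  rw [eq_top_iff]
  rintro x -
  have key : ∀ r : R, (1 : R ⧸ m) ⊗ₜ[R] D k R r ∈
      Submodule.span (R ⧸ m) {x : (R ⧸ m) ⊗[R] Ω[R⁄k] | ∃ f ∈ m, x = 1 ⊗ₜ D k R f} := by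
    intro r
    have h1 : (1 : R ⧸ m) ⊗ₜ[R] D k R r =
        - ((1 : R ⧸ m) ⊗ₜ[R] D k R (r ^ Nat.card (R ⧸ m) - r)) := by
      rw [map_sub, TensorProduct.tmul_sub, tmul_D_pow_card, zero_sub, neg_neg]
    rw [h1]
    exact Submodule.neg_mem _ (Submodule.subset_span ⟨_, pow_card_sub_mem R m r, rfl⟩)
  have key2 : ∀ ω : Ω[R⁄k], (1 : R ⧸ m) ⊗ₜ[R] ω ∈
      Submodule.span (R ⧸ m) {x : (R ⧸ m) ⊗[R] Ω[R⁄k] | ∃ f ∈ m, x = 1 ⊗ₜ D k R f} := by
    intro ω
    have hω : ω ∈ Submodule.span R (Set.range (D k R)) := by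
      rw [KaehlerDifferential.span_range_derivation]; trivial
    induction hω using Submodule.span_induction with
    | mem y hy =>
      obtain ⟨r, rfl⟩ := hy
      exact key r
    | zero => rw [TensorProduct.tmul_zero]; exact Submodule.zero_mem _
    | add y z _ _ hy hz => rw [TensorProduct.tmul_add]; exact Submodule.add_mem _ hy hz
    | smul a y _ hy =>
      have : (1 : R ⧸ m) ⊗ₜ[R] (a • y) = (Ideal.Quotient.mk m a) • ((1 : R ⧸ m) ⊗ₜ[R] y) := by
        rw [TensorProduct.smul_tmul', smul_eq_mul, mul_one, ← TensorProduct.smul_tmul,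
          Algebra.smul_def, mul_one, Ideal.Quotient.algebraMap_eq]
      rw [this]
      exact Submodule.smul_mem _ _ hy
  induction x using TensorProduct.induction_on with
  | zero => exact Submodule.zero_mem _
  | tmul a ω =>
    have : a ⊗ₜ[R] ω = a • ((1 : R ⧸ m) ⊗ₜ[R] ω) := by
      rw [TensorProduct.smul_tmul', smul_eq_mul, mul_one]
    rw [this]
    exact Submodule.smul_mem _ _ (key2 ω)
  | add y z hy hz => exact Submodule.add_mem _ hy hz

-- ===== from S17854b =====
open TensorProduct KaehlerDifferential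

variable (k : Type u) [CommRing k] (R : Type u) [CommRing R] [Algebra k R]
  (m : Ideal R) [m.IsMaximal] [Finite (R ⧸ m)]

theorem exists_basis_D (d : ℕ) (hd : 0 < d)
    (hdim : Module.finrank (R ⧸ m) ((R ⧸ m) ⊗[R] Ω[R⁄k]) = d) (θ : R ⧸ m) :
    ∃ f : Fin d → R, Ideal.Quotient.mk m (f ⟨0, hd⟩) = θ ∧
      LinearIndependent (R ⧸ m) (fun i => (1 : R ⧸ m) ⊗ₜ[R] D k R (f i)) ∧
      Submodule.span (R ⧸ m) (Set.range fun i => (1 : R ⧸ m) ⊗ₜ[R] D k R (f i)) = ⊤ := by
  letI : Field (R ⧸ m) := Ideal.Quotient.field m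
  letI : Fintype (R ⧸ m) := Fintype.ofFinite _
  obtain ⟨b, hbs, hspan, hli⟩ := exists_linearIndependent (R ⧸ m)
    {x : (R ⧸ m) ⊗[R] Ω[R⁄k] | ∃ f ∈ m, x = 1 ⊗ₜ D k R f}
  rw [span_D_mem] at hspan
  let B : Module.Basis b (R ⧸ m) ((R ⧸ m) ⊗[R] Ω[R⁄k]) :=
    Module.Basis.mk hli (by rw [Subtype.range_coe_subtype, Set.ofPred_mem_eq, hspan])
  have hcard : Nat.card b = d := by rw [← hdim, Module.finrank_eq_nat_card_basis B]
  haveI : Finite b := Nat.finite_of_card_ne_zero (by omega)
  let e : b ≃ Fin d := Finite.equivFinOfCardEq hcard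
  choose g hgm hg using fun i : Fin d => hbs (e.symm i).2
  obtain ⟨t₀, ht₀⟩ := Ideal.Quotient.mk_surjective θ
  let f : Fin d → R := fun i => if i = ⟨0, hd⟩ then g i + t₀ ^ Nat.card (R ⧸ m) else g i
  have hf : ∀ i, (1 : R ⧸ m) ⊗ₜ[R] D k R (f i) = ((e.symm i : b) : (R ⧸ m) ⊗[R] Ω[R⁄k]) := by
    intro i
    rw [hg i]
    by_cases hi : i = ⟨0, hd⟩
    · simp only [f, if_pos hi]
      rw [map_add, TensorProduct.tmul_add, tmul_D_pow_card, add_zero]
    · simp only [f, if_neg hi]
  have hfun : (fun i => (1 : R ⧸ m) ⊗ₜ[R] D k R (f i)) = (Subtype.val : b → _) ∘ e.symm := by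
    funext i
    exact hf i
  refine ⟨f, ?_, ?_, ?_⟩
  · simp only [f, if_true]
    rw [map_add, Ideal.Quotient.eq_zero_iff_mem.mpr (hgm _), zero_add, map_pow, ht₀,
      Nat.card_eq_fintype_card, FiniteField.pow_card]
  · rw [hfun]
    exact hli.comp _ e.symm.injective
  · rw [hfun, Set.range_comp, e.symm.surjective.range_eq, Set.image_univ,
      Subtype.range_coe_subtype, Set.ofPred_mem_eq, hspan]

-- ===== from S17854c =====
open TensorProduct

variable (R : Type u) [CommRing R] (m : Ideal R) [m.IsMaximal]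
  (M N : Type u) [AddCommGroup M] [Module R M] [AddCommGroup N] [Module R N]
  [Module (Localization.AtPrime m) N] [IsScalarTower R (Localization.AtPrime m) N]
  (ℓ : M →ₗ[R] N) (hℓ : IsBaseChange (Localization.AtPrime m) ℓ)

/-- residue field iso as linear equiv -/
noncomputable def iRes : (R ⧸ m) ≃ₗ[R] m.ResidueField :=
  (AlgEquiv.ofBijective (IsScalarTower.toAlgHom R (R ⧸ m) m.ResidueField)
    (Ideal.bijective_algebraMap_quotient_residueField m)).toLinearEquiv

theorem iRes_apply (a : R ⧸ m) : iRes R m a = algebraMap (R ⧸ m) m.ResidueField a := rfl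

include hℓ in
/-- the fibre comparison -/
noncomputable def Ψ : (R ⧸ m) ⊗[R] M ≃+ m.ResidueField ⊗[Localization.AtPrime m] N :=
  (TensorProduct.congr (iRes R m) (LinearEquiv.refl R M)).toAddEquiv.trans
    ((AlgebraTensorModule.cancelBaseChange R (Localization.AtPrime m) m.ResidueField
        m.ResidueField M).symm.toAddEquiv.trans
      (LinearEquiv.lTensor m.ResidueField hℓ.equiv).toAddEquiv)

theorem Ψ_tmul (a : R ⧸ m) (x : M) :
    Ψ R m M N ℓ hℓ (a ⊗ₜ x) = algebraMap (R ⧸ m) m.ResidueField a ⊗ₜ ℓ x := by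
  simp [Ψ, iRes_apply, IsBaseChange.equiv_tmul]

theorem Ψ_smul (a : R ⧸ m) (y : (R ⧸ m) ⊗[R] M) :
    Ψ R m M N ℓ hℓ (a • y) = algebraMap (R ⧸ m) m.ResidueField a • Ψ R m M N ℓ hℓ y := by
  induction y using TensorProduct.induction_on with
  | zero => simp
  | tmul b x =>
    rw [TensorProduct.smul_tmul', Ψ_tmul, Ψ_tmul, smul_eq_mul, map_mul,
      TensorProduct.smul_tmul', smul_eq_mul]
  | add y z hy hz => rw [smul_add, map_add, map_add, hy, hz, smul_add]

include hℓ in
theorem transfer {ι : Type*} (v : ι → M)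
    (hli : LinearIndependent (R ⧸ m) (fun i => (1 : R ⧸ m) ⊗ₜ[R] v i))
    (hsp : Submodule.span (R ⧸ m) (Set.range fun i => (1 : R ⧸ m) ⊗ₜ[R] v i) = ⊤) :
    LinearIndependent m.ResidueField
        (fun i => (1 : m.ResidueField) ⊗ₜ[Localization.AtPrime m] ℓ (v i)) ∧
      Submodule.span m.ResidueField
        (Set.range fun i => (1 : m.ResidueField) ⊗ₜ[Localization.AtPrime m] ℓ (v i)) = ⊤ := by
  have hfun : (fun i => (1 : m.ResidueField) ⊗ₜ[Localization.AtPrime m] ℓ (v i)) =
      (Ψ R m M N ℓ hℓ).toAddMonoidHom ∘ (fun i => (1 : R ⧸ m) ⊗ₜ[R] v i) := by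
    funext i
    simp [Ψ_tmul]
  constructor
  · rw [hfun]
    refine hli.map_of_surjective_injective (algebraMap (R ⧸ m) m.ResidueField) _
      (Ideal.bijective_algebraMap_quotient_residueField m).2 ?_ ?_
    · intro y hy
      exact (Ψ R m M N ℓ hℓ).map_eq_zero_iff.mp hy
    · intro a y
      exact Ψ_smul R m M N ℓ hℓ a y
  · rw [eq_top_iff]
    rintro y -
    obtain ⟨x, rfl⟩ := (Ψ R m M N ℓ hℓ).surjective y
    have hx : x ∈ Submodule.span (R ⧸ m) (Set.range fun i => (1 : R ⧸ m) ⊗ₜ[R] v i) := by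
      rw [hsp]; trivial
    induction hx using Submodule.span_induction with
    | mem z hz =>
      obtain ⟨i, rfl⟩ := hz
      refine Submodule.subset_span ⟨i, ?_⟩
      simp [Ψ_tmul]
    | zero => rw [map_zero]; exact Submodule.zero_mem _
    | add y z _ _ hy hz => rw [map_add]; exact Submodule.add_mem _ hy hz
    | smul a y _ hy => rw [Ψ_smul]; exact Submodule.smul_mem _ _ hy

-- ===== from S17854d =====
open TensorProduct KaehlerDifferential

theorem isEtaleAt_of_basis (k R : Type u) [CommRing k] [CommRing R] [Algebra k R]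
    [Algebra.FiniteType k R] (d : ℕ)
    [Algebra (MvPolynomial (Fin d) k) R] [IsScalarTower k (MvPolynomial (Fin d) k) R]
    (m : Ideal R) [m.IsMaximal] [Algebra.IsSmoothAt k m]
    (hli : LinearIndependent (R ⧸ m) (fun i : Fin d => (1 : R ⧸ m) ⊗ₜ[R]
      D k R (algebraMap (MvPolynomial (Fin d) k) R (MvPolynomial.X i))))
    (hsp : Submodule.span (R ⧸ m) (Set.range fun i : Fin d => (1 : R ⧸ m) ⊗ₜ[R]
      D k R (algebraMap (MvPolynomial (Fin d) k) R (MvPolynomial.X i))) = ⊤) :
    Algebra.IsEtaleAt (MvPolynomial (Fin d) k) m := by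
  haveI : Algebra.FormallySmooth k (Localization.AtPrime m) := ‹Algebra.IsSmoothAt k m›
  haveI : IsScalarTower k (MvPolynomial (Fin d) k) (Localization.AtPrime m) := by
    refine IsScalarTower.of_algebraMap_eq (fun a => ?_)
    rw [IsScalarTower.algebraMap_apply k R (Localization.AtPrime m),
      IsScalarTower.algebraMap_apply (MvPolynomial (Fin d) k) R (Localization.AtPrime m),
      ← IsScalarTower.algebraMap_apply k (MvPolynomial (Fin d) k) R]
  haveI : Algebra.FormallyEtale R (Localization.AtPrime m) :=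
    Algebra.FormallyEtale.of_isLocalization (Rₘ := Localization.AtPrime m) m.primeCompl
  have hbc : IsBaseChange (Localization.AtPrime m) (map k k R (Localization.AtPrime m)) :=
    KaehlerDifferential.isBaseChange_of_formallyEtale k R (Localization.AtPrime m)
  haveI : Algebra.EssFiniteType k (Localization.AtPrime m) :=
    Algebra.EssFiniteType.comp k R _
  haveI : Module.Projective (Localization.AtPrime m) Ω[Localization.AtPrime m⁄k] :=
    Algebra.FormallySmooth.projective_kaehlerDifferential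
  obtain ⟨hli', hsp'⟩ := transfer R m Ω[R⁄k] Ω[Localization.AtPrime m⁄k] _ hbc
    (fun i : Fin d => D k R (algebraMap (MvPolynomial (Fin d) k) R (MvPolynomial.X i))) hli hsp
  simp only [KaehlerDifferential.map_D] at hli' hsp'
  set v : Fin d → Ω[Localization.AtPrime m⁄k] := fun i => D k (Localization.AtPrime m)
    (algebraMap R (Localization.AtPrime m)
      (algebraMap (MvPolynomial (Fin d) k) R (MvPolynomial.X i))) with hv
  have hliS : LinearIndependent (Localization.AtPrime m) v :=
    Module.IsLocalRing.linearIndependent_of_flat v hli'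
  have hspS : Submodule.span (Localization.AtPrime m) (Set.range v) = ⊤ :=
    IsLocalRing.span_eq_top_of_tmul_eq_basis v (Module.Basis.mk hli' hsp'.ge)
      (fun i => (Module.Basis.mk_apply hli' hsp'.ge i).symm)
  rw [show Algebra.IsEtaleAt (MvPolynomial (Fin d) k) m =
    Algebra.FormallyEtale (MvPolynomial (Fin d) k) (Localization.AtPrime m) from rfl,
    Groth.Agent.Lib.Helper6.Tower.formallyEtale_iff_bijective k (MvPolynomial (Fin d) k)
      (Localization.AtPrime m)]
  let b := (KaehlerDifferential.mvPolynomialBasis k (Fin d)).baseChange (Localization.AtPrime m)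
  have hb : ∀ i, mapBaseChange k (MvPolynomial (Fin d) k) (Localization.AtPrime m) (b i) =
      v i := by
    intro i
    simp only [b, Module.Basis.baseChange_apply, KaehlerDifferential.mvPolynomialBasis_apply,
      mapBaseChange_tmul, KaehlerDifferential.map_D, one_smul, hv]
    rw [← IsScalarTower.algebraMap_apply]
  let b' := Module.Basis.mk hliS (by rw [hspS])
  let e := b.equiv b' (Equiv.refl _)
  have : mapBaseChange k (MvPolynomial (Fin d) k) (Localization.AtPrime m) = e.toLinearMap := by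
    apply b.ext
    intro i
    rw [hb i, LinearEquiv.coe_coe, Module.Basis.equiv_apply, Equiv.refl_apply,
      Module.Basis.mk_apply]
  rw [this]
  exact e.bijective

-- ===== from S17854e =====
open TensorProduct KaehlerDifferential

theorem quot_away_surj (R : Type u) [CommRing R] (m : Ideal R) [m.IsMaximal] (g : R) (hg : g ∉ m)
    (y : Localization.Away g ⧸ m.map (algebraMap R (Localization.Away g))) :
    ∃ r : R, Ideal.Quotient.mk (m.map (algebraMap R (Localization.Away g)))
      (algebraMap R (Localization.Away g) r) = y := by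
  obtain ⟨z, rfl⟩ := Ideal.Quotient.mk_surjective y
  obtain ⟨r, ⟨_, n, rfl⟩, rfl⟩ := IsLocalization.exists_mk'_eq (Submonoid.powers g) z
  obtain ⟨h, i, hi, hhi⟩ := Ideal.IsMaximal.exists_inv ‹m.IsMaximal› hg
  set π := Ideal.Quotient.mk (m.map (algebraMap R (Localization.Away g))) with hπ
  have h1 : π (algebraMap R _ g) * π (algebraMap R _ h) = 1 := by
    rw [← map_mul, ← map_mul, ← map_one π, ← map_one (algebraMap R (Localization.Away g)),
      Ideal.Quotient.eq, ← map_sub]
    apply Ideal.mem_map_of_mem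
    have : g * h - 1 = - i := by rw [← hhi]; ring
    rw [this]
    exact m.neg_mem hi
  refine ⟨r * h ^ n, ?_⟩
  have h2 : IsLocalization.mk' (Localization.Away g) r (⟨g ^ n, n, rfl⟩ : Submonoid.powers g) *
      algebraMap R _ (g ^ n) = algebraMap R _ r := IsLocalization.mk'_spec _ _ _
  calc π (algebraMap R _ (r * h ^ n))
      = π (algebraMap R _ r) * π (algebraMap R _ h) ^ n := by
        rw [map_mul, map_mul, map_pow, map_pow]
    _ = π (IsLocalization.mk' (Localization.Away g) r (⟨g ^ n, n, rfl⟩ : Submonoid.powers g)) *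
          (π (algebraMap R _ g) * π (algebraMap R _ h)) ^ n := by
        rw [← h2, map_mul, map_pow, map_pow, mul_pow]; ring
    _ = _ := by rw [h1, one_pow, mul_one]

theorem main (k : Type u) [CommRing k] [IsLocalRing k] [Finite (IsLocalRing.ResidueField k)]
    (R : Type u) [CommRing R] [Algebra k R] [Algebra.FinitePresentation k R]
    (m : Ideal R) [m.IsMaximal] (hm : m.comap (algebraMap k R) = IsLocalRing.maximalIdeal k)
    [Algebra.IsSmoothAt k m] (d : ℕ) (hd : 0 < d)
    (hdim : Module.finrank (R ⧸ m) ((R ⧸ m) ⊗[R] KaehlerDifferential k R) = d) :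
    ∃ g : R, g ∉ m ∧ ∃ φ : MvPolynomial (Fin d) k →ₐ[k] Localization.Away g,
      φ.toRingHom.Etale ∧
      Function.Surjective
        ((Ideal.Quotient.mk (m.map (algebraMap R (Localization.Away g)))).comp φ.toRingHom) := by
  haveI : Finite (R ⧸ m) := finite_quot k R m hm
  letI : Field (R ⧸ m) := Ideal.Quotient.field m
  obtain ⟨θ, hθ⟩ := IsCyclic.exists_monoid_generator (α := (R ⧸ m)ˣ)
  obtain ⟨f, hf0, hli, hsp⟩ := exists_basis_D k R m d hd hdim (θ : R ⧸ m)
  let φ₀ : MvPolynomial (Fin d) k →ₐ[k] R := MvPolynomial.aeval f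
  letI : Algebra (MvPolynomial (Fin d) k) R := φ₀.toRingHom.toAlgebra
  haveI : IsScalarTower k (MvPolynomial (Fin d) k) R :=
    IsScalarTower.of_algebraMap_eq (fun a => (φ₀.commutes a).symm)
  have hX : ∀ i, algebraMap (MvPolynomial (Fin d) k) R (MvPolynomial.X i) = f i :=
    fun i => MvPolynomial.aeval_X f i
  haveI : Algebra.IsEtaleAt (MvPolynomial (Fin d) k) m :=
    isEtaleAt_of_basis k R d m (by simpa only [hX] using hli) (by simpa only [hX] using hsp)
  haveI : Algebra.FinitePresentation (MvPolynomial (Fin d) k) R :=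
    Algebra.FinitePresentation.of_restrict_scalars_finitePresentation k _ _
  obtain ⟨g, hg, hgE⟩ := Algebra.exists_etale_of_isEtaleAt (R := MvPolynomial (Fin d) k) m
  refine ⟨g, hg, (IsScalarTower.toAlgHom k R (Localization.Away g)).comp φ₀, ?_, ?_⟩
  · have : ((IsScalarTower.toAlgHom k R (Localization.Away g)).comp φ₀).toRingHom =
        algebraMap (MvPolynomial (Fin d) k) (Localization.Away g) :=
      (IsScalarTower.algebraMap_eq (MvPolynomial (Fin d) k) R (Localization.Away g)).symm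
    rw [this]
    exact RingHom.etale_algebraMap.mpr hgE
  · intro y
    obtain ⟨r, rfl⟩ := quot_away_surj R m g hg y
    by_cases hr : r ∈ m
    · refine ⟨0, ?_⟩
      rw [map_zero]
      exact (Ideal.Quotient.eq_zero_iff_mem.mpr (Ideal.mem_map_of_mem _ hr)).symm
    · have hr0 : Ideal.Quotient.mk m r ≠ 0 := fun h => hr (Ideal.Quotient.eq_zero_iff_mem.mp h)
      obtain ⟨j, hj⟩ := hθ (Units.mk0 _ hr0)
      have hj' : Ideal.Quotient.mk m (f ⟨0, hd⟩ ^ j) = Ideal.Quotient.mk m r := by
        rw [map_pow, hf0]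
        have := congrArg (Units.val) hj
        simpa using this
      refine ⟨MvPolynomial.X ⟨0, hd⟩ ^ j, ?_⟩
      change Ideal.Quotient.mk _ (algebraMap R (Localization.Away g)
        (φ₀ (MvPolynomial.X ⟨0, hd⟩ ^ j))) = _
      rw [map_pow, MvPolynomial.aeval_X, Ideal.Quotient.eq, ← map_sub]
      exact Ideal.mem_map_of_mem _ (Ideal.Quotient.eq.mp hj')

end Groth.Agent.Lib.H9EtChart854
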