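import Mathlib

/-! Etale coordinates adapted to a smooth closed subscheme (affine form), part A: the Jacobian criterion at a prime, linear independence of `1 ⊗ d g_i`. -/

set_option autoImplicit false
set_option linter.style.haveILetI false
universe u
open TensorProduct KaehlerDifferential IsLocalRing

namespace Groth.Agent.Lib.H9EtCoord

-- ===== part 1 =====
section

variable (A B : Type u) [CommRing A] [CommRing B] [Algebra A B] (J : Ideal B)
  (q : Ideal B) [q.IsPrime]

/-- the extended ideal in the local ring. -/
abbrev Iq : Ideal (Localization.AtPrime q) := J.map (algebraMap B (Localization.AtPrime q))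

variable {J q}

lemma Iq_le (hJq : J ≤ q) : Iq B J q ≤ maximalIdeal (Localization.AtPrime q) := by
  rw [← Localization.AtPrime.map_eq_maximalIdeal]
  exact Ideal.map_mono hJq

lemma nontrivial_quot (hJq : J ≤ q) : Nontrivial (Localization.AtPrime q ⧸ Iq B J q) := by
  apply Ideal.Quotient.nontrivial_iff.mpr
  intro h
  have := Iq_le B hJq
  rw [h] at this
  exact (maximalIdeal.isMaximal _).ne_top (top_le_iff.mp this)

lemma isLocalRing_quot (hJq : J ≤ q) : IsLocalRing (Localization.AtPrime q ⧸ Iq B J q) :=
  haveI := nontrivial_quot B hJq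
  IsLocalRing.of_surjective' (Ideal.Quotient.mk (Iq B J q)) Ideal.Quotient.mk_surjective

/-- the submonoid of `B ⧸ J` obtained from `q.primeCompl` is `Q.primeCompl`. -/
lemma algebraMapSubmonoid_eq (Q : Ideal (B ⧸ J)) [Q.IsPrime]
    (hQ : Q.comap (Ideal.Quotient.mk J) = q) :
    Algebra.algebraMapSubmonoid (B ⧸ J) q.primeCompl = Q.primeCompl := by
  ext x
  constructor
  · rintro ⟨b, hb, rfl⟩
    intro hx
    apply hb
    rw [← hQ]
    exact hx
  · intro hx
    obtain ⟨b, rfl⟩ := Ideal.Quotient.mk_surjective x
    refine ⟨b, ?_, rfl⟩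
    intro hb
    apply hx
    rw [← hQ] at hb
    exact hb

lemma isLocalization_quot (Q : Ideal (B ⧸ J)) [Q.IsPrime]
    (hQ : Q.comap (Ideal.Quotient.mk J) = q) :
    IsLocalization.AtPrime (Localization.AtPrime q ⧸ Iq B J q) Q := by
  have h : IsLocalization (Algebra.algebraMapSubmonoid (B ⧸ J) q.primeCompl)
      (Localization.AtPrime q ⧸ Iq B J q) := inferInstance
  rw [algebraMapSubmonoid_eq B Q hQ] at h
  exact h

lemma formallySmooth_quot (Q : Ideal (B ⧸ J)) [Q.IsPrime]
    (hQ : Q.comap (Ideal.Quotient.mk J) = q) [Algebra.IsSmoothAt A Q] :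
    Algebra.FormallySmooth A (Localization.AtPrime q ⧸ Iq B J q) := by
  haveI := isLocalization_quot B Q hQ
  let e : Localization.AtPrime Q ≃ₐ[B ⧸ J] (Localization.AtPrime q ⧸ Iq B J q) :=
    IsLocalization.algEquiv Q.primeCompl _ _
  haveI : Algebra.FormallySmooth A (Localization.AtPrime Q) := ‹Algebra.IsSmoothAt A Q›
  haveI : IsScalarTower A (B ⧸ J) (Localization.AtPrime q ⧸ Iq B J q) := by
    refine IsScalarTower.of_algebraMap_eq (fun a => ?_)
    rw [IsScalarTower.algebraMap_apply A B (B ⧸ J),
      IsScalarTower.algebraMap_apply A (Localization.AtPrime q) (Localization.AtPrime q ⧸ Iq B J q),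
      IsScalarTower.algebraMap_apply A B (Localization.AtPrime q)]
    rfl
  exact Algebra.FormallySmooth.of_equiv (e.restrictScalars A)

end

-- ===== part 2 =====
section

variable (A B : Type u) [CommRing A] [CommRing B] [Algebra A B] {J : Ideal B}
  {q : Ideal B} [q.IsPrime]

/-- the map from the quotient local ring to the residue field of `B_q`. -/
noncomputable def toK (hJq : J ≤ q) :
    (Localization.AtPrime q ⧸ Iq B J q) →+* ResidueField (Localization.AtPrime q) :=
  Ideal.Quotient.factor (Iq_le B hJq)

lemma toK_mk (hJq : J ≤ q) (p : Localization.AtPrime q) :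
    toK B hJq (Ideal.Quotient.mk _ p) = IsLocalRing.residue _ p := rfl

/-- the algebra structure of the residue field over the quotient local ring. -/
@[reducible] noncomputable def algK (hJq : J ≤ q) :
    Algebra (Localization.AtPrime q ⧸ Iq B J q) (ResidueField (Localization.AtPrime q)) :=
  (toK B hJq).toAlgebra

lemma towerK (hJq : J ≤ q) :
    letI := algK B hJq
    IsScalarTower (Localization.AtPrime q) (Localization.AtPrime q ⧸ Iq B J q)
      (ResidueField (Localization.AtPrime q)) := by
  letI := algK B hJq
  refine ⟨fun x y z => ?_⟩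
  obtain ⟨y, rfl⟩ := Ideal.Quotient.mk_surjective y
  rw [Algebra.smul_def, Algebra.smul_def, Algebra.smul_def, ← mul_assoc]
  congr 1

lemma free_kaehler [Algebra.FiniteType A B] [Algebra.IsSmoothAt A q] :
    Module.Free (Localization.AtPrime q) Ω[Localization.AtPrime q⁄A] ∧
      Module.Finite (Localization.AtPrime q) Ω[Localization.AtPrime q⁄A] := by
  haveI : Algebra.FormallySmooth A (Localization.AtPrime q) := ‹Algebra.IsSmoothAt A q›
  haveI : Algebra.EssFiniteType A (Localization.AtPrime q) := Algebra.EssFiniteType.comp A B _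
  haveI : Module.Finite (Localization.AtPrime q) Ω[Localization.AtPrime q⁄A] := inferInstance
  haveI : Module.Projective (Localization.AtPrime q) Ω[Localization.AtPrime q⁄A] :=
    Algebra.FormallySmooth.projective_kaehlerDifferential
  exact ⟨Module.free_of_flat_of_isLocalRing, inferInstance⟩

theorem injective_cotangent [Algebra.FiniteType A B] (hJ : J.FG) (hJq : J ≤ q)
    [Algebra.IsSmoothAt A q] (Q : Ideal (B ⧸ J)) [Q.IsPrime]
    (hQ : Q.comap (Ideal.Quotient.mk J) = q) [Algebra.IsSmoothAt A Q] :
    letI := algK B hJq
    haveI := towerK B hJq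
    Function.Injective (cotangentComplexBaseChange A (Localization.AtPrime q ⧸ Iq B J q)
      (Localization.AtPrime q) (ResidueField (Localization.AtPrime q))) := by
  letI := algK B hJq
  haveI := towerK B hJq
  haveI := isLocalRing_quot B hJq
  haveI : Algebra.FormallySmooth A (Localization.AtPrime q) := ‹Algebra.IsSmoothAt A q›
  obtain ⟨hfree, hfin⟩ := free_kaehler A B (q := q)
  haveI := formallySmooth_quot A B Q hQ
  have h₁ : Function.Surjective (algebraMap (Localization.AtPrime q)
      (Localization.AtPrime q ⧸ Iq B J q)) := Ideal.Quotient.mk_surjective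
  have h₂ : (RingHom.ker (algebraMap (Localization.AtPrime q)
      (Localization.AtPrime q ⧸ Iq B J q))).FG := by
    rw [Ideal.Quotient.algebraMap_eq, Ideal.mk_ker]
    exact hJ.map _
  have h₃ : maximalIdeal (Localization.AtPrime q ⧸ Iq B J q) ≤
      RingHom.ker (algebraMap (Localization.AtPrime q ⧸ Iq B J q)
        (ResidueField (Localization.AtPrime q))) := by
    intro x hx
    obtain ⟨p, rfl⟩ := Ideal.Quotient.mk_surjective x
    rw [RingHom.mem_ker]
    change (toK B hJq) (Ideal.Quotient.mk _ p) = 0
    rw [toK_mk, IsLocalRing.residue_eq_zero_iff, IsLocalRing.mem_maximalIdeal,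
      mem_nonunits_iff]
    intro hp
    exact (IsLocalRing.mem_maximalIdeal _).mp hx (hp.map _)
  exact (Algebra.FormallySmooth.iff_injective_cotangentComplexBaseChange
    (R := A) (S := Localization.AtPrime q ⧸ Iq B J q) (Localization.AtPrime q)
    (ResidueField (Localization.AtPrime q)) h₁ h₂ h₃).mp inferInstance

end

-- ===== part 3 =====
section

variable (B : Type u) [CommRing B] (J : Ideal B) (q : Ideal B) [q.IsPrime]

/-- the multiplication map `B_q ⊗_B J → B_q`. -/
noncomputable def mulMap : Localization.AtPrime q ⊗[B] J →ₗ[Localization.AtPrime q]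
    Localization.AtPrime q :=
  LinearMap.liftBaseChange (Localization.AtPrime q)
    ((Algebra.linearMap B (Localization.AtPrime q)).domRestrict J)

lemma mulMap_tmul (p : Localization.AtPrime q) (j : J) :
    mulMap B J q (p ⊗ₜ j) = p * algebraMap B (Localization.AtPrime q) j := by
  simp [mulMap]

lemma mulMap_injective : Function.Injective (mulMap B J q) := by
  have h1 : Function.Injective (J.subtype.lTensor (Localization.AtPrime q)) :=
    Module.Flat.lTensor_preserves_injective_linearMap (J.subtype : J →ₗ[B] B)
      (Submodule.injective_subtype J)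
  have h2 : (mulMap B J q : Localization.AtPrime q ⊗[B] J → Localization.AtPrime q) =
      (TensorProduct.rid B (Localization.AtPrime q)) ∘ (J.subtype.lTensor (Localization.AtPrime q)) := by
    funext x
    induction x with
    | zero => simp
    | add x y hx hy => simp only [map_add, hx, hy, Function.comp_apply]
    | tmul p j =>
      simp only [mulMap_tmul, Function.comp_apply, LinearMap.lTensor_tmul, Submodule.subtype_apply,
        TensorProduct.rid_tmul, Algebra.smul_def]
      ring
  rw [h2]
  exact (TensorProduct.rid B (Localization.AtPrime q)).injective.comp h1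

lemma range_mulMap : LinearMap.range (mulMap B J q) = Iq B J q := by
  apply le_antisymm
  · rintro _ ⟨x, rfl⟩
    induction x with
    | zero => simp
    | add x y hx hy => rw [map_add]; exact Ideal.add_mem _ hx hy
    | tmul p j =>
      rw [mulMap_tmul]
      exact Ideal.mul_mem_left _ _ (Ideal.mem_map_of_mem _ j.2)
  · change Ideal.map _ J ≤ _
    rw [Ideal.map, Ideal.span_le]
    rintro _ ⟨j, hj, rfl⟩
    exact ⟨1 ⊗ₜ ⟨j, hj⟩, by rw [mulMap_tmul, one_mul]⟩

/-- `B_q ⊗_B J ≃ J B_q`. -/
noncomputable def tensorEquivIq : Localization.AtPrime q ⊗[B] J ≃ₗ[Localization.AtPrime q]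
    Iq B J q :=
  LinearEquiv.ofBijective
    ((mulMap B J q).codRestrict (Iq B J q) (fun x => by
      rw [← range_mulMap]; exact ⟨x, rfl⟩))
    ⟨fun x y h => mulMap_injective B J q (congrArg Subtype.val h),
     fun ⟨y, hy⟩ => by
      rw [← range_mulMap] at hy
      obtain ⟨x, rfl⟩ := hy
      exact ⟨x, rfl⟩⟩

lemma finrank_tensor_Iq :
    Module.finrank (ResidueField (Localization.AtPrime q))
      (ResidueField (Localization.AtPrime q) ⊗[Localization.AtPrime q] Iq B J q) =
    Module.finrank q.ResidueField (q.ResidueField ⊗[B] J) := by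
  let e1 : ResidueField (Localization.AtPrime q) ⊗[Localization.AtPrime q] Iq B J q ≃ₗ[
      ResidueField (Localization.AtPrime q)]
      ResidueField (Localization.AtPrime q) ⊗[Localization.AtPrime q]
        (Localization.AtPrime q ⊗[B] J) :=
    AlgebraTensorModule.congr (LinearEquiv.refl _ _) (tensorEquivIq B J q).symm
  let e2 := AlgebraTensorModule.cancelBaseChange B (Localization.AtPrime q)
    (ResidueField (Localization.AtPrime q)) (ResidueField (Localization.AtPrime q)) J
  exact (e1.trans e2).finrank_eq

end

-- ===== part 4 =====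
section

variable (A B : Type u) [CommRing A] [CommRing B] [Algebra A B] {J : Ideal B}
  {q : Ideal B} [q.IsPrime]

section LI

variable {r : ℕ} (g : Fin r → B) (hg : ∀ i, g i ∈ J)
  (hgen : Iq B J q = Ideal.span (Set.range fun i => algebraMap B (Localization.AtPrime q) (g i)))
  (hmin : r = Module.finrank q.ResidueField (q.ResidueField ⊗[B] J))

include hgen hmin in
lemma linearIndependent_tmul_g :
    LinearIndependent (ResidueField (Localization.AtPrime q))
      (fun i : Fin r => (1 : ResidueField (Localization.AtPrime q)) ⊗ₜ[Localization.AtPrime q]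
        (⟨algebraMap B (Localization.AtPrime q) (g i), Ideal.mem_map_of_mem _ (hg i)⟩ :
          Iq B J q)) := by
  apply linearIndependent_of_top_le_span_of_card_eq_finrank
  · rintro x -
    induction x with
    | zero => exact Submodule.zero_mem _
    | add x y hx hy => exact Submodule.add_mem _ hx hy
    | tmul a y =>
      have h1 : a ⊗ₜ[Localization.AtPrime q] y =
          a • ((1 : ResidueField (Localization.AtPrime q)) ⊗ₜ[Localization.AtPrime q] y) := by
        rw [TensorProduct.smul_tmul', smul_eq_mul, mul_one]
      rw [h1]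
      refine Submodule.smul_mem _ _ ?_
      clear h1
      obtain ⟨y, hy⟩ := y
      have hy' : y ∈ Ideal.span (Set.range fun i => algebraMap B (Localization.AtPrime q) (g i)) :=
        hgen ▸ hy
      induction hy' using Submodule.span_induction with
      | mem z hz =>
        obtain ⟨i, rfl⟩ := hz
        exact Submodule.subset_span ⟨i, rfl⟩
      | zero =>
        have : (⟨0, hy⟩ : Iq B J q) = 0 := rfl
        rw [this, TensorProduct.tmul_zero]
        exact Submodule.zero_mem _
      | add z w hz hw ihz ihw =>
        have hz' : z ∈ Iq B J q := hgen ▸ hz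
        have hw' : w ∈ Iq B J q := hgen ▸ hw
        have : (⟨z + w, hy⟩ : Iq B J q) = ⟨z, hz'⟩ + ⟨w, hw'⟩ := rfl
        rw [this, TensorProduct.tmul_add]
        exact Submodule.add_mem _ (ihz hz') (ihw hw')
      | smul p z hz ihz =>
        have hz' : z ∈ Iq B J q := hgen ▸ hz
        have : (⟨p • z, hy⟩ : Iq B J q) = p • ⟨z, hz'⟩ := rfl
        rw [this, ← TensorProduct.smul_tmul, ← TensorProduct.smul_tmul']
        have h2 : p • ((1 : ResidueField (Localization.AtPrime q)) ⊗ₜ[Localization.AtPrime q]
            (⟨z, hz'⟩ : Iq B J q)) = (residue _ p) •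
            ((1 : ResidueField (Localization.AtPrime q)) ⊗ₜ[Localization.AtPrime q]
              (⟨z, hz'⟩ : Iq B J q)) := by
          rw [TensorProduct.smul_tmul', TensorProduct.smul_tmul', smul_eq_mul, mul_one,
            Algebra.smul_def, mul_one]
          rfl
        rw [h2]
        exact Submodule.smul_mem _ _ (ihz hz')
  · rw [Fintype.card_fin, finrank_tensor_Iq, ← hmin]

end LI

end

-- ===== part 5 =====
section

variable (A B : Type u) [CommRing A] [CommRing B] [Algebra A B] {J : Ideal B}
  {q : Ideal B} [q.IsPrime]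

theorem linearIndependent_tmul_D_g [Algebra.FiniteType A B] (hJ : J.FG) (hJq : J ≤ q)
    [Algebra.IsSmoothAt A q] (Q : Ideal (B ⧸ J)) [Q.IsPrime]
    (hQ : Q.comap (Ideal.Quotient.mk J) = q) [Algebra.IsSmoothAt A Q]
    {r : ℕ} (g : Fin r → B) (hg : ∀ i, g i ∈ J)
    (hgen : Iq B J q = Ideal.span (Set.range fun i => algebraMap B (Localization.AtPrime q) (g i)))
    (hmin : r = Module.finrank q.ResidueField (q.ResidueField ⊗[B] J)) :
    LinearIndependent (ResidueField (Localization.AtPrime q))
      (fun i : Fin r => (1 : ResidueField (Localization.AtPrime q)) ⊗ₜ[Localization.AtPrime q]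
        D A (Localization.AtPrime q) (algebraMap B (Localization.AtPrime q) (g i))) := by
  letI := algK B hJq
  haveI := towerK B hJq
  have hinj := injective_cotangent A B hJ hJq Q hQ
  have hker : RingHom.ker (algebraMap (Localization.AtPrime q)
      (Localization.AtPrime q ⧸ Iq B J q)) = Iq B J q := by
    rw [Ideal.Quotient.algebraMap_eq, Ideal.mk_ker]
  let ε : Iq B J q ≃ₗ[Localization.AtPrime q] RingHom.ker (algebraMap (Localization.AtPrime q)
      (Localization.AtPrime q ⧸ Iq B J q)) := LinearEquiv.ofEq _ _ hker.symm
  let E : ResidueField (Localization.AtPrime q) ⊗[Localization.AtPrime q] Iq B J q ≃ₗ[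
      ResidueField (Localization.AtPrime q)]
      ResidueField (Localization.AtPrime q) ⊗[Localization.AtPrime q]
        RingHom.ker (algebraMap (Localization.AtPrime q) (Localization.AtPrime q ⧸ Iq B J q)) :=
    AlgebraTensorModule.congr (LinearEquiv.refl _ _) ε
  have h0 := linearIndependent_tmul_g B g hg hgen hmin
  have h1 := h0.map' E.toLinearMap (LinearMap.ker_eq_bot.mpr E.injective)
  have h2 := h1.map' _ (LinearMap.ker_eq_bot.mpr hinj)
  have h3 : (fun i : Fin r => (1 : ResidueField (Localization.AtPrime q)) ⊗ₜ[Localization.AtPrime q]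
        D A (Localization.AtPrime q) (algebraMap B (Localization.AtPrime q) (g i))) =
      (⇑(cotangentComplexBaseChange A (Localization.AtPrime q ⧸ Iq B J q) (Localization.AtPrime q)
          (ResidueField (Localization.AtPrime q))) ∘
        ⇑(E.toLinearMap) ∘ fun i => (1 : ResidueField (Localization.AtPrime q)) ⊗ₜ[Localization.AtPrime q]
          (⟨algebraMap B (Localization.AtPrime q) (g i), Ideal.mem_map_of_mem _ (hg i)⟩ :
            Iq B J q)) := by
    funext i
    simp only [Function.comp_apply, LinearEquiv.coe_coe, E, AlgebraTensorModule.congr_tmul,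
      LinearEquiv.refl_apply, cotangentComplexBaseChange_tmul, one_smul, kerToTensor_apply]
    rfl
  rw [h3]
  exact h2

end

end Groth.Agent.Lib.H9EtCoord
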