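import Groth.Agent.Lib.H9EtCoordA
import Groth.Agent.Lib.Helper6Tower

/-! Etale coordinates adapted to a smooth closed subscheme (affine form), part B: extension to a basis of differentials, etale chart on a principal open. -/

set_option autoImplicit false
set_option linter.style.haveILetI false
universe u
open TensorProduct KaehlerDifferential IsLocalRing

namespace Groth.Agent.Lib.H9EtCoord

-- ===== part 6 =====
section

/-- extend a linearly independent family to a basis, using vectors from a spanning family. -/
lemma exists_extend_vs {K V T : Type*} [Field K] [AddCommGroup V] [Module K V]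
    [FiniteDimensional K V]
    (c : T → V) (hc : Submodule.span K (Set.range c) = ⊤) {r : ℕ} (u : Fin r → T)
    (hu : LinearIndependent K (c ∘ u)) :
    ∃ (m : ℕ) (w : Fin m → T), LinearIndependent K (Sum.elim (c ∘ u) (c ∘ w)) ∧
      Submodule.span K (Set.range (Sum.elim (c ∘ u) (c ∘ w))) = ⊤ := by
  classical
  obtain ⟨W, hW⟩ : ∃ W : Submodule K V, W = Submodule.span K (Set.range (c ∘ u)) := ⟨_, rfl⟩
  have hS' : ⊤ ≤ Submodule.span K (Set.range (W.mkQ ∘ c)) := by
    rw [Set.range_comp, ← Submodule.map_span, hc, Submodule.map_top, Submodule.range_mkQ]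
  let bq := Module.Basis.ofSpan hS'
  haveI : Finite ((linearIndepOn_empty K id).extend (Set.empty_subset (Set.range (W.mkQ ∘ c)))) :=
    Module.Finite.finite_basis bq
  obtain ⟨m, ⟨e⟩⟩ := Finite.exists_equiv_fin
    ((linearIndepOn_empty K id).extend (Set.empty_subset (Set.range (W.mkQ ∘ c))))
  have hmem : ∀ i, ∃ x : T, W.mkQ (c x) = bq i := by
    intro i
    have := Module.Basis.ofSpan_subset hS' ⟨i, rfl⟩
    obtain ⟨x, hx⟩ := this
    exact ⟨x, hx⟩
  choose x hx using hmem
  refine ⟨m, fun j => x (e.symm j), ?_, ?_⟩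
  · let f : Fin r → W := fun i => ⟨c (u i), hW ▸ Submodule.subset_span ⟨i, rfl⟩⟩
    have hf : LinearIndependent K f := by
      apply LinearIndependent.of_comp W.subtype
      exact hu
    have hg : LinearIndependent K
        (Submodule.Quotient.mk (p := W) ∘ (c ∘ fun j => x (e.symm j))) := by
      have : (Submodule.Quotient.mk (p := W) ∘ (c ∘ fun j => x (e.symm j))) = bq ∘ e.symm := by
        funext j
        exact hx (e.symm j)
      rw [this]
      exact bq.linearIndependent.comp _ e.symm.injective
    exact LinearIndependent.sumElim_of_quotient hf _ hg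
  · rw [Set.Sum.elim_range, Submodule.span_union, ← hW, ← Submodule.map_mkQ_eq_top,
      Submodule.map_span, ← Set.range_comp]
    have : (W.mkQ ∘ (c ∘ fun j => x (e.symm j))) = bq ∘ e.symm := by
      funext j
      exact hx (e.symm j)
    rw [this, Set.range_comp, e.symm.range_eq_univ, Set.image_univ, bq.span_eq]

end

-- ===== part 7 =====
section

lemma span_tmul_eq_top {R M T : Type*} [CommRing R] [IsLocalRing R] [AddCommGroup M] [Module R M]
    (d : T → M) (hd : Submodule.span R (Set.range d) = ⊤) :
    Submodule.span (ResidueField R)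
      (Set.range fun x => (1 : ResidueField R) ⊗ₜ[R] d x) = ⊤ := by
  rw [eq_top_iff]
  rintro y -
  obtain ⟨m, rfl⟩ := TensorProduct.mk_surjective R M (ResidueField R) residue_surjective y
  have hm : m ∈ Submodule.span R (Set.range d) := hd ▸ Submodule.mem_top
  induction hm using Submodule.span_induction with
  | mem z hz =>
    obtain ⟨x, rfl⟩ := hz
    exact Submodule.subset_span ⟨x, rfl⟩
  | zero => rw [map_zero]; exact Submodule.zero_mem _
  | add z w _ _ hz hw => rw [map_add]; exact Submodule.add_mem _ hz hw
  | smul a z _ hz =>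
    have : (TensorProduct.mk R (ResidueField R) M 1) (a • z) =
        (residue R a) • (TensorProduct.mk R (ResidueField R) M 1) z := by
      rw [map_smul]
      simp only [TensorProduct.mk_apply]
      rw [TensorProduct.smul_tmul', TensorProduct.smul_tmul', smul_eq_mul, mul_one,
        Algebra.smul_def, mul_one]
      rfl
    rw [this]
    exact Submodule.smul_mem _ _ hz

lemma exists_extend_local {R M T : Type*} [CommRing R] [IsLocalRing R] [AddCommGroup M]
    [Module R M] [Module.Finite R M] [Module.Flat R M]
    (d : T → M) (hd : Submodule.span R (Set.range d) = ⊤) {r : ℕ} (u : Fin r → T)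
    (hu : LinearIndependent (ResidueField R) (fun i => (1 : ResidueField R) ⊗ₜ[R] d (u i))) :
    ∃ (m : ℕ) (w : Fin m → T), LinearIndependent R (Sum.elim (d ∘ u) (d ∘ w)) ∧
      Submodule.span R (Set.range (Sum.elim (d ∘ u) (d ∘ w))) = ⊤ := by
  obtain ⟨m, w, hli, hsp⟩ := exists_extend_vs (K := ResidueField R)
    (fun x => (1 : ResidueField R) ⊗ₜ[R] d x) (span_tmul_eq_top d hd) u hu
  have hfam : (Sum.elim ((fun x => (1 : ResidueField R) ⊗ₜ[R] d x) ∘ u)
      ((fun x => (1 : ResidueField R) ⊗ₜ[R] d x) ∘ w)) =
      (TensorProduct.mk R (ResidueField R) M 1) ∘ (Sum.elim (d ∘ u) (d ∘ w)) := by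
    funext i
    cases i <;> rfl
  rw [hfam] at hli hsp
  refine ⟨m, w, Module.IsLocalRing.linearIndependent_of_flat _ hli, ?_⟩
  exact IsLocalRing.span_eq_top_of_tmul_eq_basis _ (Module.Basis.mk hli hsp.ge)
    (fun i => (Module.Basis.mk_apply hli hsp.ge i).symm)

end

-- ===== part 8 =====
section

variable (A B : Type u) [CommRing A] [CommRing B] [Algebra A B] {J : Ideal B}
  (q : Ideal B) [q.IsPrime]

lemma span_D_algebraMap :
    Submodule.span (Localization.AtPrime q)
      (Set.range fun b : B => D A (Localization.AtPrime q)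
        (algebraMap B (Localization.AtPrime q) b)) = ⊤ := by
  rw [eq_top_iff, ← KaehlerDifferential.span_range_derivation, Submodule.span_le]
  rintro _ ⟨p, rfl⟩
  obtain ⟨b, s, rfl⟩ := IsLocalization.exists_mk'_eq q.primeCompl p
  set N := Submodule.span (Localization.AtPrime q)
      (Set.range fun b : B => D A (Localization.AtPrime q)
        (algebraMap B (Localization.AtPrime q) b)) with hN
  have hspec : IsLocalization.mk' (Localization.AtPrime q) b s *
      algebraMap B (Localization.AtPrime q) s = algebraMap B (Localization.AtPrime q) b :=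
    IsLocalization.mk'_spec _ _ _
  have hD := congrArg (D A (Localization.AtPrime q)) hspec
  rw [Derivation.leibniz] at hD
  have hu : IsUnit (algebraMap B (Localization.AtPrime q) s) :=
    IsLocalization.map_units (Localization.AtPrime q) s
  have h1 : algebraMap B (Localization.AtPrime q) s •
      D A (Localization.AtPrime q) (IsLocalization.mk' (Localization.AtPrime q) b s) ∈ N := by
    have : algebraMap B (Localization.AtPrime q) s •
        D A (Localization.AtPrime q) (IsLocalization.mk' (Localization.AtPrime q) b s) =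
        D A (Localization.AtPrime q) (algebraMap B (Localization.AtPrime q) b) -
          IsLocalization.mk' (Localization.AtPrime q) b s •
            D A (Localization.AtPrime q) (algebraMap B (Localization.AtPrime q) s) := by
      rw [← hD]; abel
    rw [this]
    exact Submodule.sub_mem _ (Submodule.subset_span ⟨b, rfl⟩)
      (Submodule.smul_mem _ _ (Submodule.subset_span ⟨s, rfl⟩))
  obtain ⟨v, hv⟩ := hu
  have h2 := Submodule.smul_mem N (↑v⁻¹ : Localization.AtPrime q) h1
  rwa [← hv, smul_smul, Units.inv_mul, one_smul] at h2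

end

-- ===== part 9 =====
section

theorem isEtaleAt_of_basis (A B : Type u) [CommRing A] [CommRing B] [Algebra A B]
    (σ : Type) [Algebra (MvPolynomial σ A) B] [IsScalarTower A (MvPolynomial σ A) B]
    (q : Ideal B) [q.IsPrime] [Algebra.IsSmoothAt A q]
    (hli : LinearIndependent (Localization.AtPrime q) (fun i : σ =>
      D A (Localization.AtPrime q) (algebraMap B (Localization.AtPrime q)
        (algebraMap (MvPolynomial σ A) B (MvPolynomial.X i)))))
    (hsp : Submodule.span (Localization.AtPrime q) (Set.range fun i : σ =>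
      D A (Localization.AtPrime q) (algebraMap B (Localization.AtPrime q)
        (algebraMap (MvPolynomial σ A) B (MvPolynomial.X i)))) = ⊤) :
    Algebra.IsEtaleAt (MvPolynomial σ A) q := by
  haveI : Algebra.FormallySmooth A (Localization.AtPrime q) := ‹Algebra.IsSmoothAt A q›
  haveI : IsScalarTower A (MvPolynomial σ A) (Localization.AtPrime q) := by
    refine IsScalarTower.of_algebraMap_eq (fun a => ?_)
    rw [IsScalarTower.algebraMap_apply A B (Localization.AtPrime q),
      IsScalarTower.algebraMap_apply (MvPolynomial σ A) B (Localization.AtPrime q),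
      ← IsScalarTower.algebraMap_apply A (MvPolynomial σ A) B]
  set v : σ → Ω[Localization.AtPrime q⁄A] := fun i => D A (Localization.AtPrime q)
    (algebraMap B (Localization.AtPrime q)
      (algebraMap (MvPolynomial σ A) B (MvPolynomial.X i))) with hv
  rw [show Algebra.IsEtaleAt (MvPolynomial σ A) q =
    Algebra.FormallyEtale (MvPolynomial σ A) (Localization.AtPrime q) from rfl,
    Groth.Agent.Lib.Helper6.Tower.formallyEtale_iff_bijective A (MvPolynomial σ A)
      (Localization.AtPrime q)]
  let b := (KaehlerDifferential.mvPolynomialBasis A σ).baseChange (Localization.AtPrime q)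
  have hb : ∀ i, mapBaseChange A (MvPolynomial σ A) (Localization.AtPrime q) (b i) =
      v i := by
    intro i
    simp only [b, Module.Basis.baseChange_apply, KaehlerDifferential.mvPolynomialBasis_apply,
      mapBaseChange_tmul, KaehlerDifferential.map_D, one_smul, hv]
    rw [← IsScalarTower.algebraMap_apply]
  let b' := Module.Basis.mk hli (by rw [hsp])
  let e := b.equiv b' (Equiv.refl _)
  have : mapBaseChange A (MvPolynomial σ A) (Localization.AtPrime q) = e.toLinearMap := by
    apply b.ext
    intro i
    rw [hb i, LinearEquiv.coe_coe, Module.Basis.equiv_apply, Equiv.refl_apply,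
      Module.Basis.mk_apply]
  rw [this]
  exact e.bijective

end

-- ===== part 10 =====
section

lemma exists_mul_mem_span {B : Type*} [CommRing B] (J : Ideal B) (hJ : J.FG)
    (q : Ideal B) [q.IsPrime] (I : Ideal B)
    (hgen : J.map (algebraMap B (Localization.AtPrime q)) ≤
      I.map (algebraMap B (Localization.AtPrime q))) :
    ∃ f ∉ q, ∀ j ∈ J, f * j ∈ I := by
  obtain ⟨S, rfl⟩ := hJ
  have key : ∀ s ∈ (S : Set B), ∃ f ∉ q, f * s ∈ I := by
    intro s hs
    have h1 : algebraMap B (Localization.AtPrime q) s ∈
        I.map (algebraMap B (Localization.AtPrime q)) :=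
      hgen (Ideal.mem_map_of_mem _ (Ideal.subset_span hs))
    rw [IsLocalization.mem_map_algebraMap_iff q.primeCompl] at h1
    obtain ⟨⟨a, t⟩, hat⟩ := h1
    rw [← map_mul] at hat
    obtain ⟨t', ht'⟩ := (IsLocalization.eq_iff_exists q.primeCompl _).mp hat
    refine ⟨t' * t, (t' * t).2, ?_⟩
    have : ((t' : B) * (t : B)) * s = t' * a := by
      rw [mul_assoc, mul_comm (t : B) s]; exact ht'
    change ((t' : B) * (t : B)) * s ∈ I
    rw [this]
    exact I.mul_mem_left _ a.2
  classical
  choose! φ hφ1 hφ2 using key
  refine ⟨∏ s ∈ S, φ s, ?_, ?_⟩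
  · intro h
    obtain ⟨s, hs, hsq⟩ := (Ideal.IsPrime.prod_mem_iff).mp h
    exact hφ1 s hs hsq
  · intro j hj
    induction hj using Submodule.span_induction with
    | mem x hx =>
      rw [← Finset.mul_prod_erase S φ hx, mul_right_comm]
      exact I.mul_mem_right _ (hφ2 x hx)
    | zero => rw [mul_zero]; exact I.zero_mem
    | add x y _ _ hx hy => rw [mul_add]; exact I.add_mem hx hy
    | smul a x _ hx => rw [smul_eq_mul, mul_left_comm]; exact I.mul_mem_left _ hx

lemma map_away_eq_span {B : Type*} [CommRing B] (J I : Ideal B) (hIJ : I ≤ J)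
    (f₂ : B) (h : ∀ j ∈ J, f₂ * j ∈ I) (f₁ : B) :
    J.map (algebraMap B (Localization.Away (f₁ * f₂))) =
      I.map (algebraMap B (Localization.Away (f₁ * f₂))) := by
  refine le_antisymm ?_ (Ideal.map_mono hIJ)
  rw [Ideal.map_le_iff_le_comap]
  intro j hj
  rw [Ideal.mem_comap]
  have hu : IsUnit (algebraMap B (Localization.Away (f₁ * f₂)) f₂) := by
    have := IsLocalization.Away.algebraMap_isUnit (S := Localization.Away (f₁ * f₂)) (f₁ * f₂)
    rw [map_mul] at this
    exact isUnit_of_mul_isUnit_right this
  obtain ⟨v, hv⟩ := hu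
  have h1 : algebraMap B (Localization.Away (f₁ * f₂)) (f₂ * j) ∈
      I.map (algebraMap B (Localization.Away (f₁ * f₂))) := Ideal.mem_map_of_mem _ (h j hj)
  have h2 := Ideal.mul_mem_left _ (↑v⁻¹ : Localization.Away (f₁ * f₂)) h1
  rwa [map_mul, ← hv, ← mul_assoc, Units.inv_mul, one_mul] at h2

end

-- ===== part 11 =====
section

theorem main (A B : Type u) [CommRing A] [CommRing B]
    [Algebra A B] [Algebra.FinitePresentation A B] (J : Ideal B) (hJ : J.FG) (q : Ideal B)
    [q.IsPrime] (hJq : J ≤ q)
    [Algebra.IsSmoothAt A q] (Q : Ideal (B ⧸ J)) [Q.IsPrime]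
    (hQ : Q.comap (Ideal.Quotient.mk J) = q)
    [Algebra.IsSmoothAt A Q] (r : ℕ) (g : Fin r → B) (hg : ∀ i, g i ∈ J)
    (hgen : J.map (algebraMap B (Localization.AtPrime q)) =
      Ideal.span (Set.range fun i => algebraMap B (Localization.AtPrime q) (g i)))
    (hmin : r = Module.finrank q.ResidueField (q.ResidueField ⊗[B] J)) :
    ∃ (f : B) (_ : f ∉ q) (m : ℕ) (w : Fin m → B),
      (MvPolynomial.aeval (Sum.elim (fun i => algebraMap B (Localization.Away f) (g i))
          (fun i => algebraMap B (Localization.Away f) (w i))) :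
          MvPolynomial (Fin r ⊕ Fin m) A →ₐ[A] Localization.Away f).toRingHom.Etale ∧
      J.map (algebraMap B (Localization.Away f)) =
        Ideal.span (Set.range fun i => algebraMap B (Localization.Away f) (g i)) := by
  obtain ⟨hfree, hfin⟩ := free_kaehler A B (q := q)
  have hLI := linearIndependent_tmul_D_g A B hJ hJq Q hQ g hg hgen hmin
  obtain ⟨m, w, hli, hsp⟩ := exists_extend_local (R := Localization.AtPrime q)
    (M := Ω[Localization.AtPrime q⁄A]) (T := B)
    (fun b => D A (Localization.AtPrime q) (algebraMap B (Localization.AtPrime q) b))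
    (span_D_algebraMap A B q) g hLI
  let φ₀ : MvPolynomial (Fin r ⊕ Fin m) A →ₐ[A] B := MvPolynomial.aeval (Sum.elim g w)
  letI : Algebra (MvPolynomial (Fin r ⊕ Fin m) A) B := φ₀.toRingHom.toAlgebra
  haveI : IsScalarTower A (MvPolynomial (Fin r ⊕ Fin m) A) B :=
    IsScalarTower.of_algebraMap_eq (fun a => (φ₀.commutes a).symm)
  have hX : ∀ i, algebraMap (MvPolynomial (Fin r ⊕ Fin m) A) B (MvPolynomial.X i) =
      Sum.elim g w i := fun i => MvPolynomial.aeval_X _ i
  have hfam : (fun i : Fin r ⊕ Fin m =>
      D A (Localization.AtPrime q) (algebraMap B (Localization.AtPrime q)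
        (algebraMap (MvPolynomial (Fin r ⊕ Fin m) A) B (MvPolynomial.X i)))) =
      Sum.elim ((fun b => D A (Localization.AtPrime q)
        (algebraMap B (Localization.AtPrime q) b)) ∘ g)
        ((fun b => D A (Localization.AtPrime q)
        (algebraMap B (Localization.AtPrime q) b)) ∘ w) := by
    funext i
    rw [hX]
    cases i <;> rfl
  haveI : Algebra.IsEtaleAt (MvPolynomial (Fin r ⊕ Fin m) A) q :=
    isEtaleAt_of_basis A B (Fin r ⊕ Fin m) q (by rw [hfam]; exact hli) (by rw [hfam]; exact hsp)
  haveI : Algebra.FinitePresentation (MvPolynomial (Fin r ⊕ Fin m) A) B :=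
    Algebra.FinitePresentation.of_restrict_scalars_finitePresentation A _ _
  obtain ⟨f₁, hf₁, hE⟩ := Algebra.exists_etale_of_isEtaleAt
    (R := MvPolynomial (Fin r ⊕ Fin m) A) q
  have hgen' : J.map (algebraMap B (Localization.AtPrime q)) ≤
      (Ideal.span (Set.range g)).map (algebraMap B (Localization.AtPrime q)) := by
    rw [hgen, Ideal.map_span, ← Set.range_comp]
    rfl
  obtain ⟨f₂, hf₂, hmul⟩ := exists_mul_mem_span J hJ q (Ideal.span (Set.range g)) hgen'
  have hIJ : Ideal.span (Set.range g) ≤ J := by
    rw [Ideal.span_le]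
    rintro _ ⟨i, rfl⟩
    exact hg i
  refine ⟨f₁ * f₂, fun h => (Ideal.IsPrime.mem_or_mem ‹_› h).elim hf₁ hf₂, m, w, ?_, ?_⟩
  · have hE' : Algebra.Etale (MvPolynomial (Fin r ⊕ Fin m) A) (Localization.Away (f₁ * f₂)) := by
      rw [← Algebra.basicOpen_subset_etaleLocus_iff_etale] at hE ⊢
      refine subset_trans ?_ hE
      intro p hp
      rw [SetLike.mem_coe, PrimeSpectrum.mem_basicOpen] at hp ⊢
      exact fun h => hp (Ideal.mul_mem_right _ _ h)
    have : (MvPolynomial.aeval (Sum.elim
        (fun i => algebraMap B (Localization.Away (f₁ * f₂)) (g i))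
        (fun i => algebraMap B (Localization.Away (f₁ * f₂)) (w i))) :
        MvPolynomial (Fin r ⊕ Fin m) A →ₐ[A] Localization.Away (f₁ * f₂)).toRingHom =
        algebraMap (MvPolynomial (Fin r ⊕ Fin m) A) (Localization.Away (f₁ * f₂)) := by
      have h1 : (MvPolynomial.aeval (Sum.elim
          (fun i => algebraMap B (Localization.Away (f₁ * f₂)) (g i))
          (fun i => algebraMap B (Localization.Away (f₁ * f₂)) (w i))) :
          MvPolynomial (Fin r ⊕ Fin m) A →ₐ[A] Localization.Away (f₁ * f₂)) =
          (IsScalarTower.toAlgHom A B (Localization.Away (f₁ * f₂))).comp φ₀ := by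
        apply MvPolynomial.algHom_ext
        intro i
        rw [AlgHom.comp_apply, MvPolynomial.aeval_X, MvPolynomial.aeval_X]
        cases i <;> rfl
      rw [h1]
      exact (IsScalarTower.algebraMap_eq (MvPolynomial (Fin r ⊕ Fin m) A) B
        (Localization.Away (f₁ * f₂))).symm
    rw [this]
    exact RingHom.etale_algebraMap.mpr hE'
  · rw [map_away_eq_span J (Ideal.span (Set.range g)) hIJ f₂ hmul f₁, Ideal.map_span,
      ← Set.range_comp]
    rfl

end

end Groth.Agent.Lib.H9EtCoord
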