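/-
helper9: an étale separated S-scheme mapping to a smooth S-scheme which is étale over a dense open,
by a map which is an isomorphism over that open, is an open subscheme (S13428).
-/
import Mathlib
import Groth.Prelude.Def_CInt
import Groth.Agent.Lib.Helper3SmDim
import Groth.Agent.Lib.Helper3FlatFibDim
import Groth.Agent.Lib.Helper20SchDense

set_option autoImplicit false
set_option linter.style.haveILetI false
universe u
open CategoryTheory CategoryTheory.Limits AlgebraicGeometry TopologicalSpace

namespace Groth.Agent.Lib.H9EtExtNeron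

/-- A smooth morphism which is étale on a dense open of the source is étale. -/
theorem etale_of_smooth_of_etale_on_dense {X S X₀ : Scheme.{u}} (f : X ⟶ S) [Smooth f]
    (j : X₀ ⟶ X) [IsOpenImmersion j] [Etale (j ≫ f)] (hd : Dense (Set.range j)) : Etale f := by
  rw [Etale.iff_smoothOfRelativeDimension_zero]
  refine ⟨fun x => ?_⟩
  obtain ⟨U, hU, V, hV, hxV, e, hst⟩ := Smooth.exists_isStandardSmooth f x
  obtain ⟨n, hn⟩ := Groth.Agent.Lib.Helper3.SmDim.exists_relDim_of_isStandardSmooth _ hst
  obtain ⟨_, hx'V, ⟨x'', rfl⟩⟩ := hd.inter_open_nonempty V V.2 ⟨x, hxV⟩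
  have h1 : FlatMor.fibreDimAt f (j x'') = (n : WithBot ℕ∞) :=
    Groth.Agent.Lib.Helper3.SmDim.fibreDimAt_eq_of_chart f n (j x'') hU hV hx'V e hn
  have h2 : FlatMor.fibreDimAt (j ≫ f) x'' = FlatMor.fibreDimAt f (j x'') :=
    Groth.Agent.Lib.Helper3.FlatFibDim.fibreDimAt_comp_of_isOpenImmersion j f x''
  have h3 : FlatMor.fibreDimAt (j ≫ f) x'' = ((0 : ℕ) : WithBot ℕ∞) :=
    Groth.Agent.Lib.Helper3.SmDim.fibreDimAt_eq_of_smoothOfRelativeDimension 0 (j ≫ f) x''
  have hn0 : n = 0 := by
    have : ((n : ℕ) : WithBot ℕ∞) = ((0 : ℕ) : WithBot ℕ∞) := by rw [← h1, ← h2, h3]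
    exact_mod_cast this
  subst hn0
  exact ⟨U, hU, V, hV, hxV, e, hn⟩

/-- A separated unramified morphism which is a monomorphism on an open `M₀` such that
`fst ⁻¹ M₀ ∩ snd ⁻¹ M₀` is dense in `M ×_N M`, is a monomorphism. -/
theorem mono_of_mono_on_dense {M N M₀ : Scheme.{u}} (φ : M ⟶ N) [IsSeparated φ]
    [FormallyUnramified φ] [LocallyOfFiniteType φ] (j : M₀ ⟶ M) [IsOpenImmersion j]
    (hmono : Mono (j ≫ φ))
    (hdense : Dense ((pullback.fst φ φ) ⁻¹' Set.range j ∩ (pullback.snd φ φ) ⁻¹' Set.range j)) :
    Mono φ := by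
  rw [← pullback.isIso_diagonal_iff]
  have hcl : IsClosed (Set.range (pullback.diagonal φ)) :=
    (pullback.diagonal φ).isClosedEmbedding.isClosed_range
  have hsub : (pullback.fst φ φ) ⁻¹' Set.range j ∩ (pullback.snd φ φ) ⁻¹' Set.range j ⊆
      Set.range (pullback.diagonal φ) := by
    rintro z ⟨hz1, hz2⟩
    let t := (pullback φ φ).fromSpecResidueField z
    have ht1 : Set.range (t ≫ pullback.fst φ φ) ⊆ Set.range j := by
      rintro _ ⟨w, rfl⟩
      rw [Scheme.Hom.comp_apply]
      have : t w = z := by
        have := (pullback φ φ).range_fromSpecResidueField z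
        have hw : t w ∈ Set.range t := ⟨w, rfl⟩
        rw [this] at hw
        exact hw
      rw [this]
      exact hz1
    have ht2 : Set.range (t ≫ pullback.snd φ φ) ⊆ Set.range j := by
      rintro _ ⟨w, rfl⟩
      rw [Scheme.Hom.comp_apply]
      have : t w = z := by
        have := (pullback φ φ).range_fromSpecResidueField z
        have hw : t w ∈ Set.range t := ⟨w, rfl⟩
        rw [this] at hw
        exact hw
      rw [this]
      exact hz2
    let a := IsOpenImmersion.lift j (t ≫ pullback.fst φ φ) ht1
    let b := IsOpenImmersion.lift j (t ≫ pullback.snd φ φ) ht2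
    have ha : a ≫ j = t ≫ pullback.fst φ φ := IsOpenImmersion.lift_fac _ _ _
    have hb : b ≫ j = t ≫ pullback.snd φ φ := IsOpenImmersion.lift_fac _ _ _
    have hab : a = b := by
      rw [← cancel_mono (j ≫ φ), ← Category.assoc, ← Category.assoc, ha, hb, Category.assoc,
        Category.assoc, pullback.condition]
    have hfs : t ≫ pullback.fst φ φ = t ≫ pullback.snd φ φ := by rw [← ha, ← hb, hab]
    have htd : t = (t ≫ pullback.fst φ φ) ≫ pullback.diagonal φ := by
      apply pullback.hom_ext
      · simp only [Category.assoc, pullback.diagonal_fst, Category.comp_id]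
      · simp only [Category.assoc, pullback.diagonal_snd, Category.comp_id]
        exact hfs.symm
    obtain ⟨w⟩ : Nonempty (Spec ((pullback φ φ).residueField z)) := inferInstance
    have hz : t w = z := by
      have := (pullback φ φ).range_fromSpecResidueField z
      have hw : t w ∈ Set.range t := ⟨w, rfl⟩
      rw [this] at hw
      exact hw
    rw [← hz, htd, Scheme.Hom.comp_apply]
    exact ⟨_, rfl⟩
  have huniv : Set.range (pullback.diagonal φ) = Set.univ := by
    apply Set.eq_univ_of_univ_subset
    rw [← hdense.closure_eq]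
    exact closure_minimal hsub hcl
  haveI : Surjective (pullback.diagonal φ) := ⟨fun z => by
    have : z ∈ Set.range (pullback.diagonal φ) := by rw [huniv]; trivial
    exact this⟩
  exact (isIso_iff_isOpenImmersion_and_surjective _).mpr ⟨inferInstance, inferInstance⟩

/-- Main theorem (S13428). -/
theorem main {S : Scheme.{u}} (S₀ : S.Opens) (hS₀ : CInt.IsSchematicallyDense S₀)
    (N : Over S) [Smooth N.hom]
    [Etale ((Over.pullback S₀.ι).obj N).hom]
    (M : Over S) [Etale M.hom] [IsSeparated M.hom]
    (φ : M ⟶ N) [IsIso ((Over.pullback S₀.ι).map φ)] :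
    IsOpenImmersion φ.left := by
  have hdS : Dense (S₀ : Set S) :=
    Groth.Agent.Lib.Helper20.SchDense.dense_of_isSchematicallyDense S₀ hS₀
  -- `N` is étale over `S`
  haveI : Etale (pullback.snd N.hom S₀.ι) := ‹Etale ((Over.pullback S₀.ι).obj N).hom›
  haveI : Etale (pullback.fst N.hom S₀.ι ≫ N.hom) := by
    rw [pullback.condition]; infer_instance
  haveI hNet : Etale N.hom := by
    apply etale_of_smooth_of_etale_on_dense N.hom (pullback.fst N.hom S₀.ι)
    rw [Scheme.Pullback.range_fst, Scheme.Opens.range_ι]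
    exact hdS.preimage N.hom.isOpenMap
  -- `φ` is étale and separated
  have hw : φ.left ≫ N.hom = M.hom := Over.w φ
  haveI : Etale (φ.left ≫ N.hom) := by rw [hw]; infer_instance
  haveI : IsSeparated (φ.left ≫ N.hom) := by rw [hw]; infer_instance
  haveI : Etale φ.left := Etale.of_comp φ.left N.hom
  haveI : IsSeparated φ.left := IsSeparated.of_comp φ.left N.hom
  -- `φ` is a monomorphism over `S₀`
  haveI : IsIso ((Over.pullback S₀.ι).map φ).left :=
    inferInstanceAs (IsIso ((Over.forget _).map ((Over.pullback S₀.ι).map φ)))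
  have hψ : ((Over.pullback S₀.ι).map φ).left ≫ pullback.fst N.hom S₀.ι =
      pullback.fst M.hom S₀.ι ≫ φ.left := by
    simp only [Over.pullback, Over.homMk_left]
    exact pullback.lift_fst _ _ _
  have hmono : Mono (pullback.fst M.hom S₀.ι ≫ φ.left) := by
    rw [← hψ]; infer_instance
  haveI : Mono φ.left := by
    apply mono_of_mono_on_dense φ.left (pullback.fst M.hom S₀.ι) hmono
    -- density
    haveI : Etale (pullback.fst φ.left φ.left ≫ M.hom) := inferInstance
    have hd : Dense ((pullback.fst φ.left φ.left ≫ M.hom) ⁻¹' (S₀ : Set S)) :=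
      hdS.preimage (pullback.fst φ.left φ.left ≫ M.hom).isOpenMap
    refine hd.mono ?_
    intro z hz
    rw [Scheme.Pullback.range_fst, Scheme.Opens.range_ι]
    refine ⟨?_, ?_⟩
    · simpa using hz
    · have h2 : pullback.snd φ.left φ.left ≫ M.hom = pullback.fst φ.left φ.left ≫ M.hom := by
        rw [← hw, ← Category.assoc, ← pullback.condition, Category.assoc]
      have : (pullback.snd φ.left φ.left ≫ M.hom) z ∈ (S₀ : Set S) := by rw [h2]; exact hz
      simpa using this
  exact IsOpenImmersion.of_flat_of_mono φ.left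

end Groth.Agent.Lib.H9EtExtNeron
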