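import Mathlib
import Groth.Prelude.Def_ega3
import Groth.Agent.Lib.Helper21ModTensor3
import Groth.Agent.Lib.Helper1CI3
import Groth.Agent.Lib.Helper2PullbackSec
import Groth.Agent.Lib.Helper23TensorQCoh
import Groth.Agent.Lib.Helper20FormalPull
import Groth.Agent.Lib.R2H2TensorLin
import Groth.Agent.Lib.Helper13PullbackUnit
import Groth.Agent.Lib.Helper23TensorUnit
import Groth.Agent.Lib.Helper23PB
set_option backward.isDefEq.respectTransparency.types false

/-!
# The functor `M ↦ f^*(M~) ⊗ F` (helper2, round 2)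

Basic properties of `Ψ = CohIII.tensorAFunctor A F : ModuleCat A ⥤ X.Modules`:
additive, cocontinuous, quasi-coherent values, `Ψ (a • 𝟙) = a •` (`map_smul_id`), `Ψ A ≅ F` (`objUnitIso`).
-/

set_option autoImplicit false
set_option linter.unusedSectionVars false
universe u
open CategoryTheory CategoryTheory.Limits AlgebraicGeometry Opposite MonoidalCategory

noncomputable section

namespace Groth.Agent.Lib.R2H2.PsiA

open Groth.Agent.Lib.Helper21.ModTensor Groth.Agent.Lib.Helper21.ModTensor2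
  Groth.Agent.Lib.Helper21.ModTensor3 Groth.Agent.Lib.Helper21.Dual

section TensorR

variable {X : Scheme.{u}}

/-- `(r ·) ⊗ F = (r ·)` on `N ⊗ F` -/
theorem tensorRightMod_map_smulModΓ (F N : X.Modules) (r : Coh.Γtop X) :
    (DCoh.tensorRightMod F).map (Formal.smulModΓ N r) =
      Formal.smulModΓ ((DCoh.tensorRightMod F).obj N) r := by
  change (tR X.sheaf F).map (Formal.smulModΓ N r) = _
  rw [tR_map]
  apply shf_hom_ext
  have hnat := (adj X.sheaf).unit.naturality
    ((fgt X.sheaf).map (Formal.smulModΓ N r) ▷ (fgt X.sheaf).obj F)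
  refine hnat.symm.trans ?_
  ext U : 1
  apply ModuleCat.MonoidalCategory.tensor_ext
  intro m n
  let P : PM X.sheaf := (fgt X.sheaf).obj N ⊗ (fgt X.sheaf).obj F
  let ρ : ↑((X.sheaf.obj ⋙ forget₂ CommRingCat RingCat).obj U) := Coh.resTop X U r
  have h1 : (ModuleCat.Hom.hom
        (((𝟭 (PM X.sheaf)).map ((fgt X.sheaf).map (Formal.smulModΓ N r) ▷ (fgt X.sheaf).obj F) ≫
              (adj X.sheaf).unit.app ((fgt X.sheaf).obj N ⊗ (fgt X.sheaf).obj F)).app
          U))
      (m ⊗ₜ[↑((X.sheaf.obj ⋙ forget₂ CommRingCat RingCat).obj U)] n) =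
      (ModuleCat.Hom.hom ((eta X.sheaf P).app U))
        ((ρ • m) ⊗ₜ[↑((X.sheaf.obj ⋙ forget₂ CommRingCat RingCat).obj U)] n) := rfl
  have h2 : (ModuleCat.Hom.hom
        ((eta X.sheaf ((fgt X.sheaf).obj N ⊗ (fgt X.sheaf).obj F) ≫
              (fgt X.sheaf).map (Formal.smulModΓ ((DCoh.tensorRightMod F).obj N) r)).app
          U))
      (m ⊗ₜ[↑((X.sheaf.obj ⋙ forget₂ CommRingCat RingCat).obj U)] n) =
      ρ • (ModuleCat.Hom.hom ((eta X.sheaf P).app U))
        (m ⊗ₜ[↑((X.sheaf.obj ⋙ forget₂ CommRingCat RingCat).obj U)] n) := rfl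
  refine h1.trans (Eq.trans ?_ h2.symm)
  have h3 : (ρ • m) ⊗ₜ[↑((X.sheaf.obj ⋙ forget₂ CommRingCat RingCat).obj U)] n =
      ρ • (m ⊗ₜ[↑((X.sheaf.obj ⋙ forget₂ CommRingCat RingCat).obj U)] n) :=
    (TensorProduct.smul_tmul' ρ m n).symm
  exact (congrArg (ModuleCat.Hom.hom ((eta X.sheaf P).app U)) h3).trans
    (map_smul (ModuleCat.Hom.hom ((eta X.sheaf P).app U)) ρ _)

end TensorR

section Tilde

variable {R : CommRingCat.{u}} (M : ModuleCat.{u} R)

/-- `(a ·)~ = (a ·)` on `M~` -/
theorem tilde_map_smul (a : R) :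
    tilde.map (a • 𝟙 M) =
      Formal.smulModΓ (tilde M) ((Scheme.ΓSpecIso R).inv.hom a) := by
  apply Groth.Agent.Helper13PullbackUnit.hom_ext_top
  intro x
  obtain ⟨m, rfl⟩ : ∃ m, (tilde.toOpen M ⊤).hom m = x :=
    (ConcreteCategory.bijective_of_isIso (tilde.toOpen M ⊤)).2 x
  have h1 := ConcreteCategory.congr_hom (tilde.toOpen_map_app (a • 𝟙 M) ⊤) m
  refine h1.trans ?_
  have h2 : ((a • 𝟙 M) ≫ tilde.toOpen M ⊤).hom m = a • (tilde.toOpen M ⊤).hom m := by
    show (tilde.toOpen M ⊤).hom (a • m) = _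
    exact map_smul _ a m
  exact h2

end Tilde

section Psi

variable (A : Type u) [CommRing A] {X : Scheme.{u}} [X.Over (Spec (CommRingCat.of A))]
  (F : X.Modules)

instance : (CohIII.tensorAFunctor A F).Additive := by
  unfold CohIII.tensorAFunctor
  infer_instance

instance : PreservesColimitsOfSize.{u, u} (DCoh.tensorRightMod F) :=
  Groth.Agent.Lib.Helper21.ModTensor3.tR_preservesColimits (O := X.sheaf) F

instance : PreservesColimitsOfSize.{u, u} (CohIII.tensorAFunctor A F) := by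
  unfold CohIII.tensorAFunctor
  haveI : PreservesColimitsOfSize.{u, u} (tilde.functor (CommRingCat.of A)) :=
    (tilde.adjunction (R := CommRingCat.of A)).leftAdjoint_preservesColimits
  haveI : PreservesColimitsOfSize.{u, u}
      (Scheme.Modules.pullback (X ↘ Spec (CommRingCat.of A))) :=
    (Scheme.Modules.pullbackPushforwardAdjunction _).leftAdjoint_preservesColimits
  infer_instance

theorem isQuasicoherent_obj [F.IsQuasicoherent] (M : ModuleCat.{u} A) :
    ((CohIII.tensorAFunctor A F).obj M).IsQuasicoherent := by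
  haveI h0 : ((tilde.functor (CommRingCat.of A)).obj M).IsQuasicoherent :=
    (inferInstance : (tilde (R := CommRingCat.of A) M).IsQuasicoherent)
  haveI : ((Scheme.Modules.pullback (X ↘ Spec (CommRingCat.of A))).obj
      ((tilde.functor (CommRingCat.of A)).obj M)).IsQuasicoherent :=
    Groth.Agent.Lib.Helper2.PullbackSec.isQuasicoherent_pullback _ _
  exact Groth.Agent.Lib.Helper23.TensorQCoh.isQuasicoherent_tensorMod
    ((Scheme.Modules.pullback (X ↘ Spec (CommRingCat.of A))).obj
      ((tilde.functor (CommRingCat.of A)).obj M)) F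

/-- **`Ψ` is `A`-linear** -/
theorem map_smul_id (M : ModuleCat.{u} A) (a : A) :
    (CohIII.tensorAFunctor A F).map (a • 𝟙 M) =
      Formal.smulMod A ((CohIII.tensorAFunctor A F).obj M) a := by
  show (DCoh.tensorRightMod F).map ((Scheme.Modules.pullback (X ↘ Spec (CommRingCat.of A))).map
    ((tilde.functor (CommRingCat.of A)).map (a • 𝟙 M))) = _
  have h1 : (tilde.functor (CommRingCat.of A)).map (a • 𝟙 M) =
      Formal.smulModΓ ((tilde.functor (CommRingCat.of A)).obj M)
        ((Scheme.ΓSpecIso (CommRingCat.of A)).inv.hom a) :=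
    tilde_map_smul (R := CommRingCat.of A) M a
  rw [h1, Groth.Agent.Lib.Helper20.FormalPull.pullback_map_smulModΓ,
    tensorRightMod_map_smulModΓ]
  rfl

/-- `Ψ(A) ≅ F` -/
def objUnitIso : (CohIII.tensorAFunctor A F).obj (ModuleCat.of A A) ≅ F :=
  PicGrp.tensorModIso
      (Groth.Agent.Lib.Helper23.PB.pullbackUnitIso (X ↘ Spec (CommRingCat.of A)))
      (Iso.refl F) ≪≫
    Groth.Agent.Lib.Helper23.TensorUnit.unitTensorIso F

end Psi

end Groth.Agent.Lib.R2H2.PsiA
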