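import Mathlib
import Groth.Agent.Lib.H9EtE
import Groth.Agent.Lib.R2H2PsiA

/-! helper9: `Ψ(A/J) ≅ ΨA/JΨA` for `Ψ = CohIII.tensorAFunctor A F`: `σJ`, `qJ`, `isColimitQJ` (A → A/J is the cokernel of ∐_{a∈J} A → A), `isColimitΨq'`, `θ`, `πJ_θ`, `surjective_map_qJ`. -/

set_option autoImplicit false
set_option linter.unusedSectionVars false
universe u

noncomputable section

namespace Groth.Agent.Lib.H9EtH

open CategoryTheory CategoryTheory.Limits AlgebraicGeometry TopologicalSpace Opposite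
open Groth.Agent.Lib.R2H2.FlatDev Groth.Agent.Lib.R2H2.SheafBC Groth.Agent.Lib.R2H2.PsiA
open Groth.Agent.Lib.H9EtE

section Alg

variable (A : Type u) [CommRing A] (J : Ideal A)

/-- `∐_{a ∈ J} A → A`, multiplication by `a` on the `a`-th summand -/
def σJ : (∐ fun _ : J => ModuleCat.of A A) ⟶ ModuleCat.of A A :=
  Sigma.desc (fun a => (a : A) • 𝟙 (ModuleCat.of A A))

/-- `A → A/J` -/
def qJ : ModuleCat.of A A ⟶ ModuleCat.of A (A ⧸ J) :=
  ModuleCat.ofHom (Algebra.linearMap A (A ⧸ J))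

theorem σJ_qJ : σJ A J ≫ qJ A J = 0 := by
  apply Sigma.hom_ext
  intro a
  rw [σJ, Sigma.ι_desc_assoc, comp_zero]
  ext
  simp only [qJ, ModuleCat.hom_comp, ModuleCat.hom_smul, ModuleCat.hom_id, ModuleCat.hom_ofHom,
    LinearMap.coe_comp, Function.comp_apply, LinearMap.smul_apply, LinearMap.id_coe, id_eq,
    Algebra.linearMap_apply, ModuleCat.hom_zero, LinearMap.zero_apply]
  rw [smul_eq_mul, mul_one]
  exact Ideal.Quotient.eq_zero_iff_mem.2 a.2

instance : Epi (qJ A J) := by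
  rw [ModuleCat.epi_iff_surjective]
  exact Ideal.Quotient.mk_surjective

theorem exact_SJ : (ShortComplex.mk (σJ A J) (qJ A J) (σJ_qJ A J)).Exact := by
  rw [ShortComplex.moduleCat_exact_iff]
  intro x₂ hx₂
  have hx : (x₂ : A) ∈ J := Ideal.Quotient.eq_zero_iff_mem.1 hx₂
  refine ⟨(Sigma.ι (fun _ : J => ModuleCat.of A A) ⟨x₂, hx⟩).hom (1 : A), ?_⟩
  change ((Sigma.ι (fun _ : J => ModuleCat.of A A) ⟨x₂, hx⟩) ≫ σJ A J).hom (1 : A) = x₂
  rw [σJ, Sigma.ι_desc]
  simp only [ModuleCat.hom_smul, ModuleCat.hom_id, LinearMap.smul_apply, LinearMap.id_coe, id_eq]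
  rw [smul_eq_mul, mul_one]

/-- `A → A/J` is the cokernel of `∐_{a∈J} A → A` -/
def isColimitQJ : IsColimit (CokernelCofork.ofπ (qJ A J) (σJ_qJ A J)) :=
  (exact_SJ A J).gIsCokernel

end Alg


section Psi

open Groth.Agent.Lib.R2H2.HHLin

variable (A : Type u) [CommRing A] {X : Scheme.{u}} [X.Over (Spec (CommRingCat.of A))]
  (F : X.Modules) (J : Ideal A)

theorem map_σJ_map_qJ :
    (CohIII.tensorAFunctor A F).map (σJ A J) ≫ (CohIII.tensorAFunctor A F).map (qJ A J) = 0 := by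
  rw [← Functor.map_comp, σJ_qJ, Functor.map_zero]

/-- `Ψ(A → A/J)` is a cokernel of `Ψ(∐ A → A)` -/
def isColimitΨq : IsColimit (CokernelCofork.ofπ ((CohIII.tensorAFunctor A F).map (qJ A J))
    (map_σJ_map_qJ A F J)) :=
  isColimitCoforkMapOfIsColimit' (CohIII.tensorAFunctor A F) (σJ_qJ A J) (isColimitQJ A J)

theorem sigmaComparison_map_σJ :
    Formal.smulFamily J ((CohIII.tensorAFunctor A F).obj (ModuleCat.of A A)) =
      sigmaComparison (CohIII.tensorAFunctor A F) (fun _ : J => ModuleCat.of A A) ≫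
        (CohIII.tensorAFunctor A F).map (σJ A J) := by
  apply Sigma.hom_ext
  intro a
  rw [ι_comp_sigmaComparison_assoc, ← Functor.map_comp, σJ, Sigma.ι_desc, map_smul_id]
  unfold Formal.smulFamily
  rw [Sigma.ι_desc]

theorem smulFamily_map_qJ :
    Formal.smulFamily J ((CohIII.tensorAFunctor A F).obj (ModuleCat.of A A)) ≫
      (CohIII.tensorAFunctor A F).map (qJ A J) = 0 := by
  rw [sigmaComparison_map_σJ, Category.assoc, map_σJ_map_qJ, comp_zero]

/-- `Ψ(A → A/J)` is a cokernel of `∐ ΨA → ΨA` (multiplications by the elements of `J`) -/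
def isColimitΨq' : IsColimit (CokernelCofork.ofπ ((CohIII.tensorAFunctor A F).map (qJ A J))
    (smulFamily_map_qJ A F J)) :=
  isCokernelEpiComp (isColimitΨq A F J)
    (sigmaComparison (CohIII.tensorAFunctor A F) (fun _ : J => ModuleCat.of A A))
    (sigmaComparison_map_σJ A F J)

/-- `ΨA / J ΨA ≅ Ψ(A/J)` -/
def θ : modJ J ((CohIII.tensorAFunctor A F).obj (ModuleCat.of A A)) ≅
    (CohIII.tensorAFunctor A F).obj (ModuleCat.of A (A ⧸ J)) :=
  IsColimit.coconePointUniqueUpToIso (cokernelIsCokernel _) (isColimitΨq' A F J)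

theorem πJ_θ : πJ J ((CohIII.tensorAFunctor A F).obj (ModuleCat.of A A)) ≫ (θ A F J).hom =
    (CohIII.tensorAFunctor A F).map (qJ A J) :=
  IsColimit.comp_coconePointUniqueUpToIso_hom (cokernelIsCokernel _) (isColimitΨq' A F J)
    WalkingParallelPair.one

/-- surjectivity of `H^i(ΨA) → H^i(Ψ(A/J))` from that of `H^i(ΨA) → H^i(ΨA/JΨA)` -/
theorem surjective_map_qJ (i : ℕ)
    (hs : Function.Surjective
      (HmapL (πJ J ((CohIII.tensorAFunctor A F).obj (ModuleCat.of A A))) i)) :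
    Function.Surjective (HmapL ((CohIII.tensorAFunctor A F).map (qJ A J)) i) := by
  intro y
  obtain ⟨x, hx⟩ := hs (HmapL (θ A F J).inv i y)
  refine ⟨x, ?_⟩
  rw [← πJ_θ, HmapL_comp, hx, ← HmapL_comp, Iso.inv_hom_id, HmapL_id]

end Psi

end Groth.Agent.Lib.H9EtH
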