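import Mathlib
import Groth.Agent.Lib.R2H2Bridge
import Groth.Agent.Lib.H9EtH
import Groth.Agent.Lib.R2H2BridgeTr
import Groth.Agent.Lib.R2H3SchemDense
import Groth.Agent.S2409

/-! helper9: S4510 `main` (cohomological flatness in degree 0 when Γ(X_y,O) is étale over κ(y), local Noetherian base): `φy` (A → κ(y)), `specMap_φy`, `φy_surjective`, `φy_eq_zero_iff`; assembly of the core lemma (H9EtE), `H9EtH.surjective_map_qJ`, helper2's `R2H2Bridge.bridge'` and S2409. -/

set_option autoImplicit false
set_option linter.unusedSectionVars false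
universe u

noncomputable section

namespace Groth.Agent.Lib.H9EtI

open CategoryTheory CategoryTheory.Limits AlgebraicGeometry TopologicalSpace Opposite
open Groth.Agent.Lib.R2H2.FlatDev Groth.Agent.Lib.R2H2.SheafBC Groth.Agent.Lib.R2H2.PsiA
open Groth.Agent.Lib.H9EtE Groth.Agent.Lib.H9EtH Groth.Agent.Lib.R2H2.HHLin

attribute [local instance] HasDerivedCategory.standard

section Res

variable (A : Type u) [CommRing A] (y : Spec (CommRingCat.of A))

/-- `A → κ(y)` -/
def φy : A →+* (Spec (CommRingCat.of A)).residueField y :=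
  ((Scheme.ΓSpecIso (CommRingCat.of A)).inv ≫
    (Spec (CommRingCat.of A)).presheaf.germ ⊤ y trivial ≫
      (Spec (CommRingCat.of A)).residue y).hom

theorem specMap_φy :
    Spec.map (CommRingCat.ofHom (φy A y)) = (Spec (CommRingCat.of A)).fromSpecResidueField y := by
  unfold φy Scheme.fromSpecResidueField
  rw [Spec.fromSpecStalk_eq, ← Spec.map_comp]
  rfl

theorem φy_eq (a : A) : φy A y a =
    (Scheme.Spec.residueFieldIso (CommRingCat.of A) y).inv.hom
      (algebraMap A y.asIdeal.ResidueField a) := by
  have := Scheme.Spec.algebraMap_residueFieldIso_inv (CommRingCat.of A) y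
  have h2 := congrArg (fun t => t.hom a) this
  exact h2.symm

theorem φy_surjective [y.asIdeal.IsMaximal] : Function.Surjective (φy A y) := by
  intro b
  obtain ⟨a, ha⟩ := Ideal.algebraMap_residueField_surjective y.asIdeal
    ((Scheme.Spec.residueFieldIso (CommRingCat.of A) y).hom.hom b)
  refine ⟨a, ?_⟩
  rw [φy_eq, ha]
  exact CategoryTheory.congr_fun (Scheme.Spec.residueFieldIso (CommRingCat.of A) y).hom_inv_id b

theorem φy_eq_zero_iff (a : A) : φy A y a = 0 ↔ a ∈ y.asIdeal := by
  rw [φy_eq, ← Ideal.algebraMap_residueField_eq_zero]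
  constructor
  · intro h
    have := congrArg (Scheme.Spec.residueFieldIso (CommRingCat.of A) y).hom.hom h
    rw [map_zero] at this
    refine Eq.trans ?_ this
    exact (CategoryTheory.congr_fun (Scheme.Spec.residueFieldIso (CommRingCat.of A) y).inv_hom_id
      _).symm
  · intro h
    rw [h, map_zero]

end Res


section Main

open Groth.Agent.Lib.R2H2.BridgeTr

/-- **cohomological flatness in degree 0** when `Γ(X_y, O)` is étale over `κ(y)` (local base) -/
theorem main (A : Type u) [CommRing A] [IsNoetherianRing A] [IsLocalRing A] (X : Scheme.{u})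
    [X.Over (Spec (CommRingCat.of A))]
    [IsProper (X ↘ Spec (CommRingCat.of A))] [Flat (X ↘ Spec (CommRingCat.of A))]
    (y : ↥(Spec (CommRingCat.of A))) (hy : y.asIdeal = IsLocalRing.maximalIdeal A)
    (het : Algebra.Etale ((Spec (CommRingCat.of A)).residueField y)
      Γ((X ↘ Spec (CommRingCat.of A)).fiber y, ⊤)) :
    (CohIII.tensorAFunctor A (Coh.structureModule X) ⋙ CohIII.HAb X 0).PreservesMonomorphisms ∧
      (CohIII.tensorAFunctor A (Coh.structureModule X) ⋙ CohIII.HAb X 0).PreservesEpimorphisms := by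
  haveI hqc : (Coh.structureModule X).IsQuasicoherent :=
    Groth.Agent.Lib.Helper23.Serre.isQuasicoherent_structureModule' _
  have hF : Coh.IsCoh (Coh.structureModule X) :=
    ⟨hqc, Groth.Agent.Lib.R2H2.PnFinite.isFiniteType_structureModule _⟩
  have hfl : FlatMod.IsFlatOver (X ↘ Spec (CommRingCat.of A)) (Coh.structureModule X) :=
    Groth.Agent.Lib.R2H3.SchemDense.isFlatOver_structureModule _
  haveI : y.asIdeal.IsMaximal := hy ▸ IsLocalRing.maximalIdeal.isMaximal A
  letI : Algebra A (IsLocalRing.ResidueField ((Spec (CommRingCat.of A)).presheaf.stalk y)) :=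
    (φy A y).toAlgebra
  have hpb : IsPullback ((X ↘ Spec (CommRingCat.of A)).fiberι y)
      ((X ↘ Spec (CommRingCat.of A)).fiberToSpecResidueField y) (X ↘ Spec (CommRingCat.of A))
      (Spec.map (CommRingCat.ofHom (algebraMap A
        (IsLocalRing.ResidueField ((Spec (CommRingCat.of A)).presheaf.stalk y))))) := by
    have h1 : IsPullback ((X ↘ Spec (CommRingCat.of A)).fiberι y)
        ((X ↘ Spec (CommRingCat.of A)).fiberToSpecResidueField y) (X ↘ Spec (CommRingCat.of A))
        ((Spec (CommRingCat.of A)).fromSpecResidueField y) :=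
      IsPullback.of_hasPullback (X ↘ Spec (CommRingCat.of A))
        ((Spec (CommRingCat.of A)).fromSpecResidueField y)
    rw [← specMap_φy] at h1
    exact h1
  -- the core lemma for `Ψ A ≅ O_X`
  have hs : Function.Surjective (HmapA A (πJ (IsLocalRing.maximalIdeal A)
      ((CohIII.tensorAFunctor A (Coh.structureModule X)).obj (ModuleCat.of A A))) 0) :=
    surjective_toFibre_of_separable (A := A)
      (B := IsLocalRing.ResidueField ((Spec (CommRingCat.of A)).presheaf.stalk y))
      ((X ↘ Spec (CommRingCat.of A)).fiberToSpecResidueField y)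
      ((X ↘ Spec (CommRingCat.of A)).fiberι y) hpb (φy_surjective A y)
      (IsLocalRing.maximalIdeal A)
      (fun a ha => (φy_eq_zero_iff A y a).2 (hy ▸ ha))
      (fun a ha => hy ▸ (φy_eq_zero_iff A y a).1 ha)
      (fun β => by
        letI : Algebra (IsLocalRing.ResidueField ((Spec (CommRingCat.of A)).presheaf.stalk y))
            Γ((X ↘ Spec (CommRingCat.of A)).fiber y, ⊤) :=
          inferInstanceAs (Algebra ((Spec (CommRingCat.of A)).residueField y)
            Γ((X ↘ Spec (CommRingCat.of A)).fiber y, ⊤))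
        haveI : Algebra.Etale
            (IsLocalRing.ResidueField ((Spec (CommRingCat.of A)).presheaf.stalk y))
            Γ((X ↘ Spec (CommRingCat.of A)).fiber y, ⊤) := het
        exact hsep_of_etale
          (K := IsLocalRing.ResidueField ((Spec (CommRingCat.of A)).presheaf.stalk y))
          ((X ↘ Spec (CommRingCat.of A)).fiberToSpecResidueField y) rfl β)
      ((CohIII.tensorAFunctor A (Coh.structureModule X)).obj (ModuleCat.of A A))
      (objUnitIso A (Coh.structureModule X)).symm
  have hE := surjective_map_qJ A (Coh.structureModule X) (IsLocalRing.maximalIdeal A) 0 hs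
  -- Grothendieck's complex
  obtain ⟨Q, b, hQ, hQz, hQpos, hQi⟩ := Groth.Agent.Lib.R2H2.Bridge.bridge' A X
    (Coh.structureModule X) hF hfl
  have e := (hQi 0).some
  have hQ' : ∀ i, Module.Finite A (Q.X i) ∧ Module.Flat A (Q.X i) := fun i =>
    ⟨(hQ i).1, by haveI := (hQ i).2; infer_instance⟩
  have h2409 := (Groth.Agent.S2409.result Q hQ' (-((0 : ℕ) : ℤ)) 1 (by norm_num)).2 ⟨?_, ?_⟩
  · rw [← preservesMonomorphisms_iff e, ← preservesEpimorphisms_iff e]
    exact h2409
  · intro x
    haveI : Subsingleton ((CohIII.TFun Q 1).obj (ModuleCat.of A (IsLocalRing.ResidueField A))) :=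
      ModuleCat.subsingleton_of_isZero (hQpos 1 one_pos _)
    exact ⟨0, Subsingleton.elim _ _⟩
  · rw [surjective_iff e]
    exact hE

end Main

end Groth.Agent.Lib.H9EtI
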