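/-
helper9: étale quasi-sections of a smooth morphism through a prescribed point whose residue field
is finite separable over the residue field of its image (EGA IV 17.16.3 (ii)), chart form.
-/
import Mathlib
import Groth.Agent.Lib.Helper20EtResExt

set_option autoImplicit false
set_option linter.style.haveILetI false
universe u

open CategoryTheory CategoryTheory.Limits AlgebraicGeometry

namespace Groth.Agent.Lib.H9EtSecPt

open Groth.Agent.Lib.Helper20.EtResExt in
/-- Lifting finitely many elements of a finite separable extension `L` of `κ(p)` to an étale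
`R`-algebra. -/
theorem exists_etale_lift_point {R : Type u} [CommRing R] (p : Ideal R) [p.IsPrime] (n : ℕ)
    (L : Type u) [Field L] [Algebra p.ResidueField L] [FiniteDimensional p.ResidueField L]
    [Algebra.IsSeparable p.ResidueField L] (a : Fin n → L) :
    ∃ (R' : Type u) (_ : CommRing R') (_ : Algebra R R') (_ : Algebra.Etale R R')
      (ψ : R' →+* L) (r : Fin n → R'),
      ψ.comp (algebraMap R R') =
        (algebraMap p.ResidueField L).comp (algebraMap R p.ResidueField) ∧
      ∀ i, ψ (r i) = a i := by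
  obtain ⟨A₁, _, _, hA₁, p₁, _, hp₁, e, he⟩ := exists_etale_residueField_equiv p L
  obtain ⟨⟨d, hd⟩, hint⟩ := IsLocalization.exist_integer_multiples_of_finite
    (nonZeroDivisors (A₁ ⧸ p₁)) (fun i => e.symm (a i))
  choose m' hm' using hint
  obtain ⟨c, rfl⟩ := Ideal.Quotient.mk_surjective d
  have hm : ∀ i, ∃ m : A₁, Ideal.Quotient.mk p₁ m = m' i := fun i => Ideal.Quotient.mk_surjective _
  choose m hm using hm
  have hd0 : algebraMap (A₁ ⧸ p₁) p₁.ResidueField (Ideal.Quotient.mk p₁ c) ≠ 0 := by
    rw [Ne, map_eq_zero_iff _ (IsFractionRing.injective (A₁ ⧸ p₁) p₁.ResidueField)]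
    exact nonZeroDivisors.ne_zero hd
  let ψ₁ : A₁ →+* L := (e : p₁.ResidueField →+* L).comp (algebraMap A₁ p₁.ResidueField)
  have hψ₁c : ψ₁ c ≠ 0 := by
    change e (algebraMap A₁ p₁.ResidueField c) ≠ 0
    rw [Ne, map_eq_zero_iff _ e.injective, ← Ideal.algebraMap_quotient_residueField_mk]
    exact hd0
  have hunit : IsUnit (ψ₁ c) := hψ₁c.isUnit
  let ψ : Localization.Away c →+* L := IsLocalization.Away.lift c hunit
  have hψ : ∀ y : A₁, ψ (algebraMap A₁ (Localization.Away c) y) = ψ₁ y :=
    fun y => IsLocalization.Away.lift_eq c hunit y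
  have hψR : ψ.comp (algebraMap R (Localization.Away c)) =
      (algebraMap p.ResidueField L).comp (algebraMap R p.ResidueField) := by
    ext x
    rw [RingHom.comp_apply, RingHom.comp_apply,
      IsScalarTower.algebraMap_apply R A₁ (Localization.Away c), hψ]
    change e (algebraMap A₁ p₁.ResidueField (algebraMap R A₁ x)) = _
    rw [← he, RingHom.comp_apply, Ideal.ResidueField.map_algebraMap]
    rfl
  refine ⟨Localization.Away c, inferInstance, inferInstance, inferInstance, ψ,
    fun i => IsLocalization.mk' (Localization.Away c) (m i)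
      (⟨c, Submonoid.mem_powers c⟩ : Submonoid.powers c), hψR, ?_⟩
  intro i
  have h1 : ψ (IsLocalization.mk' (Localization.Away c) (m i)
      (⟨c, Submonoid.mem_powers c⟩ : Submonoid.powers c)) * ψ₁ c = ψ₁ (m i) := by
    rw [← hψ c, ← map_mul, ← hψ (m i)]
    congr 1
    exact IsLocalization.mk'_spec _ _ _
  have h2 : ψ₁ (m i) = a i * ψ₁ c := by
    change e (algebraMap A₁ p₁.ResidueField (m i)) = a i * e (algebraMap A₁ p₁.ResidueField c)
    rw [← Ideal.algebraMap_quotient_residueField_mk, ← Ideal.algebraMap_quotient_residueField_mk,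
      hm i, hm' i, Algebra.smul_def, map_mul, RingEquiv.apply_symm_apply, mul_comm]
  rw [h2] at h1
  exact mul_right_cancel₀ hψ₁c h1

set_option backward.isDefEq.respectTransparency false in
/-- Chart form of the existence of étale quasi-sections through a point: on a standard smooth chart
`(U, V)` of `f`, given a ring map `φ : Γ(X, V) → L` to a finite separable extension `L` of `κ(𝔭)`
compatible with `Γ(S, U) → κ(𝔭)`, there is an étale `c : T ⟶ S` with an `S`-morphism `h : T ⟶ X`
through the point of `V` defined by `ker φ`. -/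
theorem exists_etale_section_through {X S : Scheme.{u}} (f : X ⟶ S)
    {U : S.Opens} (hU : IsAffineOpen U) {V : X.Opens} (hV : IsAffineOpen V) (e : V ≤ f ⁻¹ᵁ U)
    (hsm : (f.appLE U V e).hom.IsStandardSmooth)
    (𝔭 : Ideal Γ(S, U)) [𝔭.IsPrime] (L : Type u) [Field L] [Algebra 𝔭.ResidueField L]
    [FiniteDimensional 𝔭.ResidueField L] [Algebra.IsSeparable 𝔭.ResidueField L]
    (φ : Γ(X, V) →+* L)
    (hφ : φ.comp (f.appLE U V e).hom =
      (algebraMap 𝔭.ResidueField L).comp (algebraMap Γ(S, U) 𝔭.ResidueField)) :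
    ∃ (T : Scheme.{u}) (c : T ⟶ S) (h : T ⟶ X) (t : T), Etale c ∧ h ≫ f = c ∧
      h t = hV.fromSpec ⟨RingHom.ker φ, RingHom.ker_isPrime φ⟩ := by
  obtain ⟨n, g, hgC, hg⟩ := hsm.exists_etale_mvPolynomial
  obtain ⟨R', _, _, hR', ψ, r, hψR, hψr⟩ :=
    exists_etale_lift_point 𝔭 n L (fun i => φ (g (MvPolynomial.X i)))
  let σ : MvPolynomial (Fin n) Γ(S, U) →+* R' := (MvPolynomial.aeval r).toRingHom
  have hσC : σ.comp MvPolynomial.C = algebraMap Γ(S, U) R' := by
    ext a
    change MvPolynomial.aeval r (MvPolynomial.C a) = _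
    rw [MvPolynomial.aeval_C]
  -- compatibility `φ ∘ g = ψ ∘ σ`
  have hcompat : φ.comp g = ψ.comp σ := by
    apply MvPolynomial.ringHom_ext
    · intro a
      have h1 : g (MvPolynomial.C a) = (f.appLE U V e).hom a := congr($hgC a)
      have h2 : σ (MvPolynomial.C a) = algebraMap Γ(S, U) R' a := congr($hσC a)
      rw [RingHom.comp_apply, RingHom.comp_apply, h1, h2]
      have h3 := congr($hφ a)
      have h4 := congr($hψR a)
      rw [RingHom.comp_apply] at h3 h4
      rw [h3, h4]
    · intro i
      rw [RingHom.comp_apply, RingHom.comp_apply]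
      change _ = ψ (MvPolynomial.aeval r (MvPolynomial.X i))
      rw [MvPolynomial.aeval_X, hψr]
  let q : PrimeSpectrum Γ(X, V) := ⟨RingHom.ker φ, RingHom.ker_isPrime φ⟩
  let p'' : PrimeSpectrum R' := ⟨RingHom.ker ψ, RingHom.ker_isPrime ψ⟩
  have hpt : (Spec.map (CommRingCat.ofHom g)) q = (Spec.map (CommRingCat.ofHom σ)) p'' := by
    change PrimeSpectrum.comap g q = PrimeSpectrum.comap σ p''
    ext1
    change (RingHom.ker φ).comap g = (RingHom.ker ψ).comap σ
    rw [RingHom.comap_ker, RingHom.comap_ker, hcompat]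
  obtain ⟨y, hy1, hy2⟩ := Scheme.Pullback.exists_preimage_pullback
    (f := Spec.map (CommRingCat.ofHom g)) (g := Spec.map (CommRingCat.ofHom σ)) q p'' hpt
  have hgE : Etale (Spec.map (CommRingCat.ofHom g)) := by
    rw [HasRingHomProperty.Spec_iff (P := @Etale)]
    exact hg
  have hE1 : Etale (Spec.map (CommRingCat.ofHom (algebraMap Γ(S, U) R'))) := by
    rw [HasRingHomProperty.Spec_iff (P := @Etale)]
    exact RingHom.etale_algebraMap.mpr hR'
  have hcomm : hV.fromSpec ≫ f =
      Spec.map (CommRingCat.ofHom g) ≫ Spec.map (CommRingCat.ofHom MvPolynomial.C) ≫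
        hU.fromSpec := by
    rw [← IsAffineOpen.SpecMap_appLE_fromSpec f hU hV e, ← Spec.map_comp_assoc]
    congr 2
    ext a
    exact (congr($hgC a)).symm
  refine ⟨pullback (Spec.map (CommRingCat.ofHom g)) (Spec.map (CommRingCat.ofHom σ)),
    pullback.snd _ _ ≫ Spec.map (CommRingCat.ofHom (algebraMap Γ(S, U) R')) ≫ hU.fromSpec,
    pullback.fst _ _ ≫ hV.fromSpec, y, inferInstance, ?_, ?_⟩
  · rw [Category.assoc, hcomm, pullback.condition_assoc, ← Spec.map_comp_assoc]
    congr 3
    ext a
    exact congr($hσC a)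
  · rw [Scheme.Hom.comp_apply, hy1]
    rfl

end Groth.Agent.Lib.H9EtSecPt
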