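import Mathlib
import Groth.Agent.Lib.H9EtExt

set_option autoImplicit false
universe u
open CategoryTheory CategoryTheory.Limits AlgebraicGeometry TopologicalSpace Opposite

namespace Groth.Agent.Lib.H9EtSub

open Groth.Agent.Lib.H9EtExt

theorem main {X Y Z : Scheme.{u}} (f : X ⟶ Y) [Smooth f]
    (i : Z ⟶ X) [IsClosedImmersion i] [IsClosedImmersion (i ≫ f)] (z : Z) :
    ∃ (U : X.Opens) (_ : i.base z ∈ U) (W : Scheme.{u}) (j : W ⟶ (U : Scheme.{u}))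
      (_ : IsClosedImmersion j) (_ : Etale (j ≫ U.ι ≫ f))
      (g : ((i ⁻¹ᵁ U : Z.Opens) : Scheme.{u}) ⟶ W), g ≫ j = i ∣_ U := by
  obtain ⟨V', hV', X', hX', hxX', hXV', hsm⟩ := Smooth.exists_isStandardSmooth f (i z)
  obtain ⟨n, g₀, hgC, hg⟩ := hsm.exists_etale_mvPolynomial
  -- the étale chart of `X'`
  let gX : X'.toScheme ⟶ Spec (.of (MvPolynomial (Fin n) Γ(Y, V'))) :=
    X'.toSpecΓ ≫ Spec.map (CommRingCat.ofHom g₀)
  haveI : IsIso X'.toSpecΓ := by rw [← hX'.isoSpec_hom]; infer_instance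
  haveI : Etale (Spec.map (CommRingCat.ofHom g₀)) :=
    (HasRingHomProperty.Spec_iff (P := @Etale)).mpr hg
  haveI : Etale gX := by dsimp only [gX]; infer_instance
  have hCg : CommRingCat.ofHom (MvPolynomial.C (σ := Fin n) (R := Γ(Y, V'))) ≫
      CommRingCat.ofHom g₀ = f.appLE V' X' hXV' := by
    ext1
    exact hgC
  have hgX : gX ≫ Spec.map (CommRingCat.ofHom (MvPolynomial.C (σ := Fin n) (R := Γ(Y, V')))) ≫
      hV'.fromSpec = X'.ι ≫ f := by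
    dsimp only [gX]
    rw [Category.assoc, ← Spec.map_comp_assoc, hCg, Scheme.Opens.toSpecΓ_SpecMap_appLE_assoc,
      hV'.toSpecΓ_fromSpec, Scheme.Hom.resLE_comp_ι]
  -- choose `V''`
  have hind : Topology.IsInducing (i ≫ f).base := (i ≫ f).isClosedEmbedding.isEmbedding.isInducing
  obtain ⟨O, hO, hOX⟩ := hind.isOpen_iff.mp (i ⁻¹ᵁ X').2
  have hyO : (i ≫ f) z ∈ O := by
    have : z ∈ (i ≫ f).base ⁻¹' O := by rw [hOX]; exact hxX'
    exact this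
  have hyV' : (i ≫ f) z ∈ V' := by
    rw [Scheme.Hom.comp_apply]
    exact hXV' hxX'
  obtain ⟨(V'' : Y.Opens), hV''aff, hyV'', hV''le⟩ := TopologicalSpace.Opens.isBasis_iff_nbhd.mp
    Y.isBasis_affineOpens (U := (⟨O, hO⟩ : Y.Opens) ⊓ V') ⟨hyO, hyV'⟩
  have hV''V' : V'' ≤ V' := hV''le.trans inf_le_right
  have hZ₂ : (i ≫ f) ⁻¹ᵁ V'' ≤ i ⁻¹ᵁ X' := by
    intro w hw
    have h1 : (i ≫ f) w ∈ O := (hV''le hw).1
    have : w ∈ (i ≫ f).base ⁻¹' O := h1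
    rw [hOX] at this
    exact this
  haveI : IsAffine V''.toScheme := hV''aff
  let k : ((i ≫ f) ⁻¹ᵁ V'').toScheme ⟶ V''.toScheme := (i ≫ f) ∣_ V''
  haveI : IsClosedImmersion k := by dsimp only [k]; infer_instance
  have hk : k ≫ V''.ι = ((i ≫ f) ⁻¹ᵁ V'').ι ≫ i ≫ f := morphismRestrict_ι (i ≫ f) V''
  have hr₂ : Set.range (((i ≫ f) ⁻¹ᵁ V'').ι ≫ i).base ⊆ Set.range X'.ι.base := by
    rintro _ ⟨w, rfl⟩
    rw [Scheme.Opens.range_ι, Scheme.Hom.comp_apply]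
    exact hZ₂ w.2
  let i₂ : ((i ≫ f) ⁻¹ᵁ V'').toScheme ⟶ X'.toScheme :=
    IsOpenImmersion.lift X'.ι (((i ≫ f) ⁻¹ᵁ V'').ι ≫ i) hr₂
  have hi₂ : i₂ ≫ X'.ι = ((i ≫ f) ⁻¹ᵁ V'').ι ≫ i := IsOpenImmersion.lift_fac _ _ _
  let pV : V''.toScheme ⟶ Spec (.of Γ(Y, V')) :=
    V''.toSpecΓ ≫ Spec.map (Y.presheaf.map (homOfLE hV''V').op)
  have hpV : pV ≫ hV'.fromSpec = V''.ι := by
    dsimp only [pV]
    rw [Scheme.Opens.toSpecΓ_SpecMap_presheaf_map, Category.assoc, hV'.toSpecΓ_fromSpec,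
      Scheme.homOfLE_ι]
  have hc1 : k ≫ pV ≫ hV'.fromSpec = ((i ≫ f) ⁻¹ᵁ V'').ι ≫ i ≫ f := by rw [hpV, hk]
  have hc2 : i₂ ≫ gX ≫ Spec.map (CommRingCat.ofHom (MvPolynomial.C (σ := Fin n)
      (R := Γ(Y, V')))) ≫ hV'.fromSpec = ((i ≫ f) ⁻¹ᵁ V'').ι ≫ i ≫ f := by
    rw [hgX, ← Category.assoc, hi₂, Category.assoc]
  have hcond : k ≫ pV = (i₂ ≫ gX) ≫
      Spec.map (CommRingCat.ofHom (MvPolynomial.C (σ := Fin n) (R := Γ(Y, V')))) := by
    rw [← cancel_mono hV'.fromSpec]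
    simp only [Category.assoc]
    rw [hc1, hc2]
  obtain ⟨hX, hXC, hXk⟩ := exists_extension k Γ(Y, V') n (i₂ ≫ gX) pV hcond
  -- the open `U`
  let U : X.Opens := X' ⊓ f ⁻¹ᵁ V''
  have hxU : i z ∈ U := ⟨hxX', hyV''⟩
  have hUX' : U ≤ X' := inf_le_left
  have hrU : Set.range (U.ι ≫ f).base ⊆ Set.range V''.ι.base := by
    rintro _ ⟨w, rfl⟩
    rw [Scheme.Opens.range_ι, Scheme.Hom.comp_apply]
    exact w.2.2
  let fU : U.toScheme ⟶ V''.toScheme := IsOpenImmersion.lift V''.ι (U.ι ≫ f) hrU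
  have hfU : fU ≫ V''.ι = U.ι ≫ f := IsOpenImmersion.lift_fac _ _ _
  let a : U.toScheme ⟶ Spec (.of (MvPolynomial (Fin n) Γ(Y, V'))) := X.homOfLE hUX' ≫ gX
  let b : U.toScheme ⟶ Spec (.of (MvPolynomial (Fin n) Γ(Y, V'))) := fU ≫ hX
  haveI : Etale a := by dsimp only [a]; infer_instance
  have ha : a ≫ Spec.map (CommRingCat.ofHom (MvPolynomial.C (σ := Fin n) (R := Γ(Y, V')))) ≫
      hV'.fromSpec = U.ι ≫ f := by
    dsimp only [a]
    rw [Category.assoc, hgX, ← Category.assoc, Scheme.homOfLE_ι]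
  have hhX : hX ≫ Spec.map (CommRingCat.ofHom (MvPolynomial.C (σ := Fin n) (R := Γ(Y, V')))) ≫
      hV'.fromSpec = V''.ι := by
    rw [← Category.assoc, hXC, hpV]
  -- the pullback square
  have hpb : IsPullback (equalizer.ι a b) (equalizer.ι a b ≫ fU) a hX := by
    refine IsPullback.of_isLimit' ⟨by rw [Category.assoc]; exact equalizer.condition a b⟩ ?_
    refine PullbackCone.IsLimit.mk _ (fun s => equalizer.lift s.fst ?_) (fun s => ?_) (fun s => ?_)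
      (fun s m h1 _ => ?_)
    · have h1 := s.condition
      have h2 : s.snd = s.fst ≫ fU := by
        rw [← cancel_mono V''.ι, Category.assoc, hfU, ← ha, ← hhX]
        simp only [← Category.assoc]
        rw [h1]
      dsimp only [b]
      rw [h1, h2, Category.assoc]
    · exact equalizer.lift_ι _ _
    · have h1 := s.condition
      have h2 : s.snd = s.fst ≫ fU := by
        rw [← cancel_mono V''.ι, Category.assoc, hfU, ← ha, ← hhX]
        simp only [← Category.assoc]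
        rw [h1]
      rw [equalizer.lift_ι_assoc, h2]
    · apply equalizer.hom_ext
      rw [equalizer.lift_ι]
      exact h1
  haveI : Etale (equalizer.ι a b ≫ fU) :=
    MorphismProperty.of_isPullback (P := @Etale) hpb inferInstance
  -- the lift of `Z ∩ U`
  have hZU : i ⁻¹ᵁ U ≤ (i ≫ f) ⁻¹ᵁ V'' := fun w hw => hw.2
  let e : (i ⁻¹ᵁ U).toScheme ⟶ ((i ≫ f) ⁻¹ᵁ V'').toScheme := Z.homOfLE hZU
  have he : e ≫ ((i ≫ f) ⁻¹ᵁ V'').ι = (i ⁻¹ᵁ U).ι := Scheme.homOfLE_ι _ _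
  have hiU : (i ∣_ U) ≫ U.ι = (i ⁻¹ᵁ U).ι ≫ i := morphismRestrict_ι i U
  have e1 : (i ∣_ U) ≫ fU = e ≫ k := by
    rw [← cancel_mono V''.ι]
    simp only [Category.assoc]
    rw [hfU, reassoc_of% hiU, hk, reassoc_of% he]
  have e2 : (i ∣_ U) ≫ X.homOfLE hUX' = e ≫ i₂ := by
    rw [← cancel_mono X'.ι]
    simp only [Category.assoc]
    rw [Scheme.homOfLE_ι, hiU, hi₂, reassoc_of% he]
  have hab : (i ∣_ U) ≫ a = (i ∣_ U) ≫ b := by
    dsimp only [a, b]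
    rw [reassoc_of% e2, reassoc_of% e1, hXk]
  refine ⟨U, hxU, equalizer a b, equalizer.ι a b, inferInstance, ?_,
    equalizer.lift (i ∣_ U) hab, equalizer.lift_ι _ _⟩
  have : equalizer.ι a b ≫ U.ι ≫ f = (equalizer.ι a b ≫ fU) ≫ V''.ι := by
    rw [Category.assoc, hfU]
  rw [this]
  infer_instance


end Groth.Agent.Lib.H9EtSub
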