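import Mathlib

set_option autoImplicit false
set_option linter.style.haveILetI false
set_option linter.unusedSectionVars false
universe u v w

namespace Groth.Agent.Lib.H9EtaleQuot

open KaehlerDifferential Algebra TensorProduct

-- ===== from ET1 =====
section SecET1
section A

variable (C : Type v) (B : Type w) [CommRing C] [CommRing B] [Algebra C B] (J : Ideal B)

/-- if `C → B/J` is surjective, the differentials of elements of `J` span `Ω[B/C]` -/
theorem span_D_of_surjective
    (hsurj : Function.Surjective ((Ideal.Quotient.mk J).comp (algebraMap C B))) :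
    Submodule.span B (Set.range (fun j : J => D C B (j : B))) = ⊤ := by
  rw [_root_.eq_top_iff, ← KaehlerDifferential.span_range_derivation C B, Submodule.span_le]
  rintro _ ⟨b, rfl⟩
  obtain ⟨c, hc⟩ := hsurj (Ideal.Quotient.mk J b)
  have hmem : b - algebraMap C B c ∈ J := by
    rw [← Ideal.Quotient.eq_zero_iff_mem, map_sub, sub_eq_zero]
    exact hc.symm
  have h1 : D C B b = D C B (b - algebraMap C B c) := by
    rw [map_sub, Derivation.map_algebraMap, sub_zero]
  rw [SetLike.mem_coe, h1]
  exact Submodule.subset_span ⟨⟨_, hmem⟩, rfl⟩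

end A


section B

variable (C : Type v) (B : Type w) [CommRing C] [CommRing B] [Algebra C B] (J : Ideal B)

attribute [local instance] SMulCommClass.of_commMonoid

set_option backward.isDefEq.respectTransparency.types false in
theorem exists_basis_away [Algebra.Smooth C B]
    (hsurj : Function.Surjective ((Ideal.Quotient.mk J).comp (algebraMap C B)))
    (q : Ideal B) [q.IsPrime] :
    ∃ g : B, g ∉ q ∧ ∃ (κ : Type w) (_ : Finite κ) (a : κ → J)
      (bas : Module.Basis κ (Localization.Away g) Ω[Localization.Away g⁄C]),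
      ∀ i, bas i = D C (Localization.Away g) (algebraMap B (Localization.Away g) (a i : B)) := by
  have hspan : Submodule.span (Localization.AtPrime q)
      (Set.range (fun j : J => map C C B (Localization.AtPrime q) (D C B (j : B)))) = ⊤ := by
    have := span_eq_top_of_isLocalizedModule (Localization.AtPrime q) q.primeCompl
      (map C C B (Localization.AtPrime q)) (v := Set.range (fun j : J => D C B (j : B)))
      (span_D_of_surjective C B J hsurj)
    rw [← Set.range_comp] at this
    exact this
  obtain ⟨κ, a, b, hb⟩ := Module.exists_basis_of_span_of_flat _ hspan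
  let e : (κ →₀ B) →ₗ[B] Ω[B⁄C] :=
    Finsupp.linearCombination B fun i : κ ↦ D C B (a i : B)
  let l₁ : (κ →₀ B) →ₗ[B] (κ →₀ Localization.AtPrime q) :=
    Finsupp.mapRange.linearMap (Algebra.linearMap B (Localization.AtPrime q))
  let l₂ : Ω[B⁄C] →ₗ[B] Ω[Localization.AtPrime q⁄C] := map C C B (Localization.AtPrime q)
  let eₚ : (κ →₀ Localization.AtPrime q) →ₗ[Localization.AtPrime q] Ω[Localization.AtPrime q⁄C] :=
    IsLocalizedModule.mapExtendScalars q.primeCompl l₁ l₂ (Localization.AtPrime q) e
  have : eₚ = b.repr.symm := by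
    ext i
    trans IsLocalizedModule.map q.primeCompl l₁ l₂ e <| l₁ <| Finsupp.single i 1
    · simp [eₚ, -IsLocalizedModule.map_apply, l₁]
    · simp [l₂, e, hb]
  have heₚ : Function.Bijective eₚ := this ▸ b.repr.symm.bijective
  have : Finite κ := Module.Finite.finite_basis b
  obtain ⟨g, hg, h⟩ := Module.FinitePresentation.exists_notMem_bijective e q l₁ l₂ heₚ
  let l₁ₜ : (κ →₀ B) →ₗ[B] (κ →₀ Localization.Away g) :=
    Finsupp.mapRange.linearMap (Algebra.linearMap B _)
  let l₂ₜ : Ω[B⁄C] →ₗ[B] Ω[Localization.Away g⁄C] :=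
    map C C B (Localization.Away g)
  rw [← IsLocalizedModule.map_bijective_iff_localizedModuleMap_bijective l₁ₜ l₂ₜ] at h
  let eₜ' : (κ →₀ Localization.Away g) →ₗ[Localization.Away g] Ω[Localization.Away g⁄C] :=
    IsLocalizedModule.mapExtendScalars (Submonoid.powers g) l₁ₜ l₂ₜ (Localization.Away g) e
  refine ⟨g, hg, κ, this, a, .ofRepr (LinearEquiv.ofBijective eₜ' h).symm, ?_⟩
  intro i
  simp +zetaDelta [IsLocalizedModule.map_linearCombination]

end B

end SecET1

-- ===== from ET2 =====
section SecET2
section C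

variable (C : Type v) (P : Type w) [CommRing C] [CommRing P] [Algebra C P]
  {κ : Type*} [Finite κ] (t : κ → P) (bas : Module.Basis κ P Ω[P⁄C])
  (hbas : ∀ i, bas i = D C P (t i))

local notation "II" => Ideal.span (Set.range t)

omit [Finite κ] in
theorem t_mem_ker (i : κ) : t i ∈ RingHom.ker (algebraMap P (P ⧸ II)) := by
  rw [Ideal.Quotient.algebraMap_eq, Ideal.mk_ker]
  exact Ideal.subset_span ⟨i, rfl⟩

include hbas in
theorem kCT_surjective :
    Function.Surjective (kerCotangentToTensor C P (P ⧸ II)) := by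
  rw [← LinearMap.range_eq_top, _root_.eq_top_iff, ← TensorProduct.span_tmul_eq_top,
    Submodule.span_le]
  rintro _ ⟨a, ω, rfl⟩
  have hgen : ∀ i, (1 : P ⧸ II) ⊗ₜ[P] bas i ∈
      LinearMap.range (kerCotangentToTensor C P (P ⧸ II)) := by
    intro i
    refine ⟨Ideal.toCotangent _ ⟨t i, t_mem_ker P t i⟩, ?_⟩
    rw [kerCotangentToTensor_toCotangent, hbas i]
  have h1 : ∀ ω : Ω[P⁄C], (1 : P ⧸ II) ⊗ₜ[P] ω ∈
      LinearMap.range (kerCotangentToTensor C P (P ⧸ II)) := by
    intro ω
    haveI := Fintype.ofFinite κ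
    rw [← bas.sum_repr ω, TensorProduct.tmul_sum]
    refine Submodule.sum_mem _ (fun i _ => ?_)
    rw [TensorProduct.tmul_smul]
    exact Submodule.smul_mem _ _ (hgen i)
  obtain ⟨p, rfl⟩ := Ideal.Quotient.mk_surjective a
  have h2 : (Ideal.Quotient.mk II p) ⊗ₜ[P] ω = p • ((1 : P ⧸ II) ⊗ₜ[P] ω) := by
    rw [TensorProduct.smul_tmul', Algebra.smul_def, mul_one]
    rfl
  rw [SetLike.mem_coe, h2]
  exact Submodule.smul_mem _ _ (h1 ω)

include hbas in
theorem kCT_injective :
    Function.Injective (kerCotangentToTensor C P (P ⧸ II)) := by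
  haveI := Fintype.ofFinite κ
  rw [injective_iff_map_eq_zero]
  intro x hx
  obtain ⟨y, rfl⟩ := Ideal.toCotangent_surjective _ x
  rw [kerCotangentToTensor_toCotangent] at hx
  have hy : (y : P) ∈ II := by
    have h0 : algebraMap P (P ⧸ II) (y : P) = 0 := y.2
    exact Ideal.Quotient.eq_zero_iff_mem.mp h0
  rw [Ideal.mem_span_range_iff_exists_fun] at hy
  obtain ⟨c, hc⟩ := hy
  -- compute `1 ⊗ D y`
  have h1 : (1 : P ⧸ II) ⊗ₜ[P] D C P (y : P) =
      ∑ i, (Ideal.Quotient.mk II (c i)) • (bas.baseChange (P ⧸ II)) i := by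
    rw [← hc, map_sum, TensorProduct.tmul_sum]
    apply Finset.sum_congr rfl
    intro i _
    rw [Derivation.leibniz, TensorProduct.tmul_add, TensorProduct.tmul_smul,
      TensorProduct.tmul_smul, Module.Basis.baseChange_apply, hbas i]
    have h3 : t i • ((1 : P ⧸ II) ⊗ₜ[P] D C P (c i)) = 0 := by
      rw [TensorProduct.smul_tmul', Algebra.smul_def, mul_one]
      have : algebraMap P (P ⧸ II) (t i) = 0 := t_mem_ker P t i
      rw [this, TensorProduct.zero_tmul]
    rw [h3, add_zero, ← algebraMap_smul (P ⧸ II) (c i)]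
    rfl
  rw [h1] at hx
  have h4 := Fintype.linearIndependent_iff.mp (bas.baseChange (P ⧸ II)).linearIndependent _ hx
  have h5 : ∀ i, c i ∈ RingHom.ker (algebraMap P (P ⧸ II)) := by
    intro i
    exact h4 i
  rw [Ideal.toCotangent_eq_zero, ← hc, pow_two]
  refine Ideal.sum_mem _ (fun i _ => ?_)
  exact Ideal.mul_mem_mul (h5 i) (t_mem_ker P t i)

include hbas in
theorem etale_quotient [Algebra.Smooth C P] : Algebra.Etale C (P ⧸ II) := by
  have hsurj : Function.Surjective (algebraMap P (P ⧸ II)) := Ideal.Quotient.mk_surjective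
  have hinj := kCT_injective C P t bas hbas
  have hsur := kCT_surjective C P t bas hbas
  haveI hΩ : Subsingleton Ω[(P ⧸ II)⁄C] := by
    refine ⟨fun a b => ?_⟩
    have h0 : ∀ z : Ω[(P ⧸ II)⁄C], z = 0 := by
      intro z
      obtain ⟨w, rfl⟩ := mapBaseChange_surjective C P (P ⧸ II) hsurj z
      obtain ⟨x, rfl⟩ := hsur w
      exact (exact_kerCotangentToTensor_mapBaseChange C P (P ⧸ II) hsurj _).mpr ⟨x, rfl⟩
    rw [h0 a, h0 b]
  haveI hH1 : Subsingleton (Algebra.H1Cotangent C (P ⧸ II)) :=
    (Algebra.FormallySmooth.kerCotangentToTensor_injective_iff hsurj).mp hinj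
  haveI : Algebra.FormallySmooth C (P ⧸ II) := ⟨inferInstance, hH1⟩
  haveI : Algebra.FormallyUnramified C (P ⧸ II) := ⟨hΩ⟩
  haveI : Algebra.FormallyEtale C (P ⧸ II) :=
    Algebra.FormallyEtale.iff_formallyUnramified_and_formallySmooth.mpr ⟨inferInstance, inferInstance⟩
  haveI : Algebra.FinitePresentation C P := inferInstance
  haveI : Algebra.FinitePresentation P (P ⧸ II) := by
    apply Algebra.FinitePresentation.quotient
    exact ⟨(Set.finite_range t).toFinset, by simp⟩
  haveI : Algebra.FinitePresentation C (P ⧸ II) := Algebra.FinitePresentation.trans C P (P ⧸ II)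
  exact ⟨inferInstance, inferInstance⟩

end C

end SecET2

-- ===== from ET3 =====
section SecET3
theorem main (R : Type u) (C : Type v) (B : Type w)
    [CommRing R] [CommRing C] [CommRing B] [Algebra R C] [Algebra C B] [Algebra R B]
    [IsScalarTower R C B]
    [Algebra.Smooth R C] [Algebra.Smooth C B] (J : Ideal B)
    (hsurj : Function.Surjective ((Ideal.Quotient.mk J).comp (algebraMap C B)))
    (x : PrimeSpectrum (B ⧸ J)) :
    ∃ f : B, Ideal.Quotient.mk J f ∉ x.asIdeal ∧
      ∃ J₀ : Ideal (Localization.Away f), J₀ ≤ J.map (algebraMap B (Localization.Away f)) ∧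
        ((Ideal.Quotient.mk J₀).comp
          ((algebraMap B (Localization.Away f)).comp (algebraMap C B))).Etale := by
  haveI : (x.asIdeal.comap (Ideal.Quotient.mk J)).IsPrime := Ideal.comap_isPrime _ _
  obtain ⟨g, hg, κ, hfin, a, bas, hbas⟩ :=
    exists_basis_away C B J hsurj (x.asIdeal.comap (Ideal.Quotient.mk J))
  refine ⟨g, hg,
    Ideal.span (Set.range fun i => algebraMap B (Localization.Away g) (a i : B)), ?_, ?_⟩
  · rw [Ideal.span_le]
    rintro _ ⟨i, rfl⟩
    exact Ideal.mem_map_of_mem _ (a i).2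
  · haveI : Algebra.Smooth B (Localization.Away g) := Algebra.Smooth.of_isLocalization_Away g
    haveI : Algebra.Smooth C (Localization.Away g) := Algebra.Smooth.comp C B (Localization.Away g)
    have het := etale_quotient C (Localization.Away g)
      (fun i => algebraMap B (Localization.Away g) (a i : B)) bas hbas
    rw [← RingHom.etale_algebraMap] at het
    have heq : algebraMap C (Localization.Away g ⧸
        Ideal.span (Set.range fun i => algebraMap B (Localization.Away g) (a i : B))) =
        (Ideal.Quotient.mk _).comp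
          ((algebraMap B (Localization.Away g)).comp (algebraMap C B)) := by
      rw [← IsScalarTower.algebraMap_eq C B (Localization.Away g)]
      rfl
    rw [← heq]
    exact het

end SecET3


end Groth.Agent.Lib.H9EtaleQuot
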