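import Mathlib
import Groth.Agent.Lib.Helper3FlatLocA
import Groth.Agent.Lib.Helper5LocalFlat

set_option autoImplicit false
set_option linter.style.haveILetI false

universe u

namespace Groth.Agent.Lib.H9FCM1

open TensorProduct Groth.Agent.Lib.Helper3.FlatLoc

section AnnDesc

variable {G' G N' : Type*} [CommRing G'] [CommRing G] [Algebra G' G] [Module.Flat G' G]
  [AddCommGroup N'] [Module G' N']

/-- Flat base change commutes with annihilators of elements. -/
theorem mem_map_ker_toSpanSingleton_of_smul_tmul_eq_zero (z : N') (t : G)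
    (h : t • ((1 : G) ⊗ₜ[G'] z) = 0) :
    t ∈ Ideal.map (algebraMap G' G) (LinearMap.ker (LinearMap.toSpanSingleton G' N' z)) := by
  set φ : G' →ₗ[G'] N' := LinearMap.toSpanSingleton G' N' z with hφ
  set 𝔞 : Ideal G' := LinearMap.ker φ with h𝔞
  have hex : Function.Exact 𝔞.subtype φ := LinearMap.exact_subtype_ker_map φ
  have hex2 := Module.Flat.lTensor_exact G hex
  have h1 : φ.lTensor G (t ⊗ₜ[G'] (1 : G')) = 0 := by
    rw [LinearMap.lTensor_tmul, hφ, LinearMap.toSpanSingleton_apply, one_smul]
    rw [smul_tmul', smul_eq_mul, mul_one] at h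
    exact h
  obtain ⟨w, hw⟩ := (hex2 _).mp h1
  have key : ∀ w : G ⊗[G'] 𝔞, TensorProduct.rid G' G (𝔞.subtype.lTensor G w) ∈
      Ideal.map (algebraMap G' G) 𝔞 := by
    intro w
    induction w with
    | zero => simp
    | add a b ha hb => rw [map_add, map_add]; exact Ideal.add_mem _ ha hb
    | tmul g a =>
      rw [LinearMap.lTensor_tmul, TensorProduct.rid_tmul, Submodule.subtype_apply,
        Algebra.smul_def]
      exact Ideal.mul_mem_right _ _ (Ideal.mem_map_of_mem _ a.2)
  have := key w
  rw [hw, TensorProduct.rid_tmul, one_smul] at this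
  exact this

end AnnDesc

section LFD

variable {E' G' G Y' : Type*} [CommRing E'] [CommRing G'] [CommRing G] [Algebra E' G']
  [Algebra G' G] [Algebra E' G] [IsScalarTower E' G' G] [Module.Flat G' G]
  [AddCommGroup Y'] [Module G' Y'] [Module E' Y'] [IsScalarTower E' G' Y']

/-- **Descent of local flatness along a flat extension of the acting ring.** -/
theorem flat_localizedModule_descent (𝔓 : Ideal G) [𝔓.IsPrime]
    (h : Module.Flat E' (LocalizedModule 𝔓.primeCompl (G ⊗[G'] Y'))) :
    Module.Flat E' (LocalizedModule (𝔓.comap (algebraMap G' G)).primeCompl Y') := by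
  rw [flat_localizedModule_iff'] at h ⊢
  intro I z hz
  -- push `z` up
  let α : Y' →ₗ[E'] G ⊗[G'] Y' := (TensorProduct.mk G' G Y' 1).restrictScalars E'
  have hnat : I.subtype.lTensor (G ⊗[G'] Y') (α.rTensor I z) = 0 := by
    rw [← LinearMap.comp_apply, LinearMap.lTensor_comp_rTensor, ← LinearMap.rTensor_comp_lTensor,
      LinearMap.comp_apply, hz, map_zero]
  obtain ⟨t, ht, htz⟩ := h I (α.rTensor I z) hnat
  let e := TensorProduct.AlgebraTensorModule.assoc E' G' G G Y' I
  have he : ∀ z : Y' ⊗[E'] I, e (α.rTensor I z) = (1 : G) ⊗ₜ[G'] z := by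
    intro z
    induction z with
    | zero => simp
    | add a b ha hb => rw [map_add, map_add, ha, hb, tmul_add]
    | tmul y i =>
      rw [LinearMap.rTensor_tmul]
      change e (((1 : G) ⊗ₜ[G'] y) ⊗ₜ[E'] i) = _
      rw [TensorProduct.AlgebraTensorModule.assoc_tmul]
  have h2 : t • ((1 : G) ⊗ₜ[G'] z) = 0 := by
    rw [← he, ← map_smul, htz, map_zero]
  have h3 := mem_map_ker_toSpanSingleton_of_smul_tmul_eq_zero z t h2
  by_contra hcon
  push_neg at hcon
  apply ht
  have hle : LinearMap.ker (LinearMap.toSpanSingleton G' (Y' ⊗[E'] I) z) ≤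
      𝔓.comap (algebraMap G' G) := by
    intro s hs
    by_contra hs'
    exact hcon s hs' (by simpa using hs)
  exact (Ideal.map_le_iff_le_comap.mpr hle) h3

end LFD

end Groth.Agent.Lib.H9FCM1
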