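import Mathlib
import Groth.Agent.Lib.Helper3FlatLocA
import Groth.Agent.Lib.Helper5LocalFlat

set_option autoImplicit false
set_option linter.style.haveILetI false

universe u

namespace Groth.Agent.Lib.H9FCM1b

open TensorProduct Groth.Agent.Lib.Helper3.FlatLoc

section Noeth

variable {A B C M : Type u} [CommRing A] [CommRing B] [CommRing C] [Algebra A B] [Algebra B C]
  [Algebra A C] [IsScalarTower A B C]
  [AddCommGroup M] [Module C M] [Module B M] [Module A M] [IsScalarTower B C M]
  [IsScalarTower A B M] [IsScalarTower A C M]

instance (P : Ideal C) [P.IsPrime] : IsScalarTower A B (LocalizedModule P.primeCompl M) := by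
  constructor
  intro a b x
  induction x using LocalizedModule.induction_on with
  | h m s =>
    rw [LocalizedModule.smul'_mk, LocalizedModule.smul'_mk, LocalizedModule.smul'_mk, smul_assoc]

/-- **Fibrewise criterion, Noetherian global form.** -/
theorem flat_localizedModule_of_fibre_noeth [IsNoetherianRing B] [IsNoetherianRing C]
    [Module.Finite C M] (p : Ideal A) (P : Ideal C) [P.IsPrime]
    (hpP : p.map (algebraMap A C) ≤ P)
    (h1 : Module.Flat A (LocalizedModule P.primeCompl M))
    (h2 : Module.Flat (B ⧸ p.map (algebraMap A B))
      ((B ⧸ p.map (algebraMap A B)) ⊗[B] LocalizedModule P.primeCompl M)) :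
    Module.Flat B (LocalizedModule P.primeCompl M) := by
  haveI : IsNoetherianRing (Localization.AtPrime P) :=
    IsLocalization.isNoetherianRing P.primeCompl _ inferInstance
  haveI : Module.Finite (Localization.AtPrime P) (LocalizedModule P.primeCompl M) :=
    Module.Finite.of_isLocalizedModule P.primeCompl (LocalizedModule.mkLinearMap P.primeCompl M)
  haveI : IsScalarTower B (Localization.AtPrime P) (LocalizedModule P.primeCompl M) := by
    constructor
    intro b x y
    induction y using LocalizedModule.induction_on with
    | h m s =>
      induction x using Localization.induction_on with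
      | H cs =>
        obtain ⟨c, t⟩ := cs
        rw [Localization.smul_mk, LocalizedModule.mk_smul_mk, LocalizedModule.mk_smul_mk,
          LocalizedModule.smul'_mk, smul_assoc]
  apply Groth.Agent.Lib.Helper5.flat_of_lTensor_ideal_injective (A := B)
    (B := Localization.AtPrime P) (LocalizedModule P.primeCompl M) (p.map (algebraMap A B))
  · rw [IsLocalRing.jacobson_eq_maximalIdeal ⊥ bot_ne_top, Ideal.map_map,
      ← IsScalarTower.algebraMap_eq, Ideal.map_le_iff_le_comap]
    intro a ha
    rw [Ideal.mem_comap, IsScalarTower.algebraMap_apply A C (Localization.AtPrime P),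
      IsLocalization.AtPrime.to_map_mem_maximal_iff _ P]
    exact hpP (Ideal.mem_map_of_mem _ ha)
  · haveI := h1
    exact Groth.Agent.Lib.Helper5.lTensor_map_subtype_injective_of_flat (R := A) (S := B)
      (LocalizedModule P.primeCompl M) p
  · exact Groth.Agent.Lib.Helper5.lTensor_restrictScalars_subtype_injective_of_flat_baseChange _ h2

end Noeth

end Groth.Agent.Lib.H9FCM1b
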