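import Mathlib
import Groth.Agent.Lib.Helper3FlatLocA
import Groth.Agent.Lib.Helper3FibCritA
import Groth.Agent.Lib.H3FlatLocBC

set_option autoImplicit false
set_option linter.style.haveILetI false

universe u

namespace Groth.Agent.Lib.H9FCM2

open TensorProduct Groth.Agent.Lib.Helper3.FlatLoc Groth.Agent.Lib.Helper3.FibCritA

attribute [local instance] Algebra.TensorProduct.rightAlgebra

section Single

variable {A B C M : Type u} [CommRing A] [CommRing B] [CommRing C] [Algebra A B] [Algebra B C]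
  [Algebra A C] [IsScalarTower A B C]
  [AddCommGroup M] [Module C M] [Module B M] [Module A M] [IsScalarTower B C M]
  [IsScalarTower A B M] [IsScalarTower A C M]
  (p : Ideal A) [p.IsPrime]

theorem algebraMap_fiber_eq_zero {a : A} (ha : a ∈ p) : algebraMap A (p.Fiber B) a = 0 := by
  rw [IsScalarTower.algebraMap_apply A p.ResidueField (p.Fiber B),
    (Ideal.algebraMap_residueField_eq_zero (I := p)).mpr ha, map_zero]

theorem map_le_ker_fiber :
    p.map (algebraMap A B) ≤ RingHom.ker (algebraMap B (p.Fiber B)) := by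
  rw [Ideal.map_le_iff_le_comap]
  intro a ha
  rw [Ideal.mem_comap, RingHom.mem_ker, ← IsScalarTower.algebraMap_apply]
  exact algebraMap_fiber_eq_zero p ha

/-- The ring map `B/pB → κ(p) ⊗ B`. -/
noncomputable def quotToFiber : B ⧸ p.map (algebraMap A B) →+* p.Fiber B :=
  Ideal.Quotient.lift _ (algebraMap B (p.Fiber B)) (fun b hb => map_le_ker_fiber p hb)

theorem quotToFiber_mk (b : B) : quotToFiber p (Ideal.Quotient.mk _ b) = algebraMap B (p.Fiber B) b :=
  rfl

/-- `Flat (B/pB) ((B/pB) ⊗ X)` implies `Flat (κ(p) ⊗ B) ((κ(p) ⊗ B) ⊗ X)`. -/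
theorem flat_fiber_tensor_of_flat_quotient_tensor (X : Type u) [AddCommGroup X] [Module B X]
    (h : Module.Flat (B ⧸ p.map (algebraMap A B)) ((B ⧸ p.map (algebraMap A B)) ⊗[B] X)) :
    Module.Flat (p.Fiber B) (p.Fiber B ⊗[B] X) := by
  letI : Algebra (B ⧸ p.map (algebraMap A B)) (p.Fiber B) := (quotToFiber p).toAlgebra
  haveI : IsScalarTower B (B ⧸ p.map (algebraMap A B)) (p.Fiber B) :=
    IsScalarTower.of_algebraMap_eq (fun b => rfl)
  haveI := h
  exact Module.Flat.of_linearEquiv
    (TensorProduct.AlgebraTensorModule.cancelBaseChange B (B ⧸ p.map (algebraMap A B))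
      (p.Fiber B) (p.Fiber B) X).symm

end Single

end Groth.Agent.Lib.H9FCM2
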