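import Mathlib
import Groth.Agent.Lib.Helper3FlatLocA
import Groth.Agent.Lib.Helper3FlatOpenFP
import Groth.Agent.Lib.H3FlatLocBC

set_option autoImplicit false
set_option linter.style.haveILetI false

universe u

namespace Groth.Agent.Lib.H9FCM2b

open TensorProduct Groth.Agent.Lib.Helper3.FlatLoc Groth.Agent.Lib.Helper3.FlatOpen

section LCB

variable {C G M : Type u} [CommRing C] [CommRing G] [Algebra C G]
  [AddCommGroup M] [Module C M]

/-- Localization commutes with base change: `G ⊗ M_T ≃ (G ⊗ M)_{T G}`. -/
noncomputable def localizedBaseChangeEquiv (T : Submonoid C) :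
    LocalizedModule (Algebra.algebraMapSubmonoid G T) (G ⊗[C] M) ≃ₗ[G]
      G ⊗[C] LocalizedModule T M :=
  haveI := Groth.Agent.H3.FlatLocBC.isLocalizedModule_baseChange
    (TensorProduct.mk C G M 1) (TensorProduct.isBaseChange C M G) T
    (LocalizedModule.mkLinearMap T M)
  IsLocalizedModule.iso (Algebra.algebraMapSubmonoid G T)
    ((LinearMap.baseChange G (LocalizedModule.mkLinearMap T M)) ∘ₗ
      (TensorProduct.isBaseChange C M G).equiv.symm.toLinearMap)

end LCB

section Top

variable {B C F G M : Type u} [CommRing B] [CommRing C] [CommRing F] [CommRing G]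
  [Algebra B C] [Algebra B F] [Algebra F G] [Algebra C G] [Algebra B G]
  [IsScalarTower B F G] [IsScalarTower B C G] [Algebra.IsPushout B F C G]
  [AddCommGroup M] [Module C M] [Module B M] [IsScalarTower B C M]

/-- From flatness of `F ⊗_B M_P` over `F` to flatness of `(G ⊗_C M)_𝔓` over `F`. -/
theorem flat_localizedModule_baseChange_of_flat_tensor (T : Submonoid C) (T' : Submonoid G)
    (hT : Algebra.algebraMapSubmonoid G T ≤ T')
    (h : Module.Flat F (F ⊗[B] LocalizedModule T M)) :
    Module.Flat F (LocalizedModule T' (G ⊗[C] M)) := by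
  haveI := h
  have h2 : Module.Flat F (G ⊗[C] LocalizedModule T M) :=
    Module.Flat.of_linearEquiv
      (Algebra.IsPushout.cancelBaseChange B F C G (LocalizedModule T M))
  have h3 : Module.Flat F (LocalizedModule (Algebra.algebraMapSubmonoid G T) (G ⊗[C] M)) :=
    Module.Flat.of_linearEquiv ((localizedBaseChangeEquiv (G := G) (M := M) T).restrictScalars F)
  exact flat_localizedModule_of_le hT h3

end Top

end Groth.Agent.Lib.H9FCM2b
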