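import Mathlib
import Groth.Agent.Lib.H9FCM1
import Groth.Agent.Lib.H9FCM2b

set_option autoImplicit false
set_option linter.style.haveILetI false

universe u

namespace Groth.Agent.Lib.H9FCM3

open TensorProduct Groth.Agent.Lib.Helper3.FlatLoc Groth.Agent.Lib.Helper3.FlatOpen
  Groth.Agent.Lib.H9FCM1 Groth.Agent.Lib.H9FCM2b

section Iso

variable {C' C G' G M' M : Type u} [CommRing C'] [CommRing C] [CommRing G'] [CommRing G]
  [Algebra C' C] [Algebra C' G'] [Algebra C G] [Algebra G' G] [Algebra C' G]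
  [IsScalarTower C' C G] [IsScalarTower C' G' G]
  [AddCommGroup M'] [Module C' M'] [AddCommGroup M] [Module C M] [Module C' M]
  [IsScalarTower C' C M]

/-- `G ⊗_C M ≃ G ⊗_{G'} (G' ⊗_{C'} M')` when `M = C ⊗_{C'} M'`. -/
noncomputable def tensorTensorEquiv (f : M' →ₗ[C'] M) (hf : IsBaseChange C f) :
    G ⊗[C] M ≃ₗ[G] G ⊗[G'] (G' ⊗[C'] M') :=
  (TensorProduct.AlgebraTensorModule.congr (LinearEquiv.refl G G) hf.equiv.symm) ≪≫ₗ
    (TensorProduct.AlgebraTensorModule.cancelBaseChange C' C G G M') ≪≫ₗ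
    (TensorProduct.AlgebraTensorModule.cancelBaseChange C' G' G G M').symm

end Iso

section Bot

variable {B' C' E' G' F G M' : Type u} [CommRing B'] [CommRing C'] [CommRing E'] [CommRing G']
  [CommRing F] [CommRing G]
  [Algebra B' C'] [Algebra B' E'] [Algebra E' G'] [Algebra C' G'] [Algebra B' G']
  [IsScalarTower B' E' G'] [IsScalarTower B' C' G'] [Algebra.IsPushout B' E' C' G']
  [Algebra E' F] [Algebra F G] [Algebra G' G] [Algebra E' G]
  [IsScalarTower E' F G] [IsScalarTower E' G' G]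
  [Module.Flat E' F] [Module.Flat G' G]
  [AddCommGroup M'] [Module C' M'] [Module B' M'] [IsScalarTower B' C' M']

/-- The bottom half of the descent: from `F`-flatness of `(G ⊗ Y')_𝔓` to `E'`-flatness of
`E' ⊗_{B'} M'_{T'}`. -/
theorem flat_tensor_of_flat_localizedModule_top (𝔓 : Ideal G) [𝔓.IsPrime] (T' : Submonoid C')
    (hT' : (𝔓.comap (algebraMap G' G)).primeCompl ≤ Algebra.algebraMapSubmonoid G' T')
    (h : Module.Flat F (LocalizedModule 𝔓.primeCompl (G ⊗[G'] (G' ⊗[C'] M')))) :
    Module.Flat E' (E' ⊗[B'] LocalizedModule T' M') := by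
  haveI := h
  have h1 : Module.Flat E' (LocalizedModule 𝔓.primeCompl (G ⊗[G'] (G' ⊗[C'] M'))) :=
    Module.Flat.trans E' F _
  have h2 := flat_localizedModule_descent (E' := E') (G' := G') (G := G) (Y' := G' ⊗[C'] M') 𝔓 h1
  have h3 : Module.Flat E' (LocalizedModule (Algebra.algebraMapSubmonoid G' T') (G' ⊗[C'] M')) :=
    flat_localizedModule_of_le hT' h2
  haveI := h3
  have h4 : Module.Flat E' (G' ⊗[C'] LocalizedModule T' M') :=
    Module.Flat.of_linearEquiv
      ((localizedBaseChangeEquiv (G := G') (M := M') T').symm.restrictScalars E')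
  haveI := h4
  exact Module.Flat.of_linearEquiv
    (Algebra.IsPushout.cancelBaseChange B' E' C' G' (LocalizedModule T' M')).symm

end Bot

end Groth.Agent.Lib.H9FCM3
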