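import Mathlib

set_option autoImplicit false
set_option linter.style.haveILetI false

universe u

namespace Groth.Agent.Lib.H9FCM3b

open TensorProduct

section PQ

/-- quotient by an extended ideal is again a pushout. -/
theorem isPushout_quotient (A A' : Type u) [CommRing A] [CommRing A'] [Algebra A A'] (I : Ideal A) :
    Algebra.IsPushout A (A ⧸ I) A' (A' ⧸ I.map (algebraMap A A')) := by
  constructor
  refine IsBaseChange.of_equiv
    (Algebra.TensorProduct.quotIdealMapEquivQuotTensor A' I).symm.toLinearEquiv fun x => ?_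
  apply (Algebra.TensorProduct.quotIdealMapEquivQuotTensor A' I).injective
  change (Algebra.TensorProduct.quotIdealMapEquivQuotTensor A' I)
    ((Algebra.TensorProduct.quotIdealMapEquivQuotTensor A' I).symm _) = _
  rw [AlgEquiv.apply_symm_apply]
  change _ = (Algebra.TensorProduct.quotIdealMapEquivQuotTensor A' I)
    (Ideal.Quotient.mk _ x)
  simp [Algebra.TensorProduct.quotIdealMapEquivQuotTensor]

end PQ

section FLQ

variable {R T R' T' : Type u} [CommRing R] [CommRing T] [CommRing R'] [CommRing T']
  [Algebra R T] [Algebra R R'] [Algebra T T'] [Algebra R' T'] [Algebra R T']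
  [IsScalarTower R T T'] [IsScalarTower R R' T'] [Algebra.IsPushout R T R' T']
  (I : Ideal R)
  [Algebra (R ⧸ I) T] [IsScalarTower R (R ⧸ I) T]
  [Algebra (R' ⧸ I.map (algebraMap R R')) T'] [IsScalarTower R' (R' ⧸ I.map (algebraMap R R')) T']

/-- Flatness passes to quotient squares: if `T' = T ⊗_R R'`, `I` dies in `T` and `T` is flat over
`R/I`, then `T'` is flat over `R'/IR'`. -/
theorem flat_quotient_of_isPushout [Module.Flat (R ⧸ I) T] :
    Module.Flat (R' ⧸ I.map (algebraMap R R')) T' := by
  letI aQT' : Algebra (R ⧸ I) T' := ((algebraMap T T').comp (algebraMap (R ⧸ I) T)).toAlgebra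
  haveI t1 : IsScalarTower (R ⧸ I) T T' := IsScalarTower.of_algebraMap_eq (fun _ => rfl)
  haveI t2 : IsScalarTower R (R ⧸ I) T' := IsScalarTower.of_algebraMap_eq (fun r => by
    change algebraMap R T' r = algebraMap T T' (algebraMap (R ⧸ I) T (algebraMap R (R ⧸ I) r))
    rw [← IsScalarTower.algebraMap_apply R (R ⧸ I) T, ← IsScalarTower.algebraMap_apply R T T'])
  haveI t3 : IsScalarTower R (R' ⧸ I.map (algebraMap R R')) T' :=
    IsScalarTower.of_algebraMap_eq (fun r => by
      rw [IsScalarTower.algebraMap_apply R R' (R' ⧸ I.map (algebraMap R R')),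
        ← IsScalarTower.algebraMap_apply R' (R' ⧸ I.map (algebraMap R R')) T',
        ← IsScalarTower.algebraMap_apply R R' T'])
  haveI t4 : IsScalarTower (R ⧸ I) (R' ⧸ I.map (algebraMap R R')) T' :=
    IsScalarTower.of_algebraMap_eq (fun x => by
      obtain ⟨r, rfl⟩ := Ideal.Quotient.mk_surjective x
      change algebraMap (R ⧸ I) T' (algebraMap R (R ⧸ I) r) =
        algebraMap (R' ⧸ I.map (algebraMap R R')) T'
          (algebraMap (R ⧸ I) (R' ⧸ I.map (algebraMap R R')) (algebraMap R (R ⧸ I) r))
      rw [← IsScalarTower.algebraMap_apply R (R ⧸ I) T',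
        ← IsScalarTower.algebraMap_apply R (R ⧸ I) (R' ⧸ I.map (algebraMap R R')),
        ← IsScalarTower.algebraMap_apply R (R' ⧸ I.map (algebraMap R R')) T'])
  haveI hq : Algebra.IsPushout R (R ⧸ I) R' (R' ⧸ I.map (algebraMap R R')) :=
    isPushout_quotient R R' I
  have h1 : Algebra.IsPushout R T R' T' := inferInstance
  have h2 : Algebra.IsPushout (R ⧸ I) T (R' ⧸ I.map (algebraMap R R')) T' :=
    (Algebra.IsPushout.comp_iff (R := R) (S := R ⧸ I) (R' := R')
      (S' := R' ⧸ I.map (algebraMap R R')) (T := T) (T' := T')).mp h1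
  exact Module.Flat.isBaseChange (R := R ⧸ I) (S := R' ⧸ I.map (algebraMap R R')) (M := T) T'
    h2.symm.out

end FLQ

end Groth.Agent.Lib.H9FCM3b
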