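import Mathlib
import Groth.Agent.Lib.H9FCM1
import Groth.Agent.Lib.H9FCM1b
import Groth.Agent.Lib.H9FCM2
import Groth.Agent.Lib.H9FCM2b
import Groth.Agent.Lib.H9FCM3
import Groth.Agent.Lib.H9FCM3b
import Groth.Agent.Lib.Helper3FlatBC
import Groth.Agent.Lib.Helper3FlatDescB

set_option autoImplicit false
set_option linter.style.haveILetI false

universe u

namespace Groth.Agent.Lib.H9FCM4

open TensorProduct Groth.Agent.Lib.Helper3.FlatLoc Groth.Agent.Lib.Helper3.FlatOpen
  Groth.Agent.Lib.Helper3.FibCritA Groth.Agent.Lib.Helper3.FlatDesc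

attribute [local instance] Algebra.TensorProduct.rightAlgebra

section CoreAbs

variable {A' A B' B C' C : Type u} [CommRing A'] [CommRing A]
  [CommRing B'] [CommRing B] [CommRing C'] [CommRing C]
  [Algebra A' A]
  [Algebra A' B'] [Algebra A B] [Algebra B' B] [Algebra A' B] [IsScalarTower A' B' B]
  [IsScalarTower A' A B]
  [Algebra A' C'] [Algebra A C] [Algebra C' C] [Algebra A' C] [IsScalarTower A' C' C]
  [IsScalarTower A' A C]
  [Algebra B' C'] [IsScalarTower A' B' C'] [Algebra B C] [IsScalarTower A B C]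
  [Algebra B' C] [IsScalarTower B' B C] [IsScalarTower B' C' C]
  [Algebra.IsPushout A' A B' B] [Algebra.IsPushout A' A C' C]
  {M' M : Type u} [AddCommGroup M'] [Module C' M'] [Module B' M'] [Module A' M']
  [IsScalarTower B' C' M'] [IsScalarTower A' B' M'] [IsScalarTower A' C' M']
  [AddCommGroup M] [Module C M] [Module B M] [Module A M] [IsScalarTower B C M]
  [IsScalarTower A B M] [IsScalarTower A C M]
  [Module C' M] [IsScalarTower C' C M] [Module B' M] [IsScalarTower B' B M]
  [IsScalarTower B' C' M]

set_option maxHeartbeats 3200000 in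
/-- **Descent of fibre flatness along a base change** `A' → A`: if the fibre of `M_P` over `p` is
flat over the fibre of `B`, then the fibre of `M'_{P'}` over `p' = p ∩ A'` is flat over the fibre
of `B'`. No finiteness assumptions. -/
theorem flat_quotient_tensor_of_fibreK_flat_of_baseChange
    (f : M' →ₗ[C'] M) (hf : IsBaseChange C f)
    (p : Ideal A) [p.IsPrime] (P : Ideal C) [P.IsPrime] (hP : P.under A = p)
    (hT1 : Module.Flat (p.Fiber B) (p.Fiber B ⊗[B] LocalizedModule P.primeCompl M)) :
    Module.Flat (B' ⧸ (p.comap (algebraMap A' A)).map (algebraMap A' B'))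
      ((B' ⧸ (p.comap (algebraMap A' A)).map (algebraMap A' B')) ⊗[B']
        LocalizedModule (P.comap (algebraMap C' C)).primeCompl M') := by
  -- the prime of the fibre ring
  obtain ⟨𝔓, h𝔓prime, h𝔓⟩ : ∃ 𝔓 : Ideal (p.Fiber C), ∃ _ : 𝔓.IsPrime,
      𝔓.comap (Algebra.TensorProduct.includeRight : C →ₐ[A] p.Fiber C) = P := by
    let q := PrimeSpectrum.primesOverOrderIsoFiber A C p ⟨P, ⟨inferInstance, ⟨hP.symm⟩⟩⟩
    refine ⟨q.asIdeal, q.isPrime, ?_⟩
    have h := PrimeSpectrum.coe_primesOverOrderIsoFiber_symm_apply p q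
    rw [← h]
    simp [q]
  -- top-level fibre rings
  letI algFG : Algebra (p.Fiber B) (p.Fiber C) :=
    (fiberMap (B := B) (C := C) p).toRingHom.toAlgebra
  letI algBG : Algebra B (p.Fiber C) :=
    ((algebraMap C (p.Fiber C)).comp (algebraMap B C)).toAlgebra
  haveI tBCG : IsScalarTower B C (p.Fiber C) :=
    IsScalarTower.of_algebraMap_eq (R := B) (S := C) (A := p.Fiber C) (fun _ => rfl)
  haveI tBFG : IsScalarTower B (p.Fiber B) (p.Fiber C) :=
    IsScalarTower.of_algebraMap_eq (R := B) (S := p.Fiber B) (A := p.Fiber C) (fun b => by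
      change (1 : p.ResidueField) ⊗ₜ[A] (algebraMap B C b) =
        fiberMap p ((1 : p.ResidueField) ⊗ₜ[A] b)
      rw [fiberMap_one_tmul])
  haveI tκFG : IsScalarTower p.ResidueField (p.Fiber B) (p.Fiber C) :=
    IsScalarTower.of_algebraMap_eq (R := p.ResidueField) (S := p.Fiber B) (A := p.Fiber C) (fun x => ((fiberMap (B := B) (C := C) p).commutes x).symm)
  haveI tAFG : IsScalarTower A (p.Fiber B) (p.Fiber C) :=
    IsScalarTower.of_algebraMap_eq (R := A) (S := p.Fiber B) (A := p.Fiber C) (fun a => by
      rw [IsScalarTower.algebraMap_apply A p.ResidueField (p.Fiber C),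
        IsScalarTower.algebraMap_apply A p.ResidueField (p.Fiber B),
        ← IsScalarTower.algebraMap_apply p.ResidueField (p.Fiber B) (p.Fiber C)])
  haveI tABG : IsScalarTower A B (p.Fiber C) :=
    IsScalarTower.of_algebraMap_eq (R := A) (S := B) (A := p.Fiber C) (fun a => by
      rw [IsScalarTower.algebraMap_apply A C (p.Fiber C), IsScalarTower.algebraMap_apply A B C,
        ← IsScalarTower.algebraMap_apply B C (p.Fiber C)])
  haveI poBFCG : Algebra.IsPushout B (p.Fiber B) C (p.Fiber C) := by
    have h : Algebra.IsPushout A p.ResidueField C (p.Fiber C) := inferInstance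
    haveI : Algebra.IsPushout A B p.ResidueField (p.Fiber B) := inferInstance
    have h2 : Algebra.IsPushout B C (p.Fiber B) (p.Fiber C) :=
      (Algebra.IsPushout.comp_iff (R := A) (S := B) (R' := p.ResidueField) (S' := p.Fiber B)
        (T := C) (T' := p.Fiber C)).mp h.symm
    exact h2.symm
  -- Step T
  have hTle : Algebra.algebraMapSubmonoid (p.Fiber C) P.primeCompl ≤ 𝔓.primeCompl := by
    rintro _ ⟨c, hc, rfl⟩
    intro hmem
    apply hc
    rw [← h𝔓]
    exact hmem
  have hT2 : Module.Flat (p.Fiber B) (LocalizedModule 𝔓.primeCompl (p.Fiber C ⊗[C] M)) :=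
    Groth.Agent.Lib.H9FCM2b.flat_localizedModule_baseChange_of_flat_tensor (B := B) (C := C)
      (F := p.Fiber B) (G := p.Fiber C) (M := M) P.primeCompl 𝔓.primeCompl hTle hT1
  -- bottom-level primes
  let p' : Ideal A' := p.comap (algebraMap A' A)
  haveI : p'.IsPrime := Ideal.comap_isPrime _ _
  let P' : Ideal C' := P.comap (algebraMap C' C)
  haveI : P'.IsPrime := Ideal.comap_isPrime _ _
  -- algebra structures from the bottom level to the top fibre rings
  letI algB'F : Algebra B' (p.Fiber B) :=
    ((algebraMap B (p.Fiber B)).comp (algebraMap B' B)).toAlgebra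
  letI algC'G : Algebra C' (p.Fiber C) :=
    ((algebraMap C (p.Fiber C)).comp (algebraMap C' C)).toAlgebra
  letI algB'G : Algebra B' (p.Fiber C) :=
    ((algebraMap B (p.Fiber C)).comp (algebraMap B' B)).toAlgebra
  haveI tA'κF : IsScalarTower A' p.ResidueField (p.Fiber B) := inferInstance
  have hA'F : ∀ a : A', algebraMap A' (p.Fiber B) a = algebraMap A (p.Fiber B) (algebraMap A' A a) := by
    intro a
    rw [IsScalarTower.algebraMap_apply A' p.ResidueField (p.Fiber B),
      IsScalarTower.algebraMap_apply A p.ResidueField (p.Fiber B)]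
    rfl
  haveI tA'BF : IsScalarTower A' B (p.Fiber B) :=
    IsScalarTower.of_algebraMap_eq (R := A') (S := B) (A := p.Fiber B) (fun a => by
      rw [hA'F, IsScalarTower.algebraMap_apply A' A B,
        ← IsScalarTower.algebraMap_apply A B (p.Fiber B)])
  haveI tB'BF : IsScalarTower B' B (p.Fiber B) :=
    IsScalarTower.of_algebraMap_eq (R := B') (S := B) (A := p.Fiber B) (fun _ => rfl)
  haveI tA'B'F : IsScalarTower A' B' (p.Fiber B) :=
    IsScalarTower.of_algebraMap_eq (R := A') (S := B') (A := p.Fiber B) (fun a => by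
      change algebraMap A' (p.Fiber B) a = algebraMap B (p.Fiber B) (algebraMap B' B (algebraMap A' B' a))
      rw [← IsScalarTower.algebraMap_apply A' B' B, ← IsScalarTower.algebraMap_apply A' B (p.Fiber B)])
  haveI poA'κB'F : Algebra.IsPushout A' p.ResidueField B' (p.Fiber B) := by
    have h : Algebra.IsPushout A p.ResidueField B (p.Fiber B) := inferInstance
    exact (Algebra.IsPushout.comp_iff (R := A') (S := A) (R' := B') (S' := B)
      (T := p.ResidueField) (T' := p.Fiber B)).mpr h
  -- the quotient `A'/p'` and flatness of `κ(p)` over it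
  have hkerκ : ∀ a ∈ p', algebraMap A' p.ResidueField a = 0 := by
    intro a ha
    rw [IsScalarTower.algebraMap_apply A' A p.ResidueField]
    exact (Ideal.algebraMap_residueField_eq_zero (I := p)).mpr ha
  letI algDκ : Algebra (A' ⧸ p') p.ResidueField :=
    (Ideal.Quotient.lift p' (algebraMap A' p.ResidueField) hkerκ).toAlgebra
  haveI tA'Dκ : IsScalarTower A' (A' ⧸ p') p.ResidueField :=
    IsScalarTower.of_algebraMap_eq (R := A') (S := A' ⧸ p') (A := p.ResidueField) (fun _ => rfl)
  haveI flatDκ : Module.Flat (A' ⧸ p') p.ResidueField := by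
    apply flat_of_field_of_injective
    rw [injective_iff_map_eq_zero]
    intro x hx
    obtain ⟨a, rfl⟩ := Ideal.Quotient.mk_surjective x
    rw [Ideal.Quotient.eq_zero_iff_mem]
    change algebraMap A' p.ResidueField a = 0 at hx
    rw [IsScalarTower.algebraMap_apply A' A p.ResidueField,
      Ideal.algebraMap_residueField_eq_zero] at hx
    exact hx
  -- the quotient `B'/p'B'`
  have hkerF : ∀ b ∈ p'.map (algebraMap A' B'), algebraMap B' (p.Fiber B) b = 0 := by
    intro b hb
    have hle : p'.map (algebraMap A' B') ≤ RingHom.ker (algebraMap B' (p.Fiber B)) := by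
      rw [Ideal.map_le_iff_le_comap]
      intro a ha
      rw [Ideal.mem_comap, RingHom.mem_ker, ← IsScalarTower.algebraMap_apply A' B' (p.Fiber B),
        IsScalarTower.algebraMap_apply A' p.ResidueField (p.Fiber B), hkerκ a ha, map_zero]
    exact hle hb
  letI algEF : Algebra (B' ⧸ p'.map (algebraMap A' B')) (p.Fiber B) :=
    (Ideal.Quotient.lift _ (algebraMap B' (p.Fiber B)) hkerF).toAlgebra
  haveI tB'EF : IsScalarTower B' (B' ⧸ p'.map (algebraMap A' B')) (p.Fiber B) :=
    IsScalarTower.of_algebraMap_eq (R := B') (S := B' ⧸ p'.map (algebraMap A' B'))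
      (A := p.Fiber B) (fun _ => rfl)
  haveI flatEF : Module.Flat (B' ⧸ p'.map (algebraMap A' B')) (p.Fiber B) :=
    Groth.Agent.Lib.H9FCM3b.flat_quotient_of_isPushout (R := A') (T := p.ResidueField)
      (R' := B') (T' := p.Fiber B) p'
  -- the `C`-side
  haveI tC'CG : IsScalarTower C' C (p.Fiber C) :=
    IsScalarTower.of_algebraMap_eq (R := C') (S := C) (A := p.Fiber C) (fun _ => rfl)
  haveI tB'BG : IsScalarTower B' B (p.Fiber C) :=
    IsScalarTower.of_algebraMap_eq (R := B') (S := B) (A := p.Fiber C) (fun _ => rfl)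
  haveI tB'FG : IsScalarTower B' (p.Fiber B) (p.Fiber C) :=
    IsScalarTower.of_algebraMap_eq (R := B') (S := p.Fiber B) (A := p.Fiber C) (fun b => by
      change algebraMap B (p.Fiber C) (algebraMap B' B b) =
        algebraMap (p.Fiber B) (p.Fiber C) (algebraMap B (p.Fiber B) (algebraMap B' B b))
      rw [← IsScalarTower.algebraMap_apply B (p.Fiber B) (p.Fiber C)])
  haveI tB'CG : IsScalarTower B' C (p.Fiber C) :=
    IsScalarTower.of_algebraMap_eq (R := B') (S := C) (A := p.Fiber C) (fun b => by
      change algebraMap B (p.Fiber C) (algebraMap B' B b) = algebraMap C (p.Fiber C) (algebraMap B' C b)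
      rw [IsScalarTower.algebraMap_apply B' B C, ← IsScalarTower.algebraMap_apply B C (p.Fiber C)])
  haveI tB'C'G : IsScalarTower B' C' (p.Fiber C) :=
    IsScalarTower.of_algebraMap_eq (R := B') (S := C') (A := p.Fiber C) (fun b => by
      change algebraMap B' (p.Fiber C) b = algebraMap C (p.Fiber C) (algebraMap C' C (algebraMap B' C' b))
      rw [← IsScalarTower.algebraMap_apply B' C' C, ← IsScalarTower.algebraMap_apply B' C (p.Fiber C)])
  haveI poB' : Algebra.IsPushout A' B' A B := Algebra.IsPushout.symm inferInstance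
  haveI tA'BC : IsScalarTower A' B C := IsScalarTower.of_algebraMap_eq (fun x => by
    rw [IsScalarTower.algebraMap_apply A' A C, IsScalarTower.algebraMap_apply A' A B,
      ← IsScalarTower.algebraMap_apply A B C])
  haveI hPO : Algebra.IsPushout B' B C' C := by
    have hpoC : Algebra.IsPushout A' A C' C := inferInstance
    exact ((Algebra.IsPushout.comp_iff (R := A') (S := B') (R' := A) (S' := B) (T := C')
      (T' := C)).mp hpoC.symm).symm
  haveI poB'FC'G : Algebra.IsPushout B' (p.Fiber B) C' (p.Fiber C) :=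
    (Algebra.IsPushout.comp_iff (R := B') (S := B) (R' := C') (S' := C)
      (T := p.Fiber B) (T' := p.Fiber C)).mpr poBFCG
  have hkerG : ∀ c ∈ (p'.map (algebraMap A' B')).map (algebraMap B' C'),
      algebraMap C' (p.Fiber C) c = 0 := by
    intro c hc
    have hle : (p'.map (algebraMap A' B')).map (algebraMap B' C') ≤
        RingHom.ker (algebraMap C' (p.Fiber C)) := by
      rw [Ideal.map_le_iff_le_comap]
      intro b hb
      rw [Ideal.mem_comap, RingHom.mem_ker, ← IsScalarTower.algebraMap_apply B' C' (p.Fiber C),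
        IsScalarTower.algebraMap_apply B' (p.Fiber B) (p.Fiber C), hkerF b hb, map_zero]
    exact hle hc
  letI algG'G : Algebra (C' ⧸ (p'.map (algebraMap A' B')).map (algebraMap B' C')) (p.Fiber C) :=
    (Ideal.Quotient.lift _ (algebraMap C' (p.Fiber C)) hkerG).toAlgebra
  haveI tC'G'G : IsScalarTower C' (C' ⧸ (p'.map (algebraMap A' B')).map (algebraMap B' C'))
      (p.Fiber C) :=
    IsScalarTower.of_algebraMap_eq (R := C')
      (S := C' ⧸ (p'.map (algebraMap A' B')).map (algebraMap B' C')) (A := p.Fiber C)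
      (fun _ => rfl)
  haveI flatG'G : Module.Flat (C' ⧸ (p'.map (algebraMap A' B')).map (algebraMap B' C'))
      (p.Fiber C) :=
    Groth.Agent.Lib.H9FCM3b.flat_quotient_of_isPushout (R := B') (T := p.Fiber B)
      (R' := C') (T' := p.Fiber C) (p'.map (algebraMap A' B'))
  letI algEG : Algebra (B' ⧸ p'.map (algebraMap A' B')) (p.Fiber C) :=
    ((algebraMap (p.Fiber B) (p.Fiber C)).comp
      (algebraMap (B' ⧸ p'.map (algebraMap A' B')) (p.Fiber B))).toAlgebra
  haveI tEFG : IsScalarTower (B' ⧸ p'.map (algebraMap A' B')) (p.Fiber B) (p.Fiber C) :=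
    IsScalarTower.of_algebraMap_eq (R := B' ⧸ p'.map (algebraMap A' B')) (S := p.Fiber B)
      (A := p.Fiber C) (fun _ => rfl)
  haveI tEG'G : IsScalarTower (B' ⧸ p'.map (algebraMap A' B'))
      (C' ⧸ (p'.map (algebraMap A' B')).map (algebraMap B' C')) (p.Fiber C) :=
    IsScalarTower.of_algebraMap_eq (R := B' ⧸ p'.map (algebraMap A' B'))
      (S := C' ⧸ (p'.map (algebraMap A' B')).map (algebraMap B' C')) (A := p.Fiber C) (fun x => by
        obtain ⟨b, rfl⟩ := Ideal.Quotient.mk_surjective x
        change algebraMap (p.Fiber B) (p.Fiber C) (algebraMap B' (p.Fiber B) b) =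
          algebraMap C' (p.Fiber C) (algebraMap B' C' b)
        rw [← IsScalarTower.algebraMap_apply B' (p.Fiber B) (p.Fiber C),
          ← IsScalarTower.algebraMap_apply B' C' (p.Fiber C)])
  -- Step L
  have hL : Module.Flat (p.Fiber B) (LocalizedModule 𝔓.primeCompl
      (p.Fiber C ⊗[C' ⧸ (p'.map (algebraMap A' B')).map (algebraMap B' C')]
        ((C' ⧸ (p'.map (algebraMap A' B')).map (algebraMap B' C')) ⊗[C'] M'))) :=
    flat_localizedModule_of_linearEquiv
      (Groth.Agent.Lib.H9FCM3.tensorTensorEquiv (C' := C') (C := C)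
        (G' := C' ⧸ (p'.map (algebraMap A' B')).map (algebraMap B' C')) (G := p.Fiber C) f hf)
      𝔓.primeCompl hT2
  -- Step B
  haveI poQ : Algebra.IsPushout B' (B' ⧸ p'.map (algebraMap A' B')) C'
      (C' ⧸ (p'.map (algebraMap A' B')).map (algebraMap B' C')) :=
    Groth.Agent.Lib.H9FCM3b.isPushout_quotient B' C' (p'.map (algebraMap A' B'))
  have hT' : (𝔓.comap (algebraMap (C' ⧸ (p'.map (algebraMap A' B')).map (algebraMap B' C'))
      (p.Fiber C))).primeCompl ≤ Algebra.algebraMapSubmonoid
        (C' ⧸ (p'.map (algebraMap A' B')).map (algebraMap B' C')) P'.primeCompl := by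
    intro x hx
    obtain ⟨c, rfl⟩ := Ideal.Quotient.mk_surjective x
    refine ⟨c, ?_, rfl⟩
    intro hc
    apply hx
    change algebraMap C' (p.Fiber C) c ∈ 𝔓
    have h2 : algebraMap C' C c ∈ 𝔓.comap
        (Algebra.TensorProduct.includeRight : C →ₐ[A] p.Fiber C) := by
      rw [h𝔓]; exact hc
    exact h2
  have hB : Module.Flat (B' ⧸ p'.map (algebraMap A' B'))
      ((B' ⧸ p'.map (algebraMap A' B')) ⊗[B'] LocalizedModule P'.primeCompl M') :=
    Groth.Agent.Lib.H9FCM3.flat_tensor_of_flat_localizedModule_top (B' := B') (C' := C')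
      (E' := B' ⧸ p'.map (algebraMap A' B'))
      (G' := C' ⧸ (p'.map (algebraMap A' B')).map (algebraMap B' C'))
      (F := p.Fiber B) (G := p.Fiber C) (M' := M') 𝔓 P'.primeCompl hT' hL
  exact hB

set_option maxHeartbeats 3200000 in
theorem flat_of_fibreK_flat_of_model [IsNoetherianRing B'] [IsNoetherianRing C']
    [Module.Finite C' M'] (f : M' →ₗ[C'] M) (hf : IsBaseChange C f)
    (p : Ideal A) [p.IsPrime] (P : Ideal C) [P.IsPrime] (hP : P.under A = p)
    (h1' : Module.Flat A' (LocalizedModule (P.comap (algebraMap C' C)).primeCompl M'))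
    (hT1 : Module.Flat (p.Fiber B) (p.Fiber B ⊗[B] LocalizedModule P.primeCompl M)) :
    Module.Flat B (LocalizedModule P.primeCompl M) := by
  let p' : Ideal A' := p.comap (algebraMap A' A)
  haveI : p'.IsPrime := Ideal.comap_isPrime _ _
  let P' : Ideal C' := P.comap (algebraMap C' C)
  haveI : P'.IsPrime := Ideal.comap_isPrime _ _
  have hB : Module.Flat (B' ⧸ p'.map (algebraMap A' B'))
      ((B' ⧸ p'.map (algebraMap A' B')) ⊗[B'] LocalizedModule P'.primeCompl M') :=
    flat_quotient_tensor_of_fibreK_flat_of_baseChange (A' := A') (A := A) (B' := B') (B := B)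
      (C' := C') (C := C) (M' := M') (M := M) f hf p P hP hT1
  haveI poB' : Algebra.IsPushout A' B' A B := Algebra.IsPushout.symm inferInstance
  haveI tA'BC : IsScalarTower A' B C := IsScalarTower.of_algebraMap_eq (fun x => by
    rw [IsScalarTower.algebraMap_apply A' A C, IsScalarTower.algebraMap_apply A' A B,
      ← IsScalarTower.algebraMap_apply A B C])
  haveI hPO : Algebra.IsPushout B' B C' C := by
    have hpoC : Algebra.IsPushout A' A C' C := inferInstance
    exact ((Algebra.IsPushout.comp_iff (R := A') (S := B') (R' := A) (S' := B) (T := C')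
      (T' := C)).mp hpoC.symm).symm
  -- Step N
  have hp'P' : p'.map (algebraMap A' C') ≤ P' := by
    rw [Ideal.map_le_iff_le_comap]
    intro a ha
    change algebraMap C' C (algebraMap A' C' a) ∈ P
    rw [← IsScalarTower.algebraMap_apply A' C' C, IsScalarTower.algebraMap_apply A' A C]
    have : algebraMap A' A a ∈ P.under A := by rw [hP]; exact ha
    exact this
  have hN : Module.Flat B' (LocalizedModule P'.primeCompl M') :=
    Groth.Agent.Lib.H9FCM1b.flat_localizedModule_of_fibre_noeth p' P' hp'P' h1' hB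
  -- Step U
  have hfB : IsBaseChange B (f.restrictScalars B') :=
    isBaseChange_restrictScalars_of_isPushout (A := B') (R := B) (PA := C') (PR := C) f hf
  exact flat_localizedModule_of_isBaseChange (A := B') (R := B) (SA := C') (SR := C) (MA := M')
    (MR := M) f hfB P'.primeCompl P.primeCompl (fun s hs => hs) hN

theorem flat_of_fibre_flat_of_model [IsNoetherianRing B'] [IsNoetherianRing C']
    [Module.Finite C' M'] (f : M' →ₗ[C'] M) (hf : IsBaseChange C f)
    (p : Ideal A) [p.IsPrime] (P : Ideal C) [P.IsPrime] (hP : P.under A = p)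
    (h1' : Module.Flat A' (LocalizedModule (P.comap (algebraMap C' C)).primeCompl M'))
    (hfib : Module.Flat (B ⧸ p.map (algebraMap A B))
      ((B ⧸ p.map (algebraMap A B)) ⊗[B] LocalizedModule P.primeCompl M)) :
    Module.Flat B (LocalizedModule P.primeCompl M) :=
  flat_of_fibreK_flat_of_model (A' := A') (A := A) (B' := B') (B := B) (C' := C') (C := C)
    (M' := M') (M := M) f hf p P hP h1'
    (Groth.Agent.Lib.H9FCM2.flat_fiber_tensor_of_flat_quotient_tensor p _ hfib)

end CoreAbs

end Groth.Agent.Lib.H9FCM4
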