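import Mathlib
import Groth.Agent.Lib.Helper3FlatModelMod

set_option autoImplicit false
set_option linter.style.haveILetI false

universe u

namespace Groth.Agent.Lib.H9FCM5

open TensorProduct MvPolynomial Groth.Agent.Lib.Helper3.FlatLoc Groth.Agent.Lib.Helper3.FlatDesc
  Groth.Agent.Lib.Helper3.FlatOpen Groth.Agent.Lib.Helper3.FlatModelMod

attribute [local instance] MvPolynomial.algebraMvPolynomial

/-- Variant of `exists_model_equiv'` for an arbitrary finite type of variables. -/
theorem exists_model_equiv_sigma {R : Type u} [CommRing R] {σ : Type} [Finite σ] {r : ℕ}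
    {M : Type u} [AddCommGroup M] [Module (MvPolynomial σ R) M]
    [Module.FinitePresentation (MvPolynomial σ R) M]
    (rel : Fin r → MvPolynomial σ R) :
    ∃ (k m : ℕ) (Λ : Subalgebra ℤ R) (_ : Λ.FG) (w : Fin m → Fin k → MvPolynomial σ Λ)
      (relΛ : Fin r → MvPolynomial σ Λ),
      (∀ j, MvPolynomial.map (algebraMap Λ R) (relΛ j) = rel j) ∧
      Nonempty (((Fin k → MvPolynomial σ R) ⧸ KT w (MvPolynomial σ R)) ≃ₗ[
        MvPolynomial σ R] M) := by
  classical
  obtain ⟨k, m, π, g, hπ, hex⟩ :=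
    Module.FinitePresentation.exists_fin' (MvPolynomial σ R) M
  let v : Fin m → Fin k → MvPolynomial σ R := fun j => g (Pi.single j 1)
  let cs : Finset R := (Finset.univ.biUnion fun j => Finset.univ.biUnion fun i => (v j i).coeffs) ∪
    (Finset.univ.biUnion fun j => (rel j).coeffs)
  let Λ : Subalgebra ℤ R := Algebra.adjoin ℤ (cs : Set R)
  have hw : ∀ j i, ∃ f : MvPolynomial σ Λ,
      MvPolynomial.map (algebraMap Λ R) f = v j i := by
    intro j i
    apply MvPolynomial.mem_range_map_iff_coeffs_subset.mpr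
    intro c hc
    refine ⟨⟨c, Algebra.subset_adjoin ?_⟩, rfl⟩
    exact Finset.mem_coe.2 (Finset.mem_union_left _ (Finset.mem_biUnion.mpr ⟨j, Finset.mem_univ j,
      Finset.mem_biUnion.mpr ⟨i, Finset.mem_univ i, hc⟩⟩))
  have hrel : ∀ j, ∃ f : MvPolynomial σ Λ,
      MvPolynomial.map (algebraMap Λ R) f = rel j := by
    intro j
    apply MvPolynomial.mem_range_map_iff_coeffs_subset.mpr
    intro c hc
    refine ⟨⟨c, Algebra.subset_adjoin ?_⟩, rfl⟩
    exact Finset.mem_coe.2 (Finset.mem_union_right _ (Finset.mem_biUnion.mpr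
      ⟨j, Finset.mem_univ j, hc⟩))
  choose w hw using hw
  choose relΛ hrelΛ using hrel
  have hwT : wT w (MvPolynomial σ R) = v := by
    ext j i : 2
    exact hw j i
  have hg : WT w (MvPolynomial σ R) = g := by
    apply LinearMap.ext
    intro a
    rw [WT_apply, hwT, LinearMap.pi_apply_eq_sum_univ g a]
    refine Finset.sum_congr rfl fun j _ => ?_
    have hsingle : (Pi.single j 1 : Fin m → MvPolynomial σ R) =
        fun j' => if j = j' then 1 else 0 := by
      funext j'
      simp [Pi.single_apply, eq_comm]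
    change a j • g (Pi.single j 1) = _
    rw [hsingle]
  have hK : KT w (MvPolynomial σ R) = LinearMap.ker π := by
    rw [KT, hg]
    exact (LinearMap.exact_iff.mp hex).symm
  exact ⟨k, m, Λ, Subalgebra.fg_adjoin_finset cs, w, relΛ, hrelΛ,
    ⟨(Submodule.quotEquivOfEq _ _ hK) ≪≫ₗ (LinearMap.quotKerEquivOfSurjective π hπ)⟩⟩

end Groth.Agent.Lib.H9FCM5
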