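import Mathlib
import Groth.Agent.Lib.H9FCM4
import Groth.Agent.Lib.H9FCM5
import Groth.Agent.Lib.Helper3FibCritD

set_option autoImplicit false
set_option linter.style.haveILetI false

universe u

namespace Groth.Agent.Lib.H9FCM6

open TensorProduct MvPolynomial Groth.Agent.Lib.Helper3.FlatLoc Groth.Agent.Lib.Helper3.FlatDesc
  Groth.Agent.Lib.Helper3.FlatOpen Groth.Agent.Lib.Helper3.FibCritA
  Groth.Agent.Lib.Helper3.FibCritC Groth.Agent.Lib.Helper3.FlatModelMod
  Groth.Agent.Lib.Helper3.FibCritD

attribute [local instance] MvPolynomial.algebraMvPolynomial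
attribute [local instance] Algebra.TensorProduct.rightAlgebra

section FP

variable {A B C : Type u} [CommRing A] [CommRing B] [CommRing C] [Algebra A B] [Algebra B C]
  [Algebra A C] [IsScalarTower A B C]
  {M : Type u} [AddCommGroup M] [Module C M] [Module B M] [Module A M] [IsScalarTower B C M]
  [IsScalarTower A B M] [IsScalarTower A C M]

set_option maxHeartbeats 6400000 in
theorem flat_of_fibre_flat_of_presentations_aux
    {Λ A' : Type u} [CommRing Λ] [CommRing A'] [Algebra Λ A'] [Algebra A' A] [Algebra Λ A]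
    [IsScalarTower Λ A' A] [Algebra A' B] [IsScalarTower A' A B] [Algebra A' C]
    [IsScalarTower A' A C] [IsNoetherianRing A']
    (hinjA : Function.Injective (algebraMap A' A))
    {n m k r : ℕ}
    (PB : Algebra.Presentation A B (Fin n) (Fin k))
    (PC : Algebra.Presentation A C (Fin n ⊕ Fin m) (Fin r))
    (hval : ∀ i, PC.val (Sum.inl i) = algebraMap B C (PB.val i))
    [hcB : PB.HasCoeffs A'] [hcC : PC.HasCoeffs A']
    (a' : Fin k → Fin r → MvPolynomial (Fin n ⊕ Fin m) A')
    (hrel' : ∀ j, ∑ l, a' j l * PC.relationOfHasCoeffs A' l =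
      rename Sum.inl (PB.relationOfHasCoeffs A' j))
    {k' m' : ℕ} (w : Fin m' → Fin k' → MvPolynomial (Fin n ⊕ Fin m) Λ)
    (relΛ : Fin r → MvPolynomial (Fin n ⊕ Fin m) Λ)
    (hrelΛ : ∀ j, MvPolynomial.map (algebraMap Λ A) (relΛ j) = PC.relation j)
    (e₂ : ((Fin k' → MvPolynomial (Fin n ⊕ Fin m) A) ⧸
      KT (wAug w relΛ) (MvPolynomial (Fin n ⊕ Fin m) A)) ≃ₗ[A] M)
    (he₂ : ∀ (g : MvPolynomial (Fin n ⊕ Fin m) A) x,
      e₂ (g • x) = (MvPolynomial.aeval PC.val g : C) • e₂ x)
    (p : Ideal A) [p.IsPrime] (P : Ideal C) [P.IsPrime] (hP : P.under A = p)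
    (q : Ideal (MvPolynomial (Fin n ⊕ Fin m) A)) [q.IsPrime]
    (hq : ∀ y, y ∈ q ↔ MvPolynomial.aeval PC.val y ∈ P)
    (hA'flat : Module.Flat A' (LocalizedModule
      (q.comap (algebraMap (MvPolynomial (Fin n ⊕ Fin m) A')
        (MvPolynomial (Fin n ⊕ Fin m) A))).primeCompl
      ((Fin k' → MvPolynomial (Fin n ⊕ Fin m) A') ⧸
        KT (wAug w relΛ) (MvPolynomial (Fin n ⊕ Fin m) A'))))
    (hfibK : Module.Flat (p.Fiber B) (p.Fiber B ⊗[B] LocalizedModule P.primeCompl M)) :
    Module.Flat B (LocalizedModule P.primeCompl M) := by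
  classical
  have hinj : Function.Injective (MvPolynomial.map (σ := Fin n ⊕ Fin m) (algebraMap A' A)) :=
    MvPolynomial.map_injective _ hinjA
  -- Step 6: the models
  let B' := PB.ModelOfHasCoeffs A'
  let C' := PC.ModelOfHasCoeffs A'
  haveI : IsNoetherianRing B' := Algebra.FiniteType.isNoetherianRing A' B'
  haveI : IsNoetherianRing C' := Algebra.FiniteType.isNoetherianRing A' C'
  -- Step 7: `B' → C'`
  let β' : B' →ₐ[A'] C' := Ideal.Quotient.liftₐ _
    ((Ideal.Quotient.mkₐ A' _).comp (rename (R := A') Sum.inl)) (by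
      intro g hg
      rw [AlgHom.comp_apply, Ideal.Quotient.mkₐ_eq_mk, Ideal.Quotient.eq_zero_iff_mem]
      induction hg using Submodule.span_induction with
      | mem g hg =>
        obtain ⟨j, rfl⟩ := hg
        rw [← hrel' j]
        exact Ideal.sum_mem _ fun l _ => Ideal.mul_mem_left _ _ (Ideal.subset_span ⟨l, rfl⟩)
      | zero => rw [map_zero]; exact Ideal.zero_mem _
      | add x y _ _ hx hy => rw [map_add]; exact Ideal.add_mem _ hx hy
      | smul c x _ hx => rw [smul_eq_mul, map_mul]; exact Ideal.mul_mem_left _ _ hx)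
  letI algB'C' : Algebra B' C' := β'.toRingHom.toAlgebra
  haveI : IsScalarTower A' B' C' := IsScalarTower.of_algebraMap_eq' β'.comp_algebraMap.symm
  -- Step 8: `B' → B` and `C' → C`
  let γB : B' →ₐ[A'] B := Ideal.Quotient.liftₐ _ (aeval PB.val : MvPolynomial (Fin n) A' →ₐ[A'] B) (by
      intro g hg
      induction hg using Submodule.span_induction with
      | mem g hg =>
        obtain ⟨j, rfl⟩ := hg
        exact PB.aeval_val_relationOfHasCoeffs A' j
      | zero => rw [map_zero]
      | add x y _ _ hx hy => rw [map_add, hx, hy, add_zero]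
      | smul c x _ hx => rw [smul_eq_mul, map_mul, hx, mul_zero])
  let γC : C' →ₐ[A'] C := Ideal.Quotient.liftₐ _
    (aeval PC.val : MvPolynomial (Fin n ⊕ Fin m) A' →ₐ[A'] C) (by
      intro g hg
      induction hg using Submodule.span_induction with
      | mem g hg =>
        obtain ⟨j, rfl⟩ := hg
        exact PC.aeval_val_relationOfHasCoeffs A' j
      | zero => rw [map_zero]
      | add x y _ _ hx hy => rw [map_add, hx, hy, add_zero]
      | smul c x _ hx => rw [smul_eq_mul, map_mul, hx, mul_zero])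
  letI algB'B : Algebra B' B := γB.toRingHom.toAlgebra
  letI algC'C : Algebra C' C := γC.toRingHom.toAlgebra
  haveI : IsScalarTower A' B' B := IsScalarTower.of_algebraMap_eq' γB.comp_algebraMap.symm
  haveI : IsScalarTower A' C' C := IsScalarTower.of_algebraMap_eq' γC.comp_algebraMap.symm
  haveI poB : Algebra.IsPushout A' A B' B := isPushout_modelOfHasCoeffs PB A' (fun y => rfl)
  haveI poC : Algebra.IsPushout A' A C' C := isPushout_modelOfHasCoeffs PC A' (fun y => rfl)
  -- Step 9: compatibility
  letI algB'C : Algebra B' C := ((algebraMap B C).comp (algebraMap B' B)).toAlgebra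
  haveI : IsScalarTower B' B C := IsScalarTower.of_algebraMap_eq (fun _ => rfl)
  haveI : IsScalarTower A' B C := IsScalarTower.of_algebraMap_eq (fun x => by
    rw [IsScalarTower.algebraMap_apply A' A C, IsScalarTower.algebraMap_apply A' A B,
      ← IsScalarTower.algebraMap_apply A B C])
  haveI : IsScalarTower B' C' C := IsScalarTower.of_algebraMap_eq (fun x => by
    obtain ⟨y, rfl⟩ := Ideal.Quotient.mk_surjective x
    change algebraMap B C (aeval PB.val y) = aeval PC.val (rename Sum.inl y)
    rw [aeval_rename]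
    have h2 : (PC.val ∘ Sum.inl) = fun i => algebraMap B C (PB.val i) := funext hval
    rw [h2]
    have h3 := (MvPolynomial.aeval_algebraMap_apply (R := A') (A := B) C PB.val y)
    rw [← h3]
    rfl)
  -- Step 10: the module model
  let M' := (Fin k' → MvPolynomial (Fin n ⊕ Fin m) A') ⧸
    KT (wAug w relΛ) (MvPolynomial (Fin n ⊕ Fin m) A')
  have hrelA : ∀ j, algebraMap (MvPolynomial (Fin n ⊕ Fin m) Λ)
      (MvPolynomial (Fin n ⊕ Fin m) A') (relΛ j) = PC.relationOfHasCoeffs A' j := by
    intro j
    apply hinj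
    rw [MvPolynomial.algebraMap_def, MvPolynomial.map_map, PC.map_relationOfHasCoeffs A' j,
      ← IsScalarTower.algebraMap_eq]
    exact hrelΛ j
  have htors : ∀ (j : Fin r) (x : Fin k' → MvPolynomial (Fin n ⊕ Fin m) A'),
      PC.relationOfHasCoeffs A' j • x ∈ KT (wAug w relΛ) (MvPolynomial (Fin n ⊕ Fin m) A') := by
    intro j x
    rw [← hrelA j]
    exact smul_mem_KT_wAug w relΛ (MvPolynomial (Fin n ⊕ Fin m) A') j x
  have hM : Module.IsTorsionBySet (MvPolynomial (Fin n ⊕ Fin m) A') M'
      ((Ideal.span (Set.range (PC.relationOfHasCoeffs A')) :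
        Ideal (MvPolynomial (Fin n ⊕ Fin m) A')) : Set (MvPolynomial (Fin n ⊕ Fin m) A')) := by
    rw [← Module.isTorsionBySet_iff_is_torsion_by_span]
    rintro x ⟨_, ⟨j, rfl⟩⟩
    obtain ⟨x, rfl⟩ := Submodule.Quotient.mk_surjective _ x
    change PC.relationOfHasCoeffs A' j • Submodule.Quotient.mk x = 0
    rw [← Submodule.Quotient.mk_smul, Submodule.Quotient.mk_eq_zero]
    exact htors j x
  letI modC'M' : Module C' M' := hM.module
  have hmk_smul : ∀ (g : MvPolynomial (Fin n ⊕ Fin m) A') (x : M'),
      (Ideal.Quotient.mk _ g : C') • x = g • x := fun g x => rfl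
  haveI towPC'M' : IsScalarTower (MvPolynomial (Fin n ⊕ Fin m) A') C' M' := hM.isScalarTower
  haveI towA'C'M' : IsScalarTower A' C' M' := hM.isScalarTower
  letI modB'M' : Module B' M' := Module.compHom M' (algebraMap B' C')
  haveI towB'C'M' : IsScalarTower B' C' M' := ⟨fun b c x => by
    change (b • c) • x = algebraMap B' C' b • (c • x)
    rw [Algebra.smul_def, mul_smul]⟩
  haveI towA'B'M' : IsScalarTower A' B' M' := ⟨fun a b x => by
    change algebraMap B' C' (a • b) • x = a • (algebraMap B' C' b • x)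
    rw [show a • b = algebraMap A' B' a * b from Algebra.smul_def a b, map_mul, ← IsScalarTower.algebraMap_apply, mul_smul, algebraMap_smul]⟩
  haveI : Module.Finite (MvPolynomial (Fin n ⊕ Fin m) A') M' := inferInstance
  haveI finC'M' : Module.Finite C' M' :=
    Module.Finite.of_restrictScalars_finite (MvPolynomial (Fin n ⊕ Fin m) A') C' M'
  -- Step 11: module structures on `M`
  letI modC'M : Module C' M := Module.compHom M (algebraMap C' C)
  haveI towC'CM : IsScalarTower C' C M := ⟨fun c' c x => by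
    change (c' • c) • x = algebraMap C' C c' • (c • x)
    rw [Algebra.smul_def, mul_smul]⟩
  letI modB'M : Module B' M := Module.compHom M (algebraMap B' B)
  haveI towB'BM : IsScalarTower B' B M := ⟨fun b' b x => by
    change (b' • b) • x = algebraMap B' B b' • (b • x)
    rw [Algebra.smul_def, mul_smul]⟩
  haveI towB'C'M : IsScalarTower B' C' M := ⟨fun b' c' x => by
    change algebraMap C' C (b' • c') • x = algebraMap B' B b' • (algebraMap C' C c' • x)
    rw [show b' • c' = algebraMap B' C' b' * c' from Algebra.smul_def b' c', map_mul, mul_smul, ← IsScalarTower.algebraMap_apply B' C' C,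
      IsScalarTower.algebraMap_apply B' B C, algebraMap_smul]⟩
  letI modA'M : Module A' M := Module.compHom M (algebraMap A' A)
  haveI towA'AM : IsScalarTower A' A M := ⟨fun a' a x => by
    change (a' • a) • x = algebraMap A' A a' • (a • x)
    rw [Algebra.smul_def, mul_smul]⟩
  haveI towA'C'M : IsScalarTower A' C' M := ⟨fun a' c' x => by
    change algebraMap C' C (a' • c') • x = algebraMap A' A a' • (algebraMap C' C c' • x)
    rw [show a' • c' = algebraMap A' C' a' * c' from Algebra.smul_def a' c', map_mul, mul_smul, ← IsScalarTower.algebraMap_apply A' C' C,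
      IsScalarTower.algebraMap_apply A' A C, algebraMap_smul]⟩
  -- Step 12: the comparison map
  haveI := isScalarTower_mvPolynomial (σ := Fin n ⊕ Fin m) Λ A' A
  have hb : IsBaseChange A ((Mmap (wAug w relΛ) (MvPolynomial (Fin n ⊕ Fin m) A')
      (MvPolynomial (Fin n ⊕ Fin m) A)).restrictScalars A') :=
    isBaseChange_restrictScalars_of_isPushout _ (isBaseChange_Mmap (wAug w relΛ) _ _)
  have hf₀ : ∀ (g : MvPolynomial (Fin n ⊕ Fin m) A') (x : M'),
      e₂ (Mmap (wAug w relΛ) (MvPolynomial (Fin n ⊕ Fin m) A')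
        (MvPolynomial (Fin n ⊕ Fin m) A) (g • x)) =
      (MvPolynomial.aeval PC.val g : C) • e₂ (Mmap (wAug w relΛ)
        (MvPolynomial (Fin n ⊕ Fin m) A') (MvPolynomial (Fin n ⊕ Fin m) A) x) := by
    intro g x
    rw [map_smul, ← algebraMap_smul (MvPolynomial (Fin n ⊕ Fin m) A) g
      (Mmap (wAug w relΛ) (MvPolynomial (Fin n ⊕ Fin m) A') (MvPolynomial (Fin n ⊕ Fin m) A) x),
      he₂, MvPolynomial.algebraMap_def, MvPolynomial.aeval_map_algebraMap]
  let f : M' →ₗ[C'] M :=
    { toFun := fun x => e₂ (Mmap (wAug w relΛ) (MvPolynomial (Fin n ⊕ Fin m) A')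
        (MvPolynomial (Fin n ⊕ Fin m) A) x)
      map_add' := fun x y => by rw [map_add, map_add]
      map_smul' := by
        intro s₀ x
        obtain ⟨g, rfl⟩ := Ideal.Quotient.mk_surjective s₀
        rw [hmk_smul, hf₀]
        rfl }
  have hfb : IsBaseChange A (f.restrictScalars A') := by
    refine IsBaseChange.of_equiv (hb.equiv ≪≫ₗ e₂) fun x => ?_
    rw [LinearEquiv.trans_apply, IsBaseChange.equiv_tmul, one_smul]
    rfl
  have hf : IsBaseChange C f := isBaseChange_of_isPushout f hfb
  -- Step 13: flatness of the model over `A'`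
  have h1' : Module.Flat A' (LocalizedModule (P.comap (algebraMap C' C)).primeCompl M') := by
    have hq' : q.comap (algebraMap (MvPolynomial (Fin n ⊕ Fin m) A')
        (MvPolynomial (Fin n ⊕ Fin m) A)) =
        (P.comap (algebraMap C' C)).comap (algebraMap (MvPolynomial (Fin n ⊕ Fin m) A') C') := by
      ext y
      simp only [Ideal.mem_comap]
      rw [hq, MvPolynomial.algebraMap_def, MvPolynomial.aeval_map_algebraMap]
      rfl
    have h3 := flat_localizedModule_congr_prime _ _ hq' hA'flat
    have hs' : Function.Surjective (algebraMap (MvPolynomial (Fin n ⊕ Fin m) A') C') :=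
      Ideal.Quotient.mk_surjective
    exact (flat_localizedModule_comap_iff (R := A') (P := MvPolynomial (Fin n ⊕ Fin m) A')
      (S := C') (M := M') hs' (P.comap (algebraMap C' C))).mp h3
  exact Groth.Agent.Lib.H9FCM4.flat_of_fibreK_flat_of_model (A' := A') (A := A) (B' := B')
    (B := B) (C' := C') (C := C) (M' := M') (M := M) f hf p P hP h1' hfibK

set_option maxHeartbeats 6400000 in
theorem flat_of_fibreK_flat_of_presentations {n m k r : ℕ}
    (PB : Algebra.Presentation A B (Fin n) (Fin k))
    (PC : Algebra.Presentation A C (Fin n ⊕ Fin m) (Fin r))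
    (hval : ∀ i, PC.val (Sum.inl i) = algebraMap B C (PB.val i))
    [Module.FinitePresentation C M]
    (p : Ideal A) [p.IsPrime] (P : Ideal C) [P.IsPrime] (hP : P.under A = p)
    (hfibK : Module.Flat (p.Fiber B) (p.Fiber B ⊗[B] LocalizedModule P.primeCompl M))
    (h1 : Module.Flat A (LocalizedModule P.primeCompl M)) :
    Module.Flat B (LocalizedModule P.primeCompl M) := by
  classical
  -- Step 1: the relations of `B` are combinations of the relations of `C`
  have hrel : ∀ j : Fin k, ∃ a : Fin r → MvPolynomial (Fin n ⊕ Fin m) A,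
      ∑ l, a l * PC.relation l = rename Sum.inl (PB.relation j) := by
    intro j
    apply (Ideal.mem_span_range_iff_exists_fun (R := MvPolynomial (Fin n ⊕ Fin m) A)).mp
    rw [PC.span_range_relation_eq_ker, PC.ker_eq_ker_aeval_val, RingHom.mem_ker]
    rw [aeval_rename]
    have h2 : (PC.val ∘ Sum.inl) = fun i => algebraMap B C (PB.val i) := funext hval
    rw [h2]
    have h3 : aeval (fun i => algebraMap B C (PB.val i)) (PB.relation j) =
        algebraMap B C (aeval PB.val (PB.relation j)) := by
      rw [← MvPolynomial.aeval_algebraMap_apply]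
      rfl
    rw [h3, PB.aeval_val_relation, map_zero]
  choose a ha using hrel
  -- Step 2: `M` as a module over the polynomial ring
  let φ : MvPolynomial (Fin n ⊕ Fin m) A →ₐ[A] C := MvPolynomial.aeval PC.val
  have hφsurj : Function.Surjective φ := PC.aeval_val_surjective
  have hφker : RingHom.ker φ.toRingHom = Ideal.span (Set.range PC.relation) := by
    rw [PC.span_range_relation_eq_ker]
    ext x
    rw [RingHom.mem_ker]
    change _ ↔ algebraMap PC.Ring C x = 0
    rw [Algebra.Generators.algebraMap_apply]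
    rfl
  letI algPC : Algebra (MvPolynomial (Fin n ⊕ Fin m) A) C := inferInstanceAs (Algebra PC.Ring C)
  haveI : IsScalarTower A (MvPolynomial (Fin n ⊕ Fin m) A) C :=
    inferInstanceAs (IsScalarTower A PC.Ring C)
  have hsurj : Function.Surjective (algebraMap PC.Ring C) := PC.algebraMap_surjective
  have halg : ∀ x : MvPolynomial (Fin n ⊕ Fin m) A,
      algebraMap (MvPolynomial (Fin n ⊕ Fin m) A) C x = φ x := fun x => by
    change algebraMap PC.Ring C x = _
    rw [Algebra.Generators.algebraMap_apply]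
  letI modPM : Module (MvPolynomial (Fin n ⊕ Fin m) A) M :=
    Module.compHom M (algebraMap (MvPolynomial (Fin n ⊕ Fin m) A) C)
  haveI towPCM : IsScalarTower (MvPolynomial (Fin n ⊕ Fin m) A) C M :=
    ⟨fun x s y => by
      rw [Algebra.smul_def, mul_smul]
      rfl⟩
  haveI towAPM : IsScalarTower A (MvPolynomial (Fin n ⊕ Fin m) A) M :=
    ⟨fun c x y => by
      change algebraMap (MvPolynomial (Fin n ⊕ Fin m) A) C (c • x) • y =
        c • (algebraMap (MvPolynomial (Fin n ⊕ Fin m) A) C x • y)
      rw [halg, halg, map_smul, smul_assoc]⟩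
  haveI : Module.FinitePresentation (MvPolynomial (Fin n ⊕ Fin m) A) C := by
    refine Module.finitePresentation_of_surjective
      (Algebra.linearMap (MvPolynomial (Fin n ⊕ Fin m) A) C) hsurj ?_
    have : LinearMap.ker (Algebra.linearMap (MvPolynomial (Fin n ⊕ Fin m) A) C) =
        (RingHom.ker φ.toRingHom).restrictScalars _ := by
      ext x
      change algebraMap (MvPolynomial (Fin n ⊕ Fin m) A) C x = 0 ↔ φ x = 0
      rw [halg]
    rw [this, hφker]
    exact ⟨Finset.univ.image PC.relation, by simp⟩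
  haveI : Module.FinitePresentation (MvPolynomial (Fin n ⊕ Fin m) A) M :=
    Module.FinitePresentation.trans (MvPolynomial (Fin n ⊕ Fin m) A) M C
  obtain ⟨k', m', Λ, hΛ, w, relΛ, hrelΛ, ⟨e⟩⟩ :=
    Groth.Agent.Lib.H9FCM5.exists_model_equiv_sigma (M := M) PC.relation
  haveI : Algebra.FiniteType ℤ Λ := (Subalgebra.fg_iff_finiteType Λ).1 hΛ
  haveI : IsNoetherianRing Λ := Algebra.FiniteType.isNoetherianRing ℤ Λ
  -- the relations act by zero on the model over `A`
  have hφrel : ∀ j, φ (PC.relation j) = 0 := fun j => PC.aeval_val_relation j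
  have hzero : ∀ (j : Fin r) (x : Fin k' → MvPolynomial (Fin n ⊕ Fin m) A),
      algebraMap (MvPolynomial (Fin n ⊕ Fin m) Λ) (MvPolynomial (Fin n ⊕ Fin m) A) (relΛ j) • x ∈
        KT w (MvPolynomial (Fin n ⊕ Fin m) A) := by
    intro j x
    rw [← Submodule.Quotient.mk_eq_zero, Submodule.Quotient.mk_smul]
    apply e.injective
    rw [map_smul, map_zero, MvPolynomial.algebraMap_def, hrelΛ]
    change algebraMap (MvPolynomial (Fin n ⊕ Fin m) A) C (PC.relation j) •
      e (Submodule.Quotient.mk x) = (0 : M)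
    rw [halg, hφrel, zero_smul]
  have hKT : KT (wAug w relΛ) (MvPolynomial (Fin n ⊕ Fin m) A) =
      KT w (MvPolynomial (Fin n ⊕ Fin m) A) := KT_wAug_eq w relΛ _ hzero
  let e₂ : ((Fin k' → MvPolynomial (Fin n ⊕ Fin m) A) ⧸
      KT (wAug w relΛ) (MvPolynomial (Fin n ⊕ Fin m) A)) ≃ₗ[
      MvPolynomial (Fin n ⊕ Fin m) A] M := (Submodule.quotEquivOfEq _ _ hKT) ≪≫ₗ e
  -- Step 3: flatness of the model at the top level
  let q : Ideal (MvPolynomial (Fin n ⊕ Fin m) A) := P.comap (algebraMap PC.Ring C)
  haveI : q.IsPrime := Ideal.comap_isPrime _ _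
  have hflatq : Module.Flat A (LocalizedModule q.primeCompl
      ((Fin k' → MvPolynomial (Fin n ⊕ Fin m) A) ⧸
        KT (wAug w relΛ) (MvPolynomial (Fin n ⊕ Fin m) A))) := by
    have h2 : Module.Flat A (LocalizedModule q.primeCompl M) :=
      (flat_localizedModule_comap_iff (R := A) (P := MvPolynomial (Fin n ⊕ Fin m) A) (S := C)
        (M := M) hsurj P).mpr h1
    exact flat_localizedModule_of_linearEquiv e₂.symm _ h2
  let extra : Finset A := (Finset.univ.biUnion fun j => (PB.relation j).coeffs) ∪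
    (Finset.univ.biUnion fun j => Finset.univ.biUnion fun l => (a j l).coeffs)
  obtain ⟨A', hA'fg, hextra, hA'flat⟩ := exists_fg_subalgebra_flat (wAug w relΛ) q hflatq extra
  -- Step 5: instances on `A'`
  haveI : Algebra.FiniteType Λ A' := (Subalgebra.fg_iff_finiteType A').mp hA'fg
  haveI : IsNoetherianRing A' := Algebra.FiniteType.isNoetherianRing Λ A'
  haveI hcΛ : PC.HasCoeffs Λ := by
    refine ⟨?_⟩
    intro c hc
    rw [Algebra.Presentation.coeffs, Set.mem_iUnion] at hc
    obtain ⟨j, hj⟩ := hc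
    have hmem : PC.relation j ∈ Set.range (MvPolynomial.map (algebraMap Λ A)) :=
      ⟨relΛ j, hrelΛ j⟩
    rw [MvPolynomial.mem_range_map_iff_coeffs_subset] at hmem
    exact hmem hj
  haveI hcC : PC.HasCoeffs A' := Algebra.Presentation.HasCoeffs.of_isScalarTower Λ
  have hmemA' : ∀ c ∈ extra, c ∈ A' := fun c hc => hextra hc
  haveI hcB : PB.HasCoeffs A' := ⟨by
    intro c hc
    obtain ⟨j, hj⟩ := Set.mem_iUnion.mp hc
    refine ⟨⟨c, hmemA' c ?_⟩, rfl⟩
    exact Finset.mem_union_left _ (Finset.mem_biUnion.mpr ⟨j, Finset.mem_univ j, hj⟩)⟩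
  -- lifts of the coefficients `a j l`
  have hal : ∀ j l, ∃ f : MvPolynomial (Fin n ⊕ Fin m) A', MvPolynomial.map (algebraMap A' A) f = a j l := by
    intro j l
    apply MvPolynomial.mem_range_map_iff_coeffs_subset.mpr
    intro c hc
    refine ⟨⟨c, hmemA' c ?_⟩, rfl⟩
    exact Finset.mem_union_right _ (Finset.mem_biUnion.mpr ⟨j, Finset.mem_univ j,
      Finset.mem_biUnion.mpr ⟨l, Finset.mem_univ l, hc⟩⟩)
  choose a' ha' using hal
  have hinj : Function.Injective (MvPolynomial.map (σ := Fin n ⊕ Fin m) (algebraMap A' A)) :=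
    MvPolynomial.map_injective _ Subtype.val_injective
  have hrel' : ∀ j, ∑ l, a' j l * PC.relationOfHasCoeffs A' l =
      rename Sum.inl (PB.relationOfHasCoeffs A' j) := by
    intro j
    apply hinj
    rw [map_sum, MvPolynomial.map_rename, PB.map_relationOfHasCoeffs, ← ha j]
    refine Finset.sum_congr rfl fun l _ => ?_
    rw [map_mul, ha', PC.map_relationOfHasCoeffs]
  -- Step 6: apply the model-level statement
  have he₂ : ∀ (g : MvPolynomial (Fin n ⊕ Fin m) A) x,
      (e₂.restrictScalars A) (g • x) = (MvPolynomial.aeval PC.val g : C) • (e₂.restrictScalars A) x := by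
    intro g x
    change e₂ (g • x) = _ • e₂ x
    rw [map_smul]
    change algebraMap (MvPolynomial (Fin n ⊕ Fin m) A) C g • e₂ x = _
    rw [halg]
  have hq : ∀ y, y ∈ q ↔ MvPolynomial.aeval PC.val y ∈ P := by
    intro y
    change algebraMap PC.Ring C y ∈ P ↔ _
    rw [Algebra.Generators.algebraMap_apply]
  exact flat_of_fibre_flat_of_presentations_aux (Λ := Λ) (A' := A') Subtype.val_injective
    PB PC hval a' hrel' w relΛ hrelΛ (e₂.restrictScalars A) he₂ p P hP q hq hA'flat hfibK

end FP

end Groth.Agent.Lib.H9FCM6
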