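import Mathlib
import Groth.Agent.Lib.H9FCM6

set_option autoImplicit false
set_option linter.style.haveILetI false

universe u

namespace Groth.Agent.Lib.H9FCM7

open TensorProduct MvPolynomial Groth.Agent.Lib.Helper3.FlatLoc Groth.Agent.Lib.Helper3.FlatDesc
  Groth.Agent.Lib.Helper3.FlatOpen Groth.Agent.Lib.Helper3.FibCritA
  Groth.Agent.Lib.Helper3.FibCritC Groth.Agent.Lib.Helper3.FlatModelMod
  Groth.Agent.Lib.Helper3.FibCritD

attribute [local instance] Algebra.TensorProduct.rightAlgebra

section Transfer

variable {A B₀ B : Type u} [CommRing A] [CommRing B₀] [CommRing B] [Algebra A B₀] [Algebra A B]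
  [Algebra B₀ B] [IsScalarTower A B₀ B] (p : Ideal A) [p.IsPrime]

set_option maxHeartbeats 1600000 in
/-- Transfer of fibre flatness along a map `B₀ → B` inducing an isomorphism on the fibres over
`p`. -/
theorem flat_fiber_tensor_of_fiberMap_bijective
    (hbij : Function.Bijective (fiberMap (B := B₀) (C := B) p))
    {X : Type u} [AddCommGroup X] [Module B X] [Module B₀ X] [IsScalarTower B₀ B X]
    (h : Module.Flat (p.Fiber B) (p.Fiber B ⊗[B] X)) :
    Module.Flat (p.Fiber B₀) (p.Fiber B₀ ⊗[B₀] X) := by
  letI algFG : Algebra (p.Fiber B₀) (p.Fiber B) :=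
    (fiberMap (B := B₀) (C := B) p).toRingHom.toAlgebra
  letI algBG : Algebra B₀ (p.Fiber B) :=
    ((algebraMap B (p.Fiber B)).comp (algebraMap B₀ B)).toAlgebra
  haveI tBCG : IsScalarTower B₀ B (p.Fiber B) :=
    IsScalarTower.of_algebraMap_eq (R := B₀) (S := B) (A := p.Fiber B) (fun _ => rfl)
  haveI tBFG : IsScalarTower B₀ (p.Fiber B₀) (p.Fiber B) :=
    IsScalarTower.of_algebraMap_eq (R := B₀) (S := p.Fiber B₀) (A := p.Fiber B) (fun b => by
      change (1 : p.ResidueField) ⊗ₜ[A] (algebraMap B₀ B b) =
        fiberMap p ((1 : p.ResidueField) ⊗ₜ[A] b)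
      rw [fiberMap_one_tmul])
  haveI tκFG : IsScalarTower p.ResidueField (p.Fiber B₀) (p.Fiber B) :=
    IsScalarTower.of_algebraMap_eq (R := p.ResidueField) (S := p.Fiber B₀) (A := p.Fiber B)
      (fun x => ((fiberMap (B := B₀) (C := B) p).commutes x).symm)
  haveI tAFG : IsScalarTower A (p.Fiber B₀) (p.Fiber B) :=
    IsScalarTower.of_algebraMap_eq (R := A) (S := p.Fiber B₀) (A := p.Fiber B) (fun a => by
      rw [IsScalarTower.algebraMap_apply A p.ResidueField (p.Fiber B),
        IsScalarTower.algebraMap_apply A p.ResidueField (p.Fiber B₀),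
        ← IsScalarTower.algebraMap_apply p.ResidueField (p.Fiber B₀) (p.Fiber B)])
  haveI tABG : IsScalarTower A B₀ (p.Fiber B) :=
    IsScalarTower.of_algebraMap_eq (R := A) (S := B₀) (A := p.Fiber B) (fun a => by
      rw [IsScalarTower.algebraMap_apply A B (p.Fiber B), IsScalarTower.algebraMap_apply A B₀ B,
        ← IsScalarTower.algebraMap_apply B₀ B (p.Fiber B)])
  haveI po : Algebra.IsPushout B₀ (p.Fiber B₀) B (p.Fiber B) := by
    have h : Algebra.IsPushout A p.ResidueField B (p.Fiber B) := inferInstance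
    haveI : Algebra.IsPushout A B₀ p.ResidueField (p.Fiber B₀) := inferInstance
    have h2 : Algebra.IsPushout B₀ B (p.Fiber B₀) (p.Fiber B) :=
      (Algebra.IsPushout.comp_iff (R := A) (S := B₀) (R' := p.ResidueField) (S' := p.Fiber B₀)
        (T := B) (T' := p.Fiber B)).mp h.symm
    exact h2.symm
  haveI flatFG : Module.Flat (p.Fiber B₀) (p.Fiber B) :=
    Module.Flat.of_linearEquiv
      (LinearEquiv.ofBijective (Algebra.linearMap (p.Fiber B₀) (p.Fiber B)) hbij).symm
  haveI := h
  haveI : Module.Flat (p.Fiber B₀) (p.Fiber B ⊗[B] X) :=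
    Module.Flat.trans (p.Fiber B₀) (p.Fiber B) (p.Fiber B ⊗[B] X)
  exact Module.Flat.of_linearEquiv
    (Algebra.IsPushout.cancelBaseChange B₀ (p.Fiber B₀) B (p.Fiber B) X).symm

end Transfer

section Cover

variable {A B₀ B C : Type u} [CommRing A] [CommRing B₀] [CommRing B] [CommRing C]
  [Algebra A B₀] [Algebra A B] [Algebra B₀ B] [IsScalarTower A B₀ B] [Algebra B C]
  [Algebra A C] [IsScalarTower A B C]
  {M : Type u} [AddCommGroup M] [Module C M] [Module B M] [Module A M] [IsScalarTower B C M]
  [IsScalarTower A B M] [IsScalarTower A C M]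

set_option maxHeartbeats 1600000 in
theorem flat_of_fibreK_flat_of_cover {n m k r : ℕ}
    (PB : Algebra.Presentation A B₀ (Fin n) (Fin k))
    (PC : Algebra.Presentation A C (Fin n ⊕ Fin m) (Fin r))
    (hval : ∀ i, PC.val (Sum.inl i) = algebraMap B C (algebraMap B₀ B (PB.val i)))
    (hsurj : Function.Surjective (algebraMap B₀ B))
    [Module.FinitePresentation C M]
    (p : Ideal A) [p.IsPrime] (P : Ideal C) [P.IsPrime] (hP : P.under A = p)
    (hbij : Function.Bijective (fiberMap (B := B₀) (C := B) p))
    (hfibK : Module.Flat (p.Fiber B) (p.Fiber B ⊗[B] LocalizedModule P.primeCompl M))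
    (h1 : Module.Flat A (LocalizedModule P.primeCompl M)) :
    Module.Flat B (LocalizedModule P.primeCompl M) := by
  letI algB₀C : Algebra B₀ C := ((algebraMap B C).comp (algebraMap B₀ B)).toAlgebra
  haveI : IsScalarTower B₀ B C := IsScalarTower.of_algebraMap_eq' rfl
  haveI : IsScalarTower A B₀ C := IsScalarTower.of_algebraMap_eq (fun a => by
    change algebraMap A C a = algebraMap B C (algebraMap B₀ B (algebraMap A B₀ a))
    rw [← IsScalarTower.algebraMap_apply A B₀ B, ← IsScalarTower.algebraMap_apply A B C])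
  letI modB₀M : Module B₀ M := Module.compHom M (algebraMap B₀ B)
  haveI towB₀BM : IsScalarTower B₀ B M :=
    ⟨fun b₀ b x => by
      change (b₀ • b) • x = algebraMap B₀ B b₀ • (b • x)
      rw [Algebra.smul_def, mul_smul]⟩
  haveI towB₀CM : IsScalarTower B₀ C M :=
    ⟨fun b₀ c x => by
      change (b₀ • c) • x = algebraMap B₀ B b₀ • (c • x)
      rw [Algebra.smul_def, mul_smul, IsScalarTower.algebraMap_apply B₀ B C, algebraMap_smul]⟩
  haveI towAB₀M : IsScalarTower A B₀ M :=
    ⟨fun a b₀ x => by
      change algebraMap B₀ B (a • b₀) • x = a • (algebraMap B₀ B b₀ • x)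
      rw [Algebra.smul_def, map_mul, mul_smul, ← IsScalarTower.algebraMap_apply, algebraMap_smul]⟩
  haveI towB₀BX : IsScalarTower B₀ B (LocalizedModule P.primeCompl M) := by
    constructor
    intro x y z
    induction z using LocalizedModule.induction_on with
    | h c s =>
      rw [LocalizedModule.smul'_mk, LocalizedModule.smul'_mk, LocalizedModule.smul'_mk,
        smul_assoc]
  have hfibK₀ : Module.Flat (p.Fiber B₀) (p.Fiber B₀ ⊗[B₀] LocalizedModule P.primeCompl M) :=
    flat_fiber_tensor_of_fiberMap_bijective p hbij hfibK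
  have h2 := Groth.Agent.Lib.H9FCM6.flat_of_fibreK_flat_of_presentations
    (B := B₀) PB PC hval p P hP hfibK₀ h1
  exact flat_of_flat_of_surjective (R := B₀) (S := B) hsurj

end Cover

section Main

variable {A B C : Type u} [CommRing A] [CommRing B] [CommRing C] [Algebra A B] [Algebra B C]
  [Algebra A C] [IsScalarTower A B C]
  {M : Type u} [AddCommGroup M] [Module C M] [Module B M] [Module A M] [IsScalarTower B C M]
  [IsScalarTower A B M] [IsScalarTower A C M]

set_option maxHeartbeats 3200000 in
/-- **Critère de platitude par fibres for modules** (finite presentation version, fibre in tensor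
form): `A → B → C` with `B` of finite type and `C` of finite presentation over `A`, `M` a finitely
presented `C`-module, `P` a prime of `C` over `p`. If `M_P` is `A`-flat and
`κ(p) ⊗ M_P` is flat over `κ(p) ⊗ B`, then `M_P` is `B`-flat. -/
theorem flat_of_fibreK_flat [Algebra.FiniteType A B] [Algebra.FinitePresentation A C]
    [Module.FinitePresentation C M]
    (p : Ideal A) [p.IsPrime] (P : Ideal C) [P.IsPrime] (hP : P.under A = p)
    (hfibK : Module.Flat (p.Fiber B) (p.Fiber B ⊗[B] LocalizedModule P.primeCompl M))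
    (h1 : Module.Flat A (LocalizedModule P.primeCompl M)) :
    Module.Flat B (LocalizedModule P.primeCompl M) := by
  classical
  obtain ⟨n, f, hf⟩ := Algebra.FiniteType.iff_quotient_mvPolynomial''.mp
    (inferInstance : Algebra.FiniteType A B)
  obtain ⟨m, fC, hfC⟩ := Algebra.FiniteType.iff_quotient_mvPolynomial''.mp
    (inferInstance : Algebra.FiniteType A C)
  let vC : Fin n ⊕ Fin m → C :=
    Sum.elim (fun i => algebraMap B C (f (X i))) (fun j => fC (X j))
  have hvC : Function.Surjective (aeval (R := A) vC) := by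
    intro c
    obtain ⟨y, rfl⟩ := hfC c
    refine ⟨rename Sum.inr y, ?_⟩
    rw [aeval_rename]
    have : (vC ∘ Sum.inr) = fun j => fC (X j) := rfl
    rw [this]
    exact (DFunLike.congr_fun (MvPolynomial.aeval_unique fC) y).symm
  let GC : Algebra.Generators A C (Fin n ⊕ Fin m) := Algebra.Generators.ofSurjective vC hvC
  have hker : GC.ker.FG := GC.fg_ker_of_finitePresentation
  obtain ⟨r, rel, hrel⟩ := exists_fin_span_eq GC.ker hker
  let PC : Algebra.Presentation A C (Fin n ⊕ Fin m) (Fin r) :=
    { toGenerators := GC, relation := rel, span_range_relation_eq_ker := hrel }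
  obtain ⟨k, g, hg, hbij⟩ := exists_fin_ker_bijective p.ResidueField f hf
  let τ : (MvPolynomial (Fin n) A ⧸ Ideal.span (Set.range g)) →ₐ[A] B :=
    Ideal.Quotient.liftₐ _ f (by
      intro a ha
      have : Ideal.span (Set.range g) ≤ RingHom.ker f.toRingHom := by
        rw [Ideal.span_le]
        rintro _ ⟨j, rfl⟩
        exact hg j
      exact this ha)
  have hτ : ∀ y, τ (Ideal.Quotient.mk _ y) = f y := fun y => rfl
  let PB : Algebra.Presentation A (MvPolynomial (Fin n) A ⧸ Ideal.span (Set.range g))
      (Fin n) (Fin k) := Algebra.Presentation.naive (v := g)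
  letI algBGB : Algebra (MvPolynomial (Fin n) A ⧸ Ideal.span (Set.range g)) B :=
    τ.toRingHom.toAlgebra
  haveI : IsScalarTower A (MvPolynomial (Fin n) A ⧸ Ideal.span (Set.range g)) B :=
    IsScalarTower.of_algebraMap_eq' τ.comp_algebraMap.symm
  have hval : ∀ i, PC.val (Sum.inl i) = algebraMap B C
      (algebraMap (MvPolynomial (Fin n) A ⧸ Ideal.span (Set.range g)) B (PB.val i)) := by
    intro i
    rfl
  have hbij' := hbij τ hτ
  have hsurj : Function.Surjective
      (algebraMap (MvPolynomial (Fin n) A ⧸ Ideal.span (Set.range g)) B) := by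
    intro b
    obtain ⟨y, rfl⟩ := hf b
    exact ⟨Ideal.Quotient.mk _ y, hτ y⟩
  exact flat_of_fibreK_flat_of_cover
    (B₀ := MvPolynomial (Fin n) A ⧸ Ideal.span (Set.range g)) PB PC hval hsurj p P hP hbij'
    hfibK h1

/-- **Critère de platitude par fibres for modules**, fibre in quotient form. -/
theorem flat_of_fibre_flat [Algebra.FiniteType A B] [Algebra.FinitePresentation A C]
    [Module.FinitePresentation C M]
    (p : Ideal A) [p.IsPrime] (P : Ideal C) [P.IsPrime] (hP : P.under A = p)
    (hfib : Module.Flat (B ⧸ p.map (algebraMap A B))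
      ((B ⧸ p.map (algebraMap A B)) ⊗[B] LocalizedModule P.primeCompl M))
    (h1 : Module.Flat A (LocalizedModule P.primeCompl M)) :
    Module.Flat B (LocalizedModule P.primeCompl M) :=
  flat_of_fibreK_flat p P hP
    (Groth.Agent.Lib.H9FCM2.flat_fiber_tensor_of_flat_quotient_tensor p _ hfib) h1

end Main

end Groth.Agent.Lib.H9FCM7
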