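import Mathlib
import Groth.Agent.Lib.H9FCM7

set_option autoImplicit false
set_option linter.style.haveILetI false

universe u

namespace Groth.Agent.Lib.H9FCM10

open TensorProduct

attribute [local instance] Algebra.TensorProduct.rightAlgebra

section BC

variable {A' A B' B C' C : Type u} [CommRing A'] [CommRing A]
  [CommRing B'] [CommRing B] [CommRing C'] [CommRing C]
  [Algebra A' A]
  [Algebra A' B'] [Algebra A B] [Algebra B' B] [Algebra A' B] [IsScalarTower A' B' B]
  [IsScalarTower A' A B]
  [Algebra A' C'] [Algebra A C] [Algebra C' C] [Algebra A' C] [IsScalarTower A' C' C]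
  [IsScalarTower A' A C]
  [Algebra B' C'] [IsScalarTower A' B' C'] [Algebra B C] [IsScalarTower A B C]
  [Algebra B' C] [IsScalarTower B' B C] [IsScalarTower B' C' C]
  [Algebra.IsPushout A' A B' B] [Algebra.IsPushout A' A C' C]
  {M' M : Type u} [AddCommGroup M'] [Module C' M'] [Module B' M'] [Module A' M']
  [IsScalarTower B' C' M'] [IsScalarTower A' B' M'] [IsScalarTower A' C' M']
  [AddCommGroup M] [Module C M] [Module B M] [Module A M] [IsScalarTower B C M]
  [IsScalarTower A B M] [IsScalarTower A C M]
  [Module C' M] [IsScalarTower C' C M] [Module B' M] [IsScalarTower B' B M]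
  [IsScalarTower B' C' M]

set_option maxHeartbeats 1600000 in
/-- **Relative flatness descends from an arbitrary base change** (EGA IV 11.3.10 + base change):
`A' → B' → C'` with `B'` of finite type and `C'` of finite presentation over `A'`, `M'` a finitely
presented `C'`-module, and `A, B, C, M` their base changes along `A' → A`. If `M'` is `A'`-flat at
`P' = P ∩ C'` and `M` is `B`-flat at `P`, then `M'` is `B'`-flat at `P'`. -/
theorem flat_of_flat_baseChange [Algebra.FiniteType A' B'] [Algebra.FinitePresentation A' C']
    [Module.FinitePresentation C' M']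
    (f : M' →ₗ[C'] M) (hf : IsBaseChange C f) (p : Ideal A) [p.IsPrime] (P : Ideal C)
    [P.IsPrime] (hP : P.under A = p)
    (h1' : Module.Flat A' (LocalizedModule (P.comap (algebraMap C' C)).primeCompl M'))
    (h2 : Module.Flat B (LocalizedModule P.primeCompl M)) :
    Module.Flat B' (LocalizedModule (P.comap (algebraMap C' C)).primeCompl M') := by
  haveI := h2
  have hT1 : Module.Flat (p.Fiber B) (p.Fiber B ⊗[B] LocalizedModule P.primeCompl M) :=
    inferInstance
  have hB := Groth.Agent.Lib.H9FCM4.flat_quotient_tensor_of_fibreK_flat_of_baseChange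
    (A' := A') (A := A) (B' := B') (B := B) (C' := C') (C := C) (M' := M') (M := M) f hf p P hP hT1
  have hP' : (P.comap (algebraMap C' C)).under A' = p.comap (algebraMap A' A) := by
    ext x
    rw [← hP]
    simp only [Ideal.under, Ideal.mem_comap]
    rw [← IsScalarTower.algebraMap_apply, ← IsScalarTower.algebraMap_apply]
  exact Groth.Agent.Lib.H9FCM7.flat_of_fibre_flat (A := A') (B := B') (C := C') (M := M')
    (p.comap (algebraMap A' A)) (P.comap (algebraMap C' C)) hP' hB h1'

end BC

end Groth.Agent.Lib.H9FCM10
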