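import Mathlib
import Groth.Agent.Lib.H9FCM7
import Groth.Agent.Lib.Helper5LocalFlat
import Groth.Agent.Lib.Helper2FibreCrit

set_option autoImplicit false
set_option linter.style.haveILetI false

universe u

namespace Groth.Agent.Lib.H9FCM8

open TensorProduct

section Q

variable {B By X : Type u} [CommRing B] [CommRing By] [Algebra B By] [Module.Flat B By]
  [AddCommGroup X] [Module By X] [Module B X] [IsScalarTower B By X]

/-- Fibre flatness over a flat `B`-algebra `By` (e.g. a localization) implies fibre flatness over
`B`. -/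
theorem flat_quotient_tensor_of_flat_quotient (I : Ideal B) (J : Ideal By)
    (hJ : J = I.map (algebraMap B By))
    (h : Module.Flat (By ⧸ J) (X ⧸ J • (⊤ : Submodule By X))) :
    Module.Flat (B ⧸ I) ((B ⧸ I) ⊗[B] X) := by
  subst hJ
  haveI po : Algebra.IsPushout B (B ⧸ I) By (By ⧸ I.map (algebraMap B By)) :=
    Groth.Agent.Lib.H9FCM3b.isPushout_quotient B By I
  haveI : Module.Flat (B ⧸ I) (By ⧸ I.map (algebraMap B By)) :=
    Module.Flat.isBaseChange (R := B) (S := B ⧸ I) (M := By) (By ⧸ I.map (algebraMap B By))
      po.out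
  haveI := h
  haveI h2 : Module.Flat (By ⧸ I.map (algebraMap B By))
      ((By ⧸ I.map (algebraMap B By)) ⊗[By] X) :=
    Module.Flat.of_linearEquiv (Groth.Agent.Lib.Helper2.FibreCrit.quotTensorEquiv _ X)
  haveI h3 : Module.Flat (B ⧸ I) ((By ⧸ I.map (algebraMap B By)) ⊗[By] X) :=
    Module.Flat.trans (B ⧸ I) (By ⧸ I.map (algebraMap B By)) _
  exact Module.Flat.of_linearEquiv
    (Algebra.IsPushout.cancelBaseChange B (B ⧸ I) By (By ⧸ I.map (algebraMap B By)) X).symm

end Q

section L

variable {R S S' M : Type u} [CommRing R] [CommRing S] [CommRing S'] [IsLocalRing S]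
  [IsLocalRing S'] [Algebra R S] [Algebra S S'] [IsLocalHom (algebraMap S S')]
  [AddCommGroup M] [Module S' M] [Module S M] [Module R M] [IsScalarTower S S' M]
  [IsScalarTower R S M]

/-- A nonzero finite module over a local `S`-algebra which is flat over `S` is faithfully flat. -/
theorem faithfullyFlat_of_flat_of_finite_of_isLocalHom [Module.Finite S' M] [Nontrivial M]
    [Module.Flat S M] : Module.FaithfullyFlat S M := by
  have hSS' : (IsLocalRing.maximalIdeal S).map (algebraMap S S') ≤ IsLocalRing.maximalIdeal S' :=
    IsLocalRing.map_maximalIdeal_le (algebraMap S S')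
  refine ⟨fun m hm htop => ?_⟩
  have hm' : m = IsLocalRing.maximalIdeal S := IsLocalRing.eq_maximalIdeal hm
  subst hm'
  have h1 : (⊤ : Submodule S' M) ≤ (IsLocalRing.maximalIdeal S') • (⊤ : Submodule S' M) := by
    rintro x -
    have hx : x ∈ (IsLocalRing.maximalIdeal S) • (⊤ : Submodule S M) := by rw [htop]; trivial
    refine Submodule.smul_induction_on hx ?_ ?_
    · intro a ha y _
      rw [← algebraMap_smul S' a y]
      exact Submodule.smul_mem_smul (hSS' (Ideal.mem_map_of_mem _ ha)) trivial
    · intro y₁ y₂ h₁ h₂
      exact Submodule.add_mem _ h₁ h₂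
  have h2 := Submodule.eq_bot_of_le_smul_of_le_jacobson_bot (IsLocalRing.maximalIdeal S')
    (⊤ : Submodule S' M) Module.Finite.fg_top h1
    (by rw [IsLocalRing.jacobson_eq_maximalIdeal ⊥ bot_ne_top])
  have h3 : Subsingleton M := by
    rw [← Submodule.subsingleton_iff S', ← subsingleton_iff_bot_eq_top]
    exact h2.symm
  exact not_subsingleton M h3

/-- If a nonzero finite module over a local `S`-algebra is flat over `S` and over `R`, then `S` is
flat over `R`. -/
theorem flat_of_flat_of_finite_of_isLocalHom [Module.Finite S' M] [Nontrivial M]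
    [Module.Flat R M] [Module.Flat S M] : Module.Flat R S := by
  haveI := faithfullyFlat_of_flat_of_finite_of_isLocalHom (S := S) (S' := S') (M := M)
  exact Groth.Agent.Lib.Helper5.flat_of_faithfullyFlat_of_flat M

end L

section CoreLoc

variable {A B C : Type u} [CommRing A] [CommRing B] [CommRing C] [Algebra A B] [Algebra B C]
  [Algebra A C] [IsScalarTower A B C]
  {M X : Type u} [AddCommGroup M] [Module C M]
  [AddCommGroup X] [Module C X] [Module B X] [Module A X] [IsScalarTower B C X]
  [IsScalarTower A B X] [IsScalarTower A C X]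

set_option maxHeartbeats 1600000 in
/-- **Critère de platitude par fibres for modules**, for any localization `X` of `M` at `P`. -/
theorem flat_of_fibre_flat_of_isLocalizedModule [Algebra.FiniteType A B]
    [Algebra.FinitePresentation A C] [Module.FinitePresentation C M]
    (p : Ideal A) [p.IsPrime] (P : Ideal C) [P.IsPrime] (hP : P.under A = p)
    (φ : M →ₗ[C] X) [IsLocalizedModule P.primeCompl φ]
    (hfib : Module.Flat (B ⧸ p.map (algebraMap A B)) ((B ⧸ p.map (algebraMap A B)) ⊗[B] X))
    (h1 : Module.Flat A X) : Module.Flat B X := by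
  letI modBM : Module B M := Module.compHom M (algebraMap B C)
  letI modAM : Module A M := Module.compHom M (algebraMap A C)
  haveI tBCM : IsScalarTower B C M := ⟨fun b c x => by
    change (b • c) • x = algebraMap B C b • (c • x)
    rw [Algebra.smul_def, mul_smul]⟩
  haveI tACM : IsScalarTower A C M := ⟨fun a c x => by
    change (a • c) • x = algebraMap A C a • (c • x)
    rw [Algebra.smul_def, mul_smul]⟩
  haveI tABM : IsScalarTower A B M := ⟨fun a b x => by
    change algebraMap B C (a • b) • x = algebraMap A C a • (algebraMap B C b • x)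
    rw [Algebra.smul_def, map_mul, mul_smul, ← IsScalarTower.algebraMap_apply]⟩
  let e : LocalizedModule P.primeCompl M ≃ₗ[C] X := IsLocalizedModule.iso P.primeCompl φ
  haveI : Module.Flat A (LocalizedModule P.primeCompl M) := by
    haveI := h1
    exact Module.Flat.of_linearEquiv (e.restrictScalars A)
  haveI hfib' : Module.Flat (B ⧸ p.map (algebraMap A B))
      ((B ⧸ p.map (algebraMap A B)) ⊗[B] LocalizedModule P.primeCompl M) := by
    haveI := hfib
    exact Module.Flat.of_linearEquiv
      (TensorProduct.AlgebraTensorModule.congr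
        (LinearEquiv.refl (B ⧸ p.map (algebraMap A B)) (B ⧸ p.map (algebraMap A B)))
        (e.restrictScalars B))
  haveI := Groth.Agent.Lib.H9FCM7.flat_of_fibre_flat (A := A) (B := B) (C := C) (M := M)
    p P hP hfib' inferInstance
  exact Module.Flat.of_linearEquiv (e.restrictScalars B).symm

end CoreLoc

end Groth.Agent.Lib.H9FCM8
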