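import Mathlib
import Groth.Agent.Lib.H9FCM8
import Groth.Agent.Lib.Helper2FlatOver
import Groth.Agent.Lib.Helper2FPAff
import Groth.Agent.Lib.Helper3EtGUSchB
import Groth.Agent.Lib.Helper2FibreCrit2

set_option autoImplicit false
set_option linter.unusedVariables false
set_option linter.unusedSectionVars false
set_option linter.style.haveILetI false

open CategoryTheory CategoryTheory.Limits AlgebraicGeometry TensorProduct

universe u

namespace Groth.Agent.Lib.H9FCM9

open Groth.Agent.Lib.Helper2.FlatOver Groth.Agent.Lib.Helper3.EtGUSch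

set_option maxHeartbeats 3200000 in
/-- **Critère de platitude par fibres for modules, pointwise scheme form.** -/
theorem isFlatOverAt_of_fibre {X Y S : Scheme.{u}} (f : X ⟶ Y) (g : Y ⟶ S)
    [LocallyOfFinitePresentation (f ≫ g)] [LocallyOfFiniteType g]
    (F : X.Modules) [F.IsQuasicoherent]
    [SheafOfModules.IsFinitePresentation (R := X.ringCatSheaf) F] (x : X)
    (h1 : FlatMod.IsFlatOverAt (f ≫ g) F x)
    (hfib : letI := FlatMod.moduleStalkOver f F x
      Module.Flat (↑(Y.presheaf.stalk (f x)) ⧸ Ideal.map (g.stalkMap (f x)).hom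
          (IsLocalRing.maximalIdeal ↑(S.presheaf.stalk (g (f x)))))
        (↑(F.presheaf.stalk x) ⧸ (Ideal.map (g.stalkMap (f x)).hom
          (IsLocalRing.maximalIdeal ↑(S.presheaf.stalk (g (f x)))) •
          (⊤ : Submodule ↑(Y.presheaf.stalk (f x)) ↑(F.presheaf.stalk x))))) :
    FlatMod.IsFlatOverAt f F x := by
  -- charts
  obtain ⟨S₀, hS₀, W, hW, hWS, hfxW, -⟩ := exists_affine_nhds g (f x) ⊤ trivial
  obtain ⟨V, hV, hxV, hVW⟩ := TopologicalSpace.Opens.isBasis_iff_nbhd.mp X.isBasis_affineOpens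
    (show x ∈ f ⁻¹ᵁ W from hfxW)
  have hVS : V ≤ (f ≫ g) ⁻¹ᵁ S₀ := fun z hz => hWS (hVW hz)
  let A := Γ(S, S₀)
  let B := Γ(Y, W)
  let C := Γ(X, V)
  letI algAB : Algebra A B := (g.appLE S₀ W hWS).hom.toAlgebra
  letI algBC : Algebra B C := (f.appLE W V hVW).hom.toAlgebra
  letI algAC : Algebra A C := ((f ≫ g).appLE S₀ V hVS).hom.toAlgebra
  haveI : IsScalarTower A B C := by
    refine IsScalarTower.of_algebraMap_eq' ?_
    show ((f ≫ g).appLE S₀ V hVS).hom = (f.appLE W V hVW).hom.comp (g.appLE S₀ W hWS).hom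
    rw [← CommRingCat.hom_comp, Scheme.Hom.appLE_comp_appLE]
  have hsS₀ : (f ≫ g) x ∈ S₀ := hVS hxV
  let p : Spec Γ(S, S₀) := hS₀.primeIdealOf ⟨(f ≫ g) x, hsS₀⟩
  let q : Spec Γ(X, V) := hV.primeIdealOf ⟨x, hxV⟩
  have hP : q.asIdeal.under A = p.asIdeal :=
    congr($(IsAffineOpen.comap_primeIdealOf_appLE S₀ hS₀ V hV hVS hxV).1)
  -- finiteness
  haveI : Algebra.FinitePresentation A C :=
    (f ≫ g).finitePresentation_appLE hS₀ hV hVS
  haveI : Algebra.FiniteType A B := g.finiteType_appLE hS₀ hW hWS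
  haveI : Module.FinitePresentation C Γ(F, V) :=
    Groth.Agent.Lib.Helper2.FPAff.finitePresentation_sections F hV
  -- module structures on the stalk
  letI mC : Module C (F.presheaf.stalk x) := moduleStalkSections F V x hxV
  letI mB : Module B (F.presheaf.stalk x) := moduleStalkBase f F W x hfxW
  letI mA : Module A (F.presheaf.stalk x) := moduleStalkBase (f ≫ g) F S₀ x hsS₀
  haveI tBCX : IsScalarTower B C (F.presheaf.stalk x) := by
    refine ⟨fun b c y => ?_⟩
    change X.presheaf.germ V x hxV ((f.appLE W V hVW).hom b * c) • y =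
      (f.stalkMap x).hom (Y.presheaf.germ W (f x) hfxW b) • (X.presheaf.germ V x hxV c • y)
    rw [map_mul, mul_smul, stalkMap_germ_eq f hVW x hxV b]
  haveI tACX : IsScalarTower A C (F.presheaf.stalk x) := by
    refine ⟨fun a c y => ?_⟩
    change X.presheaf.germ V x hxV (((f ≫ g).appLE S₀ V hVS).hom a * c) • y =
      ((f ≫ g).stalkMap x).hom (S.presheaf.germ S₀ ((f ≫ g) x) hsS₀ a) •
        (X.presheaf.germ V x hxV c • y)
    rw [map_mul, mul_smul, stalkMap_germ_eq (f ≫ g) hVS x hxV a]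
  haveI tABX : IsScalarTower A B (F.presheaf.stalk x) := by
    refine ⟨fun a b y => ?_⟩
    rw [← algebraMap_smul C (a • b) y, ← algebraMap_smul C b y, ← smul_assoc]
    congr 1
    rw [Algebra.smul_def, Algebra.smul_def, map_mul, ← IsScalarTower.algebraMap_apply]
  -- flatness over `A`
  have hA : Module.Flat A (F.presheaf.stalk x) :=
    (isFlatOverAt_iff_flat_base (f ≫ g) F hS₀ x hsS₀).mp h1
  -- the local rings as algebras over the sections
  letI algBBy : Algebra B (Y.presheaf.stalk (f x)) := Y.presheaf.algebra_section_stalk ⟨f x, hfxW⟩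
  haveI locBy := hW.isLocalization_stalk ⟨f x, hfxW⟩
  haveI flatBy : Module.Flat B (Y.presheaf.stalk (f x)) :=
    IsLocalization.flat _ (hW.primeIdealOf ⟨f x, hfxW⟩).asIdeal.primeCompl
  letI mBy : Module (Y.presheaf.stalk (f x)) (F.presheaf.stalk x) := FlatMod.moduleStalkOver f F x
  haveI tBByX : IsScalarTower B (Y.presheaf.stalk (f x)) (F.presheaf.stalk x) := by
    refine ⟨fun a b y => ?_⟩
    change (f.stalkMap x).hom (Y.presheaf.germ W (f x) hfxW a * b) • y =
      (f.stalkMap x).hom (Y.presheaf.germ W (f x) hfxW a) • ((f.stalkMap x).hom b • y)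
    rw [map_mul, mul_smul]
  letI algAAs : Algebra A (S.presheaf.stalk (g (f x))) :=
    S.presheaf.algebra_section_stalk ⟨g (f x), hsS₀⟩
  haveI locAs : IsLocalization.AtPrime (S.presheaf.stalk (g (f x))) p.asIdeal :=
    hS₀.isLocalization_stalk ⟨g (f x), hsS₀⟩
  have hm : IsLocalRing.maximalIdeal (S.presheaf.stalk (g (f x))) =
      p.asIdeal.map (algebraMap A (S.presheaf.stalk (g (f x)))) :=
    (IsLocalization.AtPrime.map_eq_maximalIdeal p.asIdeal (S.presheaf.stalk (g (f x)))).symm
  have hJ : Ideal.map (g.stalkMap (f x)).hom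
      (IsLocalRing.maximalIdeal (S.presheaf.stalk (g (f x)))) =
      (p.asIdeal.map (algebraMap A B)).map (algebraMap B (Y.presheaf.stalk (f x))) := by
    rw [hm, Ideal.map_map, Ideal.map_map]
    congr 1
    ext a
    exact stalkMap_germ_eq g hWS (f x) hfxW a
  have hfibB : Module.Flat (B ⧸ p.asIdeal.map (algebraMap A B))
      ((B ⧸ p.asIdeal.map (algebraMap A B)) ⊗[B] (F.presheaf.stalk x)) :=
    Groth.Agent.Lib.H9FCM8.flat_quotient_tensor_of_flat_quotient
      (B := B) (By := Y.presheaf.stalk (f x)) (X := F.presheaf.stalk x) _ _ hJ hfib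
  -- the core
  haveI := isLocalizedModule_germ hV F x hxV
  have hB : Module.Flat B (F.presheaf.stalk x) :=
    Groth.Agent.Lib.H9FCM8.flat_of_fibre_flat_of_isLocalizedModule (A := A) (B := B) (C := C)
      (M := Γ(F, V)) (X := F.presheaf.stalk x) p.asIdeal q.asIdeal hP (germₗ F V x hxV) hfibB hA
  exact (isFlatOverAt_iff_flat_base f F hW x hfxW).mpr hB

end Groth.Agent.Lib.H9FCM9
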