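import Mathlib
import Groth.Agent.Lib.H9FCM10
import Groth.Agent.Lib.H9FCM9
import Groth.Agent.Lib.Helper2FlatOpen
import Groth.Agent.Lib.Helper2PullbackSec3
import Groth.Agent.Lib.Helper6LfpComp

set_option autoImplicit false
set_option linter.unusedVariables false
set_option linter.unusedSectionVars false
set_option linter.style.haveILetI false

open CategoryTheory CategoryTheory.Limits AlgebraicGeometry TensorProduct

universe u

namespace Groth.Agent.Lib.H9FCM11

open Groth.Agent.Lib.Helper2.FlatOver Groth.Agent.Lib.Helper3.EtGUSch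
  Groth.Agent.Lib.Helper2.PullbackSec Groth.Agent.Lib.Helper2.FinPres

set_option maxHeartbeats 6400000 in
/-- **Relative flatness descends from an arbitrary base change**, pointwise scheme form. -/
theorem isFlatOverAt_of_pullback_of_flat {X Y S X' Y' S' : Scheme.{u}} (f : X ⟶ Y) (g : Y ⟶ S)
    [LocallyOfFinitePresentation (f ≫ g)] [LocallyOfFiniteType g]
    (F : X.Modules) [F.IsQuasicoherent]
    [SheafOfModules.IsFinitePresentation (R := X.ringCatSheaf) F]
    (h : S' ⟶ S) (gY : Y' ⟶ Y) (g' : Y' ⟶ S') (hY : IsPullback gY g' g h)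
    (gX : X' ⟶ X) (f' : X' ⟶ Y') (hX : IsPullback gX (f' ≫ g') (f ≫ g) h)
    (w : gX ≫ f = f' ≫ gY) (x' : X')
    (h1 : FlatMod.IsFlatOverAt (f ≫ g) F (gX x'))
    (h2 : FlatMod.IsFlatOverAt f' ((Scheme.Modules.pullback gX).obj F) x') :
    FlatMod.IsFlatOverAt f F (gX x') := by
  set H := (Scheme.Modules.pullback gX).obj F with hH
  haveI : H.IsQuasicoherent := isQuasicoherent_pullback gX F
  -- charts
  obtain ⟨S₀, hS₀, W, hW, hWS, hfxW, -⟩ := exists_affine_nhds g (f (gX x')) ⊤ trivial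
  obtain ⟨V, hV, hxV, hVW⟩ := TopologicalSpace.Opens.isBasis_iff_nbhd.mp X.isBasis_affineOpens
    (show gX x' ∈ f ⁻¹ᵁ W from hfxW)
  have hVS : V ≤ (f ≫ g) ⁻¹ᵁ S₀ := fun z hz => hWS (hVW hz)
  have hwpt : ∀ z : X', gY (f' z) = f (gX z) := by
    intro z
    have := congrArg (fun φ => φ.base z) w
    simpa using this.symm
  have hXpt : ∀ z : X', h (g' (f' z)) = g (f (gX z)) := by
    intro z
    have := congrArg (fun φ => φ.base z) hX.w
    simpa using this.symm
  have hs' : g' (f' x') ∈ h ⁻¹ᵁ S₀ := by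
    change h (g' (f' x')) ∈ S₀
    rw [hXpt]
    exact hVS hxV
  obtain ⟨S₀', hS₀', hs'S₀', hS₀'le⟩ :=
    TopologicalSpace.Opens.isBasis_iff_nbhd.mp S'.isBasis_affineOpens hs'
  set W' : Y'.Opens := gY ⁻¹ᵁ W ⊓ g' ⁻¹ᵁ S₀' with hW'def
  have hW' : IsAffineOpen W' := isAffineOpen_inf_preimage hY hS₀'le hWS hS₀ hS₀' hW
  set V' : X'.Opens := gX ⁻¹ᵁ V ⊓ (f' ≫ g') ⁻¹ᵁ S₀' with hV'def
  have hV' : IsAffineOpen V' := isAffineOpen_inf_preimage hX hS₀'le hVS hS₀ hS₀' hV
  have hx'V' : x' ∈ V' := ⟨hxV, hs'S₀'⟩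
  have eW1 : W' ≤ gY ⁻¹ᵁ W := inf_le_left
  have eW2 : W' ≤ g' ⁻¹ᵁ S₀' := inf_le_right
  have eV1 : V' ≤ gX ⁻¹ᵁ V := inf_le_left
  have eV2 : V' ≤ (f' ≫ g') ⁻¹ᵁ S₀' := inf_le_right
  have hV'W' : V' ≤ f' ⁻¹ᵁ W' := by
    intro z hz
    refine ⟨?_, hz.2⟩
    change gY (f' z) ∈ W
    rw [hwpt]
    exact hVW hz.1
  -- rings
  let A' := Γ(S, S₀)
  let B' := Γ(Y, W)
  let C' := Γ(X, V)
  let A := Γ(S', S₀')
  let B := Γ(Y', W')
  let C := Γ(X', V')
  letI aA'B' : Algebra A' B' := (g.appLE S₀ W hWS).hom.toAlgebra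
  letI aA'A : Algebra A' A := (h.appLE S₀ S₀' hS₀'le).hom.toAlgebra
  letI aB'B : Algebra B' B := (gY.appLE W W' eW1).hom.toAlgebra
  letI aAB : Algebra A B := (g'.appLE S₀' W' eW2).hom.toAlgebra
  letI aA'B : Algebra A' B := ((gY.appLE W W' eW1).hom.comp (g.appLE S₀ W hWS).hom).toAlgebra
  haveI tA'B'B : IsScalarTower A' B' B := IsScalarTower.of_algebraMap_eq (fun a => rfl)
  haveI tA'AB : IsScalarTower A' A B := by
    refine IsScalarTower.of_algebraMap_eq (fun a => ?_)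
    change (gY.appLE W W' eW1).hom ((g.appLE S₀ W hWS).hom a) =
      (g'.appLE S₀' W' eW2).hom ((h.appLE S₀ S₀' hS₀'le).hom a)
    have e1 := Scheme.Hom.appLE_comp_appLE gY g S₀ W W' hWS eW1
    have e2 := Scheme.Hom.appLE_comp_appLE g' h S₀ S₀' W' hS₀'le eW2
    have e3 : (g.appLE S₀ W hWS ≫ gY.appLE W W' eW1) =
        (h.appLE S₀ S₀' hS₀'le ≫ g'.appLE S₀' W' eW2) := by
      rw [e1, e2]
      congr 1
      exact hY.w
    exact congrArg (fun φ => φ.hom a) e3
  letI aA'C' : Algebra A' C' := ((f ≫ g).appLE S₀ V hVS).hom.toAlgebra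
  letI aC'C : Algebra C' C := (gX.appLE V V' eV1).hom.toAlgebra
  letI aAC : Algebra A C := ((f' ≫ g').appLE S₀' V' eV2).hom.toAlgebra
  letI aA'C : Algebra A' C :=
    ((gX.appLE V V' eV1).hom.comp ((f ≫ g).appLE S₀ V hVS).hom).toAlgebra
  haveI tA'C'C : IsScalarTower A' C' C := IsScalarTower.of_algebraMap_eq (fun a => rfl)
  haveI tA'AC : IsScalarTower A' A C := by
    refine IsScalarTower.of_algebraMap_eq (fun a => ?_)
    change (gX.appLE V V' eV1).hom (((f ≫ g).appLE S₀ V hVS).hom a) =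
      ((f' ≫ g').appLE S₀' V' eV2).hom ((h.appLE S₀ S₀' hS₀'le).hom a)
    have e1 := Scheme.Hom.appLE_comp_appLE gX (f ≫ g) S₀ V V' hVS eV1
    have e2 := Scheme.Hom.appLE_comp_appLE (f' ≫ g') h S₀ S₀' V' hS₀'le eV2
    have e3 : ((f ≫ g).appLE S₀ V hVS ≫ gX.appLE V V' eV1) =
        (h.appLE S₀ S₀' hS₀'le ≫ (f' ≫ g').appLE S₀' V' eV2) := by
      rw [e1, e2]
      congr 1
      exact hX.w
    exact congrArg (fun φ => φ.hom a) e3
  letI aB'C' : Algebra B' C' := (f.appLE W V hVW).hom.toAlgebra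
  haveI tA'B'C' : IsScalarTower A' B' C' := by
    refine IsScalarTower.of_algebraMap_eq' ?_
    show ((f ≫ g).appLE S₀ V hVS).hom = (f.appLE W V hVW).hom.comp (g.appLE S₀ W hWS).hom
    rw [← CommRingCat.hom_comp, Scheme.Hom.appLE_comp_appLE]
  letI aBC : Algebra B C := (f'.appLE W' V' hV'W').hom.toAlgebra
  haveI tABC : IsScalarTower A B C := by
    refine IsScalarTower.of_algebraMap_eq' ?_
    show ((f' ≫ g').appLE S₀' V' eV2).hom =
      (f'.appLE W' V' hV'W').hom.comp (g'.appLE S₀' W' eW2).hom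
    rw [← CommRingCat.hom_comp, Scheme.Hom.appLE_comp_appLE]
  letI aB'C : Algebra B' C := ((gX.appLE V V' eV1).hom.comp (f.appLE W V hVW).hom).toAlgebra
  haveI tB'C'C : IsScalarTower B' C' C := IsScalarTower.of_algebraMap_eq (fun a => rfl)
  haveI tB'BC : IsScalarTower B' B C := by
    refine IsScalarTower.of_algebraMap_eq (fun a => ?_)
    change (gX.appLE V V' eV1).hom ((f.appLE W V hVW).hom a) =
      (f'.appLE W' V' hV'W').hom ((gY.appLE W W' eW1).hom a)
    have e1 := Scheme.Hom.appLE_comp_appLE gX f W V V' hVW eV1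
    have e2 := Scheme.Hom.appLE_comp_appLE f' gY W W' V' eW1 hV'W'
    have e3 : (f.appLE W V hVW ≫ gX.appLE V V' eV1) =
        (gY.appLE W W' eW1 ≫ f'.appLE W' V' hV'W') := by
      rw [e1, e2]
      congr 1
    exact congrArg (fun φ => φ.hom a) e3
  haveI poB : Algebra.IsPushout A' A B' B :=
    algebra_isPushout hY hS₀'le hWS hS₀ hS₀' hW eW1 eW2
  haveI poC : Algebra.IsPushout A' A C' C :=
    algebra_isPushout hX hS₀'le hVS hS₀ hS₀' hV eV1 eV2
  -- modules
  letI mB'M' : Module B' Γ(F, V) := Module.compHom Γ(F, V) (f.appLE W V hVW).hom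
  letI mA'M' : Module A' Γ(F, V) := Module.compHom Γ(F, V) ((f ≫ g).appLE S₀ V hVS).hom
  haveI tB'C'M' : IsScalarTower B' C' Γ(F, V) := IsScalarTower.of_algebraMap_smul (fun _ _ => rfl)
  haveI tA'C'M' : IsScalarTower A' C' Γ(F, V) := IsScalarTower.of_algebraMap_smul (fun _ _ => rfl)
  haveI tA'B'M' : IsScalarTower A' B' Γ(F, V) := by
    refine IsScalarTower.of_algebraMap_smul (fun a m => ?_)
    change (f.appLE W V hVW).hom ((g.appLE S₀ W hWS).hom a) • m =
      ((f ≫ g).appLE S₀ V hVS).hom a • m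
    rw [← RingHom.comp_apply, ← CommRingCat.hom_comp, Scheme.Hom.appLE_comp_appLE]
  letI mBM : Module B Γ(H, V') := Module.compHom Γ(H, V') (f'.appLE W' V' hV'W').hom
  letI mAM : Module A Γ(H, V') := Module.compHom Γ(H, V') ((f' ≫ g').appLE S₀' V' eV2).hom
  haveI tBCM : IsScalarTower B C Γ(H, V') := IsScalarTower.of_algebraMap_smul (fun _ _ => rfl)
  haveI tACM : IsScalarTower A C Γ(H, V') := IsScalarTower.of_algebraMap_smul (fun _ _ => rfl)
  haveI tABM : IsScalarTower A B Γ(H, V') := by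
    refine IsScalarTower.of_algebraMap_smul (fun a m => ?_)
    change (f'.appLE W' V' hV'W').hom ((g'.appLE S₀' W' eW2).hom a) • m =
      ((f' ≫ g').appLE S₀' V' eV2).hom a • m
    rw [← RingHom.comp_apply, ← CommRingCat.hom_comp, Scheme.Hom.appLE_comp_appLE]
  letI mC'M : Module C' Γ(H, V') := Module.compHom Γ(H, V') (gX.appLE V V' eV1).hom
  haveI tC'CM : IsScalarTower C' C Γ(H, V') := IsScalarTower.of_algebraMap_smul (fun _ _ => rfl)
  letI mB'M : Module B' Γ(H, V') := Module.compHom Γ(H, V')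
    ((gX.appLE V V' eV1).hom.comp (f.appLE W V hVW).hom)
  haveI tB'C'M : IsScalarTower B' C' Γ(H, V') := IsScalarTower.of_algebraMap_smul (fun _ _ => rfl)
  haveI tB'BM : IsScalarTower B' B Γ(H, V') := by
    refine IsScalarTower.of_algebraMap_smul (fun b m => ?_)
    change (f'.appLE W' V' hV'W').hom ((gY.appLE W W' eW1).hom b) • m =
      (gX.appLE V V' eV1).hom ((f.appLE W V hVW).hom b) • m
    have e := (IsScalarTower.algebraMap_apply B' B C b).symm
    change (f'.appLE W' V' hV'W').hom ((gY.appLE W W' eW1).hom b) =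
      (gX.appLE V V' eV1).hom ((f.appLE W V hVW).hom b) at e
    rw [e]
  -- finiteness
  haveI : Algebra.FinitePresentation A' C' := (f ≫ g).finitePresentation_appLE hS₀ hV hVS
  haveI : Algebra.FiniteType A' B' := g.finiteType_appLE hS₀ hW hWS
  haveI : Module.FinitePresentation C' Γ(F, V) :=
    Groth.Agent.Lib.Helper2.FPAff.finitePresentation_sections F hV
  -- the base change map on sections
  obtain ⟨T⟩ := nonempty_sections_linearEquiv gX F hV' hV eV1
  let ν : Γ(F, V) →ₗ[C'] Γ(H, V') :=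
    (T.toLinearMap.restrictScalars C').comp (TensorProduct.mk C' C Γ(F, V) 1)
  have hν : IsBaseChange C ν := IsBaseChange.of_equiv T (fun v => rfl)
  -- primes
  let q : Spec Γ(X', V') := hV'.primeIdealOf ⟨x', hx'V'⟩
  let p : Spec Γ(S', S₀') := hS₀'.primeIdealOf ⟨(f' ≫ g') x', eV2 hx'V'⟩
  have hP : q.asIdeal.under A = p.asIdeal :=
    congr($(IsAffineOpen.comap_primeIdealOf_appLE S₀' hS₀' V' hV' eV2 hx'V').1)
  have hq : q.asIdeal.comap (algebraMap C' C) = (hV.primeIdealOf ⟨gX x', hxV⟩).asIdeal :=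
    congr($(IsAffineOpen.comap_primeIdealOf_appLE V hV V' hV' eV1 hx'V').1)
  -- flatness translations
  have h1a : Module.Flat A' (LocalizedModule
      (hV.primeIdealOf ⟨gX x', hxV⟩).asIdeal.primeCompl Γ(F, V)) :=
    (isFlatOverAt_iff_flat_localizedModule (f ≫ g) F hV hS₀ hVS (gX x') hxV).mp h1
  have h1' : Module.Flat A' (LocalizedModule
      (q.asIdeal.comap (algebraMap C' C)).primeCompl Γ(F, V)) :=
    Groth.Agent.Lib.Helper3.FibCritD.flat_localizedModule_congr_prime _ _ hq.symm h1a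
  have h2' : Module.Flat B (LocalizedModule q.asIdeal.primeCompl Γ(H, V')) :=
    (isFlatOverAt_iff_flat_localizedModule f' H hV' hW' hV'W' x' hx'V').mp h2
  have h3 : Module.Flat B' (LocalizedModule
      (q.asIdeal.comap (algebraMap C' C)).primeCompl Γ(F, V)) :=
    Groth.Agent.Lib.H9FCM10.flat_of_flat_baseChange (A' := A') (A := A) (B' := B') (B := B)
      (C' := C') (C := C) (M' := Γ(F, V)) (M := Γ(H, V')) ν hν p.asIdeal q.asIdeal hP h1' h2'
  have h4 : Module.Flat B' (LocalizedModule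
      (hV.primeIdealOf ⟨gX x', hxV⟩).asIdeal.primeCompl Γ(F, V)) :=
    Groth.Agent.Lib.Helper3.FibCritD.flat_localizedModule_congr_prime _ _ hq h3
  exact (isFlatOverAt_iff_flat_localizedModule f F hV hW hVW (gX x') hxV).mpr h4

end Groth.Agent.Lib.H9FCM11
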