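import Mathlib
import Groth.Agent.Lib.Helper3FlatModelMod

set_option autoImplicit false
set_option linter.style.haveILetI false

universe u

namespace Groth.Agent.Lib.H9FCM13

open TensorProduct Groth.Agent.Lib.Helper3.FlatDesc Groth.Agent.Lib.Helper3.FlatModelMod

section ModDesc

variable {C S' M : Type u} [CommRing C] [CommRing S'] [Algebra C S']
  [AddCommGroup M] [Module S' M] [Module C M] [IsScalarTower C S' M]

set_option maxHeartbeats 1600000 in
/-- **Descent of a finitely presented module from a localization.** -/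
theorem exists_fp_model_of_module (T : Submonoid C) [IsLocalization T S']
    [Module.FinitePresentation S' M] :
    ∃ (M₀ : Type u) (_ : AddCommGroup M₀) (_ : Module C M₀) (_ : Module.FinitePresentation C M₀)
      (φ : M₀ →ₗ[C] M), IsLocalizedModule T φ := by
  classical
  obtain ⟨k, m, π, g, hπ, hex⟩ := Module.FinitePresentation.exists_fin' S' M
  let v : Fin m → Fin k → S' := fun j => g (Pi.single j 1)
  obtain ⟨⟨t, ht⟩, hint⟩ := IsLocalization.exist_integer_multiples_of_finite T
    (fun ji : Fin m × Fin k => v ji.1 ji.2)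
  choose w₀ hw₀ using hint
  let w : Fin m → Fin k → C := fun j i => w₀ (j, i)
  have hut : IsUnit (algebraMap C S' t) := IsLocalization.map_units S' ⟨t, ht⟩
  have hwT : ∀ j, wT w S' j = algebraMap C S' t • v j := by
    intro j
    funext i
    change algebraMap C S' (w₀ (j, i)) = algebraMap C S' t • v j i
    rw [hw₀ (j, i), Algebra.smul_def]
    rfl
  have hrange : LinearMap.range g = Submodule.span S' (Set.range v) := by
    apply le_antisymm
    · rintro _ ⟨a, rfl⟩
      rw [LinearMap.pi_apply_eq_sum_univ g a]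
      refine Submodule.sum_mem _ fun j _ => Submodule.smul_mem _ _ (Submodule.subset_span ⟨j, ?_⟩)
      change g (Pi.single j 1) = g (fun j' => if j = j' then 1 else 0)
      congr 1
      funext j'
      simp [Pi.single_apply, eq_comm]
    · rw [Submodule.span_le]
      rintro _ ⟨j, rfl⟩
      exact ⟨Pi.single j 1, rfl⟩
  have hK : KT w S' = LinearMap.ker π := by
    rw [(LinearMap.exact_iff.mp hex), hrange, KT_eq_span]
    apply le_antisymm
    · rw [Submodule.span_le]
      rintro _ ⟨j, rfl⟩
      rw [hwT]
      exact Submodule.smul_mem _ _ (Submodule.subset_span ⟨j, rfl⟩)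
    · rw [Submodule.span_le]
      rintro _ ⟨j, rfl⟩
      obtain ⟨u, hu⟩ := hut
      have : v j = (↑u⁻¹ : S') • wT w S' j := by
        rw [hwT, ← hu, smul_smul, Units.inv_mul, one_smul]
      rw [SetLike.mem_coe, this]
      exact Submodule.smul_mem _ _ (Submodule.subset_span ⟨j, rfl⟩)
  let e : ((Fin k → S') ⧸ KT w S') ≃ₗ[S'] M :=
    (Submodule.quotEquivOfEq _ _ hK) ≪≫ₗ (LinearMap.quotKerEquivOfSurjective π hπ)
  have hb : IsBaseChange S' (Mmap w C S') := isBaseChange_Mmap w C S'
  let φ : ((Fin k → C) ⧸ KT w C) →ₗ[C] M :=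
    (e.restrictScalars C).toLinearMap ∘ₗ (Mmap w C S')
  have hφ : IsBaseChange S' φ := by
    refine IsBaseChange.of_equiv (hb.equiv ≪≫ₗ e) fun x => ?_
    rw [LinearEquiv.trans_apply, IsBaseChange.equiv_tmul, one_smul]
    rfl
  have hfp : Module.FinitePresentation C ((Fin k → C) ⧸ KT w C) := by
    refine Module.finitePresentation_of_free_of_surjective (KT w C).mkQ
      (Submodule.mkQ_surjective _) ?_
    rw [Submodule.ker_mkQ, KT, LinearMap.range_eq_map]
    exact Submodule.FG.map _ Module.Finite.fg_top
  exact ⟨(Fin k → C) ⧸ KT w C, inferInstance, inferInstance, hfp, φ,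
    (isLocalizedModule_iff_isBaseChange T S' φ).mpr hφ⟩

end ModDesc

end Groth.Agent.Lib.H9FCM13
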