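import Mathlib
import Groth.Agent.S0239
import Groth.Agent.S0243
import Groth.Agent.S0268

/-! `FEt.restrict` along a commutative square (`restrictSquare`), closed fibre of a proper scheme over a local ring meets every connected component, and S5129: restriction of finite étale covers along a proper X → Spec A (A complete local, geometric closed fibre connected) is fully faithful (via S0239, S0243, S0268) (helper9). -/

set_option autoImplicit false
set_option linter.unusedVariables false
set_option linter.unusedSectionVars false
set_option linter.style.haveILetI false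

open CategoryTheory CategoryTheory.Limits AlgebraicGeometry

universe u

namespace Groth.Agent.Lib.H9FEtComplete

/-- pseudo-functoriality of `FEt.restrict` along a commutative square -/
noncomputable def restrictSquare {X₀ X S₀ S : Scheme.{u}} (j : X₀ ⟶ X) (f : X ⟶ S) (f₀ : X₀ ⟶ S₀)
    (i : S₀ ⟶ S) (h : j ≫ f = f₀ ≫ i) :
    FEt.restrict f ⋙ FEt.restrict j ≅ FEt.restrict i ⋙ FEt.restrict f₀ :=
  (MorphismProperty.Over.pullbackComp (P := FEt.prop.{u}) (Q := ⊤) j f (j ≫ f) rfl).symm ≪≫
    MorphismProperty.Over.pullbackComp (P := FEt.prop.{u}) (Q := ⊤) f₀ i (j ≫ f) h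

/-- the closed fibre of a proper scheme over a local ring meets every connected component -/
theorem meets_components (A : Type u) [CommRing A] [IsLocalRing A] {X : Scheme.{u}}
    (f : X ⟶ Spec (CommRingCat.of A)) [IsProper f] (x : X) :
    (connectedComponent x ∩ Set.range (pullback.fst f (Spec.map (CommRingCat.ofHom
      (Ideal.Quotient.mk (IsLocalRing.maximalIdeal A))))).base).Nonempty := by
  have hcl : IsClosed (f '' connectedComponent x) :=
    f.isClosedMap _ isClosed_connectedComponent
  have hmem : f x ∈ f '' connectedComponent x := ⟨x, mem_connectedComponent, rfl⟩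
  have hsp : (f x : PrimeSpectrum A) ⤳ IsLocalRing.closedPoint A :=
    IsLocalRing.specializes_closedPoint _
  obtain ⟨c, hc, hfc⟩ := hsp.mem_closed hcl hmem
  refine ⟨c, hc, ?_⟩
  show c ∈ Set.range (pullback.fst f _)
  rw [Scheme.Pullback.range_fst]
  show f c ∈ Set.range _
  rw [hfc]
  refine ⟨IsLocalRing.closedPoint (IsLocalRing.ResidueField A), ?_⟩
  exact IsLocalRing.PrimeSpectrum.comap_residue A _

/-- **S5129** -/
theorem main (A : Type u) [CommRing A]
    [IsNoetherianRing A] [IsLocalRing A] [IsAdicComplete (IsLocalRing.maximalIdeal A) A]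
    {X : Scheme.{u}} (f : X ⟶ Spec (CommRingCat.of A)) [IsProper f]
    (ξ : Spec (CommRingCat.of (AlgebraicClosure (IsLocalRing.ResidueField A))) ⟶
      Spec (CommRingCat.of A))
    (hξ : ξ = Spec.map (CommRingCat.ofHom ((algebraMap (IsLocalRing.ResidueField A)
      (AlgebraicClosure (IsLocalRing.ResidueField A))).comp (IsLocalRing.residue A))))
    [ConnectedSpace ↥(pullback f ξ)] :
    (FEt.restrict f).Full ∧ (FEt.restrict f).Faithful := by
  obtain ⟨i, hi⟩ : ∃ i : Spec (CommRingCat.of (IsLocalRing.ResidueField A)) ⟶
      Spec (CommRingCat.of A), i = Spec.map (CommRingCat.ofHom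
        (Ideal.Quotient.mk (IsLocalRing.maximalIdeal A))) := ⟨_, rfl⟩
  obtain ⟨g, hg⟩ : ∃ g : Spec (CommRingCat.of (AlgebraicClosure (IsLocalRing.ResidueField A))) ⟶
      Spec (CommRingCat.of (IsLocalRing.ResidueField A)),
      g = Spec.map (CommRingCat.ofHom (algebraMap (IsLocalRing.ResidueField A)
        (AlgebraicClosure (IsLocalRing.ResidueField A)))) := ⟨_, rfl⟩
  have hξ' : ξ = g ≫ i := by
    rw [hξ, hg, hi]
    exact Spec.map_comp (CommRingCat.ofHom (IsLocalRing.residue A))
      (CommRingCat.ofHom (algebraMap (IsLocalRing.ResidueField A)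
        (AlgebraicClosure (IsLocalRing.ResidueField A))))
  -- the equivalence `FEt(Spec A) ≃ FEt(Spec k)`
  haveI hE : (FEt.restrict i).IsEquivalence := by
    rw [hi]
    exact Groth.Agent.S0239.result A (IsLocalRing.maximalIdeal A)
  -- the closed fibre
  haveI : CompactSpace ↥(pullback f i) :=
    QuasiCompact.compactSpace_of_compactSpace (pullback.snd f i)
  haveI : QuasiSeparatedSpace ↥(pullback f i) :=
    quasiSeparatedSpace_of_quasiSeparated (pullback.snd f i)
  haveI : ConnectedSpace ↥(pullback (pullback.snd f i) g) := by
    have e := pullbackLeftPullbackSndIso f i g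
    haveI : ConnectedSpace ↥(pullback f (g ≫ i)) := by rw [← hξ']; infer_instance
    exact e.inv.homeomorph.connectedSpace_iff.mp inferInstance
  subst hg
  have hF := Groth.Agent.S0268.result (IsLocalRing.ResidueField A) (pullback.snd f i)
  haveI := hF.1
  haveI := hF.2
  -- faithfulness of restriction to the closed fibre
  haveI hJ : (FEt.restrict (pullback.fst f i)).Faithful := by
    haveI : IsClosedImmersion i := by
      rw [hi]
      exact IsClosedImmersion.spec_of_surjective _ Ideal.Quotient.mk_surjective
    apply Groth.Agent.S0243.result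
    intro x
    rw [hi]
    exact meets_components A f x
  have iso := restrictSquare (pullback.fst f i) f (pullback.snd f i) i pullback.condition
  haveI : (FEt.restrict i ⋙ FEt.restrict (pullback.snd f i)).Full := inferInstance
  haveI : (FEt.restrict i ⋙ FEt.restrict (pullback.snd f i)).Faithful := inferInstance
  exact ⟨Functor.Full.of_comp_faithful_iso iso, Functor.Faithful.of_comp_iso iso⟩

end Groth.Agent.Lib.H9FEtComplete
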