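import Mathlib
import Groth.Prelude.Def_FEt

/-! helper9: `connectedSpace_of_fibres` (generalizing surjection with connected fibres onto a connected space with finitely many generic points has connected source) and `main18402` (S18402): pullback of a connected finite etale cover of an irreducible scheme along a flat geometrically irreducible morphism is connected. -/

set_option autoImplicit false
set_option linter.style.haveILetI false
set_option linter.unusedSimpArgs false
set_option linter.unusedVariables false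
universe u

namespace Groth.Agent.Lib.H9FEtConn

open CategoryTheory CategoryTheory.Limits AlgebraicGeometry TopologicalSpace

-- ===== part PiA =====
section

/-- Topological lemma: a generalizing surjection with connected fibres onto a connected space `Z`,
every point of which generalizes to one of finitely many points, has connected source. -/
theorem connectedSpace_of_fibres {W Z : Type*} [TopologicalSpace W] [TopologicalSpace Z]
    (p : W → Z) (hgen : GeneralizingMap p)
    (hfib : ∀ z : Z, IsPreconnected (p ⁻¹' {z}) ∧ (p ⁻¹' {z}).Nonempty)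
    [ConnectedSpace Z] (G : Set Z) (hG : G.Finite) (hGgen : ∀ z : Z, ∃ g ∈ G, g ⤳ z) :
    ConnectedSpace W := by
  haveI : Nonempty W := by
    obtain ⟨z⟩ := (inferInstance : Nonempty Z)
    obtain ⟨w, -⟩ := (hfib z).2
    exact ⟨w⟩
  haveI : PreconnectedSpace W := by
    rw [preconnectedSpace_iff_clopen]
    intro U hU
    -- key closedness lemma
    have hclosed : ∀ A : Set Z, (∀ z ∈ A, ∀ z', z' ⤳ z → z' ∈ A) →
        (∀ z ∈ A, ∀ z', z ⤳ z' → z' ∈ A) → IsClosed A := by
      intro A hgenA hspecA
      have hA : A = ⋃ g ∈ G ∩ A, closure {g} := by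
        ext z
        simp only [Set.mem_iUnion, exists_prop]
        constructor
        · intro hz
          obtain ⟨g, hgG, hgz⟩ := hGgen z
          exact ⟨g, ⟨hgG, hgenA z hz g hgz⟩, hgz.mem_closure⟩
        · rintro ⟨g, ⟨-, hgA⟩, hz⟩
          exact hspecA g hgA z (specializes_iff_mem_closure.mpr hz)
      rw [hA]
      exact (hG.inter_of_left A).isClosed_biUnion fun _ _ => isClosed_closure
    -- fibres lie in U or in Uᶜ
    have hdich : ∀ z : Z, p ⁻¹' {z} ⊆ U ∨ p ⁻¹' {z} ⊆ Uᶜ := by
      intro z
      by_cases h : (p ⁻¹' {z} ∩ U).Nonempty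
      · exact Or.inl ((hfib z).1.subset_isClopen hU h)
      · right
        intro w hw hwU
        exact h ⟨w, hw, hwU⟩
    let A : Set Z := {z | p ⁻¹' {z} ⊆ U}
    have hAgen : ∀ (V : Set W), IsOpen V → ∀ z, p ⁻¹' {z} ⊆ V → ∀ z', z' ⤳ z →
        (p ⁻¹' {z'} ∩ V).Nonempty := by
      intro V hV z hz z' hz'
      obtain ⟨w, hw⟩ := (hfib z).2
      have hw' : z' ⤳ p w := by rw [show p w = z from hw]; exact hz'
      obtain ⟨w', hw'w, hpw'⟩ := hgen hw'
      exact ⟨w', hpw', hw'w.mem_open hV (hz hw)⟩
    have hnot : ∀ z, ¬ (p ⁻¹' {z} ⊆ U ∧ p ⁻¹' {z} ⊆ Uᶜ) := by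
      rintro z ⟨h1, h2⟩
      obtain ⟨w, hw⟩ := (hfib z).2
      exact h2 hw (h1 hw)
    have hA1 : ∀ z ∈ A, ∀ z', z' ⤳ z → z' ∈ A := by
      intro z hz z' hz'
      obtain ⟨w', hw', hw'U⟩ := hAgen U hU.isOpen z hz z' hz'
      rcases hdich z' with h | h
      · exact h
      · exact absurd hw'U (h hw')
    have hB1 : ∀ z ∈ Aᶜ, ∀ z', z' ⤳ z → z' ∈ Aᶜ := by
      intro z hz z' hz'
      have hzc : p ⁻¹' {z} ⊆ Uᶜ := (hdich z).resolve_left hz
      obtain ⟨w', hw', hw'U⟩ := hAgen Uᶜ hU.compl.isOpen z hzc z' hz'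
      intro hz'A
      exact hw'U (hz'A hw')
    have hA2 : ∀ z ∈ A, ∀ z', z ⤳ z' → z' ∈ A := by
      intro z hz z' hz'
      by_contra hcon
      exact hB1 z' hcon z hz' hz
    have hB2 : ∀ z ∈ Aᶜ, ∀ z', z ⤳ z' → z' ∈ Aᶜ := by
      intro z hz z' hz' hcon
      exact hz (hA1 z' hcon z hz')
    have hAclopen : IsClopen A :=
      ⟨hclosed A hA1 hA2, by simpa using (hclosed Aᶜ hB1 hB2).isOpen_compl⟩
    rcases isClopen_iff.mp hAclopen with h | h
    · left
      rw [Set.eq_empty_iff_forall_notMem]
      intro w hw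
      have hz : p w ∉ A := by rw [h]; exact Set.notMem_empty _
      have := (hdich (p w)).resolve_left hz
      exact this rfl hw
    · right
      rw [Set.eq_univ_iff_forall]
      intro w
      have hz : p w ∈ A := by rw [h]; exact Set.mem_univ _
      exact hz rfl
  exact ⟨inferInstance⟩



theorem main18402 {X W : Scheme.{u}}
    [IrreducibleSpace X] (π : W ⟶ X) [Flat π] [GeometricallyIrreducible π]
    (Z : FEt.Cat X) [ConnectedSpace Z.left] :
    ConnectedSpace ↥(pullback Z.hom π) := by
  haveI : IsFinite Z.hom := Z.prop.1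
  haveI : Etale Z.hom := Z.prop.2
  haveI : Flat Z.hom := inferInstance
  let p := pullback.fst Z.hom π
  have hgen : GeneralizingMap p := Flat.generalizingMap p
  have hgenZ : GeneralizingMap Z.hom := Flat.generalizingMap Z.hom
  haveI : ConnectedSpace ↥((𝟭 Scheme).obj Z.left) := ‹ConnectedSpace Z.left›
  refine connectedSpace_of_fibres p hgen ?_ (Z.hom ⁻¹' {genericPoint X})
    (IsFinite.finite_preimage_singleton Z.hom _) ?_
  · intro z
    have hirr : IsIrreducible (p ⁻¹' {z}) := by
      rw [← p.range_fiberι z, ← Set.image_univ]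
      exact (IrreducibleSpace.isIrreducible_univ _).image _ (p.fiberι z).continuous.continuousOn
    exact ⟨hirr.isPreirreducible.isPreconnected, hirr.nonempty⟩
  · intro z
    have h1 : genericPoint X ⤳ Z.hom z := genericPoint_specializes _
    obtain ⟨g, hgz, hg⟩ := hgenZ h1
    exact ⟨g, hg, hgz⟩

end

end Groth.Agent.Lib.H9FEtConn
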