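import Mathlib
import Groth.Prelude.Def_Pi1
import Groth.Prelude.Def_FEt
import Groth.Prelude.Def_Coh
import Groth.Prelude.Def_FlatMod2
import Groth.Agent.Lib.H9FEtDegA
import Groth.Agent.Lib.H9FEtDegC

/-! `main` = S7762: a finite étale cover of constant degree `n` is split by a finite étale surjective cover of degree `n!` (in the prelude's `FEt.Cat`/`Pi1.IsSplit` language) (helper9). -/

namespace Groth.Agent.Lib.H9FEtDegD

open AlgebraicGeometry CategoryTheory Limits Groth.Agent.Lib.H9FEtDeg Groth.Agent.Lib.H9FEtDegA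
  Groth.Agent.Lib.H9FEtDegC

universe u

theorem main {S : Scheme.{u}} (Y : FEt.Cat S) (n : ℕ)
    (hdeg : FlatMod.IsFinLocFreeOfRank n ((Coh.push Y.hom).obj (Coh.structureModule Y.left))) :
    ∃ T : FEt.Cat S, Surjective T.hom ∧
      FlatMod.IsFinLocFreeOfRank n.factorial ((Coh.push T.hom).obj (Coh.structureModule T.left)) ∧
      Pi1.IsSplit ((FEt.restrict T.hom).obj Y) := by
  haveI : IsFinite Y.hom := Y.prop.1
  haveI : Etale Y.hom := Y.prop.2
  have hn := finrank_eq_of_rank Y.hom n hdeg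
  obtain ⟨T, q, hfin, het, hsurj, hq, σ, hσ, hne⟩ := splits n Y.hom hn
  haveI := hfin
  haveI := het
  refine ⟨MorphismProperty.Over.mk ⊤ q ⟨hfin, het⟩, hsurj, rank_of_finrank_eq q _ hq, ?_⟩
  have hiso : IsIso (Sigma.desc fun i : ULift.{u} (Fin n) => σ i.down) := by
    refine isIso_desc (pullback.snd Y.hom q) (fun i : ULift.{u} (Fin n) => σ i.down)
      (fun i => hσ i.down) (fun i j hij t => hne _ _ (fun h => hij (ULift.ext _ _ h)) t) (fun t => ?_)
    rw [Scheme.Hom.finrank_pullback_snd, hn]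
    simp
  refine ⟨ULift.{u} (Fin n), inferInstance,
    (asIso (Sigma.desc fun i : ULift.{u} (Fin n) => σ i.down)).symm, fun i => ?_⟩
  show Sigma.ι _ i ≫ Sigma.desc (fun i : ULift.{u} (Fin n) => σ i.down) ≫ pullback.snd Y.hom q = 𝟙 T
  rw [Sigma.ι_desc_assoc]
  exact hσ i.down

end Groth.Agent.Lib.H9FEtDegD
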