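import Mathlib
import Groth.Agent.Lib.H9FCM4

/-! Fibre flatness (K-form κ(p)⊗M_P over κ(p)⊗B) under base change: flat_quotient_tensor_of_fibreK_flat, fibreK_flat_of_flat_quotient_tensor_of_baseChange (ascent), under_comap_eq, fibreK_flat_baseChange_iff (helper9). -/

set_option autoImplicit false
set_option linter.style.haveILetI false

universe u

namespace Groth.Agent.Lib.H9FFL1

open TensorProduct Groth.Agent.Lib.Helper3.FlatLoc Groth.Agent.Lib.Helper3.FlatOpen
  Groth.Agent.Lib.Helper3.FibCritA Groth.Agent.Lib.Helper3.FlatDesc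

attribute [local instance] Algebra.TensorProduct.rightAlgebra

section Same

variable {A B C : Type u} [CommRing A] [CommRing B] [CommRing C] [Algebra A B] [Algebra B C]
  [Algebra A C] [IsScalarTower A B C]
  {M : Type u} [AddCommGroup M] [Module C M] [Module B M] [Module A M] [IsScalarTower B C M]
  [IsScalarTower A B M] [IsScalarTower A C M]

/-- K-form implies quotient form, at the same level. -/
theorem flat_quotient_tensor_of_fibreK_flat
    (p : Ideal A) [p.IsPrime] (P : Ideal C) [P.IsPrime] (hP : P.under A = p)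
    (h : Module.Flat (p.Fiber B) (p.Fiber B ⊗[B] LocalizedModule P.primeCompl M)) :
    Module.Flat (B ⧸ p.map (algebraMap A B))
      ((B ⧸ p.map (algebraMap A B)) ⊗[B] LocalizedModule P.primeCompl M) := by
  have hid : IsBaseChange C (LinearMap.id : M →ₗ[C] M) :=
    IsBaseChange.of_equiv (TensorProduct.lid C M) (fun x => by simp)
  exact Groth.Agent.Lib.H9FCM4.flat_quotient_tensor_of_fibreK_flat_of_baseChange
    (A' := A) (A := A) (B' := B) (B := B) (C' := C) (C := C) (M' := M) (M := M)
    LinearMap.id hid p P hP h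

end Same

section AbsAscent

variable {B' C' E' F G M' : Type u} [CommRing B'] [CommRing C'] [CommRing E'] [CommRing F]
  [CommRing G]
  [Algebra B' C'] [Algebra B' E'] [Algebra E' F] [Algebra B' F] [Algebra F G] [Algebra C' G]
  [Algebra B' G] [IsScalarTower B' E' F] [IsScalarTower B' F G] [IsScalarTower B' C' G]
  [Algebra.IsPushout B' F C' G]
  [AddCommGroup M'] [Module C' M'] [Module B' M'] [IsScalarTower B' C' M']

/-- abstract ascent: from `E' ⊗ M'_{T'}` flat over `E'` to `(G ⊗ M')_{T' G}` flat over `F`. -/
theorem flat_localizedModule_tensor_of_flat_tensor (T' : Submonoid C')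
    (h : Module.Flat E' (E' ⊗[B'] LocalizedModule T' M')) :
    Module.Flat F (LocalizedModule (Algebra.algebraMapSubmonoid G T') (G ⊗[C'] M')) := by
  haveI := h
  have h1 : Module.Flat F (F ⊗[E'] (E' ⊗[B'] LocalizedModule T' M')) := inferInstance
  haveI := h1
  have h2 : Module.Flat F (F ⊗[B'] LocalizedModule T' M') :=
    Module.Flat.of_linearEquiv
      (TensorProduct.AlgebraTensorModule.cancelBaseChange B' E' F F (LocalizedModule T' M')).symm
  haveI := h2
  have h3 : Module.Flat F (G ⊗[C'] LocalizedModule T' M') :=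
    Module.Flat.of_linearEquiv
      (Algebra.IsPushout.cancelBaseChange B' F C' G (LocalizedModule T' M'))
  haveI := h3
  exact Module.Flat.of_linearEquiv
    ((Groth.Agent.Lib.H9FCM2b.localizedBaseChangeEquiv (G := G) (M := M') T').restrictScalars F)

end AbsAscent

section TopConv

variable {B C F G M : Type u} [CommRing B] [CommRing C] [CommRing F] [CommRing G]
  [Algebra B C] [Algebra B F] [Algebra F G] [Algebra C G] [Algebra B G]
  [IsScalarTower B F G] [IsScalarTower B C G] [Algebra.IsPushout B F C G]
  [AddCommGroup M] [Module C M] [Module B M] [IsScalarTower B C M]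

/-- converse of the first steps of `flat_localizedModule_baseChange_of_flat_tensor`. -/
theorem flat_tensor_of_flat_localizedModule_baseChange (T : Submonoid C)
    (h : Module.Flat F (LocalizedModule (Algebra.algebraMapSubmonoid G T) (G ⊗[C] M))) :
    Module.Flat F (F ⊗[B] LocalizedModule T M) := by
  haveI := h
  have h2 : Module.Flat F (G ⊗[C] LocalizedModule T M) :=
    Module.Flat.of_linearEquiv
      ((Groth.Agent.Lib.H9FCM2b.localizedBaseChangeEquiv (G := G) (M := M) T).symm.restrictScalars F)
  haveI := h2
  exact Module.Flat.of_linearEquiv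
    (Algebra.IsPushout.cancelBaseChange B F C G (LocalizedModule T M)).symm

end TopConv


section CoreAbs

variable {A' A B' B C' C : Type u} [CommRing A'] [CommRing A]
  [CommRing B'] [CommRing B] [CommRing C'] [CommRing C]
  [Algebra A' A]
  [Algebra A' B'] [Algebra A B] [Algebra B' B] [Algebra A' B] [IsScalarTower A' B' B]
  [IsScalarTower A' A B]
  [Algebra A' C'] [Algebra A C] [Algebra C' C] [Algebra A' C] [IsScalarTower A' C' C]
  [IsScalarTower A' A C]
  [Algebra B' C'] [IsScalarTower A' B' C'] [Algebra B C] [IsScalarTower A B C]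
  [Algebra B' C] [IsScalarTower B' B C] [IsScalarTower B' C' C]
  [Algebra.IsPushout A' A B' B] [Algebra.IsPushout A' A C' C]
  {M' M : Type u} [AddCommGroup M'] [Module C' M'] [Module B' M'] [Module A' M']
  [IsScalarTower B' C' M'] [IsScalarTower A' B' M'] [IsScalarTower A' C' M']
  [AddCommGroup M] [Module C M] [Module B M] [Module A M] [IsScalarTower B C M]
  [IsScalarTower A B M] [IsScalarTower A C M]
  [Module C' M] [IsScalarTower C' C M] [Module B' M] [IsScalarTower B' B M]
  [IsScalarTower B' C' M]

set_option maxHeartbeats 3200000 in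
/-- **Ascent of fibre flatness along a base change** `A' → A`: if the fibre of `M'_{P'}` over
`p' = p ∩ A'` is flat over the fibre of `B'` (quotient form), then the fibre of `M_P` over `p` is
flat over the fibre of `B`. No finiteness assumptions. -/
theorem fibreK_flat_of_flat_quotient_tensor_of_baseChange
    (f : M' →ₗ[C'] M) (hf : IsBaseChange C f)
    (p : Ideal A) [p.IsPrime] (P : Ideal C) [P.IsPrime] (hP : P.under A = p)
    (hQ : Module.Flat (B' ⧸ (p.comap (algebraMap A' A)).map (algebraMap A' B'))
      ((B' ⧸ (p.comap (algebraMap A' A)).map (algebraMap A' B')) ⊗[B']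
        LocalizedModule (P.comap (algebraMap C' C)).primeCompl M')) :
    Module.Flat (p.Fiber B) (p.Fiber B ⊗[B] LocalizedModule P.primeCompl M) := by
  -- top-level fibre rings
  letI algFG : Algebra (p.Fiber B) (p.Fiber C) :=
    (fiberMap (B := B) (C := C) p).toRingHom.toAlgebra
  letI algBG : Algebra B (p.Fiber C) :=
    ((algebraMap C (p.Fiber C)).comp (algebraMap B C)).toAlgebra
  haveI tBCG : IsScalarTower B C (p.Fiber C) :=
    IsScalarTower.of_algebraMap_eq (R := B) (S := C) (A := p.Fiber C) (fun _ => rfl)
  haveI tBFG : IsScalarTower B (p.Fiber B) (p.Fiber C) :=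
    IsScalarTower.of_algebraMap_eq (R := B) (S := p.Fiber B) (A := p.Fiber C) (fun b => by
      change (1 : p.ResidueField) ⊗ₜ[A] (algebraMap B C b) =
        fiberMap p ((1 : p.ResidueField) ⊗ₜ[A] b)
      rw [fiberMap_one_tmul])
  haveI tκFG : IsScalarTower p.ResidueField (p.Fiber B) (p.Fiber C) :=
    IsScalarTower.of_algebraMap_eq (R := p.ResidueField) (S := p.Fiber B) (A := p.Fiber C) (fun x => ((fiberMap (B := B) (C := C) p).commutes x).symm)
  haveI tAFG : IsScalarTower A (p.Fiber B) (p.Fiber C) :=
    IsScalarTower.of_algebraMap_eq (R := A) (S := p.Fiber B) (A := p.Fiber C) (fun a => by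
      rw [IsScalarTower.algebraMap_apply A p.ResidueField (p.Fiber C),
        IsScalarTower.algebraMap_apply A p.ResidueField (p.Fiber B),
        ← IsScalarTower.algebraMap_apply p.ResidueField (p.Fiber B) (p.Fiber C)])
  haveI tABG : IsScalarTower A B (p.Fiber C) :=
    IsScalarTower.of_algebraMap_eq (R := A) (S := B) (A := p.Fiber C) (fun a => by
      rw [IsScalarTower.algebraMap_apply A C (p.Fiber C), IsScalarTower.algebraMap_apply A B C,
        ← IsScalarTower.algebraMap_apply B C (p.Fiber C)])
  haveI poBFCG : Algebra.IsPushout B (p.Fiber B) C (p.Fiber C) := by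
    have h : Algebra.IsPushout A p.ResidueField C (p.Fiber C) := inferInstance
    haveI : Algebra.IsPushout A B p.ResidueField (p.Fiber B) := inferInstance
    have h2 : Algebra.IsPushout B C (p.Fiber B) (p.Fiber C) :=
      (Algebra.IsPushout.comp_iff (R := A) (S := B) (R' := p.ResidueField) (S' := p.Fiber B)
        (T := C) (T' := p.Fiber C)).mp h.symm
    exact h2.symm
  -- bottom-level primes
  let p' : Ideal A' := p.comap (algebraMap A' A)
  haveI : p'.IsPrime := Ideal.comap_isPrime _ _
  let P' : Ideal C' := P.comap (algebraMap C' C)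
  haveI : P'.IsPrime := Ideal.comap_isPrime _ _
  -- algebra structures from the bottom level to the top fibre rings
  letI algB'F : Algebra B' (p.Fiber B) :=
    ((algebraMap B (p.Fiber B)).comp (algebraMap B' B)).toAlgebra
  letI algC'G : Algebra C' (p.Fiber C) :=
    ((algebraMap C (p.Fiber C)).comp (algebraMap C' C)).toAlgebra
  letI algB'G : Algebra B' (p.Fiber C) :=
    ((algebraMap B (p.Fiber C)).comp (algebraMap B' B)).toAlgebra
  haveI tA'κF : IsScalarTower A' p.ResidueField (p.Fiber B) := inferInstance
  have hA'F : ∀ a : A', algebraMap A' (p.Fiber B) a = algebraMap A (p.Fiber B) (algebraMap A' A a) := by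
    intro a
    rw [IsScalarTower.algebraMap_apply A' p.ResidueField (p.Fiber B),
      IsScalarTower.algebraMap_apply A p.ResidueField (p.Fiber B)]
    rfl
  haveI tA'BF : IsScalarTower A' B (p.Fiber B) :=
    IsScalarTower.of_algebraMap_eq (R := A') (S := B) (A := p.Fiber B) (fun a => by
      rw [hA'F, IsScalarTower.algebraMap_apply A' A B,
        ← IsScalarTower.algebraMap_apply A B (p.Fiber B)])
  haveI tB'BF : IsScalarTower B' B (p.Fiber B) :=
    IsScalarTower.of_algebraMap_eq (R := B') (S := B) (A := p.Fiber B) (fun _ => rfl)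
  haveI tA'B'F : IsScalarTower A' B' (p.Fiber B) :=
    IsScalarTower.of_algebraMap_eq (R := A') (S := B') (A := p.Fiber B) (fun a => by
      change algebraMap A' (p.Fiber B) a = algebraMap B (p.Fiber B) (algebraMap B' B (algebraMap A' B' a))
      rw [← IsScalarTower.algebraMap_apply A' B' B, ← IsScalarTower.algebraMap_apply A' B (p.Fiber B)])
  haveI poA'κB'F : Algebra.IsPushout A' p.ResidueField B' (p.Fiber B) := by
    have h : Algebra.IsPushout A p.ResidueField B (p.Fiber B) := inferInstance
    exact (Algebra.IsPushout.comp_iff (R := A') (S := A) (R' := B') (S' := B)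
      (T := p.ResidueField) (T' := p.Fiber B)).mpr h
  -- the quotient `A'/p'` and flatness of `κ(p)` over it
  have hkerκ : ∀ a ∈ p', algebraMap A' p.ResidueField a = 0 := by
    intro a ha
    rw [IsScalarTower.algebraMap_apply A' A p.ResidueField]
    exact (Ideal.algebraMap_residueField_eq_zero (I := p)).mpr ha
  -- the quotient `B'/p'B'`
  have hkerF : ∀ b ∈ p'.map (algebraMap A' B'), algebraMap B' (p.Fiber B) b = 0 := by
    intro b hb
    have hle : p'.map (algebraMap A' B') ≤ RingHom.ker (algebraMap B' (p.Fiber B)) := by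
      rw [Ideal.map_le_iff_le_comap]
      intro a ha
      rw [Ideal.mem_comap, RingHom.mem_ker, ← IsScalarTower.algebraMap_apply A' B' (p.Fiber B),
        IsScalarTower.algebraMap_apply A' p.ResidueField (p.Fiber B), hkerκ a ha, map_zero]
    exact hle hb
  letI algEF : Algebra (B' ⧸ p'.map (algebraMap A' B')) (p.Fiber B) :=
    (Ideal.Quotient.lift _ (algebraMap B' (p.Fiber B)) hkerF).toAlgebra
  haveI tB'EF : IsScalarTower B' (B' ⧸ p'.map (algebraMap A' B')) (p.Fiber B) :=
    IsScalarTower.of_algebraMap_eq (R := B') (S := B' ⧸ p'.map (algebraMap A' B'))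
      (A := p.Fiber B) (fun _ => rfl)
  -- the `C`-side
  haveI tC'CG : IsScalarTower C' C (p.Fiber C) :=
    IsScalarTower.of_algebraMap_eq (R := C') (S := C) (A := p.Fiber C) (fun _ => rfl)
  haveI tB'BG : IsScalarTower B' B (p.Fiber C) :=
    IsScalarTower.of_algebraMap_eq (R := B') (S := B) (A := p.Fiber C) (fun _ => rfl)
  haveI tB'FG : IsScalarTower B' (p.Fiber B) (p.Fiber C) :=
    IsScalarTower.of_algebraMap_eq (R := B') (S := p.Fiber B) (A := p.Fiber C) (fun b => by
      change algebraMap B (p.Fiber C) (algebraMap B' B b) =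
        algebraMap (p.Fiber B) (p.Fiber C) (algebraMap B (p.Fiber B) (algebraMap B' B b))
      rw [← IsScalarTower.algebraMap_apply B (p.Fiber B) (p.Fiber C)])
  haveI tB'CG : IsScalarTower B' C (p.Fiber C) :=
    IsScalarTower.of_algebraMap_eq (R := B') (S := C) (A := p.Fiber C) (fun b => by
      change algebraMap B (p.Fiber C) (algebraMap B' B b) = algebraMap C (p.Fiber C) (algebraMap B' C b)
      rw [IsScalarTower.algebraMap_apply B' B C, ← IsScalarTower.algebraMap_apply B C (p.Fiber C)])
  haveI tB'C'G : IsScalarTower B' C' (p.Fiber C) :=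
    IsScalarTower.of_algebraMap_eq (R := B') (S := C') (A := p.Fiber C) (fun b => by
      change algebraMap B' (p.Fiber C) b = algebraMap C (p.Fiber C) (algebraMap C' C (algebraMap B' C' b))
      rw [← IsScalarTower.algebraMap_apply B' C' C, ← IsScalarTower.algebraMap_apply B' C (p.Fiber C)])
  haveI poB' : Algebra.IsPushout A' B' A B := Algebra.IsPushout.symm inferInstance
  haveI tA'BC : IsScalarTower A' B C := IsScalarTower.of_algebraMap_eq (fun x => by
    rw [IsScalarTower.algebraMap_apply A' A C, IsScalarTower.algebraMap_apply A' A B,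
      ← IsScalarTower.algebraMap_apply A B C])
  haveI hPO : Algebra.IsPushout B' B C' C := by
    have hpoC : Algebra.IsPushout A' A C' C := inferInstance
    exact ((Algebra.IsPushout.comp_iff (R := A') (S := B') (R' := A) (S' := B) (T := C')
      (T' := C)).mp hpoC.symm).symm
  haveI poB'FC'G : Algebra.IsPushout B' (p.Fiber B) C' (p.Fiber C) :=
    (Algebra.IsPushout.comp_iff (R := B') (S := B) (R' := C') (S' := C)
      (T := p.Fiber B) (T' := p.Fiber C)).mpr poBFCG
  -- the ascent
  have h1 : Module.Flat (p.Fiber B) (LocalizedModule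
      (Algebra.algebraMapSubmonoid (p.Fiber C) P'.primeCompl) (p.Fiber C ⊗[C'] M')) :=
    flat_localizedModule_tensor_of_flat_tensor (B' := B') (C' := C')
      (E' := B' ⧸ p'.map (algebraMap A' B')) (F := p.Fiber B) (G := p.Fiber C) (M' := M')
      P'.primeCompl hQ
  let e : (p.Fiber C ⊗[C'] M') ≃ₗ[p.Fiber C] (p.Fiber C ⊗[C] M) :=
    (TensorProduct.AlgebraTensorModule.cancelBaseChange C' C (p.Fiber C) (p.Fiber C) M').symm ≪≫ₗ
      (TensorProduct.AlgebraTensorModule.congr (LinearEquiv.refl (p.Fiber C) (p.Fiber C)) hf.equiv)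
  have h2 : Module.Flat (p.Fiber B) (LocalizedModule
      (Algebra.algebraMapSubmonoid (p.Fiber C) P'.primeCompl) (p.Fiber C ⊗[C] M)) :=
    flat_localizedModule_of_linearEquiv e _ h1
  have hle : Algebra.algebraMapSubmonoid (p.Fiber C) P'.primeCompl ≤
      Algebra.algebraMapSubmonoid (p.Fiber C) P.primeCompl := by
    rintro _ ⟨c, hc, rfl⟩
    exact ⟨algebraMap C' C c, hc, rfl⟩
  have h3 : Module.Flat (p.Fiber B) (LocalizedModule
      (Algebra.algebraMapSubmonoid (p.Fiber C) P.primeCompl) (p.Fiber C ⊗[C] M)) :=
    flat_localizedModule_of_le hle h2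
  exact flat_tensor_of_flat_localizedModule_baseChange (B := B) (C := C) (F := p.Fiber B)
    (G := p.Fiber C) (M := M) P.primeCompl h3

omit [IsScalarTower A' B' C'] [Algebra.IsPushout A' A B' B] [Algebra.IsPushout A' A C' C] in
theorem under_comap_eq (p : Ideal A) (P : Ideal C) (hP : P.under A = p) :
    (P.comap (algebraMap C' C)).under A' = p.comap (algebraMap A' A) := by
  rw [← hP]
  ext a
  simp only [Ideal.under, Ideal.mem_comap]
  rw [← IsScalarTower.algebraMap_apply A' C' C, IsScalarTower.algebraMap_apply A' A C]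

set_option maxHeartbeats 3200000 in
/-- **Base change invariance of fibre flatness** (tensor form). -/
theorem fibreK_flat_baseChange_iff
    (f : M' →ₗ[C'] M) (hf : IsBaseChange C f)
    (p : Ideal A) [p.IsPrime] (P : Ideal C) [P.IsPrime] (hP : P.under A = p) :
    Module.Flat (p.Fiber B) (p.Fiber B ⊗[B] LocalizedModule P.primeCompl M) ↔
      Module.Flat ((p.comap (algebraMap A' A)).Fiber B')
        ((p.comap (algebraMap A' A)).Fiber B' ⊗[B']
          LocalizedModule (P.comap (algebraMap C' C)).primeCompl M') := by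
  constructor
  · intro h
    exact Groth.Agent.Lib.H9FCM2.flat_fiber_tensor_of_flat_quotient_tensor
      (p.comap (algebraMap A' A)) _
      (Groth.Agent.Lib.H9FCM4.flat_quotient_tensor_of_fibreK_flat_of_baseChange f hf p P hP h)
  · intro h
    exact fibreK_flat_of_flat_quotient_tensor_of_baseChange f hf p P hP
      (flat_quotient_tensor_of_fibreK_flat (p.comap (algebraMap A' A))
        (P.comap (algebraMap C' C)) (under_comap_eq p P hP) h)

end CoreAbs

end Groth.Agent.Lib.H9FFL1
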