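import Mathlib
import Groth.Agent.Lib.H9FCM4
import Groth.Agent.Lib.H9FCM5
import Groth.Agent.Lib.Helper3FibCritD

/-! Noetherian model of a quadruple (A,B,C,M): exists_quad_of_presentations(_aux), exists_quad_model(_elem) (B, C f.p. over A, M f.p. over C ⇒ model (A₀,B₀,C₀,M₀) with A₀ of finite type over ℤ, pushouts and IsBaseChange) (helper9). -/

set_option autoImplicit false
set_option linter.style.haveILetI false

universe u

namespace Groth.Agent.Lib.H9FFL2

open TensorProduct MvPolynomial Groth.Agent.Lib.Helper3.FlatLoc Groth.Agent.Lib.Helper3.FlatDesc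
  Groth.Agent.Lib.Helper3.FlatOpen Groth.Agent.Lib.Helper3.FibCritA
  Groth.Agent.Lib.Helper3.FibCritC Groth.Agent.Lib.Helper3.FlatModelMod
  Groth.Agent.Lib.Helper3.FibCritD

attribute [local instance] MvPolynomial.algebraMvPolynomial
attribute [local instance] Algebra.TensorProduct.rightAlgebra

section FP

variable {A B C : Type u} [CommRing A] [CommRing B] [CommRing C] [Algebra A B] [Algebra B C]
  [Algebra A C] [IsScalarTower A B C]
  {M : Type u} [AddCommGroup M] [Module C M] [Module B M] [Module A M] [IsScalarTower B C M]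
  [IsScalarTower A B M] [IsScalarTower A C M]

set_option maxHeartbeats 6400000 in
theorem exists_quad_of_presentations_aux
    {Λ A' : Type u} [CommRing Λ] [CommRing A'] [Algebra Λ A'] [Algebra A' A] [Algebra Λ A]
    [IsScalarTower Λ A' A] [Algebra A' B] [IsScalarTower A' A B] [Algebra A' C]
    [IsScalarTower A' A C] [IsNoetherianRing A'] (hA'ft : Algebra.FiniteType ℤ A')
    (hinjA : Function.Injective (algebraMap A' A))
    {n m k r : ℕ}
    (PB : Algebra.Presentation A B (Fin n) (Fin k))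
    (PC : Algebra.Presentation A C (Fin n ⊕ Fin m) (Fin r))
    (hval : ∀ i, PC.val (Sum.inl i) = algebraMap B C (PB.val i))
    [hcB : PB.HasCoeffs A'] [hcC : PC.HasCoeffs A']
    (a' : Fin k → Fin r → MvPolynomial (Fin n ⊕ Fin m) A')
    (hrel' : ∀ j, ∑ l, a' j l * PC.relationOfHasCoeffs A' l =
      rename Sum.inl (PB.relationOfHasCoeffs A' j))
    {k' m' : ℕ} (w : Fin m' → Fin k' → MvPolynomial (Fin n ⊕ Fin m) Λ)
    (relΛ : Fin r → MvPolynomial (Fin n ⊕ Fin m) Λ)
    (hrelΛ : ∀ j, MvPolynomial.map (algebraMap Λ A) (relΛ j) = PC.relation j)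
    (e₂ : ((Fin k' → MvPolynomial (Fin n ⊕ Fin m) A) ⧸
      KT (wAug w relΛ) (MvPolynomial (Fin n ⊕ Fin m) A)) ≃ₗ[A] M)
    (he₂ : ∀ (g : MvPolynomial (Fin n ⊕ Fin m) A) x,
      e₂ (g • x) = (MvPolynomial.aeval PC.val g : C) • e₂ x) :
    ∃ (B₀ : Type u) (_ : CommRing B₀) (_ : Algebra A' B₀) (_ : Algebra B₀ B)
      (_ : IsScalarTower A' B₀ B)
      (C₀ : Type u) (_ : CommRing C₀) (_ : Algebra A' C₀) (_ : Algebra C₀ C)
      (_ : IsScalarTower A' C₀ C)
      (_ : Algebra B₀ C₀) (_ : IsScalarTower A' B₀ C₀) (_ : Algebra B₀ C) (_ : IsScalarTower B₀ B C)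
      (_ : IsScalarTower B₀ C₀ C)
      (M₀ : Type u) (_ : AddCommGroup M₀) (_ : Module C₀ M₀) (_ : Module B₀ M₀) (_ : Module A' M₀)
      (_ : IsScalarTower B₀ C₀ M₀) (_ : IsScalarTower A' B₀ M₀) (_ : IsScalarTower A' C₀ M₀)
      (_ : Module C₀ M) (_ : IsScalarTower C₀ C M) (_ : Module B₀ M) (_ : IsScalarTower B₀ B M)
      (_ : IsScalarTower B₀ C₀ M)
      (f : M₀ →ₗ[C₀] M),
      Algebra.FiniteType A' B₀ ∧ Algebra.FiniteType A' C₀ ∧ Module.Finite C₀ M₀ ∧
        Algebra.IsPushout A' A B₀ B ∧ Algebra.IsPushout A' A C₀ C ∧ IsBaseChange C f ∧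
        ∀ y : MvPolynomial (Fin n ⊕ Fin m) A', ∃ c₀ : C₀,
          algebraMap C₀ C c₀ = (MvPolynomial.aeval PC.val y : C) := by
  classical
  have hinj : Function.Injective (MvPolynomial.map (σ := Fin n ⊕ Fin m) (algebraMap A' A)) :=
    MvPolynomial.map_injective _ hinjA
  -- Step 6: the models
  let B' := PB.ModelOfHasCoeffs A'
  let C' := PC.ModelOfHasCoeffs A'
  haveI : IsNoetherianRing B' := Algebra.FiniteType.isNoetherianRing A' B'
  haveI : IsNoetherianRing C' := Algebra.FiniteType.isNoetherianRing A' C'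
  -- Step 7: `B' → C'`
  let β' : B' →ₐ[A'] C' := Ideal.Quotient.liftₐ _
    ((Ideal.Quotient.mkₐ A' _).comp (rename (R := A') Sum.inl)) (by
      intro g hg
      rw [AlgHom.comp_apply, Ideal.Quotient.mkₐ_eq_mk, Ideal.Quotient.eq_zero_iff_mem]
      induction hg using Submodule.span_induction with
      | mem g hg =>
        obtain ⟨j, rfl⟩ := hg
        rw [← hrel' j]
        exact Ideal.sum_mem _ fun l _ => Ideal.mul_mem_left _ _ (Ideal.subset_span ⟨l, rfl⟩)
      | zero => rw [map_zero]; exact Ideal.zero_mem _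
      | add x y _ _ hx hy => rw [map_add]; exact Ideal.add_mem _ hx hy
      | smul c x _ hx => rw [smul_eq_mul, map_mul]; exact Ideal.mul_mem_left _ _ hx)
  letI algB'C' : Algebra B' C' := β'.toRingHom.toAlgebra
  haveI : IsScalarTower A' B' C' := IsScalarTower.of_algebraMap_eq' β'.comp_algebraMap.symm
  -- Step 8: `B' → B` and `C' → C`
  let γB : B' →ₐ[A'] B := Ideal.Quotient.liftₐ _ (aeval PB.val : MvPolynomial (Fin n) A' →ₐ[A'] B) (by
      intro g hg
      induction hg using Submodule.span_induction with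
      | mem g hg =>
        obtain ⟨j, rfl⟩ := hg
        exact PB.aeval_val_relationOfHasCoeffs A' j
      | zero => rw [map_zero]
      | add x y _ _ hx hy => rw [map_add, hx, hy, add_zero]
      | smul c x _ hx => rw [smul_eq_mul, map_mul, hx, mul_zero])
  let γC : C' →ₐ[A'] C := Ideal.Quotient.liftₐ _
    (aeval PC.val : MvPolynomial (Fin n ⊕ Fin m) A' →ₐ[A'] C) (by
      intro g hg
      induction hg using Submodule.span_induction with
      | mem g hg =>
        obtain ⟨j, rfl⟩ := hg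
        exact PC.aeval_val_relationOfHasCoeffs A' j
      | zero => rw [map_zero]
      | add x y _ _ hx hy => rw [map_add, hx, hy, add_zero]
      | smul c x _ hx => rw [smul_eq_mul, map_mul, hx, mul_zero])
  letI algB'B : Algebra B' B := γB.toRingHom.toAlgebra
  letI algC'C : Algebra C' C := γC.toRingHom.toAlgebra
  haveI : IsScalarTower A' B' B := IsScalarTower.of_algebraMap_eq' γB.comp_algebraMap.symm
  haveI : IsScalarTower A' C' C := IsScalarTower.of_algebraMap_eq' γC.comp_algebraMap.symm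
  haveI poB : Algebra.IsPushout A' A B' B := isPushout_modelOfHasCoeffs PB A' (fun y => rfl)
  haveI poC : Algebra.IsPushout A' A C' C := isPushout_modelOfHasCoeffs PC A' (fun y => rfl)
  -- Step 9: compatibility
  letI algB'C : Algebra B' C := ((algebraMap B C).comp (algebraMap B' B)).toAlgebra
  haveI : IsScalarTower B' B C := IsScalarTower.of_algebraMap_eq (fun _ => rfl)
  haveI : IsScalarTower A' B C := IsScalarTower.of_algebraMap_eq (fun x => by
    rw [IsScalarTower.algebraMap_apply A' A C, IsScalarTower.algebraMap_apply A' A B,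
      ← IsScalarTower.algebraMap_apply A B C])
  haveI : IsScalarTower B' C' C := IsScalarTower.of_algebraMap_eq (fun x => by
    obtain ⟨y, rfl⟩ := Ideal.Quotient.mk_surjective x
    change algebraMap B C (aeval PB.val y) = aeval PC.val (rename Sum.inl y)
    rw [aeval_rename]
    have h2 : (PC.val ∘ Sum.inl) = fun i => algebraMap B C (PB.val i) := funext hval
    rw [h2]
    have h3 := (MvPolynomial.aeval_algebraMap_apply (R := A') (A := B) C PB.val y)
    rw [← h3]
    rfl)
  -- Step 10: the module model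
  let M' := (Fin k' → MvPolynomial (Fin n ⊕ Fin m) A') ⧸
    KT (wAug w relΛ) (MvPolynomial (Fin n ⊕ Fin m) A')
  have hrelA : ∀ j, algebraMap (MvPolynomial (Fin n ⊕ Fin m) Λ)
      (MvPolynomial (Fin n ⊕ Fin m) A') (relΛ j) = PC.relationOfHasCoeffs A' j := by
    intro j
    apply hinj
    rw [MvPolynomial.algebraMap_def, MvPolynomial.map_map, PC.map_relationOfHasCoeffs A' j,
      ← IsScalarTower.algebraMap_eq]
    exact hrelΛ j
  have htors : ∀ (j : Fin r) (x : Fin k' → MvPolynomial (Fin n ⊕ Fin m) A'),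
      PC.relationOfHasCoeffs A' j • x ∈ KT (wAug w relΛ) (MvPolynomial (Fin n ⊕ Fin m) A') := by
    intro j x
    rw [← hrelA j]
    exact smul_mem_KT_wAug w relΛ (MvPolynomial (Fin n ⊕ Fin m) A') j x
  have hM : Module.IsTorsionBySet (MvPolynomial (Fin n ⊕ Fin m) A') M'
      ((Ideal.span (Set.range (PC.relationOfHasCoeffs A')) :
        Ideal (MvPolynomial (Fin n ⊕ Fin m) A')) : Set (MvPolynomial (Fin n ⊕ Fin m) A')) := by
    rw [← Module.isTorsionBySet_iff_is_torsion_by_span]
    rintro x ⟨_, ⟨j, rfl⟩⟩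
    obtain ⟨x, rfl⟩ := Submodule.Quotient.mk_surjective _ x
    change PC.relationOfHasCoeffs A' j • Submodule.Quotient.mk x = 0
    rw [← Submodule.Quotient.mk_smul, Submodule.Quotient.mk_eq_zero]
    exact htors j x
  letI modC'M' : Module C' M' := hM.module
  have hmk_smul : ∀ (g : MvPolynomial (Fin n ⊕ Fin m) A') (x : M'),
      (Ideal.Quotient.mk _ g : C') • x = g • x := fun g x => rfl
  haveI towPC'M' : IsScalarTower (MvPolynomial (Fin n ⊕ Fin m) A') C' M' := hM.isScalarTower
  haveI towA'C'M' : IsScalarTower A' C' M' := hM.isScalarTower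
  letI modB'M' : Module B' M' := Module.compHom M' (algebraMap B' C')
  haveI towB'C'M' : IsScalarTower B' C' M' := ⟨fun b c x => by
    change (b • c) • x = algebraMap B' C' b • (c • x)
    rw [Algebra.smul_def, mul_smul]⟩
  haveI towA'B'M' : IsScalarTower A' B' M' := ⟨fun a b x => by
    change algebraMap B' C' (a • b) • x = a • (algebraMap B' C' b • x)
    rw [show a • b = algebraMap A' B' a * b from Algebra.smul_def a b, map_mul, ← IsScalarTower.algebraMap_apply, mul_smul, algebraMap_smul]⟩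
  haveI : Module.Finite (MvPolynomial (Fin n ⊕ Fin m) A') M' := inferInstance
  haveI finC'M' : Module.Finite C' M' :=
    Module.Finite.of_restrictScalars_finite (MvPolynomial (Fin n ⊕ Fin m) A') C' M'
  -- Step 11: module structures on `M`
  letI modC'M : Module C' M := Module.compHom M (algebraMap C' C)
  haveI towC'CM : IsScalarTower C' C M := ⟨fun c' c x => by
    change (c' • c) • x = algebraMap C' C c' • (c • x)
    rw [Algebra.smul_def, mul_smul]⟩
  letI modB'M : Module B' M := Module.compHom M (algebraMap B' B)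
  haveI towB'BM : IsScalarTower B' B M := ⟨fun b' b x => by
    change (b' • b) • x = algebraMap B' B b' • (b • x)
    rw [Algebra.smul_def, mul_smul]⟩
  haveI towB'C'M : IsScalarTower B' C' M := ⟨fun b' c' x => by
    change algebraMap C' C (b' • c') • x = algebraMap B' B b' • (algebraMap C' C c' • x)
    rw [show b' • c' = algebraMap B' C' b' * c' from Algebra.smul_def b' c', map_mul, mul_smul, ← IsScalarTower.algebraMap_apply B' C' C,
      IsScalarTower.algebraMap_apply B' B C, algebraMap_smul]⟩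
  letI modA'M : Module A' M := Module.compHom M (algebraMap A' A)
  haveI towA'AM : IsScalarTower A' A M := ⟨fun a' a x => by
    change (a' • a) • x = algebraMap A' A a' • (a • x)
    rw [Algebra.smul_def, mul_smul]⟩
  haveI towA'C'M : IsScalarTower A' C' M := ⟨fun a' c' x => by
    change algebraMap C' C (a' • c') • x = algebraMap A' A a' • (algebraMap C' C c' • x)
    rw [show a' • c' = algebraMap A' C' a' * c' from Algebra.smul_def a' c', map_mul, mul_smul, ← IsScalarTower.algebraMap_apply A' C' C,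
      IsScalarTower.algebraMap_apply A' A C, algebraMap_smul]⟩
  -- Step 12: the comparison map
  haveI := isScalarTower_mvPolynomial (σ := Fin n ⊕ Fin m) Λ A' A
  have hb : IsBaseChange A ((Mmap (wAug w relΛ) (MvPolynomial (Fin n ⊕ Fin m) A')
      (MvPolynomial (Fin n ⊕ Fin m) A)).restrictScalars A') :=
    isBaseChange_restrictScalars_of_isPushout _ (isBaseChange_Mmap (wAug w relΛ) _ _)
  have hf₀ : ∀ (g : MvPolynomial (Fin n ⊕ Fin m) A') (x : M'),
      e₂ (Mmap (wAug w relΛ) (MvPolynomial (Fin n ⊕ Fin m) A')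
        (MvPolynomial (Fin n ⊕ Fin m) A) (g • x)) =
      (MvPolynomial.aeval PC.val g : C) • e₂ (Mmap (wAug w relΛ)
        (MvPolynomial (Fin n ⊕ Fin m) A') (MvPolynomial (Fin n ⊕ Fin m) A) x) := by
    intro g x
    rw [map_smul, ← algebraMap_smul (MvPolynomial (Fin n ⊕ Fin m) A) g
      (Mmap (wAug w relΛ) (MvPolynomial (Fin n ⊕ Fin m) A') (MvPolynomial (Fin n ⊕ Fin m) A) x),
      he₂, MvPolynomial.algebraMap_def, MvPolynomial.aeval_map_algebraMap]
  let f : M' →ₗ[C'] M :=
    { toFun := fun x => e₂ (Mmap (wAug w relΛ) (MvPolynomial (Fin n ⊕ Fin m) A')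
        (MvPolynomial (Fin n ⊕ Fin m) A) x)
      map_add' := fun x y => by rw [map_add, map_add]
      map_smul' := by
        intro s₀ x
        obtain ⟨g, rfl⟩ := Ideal.Quotient.mk_surjective s₀
        rw [hmk_smul, hf₀]
        rfl }
  have hfb : IsBaseChange A (f.restrictScalars A') := by
    refine IsBaseChange.of_equiv (hb.equiv ≪≫ₗ e₂) fun x => ?_
    rw [LinearEquiv.trans_apply, IsBaseChange.equiv_tmul, one_smul]
    rfl
  have hf : IsBaseChange C f := isBaseChange_of_isPushout f hfb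
  exact ⟨B', inferInstance, inferInstance, algB'B, inferInstance, C', inferInstance, inferInstance,
    algC'C, inferInstance, algB'C', inferInstance, algB'C, inferInstance, inferInstance,
    M', inferInstance, modC'M', modB'M', inferInstance, towB'C'M', towA'B'M', towA'C'M',
    modC'M, towC'CM, modB'M, towB'BM, towB'C'M, f, inferInstance, inferInstance, finC'M',
    poB, poC, hf, fun y => ⟨Ideal.Quotient.mk _ y, rfl⟩⟩

set_option maxHeartbeats 6400000 in
theorem exists_quad_of_presentations {n m k r : ℕ}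
    (PB : Algebra.Presentation A B (Fin n) (Fin k))
    (PC : Algebra.Presentation A C (Fin n ⊕ Fin m) (Fin r))
    (hval : ∀ i, PC.val (Sum.inl i) = algebraMap B C (PB.val i))
    [Module.FinitePresentation C M] (T : Finset C) :
    ∃ (A₀ : Type u) (_ : CommRing A₀) (_ : Algebra A₀ A) (_ : Algebra A₀ B)
      (_ : IsScalarTower A₀ A B) (_ : Algebra A₀ C) (_ : IsScalarTower A₀ A C),
      Algebra.FiniteType ℤ A₀ ∧ ∃ (B₀ : Type u) (_ : CommRing B₀) (_ : Algebra A₀ B₀) (_ : Algebra B₀ B)
      (_ : IsScalarTower A₀ B₀ B)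
      (C₀ : Type u) (_ : CommRing C₀) (_ : Algebra A₀ C₀) (_ : Algebra C₀ C)
      (_ : IsScalarTower A₀ C₀ C)
      (_ : Algebra B₀ C₀) (_ : IsScalarTower A₀ B₀ C₀) (_ : Algebra B₀ C) (_ : IsScalarTower B₀ B C)
      (_ : IsScalarTower B₀ C₀ C)
      (M₀ : Type u) (_ : AddCommGroup M₀) (_ : Module C₀ M₀) (_ : Module B₀ M₀) (_ : Module A₀ M₀)
      (_ : IsScalarTower B₀ C₀ M₀) (_ : IsScalarTower A₀ B₀ M₀) (_ : IsScalarTower A₀ C₀ M₀)
      (_ : Module C₀ M) (_ : IsScalarTower C₀ C M) (_ : Module B₀ M) (_ : IsScalarTower B₀ B M)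
      (_ : IsScalarTower B₀ C₀ M)
      (f : M₀ →ₗ[C₀] M),
      Algebra.FiniteType A₀ B₀ ∧ Algebra.FiniteType A₀ C₀ ∧ Module.Finite C₀ M₀ ∧
        Algebra.IsPushout A₀ A B₀ B ∧ Algebra.IsPushout A₀ A C₀ C ∧ IsBaseChange C f ∧
        (T : Set C) ⊆ Set.range (algebraMap C₀ C) := by
  classical
  -- Step 1: the relations of `B` are combinations of the relations of `C`
  have hrel : ∀ j : Fin k, ∃ a : Fin r → MvPolynomial (Fin n ⊕ Fin m) A,
      ∑ l, a l * PC.relation l = rename Sum.inl (PB.relation j) := by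
    intro j
    apply (Ideal.mem_span_range_iff_exists_fun (R := MvPolynomial (Fin n ⊕ Fin m) A)).mp
    rw [PC.span_range_relation_eq_ker, PC.ker_eq_ker_aeval_val, RingHom.mem_ker]
    rw [aeval_rename]
    have h2 : (PC.val ∘ Sum.inl) = fun i => algebraMap B C (PB.val i) := funext hval
    rw [h2]
    have h3 : aeval (fun i => algebraMap B C (PB.val i)) (PB.relation j) =
        algebraMap B C (aeval PB.val (PB.relation j)) := by
      rw [← MvPolynomial.aeval_algebraMap_apply]
      rfl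
    rw [h3, PB.aeval_val_relation, map_zero]
  choose a ha using hrel
  -- Step 2: `M` as a module over the polynomial ring
  let φ : MvPolynomial (Fin n ⊕ Fin m) A →ₐ[A] C := MvPolynomial.aeval PC.val
  have hφsurj : Function.Surjective φ := PC.aeval_val_surjective
  have hφker : RingHom.ker φ.toRingHom = Ideal.span (Set.range PC.relation) := by
    rw [PC.span_range_relation_eq_ker]
    ext x
    rw [RingHom.mem_ker]
    change _ ↔ algebraMap PC.Ring C x = 0
    rw [Algebra.Generators.algebraMap_apply]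
    rfl
  letI algPC : Algebra (MvPolynomial (Fin n ⊕ Fin m) A) C := inferInstanceAs (Algebra PC.Ring C)
  haveI : IsScalarTower A (MvPolynomial (Fin n ⊕ Fin m) A) C :=
    inferInstanceAs (IsScalarTower A PC.Ring C)
  have hsurj : Function.Surjective (algebraMap PC.Ring C) := PC.algebraMap_surjective
  have halg : ∀ x : MvPolynomial (Fin n ⊕ Fin m) A,
      algebraMap (MvPolynomial (Fin n ⊕ Fin m) A) C x = φ x := fun x => by
    change algebraMap PC.Ring C x = _
    rw [Algebra.Generators.algebraMap_apply]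
  letI modPM : Module (MvPolynomial (Fin n ⊕ Fin m) A) M :=
    Module.compHom M (algebraMap (MvPolynomial (Fin n ⊕ Fin m) A) C)
  haveI towPCM : IsScalarTower (MvPolynomial (Fin n ⊕ Fin m) A) C M :=
    ⟨fun x s y => by
      rw [Algebra.smul_def, mul_smul]
      rfl⟩
  haveI towAPM : IsScalarTower A (MvPolynomial (Fin n ⊕ Fin m) A) M :=
    ⟨fun c x y => by
      change algebraMap (MvPolynomial (Fin n ⊕ Fin m) A) C (c • x) • y =
        c • (algebraMap (MvPolynomial (Fin n ⊕ Fin m) A) C x • y)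
      rw [halg, halg, map_smul, smul_assoc]⟩
  haveI : Module.FinitePresentation (MvPolynomial (Fin n ⊕ Fin m) A) C := by
    refine Module.finitePresentation_of_surjective
      (Algebra.linearMap (MvPolynomial (Fin n ⊕ Fin m) A) C) hsurj ?_
    have : LinearMap.ker (Algebra.linearMap (MvPolynomial (Fin n ⊕ Fin m) A) C) =
        (RingHom.ker φ.toRingHom).restrictScalars _ := by
      ext x
      change algebraMap (MvPolynomial (Fin n ⊕ Fin m) A) C x = 0 ↔ φ x = 0
      rw [halg]
    rw [this, hφker]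
    exact ⟨Finset.univ.image PC.relation, by simp⟩
  haveI : Module.FinitePresentation (MvPolynomial (Fin n ⊕ Fin m) A) M :=
    Module.FinitePresentation.trans (MvPolynomial (Fin n ⊕ Fin m) A) M C
  obtain ⟨k', m', Λ, hΛ, w, relΛ, hrelΛ, ⟨e⟩⟩ :=
    Groth.Agent.Lib.H9FCM5.exists_model_equiv_sigma (M := M) PC.relation
  haveI : Algebra.FiniteType ℤ Λ := (Subalgebra.fg_iff_finiteType Λ).1 hΛ
  haveI : IsNoetherianRing Λ := Algebra.FiniteType.isNoetherianRing ℤ Λ
  -- the relations act by zero on the model over `A`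
  have hφrel : ∀ j, φ (PC.relation j) = 0 := fun j => PC.aeval_val_relation j
  have hzero : ∀ (j : Fin r) (x : Fin k' → MvPolynomial (Fin n ⊕ Fin m) A),
      algebraMap (MvPolynomial (Fin n ⊕ Fin m) Λ) (MvPolynomial (Fin n ⊕ Fin m) A) (relΛ j) • x ∈
        KT w (MvPolynomial (Fin n ⊕ Fin m) A) := by
    intro j x
    rw [← Submodule.Quotient.mk_eq_zero, Submodule.Quotient.mk_smul]
    apply e.injective
    rw [map_smul, map_zero, MvPolynomial.algebraMap_def, hrelΛ]
    change algebraMap (MvPolynomial (Fin n ⊕ Fin m) A) C (PC.relation j) •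
      e (Submodule.Quotient.mk x) = (0 : M)
    rw [halg, hφrel, zero_smul]
  have hKT : KT (wAug w relΛ) (MvPolynomial (Fin n ⊕ Fin m) A) =
      KT w (MvPolynomial (Fin n ⊕ Fin m) A) := KT_wAug_eq w relΛ _ hzero
  let e₂ : ((Fin k' → MvPolynomial (Fin n ⊕ Fin m) A) ⧸
      KT (wAug w relΛ) (MvPolynomial (Fin n ⊕ Fin m) A)) ≃ₗ[
      MvPolynomial (Fin n ⊕ Fin m) A] M := (Submodule.quotEquivOfEq _ _ hKT) ≪≫ₗ e
  have hT : ∀ t : C, ∃ y : MvPolynomial (Fin n ⊕ Fin m) A, φ y = t := fun t => hφsurj t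
  choose yT hyT using hT
  let extra : Finset A := ((Finset.univ.biUnion fun j => (PB.relation j).coeffs) ∪
    (Finset.univ.biUnion fun j => Finset.univ.biUnion fun l => (a j l).coeffs)) ∪
    (T.biUnion fun t => (yT t).coeffs)
  obtain ⟨A', hA'fg, hextra⟩ : ∃ A' : Subalgebra Λ A, A'.FG ∧ (extra : Set A) ⊆ A' :=
    ⟨Algebra.adjoin Λ (extra : Set A), Subalgebra.fg_adjoin_finset extra, Algebra.subset_adjoin⟩
  -- Step 5: instances on `A'`
  haveI : Algebra.FiniteType Λ A' := (Subalgebra.fg_iff_finiteType A').mp hA'fg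
  haveI : IsNoetherianRing A' := Algebra.FiniteType.isNoetherianRing Λ A'
  haveI hcΛ : PC.HasCoeffs Λ := by
    refine ⟨?_⟩
    intro c hc
    rw [Algebra.Presentation.coeffs, Set.mem_iUnion] at hc
    obtain ⟨j, hj⟩ := hc
    have hmem : PC.relation j ∈ Set.range (MvPolynomial.map (algebraMap Λ A)) :=
      ⟨relΛ j, hrelΛ j⟩
    rw [MvPolynomial.mem_range_map_iff_coeffs_subset] at hmem
    exact hmem hj
  haveI hcC : PC.HasCoeffs A' := Algebra.Presentation.HasCoeffs.of_isScalarTower Λ
  have hmemA' : ∀ c ∈ extra, c ∈ A' := fun c hc => hextra hc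
  haveI hcB : PB.HasCoeffs A' := ⟨by
    intro c hc
    obtain ⟨j, hj⟩ := Set.mem_iUnion.mp hc
    refine ⟨⟨c, hmemA' c ?_⟩, rfl⟩
    exact Finset.mem_union_left _ (Finset.mem_union_left _
      (Finset.mem_biUnion.mpr ⟨j, Finset.mem_univ j, hj⟩))⟩
  -- lifts of the coefficients `a j l`
  have hal : ∀ j l, ∃ f : MvPolynomial (Fin n ⊕ Fin m) A', MvPolynomial.map (algebraMap A' A) f = a j l := by
    intro j l
    apply MvPolynomial.mem_range_map_iff_coeffs_subset.mpr
    intro c hc
    refine ⟨⟨c, hmemA' c ?_⟩, rfl⟩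
    exact Finset.mem_union_left _ (Finset.mem_union_right _ (Finset.mem_biUnion.mpr
      ⟨j, Finset.mem_univ j, Finset.mem_biUnion.mpr ⟨l, Finset.mem_univ l, hc⟩⟩))
  choose a' ha' using hal
  have hinj : Function.Injective (MvPolynomial.map (σ := Fin n ⊕ Fin m) (algebraMap A' A)) :=
    MvPolynomial.map_injective _ Subtype.val_injective
  have hrel' : ∀ j, ∑ l, a' j l * PC.relationOfHasCoeffs A' l =
      rename Sum.inl (PB.relationOfHasCoeffs A' j) := by
    intro j
    apply hinj
    rw [map_sum, MvPolynomial.map_rename, PB.map_relationOfHasCoeffs, ← ha j]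
    refine Finset.sum_congr rfl fun l _ => ?_
    rw [map_mul, ha', PC.map_relationOfHasCoeffs]
  -- Step 6: apply the model-level statement
  have he₂ : ∀ (g : MvPolynomial (Fin n ⊕ Fin m) A) x,
      (e₂.restrictScalars A) (g • x) = (MvPolynomial.aeval PC.val g : C) • (e₂.restrictScalars A) x := by
    intro g x
    change e₂ (g • x) = _ • e₂ x
    rw [map_smul]
    change algebraMap (MvPolynomial (Fin n ⊕ Fin m) A) C g • e₂ x = _
    rw [halg]
  have hA'ft : Algebra.FiniteType ℤ A' := Algebra.FiniteType.trans (S := Λ) inferInstance inferInstance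
  -- lifts of the polynomials representing the elements of `T`
  have hyl : ∀ t ∈ T, ∃ y' : MvPolynomial (Fin n ⊕ Fin m) A',
      MvPolynomial.map (algebraMap A' A) y' = yT t := by
    intro t ht
    apply MvPolynomial.mem_range_map_iff_coeffs_subset.mpr
    intro c hc
    refine ⟨⟨c, hmemA' c ?_⟩, rfl⟩
    exact Finset.mem_union_right _ (Finset.mem_biUnion.mpr ⟨t, ht, hc⟩)
  obtain ⟨B₀, i1, i2, i3, i4, C₀, i5, i6, i7, i8, i9, i10, i11, i12, i13, M₀, i14, i15, i16, i17,
    i18, i19, i20, i21, i22, i23, i24, i25, f, h1, h2, h3, h4, h5, h6, h7⟩ :=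
    exists_quad_of_presentations_aux (Λ := Λ) (A' := A') hA'ft Subtype.val_injective
      PB PC hval a' hrel' w relΛ hrelΛ (e₂.restrictScalars A) he₂
  refine ⟨A', inferInstance, inferInstance, inferInstance, inferInstance, inferInstance,
    inferInstance, hA'ft, B₀, i1, i2, i3, i4, C₀, i5, i6, i7, i8, i9, i10, i11, i12, i13, M₀, i14,
    i15, i16, i17, i18, i19, i20, i21, i22, i23, i24, i25, f, h1, h2, h3, h4, h5, h6, ?_⟩
  intro t ht
  obtain ⟨y', hy'⟩ := hyl t ht
  obtain ⟨c₀, hc₀⟩ := h7 y'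
  refine ⟨c₀, ?_⟩
  rw [hc₀, ← hyT t, ← hy']
  exact (MvPolynomial.aeval_map_algebraMap (R := A') A PC.val y').symm

set_option maxHeartbeats 3200000 in
/-- Noetherian model of a quadruple `(A, B, C, M)` keeping a finite set of elements of `C`: with `B`, `C` finitely presented over `A` and `M`
finitely presented over `C`. -/
theorem exists_quad_model_elem [Algebra.FinitePresentation A B] [Algebra.FinitePresentation A C]
    [Module.FinitePresentation C M] (T : Finset C) :
    ∃ (A₀ : Type u) (_ : CommRing A₀) (_ : Algebra A₀ A) (_ : Algebra A₀ B)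
      (_ : IsScalarTower A₀ A B) (_ : Algebra A₀ C) (_ : IsScalarTower A₀ A C),
      Algebra.FiniteType ℤ A₀ ∧ ∃ (B₀ : Type u) (_ : CommRing B₀) (_ : Algebra A₀ B₀) (_ : Algebra B₀ B)
      (_ : IsScalarTower A₀ B₀ B)
      (C₀ : Type u) (_ : CommRing C₀) (_ : Algebra A₀ C₀) (_ : Algebra C₀ C)
      (_ : IsScalarTower A₀ C₀ C)
      (_ : Algebra B₀ C₀) (_ : IsScalarTower A₀ B₀ C₀) (_ : Algebra B₀ C) (_ : IsScalarTower B₀ B C)
      (_ : IsScalarTower B₀ C₀ C)
      (M₀ : Type u) (_ : AddCommGroup M₀) (_ : Module C₀ M₀) (_ : Module B₀ M₀) (_ : Module A₀ M₀)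
      (_ : IsScalarTower B₀ C₀ M₀) (_ : IsScalarTower A₀ B₀ M₀) (_ : IsScalarTower A₀ C₀ M₀)
      (_ : Module C₀ M) (_ : IsScalarTower C₀ C M) (_ : Module B₀ M) (_ : IsScalarTower B₀ B M)
      (_ : IsScalarTower B₀ C₀ M)
      (f : M₀ →ₗ[C₀] M),
      Algebra.FiniteType A₀ B₀ ∧ Algebra.FiniteType A₀ C₀ ∧ Module.Finite C₀ M₀ ∧
        Algebra.IsPushout A₀ A B₀ B ∧ Algebra.IsPushout A₀ A C₀ C ∧ IsBaseChange C f ∧
        (T : Set C) ⊆ Set.range (algebraMap C₀ C) := by
  classical
  obtain ⟨n, f, hf⟩ := Algebra.FiniteType.iff_quotient_mvPolynomial''.mp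
    (inferInstance : Algebra.FiniteType A B)
  obtain ⟨m, fC, hfC⟩ := Algebra.FiniteType.iff_quotient_mvPolynomial''.mp
    (inferInstance : Algebra.FiniteType A C)
  let vB : Fin n → B := fun i => f (X i)
  have hvB : Function.Surjective (aeval (R := A) vB) := by
    intro b
    obtain ⟨y, rfl⟩ := hf b
    exact ⟨y, (DFunLike.congr_fun (MvPolynomial.aeval_unique f) y).symm⟩
  let GB : Algebra.Generators A B (Fin n) := Algebra.Generators.ofSurjective vB hvB
  have hkerB : GB.ker.FG := GB.fg_ker_of_finitePresentation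
  obtain ⟨k, relB, hrelB⟩ := exists_fin_span_eq GB.ker hkerB
  let PB : Algebra.Presentation A B (Fin n) (Fin k) :=
    { toGenerators := GB, relation := relB, span_range_relation_eq_ker := hrelB }
  let vC : Fin n ⊕ Fin m → C :=
    Sum.elim (fun i => algebraMap B C (f (X i))) (fun j => fC (X j))
  have hvC : Function.Surjective (aeval (R := A) vC) := by
    intro c
    obtain ⟨y, rfl⟩ := hfC c
    refine ⟨rename Sum.inr y, ?_⟩
    rw [aeval_rename]
    have : (vC ∘ Sum.inr) = fun j => fC (X j) := rfl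
    rw [this]
    exact (DFunLike.congr_fun (MvPolynomial.aeval_unique fC) y).symm
  let GC : Algebra.Generators A C (Fin n ⊕ Fin m) := Algebra.Generators.ofSurjective vC hvC
  have hker : GC.ker.FG := GC.fg_ker_of_finitePresentation
  obtain ⟨r, rel, hrel⟩ := exists_fin_span_eq GC.ker hker
  let PC : Algebra.Presentation A C (Fin n ⊕ Fin m) (Fin r) :=
    { toGenerators := GC, relation := rel, span_range_relation_eq_ker := hrel }
  have hval : ∀ i, PC.val (Sum.inl i) = algebraMap B C (PB.val i) := fun i => rfl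
  exact exists_quad_of_presentations PB PC hval T


set_option maxHeartbeats 3200000 in
/-- Noetherian model of a quadruple `(A, B, C, M)` with `B`, `C` finitely presented over `A` and `M`
finitely presented over `C`. -/
theorem exists_quad_model [Algebra.FinitePresentation A B] [Algebra.FinitePresentation A C]
    [Module.FinitePresentation C M] :
    ∃ (A₀ : Type u) (_ : CommRing A₀) (_ : Algebra A₀ A) (_ : Algebra A₀ B)
      (_ : IsScalarTower A₀ A B) (_ : Algebra A₀ C) (_ : IsScalarTower A₀ A C),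
      Algebra.FiniteType ℤ A₀ ∧ ∃ (B₀ : Type u) (_ : CommRing B₀) (_ : Algebra A₀ B₀) (_ : Algebra B₀ B)
      (_ : IsScalarTower A₀ B₀ B)
      (C₀ : Type u) (_ : CommRing C₀) (_ : Algebra A₀ C₀) (_ : Algebra C₀ C)
      (_ : IsScalarTower A₀ C₀ C)
      (_ : Algebra B₀ C₀) (_ : IsScalarTower A₀ B₀ C₀) (_ : Algebra B₀ C) (_ : IsScalarTower B₀ B C)
      (_ : IsScalarTower B₀ C₀ C)
      (M₀ : Type u) (_ : AddCommGroup M₀) (_ : Module C₀ M₀) (_ : Module B₀ M₀) (_ : Module A₀ M₀)
      (_ : IsScalarTower B₀ C₀ M₀) (_ : IsScalarTower A₀ B₀ M₀) (_ : IsScalarTower A₀ C₀ M₀)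
      (_ : Module C₀ M) (_ : IsScalarTower C₀ C M) (_ : Module B₀ M) (_ : IsScalarTower B₀ B M)
      (_ : IsScalarTower B₀ C₀ M)
      (f : M₀ →ₗ[C₀] M),
      Algebra.FiniteType A₀ B₀ ∧ Algebra.FiniteType A₀ C₀ ∧ Module.Finite C₀ M₀ ∧
        Algebra.IsPushout A₀ A B₀ B ∧ Algebra.IsPushout A₀ A C₀ C ∧ IsBaseChange C f := by
  obtain ⟨A₀, j1, j2, j3, j4, j5, j6, hA₀, B₀, i1, i2, i3, i4, C₀, i5, i6, i7, i8, i9, i10, i11, i12,
    i13, M₀, i14, i15, i16, i17, i18, i19, i20, i21, i22, i23, i24, i25, f, h1, h2, h3, h4, h5, h6,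
    -⟩ := exists_quad_model_elem (A := A) (B := B) (C := C) (M := M) ∅
  exact ⟨A₀, j1, j2, j3, j4, j5, j6, hA₀, B₀, i1, i2, i3, i4, C₀, i5, i6, i7, i8, i9, i10, i11, i12,
    i13, M₀, i14, i15, i16, i17, i18, i19, i20, i21, i22, i23, i24, i25, f, h1, h2, h3, h4, h5, h6⟩

end FP

end Groth.Agent.Lib.H9FFL2
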