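import Mathlib
import Groth.Agent.Lib.H9FFL1
import Groth.Agent.Lib.H9FCM7
import Groth.Agent.Lib.Helper2GenFree
import Groth.Agent.Lib.Helper11GenFlat
import Groth.Agent.Lib.Helper5LocusGeneric
import Groth.Agent.Lib.Helper3FlatOpenNoeth

/-! Fibrewise flat locus FFK A B C M ⊆ Spec C (primes P with κ(p)⊗M_P flat over κ(p)⊗B): ffk_tensor (base change), mem_ffk_iff_flat (critère par fibres), exists_isOpen_ffk_inter (generic openness), isConstructible_ffk_noeth (helper9). -/

set_option autoImplicit false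
set_option linter.style.haveILetI false
set_option linter.unusedSectionVars false

universe u

namespace Groth.Agent.Lib.H9FFL3

open TensorProduct Topology

attribute [local instance] Algebra.TensorProduct.rightAlgebra

/-- The fibrewise flat locus: primes `P` of `C` such that the fibre of `M_P` over `p = P ∩ A` is
flat over the fibre of `B`. -/
def FFK (A B C M : Type u) [CommRing A] [CommRing B] [CommRing C] [Algebra A B] [Algebra B C]
    [Algebra A C] [AddCommGroup M] [Module C M] [Module B M] [IsScalarTower B C M] :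
    Set (PrimeSpectrum C) :=
  {P | Module.Flat ((P.asIdeal.under A).Fiber B)
    ((P.asIdeal.under A).Fiber B ⊗[B] LocalizedModule P.asIdeal.primeCompl M)}

section Tensor

variable (A A₁ B C : Type u) [CommRing A] [CommRing A₁] [CommRing B] [CommRing C]
  [Algebra A A₁] [Algebra A B] [Algebra B C] [Algebra A C] [IsScalarTower A B C]

/-- `A₁ ⊗ B → A₁ ⊗ C`. -/
noncomputable def tmap : A₁ ⊗[A] B →ₐ[A₁] A₁ ⊗[A] C :=
  Algebra.TensorProduct.map (AlgHom.id A₁ A₁) (IsScalarTower.toAlgHom A B C)

/-- the algebra structure `A₁ ⊗ B → A₁ ⊗ C`. -/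
noncomputable def tAlg : Algebra (A₁ ⊗[A] B) (A₁ ⊗[A] C) := (tmap A A₁ B C).toRingHom.toAlgebra

/-- the algebra structure `B → A₁ ⊗ C`. -/
noncomputable def tAlgB : Algebra B (A₁ ⊗[A] C) :=
  ((algebraMap C (A₁ ⊗[A] C)).comp (algebraMap B C)).toAlgebra

attribute [local instance 10] tAlg tAlgB

theorem tAlg_tmul (x : A₁) (b : B) :
    algebraMap (A₁ ⊗[A] B) (A₁ ⊗[A] C) (x ⊗ₜ[A] b) = x ⊗ₜ[A] algebraMap B C b := by
  change tmap A A₁ B C (x ⊗ₜ[A] b) = _
  simp [tmap]

instance tTow1 : IsScalarTower A₁ (A₁ ⊗[A] B) (A₁ ⊗[A] C) :=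
  IsScalarTower.of_algebraMap_eq' (tmap A A₁ B C).comp_algebraMap.symm

instance tTow2 : IsScalarTower B C (A₁ ⊗[A] C) :=
  IsScalarTower.of_algebraMap_eq (fun _ => rfl)

instance tTow3 : IsScalarTower B (A₁ ⊗[A] B) (A₁ ⊗[A] C) :=
  IsScalarTower.of_algebraMap_eq (fun b => by
    change (1 : A₁) ⊗ₜ[A] algebraMap B C b =
      algebraMap (A₁ ⊗[A] B) (A₁ ⊗[A] C) ((1 : A₁) ⊗ₜ[A] b)
    rw [tAlg_tmul])

variable (M : Type u) [AddCommGroup M] [Module C M] [Module B M] [Module A M]
  [IsScalarTower B C M] [IsScalarTower A B M] [IsScalarTower A C M]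

omit [IsScalarTower A B C] in
theorem flat_fiber_congr {q q' : Ideal A} [q.IsPrime] [q'.IsPrime] (h : q = q')
    (X : Type u) [AddCommGroup X] [Module B X] :
    Module.Flat (q.Fiber B) (q.Fiber B ⊗[B] X) ↔ Module.Flat (q'.Fiber B) (q'.Fiber B ⊗[B] X) := by
  subst h
  rfl

set_option maxHeartbeats 1600000 in
/-- **Base change of the fibrewise flat locus** (tensor form). -/
theorem ffk_tensor :
    FFK A₁ (A₁ ⊗[A] B) (A₁ ⊗[A] C) ((A₁ ⊗[A] C) ⊗[C] M) =
      PrimeSpectrum.comap (algebraMap C (A₁ ⊗[A] C)) ⁻¹' FFK A B C M := by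
  ext P
  simp only [FFK, Set.mem_setOf_eq, Set.mem_preimage]
  have key := Groth.Agent.Lib.H9FFL1.fibreK_flat_baseChange_iff (A' := A) (A := A₁) (B' := B)
    (B := A₁ ⊗[A] B) (C' := C) (C := A₁ ⊗[A] C) (M' := M) (M := (A₁ ⊗[A] C) ⊗[C] M)
    (TensorProduct.mk C (A₁ ⊗[A] C) M 1) (TensorProduct.isBaseChange C M (A₁ ⊗[A] C))
    (P.asIdeal.under A₁) P.asIdeal rfl
  rw [key]
  have he : (P.asIdeal.under A₁).comap (algebraMap A A₁) =
      ((PrimeSpectrum.comap (algebraMap C (A₁ ⊗[A] C)) P).asIdeal).under A := by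
    ext a
    simp only [Ideal.under, Ideal.mem_comap, PrimeSpectrum.comap_asIdeal]
    rw [← IsScalarTower.algebraMap_apply A A₁ (A₁ ⊗[A] C),
      ← IsScalarTower.algebraMap_apply A C (A₁ ⊗[A] C)]
  exact flat_fiber_congr A B he _

end Tensor

section Crit

variable (A B C M : Type u) [CommRing A] [CommRing B] [CommRing C] [Algebra A B] [Algebra B C]
  [Algebra A C] [IsScalarTower A B C]
  [AddCommGroup M] [Module C M] [Module B M] [Module A M] [IsScalarTower B C M]
  [IsScalarTower A B M] [IsScalarTower A C M]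

/-- On the locus where `M` is flat over the base, fibrewise flatness is relative flatness. -/
theorem mem_ffk_iff_flat [Algebra.FiniteType A B] [Algebra.FinitePresentation A C]
    [Module.FinitePresentation C M] (P : PrimeSpectrum C)
    (h1 : Module.Flat A (LocalizedModule P.asIdeal.primeCompl M)) :
    P ∈ FFK A B C M ↔ Module.Flat B (LocalizedModule P.asIdeal.primeCompl M) := by
  constructor
  · intro h
    exact Groth.Agent.Lib.H9FCM7.flat_of_fibreK_flat (P.asIdeal.under A) P.asIdeal rfl h h1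
  · intro h
    haveI := h
    change Module.Flat ((P.asIdeal.under A).Fiber B)
      ((P.asIdeal.under A).Fiber B ⊗[B] LocalizedModule P.asIdeal.primeCompl M)
    infer_instance

end Crit

section Noeth

open Groth.Agent.Lib.Helper5.LocusGeneric Groth.Agent.Lib.Helper3.FlatLoc
  Groth.Agent.Lib.Helper3.FlatOpen

section Upper

variable (A B C M : Type u) [CommRing A] [CommRing B] [CommRing C] [Algebra A B] [Algebra B C]
  [Algebra A C] [IsScalarTower A B C]
  [AddCommGroup M] [Module C M] [Module B M] [Module A M] [IsScalarTower B C M]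
  [IsScalarTower A B M] [IsScalarTower A C M]

set_option maxHeartbeats 1600000 in
/-- Over a Noetherian domain the fibrewise flat locus is open over a nonempty open of the base. -/
theorem exists_isOpen_ffk_inter [IsDomain A] [IsNoetherianRing A] [Algebra.FiniteType A B]
    [Algebra.FiniteType A C] [Module.Finite C M] :
    ∃ g : A, g ≠ 0 ∧ IsOpen (FFK A B C M ∩
      {P : PrimeSpectrum C | algebraMap A C g ∉ P.asIdeal}) := by
  haveI : IsNoetherianRing B := Algebra.FiniteType.isNoetherianRing A B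
  haveI : IsNoetherianRing C := Algebra.FiniteType.isNoetherianRing A C
  haveI : Algebra.FinitePresentation A C :=
    Algebra.FinitePresentation.of_finiteType.mp inferInstance
  haveI : Module.FinitePresentation C M := Module.finitePresentation_of_finite C M
  haveI : Algebra.FiniteType B C := Algebra.FiniteType.of_restrictScalars_finiteType A B C
  obtain ⟨g, hg0, -, hfree, -, -⟩ := Groth.Agent.Lib.Helper2.GenFree.exists_freeAway A C M
  refine ⟨g, hg0, ?_⟩
  have hflatA : ∀ P : PrimeSpectrum C, algebraMap A C g ∉ P.asIdeal →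
      Module.Flat A (LocalizedModule P.asIdeal.primeCompl M) := by
    intro P hP
    haveI : IsLocalizedModule (Submonoid.powers g)
        ((LocalizedModule.mkLinearMap (Submonoid.powers (algebraMap A C g)) M).restrictScalars A) :=
      IsLocalizedModule.restrictScalars_powers g
        (LocalizedModule.mkLinearMap (Submonoid.powers (algebraMap A C g)) M)
    have h0 : Module.Flat A (LocalizedModule (Submonoid.powers (algebraMap A C g)) M) :=
      Groth.Agent.Lib.Helper11GenFlat.flat_of_freeAway hfree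
        ((LocalizedModule.mkLinearMap (Submonoid.powers (algebraMap A C g)) M).restrictScalars A)
    refine flat_localizedModule_of_le ?_ h0
    rw [Submonoid.powers_le]
    exact hP
  have hRF : IsOpen {P : PrimeSpectrum C |
      Module.Flat B (LocalizedModule P.asIdeal.primeCompl M)} :=
    isOpen_flatLocus_of_isNoetherianRing
  have hD : IsOpen {P : PrimeSpectrum C | algebraMap A C g ∉ P.asIdeal} :=
    (PrimeSpectrum.basicOpen (algebraMap A C g)).isOpen
  have heq : FFK A B C M ∩ {P : PrimeSpectrum C | algebraMap A C g ∉ P.asIdeal} =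
      {P : PrimeSpectrum C | Module.Flat B (LocalizedModule P.asIdeal.primeCompl M)} ∩
        {P : PrimeSpectrum C | algebraMap A C g ∉ P.asIdeal} := by
    ext P
    constructor
    · rintro ⟨h1, h2⟩
      exact ⟨(mem_ffk_iff_flat A B C M P (hflatA P h2)).mp h1, h2⟩
    · rintro ⟨h1, h2⟩
      exact ⟨(mem_ffk_iff_flat A B C M P (hflatA P h2)).mpr h1, h2⟩
  rw [heq]
  exact hRF.inter hD

end Upper

/-- the closed stratum, abstractly. -/
theorem stratum_abs {A C A₁ C₁ : Type u} [CommRing A] [CommRing C] [CommRing A₁] [CommRing C₁]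
    [Algebra A C] [Algebra A A₁] [Algebra A₁ C₁] [Algebra C C₁] [Algebra A C₁]
    [IsScalarTower A C C₁] [IsScalarTower A A₁ C₁] [IsNoetherianRing C]
    (p : Ideal A) (hA₁ : ∀ x ∈ p, algebraMap A A₁ x = 0)
    (hsurj : Function.Surjective (algebraMap C C₁))
    (hker : ∀ c : C, algebraMap C C₁ c = 0 → c ∈ p.map (algebraMap A C))
    (E : Set (PrimeSpectrum C)) (E₁ : Set (PrimeSpectrum C₁))
    (hE : E₁ = PrimeSpectrum.comap (algebraMap C C₁) ⁻¹' E) (a : A)
    (hopen : IsOpen (E₁ ∩ {P₁ : PrimeSpectrum C₁ | algebraMap A C₁ a ∉ P₁.asIdeal})) :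
    IsConstructible (E ∩ PrimeSpectrum.comap (algebraMap A C) ⁻¹'
      (PrimeSpectrum.zeroLocus (p : Set A) ∩ (PrimeSpectrum.basicOpen a : Set (PrimeSpectrum A)))) := by
  haveI : IsNoetherianRing C₁ := isNoetherianRing_of_surjective C C₁ (algebraMap C C₁) hsurj
  have hemb := PrimeSpectrum.isClosedEmbedding_comap_of_surjective C₁ (algebraMap C C₁) hsurj
  have hcons : IsConstructible
      (E₁ ∩ {P₁ : PrimeSpectrum C₁ | algebraMap A C₁ a ∉ P₁.asIdeal}) :=
    IsOpen.isConstructible_of_noetherianSpace hopen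
  have himg := hcons.image_of_isClosedEmbedding hemb (isRetrocompact_of_noetherianSpace _)
  have heq : E ∩ PrimeSpectrum.comap (algebraMap A C) ⁻¹'
      (PrimeSpectrum.zeroLocus (p : Set A) ∩ (PrimeSpectrum.basicOpen a : Set (PrimeSpectrum A))) =
      PrimeSpectrum.comap (algebraMap C C₁) ''
        (E₁ ∩ {P₁ : PrimeSpectrum C₁ | algebraMap A C₁ a ∉ P₁.asIdeal}) := by
    ext P
    constructor
    · rintro ⟨hPE, hPZ, hPa⟩
      have hPr : P ∈ Set.range (PrimeSpectrum.comap (algebraMap C C₁)) := by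
        rw [range_comap_of_surjective C₁ (algebraMap C C₁) hsurj]
        intro c hc
        have hle : p.map (algebraMap A C) ≤ P.asIdeal := by
          rw [Ideal.map_le_iff_le_comap]
          exact hPZ
        exact hle (hker c hc)
      obtain ⟨P₁, rfl⟩ := hPr
      refine ⟨P₁, ⟨?_, ?_⟩, rfl⟩
      · rw [hE]
        exact hPE
      · intro h
        apply hPa
        change algebraMap C C₁ (algebraMap A C a) ∈ P₁.asIdeal
        rw [← IsScalarTower.algebraMap_apply A C C₁]
        exact h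
    · rintro ⟨P₁, ⟨h1, h2⟩, rfl⟩
      refine ⟨?_, ?_, ?_⟩
      · rw [hE] at h1
        exact h1
      · intro x hx
        change algebraMap C C₁ (algebraMap A C x) ∈ P₁.asIdeal
        rw [← IsScalarTower.algebraMap_apply A C C₁, IsScalarTower.algebraMap_apply A A₁ C₁,
          hA₁ x hx, map_zero]
        exact zero_mem _
      · intro h
        apply h2
        change algebraMap C C₁ (algebraMap A C a) ∈ P₁.asIdeal at h
        rw [← IsScalarTower.algebraMap_apply A C C₁] at h
        exact h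
  rw [heq]
  exact himg

variable (A B C M : Type u) [CommRing A] [CommRing B] [CommRing C] [Algebra A B] [Algebra B C]
  [Algebra A C] [IsScalarTower A B C]
  [AddCommGroup M] [Module C M] [Module B M] [Module A M] [IsScalarTower B C M]
  [IsScalarTower A B M] [IsScalarTower A C M]

attribute [local instance 10] tAlg tAlgB

set_option maxHeartbeats 3200000 in
/-- **Constructibility of the fibrewise flat locus**, Noetherian base. -/
theorem isConstructible_ffk_noeth [IsNoetherianRing A] [Algebra.FiniteType A B]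
    [Algebra.FiniteType A C] [Module.Finite C M] : IsConstructible (FFK A B C M) := by
  haveI : IsNoetherianRing C := Algebra.FiniteType.isNoetherianRing A C
  refine isConstructible_of_forall_irreducible (PrimeSpectrum.comap (algebraMap A C))
    (FFK A B C M) fun Z hZc hZi => ?_
  haveI h𝔭 : (PrimeSpectrum.vanishingIdeal (Z : Set (PrimeSpectrum A))).IsPrime :=
    PrimeSpectrum.isIrreducible_iff_vanishingIdeal_isPrime.mp hZi
  set p : Ideal A := PrimeSpectrum.vanishingIdeal (Z : Set (PrimeSpectrum A)) with hp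
  have hZ : PrimeSpectrum.zeroLocus (p : Set A) = Z := by
    rw [hp, PrimeSpectrum.zeroLocus_vanishingIdeal_eq_closure]
    exact hZc.closure_eq
  obtain ⟨g, hg0, hopen⟩ := exists_isOpen_ffk_inter (A ⧸ p) ((A ⧸ p) ⊗[A] B) ((A ⧸ p) ⊗[A] C)
    (((A ⧸ p) ⊗[A] C) ⊗[C] M)
  obtain ⟨a, rfl⟩ := Ideal.Quotient.mk_surjective g
  have ha : a ∉ p := fun h => hg0 (Ideal.Quotient.eq_zero_iff_mem.mpr h)
  refine ⟨(PrimeSpectrum.basicOpen a : Set (PrimeSpectrum A)), (PrimeSpectrum.basicOpen a).isOpen,
    ⟨⟨p, h𝔭⟩, ?_, ha⟩, ?_⟩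
  · rw [← hZ]
    exact fun x hx => hx
  have hsurj : Function.Surjective (algebraMap C ((A ⧸ p) ⊗[A] C)) :=
    Algebra.TensorProduct.includeRight_surjective _ Ideal.Quotient.mk_surjective
  have hker : ∀ c : C, algebraMap C ((A ⧸ p) ⊗[A] C) c = 0 → c ∈ p.map (algebraMap A C) := by
    intro c hc
    have h1 : Algebra.TensorProduct.quotIdealMapEquivQuotTensor C p
        (Ideal.Quotient.mk _ c) = algebraMap C ((A ⧸ p) ⊗[A] C) c := rfl
    rw [hc] at h1
    have h2 : (Ideal.Quotient.mk (p.map (algebraMap A C)) c) = 0 := by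
      apply (Algebra.TensorProduct.quotIdealMapEquivQuotTensor C p).injective
      rw [h1, map_zero]
    exact Ideal.Quotient.eq_zero_iff_mem.mp h2
  rw [← hZ]
  refine stratum_abs (A₁ := A ⧸ p) (C₁ := (A ⧸ p) ⊗[A] C) p
    (fun x hx => Ideal.Quotient.eq_zero_iff_mem.mpr hx) hsurj hker (FFK A B C M)
    (FFK (A ⧸ p) ((A ⧸ p) ⊗[A] B) ((A ⧸ p) ⊗[A] C) (((A ⧸ p) ⊗[A] C) ⊗[C] M))
    (ffk_tensor A (A ⧸ p) B C M) a ?_
  have e : algebraMap A ((A ⧸ p) ⊗[A] C) a =
      algebraMap (A ⧸ p) ((A ⧸ p) ⊗[A] C) (Ideal.Quotient.mk p a) := by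
    rw [IsScalarTower.algebraMap_apply A (A ⧸ p) ((A ⧸ p) ⊗[A] C)]
    rfl
  rw [e]
  exact hopen

end Noeth

end Groth.Agent.Lib.H9FFL3
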