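import Mathlib
import Groth.Agent.Lib.H9FFL2
import Groth.Agent.Lib.H9FFL3

/-! ffk_baseChange (FFK commutes with pushout base change), isConstructible_ffk (A arbitrary, B, C f.p., M f.p.: FFK constructible in Spec C; EGA IV 11.2.8 algebra form) (helper9). -/

set_option autoImplicit false
set_option linter.style.haveILetI false
set_option linter.unusedSectionVars false

universe u

namespace Groth.Agent.Lib.H9FFL4

open TensorProduct Topology Groth.Agent.Lib.H9FFL3

attribute [local instance] Algebra.TensorProduct.rightAlgebra

section CoreAbs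

variable {A' A B' B C' C : Type u} [CommRing A'] [CommRing A]
  [CommRing B'] [CommRing B] [CommRing C'] [CommRing C]
  [Algebra A' A]
  [Algebra A' B'] [Algebra A B] [Algebra B' B] [Algebra A' B] [IsScalarTower A' B' B]
  [IsScalarTower A' A B]
  [Algebra A' C'] [Algebra A C] [Algebra C' C] [Algebra A' C] [IsScalarTower A' C' C]
  [IsScalarTower A' A C]
  [Algebra B' C'] [IsScalarTower A' B' C'] [Algebra B C] [IsScalarTower A B C]
  [Algebra B' C] [IsScalarTower B' B C] [IsScalarTower B' C' C]
  [Algebra.IsPushout A' A B' B] [Algebra.IsPushout A' A C' C]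
  {M' M : Type u} [AddCommGroup M'] [Module C' M'] [Module B' M'] [Module A' M']
  [IsScalarTower B' C' M'] [IsScalarTower A' B' M'] [IsScalarTower A' C' M']
  [AddCommGroup M] [Module C M] [Module B M] [Module A M] [IsScalarTower B C M]
  [IsScalarTower A B M] [IsScalarTower A C M]
  [Module C' M] [IsScalarTower C' C M] [Module B' M] [IsScalarTower B' B M]
  [IsScalarTower B' C' M]

set_option maxHeartbeats 1600000 in
/-- **Base change of the fibrewise flat locus** (abstract pushout form). -/
theorem ffk_baseChange (f : M' →ₗ[C'] M) (hf : IsBaseChange C f) :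
    FFK A B C M = PrimeSpectrum.comap (algebraMap C' C) ⁻¹' FFK A' B' C' M' := by
  ext P
  simp only [FFK, Set.mem_setOf_eq, Set.mem_preimage]
  have key := Groth.Agent.Lib.H9FFL1.fibreK_flat_baseChange_iff (A' := A') (A := A) (B' := B')
    (B := B) (C' := C') (C := C) (M' := M') (M := M) f hf
    (P.asIdeal.under A) P.asIdeal rfl
  rw [key]
  have he : (P.asIdeal.under A).comap (algebraMap A' A) =
      ((PrimeSpectrum.comap (algebraMap C' C) P).asIdeal).under A' := by
    ext a
    simp only [Ideal.under, Ideal.mem_comap, PrimeSpectrum.comap_asIdeal]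
    rw [← IsScalarTower.algebraMap_apply A' A C,
      ← IsScalarTower.algebraMap_apply A' C' C]
  exact flat_fiber_congr A' B' he _

end CoreAbs

section Main

variable (A B C M : Type u) [CommRing A] [CommRing B] [CommRing C] [Algebra A B] [Algebra B C]
  [Algebra A C] [IsScalarTower A B C]
  [AddCommGroup M] [Module C M] [Module B M] [Module A M] [IsScalarTower B C M]
  [IsScalarTower A B M] [IsScalarTower A C M]

set_option maxHeartbeats 3200000 in
/-- **Constructibility of the fibrewise flat locus**: `A → B → C` with `B`, `C` finitely presented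
over `A` and `M` a finitely presented `C`-module. The set of primes `P` of `C` such that
`κ(p) ⊗ M_P` is flat over `κ(p) ⊗ B` (`p = P ∩ A`) is constructible in `Spec C`. -/
theorem isConstructible_ffk [Algebra.FinitePresentation A B] [Algebra.FinitePresentation A C]
    [Module.FinitePresentation C M] : IsConstructible (FFK A B C M) := by
  obtain ⟨A₀, _, _, _, _, _, _, hA₀, B₀, _, _, _, _, C₀, _, _, _, _, _, _, _, _, _, M₀, _, _, _, _,
    _, _, _, _, _, _, _, _, f, hB₀, hC₀, hM₀, hpoB, hpoC, hf⟩ :=
    Groth.Agent.Lib.H9FFL2.exists_quad_model (A := A) (B := B) (C := C) (M := M)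
  haveI : IsNoetherianRing A₀ := Algebra.FiniteType.isNoetherianRing ℤ A₀
  rw [ffk_baseChange (A' := A₀) (B' := B₀) (C' := C₀) (M' := M₀) f hf]
  have hc : IsConstructible (FFK A₀ B₀ C₀ M₀) := isConstructible_ffk_noeth A₀ B₀ C₀ M₀
  exact (AlgebraicGeometry.Spec.map (CommRingCat.ofHom (algebraMap C₀ C))).isConstructible_preimage hc

end Main

end Groth.Agent.Lib.H9FFL4
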