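import Mathlib
import Groth.Agent.Lib.H9FFL4
import Groth.Agent.Lib.H9FCM11

/-! Chart form of fibrewise flatness: isFlatOverAt_iff_mem_ffk (over the spectrum of a field mapping to the chart, IsFlatOverAt of the pulled back module ⟺ prime lies in FFK); flat_of_isField (helper9). -/

set_option autoImplicit false
set_option linter.unusedVariables false
set_option linter.unusedSectionVars false
set_option linter.style.haveILetI false

open CategoryTheory CategoryTheory.Limits AlgebraicGeometry TensorProduct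

universe u

namespace Groth.Agent.Lib.H9FFL5

open Groth.Agent.Lib.Helper2.FlatOver Groth.Agent.Lib.Helper3.EtGUSch
  Groth.Agent.Lib.Helper2.PullbackSec Groth.Agent.Lib.Helper2.FinPres
  Groth.Agent.Lib.H9FFL3 Groth.Agent.Lib.H9FFL4

theorem flat_of_isField {A : Type u} [CommRing A] (hA : IsField A) (X : Type u) [AddCommGroup X]
    [Module A X] : Module.Flat A X := by
  letI := hA.toField
  infer_instance

set_option maxHeartbeats 6400000 in
/-- **Chart form of fibrewise flatness**: over a base `S'` which is the spectrum of a field, mapping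
into the affine chart `S₀`, relative flatness of the pulled back module at `x'` is membership of the
prime of `gX x'` in the fibrewise flat locus `FFK` of the chart. -/
theorem isFlatOverAt_iff_mem_ffk {X Y S X' Y' S' : Scheme.{u}} (f : X ⟶ Y) (g : Y ⟶ S)
    [LocallyOfFinitePresentation (f ≫ g)] [LocallyOfFiniteType g]
    (F : X.Modules) [F.IsQuasicoherent]
    [IsAffine S'] (hfield : IsField Γ(S', ⊤))
    (h : S' ⟶ S) (gY : Y' ⟶ Y) (g' : Y' ⟶ S') (hY : IsPullback gY g' g h)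
    (gX : X' ⟶ X) (f' : X' ⟶ Y') (hX : IsPullback gX (f' ≫ g') (f ≫ g) h)
    (w : gX ≫ f = f' ≫ gY)
    {S₀ : S.Opens} (hS₀ : IsAffineOpen S₀) (hS₀'le : (⊤ : S'.Opens) ≤ h ⁻¹ᵁ S₀)
    {W : Y.Opens} (hW : IsAffineOpen W) (hWS : W ≤ g ⁻¹ᵁ S₀)
    {V : X.Opens} (hV : IsAffineOpen V) (hVW : V ≤ f ⁻¹ᵁ W)
    [hFV : Module.FinitePresentation Γ(X, V) Γ(F, V)]
    (x' : X') (hxV : gX x' ∈ V) :
    letI : Algebra Γ(S, S₀) Γ(Y, W) := (g.appLE S₀ W hWS).hom.toAlgebra
    letI : Algebra Γ(S, S₀) Γ(X, V) :=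
      ((f ≫ g).appLE S₀ V (fun z hz => hWS (hVW hz))).hom.toAlgebra
    letI : Algebra Γ(Y, W) Γ(X, V) := (f.appLE W V hVW).hom.toAlgebra
    letI : Module Γ(Y, W) Γ(F, V) := Module.compHom Γ(F, V) (f.appLE W V hVW).hom
    haveI : IsScalarTower Γ(Y, W) Γ(X, V) Γ(F, V) :=
      IsScalarTower.of_algebraMap_smul (fun _ _ => rfl)
    (FlatMod.IsFlatOverAt f' ((Scheme.Modules.pullback gX).obj F) x' ↔
      hV.primeIdealOf ⟨gX x', hxV⟩ ∈ FFK Γ(S, S₀) Γ(Y, W) Γ(X, V) Γ(F, V)) := by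
  set H := (Scheme.Modules.pullback gX).obj F with hH
  haveI : H.IsQuasicoherent := isQuasicoherent_pullback gX F
  have hVS : V ≤ (f ≫ g) ⁻¹ᵁ S₀ := fun z hz => hWS (hVW hz)
  set S₀' : S'.Opens := ⊤ with hS₀'def
  have hS₀' : IsAffineOpen S₀' := isAffineOpen_top S'
  have hwpt : ∀ z : X', gY (f' z) = f (gX z) := by
    intro z
    have := congrArg (fun φ => φ.base z) w
    simpa using this.symm
  have hXpt : ∀ z : X', h (g' (f' z)) = g (f (gX z)) := by
    intro z
    have := congrArg (fun φ => φ.base z) hX.w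
    simpa using this.symm
  set W' : Y'.Opens := gY ⁻¹ᵁ W ⊓ g' ⁻¹ᵁ S₀' with hW'def
  have hW' : IsAffineOpen W' := isAffineOpen_inf_preimage hY hS₀'le hWS hS₀ hS₀' hW
  set V' : X'.Opens := gX ⁻¹ᵁ V ⊓ (f' ≫ g') ⁻¹ᵁ S₀' with hV'def
  have hV' : IsAffineOpen V' := isAffineOpen_inf_preimage hX hS₀'le hVS hS₀ hS₀' hV
  have hx'V' : x' ∈ V' := ⟨hxV, trivial⟩
  have eW1 : W' ≤ gY ⁻¹ᵁ W := inf_le_left
  have eW2 : W' ≤ g' ⁻¹ᵁ S₀' := inf_le_right
  have eV1 : V' ≤ gX ⁻¹ᵁ V := inf_le_left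
  have eV2 : V' ≤ (f' ≫ g') ⁻¹ᵁ S₀' := inf_le_right
  have hV'W' : V' ≤ f' ⁻¹ᵁ W' := by
    intro z hz
    refine ⟨?_, hz.2⟩
    change gY (f' z) ∈ W
    rw [hwpt]
    exact hVW hz.1
  -- rings
  let A' := Γ(S, S₀)
  let B' := Γ(Y, W)
  let C' := Γ(X, V)
  let A := Γ(S', S₀')
  let B := Γ(Y', W')
  let C := Γ(X', V')
  letI aA'B' : Algebra A' B' := (g.appLE S₀ W hWS).hom.toAlgebra
  letI aA'A : Algebra A' A := (h.appLE S₀ S₀' hS₀'le).hom.toAlgebra
  letI aB'B : Algebra B' B := (gY.appLE W W' eW1).hom.toAlgebra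
  letI aAB : Algebra A B := (g'.appLE S₀' W' eW2).hom.toAlgebra
  letI aA'B : Algebra A' B := ((gY.appLE W W' eW1).hom.comp (g.appLE S₀ W hWS).hom).toAlgebra
  haveI tA'B'B : IsScalarTower A' B' B := IsScalarTower.of_algebraMap_eq (fun a => rfl)
  haveI tA'AB : IsScalarTower A' A B := by
    refine IsScalarTower.of_algebraMap_eq (fun a => ?_)
    change (gY.appLE W W' eW1).hom ((g.appLE S₀ W hWS).hom a) =
      (g'.appLE S₀' W' eW2).hom ((h.appLE S₀ S₀' hS₀'le).hom a)
    have e1 := Scheme.Hom.appLE_comp_appLE gY g S₀ W W' hWS eW1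
    have e2 := Scheme.Hom.appLE_comp_appLE g' h S₀ S₀' W' hS₀'le eW2
    have e3 : (g.appLE S₀ W hWS ≫ gY.appLE W W' eW1) =
        (h.appLE S₀ S₀' hS₀'le ≫ g'.appLE S₀' W' eW2) := by
      rw [e1, e2]
      congr 1
      exact hY.w
    exact congrArg (fun φ => φ.hom a) e3
  letI aA'C' : Algebra A' C' := ((f ≫ g).appLE S₀ V hVS).hom.toAlgebra
  letI aC'C : Algebra C' C := (gX.appLE V V' eV1).hom.toAlgebra
  letI aAC : Algebra A C := ((f' ≫ g').appLE S₀' V' eV2).hom.toAlgebra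
  letI aA'C : Algebra A' C :=
    ((gX.appLE V V' eV1).hom.comp ((f ≫ g).appLE S₀ V hVS).hom).toAlgebra
  haveI tA'C'C : IsScalarTower A' C' C := IsScalarTower.of_algebraMap_eq (fun a => rfl)
  haveI tA'AC : IsScalarTower A' A C := by
    refine IsScalarTower.of_algebraMap_eq (fun a => ?_)
    change (gX.appLE V V' eV1).hom (((f ≫ g).appLE S₀ V hVS).hom a) =
      ((f' ≫ g').appLE S₀' V' eV2).hom ((h.appLE S₀ S₀' hS₀'le).hom a)
    have e1 := Scheme.Hom.appLE_comp_appLE gX (f ≫ g) S₀ V V' hVS eV1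
    have e2 := Scheme.Hom.appLE_comp_appLE (f' ≫ g') h S₀ S₀' V' hS₀'le eV2
    have e3 : ((f ≫ g).appLE S₀ V hVS ≫ gX.appLE V V' eV1) =
        (h.appLE S₀ S₀' hS₀'le ≫ (f' ≫ g').appLE S₀' V' eV2) := by
      rw [e1, e2]
      congr 1
      exact hX.w
    exact congrArg (fun φ => φ.hom a) e3
  letI aB'C' : Algebra B' C' := (f.appLE W V hVW).hom.toAlgebra
  haveI tA'B'C' : IsScalarTower A' B' C' := by
    refine IsScalarTower.of_algebraMap_eq' ?_
    show ((f ≫ g).appLE S₀ V hVS).hom = (f.appLE W V hVW).hom.comp (g.appLE S₀ W hWS).hom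
    rw [← CommRingCat.hom_comp, Scheme.Hom.appLE_comp_appLE]
  letI aBC : Algebra B C := (f'.appLE W' V' hV'W').hom.toAlgebra
  haveI tABC : IsScalarTower A B C := by
    refine IsScalarTower.of_algebraMap_eq' ?_
    show ((f' ≫ g').appLE S₀' V' eV2).hom =
      (f'.appLE W' V' hV'W').hom.comp (g'.appLE S₀' W' eW2).hom
    rw [← CommRingCat.hom_comp, Scheme.Hom.appLE_comp_appLE]
  letI aB'C : Algebra B' C := ((gX.appLE V V' eV1).hom.comp (f.appLE W V hVW).hom).toAlgebra
  haveI tB'C'C : IsScalarTower B' C' C := IsScalarTower.of_algebraMap_eq (fun a => rfl)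
  haveI tB'BC : IsScalarTower B' B C := by
    refine IsScalarTower.of_algebraMap_eq (fun a => ?_)
    change (gX.appLE V V' eV1).hom ((f.appLE W V hVW).hom a) =
      (f'.appLE W' V' hV'W').hom ((gY.appLE W W' eW1).hom a)
    have e1 := Scheme.Hom.appLE_comp_appLE gX f W V V' hVW eV1
    have e2 := Scheme.Hom.appLE_comp_appLE f' gY W W' V' eW1 hV'W'
    have e3 : (f.appLE W V hVW ≫ gX.appLE V V' eV1) =
        (gY.appLE W W' eW1 ≫ f'.appLE W' V' hV'W') := by
      rw [e1, e2]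
      congr 1
    exact congrArg (fun φ => φ.hom a) e3
  haveI poB : Algebra.IsPushout A' A B' B :=
    algebra_isPushout hY hS₀'le hWS hS₀ hS₀' hW eW1 eW2
  haveI poC : Algebra.IsPushout A' A C' C :=
    algebra_isPushout hX hS₀'le hVS hS₀ hS₀' hV eV1 eV2
  -- modules
  letI mB'M' : Module B' Γ(F, V) := Module.compHom Γ(F, V) (f.appLE W V hVW).hom
  letI mA'M' : Module A' Γ(F, V) := Module.compHom Γ(F, V) ((f ≫ g).appLE S₀ V hVS).hom
  haveI tB'C'M' : IsScalarTower B' C' Γ(F, V) := IsScalarTower.of_algebraMap_smul (fun _ _ => rfl)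
  haveI tA'C'M' : IsScalarTower A' C' Γ(F, V) := IsScalarTower.of_algebraMap_smul (fun _ _ => rfl)
  haveI tA'B'M' : IsScalarTower A' B' Γ(F, V) := by
    refine IsScalarTower.of_algebraMap_smul (fun a m => ?_)
    change (f.appLE W V hVW).hom ((g.appLE S₀ W hWS).hom a) • m =
      ((f ≫ g).appLE S₀ V hVS).hom a • m
    rw [← RingHom.comp_apply, ← CommRingCat.hom_comp, Scheme.Hom.appLE_comp_appLE]
  letI mBM : Module B Γ(H, V') := Module.compHom Γ(H, V') (f'.appLE W' V' hV'W').hom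
  letI mAM : Module A Γ(H, V') := Module.compHom Γ(H, V') ((f' ≫ g').appLE S₀' V' eV2).hom
  haveI tBCM : IsScalarTower B C Γ(H, V') := IsScalarTower.of_algebraMap_smul (fun _ _ => rfl)
  haveI tACM : IsScalarTower A C Γ(H, V') := IsScalarTower.of_algebraMap_smul (fun _ _ => rfl)
  haveI tABM : IsScalarTower A B Γ(H, V') := by
    refine IsScalarTower.of_algebraMap_smul (fun a m => ?_)
    change (f'.appLE W' V' hV'W').hom ((g'.appLE S₀' W' eW2).hom a) • m =
      ((f' ≫ g').appLE S₀' V' eV2).hom a • m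
    rw [← RingHom.comp_apply, ← CommRingCat.hom_comp, Scheme.Hom.appLE_comp_appLE]
  letI mC'M : Module C' Γ(H, V') := Module.compHom Γ(H, V') (gX.appLE V V' eV1).hom
  haveI tC'CM : IsScalarTower C' C Γ(H, V') := IsScalarTower.of_algebraMap_smul (fun _ _ => rfl)
  letI mB'M : Module B' Γ(H, V') := Module.compHom Γ(H, V')
    ((gX.appLE V V' eV1).hom.comp (f.appLE W V hVW).hom)
  haveI tB'C'M : IsScalarTower B' C' Γ(H, V') := IsScalarTower.of_algebraMap_smul (fun _ _ => rfl)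
  haveI tB'BM : IsScalarTower B' B Γ(H, V') := by
    refine IsScalarTower.of_algebraMap_smul (fun b m => ?_)
    change (f'.appLE W' V' hV'W').hom ((gY.appLE W W' eW1).hom b) • m =
      (gX.appLE V V' eV1).hom ((f.appLE W V hVW).hom b) • m
    have e := (IsScalarTower.algebraMap_apply B' B C b).symm
    change (f'.appLE W' V' hV'W').hom ((gY.appLE W W' eW1).hom b) =
      (gX.appLE V V' eV1).hom ((f.appLE W V hVW).hom b) at e
    rw [e]
  -- finiteness
  haveI : Algebra.FinitePresentation A' C' := (f ≫ g).finitePresentation_appLE hS₀ hV hVS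
  haveI : Algebra.FiniteType A' B' := g.finiteType_appLE hS₀ hW hWS
  haveI : Module.FinitePresentation C' Γ(F, V) := hFV
  -- the base change map on sections
  obtain ⟨T⟩ := nonempty_sections_linearEquiv gX F hV' hV eV1
  let ν : Γ(F, V) →ₗ[C'] Γ(H, V') :=
    (T.toLinearMap.restrictScalars C').comp (TensorProduct.mk C' C Γ(F, V) 1)
  have hν : IsBaseChange C ν := IsBaseChange.of_equiv T (fun v => rfl)
  -- primes
  let q : Spec Γ(X', V') := hV'.primeIdealOf ⟨x', hx'V'⟩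
  let p : Spec Γ(S', S₀') := hS₀'.primeIdealOf ⟨(f' ≫ g') x', eV2 hx'V'⟩
  have hP : q.asIdeal.under A = p.asIdeal :=
    congr($(IsAffineOpen.comap_primeIdealOf_appLE S₀' hS₀' V' hV' eV2 hx'V').1)
  have hq : q.asIdeal.comap (algebraMap C' C) = (hV.primeIdealOf ⟨gX x', hxV⟩).asIdeal :=
    congr($(IsAffineOpen.comap_primeIdealOf_appLE V hV V' hV' eV1 hx'V').1)
  -- finiteness upstairs
  haveI lftg' : LocallyOfFiniteType g' :=
    MorphismProperty.of_isPullback hY (inferInstance : LocallyOfFiniteType g)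
  haveI lfpfg' : LocallyOfFinitePresentation (f' ≫ g') :=
    MorphismProperty.of_isPullback hX (inferInstance : LocallyOfFinitePresentation (f ≫ g))
  haveI : Algebra.FinitePresentation A C := (f' ≫ g').finitePresentation_appLE hS₀' hV' eV2
  haveI : Algebra.FiniteType A B := g'.finiteType_appLE hS₀' hW' eW2
  haveI : Module.FinitePresentation C Γ(H, V') := _root_.FinitePresentation.of_isBaseChange ν hν
  -- primes
  let q : Spec Γ(X', V') := hV'.primeIdealOf ⟨x', hx'V'⟩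
  have hq : PrimeSpectrum.comap (algebraMap C' C) q = hV.primeIdealOf ⟨gX x', hxV⟩ :=
    IsAffineOpen.comap_primeIdealOf_appLE V hV V' hV' eV1 hx'V'
  have hflatA : Module.Flat A (LocalizedModule q.asIdeal.primeCompl Γ(H, V')) :=
    flat_of_isField hfield _
  have e1 : FlatMod.IsFlatOverAt f' H x' ↔
      Module.Flat B (LocalizedModule q.asIdeal.primeCompl Γ(H, V')) :=
    isFlatOverAt_iff_flat_localizedModule f' H hV' hW' hV'W' x' hx'V'
  have e2 : q ∈ FFK A B C Γ(H, V') ↔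
      Module.Flat B (LocalizedModule q.asIdeal.primeCompl Γ(H, V')) :=
    mem_ffk_iff_flat A B C Γ(H, V') q hflatA
  have e3 : FFK A B C Γ(H, V') = PrimeSpectrum.comap (algebraMap C' C) ⁻¹' FFK A' B' C' Γ(F, V) :=
    ffk_baseChange (A' := A') (A := A) (B' := B') (B := B) (C' := C') (C := C) ν hν
  change FlatMod.IsFlatOverAt f' H x' ↔ hV.primeIdealOf ⟨gX x', hxV⟩ ∈ FFK A' B' C' Γ(F, V)
  rw [e1, ← e2, e3, ← hq]
  rfl

end Groth.Agent.Lib.H9FFL5
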