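import Mathlib
import Groth.Agent.Lib.H9FFL5
import Groth.Agent.Lib.Helper2FinPres

/-! isLocallyConstructible_fibrewise_flat: for f : X ⟶ Y, h : Y ⟶ S with f ≫ h and h LFP, F qcoh f.p.: the set of x ∈ X with F_s flat over Y_s at x is locally constructible (scheme form, S5948) (helper9). -/

set_option autoImplicit false
set_option linter.unusedVariables false
set_option linter.unusedSectionVars false
set_option linter.style.haveILetI false

open CategoryTheory CategoryTheory.Limits AlgebraicGeometry TensorProduct Topology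

universe u

namespace Groth.Agent.Lib.H9FFL6

open Groth.Agent.Lib.Helper2.FlatOver Groth.Agent.Lib.Helper2.FinPres
  Groth.Agent.Lib.H9FFL3 Groth.Agent.Lib.H9FFL4 Groth.Agent.Lib.H9FFL5

theorem isField_Γ_spec (R : CommRingCat.{u}) (hR : IsField R) : IsField Γ(Spec R, ⊤) :=
  MulEquiv.isField hR (Scheme.ΓSpecIso R).commRingCatIsoToRingEquiv.toMulEquiv

set_option maxHeartbeats 3200000 in
/-- **Local constructibility of the fibrewise flat locus** (EGA IV 11.2.8 style). -/
theorem isLocallyConstructible_fibrewise_flat {X Y S : Scheme.{u}} (f : X ⟶ Y) (h : Y ⟶ S)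
    [LocallyOfFinitePresentation (f ≫ h)] [LocallyOfFinitePresentation h]
    (F : X.Modules) [F.IsQuasicoherent]
    [SheafOfModules.IsFinitePresentation (R := X.ringCatSheaf) F] :
    IsLocallyConstructible {x : ↥X | ∀ (Xs Ys : Scheme.{u}) (ιX : Xs ⟶ X) (ιY : Ys ⟶ Y)
      (fs : Xs ⟶ Ys) (pY : Ys ⟶ Spec (S.residueField ((f ≫ h).base x))),
      IsPullback ιY pY h (S.fromSpecResidueField ((f ≫ h).base x)) → IsPullback ιX fs f ιY →
        ∀ x' : ↥Xs, ιX.base x' = x →
          FlatMod.IsFlatOverAt fs ((Scheme.Modules.pullback ιX).obj F) x'} := by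
  intro x
  obtain ⟨W, S₀, hW, hS₀, hfxW, hWS⟩ := exists_affine_nhds h (f x)
  obtain ⟨V, hV, hxV, hVW, hfpM⟩ := exists_affine_nhds_finitePresentation F x (f ⁻¹ᵁ W) hfxW
  have hVS : V ≤ (f ≫ h) ⁻¹ᵁ S₀ := fun z hz => hWS (hVW hz)
  letI aAB : Algebra Γ(S, S₀) Γ(Y, W) := (h.appLE S₀ W hWS).hom.toAlgebra
  letI aAC : Algebra Γ(S, S₀) Γ(X, V) := ((f ≫ h).appLE S₀ V hVS).hom.toAlgebra
  letI aBC : Algebra Γ(Y, W) Γ(X, V) := (f.appLE W V hVW).hom.toAlgebra
  haveI tABC : IsScalarTower Γ(S, S₀) Γ(Y, W) Γ(X, V) := by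
    refine IsScalarTower.of_algebraMap_eq' ?_
    show ((f ≫ h).appLE S₀ V hVS).hom = (f.appLE W V hVW).hom.comp (h.appLE S₀ W hWS).hom
    rw [← CommRingCat.hom_comp, Scheme.Hom.appLE_comp_appLE]
  letI mBM : Module Γ(Y, W) Γ(F, V) := Module.compHom Γ(F, V) (f.appLE W V hVW).hom
  letI mAM : Module Γ(S, S₀) Γ(F, V) := Module.compHom Γ(F, V) ((f ≫ h).appLE S₀ V hVS).hom
  haveI tBCM : IsScalarTower Γ(Y, W) Γ(X, V) Γ(F, V) :=
    IsScalarTower.of_algebraMap_smul (fun _ _ => rfl)
  haveI tACM : IsScalarTower Γ(S, S₀) Γ(X, V) Γ(F, V) :=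
    IsScalarTower.of_algebraMap_smul (fun _ _ => rfl)
  haveI tABM : IsScalarTower Γ(S, S₀) Γ(Y, W) Γ(F, V) := by
    refine IsScalarTower.of_algebraMap_smul (fun a m => ?_)
    change (f.appLE W V hVW).hom ((h.appLE S₀ W hWS).hom a) • m =
      ((f ≫ h).appLE S₀ V hVS).hom a • m
    rw [← RingHom.comp_apply, ← CommRingCat.hom_comp, Scheme.Hom.appLE_comp_appLE]
  haveI : Algebra.FinitePresentation Γ(S, S₀) Γ(X, V) :=
    (f ≫ h).finitePresentation_appLE hS₀ hV hVS
  haveI : Algebra.FinitePresentation Γ(S, S₀) Γ(Y, W) := h.finitePresentation_appLE hS₀ hW hWS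
  have hc : IsConstructible (FFK Γ(S, S₀) Γ(Y, W) Γ(X, V) Γ(F, V)) :=
    isConstructible_ffk Γ(S, S₀) Γ(Y, W) Γ(X, V) Γ(F, V)
  refine ⟨V, V.isOpen.mem_nhds hxV, V.isOpen, ?_⟩
  have hpre := hV.isoSpec.hom.isConstructible_preimage hc
  have heq : (Subtype.val : ↥V → X) ⁻¹' {x : ↥X | ∀ (Xs Ys : Scheme.{u}) (ιX : Xs ⟶ X)
      (ιY : Ys ⟶ Y) (fs : Xs ⟶ Ys) (pY : Ys ⟶ Spec (S.residueField ((f ≫ h).base x))),
      IsPullback ιY pY h (S.fromSpecResidueField ((f ≫ h).base x)) → IsPullback ιX fs f ιY →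
        ∀ x' : ↥Xs, ιX.base x' = x →
          FlatMod.IsFlatOverAt fs ((Scheme.Modules.pullback ιX).obj F) x'} =
      (fun y : V => hV.primeIdealOf y) ⁻¹' FFK Γ(S, S₀) Γ(Y, W) Γ(X, V) Γ(F, V) := by
    ext ⟨z, hz⟩
    have hsz : (f ≫ h).base z ∈ S₀ := hVS hz
    have hle : (⊤ : (Spec (S.residueField ((f ≫ h).base z))).Opens) ≤
        (S.fromSpecResidueField ((f ≫ h).base z)) ⁻¹ᵁ S₀ := by
      intro t _
      have ht : (S.fromSpecResidueField ((f ≫ h).base z)) t ∈
          Set.range (S.fromSpecResidueField ((f ≫ h).base z)) := ⟨t, rfl⟩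
      rw [Scheme.range_fromSpecResidueField] at ht
      change (S.fromSpecResidueField ((f ≫ h).base z)) t ∈ S₀
      rw [Set.mem_singleton_iff.mp ht]
      exact hsz
    have hfld : IsField Γ(Spec (S.residueField ((f ≫ h).base z)), ⊤) :=
      isField_Γ_spec _ (Field.toIsField _)
    constructor
    · intro hE
      -- build the fibre squares
      have hY := IsPullback.of_hasPullback h (S.fromSpecResidueField ((f ≫ h).base z))
      have hX := IsPullback.of_hasPullback f (pullback.fst h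
        (S.fromSpecResidueField ((f ≫ h).base z)))
      have hXp := hX.paste_vert hY
      -- a point over `z`
      obtain ⟨t, ht⟩ : ∃ t : Spec (S.residueField ((f ≫ h).base z)),
          (S.fromSpecResidueField ((f ≫ h).base z)) t = (f ≫ h).base z := by
        have : (f ≫ h).base z ∈ Set.range (S.fromSpecResidueField ((f ≫ h).base z)) := by
          rw [Scheme.range_fromSpecResidueField]
          rfl
        exact this
      obtain ⟨x'', hx''1, -⟩ := Scheme.Pullback.exists_preimage_pullback (f := f ≫ h)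
        (g := S.fromSpecResidueField ((f ≫ h).base z)) z t ht.symm
      let x' := hXp.isoPullback.inv x''
      have hx' : (pullback.fst f (pullback.fst h
          (S.fromSpecResidueField ((f ≫ h).base z)))) x' = z := by
        have e := hXp.isoPullback_inv_fst
        have := congrArg (fun φ => φ.base x'') e
        refine Eq.trans ?_ hx''1
        exact this
      have hflat := hE _ _ _ _ _ _ hY hX x' hx'
      have hx'V : (pullback.fst f (pullback.fst h
          (S.fromSpecResidueField ((f ≫ h).base z)))) x' ∈ V := by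
        rw [hx']
        exact hz
      have key := (isFlatOverAt_iff_mem_ffk f h F hfld
        (S.fromSpecResidueField ((f ≫ h).base z)) _ _ hY _ _ hXp hX.w hS₀ hle hW hWS hV hVW
        x' hx'V).mp hflat
      change hV.primeIdealOf ⟨z, hz⟩ ∈ FFK Γ(S, S₀) Γ(Y, W) Γ(X, V) Γ(F, V)
      have hpt : hV.primeIdealOf ⟨(pullback.fst f (pullback.fst h
          (S.fromSpecResidueField ((f ≫ h).base z)))) x', hx'V⟩ = hV.primeIdealOf ⟨z, hz⟩ := by
        congr 1
        exact Subtype.ext hx'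
      rw [← hpt]
      exact key
    · intro hmem Xs Ys ιX ιY fs pY hY hX x' hx'
      have hXp := hX.paste_vert hY
      have hx'V : ιX x' ∈ V := by
        change ιX.base x' ∈ V
        rw [hx']
        exact hz
      have hpt : hV.primeIdealOf ⟨ιX x', hx'V⟩ = hV.primeIdealOf ⟨z, hz⟩ := by
        congr 1
        exact Subtype.ext hx'
      refine (isFlatOverAt_iff_mem_ffk f h F hfld
        (S.fromSpecResidueField ((f ≫ h).base z)) ιY pY hY ιX fs hXp hX.w hS₀ hle hW hWS hV hVW
        x' hx'V).mpr ?_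
      rw [hpt]
      exact hmem
  change IsConstructible ((Subtype.val : ↥V → X) ⁻¹' _)
  rw [heq]
  exact hpre

end Groth.Agent.Lib.H9FFL6
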