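import Mathlib
import Groth.Agent.Lib.H9FFL4
import Groth.Agent.Lib.H9FCM8

/-! flat_quotient_of_flat_quotient_tensor (quotient-tensor form ⇒ stalk-quotient form over a localization), mem_ffk_iff_flat_stalkQuotient (FFK membership ⟺ Flat (By/J) (X/JX) for any localization X of M at P, By of B) (helper9). -/

set_option autoImplicit false
set_option linter.style.haveILetI false
set_option linter.unusedSectionVars false

universe u

namespace Groth.Agent.Lib.H9FFL7

open TensorProduct Topology Groth.Agent.Lib.H9FFL3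

attribute [local instance] Algebra.TensorProduct.rightAlgebra

section Q

variable {B By X : Type u} [CommRing B] [CommRing By] [Algebra B By]
  [AddCommGroup X] [Module By X] [Module B X] [IsScalarTower B By X]

set_option maxHeartbeats 1600000 in
/-- Converse of `H9FCM8.flat_quotient_tensor_of_flat_quotient` for a localization `By` of `B`. -/
theorem flat_quotient_of_flat_quotient_tensor (T : Submonoid B) [IsLocalization T By]
    (I : Ideal B) (J : Ideal By)
    (hJ : J = I.map (algebraMap B By))
    (h : Module.Flat (B ⧸ I) ((B ⧸ I) ⊗[B] X)) :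
    Module.Flat (By ⧸ J) (X ⧸ J • (⊤ : Submodule By X)) := by
  subst hJ
  haveI po : Algebra.IsPushout B (B ⧸ I) By (By ⧸ I.map (algebraMap B By)) :=
    Groth.Agent.Lib.H9FCM3b.isPushout_quotient B By I
  haveI := h
  haveI h3 : Module.Flat (B ⧸ I) ((By ⧸ I.map (algebraMap B By)) ⊗[By] X) :=
    Module.Flat.of_linearEquiv
      (Algebra.IsPushout.cancelBaseChange B (B ⧸ I) By (By ⧸ I.map (algebraMap B By)) X)
  haveI hloc : IsLocalization (Algebra.algebraMapSubmonoid (B ⧸ I) T)
      (By ⧸ I.map (algebraMap B By)) := inferInstance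
  haveI h2 : Module.Flat (By ⧸ I.map (algebraMap B By))
      ((By ⧸ I.map (algebraMap B By)) ⊗[By] X) :=
    (Module.flat_iff_of_isLocalization (By ⧸ I.map (algebraMap B By))
      (Algebra.algebraMapSubmonoid (B ⧸ I) T) _).mpr h3
  exact Module.Flat.of_linearEquiv (Groth.Agent.Lib.Helper2.FibreCrit.quotTensorEquiv _ X).symm

end Q

section CoreLoc

variable {A B C : Type u} [CommRing A] [CommRing B] [CommRing C] [Algebra A B] [Algebra B C]
  [Algebra A C] [IsScalarTower A B C]
  {M X : Type u} [AddCommGroup M] [Module C M] [Module B M] [Module A M] [IsScalarTower B C M]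
  [IsScalarTower A B M] [IsScalarTower A C M]
  [AddCommGroup X] [Module C X] [Module B X] [IsScalarTower B C X]

set_option maxHeartbeats 1600000 in
/-- Membership in the fibrewise flat locus in terms of any localization `X` of `M` at `P` and any
localization `By` of `B` acting on `X`: stalk-quotient form. -/
theorem mem_ffk_iff_flat_stalkQuotient (P : PrimeSpectrum C)
    (φ : M →ₗ[C] X) [IsLocalizedModule P.asIdeal.primeCompl φ]
    {By : Type u} [CommRing By] [Algebra B By] (T : Submonoid B) [IsLocalization T By]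
    [Module By X] [IsScalarTower B By X]
    (J : Ideal By)
    (hJ : J = ((P.asIdeal.under A).map (algebraMap A B)).map (algebraMap B By)) :
    P ∈ FFK A B C M ↔ Module.Flat (By ⧸ J) (X ⧸ J • (⊤ : Submodule By X)) := by
  let e : LocalizedModule P.asIdeal.primeCompl M ≃ₗ[C] X :=
    IsLocalizedModule.iso P.asIdeal.primeCompl φ
  let I : Ideal B := (P.asIdeal.under A).map (algebraMap A B)
  let eT : (B ⧸ I) ⊗[B] LocalizedModule P.asIdeal.primeCompl M ≃ₗ[B ⧸ I] (B ⧸ I) ⊗[B] X :=
    TensorProduct.AlgebraTensorModule.congr (LinearEquiv.refl (B ⧸ I) (B ⧸ I))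
      (e.restrictScalars B)
  haveI : Module.Flat B By := IsLocalization.flat By T
  constructor
  · intro h
    have hQ : Module.Flat (B ⧸ I) ((B ⧸ I) ⊗[B] LocalizedModule P.asIdeal.primeCompl M) :=
      Groth.Agent.Lib.H9FFL1.flat_quotient_tensor_of_fibreK_flat (P.asIdeal.under A) P.asIdeal
        rfl h
    haveI := hQ
    have hQX : Module.Flat (B ⧸ I) ((B ⧸ I) ⊗[B] X) := Module.Flat.of_linearEquiv eT.symm
    exact flat_quotient_of_flat_quotient_tensor T I J hJ hQX
  · intro h
    have hQX : Module.Flat (B ⧸ I) ((B ⧸ I) ⊗[B] X) :=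
      Groth.Agent.Lib.H9FCM8.flat_quotient_tensor_of_flat_quotient I J hJ h
    haveI := hQX
    have hQ : Module.Flat (B ⧸ I) ((B ⧸ I) ⊗[B] LocalizedModule P.asIdeal.primeCompl M) :=
      Module.Flat.of_linearEquiv eT
    exact Groth.Agent.Lib.H9FCM2.flat_fiber_tensor_of_flat_quotient_tensor
      (P.asIdeal.under A) _ hQ

end CoreLoc

end Groth.Agent.Lib.H9FFL7
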