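import Mathlib
import Groth.Agent.Lib.H9FFL6
import Groth.Agent.Lib.H9FFL7
import Groth.Agent.Lib.H9FCM9
import Groth.Agent.Lib.Helper5Compl

/-! stalkQuotient_flat_iff_mem_ffk (chart form: Flat (O_{Y,fx}/m_s O) (F_x/m_s F_x) ⟺ prime ∈ FFK), isLocallyConstructible_stalkQuotient_flat (in X), isLocallyConstructible_base_stalkQuotient_flat (in S, via Chevalley; S4868) (helper9). -/

set_option autoImplicit false
set_option linter.unusedVariables false
set_option linter.unusedSectionVars false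
set_option linter.style.haveILetI false

open CategoryTheory CategoryTheory.Limits AlgebraicGeometry TensorProduct Topology

universe u

namespace Groth.Agent.Lib.H9FFL8

open Groth.Agent.Lib.Helper2.FlatOver Groth.Agent.Lib.Helper3.EtGUSch
  Groth.Agent.Lib.Helper2.FinPres
  Groth.Agent.Lib.H9FFL3 Groth.Agent.Lib.H9FFL4 Groth.Agent.Lib.H9FFL7

set_option maxHeartbeats 3200000 in
/-- **Chart form of fibrewise flatness, stalk-quotient version**. -/
theorem stalkQuotient_flat_iff_mem_ffk {X Y S : Scheme.{u}} (f : X ⟶ Y) (g : Y ⟶ S)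
    (F : X.Modules) [F.IsQuasicoherent]
    {S₀ : S.Opens} (hS₀ : IsAffineOpen S₀)
    {W : Y.Opens} (hW : IsAffineOpen W) (hWS : W ≤ g ⁻¹ᵁ S₀)
    {V : X.Opens} (hV : IsAffineOpen V) (hVW : V ≤ f ⁻¹ᵁ W)
    (x : X) (hxV : x ∈ V) :
    letI : Algebra Γ(S, S₀) Γ(Y, W) := (g.appLE S₀ W hWS).hom.toAlgebra
    letI : Algebra Γ(S, S₀) Γ(X, V) :=
      ((f ≫ g).appLE S₀ V (fun z hz => hWS (hVW hz))).hom.toAlgebra
    letI : Algebra Γ(Y, W) Γ(X, V) := (f.appLE W V hVW).hom.toAlgebra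
    letI : Module Γ(Y, W) Γ(F, V) := Module.compHom Γ(F, V) (f.appLE W V hVW).hom
    haveI : IsScalarTower Γ(Y, W) Γ(X, V) Γ(F, V) :=
      IsScalarTower.of_algebraMap_smul (fun _ _ => rfl)
    ((letI := FlatMod.moduleStalkOver f F x
      Module.Flat (↑(Y.presheaf.stalk (f x)) ⧸ Ideal.map (g.stalkMap (f x)).hom
          (IsLocalRing.maximalIdeal ↑(S.presheaf.stalk (g (f x)))))
        (↑(F.presheaf.stalk x) ⧸ (Ideal.map (g.stalkMap (f x)).hom
          (IsLocalRing.maximalIdeal ↑(S.presheaf.stalk (g (f x)))) •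
          (⊤ : Submodule ↑(Y.presheaf.stalk (f x)) ↑(F.presheaf.stalk x))))) ↔
      hV.primeIdealOf ⟨x, hxV⟩ ∈ FFK Γ(S, S₀) Γ(Y, W) Γ(X, V) Γ(F, V)) := by
  have hVS : V ≤ (f ≫ g) ⁻¹ᵁ S₀ := fun z hz => hWS (hVW hz)
  have hfxW : f x ∈ W := hVW hxV
  let A := Γ(S, S₀)
  let B := Γ(Y, W)
  let C := Γ(X, V)
  letI algAB : Algebra A B := (g.appLE S₀ W hWS).hom.toAlgebra
  letI algBC : Algebra B C := (f.appLE W V hVW).hom.toAlgebra
  letI algAC : Algebra A C := ((f ≫ g).appLE S₀ V hVS).hom.toAlgebra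
  haveI : IsScalarTower A B C := by
    refine IsScalarTower.of_algebraMap_eq' ?_
    show ((f ≫ g).appLE S₀ V hVS).hom = (f.appLE W V hVW).hom.comp (g.appLE S₀ W hWS).hom
    rw [← CommRingCat.hom_comp, Scheme.Hom.appLE_comp_appLE]
  have hsS₀ : (f ≫ g) x ∈ S₀ := hVS hxV
  let p : Spec Γ(S, S₀) := hS₀.primeIdealOf ⟨(f ≫ g) x, hsS₀⟩
  let q : Spec Γ(X, V) := hV.primeIdealOf ⟨x, hxV⟩
  have hP : q.asIdeal.under A = p.asIdeal :=
    congr($(IsAffineOpen.comap_primeIdealOf_appLE S₀ hS₀ V hV hVS hxV).1)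
  -- module structures on the sections
  letI mBM : Module B Γ(F, V) := Module.compHom Γ(F, V) (f.appLE W V hVW).hom
  letI mAM : Module A Γ(F, V) := Module.compHom Γ(F, V) ((f ≫ g).appLE S₀ V hVS).hom
  haveI tBCM : IsScalarTower B C Γ(F, V) := IsScalarTower.of_algebraMap_smul (fun _ _ => rfl)
  haveI tACM : IsScalarTower A C Γ(F, V) := IsScalarTower.of_algebraMap_smul (fun _ _ => rfl)
  haveI tABM : IsScalarTower A B Γ(F, V) := by
    refine IsScalarTower.of_algebraMap_smul (fun a m => ?_)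
    change (f.appLE W V hVW).hom ((g.appLE S₀ W hWS).hom a) • m =
      ((f ≫ g).appLE S₀ V hVS).hom a • m
    rw [← RingHom.comp_apply, ← CommRingCat.hom_comp, Scheme.Hom.appLE_comp_appLE]
  -- module structures on the stalk
  letI mC : Module C (F.presheaf.stalk x) := moduleStalkSections F V x hxV
  letI mB : Module B (F.presheaf.stalk x) := moduleStalkBase f F W x hfxW
  haveI tBCX : IsScalarTower B C (F.presheaf.stalk x) := by
    refine ⟨fun b c y => ?_⟩
    change X.presheaf.germ V x hxV ((f.appLE W V hVW).hom b * c) • y =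
      (f.stalkMap x).hom (Y.presheaf.germ W (f x) hfxW b) • (X.presheaf.germ V x hxV c • y)
    rw [map_mul, mul_smul, stalkMap_germ_eq f hVW x hxV b]
  -- the local rings as algebras over the sections
  letI algBBy : Algebra B (Y.presheaf.stalk (f x)) := Y.presheaf.algebra_section_stalk ⟨f x, hfxW⟩
  haveI locBy := hW.isLocalization_stalk ⟨f x, hfxW⟩
  letI mBy : Module (Y.presheaf.stalk (f x)) (F.presheaf.stalk x) := FlatMod.moduleStalkOver f F x
  haveI tBByX : IsScalarTower B (Y.presheaf.stalk (f x)) (F.presheaf.stalk x) := by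
    refine ⟨fun a b y => ?_⟩
    change (f.stalkMap x).hom (Y.presheaf.germ W (f x) hfxW a * b) • y =
      (f.stalkMap x).hom (Y.presheaf.germ W (f x) hfxW a) • ((f.stalkMap x).hom b • y)
    rw [map_mul, mul_smul]
  letI algAAs : Algebra A (S.presheaf.stalk (g (f x))) :=
    S.presheaf.algebra_section_stalk ⟨g (f x), hsS₀⟩
  haveI locAs : IsLocalization.AtPrime (S.presheaf.stalk (g (f x))) p.asIdeal :=
    hS₀.isLocalization_stalk ⟨g (f x), hsS₀⟩
  have hm : IsLocalRing.maximalIdeal (S.presheaf.stalk (g (f x))) =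
      p.asIdeal.map (algebraMap A (S.presheaf.stalk (g (f x)))) :=
    (IsLocalization.AtPrime.map_eq_maximalIdeal p.asIdeal (S.presheaf.stalk (g (f x)))).symm
  have hJ : Ideal.map (g.stalkMap (f x)).hom
      (IsLocalRing.maximalIdeal (S.presheaf.stalk (g (f x)))) =
      ((q.asIdeal.under A).map (algebraMap A B)).map
        (algebraMap B (Y.presheaf.stalk (f x))) := by
    rw [hP, hm, Ideal.map_map, Ideal.map_map]
    congr 1
    ext a
    exact stalkMap_germ_eq g hWS (f x) hfxW a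
  haveI := isLocalizedModule_germ hV F x hxV
  exact (mem_ffk_iff_flat_stalkQuotient (A := A) (B := B) (C := C) (M := Γ(F, V))
    (X := F.presheaf.stalk x) q (germₗ F V x hxV)
    (By := Y.presheaf.stalk (f x)) (hW.primeIdealOf ⟨f x, hfxW⟩).asIdeal.primeCompl _ hJ).symm

set_option maxHeartbeats 3200000 in
/-- **Local constructibility of the fibrewise flat locus in `X`**, stalk-quotient form. -/
theorem isLocallyConstructible_stalkQuotient_flat {X Y S : Scheme.{u}} (f : X ⟶ Y) (h : Y ⟶ S)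
    [LocallyOfFinitePresentation (f ≫ h)] [LocallyOfFinitePresentation h]
    (F : X.Modules) [F.IsQuasicoherent]
    [SheafOfModules.IsFinitePresentation (R := X.ringCatSheaf) F] :
    IsLocallyConstructible {x : ↥X |
      letI := FlatMod.moduleStalkOver f F x
      Module.Flat (↑(Y.presheaf.stalk (f x)) ⧸ Ideal.map (h.stalkMap (f x)).hom
          (IsLocalRing.maximalIdeal ↑(S.presheaf.stalk (h (f x)))))
        (↑(F.presheaf.stalk x) ⧸ (Ideal.map (h.stalkMap (f x)).hom
          (IsLocalRing.maximalIdeal ↑(S.presheaf.stalk (h (f x)))) •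
          (⊤ : Submodule ↑(Y.presheaf.stalk (f x)) ↑(F.presheaf.stalk x))))} := by
  intro x
  obtain ⟨W, S₀, hW, hS₀, hfxW, hWS⟩ := Groth.Agent.Lib.Helper2.FlatOver.exists_affine_nhds h (f x)
  obtain ⟨V, hV, hxV, hVW, hfpM⟩ := exists_affine_nhds_finitePresentation F x (f ⁻¹ᵁ W) hfxW
  have hVS : V ≤ (f ≫ h) ⁻¹ᵁ S₀ := fun z hz => hWS (hVW hz)
  letI aAB : Algebra Γ(S, S₀) Γ(Y, W) := (h.appLE S₀ W hWS).hom.toAlgebra
  letI aAC : Algebra Γ(S, S₀) Γ(X, V) := ((f ≫ h).appLE S₀ V hVS).hom.toAlgebra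
  letI aBC : Algebra Γ(Y, W) Γ(X, V) := (f.appLE W V hVW).hom.toAlgebra
  haveI tABC : IsScalarTower Γ(S, S₀) Γ(Y, W) Γ(X, V) := by
    refine IsScalarTower.of_algebraMap_eq' ?_
    show ((f ≫ h).appLE S₀ V hVS).hom = (f.appLE W V hVW).hom.comp (h.appLE S₀ W hWS).hom
    rw [← CommRingCat.hom_comp, Scheme.Hom.appLE_comp_appLE]
  letI mBM : Module Γ(Y, W) Γ(F, V) := Module.compHom Γ(F, V) (f.appLE W V hVW).hom
  letI mAM : Module Γ(S, S₀) Γ(F, V) := Module.compHom Γ(F, V) ((f ≫ h).appLE S₀ V hVS).hom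
  haveI tBCM : IsScalarTower Γ(Y, W) Γ(X, V) Γ(F, V) :=
    IsScalarTower.of_algebraMap_smul (fun _ _ => rfl)
  haveI tACM : IsScalarTower Γ(S, S₀) Γ(X, V) Γ(F, V) :=
    IsScalarTower.of_algebraMap_smul (fun _ _ => rfl)
  haveI tABM : IsScalarTower Γ(S, S₀) Γ(Y, W) Γ(F, V) := by
    refine IsScalarTower.of_algebraMap_smul (fun a m => ?_)
    change (f.appLE W V hVW).hom ((h.appLE S₀ W hWS).hom a) • m =
      ((f ≫ h).appLE S₀ V hVS).hom a • m
    rw [← RingHom.comp_apply, ← CommRingCat.hom_comp, Scheme.Hom.appLE_comp_appLE]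
  haveI : Algebra.FinitePresentation Γ(S, S₀) Γ(X, V) :=
    (f ≫ h).finitePresentation_appLE hS₀ hV hVS
  haveI : Algebra.FinitePresentation Γ(S, S₀) Γ(Y, W) := h.finitePresentation_appLE hS₀ hW hWS
  have hc : IsConstructible (FFK Γ(S, S₀) Γ(Y, W) Γ(X, V) Γ(F, V)) :=
    isConstructible_ffk Γ(S, S₀) Γ(Y, W) Γ(X, V) Γ(F, V)
  refine ⟨V, V.isOpen.mem_nhds hxV, V.isOpen, ?_⟩
  have hpre := hV.isoSpec.hom.isConstructible_preimage hc
  have heq : (Subtype.val : ↥V → X) ⁻¹' {x : ↥X |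
      letI := FlatMod.moduleStalkOver f F x
      Module.Flat (↑(Y.presheaf.stalk (f x)) ⧸ Ideal.map (h.stalkMap (f x)).hom
          (IsLocalRing.maximalIdeal ↑(S.presheaf.stalk (h (f x)))))
        (↑(F.presheaf.stalk x) ⧸ (Ideal.map (h.stalkMap (f x)).hom
          (IsLocalRing.maximalIdeal ↑(S.presheaf.stalk (h (f x)))) •
          (⊤ : Submodule ↑(Y.presheaf.stalk (f x)) ↑(F.presheaf.stalk x))))} =
      (fun y : V => hV.primeIdealOf y) ⁻¹' FFK Γ(S, S₀) Γ(Y, W) Γ(X, V) Γ(F, V) := by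
    ext ⟨z, hz⟩
    exact stalkQuotient_flat_iff_mem_ffk f h F hS₀ hW hWS hV hVW z hz
  change IsConstructible ((Subtype.val : ↥V → X) ⁻¹' _)
  rw [heq]
  exact hpre

/-- **Local constructibility of the fibrewise flat locus in the base** (EGA IV 11.2.8 (ii) type):
the set of `s` such that `F_s` is `f_s`-flat at all points of `X_s`. -/
theorem isLocallyConstructible_base_stalkQuotient_flat {X Y S : Scheme.{u}} (f : X ⟶ Y)
    (h : Y ⟶ S)
    [LocallyOfFinitePresentation (f ≫ h)] [QuasiCompact (f ≫ h)] [LocallyOfFinitePresentation h]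
    (F : X.Modules) [F.IsQuasicoherent]
    [SheafOfModules.IsFinitePresentation (R := X.ringCatSheaf) F] :
    IsLocallyConstructible {s : ↥S | ∀ x : ↥X, (f ≫ h) x = s →
      letI := FlatMod.moduleStalkOver f F x
      Module.Flat (↑(Y.presheaf.stalk (f x)) ⧸ Ideal.map (h.stalkMap (f x)).hom
          (IsLocalRing.maximalIdeal ↑(S.presheaf.stalk (h (f x)))))
        (↑(F.presheaf.stalk x) ⧸ (Ideal.map (h.stalkMap (f x)).hom
          (IsLocalRing.maximalIdeal ↑(S.presheaf.stalk (h (f x)))) •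
          (⊤ : Submodule ↑(Y.presheaf.stalk (f x)) ↑(F.presheaf.stalk x))))} := by
  have h1 := Groth.Agent.Lib.Helper5.isLocallyConstructible_compl
    (isLocallyConstructible_stalkQuotient_flat f h F)
  have h2 := Groth.Agent.Lib.Helper5.isLocallyConstructible_compl
    ((f ≫ h).isLocallyConstructible_image h1)
  convert h2 using 1
  ext s
  simp only [Set.mem_ofPred_eq, Set.mem_compl_iff, Set.mem_image, not_exists, not_and]
  constructor
  · intro hs x hx hxs
    exact hx (hs x hxs)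
  · intro hs x hxs
    by_contra hcon
    exact hs x hcon hxs

end Groth.Agent.Lib.H9FFL8
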