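import Mathlib
import Groth.Agent.S1353

/-! Étale neighbourhood adapted to a locally quasi-finite immersed subscheme (S14078), from S1353 (helper9). -/

set_option autoImplicit false
set_option linter.unusedVariables false
set_option linter.unusedSectionVars false
set_option linter.style.haveILetI false

open CategoryTheory CategoryTheory.Limits AlgebraicGeometry

universe u

namespace Groth.Agent.Lib.H9FamCycNbhd

theorem isIso_residueFieldMap_of_bijective {X Y : Scheme.{u}} (f : X ⟶ Y) (x : X)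
    (h : Function.Bijective (f.residueFieldMap x)) : IsIso (f.residueFieldMap x) :=
  (ConcreteCategory.isIso_iff_bijective _).mpr h

theorem main {Z X S : Scheme.{u}} (f : X ⟶ S)
    [LocallyOfFiniteType f] (i : Z ⟶ X) [IsImmersion i] [LocallyQuasiFinite (i ≫ f)] (z : Z) :
    ∃ (T : Scheme.{u}) (g : T ⟶ S) (U : (pullback f g).Opens)
      (u : ↥(pullback (U.ι ≫ pullback.fst f g) i)),
      Etale g ∧
      IsFinite (pullback.fst (U.ι ≫ pullback.fst f g) i ≫ U.ι ≫ pullback.snd f g) ∧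
      (pullback.snd (U.ι ≫ pullback.fst f g) i).base u = z ∧
      IsIso ((pullback.snd (U.ι ≫ pullback.fst f g) i).residueFieldMap u) ∧
      ∀ u' : ↥(pullback (U.ι ≫ pullback.fst f g) i),
        (pullback.fst (U.ι ≫ pullback.fst f g) i ≫ U.ι ≫ pullback.snd f g).base u' =
          (pullback.fst (U.ι ≫ pullback.fst f g) i ≫ U.ι ≫ pullback.snd f g).base u → u' = u := by
  obtain ⟨T, g, t, hnb, V, v, hvV, hfin, hvt, huniq, hvz, hres⟩ :=
    Groth.Agent.S1353.result (i ≫ f) z ((i ≫ f).quasiFiniteAt z)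
  -- the base change of `i`
  let iT : pullback (i ≫ f) g ⟶ pullback f g :=
    pullback.map (i ≫ f) g f g i (𝟙 T) (𝟙 S) (Category.comp_id _) (by simp)
  have hiT1 : iT ≫ pullback.fst f g = pullback.fst (i ≫ f) g ≫ i := pullback.lift_fst _ _ _
  have hiT2 : iT ≫ pullback.snd f g = pullback.snd (i ≫ f) g :=
    (pullback.lift_snd _ _ _).trans (Category.comp_id _)
  have pbT : IsPullback iT (pullback.fst (i ≫ f) g) (pullback.fst f g) i := by
    refine IsPullback.of_right (h₁₂ := pullback.snd f g) (v₁₃ := g) (h₂₂ := f) ?_ hiT1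
      (IsPullback.of_hasPullback f g).flip
    rw [hiT2]
    exact (IsPullback.of_hasPullback (i ≫ f) g).flip
  haveI : IsImmersion iT := MorphismProperty.of_isPullback (P := @IsImmersion) pbT.flip inferInstance
  -- extend `V` to an open of `X_T`
  obtain ⟨U₀, hU₀o, hU₀⟩ := iT.isEmbedding.isInducing.isOpen_iff.mp V.isOpen
  let U : (pullback f g).Opens := ⟨U₀, hU₀o⟩
  have hUV : iT ⁻¹ᵁ U = V := TopologicalSpace.Opens.ext hU₀
  refine ⟨T, g, U, ?_⟩
  subst hUV
  have pb2 : IsPullback (iT ∣_ U) ((iT ⁻¹ᵁ U).ι ≫ pullback.fst (i ≫ f) g)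
      (U.ι ≫ pullback.fst f g) i :=
    (isPullback_morphismRestrict iT U).paste_vert pbT
  have pb1 := IsPullback.of_hasPullback (U.ι ≫ pullback.fst f g) i
  let ε := pb1.isoIsPullback _ _ pb2
  have hε1 : ε.hom ≫ (iT ∣_ U) = pullback.fst (U.ι ≫ pullback.fst f g) i :=
    IsPullback.isoIsPullback_hom_fst _ _ pb1 pb2
  have hε2 : ε.hom ≫ ((iT ⁻¹ᵁ U).ι ≫ pullback.fst (i ≫ f) g) =
      pullback.snd (U.ι ≫ pullback.fst f g) i :=
    IsPullback.isoIsPullback_hom_snd _ _ pb1 pb2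
  have hmor : pullback.fst (U.ι ≫ pullback.fst f g) i ≫ U.ι ≫ pullback.snd f g =
      ε.hom ≫ ((iT ⁻¹ᵁ U).ι ≫ pullback.snd (i ≫ f) g) := by
    rw [← hε1, Category.assoc, ← Category.assoc (iT ∣_ U), morphismRestrict_ι, Category.assoc,
      hiT2]
  let v' : ((iT ⁻¹ᵁ U : (pullback (i ≫ f) g).Opens) : Scheme.{u}) := ⟨v, hvV⟩
  have hεv : ε.hom (ε.inv v') = v' := by
    rw [← Scheme.Hom.comp_apply, Iso.inv_hom_id]; rfl
  refine ⟨ε.inv v', hnb.1, ?_, ?_, ?_, ?_⟩
  · rw [hmor]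
    haveI : IsFinite ((iT ⁻¹ᵁ U).ι ≫ pullback.snd (i ≫ f) g) := hfin
    infer_instance
  · show (pullback.snd (U.ι ≫ pullback.fst f g) i) (ε.inv v') = z
    rw [← hε2, Scheme.Hom.comp_apply, hεv, Scheme.Hom.comp_apply]
    exact hvz
  · rw [← hε2, Scheme.residueFieldMap_comp, Scheme.residueFieldMap_comp]
    have key : ∀ p : ↥(pullback (i ≫ f) g), p = v →
        IsIso ((pullback.fst (i ≫ f) g).residueFieldMap p) := by
      rintro p rfl
      exact isIso_residueFieldMap_of_bijective _ _ hres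
    haveI h1 := key ((iT ⁻¹ᵁ U).ι (ε.hom (ε.inv v'))) (by rw [hεv]; rfl)
    haveI h2 : IsIso ((iT ⁻¹ᵁ U).ι.residueFieldMap (ε.hom (ε.inv v'))) := inferInstance
    haveI h3 : IsIso (ε.hom.residueFieldMap (ε.inv v')) := inferInstance
    exact IsIso.comp_isIso' (IsIso.comp_isIso' h1 h2) h3
  · intro u' hu'
    have h1 : ∀ w, (pullback.fst (U.ι ≫ pullback.fst f g) i ≫ U.ι ≫ pullback.snd f g) w =
        pullback.snd (i ≫ f) g ((iT ⁻¹ᵁ U).ι (ε.hom w)) := by
      intro w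
      rw [hmor, Scheme.Hom.comp_apply, Scheme.Hom.comp_apply]
    change (pullback.fst (U.ι ≫ pullback.fst f g) i ≫ U.ι ≫ pullback.snd f g) u' =
      (pullback.fst (U.ι ≫ pullback.fst f g) i ≫ U.ι ≫ pullback.snd f g) (ε.inv v') at hu'
    rw [h1, h1, hεv] at hu'
    have h2 : (iT ⁻¹ᵁ U).ι (ε.hom u') = v :=
      huniq _ (ε.hom u').2 (hu'.trans hvt)
    have h3 : ε.hom u' = v' := Subtype.ext h2
    rw [← h3, ← Scheme.Hom.comp_apply, Iso.hom_inv_id]
    rfl

end Groth.Agent.Lib.H9FamCycNbhd
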