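import Mathlib
import Groth.Agent.Lib.H9FibSuppOpen
import Groth.Agent.Lib.H9ModLocus
import Groth.Agent.Lib.Helper5LocusGeneric
import Groth.Agent.Lib.Helper5Compl
import Groth.Agent.Lib.Helper2Constr

/-! Constructibility of loci defined by associated points of fibre modules, without flatness (EGA IV 9.8-type; S5871, S5872, S5874): BadL c S (module locus Bad A M (ZC c A M) S), badL_bc, badL_gen (generic flatness + isClosed_bad), isConstructible_bad (B f.p., M f.p., S SDown+SFin); BadXc f F c S, TX f F c S, image_badXc_eq, badXc_chart, isLocallyConstructible_badXc, isLocallyConstructible_image_TX (Chevalley), S0 J, sDown_S0, sFin_S0, isLocallyConstructible_noEmbedded; exists_fiber_iff, assDims_eq_iff, isLocallyConstructible_assDims_eq, exists_open_noEmbedded (helper9). -/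

set_option autoImplicit false
set_option linter.style.haveILetI false
set_option linter.unusedSimpArgs false
set_option linter.unusedVariables false
universe u

namespace Groth.Agent.Lib.H9FibAssConstr

-- ===== part AsA =====
section

open TensorProduct Topology
open Groth.Agent.Lib.Helper4.DimFormula Groth.Agent.Lib.Helper6.OpenDim
open Groth.Agent.Lib.Helper28 Groth.Agent.Lib.Helper5 Groth.Agent.Lib.Helper5.GenDepth
open Groth.Agent.Lib.H9ModFibAlg Groth.Agent.Lib.H9RectDepthAlg Groth.Agent.Lib.H9RectDepthConstr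
open Groth.Agent.Lib.Helper5.CodepthOpen Groth.Agent.Lib.Helper5.FibCodepthConstr
open Groth.Agent.Lib.H9FibNumerics Groth.Agent.Lib.H9ModLocus

attribute [local instance] Algebra.TensorProduct.rightAlgebra

/-- the fibrewise specializations of the points whose invariants lie in `S` (and, if `c`, at
which the fibre module is not Cohen–Macaulay of the right dimension), as a module locus. -/
def BadL (c : Prop) (S : Set (ℕ∞ × ℕ)) : ModLocus.{u} := fun A B M _ _ _ _ _ =>
  Bad A M (ZC c A M) S

theorem badL_bc (c : Prop) {S : Set (ℕ∞ × ℕ)} (hS : SDown S) : (BadL.{u} c S).BC := by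
  intro A B A' B' _ _ _ _ _ _ _ _ _ _ _ _ _ M _ _ _ M' _ _ _ _ f hf
  ext r
  exact bad_baseChange (A := A) (B := B) (A' := A') (B' := B') M M' f hf c hS r

set_option synthInstance.maxHeartbeats 400000 in
set_option maxHeartbeats 1600000 in
theorem badL_gen (c : Prop) {S : Set (ℕ∞ × ℕ)} (hS : SDown S) (hS' : SFin S) :
    (BadL.{u} c S).Gen := by
  intro A₁ B₁ M₁ _ _ _ _ _ _ _ _ _ hA₁
  haveI : IsNoetherianRing A₁ := Algebra.FiniteType.isNoetherianRing ℤ A₁
  letI : Module A₁ M₁ := Module.compHom M₁ (algebraMap A₁ B₁)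
  haveI : IsScalarTower A₁ B₁ M₁ := IsScalarTower.of_algebraMap_smul fun _ _ => rfl
  obtain ⟨g, hg, -, hfree, -, -⟩ := Groth.Agent.Lib.Helper2.GenFree.exists_freeAway A₁ B₁ M₁
  refine ⟨g, hg, ?_⟩
  haveI : Module.Free (Localization.Away g) (Localization.Away g ⊗[A₁] M₁) :=
    hfree.free (Localization.Away g) (TensorProduct.mk A₁ (Localization.Away g) M₁ 1)
  haveI hfp1 : Algebra.FinitePresentation A₁ (Localization.Away g) :=
    IsLocalization.Away.finitePresentation g
  have hft1 : Algebra.FiniteType A₁ (Localization.Away g) := inferInstance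
  have hft2 : Algebra.FiniteType ℤ (Localization.Away g) := Algebra.FiniteType.trans hA₁ hft1
  haveI : IsNoetherianRing (Localization.Away g) := Algebra.FiniteType.isNoetherianRing ℤ _
  have hft3 : Algebra.FiniteType ℤ (Localization.Away g ⊗[A₁] B₁) :=
    Algebra.FiniteType.trans hft2 inferInstance
  haveI : IsNoetherianRing (Localization.Away g ⊗[A₁] B₁) :=
    Algebra.FiniteType.isNoetherianRing ℤ _
  haveI : Module.Flat (Localization.Away g) ((Localization.Away g ⊗[A₁] B₁) ⊗[B₁] M₁) :=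
    Module.Flat.of_linearEquiv
      (Algebra.IsPushout.cancelBaseChange A₁ (Localization.Away g) B₁
        (Localization.Away g ⊗[A₁] B₁) M₁)
  have hA := cmu_of_finiteType_int (Localization.Away g) hft2
  have hB := cmu_of_finiteType_int (Localization.Away g ⊗[A₁] B₁) hft3
  have hUC := isUniversallyCatenary_of_finiteType_int (Localization.Away g) hft2
  have hcl := isClosed_bad (A := Localization.Away g) (B := Localization.Away g ⊗[A₁] B₁)
    ((Localization.Away g ⊗[A₁] B₁) ⊗[B₁] M₁) hA hB hUC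
    (isClosed_ZC ((Localization.Away g ⊗[A₁] B₁) ⊗[B₁] M₁) c hA hB) hS hS'
  apply IsConstructible.of_compl
  exact Groth.Agent.Lib.Helper5.LocusGeneric.IsOpen.isConstructible_of_noetherianSpace
    hcl.isOpen_compl

/-- **Constructibility of the fibrewise specializations** of the points whose invariants lie in
`S`, without flatness. -/
theorem isConstructible_bad {c : Prop} {S : Set (ℕ∞ × ℕ)} (hS : SDown S) (hS' : SFin S)
    (A B : Type u) [CommRing A] [CommRing B] [Algebra A B]
    [Algebra.FinitePresentation A B] (M : Type u) [AddCommGroup M] [Module B M]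
    [Module.FinitePresentation B M] :
    IsConstructible (Bad A M (ZC c A M) S : Set (PrimeSpectrum B)) :=
  isConstructible_of_generic_fp (BadL c S) (badL_bc c hS) (badL_gen c hS hS') A B M

end

-- ===== part AsB =====
section

open AlgebraicGeometry CategoryTheory Limits IsLocalRing TensorProduct Topology TopologicalSpace
open Groth.Agent.Lib.H9ModFibAlg Groth.Agent.Lib.H9ModFibSch
open Groth.Agent.Lib.Helper4.DimFormula Groth.Agent.Lib.Helper4.VarDim Groth.Agent.Lib.Helper4.FibDim
open Groth.Agent.Lib.H9RectDepthAlg Groth.Agent.Lib.H9RectDepthSch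
open Groth.Agent.Lib.Helper2.FlatOver Groth.Agent.Lib.Helper2.FinPres
open Groth.Agent.Lib.H9FibNumerics Groth.Agent.Lib.H9FibNumericsSch
open Groth.Agent.Lib.H9FibSuppOpen

variable {X Y : Scheme.{u}} (f : X ⟶ Y)

/-- the points having a fibrewise generization whose invariants lie in `S` (and, if `c`, at which
the fibre module has positive codepth). -/
def BadXc (F : X.Modules) (c : Prop) (S : Set (ℕ∞ × ℕ)) : Set X :=
  {x | ∃ x' : X, f x' = f x ∧ x' ⤳ x ∧
    (c → ¬ mF f F x' ≤ ((dF f F x' : ℕ∞) : WithBot ℕ∞) + (0 : ℕ)) ∧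
    (dF f F x', ptTrdeg f x') ∈ S}

/-- the points whose invariants lie in `S` (and, if `c`, at which the fibre module has positive
codepth). -/
def TX (F : X.Modules) (c : Prop) (S : Set (ℕ∞ × ℕ)) : Set X :=
  {x | (c → ¬ mF f F x ≤ ((dF f F x : ℕ∞) : WithBot ℕ∞) + (0 : ℕ)) ∧
    (dF f F x, ptTrdeg f x) ∈ S}

theorem image_badXc_eq (F : X.Modules) (c : Prop) (S : Set (ℕ∞ × ℕ)) :
    f '' BadXc f F c S = f '' TX f F c S := by
  ext y
  constructor
  · rintro ⟨x, ⟨x', hfx', -, hc, hS⟩, rfl⟩
    exact ⟨x', ⟨hc, hS⟩, hfx'⟩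
  · rintro ⟨x, ⟨hc, hS⟩, rfl⟩
    exact ⟨x, ⟨x, rfl, specializes_rfl, hc, hS⟩, rfl⟩

section Chart

variable {U : X.Opens} (hU : IsAffineOpen U) {V : Y.Opens} (hV : IsAffineOpen V)
  (hUV : U ≤ f ⁻¹ᵁ V)

include hV in
set_option maxHeartbeats 1600000 in
theorem badXc_chart [LocallyOfFiniteType f] (F : X.Modules) [F.IsQuasicoherent]
    (hft : (f.appLE V U hUV).hom.FiniteType) [Module.Finite Γ(X, U) Γ(F, U)]
    (c : Prop) (S : Set (ℕ∞ × ℕ)) (x : X) (hxU : x ∈ U) :
    letI : Algebra Γ(Y, V) Γ(X, U) := (f.appLE V U hUV).hom.toAlgebra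
    x ∈ BadXc f F c S ↔
      hU.primeIdealOf ⟨x, hxU⟩ ∈ Bad Γ(Y, V) Γ(F, U) (ZC c Γ(Y, V) Γ(F, U)) S := by
  letI aVU : Algebra Γ(Y, V) Γ(X, U) := (f.appLE V U hUV).hom.toAlgebra
  constructor
  · rintro ⟨x', hfx', hspec, hc, hS⟩
    have hx'U : x' ∈ U := hspec.mem_open U.isOpen hxU
    obtain ⟨n1, n2, n3⟩ := fiber_numerics f hU hV hUV F hft x' hx'U
    refine ⟨hU.primeIdealOf ⟨x', hx'U⟩, ⟨?_, ?_⟩,
      (specializes_iff_primeIdealOf_le hU x' x hx'U hxU).mp hspec,
      (map_eq_iff_under_eq f hU hV hUV x' x hx'U hxU).mp hfx'⟩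
    · intro hcc
      have := hc hcc
      rw [n1, n2] at this
      exact this
    · rw [← n1, ← n3]
      exact hS
  · rintro ⟨z, ⟨hzZ, hzS⟩, hzx, hzA⟩
    obtain ⟨⟨x', hx'U⟩, rfl⟩ := hU.isoSpec.hom.homeomorph.surjective z
    change (hU.primeIdealOf ⟨x', hx'U⟩).asIdeal ≤ _ at hzx
    change (hU.primeIdealOf ⟨x', hx'U⟩).asIdeal.under _ = _ at hzA
    obtain ⟨n1, n2, n3⟩ := fiber_numerics f hU hV hUV F hft x' hx'U
    refine ⟨x', (map_eq_iff_under_eq f hU hV hUV x' x hx'U hxU).mpr hzA,
      (specializes_iff_primeIdealOf_le hU x' x hx'U hxU).mpr hzx, ?_, ?_⟩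
    · intro hcc
      rw [n1, n2]
      exact hzZ hcc
    · rw [n1, n3]
      exact hzS

end Chart

set_option synthInstance.maxHeartbeats 400000 in
set_option maxHeartbeats 1600000 in
/-- the fibrewise specializations of the points with invariants in `S` form a locally
constructible set (no flatness). -/
theorem isLocallyConstructible_badXc [LocallyOfFinitePresentation f] (F : X.Modules)
    (hF : CohB1.IsFP F) (c : Prop) {S : Set (ℕ∞ × ℕ)} (hS : SDown S) (hS' : SFin S) :
    IsLocallyConstructible (BadXc f F c S) := by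
  haveI : F.IsQuasicoherent := Groth.Agent.Helper18Strict.isQCoh_of_isFP F hF
  intro x
  obtain ⟨U, hU, V, hV, hUV, hxU, hfp, hfpM⟩ := exists_chart f F hF x
  letI aVU : Algebra Γ(Y, V) Γ(X, U) := (f.appLE V U hUV).hom.toAlgebra
  haveI : Algebra.FinitePresentation Γ(Y, V) Γ(X, U) := hfp
  haveI := hfpM
  have hft : (f.appLE V U hUV).hom.FiniteType := RingHom.FiniteType.of_finitePresentation hfp
  have hW := isConstructible_bad (c := c) hS hS' Γ(Y, V) Γ(X, U) Γ(F, U)
  refine ⟨U, U.isOpen.mem_nhds hxU, U.isOpen, ?_⟩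
  have hpre := hU.isoSpec.hom.isConstructible_preimage hW
  have heq : (Subtype.val : ↥U → X) ⁻¹' BadXc f F c S =
      (fun y : U => hU.primeIdealOf y) ⁻¹'
        (Bad Γ(Y, V) Γ(F, U) (ZC c Γ(Y, V) Γ(F, U)) S : Set (PrimeSpectrum Γ(X, U))) := by
    ext ⟨x', hx'⟩
    exact badXc_chart f hU hV hUV F hft c S x' hx'
  change IsConstructible ((Subtype.val : ↥U → X) ⁻¹' _)
  rw [heq]
  exact hpre

/-- the points of the base whose fibre contains a point with invariants in `S`. -/
theorem isLocallyConstructible_image_TX [LocallyOfFinitePresentation f] [QuasiCompact f]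
    (F : X.Modules) (hF : CohB1.IsFP F) (c : Prop) {S : Set (ℕ∞ × ℕ)} (hS : SDown S)
    (hS' : SFin S) : IsLocallyConstructible (f '' TX f F c S) := by
  rw [← image_badXc_eq]
  exact f.isLocallyConstructible_image (isLocallyConstructible_badXc f F hF c hS hS')

/-- pairs of depth zero with transcendence degree in `J`. -/
def S0 (J : Set ℕ) : Set (ℕ∞ × ℕ) := {p | p.1 = 0 ∧ p.2 ∈ J}

theorem sDown_S0 (J : Set ℕ) : SDown (S0 J) := by
  rintro i i' j j' ⟨hi, hj⟩ hjj' hle
  have hi0 : i = 0 := hi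
  rw [hi0, zero_add] at hle
  have h1 : (j' : ℕ∞) ≤ (j : ℕ∞) := le_trans le_add_self hle
  have h2 : j' ≤ j := by exact_mod_cast h1
  have h3 : j' = j := le_antisymm h2 hjj'
  subst h3
  have h4 : i' + (j' : ℕ∞) ≤ 0 + (j' : ℕ∞) := by rw [zero_add]; exact hle
  have h5 : i' ≤ 0 := (ENat.add_le_add_iff_right (ENat.coe_ne_top j')).mp h4
  exact ⟨le_antisymm h5 (zero_le), hj⟩

theorem sFin_S0 (J : Set ℕ) : SFin (S0 J) := by
  rintro i j ⟨hi, -⟩ htop
  have hi0 : i = 0 := hi
  rw [hi0] at htop
  exact ENat.zero_ne_top htop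

/-- **S5871**: the fibre modules without embedded associated points form a locally constructible
set of the base. -/
theorem isLocallyConstructible_noEmbedded [LocallyOfFinitePresentation f] [QuasiCompact f]
    (F : X.Modules) (hF : CohB1.IsFP F) :
    IsLocallyConstructible
      {s : Y | AssSch.NoEmbedded ((Scheme.Modules.pullback (f.fiberι s)).obj F)} := by
  have h := Groth.Agent.Lib.Helper5.isLocallyConstructible_compl
    (isLocallyConstructible_image_TX f F hF True (sDown_S0 Set.univ) (sFin_S0 Set.univ))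
  convert h using 1
  ext s
  rw [Set.mem_ofPred_eq, noEmbedded_iff_NE f F hF s, Set.mem_compl_iff]
  constructor
  · rintro hne ⟨x, ⟨hc, h0, -⟩, rfl⟩
    exact hc trivial (hne x rfl h0)
  · intro h x hfx h0
    by_contra hcon
    exact h ⟨x, ⟨fun _ => hcon, h0, trivial⟩, hfx⟩

end

-- ===== part AsC =====
section

open AlgebraicGeometry CategoryTheory Limits IsLocalRing TensorProduct Topology TopologicalSpace
open Groth.Agent.Lib.H9ModFibAlg Groth.Agent.Lib.H9ModFibSch
open Groth.Agent.Lib.Helper4.DimFormula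
open Groth.Agent.Lib.H9RectDepthAlg Groth.Agent.Lib.H9RectDepthSch
open Groth.Agent.Lib.H9FibNumerics Groth.Agent.Lib.H9FibNumericsSch
open Groth.Agent.Lib.H9FibSuppOpen Groth.Agent.Lib.H9FibSkEquidim

variable {X Y : Scheme.{u}} (f : X ⟶ Y)

/-- an existence condition on the points of a fibre, in terms of the points of the source. -/
theorem exists_fiber_iff (P : ∀ (y : Y), f.fiber y → Prop) (y : Y) :
    (∃ z : f.fiber y, P y z) ↔ ∃ x : X, f x = y ∧ P (f x) (f.asFiber x) := by
  have h := forall_fiber_iff f (fun y z => ¬ P y z) y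
  constructor
  · intro hex
    by_contra hcon
    push Not at hcon
    obtain ⟨z, hz⟩ := hex
    exact h.mpr hcon z hz
  · rintro ⟨x, hfx, hx⟩
    by_contra hcon
    push Not at hcon
    exact h.mp hcon x hfx hx

set_option maxHeartbeats 800000 in
/-- the dimensions of the associated prime cycles of the fibre module over `s`, numerically. -/
theorem assDims_eq_iff [LocallyOfFinitePresentation f] (F : X.Modules) (hF : CohB1.IsFP F)
    (Φ : Finset ℕ) (s : Y) :
    (fun z : ↥(f.fiber s) => topologicalKrullDim ↥(closure ({z} : Set ↥(f.fiber s)))) ''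
          AssSch.Ass ((Scheme.Modules.pullback (f.fiberι s)).obj F) =
        (fun n : ℕ => (n : WithBot ℕ∞)) '' (Φ : Set ℕ) ↔
      (∀ x : X, f x = s → dF f F x = 0 → ptTrdeg f x ∈ Φ) ∧
        ∀ n ∈ Φ, ∃ x : X, f x = s ∧ dF f F x = 0 ∧ ptTrdeg f x = n := by
  have hex : ∀ n : ℕ, (∃ z : f.fiber s,
      z ∈ AssSch.Ass ((Scheme.Modules.pullback (f.fiberι s)).obj F) ∧
        topologicalKrullDim ↥(closure ({z} : Set ↥(f.fiber s))) = (n : WithBot ℕ∞)) ↔
      ∃ x : X, f x = s ∧ dF f F x = 0 ∧ ptTrdeg f x = n := by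
    intro n
    rw [exists_fiber_iff f (fun y z =>
      z ∈ AssSch.Ass ((Scheme.Modules.pullback (f.fiberι y)).obj F) ∧
        topologicalKrullDim ↥(closure ({z} : Set ↥(f.fiber y))) = (n : WithBot ℕ∞)) s]
    refine exists_congr fun x => and_congr Iff.rfl ?_
    rw [isAss_iff_dF f F hF x, topologicalKrullDim_closure_asFiber_eq_ptTrdeg f x]
    refine and_congr Iff.rfl ?_
    constructor
    · intro h
      exact natCast_withBot_inj h
    · intro h
      rw [h]
  rw [← assDim_iff_forall f F hF Φ s]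
  constructor
  · intro heq
    refine ⟨fun z hz => ?_, fun n hn => ?_⟩
    · have : topologicalKrullDim ↥(closure ({z} : Set ↥(f.fiber s))) ∈
          (fun n : ℕ => (n : WithBot ℕ∞)) '' (Φ : Set ℕ) := by
        rw [← heq]
        exact ⟨z, hz, rfl⟩
      obtain ⟨n, hn, hnn⟩ := this
      exact ⟨n, hn, hnn.symm⟩
    · apply (hex n).mp
      have : ((n : ℕ) : WithBot ℕ∞) ∈
          (fun z : ↥(f.fiber s) => topologicalKrullDim ↥(closure ({z} : Set ↥(f.fiber s)))) ''
            AssSch.Ass ((Scheme.Modules.pullback (f.fiberι s)).obj F) := by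
        rw [heq]
        exact ⟨n, hn, rfl⟩
      obtain ⟨z, hz, hzn⟩ := this
      exact ⟨z, hz, hzn⟩
  · rintro ⟨h1, h2⟩
    apply Set.Subset.antisymm
    · rintro _ ⟨z, hz, rfl⟩
      obtain ⟨n, hn, hnn⟩ := h1 z hz
      exact ⟨n, hn, hnn.symm⟩
    · rintro _ ⟨n, hn, rfl⟩
      obtain ⟨z, hz, hzn⟩ := (hex n).mpr (h2 n hn)
      exact ⟨z, hz, hzn⟩

set_option maxHeartbeats 800000 in
/-- **S5874**: the set of dimensions of the associated prime cycles of the fibre modules is a
locally constructible function of the point of the base. -/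
theorem isLocallyConstructible_assDims_eq [LocallyOfFinitePresentation f] [QuasiCompact f]
    (F : X.Modules) (hF : CohB1.IsFP F) (Φ : Finset ℕ) :
    IsLocallyConstructible {s : Y |
      (fun z : ↥(f.fiber s) => topologicalKrullDim ↥(closure ({z} : Set ↥(f.fiber s)))) ''
          AssSch.Ass ((Scheme.Modules.pullback (f.fiberι s)).obj F) =
        (fun n : ℕ => (n : WithBot ℕ∞)) '' (Φ : Set ℕ)} := by
  have h1 : IsLocallyConstructible (⋂ n : Φ, f '' TX f F False (S0 {n.1})) :=
    IsLocallyConstructible.iInter fun n =>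
      isLocallyConstructible_image_TX f F hF False (sDown_S0 _) (sFin_S0 _)
  have h2 : IsLocallyConstructible (f '' TX f F False (S0 {n | n ∉ Φ}))ᶜ :=
    Groth.Agent.Lib.Helper5.isLocallyConstructible_compl
      (isLocallyConstructible_image_TX f F hF False (sDown_S0 _) (sFin_S0 _))
  convert h1.inter h2 using 1
  ext s
  rw [Set.mem_ofPred_eq, assDims_eq_iff f F hF Φ s]
  simp only [Set.mem_inter_iff, Set.mem_iInter, Set.mem_compl_iff]
  constructor
  · rintro ⟨ha, hb⟩
    refine ⟨fun n => ?_, ?_⟩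
    · obtain ⟨x, hfx, h0, hn⟩ := hb n.1 n.2
      exact ⟨x, ⟨fun hc => hc.elim, h0, hn⟩, hfx⟩
    · rintro ⟨x, ⟨-, h0, hn⟩, hfx⟩
      exact hn (ha x hfx h0)
  · rintro ⟨ha, hb⟩
    refine ⟨fun x hfx h0 => ?_, fun n hn => ?_⟩
    · by_contra hcon
      exact hb ⟨x, ⟨fun hc => hc.elim, h0, hcon⟩, hfx⟩
    · obtain ⟨x, ⟨-, h0, hxn⟩, hfx⟩ := ha ⟨n, hn⟩
      exact ⟨x, hfx, h0, hxn⟩

set_option maxHeartbeats 800000 in
/-- **S5872**: generic absence of embedded components. -/
theorem exists_open_noEmbedded [IsIntegral Y] [IsNoetherian Y]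
    [LocallyOfFiniteType f] [QuasiCompact f] (F : X.Modules) (hF : CohB1.IsFP F)
    (hη : AssSch.NoEmbedded ((Scheme.Modules.pullback (f.fiberι (genericPoint Y))).obj F)) :
    ∃ U : Y.Opens, genericPoint Y ∈ U ∧
      ∀ s ∈ U, AssSch.NoEmbedded ((Scheme.Modules.pullback (f.fiberι s)).obj F) := by
  haveI : LocallyOfFinitePresentation f :=
    (LocallyOfFinitePresentation.iff_locallyOfFiniteType).mpr inferInstance
  have hlc := isLocallyConstructible_noEmbedded f F hF
  have hcon := hlc.isConstructible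
  have hirr : IsIrreducible (Set.univ : Set Y) := (IrreducibleSpace.isIrreducible_univ Y)
  obtain ⟨U, hUo, hne, hU⟩ := Groth.Agent.Lib.Helper2.Constr.exists_open_subset_or_compl hcon hirr
  rw [Set.inter_univ] at hne hU
  have hηU : genericPoint Y ∈ U :=
    ((genericPoint_spec Y).mem_open_set_iff hUo).mpr (by
      rwa [Set.univ_inter])
  rcases hU with hU | hU
  · exact ⟨⟨U, hUo⟩, hηU, fun s hs => hU hs⟩
  · exact absurd hη (hU hηU)

end

end Groth.Agent.Lib.H9FibAssConstr
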