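import Mathlib
import Groth.Agent.Lib.H9FibNumericsSch
import Groth.Agent.Lib.H9FlatModelElem
import Groth.Agent.Lib.H9ModLocus
import Groth.Agent.Lib.Helper5LocusGeneric
import Groth.Agent.Lib.Helper10Spectral

/-! Depth of fibre modules along a closed subset (EGA IV 12.3-type; S2872, S5986, S19986): bad_baseChange_gen (base change of Bad for the preimage of any subset), isClosed_isConstructible_bad_zeroLocus (Bad A M V(T) S closed and constructible for T finite, M f.p. flat), exists_finset_forall_le, bad_zeroLocus_eq_iInter, isClosed_bad_of_isClosed (arbitrary closed Z); exists_subset_of_subset_iUnion (compactness in the constructible topology), isCompact_of_isConstructible, BadX f F W S, ZU, badX_chart, exists_good_chart, isClosed_badX; Sn, fiberDepthAlong_lt_iff, exists_open_fiberDepthAlong_ge, isRetrocompact_setOf_fiberDepthAlong_ge, fiberDepthAlong_locallyConstructibleFun (helper9). -/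

set_option autoImplicit false
set_option linter.style.haveILetI false
set_option linter.unusedSimpArgs false
set_option linter.unusedVariables false
universe u

namespace Groth.Agent.Lib.H9FibDepthAlong

-- ===== part DaA =====
section

open TensorProduct Topology
open Groth.Agent.Lib.Helper4.DimFormula Groth.Agent.Lib.Helper6.OpenDim
open Groth.Agent.Lib.Helper28 Groth.Agent.Lib.Helper5 Groth.Agent.Lib.Helper5.GenDepth
open Groth.Agent.Lib.H9ModFibAlg Groth.Agent.Lib.H9RectDepthAlg Groth.Agent.Lib.H9RectDepthConstr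
open Groth.Agent.Lib.Helper5.CodepthOpen Groth.Agent.Lib.Helper5.FibCodepthConstr
open Groth.Agent.Lib.H9FibNumerics

section BC

variable {A B A' B' : Type u} [CommRing A] [CommRing B] [CommRing A'] [CommRing B']
  [Algebra A B] [Algebra A A'] [Algebra B B'] [Algebra A' B'] [Algebra A B']
  [IsScalarTower A B B'] [IsScalarTower A A' B'] [Algebra.IsPushout A B A' B']
  [Algebra.FiniteType A B]
  (M : Type u) [AddCommGroup M] [Module B M] [Module.Finite B M]
  (M' : Type u) [AddCommGroup M'] [Module B' M'] [Module B M'] [IsScalarTower B B' M']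
  (f : M →ₗ[B] M') (hf : IsBaseChange B' f)

include f hf in
/-- **Base change invariance** of the fibrewise specializations of `Tset`, for the preimage of
an arbitrary subset. -/
theorem bad_baseChange_gen {S : Set (ℕ∞ × ℕ)} (hS : SDown S) (Z : Set (PrimeSpectrum B))
    (x' : PrimeSpectrum B') :
    x' ∈ Bad A' M' (PrimeSpectrum.comap (algebraMap B B') ⁻¹' Z) S ↔
      PrimeSpectrum.comap (algebraMap B B') x' ∈ Bad A M Z S := by
  obtain ⟨k1, k2⟩ := ftd_baseChange (A := A) (B := B) (A' := A') (B' := B')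
  have hAA : ∀ (q' : Ideal B'), (q'.comap (algebraMap B B')).under A = (q'.under A').under A := by
    intro q'
    rw [Ideal.under_def, Ideal.under_def, Ideal.under_def, Ideal.comap_comap, Ideal.comap_comap,
      ← IsScalarTower.algebraMap_eq, ← IsScalarTower.algebraMap_eq]
  constructor
  · rintro ⟨z', ⟨hz'Z, hz'S⟩, hz'x', hz'A'⟩
    haveI := z'.2
    refine ⟨PrimeSpectrum.comap (algebraMap B B') z', ⟨hz'Z, ?_⟩, Ideal.comap_mono hz'x', ?_⟩
    · have h1 := rdep_baseChange (A := A) (B := B) (A' := A') (B' := B') M M' f hf z'.asIdeal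
        (z'.asIdeal.comap (algebraMap B B')) rfl
      have h2 := k1 z'.asIdeal (z'.asIdeal.comap (algebraMap B B')) rfl
      unfold rdep at h1
      exact hS _ _ _ _ hz'S h2 (le_of_eq h1.symm)
    · change (z'.asIdeal.comap (algebraMap B B')).under A =
        (x'.asIdeal.comap (algebraMap B B')).under A
      rw [hAA, hAA, hz'A']
  · rintro ⟨z, ⟨hzZ, hzS⟩, hzx, hzA⟩
    haveI := z.2
    haveI := x'.2
    obtain ⟨z', hz'p, hz'x', hz'z, hz'A', hz'ftd⟩ := k2 x'.asIdeal z.asIdeal hzx hzA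
    haveI := hz'p
    have h1 := rdep_baseChange (A := A) (B := B) (A' := A') (B' := B') M M' f hf z'
      z.asIdeal hz'z.symm
    unfold rdep at h1
    rw [hz'ftd] at h1
    have h2 : fdep A' M' z' = fdep A M z.asIdeal :=
      ENat.add_left_injective_of_ne_top (ENat.coe_ne_top _) h1
    refine ⟨⟨z', hz'p⟩, ⟨?_, ?_⟩, hz'x', hz'A'⟩
    · change PrimeSpectrum.comap (algebraMap B B') ⟨z', hz'p⟩ ∈ Z
      have : PrimeSpectrum.comap (algebraMap B B') ⟨z', hz'p⟩ = z := PrimeSpectrum.ext hz'z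
      rw [this]
      exact hzZ
    · change (fdep A' M' z', ftd A' z') ∈ S
      rw [h2, hz'ftd]
      exact hzS

end BC

set_option synthInstance.maxHeartbeats 400000 in
set_option maxHeartbeats 1600000 in
/-- **EGA IV 12.1.1 (numerical form) along a closed constructible subset**: for `B` of finite
presentation over `A`, `M` a finitely presented `B`-module flat over `A` and `T` a finite subset
of `B`, the set of primes having a fibrewise generization in `V(T)` whose invariants (fibre depth,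
relative transcendence degree) lie in `S` is closed and constructible. -/
theorem isClosed_isConstructible_bad_zeroLocus {S : Set (ℕ∞ × ℕ)} (hS : SDown S) (hS' : SFin S)
    {A B : Type u} [CommRing A] [CommRing B] [Algebra A B]
    [Algebra.FinitePresentation A B] (M : Type u) [AddCommGroup M] [Module B M] [Module A M]
    [IsScalarTower A B M] [Module.FinitePresentation B M] [Module.Flat A M] (T : Finset B) :
    IsClosed (Bad A M (PrimeSpectrum.zeroLocus (T : Set B)) S : Set (PrimeSpectrum B)) ∧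
      IsConstructible (Bad A M (PrimeSpectrum.zeroLocus (T : Set B)) S : Set (PrimeSpectrum B)) := by
  obtain ⟨A₀, i1, i2, B₀, i3, i4, i5, i6, i7, i8, M₀, i9, i10, i11, i12, i13, i14, i15, i16, i17,
    f, h1, h2, h3, h4, h5, h6, -, hT⟩ :=
    Groth.Agent.Lib.H9FlatModelElem.exists_flat_module_model_elem A B M T
  haveI := h2
  haveI := h3
  haveI := h4
  haveI : IsNoetherianRing A₀ := Algebra.FiniteType.isNoetherianRing ℤ A₀
  haveI : IsNoetherianRing B₀ := Algebra.FiniteType.isNoetherianRing A₀ B₀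
  have hA₀ : CMU A₀ := cmu_of_finiteType_int A₀ h1
  have hB₀ : CMU B₀ := cmu_of_finiteType_int B₀ (Algebra.FiniteType.trans h1 h2)
  have hUC : CAlg.IsUniversallyCatenary A₀ := isUniversallyCatenary_of_finiteType_int A₀ h1
  set T₀ : Set B₀ := (algebraMap B₀ B) ⁻¹' (T : Set B) with hT₀
  have hZ₀ : IsClosed (PrimeSpectrum.zeroLocus T₀) := PrimeSpectrum.isClosed_zeroLocus _
  have hcl := isClosed_bad (A := A₀) (B := B₀) M₀ hA₀ hB₀ hUC hZ₀ hS hS'
  haveI hpo : Algebra.IsPushout A₀ B₀ A B := Algebra.IsPushout.symm h5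
  have hpre : PrimeSpectrum.comap (algebraMap B₀ B) ⁻¹' (PrimeSpectrum.zeroLocus T₀) =
      PrimeSpectrum.zeroLocus (T : Set B) := by
    rw [PrimeSpectrum.preimage_comap_zeroLocus, hT₀, Set.image_preimage_eq_inter_range,
      Set.inter_eq_left.mpr hT]
  have heq : (Bad A M (PrimeSpectrum.zeroLocus (T : Set B)) S : Set (PrimeSpectrum B)) =
      PrimeSpectrum.comap (algebraMap B₀ B) ⁻¹' (Bad A₀ M₀ (PrimeSpectrum.zeroLocus T₀) S) := by
    ext r
    rw [← hpre]
    exact bad_baseChange_gen (A := A₀) (B := B₀) (A' := A) (B' := B) M₀ M f h6 hS _ r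
  rw [heq]
  refine ⟨hcl.preimage (PrimeSpectrum.continuous_comap (algebraMap B₀ B)), ?_⟩
  apply Groth.Agent.Lib.H9ModLocus.isConstructible_preimage_comap
  have := Groth.Agent.Lib.Helper5.LocusGeneric.IsOpen.isConstructible_of_noetherianSpace
    hcl.isOpen_compl
  exact isConstructible_compl.mp this

section Closed

variable {A B : Type u} [CommRing A] [CommRing B] [Algebra A B] [Algebra.FiniteType A B]
  (M : Type u) [AddCommGroup M] [Module B M]

omit [Algebra.FiniteType A B] in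
theorem bad_mono {Z Z' : Set (PrimeSpectrum B)} (h : Z ⊆ Z') (S : Set (ℕ∞ × ℕ)) :
    Bad A M Z S ⊆ Bad A M Z' S := by
  rintro q ⟨z, ⟨hzZ, hzS⟩, hzq, hzA⟩
  exact ⟨z, ⟨h hzZ, hzS⟩, hzq, hzA⟩

/-- a fibrewise generization of `q` containing a suitable finite part of `J` contains `J`. -/
theorem exists_finset_forall_le (J : Ideal B) (p : Ideal A) [p.IsPrime] :
    ∃ T : Finset B, (T : Set B) ⊆ J ∧ ∀ z : Ideal B, z.IsPrime → z.under A = p →
      (T : Set B) ⊆ z → J ≤ z := by
  classical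
  haveI : Algebra.FiniteType p.ResidueField (p.Fiber B) := inferInstance
  haveI hN : IsNoetherianRing (p.Fiber B) :=
    Algebra.FiniteType.isNoetherianRing p.ResidueField (p.Fiber B)
  let φ : B →+* p.Fiber B := (Algebra.TensorProduct.includeRight : B →ₐ[A] p.Fiber B).toRingHom
  have hfg : (Ideal.span (φ '' (J : Set B))).FG := (isNoetherianRing_iff_ideal_fg _).mp hN _
  obtain ⟨T', hT'sub, hT'span⟩ := (Submodule.fg_span_iff_fg_span_finset_subset _).mp hfg
  have hchoose : ∀ t ∈ T', ∃ b : B, b ∈ J ∧ φ b = t := fun t ht => hT'sub ht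
  choose! g hgJ hgφ using hchoose
  refine ⟨T'.image g, ?_, ?_⟩
  · intro b hb
    rw [Finset.coe_image] at hb
    obtain ⟨t, ht, rfl⟩ := hb
    exact hgJ t ht
  · intro z hz hzp hTz
    haveI := hz
    obtain ⟨Q, hQ⟩ := exists_fibMap_eq p z hzp
    have hQ' : Q.asIdeal.comap φ = z := hQ
    have h1 : (T' : Set (p.Fiber B)) ⊆ Q.asIdeal := by
      intro t ht
      have hmem : g t ∈ z := hTz (by
        rw [Finset.coe_image]
        exact ⟨t, ht, rfl⟩)
      rw [← hQ'] at hmem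
      have : φ (g t) ∈ Q.asIdeal := hmem
      rw [hgφ t ht] at this
      exact this
    have h2 : Ideal.span (φ '' (J : Set B)) ≤ Q.asIdeal := by
      change Submodule.span _ _ ≤ _
      rw [hT'span]
      exact Ideal.span_le.mpr h1
    intro b hb
    rw [← hQ']
    exact h2 (Ideal.subset_span ⟨b, hb, rfl⟩)

/-- the fibrewise specializations along `V(J)` are the intersection of those along the `V(T)`,
`T` a finite subset of `J`. -/
theorem bad_zeroLocus_eq_iInter (J : Ideal B) (S : Set (ℕ∞ × ℕ)) :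
    Bad A M (PrimeSpectrum.zeroLocus (J : Set B)) S =
      ⋂ T : {T : Finset B // (T : Set B) ⊆ J}, Bad A M (PrimeSpectrum.zeroLocus (T.1 : Set B)) S := by
  apply Set.Subset.antisymm
  · apply Set.subset_iInter
    rintro ⟨T, hT⟩
    exact bad_mono M (PrimeSpectrum.zeroLocus_anti_mono hT) S
  · intro q hq
    haveI := q.2
    haveI : (q.asIdeal.under A).IsPrime := Ideal.comap_isPrime _ _
    obtain ⟨T, hTJ, hT⟩ := exists_finset_forall_le J (q.asIdeal.under A)
    obtain ⟨z, ⟨hzZ, hzS⟩, hzq, hzA⟩ := Set.mem_iInter.mp hq ⟨T, hTJ⟩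
    refine ⟨z, ⟨?_, hzS⟩, hzq, hzA⟩
    rw [PrimeSpectrum.mem_zeroLocus, SetLike.coe_subset_coe]
    exact hT z.asIdeal z.2 hzA ((PrimeSpectrum.mem_zeroLocus _ _).mp hzZ)

end Closed

/-- **EGA IV 12.1.1 (numerical form) along an arbitrary closed subset.** -/
theorem isClosed_bad_of_isClosed {S : Set (ℕ∞ × ℕ)} (hS : SDown S) (hS' : SFin S)
    {A B : Type u} [CommRing A] [CommRing B] [Algebra A B]
    [Algebra.FinitePresentation A B] (M : Type u) [AddCommGroup M] [Module B M] [Module A M]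
    [IsScalarTower A B M] [Module.FinitePresentation B M] [Module.Flat A M]
    (Z : Set (PrimeSpectrum B)) (hZ : IsClosed Z) :
    IsClosed (Bad A M Z S : Set (PrimeSpectrum B)) := by
  have hZ' : Z = PrimeSpectrum.zeroLocus ((PrimeSpectrum.vanishingIdeal Z : Ideal B) : Set B) := by
    rw [PrimeSpectrum.zeroLocus_vanishingIdeal_eq_closure, hZ.closure_eq]
  rw [hZ', bad_zeroLocus_eq_iInter]
  exact isClosed_iInter fun T => (isClosed_isConstructible_bad_zeroLocus hS hS' M T.1).1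

end

-- ===== part DaB =====
section

open AlgebraicGeometry CategoryTheory Limits IsLocalRing TensorProduct Topology TopologicalSpace
open Groth.Agent.Lib.H9ModFibAlg Groth.Agent.Lib.H9ModFibSch
open Groth.Agent.Lib.Helper4.DimFormula Groth.Agent.Lib.Helper4.VarDim Groth.Agent.Lib.Helper4.FibDim
open Groth.Agent.Lib.H9RectDepthAlg Groth.Agent.Lib.H9RectDepthSch
open Groth.Agent.Lib.Helper2.FlatOver Groth.Agent.Lib.Helper2.FinPres
open Groth.Agent.Lib.H9FibNumerics Groth.Agent.Lib.H9FibNumericsSch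
open Groth.Agent.Lib.Helper10.Spectral

section Top

variable {X : Type u} [TopologicalSpace X] [CompactSpace X] [QuasiSober X] [PrespectralSpace X]
  [QuasiSeparatedSpace X]

/-- a constructible set covered by an increasing sequence of constructible sets is contained in
one of them. -/
theorem exists_subset_of_subset_iUnion (C : ℕ → Set X) (hC : ∀ n, IsConstructible (C n))
    (hmono : Monotone C) (D : Set X) (hD : IsConstructible D) (hsub : D ⊆ ⋃ n, C n) :
    ∃ N, D ⊆ C N := by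
  have hcomp : @IsCompact X (constructibleTopology X) D :=
    isCompact_constr_of_isClosed_constr (isClosed_constr_of_isConstructible hD)
  obtain ⟨t, ht⟩ := @IsCompact.elim_finite_subcover X (constructibleTopology X) D ℕ hcomp C
    (fun n => isOpen_constr_of_isConstructible (hC n)) hsub
  refine ⟨t.sup id, fun x hx => ?_⟩
  obtain ⟨i, hi, hxi⟩ := Set.mem_iUnion₂.mp (ht hx)
  exact hmono (Finset.le_sup (f := id) hi) hxi

/-- constructible subsets of a spectral space are quasi-compact. -/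
theorem isCompact_of_isConstructible {D : Set X} (hD : IsConstructible D) : IsCompact D :=
  isCompact_of_isClosed_constr (isClosed_constr_of_isConstructible hD)

end Top

variable {X Y : Scheme.{u}} (f : X ⟶ Y)

/-- the points having a fibrewise generization in `W` whose invariants (depth of the fibre
module, relative transcendence degree) lie in `S`. -/
def BadX (F : X.Modules) (W : Set X) (S : Set (ℕ∞ × ℕ)) : Set X :=
  {y | ∃ z : X, z ∈ W ∧ z ⤳ y ∧ f z = f y ∧ (dF f F z, ptTrdeg f z) ∈ S}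

section Chart

variable {U : X.Opens} (hU : IsAffineOpen U) {V : Y.Opens} (hV : IsAffineOpen V)
  (hUV : U ≤ f ⁻¹ᵁ V)

/-- the trace of a subset of `X` on an affine chart. -/
def ZU (W : Set X) : Set (PrimeSpectrum Γ(X, U)) :=
  (fun y : U => hU.primeIdealOf y) '' ((Subtype.val : U → X) ⁻¹' W)

theorem isClosed_ZU {W : Set X} (hW : IsClosed W) : IsClosed (ZU hU W) :=
  hU.isoSpec.hom.homeomorph.isClosedMap _ (hW.preimage continuous_subtype_val)

theorem isConstructible_ZU {W : Set X} (hW : IsLocallyConstructible W) :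
    IsConstructible (ZU hU W) := by
  have h1 : IsLocallyConstructible ((Subtype.val : U → X) ⁻¹' W) :=
    hW.preimage_of_isOpenEmbedding U.isOpen.isOpenEmbedding_subtypeVal
  have h2 : ZU hU W = hU.isoSpec.hom.homeomorph.symm ⁻¹' ((Subtype.val : U → X) ⁻¹' W) :=
    hU.isoSpec.hom.homeomorph.image_eq_preimage_symm _
  rw [h2]
  exact (h1.preimage_of_isOpenEmbedding
    hU.isoSpec.hom.homeomorph.symm.isOpenEmbedding).isConstructible

include hV in
set_option maxHeartbeats 800000 in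
theorem badX_chart [LocallyOfFiniteType f] (F : X.Modules) [F.IsQuasicoherent]
    (hft : (f.appLE V U hUV).hom.FiniteType) [Module.Finite Γ(X, U) Γ(F, U)]
    (W : Set X) (S : Set (ℕ∞ × ℕ)) (x : X) (hxU : x ∈ U) :
    letI : Algebra Γ(Y, V) Γ(X, U) := (f.appLE V U hUV).hom.toAlgebra
    x ∈ BadX f F W S ↔ hU.primeIdealOf ⟨x, hxU⟩ ∈ Bad Γ(Y, V) Γ(F, U) (ZU hU W) S := by
  letI aVU : Algebra Γ(Y, V) Γ(X, U) := (f.appLE V U hUV).hom.toAlgebra
  constructor
  · rintro ⟨z, hzW, hspec, hfz, hzS⟩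
    have hzU : z ∈ U := hspec.mem_open U.isOpen hxU
    obtain ⟨n1, -, n3⟩ := fiber_numerics f hU hV hUV F hft z hzU
    refine ⟨hU.primeIdealOf ⟨z, hzU⟩, ⟨⟨⟨z, hzU⟩, hzW, rfl⟩, ?_⟩,
      (specializes_iff_primeIdealOf_le hU z x hzU hxU).mp hspec,
      (map_eq_iff_under_eq f hU hV hUV z x hzU hxU).mp hfz⟩
    rw [← n1, ← n3]
    exact hzS
  · rintro ⟨z', ⟨⟨⟨z, hzU⟩, hzW, rfl⟩, hzS⟩, hle, hA⟩
    obtain ⟨n1, -, n3⟩ := fiber_numerics f hU hV hUV F hft z hzU
    refine ⟨z, hzW, (specializes_iff_primeIdealOf_le hU z x hzU hxU).mpr hle,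
      (map_eq_iff_under_eq f hU hV hUV z x hzU hxU).mpr hA, ?_⟩
    rw [n1, n3]
    exact hzS

end Chart

section Main

section Chart2

variable {U : X.Opens} (hU : IsAffineOpen U)

include hU in
theorem mem_ZU_iff (W : Set X) (x : X) (hxU : x ∈ U) :
    hU.primeIdealOf ⟨x, hxU⟩ ∈ ZU hU W ↔ x ∈ W := by
  constructor
  · rintro ⟨⟨z, hzU⟩, hzW, heq⟩
    have h := hU.isoSpec.hom.homeomorph.injective heq
    have h' : z = x := congrArg Subtype.val h
    rw [← h']
    exact hzW
  · intro hxW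
    exact ⟨⟨x, hxU⟩, hxW, rfl⟩

end Chart2

set_option synthInstance.maxHeartbeats 400000 in
set_option maxHeartbeats 3200000 in
/-- good charts: the sets `BadX` are cut out by closed (constructible) subsets. -/
theorem exists_good_chart [LocallyOfFinitePresentation f] (F : X.Modules)
    (hF : CohB1.IsFP F) (hflat : FlatMod.IsFlatOver f F) (x : X) (K : X.Opens) (hxK : x ∈ K) :
    ∃ (U : X.Opens) (hU : IsAffineOpen U), x ∈ U ∧ U ≤ K ∧
      ∀ (W : Set X), IsClosed W →
        ∃ DW : Set (PrimeSpectrum Γ(X, U)), IsClosed DW ∧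
          (IsLocallyConstructible W → IsConstructible DW) ∧
          (∀ (x' : X) (hx' : x' ∈ U), x' ∈ W ↔ hU.primeIdealOf ⟨x', hx'⟩ ∈ DW) ∧
          ∀ S : Set (ℕ∞ × ℕ), SDown S → SFin S →
            ∃ D : Set (PrimeSpectrum Γ(X, U)), IsClosed D ∧
              (IsLocallyConstructible W → IsConstructible D) ∧
              ∀ (x' : X) (hx' : x' ∈ U), x' ∈ BadX f F W S ↔ hU.primeIdealOf ⟨x', hx'⟩ ∈ D := by
  haveI : F.IsQuasicoherent := Groth.Agent.Helper18Strict.isQCoh_of_isFP F hF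
  haveI : SheafOfModules.IsFinitePresentation (R := X.ringCatSheaf) F := hF
  obtain ⟨V, hV, hxV⟩ : ∃ V : Y.Opens, IsAffineOpen V ∧ f.base x ∈ V := by
    obtain ⟨_, ⟨V, hV, rfl⟩, hxV, -⟩ :=
      Y.isBasis_affineOpens.exists_subset_of_mem_open (Set.mem_univ (f.base x)) isOpen_univ
    exact ⟨V, hV, hxV⟩
  obtain ⟨U, hU, hxU, hUle, hfpM⟩ :=
    exists_affine_nhds_finitePresentation F x (f ⁻¹ᵁ V ⊓ K) ⟨hxV, hxK⟩
  have hUV : U ≤ f ⁻¹ᵁ V := hUle.trans inf_le_left
  have hfp : (f.appLE V U hUV).hom.FinitePresentation :=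
    HasRingHomProperty.appLE (P := @LocallyOfFinitePresentation) f inferInstance ⟨V, hV⟩ ⟨U, hU⟩ hUV
  have hft : (f.appLE V U hUV).hom.FiniteType := RingHom.FiniteType.of_finitePresentation hfp
  letI mVF : Module Γ(Y, V) Γ(F, U) := Module.compHom Γ(F, U) (f.appLE V U hUV).hom
  letI aVU : Algebra Γ(Y, V) Γ(X, U) := (f.appLE V U hUV).hom.toAlgebra
  haveI t1 : IsScalarTower Γ(Y, V) Γ(X, U) Γ(F, U) := IsScalarTower.of_algebraMap_smul (fun _ _ => rfl)
  haveI : Algebra.FinitePresentation Γ(Y, V) Γ(X, U) := hfp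
  haveI hflM : Module.Flat Γ(Y, V) Γ(F, U) :=
    flat_sections_of_isFlatOverAt f F hU hV hUV (fun x' _ => hflat x')
  refine ⟨U, hU, hxU, hUle.trans inf_le_right, fun W hW => ?_⟩
  refine ⟨ZU hU W, isClosed_ZU hU hW, isConstructible_ZU hU,
    fun x' hx' => (mem_ZU_iff hU W x' hx').symm, fun S hS hS' => ?_⟩
  refine ⟨Bad Γ(Y, V) Γ(F, U) (ZU hU W) S,
    isClosed_bad_of_isClosed hS hS' Γ(F, U) _ (isClosed_ZU hU hW), fun hWc => ?_,
    fun x' hx' => badX_chart f hU hV hUV F hft W S x' hx'⟩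
  have hcon := isConstructible_ZU hU hWc
  have hcomp : IsCompact (ZU hU W)ᶜ := isCompact_of_isConstructible hcon.compl
  obtain ⟨T, hT⟩ := PrimeSpectrum.isCompact_isOpen_iff.mp ⟨hcomp, (isClosed_ZU hU hW).isOpen_compl⟩
  have hT' : ZU hU W = PrimeSpectrum.zeroLocus (T : Set Γ(X, U)) := by
    rw [← compl_compl (ZU hU W), ← hT, compl_compl]
  rw [hT']
  exact (isClosed_isConstructible_bad_zeroLocus hS hS' Γ(F, U) T).2

set_option maxHeartbeats 800000 in
/-- **EGA IV 12.1.1 along a closed subset**, numerical form. -/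
theorem isClosed_badX [LocallyOfFinitePresentation f] (F : X.Modules)
    (hF : CohB1.IsFP F) (hflat : FlatMod.IsFlatOver f F) {W : Set X} (hW : IsClosed W)
    {S : Set (ℕ∞ × ℕ)} (hS : SDown S) (hS' : SFin S) : IsClosed (BadX f F W S) := by
  rw [← isOpen_compl_iff, isOpen_iff_forall_mem_open]
  intro x hx
  obtain ⟨U, hU, hxU, -, hD⟩ := exists_good_chart f F hF hflat x ⊤ trivial
  obtain ⟨-, -, -, -, hD'⟩ := hD W hW
  obtain ⟨D, hDcl, -, hDiff⟩ := hD' S hS hS'
  have hcont : Continuous (fun y : U => hU.primeIdealOf y) := hU.isoSpec.hom.continuous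
  refine ⟨Subtype.val '' ((fun y : U => hU.primeIdealOf y) ⁻¹' Dᶜ), ?_,
    U.isOpen.isOpenMap_subtype_val _ (hDcl.isOpen_compl.preimage hcont), ?_⟩
  · rintro _ ⟨⟨x₁, hx₁⟩, hx₁D, rfl⟩ hbad
    exact hx₁D ((hDiff x₁ hx₁).mp hbad)
  · exact ⟨⟨x, hxU⟩, fun h => hx ((hDiff x hxU).mpr h), rfl⟩

end Main

end

-- ===== part DaC =====
section

open AlgebraicGeometry CategoryTheory Limits IsLocalRing TensorProduct Topology TopologicalSpace
open Groth.Agent.Lib.H9FibNumerics Groth.Agent.Lib.H9FibNumericsSch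

/-- the pairs whose depth component is `< n`. -/
def Sn (n : ℕ∞) : Set (ℕ∞ × ℕ) := {p | p.1 < n}

theorem sDown_Sn (n : ℕ∞) : SDown (Sn n) := by
  intro i i' j j' hij hjj' hle
  change i' < n
  have hij' : i < n := hij
  refine lt_of_le_of_lt ?_ hij'
  have h1 : i' + (j : ℕ∞) ≤ i + (j : ℕ∞) := by
    refine le_trans ?_ hle
    gcongr
  exact (ENat.add_le_add_iff_right (ENat.coe_ne_top j)).mp h1

theorem sFin_Sn (n : ℕ∞) : SFin (Sn n) := by
  intro i j hij htop
  have hij' : i < n := hij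
  rw [htop] at hij'
  exact not_top_lt hij'

theorem sn_mono {n m : ℕ∞} (h : n ≤ m) : Sn n ⊆ Sn m := fun p hp => lt_of_lt_of_le hp h

variable {X Y : Scheme.{u}} (f : X ⟶ Y)

theorem badX_mono (F : X.Modules) (W : Set X) {S S' : Set (ℕ∞ × ℕ)} (h : S ⊆ S') :
    BadX f F W S ⊆ BadX f F W S' := by
  rintro y ⟨z, hzW, hsp, hfz, hzS⟩
  exact ⟨z, hzW, hsp, hfz, h hzS⟩

/-- the depth along `W` of the fibre module is `< n` iff the point has a fibrewise
generization in `W` at which the depth of the fibre module is `< n`. -/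
theorem fiberDepthAlong_lt_iff (F : X.Modules) (W : Set X) (y : X) (n : ℕ∞) :
    CInt.fiberDepthAlong f F W y < n ↔ y ∈ BadX f F W (Sn n) := by
  unfold CInt.fiberDepthAlong
  rw [iInf_lt_iff]
  constructor
  · rintro ⟨⟨z, hzW, hsp, hfz⟩, hlt⟩
    exact ⟨z, hzW, hsp, hfz, hlt⟩
  · rintro ⟨z, hzW, hsp, hfz, hlt⟩
    exact ⟨⟨z, hzW, hsp, hfz⟩, hlt⟩

/-- **S2872**. -/
theorem exists_open_fiberDepthAlong_ge [LocallyOfFinitePresentation f] (Z : Closeds ↥X)
    (F : X.Modules) (hfp : CohB1.IsFP F) (hfl : FlatMod.IsFlatOver f F) (n : ℕ) :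
    ∃ U : X.Opens, ∀ y : ↥X, y ∈ Z →
      (y ∈ U ↔ (n : ℕ∞) ≤ CInt.fiberDepthAlong f F (Z : Set ↥X) y) := by
  have hcl := isClosed_badX f F hfp hfl Z.isClosed (sDown_Sn n) (sFin_Sn n)
  refine ⟨⟨(BadX f F (Z : Set ↥X) (Sn n))ᶜ, hcl.isOpen_compl⟩, fun y _ => ?_⟩
  rw [← not_lt, fiberDepthAlong_lt_iff]
  rfl

set_option maxHeartbeats 1600000 in
/-- **S5986**. -/
theorem isRetrocompact_setOf_fiberDepthAlong_ge [LocallyOfFinitePresentation f] (Z : Closeds ↥X)
    (hZ : IsLocallyConstructible (Z : Set ↥X))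
    (F : X.Modules) (hfp : CohB1.IsFP F) (hfl : FlatMod.IsFlatOver f F) (n : ℕ) :
    IsRetrocompact {y : ↥X | y ∈ Z ∧ (n : ℕ∞) ≤ CInt.fiberDepthAlong f F (Z : Set ↥X) y} := by
  set E : Set X := {y : ↥X | y ∈ Z ∧ (n : ℕ∞) ≤ CInt.fiberDepthAlong f F (Z : Set ↥X) y} with hE
  intro K hKc hKo
  have key : ∀ x ∈ K, ∃ U' : Set X, IsOpen U' ∧ x ∈ U' ∧ U' ⊆ K ∧ IsCompact (E ∩ U') := by
    intro x hxK
    obtain ⟨U, hU, hxU, hUK, hD⟩ := exists_good_chart f F hfp hfl x ⟨K, hKo⟩ hxK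
    obtain ⟨DW, -, hDWcon, hDWiff, hD'⟩ := hD (Z : Set ↥X) Z.isClosed
    obtain ⟨D, -, hDcon, hDiff⟩ := hD' (Sn n) (sDown_Sn n) (sFin_Sn n)
    refine ⟨U, U.isOpen, hxU, hUK, ?_⟩
    have hcon : IsConstructible (DW \ D) := (hDWcon hZ).sdiff (hDcon hZ)
    have hcomp : IsCompact (DW \ D) := isCompact_of_isConstructible hcon
    have hcomp' : IsCompact (hU.isoSpec.hom.homeomorph ⁻¹' (DW \ D)) :=
      hU.isoSpec.hom.homeomorph.isCompact_preimage.mpr hcomp
    have himg := hcomp'.image (continuous_subtype_val (p := fun x : X => x ∈ U))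
    convert himg using 1
    ext y
    constructor
    · rintro ⟨⟨hyZ, hyn⟩, hyU⟩
      refine ⟨⟨y, hyU⟩, ⟨(hDWiff y hyU).mp hyZ, fun hyD => ?_⟩, rfl⟩
      have := (hDiff y hyU).mpr hyD
      rw [← fiberDepthAlong_lt_iff] at this
      exact not_lt.mpr hyn this
    · rintro ⟨⟨y', hy'U⟩, ⟨hyDW, hyD⟩, rfl⟩
      refine ⟨⟨(hDWiff y' hy'U).mpr hyDW, ?_⟩, hy'U⟩
      rw [← not_lt, fiberDepthAlong_lt_iff]
      exact fun h => hyD ((hDiff y' hy'U).mp h)
  choose! U' hU'o hxU' hU'K hU'c using key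
  obtain ⟨t, htK, hcov⟩ := hKc.elim_nhds_subcover U' (fun x hx => (hU'o x hx).mem_nhds (hxU' x hx))
  have heq : E ∩ K = ⋃ x ∈ t, E ∩ U' x := by
    ext y
    simp only [Set.mem_inter_iff, Set.mem_iUnion, exists_prop]
    constructor
    · rintro ⟨hyE, hyK⟩
      obtain ⟨x, hxt, hyx⟩ := Set.mem_iUnion₂.mp (hcov hyK)
      exact ⟨x, hxt, hyE, hyx⟩
    · rintro ⟨x, hxt, hyE, hyx⟩
      exact ⟨hyE, hU'K x (htK x hxt) hyx⟩
  rw [heq]
  exact t.isCompact_biUnion fun x hx => hU'c x (htK x hx)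

end

-- ===== part DaD =====
section

open AlgebraicGeometry CategoryTheory Limits IsLocalRing TensorProduct Topology TopologicalSpace
open Groth.Agent.Lib.H9FibNumerics Groth.Agent.Lib.H9FibNumericsSch

variable {X Y : Scheme.{u}} (f : X ⟶ Y)

set_option maxHeartbeats 3200000 in
/-- **S19986**. -/
theorem fiberDepthAlong_locallyConstructibleFun [LocallyOfFinitePresentation f] (Z : Closeds ↥X)
    (hZ : IsLocallyConstructible (Z : Set ↥X))
    (F : X.Modules) (hfp : CohB1.IsFP F) (hfl : FlatMod.IsFlatOver f F)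
    (y₀ : ↥(Z : Set ↥X)) :
    ∃ V : Opens ↥(Z : Set ↥X), y₀ ∈ V ∧
      ((fun y : ↥(Z : Set ↥X) => CInt.fiberDepthAlong f F (Z : Set ↥X) y.1) ''
        (V : Set ↥(Z : Set ↥X))).Finite ∧
      ∀ t : ℕ∞, IsConstructible
        {v : ↥V | CInt.fiberDepthAlong f F (Z : Set ↥X) v.1.1 = t} := by
  obtain ⟨U, hU, hxU, -, hD⟩ := exists_good_chart f F hfp hfl y₀.1 ⊤ trivial
  obtain ⟨DW, hDWcl, hDWcon, hDWiff, hD'⟩ := hD (Z : Set ↥X) Z.isClosed
  choose D hDcl hDcon hDiff using fun n : ℕ∞ => hD' (Sn n) (sDown_Sn n) (sFin_Sn n)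
  let V : Opens ↥(Z : Set ↥X) := ⟨{y | y.1 ∈ U}, U.isOpen.preimage continuous_subtype_val⟩
  -- the chart map
  let ι : ↥V → ↥U := fun v => ⟨v.1.1, v.2⟩
  have hι_cont : Continuous ι :=
    Continuous.subtype_mk (continuous_subtype_val.comp continuous_subtype_val) _
  have hι_emb : IsEmbedding ι := by
    refine IsEmbedding.of_comp hι_cont continuous_subtype_val ?_
    have hcomp : (Subtype.val : ↥U → X) ∘ ι =
        (Subtype.val : ↥(Z : Set ↥X) → X) ∘ (Subtype.val : ↥V → ↥(Z : Set ↥X)) := rfl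
    rw [hcomp]
    exact IsEmbedding.subtypeVal.comp IsEmbedding.subtypeVal
  have hι_range : Set.range ι = (Subtype.val : ↥U → X) ⁻¹' (Z : Set ↥X) := by
    ext u
    constructor
    · rintro ⟨v, rfl⟩
      exact v.1.2
    · intro hu
      exact ⟨⟨⟨u.1, hu⟩, u.2⟩, rfl⟩
  have hι : IsClosedEmbedding ι :=
    ⟨hι_emb, by rw [hι_range]; exact Z.isClosed.preimage continuous_subtype_val⟩
  let g : ↥V → PrimeSpectrum Γ(X, U) := fun v => hU.primeIdealOf ⟨v.1.1, v.2⟩
  have hg : IsClosedEmbedding g := hU.isoSpec.hom.homeomorph.isClosedEmbedding.comp hι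
  have hg_range : Set.range g = DW := by
    ext q
    constructor
    · rintro ⟨v, rfl⟩
      exact (hDWiff v.1.1 v.2).mp v.1.2
    · intro hq
      obtain ⟨⟨x', hx'U⟩, rfl⟩ := hU.isoSpec.hom.homeomorph.surjective q
      have hx'Z : x' ∈ (Z : Set ↥X) := (hDWiff x' hx'U).mpr hq
      exact ⟨⟨⟨x', hx'Z⟩, hx'U⟩, rfl⟩
  have hcompl : IsCompact (Set.range g)ᶜ := by
    rw [hg_range]
    exact isCompact_of_isConstructible (hDWcon hZ).compl
  have key : ∀ (v : ↥V) (n : ℕ∞),
      CInt.fiberDepthAlong f F (Z : Set ↥X) v.1.1 < n ↔ g v ∈ D n := fun v n =>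
    (fiberDepthAlong_lt_iff f F (Z : Set ↥X) v.1.1 n).trans (hDiff n v.1.1 v.2)
  have hDmono : ∀ n m : ℕ∞, n ≤ m → D n ⊆ D m := by
    intro n m hnm q hq
    obtain ⟨⟨x', hx'U⟩, rfl⟩ := hU.isoSpec.hom.homeomorph.surjective q
    exact (hDiff m x' hx'U).mp (badX_mono f F _ (sn_mono hnm) ((hDiff n x' hx'U).mpr hq))
  refine ⟨V, hxU, ?_, fun t => ?_⟩
  · -- finitely many values
    have hsub : D ⊤ ⊆ ⋃ n : ℕ, D (n : ℕ∞) := by
      intro q hq
      obtain ⟨⟨x', hx'U⟩, rfl⟩ := hU.isoSpec.hom.homeomorph.surjective q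
      obtain ⟨z, hzZ, hsp, hfz, hlt⟩ := (hDiff ⊤ x' hx'U).mpr hq
      have hlt' : dF f F z < ⊤ := hlt
      obtain ⟨m, hm⟩ := ENat.ne_top_iff_exists.mp (ne_of_lt hlt')
      refine Set.mem_iUnion.mpr ⟨m + 1, (hDiff _ x' hx'U).mp ⟨z, hzZ, hsp, hfz, ?_⟩⟩
      change dF f F z < ((m + 1 : ℕ) : ℕ∞)
      rw [← hm]
      exact_mod_cast Nat.lt_succ_self m
    obtain ⟨N, hN⟩ := exists_subset_of_subset_iUnion (fun n : ℕ => D (n : ℕ∞))
      (fun n => hDcon _ hZ) (fun n m hnm => hDmono _ _ (by exact_mod_cast hnm)) (D ⊤)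
      (hDcon _ hZ) hsub
    refine Set.Finite.subset (((Set.finite_Iio N).image (fun k : ℕ => (k : ℕ∞))).union
      (Set.finite_singleton ⊤)) ?_
    rintro _ ⟨y, hyV, rfl⟩
    by_cases htop : CInt.fiberDepthAlong f F (Z : Set ↥X) y.1 = ⊤
    · right
      exact htop
    · left
      have h1 : g ⟨y, hyV⟩ ∈ D ⊤ := (key ⟨y, hyV⟩ ⊤).mp (lt_top_iff_ne_top.mpr htop)
      have h2 := (key ⟨y, hyV⟩ N).mpr (hN h1)
      obtain ⟨k, hk⟩ := ENat.ne_top_iff_exists.mp htop
      refine ⟨k, ?_, hk⟩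
      change CInt.fiberDepthAlong f F (Z : Set ↥X) y.1 < (N : ℕ∞) at h2
      rw [← hk] at h2
      exact_mod_cast h2
  · -- level sets
    by_cases ht : t = ⊤
    · have heq : {v : ↥V | CInt.fiberDepthAlong f F (Z : Set ↥X) v.1.1 = t} = g ⁻¹' (D ⊤)ᶜ := by
        ext v
        rw [Set.mem_preimage, Set.mem_compl_iff, ← key v ⊤, lt_top_iff_ne_top, not_not, ht]
        rfl
      rw [heq]
      exact (hDcon _ hZ).compl.preimage_of_isClosedEmbedding hg hcompl
    · obtain ⟨k, rfl⟩ := ENat.ne_top_iff_exists.mp ht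
      have heq : {v : ↥V | CInt.fiberDepthAlong f F (Z : Set ↥X) v.1.1 = (k : ℕ∞)} =
          g ⁻¹' (D ((k : ℕ∞) + 1) \ D (k : ℕ∞)) := by
        ext v
        rw [Set.mem_preimage, Set.mem_diff, ← key v, ← key v,
          ENat.lt_add_one_iff (ENat.coe_ne_top k), not_lt]
        exact le_antisymm_iff
      rw [heq]
      exact ((hDcon _ hZ).sdiff (hDcon _ hZ)).preimage_of_isClosedEmbedding hg hcompl

end

end Groth.Agent.Lib.H9FibDepthAlong
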