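import Mathlib
import Groth.Agent.Lib.H9ZarLocal
import Groth.Agent.Lib.Helper20EffCartier

/-! helper9: `exists_eq_mul_of_local` (divisibility by a locally regular section glues), `ker_map_eq_bot_of_isClosedImmersion` (S affine, X flat, Z=V(t) with t regular: fibre of X→Spec Γ(X,O) over Z schematically dominant), `isPullback_map`, `ker_map_eq_bot_of_flat`, `flat_fromSpecResidueField_of_bot`, `main` (S16044: DVR base). -/

set_option autoImplicit false
universe u

namespace Groth.Agent.Lib.H9FibDom

open CategoryTheory CategoryTheory.Limits AlgebraicGeometry TopologicalSpace Opposite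

/-- Divisibility by a section which is regular on all affine opens is a local property. -/
theorem exists_eq_mul_of_local {X : Scheme.{u}} (τ β : Γ(X, ⊤))
    (hreg : ∀ (W : X.Opens), IsAffineOpen W → ∀ x y : Γ(X, W),
        (X.presheaf.map (homOfLE le_top : W ⟶ ⊤).op).hom τ * x =
          (X.presheaf.map (homOfLE le_top : W ⟶ ⊤).op).hom τ * y → x = y)
    (hdiv : ∀ (W : X.Opens), IsAffineOpen W → ∃ q : Γ(X, W),
        (X.presheaf.map (homOfLE le_top : W ⟶ ⊤).op).hom β =
          (X.presheaf.map (homOfLE le_top : W ⟶ ⊤).op).hom τ * q) :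
    ∃ q : Γ(X, ⊤), β = τ * q := by
  let U : X.affineOpens → X.Opens := fun W => W.1
  choose! sf hsf using fun W : X.affineOpens => hdiv W.1 W.2
  have hres : ∀ (V W : X.Opens) (hVW : V ≤ W) (a : Γ(X, ⊤)),
      (X.presheaf.map (homOfLE hVW).op).hom ((X.presheaf.map (homOfLE le_top : W ⟶ ⊤).op).hom a) =
        (X.presheaf.map (homOfLE le_top : V ⟶ ⊤).op).hom a := by
    intro V W hVW a
    rw [← CommRingCat.comp_apply, ← Functor.map_comp]
    rfl
  have hcompat : TopCat.Presheaf.IsCompatible X.presheaf U sf := by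
    intro i j
    refine X.IsSheaf.section_ext fun x hx => ?_
    obtain ⟨_, ⟨(V : X.Opens), hV, rfl⟩, hxV, hVU⟩ :=
      X.isBasis_affineOpens.exists_subset_of_mem_open hx (U i ⊓ U j).2
    refine ⟨V, hVU, hxV, ?_⟩
    apply hreg V hV
    have hVi : V ≤ U i := hVU.trans inf_le_left
    have hVj : V ≤ U j := hVU.trans inf_le_right
    have e1 : (X.presheaf.map (homOfLE hVU).op).hom
        ((X.presheaf.map (Opens.infLELeft (U i) (U j)).op).hom (sf i)) =
        (X.presheaf.map (homOfLE hVi).op).hom (sf i) := by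
      rw [← CommRingCat.comp_apply, ← Functor.map_comp]; rfl
    have e2 : (X.presheaf.map (homOfLE hVU).op).hom
        ((X.presheaf.map (Opens.infLERight (U i) (U j)).op).hom (sf j)) =
        (X.presheaf.map (homOfLE hVj).op).hom (sf j) := by
      rw [← CommRingCat.comp_apply, ← Functor.map_comp]; rfl
    erw [e1, e2]
    have hi : (X.presheaf.map (homOfLE le_top : V ⟶ ⊤).op).hom τ *
        (X.presheaf.map (homOfLE hVi).op).hom (sf i) =
        (X.presheaf.map (homOfLE le_top : V ⟶ ⊤).op).hom β := by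
      have := congrArg (X.presheaf.map (homOfLE hVi).op).hom (hsf i)
      rw [map_mul, hres, hres] at this
      exact this.symm
    have hj : (X.presheaf.map (homOfLE le_top : V ⟶ ⊤).op).hom τ *
        (X.presheaf.map (homOfLE hVj).op).hom (sf j) =
        (X.presheaf.map (homOfLE le_top : V ⟶ ⊤).op).hom β := by
      have := congrArg (X.presheaf.map (homOfLE hVj).op).hom (hsf j)
      rw [map_mul, hres, hres] at this
      exact this.symm
    exact hi.trans hj.symm
  have hcover : (⊤ : X.Opens) ≤ iSup U := by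
    intro y hy
    obtain ⟨_, ⟨W, hW, rfl⟩, hyW, -⟩ := X.isBasis_affineOpens.exists_subset_of_mem_open
      hy (⊤ : X.Opens).2
    exact TopologicalSpace.Opens.mem_iSup.mpr ⟨⟨W, hW⟩, hyW⟩
  obtain ⟨q, hq, -⟩ := X.sheaf.existsUnique_gluing' U ⊤ (fun i => homOfLE le_top) hcover sf hcompat
  refine ⟨q, ?_⟩
  refine X.IsSheaf.section_ext fun x hx => ?_
  obtain ⟨_, ⟨(V : X.Opens), hV, rfl⟩, hxV, hVU⟩ :=
    X.isBasis_affineOpens.exists_subset_of_mem_open hx (⊤ : X.Opens).2
  refine ⟨V, hVU, hxV, ?_⟩
  have h1 := hq ⟨V, hV⟩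
  have h2 := hsf ⟨V, hV⟩
  rw [map_mul]
  erw [h1]
  exact h2


/-- Fibre over an effective Cartier divisor `V(t)` of an affine base: the base change of
`X ⟶ Spec Γ(X, O_X)` is schematically dominant when `X` is flat over the base. -/
theorem ker_map_eq_bot_of_isClosedImmersion {S X Z : Scheme.{u}} [IsAffine S]
    (f : X ⟶ S) [Flat f] (ι : Z ⟶ S) [IsClosedImmersion ι]
    (t : Γ(S, ⊤)) (ht : RingHom.ker ι.appTop.hom = Ideal.span {t})
    (htreg : t ∈ nonZeroDivisors Γ(S, ⊤))
    (g : Spec Γ(X, ⊤) ⟶ S) (hg : X.toSpecΓ ≫ g = f) :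
    (pullback.map f ι g ι X.toSpecΓ (𝟙 _) (𝟙 _) ((Category.comp_id f).trans hg.symm)
        ((Category.comp_id _).trans (Category.id_comp _).symm)).ker = ⊥ := by
  set cs := pullback.map f ι g ι X.toSpecΓ (𝟙 _) (𝟙 _) ((Category.comp_id f).trans hg.symm)
        ((Category.comp_id _).trans (Category.id_comp _).symm) with hcs
  have hsq : cs ≫ pullback.fst g ι = pullback.fst f ι ≫ X.toSpecΓ := by
    rw [hcs]
    exact pullback.lift_fst _ _ _
  have : IsAffine Z := isAffine_of_isAffineHom ι
  haveI : IsAffine (pullback g ι) := inferInstance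
  -- reduce to injectivity on global sections
  suffices hinj : Function.Injective cs.appTop.hom by
    apply Scheme.IdealSheafData.ext_of_isAffine
    rw [Scheme.IdealSheafData.ideal_bot]
    refine le_bot_iff.mp ((cs.ideal_ker_le _).trans (le_of_eq ?_))
    exact (RingHom.injective_iff_ker_eq_bot _).mp hinj
  rw [injective_iff_map_eq_zero]
  intro a ha
  obtain ⟨b, rfl⟩ := (pullback.fst g ι).app_surjective ⊤ (isAffineOpen_top _) a
  set β : Γ(X, ⊤) := X.toSpecΓ.appTop.hom b with hβ
  have h0 : (pullback.fst f ι).appTop.hom β = 0 := by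
    have h1 : (cs ≫ pullback.fst g ι).appTop.hom b = (pullback.fst f ι ≫ X.toSpecΓ).appTop.hom b := by
      rw [hsq]
    rw [Scheme.Hom.comp_appTop, Scheme.Hom.comp_appTop, CommRingCat.comp_apply,
      CommRingCat.comp_apply] at h1
    rw [hβ, ← h1]
    exact ha
  set τ : Γ(X, ⊤) := f.appTop.hom t with hτ
  -- the ideal of the fibre on affine opens
  have hideal : ∀ (W : X.Opens) (hW : IsAffineOpen W),
      (pullback.fst f ι).ker.ideal ⟨W, hW⟩ =
        Ideal.span {(X.presheaf.map (homOfLE le_top : W ⟶ ⊤).op).hom τ} := by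
    intro W hW
    rw [Scheme.IdealSheafData.ker_fst_of_isClosedImmersion ι f,
      Groth.Agent.Lib.Helper20.EffCartier.ideal_comap_eq_map f ι.ker hW (isAffineOpen_top S)
        (by simp : W ≤ f ⁻¹ᵁ ⊤), Scheme.Hom.ker_apply]
    erw [ht]
    rw [Ideal.map_span, Set.image_singleton]
    rfl
  have hdiv : ∀ (W : X.Opens), IsAffineOpen W → ∃ q : Γ(X, W),
      (X.presheaf.map (homOfLE le_top : W ⟶ ⊤).op).hom β =
        (X.presheaf.map (homOfLE le_top : W ⟶ ⊤).op).hom τ * q := by
    intro W hW
    have hmem : (X.presheaf.map (homOfLE le_top : W ⟶ ⊤).op).hom β ∈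
        (pullback.fst f ι).ker.ideal ⟨W, hW⟩ := by
      rw [Scheme.Hom.ker_apply, RingHom.mem_ker, ← CommRingCat.comp_apply,
        (pullback.fst f ι).naturality, CommRingCat.comp_apply]
      erw [h0]
      exact map_zero _
    rw [hideal W hW, Ideal.mem_span_singleton'] at hmem
    obtain ⟨q, hq⟩ := hmem
    exact ⟨q, by rw [← hq, mul_comm]⟩
  have hreg : ∀ (W : X.Opens), IsAffineOpen W → ∀ x y : Γ(X, W),
      (X.presheaf.map (homOfLE le_top : W ⟶ ⊤).op).hom τ * x =
        (X.presheaf.map (homOfLE le_top : W ⟶ ⊤).op).hom τ * y → x = y := by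
    intro W hW x y hxy
    have hfl := f.flat_appLE (isAffineOpen_top S) hW (by simp : W ≤ f ⁻¹ᵁ ⊤)
    letI : Algebra Γ(S, ⊤) Γ(X, W) := (f.appLE ⊤ W (by simp)).hom.toAlgebra
    haveI : Module.Flat Γ(S, ⊤) Γ(X, W) := hfl
    have hr : IsSMulRegular Γ(X, W) t := Module.Flat.isSMulRegular_of_nonZeroDivisors htreg
    apply hr
    change t • x = t • y
    rw [Algebra.smul_def, Algebra.smul_def]
    exact hxy
  obtain ⟨q, hq⟩ := exists_eq_mul_of_local τ β hreg hdiv
  -- transfer back to `Spec Γ(X, ⊤)`
  have hc : X.toSpecΓ.appTop = (Scheme.ΓSpecIso Γ(X, ⊤)).hom := Scheme.toSpecΓ_appTop X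
  have hbij : Function.Bijective X.toSpecΓ.appTop.hom := by
    rw [hc]
    exact ConcreteCategory.bijective_of_isIso (Scheme.ΓSpecIso Γ(X, ⊤)).hom
  obtain ⟨q', rfl⟩ := hbij.2 q
  have hτ' : τ = X.toSpecΓ.appTop.hom (g.appTop.hom t) := by
    rw [hτ, ← CommRingCat.comp_apply, ← Scheme.Hom.comp_appTop, hg]
  have hb : b = g.appTop.hom t * q' := by
    apply hbij.1
    rw [map_mul, ← hτ', ← hq]
  have hz : (pullback.fst g ι).appTop.hom (g.appTop.hom t) = 0 := by
    rw [← CommRingCat.comp_apply, ← Scheme.Hom.comp_appTop, pullback.condition,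
      Scheme.Hom.comp_appTop, CommRingCat.comp_apply]
    have : ι.appTop.hom t = 0 := by
      rw [← RingHom.mem_ker, ht]
      exact Ideal.mem_span_singleton_self t
    rw [this, map_zero]
  change (pullback.fst g ι).appTop.hom b = 0
  rw [hb, map_mul, hz, zero_mul]


/-- the base change square of a factorisation -/
theorem isPullback_map {S X Y Z : Scheme.{u}} (f : X ⟶ S) (ι : Z ⟶ S) (c : X ⟶ Y) (g : Y ⟶ S)
    (hg : c ≫ g = f) :
    IsPullback (pullback.fst f ι)
      (pullback.map f ι g ι c (𝟙 _) (𝟙 _) ((Category.comp_id f).trans hg.symm)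
        ((Category.comp_id _).trans (Category.id_comp _).symm)) c (pullback.fst g ι) := by
  subst hg
  have t : IsPullback (pullback.snd g ι) (pullback.fst g ι) ι g :=
    (IsPullback.of_hasPullback g ι).flip
  have e : pullback.map (c ≫ g) ι g ι c (𝟙 _) (𝟙 _) ((Category.comp_id (c ≫ g)).trans rfl)
        ((Category.comp_id _).trans (Category.id_comp _).symm) ≫ pullback.snd g ι =
      pullback.snd (c ≫ g) ι := by
    rw [pullback.map, pullback.lift_snd, Category.comp_id]
  have s : IsPullback (pullback.map (c ≫ g) ι g ι c (𝟙 _) (𝟙 _)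
        ((Category.comp_id (c ≫ g)).trans rfl)
        ((Category.comp_id _).trans (Category.id_comp _).symm) ≫ pullback.snd g ι)
      (pullback.fst (c ≫ g) ι) ι (c ≫ g) := by
    rw [e]
    exact (IsPullback.of_hasPullback (c ≫ g) ι).flip
  exact (IsPullback.of_right s (by rw [pullback.map, pullback.lift_fst]) t).flip

/-- Fibre over a flat point: the base change of `X ⟶ Spec Γ(X, O_X)` is schematically dominant. -/
theorem ker_map_eq_bot_of_flat {S X Z : Scheme.{u}} (f : X ⟶ S) (ι : Z ⟶ S) [Flat ι]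
    [CompactSpace X] (g : Spec Γ(X, ⊤) ⟶ S) (hg : X.toSpecΓ ≫ g = f) :
    (pullback.map f ι g ι X.toSpecΓ (𝟙 _) (𝟙 _) ((Category.comp_id f).trans hg.symm)
        ((Category.comp_id _).trans (Category.id_comp _).symm)).ker = ⊥ := by
  haveI : IsSchemeTheoreticallyDominant X.toSpecΓ := ⟨Scheme.ker_toSpecΓ X⟩
  haveI : QuasiCompact X.toSpecΓ := by
    rw [HasAffineProperty.iff_of_isAffine (P := @QuasiCompact)]; infer_instance
  haveI : Flat (pullback.fst g ι) := inferInstance
  haveI := IsSchemeTheoreticallyDominant.of_isPullback (isPullback_map f ι X.toSpecΓ g hg)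
  exact Scheme.Hom.ker_eq_bot _

theorem flat_fromSpecResidueField_of_bot (A : Type u) [CommRing A]
    (s : ↥(Spec (CommRingCat.of A))) (hs : s.asIdeal = ⊥) :
    Flat ((Spec (CommRingCat.of A)).fromSpecResidueField s) := by
  haveI := Groth.Agent.Lib.H9ZarLocal.flat_fromSpecStalk (Spec (CommRingCat.of A)) s
  haveI : Flat (Spec.map ((Spec (CommRingCat.of A)).residue s)) := by
    rw [Flat.SpecMap_iff]
    apply RingHom.Flat.of_bijective
    let k : Algebra A ((Spec (CommRingCat.of A)).presheaf.stalk s) :=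
      StructureSheaf.stalkAlgebra A s
    have : IsLocalization.AtPrime ((Spec (CommRingCat.of A)).presheaf.stalk s) s.asIdeal :=
      StructureSheaf.IsLocalization.to_stalk A s
    have hm : IsLocalRing.maximalIdeal ((Spec (CommRingCat.of A)).presheaf.stalk s) = ⊥ := by
      rw [← IsLocalization.AtPrime.map_eq_maximalIdeal s.asIdeal, hs, Ideal.map_bot]
    constructor
    · rw [RingHom.injective_iff_ker_eq_bot]
      change RingHom.ker (IsLocalRing.residue _) = ⊥
      rw [IsLocalRing.ker_residue, hm]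
    · exact IsLocalRing.residue_surjective
  unfold Scheme.fromSpecResidueField
  infer_instance

/-- **Main theorem.** `S` the spectrum of a DVR, `X` a quasi-compact flat `S`-scheme:
on each fibre the base change of `X ⟶ Spec Γ(X, O_X)` is schematically dominant. -/
theorem main (A : Type u) [CommRing A] [IsDomain A] [IsDiscreteValuationRing A]
    (X : Scheme.{u}) (f : X ⟶ Spec (CommRingCat.of A)) [Flat f] [QuasiCompact f]
    (g : Spec Γ(X, ⊤) ⟶ Spec (CommRingCat.of A)) (hg : X.toSpecΓ ≫ g = f)
    (s : ↥(Spec (CommRingCat.of A))) :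
    (pullback.map f ((Spec (CommRingCat.of A)).fromSpecResidueField s) g
        ((Spec (CommRingCat.of A)).fromSpecResidueField s)
        X.toSpecΓ (𝟙 _) (𝟙 _) ((Category.comp_id f).trans hg.symm)
        ((Category.comp_id _).trans (Category.id_comp _).symm)).ker = ⊥ := by
  haveI : CompactSpace X := (HasAffineProperty.iff_of_isAffine (P := @QuasiCompact)).mp ‹_›
  by_cases hs : s.asIdeal = ⊥
  · haveI := flat_fromSpecResidueField_of_bot A s hs
    exact ker_map_eq_bot_of_flat f _ g hg
  · have hmax : s.asIdeal.IsMaximal := Ideal.IsPrime.isMaximal s.2 hs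
    have hcl : IsClosed ({s} : Set ↥(Spec (CommRingCat.of A))) :=
      (PrimeSpectrum.isClosed_singleton_iff_isMaximal s).mpr hmax
    haveI : IsClosedImmersion ((Spec (CommRingCat.of A)).fromSpecResidueField s) :=
      isClosed_singleton_iff_isClosedImmersion.mp hcl
    let e : Γ(Spec (CommRingCat.of A), ⊤) ≃+* A :=
      (Scheme.ΓSpecIso (CommRingCat.of A)).commRingCatIsoToRingEquiv
    haveI : IsDomain Γ(Spec (CommRingCat.of A), ⊤) := e.injective.isDomain e.toRingHom
    haveI : IsPrincipalIdealRing Γ(Spec (CommRingCat.of A), ⊤) :=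
      IsPrincipalIdealRing.of_surjective e.symm.toRingHom e.symm.surjective
    obtain ⟨t, ht⟩ := (IsPrincipalIdealRing.principal
      (RingHom.ker ((Spec (CommRingCat.of A)).fromSpecResidueField s).appTop.hom)).principal
    have ht0 : t ≠ 0 := by
      rintro rfl
      have hinj : Function.Injective
          ((Spec (CommRingCat.of A)).fromSpecResidueField s).appTop.hom := by
        rw [RingHom.injective_iff_ker_eq_bot, ht]
        simp
      haveI : IsIso ((Spec (CommRingCat.of A)).fromSpecResidueField s) :=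
        IsClosedImmersion.isIso_of_injective_of_isAffine hinj
      obtain ⟨z, hz⟩ := ((Spec (CommRingCat.of A)).fromSpecResidueField s).surjective
        (⟨⊥, Ideal.isPrime_bot⟩ : PrimeSpectrum A)
      have hmem : ((Spec (CommRingCat.of A)).fromSpecResidueField s) z ∈
          Set.range ((Spec (CommRingCat.of A)).fromSpecResidueField s) := ⟨z, rfl⟩
      rw [Scheme.range_fromSpecResidueField, hz] at hmem
      apply hs
      rw [← Set.mem_singleton_iff.mp hmem]
    exact ker_map_eq_bot_of_isClosedImmersion f _ t ht (mem_nonZeroDivisors_of_ne_zero ht0) g hg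

end Groth.Agent.Lib.H9FibDom
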