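import Mathlib
import Groth.Agent.Lib.H9FibGeomRkConstr
import Groth.Agent.Lib.H9FibSuppOpen
import Groth.Agent.Lib.Helper5Compl

/-! Generic structure and constructibility of the fibre-minimal points (maximal points of the fibres of a closed set / of the supports of fibre modules) (EGA IV 9.8-type; S5875): MinFib A Z, Comp Z, exists_generic_minFib (generically z is fibre-minimal in Z iff it lies on a dominant component P of Z with ftd z = ftd P), FSZ, exists_generic_FSZ (generic closedness of fibrewise specializations of fibre-minimal points with ftd in S), fdm_eq_zero_iff_minFib, FSG S A B M, fsg_eq_fsz, dltM_baseChange (fdm_M + ftd invariant under base change, module version), fsg_baseChange, fsg_bc, fsg_gen, isConstructible_fsg, EnS, FSX, image_EnS_eq, fsx_chart, isLocallyConstructible_fsx, isLocallyConstructible_image_EnS (Chevalley), isLocallyConstructible_componentDims_eq (helper9). -/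

set_option autoImplicit false
set_option linter.style.haveILetI false
set_option linter.unusedSimpArgs false
set_option linter.unusedVariables false
universe u

namespace Groth.Agent.Lib.H9FibMinConstr

-- ===== part GmA =====
section

open AlgebraicGeometry CategoryTheory Limits TensorProduct Topology
open Groth.Agent.Lib.H9ModFibAlg Groth.Agent.Lib.H9RectDepthAlg Groth.Agent.Lib.H9FibNumerics
open Groth.Agent.Lib.H9FibGeomRk Groth.Agent.Lib.H9FibGeomRkConstr

section Main

variable {B : Type u} [CommRing B]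

/-- the points of `Z` which are minimal in `Z` among the points of their fibre over `A`. -/
def MinFib (A : Type u) [CommRing A] [Algebra A B] (Z : Set (PrimeSpectrum B)) :
    Set (PrimeSpectrum B) :=
  {z | z ∈ Z ∧ ∀ z' ∈ Z, z'.asIdeal ≤ z.asIdeal → z'.asIdeal.under A = z.asIdeal.under A → z' = z}

/-- the irreducible components of a closed subset of `Spec B`, as a set of points. -/
def Comp (Y : Set (PrimeSpectrum B)) : Set (PrimeSpectrum B) :=
  {P : PrimeSpectrum B | P.asIdeal ∈ (PrimeSpectrum.vanishingIdeal Y).minimalPrimes}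

variable {A : Type u} [CommRing A] [Algebra A B] [IsDomain A]

/-- the generic element attached to a closed set `Z`. -/
theorem exists_generic_minFib (hUC : CAlg.IsUniversallyCatenary A) [Algebra.FiniteType A B]
    (Z : Set (PrimeSpectrum B)) (hZ : IsClosed Z) :
    ∃ g : A, g ≠ 0 ∧ (∀ P ∈ Comp Z, GenProp g P) ∧
      ∀ z : PrimeSpectrum B, algebraMap A B g ∉ z.asIdeal →
      (z ∈ MinFib A Z ↔ ∃ P ∈ Comp Z, P.asIdeal.under A = ⊥ ∧ P.asIdeal ≤ z.asIdeal ∧
        ftd A z.asIdeal = ftd A P.asIdeal) := by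
  classical
  haveI : IsNoetherianRing A := hUC.1
  haveI : IsNoetherianRing B := Algebra.FiniteType.isNoetherianRing A B
  set W : PrimeSpectrum B → PrimeSpectrum B → Set (PrimeSpectrum B) := fun P P' =>
    PrimeSpectrum.zeroLocus (P.asIdeal : Set B) ∩ PrimeSpectrum.zeroLocus (P'.asIdeal : Set B)
    with hWdef
  have hW : ∀ P P', IsClosed (W P P') := fun P P' =>
    (PrimeSpectrum.isClosed_zeroLocus _).inter (PrimeSpectrum.isClosed_zeroLocus _)
  set PP : Set (PrimeSpectrum B) := Comp Z ∪ ⋃ P ∈ Comp Z, ⋃ P' ∈ Comp Z, Comp (W P P') with hPP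
  have hPPfin : PP.Finite :=
    (finite_comp Z).union ((finite_comp Z).biUnion fun P _ =>
      (finite_comp Z).biUnion fun P' _ => finite_comp (W P P'))
  obtain ⟨g, hg0, hg⟩ := exists_genProp_finite hUC PP hPPfin
  refine ⟨g, hg0, fun P hP => hg P (Or.inl hP), ?_⟩
  intro z hgz
  haveI := z.2
  constructor
  · rintro ⟨hzZ, hzmin⟩
    obtain ⟨P, hPmin, hPz⟩ := exists_comp_le hzZ
    have hgP := hg P (Or.inl hPmin)
    have hPbot : P.asIdeal.under A = ⊥ := by
      by_contra hne
      exact hgz (hPz (hgP.1 hne))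
    have hftd : ftd A z.asIdeal ≤ ftd A P.asIdeal := hgP.2 hPbot z.asIdeal hPz hgz
    haveI := P.2
    obtain ⟨z', hz'p, hPz', hz'z, hz'A, hftd'⟩ :=
      exists_fibGen_ftd_le hUC P.asIdeal z.asIdeal hPz
    have hPZ : P ∈ Z := comp_mem hZ hPmin
    have hz'Z : (⟨z', hz'p⟩ : PrimeSpectrum B) ∈ Z :=
      hZ.stableUnderSpecialization ((PrimeSpectrum.le_iff_specializes P ⟨z', hz'p⟩).mp hPz') hPZ
    have heq := hzmin ⟨z', hz'p⟩ hz'Z hz'z hz'A
    have heq' : z' = z.asIdeal := congrArg PrimeSpectrum.asIdeal heq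
    refine ⟨P, hPmin, hPbot, hPz, le_antisymm hftd ?_⟩
    have := ftd_congr A z' z.asIdeal heq'
    omega
  · rintro ⟨P, hPmin, hPbot, hPz, hftd⟩
    have hPZ : P ∈ Z := comp_mem hZ hPmin
    have hzZ : z ∈ Z :=
      hZ.stableUnderSpecialization ((PrimeSpectrum.le_iff_specializes P z).mp hPz) hPZ
    refine ⟨hzZ, ?_⟩
    intro z' hz'Z hz'z hz'A
    by_contra hne
    haveI := z'.2
    have hne' : z'.asIdeal ≠ z.asIdeal := fun h => hne (PrimeSpectrum.ext h)
    have hlt : z'.asIdeal < z.asIdeal := lt_of_le_of_ne hz'z hne'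
    have h1 : ftd A z.asIdeal < ftd A z'.asIdeal :=
      ftd_lt_of_lt hUC z'.asIdeal z.asIdeal hlt hz'A
    obtain ⟨P', hP'min, hP'z'⟩ := exists_comp_le hz'Z
    have hgP' := hg P' (Or.inl hP'min)
    have hgz' : algebraMap A B g ∉ z'.asIdeal := fun h => hgz (hz'z h)
    have hP'bot : P'.asIdeal.under A = ⊥ := by
      by_contra hne''
      exact hgz' (hP'z' (hgP'.1 hne''))
    have h2 : ftd A z'.asIdeal ≤ ftd A P'.asIdeal := hgP'.2 hP'bot z'.asIdeal hP'z' hgz'
    -- `z` lies on `V(P) ∩ V(P')`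
    have hzW : z ∈ W P P' := by
      refine ⟨?_, ?_⟩
      · rw [PrimeSpectrum.mem_zeroLocus, SetLike.coe_subset_coe]
        exact hPz
      · rw [PrimeSpectrum.mem_zeroLocus, SetLike.coe_subset_coe]
        exact hP'z'.trans hz'z
    obtain ⟨P'', hP''min, hP''z⟩ := exists_comp_le hzW
    have hP''PP : P'' ∈ PP :=
      Or.inr (Set.mem_biUnion hPmin (Set.mem_biUnion hP'min hP''min))
    have hgP'' := hg P'' hP''PP
    have hP''W : P'' ∈ W P P' := comp_mem (hW P P') hP''min
    have hPP'' : P.asIdeal ≤ P''.asIdeal := by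
      have := hP''W.1
      rw [PrimeSpectrum.mem_zeroLocus, SetLike.coe_subset_coe] at this
      exact this
    have hP'P'' : P'.asIdeal ≤ P''.asIdeal := by
      have := hP''W.2
      rw [PrimeSpectrum.mem_zeroLocus, SetLike.coe_subset_coe] at this
      exact this
    have hneP : P.asIdeal ≠ P''.asIdeal := by
      intro h
      have hP'P : P'.asIdeal ≤ P.asIdeal := by rw [h]; exact hP'P''
      have heq : P.asIdeal = P'.asIdeal := le_antisymm (hPmin.2 hP'min.1 hP'P) hP'P
      have := ftd_congr A P.asIdeal P'.asIdeal heq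
      omega
    have hltP : P.asIdeal < P''.asIdeal := lt_of_le_of_ne hPP'' hneP
    have hgP''z : algebraMap A B g ∉ P''.asIdeal := fun h => hgz (hP''z h)
    have hP''bot : P''.asIdeal.under A = ⊥ := by
      by_contra hne''
      exact hgP''z (hgP''.1 hne'')
    haveI := P.2
    haveI := P''.2
    have h3 : ftd A z.asIdeal ≤ ftd A P''.asIdeal := hgP''.2 hP''bot z.asIdeal hP''z hgz
    have h4 : ftd A P''.asIdeal < ftd A P.asIdeal :=
      ftd_lt_of_lt hUC P.asIdeal P''.asIdeal hltP (hPbot.trans hP''bot.symm)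
    omega

/-- fibrewise specializations of the fibre-minimal points of `Z` whose relative transcendence
degree lies in `S`. -/
def FSZ (A : Type u) {B : Type u} [CommRing A] [CommRing B] [Algebra A B]
    (Z : Set (PrimeSpectrum B)) (S : Set ℕ) : Set (PrimeSpectrum B) :=
  {q | ∃ z ∈ MinFib A Z, z.asIdeal ≤ q.asIdeal ∧ z.asIdeal.under A = q.asIdeal.under A ∧
    ftd A z.asIdeal ∈ S}

/-- **Generic structure of the fibrewise specializations of fibre-minimal points**: over a
dense open of the base they form a union of irreducible components of `Z`. -/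
theorem exists_generic_FSZ (hUC : CAlg.IsUniversallyCatenary A) [Algebra.FiniteType A B]
    (Z : Set (PrimeSpectrum B)) (hZ : IsClosed Z) :
    ∃ g : A, g ≠ 0 ∧ ∀ S : Set ℕ, ∃ C : Set (PrimeSpectrum B), IsClosed C ∧
      ∀ q : PrimeSpectrum B, algebraMap A B g ∉ q.asIdeal → (q ∈ FSZ A Z S ↔ q ∈ C) := by
  classical
  haveI : IsNoetherianRing A := hUC.1
  haveI : IsNoetherianRing B := Algebra.FiniteType.isNoetherianRing A B
  obtain ⟨g, hg0, hgen, hmin⟩ := exists_generic_minFib hUC Z hZ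
  refine ⟨g, hg0, fun S => ?_⟩
  set Idx : Set (PrimeSpectrum B) := {P | P ∈ Comp Z ∧ P.asIdeal.under A = ⊥ ∧
    ftd A P.asIdeal ∈ S} with hIdx
  refine ⟨⋃ P ∈ Idx, PrimeSpectrum.zeroLocus (P.asIdeal : Set B), ?_, ?_⟩
  · exact ((finite_comp Z).subset (fun P hP => hP.1)).isClosed_biUnion fun P _ =>
      PrimeSpectrum.isClosed_zeroLocus _
  intro q hgq
  constructor
  · rintro ⟨z, hzmin, hzq, hzA, hzS⟩
    have hgz : algebraMap A B g ∉ z.asIdeal := fun h => hgq (hzq h)
    obtain ⟨P, hPmin, hPbot, hPz, hftd⟩ := (hmin z hgz).mp hzmin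
    refine Set.mem_biUnion (⟨hPmin, hPbot, hftd ▸ hzS⟩ : P ∈ Idx) ?_
    rw [PrimeSpectrum.mem_zeroLocus, SetLike.coe_subset_coe]
    exact hPz.trans hzq
  · intro hq
    simp only [Set.mem_iUnion] at hq
    obtain ⟨P, ⟨hPmin, hPbot, hPS⟩, hPq⟩ := hq
    rw [PrimeSpectrum.mem_zeroLocus, SetLike.coe_subset_coe] at hPq
    haveI := P.2
    haveI := q.2
    obtain ⟨z, hzp, hPz, hzq, hzA, hftd1⟩ := exists_fibGen_ftd_le hUC P.asIdeal q.asIdeal hPq
    haveI := hzp
    have hgz : algebraMap A B g ∉ z := fun h => hgq (hzq h)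
    have hftd2 : ftd A z ≤ ftd A P.asIdeal := (hgen P hPmin).2 hPbot z hPz hgz
    have hftd : ftd A z = ftd A P.asIdeal := le_antisymm hftd2 hftd1
    have hzmin : (⟨z, hzp⟩ : PrimeSpectrum B) ∈ MinFib A Z :=
      (hmin ⟨z, hzp⟩ hgz).mpr ⟨P, hPmin, hPbot, hPz, hftd⟩
    have hzS : ftd A (⟨z, hzp⟩ : PrimeSpectrum B).asIdeal ∈ S := by
      change ftd A z ∈ S
      rw [hftd]
      exact hPS
    exact ⟨⟨z, hzp⟩, hzmin, hzq, hzA, hzS⟩

end Main

end

-- ===== part GmB =====
section

open AlgebraicGeometry CategoryTheory Limits TensorProduct Topology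
open Groth.Agent.Lib.H9ModFibAlg Groth.Agent.Lib.H9RectDepthAlg Groth.Agent.Lib.H9FibNumerics
open Groth.Agent.Lib.H9FibGeomRk Groth.Agent.Lib.H9FibGeomRkConstr
open Groth.Agent.Lib.H9FibSuppOpen

attribute [local instance] Algebra.TensorProduct.rightAlgebra

section Dict

variable {A B : Type u} [CommRing A] [CommRing B] [Algebra A B] [Algebra.FiniteType A B]
  (M : Type u) [AddCommGroup M] [Module B M] [Module.Finite B M]

/-- a point of the support is fibre-minimal in the support iff the fibre module has dimension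
zero there. -/
theorem fdm_eq_zero_iff_minFib (z : PrimeSpectrum B) :
    fdm A M z.asIdeal = 0 ↔ z ∈ MinFib A (Module.support B M) := by
  haveI := z.2
  constructor
  · intro h0
    have hz : z ∈ Module.support B M := by
      have h1 : fdm A M z.asIdeal ≠ ⊥ := by rw [h0]; exact WithBot.coe_ne_bot
      exact (fdm_ne_bot_iff (A := A) M z.asIdeal).mp h1
    refine ⟨hz, fun z' hz' hle hA => ?_⟩
    haveI := z'.2
    have h2 : fdm A M z'.asIdeal ≠ ⊥ := (fdm_ne_bot_iff (A := A) M z'.asIdeal).mpr hz'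
    exact PrimeSpectrum.ext (eq_of_fdm_eq_zero (A := A) M z.asIdeal z'.asIdeal hle hA h0 h2)
  · rintro ⟨hz, hmin⟩
    have h1 : fdm A M z.asIdeal ≠ ⊥ := (fdm_ne_bot_iff (A := A) M z.asIdeal).mpr hz
    obtain ⟨z₀, hz₀p, hz₀z, hz₀A, hz₀0, -⟩ := alg_exists_min (A := A) M z.asIdeal h1
    have hz₀S : (⟨z₀, hz₀p⟩ : PrimeSpectrum B) ∈ Module.support B M := by
      have h2 : fdm A M z₀ ≠ ⊥ := by rw [hz₀0]; exact WithBot.coe_ne_bot
      exact (fdm_ne_bot_iff (A := A) M z₀).mp h2
    have heq := hmin ⟨z₀, hz₀p⟩ hz₀S hz₀z hz₀A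
    have heq' : z₀ = z.asIdeal := congrArg PrimeSpectrum.asIdeal heq
    obtain ⟨-, c2⟩ := fdep_congr (A := A) M heq'
    rw [← c2]
    exact hz₀0

end Dict

/-- fibrewise specializations of the maximal points of the supports of the fibre modules whose
relative transcendence degree lies in `S`. -/
def FSG (S : Set ℕ) (A B M : Type u) [CommRing A] [CommRing B] [Algebra A B] [AddCommGroup M]
    [Module B M] : Set (PrimeSpectrum B) :=
  {q | ∃ z : PrimeSpectrum B, z.asIdeal ≤ q.asIdeal ∧ z.asIdeal.under A = q.asIdeal.under A ∧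
    fdm A M z.asIdeal = 0 ∧ ftd A z.asIdeal ∈ S}

theorem fsg_eq_fsz (S : Set ℕ) {A B : Type u} [CommRing A] [CommRing B] [Algebra A B]
    [Algebra.FiniteType A B] (M : Type u) [AddCommGroup M] [Module B M] [Module.Finite B M] :
    FSG S A B M = FSZ A (Module.support B M) S := by
  ext q
  constructor
  · rintro ⟨z, hzq, hzA, h0, hS⟩
    exact ⟨z, (fdm_eq_zero_iff_minFib M z).mp h0, hzq, hzA, hS⟩
  · rintro ⟨z, hmin, hzq, hzA, hS⟩
    exact ⟨z, hzq, hzA, (fdm_eq_zero_iff_minFib M z).mpr hmin, hS⟩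

section BC

variable {A B A' B' : Type u} [CommRing A] [CommRing B] [CommRing A'] [CommRing B']
  [Algebra A B] [Algebra A A'] [Algebra B B'] [Algebra A' B'] [Algebra A B']
  [IsScalarTower A B B'] [IsScalarTower A A' B'] [Algebra.IsPushout A B A' B']
  [Algebra.FiniteType A B]
  (M : Type u) [AddCommGroup M] [Module B M] [Module.Finite B M]
  (M' : Type u) [AddCommGroup M'] [Module B' M'] [Module B M'] [IsScalarTower B B' M']
  (f : M →ₗ[B] M') (hf : IsBaseChange B' f)

include f hf in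
set_option synthInstance.maxHeartbeats 400000 in
set_option maxHeartbeats 1600000 in
/-- **Invariance of the local dimension of the support of the fibre module** under base change. -/
theorem dltM_baseChange (q' : Ideal B') [q'.IsPrime] (q : Ideal B) [q.IsPrime]
    (hq : q = q'.comap (algebraMap B B')) :
    (fdm A' M' q' ≠ ⊥ ↔ fdm A M q ≠ ⊥) ∧
    fdm A' M' q' + ((ftd A' q' : ℕ) : WithBot ℕ∞) = fdm A M q + ((ftd A q : ℕ) : WithBot ℕ∞) := by
  have hpo1 : Algebra.IsPushout A A' B B' := Algebra.IsPushout.symm inferInstance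
  haveI : Algebra.FiniteType A' B' :=
    Algebra.FiniteType.equiv (inferInstanceAs (Algebra.FiniteType A' (A' ⊗[A] B)))
      (Algebra.IsPushout.equiv A A' B B')
  haveI : Module.Finite B' M' := Module.Finite.equiv hf.equiv
  obtain ⟨c, c', h1, h2⟩ := fdep_fdm_baseChange (A := A) (A' := A') M M' f hf q' q hq
  have h3 := rdep_baseChange (A := A) (A' := A') M M' f hf q' q hq
  unfold rdep at h3
  have hiff : fdm A' M' q' ≠ ⊥ ↔ fdm A M q ≠ ⊥ := by
    constructor
    · intro h hbot
      rw [hbot, WithBot.bot_add] at h2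
      exact h (by
        by_contra hne
        obtain ⟨m, hm⟩ := WithBot.ne_bot_iff_exists.mp hne
        rw [← hm] at h2
        exact WithBot.coe_ne_bot (h2 : ((m + (c' : ℕ∞) : ℕ∞) : WithBot ℕ∞) = ⊥))
    · intro h hbot
      rw [hbot, WithBot.bot_add] at h2
      exact h (by
        by_contra hne
        obtain ⟨m, hm⟩ := WithBot.ne_bot_iff_exists.mp hne
        rw [← hm] at h2
        exact WithBot.coe_ne_bot (h2.symm : ((m + (c : ℕ∞) : ℕ∞) : WithBot ℕ∞) = ⊥))
  refine ⟨hiff, ?_⟩
  by_cases hbot : fdm A M q = ⊥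
  · have hbot' : fdm A' M' q' = ⊥ := by
      by_contra hne
      exact hiff.mp hne hbot
    rw [hbot, hbot', WithBot.bot_add, WithBot.bot_add]
  · have hbot' := hiff.mpr hbot
    obtain ⟨hfin, -⟩ := fdep_le_fdm (A := A) M q hbot
    obtain ⟨hfin', -⟩ := fdep_le_fdm (A := A') M' q' hbot'
    obtain ⟨n, hn⟩ := ENat.ne_top_iff_exists.mp hfin
    obtain ⟨n', hn'⟩ := ENat.ne_top_iff_exists.mp hfin'
    rw [← hn, ← hn'] at h1 h3
    have e1 : n' + c' = n + c := by exact_mod_cast h1
    have e3 : n' + ftd A' q' = n + ftd A q := by exact_mod_cast h3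
    have e4 : c' + ftd A q = c + ftd A' q' := by omega
    apply withBot_eq_of_add_nat_eq (t := c' + ftd A q)
    have e5 : fdm A' M' q' + ((ftd A' q' : ℕ) : WithBot ℕ∞) +
        (((c' + ftd A q : ℕ) : ℕ) : WithBot ℕ∞) =
        (fdm A' M' q' + ((c' : ℕ) : WithBot ℕ∞)) +
          (((ftd A' q' + ftd A q : ℕ) : ℕ) : WithBot ℕ∞) := by
      push_cast
      abel
    have e6 : fdm A M q + ((ftd A q : ℕ) : WithBot ℕ∞) +
        (((c' + ftd A q : ℕ) : ℕ) : WithBot ℕ∞) =
        (fdm A M q + ((c : ℕ) : WithBot ℕ∞)) +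
          (((ftd A' q' + ftd A q : ℕ) : ℕ) : WithBot ℕ∞) := by
      rw [e4]
      push_cast
      abel
    rw [e5, e6, h2]

omit [Algebra.FiniteType A B] [Module.Finite B M] in
theorem withBot_eq_zero_of_le {a : WithBot ℕ∞} (h1 : a ≠ ⊥) (h2 : a ≤ 0) : a = 0 := by
  obtain ⟨m, rfl⟩ := WithBot.ne_bot_iff_exists.mp h1
  apply le_antisymm h2
  have : ((0 : ℕ∞) : WithBot ℕ∞) ≤ ((m : ℕ∞) : WithBot ℕ∞) := WithBot.coe_le_coe.mpr zero_le
  exact this

include f hf in
set_option synthInstance.maxHeartbeats 400000 in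
set_option maxHeartbeats 1600000 in
/-- **Base change invariance** of the fibrewise specializations of the maximal points of the
supports of the fibre modules. -/
theorem fsg_baseChange (S : Set ℕ) :
    FSG S A' B' M' = PrimeSpectrum.comap (algebraMap B B') ⁻¹' FSG S A B M := by
  obtain ⟨k1, k2⟩ := ftd_baseChange (A := A) (B := B) (A' := A') (B' := B')
  have hAA : ∀ (q' : Ideal B'), (q'.comap (algebraMap B B')).under A = (q'.under A').under A := by
    intro q'
    rw [Ideal.under_def, Ideal.under_def, Ideal.under_def, Ideal.comap_comap, Ideal.comap_comap,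
      ← IsScalarTower.algebraMap_eq, ← IsScalarTower.algebraMap_eq]
  ext q'
  haveI := q'.2
  constructor
  · rintro ⟨z', hz'q', hz'A', h0', hS'⟩
    haveI := z'.2
    obtain ⟨d1, d2⟩ := dltM_baseChange (A := A) (A' := A') M M' f hf z'.asIdeal
      (z'.asIdeal.comap (algebraMap B B')) rfl
    have hk := k1 z'.asIdeal (z'.asIdeal.comap (algebraMap B B')) rfl
    have hne : fdm A M (z'.asIdeal.comap (algebraMap B B')) ≠ ⊥ :=
      d1.mp (by rw [h0']; exact WithBot.coe_ne_bot)
    rw [h0', zero_add] at d2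
    have hle : fdm A M (z'.asIdeal.comap (algebraMap B B')) ≤ 0 := by
      apply withBot_le_of_add_nat_le (t := ftd A (z'.asIdeal.comap (algebraMap B B')))
      rw [← d2, zero_add]
      exact_mod_cast hk
    have h0 := withBot_eq_zero_of_le hne hle
    rw [h0, zero_add] at d2
    have hftd : ftd A' z'.asIdeal = ftd A (z'.asIdeal.comap (algebraMap B B')) :=
      Groth.Agent.Lib.H9FibSkEquidim.natCast_withBot_inj d2
    refine ⟨PrimeSpectrum.comap (algebraMap B B') z', Ideal.comap_mono hz'q', ?_, h0, ?_⟩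
    · change (z'.asIdeal.comap (algebraMap B B')).under A =
        (q'.asIdeal.comap (algebraMap B B')).under A
      rw [hAA, hAA, hz'A']
    · change ftd A (z'.asIdeal.comap (algebraMap B B')) ∈ S
      rw [← hftd]
      exact hS'
  · rintro ⟨z, hzq, hzA, h0, hS⟩
    haveI := z.2
    obtain ⟨z', hz'p, hz'q', hz'z, hz'A', hz'ftd⟩ := k2 q'.asIdeal z.asIdeal hzq hzA
    haveI := hz'p
    obtain ⟨d1, d2⟩ := dltM_baseChange (A := A) (A' := A') M M' f hf z' z.asIdeal hz'z.symm
    rw [hz'ftd, h0] at d2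
    have h0' : fdm A' M' z' = 0 := withBot_eq_of_add_nat_eq d2
    exact ⟨⟨z', hz'p⟩, hz'q', hz'A', h0', by
      change ftd A' z' ∈ S
      rw [hz'ftd]
      exact hS⟩

end BC

end

-- ===== part GmC =====
section

open AlgebraicGeometry CategoryTheory Limits TensorProduct Topology TopologicalSpace
open Groth.Agent.Lib.H9ModFibAlg Groth.Agent.Lib.H9RectDepthAlg Groth.Agent.Lib.H9FibNumerics
open Groth.Agent.Lib.H9FibGeomRk Groth.Agent.Lib.H9FibGeomRkConstr
open Groth.Agent.Lib.H9RectDepthConstr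
open Groth.Agent.Lib.H9FibSuppOpen Groth.Agent.Lib.H9ModLocus

attribute [local instance] Algebra.TensorProduct.rightAlgebra

theorem fsg_bc (S : Set ℕ) : ModLocus.BC (fun A B M _ _ _ _ _ => FSG S A B M) := by
  intro A B A' B' _ _ _ _ _ _ _ _ _ _ _ _ _ M _ _ _ M' _ _ _ _ f hf
  exact fsg_baseChange M M' f hf S

set_option synthInstance.maxHeartbeats 400000 in
set_option maxHeartbeats 1600000 in
theorem fsg_gen (S : Set ℕ) : ModLocus.Gen (fun A B M _ _ _ _ _ => FSG S A B M) := by
  intro A₁ B₁ M₁ _ _ _ _ _ _ _ _ _ hA₁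
  haveI : IsNoetherianRing A₁ := Algebra.FiniteType.isNoetherianRing ℤ A₁
  have hUC : CAlg.IsUniversallyCatenary A₁ := isUniversallyCatenary_of_finiteType_int A₁ hA₁
  obtain ⟨g, hg0, hgen⟩ := exists_generic_FSZ hUC (Module.support B₁ M₁) Module.isClosed_support
  obtain ⟨C, hC, hCq⟩ := hgen S
  refine ⟨g, hg0, ?_⟩
  show IsConstructible (FSG S (Localization.Away g) (Localization.Away g ⊗[A₁] B₁)
    ((Localization.Away g ⊗[A₁] B₁) ⊗[B₁] M₁))
  have hbc := fsg_bc S (A := A₁) (B := B₁) (A' := Localization.Away g)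
    (B' := Localization.Away g ⊗[A₁] B₁) M₁ ((Localization.Away g ⊗[A₁] B₁) ⊗[B₁] M₁)
    (TensorProduct.mk B₁ (Localization.Away g ⊗[A₁] B₁) M₁ 1)
    (TensorProduct.isBaseChange B₁ M₁ (Localization.Away g ⊗[A₁] B₁))
  have hbc' : FSG S (Localization.Away g) (Localization.Away g ⊗[A₁] B₁)
      ((Localization.Away g ⊗[A₁] B₁) ⊗[B₁] M₁) =
      PrimeSpectrum.comap (algebraMap B₁ (Localization.Away g ⊗[A₁] B₁)) ⁻¹' FSG S A₁ B₁ M₁ := hbc
  rw [hbc']
  have heq : PrimeSpectrum.comap (algebraMap B₁ (Localization.Away g ⊗[A₁] B₁)) ⁻¹'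
      FSG S A₁ B₁ M₁ =
      PrimeSpectrum.comap (algebraMap B₁ (Localization.Away g ⊗[A₁] B₁)) ⁻¹' C := by
    ext q''
    set q := PrimeSpectrum.comap (algebraMap B₁ (Localization.Away g ⊗[A₁] B₁)) q'' with hq
    have hgq : algebraMap A₁ B₁ g ∉ q.asIdeal := by
      intro hmem
      have h1 : algebraMap B₁ (Localization.Away g ⊗[A₁] B₁) (algebraMap A₁ B₁ g) ∈
          q''.asIdeal := hmem
      rw [← IsScalarTower.algebraMap_apply,
        IsScalarTower.algebraMap_apply A₁ (Localization.Away g)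
          (Localization.Away g ⊗[A₁] B₁)] at h1
      exact q''.2.ne_top (Ideal.eq_top_of_isUnit_mem _ h1
        ((IsLocalization.Away.algebraMap_isUnit g).map _))
    show q ∈ FSG S A₁ B₁ M₁ ↔ q ∈ C
    rw [fsg_eq_fsz]
    exact hCq q hgq
  rw [heq]
  haveI : IsNoetherianRing (Localization.Away g) :=
    IsLocalization.isNoetherianRing (Submonoid.powers g) _ inferInstance
  haveI : IsNoetherianRing (Localization.Away g ⊗[A₁] B₁) :=
    Algebra.FiniteType.isNoetherianRing (Localization.Away g) _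
  apply IsConstructible.of_compl
  apply Groth.Agent.Lib.Helper5.LocusGeneric.IsOpen.isConstructible_of_noetherianSpace
  rw [← Set.preimage_compl]
  exact hC.isOpen_compl.preimage (PrimeSpectrum.continuous_comap _)

/-- **Constructibility** of the fibrewise specializations of the maximal points of the supports
of the fibre modules with relative transcendence degree in `S`. -/
theorem isConstructible_fsg (S : Set ℕ) (A B : Type u) [CommRing A] [CommRing B] [Algebra A B]
    [Algebra.FinitePresentation A B] (M : Type u) [AddCommGroup M] [Module B M]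
    [Module.FinitePresentation B M] : IsConstructible (FSG S A B M) :=
  isConstructible_of_generic_fp (fun A B M _ _ _ _ _ => FSG S A B M) (fsg_bc S) (fsg_gen S) A B M

end

-- ===== part GmD =====
section

open AlgebraicGeometry CategoryTheory Limits TensorProduct Topology TopologicalSpace
open Groth.Agent.Lib.Helper4.DimFormula
open Groth.Agent.Lib.H9ModFibAlg Groth.Agent.Lib.H9RectDepthAlg Groth.Agent.Lib.H9FibNumerics
open Groth.Agent.Lib.H9FibGeomRk Groth.Agent.Lib.H9FibGeomRkConstr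
open Groth.Agent.Lib.H9FibNumericsSch
open Groth.Agent.Lib.H9FibSuppOpen Groth.Agent.Lib.H9ModLocus

variable {X Y : Scheme.{u}} (f : X ⟶ Y)

/-- the maximal points of the supports of the fibre modules, of transcendence degree in `S`. -/
def EnS (F : X.Modules) (S : Set ℕ) : Set X := {x | mF f F x = 0 ∧ ptTrdeg f x ∈ S}

/-- the fibrewise specializations of the points of `EnS`. -/
def FSX (F : X.Modules) (S : Set ℕ) : Set X :=
  {x | ∃ x' : X, f x' = f x ∧ x' ⤳ x ∧ mF f F x' = 0 ∧ ptTrdeg f x' ∈ S}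

theorem image_EnS_eq (F : X.Modules) (S : Set ℕ) : f '' EnS f F S = f '' FSX f F S := by
  ext y
  constructor
  · rintro ⟨x, ⟨h0, hS⟩, rfl⟩
    exact ⟨x, ⟨x, rfl, specializes_rfl, h0, hS⟩, rfl⟩
  · rintro ⟨x, ⟨x', hfx', -, h0, hS⟩, rfl⟩
    exact ⟨x', ⟨h0, hS⟩, hfx'⟩

section Chart

variable {U : X.Opens} (hU : IsAffineOpen U) {V : Y.Opens} (hV : IsAffineOpen V)
  (hUV : U ≤ f ⁻¹ᵁ V)

include hV in
set_option maxHeartbeats 800000 in
theorem fsx_chart [LocallyOfFiniteType f] (F : X.Modules) [F.IsQuasicoherent]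
    (hft : (f.appLE V U hUV).hom.FiniteType) [Module.Finite Γ(X, U) Γ(F, U)] (S : Set ℕ)
    (x : X) (hxU : x ∈ U) :
    letI : Algebra Γ(Y, V) Γ(X, U) := (f.appLE V U hUV).hom.toAlgebra
    x ∈ FSX f F S ↔ hU.primeIdealOf ⟨x, hxU⟩ ∈ FSG S Γ(Y, V) Γ(X, U) Γ(F, U) := by
  letI aVU : Algebra Γ(Y, V) Γ(X, U) := (f.appLE V U hUV).hom.toAlgebra
  have h1 := forall_fibGen_chart f hU hV hUV x hxU
    (fun x' => ¬ (mF f F x' = 0 ∧ ptTrdeg f x' ∈ S))
    (fun z => ¬ (fdm Γ(Y, V) Γ(F, U) z.asIdeal = 0 ∧ ftd Γ(Y, V) z.asIdeal ∈ S))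
    (fun x' h => by
      obtain ⟨-, n2, n3⟩ := fiber_numerics f hU hV hUV F hft x' h
      rw [n2, n3])
  rw [← not_iff_not]
  have e1 : x ∉ FSX f F S ↔ ∀ x' : X, f x' = f x → x' ⤳ x →
      ¬ (mF f F x' = 0 ∧ ptTrdeg f x' ∈ S) := by
    constructor
    · intro h x' hfx' hsp hcon
      exact h ⟨x', hfx', hsp, hcon.1, hcon.2⟩
    · rintro h ⟨x', hfx', hsp, h0, hS⟩
      exact h x' hfx' hsp ⟨h0, hS⟩
  have e2 : hU.primeIdealOf ⟨x, hxU⟩ ∉ FSG S Γ(Y, V) Γ(X, U) Γ(F, U) ↔
      ∀ z : PrimeSpectrum Γ(X, U), z.asIdeal ≤ (hU.primeIdealOf ⟨x, hxU⟩).asIdeal →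
        z.asIdeal.comap (f.appLE V U hUV).hom =
          (hU.primeIdealOf ⟨x, hxU⟩).asIdeal.comap (f.appLE V U hUV).hom →
        ¬ (fdm Γ(Y, V) Γ(F, U) z.asIdeal = 0 ∧ ftd Γ(Y, V) z.asIdeal ∈ S) := by
    constructor
    · intro h z hzq hzA hcon
      exact h ⟨z, hzq, hzA, hcon.1, hcon.2⟩
    · rintro h ⟨z, hzq, hzA, h0, hS⟩
      exact h z hzq hzA ⟨h0, hS⟩
  rw [e1, e2]
  exact h1

end Chart

set_option synthInstance.maxHeartbeats 400000 in
set_option maxHeartbeats 1600000 in
/-- the fibrewise specializations of the maximal points of the supports of the fibre modules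
with transcendence degree in `S` form a locally constructible set. -/
theorem isLocallyConstructible_fsx [LocallyOfFinitePresentation f] (F : X.Modules)
    (hF : CohB1.IsFP F) (S : Set ℕ) : IsLocallyConstructible (FSX f F S) := by
  haveI : F.IsQuasicoherent := Groth.Agent.Helper18Strict.isQCoh_of_isFP F hF
  intro x
  obtain ⟨U, hU, V, hV, hUV, hxU, hfp, hfpM⟩ := exists_chart f F hF x
  letI aVU : Algebra Γ(Y, V) Γ(X, U) := (f.appLE V U hUV).hom.toAlgebra
  haveI : Algebra.FinitePresentation Γ(Y, V) Γ(X, U) := hfp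
  haveI := hfpM
  have hft : (f.appLE V U hUV).hom.FiniteType := RingHom.FiniteType.of_finitePresentation hfp
  have hW := isConstructible_fsg S Γ(Y, V) Γ(X, U) Γ(F, U)
  refine ⟨U, U.isOpen.mem_nhds hxU, U.isOpen, ?_⟩
  have hpre := hU.isoSpec.hom.isConstructible_preimage hW
  have heq : (Subtype.val : ↥U → X) ⁻¹' FSX f F S =
      (fun y : U => hU.primeIdealOf y) ⁻¹' FSG S Γ(Y, V) Γ(X, U) Γ(F, U) := by
    ext ⟨x', hx'⟩
    exact fsx_chart f hU hV hUV F hft S x' hx'
  change IsConstructible ((Subtype.val : ↥U → X) ⁻¹' _)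
  rw [heq]
  exact hpre

/-- the points of the base over which some irreducible component of the support of the fibre
module has dimension in `S`. -/
theorem isLocallyConstructible_image_EnS [LocallyOfFinitePresentation f] [QuasiCompact f]
    (F : X.Modules) (hF : CohB1.IsFP F) (S : Set ℕ) :
    IsLocallyConstructible (f '' EnS f F S) := by
  rw [image_EnS_eq]
  exact f.isLocallyConstructible_image (isLocallyConstructible_fsx f F hF S)

end

-- ===== part GmE =====
section

open AlgebraicGeometry CategoryTheory Limits TensorProduct Topology TopologicalSpace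
open Groth.Agent.Lib.Helper4.DimFormula
open Groth.Agent.Lib.H9FibNumericsSch
open Groth.Agent.Lib.H9FibSuppOpen

variable {X Y : Scheme.{u}} (f : X ⟶ Y)

set_option maxHeartbeats 800000 in
/-- **S5875**: the set of dimensions of the irreducible components of the supports of the fibre
modules is a locally constructible function of the point of the base. -/
theorem isLocallyConstructible_componentDims_eq [LocallyOfFinitePresentation f] [QuasiCompact f]
    (F : X.Modules) (hF : CohB1.IsFP F) (Φ : Finset ℕ) :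
    IsLocallyConstructible {s : Y |
      (fun Z : Set ↥(CohB1.support ((Scheme.Modules.pullback (f.fiberι s)).obj F)) =>
          topologicalKrullDim ↥Z) ''
          irreducibleComponents ↥(CohB1.support ((Scheme.Modules.pullback (f.fiberι s)).obj F)) =
        (fun n : ℕ => (n : WithBot ℕ∞)) '' (Φ : Set ℕ)} := by
  have hsupp : ∀ s : Y, CohB1.support ((Scheme.Modules.pullback (f.fiberι s)).obj F) =
      Sy f F s := fun s => Set.ext fun z => not_subsingleton_iff_nontrivial
  have h1 : IsLocallyConstructible (⋂ n : Φ, f '' EnS f F {n.1}) :=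
    IsLocallyConstructible.iInter fun n => isLocallyConstructible_image_EnS f F hF {n.1}
  have h2 : IsLocallyConstructible (f '' EnS f F {n | n ∉ Φ})ᶜ :=
    Groth.Agent.Lib.Helper5.isLocallyConstructible_compl
      (isLocallyConstructible_image_EnS f F hF {n | n ∉ Φ})
  convert h1.inter h2 using 1
  ext s
  rw [Set.mem_ofPred_eq, hsupp s, componentDims_eq_iff f F hF Φ s]
  simp only [Set.mem_inter_iff, Set.mem_iInter, Set.mem_compl_iff]
  constructor
  · rintro ⟨ha, hb⟩
    refine ⟨fun n => ha n.1 n.2, ?_⟩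
    rintro ⟨x, ⟨h0, hS⟩, hfx⟩
    exact hS (hb _ ⟨x, ⟨h0, rfl⟩, hfx⟩)
  · rintro ⟨ha, hb⟩
    refine ⟨fun n hn => ha ⟨n, hn⟩, ?_⟩
    rintro n ⟨x, ⟨h0, hn⟩, hfx⟩
    by_contra hcon
    exact hb ⟨x, ⟨h0, by rw [hn]; exact hcon⟩, hfx⟩

end

end Groth.Agent.Lib.H9FibMinConstr
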