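import Mathlib
import Groth.Agent.Lib.H9FibMinConstr

/-! Local constructibility of the locus of points at which the fibre is equidimensional (EGA IV 9.9-type; S3451): EqG A B (ring-level fibrewise equidimensional locus), exists_dlt_bound, isConstructible_eqG, FibMax, EqX, topologicalKrullDim_closure_fiber, fibMax_fiberι_iff, equidim_iff_eqX (topological dictionary), fibMax_chart, eqX_chart, isLocallyConstructible_equidim (helper9). -/

set_option autoImplicit false
set_option linter.style.haveILetI false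
set_option linter.unusedSimpArgs false
set_option linter.unusedVariables false
universe u

namespace Groth.Agent.Lib.H9FibEquidimConstr

-- ===== part GmF =====
section

open AlgebraicGeometry CategoryTheory Limits TensorProduct Topology TopologicalSpace
open Groth.Agent.Lib.H9ModFibAlg Groth.Agent.Lib.H9RectDepthAlg Groth.Agent.Lib.H9FibNumerics
open Groth.Agent.Lib.H9FibGeomRk Groth.Agent.Lib.H9FibGeomRkConstr
open Groth.Agent.Lib.H9FibMinConstr

section Ring

variable (A B : Type u) [CommRing A] [CommRing B] [Algebra A B]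

/-- the primes of `B` at which the fibre is equidimensional, numerically. -/
def EqG : Set (PrimeSpectrum B) :=
  {q | ∃ e : ℕ, ∀ z : PrimeSpectrum B, z.asIdeal ≤ q.asIdeal →
    z.asIdeal.under A = q.asIdeal.under A → fdm A B z.asIdeal = 0 → ftd A z.asIdeal = e}

variable [Algebra.FiniteType A B]

/-- the local dimensions of the fibres are bounded. -/
theorem exists_dlt_bound : ∃ N : ℕ, ∀ q : PrimeSpectrum B,
    fdm A B q.asIdeal + ((ftd A q.asIdeal : ℕ) : WithBot ℕ∞) ≤ ((N : ℕ) : WithBot ℕ∞) := by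
  classical
  set O : ℕ → Set (PrimeSpectrum B) := fun d => {q : PrimeSpectrum B |
    fdm A B q.asIdeal + ((ftd A q.asIdeal : ℕ) : WithBot ℕ∞) ≤ ((d : ℕ) : WithBot ℕ∞)} with hO
  have hopen : ∀ d, IsOpen (O d) := fun d => isOpen_dlt_le A B d
  have hcover : (Set.univ : Set (PrimeSpectrum B)) ⊆ ⋃ d, O d := by
    intro q _
    haveI := q.2
    obtain ⟨z, hzp, -, -, -, hz⟩ := alg_exists_min (A := A) B q.asIdeal (fdm_self_ne_bot q.asIdeal)
    exact Set.mem_iUnion.mpr ⟨ftd A z, le_of_eq hz.symm⟩
  obtain ⟨t, ht⟩ := isCompact_univ.elim_finite_subcover O hopen hcover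
  refine ⟨t.sup id, fun q => ?_⟩
  obtain ⟨d, hd, hq⟩ := Set.mem_iUnion₂.mp (ht (Set.mem_univ q))
  refine le_trans hq ?_
  have hle : d ≤ t.sup id := Finset.le_sup (f := id) hd
  exact_mod_cast hle

set_option maxHeartbeats 800000 in
/-- **Constructibility of the locus where the fibre is equidimensional at the point**, ring
level. -/
theorem isConstructible_eqG [Algebra.FinitePresentation A B] : IsConstructible (EqG A B) := by
  classical
  obtain ⟨N, hN⟩ := exists_dlt_bound A B
  have hcon : IsConstructible (⋂ e ∈ Finset.range (N + 1),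
      (FSG {e} A B B ∩ FSG {j | j ≠ e} A B B)ᶜ) := by
    apply IsConstructible.biInter (Finset.finite_toSet _)
    intro e _
    exact ((isConstructible_fsg {e} A B B).inter (isConstructible_fsg {j | j ≠ e} A B B)).compl
  convert hcon using 1
  ext q
  haveI := q.2
  simp only [Set.mem_iInter, Set.mem_compl_iff, Set.mem_inter_iff, not_and, Finset.mem_range]
  constructor
  · rintro ⟨e₀, he₀⟩ e - ⟨z₁, h1q, h1A, h10, h1S⟩ ⟨z₂, h2q, h2A, h20, h2S⟩
    have e1 := he₀ z₁ h1q h1A h10
    have e2 := he₀ z₂ h2q h2A h20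
    have h1S' : ftd A z₁.asIdeal = e := h1S
    exact h2S (e2.trans (e1.symm.trans h1S'))
  · intro h
    obtain ⟨z₀, hz₀p, hz₀q, hz₀A, hz₀0, hz₀⟩ :=
      alg_exists_min (A := A) B q.asIdeal (fdm_self_ne_bot q.asIdeal)
    have hle : ftd A z₀ ≤ N := by
      have := hN q
      rw [← hz₀] at this
      exact_mod_cast this
    refine ⟨ftd A z₀, fun z hzq hzA hz0 => ?_⟩
    by_contra hne
    exact h (ftd A z₀) (by omega) ⟨⟨z₀, hz₀p⟩, hz₀q, hz₀A, hz₀0, rfl⟩ ⟨z, hzq, hzA, hz0, hne⟩

end Ring

end

-- ===== part GmG =====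
section

open AlgebraicGeometry CategoryTheory Limits TensorProduct Topology TopologicalSpace
open Groth.Agent.Lib.Helper4.DimFormula Groth.Agent.Lib.Helper4.VarDim
open Groth.Agent.Lib.H9ModFibAlg Groth.Agent.Lib.H9RectDepthAlg Groth.Agent.Lib.H9FibNumerics
open Groth.Agent.Lib.H9FibGeomRk Groth.Agent.Lib.H9FibGeomRkConstr
open Groth.Agent.Lib.H9FibNumericsSch Groth.Agent.Lib.H9RectDepthSch
open Groth.Agent.Lib.H9FibSuppOpen Groth.Agent.Lib.H9ModLocus Groth.Agent.Lib.H9FibSkEquidim
open Groth.Agent.Lib.H9FibMinConstr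

theorem mem_support_self' {B : Type u} [CommRing B] (q : PrimeSpectrum B) :
    q ∈ Module.support B B := by
  rw [Module.mem_support_iff_exists_annihilator]
  refine ⟨1, fun r hr => ?_⟩
  rw [Submodule.mem_annihilator_span_singleton, smul_eq_mul, mul_one] at hr
  rw [hr]
  exact zero_mem _

variable {X Y : Scheme.{u}} (f : X ⟶ Y)

/-- the point `x` is a maximal point of its fibre. -/
def FibMax (x : X) : Prop := ∀ x'' : X, f x'' = f x → x'' ⤳ x → x'' = x

/-- the fibre of `f` through `x` is equidimensional at `x`, in terms of the source. -/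
def EqX (x : X) : Prop :=
  ∃ e : ℕ, ∀ x' : X, f x' = f x → x' ⤳ x → FibMax f x' → ptTrdeg f x' = e

/-- the dimension of the closure of a point of a fibre. -/
theorem topologicalKrullDim_closure_fiber [LocallyOfFiniteType f] (y : Y) (η : f.fiber y) :
    topologicalKrullDim ↥(closure ({η} : Set ↥(f.fiber y))) =
      ((ptTrdeg f (f.fiberι y η) : ℕ) : WithBot ℕ∞) := by
  letI : (f.fiber y).Over (Spec (CommRingCat.of (Y.residueField y))) :=
    ⟨f.fiberToSpecResidueField y⟩
  haveI : LocallyOfFiniteType ((f.fiber y) ↘ Spec (CommRingCat.of (Y.residueField y))) :=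
    locallyOfFiniteType_fiberToSpecResidueField f _
  rw [topologicalKrullDim_closure_singleton (Y.residueField y) (f.fiber y) η,
    trdegNat_eq_ptTrdeg]

/-- maximal points of a fibre, in terms of the source. -/
theorem fibMax_fiberι_iff (y : Y) (η : f.fiber y) :
    FibMax f (f.fiberι y η) ↔ ∀ z : f.fiber y, z ⤳ η → z = η := by
  constructor
  · intro h z hz
    have h1 : f.fiberι y z ⤳ f.fiberι y η :=
      (f.fiberι y).isEmbedding.isInducing.specializes_iff.mpr hz
    have h2 := h _ ((fiberι_base f y z).trans (fiberι_base f y η).symm) h1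
    exact (f.fiberι y).isEmbedding.injective h2
  · intro h x'' hfx'' hsp
    have hr : x'' ∈ Set.range (f.fiberι y) := by
      rw [f.range_fiberι]
      exact hfx''.trans (fiberι_base f y η)
    obtain ⟨z, rfl⟩ := hr
    have hsp' : z ⤳ η := (f.fiberι y).isEmbedding.isInducing.specializes_iff.mp hsp
    rw [h z hsp']

set_option maxHeartbeats 800000 in
/-- **topological dictionary**: equidimensionality of the fibre at a point. -/
theorem equidim_iff_eqX [LocallyOfFiniteType f] (x : X) :
    (∃ e : ℕ, ∀ Z ∈ irreducibleComponents (↥(f.fiber (f.base x)) : Type u), f.asFiber x ∈ Z →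
        topologicalKrullDim (↥Z : Type u) = e) ↔ EqX f x := by
  constructor
  · rintro ⟨e, he⟩
    refine ⟨e, fun x' hfx' hsp hmax => ?_⟩
    have hr : x' ∈ Set.range (f.fiberι (f x)) := by
      rw [f.range_fiberι]
      exact hfx'
    obtain ⟨η, rfl⟩ := hr
    have hcomp : closure ({η} : Set ↥(f.fiber (f x))) ∈ irreducibleComponents ↥(f.fiber (f x)) := by
      rw [Groth.Agent.Lib.Helper14.closure_mem_irreducibleComponents_iff]
      exact (fibMax_fiberι_iff f (f x) η).mp hmax
    have hmem : f.asFiber x ∈ closure ({η} : Set ↥(f.fiber (f x))) := by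
      rw [← specializes_iff_mem_closure]
      apply (f.fiberι (f x)).isEmbedding.isInducing.specializes_iff.mp
      rw [f.fiberι_asFiber x]
      exact hsp
    have hd := he _ hcomp hmem
    rw [topologicalKrullDim_closure_fiber f (f x) η] at hd
    exact natCast_withBot_inj hd
  · rintro ⟨e, he⟩
    refine ⟨e, fun Z hZ hxZ => ?_⟩
    obtain ⟨η, hη⟩ := Groth.Agent.Lib.Helper14.exists_closure_eq_of_mem_irreducibleComponents hZ
    have hmin := (Groth.Agent.Lib.Helper14.closure_mem_irreducibleComponents_iff η).mp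
      (by rw [hη]; exact hZ)
    have hsp : f.fiberι (f x) η ⤳ x := by
      have h1 : η ⤳ f.asFiber x := by
        rw [specializes_iff_mem_closure, hη]
        exact hxZ
      have h2 := (f.fiberι (f x)).isEmbedding.isInducing.specializes_iff.mpr h1
      rw [f.fiberι_asFiber x] at h2
      exact h2
    have hpt := he (f.fiberι (f x) η) (fiberι_base f (f x) η) hsp
      ((fibMax_fiberι_iff f (f x) η).mpr hmin)
    rw [← hη, topologicalKrullDim_closure_fiber f (f x) η, hpt]

section Chart

variable {U : X.Opens} (hU : IsAffineOpen U) {V : Y.Opens} (hV : IsAffineOpen V)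
  (hUV : U ≤ f ⁻¹ᵁ V)

include hV in
set_option maxHeartbeats 800000 in
/-- maximal points of the fibres in a chart. -/
theorem fibMax_chart [LocallyOfFiniteType f] (hft : (f.appLE V U hUV).hom.FiniteType)
    (x : X) (hxU : x ∈ U) :
    letI : Algebra Γ(Y, V) Γ(X, U) := (f.appLE V U hUV).hom.toAlgebra
    FibMax f x ↔ fdm Γ(Y, V) Γ(X, U) (hU.primeIdealOf ⟨x, hxU⟩).asIdeal = 0 := by
  letI aVU : Algebra Γ(Y, V) Γ(X, U) := (f.appLE V U hUV).hom.toAlgebra
  haveI : Algebra.FiniteType Γ(Y, V) Γ(X, U) := hft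
  have h1 := forall_fibGen_chart f hU hV hUV x hxU (fun x' => x' = x)
    (fun z => z = hU.primeIdealOf ⟨x, hxU⟩)
    (fun x' h => by
      constructor
      · rintro rfl
        rfl
      · intro heq
        have := hU.isoSpec.hom.homeomorph.injective heq
        exact congrArg Subtype.val this)
  rw [fdm_eq_zero_iff_minFib (A := Γ(Y, V)) Γ(X, U) (hU.primeIdealOf ⟨x, hxU⟩)]
  unfold FibMax
  rw [h1]
  constructor
  · intro h
    refine ⟨mem_support_self' _, fun z' _ hle hA => h z' hle hA⟩
  · rintro ⟨-, h⟩ z hle hA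
    exact h z (mem_support_self' _) hle hA

include hV in
set_option maxHeartbeats 800000 in
/-- the equidimensionality locus in a chart. -/
theorem eqX_chart [LocallyOfFiniteType f] (hft : (f.appLE V U hUV).hom.FiniteType)
    (x : X) (hxU : x ∈ U) :
    letI : Algebra Γ(Y, V) Γ(X, U) := (f.appLE V U hUV).hom.toAlgebra
    EqX f x ↔ hU.primeIdealOf ⟨x, hxU⟩ ∈ EqG Γ(Y, V) Γ(X, U) := by
  letI aVU : Algebra Γ(Y, V) Γ(X, U) := (f.appLE V U hUV).hom.toAlgebra
  haveI : Algebra.FiniteType Γ(Y, V) Γ(X, U) := hft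
  unfold EqX EqG
  rw [Set.mem_ofPred_eq]
  refine exists_congr fun e => ?_
  exact forall_fibGen_chart f hU hV hUV x hxU
    (fun x' => FibMax f x' → ptTrdeg f x' = e)
    (fun z => fdm Γ(Y, V) Γ(X, U) z.asIdeal = 0 → ftd Γ(Y, V) z.asIdeal = e)
    (fun x' h => by
      rw [fibMax_chart f hU hV hUV hft x' h, ptTrdeg_eq_ftd f hU hV hUV x' h])

end Chart

set_option synthInstance.maxHeartbeats 400000 in
set_option maxHeartbeats 1600000 in
/-- **S3451**: the set of points at which the fibre is equidimensional is locally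
constructible. -/
theorem isLocallyConstructible_equidim [LocallyOfFinitePresentation f] :
    IsLocallyConstructible {x : X | ∃ e : ℕ,
      ∀ Z ∈ irreducibleComponents (↥(f.fiber (f.base x)) : Type u), f.asFiber x ∈ Z →
        topologicalKrullDim (↥Z : Type u) = e} := by
  have hset : {x : X | ∃ e : ℕ,
      ∀ Z ∈ irreducibleComponents (↥(f.fiber (f.base x)) : Type u), f.asFiber x ∈ Z →
        topologicalKrullDim (↥Z : Type u) = e} = {x | EqX f x} := by
    ext x
    exact equidim_iff_eqX f x
  rw [hset]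
  intro x
  obtain ⟨U, hU, V, hV, hUV, hxU, hfp⟩ := exists_chart_ring f x
  letI aVU : Algebra Γ(Y, V) Γ(X, U) := (f.appLE V U hUV).hom.toAlgebra
  haveI : Algebra.FinitePresentation Γ(Y, V) Γ(X, U) := hfp
  have hft : (f.appLE V U hUV).hom.FiniteType := RingHom.FiniteType.of_finitePresentation hfp
  have hW := isConstructible_eqG Γ(Y, V) Γ(X, U)
  refine ⟨U, U.isOpen.mem_nhds hxU, U.isOpen, ?_⟩
  have hpre := hU.isoSpec.hom.isConstructible_preimage hW
  have heq : (Subtype.val : ↥U → X) ⁻¹' {x | EqX f x} =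
      (fun y : U => hU.primeIdealOf y) ⁻¹' EqG Γ(Y, V) Γ(X, U) := by
    ext ⟨x', hx'⟩
    exact eqX_chart f hU hV hUV hft x' hx'
  change IsConstructible ((Subtype.val : ↥U → X) ⁻¹' _)
  rw [heq]
  exact hpre

end

end Groth.Agent.Lib.H9FibEquidimConstr
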