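import Mathlib
import Groth.Prelude.Def_FlatMod2
import Groth.Prelude.Def_Coh
import Groth.Agent.Lib.Helper3FlatLocA
import Groth.Agent.Lib.Helper28DepthFlat
import Groth.Agent.Lib.H9QGor725
import Groth.Agent.Lib.R2H4FibRegSeq
import Groth.Agent.Lib.Helper3FlatOpenFP
import Groth.Agent.Lib.Helper2FlatOver
import Groth.Agent.Lib.Helper2FlatOpen
import Groth.Agent.Lib.Helper23FinType2

/-! EGA IV 11.3.8-type openness (S4866): Y loc. Noetherian, f LFT, F coherent f-flat, global functions g_i: the locus where the germs form a weakly regular sequence on F_x/m_y F_x is open. Algebra: `isSMulRegular_localizedModule_iff`, `isOpen_regLocus` (regular locus of an element on a finite module open), `Iq`, `FibB` (fibre module M_q/pM_q as B-module), `isSMulRegular_tensor_of_fib` / `isSMulRegular_of_fib` / `flat_quot_of_fib` (0_IV 15.1.16 at a prime, via Helper28DepthFlat), `isSMulRegular_fib_of_flat_quot` (converse), `quotLocEquiv`, `weaklyRegular_cons_iff`, `L`, `isOpen_L` (induction on the list); scheme: `weaklyRegular_chart`,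 `main4866`. -/

set_option autoImplicit false
set_option linter.style.haveILetI false
set_option linter.unusedSimpArgs false
set_option linter.unusedVariables false
universe u

namespace Groth.Agent.Lib.H9FibRegOpen

-- ===== part FibRegA =====
section

open Groth.Agent.Lib.Helper3.FlatLoc

variable {B : Type u} [CommRing B] (M : Type u) [AddCommGroup M] [Module B M]

/-- regularity of `a` on a localization, elementwise. -/
theorem isSMulRegular_localizedModule_iff (T : Submonoid B) (a : B) :
    IsSMulRegular (LocalizedModule T M) a ↔ ∀ m : M, a • m = 0 → ∃ t ∈ T, t • m = 0 := by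
  have key := isLocalizedModule_map_injective_iff T (LocalizedModule.mkLinearMap T M)
    (LocalizedModule.mkLinearMap T M) (a • (LinearMap.id : M →ₗ[B] M))
  rw [map_smul, IsLocalizedModule.map_id] at key
  have h2 : IsSMulRegular (LocalizedModule T M) a ↔
      Function.Injective (a • (LinearMap.id : LocalizedModule T M →ₗ[B] LocalizedModule T M)) := by
    unfold IsSMulRegular
    exact Iff.rfl
  rw [h2, key]
  simp

/-- the regular locus of an element on a finite module over a Noetherian ring is open. -/
theorem isOpen_regLocus [IsNoetherianRing B] [Module.Finite B M] (a : B) :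
    IsOpen {q : PrimeSpectrum B | IsSMulRegular (LocalizedModule q.asIdeal.primeCompl M) a} := by
  let K : Submodule B M := LinearMap.ker (a • (LinearMap.id : M →ₗ[B] M))
  haveI : Module.Finite B K := Module.Finite.of_injective K.subtype K.injective_subtype
  have hcl : IsClosed (Module.support B K) := Module.isClosed_support
  have : {q : PrimeSpectrum B | IsSMulRegular (LocalizedModule q.asIdeal.primeCompl M) a} =
      (Module.support B K)ᶜ := by
    ext q
    rw [Set.mem_setOf_eq, isSMulRegular_localizedModule_iff, Set.mem_compl_iff,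
      Module.notMem_support_iff']
    constructor
    · intro h k
      obtain ⟨t, ht, htk⟩ := h k.1 (by simpa [K] using k.2)
      exact ⟨t, ht, Subtype.ext htk⟩
    · intro h m hm
      obtain ⟨t, ht, htk⟩ := h ⟨m, by simpa [K] using hm⟩
      exact ⟨t, ht, congrArg Subtype.val htk⟩
  rw [this]
  exact hcl.isOpen_compl

end

-- ===== part FibRegB =====
section

open Groth.Agent.Lib.Helper28 Groth.Agent.Lib.H9QGor725 TensorProduct RingTheory.Sequence
open scoped Pointwise

variable (A : Type u) {B : Type u} [CommRing A] [CommRing B] [Algebra A B]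

/-- the ideal of `B` generated by `q ∩ A`. -/
abbrev Iq (q : Ideal B) : Ideal B := (q.comap (algebraMap A B)).map (algebraMap A B)

section Local

variable [IsNoetherianRing A] [IsNoetherianRing B]
  (M : Type u) [AddCommGroup M] [Module B M] [Module A M] [IsScalarTower A B M] [Module.Finite B M]
  (q : Ideal B) [q.IsPrime]

/-- the two descriptions of `p N`. -/
theorem mem_smul_top_iff (n : LocalizedModule q.primeCompl M) :
    n ∈ ((IsLocalRing.maximalIdeal (Localization.AtPrime (ctr (A := A) q))).map
      (algebraMap (Localization.AtPrime (ctr (A := A) q)) (Localization.AtPrime q)) •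
        (⊤ : Submodule (Localization.AtPrime q) (LocalizedModule q.primeCompl M))) ↔
    n ∈ (Iq A q • (⊤ : Submodule B (LocalizedModule q.primeCompl M))) := by
  have hmapeq : (IsLocalRing.maximalIdeal (Localization.AtPrime (ctr (A := A) q))).map
      (algebraMap (Localization.AtPrime (ctr (A := A) q)) (Localization.AtPrime q)) =
      (Iq A q).map (algebraMap B (Localization.AtPrime q)) := by
    rw [← IsLocalization.AtPrime.map_eq_maximalIdeal (ctr (A := A) q)
      (Localization.AtPrime (ctr (A := A) q)), Ideal.map_map, ← IsScalarTower.algebraMap_eq,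
      Iq, Ideal.map_map, ← IsScalarTower.algebraMap_eq]
  rw [hmapeq]
  exact mem_map_smul_top_iff (R := B) (S := Localization.AtPrime q) (Iq A q) n

/-- **EGA 0_IV 15.1.16 at a prime**: fibre-regular elements are universally regular. -/
theorem isSMulRegular_tensor_of_fib
    (hflat : Module.Flat A (LocalizedModule q.primeCompl M)) (a : B)
    (hreg : IsSMulRegular (LocalizedModule q.primeCompl M ⧸
      (Iq A q • (⊤ : Submodule B (LocalizedModule q.primeCompl M)))) a)
    (X : Type u) [AddCommGroup X] [Module A X] [Module.Finite A X] :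
    IsSMulRegular (LocalizedModule q.primeCompl M ⊗[A] X) a := by
  let Rl := Localization.AtPrime (ctr (A := A) q)
  let Sl := Localization.AtPrime q
  let Nl := LocalizedModule q.primeCompl M
  haveI flatR : Module.Flat Rl Nl := (flat_loc_iff q M).mpr hflat
  haveI : IsNoetherianRing Rl :=
    IsLocalization.isNoetherianRing (ctr (A := A) q).primeCompl Rl inferInstance
  haveI : IsNoetherianRing Sl := IsLocalization.isNoetherianRing q.primeCompl Sl inferInstance
  set y : Sl := algebraMap B Sl a with hy
  have hy' : IsSMulRegular (Nl ⧸ ((IsLocalRing.maximalIdeal Rl).map (algebraMap Rl Sl) •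
      (⊤ : Submodule Sl Nl))) y := by
    rw [isSMulRegular_quotient_iff_mem_of_smul_mem] at hreg ⊢
    intro n hn
    rw [mem_smul_top_iff] at hn ⊢
    apply hreg
    rwa [hy, algebraMap_smul] at hn
  have h3 : IsSMulRegular (Nl ⊗[Rl] (Rl ⊗[A] X)) y :=
    isSMulRegular_tensor_of_isSMulRegular_quotient (R := Rl) (S := Sl) (N := Nl) y hy'
      (Rl ⊗[A] X)
  let e : Nl ⊗[Rl] (Rl ⊗[A] X) ≃ₗ[Sl] Nl ⊗[A] X :=
    AlgebraTensorModule.cancelBaseChange A Rl Sl Nl X
  have hey : ∀ z, y • e.symm z = e.symm (a • z) := fun z => by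
    rw [← map_smul, hy, algebraMap_smul]
  intro z1 z2 h12
  apply e.symm.injective
  apply h3
  change y • e.symm z1 = y • e.symm z2
  rw [hey, hey]
  exact congrArg e.symm h12

/-- consequence 1: regular on the localization. -/
theorem isSMulRegular_of_fib
    (hflat : Module.Flat A (LocalizedModule q.primeCompl M)) (a : B)
    (hreg : IsSMulRegular (LocalizedModule q.primeCompl M ⧸
      (Iq A q • (⊤ : Submodule B (LocalizedModule q.primeCompl M)))) a) :
    IsSMulRegular (LocalizedModule q.primeCompl M) a := by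
  have h := isSMulRegular_tensor_of_fib A M q hflat a hreg A
  let e : LocalizedModule q.primeCompl M ⊗[A] A ≃ₗ[B] LocalizedModule q.primeCompl M :=
    AlgebraTensorModule.rid A B (LocalizedModule q.primeCompl M)
  exact (e.isSMulRegular_congr a).mp h

/-- the quotient of the localization by `a` is the localization of the quotient. -/
noncomputable def quotLocEquiv (a : B) :
    QuotSMulTop a (LocalizedModule q.primeCompl M) ≃ₗ[B]
      LocalizedModule q.primeCompl (QuotSMulTop a M) :=
  Groth.Agent.Lib.R2H4.FibRegSeq.quotSMulTopLocalizedEquiv q.primeCompl a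
    (Submodule.mkQ (a • (⊤ : Submodule B M))) (Submodule.mkQ_surjective _)
    (Groth.Agent.Lib.R2H4.FibRegSeq.exact_smul_mkQ a)

/-- consequence 2: the quotient by `a` is flat at `q`. -/
theorem flat_quot_of_fib
    (hflat : Module.Flat A (LocalizedModule q.primeCompl M)) (a : B)
    (hreg : IsSMulRegular (LocalizedModule q.primeCompl M ⧸
      (Iq A q • (⊤ : Submodule B (LocalizedModule q.primeCompl M)))) a) :
    Module.Flat A (LocalizedModule q.primeCompl (QuotSMulTop a M)) := by
  haveI := hflat
  have h1 : Module.Flat A (QuotSMulTop a (LocalizedModule q.primeCompl M)) := by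
    refine flat_of_exact_of_rTensor_injective (R := A) (N := LocalizedModule q.primeCompl M)
      (ymap A (LocalizedModule q.primeCompl M) a) (quotSMulTopMkR a)
      (quotSMulTopMkR_surjective a) (exact_ymap_quotSMulTopMkR a) ?_
    intro X _ _ _
    exact (isSMulRegular_tensor_iff a).mp (isSMulRegular_tensor_of_fib A M q hflat a hreg X)
  exact Module.Flat.of_linearEquiv ((quotLocEquiv M q a).restrictScalars A).symm

/-- **converse**: a regular element with flat quotient is fibre-regular. -/
theorem isSMulRegular_fib_of_flat_quot (a : B)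
    (hreg : IsSMulRegular (LocalizedModule q.primeCompl M) a)
    (hflat' : Module.Flat A (LocalizedModule q.primeCompl (QuotSMulTop a M))) :
    IsSMulRegular (LocalizedModule q.primeCompl M ⧸
      (Iq A q • (⊤ : Submodule B (LocalizedModule q.primeCompl M)))) a := by
  set Nl := LocalizedModule q.primeCompl M with hNl
  haveI h1 : Module.Flat A (QuotSMulTop a Nl) :=
    Module.Flat.of_linearEquiv ((quotLocEquiv M q a).restrictScalars A)
  set p : Ideal A := q.comap (algebraMap A B) with hp
  have hinj := LinearMap.lTensor_injective_of_exact_of_flat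
    (quotSMulTopMkR (R := A) (N := Nl) a) (quotSMulTopMkR_surjective a) (ymap A Nl a)
    hreg (exact_ymap_quotSMulTopMkR a) (A ⧸ p)
  rw [isSMulRegular_quotient_iff_mem_of_smul_mem]
  intro n hn
  have hmem : ∀ m : Nl, m ∈ (Iq A q • (⊤ : Submodule B Nl)) ↔
      m ∈ (p • (⊤ : Submodule A Nl)) := fun m =>
    mem_map_smul_top_iff (R := A) (S := B) p m
  rw [hmem] at hn ⊢
  have hz : ∀ m : Nl, m ∈ (p • (⊤ : Submodule A Nl)) ↔
      ((1 : A ⧸ p) ⊗ₜ[A] m : (A ⧸ p) ⊗[A] Nl) = 0 := by
    intro m
    rw [← Submodule.Quotient.mk_eq_zero,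
      ← TensorProduct.quotTensorEquivQuotSMul_mk_one_tmul (M := Nl) p m,
      LinearEquiv.map_eq_zero_iff]
  rw [hz] at hn ⊢
  apply hinj
  rw [map_zero, LinearMap.lTensor_tmul]
  exact hn

end Local

section Open

variable [IsNoetherianRing A] [IsNoetherianRing B]

/-- the fibre module at `q`, as a `B`-module. -/
abbrev FibB (M : Type u) [AddCommGroup M] [Module B M] (q : Ideal B) [q.IsPrime] : Type u :=
  LocalizedModule q.primeCompl M ⧸ (Iq A q • (⊤ : Submodule B (LocalizedModule q.primeCompl M)))

theorem weaklyRegular_cons_iff (M : Type u) [AddCommGroup M] [Module B M] (q : Ideal B) [q.IsPrime]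
    (a : B) (g : List B) :
    IsWeaklyRegular (FibB A M q) (a :: g) ↔
      IsSMulRegular (FibB A M q) a ∧ IsWeaklyRegular (FibB A (QuotSMulTop a M) q) g := by
  rw [isWeaklyRegular_cons_iff]
  refine and_congr_right fun _ => ?_
  let e1 := (quotSMulTopQuotEquiv (N := LocalizedModule q.primeCompl M) a (Iq A q)).symm
  let e2 : (QuotSMulTop a (LocalizedModule q.primeCompl M) ⧸
      (Iq A q • (⊤ : Submodule B (QuotSMulTop a (LocalizedModule q.primeCompl M))))) ≃ₗ[B]
      FibB A (QuotSMulTop a M) q :=
    Submodule.Quotient.equiv _ _ (quotLocEquiv M q a)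
      (by rw [Submodule.map_smul'', Submodule.map_top, LinearEquiv.range])
  exact (e1.trans e2).isWeaklyRegular_congr g

/-- the locus where `M` is flat over `A` and `g` is weakly regular on the fibre module. -/
def L (M : Type u) [AddCommGroup M] [Module B M] [Module A M] [IsScalarTower A B M] (g : List B) :
    Set (PrimeSpectrum B) :=
  {q | Module.Flat A (LocalizedModule q.asIdeal.primeCompl M) ∧
    IsWeaklyRegular (FibB A M q.asIdeal) g}

variable [Algebra.FiniteType A B]

theorem isOpen_L : ∀ (g : List B) (M : Type u) [AddCommGroup M] [Module B M] [Module A M]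
    [IsScalarTower A B M] [Module.Finite B M], IsOpen (L A M g) := by
  haveI : Algebra.FinitePresentation A B :=
    Algebra.FinitePresentation.of_finiteType.mp inferInstance
  intro g
  induction g with
  | nil =>
    intro M _ _ _ _ _
    haveI : Module.FinitePresentation B M := Module.finitePresentation_of_finite B M
    have h := Groth.Agent.Lib.Helper3.FlatOpen.isOpen_flatLocus_of_finitePresentation
      (R := A) (S := B) (M := M)
    convert h using 1
    ext q
    simp only [L, Set.mem_setOf_eq]
    exact and_iff_left (IsWeaklyRegular.nil _ _)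
  | cons a g ih =>
    intro M _ _ _ _ _
    haveI : Module.FinitePresentation B M := Module.finitePresentation_of_finite B M
    have h1 := Groth.Agent.Lib.Helper3.FlatOpen.isOpen_flatLocus_of_finitePresentation
      (R := A) (S := B) (M := M)
    have h2 := isOpen_regLocus M a
    have h3 := ih (QuotSMulTop a M)
    have : L A M (a :: g) =
        {q : PrimeSpectrum B | Module.Flat A (LocalizedModule q.asIdeal.primeCompl M)} ∩
        {q : PrimeSpectrum B | IsSMulRegular (LocalizedModule q.asIdeal.primeCompl M) a} ∩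
        L A (QuotSMulTop a M) g := by
      ext q
      simp only [L, Set.mem_inter_iff, Set.mem_setOf_eq]
      rw [weaklyRegular_cons_iff]
      constructor
      · rintro ⟨hfl, hreg, hw⟩
        exact ⟨⟨hfl, isSMulRegular_of_fib A M q.asIdeal hfl a hreg⟩,
          flat_quot_of_fib A M q.asIdeal hfl a hreg, hw⟩
      · rintro ⟨⟨hfl, hreg⟩, hfl', hw⟩
        exact ⟨hfl, isSMulRegular_fib_of_flat_quot A M q.asIdeal a hreg hfl', hw⟩
    rw [this]
    exact (h1.inter h2).inter h3

end Open

end

-- ===== part FibRegC =====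
section

open AlgebraicGeometry CategoryTheory Limits TopologicalSpace RingTheory.Sequence
open Groth.Agent.Lib.Helper2.FlatOver Groth.Agent.Lib.Helper2.FinPres

variable {X Y : Scheme.{u}} (f : X ⟶ Y) (F : X.Modules) [F.IsQuasicoherent]
  {U : X.Opens} (hU : IsAffineOpen U) {V : Y.Opens} (hV : IsAffineOpen V) (e : U ≤ f ⁻¹ᵁ V)

include hV in
set_option synthInstance.maxHeartbeats 400000 in
set_option maxHeartbeats 1600000 in
/-- chart dictionary for the fibre module `F_x / m_y F_x` with a list of sections. -/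
theorem weaklyRegular_chart (x : X) (hx : x ∈ U) (gU : List Γ(X, U)) :
    letI : Algebra Γ(Y, V) Γ(X, U) := (f.appLE V U e).hom.toAlgebra
    IsWeaklyRegular
        (↑(F.presheaf.stalk x) ⧸ (Ideal.map (f.stalkMap x).hom
          (IsLocalRing.maximalIdeal ↑(Y.presheaf.stalk (f x))) •
          (⊤ : Submodule ↑(X.presheaf.stalk x) ↑(F.presheaf.stalk x))))
        (gU.map (X.presheaf.germ U x hx).hom) ↔
      IsWeaklyRegular (FibB Γ(Y, V) Γ(F, U) (hU.primeIdealOf ⟨x, hx⟩).asIdeal) gU := by
  letI aVU : Algebra Γ(Y, V) Γ(X, U) := (f.appLE V U e).hom.toAlgebra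
  set q : Ideal Γ(X, U) := (hU.primeIdealOf ⟨x, hx⟩).asIdeal with hq
  letI aBS : Algebra Γ(X, U) (X.presheaf.stalk x) :=
    TopCat.Presheaf.algebra_section_stalk X.presheaf ⟨x, hx⟩
  letI mBF : Module Γ(X, U) (F.presheaf.stalk x) := moduleStalkSections F U x hx
  haveI tBSF : IsScalarTower Γ(X, U) (X.presheaf.stalk x) (F.presheaf.stalk x) :=
    ⟨fun b s m => by
      change (X.presheaf.germ U x hx b * s) • m = X.presheaf.germ U x hx b • (s • m)
      rw [mul_smul]⟩
  haveI hlocF := isLocalizedModule_germ hU F x hx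
  -- the ideal
  have hJ : Ideal.map (f.stalkMap x).hom (IsLocalRing.maximalIdeal ↑(Y.presheaf.stalk (f x))) =
      (Iq Γ(Y, V) q).map (algebraMap Γ(X, U) (X.presheaf.stalk x)) := by
    letI aAS : Algebra Γ(Y, V) (Y.presheaf.stalk (f x)) :=
      TopCat.Presheaf.algebra_section_stalk Y.presheaf ⟨f x, e hx⟩
    haveI := hV.isLocalization_stalk ⟨f x, e hx⟩
    have hp : q.comap (algebraMap Γ(Y, V) Γ(X, U)) =
        (hV.primeIdealOf ⟨f x, e hx⟩).asIdeal := by
      have h1 := IsAffineOpen.comap_primeIdealOf_appLE (f := f) V hV U hU e hx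
      have := congrArg PrimeSpectrum.asIdeal h1
      rw [PrimeSpectrum.comap_asIdeal] at this
      exact this
    rw [Iq, hp, ← IsLocalization.AtPrime.map_eq_maximalIdeal
      (hV.primeIdealOf ⟨f x, e hx⟩).asIdeal (Y.presheaf.stalk (f x)), Ideal.map_map,
      Ideal.map_map]
    congr 1
    ext a
    exact stalkMap_germ_eq f e x hx a
  -- step 1: the list
  have hlist : gU.map (X.presheaf.germ U x hx).hom =
      gU.map (algebraMap Γ(X, U) (X.presheaf.stalk x)) := rfl
  rw [hlist, isWeaklyRegular_map_algebraMap_iff]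
  -- step 2: change the submodule
  have hsub : (Ideal.map (f.stalkMap x).hom
      (IsLocalRing.maximalIdeal ↑(Y.presheaf.stalk (f x))) •
      (⊤ : Submodule ↑(X.presheaf.stalk x) ↑(F.presheaf.stalk x))).restrictScalars Γ(X, U) =
      Iq Γ(Y, V) q • (⊤ : Submodule Γ(X, U) (F.presheaf.stalk x)) := by
    rw [hJ, Ideal.smul_restrictScalars, Submodule.restrictScalars_top]
  let E1 : (↑(F.presheaf.stalk x) ⧸ (Ideal.map (f.stalkMap x).hom
      (IsLocalRing.maximalIdeal ↑(Y.presheaf.stalk (f x))) •
      (⊤ : Submodule ↑(X.presheaf.stalk x) ↑(F.presheaf.stalk x)))) ≃ₗ[Γ(X, U)]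
      (↑(F.presheaf.stalk x) ⧸ (Iq Γ(Y, V) q • (⊤ : Submodule Γ(X, U) (F.presheaf.stalk x)))) :=
    (Submodule.Quotient.restrictScalarsEquiv Γ(X, U) _).symm.trans
      (Submodule.quotEquivOfEq _ _ hsub)
  rw [E1.isWeaklyRegular_congr gU]
  -- step 3: the localization
  let ψ : LocalizedModule q.primeCompl Γ(F, U) ≃ₗ[Γ(X, U)] F.presheaf.stalk x :=
    IsLocalizedModule.iso q.primeCompl (germₗ F U x hx)
  let E2 : FibB Γ(Y, V) Γ(F, U) q ≃ₗ[Γ(X, U)]
      (↑(F.presheaf.stalk x) ⧸ (Iq Γ(Y, V) q • (⊤ : Submodule Γ(X, U) (F.presheaf.stalk x)))) :=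
    Submodule.Quotient.equiv _ _ ψ
      (by rw [Submodule.map_smul'', Submodule.map_top, LinearEquiv.range])
  exact (E2.isWeaklyRegular_congr gU).symm

omit [F.IsQuasicoherent] in
set_option synthInstance.maxHeartbeats 400000 in
set_option maxHeartbeats 1600000 in
/-- **EGA IV 11.3.8-type openness**: for a coherent `f`-flat module over a locally Noetherian
base, the locus where given global functions form a weakly regular sequence on the fibre module
is open. -/
theorem main4866 [IsLocallyNoetherian Y] [LocallyOfFiniteType f] (hF : Coh.IsCoh F)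
    (hflat : FlatMod.IsFlatOver f F) (n : ℕ) (g : Fin n → Γ(X, ⊤)) :
    IsOpen {x : X |
      RingTheory.Sequence.IsWeaklyRegular
        (↑(F.presheaf.stalk x) ⧸ (Ideal.map (f.stalkMap x).hom
          (IsLocalRing.maximalIdeal ↑(Y.presheaf.stalk (f x))) •
          (⊤ : Submodule ↑(X.presheaf.stalk x) ↑(F.presheaf.stalk x))))
        (List.ofFn fun i => (X.presheaf.germ ⊤ x trivial) (g i))} := by
  obtain ⟨hqc, hfin⟩ := hF
  haveI : F.IsQuasicoherent := hqc
  haveI : SheafOfModules.IsFiniteType (R := X.ringCatSheaf) F := hfin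
  rw [isOpen_iff_forall_mem_open]
  intro x₀ hx₀
  obtain ⟨V, hV, hxV⟩ : ∃ V : Y.Opens, IsAffineOpen V ∧ f.base x₀ ∈ V := by
    obtain ⟨_, ⟨V, hV, rfl⟩, hxV, -⟩ :=
      Y.isBasis_affineOpens.exists_subset_of_mem_open (Set.mem_univ (f.base x₀)) isOpen_univ
    exact ⟨V, hV, hxV⟩
  obtain ⟨_, ⟨U, hU, rfl⟩, hxU, hUV⟩ :=
    X.isBasis_affineOpens.exists_subset_of_mem_open (show x₀ ∈ (f ⁻¹ᵁ V : Set X) from hxV)
      (f ⁻¹ᵁ V).isOpen
  letI aVU : Algebra Γ(Y, V) Γ(X, U) := (f.appLE V U hUV).hom.toAlgebra
  letI mVF : Module Γ(Y, V) Γ(F, U) := Module.compHom Γ(F, U) (f.appLE V U hUV).hom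
  haveI t1 : IsScalarTower Γ(Y, V) Γ(X, U) Γ(F, U) :=
    IsScalarTower.of_algebraMap_smul (fun _ _ => rfl)
  haveI : IsNoetherianRing Γ(Y, V) := IsLocallyNoetherian.component_noetherian ⟨V, hV⟩
  haveI hftA : Algebra.FiniteType Γ(Y, V) Γ(X, U) :=
    HasRingHomProperty.appLE (P := @LocallyOfFiniteType) f inferInstance ⟨V, hV⟩ ⟨U, hU⟩ hUV
  haveI : IsNoetherianRing Γ(X, U) := Algebra.FiniteType.isNoetherianRing Γ(Y, V) Γ(X, U)
  haveI : Module.Finite Γ(X, U) Γ(F, U) :=
    Groth.Agent.Lib.Helper23.FinType.finite_of_isFiniteType F hU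
  let gU : List Γ(X, U) := List.ofFn fun i => X.presheaf.map (homOfLE le_top).op (g i)
  have hopen := isOpen_L Γ(Y, V) gU Γ(F, U)
  have hlist : ∀ (x : X) (hx : x ∈ U),
      (List.ofFn fun i => (X.presheaf.germ ⊤ x trivial) (g i)) =
        gU.map (X.presheaf.germ U x hx).hom := by
    intro x hx
    rw [List.map_ofFn]
    congr 1
    ext i
    exact (X.presheaf.germ_res_apply (homOfLE le_top) x hx (g i)).symm
  have key : ∀ (x : X) (hx : x ∈ U),
      IsWeaklyRegular
        (↑(F.presheaf.stalk x) ⧸ (Ideal.map (f.stalkMap x).hom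
          (IsLocalRing.maximalIdeal ↑(Y.presheaf.stalk (f x))) •
          (⊤ : Submodule ↑(X.presheaf.stalk x) ↑(F.presheaf.stalk x))))
        (List.ofFn fun i => (X.presheaf.germ ⊤ x trivial) (g i)) ↔
      hU.primeIdealOf ⟨x, hx⟩ ∈ L Γ(Y, V) Γ(F, U) gU := by
    intro x hx
    rw [hlist x hx, weaklyRegular_chart f F hU hV hUV x hx gU]
    simp only [L, Set.mem_setOf_eq]
    exact (and_iff_right ((isFlatOverAt_iff_flat_localizedModule f F hU hV hUV x hx).mp
      (hflat x))).symm
  have hcont : Continuous (fun y : U => hU.primeIdealOf y) := hU.isoSpec.hom.continuous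
  refine ⟨Subtype.val '' ((fun y : U => hU.primeIdealOf y) ⁻¹' (L Γ(Y, V) Γ(F, U) gU)), ?_,
    U.isOpen.isOpenMap_subtype_val _ (hopen.preimage hcont), ?_⟩
  · rintro _ ⟨⟨x', hx'⟩, hx'W, rfl⟩
    exact (key x' hx').mpr hx'W
  · exact ⟨⟨x₀, hxU⟩, (key x₀ hxU).mp hx₀, rfl⟩

end

end Groth.Agent.Lib.H9FibRegOpen
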