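import Mathlib
import Groth.Agent.Lib.H9FibAssConstr
import Groth.Agent.Lib.H9FibEquidimConstr

/-! Torsion and torsion-free fibre modules over locally integral fibres (EGA IV 9.4-type; S4831, S4832): supportDim_add_one_le_of_mem_annihilator, annihilator_eq_bot_of_supportDim_eq, torsion_eq_top_iff (Noetherian local domain: torsion N = ⊤ iff supportDim N ≠ dim R), torsion_eq_bot_iff (torsion-free iff N = 0 or (full support dimension and S_1)); ftd_le_dltM, fsg_ge_iff (FSG {≥d} = {dlt_M ≥ d}), TT A B M, isConstructible_TT; dO, TTX, SuppX, dO_chart, ttx_chart, suppX_chart, isLocallyConstructible_ttx_suppX, isLocallyConstructible_fibre_torsion, isLocallyConstructible_fibre_torsionFree (helper9). -/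

set_option autoImplicit false
set_option linter.style.haveILetI false
set_option linter.unusedSimpArgs false
set_option linter.unusedVariables false
universe u

namespace Groth.Agent.Lib.H9FibTorsion

-- ===== part TrA =====
section

open Groth.Agent.Lib.Helper28 Groth.Agent.Lib.Helper5 Groth.Agent.Lib.Helper5.GenDepth
open Groth.Agent.Lib.H9FibNumerics
open scoped nonZeroDivisors

variable {R : Type u} [CommRing R] [IsNoetherianRing R] [IsLocalRing R] [IsDomain R]
  (N : Type u) [AddCommGroup N] [Module R N] [Module.Finite R N]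

omit [IsLocalRing R] [IsNoetherianRing R] in
/-- a nonzero element in the annihilator drops the dimension of the support. -/
theorem supportDim_add_one_le_of_mem_annihilator {a : R} (ha : a ≠ 0)
    (hann : a ∈ Module.annihilator R N) : Module.supportDim R N + 1 ≤ ringKrullDim R := by
  rw [Module.supportDim_eq_ringKrullDim_quotient_annihilator]
  exact ringKrullDim_succ_le_of_surjective (Ideal.Quotient.mk (Module.annihilator R N))
    Ideal.Quotient.mk_surjective (mem_nonZeroDivisors_of_ne_zero ha)
    (Ideal.Quotient.eq_zero_iff_mem.mpr hann)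

/-- a module whose support has full dimension has zero annihilator. -/
theorem annihilator_eq_bot_of_supportDim_eq (h : Module.supportDim R N = ringKrullDim R) :
    Module.annihilator R N = ⊥ := by
  rw [eq_bot_iff]
  intro a ha
  by_contra hne
  have hne' : a ≠ 0 := fun h0 => hne (by rw [h0]; exact zero_mem _)
  have h1 := supportDim_add_one_le_of_mem_annihilator N hne' ha
  rw [h] at h1
  have hlt : ringKrullDim R < ⊤ := ringKrullDim_lt_top
  have hbot : ringKrullDim R ≠ ⊥ := ringKrullDim_ne_bot
  obtain ⟨d, hd⟩ := WithBot.ne_bot_iff_exists.mp hbot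
  rw [← hd] at h1 hlt
  have hd' : d ≠ ⊤ := by
    intro htop
    rw [htop] at hlt
    exact lt_irrefl _ hlt
  obtain ⟨n, rfl⟩ := ENat.ne_top_iff_exists.mp hd'
  have h2 : (((n : ℕ∞) : WithBot ℕ∞) + 1) = (((n + 1 : ℕ) : ℕ∞) : WithBot ℕ∞) := by
    push_cast
    rfl
  rw [h2, WithBot.coe_le_coe] at h1
  have h3 : n + 1 ≤ n := by exact_mod_cast h1
  omega

/-- **torsion modules** over a Noetherian local domain, numerically. -/
theorem torsion_eq_top_iff :
    Submodule.torsion R N = ⊤ ↔ Module.supportDim R N ≠ ringKrullDim R := by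
  constructor
  · intro htop heq
    have hT : Module.IsTorsion R N := by
      intro n
      have hn : n ∈ Submodule.torsion R N := by rw [htop]; trivial
      obtain ⟨a, ha⟩ := (Submodule.mem_torsion_iff n).mp hn
      exact ⟨a, ha⟩
    obtain ⟨a, ha1, ha2⟩ := Submodule.annihilator_top_inter_nonZeroDivisors hT
    have hann : a ∈ Module.annihilator R N := by
      rw [Module.mem_annihilator]
      intro n
      exact (Submodule.mem_annihilator.mp ha1) n trivial
    have h0 := annihilator_eq_bot_of_supportDim_eq N heq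
    rw [h0, Ideal.mem_bot] at hann
    exact nonZeroDivisors.ne_zero ha2 hann
  · intro hne
    by_contra htop
    apply hne
    obtain ⟨n, hn⟩ : ∃ n : N, n ∉ Submodule.torsion R N := by
      by_contra hcon
      push Not at hcon
      exact htop (eq_top_iff.mpr fun n _ => hcon n)
    have hinj : Function.Injective (LinearMap.toSpanSingleton R N n) := by
      rw [← LinearMap.ker_eq_bot, eq_bot_iff]
      intro r hr
      rw [LinearMap.mem_ker, LinearMap.toSpanSingleton_apply] at hr
      rw [Submodule.mem_bot]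
      by_contra hr0
      exact hn ((Submodule.mem_torsion_iff n).mpr ⟨⟨r, mem_nonZeroDivisors_of_ne_zero hr0⟩, hr⟩)
    apply le_antisymm (Module.supportDim_le_ringKrullDim R N)
    rw [← Module.supportDim_self_eq_ringKrullDim]
    exact Module.supportDim_le_of_injective _ hinj

/-- **torsion-free modules** over a Noetherian local domain, numerically. -/
theorem torsion_eq_bot_iff :
    Submodule.torsion R N = ⊥ ↔ Module.supportDim R N = ⊥ ∨
      (Module.supportDim R N = ringKrullDim R ∧ LocCoh.HasSk 1 R N) := by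
  constructor
  · intro hbot
    by_cases hsub : Subsingleton N
    · left
      exact Module.supportDim_eq_bot_of_subsingleton R N
    · right
      rw [not_subsingleton_iff_nontrivial] at hsub
      obtain ⟨n, hn⟩ := exists_ne (0 : N)
      have hinj : Function.Injective (LinearMap.toSpanSingleton R N n) := by
        rw [← LinearMap.ker_eq_bot, eq_bot_iff]
        intro r hr
        rw [LinearMap.mem_ker, LinearMap.toSpanSingleton_apply] at hr
        rw [Submodule.mem_bot]
        by_contra hr0
        have : n ∈ Submodule.torsion R N :=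
          (Submodule.mem_torsion_iff n).mpr ⟨⟨r, mem_nonZeroDivisors_of_ne_zero hr0⟩, hr⟩
        rw [hbot, Submodule.mem_bot] at this
        exact hn this
      refine ⟨?_, ?_⟩
      · apply le_antisymm (Module.supportDim_le_ringKrullDim R N)
        rw [← Module.supportDim_self_eq_ringKrullDim]
        exact Module.supportDim_le_of_injective _ hinj
      · intro p hp
        change min ((1 : ℕ) : WithBot ℕ∞) (dm p N) ≤ ((dep p N : ℕ∞) : WithBot ℕ∞)
        by_cases h0 : dep p N = 0
        · -- `p` is an associated prime, hence zero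
          have hass := (dep_eq_zero_iff N p).mp h0
          obtain ⟨-, m, hm⟩ := (isAssociatedPrime_iff (M := N)).mp hass
          have hp0 : p = ⊥ := by
            rw [eq_bot_iff]
            intro r hr
            rw [Ideal.mem_bot]
            by_contra hr0
            have hm0 : r • m = 0 := by
              rw [hm, Submodule.mem_colon_singleton] at hr
              exact (Submodule.mem_bot R).mp hr
            have hmt : m ∈ Submodule.torsion R N :=
              (Submodule.mem_torsion_iff m).mpr ⟨⟨r, mem_nonZeroDivisors_of_ne_zero hr0⟩, hm0⟩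
            rw [hbot, Submodule.mem_bot] at hmt
            have h1 : (1 : R) ∈ p := by
              rw [hm, Submodule.mem_colon_singleton, hmt, smul_zero]
              exact zero_mem _
            exact hp.ne_top ((Ideal.eq_top_iff_one p).mpr h1)
          have hsupp := mem_support_of_dep_eq_zero N p h0
          have hmin : p ∈ (Module.annihilator R N).minimalPrimes := by
            refine ⟨⟨hp, ?_⟩, fun J hJ hle => ?_⟩
            · rw [hp0]
              exact le_of_eq (annihilator_eq_bot_of_supportDim_eq N (by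
                apply le_antisymm (Module.supportDim_le_ringKrullDim R N)
                rw [← Module.supportDim_self_eq_ringKrullDim]
                exact Module.supportDim_le_of_injective _ hinj))
            · rw [hp0]
              exact bot_le
          have hdm := (dm_le_zero_iff N p hsupp).mpr hmin
          rw [h0]
          exact le_trans (min_le_right _ _) hdm
        · have h1 : (1 : ℕ∞) ≤ dep p N := Order.one_le_iff_pos.mpr (pos_iff_ne_zero.mpr h0)
          refine le_trans (min_le_left _ _) ?_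
          have : ((1 : ℕ) : WithBot ℕ∞) = (((1 : ℕ∞)) : WithBot ℕ∞) := rfl
          rw [this]
          exact WithBot.coe_le_coe.mpr h1
  · rintro (hbot | ⟨hdim, hS1⟩)
    · haveI : Subsingleton N := (Module.supportDim_eq_bot_iff_subsingleton R N).mp hbot
      exact Subsingleton.elim _ _
    · rw [eq_bot_iff]
      intro n hn
      rw [Submodule.mem_bot]
      by_contra hn0
      obtain ⟨⟨r, hr⟩, hrn⟩ := (Submodule.mem_torsion_iff n).mp hn
      have hr0 : r ≠ 0 := nonZeroDivisors.ne_zero hr
      have hrn' : r • n = 0 := hrn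
      -- `r` is a zero divisor on `N`, hence lies in an associated prime
      have hmem : r ∈ ⋃ p ∈ associatedPrimes R N, (p : Set R) := by
        rw [biUnion_associatedPrimes_eq_zero_divisors]
        exact ⟨n, hn0, hrn'⟩
      obtain ⟨P, hP, hrP⟩ := Set.mem_iUnion₂.mp hmem
      haveI hPp : P.IsPrime := hP.1
      have h0 : dep P N = 0 := (dep_eq_zero_iff N P).mpr hP
      have hsupp := mem_support_of_dep_eq_zero N P h0
      have hS := hS1 P
      change min ((1 : ℕ) : WithBot ℕ∞) (dm P N) ≤ ((dep P N : ℕ∞) : WithBot ℕ∞) at hS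
      rw [h0] at hS
      have hdm : dm P N ≤ 0 := by
        rcases min_le_iff.mp hS with h | h
        · exfalso
          have : ((1 : ℕ) : WithBot ℕ∞) = (((1 : ℕ∞)) : WithBot ℕ∞) := rfl
          rw [this] at h
          have h' : (1 : ℕ∞) ≤ 0 := WithBot.coe_le_coe.mp h
          simp at h'
        · exact h
      have hmin := (dm_le_zero_iff N P hsupp).mp hdm
      rw [annihilator_eq_bot_of_supportDim_eq N hdim] at hmin
      have hP0 : P = ⊥ := by
        have := hmin.2 ⟨Ideal.isPrime_bot, le_rfl⟩ bot_le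
        exact le_antisymm this bot_le
      rw [hP0] at hrP
      exact hr0 hrP

end

-- ===== part TrB =====
section

open AlgebraicGeometry CategoryTheory Limits TensorProduct Topology TopologicalSpace
open Groth.Agent.Lib.Helper28 Groth.Agent.Lib.Helper5 Groth.Agent.Lib.Helper5.GenDepth
open Groth.Agent.Lib.H9ModFibAlg Groth.Agent.Lib.H9RectDepthAlg Groth.Agent.Lib.H9FibNumerics
open Groth.Agent.Lib.H9FibGeomRk Groth.Agent.Lib.H9FibGeomRkConstr
open Groth.Agent.Lib.H9FibSkEquidim Groth.Agent.Lib.H9FibSuppOpen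
open Groth.Agent.Lib.H9FibMinConstr Groth.Agent.Lib.H9FibEquidimConstr

section Alg

variable {A B : Type u} [CommRing A] [CommRing B] [Algebra A B] [Algebra.FiniteType A B]
  (M : Type u) [AddCommGroup M] [Module B M] [Module.Finite B M]

attribute [local instance] Algebra.TensorProduct.rightAlgebra

set_option synthInstance.maxHeartbeats 400000 in
set_option maxHeartbeats 1600000 in
/-- the relative transcendence degree of a fibrewise generization in the support is bounded by
the local dimension of the support of the fibre module. -/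
theorem ftd_le_dltM (q z : Ideal B) [q.IsPrime] [z.IsPrime] (hzq : z ≤ q)
    (hzA : z.under A = q.under A) (hz : fdm A M z ≠ ⊥) :
    ((ftd A z : ℕ) : WithBot ℕ∞) ≤ fdm A M q + ((ftd A q : ℕ) : WithBot ℕ∞) := by
  set p : Ideal A := q.under A with hp
  haveI : p.IsPrime := Ideal.comap_isPrime _ _
  obtain ⟨X', hX'⟩ := exists_fibMap_eq p q rfl
  obtain ⟨Z', hZ'⟩ := exists_fibMap_eq p z hzA
  obtain ⟨hN, -⟩ := fdep_fdm_eq_dep_dm M p X'.asIdeal
  haveI := hN
  obtain ⟨-, n2⟩ := fibMap_numerics M p X'
  obtain ⟨-, m2⟩ := fibMap_numerics M p Z'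
  obtain ⟨-, c2⟩ := fdep_congr (A := A) M hX'
  obtain ⟨-, d2⟩ := fdep_congr (A := A) M hZ'
  have c3 := ftd_congr A _ _ hX'
  have d3 := ftd_congr A _ _ hZ'
  have hle : Z'.asIdeal ≤ X'.asIdeal := by
    have : Z' ≤ X' := by
      rw [← fibMap_le_iff, hZ', hX']
      exact hzq
    exact this
  rw [← d2, m2, dm_ne_bot_iff] at hz
  have hann : Module.annihilator (p.Fiber B) (p.Fiber B ⊗[B] M) ≤ Z'.asIdeal := by
    rw [Module.support_eq_zeroLocus] at hz
    exact (PrimeSpectrum.mem_zeroLocus _ _).mp hz
  -- `ht(X'/Z') ≤ dm X' N`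
  have h1 : dm X'.asIdeal (p.Fiber B ⧸ Z'.asIdeal) ≤ dm X'.asIdeal (p.Fiber B ⊗[B] M) := by
    apply supportDim_localization_le_of_support_subset
    rw [Module.support_eq_zeroLocus, Module.support_eq_zeroLocus, Ideal.annihilator_quotient]
    exact PrimeSpectrum.zeroLocus_anti_mono hann
  rw [dm_quotient_eq_height Z'.asIdeal X'.asIdeal hle] at h1
  have hh := height_quot_add_ftd p.ResidueField Z'.asIdeal X'.asIdeal hle
  have f1 : ftd p.ResidueField Z'.asIdeal = ftd A (fibMap p Z').asIdeal :=
    ftd_fiber_eq p Z'.asIdeal _ rfl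
  have f2 : ftd p.ResidueField X'.asIdeal = ftd A (fibMap p X').asIdeal :=
    ftd_fiber_eq p X'.asIdeal _ rfl
  rw [← c2, ← c3, ← d3, n2, ← f1, ← f2]
  have h5 : (((ftd p.ResidueField Z'.asIdeal : ℕ) : ℕ∞) : WithBot ℕ∞) =
      ((((X'.asIdeal.map (Ideal.Quotient.mk Z'.asIdeal)).height +
        (ftd p.ResidueField X'.asIdeal : ℕ∞) : ℕ∞)) : WithBot ℕ∞) := by rw [hh]
  have h6 : ((ftd p.ResidueField Z'.asIdeal : ℕ) : WithBot ℕ∞) =
      (((ftd p.ResidueField Z'.asIdeal : ℕ) : ℕ∞) : WithBot ℕ∞) := rfl
  rw [h6, h5, WithBot.coe_add]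
  exact add_le_add_left h1 _

/-- the locus where the local dimension of the support of the fibre module is at least `d`. -/
theorem fsg_ge_iff (d : ℕ) (q : PrimeSpectrum B) :
    q ∈ FSG {d' | d ≤ d'} A B M ↔
      ((d : ℕ) : WithBot ℕ∞) ≤ fdm A M q.asIdeal + ((ftd A q.asIdeal : ℕ) : WithBot ℕ∞) := by
  haveI := q.2
  constructor
  · rintro ⟨z, hzq, hzA, h0, hd⟩
    haveI := z.2
    have hz : fdm A M z.asIdeal ≠ ⊥ := by rw [h0]; exact WithBot.coe_ne_bot
    refine le_trans ?_ (ftd_le_dltM M q.asIdeal z.asIdeal hzq hzA hz)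
    have hd' : d ≤ ftd A z.asIdeal := hd
    exact_mod_cast hd'
  · intro h
    have hne : fdm A M q.asIdeal ≠ ⊥ := by
      intro hbot
      rw [hbot, WithBot.bot_add] at h
      exact WithBot.coe_ne_bot (le_bot_iff.mp h)
    obtain ⟨z₀, hz₀p, hz₀q, hz₀A, hz₀0, hz₀⟩ := alg_exists_min (A := A) M q.asIdeal hne
    refine ⟨⟨z₀, hz₀p⟩, hz₀q, hz₀A, hz₀0, ?_⟩
    change d ≤ ftd A z₀
    rw [← hz₀] at h
    exact_mod_cast h

/-- the locus where the support of the fibre module has the dimension of the fibre. -/
def TT (A B M : Type u) [CommRing A] [CommRing B] [Algebra A B] [AddCommGroup M] [Module B M] :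
    Set (PrimeSpectrum B) :=
  {q | fdm A M q.asIdeal = fdm A B q.asIdeal}

end Alg

set_option maxHeartbeats 1600000 in
theorem isConstructible_TT (A B : Type u) [CommRing A] [CommRing B] [Algebra A B]
    [Algebra.FinitePresentation A B] (M : Type u) [AddCommGroup M] [Module B M]
    [Module.FinitePresentation B M] : IsConstructible (TT A B M) := by
  classical
  obtain ⟨N, hN⟩ := exists_dlt_bound A B
  have hcon : IsConstructible (⋃ d ∈ Finset.range (N + 1),
      ((FSG {d' | d ≤ d'} A B M \ FSG {d' | d + 1 ≤ d'} A B M) ∩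
        (FSG {d' | d ≤ d'} A B B \ FSG {d' | d + 1 ≤ d'} A B B))) := by
    apply IsConstructible.biUnion (Finset.finite_toSet _)
    intro d _
    exact ((isConstructible_fsg _ A B M).sdiff (isConstructible_fsg _ A B M)).inter
      ((isConstructible_fsg _ A B B).sdiff (isConstructible_fsg _ A B B))
  convert hcon using 1
  ext q
  haveI := q.2
  simp only [Set.mem_iUnion, Set.mem_inter_iff, Set.mem_diff, Finset.mem_range, exists_prop]
  have key : ∀ (M' : Type u) [AddCommGroup M'] [Module B M'] [Module.Finite B M'] (d : ℕ),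
      (q ∈ FSG {d' | d ≤ d'} A B M' ∧ q ∉ FSG {d' | d + 1 ≤ d'} A B M') ↔
        fdm A M' q.asIdeal + ((ftd A q.asIdeal : ℕ) : WithBot ℕ∞) = ((d : ℕ) : WithBot ℕ∞) := by
    intro M' _ _ _ d
    rw [fsg_ge_iff M' d q, fsg_ge_iff M' (d + 1) q]
    constructor
    · rintro ⟨h1, h2⟩
      apply le_antisymm _ h1
      rw [not_le] at h2
      generalize fdm A M' q.asIdeal + ((ftd A q.asIdeal : ℕ) : WithBot ℕ∞) = a at h1 h2 ⊢
      induction a using WithBot.recBotCoe with
      | bot => exact bot_le
      | coe a =>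
        have h2' : a < ((d + 1 : ℕ) : ℕ∞) := by exact_mod_cast h2
        have h3 : a ≤ (d : ℕ∞) := by
          have : ((d + 1 : ℕ) : ℕ∞) = (d : ℕ∞) + 1 := by push_cast; rfl
          rw [this] at h2'
          exact (ENat.lt_add_one_iff (ENat.coe_ne_top d)).mp h2'
        exact_mod_cast h3
    · intro h
      rw [h]
      refine ⟨le_rfl, ?_⟩
      rw [not_le]
      exact_mod_cast Nat.lt_succ_self d
  constructor
  · intro hq
    have hq' : fdm A M q.asIdeal = fdm A B q.asIdeal := hq
    obtain ⟨z₀, hz₀p, -, -, -, hz₀⟩ :=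
      alg_exists_min (A := A) B q.asIdeal (fdm_self_ne_bot q.asIdeal)
    have hle : ftd A z₀ ≤ N := by
      have := hN q
      rw [← hz₀] at this
      exact_mod_cast this
    refine ⟨ftd A z₀, by omega, (key M _).mpr ?_, (key B _).mpr hz₀.symm⟩
    rw [hq']
    exact hz₀.symm
  · rintro ⟨d, -, h1, h2⟩
    have e1 := (key M d).mp h1
    have e2 := (key B d).mp h2
    change fdm A M q.asIdeal = fdm A B q.asIdeal
    exact (withBot_add_nat_cancel _ _ (ftd A q.asIdeal)).mp (e1.trans e2.symm)

end

-- ===== part TrC =====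
section

open AlgebraicGeometry CategoryTheory Limits IsLocalRing TensorProduct Topology TopologicalSpace
open Groth.Agent.Lib.H9ModFibAlg Groth.Agent.Lib.H9ModFibSch
open Groth.Agent.Lib.Helper4.DimFormula
open Groth.Agent.Lib.H9RectDepthAlg Groth.Agent.Lib.H9RectDepthSch
open Groth.Agent.Lib.H9FibNumerics Groth.Agent.Lib.H9FibNumericsSch
open Groth.Agent.Lib.H9FibGeomRk
open Groth.Agent.Lib.H9FibSuppOpen Groth.Agent.Lib.H9FibSkEquidim
open Groth.Agent.Lib.H9FibMinConstr Groth.Agent.Lib.H9FibAssConstr

variable {X Y : Scheme.{u}} (f : X ⟶ Y)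

/-- the dimension of the local ring of the fibre at a point. -/
noncomputable def dO (x : X) : WithBot ℕ∞ :=
  ringKrullDim ((f.fiber (f.base x)).presheaf.stalk (f.asFiber x))

/-- the points at which the support of the fibre module has the dimension of the fibre. -/
def TTX (F : X.Modules) : Set X := {x | mF f F x = dO f x}

/-- the points of the supports of the fibre modules. -/
def SuppX (F : X.Modules) : Set X := {x | mF f F x ≠ ⊥}

section Chart

variable {U : X.Opens} (hU : IsAffineOpen U) {V : Y.Opens} (hV : IsAffineOpen V)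
  (hUV : U ≤ f ⁻¹ᵁ V)

include hV in
theorem dO_chart (hft : (f.appLE V U hUV).hom.FiniteType) (x : X) (hxU : x ∈ U) :
    letI : Algebra Γ(Y, V) Γ(X, U) := (f.appLE V U hUV).hom.toAlgebra
    dO f x = fdm Γ(Y, V) Γ(X, U) (hU.primeIdealOf ⟨x, hxU⟩).asIdeal := by
  letI aVU : Algebra Γ(Y, V) Γ(X, U) := (f.appLE V U hUV).hom.toAlgebra
  apply le_antisymm
  · exact (dim_stalk_chart f hU hV hUV hft x hxU _).mpr le_rfl
  · exact (dim_stalk_chart f hU hV hUV hft x hxU _).mp le_rfl

include hV in
set_option maxHeartbeats 800000 in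
theorem ttx_chart [LocallyOfFiniteType f] (F : X.Modules) [F.IsQuasicoherent]
    (hft : (f.appLE V U hUV).hom.FiniteType) [Module.Finite Γ(X, U) Γ(F, U)]
    (x : X) (hxU : x ∈ U) :
    letI : Algebra Γ(Y, V) Γ(X, U) := (f.appLE V U hUV).hom.toAlgebra
    x ∈ TTX f F ↔ hU.primeIdealOf ⟨x, hxU⟩ ∈ TT Γ(Y, V) Γ(X, U) Γ(F, U) := by
  letI aVU : Algebra Γ(Y, V) Γ(X, U) := (f.appLE V U hUV).hom.toAlgebra
  obtain ⟨-, n2, -⟩ := fiber_numerics f hU hV hUV F hft x hxU
  change mF f F x = dO f x ↔ _
  rw [n2, dO_chart f hU hV hUV hft x hxU]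
  rfl

include hV in
set_option maxHeartbeats 800000 in
theorem suppX_chart [LocallyOfFiniteType f] (F : X.Modules) [F.IsQuasicoherent]
    (hft : (f.appLE V U hUV).hom.FiniteType) [Module.Finite Γ(X, U) Γ(F, U)]
    (x : X) (hxU : x ∈ U) :
    letI : Algebra Γ(Y, V) Γ(X, U) := (f.appLE V U hUV).hom.toAlgebra
    x ∈ SuppX f F ↔
      hU.primeIdealOf ⟨x, hxU⟩ ∈ FSG {d' | 0 ≤ d'} Γ(Y, V) Γ(X, U) Γ(F, U) := by
  letI aVU : Algebra Γ(Y, V) Γ(X, U) := (f.appLE V U hUV).hom.toAlgebra
  haveI : Algebra.FiniteType Γ(Y, V) Γ(X, U) := hft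
  obtain ⟨-, n2, -⟩ := fiber_numerics f hU hV hUV F hft x hxU
  change mF f F x ≠ ⊥ ↔ _
  rw [n2, fsg_ge_iff Γ(F, U) 0 (hU.primeIdealOf ⟨x, hxU⟩)]
  constructor
  · intro hne
    obtain ⟨a, ha⟩ := WithBot.ne_bot_iff_exists.mp hne
    rw [← ha]
    have : (((0 : ℕ) : ℕ∞) : WithBot ℕ∞) ≤
        ((a + ((ftd Γ(Y, V) (hU.primeIdealOf ⟨x, hxU⟩).asIdeal : ℕ) : ℕ∞) : ℕ∞) : WithBot ℕ∞) :=
      WithBot.coe_le_coe.mpr (zero_le)
    exact this
  · intro h hbot
    rw [hbot, WithBot.bot_add] at h
    exact WithBot.coe_ne_bot (le_bot_iff.mp h)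

end Chart

set_option synthInstance.maxHeartbeats 400000 in
set_option maxHeartbeats 1600000 in
theorem isLocallyConstructible_ttx_suppX [LocallyOfFinitePresentation f] (F : X.Modules)
    (hF : CohB1.IsFP F) :
    IsLocallyConstructible (TTX f F) ∧ IsLocallyConstructible (SuppX f F) := by
  haveI : F.IsQuasicoherent := Groth.Agent.Helper18Strict.isQCoh_of_isFP F hF
  have key : ∀ x : X, ∃ U : X.Opens, x ∈ U ∧
      IsConstructible ((Subtype.val : ↥U → X) ⁻¹' TTX f F) ∧
      IsConstructible ((Subtype.val : ↥U → X) ⁻¹' SuppX f F) := by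
    intro x
    obtain ⟨U, hU, V, hV, hUV, hxU, hfp, hfpM⟩ := exists_chart f F hF x
    letI aVU : Algebra Γ(Y, V) Γ(X, U) := (f.appLE V U hUV).hom.toAlgebra
    haveI : Algebra.FinitePresentation Γ(Y, V) Γ(X, U) := hfp
    haveI := hfpM
    have hft : (f.appLE V U hUV).hom.FiniteType := RingHom.FiniteType.of_finitePresentation hfp
    have hW1 := isConstructible_TT Γ(Y, V) Γ(X, U) Γ(F, U)
    have hW2 := isConstructible_fsg {d' | 0 ≤ d'} Γ(Y, V) Γ(X, U) Γ(F, U)
    refine ⟨U, hxU, ?_, ?_⟩
    · have hpre := hU.isoSpec.hom.isConstructible_preimage hW1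
      have heq : (Subtype.val : ↥U → X) ⁻¹' TTX f F =
          (fun y : U => hU.primeIdealOf y) ⁻¹' TT Γ(Y, V) Γ(X, U) Γ(F, U) := by
        ext ⟨x', hx'⟩
        exact ttx_chart f hU hV hUV F hft x' hx'
      rw [heq]
      exact hpre
    · have hpre := hU.isoSpec.hom.isConstructible_preimage hW2
      have heq : (Subtype.val : ↥U → X) ⁻¹' SuppX f F =
          (fun y : U => hU.primeIdealOf y) ⁻¹'
            FSG {d' | 0 ≤ d'} Γ(Y, V) Γ(X, U) Γ(F, U) := by
        ext ⟨x', hx'⟩
        exact suppX_chart f hU hV hUV F hft x' hx'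
      rw [heq]
      exact hpre
  refine ⟨fun x => ?_, fun x => ?_⟩
  · obtain ⟨U, hxU, h1, -⟩ := key x
    exact ⟨U, U.isOpen.mem_nhds hxU, U.isOpen, h1⟩
  · obtain ⟨U, hxU, -, h2⟩ := key x
    exact ⟨U, U.isOpen.mem_nhds hxU, U.isOpen, h2⟩

set_option synthInstance.maxHeartbeats 400000 in
set_option maxHeartbeats 1600000 in
/-- **S4831**: the fibre modules which are torsion modules form a locally constructible subset of
the base (fibres locally integral). -/
theorem isLocallyConstructible_fibre_torsion [LocallyOfFinitePresentation f] [QuasiCompact f]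
    (F : X.Modules) (hF : CohB1.IsFP F)
    (hint : ∀ (s : Y) (x : ↥(f.fiber s)), IsDomain ((f.fiber s).presheaf.stalk x)) :
    IsLocallyConstructible {s : Y | ∀ x : ↥(f.fiber s),
      Submodule.torsion ((f.fiber s).presheaf.stalk x)
        (((Scheme.Modules.pullback (f.fiberι s)).obj F).presheaf.stalk x) = ⊤} := by
  have h := Groth.Agent.Lib.Helper5.isLocallyConstructible_compl
    (f.isLocallyConstructible_image (isLocallyConstructible_ttx_suppX f F hF).1)
  convert h using 1
  ext s
  rw [Set.mem_ofPred_eq, Set.mem_compl_iff,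
    forall_fiber_iff f (fun y z => Submodule.torsion ((f.fiber y).presheaf.stalk z)
      (((Scheme.Modules.pullback (f.fiberι y)).obj F).presheaf.stalk z) = ⊤) s]
  have hx : ∀ x : X, Submodule.torsion ((f.fiber (f.base x)).presheaf.stalk (f.asFiber x))
      (((Scheme.Modules.pullback (f.fiberι (f.base x))).obj F).presheaf.stalk (f.asFiber x)) = ⊤ ↔
      x ∉ TTX f F := by
    intro x
    obtain ⟨h1, h2⟩ := fiber_stalk_fin f F hF x
    haveI := h1
    haveI := h2
    haveI := hint (f.base x) (f.asFiber x)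
    exact torsion_eq_top_iff _
  constructor
  · rintro h ⟨x, hxT, rfl⟩
    exact (hx x).mp (h x rfl) hxT
  · intro h x hfx
    rw [hx x]
    exact fun hxT => h ⟨x, hxT, hfx⟩

set_option synthInstance.maxHeartbeats 400000 in
set_option maxHeartbeats 1600000 in
/-- **S4832**: the fibre modules which are torsion-free form a locally constructible subset of
the base (fibres locally integral). -/
theorem isLocallyConstructible_fibre_torsionFree [LocallyOfFinitePresentation f] [QuasiCompact f]
    (F : X.Modules) (hF : CohB1.IsFP F)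
    (hint : ∀ (s : Y) (x : ↥(f.fiber s)), IsDomain ((f.fiber s).presheaf.stalk x)) :
    IsLocallyConstructible {s : Y | ∀ x : ↥(f.fiber s),
      Submodule.torsion ((f.fiber s).presheaf.stalk x)
        (((Scheme.Modules.pullback (f.fiberι s)).obj F).presheaf.stalk x) = ⊥} := by
  obtain ⟨hT, hS⟩ := isLocallyConstructible_ttx_suppX f F hF
  have hB := isLocallyConstructible_badXc f F hF True (sDown_SSk 1) (sFin_SSk 1)
  have hW : IsLocallyConstructible
      (SuppX f F ∩ ((TTX f F)ᶜ ∪ BadXc f F True (SSk 1))) :=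
    hS.inter ((Groth.Agent.Lib.Helper5.isLocallyConstructible_compl hT).union hB)
  have h := Groth.Agent.Lib.Helper5.isLocallyConstructible_compl
    (f.isLocallyConstructible_image hW)
  convert h using 1
  ext s
  rw [Set.mem_ofPred_eq, Set.mem_compl_iff,
    forall_fiber_iff f (fun y z => Submodule.torsion ((f.fiber y).presheaf.stalk z)
      (((Scheme.Modules.pullback (f.fiberι y)).obj F).presheaf.stalk z) = ⊥) s]
  have hx : ∀ x : X, Submodule.torsion ((f.fiber (f.base x)).presheaf.stalk (f.asFiber x))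
      (((Scheme.Modules.pullback (f.fiberι (f.base x))).obj F).presheaf.stalk (f.asFiber x)) = ⊥ ↔
      x ∉ SuppX f F ∩ ((TTX f F)ᶜ ∪ BadXc f F True (SSk 1)) := by
    intro x
    obtain ⟨h1, h2⟩ := fiber_stalk_fin f F hF x
    haveI := h1
    haveI := h2
    haveI := hint (f.base x) (f.asFiber x)
    rw [torsion_eq_bot_iff, hasSk_fiber_iff_good f F hF 1 x]
    change (mF f F x = ⊥ ∨ (mF f F x = dO f x ∧ _)) ↔ _
    constructor
    · rintro (hbot | ⟨hdim, hsk⟩) ⟨hsupp, hcase⟩
      · exact hsupp hbot
      · rcases hcase with hT' | ⟨x', hfx', hsp, hc, hS'⟩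
        · exact hT' hdim
        · exact hsk x' hfx' hsp ⟨hc, hS'⟩
    · intro hnot
      by_cases hbot : mF f F x = ⊥
      · left
        exact hbot
      · right
        refine ⟨?_, fun x' hfx' hsp hbad => ?_⟩
        · by_contra hne
          exact hnot ⟨hbot, Or.inl hne⟩
        · exact hnot ⟨hbot, Or.inr ⟨x', hfx', hsp, hbad.1, hbad.2⟩⟩
  constructor
  · rintro h ⟨x, hxW, rfl⟩
    exact (hx x).mp (h x rfl) hxW
  · intro h x hfx
    rw [hx x]
    exact fun hxW => h ⟨x, hxW, hfx⟩

end

end Groth.Agent.Lib.H9FibTorsion
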