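/-
Helper library (helper9): a fibration between integral proper schemes over a field of the same
dimension is birational (S14822, forward direction).
-/
import Groth.Agent.Lib.H9FibrBirB

set_option autoImplicit false
set_option linter.style.haveILetI false
universe u

open AlgebraicGeometry CategoryTheory CategoryTheory.Limits

namespace Groth.Agent.Lib.H9FibrBirC

open Groth.Agent.Lib.Helper4.DimFormula

variable {X Y : Scheme.{u}} [IsIntegral X] [IsIntegral Y]

/-- for `X`, `Y` integral proper over a field of the same dimension and `f : X ⟶ Y` dominant, the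
fibre over the generic point of `Y` is the generic point of `X`. -/
theorem eq_genericPoint_of_dim_eq (k : Type u) [Field k] (qX : X ⟶ Spec (CommRingCat.of k))
    (qY : Y ⟶ Spec (CommRingCat.of k)) [LocallyOfFiniteType qX] [LocallyOfFiniteType qY]
    (f : X ⟶ Y) (hf : f ≫ qY = qX)
    (hdim : topologicalKrullDim X = topologicalKrullDim Y)
    (h : f.base (genericPoint X) ⤳ genericPoint Y) (x : X) (hx : f.base x = genericPoint Y) :
    x = genericPoint X := by
  haveI : LocallyOfFiniteType (f ≫ qY) := hf ▸ inferInstance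
  haveI : LocallyOfFiniteType f := locallyOfFiniteType_of_comp f qY
  haveI : IsLocallyNoetherian Y := LocallyOfFiniteType.isLocallyNoetherian qY
  have hgen : f.base (genericPoint X) = genericPoint Y :=
    (h.antisymm (genericPoint_specializes _)).eq
  have hX := Groth.Agent.S7798.dim_eq_ptTrdeg_genericPoint k (f ≫ qY)
  have hY := Groth.Agent.S7798.dim_eq_ptTrdeg_genericPoint k qY
  rw [ptTrdeg_comp f qY, hgen] at hX
  rw [hX, hY] at hdim
  have h0 : ptTrdeg qY (genericPoint Y) + ptTrdeg f (genericPoint X) =
      ptTrdeg qY (genericPoint Y) := by exact_mod_cast hdim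
  have h1 : ptTrdeg f (genericPoint X) = 0 := by omega
  have hle := Groth.Agent.Lib.H5bDimIneq.stalkDim_add_ptTrdeg_le f x 0 (by
    intro ξ' _ hξ'
    have : ξ' = genericPoint X :=
      ((Groth.Agent.Lib.H5bFieldSp.stalk_dim_zero_iff ξ').mp hξ' _
        (genericPoint_specializes ξ')).symm
    rw [this, h1]
    rfl)
  rw [hx, ringKrullDim_stalk_genericPoint Y, add_zero] at hle
  have hd0 : ringKrullDim (X.presheaf.stalk x) = 0 := by
    apply le_antisymm
    · refine le_trans ?_ hle
      exact le_add_of_nonneg_right (Nat.cast_nonneg _)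
    · exact ringKrullDim_nonneg_of_nontrivial
  exact ((Groth.Agent.Lib.H5bFieldSp.stalk_dim_zero_iff x).mp hd0 _
    (genericPoint_specializes x)).symm

/-- a fibration between integral proper `k`-schemes of the same dimension is birational. -/
theorem surjective_of_dim_eq (k : Type u) [Field k] (qX : X ⟶ Spec (CommRingCat.of k))
    (qY : Y ⟶ Spec (CommRingCat.of k)) [IsProper qX] [IsProper qY]
    (f : X ⟶ Y) (hf : f ≫ qY = qX)
    (hdim : topologicalKrullDim X = topologicalKrullDim Y)
    (h : f.base (genericPoint X) ⤳ genericPoint Y)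
    (hiso : ∀ U : Y.Opens, IsIso (f.app U)) :
    Function.Surjective (CohIII.stalkToFunctionField f (genericPoint Y) h) := by
  haveI : IsProper (f ≫ qY) := hf ▸ inferInstance
  haveI : IsProper f := IsProper.of_comp f qY
  have hfib := eq_genericPoint_of_dim_eq k qX qY f hf hdim h
  intro t
  obtain ⟨W', hξW', s, hs⟩ := TopCat.Presheaf.exists_germ_eq X.presheaf t
  let T : Set X := (W' : Set X)ᶜ
  have hT : IsClosed T := W'.isOpen.isClosed_compl
  have hfT : IsClosed (f.base '' T) := f.isClosedMap _ hT
  let V : Y.Opens := ⟨(f.base '' T)ᶜ, hfT.isOpen_compl⟩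
  have hηV : genericPoint Y ∈ V := by
    rintro ⟨x, hxT, hx⟩
    exact hxT ((hfib x hx) ▸ hξW')
  have hVW : f ⁻¹ᵁ V ≤ W' := by
    intro x hx
    by_contra hxW
    exact hx ⟨x, hxW, rfl⟩
  haveI := hiso V
  obtain ⟨b, hb⟩ := ((ConcreteCategory.isIso_iff_bijective (f.app V)).mp inferInstance).2
    ((X.presheaf.map (homOfLE hVW).op).hom s)
  refine ⟨(Y.presheaf.germ V (genericPoint Y) hηV).hom b, ?_⟩
  have h2 := Groth.Agent.Lib.H9AlgClA.germ_app f h (genericPoint Y) V hηV b
  refine h2.symm.trans ?_
  rw [show (f.app V).hom b = (X.presheaf.map (homOfLE hVW).op).hom s from hb]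
  rw [TopCat.Presheaf.germ_res_apply]
  exact hs

end Groth.Agent.Lib.H9FibrBirC
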