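import Mathlib
import Groth.Agent.S0385

set_option autoImplicit false
universe u
open CategoryTheory CategoryTheory.Limits AlgebraicGeometry TopologicalSpace Opposite

namespace Groth.Agent.Lib.H9FinExt

theorem quasiCompact_ι {X : Scheme.{u}} [QuasiSeparatedSpace X] (V : X.Opens)
    (hV : IsCompact (V : Set X)) : QuasiCompact V.ι := by
  rw [quasiCompact_iff]
  intro W hWo hWc
  rw [V.ι.isOpenEmbedding.isInducing.isCompact_iff, Set.image_preimage_eq_inter_range,
    Scheme.Opens.range_ι]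
  exact QuasiSeparatedSpace.inter_isCompact _ _ hWo hWc V.2 hV

/-- a dominant open immersion `j' : V ⟶ T'` such that `V` is finite over the open `U` of `S` and
`T'` is separated over `S` has image the whole preimage of `U`. -/
theorem mem_range_of_mem {S V T' : Scheme.{u}} (U : S.Opens) (v : V ⟶ U.toScheme) [IsFinite v]
    (j' : V ⟶ T') [IsOpenImmersion j'] [IsDominant j'] (π' : T' ⟶ S) [IsSeparated π']
    (hfac : j' ≫ π' = v ≫ U.ι) (t : T') (ht : π' t ∈ U) : t ∈ Set.range j' := by
  -- the morphism `V ⟶ π' ⁻¹ U`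
  have hr : Set.range j' ⊆ Set.range (π' ⁻¹ᵁ U).ι := by
    rintro _ ⟨x, rfl⟩
    rw [Scheme.Opens.range_ι]
    change (j' ≫ π') x ∈ U
    rw [hfac]
    exact (v x).2
  obtain ⟨j'', hj''⟩ : ∃ j'' : V ⟶ (π' ⁻¹ᵁ U).toScheme, j'' ≫ (π' ⁻¹ᵁ U).ι = j' :=
    ⟨_, IsOpenImmersion.lift_fac (π' ⁻¹ᵁ U).ι j' hr⟩
  have hcomp : j'' ≫ (π' ∣_ U) = v := by
    rw [← cancel_mono U.ι, Category.assoc, morphismRestrict_ι, reassoc_of% hj'', hfac]
  haveI : IsProper (j'' ≫ (π' ∣_ U)) := by rw [hcomp]; infer_instance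
  haveI : IsProper j'' := IsProper.of_comp j'' (π' ∣_ U)
  have hclosed : IsClosed (Set.range j'') := j''.isClosedMap.isClosed_range
  -- density
  have hdense : Dense (Set.range j'') := by
    have hd : Dense (Set.range j') := j'.denseRange
    rw [dense_iff_inter_open]
    intro O hO ⟨o, ho⟩
    have hO' : IsOpen ((π' ⁻¹ᵁ U).ι '' O) := (π' ⁻¹ᵁ U).ι.isOpenEmbedding.isOpenMap O hO
    obtain ⟨_, ⟨o', ho', rfl⟩, ⟨x, hx⟩⟩ := hd.inter_open_nonempty _ hO' ⟨_, o, ho, rfl⟩
    refine ⟨o', ho', x, ?_⟩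
    apply (π' ⁻¹ᵁ U).ι.injective
    rw [← hx, ← hj'']
    rfl
  have huniv : Set.range j'' = Set.univ := by
    rw [← hclosed.closure_eq]
    exact hdense.closure_eq
  obtain ⟨x, hx⟩ : (⟨t, ht⟩ : (π' ⁻¹ᵁ U).toScheme) ∈ Set.range j'' := by
    rw [huniv]; trivial
  refine ⟨x, ?_⟩
  rw [← hj'']
  change (π' ⁻¹ᵁ U).ι (j'' x) = t
  rw [hx]
  rfl

theorem main {S V : Scheme.{u}} [CompactSpace S] [QuasiSeparatedSpace S] (U : S.Opens)
    (hU : IsCompact (U : Set S)) (v : V ⟶ (U : Scheme.{u})) [IsFinite v] [Surjective v] :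
    ∃ (V' : Scheme.{u}) (π : V' ⟶ S) (i : V ⟶ V'), Surjective π ∧ IsFinite π ∧
      IsPullback i v π U.ι := by
  haveI : QuasiCompact U.ι := quasiCompact_ι U hU
  obtain ⟨T, j, π₀, hj, hjqc, hπ₀, hfac⟩ := Groth.Agent.S0385.result (v ≫ U.ι)
  haveI := hj
  haveI := hjqc
  haveI := hπ₀
  -- the reduced complement
  let Zc : TopologicalSpace.Closeds S := ⟨(U : Set S)ᶜ, U.isOpen.isClosed_compl⟩
  have hZrange : Set.range (Scheme.IdealSheafData.vanishingIdeal Zc).subschemeι = (U : Set S)ᶜ := by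
    rw [Scheme.IdealSheafData.range_subschemeι, Scheme.IdealSheafData.coe_support_vanishingIdeal]
    rfl
  have hfac' : j.toImage ≫ (j.imageι ≫ π₀) = v ≫ U.ι := by
    rw [Scheme.Hom.toImage_imageι_assoc, hfac]
  refine ⟨j.image ⨿ (Scheme.IdealSheafData.vanishingIdeal Zc).subscheme,
    coprod.desc (j.imageι ≫ π₀) (Scheme.IdealSheafData.vanishingIdeal Zc).subschemeι,
    j.toImage ≫ coprod.inl, ?_, inferInstance, ?_⟩
  · -- surjective
    refine ⟨fun s => ?_⟩
    by_cases hs : s ∈ U
    · obtain ⟨x, hx⟩ := ‹Surjective v›.surj ⟨s, hs⟩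
      refine ⟨(coprod.inl : j.image ⟶ j.image ⨿ _) (j.toImage x), ?_⟩
      change ((j.toImage ≫ coprod.inl) ≫ coprod.desc (j.imageι ≫ π₀) _) x = s
      rw [Category.assoc, coprod.inl_desc, hfac']
      change U.ι (v x) = s
      rw [hx]
      rfl
    · have hs' : s ∈ Set.range (Scheme.IdealSheafData.vanishingIdeal Zc).subschemeι := by
        rw [hZrange]; exact hs
      obtain ⟨z, hz⟩ := hs'
      refine ⟨(coprod.inr : _ ⟶ j.image ⨿ _) z, ?_⟩
      change (coprod.inr ≫ coprod.desc (j.imageι ≫ π₀) _) z = s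
      rw [coprod.inr_desc]
      exact hz
  · -- pullback
    refine (IsOpenImmersion.isPullback v (j.toImage ≫ coprod.inl) U.ι _ ?_ ?_).flip
    · rw [Category.assoc, coprod.inl_desc, hfac']
    · ext p
      constructor
      · intro hp
        have hp' : (coprod.desc (j.imageι ≫ π₀)
            (Scheme.IdealSheafData.vanishingIdeal Zc).subschemeι) p ∈ U := by
          have := hp
          rw [Scheme.Opens.opensRange_ι] at this
          exact this
        have hcompl := isCompl_range_inl_inr j.image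
          (Scheme.IdealSheafData.vanishingIdeal Zc).subscheme
        have hmem : p ∈ Set.range (coprod.inl : j.image ⟶ j.image ⨿ _) ⊔
            Set.range (coprod.inr : _ ⟶ j.image ⨿ _) := by
          rw [hcompl.sup_eq_top]; trivial
        rcases hmem with ⟨t, rfl⟩ | ⟨z, rfl⟩
        · have ht : (j.imageι ≫ π₀) t ∈ U := by
            have h1 : (coprod.inl ≫ coprod.desc (j.imageι ≫ π₀)
                (Scheme.IdealSheafData.vanishingIdeal Zc).subschemeι) t ∈ U := hp'
            rwa [coprod.inl_desc] at h1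
          obtain ⟨x, hx⟩ := mem_range_of_mem U v j.toImage (j.imageι ≫ π₀) hfac' t ht
          refine ⟨x, ?_⟩
          change (coprod.inl : j.image ⟶ j.image ⨿ _) (j.toImage x) = _
          rw [hx]
        · exfalso
          have h1 : (coprod.inr ≫ coprod.desc (j.imageι ≫ π₀)
              (Scheme.IdealSheafData.vanishingIdeal Zc).subschemeι) z ∈ U := hp'
          rw [coprod.inr_desc] at h1
          have h2 : (Scheme.IdealSheafData.vanishingIdeal Zc).subschemeι z ∈ (U : Set S)ᶜ := by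
            rw [← hZrange]; exact ⟨z, rfl⟩
          exact h2 h1
      · rintro ⟨x, rfl⟩
        change (coprod.desc (j.imageι ≫ π₀)
          (Scheme.IdealSheafData.vanishingIdeal Zc).subschemeι) _ ∈ U.ι.opensRange
        rw [Scheme.Opens.opensRange_ι]
        have h1 : ((j.toImage ≫ coprod.inl) ≫ coprod.desc (j.imageι ≫ π₀)
            (Scheme.IdealSheafData.vanishingIdeal Zc).subschemeι) x ∈ U := by
          rw [Category.assoc, coprod.inl_desc, hfac']
          exact (v x).2
        exact h1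


end Groth.Agent.Lib.H9FinExt
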