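/-
helper9: a morphism over `S` from an étale `S`-scheme to a finite normal `S`-scheme (`S` normal,
locally Noetherian) is étale; consequently it lands in the smooth locus of the finite morphism.
-/
import Mathlib
import Groth.Prelude.Def_Pi1
import Groth.Agent.Lib.H9AlignedEt
import Groth.Agent.Lib.Helper4EtNormalSch
import Groth.Agent.Lib.Helper12EtSrc
import Groth.Agent.Lib.R2LeadWENormal

set_option autoImplicit false
set_option linter.style.haveILetI false
universe u

open CategoryTheory CategoryTheory.Limits AlgebraicGeometry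

namespace Groth.Agent.Lib.H9FinNormEt

/-- Two points of a discrete subset, one specializing to the other, are equal. -/
theorem eq_of_specializes_of_isDiscrete {X : Type*} [TopologicalSpace X] {F : Set X}
    (hF : IsDiscrete F) {a b : X} (ha : a ∈ F) (hb : b ∈ F) (h : a ⤳ b) : a = b := by
  obtain ⟨U, hU, hUF⟩ := isDiscrete_iff_forall_mem_exists_isOpen.mp hF b hb
  have hbU : b ∈ U := by
    have : b ∈ U ∩ F := by rw [hUF]; rfl
    exact this.1
  have haU : a ∈ U := h.mem_open hU hbU
  have : a ∈ U ∩ F := ⟨haU, ha⟩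
  rw [hUF] at this
  exact this

/-- The image of a section of a locally quasi-finite morphism is open as soon as it is closed,
when the source is locally Noetherian with integral local rings. -/
theorem isOpen_range_section {X Y : Scheme.{u}} [IsLocallyNoetherian X]
    (hX : ∀ x : X, IsDomain (X.presheaf.stalk x)) (p : X ⟶ Y) [LocallyQuasiFinite p]
    (s : Y ⟶ X) (hs : s ≫ p = 𝟙 Y) (hcl : IsClosed (Set.range s)) : IsOpen (Set.range s) := by
  have hps : ∀ y : Y, p (s y) = y := fun y => by
    rw [← Scheme.Hom.comp_apply, hs]; rfl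
  rw [isOpen_iff_mem_nhds]
  rintro _ ⟨y, rfl⟩
  have hC := irreducibleComponent_mem_irreducibleComponents (s y)
  have hCo : IsOpen (irreducibleComponent (s y)) :=
    Groth.Agent.Lib.H9AlignedEt.isOpen_of_mem_irreducibleComponents hX hC
  refine Filter.mem_of_superset (hCo.mem_nhds mem_irreducibleComponent) ?_
  -- generic point of the component
  obtain ⟨ξ, hξ⟩ :=
    Groth.Agent.Lib.Helper14.exists_closure_eq_of_mem_irreducibleComponents hC
  -- a maximal generization of `y`
  have hD := irreducibleComponent_mem_irreducibleComponents y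
  obtain ⟨η, hη⟩ :=
    Groth.Agent.Lib.Helper14.exists_closure_eq_of_mem_irreducibleComponents hD
  have hηy : η ⤳ y := by
    rw [specializes_iff_mem_closure, hη]
    exact mem_irreducibleComponent
  have hηmax : ∀ y' : Y, y' ⤳ η → y' = η := by
    apply (Groth.Agent.Lib.Helper14.closure_mem_irreducibleComponents_iff η).mp
    rw [hη]
    exact hD
  -- `s η` lies in the component of `s y`
  have hsη : s η ∈ irreducibleComponent (s y) := by
    have hC' := irreducibleComponent_mem_irreducibleComponents (s η)
    have h1 : s y ∈ irreducibleComponent (s η) :=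
      (hηy.map s.continuous).mem_closed isClosed_irreducibleComponent mem_irreducibleComponent
    haveI := hX (s y)
    have heq : irreducibleComponent (s η) = irreducibleComponent (s y) :=
      Groth.Agent.Lib.Helper4.EtNormalSch.irreducibleComponents_eq_of_mem (s y) hC' hC h1
        mem_irreducibleComponent
    rw [← heq]
    exact mem_irreducibleComponent
  have hξη : ξ ⤳ s η := by
    rw [specializes_iff_mem_closure, hξ]
    exact hsη
  have hpξ : p ξ = η := by
    apply hηmax
    have := hξη.map p.continuous
    rwa [hps] at this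
  have hξeq : ξ = s η := by
    apply eq_of_specializes_of_isDiscrete (Scheme.Hom.isDiscrete_preimage_singleton p η) _ _ hξη
    · exact hpξ
    · exact hps η
  rw [← hξ]
  apply closure_minimal _ hcl
  rw [Set.singleton_subset_iff, hξeq]
  exact ⟨η, rfl⟩

/-- A section of a separated locally quasi-finite morphism with normal (locally Noetherian, domain
stalks) source is an open immersion. -/
theorem isOpenImmersion_section {X Y : Scheme.{u}} [IsLocallyNoetherian X]
    (hX : ∀ x : X, IsDomain (X.presheaf.stalk x)) (p : X ⟶ Y) [LocallyQuasiFinite p]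
    [IsSeparated p] (s : Y ⟶ X) (hs : s ≫ p = 𝟙 Y) : IsOpenImmersion s := by
  haveI : IsClosedImmersion (s ≫ p) := by rw [hs]; infer_instance
  haveI : IsClosedImmersion s := IsClosedImmersion.of_comp s p
  have hcl : IsClosed (Set.range s) := s.isClosedEmbedding.isClosed_range
  have hop : IsOpen (Set.range s) := isOpen_range_section hX p s hs hcl
  let V : X.Opens := ⟨Set.range s, hop⟩
  have hV : Set.range s ⊆ Set.range V.ι := by
    rw [Scheme.Opens.range_ι]
    exact subset_rfl
  let s' : Y ⟶ (V : Scheme.{u}) := IsOpenImmersion.lift V.ι s hV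
  have hs' : s' ≫ V.ι = s := IsOpenImmersion.lift_fac _ _ _
  haveI : IsClosedImmersion (s' ≫ V.ι) := by rw [hs']; infer_instance
  haveI : IsClosedImmersion s' := IsClosedImmersion.of_comp s' V.ι
  haveI : Surjective s' := by
    constructor
    rintro ⟨x, y, rfl⟩
    refine ⟨y, ?_⟩
    apply V.ι.isOpenEmbedding.injective
    rw [← Scheme.Hom.comp_apply, hs']
    rfl
  haveI : IsReduced X := by
    haveI : ∀ x : X, _root_.IsReduced (X.presheaf.stalk x) := fun x => by
      haveI := hX x
      infer_instance
    exact isReduced_of_isReduced_stalk _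
  haveI : IsIso s' := isIso_of_isClosedImmersion_of_surjective s'
  rw [← hs']
  infer_instance

/-- Key lemma: over a normal locally Noetherian base `S`, an `S`-morphism from an étale `S`-scheme
to a finite `S`-scheme with normal total space is étale. -/
theorem etale_of_finite_normal {S T S' : Scheme.{u}} [IsLocallyNoetherian S]
    (π : T ⟶ S) [IsFinite π] (hT : Pi1.IsNormalScheme T)
    (c : S' ⟶ S) [Etale c] (u : S' ⟶ T) (hu : u ≫ π = c) : Etale u := by
  let p₁ : pullback c π ⟶ S' := pullback.fst c π
  let p₂ : pullback c π ⟶ T := pullback.snd c π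
  have hT' : Pi1.IsNormalScheme (pullback c π) := Groth.Agent.Lib.R2LeadWENormal.main p₂ hT
  haveI : IsLocallyNoetherian S' := LocallyOfFiniteType.isLocallyNoetherian c
  haveI : IsLocallyNoetherian (pullback c π) := LocallyOfFiniteType.isLocallyNoetherian p₁
  let s : S' ⟶ pullback c π := pullback.lift (𝟙 S') u (by rw [Category.id_comp, hu])
  have hs1 : s ≫ p₁ = 𝟙 S' := pullback.lift_fst _ _ _
  have hs2 : s ≫ p₂ = u := pullback.lift_snd _ _ _
  haveI : IsOpenImmersion s := isOpenImmersion_section (fun x => (hT' x).1) p₁ s hs1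
  rw [← hs2]
  infer_instance

/-- Consequence: such a morphism lands in the smooth locus of `π`. -/
theorem range_subset_smoothLocus {S T S' : Scheme.{u}} [IsLocallyNoetherian S]
    (π : T ⟶ S) [IsFinite π] [LocallyOfFinitePresentation π] (hT : Pi1.IsNormalScheme T)
    (c : S' ⟶ S) [Etale c] (u : S' ⟶ T) (hu : u ≫ π = c) :
    Set.range u ⊆ (π.smoothLocus : Set T) := by
  haveI : Etale u := etale_of_finite_normal π hT c u hu
  have hop : IsOpen (Set.range u) := u.isOpenMap.isOpen_range
  let T₁ : T.Opens := ⟨Set.range u, hop⟩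
  have hT₁ : Set.range u ⊆ Set.range T₁.ι := by
    rw [Scheme.Opens.range_ι]
    exact subset_rfl
  let u' : S' ⟶ (T₁ : Scheme.{u}) := IsOpenImmersion.lift T₁.ι u hT₁
  have hu' : u' ≫ T₁.ι = u := IsOpenImmersion.lift_fac _ _ _
  haveI : Etale (u' ≫ T₁.ι) := by rw [hu']; infer_instance
  haveI : Etale u' := Etale.of_comp u' T₁.ι
  haveI : Surjective u' := by
    constructor
    rintro ⟨x, y, rfl⟩
    refine ⟨y, ?_⟩
    apply T₁.ι.isOpenEmbedding.injective
    rw [← Scheme.Hom.comp_apply, hu']
    rfl
  haveI : Etale (u' ≫ T₁.ι ≫ π) := by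
    rw [← Category.assoc, hu', hu]
    infer_instance
  haveI : Etale (T₁.ι ≫ π) := Groth.Agent.Lib.Helper12.EtSrc.etale_of_etale_cover_source u' (T₁.ι ≫ π)
  rintro _ ⟨y, rfl⟩
  have h1 : T₁.ι ⁻¹ᵁ π.smoothLocus = (T₁.ι ≫ π).smoothLocus :=
    Scheme.Hom.preimage_smoothLocus_eq T₁.ι π
  have h2 : (T₁.ι ≫ π).smoothLocus = ⊤ := Scheme.Hom.smoothLocus_eq_top _
  have h3 : (⟨u y, ⟨y, rfl⟩⟩ : T₁) ∈ T₁.ι ⁻¹ᵁ π.smoothLocus := by
    rw [h1, h2]
    trivial
  exact h3

end Groth.Agent.Lib.H9FinNormEt
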