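import Mathlib
import Groth.Prelude

set_option autoImplicit false

/-!
# A geometric quotient has a closed action
-/

universe u

open CategoryTheory CategoryTheory.Limits MonoidalCategory CartesianMonoidalCategory MonObj
  AlgebraicGeometry

namespace Groth.Agent.Lib.Helper8GeomQuotClosed

section ClosedPoint

/-- A section of a morphism to a one-point affine scheme has closed range. -/
theorem isClosed_range_of_section {Z T : Scheme.{u}} [IsAffine T] (t₀ : T) (hT : ∀ t : T, t = t₀)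
    (s : T ⟶ Z) (π : Z ⟶ T) (hs : s ≫ π = 𝟙 T) : IsClosed (Set.range s) := by
  have hrange : Set.range s = {s t₀} := by
    ext z
    constructor
    · rintro ⟨t, rfl⟩
      rw [hT t]
      rfl
    · rintro rfl
      exact ⟨t₀, rfl⟩
  rw [hrange, ← closure_subset_iff_isClosed]
  intro z' hz'
  have hspec : s t₀ ⤳ z' := specializes_iff_mem_closure.mpr hz'
  obtain ⟨U, hU, hz'U, -⟩ :=
    exists_isAffineOpen_mem_and_subset (X := Z) (x := z') (U := ⊤) trivial
  have hzU : s t₀ ∈ U := hspec.mem_open U.isOpen hz'U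
  have hsU : Set.range s ⊆ Set.range U.ι := by
    rw [hrange, Scheme.Opens.range_ι]
    intro z hz
    rw [Set.mem_singleton_iff] at hz
    rw [hz]
    exact hzU
  let sU : T ⟶ U.toScheme := IsOpenImmersion.lift U.ι s hsU
  have hsUι : sU ≫ U.ι = s := IsOpenImmersion.lift_fac _ _ _
  haveI : IsAffine U.toScheme := hU
  have hsurj : Function.Surjective sU.appTop := by
    have h1 : (U.ι ≫ π).appTop ≫ sU.appTop = 𝟙 _ := by
      rw [← Scheme.Hom.comp_appTop, ← Category.assoc, hsUι, hs]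
      rfl
    intro b
    refine ⟨(U.ι ≫ π).appTop b, ?_⟩
    exact congrArg (fun φ => φ.hom b) h1
  haveI : IsClosedImmersion sU := IsClosedImmersion.of_surjective_of_isAffine sU hsurj
  have hcl : IsClosed (Set.range sU) := sU.isClosedEmbedding.isClosed_range
  let z'U : U.toScheme := ⟨z', hz'U⟩
  have hz'ι : U.ι z'U = z' := rfl
  have hsι : U.ι (sU t₀) = s t₀ := by
    rw [← Scheme.Hom.comp_apply, hsUι]
  have hspecU : sU t₀ ⤳ z'U := by
    rw [← U.ι.isOpenEmbedding.isInducing.specializes_iff, hsι, hz'ι]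
    exact hspec
  obtain ⟨t, ht⟩ := hspecU.mem_closed hcl ⟨t₀, rfl⟩
  rw [Set.mem_singleton_iff, ← hz'ι, ← ht, hT t, hsι]

end ClosedPoint

section Closed

variable {S : Scheme.{u}} {G X Y : Over S} [GrpObj G]

theorem psi_comp (a : AlgGrp.Action G X) (φ : X ⟶ Y) (hinv : GIT.IsInvariant a φ) {T : Over S}
    (f : T ⟶ X) : GIT.psi a f ≫ (φ ▷ T) = snd G T ≫ lift (f ≫ φ) (𝟙 T) := by
  have hinv' : a.act ≫ φ = snd G X ≫ φ := hinv
  have h1 : GIT.psi a f ≫ fst X T = (G ◁ f) ≫ a.act := lift_fst _ _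
  have h2 : GIT.psi a f ≫ snd X T = snd G T := lift_snd _ _
  apply CartesianMonoidalCategory.hom_ext
  · rw [Category.assoc, whiskerRight_fst, ← Category.assoc, h1, Category.assoc, hinv',
      ← Category.assoc, whiskerLeft_snd, Category.assoc, Category.assoc, lift_fst]
  · rw [Category.assoc, whiskerRight_snd, h2, Category.assoc, lift_snd, Category.comp_id]

theorem mem_range_psi_aux (a : AlgGrp.Action G X) (φ : X ⟶ Y) (h : GIT.IsGeomQuot a φ)
    {T : Over S} (f : T ⟶ X) {YT : Scheme.{u}} (Φ : (X ⊗ T).left ⟶ YT) (gm : T.left ⟶ YT)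
    (p₁ : YT ⟶ Y.left) (p₂ : YT ⟶ T.left)
    (hΦ₁ : Φ ≫ p₁ = (fst X T).left ≫ φ.left) (hΦ₂ : Φ ≫ p₂ = (snd X T).left)
    (hgm₁ : gm ≫ p₁ = f.left ≫ φ.left) (hgm₂ : gm ≫ p₂ = 𝟙 _)
    (q : ↥(pullback Φ gm)) : pullback.fst Φ gm q ∈ Set.range (GIT.psi a f).left := by
  obtain ⟨jq, hjq⟩ : ∃ jq : Spec ((pullback Φ gm).residueField q) ⟶ pullback Φ gm,
      ∀ s, jq s = q :=
    ⟨(pullback Φ gm).fromSpecResidueField q, fun s => Scheme.fromSpecResidueField_apply q s⟩
  obtain ⟨x', hx'⟩ : ∃ x' : Spec ((pullback Φ gm).residueField q) ⟶ X.left,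
      x' = jq ≫ pullback.fst Φ gm ≫ (fst X T).left := ⟨_, rfl⟩
  obtain ⟨τ', hτ'⟩ : ∃ τ' : Spec ((pullback Φ gm).residueField q) ⟶ T.left,
      τ' = jq ≫ pullback.snd Φ gm := ⟨_, rfl⟩
  have hcond : pullback.fst Φ gm ≫ Φ = pullback.snd Φ gm ≫ gm := pullback.condition
  have h1 : x' ≫ φ.left = (τ' ≫ f.left) ≫ φ.left := by
    calc x' ≫ φ.left = jq ≫ pullback.fst Φ gm ≫ ((fst X T).left ≫ φ.left) := by
          simp only [hx', Category.assoc]
      _ = jq ≫ (pullback.fst Φ gm ≫ Φ) ≫ p₁ := by rw [← hΦ₁, Category.assoc]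
      _ = jq ≫ pullback.snd Φ gm ≫ (gm ≫ p₁) := by rw [hcond, Category.assoc]
      _ = (τ' ≫ f.left) ≫ φ.left := by rw [hgm₁]; simp only [hτ', Category.assoc]
  have h2 : jq ≫ pullback.fst Φ gm ≫ (snd X T).left = τ' := by
    calc jq ≫ pullback.fst Φ gm ≫ (snd X T).left = jq ≫ (pullback.fst Φ gm ≫ Φ) ≫ p₂ := by
          rw [← hΦ₂, Category.assoc]
      _ = jq ≫ pullback.snd Φ gm ≫ (gm ≫ p₂) := by rw [hcond, Category.assoc]
      _ = τ' := by rw [hgm₂, Category.comp_id, hτ']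
  obtain ⟨z', hz'1, hz'2⟩ : ∃ z' : Spec ((pullback Φ gm).residueField q) ⟶
      pullback φ.left φ.left, z' ≫ pullback.fst φ.left φ.left = x' ∧
        z' ≫ pullback.snd φ.left φ.left = τ' ≫ f.left :=
    ⟨pullback.lift x' (τ' ≫ f.left) h1, pullback.lift_fst _ _ _, pullback.lift_snd _ _ _⟩
  have hΨ1 : GIT.PsiY a φ h.inv ≫ pullback.fst φ.left φ.left = a.act.left :=
    pullback.lift_fst _ _ _
  have hΨ2 : GIT.PsiY a φ h.inv ≫ pullback.snd φ.left φ.left = (snd G X).left :=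
    pullback.lift_snd _ _ _
  obtain ⟨pt⟩ : Nonempty ↥(Spec ((pullback Φ gm).residueField q)) := inferInstance
  obtain ⟨w, hw⟩ := h.orbit (z' pt)
  obtain ⟨v, -, -⟩ := Scheme.Pullback.exists_preimage_pullback (f := z')
    (g := GIT.PsiY a φ h.inv) pt w hw.symm
  obtain ⟨gx, r, hr⟩ : ∃ (gx : Spec ((pullback z' (GIT.PsiY a φ h.inv)).residueField v) ⟶
      (G ⊗ X).left) (r : Spec ((pullback z' (GIT.PsiY a φ h.inv)).residueField v) ⟶
      Spec ((pullback Φ gm).residueField q)), r ≫ z' = gx ≫ GIT.PsiY a φ h.inv :=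
    ⟨(pullback z' (GIT.PsiY a φ h.inv)).fromSpecResidueField v ≫
        pullback.snd z' (GIT.PsiY a φ h.inv),
      (pullback z' (GIT.PsiY a φ h.inv)).fromSpecResidueField v ≫
        pullback.fst z' (GIT.PsiY a φ h.inv), by
      simp only [Category.assoc, pullback.condition]⟩
  have hgx1 : gx ≫ a.act.left = r ≫ x' := by
    rw [← hΨ1, ← Category.assoc, ← hr, Category.assoc, hz'1]
  have hgx2 : gx ≫ (snd G X).left = r ≫ τ' ≫ f.left := by
    rw [← hΨ2, ← Category.assoc, ← hr, Category.assoc, hz'2]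
  have hcompat : (gx ≫ (fst G X).left) ≫ G.hom = (r ≫ τ') ≫ T.hom := by
    have e1 : (fst G X).left ≫ G.hom = (snd G X).left ≫ X.hom :=
      (Over.w (fst G X)).trans (Over.w (snd G X)).symm
    have e2 : f.left ≫ X.hom = T.hom := Over.w f
    calc (gx ≫ (fst G X).left) ≫ G.hom = gx ≫ ((fst G X).left ≫ G.hom) := Category.assoc _ _ _
      _ = (gx ≫ (snd G X).left) ≫ X.hom := by rw [e1, Category.assoc]
      _ = (r ≫ τ' ≫ f.left) ≫ X.hom := by rw [hgx2]
      _ = (r ≫ τ') ≫ (f.left ≫ X.hom) := by simp only [Category.assoc]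
      _ = (r ≫ τ') ≫ T.hom := by rw [e2]
  obtain ⟨u, hu1, hu2⟩ : ∃ u : Spec ((pullback z' (GIT.PsiY a φ h.inv)).residueField v) ⟶
      (G ⊗ T).left, u ≫ (fst G T).left = gx ≫ (fst G X).left ∧ u ≫ (snd G T).left = r ≫ τ' :=
    ⟨pullback.lift (gx ≫ (fst G X).left) (r ≫ τ') hcompat, pullback.lift_fst _ _ _,
      pullback.lift_snd _ _ _⟩
  have hwl1 : (G ◁ f).left ≫ (fst G X).left = (fst G T).left := by
    rw [← Over.comp_left, whiskerLeft_fst]
  have hwl2 : (G ◁ f).left ≫ (snd G X).left = (snd G T).left ≫ f.left := by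
    rw [← Over.comp_left, whiskerLeft_snd, Over.comp_left]
  have hugx : u ≫ (G ◁ f).left = gx := by
    apply pullback.hom_ext
    · show (u ≫ (G ◁ f).left) ≫ (fst G X).left = gx ≫ (fst G X).left
      rw [Category.assoc, hwl1, hu1]
    · show (u ≫ (G ◁ f).left) ≫ (snd G X).left = gx ≫ (snd G X).left
      rw [Category.assoc, hwl2, ← Category.assoc, hu2, hgx2, Category.assoc]
  have hψ1 : (GIT.psi a f).left ≫ (fst X T).left = (G ◁ f).left ≫ a.act.left := by
    rw [← Over.comp_left, ← Over.comp_left]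
    exact congrArg CommaMorphism.left (lift_fst _ _)
  have hψ2 : (GIT.psi a f).left ≫ (snd X T).left = (snd G T).left := by
    rw [← Over.comp_left]
    exact congrArg CommaMorphism.left (lift_snd _ _)
  have hmain : u ≫ (GIT.psi a f).left = r ≫ jq ≫ pullback.fst Φ gm := by
    apply pullback.hom_ext
    · show (u ≫ (GIT.psi a f).left) ≫ (fst X T).left =
        (r ≫ jq ≫ pullback.fst Φ gm) ≫ (fst X T).left
      rw [Category.assoc, hψ1, ← Category.assoc, hugx, hgx1]
      simp only [hx', Category.assoc]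
    · show (u ≫ (GIT.psi a f).left) ≫ (snd X T).left =
        (r ≫ jq ≫ pullback.fst Φ gm) ≫ (snd X T).left
      rw [Category.assoc, hψ2, hu2]
      simp only [Category.assoc]
      rw [h2]
  obtain ⟨ptL⟩ : Nonempty ↥(Spec ((pullback z' (GIT.PsiY a φ h.inv)).residueField v)) :=
    inferInstance
  refine ⟨u ptL, ?_⟩
  rw [← Scheme.Hom.comp_apply, hmain, Scheme.Hom.comp_apply, Scheme.Hom.comp_apply, hjq]

/-- S11441: a geometric quotient has closed action. -/
theorem isClosedAction_of_isGeomQuot (a : AlgGrp.Action G X) (φ : X ⟶ Y)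
    (h : GIT.IsGeomQuot a φ) : GIT.IsClosedAction a := by
  intro Ω _ _ T e f
  have hΦ₁ : (φ ▷ T).left ≫ (fst Y T).left = (fst X T).left ≫ φ.left := by
    rw [← Over.comp_left, ← Over.comp_left, whiskerRight_fst]
  have hΦ₂ : (φ ▷ T).left ≫ (snd Y T).left = (snd X T).left := by
    rw [← Over.comp_left, whiskerRight_snd]
  have hgm₁ : (lift (f ≫ φ) (𝟙 T)).left ≫ (fst Y T).left = f.left ≫ φ.left := by
    rw [← Over.comp_left, lift_fst, Over.comp_left]
  have hgm₂ : (lift (f ≫ φ) (𝟙 T)).left ≫ (snd Y T).left = 𝟙 T.left := by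
    rw [← Over.comp_left, lift_snd]
    rfl
  have hrange : Set.range (GIT.psi a f).left.base =
      (φ ▷ T).left ⁻¹' Set.range (lift (f ≫ φ) (𝟙 T)).left := by
    apply Set.Subset.antisymm
    · rintro _ ⟨p, rfl⟩
      refine ⟨(snd G T).left p, ?_⟩
      show ((snd G T).left ≫ (lift (f ≫ φ) (𝟙 T)).left) p = ((GIT.psi a f).left ≫ (φ ▷ T).left) p
      rw [← Over.comp_left, ← Over.comp_left, psi_comp a φ h.inv f]
    · intro p hp
      rw [← Scheme.Pullback.range_fst] at hp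
      obtain ⟨q, rfl⟩ := hp
      exact mem_range_psi_aux a φ h f (φ ▷ T).left (lift (f ≫ φ) (𝟙 T)).left
        (fst Y T).left (snd Y T).left hΦ₁ hΦ₂ hgm₁ hgm₂ q
  rw [hrange]
  apply IsClosed.preimage (φ ▷ T).left.continuous
  haveI : IsAffine T.left := IsAffine.of_isIso e.hom
  obtain ⟨pt⟩ : Nonempty ↥(Spec (CommRingCat.of Ω)) := inferInstance
  have hT : ∀ t : T.left, t = e.inv pt := by
    intro t
    apply (Scheme.homeoOfIso e).injective
    exact Subsingleton.elim (α := PrimeSpectrum Ω) _ _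
  exact isClosed_range_of_section (e.inv pt) hT _ (snd Y T).left hgm₂

end Closed

end Groth.Agent.Lib.Helper8GeomQuotClosed
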