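import Mathlib
import Groth.Prelude
import Groth.Agent.Lib.Helper8GeomQuotClosed

set_option autoImplicit false

/-!
# For a geometric quotient `X ⟶ Y`: `Y` is separated iff the image of `(σ, p₂)` is closed
-/

universe u

open CategoryTheory CategoryTheory.Limits MonoidalCategory CartesianMonoidalCategory MonObj
  AlgebraicGeometry

namespace Groth.Agent.Lib.Helper8GeomQuotSep

open Groth.Agent.Lib.Helper8GeomQuotClosed

section General

/-- range of the first projection of a pullback square of schemes. -/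
theorem range_fst_of_isPullback {P A B C : Scheme.{u}} {p₁ : P ⟶ A} {p₂ : P ⟶ B} {f : A ⟶ C}
    {g : B ⟶ C} (hpb : IsPullback p₁ p₂ f g) : Set.range p₁ = f ⁻¹' Set.range g := by
  apply Set.Subset.antisymm
  · rintro _ ⟨z, rfl⟩
    refine ⟨p₂ z, ?_⟩
    rw [← Scheme.Hom.comp_apply, ← Scheme.Hom.comp_apply, hpb.w]
  · rintro x ⟨y, hy⟩
    obtain ⟨z, hz1, -⟩ := Scheme.Pullback.exists_preimage_pullback (f := f) (g := g) x y hy.symm
    refine ⟨hpb.isoPullback.inv z, ?_⟩
    rw [← Scheme.Hom.comp_apply, hpb.isoPullback_inv_fst]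
    exact hz1

variable {S : Scheme.{u}}

theorem isPullback_whiskerRight {X Y : Over S} (φ : X ⟶ Y) (Z : Over S) :
    IsPullback (φ ▷ Z).left (fst X Z).left (fst Y Z).left φ.left := by
  have hws : (φ ▷ Z).left ≫ (snd Y Z).left = (snd X Z).left := by
    rw [← Over.comp_left, whiskerRight_snd]
  have hwf : (φ ▷ Z).left ≫ (fst Y Z).left = (fst X Z).left ≫ φ.left := by
    rw [← Over.comp_left, ← Over.comp_left, whiskerRight_fst]
  have t : IsPullback (snd Y Z).left (fst Y Z).left Z.hom Y.hom :=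
    (IsPullback.of_hasPullback Y.hom Z.hom).flip
  have s : IsPullback ((φ ▷ Z).left ≫ (snd Y Z).left) (fst X Z).left Z.hom (φ.left ≫ Y.hom) := by
    rw [hws, Over.w φ]
    exact (IsPullback.of_hasPullback X.hom Z.hom).flip
  exact IsPullback.of_right s hwf t

theorem isPullback_whiskerLeft {X Y : Over S} (Z : Over S) (φ : X ⟶ Y) :
    IsPullback (Z ◁ φ).left (snd Z X).left (snd Z Y).left φ.left := by
  have hwf : (Z ◁ φ).left ≫ (fst Z Y).left = (fst Z X).left := by
    rw [← Over.comp_left, whiskerLeft_fst]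
  have hws : (Z ◁ φ).left ≫ (snd Z Y).left = (snd Z X).left ≫ φ.left := by
    rw [← Over.comp_left, ← Over.comp_left, whiskerLeft_snd]
  have t : IsPullback (fst Z Y).left (snd Z Y).left Z.hom Y.hom :=
    IsPullback.of_hasPullback Z.hom Y.hom
  have s : IsPullback ((Z ◁ φ).left ≫ (fst Z Y).left) (snd Z X).left Z.hom (φ.left ≫ Y.hom) := by
    rw [hwf, Over.w φ]
    exact IsPullback.of_hasPullback Z.hom X.hom
  exact IsPullback.of_right s hws t

/-- the graph of `φ` is the base change of the diagonal. -/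
theorem isPullback_graph {X Y : Over S} (φ : X ⟶ Y) :
    IsPullback (lift φ (𝟙 X)).left φ.left (Y ◁ φ).left (lift (𝟙 Y) (𝟙 Y)).left := by
  have h1 : (lift φ (𝟙 X)).left ≫ (snd Y X).left = 𝟙 X.left := by
    rw [← Over.comp_left, lift_snd]
    rfl
  have h2 : (lift (𝟙 Y) (𝟙 Y)).left ≫ (snd Y Y).left = 𝟙 Y.left := by
    rw [← Over.comp_left, lift_snd]
    rfl
  have hp : (lift φ (𝟙 X)).left ≫ (Y ◁ φ).left = φ.left ≫ (lift (𝟙 Y) (𝟙 Y)).left := by
    rw [← Over.comp_left, ← Over.comp_left]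
    congr 1
    apply CartesianMonoidalCategory.hom_ext
    · rw [Category.assoc, whiskerLeft_fst, lift_fst, Category.assoc, lift_fst, Category.comp_id]
    · rw [Category.assoc, whiskerLeft_snd, ← Category.assoc, lift_snd, Category.id_comp,
        Category.assoc, lift_snd, Category.comp_id]
  have s : IsPullback ((lift φ (𝟙 X)).left ≫ (snd Y X).left) φ.left φ.left
      ((lift (𝟙 Y) (𝟙 Y)).left ≫ (snd Y Y).left) := by
    rw [h1, h2]
    exact IsPullback.of_id_fst
  exact IsPullback.of_right s hp (isPullback_whiskerLeft Y φ).flip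

end General

section Sep

variable {S : Scheme.{u}} {G X Y : Over S} [GrpObj G]

theorem range_psi (a : AlgGrp.Action G X) (φ : X ⟶ Y) (h : GIT.IsGeomQuot a φ) {T : Over S}
    (f : T ⟶ X) : Set.range (GIT.psi a f).left.base =
      (φ ▷ T).left ⁻¹' Set.range (lift (f ≫ φ) (𝟙 T)).left := by
  have hΦ₁ : (φ ▷ T).left ≫ (fst Y T).left = (fst X T).left ≫ φ.left := by
    rw [← Over.comp_left, ← Over.comp_left, whiskerRight_fst]
  have hΦ₂ : (φ ▷ T).left ≫ (snd Y T).left = (snd X T).left := by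
    rw [← Over.comp_left, whiskerRight_snd]
  have hγ₁ : (lift (f ≫ φ) (𝟙 T)).left ≫ (fst Y T).left = f.left ≫ φ.left := by
    rw [← Over.comp_left, lift_fst, Over.comp_left]
  have hγ₂ : (lift (f ≫ φ) (𝟙 T)).left ≫ (snd Y T).left = 𝟙 T.left := by
    rw [← Over.comp_left, lift_snd]
    rfl
  apply Set.Subset.antisymm
  · rintro _ ⟨p, rfl⟩
    refine ⟨(snd G T).left p, ?_⟩
    show ((snd G T).left ≫ (lift (f ≫ φ) (𝟙 T)).left) p = ((GIT.psi a f).left ≫ (φ ▷ T).left) p
    rw [← Over.comp_left, ← Over.comp_left, psi_comp a φ h.inv f]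
  · intro p hp
    rw [← Scheme.Pullback.range_fst] at hp
    obtain ⟨q, rfl⟩ := hp
    exact mem_range_psi_aux a φ h f (φ ▷ T).left (lift (f ≫ φ) (𝟙 T)).left
      (fst Y T).left (snd Y T).left hΦ₁ hΦ₂ hγ₁ hγ₂ q

/-- S11428. -/
theorem isSeparated_iff_isClosed_range_psi (a : AlgGrp.Action G X) (φ : X ⟶ Y)
    (h : GIT.IsGeomQuot a φ) :
    IsSeparated Y.hom ↔ IsClosed (Set.range (GIT.psi a (𝟙 X)).left.base) := by
  have hq₁ : Topology.IsQuotientMap (φ ▷ X).left :=
    h.subm _ _ _ (isPullback_whiskerRight φ X)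
  have hq₂ : Topology.IsQuotientMap (Y ◁ φ).left :=
    h.subm _ _ _ (isPullback_whiskerLeft Y φ)
  have hr1 : Set.range (GIT.psi a (𝟙 X)).left.base =
      (φ ▷ X).left ⁻¹' Set.range (lift φ (𝟙 X)).left := by
    have := range_psi a φ h (𝟙 X)
    rwa [Category.id_comp] at this
  have hr2 : Set.range (lift φ (𝟙 X)).left =
      (Y ◁ φ).left ⁻¹' Set.range (lift (𝟙 Y) (𝟙 Y)).left :=
    range_fst_of_isPullback (isPullback_graph φ)
  have hdiag : (lift (𝟙 Y) (𝟙 Y)).left = pullback.diagonal Y.hom := rfl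
  rw [hr1, hq₁.isClosed_preimage, hr2, hq₂.isClosed_preimage, hdiag]
  constructor
  · intro hsep
    exact (pullback.diagonal Y.hom).isClosedEmbedding.isClosed_range
  · intro hcl
    exact ⟨IsClosedImmersion.of_isPreimmersion (pullback.diagonal Y.hom) hcl⟩

end Sep

end Groth.Agent.Lib.Helper8GeomQuotSep
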