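import Groth.Agent.Lib.R2H3MultActGeo
import Groth.Prelude.Def_TwC

/-!
# Rigidity of actions of groups of multiplicative type modulo a nilpotent ideal (helper3, round 2)

Reductions from the general case (an action on points of an `S`-group of multiplicative type on an
`S`-scheme, trivial over a closed subscheme `S₀` defined by a locally nilpotent ideal) to the affine
diagonalisable case `PtAction.trivial_of_affine`.
-/

set_option autoImplicit false
set_option linter.style.haveILetI false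
set_option linter.unusedVariables false
set_option linter.unusedSectionVars false

universe u

open CategoryTheory MonoidalCategory CartesianMonoidalCategory MonObj GrpObj AlgebraicGeometry
  CategoryTheory.Limits
open Groth.Agent.Lib.Helper27.GaGm Groth.Agent.Lib.H6xDSPts

namespace Groth.Agent.Lib.R2H3.MultAct

section General

variable {W : Scheme.{u}} {Gw Xw : Over W} [GrpObj Gw] (P : PtAction Gw Xw)

/-- if the points over a class of "good" `W`-schemes are fixed and every `W`-scheme is covered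
(surjectively) by a good one, the action is trivial on the underlying spaces. -/
theorem PtAction.base_eq (good : Over W → Prop)
    (h0 : ∀ Y : Over W, good Y → ∀ (g : Y ⟶ Gw) (x : Y ⟶ Xw), P.smul g x = x)
    (hgood : ∀ Y : Over W, ∃ (Y₀ : Over W) (k : Y₀ ⟶ Y), good Y₀ ∧ Function.Surjective k.left)
    {Y : Over W} (g : Y ⟶ Gw) (x : Y ⟶ Xw) (y : Y.left) :
    (P.smul g x).left y = x.left y := by
  obtain ⟨Y₀, k, hg, hk⟩ := hgood Y
  obtain ⟨y₀, rfl⟩ := hk y
  have h := P.comp_smul k g x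
  rw [h0 Y₀ hg] at h
  have h2 := congrArg (fun t => t.left y₀) h
  simp only [Over.comp_left, Scheme.Hom.comp_apply] at h2
  exact h2

variable {Uw : Over W} (j : Uw ⟶ Xw) [IsOpenImmersion j.left]
  (hbase : ∀ {Y : Over W} (g : Y ⟶ Gw) (x : Y ⟶ Xw) (y : Y.left),
    (P.smul g x).left y = x.left y)

include hbase in
lemma PtAction.range_subset {Y : Over W} (g : Y ⟶ Gw) (x : Y ⟶ Uw) :
    Set.range (P.smul g (x ≫ j)).left ⊆ Set.range j.left := by
  rintro _ ⟨y, rfl⟩
  rw [hbase, Over.comp_left, Scheme.Hom.comp_apply]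
  exact ⟨_, rfl⟩

/-- the restricted action on an open subscheme. -/
noncomputable def PtAction.restrictSmul {Y : Over W} (g : Y ⟶ Gw) (x : Y ⟶ Uw) : Y ⟶ Uw :=
  Over.homMk (IsOpenImmersion.lift j.left (P.smul g (x ≫ j)).left (P.range_subset j hbase g x)) (by
    have h1 : Uw.hom = j.left ≫ Xw.hom := (Over.w j).symm
    rw [h1, ← Category.assoc, IsOpenImmersion.lift_fac]
    exact Over.w _)

lemma PtAction.restrictSmul_comp {Y : Over W} (g : Y ⟶ Gw) (x : Y ⟶ Uw) :
    P.restrictSmul j hbase g x ≫ j = P.smul g (x ≫ j) := by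
  apply Over.OverMorphism.ext
  rw [Over.comp_left]
  exact IsOpenImmersion.lift_fac _ _ _

include j in
lemma PtAction.mono_of_open {Y : Over W} (a b : Y ⟶ Uw) (h : a ≫ j = b ≫ j) : a = b := by
  apply Over.OverMorphism.ext
  have h2 := congrArg (fun t => t.left) h
  simp only [Over.comp_left] at h2
  exact (cancel_mono j.left).mp h2

/-- the restriction of an action which is trivial on the underlying spaces to an open
subscheme. -/
noncomputable def PtAction.restrict : PtAction Gw Uw where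
  smul g x := P.restrictSmul j hbase g x
  one_smul x := by
    apply PtAction.mono_of_open j
    rw [P.restrictSmul_comp, P.one_smul]
  mul_smul g h x := by
    apply PtAction.mono_of_open j
    rw [P.restrictSmul_comp, P.restrictSmul_comp, P.restrictSmul_comp, P.mul_smul]
  comp_smul k g x := by
    apply PtAction.mono_of_open j
    rw [Category.assoc, P.restrictSmul_comp, P.restrictSmul_comp, P.comp_smul, Category.assoc]

lemma PtAction.restrict_smul_comp {Y : Over W} (g : Y ⟶ Gw) (x : Y ⟶ Uw) :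
    (P.restrict j hbase).smul g x ≫ j = P.smul g (x ≫ j) :=
  P.restrictSmul_comp j hbase g x

/-- restriction of an action along a homomorphism of groups. -/
def PtAction.comap {Gw' : Over W} [GrpObj Gw'] (u : Gw' ⟶ Gw) [IsMonHom u] : PtAction Gw' Xw where
  smul g x := P.smul (g ≫ u) x
  one_smul x := by rw [MonObj.one_comp, P.one_smul]
  mul_smul g h x := by rw [MonObj.mul_comp, P.mul_smul]
  comp_smul k g x := by rw [P.comp_smul, Category.assoc]

end General

section BaseChange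

variable {S W : Scheme.{u}} (w : W ⟶ S)

/-- the adjunction bijection `Hom_W(Y, w^* X) ≃ Hom_S(Y, X)`. -/
noncomputable def adjE (X : Over S) (Y : Over W) :
    (Y ⟶ Red.bc w X) ≃ ((Over.map w).obj Y ⟶ X) :=
  ((Over.mapPullbackAdj w).homEquiv Y X).symm

lemma adjE_comp (X : Over S) {Y Y' : Over W} (k : Y' ⟶ Y) (a : Y ⟶ Red.bc w X) :
    adjE w X Y' (k ≫ a) = (Over.map w).map k ≫ adjE w X Y a :=
  (Over.mapPullbackAdj w).homEquiv_naturality_left_symm k a

lemma adjE_eq_adjEquiv (G : Over S) [GrpObj G] (Y : Over W) (a : Y ⟶ Red.bc w G) :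
    adjE w G Y a = adjEquiv w G Y a := rfl

lemma adjE_mul (G : Over S) [GrpObj G] (Y : Over W) (a b : Y ⟶ Red.bc w G) :
    adjE w G Y (a * b) = adjE w G Y a * adjE w G Y b :=
  adjEquiv_mul w G Y a b

lemma adjE_one (G : Over S) [GrpObj G] (Y : Over W) :
    adjE w G Y (1 : Y ⟶ Red.bc w G) = 1 := by
  have h := adjE_mul w G Y 1 1
  rw [_root_.mul_one] at h
  exact (mul_eq_left (a := adjE w G Y 1) (b := adjE w G Y 1)).mp h.symm

/-- base change of an action on points. -/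
noncomputable def PtAction.bc {G X : Over S} [GrpObj G] (P : PtAction G X) :
    PtAction (Red.bc w G) (Red.bc w X) where
  smul g x := (adjE w X _).symm (P.smul (adjE w G _ g) (adjE w X _ x))
  one_smul x := by rw [adjE_one, P.one_smul, Equiv.symm_apply_apply]
  mul_smul g h x := by rw [adjE_mul, P.mul_smul, Equiv.apply_symm_apply]
  comp_smul k g x := by
    apply (adjE w X _).injective
    rw [adjE_comp, Equiv.apply_symm_apply, Equiv.apply_symm_apply, P.comp_smul, ← adjE_comp,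
      ← adjE_comp]

lemma PtAction.bc_smul {G X : Over S} [GrpObj G] (P : PtAction G X) {Y : Over W}
    (g : Y ⟶ Red.bc w G) (x : Y ⟶ Red.bc w X) :
    adjE w X Y ((P.bc w).smul g x) = P.smul (adjE w G Y g) (adjE w X Y x) :=
  Equiv.apply_symm_apply _ _

end BaseChange

section Nilpotent

variable {S S₀ : Scheme.{u}} (i₀ : S₀ ⟶ S) [IsClosedImmersion i₀]

/-- a closed immersion with locally nilpotent ideal is surjective. -/
theorem surjective_of_locally_nilpotent
    (hnil : ∀ x : S, ∃ U : S.affineOpens, x ∈ (U : S.Opens) ∧ IsNilpotent (i₀.ker.ideal U)) :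
    Function.Surjective i₀ := by
  intro s
  obtain ⟨U, hsU, ⟨n, hn⟩⟩ := hnil s
  have h1 : s ∈ i₀.ker.support := by
    rw [Scheme.IdealSheafData.mem_support_iff_of_mem (U := U) hsU, Scheme.mem_zeroLocus_iff]
    intro f hf hsf
    have hfn : f ^ n = 0 := by
      have := Ideal.pow_mem_pow hf n
      rw [hn] at this
      exact this
    have h2 : S.basicOpen (f ^ n) = ⊥ := by rw [hfn, Scheme.basicOpen_zero]
    by_cases hn0 : n = 0
    · subst hn0
      rw [pow_zero] at hfn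
      have : Subsingleton Γ(S, U.1) := subsingleton_of_zero_eq_one hfn.symm
      have h3 : f = 0 := Subsingleton.elim _ _
      rw [h3, Scheme.basicOpen_zero] at hsf
      exact hsf
    · rw [Scheme.basicOpen_pow S f (Nat.pos_of_ne_zero hn0)] at h2
      rw [h2] at hsf
      exact hsf
  have h1' : s ∈ (i₀.ker.support : Set S) := h1
  rw [Scheme.Hom.support_ker, i₀.isClosedEmbedding.isClosed_range.closure_eq] at h1'
  exact h1'

/-- a morphism to an affine open `V` of `S` killing the ideal of the closed subscheme `S₀` factors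
through `S₀`. -/
theorem exists_lift_closedImmersion (V : S.affineOpens) {T : Scheme.{u}}
    (t : T ⟶ Spec (CommRingCat.of Γ(S, V.1)))
    (ht : ∀ r ∈ i₀.ker.ideal V, fn t r = 0) :
    ∃ p : T ⟶ S₀, p ≫ i₀ = t ≫ V.2.fromSpec := by
  have hV₀ : IsAffineOpen (i₀ ⁻¹ᵁ V.1) := V.2.preimage i₀
  obtain ⟨ψ, hψ⟩ : ∃ ψ : Γ(S, V.1) →+* Γ(S₀, i₀ ⁻¹ᵁ V.1), ψ = (i₀.app V.1).hom := ⟨_, rfl⟩
  have hsurj : Function.Surjective ψ := by
    rw [hψ]
    exact i₀.app_surjective V.1 V.2
  have hker : RingHom.ker ψ ≤ RingHom.ker (fnHom t) := by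
    intro r hr
    rw [RingHom.mem_ker] at hr ⊢
    apply ht
    rw [Scheme.Hom.ker_apply, RingHom.mem_ker, ← hψ]
    exact hr
  obtain ⟨θ, hθ⟩ : ∃ θ : Γ(S₀, i₀ ⁻¹ᵁ V.1) →+* Γ(T, ⊤), ∀ r, θ (ψ r) = fnHom t r :=
    ⟨ψ.liftOfSurjective hsurj ⟨fnHom t, hker⟩,
      fun r => RingHom.liftOfSurjective_comp_apply ψ hsurj ⟨fnHom t, hker⟩ r⟩
  obtain ⟨t', ht'⟩ := fn_surj (Y := T) θ
  refine ⟨t' ≫ hV₀.fromSpec, ?_⟩
  have h1 := IsAffineOpen.SpecMap_appLE_fromSpec i₀ V.2 hV₀ le_rfl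
  rw [Category.assoc, ← h1, ← Category.assoc]
  congr 1
  apply fn_ext
  intro r
  have h2 : i₀.appLE V.1 (i₀ ⁻¹ᵁ V.1) le_rfl = CommRingCat.ofHom ψ := by
    rw [hψ, Scheme.Hom.app_eq_appLE]
    rfl
  rw [h2, fn_specMap, ht', hθ]
  rfl

end Nilpotent

section Local

variable {S S₀ : Scheme.{u}} (i₀ : S₀ ⟶ S) [IsClosedImmersion i₀]
  (hnil : ∀ x : S, ∃ U : S.affineOpens, x ∈ (U : S.Opens) ∧ IsNilpotent (i₀.ker.ideal U))
  {W : Scheme.{u}} (w : W ⟶ S) {M : Type} [AddCommGroup M] {Xw : Over W}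
  (Pw : PtAction (Red.DS W M) Xw)
  (h0w : ∀ (Y : Over W), (∃ p : Y.left ⟶ S₀, p ≫ i₀ = Y.hom ≫ w) →
    ∀ (g : Y ⟶ Red.DS W M) (x : Y ⟶ Xw), Pw.smul g x = x)

include hnil h0w in
/-- **Rigidity, diagonalisable case**: an action of `D_W(M)` on a `W`-scheme which is trivial over
the closed subscheme defined by a locally nilpotent ideal is trivial. -/
theorem PtAction.trivial_of_diag (Y : Over W) (g : Y ⟶ Red.DS W M) (x : Y ⟶ Xw) :
    Pw.smul g x = x := by
  have hsurj := surjective_of_locally_nilpotent i₀ hnil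
  haveI : Surjective i₀ := ⟨hsurj⟩
  have hgood : ∀ Y : Over W, ∃ (Y₀ : Over W) (k : Y₀ ⟶ Y),
      (∃ p : Y₀.left ⟶ S₀, p ≫ i₀ = Y₀.hom ≫ w) ∧ Function.Surjective k.left := by
    intro Y
    refine ⟨Over.mk (pullback.fst (Y.hom ≫ w) i₀ ≫ Y.hom),
      Over.homMk (pullback.fst (Y.hom ≫ w) i₀) rfl, ⟨pullback.snd _ _, ?_⟩, ?_⟩
    · simp only [Over.mk_left, Over.mk_hom, Category.assoc]
      exact pullback.condition.symm
    · exact (inferInstance : Surjective (pullback.fst (Y.hom ≫ w) i₀)).surj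
  have hbase : ∀ {Y : Over W} (g : Y ⟶ Red.DS W M) (x : Y ⟶ Xw) (y : Y.left),
      (Pw.smul g x).left y = x.left y := fun g x y => Pw.base_eq _ h0w hgood g x y
  apply Over.OverMorphism.ext
  apply Scheme.hom_ext_of_forall
  intro y
  -- an affine chart of `Xw` around the image of `y`, lying over an affine open of `S`
  obtain ⟨V, hsV, hJ⟩ := hnil ((Xw.hom ≫ w) (x.left y))
  obtain ⟨U, hU, hpU, hUV⟩ : ∃ U : Xw.left.Opens, IsAffineOpen U ∧ x.left y ∈ U ∧
      U ≤ (Xw.hom ≫ w) ⁻¹ᵁ V.1 := by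
    obtain ⟨U, hU, h1, h2⟩ := TopologicalSpace.Opens.isBasis_iff_nbhd.mp
      (Xw.left.isBasis_affineOpens) (U := (Xw.hom ≫ w) ⁻¹ᵁ V.1) (x := x.left y) hsV
    exact ⟨U, hU, h1, h2⟩
  refine ⟨x.left ⁻¹ᵁ U, hpU, ?_⟩
  -- notation
  obtain ⟨π, hπ⟩ : ∃ π : Spec (CommRingCat.of Γ(Xw.left, U)) ⟶ W, π = hU.fromSpec ≫ Xw.hom :=
    ⟨_, rfl⟩
  obtain ⟨j, hj⟩ : ∃ j : Over.mk π ⟶ Xw, j.left = hU.fromSpec :=
    ⟨Over.homMk hU.fromSpec hπ.symm, rfl⟩
  haveI : IsOpenImmersion j.left := by rw [hj]; infer_instance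
  obtain ⟨Yy, hYy⟩ : ∃ Yy : Over W, Yy = Over.mk ((x.left ⁻¹ᵁ U).ι ≫ Y.hom) := ⟨_, rfl⟩
  subst hYy
  obtain ⟨k, hk⟩ : ∃ k : Over.mk ((x.left ⁻¹ᵁ U).ι ≫ Y.hom) ⟶ Y, k.left = (x.left ⁻¹ᵁ U).ι :=
    ⟨Over.homMk (x.left ⁻¹ᵁ U).ι rfl, rfl⟩
  have hrange : Set.range ((x.left ⁻¹ᵁ U).ι ≫ x.left) ⊆ Set.range hU.fromSpec := by
    rw [hU.range_fromSpec]
    rintro _ ⟨t, rfl⟩
    rw [Scheme.Hom.comp_apply]
    exact t.2
  obtain ⟨x', hx'⟩ : ∃ x' : Over.mk ((x.left ⁻¹ᵁ U).ι ≫ Y.hom) ⟶ Over.mk π, x' ≫ j = k ≫ x := by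
    refine ⟨Over.homMk (IsOpenImmersion.lift hU.fromSpec ((x.left ⁻¹ᵁ U).ι ≫ x.left) hrange) ?_, ?_⟩
    · simp only [Over.mk_left, Over.mk_hom]
      rw [hπ, ← Category.assoc, IsOpenImmersion.lift_fac, Category.assoc, Over.w x]
    · apply Over.OverMorphism.ext
      simp only [Over.comp_left, Over.homMk_left]
      rw [hj, hk, IsOpenImmersion.lift_fac]
  -- the ring map `Γ(S, V) → Γ(Xw, U)`
  have hrange2 : Set.range (π ≫ w) ⊆ Set.range V.2.fromSpec := by
    rw [V.2.range_fromSpec]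
    rintro _ ⟨t, rfl⟩
    rw [hπ, Category.assoc, Scheme.Hom.comp_apply]
    have ht : hU.fromSpec t ∈ (U : Set Xw.left) := by
      rw [← hU.range_fromSpec]
      exact ⟨t, rfl⟩
    exact hUV ht
  obtain ⟨φ, hφ⟩ : ∃ φ : Γ(S, V.1) →+* Γ(Xw.left, U),
      Spec.map (CommRingCat.ofHom φ) ≫ V.2.fromSpec = π ≫ w :=
    ⟨ringOf (IsOpenImmersion.lift V.2.fromSpec (π ≫ w) hrange2), by
      rw [specMap_ringOf, IsOpenImmersion.lift_fac]⟩
  -- the restricted action is trivial
  have key := PtAction.trivial_of_affine (C := Γ(Xw.left, U)) π (Pw.restrict j hbase) φ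
    (i₀.ker.ideal V) hJ ?_ ?_ _ (k ≫ g) x'
  · have h1 := Pw.comp_smul k g x
    rw [← hx', ← Pw.restrict_smul_comp j hbase, key, hx'] at h1
    have h2 := congrArg (fun t => t.left) h1
    simp only [Over.comp_left] at h2
    rw [hk] at h2
    exact h2
  · -- linearity
    intro Y₁ x₁ x₂ r
    rw [← fn_specMap, ← fn_specMap]
    congr 1
    rw [← cancel_mono V.2.fromSpec, Category.assoc, Category.assoc, hφ, ← Category.assoc,
      ← Category.assoc]
    congr 1
    exact (Over.w x₁).trans (Over.w x₂).symm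
  · -- triviality over `S₀`
    intro Y₁ g₁ x₁ hx₁
    apply PtAction.mono_of_open j
    rw [Pw.restrict_smul_comp j hbase]
    apply h0w
    obtain ⟨p, hp⟩ := exists_lift_closedImmersion i₀ V
      (x₁.left ≫ Spec.map (CommRingCat.ofHom φ)) (by
        intro r hr
        rw [fn_specMap]
        exact hx₁ r hr)
    refine ⟨p, ?_⟩
    rw [hp, Category.assoc, hφ, ← Category.assoc]
    congr 1
    exact Over.w x₁

end Local

section Main

variable {S S₀ : Scheme.{u}} (i₀ : S₀ ⟶ S) [IsClosedImmersion i₀]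
  (hnil : ∀ x : S, ∃ U : S.affineOpens, x ∈ (U : S.Opens) ∧ IsNilpotent (i₀.ker.ideal U))
  {G X : Over S} [GrpObj G] (P : PtAction G X)
  (h0 : ∀ (Y : Over S) (p : Y ⟶ Over.mk i₀) (g : Y ⟶ G) (x : Y ⟶ X), P.smul g x = x)

include hnil h0 in
/-- the case of points defined over a scheme over which `G` is diagonalisable. -/
theorem PtAction.trivial_of_split {W : Scheme.{u}} (w : W ⟶ S) {M : Type} [AddCommGroup M]
    (e : Grp.mk (Red.bc w G) ≅ Grp.mk (Red.DS W M)) (Y' : Over W)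
    (g : (Over.map w).obj Y' ⟶ G) (x : (Over.map w).obj Y' ⟶ X) : P.smul g x = x := by
  obtain ⟨u, hu⟩ : ∃ u : Red.DS W M ⟶ Red.bc w G, u = e.inv.hom.hom := ⟨_, rfl⟩
  obtain ⟨v, hv⟩ : ∃ v : Red.bc w G ⟶ Red.DS W M, v = e.hom.hom.hom := ⟨_, rfl⟩
  haveI : IsMonHom u := by rw [hu]; infer_instance
  have hvu : v ≫ u = 𝟙 _ := by
    rw [hu, hv, ← Grp.comp_hom_hom, e.hom_inv_id, Grp.id_hom_hom]
  have h0w : ∀ (Y : Over W), (∃ p : Y.left ⟶ S₀, p ≫ i₀ = Y.hom ≫ w) →
      ∀ (g : Y ⟶ Red.DS W M) (x : Y ⟶ Red.bc w X), ((P.bc w).comap u).smul g x = x := by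
    rintro Y ⟨p, hp⟩ g x
    apply (adjE w X Y).injective
    change adjE w X Y ((P.bc w).smul (g ≫ u) x) = _
    rw [PtAction.bc_smul]
    exact h0 ((Over.map w).obj Y) (Over.homMk p (by simpa using hp)) _ _
  have triv := PtAction.trivial_of_diag i₀ hnil w ((P.bc w).comap u) h0w Y'
    ((adjE w G Y').symm g ≫ v) ((adjE w X Y').symm x)
  change (P.bc w).smul (((adjE w G Y').symm g ≫ v) ≫ u) ((adjE w X Y').symm x) = _ at triv
  rw [Category.assoc, hvu, Category.comp_id] at triv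
  have h2 := congrArg (adjE w X Y') triv
  rw [PtAction.bc_smul, Equiv.apply_symm_apply, Equiv.apply_symm_apply] at h2
  exact h2

include hnil h0 in
/-- **Rigidity**: an action (on points) of an `S`-group of multiplicative type on an `S`-scheme
which is trivial over the closed subscheme defined by a locally nilpotent ideal is trivial. -/
theorem PtAction.trivial_of_multType
    (hG : TwC.Locally S TwC.Topology.fpqc (fun S' f => ∃ (M : Type) (_ : AddCommGroup M),
      Nonempty (Grp.mk (Red.bc f G) ≅ Grp.mk (Red.DS S' M))))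
    (Y : Over S) (g : Y ⟶ G) (x : Y ⟶ X) : P.smul g x = x := by
  obtain ⟨S', f, hflat, hsurj, -, hloc⟩ := hG
  haveI : Epi (pullback.fst Y.hom f) := Flat.epi_of_flat_of_surjective _
  apply Over.OverMorphism.ext
  rw [← cancel_epi (pullback.fst Y.hom f)]
  apply Scheme.hom_ext_of_forall
  intro z
  obtain ⟨U, hs'U, M, instM, ⟨e⟩⟩ := hloc ((pullback.snd Y.hom f) z)
  refine ⟨(pullback.snd Y.hom f) ⁻¹ᵁ U, hs'U, ?_⟩
  obtain ⟨t, ht⟩ : ∃ t : ((pullback.snd Y.hom f) ⁻¹ᵁ U).toScheme ⟶ U.toScheme,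
      t ≫ U.ι = ((pullback.snd Y.hom f) ⁻¹ᵁ U).ι ≫ pullback.snd Y.hom f :=
    ⟨(pullback.snd Y.hom f).resLE U _ le_rfl, Scheme.Hom.resLE_comp_ι _ _⟩
  obtain ⟨k, hk⟩ : ∃ k : (Over.map (U.ι ≫ f)).obj (Over.mk t) ⟶ Y,
      k.left = ((pullback.snd Y.hom f) ⁻¹ᵁ U).ι ≫ pullback.fst Y.hom f := by
    refine ⟨Over.homMk (((pullback.snd Y.hom f) ⁻¹ᵁ U).ι ≫ pullback.fst Y.hom f) ?_, rfl⟩
    simp only [Over.map_obj_left, Over.mk_left, Over.map_obj_hom, Over.mk_hom, Category.assoc]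
    rw [pullback.condition, ← Category.assoc, ← ht, Category.assoc]
  have h1 := P.comp_smul k g x
  rw [PtAction.trivial_of_split i₀ hnil P h0 (U.ι ≫ f) e (Over.mk t) (k ≫ g) (k ≫ x)] at h1
  have h2 := congrArg (fun t => t.left) h1
  simp only [Over.comp_left] at h2
  rw [hk, Category.assoc, Category.assoc] at h2
  exact h2

end Main

end Groth.Agent.Lib.R2H3.MultAct
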