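import Groth.Agent.Lib.R2H3MultAutGeo
import Groth.Agent.Lib.R2H3MultActRed
import Groth.Agent.Lib.Helper12GeomConn

/-!
# Rigidity of automorphisms of groups of multiplicative type (helper3, round 2)

An action (on points) by group automorphisms of an `S`-group with geometrically connected fibres
on an `S`-group of multiplicative type is trivial.
-/

set_option autoImplicit false
set_option linter.style.haveILetI false
set_option linter.unusedVariables false
set_option linter.unusedSectionVars false

universe u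

open CategoryTheory MonoidalCategory CartesianMonoidalCategory MonObj GrpObj AlgebraicGeometry
  CategoryTheory.Limits
open Groth.Agent.Lib.Helper27.GaGm Groth.Agent.Lib.H6xDSPts

namespace Groth.Agent.Lib.R2H3.MultAct

section MapTarget

variable {W : Scheme.{u}} {Gw Xw Xw' : Over W} [GrpObj Gw] (P : PtAction Gw Xw)
  (a : Xw ⟶ Xw') (b : Xw' ⟶ Xw) (hab : a ≫ b = 𝟙 Xw) (hba : b ≫ a = 𝟙 Xw')

/-- transport of an action along an isomorphism of the target. -/
def PtAction.mapTarget : PtAction Gw Xw' where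
  smul g x := P.smul g (x ≫ b) ≫ a
  one_smul x := by rw [P.one_smul, Category.assoc, hba, Category.comp_id]
  mul_smul g h x := by
    rw [P.mul_smul, Category.assoc (P.smul h (x ≫ b)), hab, Category.comp_id]
  comp_smul k g x := by
    rw [← Category.assoc, P.comp_smul, Category.assoc]

lemma PtAction.mapTarget_smul {Y : Over W} (g : Y ⟶ Gw) (x : Y ⟶ Xw') :
    (P.mapTarget a b hab hba).smul g x = P.smul g (x ≫ b) ≫ a := rfl

end MapTarget

section Split

variable {S W : Scheme.{u}} (w : W ⟶ S) {K H : Over S} [GrpObj K] [GrpObj H]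
  (P : PtAction K H)
  (hmul : ∀ {Y : Over S} (k : Y ⟶ K) (h₁ h₂ : Y ⟶ H),
    P.smul k (h₁ * h₂) = P.smul k h₁ * P.smul k h₂)

include hmul in
lemma PtAction.bc_hmul {Y : Over W} (k : Y ⟶ Red.bc w K) (h₁ h₂ : Y ⟶ Red.bc w H) :
    (P.bc w).smul k (h₁ * h₂) = (P.bc w).smul k h₁ * (P.bc w).smul k h₂ := by
  apply (adjE w H Y).injective
  rw [adjE_mul, PtAction.bc_smul, PtAction.bc_smul, PtAction.bc_smul, adjE_mul, hmul]

include hmul in
/-- the case of points defined over a scheme over which `H` is diagonalisable. -/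
theorem PtAction.trivial_of_split_target [GeometricallyConnected K.hom] {M : Type}
    [AddCommGroup M] (e : Grp.mk (Red.bc w H) ≅ Grp.mk (Red.DS W M)) (Y' : Over W)
    (k : (Over.map w).obj Y' ⟶ K) (h : (Over.map w).obj Y' ⟶ H) : P.smul k h = h := by
  obtain ⟨a, ha⟩ : ∃ a : Red.bc w H ⟶ Red.DS W M, a = e.hom.hom.hom := ⟨_, rfl⟩
  obtain ⟨b, hb⟩ : ∃ b : Red.DS W M ⟶ Red.bc w H, b = e.inv.hom.hom := ⟨_, rfl⟩
  haveI : IsMonHom a := by rw [ha]; infer_instance
  haveI : IsMonHom b := by rw [hb]; infer_instance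
  have hab : a ≫ b = 𝟙 _ := by
    rw [ha, hb, ← Grp.comp_hom_hom, e.hom_inv_id, Grp.id_hom_hom]
  have hba : b ≫ a = 𝟙 _ := by
    rw [ha, hb, ← Grp.comp_hom_hom, e.inv_hom_id, Grp.id_hom_hom]
  haveI : GeometricallyConnected (Red.bc w K).hom := by
    change GeometricallyConnected (pullback.snd K.hom w)
    infer_instance
  have triv := PtAction.trivial_of_geomConn ((P.bc w).mapTarget a b hab hba) (by
      intro Y k h₁ h₂
      rw [PtAction.mapTarget_smul, PtAction.mapTarget_smul, PtAction.mapTarget_smul,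
        MonObj.mul_comp _ _ b, PtAction.bc_hmul w P hmul, MonObj.mul_comp _ _ a])
    ((adjE w K Y').symm k) ((adjE w H Y').symm h ≫ a)
  rw [PtAction.mapTarget_smul, Category.assoc, hab, Category.comp_id] at triv
  have h1 := congrArg (fun t => t ≫ b) triv
  simp only [Category.assoc] at h1
  rw [hab, Category.comp_id, Category.comp_id] at h1
  have h2 := congrArg (adjE w H Y') h1
  rw [PtAction.bc_smul, Equiv.apply_symm_apply, Equiv.apply_symm_apply] at h2
  exact h2

include hmul in
/-- **Rigidity**: an action (on points) by group automorphisms of an `S`-group with geometrically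
connected fibres on an `S`-group of multiplicative type is trivial. -/
theorem PtAction.trivial_of_multType_target [GeometricallyConnected K.hom]
    (hH : TwC.Locally S TwC.Topology.fpqc (fun S' f => ∃ (M : Type) (_ : AddCommGroup M),
      Nonempty (Grp.mk (Red.bc f H) ≅ Grp.mk (Red.DS S' M))))
    (Y : Over S) (k : Y ⟶ K) (h : Y ⟶ H) : P.smul k h = h := by
  obtain ⟨S', f, hflat, hsurj, -, hloc⟩ := hH
  haveI : Epi (pullback.fst Y.hom f) := Flat.epi_of_flat_of_surjective _
  apply Over.OverMorphism.ext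
  rw [← cancel_epi (pullback.fst Y.hom f)]
  apply Scheme.hom_ext_of_forall
  intro z
  obtain ⟨U, hs'U, M, instM, ⟨e⟩⟩ := hloc ((pullback.snd Y.hom f) z)
  refine ⟨(pullback.snd Y.hom f) ⁻¹ᵁ U, hs'U, ?_⟩
  obtain ⟨t, ht⟩ : ∃ t : ((pullback.snd Y.hom f) ⁻¹ᵁ U).toScheme ⟶ U.toScheme,
      t ≫ U.ι = ((pullback.snd Y.hom f) ⁻¹ᵁ U).ι ≫ pullback.snd Y.hom f :=
    ⟨(pullback.snd Y.hom f).resLE U _ le_rfl, Scheme.Hom.resLE_comp_ι _ _⟩
  obtain ⟨j, hj⟩ : ∃ j : (Over.map (U.ι ≫ f)).obj (Over.mk t) ⟶ Y,
      j.left = ((pullback.snd Y.hom f) ⁻¹ᵁ U).ι ≫ pullback.fst Y.hom f := by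
    refine ⟨Over.homMk (((pullback.snd Y.hom f) ⁻¹ᵁ U).ι ≫ pullback.fst Y.hom f) ?_, rfl⟩
    simp only [Over.map_obj_left, Over.mk_left, Over.map_obj_hom, Over.mk_hom, Category.assoc]
    rw [pullback.condition, ← Category.assoc, ← ht, Category.assoc]
  have h1 := P.comp_smul j k h
  rw [PtAction.trivial_of_split_target (U.ι ≫ f) P hmul e (Over.mk t) (j ≫ k) (j ≫ h)] at h1
  have h2 := congrArg (fun t => t.left) h1
  simp only [Over.comp_left] at h2
  rw [hj, Category.assoc, Category.assoc] at h2
  exact h2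

end Split

section Conn

/-- an `S`-group with connected fibres has geometrically connected fibres. -/
theorem geometricallyConnected_of_connected_fibres {S : Scheme.{u}} (K : Over S) [GrpObj K]
    (hconn : ∀ s : S, ConnectedSpace ↥(Limits.pullback K.hom (S.fromSpecResidueField s))) :
    GeometricallyConnected K.hom := by
  rw [GeometricallyConnected.iff_geometricallyConnected_fiber]
  intro s
  haveI : ConnectedSpace ↥(K.hom.fiber s) := hconn s
  exact Groth.Agent.Lib.Helper12.GeomConn.geometricallyConnected_of_section (k := S.residueField s)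
    (K.hom.fiberToSpecResidueField s)
    (pullback.lift (S.fromSpecResidueField s ≫ unitSec K) (𝟙 _) (by
      rw [Category.assoc, unitSec_hom, Category.comp_id, Category.id_comp]))
    (pullback.lift_snd _ _ _)

end Conn

section Conj

variable {S : Scheme.{u}} {K H : Over S} [GrpObj K] [GrpObj H] (i : H ⟶ K) [IsMonHom i] [Mono i]
  (hn : ∀ (T : Over S) (g : T ⟶ K) (n : T ⟶ H), ∃ n' : T ⟶ H, g * (n ≫ i) * g⁻¹ = n' ≫ i)

/-- the action by conjugation of `K` on a normal subgroup. -/
noncomputable def conjAction : PtAction K H where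
  smul {Y} g x := (hn Y g x).choose
  one_smul {Y} x := by
    rw [← cancel_mono i, ← (hn Y 1 x).choose_spec]
    simp
  mul_smul {Y} g h x := by
    rw [← cancel_mono i, ← (hn Y (g * h) x).choose_spec, ← (hn Y g _).choose_spec,
      ← (hn Y h x).choose_spec]
    group
  comp_smul {Y Y'} k g x := by
    rw [← cancel_mono i, Category.assoc, ← (hn Y g x).choose_spec,
      ← (hn Y' (k ≫ g) (k ≫ x)).choose_spec, MonObj.comp_mul, MonObj.comp_mul, GrpObj.comp_inv,
      Category.assoc]

lemma conjAction_smul_comp {Y : Over S} (g : Y ⟶ K) (x : Y ⟶ H) :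
    (conjAction i hn).smul g x ≫ i = g * (x ≫ i) * g⁻¹ :=
  ((hn Y g x).choose_spec).symm

lemma conjAction_hmul {Y : Over S} (k : Y ⟶ K) (h₁ h₂ : Y ⟶ H) :
    (conjAction i hn).smul k (h₁ * h₂) =
      (conjAction i hn).smul k h₁ * (conjAction i hn).smul k h₂ := by
  rw [← cancel_mono i, MonObj.mul_comp _ _ i, conjAction_smul_comp, conjAction_smul_comp,
    conjAction_smul_comp, MonObj.mul_comp _ _ i]
  group

include hn in
/-- a normal subgroup of multiplicative type of a group with geometrically connected fibres is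
central. -/
theorem central_of_normal_multType [GeometricallyConnected K.hom]
    (hH : TwC.Locally S TwC.Topology.fpqc (fun S' f => ∃ (M : Type) (_ : AddCommGroup M),
      Nonempty (Grp.mk (Red.bc f H) ≅ Grp.mk (Red.DS S' M))))
    (X : Over S) (k : X ⟶ K) (h : X ⟶ H) : k * (h ≫ i) = (h ≫ i) * k := by
  have h1 := PtAction.trivial_of_multType_target (conjAction i hn) (conjAction_hmul i hn) hH X k h
  have h2 := conjAction_smul_comp i hn k h
  rw [h1] at h2
  calc k * (h ≫ i) = (k * (h ≫ i) * k⁻¹) * k := by group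
    _ = (h ≫ i) * k := by rw [← h2]

end Conj

end Groth.Agent.Lib.R2H3.MultAct
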