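import Mathlib
import Groth.Prelude.Def_AlgGrp
import Groth.Agent.Lib.Helper12Act
import Groth.Agent.Lib.Helper8GeomQuotSep
import Groth.Agent.Lib.R2H3MultAutRed

/-! Étale equivariant maps reflect fixed points for groups with connected fibres (S17681): `exists_eqLocus` (open locus where two lifts along a map with open diagonal agree), `eq_of_forall_point`, `fixed_of_connected` (open stabilizer subgroup of a connected group over a point is everything, via translation by residue-field points), `main` (helper9). -/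

set_option autoImplicit false
universe u

open CategoryTheory CategoryTheory.Limits AlgebraicGeometry

namespace Groth.Agent.Lib.H9FixEt1

section EqLocus

variable {X Y P : Scheme.{u}} (f : X ⟶ Y) [IsOpenImmersion (pullback.diagonal f)]

/-- the locus where two lifts of the same map along a morphism with open diagonal agree. -/
theorem exists_eqLocus (α β : P ⟶ X) (h : α ≫ f = β ≫ f) :
    ∃ U : P.Opens, ∀ {W : Scheme.{u}} (w : W ⟶ P), w ≫ α = w ≫ β ↔ Set.range w ⊆ (U : Set P) := by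
  let ab : P ⟶ pullback f f := pullback.lift α β h
  let ι : pullback (pullback.diagonal f) ab ⟶ P := pullback.snd _ _
  haveI : IsOpenImmersion ι := inferInstance
  refine ⟨ι.opensRange, fun {W} w => ⟨fun hw => ?_, fun hw => ?_⟩⟩
  · have h1 : (w ≫ α) ≫ pullback.diagonal f = w ≫ ab := by
      apply pullback.hom_ext
      · rw [Category.assoc, pullback.diagonal_fst, Category.comp_id, Category.assoc, pullback.lift_fst]
      · rw [Category.assoc, pullback.diagonal_snd, Category.comp_id, Category.assoc, pullback.lift_snd, hw]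
    let w' : W ⟶ pullback (pullback.diagonal f) ab := pullback.lift (w ≫ α) w h1
    have hw' : w' ≫ ι = w := pullback.lift_snd _ _ _
    rw [← hw']
    rintro _ ⟨z, rfl⟩
    exact ⟨w' z, rfl⟩
  · let w' : W ⟶ pullback (pullback.diagonal f) ab := IsOpenImmersion.lift ι w hw
    have hw' : w' ≫ ι = w := IsOpenImmersion.lift_fac _ _ _
    have hc : pullback.fst (pullback.diagonal f) ab ≫ pullback.diagonal f = ι ≫ ab := pullback.condition
    have h1 : ι ≫ α = pullback.fst (pullback.diagonal f) ab := by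
      have := congrArg (fun m => m ≫ pullback.fst f f) hc
      beta_reduce at this
      rw [Category.assoc, pullback.diagonal_fst, Category.comp_id, Category.assoc, pullback.lift_fst] at this
      exact this.symm
    have h2 : ι ≫ β = pullback.fst (pullback.diagonal f) ab := by
      have := congrArg (fun m => m ≫ pullback.snd f f) hc
      beta_reduce at this
      rw [Category.assoc, pullback.diagonal_snd, Category.comp_id, Category.assoc, pullback.lift_snd] at this
      exact this.symm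
    rw [← hw', Category.assoc, Category.assoc, h1, h2]

/-- two lifts agreeing on all residue-field points are equal. -/
theorem eq_of_forall_point (α β : P ⟶ X) (h : α ≫ f = β ≫ f)
    (hpt : ∀ p : P, P.fromSpecResidueField p ≫ α = P.fromSpecResidueField p ≫ β) : α = β := by
  obtain ⟨U, hU⟩ := exists_eqLocus f α β h
  have h1 : Set.range (𝟙 P : P ⟶ P) ⊆ (U : Set P) := by
    rintro _ ⟨p, rfl⟩
    have := (hU (P.fromSpecResidueField p)).mp (hpt p)
    rw [Scheme.range_fromSpecResidueField] at this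
    simpa using this
  simpa using (hU (𝟙 P)).mpr h1

end EqLocus

section Main

open MonoidalCategory CartesianMonoidalCategory MonObj Groth.Agent.Lib.Helper12

variable {S : Scheme.{u}} {G : Over S} [GrpObj G] {X Y : Over S}
  (a : AlgGrp.Action G X) (b : AlgGrp.Action G Y) (f : X ⟶ Y)

/-- `x` has universally `G`-fixed image in `Y`. -/
def FixY {T : Over S} (x : T ⟶ X) : Prop :=
  ∀ (T' : Over S) (t : T' ⟶ T) (g : T' ⟶ G), lift g (t ≫ x ≫ f) ≫ b.act = t ≫ x ≫ f

/-- `(g, t) ↦ g · x(t)`. -/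
noncomputable def αx {T : Over S} (x : T ⟶ X) : G ⊗ T ⟶ X := lift (fst G T) (snd G T ≫ x) ≫ a.act

/-- `(g, t) ↦ x(t)`. -/
noncomputable def βx {T : Over S} (x : T ⟶ X) : G ⊗ T ⟶ X := snd G T ≫ x

lemma comp_αx {T W : Over S} (x : T ⟶ X) (w : W ⟶ G ⊗ T) :
    w ≫ αx a x = lift (w ≫ fst G T) ((w ≫ snd G T) ≫ x) ≫ a.act := by
  rw [αx, ← Category.assoc, comp_lift, Category.assoc]

lemma comp_βx {T W : Over S} (x : T ⟶ X) (w : W ⟶ G ⊗ T) :
    w ≫ βx (G := G) x = (w ≫ snd G T) ≫ x := by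
  rw [βx, Category.assoc]

variable {a b f}

lemma FixY.comp {T T' : Over S} {x : T ⟶ X} (h : FixY b f x) (t : T' ⟶ T) : FixY b f (t ≫ x) := by
  intro T'' t' g
  have := h T'' (t' ≫ t) g
  simpa only [Category.assoc] using this

lemma αx_f (hf : a.act ≫ f = (G ◁ f) ≫ b.act) {T : Over S} {x : T ⟶ X} (h : FixY b f x) :
    αx a x ≫ f = βx (G := G) x ≫ f := by
  have h1 := h (G ⊗ T) (snd G T) (fst G T)
  rw [αx, βx, Category.assoc, hf, ← Category.assoc, Category.assoc (snd G T)]
  rw [← h1]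
  congr 1
  apply CartesianMonoidalCategory.hom_ext <;> simp

section Locus

variable (hf : a.act ≫ f = (G ◁ f) ≫ b.act) [IsOpenImmersion (pullback.diagonal f.left)]
include hf

/-- the open locus in `G × T` of points fixing `x`. -/
theorem exists_fixLocus {T : Over S} {x : T ⟶ X} (h : FixY b f x) :
    ∃ U : (G ⊗ T).left.Opens, ∀ {W : Over S} (w : W ⟶ G ⊗ T),
      lift (w ≫ fst G T) ((w ≫ snd G T) ≫ x) ≫ a.act = (w ≫ snd G T) ≫ x ↔
        Set.range w.left ⊆ (U : Set (G ⊗ T).left) := by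
  obtain ⟨U, hU⟩ := exists_eqLocus f.left (αx a x).left (βx (G := G) x).left
    (by rw [← Over.comp_left, ← Over.comp_left, αx_f hf h])
  refine ⟨U, fun {W} w => ?_⟩
  rw [← hU w.left, ← comp_αx, ← comp_βx, ← Over.comp_left, ← Over.comp_left]
  constructor
  · intro e; rw [e]
  · intro e; exact Over.OverMorphism.ext e

/-- left translation by a point, composed with the change of base. -/
noncomputable def transl {T₁ T₂ : Over S} (g₂ : T₂ ⟶ G) (t₂ : T₂ ⟶ T₁) : G ⊗ T₂ ⟶ G ⊗ T₁ :=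
  lift ((snd G T₂ ≫ g₂) * fst G T₂) (snd G T₂ ≫ t₂)

omit hf in
theorem transl_eq {T₁ T₂ : Over S} (g₂ : T₂ ⟶ G) (t₂ : T₂ ⟶ T₁) :
    transl g₂ t₂ = lift ((snd G T₂ ≫ g₂) * fst G T₂) (snd G T₂) ≫ (G ◁ t₂) := by
  apply CartesianMonoidalCategory.hom_ext <;> simp [transl]

omit hf in
theorem isIso_translAux {T₂ : Over S} (g₂ : T₂ ⟶ G) :
    IsIso (lift ((snd G T₂ ≫ g₂) * fst G T₂) (snd G T₂)) := by
  refine ⟨lift ((snd G T₂ ≫ g₂)⁻¹ * fst G T₂) (snd G T₂), ?_, ?_⟩
  · apply CartesianMonoidalCategory.hom_ext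
    · rw [Category.assoc, lift_fst, MonObj.comp_mul, GrpObj.comp_inv, ← Category.assoc, lift_snd, lift_fst,
        inv_mul_cancel_left, Category.id_comp]
    · simp
  · apply CartesianMonoidalCategory.hom_ext
    · rw [Category.assoc, lift_fst, MonObj.comp_mul, ← Category.assoc, lift_snd, lift_fst,
        mul_inv_cancel_left, Category.id_comp]
    · simp

omit hf in
theorem isOpenMap_transl {T₁ T₂ : Over S} [IsIntegral T₁.left] [Subsingleton T₁.left]
    (g₂ : T₂ ⟶ G) (t₂ : T₂ ⟶ T₁) : IsOpenMap (transl g₂ t₂).left := by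
  haveI := isIso_translAux g₂
  haveI h1 : IsIso (lift ((snd G T₂ ≫ g₂) * fst G T₂) (snd G T₂)).left :=
    inferInstanceAs (IsIso ((Over.forget S).map (lift ((snd G T₂ ≫ g₂) * fst G T₂) (snd G T₂))))
  haveI h2 : UniversallyOpen (G ◁ t₂).left := by
    have sq := Groth.Agent.Lib.Helper8GeomQuotSep.isPullback_whiskerLeft G t₂
    haveI : UniversallyOpen t₂.left := inferInstance
    exact MorphismProperty.of_isPullback (P := @UniversallyOpen) sq.flip inferInstance
  rw [transl_eq, Over.comp_left]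
  exact ((lift ((snd G T₂ ≫ g₂) * fst G T₂) (snd G T₂)).left ≫ (G ◁ t₂).left).isOpenMap

/-- (C): over a "point" `T₁` with `G × T₁` connected, a point with universally fixed image is fixed. -/
theorem fixed_of_connected {T₁ : Over S} [Nonempty T₁.left] [IsIntegral T₁.left] [Subsingleton T₁.left]
    [ConnectedSpace (G ⊗ T₁).left] (x₁ : T₁ ⟶ X) (h : FixY b f x₁) (g₁ : T₁ ⟶ G) :
    lift g₁ x₁ ≫ a.act = x₁ := by
  obtain ⟨U₁, hU₁⟩ := exists_fixLocus hf h
  have hne : (U₁ : Set (G ⊗ T₁).left).Nonempty := by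
    have h1 := (hU₁ (lift (1 : T₁ ⟶ G) (𝟙 T₁))).mp (by
      rw [lift_fst, lift_snd, Category.id_comp, act_one])
    obtain ⟨z⟩ := ‹Nonempty T₁.left›
    exact ⟨_, h1 ⟨z, rfl⟩⟩
  have hclosed : IsClosed (U₁ : Set (G ⊗ T₁).left) := by
    rw [← closure_subset_iff_isClosed]
    intro q hq
    let ξq : Spec ((G ⊗ T₁).left.residueField q) ⟶ (G ⊗ T₁).left := (G ⊗ T₁).left.fromSpecResidueField q
    let T₂ : Over S := Over.mk (ξq ≫ (G ⊗ T₁).hom)
    let ξq' : T₂ ⟶ G ⊗ T₁ := Over.homMk ξq rfl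
    let g₂ : T₂ ⟶ G := ξq' ≫ fst G T₁
    let t₂ : T₂ ⟶ T₁ := ξq' ≫ snd G T₁
    have h₂ : FixY b f (t₂ ≫ x₁) := h.comp t₂
    obtain ⟨U₂, hU₂⟩ := exists_fixLocus hf h₂
    have hm_open : IsOpenMap (transl g₂ t₂).left := isOpenMap_transl g₂ t₂
    -- unit point
    let e₂ : T₂ ⟶ G ⊗ T₂ := lift 1 (𝟙 T₂)
    have he₂ : Set.range e₂.left ⊆ (U₂ : Set (G ⊗ T₂).left) := (hU₂ e₂).mp (by
      rw [lift_fst, lift_snd, Category.id_comp, act_one])
    have he₂m : e₂ ≫ transl g₂ t₂ = ξq' := by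
      apply CartesianMonoidalCategory.hom_ext
      · rw [transl, Category.assoc, lift_fst, MonObj.comp_mul, ← Category.assoc, lift_snd, lift_fst,
          Category.id_comp, _root_.mul_one]
      · rw [transl, Category.assoc, lift_snd, ← Category.assoc, lift_snd, Category.id_comp]
    obtain ⟨z⟩ : Nonempty T₂.left := (inferInstance : Nonempty (Spec ((G ⊗ T₁).left.residueField q)))
    have hq_mem : q ∈ (transl g₂ t₂).left '' (U₂ : Set (G ⊗ T₂).left) := by
      refine ⟨e₂.left z, he₂ ⟨z, rfl⟩, ?_⟩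
      have h1 : (e₂ ≫ transl g₂ t₂).left z = ξq z := by rw [he₂m]; rfl
      rw [Over.comp_left, Scheme.Hom.comp_apply] at h1
      rw [h1]
      exact (G ⊗ T₁).left.fromSpecResidueField_apply q z
    have hN : IsOpen ((transl g₂ t₂).left '' (U₂ : Set (G ⊗ T₂).left)) := hm_open _ U₂.isOpen
    obtain ⟨r, hrN, hrU⟩ := mem_closure_iff.mp hq _ hN hq_mem
    obtain ⟨u, huU₂, rfl⟩ := hrN
    -- third point
    let ζ : Spec ((G ⊗ T₂).left.residueField u) ⟶ (G ⊗ T₂).left := (G ⊗ T₂).left.fromSpecResidueField u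
    let T₃ : Over S := Over.mk (ζ ≫ (G ⊗ T₂).hom)
    let ζ' : T₃ ⟶ G ⊗ T₂ := Over.homMk ζ rfl
    let h₃ : T₃ ⟶ G := ζ' ≫ fst G T₂
    let t₃ : T₃ ⟶ T₂ := ζ' ≫ snd G T₂
    have k1 : lift h₃ (t₃ ≫ t₂ ≫ x₁) ≫ a.act = t₃ ≫ t₂ ≫ x₁ := (hU₂ ζ').mpr (by
      change Set.range ζ ⊆ _
      rw [Scheme.range_fromSpecResidueField]
      exact Set.singleton_subset_iff.mpr huU₂)
    have k2 : lift ((t₃ ≫ g₂) * h₃) ((t₃ ≫ t₂) ≫ x₁) ≫ a.act = (t₃ ≫ t₂) ≫ x₁ := by
      have h1 := (hU₁ (ζ' ≫ transl g₂ t₂)).mpr (by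
        rw [Over.comp_left, Scheme.Hom.comp_base, TopCat.coe_comp, Set.range_comp]
        change (transl g₂ t₂).left '' Set.range ζ ⊆ _
        rw [Scheme.range_fromSpecResidueField, Set.image_singleton]
        exact Set.singleton_subset_iff.mpr hrU)
      have e1 : (ζ' ≫ transl g₂ t₂) ≫ fst G T₁ = (t₃ ≫ g₂) * h₃ := by
        rw [transl, Category.assoc, lift_fst, MonObj.comp_mul, ← Category.assoc]
      have e2 : (ζ' ≫ transl g₂ t₂) ≫ snd G T₁ = t₃ ≫ t₂ := by
        rw [transl, Category.assoc, lift_snd, ← Category.assoc]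
      rw [e1, e2] at h1
      exact h1
    have k3 : lift (t₃ ≫ g₂) ((t₃ ≫ t₂) ≫ x₁) ≫ a.act = (t₃ ≫ t₂) ≫ x₁ := by
      have h1 := act_mul a (t₃ ≫ g₂) h₃ ((t₃ ≫ t₂) ≫ x₁)
      rw [Category.assoc t₃ t₂ x₁, k1] at h1
      rw [Category.assoc t₃ t₂ x₁] at k2 ⊢
      rw [← h1]
      exact k2
    have h4 := (hU₁ (t₃ ≫ ξq')).mp (by
      have e1 : (t₃ ≫ ξq') ≫ fst G T₁ = t₃ ≫ g₂ := Category.assoc _ _ _
      have e2 : (t₃ ≫ ξq') ≫ snd G T₁ = t₃ ≫ t₂ := Category.assoc _ _ _
      rw [e1, e2]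
      exact k3)
    obtain ⟨z₃⟩ : Nonempty T₃.left := (inferInstance : Nonempty (Spec ((G ⊗ T₂).left.residueField u)))
    have h5 : (t₃ ≫ ξq').left z₃ = q := by
      rw [Over.comp_left, Scheme.Hom.comp_apply]
      exact (G ⊗ T₁).left.fromSpecResidueField_apply q _
    rw [← h5]
    exact h4 ⟨z₃, rfl⟩
  have hclopen : IsClopen (U₁ : Set (G ⊗ T₁).left) := ⟨hclosed, U₁.isOpen⟩
  have huniv : (U₁ : Set (G ⊗ T₁).left) = Set.univ := by
    rcases isClopen_iff.mp hclopen with h0 | h1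
    · exact absurd h0 hne.ne_empty
    · exact h1
  have h6 := (hU₁ (lift g₁ (𝟙 T₁))).mpr (by rw [huniv]; exact Set.subset_univ _)
  rw [lift_fst, lift_snd, Category.id_comp] at h6
  exact h6

end Locus

/-- S17681. -/
theorem main (hf : a.act ≫ f = (G ◁ f) ≫ b.act) [Etale f.left]
    (hconn : ∀ s : S, ConnectedSpace (G.hom.fiber s))
    {T : Over S} (x : T ⟶ X) (hx : FixY b f x)
    (T' : Over S) (t : T' ⟶ T) (g : T' ⟶ G) : lift g (t ≫ x) ≫ a.act = t ≫ x := by
  haveI : IsOpenImmersion (pullback.diagonal f.left) := inferInstance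
  haveI hgc : GeometricallyConnected G.hom :=
    Groth.Agent.Lib.R2H3.MultAct.geometricallyConnected_of_connected_fibres G hconn
  have key : αx a x = βx (G := G) x := by
    apply Over.OverMorphism.ext
    apply eq_of_forall_point f.left _ _ (by rw [← Over.comp_left, ← Over.comp_left, αx_f hf hx])
    intro p
    let ξ : Spec ((G ⊗ T).left.residueField p) ⟶ (G ⊗ T).left := (G ⊗ T).left.fromSpecResidueField p
    let T₁ : Over S := Over.mk (ξ ≫ (G ⊗ T).hom)
    let ξ' : T₁ ⟶ G ⊗ T := Over.homMk ξ rfl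
    haveI : Nonempty T₁.left := (inferInstance : Nonempty (Spec ((G ⊗ T).left.residueField p)))
    haveI : IsIntegral T₁.left := (inferInstance : IsIntegral (Spec ((G ⊗ T).left.residueField p)))
    haveI : Subsingleton T₁.left := (inferInstance : Subsingleton (Spec ((G ⊗ T).left.residueField p)))
    haveI : ConnectedSpace (G ⊗ T₁).left :=
      hgc.geometrically_connectedSpace (K := ((G ⊗ T).left.residueField p : Type u)) T₁.hom
        (fst G T₁).left (snd G T₁).left (IsPullback.of_hasPullback G.hom T₁.hom)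
    have h1 := fixed_of_connected hf ((ξ' ≫ snd G T) ≫ x) (hx.comp _) (ξ' ≫ fst G T)
    have e : ξ' ≫ αx a x = ξ' ≫ βx (G := G) x := by rw [comp_αx, comp_βx]; exact h1
    have e' := congrArg CommaMorphism.left e
    exact e'
  have h2 := congrArg (fun m => lift g t ≫ m) key
  beta_reduce at h2
  rw [comp_αx, comp_βx, lift_fst, lift_snd] at h2
  exact h2

end Main

end Groth.Agent.Lib.H9FixEt1
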