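import Mathlib
import Groth.Agent.Lib.Helper11FlatClosure
import Groth.Agent.Lib.Helper11SchImage
import Groth.Agent.Lib.Helper8SchDense

set_option autoImplicit false
set_option linter.style.haveILetI false
universe u

namespace Groth.Agent.Lib.H9FlatClA

open CategoryTheory AlgebraicGeometry CategoryTheory.Limits

variable (R : Type u) [CommRing R] [IsDomain R]

/-- the generic point `Spec Frac R ⟶ Spec R` is a monomorphism. -/
theorem mono_genPt : Mono (Spec.map (CommRingCat.ofHom (algebraMap R (FractionRing R)))) := by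
  haveI : IsPreimmersion (Spec.map (CommRingCat.ofHom (algebraMap R (FractionRing R)))) :=
    IsPreimmersion.of_isLocalization (nonZeroDivisors R)
  infer_instance

/-- the generic point `Spec Frac R ⟶ Spec R` is scheme-theoretically dominant. -/
theorem dominant_genPt :
    IsSchemeTheoreticallyDominant (Spec.map (CommRingCat.ofHom (algebraMap R (FractionRing R)))) :=
  Groth.Agent.Helper8SchDense.schDominant_Spec_map _ (IsFractionRing.injective R (FractionRing R))

/-- the generic fibre of a flat scheme over a domain is scheme-theoretically dense. -/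
theorem dominant_fst {X : Scheme.{u}} (p : X ⟶ Spec (CommRingCat.of R)) [Flat p] :
    IsSchemeTheoreticallyDominant
      (pullback.fst p (Spec.map (CommRingCat.ofHom (algebraMap R (FractionRing R))))) := by
  haveI := dominant_genPt R
  infer_instance

/-- nonzero elements of `R` become units on any scheme over `Spec Frac R`. -/
theorem isUnit_of_over_genPt {X : Scheme.{u}} (q : X ⟶ Spec (CommRingCat.of (FractionRing R)))
    (W : X.Opens) (a : R) (ha : a ≠ 0) :
    IsUnit (((q ≫ Spec.map (CommRingCat.ofHom (algebraMap R (FractionRing R)))).appLE ⊤ W le_top).hom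
      ((Scheme.ΓSpecIso (CommRingCat.of R)).inv.hom a)) := by
  apply Groth.Agent.Lib.Helper11FlatClosure.isUnit_appLE_comp
  have hnat := Scheme.ΓSpecIso_inv_naturality
    (CommRingCat.ofHom (algebraMap R (FractionRing R)))
  have h3 := congrArg (fun m => m.hom a) hnat
  simp only [CommRingCat.hom_comp, RingHom.comp_apply] at h3
  erw [← h3]
  apply IsUnit.map
  rw [CommRingCat.hom_ofHom, isUnit_iff_ne_zero]
  intro h0
  exact ha ((IsFractionRing.injective R (FractionRing R)) (by rw [h0, map_zero]))

/-- the generic point `Spec Frac R ⟶ Spec R` is flat. -/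
theorem flat_genPt : Flat (Spec.map (CommRingCat.ofHom (algebraMap R (FractionRing R)))) := by
  rw [HasRingHomProperty.Spec_iff (P := @Flat)]
  rw [CommRingCat.hom_ofHom, RingHom.flat_algebraMap_iff]
  infer_instance

/-- the scheme-theoretic image of a scheme over `Frac R` in a scheme over a Dedekind domain `R` is
flat over `R`. -/
theorem flat_imageι [IsDedekindDomain R] {X Y : Scheme.{u}} (g : X ⟶ Y) [QuasiCompact g]
    (p : Y ⟶ Spec (CommRingCat.of R)) (q : X ⟶ Spec (CommRingCat.of (FractionRing R)))
    (hg : g ≫ p = q ≫ Spec.map (CommRingCat.ofHom (algebraMap R (FractionRing R)))) :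
    Flat (g.imageι ≫ p) := by
  have htdom := Groth.Agent.Lib.Helper11FlatClosure.toImage_dominant g
  obtain ⟨t, ht⟩ : ∃ t, t = g.toImage := ⟨_, rfl⟩
  have htqc : QuasiCompact t := by rw [ht]; infer_instance
  rw [← ht] at htdom
  obtain ⟨h, hh⟩ : ∃ h, h = g.imageι ≫ p := ⟨_, rfl⟩
  rw [← hh]
  have hth : t ≫ h = q ≫ Spec.map (CommRingCat.ofHom (algebraMap R (FractionRing R))) := by
    rw [ht, hh, Scheme.Hom.toImage_imageι_assoc, hg]
  refine HasRingHomProperty.of_iSup_eq_top (P := @Flat)
    (fun V : g.image.affineOpens => V) (iSup_affineOpens_eq_top _) ?_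
  intro V
  rw [← RingHom.Flat.respectsIso.cancel_left_isIso (Scheme.ΓSpecIso (CommRingCat.of R)).inv]
  refine Groth.Agent.Lib.Helper11FlatClosure.flat_of_injective_of_isUnit _ (t.app V.1).hom
    (t.app_injective V.1) ?_
  intro a ha
  rw [RingHom.comp_apply, Groth.Agent.Lib.Helper11FlatClosure.app_appLE_eq t h _ hth]
  exact isUnit_of_over_genPt R q _ a ha

/-- the base change along a flat monomorphism `η` of the scheme-theoretic closure in `Y` of a closed
subscheme `X` of `Y ×_S SK` is `X`. -/
theorem isPullback_toImage_aux {X Y S SK : Scheme.{u}} (η : SK ⟶ S) [Mono η] [Flat η] (p : Y ⟶ S)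
    (i₀ : X ⟶ pullback p η) [IsClosedImmersion i₀] (g : X ⟶ Y) [QuasiCompact g]
    (hg : g = i₀ ≫ pullback.fst p η) :
    IsPullback g.toImage (i₀ ≫ pullback.snd p η) (g.imageι ≫ p) η := by
  have comm : g.toImage ≫ g.imageι ≫ p = (i₀ ≫ pullback.snd p η) ≫ η := by
    rw [Scheme.Hom.toImage_imageι_assoc, hg, Category.assoc, Category.assoc, pullback.condition]
  let ψ : X ⟶ pullback (g.imageι ≫ p) η := pullback.lift g.toImage (i₀ ≫ pullback.snd p η) comm
  let c : pullback (g.imageι ≫ p) η ⟶ pullback p η :=
    pullback.lift (pullback.fst (g.imageι ≫ p) η ≫ g.imageι) (pullback.snd (g.imageι ≫ p) η)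
      (by rw [Category.assoc, pullback.condition])
  have hc1 : c ≫ pullback.fst p η = pullback.fst (g.imageι ≫ p) η ≫ g.imageι :=
    pullback.lift_fst _ _ _
  have hc2 : c ≫ pullback.snd p η = pullback.snd (g.imageι ≫ p) η := pullback.lift_snd _ _ _
  have hsq : IsPullback c (pullback.fst (g.imageι ≫ p) η) (pullback.fst p η) g.imageι := by
    refine IsPullback.of_right ?_ hc1 (IsPullback.of_hasPullback p η).flip
    rw [hc2]
    exact (IsPullback.of_hasPullback (g.imageι ≫ p) η).flip
  haveI hccl : IsClosedImmersion c :=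
    MorphismProperty.of_isPullback (P := @IsClosedImmersion) hsq.flip inferInstance
  have hψc : ψ ≫ c = i₀ := by
    apply pullback.hom_ext
    · rw [Category.assoc, hc1, pullback.lift_fst_assoc, Scheme.Hom.toImage_imageι, hg]
    · rw [Category.assoc, hc2, pullback.lift_snd]
  haveI : IsClosedImmersion (ψ ≫ c) := by rw [hψc]; infer_instance
  haveI hψcl : IsClosedImmersion ψ := IsClosedImmersion.of_comp ψ c
  haveI htdom : IsSchemeTheoreticallyDominant g.toImage :=
    Groth.Agent.Lib.Helper11FlatClosure.toImage_dominant g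
  have hsq2 : IsPullback (𝟙 X) ψ g.toImage (pullback.fst (g.imageι ≫ p) η) :=
    IsPullback.of_horiz_isIso_mono ⟨by rw [Category.id_comp, pullback.lift_fst]⟩
  haveI hψdom : IsSchemeTheoreticallyDominant ψ :=
    IsSchemeTheoreticallyDominant.of_isPullback hsq2
  haveI : IsIso ψ := IsClosedImmersion.isIso_iff_ker_eq_bot.mpr ψ.ker_eq_bot
  exact IsPullback.of_iso_pullback ⟨comm⟩ (asIso ψ) (pullback.lift_fst _ _ _)
    (pullback.lift_snd _ _ _)

/-- the generic fibre of the scheme-theoretic closure in `Y` of a closed subscheme `X` of the generic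
fibre of `Y` is `X`. -/
theorem isPullback_toImage {X Y : Scheme.{u}} (p : Y ⟶ Spec (CommRingCat.of R))
    (i₀ : X ⟶ pullback p (Spec.map (CommRingCat.ofHom (algebraMap R (FractionRing R)))))
    [IsClosedImmersion i₀] (g : X ⟶ Y) [QuasiCompact g]
    (hg : g = i₀ ≫ pullback.fst p (Spec.map (CommRingCat.ofHom (algebraMap R (FractionRing R))))) :
    IsPullback g.toImage
      (i₀ ≫ pullback.snd p (Spec.map (CommRingCat.ofHom (algebraMap R (FractionRing R)))))
      (g.imageι ≫ p) (Spec.map (CommRingCat.ofHom (algebraMap R (FractionRing R)))) := by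
  haveI := mono_genPt R
  haveI := flat_genPt R
  exact isPullback_toImage_aux _ p i₀ g hg

end Groth.Agent.Lib.H9FlatClA
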