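import Mathlib
import Groth.Prelude.Def_Red
import Groth.Agent.Lib.Helper11SubGrp
import Groth.Agent.Lib.Helper11SchImage
import Groth.Agent.Lib.Helper27GaGm

set_option autoImplicit false
set_option linter.style.haveILetI false
universe u

namespace Groth.Agent.Lib.H9FlatClB

open CategoryTheory MonoidalCategory CartesianMonoidalCategory MonObj GrpObj AlgebraicGeometry
  CategoryTheory.Limits
open Groth.Agent.Lib.Helper27.GaGm

variable {S SK : Scheme.{u}} (t : SK ⟶ S) (G : Over S) [GrpObj G] (HK : Over SK) [GrpObj HK]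
  (i : HK ⟶ Red.bc t G) (H : Over S) (j : H ⟶ G)
  (φ : HK.left ⟶ H.left) (hpb : IsPullback φ HK.hom H.hom t)
  (hφj : φ ≫ j.left = i.left ≫ pullback.fst G.hom t)

/-- the adjunction bijection as a monoid hom. -/
noncomputable def adjHom (T' : Over SK) : (T' ⟶ Red.bc t G) →* ((Over.map t).obj T' ⟶ G) :=
  MonoidHom.mk' (adjEquiv t G T') (adjEquiv_mul t G T')

omit [GrpObj HK] in
/-- a `T'`-point of `HK` gives a `T'↓`-point of `H`. -/
noncomputable def toH {T' : Over SK} (a' : T' ⟶ HK) : (Over.map t).obj T' ⟶ H :=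
  Over.homMk (a'.left ≫ φ) (by
    rw [Category.assoc, hpb.w, ← Category.assoc, Over.w a']
    rfl)

include hφj in
omit [GrpObj HK] in
theorem toH_comp {T' : Over SK} (a' : T' ⟶ HK) :
    toH t HK H φ hpb a' ≫ j = adjEquiv t G T' (a' ≫ i) := by
  ext1
  rw [Over.comp_left, adjEquiv_left, Over.comp_left, Category.assoc, ← hφj]
  rfl

omit [GrpObj HK] in
/-- every `T'↓`-point of `H` comes from a `T'`-point of `HK`. -/
theorem exists_toH_eq {T' : Over SK} (a : (Over.map t).obj T' ⟶ H) :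
    ∃ a' : T' ⟶ HK, toH t HK H φ hpb a' = a := by
  have hw : a.left ≫ H.hom = T'.hom ≫ t := Over.w a
  refine ⟨Over.homMk (hpb.lift a.left T'.hom hw) (hpb.lift_snd _ _ _), ?_⟩
  ext1
  exact hpb.lift_fst _ _ _

variable [IsMonHom i] [IsClosedImmersion j.left] [Flat H.hom] [IsSchemeTheoreticallyDominant t]
  [QuasiCompact t]

include hφj hpb in
theorem exists_mul_lift : ∃ l : H ⊗ H ⟶ H, l ≫ j = (fst H H ≫ j) * (snd H H ≫ j) := by
  haveI : Flat (H ⊗ H).hom := by
    rw [Over.tensorObj_hom]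
    infer_instance
  let q : (Over.map t).obj (Red.bc t (H ⊗ H)) ⟶ H ⊗ H :=
    Over.homMk (pullback.fst (H ⊗ H).hom t) pullback.condition
  haveI : IsSchemeTheoreticallyDominant q.left := by
    show IsSchemeTheoreticallyDominant (pullback.fst (H ⊗ H).hom t)
    infer_instance
  obtain ⟨a₁', ha₁⟩ := exists_toH_eq t HK H φ hpb (q ≫ fst H H)
  obtain ⟨a₂', ha₂⟩ := exists_toH_eq t HK H φ hpb (q ≫ snd H H)
  refine Groth.Agent.Lib.Helper11SchImage.exists_lift_of_dominant_over q
    ((fst H H ≫ j) * (snd H H ≫ j)) (toH t HK H φ hpb (a₁' * a₂')) j ?_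
  rw [toH_comp t G HK i H j φ hpb hφj, MonObj.mul_comp, adjEquiv_mul,
    ← toH_comp t G HK i H j φ hpb hφj, ← toH_comp t G HK i H j φ hpb hφj, ha₁, ha₂,
    MonObj.comp_mul, Category.assoc, Category.assoc]

include hφj hpb in
theorem exists_inv_lift (hφdom : IsSchemeTheoreticallyDominant φ) : ∃ l : H ⟶ H, l ≫ j = j⁻¹ := by
  let φ' : (Over.map t).obj HK ⟶ H := toH t HK H φ hpb (𝟙 HK)
  haveI : IsSchemeTheoreticallyDominant φ'.left := by
    have : φ'.left = φ := by
      show (𝟙 HK : HK ⟶ HK).left ≫ φ = φ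
      rw [Over.id_left, Category.id_comp]
    rw [this]
    exact hφdom
  refine Groth.Agent.Lib.Helper11SchImage.exists_lift_of_dominant_over φ' (j⁻¹)
    (toH t HK H φ hpb ((𝟙 HK)⁻¹)) j ?_
  rw [toH_comp t G HK i H j φ hpb hφj, GrpObj.inv_comp, GrpObj.comp_inv,
    toH_comp t G HK i H j φ hpb hφj]
  exact (map_inv (adjHom t G HK) (𝟙 HK ≫ i)).symm

include hφj hpb in
theorem exists_one_lift : ∃ z : 𝟙_ (Over S) ⟶ H, z ≫ j = 1 := by
  let e' : (Over.map t).obj (𝟙_ (Over SK)) ⟶ 𝟙_ (Over S) :=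
    Over.homMk t (by simp)
  haveI : IsSchemeTheoreticallyDominant e'.left := by
    show IsSchemeTheoreticallyDominant t
    infer_instance
  refine Groth.Agent.Lib.Helper11SchImage.exists_lift_of_dominant_over e' 1
    (toH t HK H φ hpb 1) j ?_
  rw [toH_comp t G HK i H j φ hpb hφj, MonObj.one_comp, MonObj.comp_one]
  exact (map_one (adjHom t G (𝟙_ (Over SK)))).symm

include hφj hpb in
/-- the group structure on the closure. -/
theorem exists_grpObj (hφdom : IsSchemeTheoreticallyDominant φ) :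
    ∃ (_ : GrpObj H), IsMonHom j := by
  haveI : Mono j := Over.mono_of_mono_left j
  obtain ⟨lm, hlm⟩ := exists_mul_lift t G HK i H j φ hpb hφj
  obtain ⟨li, hli⟩ := exists_inv_lift t G HK i H j φ hpb hφj hφdom
  refine Groth.Agent.Lib.Helper11SubGrp.exists_grpObj_of_points j
    (exists_one_lift t G HK i H j φ hpb hφj) (fun {T} a b => ⟨lift a b ≫ lm, ?_⟩)
    (fun {T} a => ⟨a ≫ li, ?_⟩)
  · rw [Category.assoc, hlm, MonObj.comp_mul, lift_fst_assoc, lift_snd_assoc]
  · rw [Category.assoc, hli, GrpObj.comp_inv]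

end Groth.Agent.Lib.H9FlatClB
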