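import Mathlib
import Groth.Prelude.Def_Red
import Groth.Prelude.Def_Neron
import Groth.Agent.Lib.H9FlatClA
import Groth.Agent.Lib.H9FlatClB

set_option autoImplicit false
set_option linter.style.haveILetI false
universe u

namespace Groth.Agent.Lib.H9FlatClC

open CategoryTheory MonoidalCategory CartesianMonoidalCategory MonObj GrpObj AlgebraicGeometry
  CategoryTheory.Limits

/-- **S19964**: the schematic closure of a closed `K`-subgroup of the generic fibre of a group scheme
over a Dedekind domain is a flat closed subgroup scheme. -/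
theorem main (R : Type u) [CommRing R] [IsDedekindDomain R]
    (G : Over (Spec (CommRingCat.of R))) [GrpObj G]
    (HK : Over (Spec (CommRingCat.of (FractionRing R)))) [GrpObj HK]
    (i : HK ⟶ Red.bc (Neron.genPt R) G) [IsMonHom i] [IsClosedImmersion i.left] :
    ∃ (H : Over (Spec (CommRingCat.of R))) (_ : GrpObj H) (j : H ⟶ G) (φ : HK.left ⟶ H.left),
      IsMonHom j ∧ IsClosedImmersion j.left ∧ Flat H.hom ∧
      IsPullback φ HK.hom H.hom (Neron.genPt R) ∧
      φ ≫ j.left = i.left ≫ pullback.fst G.hom (Neron.genPt R) ∧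
      φ.ker = ⊥ := by
  obtain ⟨g, hg⟩ : ∃ g : HK.left ⟶ G.left, g = i.left ≫ pullback.fst G.hom (Neron.genPt R) :=
    ⟨_, rfl⟩
  haveI hqc : QuasiCompact g := by rw [hg]; infer_instance
  have hw : i.left ≫ pullback.snd G.hom (Neron.genPt R) = HK.hom := Over.w i
  let H : Over (Spec (CommRingCat.of R)) := Over.mk (g.imageι ≫ G.hom)
  let j : H ⟶ G := Over.homMk g.imageι rfl
  have hpb : IsPullback g.toImage HK.hom H.hom (Neron.genPt R) := by
    have := Groth.Agent.Lib.H9FlatClA.isPullback_toImage R G.hom i.left g hg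
    rwa [hw] at this
  haveI hflat : Flat H.hom :=
    Groth.Agent.Lib.H9FlatClA.flat_imageι R g G.hom HK.hom
      (by rw [hg, Category.assoc, pullback.condition, ← Category.assoc, hw])
  have hφj : g.toImage ≫ j.left = i.left ≫ pullback.fst G.hom (Neron.genPt R) := by
    rw [← hg]
    exact g.toImage_imageι
  haveI : IsClosedImmersion j.left := by
    show IsClosedImmersion g.imageι
    infer_instance
  haveI := Groth.Agent.Lib.H9FlatClA.dominant_genPt R
  have hdom : IsSchemeTheoreticallyDominant g.toImage :=
    Groth.Agent.Lib.Helper11FlatClosure.toImage_dominant g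
  obtain ⟨inst, hj⟩ := Groth.Agent.Lib.H9FlatClB.exists_grpObj (Neron.genPt R) G HK i H j
    g.toImage hpb hφj hdom
  exact ⟨H, inst, j, g.toImage, hj, inferInstance, hflat, hpb, hφj, hdom.ker_eq_bot⟩

end Groth.Agent.Lib.H9FlatClC
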