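import Mathlib

set_option autoImplicit false
set_option linter.style.haveILetI false
universe u

namespace Groth.Agent.Lib.H9FlatDescent

section

open TensorProduct

/-- flatness descends along a faithfully flat ring extension in the source -/
theorem flat_of_faithfullyFlat_of_flat (A R' S' : Type u) [CommRing A] [CommRing R'] [CommRing S']
    [Algebra A R'] [Algebra R' S'] [Algebra A S'] [IsScalarTower A R' S']
    [Module.FaithfullyFlat R' S'] [Module.Flat A S'] : Module.Flat A R' := by
  rw [Module.Flat.iff_lTensor_preserves_injective_linearMap]
  intro N P _ _ _ _ f hf
  have h1 : Function.Injective (LinearMap.lTensor S' f) :=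
    Module.Flat.lTensor_preserves_injective_linearMap f hf
  let g : R' ⊗[A] N →ₗ[R'] R' ⊗[A] P := TensorProduct.AlgebraTensorModule.lTensor R' R' f
  have hg : ∀ x, g x = LinearMap.lTensor R' f x := fun x => rfl
  suffices h : Function.Injective g by
    intro x y hxy
    exact h (by rw [hg, hg, hxy])
  rw [← Module.FaithfullyFlat.lTensor_injective_iff_injective R' S']
  let eN := TensorProduct.AlgebraTensorModule.cancelBaseChange A R' R' S' N
  let eP := TensorProduct.AlgebraTensorModule.cancelBaseChange A R' R' S' P
  have hcomm : ∀ x, eP (LinearMap.lTensor S' g x) = LinearMap.lTensor S' f (eN x) := by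
    intro x
    induction x using TensorProduct.induction_on with
    | zero => simp
    | add x y hx hy => simp only [map_add, hx, hy]
    | tmul s y =>
      induction y using TensorProduct.induction_on with
      | zero => simp
      | add y z hy hz => simp only [TensorProduct.tmul_add, map_add, hy, hz]
      | tmul r n =>
        simp only [LinearMap.lTensor_tmul, eN, eP, g,
          TensorProduct.AlgebraTensorModule.cancelBaseChange_tmul,
          TensorProduct.AlgebraTensorModule.lTensor_tmul]
  intro x y hxy
  apply eN.injective
  apply h1
  rw [← hcomm, ← hcomm, hxy]

end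

section

open TensorProduct

/-- If `B` is flat over `R` and over `A`, then `R` is flat over `A` at every prime in the image of
`Spec B → Spec R`. -/
theorem flat_localization_of_flat (A R B : Type u) [CommRing A] [CommRing R] [CommRing B]
    [Algebra A R] [Algebra R B] [Algebra A B] [IsScalarTower A R B]
    [Module.Flat R B] [Module.Flat A B] (q : Ideal B) [q.IsPrime] (p : Ideal R) [p.IsPrime]
    (hpq : p = q.comap (algebraMap R B)) :
    Module.Flat A (Localization.AtPrime p) := by
  let φ : Localization.AtPrime p →+* Localization.AtPrime q :=
    Localization.localRingHom p q (algebraMap R B) hpq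
  letI : Algebra (Localization.AtPrime p) (Localization.AtPrime q) := φ.toAlgebra
  have hφ : ∀ x : R, φ (algebraMap R (Localization.AtPrime p) x) =
      algebraMap B (Localization.AtPrime q) (algebraMap R B x) :=
    fun x => Localization.localRingHom_to_map p q (algebraMap R B) hpq x
  haveI : IsScalarTower R (Localization.AtPrime p) (Localization.AtPrime q) :=
    IsScalarTower.of_algebraMap_eq (fun x => by
      rw [IsScalarTower.algebraMap_apply R B (Localization.AtPrime q)]
      exact (hφ x).symm)
  haveI : IsScalarTower A (Localization.AtPrime p) (Localization.AtPrime q) :=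
    IsScalarTower.of_algebraMap_eq (fun a => by
      rw [IsScalarTower.algebraMap_apply A R (Localization.AtPrime p)]
      change _ = φ _
      rw [hφ, ← IsScalarTower.algebraMap_apply A R B,
        ← IsScalarTower.algebraMap_apply A B (Localization.AtPrime q)])
  haveI : Module.Flat R (Localization.AtPrime q) := Module.Flat.trans R B _
  haveI : Module.Flat A (Localization.AtPrime q) := Module.Flat.trans A B _
  haveI : Module.Flat (Localization.AtPrime p) (Localization.AtPrime q) :=
    (Module.flat_iff_of_isLocalization (Localization.AtPrime p) p.primeCompl
      (Localization.AtPrime q)).mpr inferInstance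
  haveI : IsLocalHom (algebraMap (Localization.AtPrime p) (Localization.AtPrime q)) :=
    Localization.isLocalHom_localRingHom p q (algebraMap R B) hpq
  haveI : Module.FaithfullyFlat (Localization.AtPrime p) (Localization.AtPrime q) :=
    Module.FaithfullyFlat.of_flat_of_isLocalHom
  exact flat_of_faithfullyFlat_of_flat A (Localization.AtPrime p) (Localization.AtPrime q)

end

end Groth.Agent.Lib.H9FlatDescent
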