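import Mathlib
import Groth.Agent.Lib.Helper11SchImage
import Groth.Agent.Lib.Helper8SchDense

set_option autoImplicit false
set_option linter.style.haveILetI false
universe u

namespace Groth.Agent.Lib.H9FlatEqRel

open CategoryTheory AlgebraicGeometry CategoryTheory.Limits

variable {B BK Y Γ : Scheme.{u}} (e : BK ⟶ B) [IsSchemeTheoreticallyDominant e] [QuasiCompact e]
  (f : Y ⟶ B) (p₁ p₂ : Γ ⟶ Y) (h : p₁ ≫ f = p₂ ≫ f)

/-- a morphism `W ⟶ Y ×_B Y` from a flat `B`-scheme `W` factors through the closed subscheme `Γ` as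
soon as its restriction to `W ×_B BK` does. -/
theorem exists_lift_of_flat [IsClosedImmersion (pullback.lift p₁ p₂ h)]
    {W : Scheme.{u}} (w : W ⟶ B) [Flat w] (a b : W ⟶ Y) (ha : a ≫ f = w) (hb : b ≫ f = w)
    (c : pullback w e ⟶ Γ) (hc₁ : c ≫ p₁ = pullback.fst w e ≫ a)
    (hc₂ : c ≫ p₂ = pullback.fst w e ≫ b) :
    ∃ l : W ⟶ Γ, l ≫ p₁ = a ∧ l ≫ p₂ = b := by
  obtain ⟨l, hl⟩ := Groth.Agent.Lib.Helper11SchImage.exists_lift_of_dominant (pullback.fst w e)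
    (pullback.lift a b (by rw [ha, hb])) c (pullback.lift p₁ p₂ h) (by
      apply pullback.hom_ext
      · rw [Category.assoc, Category.assoc, pullback.lift_fst, pullback.lift_fst, hc₁]
      · rw [Category.assoc, Category.assoc, pullback.lift_snd, pullback.lift_snd, hc₂])
  refine ⟨l, ?_, ?_⟩
  · have := congrArg (· ≫ pullback.fst f f) hl
    simp only [Category.assoc, pullback.lift_fst] at this
    exact this
  · have := congrArg (· ≫ pullback.snd f f) hl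
    simp only [Category.assoc, pullback.lift_snd] at this
    exact this

/-- **S13044, general form**: a flat closed relation with flat projections on a flat `B`-scheme is
an equivalence relation on points as soon as it is one on points over a scheme-theoretically
dominant quasi-compact `BK ⟶ B`. -/
theorem equivalence_of_generic [Flat f] (hΓ : IsClosedImmersion (pullback.lift p₁ p₂ h))
    [Flat (p₁ ≫ f)] [Flat p₁] [Flat p₂]
    (hK : ∀ (T : Scheme.{u}) (t : T ⟶ B), (∃ s : T ⟶ BK, t = s ≫ e) →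
      _root_.Equivalence fun a b : {a : T ⟶ Y // a ≫ f = t} =>
        ∃ c : T ⟶ Γ, c ≫ p₁ = a.1 ∧ c ≫ p₂ = b.1) :
    ∀ (T : Scheme.{u}) (t : T ⟶ B),
      _root_.Equivalence fun a b : {a : T ⟶ Y // a ≫ f = t} =>
        ∃ c : T ⟶ Γ, c ≫ p₁ = a.1 ∧ c ≫ p₂ = b.1 := by
  haveI := hΓ
  -- reflexivity
  obtain ⟨r, hr₁, hr₂⟩ : ∃ r : Y ⟶ Γ, r ≫ p₁ = 𝟙 Y ∧ r ≫ p₂ = 𝟙 Y := by
    obtain ⟨c, hc₁, hc₂⟩ := (hK (pullback f e) (pullback.fst f e ≫ f)
      ⟨pullback.snd f e, pullback.condition⟩).refl ⟨pullback.fst f e, rfl⟩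
    exact exists_lift_of_flat e f p₁ p₂ h f (𝟙 Y) (𝟙 Y) (Category.id_comp _) (Category.id_comp _) c
      (by rw [hc₁, Category.comp_id]) (by rw [hc₂, Category.comp_id])
  -- symmetry
  obtain ⟨σ, hσ₁, hσ₂⟩ : ∃ σ : Γ ⟶ Γ, σ ≫ p₁ = p₂ ∧ σ ≫ p₂ = p₁ := by
    obtain ⟨c, hc₁, hc₂⟩ := (hK (pullback (p₁ ≫ f) e) (pullback.fst (p₁ ≫ f) e ≫ p₁ ≫ f)
      ⟨pullback.snd (p₁ ≫ f) e, pullback.condition⟩).symm
      (x := ⟨pullback.fst (p₁ ≫ f) e ≫ p₁, by rw [Category.assoc]⟩)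
      (y := ⟨pullback.fst (p₁ ≫ f) e ≫ p₂, by rw [Category.assoc, h]⟩)
      ⟨pullback.fst (p₁ ≫ f) e, rfl, rfl⟩
    exact exists_lift_of_flat e f p₁ p₂ h (p₁ ≫ f) p₂ p₁ h.symm rfl c hc₁ hc₂
  -- transitivity
  obtain ⟨m, hm₁, hm₂⟩ : ∃ m : pullback p₂ p₁ ⟶ Γ,
      m ≫ p₁ = pullback.fst p₂ p₁ ≫ p₁ ∧ m ≫ p₂ = pullback.snd p₂ p₁ ≫ p₂ := by
    obtain ⟨w, hw⟩ : ∃ w : pullback p₂ p₁ ⟶ B, w = pullback.fst p₂ p₁ ≫ p₁ ≫ f := ⟨_, rfl⟩
    haveI : Flat w := by rw [hw]; infer_instance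
    have hwa : (pullback.fst p₂ p₁ ≫ p₁) ≫ f = w := by rw [hw, Category.assoc]
    have hwb : (pullback.fst p₂ p₁ ≫ p₂) ≫ f = w := by rw [hw, Category.assoc, h]
    have hw2 : (pullback.snd p₂ p₁ ≫ p₂) ≫ f = w := by
      rw [hw, Category.assoc, ← h, ← pullback.condition_assoc, h]
    obtain ⟨c, hc₁, hc₂⟩ := (hK (pullback w e) (pullback.fst w e ≫ w)
      ⟨pullback.snd w e, pullback.condition⟩).trans
      (x := ⟨pullback.fst w e ≫ pullback.fst p₂ p₁ ≫ p₁, by rw [Category.assoc, hwa]⟩)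
      (y := ⟨pullback.fst w e ≫ pullback.fst p₂ p₁ ≫ p₂, by rw [Category.assoc, hwb]⟩)
      (z := ⟨pullback.fst w e ≫ pullback.snd p₂ p₁ ≫ p₂, by rw [Category.assoc, hw2]⟩)
      ⟨pullback.fst w e ≫ pullback.fst p₂ p₁, Category.assoc _ _ _, Category.assoc _ _ _⟩
      ⟨pullback.fst w e ≫ pullback.snd p₂ p₁,
        (Category.assoc _ _ _).trans (by
          show _ = pullback.fst w e ≫ pullback.fst p₂ p₁ ≫ p₂
          rw [pullback.condition]), Category.assoc _ _ _⟩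
    exact exists_lift_of_flat e f p₁ p₂ h w (pullback.fst p₂ p₁ ≫ p₁) (pullback.snd p₂ p₁ ≫ p₂)
      hwa hw2 c hc₁ hc₂
  intro T t
  refine ⟨fun a => ⟨a.1 ≫ r, ?_, ?_⟩, ?_, ?_⟩
  · rw [Category.assoc, hr₁, Category.comp_id]
  · rw [Category.assoc, hr₂, Category.comp_id]
  · rintro a b ⟨c, hc₁, hc₂⟩
    exact ⟨c ≫ σ, by rw [Category.assoc, hσ₁, hc₂], by rw [Category.assoc, hσ₂, hc₁]⟩
  · rintro a b d ⟨c₁, hc₁, hc₁'⟩ ⟨c₂, hc₂, hc₂'⟩
    refine ⟨pullback.lift c₁ c₂ (by rw [hc₁', hc₂]) ≫ m, ?_, ?_⟩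
    · rw [Category.assoc, hm₁, pullback.lift_fst_assoc, hc₁]
    · rw [Category.assoc, hm₂, pullback.lift_snd_assoc, hc₂']

end Groth.Agent.Lib.H9FlatEqRel
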