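import Mathlib

set_option autoImplicit false
universe u
open TensorProduct

namespace Groth.Agent.Lib.H9FlatOpenAlg

/-- a flat quotient has a pure kernel. -/
theorem exists_mul_one_sub_eq_zero {A B : Type*} [CommRing A] [CommRing B] (φ : A →+* B)
    (hsurj : Function.Surjective φ) (hflat : φ.Flat) (y : A) (hy : φ y = 0) :
    ∃ z : A, φ z = 0 ∧ y * (1 - z) = 0 := by
  letI := φ.toAlgebra
  haveI : Module.Flat A B := hflat
  have h0 : ∑ _i : Unit, (fun _ : Unit => y) _i • (fun _ : Unit => (1 : B)) _i = 0 := by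
    simp only [Finset.univ_unique, Finset.sum_singleton]
    rw [Algebra.smul_def, mul_one]
    exact hy
  obtain ⟨k, a, w, hx, hfa⟩ := Module.Flat.isTrivialRelation_of_sum_smul_eq_zero (R := A) (M := B)
    (f := fun _ : Unit => y) (x := fun _ : Unit => (1 : B)) h0
  choose w' hw' using fun j => hsurj (w j)
  refine ⟨1 - ∑ j, a () j * w' j, ?_, ?_⟩
  · rw [map_sub, map_one, map_sum]
    have h1 := hx ()
    simp only at h1
    rw [h1, sub_eq_zero]
    refine Finset.sum_congr rfl fun j _ => ?_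
    rw [map_mul, hw', Algebra.smul_def]
    rfl
  · rw [sub_sub_cancel, Finset.mul_sum]
    refine Finset.sum_eq_zero fun j _ => ?_
    have h2 := hfa j
    simp only [Finset.univ_unique, Finset.sum_singleton] at h2
    rw [← mul_assoc, h2, zero_mul]

/-- the consequence of finite presentation after inverting `u` that we use. -/
theorem exists_finset_of_finitePresentation {A B Aj Bj : Type u} [CommRing A] [CommRing B]
    [CommRing Aj] [CommRing Bj] (φ : A →+* B) (hsurj : Function.Surjective φ) (u : A)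
    (lA : A →+* Aj) (lB : B →+* Bj) (ψ : Aj →+* Bj)
    (hA : @IsLocalization.Away A _ u Aj _ lA.toAlgebra)
    (hB : @IsLocalization.Away B _ (φ u) Bj _ lB.toAlgebra)
    (hcomm : ψ.comp lA = lB.comp φ) (hfp : ψ.FinitePresentation) :
    ∃ F : Finset A, (∀ y ∈ F, φ y = 0) ∧ ∀ x : A, φ x = 0 → ∀ e : A, (∀ y ∈ F, e * y = 0) →
      ∃ k : ℕ, u ^ k * (e * x) = 0 := by
  classical
  letI := lA.toAlgebra
  letI := lB.toAlgebra
  haveI := hA
  haveI := hB
  have hcomm' : ∀ a, ψ (lA a) = lB (φ a) := fun a => by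
    have := congrArg (fun f => f a) hcomm
    simpa using this
  -- `ψ` is surjective
  have hψsurj : Function.Surjective ψ := by
    intro z
    obtain ⟨⟨b, ⟨_, n, rfl⟩⟩, hb⟩ := IsLocalization.surj (Submonoid.powers (φ u)) z
    change z * lB (φ u ^ n) = lB b at hb
    obtain ⟨a, rfl⟩ := hsurj b
    have hunit : IsUnit (lA (u ^ n)) := by
      have := IsLocalization.map_units Aj (⟨u ^ n, n, rfl⟩ : Submonoid.powers u)
      exact this
    obtain ⟨v, hv⟩ := hunit
    refine ⟨lA a * ↑v⁻¹, ?_⟩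
    have hunitB : IsUnit (lB (φ (u ^ n))) := by
      rw [← hcomm', ← hv]
      exact (v.isUnit).map ψ
    apply hunitB.mul_right_cancel
    rw [map_mul, hcomm', mul_assoc, ← hcomm' (u ^ n), ← hv, ← map_mul, Units.inv_mul, map_one,
      mul_one]
    rw [hv, hcomm', map_pow, hb]
  -- kernel finitely generated
  letI := ψ.toAlgebra
  haveI : Algebra.FinitePresentation Aj Bj := hfp
  have hker : (RingHom.ker ψ).FG := by
    have := Algebra.FinitePresentation.ker_fG_of_surjective (Algebra.ofId Aj Bj) hψsurj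
    exact this
  obtain ⟨G, hG⟩ := hker
  -- clear denominators
  have hg : ∀ g ∈ G, ∃ y : A, φ y = 0 ∧ ∃ n : ℕ, g * lA (u ^ n) = lA y := by
    intro g hgG
    have hgker : ψ g = 0 := by
      have : g ∈ RingHom.ker ψ := by rw [← hG]; exact Ideal.subset_span hgG
      exact this
    obtain ⟨⟨a, ⟨_, n, rfl⟩⟩, ha⟩ := IsLocalization.surj (Submonoid.powers u) g
    have ha' : g * lA (u ^ n) = lA a := ha
    have h1 : lB (φ a) = 0 := by
      rw [← hcomm', ← ha', map_mul, hgker, zero_mul]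
    have h2 : (algebraMap B Bj) (φ a) = (algebraMap B Bj) 0 := by
      rw [map_zero]; exact h1
    obtain ⟨⟨_, m', rfl⟩, hc⟩ := (IsLocalization.eq_iff_exists (Submonoid.powers (φ u)) Bj).mp h2
    change φ u ^ m' * φ a = φ u ^ m' * 0 at hc
    refine ⟨u ^ m' * a, ?_, n + m', ?_⟩
    · rw [map_mul, map_pow, hc, mul_zero]
    · rw [pow_add, map_mul, ← mul_assoc, ha', map_mul, mul_comm]
  choose! yy hyy nn hnn using hg
  refine ⟨G.image yy, ?_, ?_⟩
  · intro y hy
    obtain ⟨g, hgG, rfl⟩ := Finset.mem_image.mp hy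
    exact hyy g hgG
  · intro x hx e he
    have hxker : lA x ∈ Ideal.span (G : Set Aj) := by
      rw [hG]
      change ψ (lA x) = 0
      rw [hcomm', hx, map_zero]
    have hann : Ideal.span (G : Set Aj) ≤ (Ideal.span {lA e}).annihilator := by
      rw [Ideal.span_le]
      intro g hgG
      rw [SetLike.mem_coe, Submodule.mem_annihilator_span_singleton]
      have h1 : lA (e * yy g) = 0 := by
        rw [he (yy g) (Finset.mem_image_of_mem yy hgG), map_zero]
      rw [map_mul, ← hnn g hgG, ← mul_assoc] at h1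
      have hunit : IsUnit (lA (u ^ nn g)) :=
        IsLocalization.map_units Aj (⟨u ^ nn g, nn g, rfl⟩ : Submonoid.powers u)
      have h2 := hunit.mul_left_eq_zero.mp h1
      rw [smul_eq_mul, mul_comm]
      exact h2
    have h3 := hann hxker
    rw [Submodule.mem_annihilator_span_singleton, smul_eq_mul] at h3
    have h4 : (algebraMap A Aj) (e * x) = (algebraMap A Aj) 0 := by
      rw [map_zero]
      change lA (e * x) = 0
      rw [map_mul, mul_comm]; exact h3
    obtain ⟨⟨_, k, rfl⟩, hc⟩ := (IsLocalization.eq_iff_exists (Submonoid.powers u) Aj).mp h4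
    change u ^ k * (e * x) = u ^ k * 0 at hc
    exact ⟨k, by rw [hc, mul_zero]⟩

/-- a flat surjection that is finitely presented over a finite family of localizations that is
jointly "dense" has kernel generated by an idempotent. -/
theorem exists_idempotent_ker {A B : Type u} [CommRing A] [CommRing B] (φ : A →+* B)
    (hsurj : Function.Surjective φ) (hflat : φ.Flat) {ι : Type*} [Finite ι] (u : ι → A)
    (hdense : ∀ a : A, (∀ j, ∃ k : ℕ, u j ^ k * a = 0) → a = 0)
    (hfp : ∀ j, ∃ (Aj Bj : Type u) (_ : CommRing Aj) (_ : CommRing Bj) (lA : A →+* Aj)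
      (lB : B →+* Bj) (ψ : Aj →+* Bj), @IsLocalization.Away A _ (u j) Aj _ lA.toAlgebra ∧
        @IsLocalization.Away B _ (φ (u j)) Bj _ lB.toAlgebra ∧ ψ.comp lA = lB.comp φ ∧
        ψ.FinitePresentation) :
    ∃ e : A, IsIdempotentElem e ∧ RingHom.ker φ = Ideal.span {e} := by
  classical
  cases nonempty_fintype ι
  have hF : ∀ j, ∃ F : Finset A, (∀ y ∈ F, φ y = 0) ∧ ∀ x : A, φ x = 0 → ∀ e : A,
      (∀ y ∈ F, e * y = 0) → ∃ k : ℕ, u j ^ k * (e * x) = 0 := by
    intro j
    obtain ⟨Aj, Bj, _, _, lA, lB, ψ, hA, hB, hcomm, hψ⟩ := hfp j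
    exact exists_finset_of_finitePresentation φ hsurj (u j) lA lB ψ hA hB hcomm hψ
  choose F hFker hFprop using hF
  set FF : Finset A := Finset.univ.biUnion F with hFF
  have hFFker : ∀ y ∈ FF, φ y = 0 := by
    intro y hy
    obtain ⟨j, -, hyj⟩ := Finset.mem_biUnion.mp hy
    exact hFker j y hyj
  have hz : ∀ y : A, ∃ z : A, φ y = 0 → (φ z = 0 ∧ y * (1 - z) = 0) := by
    intro y
    by_cases hy : φ y = 0
    · obtain ⟨z, hz1, hz2⟩ := exists_mul_one_sub_eq_zero φ hsurj hflat y hy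
      exact ⟨z, fun _ => ⟨hz1, hz2⟩⟩
    · exact ⟨0, fun h => absurd h hy⟩
  choose z hz using hz
  set e' : A := ∏ y ∈ FF, (1 - z y) with he'
  have he'φ : φ e' = 1 := by
    rw [he', map_prod]
    refine Finset.prod_eq_one fun y hy => ?_
    rw [map_sub, map_one, (hz y (hFFker y hy)).1, sub_zero]
  have he'F : ∀ y ∈ FF, e' * y = 0 := by
    intro y hy
    rw [he', ← Finset.mul_prod_erase FF _ hy, mul_comm, ← mul_assoc, (hz y (hFFker y hy)).2,
      zero_mul]
  have hkill : ∀ x : A, φ x = 0 → e' * x = 0 := by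
    intro x hx
    apply hdense
    intro j
    exact hFprop j x hx e' fun y hy => he'F y (Finset.mem_biUnion.mpr ⟨j, Finset.mem_univ j, hy⟩)
  have hεker : φ (1 - e') = 0 := by rw [map_sub, map_one, he'φ, sub_self]
  refine ⟨1 - e', ?_, ?_⟩
  · have h1 := hkill (1 - e') hεker
    change (1 - e') * (1 - e') = 1 - e'
    have : (1 - e') * (1 - e') = (1 - e') - e' * (1 - e') := by ring
    rw [this, h1, sub_zero]
  · apply le_antisymm
    · intro x hx
      have h1 := hkill x hx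
      rw [Ideal.mem_span_singleton']
      refine ⟨x, ?_⟩
      have : x * (1 - e') = x - e' * x := by ring
      rw [this, h1, sub_zero]
    · rw [Ideal.span_le]
      intro x hx
      rw [Set.mem_singleton_iff] at hx
      rw [hx]
      exact hεker

/-- membership in the subalgebra generated by the inverse of a unit coming from `A`. -/
theorem mem_adjoin_inv_iff {A R' : Type*} [CommRing A] [CommRing R'] [Algebra A R'] (c : A)
    (v : R'ˣ) (hv : (v : R') = algebraMap A R' c) (x : R') :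
    x ∈ Algebra.adjoin A {((v⁻¹ : R'ˣ) : R')} ↔
      ∃ (α : A) (k : ℕ), x * (algebraMap A R' c) ^ k = algebraMap A R' α := by
  constructor
  · intro hx
    induction hx using Algebra.adjoin_induction with
    | mem y hy =>
      rw [Set.mem_singleton_iff] at hy
      refine ⟨1, 1, ?_⟩
      rw [hy, pow_one, ← hv, Units.inv_mul, map_one]
    | algebraMap r => exact ⟨r, 0, by rw [pow_zero, mul_one]⟩
    | add y z _ _ hy hz =>
      obtain ⟨α, k, hα⟩ := hy
      obtain ⟨β, l, hβ⟩ := hz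
      refine ⟨α * c ^ l + β * c ^ k, k + l, ?_⟩
      rw [map_add, map_mul, map_mul, map_pow, map_pow, ← hα, ← hβ]
      ring
    | mul y z _ _ hy hz =>
      obtain ⟨α, k, hα⟩ := hy
      obtain ⟨β, l, hβ⟩ := hz
      refine ⟨α * β, k + l, ?_⟩
      rw [map_mul, ← hα, ← hβ]
      ring
  · rintro ⟨α, k, hα⟩
    have hx : x = algebraMap A R' α * ((v⁻¹ : R'ˣ) : R') ^ k := by
      rw [← hα, ← hv, mul_assoc, ← mul_pow, Units.mul_inv, one_pow, mul_one]
    rw [hx]
    exact Subalgebra.mul_mem _ (Subalgebra.algebraMap_mem _ _)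
      (Subalgebra.pow_mem _ (Algebra.subset_adjoin (Set.mem_singleton _)) _)

/-- the image of `B` lies in the subalgebra generated by the inverse of `σ₀`. -/
theorem algebraMap_mem_adjoin_inv {A B R' : Type*} [CommRing A] [CommRing B] [CommRing R']
    [Algebra A B] [Algebra B R'] [Algebra A R'] [IsScalarTower A B R'] (s : Finset B)
    (hs : Algebra.adjoin A (s : Set B) = ⊤) (α σ : B → A) (γ : B → B)
    (hrel : ∀ b : B, γ b * (algebraMap A B (σ b) * b - algebraMap A B (α b)) = 0)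
    (hγunit : ∀ t ∈ s, IsUnit (algebraMap B R' (γ t)))
    (v₀ : R'ˣ) (hv₀ : (v₀ : R') = algebraMap A R' (∏ t ∈ s, σ t)) (b : B) :
    algebraMap B R' b ∈ Algebra.adjoin A {((v₀⁻¹ : R'ˣ) : R')} := by
  classical
  have hgen : ∀ t ∈ s, algebraMap B R' t ∈ Algebra.adjoin A {((v₀⁻¹ : R'ˣ) : R')} := by
    intro t ht
    rw [mem_adjoin_inv_iff (∏ t ∈ s, σ t) v₀ hv₀]
    refine ⟨α t * ∏ t' ∈ s.erase t, σ t', 1, ?_⟩
    have h1 : algebraMap B R' (algebraMap A B (σ t) * t - algebraMap A B (α t)) = 0 := by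
      have := congrArg (algebraMap B R') (hrel t)
      rw [map_mul, map_zero] at this
      exact (hγunit t ht).mul_right_eq_zero.mp this
    rw [map_sub, map_mul, sub_eq_zero] at h1
    rw [pow_one, ← Finset.mul_prod_erase s _ ht, map_mul, map_mul,
      IsScalarTower.algebraMap_apply A B R' (σ t), IsScalarTower.algebraMap_apply A B R' (α t),
      ← h1]
    ring
  have hb : b ∈ Algebra.adjoin A (s : Set B) := by rw [hs]; trivial
  have h1 : (IsScalarTower.toAlgHom A B R') b ∈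
      (Algebra.adjoin A (s : Set B)).map (IsScalarTower.toAlgHom A B R') :=
    ⟨b, hb, rfl⟩
  rw [AlgHom.map_adjoin] at h1
  refine (Algebra.adjoin_le ?_) h1
  rintro _ ⟨t, ht, rfl⟩
  exact hgen t ht

/-- a finite type algebra whose local ring at `q` is a quotient of the local ring of the base is,
near `q`, a quotient of a localization of the base. -/
theorem exists_away_surjective {A B : Type u} [CommRing A] [CommRing B] [Algebra A B]
    [Algebra.FiniteType A B] (q : Ideal B) [q.IsPrime]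
    (H : ∀ b : B, ∃ (α σ : A) (γ : B), algebraMap A B σ ∉ q ∧ γ ∉ q ∧
      γ * (algebraMap A B σ * b - algebraMap A B α) = 0) :
    ∃ (a : A) (g : B), algebraMap A B a ∉ q ∧ g ∉ q ∧
      ∀ (R' : Type u) [CommRing R'] [Algebra A R'] [Algebra B R'] [IsScalarTower A B R']
        [IsLocalization.Away g R'], IsUnit (algebraMap A R' a) ∧
      ∀ x : R', ∃ (α : A) (k : ℕ), x * (algebraMap A R' a) ^ k = algebraMap A R' α := by
  classical
  obtain ⟨s, hs⟩ := (Algebra.FiniteType.out : (⊤ : Subalgebra A B).FG)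
  choose α σ γ hσ hγ hrel using H
  have hσ₀q : algebraMap A B (∏ t ∈ s, σ t) ∉ q := by
    rw [map_prod]
    intro h
    obtain ⟨t, -, ht⟩ := (Ideal.IsPrime.prod_mem_iff (hp := ‹q.IsPrime›)).mp h
    exact hσ t ht
  have hγ₀q : (∏ t ∈ s, γ t) ∉ q := by
    intro h
    obtain ⟨t, -, ht⟩ := (Ideal.IsPrime.prod_mem_iff (hp := ‹q.IsPrime›)).mp h
    exact hγ t ht
  obtain ⟨σ₀, hσ₀⟩ : ∃ σ₀ : A, σ₀ = ∏ t ∈ s, σ t := ⟨_, rfl⟩
  obtain ⟨g₀, hg₀⟩ : ∃ g₀ : B, g₀ = (∏ t ∈ s, γ t) * algebraMap A B σ₀ := ⟨_, rfl⟩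
  rw [← hσ₀] at hσ₀q
  have hg₀q : g₀ ∉ q := fun h => (‹q.IsPrime›.mem_or_mem (hg₀ ▸ h)).elim hγ₀q hσ₀q
  -- facts valid in every localization
  have hunits : ∀ (R' : Type u) [CommRing R'] [Algebra A R'] [Algebra B R'] [IsScalarTower A B R']
      [IsLocalization.Away g₀ R'], IsUnit (algebraMap B R' g₀) ∧
        (∀ t ∈ s, IsUnit (algebraMap B R' (γ t))) ∧ IsUnit (algebraMap A R' σ₀) := by
    intro R' _ _ _ _ _
    have hg₀unit : IsUnit (algebraMap B R' g₀) :=
      IsLocalization.map_units R' (⟨g₀, 1, pow_one g₀⟩ : Submonoid.powers g₀)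
    have h1 : algebraMap B R' g₀ =
        algebraMap B R' (∏ t ∈ s, γ t) * algebraMap B R' (algebraMap A B σ₀) := by
      rw [← map_mul, ← hg₀]
    refine ⟨hg₀unit, ?_, ?_⟩
    · intro t ht
      have hγ₀unit : IsUnit (algebraMap B R' (∏ t ∈ s, γ t)) := by
        rw [h1] at hg₀unit
        exact isUnit_of_mul_isUnit_left hg₀unit
      rw [← Finset.mul_prod_erase s _ ht, map_mul] at hγ₀unit
      exact isUnit_of_mul_isUnit_left hγ₀unit
    · rw [IsScalarTower.algebraMap_apply A B R']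
      rw [h1] at hg₀unit
      exact isUnit_of_mul_isUnit_right hg₀unit
  -- find `β` in a particular localization
  obtain ⟨β, k, m, hβ⟩ : ∃ (β : A) (k m : ℕ),
      g₀ ^ m * (g₀ * algebraMap A B σ₀ ^ k) = g₀ ^ m * algebraMap A B β := by
    obtain ⟨hg₀unit, hγunit, hσ₀unit⟩ := hunits (Localization.Away g₀)
    obtain ⟨v₀, hv₀⟩ := hσ₀unit
    have hv₀' : (v₀ : Localization.Away g₀) =
        algebraMap A (Localization.Away g₀) (∏ t ∈ s, σ t) := by rw [hv₀, hσ₀]
    have himg := algebraMap_mem_adjoin_inv s hs α σ γ hrel hγunit v₀ hv₀' g₀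
    obtain ⟨β, k, hβ⟩ := (mem_adjoin_inv_iff _ v₀ hv₀' _).mp himg
    rw [← hσ₀] at hβ
    have h1 : algebraMap B (Localization.Away g₀) (g₀ * algebraMap A B σ₀ ^ k) =
        algebraMap B (Localization.Away g₀) (algebraMap A B β) := by
      rw [map_mul, map_pow, ← IsScalarTower.algebraMap_apply A B, ← IsScalarTower.algebraMap_apply A B]
      exact hβ
    obtain ⟨⟨_, m, rfl⟩, hc⟩ :=
      (IsLocalization.eq_iff_exists (Submonoid.powers g₀) (Localization.Away g₀)).mp h1
    exact ⟨β, k, m, hc⟩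
  have hβq : algebraMap A B β ∉ q := by
    intro hmem
    have h2 : g₀ ^ m * (g₀ * algebraMap A B σ₀ ^ k) ∈ q := by
      rw [hβ]
      exact Ideal.mul_mem_left _ _ hmem
    rcases ‹q.IsPrime›.mem_or_mem h2 with h3 | h3
    · exact hg₀q (‹q.IsPrime›.mem_of_pow_mem _ h3)
    · rcases ‹q.IsPrime›.mem_or_mem h3 with h4 | h4
      · exact hg₀q h4
      · exact hσ₀q (‹q.IsPrime›.mem_of_pow_mem _ h4)
  refine ⟨σ₀ * β, g₀, ?_, hg₀q, ?_⟩
  · rw [map_mul]
    exact fun h => (‹q.IsPrime›.mem_or_mem h).elim hσ₀q hβq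
  intro R' _ _ _ _ _
  obtain ⟨hg₀unit, hγunit, hσ₀unit⟩ := hunits R'
  obtain ⟨v₀, hv₀⟩ := hσ₀unit
  obtain ⟨ug, hug⟩ := hg₀unit
  have hv₀' : (v₀ : R') = algebraMap A R' (∏ t ∈ s, σ t) := by rw [hv₀, hσ₀]
  have hβ' : algebraMap A R' β = (ug : R') * (v₀ : R') ^ k := by
    have h1 := congrArg (algebraMap B R') hβ
    rw [map_mul, map_mul, map_mul, map_pow, map_pow, ← IsScalarTower.algebraMap_apply A B R',
      ← IsScalarTower.algebraMap_apply A B R', ← hug, ← hv₀] at h1
    exact ((ug ^ m).isUnit.mul_left_cancel (by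
      rw [Units.val_pow_eq_pow_val]
      exact h1.symm))
  have hβunit : IsUnit (algebraMap A R' β) := by
    rw [hβ']
    exact ug.isUnit.mul (v₀.isUnit.pow k)
  have haunit : IsUnit (algebraMap A R' (σ₀ * β)) := by
    rw [map_mul, ← hv₀]
    exact v₀.isUnit.mul hβunit
  refine ⟨haunit, ?_⟩
  obtain ⟨w, hw⟩ := haunit
  intro x
  rw [← mem_adjoin_inv_iff (σ₀ * β) w hw]
  have hle : Algebra.adjoin A {((v₀⁻¹ : R'ˣ) : R')} ≤ Algebra.adjoin A {((w⁻¹ : R'ˣ) : R')} := by
    apply Algebra.adjoin_le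
    rintro _ rfl
    rw [SetLike.mem_coe, mem_adjoin_inv_iff (σ₀ * β) w hw]
    refine ⟨β, 1, ?_⟩
    rw [pow_one, map_mul, ← hv₀, ← mul_assoc, Units.inv_mul, one_mul]
  have hginv : ((ug⁻¹ : R'ˣ) : R') ∈ Algebra.adjoin A {((w⁻¹ : R'ˣ) : R')} := by
    rw [mem_adjoin_inv_iff (σ₀ * β) w hw]
    refine ⟨σ₀ ^ (k + 1), 1, ?_⟩
    rw [pow_one, map_mul, hβ', map_pow, ← hv₀, pow_succ]
    have : ((ug⁻¹ : R'ˣ) : R') * ((v₀ : R') * ((ug : R') * (v₀ : R') ^ k)) =
        ((ug⁻¹ : R'ˣ) : R') * (ug : R') * ((v₀ : R') ^ k * (v₀ : R')) := by ring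
    rw [this, Units.inv_mul, one_mul]
  obtain ⟨⟨b, ⟨_, n, rfl⟩⟩, hb⟩ := IsLocalization.surj (Submonoid.powers g₀) x
  change x * algebraMap B R' (g₀ ^ n) = algebraMap B R' b at hb
  have hx : x = algebraMap B R' b * ((ug⁻¹ : R'ˣ) : R') ^ n := by
    rw [← hb, map_pow, ← hug, mul_assoc, ← mul_pow, Units.mul_inv, one_pow, mul_one]
  rw [hx]
  exact Subalgebra.mul_mem _
    (hle (algebraMap_mem_adjoin_inv s hs α σ γ hrel hγunit v₀ hv₀' b))
    (Subalgebra.pow_mem _ hginv _)


end Groth.Agent.Lib.H9FlatOpenAlg
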