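import Mathlib
import Groth.Prelude.Def_CInt
import Groth.Agent.S0386

set_option autoImplicit false
universe u
open CategoryTheory CategoryTheory.Limits AlgebraicGeometry TopologicalSpace Opposite

namespace Groth.Agent.Lib.H9NeronTFAE

/-- `f` is a monomorphism over an open over which it is an isomorphism. -/
theorem eq_of_comp_eq_of_isIso_restrict {X S P : Scheme.{u}} (f : X ⟶ S) (U : S.Opens)
    [IsIso (f ∣_ U)] (a₁ a₂ : P ⟶ X) (h : a₁ ≫ f = a₂ ≫ f) (hU : ∀ p, (a₁ ≫ f) p ∈ U) :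
    a₁ = a₂ := by
  have hr : ∀ (a : P ⟶ X), (∀ p, (a ≫ f) p ∈ U) → Set.range a ⊆ Set.range (f ⁻¹ᵁ U).ι := by
    intro a ha
    rintro _ ⟨p, rfl⟩
    rw [Scheme.Opens.range_ι]
    exact ha p
  have hU2 : ∀ p, (a₂ ≫ f) p ∈ U := by rw [← h]; exact hU
  have e₁ : IsOpenImmersion.lift (f ⁻¹ᵁ U).ι a₁ (hr a₁ hU) ≫ (f ⁻¹ᵁ U).ι = a₁ :=
    IsOpenImmersion.lift_fac _ _ _
  have e₂ : IsOpenImmersion.lift (f ⁻¹ᵁ U).ι a₂ (hr a₂ hU2) ≫ (f ⁻¹ᵁ U).ι = a₂ :=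
    IsOpenImmersion.lift_fac _ _ _
  have key : IsOpenImmersion.lift (f ⁻¹ᵁ U).ι a₁ (hr a₁ hU) ≫ (f ∣_ U) =
      IsOpenImmersion.lift (f ⁻¹ᵁ U).ι a₂ (hr a₂ hU2) ≫ (f ∣_ U) := by
    rw [← cancel_mono U.ι, Category.assoc, Category.assoc, morphismRestrict_ι, reassoc_of% e₁,
      reassoc_of% e₂, h]
  rw [← e₁, ← e₂, (cancel_mono (f ∣_ U)).mp key]

/-- schematic density in the sense of injectivity of restriction maps gives a scheme-theoretically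
dominant inclusion of open subschemes. -/
theorem ker_homOfLE_eq_bot_of_dense {X : Scheme.{u}} [IsLocallyNoetherian X] (D : X.Opens)
    (hD : CInt.IsSchematicallyDense D) (W : X.Opens) :
    (X.homOfLE (inf_le_left : W ⊓ D ≤ W)).ker = ⊥ := by
  rw [eq_bot_iff]
  intro W'
  rw [Scheme.Hom.ker_apply]
  intro a ha
  rw [RingHom.mem_ker, Scheme.homOfLE_app] at ha
  change a = 0
  -- `a` is a section of `X` over `W.ι ''ᵁ W'`
  have hle : (W ⊓ D).ι ''ᵁ ((X.homOfLE (inf_le_left : W ⊓ D ≤ W)) ⁻¹ᵁ W'.1) =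
      (W.ι ''ᵁ W'.1) ⊓ D := by
    ext x
    constructor
    · rintro ⟨y, hy, rfl⟩
      refine ⟨⟨⟨y.1, y.2.1⟩, ?_, rfl⟩, y.2.2⟩
      have : (X.homOfLE (inf_le_left : W ⊓ D ≤ W)) y = ⟨y.1, y.2.1⟩ := by
        apply Subtype.ext; rw [Scheme.homOfLE_apply]
      rw [← this]; exact hy
    · rintro ⟨⟨w, hw, rfl⟩, hxD⟩
      refine ⟨⟨w.1, w.2, hxD⟩, ?_, rfl⟩
      have : (X.homOfLE (inf_le_left : W ⊓ D ≤ W)) ⟨w.1, w.2, hxD⟩ = w := by
        apply Subtype.ext; rw [Scheme.homOfLE_apply]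
      change (X.homOfLE (inf_le_left : W ⊓ D ≤ W)) ⟨w.1, w.2, hxD⟩ ∈ W'.1
      rw [this]; exact hw
  apply hD (W.ι ''ᵁ W'.1)
  change (X.presheaf.map (homOfLE (inf_le_left : (W.ι ''ᵁ W'.1) ⊓ D ≤ W.ι ''ᵁ W'.1)).op).hom a =
    (X.presheaf.map (homOfLE (inf_le_left : (W.ι ''ᵁ W'.1) ⊓ D ≤ W.ι ''ᵁ W'.1)).op).hom 0
  rw [map_zero]
  have key : ∀ (O : X.Opens) (hO : O = (W.ι ''ᵁ W'.1) ⊓ D) (hO' : O ≤ W.ι ''ᵁ W'.1),
      (X.presheaf.map (homOfLE hO').op).hom a = 0 →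
      (X.presheaf.map (homOfLE (inf_le_left : (W.ι ''ᵁ W'.1) ⊓ D ≤ W.ι ''ᵁ W'.1)).op).hom a = 0 := by
    rintro _ rfl _ h; exact h
  exact key _ hle _ ha

/-- a flat separated morphism `W ⟶ X ⟶ S` (with `X ⟶ S` an isomorphism over `U`) whose source has
a scheme-theoretically dense part over `U` is a monomorphism. -/
theorem mono_ι_comp {X S : Scheme.{u}} (f : X ⟶ S) (U : S.Opens) [IsIso (f ∣_ U)] (W : X.Opens)
    [Flat (W.ι ≫ f)] [IsSeparated (W.ι ≫ f)] {P : Scheme.{u}} (j : P ⟶ W.toScheme)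
    [QuasiCompact j] (hj : j.ker = ⊥) (hjU : ∀ p, (j ≫ W.ι ≫ f) p ∈ U) : Mono (W.ι ≫ f) := by
  rw [← pullback.isIso_diagonal_iff, IsClosedImmersion.isIso_iff_ker_eq_bot]
  haveI : IsSchemeTheoreticallyDominant j := ⟨hj⟩
  have hdom : (pullback.snd j (pullback.fst (W.ι ≫ f) (W.ι ≫ f))).ker = ⊥ :=
    Scheme.Hom.ker_eq_bot _
  have hfs : pullback.snd j (pullback.fst (W.ι ≫ f) (W.ι ≫ f)) ≫
      pullback.fst (W.ι ≫ f) (W.ι ≫ f) =
      pullback.snd j (pullback.fst (W.ι ≫ f) (W.ι ≫ f)) ≫ pullback.snd (W.ι ≫ f) (W.ι ≫ f) := by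
    apply (cancel_mono W.ι).mp
    apply eq_of_comp_eq_of_isIso_restrict f U
    · rw [Category.assoc, Category.assoc, Category.assoc, Category.assoc, pullback.condition]
    · intro p
      have h1 : (pullback.snd j (pullback.fst (W.ι ≫ f) (W.ι ≫ f)) ≫
          pullback.fst (W.ι ≫ f) (W.ι ≫ f)) ≫ W.ι ≫ f =
          pullback.fst j (pullback.fst (W.ι ≫ f) (W.ι ≫ f)) ≫ j ≫ W.ι ≫ f := by
        rw [Category.assoc, ← pullback.condition_assoc]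
      rw [Category.assoc, h1]
      exact hjU _
  have hfac : pullback.snd j (pullback.fst (W.ι ≫ f) (W.ι ≫ f)) =
      (pullback.snd j (pullback.fst (W.ι ≫ f) (W.ι ≫ f)) ≫ pullback.fst (W.ι ≫ f) (W.ι ≫ f)) ≫
        pullback.diagonal (W.ι ≫ f) := by
    apply pullback.hom_ext
    · rw [Category.assoc, pullback.diagonal_fst, Category.comp_id]
    · rw [Category.assoc, pullback.diagonal_snd, Category.comp_id, hfs]
  have h2 := Scheme.Hom.le_ker_comp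
    (pullback.snd j (pullback.fst (W.ι ≫ f) (W.ι ≫ f)) ≫ pullback.fst (W.ι ≫ f) (W.ι ≫ f))
    (pullback.diagonal (W.ι ≫ f))
  rw [← hfac, hdom] at h2
  exact le_bot_iff.mp h2

/-- flat at `x` implies `f` is an open immersion near `x`. -/
theorem of_flat {X S : Scheme.{u}} [IsNoetherian S] (f : X ⟶ S) [LocallyOfFiniteType f]
    (U : S.Opens) (hiso : IsIso (f ∣_ U)) (hdense : CInt.IsSchematicallyDense (f ⁻¹ᵁ U)) (x : X)
    (hfl : (f.stalkMap x).hom.Flat) :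
    ∃ W : X.Opens, x ∈ W ∧ IsOpenImmersion (W.ι ≫ f) := by
  haveI : IsLocallyNoetherian X := LocallyOfFiniteType.isLocallyNoetherian f
  have hopen0 := Groth.Agent.S0386.result f
  obtain ⟨F, hF⟩ : ∃ F : X.Opens, (F : Set X) = {x : X | (f.stalkMap x).hom.Flat} :=
    ⟨⟨_, hopen0⟩, rfl⟩
  obtain ⟨V₀, hV₀, hxV₀, -⟩ := exists_isAffineOpen_mem_and_subset (x := f x) (U := (⊤ : S.Opens))
    trivial
  have hxF : x ∈ F := by
    change x ∈ (F : Set X); rw [hF]; exact hfl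
  obtain ⟨W, hW, hxW, hWle⟩ := exists_isAffineOpen_mem_and_subset (x := x) (U := F ⊓ f ⁻¹ᵁ V₀)
    ⟨hxF, hxV₀⟩
  refine ⟨W, hxW, ?_⟩
  haveI : Flat (W.ι ≫ f) := by
    rw [Flat.iff_flat_stalkMap]
    intro w
    rw [Scheme.Hom.stalkMap_comp]
    have h1 : (f.stalkMap (W.ι w)).hom.Flat := by
      have hw : (w.1 : X) ∈ (F : Set X) := (hWle w.2).1
      rw [hF] at hw
      exact hw
    have h2 : (W.ι.stalkMap w).hom.Flat := Flat.stalkMap W.ι w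
    exact RingHom.Flat.comp h1 h2
  haveI : IsAffine W.toScheme := hW
  haveI : IsAffine V₀.toScheme := hV₀
  have hWV : ∀ w : W.toScheme, (W.ι ≫ f) w ∈ V₀ := fun w => (hWle w.2).2
  have hrange : Set.range (W.ι ≫ f) ⊆ Set.range V₀.ι := by
    rintro _ ⟨w, rfl⟩
    rw [Scheme.Opens.range_ι]
    exact hWV w
  haveI : IsSeparated (W.ι ≫ f) := by
    rw [← IsOpenImmersion.lift_fac V₀.ι (W.ι ≫ f) hrange]
    infer_instance
  haveI := hiso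
  haveI : Mono (W.ι ≫ f) :=
    mono_ι_comp f U W (X.homOfLE (inf_le_left : W ⊓ f ⁻¹ᵁ U ≤ W))
      (ker_homOfLE_eq_bot_of_dense (f ⁻¹ᵁ U) hdense W) (fun p => by
        have h1 : (X.homOfLE (inf_le_left : W ⊓ f ⁻¹ᵁ U ≤ W) ≫ W.ι ≫ f) p = f p.1 := by
          rw [Scheme.homOfLE_ι_assoc]; rfl
        rw [h1]
        exact p.2.2)
  exact IsOpenImmersion.of_flat_of_mono (W.ι ≫ f)

/-- flat at `x` gives a local section through `x`. -/
theorem section_of_flat {X S : Scheme.{u}} [IsNoetherian S] (f : X ⟶ S) [LocallyOfFiniteType f]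
    (U : S.Opens) (hiso : IsIso (f ∣_ U)) (hdense : CInt.IsSchematicallyDense (f ⁻¹ᵁ U)) (x : X)
    (hfl : (f.stalkMap x).hom.Flat) :
    ∃ (V : S.Opens) (hV : f x ∈ V) (σ : (V : Scheme.{u}) ⟶ X),
      σ ≫ f = V.ι ∧ σ ⟨f x, hV⟩ = x := by
  obtain ⟨W, hxW, hW⟩ := of_flat f U hiso hdense x hfl
  haveI := hW
  have hV : f x ∈ (W.ι ≫ f).opensRange := ⟨⟨x, hxW⟩, rfl⟩
  refine ⟨(W.ι ≫ f).opensRange, hV, (W.ι ≫ f).isoOpensRange.inv ≫ W.ι, ?_, ?_⟩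
  · rw [Category.assoc]
    exact Scheme.Hom.isoOpensRange_inv_comp (W.ι ≫ f)
  · have h1 : (W.ι ≫ f).isoOpensRange.hom ⟨x, hxW⟩ = ⟨f x, hV⟩ := by
      apply Subtype.ext
      change ((W.ι ≫ f).isoOpensRange.hom ≫ (W.ι ≫ f).opensRange.ι) ⟨x, hxW⟩ = f x
      rw [Scheme.Hom.isoOpensRange_hom_ι]
      rfl
    rw [← h1]
    change W.ι (((W.ι ≫ f).isoOpensRange.hom ≫ (W.ι ≫ f).isoOpensRange.inv) ⟨x, hxW⟩) = x
    rw [Iso.hom_inv_id]
    rfl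

/-- étale near `x` implies flat at `x`. -/
theorem flat_of_etale {X S : Scheme.{u}} (f : X ⟶ S) (x : X) (W : X.Opens) (hxW : x ∈ W)
    [Flat (W.ι ≫ f)] : (f.stalkMap x).hom.Flat := by
  have h1 : ((W.ι ≫ f).stalkMap ⟨x, hxW⟩).hom.Flat := Flat.stalkMap _ _
  rw [Scheme.Hom.stalkMap_comp] at h1
  have hbij : Function.Bijective (W.ι.stalkMap ⟨x, hxW⟩).hom :=
    (ConcreteCategory.isIso_iff_bijective (W.ι.stalkMap ⟨x, hxW⟩)).mp inferInstance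
  have h2 := (RingHom.Flat.comp_iff_of_bijective_left
    (f := (f.stalkMap (W.ι ⟨x, hxW⟩)).hom) hbij).mp h1
  exact h2

/-- a local section through `x` makes `f` an open immersion near `x`. -/
theorem of_section {X S : Scheme.{u}} [IsNoetherian S] (f : X ⟶ S) [LocallyOfFiniteType f]
    (U : S.Opens) (hiso : IsIso (f ∣_ U)) (hdense : CInt.IsSchematicallyDense (f ⁻¹ᵁ U)) (x : X)
    (V : S.Opens) (hV : f x ∈ V) (σ : (V : Scheme.{u}) ⟶ X) (hσ : σ ≫ f = V.ι)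
    (hσx : σ ⟨f x, hV⟩ = x) :
    ∃ W : X.Opens, x ∈ W ∧ IsOpenImmersion (W.ι ≫ f) := by
  haveI : IsLocallyNoetherian X := LocallyOfFiniteType.isLocallyNoetherian f
  haveI := hiso
  haveI : IsImmersion (σ ≫ f) := by rw [hσ]; infer_instance
  haveI : IsImmersion σ := IsImmersion.of_comp σ f
  obtain ⟨O₂, hO₂⟩ : ∃ O₂ : X.Opens, O₂ = σ.coborderRange ⊓ f ⁻¹ᵁ V := ⟨_, rfl⟩
  have hO₂c : O₂ ≤ σ.coborderRange := hO₂ ▸ inf_le_left
  have hO₂V : O₂ ≤ f ⁻¹ᵁ V := hO₂ ▸ inf_le_right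
  have hfσ : ∀ v, f (σ v) = V.ι v := by
    intro v
    change (σ ≫ f) v = _
    rw [hσ]
  have hσO₂ : Set.range σ ⊆ Set.range O₂.ι := by
    rintro _ ⟨v, rfl⟩
    rw [Scheme.Opens.range_ι, hO₂]
    refine ⟨?_, ?_⟩
    · have : σ v = σ.coborderRange.ι (σ.liftCoborder v) := by
        change _ = (σ.liftCoborder ≫ σ.coborderRange.ι) v
        rw [Scheme.Hom.liftCoborder_ι]
      rw [this]
      exact (σ.liftCoborder v).2
    · change f (σ v) ∈ V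
      rw [hfσ]
      exact v.2
  have hc₂ : IsOpenImmersion.lift O₂.ι σ hσO₂ ≫ O₂.ι = σ := IsOpenImmersion.lift_fac _ _ _
  obtain ⟨c₂, hc₂⟩ : ∃ c₂ : V.toScheme ⟶ O₂.toScheme, c₂ ≫ O₂.ι = σ := ⟨_, hc₂⟩
  haveI : IsClosedImmersion c₂ := by
    have h1 : c₂ ≫ X.homOfLE hO₂c = σ.liftCoborder := by
      rw [← cancel_mono σ.coborderRange.ι, Category.assoc, Scheme.homOfLE_ι, hc₂,
        Scheme.Hom.liftCoborder_ι]
    haveI : IsClosedImmersion (c₂ ≫ X.homOfLE hO₂c) := by rw [h1]; infer_instance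
    exact IsClosedImmersion.of_comp c₂ (X.homOfLE hO₂c)
  have hrV : Set.range (O₂.ι ≫ f) ⊆ Set.range V.ι := by
    rintro _ ⟨w, rfl⟩
    rw [Scheme.Opens.range_ι]
    exact hO₂V w.2
  obtain ⟨r₂, hr₂⟩ : ∃ r₂ : O₂.toScheme ⟶ V.toScheme, r₂ ≫ V.ι = O₂.ι ≫ f :=
    ⟨_, IsOpenImmersion.lift_fac V.ι (O₂.ι ≫ f) hrV⟩
  have hh := ker_homOfLE_eq_bot_of_dense (f ⁻¹ᵁ U) hdense O₂
  have hfac : X.homOfLE (inf_le_left : O₂ ⊓ f ⁻¹ᵁ U ≤ O₂) =
      (X.homOfLE (inf_le_left : O₂ ⊓ f ⁻¹ᵁ U ≤ O₂) ≫ r₂) ≫ c₂ := by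
    rw [← cancel_mono O₂.ι, Category.assoc, hc₂]
    apply eq_of_comp_eq_of_isIso_restrict f U
    · rw [Category.assoc, Category.assoc, Category.assoc, hσ, hr₂]
    · intro p
      rw [Scheme.homOfLE_ι]
      exact p.2.2
  have h2 := Scheme.Hom.le_ker_comp (X.homOfLE (inf_le_left : O₂ ⊓ f ⁻¹ᵁ U ≤ O₂) ≫ r₂) c₂
  rw [← hfac, hh] at h2
  haveI : IsIso c₂ := IsClosedImmersion.isIso_iff_ker_eq_bot.mpr (le_bot_iff.mp h2)
  haveI : IsOpenImmersion σ := by rw [← hc₂]; infer_instance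
  refine ⟨σ.opensRange, ⟨⟨f x, hV⟩, hσx⟩, ?_⟩
  have h3 : σ.opensRange.ι ≫ f = σ.isoOpensRange.inv ≫ V.ι := by
    rw [← hσ, ← Category.assoc, Scheme.Hom.isoOpensRange_inv_comp]
  rw [h3]
  infer_instance

/-- the equivalence of the three conditions. -/
theorem main {X S : Scheme.{u}} [IsNoetherian S] (f : X ⟶ S) [LocallyOfFiniteType f]
    (U : S.Opens) (hiso : IsIso (f ∣_ U)) (hdense : CInt.IsSchematicallyDense (f ⁻¹ᵁ U))
    (x : X) :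
    List.TFAE [
      ∃ W : X.Opens, x ∈ W ∧ Etale (W.ι ≫ f),
      (f.stalkMap x).hom.Flat,
      ∃ (V : S.Opens) (hV : f x ∈ V) (σ : (V : Scheme.{u}) ⟶ X),
        σ ≫ f = V.ι ∧ σ ⟨f x, hV⟩ = x] := by
  tfae_have 1 → 2 := by
    rintro ⟨W, hxW, hW⟩
    haveI := hW
    exact flat_of_etale f x W hxW
  tfae_have 2 → 3 := section_of_flat f U hiso hdense x
  tfae_have 3 → 1 := by
    rintro ⟨V, hV, σ, hσ, hσx⟩
    obtain ⟨W, hxW, hW⟩ := of_section f U hiso hdense x V hV σ hσ hσx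
    haveI := hW
    exact ⟨W, hxW, inferInstance⟩
  tfae_finish


end Groth.Agent.Lib.H9NeronTFAE
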