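import Mathlib
import Groth.Agent.Lib.H9NeronTFAE
import Groth.Agent.Lib.H9FlatOpenAlg

set_option autoImplicit false
universe u
open CategoryTheory CategoryTheory.Limits AlgebraicGeometry TopologicalSpace Opposite

namespace Groth.Agent.Lib.H9FlatOpenImm

open Groth.Agent.Lib.H9NeronTFAE (eq_of_comp_eq_of_isIso_restrict)

/-- a flat separated morphism which is an isomorphism over `U` and whose source has a
scheme-theoretically dense part over `U` is a monomorphism. -/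
theorem mono_of_isIso_restrict {X S : Scheme.{u}} (f : X ⟶ S) (U : S.Opens) [IsIso (f ∣_ U)]
    [Flat f] [IsSeparated f] {P : Scheme.{u}} (j : P ⟶ X) [QuasiCompact j] (hj : j.ker = ⊥)
    (hjU : ∀ p, (j ≫ f) p ∈ U) : Mono f := by
  rw [← pullback.isIso_diagonal_iff, IsClosedImmersion.isIso_iff_ker_eq_bot]
  haveI : IsSchemeTheoreticallyDominant j := ⟨hj⟩
  have hdom : (pullback.snd j (pullback.fst f f)).ker = ⊥ := Scheme.Hom.ker_eq_bot _
  have hfs : pullback.snd j (pullback.fst f f) ≫ pullback.fst f f =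
      pullback.snd j (pullback.fst f f) ≫ pullback.snd f f := by
    apply eq_of_comp_eq_of_isIso_restrict f U
    · rw [Category.assoc, Category.assoc, pullback.condition]
    · intro p
      have h1 : (pullback.snd j (pullback.fst f f) ≫ pullback.fst f f) ≫ f =
          pullback.fst j (pullback.fst f f) ≫ j ≫ f := by
        rw [Category.assoc, ← pullback.condition_assoc]
      rw [h1]
      exact hjU _
  have hfac : pullback.snd j (pullback.fst f f) =
      (pullback.snd j (pullback.fst f f) ≫ pullback.fst f f) ≫ pullback.diagonal f := by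
    apply pullback.hom_ext
    · rw [Category.assoc, pullback.diagonal_fst, Category.comp_id]
    · rw [Category.assoc, pullback.diagonal_snd, Category.comp_id, hfs]
  have h2 := Scheme.Hom.le_ker_comp
    (pullback.snd j (pullback.fst f f) ≫ pullback.fst f f) (pullback.diagonal f)
  rw [← hfac, hdom] at h2
  exact le_bot_iff.mp h2

/-- the version with a scheme-theoretically dense quasi-compact open of the target. -/
theorem mono_of_dense {X S : Scheme.{u}} (f : X ⟶ S) [IsSeparated f] [Flat f] (U : S.Opens)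
    [QuasiCompact U.ι] [IsSchemeTheoreticallyDominant U.ι] [IsIso (f ∣_ U)] : Mono f := by
  have H := isPullback_morphismRestrict f U
  haveI : IsSchemeTheoreticallyDominant (f ⁻¹ᵁ U).ι := IsSchemeTheoreticallyDominant.of_isPullback H
  haveI : QuasiCompact (f ⁻¹ᵁ U).ι := MorphismProperty.of_isPullback (P := @QuasiCompact) H
    inferInstance
  exact mono_of_isIso_restrict f U (f ⁻¹ᵁ U).ι (Scheme.Hom.ker_eq_bot _) (fun p => p.2)

/-- a flat monomorphism induces isomorphisms of local rings. -/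
theorem stalkMap_bijective_of_flat_of_mono {X S : Scheme.{u}} (f : X ⟶ S) [Flat f] [Mono f]
    (x : X) : Function.Bijective (f.stalkMap x).hom := by
  have hfac : Spec.map (f.stalkMap x) ≫ S.fromSpecStalk (f x) = X.fromSpecStalk x ≫ f :=
    Scheme.SpecMap_stalkMap_fromSpecStalk f
  haveI : Mono (Spec.map (f.stalkMap x) ≫ S.fromSpecStalk (f x)) := by
    rw [hfac]; infer_instance
  haveI : Mono (Spec.map (f.stalkMap x)) := mono_of_mono _ (S.fromSpecStalk (f x))
  have hflat : (f.stalkMap x).hom.Flat := Flat.stalkMap f x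
  have hff : (f.stalkMap x).hom.FaithfullyFlat := by
    algebraize [(f.stalkMap x).hom]
    have : Module.FaithfullyFlat (S.presheaf.stalk (f x)) (X.presheaf.stalk x) :=
      @Module.FaithfullyFlat.of_flat_of_isLocalHom _ _ _ _ _ _ _ hflat (f.toLRSHom.prop x)
    exact ‹RingHom.FaithfullyFlat _›
  obtain ⟨h1, h2⟩ := (flat_and_surjective_SpecMap_iff (f.stalkMap x)).mpr hff
  haveI := h1
  haveI := h2
  haveI : IsIso (Spec.map (f.stalkMap x)) := Flat.isIso_of_surjective_of_mono _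
  haveI : IsIso (f.stalkMap x) := by
    have h3 : IsIso (Scheme.Spec.map (f.stalkMap x).op) := ‹IsIso (Spec.map (f.stalkMap x))›
    haveI : IsIso (f.stalkMap x).op := isIso_of_reflects_iso _ Scheme.Spec
    exact isIso_of_op _
  exact ConcreteCategory.bijective_of_isIso (f.stalkMap x)

theorem stalkMap_germ_appLE {X S : Scheme.{u}} (f : X ⟶ S) (V : S.Opens) (W : X.Opens)
    (e : W ≤ f ⁻¹ᵁ V) (x : X) (hxW : x ∈ W) (a : Γ(S, V)) :
    f.stalkMap x (S.presheaf.germ V (f x) (e hxW) a) =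
      X.presheaf.germ W x hxW (f.appLE V W e a) := by
  rw [Scheme.Hom.germ_stalkMap_apply]
  simp only [Scheme.Hom.appLE, CommRingCat.comp_apply]
  rw [TopCat.Presheaf.germ_res_apply]

/-- near a point where the stalk map is surjective, a morphism locally of finite type is a closed
immersion of affine opens. -/
theorem exists_affine_surjective {X S : Scheme.{u}} (f : X ⟶ S) [LocallyOfFiniteType f] (x : X)
    (hx : Function.Surjective (f.stalkMap x).hom) :
    ∃ (V : S.Opens) (W : X.Opens) (_ : IsAffineOpen V) (_ : IsAffineOpen W) (e : W ≤ f ⁻¹ᵁ V),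
      x ∈ W ∧ Function.Surjective (f.appLE V W e).hom := by
  obtain ⟨V₀, hV₀, hxV₀, -⟩ := exists_isAffineOpen_mem_and_subset (x := f x) (U := (⊤ : S.Opens))
    trivial
  obtain ⟨W₀, hW₀, hxW₀, hWle⟩ := exists_isAffineOpen_mem_and_subset (x := x) (U := f ⁻¹ᵁ V₀)
    hxV₀
  letI : Algebra Γ(S, V₀) Γ(X, W₀) := (f.appLE V₀ W₀ hWle).hom.toAlgebra
  haveI : Algebra.FiniteType Γ(S, V₀) Γ(X, W₀) :=
    HasRingHomProperty.appLE (P := @LocallyOfFiniteType) f inferInstance ⟨V₀, hV₀⟩ ⟨W₀, hW₀⟩ hWle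
  have halg : ∀ a : Γ(S, V₀), algebraMap Γ(S, V₀) Γ(X, W₀) a = f.appLE V₀ W₀ hWle a := fun _ => rfl
  letI : Algebra Γ(X, W₀) (X.presheaf.stalk x) :=
    TopCat.Presheaf.algebra_section_stalk X.presheaf (U := W₀) ⟨x, hxW₀⟩
  letI : Algebra Γ(S, V₀) (S.presheaf.stalk (f x)) :=
    TopCat.Presheaf.algebra_section_stalk S.presheaf (U := V₀) ⟨f x, hxV₀⟩
  haveI hlocX : IsLocalization.AtPrime (X.presheaf.stalk x) (hW₀.primeIdealOf ⟨x, hxW₀⟩).asIdeal :=
    hW₀.isLocalization_stalk ⟨x, hxW₀⟩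
  haveI hlocS : IsLocalization.AtPrime (S.presheaf.stalk (f x))
      (hV₀.primeIdealOf ⟨f x, hxV₀⟩).asIdeal := hV₀.isLocalization_stalk ⟨f x, hxV₀⟩
  have hgX : ∀ b : Γ(X, W₀), algebraMap Γ(X, W₀) (X.presheaf.stalk x) b =
      X.presheaf.germ W₀ x hxW₀ b := fun _ => rfl
  have hgS : ∀ a : Γ(S, V₀), algebraMap Γ(S, V₀) (S.presheaf.stalk (f x)) a =
      S.presheaf.germ V₀ (f x) hxV₀ a := fun _ => rfl
  have H : ∀ b : Γ(X, W₀), ∃ (α σ : Γ(S, V₀)) (γ : Γ(X, W₀)),
      algebraMap Γ(S, V₀) Γ(X, W₀) σ ∉ (hW₀.primeIdealOf ⟨x, hxW₀⟩).asIdeal ∧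
      γ ∉ (hW₀.primeIdealOf ⟨x, hxW₀⟩).asIdeal ∧
      γ * (algebraMap Γ(S, V₀) Γ(X, W₀) σ * b - algebraMap Γ(S, V₀) Γ(X, W₀) α) = 0 := by
    intro b
    obtain ⟨z, hz⟩ := hx (X.presheaf.germ W₀ x hxW₀ b)
    obtain ⟨⟨α, σ⟩, hασ⟩ := IsLocalization.surj (hV₀.primeIdealOf ⟨f x, hxV₀⟩).asIdeal.primeCompl z
    change z * algebraMap Γ(S, V₀) (S.presheaf.stalk (f x)) σ.1 =
      algebraMap Γ(S, V₀) (S.presheaf.stalk (f x)) α at hασ
    have hσunit : IsUnit (algebraMap Γ(S, V₀) (S.presheaf.stalk (f x)) σ.1) :=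
      IsLocalization.map_units _ σ
    have h1 : X.presheaf.germ W₀ x hxW₀
        (algebraMap Γ(S, V₀) Γ(X, W₀) σ.1 * b - algebraMap Γ(S, V₀) Γ(X, W₀) α) = 0 := by
      rw [map_sub, map_mul, halg, halg, ← stalkMap_germ_appLE f V₀ W₀ hWle x hxW₀,
        ← stalkMap_germ_appLE f V₀ W₀ hWle x hxW₀, ← hz, ← hgS, ← hgS, ← hασ]
      change (f.stalkMap x).hom _ * (f.stalkMap x).hom z - (f.stalkMap x).hom _ = 0
      rw [← map_mul, ← map_sub]
      have : algebraMap Γ(S, V₀) (S.presheaf.stalk (f x)) σ.1 * z -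
          z * algebraMap Γ(S, V₀) (S.presheaf.stalk (f x)) σ.1 = 0 := by ring
      rw [this, map_zero]
    rw [← hgX, IsLocalization.map_eq_zero_iff (hW₀.primeIdealOf ⟨x, hxW₀⟩).asIdeal.primeCompl] at h1
    obtain ⟨γ, hγ⟩ := h1
    refine ⟨α, σ.1, γ.1, ?_, γ.2, hγ⟩
    change _ ∈ (hW₀.primeIdealOf ⟨x, hxW₀⟩).asIdeal.primeCompl
    rw [← IsLocalization.AtPrime.isUnit_to_map_iff (X.presheaf.stalk x)
      (hW₀.primeIdealOf ⟨x, hxW₀⟩).asIdeal, hgX, halg,
      ← stalkMap_germ_appLE f V₀ W₀ hWle x hxW₀]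
    exact hσunit.map (f.stalkMap x).hom
  obtain ⟨a, g, haq, hgq, hR'⟩ := Groth.Agent.Lib.H9FlatOpenAlg.exists_away_surjective
    (hW₀.primeIdealOf ⟨x, hxW₀⟩).asIdeal H
  -- the localization of `B` at `g`
  letI : Algebra Γ(S, V₀) Γ(X, X.basicOpen g) :=
    ((algebraMap Γ(X, W₀) Γ(X, X.basicOpen g)).comp (algebraMap Γ(S, V₀) Γ(X, W₀))).toAlgebra
  haveI : IsScalarTower Γ(S, V₀) Γ(X, W₀) Γ(X, X.basicOpen g) :=
    IsScalarTower.of_algebraMap_eq (fun _ => rfl)
  haveI : IsLocalization.Away g Γ(X, X.basicOpen g) := hW₀.isLocalization_basicOpen g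
  obtain ⟨haunit, hsurj⟩ := hR' Γ(X, X.basicOpen g)
  have hxg : x ∈ X.basicOpen g := by
    rw [Scheme.mem_basicOpen _ _ _ hxW₀, ← hgX,
      IsLocalization.AtPrime.isUnit_to_map_iff (X.presheaf.stalk x)
        (hW₀.primeIdealOf ⟨x, hxW₀⟩).asIdeal]
    exact hgq
  have hmapa : algebraMap Γ(S, V₀) Γ(X, X.basicOpen g) a =
      X.presheaf.map (homOfLE (X.basicOpen_le g)).op (f.appLE V₀ W₀ hWle a) := rfl
  have hle1 : X.basicOpen g ≤ f ⁻¹ᵁ (S.basicOpen a) := by
    have h1 : X.basicOpen (X.presheaf.map (homOfLE (X.basicOpen_le g)).op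
        (f.appLE V₀ W₀ hWle a)) = X.basicOpen g := by
      rw [← hmapa]
      exact Scheme.basicOpen_of_isUnit _ haunit
    rw [Scheme.basicOpen_res, Scheme.basicOpen_appLE] at h1
    intro y hy
    have : y ∈ X.basicOpen g ⊓ (W₀ ⊓ f ⁻¹ᵁ S.basicOpen a) := by rw [h1]; exact hy
    exact this.2.2
  refine ⟨S.basicOpen a, X.basicOpen g, hV₀.basicOpen a, hW₀.basicOpen g, hle1, hxg, ?_⟩
  intro y
  obtain ⟨α, k, hαk⟩ := hsurj y
  have hcomm : ∀ c : Γ(S, V₀), (f.appLE (S.basicOpen a) (X.basicOpen g) hle1).hom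
      (S.presheaf.map (homOfLE (S.basicOpen_le a)).op c) =
      algebraMap Γ(S, V₀) Γ(X, X.basicOpen g) c := by
    intro c
    change (S.presheaf.map (homOfLE (S.basicOpen_le a)).op ≫
      f.appLE (S.basicOpen a) (X.basicOpen g) hle1) c =
      (f.appLE V₀ W₀ hWle ≫ X.presheaf.map (homOfLE (X.basicOpen_le g)).op) c
    rw [Scheme.Hom.map_appLE, Scheme.Hom.appLE_map]
  have haunitS : IsUnit (S.presheaf.map (homOfLE (S.basicOpen_le a)).op a) :=
    RingedSpace.isUnit_res_basicOpen S.toRingedSpace a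
  obtain ⟨v, hv⟩ := haunitS
  refine ⟨S.presheaf.map (homOfLE (S.basicOpen_le a)).op α * ((v⁻¹ : _ˣ) : Γ(S, S.basicOpen a)) ^ k,
    ?_⟩
  have hvinv : (f.appLE (S.basicOpen a) (X.basicOpen g) hle1).hom
      ((v⁻¹ : _ˣ) : Γ(S, S.basicOpen a)) * algebraMap Γ(S, V₀) Γ(X, X.basicOpen g) a = 1 := by
    rw [← hcomm a, ← hv, ← map_mul, Units.inv_mul, map_one]
  obtain ⟨w, hw⟩ := haunit
  apply (w ^ k).isUnit.mul_right_cancel
  rw [Units.val_pow_eq_pow_val, hw, hαk, map_mul, hcomm, map_pow, mul_assoc, ← mul_pow, hvinv,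
    one_pow, mul_one]

/-- a compact open inside an affine open is a finite union of basic opens. -/
theorem exists_finset_basicOpen_cover {S : Scheme.{u}} (V : S.Opens) (hV : IsAffineOpen V)
    (O : S.Opens) (hOV : O ≤ V) (hO : IsCompact (O : Set S)) :
    ∃ t : Finset Γ(S, V), (∀ a ∈ t, S.basicOpen a ≤ O) ∧
      ∀ y ∈ O, ∃ a ∈ t, y ∈ S.basicOpen a := by
  classical
  have hu : ∀ y : O, ∃ a : Γ(S, V), S.basicOpen a ≤ O ∧ (y : S) ∈ S.basicOpen a :=
    fun y => hV.exists_basicOpen_le y (hOV y.2)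
  choose a ha1 ha2 using hu
  obtain ⟨t, ht⟩ := hO.elim_finite_subcover (fun y : O => ((S.basicOpen (a y) : S.Opens) : Set S))
    (fun y => (S.basicOpen (a y)).isOpen) (fun y hy => Set.mem_iUnion.mpr ⟨⟨y, hy⟩, ha2 ⟨y, hy⟩⟩)
  refine ⟨t.image a, ?_, ?_⟩
  · intro b hb
    obtain ⟨y, -, rfl⟩ := Finset.mem_image.mp hb
    exact ha1 y
  · intro y hy
    obtain ⟨z, hz⟩ := Set.mem_iUnion.mp (ht hy)
    obtain ⟨hzt, hyz⟩ := Set.mem_iUnion.mp hz
    exact ⟨a z, Finset.mem_image_of_mem a hzt, hyz⟩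

theorem isCompact_inf_of_quasiCompact {S : Scheme.{u}} (U : S.Opens) [QuasiCompact U.ι]
    (V : S.Opens) (hV : IsAffineOpen V) : IsCompact ((U ⊓ V : S.Opens) : Set S) := by
  have h1 : IsCompact ((U.ι ⁻¹ᵁ V : U.toScheme.Opens) : Set U.toScheme) :=
    U.ι.isCompact_preimage hV.isCompact
  have h2 := h1.image U.ι.continuous
  have h3 : (U.ι : U.toScheme → S) '' ((U.ι ⁻¹ᵁ V : U.toScheme.Opens) : Set U.toScheme) =
      ((U ⊓ V : S.Opens) : Set S) := by
    ext y
    constructor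
    · rintro ⟨z, hz, rfl⟩
      exact ⟨z.2, hz⟩
    · rintro ⟨hyU, hyV⟩
      exact ⟨⟨y, hyU⟩, hyV, rfl⟩
  rw [← h3]
  exact h2

/-- the algebraic form of schematic density of `U` on an affine open. -/
theorem eq_zero_of_forall_pow_mul_eq_zero {S : Scheme.{u}} (U : S.Opens) [QuasiCompact U.ι]
    [IsSchemeTheoreticallyDominant U.ι] (V : S.Opens) {ι : Type*} (u : ι → Γ(S, V))
    (hcover : ∀ y ∈ U ⊓ V, ∃ j, y ∈ S.basicOpen (u j)) (a : Γ(S, V))
    (ha : ∀ j, ∃ k : ℕ, u j ^ k * a = 0) : a = 0 := by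
  -- `a` vanishes on each basic open
  have h1 : ∀ j, S.presheaf.map (homOfLE (S.basicOpen_le (u j))).op a = 0 := by
    intro j
    obtain ⟨k, hk⟩ := ha j
    have hunit : IsUnit (S.presheaf.map (homOfLE (S.basicOpen_le (u j))).op (u j)) :=
      RingedSpace.isUnit_res_basicOpen S.toRingedSpace (u j)
    have h2 := congrArg (S.presheaf.map (homOfLE (S.basicOpen_le (u j))).op).hom hk
    rw [map_mul, map_pow, map_zero] at h2
    exact (hunit.pow k).mul_right_eq_zero.mp h2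
  -- hence on `U ⊓ V`
  have h2 : S.presheaf.map (homOfLE (inf_le_right : U ⊓ V ≤ V)).op a = 0 := by
    have h3 : S.presheaf.map (homOfLE (inf_le_right : U ⊓ V ≤ V)).op a =
        S.presheaf.map (homOfLE (inf_le_right : U ⊓ V ≤ V)).op 0 := by
      refine S.sheaf.eq_of_locally_eq' (fun j : ι => S.basicOpen (u j) ⊓ (U ⊓ V)) (U ⊓ V)
        (fun j => homOfLE inf_le_right) ?_ _ _ ?_
      · intro y hy
        obtain ⟨j, hj⟩ := hcover y hy
        exact Opens.mem_iSup.mpr ⟨j, hj, hy⟩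
      · intro j
        change (S.presheaf.map (homOfLE (inf_le_right : U ⊓ V ≤ V)).op ≫
          S.presheaf.map (homOfLE (inf_le_right : S.basicOpen (u j) ⊓ (U ⊓ V) ≤ U ⊓ V)).op) a =
          (S.presheaf.map (homOfLE (inf_le_right : U ⊓ V ≤ V)).op ≫
          S.presheaf.map (homOfLE (inf_le_right : S.basicOpen (u j) ⊓ (U ⊓ V) ≤ U ⊓ V)).op) 0
        rw [map_zero, ← Functor.map_comp, ← op_comp, homOfLE_comp]
        have h4 : S.presheaf.map (homOfLE ((inf_le_right : S.basicOpen (u j) ⊓ (U ⊓ V) ≤ U ⊓ V).trans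
            (inf_le_right : U ⊓ V ≤ V))).op =
            S.presheaf.map (homOfLE (S.basicOpen_le (u j))).op ≫ S.presheaf.map (homOfLE
              (inf_le_left : S.basicOpen (u j) ⊓ (U ⊓ V) ≤ S.basicOpen (u j))).op := by
          rw [← Functor.map_comp, ← op_comp, homOfLE_comp]
        rw [h4, CommRingCat.comp_apply, h1 j, map_zero]
    rw [h3, map_zero]
  -- hence in `Γ(U, U.ι ⁻¹ᵁ V)`
  apply Scheme.Hom.app_injective U.ι V
  have hle : U.ι ''ᵁ U.ι ⁻¹ᵁ V ≤ U ⊓ V := by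
    rintro _ ⟨z, hz, rfl⟩
    exact ⟨z.2, hz⟩
  have hle' : U.ι ''ᵁ U.ι ⁻¹ᵁ V ≤ V := hle.trans inf_le_right
  have h5 : S.presheaf.map (homOfLE hle').op = S.presheaf.map (homOfLE (inf_le_right :
        U ⊓ V ≤ V)).op ≫ S.presheaf.map (homOfLE hle).op := by
    rw [← Functor.map_comp]
    rfl
  rw [map_zero]
  change (S.presheaf.map (homOfLE hle').op).hom a = 0
  rw [h5, CommRingCat.hom_comp, RingHom.comp_apply]
  exact (congrArg (S.presheaf.map (homOfLE hle).op).hom h2).trans (map_zero _)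

/-- over an open over which `f` is an isomorphism, `f` is of finite presentation on sections. -/
theorem finitePresentation_appLE_of_le {X S : Scheme.{u}} (f : X ⟶ S) (U : S.Opens)
    [IsIso (f ∣_ U)] (V' : S.Opens) (W' : X.Opens) (hV' : IsAffineOpen V') (hW' : IsAffineOpen W')
    (e : W' ≤ f ⁻¹ᵁ V') (hWU : W' ≤ f ⁻¹ᵁ U) : (f.appLE V' W' e).hom.FinitePresentation := by
  haveI : IsAffine W'.toScheme := hW'
  have hfac : W'.ι ≫ f = X.homOfLE hWU ≫ (f ∣_ U) ≫ U.ι := by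
    rw [morphismRestrict_ι, Scheme.homOfLE_ι_assoc]
  haveI : IsOpenImmersion (W'.ι ≫ f) := by rw [hfac]; infer_instance
  have e₂ : (⊤ : W'.toScheme.Opens) ≤ W'.ι ⁻¹ᵁ W' := by
    intro z _
    exact z.2
  have e' : (⊤ : W'.toScheme.Opens) ≤ (W'.ι ≫ f) ⁻¹ᵁ V' := by
    intro z _
    exact e z.2
  have h1 : ((W'.ι ≫ f).appLE V' ⊤ e').hom.FinitePresentation :=
    HasRingHomProperty.appLE (P := @LocallyOfFinitePresentation) (W'.ι ≫ f) inferInstance
      ⟨V', hV'⟩ ⟨⊤, isAffineOpen_top _⟩ e'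
  have h2 : f.appLE V' W' e ≫ W'.ι.appLE W' ⊤ e₂ = (W'.ι ≫ f).appLE V' ⊤ e' :=
    Scheme.Hom.appLE_comp_appLE W'.ι f V' W' ⊤ e e₂
  haveI : IsIso (W'.ι.appLE W' ⊤ e₂) := by
    rw [Scheme.Opens.ι_appLE]
    have hge : W' ≤ W'.ι ''ᵁ ⊤ := by
      intro y hy
      exact ⟨⟨y, hy⟩, trivial, rfl⟩
    have hiso : IsIso (homOfLE (x := W'.ι ''ᵁ ⊤) (y := W') (Set.image_subset_iff.mpr e₂)) :=
      ⟨⟨homOfLE hge, Subsingleton.elim _ _, Subsingleton.elim _ _⟩⟩
    have hiso' : IsIso (homOfLE (x := W'.ι ''ᵁ ⊤) (y := W') (Set.image_subset_iff.mpr e₂)).op :=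
      @isIso_op _ _ _ _ _ hiso
    exact @Functor.map_isIso _ _ _ _ _ _ X.presheaf _ hiso'
  rw [← h2, CommRingCat.hom_comp] at h1
  exact (RingHom.finitePresentation_respectsIso.cancel_right_isIso _ _).mp h1

/-- a flat "closed immersion of affine opens" that is an isomorphism over a scheme-theoretically
dense quasi-compact open is an open immersion. -/
theorem isOpenImmersion_ι_comp_of_surjective {X S : Scheme.{u}} (f : X ⟶ S) [Flat f] (U : S.Opens)
    [QuasiCompact U.ι] [IsSchemeTheoreticallyDominant U.ι] [IsIso (f ∣_ U)]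
    (V : S.Opens) (W : X.Opens) (hV : IsAffineOpen V) (hW : IsAffineOpen W) (e : W ≤ f ⁻¹ᵁ V)
    (hsurj : Function.Surjective (f.appLE V W e).hom) : IsOpenImmersion (W.ι ≫ f) := by
  classical
  obtain ⟨t, ht1, ht2⟩ := exists_finset_basicOpen_cover V hV (U ⊓ V) inf_le_right
    (isCompact_inf_of_quasiCompact U V hV)
  have hflat : (f.appLE V W e).hom.Flat := f.flat_appLE hV hW e
  have hfp : ∀ j : t, ∃ (Aj Bj : Type u) (_ : CommRing Aj) (_ : CommRing Bj) (lA : Γ(S, V) →+* Aj)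
      (lB : Γ(X, W) →+* Bj) (ψ : Aj →+* Bj),
      @IsLocalization.Away Γ(S, V) _ j.1 Aj _ lA.toAlgebra ∧
      @IsLocalization.Away Γ(X, W) _ ((f.appLE V W e).hom j.1) Bj _ lB.toAlgebra ∧
      ψ.comp lA = lB.comp (f.appLE V W e).hom ∧ ψ.FinitePresentation := by
    intro j
    have ej : X.basicOpen ((f.appLE V W e).hom j.1) ≤ f ⁻¹ᵁ (S.basicOpen j.1) := by
      intro y hy
      have : y ∈ W ⊓ f ⁻¹ᵁ (S.basicOpen j.1) := by
        rw [← Scheme.basicOpen_appLE]; exact hy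
      exact this.2
    have hWU : X.basicOpen ((f.appLE V W e).hom j.1) ≤ f ⁻¹ᵁ U := fun y hy =>
      (ht1 j.1 j.2 (ej hy)).1
    refine ⟨Γ(S, S.basicOpen j.1), Γ(X, X.basicOpen ((f.appLE V W e).hom j.1)), inferInstance,
      inferInstance, (S.presheaf.map (homOfLE (S.basicOpen_le j.1)).op).hom,
      (X.presheaf.map (homOfLE (X.basicOpen_le ((f.appLE V W e).hom j.1))).op).hom,
      (f.appLE (S.basicOpen j.1) (X.basicOpen ((f.appLE V W e).hom j.1)) ej).hom,
      hV.isLocalization_basicOpen j.1, hW.isLocalization_basicOpen _, ?_,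
      finitePresentation_appLE_of_le f U _ _ (hV.basicOpen _) (hW.basicOpen _) ej hWU⟩
    have h1 : S.presheaf.map (homOfLE (S.basicOpen_le j.1)).op ≫
        f.appLE (S.basicOpen j.1) (X.basicOpen ((f.appLE V W e).hom j.1)) ej =
        f.appLE V W e ≫ X.presheaf.map (homOfLE (X.basicOpen_le ((f.appLE V W e).hom j.1))).op := by
      rw [Scheme.Hom.map_appLE, Scheme.Hom.appLE_map]
    exact congrArg CommRingCat.Hom.hom h1
  obtain ⟨ε, hε, hker⟩ := Groth.Agent.Lib.H9FlatOpenAlg.exists_idempotent_ker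
    (f.appLE V W e).hom hsurj hflat (ι := t) (fun j => j.1)
    (fun a ha => eq_zero_of_forall_pow_mul_eq_zero U V (fun j : t => j.1) (fun y hy => by
      obtain ⟨a, hat, hya⟩ := ht2 y hy
      exact ⟨⟨a, hat⟩, hya⟩) a ha) hfp
  have h1 : IsOpenImmersion (Spec.map (f.appLE V W e)) :=
    (isOpenImmersion_SpecMap_iff_of_surjective _ hsurj).mpr ⟨ε, hε, hker⟩
  have h2 := hV.SpecMap_appLE_fromSpec f hW e
  haveI : IsOpenImmersion (hW.fromSpec ≫ f) := by rw [← h2]; infer_instance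
  have h3 : W.ι ≫ f = hW.isoSpec.hom ≫ hW.fromSpec ≫ f := by
    rw [← hW.isoSpec_inv_ι, Category.assoc, Iso.hom_inv_id_assoc]
  rw [h3]
  infer_instance

/-- **Main theorem.** A separated flat morphism locally of finite type which is an isomorphism
over a quasi-compact scheme-theoretically dense open is an open immersion. -/
theorem main {X S : Scheme.{u}} (f : X ⟶ S) [IsSeparated f] [LocallyOfFiniteType f] [Flat f]
    (U : S.Opens) [QuasiCompact U.ι] [IsSchemeTheoreticallyDominant U.ι] [IsIso (f ∣_ U)] :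
    IsOpenImmersion f := by
  haveI : Mono f := mono_of_dense f U
  have hloc : ∀ x : X, ∃ W : X.Opens, x ∈ W ∧ IsOpenImmersion (W.ι ≫ f) := by
    intro x
    obtain ⟨V, W, hV, hW, e, hxW, hsurj⟩ := exists_affine_surjective f x
      (stalkMap_bijective_of_flat_of_mono f x).2
    exact ⟨W, hxW, isOpenImmersion_ι_comp_of_surjective f U V W hV hW e hsurj⟩
  choose W hxW hW using hloc
  have hcov : ⨆ x, W x = ⊤ := by
    rw [eq_top_iff]
    intro x _
    exact Opens.mem_iSup.mpr ⟨x, hxW x⟩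
  refine IsOpenImmersion.of_openCover_source f (X.openCoverOfIsOpenCover W
    (by rwa [TopologicalSpace.IsOpenCover])) ?_ ?_
  · exact f.injective
  · intro x
    exact hW x


end Groth.Agent.Lib.H9FlatOpenImm
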