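import Mathlib

set_option autoImplicit false
universe u w
open AlgebraicGeometry CategoryTheory Limits

namespace Groth.Agent.Lib.H9FpqcColim

variable {J : Type u} [SmallCategory J] (D : J ⥤ Scheme.{u}) (c : Cocone D)

/-- the base-changed diagram over `Y → c.pt` -/
noncomputable abbrev bcFunctor {Y : Scheme.{u}} (f : Y ⟶ c.pt) : J ⥤ Over Y :=
  D.toOver c.pt (fun j => c.ι.app j) (fun g => c.w g) ⋙ Over.pullback f

noncomputable abbrev bcCocone {Y : Scheme.{u}} (f : Y ⟶ c.pt) : Cocone (bcFunctor D c f ⋙ Over.forget Y) :=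
  (Over.forgetCocone Y).whisker (bcFunctor D c f)

example {Y : Scheme.{u}} (f : Y ⟶ c.pt) (j : J) :
    (bcCocone D c f).ι.app j = pullback.snd (c.ι.app j) f := rfl

/-- cocone with point `s.pt` on the base-changed diagram -/
noncomputable def pbCocone {Y : Scheme.{u}} (f : Y ⟶ c.pt) (s : Cocone D) :
    Cocone (bcFunctor D c f ⋙ Over.forget Y) where
  pt := s.pt
  ι :=
    { app := fun j => pullback.fst (c.ι.app j) f ≫ s.ι.app j
      naturality := by
        intro j j' g
        simp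
        erw [pullback.lift_fst_assoc]
        have := s.w g
        exact congrArg (pullback.fst (c.ι.app j) f ≫ ·) this }

@[simp]
lemma pbCocone_ι_app {Y : Scheme.{u}} (f : Y ⟶ c.pt) (s : Cocone D) (j : J) :
    (pbCocone D c f s).ι.app j = pullback.fst (c.ι.app j) f ≫ s.ι.app j := rfl

theorem main (F : PreZeroHypercover.{w} c.pt) (hF : F.presieve₀ ∈ Scheme.fpqcPrecoverage c.pt)
    (h1 : ∀ a : F.I₀, Nonempty (IsColimit (bcCocone D c (F.f a))))
    (h2 : ∀ a b : F.I₀, Nonempty (IsColimit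
      (bcCocone D c (pullback.fst (F.f a) (F.f b) ≫ F.f a)))) :
    Nonempty (IsColimit c) := by
  have hcov : Sieve.generate F.presieve₀ ∈ Scheme.fpqcTopology c.pt :=
    Precoverage.generate_mem_toGrothendieck hF
  have hsh : ∀ T : Scheme.{u}, Presieve.IsSheaf Scheme.fpqcTopology (yoneda.obj T) := fun T =>
    GrothendieckTopology.Subcanonical.isSheaf_of_isRepresentable _
  have hsheaf : ∀ T : Scheme.{u}, Presieve.IsSheafFor (yoneda.obj T) F.presieve₀ := by
    intro T
    rw [Presieve.isSheafFor_iff_generate]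
    exact (hsh T) _ hcov
  refine ⟨IsColimit.ofExistsUnique fun s => ?_⟩
  let ψ : ∀ a : F.I₀, F.X a ⟶ s.pt := fun a => (h1 a).some.desc (pbCocone D c (F.f a) s)
  have hψ : ∀ (a : F.I₀) (j : J), pullback.snd (c.ι.app j) (F.f a) ≫ ψ a =
      pullback.fst (c.ι.app j) (F.f a) ≫ s.ι.app j := fun a j =>
    (h1 a).some.fac (pbCocone D c (F.f a) s) j
  have hcompat : Presieve.Arrows.PullbackCompatible (yoneda.obj s.pt) F.f ψ := by
    intro a b
    show pullback.fst (F.f a) (F.f b) ≫ ψ a = pullback.snd (F.f a) (F.f b) ≫ ψ b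
    apply (h2 a b).some.hom_ext
    intro j
    show pullback.snd (c.ι.app j) (pullback.fst (F.f a) (F.f b) ≫ F.f a) ≫ _ =
      pullback.snd (c.ι.app j) (pullback.fst (F.f a) (F.f b) ≫ F.f a) ≫ _
    set p₁ := pullback.fst (c.ι.app j) (pullback.fst (F.f a) (F.f b) ≫ F.f a) with hp₁
    set p₂ := pullback.snd (c.ι.app j) (pullback.fst (F.f a) (F.f b) ≫ F.f a) with hp₂
    have hcond : p₁ ≫ c.ι.app j = p₂ ≫ pullback.fst (F.f a) (F.f b) ≫ F.f a := pullback.condition
    have hcond' : p₁ ≫ c.ι.app j = (p₂ ≫ pullback.snd (F.f a) (F.f b)) ≫ F.f b := by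
      rw [hcond, Category.assoc]
      exact congrArg (p₂ ≫ ·) pullback.condition
    let u : pullback (c.ι.app j) (pullback.fst (F.f a) (F.f b) ≫ F.f a) ⟶
        pullback (c.ι.app j) (F.f a) :=
      pullback.lift p₁ (p₂ ≫ pullback.fst (F.f a) (F.f b)) (by rw [hcond, Category.assoc])
    let v : pullback (c.ι.app j) (pullback.fst (F.f a) (F.f b) ≫ F.f a) ⟶
        pullback (c.ι.app j) (F.f b) :=
      pullback.lift p₁ (p₂ ≫ pullback.snd (F.f a) (F.f b)) hcond'
    have e1 : p₂ ≫ pullback.fst (F.f a) (F.f b) ≫ ψ a = p₁ ≫ s.ι.app j := by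
      have : u ≫ pullback.snd (c.ι.app j) (F.f a) = p₂ ≫ pullback.fst (F.f a) (F.f b) :=
        pullback.lift_snd _ _ _
      rw [← Category.assoc, ← this, Category.assoc, hψ, ← Category.assoc]
      congr 1
      exact pullback.lift_fst _ _ _
    have e2 : p₂ ≫ pullback.snd (F.f a) (F.f b) ≫ ψ b = p₁ ≫ s.ι.app j := by
      have : v ≫ pullback.snd (c.ι.app j) (F.f b) = p₂ ≫ pullback.snd (F.f a) (F.f b) :=
        pullback.lift_snd _ _ _
      rw [← Category.assoc, ← this, Category.assoc, hψ, ← Category.assoc]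
      congr 1
      exact pullback.lift_fst _ _ _
    rw [e1, e2]
  obtain ⟨m, hm, hmuniq⟩ := (Presieve.isSheafFor_arrows_iff_pullbacks _ _).mp (hsheaf s.pt) ψ
    hcompat
  have hm' : ∀ a, F.f a ≫ m = ψ a := hm
  refine ⟨m, ?_, ?_⟩
  · intro j
    have hsep := ((hsh s.pt) _
      (Scheme.fpqcTopology.pullback_stable (c.ι.app j) hcov)).isSeparatedFor
    apply hsep.ext
    intro Z g hg
    show g ≫ c.ι.app j ≫ m = g ≫ s.ι.app j
    obtain ⟨_, h, _, ⟨a⟩, hk⟩ := hg
    let l : Z ⟶ pullback (c.ι.app j) (F.f a) := pullback.lift g h hk.symm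
    have hl1 : l ≫ pullback.fst _ _ = g := pullback.lift_fst _ _ _
    have hl2 : l ≫ pullback.snd _ _ = h := pullback.lift_snd _ _ _
    rw [← Category.assoc, ← hk, Category.assoc, hm', ← hl2, Category.assoc, hψ, ← Category.assoc,
      hl1]
  · intro m' hm''
    apply hmuniq
    intro a
    show F.f a ≫ m' = ψ a
    apply (h1 a).some.uniq (pbCocone D c (F.f a) s) (F.f a ≫ m')
    intro j
    show pullback.snd (c.ι.app j) (F.f a) ≫ F.f a ≫ m' = pullback.fst (c.ι.app j) (F.f a) ≫ s.ι.app j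
    rw [← hm'' j, ← Category.assoc, ← pullback.condition, Category.assoc]


end Groth.Agent.Lib.H9FpqcColim
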