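import Mathlib
import Groth.Prelude.Def_FEt
import Groth.Agent.S0294
import Groth.Agent.Lib.Helper20FinHom

/-! Free actions of a finite group on a finite étale cover: orbit maps on geometric fibres are injective, graphs of the action are disjoint open immersions, `|G| ≤ n` and `|G| = n ↔ ∐_G Y ≅ Y ×_X Y` (S14460); `exists_factor`: field-valued points of a coproduct factor through a component (helper9). -/

set_option autoImplicit false
set_option linter.unusedVariables false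
set_option linter.unusedSectionVars false
set_option linter.style.haveILetI false

open CategoryTheory CategoryTheory.Limits AlgebraicGeometry

universe u

namespace Groth.Agent.Lib.H9FreeAct

variable {X : Scheme.{u}} (Y : FEt.Cat X) {G : Type u} [Group G] (ρ : G →* Aut Y)

theorem rho_mul (g h : G) : (ρ (g * h)).hom.left = (ρ h).hom.left ≫ (ρ g).hom.left := by
  rw [map_mul]
  rfl

theorem rho_one : (ρ 1).hom.left = 𝟙 Y.left := by
  rw [map_one]
  rfl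

theorem rho_w (g : G) : (ρ g).hom.left ≫ Y.hom = Y.hom := Over.w (ρ g).hom.hom

section Free

variable (hfree : ∀ g : G, g ≠ 1 → ∀ (K : Type u) [Field K] (y : Spec (CommRingCat.of K) ⟶ Y.left),
  y ≫ (ρ g).hom.left ≠ y)

include hfree in
theorem eq_of_comp_eq {K : Type u} [Field K] (y : Spec (CommRingCat.of K) ⟶ Y.left) (g h : G)
    (e : y ≫ (ρ g).hom.left = y ≫ (ρ h).hom.left) : g = h := by
  by_contra hne
  have hne' : h⁻¹ * g ≠ 1 := fun e' => hne (inv_mul_eq_one.mp e').symm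
  refine hfree (h⁻¹ * g) hne' K y ?_
  rw [rho_mul, ← Category.assoc, e, Category.assoc, ← rho_mul, inv_mul_cancel, rho_one,
    Category.comp_id]

/-- the orbit map on a fibre -/
noncomputable def orbit {Ω : Type u} [Field Ω] (ξ : Spec (CommRingCat.of Ω) ⟶ X) (s : FEt.fiberObj ξ Y)
    (g : G) : FEt.fiberObj ξ Y :=
  ⟨s.1 ≫ (ρ g).hom.left, by rw [Category.assoc, rho_w, s.2]⟩

include hfree in
theorem orbit_injective {Ω : Type u} [Field Ω] (ξ : Spec (CommRingCat.of Ω) ⟶ X)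
    (s : FEt.fiberObj ξ Y) : Function.Injective (orbit Y ρ ξ s) := by
  intro g h hgh
  exact eq_of_comp_eq Y ρ hfree s.1 g h (congrArg Subtype.val hgh)

/-- the geometric point over a point -/
noncomputable def geomPt (Z : Scheme.{u}) (z : Z) :
    Spec (CommRingCat.of (AlgebraicClosure (Z.residueField z))) ⟶ Z :=
  Spec.map (CommRingCat.ofHom (algebraMap (Z.residueField z)
    (AlgebraicClosure (Z.residueField z)))) ≫ Z.fromSpecResidueField z

theorem geomPt_apply (Z : Scheme.{u}) (z : Z) (c) : geomPt Z z c = z := by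
  rw [geomPt, Scheme.Hom.comp_apply]
  exact Z.fromSpecResidueField_apply z _

include hfree in
theorem card_le [Finite G] [Nonempty ↥Y.left] (n : ℕ)
    (hn : ∀ (Ω : Type u) [Field Ω] [IsSepClosed Ω] (ξ : Spec (CommRingCat.of Ω) ⟶ X),
      Nat.card (FEt.fiberObj ξ Y) = n) : Nat.card G ≤ n := by
  obtain ⟨y₀⟩ := ‹Nonempty ↥Y.left›
  obtain ⟨η, hη⟩ : ∃ η, η = geomPt Y.left y₀ := ⟨_, rfl⟩
  haveI := Groth.Agent.S0294.result (η ≫ Y.hom) Y
  rw [← hn _ (η ≫ Y.hom)]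
  exact Nat.card_le_card_of_injective _ (orbit_injective Y ρ hfree (η ≫ Y.hom) ⟨η, rfl⟩)

/-- the graph of the action of `g` -/
noncomputable def gr (g : G) : Y.left ⟶ pullback Y.hom Y.hom :=
  pullback.lift (𝟙 Y.left) (ρ g).hom.left
    ((Category.id_comp Y.hom).trans (Over.w (ρ g).hom.hom).symm)

theorem gr_fst (g : G) : gr Y ρ g ≫ pullback.fst Y.hom Y.hom = 𝟙 _ := pullback.lift_fst _ _ _

theorem gr_snd (g : G) : gr Y ρ g ≫ pullback.snd Y.hom Y.hom = (ρ g).hom.left :=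
  pullback.lift_snd _ _ _

instance (g : G) : IsOpenImmersion (gr Y ρ g) := by
  haveI : Etale Y.hom := Y.prop.2
  exact Groth.Agent.Lib.Helper20.FinHom.isOpenImmersion_of_section
    (pullback.fst Y.hom Y.hom) (gr Y ρ g) (gr_fst Y ρ g)

include hfree in
theorem disjoint_range (g h : G) (hgh : g ≠ h) :
    Disjoint (Set.range (gr Y ρ g)) (Set.range (gr Y ρ h)) := by
  rw [Set.disjoint_iff]
  rintro z ⟨⟨y, hy⟩, ⟨y', hy'⟩⟩
  apply hgh
  have hyy : y = y' := by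
    have h1 := congrArg (pullback.fst Y.hom Y.hom) hy
    have h2 := congrArg (pullback.fst Y.hom Y.hom) hy'
    rw [← Scheme.Hom.comp_apply, gr_fst] at h1 h2
    exact h1.trans h2.symm
  subst hyy
  -- the open where `gr g` lands in the range of `gr h`
  obtain ⟨V, hV⟩ : ∃ V : Y.left.Opens, V = (gr Y ρ g) ⁻¹ᵁ (gr Y ρ h).opensRange := ⟨_, rfl⟩
  have hyV : y ∈ V := by
    rw [hV]
    show gr Y ρ g y ∈ Set.range (gr Y ρ h)
    rw [hy]
    exact ⟨y, hy'⟩
  have hr : Set.range (V.ι ≫ gr Y ρ g) ⊆ Set.range (gr Y ρ h) := by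
    rintro _ ⟨v, rfl⟩
    rw [Scheme.Hom.comp_apply]
    have h1 : (V.ι v) ∈ V := v.2
    have h2 : V ≤ (gr Y ρ g) ⁻¹ᵁ (gr Y ρ h).opensRange := hV.le
    exact h2 h1
  obtain ⟨w, hw⟩ : ∃ w : (V : Scheme.{u}) ⟶ Y.left, w ≫ gr Y ρ h = V.ι ≫ gr Y ρ g :=
    ⟨IsOpenImmersion.lift (gr Y ρ h) (V.ι ≫ gr Y ρ g) hr, IsOpenImmersion.lift_fac _ _ _⟩
  have hw' : w = V.ι := by
    have := congrArg (· ≫ pullback.fst Y.hom Y.hom) hw
    simpa only [Category.assoc, gr_fst, Category.comp_id] using this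
  rw [hw'] at hw
  have hρ : V.ι ≫ (ρ h).hom.left = V.ι ≫ (ρ g).hom.left := by
    have := congrArg (· ≫ pullback.snd Y.hom Y.hom) hw
    simpa only [Category.assoc, gr_snd] using this
  refine eq_of_comp_eq Y ρ hfree ((V : Scheme.{u}).fromSpecResidueField ⟨y, hyV⟩ ≫ V.ι) g h ?_
  rw [Category.assoc, Category.assoc, hρ]

/-- the comparison map `∐_G Y ⟶ Y ×_X Y` -/
noncomputable def Φ : (∐ fun _ : G => Y.left) ⟶ pullback Y.hom Y.hom := Sigma.desc (gr Y ρ)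

theorem ι_Φ (g : G) : Sigma.ι (fun _ : G => Y.left) g ≫ Φ Y ρ = gr Y ρ g :=
  Sigma.ι_desc _ _

include hfree in
theorem isOpenImmersion_Φ : IsOpenImmersion (Φ Y ρ) :=
  isOpenImmersion_sigmaDesc _ (gr Y ρ) (fun g h hgh => disjoint_range Y ρ hfree g h hgh)

/-- a field-valued point of a coproduct factors through a component -/
theorem exists_factor {σ : Type u} (f : σ → Scheme.{u}) {Ω : Type u} [Field Ω]
    (t : Spec (CommRingCat.of Ω) ⟶ ∐ f) :
    ∃ (i : σ) (t' : Spec (CommRingCat.of Ω) ⟶ f i), t' ≫ Sigma.ι f i = t := by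
  obtain ⟨i, y, hy⟩ := (sigmaOpenCover f).exists_eq (t (IsLocalRing.closedPoint Ω))
  have hr : Set.range t ⊆ Set.range (Sigma.ι f i) := by
    rintro _ ⟨a, rfl⟩
    have : a = IsLocalRing.closedPoint Ω := Subsingleton.elim _ _
    rw [this]
    exact ⟨y, hy⟩
  exact ⟨i, IsOpenImmersion.lift (Sigma.ι f i) t hr, IsOpenImmersion.lift_fac _ _ _⟩

theorem orbit_surjective_of_isIso [IsIso (Φ Y ρ)] {Ω : Type u} [Field Ω]
    (ξ : Spec (CommRingCat.of Ω) ⟶ X) (s : FEt.fiberObj ξ Y) :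
    Function.Surjective (orbit Y ρ ξ s) := by
  intro s'
  obtain ⟨ζ, hζ⟩ : ∃ ζ : Spec (CommRingCat.of Ω) ⟶ pullback Y.hom Y.hom,
      ζ = pullback.lift s.1 s'.1 (s.2.trans s'.2.symm) := ⟨_, rfl⟩
  have hζ1 : ζ ≫ pullback.fst _ _ = s.1 := by rw [hζ, pullback.lift_fst]
  have hζ2 : ζ ≫ pullback.snd _ _ = s'.1 := by rw [hζ, pullback.lift_snd]
  obtain ⟨g, t', ht'⟩ := exists_factor (fun _ : G => Y.left) (ζ ≫ inv (Φ Y ρ))
  have h1 : t' ≫ gr Y ρ g = ζ := by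
    rw [← ι_Φ, ← Category.assoc, ht', Category.assoc, IsIso.inv_hom_id, Category.comp_id]
  have h2 : t' = s.1 := by
    rw [← hζ1, ← h1, Category.assoc, gr_fst, Category.comp_id]
  refine ⟨g, Subtype.ext ?_⟩
  show s.1 ≫ (ρ g).hom.left = s'.1
  rw [← hζ2, ← h1, Category.assoc, gr_snd, h2]

include hfree in
theorem card_eq_of_isIso [Finite G] [Nonempty ↥Y.left] (n : ℕ)
    (hn : ∀ (Ω : Type u) [Field Ω] [IsSepClosed Ω] (ξ : Spec (CommRingCat.of Ω) ⟶ X),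
      Nat.card (FEt.fiberObj ξ Y) = n) [IsIso (Φ Y ρ)] : Nat.card G = n := by
  obtain ⟨y₀⟩ := ‹Nonempty ↥Y.left›
  obtain ⟨η, hη⟩ : ∃ η, η = geomPt Y.left y₀ := ⟨_, rfl⟩
  rw [← hn _ (η ≫ Y.hom)]
  exact Nat.card_eq_of_bijective _ ⟨orbit_injective Y ρ hfree (η ≫ Y.hom) ⟨η, rfl⟩,
    orbit_surjective_of_isIso Y ρ (η ≫ Y.hom) ⟨η, rfl⟩⟩

include hfree in
theorem surjective_Φ [Finite G] (n : ℕ)
    (hn : ∀ (Ω : Type u) [Field Ω] [IsSepClosed Ω] (ξ : Spec (CommRingCat.of Ω) ⟶ X),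
      Nat.card (FEt.fiberObj ξ Y) = n) (hG : Nat.card G = n) : Surjective (Φ Y ρ) := by
  refine ⟨fun z => ?_⟩
  obtain ⟨ζ, hζ⟩ : ∃ ζ, ζ = geomPt (pullback Y.hom Y.hom) z := ⟨_, rfl⟩
  obtain ⟨a, ha⟩ : ∃ a, a = ζ ≫ pullback.fst Y.hom Y.hom := ⟨_, rfl⟩
  obtain ⟨b, hb⟩ : ∃ b, b = ζ ≫ pullback.snd Y.hom Y.hom := ⟨_, rfl⟩
  have hab : b ≫ Y.hom = a ≫ Y.hom := by
    rw [ha, hb, Category.assoc, Category.assoc, pullback.condition]
  haveI := Groth.Agent.S0294.result (a ≫ Y.hom) Y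
  have hbij : Function.Bijective (orbit Y ρ (a ≫ Y.hom) ⟨a, rfl⟩) :=
    (orbit_injective Y ρ hfree (a ≫ Y.hom) ⟨a, rfl⟩).bijective_of_nat_card_le
      (by rw [hn _ (a ≫ Y.hom), hG])
  obtain ⟨g, hg⟩ := hbij.2 ⟨b, hab⟩
  have hg' : a ≫ (ρ g).hom.left = b := congrArg Subtype.val hg
  have hζg : a ≫ gr Y ρ g = ζ := by
    apply pullback.hom_ext
    · rw [Category.assoc, gr_fst]
      exact (Category.comp_id a).trans ha
    · rw [Category.assoc, gr_snd, hg', hb]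
  refine ⟨Sigma.ι (fun _ : G => Y.left) g (a (IsLocalRing.closedPoint _)), ?_⟩
  rw [← Scheme.Hom.comp_apply, ι_Φ, ← Scheme.Hom.comp_apply, hζg, hζ, geomPt_apply]

include hfree in
theorem main [Finite G] [Nonempty ↥Y.left] (n : ℕ)
    (hn : ∀ (Ω : Type u) [Field Ω] [IsSepClosed Ω] (ξ : Spec (CommRingCat.of Ω) ⟶ X),
      Nat.card (FEt.fiberObj ξ Y) = n) :
    Nat.card G ≤ n ∧ (Nat.card G = n ↔ IsIso (Φ Y ρ)) := by
  refine ⟨card_le Y ρ hfree n hn, ⟨fun hG => ?_, fun h => ?_⟩⟩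
  · haveI := isOpenImmersion_Φ Y ρ hfree
    haveI := surjective_Φ Y ρ hfree n hn hG
    exact (isIso_iff_isOpenImmersion_and_surjective (Φ Y ρ)).mpr ⟨inferInstance, inferInstance⟩
  · haveI := h
    exact card_eq_of_isIso Y ρ hfree n hn

end Free

end Groth.Agent.Lib.H9FreeAct
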