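import Groth.Agent.Lib.R2H1DegTensor
import Groth.Agent.Lib.R2H1CurveAmple
import Groth.Agent.Lib.Helper23PB
set_option backward.isDefEq.respectTransparency.types false

/-!
# Intersection number with a closed subscheme of dimension <= 1 is the degree (S7647)

* `deg_tensorPow_gen`, `euler_tensorPow_gen` : `deg (L^n) = n deg L` on any proper scheme of
  dimension `≤ 1` (not necessarily integral), via `s7637`.
* `coeff_of_eval_nat` : a rational polynomial in one variable, affine-linear on `ℕ`.
* `dim_subscheme_le`, `euler_quotMod_tensorPow` : `χ(O_D ⊗ L^n) = n deg(L|_D) + χ(O_D)`.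
* `s7647`.
-/

set_option autoImplicit false
set_option linter.style.haveILetI false
set_option linter.unusedSectionVars false
universe u v

open CategoryTheory CategoryTheory.Limits AlgebraicGeometry TopologicalSpace Opposite

namespace Groth.Agent.Lib.R2H1.IntNumCurve

section Part1

open Groth.Agent.Lib.R2H1.DegTensor
open Groth.Agent.Lib.R2H1.BirDeg Groth.Agent.Lib.R2H1.GenusLe Groth.Agent.Lib.R2H1.DegCartier
  Groth.Agent.Lib.R2H1.EulerAdd Groth.Agent.Lib.R2H1.CurveEuler
  Groth.Agent.Lib.Helper21.Dual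
  Groth.Agent.Lib.Helper21.ModTensor Groth.Agent.Lib.Helper21.ModTensor2
  Groth.Agent.Lib.Helper21.ModTensor5
  Groth.Agent.Lib.R2H1.ProjLF Groth.Agent.Lib.Helper1.PT
open Groth.Agent.Lib.Helper23.SecTw

section Pow

variable (k : Type u) [Field k] (X : Scheme.{u}) [X.Over (Spec (CommRingCat.of k))]
    [IsProper (X ↘ (Spec (CommRingCat.of k)))]

/-- `deg (L^n) = n deg L` on a proper scheme of dimension `≤ 1` -/
theorem deg_tensorPow_gen (hdim : topologicalKrullDim X ≤ 1) (L : X.Modules)
    (hL : PicF.IsInvertible L) (n : ℕ) :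
    Curv2.deg k X (CohB1.tensorPow L n) 1 = n * Curv2.deg k X L 1 := by
  induction n with
  | zero =>
    show Curv2.deg k X (Coh.structureModule X) 1 = _
    unfold Curv2.deg
    push_cast
    ring
  | succ j ih =>
    have h1 := isFinLocFreeOfRank_one_of_isInvertible _ (isInvertible_tensorPow hL j)
    have h2 := isFinLocFreeOfRank_one_of_isInvertible _ hL
    have h := s7637 k X hdim 1 1 (CohB1.tensorPow L j) L h1 h2
    have h' : Curv2.deg k X (CohB1.tensorPow L (j + 1)) 1 =
        (1 : ℕ) * Curv2.deg k X L 1 + (1 : ℕ) * Curv2.deg k X (CohB1.tensorPow L j) 1 := h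
    rw [h', ih]
    push_cast
    ring

theorem euler_tensorPow_gen (hdim : topologicalKrullDim X ≤ 1) (L : X.Modules)
    (hL : PicF.IsInvertible L) (n : ℕ) :
    Curv2.euler k X (CohB1.tensorPow L n) =
      n * Curv2.deg k X L 1 + Curv2.euler k X (Coh.structureModule X) := by
  have h := deg_tensorPow_gen k X hdim L hL n
  have h2 : Curv2.deg k X (CohB1.tensorPow L n) 1 =
      Curv2.euler k X (CohB1.tensorPow L n) - Curv2.euler k X (Coh.structureModule X) := by
    unfold Curv2.deg
    push_cast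
    ring
  rw [h2] at h
  linarith

end Pow

section Poly

/-- a polynomial in one variable over `ℚ` which is affine-linear on `ℕ` has that slope -/
theorem coeff_of_eval_nat (P : MvPolynomial (Fin 1) ℚ) (a b : ℚ)
    (h : ∀ n : Fin 1 → ℕ, MvPolynomial.eval (fun i => (n i : ℚ)) P = a * (n 0 : ℚ) + b) :
    MvPolynomial.coeff (Finsupp.equivFunOnFinite.symm fun _ : Fin 1 => 1) P = a := by
  have hP : P = MvPolynomial.C a * MvPolynomial.X 0 + MvPolynomial.C b := by
    refine MvPolynomial.funext_set (fun _ => Set.range (Nat.cast : ℕ → ℚ))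
      (fun _ => Set.infinite_range_of_injective Nat.cast_injective) ?_
    intro x hx
    have hx' : ∀ i, ∃ n : ℕ, (n : ℚ) = x i := fun i => hx i (Set.mem_univ i)
    choose n hn using hx'
    have hxn : x = fun i => (n i : ℚ) := funext fun i => (hn i).symm
    rw [hxn, h n]
    simp
  have hm : (Finsupp.equivFunOnFinite.symm fun _ : Fin 1 => 1) = Finsupp.single (0 : Fin 1) 1 := by
    apply Finsupp.ext
    intro j
    fin_cases j
    simp
  have hne : (0 : Fin 1 →₀ ℕ) ≠ Finsupp.single (0 : Fin 1) 1 := by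
    intro h0
    have := DFunLike.congr_fun h0 (0 : Fin 1)
    simp at this
  rw [hm, hP, MvPolynomial.coeff_add, MvPolynomial.coeff_C_mul, MvPolynomial.coeff_X,
    MvPolynomial.coeff_C, if_neg hne]
  simp

end Poly

end Part1

section Part2


open Groth.Agent.Lib.R2H1.DegTensor
open Groth.Agent.Lib.R2H1.BirDeg Groth.Agent.Lib.R2H1.GenusLe Groth.Agent.Lib.R2H1.DegCartier
  Groth.Agent.Lib.R2H1.EulerAdd Groth.Agent.Lib.R2H1.CurveEuler
  Groth.Agent.Lib.Helper21.Dual
  Groth.Agent.Lib.Helper21.ModTensor Groth.Agent.Lib.Helper21.ModTensor2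
  Groth.Agent.Lib.Helper21.ModTensor5
  Groth.Agent.Lib.R2H1.ProjLF Groth.Agent.Lib.Helper1.PT
open Groth.Agent.Lib.Helper23.SecTw

variable (k : Type u) [Field k] (X : Scheme.{u}) [X.Over (Spec (CommRingCat.of k))]
    [IsProper (X ↘ (Spec (CommRingCat.of k)))]

theorem dim_subscheme_le (D : X.IdealSheafData) :
    topologicalKrullDim D.subscheme ≤ topologicalKrullDim (D.support : Set X) := by
  have hmem : ∀ z : D.subscheme, D.subschemeι z ∈ (D.support : Set X) := fun z => by
    rw [← Scheme.IdealSheafData.range_subschemeι]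
    exact ⟨z, rfl⟩
  exact Topology.IsInducing.topologicalKrullDim_le
    (f := Set.codRestrict (D.subschemeι : D.subscheme → X) (D.support : Set X) hmem)
    (D.subschemeι.isClosedEmbedding.isInducing.codRestrict hmem)

/-- `χ(X, O_D ⊗ L^n) = n deg(L|_D) + χ(O_D)` for a closed subscheme `D` of dimension `≤ 1` -/
theorem euler_quotMod_tensorPow (D : X.IdealSheafData)
    (hD : topologicalKrullDim (D.support : Set X) ≤ 1)
    (L : X.Modules) (hL : PicF.IsInvertible L) (n : ℕ) :
    Curv2.euler k X (CohB1.tensorMod (ClSub.quotMod D) (CohB1.tensorPow L n)) =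
      n * @Curv2.deg k _ D.subscheme ⟨D.subschemeι ≫ (X ↘ (Spec (CommRingCat.of k)))⟩
        ((Scheme.Modules.pullback D.subschemeι).obj L) 1 +
      @Curv2.euler k _ D.subscheme ⟨D.subschemeι ≫ (X ↘ (Spec (CommRingCat.of k)))⟩
        (Coh.structureModule D.subscheme) := by
  letI : D.subscheme.Over (Spec (CommRingCat.of k)) :=
    ⟨D.subschemeι ≫ (X ↘ Spec (CommRingCat.of k))⟩
  haveI : IsProper (D.subscheme ↘ Spec (CommRingCat.of k)) :=
    inferInstanceAs (IsProper (D.subschemeι ≫ (X ↘ Spec (CommRingCat.of k))))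
  have hdimZ : topologicalKrullDim D.subscheme ≤ 1 := (dim_subscheme_le X D).trans hD
  have hLn := isInvertible_tensorPow hL n
  have h1 := isFinLocFreeOfRank_one_of_isInvertible _ hLn
  have hO := isCoh_structureModule D.subscheme
  have e1 : Curv2.euler k X (CohB1.tensorMod (ClSub.quotMod D) (CohB1.tensorPow L n)) =
      Curv2.euler k X (CohB1.tensorMod (CohB1.tensorPow L n) (ClSub.quotMod D)) :=
    euler_congr k (brdApp X.sheaf (ClSub.quotMod D) (CohB1.tensorPow L n))
  have e2 := euler_tensor_push k D.subschemeι rfl (CohB1.tensorPow L n) h1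
    (Coh.structureModule D.subscheme) hO
  have e3 : Curv2.euler k D.subscheme (CohB1.tensorMod ((plb D.subschemeι).obj (CohB1.tensorPow L n))
      (Coh.structureModule D.subscheme)) =
      Curv2.euler k D.subscheme ((plb D.subschemeι).obj (CohB1.tensorPow L n)) :=
    euler_congr k (rU D.subscheme.sheaf _)
  obtain ⟨τ⟩ := Groth.Agent.Lib.Helper23.PB.nonempty_pullback_tensorPow_iso D.subschemeι L hL n
  have e4 : Curv2.euler k D.subscheme ((plb D.subschemeι).obj (CohB1.tensorPow L n)) =
      Curv2.euler k D.subscheme (CohB1.tensorPow ((plb D.subschemeι).obj L) n) :=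
    euler_congr k τ
  have hL' := Groth.Agent.Lib.Helper23.PB.isInvertible_pullback D.subschemeι L hL
  have e5 := euler_tensorPow_gen k D.subscheme hdimZ _ hL' n
  rw [e1]
  exact e2.trans (e3.trans (e4.trans e5))

theorem s7647 (D : X.IdealSheafData) (hD : topologicalKrullDim (D.support : Set X) ≤ 1)
    (L : X.Modules) (hL : PicF.IsInvertible L) (P : MvPolynomial (Fin 1) ℚ)
    (hP : ∀ n : Fin 1 → ℕ, (Curv2.euler k X (Curv2.tensorPows (ClSub.quotMod D) 1 (fun _ => L) n) : ℚ) =
      MvPolynomial.eval (fun i => (n i : ℚ)) P) :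
    MvPolynomial.coeff (Finsupp.equivFunOnFinite.symm fun _ : Fin 1 => 1) P =
      (@Curv2.deg k _ D.subscheme ⟨D.subschemeι ≫ (X ↘ (Spec (CommRingCat.of k)))⟩
        ((Scheme.Modules.pullback D.subschemeι).obj L) 1 : ℚ) := by
  refine coeff_of_eval_nat P _
    ((@Curv2.euler k _ D.subscheme ⟨D.subschemeι ≫ (X ↘ (Spec (CommRingCat.of k)))⟩
      (Coh.structureModule D.subscheme) : ℤ) : ℚ) ?_
  intro n
  rw [← hP n]
  have h := euler_quotMod_tensorPow k X D hD L hL (n 0)
  have h' : Curv2.euler k X (Curv2.tensorPows (ClSub.quotMod D) 1 (fun _ => L) n) =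
      Curv2.euler k X (CohB1.tensorMod (ClSub.quotMod D) (CohB1.tensorPow L (n 0))) := rfl
  rw [h', h]
  push_cast
  ring

end Part2

end Groth.Agent.Lib.R2H1.IntNumCurve
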