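import Mathlib
import Groth.Agent.Lib.R2H4NumEqDesc
import Groth.Agent.Lib.R2H1IntNumCurve
set_option backward.isDefEq.respectTransparency.types false

/-!
helper1 (run 2): nefness (intersection with integral curves) of an invertible module vs its pullback along a surjective morphism of proper schemes (S16712). euler_quotMod_tensor_sub (chi(O_D tensor L) - chi(O_D) = Pic13.curveDeg of L restricted to D, dim D <= 1), dim_support_eq, image_curve (reduced image of an integral proper curve under a non-constant morphism), nef_pullback, nef_of_pullback, s16712.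
-/

set_option autoImplicit false
set_option linter.style.haveILetI false
set_option linter.unusedSectionVars false
universe u v

open CategoryTheory CategoryTheory.Limits AlgebraicGeometry TopologicalSpace Opposite

namespace Groth.Agent.Lib.R2H1.NefPull

section Part1

open Groth.Agent.Lib.R2H1.DegTensor
open Groth.Agent.Lib.R2H1.BirDeg Groth.Agent.Lib.R2H1.GenusLe Groth.Agent.Lib.R2H1.DegCartier
  Groth.Agent.Lib.R2H1.EulerAdd Groth.Agent.Lib.R2H1.CurveEuler
  Groth.Agent.Lib.Helper21.Dual
  Groth.Agent.Lib.Helper21.ModTensor Groth.Agent.Lib.Helper21.ModTensor2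
  Groth.Agent.Lib.Helper21.ModTensor5
  Groth.Agent.Lib.R2H1.ProjLF Groth.Agent.Lib.Helper1.PT
open Groth.Agent.Lib.Helper23.SecTw
open Groth.Agent.Lib.R2H4NumEqDesc Groth.Agent.Lib.R2H4NumEqPull Groth.Agent.Lib.Helper4.VarDim

section Conv

variable (k : Type u) [Field k] (X : Scheme.{u}) [X.Over (Spec (CommRingCat.of k))]
    [IsProper (X ↘ (Spec (CommRingCat.of k)))]

/-- `χ(X, O_D ⊗ L) - χ(X, O_D) = deg(L|_D)` for a closed subscheme `D` of a proper scheme -/
theorem euler_quotMod_tensor_sub (D : X.IdealSheafData)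
    (hD : topologicalKrullDim (D.support : Set X) ≤ 1)
    (L : X.Modules) (hL : PicF.IsInvertible L) :
    Curv2.euler k X (CohB1.tensorMod (ClSub.quotMod D) L) - Curv2.euler k X (ClSub.quotMod D) =
      Pic13.curveDeg k (D.subschemeι ≫ (X ↘ (Spec (CommRingCat.of k))))
        ((Scheme.Modules.pullback D.subschemeι).obj L) := by
  letI : D.subscheme.Over (Spec (CommRingCat.of k)) :=
    ⟨D.subschemeι ≫ (X ↘ Spec (CommRingCat.of k))⟩
  haveI : IsProper (D.subscheme ↘ Spec (CommRingCat.of k)) :=
    inferInstanceAs (IsProper (D.subschemeι ≫ (X ↘ Spec (CommRingCat.of k))))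
  have h1 := isFinLocFreeOfRank_one_of_isInvertible _ hL
  have hO := isCoh_structureModule D.subscheme
  have e1 : Curv2.euler k X (CohB1.tensorMod (ClSub.quotMod D) L) =
      Curv2.euler k X (CohB1.tensorMod L (ClSub.quotMod D)) :=
    euler_congr k (brdApp X.sheaf (ClSub.quotMod D) L)
  have e2 := euler_tensor_push k D.subschemeι rfl L h1
    (Coh.structureModule D.subscheme) hO
  have e3 : Curv2.euler k D.subscheme (CohB1.tensorMod ((plb D.subschemeι).obj L)
      (Coh.structureModule D.subscheme)) =
      Curv2.euler k D.subscheme ((plb D.subschemeι).obj L) :=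
    euler_congr k (rU D.subscheme.sheaf _)
  have e4 := euler_push k D.subschemeι rfl (Coh.structureModule D.subscheme) hO.1
  have e5 : Curv2.euler k X (CohB1.tensorMod (ClSub.quotMod D) L) =
      Curv2.euler k D.subscheme ((plb D.subschemeι).obj L) := by
    rw [e1]
    exact e2.trans e3
  have e6 : Curv2.euler k X (ClSub.quotMod D) =
      Curv2.euler k D.subscheme (Coh.structureModule D.subscheme) := e4.symm
  have hdimZ : topologicalKrullDim D.subscheme ≤ 1 :=
    (Groth.Agent.Lib.R2H1.IntNumCurve.dim_subscheme_le X D).trans hD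
  rw [e5, e6, curveDeg_eq_deg k _ hdimZ]
  unfold Curv2.deg
  push_cast
  ring

end Conv

section Main

variable (k : Type u) [Field k] (X X' : Scheme.{u})
    [X.Over (Spec (CommRingCat.of k))] [IsProper (X ↘ (Spec (CommRingCat.of k)))]
    [X'.Over (Spec (CommRingCat.of k))] [IsProper (X' ↘ (Spec (CommRingCat.of k)))]

theorem dim_support_eq {X : Scheme.{u}} (C : X.IdealSheafData) :
    topologicalKrullDim (C.support : Set X) = topologicalKrullDim C.subscheme := by
  rw [← Scheme.IdealSheafData.range_subschemeι]
  exact (IsHomeomorph.topologicalKrullDim_eq _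
    (C.subschemeι.isEmbedding.toHomeomorph).isHomeomorph).symm

/-- the reduced image of an integral proper curve under a non-constant morphism is an
integral curve -/
theorem image_curve {Y : Scheme.{u}} [IsIntegral Y] (hY : topologicalKrullDim Y = 1)
    (h : Y ⟶ X) [IsProper h] (hpt : ¬ ∃ x : X, Set.range h.base ⊆ {x}) :
    ∃ I₀ : X.IdealSheafData, IsIntegral I₀.subscheme ∧ topologicalKrullDim I₀.subscheme = 1 ∧
      Set.range I₀.subschemeι.base = Set.range h.base := by
  let Zc : Closeds X := ⟨Set.range h.base, h.isClosedMap.isClosed_range⟩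
  let I₀ := Scheme.IdealSheafData.vanishingIdeal Zc
  let Y₀ : Scheme.{u} := I₀.subscheme
  let ι₀ : Y₀ ⟶ X := I₀.subschemeι
  obtain ⟨h₀, hh₀⟩ := Groth.Agent.Lib.Helper11RedCl.exists_lift_of_range_subset h Zc
    (le_refl _)
  have hrange : Set.range ι₀.base = Set.range h.base :=
    Groth.Agent.Lib.Helper11RedCl.range_subschemeι_vanishingIdeal Zc
  have hsurj : Function.Surjective h₀.base := by
    intro y₀
    have : ι₀.base y₀ ∈ Set.range h.base := hrange ▸ ⟨y₀, rfl⟩
    obtain ⟨y, hy⟩ := this
    refine ⟨y, ι₀.isEmbedding.injective ?_⟩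
    rw [← hy, ← hh₀]
    rfl
  haveI : IsReduced Y₀ :=
    Groth.Agent.Lib.Helper11RedCl.isReduced_subscheme_vanishingIdeal Zc
  haveI : IrreducibleSpace Y₀ := by
    have hirr : IsIrreducible (Set.univ : Set Y₀) := by
      have := (IrreducibleSpace.isIrreducible_univ Y).image h₀.base
        h₀.continuous.continuousOn
      rwa [Set.image_univ, Set.range_eq_univ.2 hsurj] at this
    exact (irreducibleSpace_def Y₀).2 hirr
  haveI : IsIntegral Y₀ := isIntegral_of_irreducibleSpace_of_isReduced Y₀
  haveI : IsProper h₀ := by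
    haveI : IsProper (h₀ ≫ ι₀) := by rw [hh₀]; infer_instance
    exact IsProper.of_comp h₀ ι₀
  have hle : topologicalKrullDim Y₀ ≤ 1 := by
    rw [← hY]
    exact Groth.Agent.Lib.Helper7.topologicalKrullDim_le_of_specializingMap h₀.base hsurj
      h₀.isClosedMap.specializingMap
  have hge : 1 ≤ topologicalKrullDim Y₀ := by
    by_contra hlt
    apply hpt
    refine ⟨ι₀.base (genericPoint Y₀), ?_⟩
    rw [← hrange]
    rintro _ ⟨a, rfl⟩
    by_contra hane
    apply hlt
    refine Groth.Agent.Lib.Helper10.CurveFin.one_le_topologicalKrullDim_of_specializes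
      (a := a) (b := genericPoint Y₀) (genericPoint_specializes a) ?_
    intro hab
    apply hane
    have : a = genericPoint Y₀ := ((genericPoint_specializes a).antisymm hab).symm.eq
    rw [this]
    rfl
  exact ⟨I₀, inferInstance, le_antisymm hle hge, hrange⟩

/-- nefness pulls back (degree form) -/
theorem nef_pullback (f : X' ⟶ X)
    (hf : f ≫ (X ↘ (Spec (CommRingCat.of k))) = X' ↘ (Spec (CommRingCat.of k)))
    (L : X.Modules) (hL : PicF.IsInvertible L)
    (hnef : ∀ C : X.IdealSheafData, IsIntegral C.subscheme →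
      topologicalKrullDim (C.support : Set X) = 1 →
      0 ≤ Pic13.curveDeg k (C.subschemeι ≫ (X ↘ (Spec (CommRingCat.of k))))
        ((Scheme.Modules.pullback C.subschemeι).obj L))
    (C' : X'.IdealSheafData) (hC' : IsIntegral C'.subscheme)
    (hdim' : topologicalKrullDim (C'.support : Set X') = 1) :
    0 ≤ Pic13.curveDeg k (C'.subschemeι ≫ (X' ↘ (Spec (CommRingCat.of k))))
      ((Scheme.Modules.pullback C'.subschemeι).obj ((Scheme.Modules.pullback f).obj L)) := by
  haveI := hC'
  have hY' : topologicalKrullDim C'.subscheme = 1 := by rw [← dim_support_eq, hdim']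
  obtain ⟨h, hh⟩ : ∃ h : C'.subscheme ⟶ X, h = C'.subschemeι ≫ f := ⟨_, rfl⟩
  have hcomp : h ≫ (X ↘ Spec (CommRingCat.of k)) =
      C'.subschemeι ≫ (X' ↘ Spec (CommRingCat.of k)) := by
    rw [hh, Category.assoc, hf]
  haveI : IsProper (C'.subschemeι ≫ (X' ↘ Spec (CommRingCat.of k))) := inferInstance
  haveI : IsProper (h ≫ (X ↘ Spec (CommRingCat.of k))) := by
    rw [hcomp]; infer_instance
  haveI : IsProper h := IsProper.of_comp h (X ↘ Spec (CommRingCat.of k))
  have eL : (Scheme.Modules.pullback C'.subschemeι).obj ((Scheme.Modules.pullback f).obj L) ≅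
      (Scheme.Modules.pullback h).obj L :=
    (Scheme.Modules.pullbackComp C'.subschemeι f).app L ≪≫
      (Scheme.Modules.pullbackCongr hh.symm).app L
  rw [curveDeg_congr k _ hY'.le eL]
  have hkey : Pic13.curveDeg k (C'.subschemeι ≫ (X' ↘ Spec (CommRingCat.of k)))
        ((Scheme.Modules.pullback h).obj L) =
      Pic13.curveDeg k (h ≫ (X ↘ Spec (CommRingCat.of k)))
        ((Scheme.Modules.pullback h).obj L) := by
    congr 1
    exact hcomp.symm
  rw [hkey]
  by_cases hpt : ∃ x : X, Set.range h.base ⊆ {x}
  · obtain ⟨x, hx⟩ := hpt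
    obtain ⟨φ⟩ := Groth.Agent.Lib.R2H4ModContr.nonempty_iso_of_range_subset h x hx L hL
    rw [← curveDeg_congr k _ hY'.le φ, curveDeg_structure k _ hY'.le]
  · obtain ⟨I₀, hint₀, hdim₀, hr₀⟩ := image_curve X hY' h hpt
    haveI := hint₀
    obtain ⟨c, hc, hform⟩ := exists_pos_curveDeg_pullback k X hY' hdim₀ h I₀.subschemeι hr₀.symm
    rw [hform L hL]
    exact mul_nonneg hc.le (hnef I₀ hint₀ (by rw [dim_support_eq, hdim₀]))

/-- nefness descends along a surjective morphism (degree form) -/
theorem nef_of_pullback (f : X' ⟶ X)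
    (hf : f ≫ (X ↘ (Spec (CommRingCat.of k))) = X' ↘ (Spec (CommRingCat.of k)))
    [Surjective f] (L : X.Modules) (hL : PicF.IsInvertible L)
    (hnef : ∀ C' : X'.IdealSheafData, IsIntegral C'.subscheme →
      topologicalKrullDim (C'.support : Set X') = 1 →
      0 ≤ Pic13.curveDeg k (C'.subschemeι ≫ (X' ↘ (Spec (CommRingCat.of k))))
        ((Scheme.Modules.pullback C'.subschemeι).obj ((Scheme.Modules.pullback f).obj L)))
    (C : X.IdealSheafData) (hC : IsIntegral C.subscheme)
    (hdim : topologicalKrullDim (C.support : Set X) = 1) :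
    0 ≤ Pic13.curveDeg k (C.subschemeι ≫ (X ↘ (Spec (CommRingCat.of k))))
      ((Scheme.Modules.pullback C.subschemeι).obj L) := by
  haveI := hC
  haveI : IsProper f := by
    haveI : IsProper (f ≫ (X ↘ Spec (CommRingCat.of k))) := by rw [hf]; infer_instance
    exact IsProper.of_comp f (X ↘ Spec (CommRingCat.of k))
  have hY : topologicalKrullDim C.subscheme = 1 := by rw [← dim_support_eq, hdim]
  let η : X := C.subschemeι.base (genericPoint C.subscheme)
  have hcl : closure {η} = Set.range C.subschemeι.base := by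
    have h1 := (genericPoint_spec C.subscheme).image C.subschemeι.continuous
    rw [Set.image_univ] at h1
    rw [h1.def]
    exact C.subschemeι.isClosedEmbedding.isClosed_range.closure_eq
  have htr : trdegNat k X η = 1 := by
    have h1 := topologicalKrullDim_closure_singleton k X η
    rw [hcl] at h1
    have h2 : topologicalKrullDim (Set.range C.subschemeι.base) =
        topologicalKrullDim C.subscheme :=
      (IsHomeomorph.topologicalKrullDim_eq _
        (C.subschemeι.isEmbedding.toHomeomorph).isHomeomorph).symm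
    rw [h2, hY] at h1
    exact_mod_cast h1.symm
  obtain ⟨x', hx', htr'⟩ := exists_point_trdegNat_eq k f hf η (f.surjective η)
  let Zc : Closeds X' := ⟨closure {x'}, isClosed_closure⟩
  obtain ⟨I, hI⟩ : ∃ I : X'.IdealSheafData, I = Scheme.IdealSheafData.vanishingIdeal Zc :=
    ⟨_, rfl⟩
  haveI : IrreducibleSpace ↥I.subscheme := by
    rw [hI]
    exact Groth.Agent.Lib.Helper6.EquiSub.irreducibleSpace_subscheme (X' := Zc) x' rfl
  haveI : IsReduced I.subscheme := by
    rw [hI]
    exact Groth.Agent.Lib.Helper11RedCl.isReduced_subscheme_vanishingIdeal Zc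
  have hint : IsIntegral I.subscheme := isIntegral_of_irreducibleSpace_of_isReduced _
  have hsupp : (I.support : Set X') = closure {x'} := by
    rw [hI]
    exact Scheme.IdealSheafData.coe_support_vanishingIdeal Zc
  have hrange' : Set.range I.subschemeι.base = closure {x'} := by
    rw [← hsupp]
    exact Scheme.IdealSheafData.range_subschemeι I
  have hdimI : topologicalKrullDim (I.support : Set X') = 1 := by
    rw [hsupp, topologicalKrullDim_closure_singleton k X' x', htr', htr]
    rfl
  have hY' : topologicalKrullDim I.subscheme = 1 := by rw [← dim_support_eq, hdimI]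
  have hr : Set.range (I.subschemeι ≫ f).base = Set.range C.subschemeι.base := by
    have h1 : Set.range (I.subschemeι ≫ f).base = f.base '' (Set.range I.subschemeι.base) := by
      rw [← Set.range_comp]
      rfl
    rw [h1, hrange', ← hcl, ← hx',
      ← f.isClosedMap.closure_image_eq_of_continuous f.continuous, Set.image_singleton]
  have hcomp : (I.subschemeι ≫ f) ≫ (X ↘ Spec (CommRingCat.of k)) =
      I.subschemeι ≫ (X' ↘ Spec (CommRingCat.of k)) := by
    rw [Category.assoc, hf]
  haveI : IsProper (I.subschemeι ≫ (X' ↘ Spec (CommRingCat.of k))) := inferInstance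
  haveI : IsProper ((I.subschemeι ≫ f) ≫ (X ↘ Spec (CommRingCat.of k))) := by
    rw [hcomp]; infer_instance
  obtain ⟨c, hc, hform⟩ := exists_pos_curveDeg_pullback k X hY' hY (I.subschemeι ≫ f)
    C.subschemeι hr
  have key := hnef I hint hdimI
  have eL : (Scheme.Modules.pullback I.subschemeι).obj ((Scheme.Modules.pullback f).obj L) ≅
      (Scheme.Modules.pullback (I.subschemeι ≫ f)).obj L :=
    (Scheme.Modules.pullbackComp I.subschemeι f).app L
  rw [curveDeg_congr k _ hY'.le eL] at key
  have hkey : Pic13.curveDeg k (I.subschemeι ≫ (X' ↘ Spec (CommRingCat.of k)))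
        ((Scheme.Modules.pullback (I.subschemeι ≫ f)).obj L) =
      Pic13.curveDeg k ((I.subschemeι ≫ f) ≫ (X ↘ Spec (CommRingCat.of k)))
        ((Scheme.Modules.pullback (I.subschemeι ≫ f)).obj L) := by
    congr 1
    exact hcomp.symm
  rw [hkey, hform L hL] at key
  exact (mul_nonneg_iff_of_pos_left hc).mp key

/-- S16712 -/
theorem s16712 (f : X' ⟶ X)
    (hf : f ≫ (X ↘ (Spec (CommRingCat.of k))) = X' ↘ (Spec (CommRingCat.of k)))
    [Surjective f] (L : X.Modules) (hL : PicF.IsInvertible L) :
    (∀ C : X.IdealSheafData, IsIntegral C.subscheme →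
        topologicalKrullDim (C.support : Set X) = 1 →
          0 ≤ Curv2.euler k X (CohB1.tensorMod (ClSub.quotMod C) L) - Curv2.euler k X (ClSub.quotMod C)) ↔
      (∀ C' : X'.IdealSheafData, IsIntegral C'.subscheme →
        topologicalKrullDim (C'.support : Set X') = 1 →
          0 ≤ Curv2.euler k X' (CohB1.tensorMod (ClSub.quotMod C') ((Scheme.Modules.pullback f).obj L)) -
            Curv2.euler k X' (ClSub.quotMod C')) := by
  have hL' := Groth.Agent.Lib.Helper23.PB.isInvertible_pullback f L hL
  constructor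
  · intro h C' hC' hdim'
    rw [euler_quotMod_tensor_sub k X' C' hdim'.le _ hL']
    refine nef_pullback k X X' f hf L hL (fun C hC hdim => ?_) C' hC' hdim'
    rw [← euler_quotMod_tensor_sub k X C hdim.le _ hL]
    exact h C hC hdim
  · intro h C hC hdim
    rw [euler_quotMod_tensor_sub k X C hdim.le _ hL]
    refine nef_of_pullback k X X' f hf L hL (fun C' hC' hdim' => ?_) C hC hdim
    rw [← euler_quotMod_tensor_sub k X' C' hdim'.le _ hL']
    exact h C' hC' hdim'

end Main

end Part1

end Groth.Agent.Lib.R2H1.NefPull
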