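import Mathlib
import Groth.Prelude
import Groth.Agent.Lib.Helper10CurveFin
import Groth.Agent.Lib.Helper11RedCl
import Groth.Agent.Lib.R2H1CurveAmple
import Groth.Agent.Lib.R2H1NefPull
import Groth.Agent.Lib.R2H4NumEqPull
import Groth.Agent.Lib.R2H2PnFinite
import Groth.Agent.Lib.R2H4TensorPows
import Groth.Agent.Lib.Helper23RestrTensor
set_option backward.isDefEq.respectTransparency.types false

/-!
# Globally generated + positive on curves ⇒ ample (helper4, round 2)

* `exists_not_isClosed_singleton`, `exists_dim_one_closure` : an infinite closed subset of a Noetherian sober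
  T0 space contains an irreducible closed subset of dimension one.
* `exists_curve_subset` : an infinite closed subset of a Noetherian scheme contains an integral closed curve.
* `deg_pullback_eq_zero_of_const` : `O(1)` pulled back along a constant map from a curve has degree 0.
* `isFinite_of_finite_closed_fibres` : proper with finite fibres over closed points ⇒ finite.
* `isAmple_of_gg_of_deg_pos` : globally generated and of positive degree on all integral curves ⇒ ample.
* `euler_sub_eq_deg`, `euler_sub_tensorPow`, `deg_pos_of_isAmple`, `exists_isGloballyGenerated_pow_of_isAmple`,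
  `isAmple_iff_strictlyNef_and_semiample` (S16710).
-/

set_option autoImplicit false
set_option linter.style.haveILetI false
set_option linter.unusedSectionVars false

namespace Groth.Agent.Lib.R2H4GGAmple

open CategoryTheory AlgebraicGeometry TopologicalSpace
open Groth.Agent.Lib
open Groth.Agent.Lib.R2H1.CurveAmple Groth.Agent.Lib.R2H1.CurveEuler

universe u

section Top

variable {X : Type*} [TopologicalSpace X]

/-- an infinite closed subset of a Noetherian sober T0 space has a non-closed point -/
theorem exists_not_isClosed_singleton [T0Space X] [QuasiSober X] [NoetherianSpace X]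
    (Z : Set X) (hZ : IsClosed Z) (hinf : Z.Infinite) :
    ∃ η ∈ Z, ¬ IsClosed ({η} : Set X) := by
  by_contra hcon
  push Not at hcon
  apply hinf
  haveI : QuasiSober ↥Z := hZ.isClosedEmbedding_subtypeVal.quasiSober
  haveI : NoetherianSpace ↥Z := NoetherianSpace.set Z
  have hall : ∀ x : ↥Z, x ∈ {x : ↥Z | ∀ z, z ⤳ x → x ⤳ z} := by
    intro x z hz
    have h1 : (z : X) ⤳ (x : X) := Topology.IsInducing.subtypeVal.specializes_iff.mpr hz
    have h2 : IsClosed ({(z : X)} : Set X) := hcon z z.2
    have h3 : (x : X) ∈ closure ({(z : X)} : Set X) := specializes_iff_mem_closure.mp h1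
    rw [h2.closure_eq, Set.mem_singleton_iff] at h3
    have : x = z := Subtype.ext h3
    rw [this]
  have hfin := Helper10.CurveFin.finite_setOf_forall (X := ↥Z)
  have huniv : {x : ↥Z | ∀ z, z ⤳ x → x ⤳ z} = Set.univ := Set.eq_univ_of_forall hall
  rw [huniv] at hfin
  exact Set.finite_coe_iff.mp (Set.finite_univ_iff.mp hfin)

/-- an infinite closed subset of a Noetherian sober T0 space contains an irreducible closed subset
of dimension one -/
theorem exists_dim_one_closure [T0Space X] [QuasiSober X] [NoetherianSpace X]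
    (Z : Set X) (hZ : IsClosed Z) (hinf : Z.Infinite) :
    ∃ η ∈ Z, topologicalKrullDim ↥(closure ({η} : Set X)) = 1 := by
  classical
  obtain ⟨η₀, hη₀Z, hη₀⟩ := exists_not_isClosed_singleton Z hZ hinf
  let S : Set X := {η | η ∈ Z ∧ ¬ IsClosed ({η} : Set X)}
  have hwf : WellFounded (InvImage (· < ·)
      (fun x : X => (⟨closure {x}, isClosed_closure⟩ : Closeds X))) :=
    InvImage.wf _ wellFounded_lt
  obtain ⟨η, hηS, hmin⟩ := hwf.has_min S ⟨η₀, hη₀Z, hη₀⟩
  refine ⟨η, hηS.1, ?_⟩
  haveI : QuasiSober ↥(closure ({η} : Set X)) :=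
    ((isClosed_closure (s := ({η} : Set X))).isClosedEmbedding_subtypeVal).quasiSober
  -- a point of the closure other than η is closed
  have hclosed : ∀ w ∈ closure ({η} : Set X), w ≠ η → IsClosed ({w} : Set X) := by
    intro w hw hne
    by_contra hw'
    have hwZ : w ∈ Z := (closure_minimal (Set.singleton_subset_iff.mpr hηS.1) hZ) hw
    apply hmin w ⟨hwZ, hw'⟩
    show (⟨closure {w}, isClosed_closure⟩ : Closeds X) < ⟨closure {η}, isClosed_closure⟩
    rw [lt_iff_le_and_ne]
    refine ⟨?_, ?_⟩
    · show closure {w} ⊆ closure {η}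
      exact closure_minimal (Set.singleton_subset_iff.mpr hw) isClosed_closure
    · intro heq
      have : closure ({w} : Set X) = closure {η} := congrArg (fun c : Closeds X => (c : Set X)) heq
      exact hne (inseparable_iff_closure_eq.mpr this).eq
  apply le_antisymm
  · apply Helper7.topologicalKrullDim_le_one_of_forall
    intro y
    by_cases hy : (y : X) = η
    · right
      intro z _
      have hz : (z : X) ∈ closure ({η} : Set X) := z.2
      have hz' : (y : X) ⤳ (z : X) := by
        rw [hy]
        exact specializes_iff_mem_closure.mpr hz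
      exact Topology.IsInducing.subtypeVal.specializes_iff.mp hz'
    · left
      intro z hz
      have h1 : (y : X) ⤳ (z : X) := Topology.IsInducing.subtypeVal.specializes_iff.mpr hz
      have h2 := hclosed y y.2 hy
      have h3 : (z : X) ∈ closure ({(y : X)} : Set X) := specializes_iff_mem_closure.mp h1
      rw [h2.closure_eq, Set.mem_singleton_iff] at h3
      have : z = y := Subtype.ext h3
      rw [this]
  · -- η is not closed: there is another point in its closure
    have hne : ∃ x ∈ closure ({η} : Set X), x ≠ η := by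
      by_contra hcon
      push Not at hcon
      apply hηS.2
      have : closure ({η} : Set X) = {η} :=
        Set.Subset.antisymm (fun x hx => hcon x hx) subset_closure
      rw [← this]
      exact isClosed_closure
    obtain ⟨x, hx, hxη⟩ := hne
    refine Helper10.CurveFin.one_le_topologicalKrullDim_of_specializes
      (a := (⟨x, hx⟩ : ↥(closure ({η} : Set X)))) (b := ⟨η, subset_closure rfl⟩) ?_ ?_
    · exact Topology.IsInducing.subtypeVal.specializes_iff.mp
        (specializes_iff_mem_closure.mpr hx)
    · intro h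
      have h1 : x ⤳ η := Topology.IsInducing.subtypeVal.specializes_iff.mpr h
      have h2 : η ⤳ x := specializes_iff_mem_closure.mpr hx
      exact hxη (h1.antisymm h2).eq

end Top

section Curve

/-- an infinite closed subset of a Noetherian scheme contains an integral closed curve -/
theorem exists_curve_subset {X : Scheme.{u}} [IsNoetherian X] (Z : Set X) (hZ : IsClosed Z)
    (hinf : Z.Infinite) :
    ∃ C : X.IdealSheafData, IsIntegral C.subscheme ∧
      topologicalKrullDim (C.support : Set X) = 1 ∧ (C.support : Set X) ⊆ Z := by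
  obtain ⟨η, hηZ, hdim⟩ := exists_dim_one_closure Z hZ hinf
  let Wc : Closeds X := ⟨closure {η}, isClosed_closure⟩
  have hsupp : ((Scheme.IdealSheafData.vanishingIdeal Wc).support : Set X) = closure {η} := by
    rw [← Scheme.IdealSheafData.range_subschemeι]
    exact Groth.Agent.Lib.Helper11RedCl.range_subschemeι_vanishingIdeal Wc
  refine ⟨Scheme.IdealSheafData.vanishingIdeal Wc, ?_, ?_, ?_⟩
  · haveI : IsReduced (Scheme.IdealSheafData.vanishingIdeal Wc).subscheme :=
      Groth.Agent.Lib.Helper11RedCl.isReduced_subscheme_vanishingIdeal Wc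
    haveI : IrreducibleSpace (Scheme.IdealSheafData.vanishingIdeal Wc).subscheme := by
      have hirr : IsIrreducible
          (Set.range (Scheme.IdealSheafData.vanishingIdeal Wc).subschemeι.base) := by
        rw [Scheme.IdealSheafData.range_subschemeι, hsupp]
        exact isIrreducible_singleton.closure
      haveI := Subtype.irreducibleSpace hirr
      exact ((Scheme.IdealSheafData.vanishingIdeal Wc).subschemeι.isEmbedding.toHomeomorph).irreducibleSpace_iff.mpr
        inferInstance
    exact isIntegral_of_irreducibleSpace_of_isReduced _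
  · rw [hsupp]
    exact hdim
  · rw [hsupp]
    exact closure_minimal (Set.singleton_subset_iff.mpr hηZ) hZ

end Curve

section Deg

variable (k : Type u) [Field k] (Y : Scheme.{u}) [Y.Over (Spec (CommRingCat.of k))]
    [IsIntegral Y] [IsProper (Y ↘ (Spec (CommRingCat.of k)))]

/-- the pullback of `O(1)` along a constant map from an integral proper curve has degree zero -/
theorem deg_pullback_eq_zero_of_const (hdim : topologicalKrullDim Y = 1) {n : ℕ}
    (g : Y ⟶ CohB1.ProjSpace n k) (p : CohB1.ProjSpace n k) (hconst : ∀ y : Y, g.base y = p) :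
    Curv2.deg k Y ((Scheme.Modules.pullback g).obj (Twist.twistProjSpace n k 1)) 1 = 0 := by
  have hO1 := Groth.Agent.Lib.R2H2.QProjK0.isAmple_twistProjSpace_one n k
  have hO1inv := hO1.1
  have hpinv := Groth.Agent.Lib.Helper23.PB.isInvertible_pullback g _ hO1inv
  obtain ⟨j, s', hp, -⟩ := hO1.2.2 p
  obtain ⟨s'', hs''⟩ := Groth.Agent.Lib.Helper23.PB.exists_pullback_section g _ hO1inv (j + 1) s'
  have htop : CohB1.genLocus _ s'' = ⊤ := by
    rw [hs'', eq_top_iff]
    intro x _
    show g.base x ∈ CohB1.genLocus _ s'
    rw [hconst x]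
    exact hp
  haveI : IsIso s'' := (Groth.Agent.Lib.H9YBlowUp.isIso_iff_genLocus_eq_top _ s'').mpr htop
  have hd0 : Curv2.deg k Y (CohB1.tensorPow ((Scheme.Modules.pullback g).obj
      (Twist.twistProjSpace n k 1)) (j + 1)) 1 = 0 := by
    rw [← deg_congr k Y (asIso s'') 1]
    unfold Curv2.deg
    push_cast
    ring
  have hd1 := deg_tensorPow k Y hdim _ hpinv (j + 1)
  rw [hd0] at hd1
  have hj : ((j + 1 : ℕ) : ℤ) ≠ 0 := by positivity
  rcases mul_eq_zero.mp hd1.symm with h | h
  · exact absurd h hj
  · exact h

end Deg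

section Fin

/-- a proper morphism with finite fibres over closed points is finite -/
theorem isFinite_of_finite_closed_fibres {X Y : Scheme.{u}} (r : X ⟶ Y) [IsProper r]
    [CompactSpace Y]
    (h : ∀ p : Y, IsClosed ({p} : Set Y) → (r.base ⁻¹' {p}).Finite) : IsFinite r := by
  have hV : ∀ y : Y, ∃ V : Y.Opens, y ∈ V ∧ IsFinite (r ∣_ V) := by
    intro y
    obtain ⟨p, hp, hpcl⟩ := (isClosed_closure (s := ({y} : Set Y))).exists_closed_singleton
      ⟨y, subset_closure rfl⟩
    obtain ⟨V, hpV, hV⟩ :=
      exists_isFinite_morphismRestrict_of_finite_preimage_singleton r p (h p hpcl)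
    exact ⟨V, (specializes_iff_mem_closure.mpr hp).mem_open V.isOpen hpV, hV⟩
  choose V hyV hVfin using hV
  have htop : iSup V = ⊤ := by
    rw [eq_top_iff]
    intro y _
    exact TopologicalSpace.Opens.mem_iSup.mpr ⟨y, hyV y⟩
  exact (IsZariskiLocalAtTarget.iff_of_iSup_eq_top (P := @IsFinite) V htop).mpr hVfin

end Fin

section Main

variable (k : Type u) [Field k] (X : Scheme.{u}) [X.Over (Spec (CommRingCat.of k))]
    [IsProper (X ↘ (Spec (CommRingCat.of k)))]

/-- a globally generated invertible module of positive degree on every integral closed curve of a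
proper scheme over a field is ample -/
theorem isAmple_of_gg_of_deg_pos (P : X.Modules) (hP : PicF.IsInvertible P)
    (hgg : Curv2.IsGloballyGenerated P)
    (hpos : ∀ C : X.IdealSheafData, IsIntegral C.subscheme →
      topologicalKrullDim (C.support : Set X) = 1 →
      0 < Curv2.euler k X (CohB1.tensorMod (ClSub.quotMod C) P) -
        Curv2.euler k X (ClSub.quotMod C)) :
    CohB1.IsAmple P := by
  haveI := isNoetherian_of_proper k X
  rcases isEmpty_or_nonempty X with hemp | hne
  · exact ⟨hP, inferInstance, fun x => (hemp.false x).elim⟩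
  obtain ⟨n, s, hs⟩ := exists_generating_sections P hP hgg
  obtain ⟨r, hr, τ, -⟩ := Groth.Agent.S3572.result n (X ↘ Spec (CommRingCat.of k)) P hP s hs
  haveI : IsProper (CohB1.ProjSpace.toSpec n k) :=
    Groth.Agent.S9705.isProper_projSpace_toSpec n k
  haveI : IsProper (r ≫ CohB1.ProjSpace.toSpec n k) := by rw [hr]; infer_instance
  haveI : IsProper r := IsProper.of_comp r (CohB1.ProjSpace.toSpec n k)
  have hO1 := Groth.Agent.Lib.R2H2.QProjK0.isAmple_twistProjSpace_one n k
  haveI : CompactSpace (CohB1.ProjSpace n k) := hO1.2.1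
  have hfin : ∀ p : CohB1.ProjSpace n k, IsClosed ({p} : Set (CohB1.ProjSpace n k)) →
      (r.base ⁻¹' {p}).Finite := by
    intro p hp
    by_contra hinf
    obtain ⟨C, hCint, hCdim, hCsub⟩ :=
      exists_curve_subset (r.base ⁻¹' {p}) (hp.preimage r.continuous) hinf
    have hpos' := hpos C hCint hCdim
    rw [Groth.Agent.Lib.R2H1.NefPull.euler_quotMod_tensor_sub k X C hCdim.le P hP] at hpos'
    letI : C.subscheme.Over (Spec (CommRingCat.of k)) :=
      ⟨C.subschemeι ≫ (X ↘ Spec (CommRingCat.of k))⟩
    haveI : IsProper (C.subscheme ↘ Spec (CommRingCat.of k)) :=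
      inferInstanceAs (IsProper (C.subschemeι ≫ (X ↘ Spec (CommRingCat.of k))))
    haveI := hCint
    have hdimC : topologicalKrullDim C.subscheme = 1 := by
      rw [← Groth.Agent.Lib.R2H1.NefPull.dim_support_eq]
      exact hCdim
    rw [Groth.Agent.Lib.R2H4NumEqPull.curveDeg_eq_deg k _ hdimC.le] at hpos'
    have e1 : (Scheme.Modules.pullback C.subschemeι).obj P ≅
        (Scheme.Modules.pullback (C.subschemeι ≫ r)).obj (Twist.twistProjSpace n k 1) :=
      (Scheme.Modules.pullback C.subschemeι).mapIso τ.symm ≪≫
        (Scheme.Modules.pullbackComp C.subschemeι r).app _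
    have hconst : ∀ y : C.subscheme, (C.subschemeι ≫ r).base y = p := by
      intro y
      have hy : C.subschemeι.base y ∈ (C.support : Set X) := by
        rw [← Scheme.IdealSheafData.range_subschemeι]
        exact ⟨y, rfl⟩
      exact hCsub hy
    have hz := deg_pullback_eq_zero_of_const k C.subscheme hdimC (C.subschemeι ≫ r) p hconst
    rw [deg_congr k C.subscheme e1 1, hz] at hpos'
    exact lt_irrefl _ hpos'
  haveI : IsFinite r := isFinite_of_finite_closed_fibres r hfin
  exact Groth.Agent.Lib.Helper23.AmpleIso.isAmple_of_iso τ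
    (Groth.Agent.Lib.Helper23.PB.isAmple_pullback_of_isAffineHom r _ hO1)

end Main

section Nef

variable (k : Type u) [Field k] (X : Scheme.{u}) [X.Over (Spec (CommRingCat.of k))]
    [IsProper (X ↘ (Spec (CommRingCat.of k)))]

/-- the degree on an integral closed curve, as a difference of Euler characteristics on `X` -/
theorem euler_sub_eq_deg (C : X.IdealSheafData) (_hCint : IsIntegral C.subscheme)
    (hCdim : topologicalKrullDim (C.support : Set X) = 1) (L : X.Modules)
    (hL : PicF.IsInvertible L) :
    Curv2.euler k X (CohB1.tensorMod (ClSub.quotMod C) L) - Curv2.euler k X (ClSub.quotMod C) =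
      @Curv2.deg k _ C.subscheme ⟨C.subschemeι ≫ (X ↘ (Spec (CommRingCat.of k)))⟩
        ((Scheme.Modules.pullback C.subschemeι).obj L) 1 := by
  rw [Groth.Agent.Lib.R2H1.NefPull.euler_quotMod_tensor_sub k X C hCdim.le L hL]
  have hdimC : topologicalKrullDim C.subscheme = 1 := by
    rw [← Groth.Agent.Lib.R2H1.NefPull.dim_support_eq]
    exact hCdim
  exact Groth.Agent.Lib.R2H4NumEqPull.curveDeg_eq_deg k _ hdimC.le _

theorem euler_sub_tensorPow (C : X.IdealSheafData) (hCint : IsIntegral C.subscheme)
    (hCdim : topologicalKrullDim (C.support : Set X) = 1) (L : X.Modules)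
    (hL : PicF.IsInvertible L) (m : ℕ) :
    Curv2.euler k X (CohB1.tensorMod (ClSub.quotMod C) (CohB1.tensorPow L m)) -
        Curv2.euler k X (ClSub.quotMod C) =
      m * (Curv2.euler k X (CohB1.tensorMod (ClSub.quotMod C) L) -
        Curv2.euler k X (ClSub.quotMod C)) := by
  rw [euler_sub_eq_deg k X C hCint hCdim _ (Groth.Agent.Lib.Helper23.SecTw.isInvertible_tensorPow hL m),
    euler_sub_eq_deg k X C hCint hCdim L hL]
  letI : C.subscheme.Over (Spec (CommRingCat.of k)) :=
    ⟨C.subschemeι ≫ (X ↘ Spec (CommRingCat.of k))⟩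
  haveI : IsProper (C.subscheme ↘ Spec (CommRingCat.of k)) :=
    inferInstanceAs (IsProper (C.subschemeι ≫ (X ↘ Spec (CommRingCat.of k))))
  haveI := hCint
  have hdimC : topologicalKrullDim C.subscheme = 1 := by
    rw [← Groth.Agent.Lib.R2H1.NefPull.dim_support_eq]
    exact hCdim
  obtain ⟨Φ⟩ := Groth.Agent.Lib.Helper23.PB.nonempty_pullback_tensorPow_iso C.subschemeι L hL m
  have hinv := Groth.Agent.Lib.Helper23.PB.isInvertible_pullback C.subschemeι L hL
  show Curv2.deg k C.subscheme _ 1 = m * Curv2.deg k C.subscheme _ 1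
  rw [deg_congr k C.subscheme Φ 1, deg_tensorPow k C.subscheme hdimC _ hinv m]

/-- an ample invertible module has positive degree on every integral closed curve -/
theorem deg_pos_of_isAmple (L : X.Modules) (hL : CohB1.IsAmple L) (C : X.IdealSheafData)
    (hCint : IsIntegral C.subscheme) (hCdim : topologicalKrullDim (C.support : Set X) = 1) :
    0 < Curv2.euler k X (CohB1.tensorMod (ClSub.quotMod C) L) -
      Curv2.euler k X (ClSub.quotMod C) := by
  rw [euler_sub_eq_deg k X C hCint hCdim L hL.1]
  letI : C.subscheme.Over (Spec (CommRingCat.of k)) :=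
    ⟨C.subschemeι ≫ (X ↘ Spec (CommRingCat.of k))⟩
  haveI : IsProper (C.subscheme ↘ Spec (CommRingCat.of k)) :=
    inferInstanceAs (IsProper (C.subschemeι ≫ (X ↘ Spec (CommRingCat.of k))))
  haveI := hCint
  have hdimC : topologicalKrullDim C.subscheme = 1 := by
    rw [← Groth.Agent.Lib.R2H1.NefPull.dim_support_eq]
    exact hCdim
  have hinv := Groth.Agent.Lib.Helper23.PB.isInvertible_pullback C.subschemeι L hL.1
  exact (s1530 k C.subscheme hdimC _ hinv).mp
    (Groth.Agent.Lib.Helper23.PB.isAmple_pullback_of_isAffineHom C.subschemeι L hL)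

/-- an ample invertible module is semiample -/
theorem exists_isGloballyGenerated_pow_of_isAmple (L : X.Modules) (hL : CohB1.IsAmple L) :
    ∃ m : ℕ, Curv2.IsGloballyGenerated (CohB1.tensorPow L (m + 1)) := by
  haveI : (Coh.structureModule X).IsQuasicoherent :=
    Groth.Agent.Lib.Helper23.Serre.isQuasicoherent_structureModule' X
  haveI : SheafOfModules.IsFiniteType (R := X.ringCatSheaf) (Coh.structureModule X) :=
    Groth.Agent.Lib.R2H2.PnFinite.isFiniteType_structureModule X
  obtain ⟨n₀, hn₀⟩ := Groth.Agent.Lib.Helper23.LocGen.isGloballyGenerated_twist_eventually L hL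
    (Coh.structureModule X)
  exact ⟨n₀, Groth.Agent.Lib.Helper23.RestrTensor.isGloballyGenerated_of_iso
    (Groth.Agent.Lib.R2H4TensorPows.lUnit _) (hn₀ (n₀ + 1) (Nat.le_succ _))⟩

/-- **S16710**: ample iff strictly nef and semiample -/
theorem isAmple_iff_strictlyNef_and_semiample (L : X.Modules) (hL : PicF.IsInvertible L) :
    CohB1.IsAmple L ↔
      ((∀ C : X.IdealSheafData, IsIntegral C.subscheme →
          topologicalKrullDim (C.support : Set X) = 1 →
            0 < Curv2.euler k X (CohB1.tensorMod (ClSub.quotMod C) L) -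
              Curv2.euler k X (ClSub.quotMod C)) ∧
        ∃ m : ℕ, Curv2.IsGloballyGenerated (CohB1.tensorPow L (m + 1))) := by
  constructor
  · intro hamp
    exact ⟨fun C hCint hCdim => deg_pos_of_isAmple k X L hamp C hCint hCdim,
      exists_isGloballyGenerated_pow_of_isAmple X L hamp⟩
  · rintro ⟨hnef, m, hgg⟩
    have hPinv := Groth.Agent.Lib.Helper23.SecTw.isInvertible_tensorPow hL (m + 1)
    have hP : CohB1.IsAmple (CohB1.tensorPow L (m + 1)) := by
      refine isAmple_of_gg_of_deg_pos k X _ hPinv hgg (fun C hCint hCdim => ?_)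
      rw [euler_sub_tensorPow k X C hCint hCdim L hL (m + 1)]
      have := hnef C hCint hCdim
      positivity
    exact (Groth.Agent.Lib.Helper23.SecTw.isAmple_tensorPow_iff L hL (m + 1) (Nat.succ_pos m)).mpr hP

end Nef

end Groth.Agent.Lib.R2H4GGAmple
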