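import Mathlib
import Groth.Agent.Lib.R2H1ProjChart
import Groth.Agent.Lib.R2H4GGAmple
import Groth.Agent.Lib.Helper23GG
import Groth.Agent.Lib.R2H3VAmpleMor

set_option autoImplicit false
set_option linter.style.haveILetI false
universe u

namespace Groth.Agent.Lib.H9GGAffine

open CategoryTheory CategoryTheory.Limits AlgebraicGeometry TopologicalSpace Opposite
open Groth.Agent.Lib.Helper23.SecTw Groth.Agent.Lib.Helper6 Groth.Agent.Lib.Helper23.GenLocus

/-- a closed point of an open subspace is locally closed in the ambient space. -/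
theorem isLocallyClosed_singleton_of_isClosed_subtype {T : Type*} [TopologicalSpace T] (V : Set T)
    (hV : IsOpen V) (p : V) (hp : IsClosed ({p} : Set V)) : IsLocallyClosed ({p.1} : Set T) := by
  have hpcl : ({p.1} : Set T) = V ∩ closure {p.1} := by
    ext y
    constructor
    · rintro rfl
      exact ⟨p.2, subset_closure rfl⟩
    · rintro ⟨hyV, hycl⟩
      have h1 : (⟨y, hyV⟩ : V) ∈ closure ({p} : Set V) := by
        rw [closure_subtype, Set.image_singleton]
        exact hycl
      have h1' : (⟨y, hyV⟩ : V) = p := hp.closure_subset h1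
      exact congrArg Subtype.val h1'
  rw [hpcl]
  exact hV.isLocallyClosed.inter isClosed_closure.isLocallyClosed

/-- finitely many global sections generating a globally generated invertible module on a
quasi-compact scheme, the first one being prescribed. -/
theorem exists_fin_sections {X : Scheme.{u}} [CompactSpace X] (L : X.Modules)
    (hL : PicF.IsInvertible L) (hgen : Curv2.IsGloballyGenerated L)
    (s : Coh.structureModule X ⟶ L) :
    ∃ (n : ℕ) (s' : Fin (n + 1) → ProjUP.Γm L), secHom L (s' 0) = s ∧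
      ∀ x : X, ∃ i, x ∈ CohB1.genLocus L (secHom L (s' i)) := by
  choose t ht using Groth.Agent.Lib.Helper23.GG.exists_section_mem_genLocus L hL hgen
  obtain ⟨F, hF⟩ := isCompact_univ.elim_finite_subcover
    (fun x => ((CohB1.genLocus L (t x) : X.Opens) : Set X))
    (fun x => (CohB1.genLocus L (t x)).isOpen)
    (fun x _ => Set.mem_iUnion.mpr ⟨x, ht x⟩)
  let e : Fin F.card ≃ F := F.equivFin.symm
  refine ⟨F.card, Fin.cons (sv s ⊤) (fun i => sv (t (e i).1) ⊤), ?_, fun x => ?_⟩
  · rw [Fin.cons_zero]
    exact Groth.Agent.Lib.R2H3.VAmpleMor.secHom_sv s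
  · have hx := hF (Set.mem_univ x)
    simp only [Set.mem_iUnion] at hx
    obtain ⟨y, hyF, hxy⟩ := hx
    refine ⟨(e.symm ⟨y, hyF⟩).succ, ?_⟩
    rw [Fin.cons_succ, Equiv.apply_symm_apply, Groth.Agent.Lib.R2H3.VAmpleMor.secHom_sv]
    exact hxy

/-- **S11372**. -/
theorem main (k : Type u) [Field k] (X : Scheme.{u})
    [X.Over (Spec (CommRingCat.of k))] [IsProper (X ↘ (Spec (CommRingCat.of k)))]
    (L : X.Modules) (hL : PicF.IsInvertible L) (hgen : Curv2.IsGloballyGenerated L)
    (s : Coh.structureModule X ⟶ L)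
    (hcurves : ∀ C : X.IdealSheafData, IsIntegral C.subscheme →
      topologicalKrullDim (C.support : Set X) = 1 →
        ¬ ((C.support : Set X) ⊆ (CohB1.genLocus L s : Set X))) :
    IsAffineOpen (CohB1.genLocus L s) := by
  haveI : CompactSpace X :=
    QuasiCompact.compactSpace_of_compactSpace (X ↘ (Spec (CommRingCat.of k)))
  haveI : IsLocallyNoetherian X :=
    LocallyOfFiniteType.isLocallyNoetherian (X ↘ (Spec (CommRingCat.of k)))
  haveI : IsNoetherian X := ⟨⟩
  haveI : JacobsonSpace X :=
    LocallyOfFiniteType.jacobsonSpace (X ↘ (Spec (CommRingCat.of k)))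
  obtain ⟨n, s', hs0, hcov⟩ := exists_fin_sections L hL hgen s
  obtain ⟨r, hrq, H⟩ := Groth.Agent.Lib.R2H1.ProjChart.exists_mor_Pn' n
    (X ↘ (Spec (CommRingCat.of k))) L hL s' hcov
  obtain ⟨hV, -⟩ := H 0
  rw [hs0] at hV
  -- `r` is proper
  haveI hsepP : IsSeparated (Groth.Agent.Helper13ProjUP.toBase (CohB1.polyGrading n k)) := by
    haveI : IsSeparated (Groth.Agent.Helper13ProjUP.toBase (CohB1.polyGrading n k) ≫
        terminal.from _) := by
      rw [terminal.comp_from]
      infer_instance
    exact IsSeparated.of_comp _ (terminal.from _)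
  haveI hrprop : IsProper r := by
    haveI : IsProper (r ≫ Groth.Agent.Helper13ProjUP.toBase (CohB1.polyGrading n k)) := by
      rw [hrq]; infer_instance
    exact IsProper.of_comp r (Groth.Agent.Helper13ProjUP.toBase (CohB1.polyGrading n k))
  obtain ⟨V, hVdef⟩ : ∃ V : (Proj (CohB1.polyGrading n k)).Opens,
      V = Proj.basicOpen (CohB1.polyGrading n k) (MvPolynomial.X 0) := ⟨_, rfl⟩
  rw [← hVdef] at hV
  have hVaff : IsAffineOpen V := by
    rw [hVdef]
    exact Proj.isAffineOpen_basicOpen (CohB1.polyGrading n k) (MvPolynomial.X 0)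
      (m := 1) (MvPolynomial.isHomogeneous_X k 0) one_pos
  haveI hVaff' : IsAffine (V : Scheme.{u}) := hVaff
  haveI : CompactSpace ↥(V : Scheme.{u}) := inferInstance
  haveI : IsProper (r ∣_ V) := IsZariskiLocalAtTarget.restrict hrprop V
  have hfin : IsFinite (r ∣_ V) := by
    apply Groth.Agent.Lib.R2H4GGAmple.isFinite_of_finite_closed_fibres
    intro p hp
    by_contra hinf
    -- the fibre as a subset of `X`
    have hZloc : IsLocallyClosed (r.base ⁻¹' {p.1}) :=
      (isLocallyClosed_singleton_of_isClosed_subtype (V : Set (Proj (CohB1.polyGrading n k)))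
        V.isOpen p hp).preimage r.continuous
    have hZinf : (r.base ⁻¹' {p.1}).Infinite := by
      have h2 : Set.Infinite ((r ∣_ V).base ⁻¹' {p}) := hinf
      refine (h2.image Subtype.val_injective.injOn).mono ?_
      rintro _ ⟨u, hu, rfl⟩
      show r u.1 = p.1
      rw [← morphismRestrict_base_coe]
      exact congrArg Subtype.val hu
    obtain ⟨x, hxZ, hxcl⟩ := nonempty_inter_closedPoints hZinf.nonempty hZloc
    have hp'cl : IsClosed ({p.1} : Set (Proj (CohB1.polyGrading n k))) := by
      have h3 := r.isClosedMap _ (mem_closedPoints_iff.mp hxcl)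
      rw [Set.image_singleton] at h3
      have h4 : r x = p.1 := hxZ
      rwa [h4] at h3
    obtain ⟨C, hCint, hCdim, hCsub⟩ := Groth.Agent.Lib.R2H4GGAmple.exists_curve_subset
      (r.base ⁻¹' {p.1}) (hp'cl.preimage r.continuous) hZinf
    refine hcurves C hCint hCdim (hCsub.trans ?_)
    intro z hz
    rw [hV]
    show r z ∈ V
    have h5 : r z = p.1 := hz
    rw [h5]
    exact p.2
  haveI : IsAffineHom (r ∣_ V) := inferInstance
  have : IsAffine ((r ⁻¹ᵁ V : X.Opens) : Scheme.{u}) := by
    exact isAffine_of_isAffineHom (r ∣_ V)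
  rw [hV]
  exact this

end Groth.Agent.Lib.H9GGAffine
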