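import Mathlib
import Groth.Agent.S18686

/-!
# Helpers on permutation, flasque and coflasque lattices (helper9)
-/

set_option autoImplicit false

namespace Groth.Agent.Lib.H9GLat

open Groth.Agent.S18675 Groth.Agent.S18686

section Transport

variable {G : Type} [Group G] {M : Type} [AddCommGroup M]

/-- the action on the index set of a permuted basis -/
noncomputable def idxAct (σ : Representation ℤ G M) {ι : Type} (b : Module.Basis ι ℤ M)
    (hb : ∀ (g : G) (i : ι), ∃ j : ι, σ g (b i) = b j) (g : G) (i : ι) : ι :=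
  Classical.choose (hb g i)

lemma idxAct_spec (σ : Representation ℤ G M) {ι : Type} (b : Module.Basis ι ℤ M)
    (hb : ∀ (g : G) (i : ι), ∃ j : ι, σ g (b i) = b j) (g : G) (i : ι) :
    b (idxAct σ b hb g i) = σ g (b i) :=
  (Classical.choose_spec (hb g i)).symm

/-- the `MulAction` on the index set of a permuted basis -/
@[reducible] noncomputable def idxMulAction (σ : Representation ℤ G M) {ι : Type}
    (b : Module.Basis ι ℤ M) (hb : ∀ (g : G) (i : ι), ∃ j : ι, σ g (b i) = b j) :
    MulAction G ι where
  smul g i := idxAct σ b hb g i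
  one_smul i := b.injective (by
    show b (idxAct σ b hb 1 i) = b i
    rw [idxAct_spec, map_one]
    rfl)
  mul_smul g h i := b.injective (by
    show b (idxAct σ b hb (g * h) i) = b (idxAct σ b hb g (idxAct σ b hb h i))
    rw [idxAct_spec, idxAct_spec, idxAct_spec, map_mul]
    rfl)

lemma repr_equivariant (σ : Representation ℤ G M) {ι : Type} (b : Module.Basis ι ℤ M)
    (hb : ∀ (g : G) (i : ι), ∃ j : ι, σ g (b i) = b j) (g : G) (m : M) :
    letI := idxMulAction σ b hb
    b.repr (σ g m) = perm G ι g (b.repr m) := by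
  let _ := idxMulAction σ b hb
  have h : b.repr.toLinearMap ∘ₗ σ g = perm G ι g ∘ₗ b.repr.toLinearMap := by
    refine b.ext fun i => ?_
    simp only [LinearMap.comp_apply, LinearEquiv.coe_coe, Module.Basis.repr_self]
    rw [perm_single]
    have : σ g (b i) = b (g • i) := (idxAct_spec σ b hb g i).symm
    rw [this, Module.Basis.repr_self]
  exact LinearMap.congr_fun h m

/-- a finitely generated permutation module is coflasque -/
theorem isCoflasque_of_isPermutation [Finite G] [Module.Finite ℤ M] (σ : Representation ℤ G M)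
    (hσ : GLat.IsPermutation σ) : GLat.IsCoflasque σ := by
  obtain ⟨ι, b, hb⟩ := hσ
  let _ := idxMulAction σ b hb
  have : Finite ι := Module.Finite.finite_basis b
  intro H f hf
  obtain ⟨m, hm⟩ := perm_H1 (G := G) (X := ι) H (fun a => b.repr (f a)) (by
    intro a c
    rw [hf a c, map_add, repr_equivariant σ b hb])
  refine ⟨b.repr.symm m, fun a => ?_⟩
  apply b.repr.injective
  rw [hm a, map_sub, repr_equivariant σ b hb, LinearEquiv.apply_symm_apply]

/-- a finitely generated permutation module is flasque -/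
theorem isFlasque_of_isPermutation [Finite G] [Module.Finite ℤ M] (σ : Representation ℤ G M)
    (hσ : GLat.IsPermutation σ) : GLat.IsFlasque σ := by
  classical
  obtain ⟨ι, b, hb⟩ := hσ
  let _ := idxMulAction σ b hb
  have : Finite ι := Module.Finite.finite_basis b
  intro H y hy
  have : Fintype H := Fintype.ofFinite H
  rw [finsum_eq_sum_of_fintype] at hy
  have h1 : ∑ h : H, perm G ι (h : G) (b.repr y) = 0 := by
    have := congrArg b.repr hy
    rw [map_sum, map_zero] at this
    rw [← this]
    refine Finset.sum_congr rfl fun h _ => ?_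
    rw [repr_equivariant σ b hb]
  have h2 := perm_Hm1 H (b.repr y) h1
  have h3 := Submodule.mem_map_of_mem (f := b.repr.symm.toLinearMap) h2
  rw [Submodule.map_span] at h3
  simp only [LinearEquiv.coe_coe, LinearEquiv.symm_apply_apply] at h3
  refine Submodule.span_mono ?_ h3
  rintro _ ⟨_, ⟨h, z, rfl⟩, rfl⟩
  refine ⟨h, b.repr.symm z, ?_⟩
  apply b.repr.injective
  rw [map_sub, repr_equivariant σ b hb]
  simp

end Transport

section Ext

variable {G : Type} [Group G]
  {Q E P : Type} [AddCommGroup Q] [AddCommGroup E] [AddCommGroup P]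
  (σQ : Representation ℤ G Q) (σE : Representation ℤ G E) (σP : Representation ℤ G P)
  (u : Q →ₗ[ℤ] E) (v : E →ₗ[ℤ] P)

/-- the middle term of a short exact sequence with coflasque ends is coflasque -/
theorem isCoflasque_of_exact (hu : GLat.IsEquivariant σQ σE u) (hv : GLat.IsEquivariant σE σP v)
    (huinj : Function.Injective u) (hvsurj : Function.Surjective v)
    (hex : LinearMap.range u = LinearMap.ker v)
    (hQ : GLat.IsCoflasque σQ) (hP : GLat.IsCoflasque σP) : GLat.IsCoflasque σE := by
  intro H f hf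
  obtain ⟨m, hm⟩ := hP H (fun a => v (f a)) (by
    intro a b
    rw [hf a b, map_add, hv])
  obtain ⟨e₀, rfl⟩ := hvsurj m
  have hker : ∀ a : H, f a - (σE (a : G) e₀ - e₀) ∈ LinearMap.range u := by
    intro a
    rw [hex, LinearMap.mem_ker, map_sub, map_sub, hm a, hv]
    abel
  choose q hq using hker
  obtain ⟨q₀, hq₀⟩ := hQ H q (by
    intro a b
    apply huinj
    rw [map_add, hu, hq, hq, hq, hf a b]
    simp only [Subgroup.coe_mul, map_mul, map_sub, Module.End.mul_apply]
    abel)
  refine ⟨e₀ + u q₀, fun a => ?_⟩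
  have h1 := hq a
  rw [hq₀ a, map_sub, hu] at h1
  have h2 : f a = (σE (a : G) (u q₀) - u q₀) + (σE (a : G) e₀ - e₀) := by
    rw [h1]
    abel
  rw [h2, map_add]
  abel

/-- the middle term of a short exact sequence with flasque ends is flasque -/
theorem isFlasque_of_exact [Finite G] (hu : GLat.IsEquivariant σQ σE u)
    (hv : GLat.IsEquivariant σE σP v)
    (huinj : Function.Injective u) (hvsurj : Function.Surjective v)
    (hex : LinearMap.range u = LinearMap.ker v)
    (hQ : GLat.IsFlasque σQ) (hP : GLat.IsFlasque σP) : GLat.IsFlasque σE := by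
  classical
  intro H y hy
  have : Fintype H := Fintype.ofFinite H
  rw [finsum_eq_sum_of_fintype] at hy
  have hy1 : ∑ᶠ h : H, σP (h : G) (v y) = 0 := by
    rw [finsum_eq_sum_of_fintype]
    have : ∀ h : H, σP (h : G) (v y) = v (σE (h : G) y) := fun h => (hv h y).symm
    simp only [this]
    rw [← map_sum, hy, map_zero]
  have h1 := hP H (v y) hy1
  set SE := Submodule.span ℤ {x : E | ∃ (h : H) (z : E), x = σE (h : G) z - z} with hSE
  have hmap : Submodule.span ℤ {x : P | ∃ (h : H) (z : P), x = σP (h : G) z - z} ≤ SE.map v := by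
    apply Submodule.span_le.mpr
    rintro _ ⟨h, z, rfl⟩
    obtain ⟨z', rfl⟩ := hvsurj z
    exact ⟨σE (h : G) z' - z', Submodule.subset_span ⟨h, z', rfl⟩, by rw [map_sub, hv]⟩
  obtain ⟨w, hwS, hw⟩ := hmap h1
  have hyw : y - w ∈ LinearMap.range u := by
    rw [hex, LinearMap.mem_ker, map_sub, hw, sub_self]
  obtain ⟨q, hq⟩ := hyw
  have hNw : ∑ h : H, σE (h : G) w = 0 := norm_IH σE H w hwS
  have hNq : ∑ᶠ h : H, σQ (h : G) q = 0 := by
    rw [finsum_eq_sum_of_fintype]
    apply huinj
    rw [map_sum, map_zero]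
    have : ∀ h : H, u (σQ (h : G) q) = σE (h : G) y - σE (h : G) w := fun h => by
      rw [hu, hq, map_sub]
    simp only [this]
    rw [Finset.sum_sub_distrib, hy, hNw, sub_zero]
  have h2 := hQ H q hNq
  have hyeq : y = w + u q := by
    rw [hq]
    abel
  rw [hyeq]
  refine SE.add_mem hwS ?_
  have h3 := Submodule.mem_map_of_mem (f := u) h2
  rw [Submodule.map_span] at h3
  refine Submodule.span_mono ?_ h3
  rintro _ ⟨_, ⟨h, z, rfl⟩, rfl⟩
  exact ⟨h, u z, by rw [map_sub, hu]⟩

end Ext

end Groth.Agent.Lib.H9GLat
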