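import Mathlib
import Groth.Agent.Lib.Helper2GeomPts
import Groth.Agent.S3418
import Groth.Agent.Lib.Helper20EtSections2

/-! helper9: `discreteTopology_geomFiber`, `card_geomFiber_eq` (lqf: #geomFiber = nGeomConnComp), `lsc` (= S5051 via S3418). -/

set_option autoImplicit false
universe u

namespace Groth.Agent.Lib.H9GcA

open CategoryTheory CategoryTheory.Limits AlgebraicGeometry TopologicalSpace Topology Set
open Groth.Agent.Lib.Helper2.Weight

theorem discreteTopology_geomFiber {X Y : Scheme.{u}} (f : X ⟶ Y) [LocallyQuasiFinite f] (y : Y) :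
    DiscreteTopology ↥(MoreMor.geomFiber f y) := by
  have hq1 : LocallyQuasiFinite (f.fiberToSpecResidueField y) := by
    unfold Scheme.Hom.fiberToSpecResidueField
    exact MorphismProperty.pullback_snd (P := @LocallyQuasiFinite) f _ inferInstance
  let Ωs := SeparableClosure (Y.residueField y)
  let p : MoreMor.geomFiber f y ⟶ Spec (CommRingCat.of Ωs) := pullback.snd _ _
  have hq2 : LocallyQuasiFinite p :=
    MorphismProperty.pullback_snd (P := @LocallyQuasiFinite) _ _ hq1
  have hsub : Subsingleton ↥(Spec (CommRingCat.of Ωs)) :=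
    inferInstanceAs (Subsingleton (PrimeSpectrum Ωs))
  have hne : Nonempty ↥(Spec (CommRingCat.of Ωs)) :=
    inferInstanceAs (Nonempty (PrimeSpectrum Ωs))
  obtain ⟨pt⟩ := hne
  have hdisc := p.isDiscrete_preimage_singleton pt
  have hu : p ⁻¹' {pt} = Set.univ := by
    ext z
    simp only [Set.mem_preimage, Set.mem_singleton_iff, Set.mem_univ, iff_true]
    exact Subsingleton.elim _ _
  rw [hu, isDiscrete_univ_iff] at hdisc
  exact hdisc

theorem card_geomFiber_eq {X Y : Scheme.{u}} (f : X ⟶ Y) [LocallyQuasiFinite f] (y : Y) :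
    ENat.card ↥(MoreMor.geomFiber f y) = MoreMor.nGeomConnComp f y := by
  haveI := discreteTopology_geomFiber f y
  unfold MoreMor.nGeomConnComp
  rw [card_cc_of_discrete']

theorem lsc {X Y : Scheme.{u}} (f : X ⟶ Y) [Etale f] [IsSeparated f]
    [LocallyOfFiniteType f] [QuasiCompact f] :
    LowerSemicontinuous (fun y : Y => ENat.card ↥(MoreMor.geomFiber f y)) := by
  haveI : LocallyQuasiFinite f := Groth.Agent.Lib.Helper20.EtSections.locallyQuasiFinite_of_etale f
  have h := (Groth.Agent.S3418.result f).1
  have : (fun y : Y => ENat.card ↥(MoreMor.geomFiber f y)) =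
      fun z : Y => MoreMor.nGeomConnComp f z := by
    funext y
    exact card_geomFiber_eq f y
  rw [this]
  exact h

end Groth.Agent.Lib.H9GcA
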