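import Mathlib
import Groth.Agent.Lib.H9GcA
import Groth.Agent.Lib.H9NcE

/-! helper9: finite étale g: `isClopen_N_ge` ({s | k ≤ N g s} clopen, via diagonal-complement recursion H9NcE), `isOpen_N_eq`, `nGeomConnComp_eq_N`. -/

set_option autoImplicit false
universe u

namespace Groth.Agent.Lib.H9GcB

open CategoryTheory CategoryTheory.Limits AlgebraicGeometry TopologicalSpace Topology Set
open Groth.Agent.Lib.Helper2.Weight Groth.Agent.Lib.H9NcE

/-- for a finite étale morphism the sets `{s | k ≤ N g s}` are clopen. -/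
theorem isClopen_N_ge (k : ℕ) : ∀ {S T : Scheme.{u}} (g : T ⟶ S) [IsFinite g] [Etale g],
    IsClopen {s : S | (k : ℤ) ≤ N g s} := by
  induction k with
  | zero =>
    intro S T g _ _
    have : {s : S | ((0 : ℕ) : ℤ) ≤ N g s} = Set.univ := by
      ext s
      simp only [Nat.cast_zero, Set.mem_ofPred_eq, Set.mem_univ, iff_true]
      exact N_nonneg g s
    rw [this]
    exact isClopen_univ
  | succ k ih =>
    intro S T g _ _
    have hcl : IsClosed (Set.range (pullback.diagonal g).base) :=
      (pullback.diagonal g).isClosedEmbedding.isClosed_range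
    have hop : IsOpen (Set.range (pullback.diagonal g).base) :=
      (pullback.diagonal g).isOpenEmbedding.isOpen_range
    haveI : IsClosedImmersion (W₂ g).ι := by
      apply IsClosedImmersion.of_isPreimmersion
      rw [Scheme.Opens.range_ι]
      exact hop.isClosed_compl
    haveI : IsFinite (g₂ g) := by unfold g₂; infer_instance
    haveI : Etale (g₂ g) := by unfold g₂; infer_instance
    have hih := ih (g₂ g)
    have hset : {s : S | ((k + 1 : ℕ) : ℤ) ≤ N g s} = g.base '' {t : T | (k : ℤ) ≤ N (g₂ g) t} := by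
      ext s
      simp only [Set.mem_ofPred_eq, Set.mem_image]
      constructor
      · intro hs
        have hpos : 0 < N g s := by push_cast at hs; omega
        obtain ⟨t, rfl⟩ := exists_of_N_pos g s hpos
        refine ⟨t, ?_, rfl⟩
        rw [N_g₂]
        push_cast at hs
        omega
      · rintro ⟨t, ht, rfl⟩
        rw [N_g₂] at ht
        push_cast
        omega
    rw [hset]
    exact ⟨g.isClosedMap _ hih.1, g.isOpenMap _ hih.2⟩

theorem isOpen_N_eq {S T : Scheme.{u}} (g : T ⟶ S) [IsFinite g] [Etale g] (s₀ : S) :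
    IsOpen {s : S | N g s = N g s₀} := by
  obtain ⟨k, hk⟩ : ∃ k : ℕ, N g s₀ = k := ⟨(N g s₀).toNat, (Int.toNat_of_nonneg (N_nonneg g s₀)).symm⟩
  have h1 := isClopen_N_ge k g
  have h2 := isClopen_N_ge (k + 1) g
  have : {s : S | N g s = N g s₀} = {s : S | (k : ℤ) ≤ N g s} \ {s : S | ((k + 1 : ℕ) : ℤ) ≤ N g s} := by
    ext s
    simp only [Set.mem_ofPred_eq, Set.mem_diff, hk]
    push_cast
    omega
  rw [this]
  exact h1.2.sdiff h2.1

/-- `nGeomConnComp` in terms of `N`. -/
theorem nGeomConnComp_eq_N {X Y : Scheme.{u}} (f : X ⟶ Y) [LocallyQuasiFinite f] [QuasiCompact f]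
    [LocallyOfFiniteType f] (y : Y) :
    MoreMor.nGeomConnComp f y = ((N f y).toNat : ℕ∞) := by
  have hfin := f.finite_preimage_singleton y
  rw [Groth.Agent.Lib.Helper2.Weight.nGeomConnComp_eq f y hfin]
  have : N f y = (ng f y : ℤ) := fibreIntegral_one f y hfin
  rw [this, Int.toNat_natCast]

end Groth.Agent.Lib.H9GcB
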