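import Mathlib
import Groth.Agent.Lib.H9GcB
import Groth.Agent.S1335

/-! helper9: étale separated f.t.: `finite_of_const`, `const_of_finite` (= S5052), `finite_iff_const` (= S5053). -/

set_option autoImplicit false
universe u

namespace Groth.Agent.Lib.H9GcC

open CategoryTheory CategoryTheory.Limits AlgebraicGeometry TopologicalSpace Topology Set
open Groth.Agent.Lib.Helper2.Weight Groth.Agent.Lib.H9NcE Groth.Agent.Lib.H9GcA
open Groth.Agent.Lib.H9GcB

variable {X Y : Scheme.{u}} (f : X ⟶ Y) [Etale f] [IsSeparated f] [LocallyOfFiniteType f]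
  [QuasiCompact f]

theorem finite_of_const (y : Y)
    (h : ∃ U : Y.Opens, y ∈ U ∧ ∀ y' : Y, y' ∈ U →
      ENat.card ↥(MoreMor.geomFiber f y') = ENat.card ↥(MoreMor.geomFiber f y)) :
    ∃ U : Y.Opens, y ∈ U ∧ IsFinite (f ∣_ U) := by
  haveI : LocallyQuasiFinite f := Groth.Agent.Lib.Helper20.EtSections.locallyQuasiFinite_of_etale f
  obtain ⟨U, hyU, hU⟩ := h
  have h2 := (Groth.Agent.S3418.result f).2 y ⟨U, U.2.mem_nhds hyU, fun z hz => by
    rw [← card_geomFiber_eq f z, ← card_geomFiber_eq f y]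
    exact hU z hz⟩
  obtain ⟨U', hyU', hprop⟩ := h2
  exact ⟨U', hyU', IsFinite.of_isProper_of_locallyQuasiFinite _⟩

theorem const_of_finite (y : Y) (h : ∃ U : Y.Opens, y ∈ U ∧ IsFinite (f ∣_ U)) :
    ∃ U : Y.Opens, y ∈ U ∧ ∀ y' : Y, y' ∈ U →
      ENat.card ↥(MoreMor.geomFiber f y') = ENat.card ↥(MoreMor.geomFiber f y) := by
  haveI : LocallyQuasiFinite f := Groth.Agent.Lib.Helper20.EtSections.locallyQuasiFinite_of_etale f
  obtain ⟨U, hyU, hfin⟩ := h
  have hbc : ∀ u : U, MoreMor.nGeomConnComp (f ∣_ U) u = MoreMor.nGeomConnComp f (U.ι.base u) :=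
    fun u => Groth.Agent.S1335.result f (f ∣_ U) _ U.ι (isPullback_morphismRestrict f U).flip u
  let y' : U := ⟨y, hyU⟩
  have hopen := isOpen_N_eq (f ∣_ U) y'
  let V : Y.Opens := ⟨U.ι.base '' {u : U | N (f ∣_ U) u = N (f ∣_ U) y'},
    U.ι.isOpenEmbedding.isOpenMap _ hopen⟩
  refine ⟨V, ⟨y', rfl, rfl⟩, ?_⟩
  rintro _ ⟨u, hu, rfl⟩
  rw [card_geomFiber_eq, card_geomFiber_eq]
  have h1 : U.ι.base y' = y := rfl
  rw [← h1, ← hbc u, ← hbc y', nGeomConnComp_eq_N, nGeomConnComp_eq_N]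
  have : N (f ∣_ U) u = N (f ∣_ U) y' := hu
  rw [this]

theorem finite_iff_const [ConnectedSpace ↥Y] :
    IsFinite f ↔ ∃ n : ℕ∞, ∀ y : Y, ENat.card ↥(MoreMor.geomFiber f y) = n := by
  haveI : LocallyQuasiFinite f := Groth.Agent.Lib.Helper20.EtSections.locallyQuasiFinite_of_etale f
  constructor
  · intro hfin
    have hlc : IsLocallyConstant (fun s : Y => N f s) := by
      rw [IsLocallyConstant.iff_isOpen_fiber_apply]
      intro s₀
      exact isOpen_N_eq f s₀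
    obtain ⟨y₀⟩ : Nonempty Y := inferInstance
    refine ⟨ENat.card ↥(MoreMor.geomFiber f y₀), fun y => ?_⟩
    rw [card_geomFiber_eq, card_geomFiber_eq, nGeomConnComp_eq_N, nGeomConnComp_eq_N]
    have : N f y = N f y₀ := hlc.apply_eq_of_preconnectedSpace y y₀
    rw [this]
  · rintro ⟨n, hn⟩
    have hloc : ∀ y : Y, ∃ U : Y.Opens, y ∈ U ∧ IsFinite (f ∣_ U) := fun y =>
      finite_of_const f y ⟨⊤, trivial, fun y' _ => by rw [hn y', hn y]⟩
    choose U hyU hU using hloc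
    have hsup : iSup U = ⊤ := by
      rw [eq_top_iff]
      intro y _
      exact TopologicalSpace.Opens.mem_iSup.mpr ⟨y, hyU y⟩
    exact (IsZariskiLocalAtTarget.iff_of_iSup_eq_top (P := @IsFinite) U hsup).mpr hU

end Groth.Agent.Lib.H9GcC
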