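import Mathlib
import Groth.Agent.Lib.H9LscB
import Groth.Agent.Lib.Helper6SepCl

/-! helper9: `connectedSpace_of_card_eq_one`, `card_eq_one_of_connectedSpace`, `nGeomConnComp_eq_one_of_geometricallyConnected`, `geometricallyConnected_of_nGeomConnComp_eq_one` (n(y)=1 ⇔ fibre geometrically connected, via Helper6SepCl), `isUnivOpenAt_of_universallyOpen`, `one_le_nGeomConnComp`, `main` (= S17449: proper flat surjective over Noetherian base, generic fibres geometrically connected ⇒ all fibres; smoothness not needed). -/

set_option autoImplicit false
universe u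

namespace Groth.Agent.Lib.H9GcFlat

open CategoryTheory CategoryTheory.Limits AlgebraicGeometry TopologicalSpace Opposite

/-- a nonempty space with at most one connected component is connected -/
theorem connectedSpace_of_card_eq_one {T : Type*} [TopologicalSpace T]
    (h : ENat.card (_root_.ConnectedComponents T) = 1) : ConnectedSpace T := by
  obtain ⟨hu⟩ := ENat.card_eq_one_iff_unique.mp h
  haveI : Nonempty T := ConnectedComponents.nonempty_iff_nonempty.mp ⟨hu.default⟩
  haveI : PreconnectedSpace T := by
    rw [preconnectedSpace_iff_connectedComponent]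
    intro x
    ext y
    simp only [Set.mem_univ, iff_true]
    have : (ConnectedComponents.mk y : _root_.ConnectedComponents T) = ConnectedComponents.mk x :=
      (hu.uniq _).trans (hu.uniq _).symm
    rw [ConnectedComponents.coe_eq_coe] at this
    rw [← this]
    exact mem_connectedComponent
  exact { toNonempty := inferInstance }

theorem card_eq_one_of_connectedSpace {T : Type*} [TopologicalSpace T] [ConnectedSpace T] :
    ENat.card (_root_.ConnectedComponents T) = 1 := by
  rw [ENat.card_eq_one_iff_unique]
  exact ⟨{ default := ConnectedComponents.mk (Classical.arbitrary T), uniq := fun _ => Subsingleton.elim _ _ }⟩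

variable {X Y : Scheme.{u}} (f : X ⟶ Y)

theorem nGeomConnComp_eq_one_of_geometricallyConnected (y : Y)
    [GeometricallyConnected (f.fiberToSpecResidueField y)] : MoreMor.nGeomConnComp f y = 1 := by
  unfold MoreMor.nGeomConnComp MoreMor.geomFiber
  haveI : ConnectedSpace ↥(pullback (f.fiberToSpecResidueField y)
      (Spec.map (CommRingCat.ofHom
        (algebraMap (Y.residueField y) (SeparableClosure (Y.residueField y)))))) :=
    (GeometricallyConnected.geometrically_connectedSpace
      (f := f.fiberToSpecResidueField y)) _ _ _ (IsPullback.of_hasPullback _ _)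
  exact card_eq_one_of_connectedSpace

theorem geometricallyConnected_of_nGeomConnComp_eq_one (y : Y)
    (h : MoreMor.nGeomConnComp f y = 1) :
    GeometricallyConnected (f.fiberToSpecResidueField y) := by
  letI : (f.fiber y).Over (Spec (CommRingCat.of (Y.residueField y))) :=
    ⟨f.fiberToSpecResidueField y⟩
  haveI : ConnectedSpace (Curv2.bc (Y.residueField y) (f.fiber y)
      (SeparableClosure (Y.residueField y))) := connectedSpace_of_card_eq_one h
  exact Groth.Agent.Lib.Helper6.SepCl.geometricallyConnected_of_sepClosure
    (Y.residueField y) (f.fiber y)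

theorem isUnivOpenAt_of_universallyOpen [UniversallyOpen f] (x : X) : EGA43.IsUnivOpenAt f x := by
  intro Y' g x' _ U hU
  exact (pullback.snd f g).isOpenMap.image_mem_nhds hU

theorem one_le_nGeomConnComp [Surjective f] (y : Y) : 1 ≤ MoreMor.nGeomConnComp f y := by
  unfold MoreMor.nGeomConnComp
  rw [ENat.one_le_card_iff_nonempty, ConnectedComponents.nonempty_iff_nonempty]
  unfold MoreMor.geomFiber
  obtain ⟨x, hx⟩ := f.surjective y
  obtain ⟨z, -⟩ := (pullback.fst (f.fiberToSpecResidueField y)
      (Spec.map (CommRingCat.ofHom
        (algebraMap (Y.residueField y) (SeparableClosure (Y.residueField y)))))).surjective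
      (f.asFiber x |> fun w => (by
        subst hx
        exact w))
  exact ⟨z⟩

/-- **S17449**: proper flat surjective over a Noetherian base with geometrically connected
generic fibres has geometrically connected fibres. -/
theorem main {X S : Scheme.{u}} (f : X ⟶ S) [IsProper f] [Flat f] [Surjective f] [IsNoetherian S]
    (h : ∀ (Z : Set ↑S) (η : ↑S), Z ∈ irreducibleComponents ↑S → IsGenericPoint η Z →
      GeometricallyConnected (f.fiberToSpecResidueField η)) :
    GeometricallyConnected f := by
  haveI : LocallyOfFinitePresentation f :=
    LocallyOfFinitePresentation.iff_locallyOfFiniteType.mpr inferInstance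
  rw [GeometricallyConnected.iff_geometricallyConnected_fiber]
  intro s
  apply geometricallyConnected_of_nGeomConnComp_eq_one
  apply le_antisymm _ (one_le_nGeomConnComp f s)
  obtain ⟨V, hV, hle⟩ := Groth.Agent.Lib.H9LscB.main f s
    (fun x _ => isUnivOpenAt_of_universallyOpen f x)
  have hZ := irreducibleComponent_mem_irreducibleComponents s
  obtain ⟨η, hη⟩ := QuasiSober.sober (isIrreducible_irreducibleComponent (x := s))
    isClosed_irreducibleComponent
  have hspec : η ⤳ s := by
    rw [specializes_iff_mem_closure, hη.def]
    exact mem_irreducibleComponent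
  have hηV : η ∈ V := mem_of_mem_nhds (hspec hV)
  haveI := h _ η hZ hη
  calc MoreMor.nGeomConnComp f s ≤ MoreMor.nGeomConnComp f η := hle η hηV
    _ = 1 := nGeomConnComp_eq_one_of_geometricallyConnected f η

end Groth.Agent.Lib.H9GcFlat
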