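import Mathlib
import Groth.Agent.Lib.Helper14NormFlat

/-! Generic nilpotence: torsion in a FreeAway module is killed by a power (FreeAway.pow_smul_eq_zero_of_torsion), spans of linearly independent sets over a domain are torsion free, exists_generic_nilp (B f.t. over A, p prime: ∃ g ∉ p, every b lying in all primes over p lies in all primes ⊇ pB not containing g) (helper9). -/

set_option autoImplicit false
universe u

namespace Groth.Agent.Lib.H9GenPt1

open Groth.Agent.Lib.Helper2.GenFree

/-- the span of a linearly independent family over a domain is torsion free. -/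
theorem eq_zero_of_smul_eq_zero_of_mem_span {R M : Type*} [CommRing R] [IsDomain R]
    [AddCommGroup M] [Module R M] {S : Set M} (hS : LinearIndependent R ((↑) : S → M))
    {a : R} (ha : a ≠ 0) {y : M} (hy : y ∈ Submodule.span R S) (h : a • y = 0) : y = 0 := by
  have hy' : y ∈ Submodule.span R (Set.range ((↑) : S → M)) := by simpa using hy
  obtain ⟨c, rfl⟩ := (Finsupp.mem_span_range_iff_exists_finsupp).mp hy'
  have h1 : (Finsupp.linearCombination R ((↑) : S → M)) (a • c) = 0 := by
    rw [map_smul]
    simpa [Finsupp.linearCombination_apply] using h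
  have h2 : a • c = 0 := by
    have := (linearIndependent_iff.mp hS) (a • c) h1
    exact this
  have h3 : c = 0 := by
    rcases smul_eq_zero.mp h2 with h | h
    · exact absurd h ha
    · exact h
  simp [h3]

/-- an element which is torsion in a module free away from `f` is killed by a power of `f`. -/
theorem FreeAway.pow_smul_eq_zero_of_torsion {R M : Type*} [CommRing R] [IsDomain R]
    [AddCommGroup M] [Module R M] {f : R} (hF : FreeAway R f M) {a : R} (ha : a ≠ 0) {y : M}
    (h : a • y = 0) : ∃ n : ℕ, f ^ n • y = 0 := by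
  obtain ⟨S, hS, hs⟩ := hF
  obtain ⟨n, hn⟩ := hs y
  refine ⟨n, eq_zero_of_smul_eq_zero_of_mem_span hS ha hn ?_⟩
  rw [smul_comm, h, smul_zero]

/-- **generic nilpotence**: for a finite type algebra `B` over `A` and a prime `p` of `A` there
is `g ∉ p` such that every `b ∈ B` lying in all the primes of `B` over `p` lies in all the
primes of `B` containing `pB` and not containing `g`. -/
theorem exists_generic_nilp {A : Type*} [CommRing A] (p : Ideal A) [p.IsPrime]
    (B : Type*) [CommRing B] [Algebra A B] [Algebra.FiniteType A B] :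
    ∃ g : A, g ∉ p ∧ ∀ b : B,
      (∀ q : Ideal B, q.IsPrime → q.comap (algebraMap A B) = p → b ∈ q) →
      ∀ q : Ideal B, q.IsPrime → p.map (algebraMap A B) ≤ q → algebraMap A B g ∉ q → b ∈ q := by
  obtain ⟨g, hgp, hfree⟩ := Groth.Agent.Lib.Helper14.NormFlat.exists_freeAway_quotient p B B
  refine ⟨g, hgp, fun b hb q hq hpq hgq => ?_⟩
  -- step 1: there are `a ∉ p` and `n` with `a • b ^ n ∈ pB`
  obtain ⟨a, ha, n, han⟩ : ∃ a : A, a ∉ p ∧ ∃ n : ℕ,
      algebraMap A B a * b ^ n ∈ p.map (algebraMap A B) := by
    by_contra hcon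
    push Not at hcon
    let Mset : Submonoid B :=
      { carrier := {x | ∃ a : A, a ∉ p ∧ ∃ n : ℕ, x = algebraMap A B a * b ^ n}
        one_mem' := ⟨1, fun h => ‹p.IsPrime›.ne_top ((Ideal.eq_top_iff_one _).mpr h), 0, by simp⟩
        mul_mem' := by
          rintro x y ⟨a, ha, n, rfl⟩ ⟨a', ha', n', rfl⟩
          refine ⟨a * a', fun h => ?_, n + n', ?_⟩
          · rcases ‹p.IsPrime›.mem_or_mem h with h | h
            · exact ha h
            · exact ha' h
          · rw [map_mul, pow_add]; ring }
    have hdisj : Disjoint (Mset : Set B) (p.map (algebraMap A B) : Set B) := by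
      rw [Set.disjoint_left]
      rintro x ⟨a, ha, n, rfl⟩ hx
      exact hcon a ha n hx
    obtain ⟨P, hP, hPle, hPdisj⟩ := Ideal.exists_le_prime_disjoint _ Mset hdisj.symm
    have hbP : b ∉ P := fun h =>
      (Set.disjoint_left.mp hPdisj) h ⟨1, fun h => ‹p.IsPrime›.ne_top
        ((Ideal.eq_top_iff_one _).mpr h), 1, by simp⟩
    refine hbP (hb P hP ?_)
    apply le_antisymm
    · intro a haP
      by_contra hap
      exact (Set.disjoint_left.mp hPdisj) (Ideal.mem_comap.mp haP) ⟨a, hap, 0, by simp⟩
    · exact Ideal.map_le_iff_le_comap.mp hPle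
  -- step 2: `g ^ m • b ^ n ∈ pB`
  have hmem : ∀ x : B, x ∈ (p • ⊤ : Submodule A B) ↔ x ∈ p.map (algebraMap A B) := by
    intro x
    have : (p • ⊤ : Submodule A B) = (p.map (algebraMap A B)).restrictScalars A := by
      rw [← Ideal.smul_top_eq_map]
    rw [this]
    rfl
  set Q := B ⧸ (p • ⊤ : Submodule A B) with hQ
  set y : Q := Submodule.Quotient.mk (b ^ n) with hy
  have hay : (Ideal.Quotient.mk p a) • y = 0 := by
    have : (Ideal.Quotient.mk p a) • y = Submodule.Quotient.mk (a • b ^ n) := rfl
    rw [this, Submodule.Quotient.mk_eq_zero, hmem, Algebra.smul_def]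
    exact han
  have ha0 : Ideal.Quotient.mk p a ≠ 0 := fun h => ha (Ideal.Quotient.eq_zero_iff_mem.mp h)
  obtain ⟨m, hm⟩ := FreeAway.pow_smul_eq_zero_of_torsion hfree ha0 hay
  have hgm : algebraMap A B g ^ m * b ^ n ∈ p.map (algebraMap A B) := by
    have : (Ideal.Quotient.mk p g) ^ m • y = Submodule.Quotient.mk (g ^ m • b ^ n) := by
      rw [← map_pow]
      rfl
    rw [this, Submodule.Quotient.mk_eq_zero, hmem, Algebra.smul_def, map_pow] at hm
    exact hm
  have h3 := hpq hgm
  rcases hq.mem_or_mem h3 with h | h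
  · exact absurd (hq.mem_of_pow_mem _ h) hgq
  · exact hq.mem_of_pow_mem _ h

end Groth.Agent.Lib.H9GenPt1
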