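import Mathlib
import Groth.Agent.Lib.H9GenPt1

/-! Abstract base change of injectivity: cancelBaseChange_nat, lTensor_injective_of_baseChange (φ_R injective with R-flat cokernel ⇒ φ ⊗ L injective for every R-algebra L), baseChange_injective_of_lTensor (helper9). -/

set_option autoImplicit false
universe u

namespace Groth.Agent.Lib.H9GenAss1

open TensorProduct Groth.Agent.Lib.Helper2.GenFree

section Abs

variable {A : Type*} [CommRing A] (R : Type*) [CommRing R] [Algebra A R]
  (L : Type*) [CommRing L] [Algebra A L] [Algebra R L] [IsScalarTower A R L]
  {M : Type*} [AddCommGroup M] [Module A M] (φ : M →ₗ[A] M)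

/-- naturality of `cancelBaseChange` in the module. -/
theorem cancelBaseChange_nat (z : L ⊗[R] (R ⊗[A] M)) :
    AlgebraTensorModule.cancelBaseChange A R L L M ((φ.baseChange R).lTensor L z) =
      φ.lTensor L (AlgebraTensorModule.cancelBaseChange A R L L M z) := by
  induction z using TensorProduct.induction_on with
  | zero => simp
  | add x y hx hy => simp only [map_add, hx, hy]
  | tmul l y =>
    induction y using TensorProduct.induction_on with
    | zero => simp
    | add x y hx hy => simp only [tmul_add, map_add, hx, hy]
    | tmul r m => simp

/-- if `φ_R` is injective with flat cokernel, then `φ ⊗ L` is injective for every `R`-algebra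
`L`. -/
theorem lTensor_injective_of_baseChange {E : Type*} [AddCommGroup E] [Module A E]
    (π : M →ₗ[A] E) (hπ : Function.Surjective π) (hex0 : Function.Exact φ π)
    (hinj : Function.Injective (φ.baseChange R))
    (hflat : Module.Flat R (R ⊗[A] E)) :
    Function.Injective (φ.lTensor L) := by
  have hex : Function.Exact (φ.baseChange R) (π.baseChange R) := by
    have := lTensor_exact (R := A) R (f := φ) (g := π) hex0 hπ
    exact this
  have hsurj : Function.Surjective (π.baseChange R) :=
    LinearMap.lTensor_surjective R hπ
  have h1 := LinearMap.lTensor_injective_of_exact_of_flat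
    (π.baseChange R) hsurj (φ.baseChange R) hinj hex L
  intro x y hxy
  set c := AlgebraTensorModule.cancelBaseChange A R L L M with hc
  obtain ⟨x', rfl⟩ := c.surjective x
  obtain ⟨y', rfl⟩ := c.surjective y
  rw [← cancelBaseChange_nat, ← cancelBaseChange_nat] at hxy
  rw [h1 (c.injective hxy)]

/-- if `φ ⊗ K` is injective, `R ⊗ M` is flat over `R` and `R → K` is injective, then `φ_R` is
injective. -/
theorem baseChange_injective_of_lTensor (hK : Function.Injective (algebraMap R L))
    (hflat : Module.Flat R (R ⊗[A] M)) (hinj : Function.Injective (φ.lTensor L)) :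
    Function.Injective (φ.baseChange R) := by
  have hmk : Function.Injective (TensorProduct.mk R L (R ⊗[A] M) 1) := by
    have h1 : Function.Injective ((Algebra.linearMap R L).rTensor (R ⊗[A] M)) :=
      Module.Flat.rTensor_preserves_injective_linearMap _ hK
    intro x y hxy
    have : (Algebra.linearMap R L).rTensor (R ⊗[A] M) ((1 : R) ⊗ₜ x) =
        (Algebra.linearMap R L).rTensor (R ⊗[A] M) ((1 : R) ⊗ₜ y) := by
      simpa using hxy
    have h2 := h1 this
    have h3 := congrArg (TensorProduct.lid R (R ⊗[A] M)) h2
    simpa using h3
  rw [injective_iff_map_eq_zero]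
  intro x hx
  apply hmk
  rw [map_zero]
  set c := AlgebraTensorModule.cancelBaseChange A R L L M with hc
  apply c.injective
  apply hinj
  rw [map_zero, map_zero, ← cancelBaseChange_nat]
  simp [hx]

end Abs

end Groth.Agent.Lib.H9GenAss1
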