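import Mathlib
import Groth.Agent.Lib.H9GenAss1

/-! The ring RR p g = (A/p)_g with its maps toRes to the residue fields κ(P) (p ≤ P, g ∉ P), free_RR_tensor (FreeAway data ⇒ RR ⊗ X free), lTensor_residueField_injective: injectivity of φ ⊗ κ(p) spreads to φ ⊗ κ(P) for P ⊇ p, g ∉ P (generic freeness of M/pM and coker/p) (helper9). -/

set_option autoImplicit false
universe u

namespace Groth.Agent.Lib.H9GenAss2

open TensorProduct Groth.Agent.Lib.Helper2.GenFree Groth.Agent.Lib.H9GenAss1

section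

variable {A : Type*} [CommRing A] (p : Ideal A) [p.IsPrime] (g : A)

/-- the localisation of `A ⧸ p` at the image of `g`. -/
abbrev RR : Type _ := Localization.Away (Ideal.Quotient.mk p g)

example : Algebra A (RR p g) := inferInstance
example : IsScalarTower A (A ⧸ p) (RR p g) := inferInstance

/-- the map `A ⧸ p → κ(P)` for `p ≤ P`. -/
noncomputable def quotToRes (P : Ideal A) [P.IsPrime] (hle : p ≤ P) : A ⧸ p →+* P.ResidueField :=
  Ideal.Quotient.lift p (algebraMap A P.ResidueField)
    (fun a ha => (Ideal.algebraMap_residueField_eq_zero).mpr (hle ha))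

theorem isUnit_quotToRes (P : Ideal A) [P.IsPrime] (hle : p ≤ P) (hg : g ∉ P) :
    IsUnit (quotToRes p P hle (Ideal.Quotient.mk p g)) := by
  rw [quotToRes, Ideal.Quotient.lift_mk, isUnit_iff_ne_zero]
  exact fun h => hg ((Ideal.algebraMap_residueField_eq_zero).mp h)

/-- the map `(A ⧸ p)_g → κ(P)` for `p ≤ P`, `g ∉ P`. -/
noncomputable def toRes (P : Ideal A) [P.IsPrime] (hle : p ≤ P) (hg : g ∉ P) :
    RR p g →+* P.ResidueField :=
  IsLocalization.Away.lift (Ideal.Quotient.mk p g) (isUnit_quotToRes p g P hle hg)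

theorem toRes_algebraMap (P : Ideal A) [P.IsPrime] (hle : p ≤ P) (hg : g ∉ P) (a : A) :
    toRes p g P hle hg (algebraMap A (RR p g) a) = algebraMap A P.ResidueField a := by
  rw [IsScalarTower.algebraMap_apply A (A ⧸ p) (RR p g), toRes, IsLocalization.Away.lift_eq]
  rfl

theorem toRes_injective (hg : g ∉ p) : Function.Injective (toRes p g p le_rfl hg) := by
  have hg0 : Ideal.Quotient.mk p g ≠ 0 := fun h => hg (Ideal.Quotient.eq_zero_iff_mem.mp h)
  have hle : Submonoid.powers (Ideal.Quotient.mk p g) ≤ nonZeroDivisors (A ⧸ p) :=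
    Submonoid.powers_le.mpr (mem_nonZeroDivisors_of_ne_zero hg0)
  have hinj0 : Function.Injective (quotToRes p p le_rfl) := by
    rw [injective_iff_map_eq_zero]
    intro x hx
    obtain ⟨a, rfl⟩ := Ideal.Quotient.mk_surjective x
    rw [quotToRes, Ideal.Quotient.lift_mk] at hx
    exact Ideal.Quotient.eq_zero_iff_mem.mpr ((Ideal.algebraMap_residueField_eq_zero).mp hx)
  rw [toRes, IsLocalization.Away.lift, IsLocalization.lift_injective_iff]
  intro x y
  rw [(IsLocalization.injective (RR p g) hle).eq_iff, hinj0.eq_iff]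

end

section FR

variable {A : Type*} [CommRing A] (p : Ideal A) [p.IsPrime] (g : A)
  (X : Type*) [AddCommGroup X] [Module A X]

/-- generic freeness data gives freeness of the base change to `(A ⧸ p)_g`. -/
theorem free_RR_tensor (hfree : FreeAway (A ⧸ p) (Ideal.Quotient.mk p g)
    (X ⧸ (p • ⊤ : Submodule A X))) : Module.Free (RR p g) (RR p g ⊗[A] X) := by
  haveI h0 : Module.Free (RR p g) (RR p g ⊗[A ⧸ p] (X ⧸ (p • ⊤ : Submodule A X))) :=
    hfree.free (RR p g) (TensorProduct.mk (A ⧸ p) (RR p g) (X ⧸ (p • ⊤ : Submodule A X)) 1)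
  let e1 : (A ⧸ p) ⊗[A] X ≃ₗ[A] X ⧸ (p • ⊤ : Submodule A X) :=
    TensorProduct.quotTensorEquivQuotSMul X p
  let e1' : (A ⧸ p) ⊗[A] X ≃ₗ[A ⧸ p] X ⧸ (p • ⊤ : Submodule A X) :=
    e1.extendScalarsOfSurjective Ideal.Quotient.mk_surjective
  let e2 : RR p g ⊗[A ⧸ p] ((A ⧸ p) ⊗[A] X) ≃ₗ[RR p g] RR p g ⊗[A] X :=
    AlgebraTensorModule.cancelBaseChange A (A ⧸ p) (RR p g) (RR p g) X
  let e3 : RR p g ⊗[A ⧸ p] ((A ⧸ p) ⊗[A] X) ≃ₗ[RR p g]
      RR p g ⊗[A ⧸ p] (X ⧸ (p • ⊤ : Submodule A X)) :=
    AlgebraTensorModule.congr (LinearEquiv.refl (RR p g) (RR p g)) e1'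
  exact Module.Free.of_equiv (e3.symm ≪≫ₗ e2)

end FR

section Step3

variable {A : Type*} [CommRing A] (p : Ideal A) [p.IsPrime] (g : A)
  {M : Type*} [AddCommGroup M] [Module A M] (φ : M →ₗ[A] M)

/-- **spreading injectivity on fibres**: if `φ ⊗ κ(p)` is injective and `M/pM`, `E/pE`
(`E = coker φ`) are free away from `g` over `A/p`, then `φ ⊗ κ(P)` is injective for all primes
`P ⊇ p` not containing `g`. -/
theorem lTensor_residueField_injective {E : Type*} [AddCommGroup E] [Module A E]
    (π : M →ₗ[A] E) (hπ : Function.Surjective π) (hex : Function.Exact φ π) (hg : g ∉ p)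
    (hinj : Function.Injective (φ.lTensor p.ResidueField))
    (hM : FreeAway (A ⧸ p) (Ideal.Quotient.mk p g) (M ⧸ (p • ⊤ : Submodule A M)))
    (hE : FreeAway (A ⧸ p) (Ideal.Quotient.mk p g) (E ⧸ (p • ⊤ : Submodule A E)))
    (P : Ideal A) [P.IsPrime] (hle : p ≤ P) (hgP : g ∉ P) :
    Function.Injective (φ.lTensor P.ResidueField) := by
  haveI hMf : Module.Free (RR p g) (RR p g ⊗[A] M) := free_RR_tensor p g M hM
  haveI hEf : Module.Free (RR p g) (RR p g ⊗[A] E) := free_RR_tensor p g _ hE
  -- `φ_R` is injective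
  have hR : Function.Injective (φ.baseChange (RR p g)) := by
    letI : Algebra (RR p g) p.ResidueField := (toRes p g p le_rfl hg).toAlgebra
    haveI : IsScalarTower A (RR p g) p.ResidueField :=
      IsScalarTower.of_algebraMap_eq fun a => (toRes_algebraMap p g p le_rfl hg a).symm
    exact baseChange_injective_of_lTensor (RR p g) p.ResidueField φ (toRes_injective p g hg)
      inferInstance hinj
  letI : Algebra (RR p g) P.ResidueField := (toRes p g P hle hgP).toAlgebra
  haveI : IsScalarTower A (RR p g) P.ResidueField :=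
    IsScalarTower.of_algebraMap_eq fun a => (toRes_algebraMap p g P hle hgP a).symm
  exact lTensor_injective_of_baseChange (RR p g) P.ResidueField φ π hπ hex hR inferInstance

end Step3

end Groth.Agent.Lib.H9GenAss2
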