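import Mathlib
import Groth.Agent.Lib.H9GenAss2
import Groth.Agent.Lib.H9FibNumerics

/-! isSMulRegular_fiber_iff (regularity of h on p.Fiber B ⊗[B] M ⟺ injectivity of h on κ(p) ⊗[A] M), fdep_ne_zero_of_regular, exists_regular_of_fdep_ne_zero (prime avoidance on the Noetherian fibre), exists_fdep_ne_zero_spread: if no prime ⊇ J over p has fibre depth 0 then ∃ g ∉ p such that no prime ⊇ J over P ⊇ p, g ∉ P has fibre depth 0 (A arbitrary, B f.t., M finite) (helper9). -/

set_option autoImplicit false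
universe u

namespace Groth.Agent.Lib.H9GenAss3

open TensorProduct Groth.Agent.Lib.Helper2.GenFree Groth.Agent.Lib.H9GenAss1
  Groth.Agent.Lib.H9GenAss2
open Groth.Agent.Lib.H9ModFibAlg Groth.Agent.Lib.H9FibNumerics

attribute [local instance] Algebra.TensorProduct.rightAlgebra

section Reg

variable {A B : Type*} [CommRing A] [CommRing B] [Algebra A B]
  (M : Type*) [AddCommGroup M] [Module B M] [Module A M] [IsScalarTower A B M]

/-- multiplication by `h : B` on `M`, as an `A`-linear map. -/
abbrev mulA (h : B) : M →ₗ[A] M := (LinearMap.lsmul B M h).restrictScalars A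

theorem cancel_symm_nat (p : Ideal A) [p.IsPrime] (h : B) (z : p.ResidueField ⊗[A] M) :
    (Algebra.IsPushout.cancelBaseChange A p.ResidueField B (p.Fiber B) M).symm
        ((mulA (A := A) M h).lTensor p.ResidueField z) =
      algebraMap B (p.Fiber B) h •
        (Algebra.IsPushout.cancelBaseChange A p.ResidueField B (p.Fiber B) M).symm z := by
  induction z using TensorProduct.induction_on with
  | zero => simp
  | add x y hx hy => simp only [map_add, smul_add, hx, hy]
  | tmul s m =>
    simp only [LinearMap.lTensor_tmul, LinearMap.coe_restrictScalars, LinearMap.lsmul_apply,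
      Algebra.IsPushout.cancelBaseChange_symm_tmul]
    rw [TensorProduct.smul_tmul', smul_eq_mul, ← TensorProduct.smul_tmul, Algebra.smul_def]

/-- regularity of `h` on the fibre module over `p`, in terms of `κ(p) ⊗[A] M`. -/
theorem isSMulRegular_fiber_iff (p : Ideal A) [p.IsPrime] (h : B) :
    IsSMulRegular (p.Fiber B ⊗[B] M) (algebraMap B (p.Fiber B) h) ↔
      Function.Injective ((mulA (A := A) M h).lTensor p.ResidueField) := by
  set e := Algebra.IsPushout.cancelBaseChange A p.ResidueField B (p.Fiber B) M with he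
  constructor
  · intro hreg x y hxy
    have := congrArg e.symm hxy
    rw [cancel_symm_nat, cancel_symm_nat] at this
    exact e.symm.injective (hreg this)
  · intro hinj x y hxy
    obtain ⟨x', rfl⟩ := e.symm.surjective x
    obtain ⟨y', rfl⟩ := e.symm.surjective y
    change algebraMap B (p.Fiber B) h • e.symm x' = algebraMap B (p.Fiber B) h • e.symm y' at hxy
    rw [← cancel_symm_nat, ← cancel_symm_nat] at hxy
    rw [hinj (e.symm.injective hxy)]

end Reg

section Main

variable {A B : Type u} [CommRing A] [CommRing B] [Algebra A B] [Algebra.FiniteType A B]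
  (M : Type u) [AddCommGroup M] [Module B M] [Module A M] [IsScalarTower A B M]
  [Module.Finite B M]

/-- Step 4: a regular element of the fibre module lying in the prime prevents depth zero. -/
theorem fdep_ne_zero_of_regular (P : Ideal A) [P.IsPrime] (Q : PrimeSpectrum (P.Fiber B))
    (h : B) (hQ : algebraMap B (P.Fiber B) h ∈ Q.asIdeal)
    (hreg : IsSMulRegular (P.Fiber B ⊗[B] M) (algebraMap B (P.Fiber B) h)) :
    fdep A M (fibMap P Q).asIdeal ≠ 0 := by
  obtain ⟨hN, -, -⟩ := fdep_fdm_eq_dep_dm (A := A) M P Q.asIdeal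
  haveI := hN
  rw [(fibMap_numerics M P Q).1, Ne, dep_eq_zero_iff]
  intro hass
  have hmem : algebraMap B (P.Fiber B) h ∈
      ⋃ I ∈ associatedPrimes (P.Fiber B) (P.Fiber B ⊗[B] M), (I : Set (P.Fiber B)) :=
    Set.mem_biUnion hass hQ
  rw [biUnion_associatedPrimes_eq_zero_divisors] at hmem
  obtain ⟨x, hx0, hx⟩ := hmem
  exact hx0 (hreg (by simp only [hx, smul_zero]))

/-- Step 1: if no point of `V(J)` in the fibre over `p` has fibre depth zero, some element of `J`
is regular on the fibre module. -/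
theorem exists_regular_of_fdep_ne_zero (p : Ideal A) [p.IsPrime] (J : Ideal B)
    (H : ∀ (q : Ideal B) [q.IsPrime], q.under A = p → J ≤ q → fdep A M q ≠ 0) :
    ∃ h ∈ J, IsSMulRegular (p.Fiber B ⊗[B] M) (algebraMap B (p.Fiber B) h) := by
  haveI : Algebra.FiniteType p.ResidueField (p.Fiber B) := inferInstance
  haveI hN : IsNoetherianRing (p.Fiber B) :=
    Algebra.FiniteType.isNoetherianRing p.ResidueField (p.Fiber B)
  by_contra hcon
  push Not at hcon
  -- every element of `J` lies in the contraction of an associated prime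
  have hsub : (J : Set B) ⊆ ⋃ I ∈ associatedPrimes (p.Fiber B) (p.Fiber B ⊗[B] M),
      ((I.comap (algebraMap B (p.Fiber B)) : Ideal B) : Set B) := by
    intro h hh
    have hnr := hcon h hh
    obtain ⟨x, y, hxy, hne⟩ : ∃ x y : p.Fiber B ⊗[B] M,
        algebraMap B (p.Fiber B) h • x = algebraMap B (p.Fiber B) h • y ∧ x ≠ y := by
      by_contra hc
      push Not at hc
      exact hnr fun x y hxy => hc x y hxy
    have hz : algebraMap B (p.Fiber B) h ∈
        {r : p.Fiber B | ∃ x : p.Fiber B ⊗[B] M, x ≠ 0 ∧ r • x = 0} :=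
      ⟨x - y, sub_ne_zero.mpr hne, by rw [smul_sub, hxy, sub_self]⟩
    rw [← biUnion_associatedPrimes_eq_zero_divisors (p.Fiber B) (p.Fiber B ⊗[B] M)] at hz
    obtain ⟨I, hI, hhI⟩ := Set.mem_iUnion₂.mp hz
    exact Set.mem_iUnion₂.mpr ⟨I, hI, hhI⟩
  have hfin : (associatedPrimes (p.Fiber B) (p.Fiber B ⊗[B] M)).Finite :=
    associatedPrimes.finite _ _
  obtain ⟨I, hI, hJI⟩ := (Ideal.subset_union_prime_finite hfin
    (f := fun I : Ideal (p.Fiber B) => I.comap (algebraMap B (p.Fiber B))) ⊥ ⊥
    (fun I hI _ _ => by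
      haveI : I.IsPrime := hI.1
      exact Ideal.comap_isPrime _ _)).mp hsub
  haveI hIp : I.IsPrime := hI.1
  refine H (fibMap p ⟨I, hIp⟩).asIdeal (fibMap_under p ⟨I, hIp⟩) hJI ?_
  rw [(fibMap_numerics M p ⟨I, hIp⟩).1, dep_eq_zero_iff]
  exact hI

set_option synthInstance.maxHeartbeats 400000 in
set_option maxHeartbeats 1600000 in
/-- **spreading "no relative associated point in `V(J)`" from the fibre over `p`**: there is
`g ∉ p` such that no prime `q ⊇ J` of `B` over a prime `P ⊇ p` with `g ∉ P` has fibre depth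
zero. -/
theorem exists_fdep_ne_zero_spread (p : Ideal A) [p.IsPrime] (J : Ideal B)
    (H : ∀ (q : Ideal B) [q.IsPrime], q.under A = p → J ≤ q → fdep A M q ≠ 0) :
    ∃ g : A, g ∉ p ∧ ∀ (q : Ideal B) [q.IsPrime], p ≤ q.under A → J ≤ q →
      algebraMap A B g ∉ q → fdep A M q ≠ 0 := by
  obtain ⟨h, hJ, hreg⟩ := exists_regular_of_fdep_ne_zero M p J H
  have hinj := (isSMulRegular_fiber_iff (A := A) M p h).mp hreg
  -- the cokernel of multiplication by `h`
  set Nh : Submodule B M := LinearMap.range (LinearMap.lsmul B M h) with hNh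
  set π : M →ₗ[A] (M ⧸ Nh) := Nh.mkQ.restrictScalars A with hπ
  have hπs : Function.Surjective π := Submodule.mkQ_surjective Nh
  have hex : Function.Exact (mulA (A := A) M h) π :=
    LinearMap.exact_map_mkQ_range (LinearMap.lsmul B M h)
  obtain ⟨g₁, hg₁, hF₁⟩ := Groth.Agent.Lib.Helper14.NormFlat.exists_freeAway_quotient p B M
  obtain ⟨g₂, hg₂, hF₂⟩ := Groth.Agent.Lib.Helper14.NormFlat.exists_freeAway_quotient p B (M ⧸ Nh)
  have hgp : g₁ * g₂ ∉ p := fun hmem => by
    rcases ‹p.IsPrime›.mem_or_mem hmem with h' | h'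
    · exact hg₁ h'
    · exact hg₂ h'
  refine ⟨g₁ * g₂, hgp, ?_⟩
  intro q hq hpq hJq hgq
  set P : Ideal A := q.under A with hP
  haveI : P.IsPrime := Ideal.IsPrime.under A q
  have hgP : g₁ * g₂ ∉ P := fun hmem => hgq (Ideal.mem_comap.mp hmem)
  have hF₁' : FreeAway (A ⧸ p) (Ideal.Quotient.mk p (g₁ * g₂)) (M ⧸ (p • ⊤ : Submodule A M)) := by
    rw [map_mul]; exact hF₁.mul_right _
  have hF₂' : FreeAway (A ⧸ p) (Ideal.Quotient.mk p (g₁ * g₂))
      ((M ⧸ Nh) ⧸ (p • ⊤ : Submodule A (M ⧸ Nh))) := by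
    rw [map_mul]; exact hF₂.mul_left _
  have hinjP := lTensor_residueField_injective p (g₁ * g₂) (mulA (A := A) M h) π hπs hex hgp hinj
    hF₁' hF₂' P hpq hgP
  have hregP := (isSMulRegular_fiber_iff (A := A) M P h).mpr hinjP
  obtain ⟨Q, hQ⟩ := exists_fibMap_eq (A := A) P q rfl
  have hhQ : algebraMap B (P.Fiber B) h ∈ Q.asIdeal := by
    have : h ∈ (fibMap P Q).asIdeal := by rw [hQ]; exact hJq hJ
    exact this
  have := fdep_ne_zero_of_regular M P Q h hhQ hregP
  rwa [(fdep_congr (A := A) M hQ).1] at this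

end Main

end Groth.Agent.Lib.H9GenAss3
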