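import Mathlib
import Groth.Agent.Lib.H9GenPt1
import Groth.Agent.Lib.H9FibNumericsSch
import Groth.Agent.Lib.H9Slice

/-! Spreading from the generic point of an irreducible scheme: genericPoint_mem_of_nonempty, exists_primeIdealOf_eq, exists_open_forall_of_charts (f quasi-compact to an irreducible Y: a set W ⊆ X which on each affine chart avoids f⁻¹D(g) for some g with η ∈ D(g) avoids f⁻¹V for a nonempty open V) (helper9). -/

set_option autoImplicit false
universe u

namespace Groth.Agent.Lib.H9GenPt2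

open AlgebraicGeometry CategoryTheory Limits TopologicalSpace
open Groth.Agent.Lib.H9GenPt1

/-- every nonempty open of an irreducible space contains the generic point. -/
theorem genericPoint_mem_of_nonempty {Y : Type*} [TopologicalSpace Y] [IrreducibleSpace Y]
    [QuasiSober Y] {V : Set Y} (hV : IsOpen V) (h : V.Nonempty) : genericPoint Y ∈ V := by
  rw [(genericPoint_spec Y).mem_open_set_iff hV]
  simpa using h

/-- every prime of the ring of an affine open is the prime of a point. -/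
theorem exists_primeIdealOf_eq {X : Scheme.{u}} {U : X.Opens} (hU : IsAffineOpen U)
    (q : PrimeSpectrum Γ(X, U)) : ∃ x : U, hU.primeIdealOf x = q := by
  refine ⟨hU.isoSpec.inv q, ?_⟩
  change hU.isoSpec.hom (hU.isoSpec.inv q) = q
  rw [← Scheme.Hom.comp_apply, Iso.inv_hom_id]
  rfl

/-- **chartwise generic spreading**: if a set `W` of the source of a quasi-compact morphism to an
irreducible scheme avoids, on each affine chart, the preimage of a basic open containing the
generic point, then it avoids the preimage of a nonempty open. -/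
theorem exists_open_forall_of_charts {X Y : Scheme.{u}} (f : X ⟶ Y) [IrreducibleSpace ↑Y]
    [QuasiCompact f] (W : Set X)
    (H : ∀ (U : X.Opens) (V : Y.Opens) (_ : IsAffineOpen U) (_ : IsAffineOpen V)
      (_ : U ≤ f ⁻¹ᵁ V), genericPoint ↑Y ∈ V →
      ∃ g : Γ(Y, V), genericPoint ↑Y ∈ Y.basicOpen g ∧
        ∀ x ∈ U, f x ∈ Y.basicOpen g → x ∉ W) :
    ∃ V : Y.Opens, (V : Set ↑Y).Nonempty ∧ ∀ x, f x ∈ V → x ∉ W := by
  obtain ⟨_, ⟨V₀, hV₀, rfl⟩, hηV₀, -⟩ :=
    Y.isBasis_affineOpens.exists_subset_of_mem_open (Set.mem_univ (genericPoint ↑Y)) isOpen_univ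
  have hc : IsCompact (f ⁻¹' (V₀ : Set ↑Y)) :=
    QuasiCompact.isCompact_preimage (f := f) _ V₀.isOpen hV₀.isCompact
  obtain ⟨s, hs, hsU⟩ := isCompact_and_isOpen_iff_finite_and_eq_biUnion_affineOpens.mp
    ⟨hc, V₀.isOpen.preimage f.continuous⟩
  have hle : ∀ i ∈ s, (i : X.Opens) ≤ f ⁻¹ᵁ V₀ := by
    intro i hi x hx
    have : x ∈ ⋃ i ∈ s, ((i : X.Opens) : Set X) := Set.mem_biUnion hi hx
    rw [← hsU] at this
    exact this
  choose! g hg using fun (i : X.affineOpens) (hi : i ∈ s) =>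
    H i V₀ i.2 hV₀ (hle i hi) hηV₀
  haveI : Finite s := hs
  let V : Y.Opens := V₀ ⊓ ⨅ i : s, Y.basicOpen (g i.1)
  have hVopen : IsOpen ((V₀ : Set ↑Y) ∩ ⋂ i : s, (Y.basicOpen (g i.1) : Set ↑Y)) :=
    V₀.isOpen.inter (isOpen_iInter_of_finite fun i => (Y.basicOpen (g i.1)).isOpen)
  refine ⟨⟨_, hVopen⟩, ⟨genericPoint ↑Y, hηV₀, ?_⟩, ?_⟩
  · rw [Set.mem_iInter]
    exact fun i => (hg i.1 i.2).1
  · rintro x ⟨hxV₀, hx⟩
    rw [Set.mem_iInter] at hx
    have hx' : x ∈ f ⁻¹' (V₀ : Set ↑Y) := hxV₀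
    rw [hsU] at hx'
    obtain ⟨i, hi, hxi⟩ := Set.mem_iUnion₂.mp hx'
    exact (hg i hi).2 x hxi (hx ⟨i, hi⟩)

end Groth.Agent.Lib.H9GenPt2
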