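import Mathlib
import Groth.Agent.Lib.H9FibDepthAlong
import Groth.Agent.Lib.H9FibAssConstr
import Groth.Agent.Lib.H9FFL2
import Groth.Agent.Lib.H9ModLocus

/-! Constructibility of Bad A M Z S (fibrewise specializations of points of a closed Z whose (fibre depth, trdeg) lie in S) WITHOUT flatness: exists_isConstructible_bad_away (generic freeness), bad_tensor, exists_isConstructible_bad_inter, stratum_abs', exists_stratum_bad, isConstructible_bad_noeth (A f.t./ℤ, any closed Z), isConstructible_bad_zeroLocus (A arbitrary, B f.p., M f.p., Z = V(T), T finite) (helper9). -/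

set_option autoImplicit false
set_option linter.style.haveILetI false
set_option linter.unusedSimpArgs false
set_option linter.unusedVariables false
universe u

namespace Groth.Agent.Lib.H9RelAss1

section

open TensorProduct Topology CategoryTheory CategoryTheory.Limits AlgebraicGeometry TopologicalSpace
open Groth.Agent.Lib.Helper5.LocusGeneric
open Groth.Agent.Lib.Helper4.DimFormula Groth.Agent.Lib.Helper6.OpenDim
open Groth.Agent.Lib.Helper28 Groth.Agent.Lib.Helper5 Groth.Agent.Lib.Helper5.GenDepth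
open Groth.Agent.Lib.H9ModFibAlg Groth.Agent.Lib.H9RectDepthAlg Groth.Agent.Lib.H9RectDepthConstr
open Groth.Agent.Lib.Helper5.CodepthOpen Groth.Agent.Lib.Helper5.FibCodepthConstr
open Groth.Agent.Lib.H9FibNumerics Groth.Agent.Lib.H9ModLocus Groth.Agent.Lib.H9FibDepthAlong

attribute [local instance] Algebra.TensorProduct.rightAlgebra

set_option synthInstance.maxHeartbeats 400000 in
set_option maxHeartbeats 1600000 in
/-- generic constructibility of `Bad` along a closed subset over a domain of finite type over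
`ℤ` (generic freeness + the flat Noetherian case). -/
theorem exists_isConstructible_bad_away {S : Set (ℕ∞ × ℕ)} (hS : SDown S) (hS' : SFin S)
    (A₁ B₁ M₁ : Type u) [CommRing A₁] [IsDomain A₁] [CommRing B₁] [Algebra A₁ B₁]
    [Algebra.FiniteType A₁ B₁] [AddCommGroup M₁] [Module B₁ M₁] [Module.Finite B₁ M₁]
    [Algebra ℤ A₁] (hA₁ : Algebra.FiniteType ℤ A₁)
    (Z₁ : Set (PrimeSpectrum B₁)) (hZ₁ : IsClosed Z₁) :
    ∃ g : A₁, g ≠ 0 ∧ IsConstructible
      (Bad (Localization.Away g) ((Localization.Away g ⊗[A₁] B₁) ⊗[B₁] M₁)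
        (PrimeSpectrum.comap (algebraMap B₁ (Localization.Away g ⊗[A₁] B₁)) ⁻¹' Z₁) S) := by
  haveI : IsNoetherianRing A₁ := Algebra.FiniteType.isNoetherianRing ℤ A₁
  letI : Module A₁ M₁ := Module.compHom M₁ (algebraMap A₁ B₁)
  haveI : IsScalarTower A₁ B₁ M₁ := IsScalarTower.of_algebraMap_smul fun _ _ => rfl
  obtain ⟨g, hg, -, hfree, -, -⟩ := Groth.Agent.Lib.Helper2.GenFree.exists_freeAway A₁ B₁ M₁
  refine ⟨g, hg, ?_⟩
  haveI : Module.Free (Localization.Away g) (Localization.Away g ⊗[A₁] M₁) :=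
    hfree.free (Localization.Away g) (TensorProduct.mk A₁ (Localization.Away g) M₁ 1)
  haveI hfp1 : Algebra.FinitePresentation A₁ (Localization.Away g) :=
    IsLocalization.Away.finitePresentation g
  have hft1 : Algebra.FiniteType A₁ (Localization.Away g) := inferInstance
  have hft2 : Algebra.FiniteType ℤ (Localization.Away g) := Algebra.FiniteType.trans hA₁ hft1
  haveI : IsNoetherianRing (Localization.Away g) := Algebra.FiniteType.isNoetherianRing ℤ _
  have hft3 : Algebra.FiniteType ℤ (Localization.Away g ⊗[A₁] B₁) :=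
    Algebra.FiniteType.trans hft2 inferInstance
  haveI : IsNoetherianRing (Localization.Away g ⊗[A₁] B₁) :=
    Algebra.FiniteType.isNoetherianRing ℤ _
  haveI : Module.Flat (Localization.Away g) ((Localization.Away g ⊗[A₁] B₁) ⊗[B₁] M₁) :=
    Module.Flat.of_linearEquiv
      (Algebra.IsPushout.cancelBaseChange A₁ (Localization.Away g) B₁
        (Localization.Away g ⊗[A₁] B₁) M₁)
  have hA := cmu_of_finiteType_int (Localization.Away g) hft2
  have hB := cmu_of_finiteType_int (Localization.Away g ⊗[A₁] B₁) hft3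
  have hUC := isUniversallyCatenary_of_finiteType_int (Localization.Away g) hft2
  have hZ₂cl : IsClosed (PrimeSpectrum.comap
      (algebraMap B₁ (Localization.Away g ⊗[A₁] B₁)) ⁻¹' Z₁) :=
    hZ₁.preimage (PrimeSpectrum.continuous_comap _)
  have hcl := isClosed_bad (A := Localization.Away g) (B := Localization.Away g ⊗[A₁] B₁)
    ((Localization.Away g ⊗[A₁] B₁) ⊗[B₁] M₁) hA hB hUC hZ₂cl hS hS'
  apply IsConstructible.of_compl
  exact Groth.Agent.Lib.Helper5.LocusGeneric.IsOpen.isConstructible_of_noetherianSpace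
    hcl.isOpen_compl


section Tensor

variable (A A₁ B : Type u) [CommRing A] [CommRing A₁] [CommRing B] [Algebra A A₁] [Algebra A B]
  [Algebra.FiniteType A B] (M : Type u) [AddCommGroup M] [Module B M] [Module.Finite B M]

set_option synthInstance.maxHeartbeats 400000 in
set_option maxHeartbeats 1600000 in
/-- base change of `Bad` along `A → A₁`, tensor form. -/
theorem bad_tensor {S : Set (ℕ∞ × ℕ)} (hS : SDown S) (Z : Set (PrimeSpectrum B)) :
    Bad A₁ ((A₁ ⊗[A] B) ⊗[B] M) (PrimeSpectrum.comap (algebraMap B (A₁ ⊗[A] B)) ⁻¹' Z) S =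
      PrimeSpectrum.comap (algebraMap B (A₁ ⊗[A] B)) ⁻¹' Bad A M Z S := by
  ext r
  exact bad_baseChange_gen (A := A) (B := B) (A' := A₁) (B' := A₁ ⊗[A] B) M
    ((A₁ ⊗[A] B) ⊗[B] M)
    (TensorProduct.mk B (A₁ ⊗[A] B) M 1) (TensorProduct.isBaseChange B M (A₁ ⊗[A] B)) hS Z r

end Tensor

set_option synthInstance.maxHeartbeats 400000 in
set_option maxHeartbeats 3200000 in
/-- generic constructibility of `Bad` along a closed subset over a domain of finite type over
`ℤ`, stated on `Spec B₁`. -/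
theorem exists_isConstructible_bad_inter {S : Set (ℕ∞ × ℕ)} (hS : SDown S) (hS' : SFin S)
    (A₁ B₁ M₁ : Type u) [CommRing A₁] [IsDomain A₁] [CommRing B₁] [Algebra A₁ B₁]
    [Algebra.FiniteType A₁ B₁] [AddCommGroup M₁] [Module B₁ M₁] [Module.Finite B₁ M₁]
    [Algebra ℤ A₁] (hA₁ : Algebra.FiniteType ℤ A₁)
    (Z₁ : Set (PrimeSpectrum B₁)) (hZ₁ : IsClosed Z₁) :
    ∃ g : A₁, g ≠ 0 ∧ IsConstructible (Bad A₁ M₁ Z₁ S ∩
      {P : PrimeSpectrum B₁ | algebraMap A₁ B₁ g ∉ P.asIdeal}) := by
  obtain ⟨g, hg, hcon⟩ := exists_isConstructible_bad_away hS hS' A₁ B₁ M₁ hA₁ Z₁ hZ₁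
  refine ⟨g, hg, ?_⟩
  haveI : IsNoetherianRing A₁ := Algebra.FiniteType.isNoetherianRing ℤ A₁
  haveI : IsNoetherianRing B₁ := Algebra.FiniteType.isNoetherianRing A₁ B₁
  haveI : NoetherianSpace ↥(Spec (CommRingCat.of B₁)) :=
    inferInstanceAs (NoetherianSpace (PrimeSpectrum B₁))
  have h2 := bad_tensor A₁ (Localization.Away g) B₁ M₁ hS Z₁
  have sq2 : IsPullback
      (Spec.map (CommRingCat.ofHom
        (Algebra.TensorProduct.includeRight (R := A₁) (A := Localization.Away g)
          (B := B₁)).toRingHom))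
      (Spec.map (CommRingCat.ofHom
        (algebraMap (Localization.Away g) (Localization.Away g ⊗[A₁] B₁))))
      (Spec.map (CommRingCat.ofHom (algebraMap A₁ B₁)))
      (Spec.map (CommRingCat.ofHom (algebraMap A₁ (Localization.Away g)))) :=
    (isPullback_SpecMap_of_isPushout _ _ _ _
      (CommRingCat.isPushout_tensorProduct A₁ (Localization.Away g) B₁)).flip
  haveI hι₂ : IsOpenImmersion (Spec.map (CommRingCat.ofHom
      (Algebra.TensorProduct.includeRight (R := A₁) (A := Localization.Away g)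
        (B := B₁)).toRingHom)) :=
    MorphismProperty.of_isPullback (P := @IsOpenImmersion) sq2.flip inferInstance
  have hj : Set.range (Spec.map (CommRingCat.ofHom (algebraMap A₁ (Localization.Away g)))) =
      (PrimeSpectrum.basicOpen g : Set (PrimeSpectrum A₁)) :=
    PrimeSpectrum.localization_away_comap_range (Localization.Away g) g
  have hrange := Scheme.image_preimage_eq_of_isPullback sq2.flip Set.univ
  rw [Set.preimage_univ, Set.image_univ, Set.image_univ] at hrange
  have heq : Bad A₁ M₁ Z₁ S ∩ {P : PrimeSpectrum B₁ | algebraMap A₁ B₁ g ∉ P.asIdeal} =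
      (Spec.map (CommRingCat.ofHom
        (Algebra.TensorProduct.includeRight (R := A₁) (A := Localization.Away g)
          (B := B₁)).toRingHom)) ''
        (Bad (Localization.Away g) ((Localization.Away g ⊗[A₁] B₁) ⊗[B₁] M₁)
          (PrimeSpectrum.comap (algebraMap B₁ (Localization.Away g ⊗[A₁] B₁)) ⁻¹' Z₁) S) := by
    rw [h2]
    ext x
    constructor
    · rintro ⟨hxL, hxS⟩
      have hx1 : (Spec.map (CommRingCat.ofHom (algebraMap A₁ B₁))) x ∈
          Set.range (Spec.map (CommRingCat.ofHom (algebraMap A₁ (Localization.Away g)))) := by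
        rw [hj]
        exact hxS
      have hx := (Set.ext_iff.mp hrange x).mpr hx1
      obtain ⟨w, rfl⟩ := hx
      exact ⟨w, hxL, rfl⟩
    · rintro ⟨w, hw, rfl⟩
      refine ⟨hw, ?_⟩
      have := (Set.ext_iff.mp hrange _).mp ⟨w, rfl⟩
      rw [hj] at this
      exact this
  rw [heq]
  exact hcon.image_of_isOpenEmbedding (Scheme.Hom.isOpenEmbedding _)
    (isRetrocompact_of_noetherianSpace _)

/-- the closed stratum, abstractly. -/
theorem stratum_abs' {A C A₁ C₁ : Type u} [CommRing A] [CommRing C] [CommRing A₁] [CommRing C₁]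
    [Algebra A C] [Algebra A A₁] [Algebra A₁ C₁] [Algebra C C₁] [Algebra A C₁]
    [IsScalarTower A C C₁] [IsScalarTower A A₁ C₁] [IsNoetherianRing C]
    (p : Ideal A) (hA₁ : ∀ x ∈ p, algebraMap A A₁ x = 0)
    (hsurj : Function.Surjective (algebraMap C C₁))
    (hker : ∀ c : C, algebraMap C C₁ c = 0 → c ∈ p.map (algebraMap A C))
    (E : Set (PrimeSpectrum C)) (E₁ : Set (PrimeSpectrum C₁))
    (hE : E₁ = PrimeSpectrum.comap (algebraMap C C₁) ⁻¹' E) (a : A)
    (hcons : IsConstructible (E₁ ∩ {P₁ : PrimeSpectrum C₁ | algebraMap A C₁ a ∉ P₁.asIdeal})) :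
    IsConstructible (E ∩ PrimeSpectrum.comap (algebraMap A C) ⁻¹'
      (PrimeSpectrum.zeroLocus (p : Set A) ∩ (PrimeSpectrum.basicOpen a : Set (PrimeSpectrum A)))) := by
  haveI : IsNoetherianRing C₁ := isNoetherianRing_of_surjective C C₁ (algebraMap C C₁) hsurj
  have hemb := PrimeSpectrum.isClosedEmbedding_comap_of_surjective C₁ (algebraMap C C₁) hsurj
  have himg := hcons.image_of_isClosedEmbedding hemb (isRetrocompact_of_noetherianSpace _)
  have heq : E ∩ PrimeSpectrum.comap (algebraMap A C) ⁻¹'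
      (PrimeSpectrum.zeroLocus (p : Set A) ∩ (PrimeSpectrum.basicOpen a : Set (PrimeSpectrum A))) =
      PrimeSpectrum.comap (algebraMap C C₁) ''
        (E₁ ∩ {P₁ : PrimeSpectrum C₁ | algebraMap A C₁ a ∉ P₁.asIdeal}) := by
    ext P
    constructor
    · rintro ⟨hPE, hPZ, hPa⟩
      have hPr : P ∈ Set.range (PrimeSpectrum.comap (algebraMap C C₁)) := by
        rw [range_comap_of_surjective C₁ (algebraMap C C₁) hsurj]
        intro c hc
        have hle : p.map (algebraMap A C) ≤ P.asIdeal := by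
          rw [Ideal.map_le_iff_le_comap]
          exact hPZ
        exact hle (hker c hc)
      obtain ⟨P₁, rfl⟩ := hPr
      refine ⟨P₁, ⟨?_, ?_⟩, rfl⟩
      · rw [hE]
        exact hPE
      · intro h
        apply hPa
        change algebraMap C C₁ (algebraMap A C a) ∈ P₁.asIdeal
        rw [← IsScalarTower.algebraMap_apply A C C₁]
        exact h
    · rintro ⟨P₁, ⟨h1, h2⟩, rfl⟩
      refine ⟨?_, ?_, ?_⟩
      · rw [hE] at h1
        exact h1
      · intro x hx
        change algebraMap C C₁ (algebraMap A C x) ∈ P₁.asIdeal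
        rw [← IsScalarTower.algebraMap_apply A C C₁, IsScalarTower.algebraMap_apply A A₁ C₁,
          hA₁ x hx, map_zero]
        exact zero_mem _
      · intro h
        apply h2
        change algebraMap C C₁ (algebraMap A C a) ∈ P₁.asIdeal at h
        rw [← IsScalarTower.algebraMap_apply A C C₁] at h
        exact h
  rw [heq]
  exact himg


set_option synthInstance.maxHeartbeats 400000 in
set_option maxHeartbeats 3200000 in
/-- the stratum of `Bad A M Z S` over a neighbourhood of the generic point of `V(𝔭)` is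
constructible (no flatness: generic freeness). -/
theorem exists_stratum_bad {S : Set (ℕ∞ × ℕ)} (hS : SDown S) (hS' : SFin S)
    (A B : Type u) [CommRing A] [CommRing B] [Algebra A B] [Algebra.FiniteType A B]
    (M : Type u) [AddCommGroup M] [Module B M] [Module.Finite B M]
    (hA : Algebra.FiniteType ℤ A) (Z : Set (PrimeSpectrum B)) (hZ : IsClosed Z)
    (p : Ideal A) [p.IsPrime] :
    ∃ a : A, a ∉ p ∧ IsConstructible (Bad A M Z S ∩ PrimeSpectrum.comap (algebraMap A B) ⁻¹'
        (PrimeSpectrum.zeroLocus (p : Set A) ∩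
          (PrimeSpectrum.basicOpen a : Set (PrimeSpectrum A)))) := by
  haveI : IsNoetherianRing A := Algebra.FiniteType.isNoetherianRing ℤ A
  haveI : IsNoetherianRing B := Algebra.FiniteType.isNoetherianRing A B
  have hA₁ : Algebra.FiniteType ℤ (A ⧸ p) :=
    Algebra.FiniteType.of_surjective (Ideal.Quotient.mkₐ ℤ p) (Ideal.Quotient.mkₐ_surjective ℤ p)
  have hZ₁ : IsClosed (PrimeSpectrum.comap (algebraMap B ((A ⧸ p) ⊗[A] B)) ⁻¹' Z) :=
    hZ.preimage (PrimeSpectrum.continuous_comap _)
  obtain ⟨g, hg0, hcon⟩ := exists_isConstructible_bad_inter hS hS' (A ⧸ p) ((A ⧸ p) ⊗[A] B)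
    (((A ⧸ p) ⊗[A] B) ⊗[B] M) hA₁ _ hZ₁
  obtain ⟨a, rfl⟩ := Ideal.Quotient.mk_surjective g
  have ha : a ∉ p := fun h => hg0 (Ideal.Quotient.eq_zero_iff_mem.mpr h)
  refine ⟨a, ha, ?_⟩
  have hsurj : Function.Surjective (algebraMap B ((A ⧸ p) ⊗[A] B)) :=
    Algebra.TensorProduct.includeRight_surjective _ Ideal.Quotient.mk_surjective
  have hker : ∀ c : B, algebraMap B ((A ⧸ p) ⊗[A] B) c = 0 → c ∈ p.map (algebraMap A B) := by
    intro c hc
    have h1 : Algebra.TensorProduct.quotIdealMapEquivQuotTensor B p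
        (Ideal.Quotient.mk _ c) = algebraMap B ((A ⧸ p) ⊗[A] B) c := rfl
    rw [hc] at h1
    have h2 : (Ideal.Quotient.mk (p.map (algebraMap A B)) c) = 0 := by
      apply (Algebra.TensorProduct.quotIdealMapEquivQuotTensor B p).injective
      rw [h1, map_zero]
    exact Ideal.Quotient.eq_zero_iff_mem.mp h2
  refine stratum_abs' (A₁ := A ⧸ p) (C₁ := (A ⧸ p) ⊗[A] B) p
    (fun x hx => Ideal.Quotient.eq_zero_iff_mem.mpr hx) hsurj hker (Bad A M Z S)
    (Bad (A ⧸ p) (((A ⧸ p) ⊗[A] B) ⊗[B] M)
      (PrimeSpectrum.comap (algebraMap B ((A ⧸ p) ⊗[A] B)) ⁻¹' Z) S)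
    (bad_tensor A (A ⧸ p) B M hS Z) a ?_
  have e : algebraMap A ((A ⧸ p) ⊗[A] B) a =
      algebraMap (A ⧸ p) ((A ⧸ p) ⊗[A] B) (Ideal.Quotient.mk p a) := by
    rw [IsScalarTower.algebraMap_apply A (A ⧸ p) ((A ⧸ p) ⊗[A] B)]
    rfl
  rw [e]
  exact hcon

/-- **Constructibility of the fibrewise specializations along a closed subset**, base of finite
type over `ℤ`, no flatness. -/
theorem isConstructible_bad_noeth {S : Set (ℕ∞ × ℕ)} (hS : SDown S) (hS' : SFin S)
    (A B : Type u) [CommRing A] [CommRing B] [Algebra A B] [Algebra.FiniteType A B]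
    (M : Type u) [AddCommGroup M] [Module B M] [Module.Finite B M]
    (hA : Algebra.FiniteType ℤ A) (Z : Set (PrimeSpectrum B)) (hZ : IsClosed Z) :
    IsConstructible (Bad A M Z S) := by
  haveI : IsNoetherianRing A := Algebra.FiniteType.isNoetherianRing ℤ A
  refine isConstructible_of_forall_irreducible (PrimeSpectrum.comap (algebraMap A B)) (Bad A M Z S)
    fun W hWc hWi => ?_
  haveI h𝔭 : (PrimeSpectrum.vanishingIdeal (W : Set (PrimeSpectrum A))).IsPrime :=
    PrimeSpectrum.isIrreducible_iff_vanishingIdeal_isPrime.mp hWi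
  obtain ⟨a, ha, hcon⟩ := exists_stratum_bad hS hS' A B M hA Z hZ
    (PrimeSpectrum.vanishingIdeal (W : Set (PrimeSpectrum A)))
  have hW : PrimeSpectrum.zeroLocus
      (PrimeSpectrum.vanishingIdeal (W : Set (PrimeSpectrum A)) : Set A) =
      (W : Set (PrimeSpectrum A)) := by
    rw [PrimeSpectrum.zeroLocus_vanishingIdeal_eq_closure]
    exact hWc.closure_eq
  rw [hW] at hcon
  refine ⟨(PrimeSpectrum.basicOpen a : Set (PrimeSpectrum A)), (PrimeSpectrum.basicOpen a).isOpen,
    ⟨⟨_, h𝔭⟩, ?_, ha⟩, hcon⟩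
  have : (⟨_, h𝔭⟩ : PrimeSpectrum A) ∈
      PrimeSpectrum.zeroLocus (PrimeSpectrum.vanishingIdeal (W : Set (PrimeSpectrum A)) : Set A) :=
    fun x hx => hx
  rwa [hW] at this

set_option synthInstance.maxHeartbeats 400000 in
set_option maxHeartbeats 3200000 in
/-- **Constructibility of the fibrewise specializations along a closed constructible subset**:
`B` of finite presentation over an arbitrary ring `A`, `M` a finitely presented `B`-module, `T` a
finite subset of `B`. No flatness. -/
theorem isConstructible_bad_zeroLocus {S : Set (ℕ∞ × ℕ)} (hS : SDown S) (hS' : SFin S)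
    (A B : Type u) [CommRing A] [CommRing B] [Algebra A B] [Algebra.FinitePresentation A B]
    (M : Type u) [AddCommGroup M] [Module B M] [Module.FinitePresentation B M] (T : Finset B) :
    IsConstructible (Bad A M (PrimeSpectrum.zeroLocus (T : Set B)) S : Set (PrimeSpectrum B)) := by
  letI : Module A M := Module.compHom M (algebraMap A B)
  haveI : IsScalarTower A B M := IsScalarTower.of_algebraMap_smul fun _ _ => rfl
  obtain ⟨A₀, iA₀, i1, i2, t12, i3, t13, hA₀, rest⟩ :=
    Groth.Agent.Lib.H9FFL2.exists_quad_model_elem (A := A) (B := A) (C := B) (M := M) T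
  have hi : i2 = i1 := by
    refine Algebra.algebra_ext _ _ fun r => ?_
    have := @IsScalarTower.algebraMap_apply A₀ A A _ _ _ i1 (Algebra.id A) i2 t12 r
    rw [this]
    rfl
  subst hi
  obtain ⟨A₀', _, _, _, _, B₀, _, _, _, _, _, _, _, _, _, M₀, _, _, _, _,
    _, _, _, _, _, _, _, _, f, -, hB₀, hM₀, -, hpo, hf, hT⟩ := rest
  haveI := hB₀
  haveI := hM₀
  haveI hpo' : Algebra.IsPushout A₀ B₀ A B := Algebra.IsPushout.symm hpo
  set T₀ : Set B₀ := (algebraMap B₀ B) ⁻¹' (T : Set B) with hT₀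
  have hZ₀ : IsClosed (PrimeSpectrum.zeroLocus T₀) := PrimeSpectrum.isClosed_zeroLocus _
  have hc := isConstructible_bad_noeth hS hS' A₀ B₀ M₀ hA₀ _ hZ₀
  have hpre : PrimeSpectrum.comap (algebraMap B₀ B) ⁻¹' (PrimeSpectrum.zeroLocus T₀) =
      PrimeSpectrum.zeroLocus (T : Set B) := by
    rw [PrimeSpectrum.preimage_comap_zeroLocus, hT₀, Set.image_preimage_eq_inter_range,
      Set.inter_eq_left.mpr hT]
  have heq : (Bad A M (PrimeSpectrum.zeroLocus (T : Set B)) S : Set (PrimeSpectrum B)) =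
      PrimeSpectrum.comap (algebraMap B₀ B) ⁻¹' (Bad A₀ M₀ (PrimeSpectrum.zeroLocus T₀) S) := by
    ext r
    rw [← hpre]
    exact bad_baseChange_gen (A := A₀) (B := B₀) (A' := A) (B' := B) M₀ M f hf hS _ r
  rw [heq]
  exact Groth.Agent.Lib.H9ModLocus.isConstructible_preimage_comap _ hc

end

end Groth.Agent.Lib.H9RelAss1
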