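import Mathlib
import Groth.Agent.Lib.H9ModFibSch
import Groth.Agent.Lib.Helper28DepthLoc
import Groth.Agent.Lib.Helper2FibreCrit
import Groth.Prelude.Def_MoreMor

/-! Chart form of the relative assassin MoreMor.relAss: mem_relAss_iff_fdep_eq_zero (x ∈ relAss f F ⟺ fdep Γ(Y,V) Γ(F,U) P_x = 0); isAssociatedPrime_comap_iff (helper9). -/

set_option autoImplicit false
set_option linter.style.haveILetI false
set_option linter.unusedSimpArgs false
set_option linter.unusedVariables false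
universe u

namespace Groth.Agent.Lib.H9RelAss2

section S2

/-- (from R2H4PureClosed) -/
theorem colon_comap {R R' : Type*} [CommRing R] [CommRing R'] [Algebra R R']
    (M : Type*) [AddCommGroup M] [Module R M] [Module R' M] [IsScalarTower R R' M] (x : M) :
    (⊥ : Submodule R M).colon {x} = ((⊥ : Submodule R' M).colon {x}).comap (algebraMap R R') := by
  ext r
  rw [Ideal.mem_comap, Submodule.mem_colon_singleton, Submodule.mem_colon_singleton,
    Submodule.mem_bot, Submodule.mem_bot, algebraMap_smul]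

/-- associated primes along a surjective ring map (from R2H4PureClosed) -/
theorem isAssociatedPrime_comap_iff {R R' : Type*} [CommRing R] [CommRing R'] [Algebra R R']
    (hs : Function.Surjective (algebraMap R R')) (M : Type*) [AddCommGroup M] [Module R M]
    [Module R' M] [IsScalarTower R R' M] (Q : Ideal R') [hQ : Q.IsPrime] :
    IsAssociatedPrime (Q.comap (algebraMap R R')) M ↔ IsAssociatedPrime Q M := by
  constructor
  · rintro ⟨_, x, hx⟩
    refine ⟨hQ, x, ?_⟩
    rw [colon_comap (R' := R'), ← Ideal.comap_radical] at hx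
    exact Ideal.comap_injective_of_surjective _ hs hx
  · rintro ⟨_, x, hx⟩
    refine ⟨Ideal.comap_isPrime _ _, x, ?_⟩
    rw [colon_comap (R' := R'), ← Ideal.comap_radical, ← hx]

end S2

section Chart

open AlgebraicGeometry CategoryTheory Limits IsLocalRing TensorProduct Topology
open Groth.Agent.Lib.H9ModFibAlg Groth.Agent.Lib.H9ModFibSch
open Groth.Agent.Lib.Helper2.FlatOver Groth.Agent.Lib.Helper1.Sky Groth.Agent.Lib.Helper28

variable {X Y : Scheme.{u}} (f : X ⟶ Y)
variable (F : X.Modules) [F.IsQuasicoherent] {U : X.Opens} (hU : IsAffineOpen U)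
  {V : Y.Opens} (hV : IsAffineOpen V) (e : U ≤ f ⁻¹ᵁ V)

include hV in
set_option synthInstance.maxHeartbeats 400000 in
set_option maxHeartbeats 3200000 in
/-- **Chart form of the relative assassin**: `x` is a relative associated point iff the fibre
module has depth zero at the prime of `x`. -/
theorem mem_relAss_iff_fdep_eq_zero (hft : (f.appLE V U e).hom.FiniteType)
    [Module.Finite Γ(X, U) Γ(F, U)] (x : X) (hxU : x ∈ U) :
    letI : Algebra Γ(Y, V) Γ(X, U) := (f.appLE V U e).hom.toAlgebra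
    x ∈ MoreMor.relAss f F ↔
      fdep Γ(Y, V) Γ(F, U) (hU.primeIdealOf ⟨x, hxU⟩).asIdeal = 0 := by
  letI aVU : Algebra Γ(Y, V) Γ(X, U) := (f.appLE V U e).hom.toAlgebra
  haveI : Algebra.FiniteType Γ(Y, V) Γ(X, U) := hft
  set q : Ideal Γ(X, U) := (hU.primeIdealOf ⟨x, hxU⟩).asIdeal with hq
  -- the rings
  letI aBS : Algebra Γ(X, U) (X.presheaf.stalk x) :=
    TopCat.Presheaf.algebra_section_stalk X.presheaf ⟨x, hxU⟩
  haveI hlocS : IsLocalization.AtPrime (X.presheaf.stalk x) q := hU.isLocalization_stalk ⟨x, hxU⟩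
  set J : Ideal (X.presheaf.stalk x) := Ideal.map (f.stalkMap x).hom
    (IsLocalRing.maximalIdeal (Y.presheaf.stalk (f x))) with hJ
  -- the modules
  letI mBF : Module Γ(X, U) (F.presheaf.stalk x) := moduleStalkSections F U x hxU
  haveI tBSF : IsScalarTower Γ(X, U) (X.presheaf.stalk x) (F.presheaf.stalk x) :=
    ⟨fun b s m => by
      change (X.presheaf.germ U x hxU b * s) • m = X.presheaf.germ U x hxU b • (s • m)
      rw [mul_smul]⟩
  haveI hlocF := isLocalizedModule_germ hU F x hxU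
  let E2 : (X.presheaf.stalk x) ⊗[Γ(X, U)] Γ(F, U) ≃ₗ[X.presheaf.stalk x] F.presheaf.stalk x :=
    (IsLocalizedModule.isBaseChange q.primeCompl (X.presheaf.stalk x)
      (germₗ F U x hxU)).equiv
  let E3 : (X.presheaf.stalk x ⧸ J) ⊗[X.presheaf.stalk x]
        ((X.presheaf.stalk x) ⊗[Γ(X, U)] Γ(F, U)) ≃ₗ[X.presheaf.stalk x ⧸ J]
      (X.presheaf.stalk x ⧸ J) ⊗[Γ(X, U)] Γ(F, U) :=
    TensorProduct.AlgebraTensorModule.cancelBaseChange Γ(X, U) (X.presheaf.stalk x)
      (X.presheaf.stalk x ⧸ J) (X.presheaf.stalk x ⧸ J) Γ(F, U)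
  let E4 : (X.presheaf.stalk x ⧸ J) ⊗[X.presheaf.stalk x]
        ((X.presheaf.stalk x) ⊗[Γ(X, U)] Γ(F, U)) ≃ₗ[X.presheaf.stalk x ⧸ J]
      (X.presheaf.stalk x ⧸ J) ⊗[X.presheaf.stalk x] (F.presheaf.stalk x) :=
    TensorProduct.AlgebraTensorModule.congr
      (LinearEquiv.refl (X.presheaf.stalk x ⧸ J) (X.presheaf.stalk x ⧸ J)) E2
  let E5 : (X.presheaf.stalk x ⧸ J) ⊗[X.presheaf.stalk x] (F.presheaf.stalk x) ≃ₗ[
      X.presheaf.stalk x ⧸ J]
      (F.presheaf.stalk x ⧸ J • (⊤ : Submodule (X.presheaf.stalk x) (F.presheaf.stalk x))) :=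
    Groth.Agent.Lib.Helper2.FibreCrit.quotTensorEquiv J (F.presheaf.stalk x)
  let E : (X.presheaf.stalk x ⧸ J) ⊗[Γ(X, U)] Γ(F, U) ≃ₗ[X.presheaf.stalk x ⧸ J]
      (F.presheaf.stalk x ⧸ J • (⊤ : Submodule (X.presheaf.stalk x) (F.presheaf.stalk x))) :=
    E3.symm ≪≫ₗ E4 ≪≫ₗ E5
  -- the ring identification
  have hsurj : Function.Surjective (algebraMap (X.presheaf.stalk x) (X.presheaf.stalk x ⧸ J)) :=
    Ideal.Quotient.mk_surjective
  have hker : RingHom.ker (algebraMap (X.presheaf.stalk x) (X.presheaf.stalk x ⧸ J)) =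
      ((q.comap (algebraMap Γ(Y, V) Γ(X, U))).map (algebraMap Γ(Y, V) Γ(X, U))).map
        (algebraMap Γ(X, U) (X.presheaf.stalk x)) := by
    rw [Ideal.Quotient.algebraMap_eq, Ideal.mk_ker, hJ]
    letI aAS : Algebra Γ(Y, V) (Y.presheaf.stalk (f x)) :=
      TopCat.Presheaf.algebra_section_stalk Y.presheaf ⟨f x, e hxU⟩
    haveI := hV.isLocalization_stalk ⟨f x, e hxU⟩
    have hp : q.comap (algebraMap Γ(Y, V) Γ(X, U)) =
        (hV.primeIdealOf ⟨f x, e hxU⟩).asIdeal := by
      have h1 := IsAffineOpen.comap_primeIdealOf_appLE (f := f) V hV U hU e hxU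
      have := congrArg PrimeSpectrum.asIdeal h1
      rw [PrimeSpectrum.comap_asIdeal] at this
      exact this
    rw [hp, ← IsLocalization.AtPrime.map_eq_maximalIdeal
      (hV.primeIdealOf ⟨f x, e hxU⟩).asIdeal (Y.presheaf.stalk (f x)), Ideal.map_map,
      Ideal.map_map]
    congr 1
    ext a
    exact stalkMap_germ_eq f e x hxU a
  obtain ⟨eR⟩ := nonempty_algEquiv_fibLocRing (A := Γ(Y, V)) q (X.presheaf.stalk x)
    (X.presheaf.stalk x ⧸ J) hsurj hker
  haveI hNR := isNoetherianRing_fibLocRing (A := Γ(Y, V)) q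
  haveI hLR := Groth.Agent.Lib.Helper28.isLocalRing_fibLocRing (A := Γ(Y, V)) q
  haveI hNR' : IsNoetherianRing (X.presheaf.stalk x ⧸ J) :=
    isNoetherianRing_of_ringEquiv _ eR.symm.toRingEquiv
  haveI hLR' : IsLocalRing (X.presheaf.stalk x ⧸ J) :=
    eR.symm.toRingEquiv.isLocalRing
  obtain ⟨h1, -⟩ := hub_congr Γ(F, U) eR
  haveI : Module.Finite (X.presheaf.stalk x ⧸ J)
      (F.presheaf.stalk x ⧸ J • (⊤ : Submodule (X.presheaf.stalk x) (F.presheaf.stalk x))) :=
    Module.Finite.equiv E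
  have h3 : LocCoh.depth (X.presheaf.stalk x ⧸ J) ((X.presheaf.stalk x ⧸ J) ⊗[Γ(X, U)] Γ(F, U)) =
      LocCoh.depth (X.presheaf.stalk x ⧸ J)
        (F.presheaf.stalk x ⧸ J • (⊤ : Submodule (X.presheaf.stalk x) (F.presheaf.stalk x))) :=
    Groth.Agent.Lib.Helper28.idealDepth_congr E _
  have hcomap : (IsLocalRing.maximalIdeal (X.presheaf.stalk x ⧸ J)).comap
      (algebraMap (X.presheaf.stalk x) (X.presheaf.stalk x ⧸ J)) =
      IsLocalRing.maximalIdeal (X.presheaf.stalk x) := by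
    haveI : ((IsLocalRing.maximalIdeal (X.presheaf.stalk x ⧸ J)).comap
        (algebraMap (X.presheaf.stalk x) (X.presheaf.stalk x ⧸ J))).IsMaximal :=
      Ideal.comap_isMaximal_of_surjective _ hsurj
    exact IsLocalRing.eq_maximalIdeal inferInstance
  change IsAssociatedPrime (IsLocalRing.maximalIdeal (X.presheaf.stalk x))
    (F.presheaf.stalk x ⧸ J • (⊤ : Submodule (X.presheaf.stalk x) (F.presheaf.stalk x))) ↔ _
  rw [fdep_def, ← h1, h3, depth_eq_zero_iff, ← hcomap]
  exact isAssociatedPrime_comap_iff hsurj _ _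

end Chart

end Groth.Agent.Lib.H9RelAss2
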