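import Mathlib
import Groth.Agent.Lib.H9RelAss1
import Groth.Agent.Lib.H9RelAss2
import Groth.Agent.Lib.Helper5Compl

/-! mem_relAss_iff_dF (relAss ⟺ fibre depth dF = 0), isLocallyConstructible_badX_compl (BadX f F Uᶜ S locally constructible for U relatively quasi-compact, no flatness), isLocallyConstructible_relAss_fibre_subset (S1370) (helper9). -/

set_option autoImplicit false
set_option linter.style.haveILetI false
set_option linter.unusedSimpArgs false
set_option linter.unusedVariables false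
universe u

namespace Groth.Agent.Lib.H9RelAss3

open AlgebraicGeometry CategoryTheory Limits IsLocalRing TensorProduct Topology TopologicalSpace
open Groth.Agent.Lib.H9ModFibAlg Groth.Agent.Lib.H9ModFibSch
open Groth.Agent.Lib.Helper2.FlatOver Groth.Agent.Lib.Helper2.FinPres
open Groth.Agent.Lib.H9FibNumerics Groth.Agent.Lib.H9FibNumericsSch
open Groth.Agent.Lib.H9FibDepthAlong Groth.Agent.Lib.H9FibAssConstr
open Groth.Agent.Lib.H9RelAss1 Groth.Agent.Lib.H9RelAss2

variable {X Y : Scheme.{u}} (f : X ⟶ Y)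

/-- a point is a relative associated point iff the depth of the fibre module is zero there. -/
theorem mem_relAss_iff_dF [LocallyOfFinitePresentation f] (F : X.Modules)
    (hF : CohB1.IsFP F) (x : X) : x ∈ MoreMor.relAss f F ↔ dF f F x = 0 := by
  haveI : F.IsQuasicoherent := Groth.Agent.Helper18Strict.isQCoh_of_isFP F hF
  haveI : SheafOfModules.IsFinitePresentation (R := X.ringCatSheaf) F := hF
  obtain ⟨V, hV, hxV⟩ : ∃ V : Y.Opens, IsAffineOpen V ∧ f.base x ∈ V := by
    obtain ⟨_, ⟨V, hV, rfl⟩, hxV, -⟩ :=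
      Y.isBasis_affineOpens.exists_subset_of_mem_open (Set.mem_univ (f.base x)) isOpen_univ
    exact ⟨V, hV, hxV⟩
  obtain ⟨U, hU, hxU, hUV, hfpM⟩ := exists_affine_nhds_finitePresentation F x (f ⁻¹ᵁ V) hxV
  have hfp : (f.appLE V U hUV).hom.FinitePresentation :=
    HasRingHomProperty.appLE (P := @LocallyOfFinitePresentation) f inferInstance ⟨V, hV⟩ ⟨U, hU⟩ hUV
  have hft : (f.appLE V U hUV).hom.FiniteType := RingHom.FiniteType.of_finitePresentation hfp
  letI aVU : Algebra Γ(Y, V) Γ(X, U) := (f.appLE V U hUV).hom.toAlgebra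
  obtain ⟨n1, -, -⟩ := fiber_numerics f hU hV hUV F hft x hxU
  rw [n1]
  exact mem_relAss_iff_fdep_eq_zero f F hU hV hUV hft x hxU

set_option synthInstance.maxHeartbeats 400000 in
set_option maxHeartbeats 3200000 in
/-- the fibrewise specializations of the points outside a relatively quasi-compact open whose
invariants lie in `S` form a locally constructible set (no flatness). -/
theorem isLocallyConstructible_badX_compl [LocallyOfFinitePresentation f] [QuasiSeparated f]
    (F : X.Modules) (hF : CohB1.IsFP F) (U : X.Opens) [QuasiCompact (U.ι ≫ f)]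
    {S : Set (ℕ∞ × ℕ)} (hS : SDown S) (hS' : SFin S) :
    IsLocallyConstructible (BadX f F ((U : Set X)ᶜ) S) := by
  haveI : F.IsQuasicoherent := Groth.Agent.Helper18Strict.isQCoh_of_isFP F hF
  haveI : SheafOfModules.IsFinitePresentation (R := X.ringCatSheaf) F := hF
  intro x
  obtain ⟨V, hV, hxV⟩ : ∃ V : Y.Opens, IsAffineOpen V ∧ f.base x ∈ V := by
    obtain ⟨_, ⟨V, hV, rfl⟩, hxV, -⟩ :=
      Y.isBasis_affineOpens.exists_subset_of_mem_open (Set.mem_univ (f.base x)) isOpen_univ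
    exact ⟨V, hV, hxV⟩
  obtain ⟨U₁, hU₁, hxU₁, hUV, hfpM⟩ := exists_affine_nhds_finitePresentation F x (f ⁻¹ᵁ V) hxV
  have hfp : (f.appLE V U₁ hUV).hom.FinitePresentation :=
    HasRingHomProperty.appLE (P := @LocallyOfFinitePresentation) f inferInstance ⟨V, hV⟩ ⟨U₁, hU₁⟩
      hUV
  have hft : (f.appLE V U₁ hUV).hom.FiniteType := RingHom.FiniteType.of_finitePresentation hfp
  letI aVU : Algebra Γ(Y, V) Γ(X, U₁) := (f.appLE V U₁ hUV).hom.toAlgebra
  haveI : Algebra.FinitePresentation Γ(Y, V) Γ(X, U₁) := hfp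
  -- `U ∩ U₁` is quasi-compact
  have hc1 : IsCompact ((U : Set X) ∩ (f ⁻¹ᵁ V : Set X)) := by
    have h := (U.ι ≫ f).isCompact_preimage (U := V) hV.isCompact
    have h2 := h.image U.ι.continuous
    convert h2 using 1
    ext z
    constructor
    · rintro ⟨hzU, hzV⟩
      exact ⟨⟨z, hzU⟩, hzV, rfl⟩
    · rintro ⟨⟨z', hz'U⟩, hz'V, rfl⟩
      exact ⟨hz'U, hz'V⟩
  have hqs : IsQuasiSeparated (f ⁻¹ᵁ V : Set X) := f.isQuasiSeparated_preimage hV.isQuasiSeparated
  have hc2 : IsCompact ((U : Set X) ∩ (U₁ : Set X)) := by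
    have h := hqs ((U : Set X) ∩ (f ⁻¹ᵁ V : Set X)) (U₁ : Set X) Set.inter_subset_right
      (U.isOpen.inter (f ⁻¹ᵁ V).isOpen) hc1 hUV U₁.isOpen hU₁.isCompact
    convert h using 1
    ext z
    constructor
    · rintro ⟨hzU, hzU₁⟩
      exact ⟨⟨hzU, hUV hzU₁⟩, hzU₁⟩
    · rintro ⟨⟨hzU, -⟩, hzU₁⟩
      exact ⟨hzU, hzU₁⟩
  have hc3 : IsCompact ((Subtype.val : U₁ → X) ⁻¹' (U : Set X)) := by
    rw [Subtype.isCompact_iff]
    convert hc2 using 1
    ext z
    constructor
    · rintro ⟨⟨z', hz'U₁⟩, hz'U, rfl⟩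
      exact ⟨hz'U, hz'U₁⟩
    · rintro ⟨hzU, hzU₁⟩
      exact ⟨⟨z, hzU₁⟩, hzU, rfl⟩
  have hc4 : IsCompact (ZU hU₁ ((U : Set X)ᶜ))ᶜ := by
    have h := hc3.image hU₁.isoSpec.hom.homeomorph.continuous
    have e : (ZU hU₁ ((U : Set X)ᶜ))ᶜ =
        hU₁.isoSpec.hom.homeomorph '' ((Subtype.val : U₁ → X) ⁻¹' (U : Set X)) := by
      change (hU₁.isoSpec.hom.homeomorph '' ((Subtype.val : U₁ → X) ⁻¹' ((U : Set X)ᶜ)))ᶜ = _
      rw [Set.preimage_compl, Set.image_compl_eq hU₁.isoSpec.hom.homeomorph.bijective,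
        compl_compl]
    rw [e]
    exact h
  have hcl : IsClosed (ZU hU₁ ((U : Set X)ᶜ)) := isClosed_ZU hU₁ U.isOpen.isClosed_compl
  obtain ⟨T, hT⟩ := PrimeSpectrum.isCompact_isOpen_iff.mp ⟨hc4, hcl.isOpen_compl⟩
  have hT' : ZU hU₁ ((U : Set X)ᶜ) = PrimeSpectrum.zeroLocus (T : Set Γ(X, U₁)) := by
    rw [← compl_compl (ZU hU₁ ((U : Set X)ᶜ)), ← hT, compl_compl]
  have hc : IsConstructible (Bad Γ(Y, V) Γ(F, U₁) (ZU hU₁ ((U : Set X)ᶜ)) S) := by
    rw [hT']
    exact isConstructible_bad_zeroLocus hS hS' Γ(Y, V) Γ(X, U₁) Γ(F, U₁) T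
  refine ⟨U₁, U₁.isOpen.mem_nhds hxU₁, U₁.isOpen, ?_⟩
  have hpre := hU₁.isoSpec.hom.isConstructible_preimage hc
  have heq : (Subtype.val : ↥U₁ → X) ⁻¹' (BadX f F ((U : Set X)ᶜ) S) =
      (fun y : U₁ => hU₁.primeIdealOf y) ⁻¹'
        (Bad Γ(Y, V) Γ(F, U₁) (ZU hU₁ ((U : Set X)ᶜ)) S) := by
    ext ⟨z, hz⟩
    exact badX_chart f hU₁ hV hUV F hft _ S z hz
  change IsConstructible ((Subtype.val : ↥U₁ → X) ⁻¹' _)
  rw [heq]
  exact hpre

/-- **S1370**: for `f` of finite presentation, `F` finitely presented and `U` an open of the source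
quasi-compact over the target, the set of points `y` of the target such that all associated points
of `F` on the fibre over `y` lie in `U` is locally constructible. -/
theorem isLocallyConstructible_relAss_fibre_subset [LocallyOfFinitePresentation f]
    [QuasiCompact f] [QuasiSeparated f]
    (F : X.Modules) (hF : CohB1.IsFP F) (U : X.Opens) [QuasiCompact (U.ι ≫ f)] :
    IsLocallyConstructible {y : ↑Y | ∀ x ∈ MoreMor.relAss f F, f x = y → x ∈ U} := by
  have h1 := isLocallyConstructible_badX_compl f F hF U (sDown_S0 Set.univ) (sFin_S0 Set.univ)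
  have h2 := Groth.Agent.Lib.Helper5.isLocallyConstructible_compl
    (f.isLocallyConstructible_image h1)
  convert h2 using 1
  ext y
  simp only [Set.mem_ofPred_eq, Set.mem_compl_iff, Set.mem_image, not_exists, not_and]
  constructor
  · intro hy x hx hxy
    obtain ⟨z, hzU, hspec, hfz, hzS⟩ := hx
    have hz : z ∈ MoreMor.relAss f F := (mem_relAss_iff_dF f F hF z).mpr hzS.1
    exact hzU (hy z hz (hfz.trans hxy))
  · intro hy x hx hxy
    by_contra hxU
    refine hy x ⟨x, hxU, specializes_rfl, rfl, ?_, trivial⟩ hxy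
    exact (mem_relAss_iff_dF f F hF x).mp hx

end Groth.Agent.Lib.H9RelAss3
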