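import Mathlib
import Groth.Agent.Lib.H9RelAss3
import Groth.Agent.Lib.Helper2PullbackSec3
import Groth.Agent.Lib.Helper23FinType2
import Groth.Agent.Lib.H9FCM11
import Groth.Agent.Lib.Helper20FormalPull

/-! mem_relAss_iff_dF_ft (finite type version), badX_baseChange (scheme-level base change of BadX f F W T along any pullback square), relAss_fibre_subset_iff, relAss_fibre_subset_iff_baseChange (S9780) (helper9). -/

set_option autoImplicit false
set_option linter.style.haveILetI false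
set_option linter.unusedSimpArgs false
set_option linter.unusedVariables false
universe u

namespace Groth.Agent.Lib.H9RelAss4

open AlgebraicGeometry CategoryTheory Limits IsLocalRing TensorProduct Topology TopologicalSpace
open Groth.Agent.Lib.H9ModFibAlg Groth.Agent.Lib.H9ModFibSch
open Groth.Agent.Lib.Helper2.FlatOver Groth.Agent.Lib.Helper2.FinPres
open Groth.Agent.Lib.Helper2.PullbackSec
open Groth.Agent.Lib.H9FibNumerics Groth.Agent.Lib.H9FibNumericsSch
open Groth.Agent.Lib.H9FibDepthAlong Groth.Agent.Lib.H9FibAssConstr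
open Groth.Agent.Lib.H9RelAss1 Groth.Agent.Lib.H9RelAss2

/-- a point is a relative associated point iff the depth of the fibre module is zero there
(finite type version). -/
theorem mem_relAss_iff_dF_ft {X Y : Scheme.{u}} (f : X ⟶ Y) [LocallyOfFiniteType f]
    (F : X.Modules) [F.IsQuasicoherent]
    [SheafOfModules.IsFiniteType (R := X.ringCatSheaf) F] (x : X) :
    x ∈ MoreMor.relAss f F ↔ dF f F x = 0 := by
  obtain ⟨U, V, hU, hV, hxU, hUV⟩ := exists_affine_nhds f x
  have hft : (f.appLE V U hUV).hom.FiniteType := f.finiteType_appLE hV hU hUV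
  letI aVU : Algebra Γ(Y, V) Γ(X, U) := (f.appLE V U hUV).hom.toAlgebra
  haveI : Module.Finite Γ(X, U) Γ(F, U) :=
    Groth.Agent.Lib.Helper23.FinType.finite_of_isFiniteType F hU
  obtain ⟨n1, -, -⟩ := fiber_numerics f hU hV hUV F hft x hxU
  rw [n1]
  exact mem_relAss_iff_fdep_eq_zero f F hU hV hUV hft x hxU

set_option synthInstance.maxHeartbeats 400000 in
set_option maxHeartbeats 6400000 in
/-- **Base change of the fibrewise specializations** `BadX`. -/
theorem badX_baseChange {X S X' S' : Scheme.{u}} (f : X ⟶ S) [LocallyOfFiniteType f]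
    (F : X.Modules) [F.IsQuasicoherent]
    [SheafOfModules.IsFiniteType (R := X.ringCatSheaf) F]
    (g : S' ⟶ S) (f' : X' ⟶ S') (g' : X' ⟶ X) (hc : IsPullback g' f' f g)
    (W : Set X) {T : Set (ℕ∞ × ℕ)} (hT : SDown T) (x' : X') :
    x' ∈ BadX f' ((Scheme.Modules.pullback g').obj F) (g' ⁻¹' W) T ↔ g' x' ∈ BadX f F W T := by
  set H := (Scheme.Modules.pullback g').obj F with hH
  haveI : H.IsQuasicoherent := isQuasicoherent_pullback g' F
  haveI : LocallyOfFiniteType f' :=
    MorphismProperty.of_isPullback hc (inferInstance : LocallyOfFiniteType f)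
  -- charts
  obtain ⟨U, V, hU, hV, hxU, hUV⟩ := exists_affine_nhds f (g' x')
  have hpt : ∀ z : X', g (f' z) = f (g' z) := by
    intro z
    have := congrArg (fun φ => φ.base z) hc.w
    simpa using this.symm
  have hs' : f' x' ∈ g ⁻¹ᵁ V := by
    change g (f' x') ∈ V
    rw [hpt]
    exact hUV hxU
  obtain ⟨V', hV', hs'V', hV'le⟩ :=
    TopologicalSpace.Opens.isBasis_iff_nbhd.mp S'.isBasis_affineOpens hs'
  set U' : X'.Opens := g' ⁻¹ᵁ U ⊓ f' ⁻¹ᵁ V' with hU'def
  have hU' : IsAffineOpen U' := isAffineOpen_inf_preimage hc hV'le hUV hV hV' hU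
  have hx'U' : x' ∈ U' := ⟨hxU, hs'V'⟩
  have e1 : U' ≤ g' ⁻¹ᵁ U := inf_le_left
  have e2 : U' ≤ f' ⁻¹ᵁ V' := inf_le_right
  -- rings
  let A := Γ(S, V)
  let B := Γ(X, U)
  let A' := Γ(S', V')
  let B' := Γ(X', U')
  letI aAB : Algebra A B := (f.appLE V U hUV).hom.toAlgebra
  letI aAA' : Algebra A A' := (g.appLE V V' hV'le).hom.toAlgebra
  letI aBB' : Algebra B B' := (g'.appLE U U' e1).hom.toAlgebra
  letI aA'B' : Algebra A' B' := (f'.appLE V' U' e2).hom.toAlgebra
  letI aAB' : Algebra A B' := ((g'.appLE U U' e1).hom.comp (f.appLE V U hUV).hom).toAlgebra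
  haveI tABB' : IsScalarTower A B B' := IsScalarTower.of_algebraMap_eq (fun a => rfl)
  haveI tAA'B' : IsScalarTower A A' B' := by
    refine IsScalarTower.of_algebraMap_eq (fun a => ?_)
    change (g'.appLE U U' e1).hom ((f.appLE V U hUV).hom a) =
      (f'.appLE V' U' e2).hom ((g.appLE V V' hV'le).hom a)
    have h1 := Scheme.Hom.appLE_comp_appLE g' f V U U' hUV e1
    have h2 := Scheme.Hom.appLE_comp_appLE f' g V V' U' hV'le e2
    have h3 : (f.appLE V U hUV ≫ g'.appLE U U' e1) =
        (g.appLE V V' hV'le ≫ f'.appLE V' U' e2) := by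
      rw [h1, h2]
      congr 1
      exact hc.w
    exact congrArg (fun φ => φ.hom a) h3
  haveI po0 : Algebra.IsPushout A A' B B' :=
    algebra_isPushout hc hV'le hUV hV hV' hU e1 e2
  haveI po : Algebra.IsPushout A B A' B' := Algebra.IsPushout.symm po0
  -- modules
  letI mBM' : Module B Γ(H, U') := Module.compHom Γ(H, U') (g'.appLE U U' e1).hom
  haveI tBB'M' : IsScalarTower B B' Γ(H, U') := IsScalarTower.of_algebraMap_smul (fun _ _ => rfl)
  have hft : (f.appLE V U hUV).hom.FiniteType := f.finiteType_appLE hV hU hUV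
  have hft' : (f'.appLE V' U' e2).hom.FiniteType := f'.finiteType_appLE hV' hU' e2
  haveI : Algebra.FiniteType A B := hft
  haveI : Module.Finite B Γ(F, U) := Groth.Agent.Lib.Helper23.FinType.finite_of_isFiniteType F hU
  obtain ⟨Teq⟩ := nonempty_sections_linearEquiv g' F hU' hU e1
  let ν : Γ(F, U) →ₗ[B] Γ(H, U') :=
    (Teq.toLinearMap.restrictScalars B).comp (TensorProduct.mk B B' Γ(F, U) 1)
  have hν : IsBaseChange B' ν := IsBaseChange.of_equiv Teq (fun v => rfl)
  haveI : Module.Finite B' Γ(H, U') := Module.Finite.equiv Teq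
  -- the traces of `W`
  have hq : ∀ (z : X') (hz : z ∈ U'), PrimeSpectrum.comap (algebraMap B B')
      (hU'.primeIdealOf ⟨z, hz⟩) = hU.primeIdealOf ⟨g' z, e1 hz⟩ := fun z hz =>
    IsAffineOpen.comap_primeIdealOf_appLE U hU U' hU' e1 hz
  have hZ : ZU hU' (g' ⁻¹' W) = PrimeSpectrum.comap (algebraMap B B') ⁻¹' ZU hU W := by
    ext P'
    obtain ⟨⟨z, hz⟩, rfl⟩ := hU'.isoSpec.hom.homeomorph.surjective P'
    change hU'.primeIdealOf ⟨z, hz⟩ ∈ ZU hU' (g' ⁻¹' W) ↔
      PrimeSpectrum.comap (algebraMap B B') (hU'.primeIdealOf ⟨z, hz⟩) ∈ ZU hU W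
    rw [hq z hz, mem_ZU_iff hU' _ z hz, mem_ZU_iff hU W (g' z) (e1 hz)]
    rfl
  have k1 := badX_chart f' hU' hV' e2 H hft' (g' ⁻¹' W) T x' hx'U'
  have k2 := badX_chart f hU hV hUV F hft W T (g' x') hxU
  have k3 := bad_baseChange_gen (A := A) (B := B) (A' := A') (B' := B') Γ(F, U) Γ(H, U') ν hν hT
    (ZU hU W) (hU'.primeIdealOf ⟨x', hx'U'⟩)
  rw [k1, k2, hZ, k3, hq x' hx'U']

/-- the relative associated points over `s` lie in `U` iff no point over `s` is a fibrewise
specialization of a relative associated point outside `U`. -/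
theorem relAss_fibre_subset_iff {X S : Scheme.{u}} (f : X ⟶ S) [LocallyOfFiniteType f]
    (F : X.Modules) [F.IsQuasicoherent]
    [SheafOfModules.IsFiniteType (R := X.ringCatSheaf) F] (U : Set X) (s : S) :
    {x : X | x ∈ MoreMor.relAss f F ∧ f x = s} ⊆ U ↔
      ∀ y : X, f y = s → y ∉ BadX f F Uᶜ (S0 Set.univ) := by
  constructor
  · rintro h y hy ⟨z, hzU, hspec, hfz, hzS⟩
    have hz : z ∈ MoreMor.relAss f F := (mem_relAss_iff_dF_ft f F z).mpr hzS.1
    exact hzU (h ⟨hz, hfz.trans hy⟩)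
  · rintro h x ⟨hx, hxs⟩
    by_contra hxU
    exact h x hxs ⟨x, hxU, specializes_rfl, rfl, (mem_relAss_iff_dF_ft f F x).mp hx, trivial⟩

/-- **S9780**: base change invariance of "the relative associated points of the fibre lie in
`U`". -/
theorem relAss_fibre_subset_iff_baseChange {X S X' S' : Scheme.{u}} (f : X ⟶ S)
    [LocallyOfFiniteType f] (F : X.Modules) [F.IsQuasicoherent]
    [SheafOfModules.IsFiniteType (R := X.ringCatSheaf) F] (U : X.Opens)
    (g : S' ⟶ S) (f' : X' ⟶ S') (g' : X' ⟶ X) (hc : IsPullback g' f' f g) (s' : S') :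
    {x : ↑X | x ∈ MoreMor.relAss f F ∧ f x = g s'} ⊆ (U : Set ↑X) ↔
      {x' : ↑X' | x' ∈ MoreMor.relAss f' ((Scheme.Modules.pullback g').obj F) ∧ f' x' = s'} ⊆
        (g' ⁻¹ᵁ U : Set ↑X') := by
  haveI : ((Scheme.Modules.pullback g').obj F).IsQuasicoherent := isQuasicoherent_pullback g' F
  haveI : SheafOfModules.IsFiniteType (R := X'.ringCatSheaf) ((Scheme.Modules.pullback g').obj F) :=
    Groth.Agent.Lib.Helper20.FormalPull.isFiniteType_pullback g' F
  haveI : LocallyOfFiniteType f' :=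
    MorphismProperty.of_isPullback hc (inferInstance : LocallyOfFiniteType f)
  have hpt : ∀ z : X', g (f' z) = f (g' z) := by
    intro z
    have := congrArg (fun φ => φ.base z) hc.w
    simpa using this.symm
  rw [relAss_fibre_subset_iff f F (U : Set X) (g s'),
    relAss_fibre_subset_iff f' ((Scheme.Modules.pullback g').obj F) (g' ⁻¹ᵁ U : Set X') s']
  have hcompl : ((g' ⁻¹ᵁ U : X'.Opens) : Set X')ᶜ = g' ⁻¹' ((U : Set X)ᶜ) := rfl
  rw [hcompl]
  constructor
  · intro h y' hy' hbad
    refine h (g' y') ?_ ((badX_baseChange f F g f' g' hc _ (sDown_S0 Set.univ) y').mp hbad)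
    rw [← hpt, hy']
  · intro h y hy hbad
    obtain ⟨y', hy'1, hy'2⟩ := AlgebraicGeometry.Scheme.exists_preimage_of_isPullback hc y s' hy
    subst hy'1
    exact h y' hy'2 ((badX_baseChange f F g f' g' hc _ (sDown_S0 Set.univ) y').mpr hbad)

end Groth.Agent.Lib.H9RelAss4
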