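import Mathlib
import Groth.Agent.Lib.H9GenAss3
import Groth.Agent.Lib.H9GenPt2
import Groth.Agent.Lib.H9RelAss4

/-! complIdeal / complIdeal_le_iff (ideal of an affine chart cutting out the complement of an open), exists_open_relAss_subset (S1368: relative associated points of fibres near the generic point lie in U if those of the generic fibre do; f finite type, F q.c. of finite type, Y irreducible) (helper9). -/

set_option autoImplicit false
universe u

namespace Groth.Agent.Lib.H9GenAss4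

open AlgebraicGeometry CategoryTheory Limits TopologicalSpace
open Groth.Agent.Lib.H9GenPt2 Groth.Agent.Lib.H9GenAss3
open Groth.Agent.Lib.H9FibNumericsSch Groth.Agent.Lib.Helper4.DimFormula
open Groth.Agent.Lib.H9ModFibAlg Groth.Agent.Lib.H9RelAss2

section Chart

variable {X Y : Scheme.{u}} (f : X ⟶ Y) {U' : X.Opens} (hU' : IsAffineOpen U')
  {V : Y.Opens} (hV : IsAffineOpen V) (hUV : U' ≤ f ⁻¹ᵁ V)

/-- the ideal of an affine chart cutting out the complement of an open `U`. -/
def complIdeal (U : X.Opens) (U' : X.Opens) : Ideal Γ(X, U') :=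
  Ideal.span {b | X.basicOpen b ≤ U}

include hU' in
theorem complIdeal_le_iff (U : X.Opens) (x : X) (hx : x ∈ U') :
    complIdeal U U' ≤ (hU'.primeIdealOf ⟨x, hx⟩).asIdeal ↔ x ∉ U := by
  rw [complIdeal, Ideal.span_le]
  constructor
  · intro h hxU
    obtain ⟨b, hbU, hxb⟩ := hU'.exists_basicOpen_le (V := U) ⟨x, hxU⟩ hx
    exact (Groth.Agent.Lib.H9Slice.notMem_primeIdealOf_iff hU' x hx b).mpr hxb (h hbU)
  · intro hxU b hb
    by_contra hbq
    exact hxU (hb ((Groth.Agent.Lib.H9Slice.notMem_primeIdealOf_iff hU' x hx b).mp hbq))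

end Chart

set_option synthInstance.maxHeartbeats 400000 in
set_option maxHeartbeats 1600000 in
/-- **Relative associated points near the generic point**: if the associated points of the
generic fibre lie in `U`, the same holds for the fibres over a nonempty open. -/
theorem exists_open_relAss_subset {X Y : Scheme.{u}} (f : X ⟶ Y) [IrreducibleSpace ↑Y]
    [LocallyOfFiniteType f] [QuasiCompact f] (F : X.Modules) [F.IsQuasicoherent]
    [SheafOfModules.IsFiniteType (R := X.ringCatSheaf) F] (U : X.Opens)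
    (h : ∀ x ∈ MoreMor.relAss f F, f x = genericPoint ↑Y → x ∈ U) :
    ∃ V : Y.Opens, (V : Set ↑Y).Nonempty ∧ ∀ x ∈ MoreMor.relAss f F, f x ∈ V → x ∈ U := by
  have key := exists_open_forall_of_charts f (MoreMor.relAss f F ∩ (U : Set X)ᶜ) ?_
  · obtain ⟨V, hV, hk⟩ := key
    refine ⟨V, hV, fun x hx hfx => ?_⟩
    by_contra hxU
    exact hk x hfx ⟨hx, hxU⟩
  intro U' V hU' hV hUV hηV
  have hft : (f.appLE V U' hUV).hom.FiniteType := f.finiteType_appLE hV hU' hUV
  letI aVU : Algebra Γ(Y, V) Γ(X, U') := (f.appLE V U' hUV).hom.toAlgebra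
  haveI : Algebra.FiniteType Γ(Y, V) Γ(X, U') := hft
  haveI : Module.Finite Γ(X, U') Γ(F, U') :=
    Groth.Agent.Lib.Helper23.FinType.finite_of_isFiniteType F hU'
  letI : Module Γ(Y, V) Γ(F, U') := Module.compHom _ (algebraMap Γ(Y, V) Γ(X, U'))
  haveI : IsScalarTower Γ(Y, V) Γ(X, U') Γ(F, U') :=
    IsScalarTower.of_algebraMap_smul fun _ _ => rfl
  set p : Ideal Γ(Y, V) := (hV.primeIdealOf ⟨genericPoint ↑Y, hηV⟩).asIdeal with hp
  have hcomap : ∀ (x' : X) (hx' : x' ∈ U'),
      (hU'.primeIdealOf ⟨x', hx'⟩).asIdeal.under Γ(Y, V) =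
        (hV.primeIdealOf ⟨f x', hUV hx'⟩).asIdeal :=
    fun x' hx' => primeIdealOf_comap_appLE f hU' hV hUV x' hx'
  obtain ⟨g, hgp, hg⟩ := exists_fdep_ne_zero_spread (A := Γ(Y, V)) (B := Γ(X, U')) Γ(F, U') p
    (complIdeal U U') (by
      intro q hq hqp hJq
      obtain ⟨⟨x', hx'U⟩, hx'⟩ := exists_primeIdealOf_eq hU' ⟨q, hq⟩
      have hq' : q = (hU'.primeIdealOf ⟨x', hx'U⟩).asIdeal := by rw [hx']
      subst hq'
      have hx'notU : x' ∉ U := (complIdeal_le_iff hU' U x' hx'U).mp hJq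
      intro h0
      have hrel : x' ∈ MoreMor.relAss f F :=
        (mem_relAss_iff_fdep_eq_zero f F hU' hV hUV hft x' hx'U).mpr h0
      refine hx'notU (h x' hrel ?_)
      have h4 := hcomap x' hx'U
      rw [hqp, hp] at h4
      have h5 : hV.primeIdealOf ⟨genericPoint ↑Y, hηV⟩ = hV.primeIdealOf ⟨f x', hUV hx'U⟩ :=
        PrimeSpectrum.ext h4
      have h6 := hV.isoSpec.hom.isOpenEmbedding.injective h5
      exact (congrArg Subtype.val h6).symm)
  refine ⟨g, (Groth.Agent.Lib.H9Slice.notMem_primeIdealOf_iff hV _ hηV g).mp hgp, ?_⟩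
  rintro x hxU' hfx ⟨hxrel, hxU⟩
  have h0 := (mem_relAss_iff_fdep_eq_zero f F hU' hV hUV hft x hxU').mp hxrel
  refine hg (hU'.primeIdealOf ⟨x, hxU'⟩).asIdeal ?_ ?_ ?_ h0
  · rw [hcomap x hxU', hp]
    exact (specializes_iff_primeIdealOf_le hV (genericPoint ↑Y) (f x) hηV (hUV hxU')).mp
      (genericPoint_specializes _)
  · exact (complIdeal_le_iff hU' U x hxU').mpr hxU
  · intro hmem
    have h1 : g ∈ (hU'.primeIdealOf ⟨x, hxU'⟩).asIdeal.under Γ(Y, V) := hmem
    rw [hcomap x hxU'] at h1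
    exact ((Groth.Agent.Lib.H9Slice.notMem_primeIdealOf_iff hV (f x) (hUV hxU') g).mpr hfx) h1

end Groth.Agent.Lib.H9GenAss4
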