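import Mathlib
import Groth.Agent.Lib.H9GenAss4
import Groth.Agent.Lib.Helper20ZClos21
import Groth.Agent.Lib.Helper12SchDense
import Groth.Agent.Lib.Helper23PB
import Groth.Agent.Lib.Helper23UnitStalk

/-! fiberι_mem_relAss_structureModule_iff (a point of a fibre is a relative associated point of O_X iff the fibre local ring has depth 0), isSchemeTheoreticallyDominant_fibre_iff ((fiberι y)⁻¹U scheme theoretically dense in the fibre iff it contains the relAss points of O_X over y; f l.f.t.), exists_open_isSchemeTheoreticallyDominant_fibre (S1300) (helper9). -/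

set_option autoImplicit false
universe u

namespace Groth.Agent.Lib.H9GenAss5

open AlgebraicGeometry CategoryTheory Limits TopologicalSpace
open Groth.Agent.Lib.H9GenPt2 Groth.Agent.Lib.H9GenAss3 Groth.Agent.Lib.H9GenAss4
open Groth.Agent.Lib.H9FibNumericsSch Groth.Agent.Lib.Helper4.DimFormula
open Groth.Agent.Lib.H9ModFibAlg Groth.Agent.Lib.H9ModFibSch Groth.Agent.Lib.H9RelAss2
open Groth.Agent.Lib.Helper1.Sky Groth.Agent.Lib.Helper2.FlatOver

set_option synthInstance.maxHeartbeats 400000 in
set_option maxHeartbeats 1600000 in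
/-- a point of a fibre is a relative associated point of the structure sheaf iff the local ring
of the fibre has depth zero there. -/
theorem fiberι_mem_relAss_structureModule_iff {X Y : Scheme.{u}} (f : X ⟶ Y)
    [LocallyOfFiniteType f] (y : Y) (z : f.fiber y) :
    f.fiberι y z ∈ MoreMor.relAss f (Coh.structureModule X) ↔
      LocCoh.depth ((f.fiber y).presheaf.stalk z) ((f.fiber y).presheaf.stalk z) = 0 := by
  haveI : (Coh.structureModule X).IsQuasicoherent :=
    Groth.Agent.Lib.Helper23.Serre.isQuasicoherent_structureModule' X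
  haveI : SheafOfModules.IsFinitePresentation (R := X.ringCatSheaf) (Coh.structureModule X) :=
    Groth.Agent.Helper18FinFlat.isFinitePresentation_structureModule X
  haveI : SheafOfModules.IsFiniteType (R := X.ringCatSheaf) (Coh.structureModule X) :=
    inferInstance
  obtain ⟨U, V, hU, hV, hxU, hUV⟩ := exists_affine_nhds f (f.fiberι y z)
  have hft : (f.appLE V U hUV).hom.FiniteType := f.finiteType_appLE hV hU hUV
  letI aVU : Algebra Γ(Y, V) Γ(X, U) := (f.appLE V U hUV).hom.toAlgebra
  haveI : Module.Finite Γ(X, U) Γ(Coh.structureModule X, U) :=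
    Groth.Agent.Lib.Helper23.FinType.finite_of_isFiniteType (Coh.structureModule X) hU
  obtain ⟨-, -, h1, -⟩ :=
    depth_supportDim_fiber_stalk f (Coh.structureModule X) hU hV hUV hft y z hxU
  rw [mem_relAss_iff_fdep_eq_zero f (Coh.structureModule X) hU hV hUV hft _ hxU, ← h1]
  let e1 : (((Scheme.Modules.pullback (f.fiberι y)).obj (Coh.structureModule X)).presheaf.stalk z)
      ≃ₗ[(f.fiber y).presheaf.stalk z] ((Coh.structureModule (f.fiber y)).presheaf.stalk z) :=
    ((stalkFun z).mapIso (Groth.Agent.Lib.Helper23.PB.pullbackUnitIso (f.fiberι y))).toLinearEquiv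
  let e2 := Groth.Agent.Lib.Helper23.UnitStalk.unitStalkEquiv z
  have := Groth.Agent.Lib.Helper28.idealDepth_congr (e1 ≪≫ₗ e2.symm)
    (IsLocalRing.maximalIdeal ((f.fiber y).presheaf.stalk z))
  unfold LocCoh.depth
  rw [this]

/-- in a fibre, the preimage of `U` is scheme theoretically dense iff it contains the points of
the fibre which are relative associated points of the structure sheaf. -/
theorem isSchemeTheoreticallyDominant_fibre_iff {X Y : Scheme.{u}} (f : X ⟶ Y)
    [LocallyOfFiniteType f] (U : X.Opens) (y : Y) :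
    IsSchemeTheoreticallyDominant (f.fiberι y ⁻¹ᵁ U).ι ↔
      ∀ x ∈ MoreMor.relAss f (Coh.structureModule X), f x = y → x ∈ U := by
  haveI : LocallyOfFiniteType (f.fiberToSpecResidueField y) :=
    Groth.Agent.Lib.Helper4.VarDim.locallyOfFiniteType_fiberToSpecResidueField f y
  haveI : IsLocallyNoetherian (f.fiber y) :=
    LocallyOfFiniteType.isLocallyNoetherian (f.fiberToSpecResidueField y)
  rw [← Groth.Agent.Lib.Helper12.SchDense.isSchematicallyDense_iff]
  constructor
  · intro hd x hx hfx
    have hx' : x ∈ Set.range (f.fiberι y) := by rw [f.range_fiberι]; exact hfx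
    obtain ⟨z, rfl⟩ := hx'
    by_contra hzU
    have h1 := Groth.Agent.Lib.Helper20.ZClosLib.one_le_depth_of_isSchematicallyDense
      (f.fiberι y ⁻¹ᵁ U) hd z hzU
    rw [(fiberι_mem_relAss_structureModule_iff f y z).mp hx] at h1
    exact absurd h1 (by simp)
  · intro h
    refine Groth.Agent.Lib.Helper20.ZClosLib.isSchematicallyDense_of_one_le_depth _ fun z hz => ?_
    rw [Order.one_le_iff_ne_zero]
    intro h0
    refine hz (h (f.fiberι y z) ((fiberι_mem_relAss_structureModule_iff f y z).mpr h0) ?_)
    have : f.fiberι y z ∈ f ⁻¹' {y} := by rw [← f.range_fiberι]; exact ⟨z, rfl⟩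
    exact this

/-- S1300. -/
theorem exists_open_isSchemeTheoreticallyDominant_fibre {X Y : Scheme.{u}} (f : X ⟶ Y) [IrreducibleSpace ↑Y] [LocallyOfFiniteType f] [QuasiCompact f]
    (U : X.Opens) (h : IsSchemeTheoreticallyDominant (f.fiberι (genericPoint ↑Y) ⁻¹ᵁ U).ι) :
    ∃ V : Y.Opens, (V : Set ↑Y).Nonempty ∧ ∀ y ∈ V, IsSchemeTheoreticallyDominant (f.fiberι y ⁻¹ᵁ U).ι := by
  haveI : (Coh.structureModule X).IsQuasicoherent :=
    Groth.Agent.Lib.Helper23.Serre.isQuasicoherent_structureModule' X
  haveI : SheafOfModules.IsFinitePresentation (R := X.ringCatSheaf) (Coh.structureModule X) :=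
    Groth.Agent.Helper18FinFlat.isFinitePresentation_structureModule X
  haveI : SheafOfModules.IsFiniteType (R := X.ringCatSheaf) (Coh.structureModule X) :=
    inferInstance
  obtain ⟨V, hV, hVU⟩ := exists_open_relAss_subset f (Coh.structureModule X) U
    ((isSchemeTheoreticallyDominant_fibre_iff f U _).mp h)
  refine ⟨V, hV, fun y hy => ?_⟩
  rw [isSchemeTheoreticallyDominant_fibre_iff]
  intro x hx hfx
  exact hVU x hx (by rw [hfx]; exact hy)

end Groth.Agent.Lib.H9GenAss5
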