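import Mathlib
import Groth.Agent.Lib.H9GenAss1

/-! cancelBaseChange_nat₂, mk_one_injective_of_flat, ker_baseChange_iff_of_lTensor (ker ψ_R = ker ρ_R if this holds after an injective base change R → L and R⊗M, R⊗Ȳ are flat), lTensor_eq_zero_of_ker_le, ker_lTensor_iff_of_baseChange (spreading ker ψ_L = ker ρ_L to all R-algebras L when coker ψ_R is R-flat) (helper9). -/

set_option autoImplicit false
universe u

namespace Groth.Agent.Lib.H9GenAss6

open TensorProduct

section Abs

variable {A : Type*} [CommRing A] (R : Type*) [CommRing R] [Algebra A R]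
  (L : Type*) [CommRing L] [Algebra A L] [Algebra R L] [IsScalarTower A R L]
  {M₁ M₂ : Type*} [AddCommGroup M₁] [Module A M₁] [AddCommGroup M₂] [Module A M₂]
  (φ : M₁ →ₗ[A] M₂)

/-- naturality of `cancelBaseChange` in the module (two modules). -/
theorem cancelBaseChange_nat₂ (z : L ⊗[R] (R ⊗[A] M₁)) :
    AlgebraTensorModule.cancelBaseChange A R L L M₂ ((φ.baseChange R).lTensor L z) =
      φ.lTensor L (AlgebraTensorModule.cancelBaseChange A R L L M₁ z) := by
  induction z using TensorProduct.induction_on with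
  | zero => simp
  | add x y hx hy => simp only [map_add, hx, hy]
  | tmul l y =>
    induction y using TensorProduct.induction_on with
    | zero => simp
    | add x y hx hy => simp only [tmul_add, map_add, hx, hy]
    | tmul r m => simp

/-- for a flat `R`-module `P` and an injective `R → L`, `P → L ⊗[R] P` is injective. -/
theorem mk_one_injective_of_flat (hL : Function.Injective (algebraMap R L))
    (P : Type*) [AddCommGroup P] [Module R P] [Module.Flat R P] :
    Function.Injective (TensorProduct.mk R L P 1) := by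
  have h1 : Function.Injective ((Algebra.linearMap R L).rTensor P) :=
    Module.Flat.rTensor_preserves_injective_linearMap _ hL
  intro x y hxy
  have : (Algebra.linearMap R L).rTensor P ((1 : R) ⊗ₜ x) =
      (Algebra.linearMap R L).rTensor P ((1 : R) ⊗ₜ y) := by
    simpa using hxy
  have h2 := h1 this
  have h3 := congrArg (TensorProduct.lid R P) h2
  simpa using h3

end Abs

section Spread

variable {A : Type*} [CommRing A] (R : Type*) [CommRing R] [Algebra A R]
  (L : Type*) [CommRing L] [Algebra A L] [Algebra R L] [IsScalarTower A R L]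
  {Y M E Yq : Type*} [AddCommGroup Y] [Module A Y] [AddCommGroup M] [Module A M]
  [AddCommGroup E] [Module A E] [AddCommGroup Yq] [Module A Yq]
  (ρ : Y →ₗ[A] Yq) (ψ : Y →ₗ[A] M) (π : M →ₗ[A] E)

/-- the kernel of `ψ ⊗ R` is the kernel of `ρ ⊗ R` as soon as this holds after the
injective base change `R → L`, with `R ⊗ M` and `R ⊗ Yq` flat. -/
theorem ker_baseChange_iff_of_lTensor (hL : Function.Injective (algebraMap R L))
    (hM : Module.Flat R (R ⊗[A] M)) (hYK : Module.Flat R (R ⊗[A] Yq))
    (H : ∀ z : L ⊗[A] Y, ψ.lTensor L z = 0 ↔ ρ.lTensor L z = 0) (z : R ⊗[A] Y) :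
    ψ.baseChange R z = 0 ↔ ρ.baseChange R z = 0 := by
  have e1 := cancelBaseChange_nat₂ R L ψ ((1 : L) ⊗ₜ[R] z)
  have e2 := cancelBaseChange_nat₂ R L ρ ((1 : L) ⊗ₜ[R] z)
  simp only [LinearMap.lTensor_tmul] at e1 e2
  constructor
  · intro h
    apply mk_one_injective_of_flat R L hL (R ⊗[A] Yq)
    rw [map_zero]
    apply (AlgebraTensorModule.cancelBaseChange A R L L Yq).injective
    rw [map_zero]
    change (AlgebraTensorModule.cancelBaseChange A R L L Yq)
      ((1 : L) ⊗ₜ[R] (ρ.baseChange R z)) = 0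
    rw [e2, ← H, ← e1, h, tmul_zero, map_zero]
  · intro h
    apply mk_one_injective_of_flat R L hL (R ⊗[A] M)
    rw [map_zero]
    apply (AlgebraTensorModule.cancelBaseChange A R L L M).injective
    rw [map_zero]
    change (AlgebraTensorModule.cancelBaseChange A R L L M)
      ((1 : L) ⊗ₜ[R] (ψ.baseChange R z)) = 0
    rw [e1, H, ← e2, h, tmul_zero, map_zero]

end Spread

section Spread2

variable {A : Type*} [CommRing A] (R : Type*) [CommRing R] [Algebra A R]
  (L : Type*) [CommRing L] [Algebra A L] [Algebra R L] [IsScalarTower A R L]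
  {Y M E Yq : Type*} [AddCommGroup Y] [Module A Y] [AddCommGroup M] [Module A M]
  [AddCommGroup E] [Module A E] [AddCommGroup Yq] [Module A Yq]
  (ρ : Y →ₗ[A] Yq) (ψ : Y →ₗ[A] M) (π : M →ₗ[A] E)

/-- auxiliary: if `f₁ z = 0 → f₂ z = 0` over `R` with `f₁` surjective onto its... (right
exactness): vanishing of `f₂ ⊗ L` on the kernel of `f₁ ⊗ L`, when `f₁` is surjective. -/
theorem lTensor_eq_zero_of_ker_le {P₀ P₁ P₂ : Type*} [AddCommGroup P₀] [Module R P₀]
    [AddCommGroup P₁] [Module R P₁] [AddCommGroup P₂] [Module R P₂]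
    (f₁ : P₀ →ₗ[R] P₁) (f₂ : P₀ →ₗ[R] P₂) (hs : Function.Surjective f₁)
    (h : ∀ z, f₁ z = 0 → f₂ z = 0) (z : L ⊗[R] P₀) (hz : f₁.lTensor L z = 0) :
    f₂.lTensor L z = 0 := by
  have hex : Function.Exact ((LinearMap.ker f₁).subtype.lTensor L) (f₁.lTensor L) :=
    lTensor_exact L (LinearMap.exact_subtype_ker_map f₁) hs
  obtain ⟨w, rfl⟩ := (hex z).mp hz
  rw [← LinearMap.comp_apply, ← LinearMap.lTensor_comp]
  have : f₂ ∘ₗ (LinearMap.ker f₁).subtype = 0 := by
    ext ⟨x, hx⟩
    exact h x hx
  rw [this, LinearMap.lTensor_zero, LinearMap.zero_apply]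

/-- **spreading the kernel**: if over `R` the kernel of `ψ_R` is the kernel of
`ρ_R` and the cokernel of `ψ_R` is `R`-flat, the same description of the kernel holds
after any base change `R → L`. -/
theorem ker_lTensor_iff_of_baseChange (hρ : Function.Surjective ρ) (hπ : Function.Surjective π)
    (hex : Function.Exact ψ π) (hE : Module.Flat R (R ⊗[A] E))
    (hR : ∀ z : R ⊗[A] Y, ψ.baseChange R z = 0 ↔ ρ.baseChange R z = 0) (z : L ⊗[A] Y) :
    ψ.lTensor L z = 0 ↔ ρ.lTensor L z = 0 := by
  obtain ⟨z', rfl⟩ := (AlgebraTensorModule.cancelBaseChange A R L L Y).surjective z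
  rw [← cancelBaseChange_nat₂, ← cancelBaseChange_nat₂, LinearEquiv.map_eq_zero_iff,
    LinearEquiv.map_eq_zero_iff]
  constructor
  · intro h
    -- the injective map induced by `ψ_R`
    set Kψ := LinearMap.ker (ψ.baseChange R) with hKψ
    set g : (R ⊗[A] Y) ⧸ Kψ →ₗ[R] R ⊗[A] M := Kψ.liftQ (ψ.baseChange R) le_rfl with hg
    have hginj : Function.Injective g := by
      rw [← LinearMap.ker_eq_bot, hg, Submodule.ker_liftQ_eq_bot']
      rfl
    have hgex : Function.Exact g (π.baseChange R) := by
      have h0 : Function.Exact (ψ.baseChange R) (π.baseChange R) :=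
        lTensor_exact (R := A) R hex hπ
      rw [LinearMap.exact_iff] at h0 ⊢
      rw [h0, hg, Submodule.range_liftQ]
    have hπs : Function.Surjective (π.baseChange R) := LinearMap.lTensor_surjective R hπ
    have hinj := LinearMap.lTensor_injective_of_exact_of_flat (π.baseChange R) hπs g hginj hgex L
    have hcomp : ψ.baseChange R = g ∘ₗ Kψ.mkQ := by
      rw [hg, Submodule.liftQ_mkQ]
    have h1 : (Kψ.mkQ).lTensor L z' = 0 := by
      apply hinj
      rw [map_zero, ← LinearMap.comp_apply, ← LinearMap.lTensor_comp, ← hcomp]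
      exact h
    refine lTensor_eq_zero_of_ker_le R L Kψ.mkQ (ρ.baseChange R) (Submodule.mkQ_surjective _)
      (fun w hw => ?_) z' h1
    have : w ∈ Kψ := (Submodule.Quotient.mk_eq_zero Kψ).mp hw
    exact (hR w).mp this
  · intro h
    exact lTensor_eq_zero_of_ker_le R L (ρ.baseChange R) (ψ.baseChange R)
      (LinearMap.lTensor_surjective R hρ) (fun w hw => (hR w).mpr hw) z' h

end Spread2

end Groth.Agent.Lib.H9GenAss6
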