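import Mathlib
import Groth.Agent.Lib.H9GenAss6
import Groth.Agent.Lib.H9GenAss3

/-! exists_smul_eq_one_tmul (elements of κ(p) ⊗[A] X are fractions (1/s) ⊗ x), exists_elem_of_fdep_eq_zero (a prime of fibre depth 0 is the annihilator of some 1 ⊗ m), exists_fdep_eq_zero_spread (algebra form of S1369: a relative associated prime q over p spreads to primes q' ⊇ q over all P ⊇ p, g ∉ P) (helper9). -/

set_option autoImplicit false
universe u

namespace Groth.Agent.Lib.H9GenAss7

open TensorProduct Groth.Agent.Lib.Helper2.GenFree Groth.Agent.Lib.H9GenAss1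
  Groth.Agent.Lib.H9GenAss2 Groth.Agent.Lib.H9GenAss3 Groth.Agent.Lib.H9GenAss6
open Groth.Agent.Lib.H9ModFibAlg Groth.Agent.Lib.H9FibNumerics
open Groth.Agent.Lib.Helper28 Groth.Agent.Lib.Helper5 Groth.Agent.Lib.Helper5.GenDepth

attribute [local instance] Algebra.TensorProduct.rightAlgebra

section Frac

variable {A : Type*} [CommRing A] (p : Ideal A) [p.IsPrime]

theorem exists_mul_algebraMap_eq (k : p.ResidueField) :
    ∃ s : A, s ∉ p ∧ ∃ a : A, algebraMap A p.ResidueField s * k = algebraMap A p.ResidueField a := by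
  obtain ⟨x, rfl⟩ := IsLocalRing.residue_surjective (R := Localization.AtPrime p) k
  obtain ⟨a, s, rfl⟩ := IsLocalization.exists_mk'_eq p.primeCompl x
  refine ⟨s.1, s.2, a, ?_⟩
  have h := IsLocalization.mk'_spec (Localization.AtPrime p) a s
  have h2 := congrArg (IsLocalRing.residue (Localization.AtPrime p)) h
  rw [map_mul] at h2
  rw [mul_comm]
  exact h2

theorem algebraMap_smul_one_tmul (X : Type*) [AddCommGroup X] [Module A X] (s : A) (x : X) :
    algebraMap A p.ResidueField s • ((1 : p.ResidueField) ⊗ₜ[A] x) = 1 ⊗ₜ (s • x) := by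
  rw [TensorProduct.smul_tmul', smul_eq_mul, mul_one, Algebra.algebraMap_eq_smul_one,
    TensorProduct.smul_tmul]

/-- every element of `κ(p) ⊗[A] X` is a fraction `(1/s) ⊗ x`. -/
theorem exists_smul_eq_one_tmul (X : Type*) [AddCommGroup X] [Module A X]
    (t : p.ResidueField ⊗[A] X) :
    ∃ s : A, s ∉ p ∧ ∃ x : X, algebraMap A p.ResidueField s • t = 1 ⊗ₜ x := by
  induction t using TensorProduct.induction_on with
  | zero => exact ⟨1, fun h => ‹p.IsPrime›.ne_top ((Ideal.eq_top_iff_one _).mpr h), 0, by simp⟩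
  | tmul k x =>
    obtain ⟨s, hs, a, ha⟩ := exists_mul_algebraMap_eq p k
    refine ⟨s, hs, a • x, ?_⟩
    rw [TensorProduct.smul_tmul', smul_eq_mul, ha, Algebra.algebraMap_eq_smul_one,
      TensorProduct.smul_tmul]
  | add t₁ t₂ h₁ h₂ =>
    obtain ⟨s₁, hs₁, x₁, e₁⟩ := h₁
    obtain ⟨s₂, hs₂, x₂, e₂⟩ := h₂
    refine ⟨s₁ * s₂, fun h => ?_, s₂ • x₁ + s₁ • x₂, ?_⟩
    · rcases ‹p.IsPrime›.mem_or_mem h with h | h
      · exact hs₁ h
      · exact hs₂ h
    · have h1 : (algebraMap A p.ResidueField (s₁ * s₂)) • t₁ = 1 ⊗ₜ (s₂ • x₁) := by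
        rw [map_mul, mul_comm, mul_smul, e₁, algebraMap_smul_one_tmul]
      have h2 : (algebraMap A p.ResidueField (s₁ * s₂)) • t₂ = 1 ⊗ₜ (s₁ • x₂) := by
        rw [map_mul, mul_smul, e₂, algebraMap_smul_one_tmul]
      rw [smul_add, h1, h2, tmul_add]

theorem isUnit_algebraMap_residueField {s : A} (hs : s ∉ p) :
    IsUnit (algebraMap A p.ResidueField s) :=
  isUnit_iff_ne_zero.mpr fun h => hs ((Ideal.algebraMap_residueField_eq_zero).mp h)

end Frac

section StepA

variable {A B : Type u} [CommRing A] [CommRing B] [Algebra A B] [Algebra.FiniteType A B]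
  (M : Type u) [AddCommGroup M] [Module B M] [Module A M] [IsScalarTower A B M]
  [Module.Finite B M]

/-- a prime of fibre depth zero is the annihilator of an element `1 ⊗ m` of the fibre module. -/
theorem exists_elem_of_fdep_eq_zero (p : Ideal A) [p.IsPrime] (q : Ideal B) [q.IsPrime]
    (hqp : q.under A = p) (h0 : fdep A M q = 0) :
    ∃ m : M, ∀ b : B, b ∈ q ↔ (1 : p.ResidueField) ⊗ₜ[A] (b • m) = 0 := by
  haveI : Algebra.FiniteType p.ResidueField (p.Fiber B) := inferInstance
  haveI hN : IsNoetherianRing (p.Fiber B) :=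
    Algebra.FiniteType.isNoetherianRing p.ResidueField (p.Fiber B)
  obtain ⟨Q, hQ⟩ := exists_fibMap_eq (A := A) p q hqp
  have hdep : dep Q.asIdeal (p.Fiber B ⊗[B] M) = 0 := by
    rw [← (fibMap_numerics M p Q).1, (fdep_congr (A := A) M hQ).1]
    exact h0
  have hass := (dep_eq_zero_iff (p.Fiber B ⊗[B] M) Q.asIdeal).mp hdep
  obtain ⟨-, n, hn⟩ := (isAssociatedPrime_iff).mp hass
  set e := Algebra.IsPushout.cancelBaseChange A p.ResidueField B (p.Fiber B) M with he
  obtain ⟨s, hs, m, hsm⟩ := exists_smul_eq_one_tmul p M (e n)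
  refine ⟨m, fun b => ?_⟩
  have hu := isUnit_algebraMap_residueField p hs
  have h1 : b ∈ q ↔ algebraMap B (p.Fiber B) b • n = 0 := by
    rw [← hQ]
    change algebraMap B (p.Fiber B) b ∈ Q.asIdeal ↔ _
    rw [hn, Submodule.mem_colon_singleton, Submodule.mem_bot]
  have h2 : e (algebraMap B (p.Fiber B) b • n) =
      (mulA (A := A) M b).lTensor p.ResidueField (e n) := by
    have := cancel_symm_nat (A := A) M p b (e n)
    rw [LinearEquiv.symm_apply_apply] at this
    rw [← this, LinearEquiv.apply_symm_apply]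
  have hsm' : s • e n = 1 ⊗ₜ[A] m := by rw [← hsm, algebraMap_smul]
  have h3 : (mulA (A := A) M b).lTensor p.ResidueField (s • e n) = 1 ⊗ₜ[A] (b • m) := by
    rw [hsm']
    simp
  rw [h1, ← LinearEquiv.map_eq_zero_iff e, h2, ← h3, map_smul,
    ← algebraMap_smul p.ResidueField s]
  exact (hu.smul_eq_zero).symm

end StepA

section Main

variable {A B : Type u} [CommRing A] [CommRing B] [Algebra A B] [Algebra.FiniteType A B]
  (M : Type u) [AddCommGroup M] [Module B M] [Module A M] [IsScalarTower A B M]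
  [Module.Finite B M]

set_option synthInstance.maxHeartbeats 400000 in
set_option maxHeartbeats 3200000 in
/-- **spreading a relative associated point**: if `q` over `p` has fibre depth zero, then over
every prime `P ⊇ p` not containing a suitable `g ∉ p` there is a prime `q' ⊇ q` of fibre depth
zero. -/
theorem exists_fdep_eq_zero_spread (p : Ideal A) [p.IsPrime] (q : Ideal B) [hq : q.IsPrime]
    (hqp : q.under A = p) (h0 : fdep A M q = 0) :
    ∃ g : A, g ∉ p ∧ ∀ (P : Ideal A) [P.IsPrime], p ≤ P → g ∉ P →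
      ∃ (q' : Ideal B) (_ : q'.IsPrime), q ≤ q' ∧ q'.under A = P ∧ fdep A M q' = 0 := by
  obtain ⟨m, H⟩ := exists_elem_of_fdep_eq_zero M p q hqp h0
  -- the maps
  set ψ : B →ₗ[A] M := (LinearMap.toSpanSingleton B M m).restrictScalars A with hψ
  set ρ : B →ₗ[A] B ⧸ q := (Ideal.Quotient.mkₐ A q).toLinearMap with hρdef
  set Sp : Submodule B M := Submodule.span B {m} with hSp
  set π : M →ₗ[A] M ⧸ Sp := Sp.mkQ.restrictScalars A with hπdef
  have hψa : ∀ b : B, ψ b = b • m := fun b => rfl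
  have hρa : ∀ b : B, ρ b = Ideal.Quotient.mk q b := fun b => rfl
  have hρ : Function.Surjective ρ := Ideal.Quotient.mk_surjective
  have hπ : Function.Surjective π := Submodule.mkQ_surjective Sp
  have hex : Function.Exact ψ π := by
    intro y
    change Sp.mkQ y = 0 ↔ _
    rw [Submodule.mkQ_apply, Submodule.Quotient.mk_eq_zero, hSp, Submodule.mem_span_singleton]
    rfl
  -- generic freeness
  obtain ⟨g₁, hg₁, hF₁⟩ := Groth.Agent.Lib.Helper14.NormFlat.exists_freeAway_quotient p B M
  obtain ⟨g₂, hg₂, hF₂⟩ := Groth.Agent.Lib.Helper14.NormFlat.exists_freeAway_quotient p B (B ⧸ q)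
  obtain ⟨g₃, hg₃, hF₃⟩ := Groth.Agent.Lib.Helper14.NormFlat.exists_freeAway_quotient p B (M ⧸ Sp)
  set g : A := g₁ * g₂ * g₃ with hgdef
  have hgp : g ∉ p := fun hmem => by
    rcases ‹p.IsPrime›.mem_or_mem hmem with h' | h'
    · rcases ‹p.IsPrime›.mem_or_mem h' with h'' | h''
      · exact hg₁ h''
      · exact hg₂ h''
    · exact hg₃ h'
  refine ⟨g, hgp, ?_⟩
  have hF₁' : FreeAway (A ⧸ p) (Ideal.Quotient.mk p g) (M ⧸ (p • ⊤ : Submodule A M)) := by
    rw [hgdef, map_mul, map_mul]; exact (hF₁.mul_right _).mul_right _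
  have hF₂' : FreeAway (A ⧸ p) (Ideal.Quotient.mk p g)
      ((B ⧸ q) ⧸ (p • ⊤ : Submodule A (B ⧸ q))) := by
    rw [hgdef, map_mul, map_mul]; exact (hF₂.mul_left _).mul_right _
  have hF₃' : FreeAway (A ⧸ p) (Ideal.Quotient.mk p g)
      ((M ⧸ Sp) ⧸ (p • ⊤ : Submodule A (M ⧸ Sp))) := by
    rw [hgdef, map_mul]; exact hF₃.mul_left _
  haveI hMf : Module.Free (RR p g) (RR p g ⊗[A] M) := free_RR_tensor p g M hF₁'
  haveI hBf : Module.Free (RR p g) (RR p g ⊗[A] (B ⧸ q)) := free_RR_tensor p g _ hF₂'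
  haveI hEf : Module.Free (RR p g) (RR p g ⊗[A] (M ⧸ Sp)) := free_RR_tensor p g _ hF₃'
  -- the generic fibre
  have Hκ : ∀ z : p.ResidueField ⊗[A] B,
      ψ.lTensor p.ResidueField z = 0 ↔ ρ.lTensor p.ResidueField z = 0 := by
    intro z
    constructor
    · intro hz
      obtain ⟨s, hs, b, hsb⟩ := exists_smul_eq_one_tmul p B z
      have hu := isUnit_algebraMap_residueField p hs
      have hsb' : s • z = 1 ⊗ₜ[A] b := by rw [← hsb, algebraMap_smul]
      have h1 : (1 : p.ResidueField) ⊗ₜ[A] (b • m) = 0 := by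
        have : ψ.lTensor p.ResidueField (s • z) = 1 ⊗ₜ[A] (b • m) := by
          rw [hsb']; rfl
        rw [← this, map_smul, hz, smul_zero]
      have hbq : b ∈ q := (H b).mpr h1
      have h2 : ρ.lTensor p.ResidueField (s • z) = 0 := by
        rw [hsb', LinearMap.lTensor_tmul, hρa, Ideal.Quotient.eq_zero_iff_mem.mpr hbq, tmul_zero]
      rw [map_smul, ← algebraMap_smul p.ResidueField s] at h2
      exact (hu.smul_eq_zero).mp h2
    · intro hz
      have hexκ : Function.Exact ((LinearMap.ker ρ).subtype.lTensor p.ResidueField)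
          (ρ.lTensor p.ResidueField) :=
        lTensor_exact p.ResidueField (LinearMap.exact_subtype_ker_map ρ) hρ
      obtain ⟨w, rfl⟩ := (hexκ z).mp hz
      clear hz
      induction w using TensorProduct.induction_on with
      | zero => simp
      | add x y hx hy => rw [map_add, map_add, hx, hy, add_zero]
      | tmul l b =>
        obtain ⟨b, hb⟩ := b
        have hbq : b ∈ q := Ideal.Quotient.eq_zero_iff_mem.mp (by rw [← hρa]; exact hb)
        have h1 := (H b).mp hbq
        simp only [LinearMap.lTensor_tmul, Submodule.subtype_apply, hψa]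
        have : l ⊗ₜ[A] (b • m) = l • ((1 : p.ResidueField) ⊗ₜ[A] (b • m)) := by
          rw [TensorProduct.smul_tmul', smul_eq_mul, mul_one]
        rw [this, h1, smul_zero]
  -- over `R`
  have hR : ∀ z : RR p g ⊗[A] B, ψ.baseChange (RR p g) z = 0 ↔ ρ.baseChange (RR p g) z = 0 := by
    letI : Algebra (RR p g) p.ResidueField := (toRes p g p le_rfl hgp).toAlgebra
    haveI : IsScalarTower A (RR p g) p.ResidueField :=
      IsScalarTower.of_algebraMap_eq fun a => (toRes_algebraMap p g p le_rfl hgp a).symm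
    exact ker_baseChange_iff_of_lTensor (RR p g) p.ResidueField ρ ψ (toRes_injective p g hgp)
      inferInstance inferInstance Hκ
  -- `R ⊗ (B/q)` is nontrivial
  haveI hBnt : Nontrivial (RR p g ⊗[A] (B ⧸ q)) := by
    by_contra hnt
    rw [not_nontrivial_iff_subsingleton] at hnt
    have h1 : ρ.baseChange (RR p g) ((1 : RR p g) ⊗ₜ[A] (1 : B)) = 0 := Subsingleton.elim _ _
    have h2 := (hR _).mpr h1
    letI : Algebra (RR p g) p.ResidueField := (toRes p g p le_rfl hgp).toAlgebra
    haveI : IsScalarTower A (RR p g) p.ResidueField :=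
      IsScalarTower.of_algebraMap_eq fun a => (toRes_algebraMap p g p le_rfl hgp a).symm
    have h3 := cancelBaseChange_nat₂ (RR p g) p.ResidueField ψ
      ((1 : p.ResidueField) ⊗ₜ[RR p g] ((1 : RR p g) ⊗ₜ[A] (1 : B)))
    rw [LinearMap.lTensor_tmul, h2, tmul_zero, map_zero] at h3
    simp only [AlgebraTensorModule.cancelBaseChange_tmul, one_smul, LinearMap.lTensor_tmul,
      hψa] at h3
    exact hq.ne_top ((Ideal.eq_top_iff_one q).mpr ((H 1).mpr (by rw [one_smul]; exact h3.symm)))
  intro P hP hle hgP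
  letI : Algebra (RR p g) P.ResidueField := (toRes p g P hle hgP).toAlgebra
  haveI : IsScalarTower A (RR p g) P.ResidueField :=
    IsScalarTower.of_algebraMap_eq fun a => (toRes_algebraMap p g P hle hgP a).symm
  have HL := ker_lTensor_iff_of_baseChange (RR p g) P.ResidueField ρ ψ π hρ hπ hex
    inferInstance hR
  -- (ii)
  have hii : ∀ b ∈ q, (1 : P.ResidueField) ⊗ₜ[A] (b • m) = 0 := by
    intro b hb
    have h1 : ρ.lTensor P.ResidueField ((1 : P.ResidueField) ⊗ₜ[A] b) = 0 := by
      rw [LinearMap.lTensor_tmul, hρa, Ideal.Quotient.eq_zero_iff_mem.mpr hb, tmul_zero]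
    exact (HL _).mpr h1
  -- (i)
  have hi : (1 : P.ResidueField) ⊗ₜ[A] m ≠ 0 := by
    intro h
    have h1 : ψ.lTensor P.ResidueField ((1 : P.ResidueField) ⊗ₜ[A] (1 : B)) = 0 := by
      rw [LinearMap.lTensor_tmul, hψa, one_smul]; exact h
    have h2 := (HL _).mp h1
    haveI : Nontrivial (P.ResidueField ⊗[RR p g] (RR p g ⊗[A] (B ⧸ q))) := inferInstance
    haveI : Nontrivial (P.ResidueField ⊗[A] (B ⧸ q)) :=
      (AlgebraTensorModule.cancelBaseChange A (RR p g) P.ResidueField P.ResidueField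
        (B ⧸ q)).symm.toEquiv.nontrivial
    rw [LinearMap.lTensor_tmul, hρa, map_one, ← Algebra.TensorProduct.one_def] at h2
    exact one_ne_zero h2
  -- conclusion on the fibre over `P`
  haveI : Algebra.FiniteType P.ResidueField (P.Fiber B) := inferInstance
  haveI hN : IsNoetherianRing (P.Fiber B) :=
    Algebra.FiniteType.isNoetherianRing P.ResidueField (P.Fiber B)
  set e := Algebra.IsPushout.cancelBaseChange A P.ResidueField B (P.Fiber B) M with he
  set n : P.Fiber B ⊗[B] M := e.symm ((1 : P.ResidueField) ⊗ₜ[A] m) with hn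
  have hn0 : n ≠ 0 := fun h => hi (by
    have := congrArg e h
    rwa [hn, LinearEquiv.apply_symm_apply, map_zero] at this)
  have hkill : ∀ b ∈ q, algebraMap B (P.Fiber B) b • n = 0 := by
    intro b hb
    rw [hn, ← cancel_symm_nat (A := A) M P b]
    have : (mulA (A := A) M b).lTensor P.ResidueField ((1 : P.ResidueField) ⊗ₜ[A] m) =
        (1 : P.ResidueField) ⊗ₜ[A] (b • m) := rfl
    rw [this, hii b hb, map_zero]
  obtain ⟨Q', hQ'ass, hQ'le⟩ := exists_le_isAssociatedPrime_of_isNoetherianRing (P.Fiber B) n hn0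
  haveI hQ'p : Q'.IsPrime := hQ'ass.1
  refine ⟨(fibMap P ⟨Q', hQ'p⟩).asIdeal, inferInstance, ?_, fibMap_under P ⟨Q', hQ'p⟩, ?_⟩
  · intro b hb
    change algebraMap B (P.Fiber B) b ∈ Q'
    apply hQ'le
    rw [Submodule.mem_colon_singleton, Submodule.mem_bot]
    exact hkill b hb
  · rw [(fibMap_numerics M P ⟨Q', hQ'p⟩).1, dep_eq_zero_iff]
    exact hQ'ass

end Main

end Groth.Agent.Lib.H9GenAss7
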