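import Mathlib
import Groth.Agent.Lib.H9GenAss7
import Groth.Agent.Lib.H9GenAss4

/-! exists_open_relAss_not_subset (S1369: a relative associated point of the generic fibre outside U spreads to the fibres over a nonempty open; f l.f.t., F q.c. of finite type, Y irreducible) (helper9). -/

set_option autoImplicit false
universe u

namespace Groth.Agent.Lib.H9GenAss8

open AlgebraicGeometry CategoryTheory Limits TopologicalSpace
open Groth.Agent.Lib.H9GenPt2 Groth.Agent.Lib.H9GenAss7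
open Groth.Agent.Lib.H9FibNumericsSch Groth.Agent.Lib.Helper4.DimFormula
open Groth.Agent.Lib.H9ModFibAlg Groth.Agent.Lib.H9RelAss2 Groth.Agent.Lib.Helper2.FlatOver
open Groth.Agent.Lib.H9FibNumerics

set_option synthInstance.maxHeartbeats 400000 in
set_option maxHeartbeats 1600000 in
/-- **Relative associated points outside `U` near the generic point**: if the generic fibre has
a relative associated point outside `U`, so do all the fibres over a nonempty open. -/
theorem exists_open_relAss_not_subset {X Y : Scheme.{u}} (f : X ⟶ Y) [IrreducibleSpace ↑Y]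
    [LocallyOfFiniteType f] (F : X.Modules) [F.IsQuasicoherent]
    [SheafOfModules.IsFiniteType (R := X.ringCatSheaf) F] (U : X.Opens)
    (h : ∃ x ∈ MoreMor.relAss f F, f x = genericPoint ↑Y ∧ x ∉ U) :
    ∃ V : Y.Opens, (V : Set ↑Y).Nonempty ∧
      ∀ y ∈ V, ∃ x ∈ MoreMor.relAss f F, f x = y ∧ x ∉ U := by
  obtain ⟨x, hxrel, hfx, hxU⟩ := h
  obtain ⟨U', V, hU', hV, hxU', hUV⟩ := exists_affine_nhds f x
  have hft : (f.appLE V U' hUV).hom.FiniteType := f.finiteType_appLE hV hU' hUV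
  letI aVU : Algebra Γ(Y, V) Γ(X, U') := (f.appLE V U' hUV).hom.toAlgebra
  haveI : Algebra.FiniteType Γ(Y, V) Γ(X, U') := hft
  haveI : Module.Finite Γ(X, U') Γ(F, U') :=
    Groth.Agent.Lib.Helper23.FinType.finite_of_isFiniteType F hU'
  letI : Module Γ(Y, V) Γ(F, U') := Module.compHom _ (algebraMap Γ(Y, V) Γ(X, U'))
  haveI : IsScalarTower Γ(Y, V) Γ(X, U') Γ(F, U') :=
    IsScalarTower.of_algebraMap_smul fun _ _ => rfl
  have hcomap : ∀ (x' : X) (hx' : x' ∈ U'),
      (hU'.primeIdealOf ⟨x', hx'⟩).asIdeal.under Γ(Y, V) =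
        (hV.primeIdealOf ⟨f x', hUV hx'⟩).asIdeal :=
    fun x' hx' => primeIdealOf_comap_appLE f hU' hV hUV x' hx'
  set p : Ideal Γ(Y, V) := (hV.primeIdealOf ⟨f x, hUV hxU'⟩).asIdeal with hp
  set q : Ideal Γ(X, U') := (hU'.primeIdealOf ⟨x, hxU'⟩).asIdeal with hq
  have h0 : fdep Γ(Y, V) Γ(F, U') q = 0 :=
    (mem_relAss_iff_fdep_eq_zero f F hU' hV hUV hft x hxU').mp hxrel
  obtain ⟨g, hgp, hg⟩ := exists_fdep_eq_zero_spread (A := Γ(Y, V)) (B := Γ(X, U')) Γ(F, U')
    p q (hcomap x hxU') h0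
  have hfxg : f x ∈ Y.basicOpen g :=
    (Groth.Agent.Lib.H9Slice.notMem_primeIdealOf_iff hV _ (hUV hxU') g).mp hgp
  refine ⟨Y.basicOpen g, ⟨f x, hfxg⟩, ?_⟩
  intro y hy
  have hyV : y ∈ V := Y.basicOpen_le g hy
  set P : Ideal Γ(Y, V) := (hV.primeIdealOf ⟨y, hyV⟩).asIdeal with hP
  have hle : p ≤ P := by
    rw [hp, hP]
    refine (specializes_iff_primeIdealOf_le hV (f x) y (hUV hxU') hyV).mp ?_
    rw [hfx]
    exact genericPoint_specializes _
  have hgP : g ∉ P := (Groth.Agent.Lib.H9Slice.notMem_primeIdealOf_iff hV y hyV g).mpr hy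
  obtain ⟨q', hq'p, hqq', hq'P, hq'0⟩ := hg P hle hgP
  obtain ⟨⟨x', hx'U'⟩, hx'⟩ := exists_primeIdealOf_eq hU' ⟨q', hq'p⟩
  have hq'eq : q' = (hU'.primeIdealOf ⟨x', hx'U'⟩).asIdeal := by rw [hx']
  subst hq'eq
  refine ⟨x', (mem_relAss_iff_fdep_eq_zero f F hU' hV hUV hft x' hx'U').mpr hq'0, ?_, ?_⟩
  · have h4 := hcomap x' hx'U'
    rw [hq'P, hP] at h4
    have h5 : hV.primeIdealOf ⟨y, hyV⟩ = hV.primeIdealOf ⟨f x', hUV hx'U'⟩ :=
      PrimeSpectrum.ext h4
    have h6 := hV.isoSpec.hom.isOpenEmbedding.injective h5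
    exact (congrArg Subtype.val h6).symm
  · intro hx'U
    have hspec : x ⤳ x' := (specializes_iff_primeIdealOf_le hU' x x' hxU' hx'U').mpr hqq'
    exact hxU (hspec.mem_open U.isOpen hx'U)

end Groth.Agent.Lib.H9GenAss8
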