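import Mathlib
import Groth.Prelude.Def_AlgGrp
import Groth.Prelude.Def_Red
import Groth.Agent.Lib.Helper8SchDense
import Groth.Agent.Lib.Helper27GaGm

/-! Identities of morphisms `W ⟶ G` (W flat, G separated over S) can be tested after a scheme-theoretically dominant quasi-compact base change (`ext_of_bc`); commutativity of a flat separated group descends from such a base change (`isCommMonObj_of_bc`); special fibre commutative if generic fibre is (S18063) (helper9). -/

set_option autoImplicit false
universe u

open CategoryTheory CategoryTheory.Limits AlgebraicGeometry MonoidalCategory CartesianMonoidalCategory MonObj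

namespace Groth.Agent.Lib.H9GenComm1

open Groth.Agent.Lib.Helper27.GaGm Groth.Agent.Helper8SchDense

variable {S S' : Scheme.{u}} (g : S' ⟶ S)

/-- an identity between two morphisms `W ⟶ G` (over `S`) out of a flat `W`, `G` separated, can be tested after a
scheme-theoretically dominant quasi-compact base change. -/
theorem ext_of_bc [IsSchemeTheoreticallyDominant g] [QuasiCompact g] {W G : Over S} [Flat W.hom]
    [IsSeparated G.hom] (p q : W ⟶ G)
    (h : ∀ j : (Over.map g).obj (Red.bc g W) ⟶ W, j ≫ p = j ≫ q) : p = q := by
  let j : (Over.map g).obj (Red.bc g W) ⟶ W := Over.homMk (pullback.fst W.hom g) pullback.condition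
  apply ext_of_schDominant p q (pullback.fst W.hom g)
  have := congrArg CommaMorphism.left (h j)
  exact this

/-- commutativity can be tested on a scheme-theoretically dominant base change. -/
theorem isCommMonObj_of_bc [IsSchemeTheoreticallyDominant g] [QuasiCompact g] (G : Over S) [GrpObj G]
    [Flat G.hom] [IsSeparated G.hom] [IsCommMonObj (Red.bc g G)] : IsCommMonObj G := by
  haveI : Flat (G ⊗ G).hom := by
    rw [Over.tensorObj_hom]
    infer_instance
  have key : ∀ (X : Over S') (a c : (Over.map g).obj X ⟶ G), a * c = c * a := by
    intro X a c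
    obtain ⟨a', rfl⟩ := (adjEquiv g G X).surjective a
    obtain ⟨c', rfl⟩ := (adjEquiv g G X).surjective c
    rw [← adjEquiv_mul, ← adjEquiv_mul, _root_.mul_comm]
  have h1 : (β_ G G).hom ≫ μ[G] = snd G G * fst G G := by
    rw [Hom.mul_def]
    congr 1
  have h2 : μ[G] = fst G G * snd G G := by
    rw [Hom.mul_def, lift_fst_snd, Category.id_comp]
  refine ⟨?_⟩
  apply ext_of_bc g
  intro j
  rw [h1]
  conv_rhs => rw [h2]
  rw [MonObj.comp_mul, MonObj.comp_mul]
  exact key _ _ _

/-- the generic point of a domain is scheme-theoretically dominant. -/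
theorem schDominant_fractionRing (A : Type u) [CommRing A] [IsDomain A] (K : Type u) [Field K] [Algebra A K]
    [IsFractionRing A K] :
    IsSchemeTheoreticallyDominant (Spec.map (CommRingCat.ofHom (algebraMap A K))) :=
  schDominant_Spec_map _ (IsFractionRing.injective A K)

theorem main18063 (A : Type u) [CommRing A] [IsDomain A]
    (K : Type u) [Field K] [Algebra A K] [IsFractionRing A K] {S'' : Scheme.{u}}
    (r : S'' ⟶ Spec (CommRingCat.of A))
    (G : Over (Spec (CommRingCat.of A))) [GrpObj G] [Flat G.hom] [IsSeparated G.hom]
    [IsCommMonObj (Red.bc (Spec.map (CommRingCat.ofHom (algebraMap A K))) G)] :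
    IsCommMonObj (Red.bc r G) := by
  haveI := schDominant_fractionRing A K
  haveI : IsCommMonObj G := isCommMonObj_of_bc (Spec.map (CommRingCat.ofHom (algebraMap A K))) G
  exact Functor.isCommMonObj_obj (F := Over.pullback r)

end Groth.Agent.Lib.H9GenComm1
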