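import Mathlib
import Groth.Agent.Lib.H9GenAss7

/-! Fibrewise maximal primes: FibGen A q, fibNil p (∩ of primes over p), mem_fibNil_of_tmul_eq_zero, exists_mem_notMem_fibGen (prime avoidance over the minimal primes of the fibre ring), lTensor_mulA_injective, fdep_eq_zero_of_fibGen, exists_not_le_spread: if no fibrewise maximal prime over p contains J, then ∃ g ∉ p such that no fibrewise maximal prime q with p ≤ q ∩ A, g ∉ q contains J (A arbitrary, B f.t.) (helper9). -/

set_option autoImplicit false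
universe u

namespace Groth.Agent.Lib.H9GenNd1

open TensorProduct Groth.Agent.Lib.Helper2.GenFree Groth.Agent.Lib.H9GenAss1
  Groth.Agent.Lib.H9GenAss2 Groth.Agent.Lib.H9GenAss3 Groth.Agent.Lib.H9GenAss7
open Groth.Agent.Lib.H9ModFibAlg Groth.Agent.Lib.H9FibNumerics Groth.Agent.Lib.H9GenPt1

attribute [local instance] Algebra.TensorProduct.rightAlgebra

section Defs

variable (A : Type*) {B : Type*} [CommRing A] [CommRing B] [Algebra A B]

/-- `q` is a maximal point (for generization) of its fibre over `A`. -/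
def FibGen (q : Ideal B) : Prop :=
  ∀ q' : Ideal B, q'.IsPrime → q' ≤ q → q'.under A = q.under A → q' = q

variable {A}

/-- the ideal of elements of `B` lying in all the primes over `p`. -/
def fibNil (p : Ideal A) : Ideal B :=
  sInf {q : Ideal B | q.IsPrime ∧ q.under A = p}

theorem mem_fibNil_iff (p : Ideal A) (b : B) :
    b ∈ fibNil (B := B) p ↔ ∀ q : Ideal B, q.IsPrime → q.under A = p → b ∈ q := by
  rw [fibNil, Ideal.mem_sInf]
  exact ⟨fun h q hq hqp => h ⟨hq, hqp⟩, fun h q hq => h q hq.1 hq.2⟩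

theorem fibNil_le (p : Ideal A) (q : Ideal B) [hq : q.IsPrime] (hqp : q.under A = p) :
    fibNil (B := B) p ≤ q := fun b hb => (mem_fibNil_iff p b).mp hb q hq hqp

/-- key fact: an element of `B` vanishing in `κ(p) ⊗ (B ⧸ N)` lies in `N`. -/
theorem mem_fibNil_of_tmul_eq_zero (p : Ideal A) [p.IsPrime] (x : B)
    (hx : (1 : p.ResidueField) ⊗ₜ[A] (Ideal.Quotient.mk (fibNil (B := B) p) x) = 0) :
    x ∈ fibNil (B := B) p := by
  rw [mem_fibNil_iff]
  intro q hq hqp
  letI : Algebra p.ResidueField q.ResidueField :=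
    (Ideal.ResidueField.map p q (algebraMap A B) hqp.symm).toAlgebra
  haveI : IsScalarTower A p.ResidueField q.ResidueField :=
    IsScalarTower.of_algebraMap_eq fun a => by
      rw [IsScalarTower.algebraMap_apply A B q.ResidueField]
      exact (Ideal.ResidueField.map_algebraMap p q (algebraMap A B) hqp.symm a).symm
  let ℓ : B ⧸ fibNil (B := B) p →ₐ[A] q.ResidueField :=
    Ideal.Quotient.liftₐ (fibNil (B := B) p) (IsScalarTower.toAlgHom A B q.ResidueField)
      (fun b hb => by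
        change algebraMap B q.ResidueField b = 0
        rw [Ideal.algebraMap_residueField_eq_zero]
        exact fibNil_le p q hqp hb)
  have h1 := congrArg (LinearMap.liftBaseChange p.ResidueField ℓ.toLinearMap) hx
  rw [LinearMap.liftBaseChange_tmul, map_zero, one_smul] at h1
  have h2 : algebraMap B q.ResidueField x = 0 := h1
  exact (Ideal.algebraMap_residueField_eq_zero).mp h2

end Defs

section Main

variable {A B : Type u} [CommRing A] [CommRing B] [Algebra A B] [Algebra.FiniteType A B]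

/-- the contraction of a minimal prime of the fibre ring is a fibrewise maximal point. -/
theorem fibGen_fibMap_of_mem_minimalPrimes (p : Ideal A) [p.IsPrime]
    (Q : PrimeSpectrum (p.Fiber B)) (hQ : Q.asIdeal ∈ minimalPrimes (p.Fiber B)) :
    FibGen A (fibMap p Q).asIdeal := by
  intro q' hq' hle hu
  rw [fibMap_under] at hu
  obtain ⟨Q', hQ'⟩ := exists_fibMap_eq (A := A) p q' hu
  have h1 : Q' ≤ Q := by rw [← fibMap_le_iff, hQ']; exact hle
  have h2 : Q ≤ Q' := hQ.2 ⟨Q'.isPrime, bot_le⟩ h1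
  rw [← hQ', le_antisymm h1 h2]

/-- every prime over `p` contains the contraction of a minimal prime of the fibre ring. -/
theorem exists_minimalPrimes_fibMap_le (p : Ideal A) [p.IsPrime] (q : Ideal B) [q.IsPrime]
    (hqp : q.under A = p) :
    ∃ Q : PrimeSpectrum (p.Fiber B), Q.asIdeal ∈ minimalPrimes (p.Fiber B) ∧
      (fibMap p Q).asIdeal ≤ q := by
  obtain ⟨Q₁, hQ₁⟩ := exists_fibMap_eq (A := A) p q hqp
  obtain ⟨Q₀, hQ₀, hle⟩ := Ideal.exists_minimalPrimes_le (bot_le : (⊥ : Ideal (p.Fiber B)) ≤ Q₁.asIdeal)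
  haveI : Q₀.IsPrime := hQ₀.1.1
  refine ⟨⟨Q₀, inferInstance⟩, hQ₀, ?_⟩
  rw [← hQ₁]
  exact (fibMap_le_iff p ⟨Q₀, inferInstance⟩ Q₁).mpr hle

/-- Step 1: an element of `J` outside all the fibrewise maximal primes over `p`. -/
theorem exists_mem_notMem_fibGen (p : Ideal A) [p.IsPrime] (J : Ideal B)
    (H : ∀ (q : Ideal B) [q.IsPrime], q.under A = p → FibGen A q → ¬ J ≤ q) :
    ∃ h ∈ J, ∀ Q : PrimeSpectrum (p.Fiber B), Q.asIdeal ∈ minimalPrimes (p.Fiber B) →
      h ∉ (fibMap p Q).asIdeal := by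
  haveI : Algebra.FiniteType p.ResidueField (p.Fiber B) := inferInstance
  haveI hN : IsNoetherianRing (p.Fiber B) :=
    Algebra.FiniteType.isNoetherianRing p.ResidueField (p.Fiber B)
  by_contra hcon
  push Not at hcon
  have hfin : (minimalPrimes (p.Fiber B)).Finite := minimalPrimes.finite_of_isNoetherianRing _
  have hsub : (J : Set B) ⊆ ⋃ I ∈ minimalPrimes (p.Fiber B),
      ((I.comap (algebraMap B (p.Fiber B)) : Ideal B) : Set B) := by
    intro h hh
    obtain ⟨Q, hQ, hhQ⟩ := hcon h hh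
    exact Set.mem_iUnion₂.mpr ⟨Q.asIdeal, hQ, hhQ⟩
  obtain ⟨I, hI, hJI⟩ := (Ideal.subset_union_prime_finite hfin
    (f := fun I : Ideal (p.Fiber B) => I.comap (algebraMap B (p.Fiber B))) ⊥ ⊥
    (fun I hI _ _ => by
      haveI : I.IsPrime := hI.1.1
      exact Ideal.comap_isPrime _ _)).mp hsub
  haveI hIp : I.IsPrime := hI.1.1
  exact H (fibMap p ⟨I, hIp⟩).asIdeal (fibMap_under p ⟨I, hIp⟩)
    (fibGen_fibMap_of_mem_minimalPrimes p ⟨I, hIp⟩ hI) hJI

/-- Step 2: multiplication by such an `h` is injective on `κ(p) ⊗ (B ⧸ fibNil p)`. -/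
theorem lTensor_mulA_injective (p : Ideal A) [p.IsPrime] (h : B)
    (hh : ∀ Q : PrimeSpectrum (p.Fiber B), Q.asIdeal ∈ minimalPrimes (p.Fiber B) →
      h ∉ (fibMap p Q).asIdeal) :
    Function.Injective
      ((mulA (A := A) (B ⧸ fibNil (B := B) p) h).lTensor p.ResidueField) := by
  rw [injective_iff_map_eq_zero]
  intro z hz
  obtain ⟨s, hs, x, hx⟩ := exists_smul_eq_one_tmul p (B ⧸ fibNil (B := B) p) z
  obtain ⟨b, rfl⟩ := Ideal.Quotient.mk_surjective x
  rw [algebraMap_smul] at hx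
  have h1 := congrArg ((mulA (A := A) (B ⧸ fibNil (B := B) p) h).lTensor p.ResidueField) hx
  rw [map_smul, hz, smul_zero, LinearMap.lTensor_tmul] at h1
  have h2 : (1 : p.ResidueField) ⊗ₜ[A] (Ideal.Quotient.mk (fibNil (B := B) p) (h * b)) = 0 := by
    rw [h1]
    rfl
  have h3 := mem_fibNil_of_tmul_eq_zero p (h * b) h2
  have h4 : b ∈ fibNil (B := B) p := by
    rw [mem_fibNil_iff]
    intro q hq hqp
    haveI := hq
    obtain ⟨Q₀, hQ₀, hle⟩ := exists_minimalPrimes_fibMap_le p q hqp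
    have h5 : h * b ∈ (fibMap p Q₀).asIdeal :=
      fibNil_le p (fibMap p Q₀).asIdeal (fibMap_under p Q₀) h3
    rcases (fibMap p Q₀).isPrime.mem_or_mem h5 with h6 | h6
    · exact absurd h6 (hh Q₀ hQ₀)
    · exact hle h6
  have h7 : Ideal.Quotient.mk (fibNil (B := B) p) b = 0 := Ideal.Quotient.eq_zero_iff_mem.mpr h4
  rw [h7, tmul_zero] at hx
  have h8 : algebraMap A p.ResidueField s • z = 0 := by rw [algebraMap_smul]; exact hx
  exact ((isUnit_algebraMap_residueField p hs).smul_eq_zero).mp h8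

/-- Step 5: a fibrewise maximal prime containing `N` has fibre depth zero for `B ⧸ N`. -/
theorem fdep_eq_zero_of_fibGen (N : Ideal B) (q : Ideal B) [q.IsPrime] (hN : N ≤ q)
    (hq : FibGen A q) : fdep A (B ⧸ N) q = 0 := by
  set P : Ideal A := q.under A with hP
  haveI : P.IsPrime := Ideal.IsPrime.under A q
  obtain ⟨Q, hQ⟩ := exists_fibMap_eq (A := A) P q rfl
  haveI : Algebra.FiniteType P.ResidueField (P.Fiber B) := inferInstance
  haveI hNoe : IsNoetherianRing (P.Fiber B) :=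
    Algebra.FiniteType.isNoetherianRing P.ResidueField (P.Fiber B)
  rw [← (fdep_congr (A := A) (B ⧸ N) hQ).1, (fibMap_numerics (B ⧸ N) P Q).1, dep_eq_zero_iff]
  apply Module.associatedPrimes.minimalPrimes_annihilator_subset_associatedPrimes
  refine ⟨⟨Q.isPrime, ?_⟩, ?_⟩
  · -- the annihilator is contained in `Q`
    intro r hr
    have hr1 : r • ((1 : P.Fiber B) ⊗ₜ[B] (1 : B ⧸ N)) = 0 := Module.mem_annihilator.mp hr _
    let ℓ₀ : B ⧸ N →ₐ[B] (P.Fiber B ⧸ Q.asIdeal) :=
      Ideal.Quotient.liftₐ N (Algebra.ofId B (P.Fiber B ⧸ Q.asIdeal))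
        (fun b hb => by
          change algebraMap B (P.Fiber B ⧸ Q.asIdeal) b = 0
          rw [IsScalarTower.algebraMap_apply B (P.Fiber B) (P.Fiber B ⧸ Q.asIdeal),
            Ideal.Quotient.algebraMap_eq, Ideal.Quotient.eq_zero_iff_mem]
          have : b ∈ (fibMap P Q).asIdeal := by rw [hQ]; exact hN hb
          exact this)
    have h1 := congrArg (LinearMap.liftBaseChange (P.Fiber B) ℓ₀.toLinearMap) hr1
    rw [map_smul, LinearMap.liftBaseChange_tmul, map_zero, one_smul] at h1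
    have h2 : r • (1 : P.Fiber B ⧸ Q.asIdeal) = 0 := by
      rw [← h1]
      congr 1
    have h3 : Ideal.Quotient.mk Q.asIdeal r = 0 := by
      have h4 : r • (1 : P.Fiber B ⧸ Q.asIdeal) = Ideal.Quotient.mk Q.asIdeal (r • 1) := rfl
      rw [smul_eq_mul, mul_one] at h4
      rw [← h4, h2]
    exact Ideal.Quotient.eq_zero_iff_mem.mp h3
  · rintro Q' ⟨hQ'p, -⟩ hle
    have h1 : (fibMap P ⟨Q', hQ'p⟩).asIdeal ≤ (fibMap P Q).asIdeal :=
      (fibMap_le_iff P ⟨Q', hQ'p⟩ Q).mpr hle
    rw [hQ] at h1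
    have h2 := hq (fibMap P ⟨Q', hQ'p⟩).asIdeal (fibMap P ⟨Q', hQ'p⟩).isPrime h1
      (fibMap_under P ⟨Q', hQ'p⟩)
    rw [← hQ] at h2
    have h3 : (⟨Q', hQ'p⟩ : PrimeSpectrum (P.Fiber B)) = Q :=
      fibMap_injective P (PrimeSpectrum.ext h2)
    rw [← h3]

set_option synthInstance.maxHeartbeats 400000 in
set_option maxHeartbeats 1600000 in
/-- **spreading "no fibrewise maximal point in `V(J)`" from the fibre over `p`**. -/
theorem exists_not_le_spread (p : Ideal A) [p.IsPrime] (J : Ideal B)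
    (H : ∀ (q : Ideal B) [q.IsPrime], q.under A = p → FibGen A q → ¬ J ≤ q) :
    ∃ g : A, g ∉ p ∧ ∀ (q : Ideal B) [q.IsPrime], p ≤ q.under A →
      algebraMap A B g ∉ q → FibGen A q → ¬ J ≤ q := by
  obtain ⟨h, hJ, hh⟩ := exists_mem_notMem_fibGen p J H
  have hinj := lTensor_mulA_injective p h hh
  have hreg := (isSMulRegular_fiber_iff (A := A) (B ⧸ fibNil (B := B) p) p h).mpr hinj
  have H' : ∀ (q : Ideal B) [q.IsPrime], q.under A = p → J ≤ q →
      fdep A (B ⧸ fibNil (B := B) p) q ≠ 0 := by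
    intro q hq hqp hJq
    obtain ⟨Q, hQ⟩ := exists_fibMap_eq (A := A) p q hqp
    have hhQ : algebraMap B (p.Fiber B) h ∈ Q.asIdeal := by
      have : h ∈ (fibMap p Q).asIdeal := by rw [hQ]; exact hJq hJ
      exact this
    have := fdep_ne_zero_of_regular (B ⧸ fibNil (B := B) p) p Q h hhQ hreg
    rwa [(fdep_congr (A := A) (B ⧸ fibNil (B := B) p) hQ).1] at this
  obtain ⟨g₁, hg₁, hs₁⟩ := exists_fdep_ne_zero_spread (B ⧸ fibNil (B := B) p) p J H'
  obtain ⟨g₂, hg₂, hs₂⟩ := exists_generic_nilp p B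
  refine ⟨g₁ * g₂, fun hmem => ?_, ?_⟩
  · rcases ‹p.IsPrime›.mem_or_mem hmem with h' | h'
    · exact hg₁ h'
    · exact hg₂ h'
  intro q hq hpq hgq hfg hJq
  have hg₁q : algebraMap A B g₁ ∉ q := fun h' => hgq (by rw [map_mul]; exact q.mul_mem_right _ h')
  have hg₂q : algebraMap A B g₂ ∉ q := fun h' => hgq (by rw [map_mul]; exact q.mul_mem_left _ h')
  have hNq : fibNil (B := B) p ≤ q := by
    intro b hb
    exact hs₂ b (fun q' hq' hq'p => (mem_fibNil_iff p b).mp hb q' hq' hq'p) q hq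
      (Ideal.map_le_iff_le_comap.mpr hpq) hg₂q
  exact hs₁ q hpq hJq hg₁q (fdep_eq_zero_of_fibGen (fibNil (B := B) p) q hNq hfg)

end Main

end Groth.Agent.Lib.H9GenNd1
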