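import Mathlib
import Groth.Agent.Lib.H9GenNd1
import Groth.Agent.Lib.H9GenAss4
import Groth.Agent.Lib.Helper3QFinDim

/-! isNowhereDense_iff_forall_exists_specializes (closed Z in a Noetherian sober T0 space is nowhere dense iff each point of Z has a proper generization), fibMaxIn, isNowhereDense_fiber_iff, fibGen_primeIdealOf_iff, exists_open_isNowhereDense_fibre (S1298: f finite type to irreducible Y, Z closed with nowhere dense trace on the generic fibre ⇒ same on the fibres over a nonempty open) (helper9). -/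

set_option autoImplicit false
universe u

namespace Groth.Agent.Lib.H9GenNd2

open AlgebraicGeometry CategoryTheory Limits TopologicalSpace
open Groth.Agent.Lib.H9GenPt2 Groth.Agent.Lib.H9GenAss4 Groth.Agent.Lib.H9GenNd1
open Groth.Agent.Lib.H9FibNumericsSch Groth.Agent.Lib.Helper4.DimFormula

section Top

variable {T : Type*} [TopologicalSpace T]

/-- in a quasi-sober space every point has a generization which is the generic point of an
irreducible component. -/
theorem exists_generic_irreducibleComponent [QuasiSober T] (x : T) :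
    ∃ ξ : T, ξ ⤳ x ∧ closure {ξ} = irreducibleComponent x := by
  obtain ⟨ξ, hξ⟩ := QuasiSober.sober (isIrreducible_irreducibleComponent (x := x))
    isClosed_irreducibleComponent
  refine ⟨ξ, ?_, hξ.def⟩
  rw [specializes_iff_mem_closure, hξ.def]
  exact mem_irreducibleComponent

/-- a closed subset of a Noetherian sober space is nowhere dense iff each of its points has a
proper generization. -/
theorem isNowhereDense_iff_forall_exists_specializes [NoetherianSpace T] [QuasiSober T]
    [T0Space T] (Z : Set T) (hZ : IsClosed Z) :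
    IsNowhereDense Z ↔ ∀ z ∈ Z, ∃ z', z' ⤳ z ∧ z' ≠ z := by
  rw [IsNowhereDense, hZ.closure_eq]
  constructor
  · intro hint z hz
    by_contra hcon
    push Not at hcon
    -- `closure {z}` is an irreducible component
    obtain ⟨ξ, hξz, hξ⟩ := exists_generic_irreducibleComponent z
    have hξeq : ξ = z := hcon ξ hξz
    subst hξeq
    have hfin : (irreducibleComponents T).Finite := NoetherianSpace.finite_irreducibleComponents
    set O : Set T := (⋃₀ (irreducibleComponents T \ {irreducibleComponent ξ}))ᶜ with hO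
    have hOopen : IsOpen O := by
      rw [hO, isOpen_compl_iff, Set.sUnion_eq_biUnion]
      exact (hfin.subset Set.diff_subset).isClosed_biUnion
        fun C hC => isClosed_of_mem_irreducibleComponents C hC.1
    have hξO : ξ ∈ O := by
      rintro ⟨C, ⟨hC, hCne⟩, hξC⟩
      apply hCne
      have hsub : irreducibleComponent ξ ⊆ C := by
        rw [← hξ]
        exact (isClosed_of_mem_irreducibleComponents C hC).closure_subset_iff.mpr
          (Set.singleton_subset_iff.mpr hξC)
      exact ((irreducibleComponent_mem_irreducibleComponents ξ).2 hC.1 hsub).antisymm hsub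
    have hOsub : O ⊆ Z := by
      intro t ht
      have ht' : t ∈ irreducibleComponent ξ := by
        by_contra htn
        apply ht
        have : t ∈ ⋃₀ irreducibleComponents T := by rw [sUnion_irreducibleComponents]; trivial
        obtain ⟨C, hC, htC⟩ := this
        refine ⟨C, ⟨hC, ?_⟩, htC⟩
        rintro rfl
        exact htn htC
      rw [← hξ] at ht'
      exact hZ.closure_subset_iff.mpr (Set.singleton_subset_iff.mpr hz) ht'
    have : ξ ∈ interior Z := mem_interior.mpr ⟨O, hOsub, hOopen, hξO⟩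
    rw [hint] at this
    exact this
  · intro H
    rw [Set.eq_empty_iff_forall_notMem]
    intro x hx
    obtain ⟨ξ, hξx, hξ⟩ := exists_generic_irreducibleComponent x
    have hξint : ξ ∈ interior Z := hξx.mem_open isOpen_interior hx
    obtain ⟨z', hz'ξ, hne⟩ := H ξ (interior_subset hξint)
    apply hne
    have h1 : closure {ξ} ⊆ closure {z'} := by
      rw [← specializes_iff_closure_subset]; exact hz'ξ
    have h2 : closure {z'} ⊆ closure {ξ} := by
      rw [hξ]
      exact (irreducibleComponent_mem_irreducibleComponents x).2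
        isIrreducible_singleton.closure (hξ ▸ h1)
    have h3 : ξ ⤳ z' := by
      rw [specializes_iff_closure_subset]; exact h2
    exact (hz'ξ.antisymm h3).eq

end Top

section Sch

variable {X Y : Scheme.{u}} (f : X ⟶ Y)

/-- the points of `Z` which are maximal (for generization) in their fibre. -/
def fibMaxIn (Z : Set X) : Set X :=
  {x | x ∈ Z ∧ ∀ x' : X, x' ⤳ x → f x' = f x → x' = x}

/-- a closed subset has nowhere dense trace on a fibre iff it contains no maximal point of
that fibre. -/
theorem isNowhereDense_fiber_iff [LocallyOfFiniteType f] [QuasiCompact f] (Z : Set X)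
    (hZ : IsClosed Z) (y : Y) :
    IsNowhereDense ((f.fiberι y) ⁻¹' Z) ↔ ∀ x, f x = y → x ∉ fibMaxIn f Z := by
  haveI := Groth.Agent.Lib.Helper3.QFinDim.noetherianSpace_fiber f y
  have hemb : Topology.IsEmbedding (f.fiberι y) := (f.fiberι y).isEmbedding
  have hrange : ∀ x : X, f x = y ↔ ∃ z, f.fiberι y z = x := by
    intro x
    have := f.range_fiberι y
    constructor
    · intro hx
      have : x ∈ Set.range (f.fiberι y) := by rw [f.range_fiberι]; exact hx
      exact this
    · rintro ⟨z, rfl⟩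
      have : f.fiberι y z ∈ f ⁻¹' {y} := by rw [← f.range_fiberι]; exact ⟨z, rfl⟩
      exact this
  rw [isNowhereDense_iff_forall_exists_specializes _ (hZ.preimage (f.fiberι y).continuous)]
  constructor
  · intro H x hx hxW
    obtain ⟨z, rfl⟩ := (hrange x).mp hx
    obtain ⟨z', hz'z, hne⟩ := H z hxW.1
    apply hne
    apply hemb.injective
    refine hxW.2 _ (hz'z.map (f.fiberι y).continuous) ?_
    rw [(hrange _).mpr ⟨z', rfl⟩, (hrange _).mpr ⟨z, rfl⟩]
  · intro H z hz
    have hnot := H (f.fiberι y z) ((hrange _).mpr ⟨z, rfl⟩)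
    have : ¬ ∀ x' : X, x' ⤳ f.fiberι y z → f x' = f (f.fiberι y z) → x' = f.fiberι y z :=
      fun hall => hnot ⟨hz, hall⟩
    push Not at this
    obtain ⟨x', hx'sp, hfx', hne⟩ := this
    rw [(hrange _).mpr ⟨z, rfl⟩] at hfx'
    obtain ⟨z', rfl⟩ := (hrange x').mp hfx'
    refine ⟨z', hemb.isInducing.specializes_iff.mp hx'sp, fun h => hne (by rw [h])⟩

section Chart

variable {U : X.Opens} (hU : IsAffineOpen U) {V : Y.Opens} (hV : IsAffineOpen V)
  (hUV : U ≤ f ⁻¹ᵁ V)

include hV in
/-- chart form of fibrewise maximality. -/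
theorem fibGen_primeIdealOf_iff (x : X) (hx : x ∈ U) :
    letI : Algebra Γ(Y, V) Γ(X, U) := (f.appLE V U hUV).hom.toAlgebra
    FibGen Γ(Y, V) (hU.primeIdealOf ⟨x, hx⟩).asIdeal ↔
      ∀ x' : X, x' ⤳ x → f x' = f x → x' = x := by
  letI aVU : Algebra Γ(Y, V) Γ(X, U) := (f.appLE V U hUV).hom.toAlgebra
  constructor
  · intro hfg x' hsp hfx
    have hx' : x' ∈ U := hsp.mem_open U.isOpen hx
    have h1 := (specializes_iff_primeIdealOf_le hU x' x hx' hx).mp hsp
    have h2 := (map_eq_iff_under_eq f hU hV hUV x' x hx' hx).mp hfx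
    have h3 := hfg _ (hU.primeIdealOf ⟨x', hx'⟩).isPrime h1 h2
    have h4 : hU.primeIdealOf ⟨x', hx'⟩ = hU.primeIdealOf ⟨x, hx⟩ := PrimeSpectrum.ext h3
    have h5 := hU.isoSpec.hom.isOpenEmbedding.injective h4
    exact congrArg Subtype.val h5
  · intro H q' hq' hle hu
    obtain ⟨⟨x', hx'U⟩, hx'⟩ := exists_primeIdealOf_eq hU ⟨q', hq'⟩
    have hq'eq : q' = (hU.primeIdealOf ⟨x', hx'U⟩).asIdeal := by rw [hx']
    subst hq'eq
    have hsp := (specializes_iff_primeIdealOf_le hU x' x hx'U hx).mpr hle
    have hfx := (map_eq_iff_under_eq f hU hV hUV x' x hx'U hx).mpr hu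
    have := H x' hsp hfx
    subst this
    rfl

end Chart

set_option synthInstance.maxHeartbeats 400000 in
set_option maxHeartbeats 1600000 in
/-- **generic nowhere density in fibres**: a closed subset whose trace on the generic fibre is
nowhere dense has nowhere dense trace on all the fibres over a nonempty open. -/
theorem exists_open_isNowhereDense_fibre [IrreducibleSpace ↑Y] [LocallyOfFiniteType f]
    [QuasiCompact f] (Z : Set X) (hZ : IsClosed Z)
    (h : IsNowhereDense ((f.fiberι (genericPoint ↑Y)) ⁻¹' Z)) :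
    ∃ V : Y.Opens, (V : Set ↑Y).Nonempty ∧ ∀ y ∈ V, IsNowhereDense ((f.fiberι y) ⁻¹' Z) := by
  rw [isNowhereDense_fiber_iff f Z hZ] at h
  have key := exists_open_forall_of_charts f (fibMaxIn f Z) ?_
  · obtain ⟨V, hV, hk⟩ := key
    refine ⟨V, hV, fun y hy => (isNowhereDense_fiber_iff f Z hZ y).mpr fun x hx => ?_⟩
    exact hk x (by rw [hx]; exact hy)
  intro U V hU hV hUV hηV
  have hft : (f.appLE V U hUV).hom.FiniteType := f.finiteType_appLE hV hU hUV
  letI aVU : Algebra Γ(Y, V) Γ(X, U) := (f.appLE V U hUV).hom.toAlgebra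
  haveI : Algebra.FiniteType Γ(Y, V) Γ(X, U) := hft
  set p : Ideal Γ(Y, V) := (hV.primeIdealOf ⟨genericPoint ↑Y, hηV⟩).asIdeal with hp
  have hcomap : ∀ (x' : X) (hx' : x' ∈ U),
      (hU.primeIdealOf ⟨x', hx'⟩).asIdeal.under Γ(Y, V) =
        (hV.primeIdealOf ⟨f x', hUV hx'⟩).asIdeal :=
    fun x' hx' => primeIdealOf_comap_appLE f hU hV hUV x' hx'
  set Zc : X.Opens := ⟨Zᶜ, hZ.isOpen_compl⟩ with hZc
  obtain ⟨g, hgp, hg⟩ := exists_not_le_spread (A := Γ(Y, V)) (B := Γ(X, U)) p
    (complIdeal Zc U) (by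
      intro q hq hqp hfg hJq
      obtain ⟨⟨x', hx'U⟩, hx'⟩ := exists_primeIdealOf_eq hU ⟨q, hq⟩
      have hq' : q = (hU.primeIdealOf ⟨x', hx'U⟩).asIdeal := by rw [hx']
      subst hq'
      have hx'Z : x' ∉ Zc := (complIdeal_le_iff hU Zc x' hx'U).mp hJq
      have hx'Z' : x' ∈ Z := by
        by_contra hn
        exact hx'Z hn
      refine h x' ?_ ⟨hx'Z', (fibGen_primeIdealOf_iff f hU hV hUV x' hx'U).mp hfg⟩
      have h4 := hcomap x' hx'U
      rw [hqp, hp] at h4
      have h5 : hV.primeIdealOf ⟨genericPoint ↑Y, hηV⟩ = hV.primeIdealOf ⟨f x', hUV hx'U⟩ :=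
        PrimeSpectrum.ext h4
      have h6 := hV.isoSpec.hom.isOpenEmbedding.injective h5
      exact (congrArg Subtype.val h6).symm)
  refine ⟨g, (Groth.Agent.Lib.H9Slice.notMem_primeIdealOf_iff hV _ hηV g).mp hgp, ?_⟩
  rintro x hxU hfx ⟨hxZ, hxmax⟩
  refine hg (hU.primeIdealOf ⟨x, hxU⟩).asIdeal ?_ ?_
    ((fibGen_primeIdealOf_iff f hU hV hUV x hxU).mpr hxmax) ?_
  · rw [hcomap x hxU, hp]
    exact (specializes_iff_primeIdealOf_le hV (genericPoint ↑Y) (f x) hηV (hUV hxU)).mp
      (genericPoint_specializes _)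
  · intro hmem
    have h1 : g ∈ (hU.primeIdealOf ⟨x, hxU⟩).asIdeal.under Γ(Y, V) := hmem
    rw [hcomap x hxU] at h1
    exact ((Groth.Agent.Lib.H9Slice.notMem_primeIdealOf_iff hV (f x) (hUV hxU) g).mpr hfx) h1
  · exact (complIdeal_le_iff hU Zc x hxU).mpr (fun hc => hc hxZ)

end Sch

end Groth.Agent.Lib.H9GenNd2
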