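import Mathlib
import Groth.Agent.Lib.H9GenPt2

/-! exists_open_fibres_subset_closed: f finite type to an irreducible scheme, T ⊆ X closed containing the generic fibre ⇒ T contains all fibres over a nonempty open (used for S1299) (helper9). -/

set_option autoImplicit false
universe u

namespace Groth.Agent.Lib.H9GenPt3

open AlgebraicGeometry CategoryTheory Limits TopologicalSpace
open Groth.Agent.Lib.H9GenPt1 Groth.Agent.Lib.H9GenPt2
open Groth.Agent.Lib.H9FibNumericsSch Groth.Agent.Lib.Helper4.DimFormula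

/-- a closed subset of the source of a finite type morphism to an irreducible scheme which
contains the generic fibre contains all the fibres over a nonempty open. -/
theorem exists_open_fibres_subset_closed {X Y : Scheme.{u}} (f : X ⟶ Y) [IrreducibleSpace ↑Y]
    [LocallyOfFiniteType f] [QuasiCompact f] (T : Set X) (hT : IsClosed T)
    (hη : ∀ x, f x = genericPoint ↑Y → x ∈ T) :
    ∃ V : Y.Opens, (V : Set ↑Y).Nonempty ∧ ∀ x, f x ∈ V → x ∈ T := by
  have key := exists_open_forall_of_charts f Tᶜ ?_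
  · obtain ⟨V, hV, h⟩ := key
    exact ⟨V, hV, fun x hx => by simpa using h x hx⟩
  intro U V hU hV hUV hηV
  have hft : (f.appLE V U hUV).hom.FiniteType := f.finiteType_appLE hV hU hUV
  letI aVU : Algebra Γ(Y, V) Γ(X, U) := (f.appLE V U hUV).hom.toAlgebra
  haveI : Algebra.FiniteType Γ(Y, V) Γ(X, U) := hft
  set p : Ideal Γ(Y, V) := (hV.primeIdealOf ⟨genericPoint ↑Y, hηV⟩).asIdeal with hp
  obtain ⟨g, hgp, hg⟩ := exists_generic_nilp p Γ(X, U)
  refine ⟨g, (Groth.Agent.Lib.H9Slice.notMem_primeIdealOf_iff hV _ hηV g).mp hgp, ?_⟩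
  intro x hxU hfx hxT
  obtain ⟨b, hbT, hxb⟩ := hU.exists_basicOpen_le (V := ⟨Tᶜ, hT.isOpen_compl⟩) ⟨x, hxT⟩ hxU
  set qx := hU.primeIdealOf ⟨x, hxU⟩ with hqx
  have hbq : b ∉ qx.asIdeal := (Groth.Agent.Lib.H9Slice.notMem_primeIdealOf_iff hU x hxU b).mpr hxb
  have hcomap : ∀ (x' : X) (hx' : x' ∈ U),
      (hU.primeIdealOf ⟨x', hx'⟩).asIdeal.comap (algebraMap Γ(Y, V) Γ(X, U)) =
        (hV.primeIdealOf ⟨f x', hUV hx'⟩).asIdeal :=
    fun x' hx' => primeIdealOf_comap_appLE f hU hV hUV x' hx'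
  refine hbq (hg b ?_ qx.asIdeal qx.isPrime ?_ ?_)
  · intro q hq hqp
    obtain ⟨⟨x', hx'U⟩, hx'⟩ := exists_primeIdealOf_eq hU ⟨q, hq⟩
    by_contra hbq'
    have h1 : b ∉ (hU.primeIdealOf ⟨x', hx'U⟩).asIdeal := by rw [hx']; exact hbq'
    have h2 : x' ∈ X.basicOpen b :=
      (Groth.Agent.Lib.H9Slice.notMem_primeIdealOf_iff hU x' hx'U b).mp h1
    have h3 : x' ∈ Tᶜ := hbT h2
    refine h3 (hη x' ?_)
    have h4 := hcomap x' hx'U
    rw [hx'] at h4
    change q.comap (algebraMap Γ(Y, V) Γ(X, U)) = _ at h4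
    rw [hqp, hp] at h4
    have h5 : hV.primeIdealOf ⟨genericPoint ↑Y, hηV⟩ = hV.primeIdealOf ⟨f x', hUV hx'U⟩ :=
      PrimeSpectrum.ext h4
    have h6 := hV.isoSpec.hom.isOpenEmbedding.injective h5
    exact (congrArg Subtype.val h6).symm
  · rw [Ideal.map_le_iff_le_comap, hqx, hcomap x hxU, hp]
    exact (specializes_iff_primeIdealOf_le hV (genericPoint ↑Y) (f x) hηV (hUV hxU)).mp
      (genericPoint_specializes _)
  · intro h
    have h1 : g ∈ (qx.asIdeal).comap (algebraMap Γ(Y, V) Γ(X, U)) := h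
    rw [hqx, hcomap x hxU] at h1
    exact ((Groth.Agent.Lib.H9Slice.notMem_primeIdealOf_iff hV (f x) (hUV hxU) g).mpr hfx) h1

end Groth.Agent.Lib.H9GenPt3
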