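import Mathlib
import Groth.Prelude.Def_AlgGrp
import Groth.Prelude.Def_Red
import Groth.Prelude.Def_Red2
import Groth.Prelude.Def_AGF
import Groth.Agent.Lib.H9GenComm1

/-! Verbal subgroup series (`Ser`, `dSer` = derived series, `lSer` = lower central series) on the groups of points of a flat separated group scheme: elements lift to flat test objects (`Liftable`), so vanishing can be tested after a scheme-theoretically dominant base change (`ser_eq_bot`) and passes to any base change (`ser_bc_eq_bot`); S18082 (nilpotent/solvable special fibre) (helper9). -/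

set_option autoImplicit false
universe u

open CategoryTheory CategoryTheory.Limits AlgebraicGeometry MonoidalCategory CartesianMonoidalCategory MonObj

namespace Groth.Agent.Lib.H9GenSolv1

open Groth.Agent.Lib.Helper27.GaGm Groth.Agent.Helper8SchDense

/-- a functorial "verbal" subgroup. -/
structure Ser where
  S : ∀ (H : Type u) [Group H], Subgroup H
  map_le : ∀ {H₁ H₂ : Type u} [Group H₁] [Group H₂] (f : H₁ →* H₂), (S H₁).map f ≤ S H₂

def Ser.top : Ser.{u} where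
  S _ _ := ⊤
  map_le _ := le_top

def Ser.comm (σ τ : Ser.{u}) : Ser.{u} where
  S H _ := ⁅σ.S H, τ.S H⁆
  map_le f := by
    rw [Subgroup.map_commutator]
    exact Subgroup.commutator_mono (σ.map_le f) (τ.map_le f)

def dSer : ℕ → Ser.{u}
  | 0 => Ser.top
  | n + 1 => Ser.comm (dSer n) (dSer n)

def lSer : ℕ → Ser.{u}
  | 0 => Ser.top
  | n + 1 => Ser.comm (lSer n) Ser.top

theorem dSer_S (n : ℕ) (H : Type u) [Group H] : (dSer n).S H = derivedSeries H n := by
  induction n with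
  | zero => rfl
  | succ n ih =>
    rw [derivedSeries_succ, ← ih]
    rfl

theorem lSer_S (n : ℕ) (H : Type u) [Group H] :
    (lSer n).S H = (⊤ : Subgroup H).lowerCentralSeries n := by
  induction n with
  | zero => rfl
  | succ n ih =>
    rw [Subgroup.lowerCentralSeries_succ, ← ih]
    rfl

variable {S : Scheme.{u}} (G : Over S) [GrpObj G]

/-- instance search for the commutator bracket on `Hom` groups gets stuck; provide it directly. -/
noncomputable local instance homBracket (Z : Over S) : Bracket (Z ⟶ G) (Z ⟶ G) := commutatorElement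

/-- precomposition as a group homomorphism. -/
def precomp {Z W : Over S} (z : Z ⟶ W) : (W ⟶ G) →* (Z ⟶ G) where
  toFun φ := z ≫ φ
  map_one' := MonObj.comp_one z
  map_mul' φ ψ := MonObj.comp_mul z φ ψ

/-- elements of `σ(Hom(Z, G))` lift to flat test objects. -/
def Liftable (σ : Ser.{u}) : Prop :=
  ∀ (Z : Over S) (y : Z ⟶ G), y ∈ σ.S (Z ⟶ G) →
    ∃ (W : Over S) (_ : Flat W.hom) (z : Z ⟶ W) (y' : W ⟶ G), y' ∈ σ.S (W ⟶ G) ∧ z ≫ y' = y

theorem liftable_top [Flat G.hom] : Liftable G Ser.top := by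
  intro Z y _
  exact ⟨G, inferInstance, y, 𝟙 G, Subgroup.mem_top _, Category.comp_id _⟩

theorem flat_tensor (W₁ W₂ : Over S) [Flat W₁.hom] [Flat W₂.hom] : Flat (W₁ ⊗ W₂).hom := by
  rw [Over.tensorObj_hom]
  infer_instance

theorem liftable_comm {σ τ : Ser.{u}} (hσ : Liftable G σ) (hτ : Liftable G τ) :
    Liftable G (Ser.comm σ τ) := by
  intro Z y hy
  change y ∈ ⁅σ.S (Z ⟶ G), τ.S (Z ⟶ G)⁆ at hy
  rw [Subgroup.commutator_def] at hy
  induction hy using Subgroup.closure_induction with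
  | mem y hy =>
    obtain ⟨a, ha, b, hb, rfl⟩ := hy
    obtain ⟨Wa, hWa, za, a', ha', rfl⟩ := hσ Z a ha
    obtain ⟨Wb, hWb, zb, b', hb', rfl⟩ := hτ Z b hb
    refine ⟨Wa ⊗ Wb, flat_tensor Wa Wb, lift za zb, ⁅fst Wa Wb ≫ a', snd Wa Wb ≫ b'⁆, ?_, ?_⟩
    · change _ ∈ ⁅σ.S (Wa ⊗ Wb ⟶ G), τ.S (Wa ⊗ Wb ⟶ G)⁆
      refine Subgroup.commutator_mem_commutator ?_ ?_
      · exact σ.map_le (precomp G (fst Wa Wb)) ⟨a', ha', rfl⟩
      · exact τ.map_le (precomp G (snd Wa Wb)) ⟨b', hb', rfl⟩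
    · have := map_commutatorElement (precomp G (lift za zb)) (fst Wa Wb ≫ a') (snd Wa Wb ≫ b')
      change lift za zb ≫ ⁅fst Wa Wb ≫ a', snd Wa Wb ≫ b'⁆ =
        ⁅lift za zb ≫ fst Wa Wb ≫ a', lift za zb ≫ snd Wa Wb ≫ b'⁆ at this
      rw [this, lift_fst_assoc, lift_snd_assoc]
  | one =>
    refine ⟨𝟙_ (Over S), ?_, toUnit Z, 1, Subgroup.one_mem _, MonObj.comp_one _⟩
    change Flat (𝟙 S)
    infer_instance
  | mul y₁ y₂ _ _ ih₁ ih₂ =>
    obtain ⟨W₁, hW₁, z₁, y₁', h₁, rfl⟩ := ih₁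
    obtain ⟨W₂, hW₂, z₂, y₂', h₂, rfl⟩ := ih₂
    refine ⟨W₁ ⊗ W₂, flat_tensor W₁ W₂, lift z₁ z₂, (fst W₁ W₂ ≫ y₁') * (snd W₁ W₂ ≫ y₂'), ?_, ?_⟩
    · refine Subgroup.mul_mem _ ?_ ?_
      · exact (Ser.comm σ τ).map_le (precomp G (fst W₁ W₂)) ⟨y₁', h₁, rfl⟩
      · exact (Ser.comm σ τ).map_le (precomp G (snd W₁ W₂)) ⟨y₂', h₂, rfl⟩
    · rw [MonObj.comp_mul, lift_fst_assoc, lift_snd_assoc]
  | inv y _ ih =>
    obtain ⟨W, hW, z, y', h, rfl⟩ := ih
    exact ⟨W, hW, z, y'⁻¹, Subgroup.inv_mem _ h, (map_inv (precomp G z) y')⟩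

theorem liftable_dSer [Flat G.hom] (n : ℕ) : Liftable G (dSer n) := by
  induction n with
  | zero => exact liftable_top G
  | succ n ih => exact liftable_comm G ih ih

theorem liftable_lSer [Flat G.hom] (n : ℕ) : Liftable G (lSer n) := by
  induction n with
  | zero => exact liftable_top G
  | succ n ih => exact liftable_comm G ih (liftable_top G)

section Vanish

variable {S' : Scheme.{u}} (g : S' ⟶ S)

theorem ser_eq_bot_of_flat [IsSchemeTheoreticallyDominant g] [QuasiCompact g] [IsSeparated G.hom]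
    (σ : Ser.{u}) (h : ∀ X' : Over S', σ.S (X' ⟶ Red.bc g G) = ⊥) (W : Over S) [Flat W.hom] :
    σ.S (W ⟶ G) = ⊥ := by
  let ρ : (W ⟶ G) →* ((Over.pullback g).obj W ⟶ (Over.pullback g).obj G) :=
    (Over.pullback g).homMonoidHom
  have hinj : Function.Injective ρ := by
    intro p q hpq
    have hpq' : (Over.pullback g).map p = (Over.pullback g).map q := hpq
    apply ext_of_schDominant p q (pullback.fst W.hom g)
    rw [← map_left_fst g, ← map_left_fst g, hpq']
  have h1 := σ.map_le ρ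
  have h2 : σ.S ((Over.pullback g).obj W ⟶ (Over.pullback g).obj G) = ⊥ := h _
  rw [h2] at h1
  rw [eq_bot_iff]
  intro y hy
  have h3 : ρ y ∈ (⊥ : Subgroup _) := h1 ⟨y, hy, rfl⟩
  rw [Subgroup.mem_bot] at h3 ⊢
  exact hinj (h3.trans (map_one ρ).symm)

theorem ser_eq_bot [IsSchemeTheoreticallyDominant g] [QuasiCompact g] [IsSeparated G.hom]
    (σ : Ser.{u}) (hσ : Liftable G σ) (h : ∀ X' : Over S', σ.S (X' ⟶ Red.bc g G) = ⊥) (Z : Over S) :
    σ.S (Z ⟶ G) = ⊥ := by
  rw [eq_bot_iff]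
  intro y hy
  obtain ⟨W, hW, z, y', hy', rfl⟩ := hσ Z y hy
  rw [ser_eq_bot_of_flat G g σ h W, Subgroup.mem_bot] at hy'
  rw [Subgroup.mem_bot, hy', MonObj.comp_one]

theorem ser_bc_eq_bot (σ : Ser.{u}) (h : ∀ Z : Over S, σ.S (Z ⟶ G) = ⊥) {S'' : Scheme.{u}} (r : S'' ⟶ S)
    (X : Over S'') : σ.S (X ⟶ Red.bc r G) = ⊥ := by
  let ρ : (X ⟶ Red.bc r G) →* ((Over.map r).obj X ⟶ G) :=
    MonoidHom.mk' (adjEquiv r G X) (adjEquiv_mul r G X)
  have hinj : Function.Injective ρ := (adjEquiv r G X).injective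
  have h1 := σ.map_le ρ
  rw [h] at h1
  rw [eq_bot_iff]
  intro y hy
  have h3 : ρ y ∈ (⊥ : Subgroup _) := h1 ⟨y, hy, rfl⟩
  rw [Subgroup.mem_bot] at h3 ⊢
  exact hinj (h3.trans (map_one ρ).symm)

end Vanish

theorem main18082 (A : Type u) [CommRing A] [IsDomain A]
    (K : Type u) [Field K] [Algebra A K] [IsFractionRing A K] {S'' : Scheme.{u}}
    (r : S'' ⟶ Spec (CommRingCat.of A))
    (G : Over (Spec (CommRingCat.of A))) [GrpObj G] [Flat G.hom] [IsSeparated G.hom] :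
    (AGF.IsNilpotentGrp (Red.bc (Spec.map (CommRingCat.ofHom (algebraMap A K))) G) →
      AGF.IsNilpotentGrp (Red.bc r G)) ∧
    (Red.IsSolvableGrp (Red.bc (Spec.map (CommRingCat.ofHom (algebraMap A K))) G) →
      Red.IsSolvableGrp (Red.bc r G)) := by
  haveI := Groth.Agent.Lib.H9GenComm1.schDominant_fractionRing A K
  constructor
  · rintro ⟨n, hn⟩
    refine ⟨n, fun X => ?_⟩
    rw [← Subgroup.lowerCentralSeries_eq_bot_iff_upperCentralSeries_eq_top, ← lSer_S]
    refine ser_bc_eq_bot G (lSer n) (fun Z => ?_) r X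
    refine ser_eq_bot G (Spec.map (CommRingCat.ofHom (algebraMap A K))) (lSer n) (liftable_lSer G n)
      (fun X' => ?_) Z
    rw [lSer_S, Subgroup.lowerCentralSeries_eq_bot_iff_upperCentralSeries_eq_top]
    exact hn X'
  · rintro ⟨n, hn⟩
    refine ⟨n, fun X => ?_⟩
    rw [← dSer_S]
    refine ser_bc_eq_bot G (dSer n) (fun Z => ?_) r X
    refine ser_eq_bot G (Spec.map (CommRingCat.ofHom (algebraMap A K))) (dSer n) (liftable_dSer G n)
      (fun X' => ?_) Z
    rw [dSer_S]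
    exact hn X'

end Groth.Agent.Lib.H9GenSolv1
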