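import Mathlib
import Groth.Prelude.Def_ModelsG
import Groth.Prelude.Def_Pi1
import Groth.Agent.Lib.H9GoDown

/-!
# Components of the special fibre under a finite morphism onto a normal model (helper9)
-/

set_option autoImplicit false
universe u
open CategoryTheory CategoryTheory.Limits AlgebraicGeometry TopologicalSpace

namespace Groth.Agent.Lib.H9GoDownB

theorem main
    (R : Type u) [CommRing R] [IsDomain R] [IsDiscreteValuationRing R]
    (W Z : Over (Spec (CommRingCat.of R))) [IsIntegral W.left] [IsIntegral Z.left]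
    (hZn : Pi1.IsNormalScheme Z.left)
    (ψ : W ⟶ Z) [IsFinite ψ.left] [Surjective ψ.left]
    (z : Z.left)
    (w : W.left) (hw : ψ.left.base w = z)
    (Δ : Set Z.left) (hΔ : Δ ∈ Models.fibreComponents R Z) (hzΔ : z ∈ Δ) :
    ∃ Γ ∈ Models.fibreComponents R W, w ∈ Γ ∧ ψ.left.base '' Γ = Δ := by
  have hΔ' : Maximal (fun S : Set Z.left => IsIrreducible S ∧ S ⊆ Models.specialFibreSet R Z) Δ := hΔ
  have hZs : IsClosed (Models.specialFibreSet R Z) := Models.isClosed_specialFibreSet R Z
  have hWs : IsClosed (Models.specialFibreSet R W) := Models.isClosed_specialFibreSet R W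
  have hΔirr : IsIrreducible Δ := hΔ'.prop.1
  have hΔsub : Δ ⊆ Models.specialFibreSet R Z := hΔ'.prop.2
  -- Δ is closed
  have hΔcl : IsClosed Δ := by
    have h1 : closure Δ ⊆ Δ :=
      hΔ'.le_of_ge ⟨hΔirr.closure, closure_minimal hΔsub hZs⟩ subset_closure
    exact closure_subset_iff_isClosed.mp h1
  obtain ⟨δ, hδ⟩ := QuasiSober.sober hΔirr hΔcl
  have hδcl : closure {δ} = Δ := hδ
  have hδz : δ ⤳ ψ.left.base w := by
    rw [hw, specializes_iff_mem_closure, hδcl]; exact hzΔ
  obtain ⟨γ, hγw, hγδ⟩ := H9GoDown.exists_specializes_of_isIntegralHom ψ.left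
    (fun y => (hZn y).2) w δ hδz
  have hcomm : ∀ a : W.left, W.hom.base a = Z.hom.base (ψ.left.base a) := by
    intro a
    have := Over.w ψ
    rw [← this]; rfl
  have hmem : ∀ a : W.left, ψ.left.base a ∈ Models.specialFibreSet R Z →
      a ∈ Models.specialFibreSet R W := by
    intro a ha
    change W.hom.base a ∈ ({IsLocalRing.closedPoint R} : Set _)
    rw [hcomm]; exact ha
  have hmem' : ∀ a : W.left, a ∈ Models.specialFibreSet R W →
      ψ.left.base a ∈ Models.specialFibreSet R Z := by
    intro a ha
    change Z.hom.base (ψ.left.base a) ∈ ({IsLocalRing.closedPoint R} : Set _)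
    rw [← hcomm]; exact ha
  have hδmem : δ ∈ Δ := by rw [← hδcl]; exact subset_closure rfl
  have hγWs : γ ∈ Models.specialFibreSet R W := hmem γ (by rw [hγδ]; exact hΔsub hδmem)
  refine ⟨closure {γ}, ?_, ?_, ?_⟩
  · -- maximality
    change Maximal (fun S : Set W.left => IsIrreducible S ∧ S ⊆ Models.specialFibreSet R W) _
    refine ⟨⟨isIrreducible_singleton.closure, closure_minimal (by simpa using hγWs) hWs⟩, ?_⟩
    rintro S ⟨hSirr, hSsub⟩ hle
    obtain ⟨γ', hγ'⟩ := QuasiSober.sober hSirr.closure isClosed_closure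
    have hγ'cl : closure {γ'} = closure S := hγ'
    have hγ'Ws : γ' ∈ Models.specialFibreSet R W := by
      have : γ' ∈ closure S := by rw [← hγ'cl]; exact subset_closure rfl
      exact closure_minimal hSsub hWs this
    have hsp : γ' ⤳ γ := by
      rw [specializes_iff_mem_closure, hγ'cl]
      exact subset_closure (hle (subset_closure rfl))
    have hsp2 : ψ.left.base γ' ⤳ δ := by
      rw [← hγδ]; exact hsp.map ψ.left.base.hom.continuous
    have hsub2 : Δ ⊆ closure {ψ.left.base γ'} := by
      rw [← hδcl]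
      exact closure_minimal (by simpa using (specializes_iff_mem_closure.mp hsp2)) isClosed_closure
    have hle2 : closure {ψ.left.base γ'} ⊆ Δ :=
      hΔ'.le_of_ge ⟨isIrreducible_singleton.closure,
        closure_minimal (by simpa using hmem' γ' hγ'Ws) hZs⟩ hsub2
    have hsp3 : δ ⤳ ψ.left.base γ' := by
      rw [specializes_iff_mem_closure, hδcl]
      exact hle2 (subset_closure rfl)
    have heq : ψ.left.base γ' = δ := (hsp2.antisymm hsp3).eq
    have : γ' = γ := Helper10.IntDim.eq_of_specializes_of_isIntegralHom ψ.left hsp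
      (by rw [hγδ]; exact heq)
    rw [← this, hγ'cl]
    exact subset_closure
  · exact specializes_iff_mem_closure.mp hγw
  · have hcm : IsClosedMap ψ.left.base := ψ.left.isClosedMap
    have := hcm.closure_image_eq_of_continuous ψ.left.base.hom.continuous {γ}
    rw [← this, Set.image_singleton, hγδ, hδcl]

end Groth.Agent.Lib.H9GoDownB
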