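import Mathlib
import Groth.Prelude.Def_ModelsG
import Groth.Prelude.Def_Pi1
import Groth.Prelude.Def_Neron
import Groth.Agent.Lib.H9GoDownB
import Groth.Agent.Lib.H9ContrU2

/-!
# Number of fibre components through a point under a finite morphism onto a normal surface (helper9)
-/

set_option autoImplicit false
universe u
open CategoryTheory CategoryTheory.Limits AlgebraicGeometry TopologicalSpace

namespace Groth.Agent.Lib.H9GoDownC

theorem finite_fibreComponents (R : Type u) [CommRing R] [IsDomain R] [IsDiscreteValuationRing R]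
    (X : Over (Spec (CommRingCat.of R))) [IsNoetherian X.left] :
    (Models.fibreComponents R X).Finite := by
  classical
  have hfcl : IsClosed (Models.specialFibreSet R X : Set X.left) :=
    Models.isClosed_specialFibreSet R X
  obtain ⟨𝒮, h𝒮f, h𝒮c, h𝒮i, h𝒮U⟩ :=
    NoetherianSpace.exists_finite_set_isClosed_irreducible (α := X.left) hfcl
  refine h𝒮f.subset ?_
  intro Z hZ
  have hZ' : Maximal (fun S : Set X.left => IsIrreducible S ∧ S ⊆ Models.specialFibreSet R X) Z := hZ
  have hsub : Z ⊆ ⋃₀ ((h𝒮f.toFinset : Finset (Set X.left)) : Set (Set X.left)) := by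
    rw [Set.Finite.coe_toFinset, ← h𝒮U]
    exact hZ'.1.2
  obtain ⟨T, hT, hZT⟩ := (isIrreducible_iff_sUnion_isClosed.1 hZ'.1.1) h𝒮f.toFinset
    (fun z hz => h𝒮c z (h𝒮f.mem_toFinset.1 hz)) hsub
  have hT' : T ∈ 𝒮 := h𝒮f.mem_toFinset.1 hT
  have hTf : T ⊆ Models.specialFibreSet R X := by
    rw [h𝒮U]
    exact Set.subset_sUnion_of_mem hT'
  have hTZ : T ⊆ Z := hZ'.2 ⟨h𝒮i T hT', hTf⟩ hZT
  have : Z = T := Set.Subset.antisymm hZT hTZ
  rw [this]
  exact hT'

theorem main (R : Type u) [CommRing R] [IsDomain R] [IsDiscreteValuationRing R]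
    (X Y : Over (Spec (CommRingCat.of R))) [IsIntegral X.left] [IsIntegral Y.left]
    (hpX : Neron.IsProjectiveOver R X)
    (hnor : ∀ q : Y.left, IsIntegrallyClosed (Y.left.presheaf.stalk q))
    (f : X ⟶ Y) [IsFinite f.left] [Surjective f.left]
    (y : Y.left)
    (x : X.left) (hx : f.left.base x = y) :
    {Z : Set Y.left | Z ∈ Models.fibreComponents R Y ∧ y ∈ Z}.ncard ≤
      {Z : Set X.left | Z ∈ Models.fibreComponents R X ∧ x ∈ Z}.ncard := by
  classical
  haveI : IsProper X.hom := H9ContrU2.isProper_of_isProjectiveOver R X hpX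
  haveI : IsLocallyNoetherian X.left := LocallyOfFiniteType.isLocallyNoetherian X.hom
  haveI : CompactSpace X.left := by
    have : QuasiCompact X.hom := inferInstance
    exact (HasAffineProperty.iff_of_isAffine (P := @QuasiCompact)).mp this
  haveI : IsNoetherian X.left := ⟨⟩
  have hfinX : (Models.fibreComponents R X).Finite := finite_fibreComponents R X
  have hYn : Pi1.IsNormalScheme Y.left := fun q => ⟨inferInstance, hnor q⟩
  have key : ∀ Δ ∈ {Z : Set Y.left | Z ∈ Models.fibreComponents R Y ∧ y ∈ Z},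
      ∃ Γ ∈ Models.fibreComponents R X, x ∈ Γ ∧ f.left.base '' Γ = Δ :=
    fun Δ hΔ => H9GoDownB.main R X Y hYn f y x hx Δ hΔ.1 hΔ.2
  choose! g hg using key
  refine Set.ncard_le_ncard_of_injOn g (fun Δ hΔ => ⟨(hg Δ hΔ).1, (hg Δ hΔ).2.1⟩) ?_
    (hfinX.subset (fun Z hZ => hZ.1))
  intro Δ hΔ Δ' hΔ' h
  rw [← (hg Δ hΔ).2.2, ← (hg Δ' hΔ').2.2, h]

end Groth.Agent.Lib.H9GoDownC
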