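import Mathlib
import Groth.Prelude
import Groth.Agent.Lib.Helper26StalkLim
import Groth.Agent.S0591
import Groth.Agent.S2074
import Groth.Agent.S9191

/-! helper9: spreading out a smooth proper scheme over the fraction field of a domain to a
neighbourhood of the generic point (S3259). -/

set_option autoImplicit false
set_option linter.style.haveILetI false
universe u

namespace Groth.Agent.Lib.H9GoodRed

open CategoryTheory CategoryTheory.Limits AlgebraicGeometry TopologicalSpace Opposite IsLocalRing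

/-- refinement of a pullback presentation along a further base change. -/
theorem exists_refine {A B P Q P' Q' : Scheme.{u}} (f : A ⟶ B) (f₁ : P ⟶ Q) (f₂ : P' ⟶ Q')
    (qX : A ⟶ P) (qY : B ⟶ Q) (h : IsPullback qX f f₁ qY) (pX : P' ⟶ P) (pY : Q' ⟶ Q)
    (h' : IsPullback pX f₂ f₁ pY) (qY' : B ⟶ Q') (hq : qY' ≫ pY = qY) :
    ∃ qX' : A ⟶ P', IsPullback qX' f f₂ qY' := by
  have hw : qX ≫ f₁ = (f ≫ qY') ≫ pY := by
    rw [Category.assoc, hq]
    exact h.w
  refine ⟨h'.lift qX (f ≫ qY') hw, ?_⟩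
  refine IsPullback.of_right ?_ (h'.lift_snd _ _ hw) h'
  rw [h'.lift_fst, hq]
  exact h

section iso
variable (R : Type u) [CommRing R] [IsDomain R]

/-- the generic point of `Spec R` -/
noncomputable abbrev gen : ↥(Spec (CommRingCat.of R)) :=
  (Neron.genPt R) (closedPoint (FractionRing R))

theorem mem_gen_asIdeal (s : R) : s ∈ (gen R).asIdeal ↔ s = 0 := by
  change algebraMap R (FractionRing R) s ∈ maximalIdeal (FractionRing R) ↔ _
  rw [IsLocalRing.maximalIdeal_eq_bot, Ideal.mem_bot]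
  exact (map_eq_zero_iff _ (IsFractionRing.injective R (FractionRing R)))

theorem toStalk_comp :
    StructureSheaf.toStalk (CommRingCat.of R) (gen R) ≫ Scheme.stalkClosedPointTo (Neron.genPt R) =
      CommRingCat.ofHom (algebraMap R (FractionRing R)) := by
  have h1 := Scheme.Spec_stalkClosedPointTo_fromSpecStalk (Neron.genPt R)
  have h2 : Spec.map (StructureSheaf.toStalk (CommRingCat.of R) (gen R) ≫
      Scheme.stalkClosedPointTo (Neron.genPt R)) =
      Spec.map (CommRingCat.ofHom (algebraMap R (FractionRing R))) := by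
    rw [Spec.map_comp]
    exact ((congrArg (fun t => Spec.map (Scheme.stalkClosedPointTo (Neron.genPt R)) ≫ t)
      (Spec.fromSpecStalk_eq' _ _)).symm).trans h1
  exact Spec.map_injective h2

theorem isIso_stalkClosedPointTo :
    IsIso (Scheme.stalkClosedPointTo (Neron.genPt R)) := by
  letI : Algebra R ((Spec (CommRingCat.of R)).presheaf.stalk (gen R)) :=
    StructureSheaf.stalkAlgebra R (gen R)
  haveI hloc : IsLocalization.AtPrime ((Spec (CommRingCat.of R)).presheaf.stalk (gen R))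
      (gen R).asIdeal := StructureSheaf.IsLocalization.to_stalk R (gen R)
  have hc : ∀ r : R, (Scheme.stalkClosedPointTo (Neron.genPt R)).hom
      (algebraMap R ((Spec (CommRingCat.of R)).presheaf.stalk (gen R)) r) =
      algebraMap R (FractionRing R) r := by
    intro r
    have := congr($(toStalk_comp R) r)
    rw [ConcreteCategory.comp_apply] at this
    exact this
  rw [ConcreteCategory.isIso_iff_bijective]
  constructor
  · rw [injective_iff_map_eq_zero]
    intro x hx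
    obtain ⟨a, s, rfl⟩ := IsLocalization.exists_mk'_eq (gen R).asIdeal.primeCompl x
    have h1 := IsLocalization.mk'_spec ((Spec (CommRingCat.of R)).presheaf.stalk (gen R)) a s
    have h2 := congrArg (Scheme.stalkClosedPointTo (Neron.genPt R)).hom h1
    rw [map_mul, hx, zero_mul, hc] at h2
    have ha : a = 0 := (map_eq_zero_iff _ (IsFractionRing.injective R (FractionRing R))).1 h2.symm
    rw [ha, IsLocalization.mk'_zero]
  · intro y
    obtain ⟨a, s, rfl⟩ := IsLocalization.exists_mk'_eq (nonZeroDivisors R) y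
    have hs : (s : R) ∈ (gen R).asIdeal.primeCompl := by
      intro hmem
      exact nonZeroDivisors.ne_zero s.2 ((mem_gen_asIdeal R _).1 hmem)
    refine ⟨IsLocalization.mk' _ a ⟨s, hs⟩, ?_⟩
    rw [IsLocalization.eq_mk'_iff_mul_eq, ← hc (s : R), ← map_mul]
    have h1 := IsLocalization.mk'_spec ((Spec (CommRingCat.of R)).presheaf.stalk (gen R)) a
      (⟨s, hs⟩ : (gen R).asIdeal.primeCompl)
    rw [h1, hc]

end iso

section main
variable {R : Type u} [CommRing R] [IsDomain R]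

open Groth.Agent.Lib.Helper26.StalkLim

/-- the diagram of affine neighbourhoods of the generic point -/
noncomputable abbrev DD (R : Type u) [CommRing R] [IsDomain R] :
    (AffNhd (gen R))ᵒᵖ ⥤ Scheme.{u} := specDiagram (gen R)

/-- its limit cone -/
noncomputable abbrev cc (R : Type u) [CommRing R] [IsDomain R] : Cone (DD R) := specCone (gen R)

instance : IsFiltered (AffNhd (gen R)) := isFiltered_of_directed_le_nonempty _

/-- **S3259** (for any domain) -/
theorem main3259 (C : Over (Spec (CommRingCat.of (FractionRing R)))) [Smooth C.hom]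
    [IsProper C.hom] :
    ∃ (U : (Spec (CommRingCat.of R)).Opens)
      (ξ : Spec (CommRingCat.of (FractionRing R)) ⟶ (U : Scheme.{u}))
      (𝒞 : Scheme.{u}) (π : 𝒞 ⟶ (U : Scheme.{u})),
      ξ ≫ U.ι = Neron.genPt R ∧ Smooth π ∧ IsProper π ∧
      Nonempty (Over.mk (pullback.snd π ξ) ≅ C) := by
  have hc : IsLimit (cc R) := specIsLimit (gen R)
  haveI hξiso : IsIso (Scheme.stalkClosedPointTo (Neron.genPt R)) := isIso_stalkClosedPointTo R
  obtain ⟨ξ₀, hξ₀⟩ : ∃ ξ₀ : Spec (CommRingCat.of (FractionRing R)) ⟶ (cc R).pt,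
      ξ₀ = Spec.map (Scheme.stalkClosedPointTo (Neron.genPt R)) := ⟨_, rfl⟩
  haveI : IsIso ξ₀ := by
    rw [hξ₀]
    exact (inferInstance : IsIso (Scheme.Spec.map (Scheme.stalkClosedPointTo (Neron.genPt R)).op))
  have hξ₀S : ξ₀ ≫ (Spec (CommRingCat.of R)).fromSpecStalk (gen R) = Neron.genPt R := by
    rw [hξ₀]
    exact Scheme.Spec_stalkClosedPointTo_fromSpecStalk _
  obtain ⟨f, hf⟩ : ∃ f : C.left ⟶ (cc R).pt, f = C.hom ≫ ξ₀ := ⟨_, rfl⟩
  haveI : LocallyOfFinitePresentation f := by rw [hf]; infer_instance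
  haveI : QuasiCompact f := by rw [hf]; infer_instance
  haveI : QuasiSeparated f := by rw [hf]; infer_instance
  haveI : IsProper f := by rw [hf]; infer_instance
  haveI : Smooth f := by rw [hf]; infer_instance
  -- step 1: descend to a stage
  obtain ⟨i, Xi, fi, g₁, hfi1, hfi2, hfi3, hpb⟩ := Groth.Agent.S0591.result (DD R) (cc R) hc C.left f
  haveI := hfi1
  haveI := hfi2
  haveI := hfi3
  haveI : CompactSpace Xi := QuasiCompact.compactSpace_of_compactSpace fi
  haveI : QuasiSeparatedSpace Xi := quasiSeparatedSpace_of_quasiSeparated fi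
  -- step 2: properness at a later stage
  obtain ⟨i₁, φ₁, X₁, Y₁, f₁, γ₁, pY₁, pX₁, hY₁, hX₁, hprop₁⟩ :=
    Groth.Agent.S2074.result (DD R) (cc R) hc i fi (𝟙 ((DD R).obj i)) f (𝟙 (cc R).pt)
      ((cc R).π.app i) g₁ (IsPullback.id_vert ((cc R).π.app i)) hpb
  haveI := hprop₁
  haveI hγ₁ : IsIso γ₁ := hY₁.isIso_snd_of_isIso
  haveI : LocallyOfFinitePresentation f₁ :=
    MorphismProperty.of_isPullback (P := @LocallyOfFinitePresentation) hX₁ hfi1
  haveI : IsAffine Y₁ := IsAffine.of_isIso γ₁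
  haveI : CompactSpace X₁ := QuasiCompact.compactSpace_of_compactSpace f₁
  haveI : QuasiSeparatedSpace X₁ := quasiSeparatedSpace_of_quasiSeparated f₁
  obtain ⟨qY₁, hqY₁⟩ : ∃ qY₁ : (cc R).pt ⟶ Y₁, qY₁ = (cc R).π.app i₁ ≫ inv γ₁ := ⟨_, rfl⟩
  have hYq₁ : IsPullback qY₁ (𝟙 (cc R).pt) γ₁ ((cc R).π.app i₁) :=
    IsPullback.of_vert_isIso ⟨by rw [hqY₁]; simp⟩
  have hq₁ : qY₁ ≫ pY₁ = (cc R).π.app i := by
    have hw := hY₁.w
    rw [Category.comp_id] at hw
    rw [hqY₁, hw, Category.assoc, IsIso.inv_hom_id_assoc]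
    exact (cc R).w φ₁
  obtain ⟨qX₁, hXq₁⟩ := exists_refine f fi f₁ g₁ ((cc R).π.app i) hpb pX₁ pY₁ hX₁ qY₁ hq₁
  -- step 3: smoothness at a later stage
  obtain ⟨i₂, φ₂, X₂, Y₂, f₂, γ₂, pY₂, pX₂, hY₂, hX₂, hsm₂⟩ :=
    Groth.Agent.S9191.result (DD R) (cc R) hc i₁ f₁ γ₁ f (𝟙 (cc R).pt) qY₁ qX₁ hYq₁ hXq₁
  haveI := hsm₂
  haveI hprop₂ : IsProper f₂ := MorphismProperty.of_isPullback (P := @IsProper) hX₂ hprop₁
  haveI hγ₂ : IsIso γ₂ := hY₂.isIso_snd_of_isIso
  obtain ⟨qY₂, hqY₂⟩ : ∃ qY₂ : (cc R).pt ⟶ Y₂, qY₂ = (cc R).π.app i₂ ≫ inv γ₂ := ⟨_, rfl⟩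
  have hq₂ : qY₂ ≫ pY₂ = qY₁ := by
    rw [← cancel_mono γ₁, Category.assoc, hY₂.w, hqY₂, hqY₁, Category.assoc,
      IsIso.inv_hom_id_assoc, Category.assoc, IsIso.inv_hom_id, Category.comp_id]
    exact (cc R).w φ₂
  obtain ⟨qX₂, hXq₂⟩ := exists_refine f f₁ f₂ qX₁ qY₁ hXq₁ pX₂ pY₂ hX₂ qY₂ hq₂
  -- step 4: assemble
  obtain ⟨a, ha⟩ : ∃ a : AffNhd (gen R), i₂ = op a := ⟨i₂.unop, rfl⟩
  subst ha
  have hW : IsAffineOpen a.U := a.isAffine
  obtain ⟨e, he⟩ : ∃ e : (DD R).obj (op a) ≅ (a.U : Scheme.{u}),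
      e.hom ≫ a.U.ι = toX (gen R) (op a) := ⟨hW.isoSpec.symm, rfl⟩
  refine ⟨a.U, ξ₀ ≫ (cc R).π.app (op a) ≫ e.hom, X₂, f₂ ≫ γ₂ ≫ e.hom, ?_, ?_, ?_, ?_⟩
  · rw [Category.assoc, Category.assoc, he, π_toX]
    exact hξ₀S
  · infer_instance
  · infer_instance
  · have hfin : IsPullback qX₂ C.hom (f₂ ≫ γ₂ ≫ e.hom)
        (ξ₀ ≫ (cc R).π.app (op a) ≫ e.hom) := by
      refine hXq₂.of_iso (Iso.refl _) (Iso.refl _) (asIso ξ₀).symm (asIso γ₂ ≪≫ e) ?_ ?_ ?_ ?_
      · simp
      · rw [hf]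
        simp
      · simp
      · rw [hqY₂]
        simp
    exact ⟨Over.isoMk hfin.isoPullback.symm (by simp)⟩

end main

end Groth.Agent.Lib.H9GoodRed
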