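import Mathlib
import Groth.Prelude
import Groth.Agent.Lib.Helper12QuotSh

set_option autoImplicit false
set_option linter.style.haveILetI false

/-!
# An fppf sheaf quotient by a group action is a geometric quotient
-/

universe u

open CategoryTheory CategoryTheory.Limits MonoidalCategory CartesianMonoidalCategory MonObj
  AlgebraicGeometry Opposite

namespace Groth.Agent.Lib.Helper8GeomQuot

section Orbit

variable {S : Scheme.{u}} {G X : Over S} [GrpObj G] (a : AlgGrp.Action G X)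

/-- the orbit relation on `T`-points. -/
def relSetoid (T : Over S) : Setoid (T ⟶ X) where
  r x₁ x₂ := ∃ g : T ⟶ G, lift g x₂ ≫ a.act = x₁
  iseqv :=
    { refl := fun x => ⟨1, a.lift_one_act x⟩
      symm := by
        rintro x₁ x₂ ⟨g, hg⟩
        refine ⟨g⁻¹, ?_⟩
        rw [← hg, ← a.lift_mul_act, inv_mul_cancel, a.lift_one_act]
      trans := by
        rintro x₁ x₂ x₃ ⟨g, hg⟩ ⟨g', hg'⟩
        exact ⟨g * g', by rw [a.lift_mul_act, hg', hg]⟩ }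

lemma rel_comp {T T' : Over S} (f : T' ⟶ T) {x₁ x₂ : T ⟶ X} (h : (relSetoid a T).r x₁ x₂) :
    (relSetoid a T').r (f ≫ x₁) (f ≫ x₂) := by
  obtain ⟨g, hg⟩ := h
  exact ⟨f ≫ g, by rw [← hg, comp_lift_assoc]⟩

/-- the presheaf of orbits of points. -/
def orbPsh : (Over S)ᵒᵖ ⥤ Type (u + 1) where
  obj T := ULift.{u + 1} (Quotient (relSetoid a T.unop))
  map {T T'} f := TypeCat.ofHom fun z =>
    ⟨Quotient.map' (fun x => f.unop ≫ x) (fun _ _ h => rel_comp a f.unop h) z.down⟩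
  map_id T := ConcreteCategory.hom_ext _ _ fun z => by
    rcases z with ⟨⟨x⟩⟩
    exact congrArg (fun y => ULift.up (Quot.mk _ y)) (Category.id_comp x)
  map_comp f g := ConcreteCategory.hom_ext _ _ fun z => by
    rcases z with ⟨⟨x⟩⟩
    exact congrArg (fun y => ULift.up (Quot.mk _ y)) (Category.assoc g.unop f.unop x)

/-- the projection from points to orbits. -/
def orbProj : yoneda.obj X ⋙ uliftFunctor.{u + 1, u} ⟶ orbPsh a where
  app T := TypeCat.ofHom fun x => ⟨Quotient.mk _ x.down⟩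
  naturality T T' f := ConcreteCategory.hom_ext _ _ fun x => rfl

lemma orbProj_coeq :
    Functor.whiskerRight (yoneda.map a.act) uliftFunctor.{u + 1, u} ≫ orbProj a =
      Functor.whiskerRight (yoneda.map (snd G X)) uliftFunctor.{u + 1, u} ≫ orbProj a := by
  ext T z
  rcases z with ⟨z⟩
  refine congrArg ULift.up (Quotient.sound ?_)
  refine ⟨z ≫ fst G X, ?_⟩
  show lift (z ≫ fst G X) (z ≫ snd G X) ≫ a.act = z ≫ a.act
  rw [lift_comp_fst_snd]

end Orbit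

section Related

variable (K : Precoverage Scheme.{u}) [K.IsStableUnderComposition] [K.IsStableUnderBaseChange]
  [K.HasIsos]
variable {S : Scheme.{u}} {G X Y : Over S} [GrpObj G] (a : AlgGrp.Action G X)

/-- two points of `X` with the same image in the sheaf quotient are locally in the same orbit. -/
theorem exists_cover_related (q : X ⟶ Y) (hq : QuotSh.IsQuotient K a.act (snd G X) q)
    {T : Over S} (x₁ x₂ : T ⟶ X) (h : x₁ ≫ q = x₂ ≫ q) :
    ∃ R ∈ K T.left, ∀ ⦃V : Scheme.{u}⦄ (v : V ⟶ T.left), R v →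
      ∃ g : Over.mk (v ≫ T.hom) ⟶ G,
        lift g ((Over.homMk v rfl : Over.mk (v ≫ T.hom) ⟶ T) ≫ x₂) ≫ a.act =
          (Over.homMk v rfl : Over.mk (v ≫ T.hom) ⟶ T) ≫ x₁ := by
  obtain ⟨w, hiso⟩ := hq
  haveI := hiso
  let F : QuotSh.Sh K S := (presheafToSheaf (QuotSh.J K S) (Type (u + 1))).obj (orbPsh a)
  let m : QuotSh.rep K X ⟶ F := (presheafToSheaf (QuotSh.J K S) (Type (u + 1))).map (orbProj a)
  have hm : QuotSh.repMap K a.act ≫ m = QuotSh.repMap K (snd G X) ≫ m := by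
    show (presheafToSheaf (QuotSh.J K S) (Type (u + 1))).map _ ≫
      (presheafToSheaf (QuotSh.J K S) (Type (u + 1))).map _ =
      (presheafToSheaf (QuotSh.J K S) (Type (u + 1))).map _ ≫
      (presheafToSheaf (QuotSh.J K S) (Type (u + 1))).map _
    rw [← Functor.map_comp, ← Functor.map_comp, orbProj_coeq]
  let d : QuotSh.quot K a.act (snd G X) ⟶ F := coequalizer.desc m hm
  have hπd : QuotSh.quotπ K a.act (snd G X) ≫ d = m := coequalizer.π_desc _ _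
  have hπq : QuotSh.quotπ K a.act (snd G X) ≫ QuotSh.quotDesc K q w = QuotSh.repMap K q :=
    coequalizer.π_desc _ _
  let e : QuotSh.rep K Y ⟶ F := inv (QuotSh.quotDesc K q w) ≫ d
  have hqe : QuotSh.repMap K q ≫ e = m := by
    rw [← hπq, Category.assoc, IsIso.hom_inv_id_assoc, hπd]
  have hN1 : orbProj a ≫ toSheafify (QuotSh.J K S) (orbPsh a) =
      toSheafify (QuotSh.J K S) _ ≫ m.hom := toSheafify_naturality (QuotSh.J K S) (orbProj a)
  have hN2 : Functor.whiskerRight (yoneda.map q) uliftFunctor.{u + 1, u} ≫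
      toSheafify (QuotSh.J K S) _ = toSheafify (QuotSh.J K S) _ ≫ (QuotSh.repMap K q).hom :=
    toSheafify_naturality (QuotSh.J K S) _
  have hm' : m.hom = (QuotSh.repMap K q).hom ≫ e.hom := by rw [← hqe]; rfl
  have h1 : ∀ x : T ⟶ X, (toSheafify (QuotSh.J K S) (orbPsh a)).app (op T)
      ((orbProj a).app (op T) (ULift.up x)) =
      e.hom.app (op T) ((toSheafify (QuotSh.J K S)
        (yoneda.obj Y ⋙ uliftFunctor.{u + 1, u})).app (op T) (ULift.up (x ≫ q))) := by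
    intro x
    have e1 : (toSheafify (QuotSh.J K S) (orbPsh a)).app (op T)
        ((orbProj a).app (op T) (ULift.up x)) =
        m.hom.app (op T) ((toSheafify (QuotSh.J K S)
          (yoneda.obj X ⋙ uliftFunctor.{u + 1, u})).app (op T) (ULift.up x)) :=
      congrArg (fun φ => φ.app (op T) (ULift.up x)) hN1
    have e2 : (toSheafify (QuotSh.J K S) (yoneda.obj Y ⋙ uliftFunctor.{u + 1, u})).app (op T)
        (ULift.up (x ≫ q)) = (QuotSh.repMap K q).hom.app (op T) ((toSheafify (QuotSh.J K S)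
          (yoneda.obj X ⋙ uliftFunctor.{u + 1, u})).app (op T) (ULift.up x)) :=
      congrArg (fun φ => φ.app (op T) (ULift.up x)) hN2
    rw [e1, e2, hm']
    rfl
  have key : (toSheafify (QuotSh.J K S) (orbPsh a)).app (op T)
      ((orbProj a).app (op T) (ULift.up x₁)) =
      (toSheafify (QuotSh.J K S) (orbPsh a)).app (op T)
        ((orbProj a).app (op T) (ULift.up x₂)) := by
    rw [h1 x₁, h1 x₂, h]
  have hmem := Presheaf.equalizerSieve_mem (QuotSh.J K S)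
    (toSheafify (QuotSh.J K S) (orbPsh a)) _ _ key
  rw [GrothendieckTopology.mem_over_iff,
    Precoverage.mem_toGrothendieck_iff_of_isStableUnderComposition] at hmem
  obtain ⟨R, hR, hle⟩ := hmem
  refine ⟨R, hR, fun V v hv => ?_⟩
  have h4 := hle _ _ hv
  rw [Sieve.overEquiv_iff] at h4
  have h5 : (orbPsh a).map (Over.homMk v rfl : Over.mk (v ≫ T.hom) ⟶ T).op
      ((orbProj a).app (op T) (ULift.up x₁)) =
      (orbPsh a).map (Over.homMk v rfl : Over.mk (v ≫ T.hom) ⟶ T).op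
        ((orbProj a).app (op T) (ULift.up x₂)) := h4
  exact Quotient.exact (congrArg ULift.down h5)

end Related

section Sections

/-- the affine line over `ℤ`. -/
noncomputable abbrev A1 : Scheme.{u} :=
  Spec (CommRingCat.of (MvPolynomial PUnit.{u + 1} (ULift.{u} ℤ)))

/-- global sections are morphisms to the affine line. -/
noncomputable def sec (T : Scheme.{u}) : (T ⟶ A1.{u}) ≃ Γ(T, ⊤) :=
  (AffineSpace.toSpecMvPolyIntEquiv PUnit.{u + 1}).trans (Equiv.funUnique PUnit.{u + 1} _)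

lemma sec_comp {T T' : Scheme.{u}} (f : T' ⟶ T) (g : T ⟶ A1.{u}) :
    sec T' (f ≫ g) = f.appTop (sec T g) :=
  AffineSpace.toSpecMvPolyIntEquiv_comp PUnit.{u + 1} f g default

theorem appTop_injective_of_effectiveEpi {A B : Scheme.{u}} (p : A ⟶ B) [EffectiveEpi p] :
    Function.Injective p.appTop := by
  intro s₁ s₂ hs
  have h1 : p ≫ (sec B).symm s₁ = p ≫ (sec B).symm s₂ := by
    apply (sec A).injective
    rw [sec_comp, sec_comp, Equiv.apply_symm_apply, Equiv.apply_symm_apply]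
    exact hs
  have h2 : (sec B).symm s₁ = (sec B).symm s₂ := (cancel_epi p).mp h1
  exact (sec B).symm.injective h2

theorem exists_appTop_eq_of_effectiveEpi {A B : Scheme.{u}} (p : A ⟶ B) [EffectiveEpi p]
    (h : Γ(A, ⊤))
    (hh : ∀ {T : Scheme.{u}} (l l' : T ⟶ A), l ≫ p = l' ≫ p → l.appTop h = l'.appTop h) :
    ∃ s : Γ(B, ⊤), p.appTop s = h := by
  have compat : ∀ {T : Scheme.{u}} (l l' : T ⟶ A), l ≫ p = l' ≫ p →
      l ≫ (sec A).symm h = l' ≫ (sec A).symm h := by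
    intro T l l' hl
    apply (sec T).injective
    rw [sec_comp, sec_comp, Equiv.apply_symm_apply]
    exact hh l l' hl
  refine ⟨sec B (EffectiveEpi.desc p ((sec A).symm h) compat), ?_⟩
  rw [← sec_comp, EffectiveEpi.fac, Equiv.apply_symm_apply]

/-- a morphism with local sections over an fppf covering restricts to effective epimorphisms
over the opens of the target. -/
theorem effectiveEpi_morphismRestrict {A B : Scheme.{u}} (f : A ⟶ B)
    (hf : ∃ R ∈ Scheme.fppfPrecoverage B, ∀ ⦃V : Scheme.{u}⦄ (g : V ⟶ B), R g →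
      ∃ l : V ⟶ A, l ≫ f = g) (U : B.Opens) : EffectiveEpi (f ∣_ U) := by
  obtain ⟨R, hR, hl⟩ := hf
  rw [← Sieve.effectiveEpimorphic_singleton,
    Presieve.EffectiveEpimorphic.iff_forall_isSheafFor_yoneda]
  intro Z
  refine (GrothendieckTopology.Subcanonical.isSheaf_of_isRepresentable
    (J := Scheme.fppfTopology) (yoneda.obj Z)).isSheafFor _ ?_
  have h1 : Sieve.pullback U.ι (Sieve.generate R) ∈ Scheme.fppfTopology U.toScheme :=
    Scheme.fppfTopology.pullback_stable U.ι (Precoverage.generate_mem_toGrothendieck hR)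
  refine Scheme.fppfTopology.superset_covering ?_ h1
  rintro T g ⟨V, h, v, hv, hcomp⟩
  obtain ⟨l, hl'⟩ := hl v hv
  have hw : g ≫ U.ι = (h ≫ l) ≫ f := by rw [Category.assoc, hl', hcomp]
  exact ⟨_, (isPullback_morphismRestrict f U).lift g (h ≫ l) hw, f ∣_ U, ⟨⟩,
    (isPullback_morphismRestrict f U).lift_fst _ _ _⟩

theorem hom_ext_of_cover {T Z : Scheme.{u}} {R : Presieve T}
    (hR : R ∈ Scheme.fppfPrecoverage T) (c₁ c₂ : T ⟶ Z)
    (hc : ∀ ⦃V : Scheme.{u}⦄ (v : V ⟶ T), R v → v ≫ c₁ = v ≫ c₂) : c₁ = c₂ := by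
  have hsh := (GrothendieckTopology.Subcanonical.isSheaf_of_isRepresentable
    (J := Scheme.fppfTopology) (yoneda.obj Z)).isSheafFor R
      (Precoverage.generate_mem_toGrothendieck hR)
  exact hsh.isSeparatedFor.ext (t₁ := c₁) (t₂ := c₂) (fun V v hv => hc v hv)

theorem section_ext_of_cover {T : Scheme.{u}} {R : Presieve T}
    (hR : R ∈ Scheme.fppfPrecoverage T) (s₁ s₂ : Γ(T, ⊤))
    (hs : ∀ ⦃V : Scheme.{u}⦄ (v : V ⟶ T), R v → v.appTop s₁ = v.appTop s₂) : s₁ = s₂ := by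
  have h1 : (sec T).symm s₁ = (sec T).symm s₂ := by
    refine hom_ext_of_cover hR _ _ (fun V v hv => ?_)
    apply (sec V).injective
    rw [sec_comp, sec_comp, Equiv.apply_symm_apply, Equiv.apply_symm_apply]
    exact hs v hv
  exact (sec T).symm.injective h1

theorem appLE_congr_hom {A B : Scheme.{u}} {f g : A ⟶ B} (h : f = g) (U : B.Opens) (V : A.Opens)
    (e₁ : V ≤ f ⁻¹ᵁ U) (e₂ : V ≤ g ⁻¹ᵁ U) : f.appLE U V e₁ = g.appLE U V e₂ := by
  subst h; rfl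

theorem appLE_top_top {T Z : Scheme.{u}} (l : T ⟶ Z) (e : (⊤ : T.Opens) ≤ l ⁻¹ᵁ ⊤) :
    l.appLE ⊤ ⊤ e = l.appTop := by
  have h1 : l.appLE ⊤ (l ⁻¹ᵁ ⊤) le_rfl = l.app ⊤ := Scheme.Hom.appLE_eq_app l
  exact h1

theorem top_le_preimage_ι {V X' : Scheme.{u}} (W : X'.Opens) (k : V ⟶ W.toScheme) :
    (⊤ : V.Opens) ≤ (k ≫ W.ι) ⁻¹ᵁ W := by
  rw [Scheme.Hom.comp_preimage, Scheme.Opens.ι_preimage_self]
  exact fun _ _ => trivial

theorem appTop_topIso_inv {T X' : Scheme.{u}} (W : X'.Opens) (l : T ⟶ W.toScheme)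
    (h : Γ(X', W)) (e : (⊤ : T.Opens) ≤ (l ≫ W.ι) ⁻¹ᵁ W) :
    l.appTop (W.topIso.inv h) = (l ≫ W.ι).appLE W ⊤ e h := by
  have e₁ : (⊤ : W.toScheme.Opens) ≤ W.ι ⁻¹ᵁ W := W.ι_preimage_self.ge
  have e₂ : (⊤ : T.Opens) ≤ l ⁻¹ᵁ ⊤ := fun _ _ => trivial
  have h1 : (l ≫ W.ι).appLE W ⊤ e = W.ι.appLE W ⊤ e₁ ≫ l.appLE ⊤ ⊤ e₂ :=
    (Scheme.Hom.appLE_comp_appLE l W.ι W ⊤ ⊤ e₁ e₂).symm
  have h2 : W.ι.appLE W ⊤ e₁ = W.topIso.inv := by
    rw [Scheme.Opens.ι_appLE]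
    exact congrArg X'.presheaf.map (Subsingleton.elim _ _)
  rw [h1, h2, appLE_top_top]
  rfl

theorem appLE_top_eq_of_inv {V P X' : Scheme.{u}} (z : V ⟶ P) (α β : P ⟶ X') (W : X'.Opens)
    (h : Γ(X', W))
    (hinv : α.appLE W (α ⁻¹ᵁ W ⊓ β ⁻¹ᵁ W) inf_le_left h =
      β.appLE W (α ⁻¹ᵁ W ⊓ β ⁻¹ᵁ W) inf_le_right h)
    (e₁ : (⊤ : V.Opens) ≤ (z ≫ α) ⁻¹ᵁ W) (e₂ : (⊤ : V.Opens) ≤ (z ≫ β) ⁻¹ᵁ W) :
    (z ≫ α).appLE W ⊤ e₁ h = (z ≫ β).appLE W ⊤ e₂ h := by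
  have e₀ : (⊤ : V.Opens) ≤ z ⁻¹ᵁ (α ⁻¹ᵁ W ⊓ β ⁻¹ᵁ W) := fun t ht => ⟨e₁ ht, e₂ ht⟩
  have h1 : (z ≫ α).appLE W ⊤ e₁ =
      α.appLE W (α ⁻¹ᵁ W ⊓ β ⁻¹ᵁ W) inf_le_left ≫ z.appLE _ ⊤ e₀ :=
    (Scheme.Hom.appLE_comp_appLE z α W _ ⊤ inf_le_left e₀).symm
  have h2 : (z ≫ β).appLE W ⊤ e₂ =
      β.appLE W (α ⁻¹ᵁ W ⊓ β ⁻¹ᵁ W) inf_le_right ≫ z.appLE _ ⊤ e₀ :=
    (Scheme.Hom.appLE_comp_appLE z β W _ ⊤ inf_le_right e₀).symm
  rw [h1, h2, CommRingCat.comp_apply, CommRingCat.comp_apply, hinv]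

theorem appLE_top_eq_of_inv' {V P X' : Scheme.{u}} (z : V ⟶ P) (α β : P ⟶ X') (W : X'.Opens)
    (h : Γ(X', W))
    (hinv : α.appLE W (α ⁻¹ᵁ W ⊓ β ⁻¹ᵁ W) inf_le_left h =
      β.appLE W (α ⁻¹ᵁ W ⊓ β ⁻¹ᵁ W) inf_le_right h)
    (m₁ m₂ : V ⟶ X') (hm₁ : z ≫ α = m₁) (hm₂ : z ≫ β = m₂)
    (e₁ : (⊤ : V.Opens) ≤ m₁ ⁻¹ᵁ W) (e₂ : (⊤ : V.Opens) ≤ m₂ ⁻¹ᵁ W) :
    m₁.appLE W ⊤ e₁ h = m₂.appLE W ⊤ e₂ h := by
  subst hm₁; subst hm₂
  exact appLE_top_eq_of_inv z α β W h hinv e₁ e₂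

theorem appLE_app_eq_of_comp_eq {P X' Y' : Scheme.{u}} (α β : P ⟶ X') (φ : X' ⟶ Y')
    (hαβ : α ≫ φ = β ≫ φ) (U : Y'.Opens) (V₀ : P.Opens) (e₁ : V₀ ≤ α ⁻¹ᵁ (φ ⁻¹ᵁ U))
    (e₂ : V₀ ≤ β ⁻¹ᵁ (φ ⁻¹ᵁ U)) (s : Γ(Y', U)) :
    α.appLE (φ ⁻¹ᵁ U) V₀ e₁ (φ.app U s) = β.appLE (φ ⁻¹ᵁ U) V₀ e₂ (φ.app U s) := by
  have h1 : φ.app U ≫ α.appLE (φ ⁻¹ᵁ U) V₀ e₁ = φ.app U ≫ β.appLE (φ ⁻¹ᵁ U) V₀ e₂ :=
    (Scheme.Hom.comp_appLE α φ U V₀ e₁).symm.trans
      ((appLE_congr_hom hαβ U V₀ e₁ e₂).trans (Scheme.Hom.comp_appLE β φ U V₀ e₂))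
  exact congrArg (fun ψ => ψ.hom s) h1

end Sections

section Main

variable {S : Scheme.{u}} {G X Y : Over S} [GrpObj G] (a : AlgGrp.Action G X) (q : X ⟶ Y)
  (hq : QuotSh.IsQuotient Scheme.fppfPrecoverage a.act (snd G X) q)
include hq

/-- local sections of `q` over an fppf covering. -/
theorem exists_cover_lift : ∃ R ∈ Scheme.fppfPrecoverage Y.left,
    ∀ ⦃V : Scheme.{u}⦄ (g : V ⟶ Y.left), R g →
      ∃ l : Over.mk (g ≫ Y.hom) ⟶ X, l.left ≫ q.left = g := by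
  obtain ⟨w, hiso⟩ := hq
  haveI := hiso
  have hepi : Epi (QuotSh.repMap Scheme.fppfPrecoverage q) := by
    have hπ : QuotSh.quotπ Scheme.fppfPrecoverage a.act (snd G X) ≫
        QuotSh.quotDesc Scheme.fppfPrecoverage q w = QuotSh.repMap Scheme.fppfPrecoverage q :=
      coequalizer.π_desc _ _
    rw [← hπ]
    haveI : Epi (QuotSh.quotπ Scheme.fppfPrecoverage a.act (snd G X)) := coequalizer.π_epi
    infer_instance
  exact Groth.Agent.Lib.Helper12.QuotShLib.exists_cover_of_epi Scheme.fppfPrecoverage q hepi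

theorem surjective_left : Function.Surjective q.left.base := by
  obtain ⟨R, hR, hlift⟩ := exists_cover_lift a q hq
  obtain ⟨I, Z, φ, rfl⟩ := Presieve.exists_eq_ofArrows R
  let 𝒰 : Scheme.Cover Scheme.fppfPrecoverage Y.left := ⟨⟨I, Z, φ⟩, hR⟩
  intro y
  obtain ⟨j, z, hz⟩ := 𝒰.exists_eq y
  obtain ⟨l, hl⟩ := hlift (φ j) ⟨j⟩
  refine ⟨l.left z, ?_⟩
  show (l.left ≫ q.left) z = y
  rw [hl]
  exact hz

theorem orbit_surjective (inv : GIT.IsInvariant a q) :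
    Function.Surjective (GIT.PsiY a q inv).base := by
  have hx₂ : pullback.snd q.left q.left ≫ X.hom = pullback.fst q.left q.left ≫ X.hom := by
    rw [← Over.w q, ← Category.assoc, ← Category.assoc, pullback.condition]
  let P : Over S := Over.mk (pullback.fst q.left q.left ≫ X.hom)
  let x₁ : P ⟶ X := Over.homMk (pullback.fst q.left q.left) rfl
  let x₂ : P ⟶ X := Over.homMk (pullback.snd q.left q.left) hx₂
  have hx : x₁ ≫ q = x₂ ≫ q := by
    apply Over.OverMorphism.ext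
    show pullback.fst q.left q.left ≫ q.left = pullback.snd q.left q.left ≫ q.left
    exact pullback.condition
  obtain ⟨R, hR, hrel⟩ := exists_cover_related Scheme.fppfPrecoverage a q hq x₁ x₂ hx
  obtain ⟨I, Z, φ, rfl⟩ := Presieve.exists_eq_ofArrows R
  let 𝒰 : Scheme.Cover Scheme.fppfPrecoverage P.left := ⟨⟨I, Z, φ⟩, hR⟩
  intro z
  obtain ⟨j, t, ht⟩ := 𝒰.exists_eq z
  obtain ⟨g, hg⟩ := hrel (φ j) ⟨j⟩
  have h1 : (lift g ((Over.homMk (φ j) rfl : Over.mk (φ j ≫ P.hom) ⟶ P) ≫ x₂)).left ≫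
      GIT.PsiY a q inv = φ j := by
    apply pullback.hom_ext
    · rw [Category.assoc]
      unfold GIT.PsiY
      rw [pullback.lift_fst, ← Over.comp_left, hg]
      rfl
    · rw [Category.assoc]
      unfold GIT.PsiY
      rw [pullback.lift_snd, ← Over.comp_left, lift_snd]
      rfl
  refine ⟨(lift g ((Over.homMk (φ j) rfl : Over.mk (φ j ≫ P.hom) ⟶ P) ≫ x₂)).left t, ?_⟩
  show ((lift g ((Over.homMk (φ j) rfl : Over.mk (φ j ≫ P.hom) ⟶ P) ≫ x₂)).left ≫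
    GIT.PsiY a q inv) t = z
  rw [h1]
  exact ht

theorem univSubmersive : GIT.IsUnivSubmersive q.left := by
  obtain ⟨R, hR, hlift⟩ := exists_cover_lift a q hq
  obtain ⟨I, Z, φ, rfl⟩ := Presieve.exists_eq_ofArrows R
  let 𝒰 : Scheme.Cover Scheme.fppfPrecoverage Y.left := ⟨⟨I, Z, φ⟩, hR⟩
  intro X' Y' i₁ i₂ f' hpb
  have hsec : ∀ y' : Y', ∃ (W : Scheme.{u}) (pr : W ⟶ Y') (s' : W ⟶ X') (t : W),
      IsOpenMap pr ∧ s' ≫ f' = pr ∧ pr t = y' := by
    intro y'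
    obtain ⟨j, z, hz⟩ := 𝒰.exists_eq (i₂ y')
    obtain ⟨l, hl⟩ := hlift (φ j) ⟨j⟩
    have hφ : Flat (φ j) ∧ LocallyOfFinitePresentation (φ j) := 𝒰.map_prop j
    haveI := hφ.1
    haveI := hφ.2
    obtain ⟨t, -, ht2⟩ := Scheme.Pullback.exists_preimage_pullback (f := φ j) (g := i₂) z y' hz
    refine ⟨pullback (φ j) i₂, pullback.snd (φ j) i₂,
      hpb.lift (pullback.snd _ _) (pullback.fst _ _ ≫ l.left) ?_, t, ?_, hpb.lift_fst _ _ _, ht2⟩
    · rw [Category.assoc, hl, pullback.condition]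
    · exact (pullback.snd (φ j) i₂).isOpenMap
  show Topology.IsQuotientMap f'
  refine ⟨Topology.isCoinducing_iff.mpr (fun V => ⟨fun hV => ?_, fun hV => hV.preimage f'.continuous⟩),
    fun y' => ?_⟩
  · rw [isOpen_iff_forall_mem_open]
    intro y' hy'
    obtain ⟨W, pr, s', t, hopen, hs, ht⟩ := hsec y'
    refine ⟨pr '' (pr ⁻¹' V), Set.image_preimage_subset _ _, ?_, ⟨t, ?_, ht⟩⟩
    · apply hopen
      have h2 : (pr : W → Y') ⁻¹' V = (s' : W → X') ⁻¹' ((f' : X' → Y') ⁻¹' V) := by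
        ext w
        have h3 : f' (s' w) = pr w := congrArg (fun φ : W ⟶ Y' => φ w) hs
        simp only [Set.mem_preimage, h3]
      rw [h2]
      exact hV.preimage s'.continuous
    · show pr t ∈ V
      rw [ht]
      exact hy'
  · obtain ⟨W, pr, s', t, -, hs, ht⟩ := hsec y'
    refine ⟨s' t, ?_⟩
    show (s' ≫ f') t = y'
    rw [hs]
    exact ht

theorem compat_aux (U : Y.left.Opens) (h : Γ(X.left, q.left ⁻¹ᵁ U))
    (hinv : GIT.IsInvSection a q U h) {T : Scheme.{u}} (l l' : T ⟶ (q.left ⁻¹ᵁ U).toScheme)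
    (hl : l ≫ (q.left ∣_ U) = l' ≫ (q.left ∣_ U)) :
    l.appTop ((q.left ⁻¹ᵁ U).topIso.inv h) = l'.appTop ((q.left ⁻¹ᵁ U).topIso.inv h) := by
  have hx : (l ≫ (q.left ⁻¹ᵁ U).ι) ≫ q.left = (l' ≫ (q.left ⁻¹ᵁ U).ι) ≫ q.left := by
    rw [Category.assoc, Category.assoc, ← morphismRestrict_ι, ← Category.assoc, hl,
      Category.assoc]
  have hX : X.hom = q.left ≫ Y.hom := (Over.w q).symm
  have hx₂ : (l' ≫ (q.left ⁻¹ᵁ U).ι) ≫ X.hom = (l ≫ (q.left ⁻¹ᵁ U).ι) ≫ X.hom := by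
    rw [hX, ← Category.assoc, ← Category.assoc, hx]
  let T' : Over S := Over.mk ((l ≫ (q.left ⁻¹ᵁ U).ι) ≫ X.hom)
  let x₁ : T' ⟶ X := Over.homMk (l ≫ (q.left ⁻¹ᵁ U).ι) rfl
  let x₂ : T' ⟶ X := Over.homMk (l' ≫ (q.left ⁻¹ᵁ U).ι) hx₂
  have hxq : x₁ ≫ q = x₂ ≫ q := by
    apply Over.OverMorphism.ext
    exact hx
  obtain ⟨R, hR, hrel⟩ := exists_cover_related Scheme.fppfPrecoverage a q hq x₁ x₂ hxq
  refine section_ext_of_cover (T := T) hR _ _ (fun V v hv => ?_)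
  obtain ⟨g, hg⟩ := hrel v hv
  have hz1 : (lift g ((Over.homMk v rfl : Over.mk (v ≫ T'.hom) ⟶ T') ≫ x₂)).left ≫ a.act.left =
      (v ≫ l) ≫ (q.left ⁻¹ᵁ U).ι :=
    (congrArg CommaMorphism.left hg).trans (Category.assoc v l _).symm
  have hz2 : (lift g ((Over.homMk v rfl : Over.mk (v ≫ T'.hom) ⟶ T') ≫ x₂)).left ≫
      (snd G X).left = (v ≫ l') ≫ (q.left ⁻¹ᵁ U).ι :=
    (congrArg CommaMorphism.left (lift_snd g
      ((Over.homMk v rfl : Over.mk (v ≫ T'.hom) ⟶ T') ≫ x₂))).trans (Category.assoc v l' _).symm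
  have e1 : v.appTop (l.appTop ((q.left ⁻¹ᵁ U).topIso.inv h)) =
      (v ≫ l).appTop ((q.left ⁻¹ᵁ U).topIso.inv h) := rfl
  have e2 : v.appTop (l'.appTop ((q.left ⁻¹ᵁ U).topIso.inv h)) =
      (v ≫ l').appTop ((q.left ⁻¹ᵁ U).topIso.inv h) := rfl
  rw [e1, e2, appTop_topIso_inv _ (v ≫ l) h (top_le_preimage_ι _ _),
    appTop_topIso_inv _ (v ≫ l') h (top_le_preimage_ι _ _)]
  exact appLE_top_eq_of_inv' _ a.act.left (snd G X).left (q.left ⁻¹ᵁ U) h hinv _ _ hz1 hz2 _ _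

theorem sections_aux (U : Y.left.Opens) :
    Function.Injective (q.left.app U) ∧
      Set.range (q.left.app U) = {f | GIT.IsInvSection a q U f} := by
  have inv : GIT.IsInvariant a q := by
    obtain ⟨w, -⟩ := hq
    exact w
  haveI hEE : EffectiveEpi (q.left ∣_ U) := by
    refine effectiveEpi_morphismRestrict q.left ?_ U
    obtain ⟨R, hR, hl⟩ := exists_cover_lift a q hq
    exact ⟨R, hR, fun V g hg => (hl g hg).elim fun l hl' => ⟨l.left, hl'⟩⟩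
  have hrel : (q.left ∣_ U).appTop =
      U.topIso.hom ≫ q.left.app U ≫ (q.left ⁻¹ᵁ U).topIso.inv := by
    have h1 := Scheme.Hom.resLE_app_top q.left (U := U) (V := q.left ⁻¹ᵁ U) le_rfl
    rw [Scheme.Hom.resLE_eq_morphismRestrict, Scheme.Hom.appLE_eq_app] at h1
    exact h1
  have hrel2 : U.topIso.inv ≫ (q.left ∣_ U).appTop =
      q.left.app U ≫ (q.left ⁻¹ᵁ U).topIso.inv := by
    rw [hrel, Iso.inv_hom_id_assoc]
  have hrelApp : ∀ s : Γ(Y.left, U), (q.left ∣_ U).appTop (U.topIso.inv s) =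
      (q.left ⁻¹ᵁ U).topIso.inv (q.left.app U s) :=
    fun s => congrArg (fun ψ => ψ.hom s) hrel2
  have hU : ∀ s : Γ(Y.left, U), U.topIso.hom (U.topIso.inv s) = s :=
    fun s => congrArg (fun ψ => ψ.hom s) U.topIso.inv_hom_id
  have hW : ∀ x : Γ(X.left, q.left ⁻¹ᵁ U),
      (q.left ⁻¹ᵁ U).topIso.hom ((q.left ⁻¹ᵁ U).topIso.inv x) = x :=
    fun x => congrArg (fun ψ => ψ.hom x) (q.left ⁻¹ᵁ U).topIso.inv_hom_id
  refine ⟨fun s₁ s₂ hs => ?_, Set.Subset.antisymm ?_ ?_⟩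
  · have h1 : (q.left ∣_ U).appTop (U.topIso.inv s₁) =
        (q.left ∣_ U).appTop (U.topIso.inv s₂) := by
      rw [hrelApp, hrelApp, hs]
    have h2 : U.topIso.inv s₁ = U.topIso.inv s₂ :=
      appTop_injective_of_effectiveEpi (q.left ∣_ U) h1
    exact (hU s₁).symm.trans ((congrArg (fun x => U.topIso.hom x) h2).trans (hU s₂))
  · rintro _ ⟨s, rfl⟩
    show GIT.IsInvSection a q U (q.left.app U s)
    exact appLE_app_eq_of_comp_eq a.act.left (snd G X).left q.left inv.left U _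
      inf_le_left inf_le_right s
  · intro h hh
    obtain ⟨s', hs'⟩ := exists_appTop_eq_of_effectiveEpi (q.left ∣_ U)
      ((q.left ⁻¹ᵁ U).topIso.inv h) (fun l l' hl => compat_aux a q hq U h hh l l' hl)
    refine ⟨U.topIso.hom s', ?_⟩
    have h5 : (q.left ⁻¹ᵁ U).topIso.inv (q.left.app U (U.topIso.hom s')) =
        (q.left ⁻¹ᵁ U).topIso.inv h :=
      (congrArg (fun ψ => ψ.hom s') hrel).symm.trans hs'
    exact (hW _).symm.trans
      ((congrArg (fun x => (q.left ⁻¹ᵁ U).topIso.hom x) h5).trans (hW h))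

theorem main : GIT.IsGeomQuot a q := by
  have inv : GIT.IsInvariant a q := by
    obtain ⟨w, -⟩ := hq
    exact w
  exact ⟨inv, surjective_left a q hq, orbit_surjective a q hq inv, univSubmersive a q hq,
    fun U => sections_aux a q hq U⟩

end Main

end Groth.Agent.Lib.Helper8GeomQuot
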