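import Mathlib
import Groth.Prelude
import Groth.Agent.Lib.Helper8GeomQuot

/-! helper9: fpqc descent of sections over opens (towards S18507). -/
set_option autoImplicit false
set_option linter.style.haveILetI false
universe u
open CategoryTheory CategoryTheory.Limits AlgebraicGeometry Opposite

namespace Groth.Agent.Lib.H9GqDescA

open Groth.Agent.Lib.Helper8GeomQuot

section fpqc

variable {A B : Scheme.{u}} (p : A ⟶ B) [Flat p] [Surjective p] [QuasiCompact p]

instance (U : B.Opens) : Flat (p ∣_ U) :=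
  MorphismProperty.of_isPullback (P := @Flat) (isPullback_morphismRestrict p U).flip inferInstance

instance (U : B.Opens) : Surjective (p ∣_ U) :=
  MorphismProperty.of_isPullback (P := @Surjective) (isPullback_morphismRestrict p U).flip
    inferInstance

instance (U : B.Opens) : QuasiCompact (p ∣_ U) :=
  MorphismProperty.of_isPullback (P := @QuasiCompact) (isPullback_morphismRestrict p U).flip
    inferInstance

theorem appTop_morphismRestrict (U : B.Opens) : (p ∣_ U).appTop =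
    U.topIso.hom ≫ p.app U ≫ (p ⁻¹ᵁ U).topIso.inv := by
  have h1 := Scheme.Hom.resLE_app_top p (U := U) (V := p ⁻¹ᵁ U) le_rfl
  rw [Scheme.Hom.resLE_eq_morphismRestrict, Scheme.Hom.appLE_eq_app] at h1
  exact h1

theorem appTop_morphismRestrict_apply (U : B.Opens) (s : Γ(B, U)) :
    (p ∣_ U).appTop (U.topIso.inv s) = (p ⁻¹ᵁ U).topIso.inv (p.app U s) := by
  have hrel2 : U.topIso.inv ≫ (p ∣_ U).appTop = p.app U ≫ (p ⁻¹ᵁ U).topIso.inv := by
    rw [appTop_morphismRestrict, Iso.inv_hom_id_assoc]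
  exact congrArg (fun ψ => ψ.hom s) hrel2

/-- fpqc morphisms are injective on sections over every open -/
theorem app_injective_of_fpqc (U : B.Opens) : Function.Injective (p.app U) := by
  haveI : EffectiveEpi (p ∣_ U) := inferInstance
  intro s₁ s₂ hs
  have hU : ∀ s : Γ(B, U), U.topIso.hom (U.topIso.inv s) = s :=
    fun s => congrArg (fun ψ => ψ.hom s) U.topIso.inv_hom_id
  have h1 : (p ∣_ U).appTop (U.topIso.inv s₁) = (p ∣_ U).appTop (U.topIso.inv s₂) := by
    rw [appTop_morphismRestrict_apply, appTop_morphismRestrict_apply, hs]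
  have h2 : U.topIso.inv s₁ = U.topIso.inv s₂ :=
    appTop_injective_of_effectiveEpi (p ∣_ U) h1
  exact (hU s₁).symm.trans ((congrArg (fun x => U.topIso.hom x) h2).trans (hU s₂))

/-- fpqc descent of sections over an open -/
theorem exists_app_eq_of_fpqc (U : B.Opens) (h' : Γ(A, p ⁻¹ᵁ U))
    (hh : (pullback.fst p p).appLE (p ⁻¹ᵁ U)
        ((pullback.fst p p) ⁻¹ᵁ (p ⁻¹ᵁ U) ⊓ (pullback.snd p p) ⁻¹ᵁ (p ⁻¹ᵁ U)) inf_le_left h' =
      (pullback.snd p p).appLE (p ⁻¹ᵁ U)
        ((pullback.fst p p) ⁻¹ᵁ (p ⁻¹ᵁ U) ⊓ (pullback.snd p p) ⁻¹ᵁ (p ⁻¹ᵁ U)) inf_le_right h') :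
    ∃ h : Γ(B, U), p.app U h = h' := by
  haveI : EffectiveEpi (p ∣_ U) := inferInstance
  have hW : ∀ x : Γ(A, p ⁻¹ᵁ U), (p ⁻¹ᵁ U).topIso.hom ((p ⁻¹ᵁ U).topIso.inv x) = x :=
    fun x => congrArg (fun ψ => ψ.hom x) (p ⁻¹ᵁ U).topIso.inv_hom_id
  obtain ⟨s', hs'⟩ := exists_appTop_eq_of_effectiveEpi (p ∣_ U) ((p ⁻¹ᵁ U).topIso.inv h')
    (fun {T} l l' hl => by
      have hx : (l ≫ (p ⁻¹ᵁ U).ι) ≫ p = (l' ≫ (p ⁻¹ᵁ U).ι) ≫ p := by
        rw [Category.assoc, Category.assoc, ← morphismRestrict_ι, ← Category.assoc, hl,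
          Category.assoc]
      rw [appTop_topIso_inv _ l h' (top_le_preimage_ι _ _),
        appTop_topIso_inv _ l' h' (top_le_preimage_ι _ _)]
      exact appLE_top_eq_of_inv' (pullback.lift _ _ hx) (pullback.fst p p) (pullback.snd p p)
        (p ⁻¹ᵁ U) h' hh _ _ (pullback.lift_fst _ _ _) (pullback.lift_snd _ _ _) _ _)
  refine ⟨U.topIso.hom s', ?_⟩
  have h5 : (p ⁻¹ᵁ U).topIso.inv (p.app U (U.topIso.hom s')) = (p ⁻¹ᵁ U).topIso.inv h' :=
    (congrArg (fun ψ => ψ.hom s') (appTop_morphismRestrict p U)).symm.trans hs'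
  exact (hW _).symm.trans ((congrArg (fun x => (p ⁻¹ᵁ U).topIso.hom x) h5).trans (hW h'))

end fpqc

end Groth.Agent.Lib.H9GqDescA
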