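import Mathlib
import Groth.Prelude
import Groth.Agent.Lib.H9GqDescA

/-! helper9: descent of `O_Y ≅ (φ_* O_X)^G`-type statements along fpqc base change. -/
set_option autoImplicit false
set_option linter.style.haveILetI false
universe u
open CategoryTheory CategoryTheory.Limits AlgebraicGeometry Opposite

namespace Groth.Agent.Lib.H9GqDescB

open Groth.Agent.Lib.Helper8GeomQuot Groth.Agent.Lib.H9GqDescA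

theorem isSchemeTheoreticallyDominant_of_app_injective {X Y : Scheme.{u}} (f : X ⟶ Y)
    (hinj : ∀ V : Y.Opens, Function.Injective (f.app V)) : IsSchemeTheoreticallyDominant f := by
  refine ⟨Scheme.IdealSheafData.ext ?_⟩
  funext U
  rw [Scheme.IdealSheafData.ideal_bot, Pi.bot_apply, ← le_bot_iff]
  refine (Scheme.Hom.ideal_ker_le f U).trans ?_
  rw [le_bot_iff]
  exact (RingHom.injective_iff_ker_eq_bot _).mp (hinj U.1)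

section sq

variable {X Y X' Y' : Scheme.{u}} {pr : X' ⟶ X} {φ' : X' ⟶ Y'} {φ : X ⟶ Y} {α : Y' ⟶ Y}
  (hpb : IsPullback pr φ' φ α)

include hpb in
theorem preimage_le (U : Y.Opens) : φ' ⁻¹ᵁ (α ⁻¹ᵁ U) ≤ pr ⁻¹ᵁ (φ ⁻¹ᵁ U) := by
  intro x hx
  show φ (pr x) ∈ U
  rw [← Scheme.Hom.comp_apply, hpb.w, Scheme.Hom.comp_apply]
  exact hx

include hpb in
theorem appLE_app (U : Y.Opens) (s : Γ(Y, U)) :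
    pr.appLE (φ ⁻¹ᵁ U) (φ' ⁻¹ᵁ (α ⁻¹ᵁ U)) (preimage_le hpb U) (φ.app U s) =
      φ'.app (α ⁻¹ᵁ U) (α.app U s) := by
  have h1 : φ.app U ≫ pr.appLE (φ ⁻¹ᵁ U) (φ' ⁻¹ᵁ (α ⁻¹ᵁ U)) (preimage_le hpb U) =
      α.app U ≫ φ'.app (α ⁻¹ᵁ U) := by
    rw [← Scheme.Hom.comp_appLE, ← Scheme.Hom.comp_app, ← Scheme.Hom.appLE_eq_app]
    exact appLE_congr_hom hpb.w U _ _ _
  exact congrArg (fun ψ => ψ.hom s) h1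

include hpb in
/-- the cocycle condition for a section `h'` whose pullback to `X'` comes from `X` -/
theorem cocycle [Flat α] [QuasiCompact φ'] (hinj : ∀ V : Y'.Opens, Function.Injective (φ'.app V))
    (U : Y.Opens) (f : Γ(X, φ ⁻¹ᵁ U)) (h' : Γ(Y', α ⁻¹ᵁ U))
    (hh' : φ'.app (α ⁻¹ᵁ U) h' =
      pr.appLE (φ ⁻¹ᵁ U) (φ' ⁻¹ᵁ (α ⁻¹ᵁ U)) (preimage_le hpb U) f) :
    (pullback.fst α α).appLE (α ⁻¹ᵁ U)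
        ((pullback.fst α α) ⁻¹ᵁ (α ⁻¹ᵁ U) ⊓ (pullback.snd α α) ⁻¹ᵁ (α ⁻¹ᵁ U)) inf_le_left h' =
      (pullback.snd α α).appLE (α ⁻¹ᵁ U)
        ((pullback.fst α α) ⁻¹ᵁ (α ⁻¹ᵁ U) ⊓ (pullback.snd α α) ⁻¹ᵁ (α ⁻¹ᵁ U)) inf_le_right h' := by
  set p₁ := pullback.fst α α with hp₁
  set p₂ := pullback.snd α α with hp₂
  set c := p₁ ≫ α with hc
  set τ := pullback.fst φ c with hτ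
  set ρ := pullback.snd φ c with hρ
  have hc₁ : τ ≫ φ = (ρ ≫ p₁) ≫ α := by rw [Category.assoc]; exact pullback.condition
  have hc₂ : τ ≫ φ = (ρ ≫ p₂) ≫ α := by
    rw [Category.assoc, ← pullback.condition (f := α) (g := α)]; exact pullback.condition
  let q₁ : pullback φ c ⟶ X' := hpb.lift τ (ρ ≫ p₁) hc₁
  let q₂ : pullback φ c ⟶ X' := hpb.lift τ (ρ ≫ p₂) hc₂
  have hq₁ : q₁ ≫ pr = τ := hpb.lift_fst _ _ _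
  have hq₂ : q₂ ≫ pr = τ := hpb.lift_fst _ _ _
  have hq₁' : q₁ ≫ φ' = ρ ≫ p₁ := hpb.lift_snd _ _ _
  have hq₂' : q₂ ≫ φ' = ρ ≫ p₂ := hpb.lift_snd _ _ _
  have hsq : IsPullback q₁ ρ φ' p₁ := by
    refine IsPullback.of_right (h₁₂ := pr) (h₂₂ := α) ?_ hq₁' hpb
    rw [hq₁]
    exact IsPullback.of_hasPullback φ c
  haveI : IsSchemeTheoreticallyDominant φ' := isSchemeTheoreticallyDominant_of_app_injective φ' hinj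
  haveI : Flat p₁ := by rw [hp₁]; infer_instance
  haveI : IsSchemeTheoreticallyDominant ρ := IsSchemeTheoreticallyDominant.of_isPullback hsq
  haveI : QuasiCompact ρ := MorphismProperty.of_isPullback (P := @QuasiCompact) hsq inferInstance
  apply ρ.app_injective (p₁ ⁻¹ᵁ (α ⁻¹ᵁ U) ⊓ p₂ ⁻¹ᵁ (α ⁻¹ᵁ U))
  have e₁ : ρ ⁻¹ᵁ (p₁ ⁻¹ᵁ (α ⁻¹ᵁ U) ⊓ p₂ ⁻¹ᵁ (α ⁻¹ᵁ U)) ≤ q₁ ⁻¹ᵁ (φ' ⁻¹ᵁ (α ⁻¹ᵁ U)) := by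
    intro x hx
    show φ' (q₁ x) ∈ α ⁻¹ᵁ U
    rw [← Scheme.Hom.comp_apply, hq₁', Scheme.Hom.comp_apply]
    exact hx.1
  have e₂ : ρ ⁻¹ᵁ (p₁ ⁻¹ᵁ (α ⁻¹ᵁ U) ⊓ p₂ ⁻¹ᵁ (α ⁻¹ᵁ U)) ≤ q₂ ⁻¹ᵁ (φ' ⁻¹ᵁ (α ⁻¹ᵁ U)) := by
    intro x hx
    show φ' (q₂ x) ∈ α ⁻¹ᵁ U
    rw [← Scheme.Hom.comp_apply, hq₂', Scheme.Hom.comp_apply]
    exact hx.2
  have key₁ : ρ.app (p₁ ⁻¹ᵁ (α ⁻¹ᵁ U) ⊓ p₂ ⁻¹ᵁ (α ⁻¹ᵁ U)) (p₁.appLE (α ⁻¹ᵁ U) (p₁ ⁻¹ᵁ (α ⁻¹ᵁ U) ⊓ p₂ ⁻¹ᵁ (α ⁻¹ᵁ U)) inf_le_left h') =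
      q₁.appLE (φ' ⁻¹ᵁ (α ⁻¹ᵁ U)) (ρ ⁻¹ᵁ (p₁ ⁻¹ᵁ (α ⁻¹ᵁ U) ⊓ p₂ ⁻¹ᵁ (α ⁻¹ᵁ U))) e₁ (φ'.app (α ⁻¹ᵁ U) h') := by
    have : p₁.appLE (α ⁻¹ᵁ U) (p₁ ⁻¹ᵁ (α ⁻¹ᵁ U) ⊓ p₂ ⁻¹ᵁ (α ⁻¹ᵁ U)) inf_le_left ≫ ρ.app (p₁ ⁻¹ᵁ (α ⁻¹ᵁ U) ⊓ p₂ ⁻¹ᵁ (α ⁻¹ᵁ U)) = φ'.app (α ⁻¹ᵁ U) ≫ q₁.appLE (φ' ⁻¹ᵁ (α ⁻¹ᵁ U)) (ρ ⁻¹ᵁ (p₁ ⁻¹ᵁ (α ⁻¹ᵁ U) ⊓ p₂ ⁻¹ᵁ (α ⁻¹ᵁ U))) e₁ := by
      rw [← Scheme.Hom.appLE_eq_app, Scheme.Hom.appLE_comp_appLE, ← Scheme.Hom.comp_appLE]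
      exact appLE_congr_hom hq₁'.symm (α ⁻¹ᵁ U) _ _ _
    exact congrArg (fun ψ => ψ.hom h') this
  have key₂ : ρ.app (p₁ ⁻¹ᵁ (α ⁻¹ᵁ U) ⊓ p₂ ⁻¹ᵁ (α ⁻¹ᵁ U)) (p₂.appLE (α ⁻¹ᵁ U) (p₁ ⁻¹ᵁ (α ⁻¹ᵁ U) ⊓ p₂ ⁻¹ᵁ (α ⁻¹ᵁ U)) inf_le_right h') =
      q₂.appLE (φ' ⁻¹ᵁ (α ⁻¹ᵁ U)) (ρ ⁻¹ᵁ (p₁ ⁻¹ᵁ (α ⁻¹ᵁ U) ⊓ p₂ ⁻¹ᵁ (α ⁻¹ᵁ U))) e₂ (φ'.app (α ⁻¹ᵁ U) h') := by
    have : p₂.appLE (α ⁻¹ᵁ U) (p₁ ⁻¹ᵁ (α ⁻¹ᵁ U) ⊓ p₂ ⁻¹ᵁ (α ⁻¹ᵁ U)) inf_le_right ≫ ρ.app (p₁ ⁻¹ᵁ (α ⁻¹ᵁ U) ⊓ p₂ ⁻¹ᵁ (α ⁻¹ᵁ U)) = φ'.app (α ⁻¹ᵁ U) ≫ q₂.appLE (φ' ⁻¹ᵁ (α ⁻¹ᵁ U)) (ρ ⁻¹ᵁ (p₁ ⁻¹ᵁ (α ⁻¹ᵁ U) ⊓ p₂ ⁻¹ᵁ (α ⁻¹ᵁ U))) e₂ := by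
      rw [← Scheme.Hom.appLE_eq_app, Scheme.Hom.appLE_comp_appLE, ← Scheme.Hom.comp_appLE]
      exact appLE_congr_hom hq₂'.symm (α ⁻¹ᵁ U) _ _ _
    exact congrArg (fun ψ => ψ.hom h') this
  rw [key₁, key₂, hh']
  have k₁ : pr.appLE (φ ⁻¹ᵁ U) (φ' ⁻¹ᵁ (α ⁻¹ᵁ U)) (preimage_le hpb U) ≫
      q₁.appLE (φ' ⁻¹ᵁ (α ⁻¹ᵁ U)) (ρ ⁻¹ᵁ (p₁ ⁻¹ᵁ (α ⁻¹ᵁ U) ⊓ p₂ ⁻¹ᵁ (α ⁻¹ᵁ U))) e₁ =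
      pr.appLE (φ ⁻¹ᵁ U) (φ' ⁻¹ᵁ (α ⁻¹ᵁ U)) (preimage_le hpb U) ≫
      q₂.appLE (φ' ⁻¹ᵁ (α ⁻¹ᵁ U)) (ρ ⁻¹ᵁ (p₁ ⁻¹ᵁ (α ⁻¹ᵁ U) ⊓ p₂ ⁻¹ᵁ (α ⁻¹ᵁ U))) e₂ := by
    rw [Scheme.Hom.appLE_comp_appLE, Scheme.Hom.appLE_comp_appLE]
    exact appLE_congr_hom (hq₁.trans hq₂.symm) _ _ _ _
  exact congrArg (fun ψ => ψ.hom f) k₁

include hpb in
/-- sections descend along an fpqc base change -/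
theorem sections_descend [Flat α] [Surjective α] [QuasiCompact α] [QuasiCompact φ']
    (hinj : ∀ V : Y'.Opens, Function.Injective (φ'.app V)) (U : Y.Opens) :
    Function.Injective (φ.app U) ∧ ∀ f : Γ(X, φ ⁻¹ᵁ U),
      (∃ h' : Γ(Y', α ⁻¹ᵁ U), φ'.app (α ⁻¹ᵁ U) h' =
        pr.appLE (φ ⁻¹ᵁ U) (φ' ⁻¹ᵁ (α ⁻¹ᵁ U)) (preimage_le hpb U) f) →
      ∃ h : Γ(Y, U), φ.app U h = f := by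
  haveI : Flat pr := MorphismProperty.of_isPullback (P := @Flat) hpb.flip inferInstance
  haveI : Surjective pr := MorphismProperty.of_isPullback (P := @Surjective) hpb.flip inferInstance
  haveI : QuasiCompact pr :=
    MorphismProperty.of_isPullback (P := @QuasiCompact) hpb.flip inferInstance
  have heq : φ' ⁻¹ᵁ (α ⁻¹ᵁ U) = pr ⁻¹ᵁ (φ ⁻¹ᵁ U) := by
    apply le_antisymm (preimage_le hpb U)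
    intro x hx
    show α (φ' x) ∈ U
    rw [← Scheme.Hom.comp_apply, ← hpb.w, Scheme.Hom.comp_apply]
    exact hx
  have hprinj : Function.Injective
      (pr.appLE (φ ⁻¹ᵁ U) (φ' ⁻¹ᵁ (α ⁻¹ᵁ U)) (preimage_le hpb U)) := by
    have h2 : pr.appLE (φ ⁻¹ᵁ U) (φ' ⁻¹ᵁ (α ⁻¹ᵁ U)) (preimage_le hpb U) =
        pr.app (φ ⁻¹ᵁ U) ≫ X'.presheaf.map (homOfLE (preimage_le hpb U)).op := rfl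
    have h3 : IsIso (X'.presheaf.map (homOfLE (preimage_le hpb U)).op) := by
      have : (homOfLE (preimage_le hpb U)) = eqToHom heq := Subsingleton.elim _ _
      rw [this]
      infer_instance
    rw [h2]
    intro a b hab
    rw [CommRingCat.comp_apply, CommRingCat.comp_apply] at hab
    exact app_injective_of_fpqc pr _ ((ConcreteCategory.bijective_of_isIso _).1 hab)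
  refine ⟨fun s₁ s₂ hs => ?_, fun f ⟨h', hh'⟩ => ?_⟩
  · apply app_injective_of_fpqc α U
    apply hinj (α ⁻¹ᵁ U)
    rw [← appLE_app hpb, ← appLE_app hpb, hs]
  · obtain ⟨h, hh⟩ := exists_app_eq_of_fpqc α U h' (cocycle hpb hinj U f h' hh')
    refine ⟨h, hprinj ?_⟩
    rw [appLE_app hpb, hh, hh']

end sq

end Groth.Agent.Lib.H9GqDescB
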