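import Mathlib
import Groth.Prelude
import Groth.Agent.Lib.H9GqDescB

/-! helper9: geometric quotients descend along fpqc base change (S18507). -/
set_option autoImplicit false
set_option linter.style.haveILetI false
set_option linter.unusedSectionVars false
universe u
open CategoryTheory CategoryTheory.Limits MonoidalCategory CartesianMonoidalCategory MonObj
  AlgebraicGeometry Opposite

namespace Groth.Agent.Lib.H9GqDescC

open Groth.Agent.Lib.Helper8GeomQuot Groth.Agent.Lib.H9GqDescA Groth.Agent.Lib.H9GqDescB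

/-- invariance of sections is preserved by pullback along an equivariant map -/
theorem isInv_pullback {P P' X X' : Scheme.{u}} (σ p₂ : P ⟶ X) (σ' p₂' : P' ⟶ X') (pr : X' ⟶ X)
    (g : P' ⟶ P) (h₁ : σ' ≫ pr = g ≫ σ) (h₂ : p₂' ≫ pr = g ≫ p₂) (W : X.Opens) (W' : X'.Opens)
    (e : W' ≤ pr ⁻¹ᵁ W) (f : Γ(X, W))
    (hf : σ.appLE W (σ ⁻¹ᵁ W ⊓ p₂ ⁻¹ᵁ W) inf_le_left f =
      p₂.appLE W (σ ⁻¹ᵁ W ⊓ p₂ ⁻¹ᵁ W) inf_le_right f) :
    σ'.appLE W' (σ' ⁻¹ᵁ W' ⊓ p₂' ⁻¹ᵁ W') inf_le_left (pr.appLE W W' e f) =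
      p₂'.appLE W' (σ' ⁻¹ᵁ W' ⊓ p₂' ⁻¹ᵁ W') inf_le_right (pr.appLE W W' e f) := by
  have e₀ : σ' ⁻¹ᵁ W' ⊓ p₂' ⁻¹ᵁ W' ≤ g ⁻¹ᵁ (σ ⁻¹ᵁ W ⊓ p₂ ⁻¹ᵁ W) := by
    intro x hx
    refine ⟨?_, ?_⟩
    · show σ (g x) ∈ W
      rw [← Scheme.Hom.comp_apply, ← h₁, Scheme.Hom.comp_apply]
      exact e hx.1
    · show p₂ (g x) ∈ W
      rw [← Scheme.Hom.comp_apply, ← h₂, Scheme.Hom.comp_apply]
      exact e hx.2
  have k₁ : pr.appLE W W' e ≫ σ'.appLE W' (σ' ⁻¹ᵁ W' ⊓ p₂' ⁻¹ᵁ W') inf_le_left =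
      σ.appLE W (σ ⁻¹ᵁ W ⊓ p₂ ⁻¹ᵁ W) inf_le_left ≫ g.appLE _ _ e₀ := by
    rw [Scheme.Hom.appLE_comp_appLE, Scheme.Hom.appLE_comp_appLE]
    exact appLE_congr_hom h₁ _ _ _ _
  have k₂ : pr.appLE W W' e ≫ p₂'.appLE W' (σ' ⁻¹ᵁ W' ⊓ p₂' ⁻¹ᵁ W') inf_le_right =
      p₂.appLE W (σ ⁻¹ᵁ W ⊓ p₂ ⁻¹ᵁ W) inf_le_right ≫ g.appLE _ _ e₀ := by
    rw [Scheme.Hom.appLE_comp_appLE, Scheme.Hom.appLE_comp_appLE]
    exact appLE_congr_hom h₂ _ _ _ _
  have l₁ := congrArg (fun ψ => ψ.hom f) k₁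
  have l₂ := congrArg (fun ψ => ψ.hom f) k₂
  simp only [CommRingCat.hom_comp, RingHom.comp_apply] at l₁ l₂
  rw [l₁, l₂, hf]

variable {S₀ : Scheme.{u}} {G X Y X' Y' : Over S₀} [GrpObj G]
  (a : AlgGrp.Action G X) (φ : X ⟶ Y) (hinv : GIT.IsInvariant a φ)
  (α : Y' ⟶ Y) [Flat α.left] [Surjective α.left] [QuasiCompact α.left]
  (pr : X' ⟶ X) (φ' : X' ⟶ Y') (hpb : IsPullback pr φ' φ α)
  (a' : AlgGrp.Action G X') (heq : a'.act ≫ pr = (G ◁ pr) ≫ a.act)
  (hinv' : GIT.IsInvariant a' φ') (h : GIT.IsGeomQuot a' φ')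

include hpb h in
theorem surj : Function.Surjective φ.left.base := by
  intro y
  obtain ⟨y', hy'⟩ := α.left.surjective y
  obtain ⟨x', hx'⟩ := h.surj y'
  refine ⟨pr.left x', ?_⟩
  have hw : pr.left ≫ φ.left = φ'.left ≫ α.left := (hpb.map (Over.forget S₀)).w
  have := congr($hw x')
  rw [Scheme.Hom.comp_apply, Scheme.Hom.comp_apply] at this
  rw [← hy', ← hx']
  exact this

include hpb heq h in
theorem orbit : Function.Surjective (GIT.PsiY a φ hinv).base := by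
  have hpbL : IsPullback pr.left φ'.left φ.left α.left := hpb.map (Over.forget S₀)
  intro z
  obtain ⟨y', hy'⟩ := α.left.surjective ((pullback.fst φ.left φ.left ≫ φ.left) z)
  set T := pullback (pullback.fst φ.left φ.left ≫ φ.left) α.left with hT
  set t₁ : T ⟶ pullback φ.left φ.left := pullback.fst _ _ with ht₁'
  set t₂ : T ⟶ Y'.left := pullback.snd _ _ with ht₂'
  obtain ⟨t, ht₁, ht₂⟩ : ∃ t : T, t₁ t = z ∧ t₂ t = y' :=
    Scheme.Pullback.exists_preimage_pullback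
      (f := pullback.fst φ.left φ.left ≫ φ.left) (g := α.left) z y' hy'.symm
  have hc₁ : (t₁ ≫ pullback.fst φ.left φ.left) ≫ φ.left = t₂ ≫ α.left := by
    rw [Category.assoc]; exact pullback.condition
  have hc₂ : (t₁ ≫ pullback.snd φ.left φ.left) ≫ φ.left = t₂ ≫ α.left := by
    rw [Category.assoc, ← pullback.condition (f := φ.left) (g := φ.left)]
    exact pullback.condition
  let u₁ : T ⟶ X'.left := hpbL.lift _ _ hc₁
  let u₂ : T ⟶ X'.left := hpbL.lift _ _ hc₂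
  have hu₁ : u₁ ≫ pr.left = t₁ ≫ pullback.fst φ.left φ.left := hpbL.lift_fst _ _ _
  have hu₂ : u₂ ≫ pr.left = t₁ ≫ pullback.snd φ.left φ.left := hpbL.lift_fst _ _ _
  have hu₁' : u₁ ≫ φ'.left = t₂ := hpbL.lift_snd _ _ _
  have hu₂' : u₂ ≫ φ'.left = t₂ := hpbL.lift_snd _ _ _
  let v : T ⟶ pullback φ'.left φ'.left := pullback.lift u₁ u₂ (hu₁'.trans hu₂'.symm)
  obtain ⟨w', hw'⟩ := h.orbit (v t)
  refine ⟨(G ◁ pr).left w', ?_⟩
  let m : pullback φ'.left φ'.left ⟶ pullback φ.left φ.left :=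
    pullback.map φ'.left φ'.left φ.left φ.left pr.left pr.left α.left hpbL.w.symm hpbL.w.symm
  have hm : (G ◁ pr).left ≫ GIT.PsiY a φ hinv = GIT.PsiY a' φ' h.inv ≫ m := by
    apply pullback.hom_ext
    · rw [Category.assoc, Category.assoc]
      unfold GIT.PsiY
      rw [pullback.lift_fst, pullback.lift_fst, pullback.lift_fst_assoc, ← Over.comp_left,
        ← Over.comp_left, heq]
    · rw [Category.assoc, Category.assoc]
      unfold GIT.PsiY
      rw [pullback.lift_snd, pullback.lift_snd, pullback.lift_snd_assoc, ← Over.comp_left,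
        ← Over.comp_left, whiskerLeft_snd]
  have hvm : v ≫ m = t₁ := by
    apply pullback.hom_ext
    · rw [Category.assoc, pullback.lift_fst, pullback.lift_fst_assoc, hu₁]
    · rw [Category.assoc, pullback.lift_snd, pullback.lift_snd_assoc, hu₂]
  have e1 := congr($hm w')
  rw [Scheme.Hom.comp_apply, Scheme.Hom.comp_apply] at e1
  have e2 := congr($hvm t)
  rw [Scheme.Hom.comp_apply] at e2
  show (GIT.PsiY a φ hinv) ((G ◁ pr).left w') = z
  rw [e1]
  show m ((GIT.PsiY a' φ' h.inv) w') = z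
  have hw'' : (GIT.PsiY a' φ' h.inv) w' = v t := hw'
  rw [hw'', e2]
  exact ht₁

include hpb h in
theorem subm : GIT.IsUnivSubmersive φ.left := by
  have hpbL : IsPullback pr.left φ'.left φ.left α.left := hpb.map (Over.forget S₀)
  intro X₁ Y₁ i₁ i₂ f₁ hsq
  set g₁ := pullback.fst i₂ α.left with hg₁
  set g₂ := pullback.snd i₂ α.left with hg₂
  set d₁ := pullback.fst f₁ g₁ with hd₁
  set f₁' := pullback.snd f₁ g₁ with hf₁'
  have hc : (d₁ ≫ i₁) ≫ φ.left = (f₁' ≫ g₂) ≫ α.left := by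
    rw [Category.assoc, ← hsq.w, ← Category.assoc, pullback.condition, Category.assoc,
      Category.assoc, pullback.condition]
  let e₁ : pullback f₁ g₁ ⟶ X'.left := hpbL.lift _ _ hc
  have he₁ : e₁ ≫ pr.left = d₁ ≫ i₁ := hpbL.lift_fst _ _ _
  have he₂ : e₁ ≫ φ'.left = f₁' ≫ g₂ := hpbL.lift_snd _ _ _
  have hbig : IsPullback f₁' (e₁ ≫ pr.left) (g₂ ≫ α.left) φ.left := by
    rw [he₁, ← pullback.condition]
    exact (IsPullback.of_hasPullback f₁ g₁).flip.paste_vert hsq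
  have hsq' : IsPullback f₁' e₁ g₂ φ'.left := IsPullback.of_bot hbig he₂.symm hpbL.flip
  have hq₁ : Topology.IsQuotientMap f₁' := h.subm e₁ g₂ f₁' hsq'
  have hq₂ : Topology.IsQuotientMap g₁ := Flat.isQuotientMap_of_surjective g₁
  have hcomp : (f₁ : X₁ → Y₁) ∘ (d₁ : _ → X₁) = (g₁ : _ → Y₁) ∘ (f₁' : _ → _) := by
    funext x
    have := congr($(pullback.condition (f := f₁) (g := g₁)) x)
    rw [Scheme.Hom.comp_apply, Scheme.Hom.comp_apply] at this
    exact this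
  show Topology.IsQuotientMap f₁
  refine Topology.IsQuotientMap.of_comp d₁.continuous f₁.continuous ?_
  rw [hcomp]
  exact hq₂.comp hq₁

include hpb heq hinv h in
theorem sections [QuasiCompact φ.left] (U : Y.left.Opens) :
    Function.Injective (φ.left.app U) ∧
      Set.range (φ.left.app U) = {f | GIT.IsInvSection a φ U f} := by
  have hpbL : IsPullback pr.left φ'.left φ.left α.left := hpb.map (Over.forget S₀)
  haveI : QuasiCompact φ'.left :=
    MorphismProperty.of_isPullback (P := @QuasiCompact) hpbL inferInstance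
  obtain ⟨hinj, hex⟩ := sections_descend hpbL (fun V => (h.sections V).1) U
  refine ⟨hinj, Set.Subset.antisymm ?_ ?_⟩
  · rintro _ ⟨s, rfl⟩
    exact appLE_app_eq_of_comp_eq a.act.left (snd G X).left φ.left hinv.left U _
      inf_le_left inf_le_right s
  · intro f hf
    have h₁ : a'.act.left ≫ pr.left = (G ◁ pr).left ≫ a.act.left := by
      rw [← Over.comp_left, heq, Over.comp_left]
    have h₂ : (snd G X').left ≫ pr.left = (G ◁ pr).left ≫ (snd G X).left := by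
      rw [← Over.comp_left, ← Over.comp_left, whiskerLeft_snd]
    have hf' : GIT.IsInvSection a' φ' (α.left ⁻¹ᵁ U)
        (pr.left.appLE _ _ (preimage_le hpbL U) f) :=
      isInv_pullback a.act.left (snd G X).left a'.act.left (snd G X').left pr.left (G ◁ pr).left
        h₁ h₂ _ _ _ f hf
    have hmem : pr.left.appLE _ _ (preimage_le hpbL U) f ∈
        Set.range (φ'.left.app (α.left ⁻¹ᵁ U)) := by
      rw [(h.sections _).2]
      exact hf'
    obtain ⟨h', hh'⟩ := hmem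
    exact hex f ⟨h', hh'⟩

include hpb heq hinv h in
/-- **Geometric quotients descend along fpqc base change.** -/
theorem isGeomQuot_of_fpqc [QuasiCompact φ.left] : GIT.IsGeomQuot a φ :=
  ⟨hinv, surj φ α pr φ' hpb a' h, orbit a φ hinv α pr φ' hpb a' heq h, subm φ α pr φ' hpb a' h,
    fun U => sections a φ hinv α pr φ' hpb a' heq h U⟩

end Groth.Agent.Lib.H9GqDescC
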