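import Mathlib
import Groth.Prelude
import Groth.Agent.Lib.H9GqDescC
import Groth.Agent.Lib.Helper25DenseMul
import Groth.Agent.Lib.Helper8GeomQuotSep

/-! helper9: a good quotient restricts to a good quotient over an open of the target (S19425). -/
set_option autoImplicit false
set_option linter.style.haveILetI false
set_option linter.unusedSectionVars false
universe u
open CategoryTheory CategoryTheory.Limits MonoidalCategory CartesianMonoidalCategory MonObj
  AlgebraicGeometry Opposite Topology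

namespace Groth.Agent.Lib.H9GoodRestr

open Groth.Agent.Lib.Helper8GeomQuot

/-- for an open immersion `g` and `O ≤ range g`, `g.appLE O (g⁻¹O)` is bijective -/
theorem appLE_bijective_of_isOpenImmersion {P' P : Scheme.{u}} (g : P' ⟶ P) [IsOpenImmersion g]
    (O : P.Opens) (O' : P'.Opens) (h1 : O ≤ g.opensRange) (h2 : O' = g ⁻¹ᵁ O) :
    Function.Bijective (g.appLE O O' h2.le) := by
  subst h2
  haveI := g.isIso_app O h1
  rw [← Scheme.Hom.app_eq_appLE]
  exact ConcreteCategory.bijective_of_isIso (g.app O)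

section sq

variable {X Y X' Y' : Scheme.{u}} {j : X' ⟶ X} {φ' : X' ⟶ Y'} {φ : X ⟶ Y} {i : Y' ⟶ Y}
  [IsOpenImmersion j] [IsOpenImmersion i] (hpb : IsPullback j φ' φ i)

include hpb in
theorem preimage_eq (V : Y'.Opens) : φ' ⁻¹ᵁ V = j ⁻¹ᵁ (φ ⁻¹ᵁ (i ''ᵁ V)) := by
  ext x
  show φ' x ∈ V ↔ φ (j x) ∈ i ''ᵁ V
  rw [← Scheme.Hom.comp_apply, hpb.w, Scheme.Hom.comp_apply]
  exact (Scheme.Hom.apply_mem_image_iff i).symm

include hpb in
theorem preimage_image_le_opensRange (V : Y'.Opens) : φ ⁻¹ᵁ (i ''ᵁ V) ≤ j.opensRange := by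
  intro x hx
  have : x ∈ Set.range j := by
    rw [Groth.Agent.Lib.Helper8GeomQuotSep.range_fst_of_isPullback hpb]
    obtain ⟨y, -, hy⟩ := hx
    exact ⟨y, hy⟩
  exact this

include hpb in
theorem square (V : Y'.Opens) :
    i.appLE (i ''ᵁ V) V (i.preimage_image_eq V).ge ≫ φ'.app V =
      φ.app (i ''ᵁ V) ≫ j.appLE (φ ⁻¹ᵁ (i ''ᵁ V)) (φ' ⁻¹ᵁ V) (preimage_eq hpb V).le := by
  rw [Scheme.Hom.app_eq_appLE, Scheme.Hom.app_eq_appLE, Scheme.Hom.appLE_comp_appLE,
    Scheme.Hom.appLE_comp_appLE]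
  exact appLE_congr_hom hpb.w.symm _ _ _ _

include hpb in
theorem eX_bijective (V : Y'.Opens) :
    Function.Bijective (j.appLE (φ ⁻¹ᵁ (i ''ᵁ V)) (φ' ⁻¹ᵁ V) (preimage_eq hpb V).le) :=
  appLE_bijective_of_isOpenImmersion j _ _ (preimage_image_le_opensRange hpb V) (preimage_eq hpb V)

omit [IsOpenImmersion j] in
theorem eY_bijective (V : Y'.Opens) :
    Function.Bijective (i.appLE (i ''ᵁ V) V (i.preimage_image_eq V).ge) :=
  appLE_bijective_of_isOpenImmersion i _ _ (by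
    intro x hx; obtain ⟨y, -, hy⟩ := hx; exact ⟨y, hy⟩) (i.preimage_image_eq V).symm

include hpb in
theorem app_injective (V : Y'.Opens) (h : Function.Injective (φ.app (i ''ᵁ V))) :
    Function.Injective (φ'.app V) := by
  intro s t hst
  obtain ⟨s₀, rfl⟩ := (eY_bijective (i := i) V).2 s
  obtain ⟨t₀, rfl⟩ := (eY_bijective (i := i) V).2 t
  have hs := congrArg (fun ψ => ψ.hom s₀) (square hpb V)
  have ht := congrArg (fun ψ => ψ.hom t₀) (square hpb V)
  simp only [CommRingCat.hom_comp, RingHom.comp_apply] at hs ht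
  have : φ.app (i ''ᵁ V) s₀ = φ.app (i ''ᵁ V) t₀ := by
    apply (eX_bijective hpb V).1
    exact hs.symm.trans (hst.trans ht)
  rw [h this]

include hpb in
theorem mem_range_iff (V : Y'.Opens) (f₀ : Γ(X, φ ⁻¹ᵁ (i ''ᵁ V))) :
    j.appLE (φ ⁻¹ᵁ (i ''ᵁ V)) (φ' ⁻¹ᵁ V) (preimage_eq hpb V).le f₀ ∈ Set.range (φ'.app V) ↔
      f₀ ∈ Set.range (φ.app (i ''ᵁ V)) := by
  constructor
  · rintro ⟨s, hs⟩
    obtain ⟨s₀, rfl⟩ := (eY_bijective (i := i) V).2 s
    refine ⟨s₀, ?_⟩
    have hs' := congrArg (fun ψ => ψ.hom s₀) (square hpb V)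
    simp only [CommRingCat.hom_comp, RingHom.comp_apply] at hs'
    apply (eX_bijective hpb V).1
    exact hs'.symm.trans hs
  · rintro ⟨s₀, rfl⟩
    refine ⟨i.appLE (i ''ᵁ V) V (i.preimage_image_eq V).ge s₀, ?_⟩
    have hs' := congrArg (fun ψ => ψ.hom s₀) (square hpb V)
    simp only [CommRingCat.hom_comp, RingHom.comp_apply] at hs'
    exact hs'

end sq

section inv

variable {P P' X X' : Scheme.{u}} (σ p₂ : P ⟶ X) (σ' p₂' : P' ⟶ X') (j : X' ⟶ X) (g : P' ⟶ P)
  [IsOpenImmersion j] [IsOpenImmersion g] (h₁ : σ' ≫ j = g ≫ σ) (hg : IsPullback g p₂' p₂ j)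

include h₁ hg in
theorem isInv_iff (W : X.Opens) (W' : X'.Opens) (hW : W ≤ j.opensRange) (hW' : W' = j ⁻¹ᵁ W)
    (f₀ : Γ(X, W)) :
    (σ'.appLE W' (σ' ⁻¹ᵁ W' ⊓ p₂' ⁻¹ᵁ W') inf_le_left (j.appLE W W' hW'.le f₀) =
      p₂'.appLE W' (σ' ⁻¹ᵁ W' ⊓ p₂' ⁻¹ᵁ W') inf_le_right (j.appLE W W' hW'.le f₀)) ↔
    (σ.appLE W (σ ⁻¹ᵁ W ⊓ p₂ ⁻¹ᵁ W) inf_le_left f₀ =
      p₂.appLE W (σ ⁻¹ᵁ W ⊓ p₂ ⁻¹ᵁ W) inf_le_right f₀) := by
  have h₂ : p₂' ≫ j = g ≫ p₂ := hg.w.symm
  constructor
  · intro hf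
    have hO : σ ⁻¹ᵁ W ⊓ p₂ ⁻¹ᵁ W ≤ g.opensRange := by
      intro x hx
      have : x ∈ Set.range g := by
        rw [Groth.Agent.Lib.Helper8GeomQuotSep.range_fst_of_isPullback hg]
        exact hW hx.2
      exact this
    have hO' : σ' ⁻¹ᵁ W' ⊓ p₂' ⁻¹ᵁ W' = g ⁻¹ᵁ (σ ⁻¹ᵁ W ⊓ p₂ ⁻¹ᵁ W) := by
      subst hW'
      ext x
      show (j (σ' x) ∈ W ∧ j (p₂' x) ∈ W) ↔ (σ (g x) ∈ W ∧ p₂ (g x) ∈ W)
      rw [← Scheme.Hom.comp_apply, ← Scheme.Hom.comp_apply, ← Scheme.Hom.comp_apply,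
        ← Scheme.Hom.comp_apply, h₁, h₂]
    have hbij := appLE_bijective_of_isOpenImmersion g _ _ hO hO'
    apply hbij.1
    have k₁ : σ.appLE W (σ ⁻¹ᵁ W ⊓ p₂ ⁻¹ᵁ W) inf_le_left ≫ g.appLE _ _ hO'.le =
        j.appLE W W' hW'.le ≫ σ'.appLE W' (σ' ⁻¹ᵁ W' ⊓ p₂' ⁻¹ᵁ W') inf_le_left := by
      rw [Scheme.Hom.appLE_comp_appLE, Scheme.Hom.appLE_comp_appLE]
      exact appLE_congr_hom h₁.symm _ _ _ _
    have k₂ : p₂.appLE W (σ ⁻¹ᵁ W ⊓ p₂ ⁻¹ᵁ W) inf_le_right ≫ g.appLE _ _ hO'.le =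
        j.appLE W W' hW'.le ≫ p₂'.appLE W' (σ' ⁻¹ᵁ W' ⊓ p₂' ⁻¹ᵁ W') inf_le_right := by
      rw [Scheme.Hom.appLE_comp_appLE, Scheme.Hom.appLE_comp_appLE]
      exact appLE_congr_hom h₂.symm _ _ _ _
    have l₁ := congrArg (fun ψ => ψ.hom f₀) k₁
    have l₂ := congrArg (fun ψ => ψ.hom f₀) k₂
    simp only [CommRingCat.hom_comp, RingHom.comp_apply] at l₁ l₂
    exact l₁.trans (hf.trans l₂.symm)
  · intro hf
    exact Groth.Agent.Lib.H9GqDescC.isInv_pullback σ p₂ σ' p₂' j g h₁ h₂ W W' hW'.le f₀ hf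

end inv

section top

variable {P P' X X' : Scheme.{u}} (σ p₂ : P ⟶ X) (σ' p₂' : P' ⟶ X') (j : X' ⟶ X) (g : P' ⟶ P)
  [IsOpenImmersion j] [IsOpenImmersion g] (h₁ : σ' ≫ j = g ≫ σ) (hg : IsPullback g p₂' p₂ j)

omit [IsOpenImmersion g] in
theorem preimage_closure_image (W' : Set X') (hW' : IsClosed W') :
    j ⁻¹' (closure (j '' W')) = W' := by
  have := j.isOpenEmbedding.isInducing.closure_eq_preimage_closure_image W'
  rw [hW'.closure_eq] at this
  exact this.symm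

include h₁ hg in
theorem invariant_closure (hopen : IsOpenMap p₂) (W' : Set X')
    (hinv : ∀ p : P', p₂' p ∈ W' → σ' p ∈ W') :
    ∀ p : P, p₂ p ∈ closure (j '' W') → σ p ∈ closure (j '' W') := by
  have h₂ : p₂' ≫ j = g ≫ p₂ := hg.w.symm
  have e1 : p₂ ⁻¹' (j '' W') = g '' (p₂' ⁻¹' W') := by
    ext p
    constructor
    · rintro ⟨w, hw, hwp⟩
      have hp : p ∈ Set.range g := by
        rw [Groth.Agent.Lib.Helper8GeomQuotSep.range_fst_of_isPullback hg]
        exact ⟨w, hwp⟩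
      obtain ⟨p', rfl⟩ := hp
      refine ⟨p', ?_, rfl⟩
      have : j (p₂' p') = j w := by
        rw [← Scheme.Hom.comp_apply, h₂, Scheme.Hom.comp_apply]; exact hwp.symm
      rw [Set.mem_preimage, j.isOpenEmbedding.injective this]
      exact hw
    · rintro ⟨p', hp', rfl⟩
      refine ⟨p₂' p', hp', ?_⟩
      rw [← Scheme.Hom.comp_apply, h₂, Scheme.Hom.comp_apply]
  have e2 : p₂ ⁻¹' (closure (j '' W')) = closure (g '' (p₂' ⁻¹' W')) := by
    rw [hopen.preimage_closure_eq_closure_preimage p₂.continuous, e1]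
  have e3 : closure (g '' (p₂' ⁻¹' W')) ⊆ σ ⁻¹' (closure (j '' W')) := by
    apply closure_minimal _ (isClosed_closure.preimage σ.continuous)
    rintro _ ⟨p', hp', rfl⟩
    apply subset_closure
    refine ⟨σ' p', hinv p' hp', ?_⟩
    rw [← Scheme.Hom.comp_apply, h₁, Scheme.Hom.comp_apply]
  intro p hp
  have : p ∈ p₂ ⁻¹' (closure (j '' W')) := hp
  rw [e2] at this
  exact e3 this

end top

section top2

variable {X Y X' Y' : Scheme.{u}} {j : X' ⟶ X} {φ' : X' ⟶ Y'} {φ : X ⟶ Y} {i : Y' ⟶ Y}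
  [IsOpenImmersion j] [IsOpenImmersion i] (hpb : IsPullback j φ' φ i)

include hpb in
theorem exists_of_image (Wt : Set X) (u : Y') (hu : i u ∈ φ '' Wt) :
    ∃ x : X', j x ∈ Wt ∧ φ' x = u := by
  obtain ⟨xt, hxt, hxu⟩ := hu
  have : xt ∈ Set.range j := by
    rw [Groth.Agent.Lib.Helper8GeomQuotSep.range_fst_of_isPullback hpb]
    exact ⟨u, hxu.symm⟩
  obtain ⟨x, rfl⟩ := this
  refine ⟨x, hxt, ?_⟩
  apply i.isOpenEmbedding.injective
  rw [← Scheme.Hom.comp_apply, ← hpb.w, Scheme.Hom.comp_apply]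
  exact hxu

include hpb in
theorem preimage_image_eq (Wt : Set X) (W' : Set X') (hW : j ⁻¹' Wt = W') :
    i ⁻¹' (φ '' Wt) = φ' '' W' := by
  ext u
  constructor
  · intro hu
    obtain ⟨x, hx, rfl⟩ := exists_of_image hpb Wt u hu
    exact ⟨x, by rw [← hW]; exact hx, rfl⟩
  · rintro ⟨x, hx, rfl⟩
    refine ⟨j x, by rw [← hW] at hx; exact hx, ?_⟩
    rw [← Scheme.Hom.comp_apply, hpb.w, Scheme.Hom.comp_apply]

end top2

section main

variable {S₀ : Scheme.{u}} {G X Y X' Y' : Over S₀} [GrpObj G]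
  (a : AlgGrp.Action G X) (φ : X ⟶ Y) (h : NRQuot.IsGoodQuot a φ)
  (i : Y' ⟶ Y) [IsOpenImmersion i.left] (j : X' ⟶ X) [IsOpenImmersion j.left] (φ' : X' ⟶ Y')
  (hpb : IsPullback j.left φ'.left φ.left i.left)
  (a' : AlgGrp.Action G X') (heq : a'.act ≫ j = (G ◁ j) ≫ a.act)
  (hopen : IsOpenMap (snd G X).left)

include h hpb heq hopen in
theorem isGoodQuot_of_isOpenImmersion : NRQuot.IsGoodQuot a' φ' := by
  have hg : IsPullback (G ◁ j).left (snd G X').left (snd G X).left j.left :=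
    Groth.Agent.Lib.Helper8GeomQuotSep.isPullback_whiskerLeft G j
  haveI : IsOpenImmersion (G ◁ j).left :=
    MorphismProperty.of_isPullback (P := @IsOpenImmersion) hg.flip inferInstance
  have h₁ : a'.act.left ≫ j.left = (G ◁ j).left ≫ a.act.left := by
    rw [← Over.comp_left, ← Over.comp_left, heq]
  have hsq : φ' ≫ i = j ≫ φ := by
    apply Over.OverMorphism.ext
    rw [Over.comp_left, Over.comp_left]
    exact hpb.w.symm
  refine ⟨?_, ?_, ?_, ?_, ?_⟩
  · haveI := h.affine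
    exact MorphismProperty.of_isPullback (P := @IsAffineHom) hpb inferInstance
  · have hinv := h.inv
    rw [GIT.IsInvariant] at hinv ⊢
    apply Over.OverMorphism.ext
    rw [← cancel_mono i.left]
    have e1 : (a'.act ≫ φ') ≫ i = (snd G X' ≫ φ') ≫ i := by
      rw [Category.assoc, Category.assoc, hsq, ← Category.assoc, heq, Category.assoc, hinv,
        ← Category.assoc, whiskerLeft_snd, Category.assoc]
    exact congrArg CommaMorphism.left e1
  · intro V
    refine ⟨app_injective hpb V (h.sections _).1, ?_⟩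
    ext f
    obtain ⟨f₀, rfl⟩ := (eX_bijective hpb V).2 f
    rw [mem_range_iff hpb V f₀, (h.sections _).2]
    simp only [Set.mem_setOf_eq, GIT.IsInvSection]
    exact (isInv_iff a.act.left (snd G X).left a'.act.left (snd G X').left j.left (G ◁ j).left
      h₁ hg _ _ (preimage_image_le_opensRange hpb V) (preimage_eq hpb V) f₀).symm
  · intro W hW hWinv
    have hWt : NRQuot.IsInvariantSet a (closure (j.left '' W)) :=
      invariant_closure a.act.left (snd G X).left a'.act.left (snd G X').left j.left (G ◁ j).left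
        h₁ hg hopen W hWinv
    have := h.closed _ isClosed_closure hWt
    have e := preimage_image_eq hpb (closure (j.left '' W)) W (preimage_closure_image j.left W hW)
    change IsClosed (φ'.left '' W)
    rw [← e]
    exact this.preimage i.left.continuous
  · intro J W hW hWinv
    apply subset_antisymm
    · exact Set.image_iInter_subset _ _
    · intro u hu
      have hWt : ∀ t, NRQuot.IsInvariantSet a (closure (j.left '' W t)) := fun t =>
        invariant_closure a.act.left (snd G X).left a'.act.left (snd G X').left j.left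
          (G ◁ j).left h₁ hg hopen (W t) (hWinv t)
      have e := h.inter J (fun t => closure (j.left '' W t)) (fun t => isClosed_closure) hWt
      have hu' : i.left u ∈ ⋂ t, φ.left.base '' (closure (j.left '' W t)) := by
        rw [Set.mem_iInter] at hu ⊢
        intro t
        have e' := preimage_image_eq hpb (closure (j.left '' W t)) (W t)
          (preimage_closure_image j.left (W t) (hW t))
        have : u ∈ i.left ⁻¹' (φ.left '' closure (j.left '' W t)) := by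
          rw [e']; exact hu t
        exact this
      rw [← e] at hu'
      obtain ⟨x, hx, hxu⟩ := exists_of_image hpb _ u hu'
      refine ⟨x, ?_, hxu⟩
      rw [Set.mem_iInter] at hx ⊢
      intro t
      have : x ∈ j.left ⁻¹' closure (j.left '' W t) := hx t
      rw [preimage_closure_image j.left (W t) (hW t)] at this
      exact this

end main

end Groth.Agent.Lib.H9GoodRestr
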