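import Mathlib
import Groth.Prelude
import Groth.Agent.Lib.Helper4NormIso

/-! helper9: S18505 part 1. `eq_zero_of_mul_appLE` (flat f : P → X, X integral, β ≠ 0 on V: f^*β is a nonzerodivisor on Γ(P, W), W ≤ f⁻¹V), `exists_mul_eq_of_isIntegral` (X integral normal (Pi1.IsNormalScheme), R domain ↪ Γ(X,V), a/b ∈ Frac R integral over R ⇒ ψ b ∣ ψ a in Γ(X,V); glueing over affine opens). -/

set_option autoImplicit false
universe u

namespace Groth.Agent.Lib.H9GqA

open CategoryTheory CategoryTheory.Limits AlgebraicGeometry TopologicalSpace Opposite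

/-- flat pullback of a nonzero function on an integral scheme is a nonzerodivisor -/
theorem eq_zero_of_mul_appLE {P X : Scheme.{u}} (f : P ⟶ X) [Flat f] [IsIntegral X]
    (V : X.Opens) (W : P.Opens) (hWV : W ≤ f ⁻¹ᵁ V) (β : Γ(X, V)) (hβ : β ≠ 0)
    (s : Γ(P, W)) (hs : s * (f.appLE V W hWV).hom β = 0) : s = 0 := by
  apply TopCat.Presheaf.section_ext P.sheaf W
  intro w hw
  have hfw : f w ∈ V := hWV hw
  suffices h : (P.presheaf.germ W w hw).hom s = 0 from
    h.trans (map_zero (P.presheaf.germ W w hw).hom).symm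
  -- the germ of the pullback
  have hgerm : (P.presheaf.germ W w hw).hom ((f.appLE V W hWV).hom β) =
      (f.stalkMap w).hom ((X.presheaf.germ V (f w) hfw).hom β) := by
    have h1 := Scheme.Hom.germ_stalkMap_apply f V w hfw β
    rw [Scheme.Hom.appLE]
    change (P.presheaf.germ W w hw).hom ((P.presheaf.map (homOfLE hWV).op).hom ((f.app V).hom β)) = _
    have h2 := P.presheaf.germ_res_apply (homOfLE hWV) w hw ((f.app V).hom β)
    exact h2.trans h1.symm
  have hne : (X.presheaf.germ V (f w) hfw).hom β ≠ 0 := by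
    intro h0
    apply hβ
    apply germ_injective_of_isIntegral X (f w) hfw
    rw [map_zero]
    exact h0
  algebraize [(f.stalkMap w).hom]
  haveI : Module.Flat (X.presheaf.stalk (f w)) (P.presheaf.stalk w) := Flat.stalkMap f w
  have hreg : IsSMulRegular (X.presheaf.stalk (f w)) ((X.presheaf.germ V (f w) hfw).hom β) :=
    (IsRegular.of_ne_zero hne).left.isSMulRegular
  have hreg' := IsSMulRegular.of_flat (S := P.presheaf.stalk w) hreg
  have h3 : (P.presheaf.germ W w hw).hom s * (f.stalkMap w).hom ((X.presheaf.germ V (f w) hfw).hom β) = 0 := by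
    rw [← hgerm, ← map_mul, hs, map_zero]
  apply hreg'
  change algebraMap _ _ _ • (P.presheaf.germ W w hw).hom s = algebraMap _ _ _ • 0
  rw [smul_zero, smul_eq_mul, mul_comm]
  exact h3

/-- **division on a normal integral scheme**: if `a/b ∈ Frac R` is integral over `R` and `R ↪ Γ(X, V)`,
then `ψ b` divides `ψ a` in `Γ(X, V)`. -/
theorem exists_mul_eq_of_isIntegral {X : Scheme.{u}} [IsIntegral X] (hX : Pi1.IsNormalScheme X)
    {R : Type u} [CommRing R] [IsDomain R] (V : X.Opens) (ψ : R →+* Γ(X, V))
    (hψ : Function.Injective ψ)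
    (x : FractionRing R) (hx : IsIntegral R x) (a b : R)
    (hab : x * algebraMap R (FractionRing R) b = algebraMap R (FractionRing R) a) :
    ∃ c : Γ(X, V), c * ψ b = ψ a := by
  by_cases hb : b = 0
  · subst hb
    rw [map_zero, mul_zero] at hab
    have ha : a = 0 := (IsFractionRing.injective R (FractionRing R)) (by rw [← hab, map_zero])
    exact ⟨0, by rw [ha, map_zero, mul_zero]⟩
  have hres : ∀ (W W' : X.Opens) (h1 : W' ≤ W) (h2 : W ≤ V) (t : Γ(X, V)),
      (X.presheaf.map (homOfLE h1).op).hom ((X.presheaf.map (homOfLE h2).op).hom t) =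
        (X.presheaf.map (homOfLE (h1.trans h2)).op).hom t := by
    intro W W' h1 h2 t
    rw [← CommRingCat.comp_apply, ← Functor.map_comp]
    rfl
  have hloc : ∀ W : X.Opens, IsAffineOpen W → ∀ hWV : W ≤ V, Nonempty W →
      ∃ s : Γ(X, W), s * (X.presheaf.map (homOfLE hWV).op).hom (ψ b) =
        (X.presheaf.map (homOfLE hWV).op).hom (ψ a) := by
    intro W hWa hWV hW
    haveI : IsDomain Γ(X, W) := IsIntegral.component_integral W
    haveI := Groth.Agent.Lib.Helper4.NormIso.isIntegrallyClosed_sections hX W hWa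
    let ψW : R →+* Γ(X, W) := (X.presheaf.map (homOfLE hWV).op).hom.comp ψ
    have hψW : Function.Injective ψW :=
      (map_injective_of_isIntegral X (homOfLE hWV)).comp hψ
    let g : R →+* FractionRing Γ(X, W) := (algebraMap Γ(X, W) (FractionRing Γ(X, W))).comp ψW
    have hg : Function.Injective g := (IsFractionRing.injective _ _).comp hψW
    let L : FractionRing R →+* FractionRing Γ(X, W) := IsFractionRing.lift hg
    have hL : ∀ r, L (algebraMap R _ r) = g r := IsFractionRing.lift_algebraMap hg
    have hint : IsIntegral Γ(X, W) (L x) :=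
      IsIntegral.map_of_comp_eq ψW L (by ext r; exact (hL r).symm) hx
    obtain ⟨c, hc⟩ := IsIntegrallyClosed.isIntegral_iff.mp hint
    refine ⟨c, ?_⟩
    apply IsFractionRing.injective Γ(X, W) (FractionRing Γ(X, W))
    rw [map_mul, hc]
    change L x * g b = g a
    rw [← hL, ← hL, ← map_mul, hab]
  -- glue
  let ι := {W : X.affineOpens // W.1 ≤ V ∧ Nonempty W.1}
  let U : ι → X.Opens := fun W => W.1.1
  choose! sf hsf using fun W : ι => hloc W.1.1 W.1.2 W.2.1 W.2.2
  have hcompat : TopCat.Presheaf.IsCompatible X.presheaf U sf := by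
    intro i j
    by_cases hij : Nonempty (U i ⊓ U j : X.Opens)
    · haveI : IsDomain Γ(X, U i ⊓ U j) := IsIntegral.component_integral _
      have hle : U i ⊓ U j ≤ V := inf_le_left.trans i.2.1
      have hne : (X.presheaf.map (homOfLE hle).op).hom (ψ b) ≠ 0 := by
        intro h0
        apply hb
        apply hψ
        apply map_injective_of_isIntegral X (homOfLE hle)
        rw [map_zero, map_zero]
        exact h0
      have e1 : (X.presheaf.map (TopologicalSpace.Opens.infLELeft (U i) (U j)).op).hom (sf i) *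
          (X.presheaf.map (homOfLE hle).op).hom (ψ b) = (X.presheaf.map (homOfLE hle).op).hom (ψ a) := by
        have := congrArg (X.presheaf.map (homOfLE (inf_le_left : U i ⊓ U j ≤ U i)).op).hom (hsf i)
        rw [map_mul, hres, hres] at this
        exact this
      have e2 : (X.presheaf.map (TopologicalSpace.Opens.infLERight (U i) (U j)).op).hom (sf j) *
          (X.presheaf.map (homOfLE hle).op).hom (ψ b) = (X.presheaf.map (homOfLE hle).op).hom (ψ a) := by
        have := congrArg (X.presheaf.map (homOfLE (inf_le_right : U i ⊓ U j ≤ U j)).op).hom (hsf j)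
        rw [map_mul, hres, hres] at this
        exact this
      exact mul_right_cancel₀ hne (e1.trans e2.symm)
    · have h0 : U i ⊓ U j = ⊥ := by
        ext y
        simp only [TopologicalSpace.Opens.coe_bot, Set.mem_empty_iff_false, iff_false]
        exact fun hy => hij ⟨⟨y, hy⟩⟩
      haveI : Subsingleton Γ(X, U i ⊓ U j) := by
        rw [h0]; infer_instance
      exact Subsingleton.elim _ _
  have hcover : V ≤ iSup U := by
    intro y hy
    obtain ⟨_, ⟨W, hW, rfl⟩, hyW, hWV⟩ := X.isBasis_affineOpens.exists_subset_of_mem_open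
      hy V.2
    exact TopologicalSpace.Opens.mem_iSup.mpr ⟨⟨⟨W, hW⟩, hWV, ⟨⟨y, hyW⟩⟩⟩, hyW⟩
  obtain ⟨(s : Γ(X, V)), hs, -⟩ := X.sheaf.existsUnique_gluing' U V (fun i => homOfLE i.2.1) hcover sf hcompat
  refine ⟨s, ?_⟩
  apply X.sheaf.eq_of_locally_eq' U V (fun i => homOfLE i.2.1) hcover
  intro i
  have h1 : (X.presheaf.map (homOfLE i.2.1).op).hom s = sf i := hs i
  change (X.presheaf.map (homOfLE i.2.1).op).hom (s * ψ b) = (X.presheaf.map (homOfLE i.2.1).op).hom (ψ a)
  rw [map_mul, h1]
  exact hsf i

end Groth.Agent.Lib.H9GqA
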