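import Mathlib
import Groth.Prelude
import Groth.Agent.Lib.H9GqA
import Groth.Agent.Lib.Helper12Act

/-! helper9: S18505 part 2. `flat_act` (action map flat if G×X → X is), `ring_aux`, `isInvSection_of_mul` (c·β = α with α, β invariant, β ≠ 0 ⇒ c invariant), `isIntegral_of_isGeomQuot`, `main` (geometric quotient of an integral normal scheme by a flat group scheme is normal), `main18505`. -/

set_option autoImplicit false
universe u

namespace Groth.Agent.Lib.H9GqB

open CategoryTheory CategoryTheory.Limits MonoidalCategory CartesianMonoidalCategory MonObj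
  AlgebraicGeometry TopologicalSpace Opposite

variable {S : Scheme.{u}} {G X Y : Over S} [GrpObj G]

/-- the action morphism is flat when `G → S` is -/
theorem flat_act (a : AlgGrp.Action G X) [Flat (snd G X).left] : Flat a.act.left := by
  have h : a.act.left = (Groth.Agent.Lib.Helper12.shear a).left ≫ (snd G X).left := by
    rw [← Over.comp_left, Groth.Agent.Lib.Helper12.shear_snd]
  haveI : IsIso (Groth.Agent.Lib.Helper12.shear a).left :=
    (inferInstance : IsIso ((Over.forget S).map (Groth.Agent.Lib.Helper12.shearIso a).hom))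
  rw [h]
  infer_instance

theorem ring_aux {A B : Type*} [CommRing A] [CommRing B] (σ p : A →+* B) (c α β : A)
    (hα : σ α = p α) (hβ : σ β = p β) (hc : c * β = α) (hreg : ∀ s : B, s * σ β = 0 → s = 0) :
    σ c = p c := by
  have h1 : (σ c - p c) * σ β = 0 := by
    rw [sub_mul, ← map_mul, hc, hβ, ← map_mul, hc, hα, sub_self]
  exact sub_eq_zero.mp (hreg _ h1)

/-- a section dividing invariant sections (by a nonzero one) is invariant -/
theorem isInvSection_of_mul [IsIntegral X.left] (a : AlgGrp.Action G X) [Flat (snd G X).left]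
    (φ : X ⟶ Y) (U : Y.left.Opens) (c α β : Γ(X.left, φ.left ⁻¹ᵁ U)) (hβ : β ≠ 0)
    (hα' : GIT.IsInvSection a φ U α) (hβ' : GIT.IsInvSection a φ U β) (hc : c * β = α) :
    GIT.IsInvSection a φ U c := by
  haveI := flat_act a
  exact ring_aux
    (a.act.left.appLE (φ.left ⁻¹ᵁ U)
      (a.act.left ⁻¹ᵁ (φ.left ⁻¹ᵁ U) ⊓ (snd G X).left ⁻¹ᵁ (φ.left ⁻¹ᵁ U)) inf_le_left).hom
    ((snd G X).left.appLE (φ.left ⁻¹ᵁ U)
      (a.act.left ⁻¹ᵁ (φ.left ⁻¹ᵁ U) ⊓ (snd G X).left ⁻¹ᵁ (φ.left ⁻¹ᵁ U)) inf_le_right).hom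
    c α β hα' hβ' hc
    (fun s hs => Groth.Agent.Lib.H9GqA.eq_zero_of_mul_appLE a.act.left _ _ inf_le_left β hβ s hs)

/-- a geometric quotient of an integral scheme is integral -/
theorem isIntegral_of_isGeomQuot [IsIntegral X.left] (a : AlgGrp.Action G X) (φ : X ⟶ Y)
    (h : GIT.IsGeomQuot a φ) : IsIntegral Y.left := by
  haveI : IsReduced Y.left := ⟨fun U =>
    isReduced_of_injective (φ.left.app U).hom (h.sections U).1⟩
  haveI : IrreducibleSpace Y.left := by
    have h1 : IsIrreducible (Set.univ : Set X.left) := IrreducibleSpace.isIrreducible_univ _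
    have h2 := h1.image φ.left φ.left.continuous.continuousOn
    rw [Set.image_univ, Set.range_eq_univ.mpr h.surj] at h2
    exact (irreducibleSpace_def _).mpr h2
  exact isIntegral_of_irreducibleSpace_of_isReduced Y.left

/-- **S18505** (general form) -/
theorem main [IsIntegral X.left] (hX : Pi1.IsNormalScheme X.left) (a : AlgGrp.Action G X)
    [Flat (snd G X).left] (φ : X ⟶ Y) (h : GIT.IsGeomQuot a φ) : Pi1.IsNormalScheme Y.left := by
  haveI := isIntegral_of_isGeomQuot a φ h
  intro y
  refine ⟨inferInstance, ?_⟩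
  obtain ⟨_, ⟨U, hU : IsAffineOpen U, rfl⟩, hyU, -⟩ :=
    Y.left.isBasis_affineOpens.exists_subset_of_mem_open (Set.mem_univ y) isOpen_univ
  haveI : Nonempty U := ⟨⟨y, hyU⟩⟩
  haveI : IsDomain Γ(Y.left, U) := IsIntegral.component_integral U
  have hψ : Function.Injective (φ.left.app U).hom := (h.sections U).1
  have hrange : ∀ r : Γ(Y.left, U), GIT.IsInvSection a φ U ((φ.left.app U).hom r) := by
    intro r
    have : (φ.left.app U).hom r ∈ Set.range (φ.left.app U) := ⟨r, rfl⟩
    rw [(h.sections U).2] at this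
    exact this
  have hR : IsIntegrallyClosed Γ(Y.left, U) := by
    rw [isIntegrallyClosed_iff (FractionRing Γ(Y.left, U))]
    intro x hx
    obtain ⟨⟨a', b'⟩, hab⟩ := IsLocalization.surj (nonZeroDivisors Γ(Y.left, U)) x
    have hb0 : (b' : Γ(Y.left, U)) ≠ 0 := nonZeroDivisors.ne_zero b'.2
    obtain ⟨c, hc⟩ := Groth.Agent.Lib.H9GqA.exists_mul_eq_of_isIntegral hX (φ.left ⁻¹ᵁ U)
      (φ.left.app U).hom hψ x hx a' b' hab
    have hβ : (φ.left.app U).hom (b' : Γ(Y.left, U)) ≠ 0 := by
      intro h0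
      apply hb0
      apply hψ
      rw [h0, map_zero]
    have hinv : GIT.IsInvSection a φ U c :=
      isInvSection_of_mul a φ U c _ _ hβ (hrange a') (hrange b') hc
    have hmem : c ∈ Set.range (φ.left.app U) := by
      rw [(h.sections U).2]; exact hinv
    obtain ⟨r, hr⟩ := hmem
    have hr' : (φ.left.app U).hom r = c := hr
    refine ⟨r, ?_⟩
    have hrb : r * b' = a' := hψ (by rw [map_mul, hr', hc])
    have hbK : algebraMap Γ(Y.left, U) (FractionRing Γ(Y.left, U)) b' ≠ 0 := by
      intro h0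
      apply hb0
      apply IsFractionRing.injective Γ(Y.left, U) (FractionRing Γ(Y.left, U))
      rw [h0, map_zero]
    apply mul_right_cancel₀ hbK
    rw [hab, ← map_mul, hrb]
  haveI := hR
  letI := TopCat.Presheaf.algebra_section_stalk Y.left.presheaf ⟨y, hyU⟩
  haveI := hU.isLocalization_stalk ⟨y, hyU⟩
  exact isIntegrallyClosed_of_isLocalization (Y.left.presheaf.stalk y)
    (hU.primeIdealOf ⟨y, hyU⟩).asIdeal.primeCompl (Ideal.primeCompl_le_nonZeroDivisors _)

/-- **S18505** -/
theorem main18505 (k : Type u) [Field k]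
    (G X Y : Over (Spec (CommRingCat.of k))) [GrpObj G] [LocallyOfFiniteType G.hom]
    [IsIntegral X.left] (hX : Pi1.IsNormalScheme X.left)
    (a : AlgGrp.Action G X) (φ : X ⟶ Y) (h : GIT.IsGeomQuot a φ) :
    Pi1.IsNormalScheme Y.left := by
  haveI : Flat G.hom := inferInstance
  haveI : Flat (snd G X).left := by
    show Flat (pullback.snd G.hom X.hom)
    infer_instance
  exact main hX a φ h

end Groth.Agent.Lib.H9GqB
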