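import Mathlib
import Groth.Prelude
import Groth.Agent.Lib.H9GqDescC

/-! helper9: induced action on a base change; universal geometric quotients descend along fpqc
base change (S18511). -/
set_option autoImplicit false
set_option linter.style.haveILetI false
set_option linter.unusedSectionVars false
universe u
open CategoryTheory CategoryTheory.Limits MonoidalCategory CartesianMonoidalCategory MonObj
  AlgebraicGeometry Opposite

namespace Groth.Agent.Lib.H9GqDescD

open Groth.Agent.Lib.H9GqDescC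

section induced

variable {S₀ : Scheme.{u}} {G X₁ Y₁ X₁' Y₁' : Over S₀} [GrpObj G]
  (a₁ : AlgGrp.Action G X₁) {φ₁ : X₁ ⟶ Y₁} (hinv₁ : GIT.IsInvariant a₁ φ₁)
  {β : Y₁' ⟶ Y₁} {δ : X₁' ⟶ X₁} {φ₁' : X₁' ⟶ Y₁'} (hsq : IsPullback δ φ₁' φ₁ β)

include hinv₁ hsq in
theorem act_cond : ((G ◁ δ) ≫ a₁.act) ≫ φ₁ = (snd G X₁' ≫ φ₁') ≫ β := by
  rw [Category.assoc, hinv₁, whiskerLeft_snd_assoc, hsq.w, Category.assoc]

/-- the induced action morphism on a base change of an invariant morphism -/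
noncomputable def pbAct : G ⊗ X₁' ⟶ X₁' :=
  hsq.lift ((G ◁ δ) ≫ a₁.act) (snd G X₁' ≫ φ₁') (act_cond a₁ hinv₁ hsq)

theorem pbAct_fst : pbAct a₁ hinv₁ hsq ≫ δ = (G ◁ δ) ≫ a₁.act := hsq.lift_fst _ _ _

theorem pbAct_snd : pbAct a₁ hinv₁ hsq ≫ φ₁' = snd G X₁' ≫ φ₁' := hsq.lift_snd _ _ _

/-- the induced action on a base change of an invariant morphism -/
noncomputable def pbAction : AlgGrp.Action G X₁' where
  act := pbAct a₁ hinv₁ hsq
  one_act := by
    apply hsq.hom_ext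
    · rw [Category.assoc, pbAct_fst, ← whisker_exchange_assoc, a₁.one_act,
        leftUnitor_naturality]
    · rw [Category.assoc, pbAct_snd, whiskerRight_snd_assoc, leftUnitor_hom]
  mul_act := by
    apply hsq.hom_ext
    · rw [Category.assoc, pbAct_fst, ← whisker_exchange_assoc, a₁.mul_act, Category.assoc,
        Category.assoc, pbAct_fst, ← whiskerLeft_comp_assoc, pbAct_fst, whiskerLeft_comp_assoc,
        associator_naturality_right_assoc]
    · rw [Category.assoc, pbAct_snd, whiskerRight_snd_assoc, Category.assoc, Category.assoc,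
        pbAct_snd, whiskerLeft_snd_assoc, pbAct_snd, associator_hom_snd_snd_assoc]

theorem pbAction_isInvariant : GIT.IsInvariant (pbAction a₁ hinv₁ hsq) φ₁' :=
  pbAct_snd a₁ hinv₁ hsq

end induced

section main

variable {S₀ : Scheme.{u}} {G X Y X' Y' : Over S₀} [GrpObj G]
  (a : AlgGrp.Action G X) (φ : X ⟶ Y) (hinv : GIT.IsInvariant a φ)
  (α : Y' ⟶ Y) [Flat α.left] [Surjective α.left] [QuasiCompact α.left]
  (pr : X' ⟶ X) (φ' : X' ⟶ Y') (hpb : IsPullback pr φ' φ α)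
  (a' : AlgGrp.Action G X') (heq : a'.act ≫ pr = (G ◁ pr) ≫ a.act)
  (hinv' : GIT.IsInvariant a' φ')

include hpb heq hinv hinv' in
/-- **Universal geometric quotients descend along fpqc base change.** -/
theorem isUnivGeomQuot_of_fpqc [QuasiCompact φ.left] (h : GIT.IsUnivGeomQuot a' φ') :
    GIT.IsUnivGeomQuot a φ := by
  refine ⟨isGeomQuot_of_fpqc a φ hinv α pr φ' hpb a' heq h.1, ?_⟩
  intro X₁ Y₁ pr₁ φ₁ g _ hpb₁ a₁ heq₁ hinv₁
  -- the base change of the cover
  set b₁ := pullback.fst g α with hb₁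
  set c₁ := pullback.snd g α with hc₁
  have hsqY : IsPullback b₁ c₁ g α := IsPullback.of_hasPullback g α
  have hsqYL : IsPullback b₁.left c₁.left g.left α.left := hsqY.map (Over.forget S₀)
  haveI : Flat b₁.left := MorphismProperty.of_isPullback (P := @Flat) hsqYL.flip inferInstance
  haveI : Surjective b₁.left :=
    MorphismProperty.of_isPullback (P := @Surjective) hsqYL.flip inferInstance
  haveI : QuasiCompact b₁.left :=
    MorphismProperty.of_isPullback (P := @QuasiCompact) hsqYL.flip inferInstance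
  have hpb₁L : IsPullback pr₁.left φ₁.left φ.left g.left := hpb₁.map (Over.forget S₀)
  haveI : QuasiCompact φ₁.left :=
    MorphismProperty.of_isPullback (P := @QuasiCompact) hpb₁L inferInstance
  -- the base change of `X₁`
  set d₁ := pullback.fst φ₁ b₁ with hd₁
  set φ₁' := pullback.snd φ₁ b₁ with hφ₁'
  have hsq : IsPullback d₁ φ₁' φ₁ b₁ := IsPullback.of_hasPullback φ₁ b₁
  let a₁' := pbAction a₁ hinv₁ hsq
  have ha₁' : a₁'.act ≫ d₁ = (G ◁ d₁) ≫ a₁.act := pbAct_fst a₁ hinv₁ hsq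
  have hinv₁' : GIT.IsInvariant a₁' φ₁' := pbAction_isInvariant a₁ hinv₁ hsq
  -- it is a base change of `X'`
  have hc : (d₁ ≫ pr₁) ≫ φ = (φ₁' ≫ c₁) ≫ α := by
    rw [Category.assoc, hpb₁.w, ← Category.assoc, hsq.w, Category.assoc, Category.assoc, hsqY.w]
  let pr' := hpb.lift (d₁ ≫ pr₁) (φ₁' ≫ c₁) hc
  have hpr'₁ : pr' ≫ pr = d₁ ≫ pr₁ := hpb.lift_fst _ _ _
  have hpr'₂ : pr' ≫ φ' = φ₁' ≫ c₁ := hpb.lift_snd _ _ _
  have hpb' : IsPullback pr' φ₁' φ' c₁ := by
    refine IsPullback.of_right (h₁₂ := pr) (h₂₂ := α) ?_ hpr'₂ hpb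
    rw [hpr'₁, ← hsqY.w]
    exact hsq.paste_horiz hpb₁
  have heq' : a₁'.act ≫ pr' = (G ◁ pr') ≫ a'.act := by
    apply hpb.hom_ext
    · rw [Category.assoc, hpr'₁, reassoc_of% ha₁', heq₁, Category.assoc, heq,
        ← whiskerLeft_comp_assoc, ← whiskerLeft_comp_assoc, hpr'₁]
    · rw [Category.assoc, hpr'₂, reassoc_of% hinv₁', Category.assoc, hinv', whiskerLeft_snd_assoc,
        hpr'₂]
  have hq : GIT.IsGeomQuot a₁' φ₁' := h.2 pr' φ₁' c₁ trivial hpb' a₁' heq' hinv₁'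
  exact isGeomQuot_of_fpqc a₁ φ₁ hinv₁ b₁ d₁ φ₁' hsq a₁' ha₁' hq

end main

end Groth.Agent.Lib.H9GqDescD
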