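import Mathlib
import Groth.Prelude.Def_Red
import Groth.Agent.S2763
import Groth.Agent.S4113
import Groth.Agent.Lib.Helper25DensePts

/-! Finite locally free group schemes of invertible order are étale: `etale_of_field` (over a field, via S4113 and the Hopf algebra of global sections), `main` = S13401 (fibrewise via S2763) (helper9). -/

namespace Groth.Agent.Lib.H9GrpEt

open AlgebraicGeometry CategoryTheory Limits MonoidalCategory CartesianMonoidalCategory MonObj GrpObj

universe u

open Groth.Agent.Lib.Helper25.DensePts in
/-- a finite group scheme over a field whose order is invertible is étale -/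
theorem etale_of_field (k : Type u) [Field k] (G : Over (Spec (CommRingCat.of k))) [GrpObj G]
    [IsFinite G.hom] (x : Spec (CommRingCat.of k))
    (h : (Scheme.Hom.finrank G.hom x : k) ≠ 0) : Etale G.hom := by
  haveI : IsAffine G.left := isAffine_of_isAffineHom G.hom
  letI : HopfAlgebra k Γ(G.left, ⊤) := instHopfΓ k G
  have hfac : G.hom = G.left.isoSpec.hom ≫
      Spec.map (CommRingCat.ofHom (algebraMap k Γ(G.left, ⊤))) := hom_eq k G
  have hq : IsFinite (Spec.map (CommRingCat.ofHom (algebraMap k Γ(G.left, ⊤)))) := by
    have h3 : Spec.map (CommRingCat.ofHom (algebraMap k Γ(G.left, ⊤))) =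
        G.left.isoSpec.inv ≫ G.hom := by
      rw [hfac, Iso.inv_hom_id_assoc]
    rw [h3]
    infer_instance
  haveI : Module.Finite k Γ(G.left, ⊤) := by
    have := (IsFinite.SpecMap_iff _).mp hq
    exact RingHom.finite_algebraMap.mp this
  haveI : Flat (Spec.map (CommRingCat.ofHom (algebraMap k Γ(G.left, ⊤)))) := by
    rw [Flat.SpecMap_iff]
    exact RingHom.flat_algebraMap_iff.mpr inferInstance
  have hrank : Scheme.Hom.finrank G.hom x = Module.finrank k Γ(G.left, ⊤) := by
    rw [hfac, Scheme.Hom.finrank_comp_left_of_isIso, Scheme.Hom.finrank_SpecMap_algebraMap,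
      Module.rankAtStalk_eq_finrank_of_free]
    rfl
  rw [hrank] at h
  haveI : Algebra.Etale k Γ(G.left, ⊤) := Groth.Agent.S4113.result k Γ(G.left, ⊤) h
  rw [hfac]
  haveI : Etale (Spec.map (CommRingCat.ofHom (algebraMap k Γ(G.left, ⊤)))) := by
    rw [HasRingHomProperty.Spec_iff (P := @Etale)]
    exact RingHom.etale_algebraMap.mpr inferInstance
  infer_instance

theorem main {S : Scheme.{u}} (G : Over S) [GrpObj G]
    [IsFinite G.hom] [Flat G.hom] [LocallyOfFinitePresentation G.hom]
    (h : ∀ s : S, (Scheme.Hom.finrank G.hom s : S.residueField s) ≠ 0) : Etale G.hom := by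
  rw [Groth.Agent.S2763.result (𝟙 S) G.hom G.hom (Category.comp_id _)]
  intro s
  -- the fibre group scheme
  haveI : IsFinite (Red.bc (S.fromSpecResidueField s) G).hom :=
    inferInstanceAs (IsFinite (pullback.snd G.hom (S.fromSpecResidueField s)))
  have hfib : Etale (pullback.snd G.hom (S.fromSpecResidueField s)) := by
    refine etale_of_field (S.residueField s) (Red.bc (S.fromSpecResidueField s) G)
      (IsLocalRing.closedPoint _) ?_
    have h1 : Scheme.Hom.finrank (Red.bc (S.fromSpecResidueField s) G).hom
        (IsLocalRing.closedPoint (S.residueField s)) = Scheme.Hom.finrank G.hom s := by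
      refine (Scheme.Hom.finrank_pullback_snd G.hom (S.fromSpecResidueField s) _).trans ?_
      rw [Scheme.fromSpecResidueField_apply]
    rw [h1]
    exact h s
  -- transport to the fibre of the identity
  have hι : (𝟙 S : S ⟶ S).fiberι s =
      pullback.snd (𝟙 S) (S.fromSpecResidueField s) ≫ S.fromSpecResidueField s := by
    have := pullback.condition (f := 𝟙 S) (g := S.fromSpecResidueField s)
    rw [Category.comp_id] at this
    exact this
  have key : ∀ {W : Scheme.{u}} (a : W ⟶ Spec (S.residueField s)) (b : W ⟶ S),
      b = a ≫ S.fromSpecResidueField s → Etale (pullback.snd G.hom b) := by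
    rintro W a b rfl
    have h2 : pullback.snd G.hom (a ≫ S.fromSpecResidueField s) =
        (pullbackLeftPullbackSndIso G.hom (S.fromSpecResidueField s) a).inv ≫
        pullback.snd (pullback.snd G.hom (S.fromSpecResidueField s)) a := by
      rw [Iso.eq_inv_comp, pullbackLeftPullbackSndIso_hom_snd]
    rw [h2]
    infer_instance
  exact key (pullback.snd (𝟙 S) (S.fromSpecResidueField s)) _ hι

end Groth.Agent.Lib.H9GrpEt
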