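import Mathlib
import Groth.Agent.Lib.H9GrpEt

/-! `etale_of_fibres` (flat lfp group scheme with finite fibres of invertible order is étale), `main` = S18491 (quasi-finite case) (helper9). -/

namespace Groth.Agent.Lib.H9GrpEt2

open AlgebraicGeometry CategoryTheory Limits MonoidalCategory CartesianMonoidalCategory MonObj GrpObj

universe u

/-- fibrewise form: a flat lfp group scheme whose fibres are finite of invertible order is étale -/
theorem etale_of_fibres {S : Scheme.{u}} (G : Over S) [GrpObj G]
    [Flat G.hom] [LocallyOfFinitePresentation G.hom]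
    (hfin : ∀ s : S, IsFinite (pullback.snd G.hom (S.fromSpecResidueField s)))
    (h : ∀ (s : S) (x : ↥(Spec (S.residueField s))),
      ((pullback.snd G.hom (S.fromSpecResidueField s)).finrank x : S.residueField s) ≠ 0) :
    Etale G.hom := by
  rw [Groth.Agent.S2763.result (𝟙 S) G.hom G.hom (Category.comp_id _)]
  intro s
  haveI : IsFinite (Red.bc (S.fromSpecResidueField s) G).hom := hfin s
  have hfib : Etale (pullback.snd G.hom (S.fromSpecResidueField s)) :=
    Groth.Agent.Lib.H9GrpEt.etale_of_field (S.residueField s) (Red.bc (S.fromSpecResidueField s) G)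
      (IsLocalRing.closedPoint _) (h s _)
  have hι : (𝟙 S : S ⟶ S).fiberι s =
      pullback.snd (𝟙 S) (S.fromSpecResidueField s) ≫ S.fromSpecResidueField s := by
    have := pullback.condition (f := 𝟙 S) (g := S.fromSpecResidueField s)
    rw [Category.comp_id] at this
    exact this
  have key : ∀ {W : Scheme.{u}} (a : W ⟶ Spec (S.residueField s)) (b : W ⟶ S),
      b = a ≫ S.fromSpecResidueField s → Etale (pullback.snd G.hom b) := by
    rintro W a b rfl
    have h2 : pullback.snd G.hom (a ≫ S.fromSpecResidueField s) =
        (pullbackLeftPullbackSndIso G.hom (S.fromSpecResidueField s) a).inv ≫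
        pullback.snd (pullback.snd G.hom (S.fromSpecResidueField s)) a := by
      rw [Iso.eq_inv_comp, pullbackLeftPullbackSndIso_hom_snd]
    rw [h2]
    infer_instance
  exact key (pullback.snd (𝟙 S) (S.fromSpecResidueField s)) _ hι

theorem main {S : Scheme.{u}} (G : Over S) [GrpObj G]
    [LocallyQuasiFinite G.hom] [QuasiCompact G.hom] [Flat G.hom] [LocallyOfFinitePresentation G.hom]
    (h : ∀ (s : S) (x : ↥(Spec (S.residueField s))),
      ((pullback.snd G.hom (S.fromSpecResidueField s)).finrank x : S.residueField s) ≠ 0) :
    Etale G.hom :=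
  etale_of_fibres G (fun _ => IsFinite.of_locallyQuasiFinite _) h

end Groth.Agent.Lib.H9GrpEt2
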