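import Groth.Agent.Lib.H9SchDom2

/-! S18284, S18285: attractor maps `X^N → X^{N'}` and `X^N → X` are injective on points for separated `X` (helper9). -/

set_option autoImplicit false
universe u

open CategoryTheory MonoidalCategory CartesianMonoidalCategory MonObj AlgebraicGeometry Opposite

namespace Groth.Agent.Lib.H9Magnet3

open Magnet Groth.Agent.Lib.H9SchDom2

/-- maps out of `A(N)_S ⊗ T` into separated `X` are determined after precomposing with `A(M)_S ⊗ T → A(N)_S ⊗ T`
for injective `f : N →+ M`. -/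
theorem ext_of_whiskerRight (S : Scheme.{u}) {M N : Type} [AddCommMonoid M] [AddCommMonoid N]
    (f : N →+ M) (hf : Function.Injective f) {T X : Over S} [IsSeparated X.hom]
    (φ₁ φ₂ : AMonS S N ⊗ T ⟶ X) (h : (AMonS.map S f ▷ T) ≫ φ₁ = (AMonS.map S f ▷ T) ≫ φ₂) : φ₁ = φ₂ := by
  haveI := dominant_whiskerRight S f hf T
  exact Groth.Agent.Helper8SchDense.ext_of_schDominant φ₁ φ₂ (AMonS.map S f ▷ T).left
    (congrArg (fun k => k.left) h)

theorem main18284 (S : Scheme.{u}) (M : Type) [AddCommMonoid M]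
    (X : Over S) [IsSeparated X.hom] (a : Magnet.MonAct (Magnet.AMonS S M) X) {N N' : AddSubmonoid M}
    (h : N ≤ N') (T : Over S) :
    Function.Injective (fun φ => (Magnet.attrMap a h).app (op T) φ) := by
  intro φ₁ φ₂ hφ
  apply Subtype.ext
  exact ext_of_whiskerRight S (AddSubmonoid.inclusion h) (AddSubmonoid.inclusion_injective h) φ₁.1 φ₂.1
    (congrArg Subtype.val hφ)

/-- key formula: an equivariant `φ` is determined on the image of `A(M)` by its value at the unit section. -/
theorem whiskerRight_comp_eq (S : Scheme.{u}) (M : Type) [AddCommMonoid M]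
    (X : Over S) (a : Magnet.MonAct (Magnet.AMonS S M) X) (N : AddSubmonoid M) (T : Over S)
    (φ : (Magnet.attr a N).obj (op T)) :
    (AMonS.map S N.subtype ▷ T) ≫ φ.1 =
      (AMonS S M ◁ ((Magnet.attrToX a N).app (op T) φ)) ≫ a.act := by
  have h := (MonAct.mem_eqvHom_iff φ.1).mp φ.2 (AMonS S M ⊗ T) (fst _ _)
    (toUnit _ ≫ η[AMonS S N]) (snd _ _)
  have e1 : lift (fst (AMonS S M) T) (toUnit (AMonS S M ⊗ T) ≫ η[AMonS S N]) ≫ (subAct S M N).act =
      fst (AMonS S M) T ≫ AMonS.map S N.subtype := by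
    rw [subAct, MonAct.lift_restrict_act, MonAct.lift_regular_act, ← Hom.one_def, _root_.mul_one]
  have e2 : lift (toUnit (AMonS S M ⊗ T) ≫ η[AMonS S N]) (snd (AMonS S M) T) =
      snd (AMonS S M) T ≫ lift (toUnit T ≫ η[AMonS S N]) (𝟙 T) := by
    rw [comp_lift, Category.comp_id, ← Category.assoc, toUnit_unique (snd (AMonS S M) T ≫ toUnit T)]
  rw [e1, e2, Category.assoc] at h
  have e3 : AMonS.map S N.subtype ▷ T = lift (fst (AMonS S M) T ≫ AMonS.map S N.subtype) (snd (AMonS S M) T) := by
    apply CartesianMonoidalCategory.hom_ext <;> simp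
  have e4 : AMonS S M ◁ ((Magnet.attrToX a N).app (op T) φ) =
      lift (fst (AMonS S M) T) (snd (AMonS S M) T ≫ ((Magnet.attrToX a N).app (op T) φ)) := by
    apply CartesianMonoidalCategory.hom_ext <;> simp
  rw [e3, e4, h]
  rfl

theorem main18285 (S : Scheme.{u}) (M : Type) [AddCommMonoid M]
    (X : Over S) [IsSeparated X.hom] (a : Magnet.MonAct (Magnet.AMonS S M) X) (N : AddSubmonoid M) (T : Over S) :
    Function.Injective (fun φ => (Magnet.attrToX a N).app (op T) φ) := by
  intro φ₁ φ₂ hφ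
  apply Subtype.ext
  refine ext_of_whiskerRight S N.subtype Subtype.val_injective φ₁.1 φ₂.1 ?_
  rw [whiskerRight_comp_eq, whiskerRight_comp_eq]
  have : (Magnet.attrToX a N).app (op T) φ₁ = (Magnet.attrToX a N).app (op T) φ₂ := hφ
  rw [this]

end Groth.Agent.Lib.H9Magnet3
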