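import Groth.Agent.Lib.H9Magnet4

/-! S18288: change of monoid for attractors is an isomorphism (injective `M → Z` into a group, `Y ≤ range`, `X` separated) (helper9). -/

set_option autoImplicit false
universe u

open CategoryTheory MonoidalCategory CartesianMonoidalCategory MonObj AlgebraicGeometry Opposite

namespace Groth.Agent.Lib.H9Magnet5

open Magnet Groth.Agent.Lib.H9SchDom2 Groth.Agent.Lib.H9Magnet3 Groth.Agent.Lib.H9Magnet4

lemma lift_subAct_act (S : Scheme.{u}) (M : Type) [AddCommMonoid M] (N : AddSubmonoid M) {T' : Over S}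
    (g : T' ⟶ AMonS S M) (b : T' ⟶ AMonS S ↥N) :
    lift g b ≫ (subAct S M N).act = (g ≫ AMonS.map S N.subtype) * b := by
  rw [subAct, MonAct.lift_restrict_act, MonAct.lift_regular_act]

variable (S : Scheme.{u}) {M Z : Type} [AddCommMonoid M] [AddCommGroup Z]
  {f : M →+ Z} {Y : AddSubmonoid Z}

/-- equivariance of the transported map. -/
theorem isEquivariant_transport (hf : Function.Injective f) (hY : Y ≤ AddMonoidHom.mrange f)
    {X : Over S} [IsSeparated X.hom] (a : Magnet.MonAct (Magnet.AMonS S M) X) (T : Over S)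
    (ψ : (attr (a.restrict (AMonS.map S f)) Y).obj (op T)) :
    MonAct.IsEquivariant ((subAct S M (Y.comap f)).prod (MonAct.trivial (AMonS S M) T)) a
      ((AMonS.map S (eqv hf hY).symm.toAddMonoidHom ▷ T) ≫ ψ.1) := by
  unfold MonAct.IsEquivariant
  refine ext_of_whiskerRight S f hf _ _ ?_
  apply Magnet.hom_ext_lift₂
  intro T' z w
  have hw : w = lift (w ≫ fst _ _) (w ≫ snd _ _) := (lift_comp_fst_snd w).symm
  generalize w ≫ fst _ _ = b at hw
  generalize w ≫ snd _ _ = t at hw
  subst hw
  have hψ := (MonAct.mem_eqvHom_iff ψ.1).mp ψ.2 T' z (b ≫ AMonS.map S (eqv hf hY).symm.toAddMonoidHom) t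
  rw [lift_subAct_act, MonAct.lift_restrict_act] at hψ
  rw [lift_whiskerRight_assoc, lift_whiskerRight_assoc, MonAct.lift_prod_act_assoc, MonAct.lift_trivial_act,
    lift_whiskerRight_assoc, lift_whiskerLeft_assoc, lift_whiskerRight_assoc, ← hψ]
  congr 2
  rw [lift_subAct_act, MonObj.mul_comp, Category.assoc, Category.assoc,
    map_f_sub_es S hf hY]

theorem main18288 (M Z : Type) [AddCommMonoid M]
    [AddCommGroup Z] (f : M →+ Z) (hf : Function.Injective f) (Y : AddSubmonoid Z)
    (hY : Y ≤ AddMonoidHom.mrange f) (X : Over S) [IsSeparated X.hom]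
    (a : Magnet.MonAct (Magnet.AMonS S M) X) :
    IsIso (Magnet.attrComap a f Y) := by
  haveI : ∀ T, IsIso ((Magnet.attrComap a f Y).app T) := fun T => by
    rw [isIso_iff_bijective]
    constructor
    · intro φ₁ φ₂ h
      apply Subtype.ext
      have h' : (AMonS.map S (gmap f Y) ▷ unop T) ≫ φ₁.1 = (AMonS.map S (gmap f Y) ▷ unop T) ≫ φ₂.1 :=
        congrArg Subtype.val h
      have h'' := congrArg (fun k => (AMonS.map S (eqv hf hY).symm.toAddMonoidHom ▷ unop T) ≫ k) h'
      simp only [← Category.assoc, ← comp_whiskerRight, map_es_g S hf hY, id_whiskerRight, Category.id_comp] at h''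
      exact h''
    · intro ψ
      refine ⟨⟨(AMonS.map S (eqv hf hY).symm.toAddMonoidHom ▷ unop T) ≫ ψ.1,
        isEquivariant_transport S hf hY a (unop T) ψ⟩, ?_⟩
      apply Subtype.ext
      change (AMonS.map S (gmap f Y) ▷ unop T) ≫ (AMonS.map S (eqv hf hY).symm.toAddMonoidHom ▷ unop T) ≫ ψ.1 = ψ.1
      rw [← Category.assoc, ← comp_whiskerRight, map_g_es S hf hY, id_whiskerRight, Category.id_comp]
  exact NatIso.isIso_of_isIso_app _

end Groth.Agent.Lib.H9Magnet5
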