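import Mathlib
import Groth.Prelude
import Groth.Agent.Lib.H9Magnet3
import Groth.Agent.Lib.H9Magnet5

/-! helper9: limits under one-parameter subgroups (`HMNum`): limit points are fixed, fixed points are their own
limit, limits are unique for separated `X`; S19787. -/
set_option autoImplicit false
universe u
open CategoryTheory CategoryTheory.Limits MonoidalCategory CartesianMonoidalCategory MonObj
  AlgebraicGeometry Opposite

namespace Groth.Agent.Lib.H9HMNum

open Magnet HMNum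

theorem algebraMap_bijective_of_subsingleton (R : Type u) [CommRing R] (Gm : Type) [Monoid Gm]
    [Subsingleton Gm] : Function.Bijective (algebraMap R (MonoidAlgebra R Gm)) := by
  constructor
  · intro r s h
    have := congrArg (fun f => f.coeff 1) h
    simpa [MonoidAlgebra.coe_algebraMap] using this
  · intro f
    refine ⟨f.coeff 1, ?_⟩
    rw [← MonoidAlgebra.coeff_inj]
    ext g
    rw [Subsingleton.elim g 1]
    simp [MonoidAlgebra.coe_algebraMap]

instance : Subsingleton (Multiplicative ↥(⊥ : AddSubmonoid ℤ)) :=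
  ⟨fun x y => by
    have hx : Multiplicative.toAdd x = 0 := Subtype.ext ((AddSubmonoid.mem_bot).1 (Multiplicative.toAdd x).2)
    have hy : Multiplicative.toAdd y = 0 := Subtype.ext ((AddSubmonoid.mem_bot).1 (Multiplicative.toAdd y).2)
    exact Multiplicative.toAdd.injective (hx.trans hy.symm)⟩

theorem isIso_hom_AMon_bot (R : Type u) [CommRing R] :
    IsIso (AMon R ↥(⊥ : AddSubmonoid ℤ)).hom := by
  have hb := algebraMap_bijective_of_subsingleton R (Multiplicative ↥(⊥ : AddSubmonoid ℤ))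
  have : IsIso (CommRingCat.ofHom (algebraMap R (MonoidAlgebra R (Multiplicative ↥(⊥ : AddSubmonoid ℤ))))) := by
    rw [ConcreteCategory.isIso_iff_bijective]
    exact hb
  change IsIso (Spec.map (CommRingCat.ofHom (algebraMap R (MonoidAlgebra R (Multiplicative ↥(⊥ : AddSubmonoid ℤ))))))
  infer_instance

theorem isIso_hom_AMonS_bot (S : Scheme.{u}) : IsIso (AMonS S ↥(⊥ : AddSubmonoid ℤ)).hom := by
  haveI := isIso_hom_AMon_bot (ULift.{u} ℤ)
  change IsIso (pullback.snd (AMon (ULift.{u} ℤ) ↥(⊥ : AddSubmonoid ℤ)).hom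
    (Limits.IsTerminal.from specULiftZIsTerminal S))
  infer_instance

theorem hom_bot_ext {S : Scheme.{u}} {T : Over S} (v w : T ⟶ AMonS S ↥(⊥ : AddSubmonoid ℤ)) : v = w := by
  haveI := isIso_hom_AMonS_bot S
  apply Over.OverMorphism.ext
  rw [← cancel_mono (AMonS S ↥(⊥ : AddSubmonoid ℤ)).hom, Over.w, Over.w]

variable {S : Scheme.{u}} {G X : Over S} [GrpObj G]

/-- `g • origin = origin` in the affine line -/
theorem act_origin {T' : Over S} (g : T' ⟶ Red.Gm S) :
    lift g (toUnit T' ≫ origin S) ≫ (subAct S ℤ plus).act = toUnit T' ≫ origin S := by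
  have heq := isEquivariant_faceMapS S (M := ℤ) isFace_bot
  rw [MonAct.isEquivariant_iff] at heq
  have h := heq T' g (toUnit T' ≫ η[AMonS S ↥(⊥ : AddSubmonoid ℤ)])
  rw [Category.assoc] at h
  have e : toUnit T' ≫ origin S = toUnit T' ≫ η[AMonS S ↥(⊥ : AddSubmonoid ℤ)] ≫
      AMonS.faceMap S isFace_bot := rfl
  rw [e, ← h, ← Category.assoc, ← Category.assoc]
  congr 1
  exact hom_bot_ext _ _

theorem isFixedBy_of_isLimitPt (a : AlgGrp.Action G X) (l : Red.Gm S ⟶ G) [IsMonHom l] {T : Over S}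
    (x y : T ⟶ X) (h : IsLimitPt a l x y) : IsFixedBy a l y := by
  obtain ⟨φ, -, rfl⟩ := h
  rw [isFixedBy_iff]
  intro T' t g
  rw [limitPt_eq]
  have hφ := (MonAct.mem_eqvHom_iff φ.1).mp φ.2 T' g (toUnit T' ≫ origin S) t
  rw [act_origin] at hφ
  have e : t ≫ lift (toUnit T ≫ origin S) (𝟙 T) = lift (toUnit T' ≫ origin S) t := by
    rw [comp_lift, Category.comp_id, ← Category.assoc, toUnit_unique (t ≫ toUnit T) (toUnit T')]
  rw [← Category.assoc, e, ← hφ]

theorem isLimitPt_self_of_isFixedBy (a : AlgGrp.Action G X) (l : Red.Gm S ⟶ G) [IsMonHom l]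
    {T : Over S} (y : T ⟶ X) (h : IsFixedBy a l y) : IsLimitPt a l y y := by
  rw [isFixedBy_iff] at h
  refine ⟨⟨snd (A1 S) T ≫ y, ?_⟩, ?_, ?_⟩
  · rw [MonAct.mem_eqvHom_iff]
    intro T' g b t
    rw [lift_snd_assoc, lift_snd_assoc, h]
  · show lift (toUnit T ≫ η[A1 S]) (𝟙 T) ≫ snd (A1 S) T ≫ y = y
    rw [lift_snd_assoc, Category.id_comp]
  · rw [limitPt_eq]
    show lift (toUnit T ≫ origin S) (𝟙 T) ≫ snd (A1 S) T ≫ y = y
    rw [lift_snd_assoc, Category.id_comp]

theorem isLimitPt_unique [IsSeparated X.hom] (a : AlgGrp.Action G X) (l : Red.Gm S ⟶ G) [IsMonHom l]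
    {T : Over S} (x y y' : T ⟶ X) (h : IsLimitPt a l x y) (h' : IsLimitPt a l x y') : y = y' := by
  obtain ⟨φ, hφ, rfl⟩ := h
  obtain ⟨φ', hφ', rfl⟩ := h'
  have : φ = φ' :=
    Groth.Agent.Lib.H9Magnet3.main18285 S ℤ X (gmAct a l) plus T (hφ.trans hφ'.symm)
  rw [this]

theorem main19787 [IsSeparated X.hom] (a : AlgGrp.Action G X) {V : Over S} (π : V ⟶ X)
    (chart : ∀ U : X.left.Opens, Set (Γ(V.left, π.left ⁻¹ᵁ U))) (Φ : AlgGrp.Action G V)
    (l : Red.Gm S ⟶ G) [IsMonHom l] {T : Over S} (x y : T ⟶ X) (hy : IsLimitPt a l x y) (m : ℤ) :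
    IsMuOf a π chart Φ l x m ↔ IsMuOf a π chart Φ l y m := by
  constructor
  · rintro ⟨y', hy', hw⟩
    obtain rfl := isLimitPt_unique a l x y y' hy hy'
    exact ⟨y, isLimitPt_self_of_isFixedBy a l y hw.1, hw⟩
  · rintro ⟨y', hy', hw⟩
    have hfix := isFixedBy_of_isLimitPt a l x y hy
    obtain rfl := isLimitPt_unique a l y y y' (isLimitPt_self_of_isFixedBy a l y hfix) hy'
    exact ⟨y, hy, hw⟩

end Groth.Agent.Lib.H9HMNum
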