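import Mathlib
import Groth.Prelude
import Groth.Agent.Lib.H9HMNum
import Groth.Agent.Lib.Helper8GeomQuot

/-! helper9: the numerical function under conjugation (S19786, S19791). -/
set_option autoImplicit false
universe u
open CategoryTheory CategoryTheory.Limits MonoidalCategory CartesianMonoidalCategory MonObj
  AlgebraicGeometry Opposite

namespace Groth.Agent.Lib.H9HMNumConj

open Magnet HMNum

variable {S : Scheme.{u}} {G X : Over S} [GrpObj G]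

/-- translation by a point `g₀` of `G` -/
noncomputable def transl (a : AlgGrp.Action G X) (g₀ : 𝟙_ (Over S) ⟶ G) : X ⟶ X :=
  lift (toUnit X ≫ g₀) (𝟙 X) ≫ a.act

theorem pt_transl (a : AlgGrp.Action G X) (g₀ : 𝟙_ (Over S) ⟶ G) {T : Over S} (x : T ⟶ X) :
    x ≫ transl a g₀ = lift (toUnit T ≫ g₀) x ≫ a.act := by
  rw [transl, ← Category.assoc, comp_lift, Category.comp_id, ← Category.assoc,
    toUnit_unique (x ≫ toUnit X) (toUnit T)]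

theorem lift_mul_act (a : AlgGrp.Action G X) {T : Over S} (g h : T ⟶ G) (x : T ⟶ X) :
    lift (g * h) x ≫ a.act = lift g (lift h x ≫ a.act) ≫ a.act :=
  (MonAct.ofAction a).lift_mul_act g h x

theorem lift_one_act (a : AlgGrp.Action G X) {T : Over S} (x : T ⟶ X) :
    lift (1 : T ⟶ G) x ≫ a.act = x :=
  (MonAct.ofAction a).lift_one_act x

theorem transl_transl_inv (a : AlgGrp.Action G X) (g₀ : 𝟙_ (Over S) ⟶ G) :
    transl a g₀ ≫ transl a g₀⁻¹ = 𝟙 X := by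
  rw [pt_transl, transl, ← lift_mul_act, GrpObj.comp_inv, inv_mul_cancel, lift_one_act]

theorem isEquivariant_transl (a : AlgGrp.Action G X) (g₀ : 𝟙_ (Over S) ⟶ G)
    (l l' : Red.Gm S ⟶ G) [IsMonHom l] [IsMonHom l']
    (hl' : l' = (toUnit _ ≫ g₀)⁻¹ * l * (toUnit _ ≫ g₀)) :
    MonAct.IsEquivariant (gmAct a l') (gmAct a l) (transl a g₀) := by
  rw [MonAct.isEquivariant_iff]
  intro T g x
  rw [MonAct.lift_restrict_act_assoc, MonAct.lift_restrict_act, MonAct.ofAction_act, ← Category.assoc,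
    pt_transl, pt_transl,
    ← lift_mul_act, ← lift_mul_act]
  congr 2
  rw [hl', MonObj.comp_mul, MonObj.comp_mul, GrpObj.comp_inv, ← Category.assoc,
    toUnit_unique (g ≫ toUnit (Red.Gm S)) (toUnit T)]
  group

theorem isLimitPt_transl (a : AlgGrp.Action G X) (g₀ : 𝟙_ (Over S) ⟶ G)
    (l l' : Red.Gm S ⟶ G) [IsMonHom l] [IsMonHom l']
    (hl' : l' = (toUnit _ ≫ g₀)⁻¹ * l * (toUnit _ ≫ g₀)) {T : Over S} (x y : T ⟶ X)
    (h : IsLimitPt a l' x y) : IsLimitPt a l (x ≫ transl a g₀) (y ≫ transl a g₀) := by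
  obtain ⟨φ, rfl, rfl⟩ := h
  refine ⟨(MonAct.eqvHom.postcomp (subAct S ℤ plus) (transl a g₀)
    (isEquivariant_transl a g₀ l l' hl')).app (op T) φ, ?_, ?_⟩
  · show lift (toUnit T ≫ η[A1 S]) (𝟙 T) ≫ φ.1 ≫ transl a g₀ = _
    rw [← Category.assoc]
    rfl
  · rw [limitPt_eq, limitPt_eq]
    show lift (toUnit T ≫ origin S) (𝟙 T) ≫ φ.1 ≫ transl a g₀ = _
    rw [← Category.assoc]

section Wt

open Groth.Agent.Lib.Helper8GeomQuot in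
theorem evalFn_congr {V : Over S} (π : V ⟶ X) {U : X.left.Opens} (y : Γ(V.left, π.left ⁻¹ᵁ U))
    {T' : Over S} {v v' : T' ⟶ V} (e : v = v') (h : ⊤ ≤ v.left ⁻¹ᵁ (π.left ⁻¹ᵁ U))
    (h' : ⊤ ≤ v'.left ⁻¹ᵁ (π.left ⁻¹ᵁ U)) : evalFn π y v h = evalFn π y v' h' := by
  subst e; rfl

variable (a : AlgGrp.Action G X) {V : Over S} (π : V ⟶ X)
  (chart : ∀ U : X.left.Opens, Set (Γ(V.left, π.left ⁻¹ᵁ U))) (Φ : AlgGrp.Action G V)
  (hπ : Φ.act ≫ π = (G ◁ π) ≫ a.act) (hlin : GLinSh.IsLinearLift a π Φ chart hπ)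

include hlin in
open Groth.Agent.Lib.Helper8GeomQuot in
theorem eval_lin {U₁ U₂ : X.left.Opens} {η₁ : Γ(V.left, π.left ⁻¹ᵁ U₁)} {η₂ : Γ(V.left, π.left ⁻¹ᵁ U₂)}
    (hη₁ : η₁ ∈ chart U₁) (hη₂ : η₂ ∈ chart U₂) {T' : Over S} (g₁ : T' ⟶ G) (x₁ : T' ⟶ X)
    (hU₁ : x₁.left ⁻¹ᵁ U₁ = ⊤) (hU₂ : (lift g₁ x₁ ≫ a.act).left ⁻¹ᵁ U₂ = ⊤) :
    ∃ c₀ : Γ(T'.left, ⊤), ∀ (u : T' ⟶ V) (_ : u ≫ π = x₁) (h₁ : ⊤ ≤ u.left ⁻¹ᵁ (π.left ⁻¹ᵁ U₁))
      (h₂ : ⊤ ≤ (lift g₁ u ≫ Φ.act).left ⁻¹ᵁ (π.left ⁻¹ᵁ U₂)),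
      evalFn π η₂ (lift g₁ u ≫ Φ.act) h₂ = c₀ * evalFn π η₁ u h₁ := by
  obtain ⟨c, hc⟩ := hlin U₁ U₂ η₁ η₂ hη₁ hη₂
  have h₃ : ⊤ ≤ (lift g₁ x₁).left ⁻¹ᵁ (a.act.left ⁻¹ᵁ U₂ ⊓ (snd G X).left ⁻¹ᵁ U₁) := by
    intro p _
    refine ⟨?_, ?_⟩
    · have : p ∈ (lift g₁ x₁ ≫ a.act).left ⁻¹ᵁ U₂ := by rw [hU₂]; trivial
      exact this
    · have : p ∈ (lift g₁ x₁ ≫ snd G X).left ⁻¹ᵁ U₁ := by rw [lift_snd, hU₁]; trivial
      exact this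
  refine ⟨(lift g₁ x₁).left.appLE _ ⊤ h₃ c, ?_⟩
  intro u hu h₁ h₂
  have hP : lift g₁ u ≫ (G ◁ π) = lift g₁ x₁ := by rw [lift_whiskerLeft, hu]
  have hPLO : ⊤ ≤ (lift g₁ u).left ⁻¹ᵁ (GLinSh.liftOpen a π U₁ U₂) := by
    intro p _
    have hp := h₃ (show p ∈ (⊤ : T'.left.Opens) from trivial)
    have e : (lift g₁ x₁).left = (lift g₁ u).left ≫ (G ◁ π).left := by
      rw [← Over.comp_left, hP]
    rw [e] at hp
    exact hp
  have E := congrArg (fun s => ((lift g₁ u).left.appLE (GLinSh.liftOpen a π U₁ U₂) ⊤ hPLO).hom s) hc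
  simp only [map_mul] at E
  have k₁ : Φ.act.left.appLE (π.left ⁻¹ᵁ U₂) (GLinSh.liftOpen a π U₁ U₂)
      (GLinSh.liftOpen_le_act a π Φ hπ) ≫ (lift g₁ u).left.appLE (GLinSh.liftOpen a π U₁ U₂) ⊤ hPLO =
      (lift g₁ u ≫ Φ.act).left.appLE (π.left ⁻¹ᵁ U₂) ⊤ h₂ := by
    rw [Scheme.Hom.appLE_comp_appLE]
    rfl
  have k₂ : (G ◁ π).left.appLE _ (GLinSh.liftOpen a π U₁ U₂) (GLinSh.liftOpen_le_base a π) ≫
      (lift g₁ u).left.appLE (GLinSh.liftOpen a π U₁ U₂) ⊤ hPLO =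
      (lift g₁ x₁).left.appLE (a.act.left ⁻¹ᵁ U₂ ⊓ (snd G X).left ⁻¹ᵁ U₁) ⊤ h₃ := by
    rw [Scheme.Hom.appLE_comp_appLE]
    exact appLE_congr_hom (by rw [← Over.comp_left, hP]) _ _ _ _
  have k₃ : (snd G V).left.appLE (π.left ⁻¹ᵁ U₁) (GLinSh.liftOpen a π U₁ U₂) (GLinSh.liftOpen_le_snd a π) ≫
      (lift g₁ u).left.appLE (GLinSh.liftOpen a π U₁ U₂) ⊤ hPLO =
      u.left.appLE (π.left ⁻¹ᵁ U₁) ⊤ h₁ := by
    rw [Scheme.Hom.appLE_comp_appLE]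
    exact appLE_congr_hom (by rw [← Over.comp_left, lift_snd]) _ _ _ _
  have l₁ := congrArg (fun ψ => ψ.hom η₂) k₁
  have l₂ := congrArg (fun ψ => ψ.hom c) k₂
  have l₃ := congrArg (fun ψ => ψ.hom η₁) k₃
  simp only [CommRingCat.hom_comp, RingHom.comp_apply] at l₁ l₂ l₃
  rw [l₁, l₂, l₃] at E
  exact E

include hlin in
theorem hasFibreWt_transl (g₀ : 𝟙_ (Over S) ⟶ G) (l l' : Red.Gm S ⟶ G) [IsMonHom l] [IsMonHom l']
    (hl' : l' = (toUnit _ ≫ g₀)⁻¹ * l * (toUnit _ ≫ g₀)) {T : Over S} (y₁ : T ⟶ X) (w : ℤ)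
    (hchart : ∃ (U₂ : X.left.Opens) (η₂ : Γ(V.left, π.left ⁻¹ᵁ U₂)), η₂ ∈ chart U₂ ∧
      (y₁ ≫ transl a g₀).left ⁻¹ᵁ U₂ = ⊤)
    (h : HasFibreWt a π chart Φ l' y₁ w) : HasFibreWt a π chart Φ l (y₁ ≫ transl a g₀) w := by
  obtain ⟨hfix, U₁, η₁, hη₁, hU₁, hwt⟩ := h
  obtain ⟨U₂, η₂, hη₂, hU₂⟩ := hchart
  have heqv := isEquivariant_transl a g₀ l l' hl'
  rw [MonAct.isEquivariant_iff] at heqv
  have hfix₂ : IsFixedBy a l (y₁ ≫ transl a g₀) := by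
    intro T' t g
    have h1 := heqv T' g (t ≫ y₁)
    rw [MonAct.lift_restrict_act_assoc, MonAct.lift_restrict_act, MonAct.ofAction_act,
      ← Category.assoc, hfix T' t g, Category.assoc] at h1
    exact h1.symm
  refine ⟨hfix₂, U₂, η₂, hη₂, hU₂, ?_⟩
  intro T' t g v hv hgv
  set cT : T' ⟶ G := toUnit T' ≫ g₀ with hcT
  have hgl : cT * (g ≫ l') * cT⁻¹ = g ≫ l := by
    rw [hl', MonObj.comp_mul, MonObj.comp_mul, GrpObj.comp_inv, ← Category.assoc,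
      toUnit_unique (g ≫ toUnit (Red.Gm S)) (toUnit T'), ← hcT]
    group
  set v₁ : T' ⟶ V := lift cT⁻¹ v ≫ Φ.act with hv₁
  have hπ' : ∀ (g' : T' ⟶ G) (v' : T' ⟶ V), (lift g' v' ≫ Φ.act) ≫ π = lift g' (v' ≫ π) ≫ a.act := by
    intro g' v'
    rw [Category.assoc, hπ, lift_whiskerLeft_assoc]
  have hyτ : t ≫ y₁ ≫ transl a g₀ = lift cT (t ≫ y₁) ≫ a.act := by
    rw [← Category.assoc, pt_transl]
  have ha : v₁ ≫ π = t ≫ y₁ := by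
    rw [hv₁, hπ', hv, hyτ, ← lift_mul_act, inv_mul_cancel, lift_one_act]
  set u : T' ⟶ V := lift (g ≫ l') v₁ ≫ Φ.act with hu
  have hb : u ≫ π = t ≫ y₁ := by
    rw [hu, hπ', ha]
    exact hfix T' t g
  have hc : lift cT u ≫ Φ.act = lift (g ≫ l) v ≫ Φ.act := by
    rw [hu, hv₁, ← lift_mul_act, ← lift_mul_act, hgl]
  have hd : lift cT v₁ ≫ Φ.act = v := by
    rw [hv₁, ← lift_mul_act, mul_inv_cancel, lift_one_act]
  have hU₂' : (lift cT (t ≫ y₁) ≫ a.act).left ⁻¹ᵁ U₂ = ⊤ := by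
    rw [← hyτ]
    have : (t ≫ y₁ ≫ transl a g₀).left ⁻¹ᵁ U₂ = t.left ⁻¹ᵁ ((y₁ ≫ transl a g₀).left ⁻¹ᵁ U₂) := rfl
    rw [this, hU₂]
    rfl
  have hU₁' : (t ≫ y₁).left ⁻¹ᵁ U₁ = ⊤ := by
    have : (t ≫ y₁).left ⁻¹ᵁ U₁ = t.left ⁻¹ᵁ (y₁.left ⁻¹ᵁ U₁) := rfl
    rw [this, hU₁]
    rfl
  obtain ⟨c₀, hc₀⟩ := eval_lin a π chart Φ hπ hlin hη₁ hη₂ cT (t ≫ y₁) hU₁' hU₂'
  have hgv₁ : (lift (g ≫ l') v₁ ≫ Φ.act) ≫ π = t ≫ y₁ := hb
  have W := hwt T' t g v₁ ha hgv₁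
  have hcu : (lift cT u ≫ Φ.act) ≫ π = t ≫ y₁ ≫ transl a g₀ := by rw [hc]; exact hgv
  have hcv : (lift cT v₁ ≫ Φ.act) ≫ π = t ≫ y₁ ≫ transl a g₀ := by rw [hd]; exact hv
  have E₁ := hc₀ u hb (top_le_preimage π hU₁ hb) (top_le_preimage π hU₂ hcu)
  have E₂ := hc₀ v₁ ha (top_le_preimage π hU₁ ha) (top_le_preimage π hU₂ hcv)
  rw [evalFn_congr π η₂ hc.symm (top_le_preimage π hU₂ hgv) (top_le_preimage π hU₂ hcu), E₁,
    evalFn_congr π η₂ hd.symm (top_le_preimage π hU₂ hv) (top_le_preimage π hU₂ hcv), E₂]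
  have W' : evalFn π η₁ u (top_le_preimage π hU₁ hb) =
      ((GmPts.unitOfPt g ^ w : (Γ(T'.left, ⊤))ˣ) : Γ(T'.left, ⊤)) *
        evalFn π η₁ v₁ (top_le_preimage π hU₁ ha) := W
  rw [W']
  ring

include hlin in
theorem isMuOf_transl (g₀ : 𝟙_ (Over S) ⟶ G) (l l' : Red.Gm S ⟶ G) [IsMonHom l] [IsMonHom l']
    (hl' : l' = (toUnit _ ≫ g₀)⁻¹ * l * (toUnit _ ≫ g₀)) {T : Over S} (x : T ⟶ X) (m : ℤ)
    (hchart : ∀ y : T ⟶ X, ∃ (U₂ : X.left.Opens) (η₂ : Γ(V.left, π.left ⁻¹ᵁ U₂)), η₂ ∈ chart U₂ ∧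
      y.left ⁻¹ᵁ U₂ = ⊤)
    (h : IsMuOf a π chart Φ l' x m) : IsMuOf a π chart Φ l (x ≫ transl a g₀) m := by
  obtain ⟨y, hy, hw⟩ := h
  exact ⟨y ≫ transl a g₀, isLimitPt_transl a g₀ l l' hl' x y hy,
    hasFibreWt_transl a π chart Φ hπ hlin g₀ l l' hl' y (-m) (hchart _) hw⟩

end Wt

/-- over a field every point of `X` lands in a chart domain -/
theorem exists_chart_of_field (k : Type u) [Field k] {G X : Over (Spec (CommRingCat.of k))} [GrpObj G]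
    {a : AlgGrp.Action G X} (B : GLinSh.LinBun G a) (y : 𝟙_ (Over (Spec (CommRingCat.of k))) ⟶ X) :
    ∃ (U₂ : X.left.Opens) (η₂ : Γ(B.V.left, B.π.left ⁻¹ᵁ U₂)), η₂ ∈ B.atlas.chart U₂ ∧
      y.left ⁻¹ᵁ U₂ = ⊤ := by
  let p : Spec (CommRingCat.of k) := default
  obtain ⟨U₂, hp, η₂, hη₂⟩ := B.atlas.cover (y.left p)
  refine ⟨U₂, η₂, hη₂, ?_⟩
  ext q
  have : q = p := by
    have hs : Subsingleton (Spec (CommRingCat.of k)) := inferInstance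
    exact hs.elim _ _
  constructor
  · intro _; trivial
  · intro _
    rw [this]
    exact hp

theorem main19786 (k : Type u) [Field k]
    (G X : Over (Spec (CommRingCat.of k))) [GrpObj G]
    (a : AlgGrp.Action G X) (B : GLinSh.LinBun G a) (x : 𝟙_ (Over (Spec (CommRingCat.of k))) ⟶ X)
    (l : Red.Gm (Spec (CommRingCat.of k)) ⟶ G) [IsMonHom l] (g₀ : 𝟙_ (Over (Spec (CommRingCat.of k))) ⟶ G)
    (l' : Red.Gm (Spec (CommRingCat.of k)) ⟶ G) [IsMonHom l'] (hl' : l' = (toUnit _ ≫ g₀)⁻¹ * l * (toUnit _ ≫ g₀))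
    (m : ℤ) : HMNum.IsMu B l (lift g₀ x ≫ a.act) m ↔ HMNum.IsMu B l' x m := by
  have e : lift g₀ x ≫ a.act = x ≫ transl a g₀ := by
    rw [pt_transl]
    congr 2
  have hl : l = (toUnit _ ≫ g₀⁻¹)⁻¹ * l' * (toUnit _ ≫ g₀⁻¹) := by
    rw [hl', GrpObj.comp_inv]
    group
  constructor
  · intro h
    have h2 := isMuOf_transl a B.π B.atlas.chart B.lift B.lift_π B.lift_linear g₀⁻¹ l' l hl
      (lift g₀ x ≫ a.act) m (exists_chart_of_field k B) h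
    rw [e, Category.assoc, transl_transl_inv, Category.comp_id] at h2
    exact h2
  · intro h
    rw [e]
    exact isMuOf_transl a B.π B.atlas.chart B.lift B.lift_π B.lift_linear g₀ l l' hl' x m
      (exists_chart_of_field k B) h

theorem isMonHom_of_pts {C : Type*} [Category C] [CartesianMonoidalCategory C] {X Y : C}
    [MonObj X] [MonObj Y]
    (f : X ⟶ Y) (h1 : (1 : 𝟙_ C ⟶ X) ≫ f = 1)
    (hmul : ∀ (T : C) (x y : T ⟶ X), (x * y) ≫ f = (x ≫ f) * (y ≫ f)) :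
    IsMonHom f where
  one_hom := by
    rw [Hom.one_def, Hom.one_def, toUnit_unique (toUnit (𝟙_ C)) (𝟙 _), Category.id_comp,
      Category.id_comp] at h1
    exact h1
  mul_hom := by
    have h := hmul _ (fst X X) (snd X X)
    rw [Hom.mul_def, Hom.mul_def, lift_fst_snd, Category.id_comp, lift_fst_comp_snd_comp] at h
    exact h

/-- the conjugate of a homomorphism by a constant point is a homomorphism -/
theorem isMonHom_conj {S : Scheme.{u}} {H G : Over S} [GrpObj H] [GrpObj G] (l : H ⟶ G) [IsMonHom l]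
    (g₀ : 𝟙_ (Over S) ⟶ G) : IsMonHom ((toUnit H ≫ g₀) * l * (toUnit H ≫ g₀)⁻¹) := by
  apply isMonHom_of_pts
  · rw [MonObj.comp_mul, MonObj.comp_mul, GrpObj.comp_inv, MonObj.one_comp l]
    group
  · intro T x y
    have hc : ∀ z : T ⟶ H, z ≫ toUnit H ≫ g₀ = toUnit T ≫ g₀ := by
      intro z
      rw [← Category.assoc, toUnit_unique (z ≫ toUnit H) (toUnit T)]
    rw [MonObj.comp_mul, MonObj.comp_mul, GrpObj.comp_inv, hc, MonObj.mul_comp x y l,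
      MonObj.comp_mul, MonObj.comp_mul, GrpObj.comp_inv, hc,
      MonObj.comp_mul, MonObj.comp_mul, GrpObj.comp_inv, hc]
    group

theorem main19791 (k : Type u) [Field k]
    (G X : Over (Spec (CommRingCat.of k))) [GrpObj G]
    (a : AlgGrp.Action G X) (B : GLinSh.LinBun G a)
    (nrm : (Red.Gm (Spec (CommRingCat.of k)) ⟶ G) → ℝ)
    (hnrm : ∀ (l : Red.Gm (Spec (CommRingCat.of k)) ⟶ G) [IsMonHom l] (g : 𝟙_ (Over (Spec (CommRingCat.of k))) ⟶ G),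
      nrm ((toUnit _ ≫ g) * l * (toUnit _ ≫ g)⁻¹) = nrm l)
    (x : 𝟙_ (Over (Spec (CommRingCat.of k))) ⟶ X) (g : 𝟙_ (Over (Spec (CommRingCat.of k))) ⟶ G) (q : ℝ) :
    (∃ (l : Red.Gm (Spec (CommRingCat.of k)) ⟶ G) (_ : IsMonHom l) (m : ℤ),
        l ≠ 1 ∧ HMNum.IsMu B l (lift g x ≫ a.act) m ∧ q = (m : ℝ) / nrm l) ↔
      ∃ (l : Red.Gm (Spec (CommRingCat.of k)) ⟶ G) (_ : IsMonHom l) (m : ℤ),
        l ≠ 1 ∧ HMNum.IsMu B l x m ∧ q = (m : ℝ) / nrm l := by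
  constructor
  · rintro ⟨l, hl, m, hne, hmu, hq⟩
    haveI := hl
    have hg' : (toUnit (Red.Gm (Spec (CommRingCat.of k))) ≫ g⁻¹) =
        (toUnit (Red.Gm (Spec (CommRingCat.of k))) ≫ g)⁻¹ := GrpObj.comp_inv _ _
    have hmon : IsMonHom ((toUnit _ ≫ g)⁻¹ * l * (toUnit _ ≫ g)) := by
      have := isMonHom_conj l g⁻¹
      rw [hg', inv_inv] at this
      exact this
    refine ⟨(toUnit _ ≫ g)⁻¹ * l * (toUnit _ ≫ g), hmon, m, ?_, ?_, ?_⟩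
    · intro h1
      apply hne
      have : l = (toUnit _ ≫ g) * ((toUnit _ ≫ g)⁻¹ * l * (toUnit _ ≫ g)) * (toUnit _ ≫ g)⁻¹ := by group
      rw [this, h1]
      group
    · exact (main19786 k G X a B x l g _ rfl m).1 hmu
    · rw [hq]
      congr 1
      have := hnrm ((toUnit _ ≫ g)⁻¹ * l * (toUnit _ ≫ g)) g
      rw [← this]
      congr 1
      group
  · rintro ⟨l, hl, m, hne, hmu, hq⟩
    haveI := hl
    have hmon : IsMonHom ((toUnit _ ≫ g) * l * (toUnit _ ≫ g)⁻¹) := isMonHom_conj l g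
    refine ⟨(toUnit _ ≫ g) * l * (toUnit _ ≫ g)⁻¹, hmon, m, ?_, ?_, ?_⟩
    · intro h1
      apply hne
      have : l = (toUnit _ ≫ g)⁻¹ * ((toUnit _ ≫ g) * l * (toUnit _ ≫ g)⁻¹) * (toUnit _ ≫ g) := by group
      rw [this, h1]
      group
    · exact (main19786 k G X a B x _ g l (by group) m).2 hmu
    · rw [hq, hnrm l g]

end Groth.Agent.Lib.H9HMNumConj
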