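import Mathlib
import Groth.Prelude
import Groth.Agent.Lib.H9HMNumConj

/-! helper9: the numerical function is constant on `P(λ)`-orbits (S19785). -/
set_option autoImplicit false
universe u
open CategoryTheory CategoryTheory.Limits MonoidalCategory CartesianMonoidalCategory MonObj
  AlgebraicGeometry Opposite

namespace Groth.Agent.Lib.H9HMNumPar

open Magnet HMNum Groth.Agent.Lib.H9HMNum Groth.Agent.Lib.H9HMNumConj

variable {S : Scheme.{u}} {G X : Over S} [GrpObj G]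

section P1

variable [IsSeparated G.hom] (l : Red.Gm S ⟶ G) [IsMonHom l] (g₀ : 𝟙_ (Over S) ⟶ G)
  (f : A1 S ⟶ G) (hf : incl S ≫ f = l * (toUnit _ ≫ g₀) * l⁻¹)

include hf in
/-- the extension `f` of `u ↦ l(u) g₀ l(u)⁻¹` to the affine line is equivariant for conjugation -/
theorem f_conj {T' : Over S} (s : T' ⟶ Red.Gm S) (b : T' ⟶ A1 S) :
    ((s ≫ incl S) * b) ≫ f = (s ≫ l) * (b ≫ f) * (s ≫ l)⁻¹ := by
  have key : ((snd (A1 S) (Red.Gm S) ≫ incl S) * fst (A1 S) (Red.Gm S)) ≫ f =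
      (snd (A1 S) (Red.Gm S) ≫ l) * (fst (A1 S) (Red.Gm S) ≫ f) * (snd (A1 S) (Red.Gm S) ≫ l)⁻¹ := by
    refine Groth.Agent.Lib.H9Magnet3.ext_of_whiskerRight S plus.subtype Subtype.val_injective _ _ ?_
    have hc : ∀ {T : Over S} (z : T ⟶ Red.Gm S), z ≫ toUnit (Red.Gm S) ≫ g₀ = toUnit T ≫ g₀ := by
      intro T z
      rw [← Category.assoc, toUnit_unique (z ≫ toUnit (Red.Gm S)) (toUnit T)]
    have e1 : (incl S ▷ Red.Gm S) ≫ ((snd (A1 S) (Red.Gm S) ≫ incl S) * fst (A1 S) (Red.Gm S)) =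
        (snd (Red.Gm S) (Red.Gm S) * fst (Red.Gm S) (Red.Gm S)) ≫ incl S := by
      rw [MonObj.comp_mul, whiskerRight_snd_assoc, whiskerRight_fst, MonObj.mul_comp]
    change (AMonS.map S plus.subtype ▷ Red.Gm S) ≫ _ = (AMonS.map S plus.subtype ▷ Red.Gm S) ≫ _
    change (incl S ▷ Red.Gm S) ≫ _ = (incl S ▷ Red.Gm S) ≫ _
    rw [← Category.assoc, e1, Category.assoc, hf, MonObj.comp_mul, MonObj.comp_mul, GrpObj.comp_inv,
      MonObj.mul_comp _ _ l, hc,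
      MonObj.comp_mul, MonObj.comp_mul, GrpObj.comp_inv, whiskerRight_snd_assoc, whiskerRight_fst_assoc, hf,
      MonObj.comp_mul, MonObj.comp_mul, GrpObj.comp_inv, hc]
    group
  have := congr(lift b s ≫ $key)
  rw [← Category.assoc, MonObj.comp_mul, lift_snd_assoc, lift_fst,
    MonObj.comp_mul, MonObj.comp_mul, GrpObj.comp_inv, lift_snd_assoc, lift_fst_assoc] at this
  exact this

include hf in
/-- the limit `γ₀ = f(0)` commutes with `l` -/
theorem conj_origin : (toUnit _ ≫ origin S ≫ f)⁻¹ * l * (toUnit _ ≫ origin S ≫ f) = l := by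
  have h := f_conj l g₀ f hf (𝟙 (Red.Gm S)) (toUnit (Red.Gm S) ≫ origin S)
  have h0 : (𝟙 (Red.Gm S) ≫ incl S) * (toUnit (Red.Gm S) ≫ origin S) = toUnit (Red.Gm S) ≫ origin S := by
    rw [← Groth.Agent.Lib.H9Magnet5.lift_subAct_act]
    exact act_origin (𝟙 (Red.Gm S))
  rw [h0, Category.id_comp, Category.assoc] at h
  generalize toUnit (Red.Gm S) ≫ origin S ≫ f = c at h ⊢
  calc c⁻¹ * l * c = c⁻¹ * (l * c * l⁻¹) * l := by group
    _ = c⁻¹ * c * l := by rw [← h]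
    _ = l := by group

include hf in
theorem unit_comp_f : η[A1 S] ≫ f = g₀ := by
  have h1 : η[A1 S] = η[Red.Gm S] ≫ incl S := (IsMonHom.one_hom (incl S)).symm
  have h2 : η[Red.Gm S] ≫ l = η[G] := IsMonHom.one_hom l
  have h3 : η[Red.Gm S] ≫ toUnit (Red.Gm S) ≫ g₀ = g₀ := by
    rw [← Category.assoc, toUnit_unique (η[Red.Gm S] ≫ toUnit (Red.Gm S)) (𝟙 _), Category.id_comp]
  rw [h1, Category.assoc, hf, MonObj.comp_mul, MonObj.comp_mul, GrpObj.comp_inv, h2, h3,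
    MonObj.one_eq_one]
  group

include hf in
theorem isLimitPt_par (a : AlgGrp.Action G X) {T : Over S} (x y : T ⟶ X) (h : IsLimitPt a l x y) :
    IsLimitPt a l (x ≫ transl a g₀) (y ≫ transl a (origin S ≫ f)) := by
  obtain ⟨φ, rfl, rfl⟩ := h
  have hmem : MonAct.IsEquivariant ((subAct S ℤ plus).prod (MonAct.trivial (Red.Gm S) T)) (gmAct a l)
      (lift (fst (A1 S) T ≫ f) φ.1 ≫ a.act) := by
    rw [MonAct.mem_eqvHom_iff]
    intro T' s b t
    have hφ := (MonAct.mem_eqvHom_iff φ.1).mp φ.2 T' s b t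
    rw [MonAct.lift_restrict_act, MonAct.ofAction_act] at hφ
    rw [MonAct.lift_restrict_act, MonAct.ofAction_act, ← Category.assoc, ← Category.assoc, comp_lift,
      comp_lift, lift_fst_assoc, lift_fst_assoc, hφ, Groth.Agent.Lib.H9Magnet5.lift_subAct_act,
      f_conj l g₀ f hf s b, ← lift_mul_act, ← lift_mul_act]
    congr 2
    group
  refine ⟨⟨lift (fst (A1 S) T ≫ f) φ.1 ≫ a.act, hmem⟩, ?_, ?_⟩
  · show lift (toUnit T ≫ η[A1 S]) (𝟙 T) ≫ lift (fst (A1 S) T ≫ f) φ.1 ≫ a.act =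
      (lift (toUnit T ≫ η[A1 S]) (𝟙 T) ≫ φ.1) ≫ transl a g₀
    rw [pt_transl, ← Category.assoc, comp_lift, lift_fst_assoc, Category.assoc, unit_comp_f l g₀ f hf]
  · rw [limitPt_eq, limitPt_eq]
    show lift (toUnit T ≫ origin S) (𝟙 T) ≫ lift (fst (A1 S) T ≫ f) φ.1 ≫ a.act =
      (lift (toUnit T ≫ origin S) (𝟙 T) ≫ φ.1) ≫ transl a (origin S ≫ f)
    rw [pt_transl, ← Category.assoc, comp_lift, lift_fst_assoc, Category.assoc]

end P1

section Par

variable [IsSeparated G.hom] (a : AlgGrp.Action G X) {V : Over S} (π : V ⟶ X)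
  (chart : ∀ U : X.left.Opens, Set (Γ(V.left, π.left ⁻¹ᵁ U))) (Φ : AlgGrp.Action G V)
  (hπ : Φ.act ≫ π = (G ◁ π) ≫ a.act) (hlin : GLinSh.IsLinearLift a π Φ chart hπ)

include hlin in
theorem isMuOf_par (l : Red.Gm S ⟶ G) [IsMonHom l] (g₀ : 𝟙_ (Over S) ⟶ G)
    (f : A1 S ⟶ G) (hf : incl S ≫ f = l * (toUnit _ ≫ g₀) * l⁻¹) {T : Over S} (x : T ⟶ X) (m : ℤ)
    (hchart : ∀ y : T ⟶ X, ∃ (U₂ : X.left.Opens) (η₂ : Γ(V.left, π.left ⁻¹ᵁ U₂)), η₂ ∈ chart U₂ ∧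
      y.left ⁻¹ᵁ U₂ = ⊤)
    (h : IsMuOf a π chart Φ l x m) : IsMuOf a π chart Φ l (x ≫ transl a g₀) m := by
  obtain ⟨y, hy, hw⟩ := h
  refine ⟨y ≫ transl a (origin S ≫ f), isLimitPt_par l g₀ f hf a x y hy, ?_⟩
  exact hasFibreWt_transl a π chart Φ hπ hlin (origin S ≫ f) l l (conj_origin l g₀ f hf).symm y (-m)
    (hchart _) hw

end Par

theorem main19785 (k : Type u) [Field k]
    (G X : Over (Spec (CommRingCat.of k))) [GrpObj G] [IsSeparated G.hom]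
    (a : AlgGrp.Action G X) (B : GLinSh.LinBun G a) (x : 𝟙_ (Over (Spec (CommRingCat.of k))) ⟶ X)
    (l : Red.Gm (Spec (CommRingCat.of k)) ⟶ G) [IsMonHom l] (g₀ : 𝟙_ (Over (Spec (CommRingCat.of k))) ⟶ G)
    (hg₀ : ∃ f : HMNum.A1 (Spec (CommRingCat.of k)) ⟶ G,
      HMNum.incl (Spec (CommRingCat.of k)) ≫ f = l * (toUnit _ ≫ g₀) * l⁻¹)
    (l' : Red.Gm (Spec (CommRingCat.of k)) ⟶ G) [IsMonHom l'] (hl' : l' = (toUnit _ ≫ g₀)⁻¹ * l * (toUnit _ ≫ g₀))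
    (m : ℤ) : HMNum.IsMu B l x m ↔ HMNum.IsMu B l' x m := by
  obtain ⟨f, hf⟩ := hg₀
  have e : lift g₀ x ≫ a.act = x ≫ transl a g₀ := by
    rw [pt_transl]
    congr 2
  constructor
  · intro h
    have h1 := isMuOf_par a B.π B.atlas.chart B.lift B.lift_π B.lift_linear l g₀ f hf x m
      (exists_chart_of_field k B) h
    rw [← e] at h1
    exact (main19786 k G X a B x l g₀ l' hl' m).1 h1
  · intro h
    have h1 := (main19786 k G X a B x l g₀ l' hl' m).2 h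
    rw [e] at h1
    have hf' : incl (Spec (CommRingCat.of k)) ≫ f⁻¹ = l * (toUnit _ ≫ g₀⁻¹) * l⁻¹ := by
      rw [GrpObj.comp_inv, hf, GrpObj.comp_inv]
      group
    have h2 := isMuOf_par a B.π B.atlas.chart B.lift B.lift_π B.lift_linear l g₀⁻¹ f⁻¹ hf'
      (x ≫ transl a g₀) m (exists_chart_of_field k B) h1
    rw [Category.assoc, transl_transl_inv, Category.comp_id] at h2
    exact h2

end Groth.Agent.Lib.H9HMNumPar
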