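import Mathlib
import Groth.Agent.Lib.Helper28Hartshorne

set_option autoImplicit false
set_option linter.style.haveILetI false
set_option linter.unusedSectionVars false
universe u v w

namespace Groth.Agent.Lib.H9HartshorneConn

-- ===== from HCN =====
section SecHCN
open Groth.Agent.Lib.Helper28

theorem main (A : Type u) [CommRing A] [IsNoetherianRing A] [ConnectedSpace (PrimeSpectrum A)]
    (d : ℕ) (hd : 1 ≤ d)
    (h : ∀ p : PrimeSpectrum A, (d : ℕ∞) ≤ p.asIdeal.height →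
      (2 : ℕ∞) ≤ LocCoh.depth (Localization.AtPrime p.asIdeal) (Localization.AtPrime p.asIdeal))
    (p' p'' : PrimeSpectrum A) (hp' : p'.asIdeal ∈ minimalPrimes A)
    (hp'' : p''.asIdeal ∈ minimalPrimes A) :
    ∃ l : List (PrimeSpectrum A), l.head? = some p' ∧ l.getLast? = some p'' ∧
      (∀ p ∈ l, p.asIdeal ∈ minimalPrimes A) ∧
      List.IsChain (fun p q => ∃ r : PrimeSpectrum A, p ≤ r ∧ q ≤ r ∧
        r.asIdeal.height ≤ (d - 1 : ℕ)) l := by
  classical
  let R : PrimeSpectrum A → PrimeSpectrum A → Prop := fun p q =>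
    p.asIdeal ∈ minimalPrimes A ∧ q.asIdeal ∈ minimalPrimes A ∧
      ∃ r : PrimeSpectrum A, p ≤ r ∧ q ≤ r ∧ r.asIdeal.height ≤ (d - 1 : ℕ)
  suffices hconn : Relation.ReflTransGen R p' p'' by
    obtain ⟨l, hl, hlast⟩ := List.exists_isChain_cons_of_relationReflTransGen hconn
    refine ⟨p' :: l, rfl, ?_, ?_, ?_⟩
    · rw [List.getLast?_eq_getLast_of_ne_nil (List.cons_ne_nil _ _), hlast]
    · exact List.IsChain.induction (fun p => p.asIdeal ∈ minimalPrimes A) _ hl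
        (fun x y hxy _ => hxy.2.1) (fun _ => hp')
    · exact List.IsChain.imp (fun a b hab => hab.2.2) hl
  by_contra hnot
  have hfin : (minimalPrimes A).Finite := minimalPrimes.finite_of_isNoetherianRing A
  let F1 : Finset (Ideal A) := hfin.toFinset.filter
    (fun P => ∃ hP : P.IsPrime, Relation.ReflTransGen R p' ⟨P, hP⟩)
  let F2 : Finset (Ideal A) := hfin.toFinset.filter
    (fun P => ¬ ∃ hP : P.IsPrime, Relation.ReflTransGen R p' ⟨P, hP⟩)
  have hF : ∀ P, P ∈ minimalPrimes A → P ∈ F1 ∨ P ∈ F2 := by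
    intro P hP
    by_cases hc : ∃ hP : P.IsPrime, Relation.ReflTransGen R p' ⟨P, hP⟩
    · left
      exact Finset.mem_filter.mpr ⟨hfin.mem_toFinset.mpr hP, hc⟩
    · right
      exact Finset.mem_filter.mpr ⟨hfin.mem_toFinset.mpr hP, hc⟩
  have hF1 : ∀ P ∈ F1, P ∈ minimalPrimes A := fun P hP =>
    hfin.mem_toFinset.mp (Finset.mem_filter.mp hP).1
  have hF2 : ∀ P ∈ F2, P ∈ minimalPrimes A := fun P hP =>
    hfin.mem_toFinset.mp (Finset.mem_filter.mp hP).1
  have hdisj : ∀ P, P ∈ F1 → P ∈ F2 → False := fun P h1 h2 =>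
    (Finset.mem_filter.mp h2).2 (Finset.mem_filter.mp h1).2
  have hp'F1 : p'.asIdeal ∈ F1 :=
    Finset.mem_filter.mpr ⟨hfin.mem_toFinset.mpr hp', p'.isPrime, Relation.ReflTransGen.refl⟩
  have hp''F2 : p''.asIdeal ∈ F2 := by
    refine Finset.mem_filter.mpr ⟨hfin.mem_toFinset.mpr hp'', ?_⟩
    rintro ⟨_, hc⟩
    exact hnot hc
  -- the two closed sets
  have hIle : ∀ P ∈ F1, F1.inf id ≤ P := fun P hP => Finset.inf_le (f := id) hP
  have hJle : ∀ P ∈ F2, F2.inf id ≤ P := fun P hP => Finset.inf_le (f := id) hP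
  have hcover : (Set.univ : Set (PrimeSpectrum A)) ⊆
      PrimeSpectrum.zeroLocus (F1.inf id : Ideal A) ∪
        PrimeSpectrum.zeroLocus (F2.inf id : Ideal A) := by
    intro x _
    obtain ⟨P, hPmin, hPx⟩ := Ideal.exists_minimalPrimes_le (I := ⊥) (J := x.asIdeal) bot_le
    rcases hF P hPmin with h1 | h2
    · left
      exact (PrimeSpectrum.mem_zeroLocus _ _).mpr ((hIle P h1).trans hPx)
    · right
      exact (PrimeSpectrum.mem_zeroLocus _ _).mpr ((hJle P h2).trans hPx)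
  have hpre : IsPreconnected (Set.univ : Set (PrimeSpectrum A)) := isPreconnected_univ
  obtain ⟨x, -, hx1, hx2⟩ := isPreconnected_closed_iff.mp hpre _ _
    (PrimeSpectrum.isClosed_zeroLocus _) (PrimeSpectrum.isClosed_zeroLocus _) hcover
    ⟨p', trivial, (PrimeSpectrum.mem_zeroLocus _ _).mpr (hIle _ hp'F1)⟩
    ⟨p'', trivial, (PrimeSpectrum.mem_zeroLocus _ _).mpr (hJle _ hp''F2)⟩
  have hx1' : F1.inf id ≤ x.asIdeal := (PrimeSpectrum.mem_zeroLocus _ _).mp hx1
  have hx2' : F2.inf id ≤ x.asIdeal := (PrimeSpectrum.mem_zeroLocus _ _).mp hx2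
  obtain ⟨q, hqmin, hqx⟩ := Ideal.exists_minimalPrimes_le (I := F1.inf id ⊔ F2.inf id)
    (J := x.asIdeal) (sup_le hx1' hx2')
  haveI hqprime : q.IsPrime := hqmin.1.1
  have hnd := not_two_le_depth_of_mem_minimalPrimes_sup_inf F1 F2 hF hF1 hF2 hdisj q hqmin
  apply hnd
  apply h ⟨q, hqprime⟩
  -- the height of `q` is at least `d`
  by_contra hlt
  have hle : q.height ≤ ((d - 1 : ℕ) : ℕ∞) := by
    rw [not_le] at hlt
    have h1 : q.height + 1 ≤ (d : ℕ∞) := Order.add_one_le_of_lt hlt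
    have hne : q.height ≠ ⊤ := ne_top_of_lt hlt
    lift q.height to ℕ using hne with a ha
    have h2 : a + 1 ≤ d := by exact_mod_cast h1
    exact_mod_cast (show a ≤ d - 1 by omega)
  obtain ⟨P1, hP1, hP1q⟩ := (Ideal.IsPrime.inf_le' hqprime).mp (le_sup_left.trans hqmin.1.2)
  obtain ⟨P2, hP2, hP2q⟩ := (Ideal.IsPrime.inf_le' hqprime).mp (le_sup_right.trans hqmin.1.2)
  obtain ⟨hP1prime, hP1conn⟩ := (Finset.mem_filter.mp hP1).2
  have hP2prime : P2.IsPrime := (hF2 P2 hP2).1.1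
  apply (Finset.mem_filter.mp hP2).2
  refine ⟨hP2prime, hP1conn.tail ⟨hF1 P1 hP1, hF2 P2 hP2, ⟨q, hqprime⟩, hP1q, hP2q, hle⟩⟩

end SecHCN


end Groth.Agent.Lib.H9HartshorneConn
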