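import Mathlib
import Groth.Agent.Lib.H9HensCouple
import Groth.Agent.Lib.Helper26HzNoeth

/-! Henselian couples (helper9), part 2: `isPushout_quotient` (quotient squares are pushouts of rings) and `main17965` (S17965): a proper scheme over a Noetherian ring forming a henselian couple with its closed fibre is proper over the (Noetherian) henselization of the pair. -/

set_option autoImplicit false
set_option linter.style.haveILetI false
set_option linter.unusedSimpArgs false
set_option linter.unusedVariables false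
universe u

namespace Groth.Agent.Lib.H9HensCouple2

open CategoryTheory CategoryTheory.Limits AlgebraicGeometry TopologicalSpace Opposite

-- ===== part HcH =====
section

/-- The square of quotients `A/I → A'/IA'` over `A → A'` is a pushout of commutative rings. -/
theorem isPushout_quotient {A A' : Type u} [CommRing A] [CommRing A'] (φ : A →+* A') (I : Ideal A) :
    IsPushout (CommRingCat.ofHom φ) (CommRingCat.ofHom (Ideal.Quotient.mk I))
      (CommRingCat.ofHom (Ideal.Quotient.mk (I.map φ)))
      (CommRingCat.ofHom (Ideal.quotientMap (I.map φ) φ Ideal.le_comap_map)) := by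
  refine ⟨⟨?_⟩, ⟨PushoutCocone.IsColimit.mk _ (fun s => CommRingCat.ofHom
    (Ideal.Quotient.lift (I.map φ) s.inl.hom ?_)) ?_ ?_ ?_⟩⟩
  · ext a
    simp
  · intro x hx
    have hle : I.map φ ≤ RingHom.ker s.inl.hom := by
      rw [Ideal.map_le_iff_le_comap]
      intro a ha
      rw [Ideal.mem_comap, RingHom.mem_ker]
      have h1 := congrArg (fun ψ => ψ.hom a) s.condition
      simp only [CommRingCat.hom_comp, CommRingCat.hom_ofHom, RingHom.coe_comp,
        Function.comp_apply] at h1
      rw [h1, Ideal.Quotient.eq_zero_iff_mem.mpr ha, map_zero]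
    exact hle hx
  · intro s
    ext x
    simp
  · intro s
    ext a
    have h1 := congrArg (fun ψ => ψ.hom a) s.condition
    simp only [CommRingCat.hom_comp, CommRingCat.hom_ofHom, RingHom.coe_comp,
      Function.comp_apply] at h1
    simp [h1]
  · intro s m h1 h2
    ext b
    have := congrArg (fun ψ => ψ.hom b) h1
    simpa using this



open Groth.Agent.Lib.Helper26.PairHz

theorem main17965
    (A : Type u) [CommRing A] [IsNoetherianRing A] (I : Ideal A) {X : Scheme.{u}}
    (f : X ⟶ Spec (CommRingCat.of A)) [IsProper f]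
    (hX : ∀ (Y : Scheme.{u}) (g : Y ⟶ X), IsFinite g →
      ∀ V : Set ↥(pullback g (pullback.fst f (Spec.map (CommRingCat.ofHom (Ideal.Quotient.mk I))))), IsClopen V →
        ∃! U : Set ↥Y, IsClopen U ∧ (pullback.fst g (pullback.fst f (Spec.map (CommRingCat.ofHom (Ideal.Quotient.mk I))))).base ⁻¹' U = V) :
    ∃ (A' : Type u) (_ : CommRing A') (I' : Ideal A') (_ : HenselianRing A' I') (_ : IsNoetherianRing A')
      (f' : X ⟶ Spec (CommRingCat.of A')) (_ : IsProper f')
      (t : pullback f (Spec.map (CommRingCat.ofHom (Ideal.Quotient.mk I))) ⟶ Spec (CommRingCat.of (A' ⧸ I'))),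
      IsPullback (pullback.fst f (Spec.map (CommRingCat.ofHom (Ideal.Quotient.mk I)))) t f' (Spec.map (CommRingCat.ofHom (Ideal.Quotient.mk I'))) := by
  set q := Spec.map (CommRingCat.ofHom (Ideal.Quotient.mk I)) with hq
  set i := pullback.fst f q with hi
  set sn := pullback.snd f q with hsn
  haveI : IsClosedImmersion q := IsClosedImmersion.spec_of_surjective _ Ideal.Quotient.mk_surjective
  haveI : IsClosedImmersion i := inferInstance
  haveI : CompactSpace X := QuasiCompact.compactSpace_of_compactSpace f
  haveI : QuasiSeparatedSpace X := quasiSeparatedSpace_of_quasiSeparated f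
  have hB := Groth.Agent.Lib.H9HensCouple.main i hX
  have hA' := isPairHenselization_Hz (A := A) (I := I)
  let θc : CommRingCat.of A ⟶ Γ(X, ⊤) := (Scheme.ΓSpecIso (CommRingCat.of A)).inv ≫ f.appTop
  have hθ : I.map θc.hom ≤ RingHom.ker i.appTop.hom := by
    rw [Ideal.map_le_iff_le_comap]
    intro a ha
    rw [Ideal.mem_comap, RingHom.mem_ker]
    have h1 : i.appTop.hom (θc.hom a) = (θc ≫ i.appTop).hom a := rfl
    have h2 : θc ≫ i.appTop = CommRingCat.ofHom (Ideal.Quotient.mk I) ≫
        (Scheme.ΓSpecIso (CommRingCat.of (A ⧸ I))).inv ≫ sn.appTop := by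
      rw [Scheme.ΓSpecIso_inv_naturality_assoc, ← Scheme.Hom.comp_appTop, Category.assoc,
        ← Scheme.Hom.comp_appTop, pullback.condition]
    rw [h1, h2]
    simp only [CommRingCat.hom_comp, CommRingCat.hom_ofHom, RingHom.coe_comp,
      Function.comp_apply, Ideal.Quotient.eq_zero_iff_mem.mpr ha, map_zero]
  obtain ⟨g', hg', -⟩ := hA'.2 Γ(X, ⊤) _ θc.hom hB hθ
  let c : Spec (CommRingCat.of (Hz A I)) ⟶ Spec (CommRingCat.of A) :=
    Spec.map (CommRingCat.ofHom (algebraMap A (Hz A I)))
  let f' : X ⟶ Spec (CommRingCat.of (Hz A I)) := X.toSpecΓ ≫ Spec.map (CommRingCat.ofHom g')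
  have hf'c : f' ≫ c = f := by
    change (X.toSpecΓ ≫ Spec.map (CommRingCat.ofHom g')) ≫
      Spec.map (CommRingCat.ofHom (algebraMap A (Hz A I))) = f
    rw [Category.assoc, ← Spec.map_comp]
    have h1 : CommRingCat.ofHom (algebraMap A (Hz A I)) ≫ CommRingCat.ofHom g' = θc := by
      ext a
      exact congrArg (fun k : A →+* Γ(X, ⊤) => k a) hg'
    rw [h1, Spec.map_comp, ← Scheme.toSpecΓ_naturality_assoc, toSpecΓ_SpecMap_ΓSpecIso_inv,
      Category.comp_id]
  haveI : IsProper (f' ≫ c) := by rw [hf'c]; infer_instance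
  haveI : IsProper f' := IsProper.of_comp f' c
  have hR := isPullback_SpecMap_of_isPushout _ _ _ _
    (isPushout_quotient (algebraMap A (Hz A I)) I)
  -- hR : IsPullback (Spec mk') (Spec quotientMap) (Spec algebraMap) (Spec mk)
  have hw : sn ≫ q = (i ≫ f') ≫ c := by
    rw [Category.assoc, hf'c, pullback.condition]
  let t : pullback f q ⟶ Spec (CommRingCat.of (Hz A I ⧸ I.map (algebraMap A (Hz A I)))) :=
    hR.lift (i ≫ f') sn hw.symm
  have ht1 : t ≫ Spec.map (CommRingCat.ofHom (Ideal.Quotient.mk (I.map (algebraMap A (Hz A I))))) =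
      i ≫ f' := hR.lift_fst _ _ _
  have ht2 : t ≫ Spec.map (CommRingCat.ofHom (Ideal.quotientMap (I.map (algebraMap A (Hz A I)))
      (algebraMap A (Hz A I)) Ideal.le_comap_map)) = sn := hR.lift_snd _ _ _
  refine ⟨Hz A I, inferInstance, I.map (algebraMap A (Hz A I)), hA'.1,
    Groth.Agent.Lib.Helper26.HzNoeth.isNoetherianRing_of_isPairHenselization hA', f', inferInstance,
    t, ?_⟩
  have houter : IsPullback (t ≫ Spec.map (CommRingCat.ofHom (Ideal.quotientMap
      (I.map (algebraMap A (Hz A I))) (algebraMap A (Hz A I)) Ideal.le_comap_map))) i q (f' ≫ c) := by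
    rw [ht2, hf'c]
    exact (IsPullback.of_hasPullback f q).flip
  exact (IsPullback.of_right houter ht1 hR.flip).flip

end

end Groth.Agent.Lib.H9HensCouple2
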