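import Mathlib
import Groth.Agent.S0521

set_option autoImplicit false
set_option linter.style.haveILetI false
set_option linter.unusedSectionVars false
universe u v w

namespace Groth.Agent.Lib.H9HenselClopen

-- ===== from HC1 =====
section SecHC1
open CategoryTheory CategoryTheory.Limits AlgebraicGeometry

/-- clopens lift uniquely along `f` -/
def CL {P Y : Type*} [TopologicalSpace P] [TopologicalSpace Y] (f : P → Y) : Prop :=
  ∀ V : Set P, IsClopen V → ∃! U : Set Y, IsClopen U ∧ f ⁻¹' U = V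

section Top

variable {P P' Y Y' : Type*} [TopologicalSpace P] [TopologicalSpace P'] [TopologicalSpace Y]
  [TopologicalSpace Y']

theorem CL.of_homeo_aux (k : P ≃ₜ P') (h : Y ≃ₜ Y') (f : P → Y) (f' : P' → Y')
    (hc : ∀ p, f' (k p) = h (f p)) (H : CL f) : CL f' := by
  intro V' hV'
  have hV : IsClopen (k ⁻¹' V') := hV'.preimage k.continuous
  obtain ⟨U, ⟨hU, hUV⟩, huniq⟩ := H _ hV
  have key : ∀ W : Set Y', f' ⁻¹' W = V' ↔ f ⁻¹' (h ⁻¹' W) = k ⁻¹' V' := by
    intro W
    constructor
    · intro hW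
      ext p
      simp only [Set.mem_preimage]
      rw [← hc, ← hW]
      rfl
    · intro hW
      ext p'
      obtain ⟨p, rfl⟩ := k.surjective p'
      have := Set.ext_iff.mp hW p
      simp only [Set.mem_preimage] at this
      rw [Set.mem_preimage, hc]
      exact this
  refine ⟨h.symm ⁻¹' U, ⟨hU.preimage h.symm.continuous, ?_⟩, ?_⟩
  · rw [key]
    have : h ⁻¹' (h.symm ⁻¹' U) = U := by
      ext y; simp
    rw [this, hUV]
  · rintro W ⟨hW, hWV⟩
    have h1 := huniq (h ⁻¹' W) ⟨hW.preimage h.continuous, (key W).mp hWV⟩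
    rw [← h1]
    ext y; simp

theorem CL.of_homeo (k : P ≃ₜ P') (h : Y ≃ₜ Y') (f : P → Y) (f' : P' → Y')
    (hc : ∀ p, f' (k p) = h (f p)) : CL f ↔ CL f' := by
  refine ⟨CL.of_homeo_aux k h f f' hc, CL.of_homeo_aux k.symm h.symm f' f ?_⟩
  intro p'
  obtain ⟨p, rfl⟩ := k.surjective p'
  rw [Homeomorph.symm_apply_apply, hc, Homeomorph.symm_apply_apply]

theorem CL.iff_subtype {f : P → Y} (hf : Topology.IsEmbedding f) :
    CL f ↔ CL (Subtype.val : Set.range f → Y) := by
  refine CL.of_homeo hf.toHomeomorph (Homeomorph.refl Y) f Subtype.val ?_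
  intro p
  rfl

theorem CL.iff_of_embedding {f : P → Y} {f' : P' → Y'} (hf : Topology.IsEmbedding f)
    (hf' : Topology.IsEmbedding f') (h : Y ≃ₜ Y') (hr : h '' Set.range f = Set.range f') :
    CL f ↔ CL f' := by
  rw [CL.iff_subtype hf, CL.iff_subtype hf']
  have h2 : CL (Subtype.val : Set.range f → Y) ↔ CL (Subtype.val : (h '' Set.range f) → Y') := by
    refine CL.of_homeo (h.image (Set.range f)) h Subtype.val Subtype.val ?_
    intro p
    rfl
  rw [h2, hr]

end Top

section Ring

variable {B C : Type*} [CommRing B] [CommRing C] (φ : B →+* C)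

theorem preimage_comap_basicOpen (e : B) :
    PrimeSpectrum.comap φ ⁻¹' (PrimeSpectrum.basicOpen e : Set (PrimeSpectrum B)) =
      (PrimeSpectrum.basicOpen (φ e) : Set (PrimeSpectrum C)) := by
  ext p
  simp only [Set.mem_preimage, SetLike.mem_coe, PrimeSpectrum.mem_basicOpen,
    PrimeSpectrum.comap_asIdeal, Ideal.mem_comap]

theorem isClopen_basicOpen_of_idem {e : B} (he : IsIdempotentElem e) :
    IsClopen (PrimeSpectrum.basicOpen e : Set (PrimeSpectrum B)) := by
  apply PrimeSpectrum.isClopen_basicOpen_of_mul_add e (1 - e)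
  · rw [mul_sub, mul_one, he.eq, sub_self]
  · ring

theorem basicOpen_inj_of_idem {e₁ e₂ : B} (h1 : IsIdempotentElem e₁) (h2 : IsIdempotentElem e₂)
    (h : (PrimeSpectrum.basicOpen e₁ : Set (PrimeSpectrum B)) = PrimeSpectrum.basicOpen e₂) :
    e₁ = e₂ :=
  PrimeSpectrum.basicOpen_injOn_isIdempotentElem h1 h2 (SetLike.ext' h)

theorem cl_comap_iff_bijOn :
    CL (PrimeSpectrum.comap φ) ↔
      Set.BijOn φ {e : B | IsIdempotentElem e} {e : C | IsIdempotentElem e} := by
  constructor
  · intro H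
    refine ⟨fun e he => he.map φ, ?_, ?_⟩
    · intro e₁ h1 e₂ h2 h12
      obtain ⟨U, _, huniq⟩ := H _ (isClopen_basicOpen_of_idem (h1.map φ))
      have a1 := huniq _ ⟨isClopen_basicOpen_of_idem h1, preimage_comap_basicOpen φ e₁⟩
      have a2 := huniq _ ⟨isClopen_basicOpen_of_idem h2, by
        rw [preimage_comap_basicOpen φ e₂, h12]⟩
      exact basicOpen_inj_of_idem h1 h2 (a1.trans a2.symm)
    · intro e' he'
      obtain ⟨U, ⟨hU, hUV⟩, _⟩ := H _ (isClopen_basicOpen_of_idem he')
      obtain ⟨e, he, rfl⟩ := PrimeSpectrum.exists_idempotent_basicOpen_eq_of_isClopen hU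
      refine ⟨e, he, ?_⟩
      rw [preimage_comap_basicOpen] at hUV
      exact basicOpen_inj_of_idem (he.map φ) he' hUV
  · rintro ⟨hmaps, hinj, hsurj⟩ V hV
    obtain ⟨e', he', rfl⟩ := PrimeSpectrum.exists_idempotent_basicOpen_eq_of_isClopen hV
    obtain ⟨e, he, rfl⟩ := hsurj he'
    refine ⟨PrimeSpectrum.basicOpen e, ⟨isClopen_basicOpen_of_idem he,
      preimage_comap_basicOpen φ e⟩, ?_⟩
    rintro U' ⟨hU', hU'V⟩
    obtain ⟨e₂, he₂, rfl⟩ := PrimeSpectrum.exists_idempotent_basicOpen_eq_of_isClopen hU'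
    rw [preimage_comap_basicOpen] at hU'V
    have := basicOpen_inj_of_idem (he₂.map φ) (he.map φ) hU'V
    rw [hinj he₂ he this]

end Ring

end SecHC1

-- ===== from HC2 =====
section SecHC2
open CategoryTheory CategoryTheory.Limits AlgebraicGeometry

section Sch

variable (A : Type u) [CommRing A] (I : Ideal A)

/-- the closed immersion `Spec (A/I) ⟶ Spec A` -/
noncomputable abbrev iota : Spec (CommRingCat.of (A ⧸ I)) ⟶ Spec (CommRingCat.of A) :=
  Spec.map (CommRingCat.ofHom (Ideal.Quotient.mk I))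

scoped instance : IsClosedImmersion (iota A I) :=
  IsClosedImmersion.spec_of_surjective _ Ideal.Quotient.mk_surjective

theorem range_iota : Set.range (iota A I).base = PrimeSpectrum.zeroLocus (I : Set A) := by
  have h : Set.range (PrimeSpectrum.comap (Ideal.Quotient.mk I)) =
      PrimeSpectrum.zeroLocus (RingHom.ker (Ideal.Quotient.mk I) : Set A) :=
    _root_.range_comap_of_surjective _ _ Ideal.Quotient.mk_surjective
  rw [Ideal.mk_ker] at h
  exact h

variable {A I}

theorem range_fst {Y : Scheme.{u}} (g : Y ⟶ Spec (CommRingCat.of A)) :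
    Set.range (pullback.fst g (iota A I)).base = g.base ⁻¹' PrimeSpectrum.zeroLocus (I : Set A) := by
  have := Scheme.Pullback.range_fst g (iota A I)
  rw [← range_iota]
  exact this

theorem isEmbedding_fst {Y : Scheme.{u}} (g : Y ⟶ Spec (CommRingCat.of A)) :
    Topology.IsEmbedding (pullback.fst g (iota A I)).base :=
  (pullback.fst g (iota A I)).isClosedEmbedding.isEmbedding

theorem preimage_zeroLocus {B : Type u} [CommRing B] (ψ : A →+* B) :
    PrimeSpectrum.comap ψ ⁻¹' PrimeSpectrum.zeroLocus (I : Set A) =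
      Set.range (PrimeSpectrum.comap (Ideal.Quotient.mk (I.map ψ))) := by
  have h : Set.range (PrimeSpectrum.comap (Ideal.Quotient.mk (I.map ψ))) =
      PrimeSpectrum.zeroLocus (RingHom.ker (Ideal.Quotient.mk (I.map ψ)) : Set B) :=
    _root_.range_comap_of_surjective _ _ Ideal.Quotient.mk_surjective
  rw [Ideal.mk_ker] at h
  rw [h, PrimeSpectrum.preimage_comap_zeroLocus, Ideal.map, PrimeSpectrum.zeroLocus_span]

theorem isEmbedding_comap_mk {B : Type u} [CommRing B] (J : Ideal B) :
    Topology.IsEmbedding (PrimeSpectrum.comap (Ideal.Quotient.mk J)) :=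
  (PrimeSpectrum.isClosedEmbedding_comap_of_surjective _ _ Ideal.Quotient.mk_surjective).isEmbedding

/-- the affine case -/
theorem cl_fst_spec_iff (B : CommRingCat.{u}) (ψ : CommRingCat.of A ⟶ B) :
    CL (pullback.fst (Spec.map ψ) (iota A I)).base ↔
      CL (PrimeSpectrum.comap (Ideal.Quotient.mk (I.map ψ.hom))) := by
  refine CL.iff_of_embedding (isEmbedding_fst _) (isEmbedding_comap_mk _)
    (Homeomorph.refl (PrimeSpectrum B)) ?_
  rw [range_fst]
  have : (Spec.map ψ).base ⁻¹' PrimeSpectrum.zeroLocus (I : Set A) =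
      PrimeSpectrum.comap ψ.hom ⁻¹' PrimeSpectrum.zeroLocus (I : Set A) := rfl
  rw [this, preimage_zeroLocus]
  exact Set.image_id _

/-- the ring map `A → Γ(Y, ⊤)` -/
noncomputable def psiOf {Y : Scheme.{u}} (g : Y ⟶ Spec (CommRingCat.of A)) :
    CommRingCat.of A ⟶ Γ(Y, ⊤) :=
  (Scheme.ΓSpecIso (CommRingCat.of A)).inv ≫ g.appTop

theorem eq_toSpecΓ_comp {Y : Scheme.{u}} (g : Y ⟶ Spec (CommRingCat.of A)) :
    g = Y.toSpecΓ ≫ Spec.map (psiOf g) := by
  unfold psiOf
  rw [Spec.map_comp, ← Scheme.toSpecΓ_naturality_assoc, ← SpecMap_ΓSpecIso_hom,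
    ← Spec.map_comp, Iso.inv_hom_id, Spec.map_id, Category.comp_id]

theorem cl_fst_iff {Y : Scheme.{u}} [IsAffine Y] (g : Y ⟶ Spec (CommRingCat.of A)) :
    CL (pullback.fst g (iota A I)).base ↔
      CL (PrimeSpectrum.comap (Ideal.Quotient.mk (I.map (psiOf g).hom))) := by
  refine CL.iff_of_embedding (isEmbedding_fst _) (isEmbedding_comap_mk _)
    (Scheme.homeoOfIso Y.isoSpec) ?_
  rw [range_fst, ← preimage_zeroLocus]
  have h1 : ∀ y, g.base y = PrimeSpectrum.comap (psiOf g).hom (Scheme.homeoOfIso Y.isoSpec y) := by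
    intro y
    conv_lhs => rw [eq_toSpecΓ_comp g]
    rfl
  ext q
  constructor
  · rintro ⟨y, hy, rfl⟩
    have hy' : g.base y ∈ PrimeSpectrum.zeroLocus (I : Set A) := hy
    exact Eq.mp (congrArg (fun z => z ∈ PrimeSpectrum.zeroLocus (I : Set A)) (h1 y)) hy'
  · intro hq
    obtain ⟨y, rfl⟩ := (Scheme.homeoOfIso Y.isoSpec).surjective q
    refine ⟨y, ?_, rfl⟩
    have hq' : PrimeSpectrum.comap (psiOf g).hom (Scheme.homeoOfIso Y.isoSpec y) ∈
        PrimeSpectrum.zeroLocus (I : Set A) := hq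
    exact Eq.mpr (congrArg (fun z => z ∈ PrimeSpectrum.zeroLocus (I : Set A)) (h1 y)) hq'

end Sch

theorem main (A : Type u) [CommRing A] (I : Ideal A) :
    HenselianRing A I ↔
    ∀ (Y : Scheme.{u}) (g : Y ⟶ Spec (CommRingCat.of A)), IsFinite g →
      ∀ V : Set ↥(pullback g (Spec.map (CommRingCat.ofHom (Ideal.Quotient.mk I)))), IsClopen V →
        ∃! U : Set ↥Y, IsClopen U ∧
          (pullback.fst g (Spec.map (CommRingCat.ofHom (Ideal.Quotient.mk I)))).base ⁻¹' U = V := by
  constructor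
  · intro hH Y g hg
    haveI := hg
    haveI : IsAffine Y := isAffine_of_isAffineHom g
    have hfin : (psiOf g).hom.Finite := by
      have h1 : g.appTop.hom.Finite := IsFinite.finite_app g ⊤ (isAffineOpen_top _)
      have h2 : (Scheme.ΓSpecIso (CommRingCat.of A)).inv.hom.Finite :=
        RingHom.Finite.of_surjective _
          (ConcreteCategory.bijective_of_isIso (Scheme.ΓSpecIso (CommRingCat.of A)).inv).2
      exact RingHom.Finite.comp h1 h2
    letI : Algebra A Γ(Y, ⊤) := (psiOf g).hom.toAlgebra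
    have hfin' : Module.Finite A Γ(Y, ⊤) := hfin
    have hb := (Groth.Agent.S0521.result A I).mp hH Γ(Y, ⊤) hfin'
    have hcl := (cl_comap_iff_bijOn _).mpr hb
    exact (cl_fst_iff (I := I) g).mpr hcl
  · intro H
    rw [Groth.Agent.S0521.result A I]
    intro B _ _ hfin
    have hg : IsFinite (Spec.map (CommRingCat.ofHom (algebraMap A B))) := by
      rw [IsFinite.SpecMap_iff]
      exact RingHom.finite_algebraMap.mpr hfin
    have hcl : CL (pullback.fst (Spec.map (CommRingCat.ofHom (algebraMap A B))) (iota A I)).base :=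
      H _ _ hg
    have := (cl_fst_spec_iff (I := I) (CommRingCat.of B) (CommRingCat.ofHom (algebraMap A B))).mp hcl
    exact (cl_comap_iff_bijOn _).mp this

end SecHC2


end Groth.Agent.Lib.H9HenselClopen
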