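import Mathlib
import Groth.Agent.Lib.H9HenselClopen
import Groth.Agent.Lib.H9SteinFib

set_option autoImplicit false
set_option linter.style.haveILetI false
universe u

namespace Groth.Agent.Lib.H9HensProper

open CategoryTheory CategoryTheory.Limits AlgebraicGeometry TopologicalSpace Opposite
open Groth.Agent.Lib.H9HenselClopen

section Top

variable {X N : Type*} [TopologicalSpace X] [TopologicalSpace N]

theorem CL.subtype_congr {Y : Type*} [TopologicalSpace Y] {s t : Set Y} (h : s = t) :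
    CL (Subtype.val : s → Y) ↔ CL (Subtype.val : t → Y) := by
  subst h; rfl

/-- clopen sets are saturated for maps with preconnected fibres -/
theorem preimage_image_of_isClopen (g : X → N) (hfib : ∀ n, IsPreconnected (g ⁻¹' {n}))
    (U : Set X) (hU : IsClopen U) : g ⁻¹' (g '' U) = U := by
  apply subset_antisymm _ (Set.subset_preimage_image g U)
  rintro x ⟨x', hx', hxx'⟩
  have := (hfib (g x)).subset_isClopen hU ⟨x', hxx', hx'⟩
  exact this rfl

theorem isClopen_image (g : X → N) (hg : IsClosedMap g) (hsurj : Function.Surjective g)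
    (hfib : ∀ n, IsPreconnected (g ⁻¹' {n})) (U : Set X) (hU : IsClopen U) :
    IsClopen (g '' U) := by
  refine ⟨hg _ hU.1, ?_⟩
  have : (g '' U)ᶜ = g '' Uᶜ := by
    ext n
    constructor
    · intro hn
      obtain ⟨x, rfl⟩ := hsurj n
      exact ⟨x, fun hx => hn ⟨x, hx, rfl⟩, rfl⟩
    · rintro ⟨x, hx, rfl⟩ hmem
      have h2 : x ∈ g ⁻¹' (g '' U) := hmem
      rw [preimage_image_of_isClopen g hfib U hU] at h2
      exact hx h2
  rw [← isClosed_compl_iff, this]
  exact hg _ hU.compl.1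

/-- clopen lifting passes from `N₀ ⊆ N` to `g⁻¹ N₀ ⊆ X` for closed surjective maps with
connected fibres. -/
theorem cl_of_cl (g : X → N) (hgc : Continuous g) (hg : IsClosedMap g)
    (hsurj : Function.Surjective g) (hfib : ∀ n, IsPreconnected (g ⁻¹' {n}))
    (N₀ : Set N) (hN₀ : IsClosed N₀) (H : CL (Subtype.val : N₀ → N)) :
    CL (Subtype.val : (g ⁻¹' N₀ : Set X) → X) := by
  intro V hV
  have hX₀ : IsClosed (g ⁻¹' N₀) := hN₀.preimage hgc
  set V₁ : Set X := Subtype.val '' V with hV₁def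
  set V₂ : Set X := Subtype.val '' Vᶜ with hV₂def
  have hV₁ : IsClosed V₁ := hX₀.isClosedEmbedding_subtypeVal.isClosedMap _ hV.1
  have hV₂ : IsClosed V₂ := hX₀.isClosedEmbedding_subtypeVal.isClosedMap _ hV.compl.1
  have hZ₁ : IsClosed (g '' V₁) := hg _ hV₁
  have hZ₂ : IsClosed (g '' V₂) := hg _ hV₂
  have hcover : ∀ x : X, g x ∈ N₀ → x ∈ V₁ ∪ V₂ := by
    intro x hx
    by_cases hxV : (⟨x, hx⟩ : (g ⁻¹' N₀ : Set X)) ∈ V
    · exact Or.inl ⟨_, hxV, rfl⟩
    · exact Or.inr ⟨_, hxV, rfl⟩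
  have hdisj : ∀ n, n ∈ g '' V₁ → n ∈ g '' V₂ → False := by
    rintro n ⟨x₁, ⟨v₁, hv₁, rfl⟩, rfl⟩ ⟨x₂, ⟨v₂, hv₂, rfl⟩, h12⟩
    have hsub : g ⁻¹' {g v₁.1} ⊆ V₁ ∪ V₂ := by
      intro x hx
      apply hcover
      rw [Set.mem_preimage, Set.mem_singleton_iff] at hx
      rw [hx]
      exact v₁.2
    obtain ⟨x, -, ⟨a, ha, rfl⟩, ⟨b, hb, hab⟩⟩ := (isPreconnected_closed_iff.mp (hfib (g v₁.1)))
      V₁ V₂ hV₁ hV₂ hsub ⟨v₁.1, rfl, ⟨v₁, hv₁, rfl⟩⟩ ⟨v₂.1, h12, ⟨v₂, hv₂, rfl⟩⟩
    exact hb (Subtype.ext hab ▸ ha)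
  set T : Set N₀ := Subtype.val ⁻¹' (g '' V₁) with hTdef
  have hT : IsClopen T := by
    refine ⟨hZ₁.preimage continuous_subtype_val, ?_⟩
    have : T = (Subtype.val ⁻¹' (g '' V₂) : Set N₀)ᶜ := by
      ext n
      simp only [hTdef, Set.mem_preimage, Set.mem_compl_iff]
      constructor
      · intro h1 h2
        exact hdisj _ h1 h2
      · intro h2
        obtain ⟨x, hx⟩ := hsurj n.1
        have hxN : g x ∈ N₀ := hx ▸ n.2
        rcases hcover x hxN with h | h
        · exact ⟨x, h, hx⟩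
        · exact absurd ⟨x, h, hx⟩ h2
    rw [this]
    exact (hZ₂.preimage continuous_subtype_val).isOpen_compl
  obtain ⟨W, ⟨hW, hWT⟩, hWuniq⟩ := H T hT
  have hmemV : ∀ v : (g ⁻¹' N₀ : Set X), g v.1 ∈ g '' V₁ ↔ v ∈ V := by
    intro v
    constructor
    · intro h1
      by_contra hv
      exact hdisj _ h1 ⟨v.1, ⟨v, hv, rfl⟩, rfl⟩
    · intro hv
      exact ⟨v.1, ⟨v, hv, rfl⟩, rfl⟩
  refine ⟨g ⁻¹' W, ⟨hW.preimage hgc, ?_⟩, ?_⟩
  · ext v
    have h1 : (⟨g v.1, v.2⟩ : N₀) ∈ Subtype.val ⁻¹' W ↔ (⟨g v.1, v.2⟩ : N₀) ∈ T := by rw [hWT]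
    simp only [Set.mem_preimage] at h1 ⊢
    rw [h1]
    exact hmemV v
  · rintro U' ⟨hU', hU'V⟩
    have h1 := preimage_image_of_isClopen g hfib U' hU'
    have h2 := isClopen_image g hg hsurj hfib U' hU'
    have h3 : Subtype.val ⁻¹' (g '' U') = T := by
      ext n
      simp only [hTdef, Set.mem_preimage]
      constructor
      · rintro ⟨x, hx, hxn⟩
        have hxN : g x ∈ N₀ := hxn ▸ n.2
        have : (⟨x, hxN⟩ : (g ⁻¹' N₀ : Set X)) ∈ V := by
          rw [← hU'V]
          exact hx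
        exact ⟨x, ⟨_, this, rfl⟩, hxn⟩
      · rintro ⟨x, ⟨v, hv, rfl⟩, hxn⟩
        refine ⟨v.1, ?_, hxn⟩
        have : v ∈ Subtype.val ⁻¹' U' := by rw [hU'V]; exact hv
        exact this
    rw [← h1, hWuniq _ ⟨h2, h3⟩]

end Top

section Sch

open Groth.Agent.Lib.H9SteinFib

variable (A : Type u) [CommRing A] [IsNoetherianRing A] (I : Ideal A)

theorem isPreconnected_fiber {X Y : Scheme.{u}} (t : X ⟶ Y) (n : Y)
    [ConnectedSpace ↥(t.fiber n)] : _root_.IsPreconnected (t.base ⁻¹' {n}) := by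
  have h := Scheme.Hom.range_fiberι t n
  have h2 : _root_.IsPreconnected (Set.range (t.fiberι n).base) :=
    isPreconnected_range (t.fiberι n).continuous
  have h3 : Set.range (t.fiberι n).base = t.base ⁻¹' {n} := h
  rwa [h3] at h2

/-- proper morphisms to a Noetherian henselian pair: clopens of the closed fibre lift uniquely. -/
theorem cl_fst_of_proper [HenselianRing A I] {Y : Scheme.{u}}
    (f : Y ⟶ Spec (CommRingCat.of A)) [IsProper f] :
    CL (pullback.fst f (iota A I)).base := by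
  haveI := isFinite_fromNormalization f
  haveI := isProper_toNormalization f
  have hN : CL (pullback.fst f.fromNormalization (iota A I)).base :=
    (Groth.Agent.Lib.H9HenselClopen.main A I).mp ‹_› _ f.fromNormalization inferInstance
  rw [CL.iff_subtype (isEmbedding_fst _), CL.subtype_congr (range_fst _)] at hN ⊢
  have hcl : IsClosed (f.fromNormalization.base ⁻¹' PrimeSpectrum.zeroLocus (I : Set A)) :=
    (PrimeSpectrum.isClosed_zeroLocus _).preimage f.fromNormalization.continuous
  have key := cl_of_cl f.toNormalization.base f.toNormalization.continuous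
    f.toNormalization.isClosedMap (surjective_toNormalization f)
    (fun n => by
      haveI := connectedSpace_fiber_toNormalization f n
      exact isPreconnected_fiber f.toNormalization n) _ hcl hN
  have heq : f.toNormalization.base ⁻¹'
      (f.fromNormalization.base ⁻¹' PrimeSpectrum.zeroLocus (I : Set A)) =
      f.base ⁻¹' PrimeSpectrum.zeroLocus (I : Set A) := by
    rw [← Set.preimage_comp]
    have : f.fromNormalization.base ∘ f.toNormalization.base = f.base := by
      funext x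
      have h5 := Scheme.Hom.toNormalization_fromNormalization f
      have h6 : (f.toNormalization ≫ f.fromNormalization).base x = f.base x := by rw [h5]
      exact h6
    rw [this]
  exact (CL.subtype_congr heq).mp key

theorem main17961 [HenselianRing A I] {X : Scheme.{u}}
    (f : X ⟶ Spec (CommRingCat.of A)) [IsProper f] :
    ∀ (Y : Scheme.{u}) (g : Y ⟶ X), IsFinite g →
      ∀ V : Set ↥(pullback g (pullback.fst f (Spec.map (CommRingCat.ofHom (Ideal.Quotient.mk I))))), IsClopen V →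
        ∃! U : Set ↥Y, IsClopen U ∧ (pullback.fst g (pullback.fst f (Spec.map (CommRingCat.ofHom (Ideal.Quotient.mk I))))).base ⁻¹' U = V := by
  intro Y g hg
  haveI := hg
  haveI : IsProper (g ≫ f) := inferInstance
  have h1 : CL (pullback.fst (g ≫ f) (iota A I)).base := cl_fst_of_proper A I (g ≫ f)
  let e := pullbackRightPullbackFstIso f (iota A I) g
  refine (CL.of_homeo (Scheme.homeoOfIso e.symm) (Homeomorph.refl Y)
    (pullback.fst (g ≫ f) (iota A I)).base
    (pullback.fst g (pullback.fst f (iota A I))).base ?_).mp h1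
  intro p
  have h2 : e.inv ≫ pullback.fst g (pullback.fst f (iota A I)) = pullback.fst (g ≫ f) (iota A I) := by
    rw [Iso.inv_comp_eq]
    exact (pullbackRightPullbackFstIso_hom_fst f (iota A I) g).symm
  have h3 : (e.inv ≫ pullback.fst g (pullback.fst f (iota A I))).base p =
      (pullback.fst (g ≫ f) (iota A I)).base p := by rw [h2]
  exact h3

end Sch

end Groth.Agent.Lib.H9HensProper
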