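import Mathlib
import Groth.Agent.Lib.H9HensProper
import Groth.Agent.S0525
import Groth.Agent.S0526

set_option autoImplicit false
set_option linter.style.haveILetI false
set_option linter.unusedSectionVars false
universe u

namespace Groth.Agent.Lib.H9HensProper2

open CategoryTheory CategoryTheory.Limits AlgebraicGeometry TopologicalSpace Opposite
open Groth.Agent.Lib.H9HenselClopen Groth.Agent.Lib.H9HensProper Groth.Agent.Lib.H9SteinFib

variable (A : Type u) [CommRing A] [IsNoetherianRing A] (I : Ideal A)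

/-- `Y.toSpecΓ` is the Stein factor up to an isomorphism of the target. -/
theorem toSpecΓ_eq {Y : Scheme.{u}} (f : Y ⟶ Spec (CommRingCat.of A)) [IsProper f] :
    ∃ (e : f.normalization ≅ Spec Γ(Y, ⊤)), Y.toSpecΓ = f.toNormalization ≫ e.hom := by
  haveI := isFinite_fromNormalization f
  haveI : IsAffine f.normalization := isAffine_of_isAffineHom f.fromNormalization
  haveI : IsIso f.toNormalization.appTop :=
    isIso_toNormalization_app f ⊤ (isAffineOpen_top _)
  refine ⟨f.normalization.isoSpec ≪≫ (asIso (Spec.map f.toNormalization.appTop)).symm, ?_⟩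
  have hn := Scheme.toSpecΓ_naturality f.toNormalization
  rw [Iso.trans_hom, Iso.symm_hom, asIso_inv, Scheme.isoSpec_hom, ← Category.assoc, hn,
    Category.assoc, IsIso.hom_inv_id, Category.comp_id]

theorem toSpecΓ_props {Y : Scheme.{u}} (f : Y ⟶ Spec (CommRingCat.of A)) [IsProper f] :
    IsClosedMap Y.toSpecΓ.base ∧ Function.Surjective Y.toSpecΓ.base ∧
      ∀ q, _root_.IsPreconnected (Y.toSpecΓ.base ⁻¹' {q}) := by
  obtain ⟨e, he⟩ := toSpecΓ_eq A f
  haveI := isProper_toNormalization f
  have hbase : ∀ y, Y.toSpecΓ.base y = e.hom.base (f.toNormalization.base y) := by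
    intro y
    rw [he]
    rfl
  have hfun : (Y.toSpecΓ.base : Y → _) = (Scheme.homeoOfIso e) ∘ f.toNormalization.base := by
    funext y
    exact hbase y
  refine ⟨?_, ?_, ?_⟩
  · rw [hfun]
    exact (Scheme.homeoOfIso e).isClosedMap.comp f.toNormalization.isClosedMap
  · rw [hfun]
    exact (Scheme.homeoOfIso e).surjective.comp (surjective_toNormalization f)
  · intro q
    have : Y.toSpecΓ.base ⁻¹' {q} =
        f.toNormalization.base ⁻¹' {(Scheme.homeoOfIso e).symm q} := by
      ext y
      simp only [Set.mem_preimage, Set.mem_singleton_iff]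
      rw [hbase y]
      constructor
      · intro h
        rw [← h]
        exact ((Scheme.homeoOfIso e).symm_apply_apply _).symm
      · intro h
        rw [h]
        exact (Scheme.homeoOfIso e).apply_symm_apply q
    rw [this]
    haveI := connectedSpace_fiber_toNormalization f ((Scheme.homeoOfIso e).symm q)
    exact isPreconnected_fiber f.toNormalization _

theorem base_eq_comap {Y : Scheme.{u}} (g : Y ⟶ Spec (CommRingCat.of A)) (y : Y) :
    g.base y = PrimeSpectrum.comap (psiOf g).hom (Y.toSpecΓ.base y) := by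
  conv_lhs => rw [eq_toSpecΓ_comp g]
  rfl

/-- proper `Y` over Noetherian `A` with `(Γ(Y), IΓ(Y))` henselian: clopens of the closed fibre
lift uniquely. -/
theorem cl_fst_of_proper' {Y : Scheme.{u}} (f : Y ⟶ Spec (CommRingCat.of A)) [IsProper f]
    (hH : HenselianRing Γ(Y, ⊤) (I.map (psiOf f).hom)) :
    CL (pullback.fst f (iota A I)).base := by
  obtain ⟨hclosed, hsurj, hfib⟩ := toSpecΓ_props A f
  have hb := (Groth.Agent.S0521.result Γ(Y, ⊤) (I.map (psiOf f).hom)).mp hH Γ(Y, ⊤)
    (Module.Finite.self _)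
  have hid : Ideal.map (algebraMap Γ(Y, ⊤) Γ(Y, ⊤)) (I.map (psiOf f).hom) =
      I.map (psiOf f).hom := Ideal.map_id _
  rw [hid] at hb
  have hcl : CL (PrimeSpectrum.comap (Ideal.Quotient.mk (I.map (psiOf f).hom))) :=
    (cl_comap_iff_bijOn _).mpr hb
  rw [CL.iff_subtype (isEmbedding_comap_mk _),
    CL.subtype_congr (preimage_zeroLocus (I := I) (psiOf f).hom).symm] at hcl
  have hcl0 : IsClosed (PrimeSpectrum.comap (psiOf f).hom ⁻¹'
      PrimeSpectrum.zeroLocus (I : Set A)) :=
    (PrimeSpectrum.isClosed_zeroLocus _).preimage (PrimeSpectrum.continuous_comap (psiOf f).hom)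
  have key := cl_of_cl Y.toSpecΓ.base Y.toSpecΓ.continuous hclosed hsurj hfib _ hcl0 hcl
  have heq : Y.toSpecΓ.base ⁻¹' (PrimeSpectrum.comap (psiOf f).hom ⁻¹'
      PrimeSpectrum.zeroLocus (I : Set A)) = f.base ⁻¹' PrimeSpectrum.zeroLocus (I : Set A) := by
    ext y
    constructor
    · intro h
      rw [Set.mem_preimage, base_eq_comap A f y]
      exact h
    · intro h
      rw [Set.mem_preimage, base_eq_comap A f y] at h
      exact h
  rw [CL.iff_subtype (isEmbedding_fst _), CL.subtype_congr (range_fst _)]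
  exact (CL.subtype_congr heq).mp key

theorem cl_of_comp {X : Scheme.{u}} (f : X ⟶ Spec (CommRingCat.of A)) {Y : Scheme.{u}} (g : Y ⟶ X)
    (h1 : CL (pullback.fst (g ≫ f) (iota A I)).base) :
    CL (pullback.fst g (pullback.fst f (iota A I))).base := by
  let e := pullbackRightPullbackFstIso f (iota A I) g
  refine (CL.of_homeo (Scheme.homeoOfIso e.symm) (Homeomorph.refl Y)
    (pullback.fst (g ≫ f) (iota A I)).base
    (pullback.fst g (pullback.fst f (iota A I))).base ?_).mp h1
  intro p
  have h2 : e.inv ≫ pullback.fst g (pullback.fst f (iota A I)) = pullback.fst (g ≫ f) (iota A I) := by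
    rw [Iso.inv_comp_eq]
    exact (pullbackRightPullbackFstIso_hom_fst f (iota A I) g).symm
  have h3 : (e.inv ≫ pullback.fst g (pullback.fst f (iota A I))).base p =
      (pullback.fst (g ≫ f) (iota A I)).base p := by rw [h2]
  exact h3

theorem psiOf_comp {X Y : Scheme.{u}} (f : X ⟶ Spec (CommRingCat.of A)) (g : Y ⟶ X) :
    psiOf (g ≫ f) = psiOf f ≫ g.appTop := by
  unfold psiOf
  rw [Scheme.Hom.comp_appTop, Category.assoc]

/-- elements of `I` die on the closed fibre. -/
theorem psiOf_mem_ker {X : Scheme.{u}} (f : X ⟶ Spec (CommRingCat.of A)) (a : A) (ha : a ∈ I) :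
    (psiOf f).hom a ∈ RingHom.ker (pullback.fst f (iota A I)).appTop.hom := by
  rw [RingHom.mem_ker]
  have hc := pullback.condition (f := f) (g := iota A I)
  have h1 : (pullback.fst f (iota A I)).appTop.hom ((psiOf f).hom a) =
      (psiOf (pullback.fst f (iota A I) ≫ f)).hom a := by
    rw [psiOf_comp]
    rfl
  rw [h1, hc, psiOf_comp]
  have h2 : (psiOf (iota A I)).hom a = 0 := by
    unfold psiOf
    have h3 := congrArg (fun φ => φ.hom a)
      (Scheme.ΓSpecIso_inv_naturality (CommRingCat.ofHom (Ideal.Quotient.mk I)))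
    simp only [CommRingCat.hom_comp, RingHom.coe_comp, Function.comp_apply] at h3
    have h4 : (CommRingCat.ofHom (Ideal.Quotient.mk I)).hom a = 0 :=
      Ideal.Quotient.eq_zero_iff_mem.mpr ha
    rw [h4, map_zero] at h3
    exact h3.symm
  change (pullback.snd f (iota A I)).appTop.hom ((psiOf (iota A I)).hom a) = 0
  rw [h2, map_zero]

theorem henselian_of_finite {X : Scheme.{u}} (f : X ⟶ Spec (CommRingCat.of A)) [IsProper f]
    (h : HenselianRing (Γ(X, ⊤) : Type u)
      (RingHom.ker (pullback.fst f (iota A I)).appTop.hom))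
    {Y : Scheme.{u}} (g : Y ⟶ X) [IsFinite g] :
    HenselianRing Γ(Y, ⊤) (I.map (psiOf (g ≫ f)).hom) := by
  haveI : IsProper (g ≫ f) := inferInstance
  set J := RingHom.ker (pullback.fst f (iota A I)).appTop.hom with hJ
  letI : Algebra Γ(X, ⊤) Γ(Y, ⊤) := g.appTop.hom.toAlgebra
  have hfin : ((g ≫ f).appTop).hom.Finite :=
    Groth.Agent.Lib.H9NormFin.finite_app_of_isProper (g ≫ f) ⟨⊤, isAffineOpen_top _⟩
  have hint : (g.appTop.hom.comp f.appTop.hom).IsIntegral := by
    have := hfin.to_isIntegral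
    rwa [Scheme.Hom.comp_appTop, CommRingCat.hom_comp] at this
  have hint2 : g.appTop.hom.IsIntegral := RingHom.IsIntegral.tower_top _ _ hint
  haveI : Algebra.IsIntegral Γ(X, ⊤) Γ(Y, ⊤) := ⟨hint2⟩
  haveI := h
  have h1 : HenselianRing Γ(Y, ⊤) (Ideal.map (algebraMap Γ(X, ⊤) Γ(Y, ⊤)) J) :=
    Groth.Agent.S0526.result Γ(X, ⊤) J Γ(Y, ⊤)
  have halg : algebraMap Γ(X, ⊤) Γ(Y, ⊤) = g.appTop.hom := rfl
  rw [halg] at h1
  obtain ⟨-, hsurj, -⟩ := toSpecΓ_props A (g ≫ f)
  have hrad : (Ideal.map g.appTop.hom J).radical = (I.map (psiOf (g ≫ f)).hom).radical := by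
    apply le_antisymm
    · apply Ideal.radical_le_radical_iff.mpr
      rw [Ideal.map_le_iff_le_comap]
      intro b hb
      rw [Ideal.mem_comap, Ideal.radical_eq_sInf, Ideal.mem_sInf]
      rintro q ⟨hq, hqp⟩
      by_contra hbq
      let Q : PrimeSpectrum Γ(Y, ⊤) := ⟨q, hqp⟩
      obtain ⟨y, hy⟩ := hsurj Q
      have hyb : y ∈ Y.basicOpen (g.appTop.hom b) := by
        rw [← Scheme.toSpecΓ_preimage_basicOpen]
        show Y.toSpecΓ.base y ∈ PrimeSpectrum.basicOpen (g.appTop.hom b)
        rw [hy]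
        exact hbq
      have hgy : g.base y ∈ X.basicOpen b := by
        have := Scheme.preimage_basicOpen_top g b
        have h2 : y ∈ g ⁻¹ᵁ X.basicOpen b := by rw [this]; exact hyb
        exact h2
      have hfy : (g ≫ f).base y ∈ PrimeSpectrum.zeroLocus (I : Set A) := by
        rw [base_eq_comap A (g ≫ f) y, hy]
        intro a ha
        exact hq (Ideal.mem_map_of_mem _ ha)
      have hfy' : g.base y ∈ f.base ⁻¹' PrimeSpectrum.zeroLocus (I : Set A) := hfy
      rw [← range_fst] at hfy'
      obtain ⟨x₀, hx₀⟩ := hfy'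
      have h3 : x₀ ∈ (pullback.fst f (iota A I)) ⁻¹ᵁ X.basicOpen b := by
        show (pullback.fst f (iota A I)).base x₀ ∈ X.basicOpen b
        rw [hx₀]
        exact hgy
      rw [Scheme.preimage_basicOpen_top] at h3
      have hb0 : (pullback.fst f (iota A I)).appTop.hom b = 0 := hb
      have h4 : (pullback f (iota A I)).basicOpen ((pullback.fst f (iota A I)).appTop.hom b) = ⊥ := by
        rw [hb0]
        exact Scheme.basicOpen_zero _ _
      rw [h4] at h3
      exact h3
    · apply Ideal.radical_mono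
      rw [Ideal.map_le_iff_le_comap]
      intro a ha
      rw [Ideal.mem_comap, psiOf_comp]
      exact Ideal.mem_map_of_mem _ (psiOf_mem_ker A I f a ha)
  exact (Groth.Agent.S0525.result _ _ _ hrad).mp h1

theorem main17960 {X : Scheme.{u}}
    (f : X ⟶ Spec (CommRingCat.of A)) [IsProper f]
    (h : HenselianRing (Γ(X, ⊤) : Type u)
      (RingHom.ker (pullback.fst f (Spec.map (CommRingCat.ofHom (Ideal.Quotient.mk I)))).appTop.hom)) :
    ∀ (Y : Scheme.{u}) (g : Y ⟶ X), IsFinite g →
      ∀ V : Set ↥(pullback g (pullback.fst f (Spec.map (CommRingCat.ofHom (Ideal.Quotient.mk I))))), IsClopen V →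
        ∃! U : Set ↥Y, IsClopen U ∧ (pullback.fst g (pullback.fst f (Spec.map (CommRingCat.ofHom (Ideal.Quotient.mk I))))).base ⁻¹' U = V := by
  intro Y g hg
  haveI := hg
  haveI : IsProper (g ≫ f) := inferInstance
  exact cl_of_comp A I f g (cl_fst_of_proper' A I (g ≫ f) (henselian_of_finite A I f h g))

end Groth.Agent.Lib.H9HensProper2
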