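import Mathlib
import Groth.Prelude.Def_HensSch
import Groth.Agent.Lib.Helper26PairHens

/-!
# Affine Henselian spectra: distinguished opens (helper9, S17949)

* `exists_sub_mem_of_isHensAway`: `O(D(f) ∩ V(I)) = A_f + I·O(D(f) ∩ V(I))`.
* `exists_dOpen_le`: distinguished opens form a basis of `Sph(A, I)`.
* `basicOpen_secMap`, `germ_mem_maximalIdeal`, `exists_basicOpen_eq_dOpen`: the non-vanishing locus of
  a section over a distinguished open is again distinguished.
* `exists_section_of_isOpenImmersion`: transport of sections along open immersions of LRS.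
* `main17949`.
-/

set_option autoImplicit false
universe u

namespace Groth.Agent.Lib.H9HensSch


open CategoryTheory AlgebraicGeometry Opposite TopologicalSpace

/-- sections over a distinguished open of an affine Henselian spectrum: `C = A_f + I C` -/
theorem exists_sub_mem_of_isHensAway {A : Type u} [CommRing A] (I : Ideal A) (f : A)
    (C : Type u) [CommRing C] (φ : A →+* C) (h : HensSch.IsHensAway A I f C φ) (t : C) :
    ∃ (a : A) (n : ℕ), φ f ^ n * t - φ a ∈ I.map φ := by
  obtain ⟨hunit, hhens, huniv⟩ := h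
  letI : Algebra (Localization.Away f) C := (IsLocalization.Away.lift f hunit).toAlgebra
  have hcomp : (algebraMap (Localization.Away f) C).comp (algebraMap A (Localization.Away f)) = φ :=
    IsLocalization.Away.lift_comp f hunit
  have hmap : (I.map (algebraMap A (Localization.Away f))).map (algebraMap (Localization.Away f) C) =
      I.map φ := by
    rw [Ideal.map_map, hcomp]
  have hP : Hens2.IsPairHenselization (Localization.Away f)
      (I.map (algebraMap A (Localization.Away f))) C := by
    refine ⟨by rw [hmap]; exact hhens, ?_⟩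
    intro C' _ J' g hC' hg
    have hg0 : I.map (g.comp (algebraMap A (Localization.Away f))) ≤ J' := by
      rw [← Ideal.map_map]; exact hg
    have hu : IsUnit ((g.comp (algebraMap A (Localization.Away f))) f) := by
      rw [RingHom.comp_apply]
      exact (IsLocalization.Away.algebraMap_isUnit f).map g
    obtain ⟨k, hk, hk'⟩ := huniv C' J' (g.comp (algebraMap A (Localization.Away f))) hC' hg0 hu
    refine ⟨k, ?_, ?_⟩
    · apply IsLocalization.ringHom_ext (Submonoid.powers f)
      rw [RingHom.comp_assoc, hcomp]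
      exact hk
    · intro k' hk''
      apply hk'
      rw [← hcomp, ← RingHom.comp_assoc, hk'']
  obtain ⟨r, hr⟩ := Groth.Agent.Lib.Helper26.exists_sub_mem_of_isPairHenselization _ _ hP t
  rw [hmap] at hr
  obtain ⟨a, ⟨_, n, rfl⟩, rfl⟩ := IsLocalization.exists_mk'_eq (Submonoid.powers f) r
  refine ⟨a, n, ?_⟩
  have h1 : φ f ^ n * algebraMap (Localization.Away f) C
      (IsLocalization.mk' (Localization.Away f) a (⟨f ^ n, n, rfl⟩ : Submonoid.powers f)) = φ a := by
    rw [← hcomp, RingHom.comp_apply, RingHom.comp_apply, ← map_pow, ← map_mul, ← map_pow]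
    congr 1
    have := IsLocalization.mk'_spec' (Localization.Away f) a (⟨f ^ n, n, rfl⟩ : Submonoid.powers f)
    exact this
  have h2 : φ f ^ n * t - φ a = φ f ^ n * (t - algebraMap (Localization.Away f) C
      (IsLocalization.mk' (Localization.Away f) a (⟨f ^ n, n, rfl⟩ : Submonoid.powers f))) := by
    rw [mul_sub, h1]
  rw [h2]
  exact Ideal.mul_mem_left _ _ hr




open CategoryTheory AlgebraicGeometry Opposite TopologicalSpace Topology

variable {A : Type u} [CommRing A] {I : Ideal A} {X : LocallyRingedSpace.{u}}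
  {π : X ⟶ HensSch.specLRS A}

/-- distinguished opens form a basis of an affine Henselian spectrum -/
theorem exists_dOpen_le (hX : HensSch.IsSph A I X π) (W : Opens X) (u : X) (hu : u ∈ W) :
    ∃ f : A, u ∈ HensSch.dOpen π f ∧ HensSch.dOpen π f ≤ W := by
  obtain ⟨W', hW', hWW'⟩ := (hX.1.isInducing.isOpen_iff).mp W.2
  have hu' : π.base u ∈ W' := by
    have : u ∈ π.base ⁻¹' W' := by rw [hWW']; exact hu
    exact this
  obtain ⟨_, ⟨f, rfl⟩, hf1, hf2⟩ :=
    (PrimeSpectrum.isTopologicalBasis_basic_opens (R := A)).exists_subset_of_mem_open hu' hW'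
  refine ⟨f, hf1, ?_⟩
  intro y hy
  have : y ∈ π.base ⁻¹' W' := hf2 hy
  rw [hWW'] at this
  exact this

/-- the non-vanishing locus of the image of `b : A` in the sections over `π⁻¹ U` -/
theorem basicOpen_secMap (U : Opens (PrimeSpectrum A)) (b : A) :
    X.toRingedSpace.basicOpen (HensSch.secMap π U b) =
      (Opens.map π.base).obj U ⊓ HensSch.dOpen π b := by
  have h1 : HensSch.secMap π U b =
      X.presheaf.map ((Opens.map π.base).map (homOfLE (le_top : U ≤ ⊤))).op
        (π.c.app (op ⊤) ((Scheme.ΓSpecIso (CommRingCat.of A)).inv b)) := rfl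
  rw [h1, RingedSpace.basicOpen_res]
  congr 1
  have h2 := LocallyRingedSpace.preimage_basicOpen π (U := (⊤ : Opens (HensSch.specLRS A)))
    ((Scheme.ΓSpecIso (CommRingCat.of A)).inv b)
  have h3 : (HensSch.specLRS A).toRingedSpace.basicOpen
      ((Scheme.ΓSpecIso (CommRingCat.of A)).inv b) = PrimeSpectrum.basicOpen b :=
    basicOpen_eq_of_affine (R := CommRingCat.of A) b
  exact h2.symm.trans (congrArg _ h3)




open CategoryTheory AlgebraicGeometry Opposite TopologicalSpace Topology

variable {A : Type u} [CommRing A] {I : Ideal A} {X : LocallyRingedSpace.{u}}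
  {π : X ⟶ HensSch.specLRS A}

/-- germs of elements of `I·O(π⁻¹D(f))` are non-units -/
theorem germ_mem_maximalIdeal (hX : HensSch.IsSph A I X π) (U : Opens (PrimeSpectrum A))
    (x : X) (hx : x ∈ (Opens.map π.base).obj U)
    (j : X.presheaf.obj (op ((Opens.map π.base).obj U)))
    (hj : j ∈ I.map (HensSch.secMap π U)) :
    X.presheaf.germ _ x hx j ∈ IsLocalRing.maximalIdeal (X.presheaf.stalk x) := by
  have hle : I.map (HensSch.secMap π U) ≤
      Ideal.comap (X.presheaf.germ ((Opens.map π.base).obj U) x hx).hom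
        (IsLocalRing.maximalIdeal (X.presheaf.stalk x)) := by
    rw [Ideal.map_le_iff_le_comap]
    intro i hi
    rw [Ideal.mem_comap, Ideal.mem_comap, IsLocalRing.mem_maximalIdeal, mem_nonunits_iff]
    intro hu
    have h1 : x ∈ X.toRingedSpace.basicOpen (HensSch.secMap π U i) :=
      (RingedSpace.mem_basicOpen _ _ x hx).mpr hu
    rw [basicOpen_secMap] at h1
    have h2 : π.base x ∈ PrimeSpectrum.basicOpen i := h1.2
    have h3 : π.base x ∈ PrimeSpectrum.zeroLocus (I : Set A) := by
      rw [← hX.2.1]; exact ⟨x, rfl⟩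
    exact h2 (h3 hi)
  exact hle hj

theorem exists_basicOpen_eq_dOpen (hX : HensSch.IsSph A I X π) (f : A) (O : Opens X)
    (hO : O = HensSch.dOpen π f) (t : X.presheaf.obj (op O)) :
    ∃ a : A, X.toRingedSpace.basicOpen t = HensSch.dOpen π (f * a) := by
  subst hO
  obtain ⟨a, n, han⟩ := exists_sub_mem_of_isHensAway I f _
    (HensSch.secMap π (PrimeSpectrum.basicOpen f)) (hX.2.2 f) t
  refine ⟨a, ?_⟩
  have hunit : IsUnit (HensSch.secMap π (PrimeSpectrum.basicOpen f) f) := (hX.2.2 f).1
  have h1 : X.toRingedSpace.basicOpen (HensSch.secMap π (PrimeSpectrum.basicOpen f) f ^ n * t) =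
      X.toRingedSpace.basicOpen t := by
    rw [RingedSpace.basicOpen_mul, RingedSpace.basicOpen_of_isUnit _ (hunit.pow n)]
    exact inf_eq_right.mpr (RingedSpace.basicOpen_le _ t)
  have h2 : X.toRingedSpace.basicOpen (HensSch.secMap π (PrimeSpectrum.basicOpen f) f ^ n * t) =
      X.toRingedSpace.basicOpen (HensSch.secMap π (PrimeSpectrum.basicOpen f) a) := by
    ext x
    by_cases hx : x ∈ HensSch.dOpen π f
    · rw [SetLike.mem_coe, SetLike.mem_coe, RingedSpace.mem_basicOpen _ _ x hx,
        RingedSpace.mem_basicOpen _ _ x hx]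
      have hm := germ_mem_maximalIdeal hX _ x hx _ han
      rw [← IsLocalRing.notMem_maximalIdeal, ← IsLocalRing.notMem_maximalIdeal, not_iff_not]
      have e : HensSch.secMap π (PrimeSpectrum.basicOpen f) f ^ n * t =
          HensSch.secMap π (PrimeSpectrum.basicOpen f) a +
            (HensSch.secMap π (PrimeSpectrum.basicOpen f) f ^ n * t -
              HensSch.secMap π (PrimeSpectrum.basicOpen f) a) := by ring
      rw [e, map_add]
      exact Ideal.add_mem_iff_left _ hm
    · constructor
      · intro h; exact absurd (RingedSpace.basicOpen_le _ _ h) hx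
      · intro h; exact absurd (RingedSpace.basicOpen_le _ _ h) hx
  rw [← h1, h2, basicOpen_secMap]
  ext x
  simp only [HensSch.dOpen, Opens.coe_inf, Opens.map_coe, Set.mem_inter_iff, Set.mem_preimage,
    SetLike.mem_coe, PrimeSpectrum.basicOpen_mul]
  rfl




open CategoryTheory AlgebraicGeometry Opposite TopologicalSpace Topology

/-- transport of a section along an open immersion of locally ringed spaces, with its
non-vanishing locus -/
theorem exists_section_of_isOpenImmersion {U X : LocallyRingedSpace.{u}} (i : U ⟶ X)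
    [H : LocallyRingedSpace.IsOpenImmersion i] (D : Opens U) (s : U.presheaf.obj (op D)) :
    ∃ (W : Opens X) (s' : X.presheaf.obj (op W)), W.1 = i.base '' D.1 ∧
      (X.toRingedSpace.basicOpen s').1 = i.base '' (U.toRingedSpace.basicOpen s).1 := by
  refine ⟨(LocallyRingedSpace.IsOpenImmersion.opensFunctor i).obj D,
    (LocallyRingedSpace.IsOpenImmersion.invApp i D) s, rfl, ?_⟩
  have h1 := LocallyRingedSpace.preimage_basicOpen i
    ((LocallyRingedSpace.IsOpenImmersion.invApp i D) s)
  have h2 := LocallyRingedSpace.IsOpenImmersion.invApp_app_apply i D s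
  rw [h2, RingedSpace.basicOpen_res_eq] at h1
  have h3 : (X.toRingedSpace.basicOpen ((LocallyRingedSpace.IsOpenImmersion.invApp i D) s)).1 ⊆
      Set.range i.base := by
    intro y hy
    have : y ∈ ((LocallyRingedSpace.IsOpenImmersion.opensFunctor i).obj D).1 :=
      RingedSpace.basicOpen_le _ _ hy
    obtain ⟨z, -, rfl⟩ := this
    exact ⟨z, rfl⟩
  have h4 := congrArg (fun O : Opens U => O.1) h1
  simp only [Opens.map_coe] at h4
  rw [← h4]
  exact (Set.inter_eq_left.mpr h3).symm.trans (Set.image_preimage_eq_inter_range).symm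




open CategoryTheory AlgebraicGeometry Opposite TopologicalSpace Topology

theorem main17949 (X : LocallyRingedSpace.{u})
    (U V : LocallyRingedSpace.{u}) (iU : U ⟶ X) [HU : LocallyRingedSpace.IsOpenImmersion iU]
    (iV : V ⟶ X) [HV : LocallyRingedSpace.IsOpenImmersion iV]
    (A : Type u) [CommRing A] (I : Ideal A) (πU : U ⟶ HensSch.specLRS A)
    (hU : HensSch.IsSph A I U πU)
    (B : Type u) [CommRing B] (J : Ideal B) (πV : V ⟶ HensSch.specLRS B)
    (hV : HensSch.IsSph B J V πV)
    (x : X) (hxU : x ∈ Set.range iU.base) (hxV : x ∈ Set.range iV.base) :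
    ∃ (f : A) (g : B), x ∈ iU.base '' (HensSch.dOpen πU f : Set U) ∧
      iU.base '' (HensSch.dOpen πU f : Set U) = iV.base '' (HensSch.dOpen πV g : Set V) := by
  obtain ⟨u₀, rfl⟩ := hxU
  obtain ⟨v₀, hv₀⟩ := hxV
  have hiU : IsOpenEmbedding iU.base := HU.base_open
  have hiV : IsOpenEmbedding iV.base := HV.base_open
  -- step 1: a distinguished open of `U` inside `V`
  obtain ⟨f, hf1, hf2⟩ := exists_dOpen_le hU
    ((Opens.map iU.base).obj ⟨Set.range iV.base, hiV.isOpen_range⟩) u₀ ⟨v₀, hv₀⟩
  -- step 2: a distinguished open of `V` inside it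
  have hv₀W : v₀ ∈ (Opens.map iV.base).obj (hiU.isOpenMap.functor.obj (HensSch.dOpen πU f)) :=
    ⟨u₀, hf1, hv₀.symm⟩
  obtain ⟨g, hg1, hg2⟩ := exists_dOpen_le hV
    ((Opens.map iV.base).obj (hiU.isOpenMap.functor.obj (HensSch.dOpen πU f))) v₀ hv₀W
  -- the section `g` over `D_V`
  have hle : (Opens.map iV.base).obj (hiU.isOpenMap.functor.obj (HensSch.dOpen πU f)) ≤
      (Opens.map πV.base).obj (⊤ : Opens (PrimeSpectrum B)) := fun _ _ => trivial
  have hs₁ : V.toRingedSpace.basicOpen
      (V.presheaf.map (homOfLE hle).op (HensSch.secMap πV ⊤ g)) = HensSch.dOpen πV g := by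
    have h0 := basicOpen_secMap (π := πV) (⊤ : Opens (PrimeSpectrum B)) g
    rw [RingedSpace.basicOpen_res, h0]
    apply le_antisymm
    · exact inf_le_right.trans inf_le_right
    · exact le_inf hg2 (le_inf (fun _ _ => trivial) le_rfl)
  obtain ⟨W, s', hW, hs'⟩ := exists_section_of_isOpenImmersion iV
    ((Opens.map iV.base).obj (hiU.isOpenMap.functor.obj (HensSch.dOpen πU f)))
    (V.presheaf.map (homOfLE hle).op (HensSch.secMap πV ⊤ g))
  rw [hs₁] at hs'
  -- `W` is the image of `dOpen πU f`
  have hWeq : W.1 = iU.base '' (HensSch.dOpen πU f).1 := by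
    rw [hW]
    have h1 : ((Opens.map iV.base).obj (hiU.isOpenMap.functor.obj (HensSch.dOpen πU f))).1 =
        iV.base ⁻¹' (iU.base '' (HensSch.dOpen πU f).1) := rfl
    rw [h1, Set.image_preimage_eq_inter_range, Set.inter_eq_left]
    rintro _ ⟨y, hy, rfl⟩
    exact hf2 hy
  have hO : (Opens.map iU.base).obj W = HensSch.dOpen πU f := by
    apply Opens.ext
    have h1 : ((Opens.map iU.base).obj W).1 = iU.base ⁻¹' W.1 := rfl
    change ((Opens.map iU.base).obj W).1 = (HensSch.dOpen πU f).1
    rw [h1, hWeq, Set.preimage_image_eq _ hiU.injective]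
  obtain ⟨a, ha⟩ := exists_basicOpen_eq_dOpen hU f _ hO (iU.c.app (op W) s')
  rw [← LocallyRingedSpace.preimage_basicOpen] at ha
  have hsub : (X.toRingedSpace.basicOpen s').1 ⊆ Set.range iU.base := by
    intro y hy
    have : y ∈ W.1 := RingedSpace.basicOpen_le _ _ hy
    rw [hWeq] at this
    obtain ⟨z, -, rfl⟩ := this
    exact ⟨z, rfl⟩
  have key : iU.base '' (HensSch.dOpen πU (f * a)).1 = (X.toRingedSpace.basicOpen s').1 := by
    rw [← ha]
    have h1 : ((Opens.map iU.base).obj (X.toRingedSpace.basicOpen s')).1 =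
        iU.base ⁻¹' (X.toRingedSpace.basicOpen s').1 := rfl
    rw [h1, Set.image_preimage_eq_inter_range, Set.inter_eq_left.mpr hsub]
  refine ⟨f * a, g, ?_, ?_⟩
  · change iU.base u₀ ∈ iU.base '' (HensSch.dOpen πU (f * a)).1
    rw [key, hs']
    exact ⟨v₀, hg1, hv₀⟩
  · change iU.base '' (HensSch.dOpen πU (f * a)).1 = iV.base '' (HensSch.dOpen πV g).1
    rw [key, hs']


end Groth.Agent.Lib.H9HensSch
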