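import Mathlib

/-! henselianLocalRing_of_henselianRing (local ring henselian at its maximal ideal is HenselianLocalRing), quasiFiniteAt_of_finite_fibre (finite type algebra, finite set-theoretic fibre through q ⇒ Algebra.QuasiFiniteAt) (helper9). -/

set_option autoImplicit false
universe u

namespace Groth.Agent.Lib.H9HensSub1

open IsLocalRing

/-- A local ring henselian at its maximal ideal is a henselian local ring. -/
theorem henselianLocalRing_of_henselianRing (A : Type*) [CommRing A] [IsLocalRing A]
    [h : HenselianRing A (maximalIdeal A)] : HenselianLocalRing A where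
  is_henselian f hf a₀ h₁ h₂ :=
    h.is_henselian f hf a₀ h₁ (h₂.map (Ideal.Quotient.mk (maximalIdeal A)))

/-- If the fibre of `Spec S → Spec R` through `q` is finite (`S` of finite type), then `S` is
quasi-finite at `q`. -/
theorem quasiFiniteAt_of_finite_fibre {R S : Type*} [CommRing R] [CommRing S] [Algebra R S]
    [Algebra.FiniteType R S] (q : PrimeSpectrum S)
    (hfin : (PrimeSpectrum.comap (algebraMap R S) ⁻¹' {q.comap (algebraMap R S)}).Finite) :
    Algebra.QuasiFiniteAt R q.asIdeal := by
  apply Algebra.QuasiFiniteAt.of_isOpen_singleton_fiber q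
  let p := q.comap (algebraMap R S)
  let e := PrimeSpectrum.preimageHomeomorphFiber R S p
  haveI : Finite (PrimeSpectrum (p.asIdeal.Fiber S)) := by
    haveI : Finite (PrimeSpectrum.comap (algebraMap R S) ⁻¹' {p}) := hfin
    exact Finite.of_equiv _ e.toEquiv
  haveI : Algebra.QuasiFinite p.asIdeal.ResidueField (p.asIdeal.Fiber S) :=
    Algebra.QuasiFinite.iff_finite_comap_preimage_singleton.mpr fun x => Set.toFinite _
  haveI : Module.Finite p.asIdeal.ResidueField (p.asIdeal.Fiber S) := Module.Finite.of_quasiFinite
  haveI : IsArtinianRing (p.asIdeal.Fiber S) := .of_finite p.asIdeal.ResidueField _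
  have h1 : IsOpen ({e ⟨q, rfl⟩} : Set (PrimeSpectrum (p.asIdeal.Fiber S))) := isOpen_discrete _
  have h2 := e.isOpen_preimage.mpr h1
  convert h2 using 1
  ext x
  simp only [Set.mem_singleton_iff, Set.mem_preimage]
  exact ⟨fun h => by rw [h], fun h => e.injective h⟩

end Groth.Agent.Lib.H9HensSub1
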