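import Mathlib
import Groth.Agent.Lib.Helper3HenselE
import Groth.Agent.Lib.Helper3HenselL

/-!
# Local structure of étale schemes over a henselian local ring at points of the closed fibre
-/

set_option autoImplicit false
set_option linter.style.haveILetI false
set_option linter.unusedVariables false

universe u

open CategoryTheory CategoryTheory.Limits AlgebraicGeometry IsLocalRing

namespace Groth.Agent.Lib.R2H3.TwConst

/-- Over a henselian local ring `R`, for a finite type algebra `B` quasi-finite at a prime `q`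
above the closed point there is an idempotent `e ∉ q` such that `B/(1-e)` is a local ring,
module-finite over `R`, whose maximal ideal pulls back to `q`. -/
theorem exists_local_factor {R : Type u} [CommRing R] [HenselianLocalRing R]
    {B : Type u} [CommRing B] [Algebra R B] [Algebra.FiniteType R B] (q : Ideal B) [q.IsPrime]
    [q.LiesOver (maximalIdeal R)] [Algebra.QuasiFiniteAt R q] :
    ∃ e : B, IsIdempotentElem e ∧ e ∉ q ∧ Module.Finite R (B ⧸ Ideal.span {1 - e}) ∧
      ∃ _ : IsLocalRing (B ⧸ Ideal.span {1 - e}),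
        (maximalIdeal (B ⧸ Ideal.span {1 - e})).comap (Ideal.Quotient.mk (Ideal.span {1 - e})) = q := by
  obtain ⟨e, he, heq, hfin, huniq⟩ :=
    Groth.Agent.Lib.Helper3.Hensel.exists_idempotent_of_quasiFiniteAt (R := R) q
  refine ⟨e, he, heq, hfin, ?_⟩
  have h1e : 1 - e ∈ q := by
    have : e * (1 - e) ∈ q := by
      rw [mul_sub, mul_one, he.eq, sub_self]; exact q.zero_mem
    exact (Ideal.IsPrime.mem_or_mem inferInstance this).resolve_left heq
  have hle : Ideal.span ({1 - e} : Set B) ≤ q := by
    rw [Ideal.span_le]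
    rintro _ rfl
    exact h1e
  haveI : Nontrivial (B ⧸ Ideal.span ({1 - e} : Set B)) := by
    apply Ideal.Quotient.nontrivial_iff.mpr
    intro htop
    exact (inferInstance : q.IsPrime).ne_top (top_le_iff.mp (htop ▸ hle))
  haveI : Algebra.IsIntegral R (B ⧸ Ideal.span ({1 - e} : Set B)) := Algebra.IsIntegral.of_finite R _
  have key : ∀ M : Ideal (B ⧸ Ideal.span ({1 - e} : Set B)), M.IsMaximal →
      M.comap (Ideal.Quotient.mk (Ideal.span {1 - e})) = q := by
    intro M hM
    haveI : (M.comap (Ideal.Quotient.mk (Ideal.span ({1 - e} : Set B)))).IsMaximal :=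
      Ideal.comap_isMaximal_of_surjective _ Ideal.Quotient.mk_surjective
    apply huniq _ inferInstance
    · constructor
      have hmax : (M.comap (algebraMap R (B ⧸ Ideal.span ({1 - e} : Set B)))).IsMaximal :=
        Ideal.isMaximal_comap_of_isIntegral_of_isMaximal M
      have := IsLocalRing.eq_maximalIdeal hmax
      rw [← this]
      rfl
    · intro hmem
      have h1 : (1 - e) ∈ M.comap (Ideal.Quotient.mk (Ideal.span ({1 - e} : Set B))) := by
        rw [Ideal.mem_comap]
        have : Ideal.Quotient.mk (Ideal.span ({1 - e} : Set B)) (1 - e) = 0 :=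
          Ideal.Quotient.eq_zero_iff_mem.mpr (Ideal.subset_span rfl)
        rw [this]; exact M.zero_mem
      have h2 : (1 : B) ∈ M.comap (Ideal.Quotient.mk (Ideal.span ({1 - e} : Set B))) := by
        have := Ideal.add_mem _ hmem h1
        rwa [add_sub_cancel] at this
      exact (inferInstance :
        (M.comap (Ideal.Quotient.mk (Ideal.span ({1 - e} : Set B)))).IsMaximal).ne_top
        ((Ideal.eq_top_iff_one _).mpr h2)
  have hloc : IsLocalRing (B ⧸ Ideal.span ({1 - e} : Set B)) := by
    obtain ⟨M₀, hM₀⟩ := Ideal.exists_maximal (B ⧸ Ideal.span ({1 - e} : Set B))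
    refine IsLocalRing.of_unique_max_ideal ⟨M₀, hM₀, ?_⟩
    intro M hM
    apply Ideal.comap_injective_of_surjective _ Ideal.Quotient.mk_surjective
    rw [key M hM, key M₀ hM₀]
  exact ⟨hloc, key _ (IsLocalRing.maximalIdeal.isMaximal _)⟩

/-- For an open immersion `j : Spec C ⟶ X` from the spectrum of a local ring, the canonical
morphism `Spec 𝒪_{X, j(closed point)} ⟶ X` is `j` up to an isomorphism of the source. -/
theorem fromSpecStalk_eq_of_local {X : Scheme.{u}} (C : CommRingCat.{u}) [IsLocalRing C]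
    (j : Spec C ⟶ X) [IsOpenImmersion j] :
    ∃ i : Spec (X.presheaf.stalk (j (closedPoint C))) ≅ Spec C,
      X.fromSpecStalk (j (closedPoint C)) = i.hom ≫ j := by
  haveI : IsIso (Scheme.stalkClosedPointTo j) := by
    unfold Scheme.stalkClosedPointTo
    infer_instance
  refine ⟨(asIso (Spec.map (Scheme.stalkClosedPointTo j))).symm, ?_⟩
  have h := Scheme.Spec_stalkClosedPointTo_fromSpecStalk j
  rw [Iso.symm_hom, asIso_inv, IsIso.eq_inv_comp]
  exact h

/-- **Local charts at points of the closed fibre.** If `X` is étale over the spectrum of a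
henselian local ring `R` and `x` lies over the closed point, then `x` is the closed point of an
open subscheme `Spec C ⊆ X` with `C` a local ring, finite and étale over `R`. -/
theorem exists_local_chart (R : Type u) [CommRing R] [HenselianLocalRing R]
    {X : Scheme.{u}} (f : X ⟶ Spec (CommRingCat.of R)) [AlgebraicGeometry.Etale f] (x : X)
    (hx : f x = closedPoint R) :
    ∃ (C : Type u) (_ : CommRing C) (_ : IsLocalRing C) (ψ : R →+* C)
      (j : Spec (CommRingCat.of C) ⟶ X),
      IsOpenImmersion j ∧ j (closedPoint C) = x ∧ j ≫ f = Spec.map (CommRingCat.ofHom ψ) ∧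
        ψ.Finite ∧ ψ.Etale := by
  -- an affine chart
  obtain ⟨B, j₀, hj₀, y, hy⟩ : ∃ (B : CommRingCat.{u}) (j₀ : Spec B ⟶ X),
      IsOpenImmersion j₀ ∧ ∃ y, j₀ y = x := by
    obtain ⟨y, hy⟩ := X.affineOpenCover.covers x
    exact ⟨_, X.affineOpenCover.f (X.affineOpenCover.idx x),
      X.affineOpenCover.openCover.map_prop _, y, hy⟩
  haveI := hj₀
  obtain ⟨φ, hφ⟩ : ∃ φ : CommRingCat.of R ⟶ B, Spec.map φ = j₀ ≫ f := ⟨_, Spec.map_preimage _⟩
  have hφet : φ.hom.Etale := by
    rw [← HasRingHomProperty.Spec_iff (P := @AlgebraicGeometry.Etale), hφ]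
    infer_instance
  letI : Algebra R B := φ.hom.toAlgebra
  haveI : Algebra.Etale R B := hφet
  let q : Ideal B := y.asIdeal
  haveI : q.IsPrime := y.isPrime
  haveI : q.LiesOver (maximalIdeal R) := by
    constructor
    have h1 : (Spec.map φ) y = closedPoint R := by
      rw [hφ, Scheme.Hom.comp_apply, hy, hx]
    have h2 := congrArg PrimeSpectrum.asIdeal h1
    exact h2.symm
  obtain ⟨e, he, heq, hfin, hloc, hcomap⟩ := exists_local_factor (R := R) q
  let T := B ⧸ Ideal.span ({1 - e} : Set B)
  let π : B ⟶ CommRingCat.of T := CommRingCat.ofHom (Ideal.Quotient.mk (Ideal.span {1 - e}))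
  haveI : IsOpenImmersion (Spec.map π) := by
    rw [isOpenImmersion_SpecMap_iff_of_surjective π Ideal.Quotient.mk_surjective]
    exact ⟨1 - e, he.one_sub, Ideal.mk_ker⟩
  refine ⟨T, inferInstance, hloc, (Ideal.Quotient.mk (Ideal.span {1 - e})).comp φ.hom,
    Spec.map π ≫ j₀, inferInstance, ?_, ?_, ?_, ?_⟩
  · rw [Scheme.Hom.comp_apply]
    have : (Spec.map π) (closedPoint T) = y := by
      apply PrimeSpectrum.ext
      exact hcomap
    rw [this, hy]
  · rw [Category.assoc, ← hφ, ← Spec.map_comp]
    rfl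
  · exact hfin
  · have : AlgebraicGeometry.Etale (Spec.map (φ ≫ π)) := by
      rw [Spec.map_comp, hφ]
      infer_instance
    rw [HasRingHomProperty.Spec_iff (P := @AlgebraicGeometry.Etale)] at this
    exact this

/-- a finite étale local algebra over a local ring has surjective spectrum map -/
theorem surjective_specMap_of_etale {R : Type u} [CommRing R] [IsLocalRing R]
    {C : Type u} [CommRing C] [IsLocalRing C] (ψ : R →+* C) (het : ψ.Etale)
    (hcl : (Spec.map (CommRingCat.ofHom ψ)) (closedPoint C) = closedPoint R) :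
    Surjective (Spec.map (CommRingCat.ofHom ψ)) := by
  haveI : AlgebraicGeometry.Etale (Spec.map (CommRingCat.ofHom ψ)) :=
    (HasRingHomProperty.Spec_iff (P := @AlgebraicGeometry.Etale)).mpr het
  have hopen : IsOpen (Set.range (Spec.map (CommRingCat.ofHom ψ))) :=
    (Spec.map (CommRingCat.ofHom ψ)).isOpenMap.isOpen_range
  have hmem : closedPoint R ∈ (⟨_, hopen⟩ : TopologicalSpace.Opens (PrimeSpectrum R)) :=
    ⟨closedPoint C, hcl⟩
  have htop := IsLocalRing.closed_point_mem_iff.mp hmem
  constructor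
  intro z
  have : z ∈ (⟨_, hopen⟩ : TopologicalSpace.Opens (PrimeSpectrum R)) := by
    rw [htop]; trivial
  exact this

/-- **Structure of separated étale universally specializing schemes over a henselian local
ring, part 1**: the local schemes at points of the closed fibre are clopen finite étale covers. -/
theorem fromSpecStalk_of_henselian (R : Type u) [CommRing R] [HenselianLocalRing R]
    {X : Scheme.{u}} (f : X ⟶ Spec (CommRingCat.of R)) [AlgebraicGeometry.Etale f]
    [IsSeparated f] (x : X) (hx : f x = closedPoint R) :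
    IsOpenImmersion (X.fromSpecStalk x) ∧ IsClosedImmersion (X.fromSpecStalk x) ∧
      IsFinite (X.fromSpecStalk x ≫ f) ∧ AlgebraicGeometry.Etale (X.fromSpecStalk x ≫ f) ∧
      Surjective (X.fromSpecStalk x ≫ f) := by
  obtain ⟨C, _, _, ψ, j, hj, rfl, hjf, hfin, het⟩ := exists_local_chart R f x hx
  haveI := hj
  obtain ⟨i, hi⟩ := fromSpecStalk_eq_of_local (CommRingCat.of C) j
  rw [hi]
  have hcomp : (i.hom ≫ j) ≫ f = i.hom ≫ Spec.map (CommRingCat.ofHom ψ) := by
    rw [Category.assoc, hjf]
  haveI hF : IsFinite (Spec.map (CommRingCat.ofHom ψ)) := (IsFinite.SpecMap_iff _).mpr hfin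
  haveI hE : AlgebraicGeometry.Etale (Spec.map (CommRingCat.ofHom ψ)) :=
    (HasRingHomProperty.Spec_iff (P := @AlgebraicGeometry.Etale)).mpr het
  haveI hS : Surjective (Spec.map (CommRingCat.ofHom ψ)) := by
    apply surjective_specMap_of_etale ψ het
    rw [← hjf, Scheme.Hom.comp_apply, hx]
  haveI hfin' : IsFinite ((i.hom ≫ j) ≫ f) := by rw [hcomp]; infer_instance
  refine ⟨inferInstance, ?_, hfin', ?_, ?_⟩
  · haveI : IsProper (i.hom ≫ j) := IsProper.of_comp (i.hom ≫ j) f
    exact IsClosedImmersion.of_isPreimmersion _ (i.hom ≫ j).isClosedMap.isClosed_range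
  · rw [hcomp]; infer_instance
  · rw [hcomp]; infer_instance

/-- **part 2**: every point specializes to exactly one point of the closed fibre. -/
theorem existsUnique_closedFibre (R : Type u) [CommRing R] [HenselianLocalRing R]
    {X : Scheme.{u}} (f : X ⟶ Spec (CommRingCat.of R)) [AlgebraicGeometry.Etale f]
    [IsSeparated f] (hsp : SpecializingMap f) (y : X) :
    ∃! x : X, f x = closedPoint R ∧ y ∈ Set.range (X.fromSpecStalk x) := by
  have hy : f y ⤳ closedPoint R := IsLocalRing.specializes_closedPoint _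
  obtain ⟨x, hyx, hfx⟩ := hsp hy
  have hyx' : y ⤳ x := hyx
  refine ⟨x, ⟨hfx, ?_⟩, ?_⟩
  · rw [Scheme.range_fromSpecStalk]; exact hyx'
  · rintro x' ⟨hfx', hyx''⟩
    have hyx₂ : y ⤳ x' := by
      rw [Scheme.range_fromSpecStalk] at hyx''; exact hyx''
    have c1 : IsClosed (Set.range (X.fromSpecStalk x)) :=
      (fromSpecStalk_of_henselian R f x hfx).2.1.isClosedEmbedding.isClosed_range
    have c2 : IsClosed (Set.range (X.fromSpecStalk x')) :=
      (fromSpecStalk_of_henselian R f x' hfx').2.1.isClosedEmbedding.isClosed_range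
    have m1 : y ∈ Set.range (X.fromSpecStalk x) := by
      rw [Scheme.range_fromSpecStalk]; exact hyx'
    have m2 : y ∈ Set.range (X.fromSpecStalk x') := by
      rw [Scheme.range_fromSpecStalk]; exact hyx₂
    have h1 : x' ⤳ x := by
      have := hyx₂.mem_closed c1 m1
      rw [Scheme.range_fromSpecStalk] at this; exact this
    have h2 : x ⤳ x' := by
      have := hyx'.mem_closed c2 m2
      rw [Scheme.range_fromSpecStalk] at this; exact this
    exact (h1.antisymm h2).eq

/-- a morphism from a local scheme whose closed point lands in the image of an open immersion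
factors through it -/
theorem exists_factor_of_closedPoint_mem {X Z : Scheme.{u}} (A : CommRingCat.{u}) [IsLocalRing A]
    (j : Z ⟶ X) [IsOpenImmersion j] (σ : Spec A ⟶ X)
    (h : σ (closedPoint A) ∈ Set.range j) : ∃ σ' : Spec A ⟶ Z, σ' ≫ j = σ := by
  have h1 : σ ⁻¹ᵁ j.opensRange = ⊤ :=
    Scheme.preimage_eq_top_of_closedPoint_mem σ (U := j.opensRange) h
  have h2 : Set.range σ ⊆ Set.range j := by
    rintro _ ⟨z, rfl⟩
    have : z ∈ σ ⁻¹ᵁ j.opensRange := by rw [h1]; trivial
    exact this
  exact ⟨IsOpenImmersion.lift j σ h2, IsOpenImmersion.lift_fac _ _ _⟩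

theorem specMap_residue_apply (R : Type u) [CommRing R] [IsLocalRing R]
    (z : Spec (CommRingCat.of (ResidueField R))) :
    (Spec.map (CommRingCat.ofHom (residue R))) z = closedPoint R := by
  apply PrimeSpectrum.ext
  change Ideal.comap (residue R) z.asIdeal = maximalIdeal R
  have : z.asIdeal = ⊥ := by
    have := z.isPrime
    exact ((Ideal.eq_bot_or_top z.asIdeal).resolve_right this.ne_top)
  rw [this, ← RingHom.ker_eq_comap_bot, IsLocalRing.ker_residue]

/-- **part 3**: sections are determined by their value at the closed point. -/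
theorem section_ext (R : Type u) [CommRing R] [HenselianLocalRing R]
    {X : Scheme.{u}} (f : X ⟶ Spec (CommRingCat.of R)) [AlgebraicGeometry.Etale f]
    (σ₁ σ₂ : Spec (CommRingCat.of R) ⟶ X) (h₁ : σ₁ ≫ f = 𝟙 _) (h₂ : σ₂ ≫ f = 𝟙 _)
    (h : Spec.map (CommRingCat.ofHom (residue R)) ≫ σ₁ =
      Spec.map (CommRingCat.ofHom (residue R)) ≫ σ₂) : σ₁ = σ₂ := by
  have hx : f (σ₁ (closedPoint R)) = closedPoint R := by
    rw [← Scheme.Hom.comp_apply, h₁]; rfl
  obtain ⟨C, _, _, ψ, j, hj, hjx, hjf, hfin, het⟩ := exists_local_chart R f _ hx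
  haveI := hj
  have hx₂ : σ₂ (closedPoint R) = σ₁ (closedPoint R) := by
    have e := specMap_residue_apply R (closedPoint (ResidueField R))
    have := congrArg (fun g => g (closedPoint (ResidueField R))) h
    simp only [Scheme.Hom.comp_apply] at this
    rw [e] at this
    exact this.symm
  obtain ⟨σ₁', hσ₁'⟩ := exists_factor_of_closedPoint_mem (CommRingCat.of R) j σ₁ ⟨_, hjx⟩
  obtain ⟨σ₂', hσ₂'⟩ := exists_factor_of_closedPoint_mem (CommRingCat.of R) j σ₂
    ⟨_, hjx.trans hx₂.symm⟩
  obtain ⟨s₁, rfl⟩ : ∃ s₁ : CommRingCat.of C ⟶ CommRingCat.of R, Spec.map s₁ = σ₁' :=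
    ⟨_, Spec.map_preimage _⟩
  obtain ⟨s₂, rfl⟩ : ∃ s₂ : CommRingCat.of C ⟶ CommRingCat.of R, Spec.map s₂ = σ₂' :=
    ⟨_, Spec.map_preimage _⟩
  have e₁ : CommRingCat.ofHom ψ ≫ s₁ = 𝟙 _ := by
    apply Spec.map_injective
    rw [Spec.map_comp, ← hjf, ← Category.assoc, hσ₁', h₁, Spec.map_id]
  have e₂ : CommRingCat.ofHom ψ ≫ s₂ = 𝟙 _ := by
    apply Spec.map_injective
    rw [Spec.map_comp, ← hjf, ← Category.assoc, hσ₂', h₂, Spec.map_id]
  have e₃ : s₁ ≫ CommRingCat.ofHom (residue R) = s₂ ≫ CommRingCat.ofHom (residue R) := by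
    apply Spec.map_injective
    rw [Spec.map_comp, Spec.map_comp, ← cancel_mono j, Category.assoc, Category.assoc, hσ₁', hσ₂']
    exact h
  letI : Algebra R C := ψ.toAlgebra
  haveI : Algebra.Etale R C := het
  let a₁ : C →ₐ[R] R := { s₁.hom with
    commutes' := fun r => by
      have := congrArg (fun g => g.hom r) e₁
      exact this }
  let a₂ : C →ₐ[R] R := { s₂.hom with
    commutes' := fun r => by
      have := congrArg (fun g => g.hom r) e₂
      exact this }
  let χ : C →ₐ[R] ResidueField R := (IsScalarTower.toAlgHom R R (ResidueField R)).comp a₁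
  obtain ⟨a, ha, huniq⟩ :=
    Groth.Agent.Lib.Helper3.Hensel.existsUnique_algHom_residue (R := R) (S := R) (A := C) χ
  have ha₁ : a₁ = a := huniq a₁ (fun c => rfl)
  have ha₂ : a₂ = a := huniq a₂ (fun c => by
    have := congrArg (fun g => g.hom c) e₃
    exact this.symm)
  have hs : s₁ = s₂ := by
    ext c
    have := congrArg (fun g : C →ₐ[R] R => g c) (ha₁.trans ha₂.symm)
    exact this
  rw [← hσ₁', ← hσ₂', hs]

/-- **part 4**: sections over the closed point lift. -/
theorem exists_section_lift (R : Type u) [CommRing R] [HenselianLocalRing R]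
    {X : Scheme.{u}} (f : X ⟶ Spec (CommRingCat.of R)) [AlgebraicGeometry.Etale f]
    (τ : Spec (CommRingCat.of (ResidueField R)) ⟶ X)
    (hτ : τ ≫ f = Spec.map (CommRingCat.ofHom (residue R))) :
    ∃ σ : Spec (CommRingCat.of R) ⟶ X, σ ≫ f = 𝟙 _ ∧
      Spec.map (CommRingCat.ofHom (residue R)) ≫ σ = τ := by
  have hx : f (τ (closedPoint (ResidueField R))) = closedPoint R := by
    rw [← Scheme.Hom.comp_apply, hτ]; exact specMap_residue_apply R _
  obtain ⟨C, _, _, ψ, j, hj, hjx, hjf, hfin, het⟩ := exists_local_chart R f _ hx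
  haveI := hj
  obtain ⟨τ', hτ'⟩ := exists_factor_of_closedPoint_mem (CommRingCat.of (ResidueField R)) j τ
    ⟨_, hjx⟩
  obtain ⟨χ₀, rfl⟩ : ∃ χ₀ : CommRingCat.of C ⟶ CommRingCat.of (ResidueField R),
      Spec.map χ₀ = τ' := ⟨_, Spec.map_preimage _⟩
  have e₁ : CommRingCat.ofHom ψ ≫ χ₀ = CommRingCat.ofHom (residue R) := by
    apply Spec.map_injective
    rw [Spec.map_comp, ← hjf, ← Category.assoc, hτ', hτ]
  letI : Algebra R C := ψ.toAlgebra
  haveI : Algebra.Etale R C := het
  let χ : C →ₐ[R] ResidueField R := { χ₀.hom with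
    commutes' := fun r => by
      have := congrArg (fun g => g.hom r) e₁
      exact this }
  obtain ⟨a, ha, -⟩ :=
    Groth.Agent.Lib.Helper3.Hensel.existsUnique_algHom_residue (R := R) (S := R) (A := C) χ
  have e₂ : CommRingCat.ofHom ψ ≫ CommRingCat.ofHom a.toRingHom = 𝟙 _ := by
    ext r
    exact a.commutes r
  have e₃ : CommRingCat.ofHom a.toRingHom ≫ CommRingCat.ofHom (residue R) = χ₀ := by
    ext c
    exact ha c
  refine ⟨Spec.map (CommRingCat.ofHom a.toRingHom) ≫ j, ?_, ?_⟩
  · rw [Category.assoc, hjf, ← Spec.map_comp, e₂, Spec.map_id]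
  · rw [← Category.assoc, ← Spec.map_comp, e₃, hτ']

end Groth.Agent.Lib.R2H3.TwConst
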