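import Mathlib
import Groth.Agent.Lib.H9HensSub1
import Groth.Agent.Lib.R2H3TwConstF

/-! exists_local_chart_of_finite_fibre, isFinite_fromSpecStalk_comp (over a henselian local ring, f locally of finite type with finite closed fibre: Spec O_{X,x} → Spec R is finite for x in the closed fibre) (helper9). -/

set_option autoImplicit false
universe u

namespace Groth.Agent.Lib.H9HensSub2

open CategoryTheory CategoryTheory.Limits AlgebraicGeometry IsLocalRing
open Groth.Agent.Lib.H9HensSub1 Groth.Agent.Lib.R2H3.TwConst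

/-- Local charts at points of a finite closed fibre over a henselian local ring. -/
theorem exists_local_chart_of_finite_fibre (R : Type u) [CommRing R] [HenselianLocalRing R]
    {X : Scheme.{u}} (f : X ⟶ Spec (CommRingCat.of R)) [LocallyOfFiniteType f] (x : X)
    (hx : f x = closedPoint R) (hfin : (f ⁻¹' {closedPoint R}).Finite) :
    ∃ (C : Type u) (_ : CommRing C) (_ : IsLocalRing C) (ψ : R →+* C)
      (j : Spec (CommRingCat.of C) ⟶ X),
      IsOpenImmersion j ∧ j (closedPoint C) = x ∧ j ≫ f = Spec.map (CommRingCat.ofHom ψ) ∧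
        ψ.Finite := by
  obtain ⟨B, j₀, hj₀, y, hy⟩ : ∃ (B : CommRingCat.{u}) (j₀ : Spec B ⟶ X),
      IsOpenImmersion j₀ ∧ ∃ y, j₀ y = x := by
    obtain ⟨y, hy⟩ := X.affineOpenCover.covers x
    exact ⟨_, X.affineOpenCover.f (X.affineOpenCover.idx x),
      X.affineOpenCover.openCover.map_prop _, y, hy⟩
  haveI := hj₀
  obtain ⟨φ, hφ⟩ : ∃ φ : CommRingCat.of R ⟶ B, Spec.map φ = j₀ ≫ f := ⟨_, Spec.map_preimage _⟩
  have hφft : φ.hom.FiniteType := by
    rw [← HasRingHomProperty.Spec_iff (P := @LocallyOfFiniteType), hφ]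
    infer_instance
  letI : Algebra R B := φ.hom.toAlgebra
  haveI : Algebra.FiniteType R B := hφft
  let q : Ideal B := y.asIdeal
  haveI : q.IsPrime := y.isPrime
  have h1 : (Spec.map φ) y = closedPoint R := by
    rw [hφ, Scheme.Hom.comp_apply, hy, hx]
  haveI : q.LiesOver (maximalIdeal R) := by
    constructor
    have h2 := congrArg PrimeSpectrum.asIdeal h1
    exact h2.symm
  haveI : Algebra.QuasiFiniteAt R q := by
    apply quasiFiniteAt_of_finite_fibre y
    have hinj : Set.InjOn j₀ (j₀ ⁻¹' (f ⁻¹' {closedPoint R})) :=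
      j₀.isOpenEmbedding.injective.injOn
    refine (hfin.preimage hinj).subset ?_
    intro z hz
    have hz' : (Spec.map φ) z = (Spec.map φ) y := hz
    show f (j₀ z) = closedPoint R
    rw [← Scheme.Hom.comp_apply, ← hφ, hz', h1]
  obtain ⟨e, he, heq, hfin', hloc, hcomap⟩ := exists_local_factor (R := R) q
  let T := B ⧸ Ideal.span ({1 - e} : Set B)
  let π : B ⟶ CommRingCat.of T := CommRingCat.ofHom (Ideal.Quotient.mk (Ideal.span {1 - e}))
  haveI : IsOpenImmersion (Spec.map π) := by
    rw [isOpenImmersion_SpecMap_iff_of_surjective π Ideal.Quotient.mk_surjective]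
    exact ⟨1 - e, he.one_sub, Ideal.mk_ker⟩
  refine ⟨T, inferInstance, hloc, (Ideal.Quotient.mk (Ideal.span {1 - e})).comp φ.hom,
    Spec.map π ≫ j₀, inferInstance, ?_, ?_, ?_⟩
  · rw [Scheme.Hom.comp_apply]
    have : (Spec.map π) (closedPoint T) = y := by
      apply PrimeSpectrum.ext
      exact hcomap
    rw [this, hy]
  · rw [Category.assoc, ← hφ, ← Spec.map_comp]
    rfl
  · exact hfin'

/-- Over a henselian local ring, the local scheme at a point of a finite closed fibre of a
morphism locally of finite type is finite over the base. -/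
theorem isFinite_fromSpecStalk_comp (R : Type u) [CommRing R] [HenselianLocalRing R]
    {X : Scheme.{u}} (f : X ⟶ Spec (CommRingCat.of R)) [LocallyOfFiniteType f] (x : X)
    (hx : f x = closedPoint R) (hfin : (f ⁻¹' {closedPoint R}).Finite) :
    IsFinite (X.fromSpecStalk x ≫ f) := by
  obtain ⟨C, _, _, ψ, j, hj, rfl, hjf, hfin'⟩ := exists_local_chart_of_finite_fibre R f x hx hfin
  haveI := hj
  obtain ⟨i, hi⟩ := fromSpecStalk_eq_of_local (CommRingCat.of C) j
  rw [hi]
  have hcomp : (i.hom ≫ j) ≫ f = i.hom ≫ Spec.map (CommRingCat.ofHom ψ) := by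
    rw [Category.assoc, hjf]
  haveI hF : IsFinite (Spec.map (CommRingCat.ofHom ψ)) := (IsFinite.SpecMap_iff _).mpr hfin'
  rw [hcomp]
  infer_instance

end Groth.Agent.Lib.H9HensSub2
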