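import Mathlib
import Groth.Prelude.Def_SGA1

/-! univSubmersive_of_finite_family (g surjective, X covered set-theoretically by finitely many h_i : Z_i → X with h_i ≫ g finite ⇒ g universally submersive) (helper9). -/

set_option autoImplicit false
universe u

namespace Groth.Agent.Lib.H9HensSub3

open CategoryTheory CategoryTheory.Limits AlgebraicGeometry

/-- A surjective morphism `g : X ⟶ S` such that `X` is covered (set-theoretically) by the images
of finitely many morphisms `h i : Z i ⟶ X` with `h i ≫ g` finite is universally submersive. -/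
theorem univSubmersive_of_finite_family {X S : Scheme.{u}} (g : X ⟶ S) [Surjective g]
    {ι : Type*} [Finite ι] (Z : ι → Scheme.{u}) (h : ∀ i, Z i ⟶ X)
    (hfin : ∀ i, IsFinite (h i ≫ g)) (hcov : ∀ x : X, ∃ i, x ∈ Set.range (h i)) :
    SGA1.UnivSubmersive g := by
  intro X' Y' i₁ i₂ f' hpb
  show Topology.IsQuotientMap f'
  haveI hsurj : Surjective f' := MorphismProperty.of_isPullback (P := @Surjective) hpb.flip ‹_›
  rw [Topology.isQuotientMap_iff_isClosed]
  refine ⟨hsurj.surj, fun C => ⟨fun hC => hC.preimage f'.continuous, fun hC => ?_⟩⟩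
  -- the finite pieces
  have hfin' : ∀ i, IsFinite (pullback.snd (h i) i₁ ≫ f') := by
    intro i
    have hpaste : IsPullback (pullback.snd (h i) i₁ ≫ f') (pullback.fst (h i) i₁) i₂ (h i ≫ g) :=
      (IsPullback.of_hasPullback (h i) i₁).flip.paste_horiz hpb
    exact MorphismProperty.of_isPullback (P := @IsFinite) hpaste.flip (hfin i)
  have hC' : C = ⋃ i, (pullback.snd (h i) i₁ ≫ f') ''
      ((pullback.snd (h i) i₁) ⁻¹' (f' ⁻¹' C)) := by
    apply Set.Subset.antisymm
    · intro y hy
      obtain ⟨t, ht⟩ := (‹Surjective g›).surj (i₂ y)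
      obtain ⟨i, z, hz⟩ := hcov t
      -- a point of X' over (t, y)
      obtain ⟨x', hx'1, hx'2⟩ : ∃ x' : X', i₁ x' = t ∧ f' x' = y := by
        obtain ⟨p, hp1, hp2⟩ := Scheme.Pullback.exists_preimage_pullback (f := g) (g := i₂) t y ht
        refine ⟨hpb.flip.isoPullback.inv p, ?_, ?_⟩
        · rw [← Scheme.Hom.comp_apply, IsPullback.isoPullback_inv_fst, hp1]
        · rw [← Scheme.Hom.comp_apply, IsPullback.isoPullback_inv_snd, hp2]
      obtain ⟨w, hw1, hw2⟩ := Scheme.Pullback.exists_preimage_pullback (f := h i) (g := i₁) z x'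
        (by rw [hz, hx'1])
      refine Set.mem_iUnion.mpr ⟨i, w, ?_, ?_⟩
      · show f' (pullback.snd (h i) i₁ w) ∈ C
        rw [hw2, hx'2]
        exact hy
      · rw [Scheme.Hom.comp_apply, hw2, hx'2]
    · intro y hy
      obtain ⟨i, w, hw, rfl⟩ := Set.mem_iUnion.mp hy
      exact hw
  rw [hC']
  refine isClosed_iUnion_of_finite fun i => ?_
  haveI := hfin' i
  exact (pullback.snd (h i) i₁ ≫ f').isClosedMap _ (hC.preimage (pullback.snd (h i) i₁).continuous)

end Groth.Agent.Lib.H9HensSub3
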