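import Mathlib
import Groth.Prelude.Def_SGA1
import Groth.Agent.Lib.H9HensSub2
import Groth.Agent.Lib.H9HensSub3

/-! univSubmersive_of_specializes (S5114: finite type surjective onto Spec of a complete local ring, finite closed fibre, every point specializes into the closed fibre ⇒ universally submersive) (helper9). -/

set_option autoImplicit false
universe u

namespace Groth.Agent.Lib.H9HensSub4

open CategoryTheory CategoryTheory.Limits AlgebraicGeometry IsLocalRing
open Groth.Agent.Lib.H9HensSub1 Groth.Agent.Lib.H9HensSub2 Groth.Agent.Lib.H9HensSub3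

theorem univSubmersive_of_specializes (A : Type u) [CommRing A]
    [IsLocalRing A] [IsAdicComplete (IsLocalRing.maximalIdeal A) A]
    {S' : Scheme.{u}} (g : S' ⟶ Spec (CommRingCat.of A)) [LocallyOfFiniteType g]
    [Surjective g]
    (hfin : (g.base ⁻¹' {IsLocalRing.closedPoint A}).Finite)
    (hsp : ∀ t : S', ∃ s' : S', g.base s' = IsLocalRing.closedPoint A ∧ t ⤳ s') :
    SGA1.UnivSubmersive g := by
  haveI : HenselianLocalRing A := henselianLocalRing_of_henselianRing A
  have hfin' : (g ⁻¹' {closedPoint A}).Finite := hfin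
  haveI : Finite ↥(g ⁻¹' {closedPoint A}) := hfin'
  refine univSubmersive_of_finite_family g (ι := ↥(g ⁻¹' {closedPoint A}))
    (fun s => Spec (S'.presheaf.stalk s.1)) (fun s => S'.fromSpecStalk s.1)
    (fun s => isFinite_fromSpecStalk_comp A g s.1 s.2 hfin') ?_
  intro t
  obtain ⟨s', hs', hts⟩ := hsp t
  refine ⟨⟨s', hs'⟩, ?_⟩
  rw [Scheme.range_fromSpecStalk]
  exact hts

end Groth.Agent.Lib.H9HensSub4
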