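import Mathlib
import Groth.Agent.Lib.H9HenselClopen

set_option autoImplicit false
set_option linter.style.haveILetI false
set_option linter.unusedSectionVars false
universe u v w

namespace Groth.Agent.Lib.H9HenselSigma

open CategoryTheory CategoryTheory.Limits AlgebraicGeometry TopologicalSpace

-- ===== from SC1 =====
section SecSC1
variable {ι : Type u} (X X₀ : ι → Scheme.{u}) (i : ∀ j, X₀ j ⟶ X j)

theorem exists_sigmaι_eq (x : ↥(∐ X)) : ∃ (j : ι) (z : X j), (Sigma.ι X j) z = x := by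
  obtain ⟨⟨j, z⟩, rfl⟩ := (sigmaMk X).surjective x
  exact ⟨j, z, (sigmaMk_mk X j z).symm⟩

theorem sigmaMap_ι_apply (j : ι) (z : X₀ j) :
    (Limits.Sigma.map i) ((Sigma.ι X₀ j) z) = (Sigma.ι X j) ((i j) z) := by
  rw [← Scheme.Hom.comp_apply, ← Scheme.Hom.comp_apply, Sigma.ι_map]

theorem sigmaι_injective (j : ι) : Function.Injective (Sigma.ι X j) := by
  intro a b hab
  have := (sigmaι_eq_iff X j j a b).mp hab
  simpa using this

theorem index_eq_of_sigmaι_eq {j k : ι} {a : X j} {b : X k}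
    (h : (Sigma.ι X j) a = (Sigma.ι X k) b) : j = k := by
  have := (sigmaι_eq_iff X j k a b).mp h
  exact congrArg Sigma.fst this

/-- the range of a component is closed -/
theorem isClosed_range_sigmaι (j : ι) : IsClosed (Set.range (Sigma.ι X j)) := by
  rw [← isOpen_compl_iff]
  have : (Set.range (Sigma.ι X j))ᶜ = ⋃ k : {k : ι // k ≠ j}, Set.range (Sigma.ι X k.1) := by
    ext x
    simp only [Set.mem_compl_iff, Set.mem_range, not_exists, Set.mem_iUnion]
    constructor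
    · intro hx
      obtain ⟨k, z, rfl⟩ := exists_sigmaι_eq X x
      refine ⟨⟨k, ?_⟩, z, rfl⟩
      rintro rfl
      exact hx z rfl
    · rintro ⟨⟨k, hk⟩, z, rfl⟩ y hy
      exact hk (index_eq_of_sigmaι_eq X hy).symm
  rw [this]
  exact isOpen_iUnion fun k => (Sigma.ι X k.1).isOpenEmbedding.isOpen_range

scoped instance isClosedImmersion_sigmaι (j : ι) : IsClosedImmersion (Sigma.ι X j) :=
  IsClosedImmersion.of_isPreimmersion _ (isClosed_range_sigmaι X j)

/-- the cartesian square of a component -/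
theorem range_fst_le (k : ι) (s : PullbackCone (Limits.Sigma.map i) (Sigma.ι X k)) :
    Set.range s.fst ⊆ Set.range (Sigma.ι X₀ k) := by
  intro x hx
  obtain ⟨t, rfl⟩ := hx
  obtain ⟨l, z, hz⟩ := exists_sigmaι_eq X₀ (s.fst t)
  have h1 : (Limits.Sigma.map i) (s.fst t) = (Sigma.ι X k) (s.snd t) := by
    rw [← Scheme.Hom.comp_apply, ← Scheme.Hom.comp_apply, s.condition]
  rw [← hz, sigmaMap_ι_apply] at h1
  obtain rfl := index_eq_of_sigmaι_eq X h1
  exact ⟨z, hz⟩

theorem isPullback_sigmaι (k : ι) :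
    IsPullback (Sigma.ι X₀ k) (i k) (Limits.Sigma.map i) (Sigma.ι X k) := by
  refine ⟨⟨Sigma.ι_map i k⟩, ⟨PullbackCone.IsLimit.mk _
    (fun s => IsOpenImmersion.lift (Sigma.ι X₀ k) s.fst (range_fst_le X X₀ i k s))
    (fun s => ?_) (fun s => ?_) (fun s m h1 _ => ?_)⟩⟩
  · exact IsOpenImmersion.lift_fac _ _ _
  · rw [← cancel_mono (Sigma.ι X k), Category.assoc, ← Sigma.ι_map i k, ← Category.assoc,
      IsOpenImmersion.lift_fac, s.condition]
  · rw [← cancel_mono (Sigma.ι X₀ k), IsOpenImmersion.lift_fac]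
    exact h1

scoped instance isClosedImmersion_sigmaMap [hi : ∀ j, IsClosedImmersion (i j)] :
    IsClosedImmersion (Limits.Sigma.map i) := by
  rw [IsZariskiLocalAtTarget.iff_of_openCover (P := @IsClosedImmersion) (sigmaOpenCover X)]
  intro k
  have hpb := isPullback_sigmaι X X₀ i k
  have h1 : pullback.snd (Limits.Sigma.map i) (Sigma.ι X k) = hpb.isoPullback.inv ≫ i k := by
    rw [Iso.eq_inv_comp]
    exact hpb.isoPullback_hom_snd
  change IsClosedImmersion (pullback.snd (Limits.Sigma.map i) (Sigma.ι X k))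
  rw [h1]
  haveI : IsClosedImmersion (i k) := hi k
  exact IsClosedImmersion.comp _ _

end SecSC1

-- ===== from SC2 =====
section SecSC2
open Groth.Agent.Lib.H9HenselClopen

variable {ι : Type*} {Y : Type*} [TopologicalSpace Y]

theorem cl_of_partition (U : ι → Opens Y)
    (hdisj : ∀ j k (y : Y), y ∈ U j → y ∈ U k → j = k) (hcov : ∀ y, ∃ j, y ∈ U j) (Z : Set Y)
    (S : ∀ j, Set (U j)) (hS : ∀ j (y : U j), y ∈ S j ↔ (y : Y) ∈ Z)
    (h : ∀ j, CL (Subtype.val : S j → U j)) :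
    CL (Subtype.val : Z → Y) := by
  intro V hV
  -- the pieces of `V`
  let φ : ∀ j, S j → Z := fun j y => ⟨y.1.1, (hS j y.1).mp y.2⟩
  have hφ : ∀ j, Continuous (φ j) := fun j => by
    apply Continuous.subtype_mk
    exact continuous_subtype_val.comp continuous_subtype_val
  have hVj : ∀ j, IsClopen (φ j ⁻¹' V) := fun j => hV.preimage (hφ j)
  choose W hW hWuniq using fun j => h j _ (hVj j)
  have hWmem : ∀ j (y : U j) (hy : (y : Y) ∈ Z), y ∈ W j ↔ (⟨y.1, hy⟩ : Z) ∈ V := by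
    intro j y hy
    have := Set.ext_iff.mp (hW j).2 ⟨y, (hS j y).mpr hy⟩
    exact this
  let T : Set Y := {y | ∃ j, ∃ hy : y ∈ U j, (⟨y, hy⟩ : U j) ∈ W j}
  have hT : T = ⋃ j, Subtype.val '' (W j) := by
    ext y
    simp only [T, Set.mem_ofPred_eq, Set.mem_iUnion, Set.mem_image, Subtype.exists,
      exists_and_right, exists_eq_right]
  have hTc : Tᶜ = ⋃ j, Subtype.val '' (W j)ᶜ := by
    ext y
    simp only [T, Set.mem_compl_iff, Set.mem_ofPred_eq, Set.mem_iUnion, Set.mem_image,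
      Subtype.exists, exists_and_right, exists_eq_right, not_exists]
    constructor
    · intro hy
      obtain ⟨j, hj⟩ := hcov y
      exact ⟨j, hj, hy j hj⟩
    · rintro ⟨j, hj, hyj⟩ k hk
      obtain rfl := hdisj j k y hj hk
      exact hyj
  have hTopen : IsOpen T := by
    rw [hT]
    exact isOpen_iUnion fun j => (U j).2.isOpenMap_subtype_val _ (hW j).1.isOpen
  have hTclosed : IsClosed T := by
    rw [← isOpen_compl_iff, hTc]
    exact isOpen_iUnion fun j => (U j).2.isOpenMap_subtype_val _ (hW j).1.compl.isOpen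
  refine ⟨T, ⟨⟨hTclosed, hTopen⟩, ?_⟩, ?_⟩
  · ext z
    simp only [Set.mem_preimage, T, Set.mem_ofPred_eq]
    constructor
    · rintro ⟨j, hy, hw⟩
      exact (hWmem j ⟨z.1, hy⟩ z.2).mp hw
    · intro hz
      obtain ⟨j, hj⟩ := hcov z.1
      exact ⟨j, hj, (hWmem j ⟨z.1, hj⟩ z.2).mpr hz⟩
  · rintro T' ⟨hT', hT'V⟩
    have h1 : ∀ j, (Subtype.val : U j → Y) ⁻¹' T' = W j := by
      intro j
      apply hWuniq j
      refine ⟨hT'.preimage continuous_subtype_val, ?_⟩
      ext y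
      have := Set.ext_iff.mp hT'V ⟨y.1.1, (hS j y.1).mp y.2⟩
      exact this
    ext y
    simp only [T, Set.mem_ofPred_eq]
    constructor
    · intro hy
      obtain ⟨j, hj⟩ := hcov y
      refine ⟨j, hj, ?_⟩
      rw [← h1 j]
      exact hy
    · rintro ⟨j, hj, hw⟩
      rw [← h1 j] at hw
      exact hw

end SecSC2

-- ===== from SC3 =====
section SecSC3
open Groth.Agent.Lib.H9HenselClopen

variable {ι : Type u} (X X₀ : ι → Scheme.{u}) (i : ∀ j, X₀ j ⟶ X j)

theorem sigmaι_mem_range_sigmaMap_iff (j : ι) (x : X j) :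
    (Sigma.ι X j) x ∈ Set.range (Limits.Sigma.map i) ↔ x ∈ Set.range (i j) := by
  constructor
  · rintro ⟨w, hw⟩
    obtain ⟨l, z, rfl⟩ := exists_sigmaι_eq X₀ w
    rw [sigmaMap_ι_apply] at hw
    obtain rfl := index_eq_of_sigmaι_eq X hw
    exact ⟨z, sigmaι_injective X l hw⟩
  · rintro ⟨z, rfl⟩
    exact ⟨(Sigma.ι X₀ j) z, sigmaMap_ι_apply X X₀ i j z⟩

variable [hi : ∀ j, IsClosedImmersion (i j)]

theorem forward
    (H : ∀ (Y : Scheme.{u}) (g : Y ⟶ ∐ X), IsFinite g →
      CL (pullback.fst g (Limits.Sigma.map i)).base)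
    (j : ι) (Y : Scheme.{u}) (g : Y ⟶ X j) (hg : IsFinite g) :
    CL (pullback.fst g (i j)).base := by
  haveI := hg
  haveI := isClosedImmersion_sigmaι X j
  haveI := isClosedImmersion_sigmaMap X X₀ i
  have h1 := H Y (g ≫ Sigma.ι X j) inferInstance
  refine (CL.iff_of_embedding
    (pullback.fst (g ≫ Sigma.ι X j) (Limits.Sigma.map i)).isClosedEmbedding.isEmbedding
    (pullback.fst g (i j)).isClosedEmbedding.isEmbedding (Homeomorph.refl Y) ?_).mp h1
  have r1 := Scheme.Pullback.range_fst (g ≫ Sigma.ι X j) (Limits.Sigma.map i)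
  have r2 := Scheme.Pullback.range_fst g (i j)
  have e1 : (Homeomorph.refl ↥Y) '' Set.range (pullback.fst (g ≫ Sigma.ι X j)
      (Limits.Sigma.map i)).base = Set.range (pullback.fst (g ≫ Sigma.ι X j)
      (Limits.Sigma.map i)).base := Set.image_id _
  rw [e1]
  refine r1.trans (Eq.trans ?_ r2.symm)
  ext y
  simp only [Set.mem_preimage]
  rw [Scheme.Hom.comp_apply]
  exact sigmaι_mem_range_sigmaMap_iff X X₀ i j (g y)


/-- the restriction of `g` over a component -/
noncomputable def gj {Y : Scheme.{u}} (g : Y ⟶ ∐ X) (j : ι) :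
    (g ⁻¹ᵁ (Sigma.ι X j).opensRange).toScheme ⟶ X j :=
  (g ∣_ (Sigma.ι X j).opensRange) ≫ (Sigma.ι X j).isoOpensRange.inv

theorem gj_comp {Y : Scheme.{u}} (g : Y ⟶ ∐ X) (j : ι) :
    gj X g j ≫ Sigma.ι X j = (g ⁻¹ᵁ (Sigma.ι X j).opensRange).ι ≫ g := by
  rw [gj, Category.assoc, Scheme.Hom.isoOpensRange_inv_comp, morphismRestrict_ι]

theorem gj_apply {Y : Scheme.{u}} (g : Y ⟶ ∐ X) (j : ι)
    (y : (g ⁻¹ᵁ (Sigma.ι X j).opensRange).toScheme) :
    (Sigma.ι X j) ((gj X g j) y) = g ((g ⁻¹ᵁ (Sigma.ι X j).opensRange).ι y) := by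
  rw [← Scheme.Hom.comp_apply, ← Scheme.Hom.comp_apply, gj_comp]

scoped instance {Y : Scheme.{u}} (g : Y ⟶ ∐ X) [IsFinite g] (j : ι) : IsFinite (gj X g j) := by
  unfold gj
  infer_instance

theorem backward
    (H : ∀ (j : ι) (Y : Scheme.{u}) (g : Y ⟶ X j), IsFinite g → CL (pullback.fst g (i j)).base)
    (Y : Scheme.{u}) (g : Y ⟶ ∐ X) (hg : IsFinite g) :
    CL (pullback.fst g (Limits.Sigma.map i)).base := by
  haveI := hg
  haveI := isClosedImmersion_sigmaMap X X₀ i
  rw [CL.iff_subtype (pullback.fst g (Limits.Sigma.map i)).isClosedEmbedding.isEmbedding]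
  have hZmem : ∀ y : Y, y ∈ Set.range (pullback.fst g (Limits.Sigma.map i)).base ↔
      g y ∈ Set.range (Limits.Sigma.map i) := by
    intro y
    have := Scheme.Pullback.range_fst g (Limits.Sigma.map i)
    exact Set.ext_iff.mp this y
  refine cl_of_partition (fun j => g ⁻¹ᵁ (Sigma.ι X j).opensRange) ?_ ?_ _
    (fun j => Set.range (pullback.fst (gj X g j) (i j)).base) ?_ ?_
  · intro j k y hj hk
    obtain ⟨a, ha⟩ := hj
    obtain ⟨b, hb⟩ := hk
    exact index_eq_of_sigmaι_eq X (ha.trans hb.symm)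
  · intro y
    obtain ⟨j, z, hz⟩ := exists_sigmaι_eq X (g y)
    exact ⟨j, z, hz⟩
  · intro j y
    rw [hZmem]
    have r := Scheme.Pullback.range_fst (gj X g j) (i j)
    have h1 : y ∈ Set.range (pullback.fst (gj X g j) (i j)).base ↔
        (gj X g j) y ∈ Set.range (i j) := Set.ext_iff.mp r y
    refine h1.trans ((sigmaι_mem_range_sigmaMap_iff X X₀ i j _).symm.trans ?_)
    have h2 := gj_apply X g j y
    have h3 : (g ⁻¹ᵁ (Sigma.ι X j).opensRange).ι y = (y : Y) := rfl
    rw [h3] at h2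
    exact iff_of_eq (congrArg (· ∈ Set.range (Limits.Sigma.map i)) h2)
  · intro j
    exact (CL.iff_subtype (pullback.fst (gj X g j) (i j)).isClosedEmbedding.isEmbedding).mp
      (H j _ (gj X g j) inferInstance)

theorem main :
    (∀ (Y : Scheme.{u}) (g : Y ⟶ ∐ X), IsFinite g →
      ∀ V : Set ↥(pullback g (Limits.Sigma.map i)), IsClopen V →
        ∃! U : Set ↥Y, IsClopen U ∧ (pullback.fst g (Limits.Sigma.map i)).base ⁻¹' U = V) ↔
    ∀ j : ι, ∀ (Y : Scheme.{u}) (g : Y ⟶ X j), IsFinite g →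
      ∀ V : Set ↥(pullback g (i j)), IsClopen V →
        ∃! U : Set ↥Y, IsClopen U ∧ (pullback.fst g (i j)).base ⁻¹' U = V :=
  ⟨fun H j Y g hg => forward X X₀ i H j Y g hg, fun H Y g hg => backward X X₀ i H Y g hg⟩

end SecSC3


end Groth.Agent.Lib.H9HenselSigma
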