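import Mathlib
import Groth.Prelude.Def_GrLC
import Groth.Prelude.Def_CAlg

set_option autoImplicit false
set_option linter.style.haveILetI false
set_option linter.unusedSectionVars false
universe u v w

namespace Groth.Agent.Lib.H9HilbertMono

open Polynomial DirectSum

-- ===== from GH1 =====
section SecGH1
variable {R : Type u} [CommRing R]

/-- McCoy: the polynomial with coefficients `x j` is a non-zero-divisor if no nonzero element kills
all the `x j`. -/
theorem poly_mem_nonZeroDivisors {r : ℕ} (x : Fin r → R)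
    (hreg : ∀ a : R, (∀ j, a * x j = 0) → a = 0) :
    (∑ j : Fin r, C (x j) * X ^ (j : ℕ)) ∈ nonZeroDivisors R[X] := by
  by_contra h
  rw [Polynomial.notMem_nonZeroDivisors_iff] at h
  obtain ⟨a, ha, ha0⟩ := h
  apply ha
  apply hreg
  intro j
  have := congrArg (fun p => Polynomial.coeff p (j : ℕ)) ha0
  simp only [Polynomial.coeff_smul, Polynomial.finsetSum_coeff, Polynomial.coeff_C_mul,
    Polynomial.coeff_X_pow, Polynomial.coeff_zero, smul_eq_mul] at this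
  rw [Finset.sum_eq_single j] at this
  · simpa using this
  · intro b _ hb
    have : (j : ℕ) ≠ (b : ℕ) := fun h => hb (Fin.ext h.symm)
    simp [this]
  · intro h; exact absurd (Finset.mem_univ j) h


/-- the polynomial with prescribed coefficients -/
noncomputable def polyOf {n : ℕ} (y : Fin n → R) : R[X] := ∑ i : Fin n, C (y i) * X ^ (i : ℕ)

theorem coeff_polyOf {n : ℕ} (y : Fin n → R) (b : ℕ) :
    (polyOf y).coeff b = if h : b < n then y ⟨b, h⟩ else 0 := by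
  unfold polyOf
  simp only [Polynomial.finsetSum_coeff, Polynomial.coeff_C_mul, Polynomial.coeff_X_pow]
  split_ifs with h
  · rw [Finset.sum_eq_single ⟨b, h⟩]
    · simp
    · intro i _ hi
      have : b ≠ (i : ℕ) := fun e => hi (Fin.ext e.symm)
      simp [this]
    · intro h'; exact absurd (Finset.mem_univ _) h'
  · apply Finset.sum_eq_zero
    intro i _
    have : b ≠ (i : ℕ) := fun e => h (e ▸ i.2)
    simp [this]

theorem polyOf_eq_zero_iff {n : ℕ} (y : Fin n → R) : polyOf y = 0 ↔ y = 0 := by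
  constructor
  · intro h
    funext i
    have := congrArg (fun p => Polynomial.coeff p (i : ℕ)) h
    simp only [coeff_polyOf, i.2, dite_true, Polynomial.coeff_zero] at this
    exact this
  · rintro rfl
    unfold polyOf
    simp

theorem coeff_mul_polyOf_eq_zero {r n : ℕ} (x : Fin r → R) (y : Fin n → R) (l : ℕ)
    (hl : r + n ≤ l + 1) : (polyOf x * polyOf y).coeff l = 0 := by
  rw [Polynomial.coeff_mul]
  apply Finset.sum_eq_zero
  rintro ⟨a, b⟩ hab
  have hab' : a + b = l := Finset.HasAntidiagonal.mem_antidiagonal.mp hab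
  show (polyOf x).coeff a * (polyOf y).coeff b = 0
  rw [coeff_polyOf, coeff_polyOf]
  by_cases ha : a < r
  · have hb : ¬ b < n := by omega
    rw [dif_neg hb, mul_zero]
  · rw [dif_neg ha, zero_mul]

end SecGH1

-- ===== from GH2 =====
section SecGH2
variable {R : Type u} [CommRing R] (S : Subring R) (A B : Submodule S R) {r : ℕ} (x : Fin r → R)
  (hmul : ∀ j, ∀ a ∈ A, x j * a ∈ B)

/-- multiplication by `x j` as a linear map `A → B` -/
def μ (j : Fin r) : A →ₗ[S] B where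
  toFun a := ⟨x j * (a : R), hmul j a a.2⟩
  map_add' a b := by
    apply Subtype.ext
    simp only [Submodule.coe_add, mul_add]
  map_smul' s a := by
    apply Subtype.ext
    simp only [Submodule.coe_smul, RingHom.id_apply, mul_smul_comm]

/-- the term of the convolution -/
noncomputable def T (N : ℕ) (p : ℕ × ℕ) : (Fin (N + 1) → A) →ₗ[S] B :=
  if h : p.1 < r ∧ p.2 < N + 1 then (μ S A B x hmul ⟨p.1, h.1⟩).comp (LinearMap.proj ⟨p.2, h.2⟩)
  else 0

/-- convolution with the `x j` -/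
noncomputable def Φ (N : ℕ) : (Fin (N + 1) → A) →ₗ[S] (Fin (N + r) → B) :=
  LinearMap.pi (fun l : Fin (N + r) =>
    ∑ p ∈ Finset.HasAntidiagonal.antidiagonal (l : ℕ), T S A B x hmul N p)

theorem coe_T (N : ℕ) (p : ℕ × ℕ) (g : Fin (N + 1) → A) :
    ((T S A B x hmul N p g : B) : R) =
      (polyOf x).coeff p.1 * (polyOf (fun i => ((g i : A) : R))).coeff p.2 := by
  unfold T
  rw [coeff_polyOf, coeff_polyOf]
  by_cases h : p.1 < r ∧ p.2 < N + 1
  · rw [dif_pos h, dif_pos h.1, dif_pos h.2]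
    rfl
  · rw [dif_neg h]
    by_cases h1 : p.1 < r
    · have h2 : ¬ p.2 < N + 1 := fun h2 => h ⟨h1, h2⟩
      rw [dif_neg h2, mul_zero]
      rfl
    · rw [dif_neg h1, zero_mul]
      rfl

theorem coe_Φ (N : ℕ) (g : Fin (N + 1) → A) (l : Fin (N + r)) :
    ((Φ S A B x hmul N g l : B) : R) =
      (polyOf x * polyOf (fun i => ((g i : A) : R))).coeff (l : ℕ) := by
  rw [Polynomial.coeff_mul]
  have : Φ S A B x hmul N g l =
      ∑ p ∈ Finset.HasAntidiagonal.antidiagonal (l : ℕ), T S A B x hmul N p g := by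
    simp only [Φ, LinearMap.pi_apply, LinearMap.sum_apply]
  rw [this, Submodule.coe_sum]
  apply Finset.sum_congr rfl
  intro p _
  exact coe_T S A B x hmul N p g

theorem Φ_injective (hreg : ∀ a : R, (∀ j, a * x j = 0) → a = 0) (N : ℕ) :
    Function.Injective (Φ S A B x hmul N) := by
  rw [injective_iff_map_eq_zero]
  intro g hg
  have hf := poly_mem_nonZeroDivisors x hreg
  have hprod : polyOf x * polyOf (fun i => ((g i : A) : R)) = 0 := by
    ext l
    rw [Polynomial.coeff_zero]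
    by_cases hl : l < N + r
    · have := coe_Φ S A B x hmul N g ⟨l, hl⟩
      rw [hg] at this
      exact this.symm
    · exact coeff_mul_polyOf_eq_zero x _ l (by omega)
  have hG : polyOf (fun i => ((g i : A) : R)) = 0 :=
    (mul_left_mem_nonZeroDivisors_eq_zero_iff hf).mp hprod
  rw [polyOf_eq_zero_iff] at hG
  funext i
  apply Subtype.ext
  exact congrFun hG i

end SecGH2

-- ===== from GH3 =====
section SecGH3
variable {R : Type u} [CommRing R] (S : Subring R) (A B : Submodule S R) {r : ℕ} (x : Fin r → R)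
  (hmul : ∀ j, ∀ a ∈ A, x j * a ∈ B)

include hmul in
theorem finrank_le (hS : IsField S) (hB : Module.Finite S B)
    (hreg : ∀ a : R, (∀ j, a * x j = 0) → a = 0) :
    Module.finrank S A ≤ Module.finrank S B := by
  letI : Field S := hS.toField
  -- A is finite-dimensional
  have hA1 : Module.Finite S (Fin (0 + 1) → A) :=
    Module.Finite.of_injective (Φ S A B x hmul 0) (Φ_injective S A B x hmul hreg 0)
  have hA : Module.Finite S A :=
    Module.Finite.of_surjective (LinearMap.proj (0 : Fin (0 + 1)) : (Fin (0 + 1) → A) →ₗ[S] A)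
      (fun a => ⟨fun _ => a, rfl⟩)
  have key : ∀ N : ℕ, (N + 1) * Module.finrank S A ≤ (N + r) * Module.finrank S B := by
    intro N
    have h1 := LinearMap.finrank_le_finrank_of_injective (Φ_injective S A B x hmul hreg N)
    rw [Module.finrank_pi_fintype, Module.finrank_pi_fintype] at h1
    simpa using h1
  by_contra hlt
  have hlt' : Module.finrank S B + 1 ≤ Module.finrank S A := by omega
  set a := Module.finrank S A
  set b := Module.finrank S B
  have h2 := key (r * b)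
  have h3 : (r * b + 1) * (b + 1) ≤ (r * b + 1) * a := Nat.mul_le_mul_left _ hlt'
  have h4 : (r * b + 1) * (b + 1) ≤ (r * b + r) * b := le_trans h3 h2
  nlinarith [h4]

end SecGH3

-- ===== from GH4 =====
section SecGH4
variable {R : Type u} [CommRing R] (𝒜 : ℤ → AddSubgroup R) [GradedRing 𝒜]

/-- the degree `d` component -/
noncomputable def cp (d : ℤ) (a : R) : R := (decompose 𝒜 a d : R)

theorem cp_mem (d : ℤ) (a : R) : cp 𝒜 d a ∈ 𝒜 d := (decompose 𝒜 a d).2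

theorem cp_add (d : ℤ) (a b : R) : cp 𝒜 d (a + b) = cp 𝒜 d a + cp 𝒜 d b := by
  unfold cp
  rw [decompose_add, DirectSum.add_apply, AddSubgroup.coe_add]

theorem cp_zero (d : ℤ) : cp 𝒜 d 0 = 0 := by
  unfold cp
  rw [decompose_zero, DirectSum.zero_apply, AddSubgroup.coe_zero]

theorem cp_of_mem_same {d : ℤ} {a : R} (ha : a ∈ 𝒜 d) : cp 𝒜 d a = a :=
  decompose_of_mem_same 𝒜 ha

theorem cp_of_mem_ne {d e : ℤ} {a : R} (ha : a ∈ 𝒜 d) (h : d ≠ e) : cp 𝒜 e a = 0 :=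
  decompose_of_mem_ne 𝒜 ha h

theorem cp_mul_right {a b : R} {j : ℤ} (hb : b ∈ 𝒜 j) (i : ℤ) :
    cp 𝒜 (i + j) (a * b) = cp 𝒜 i a * b :=
  coe_decompose_mul_add_of_right_mem 𝒜 hb

theorem cp_sum {ι : Type*} (s : Finset ι) (f : ι → R) (d : ℤ) :
    cp 𝒜 d (∑ i ∈ s, f i) = ∑ i ∈ s, cp 𝒜 d (f i) := by
  classical
  induction s using Finset.induction_on with
  | empty => simp [cp_zero]
  | insert a s ha ih => rw [Finset.sum_insert ha, Finset.sum_insert ha, cp_add, ih]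

theorem sum_cp (a : R) : ∃ s : Finset ℤ, a = ∑ d ∈ s, cp 𝒜 d a := by
  classical
  exact ⟨(decompose 𝒜 a).support, (DirectSum.sum_support_decompose 𝒜 a).symm⟩

theorem eq_zero_of_forall_cp {a : R} (h : ∀ d, cp 𝒜 d a = 0) : a = 0 := by
  obtain ⟨s, hs⟩ := sum_cp 𝒜 a
  rw [hs]
  exact Finset.sum_eq_zero (fun d _ => h d)

variable (hpos : ∀ n : ℤ, n < 0 → 𝒜 n = ⊥)

include hpos in
theorem cp_neg {d : ℤ} (hd : d < 0) (a : R) : cp 𝒜 d a = 0 := by
  have := cp_mem 𝒜 d a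
  rw [hpos d hd] at this
  exact this

/-- the irrelevant ideal -/
def irr : Ideal R := Ideal.span ((𝒜 1 : AddSubgroup R) : Set R)

include hpos in
theorem cp_zero_of_mem_irr {a : R} (ha : a ∈ irr 𝒜) : cp 𝒜 0 a = 0 := by
  unfold irr at ha
  induction ha using Submodule.span_induction with
  | mem x hx =>
    exact cp_of_mem_ne 𝒜 hx (by norm_num)
  | zero => exact cp_zero 𝒜 0
  | add x y _ _ hx hy => rw [cp_add, hx, hy, add_zero]
  | smul c x hx _ =>
    obtain ⟨s, hs⟩ : ∃ s : Finset R, x ∈ Ideal.span ((s : Set R)) ∧ (s : Set R) ⊆ 𝒜 1 := by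
      obtain ⟨s, hs1, hs2⟩ := Submodule.mem_span_finite_of_mem_span hx
      exact ⟨s, hs2, hs1⟩
    -- reduce to generators
    have key : ∀ y ∈ Ideal.span ((𝒜 1 : AddSubgroup R) : Set R), ∀ c : R, cp 𝒜 0 (c * y) = 0 := by
      intro y hy
      induction hy using Submodule.span_induction with
      | mem z hz =>
        intro c
        have h1 : cp 𝒜 ((-1) + 1) (c * z) = cp 𝒜 (-1) c * z := cp_mul_right 𝒜 hz (-1)
        rw [cp_neg 𝒜 hpos (by norm_num) c, zero_mul] at h1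
        simpa using h1
      | zero => intro c; rw [mul_zero]; exact cp_zero 𝒜 0
      | add z w _ _ hz hw => intro c; rw [mul_add, cp_add, hz, hw, add_zero]
      | smul e z _ hz => intro c; rw [smul_eq_mul, ← mul_assoc]; exact hz (c * e)
    exact key x hx c

end SecGH4

-- ===== from GH5 =====
section SecGH5
variable {R : Type u} [CommRing R] (𝒜 : ℤ → AddSubgroup R) [GradedRing 𝒜]
  (hpos : ∀ n : ℤ, n < 0 → 𝒜 n = ⊥) (h0 : IsField (GrLC.deg0 𝒜))
  (hstd : Ideal.span (⋃ n ∈ Set.Ioi (0 : ℤ), (𝒜 n : Set R)) =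
    Ideal.span ((𝒜 1 : AddSubgroup R) : Set R))

include h0 in
theorem exists_inv {s : R} (hs : s ∈ 𝒜 0) (hs0 : s ≠ 0) : ∃ u ∈ 𝒜 0, u * s = 1 := by
  have hne : (⟨s, hs⟩ : GrLC.deg0 𝒜) ≠ 0 := fun h => hs0 (congrArg Subtype.val h)
  obtain ⟨b, hb⟩ := h0.mul_inv_cancel hne
  refine ⟨b.1, b.2, ?_⟩
  have := congrArg Subtype.val hb
  rw [mul_comm]
  exact this

include h0 in
theorem one_ne_zero' : (1 : R) ≠ 0 := by
  obtain ⟨x, y, hxy⟩ := h0.exists_pair_ne
  intro h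
  apply hxy
  apply Subtype.ext
  rw [← mul_one (x : R), ← mul_one (y : R), h, mul_zero, mul_zero]

include hstd in
theorem mem_irr_of_mem_pos {d : ℤ} (hd : 0 < d) {a : R} (ha : a ∈ 𝒜 d) : a ∈ irr 𝒜 := by
  unfold irr
  rw [← hstd]
  apply Ideal.subset_span
  simp only [Set.mem_iUnion, Set.mem_Ioi, SetLike.mem_coe, exists_prop]
  exact ⟨d, hd, ha⟩

include hpos hstd in
theorem mem_irr_iff (a : R) : a ∈ irr 𝒜 ↔ cp 𝒜 0 a = 0 := by
  constructor
  · exact cp_zero_of_mem_irr 𝒜 hpos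
  · intro h
    obtain ⟨s, hs⟩ := sum_cp 𝒜 a
    rw [hs]
    apply Ideal.sum_mem
    intro d _
    rcases lt_trichotomy d 0 with hd | hd | hd
    · rw [cp_neg 𝒜 hpos hd]; exact zero_mem _
    · rw [hd, h]; exact zero_mem _
    · exact mem_irr_of_mem_pos 𝒜 hstd hd (cp_mem 𝒜 d a)

include hpos hstd h0 in
theorem irr_ne_top : irr 𝒜 ≠ ⊤ := by
  intro h
  have h1 : (1 : R) ∈ irr 𝒜 := by rw [h]; trivial
  rw [mem_irr_iff 𝒜 hpos hstd] at h1
  have h2 : cp 𝒜 0 (1 : R) = 1 := cp_of_mem_same 𝒜 (SetLike.GradedOne.one_mem)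
  rw [h2] at h1
  exact one_ne_zero' 𝒜 h0 h1

include hpos hstd in
theorem sub_cp_zero_mem_irr (a : R) : a - cp 𝒜 0 a ∈ irr 𝒜 := by
  rw [mem_irr_iff 𝒜 hpos hstd]
  have : cp 𝒜 0 (a - cp 𝒜 0 a) + cp 𝒜 0 (cp 𝒜 0 a) = cp 𝒜 0 a := by
    rw [← cp_add, sub_add_cancel]
  rw [cp_of_mem_same 𝒜 (cp_mem 𝒜 0 a)] at this
  exact add_eq_right.mp this

include hpos hstd h0 in
/-- any ideal containing an element outside `irr` together with `irr` is the unit ideal -/
theorem one_mem_of_notMem_irr {J : Ideal R} (hJ : irr 𝒜 ≤ J) {a : R} (haJ : a ∈ J)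
    (ha : a ∉ irr 𝒜) : (1 : R) ∈ J := by
  have h1 : cp 𝒜 0 a ≠ 0 := fun h => ha ((mem_irr_iff 𝒜 hpos hstd a).mpr h)
  obtain ⟨u, _, hu⟩ := exists_inv 𝒜 h0 (cp_mem 𝒜 0 a) h1
  have h2 : cp 𝒜 0 a ∈ J := by
    have := J.sub_mem haJ (hJ (sub_cp_zero_mem_irr 𝒜 hpos hstd a))
    rwa [sub_sub_cancel] at this
  rw [← hu]
  exact J.mul_mem_left u h2

include hpos hstd h0 in
theorem irr_isMaximal : (irr 𝒜).IsMaximal := by
  rw [Ideal.isMaximal_iff]
  refine ⟨fun h => irr_ne_top 𝒜 hpos h0 hstd ((Ideal.eq_top_iff_one _).mpr h), ?_⟩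
  intro J x hJ hx hxJ
  exact one_mem_of_notMem_irr 𝒜 hpos h0 hstd hJ hxJ hx

include hpos hstd h0 in
/-- proper homogeneous ideals are contained in the irrelevant ideal -/
theorem le_irr_of_isHomogeneous {H : Ideal R} (hH : H.IsHomogeneous 𝒜) (hne : H ≠ ⊤) :
    H ≤ irr 𝒜 := by
  intro a ha
  rw [mem_irr_iff 𝒜 hpos hstd]
  by_contra h
  have h2 : cp 𝒜 0 a ∈ H := hH 0 ha
  obtain ⟨u, _, hu⟩ := exists_inv 𝒜 h0 (cp_mem 𝒜 0 a) h
  apply hne
  rw [Ideal.eq_top_iff_one, ← hu]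
  exact H.mul_mem_left u h2

include hpos hstd h0 in
theorem exists_prime_lt_irr (hdim : 1 ≤ ringKrullDim R) :
    ∃ q : Ideal R, q.IsPrime ∧ q < irr 𝒜 := by
  have hmax := irr_isMaximal 𝒜 hpos h0 hstd
  obtain ⟨x, y, hxy⟩ := Order.one_le_krullDim_iff.mp hdim
  let q := (x.asIdeal.homogeneousCore 𝒜).toIdeal
  have hq : q.IsPrime := Ideal.IsPrime.homogeneousCore x.2
  have hqx : q ≤ x.asIdeal := Ideal.toIdeal_homogeneousCore_le 𝒜 _
  have hqirr : q ≤ irr 𝒜 :=
    le_irr_of_isHomogeneous 𝒜 hpos h0 hstd (x.asIdeal.homogeneousCore 𝒜).isHomogeneous hq.ne_top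
  refine ⟨q, hq, lt_of_le_of_ne hqirr ?_⟩
  intro he
  have h1 : irr 𝒜 ≤ x.asIdeal := he ▸ hqx
  have h2 : irr 𝒜 = x.asIdeal := hmax.eq_of_le x.2.ne_top h1
  have h3 : x.asIdeal < y.asIdeal := hxy
  have h4 : irr 𝒜 = y.asIdeal := hmax.eq_of_le y.2.ne_top (h2 ▸ h3.le)
  rw [← h2, ← h4] at h3
  exact lt_irrefl _ h3

end SecGH5

-- ===== from GH6 =====
section SecGH6
/-- In a CM local ring of positive dimension there is a regular element in the maximal ideal. -/
theorem exists_regular_of_cm (A : Type u) [CommRing A] [LocCoh.IsCohenMacaulayLocalRing A]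
    (hdim : 1 ≤ ringKrullDim A) :
    ∃ r ∈ IsLocalRing.maximalIdeal A, IsSMulRegular A r := by
  have h1 := LocCoh.IsCohenMacaulayLocalRing.supportDim_eq_depth (R := A)
  rw [Module.supportDim_self_eq_ringKrullDim] at h1
  rw [h1] at hdim
  have hdim' : (1 : ℕ∞) ≤ LocCoh.depth A A := by exact_mod_cast hdim
  unfold LocCoh.depth LocCoh.idealDepth at hdim'
  have hne : ¬ (IsLocalRing.maximalIdeal A • (⊤ : Submodule A A) = ⊤) := by
    rw [Ideal.smul_top_eq_map]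
    intro h
    have h2 : (1 : A) ∈ (Submodule.restrictScalars A
      (Ideal.map (algebraMap A A) (IsLocalRing.maximalIdeal A))) := by rw [h]; trivial
    have h3 : (1 : A) ∈ Ideal.map (algebraMap A A) (IsLocalRing.maximalIdeal A) := h2
    rw [Algebra.algebraMap_self, Ideal.map_id] at h3
    exact (IsLocalRing.maximalIdeal.isMaximal A).ne_top ((Ideal.eq_top_iff_one _).mpr h3)
  rw [if_neg hne] at hdim'
  by_contra hcon
  have hle : (⨆ (rs : List A) (_ : RingTheory.Sequence.IsWeaklyRegular A rs ∧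
      ∀ r ∈ rs, r ∈ IsLocalRing.maximalIdeal A), (rs.length : ℕ∞)) ≤ 0 := by
    apply iSup₂_le
    intro rs hrs
    cases rs with
    | nil => simp
    | cons r rs' =>
      exfalso
      apply hcon
      refine ⟨r, hrs.2 r (List.mem_cons_self), ?_⟩
      exact ((RingTheory.Sequence.isWeaklyRegular_cons_iff A r rs').mp hrs.1).1
  have : (1 : ℕ∞) ≤ 0 := le_trans hdim' hle
  simp at this

variable {R : Type u} [CommRing R] (𝒜 : ℤ → AddSubgroup R) [GradedRing 𝒜]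
  (hpos : ∀ n : ℤ, n < 0 → 𝒜 n = ⊥) (h0 : IsField (GrLC.deg0 𝒜))
  (hstd : Ideal.span (⋃ n ∈ Set.Ioi (0 : ℤ), (𝒜 n : Set R)) =
    Ideal.span ((𝒜 1 : AddSubgroup R) : Set R))

include hpos h0 hstd in
/-- socle vanishing for homogeneous elements -/
theorem eq_zero_of_mul_irr_eq_zero_homog [LocCoh.IsCohenMacaulayRing R]
    (hdim : 1 ≤ ringKrullDim R) {d : ℤ} {y : R} (hy : y ∈ 𝒜 d)
    (hkill : ∀ t ∈ irr 𝒜, y * t = 0) : y = 0 := by
  haveI hmax := irr_isMaximal 𝒜 hpos h0 hstd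
  haveI hprime : (irr 𝒜).IsPrime := hmax.isPrime
  let A := Localization.AtPrime (irr 𝒜)
  haveI : LocCoh.IsCohenMacaulayLocalRing A :=
    LocCoh.IsCohenMacaulayRing.isCohenMacaulayLocalRing_localization (irr 𝒜)
  -- dimension of A
  obtain ⟨q, hq, hqlt⟩ := exists_prime_lt_irr 𝒜 hpos h0 hstd hdim
  have hht : 1 ≤ (irr 𝒜).height := by
    haveI := hq
    have := Ideal.height_add_one_le_of_lt_of_isPrime hqlt
    exact le_trans le_add_self this
  have hdimA : 1 ≤ ringKrullDim A := by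
    rw [IsLocalization.AtPrime.ringKrullDim_eq_height (irr 𝒜) A]
    exact_mod_cast hht
  obtain ⟨r, hr, hreg⟩ := exists_regular_of_cm A hdimA
  -- y kills the maximal ideal of A
  have hann : ∀ a ∈ IsLocalRing.maximalIdeal A, algebraMap R A y * a = 0 := by
    intro a ha
    rw [← Localization.AtPrime.map_eq_maximalIdeal] at ha
    unfold Ideal.map at ha
    induction ha using Submodule.span_induction with
    | mem z hz =>
      obtain ⟨t, ht, rfl⟩ := hz
      rw [← map_mul, hkill t ht, map_zero]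
    | zero => rw [mul_zero]
    | add z w _ _ hz hw => rw [mul_add, hz, hw, add_zero]
    | smul c z _ hz => rw [smul_eq_mul, mul_left_comm, hz, mul_zero]
  have hy0 : algebraMap R A y = 0 := by
    apply hreg
    show r • algebraMap R A y = r • 0
    rw [smul_zero, smul_eq_mul, mul_comm]
    exact hann r hr
  rw [IsLocalization.map_eq_zero_iff (irr 𝒜).primeCompl A] at hy0
  obtain ⟨s, hs⟩ := hy0
  -- degree argument
  have hs0 : cp 𝒜 0 (s : R) ≠ 0 := fun h => s.2 ((mem_irr_iff 𝒜 hpos hstd _).mpr h)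
  have h1 : cp 𝒜 (0 + d) ((s : R) * y) = cp 𝒜 0 (s : R) * y := cp_mul_right 𝒜 hy 0
  rw [hs, cp_zero] at h1
  obtain ⟨u, _, hu⟩ := exists_inv 𝒜 h0 (cp_mem 𝒜 0 (s : R)) hs0
  calc y = (u * cp 𝒜 0 (s : R)) * y := by rw [hu, one_mul]
    _ = u * (cp 𝒜 0 (s : R) * y) := by ring
    _ = 0 := by rw [← h1, mul_zero]

end SecGH6

-- ===== from GH7 =====
section SecGH7
variable {R : Type u} [CommRing R] (𝒜 : ℤ → AddSubgroup R) [GradedRing 𝒜]
  (hpos : ∀ n : ℤ, n < 0 → 𝒜 n = ⊥) (h0 : IsField (GrLC.deg0 𝒜))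
  (hstd : Ideal.span (⋃ n ∈ Set.Ioi (0 : ℤ), (𝒜 n : Set R)) =
    Ideal.span ((𝒜 1 : AddSubgroup R) : Set R))

theorem mem_comp_iff (n : ℤ) (a : R) : a ∈ GrLC.comp 𝒜 𝒜 n ↔ a ∈ 𝒜 n := Iff.rfl

/-- finitely many degree one generators of the irrelevant ideal -/
theorem exists_generators [IsNoetherianRing R] :
    ∃ (r : ℕ) (x : Fin r → R), (∀ j, x j ∈ 𝒜 1) ∧ Ideal.span (Set.range x) = irr 𝒜 := by
  have hfg : (irr 𝒜).FG := IsNoetherian.noetherian _
  unfold irr at hfg ⊢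
  obtain ⟨T, hT1, hT2⟩ := (Submodule.fg_span_iff_fg_span_finset_subset _).mp hfg
  refine ⟨T.card, fun j => ((T.equivFin.symm j : T) : R), fun j => hT1 (T.equivFin.symm j).2, ?_⟩
  have : Set.range (fun j => ((T.equivFin.symm j : T) : R)) = (T : Set R) := by
    ext z
    constructor
    · rintro ⟨j, rfl⟩
      exact (T.equivFin.symm j).2
    · intro hz
      exact ⟨T.equivFin ⟨z, hz⟩, by simp⟩
  rw [this]
  exact hT2.symm

variable {r : ℕ} (x : Fin r → R) (hx1 : ∀ j, x j ∈ 𝒜 1) (hxspan : Ideal.span (Set.range x) = irr 𝒜)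

include hx1 in
theorem mul_mem_comp (n : ℤ) (j : Fin r) (a : R) (ha : a ∈ GrLC.comp 𝒜 𝒜 n) :
    x j * a ∈ GrLC.comp 𝒜 𝒜 (n + 1) := by
  rw [mem_comp_iff] at ha ⊢
  have := SetLike.GradedMul.mul_mem (hx1 j) ha
  rwa [add_comm] at this

include hstd hx1 hxspan in
/-- every element of degree `n + 1` is a combination of the `x j` with coefficients of degree `n` -/
theorem exists_coeffs (n : ℤ) (hn : 0 ≤ n) (y : R) (hy : y ∈ 𝒜 (n + 1)) :
    ∃ c : Fin r → R, (∀ j, c j ∈ 𝒜 n) ∧ y = ∑ j, x j * c j := by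
  have hy' : y ∈ irr 𝒜 := mem_irr_of_mem_pos 𝒜 hstd (by omega) hy
  rw [← hxspan, Ideal.mem_span_range_iff_exists_fun] at hy'
  obtain ⟨c, hc⟩ := hy'
  refine ⟨fun j => cp 𝒜 n (c j), fun j => cp_mem 𝒜 n (c j), ?_⟩
  have h1 : cp 𝒜 (n + 1) y = y := cp_of_mem_same 𝒜 hy
  rw [← h1, ← hc, cp_sum]
  apply Finset.sum_congr rfl
  intro j _
  rw [cp_mul_right 𝒜 (hx1 j) n, mul_comm]

include hstd hx1 hxspan in
theorem finite_comp (k : ℕ) : Module.Finite (GrLC.deg0 𝒜) (GrLC.comp 𝒜 𝒜 (k : ℤ)) := by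
  induction k with
  | zero =>
    let f : (GrLC.deg0 𝒜) →ₗ[GrLC.deg0 𝒜] (GrLC.comp 𝒜 𝒜 ((0 : ℕ) : ℤ)) :=
      { toFun := fun s => ⟨(s : R), by
          rw [mem_comp_iff]
          exact s.2⟩
        map_add' := fun s t => rfl
        map_smul' := fun s t => rfl }
    refine Module.Finite.of_surjective f ?_
    rintro ⟨a, ha⟩
    exact ⟨⟨a, ha⟩, rfl⟩
  | succ k ih =>
    have e : ((k + 1 : ℕ) : ℤ) = (k : ℤ) + 1 := by push_cast; rfl
    rw [e]
    haveI := ih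
    let Ψ : (Fin r → GrLC.comp 𝒜 𝒜 (k : ℤ)) →ₗ[GrLC.deg0 𝒜] GrLC.comp 𝒜 𝒜 ((k : ℤ) + 1) :=
      ∑ j : Fin r, (μ (GrLC.deg0 𝒜) (GrLC.comp 𝒜 𝒜 (k : ℤ)) (GrLC.comp 𝒜 𝒜 ((k : ℤ) + 1)) x
        (mul_mem_comp 𝒜 x hx1 (k : ℤ)) j).comp (LinearMap.proj j)
    refine Module.Finite.of_surjective Ψ ?_
    rintro ⟨y, hy⟩
    obtain ⟨c, hc1, hc2⟩ := exists_coeffs 𝒜 hstd x hx1 hxspan (k : ℤ) (by omega) y hy
    refine ⟨fun j => ⟨c j, hc1 j⟩, ?_⟩
    apply Subtype.ext
    simp only [Ψ, LinearMap.sum_apply, LinearMap.comp_apply, LinearMap.proj_apply,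
      Submodule.coe_sum]
    rw [hc2]
    rfl

include hpos h0 hstd hx1 hxspan in
/-- socle vanishing -/
theorem eq_zero_of_forall_mul_eq_zero [LocCoh.IsCohenMacaulayRing R]
    (hdim : 1 ≤ ringKrullDim R) (a : R) (ha : ∀ j, a * x j = 0) : a = 0 := by
  apply eq_zero_of_forall_cp 𝒜
  intro d
  apply eq_zero_of_mul_irr_eq_zero_homog 𝒜 hpos h0 hstd hdim (cp_mem 𝒜 d a)
  intro t ht
  rw [← hxspan, Ideal.mem_span_range_iff_exists_fun] at ht
  obtain ⟨c, rfl⟩ := ht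
  rw [Finset.mul_sum]
  apply Finset.sum_eq_zero
  intro j _
  have h1 : cp 𝒜 (d + 1) (a * x j) = cp 𝒜 d a * x j := cp_mul_right 𝒜 (hx1 j) d
  rw [ha j, cp_zero] at h1
  rw [mul_left_comm, ← h1, mul_zero]

include hpos h0 hstd in
theorem main [LocCoh.IsCohenMacaulayRing R] (h1 : 1 ≤ ringKrullDim R) (n : ℤ) :
    Module.finrank (GrLC.deg0 𝒜) (GrLC.comp 𝒜 𝒜 n) ≤
      Module.finrank (GrLC.deg0 𝒜) (GrLC.comp 𝒜 𝒜 (n + 1)) := by
  by_cases hn : n < 0
  · have hsub : Subsingleton (GrLC.comp 𝒜 𝒜 n) := by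
      constructor
      rintro ⟨a, ha⟩ ⟨b, hb⟩
      have ha' : a ∈ 𝒜 n := ha
      have hb' : b ∈ 𝒜 n := hb
      rw [hpos n hn] at ha' hb'
      apply Subtype.ext
      show a = b
      rw [AddSubgroup.mem_bot.mp ha', AddSubgroup.mem_bot.mp hb']
    haveI : Nontrivial (GrLC.deg0 𝒜) := ⟨h0.exists_pair_ne⟩
    rw [Module.finrank_zero_of_subsingleton]
    exact Nat.zero_le _
  · obtain ⟨k, rfl⟩ : ∃ k : ℕ, n = (k : ℤ) := ⟨n.toNat, by omega⟩
    obtain ⟨r, x, hx1, hxspan⟩ := exists_generators 𝒜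
    have e : ((k + 1 : ℕ) : ℤ) = (k : ℤ) + 1 := by push_cast; rfl
    have hfin : Module.Finite (GrLC.deg0 𝒜) (GrLC.comp 𝒜 𝒜 ((k : ℤ) + 1)) := by
      have := finite_comp 𝒜 hstd x hx1 hxspan (k + 1)
      rwa [e] at this
    exact finrank_le (GrLC.deg0 𝒜) (GrLC.comp 𝒜 𝒜 (k : ℤ)) (GrLC.comp 𝒜 𝒜 ((k : ℤ) + 1)) x
      (mul_mem_comp 𝒜 x hx1 (k : ℤ)) h0 hfin
      (eq_zero_of_forall_mul_eq_zero 𝒜 hpos h0 hstd x hx1 hxspan h1)

end SecGH7


end Groth.Agent.Lib.H9HilbertMono
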