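import Mathlib
import Groth.Agent.Lib.Helper20FinHom

/-! Homomorphisms from a group scheme with connected fibres to an étale separated group scheme are trivial (S19288): clopen unit section argument (helper9). -/

set_option autoImplicit false
set_option linter.unusedVariables false
set_option linter.unusedSectionVars false
set_option linter.style.haveILetI false

open CategoryTheory CategoryTheory.Limits MonoidalCategory CartesianMonoidalCategory MonObj
  AlgebraicGeometry

universe u

namespace Groth.Agent.Lib.H9HomConnEt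

theorem main {S : Scheme.{u}} (P X : Over S)
    [GrpObj P] [GrpObj X]
    [Etale X.hom] [IsSeparated X.hom]
    (hP : ∀ s : S, ConnectedSpace ↥(P.hom.fiber s))
    (f : P ⟶ X) [IsMonHom f] : f = 1 := by
  let eX : S ⟶ X.left := (η[X] : 𝟙_ (Over S) ⟶ X).left
  let eP : S ⟶ P.left := (η[P] : 𝟙_ (Over S) ⟶ P).left
  have heX : eX ≫ X.hom = 𝟙 S := Over.w (η[X] : 𝟙_ (Over S) ⟶ X)
  have heP : eP ≫ P.hom = 𝟙 S := Over.w (η[P] : 𝟙_ (Over S) ⟶ P)
  have hePf : eP ≫ f.left = eX := by
    have := congrArg (fun q : 𝟙_ (Over S) ⟶ X => q.left) (IsMonHom.one_hom (f := f))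
    exact this
  haveI hopen : IsOpenImmersion eX :=
    Groth.Agent.Lib.Helper20.FinHom.isOpenImmersion_of_section X.hom eX heX
  haveI hclosed : IsClosedImmersion eX :=
    Groth.Agent.Lib.Helper20.FinHom.isClosedImmersion_of_section X.hom eX heX
  have hZ : IsClopen (Set.range eX) :=
    ⟨eX.isClosedEmbedding.isClosed_range, eX.isOpenEmbedding.isOpen_range⟩
  have hW : IsClopen (f.left ⁻¹' Set.range eX) := hZ.preimage f.left.continuous
  have hrange : Set.range f.left ⊆ Set.range eX := by
    rintro _ ⟨y, rfl⟩
    set s := P.hom y with hs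
    haveI := hP s
    have hpre : _root_.IsPreconnected (P.hom ⁻¹' {s}) := by
      rw [← Scheme.Hom.range_fiberι]
      exact isPreconnected_range (P.hom.fiberι s).continuous
    have hne : (P.hom ⁻¹' {s} ∩ f.left ⁻¹' Set.range eX).Nonempty := by
      refine ⟨eP s, ?_, ?_⟩
      · show P.hom (eP s) = s
        rw [← Scheme.Hom.comp_apply, heP]; rfl
      · show f.left (eP s) ∈ Set.range eX
        rw [← Scheme.Hom.comp_apply, hePf]; exact ⟨s, rfl⟩
    exact hpre.subset_isClopen hW hne (show y ∈ P.hom ⁻¹' {s} from rfl)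
  let g : P.left ⟶ S := IsOpenImmersion.lift eX f.left hrange
  have hg : g ≫ eX = f.left := IsOpenImmersion.lift_fac _ _ _
  have hg' : g = P.hom := by
    have h1 : f.left ≫ X.hom = P.hom := Over.w f
    rw [← h1, ← hg, Category.assoc, heX, Category.comp_id]
  apply Over.OverMorphism.ext
  rw [Hom.one_def, Over.comp_left, Over.toUnit_left, ← hg, hg']

end Groth.Agent.Lib.H9HomConnEt
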