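import Mathlib
import Groth.Prelude.Def_Coh
import Groth.Agent.Lib.Helper20ParaF4
import Groth.Agent.Lib.Helper20ZClos19
import Groth.Agent.Lib.Helper28FlatNormal
import Groth.Agent.Lib.Helper18OmLS4
import Groth.Agent.Lib.Helper23TensorUnit
import Groth.Agent.Lib.H6xQCohSAFT

set_option autoImplicit false
set_option linter.style.haveILetI false
universe u

namespace Groth.Agent.Lib.H9HomDualRestr

open CategoryTheory AlgebraicGeometry Opposite TopologicalSpace

/-- depth of the local rings of a normal Noetherian domain at primes of height ≥ 2 is ≥ 2. -/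
theorem two_le_depth_stalk (R : Type u) [CommRing R] [IsNoetherianRing R] [IsDomain R]
    [IsIntegrallyClosed R] (p : PrimeSpectrum R) (hp : (2 : ℕ∞) ≤ p.asIdeal.height) :
    (2 : ℕ∞) ≤ LocCoh.depth ((Spec (CommRingCat.of R)).presheaf.stalk p)
      ((Spec (CommRingCat.of R)).presheaf.stalk p) := by
  let k : Algebra R ((Spec (CommRingCat.of R)).presheaf.stalk p) :=
    StructureSheaf.stalkAlgebra R p
  haveI hloc : IsLocalization.AtPrime ((Spec (CommRingCat.of R)).presheaf.stalk p) p.asIdeal :=
    StructureSheaf.IsLocalization.to_stalk R p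
  haveI : IsNoetherianRing ((Spec (CommRingCat.of R)).presheaf.stalk p) :=
    IsLocalization.isNoetherianRing p.asIdeal.primeCompl _ inferInstance
  haveI : IsDomain ((Spec (CommRingCat.of R)).presheaf.stalk p) :=
    IsLocalization.isDomain_of_atPrime _ p.asIdeal
  haveI : IsIntegrallyClosed ((Spec (CommRingCat.of R)).presheaf.stalk p) :=
    isIntegrallyClosed_of_isLocalization _ p.asIdeal.primeCompl
      p.asIdeal.primeCompl_le_nonZeroDivisors
  have hht : (IsLocalRing.maximalIdeal ((Spec (CommRingCat.of R)).presheaf.stalk p)).height =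
      p.asIdeal.height := by
    have h1 := IsLocalization.AtPrime.ringKrullDim_eq_height p.asIdeal
      ((Spec (CommRingCat.of R)).presheaf.stalk p)
    rw [← IsLocalRing.maximalIdeal_height_eq_ringKrullDim] at h1
    exact_mod_cast h1
  have h2 := Groth.Agent.Lib.Helper28.min_two_height_le_depth_of_isIntegrallyClosed
    (F := (Spec (CommRingCat.of R)).presheaf.stalk p)
  rw [hht, min_eq_left hp] at h2
  exact h2

/-- **S17476**. -/
theorem main (R : Type u) [CommRing R] [IsNoetherianRing R]
    (M : ModuleCat.{u} (CommRingCat.of R)) (U : (Spec (CommRingCat.of R)).Opens) :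
    (Function.Injective ((Spec (CommRingCat.of R)).presheaf.map (homOfLE (le_top : U ≤ ⊤)).op) →
      Function.Injective (fun φ : AlgebraicGeometry.tilde M ⟶ Coh.structureModule (Spec (CommRingCat.of R)) =>
        (Scheme.Modules.restrictFunctor U.ι).map φ)) ∧
    (IsDomain R → IsIntegrallyClosed R → (∀ p : PrimeSpectrum R, p ∉ U → (2 : ℕ∞) ≤ p.asIdeal.height) →
      Function.Bijective (fun φ : AlgebraicGeometry.tilde M ⟶ Coh.structureModule (Spec (CommRingCat.of R)) =>
        (Scheme.Modules.restrictFunctor U.ι).map φ)) := by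
  constructor
  · intro hinj φ φ' h
    have hinj' : ∀ (W : (Spec (CommRingCat.of R)).Opens) (_ : W = U),
        Function.Injective ((Spec (CommRingCat.of R)).presheaf.map
          (homOfLE (le_top : W ≤ ⊤)).op) := by
      rintro W rfl
      exact hinj
    apply Groth.Agent.Helper18OmLS.tilde_hom_ext
    intro m
    apply hinj' (U.ι ''ᵁ ⊤) (Scheme.Opens.ι_image_top U)
    have key : ∀ ψ : AlgebraicGeometry.tilde M ⟶ Coh.structureModule (Spec (CommRingCat.of R)),
        ((Spec (CommRingCat.of R)).presheaf.map (homOfLE (le_top : U.ι ''ᵁ ⊤ ≤ ⊤)).op)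
          (ψ.app ⊤ ((tilde.toOpen M ⊤).hom m)) =
        ((Scheme.Modules.restrictFunctor U.ι).map ψ).app ⊤
          ((AlgebraicGeometry.tilde M).presheaf.map (homOfLE (le_top : U.ι ''ᵁ ⊤ ≤ ⊤)).op
            ((tilde.toOpen M ⊤).hom m)) := by
      intro ψ
      exact (Groth.Agent.Lib.H6xQCohSAFT.app_res ψ (le_top : U.ι ''ᵁ ⊤ ≤ ⊤) _).symm
    have h' : (Scheme.Modules.restrictFunctor U.ι).map φ =
        (Scheme.Modules.restrictFunctor U.ι).map φ' := h
    rw [key φ, key φ', h']
  · intro hdom hic hcodim
    haveI := hdom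
    haveI := hic
    let K : Closeds (Spec (CommRingCat.of R)) := ⟨(U : Set _)ᶜ, U.isOpen.isClosed_compl⟩
    have hK : K.compl = U := by
      ext x
      simp [K]
    have h := Groth.Agent.Lib.Helper20.ZClosLib.bijective_res_structureSheaf K
      (fun x hx => two_le_depth_stalk R x (hcodim x hx))
    rw [hK] at h
    exact Groth.Agent.Lib.Helper20.ParaFLib.bijective_restrict_map U h _ _
      (Groth.Agent.Lib.Helper23.TensorUnit.isInvertible_structureModule _)

end Groth.Agent.Lib.H9HomDualRestr
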