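import Mathlib

/-! mem_nhds_of_forall_generization (Noetherian quasi-sober space: a closed set containing all generizations of p is a neighbourhood of p), mem_nhds_of_forall_generization_scheme (locally Noetherian scheme version) (helper9). -/

set_option autoImplicit false
universe u

namespace Groth.Agent.Lib.H9Hspec1

open TopologicalSpace Topology AlgebraicGeometry

/-- In a Noetherian quasi-sober space, a closed set containing all generizations of a point is a
neighbourhood of that point. -/
theorem mem_nhds_of_forall_generization {T : Type*} [TopologicalSpace T] [NoetherianSpace T]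
    [QuasiSober T] (F : Set T) (hF : IsClosed F) (p₀ : T) (h : ∀ ξ, ξ ⤳ p₀ → ξ ∈ F) :
    F ∈ 𝓝 p₀ := by
  let 𝒞 : Set (Set T) := {Z | Z ∈ irreducibleComponents T ∧ p₀ ∉ Z}
  have h𝒞fin : 𝒞.Finite :=
    (NoetherianSpace.finite_irreducibleComponents (α := T)).subset fun Z hZ => hZ.1
  have hGc : IsClosed (⋃₀ 𝒞) := by
    rw [Set.sUnion_eq_biUnion]
    exact h𝒞fin.isClosed_biUnion fun Z hZ => isClosed_of_mem_irreducibleComponents Z hZ.1
  have hp₀ : p₀ ∈ (⋃₀ 𝒞)ᶜ := by
    rintro ⟨Z, hZ, hpZ⟩
    exact hZ.2 hpZ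
  refine Filter.mem_of_superset (hGc.isOpen_compl.mem_nhds hp₀) ?_
  intro y hy
  have hZ : irreducibleComponent y ∈ irreducibleComponents T :=
    irreducibleComponent_mem_irreducibleComponents y
  have hpZ : p₀ ∈ irreducibleComponent y := by
    by_contra hcon
    exact hy ⟨_, ⟨hZ, hcon⟩, mem_irreducibleComponent⟩
  obtain ⟨ζ, hζ⟩ := QuasiSober.sober (isIrreducible_irreducibleComponent (x := y))
    isClosed_irreducibleComponent
  have hζp : ζ ⤳ p₀ := by
    rw [specializes_iff_mem_closure, hζ.def]
    exact hpZ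
  have hsub : irreducibleComponent y ⊆ F := by
    rw [← hζ.def]
    exact hF.closure_subset_iff.mpr (Set.singleton_subset_iff.mpr (h ζ hζp))
  exact hsub mem_irreducibleComponent

/-- Scheme version: locally Noetherian suffices. -/
theorem mem_nhds_of_forall_generization_scheme {P : Scheme.{u}} [IsLocallyNoetherian P]
    (F : Set P) (hF : IsClosed F) (p₀ : P) (h : ∀ ξ, ξ ⤳ p₀ → ξ ∈ F) : F ∈ 𝓝 p₀ := by
  obtain ⟨_, ⟨W, hW, rfl⟩, hpW, -⟩ :=
    P.isBasis_affineOpens.exists_subset_of_mem_open (Set.mem_univ p₀) isOpen_univ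
  let W' : P.Opens := W
  haveI : IsNoetherianRing Γ(P, W') := IsLocallyNoetherian.component_noetherian ⟨W', hW⟩
  haveI : NoetherianSpace ↥W' := noetherianSpace_of_isAffineOpen W' hW
  haveI : QuasiSober ↥W' := W'.isOpenEmbedding'.quasiSober
  have key := mem_nhds_of_forall_generization (T := ↥W') (Subtype.val ⁻¹' F)
    (hF.preimage continuous_subtype_val) ⟨p₀, hpW⟩ (fun ξ hξ =>
      h ξ.1 (hξ.map continuous_subtype_val))
  exact Filter.mem_of_superset (W'.2.isOpenEmbedding_subtypeVal.isOpenMap.image_mem_nhds key)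
    (Set.image_preimage_subset _ _)

end Groth.Agent.Lib.H9Hspec1
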