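import Mathlib
import Groth.Agent.Lib.H9Hspec1

/-! exists_specializes_of_isQuotientMap (quotient map from a locally Noetherian scheme onto Spec of a DVR lifts the specialization generic ⤳ closed), eq_bot_of_ne_closedPoint (helper9). -/

set_option autoImplicit false
universe u

namespace Groth.Agent.Lib.H9Hspec2

open TopologicalSpace Topology AlgebraicGeometry CategoryTheory IsLocalRing
open Groth.Agent.Lib.H9Hspec1

/-- A quotient map from a locally Noetherian scheme onto the spectrum of a DVR lifts the
specialization of the generic point to the closed point. -/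
theorem exists_specializes_of_isQuotientMap {P : Scheme.{u}} [IsLocallyNoetherian P]
    (R : Type u) [CommRing R] [IsDomain R] [IsDiscreteValuationRing R]
    (q : P ⟶ Spec (CommRingCat.of R)) (hq : Topology.IsQuotientMap q) :
    ∃ ξ p₀ : P, ξ ⤳ p₀ ∧ q p₀ = closedPoint R ∧ q ξ ≠ closedPoint R := by
  by_contra hcon
  push Not at hcon
  let F : Set P := q ⁻¹' {closedPoint R}
  have hFc : IsClosed F := (isClosed_singleton_closedPoint R).preimage q.continuous
  have hFo : IsOpen F := by
    rw [isOpen_iff_mem_nhds]
    intro p₀ hp₀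
    exact mem_nhds_of_forall_generization_scheme F hFc p₀ fun ξ hξ => hcon ξ p₀ hξ hp₀
  have h1 : IsOpen ({closedPoint R} : Set (PrimeSpectrum R)) := hq.isOpen_preimage.mp hFo
  have h2 := (IsLocalRing.closed_point_mem_iff (R := R) (U := ⟨_, h1⟩)).mp rfl
  have h3 : (⟨⊥, Ideal.isPrime_bot⟩ : PrimeSpectrum R) ∈
      (⟨_, h1⟩ : TopologicalSpace.Opens (PrimeSpectrum R)) := by
    rw [h2]; trivial
  have h4 : (⟨⊥, Ideal.isPrime_bot⟩ : PrimeSpectrum R) = closedPoint R := h3
  have h5 := congrArg PrimeSpectrum.asIdeal h4
  exact IsDiscreteValuationRing.not_a_field R h5.symm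

/-- In the spectrum of a DVR, a point different from the closed point is the generic point. -/
theorem eq_bot_of_ne_closedPoint (R : Type u) [CommRing R] [IsDomain R]
    [IsDiscreteValuationRing R] (y : PrimeSpectrum R) (hy : y ≠ closedPoint R) :
    y.asIdeal = ⊥ := by
  by_contra hne
  apply hy
  apply PrimeSpectrum.ext
  exact IsLocalRing.eq_maximalIdeal (Ring.DimensionLEOne.maximalOfPrime hne y.isPrime)

end Groth.Agent.Lib.H9Hspec2
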