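import Mathlib
import Groth.Prelude.Def_SGA1
import Groth.Agent.Lib.H9Hspec2
import Groth.Agent.Lib.H9GenNd2
import Groth.Agent.Lib.Helper4RatExt2

/-! exists_lift_generization (S13731: for a universally submersive family over a locally Noetherian scheme every point x is E.f i u with u having a generization ξ mapping to a maximal point) (helper9). -/

set_option autoImplicit false
universe u

namespace Groth.Agent.Lib.H9Hspec3

open TopologicalSpace Topology AlgebraicGeometry CategoryTheory CategoryTheory.Limits IsLocalRing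
open Groth.Agent.Lib.H9Hspec1 Groth.Agent.Lib.H9Hspec2

theorem exists_lift_generization {X : Scheme.{u}} [IsLocallyNoetherian X]
    (E : PreZeroHypercover.{u} X) [∀ i, LocallyOfFiniteType (E.f i)]
    (hE : SGA1.UnivSubmersive (Sigma.desc E.f)) (x : X) :
    ∃ (i : E.I₀) (ξ u : E.X i), ξ ⤳ u ∧ E.f i u = x ∧
      closure {E.f i ξ} ∈ irreducibleComponents ↥X := by
  obtain ⟨η, hηx, hη⟩ := Groth.Agent.Lib.H9GenNd2.exists_generic_irreducibleComponent x
  have hcomp : closure {η} ∈ irreducibleComponents ↥X := by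
    rw [hη]
    exact irreducibleComponent_mem_irreducibleComponents x
  let g := Sigma.desc E.f
  have hgι : ∀ i, Sigma.ι E.X i ≫ g = E.f i := fun i => Sigma.ι_desc _ _
  have hpts : ∀ v : ↥(∐ E.X), ∃ (i : E.I₀) (u : E.X i), Sigma.ι E.X i u = v := by
    intro v
    obtain ⟨i, y, hy⟩ := (AlgebraicGeometry.sigmaOpenCover E.X).exists_eq v
    exact ⟨i, y, hy⟩
  by_cases hne : η = x
  · subst hne
    have hq : Topology.IsQuotientMap g := hE (𝟙 _) (𝟙 _) g IsPullback.of_id_snd
    obtain ⟨v, hv⟩ := hq.surjective η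
    obtain ⟨i, u, rfl⟩ := hpts v
    refine ⟨i, u, u, specializes_rfl, ?_, ?_⟩
    · rw [← hgι i, Scheme.Hom.comp_apply]; exact hv
    · have : E.f i u = η := by rw [← hgι i, Scheme.Hom.comp_apply]; exact hv
      rw [this]; exact hcomp
  · obtain ⟨R, _, _, _, uR, ub, hcl, hub, hgen⟩ :=
      Groth.Agent.Lib.Helper4.RatExt.exists_dvr_through (⊤ : X.Opens) (z := η) (x := x)
        trivial hηx hne
    let K := FractionRing R
    let y₀ : Spec (CommRingCat.of R) :=
      Spec.map (CommRingCat.ofHom (algebraMap R K)) (closedPoint K)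
    have hy₀ : uR y₀ = η := by
      have h : (ub ≫ (⊤ : X.Opens).ι) (closedPoint K) =
          (Spec.map (CommRingCat.ofHom (algebraMap R K)) ≫ uR) (closedPoint K) := by rw [hub]
      rw [Scheme.Hom.comp_apply, Scheme.Hom.comp_apply] at h
      rw [← hgen]
      exact h.symm
    have hy₀bot : y₀.asIdeal = ⊥ := by
      show Ideal.comap (algebraMap R K) (maximalIdeal K) = ⊥
      rw [IsLocalRing.maximalIdeal_eq_bot]
      exact Ideal.comap_bot_of_injective _ (IsFractionRing.injective R K)
    let q := pullback.snd g uR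
    let a := pullback.fst g uR
    have hq : Topology.IsQuotientMap q := hE a uR q (IsPullback.of_hasPullback g uR).flip
    haveI : LocallyOfFiniteType g := IsZariskiLocalAtSource.sigmaDesc fun i => inferInstance
    haveI : IsLocallyNoetherian (pullback g uR) := LocallyOfFiniteType.isLocallyNoetherian q
    obtain ⟨ξ', p₀, hsp, hp₀, hξ'⟩ := exists_specializes_of_isQuotientMap R q hq
    have hξ'y : q ξ' = y₀ := by
      apply PrimeSpectrum.ext
      rw [hy₀bot]
      exact eq_bot_of_ne_closedPoint R _ hξ'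
    obtain ⟨i, u, hu⟩ := hpts (a p₀)
    have hsp' : a ξ' ⤳ a p₀ := hsp.map a.continuous
    have hmem : a ξ' ∈ Set.range (Sigma.ι E.X i) :=
      hsp'.mem_open (Sigma.ι E.X i).isOpenEmbedding.isOpen_range ⟨u, hu⟩
    obtain ⟨ξ, hξ⟩ := hmem
    have hcond : ∀ p, g (a p) = uR (q p) := by
      intro p
      rw [← Scheme.Hom.comp_apply, ← Scheme.Hom.comp_apply, pullback.condition]
    refine ⟨i, ξ, u, ?_, ?_, ?_⟩
    · rw [← (Sigma.ι E.X i).isOpenEmbedding.isInducing.specializes_iff, hξ, hu]
      exact hsp'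
    · rw [← hgι i, Scheme.Hom.comp_apply, hu, hcond, hp₀, hcl]
    · have : E.f i ξ = η := by
        rw [← hgι i, Scheme.Hom.comp_apply, hξ, hcond, hξ'y, hy₀]
      rw [this]; exact hcomp

end Groth.Agent.Lib.H9Hspec3
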