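import Mathlib

set_option autoImplicit false
set_option linter.style.haveILetI false
set_option linter.unusedSectionVars false
universe u v w

namespace Groth.Agent.Lib.H9IdemCompl

-- ===== from IC1 =====
section SecIC1
open Polynomial

variable {A : Type*} [CommRing A] (t : A)

theorem mem_span_pow {a : A} {n : ℕ} : a ∈ (Ideal.span {t}) ^ n ↔ ∃ w, a = t ^ n * w := by
  rw [Ideal.span_singleton_pow, Ideal.mem_span_singleton']
  constructor
  · rintro ⟨w, hw⟩; exact ⟨w, by rw [← hw, mul_comm]⟩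
  · rintro ⟨w, hw⟩; exact ⟨w, by rw [hw, mul_comm]⟩

theorem rep (x : AdicCompletion (Ideal.span {t}) A) :
    ∃ f : ℕ → A, (∀ k n, k ≤ n → f n - f k ∈ (Ideal.span {t}) ^ k) ∧
      ∀ n, AdicCompletion.evalₐ (Ideal.span {t}) n x = Ideal.Quotient.mk ((Ideal.span {t}) ^ n) (f n) := by
  obtain ⟨f, rfl⟩ := AdicCompletion.mk_surjective (Ideal.span {t}) A x
  refine ⟨f.val, fun k n hkn => ?_, fun n => AdicCompletion.evalₐ_mk _ n f⟩
  have h := f.property hkn
  rw [SModEq.sub_mem] at h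
  have h2 : f.val n - f.val k ∈ (Ideal.span {t} ^ k • ⊤ : Ideal A) := by
    have := neg_mem h
    simpa using this
  simpa using h2

theorem isUnit_one_add [HenselianRing A (Ideal.span {t})] (r : A) : IsUnit (1 + t * r) := by
  have h : t ∈ Ideal.jacobson (⊥ : Ideal A) :=
    HenselianRing.jac (Ideal.subset_span (Set.mem_singleton t))
  have := Ideal.mem_jacobson_bot.mp h r
  rwa [add_comm] at this

theorem evalₐ_algebraMap (n : ℕ) (a : A) :
    AdicCompletion.evalₐ (Ideal.span {t}) n (algebraMap A (AdicCompletion (Ideal.span {t}) A) a) =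
      Ideal.Quotient.mk _ a :=
  (AdicCompletion.evalₐ (Ideal.span {t}) n).commutes a

theorem torsion_bound (N : ℕ) (hbd : ∀ a : A, (∃ m : ℕ, t ^ m * a = 0) → t ^ N * a = 0)
    (z : AdicCompletion (Ideal.span {t}) A) (m : ℕ)
    (hz : (algebraMap A (AdicCompletion (Ideal.span {t}) A) t) ^ m * z = 0) :
    (algebraMap A (AdicCompletion (Ideal.span {t}) A) t) ^ N * z = 0 := by
  obtain ⟨f, hf, hev⟩ := rep t z
  apply AdicCompletion.ext_evalₐ
  intro k
  rw [map_zero, map_mul, map_pow, evalₐ_algebraMap, hev, ← map_pow, ← map_mul,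
    Ideal.Quotient.eq_zero_iff_mem]
  have h1 := congrArg (AdicCompletion.evalₐ (Ideal.span {t}) (k + m)) hz
  rw [map_zero, map_mul, map_pow, evalₐ_algebraMap, hev, ← map_pow, ← map_mul,
    Ideal.Quotient.eq_zero_iff_mem] at h1
  obtain ⟨w, hw⟩ := (mem_span_pow t).mp h1
  have h2 : t ^ N * (f (k + m) - t ^ k * w) = 0 := by
    apply hbd
    refine ⟨m, ?_⟩
    rw [mul_sub, hw, pow_add]; ring
  have h3 : t ^ N * f k = t ^ k * (t ^ N * w) - t ^ N * (f (k + m) - f k) := by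
    linear_combination h2
  rw [h3]
  refine sub_mem ?_ (Ideal.mul_mem_left _ _ (hf k (k + m) (Nat.le_add_right k m)))
  exact (mem_span_pow t).mpr ⟨_, rfl⟩

theorem idem_lift {B : Type*} [CommRing B] (y s δ δ₁ u : B) (h1 : y * y - y = δ)
    (h2 : s - s * s = δ₁) (h3 : u = 1 + 4 * δ) (h4 : u * δ₁ = δ) :
    IsIdempotentElem (y + (1 - 2 * y) * s) := by
  unfold IsIdempotentElem
  linear_combination (1 - 4 * (s - s * s)) * h1 - (1 + 4 * δ) * h2 + δ₁ * h3 - h4

theorem idem_sub_cube {B : Type*} [CommRing B] (e e' : B) (he : IsIdempotentElem e)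
    (he' : IsIdempotentElem e') : (e - e') ^ 3 = e - e' := by
  have h1 := he.eq
  have h2 := he'.eq
  linear_combination (e + 1 - 3 * e') * h1 + (3 * e - e' - 1) * h2

/-- kill lemma -/
theorem kill [HenselianRing A (Ideal.span {t})] (p : ℕ)
    (D : AdicCompletion (Ideal.span {t}) A)
    (h0 : AdicCompletion.evalₐ (Ideal.span {t}) (p + 1) D = 0)
    (h3 : D ^ 3 = (algebraMap A (AdicCompletion (Ideal.span {t}) A) t) ^ (2 * p) * D) :
    (algebraMap A (AdicCompletion (Ideal.span {t}) A) t) ^ (2 * p) * D = 0 := by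
  obtain ⟨f, hf, hev⟩ := rep t D
  apply AdicCompletion.ext_evalₐ
  intro j
  rw [map_zero, map_mul, map_pow, evalₐ_algebraMap, hev, ← map_pow, ← map_mul,
    Ideal.Quotient.eq_zero_iff_mem]
  have hp1 : f (p + 1) ∈ (Ideal.span {t}) ^ (p + 1) := by
    rw [hev, Ideal.Quotient.eq_zero_iff_mem] at h0; exact h0
  have hJ : f (j + (p + 1)) ∈ (Ideal.span {t}) ^ (p + 1) := by
    have := hf (p + 1) (j + (p + 1)) (Nat.le_add_left _ _)
    have h := add_mem this hp1
    rwa [sub_add_cancel] at h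
  obtain ⟨w, hw⟩ := (mem_span_pow t).mp hJ
  have h4 := congrArg (AdicCompletion.evalₐ (Ideal.span {t}) (j + (p + 1))) h3
  rw [map_pow, map_mul, map_pow, evalₐ_algebraMap, hev, ← map_pow, ← map_pow, ← map_mul,
    ← sub_eq_zero, ← map_sub, Ideal.Quotient.eq_zero_iff_mem] at h4
  obtain ⟨c, hc⟩ := (mem_span_pow t).mp h4
  obtain ⟨v, hv⟩ := isUnit_one_add t (-(t * w * w))
  have h5 : t ^ (2 * p) * f (j + (p + 1)) = t ^ (j + (p + 1)) * (-c * ↑v⁻¹) := by
    have hv' : (v : A) * ↑v⁻¹ = 1 := v.mul_inv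
    have e1 : t ^ (2 * p) * f (j + (p + 1)) * (v : A) = - (t ^ (j + (p + 1)) * c) := by
      rw [← hc, hv, hw]; ring
    calc t ^ (2 * p) * f (j + (p + 1))
        = t ^ (2 * p) * f (j + (p + 1)) * ((v : A) * ↑v⁻¹) := by rw [hv', mul_one]
      _ = (t ^ (2 * p) * f (j + (p + 1)) * (v : A)) * ↑v⁻¹ := by ring
      _ = _ := by rw [e1]; ring
  have h6 : t ^ (2 * p) * f j =
      t ^ (2 * p) * f (j + (p + 1)) - t ^ (2 * p) * (f (j + (p + 1)) - f j) := by ring
  rw [h6]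
  refine sub_mem ?_ (Ideal.mul_mem_left _ _ (hf j _ (Nat.le_add_right _ _)))
  rw [h5, pow_add, mul_assoc]
  exact Ideal.mul_mem_right _ _ ((mem_span_pow t).mpr ⟨1, by ring⟩)

end SecIC1

-- ===== from IC2 =====
section SecIC2
open Polynomial

variable {A : Type*} [CommRing A] (t : A)

theorem hensel_root [HenselianRing A (Ideal.span {t})] (δ₁ : A) (hδ : δ₁ ∈ Ideal.span {t}) :
    ∃ s : A, s - s * s = δ₁ ∧ s ∈ Ideal.span {t} := by
  have hmon : (X ^ 2 - X + C δ₁ : A[X]).Monic := by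
    nontriviality A
    have : (X ^ 2 - X + C δ₁ : A[X]) = X ^ 2 + (-X + C δ₁) := by ring
    rw [this]
    apply Polynomial.monic_X_pow_add
    refine lt_of_le_of_lt (Polynomial.degree_add_le _ _) ?_
    rw [Polynomial.degree_neg, Polynomial.degree_X]
    refine max_lt (by norm_num) (lt_of_le_of_lt Polynomial.degree_C_le (by norm_num))
  obtain ⟨s, hs, hs0⟩ := HenselianRing.is_henselian (I := Ideal.span {t})
    (X ^ 2 - X + C δ₁ : A[X]) hmon 0 (by simpa using hδ) (by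
      simp only [derivative_add, derivative_sub, derivative_X_pow, derivative_X, derivative_C,
        eval_add, eval_sub, eval_mul, eval_pow, eval_X, eval_one, eval_zero]
      simp)
  refine ⟨s, ?_, by simpa using hs0⟩
  have : s ^ 2 - s + δ₁ = 0 := by simpa [IsRoot] using hs
  linear_combination (-1 : A) * this

end SecIC2

-- ===== from IC3 =====
section SecIC3
open Polynomial

variable {A : Type*} [CommRing A] (t : A)

set_option quotPrecheck false in
local notation "Ah" => AdicCompletion (Ideal.span {t}) A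

theorem exists_idem_aux [HenselianRing A (Ideal.span {t})] (N : ℕ)
    (hbd : ∀ a : A, (∃ m : ℕ, t ^ m * a = 0) → t ^ N * a = 0)
    {L Lh : Type*} [CommRing L] [CommRing Lh] [Algebra A L] [Algebra Ah Lh]
    [IsLocalization.Away t L] [IsLocalization.Away (algebraMap A Ah t) Lh]
    (φ : L →+* Lh) (hφ : ∀ a, φ (algebraMap A L a) = algebraMap Ah Lh (algebraMap A Ah a))
    (e : Lh) (he : IsIdempotentElem e) : ∃ e₀ : L, IsIdempotentElem e₀ ∧ φ e₀ = e := by
  obtain ⟨n₀, x₀, hx₀⟩ := IsLocalization.Away.surj (algebraMap A Ah t) e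
  set τ := algebraMap A Ah t with hτ
  set ι := algebraMap Ah Lh with hι
  have hιu : IsUnit (ι τ) := IsLocalization.Away.algebraMap_isUnit τ
  have h1 : ι (x₀ * x₀) = ι (τ ^ n₀ * x₀) := by
    rw [map_mul, map_mul, map_pow, ← hx₀]
    linear_combination (ι τ ^ n₀ * ι τ ^ n₀) * he.eq
  obtain ⟨k, hk⟩ := IsLocalization.Away.exists_of_eq τ h1
  have h2 : τ ^ N * (x₀ * x₀ - τ ^ n₀ * x₀) = 0 :=
    torsion_bound t N hbd _ k (by rw [mul_sub, hk, sub_self])
  obtain ⟨x, hx⟩ : ∃ x, x = τ ^ N * x₀ := ⟨_, rfl⟩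
  obtain ⟨n, hn⟩ : ∃ n, n = n₀ + N := ⟨_, rfl⟩
  have hxx : x * x = τ ^ n * x := by
    rw [hx, hn, pow_add]; linear_combination (τ ^ N) * h2
  have hex : e * ι τ ^ n = ι x := by
    rw [hx, hn, map_mul, map_pow, pow_add, ← mul_assoc, hx₀]; ring
  -- approximate
  obtain ⟨p, hp⟩ : ∃ p, p = n + N := ⟨_, rfl⟩
  obtain ⟨f, hf, hev⟩ := rep t x
  obtain ⟨M, hM⟩ : ∃ M, M = 2 * n + (p + 1) := ⟨_, rfl⟩
  obtain ⟨a, ha⟩ : ∃ a, a = f M := ⟨_, rfl⟩
  have hτev : ∀ j, AdicCompletion.evalₐ (Ideal.span {t}) j τ = Ideal.Quotient.mk _ t :=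
    fun j => evalₐ_algebraMap t j t
  have h3 : a * a - t ^ n * a ∈ (Ideal.span {t}) ^ M := by
    have := congrArg (AdicCompletion.evalₐ (Ideal.span {t}) M) hxx
    rw [map_mul, map_mul, map_pow, hτev, hev, ← map_pow, ← map_mul, ← map_mul, ← sub_eq_zero,
      ← map_sub, Ideal.Quotient.eq_zero_iff_mem] at this
    rw [ha]; exact this
  obtain ⟨b, hb⟩ := (mem_span_pow t).mp h3
  obtain ⟨δ₀, hδ₀⟩ : ∃ δ₀, δ₀ = t ^ (p + 1) * b := ⟨_, rfl⟩
  have hb' : a * a - t ^ n * a = t ^ n * t ^ n * δ₀ := by rw [hb, hδ₀, hM]; ring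
  obtain ⟨u, hu⟩ := isUnit_one_add t (4 * t ^ p * b)
  have hu' : (u : A) = 1 + 4 * δ₀ := by rw [hu, hδ₀]; ring
  obtain ⟨δ₁, hδ₁⟩ : ∃ δ₁, δ₁ = δ₀ * ↑u⁻¹ := ⟨_, rfl⟩
  have huδ : (u : A) * δ₁ = δ₀ := by
    rw [hδ₁, mul_comm δ₀, ← mul_assoc, Units.mul_inv, one_mul]
  have hδ₁mem : δ₁ ∈ Ideal.span {t} := by
    rw [hδ₁, hδ₀, pow_succ]
    exact Ideal.mul_mem_right _ _ (Ideal.mul_mem_right _ _
      (Ideal.mul_mem_left _ _ (Ideal.subset_span rfl)))
  obtain ⟨s, hs, hsmem⟩ := hensel_root t δ₁ hδ₁mem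
  obtain ⟨s₁, hs₁⟩ := Ideal.mem_span_singleton'.mp hsmem
  obtain ⟨v, hv⟩ := isUnit_one_add t (-s₁)
  have hv' : (v : A) = 1 - s := by rw [hv, ← hs₁]; ring
  obtain ⟨c, hc⟩ : ∃ c, s = t ^ (p + 1) * c := by
    refine ⟨b * ↑u⁻¹ * ↑v⁻¹, ?_⟩
    have h : s * (v : A) = δ₁ := by rw [hv']; linear_combination hs
    calc s = s * ((v : A) * ↑v⁻¹) := by rw [Units.mul_inv, mul_one]
      _ = (s * (v : A)) * ↑v⁻¹ := by ring
      _ = _ := by rw [h, hδ₁, hδ₀]; ring
  -- in L
  set g := algebraMap A L with hg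
  obtain ⟨w, hw⟩ := (IsLocalization.Away.algebraMap_isUnit (S := L) t).exists_right_inv
  obtain ⟨T, hT⟩ : ∃ T, T = g t ^ n := ⟨_, rfl⟩
  obtain ⟨W, hW⟩ : ∃ W, W = w ^ n := ⟨_, rfl⟩
  have hTW : T * W = 1 := by rw [hT, hW, ← mul_pow, hw, one_pow]
  obtain ⟨y, hy⟩ : ∃ y, y = g a * W := ⟨_, rfl⟩
  have hgb : g a * g a - T * g a = T * T * g δ₀ := by
    have := congrArg g hb'
    rw [map_sub, map_mul, map_mul, map_mul, map_mul, map_pow] at this
    rw [hT]; exact this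
  have hy1 : y * y - y = g δ₀ := by
    rw [hy]; linear_combination (W * W) * hgb + (g a * W + g δ₀ * (T * W + 1)) * hTW
  have hidem : IsIdempotentElem (y + (1 - 2 * y) * g s) :=
    idem_lift y (g s) (g δ₀) (g δ₁) (g u) hy1 (by rw [← map_mul, ← map_sub, hs])
      (by rw [hu', map_add, map_one, map_mul, map_ofNat]) (by rw [← map_mul, huδ])
  refine ⟨_, hidem, ?_⟩
  -- image
  have hφw : ι τ * φ w = 1 := by
    have := congrArg φ hw
    rwa [map_mul, map_one, hφ] at this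
  obtain ⟨T', hT'⟩ : ∃ T', T' = ι τ ^ n := ⟨_, rfl⟩
  obtain ⟨W', hW'⟩ : ∃ W', W' = φ w ^ n := ⟨_, rfl⟩
  have hTW' : T' * W' = 1 := by rw [hT', hW', ← mul_pow, hφw, one_pow]
  have hex' : e * T' = ι x := by rw [hT']; exact hex
  have hφe : φ (y + (1 - 2 * y) * g s) =
      ι (algebraMap A Ah a) * W' + (1 - 2 * (ι (algebraMap A Ah a) * W')) *
        ι (algebraMap A Ah s) := by
    rw [hy, hW]
    simp only [map_add, map_mul, map_sub, map_one, map_pow, hφ, map_ofNat, hW']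
  have hE_idem : IsIdempotentElem (φ (y + (1 - 2 * y) * g s)) := hidem.map φ
  obtain ⟨E, hE⟩ : ∃ E, E = φ (y + (1 - 2 * y) * g s) := ⟨_, rfl⟩
  rw [← hE] at hφe hE_idem ⊢
  obtain ⟨D, hD⟩ : ∃ D : Ah, D = x - algebraMap A Ah a -
      (τ ^ n - 2 * algebraMap A Ah a) * algebraMap A Ah s := ⟨_, rfl⟩
  have hTd : T' * (e - E) = ι D := by
    rw [hD, hφe]
    simp only [map_sub, map_mul, map_pow, map_ofNat]
    rw [← hT']
    linear_combination hex' + (2 * ι (algebraMap A Ah a) * ι (algebraMap A Ah s) -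
      ι (algebraMap A Ah a)) * hTW'
  have hd3 : (e - E) ^ 3 = e - E := idem_sub_cube e E he hE_idem
  have hD3 : ι (D ^ 3) = ι (τ ^ (2 * n) * D) := by
    rw [map_pow, map_mul, map_pow, pow_mul', ← hT', ← hTd, mul_pow, hd3]; ring
  obtain ⟨k', hk'⟩ := IsLocalization.Away.exists_of_eq τ hD3
  have h4 : τ ^ N * (D ^ 3 - τ ^ (2 * n) * D) = 0 :=
    torsion_bound t N hbd _ k' (by rw [mul_sub, hk', sub_self])
  have h5 : (τ ^ N * D) ^ 3 = τ ^ (2 * p) * (τ ^ N * D) := by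
    rw [hp]; linear_combination (τ ^ N * τ ^ N) * h4
  have h6 : AdicCompletion.evalₐ (Ideal.span {t}) (p + 1) (τ ^ N * D) = 0 := by
    have e1 : AdicCompletion.evalₐ (Ideal.span {t}) (p + 1) x = Ideal.Quotient.mk _ a := by
      rw [hev, ha, Ideal.Quotient.eq, ← neg_sub]
      exact neg_mem (hf (p + 1) M (by omega))
    have e2 : AdicCompletion.evalₐ (Ideal.span {t}) (p + 1) (algebraMap A Ah s) = 0 := by
      rw [evalₐ_algebraMap, Ideal.Quotient.eq_zero_iff_mem, hc]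
      exact (mem_span_pow t).mpr ⟨c, rfl⟩
    rw [map_mul, hD, map_sub, map_sub, map_mul, e1, e2, evalₐ_algebraMap, mul_zero, sub_self,
      sub_zero, mul_zero]
  have h7 := kill t p _ h6 h5
  have h8 : ι D = 0 := by
    have := congrArg ι h7
    rw [map_mul, map_mul, map_pow, map_pow, map_zero, ← mul_assoc] at this
    have hu : IsUnit (ι τ ^ (2 * p) * ι τ ^ N) := (hιu.pow _).mul (hιu.pow _)
    exact (hu.mul_right_eq_zero).mp this
  have h9 : T' * (e - E) = 0 := by rw [hTd, h8]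
  have hT'u : IsUnit T' := by rw [hT']; exact hιu.pow _
  have := (hT'u.mul_right_eq_zero).mp h9
  exact (sub_eq_zero.mp this).symm

end SecIC3

-- ===== from IC4 =====
section SecIC4
open Polynomial

variable {A : Type*} [CommRing A] (t : A)

set_option quotPrecheck false in
local notation "Ah" => AdicCompletion (Ideal.span {t}) A

theorem idem_unique_aux [HenselianRing A (Ideal.span {t})]
    {L Lh : Type*} [CommRing L] [CommRing Lh] [Algebra A L] [Algebra Ah Lh]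
    [IsLocalization.Away t L] [IsLocalization.Away (algebraMap A Ah t) Lh]
    (φ : L →+* Lh) (hφ : ∀ a, φ (algebraMap A L a) = algebraMap Ah Lh (algebraMap A Ah a))
    (e₁ e₂ : L) (h₁ : IsIdempotentElem e₁) (h₂ : IsIdempotentElem e₂) (h : φ e₁ = φ e₂) :
    e₁ = e₂ := by
  have hd3 : (e₁ - e₂) ^ 3 = e₁ - e₂ := idem_sub_cube e₁ e₂ h₁ h₂
  have hφd : φ (e₁ - e₂) = 0 := by rw [map_sub, h, sub_self]
  obtain ⟨d, hd⟩ : ∃ d, d = e₁ - e₂ := ⟨_, rfl⟩
  rw [← hd] at hd3 hφd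
  obtain ⟨n, a, ha⟩ := IsLocalization.Away.surj t d
  set g := algebraMap A L with hg
  set τ := algebraMap A Ah t with hτ
  set ι := algebraMap Ah Lh with hι
  have hgu : IsUnit (g t) := IsLocalization.Away.algebraMap_isUnit t
  have h1 : ι (algebraMap A Ah a) = ι 0 := by
    rw [← hφ, ← ha, map_mul, hφd, zero_mul, map_zero]
  obtain ⟨k, hk⟩ := IsLocalization.Away.exists_of_eq τ h1
  rw [mul_zero] at hk
  have h2 : t ^ k * a ∈ (Ideal.span {t}) ^ (n + k + 1) := by
    have := congrArg (AdicCompletion.evalₐ (Ideal.span {t}) (n + k + 1)) hk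
    rw [map_mul, map_pow, evalₐ_algebraMap, evalₐ_algebraMap, map_zero, ← map_pow, ← map_mul,
      Ideal.Quotient.eq_zero_iff_mem] at this
    exact this
  obtain ⟨a', ha'⟩ := (mem_span_pow t).mp h2
  have h3 : d = g (t * a') := by
    have hu : IsUnit (g t ^ (n + k)) := hgu.pow _
    apply hu.mul_right_cancel
    have : d * g t ^ (n + k) = g (t ^ k * a) := by
      rw [pow_add, ← mul_assoc, ha, map_mul, map_pow]; ring
    rw [this, ha', map_mul, map_mul, map_pow]; ring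
  obtain ⟨v, hv⟩ := isUnit_one_add t (-(a' * t * a'))
  have h4 : d * g (v : A) = 0 := by
    rw [hv, h3, ← map_mul]
    have : t * a' * (1 + t * -(a' * t * a')) = t * a' - (t * a') ^ 3 := by ring
    rw [this, map_sub, map_pow, ← h3, hd3, sub_self]
  have hvu : IsUnit (g (v : A)) := (v.isUnit).map g
  have h5 : d = 0 := (hvu.mul_left_eq_zero).mp h4
  rw [hd] at h5
  exact sub_eq_zero.mp h5

theorem main (A : Type*) [CommRing A] (t : A) [HenselianRing A (Ideal.span {t})]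
    (hbd : ∃ N : ℕ, ∀ a : A, (∃ m : ℕ, t ^ m * a = 0) → t ^ N * a = 0)
    (e : Localization.Away (algebraMap A (AdicCompletion (Ideal.span {t}) A) t))
    (he : IsIdempotentElem e) :
    ∃! e₀ : Localization.Away t, IsIdempotentElem e₀ ∧
      Localization.awayMap (algebraMap A (AdicCompletion (Ideal.span {t}) A)) t e₀ = e := by
  obtain ⟨N, hN⟩ := hbd
  have hφ : ∀ a, Localization.awayMap (algebraMap A (AdicCompletion (Ideal.span {t}) A)) t
      (algebraMap A (Localization.Away t) a) =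
      algebraMap (AdicCompletion (Ideal.span {t}) A) _
        (algebraMap A (AdicCompletion (Ideal.span {t}) A) a) := fun a =>
    IsLocalization.map_eq _ a
  obtain ⟨e₀, h1, h2⟩ := exists_idem_aux t N hN
    (Localization.awayMap (algebraMap A (AdicCompletion (Ideal.span {t}) A)) t) hφ e he
  refine ⟨e₀, ⟨h1, h2⟩, fun e₁ ⟨h1', h2'⟩ => ?_⟩
  exact idem_unique_aux t _ hφ e₁ e₀ h1' h1 (h2'.trans h2.symm)

end SecIC4


end Groth.Agent.Lib.H9IdemCompl
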