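import Mathlib

/-! helper9: dictionary between morphisms `Spec R ⟶ X` landing in an affine open `U`
and ring homomorphisms `Γ(X, U) ⟶ R`. -/
set_option autoImplicit false

universe u
open CategoryTheory CategoryTheory.Limits AlgebraicGeometry

namespace Groth.Agent.Lib.H9InfPtA

variable {X Y : Scheme.{u}} {R R' : CommRingCat.{u}}

lemma le_preimage_of_range_subset (f : Spec R ⟶ X) (U : X.Opens)
    (hf : Set.range f ⊆ (U : Set X)) : (⊤ : (Spec R).Opens) ≤ f ⁻¹ᵁ U := by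
  intro p _
  exact hf ⟨p, rfl⟩

/-- the ring homomorphism attached to a morphism `Spec R ⟶ X` landing in `U`. -/
noncomputable def toHom (f : Spec R ⟶ X) (U : X.Opens) (hf : Set.range f ⊆ (U : Set X)) :
    Γ(X, U) ⟶ R :=
  f.appLE U ⊤ (le_preimage_of_range_subset f U hf) ≫ (Scheme.ΓSpecIso R).hom

/-- the morphism attached to a ring homomorphism. -/
noncomputable def ofHom {U : X.Opens} (hU : IsAffineOpen U) (φ : Γ(X, U) ⟶ R) : Spec R ⟶ X :=
  Spec.map φ ≫ hU.fromSpec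

lemma range_ofHom {U : X.Opens} (hU : IsAffineOpen U) (φ : Γ(X, U) ⟶ R) :
    Set.range (ofHom hU φ) ⊆ (U : Set X) := by
  rintro _ ⟨p, rfl⟩
  have h := hU.range_fromSpec
  have : hU.fromSpec ((Spec.map φ) p) ∈ Set.range hU.fromSpec := ⟨_, rfl⟩
  rw [h] at this
  simpa [ofHom] using this

lemma ofHom_toHom {U : X.Opens} (hU : IsAffineOpen U) (f : Spec R ⟶ X)
    (hf : Set.range f ⊆ (U : Set X)) : ofHom hU (toHom f U hf) = f := by
  unfold ofHom toHom
  rw [Spec.map_comp, Category.assoc,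
    IsAffineOpen.SpecMap_appLE_fromSpec f hU (isAffineOpen_top (Spec R)),
    IsAffineOpen.fromSpec_top, Scheme.isoSpec_Spec_inv, ← Spec.map_comp_assoc,
    Iso.inv_hom_id, Spec.map_id, Category.id_comp]

lemma toHom_injective {U : X.Opens} (hU : IsAffineOpen U) (f g : Spec R ⟶ X)
    (hf : Set.range f ⊆ (U : Set X)) (hg : Set.range g ⊆ (U : Set X))
    (h : toHom f U hf = toHom g U hg) : f = g := by
  rw [← ofHom_toHom hU f hf, ← ofHom_toHom hU g hg, h]

lemma toHom_comp (f : Spec R ⟶ X) (g : X ⟶ Y) (U : X.Opens) (V : Y.Opens)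
    (hf : Set.range f ⊆ (U : Set X)) (hUV : U ≤ g ⁻¹ᵁ V)
    (hfg : Set.range (f ≫ g) ⊆ (V : Set Y)) :
    toHom (f ≫ g) V hfg = g.appLE V U hUV ≫ toHom f U hf := by
  unfold toHom
  rw [← Category.assoc, Scheme.Hom.appLE_comp_appLE]

lemma presheaf_map_eq {O : Type*} [Preorder O] {C : Type*} [Category C] (F : Oᵒᵖ ⥤ C)
    (a b : Oᵒᵖ) (h : a = b) (m : a ⟶ b) :
    F.map m = eqToHom (by rw [h]) := by
  subst h
  have : m = 𝟙 _ := Subsingleton.elim _ _
  rw [this]; simp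

lemma appLE_top_top (ψ : R ⟶ R') (e : (⊤ : (Spec R').Opens) ≤ Spec.map ψ ⁻¹ᵁ ⊤) :
    (Spec.map ψ).appLE ⊤ ⊤ e ≫ (Scheme.ΓSpecIso R').hom = (Scheme.ΓSpecIso R).hom ≫ ψ := by
  have h : (Spec.map ψ).appLE ⊤ ⊤ e = (Spec.map ψ).appTop := by simp [Scheme.Hom.appLE]
  rw [h]
  exact Scheme.ΓSpecIso_naturality ψ

lemma toHom_precomp (ψ : R ⟶ R') (f : Spec R ⟶ X) (U : X.Opens)
    (hf : Set.range f ⊆ (U : Set X)) (hψ : Set.range (Spec.map ψ ≫ f) ⊆ (U : Set X)) :
    toHom (Spec.map ψ ≫ f) U hψ = toHom f U hf ≫ ψ := by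
  unfold toHom
  rw [← Scheme.Hom.appLE_comp_appLE (Spec.map ψ) f U ⊤ ⊤
    (le_preimage_of_range_subset f U hf) (by intro p _; trivial), Category.assoc, Category.assoc]
  congr 1
  exact appLE_top_top ψ _

lemma toHom_ofHom {U : X.Opens} (hU : IsAffineOpen U) (φ : Γ(X, U) ⟶ R) :
    toHom (ofHom hU φ) U (range_ofHom hU φ) = φ := by
  have h1 : Set.range hU.fromSpec ⊆ (U : Set X) := by rw [hU.range_fromSpec]
  have h2 := toHom_precomp φ hU.fromSpec U h1 (range_ofHom hU φ)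
  have h3 : toHom hU.fromSpec U h1 = 𝟙 _ := by
    unfold toHom
    rw [Scheme.Hom.appLE, hU.fromSpec_app_self]
    simp only [Category.assoc]
    rw [← Functor.map_comp_assoc]
    rw [presheaf_map_eq _ _ _ rfl, eqToHom_refl, Category.id_comp, Iso.inv_hom_id]
  unfold ofHom
  rw [h2, h3, Category.id_comp]

end Groth.Agent.Lib.H9InfPtA
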