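import Mathlib

/-! helper9: ring homomorphisms `B →+* R` congruent to a fixed one `ε` modulo a square-zero
ideal `I` form a module-like structure (they are `ε +` derivations). -/
set_option autoImplicit false

namespace Groth.Agent.Lib.H9InfPtB

variable {B R : Type*} [CommRing B] [CommRing R] (I : Ideal R) (hI : I ^ 2 = ⊥) (ε : B →+* R)

/-- `χ` is congruent to `ε` modulo `I`. -/
def IsNear (χ : B →+* R) : Prop := ∀ b, χ b - ε b ∈ I

include hI in
lemma mul_eq_zero_of_mem {u v : R} (hu : u ∈ I) (hv : v ∈ I) : u * v = 0 := by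
  have : u * v ∈ I ^ 2 := by rw [pow_two]; exact Ideal.mul_mem_mul hu hv
  rw [hI] at this
  exact this

lemma isNear_self : IsNear I ε ε := fun b => by simp

/-- `χ₁ + χ₂ - ε` -/
def addNear (χ₁ χ₂ : B →+* R) (h₁ : IsNear I ε χ₁) (h₂ : IsNear I ε χ₂) : B →+* R where
  toFun b := χ₁ b + χ₂ b - ε b
  map_one' := by simp
  map_zero' := by simp
  map_add' a b := by simp only [map_add]; ring
  map_mul' a b := by
    have e11 := mul_eq_zero_of_mem I hI (h₁ a) (h₁ b)
    have e12 := mul_eq_zero_of_mem I hI (h₁ a) (h₂ b)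
    have e21 := mul_eq_zero_of_mem I hI (h₂ a) (h₁ b)
    have e22 := mul_eq_zero_of_mem I hI (h₂ a) (h₂ b)
    simp only [map_mul]
    linear_combination (-1 : R) * e12 - e21

lemma addNear_apply (χ₁ χ₂ : B →+* R) (h₁ : IsNear I ε χ₁) (h₂ : IsNear I ε χ₂) (b : B) :
    addNear I hI ε χ₁ χ₂ h₁ h₂ b = χ₁ b + χ₂ b - ε b := rfl

lemma isNear_addNear (χ₁ χ₂ : B →+* R) (h₁ : IsNear I ε χ₁) (h₂ : IsNear I ε χ₂) :
    IsNear I ε (addNear I hI ε χ₁ χ₂ h₁ h₂) := by
  intro b
  rw [addNear_apply]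
  have : χ₁ b + χ₂ b - ε b - ε b = (χ₁ b - ε b) + (χ₂ b - ε b) := by ring
  rw [this]
  exact I.add_mem (h₁ b) (h₂ b)

/-- `ε + r (χ - ε)` -/
def smulNear (r : R) (χ : B →+* R) (h : IsNear I ε χ) : B →+* R where
  toFun b := ε b + r * (χ b - ε b)
  map_one' := by simp
  map_zero' := by simp
  map_add' a b := by simp only [map_add]; ring
  map_mul' a b := by
    have e := mul_eq_zero_of_mem I hI (h a) (h b)
    simp only [map_mul]
    linear_combination (r - r * r) * e

lemma smulNear_apply (r : R) (χ : B →+* R) (h : IsNear I ε χ) (b : B) :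
    smulNear I hI ε r χ h b = ε b + r * (χ b - ε b) := rfl

lemma isNear_smulNear (r : R) (χ : B →+* R) (h : IsNear I ε χ) :
    IsNear I ε (smulNear I hI ε r χ h) := by
  intro b
  rw [smulNear_apply]
  have : ε b + r * (χ b - ε b) - ε b = r * (χ b - ε b) := by ring
  rw [this]
  exact I.mul_mem_left r (h b)

end Groth.Agent.Lib.H9InfPtB
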