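import Mathlib
import Groth.Agent.Lib.H9InfPtA
import Groth.Agent.Lib.H9InfPtB

/-! helper9: infinitesimal points of schemes over an affine base: `T = Spec R`, `T₀ = Spec R/I`
with `I² = 0`; points of `X` over `S = Spec R₀` which restrict on `T₀` to a constant point. -/
set_option autoImplicit false

universe u
open CategoryTheory CategoryTheory.Limits AlgebraicGeometry MonoidalCategory
  CartesianMonoidalCategory

namespace Groth.Agent.Lib.H9InfPtC

open Groth.Agent.Lib.H9InfPtA Groth.Agent.Lib.H9InfPtB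

variable {R₀ R : CommRingCat.{u}} (τ : R₀ ⟶ R) (I : Ideal R)

/-- `Spec R` over `Spec R₀`. -/
noncomputable abbrev T : Over (Spec R₀) := Over.mk (Spec.map τ)

/-- the quotient map. -/
abbrev q : R ⟶ CommRingCat.of (R ⧸ I) := CommRingCat.ofHom (Ideal.Quotient.mk I)

/-- `Spec R/I` over `Spec R₀`. -/
noncomputable abbrev T₀ : Over (Spec R₀) := Over.mk (Spec.map (q I) ≫ Spec.map τ)

/-- the thickening. -/
noncomputable abbrev iO : T₀ τ I ⟶ T τ := Over.homMk (Spec.map (q I)) rfl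

lemma surjective_q (hI : I ^ 2 = ⊥) : Function.Surjective (Spec.map (q I)) := by
  have hle : I ≤ nilradical R := by
    intro a ha
    refine ⟨2, ?_⟩
    have : a ^ 2 ∈ I ^ 2 := Ideal.pow_mem_pow ha 2
    rw [hI] at this
    exact this
  exact (PrimeSpectrum.comap_quotientMk_bijective_of_le_nilradical hle).2

variable {X Y : Over (Spec R₀)}

/-- `x` restricts on `T₀` to the constant point `x₀`. -/
def IsInf (x₀ : 𝟙_ (Over (Spec R₀)) ⟶ X) (x : T τ ⟶ X) : Prop :=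
  iO τ I ≫ x = toUnit (T₀ τ I) ≫ x₀

lemma range_subset_of_isInf (hI : I ^ 2 = ⊥) (x₀ : 𝟙_ (Over (Spec R₀)) ⟶ X) (x : T τ ⟶ X)
    (hx : IsInf τ I x₀ x) : Set.range x.left ⊆ Set.range x₀.left := by
  rintro _ ⟨p, rfl⟩
  obtain ⟨p₀, rfl⟩ := surjective_q I hI p
  have h := congrArg (fun f => f.left p₀) hx
  simp only [Over.comp_left, Over.homMk_left] at h
  exact ⟨_, h.symm⟩

/-- the ring homomorphism attached to a point landing in `U`. -/
noncomputable def Φ (U : X.left.Opens) (x : T τ ⟶ X) (hx : Set.range x.left ⊆ (U : Set X.left)) :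
    Γ(X.left, U) ⟶ R :=
  toHom (R := R) x.left U hx

lemma Φ_injective {U : X.left.Opens} (hU : IsAffineOpen U) (x y : T τ ⟶ X)
    (hx : Set.range x.left ⊆ (U : Set X.left)) (hy : Set.range y.left ⊆ (U : Set X.left))
    (h : Φ τ U x hx = Φ τ U y hy) : x = y := by
  apply Over.OverMorphism.ext
  exact toHom_injective hU _ _ hx hy h

lemma Φ_comp (f : X ⟶ Y) (U : X.left.Opens) (V : Y.left.Opens) (hUV : U ≤ f.left ⁻¹ᵁ V)
    (x : T τ ⟶ X) (hx : Set.range x.left ⊆ (U : Set X.left))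
    (hxf : Set.range (x ≫ f).left ⊆ (V : Set Y.left)) :
    Φ τ V (x ≫ f) hxf = f.left.appLE V U hUV ≫ Φ τ U x hx :=
  toHom_comp x.left f.left U V hx hUV hxf

lemma range_comp_subset (f : X ⟶ Y) (U : X.left.Opens) (V : Y.left.Opens)
    (hUV : U ≤ f.left ⁻¹ᵁ V) (x : T τ ⟶ X) (hx : Set.range x.left ⊆ (U : Set X.left)) :
    Set.range (x ≫ f).left ⊆ (V : Set Y.left) := by
  rintro _ ⟨p, rfl⟩
  exact hUV (hx ⟨p, rfl⟩)

/-- the constant ring homomorphism of a base point. -/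
noncomputable def ε₀ (x₀ : 𝟙_ (Over (Spec R₀)) ⟶ X) (U : X.left.Opens)
    (h₀ : Set.range x₀.left ⊆ (U : Set X.left)) : Γ(X.left, U) ⟶ R₀ :=
  toHom (R := R₀) x₀.left U h₀

lemma range_const (x₀ : 𝟙_ (Over (Spec R₀)) ⟶ X) (U : X.left.Opens)
    (h₀ : Set.range x₀.left ⊆ (U : Set X.left)) :
    Set.range (toUnit (T τ) ≫ x₀).left ⊆ (U : Set X.left) := by
  rintro _ ⟨p, rfl⟩
  exact h₀ ⟨_, rfl⟩

lemma Φ_const (x₀ : 𝟙_ (Over (Spec R₀)) ⟶ X) (U : X.left.Opens)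
    (h₀ : Set.range x₀.left ⊆ (U : Set X.left)) :
    Φ τ U (toUnit (T τ) ≫ x₀) (range_const τ x₀ U h₀) = ε₀ x₀ U h₀ ≫ τ :=
  toHom_precomp τ x₀.left U h₀ _

/-- the structure homomorphism `R₀ ⟶ Γ(X, U)`. -/
noncomputable def σ {U : X.left.Opens} (hU : IsAffineOpen U) : R₀ ⟶ Γ(X.left, U) :=
  Spec.preimage (hU.fromSpec ≫ X.hom)

lemma σ_Φ {U : X.left.Opens} (hU : IsAffineOpen U) (x : T τ ⟶ X)
    (hx : Set.range x.left ⊆ (U : Set X.left)) : σ hU ≫ Φ τ U x hx = τ := by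
  apply Spec.map_injective
  rw [Spec.map_comp, σ, Spec.map_preimage, ← Category.assoc]
  have := ofHom_toHom hU x.left hx
  unfold ofHom at this
  unfold Φ
  rw [this]
  exact Over.w x

/-- the point attached to a ring homomorphism. -/
noncomputable def pt {U : X.left.Opens} (hU : IsAffineOpen U) (χ : Γ(X.left, U) ⟶ R)
    (hχ : σ hU ≫ χ = τ) : T τ ⟶ X :=
  Over.homMk (ofHom hU χ) (by
    change (Spec.map χ ≫ hU.fromSpec) ≫ X.hom = Spec.map τ
    rw [Category.assoc, ← Spec.map_preimage (hU.fromSpec ≫ X.hom), ← Spec.map_comp]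
    exact congrArg Spec.map hχ)

lemma range_pt {U : X.left.Opens} (hU : IsAffineOpen U) (χ : Γ(X.left, U) ⟶ R)
    (hχ : σ hU ≫ χ = τ) : Set.range (pt τ hU χ hχ).left ⊆ (U : Set X.left) :=
  range_ofHom hU χ

lemma Φ_pt {U : X.left.Opens} (hU : IsAffineOpen U) (χ : Γ(X.left, U) ⟶ R)
    (hχ : σ hU ≫ χ = τ) : Φ τ U (pt τ hU χ hχ) (range_pt τ hU χ hχ) = χ :=
  toHom_ofHom hU χ

lemma isInf_iff_left (x₀ : 𝟙_ (Over (Spec R₀)) ⟶ X) (x : T τ ⟶ X) :
    IsInf τ I x₀ x ↔ Spec.map (q I) ≫ x.left = Spec.map (q I) ≫ Spec.map τ ≫ x₀.left := by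
  unfold IsInf
  constructor
  · intro h
    have h' := congrArg (fun f => f.left) h
    simpa only [Over.comp_left, Over.homMk_left, Over.toUnit_left, Over.mk_hom,
      Category.assoc] using h'
  · intro h
    apply Over.OverMorphism.ext
    simpa only [Over.comp_left, Over.homMk_left, Over.toUnit_left, Over.mk_hom,
      Category.assoc] using h

lemma toHom_congr {Z : Scheme.{u}} {R' : CommRingCat.{u}} (U : Z.Opens) (f g : Spec R' ⟶ Z)
    (hf : Set.range f ⊆ (U : Set Z)) (hg : Set.range g ⊆ (U : Set Z)) (h : f = g) :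
    toHom f U hf = toHom g U hg := by
  subst h; rfl

/-- restriction to `T₀` -/
lemma isInf_iff {U : X.left.Opens} (hU : IsAffineOpen U) (x₀ : 𝟙_ (Over (Spec R₀)) ⟶ X)
    (h₀ : Set.range x₀.left ⊆ (U : Set X.left)) (x : T τ ⟶ X)
    (hx : Set.range x.left ⊆ (U : Set X.left)) :
    IsInf τ I x₀ x ↔ Φ τ U x hx ≫ q I = (ε₀ x₀ U h₀ ≫ τ) ≫ q I := by
  rw [isInf_iff_left]
  have h1 : Set.range (Spec.map (q I) ≫ x.left) ⊆ (U : Set X.left) := by
    rintro _ ⟨p, rfl⟩; exact hx ⟨_, rfl⟩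
  have h3 : Set.range (Spec.map τ ≫ x₀.left) ⊆ (U : Set X.left) := by
    rintro _ ⟨p, rfl⟩; exact h₀ ⟨_, rfl⟩
  have h2 : Set.range (Spec.map (q I) ≫ Spec.map τ ≫ x₀.left) ⊆ (U : Set X.left) := by
    rintro _ ⟨p, rfl⟩; exact h₀ ⟨_, rfl⟩
  have e1 := toHom_precomp (q I) x.left U hx h1
  have e2 := toHom_precomp (q I) (Spec.map τ ≫ x₀.left) U h3 h2
  have e3 := toHom_precomp τ x₀.left U h₀ h3
  unfold Φ ε₀
  rw [← e3, ← e1, ← e2]
  constructor
  · intro h
    exact toHom_congr U _ _ h1 h2 h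
  · intro h
    exact toHom_injective hU _ _ h1 h2 h

end Groth.Agent.Lib.H9InfPtC
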