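import Mathlib
import Groth.Agent.Lib.H9InfPtC

/-! helper9: the kernel of `G(R) → G(R/I)` (`I² = 0`) for a group scheme `G` over an affine base
is a group of "derivations": its group law is addition of the associated ring homomorphisms. -/
set_option autoImplicit false

universe u
open CategoryTheory CategoryTheory.Limits AlgebraicGeometry MonoidalCategory
  CartesianMonoidalCategory MonObj GrpObj

namespace Groth.Agent.Lib.H9InfPtD

open Groth.Agent.Lib.H9InfPtA Groth.Agent.Lib.H9InfPtB Groth.Agent.Lib.H9InfPtC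

variable {R₀ R : CommRingCat.{u}} (τ : R₀ ⟶ R) (I : Ideal R) (hI : I ^ 2 = ⊥)
variable (A : Over (Spec R₀)) [GrpObj A]

/-- the kernel of restriction to `T₀`. -/
def Ksub : Subgroup (T τ ⟶ A) where
  carrier := {x | iO τ I ≫ x = 1}
  mul_mem' := by
    intro x y hx hy
    simp only [Set.mem_ofPred_eq] at hx hy ⊢
    rw [MonObj.comp_mul, hx, hy, _root_.one_mul]
  one_mem' := by simp
  inv_mem' := by
    intro x hx
    simp only [Set.mem_ofPred_eq] at hx ⊢
    rw [GrpObj.comp_inv, hx, inv_one]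

lemma mem_Ksub_iff (x : T τ ⟶ A) : x ∈ Ksub τ I A ↔ IsInf τ I η[A] x := by
  change iO τ I ≫ x = 1 ↔ iO τ I ≫ x = toUnit _ ≫ η[A]
  rw [Hom.one_def]

variable {A}
variable {U : A.left.Opens} (hU : IsAffineOpen U)
  (hηU : Set.range η[A].left ⊆ (U : Set A.left))

include hI hηU in
lemma range_of_mem {x : T τ ⟶ A} (hx : x ∈ Ksub τ I A) :
    Set.range x.left ⊆ (U : Set A.left) :=
  (range_subset_of_isInf τ I hI η[A] x ((mem_Ksub_iff τ I A x).1 hx)).trans hηU

/-- the constant homomorphism. -/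
noncomputable def ε : Γ(A.left, U) ⟶ R := ε₀ η[A] U hηU ≫ τ

lemma Φ_congr {X : Over (Spec R₀)} (V : X.left.Opens) (x y : T τ ⟶ X)
    (hx : Set.range x.left ⊆ (V : Set X.left)) (hy : Set.range y.left ⊆ (V : Set X.left))
    (h : x = y) : Φ τ V x hx = Φ τ V y hy := by
  subst h; rfl

include hI in
lemma Φ_one : Φ τ U (1 : T τ ⟶ A) (range_of_mem τ I hI hηU (Ksub τ I A).one_mem) = ε τ hηU := by
  have h := Φ_const τ η[A] U hηU
  unfold ε
  rw [← h]
  exact Φ_congr τ U _ _ _ _ (Hom.one_def)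

include hI hU in
lemma isNear_of_mem {x : T τ ⟶ A} (hx : x ∈ Ksub τ I A) :
    IsNear I (ε τ hηU).hom (Φ τ U x (range_of_mem τ I hI hηU hx)).hom := by
  have h := (isInf_iff τ I hU η[A] hηU x (range_of_mem τ I hI hηU hx)).1
    ((mem_Ksub_iff τ I A x).1 hx)
  intro b
  have h' := congrArg (fun f => f.hom b) h
  simp only [CommRingCat.hom_comp, RingHom.coe_comp, Function.comp_apply, CommRingCat.hom_ofHom]
    at h'
  rw [← Ideal.Quotient.eq]
  exact h'

include hU in
lemma mem_of_isNear {x : T τ ⟶ A} (hx : Set.range x.left ⊆ (U : Set A.left))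
    (h : IsNear I (ε τ hηU).hom (Φ τ U x hx).hom) : x ∈ Ksub τ I A := by
  rw [mem_Ksub_iff, isInf_iff τ I hU η[A] hηU x hx]
  ext b
  simp only [CommRingCat.hom_comp, RingHom.coe_comp, Function.comp_apply, CommRingCat.hom_ofHom]
  rw [Ideal.Quotient.eq]
  exact h b

end Groth.Agent.Lib.H9InfPtD
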