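import Mathlib
import Groth.Agent.Lib.H9InfPtC

/-! helper9: addition of infinitesimal points near a base point (in an affine open `W`),
and its naturality. -/
set_option autoImplicit false

universe u
open CategoryTheory CategoryTheory.Limits AlgebraicGeometry MonoidalCategory
  CartesianMonoidalCategory

namespace Groth.Agent.Lib.H9InfPtE

open Groth.Agent.Lib.H9InfPtA Groth.Agent.Lib.H9InfPtB Groth.Agent.Lib.H9InfPtC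

variable {R₀ R : CommRingCat.{u}} (τ : R₀ ⟶ R) (I : Ideal R) (hI : I ^ 2 = ⊥)
variable {X Y : Over (Spec R₀)} (x₀ : 𝟙_ (Over (Spec R₀)) ⟶ X)
variable {W : X.left.Opens} (hW : IsAffineOpen W)
  (h₀ : Set.range x₀.left ⊆ (W : Set X.left))

lemma Φ_congr {X : Over (Spec R₀)} (V : X.left.Opens) (x y : T τ ⟶ X)
    (hx : Set.range x.left ⊆ (V : Set X.left)) (hy : Set.range y.left ⊆ (V : Set X.left))
    (h : x = y) : Φ τ V x hx = Φ τ V y hy := by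
  subst h; rfl

include hI h₀ in
lemma range_of_isInf {z : T τ ⟶ X} (hz : IsInf τ I x₀ z) :
    Set.range z.left ⊆ (W : Set X.left) :=
  (range_subset_of_isInf τ I hI x₀ z hz).trans h₀

include hW in
lemma isNear_of_isInf {z : T τ ⟶ X} (hz : IsInf τ I x₀ z)
    (hzW : Set.range z.left ⊆ (W : Set X.left)) :
    IsNear I (ε₀ x₀ W h₀ ≫ τ).hom (Φ τ W z hzW).hom := by
  have h := (isInf_iff τ I hW x₀ h₀ z hzW).1 hz
  intro b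
  have h' := congrArg (fun f => f.hom b) h
  simp only [CommRingCat.hom_comp, RingHom.coe_comp, Function.comp_apply, CommRingCat.hom_ofHom]
    at h'
  rw [← Ideal.Quotient.eq]
  exact h'

include hW in
lemma isInf_of_isNear {z : T τ ⟶ X} (hzW : Set.range z.left ⊆ (W : Set X.left))
    (h : IsNear I (ε₀ x₀ W h₀ ≫ τ).hom (Φ τ W z hzW).hom) : IsInf τ I x₀ z := by
  rw [isInf_iff τ I hW x₀ h₀ z hzW]
  ext b
  simp only [CommRingCat.hom_comp, RingHom.coe_comp, Function.comp_apply, CommRingCat.hom_ofHom]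
  rw [Ideal.Quotient.eq]
  exact h b

lemma σ_ε₀ : σ hW ≫ ε₀ x₀ W h₀ = 𝟙 R₀ := by
  apply Spec.map_injective
  rw [Spec.map_comp, σ, Spec.map_preimage, ← Category.assoc]
  have := ofHom_toHom hW x₀.left h₀
  unfold ofHom at this
  unfold ε₀
  rw [this, Spec.map_id]
  exact Over.w x₀

/-- the sum of two near homomorphisms. -/
noncomputable def addHom (z₁ z₂ : T τ ⟶ X) (h₁ : IsInf τ I x₀ z₁) (h₂ : IsInf τ I x₀ z₂) :
    Γ(X.left, W) ⟶ R :=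
  CommRingCat.ofHom (addNear I hI (ε₀ x₀ W h₀ ≫ τ).hom
    (Φ τ W z₁ (range_of_isInf τ I hI x₀ h₀ h₁)).hom
    (Φ τ W z₂ (range_of_isInf τ I hI x₀ h₀ h₂)).hom
    (isNear_of_isInf τ I x₀ hW h₀ h₁ _) (isNear_of_isInf τ I x₀ hW h₀ h₂ _))

lemma addHom_apply (z₁ z₂ : T τ ⟶ X) (h₁ : IsInf τ I x₀ z₁) (h₂ : IsInf τ I x₀ z₂)
    (b : Γ(X.left, W)) :
    (addHom τ I hI x₀ hW h₀ z₁ z₂ h₁ h₂).hom b =
      (Φ τ W z₁ (range_of_isInf τ I hI x₀ h₀ h₁)).hom b +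
      (Φ τ W z₂ (range_of_isInf τ I hI x₀ h₀ h₂)).hom b - (ε₀ x₀ W h₀ ≫ τ).hom b := rfl

lemma σ_addHom (z₁ z₂ : T τ ⟶ X) (h₁ : IsInf τ I x₀ z₁) (h₂ : IsInf τ I x₀ z₂) :
    σ hW ≫ addHom τ I hI x₀ hW h₀ z₁ z₂ h₁ h₂ = τ := by
  ext r
  rw [CommRingCat.hom_comp, RingHom.comp_apply, addHom_apply]
  have e1 := congrArg (fun f => f.hom r) (σ_Φ τ hW z₁ (range_of_isInf τ I hI x₀ h₀ h₁))
  have e2 := congrArg (fun f => f.hom r) (σ_Φ τ hW z₂ (range_of_isInf τ I hI x₀ h₀ h₂))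
  have e3 := congrArg (fun f => f.hom r) (σ_ε₀ x₀ hW h₀)
  simp only [CommRingCat.hom_comp, RingHom.coe_comp, Function.comp_apply, CommRingCat.hom_id,
    RingHom.id_apply] at e1 e2 e3 ⊢
  rw [e1, e2, e3]
  ring

/-- the sum of two near points. -/
noncomputable def addPt (z₁ z₂ : T τ ⟶ X) (h₁ : IsInf τ I x₀ z₁) (h₂ : IsInf τ I x₀ z₂) :
    T τ ⟶ X :=
  pt τ hW (addHom τ I hI x₀ hW h₀ z₁ z₂ h₁ h₂) (σ_addHom τ I hI x₀ hW h₀ z₁ z₂ h₁ h₂)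

lemma range_addPt (z₁ z₂ : T τ ⟶ X) (h₁ : IsInf τ I x₀ z₁) (h₂ : IsInf τ I x₀ z₂) :
    Set.range (addPt τ I hI x₀ hW h₀ z₁ z₂ h₁ h₂).left ⊆ (W : Set X.left) :=
  range_pt τ hW _ _

lemma Φ_addPt (z₁ z₂ : T τ ⟶ X) (h₁ : IsInf τ I x₀ z₁) (h₂ : IsInf τ I x₀ z₂) :
    Φ τ W (addPt τ I hI x₀ hW h₀ z₁ z₂ h₁ h₂) (range_addPt τ I hI x₀ hW h₀ z₁ z₂ h₁ h₂) =
      addHom τ I hI x₀ hW h₀ z₁ z₂ h₁ h₂ :=
  Φ_pt τ hW _ _

lemma isInf_addPt (z₁ z₂ : T τ ⟶ X) (h₁ : IsInf τ I x₀ z₁) (h₂ : IsInf τ I x₀ z₂) :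
    IsInf τ I x₀ (addPt τ I hI x₀ hW h₀ z₁ z₂ h₁ h₂) := by
  apply isInf_of_isNear τ I x₀ hW h₀ (range_addPt τ I hI x₀ hW h₀ z₁ z₂ h₁ h₂)
  rw [Φ_addPt]
  exact isNear_addNear I hI _ _ _ (isNear_of_isInf τ I x₀ hW h₀ h₁ _)
    (isNear_of_isInf τ I x₀ hW h₀ h₂ _)

/-- naturality of the sum. -/
lemma Φ_addPt_comp (z₁ z₂ : T τ ⟶ X) (h₁ : IsInf τ I x₀ z₁) (h₂ : IsInf τ I x₀ z₂)
    (f : X ⟶ Y) (V : Y.left.Opens) (hWV : W ≤ f.left ⁻¹ᵁ V)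
    (h : Set.range (addPt τ I hI x₀ hW h₀ z₁ z₂ h₁ h₂ ≫ f).left ⊆ (V : Set Y.left))
    (h1 : Set.range (z₁ ≫ f).left ⊆ (V : Set Y.left))
    (h2 : Set.range (z₂ ≫ f).left ⊆ (V : Set Y.left))
    (h3 : Set.range ((toUnit (T τ) ≫ x₀) ≫ f).left ⊆ (V : Set Y.left))
    (b : Γ(Y.left, V)) :
    (Φ τ V (addPt τ I hI x₀ hW h₀ z₁ z₂ h₁ h₂ ≫ f) h).hom b =
      (Φ τ V (z₁ ≫ f) h1).hom b + (Φ τ V (z₂ ≫ f) h2).hom b -
        (Φ τ V ((toUnit (T τ) ≫ x₀) ≫ f) h3).hom b := by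
  rw [Φ_comp τ f W V hWV _ (range_addPt τ I hI x₀ hW h₀ z₁ z₂ h₁ h₂) h,
    Φ_comp τ f W V hWV z₁ (range_of_isInf τ I hI x₀ h₀ h₁) h1,
    Φ_comp τ f W V hWV z₂ (range_of_isInf τ I hI x₀ h₀ h₂) h2,
    Φ_comp τ f W V hWV _ (range_const τ x₀ W h₀) h3, Φ_addPt, Φ_const]
  simp only [CommRingCat.hom_comp, RingHom.coe_comp, Function.comp_apply]
  exact addHom_apply τ I hI x₀ hW h₀ z₁ z₂ h₁ h₂ _

end Groth.Agent.Lib.H9InfPtE
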