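import Mathlib
import Groth.Agent.Lib.H9InfPtD
import Groth.Agent.Lib.H9InfPtE

/-! helper9: the kernel of `G(R) → G(R/I)` (`I² = 0`): the group law is addition of the
associated near-homomorphisms. -/
set_option autoImplicit false

universe u
open CategoryTheory CategoryTheory.Limits AlgebraicGeometry MonoidalCategory
  CartesianMonoidalCategory MonObj GrpObj

namespace Groth.Agent.Lib.H9InfPtF

open Groth.Agent.Lib.H9InfPtA Groth.Agent.Lib.H9InfPtB Groth.Agent.Lib.H9InfPtC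
  Groth.Agent.Lib.H9InfPtD Groth.Agent.Lib.H9InfPtE

variable {R₀ R : CommRingCat.{u}} (τ : R₀ ⟶ R) (I : Ideal R) (hI : I ^ 2 = ⊥)
variable {A : Over (Spec R₀)} [GrpObj A]
variable {U : A.left.Opens} (hU : IsAffineOpen U)
  (hηU : Set.range η[A].left ⊆ (U : Set A.left))
variable {W : (A ⊗ A).left.Opens} (hW : IsAffineOpen W)
  (hηW : Set.range (lift η[A] η[A]).left ⊆ (W : Set (A ⊗ A).left))
  (hW1 : W ≤ (fst A A).left ⁻¹ᵁ U) (hW2 : W ≤ (snd A A).left ⁻¹ᵁ U)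
  (hWμ : W ≤ μ[A].left ⁻¹ᵁ U)

lemma isInf_lift {x y : T τ ⟶ A} (hx : x ∈ Ksub τ I A) (hy : y ∈ Ksub τ I A) :
    IsInf τ I (lift η[A] η[A]) (lift x y) := by
  unfold IsInf
  rw [comp_lift, comp_lift]
  have hx' : iO τ I ≫ x = 1 := hx
  have hy' : iO τ I ≫ y = 1 := hy
  rw [hx', hy', Hom.one_def]

lemma const_fst : (toUnit (T τ) ≫ lift η[A] η[A]) ≫ fst A A = 1 := by
  rw [Category.assoc, lift_fst, Hom.one_def]

lemma const_snd : (toUnit (T τ) ≫ lift η[A] η[A]) ≫ snd A A = 1 := by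
  rw [Category.assoc, lift_snd, Hom.one_def]

lemma const_mul : (toUnit (T τ) ≫ lift η[A] η[A]) ≫ μ[A] = 1 := by
  rw [comp_lift, ← Hom.one_def, ← Hom.mul_def, _root_.mul_one]

include hI hU hηU hW hηW hW1 hW2 hWμ in
lemma Φ_mul {x y : T τ ⟶ A} (hx : x ∈ Ksub τ I A) (hy : y ∈ Ksub τ I A)
    (b : Γ(A.left, U)) :
    (Φ τ U (x * y) (range_of_mem τ I hI hηU ((Ksub τ I A).mul_mem hx hy))).hom b =
      (Φ τ U x (range_of_mem τ I hI hηU hx)).hom b +
        (Φ τ U y (range_of_mem τ I hI hηU hy)).hom b - (ε τ hηU).hom b := by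
  have h1 : IsInf τ I (lift η[A] η[A]) (lift x 1) := isInf_lift τ I hx (Ksub τ I A).one_mem
  have h2 : IsInf τ I (lift η[A] η[A]) (lift 1 y) := isInf_lift τ I (Ksub τ I A).one_mem hy
  have r1 : Set.range (1 : T τ ⟶ A).left ⊆ (U : Set A.left) :=
    range_of_mem τ I hI hηU (Ksub τ I A).one_mem
  have rx := range_of_mem τ I hI hηU hx
  have ry := range_of_mem τ I hI hηU hy
  have hΦ1 : Φ τ U (1 : T τ ⟶ A) r1 = ε τ hηU := Φ_one τ I hI hηU
  have rz1 := range_of_isInf τ I hI (lift η[A] η[A]) hηW h1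
  have rz2 := range_of_isInf τ I hI (lift η[A] η[A]) hηW h2
  have rz0 := range_const τ (lift η[A] η[A]) W hηW
  have rz' := range_addPt τ I hI (lift η[A] η[A]) hW hηW (lift x 1) (lift 1 y) h1 h2
  -- first projection
  have key1 : addPt τ I hI (lift η[A] η[A]) hW hηW (lift x 1) (lift 1 y) h1 h2 ≫ fst A A = x := by
    apply Φ_injective τ hU _ _ (range_comp_subset τ (fst A A) W U hW1 _ rz') rx
    ext b
    rw [Φ_addPt_comp τ I hI (lift η[A] η[A]) hW hηW _ _ h1 h2 (fst A A) U hW1 _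
      (range_comp_subset τ (fst A A) W U hW1 _ rz1)
      (range_comp_subset τ (fst A A) W U hW1 _ rz2)
      (range_comp_subset τ (fst A A) W U hW1 _ rz0) b]
    rw [H9InfPtE.Φ_congr τ U (lift x 1 ≫ fst A A) x _ rx (lift_fst _ _),
      H9InfPtE.Φ_congr τ U (lift 1 y ≫ fst A A) 1 _ r1 (lift_fst _ _),
      H9InfPtE.Φ_congr τ U (_ ≫ fst A A) 1 _ r1 (const_fst τ)]
    ring
  have key2 : addPt τ I hI (lift η[A] η[A]) hW hηW (lift x 1) (lift 1 y) h1 h2 ≫ snd A A = y := by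
    apply Φ_injective τ hU _ _ (range_comp_subset τ (snd A A) W U hW2 _ rz') ry
    ext b
    rw [Φ_addPt_comp τ I hI (lift η[A] η[A]) hW hηW _ _ h1 h2 (snd A A) U hW2 _
      (range_comp_subset τ (snd A A) W U hW2 _ rz1)
      (range_comp_subset τ (snd A A) W U hW2 _ rz2)
      (range_comp_subset τ (snd A A) W U hW2 _ rz0) b]
    rw [H9InfPtE.Φ_congr τ U (lift x 1 ≫ snd A A) 1 _ r1 (lift_snd _ _),
      H9InfPtE.Φ_congr τ U (lift 1 y ≫ snd A A) y _ ry (lift_snd _ _),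
      H9InfPtE.Φ_congr τ U (_ ≫ snd A A) 1 _ r1 (const_snd τ)]
    ring
  have key : addPt τ I hI (lift η[A] η[A]) hW hηW (lift x 1) (lift 1 y) h1 h2 = lift x y := by
    apply CartesianMonoidalCategory.hom_ext
    · rw [key1, lift_fst]
    · rw [key2, lift_snd]
  have hxy : x * y =
      addPt τ I hI (lift η[A] η[A]) hW hηW (lift x 1) (lift 1 y) h1 h2 ≫ μ[A] := by
    rw [key, Hom.mul_def]
  rw [H9InfPtE.Φ_congr τ U (x * y) _ _ (range_comp_subset τ μ[A] W U hWμ _ rz') hxy,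
    Φ_addPt_comp τ I hI (lift η[A] η[A]) hW hηW _ _ h1 h2 μ[A] U hWμ _
      (range_comp_subset τ μ[A] W U hWμ _ rz1)
      (range_comp_subset τ μ[A] W U hWμ _ rz2)
      (range_comp_subset τ μ[A] W U hWμ _ rz0) b]
  rw [H9InfPtE.Φ_congr τ U (lift x 1 ≫ μ[A]) x _ rx (by rw [← Hom.mul_def, _root_.mul_one]),
    H9InfPtE.Φ_congr τ U (lift 1 y ≫ μ[A]) y _ ry (by rw [← Hom.mul_def, _root_.one_mul]),
    H9InfPtE.Φ_congr τ U (_ ≫ μ[A]) 1 _ r1 (const_mul τ), hΦ1]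

end Groth.Agent.Lib.H9InfPtF
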