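import Mathlib
import Groth.Agent.Lib.H9InfPtF

/-! helper9: the kernel of `G(R) → G(R/I)` (`I² = 0`) is uniquely `d`-divisible when `d` is
invertible in `R`, and killed by `d` when `d = 0` in `R`. -/
set_option autoImplicit false

universe u
open CategoryTheory CategoryTheory.Limits AlgebraicGeometry MonoidalCategory
  CartesianMonoidalCategory MonObj GrpObj

namespace Groth.Agent.Lib.H9InfPtG

open Groth.Agent.Lib.H9InfPtA Groth.Agent.Lib.H9InfPtB Groth.Agent.Lib.H9InfPtC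
  Groth.Agent.Lib.H9InfPtD Groth.Agent.Lib.H9InfPtE Groth.Agent.Lib.H9InfPtF

variable {R₀ R : CommRingCat.{u}} (τ : R₀ ⟶ R) (I : Ideal R) (hI : I ^ 2 = ⊥)
variable {A : Over (Spec R₀)} [GrpObj A]
variable {U : A.left.Opens} (hU : IsAffineOpen U)
  (hηU : Set.range η[A].left ⊆ (U : Set A.left))
variable {W : (A ⊗ A).left.Opens} (hW : IsAffineOpen W)
  (hηW : Set.range (lift η[A] η[A]).left ⊆ (W : Set (A ⊗ A).left))
  (hW1 : W ≤ (fst A A).left ⁻¹ᵁ U) (hW2 : W ≤ (snd A A).left ⁻¹ᵁ U)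
  (hWμ : W ≤ μ[A].left ⁻¹ᵁ U)

/-- the "derivation" attached to a point of the kernel. -/
noncomputable def δ (x : Ksub τ I A) : Γ(A.left, U) → R := fun b =>
  (Φ τ U x.1 (range_of_mem τ I hI hηU x.2)).hom b - (ε τ hηU).hom b

lemma δ_apply (x : Ksub τ I A) (b : Γ(A.left, U)) :
    δ τ I hI hηU x b = (Φ τ U x.1 (range_of_mem τ I hI hηU x.2)).hom b - (ε τ hηU).hom b := rfl

include hU hW hηW hW1 hW2 hWμ in
lemma δ_mul (x y : Ksub τ I A) :
    δ τ I hI hηU (x * y) = δ τ I hI hηU x + δ τ I hI hηU y := by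
  funext b
  rw [Pi.add_apply, δ_apply, δ_apply, δ_apply]
  have h := Φ_mul τ I hI hU hηU hW hηW hW1 hW2 hWμ x.2 y.2 b
  have e : (Φ τ U (x * y : Ksub τ I A).1 (range_of_mem τ I hI hηU (x * y).2)).hom b =
      (Φ τ U (x.1 * y.1) (range_of_mem τ I hI hηU ((Ksub τ I A).mul_mem x.2 y.2))).hom b := rfl
  rw [e, h]
  ring

lemma δ_one : δ τ I hI hηU (1 : Ksub τ I A) = 0 := by
  funext b
  rw [δ_apply]
  have e : Φ τ U (1 : Ksub τ I A).1 (range_of_mem τ I hI hηU (1 : Ksub τ I A).2) = ε τ hηU :=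
    Φ_one τ I hI hηU
  rw [e, sub_self]
  rfl

include hU in
lemma δ_injective (x y : Ksub τ I A) (h : δ τ I hI hηU x = δ τ I hI hηU y) : x = y := by
  apply Subtype.ext
  apply Φ_injective τ hU _ _ (range_of_mem τ I hI hηU x.2) (range_of_mem τ I hI hηU y.2)
  ext b
  have hb := congrFun h b
  rw [δ_apply, δ_apply] at hb
  exact sub_left_injective hb

/-- `δ` as a monoid homomorphism. -/
noncomputable def δHom : Ksub τ I A →* Multiplicative (Γ(A.left, U) → R) where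
  toFun x := Multiplicative.ofAdd (δ τ I hI hηU x)
  map_one' := by rw [δ_one]; rfl
  map_mul' x y := by rw [δ_mul τ I hI hU hηU hW hηW hW1 hW2 hWμ]; rfl

include hU hW hηW hW1 hW2 hWμ in
lemma δ_zpow (x : Ksub τ I A) (d : ℤ) :
    δ τ I hI hηU (x ^ d) = d • δ τ I hI hηU x := by
  have h := map_zpow (δHom τ I hI hU hηU hW hηW hW1 hW2 hWμ) x d
  exact congrArg Multiplicative.toAdd h

include hU hW hηW hW1 hW2 hWμ in
lemma δ_zpow_apply (x : Ksub τ I A) (d : ℤ) (b : Γ(A.left, U)) :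
    δ τ I hI hηU (x ^ d) b = (d : R) * δ τ I hI hηU x b := by
  rw [δ_zpow τ I hI hU hηU hW hηW hW1 hW2 hWμ, Pi.smul_apply, zsmul_eq_mul]

include hI hU hηU hW hηW hW1 hW2 hWμ in
/-- if `d = 0` in `R`, the kernel is killed by `d`. -/
lemma zpow_eq_one_of_intCast_eq_zero (d : ℤ) (hd : (d : R) = 0) {k : T τ ⟶ A}
    (hk : k ∈ Ksub τ I A) : k ^ d = 1 := by
  have h : (⟨k, hk⟩ : Ksub τ I A) ^ d = 1 := by
    apply δ_injective τ I hI hU hηU
    funext b
    rw [δ_zpow_apply τ I hI hU hηU hW hηW hW1 hW2 hWμ, hd, zero_mul, δ_one]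
    rfl
  exact congrArg Subtype.val h

include hI hU hηU hW hηW hW1 hW2 hWμ in
/-- if `d` is invertible in `R`, the kernel is uniquely `d`-divisible. -/
lemma existsUnique_zpow_eq (d : ℤ) (hd : IsUnit (d : R)) {c : T τ ⟶ A}
    (hc : c ∈ Ksub τ I A) : ∃! k : T τ ⟶ A, k ∈ Ksub τ I A ∧ k ^ d = c := by
  obtain ⟨u, hu⟩ := hd.exists_right_inv
  have hnear := isNear_of_mem τ I hI hU hηU hc
  have hσ : σ hU ≫ CommRingCat.ofHom (smulNear I hI (ε τ hηU).hom u
      (Φ τ U c (range_of_mem τ I hI hηU hc)).hom hnear) = τ := by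
    ext r
    rw [CommRingCat.hom_comp, RingHom.comp_apply, CommRingCat.hom_ofHom, smulNear_apply]
    have e1 := congrArg (fun f => f.hom r) (σ_Φ τ hU c (range_of_mem τ I hI hηU hc))
    have e3 := congrArg (fun f => f.hom r) (σ_ε₀ η[A] hU hηU)
    simp only [CommRingCat.hom_comp, RingHom.coe_comp, Function.comp_apply, CommRingCat.hom_id,
      RingHom.id_apply] at e1 e3
    unfold ε
    simp only [CommRingCat.hom_comp, RingHom.coe_comp, Function.comp_apply]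
    rw [e1, e3]
    ring
  have hkmem : pt τ hU _ hσ ∈ Ksub τ I A := by
    apply mem_of_isNear τ I hU hηU (range_pt τ hU _ hσ)
    rw [Φ_pt]
    exact isNear_smulNear I hI _ u _ hnear
  have hδk : ∀ b, δ τ I hI hηU ⟨pt τ hU _ hσ, hkmem⟩ b = u * δ τ I hI hηU ⟨c, hc⟩ b := by
    intro b
    rw [δ_apply, δ_apply]
    have e : Φ τ U (pt τ hU _ hσ) (range_of_mem τ I hI hηU hkmem) = _ := Φ_pt τ hU _ hσ
    change (Φ τ U (pt τ hU _ hσ) (range_of_mem τ I hI hηU hkmem)).hom b - _ = _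
    rw [e, CommRingCat.hom_ofHom, smulNear_apply]
    ring
  refine ⟨pt τ hU _ hσ, ⟨hkmem, ?_⟩, ?_⟩
  · have h : (⟨pt τ hU _ hσ, hkmem⟩ : Ksub τ I A) ^ d = ⟨c, hc⟩ := by
      apply δ_injective τ I hI hU hηU
      funext b
      rw [δ_zpow_apply τ I hI hU hηU hW hηW hW1 hW2 hWμ, hδk, ← _root_.mul_assoc, hu, _root_.one_mul]
    exact congrArg Subtype.val h
  · rintro k' ⟨hk', hk'c⟩
    have h : (⟨k', hk'⟩ : Ksub τ I A) = ⟨pt τ hU _ hσ, hkmem⟩ := by
      apply δ_injective τ I hI hU hηU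
      funext b
      have h1 : (⟨k', hk'⟩ : Ksub τ I A) ^ d = ⟨c, hc⟩ := Subtype.ext hk'c
      have h2 := δ_zpow_apply τ I hI hU hηU hW hηW hW1 hW2 hWμ ⟨k', hk'⟩ d b
      rw [h1] at h2
      rw [hδk, h2, ← _root_.mul_assoc, _root_.mul_comm u, hu, _root_.one_mul]
    exact congrArg Subtype.val h

end Groth.Agent.Lib.H9InfPtG
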