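import Mathlib
import Groth.Prelude
import Groth.Agent.Lib.H9InfPtG

/-! helper9: on a commutative formally smooth group scheme over a local ring, multiplication by an
integer `d` invertible on the base is formally étale. -/
set_option autoImplicit false

universe u
open CategoryTheory CategoryTheory.Limits AlgebraicGeometry MonoidalCategory
  CartesianMonoidalCategory MonObj GrpObj

namespace Groth.Agent.Lib.H9InfPtH

open Groth.Agent.Lib.H9InfPtA Groth.Agent.Lib.H9InfPtB Groth.Agent.Lib.H9InfPtC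
  Groth.Agent.Lib.H9InfPtD Groth.Agent.Lib.H9InfPtE Groth.Agent.Lib.H9InfPtF
  Groth.Agent.Lib.H9InfPtG

variable {R₀ : CommRingCat.{u}}

lemma range_subset_of_closedPoint_mem [IsLocalRing R₀] {Z : Scheme.{u}} (f : Spec R₀ ⟶ Z)
    (V : Z.Opens) (h : f (IsLocalRing.closedPoint R₀) ∈ V) :
    Set.range f ⊆ (V : Set Z) := by
  have h' : IsLocalRing.closedPoint R₀ ∈ f ⁻¹ᵁ V := h
  have htop : f ⁻¹ᵁ V = ⊤ := IsLocalRing.closed_point_mem_iff.mp h'
  rintro _ ⟨p, rfl⟩
  have : p ∈ f ⁻¹ᵁ V := by rw [htop]; trivial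
  exact this

lemma lift_unit_mul (A : Over (Spec R₀)) [GrpObj A] : lift η[A] η[A] ≫ μ[A] = η[A] := by
  have h1 : (η[A] : 𝟙_ (Over (Spec R₀)) ⟶ A) = 1 := by
    rw [Hom.one_def, toUnit_unit, Category.id_comp]
  rw [← Hom.mul_def, h1, _root_.mul_one]

/-- over a local base, the unit section has good affine neighbourhoods. -/
lemma exists_opens [IsLocalRing R₀] (A : Over (Spec R₀)) [GrpObj A] :
    ∃ (U : A.left.Opens) (W : (A ⊗ A).left.Opens), IsAffineOpen U ∧
      Set.range η[A].left ⊆ (U : Set A.left) ∧ IsAffineOpen W ∧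
      Set.range (lift η[A] η[A]).left ⊆ (W : Set (A ⊗ A).left) ∧
      W ≤ (fst A A).left ⁻¹ᵁ U ∧ W ≤ (snd A A).left ⁻¹ᵁ U ∧ W ≤ μ[A].left ⁻¹ᵁ U := by
  set s := IsLocalRing.closedPoint R₀ with hs
  obtain ⟨U, hU, heU, -⟩ := exists_isAffineOpen_mem_and_subset
    (x := η[A].left s) (U := ⊤) trivial
  have hw : (lift η[A] η[A]).left s ∈
      (fst A A).left ⁻¹ᵁ U ⊓ (snd A A).left ⁻¹ᵁ U ⊓ μ[A].left ⁻¹ᵁ U := by
    refine ⟨⟨?_, ?_⟩, ?_⟩
    · change (fst A A).left ((lift η[A] η[A]).left s) ∈ U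
      rw [← Scheme.Hom.comp_apply, ← Over.comp_left, lift_fst]
      exact heU
    · change (snd A A).left ((lift η[A] η[A]).left s) ∈ U
      rw [← Scheme.Hom.comp_apply, ← Over.comp_left, lift_snd]
      exact heU
    · change μ[A].left ((lift η[A] η[A]).left s) ∈ U
      rw [← Scheme.Hom.comp_apply, ← Over.comp_left, lift_unit_mul]
      exact heU
  obtain ⟨W, hW, heW, hWle⟩ := exists_isAffineOpen_mem_and_subset hw
  refine ⟨U, W, hU, range_subset_of_closedPoint_mem _ U heU, hW,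
    range_subset_of_closedPoint_mem _ W heW, ?_, ?_, ?_⟩
  · intro p hp; exact (hWle hp).1.1
  · intro p hp; exact (hWle hp).1.2
  · intro p hp; exact (hWle hp).2

/-- On a commutative formally smooth group scheme over a local ring, multiplication by an integer
invertible on the base is formally étale. -/
theorem isFormallyEtaleHom_zpow [IsLocalRing R₀] (A : Over (Spec R₀)) [GrpObj A] [IsCommMonObj A]
    (hsm : MoreMor.IsFormallySmoothHom A.hom) (d : ℤ) (hd : IsUnit (d : R₀)) :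
    MoreMor.IsFormallyEtaleHom ((𝟙 A ^ d).left) := by
  intro A' _ I hI a b hab
  obtain ⟨U, W, hU, hηU, hW, hηW, hW1, hW2, hWμ⟩ := exists_opens A
  obtain ⟨τ, hτ⟩ : ∃ τ : R₀ ⟶ CommRingCat.of A', Spec.map τ = b ≫ A.hom :=
    ⟨Spec.preimage _, Spec.map_preimage _⟩
  let bO : T τ ⟶ A := Over.homMk b hτ.symm
  have ha : a ≫ A.hom = Spec.map (q I) ≫ Spec.map τ := by
    have h := congrArg (· ≫ A.hom) hab
    simp only [Category.assoc, Over.w] at h
    rw [hτ]
    exact h.symm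
  let aO : T₀ τ I ⟶ A := Over.homMk a ha
  have habO : iO τ I ≫ bO = aO ^ d := by
    have h : aO ^ d = aO ≫ (𝟙 A ^ d) := by rw [GrpObj.comp_zpow, Category.comp_id]
    rw [h]
    apply Over.OverMorphism.ext
    exact hab
  obtain ⟨l₁, hl₁a, hl₁b⟩ := hsm A' I hI a (Spec.map τ) ha.symm
  let l₁O : T τ ⟶ A := Over.homMk l₁ hl₁b
  have hl₁O : iO τ I ≫ l₁O = aO := by
    apply Over.OverMorphism.ext
    exact hl₁a
  have hd' : IsUnit ((d : ℤ) : (CommRingCat.of A' : CommRingCat.{u})) := by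
    have h := hd.map τ.hom
    rwa [map_intCast] at h
  have hc : bO * (l₁O ^ d)⁻¹ ∈ Ksub τ I A := by
    change iO τ I ≫ _ = 1
    rw [MonObj.comp_mul, GrpObj.comp_inv, GrpObj.comp_zpow, habO, hl₁O, mul_inv_cancel]
  obtain ⟨k, ⟨hk, hkc⟩, hkuniq⟩ :=
    existsUnique_zpow_eq τ I hI hU hηU hW hηW hW1 hW2 hWμ d hd' hc
  have hk1 : iO τ I ≫ k = 1 := hk
  refine ⟨(l₁O * k).left, ⟨?_, ?_⟩, ?_⟩
  · have h : iO τ I ≫ (l₁O * k) = aO := by
      rw [MonObj.comp_mul, hl₁O, hk1, _root_.mul_one]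
    have h' := congrArg (fun f => f.left) h
    exact h'
  · have h : (l₁O * k) ≫ (𝟙 A ^ d) = bO := by
      rw [GrpObj.comp_zpow, Category.comp_id, mul_zpow, hkc, _root_.mul_comm bO,
        ← _root_.mul_assoc, mul_inv_cancel, _root_.one_mul]
    have h' := congrArg (fun f => f.left) h
    exact h'
  · rintro l' ⟨hl'a, hl'b⟩
    have hl'τ : l' ≫ A.hom = Spec.map τ := by
      rw [hτ, ← hl'b, Category.assoc, Over.w]
    let l'O : T τ ⟶ A := Over.homMk l' hl'τ
    have h1 : iO τ I ≫ l'O = aO := by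
      apply Over.OverMorphism.ext
      exact hl'a
    have h2 : l'O ^ d = bO := by
      have h : l'O ^ d = l'O ≫ (𝟙 A ^ d) := by rw [GrpObj.comp_zpow, Category.comp_id]
      rw [h]
      apply Over.OverMorphism.ext
      exact hl'b
    have hk' : l₁O⁻¹ * l'O ∈ Ksub τ I A := by
      change iO τ I ≫ _ = 1
      rw [MonObj.comp_mul, GrpObj.comp_inv, hl₁O, h1, inv_mul_cancel]
    have hk'c : (l₁O⁻¹ * l'O) ^ d = bO * (l₁O ^ d)⁻¹ := by
      rw [mul_zpow, inv_zpow, h2, _root_.mul_comm]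
    have h3 := hkuniq _ ⟨hk', hk'c⟩
    have h4 : l'O = l₁O * k := by rw [← h3, mul_inv_cancel_left]
    exact congrArg (fun f => f.left) h4

end Groth.Agent.Lib.H9InfPtH
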