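import Mathlib
import Groth.Prelude
import Groth.Agent.Lib.H9InfPtH

/-! helper9: if `d = 0` on the base and multiplication by `d` on a group scheme has the unique
infinitesimal lifting property, then the maximal ideal of the unit section is idempotent. -/
set_option autoImplicit false

universe u
open CategoryTheory CategoryTheory.Limits AlgebraicGeometry MonoidalCategory
  CartesianMonoidalCategory MonObj GrpObj

namespace Groth.Agent.Lib.H9InfPtI

open Groth.Agent.Lib.H9InfPtA Groth.Agent.Lib.H9InfPtB Groth.Agent.Lib.H9InfPtC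
  Groth.Agent.Lib.H9InfPtD Groth.Agent.Lib.H9InfPtE Groth.Agent.Lib.H9InfPtF
  Groth.Agent.Lib.H9InfPtG Groth.Agent.Lib.H9InfPtH

variable {R₀ : CommRingCat.{u}}

theorem ker_le_sq (A : Over (Spec R₀)) [GrpObj A] (d : ℤ) (hd : (d : R₀) = 0)
    (het : MoreMor.IsFormallyEtaleHom ((𝟙 A ^ d).left))
    {U : A.left.Opens} (hU : IsAffineOpen U)
    (hηU : Set.range η[A].left ⊆ (U : Set A.left))
    {W : (A ⊗ A).left.Opens} (hW : IsAffineOpen W)
    (hηW : Set.range (lift η[A] η[A]).left ⊆ (W : Set (A ⊗ A).left))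
    (hW1 : W ≤ (fst A A).left ⁻¹ᵁ U) (hW2 : W ≤ (snd A A).left ⁻¹ᵁ U)
    (hWμ : W ≤ μ[A].left ⁻¹ᵁ U) :
    RingHom.ker (ε₀ η[A] U hηU).hom ≤ (RingHom.ker (ε₀ η[A] U hηU).hom) ^ 2 := by
  set 𝔪 := RingHom.ker (ε₀ η[A] U hηU).hom with h𝔪
  let R : CommRingCat.{u} := CommRingCat.of (Γ(A.left, U) ⧸ 𝔪 ^ 2)
  let mk : Γ(A.left, U) ⟶ R := CommRingCat.ofHom (Ideal.Quotient.mk (𝔪 ^ 2))
  let τ : R₀ ⟶ R := σ hU ≫ mk
  let I : Ideal R := 𝔪.map (Ideal.Quotient.mk (𝔪 ^ 2))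
  have hI : I ^ 2 = ⊥ := by
    change (𝔪.map (Ideal.Quotient.mk (𝔪 ^ 2))) ^ 2 = ⊥
    rw [← Ideal.map_pow, Ideal.map_quotient_self]
  have hσχ : σ hU ≫ mk = τ := rfl
  have hεapply : ∀ b, (ε τ hηU).hom b = mk.hom ((σ hU).hom ((ε₀ η[A] U hηU).hom b)) := by
    intro b
    unfold ε
    rfl
  have hx : pt τ hU mk hσχ ∈ Ksub τ I A := by
    apply mem_of_isNear τ I hU hηU (range_pt τ hU mk hσχ)
    rw [Φ_pt]
    intro b
    rw [hεapply]
    have hb : b - (σ hU).hom ((ε₀ η[A] U hηU).hom b) ∈ 𝔪 := by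
      rw [h𝔪, RingHom.mem_ker, map_sub]
      have e3 := congrArg (fun f => f.hom ((ε₀ η[A] U hηU).hom b)) (σ_ε₀ η[A] hU hηU)
      simp only [CommRingCat.hom_comp, RingHom.coe_comp, Function.comp_apply,
        CommRingCat.hom_id, RingHom.id_apply] at e3
      rw [e3, sub_self]
    have := Ideal.mem_map_of_mem (Ideal.Quotient.mk (𝔪 ^ 2)) hb
    rw [map_sub] at this
    exact this
  have hd' : ((d : ℤ) : R) = 0 := by
    have h := map_intCast τ.hom d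
    rw [← h, hd, map_zero]
  have hxd : (pt τ hU mk hσχ) ^ d = 1 :=
    zpow_eq_one_of_intCast_eq_zero τ I hI hU hηU hW hηW hW1 hW2 hWμ d hd' hx
  have hx1 : iO τ I ≫ pt τ hU mk hσχ = 1 := hx
  have h11 : iO τ I ≫ (1 : T τ ⟶ A) = 1 := MonObj.comp_one _
  have hab : Spec.map (CommRingCat.ofHom (Ideal.Quotient.mk I)) ≫ (1 : T τ ⟶ A).left =
      (iO τ I ≫ (1 : T τ ⟶ A)).left ≫ (𝟙 A ^ d).left := by
    have h : iO τ I ≫ (1 : T τ ⟶ A) = (iO τ I ≫ (1 : T τ ⟶ A)) ≫ (𝟙 A ^ d) := by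
      rw [GrpObj.comp_zpow, Category.comp_id, h11, one_zpow]
    exact congrArg (fun f => f.left) h
  obtain ⟨l, -, huniq⟩ := het (Γ(A.left, U) ⧸ 𝔪 ^ 2) I hI
    (iO τ I ≫ (1 : T τ ⟶ A)).left (1 : T τ ⟶ A).left hab
  have e1 : (pt τ hU mk hσχ).left = l := by
    apply huniq
    constructor
    · have h : iO τ I ≫ pt τ hU mk hσχ = iO τ I ≫ (1 : T τ ⟶ A) := by rw [hx1, h11]
      exact congrArg (fun f => f.left) h
    · have h : pt τ hU mk hσχ ≫ (𝟙 A ^ d) = 1 := by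
        rw [GrpObj.comp_zpow, Category.comp_id, hxd]
      exact congrArg (fun f => f.left) h
  have e2 : (1 : T τ ⟶ A).left = l := by
    apply huniq
    constructor
    · rfl
    · have h : (1 : T τ ⟶ A) ≫ (𝟙 A ^ d) = 1 := by
        rw [GrpObj.comp_zpow, Category.comp_id, one_zpow]
      exact congrArg (fun f => f.left) h
  have hpt1 : pt τ hU mk hσχ = 1 := Over.OverMorphism.ext (e1.trans e2.symm)
  have hΦ : mk = ε τ hηU := by
    rw [← Φ_pt τ hU mk hσχ, ← Φ_one τ I hI hηU]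
    exact H9InfPtE.Φ_congr τ U _ _ _ _ hpt1
  intro b hb
  have h1 : mk.hom b = (ε τ hηU).hom b := by rw [← hΦ]
  rw [hεapply] at h1
  have hb0 : (ε₀ η[A] U hηU).hom b = 0 := hb
  rw [hb0, map_zero, map_zero] at h1
  exact Ideal.Quotient.eq_zero_iff_mem.1 h1

end Groth.Agent.Lib.H9InfPtI
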