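import Mathlib
import Groth.Prelude
import Groth.Agent.Lib.H9InfPtI

/-! helper9: a group scheme locally of finite type over a field, irreducible, whose unit section
has idempotent maximal ideal is a single point. -/
set_option autoImplicit false

universe u
open CategoryTheory CategoryTheory.Limits AlgebraicGeometry MonoidalCategory
  CartesianMonoidalCategory MonObj GrpObj

namespace Groth.Agent.Lib.H9InfPtJ

open Groth.Agent.Lib.H9InfPtA Groth.Agent.Lib.H9InfPtB Groth.Agent.Lib.H9InfPtC
  Groth.Agent.Lib.H9InfPtD Groth.Agent.Lib.H9InfPtE Groth.Agent.Lib.H9InfPtF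
  Groth.Agent.Lib.H9InfPtG Groth.Agent.Lib.H9InfPtH Groth.Agent.Lib.H9InfPtI

variable {K : Type u} [Field K]

theorem subsingleton_of_ker_le_sq (A : Over (Spec (CommRingCat.of K))) [GrpObj A]
    [IsLocallyNoetherian A.left] [IrreducibleSpace A.left]
    {U : A.left.Opens} (hU : IsAffineOpen U)
    (hηU : Set.range η[A].left ⊆ (U : Set A.left))
    (hm : RingHom.ker (ε₀ η[A] U hηU).hom ≤ (RingHom.ker (ε₀ η[A] U hηU).hom) ^ 2) :
    Subsingleton A.left := by
  set e0 := ε₀ η[A] U hηU with he0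
  set 𝔪 := RingHom.ker e0.hom with h𝔪
  have : IsNoetherianRing Γ(A.left, U) := IsLocallyNoetherian.component_noetherian ⟨U, hU⟩
  have hfg : 𝔪.FG := (isNoetherianRing_iff_ideal_fg _).1 inferInstance 𝔪
  have hidem : IsIdempotentElem 𝔪 := by
    apply le_antisymm Ideal.mul_le_right
    have h2 : 𝔪 ^ 2 = 𝔪 * 𝔪 := pow_two 𝔪
    rw [← h2]
    exact hm
  obtain ⟨e', he', h𝔪e⟩ := (Ideal.isIdempotentElem_iff_of_fg 𝔪 hfg).1 hidem
  have hsurj : Function.Surjective e0.hom := by
    intro r
    refine ⟨(σ hU).hom r, ?_⟩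
    have e3 := congrArg (fun f => f.hom r) (σ_ε₀ η[A] hU hηU)
    simpa only [CommRingCat.hom_comp, RingHom.coe_comp, Function.comp_apply,
      CommRingCat.hom_id, RingHom.id_apply] using e3
  have hmax : 𝔪.IsMaximal := RingHom.ker_isMaximal_of_surjective e0.hom hsurj
  have hopen : IsOpen (PrimeSpectrum.zeroLocus (𝔪 : Set Γ(A.left, U))) := by
    have h1 : PrimeSpectrum.zeroLocus (𝔪 : Set Γ(A.left, U)) = PrimeSpectrum.zeroLocus {e'} := by
      rw [h𝔪e]
      exact PrimeSpectrum.zeroLocus_span _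
    rw [h1]
    exact (PrimeSpectrum.isClopen_iff_zeroLocus.2 ⟨e', he', rfl⟩).isOpen
  rw [PrimeSpectrum.zeroLocus_eq_singleton] at hopen
  obtain ⟨s⟩ : Nonempty (Spec (CommRingCat.of K)) := inferInstance
  have hη : η[A].left = Spec.map e0 ≫ hU.fromSpec := (ofHom_toHom hU η[A].left hηU).symm
  have hp : (Spec.map e0) s = (⟨𝔪, inferInstance⟩ : PrimeSpectrum Γ(A.left, U)) := by
    rw [Spec.map_apply]
    apply PrimeSpectrum.ext
    change Ideal.comap e0.hom s.asIdeal = 𝔪
    symm
    apply hmax.eq_of_le (Ideal.comap_ne_top _ s.2.ne_top)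
    intro b hb
    rw [Ideal.mem_comap]
    have hb0 : e0.hom b = 0 := hb
    rw [hb0]
    exact zero_mem _
  have hes : η[A].left s = hU.fromSpec (⟨𝔪, inferInstance⟩ : PrimeSpectrum Γ(A.left, U)) := by
    rw [hη, Scheme.Hom.comp_apply, hp]
  have hopen' : IsOpen ({η[A].left s} : Set A.left) := by
    have h1 := hU.fromSpec.isOpenEmbedding.isOpenMap _ hopen
    have h2 : ((hU.fromSpec : Spec Γ(A.left, U) → A.left) ''
        {(⟨𝔪, inferInstance⟩ : PrimeSpectrum Γ(A.left, U))} : Set A.left) =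
        {η[A].left s} := by
      rw [hes]
      exact Set.image_singleton
    rw [← h2]
    exact h1
  have hdense : Dense ({η[A].left s} : Set A.left) := hopen'.dense ⟨_, rfl⟩
  have hclosed : IsClosed (Set.range η[A].left) := η[A].left.isClosedEmbedding.isClosed_range
  have hall : ∀ x : A.left, x ∈ Set.range η[A].left := by
    intro x
    have hx : x ∈ closure ({η[A].left s} : Set A.left) := hdense x
    have hsub : closure ({η[A].left s} : Set A.left) ⊆ Set.range η[A].left :=
      hclosed.closure_subset_iff.2 (by rintro _ rfl; exact ⟨s, rfl⟩)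
    exact hsub hx
  refine ⟨fun x y => ?_⟩
  obtain ⟨a, rfl⟩ := hall x
  obtain ⟨b, rfl⟩ := hall y
  have hsub : Subsingleton (Spec (CommRingCat.of K)) := inferInstance
  exact congrArg _ (@Subsingleton.elim (Spec (CommRingCat.of K)) hsub a b)

end Groth.Agent.Lib.H9InfPtJ
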