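/-
helper9: a dominant morphism of integral separated finite type schemes over an algebraically closed
field of characteristic zero, injective on rational points, with normal target, is an open
immersion (S13425).
-/
import Mathlib
import Groth.Prelude.Def_Pi1
import Groth.Agent.Lib.Helper4BirLocalIso

set_option autoImplicit false
set_option linter.style.haveILetI false
universe u
open CategoryTheory CategoryTheory.Limits AlgebraicGeometry TopologicalSpace

namespace Groth.Agent.Lib.H9InjOpenImm

/-- A purely inseparable extension of fields of characteristic zero is surjective. -/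
theorem surjective_of_isPurelyInseparable {F E : Type*} [Field F] [Field E] [CharZero F]
    (φ : F →+* E) (h : φ.IsPurelyInseparable) : Function.Surjective φ := by
  algebraize [φ]
  haveI : ExpChar F 1 := ExpChar.zero
  intro x
  obtain ⟨n, y, hy⟩ := (isPurelyInseparable_iff_pow_mem F 1).mp h x
  exact ⟨y, by simpa [RingHom.algebraMap_toAlgebra] using hy⟩

/-- A nonempty scheme locally of finite type over an algebraically closed field has a rational
point. -/
theorem exists_section_of_lft {Ω : Type u} [Field Ω] [IsAlgClosed Ω] {V : Scheme.{u}}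
    (v : V ⟶ Spec (CommRingCat.of Ω)) [LocallyOfFiniteType v] [Nonempty V] :
    ∃ σ : Spec (CommRingCat.of Ω) ⟶ V, σ ≫ v = 𝟙 _ := by
  have : JacobsonSpace V := LocallyOfFiniteType.jacobsonSpace v
  obtain ⟨x, -, hx⟩ := nonempty_inter_closedPoints (X := V) (Z := Set.univ) Set.univ_nonempty
    isOpen_univ.isLocallyClosed
  exact ⟨pointOfClosedPoint v x hx, pointOfClosedPoint_comp v x hx⟩

/-- Injectivity on rational points implies that the diagonal is surjective. -/
theorem surjective_diagonal {k : Type u} [Field k] [IsAlgClosed k] {X Y : Scheme.{u}}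
    (sX : X ⟶ Spec (CommRingCat.of k)) (sY : Y ⟶ Spec (CommRingCat.of k))
    [LocallyOfFiniteType sX] (f : X ⟶ Y) (hf : f ≫ sY = sX) [IsSeparated f]
    (hinj : ∀ a b : Spec (CommRingCat.of k) ⟶ X, a ≫ sX = 𝟙 _ → b ≫ sX = 𝟙 _ →
      a ≫ f = b ≫ f → a = b) :
    Surjective (pullback.diagonal f) := by
  haveI : LocallyOfFiniteType (f ≫ sY) := by rw [hf]; infer_instance
  haveI : LocallyOfFiniteType f := locallyOfFiniteType_of_comp f sY
  refine ⟨fun z => ?_⟩
  by_contra hz
  have hcl : IsClosed (Set.range (pullback.diagonal f)) :=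
    (pullback.diagonal f).isClosedEmbedding.isClosed_range
  let U : (pullback f f).Opens := ⟨(Set.range (pullback.diagonal f))ᶜ, hcl.isOpen_compl⟩
  haveI : Nonempty U := ⟨⟨z, hz⟩⟩
  obtain ⟨σ, hσ⟩ := exists_section_of_lft (U.ι ≫ pullback.fst f f ≫ sX)
  let a : Spec (CommRingCat.of k) ⟶ X := σ ≫ U.ι ≫ pullback.fst f f
  let b : Spec (CommRingCat.of k) ⟶ X := σ ≫ U.ι ≫ pullback.snd f f
  have ha : a ≫ sX = 𝟙 _ := by simpa only [a, Category.assoc] using hσ
  have hab : a ≫ f = b ≫ f := by
    simp only [a, b, Category.assoc]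
    rw [pullback.condition]
  have hb : b ≫ sX = 𝟙 _ := by
    rw [← hf, ← Category.assoc, ← hab, Category.assoc, hf, ha]
  have heq : a = b := hinj a b ha hb hab
  have hσd : σ ≫ U.ι = a ≫ pullback.diagonal f := by
    apply pullback.hom_ext
    · simp only [Category.assoc, pullback.diagonal_fst, Category.comp_id, a]
    · simp only [Category.assoc, pullback.diagonal_snd, Category.comp_id]
      rw [heq]
  obtain ⟨t⟩ : Nonempty (Spec (CommRingCat.of k)) := inferInstance
  have h1 : U.ι (σ t) ∈ Set.range (pullback.diagonal f) := by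
    rw [← Scheme.Hom.comp_apply, hσd, Scheme.Hom.comp_apply]
    exact ⟨_, rfl⟩
  exact (σ t).2 h1

/-- Dominant morphisms preserve generic points. -/
theorem map_genericPoint_of_isDominant {X Y : Scheme.{u}} [IrreducibleSpace X]
    [IrreducibleSpace Y] (g : X ⟶ Y) [IsDominant g] : g (genericPoint X) = genericPoint Y := by
  have h1 : IsGenericPoint (g (genericPoint X)) (closure (g '' (⊤ : Set X))) :=
    (genericPoint_spec X).image g.continuous
  have h2 : closure (g '' (⊤ : Set X)) = ⊤ := by
    rw [Set.top_eq_univ, Set.image_univ]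
    exact g.denseRange.closure_range
  rw [h2] at h1
  exact h1.eq (genericPoint_spec Y)

/-- A universally injective dominant morphism of integral schemes in characteristic zero is
birational. -/
theorem isIso_stalkMap_genericPoint {k : Type u} [Field k] [CharZero k] {X Y : Scheme.{u}}
    (sY : Y ⟶ Spec (CommRingCat.of k)) [IsIntegral X] [IsIntegral Y] (f : X ⟶ Y) [IsDominant f]
    (hpi : (f.residueFieldMap (genericPoint X)).hom.IsPurelyInseparable) :
    IsIso (f.stalkMap (genericPoint X)) := by
  have hη : f (genericPoint X) = genericPoint Y := map_genericPoint_of_isDominant f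
  have hA : IsField (Y.presheaf.stalk (f (genericPoint X))) := by
    rw [hη]
    exact Field.toIsField Y.functionField
  letI : Field (Y.presheaf.stalk (f (genericPoint X))) := hA.toField
  -- characteristic zero
  let ρ : k →+* Y.residueField (f (genericPoint X)) :=
    ((Scheme.ΓSpecIso (CommRingCat.of k)).inv ≫ sY.appTop ≫
      Y.presheaf.germ ⊤ (f (genericPoint X)) trivial ≫ Y.residue (f (genericPoint X))).hom
  haveI : CharZero (Y.residueField (f (genericPoint X))) :=
    charZero_of_injective_ringHom ρ.injective
  have hsurj := surjective_of_isPurelyInseparable _ hpi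
  rw [ConcreteCategory.isIso_iff_bijective]
  refine ⟨(f.stalkMap (genericPoint X)).hom.injective, fun b => ?_⟩
  obtain ⟨a', ha'⟩ := hsurj (X.residue (genericPoint X) b)
  obtain ⟨a, rfl⟩ := Y.residue_surjective (f (genericPoint X)) a'
  refine ⟨a, ?_⟩
  have hinjX : Function.Injective (X.residue (genericPoint X)).hom :=
    (X.residue (genericPoint X)).hom.injective
  apply hinjX
  have := congrArg (fun φ : Y.presheaf.stalk (f (genericPoint X)) ⟶ X.residueField (genericPoint X) => φ.hom a) (Scheme.residue_residueFieldMap f (genericPoint X))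
  simp only [CommRingCat.hom_comp, RingHom.comp_apply] at this
  rw [← ha']
  exact this.symm

/-- Main theorem (S13425). -/
theorem main {k : Type u} [Field k] [IsAlgClosed k] [CharZero k]
    {X Y : Scheme.{u}} (sX : X ⟶ Spec (CommRingCat.of k)) (sY : Y ⟶ Spec (CommRingCat.of k))
    [IsIntegral X] [IsIntegral Y] [IsSeparated sX]
    [LocallyOfFiniteType sX]
    (hY : Pi1.IsNormalScheme Y)
    (f : X ⟶ Y) (hf : f ≫ sY = sX) [IsDominant f]
    (hinj : ∀ a b : Spec (CommRingCat.of k) ⟶ X, a ≫ sX = 𝟙 _ → b ≫ sX = 𝟙 _ →
      a ≫ f = b ≫ f → a = b) :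
    IsOpenImmersion f := by
  haveI : LocallyOfFiniteType (f ≫ sY) := by rw [hf]; infer_instance
  haveI : LocallyOfFiniteType f := locallyOfFiniteType_of_comp f sY
  haveI : IsSeparated (f ≫ sY) := by rw [hf]; infer_instance
  haveI : IsSeparated f := IsSeparated.of_comp f sY
  haveI hd : Surjective (pullback.diagonal f) := surjective_diagonal sX sY f hf hinj
  obtain ⟨hinj', hpi⟩ := ((tfae_universallyInjective f).out 3 2).mp hd
  haveI : LocallyQuasiFinite f := LocallyQuasiFinite.of_injective hinj'
  have hbir := isIso_stalkMap_genericPoint sY f (hpi _)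
  haveI := Groth.Agent.Lib.Helper4.BirLocalIso.isLocalIso_of_birational (fun y => (hY y).2) f hbir
  exact Groth.Agent.Lib.Helper4.BirLocalIso.isOpenImmersion_of_isLocalIso f

end Groth.Agent.Lib.H9InjOpenImm
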