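import Mathlib
import Groth.Agent.Lib.Helper8SchDense

/-! Scheme-theoretic dominance: local on the target (`isSchemeTheoreticallyDominant_of_openCover`); base change of `Spec.map φ` along `Q ×_Λ W → Q` is scheme-theoretically dominant when `φ` has a `Λ`-linear retraction (`dominant_general`) (helper9). -/

set_option autoImplicit false
universe u

open CategoryTheory CategoryTheory.Limits AlgebraicGeometry TensorProduct

namespace Groth.Agent.Lib.H9SchDom1

/-- scheme-theoretic dominance is local on the target. -/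
theorem isSchemeTheoreticallyDominant_of_openCover {X Y : Scheme.{u}} (f : X ⟶ Y) [QuasiCompact f]
    (𝒰 : Y.OpenCover) (h : ∀ i, IsSchemeTheoreticallyDominant (pullback.snd f (𝒰.f i))) :
    IsSchemeTheoreticallyDominant f := by
  rw [isSchemeTheoreticallyDominant_iff]
  refine Scheme.IdealSheafData.ext_of_iSup_eq_top (ι := Σ i, (𝒰.X i).affineOpens)
    (fun p => ⟨(𝒰.f p.1) ''ᵁ p.2.1, p.2.2.image_of_isOpenImmersion _⟩) ?_ ?_
  · rw [eq_top_iff]
    intro y _
    obtain ⟨i, x, rfl⟩ := 𝒰.exists_eq y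
    obtain ⟨_, ⟨V, hV, rfl⟩, hxV, -⟩ :=
      (𝒰.X i).isBasis_affineOpens.exists_subset_of_mem_open (Set.mem_univ x) isOpen_univ
    exact TopologicalSpace.Opens.mem_iSup.mpr ⟨⟨i, ⟨V, hV⟩⟩, ⟨x, hxV, rfl⟩⟩
  · rintro ⟨i, V⟩
    have H : IsPullback (pullback.snd f (𝒰.f i)) (pullback.fst f (𝒰.f i)) (𝒰.f i) f :=
      (IsPullback.of_hasPullback f (𝒰.f i)).flip
    have key := Scheme.ker_ideal_of_isPullback_of_isOpenImmersion f _ _ _ H V
    rw [(h i).ker_eq_bot, Scheme.IdealSheafData.ideal_bot] at key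
    simp only [Scheme.IdealSheafData.ideal_bot, Pi.bot_apply]
    rw [eq_bot_iff]
    intro x hx
    have hbij := ConcreteCategory.bijective_of_isIso ((𝒰.f i).appIso V.1).inv
    obtain ⟨y, rfl⟩ := hbij.2 x
    have hy : y ∈ Ideal.comap ((𝒰.f i).appIso V.1).inv.hom
        (f.ker.ideal ⟨(𝒰.f i) ''ᵁ V.1, V.2.image_of_isOpenImmersion _⟩) := hx
    rw [← key] at hy
    have hy0 : y = 0 := hy
    rw [hy0, map_zero]
    exact Submodule.zero_mem _

variable {Λ RQ RP : Type u} [CommRing Λ] [CommRing RQ] [CommRing RP] [Algebra Λ RQ] [Algebra Λ RP]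

theorem map_injective_of_retraction (φ : RQ →ₐ[Λ] RP) (r : RP →ₗ[Λ] RQ) (hr : ∀ x, r (φ x) = x)
    (C : Type u) [CommRing C] [Algebra Λ C] :
    Function.Injective (Algebra.TensorProduct.map φ (AlgHom.id Λ C)) := by
  have h : ∀ z : RQ ⊗[Λ] C, (LinearMap.rTensor C r) (Algebra.TensorProduct.map φ (AlgHom.id Λ C) z) = z := by
    intro z
    induction z using TensorProduct.induction_on with
    | zero => simp
    | tmul a c => simp [hr]
    | add a b ha hb => rw [map_add, map_add, ha, hb]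
  exact Function.LeftInverse.injective h

/-- affine case. -/
theorem dominant_affine (φ : RQ →ₐ[Λ] RP) (r : RP →ₗ[Λ] RQ) (hr : ∀ x, r (φ x) = x)
    (C : Type u) [CommRing C] [Algebra Λ C] {Q' P' : Scheme.{u}}
    (q₁ : Q' ⟶ Spec (CommRingCat.of RQ)) (q₂ : Q' ⟶ Spec (CommRingCat.of C))
    (hQ : IsPullback q₁ q₂ (Spec.map (CommRingCat.ofHom (algebraMap Λ RQ)))
      (Spec.map (CommRingCat.ofHom (algebraMap Λ C))))
    (p₁ : P' ⟶ Spec (CommRingCat.of RP)) (π : P' ⟶ Q')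
    (hP : IsPullback p₁ π (Spec.map (CommRingCat.ofHom φ.toRingHom)) q₁) :
    IsSchemeTheoreticallyDominant π := by
  have haP : Spec.map (CommRingCat.ofHom φ.toRingHom) ≫ Spec.map (CommRingCat.ofHom (algebraMap Λ RQ)) =
      Spec.map (CommRingCat.ofHom (algebraMap Λ RP)) := by
    rw [← Spec.map_comp, ← CommRingCat.ofHom_comp]
    congr 2
    exact φ.comp_algebraMap
  have hP' : IsPullback p₁ (π ≫ q₂) (Spec.map (CommRingCat.ofHom (algebraMap Λ RP)))
      (Spec.map (CommRingCat.ofHom (algebraMap Λ C))) := by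
    have := hP.paste_vert hQ
    rwa [haP] at this
  let eQ : Q' ≅ Spec (CommRingCat.of (RQ ⊗[Λ] C)) := hQ.isoPullback ≪≫ pullbackSpecIso Λ RQ C
  let eP : P' ≅ Spec (CommRingCat.of (RP ⊗[Λ] C)) := hP'.isoPullback ≪≫ pullbackSpecIso Λ RP C
  have eQ1 : eQ.inv ≫ q₁ = Spec.map (CommRingCat.ofHom
      (Algebra.TensorProduct.includeLeftRingHom : RQ →+* RQ ⊗[Λ] C)) := by
    simp only [eQ, Iso.trans_inv, Category.assoc, IsPullback.isoPullback_inv_fst, pullbackSpecIso_inv_fst]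
  have eQ2 : eQ.inv ≫ q₂ = Spec.map (CommRingCat.ofHom
      (RingHomClass.toRingHom (Algebra.TensorProduct.includeRight : C →ₐ[Λ] RQ ⊗[Λ] C))) := by
    simp only [eQ, Iso.trans_inv, Category.assoc, IsPullback.isoPullback_inv_snd, pullbackSpecIso_inv_snd]
  have eP1 : eP.hom ≫ Spec.map (CommRingCat.ofHom
      (Algebra.TensorProduct.includeLeftRingHom : RP →+* RP ⊗[Λ] C)) = p₁ := by
    simp only [eP, Iso.trans_hom, Category.assoc, pullbackSpecIso_hom_fst, IsPullback.isoPullback_hom_fst]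
  have eP2 : eP.hom ≫ Spec.map (CommRingCat.ofHom
      (RingHomClass.toRingHom (Algebra.TensorProduct.includeRight : C →ₐ[Λ] RP ⊗[Λ] C))) = π ≫ q₂ := by
    simp only [eP, Iso.trans_hom, Category.assoc, pullbackSpecIso_hom_snd, IsPullback.isoPullback_hom_snd]
  let τ : RQ ⊗[Λ] C →+* RP ⊗[Λ] C := (Algebra.TensorProduct.map φ (AlgHom.id Λ C)).toRingHom
  have hπ : π = eP.hom ≫ Spec.map (CommRingCat.ofHom τ) ≫ eQ.inv := by
    apply hQ.hom_ext
    · rw [Category.assoc, Category.assoc, eQ1, ← Spec.map_comp, ← CommRingCat.ofHom_comp, ← hP.w, ← eP1,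
        Category.assoc, ← Spec.map_comp, ← CommRingCat.ofHom_comp]
      congr 3 <;> first | rfl | (ext x; simp [τ])
    · rw [Category.assoc, Category.assoc, eQ2, ← Spec.map_comp, ← CommRingCat.ofHom_comp, ← eP2]
      congr 3 <;> first | rfl | (ext x; simp [τ])
  have hτ : Function.Injective τ := map_injective_of_retraction φ r hr C
  haveI : IsSchemeTheoreticallyDominant (Spec.map (CommRingCat.ofHom τ)) :=
    Groth.Agent.Helper8SchDense.schDominant_Spec_map _ hτ
  rw [hπ]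
  infer_instance

/-- affine case, with a ring map instead of an algebra structure. -/
theorem dominant_affine' (φ : RQ →ₐ[Λ] RP) (r : RP →ₗ[Λ] RQ) (hr : ∀ x, r (φ x) = x)
    (C : CommRingCat.{u}) (ψ : CommRingCat.of Λ ⟶ C) {Q' P' : Scheme.{u}}
    (q₁ : Q' ⟶ Spec (CommRingCat.of RQ)) (q₂ : Q' ⟶ Spec C)
    (hQ : IsPullback q₁ q₂ (Spec.map (CommRingCat.ofHom (algebraMap Λ RQ))) (Spec.map ψ))
    (p₁ : P' ⟶ Spec (CommRingCat.of RP)) (π : P' ⟶ Q')
    (hP : IsPullback p₁ π (Spec.map (CommRingCat.ofHom φ.toRingHom)) q₁) :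
    IsSchemeTheoreticallyDominant π := by
  letI : Algebra Λ C := ψ.hom.toAlgebra
  exact dominant_affine φ r hr C q₁ q₂ hQ p₁ π hP

/-- general case: base change of `Spec.map φ` (with `φ` having a `Λ`-linear retraction) along `Q ×_Λ W → Q`
for an arbitrary `Λ`-scheme `W` is scheme-theoretically dominant. -/
theorem dominant_general (φ : RQ →ₐ[Λ] RP) (r : RP →ₗ[Λ] RQ) (hr : ∀ x, r (φ x) = x)
    {W Q' P' : Scheme.{u}} (w : W ⟶ Spec (CommRingCat.of Λ))
    (q₁ : Q' ⟶ Spec (CommRingCat.of RQ)) (q₂ : Q' ⟶ W)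
    (hQ : IsPullback q₁ q₂ (Spec.map (CommRingCat.ofHom (algebraMap Λ RQ))) w)
    (p₁ : P' ⟶ Spec (CommRingCat.of RP)) (π : P' ⟶ Q')
    (hP : IsPullback p₁ π (Spec.map (CommRingCat.ofHom φ.toRingHom)) q₁) :
    IsSchemeTheoreticallyDominant π := by
  haveI : QuasiCompact π := MorphismProperty.of_isPullback (P := @QuasiCompact) hP inferInstance
  let 𝒲 := W.affineOpenCover
  let 𝒱 : Q'.OpenCover := 𝒲.openCover.pullback₁ q₂
  refine isSchemeTheoreticallyDominant_of_openCover π 𝒱 (fun i => ?_)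
  let ψ : CommRingCat.of Λ ⟶ 𝒲.X i := Spec.preimage (𝒲.f i ≫ w)
  have hψ : Spec.map ψ = 𝒲.f i ≫ w := Spec.map_preimage _
  have hQi : IsPullback (pullback.fst q₂ (𝒲.f i) ≫ q₁) (pullback.snd q₂ (𝒲.f i))
      (Spec.map (CommRingCat.ofHom (algebraMap Λ RQ))) (Spec.map ψ) := by
    have := (IsPullback.of_hasPullback q₂ (𝒲.f i)).paste_horiz hQ
    rw [← hψ] at this
    exact this
  have hPi : IsPullback (pullback.fst π (pullback.fst q₂ (𝒲.f i)) ≫ p₁)
      (pullback.snd π (pullback.fst q₂ (𝒲.f i)))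
      (Spec.map (CommRingCat.ofHom φ.toRingHom)) (pullback.fst q₂ (𝒲.f i) ≫ q₁) :=
    (IsPullback.of_hasPullback π (pullback.fst q₂ (𝒲.f i))).paste_horiz hP
  exact dominant_affine' φ r hr (𝒲.X i) ψ _ _ hQi _ _ hPi

end Groth.Agent.Lib.H9SchDom1
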