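import Groth.Prelude.Def_GmAct
import Mathlib.AlgebraicGeometry.Morphisms.Separated
import Groth.Agent.Lib.H9SchDom1
import Groth.Agent.Lib.Helper8GeomQuotSep
import Groth.Agent.Lib.Helper8SchDense
import Groth.Agent.Lib.Helper12Act

/-! `G_m × T → A¹ × T` is scheme-theoretically dominant (`dominant_jj_whiskerRight`, also after `G_m ◁ _`); `G_m`-equivariant families `A¹ × T → X` into a separated `X` are determined by the restriction to `{1} × T` (`partA`) and a map extending the orbit family is equivariant (`partB`) — ThetaS.Line / lineAction conventions (helper9). -/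

set_option autoImplicit false
universe u

open CategoryTheory CategoryTheory.Limits AlgebraicGeometry TensorProduct
open scoped Polynomial

namespace Groth.Agent.Lib.H9Instab1

section Algebra

variable (R : Type u) [CommRing R]

/-- the retraction `R[z,z⁻¹] → R[x]` (drop negative powers). -/
noncomputable def retr : ThetaS.Lau R →ₗ[R] R[X] :=
  (Finsupp.linearCombination R (fun m : Multiplicative ℤ =>
      if 0 ≤ Multiplicative.toAdd m then (Polynomial.X : R[X]) ^ (Multiplicative.toAdd m).toNat else 0)) ∘ₗ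
    (MonoidAlgebra.coeffLinearEquiv R).toLinearMap

lemma retr_single (m : Multiplicative ℤ) (c : R) :
    retr R (MonoidAlgebra.single m c) =
      c • (if 0 ≤ Multiplicative.toAdd m then (Polynomial.X : R[X]) ^ (Multiplicative.toAdd m).toNat else 0) := by
  change Finsupp.linearCombination R _ ((MonoidAlgebra.single m c).coeff) = _
  rw [MonoidAlgebra.coeff_single, Finsupp.linearCombination_single]

lemma retr_map (p : R[X]) : retr R (ThetaS.linePt (ThetaS.zPow R 1) p) = p := by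
  induction p using Polynomial.induction_on' with
  | add p q hp hq => rw [map_add, map_add, hp, hq]
  | monomial n a =>
    have h1 : ThetaS.linePt (ThetaS.zPow R 1) (Polynomial.monomial n a) =
        MonoidAlgebra.single (Multiplicative.ofAdd (n : ℤ)) a := by
      change Polynomial.aeval (ThetaS.zPow R 1) (Polynomial.monomial n a) = _
      rw [Polynomial.aeval_monomial, MonoidAlgebra.single_pow, one_pow]
      rw [Algebra.algebraMap_eq_smul_one, smul_mul_assoc, _root_.one_mul, MonoidAlgebra.smul_single,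
        smul_eq_mul, _root_.mul_one, ← ofAdd_nsmul]
      simp
    rw [h1, retr_single]
    simp [Polynomial.smul_eq_C_mul, Polynomial.C_mul_X_pow_eq_monomial]

end Algebra

section Geometry

open MonoidalCategory CartesianMonoidalCategory Groth.Agent.Lib.H9SchDom1

variable (R : Type u) [CommRing R]

/-- the inclusion `G_m → A¹`. -/
noncomputable abbrev jj : ThetaS.Gm R ⟶ ThetaS.Line R := CoactBr.pt (ThetaS.linePt (ThetaS.zPow R 1))

theorem dominant_jj_whiskerRight (T : Over (Spec (CommRingCat.of R))) :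
    IsSchemeTheoreticallyDominant ((jj R) ▷ T).left := by
  have sq1 := Groth.Agent.Lib.Helper8GeomQuotSep.isPullback_whiskerRight (jj R) T
  have hQ : IsPullback (fst (ThetaS.Line R) T).left (snd (ThetaS.Line R) T).left
      (Spec.map (CommRingCat.ofHom (algebraMap R R[X]))) T.hom :=
    IsPullback.of_hasPullback (ThetaS.Line R).hom T.hom
  exact dominant_general (ThetaS.linePt (ThetaS.zPow R 1)) (retr R) (retr_map R) T.hom _ _ hQ _ _ sq1.flip

end Geometry

section Main

open MonoidalCategory CartesianMonoidalCategory MonObj Groth.Agent.Lib.Helper12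

variable (R : Type u) [CommRing R]

/-- `j(g) = g · j(1)`. -/
theorem orbit_one :
    lift (𝟙 (ThetaS.Gm R)) ((1 : ThetaS.Gm R ⟶ ThetaS.Gm R) ≫ jj R) ≫ (ThetaS.lineAction R).act = jj R := by
  have h := ThetaS.lineAction_pt (R := R) (AlgHom.id R (ThetaS.Lau R)) (1 : ThetaS.Lau R)
  rw [CoactBr.pt_id] at h
  have h1 : (1 : ThetaS.Gm R ⟶ ThetaS.Gm R) ≫ jj R = CoactBr.pt (ThetaS.linePt (1 : ThetaS.Lau R)) := by
    have e : (1 : ThetaS.Gm R ⟶ ThetaS.Gm R) =
        CoactBr.pt ((Algebra.ofId R (ThetaS.Lau R)).comp (Bialgebra.counitAlgHom R (ThetaS.Lau R))) :=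
      CoactBr.one_eq_pt
    rw [e, jj, ← CoactBr.pt_comp]
    congr 1
    apply Polynomial.algHom_ext
    simp
    rfl
  rw [h1]
  rw [h]
  simp

theorem orbit_pt {P : Over (Spec (CommRingCat.of R))} (g : P ⟶ ThetaS.Gm R) :
    lift g ((1 : P ⟶ ThetaS.Gm R) ≫ jj R) ≫ (ThetaS.lineAction R).act = g ≫ jj R := by
  have h : lift g ((1 : P ⟶ ThetaS.Gm R) ≫ jj R) =
      g ≫ lift (𝟙 (ThetaS.Gm R)) ((1 : ThetaS.Gm R ⟶ ThetaS.Gm R) ≫ jj R) := by
    rw [comp_lift, Category.comp_id, ← Category.assoc, MonObj.comp_one]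
  rw [h, Category.assoc, orbit_one]

variable {R}
variable {X : Over (Spec (CommRingCat.of R))} (a : AlgGrp.Action (ThetaS.Gm R) X)
  {T : Over (Spec (CommRingCat.of R))}

/-- point form of equivariance. -/
theorem equiv_pt (u : ThetaS.Line R ⊗ T ⟶ X)
    (hu : (α_ (ThetaS.Gm R) (ThetaS.Line R) T).inv ≫ ((ThetaS.lineAction R).act ▷ T) ≫ u =
      (ThetaS.Gm R ◁ u) ≫ a.act)
    {P : Over (Spec (CommRingCat.of R))} (g : P ⟶ ThetaS.Gm R) (l : P ⟶ ThetaS.Line R) (t : P ⟶ T) :
    lift (lift g l ≫ (ThetaS.lineAction R).act) t ≫ u = lift g (lift l t ≫ u) ≫ a.act := by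
  have h := congrArg (fun m => lift g (lift l t) ≫ m) hu
  beta_reduce at h
  have e1 : lift g (lift l t) ≫ (α_ (ThetaS.Gm R) (ThetaS.Line R) T).inv ≫
      ((ThetaS.lineAction R).act ▷ T) = lift (lift g l ≫ (ThetaS.lineAction R).act) t := by
    apply CartesianMonoidalCategory.hom_ext <;> simp
  have e2 : lift g (lift l t) ≫ (ThetaS.Gm R ◁ u) = lift g (lift l t ≫ u) := by
    apply CartesianMonoidalCategory.hom_ext <;> simp
  rw [← e1, ← e2]
  simpa only [Category.assoc] using h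

/-- point form of the orbit hypothesis. -/
theorem orbit_hyp_pt (x : T ⟶ X) (u : ThetaS.Line R ⊗ T ⟶ X)
    (hx : ((jj R) ▷ T) ≫ u = (ThetaS.Gm R ◁ x) ≫ a.act)
    {P : Over (Spec (CommRingCat.of R))} (g : P ⟶ ThetaS.Gm R) (t : P ⟶ T) :
    lift (g ≫ jj R) t ≫ u = lift g (t ≫ x) ≫ a.act := by
  have h := congrArg (fun m => lift g t ≫ m) hx
  beta_reduce at h
  have e1 : lift g t ≫ ((jj R) ▷ T) = lift (g ≫ jj R) t := by
    apply CartesianMonoidalCategory.hom_ext <;> simp
  have e2 : lift g t ≫ (ThetaS.Gm R ◁ x) = lift g (t ≫ x) := by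
    apply CartesianMonoidalCategory.hom_ext <;> simp
  rw [← e1, ← e2]
  simpa only [Category.assoc] using h

theorem partA [IsSeparated X.hom] (u v : ThetaS.Line R ⊗ T ⟶ X)
    (hu : (α_ (ThetaS.Gm R) (ThetaS.Line R) T).inv ≫ ((ThetaS.lineAction R).act ▷ T) ≫ u =
      (ThetaS.Gm R ◁ u) ≫ a.act)
    (hv : (α_ (ThetaS.Gm R) (ThetaS.Line R) T).inv ≫ ((ThetaS.lineAction R).act ▷ T) ≫ v =
      (ThetaS.Gm R ◁ v) ≫ a.act)
    (huv : lift ((1 : T ⟶ ThetaS.Gm R) ≫ jj R) (𝟙 T) ≫ u = lift ((1 : T ⟶ ThetaS.Gm R) ≫ jj R) (𝟙 T) ≫ v) :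
    u = v := by
  have key : ∀ w : ThetaS.Line R ⊗ T ⟶ X,
      (α_ (ThetaS.Gm R) (ThetaS.Line R) T).inv ≫ ((ThetaS.lineAction R).act ▷ T) ≫ w =
        (ThetaS.Gm R ◁ w) ≫ a.act →
      ((jj R) ▷ T) ≫ w = lift (fst (ThetaS.Gm R) T)
        (snd (ThetaS.Gm R) T ≫ lift ((1 : T ⟶ ThetaS.Gm R) ≫ jj R) (𝟙 T) ≫ w) ≫ a.act := by
    intro w hw
    have h := equiv_pt a w hw (fst (ThetaS.Gm R) T)
      ((1 : ThetaS.Gm R ⊗ T ⟶ ThetaS.Gm R) ≫ jj R) (snd (ThetaS.Gm R) T)
    rw [orbit_pt] at h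
    have e1 : lift (fst (ThetaS.Gm R) T ≫ jj R) (snd (ThetaS.Gm R) T) = (jj R) ▷ T := by
      apply CartesianMonoidalCategory.hom_ext <;> simp
    have e2 : lift ((1 : ThetaS.Gm R ⊗ T ⟶ ThetaS.Gm R) ≫ jj R) (snd (ThetaS.Gm R) T) =
        snd (ThetaS.Gm R) T ≫ lift ((1 : T ⟶ ThetaS.Gm R) ≫ jj R) (𝟙 T) := by
      rw [comp_lift, Category.comp_id, ← Category.assoc, MonObj.comp_one]
    rw [e1, e2, Category.assoc] at h
    exact h
  have hjj : ((jj R) ▷ T) ≫ u = ((jj R) ▷ T) ≫ v := by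
    rw [key u hu, key v hv, huv]
  haveI := dominant_jj_whiskerRight R T
  refine Groth.Agent.Helper8SchDense.ext_of_schDominant u v ((jj R) ▷ T).left ?_
  have := congrArg CommaMorphism.left hjj
  simpa only [Over.comp_left] using this

theorem flat_Gm_hom (R : Type u) [CommRing R] : Flat (ThetaS.Gm R).hom := by
  change Flat (Spec.map (CommRingCat.ofHom (algebraMap R (ThetaS.Lau R))))
  rw [Flat.SpecMap_iff]
  change (algebraMap R (ThetaS.Lau R)).Flat
  rw [RingHom.flat_algebraMap_iff]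
  infer_instance

theorem dominant_whiskerLeft_jj (R : Type u) [CommRing R] (T : Over (Spec (CommRingCat.of R))) :
    IsSchemeTheoreticallyDominant (ThetaS.Gm R ◁ ((jj R) ▷ T)).left := by
  have sq := Groth.Agent.Lib.Helper8GeomQuotSep.isPullback_whiskerLeft (ThetaS.Gm R) ((jj R) ▷ T)
  haveI := dominant_jj_whiskerRight R T
  haveI : QuasiCompact ((jj R) ▷ T).left := by
    have sq1 := Groth.Agent.Lib.Helper8GeomQuotSep.isPullback_whiskerRight (jj R) T
    have : QuasiCompact (jj R).left := by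
      change QuasiCompact (Spec.map _)
      infer_instance
    exact MorphismProperty.of_isPullback (P := @QuasiCompact) sq1.flip this
  haveI : Flat (snd (ThetaS.Gm R) (ThetaS.Line R ⊗ T)).left := by
    haveI := flat_Gm_hom R
    change Flat (pullback.snd (ThetaS.Gm R).hom (ThetaS.Line R ⊗ T).hom)
    infer_instance
  exact IsSchemeTheoreticallyDominant.of_isPullback sq.flip

theorem partB [IsSeparated X.hom] (x : T ⟶ X) (u : ThetaS.Line R ⊗ T ⟶ X)
    (hx : ((jj R) ▷ T) ≫ u = (ThetaS.Gm R ◁ x) ≫ a.act) :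
    (α_ (ThetaS.Gm R) (ThetaS.Line R) T).inv ≫ ((ThetaS.lineAction R).act ▷ T) ≫ u =
      (ThetaS.Gm R ◁ u) ≫ a.act := by
  haveI := dominant_whiskerLeft_jj R T
  refine Groth.Agent.Helper8SchDense.ext_of_schDominant _ _ (ThetaS.Gm R ◁ ((jj R) ▷ T)).left ?_
  rw [← Over.comp_left, ← Over.comp_left]
  congr 1
  -- points
  let P := ThetaS.Gm R ⊗ (ThetaS.Gm R ⊗ T)
  let g : P ⟶ ThetaS.Gm R := fst _ _
  let h : P ⟶ ThetaS.Gm R := snd _ _ ≫ fst _ _
  let t : P ⟶ T := snd _ _ ≫ snd _ _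
  have hπ : ThetaS.Gm R ◁ ((jj R) ▷ T) = lift g (lift (h ≫ jj R) t) := by
    apply CartesianMonoidalCategory.hom_ext
    · simp [g]
    · apply CartesianMonoidalCategory.hom_ext <;> simp [h, t]
  have e1 : lift g (lift (h ≫ jj R) t) ≫ (α_ (ThetaS.Gm R) (ThetaS.Line R) T).inv ≫
      ((ThetaS.lineAction R).act ▷ T) = lift (lift g (h ≫ jj R) ≫ (ThetaS.lineAction R).act) t := by
    apply CartesianMonoidalCategory.hom_ext <;> simp
  have e2 : lift g (lift (h ≫ jj R) t) ≫ (ThetaS.Gm R ◁ u) = lift g (lift (h ≫ jj R) t ≫ u) := by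
    apply CartesianMonoidalCategory.hom_ext <;> simp
  have e3 : lift g (h ≫ jj R) ≫ (ThetaS.lineAction R).act = (g * h) ≫ jj R := by
    rw [← orbit_pt R h, ← act_mul, orbit_pt]
  have l1 : lift g (lift (h ≫ jj R) t) ≫ (α_ (ThetaS.Gm R) (ThetaS.Line R) T).inv ≫
      ((ThetaS.lineAction R).act ▷ T) ≫ u = lift (g * h) (t ≫ x) ≫ a.act := by
    rw [← Category.assoc, ← Category.assoc, Category.assoc (lift g _), e1, e3, orbit_hyp_pt a x u hx]
  have l2 : lift g (lift (h ≫ jj R) t) ≫ (ThetaS.Gm R ◁ u) ≫ a.act = lift (g * h) (t ≫ x) ≫ a.act := by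
    rw [← Category.assoc, e2, orbit_hyp_pt a x u hx]
    exact (act_mul a g h (t ≫ x)).symm
  rw [hπ, l1, l2]

end Main

end Groth.Agent.Lib.H9Instab1
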