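import Mathlib

/-!
# Jacobi sums of multiplicative characters of `ZMod p` with values in an arbitrary commutative ring

`jacobi_mul`: if `∑ α = 0` and `∑ β = 0` then `J(α, β) * J(α⁻¹, β⁻¹) = p - ∑ (α * β)`.
-/

set_option autoImplicit false
universe u

namespace Groth.Agent.H9Jacobi

open Finset

variable {R : Type u} [CommRing R] {p : ℕ} [Fact p.Prime]

/-- the Möbius reindexing `b ↦ (1 - s b) / (1 - b)` -/
lemma mobius_sum (β : MulChar (ZMod p) R) (s : ZMod p) (hs : s ≠ 1) :
    ∑ b ∈ (univ : Finset (ZMod p)).filter (fun b => b ≠ 0 ∧ b ≠ 1), β ((1 - s * b) / (1 - b)) =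
      ∑ t ∈ (univ : Finset (ZMod p)).filter (fun t => t ≠ 1 ∧ t ≠ s), β t := by
  refine Finset.sum_nbij' (fun b => (1 - s * b) / (1 - b)) (fun t => (t - 1) / (t - s)) ?_ ?_ ?_ ?_ ?_
  · intro b hb
    simp only [mem_filter, mem_univ, true_and] at hb ⊢
    obtain ⟨hb0, hb1⟩ := hb
    have h1b : (1 - b) ≠ 0 := sub_ne_zero.mpr (Ne.symm hb1)
    constructor
    · intro h
      rw [div_eq_iff h1b, one_mul] at h
      have : b * (1 - s) = 0 := by linear_combination h
      rcases mul_eq_zero.mp this with h' | h'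
      · exact hb0 h'
      · exact hs (sub_eq_zero.mp h').symm
    · intro h
      rw [div_eq_iff h1b] at h
      have : s = 1 := by linear_combination -h
      exact hs this
  · intro t ht
    simp only [mem_filter, mem_univ, true_and] at ht ⊢
    obtain ⟨ht1, hts⟩ := ht
    have h1 : (t - s) ≠ 0 := sub_ne_zero.mpr hts
    constructor
    · intro h
      rw [div_eq_zero_iff] at h
      rcases h with h | h
      · exact ht1 (sub_eq_zero.mp h)
      · exact h1 h
    · intro h
      rw [div_eq_iff h1, one_mul] at h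
      have : s = 1 := by linear_combination h
      exact hs this
  · intro b hb
    simp only [mem_filter, mem_univ, true_and] at hb
    obtain ⟨hb0, hb1⟩ := hb
    have h1b : (1 - b) ≠ 0 := sub_ne_zero.mpr (Ne.symm hb1)
    have hs1 : (1 - s) ≠ 0 := sub_ne_zero.mpr (Ne.symm hs)
    have h2 : (1 - s * b) / (1 - b) - s = (1 - s) / (1 - b) := by
      field_simp
      ring
    have h3 : (1 - s * b) / (1 - b) - 1 = b * (1 - s) / (1 - b) := by
      field_simp
      ring
    simp only [h2, h3]
    field_simp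
  · intro t ht
    simp only [mem_filter, mem_univ, true_and] at ht
    obtain ⟨ht1, hts⟩ := ht
    have h1 : (t - s) ≠ 0 := sub_ne_zero.mpr hts
    have hs1 : (1 - s) ≠ 0 := sub_ne_zero.mpr (Ne.symm hs)
    have h2 : 1 - (t - 1) / (t - s) = (1 - s) / (t - s) := by
      field_simp
      ring
    have h3 : 1 - s * ((t - 1) / (t - s)) = t * (1 - s) / (t - s) := by
      field_simp
      ring
    simp only [h2, h3]
    field_simp
  · intro b _
    rfl

lemma sum_filter_ne_two (β : MulChar (ZMod p) R) (hβ : ∑ a : ZMod p, β a = 0) (s : ZMod p)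
    (hs : s ≠ 1) :
    ∑ t ∈ (univ : Finset (ZMod p)).filter (fun t => t ≠ 1 ∧ t ≠ s), β t = -1 - β s := by
  have h1 : (univ : Finset (ZMod p)).filter (fun t => t ≠ 1 ∧ t ≠ s) = (univ.erase 1).erase s := by
    ext t
    simp only [mem_filter, mem_univ, true_and, mem_erase, and_true]
    tauto
  have h2 : s ∈ (univ : Finset (ZMod p)).erase 1 := by simp [hs]
  have h3 := Finset.add_sum_erase (univ.erase (1 : ZMod p)) (fun t => β t) h2
  have h4 := Finset.add_sum_erase (univ : Finset (ZMod p)) (fun t => β t) (mem_univ 1)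
  rw [h1]
  simp only [map_one] at h3 h4
  rw [hβ] at h4
  linear_combination h3 + h4

lemma card_filter_ne_zero_one :
    (((univ : Finset (ZMod p)).filter (fun b => b ≠ 0 ∧ b ≠ 1)).card : R) = (p : R) - 2 := by
  have h1 : (univ : Finset (ZMod p)).filter (fun b => b ≠ 0 ∧ b ≠ 1) = (univ.erase 0).erase 1 := by
    ext t
    simp only [mem_filter, mem_univ, true_and, mem_erase, and_true]
    tauto
  have h2 : (1 : ZMod p) ∈ (univ : Finset (ZMod p)).erase 0 := by simp
  have hp2 : 2 ≤ p := (Fact.out : p.Prime).two_le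
  rw [h1, card_erase_of_mem h2, card_erase_of_mem (mem_univ _), card_univ, ZMod.card]
  have : p - 1 - 1 = p - 2 := by omega
  rw [this, Nat.cast_sub hp2]
  norm_num

/-- The product of a Jacobi sum with the conjugate one, over an arbitrary commutative ring. -/
theorem jacobi_mul (α β : MulChar (ZMod p) R) (hα : ∑ a : ZMod p, α a = 0)
    (hβ : ∑ a : ZMod p, β a = 0) :
    jacobiSum α β * jacobiSum α⁻¹ β⁻¹ = (p : R) - ∑ a : ZMod p, (α * β) a := by
  classical
  set S := (univ : Finset (ZMod p)).filter (fun b => b ≠ 0 ∧ b ≠ 1) with hS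
  -- step 1: rewrite the product as a double sum over `b ∈ S` and `s`
  have step1 : jacobiSum α β * jacobiSum α⁻¹ β⁻¹ =
      ∑ b ∈ S, ∑ s : ZMod p, α s * β ((1 - s * b) / (1 - b)) := by
    unfold jacobiSum
    rw [Finset.mul_sum]
    have hzero : ∀ b : ZMod p, b ∉ S →
        (∑ a : ZMod p, α a * β (1 - a)) * (α⁻¹ b * β⁻¹ (1 - b)) = 0 := by
      intro b hb
      simp only [hS, mem_filter, mem_univ, true_and, not_and_or, not_not] at hb
      rcases hb with rfl | rfl
      · simp [MulChar.inv_apply', MulChar.map_zero]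
      · simp [MulChar.inv_apply', MulChar.map_zero]
    rw [← Finset.sum_subset (subset_univ S) (fun b _ hb => hzero b hb)]
    refine Finset.sum_congr rfl fun b hb => ?_
    simp only [hS, mem_filter, mem_univ, true_and] at hb
    obtain ⟨hb0, hb1⟩ := hb
    have h1b : (1 - b) ≠ 0 := sub_ne_zero.mpr (Ne.symm hb1)
    rw [Finset.sum_mul]
    rw [← Equiv.sum_comp (Equiv.mulRight₀ b hb0)]
    refine Finset.sum_congr rfl fun s _ => ?_
    simp only [Equiv.mulRight₀_apply, MulChar.inv_apply']
    rw [map_mul, div_eq_mul_inv, map_mul]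
    have : α b * α b⁻¹ = 1 := by rw [← map_mul, mul_inv_cancel₀ hb0, map_one]
    linear_combination (α s * β (1 - s * b) * β (1 - b)⁻¹) * this
  -- step 2: exchange the sums and evaluate the inner sum
  have step2 : ∀ s : ZMod p, ∑ b ∈ S, β ((1 - s * b) / (1 - b)) =
      if s = 1 then (p : R) - 2 else -1 - β s := by
    intro s
    split_ifs with hs
    · subst hs
      have : ∀ b ∈ S, β ((1 - 1 * b) / (1 - b)) = 1 := by
        intro b hb
        simp only [hS, mem_filter, mem_univ, true_and] at hb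
        have h1b : (1 - b) ≠ 0 := sub_ne_zero.mpr (Ne.symm hb.2)
        rw [one_mul, div_self h1b, map_one]
      rw [Finset.sum_congr rfl this, Finset.sum_const, nsmul_eq_mul, mul_one,
        card_filter_ne_zero_one]
    · rw [mobius_sum β s hs, sum_filter_ne_two β hβ s hs]
  rw [step1, Finset.sum_comm]
  simp only [← Finset.mul_sum, step2]
  have h3 : ∀ s : ZMod p, α s * (if s = 1 then (p : R) - 2 else -1 - β s) =
      (-(α s) - (α * β) s) + (if s = 1 then (p : R) else 0) := by
    intro s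
    split_ifs with hs
    · subst hs
      simp only [map_one]
      ring
    · rw [MulChar.mul_apply]
      ring
  simp only [h3]
  rw [Finset.sum_add_distrib, Finset.sum_sub_distrib, Finset.sum_neg_distrib, hα,
    Finset.sum_ite_eq' univ (1 : ZMod p)]
  simp only [mem_univ, if_true]
  ring

/-- power sums over `ZMod p` for exponents below `2 (p - 1)` -/
lemma sum_pow_zmod (e : ℕ) (he0 : 0 < e) (he : e < 2 * (p - 1)) :
    ∑ x : ZMod p, x ^ e = if e = p - 1 then -1 else 0 := by
  have hp2 : 2 ≤ p := (Fact.out : p.Prime).two_le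
  by_cases h1 : e < p - 1
  · rw [if_neg (by omega)]
    have := FiniteField.sum_pow_lt_card_sub_one (ZMod p) e (by rwa [ZMod.card])
    exact this
  · have key : ∀ x : ZMod p, x ≠ 0 → x ^ e = x ^ (e - (p - 1)) := by
      intro x hx
      have : e = (e - (p - 1)) + (p - 1) := by omega
      conv_lhs => rw [this, pow_add, ZMod.pow_card_sub_one_eq_one hx, mul_one]
    by_cases h2 : e = p - 1
    · rw [if_pos h2]
      have h3 : ∀ x : ZMod p, x ^ e = 1 - if x = 0 then 1 else 0 := by
        intro x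
        split_ifs with hx
        · subst hx
          rw [zero_pow (by omega)]
          ring
        · rw [h2, ZMod.pow_card_sub_one_eq_one hx]
          ring
      simp only [h3]
      rw [Finset.sum_sub_distrib, Finset.sum_ite_eq' univ (0 : ZMod p)]
      simp
    · rw [if_neg h2]
      have h3 : ∀ x : ZMod p, x ^ e = x ^ (e - (p - 1)) := by
        intro x
        by_cases hx : x = 0
        · subst hx
          rw [zero_pow (by omega), zero_pow (by omega)]
        · exact key x hx
      simp only [h3]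
      have := FiniteField.sum_pow_lt_card_sub_one (ZMod p) (e - (p - 1))
        (by rw [ZMod.card]; omega)
      exact this

/-- `∑ a, a^(p-2) (1-a)^n = n` for `n ≤ p - 2`. -/
lemma sum_pow_mul_one_sub_pow (hp3 : 3 ≤ p) (n : ℕ) (hn : n ≤ p - 2) :
    ∑ a : ZMod p, a ^ (p - 2) * (1 - a) ^ n = (n : ZMod p) := by
  have h1 : ∀ a : ZMod p, a ^ (p - 2) * (1 - a) ^ n =
      ∑ m ∈ range (n + 1), ((-1) ^ m * (n.choose m : ZMod p)) * a ^ (p - 2 + m) := by
    intro a
    have : (1 - a) = (-a + 1) := by ring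
    rw [this, add_pow, Finset.mul_sum]
    refine Finset.sum_congr rfl fun m _ => ?_
    rw [one_pow, mul_one, neg_pow, pow_add]
    ring
  simp only [h1]
  rw [Finset.sum_comm]
  simp only [← Finset.mul_sum]
  have h2 : ∀ m ∈ range (n + 1), ((-1) ^ m * (n.choose m : ZMod p)) * ∑ a : ZMod p, a ^ (p - 2 + m) =
      if m = 1 then (n : ZMod p) else 0 := by
    intro m hm
    rw [mem_range] at hm
    rw [sum_pow_zmod (p - 2 + m) (by omega) (by omega)]
    by_cases hm1 : m = 1
    · subst hm1
      rw [if_pos (by omega), if_pos rfl]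
      simp
    · rw [if_neg (by omega), if_neg hm1, mul_zero]
  rw [Finset.sum_congr rfl h2, Finset.sum_ite_eq' (range (n + 1)) 1]
  by_cases hn0 : n = 0
  · subst hn0
    simp
  · rw [if_pos (by rw [mem_range]; omega)]

/-- Congruence for the Jacobi sum `J(X⁻¹, X⁻ᵏ)` of a character congruent to the identity mod `p`. -/
theorem jacobi_congr (X : MulChar (ZMod p) R)
    (hX : ∀ b : ZMod p, X b - ((b.val : ℕ) : R) ∈ Ideal.span ({(p : R)} : Set R))
    (hp3 : 3 ≤ p) (k : ℕ) (hk1 : 1 ≤ k) (hk2 : k ≤ p - 2) :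
    jacobiSum X⁻¹ (X⁻¹ ^ k) + ((k : R) + 1) ∈ Ideal.span ({(p : R)} : Set R) := by
  have hinv : ∀ a : ZMod p, a⁻¹ = a ^ (p - 2) := by
    intro a
    by_cases ha : a = 0
    · subst ha
      rw [inv_zero, zero_pow (by omega)]
    · apply inv_eq_of_mul_eq_one_left
      rw [← pow_succ, show p - 2 + 1 = p - 1 by omega, ZMod.pow_card_sub_one_eq_one ha]
  have h1 : ∀ a : ZMod p, X⁻¹ a = X (a ^ (p - 2)) := by
    intro a
    rw [MulChar.inv_apply', hinv]
  have h2 : ∀ a : ZMod p, (X⁻¹ ^ k) a = X (a ^ (p - 1 - k)) := by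
    intro a
    rw [MulChar.pow_apply' _ (by omega), MulChar.inv_apply', ← map_pow]
    congr 1
    by_cases ha : a = 0
    · subst ha
      rw [inv_zero, zero_pow (by omega), zero_pow (by omega)]
    · rw [inv_pow]
      apply inv_eq_of_mul_eq_one_left
      rw [← pow_add, show p - 1 - k + k = p - 1 by omega, ZMod.pow_card_sub_one_eq_one ha]
  set b : ZMod p → ZMod p := fun a => a ^ (p - 2) * (1 - a) ^ (p - 1 - k) with hb
  have hJ : jacobiSum X⁻¹ (X⁻¹ ^ k) = ∑ a : ZMod p, X (b a) := by
    unfold jacobiSum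
    refine Finset.sum_congr rfl fun a _ => ?_
    rw [h1, h2, ← map_mul]
  set N : ℕ := ∑ a : ZMod p, (b a).val with hN
  have hA : jacobiSum X⁻¹ (X⁻¹ ^ k) - (N : R) ∈ Ideal.span ({(p : R)} : Set R) := by
    rw [hJ, hN, Nat.cast_sum, ← Finset.sum_sub_distrib]
    exact Ideal.sum_mem _ fun a _ => hX (b a)
  have hB : (N : R) + ((k : R) + 1) ∈ Ideal.span ({(p : R)} : Set R) := by
    have hdvd : p ∣ N + k + 1 := by
      rw [← ZMod.natCast_eq_zero_iff]
      push_cast
      rw [hN, Nat.cast_sum]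
      simp only [ZMod.natCast_zmod_val]
      rw [sum_pow_mul_one_sub_pow hp3 (p - 1 - k) (by omega)]
      have : ((p - 1 - k : ℕ) : ZMod p) + (k : ZMod p) + 1 = ((p - 1 - k + k + 1 : ℕ) : ZMod p) := by
        push_cast
        ring
      rw [this, show p - 1 - k + k + 1 = p by omega, ZMod.natCast_self]
    obtain ⟨c, hc⟩ := hdvd
    rw [Ideal.mem_span_singleton]
    refine ⟨(c : R), ?_⟩
    have : ((N + k + 1 : ℕ) : R) = ((p * c : ℕ) : R) := by rw [hc]
    push_cast at this
    linear_combination this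
  have := Ideal.add_mem _ hA hB
  convert this using 1
  ring

/-- The Jacobi sums `J(X⁻¹, X⁻ᵏ)`, `1 ≤ k ≤ p - 2`, are units. -/
theorem jacobi_isUnit (X : MulChar (ZMod p) R)
    (hX : ∀ b : ZMod p, X b - ((b.val : ℕ) : R) ∈ Ideal.span ({(p : R)} : Set R))
    (hsum : ∀ i : ℕ, 0 < i → i < p - 1 → ∑ a : ZMod p, (X⁻¹ ^ i) a = 0)
    (hp3 : 3 ≤ p) (k : ℕ) (hk1 : 1 ≤ k) (hk2 : k ≤ p - 2) :
    IsUnit (jacobiSum X⁻¹ (X⁻¹ ^ k)) := by
  have hα : ∑ a : ZMod p, X⁻¹ a = 0 := by
    have := hsum 1 (by omega) (by omega)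
    rwa [pow_one] at this
  have hβ : ∑ a : ZMod p, (X⁻¹ ^ k) a = 0 := hsum k (by omega) (by omega)
  have hmul := jacobi_mul X⁻¹ (X⁻¹ ^ k) hα hβ
  have hαβ : X⁻¹ * X⁻¹ ^ k = X⁻¹ ^ (k + 1) := by rw [pow_succ, mul_comm]
  rw [hαβ] at hmul
  by_cases hk : k + 1 < p - 1
  · rw [hsum (k + 1) (by omega) hk, sub_zero] at hmul
    have hcongr := jacobi_congr X hX hp3 k hk1 hk2
    set J := jacobiSum X⁻¹ (X⁻¹ ^ k) with hJ
    have hpJ : (p : R) ∈ Ideal.span ({J} : Set R) :=
      Ideal.mem_span_singleton.mpr ⟨_, hmul.symm⟩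
    have hle : Ideal.span ({(p : R)} : Set R) ≤ Ideal.span ({J} : Set R) := by
      rw [Ideal.span_le]
      intro x hx
      rw [Set.mem_singleton_iff] at hx
      subst hx
      exact hpJ
    have hk1J : ((k : R) + 1) ∈ Ideal.span ({J} : Set R) := by
      have h1 := hle hcongr
      have h2 : J ∈ Ideal.span ({J} : Set R) := Ideal.subset_span rfl
      have := Ideal.sub_mem _ h1 h2
      convert this using 1
      ring
    have hcop : Nat.Coprime (k + 1) p := by
      apply Nat.Coprime.symm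
      rw [(Fact.out : p.Prime).coprime_iff_not_dvd]
      intro hdvd
      have := Nat.le_of_dvd (by omega) hdvd
      omega
    have hcop' : IsCoprime ((k + 1 : ℕ) : ℤ) (p : ℤ) := Nat.isCoprime_iff_coprime.mpr hcop
    obtain ⟨a, b, hab⟩ := hcop'
    have hone : (1 : R) ∈ Ideal.span ({J} : Set R) := by
      have h3 : (1 : R) = (a : R) * ((k : R) + 1) + (b : R) * (p : R) := by
        have := congrArg (Int.cast : ℤ → R) hab
        push_cast at this
        exact this.symm
      rw [h3]
      exact Ideal.add_mem _ (Ideal.mul_mem_left _ _ hk1J) (Ideal.mul_mem_left _ _ hpJ)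
    rw [← Ideal.span_singleton_eq_top, Ideal.eq_top_iff_one]
    exact hone
  · have hk' : k + 1 = p - 1 := by omega
    have hones : ∀ a : ZMod p, (X⁻¹ ^ (k + 1)) a = if a = 0 then 0 else 1 := by
      intro a
      split_ifs with ha
      · subst ha
        exact MulChar.map_zero _
      · rw [MulChar.pow_apply' _ (by omega), MulChar.inv_apply', ← map_pow, hk', inv_pow,
          ZMod.pow_card_sub_one_eq_one ha, inv_one, map_one]
    have hS : ∑ a : ZMod p, (X⁻¹ ^ (k + 1)) a = (p : R) - 1 := by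
      simp only [hones]
      have : ∀ a : ZMod p, (if a = 0 then (0 : R) else 1) = 1 - if a = 0 then 1 else 0 := by
        intro a
        split_ifs <;> ring
      simp only [this]
      rw [Finset.sum_sub_distrib, Finset.sum_ite_eq' univ (0 : ZMod p)]
      simp
    rw [hS] at hmul
    have : jacobiSum X⁻¹ (X⁻¹ ^ k) * jacobiSum X⁻¹⁻¹ (X⁻¹ ^ k)⁻¹ = 1 := by
      rw [hmul]
      ring
    exact IsUnit.of_mul_eq_one _ this

end Groth.Agent.H9Jacobi
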