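import Mathlib

set_option autoImplicit false
set_option linter.unusedSectionVars false
set_option linter.unusedVariables false
set_option linter.style.haveILetI false
universe u v w

namespace Groth.Agent.Lib.H9JordanGr

namespace JB
section

variable {k : Type u} [Field k] {Λ : Type v} [AddCommGroup Λ] [DecidableEq Λ]
  {V : Type w} [AddCommGroup V] [Module k V]
  (𝒱 : Λ → Submodule k V) [DirectSum.Decomposition 𝒱]

/-- projection onto the component of degree `μ` -/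
noncomputable def pr (μ : Λ) : V →ₗ[k] V :=
  (𝒱 μ).subtype ∘ₗ (DirectSum.component k Λ (fun i => ↥(𝒱 i)) μ) ∘ₗ
    (DirectSum.decomposeLinearEquiv 𝒱).toLinearMap

lemma pr_apply (μ : Λ) (v : V) : pr 𝒱 μ v = (DirectSum.decompose 𝒱 v μ : V) := rfl

lemma pr_mem (μ : Λ) (v : V) : pr 𝒱 μ v ∈ 𝒱 μ := (DirectSum.decompose 𝒱 v μ).2

lemma pr_same {μ : Λ} {v : V} (hv : v ∈ 𝒱 μ) : pr 𝒱 μ v = v := by
  rw [pr_apply, DirectSum.decompose_of_mem_same 𝒱 hv]

lemma pr_ne {μ ν : Λ} {v : V} (hv : v ∈ 𝒱 μ) (h : μ ≠ ν) : pr 𝒱 ν v = 0 := by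
  rw [pr_apply, DirectSum.decompose_of_mem_ne 𝒱 hv h]

lemma sum_pr (v : V) : ∃ s : Finset Λ, v = ∑ μ ∈ s, pr 𝒱 μ v := by
  classical
  refine ⟨(DirectSum.decompose 𝒱 v).support, ?_⟩
  exact (DirectSum.sum_support_decompose 𝒱 v).symm

variable (A : Module.End k V) (χ : Λ)

/-- a homogeneous endomorphism of degree `χ` commutes with projections up to shift -/
lemma A_pr (hhom : ∀ (μ : Λ) (v : V), v ∈ 𝒱 μ → A v ∈ 𝒱 (μ + χ)) (ν : Λ) (v : V) :
    A (pr 𝒱 ν v) = pr 𝒱 (ν + χ) (A v) := by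
  classical
  obtain ⟨s, hs⟩ := sum_pr 𝒱 v
  conv_rhs => rw [hs, map_sum, map_sum]
  have h1 : ∀ μ ∈ s, pr 𝒱 (ν + χ) (A (pr 𝒱 μ v)) = if μ = ν then A (pr 𝒱 ν v) else 0 := by
    intro μ _
    by_cases h : μ = ν
    · subst h
      rw [if_pos rfl, pr_same 𝒱 (hhom μ _ (pr_mem 𝒱 μ v))]
    · rw [if_neg h]
      exact pr_ne 𝒱 (hhom μ _ (pr_mem 𝒱 μ v)) (fun h' => h (add_right_cancel h'))
  rw [Finset.sum_congr rfl h1, Finset.sum_ite_eq' s ν]
  by_cases hν : ν ∈ s
  · rw [if_pos hν]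
  · rw [if_neg hν]
    -- the component of `v` in degree `ν` vanishes
    have h2 : pr 𝒱 ν v = 0 := by
      conv_lhs => rw [hs, map_sum]
      apply Finset.sum_eq_zero
      intro μ hμ
      exact pr_ne 𝒱 (pr_mem 𝒱 μ v) (fun h' => hν (h' ▸ hμ))
    rw [h2, map_zero]

/-- graded subspaces -/
def IsGr (U : Submodule k V) : Prop := ∀ u ∈ U, ∀ μ, pr 𝒱 μ u ∈ U

/-- homogeneous vectors -/
def IsHomog (v : V) : Prop := ∃ μ, v ∈ 𝒱 μ

/-- a graded subspace is spanned by its homogeneous elements -/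
lemma IsGr.le_span {U : Submodule k V} (hU : IsGr 𝒱 U) :
    U ≤ Submodule.span k {v | v ∈ U ∧ IsHomog 𝒱 v} := by
  intro u hu
  obtain ⟨s, hs⟩ := sum_pr 𝒱 u
  rw [hs]
  exact Submodule.sum_mem _ (fun μ _ => Submodule.subset_span ⟨hU u hu μ, μ, pr_mem 𝒱 μ u⟩)

end
end JB

namespace JB
section

variable {k : Type u} [Field k] {Λ : Type v} [AddCommGroup Λ] [DecidableEq Λ]
  {V : Type w} [AddCommGroup V] [Module k V]
  (𝒱 : Λ → Submodule k V) [DirectSum.Decomposition 𝒱]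
  (A : Module.End k V) (χ : Λ)

/-- a homogeneous Jordan chain basis of a subspace -/
def HasChains (U : Submodule k V) : Prop :=
  ∃ (ι : Type w) (_ : Finite ι) (n : ι → ℕ) (b : (Σ i : ι, Fin (n i + 1)) → V),
    LinearIndependent k b ∧ Submodule.span k (Set.range b) = U ∧ (∀ x, IsHomog 𝒱 (b x)) ∧
    (∀ i, A (b ⟨i, 0⟩) = 0) ∧ ∀ (i : ι) (l : Fin (n i)), A (b ⟨i, l.succ⟩) = b ⟨i, l.castSucc⟩

/-- the data produced by the kernel extension -/
lemma kernel_ext [FiniteDimensional k V]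
    (hhom : ∀ (μ : Λ) (v : V), v ∈ 𝒱 μ → A v ∈ 𝒱 (μ + χ))
    (U : Submodule k V) (hgr : IsGr 𝒱 U)
    {ι' : Type w} (c : ι' → V) (hc : LinearIndependent k c)
    (hcK : ∀ i, c i ∈ U ⊓ LinearMap.ker A) (hcH : ∀ i, IsHomog 𝒱 (c i)) :
    ∃ (J : Type w) (e : J → V), (∀ j, e j ∈ U ⊓ LinearMap.ker A) ∧ (∀ j, IsHomog 𝒱 (e j)) ∧
      LinearIndependent k (Sum.elim c e) ∧
      U ⊓ LinearMap.ker A ≤ Submodule.span k (Set.range (Sum.elim c e)) := by
  classical
  set K : Submodule k V := U ⊓ LinearMap.ker A with hK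
  have hKgr : IsGr 𝒱 K := by
    intro u hu μ
    refine ⟨hgr u hu.1 μ, ?_⟩
    show A (pr 𝒱 μ u) = 0
    rw [A_pr 𝒱 A χ hhom, LinearMap.mem_ker.mp hu.2, map_zero]
  let H := {v : V // v ∈ K ∧ IsHomog 𝒱 v}
  let F : ι' ⊕ H → V := Sum.elim c Subtype.val
  have hs : LinearIndepOn k F (Set.range (Sum.inl : ι' → ι' ⊕ H)) := by
    rw [linearIndepOn_range_iff Sum.inl_injective]
    exact hc
  obtain ⟨bset, -, hsb, hspanb, hlib⟩ := exists_linearIndepOn_extension hs (Set.subset_univ _)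
  let J := {h : H // (Sum.inr h : ι' ⊕ H) ∈ bset}
  refine ⟨J, fun j => j.1.1, fun j => j.1.2.1, fun j => j.1.2.2, ?_, ?_⟩
  · -- linear independence
    have hmem : ∀ x : ι' ⊕ J, Sum.map id (Subtype.val : J → H) x ∈ bset := by
      intro x
      rcases x with i | j
      · exact hsb ⟨i, rfl⟩
      · exact j.2
    have hinj : Function.Injective
        (fun x : ι' ⊕ J => (⟨Sum.map id (Subtype.val : J → H) x, hmem x⟩ : bset)) := by
      intro x y hxy
      have h1 : Sum.map id (Subtype.val : J → H) x = Sum.map id (Subtype.val : J → H) y :=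
        congrArg Subtype.val hxy
      exact (Sum.map_injective.mpr ⟨Function.injective_id, Subtype.val_injective⟩) h1
    have h2 := hlib.comp _ hinj
    convert h2 using 1
    ext x
    rcases x with i | j <;> rfl
  · -- spanning
    refine (hKgr.le_span 𝒱).trans ?_
    rw [Submodule.span_le]
    intro v hv
    have h1 : v ∈ F '' Set.univ := ⟨Sum.inr ⟨v, hv⟩, trivial, rfl⟩
    have h2 := hspanb h1
    refine Submodule.span_mono ?_ h2
    rintro _ ⟨x, hx, rfl⟩
    rcases x with i | h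
    · exact ⟨Sum.inl i, rfl⟩
    · exact ⟨Sum.inr ⟨h, hx⟩, rfl⟩

end
end JB

namespace JB
section

variable {k : Type u} [Field k] {Λ : Type v} [AddCommGroup Λ] [DecidableEq Λ]
  {V : Type w} [AddCommGroup V] [Module k V]
  (𝒱 : Λ → Submodule k V) [DirectSum.Decomposition 𝒱]
  (A : Module.End k V) (χ : Λ)

/-- the chain family generated by top vectors -/
def fam {ι : Type w} (n : ι → ℕ) (t : ι → V) : (Σ i : ι, Fin (n i + 1)) → V :=
  fun x => (A ^ (x.2 : ℕ)) (t x.1)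

/-- chains presented by their tops -/
def HasTops (U : Submodule k V) : Prop :=
  ∃ (ι : Type w) (_ : Finite ι) (n : ι → ℕ) (t : ι → V),
    (∀ i, IsHomog 𝒱 (t i)) ∧ (∀ i, (A ^ (n i + 1)) (t i) = 0) ∧
    LinearIndependent k (fam A n t) ∧ Submodule.span k (Set.range (fam A n t)) = U

lemma isHomog_pow (hhom : ∀ (μ : Λ) (v : V), v ∈ 𝒱 μ → A v ∈ 𝒱 (μ + χ)) (l : ℕ) {v : V}
    (hv : IsHomog 𝒱 v) : IsHomog 𝒱 ((A ^ l) v) := by
  induction l with
  | zero => simpa using hv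
  | succ l ih =>
    obtain ⟨μ, hμ⟩ := ih
    rw [pow_succ', Module.End.mul_apply]
    exact ⟨μ + χ, hhom μ _ hμ⟩

lemma pow_mem_of_stable {U : Submodule k V} (hst : ∀ u ∈ U, A u ∈ U) (l : ℕ) {v : V}
    (hv : v ∈ U) : (A ^ l) v ∈ U := by
  induction l with
  | zero => simpa using hv
  | succ l ih =>
    rw [pow_succ', Module.End.mul_apply]
    exact hst _ ih

lemma step [FiniteDimensional k V]
    (hhom : ∀ (μ : Λ) (v : V), v ∈ 𝒱 μ → A v ∈ 𝒱 (μ + χ))
    (U : Submodule k V) (hgr : IsGr 𝒱 U) (hst : ∀ u ∈ U, A u ∈ U)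
    (hW : HasTops 𝒱 A (U.map A)) : HasTops 𝒱 A U := by
  classical
  obtain ⟨ι', hfin', n', t', ht'H, ht'0, hli', hspan'⟩ := hW
  haveI : Fintype ι' := Fintype.ofFinite ι'
  -- lift the tops
  have hlift : ∀ i : ι', ∃ u : V, u ∈ U ∧ IsHomog 𝒱 u ∧ A u = t' i := by
    intro i
    have h1 : t' i ∈ U.map A := by
      rw [← hspan']
      refine Submodule.subset_span ⟨⟨i, 0⟩, ?_⟩
      simp [fam]
    obtain ⟨u₀, hu₀, hu₀A⟩ := h1
    obtain ⟨μ, hμ⟩ := ht'H i
    refine ⟨pr 𝒱 (μ - χ) u₀, hgr u₀ hu₀ _, ⟨_, pr_mem 𝒱 _ _⟩, ?_⟩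
    rw [A_pr 𝒱 A χ hhom, sub_add_cancel, hu₀A, pr_same 𝒱 hμ]
  choose u huU huH huA using hlift
  have hpow : ∀ (i : ι') (l : ℕ), (A ^ (l + 1)) (u i) = (A ^ l) (t' i) := by
    intro i l
    rw [pow_succ, Module.End.mul_apply, huA]
  -- kernel vectors
  let c : ι' → V := fun i => (A ^ (n' i)) (t' i)
  have hc : LinearIndependent k c := by
    have hinj : Function.Injective (fun i : ι' => (⟨i, Fin.last (n' i)⟩ : Σ i : ι', Fin (n' i + 1))) := by
      intro i j hij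
      exact congrArg Sigma.fst hij
    have := hli'.comp _ hinj
    convert this using 1
    funext i
    simp only [c, fam, Function.comp, Fin.val_last]
  have hcK : ∀ i, c i ∈ U ⊓ LinearMap.ker A := by
    intro i
    refine ⟨?_, ?_⟩
    · show (A ^ (n' i)) (t' i) ∈ U
      rw [← hpow]
      exact pow_mem_of_stable A hst _ (huU i)
    · show A ((A ^ (n' i)) (t' i)) = 0
      rw [← Module.End.mul_apply, ← pow_succ', ht'0]
  have hcH : ∀ i, IsHomog 𝒱 (c i) := fun i => isHomog_pow 𝒱 A χ hhom _ (ht'H i)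
  obtain ⟨J, e, heK, heH, hliK, hspanK⟩ := kernel_ext 𝒱 A χ hhom U hgr c hc hcK hcH
  haveI : Finite (ι' ⊕ J) := hliK.finite_of_isNoetherian
  haveI : Finite J := Finite.of_injective (Sum.inr : J → ι' ⊕ J) Sum.inr_injective
  haveI : Fintype J := Fintype.ofFinite J
  let n : ι' ⊕ J → ℕ := Sum.elim (fun i => n' i + 1) (fun _ => 0)
  let t : ι' ⊕ J → V := Sum.elim u e
  have hmemU : ∀ x, fam A n t x ∈ U := by
    rintro ⟨i | j, l⟩
    · exact pow_mem_of_stable A hst _ (huU i)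
    · exact pow_mem_of_stable A hst _ (heK j).1
  refine ⟨ι' ⊕ J, inferInstance, n, t, ?_, ?_, ?_, ?_⟩
  · rintro (i | j)
    · exact huH i
    · exact heH j
  · rintro (i | j)
    · show (A ^ (n' i + 1 + 1)) (u i) = 0
      rw [hpow, ht'0]
    · show (A ^ (0 + 1)) (e j) = 0
      rw [zero_add, pow_one]
      exact LinearMap.mem_ker.mp (heK j).2
  · -- linear independence
    rw [Fintype.linearIndependent_iff]
    intro g hg
    rw [Fintype.sum_sigma, Fintype.sum_sum_type] at hg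
    have hg1 : (∑ i : ι', ∑ l : Fin (n' i + 1 + 1), g ⟨Sum.inl i, l⟩ • (A ^ (l : ℕ)) (u i)) +
        ∑ j : J, g ⟨Sum.inr j, 0⟩ • e j = 0 := by
      rw [← hg]
      congr 1
      refine Finset.sum_congr rfl (fun j _ => ?_)
      show _ = ∑ l : Fin (0 + 1), g ⟨Sum.inr j, l⟩ • (A ^ (l : ℕ)) (e j)
      rw [Fin.sum_univ_one]
      simp only [Fin.val_zero, pow_zero, Module.End.one_apply]
      rfl
    -- apply A
    have hg2 := congrArg A hg1
    rw [map_add, map_zero, map_sum, map_sum] at hg2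
    have hz : ∑ j : J, A (g ⟨Sum.inr j, 0⟩ • e j) = 0 := by
      refine Finset.sum_eq_zero (fun j _ => ?_)
      rw [map_smul, LinearMap.mem_ker.mp (heK j).2, smul_zero]
    rw [hz, add_zero] at hg2
    have hg3 : ∑ x : (Σ i : ι', Fin (n' i + 1)), g ⟨Sum.inl x.1, x.2.castSucc⟩ • fam A n' t' x = 0 := by
      rw [Fintype.sum_sigma, ← hg2]
      refine Finset.sum_congr rfl (fun i _ => ?_)
      rw [map_sum]
      conv_rhs => rw [Fin.sum_univ_castSucc]
      have hlast : A (g ⟨Sum.inl i, Fin.last (n' i + 1)⟩ • (A ^ ((Fin.last (n' i + 1) : Fin (n' i + 1 + 1)) : ℕ)) (u i)) = 0 := by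
        rw [map_smul, Fin.val_last, ← Module.End.mul_apply, ← pow_succ', hpow, ht'0, smul_zero]
      rw [hlast, add_zero]
      refine Finset.sum_congr rfl (fun l _ => ?_)
      rw [map_smul, ← Module.End.mul_apply, ← pow_succ', Fin.val_castSucc, hpow]
      rfl
    have hg4 := (Fintype.linearIndependent_iff.mp hli') _ hg3
    -- now the remaining coefficients
    have hg5 : ∑ x : ι' ⊕ J, (Sum.elim (fun i => g ⟨Sum.inl i, Fin.last (n' i + 1)⟩)
        (fun j => g ⟨Sum.inr j, 0⟩) x) • Sum.elim c e x = 0 := by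
      rw [Fintype.sum_sum_type, ← hg1]
      congr 1
      refine Finset.sum_congr rfl (fun i _ => ?_)
      rw [Fin.sum_univ_castSucc]
      have : ∑ l : Fin (n' i + 1), g ⟨Sum.inl i, l.castSucc⟩ • (A ^ ((l.castSucc : Fin (n' i + 1 + 1)) : ℕ)) (u i) = 0 := by
        refine Finset.sum_eq_zero (fun l _ => ?_)
        rw [hg4 ⟨i, l⟩, zero_smul]
      rw [this, zero_add, Fin.val_last, hpow]
      rfl
    have hg6 := (Fintype.linearIndependent_iff.mp hliK) _ hg5
    rintro ⟨i | j, l⟩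
    · induction l using Fin.lastCases with
      | last => exact hg6 (Sum.inl i)
      | cast l => exact hg4 ⟨i, l⟩
    · have hl : l = (0 : Fin (0 + 1)) := by
        apply Fin.ext
        have h1 : (l : ℕ) < 0 + 1 := l.2
        have h2 : ((0 : Fin (0 + 1)) : ℕ) = 0 := rfl
        omega
      rw [hl]
      exact hg6 (Sum.inr j)
  · -- spanning
    apply le_antisymm
    · rw [Submodule.span_le]
      rintro _ ⟨x, rfl⟩
      exact hmemU x
    · intro v hv
      set S := Submodule.span k (Set.range (fam A n t)) with hS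
      have hSU : S ≤ U := by
        rw [hS, Submodule.span_le]
        rintro _ ⟨x, rfl⟩
        exact hmemU x
      have h1 : A v ∈ U.map A := ⟨v, hv, rfl⟩
      rw [← hspan'] at h1
      have h2 : Submodule.span k (Set.range (fam A n' t')) ≤ S.map A := by
        rw [Submodule.span_le]
        rintro _ ⟨⟨i, l⟩, rfl⟩
        refine ⟨fam A n t ⟨Sum.inl i, l.castSucc⟩, Submodule.subset_span ⟨_, rfl⟩, ?_⟩
        show A ((A ^ ((l.castSucc : Fin (n' i + 1 + 1)) : ℕ)) (u i)) = (A ^ (l : ℕ)) (t' i)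
        rw [← Module.End.mul_apply, ← pow_succ', Fin.val_castSucc, hpow]
      obtain ⟨s, hsS, hsA⟩ := h2 h1
      have h3 : v - s ∈ U ⊓ LinearMap.ker A := by
        refine ⟨U.sub_mem hv (hSU hsS), ?_⟩
        show A (v - s) = 0
        rw [map_sub, hsA, sub_self]
      have h4 : Submodule.span k (Set.range (Sum.elim c e)) ≤ S := by
        rw [Submodule.span_le]
        rintro _ ⟨x, rfl⟩
        rcases x with i | j
        · refine Submodule.subset_span ⟨⟨Sum.inl i, Fin.last (n' i + 1)⟩, ?_⟩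
          show (A ^ ((Fin.last (n' i + 1) : Fin (n' i + 1 + 1)) : ℕ)) (u i) = (A ^ (n' i)) (t' i)
          rw [Fin.val_last, hpow]
        · refine Submodule.subset_span ⟨⟨Sum.inr j, 0⟩, ?_⟩
          show (A ^ ((0 : Fin (0 + 1)) : ℕ)) (e j) = e j
          simp
      have h5 := h4 (hspanK h3)
      have : v = s + (v - s) := by abel
      rw [this]
      exact S.add_mem hsS h5

end
end JB

namespace JB
section

variable {k : Type u} [Field k] {Λ : Type v} [AddCommGroup Λ] [DecidableEq Λ]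
  {V : Type w} [AddCommGroup V] [Module k V]
  (𝒱 : Λ → Submodule k V) [DirectSum.Decomposition 𝒱]
  (A : Module.End k V) (χ : Λ)

lemma hasTops_of_le_ker [FiniteDimensional k V]
    (hhom : ∀ (μ : Λ) (v : V), v ∈ 𝒱 μ → A v ∈ 𝒱 (μ + χ)) (m : ℕ) :
    ∀ U : Submodule k V, IsGr 𝒱 U → (∀ u ∈ U, A u ∈ U) → (∀ u ∈ U, (A ^ m) u = 0) →
      HasTops 𝒱 A U := by
  induction m with
  | zero =>
    intro U hgr hst h0
    have hU : U = ⊥ := by
      rw [eq_bot_iff]
      intro u hu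
      have := h0 u hu
      simpa using this
    subst hU
    haveI : IsEmpty (Σ i : PEmpty.{w+1}, Fin ((PEmpty.elim : PEmpty.{w+1} → ℕ) i + 1)) :=
      ⟨fun x => x.1.elim⟩
    refine ⟨PEmpty, inferInstance, PEmpty.elim, PEmpty.elim, fun i => i.elim, fun i => i.elim,
      ?_, ?_⟩
    · exact linearIndependent_empty_type
    · rw [Set.range_eq_empty, Submodule.span_empty]
  | succ m ih =>
    intro U hgr hst h0
    apply step 𝒱 A χ hhom U hgr hst
    apply ih
    · rintro _ ⟨u, hu, rfl⟩ μ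
      refine ⟨pr 𝒱 (μ - χ) u, hgr u hu _, ?_⟩
      rw [A_pr 𝒱 A χ hhom, sub_add_cancel]
    · rintro _ ⟨u, hu, rfl⟩
      exact ⟨A u, hst u hu, rfl⟩
    · rintro _ ⟨u, hu, rfl⟩
      rw [← Module.End.mul_apply, ← pow_succ]
      exact h0 u hu

end
end JB

section

open JB

theorem thm983
    (k : Type u) [Field k] (Λ : Type v) [AddCommGroup Λ] [DecidableEq Λ]
    (V : Type w) [AddCommGroup V] [Module k V] [FiniteDimensional k V]
    (𝒱 : Λ → Submodule k V) (h𝒱 : DirectSum.IsInternal 𝒱)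
    (A : Module.End k V) (hA : IsNilpotent A) (χ : Λ)
    (hhom : ∀ (μ : Λ) (v : V), v ∈ 𝒱 μ → A v ∈ 𝒱 (μ + χ)) :
    ∃ (ι : Type w) (_ : Finite ι) (n : ι → ℕ) (b : Module.Basis (Σ i : ι, Fin (n i + 1)) k V),
      (∀ (i : ι) (l : Fin (n i + 1)), ∃ μ : Λ, b ⟨i, l⟩ ∈ 𝒱 μ) ∧
      (∀ i : ι, A (b ⟨i, 0⟩) = 0) ∧
      ∀ (i : ι) (l : Fin (n i)), A (b ⟨i, l.succ⟩) = b ⟨i, l.castSucc⟩ := by
  classical
  letI : DirectSum.Decomposition 𝒱 := h𝒱.chooseDecomposition
  obtain ⟨m, hm⟩ := hA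
  have hT : HasTops 𝒱 A ⊤ := by
    apply hasTops_of_le_ker 𝒱 A χ hhom m ⊤
    · intro u _ μ
      trivial
    · intro u _
      trivial
    · intro u _
      rw [hm, LinearMap.zero_apply]
  obtain ⟨ι, hfin, n, t, htH, ht0, hli, hspan⟩ := hT
  -- reverse the chains
  let σ : (Σ i : ι, Fin (n i + 1)) ≃ (Σ i : ι, Fin (n i + 1)) :=
    Equiv.sigmaCongrRight (fun i => Fin.revPerm)
  have hli2 : LinearIndependent k (fam A n t ∘ σ) := hli.comp _ σ.injective
  have hspan2 : ⊤ ≤ Submodule.span k (Set.range (fam A n t ∘ σ)) := by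
    rw [σ.surjective.range_comp, hspan]
  let b := Module.Basis.mk hli2 hspan2
  have hb : ∀ (i : ι) (l : Fin (n i + 1)), b ⟨i, l⟩ = (A ^ (l.rev : ℕ)) (t i) := by
    intro i l
    rw [Module.Basis.mk_apply]
    rfl
  refine ⟨ι, hfin, n, b, ?_, ?_, ?_⟩
  · intro i l
    rw [hb]
    exact isHomog_pow 𝒱 A χ hhom _ (htH i)
  · intro i
    rw [hb, Fin.rev_zero, Fin.val_last, ← Module.End.mul_apply, ← pow_succ', ht0]
  · intro i l
    rw [hb, hb, Fin.rev_succ, Fin.rev_castSucc, Fin.val_succ, Fin.val_castSucc,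
      ← Module.End.mul_apply, ← pow_succ']

end

end Groth.Agent.Lib.H9JordanGr
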