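import Mathlib
import Groth.Prelude
import Groth.Agent.Lib.Helper23FinType
import Groth.Agent.Lib.Helper23CounitEpi
import Groth.Agent.Lib.Helper23QCohLocal
import Groth.Agent.Lib.Helper18Grp6

set_option autoImplicit false
set_option linter.style.haveILetI false
universe u
open CategoryTheory Limits AlgebraicGeometry TopologicalSpace Opposite

namespace Groth.Agent.Lib.R2H4CounitEpiQc

open Groth.Agent.Lib.Helper23.FinType Groth.Agent.Lib.Helper23.QCohLocal

/-- formal: if some `L G ⟶ F` is epi then so is the counit at `F`. -/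
theorem epi_counit_of_epi {C D : Type*} [Category C] [Category D] {L : C ⥤ D} {R : D ⥤ C}
    (adj : L ⊣ R) {G : C} {F : D} (φ : L.obj G ⟶ F) [Epi φ] : Epi (adj.counit.app F) := by
  have h : L.map (adj.homEquiv _ _ φ) ≫ adj.counit.app F = φ := by
    have := (adj.homEquiv G F).symm_apply_apply φ
    rwa [adj.homEquiv_counit] at this
  exact epi_of_epi_fac h

section Aff

variable (R : CommRingCat.{u})

set_option backward.isDefEq.respectTransparency false in
theorem exists_epi_free_tilde' (P : ModuleCat.{u} R) :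
    ∃ (I : Type u) (π : SheafOfModules.free I ⟶ (tilde.functor R).obj P), Epi π := by
  let I : Type u := P
  let g : ModuleCat.of R (I →₀ R) ⟶ P :=
    ModuleCat.ofHom (Finsupp.linearCombination R (id : I → P))
  haveI : Epi g := by
    rw [ModuleCat.epi_iff_surjective]
    rw [← LinearMap.range_eq_top]
    change LinearMap.range (Finsupp.linearCombination R (id : I → P)) = ⊤
    rw [Finsupp.range_linearCombination]
    simp
  haveI : Epi ((tilde.functor R).map g) := inferInstance
  refine ⟨I, (tildeFinsupp I).inv ≫ (tilde.functor R).map g, ?_⟩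
  exact epi_comp _ _

set_option backward.isDefEq.respectTransparency false in
theorem exists_generatingSections_Spec (N : (Spec R).Modules) [N.IsQuasicoherent] :
    Nonempty N.GeneratingSections := by
  haveI : IsIso N.fromTildeΓ := inferInstance
  obtain ⟨I, π₀, hπ₀⟩ := exists_epi_free_tilde' R ((ΓF R).obj N)
  let π : SheafOfModules.free I ⟶ N := π₀ ≫ N.fromTildeΓ
  haveI : Epi π := epi_comp _ _
  refine ⟨{ I := I, s := N.freeHomEquiv π, epi := ?_ }⟩
  rw [Equiv.symm_apply_apply]; infer_instance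

end Aff

variable {X : Scheme.{u}}

/-- a quasi-coherent module restricted to an affine open is globally generated. -/
theorem isGloballyGenerated_restrict_of_isAffineOpen (M : X.Modules) [M.IsQuasicoherent]
    {U : X.Opens} (hU : IsAffineOpen U) : Curv2.IsGloballyGenerated (M.restrict U.ι) := by
  haveI : (M.restrict hU.fromSpec).IsQuasicoherent :=
    Scheme.Modules.isQuasicoherent_restrictFunctor hU.fromSpec M
  obtain ⟨G⟩ := exists_generatingSections_Spec Γ(X, U) (M.restrict hU.fromSpec)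
  let G' := generatingSectionsOfComp M hU.isoSpec.hom hU.fromSpec U.ι hU.isoSpec_hom_fromSpec G
  exact ⟨G'.I, G'.π, G'.epi⟩


set_option backward.isDefEq.respectTransparency false in
/-- restriction to `f⁻¹U` of a quotient of `f^*G`, `G` quasi-coherent, is globally generated when `U` is affine -/
theorem isGloballyGenerated_restrict_of_epi_pullback {S : Scheme.{u}} (f : X ⟶ S) (F : X.Modules)
    (G : S.Modules) [G.IsQuasicoherent] (φ : (Scheme.Modules.pullback f).obj G ⟶ F) [Epi φ]
    {U : S.Opens} (hU : IsAffineOpen U) :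
    Curv2.IsGloballyGenerated (F.restrict (f ⁻¹ᵁ U).ι) := by
  obtain ⟨I, p, hp⟩ := isGloballyGenerated_restrict_of_isAffineOpen G hU
  let f' : ((f ⁻¹ᵁ U : X.Opens) : Scheme.{u}) ⟶ (U : Scheme.{u}) := f ∣_ U
  have hsq : f' ≫ U.ι = (f ⁻¹ᵁ U).ι ≫ f := morphismRestrict_ι f U
  haveI : (Scheme.Modules.pullback f').PreservesEpimorphisms :=
    haveI := (Scheme.Modules.pullbackPushforwardAdjunction f').leftAdjoint_preservesColimits
    inferInstance
  haveI : (Scheme.Modules.pullback (f ⁻¹ᵁ U).ι).PreservesEpimorphisms :=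
    haveI := (Scheme.Modules.pullbackPushforwardAdjunction (f ⁻¹ᵁ U).ι).leftAdjoint_preservesColimits
    inferInstance
  -- step 1: free → f'^* (G|_U)
  let p1 : (SheafOfModules.free I : ((f ⁻¹ᵁ U : X.Opens) : Scheme.{u}).Modules) ⟶
      (Scheme.Modules.pullback f').obj ((Scheme.Modules.pullback U.ι).obj G) :=
    (Groth.Agent.Helper18Grp.pullbackFreeIso f' I).inv ≫ (Scheme.Modules.pullback f').map
      (p ≫ (Scheme.Modules.restrictFunctorIsoPullback U.ι).hom.app G)
  haveI : Epi p1 := by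
    haveI : Epi (p ≫ (Scheme.Modules.restrictFunctorIsoPullback U.ι).hom.app G) := epi_comp _ _
    haveI : Epi ((Scheme.Modules.pullback f').map
      (p ≫ (Scheme.Modules.restrictFunctorIsoPullback U.ι).hom.app G)) :=
      (Scheme.Modules.pullback f').map_epi _
    exact epi_comp _ _
  -- step 2: f'^* i^* G ≅ j^* f^* G
  let e2 : (Scheme.Modules.pullback f').obj ((Scheme.Modules.pullback U.ι).obj G) ≅
      (Scheme.Modules.pullback (f ⁻¹ᵁ U).ι).obj ((Scheme.Modules.pullback f).obj G) :=
    (Scheme.Modules.pullbackComp f' U.ι).app G ≪≫ (Scheme.Modules.pullbackCongr hsq).app G ≪≫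
      ((Scheme.Modules.pullbackComp (f ⁻¹ᵁ U).ι f).app G).symm
  -- step 3: j^* f^* G → j^* F ≅ F|
  let p3 : (Scheme.Modules.pullback (f ⁻¹ᵁ U).ι).obj ((Scheme.Modules.pullback f).obj G) ⟶
      F.restrict (f ⁻¹ᵁ U).ι :=
    (Scheme.Modules.pullback (f ⁻¹ᵁ U).ι).map φ ≫
      (Scheme.Modules.restrictFunctorIsoPullback (f ⁻¹ᵁ U).ι).inv.app F
  haveI : Epi p3 := by
    haveI : Epi ((Scheme.Modules.pullback (f ⁻¹ᵁ U).ι).map φ) :=
      (Scheme.Modules.pullback (f ⁻¹ᵁ U).ι).map_epi _
    exact epi_comp _ _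
  refine ⟨I, p1 ≫ e2.hom ≫ p3, ?_⟩
  haveI : Epi e2.hom := inferInstance
  haveI : Epi (e2.hom ≫ p3) := epi_comp e2.hom p3
  exact epi_comp p1 (e2.hom ≫ p3)

theorem main {S : Scheme.{u}} (f : X ⟶ S) [QuasiCompact f] [QuasiSeparated f]
    (F : X.Modules) (hF : Coh.IsQCoh F) :
    (Epi ((Scheme.Modules.pullbackPushforwardAdjunction f).counit.app F) ↔
      ∃ G : S.Modules, Coh.IsQCoh G ∧ ∃ φ : (Scheme.Modules.pullback f).obj G ⟶ F, Epi φ) ∧
    (Epi ((Scheme.Modules.pullbackPushforwardAdjunction f).counit.app F) ↔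
      ∀ U : S.Opens, IsAffineOpen U → Curv2.IsGloballyGenerated (F.restrict (f ⁻¹ᵁ U).ι)) := by
  haveI : F.IsQuasicoherent := hF
  have h12 : Epi ((Scheme.Modules.pullbackPushforwardAdjunction f).counit.app F) →
      ∃ G : S.Modules, Coh.IsQCoh G ∧ ∃ φ : (Scheme.Modules.pullback f).obj G ⟶ F, Epi φ :=
    fun h => ⟨(Scheme.Modules.pushforward f).obj F, isQuasicoherent_pushforward f F,
      (Scheme.Modules.pullbackPushforwardAdjunction f).counit.app F, h⟩
  have h21 : (∃ G : S.Modules, Coh.IsQCoh G ∧ ∃ φ : (Scheme.Modules.pullback f).obj G ⟶ F, Epi φ) →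
      Epi ((Scheme.Modules.pullbackPushforwardAdjunction f).counit.app F) := by
    rintro ⟨G, -, φ, hφ⟩
    exact epi_counit_of_epi (Scheme.Modules.pullbackPushforwardAdjunction f) φ
  refine ⟨⟨h12, h21⟩, ⟨fun h U hU => ?_, fun h => ?_⟩⟩
  · obtain ⟨G, hG, φ, hφ⟩ := h12 h
    haveI : G.IsQuasicoherent := hG
    exact isGloballyGenerated_restrict_of_epi_pullback f F G φ hU
  · apply Groth.Agent.Lib.Helper23.CounitEpi.epi_counit_of_isGloballyGenerated f
    intro x
    obtain ⟨V, hV, hxV, -⟩ := Opens.isBasis_iff_nbhd.1 S.isBasis_affineOpens (Opens.mem_top (f x))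
    exact ⟨V, hxV, h V hV⟩

end Groth.Agent.Lib.R2H4CounitEpiQc
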