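import Mathlib
import Groth.Prelude
import Groth.Agent.Lib.Helper13QcqsBC
import Groth.Agent.Lib.Helper26FpqcMod
import Groth.Agent.Lib.R2H4CounitEpiQc
import Groth.Agent.Lib.Helper23SecTw3
import Groth.Agent.Lib.Helper23Restr
import Groth.Agent.Lib.Helper18Grp6

set_option autoImplicit false
set_option linter.style.haveILetI false
universe u
open CategoryTheory Limits AlgebraicGeometry TopologicalSpace Opposite TensorProduct

namespace Groth.Agent.Lib.R2H4GGDescent

open Groth.Agent.Helper13QcqsBC Groth.Agent.Helper13PullbackUnit Groth.Agent.Helper13AffBC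
  Groth.Agent.Helper13FlatMV Groth.Agent.Lib.Helper23.SecTw Groth.Agent.Lib.Helper23.GenLocus

section unit

variable {X Y : Scheme.{u}} (f : Y ⟶ X)

/-- naturality of `unitSec` in the module -/
theorem unitSec_naturality {F G : X.Modules} (φ : F ⟶ G) {V : X.Opens} {U : Y.Opens}
    (hle : U ≤ f ⁻¹ᵁ V) (x : Γ(F, V)) :
    ((Scheme.Modules.pullback f).map φ).app U (unitSec f F hle x) =
      unitSec f G hle (φ.app V x) := by
  rw [unitSec_apply, unitSec_apply]
  have h1 := congrArg (fun t => (t.app V).hom x)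
    ((Scheme.Modules.pullbackPushforwardAdjunction f).unit.naturality φ)
  have h2 := ((Scheme.Modules.pullback f).map φ).mapPresheaf.naturality (homOfLE hle).op
  have h3 := congrArg (fun t => t.hom
    (((Scheme.Modules.pullbackPushforwardAdjunction f).unit.app F).app V x)) h2
  have h1' : ((Scheme.Modules.pullback f).map φ).app (f ⁻¹ᵁ V)
      (((Scheme.Modules.pullbackPushforwardAdjunction f).unit.app F).app V x) =
      ((Scheme.Modules.pullbackPushforwardAdjunction f).unit.app G).app V (φ.app V x) := h1.symm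
  exact h3.trans (congrArg (((Scheme.Modules.pullback f).obj G).presheaf.map (homOfLE hle).op) h1')

/-- the triangle identity on sections -/
theorem counit_unitSec (F : Y.Modules) (V : X.Opens)
    (a : Γ((Scheme.Modules.pushforward f).obj F, V)) :
    ((Scheme.Modules.pullbackPushforwardAdjunction f).counit.app F).app (f ⁻¹ᵁ V)
      (unitSec f ((Scheme.Modules.pushforward f).obj F) (le_refl _) a) = a := by
  rw [unitSec_apply]
  have h1 := congrArg (fun t => (t.app V).hom a)
    ((Scheme.Modules.pullbackPushforwardAdjunction f).right_triangle_components F)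
  have e : (homOfLE (le_refl (f ⁻¹ᵁ V))) = 𝟙 _ := Subsingleton.elim _ _
  rw [e, op_id, CategoryTheory.Functor.map_id]
  exact h1

end unit


section square

variable {X S X' S' : Scheme.{u}} (f : X ⟶ S) (g : S' ⟶ S) (g' : X' ⟶ X) (f' : X' ⟶ S')
  (h : IsPullback g' f' f g) (F : X.Modules)
  {U : S.Opens} {U' : S'.Opens} (hle : U' ≤ g ⁻¹ᵁ U)

/-- the pullback along `g'` of the counit `f^* f_* F ⟶ F` -/
noncomputable abbrev psi :
    (Scheme.Modules.pullback g').obj
      ((Scheme.Modules.pullback f).obj ((Scheme.Modules.pushforward f).obj F)) ⟶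
    (Scheme.Modules.pullback g').obj F :=
  (Scheme.Modules.pullback g').map ((Scheme.Modules.pullbackPushforwardAdjunction f).counit.app F)

include h hle in
/-- flat base change of global sections: every section of `g'^* F` over `g'⁻¹ f⁻¹ U ∩ f'⁻¹ U'`
lifts along `g'^*(counit)` -/
theorem exists_lift [QuasiCompact f] [QuasiSeparated f] [Flat g] [F.IsQuasicoherent]
    (hU : IsAffineOpen U) (hU' : IsAffineOpen U')
    (s' : Γ((Scheme.Modules.pullback g').obj F, Vp g' f' U' (f ⁻¹ᵁ U))) :
    ∃ t' : Γ((Scheme.Modules.pullback g').obj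
        ((Scheme.Modules.pullback f).obj ((Scheme.Modules.pushforward f).obj F)),
        Vp g' f' U' (f ⁻¹ᵁ U)),
      (psi f g' F).app _ t' = s' := by
  have hflat : (g.appLE U U' hle).hom.Flat := g.flat_appLE hU hU' hle
  have hK := KBij_of_qcqs f g g' f' h F hle hU hU' hflat
    (f.isQuasiSeparated_preimage hU.isQuasiSeparated) (f ⁻¹ᵁ U)
    (f.isCompact_preimage hU.isCompact) le_rfl
  letI : Algebra Γ(S, U) Γ(S', U') := (g.appLE U U' hle).hom.toAlgebra
  obtain ⟨t, rfl⟩ := hK.2 s'
  induction t using TensorProduct.induction_on with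
  | zero => exact ⟨0, by rw [map_zero, map_zero]; rfl⟩
  | tmul r' a =>
    refine ⟨(f'.appLE U' (Vp g' f' U' (f ⁻¹ᵁ U)) inf_le_right r' : Γ(X', Vp g' f' U' (f ⁻¹ᵁ U))) •
      unitSec g' ((Scheme.Modules.pullback f).obj ((Scheme.Modules.pushforward f).obj F))
        (inf_le_left : Vp g' f' U' (f ⁻¹ᵁ U) ≤ g' ⁻¹ᵁ (f ⁻¹ᵁ U))
      (unitSec f ((Scheme.Modules.pushforward f).obj F) (le_refl (f ⁻¹ᵁ U)) a), ?_⟩
    rw [Scheme.Modules.Hom.app_smul, unitSec_naturality, counit_unitSec]
    rfl
  | add x y hx hy =>
    obtain ⟨tx, hx⟩ := hx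
    obtain ⟨ty, hy⟩ := hy
    exact ⟨tx + ty, by rw [map_add, hx, hy, map_add]; rfl⟩

end square


section secs

variable {Y : Scheme.{u}}

/-- a morphism `O ⟶ M` is determined by its value over an open equal to `⊤` -/
theorem hom_ext_sv {M : Y.Modules} (φ₁ φ₂ : Coh.structureModule Y ⟶ M) (V : Y.Opens) (hV : V = ⊤)
    (h : sv φ₁ V = sv φ₂ V) : φ₁ = φ₂ := by
  subst hV
  exact hom_ext_of_sv φ₁ φ₂ h

/-- every section over an open equal to `⊤` is the value of a morphism `O ⟶ M` -/
theorem exists_hom_sv (M : Y.Modules) (V : Y.Opens) (hV : V = ⊤) (t : Γ(M, V)) :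
    ∃ φ : Coh.structureModule Y ⟶ M, sv φ V = t := by
  subst hV
  refine ⟨secHom M t, ?_⟩
  rw [sv_secHom]
  exact Groth.Agent.Helper13QcqsBC.res_self M t

theorem sv_comp {M N : Y.Modules} (φ : Coh.structureModule Y ⟶ M) (ψ : M ⟶ N) (V : Y.Opens) :
    sv (φ ≫ ψ) V = ψ.app V (sv φ V) := rfl

end secs

section square2

variable {X S X' S' : Scheme.{u}} (f : X ⟶ S) (g : S' ⟶ S) (g' : X' ⟶ X) (f' : X' ⟶ S')
  (h : IsPullback g' f' f g) (F : X.Modules)

include h in
set_option backward.isDefEq.respectTransparency false in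
/-- if `g'^* F` is globally generated (over affine bases, `g` flat), then `g'^*` of the counit
`f^* f_* F ⟶ F` is an epimorphism -/
theorem epi_psi [QuasiCompact f] [QuasiSeparated f] [Flat g] [F.IsQuasicoherent]
    [IsAffine S] [IsAffine S']
    (hgg : Curv2.IsGloballyGenerated ((Scheme.Modules.pullback g').obj F)) :
    Epi (psi f g' F) := by
  obtain ⟨ι', p', hp'⟩ := hgg
  have hle : (⊤ : S'.Opens) ≤ g ⁻¹ᵁ (⊤ : S.Opens) := fun _ _ => trivial
  have hVtop : Vp g' f' (⊤ : S'.Opens) (f ⁻¹ᵁ (⊤ : S.Opens)) = ⊤ := by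
    ext x
    simp
  have key : ∀ i : ι', ∃ τ : Coh.structureModule X' ⟶
      (Scheme.Modules.pullback g').obj
        ((Scheme.Modules.pullback f).obj ((Scheme.Modules.pushforward f).obj F)),
      τ ≫ psi f g' F = Sigma.ι (fun _ : ι' => Coh.structureModule X') i ≫ p' := by
    intro i
    obtain ⟨t', ht'⟩ := exists_lift f g g' f' h F hle (isAffineOpen_top S) (isAffineOpen_top S')
      (sv (Sigma.ι (fun _ : ι' => Coh.structureModule X') i ≫ p') _)
    obtain ⟨τ, hτ⟩ := exists_hom_sv _ _ hVtop t'
    refine ⟨τ, hom_ext_sv _ _ _ hVtop ?_⟩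
    rw [sv_comp, hτ, ht']
  choose τ hτ using key
  have hfac : Sigma.desc τ ≫ psi f g' F = p' := by
    apply Sigma.hom_ext
    intro i
    rw [← Category.assoc, Sigma.ι_desc, hτ]
  exact epi_of_epi_fac hfac

end square2


section main

set_option backward.isDefEq.respectTransparency false in
/-- pullback preserves global generation -/
theorem isGloballyGenerated_pullback {X Y : Scheme.{u}} (g : Y ⟶ X) (F : X.Modules)
    (hgg : Curv2.IsGloballyGenerated F) :
    Curv2.IsGloballyGenerated ((Scheme.Modules.pullback g).obj F) := by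
  obtain ⟨I, p, hp⟩ := hgg
  haveI : (Scheme.Modules.pullback g).PreservesEpimorphisms :=
    haveI := (Scheme.Modules.pullbackPushforwardAdjunction g).leftAdjoint_preservesColimits
    inferInstance
  haveI : Epi ((Scheme.Modules.pullback g).map p) := (Scheme.Modules.pullback g).map_epi _
  exact ⟨I, (Groth.Agent.Helper18Grp.pullbackFreeIso g I).inv ≫ (Scheme.Modules.pullback g).map p,
    epi_comp _ _⟩

set_option backward.isDefEq.respectTransparency false in
/-- over an affine base, an epimorphic counit `f^* f_* F ⟶ F` gives global generation -/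
theorem isGloballyGenerated_of_epi_counit {X : Scheme.{u}} (R : CommRingCat.{u})
    (f : X ⟶ Spec R) [QuasiCompact f] [QuasiSeparated f] (F : X.Modules) [F.IsQuasicoherent]
    (hepi : Epi ((Scheme.Modules.pullbackPushforwardAdjunction f).counit.app F)) :
    Curv2.IsGloballyGenerated F := by
  haveI : ((Scheme.Modules.pushforward f).obj F).IsQuasicoherent :=
    Groth.Agent.Lib.Helper23.QCohLocal.isQuasicoherent_pushforward f F
  obtain ⟨G⟩ := Groth.Agent.Lib.R2H4CounitEpiQc.exists_generatingSections_Spec R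
    ((Scheme.Modules.pushforward f).obj F)
  haveI : (Scheme.Modules.pullback f).PreservesEpimorphisms :=
    haveI := (Scheme.Modules.pullbackPushforwardAdjunction f).leftAdjoint_preservesColimits
    inferInstance
  haveI : Epi G.π := G.epi
  haveI : Epi ((Scheme.Modules.pullback f).map G.π) := (Scheme.Modules.pullback f).map_epi _
  haveI : Epi ((Scheme.Modules.pullback f).map G.π ≫
      (Scheme.Modules.pullbackPushforwardAdjunction f).counit.app F) := epi_comp _ _
  exact ⟨G.I, (Groth.Agent.Helper18Grp.pullbackFreeIso f G.I).inv ≫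
    ((Scheme.Modules.pullback f).map G.π ≫
      (Scheme.Modules.pullbackPushforwardAdjunction f).counit.app F), epi_comp _ _⟩

theorem main (A A' : Type u) [CommRing A] [CommRing A'] [Algebra A A']
    [Module.FaithfullyFlat A A'] (X : Scheme.{u}) (f : X ⟶ Spec (CommRingCat.of A))
    [QuasiCompact f] [QuasiSeparated f] (F : X.Modules) (hF : Coh.IsQCoh F) :
    Curv2.IsGloballyGenerated F ↔ Curv2.IsGloballyGenerated
      ((Scheme.Modules.pullback
        (pullback.fst f (Spec.map (CommRingCat.ofHom (algebraMap A A'))))).obj F) := by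
  haveI : F.IsQuasicoherent := hF
  refine ⟨isGloballyGenerated_pullback _ F, fun hgg => ?_⟩
  set g := Spec.map (CommRingCat.ofHom (algebraMap A A')) with hg
  haveI : Flat g := by
    rw [hg, Flat.SpecMap_iff]
    exact (RingHom.flat_algebraMap_iff).mpr inferInstance
  haveI : Surjective g := by
    rw [hg]
    constructor
    exact PrimeSpectrum.comap_surjective_of_faithfullyFlat
  have hpb : IsPullback (pullback.fst f g) (pullback.snd f g) f g := IsPullback.of_hasPullback f g
  have hpsi := epi_psi f g (pullback.fst f g) (pullback.snd f g) hpb F hgg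
  have hepi : Epi ((Scheme.Modules.pullbackPushforwardAdjunction f).counit.app F) := by
    refine Groth.Agent.Lib.Helper26.FpqcMod.epi_of_family (fun _ : Unit => pullback.fst f g)
      (fun y => ?_) _ (fun _ => hpsi)
    obtain ⟨x, hx⟩ := (inferInstance : Surjective (pullback.fst f g)).surj y
    exact ⟨(), x, hx⟩
  exact isGloballyGenerated_of_epi_counit (CommRingCat.of A) f F hepi

end main

end Groth.Agent.Lib.R2H4GGDescent
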