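import Mathlib
import Groth.Prelude
import Groth.Agent.Lib.Helper23SecTw9
import Groth.Agent.Lib.Helper23AmpleIso
import Groth.Agent.Lib.Helper23GG
import Groth.Agent.Lib.Helper23PB
import Groth.Agent.Lib.Helper23LocGen
import Groth.Agent.Lib.Helper12QuasiAffineDescent
import Groth.Agent.Lib.R2H4GGDescent
import Groth.Agent.Lib.R2H4CounitEpiQc
import Groth.Agent.Lib.R2H2PnFinite
import Groth.Agent.Lib.Helper23TensorUnit
import Groth.Agent.Lib.Helper26FpqcMod

/-!
# Ampleness descends along flat surjective base change of an affine base (helper4, round 2)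

Namespace `Groth.Agent.Lib.R2H4AmpleDesc`.

* `isAmple_of_quasiAffine_cover` : on a qcqs scheme, an invertible `L` such that every point lies in
  some quasi-affine `X_t`, `t` a section of a positive power of `L`, is ample.
-/

set_option autoImplicit false
set_option linter.style.haveILetI false
universe u
open CategoryTheory Limits AlgebraicGeometry TopologicalSpace Opposite

namespace Groth.Agent.Lib.R2H4AmpleDesc

open Groth.Agent.Lib.Helper23.SecTw Groth.Agent.Lib.Helper23.AmpleIso Groth.Agent.Lib.Helper23.GenLocus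
  Groth.Agent.Lib.Helper6 Groth.Agent.Lib.Helper23.Extend

section cover

variable {X : Scheme.{u}}

/-- On a quasi-compact quasi-separated scheme, if every point lies in a quasi-affine `X_t` for a
section `t` of a positive power of the invertible module `L`, then `L` is ample. -/
theorem isAmple_of_quasiAffine_cover [CompactSpace X] [QuasiSeparatedSpace X] (L : X.Modules)
    (hL : PicF.IsInvertible L)
    (h : ∀ x : X, ∃ (N : ℕ) (t : Coh.structureModule X ⟶ CohB1.tensorPow L (N + 1)),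
      x ∈ CohB1.genLocus _ t ∧ (CohB1.genLocus _ t : Scheme.{u}).IsQuasiAffine) :
    CohB1.IsAmple L := by
  refine ⟨hL, inferInstance, fun x => ?_⟩
  obtain ⟨N, t, hx, hqa⟩ := h x
  have hM : PicF.IsInvertible (CohB1.tensorPow L (N + 1)) := isInvertible_tensorPow hL (N + 1)
  obtain ⟨U, hU⟩ : ∃ U : X.Opens, U = CohB1.genLocus (CohB1.tensorPow L (N + 1)) t := ⟨_, rfl⟩
  rw [← hU] at hx hqa
  obtain ⟨W, ⟨r, hr, hrW⟩, hxr, -⟩ := Opens.isBasis_iff_nbhd.mp
    (Scheme.IsQuasiAffine.isBasis_basicOpen (U : Scheme.{u})) (U := ⊤) (x := (⟨x, hx⟩ : (U : Scheme.{u})))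
    trivial
  subst hrW
  let g : Γ(X, U) := U.topIso.hom r
  have hrg : U.topIso.inv g = r := by
    change (U.topIso.hom ≫ U.topIso.inv) r = r
    rw [Iso.hom_inv_id]
    rfl
  have hg : U.ι ''ᵁ (U : Scheme.{u}).basicOpen r = X.basicOpen g := by
    have := Scheme.Opens.ι_image_basicOpen_topIso_inv (U := U) g
    rw [hrg] at this
    exact this
  have haff : IsAffineOpen (X.basicOpen g) := by
    rw [← hg]
    exact hr.image_of_isOpenImmersion U.ι
  have hxg : x ∈ X.basicOpen g := by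
    rw [← hg]
    exact ⟨⟨x, hx⟩, hxr, rfl⟩
  subst hU
  obtain ⟨n, τ, hτ⟩ := exists_section_genLocus_eq_basicOpen (CohB1.tensorPow L (N + 1)) hM t g
  obtain ⟨Φ⟩ := nonempty_tensorPow_tensorPow_iso L hL (N + 1) (n + 1) (N * n + N + n + 1) (by ring)
  refine ⟨N * n + N + n, τ ≫ Φ.hom, ?_, ?_⟩
  · rw [genLocus_comp_iso Φ τ, hτ]
    exact hxg
  · rw [genLocus_comp_iso Φ τ, hτ]
    exact haff

/-- a section of `M` restricted to the open subscheme `U = ⊤` comes from a global section -/
theorem exists_section_of_restrict_top (M : X.Modules) (U : X.Opens) (hU : U = ⊤)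
    (s' : Coh.structureModule (↑U : Scheme.{u}) ⟶ M.restrict U.ι) :
    ∃ s : Coh.structureModule X ⟶ M, CohB1.genLocus _ s' = U.ι ⁻¹ᵁ CohB1.genLocus _ s := by
  have htop : (⊤ : X.Opens) ≤ U.ι ''ᵁ ⊤ := by
    intro y _
    exact ⟨⟨y, by rw [hU]; trivial⟩, trivial, rfl⟩
  obtain ⟨σU, hσU⟩ : ∃ σU : Γ(M, U.ι ''ᵁ ⊤), σU = sv s' ⊤ := ⟨_, rfl⟩
  obtain ⟨s, hs⟩ : ∃ s : Coh.structureModule X ⟶ M, s = secHom _ (res M htop σU) := ⟨_, rfl⟩
  have hss' : restrSec s U = s' := by
    apply hom_ext_of_sv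
    rw [sv_restrSec, hs, sv_secHom, res_res, res_self, hσU]
  refine ⟨s, ?_⟩
  rw [← hss', genLocus_restrSec]

/-- `X_s` is quasi-compact on a quasi-compact scheme -/
theorem isCompact_genLocus [CompactSpace X] (L : X.Modules) (hL : PicF.IsInvertible L)
    (s : Coh.structureModule X ⟶ L) : IsCompact (CohB1.genLocus L s : Set X) := by
  have hcov : ∀ x : X, ∃ U : X.Opens, IsAffineOpen U ∧ x ∈ U := fun x => by
    obtain ⟨U, hU, hx, -⟩ := exists_isAffineOpen_mem_and_subset (x := x) (U := ⊤) trivial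
    exact ⟨U, hU, hx⟩
  choose U hU hxU using hcov
  obtain ⟨T, hT⟩ := isCompact_univ.elim_finite_subcover (fun x => (U x : Set X))
    (fun x => (U x).2) (fun x _ => Set.mem_iUnion.2 ⟨x, hxU x⟩)
  have heq : (CohB1.genLocus L s : Set X) =
      ⋃ x ∈ T, ((U x ⊓ CohB1.genLocus L s : X.Opens) : Set X) := by
    ext y
    simp only [Set.mem_iUnion, SetLike.mem_coe, exists_prop]
    constructor
    · intro hy
      obtain ⟨x, hx⟩ := Set.mem_iUnion.1 (hT (Set.mem_univ y))
      obtain ⟨hxT, hyx⟩ := Set.mem_iUnion.1 hx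
      exact ⟨x, hxT, hyx, hy⟩
    · rintro ⟨x, -, -, hy⟩
      exact hy
  rw [heq]
  exact T.isCompact_biUnion (fun x _ => (isAffineOpen_inf_genLocus L hL s (U x) (hU x)).isCompact)

end cover

section square

variable {X S X' S' : Scheme.{u}} (f : X ⟶ S) (g : S' ⟶ S) (g' : X' ⟶ X) (f' : X' ⟶ S')
  (h : IsPullback g' f' f g)

include h in
theorem surjective_fst [Surjective g] : Surjective g' :=
  MorphismProperty.of_isPullback (P := @Surjective) h.flip inferInstance

include h in
theorem isAffineHom_fst [IsAffineHom g] : IsAffineHom g' :=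
  MorphismProperty.of_isPullback (P := @IsAffineHom) h.flip inferInstance

include h in
theorem flat_fst [Flat g] : Flat g' :=
  MorphismProperty.of_isPullback (P := @Flat) h.flip inferInstance

include h in
theorem quasiCompact_snd [QuasiCompact f] : QuasiCompact f' :=
  MorphismProperty.of_isPullback (P := @QuasiCompact) h inferInstance

include h in
/-- quasi-separatedness of the total space descends along a surjective affine base change -/
theorem quasiSeparatedSpace_of_isPullback [IsAffineHom g] [Surjective g]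
    [QuasiSeparatedSpace X'] : QuasiSeparatedSpace X := by
  have hs : Surjective g' := surjective_fst f g g' f' h
  have ha : IsAffineHom g' := isAffineHom_fst f g g' f' h
  rw [quasiSeparatedSpace_iff_forall_affineOpens]
  intro U V
  have hU : IsAffineOpen (g' ⁻¹ᵁ U.1) := U.2.preimage g'
  have hV : IsAffineOpen (g' ⁻¹ᵁ V.1) := V.2.preimage g'
  have hc : IsCompact ((g' ⁻¹ᵁ U.1 : X'.Opens) ∩ (g' ⁻¹ᵁ V.1 : X'.Opens) : Set X') :=
    QuasiSeparatedSpace.inter_isCompact _ _ (g' ⁻¹ᵁ U.1).2 hU.isCompact (g' ⁻¹ᵁ V.1).2 hV.isCompact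
  have himg : (U.1 : Set X) ∩ (V.1 : Set X) =
      g'.base '' (((g' ⁻¹ᵁ U.1 : X'.Opens) : Set X') ∩ ((g' ⁻¹ᵁ V.1 : X'.Opens) : Set X')) := by
    ext x
    constructor
    · rintro ⟨hxU, hxV⟩
      obtain ⟨x', rfl⟩ := hs.surj x
      exact ⟨x', ⟨hxU, hxV⟩, rfl⟩
    · rintro ⟨x', ⟨hxU, hxV⟩, rfl⟩
      exact ⟨hxU, hxV⟩
  rw [himg]
  exact hc.image g'.base.hom.continuous

include h in
/-- descent of nowhere-vanishing sections: if the pullback of the invertible module `F` to `X'` is
globally generated, then every point of `X` lies in `X_t` for some global section `t` of `F` -/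
theorem exists_section_mem_genLocus_of_isPullback [IsAffine S] [IsAffine S'] [QuasiCompact f]
    [QuasiSeparated f] [Flat g] [Surjective g] (F : X.Modules) (hF : PicF.IsInvertible F)
    (hgg : Curv2.IsGloballyGenerated ((Scheme.Modules.pullback g').obj F)) (x : X) :
    ∃ t : Coh.structureModule X ⟶ F, x ∈ CohB1.genLocus F t := by
  haveI : F.IsQuasicoherent := isQuasicoherent_of_isInvertible F hF
  haveI : Flat g' := flat_fst f g g' f' h
  have hs : Surjective g' := surjective_fst f g g' f' h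
  have hpsi := Groth.Agent.Lib.R2H4GGDescent.epi_psi f g g' f' h F hgg
  have hepi : Epi ((Scheme.Modules.pullbackPushforwardAdjunction f).counit.app F) := by
    refine Groth.Agent.Lib.Helper26.FpqcMod.epi_of_family (fun _ : Unit => g')
      (fun y => ?_) _ (fun _ => hpsi)
    obtain ⟨x', hx'⟩ := hs.surj y
    exact ⟨(), x', hx'⟩
  have hggU := (Groth.Agent.Lib.R2H4CounitEpiQc.main f F ‹F.IsQuasicoherent›).2.mp hepi ⊤
    (isAffineOpen_top S)
  have hU : f ⁻¹ᵁ (⊤ : S.Opens) = ⊤ := rfl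
  have hxU : x ∈ f ⁻¹ᵁ (⊤ : S.Opens) := trivial
  obtain ⟨t', ht'⟩ := Groth.Agent.Lib.Helper23.GG.exists_section_mem_genLocus
    (F.restrict (f ⁻¹ᵁ (⊤ : S.Opens)).ι) (isInvertible_restrict F hF _) hggU ⟨x, hxU⟩
  obtain ⟨t, ht⟩ := exists_section_of_restrict_top F _ hU t'
  refine ⟨t, ?_⟩
  rw [ht] at ht'
  exact ht'

include h in
/-- descent of quasi-affineness of the loci `X_t` -/
theorem isQuasiAffine_genLocus_of_isPullback [IsAffine S] [IsAffine S'] [Flat g] [Surjective g]
    [CompactSpace X] [QuasiSeparatedSpace X]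
    (L : X.Modules) (hL : PicF.IsInvertible L)
    (hamp : CohB1.IsAmple ((Scheme.Modules.pullback g').obj L))
    (N : ℕ) (t : Coh.structureModule X ⟶ CohB1.tensorPow L (N + 1)) :
    (CohB1.genLocus _ t : Scheme.{u}).IsQuasiAffine := by
  haveI : CompactSpace X' := hamp.2.1
  obtain ⟨s', hs'⟩ := Groth.Agent.Lib.Helper23.PB.exists_pullback_section g' L hL (N + 1) t
  have hqa' := isQuasiAffine_genLocus _ hamp N s'
  rw [hs'] at hqa'
  have hc := isCompact_genLocus _ (isInvertible_tensorPow hL (N + 1)) t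
  obtain ⟨W, hW⟩ : ∃ W : X.Opens, W = CohB1.genLocus _ t := ⟨_, rfl⟩
  rw [← hW] at hqa' hc ⊢
  have hsq : IsPullback ((g' ⁻¹ᵁ W).ι ≫ f') (g' ∣_ W) g (W.ι ≫ f) :=
    ((isPullback_morphismRestrict g' W).paste_vert h).flip
  haveI : CompactSpace (W : Scheme.{u}) := isCompact_iff_compactSpace.1 hc
  haveI : QuasiSeparatedSpace (W : Scheme.{u}) :=
    QuasiSeparatedSpace.of_isOpenEmbedding W.ι.isOpenEmbedding
  haveI : QuasiCompact g := inferInstance
  haveI : CompactSpace ((g' ⁻¹ᵁ W : X'.Opens) : Scheme.{u}) := hqa'.toCompactSpace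
  refine Groth.Agent.Lib.Helper12.isQuasiAffine_of_isPullback hsq (fun V' hV' => ?_)
  haveI : CompactSpace ((((g' ⁻¹ᵁ W).ι ≫ f') ⁻¹ᵁ V' : Scheme.Opens _) : Scheme.{u}) :=
    isCompact_iff_compactSpace.1 (((g' ⁻¹ᵁ W).ι ≫ f').isCompact_preimage hV'.isCompact)
  exact Scheme.IsQuasiAffine.of_isImmersion (((g' ⁻¹ᵁ W).ι ≫ f') ⁻¹ᵁ V').ι

include h in
/-- **Ampleness descends along a flat surjective base change of affine bases.** -/
theorem isAmple_of_isPullback [IsAffine S] [IsAffine S'] [QuasiCompact f] [Flat g] [Surjective g]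
    (L : X.Modules) (hL : PicF.IsInvertible L)
    (hamp : CohB1.IsAmple ((Scheme.Modules.pullback g').obj L)) : CohB1.IsAmple L := by
  haveI : CompactSpace X' := hamp.2.1
  haveI : QuasiSeparatedSpace X' := quasiSeparatedSpace_of_isAmple _ hamp
  haveI : CompactSpace X := QuasiCompact.compactSpace_of_compactSpace f
  haveI : QuasiSeparatedSpace X := quasiSeparatedSpace_of_isPullback f g g' f' h
  haveI : QuasiSeparated f := inferInstance
  haveI := Groth.Agent.Lib.Helper23.Serre.isQuasicoherent_structureModule' X'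
  haveI := Groth.Agent.Lib.R2H2.PnFinite.isFiniteType_structureModule X'
  obtain ⟨n₀, hn₀⟩ := Groth.Agent.Lib.Helper23.LocGen.isGloballyGenerated_twist_eventually _ hamp
    (Coh.structureModule X')
  obtain ⟨I, p, hp⟩ := hn₀ (n₀ + 1) (Nat.le_succ _)
  obtain ⟨Φ⟩ := Groth.Agent.Lib.Helper23.PB.nonempty_pullback_tensorPow_iso g' L hL (n₀ + 1)
  have hgg2 : Curv2.IsGloballyGenerated
      ((Scheme.Modules.pullback g').obj (CohB1.tensorPow L (n₀ + 1))) :=
    ⟨I, p ≫ (Groth.Agent.Lib.Helper23.TensorUnit.unitTensorIso _ ≪≫ Φ.symm).hom, epi_comp _ _⟩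
  refine isAmple_of_quasiAffine_cover L hL (fun x => ?_)
  obtain ⟨t, ht⟩ := exists_section_mem_genLocus_of_isPullback f g g' f' h _
    (isInvertible_tensorPow hL (n₀ + 1)) hgg2 x
  exact ⟨n₀, t, ht, isQuasiAffine_genLocus_of_isPullback f g g' f' h L hL hamp n₀ t⟩

end square

end Groth.Agent.Lib.R2H4AmpleDesc
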