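import Mathlib
import Groth.Prelude
import Groth.Agent.Lib.R2H4AmpleDesc
import Groth.Agent.Lib.Helper23Coprod
import Groth.Agent.Lib.Helper23RestrJ
import Groth.Agent.Lib.Helper12Submersive

/-!
# Relative ampleness descends along quasi-compact flat surjective base change (helper4, round 2)

Namespace `Groth.Agent.Lib.R2H4RelAmpleDesc`.
-/

set_option autoImplicit false
set_option linter.style.haveILetI false
universe u
open CategoryTheory Limits AlgebraicGeometry TopologicalSpace Opposite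

namespace Groth.Agent.Lib.R2H4RelAmpleDesc

open Groth.Agent.Lib.Helper23.SecTw Groth.Agent.Lib.Helper23.AmpleIso
  Groth.Agent.Lib.Helper23.RestrJ Groth.Agent.Lib.Helper23.Coprod

section disjoint

variable {P : Scheme.{u}}

/-- ampleness on a scheme covered by pairwise disjoint opens can be checked on the members -/
theorem isAmple_of_disjoint_family [CompactSpace P] (L : P.Modules) {σ : Type*} (U : σ → P.Opens)
    (hcov : ∀ x : P, ∃ j, x ∈ U j) (hdisj : ∀ j k, j ≠ k → U j ⊓ U k = ⊥)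
    (h : ∀ j, CohB1.IsAmple (L.restrict (U j).ι)) : CohB1.IsAmple L := by
  classical
  refine isAmple_of_basicOpen_cover L (fun x => ?_)
  obtain ⟨j, hj⟩ := hcov x
  have hcov' : U j ⊔ (⨆ k : {k // k ≠ j}, U k.1) = ⊤ := by
    rw [eq_top_iff]
    intro y _
    obtain ⟨k, hk⟩ := hcov y
    by_cases hkj : k = j
    · subst hkj
      exact Or.inl hk
    · refine Or.inr ?_
      exact Opens.mem_iSup.2 ⟨⟨k, hkj⟩, hk⟩
  have hdisj' : U j ⊓ (⨆ k : {k // k ≠ j}, U k.1) = ⊥ := by
    rw [inf_iSup_eq]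
    rw [eq_bot_iff]
    refine iSup_le (fun k => ?_)
    rw [hdisj j k.1 (Ne.symm k.2)]
  obtain ⟨e, he1, -⟩ := exists_idempotent_of_disjoint_cover _ _ hcov' hdisj'
  refine ⟨e, by rw [he1]; exact hj, ?_⟩
  rw [he1]
  exact h j

end disjoint

section isos

variable {P Q Z : Scheme.{u}}

/-- restriction along an open immersion of a pullback is a pullback along the composite -/
noncomputable def restrictPullbackIso (a : P ⟶ Q) (N : Q.Modules) (φ : Z ⟶ P) [IsOpenImmersion φ] :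
    ((Scheme.Modules.pullback a).obj N).restrict φ ≅ (Scheme.Modules.pullback (φ ≫ a)).obj N :=
  (Scheme.Modules.restrictFunctorIsoPullback φ).app _ ≪≫ (Scheme.Modules.pullbackComp φ a).app N

/-- pullback of a restriction along an open immersion is a pullback along the composite -/
noncomputable def pullbackRestrictIso (ρ : Z ⟶ P) (j : P ⟶ Q) [IsOpenImmersion j] (L : Q.Modules) :
    (Scheme.Modules.pullback ρ).obj (L.restrict j) ≅ (Scheme.Modules.pullback (ρ ≫ j)).obj L :=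
  (Scheme.Modules.pullback ρ).mapIso ((Scheme.Modules.restrictFunctorIsoPullback j).app L) ≪≫
    (Scheme.Modules.pullbackComp ρ j).app L

end isos

section main

variable {X S X' S' : Scheme.{u}} (f : X ⟶ S) (g : S' ⟶ S) (g' : X' ⟶ X) (f' : X' ⟶ S')
  (h : IsPullback g' f' f g)

include h in
set_option maxHeartbeats 800000 in
/-- the local statement: ampleness over an affine open of the base descends -/
theorem isAmple_restrict_preimage [QuasiCompact f] [QuasiCompact g] [Flat g] [Surjective g]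
    (L : X.Modules) (hL : PicF.IsInvertible L)
    (hamp : ∀ W : S'.affineOpens,
      CohB1.IsAmple (((Scheme.Modules.pullback g').obj L).restrict (f' ⁻¹ᵁ W.1).ι))
    (V : S.affineOpens) : CohB1.IsAmple (L.restrict (f ⁻¹ᵁ V.1).ι) := by
  classical
  -- a finite affine cover of `g⁻¹ V`
  have hc : IsCompact ((g ⁻¹ᵁ V.1 : S'.Opens) : Set S') := g.isCompact_preimage V.2.isCompact
  have hcov : ∀ y : (g ⁻¹ᵁ V.1 : S'.Opens), ∃ W : S'.Opens, IsAffineOpen W ∧ y.1 ∈ W ∧
      W ≤ g ⁻¹ᵁ V.1 := fun y => by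
    obtain ⟨W, hW, hyW, hWV⟩ := exists_isAffineOpen_mem_and_subset (x := y.1)
      (U := g ⁻¹ᵁ V.1) y.2
    exact ⟨W, hW, hyW, hWV⟩
  choose Wc hWaff hyW hWle using hcov
  obtain ⟨T, hT⟩ := hc.elim_finite_subcover (fun y => (Wc y : Set S')) (fun y => (Wc y).2)
    (fun y hy => Set.mem_iUnion.2 ⟨⟨y, hy⟩, hyW ⟨y, hy⟩⟩)
  -- the coproduct of the members
  let σ : Type u := {y // y ∈ T}
  let W : σ → S'.Opens := fun j => Wc j.1
  let Wl : σ → Scheme.{u} := fun j => (W j : Scheme.{u})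
  haveI : ∀ j, IsAffine (Wl j) := fun j => hWaff j.1
  haveI : IsAffine (V.1 : Scheme.{u}) := V.2
  let c : ∀ j, Wl j ⟶ (V.1 : Scheme.{u}) := fun j => g.resLE V.1 (W j) (hWle j.1)
  let pT : ∐ Wl ⟶ (V.1 : Scheme.{u}) := Sigma.desc c
  haveI : Flat pT := IsZariskiLocalAtSource.sigmaDesc (P := @Flat) (fun j => inferInstance)
  haveI : Surjective pT := by
    refine ⟨fun z => ?_⟩
    obtain ⟨y, hy⟩ := (inferInstance : Surjective g).surj z.1
    have hyV : y ∈ g ⁻¹ᵁ V.1 := by
      change g y ∈ V.1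
      rw [hy]
      exact z.2
    obtain ⟨j, hj⟩ := Set.mem_iUnion.1 (hT hyV)
    obtain ⟨hjT, hyj⟩ := Set.mem_iUnion.1 hj
    refine ⟨(Sigma.ι Wl ⟨j, hjT⟩) ⟨y, hyj⟩, ?_⟩
    change (Sigma.desc c) ((Sigma.ι Wl ⟨j, hjT⟩) ⟨y, hyj⟩) = z
    rw [← Scheme.Hom.comp_apply, Sigma.ι_desc]
    apply Subtype.ext
    have := congrArg (fun φ => (φ : (W ⟨j, hjT⟩ : Scheme.{u}) ⟶ S) ⟨y, hyj⟩)
      (Scheme.Hom.resLE_comp_ι g (hWle j))
    exact this.trans hy
  -- the restricted morphism and module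
  let fV : ((f ⁻¹ᵁ V.1 : X.Opens) : Scheme.{u}) ⟶ (V.1 : Scheme.{u}) := f ∣_ V.1
  have hLV : PicF.IsInvertible (L.restrict (f ⁻¹ᵁ V.1).ι) :=
    Groth.Agent.Lib.Helper23.SecTw.isInvertible_restrict L hL _
  refine Groth.Agent.Lib.R2H4AmpleDesc.isAmple_of_isPullback fV pT (pullback.fst fV pT)
    (pullback.snd fV pT) (IsPullback.of_hasPullback fV pT) _ hLV ?_
  -- ampleness on the pullback, a disjoint union
  haveI : CompactSpace ↥(pullback fV pT) :=
    QuasiCompact.compactSpace_of_compactSpace (pullback.snd fV pT)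
  refine isAmple_of_disjoint_family _
    (fun j : σ => (pullback.snd fV pT) ⁻¹ᵁ (Sigma.ι Wl j).opensRange) (fun x => ?_)
    (fun j k hjk => ?_) (fun j => ?_)
  · obtain ⟨j, y, hy⟩ := (sigmaOpenCover Wl).exists_eq ((pullback.snd fV pT) x)
    exact ⟨j, y, hy⟩
  · rw [← Scheme.Hom.preimage_inf, (disjoint_opensRange_sigmaι Wl j k hjk).eq_bot]
    rfl
  · -- the `j`-th member is the preimage of `W j` in `X'`
    let UY : X'.Opens := g' ⁻¹ᵁ (f ⁻¹ᵁ V.1) ⊓ f' ⁻¹ᵁ (W j)
    have sq := Scheme.Hom.isPullback_resLE h (US := V.1) (UT := W j) (UX := f ⁻¹ᵁ V.1)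
      (hWle j.1) le_rfl (UY := UY) rfl
    rw [Scheme.Hom.resLE_eq_morphismRestrict] at sq
    let ρ : (UY : Scheme.{u}) ⟶ ((f ⁻¹ᵁ V.1 : X.Opens) : Scheme.{u}) :=
      g'.resLE (f ⁻¹ᵁ V.1) UY inf_le_left
    let fj : (UY : Scheme.{u}) ⟶ Wl j := f'.resLE (W j) UY inf_le_right
    have hw : ρ ≫ fV = (fj ≫ Sigma.ι Wl j) ≫ pT := by
      rw [Category.assoc, Sigma.ι_desc]
      exact sq.w
    let φ : (UY : Scheme.{u}) ⟶ pullback fV pT := pullback.lift ρ (fj ≫ Sigma.ι Wl j) hw
    have hφ1 : φ ≫ pullback.fst fV pT = ρ := pullback.lift_fst _ _ _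
    have hφ2 : φ ≫ pullback.snd fV pT = fj ≫ Sigma.ι Wl j := pullback.lift_snd _ _ _
    have hφ : IsPullback φ fj (pullback.snd fV pT) (Sigma.ι Wl j) := by
      refine IsPullback.of_right ?_ hφ2 (IsPullback.of_hasPullback fV pT)
      rw [hφ1, Sigma.ι_desc]
      exact sq
    haveI : IsOpenImmersion φ :=
      MorphismProperty.of_isPullback (P := @IsOpenImmersion) hφ.flip inferInstance
    have hrange : φ.opensRange = (pullback.snd fV pT) ⁻¹ᵁ (Sigma.ι Wl j).opensRange := by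
      have := IsOpenImmersion.image_preimage_eq_preimage_image_of_isPullback hφ.flip ⊤
      simpa using this
    have hr1 : Set.range ((pullback.snd fV pT) ⁻¹ᵁ (Sigma.ι Wl j).opensRange).ι = Set.range φ := by
      rw [Scheme.Opens.range_ι, ← hrange]
      rfl
    rw [isAmple_restrict_iff_of_range_eq _ (Scheme.Opens.ι _) φ hr1]
    rw [isAmple_iff_of_iso (restrictPullbackIso (pullback.fst fV pT) _ φ)]
    rw [isAmple_iff_of_iso ((Scheme.Modules.pullbackCongr hφ1).app _)]
    rw [isAmple_iff_of_iso (pullbackRestrictIso ρ (f ⁻¹ᵁ V.1).ι L)]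
    have hρ : ρ ≫ (f ⁻¹ᵁ V.1).ι = UY.ι ≫ g' := Scheme.Hom.resLE_comp_ι _ _
    rw [isAmple_iff_of_iso ((Scheme.Modules.pullbackCongr hρ).app _)]
    rw [← isAmple_iff_of_iso (restrictPullbackIso g' L UY.ι)]
    have hUY : UY = f' ⁻¹ᵁ (W j) := by
      apply le_antisymm inf_le_right
      refine le_inf ?_ le_rfl
      have h1 : f' ⁻¹ᵁ (W j) ≤ f' ⁻¹ᵁ (g ⁻¹ᵁ V.1) := f'.preimage_mono (hWle j.1)
      refine h1.trans ?_
      rw [← Scheme.Hom.comp_preimage, ← Scheme.Hom.comp_preimage, h.w]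
    have hr2 : Set.range UY.ι = Set.range (f' ⁻¹ᵁ (W j)).ι := by
      rw [Scheme.Opens.range_ι, Scheme.Opens.range_ι, hUY]
    rw [isAmple_restrict_iff_of_range_eq _ UY.ι (f' ⁻¹ᵁ (W j)).ι hr2]
    exact hamp ⟨W j, hWaff j.1⟩

include h in
/-- **Relative ampleness descends along a quasi-compact flat surjective base change.** -/
theorem isRelAmple_of_isPullback [QuasiCompact g] [Flat g] [Surjective g]
    (L : X.Modules) (hL : PicF.IsInvertible L)
    (hamp : RelAmple.IsRelAmple f' ((Scheme.Modules.pullback g').obj L)) :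
    RelAmple.IsRelAmple f L := by
  have hqc : QuasiCompact f :=
    Groth.Agent.Lib.Helper12.Submersive.quasiCompact_of_isPullback h.flip inferInstance inferInstance hamp.1
  exact ⟨hqc, fun V => isAmple_restrict_preimage f g g' f' h L hL hamp.2 V⟩

end main

end Groth.Agent.Lib.R2H4RelAmpleDesc
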