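import Mathlib
import Groth.Prelude
import Groth.Agent.Lib.Helper23PB
import Groth.Agent.Lib.Helper23SecTw6
import Groth.Agent.Lib.Helper23SecTw10
import Groth.Agent.Lib.Helper23LocGen
import Groth.Agent.Lib.Helper23AmpleIso
import Groth.Agent.Lib.Helper23TensorUnit
import Groth.Agent.Lib.Helper23RestrTensor
import Groth.Agent.Lib.R2H4InvExists
import Groth.Agent.Lib.R2H4RelAmpleDesc

/-!
# A Prop-level calculus of isomorphism classes of modules (pullback, tensor, unit)

`M ≃ₘ N` means `Nonempty (M ≅ N)`.  Lemmas: congruence for `tens`/`pull`, `pull_comp`, `pull_of_eq`,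
`pull_tens`, `pull_OO`, `pull_id`, associativity, commutativity (invertible), units, cancellation of
an invertible factor, triviality of the pullback of an invertible module along a constant map.
-/

universe u

open CategoryTheory AlgebraicGeometry

namespace Groth.Agent.Lib.H9PicCalc

variable {X Y Z : Scheme.{u}}

/-- existence of an isomorphism of modules -/
def Eqv (M N : X.Modules) : Prop := Nonempty (M ≅ N)

@[inherit_doc] infix:50 " ≃ₘ " => Eqv

/-- inverse image -/
noncomputable abbrev pull (f : X ⟶ Y) (M : Y.Modules) : X.Modules := (Scheme.Modules.pullback f).obj M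

/-- tensor product -/
noncomputable abbrev tens (M N : X.Modules) : X.Modules := CohB1.tensorMod M N

/-- structure module -/
noncomputable abbrev OO (X : Scheme.{u}) : X.Modules := Coh.structureModule X

theorem Eqv.refl (M : X.Modules) : M ≃ₘ M := ⟨Iso.refl _⟩

theorem Eqv.symm {M N : X.Modules} (h : M ≃ₘ N) : N ≃ₘ M := ⟨h.some.symm⟩

theorem Eqv.trans {M N P : X.Modules} (h : M ≃ₘ N) (h' : N ≃ₘ P) : M ≃ₘ P := ⟨h.some ≪≫ h'.some⟩

theorem tens_congr {M M' N N' : X.Modules} (h : M ≃ₘ M') (h' : N ≃ₘ N') : tens M N ≃ₘ tens M' N' :=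
  ⟨Groth.Agent.Lib.Helper23.AmpleIso.tensorModIso h.some h'.some⟩

theorem pull_congr (f : X ⟶ Y) {M N : Y.Modules} (h : M ≃ₘ N) : pull f M ≃ₘ pull f N :=
  ⟨(Scheme.Modules.pullback f).mapIso h.some⟩

theorem pull_comp (f : X ⟶ Y) (g : Y ⟶ Z) (M : Z.Modules) : pull (f ≫ g) M ≃ₘ pull f (pull g M) :=
  ⟨((Scheme.Modules.pullbackComp f g).app M).symm⟩

theorem pull_of_eq {f g : X ⟶ Y} (h : f = g) (M : Y.Modules) : pull f M ≃ₘ pull g M := by
  subst h; exact Eqv.refl _

theorem pull_id (M : X.Modules) : pull (𝟙 X) M ≃ₘ M := ⟨(Scheme.Modules.pullbackId X).app M⟩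

theorem pull_tens (f : X ⟶ Y) (M N : Y.Modules) : pull f (tens M N) ≃ₘ tens (pull f M) (pull f N) :=
  ⟨Groth.Agent.Lib.Helper23.RestrTensor.pullbackTensorIso M N f⟩

theorem pull_OO (f : X ⟶ Y) : pull f (OO Y) ≃ₘ OO X :=
  ⟨Groth.Agent.Lib.Helper23.PB.pullbackUnitIso f⟩

theorem tens_assoc (M N P : X.Modules) : tens (tens M N) P ≃ₘ tens M (tens N P) :=
  ⟨Groth.Agent.Lib.Helper23.LocGen.tensorAssoc M N P⟩

theorem tens_comm (M N : X.Modules) (hM : PicF.IsInvertible M) (hN : PicF.IsInvertible N) :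
    tens M N ≃ₘ tens N M :=
  Groth.Agent.Lib.Helper23.SecTw.nonempty_tensorMod_comm_iso M N hM hN

theorem tens_OO (M : X.Modules) : tens M (OO X) ≃ₘ M :=
  ⟨Groth.Agent.Lib.Helper23.TensorUnit.tensorUnitIso M⟩

theorem OO_tens (M : X.Modules) : tens (OO X) M ≃ₘ M :=
  ⟨Groth.Agent.Lib.Helper23.TensorUnit.unitTensorIso M⟩

theorem inv_pull (f : X ⟶ Y) {L : Y.Modules} (hL : PicF.IsInvertible L) : PicF.IsInvertible (pull f L) :=
  Groth.Agent.Lib.Helper23.PB.isInvertible_pullback f L hL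

theorem inv_tens {M N : X.Modules} (hM : PicF.IsInvertible M) (hN : PicF.IsInvertible N) :
    PicF.IsInvertible (tens M N) :=
  Groth.Agent.Lib.Helper23.SecTw.isInvertible_tensorMod hM hN

theorem exists_inverse {L : X.Modules} (hL : PicF.IsInvertible L) :
    ∃ L' : X.Modules, PicF.IsInvertible L' ∧ tens L L' ≃ₘ OO X :=
  Groth.Agent.Lib.R2H4InvExists.exists_inverse L hL

/-- cancellation of an invertible right factor -/
theorem cancel_right {M M' N : X.Modules} (hN : PicF.IsInvertible N) (h : tens M N ≃ₘ tens M' N) :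
    M ≃ₘ M' := by
  obtain ⟨N', -, hN'⟩ := exists_inverse hN
  have h1 : ∀ P : X.Modules, tens (tens P N) N' ≃ₘ P := fun P =>
    ((tens_assoc P N N').trans (tens_congr (Eqv.refl P) hN')).trans (tens_OO P)
  exact ((h1 M).symm.trans (tens_congr h (Eqv.refl N'))).trans (h1 M')

/-- the inverse image of an invertible module along a map whose range lies in a trivialising open is
trivial -/
theorem pull_trivial_of_range_le {T : Scheme.{u}} (g : T ⟶ X) (L : X.Modules) (U : X.Opens)
    (hg : Set.range g ⊆ (U : Set X)) (e : L.restrict U.ι ≅ Coh.structureModule (↑U)) :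
    pull g L ≃ₘ OO T := by
  have hr : Set.range g ⊆ Set.range U.ι := by
    rw [Scheme.Opens.range_ι]; exact hg
  let ρ : T ⟶ (U : Scheme.{u}) := IsOpenImmersion.lift U.ι g hr
  have hρ : ρ ≫ U.ι = g := IsOpenImmersion.lift_fac _ _ _
  have h1 : pull g L ≃ₘ pull (ρ ≫ U.ι) L := pull_of_eq hρ.symm L
  have h2 : pull ρ (L.restrict U.ι) ≃ₘ pull (ρ ≫ U.ι) L :=
    ⟨Groth.Agent.Lib.R2H4RelAmpleDesc.pullbackRestrictIso ρ U.ι L⟩
  exact ((h1.trans h2.symm).trans (pull_congr ρ ⟨e⟩)).trans (pull_OO ρ)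

/-- the inverse image of an invertible module along a constant map is trivial -/
theorem pull_trivial_of_const {T : Scheme.{u}} (g : T ⟶ X) (L : X.Modules) (hL : PicF.IsInvertible L)
    (x₀ : X) (hg : ∀ t : T, g t = x₀) : pull g L ≃ₘ OO T := by
  obtain ⟨U, hxU, ⟨e⟩⟩ := hL x₀
  refine pull_trivial_of_range_le g L U ?_ e
  rintro _ ⟨t, rfl⟩
  rw [hg t]; exact hxU

end Groth.Agent.Lib.H9PicCalc
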