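import Mathlib
import Groth.Prelude
import Groth.Agent.Lib.H9PicCalc

/-!
# The subscheme `K(L)`: slices of the Mumford bundle, translation description of the points
-/

universe u

open CategoryTheory CategoryTheory.Limits MonoidalCategory CartesianMonoidalCategory MonObj AlgebraicGeometry

namespace Groth.Agent.Lib.H9KLa

open Groth.Agent.Lib.H9PicCalc

section General

variable {S : Scheme.{u}}

theorem pull_pull {A B C : Over S} (f : A ⟶ B) (g : B ⟶ C) (h : A ⟶ C) (w : f ≫ g = h)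
    (M : C.left.Modules) : pull f.left (pull g.left M) ≃ₘ pull h.left M := by
  subst w
  exact (pull_comp f.left g.left M).symm

theorem pull_id_over {A : Over S} (M : A.left.Modules) : pull (𝟙 A : A ⟶ A).left M ≃ₘ M :=
  pull_id M

end General

section Field

variable {k : Type u} [Field k] (X : Over (Spec (CommRingCat.of k))) [GrpObj X]
  (L : X.left.Modules) (hL : PicF.IsInvertible L)

include hL in
/-- the inverse image of an invertible module along the unit point is trivial -/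
theorem pull_one (T : Over (Spec (CommRingCat.of k))) : pull (1 : T ⟶ X).left L ≃ₘ OO T.left := by
  have h1 : (1 : T ⟶ X) = toUnit T ≫ η[X] := rfl
  let p₀ : ↥(𝟙_ (Over (Spec (CommRingCat.of k)))).left :=
    (show PrimeSpectrum k from ⟨⊥, Ideal.isPrime_bot⟩)
  refine pull_trivial_of_const _ L hL (η[X].left p₀) ?_
  intro t
  rw [h1, Over.comp_left]
  have : (toUnit T).left t = p₀ := by
    have hs : Subsingleton (PrimeSpectrum k) := inferInstance
    exact @Subsingleton.elim (PrimeSpectrum k) hs _ _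
  rw [← this]
  rfl

/-- the unit section `Z ⟶ X ⊗ Z`, `z ↦ (1, z)` -/
noncomputable def sec (Z : Over (Spec (CommRingCat.of k))) : Z ⟶ X ⊗ Z := lift (1 : Z ⟶ X) (𝟙 Z)

@[simp] theorem sec_fst (Z : Over (Spec (CommRingCat.of k))) : sec X Z ≫ fst X Z = 1 := lift_fst _ _

@[simp] theorem sec_snd (Z : Over (Spec (CommRingCat.of k))) : sec X Z ≫ snd X Z = 𝟙 Z := lift_snd _ _

theorem whiskerLeft_mul {Z : Over (Spec (CommRingCat.of k))} (z : Z ⟶ X) :
    (X ◁ z) ≫ μ[X] = fst X Z * (snd X Z ≫ z) := by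
  rw [Hom.mul_def]
  congr 1

theorem whiskerLeft_mul_eq_transl {Z : Over (Spec (CommRingCat.of k))} (z : Z ⟶ X) :
    (X ◁ z) ≫ μ[X] = ThetaGrp.transl X z ≫ fst X Z := by
  rw [whiskerLeft_mul, ThetaGrp.transl_fst]

theorem sec_mul {Z : Over (Spec (CommRingCat.of k))} (z : Z ⟶ X) :
    sec X Z ≫ (X ◁ z) ≫ μ[X] = z := by
  rw [whiskerLeft_mul, comp_mul, sec_fst, ← Category.assoc, sec_snd, Category.id_comp, _root_.one_mul]

/-- the normalised Mumford condition along `z` -/
def Q {Z : Over (Spec (CommRingCat.of k))} (z : Z ⟶ X) : Prop :=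
  tens (pull (fst X Z).left L) (pull (snd X Z).left (pull z.left L)) ≃ₘ
    pull ((X ◁ z) ≫ μ[X]).left L

include hL in
/-- restricting a Mumford trivialisation to the slice `1 × Z` shows the module on `Z` is trivial -/
theorem triv_of_lambda {Z : Over (Spec (CommRingCat.of k))} (z : Z ⟶ X) (M : Z.left.Modules)
    (h : AgPol.IsLambdaSheaf ((X ◁ z) ≫ μ[X]).left (fst X Z).left (snd X Z ≫ z).left L
      (pull (snd X Z).left M)) : M ≃ₘ OO Z.left := by
  have h' : tens (tens (pull (snd X Z).left M) (pull (fst X Z).left L)) (pull (snd X Z ≫ z).left L) ≃ₘ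
      pull ((X ◁ z) ≫ μ[X]).left L := h
  have h1 := pull_congr (sec X Z).left h'
  have e1 : pull (sec X Z).left (pull (snd X Z).left M) ≃ₘ M :=
    (pull_pull (sec X Z) (snd X Z) (𝟙 Z) (sec_snd X Z) M).trans (pull_id_over M)
  have e2 : pull (sec X Z).left (pull (fst X Z).left L) ≃ₘ OO Z.left :=
    (pull_pull (sec X Z) (fst X Z) 1 (sec_fst X Z) L).trans (pull_one X L hL Z)
  have e3 : pull (sec X Z).left (pull (snd X Z ≫ z).left L) ≃ₘ pull z.left L :=
    pull_pull (sec X Z) (snd X Z ≫ z) z (by rw [← Category.assoc, sec_snd, Category.id_comp]) L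
  have e4 : pull (sec X Z).left (pull ((X ◁ z) ≫ μ[X]).left L) ≃ₘ pull z.left L :=
    pull_pull (sec X Z) ((X ◁ z) ≫ μ[X]) z (sec_mul X z) L
  have h2 : tens (tens M (OO Z.left)) (pull z.left L) ≃ₘ pull z.left L :=
    (((tens_congr (tens_congr e1 e2) e3).symm.trans
      ((tens_congr (pull_tens _ _ _) (Eqv.refl _)).symm.trans (pull_tens _ _ _).symm)).trans h1).trans e4
  have h3 : tens (tens M (OO Z.left)) (pull z.left L) ≃ₘ tens (OO Z.left) (pull z.left L) :=
    h2.trans (OO_tens _).symm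
  exact (tens_OO M).symm.trans (cancel_right (inv_pull z.left hL) h3)

include hL in
/-- the Mumford condition along `z`, normalised -/
theorem mumfordTriv_iff {Z : Over (Spec (CommRingCat.of k))} (z : Z ⟶ X) :
    ThetaGrp.IsMumfordTriv X L z ↔ Q X L z := by
  constructor
  · rintro ⟨M, -, h⟩
    have hM : M ≃ₘ OO Z.left := triv_of_lambda X L hL z M h
    have h' : tens (tens (pull (snd X Z).left M) (pull (fst X Z).left L)) (pull (snd X Z ≫ z).left L) ≃ₘ
        pull ((X ◁ z) ≫ μ[X]).left L := h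
    have e1 : pull (fst X Z).left L ≃ₘ tens (pull (snd X Z).left M) (pull (fst X Z).left L) :=
      (OO_tens _).symm.trans
        (tens_congr ((pull_OO _).symm.trans (pull_congr _ hM.symm)) (Eqv.refl _))
    have e2 : pull (snd X Z).left (pull z.left L) ≃ₘ pull (snd X Z ≫ z).left L :=
      pull_pull (snd X Z) z (snd X Z ≫ z) rfl L
    exact (tens_congr e1 e2).trans h'
  · intro h
    refine ⟨OO Z.left, Groth.Agent.Lib.Helper23.TensorUnit.isInvertible_structureModule _, ?_⟩
    show tens (tens (pull (snd X Z).left (OO Z.left)) (pull (fst X Z).left L))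
      (pull (snd X Z ≫ z).left L) ≃ₘ pull ((X ◁ z) ≫ μ[X]).left L
    have e1 : tens (pull (snd X Z).left (OO Z.left)) (pull (fst X Z).left L) ≃ₘ pull (fst X Z).left L :=
      (tens_congr (pull_OO _) (Eqv.refl _)).trans (OO_tens _)
    have e2 : pull (snd X Z ≫ z).left L ≃ₘ pull (snd X Z).left (pull z.left L) :=
      (pull_pull (snd X Z) z (snd X Z ≫ z) rfl L).symm
    exact (tens_congr e1 e2).trans h

include hL in
/-- if `L_T ⊗ pr^* M ≅ t_x^* L_T` then `M ≅ x^* L` -/
theorem iso_pull_of_transl {T : Over (Spec (CommRingCat.of k))} (x : T ⟶ X) (M : T.left.Modules)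
    (h : tens (pull (fst X T).left L) (pull (snd X T).left M) ≃ₘ
      pull (ThetaGrp.transl X x ≫ fst X T).left L) : M ≃ₘ pull x.left L := by
  have h1 := pull_congr (sec X T).left h
  have e1 : pull (sec X T).left (pull (snd X T).left M) ≃ₘ M :=
    (pull_pull (sec X T) (snd X T) (𝟙 T) (sec_snd X T) M).trans (pull_id_over M)
  have e2 : pull (sec X T).left (pull (fst X T).left L) ≃ₘ OO T.left :=
    (pull_pull (sec X T) (fst X T) 1 (sec_fst X T) L).trans (pull_one X L hL T)
  have e4 : pull (sec X T).left (pull (ThetaGrp.transl X x ≫ fst X T).left L) ≃ₘ pull x.left L :=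
    pull_pull (sec X T) (ThetaGrp.transl X x ≫ fst X T) x
      (by rw [← whiskerLeft_mul_eq_transl, sec_mul]) L
  exact (((OO_tens M).symm.trans (tens_congr e2 e1).symm).trans
    ((pull_tens _ _ _).symm.trans h1)).trans e4

/-- the translation form of the condition -/
def P {T : Over (Spec (CommRingCat.of k))} (x : T ⟶ X) : Prop :=
  ∃ M : T.left.Modules, PicF.IsInvertible M ∧
    tens (pull (fst X T).left L) (pull (snd X T).left M) ≃ₘ
      pull (ThetaGrp.transl X x ≫ fst X T).left L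

include hL in
theorem Q_iff_P {T : Over (Spec (CommRingCat.of k))} (x : T ⟶ X) : Q X L x ↔ P X L x := by
  have e0 : pull ((X ◁ x) ≫ μ[X]).left L ≃ₘ pull (ThetaGrp.transl X x ≫ fst X T).left L :=
    pull_of_eq (by rw [whiskerLeft_mul_eq_transl]) L
  constructor
  · intro h
    exact ⟨pull x.left L, inv_pull _ hL, h.trans e0⟩
  · rintro ⟨M, -, h⟩
    have hM := iso_pull_of_transl X L hL x M h
    exact ((tens_congr (Eqv.refl _) (pull_congr _ hM.symm)).trans h).trans e0.symm

include hL in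
theorem mumfordTriv_iff_P {T : Over (Spec (CommRingCat.of k))} (x : T ⟶ X) :
    ThetaGrp.IsMumfordTriv X L x ↔ P X L x :=
  (mumfordTriv_iff X L hL x).trans (Q_iff_P X L hL x)

/-- the Mumford bundle restricted along a point of `K(L)` is trivial (not only pulled back) -/
theorem lambda_structureModule_of_Q {Z : Over (Spec (CommRingCat.of k))} (z : Z ⟶ X) (h : Q X L z) :
    AgPol.IsLambdaSheaf ((X ◁ z) ≫ μ[X]).left (fst X Z).left (snd X Z ≫ z).left L
      (Coh.structureModule (X ⊗ Z).left) := by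
  show tens (tens (OO (X ⊗ Z).left) (pull (fst X Z).left L)) (pull (snd X Z ≫ z).left L) ≃ₘ
    pull ((X ◁ z) ≫ μ[X]).left L
  have e2 : pull (snd X Z ≫ z).left L ≃ₘ pull (snd X Z).left (pull z.left L) :=
    (pull_pull (snd X Z) z (snd X Z ≫ z) rfl L).symm
  exact (tens_congr (OO_tens _) e2).trans h

theorem P_one (T : Over (Spec (CommRingCat.of k))) : P X L (1 : T ⟶ X) := by
  refine ⟨OO T.left, Groth.Agent.Lib.Helper23.TensorUnit.isInvertible_structureModule _, ?_⟩
  have e0 : pull (fst X T).left L ≃ₘ pull (ThetaGrp.transl X (1 : T ⟶ X) ≫ fst X T).left L :=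
    pull_of_eq (by rw [ThetaGrp.transl_one, Category.id_comp]) L
  exact ((tens_congr (Eqv.refl _) (pull_OO _)).trans (tens_OO _)).trans e0

theorem P_mul {T : Over (Spec (CommRingCat.of k))} (x₁ x₂ : T ⟶ X) (h₁ : P X L x₁) (h₂ : P X L x₂) :
    P X L (x₁ * x₂) := by
  obtain ⟨M₁, hM₁, h₁⟩ := h₁
  obtain ⟨M₂, hM₂, h₂⟩ := h₂
  refine ⟨tens M₁ M₂, inv_tens hM₁ hM₂, ?_⟩
  -- pull back `h₂` along `transl x₁`
  have h3 := pull_congr (ThetaGrp.transl X x₁).left h₂
  have e1 : pull (ThetaGrp.transl X x₁).left (pull (ThetaGrp.transl X x₂ ≫ fst X T).left L) ≃ₘ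
      pull (ThetaGrp.transl X (x₁ * x₂) ≫ fst X T).left L :=
    pull_pull _ _ _ (by rw [ThetaGrp.transl_mul, Category.assoc]) L
  have e2 : pull (ThetaGrp.transl X x₁).left (pull (fst X T).left L) ≃ₘ
      pull (ThetaGrp.transl X x₁ ≫ fst X T).left L := pull_pull _ _ _ rfl L
  have e3 : pull (ThetaGrp.transl X x₁).left (pull (snd X T).left M₂) ≃ₘ pull (snd X T).left M₂ :=
    pull_pull _ _ _ (ThetaGrp.transl_snd X x₁) M₂
  have h4 : tens (tens (pull (fst X T).left L) (pull (snd X T).left M₁)) (pull (snd X T).left M₂) ≃ₘ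
      pull (ThetaGrp.transl X (x₁ * x₂) ≫ fst X T).left L :=
    (((tens_congr (h₁.trans e2.symm) e3.symm).trans (pull_tens _ _ _).symm).trans h3).trans e1
  exact ((tens_congr (Eqv.refl _) (pull_tens _ _ _)).trans (tens_assoc _ _ _).symm).trans h4

theorem P_inv {T : Over (Spec (CommRingCat.of k))} (x : T ⟶ X) (h : P X L x) : P X L x⁻¹ := by
  obtain ⟨M, hM, h⟩ := h
  obtain ⟨M', hM', hMM'⟩ := exists_inverse hM
  refine ⟨M', hM', ?_⟩
  have h3 := pull_congr (ThetaGrp.transl X x⁻¹).left h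
  have e1 : pull (ThetaGrp.transl X x⁻¹).left (pull (ThetaGrp.transl X x ≫ fst X T).left L) ≃ₘ
      pull (fst X T).left L :=
    pull_pull _ _ _ (by
      rw [← Category.assoc, ← ThetaGrp.transl_mul, inv_mul_cancel, ThetaGrp.transl_one,
        Category.id_comp]) L
  have e2 : pull (ThetaGrp.transl X x⁻¹).left (pull (fst X T).left L) ≃ₘ
      pull (ThetaGrp.transl X x⁻¹ ≫ fst X T).left L := pull_pull _ _ _ rfl L
  have e3 : pull (ThetaGrp.transl X x⁻¹).left (pull (snd X T).left M) ≃ₘ pull (snd X T).left M :=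
    pull_pull _ _ _ (ThetaGrp.transl_snd X x⁻¹) M
  -- `Q ⊗ pr^* M ≅ L_T` with `Q = t_{x⁻¹}^* L_T`
  have h4 : tens (pull (ThetaGrp.transl X x⁻¹ ≫ fst X T).left L) (pull (snd X T).left M) ≃ₘ
      pull (fst X T).left L :=
    (((tens_congr e2 e3).symm.trans (pull_tens _ _ _).symm).trans h3).trans e1
  have h5 : tens (pull (snd X T).left M) (pull (snd X T).left M') ≃ₘ OO (X ⊗ T).left :=
    ((pull_tens _ _ _).symm.trans (pull_congr _ hMM')).trans (pull_OO _)
  exact (((tens_congr h4.symm (Eqv.refl _)).trans (tens_assoc _ _ _)).trans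
    (tens_congr (Eqv.refl _) h5)).trans (tens_OO _)

include hL in
/-- `j^* L ⊗ [-1]^* j^* L` is trivial for a homomorphism `j` into `K(L)` -/
theorem tensor_inv_trivial (B : Over (Spec (CommRingCat.of k))) [GrpObj B] (j : B ⟶ X) [IsMonHom j]
    (h : Q X L j) : tens (pull j.left L) (pull ((𝟙 B)⁻¹ ≫ j).left L) ≃ₘ OO B.left := by
  let s : B ⟶ X ⊗ B := lift ((𝟙 B)⁻¹ ≫ j) (𝟙 B)
  have s1 : s ≫ fst X B = (𝟙 B)⁻¹ ≫ j := lift_fst _ _
  have s2 : s ≫ snd X B = 𝟙 B := lift_snd _ _
  have s3 : s ≫ (X ◁ j) ≫ μ[X] = 1 := by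
    rw [whiskerLeft_mul, comp_mul, s1, ← Category.assoc, s2, Category.id_comp, GrpObj.inv_comp,
      Category.id_comp, inv_mul_cancel]
  have h1 := pull_congr s.left h
  have e1 : pull s.left (pull (fst X B).left L) ≃ₘ pull ((𝟙 B)⁻¹ ≫ j).left L := pull_pull _ _ _ s1 L
  have e2 : pull s.left (pull (snd X B).left (pull j.left L)) ≃ₘ pull j.left L :=
    (pull_pull s (snd X B) (𝟙 B) s2 _).trans (pull_id_over _)
  have e3 : pull s.left (pull ((X ◁ j) ≫ μ[X]).left L) ≃ₘ OO B.left :=
    (pull_pull s _ 1 s3 L).trans (pull_one X L hL B)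
  have h2 : tens (pull ((𝟙 B)⁻¹ ≫ j).left L) (pull j.left L) ≃ₘ OO B.left :=
    (((tens_congr e1 e2).symm.trans (pull_tens _ _ _).symm).trans h1).trans e3
  exact (tens_comm _ _ (inv_pull _ hL) (inv_pull _ hL)).trans h2

end Field

end Groth.Agent.Lib.H9KLa
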