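import Mathlib
import Groth.Prelude
import Groth.Agent.Lib.H9KLa

/-!
# Points of the theta group and `K(L)`

* `H9CoGroth.isIso_fiber`: the fibre component of an isomorphism of a Grothendieck construction is
  an isomorphism.
* `exists_lift_of_locally`: factoring through a monomorphism of schemes is local on the source.
* `nonempty_iso_of_thetaPt` / `exists_thetaPt_of_iso`: points of `G(L)(T)` over `t_x` versus
  isomorphisms `L_T ≅ t_x^* L_T`.
* `main19945`.
-/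

universe u

open CategoryTheory CategoryTheory.Limits MonoidalCategory CartesianMonoidalCategory MonObj AlgebraicGeometry
open Opposite Bicategory Pseudofunctor

namespace Groth.Agent.Lib.H9CoGroth

section Abstract

variable {𝒜 ℬ : Type*} [Category 𝒜] [Category ℬ] (T : ℬ ⥤ 𝒜) (T' : 𝒜 ⥤ ℬ)

theorem isIso_of_two_sided {A Z : 𝒜} {B Z' : ℬ} (p : A ⟶ T.obj B) (q : B ⟶ T'.obj A)
    (C₁ : T.obj (T'.obj A) ⟶ Z) (I₁ : A ⟶ Z) (C₂ : T'.obj (T.obj B) ⟶ Z') (I₂ : B ⟶ Z')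
    (hC₁ : IsIso C₁) (hI₁ : IsIso I₁) (hI₂ : IsIso I₂)
    (h1 : p ≫ T.map q ≫ C₁ = I₁) (h2 : q ≫ T'.map p ≫ C₂ = I₂) : IsIso p := by
  have hq : q ≫ (T'.map p ≫ C₂ ≫ inv I₂) = 𝟙 _ := by
    rw [← Category.assoc, ← Category.assoc, Category.assoc q, h2, IsIso.hom_inv_id]
  have hG1 : T.map q ≫ T.map (T'.map p ≫ C₂ ≫ inv I₂) = 𝟙 _ := by
    rw [← T.map_comp, hq, T.map_id]
  have e1 : p ≫ T.map q = I₁ ≫ inv C₁ := by
    rw [IsIso.eq_comp_inv, Category.assoc, h1]
  have hG2 : (C₁ ≫ inv I₁ ≫ p) ≫ T.map q = 𝟙 _ := by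
    rw [Category.assoc, Category.assoc, e1, IsIso.inv_hom_id_assoc, IsIso.hom_inv_id]
  have hs : C₁ ≫ inv I₁ ≫ p = T.map (T'.map p ≫ C₂ ≫ inv I₂) := by
    calc C₁ ≫ inv I₁ ≫ p = (C₁ ≫ inv I₁ ≫ p) ≫ T.map q ≫ T.map (T'.map p ≫ C₂ ≫ inv I₂) := by
          rw [hG1, Category.comp_id]
      _ = T.map (T'.map p ≫ C₂ ≫ inv I₂) := by rw [← Category.assoc, hG2, Category.id_comp]
  refine ⟨⟨T.map q ≫ C₁ ≫ inv I₁, ?_, ?_⟩⟩
  · rw [← Category.assoc, ← Category.assoc, Category.assoc p, h1, IsIso.hom_inv_id]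
  · rw [Category.assoc, Category.assoc, hs, hG1]

end Abstract

variable {𝒮 : Type*} [Category 𝒮] {F : Pseudofunctor (LocallyDiscrete 𝒮ᵒᵖ) Cat}

open CoGrothendieck

theorem isIso_inv_app {C D : Cat} {G H : C ⟶ D} (e : G ≅ H) (c : C) : IsIso (e.inv.toNatTrans.app c) :=
  ⟨⟨e.hom.toNatTrans.app c, Cat.Hom.inv_hom_id_toNatTrans_app e c, Cat.Hom.hom_inv_id_toNatTrans_app e c⟩⟩

theorem fiber_comp_eq {a b : CoGrothendieck F} (φ : a ⟶ b) (ψ : b ⟶ a) (h : φ ≫ ψ = 𝟙 a) :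
    ∃ (I : a.fiber ⟶ (F.map (φ.base ≫ ψ.base).op.toLoc).toFunctor.obj a.fiber), IsIso I ∧
      φ.fiber ≫ (F.map φ.base.op.toLoc).toFunctor.map ψ.fiber ≫
        (F.mapComp ψ.base.op.toLoc φ.base.op.toLoc).inv.toNatTrans.app a.fiber = I := by
  have h1 := CoGrothendieck.Hom.congr h
  rw [categoryStruct_comp_fiber, categoryStruct_id_fiber] at h1
  have h2 : IsIso ((F.mapId ⟨op a.base⟩).inv.toNatTrans.app a.fiber) := isIso_inv_app _ _
  refine ⟨_, ?_, h1⟩
  exact @IsIso.comp_isIso _ _ _ _ _ _ _ h2 inferInstance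

/-- the fibre component of an isomorphism of the Grothendieck construction is an isomorphism -/
theorem isIso_fiber {a b : CoGrothendieck F} (φ : a ⟶ b) [IsIso φ] : IsIso φ.fiber := by
  obtain ⟨I₁, hI₁, h1⟩ := fiber_comp_eq φ (inv φ) (IsIso.hom_inv_id φ)
  obtain ⟨I₂, hI₂, h2⟩ := fiber_comp_eq (inv φ) φ (IsIso.inv_hom_id φ)
  exact isIso_of_two_sided (F.map φ.base.op.toLoc).toFunctor (F.map (inv φ).base.op.toLoc).toFunctor
    φ.fiber (inv φ).fiber _ I₁ _ I₂ (isIso_inv_app _ _) hI₁ hI₂ h1 h2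

end Groth.Agent.Lib.H9CoGroth

namespace Groth.Agent.Lib.H9KLb

open Groth.Agent.Lib.H9PicCalc Groth.Agent.Lib.H9KLa

/-- factoring through a monomorphism is local on the source -/
theorem exists_lift_of_locally {T K A : Scheme.{u}} (i : K ⟶ A) [Mono i] (x : T ⟶ A)
    (h : ∀ t : T, ∃ U : T.Opens, t ∈ U ∧ ∃ y : (U : Scheme.{u}) ⟶ K, y ≫ i = U.ι ≫ x) :
    ∃ y : T ⟶ K, y ≫ i = x := by
  choose U hU y hy using h
  have hcov : TopologicalSpace.IsOpenCover U := by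
    refine top_le_iff.mp ?_
    intro t _
    exact TopologicalSpace.Opens.mem_iSup.mpr ⟨t, hU t⟩
  let 𝒰 := T.openCoverOfIsOpenCover _ hcov
  let r : T ⟶ K := 𝒰.glueMorphisms (fun t => y t) (by
    intro t t'
    show pullback.fst (U t).ι (U t').ι ≫ y t = pullback.snd (U t).ι (U t').ι ≫ y t'
    rw [← cancel_mono i, Category.assoc, Category.assoc, hy, hy, pullback.condition_assoc])
  have hr : ∀ t : T, (U t).ι ≫ r = y t := fun t => 𝒰.ι_glueMorphisms _ _ t
  refine ⟨r, 𝒰.hom_ext _ _ fun t => ?_⟩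
  show (U t).ι ≫ r ≫ i = (U t).ι ≫ x
  rw [reassoc_of% (hr t), hy]

section Theta

variable {S : Scheme.{u}} (A : Over S) [GrpObj A] (L : A.left.Modules)

theorem isIso_transl {T : Over S} (x : T ⟶ A) : IsIso (ThetaGrp.transl A x) :=
  ⟨⟨ThetaGrp.transl A x⁻¹, by rw [← ThetaGrp.transl_mul, mul_inv_cancel, ThetaGrp.transl_one],
    by rw [← ThetaGrp.transl_mul, inv_mul_cancel, ThetaGrp.transl_one]⟩⟩

/-- a point of `G(L)(T)` over `t_x` gives an isomorphism `L_T ≅ t_x^* L_T` -/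
theorem nonempty_iso_of_thetaPt {T : Over S} (β : ThetaGrp.thetaPts A L T) (x : T ⟶ A)
    (h : ThetaGrp.IsOverPt β x) :
    pull (fst A T).left L ≃ₘ pull (ThetaGrp.transl A x).left (pull (fst A T).left L) := by
  have h1 : IsIso β.1.hom.fiber := H9CoGroth.isIso_fiber β.1.hom
  have h2 : pull (fst A T).left L ≃ₘ pull β.1.hom.base (pull (fst A T).left L) :=
    ⟨@asIso _ _ _ _ β.1.hom.fiber h1⟩
  have h3 : β.1.hom.base = (ThetaGrp.transl A x).left := h
  rw [h3] at h2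
  exact h2

/-- an isomorphism `L_T ≅ t_x^* L_T` gives a point of `G(L)(T)` over `t_x` -/
theorem exists_thetaPt_of_iso {T : Over S} (x : T ⟶ A)
    (h : pull (fst A T).left L ≃ₘ pull (ThetaGrp.transl A x).left (pull (fst A T).left L)) :
    ∃ β : ThetaGrp.thetaPts A L T, ThetaGrp.IsOverPt β x := by
  obtain ⟨e⟩ := h
  let F := ThetaGrp.modPF.{u}
  let B : Scheme.{u} := (A ⊗ T).left
  let N : F.obj ⟨op B⟩ := (Scheme.Modules.pullback (fst A T).left).obj L
  let t : B ⟶ B := (ThetaGrp.transl A x).left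
  haveI : IsIso (ThetaGrp.transl A x) := isIso_transl A x
  haveI ht : IsIso t := inferInstanceAs (IsIso ((Over.forget S).map (ThetaGrp.transl A x)))
  let c : CoGrothendieck.domainCartesianLift N t ⟶ (⟨B, N⟩ : CoGrothendieck F) :=
    CoGrothendieck.cartesianLift N t
  haveI hsc : Functor.IsStronglyCartesian (CoGrothendieck.forget F) t c :=
    CoGrothendieck.isStronglyCartesian_homCartesianLift N t
  have hc : IsIso c := Functor.IsStronglyCartesian.isIso_of_base_isIso (CoGrothendieck.forget F) t c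
  let e' : N ≅ (F.map t.op.toLoc).toFunctor.obj N := e
  let α : (⟨B, N⟩ : CoGrothendieck F) ≅ ⟨B, N⟩ :=
    (CoGrothendieck.ι F B).mapIso e' ≪≫ @asIso _ _ _ _ c hc
  have hα : α.hom.base = t := by
    show 𝟙 B ≫ t = t
    exact Category.id_comp t
  exact ⟨⟨α, x, hα⟩, hα⟩

end Theta

section Main

variable (k : Type u) [Field k] (A : Over (Spec (CommRingCat.of k))) [GrpObj A]
  (L : A.left.Modules) (hL : PicF.IsInvertible L)

include hL in
/-- `Q x` together with `x^* L` trivial gives `L_T ≅ t_x^* L_T` -/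
theorem iso_transl_of_Q {T : Over (Spec (CommRingCat.of k))} (x : T ⟶ A) (h : Q A L x)
    (htriv : pull x.left L ≃ₘ OO T.left) :
    pull (fst A T).left L ≃ₘ pull (ThetaGrp.transl A x).left (pull (fst A T).left L) := by
  have e1 : pull (fst A T).left L ≃ₘ
      tens (pull (fst A T).left L) (pull (snd A T).left (pull x.left L)) :=
    (tens_OO _).symm.trans
      (tens_congr (Eqv.refl _) ((pull_OO _).symm.trans (pull_congr _ htriv.symm)))
  have e2 : pull ((A ◁ x) ≫ μ[A]).left L ≃ₘ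
      pull (ThetaGrp.transl A x).left (pull (fst A T).left L) :=
    (pull_pull (ThetaGrp.transl A x) (fst A T) _ (whiskerLeft_mul_eq_transl A x).symm L).symm
  exact (e1.trans h).trans e2

include hL in
/-- `L_T ≅ t_x^* L_T` gives `Q x` -/
theorem Q_of_iso_transl {T : Over (Spec (CommRingCat.of k))} (x : T ⟶ A)
    (h : pull (fst A T).left L ≃ₘ pull (ThetaGrp.transl A x).left (pull (fst A T).left L)) :
    Q A L x := by
  refine (Q_iff_P A L hL x).2 ⟨OO T.left,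
    Groth.Agent.Lib.Helper23.TensorUnit.isInvertible_structureModule _, ?_⟩
  exact (((tens_congr (Eqv.refl _) (pull_OO _)).trans (tens_OO _)).trans h).trans
    (pull_pull (ThetaGrp.transl A x) (fst A T) _ rfl L)

include hL in
theorem main19945 (K : Over (Spec (CommRingCat.of k))) (iK : K ⟶ A) (hK : ThetaGrp.IsKL A L iK)
    (T : Over (Spec (CommRingCat.of k))) (x : T ⟶ A) :
    (∃ y : T ⟶ K, y ≫ iK = x) ↔
      ∀ t : ↥T.left, ∃ U : T.left.Opens, t ∈ U ∧
        ∃ β : ThetaGrp.thetaPts A L (Over.mk (U.ι ≫ T.hom)),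
          ThetaGrp.IsOverPt β ((Over.homMk U.ι rfl : Over.mk (U.ι ≫ T.hom) ⟶ T) ≫ x) := by
  have key : ∀ {Z : Over (Spec (CommRingCat.of k))} (z : Z ⟶ A),
      (∃ y : Z ⟶ K, y ≫ iK = z) ↔ Q A L z := fun z =>
    (hK.univ _ z).symm.trans (mumfordTriv_iff A L hL z)
  constructor
  · rintro ⟨y, rfl⟩ t
    obtain ⟨U, htU, ⟨e⟩⟩ := inv_pull (y ≫ iK).left hL t
    refine ⟨U, htU, ?_⟩
    let u : Over.mk (U.ι ≫ T.hom) ⟶ T := Over.homMk U.ι rfl
    have hQ : Q A L (u ≫ y ≫ iK) := (key _).1 ⟨u ≫ y, Category.assoc _ _ _⟩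
    have htriv : pull (u ≫ y ≫ iK).left L ≃ₘ OO (Over.mk (U.ι ≫ T.hom)).left := by
      have h1 : pull (u ≫ y ≫ iK).left L ≃ₘ pull U.ι (pull (y ≫ iK).left L) :=
        pull_comp U.ι (y ≫ iK).left L
      have h2 : pull U.ι (pull (y ≫ iK).left L) ≃ₘ (pull (y ≫ iK).left L).restrict U.ι :=
        ⟨((Scheme.Modules.restrictFunctorIsoPullback U.ι).app _).symm⟩
      exact (h1.trans h2).trans ⟨e⟩
    exact exists_thetaPt_of_iso A L _ (iso_transl_of_Q k A L hL _ hQ htriv)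
  · intro h
    haveI : IsClosedImmersion iK.left := hK.closed
    obtain ⟨y₀, hy₀⟩ := exists_lift_of_locally iK.left x.left (by
      intro t
      obtain ⟨U, htU, β, hβ⟩ := h t
      refine ⟨U, htU, ?_⟩
      have h1 := nonempty_iso_of_thetaPt A L β _ hβ
      obtain ⟨yU, hyU⟩ := (key _).2 (Q_of_iso_transl k A L hL _ h1)
      refine ⟨yU.left, ?_⟩
      have := congrArg (fun f => f.left) hyU
      exact this)
    refine ⟨Over.homMk y₀ ?_, ?_⟩
    · rw [← Over.w iK, ← Category.assoc, hy₀, Over.w x]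
    · ext
      exact hy₀

end Main

end Groth.Agent.Lib.H9KLb
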