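import Mathlib
import Groth.Prelude.Def_RegImm
import Groth.Agent.Lib.H9KoszulSmoothRegA
import Groth.Agent.Lib.Helper5RegImmComp

set_option autoImplicit false
set_option linter.style.haveILetI false
universe u

namespace Groth.Agent.Lib.H9KoszulSmoothReg

open RingTheory.Sequence Groth.Agent.Lib.Helper5.RegSeq

/-- one lifting step for regular sequences along `MvPolynomial.map (mk I)` with `I = (b)`. -/
theorem step_lift {P : Type u} [CommRing P] (b : P) (hb : IsSMulRegular P b) (σ : Type)
    (bs' : List (MvPolynomial σ (P ⧸ Ideal.span {b})))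
    (hbs' : IsWeaklyRegular (MvPolynomial σ (P ⧸ Ideal.span {b})) bs') :
    ∃ bsQ : List (MvPolynomial σ P),
      bsQ.map (MvPolynomial.map (Ideal.Quotient.mk (Ideal.span {b}))) = bs' ∧
      IsWeaklyRegular (MvPolynomial σ P) (MvPolynomial.C b :: bsQ) := by
  obtain ⟨π, hπ⟩ : ∃ π : MvPolynomial σ P →+* MvPolynomial σ (P ⧸ Ideal.span {b}),
      π = MvPolynomial.map (Ideal.Quotient.mk (Ideal.span {b})) := ⟨_, rfl⟩
  have hsurj : Function.Surjective π := by
    rw [hπ]
    exact MvPolynomial.map_surjective _ Ideal.Quotient.mk_surjective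
  obtain ⟨bsQ, hbsQ⟩ := (List.map_surjective_iff.mpr hsurj) bs'
  rw [← hπ]
  refine ⟨bsQ, hbsQ, ?_⟩
  have hker : RingHom.ker π = Ideal.span {MvPolynomial.C b} := by
    rw [hπ, MvPolynomial.ker_map, Ideal.mk_ker, Ideal.map_span, Set.image_singleton]
  rw [isWeaklyRegular_iff_regOn, regOn_cons]
  constructor
  · intro c hc
    rw [Ideal.mem_bot] at hc ⊢
    ext m
    have := congrArg (MvPolynomial.coeff m) hc
    rw [mul_comm, MvPolynomial.coeff_C_mul, MvPolynomial.coeff_zero] at this
    rw [MvPolynomial.coeff_zero]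
    exact (isSMulRegular_iff_right_eq_zero_of_smul.mp hb) _ this
  · rw [bot_sup_eq, ← regOn_map_of_surjective π hsurj _ hker.le, hbsQ, Ideal.map_span,
      Set.image_singleton]
    have h0 : π (MvPolynomial.C b) = 0 := by
      rw [← RingHom.mem_ker, hker]
      exact Ideal.mem_span_singleton_self _
    rw [h0, Ideal.span_singleton_eq_bot.mpr rfl]
    exact (isWeaklyRegular_iff_regOn bs').mp hbs'

/-- the ideal generated by the lifted sequence -/
theorem step_ideal {A P : Type u} [CommRing A] [CommRing P] [Algebra A P] (a : A) (l : List A)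
    (b : P) (hb1 : b ∈ Ideal.ofList ((a :: l).map (algebraMap A P)))
    (hb2 : algebraMap A P a - b ∈ Ideal.ofList (l.map (algebraMap A P))) (σ : Type)
    (bs' : List (MvPolynomial σ (P ⧸ Ideal.span {b})))
    (hbs' : Ideal.ofList bs' = (Ideal.ofList ((l.map (algebraMap A P)).map
      (Ideal.Quotient.mk (Ideal.span {b})))).map
        (algebraMap (P ⧸ Ideal.span {b}) (MvPolynomial σ _)))
    (bsQ : List (MvPolynomial σ P))
    (hbsQ : bsQ.map (MvPolynomial.map (Ideal.Quotient.mk (Ideal.span {b}))) = bs') :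
    Ideal.ofList (MvPolynomial.C b :: bsQ) =
      (Ideal.ofList (a :: l)).map (algebraMap A (MvPolynomial σ P)) := by
  obtain ⟨π, hπ⟩ : ∃ π : MvPolynomial σ P →+* MvPolynomial σ (P ⧸ Ideal.span {b}),
      π = MvPolynomial.map (Ideal.Quotient.mk (Ideal.span {b})) := ⟨_, rfl⟩
  rw [← hπ] at hbsQ
  have hsurj : Function.Surjective π := by
    rw [hπ]
    exact MvPolynomial.map_surjective _ Ideal.Quotient.mk_surjective
  have hker : RingHom.ker π = Ideal.span {MvPolynomial.C b} := by
    rw [hπ, MvPolynomial.ker_map, Ideal.mk_ker, Ideal.map_span, Set.image_singleton]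
  have h0 : π (MvPolynomial.C b) = 0 := by
    rw [← RingHom.mem_ker, hker]
    exact Ideal.mem_span_singleton_self _
  have key : ∀ J₁ J₂ : Ideal (MvPolynomial σ P), RingHom.ker π ≤ J₁ → RingHom.ker π ≤ J₂ →
      J₁.map π = J₂.map π → J₁ = J₂ := by
    intro J₁ J₂ h1 h2 h
    have e1 := Ideal.comap_map_of_surjective π hsurj J₁
    have e2 := Ideal.comap_map_of_surjective π hsurj J₂
    rw [← RingHom.ker_eq_comap_bot, sup_eq_left.mpr h1] at e1
    rw [← RingHom.ker_eq_comap_bot, sup_eq_left.mpr h2] at e2
    rw [← e1, ← e2, h]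
  apply key
  · rw [hker, Ideal.ofList_cons]
    exact le_sup_left
  · rw [hker, Ideal.span_singleton_le_iff_mem, IsScalarTower.algebraMap_eq A P (MvPolynomial σ P),
      ← Ideal.map_map, Ideal.map_ofList]
    exact Ideal.mem_map_of_mem _ hb1
  · rw [Ideal.map_ofList, List.map_cons, hbsQ, h0, Ideal.ofList_cons, Ideal.span_singleton_eq_bot.mpr rfl,
      bot_sup_eq, hbs', Ideal.map_map]
    have hcomp : π.comp (algebraMap A (MvPolynomial σ P)) =
        (algebraMap (P ⧸ Ideal.span {b}) (MvPolynomial σ (P ⧸ Ideal.span {b}))).comp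
          ((Ideal.Quotient.mk (Ideal.span {b})).comp (algebraMap A P)) := by
      ext x
      rw [hπ]
      simp [IsScalarTower.algebraMap_eq A P (MvPolynomial σ P), MvPolynomial.algebraMap_eq]
    rw [hcomp, ← Ideal.map_map]
    congr 1
    rw [Ideal.map_ofList, List.map_cons, Ideal.ofList_cons, List.map_map]
    have hmem : (Ideal.Quotient.mk (Ideal.span {b})) (algebraMap A P a) ∈
        Ideal.ofList (l.map ((Ideal.Quotient.mk (Ideal.span {b})) ∘ (algebraMap A P))) := by
      have h1 : algebraMap A P a = b + (algebraMap A P a - b) := by ring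
      rw [h1, map_add, Ideal.Quotient.eq_zero_iff_mem.mpr (Ideal.mem_span_singleton_self b), zero_add,
        ← List.map_map, ← Ideal.map_ofList]
      exact Ideal.mem_map_of_mem _ hb2
    rw [RingHom.coe_comp]
    exact (sup_eq_right.mpr ((Ideal.span_singleton_le_iff_mem _).mpr hmem)).symm

/-- transport of a regular sequence and the ideal equation along a ring isomorphism -/
theorem transport_equiv {A Q Q' : Type u} [CommRing A] [CommRing Q] [CommRing Q'] [Algebra A Q]
    [Algebra A Q'] (e : Q ≃ₐ[A] Q') (L : List Q) (l : List A) (hL : IsWeaklyRegular Q L)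
    (hid : Ideal.ofList L = (Ideal.ofList l).map (algebraMap A Q)) :
    IsWeaklyRegular Q' (L.map e) ∧
      Ideal.ofList (L.map e) = (Ideal.ofList l).map (algebraMap A Q') := by
  obtain ⟨f, hf⟩ : ∃ f : Q →+* Q', f = (e.toRingEquiv : Q →+* Q') := ⟨_, rfl⟩
  have hfe : ∀ x, f x = e x := fun x => by rw [hf]; rfl
  have hflat : f.Flat := by
    rw [hf]
    exact RingHom.Flat.of_bijective e.toRingEquiv.bijective
  have hmap : L.map e = L.map f := List.map_congr_left (fun x _ => (hfe x).symm)
  rw [hmap]
  constructor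
  · exact Groth.Agent.Lib.Helper5.RegImmComp.isWeaklyRegular_map_of_flat f hflat _ hL
  · rw [← Ideal.map_ofList, hid, Ideal.map_map]
    congr 1
    ext x
    rw [RingHom.comp_apply, hfe, AlgEquiv.commutes]

open Polynomial in
/-- **Main algebra lemma**: a Koszul-regular sequence becomes (generates the same ideal as) a
regular sequence in a polynomial ring in finitely many variables. -/
theorem exists_regular_mvPolynomial : ∀ (n : ℕ) (A : Type u) [CommRing A] (l : List A),
    l.length = n → LCI.IsKoszulRegularSeq A l →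
    ∃ (σ : Type) (_ : Finite σ) (bs : List (MvPolynomial σ A)),
      IsWeaklyRegular (MvPolynomial σ A) bs ∧
      Ideal.ofList bs = (Ideal.ofList l).map (algebraMap A (MvPolynomial σ A))
  | 0, A, _, l, hlen, _ => by
    have hl : l = [] := List.length_eq_zero_iff.mp hlen
    subst hl
    refine ⟨Empty, inferInstance, [], IsWeaklyRegular.nil _ _, ?_⟩
    simp
  | n + 1, A, _, l, hlen, hl => by
    obtain ⟨a, l', rfl⟩ : ∃ a l', l = a :: l' := by
      cases l with
      | nil => simp at hlen
      | cons a l' => exact ⟨a, l', rfl⟩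
    have hlen' : l'.length = n := by simpa using hlen
    have hb := isSMulRegular_poly (a :: l') hl (by simp)
    have hstep := isKoszulRegularSeq_step a l' hl
    obtain ⟨σ, hσ, bs', hreg', hid'⟩ := exists_regular_mvPolynomial n
      (A[X] ⧸ Ideal.span {poly (a :: l')}) _ (by simpa using hlen') hstep
    obtain ⟨bsQ, hbsQ, hregQ⟩ := step_lift (poly (a :: l')) hb σ bs' hreg'
    have hb1 : poly (a :: l') ∈ Ideal.ofList ((a :: l').map (algebraMap A A[X])) := poly_mem _
    have hb2 : algebraMap A A[X] a - poly (a :: l') ∈ Ideal.ofList (l'.map (algebraMap A A[X])) := by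
      have : algebraMap A A[X] a - poly (a :: l') = -(X * poly l') := by
        rw [poly, Polynomial.algebraMap_eq]
        ring
      rw [this]
      exact Submodule.neg_mem _ (Ideal.mul_mem_left _ _ (poly_mem l'))
    have hidQ := step_ideal a l' (poly (a :: l')) hb1 hb2 σ bs' hid' bsQ hbsQ
    obtain ⟨h1, h2⟩ := transport_equiv (MvPolynomial.optionEquivRight A σ).symm
      (MvPolynomial.C (poly (a :: l')) :: bsQ) (a :: l') hregQ hidQ
    exact ⟨Option σ, inferInstance, _, h1, h2⟩

/-- abstract form: smooth retract-able extension in which the ideal is generated by a regular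
sequence. -/
theorem exists_smooth_regular (A : Type u) [CommRing A] (l : List A)
    (hl : LCI.IsKoszulRegularSeq A l) :
    ∃ (B : Type u) (_ : CommRing B) (φ : A →+* B) (r : B →+* A),
      r.comp φ = RingHom.id A ∧ φ.Smooth ∧
      ∃ bs : List B, IsWeaklyRegular B bs ∧ Ideal.ofList bs = (Ideal.ofList l).map φ := by
  obtain ⟨σ, hσ, bs, hreg, hid⟩ := exists_regular_mvPolynomial l.length A l rfl hl
  refine ⟨MvPolynomial σ A, inferInstance, algebraMap A (MvPolynomial σ A),
    MvPolynomial.constantCoeff, ?_, ?_, bs, hreg, hid⟩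
  · ext x
    simp [MvPolynomial.algebraMap_eq]
  · rw [RingHom.smooth_algebraMap]
    exact ⟨inferInstance, inferInstance⟩

end Groth.Agent.Lib.H9KoszulSmoothReg
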