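import Mathlib
import Groth.Prelude.Def_RegImm
import Groth.Agent.Lib.H9KoszulSmoothRegB
import Groth.Agent.Lib.H9RegImmFlatBC

set_option autoImplicit false
set_option linter.style.haveILetI false
universe u

namespace Groth.Agent.Lib.H9KoszulSmoothReg

open CategoryTheory CategoryTheory.Limits AlgebraicGeometry TopologicalSpace RingTheory.Sequence

/-- identification of sections over the image of an affine chart -/
theorem exists_iso_chart {X X' : Scheme.{u}} (g : X' ⟶ X) (U : X.Opens) (hU : IsAffineOpen U)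
    (B : CommRingCat.{u}) (φ : Γ(X, U) ⟶ B) (ι : Spec B ⟶ X') [IsOpenImmersion ι]
    (hι : ι ≫ g = Spec.map φ ≫ hU.fromSpec) (V' : X'.Opens) (hV' : IsAffineOpen V')
    (hrange : Set.range ι = (V' : Set X')) (hle : V' ≤ g ⁻¹ᵁ U) :
    ∃ ε : Γ(X', V') ≅ B, g.appLE U V' hle ≫ ε.hom = φ := by
  have hr : Set.range ι = Set.range hV'.fromSpec := by
    rw [hrange, hV'.range_fromSpec]
  obtain ⟨α, hα⟩ : ∃ α : Spec B ≅ Spec Γ(X', V'), α = IsOpenImmersion.isoOfRangeEq ι hV'.fromSpec hr :=
    ⟨_, rfl⟩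
  have hfac : α.hom ≫ hV'.fromSpec = ι := by
    rw [hα]; exact IsOpenImmersion.isoOfRangeEq_hom_fac _ _ _
  have hfac' : α.inv ≫ ι = hV'.fromSpec := by
    rw [← hfac, Iso.inv_hom_id_assoc]
  let ε : Γ(X', V') ≅ B :=
    { hom := Spec.preimage α.hom
      inv := Spec.preimage α.inv
      hom_inv_id := by
        apply Spec.map_injective
        rw [Spec.map_comp, Spec.map_preimage, Spec.map_preimage, Iso.inv_hom_id, Spec.map_id]
      inv_hom_id := by
        apply Spec.map_injective
        rw [Spec.map_comp, Spec.map_preimage, Spec.map_preimage, Iso.hom_inv_id, Spec.map_id] }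
  refine ⟨ε, ?_⟩
  apply Spec.map_injective
  rw [Spec.map_comp, ← cancel_mono hU.fromSpec, Category.assoc,
    IsAffineOpen.SpecMap_appLE_fromSpec g hU hV' hle]
  change Spec.map (Spec.preimage α.hom) ≫ _ = _
  rw [Spec.map_preimage, ← Category.assoc, hfac, hι]

/-- local step: over an affine chart `ι : Spec B → X'` lying over `U`, on which the ideal is
generated by a regular sequence, the base change is a regular immersion at points over the chart. -/
theorem isRegularImmersionAt_of_chart {Z X X' : Scheme.{u}} (i : Z ⟶ X) (g : X' ⟶ X)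
    (U : X.Opens) (hU : IsAffineOpen U) (hcl : IsClosedImmersion (i ∣_ U))
    (rs : List Γ(X, U)) (hker : RingHom.ker (i.app U).hom = Ideal.ofList rs)
    (B : Type u) [CommRing B] (φ : Γ(X, U) →+* B) (ι : Spec (CommRingCat.of B) ⟶ X')
    [IsOpenImmersion ι]
    (hι : ι ≫ g = Spec.map (CommRingCat.ofHom φ) ≫ hU.fromSpec)
    (bs : List B) (hbs : IsWeaklyRegular B bs) (hid : Ideal.ofList bs = (Ideal.ofList rs).map φ)
    (w : ↥(pullback i g)) (hw : (pullback.snd i g) w ∈ Set.range ι) :
    RegImm.IsRegularImmersionAt RegImm.Kind.regular (pullback.snd i g) w := by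
  obtain ⟨V', hV'def⟩ : ∃ V' : X'.Opens, V' = ι ''ᵁ ⊤ := ⟨_, rfl⟩
  have hV' : IsAffineOpen V' := by
    rw [hV'def]
    exact (isAffineOpen_top _).image_of_isOpenImmersion ι
  have hrange : Set.range ι = (V' : Set X') := by
    rw [hV'def]
    simp
  have hwV : (pullback.snd i g) w ∈ V' := by
    change _ ∈ (V' : Set X')
    rw [← hrange]
    exact hw
  have hle : V' ≤ g ⁻¹ᵁ U := by
    intro y hy
    have hy' : y ∈ Set.range ι := by rw [hrange]; exact hy
    obtain ⟨s, rfl⟩ := hy'
    change g (ι s) ∈ U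
    rw [← Scheme.Hom.comp_apply, hι, Scheme.Hom.comp_apply]
    have : hU.fromSpec ((Spec.map (CommRingCat.ofHom φ)) s) ∈ Set.range hU.fromSpec := ⟨_, rfl⟩
    rw [hU.range_fromSpec] at this
    exact this
  obtain ⟨hcl', hker'⟩ := Groth.Agent.Lib.H9RegImmFlatBC.isClosedImmersion_and_ker i g
    (pullback.snd i g) (pullback.fst i g) (IsPullback.of_hasPullback i g) U hU hcl V' hV' hle
  obtain ⟨ε, hε⟩ := exists_iso_chart g U hU (CommRingCat.of B) (CommRingCat.ofHom φ) ι hι V' hV'
    hrange hle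
  obtain ⟨e, he⟩ : ∃ e : B ≃+* Γ(X', V'), e = ε.symm.commRingCatIsoToRingEquiv := ⟨_, rfl⟩
  have hcomp : ∀ a, e (φ a) = (g.appLE U V' hle).hom a := by
    intro a
    have h1 : φ a = ε.hom.hom ((g.appLE U V' hle).hom a) := by
      have := congrArg (fun ψ => ψ.hom a) hε
      exact this.symm
    rw [h1, he]
    exact congrArg (fun ψ => ψ.hom ((g.appLE U V' hle).hom a)) ε.hom_inv_id
  obtain ⟨f, hf⟩ : ∃ f : B →+* Γ(X', V'), f = (e : B →+* Γ(X', V')) := ⟨_, rfl⟩
  have hflat : f.Flat := by
    rw [hf]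
    exact RingHom.Flat.of_bijective e.bijective
  have hfφ : f.comp φ = (g.appLE U V' hle).hom := by
    ext a
    rw [hf]
    exact hcomp a
  have hreg : IsWeaklyRegular Γ(X', V') (bs.map f) :=
    Groth.Agent.Lib.Helper5.RegImmComp.isWeaklyRegular_map_of_flat f hflat _ hbs
  have hkk : RingHom.ker ((pullback.snd i g).app V').hom = Ideal.ofList (bs.map f) := by
    rw [hker', hker, ← Ideal.map_ofList, hid, Ideal.map_map, hfφ]
  haveI : Nonempty ↥((pullback.snd i g) ⁻¹ᵁ V') := ⟨⟨w, hwV⟩⟩
  refine ⟨⟨V', hV'⟩, hwV, hcl', bs.map f, ⟨hreg, ?_⟩, hkk⟩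
  rw [smul_eq_mul, Ideal.mul_top, ← hkk]
  exact (RingHom.ker_ne_top _).symm

/-- **Main theorem**: a Koszul-regular closed immersion becomes a regular immersion after a smooth
surjective base change. -/
theorem main {Z X : Scheme.{u}} (i : Z ⟶ X) [IsClosedImmersion i]
    (hi : RegImm.IsRegularImmersion RegImm.Kind.koszul i) :
    ∃ (X' : Scheme.{u}) (g : X' ⟶ X), Smooth g ∧ Surjective g ∧
      RegImm.IsRegularImmersion RegImm.Kind.regular (pullback.snd i g) := by
  choose U hzU hcl rs hrs hker using hi.2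
  have hex := fun z => exists_smooth_regular Γ(X, (U z).1) (rs z) (hrs z)
  choose B instB φ r hrφ hsm bs hreg hid using hex
  obtain ⟨W, hW⟩ : ∃ W : X.Opens, (W : Set X) = (Set.range i)ᶜ :=
    ⟨⟨(Set.range i)ᶜ, i.isClosedEmbedding.isClosed_range.isOpen_compl⟩, rfl⟩
  let Y : Option Z → Scheme.{u} := fun j =>
    Option.rec W.toScheme (fun z => Spec (CommRingCat.of (B z))) j
  let gj : ∀ j, Y j ⟶ X := fun j =>
    Option.rec (motive := fun j => Y j ⟶ X) W.ι
      (fun z => Spec.map (CommRingCat.ofHom (φ z)) ≫ (U z).2.fromSpec) j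
  refine ⟨∐ Y, Sigma.desc gj, ?_, ?_, ?_⟩
  · haveI : IsZariskiLocalAtSource @Smooth.{u} :=
      HasRingHomProperty.instIsZariskiLocalAtSource (Q := RingHom.Smooth)
    apply IsZariskiLocalAtSource.sigmaDesc
    intro j
    cases j with
    | none => exact (inferInstance : Smooth W.ι)
    | some z =>
      haveI : Smooth (Spec.map (CommRingCat.ofHom (φ z))) :=
        (HasRingHomProperty.Spec_iff (P := @Smooth)).mpr (hsm z)
      haveI : IsOpenImmersion (U z).2.fromSpec := IsAffineOpen.isOpenImmersion_fromSpec _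
      haveI : Smooth (U z).2.fromSpec := inferInstance
      exact smooth_comp _ _
  · apply Surjective.sigmaDesc_of_union_range_eq_univ
    rw [Set.eq_univ_iff_forall]
    intro x
    rw [Set.mem_iUnion]
    by_cases hx : x ∈ Set.range i
    · obtain ⟨z, rfl⟩ := hx
      refine ⟨some z, ?_⟩
      have h1 : i z ∈ Set.range (U z).2.fromSpec := by
        rw [(U z).2.range_fromSpec]; exact hzU z
      obtain ⟨s, hs⟩ := h1
      refine ⟨Spec.map (CommRingCat.ofHom (r z)) s, ?_⟩
      change (Spec.map (CommRingCat.ofHom (φ z)) ≫ (U z).2.fromSpec) _ = _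
      rw [Scheme.Hom.comp_apply, ← Scheme.Hom.comp_apply (Spec.map _) (Spec.map _),
        ← Spec.map_comp, ← CommRingCat.ofHom_comp, hrφ z]
      simpa using hs
    · refine ⟨none, ?_⟩
      have : x ∈ (W : Set X) := by rw [hW]; exact hx
      exact ⟨⟨x, this⟩, rfl⟩
  · refine ⟨inferInstance, fun w => ?_⟩
    obtain ⟨j, y, hy⟩ := (Scheme.IsLocallyDirected.openCover (Discrete.functor Y)).exists_eq
      ((pullback.snd i (Sigma.desc gj)) w)
    obtain ⟨j⟩ := j
    cases j with
    | none =>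
      exfalso
      have h1 : (Limits.Sigma.desc gj) ((pullback.snd i (Limits.Sigma.desc gj)) w) ∈ Set.range i := by
        rw [← Scheme.Hom.comp_apply, ← pullback.condition, Scheme.Hom.comp_apply]
        exact ⟨_, rfl⟩
      have h2 : (Limits.Sigma.desc gj) ((pullback.snd i (Limits.Sigma.desc gj)) w) ∈ (W : Set X) := by
        rw [← hy, ← Scheme.Hom.comp_apply]
        have h3 : (Scheme.IsLocallyDirected.openCover (Discrete.functor Y)).f ⟨none⟩ ≫
            Limits.Sigma.desc gj = W.ι := Limits.Sigma.ι_desc _ _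
        rw [h3]
        exact (y : ↥W.toScheme).2
      rw [hW] at h2
      exact h2 h1
    | some z =>
      have hι : Limits.Sigma.ι Y (some z) ≫ Limits.Sigma.desc gj =
          Spec.map (CommRingCat.ofHom (φ z)) ≫ (U z).2.fromSpec := Limits.Sigma.ι_desc _ _
      exact isRegularImmersionAt_of_chart i (Limits.Sigma.desc gj) (U z).1 (U z).2 (hcl z) (rs z) (hker z)
        (B z) (φ z) (Limits.Sigma.ι Y (some z)) hι (bs z) (hreg z) (hid z) w ⟨y, hy⟩

end Groth.Agent.Lib.H9KoszulSmoothReg
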