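import Mathlib.AlgebraicGeometry.Noetherian
import Mathlib.AlgebraicGeometry.IdealSheaf.Subscheme
import Mathlib.AlgebraicGeometry.Stalk
import Mathlib.AlgebraicGeometry.Pullbacks
import Mathlib.RingTheory.Ideal.Quotient.Operations
import Mathlib.RingTheory.Filtration

/-!
# A closed subscheme containing all infinitesimal neighbourhoods of a fibre contains an open
neighbourhood of the fibre (helper9; Krull intersection theorem)

* `H9Krull.germ_mem_ker_of_factors`, `H9Krull.germ_eq_zero`, `H9Krull.exists_affine_ideal_eq_bot`,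
  `H9Krull.zeroOpen`, `H9Krull.main`.
-/

set_option autoImplicit false
universe u
open CategoryTheory CategoryTheory.Limits AlgebraicGeometry TopologicalSpace

namespace H9Krull


variable {X S : Scheme.{u}}

lemma aux_restrict_top {Y : Scheme.{u}} (A : CommRingCat.{u}) (θ : A ⟶ Γ(Y, ⊤)) (W : Y.Opens)
    (hW : W = ⊤) (j : Opposite.op (⊤ : Y.Opens) ⟶ Opposite.op W) (a : A)
    (h : (θ ≫ Y.presheaf.map j).hom a = 0) : θ.hom a = 0 := by
  subst hW
  rw [Subsingleton.elim j (𝟙 _), CategoryTheory.Functor.map_id, Category.comp_id] at h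
  exact h

/-- If `Spec.map q ≫ X.fromSpecStalk x` factors through the closed subscheme `I`, then
`q` kills the germs of sections of `I`. -/
lemma germ_mem_ker_of_factors (I : X.IdealSheafData) (x : X) {R : CommRingCat.{u}}
    (q : X.presheaf.stalk x ⟶ R)
    (g : Spec R ⟶ I.subscheme) (hg : g ≫ I.subschemeι = Spec.map q ≫ X.fromSpecStalk x)
    (V : X.affineOpens) (hxV : x ∈ V.1) (s : Γ(X, V.1)) (hs : s ∈ I.ideal V) :
    q.hom (X.presheaf.germ V.1 x hxV s) = 0 := by
  have h1 : I ≤ (Spec.map q ≫ X.fromSpecStalk x).ker := by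
    rw [← hg]
    conv_lhs => rw [← I.ker_subschemeι]
    exact Scheme.Hom.le_ker_comp _ _
  have h2 : s ∈ RingHom.ker ((Spec.map q ≫ X.fromSpecStalk x).app V.1).hom :=
    Scheme.Hom.ideal_ker_le _ V (h1 V hs)
  rw [RingHom.mem_ker, Scheme.Hom.comp_app, Scheme.fromSpecStalk_app hxV] at h2
  simp only [Category.assoc] at h2
  rw [Scheme.Hom.naturality] at h2
  have hW : (Spec.map q) ⁻¹ᵁ ((X.fromSpecStalk x) ⁻¹ᵁ V.1) = ⊤ := by
    rw [eq_top_iff]
    rintro z -
    change (X.fromSpecStalk x).base ((Spec.map q).base z) ∈ V.1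
    have hz : (X.fromSpecStalk x).base ((Spec.map q).base z) ⤳ x := by
      have : (X.fromSpecStalk x).base ((Spec.map q).base z) ∈ Set.range (X.fromSpecStalk x).base :=
        ⟨_, rfl⟩
      rw [Scheme.range_fromSpecStalk] at this
      exact this
    exact hz.mem_open V.1.2 hxV
  have h3 := aux_restrict_top (Y := Spec R) Γ(X, V.1)
    (X.presheaf.germ V.1 x hxV ≫ (Scheme.ΓSpecIso (X.presheaf.stalk x)).inv ≫
      (Spec.map q).appTop) _ hW _ s h2
  rw [← Scheme.ΓSpecIso_inv_naturality] at h3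
  have hinj : Function.Injective ((Scheme.ΓSpecIso R).inv).hom :=
    (ConcreteCategory.bijective_of_isIso (Scheme.ΓSpecIso R).inv).1
  exact hinj (by rw [map_zero]; exact h3)




lemma map_maximalIdeal_pow_le {A B : Type*} [CommRing A] [CommRing B] [IsLocalRing A]
    [IsLocalRing B] (f : A →+* B) [IsLocalHom f] (n : ℕ) :
    (IsLocalRing.maximalIdeal A ^ n).map f ≤ IsLocalRing.maximalIdeal B ^ n := by
  rw [Ideal.map_pow]
  refine Ideal.pow_right_mono ?_ n
  rw [Ideal.map_le_iff_le_comap]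
  intro a ha
  rw [Ideal.mem_comap, IsLocalRing.mem_maximalIdeal, mem_nonunits_iff]
  intro hu
  exact (IsLocalRing.mem_maximalIdeal a).mp ha (isUnit_of_map_unit f a hu)

lemma germ_eq_zero [IsLocallyNoetherian X] (p : X ⟶ S) (x : X) (I : X.IdealSheafData)
    (h : ∀ n : ℕ, ∃ g : pullback p (Spec.map (CommRingCat.ofHom (Ideal.Quotient.mk
        (IsLocalRing.maximalIdeal ↑(S.presheaf.stalk (p.base x)) ^ (n + 1)))) ≫
          S.fromSpecStalk (p.base x)) ⟶ I.subscheme,
        g ≫ I.subschemeι = pullback.fst p _)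
    (V : X.affineOpens) (hxV : x ∈ V.1) (s : Γ(X, V.1)) (hs : s ∈ I.ideal V) :
    X.presheaf.germ V.1 x hxV s = 0 := by
  have key : ∀ n : ℕ, X.presheaf.germ V.1 x hxV s ∈
      IsLocalRing.maximalIdeal (X.presheaf.stalk x) ^ (n + 1) := by
    intro n
    obtain ⟨g, hg⟩ := h n
    obtain ⟨φ, hφ⟩ : ∃ φ, φ = p.stalkMap x := ⟨_, rfl⟩
    have hloc : IsLocalHom φ.hom := by rw [hφ]; infer_instance
    obtain ⟨J, hJ⟩ : ∃ J : Ideal (X.presheaf.stalk x), J =
      (IsLocalRing.maximalIdeal ↑(S.presheaf.stalk (p.base x)) ^ (n + 1)).map φ.hom := ⟨_, rfl⟩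
    have hJle : IsLocalRing.maximalIdeal ↑(S.presheaf.stalk (p.base x)) ^ (n + 1) ≤ J.comap φ.hom := by rw [hJ]; exact Ideal.le_comap_map
    let q : X.presheaf.stalk x ⟶ CommRingCat.of (X.presheaf.stalk x ⧸ J) :=
      CommRingCat.ofHom (Ideal.Quotient.mk J)
    let r : CommRingCat.of (S.presheaf.stalk (p.base x) ⧸ IsLocalRing.maximalIdeal ↑(S.presheaf.stalk (p.base x)) ^ (n + 1)) ⟶
        CommRingCat.of (X.presheaf.stalk x ⧸ J) :=
      CommRingCat.ofHom (Ideal.quotientMap J φ.hom hJle)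
    have hcomm : (Spec.map q ≫ X.fromSpecStalk x) ≫ p =
        Spec.map r ≫ Spec.map (CommRingCat.ofHom (Ideal.Quotient.mk (IsLocalRing.maximalIdeal ↑(S.presheaf.stalk (p.base x)) ^ (n + 1)))) ≫
          S.fromSpecStalk (p.base x) := by
      rw [Category.assoc, ← Scheme.SpecMap_stalkMap_fromSpecStalk, ← hφ, ← Spec.map_comp_assoc,
        ← Spec.map_comp_assoc]
      congr 2
    let l := pullback.lift (Spec.map q ≫ X.fromSpecStalk x) (Spec.map r) hcomm
    have hl : (l ≫ g) ≫ I.subschemeι = Spec.map q ≫ X.fromSpecStalk x := by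
      rw [Category.assoc, hg, pullback.lift_fst]
    have h0 := germ_mem_ker_of_factors I x q (l ≫ g) hl V hxV s hs
    have h1 : X.presheaf.germ V.1 x hxV s ∈ J := Ideal.Quotient.eq_zero_iff_mem.mp h0
    rw [hJ] at h1
    exact map_maximalIdeal_pow_le φ.hom (n + 1) h1
  have hK := Ideal.iInf_pow_eq_bot_of_isLocalRing
    (IsLocalRing.maximalIdeal (X.presheaf.stalk x)) Ideal.IsPrime.ne_top'
  have : X.presheaf.germ V.1 x hxV s ∈ (⨅ i, IsLocalRing.maximalIdeal (X.presheaf.stalk x) ^ i) := by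
    rw [Ideal.mem_iInf]
    intro i
    exact Ideal.pow_le_pow_right (Nat.le_succ i) (key i)
  rw [hK] at this
  exact this




lemma exists_open_res_eq_zero (x : X) (V : X.Opens) (hxV : x ∈ V) (T : Finset Γ(X, V))
    (hT : ∀ s ∈ T, X.presheaf.germ V x hxV s = 0) :
    ∃ (W : X.Opens) (hWV : W ≤ V), x ∈ W ∧ ∀ s ∈ T, X.presheaf.map (homOfLE hWV).op s = 0 := by
  classical
  induction T using Finset.induction_on with
  | empty => exact ⟨V, le_rfl, hxV, by simp⟩
  | insert a T ha ih =>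
    obtain ⟨W, hWV, hxW, hW⟩ := ih (fun s hs => hT s (Finset.mem_insert_of_mem hs))
    have h0 : X.presheaf.germ V x hxV a = X.presheaf.germ V x hxV 0 := by
      rw [hT a (Finset.mem_insert_self a T), map_zero]
    obtain ⟨W', hxW', i1, i2, e⟩ := X.presheaf.germ_eq x hxV hxV a 0 h0
    rw [map_zero] at e
    refine ⟨W ⊓ W', inf_le_left.trans hWV, ⟨hxW, hxW'⟩, ?_⟩
    intro s hs
    rcases Finset.mem_insert.mp hs with rfl | hs
    · have : X.presheaf.map (homOfLE (inf_le_left.trans hWV : W ⊓ W' ≤ V)).op =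
          X.presheaf.map i1.op ≫ X.presheaf.map (homOfLE (inf_le_right : W ⊓ W' ≤ W')).op := by
        rw [← Functor.map_comp]; rfl
      rw [this, CommRingCat.comp_apply, e, map_zero]
    · have : X.presheaf.map (homOfLE (inf_le_left.trans hWV : W ⊓ W' ≤ V)).op =
          X.presheaf.map (homOfLE hWV).op ≫
            X.presheaf.map (homOfLE (inf_le_left : W ⊓ W' ≤ W)).op := by
        rw [← Functor.map_comp]; rfl
      rw [this, CommRingCat.comp_apply, hW s hs, map_zero]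

lemma exists_affine_ideal_eq_bot [IsLocallyNoetherian X] (I : X.IdealSheafData) (x : X)
    (hx : ∀ (V : X.affineOpens) (hxV : x ∈ V.1) (s : Γ(X, V.1)), s ∈ I.ideal V →
      X.presheaf.germ V.1 x hxV s = 0) :
    ∃ U : X.affineOpens, x ∈ U.1 ∧ I.ideal U = ⊥ := by
  obtain ⟨_, ⟨V, hV, rfl⟩, hxV, -⟩ := X.isBasis_affineOpens.exists_subset_of_mem_open
    (Set.mem_univ x) isOpen_univ
  have hN : IsNoetherianRing Γ(X, V) := IsLocallyNoetherian.component_noetherian ⟨V, hV⟩
  obtain ⟨T, hT⟩ : (I.ideal ⟨V, hV⟩).FG := IsNoetherian.noetherian _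
  obtain ⟨W, hWV, hxW, hW⟩ := exists_open_res_eq_zero x V hxV T (fun s hs =>
    hx ⟨V, hV⟩ hxV s (hT ▸ Ideal.subset_span hs))
  obtain ⟨_, ⟨U, hU, rfl⟩, hxU, hUW⟩ := X.isBasis_affineOpens.exists_subset_of_mem_open
    hxW W.2
  refine ⟨⟨U, hU⟩, hxU, ?_⟩
  have hUV : (⟨U, hU⟩ : X.affineOpens) ≤ ⟨V, hV⟩ := fun y hy => hWV (hUW hy)
  rw [← I.map_ideal hUV, ← hT, Ideal.map_span, Ideal.span_eq_bot]
  rintro _ ⟨s, hs, rfl⟩
  have : X.presheaf.map (homOfLE hUV).op =
      X.presheaf.map (homOfLE hWV).op ≫ X.presheaf.map (homOfLE (show U ≤ W from hUW)).op := by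
    rw [← Functor.map_comp]; rfl
  rw [this, CommRingCat.hom_comp, RingHom.comp_apply, hW s hs, map_zero]




/-- the open set on which `I` vanishes. -/
def zeroOpen (I : X.IdealSheafData) : X.Opens :=
  ⨆ W : {W : X.affineOpens // I.ideal W = ⊥}, W.1.1

lemma germ_eq_zero_of_mem_zeroOpen (I : X.IdealSheafData) (y : X) (hy : y ∈ zeroOpen I)
    (V : X.affineOpens) (hyV : y ∈ V.1) (s : Γ(X, V.1)) (hs : s ∈ I.ideal V) :
    X.presheaf.germ V.1 y hyV s = 0 := by
  obtain ⟨⟨W, hW⟩, hyW⟩ := Opens.mem_iSup.mp hy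
  obtain ⟨_, ⟨O, hO, rfl⟩, hyO, hOWV⟩ := X.isBasis_affineOpens.exists_subset_of_mem_open
    (show y ∈ (W.1 ⊓ V.1 : X.Opens) from ⟨hyW, hyV⟩) (W.1 ⊓ V.1).2
  have hOV : (⟨O, hO⟩ : X.affineOpens) ≤ V := fun z hz => (hOWV hz).2
  have hOW : (⟨O, hO⟩ : X.affineOpens) ≤ W := fun z hz => (hOWV hz).1
  have h1 : X.presheaf.map (homOfLE hOV).op s ∈ I.ideal ⟨O, hO⟩ := I.ideal_le_comap_ideal hOV hs
  rw [← I.map_ideal hOW, hW, Ideal.map_bot, Ideal.mem_bot] at h1
  rw [← X.presheaf.germ_res_apply (homOfLE hOV) y hyO s]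
  erw [h1]
  rw [map_zero]

theorem main [IsLocallyNoetherian X] [IsLocallyNoetherian S] (p : X ⟶ S) (t : S)
    (I : X.IdealSheafData)
    (h : ∀ n : ℕ, ∃ g : pullback p (Spec.map (CommRingCat.ofHom (Ideal.Quotient.mk
        (IsLocalRing.maximalIdeal ↑(S.presheaf.stalk t) ^ (n + 1)))) ≫ S.fromSpecStalk t) ⟶
          I.subscheme,
        g ≫ I.subschemeι = pullback.fst p _) :
    ∃ U : X.Opens, (∀ x : X, p.base x = t → x ∈ U) ∧
      ∃ g : (U : Scheme.{u}) ⟶ I.subscheme, g ≫ I.subschemeι = U.ι := by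
  refine ⟨zeroOpen I, ?_, ?_⟩
  · rintro x rfl
    obtain ⟨W, hxW, hW⟩ := exists_affine_ideal_eq_bot I x
      (fun V hxV s hs => germ_eq_zero p x I h V hxV s hs)
    exact Opens.mem_iSup.mpr ⟨⟨W, hW⟩, hxW⟩
  · have H : I.subschemeι.ker ≤ (zeroOpen I).ι.ker := by
      rw [I.ker_subschemeι]
      refine Scheme.IdealSheafData.le_ofIdeals_iff.mpr ?_
      intro V s hs
      rw [RingHom.mem_ker, Scheme.Opens.ι_app]
      refine TopCat.Presheaf.section_ext X.sheaf _ _ _ ?_
      intro y hy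
      have hyU : y ∈ zeroOpen I := by
        obtain ⟨z, -, rfl⟩ := hy
        exact z.2
      have hyV : y ∈ V.1 := by
        obtain ⟨z, hz, rfl⟩ := hy
        exact hz
      erw [X.presheaf.germ_res_apply _ y hy s]
      refine (germ_eq_zero_of_mem_zeroOpen I y hyU V hyV s hs).trans ?_
      exact (map_zero _).symm
    exact ⟨IsClosedImmersion.lift I.subschemeι (zeroOpen I).ι H,
      IsClosedImmersion.lift_fac _ _ _⟩


end H9Krull
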