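import Mathlib

set_option autoImplicit false
set_option linter.unusedSectionVars false
set_option linter.unusedVariables false

namespace Groth.Agent.Lib.H9Lattice

namespace LAT
section

open Module

/-- an adapted basis: the vector `d` is its gcd times the first basis vector -/
lemma exists_adapted_basis (n : ℕ) (d : Fin (n + 1) → ℤ) :
    ∃ p : Basis (Fin (n + 1)) ℤ (Fin (n + 1) → ℤ), d = (Finset.univ.gcd d) • p 0 := by
  classical
  set D : ℤ := Finset.univ.gcd d with hD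
  by_cases hD0 : D = 0
  · refine ⟨Pi.basisFun ℤ _, ?_⟩
    rw [hD0, zero_smul]
    funext k
    exact (Finset.gcd_eq_zero_iff.mp hD0) k (Finset.mem_univ k)
  · obtain ⟨a, ha⟩ := Finset.gcd_eq_sum_mul (Finset.univ : Finset (Fin (n + 1))) d
    have hdvd : ∀ k, D ∣ d k := fun k => Finset.gcd_dvd (Finset.mem_univ k)
    choose d' hd' using hdvd
    have h1 : ∑ k, d' k * a k = 1 := by
      have : D * ∑ k, d' k * a k = D * 1 := by
        rw [mul_one, Finset.mul_sum]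
        have h2 : ∑ k, D * (d' k * a k) = ∑ k, d k * a k := by
          refine Finset.sum_congr rfl (fun k _ => ?_)
          rw [hd' k, mul_assoc]
        rw [h2, ← ha]
      exact mul_left_cancel₀ hD0 this
    -- the functional
    let lam : (Fin (n + 1) → ℤ) →ₗ[ℤ] ℤ := ∑ k, a k • LinearMap.proj k
    have hlam : ∀ x, lam x = ∑ k, x k * a k := by
      intro x
      simp only [lam, LinearMap.sum_apply, LinearMap.smul_apply, LinearMap.proj_apply, smul_eq_mul]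
      exact Finset.sum_congr rfl (fun k _ => mul_comm _ _)
    have hlamd : lam d' = 1 := by rw [hlam, h1]
    obtain ⟨m, ⟨bK⟩⟩ := Submodule.nonempty_basis_of_pid (Pi.basisFun ℤ (Fin (n + 1))) (LinearMap.ker lam)
    let p := Basis.mkFinCons d' bK
      (by
        intro c x hx h
        have := congrArg lam h
        rw [map_add, map_smul, hlamd, LinearMap.mem_ker.mp hx, map_zero, add_zero, smul_eq_mul,
          mul_one] at this
        exact this)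
      (by
        intro z
        refine ⟨-lam z, ?_⟩
        rw [LinearMap.mem_ker, map_add, map_smul, hlamd, smul_eq_mul, mul_one, add_neg_cancel])
    have hm : m = n := by
      have e := p.indexEquiv (Pi.basisFun ℤ (Fin (n + 1)))
      have := Fintype.card_congr e
      simpa using this
    subst hm
    refine ⟨p, ?_⟩
    have hp0 : p 0 = d' := by
      simp only [p, Basis.coe_mkFinCons, Fin.cons_zero]
    rw [hp0]
    funext k
    rw [Pi.smul_apply, smul_eq_mul, hd' k]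

end
end LAT

namespace LAT
section

open Module

variable {L : Type*} [AddCommGroup L] [Module ℤ L]

/-- the generating set -/
def S (δ : ℕ) (g : ℤ) (d : L) : Set (L →+ ZMod δ) :=
  {φ | ∃ b : LinearMap.BilinForm ℤ L, b.IsSymm ∧
    ∀ x, φ x = ((b d x + (1 - g) * b x x : ℤ) : ZMod δ)}

lemma exists_hom (δ : ℕ) (g : ℤ) (hδ : (δ : ℤ) ∣ 2 * (g - 1)) (d : L)
    (b : LinearMap.BilinForm ℤ L) (hb : b.IsSymm) :
    ∃ φ : L →+ ZMod δ, ∀ x, φ x = ((b d x + (1 - g) * b x x : ℤ) : ZMod δ) := by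
  refine ⟨AddMonoidHom.mk' (fun x => ((b d x + (1 - g) * b x x : ℤ) : ZMod δ)) ?_, fun x => rfl⟩
  intro x y
  rw [← Int.cast_add, ZMod.intCast_eq_intCast_iff_dvd_sub]
  obtain ⟨c, hc⟩ := hδ
  refine ⟨c * b x y, ?_⟩
  simp only [map_add, LinearMap.add_apply]
  rw [hb.eq y x]
  linear_combination (b x y) * hc

lemma hom_ext_basis {ι : Type*} [Fintype ι] (p : Basis ι ℤ L) {A : Type*} [AddCommGroup A]
    (φ ψ : L →+ A) (h : ∀ j, φ (p j) = ψ (p j)) : φ = ψ := by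
  ext x
  rw [← p.sum_repr x, map_sum, map_sum]
  refine Finset.sum_congr rfl (fun j _ => ?_)
  have h1 := map_intCast_smul φ ℤ ℤ (p.repr x j) (p j)
  have h2 := map_intCast_smul ψ ℤ ℤ (p.repr x j) (p j)
  simp only [Int.cast_id] at h1 h2
  rw [h1, h2, h j]

end
end LAT

namespace LAT
section

open Module

variable {L : Type*} [AddCommGroup L] [Module ℤ L]

/-- the comparison map -/
noncomputable def Psi {n δ : ℕ} (p : Basis (Fin (n + 1)) ℤ L) (m₁ m₂ : ℕ) (h₁ : m₁ ∣ δ) (h₂ : m₂ ∣ δ) :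
    (L →+ ZMod δ) →+ ZMod m₁ × (Fin n → ZMod m₂) where
  toFun φ := (ZMod.castHom h₁ (ZMod m₁) (φ (p 0)),
    fun k => ZMod.castHom h₂ (ZMod m₂) (φ (p k.succ)))
  map_zero' := by
    refine Prod.ext ?_ (funext fun k => ?_)
    · show ZMod.castHom h₁ (ZMod m₁) ((0 : L →+ ZMod δ) (p 0)) = 0
      rw [AddMonoidHom.zero_apply, map_zero]
    · show ZMod.castHom h₂ (ZMod m₂) ((0 : L →+ ZMod δ) (p k.succ)) = 0
      rw [AddMonoidHom.zero_apply, map_zero]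
  map_add' φ ψ := by
    refine Prod.ext ?_ (funext fun k => ?_)
    · show ZMod.castHom h₁ (ZMod m₁) ((φ + ψ) (p 0)) =
        ZMod.castHom h₁ (ZMod m₁) (φ (p 0)) + ZMod.castHom h₁ (ZMod m₁) (ψ (p 0))
      rw [AddMonoidHom.add_apply, map_add]
    · show ZMod.castHom h₂ (ZMod m₂) ((φ + ψ) (p k.succ)) =
        ZMod.castHom h₂ (ZMod m₂) (φ (p k.succ)) + ZMod.castHom h₂ (ZMod m₂) (ψ (p k.succ))
      rw [AddMonoidHom.add_apply, map_add]

lemma Psi_surjective {n δ : ℕ} (p : Basis (Fin (n + 1)) ℤ L) (m₁ m₂ : ℕ) (h₁ : m₁ ∣ δ)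
    (h₂ : m₂ ∣ δ) : Function.Surjective (Psi p m₁ m₂ h₁ h₂) := by
  rintro ⟨y₀, y⟩
  obtain ⟨a₀, ha₀⟩ := ZMod.intCast_surjective y₀
  choose a ha using fun k => ZMod.intCast_surjective (y k)
  let c : Fin (n + 1) → ℤ := Fin.cons a₀ a
  let ℓ : L →ₗ[ℤ] ℤ := p.constr ℤ c
  refine ⟨(Int.castAddHom (ZMod δ)).comp ℓ.toAddMonoidHom, ?_⟩
  have hℓ : ∀ j, ℓ (p j) = c j := fun j => p.constr_basis ℤ c j
  ext
  · show ZMod.castHom h₁ (ZMod m₁) ((ℓ (p 0) : ℤ) : ZMod δ) = y₀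
    rw [hℓ, map_intCast]
    exact ha₀
  · rename_i k
    show ZMod.castHom h₂ (ZMod m₂) ((ℓ (p k.succ) : ℤ) : ZMod δ) = y k
    rw [hℓ, map_intCast]
    exact ha k

lemma S_le_ker {n δ : ℕ} (g D : ℤ) (p : Basis (Fin (n + 1)) ℤ L) (d : L)
    (hbd : ∀ (b : LinearMap.BilinForm ℤ L) (x : L), b d x = D * b (p 0) x)
    (m₁ m₂ : ℕ) (h₁ : m₁ ∣ δ) (h₂ : m₂ ∣ δ)
    (hm₁ : (m₁ : ℤ) ∣ D + 1 - g) (hm₂D : (m₂ : ℤ) ∣ D) (hm₂g : (m₂ : ℤ) ∣ g - 1) :
    S δ g d ⊆ (Psi p m₁ m₂ h₁ h₂).ker := by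
  rintro φ ⟨b, hb, hφ⟩
  rw [SetLike.mem_coe, AddMonoidHom.mem_ker]
  have hbd : ∀ x, b d x = D * b (p 0) x := hbd b
  ext
  · show ZMod.castHom h₁ (ZMod m₁) (φ (p 0)) = 0
    rw [hφ, map_intCast, ZMod.intCast_zmod_eq_zero_iff_dvd, hbd]
    have : D * b (p 0) (p 0) + (1 - g) * b (p 0) (p 0) = (D + 1 - g) * b (p 0) (p 0) := by ring
    rw [this]
    exact Dvd.dvd.mul_right hm₁ _
  · rename_i k
    show ZMod.castHom h₂ (ZMod m₂) (φ (p k.succ)) = 0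
    rw [hφ, map_intCast, ZMod.intCast_zmod_eq_zero_iff_dvd, hbd]
    refine dvd_add (Dvd.dvd.mul_right hm₂D _) (Dvd.dvd.mul_right ?_ _)
    have : (1 : ℤ) - g = -(g - 1) := by ring
    rw [this]
    exact (dvd_neg).mpr hm₂g

end
end LAT

namespace LAT
section

open Module

variable {L : Type*} [AddCommGroup L] [Module ℤ L]

lemma ker_le_S {n δ : ℕ} (g D : ℤ) (hδ : (δ : ℤ) ∣ 2 * (g - 1)) (p : Basis (Fin (n + 1)) ℤ L)
    (d : L) (hbd : ∀ (b : LinearMap.BilinForm ℤ L) (x : L), b d x = D * b (p 0) x)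
    (m₁ m₂ : ℕ) (h₁ : m₁ ∣ δ) (h₂ : m₂ ∣ δ)
    (hB₁ : ∃ u v : ℤ, (m₁ : ℤ) = δ * u + (D + 1 - g) * v)
    (hB₂ : ∃ u v w : ℤ, (m₂ : ℤ) = δ * u + (g - 1) * v + D * w) :
    ((Psi p m₁ m₂ h₁ h₂).ker : Set (L →+ ZMod δ)) ⊆ S δ g d := by
  classical
  intro φ hφ
  rw [SetLike.mem_coe, AddMonoidHom.mem_ker] at hφ
  have hφ0 : ZMod.castHom h₁ (ZMod m₁) (φ (p 0)) = 0 := congrArg Prod.fst hφ
  have hφk : ∀ k : Fin n, ZMod.castHom h₂ (ZMod m₂) (φ (p k.succ)) = 0 :=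
    fun k => congrFun (congrArg Prod.snd hφ) k
  obtain ⟨u₁, v₁, huv₁⟩ := hB₁
  obtain ⟨u₂, v₂, w₂, huv₂⟩ := hB₂
  have h0 : ∃ s₀ : ℤ, φ (p 0) = (((D + 1 - g) * s₀ : ℤ) : ZMod δ) := by
    obtain ⟨a, ha⟩ := ZMod.intCast_surjective (φ (p 0))
    rw [← ha, map_intCast, ZMod.intCast_zmod_eq_zero_iff_dvd] at hφ0
    obtain ⟨a', ha'⟩ := hφ0
    refine ⟨v₁ * a', ?_⟩
    rw [← ha, ZMod.intCast_eq_intCast_iff_dvd_sub]
    refine ⟨- (u₁ * a'), ?_⟩
    rw [ha', huv₁]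
    ring
  have hk : ∀ k : Fin n, ∃ st : ℤ × ℤ,
      φ (p k.succ) = ((D * st.1 + (1 - g) * st.2 : ℤ) : ZMod δ) := by
    intro k
    obtain ⟨a, ha⟩ := ZMod.intCast_surjective (φ (p k.succ))
    have := hφk k
    rw [← ha, map_intCast, ZMod.intCast_zmod_eq_zero_iff_dvd] at this
    obtain ⟨a', ha'⟩ := this
    refine ⟨(w₂ * a', - v₂ * a'), ?_⟩
    rw [← ha, ZMod.intCast_eq_intCast_iff_dvd_sub]
    refine ⟨- (u₂ * a'), ?_⟩
    rw [ha', huv₂]
    ring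
  obtain ⟨s₀, hs₀⟩ := h0
  choose st hst using hk
  let M : Matrix (Fin (n + 1)) (Fin (n + 1)) ℤ := fun i j =>
    Fin.cases (Fin.cases s₀ (fun k => (st k).1) j)
      (fun k' => Fin.cases (st k').1 (fun k => if k = k' then (st k).2 else 0) j) i
  have hM00 : M 0 0 = s₀ := rfl
  have hM0k : ∀ k : Fin n, M 0 k.succ = (st k).1 := fun k => by simp [M]
  have hMk0 : ∀ k : Fin n, M k.succ 0 = (st k).1 := fun k => by simp [M]
  have hMkk : ∀ k k' : Fin n, M k'.succ k.succ = if k = k' then (st k).2 else 0 :=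
    fun k k' => by simp [M]
  let b : LinearMap.BilinForm ℤ L := Matrix.toBilin p M
  have hbM : ∀ i j, b (p i) (p j) = M i j := by
    intro i j
    have := LinearMap.BilinForm.toMatrix_toBilin p M
    have h2 := congrFun (congrFun this i) j
    rw [LinearMap.BilinForm.toMatrix_apply] at h2
    exact h2
  have hbsymm : b.IsSymm := by
    rw [LinearMap.BilinForm.isSymm_iff_basis p]
    intro i j
    rw [hbM, hbM]
    induction i using Fin.cases with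
    | zero =>
      induction j using Fin.cases with
      | zero => rfl
      | succ k => rw [hM0k, hMk0]
    | succ k' =>
      induction j using Fin.cases with
      | zero => rw [hM0k, hMk0]
      | succ k =>
        rw [hMkk, hMkk]
        by_cases h : k = k'
        · subst h
          rfl
        · rw [if_neg h, if_neg (Ne.symm h)]
  obtain ⟨ψ, hψ⟩ := exists_hom δ g hδ d b hbsymm
  have : φ = ψ := by
    apply hom_ext_basis p
    intro j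
    rw [hψ, hbd, hbM, hbM]
    induction j using Fin.cases with
    | zero =>
      rw [hM00, hs₀]
      congr 1
      ring
    | succ k =>
      rw [hM0k, hMkk, if_pos rfl, hst]
  rw [this]
  exact ⟨b, hbsymm, hψ⟩

end
end LAT

namespace LAT
section

open Module

/-- common setup: the comparison map for an arbitrary `d`. -/
theorem setup (n : ℕ) (δ : ℕ) (g : ℤ) (hδ : (δ : ℤ) ∣ 2 * (g - 1)) (d : Fin (n + 1) → ℤ) :
    ∃ (p : Basis (Fin (n + 1)) ℤ (Fin (n + 1) → ℤ))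
      (h₁ : Int.gcd δ (Finset.univ.gcd d + 1 - g) ∣ δ)
      (h₂ : Int.gcd δ (Int.gcd (g - 1) (Finset.univ.gcd d)) ∣ δ),
      (Psi p _ _ h₁ h₂).ker = AddSubgroup.closure (S δ g d) := by
  obtain ⟨p, hp⟩ := exists_adapted_basis n d
  set D : ℤ := Finset.univ.gcd d with hD
  have h₁ : Int.gcd δ (D + 1 - g) ∣ δ := Int.natCast_dvd_natCast.mp (Int.gcd_dvd_left _ _)
  have h₂ : Int.gcd δ (Int.gcd (g - 1) D) ∣ δ := Int.natCast_dvd_natCast.mp (Int.gcd_dvd_left _ _)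
  refine ⟨p, h₁, h₂, ?_⟩
  have hbd : ∀ (b : LinearMap.BilinForm ℤ (Fin (n + 1) → ℤ)) (x : Fin (n + 1) → ℤ),
      b d x = D * b (p 0) x := by
    intro b x
    conv_lhs => rw [hp]
    exact (LinearMap.map_smul₂ b D (p 0) x).trans (smul_eq_mul _ _)
  have hm₁ : ((Int.gcd δ (D + 1 - g) : ℕ) : ℤ) ∣ D + 1 - g := Int.gcd_dvd_right _ _
  have hm₂G : ((Int.gcd δ (Int.gcd (g - 1) D) : ℕ) : ℤ) ∣ ((Int.gcd (g - 1) D : ℕ) : ℤ) :=
    Int.gcd_dvd_right _ _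
  have hm₂D : ((Int.gcd δ (Int.gcd (g - 1) D) : ℕ) : ℤ) ∣ D :=
    hm₂G.trans (Int.gcd_dvd_right _ _)
  have hm₂g : ((Int.gcd δ (Int.gcd (g - 1) D) : ℕ) : ℤ) ∣ g - 1 :=
    hm₂G.trans (Int.gcd_dvd_left _ _)
  have hB₁ : ∃ u v : ℤ, ((Int.gcd δ (D + 1 - g) : ℕ) : ℤ) = δ * u + (D + 1 - g) * v :=
    ⟨_, _, Int.gcd_eq_gcd_ab _ _⟩
  have hB₂ : ∃ u v w : ℤ, ((Int.gcd δ (Int.gcd (g - 1) D) : ℕ) : ℤ) =
      δ * u + (g - 1) * v + D * w := by
    obtain ⟨A, B, e1⟩ : ∃ A B : ℤ, ((Int.gcd δ (Int.gcd (g - 1) D) : ℕ) : ℤ) =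
        δ * A + ((Int.gcd (g - 1) D : ℕ) : ℤ) * B := ⟨_, _, Int.gcd_eq_gcd_ab _ _⟩
    obtain ⟨A', B', e2⟩ : ∃ A' B' : ℤ, ((Int.gcd (g - 1) D : ℕ) : ℤ) =
        (g - 1) * A' + D * B' := ⟨_, _, Int.gcd_eq_gcd_ab _ _⟩
    refine ⟨A, A' * B, B' * B, ?_⟩
    rw [e1, e2]
    ring
  apply le_antisymm
  · intro φ hφ
    exact AddSubgroup.subset_closure (ker_le_S g D hδ p d hbd _ _ h₁ h₂ hB₁ hB₂ hφ)
  · rw [AddSubgroup.closure_le]
    exact S_le_ker g D p d hbd _ _ h₁ h₂ hm₁ hm₂D hm₂g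

theorem thm330 (r : ℕ) (hr : 0 < r) (δ : ℕ) (g : ℤ) (hδ : (δ : ℤ) ∣ 2 * (g - 1))
    (d : Fin r → ℤ) :
    Nonempty ((((Fin r → ℤ) →+ ZMod δ) ⧸ AddSubgroup.closure
      {φ : (Fin r → ℤ) →+ ZMod δ | ∃ b : LinearMap.BilinForm ℤ (Fin r → ℤ), b.IsSymm ∧
      ∀ x, φ x = ((b d x + (1 - g) * b x x : ℤ) : ZMod δ)}) ≃+
      (ZMod (Int.gcd δ (Finset.univ.gcd d + 1 - g)) ×
        (Fin (r - 1) → ZMod (Int.gcd δ (Int.gcd (g - 1) (Finset.univ.gcd d)))))) := by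
  obtain ⟨n, rfl⟩ : ∃ n, r = n + 1 := ⟨r - 1, by omega⟩
  obtain ⟨p, h₁, h₂, hker⟩ := setup n δ g hδ d
  exact ⟨(QuotientAddGroup.quotientAddEquivOfEq hker.symm).trans
    (QuotientAddGroup.quotientKerEquivOfSurjective _ (Psi_surjective p _ _ h₁ h₂))⟩

end
end LAT

namespace LAT
section

open Module

/-- multiplication by `m` as a map `ℤ/(δ/m) → ℤ/δ`, with its key properties -/
lemma exists_mulHom (δ m : ℕ) (hδ : 0 < δ) (hm : m ∣ δ) :
    ∃ f : ZMod (δ / m) →+ ZMod δ, Function.Injective f ∧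
      (∀ y, ZMod.castHom hm (ZMod m) (f y) = 0) ∧
      ∀ z : ZMod δ, ZMod.castHom hm (ZMod m) z = 0 → ∃ y, f y = z := by
  obtain ⟨q, hq⟩ := hm
  have hm0 : m ≠ 0 := by
    rintro rfl
    rw [zero_mul] at hq
    omega
  have hq' : δ / m = q := by
    rw [hq]
    exact Nat.mul_div_cancel_left q (Nat.pos_of_ne_zero hm0)
  let g : ℤ →+ ZMod δ := (Int.castAddHom (ZMod δ)).comp (AddMonoidHom.mulLeft (m : ℤ))
  have hg : ∀ x : ℤ, g x = (((m : ℤ) * x : ℤ) : ZMod δ) := fun x => rfl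
  have hg0 : g ((δ / m : ℕ) : ℤ) = 0 := by
    rw [hg, hq', ZMod.intCast_zmod_eq_zero_iff_dvd, hq]
    push_cast
    exact dvd_refl _
  let f : ZMod (δ / m) →+ ZMod δ := ZMod.lift (δ / m) ⟨g, hg0⟩
  have hf : ∀ x : ℤ, f (x : ZMod (δ / m)) = (((m : ℤ) * x : ℤ) : ZMod δ) := by
    intro x
    exact ZMod.lift_coe (δ / m) ⟨g, hg0⟩ x
  refine ⟨f, ?_, ?_, ?_⟩
  · rw [injective_iff_map_eq_zero]
    intro y hy
    obtain ⟨a, rfl⟩ := ZMod.intCast_surjective y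
    rw [hf, ZMod.intCast_zmod_eq_zero_iff_dvd, hq] at hy
    rw [ZMod.intCast_zmod_eq_zero_iff_dvd, hq']
    push_cast at hy
    exact (mul_dvd_mul_iff_left (by exact_mod_cast hm0)).mp hy
  · intro y
    obtain ⟨a, rfl⟩ := ZMod.intCast_surjective y
    rw [hf, map_intCast, ZMod.intCast_zmod_eq_zero_iff_dvd]
    exact Dvd.intro _ rfl
  · intro z hz
    obtain ⟨a, rfl⟩ := ZMod.intCast_surjective z
    rw [map_intCast, ZMod.intCast_zmod_eq_zero_iff_dvd] at hz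
    obtain ⟨a', rfl⟩ := hz
    exact ⟨(a' : ZMod (δ / m)), hf a'⟩

variable {L : Type*} [AddCommGroup L] [Module ℤ L]

/-- the additive map with prescribed values on a basis -/
noncomputable def homOf {n δ : ℕ} (p : Basis (Fin (n + 1)) ℤ L) (c : Fin (n + 1) → ZMod δ) :
    L →+ ZMod δ :=
  (Int.castAddHom (ZMod δ)).comp (p.constr ℤ (fun j => ((c j).cast : ℤ))).toAddMonoidHom

lemma homOf_basis {n δ : ℕ} (p : Basis (Fin (n + 1)) ℤ L) (c : Fin (n + 1) → ZMod δ)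
    (j : Fin (n + 1)) : homOf p c (p j) = c j := by
  show (((p.constr ℤ (fun j => ((c j).cast : ℤ))) (p j) : ℤ) : ZMod δ) = c j
  rw [p.constr_basis]
  exact ZMod.intCast_zmod_cast (c j)

/-- the kernel of `Psi` -/
theorem ker_equiv {n δ : ℕ} (hδ : 0 < δ) (p : Basis (Fin (n + 1)) ℤ L) (m₁ m₂ : ℕ) (h₁ : m₁ ∣ δ)
    (h₂ : m₂ ∣ δ) :
    Nonempty ((Psi p m₁ m₂ h₁ h₂).ker ≃+ (ZMod (δ / m₁) × (Fin n → ZMod (δ / m₂)))) := by
  obtain ⟨f₁, hf₁i, hf₁c, hf₁s⟩ := exists_mulHom δ m₁ hδ h₁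
  obtain ⟨f₂, hf₂i, hf₂c, hf₂s⟩ := exists_mulHom δ m₂ hδ h₂
  let θ : (ZMod (δ / m₁) × (Fin n → ZMod (δ / m₂))) → (L →+ ZMod δ) :=
    fun y => homOf p (Fin.cons (f₁ y.1) (fun k => f₂ (y.2 k)))
  have hθ0 : ∀ y, θ y (p 0) = f₁ y.1 := by
    intro y
    show homOf p _ (p 0) = _
    rw [homOf_basis, Fin.cons_zero]
  have hθk : ∀ y (k : Fin n), θ y (p k.succ) = f₂ (y.2 k) := by
    intro y k
    show homOf p _ (p k.succ) = _
    rw [homOf_basis, Fin.cons_succ]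
  let Θ : (ZMod (δ / m₁) × (Fin n → ZMod (δ / m₂))) →+ (L →+ ZMod δ) :=
    AddMonoidHom.mk' θ (by
      intro y y'
      apply hom_ext_basis p
      intro j
      rw [AddMonoidHom.add_apply]
      induction j using Fin.cases with
      | zero => rw [hθ0, hθ0, hθ0, Prod.fst_add, map_add]
      | succ k => rw [hθk, hθk, hθk, Prod.snd_add, Pi.add_apply, map_add])
  have hΘ : ∀ y, Θ y = θ y := fun y => rfl
  have hinj : Function.Injective Θ := by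
    intro y y' h
    rw [hΘ, hΘ] at h
    refine Prod.ext ?_ (funext fun k => ?_)
    · apply hf₁i
      rw [← hθ0, ← hθ0, h]
    · apply hf₂i
      rw [← hθk, ← hθk, h]
  have hrange : Θ.range = (Psi p m₁ m₂ h₁ h₂).ker := by
    ext φ
    rw [AddMonoidHom.mem_range, AddMonoidHom.mem_ker]
    constructor
    · rintro ⟨y, rfl⟩
      refine Prod.ext ?_ (funext fun k => ?_)
      · show ZMod.castHom h₁ (ZMod m₁) (θ y (p 0)) = 0
        rw [hθ0, hf₁c]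
      · show ZMod.castHom h₂ (ZMod m₂) (θ y (p k.succ)) = 0
        rw [hθk, hf₂c]
    · intro hφ
      have hφ0 : ZMod.castHom h₁ (ZMod m₁) (φ (p 0)) = 0 := congrArg Prod.fst hφ
      have hφk : ∀ k : Fin n, ZMod.castHom h₂ (ZMod m₂) (φ (p k.succ)) = 0 :=
        fun k => congrFun (congrArg Prod.snd hφ) k
      obtain ⟨y₀, hy₀⟩ := hf₁s _ hφ0
      choose y hy using fun k => hf₂s _ (hφk k)
      refine ⟨(y₀, y), ?_⟩
      apply hom_ext_basis p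
      intro j
      rw [hΘ]
      induction j using Fin.cases with
      | zero => rw [hθ0, hy₀]
      | succ k => rw [hθk, hy]
  exact ⟨((AddMonoidHom.ofInjective hinj).trans (AddEquiv.addSubgroupCongr hrange)).symm⟩

theorem thm331 (r : ℕ) (hr : 0 < r) (δ : ℕ) (hδ0 : 0 < δ) (g : ℤ) (hδ : (δ : ℤ) ∣ 2 * (g - 1))
    (d : Fin r → ℤ) :
    Nonempty (AddSubgroup.closure
      {φ : (Fin r → ℤ) →+ ZMod δ | ∃ b : LinearMap.BilinForm ℤ (Fin r → ℤ), b.IsSymm ∧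
      ∀ x, φ x = ((b d x + (1 - g) * b x x : ℤ) : ZMod δ)} ≃+
      (ZMod (δ / Int.gcd δ (Finset.univ.gcd d + 1 - g)) ×
        (Fin (r - 1) → ZMod (δ / Int.gcd δ (Int.gcd (g - 1) (Finset.univ.gcd d)))))) := by
  obtain ⟨n, rfl⟩ : ∃ n, r = n + 1 := ⟨r - 1, by omega⟩
  obtain ⟨p, h₁, h₂, hker⟩ := setup n δ g hδ d
  obtain ⟨e⟩ := ker_equiv hδ0 p _ _ h₁ h₂
  exact ⟨(AddEquiv.addSubgroupCongr hker.symm).trans e⟩

end
end LAT

end Groth.Agent.Lib.H9Lattice
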