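import Groth.Prelude.Def_LiftSq
import Groth.Prelude.Def_FibCat2
import Groth.Agent.Lib.Helper26LiftSq
import Groth.Agent.Lib.Helper17FibCat

/-!
# helper9: the unique lifting property is stable under base change along a 2-fibre product

`liftsUniquely_fpFst : LiftsUniquely j f → LiftsUniquely j (fpFst y f)`.
-/

set_option autoImplicit false

namespace Groth.Agent.Lib.H9LiftSqFp

open CategoryTheory LiftSq FibCat
open Groth.Agent.Lib.Helper26.LiftSqComp

universe v₆ u₆ v₅ u₅ v₄ u₄ v₃ u₃ v₂ u₂ v u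

set_option allowUnsafeReducibility true in
attribute [local reducible] BasedFunctor.comp FibCat.fpFst FibCat.fpSnd

variable {C : Type u} [Category.{v} C]
  {𝒜 : BasedCategory.{v₂, u₂} C} {ℬ : BasedCategory.{v₃, u₃} C}
  {𝒳 : BasedCategory.{v₄, u₄} C} {𝒴 : BasedCategory.{v₅, u₅} C} {𝒴' : BasedCategory.{v₆, u₆} C}

/-- Whiskering an isomorphism on the left. -/
def whiskerLeftIso (j : 𝒜 ⥤ᵇ ℬ) {F G : ℬ ⥤ᵇ 𝒳} (α : F ≅ G) :
    BasedFunctor.comp j F ≅ BasedFunctor.comp j G where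
  hom := BasedCategory.whiskerLeft j α.hom
  inv := BasedCategory.whiskerLeft j α.inv
  hom_inv_id := by rw [← whiskerLeft_comp', α.hom_inv_id, whiskerLeft_id']
  inv_hom_id := by rw [← whiskerLeft_comp', α.inv_hom_id, whiskerLeft_id']

variable (j : 𝒜 ⥤ᵇ ℬ) (y : 𝒴' ⥤ᵇ 𝒴) (f : 𝒳 ⥤ᵇ 𝒴)

/-- the square against `f` obtained from a square against the base change of `f` -/
def sqF (sq : Sq j (fpFst y f)) : Sq j f where
  top := BasedFunctor.comp sq.top (fpSnd y f)
  bot := BasedFunctor.comp sq.bot y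
  iso := whiskerRightIso sq.iso y ≪≫ whiskerLeftIso sq.top (fpIso y f)

theorem sqF_iso_app (sq : Sq j (fpFst y f)) (a : 𝒜.obj) :
    (sqF j y f sq).iso.hom.toNatTrans.app a =
      y.map (sq.iso.hom.toNatTrans.app a) ≫ (sq.top.obj a).obj.iso.hom := rfl


section Exist

variable {j y f}
variable {sq : Sq j (fpFst y f)} (d' : (sqF j y f sq).Lift)

/-- component identities coming from `d'.w` -/
theorem w_app' (a : 𝒜.obj) :
    d'.isoBot.hom.toNatTrans.app (j.obj a) ≫ f.map (d'.isoTop.hom.toNatTrans.app a) =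
      y.map (sq.iso.hom.toNatTrans.app a) ≫ (sq.top.obj a).obj.iso.hom :=
  congrArg (fun α => α.toNatTrans.app a) d'.w

/-- the lifting functor into the fibre product -/
def liftFn : ℬ ⥤ᵇ fp y f := fpLift sq.bot d'.fn d'.isoBot

/-- the components of the upper triangle -/
def isoTopApp (a : 𝒜.obj) : (liftFn d').obj (j.obj a) ≅ sq.top.obj a :=
  ObjectProperty.isoMk _
    (Limits.CategoricalPullback.mkIso (x := ((liftFn d').obj (j.obj a)).obj)
      (y := (sq.top.obj a).obj)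
      (((BasedNatTrans.forgetful _ _).mapIso sq.iso).app a)
      (((BasedNatTrans.forgetful _ _).mapIso d'.isoTop).app a)
      ((w_app' d' a).symm))

/-- lifting criterion for morphisms of the fibre product -/
theorem fp_isHomLift {R S : C} (g : R ⟶ S) {x x' : (fp y f).obj} (φ : x ⟶ x')
    (h : 𝒴'.p.IsHomLift g φ.hom.fst) : (fp y f).p.IsHomLift g φ := by
  change ((fpProp y f).ι ⋙ Limits.CategoricalPullback.π₁ y.toFunctor f.toFunctor ⋙ 𝒴'.p).IsHomLift g φ
  rw [← Functor.assoc, Groth.Agent.Lib.Helper17.isHomLift_comp_iff]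
  exact h

/-- the upper triangle -/
def liftIsoTop : BasedFunctor.comp j (liftFn d') ≅ sq.top :=
  BasedNatIso.mkNatIso
    (NatIso.ofComponents (isoTopApp d') (fun {a a'} g => by
      apply ObjectProperty.hom_ext
      apply Limits.CategoricalPullback.hom_ext
      · exact sq.iso.hom.toNatTrans.naturality g
      · exact d'.isoTop.hom.toNatTrans.naturality g))
    (fun a => fp_isHomLift _ _ (sq.iso.hom.isHomLift' a))

/-- the lift of the original square -/
def liftOf : sq.Lift where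
  fn := liftFn d'
  isoTop := liftIsoTop d'
  isoBot := BasedNatIso.mkNatIso (NatIso.ofComponents (fun b => Iso.refl _) (fun g => by
      change sq.bot.map g ≫ 𝟙 _ = 𝟙 _ ≫ sq.bot.map g
      rw [Category.comp_id, Category.id_comp]))
    (fun b => by
      change 𝒴'.p.IsHomLift (𝟙 (ℬ.p.obj b)) (𝟙 (sq.bot.obj b))
      infer_instance)
  w := by
    apply BasedNatTrans.homCategory.ext
    ext a
    change 𝟙 _ ≫ sq.iso.hom.toNatTrans.app a = sq.iso.hom.toNatTrans.app a
    exact Category.id_comp _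

theorem hasLift_of (h : (sqF j y f sq).HasLift) : sq.HasLift := by
  obtain ⟨d'⟩ := h
  exact ⟨liftOf d'⟩

end Exist

section Uniq

theorem aux1 {D : Type*} [Category D] {X1 X2 X3 X4 Y : D} (p : X1 ⟶ X2) (k1 : X2 ⟶ X3)
    (s : X3 ⟶ X4) (t : X2 ⟶ Y) (k2 : Y ⟶ X4) (q : X1 ⟶ Y) (h1 : t ≫ k2 = k1 ≫ s)
    (h2 : p ≫ t = q) : (p ≫ k1) ≫ s = q ≫ k2 := by
  rw [Category.assoc, ← h1, ← Category.assoc, h2]

variable {j y f}
variable {sq : Sq j (fpFst y f)}

/-- component identity coming from `d.w` -/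
theorem w_app (d : sq.Lift) (a : 𝒜.obj) :
    d.isoBot.hom.toNatTrans.app (j.obj a) ≫ (d.isoTop.hom.toNatTrans.app a).hom.fst =
      sq.iso.hom.toNatTrans.app a :=
  congrArg (fun α => α.toNatTrans.app a) d.w

/-- a lift of the original square gives a lift of the square against `f` -/
def liftL (d : sq.Lift) : (sqF j y f sq).Lift where
  fn := BasedFunctor.comp d.fn (fpSnd y f)
  isoTop := whiskerRightIso d.isoTop (fpSnd y f)
  isoBot := whiskerRightIso d.isoBot y ≪≫ whiskerLeftIso d.fn (fpIso y f)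
  w := by
    apply BasedNatTrans.homCategory.ext
    ext a
    change (y.map (d.isoBot.hom.toNatTrans.app (j.obj a)) ≫ (d.fn.obj (j.obj a)).obj.iso.hom) ≫
        f.map (d.isoTop.hom.toNatTrans.app a).hom.snd =
      y.map (sq.iso.hom.toNatTrans.app a) ≫ (sq.top.obj a).obj.iso.hom
    exact aux1 _ _ _ _ _ _ (d.isoTop.hom.toNatTrans.app a).hom.w
      ((y.toFunctor.map_comp _ _).symm.trans (congrArg (fun m => y.map m) (w_app d a)))

theorem liftL_isoBot_app (d : sq.Lift) (b : ℬ.obj) :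
    (liftL d).isoBot.hom.toNatTrans.app b =
      y.map (d.isoBot.hom.toNatTrans.app b) ≫ (d.fn.obj b).obj.iso.hom := rfl


variable (d₁ d₂ : sq.Lift)

/-- the first component of the comparison morphism -/
def theta1 : BasedFunctor.comp d₁.fn (fpFst y f) ⟶ BasedFunctor.comp d₂.fn (fpFst y f) :=
  d₁.isoBot.inv ≫ d₂.isoBot.hom

theorem theta1_app (b : ℬ.obj) : (theta1 d₁ d₂).toNatTrans.app b =
    d₁.isoBot.inv.toNatTrans.app b ≫ d₂.isoBot.hom.toNatTrans.app b := rfl

theorem isoBot_hom_inv_app (d : sq.Lift) (b : ℬ.obj) :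
    d.isoBot.hom.toNatTrans.app b ≫ d.isoBot.inv.toNatTrans.app b = 𝟙 _ :=
  congrArg (fun α => α.toNatTrans.app b) d.isoBot.hom_inv_id

theorem isoBot_inv_hom_app (d : sq.Lift) (b : ℬ.obj) :
    d.isoBot.inv.toNatTrans.app b ≫ d.isoBot.hom.toNatTrans.app b = 𝟙 _ :=
  congrArg (fun α => α.toNatTrans.app b) d.isoBot.inv_hom_id

theorem aux2 {D : Type*} [Category D] {X0 X1 X2 X3 X4 : D} (a : X0 ⟶ X1) (a' : X1 ⟶ X0)
    (k1 : X1 ⟶ X2) (m : X2 ⟶ X3) (c : X0 ⟶ X4) (k2 : X4 ⟶ X3) (ha : a' ≫ a = 𝟙 _)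
    (h : (a ≫ k1) ≫ m = c ≫ k2) : (a' ≫ c) ≫ k2 = k1 ≫ m := by
  rw [Category.assoc, ← h, Category.assoc, ← Category.assoc, ha, Category.id_comp]

variable {d₁ d₂} (φ : liftL d₁ ⟶ liftL d₂)

theorem phi_w_bot_app (b : ℬ.obj) :
    (y.map (d₁.isoBot.hom.toNatTrans.app b) ≫ (d₁.fn.obj b).obj.iso.hom) ≫
      f.map (φ.hom.toNatTrans.app b) =
    y.map (d₂.isoBot.hom.toNatTrans.app b) ≫ (d₂.fn.obj b).obj.iso.hom :=
  congrArg (fun α => α.toNatTrans.app b) φ.w_bot

/-- components of the comparison morphism -/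
def thetaApp (b : ℬ.obj) : d₁.fn.obj b ⟶ d₂.fn.obj b :=
  ObjectProperty.homMk
    { fst := (theta1 d₁ d₂).toNatTrans.app b
      snd := φ.hom.toNatTrans.app b
      w := (congrArg (fun m => m ≫ (d₂.fn.obj b).obj.iso.hom)
          (y.toFunctor.map_comp (d₁.isoBot.inv.toNatTrans.app b)
            (d₂.isoBot.hom.toNatTrans.app b))).trans
        (aux2 (y.map (d₁.isoBot.hom.toNatTrans.app b)) (y.map (d₁.isoBot.inv.toNatTrans.app b))
          _ _ (y.map (d₂.isoBot.hom.toNatTrans.app b)) _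
          ((y.toFunctor.map_comp _ _).symm.trans
            ((congrArg (fun m => y.map m) (isoBot_inv_hom_app d₁ b)).trans
              (y.toFunctor.map_id _)))
          (phi_w_bot_app φ b)) }

/-- the comparison 2-morphism -/
def thetaHom : d₁.fn ⟶ d₂.fn where
  toNatTrans :=
    { app := thetaApp φ
      naturality := fun b b' g => by
        apply ObjectProperty.hom_ext
        apply Limits.CategoricalPullback.hom_ext
        · exact (theta1 d₁ d₂).toNatTrans.naturality g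
        · exact φ.hom.toNatTrans.naturality g }
  isHomLift' := fun b => fp_isHomLift _ _ ((theta1 d₁ d₂).isHomLift' b)

theorem phi_w_top_app (a : 𝒜.obj) :
    φ.hom.toNatTrans.app (j.obj a) ≫ (d₂.isoTop.hom.toNatTrans.app a).hom.snd =
      (d₁.isoTop.hom.toNatTrans.app a).hom.snd :=
  congrArg (fun α => α.toNatTrans.app a) φ.w_top

theorem aux3 {D : Type*} [Category D] {X0 X1 X2 X3 : D} (a1 : X0 ⟶ X1) (a1' : X1 ⟶ X0)
    (t1 : X1 ⟶ X3) (a2 : X0 ⟶ X2) (t2 : X2 ⟶ X3) (s : X0 ⟶ X3) (ha : a1' ≫ a1 = 𝟙 _)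
    (h1 : a1 ≫ t1 = s) (h2 : a2 ≫ t2 = s) : (a1' ≫ a2) ≫ t2 = t1 := by
  rw [Category.assoc, h2, ← h1, ← Category.assoc, ha, Category.id_comp]

/-- the comparison morphism of lifts -/
def thetaLiftHom : d₁ ⟶ d₂ where
  hom := thetaHom φ
  w_top := by
    apply BasedNatTrans.homCategory.ext
    ext a
    · exact aux3 _ _ _ _ _ _ (isoBot_inv_hom_app d₁ (j.obj a)) (w_app d₁ a) (w_app d₂ a)
    · exact phi_w_top_app φ a
  w_bot := by
    apply BasedNatTrans.homCategory.ext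
    ext b
    change d₁.isoBot.hom.toNatTrans.app b ≫
      (d₁.isoBot.inv.toNatTrans.app b ≫ d₂.isoBot.hom.toNatTrans.app b) =
      d₂.isoBot.hom.toNatTrans.app b
    rw [← Category.assoc, isoBot_hom_inv_app, Category.id_comp]

theorem theta_w_bot_app (θ : d₁ ⟶ d₂) (b : ℬ.obj) :
    d₁.isoBot.hom.toNatTrans.app b ≫ (θ.hom.toNatTrans.app b).hom.fst =
      d₂.isoBot.hom.toNatTrans.app b :=
  congrArg (fun α => α.toNatTrans.app b) θ.w_bot

theorem aux4 {D : Type*} [Category D] {X0 X1 X2 X3 X4 : D} (a1 : X0 ⟶ X1) (k1 : X1 ⟶ X3)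
    (m : X3 ⟶ X4) (t : X1 ⟶ X2) (k2 : X2 ⟶ X4) (a2 : X0 ⟶ X2) (h1 : t ≫ k2 = k1 ≫ m)
    (h2 : a1 ≫ t = a2) : (a1 ≫ k1) ≫ m = a2 ≫ k2 := by
  rw [Category.assoc, ← h1, ← Category.assoc, h2]

/-- a morphism of lifts of the original square gives one of the lifts of the square against `f` -/
def homL (θ : d₁ ⟶ d₂) : liftL d₁ ⟶ liftL d₂ where
  hom := BasedCategory.whiskerRight θ.hom (fpSnd y f)
  w_top := by
    have := congrArg (fun α => BasedCategory.whiskerRight α (fpSnd y f)) θ.w_top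
    simp only [whiskerRight_comp'] at this
    rw [← whiskerLeft_whiskerRight] at this
    exact this
  w_bot := by
    apply BasedNatTrans.homCategory.ext
    ext b
    exact aux4 _ _ _ _ _ _ (θ.hom.toNatTrans.app b).hom.w
      ((y.toFunctor.map_comp _ _).symm.trans
        (congrArg (fun m => y.map m) (theta_w_bot_app θ b)))

theorem aux5 {D : Type*} [Category D] {X0 X1 X2 : D} (a1 : X0 ⟶ X1) (a1' : X1 ⟶ X0)
    (t : X1 ⟶ X2) (a2 : X0 ⟶ X2) (ha : a1' ≫ a1 = 𝟙 _) (h : a1 ≫ t = a2) : t = a1' ≫ a2 := by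
  rw [← h, ← Category.assoc, ha, Category.id_comp]

theorem eq_thetaLiftHom (θ : d₁ ⟶ d₂) (h : homL θ = φ) : θ = thetaLiftHom φ := by
  apply Sq.Lift.hom_ext
  apply BasedNatTrans.homCategory.ext
  ext b
  · exact aux5 _ _ _ _ (isoBot_inv_hom_app d₁ b) (theta_w_bot_app θ b)
  · exact congrArg (fun (ψ : liftL d₁ ⟶ liftL d₂) => ψ.hom.toNatTrans.app b) h

theorem uniqLift_of (h : (sqF j y f sq).UniqLift) : sq.UniqLift := by
  intro d₁ d₂
  obtain ⟨u⟩ := h (liftL d₁) (liftL d₂)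
  exact ⟨⟨⟨thetaLiftHom u.default⟩, fun θ => eq_thetaLiftHom u.default θ (u.uniq _)⟩⟩

end Uniq

theorem liftsUniquely_fpFst (hf : LiftsUniquely j f) : LiftsUniquely j (fpFst y f) := by
  intro sq
  exact ⟨hasLift_of (hf (sqF j y f sq)).1, uniqLift_of (hf (sqF j y f sq)).2⟩

end Groth.Agent.Lib.H9LiftSqFp
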