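import Mathlib
import Groth.Agent.Lib.Helper26StalkLim

set_option autoImplicit false
universe u
open CategoryTheory CategoryTheory.Limits AlgebraicGeometry TopologicalSpace Opposite

namespace Groth.Agent.Lib.H9Lim2

variable {T : Scheme.{u}}

section chain

variable (c : Set T.IdealSheafData)

/-- the diagram of closed subschemes indexed by a set of ideal sheaves -/
noncomputable def chainDiagram : (↥c)ᵒᵖ ⥤ Over T :=
  (Subtype.mono_coe c).functor.op ⋙ Scheme.IdealSheafData.subschemeFunctor T

/-- the cone over the inclusion with point the supremum -/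
noncomputable def chainCone₀ : Cone (Subtype.mono_coe c).functor.op where
  pt := op (sSup c)
  π :=
    { app := fun i => (homOfLE (le_sSup i.unop.2)).op
      naturality := fun _ _ _ => Subsingleton.elim _ _ }

/-- the cone with point the closed subscheme of the supremum -/
noncomputable def chainCone : Cone (chainDiagram c) :=
  (Scheme.IdealSheafData.subschemeFunctor T).mapCone (chainCone₀ c)

lemma chainCone_pt_hom : (chainCone c).pt.hom = (sSup c).subschemeι := rfl

lemma le_ker_of_cone (s : Cone (chainDiagram c)) : sSup c ≤ s.pt.hom.ker := by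
  apply sSup_le
  intro I hI
  have h1 : (s.π.app (op ⟨I, hI⟩)).left ≫ (I.subschemeι : I.subscheme ⟶ T) = s.pt.hom :=
    Over.w (s.π.app (op ⟨I, hI⟩))
  rw [← h1]
  refine le_trans ?_ (Scheme.Hom.le_ker_comp _ _)
  exact (Scheme.IdealSheafData.ker_subschemeι I).ge

/-- the lift of a cone to the closed subscheme of the supremum -/
noncomputable def liftHom (s : Cone (chainDiagram c)) : s.pt.left ⟶ (sSup c).subscheme :=
  IsClosedImmersion.lift ((sSup c).subschemeι : (sSup c).subscheme ⟶ T) s.pt.hom
    ((Scheme.IdealSheafData.ker_subschemeι (sSup c)).le.trans (le_ker_of_cone c s))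

lemma liftHom_fac (s : Cone (chainDiagram c)) :
    liftHom c s ≫ ((sSup c).subschemeι : (sSup c).subscheme ⟶ T) = s.pt.hom :=
  IsClosedImmersion.lift_fac _ _ _

/-- the closed subscheme of the supremum is the limit of the closed subschemes -/
noncomputable def isLimitChainCone : IsLimit (chainCone c) where
  lift s := Over.homMk (liftHom c s) (liftHom_fac c s)
  fac s j := by
    ext1
    have h1 : (s.π.app j).left ≫ (j.unop.1.subschemeι : j.unop.1.subscheme ⟶ T) = s.pt.hom :=
      Over.w (s.π.app j)
    have h2 : (liftHom c s ≫ Scheme.IdealSheafData.inclusion (le_sSup j.unop.2)) ≫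
        (j.unop.1.subschemeι : j.unop.1.subscheme ⟶ T) =
        (s.π.app j).left ≫ (j.unop.1.subschemeι : j.unop.1.subscheme ⟶ T) := by
      rw [Category.assoc, Scheme.IdealSheafData.inclusion_subschemeι, liftHom_fac, h1]
    exact (cancel_mono (j.unop.1.subschemeι : j.unop.1.subscheme ⟶ T)).mp h2
  uniq s m hm := by
    ext1
    have h2 : m.left ≫ ((sSup c).subschemeι : (sSup c).subscheme ⟶ T) =
        liftHom c s ≫ ((sSup c).subschemeι : (sSup c).subscheme ⟶ T) := by
      rw [liftHom_fac]
      exact Over.w m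
    exact (cancel_mono ((sSup c).subschemeι : (sSup c).subscheme ⟶ T)).mp h2

end chain




variable (T : Scheme.{u}) [CompactSpace T] [QuasiSeparatedSpace T]
  (P : ∀ ⦃T' : Scheme.{u}⦄, (T' ⟶ T) → Prop)

/-- ideal sheaves whose closed subscheme is nonempty and satisfies `P` -/
def Good (I : T.IdealSheafData) : Prop := Nonempty I.subscheme ∧ P I.subschemeι

instance isClosedImmersion_inclusion {I J : T.IdealSheafData} (h : I ≤ J) :
    IsClosedImmersion (Scheme.IdealSheafData.inclusion h) := by
  have : IsClosedImmersion (Scheme.IdealSheafData.inclusion h ≫ I.subschemeι) := by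
    rw [Scheme.IdealSheafData.inclusion_subschemeι]; infer_instance
  exact IsClosedImmersion.of_comp_isClosedImmersion _ I.subschemeι

instance compactSpace_subscheme (I : T.IdealSheafData) : CompactSpace I.subscheme :=
  QuasiCompact.compactSpace_of_compactSpace I.subschemeι

instance quasiSeparatedSpace_subscheme (I : T.IdealSheafData) : QuasiSeparatedSpace I.subscheme :=
  quasiSeparatedSpace_of_quasiSeparated I.subschemeι

lemma nonempty_subscheme_iff (I : T.IdealSheafData) :
    Nonempty I.subscheme ↔ (I.support : Set T).Nonempty := by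
  rw [← Scheme.IdealSheafData.range_subschemeι, Set.range_nonempty_iff_nonempty]

variable {T P}

lemma good_sSup
    (h2 : ∀ ⦃I : Type u⦄ [SmallCategory I] [IsCofiltered I] (D : I ⥤ Over T) (c : Limits.Cone D)
      (_ : Limits.IsLimit c),
      (∀ (i j : I) (m : i ⟶ j), IsAffineHom (D.map m).left) →
      (∀ i, CompactSpace (D.obj i).left ∧ QuasiSeparatedSpace (D.obj i).left) →
      (∀ i, P (D.obj i).hom) → P c.pt.hom)
    (c : Set T.IdealSheafData) (hc : IsChain (· ≤ ·) c) (hne : c.Nonempty)
    (hg : ∀ I ∈ c, Good T P I) : Good T P (sSup c) := by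
  haveI : Nonempty ↥c := hne.to_subtype
  haveI : IsDirected ↥c (· ≤ ·) := by
    refine ⟨fun a b => ?_⟩
    rcases hc.total a.2 b.2 with h | h
    · exact ⟨b, h, le_rfl⟩
    · exact ⟨a, le_rfl, h⟩
  refine ⟨?_, ?_⟩
  · rw [nonempty_subscheme_iff]
    have h3 := IsCompact.nonempty_iInter_of_directed_nonempty_isCompact_isClosed
      (fun i : ↥c => ((i.1.support : Closeds T) : Set T)) ?_ ?_ ?_ ?_
    · obtain ⟨x, hx⟩ := h3
      refine ⟨x, ?_⟩
      rw [Scheme.IdealSheafData.support_sSup]
      simp only [SetLike.mem_coe, Closeds.mem_iInf]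
      intro I hI
      exact Set.mem_iInter.mp hx ⟨I, hI⟩
    · intro a b
      rcases hc.total a.2 b.2 with h | h
      · exact ⟨b, Scheme.IdealSheafData.support_antitone h, subset_rfl⟩
      · exact ⟨a, subset_rfl, Scheme.IdealSheafData.support_antitone h⟩
    · intro i
      exact (nonempty_subscheme_iff T i.1).mp (hg i.1 i.2).1
    · intro i
      exact i.1.support.isClosed.isCompact
    · intro i
      exact i.1.support.isClosed
  · haveI : IsFiltered ↥c := isFiltered_of_directed_le_nonempty ↥c
    have := h2 (chainDiagram c) (chainCone c) (isLimitChainCone c) ?_ ?_ ?_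
    · exact this
    · intro i j m
      show IsAffineHom (Scheme.IdealSheafData.inclusion _)
      infer_instance
    · intro i
      exact ⟨compactSpace_subscheme T i.unop.1, quasiSeparatedSpace_subscheme T i.unop.1⟩
    · intro i
      exact (hg i.unop.1 i.unop.2).2

theorem exists_maximal_good [Nonempty T]
    (h1 : ∀ ⦃T' T'' : Scheme.{u}⦄ (a : T' ⟶ T) (t : T'' ⟶ T') [IsClosedImmersion t] [Surjective t]
      [CompactSpace T'] [QuasiSeparatedSpace T'] [CompactSpace T''] [QuasiSeparatedSpace T''],
      P (t ≫ a) ↔ P a)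
    (h2 : ∀ ⦃I : Type u⦄ [SmallCategory I] [IsCofiltered I] (D : I ⥤ Over T) (c : Limits.Cone D)
      (_ : Limits.IsLimit c),
      (∀ (i j : I) (m : i ⟶ j), IsAffineHom (D.map m).left) →
      (∀ i, CompactSpace (D.obj i).left ∧ QuasiSeparatedSpace (D.obj i).left) →
      (∀ i, P (D.obj i).hom) → P c.pt.hom)
    (hT : P (𝟙 T)) :
    ∃ m : T.IdealSheafData, Good T P m ∧ ∀ J, Good T P J → m ≤ J → J = m := by
  have hbot : Good T P ⊥ := by
    refine ⟨?_, ?_⟩
    · rw [nonempty_subscheme_iff]
      rw [Scheme.IdealSheafData.support_bot]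
      exact Set.univ_nonempty
    · have := h1 (𝟙 T) (Scheme.IdealSheafData.subschemeι (⊥ : T.IdealSheafData))
      rw [Category.comp_id] at this
      exact this.mpr hT
  obtain ⟨m, -, hm⟩ := zorn_le_nonempty₀ {I : T.IdealSheafData | Good T P I}
    (fun c hcs hc y hy => ⟨sSup c, good_sSup h2 c hc ⟨y, hy⟩ hcs, fun z hz => le_sSup hz⟩) ⊥ hbot
  exact ⟨m, hm.prop, fun J hJ hmJ => le_antisymm (hm.le_of_ge hJ hmJ) hmJ⟩




variable {T : Scheme.{u}} [CompactSpace T] [QuasiSeparatedSpace T]
  {P : ∀ ⦃T' : Scheme.{u}⦄, (T' ⟶ T) → Prop}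

theorem P_opens_of_maximal
    (h1 : ∀ ⦃T' T'' : Scheme.{u}⦄ (a : T' ⟶ T) (t : T'' ⟶ T') [IsClosedImmersion t] [Surjective t]
      [CompactSpace T'] [QuasiSeparatedSpace T'] [CompactSpace T''] [QuasiSeparatedSpace T''],
      P (t ≫ a) ↔ P a)
    (h3 : ∀ ⦃T' Z V : Scheme.{u}⦄ (a : T' ⟶ T) [CompactSpace T'] [QuasiSeparatedSpace T']
      (i : Z ⟶ T') [IsClosedImmersion i] (j : V ⟶ T') [IsOpenImmersion j] [CompactSpace V],
      Set.range j = (Set.range i)ᶜ → P a → P (j ≫ a) ∨ P (i ≫ a))
    (m : T.IdealSheafData) (hm : Good T P m) (hmax : ∀ J, Good T P J → m ≤ J → J = m)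
    (V : m.subscheme.Opens) (hVc : IsCompact (V : Set m.subscheme)) (hVne : ∃ x, x ∈ V) :
    P (V.ι ≫ m.subschemeι) := by
  haveI : CompactSpace V.toScheme := isCompact_iff_compactSpace.mp hVc
  haveI : QuasiSeparatedSpace V.toScheme := quasiSeparatedSpace_of_quasiSeparated V.ι
  by_cases hV : V = ⊤
  · subst hV
    haveI : IsIso (⊤ : m.subscheme.Opens).ι := inferInstanceAs (IsIso m.subscheme.topIso.hom)
    exact (h1 m.subschemeι (⊤ : m.subscheme.Opens).ι).mpr hm.2
  · let C : Closeds m.subscheme := ⟨(V : Set m.subscheme)ᶜ, V.isOpen.isClosed_compl⟩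
    let I' : m.subscheme.IdealSheafData := Scheme.IdealSheafData.vanishingIdeal C
    let i : I'.subscheme ⟶ m.subscheme := I'.subschemeι
    have hri : Set.range i = (V : Set m.subscheme)ᶜ := by
      rw [Scheme.IdealSheafData.range_subschemeι,
        Scheme.IdealSheafData.coe_support_vanishingIdeal]
      rfl
    have hCne : ((V : Set m.subscheme)ᶜ).Nonempty := by
      rw [Set.nonempty_compl]
      intro h
      apply hV
      ext x
      simp [h]
    rcases h3 m.subschemeι i V.ι (by rw [Scheme.Opens.range_ι, hri, compl_compl]) hm.2 with h | h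
    · exact h
    · exfalso
      let J : T.IdealSheafData := (i ≫ m.subschemeι).ker
      have hmJ : m ≤ J := by
        refine le_trans ?_ (Scheme.Hom.le_ker_comp i m.subschemeι)
        exact (Scheme.IdealSheafData.ker_subschemeι m).ge
      have hne' : Nonempty I'.subscheme := by
        obtain ⟨x, hx⟩ := hCne
        rw [← hri] at hx
        obtain ⟨y, -⟩ := hx
        exact ⟨y⟩
      have hJ : Good T P J := by
        refine ⟨?_, ?_⟩
        · obtain ⟨y⟩ := hne'
          exact ⟨(i ≫ m.subschemeι).toImage y⟩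
        · have h4 := h1 J.subschemeι (i ≫ m.subschemeι).toImage
          rw [Scheme.Hom.toImage_imageι] at h4
          exact h4.mp h
      have hJm : J = m := hmax J hJ hmJ
      have h5 : closure (Set.range (i ≫ m.subschemeι)) = Set.range m.subschemeι := by
        rw [← Scheme.Hom.support_ker, Scheme.IdealSheafData.range_subschemeι]
        show ((J.support : Closeds T) : Set T) = _
        rw [hJm]
      have h6 : Set.range (i ≫ m.subschemeι) = m.subschemeι '' (Set.range i) := by
        rw [Scheme.Hom.comp_base, TopCat.coe_comp, Set.range_comp]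
      have h7 : IsClosed (Set.range (i ≫ m.subschemeι)) :=
        (i ≫ m.subschemeι).isClosedEmbedding.isClosed_range
      rw [h7.closure_eq, h6, hri, ← Set.image_univ] at h5
      have h8 := m.subschemeι.isClosedEmbedding.injective.image_injective h5
      obtain ⟨x, hx⟩ := hVne
      have : x ∈ (V : Set m.subscheme)ᶜ := by rw [h8]; trivial
      exact this hx



open Groth.Agent.Lib.Helper26.StalkLim

/-- a nonempty scheme has a point without proper generizations -/
theorem exists_minimal_point (Z : Scheme.{u}) [Nonempty Z] :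
    ∃ η : Z, ∀ y : Z, y ⤳ η → y = η := by
  obtain ⟨z⟩ := ‹Nonempty Z›
  obtain ⟨η, hη⟩ := QuasiSober.sober (isIrreducible_irreducibleComponent (x := z))
    isClosed_irreducibleComponent
  refine ⟨η, fun y hy => ?_⟩
  have h1 : closure {η} ⊆ closure {y} := specializes_iff_closure_subset.mp hy
  have h2 : closure ({y} : Set Z) = irreducibleComponent z := by
    refine eq_irreducibleComponent isIrreducible_singleton.closure.isPreirreducible ?_
    rw [← hη.def]
    exact h1
  have h3 : closure ({y} : Set Z) = closure {η} := by rw [h2, hη.def]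
  exact ((inseparable_iff_closure_eq).mpr h3).eq

section lim

variable {Z T : Scheme.{u}} (ι : Z ⟶ T) (η : Z)

/-- the diagram of affine open neighbourhoods of `η`, over `T` -/
noncomputable def overDiagram : (AffNhd η)ᵒᵖ ⥤ Over T where
  obj i := Over.mk (toX η i ≫ ι)
  map {i j} f := Over.homMk ((specDiagram η).map f) (by
    show (specDiagram η).map f ≫ toX η j ≫ ι = toX η i ≫ ι
    rw [map_toX_assoc])
  map_id i := by
    ext1
    exact (specDiagram η).map_id i
  map_comp f g := by
    ext1
    exact (specDiagram η).map_comp f g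

/-- the cone with point `Spec 𝒪_{Z,η}` -/
noncomputable def overCone : Cone (overDiagram ι η) where
  pt := Over.mk (Z.fromSpecStalk η ≫ ι)
  π :=
    { app := fun i => Over.homMk ((specCone η).π.app i) (by
        show (specCone η).π.app i ≫ toX η i ≫ ι = Z.fromSpecStalk η ≫ ι
        exact π_toX_assoc η i ι)
      naturality := fun i j f => by
        ext1
        exact (specCone η).π.naturality f }

noncomputable def isLimitOverCone : IsLimit (overCone ι η) := by
  haveI : IsFiltered (AffNhd η) := isFiltered_of_directed_le_nonempty _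
  haveI : IsConnected (AffNhd η)ᵒᵖ := IsCofiltered.isConnected _
  refine isLimitOfReflects (Over.forget T) ?_
  exact specIsLimit η

end lim



open Groth.Agent.Lib.Helper26.StalkLim

theorem main (T : Scheme.{u}) [CompactSpace T] [QuasiSeparatedSpace T]
    [Nonempty T] (P : ∀ ⦃T' : Scheme.{u}⦄, (T' ⟶ T) → Prop)
    (h1 : ∀ ⦃T' T'' : Scheme.{u}⦄ (a : T' ⟶ T) (t : T'' ⟶ T') [IsClosedImmersion t] [Surjective t]
      [CompactSpace T'] [QuasiSeparatedSpace T'] [CompactSpace T''] [QuasiSeparatedSpace T''],
      P (t ≫ a) ↔ P a)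
    (h2 : ∀ ⦃I : Type u⦄ [SmallCategory I] [IsCofiltered I] (D : I ⥤ Over T) (c : Limits.Cone D)
      (_ : Limits.IsLimit c),
      (∀ (i j : I) (m : i ⟶ j), IsAffineHom (D.map m).left) →
      (∀ i, CompactSpace (D.obj i).left ∧ QuasiSeparatedSpace (D.obj i).left) →
      (∀ i, P (D.obj i).hom) → P c.pt.hom)
    (h3 : ∀ ⦃T' Z V : Scheme.{u}⦄ (a : T' ⟶ T) [CompactSpace T'] [QuasiSeparatedSpace T']
      (i : Z ⟶ T') [IsClosedImmersion i] (j : V ⟶ T') [IsOpenImmersion j] [CompactSpace V],
      Set.range j = (Set.range i)ᶜ → P a → P (j ≫ a) ∨ P (i ≫ a))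
    (hT : P (𝟙 T)) :
    ∃ (K : Type u) (_ : Field K) (t : Spec (CommRingCat.of K) ⟶ T), P t := by
  obtain ⟨m, hm, hmax⟩ := exists_maximal_good h1 h2 hT
  haveI : Nonempty m.subscheme := hm.1
  obtain ⟨η, hη⟩ := exists_minimal_point m.subscheme
  have hstalk : P (m.subscheme.fromSpecStalk η ≫ m.subschemeι) := by
    haveI : IsFiltered (AffNhd η) := isFiltered_of_directed_le_nonempty _
    have := h2 (overDiagram m.subschemeι η) (overCone m.subschemeι η)
      (isLimitOverCone m.subschemeι η) ?_ ?_ ?_
    · exact this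
    · intro i j f
      show IsAffineHom ((specDiagram η).map f)
      infer_instance
    · intro i
      show CompactSpace ((specDiagram η).obj i) ∧ QuasiSeparatedSpace ((specDiagram η).obj i)
      exact ⟨inferInstance, inferInstance⟩
    · intro i
      have hU := i.unop.isAffine
      have hP := P_opens_of_maximal h1 h3 m hm hmax i.unop.U hU.isCompact ⟨η, i.unop.mem⟩
      show P (toX η i ≫ m.subschemeι)
      have hx : toX η i ≫ m.subschemeι = hU.isoSpec.inv ≫ i.unop.U.ι ≫ m.subschemeι :=
        Category.assoc _ _ _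
      rw [hx]
      haveI : CompactSpace i.unop.U.toScheme := isCompact_iff_compactSpace.mp hU.isCompact
      haveI : QuasiSeparatedSpace i.unop.U.toScheme :=
        quasiSeparatedSpace_of_quasiSeparated i.unop.U.ι
      exact (h1 (i.unop.U.ι ≫ m.subschemeι) hU.isoSpec.inv).mpr hP
  let R : CommRingCat.{u} := m.subscheme.presheaf.stalk η
  let r : Spec (m.subscheme.residueField η) ⟶ Spec R := Spec.map (m.subscheme.residue η)
  have hsub : ∀ p q : Spec R, p = q := by
    intro p q
    apply (m.subscheme.fromSpecStalk η).isEmbedding.injective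
    have hp : m.subscheme.fromSpecStalk η p ∈ Set.range (m.subscheme.fromSpecStalk η) := ⟨p, rfl⟩
    have hq : m.subscheme.fromSpecStalk η q ∈ Set.range (m.subscheme.fromSpecStalk η) := ⟨q, rfl⟩
    rw [Scheme.range_fromSpecStalk] at hp hq
    rw [hη _ hp, hη _ hq]
  haveI : Surjective r := by
    refine ⟨fun p => ?_⟩
    obtain ⟨q⟩ : Nonempty (Spec (m.subscheme.residueField η)) := inferInstance
    exact ⟨q, hsub _ _⟩
  exact ⟨m.subscheme.residueField η, inferInstance,
    r ≫ m.subscheme.fromSpecStalk η ≫ m.subschemeι, (h1 _ r).mpr hstalk⟩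


end Groth.Agent.Lib.H9Lim2
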