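import Mathlib

set_option autoImplicit false
universe u
open CategoryTheory CategoryTheory.Limits

namespace Groth.Agent.Lib.H9LocFL

universe v v' u₁ u₂
variable {C : Type u₁} [Category.{v} C] {D : Type u₂} [Category.{v'} D]
variable (L : C ⥤ D) (W : MorphismProperty C) [L.IsLocalization W] [W.HasRightCalculusOfFractions]

include W in
/-- pullbacks in a localization with right calculus of fractions, from pullbacks of images of
cospans. -/
theorem hasPullbacks_of_map
    (h : ∀ {A B P : C} (a : A ⟶ P) (b : B ⟶ P), HasPullback (L.map a) (L.map b)) :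
    HasPullbacks D := by
  haveI : L.EssSurj := Localization.essSurj L W
  suffices hh : ∀ {A' B' P' : D} {α : A' ⟶ P'} {β : B' ⟶ P'}, HasLimit (cospan α β) from
    @hasPullbacks_of_hasLimit_cospan D _ hh
  intro A' B' P' α β
  let eA : L.obj (L.objPreimage A') ≅ A' := L.objObjPreimageIso A'
  let eB : L.obj (L.objPreimage B') ≅ B' := L.objObjPreimageIso B'
  let eP : L.obj (L.objPreimage P') ≅ P' := L.objObjPreimageIso P'
  obtain ⟨φ, hφ⟩ := Localization.exists_rightFraction L W (eA.hom ≫ α ≫ eP.inv)
  obtain ⟨ψ, hψ⟩ := Localization.exists_rightFraction L W (eB.hom ≫ β ≫ eP.inv)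
  haveI : IsIso (L.map φ.s) := Localization.inverts L W _ φ.hs
  haveI : IsIso (L.map ψ.s) := Localization.inverts L W _ ψ.hs
  have e1 : L.map φ.s ≫ eA.hom ≫ α ≫ eP.inv = L.map φ.f := by
    rw [hφ]; exact φ.map_s_comp_map L _
  have e2 : L.map ψ.s ≫ eB.hom ≫ β ≫ eP.inv = L.map ψ.f := by
    rw [hψ]; exact ψ.map_s_comp_map L _
  haveI := h φ.f ψ.f
  have iso : cospan (L.map φ.f) (L.map ψ.f) ≅ cospan α β := by
    refine cospanExt (asIso (L.map φ.s) ≪≫ eA) (asIso (L.map ψ.s) ≪≫ eB) eP ?_ ?_
    · rw [← e1]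
      simp
    · rw [← e2]
      simp
  exact hasLimit_of_iso iso

include L in
/-- a terminal object in `C` stays terminal in a localization when `W` contains the isomorphisms
between terminal objects. -/
theorem hasTerminal_of_map [HasTerminal C] [W.RespectsIso] :
    HasTerminal D := by
  haveI : W.IsStableUnderProductsOfShape PEmpty.{1} := by
    constructor
    intro X₁ X₂ c₁ c₂ h₁ h₂ f hf φ hφ
    have t₁ : IsTerminal c₁.pt := by
      refine IsTerminal.ofUniqueHom (fun Y => h₁.lift ⟨Y, { app := fun j => j.as.elim }⟩) ?_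
      intro Y m
      exact h₁.hom_ext (fun j => j.as.elim)
    have t₂ : IsTerminal c₂.pt := by
      refine IsTerminal.ofUniqueHom (fun Y => h₂.lift ⟨Y, { app := fun j => j.as.elim }⟩) ?_
      intro Y m
      exact h₂.hom_ext (fun j => j.as.elim)
    haveI : IsIso φ := ⟨t₁.from _, t₁.hom_ext _ _, t₂.hom_ext _ _⟩
    exact W.of_isIso φ
  exact Localization.hasProductsOfShape L W PEmpty.{1}


end Groth.Agent.Lib.H9LocFL
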