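import Mathlib

set_option autoImplicit false
universe u
open CategoryTheory CategoryTheory.Limits

namespace Groth.Agent.Lib.H9LocPB

universe v v' u₁ u₂
variable {C : Type u₁} [Category.{v} C] {D : Type u₂} [Category.{v'} D]
variable (L : C ⥤ D) (W : MorphismProperty C) [L.IsLocalization W] [W.HasRightCalculusOfFractions]
variable {Yt T X P : C} (pT : Yt ⟶ T) (pX : Yt ⟶ X) (g : T ⟶ P) (f : X ⟶ P)

include W in
theorem isIso_map_of_W {A B : C} (s : A ⟶ B) (hs : W s) : IsIso (L.map s) :=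
  Localization.inverts L W s hs

theorem exists_lift
    (hex : ∀ (Z : C) (a : Z ⟶ T) (b : Z ⟶ X), a ≫ g = b ≫ f →
      ∃ (Z' : C) (s : Z' ⟶ Z) (_ : W s) (c : Z' ⟶ Yt), c ≫ pT = s ≫ a ∧ c ≫ pX = s ≫ b)
    (Z : C) (α : L.obj Z ⟶ L.obj T) (β : L.obj Z ⟶ L.obj X)
    (h : α ≫ L.map g = β ≫ L.map f) :
    ∃ γ : L.obj Z ⟶ L.obj Yt, γ ≫ L.map pT = α ∧ γ ≫ L.map pX = β := by
  obtain ⟨φ, hφ⟩ := Localization.exists_rightFraction L W α
  haveI : IsIso (L.map φ.s) := isIso_map_of_W L W _ φ.hs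
  have e1 : L.map φ.s ≫ α = L.map φ.f := by
    rw [hφ]; exact φ.map_s_comp_map L _
  obtain ⟨ψ, hψ⟩ := Localization.exists_rightFraction L W (L.map φ.s ≫ β)
  haveI : IsIso (L.map ψ.s) := isIso_map_of_W L W _ ψ.hs
  have e2 : L.map ψ.s ≫ L.map φ.s ≫ β = L.map ψ.f := by
    rw [hψ]; exact ψ.map_s_comp_map L _
  have e3 : L.map ((ψ.s ≫ φ.f) ≫ g) = L.map (ψ.f ≫ f) := by
    rw [L.map_comp, L.map_comp, L.map_comp, ← e1, ← e2]
    simp only [Category.assoc]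
    rw [h]
  obtain ⟨Z₃, s₃, hs₃, e4⟩ := (MorphismProperty.map_eq_iff_precomp L W _ _).1 e3
  obtain ⟨Z₄, s₄, hs₄, c, hc1, hc2⟩ := hex Z₃ (s₃ ≫ ψ.s ≫ φ.f) (s₃ ≫ ψ.f) (by
    simp only [Category.assoc] at e4 ⊢
    exact e4)
  haveI : IsIso (L.map s₃) := isIso_map_of_W L W _ hs₃
  haveI : IsIso (L.map s₄) := isIso_map_of_W L W _ hs₄
  let t := s₄ ≫ s₃ ≫ ψ.s ≫ φ.s
  haveI : IsIso (L.map t) := by
    simp only [t, L.map_comp]
    infer_instance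
  refine ⟨inv (L.map t) ≫ L.map c, ?_, ?_⟩
  · rw [Category.assoc, ← L.map_comp, hc1, IsIso.inv_comp_eq]
    simp only [t, L.map_comp, Category.assoc]
    rw [e1]
  · rw [Category.assoc, ← L.map_comp, hc2, IsIso.inv_comp_eq]
    simp only [t, L.map_comp, Category.assoc]
    rw [e2]

include W in
theorem lift_unique
    (huniq : ∀ (Z : C) (c₁ c₂ : Z ⟶ Yt), c₁ ≫ pT = c₂ ≫ pT → c₁ ≫ pX = c₂ ≫ pX → c₁ = c₂)
    (Z : C) (γ₁ γ₂ : L.obj Z ⟶ L.obj Yt)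
    (h1 : γ₁ ≫ L.map pT = γ₂ ≫ L.map pT) (h2 : γ₁ ≫ L.map pX = γ₂ ≫ L.map pX) : γ₁ = γ₂ := by
  obtain ⟨φ, hφ⟩ := Localization.exists_rightFraction L W γ₁
  haveI : IsIso (L.map φ.s) := isIso_map_of_W L W _ φ.hs
  have e1 : L.map φ.s ≫ γ₁ = L.map φ.f := by
    rw [hφ]; exact φ.map_s_comp_map L _
  obtain ⟨ψ, hψ⟩ := Localization.exists_rightFraction L W (L.map φ.s ≫ γ₂)
  haveI : IsIso (L.map ψ.s) := isIso_map_of_W L W _ ψ.hs
  have e2 : L.map ψ.s ≫ L.map φ.s ≫ γ₂ = L.map ψ.f := by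
    rw [hψ]; exact ψ.map_s_comp_map L _
  have e3 : L.map ((ψ.s ≫ φ.f) ≫ pT) = L.map (ψ.f ≫ pT) := by
    rw [L.map_comp, L.map_comp, L.map_comp, ← e1, ← e2]
    simp only [Category.assoc]
    rw [h1]
  obtain ⟨Z₃, s₃, hs₃, e4⟩ := (MorphismProperty.map_eq_iff_precomp L W _ _).1 e3
  have e5 : L.map ((s₃ ≫ ψ.s ≫ φ.f) ≫ pX) = L.map ((s₃ ≫ ψ.f) ≫ pX) := by
    simp only [L.map_comp, Category.assoc]
    rw [← e1, ← e2]
    simp only [Category.assoc]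
    rw [h2]
  obtain ⟨Z₄, s₄, hs₄, e6⟩ := (MorphismProperty.map_eq_iff_precomp L W _ _).1 e5
  have e7 : s₄ ≫ s₃ ≫ ψ.s ≫ φ.f = s₄ ≫ s₃ ≫ ψ.f := by
    apply huniq
    · simp only [Category.assoc] at e4 ⊢
      rw [e4]
    · simp only [Category.assoc] at e6 ⊢
      exact e6
  haveI : IsIso (L.map s₃) := isIso_map_of_W L W _ hs₃
  haveI : IsIso (L.map s₄) := isIso_map_of_W L W _ hs₄
  have e8 := congrArg L.map e7
  simp only [L.map_comp] at e8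
  rw [← e1, ← e2] at e8
  simp only [← Category.assoc] at e8
  exact (cancel_epi _).1 e8

theorem isPullback_of_core (w : pT ≫ g = pX ≫ f)
    (hex : ∀ (Z : C) (a : Z ⟶ T) (b : Z ⟶ X), a ≫ g = b ≫ f →
      ∃ (Z' : C) (s : Z' ⟶ Z) (_ : W s) (c : Z' ⟶ Yt), c ≫ pT = s ≫ a ∧ c ≫ pX = s ≫ b)
    (huniq : ∀ (Z : C) (c₁ c₂ : Z ⟶ Yt), c₁ ≫ pT = c₂ ≫ pT → c₁ ≫ pX = c₂ ≫ pX → c₁ = c₂) :
    IsPullback (L.map pT) (L.map pX) (L.map g) (L.map f) := by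
  haveI : L.EssSurj := Localization.essSurj L W
  refine ⟨⟨by rw [← L.map_comp, ← L.map_comp, w]⟩, ⟨?_⟩⟩
  refine PullbackCone.isLimitAux' _ (fun s => ?_)
  let Z := L.objPreimage s.pt
  let e : L.obj Z ≅ s.pt := L.objObjPreimageIso s.pt
  have hγ := exists_lift L W pT pX g f hex Z (e.hom ≫ s.fst) (e.hom ≫ s.snd) (by
    rw [Category.assoc, Category.assoc, s.condition])
  refine ⟨e.inv ≫ hγ.choose, ?_, ?_, ?_⟩
  · change (e.inv ≫ hγ.choose) ≫ L.map pT = s.fst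
    rw [Category.assoc, hγ.choose_spec.1, Iso.inv_hom_id_assoc]
  · change (e.inv ≫ hγ.choose) ≫ L.map pX = s.snd
    rw [Category.assoc, hγ.choose_spec.2, Iso.inv_hom_id_assoc]
  · have key : ∀ m' : s.pt ⟶ L.obj Yt, m' ≫ L.map pT = s.fst → m' ≫ L.map pX = s.snd →
        m' = e.inv ≫ hγ.choose := by
      intro m' hm1 hm2
      rw [← cancel_epi e.hom, Iso.hom_inv_id_assoc]
      apply lift_unique L W pT pX huniq Z
      · rw [Category.assoc, hm1, hγ.choose_spec.1]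
      · rw [Category.assoc, hm2, hγ.choose_spec.2]
    intro m hm1 hm2
    exact key m hm1 hm2


end Groth.Agent.Lib.H9LocPB
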