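import Mathlib
import Groth.Prelude.Def_Flat

/-! helper9: `topologicalKrullDim_eq_zero_of_discrete`, `localDim_eq_zero_of_discrete` (FlatMor.localDim of a discrete space is 0), `exists_component_map_subset` (continuous surjection onto quasi-sober space: every irreducible component of the target contains the image of one of the source). -/

set_option autoImplicit false
universe u

namespace Groth.Agent.Lib.H9LscC

open TopologicalSpace

theorem topologicalKrullDim_eq_zero_of_discrete (T : Type*) [TopologicalSpace T]
    [DiscreteTopology T] [Nonempty T] : topologicalKrullDim T = 0 := by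
  apply le_antisymm (topologicalKrullDim_zero_of_discreteTopology T)
  obtain ⟨t⟩ := ‹Nonempty T›
  haveI : Nonempty (IrreducibleCloseds T) :=
    ⟨⟨closure {t}, isIrreducible_singleton.closure, isClosed_closure⟩⟩
  exact Order.krullDim_nonneg

theorem localDim_eq_zero_of_discrete (T : Type*) [TopologicalSpace T] [DiscreteTopology T]
    (x : T) : FlatMor.localDim T x = 0 := by
  unfold FlatMor.localDim
  haveI : Nonempty {U : Opens T // x ∈ U} := ⟨⟨⊤, trivial⟩⟩
  have : ∀ U : {U : Opens T // x ∈ U}, topologicalKrullDim ((U.1 : Set T)) = 0 := by
    intro U
    haveI : Nonempty ↥(U.1 : Set T) := ⟨⟨x, U.2⟩⟩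
    exact topologicalKrullDim_eq_zero_of_discrete _
  simp only [this]
  exact ciInf_const

/-- images of irreducible components under a continuous surjection onto a quasi-sober space
cover every irreducible component: each irreducible component `Z` of the target contains the
image of an irreducible component of the source whose image is dense in `Z`. -/
theorem exists_component_map_subset {A B : Type*} [TopologicalSpace A] [TopologicalSpace B]
    [QuasiSober B] (p : A → B) (hp : Continuous p) (hsurj : Function.Surjective p)
    (Z : Set B) (hZ : Z ∈ irreducibleComponents B) :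
    ∃ W ∈ irreducibleComponents A, p '' W ⊆ Z := by
  have hZirr : IsIrreducible Z := hZ.1
  have hZcl : IsClosed Z := isClosed_of_mem_irreducibleComponents Z hZ
  obtain ⟨ζ, hζ⟩ := QuasiSober.sober hZirr hZcl
  obtain ⟨ξ, rfl⟩ := hsurj ζ
  refine ⟨irreducibleComponent ξ, irreducibleComponent_mem_irreducibleComponents ξ, ?_⟩
  have hirr : IsIrreducible (closure (p '' irreducibleComponent ξ)) :=
    (isIrreducible_irreducibleComponent.image p hp.continuousOn).closure
  have hsub : Z ⊆ closure (p '' irreducibleComponent ξ) := by
    rw [← hζ.def]
    apply closure_mono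
    rintro _ rfl
    exact ⟨ξ, mem_irreducibleComponent, rfl⟩
  have hle : closure (p '' irreducibleComponent ξ) ⊆ Z := hZ.2 hirr hsub
  exact subset_closure.trans hle

end Groth.Agent.Lib.H9LscC
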