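import Mathlib
import Groth.Agent.Lib.H9LscA
import Groth.Agent.Lib.H9LscC
import Groth.Agent.S3411
import Groth.Agent.S4938

/-! helper9: `closure_image_component` (components of the Stein factor dominate Y if those of X do), `main` (= S3414: lsc of the geometric number of connected components at a geometrically unibranch point; via S4938 (b)⇒(a) for the finite part of the Stein factorisation + S3411 + H9LscA.nGeomConnComp_eq). -/

set_option autoImplicit false
universe u

namespace Groth.Agent.Lib.H9LscD

open CategoryTheory CategoryTheory.Limits AlgebraicGeometry TopologicalSpace Opposite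
open Groth.Agent.Lib.H9SteinFib Groth.Agent.Lib.H9LscA Groth.Agent.Lib.H9LscC

variable {X Y : Scheme.{u}} [IsLocallyNoetherian Y] (f : X ⟶ Y) [IsProper f]

/-- every irreducible component of the Stein factor dominates `Y` if those of `X` do. -/
theorem closure_image_component
    (hdom : ∀ Z ∈ irreducibleComponents (X : Type u), closure (f.base '' Z) = Set.univ)
    (Z : Set f.normalization) (hZ : Z ∈ irreducibleComponents (f.normalization : Type u)) :
    closure (f.fromNormalization.base '' Z) = Set.univ := by
  obtain ⟨W, hW, hWZ⟩ := exists_component_map_subset f.toNormalization.base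
    f.toNormalization.continuous (surjective_toNormalization f) Z hZ
  rw [Set.eq_univ_iff_forall]
  intro y
  have h1 : y ∈ closure (f.base '' W) := by rw [hdom W hW]; trivial
  refine closure_mono ?_ h1
  rintro _ ⟨w, hw, rfl⟩
  refine ⟨f.toNormalization.base w, hWZ ⟨w, hw, rfl⟩, ?_⟩
  conv_rhs => rw [← f.toNormalization_fromNormalization]
  rfl

theorem main [IrreducibleSpace Y]
    (hdom : ∀ Z ∈ irreducibleComponents (X : Type u), closure (f.base '' Z) = Set.univ) (y₀ : Y)
    (hy : CAlg2.IsGeomUnibranch (Y.presheaf.stalk y₀)) :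
    ∃ V ∈ nhds y₀, ∀ z ∈ V, MoreMor.nGeomConnComp f y₀ ≤ MoreMor.nGeomConnComp f z := by
  haveI := isFinite_fromNormalization f
  set q := f.fromNormalization with hq
  have htfae := Groth.Agent.S4938.result q y₀ hy
  have hb : ∀ x : f.normalization, q.base x = y₀ →
      ∀ Y₀ ∈ irreducibleComponents (Y : Type u), y₀ ∈ Y₀ →
        ∃ Z ∈ irreducibleComponents (f.normalization : Type u), ∃ hx : x ∈ Z,
          closure (q.base '' Z) = Y₀ ∧
          ∀ η : Y, closure ({η} : Set Y) = Y₀ →
            FlatMor.localDim ↥(Z ∩ q.base ⁻¹' {q.base x}) ⟨x, ⟨hx, rfl⟩⟩ =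
              topologicalKrullDim ↥(Z ∩ q.base ⁻¹' {η}) := by
    intro x hx Y₀ hY₀ _
    have hY₀' : Y₀ = Set.univ := by
      rw [irreducibleComponents_eq_singleton] at hY₀
      exact hY₀
    subst hY₀'
    have hZ := irreducibleComponent_mem_irreducibleComponents x
    refine ⟨irreducibleComponent x, hZ, mem_irreducibleComponent, ?_, ?_⟩
    · exact closure_image_component f hdom _ hZ
    · intro η hη
      have hdisc : ∀ y : Y, DiscreteTopology ↥(irreducibleComponent x ∩ q.base ⁻¹' {y}) := by
        intro y
        have h1 : _root_.IsDiscrete (q.base ⁻¹' {y}) := q.isDiscrete_preimage_singleton y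
        exact (h1.mono Set.inter_subset_right).to_subtype
      haveI := hdisc (q.base x)
      haveI := hdisc η
      rw [localDim_eq_zero_of_discrete]
      have hcl : IsClosed (q.base '' irreducibleComponent x) :=
        q.isClosedMap _ isClosed_irreducibleComponent
      have huniv : q.base '' irreducibleComponent x = Set.univ := by
        rw [← hcl.closure_eq]
        exact closure_image_component f hdom _ hZ
      obtain ⟨w, hw, hwη⟩ : η ∈ q.base '' irreducibleComponent x := by rw [huniv]; trivial
      haveI : Nonempty ↥(irreducibleComponent x ∩ q.base ⁻¹' {η}) := ⟨⟨w, hw, hwη⟩⟩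
      rw [topologicalKrullDim_eq_zero_of_discrete]
  have ha : ∀ x : f.normalization, q.base x = y₀ → EGA43.IsUnivOpenAt q x :=
    (htfae.out 1 0).mp hb
  obtain ⟨V, hV, hle⟩ := Groth.Agent.S3411.result q y₀ ha
  refine ⟨V, hV, fun z hz => ?_⟩
  rw [nGeomConnComp_eq f y₀, nGeomConnComp_eq f z]
  exact hle z hz

end Groth.Agent.Lib.H9LscD
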