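import Groth.Prelude.Def_Magnet
import Groth.Prelude.Def_Magnet2
import Groth.Agent.Lib.Helper8GeomQuotSep
import Groth.Agent.Lib.Helper2FormalEt
import Groth.Agent.Lib.Helper18UT4
import Mathlib.AlgebraicGeometry.Morphisms.FormallyUnramified

/-! Magnets/attractors and formally unramified maps: uniqueness of maps out of `B ⊗ T` along a nilpotent thickening (`hom_ext_whisker`), S18232 (helper9). -/

set_option autoImplicit false
universe u

open CategoryTheory MonoidalCategory CartesianMonoidalCategory AlgebraicGeometry Opposite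

namespace Groth.Agent.Lib.H9Magnet1

/-- uniqueness of maps out of `B ⊗ T` along a nilpotent thickening `T₀ → T`. -/
theorem hom_ext_whisker {S : Scheme.{u}} {X Y B T T₀ : Over S} (f : X ⟶ Y) [FormallyUnramified f.left]
    (i : T₀ ⟶ T) (hi : MoreMor.IsFiniteOrderThickening i.left) (φ₁ φ₂ : B ⊗ T ⟶ X)
    (h1 : (B ◁ i) ≫ φ₁ = (B ◁ i) ≫ φ₂) (h2 : φ₁ ≫ f = φ₂ ≫ f) : φ₁ = φ₂ := by
  apply Over.OverMorphism.ext
  have hpb := Groth.Agent.Lib.Helper8GeomQuotSep.isPullback_whiskerLeft B i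
  have hth := Groth.Agent.Lib.Helper2.Thick.fthick_baseChange _ _ _ _ hi hpb
  haveI : IsClosedImmersion (B ◁ i).left := hth.1.1
  exact FormallyUnramified.hom_ext (B ◁ i).left hth.2 f.left
    (congrArg (fun k => k.left) h1) (congrArg (fun k => k.left) h2)

theorem isFiniteOrderThickening_spec (A : Type u) [CommRing A] (I : Ideal A) (hI : I ^ 2 = ⊥) :
    MoreMor.IsFiniteOrderThickening (Spec.map (CommRingCat.ofHom (Ideal.Quotient.mk I))) := by
  refine ⟨(Groth.Agent.Helper18UT.isFirstOrderThickening_SpecMap (CommRingCat.ofHom (Ideal.Quotient.mk I))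
    Ideal.Quotient.mk_surjective ?_).1, Groth.Agent.Lib.Helper2.FormalEt.spec_nilpotent A I hI⟩
  change RingHom.ker (Ideal.Quotient.mk I) ^ 2 = ⊥
  rw [Ideal.mk_ker, hI]

theorem main18232 (S : Scheme.{u}) (M : Type) [AddCommGroup M]
    [AddGroup.FG M] (N : AddSubmonoid M) {X Y : Over S} (aX : Magnet.MonAct (Magnet.AMonS S M) X)
    (aY : Magnet.MonAct (Magnet.AMonS S M) Y) (f : X ⟶ Y) (hf : Magnet.MonAct.IsEquivariant aX aY f)
    [FormallyUnramified f.left] (A : Type u) [CommRing A] (I : Ideal A) (hI : I ^ 2 = ⊥)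
    (str : Spec (CommRingCat.of A) ⟶ S) (l₁ l₂ : (Magnet.attr aX N).obj (op (Over.mk str)))
    (htop : (Magnet.attr aX N).map (Over.homMk (Spec.map (CommRingCat.ofHom (Ideal.Quotient.mk I))) rfl :
        Over.mk (Spec.map (CommRingCat.ofHom (Ideal.Quotient.mk I)) ≫ str) ⟶ Over.mk str).op l₁ =
      (Magnet.attr aX N).map (Over.homMk (Spec.map (CommRingCat.ofHom (Ideal.Quotient.mk I))) rfl :
        Over.mk (Spec.map (CommRingCat.ofHom (Ideal.Quotient.mk I)) ≫ str) ⟶ Over.mk str).op l₂)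
    (hbot : (Magnet.MonAct.eqvHom.postcomp (Magnet.subAct S M N) f hf).app _ l₁ =
      (Magnet.MonAct.eqvHom.postcomp (Magnet.subAct S M N) f hf).app _ l₂) :
    l₁ = l₂ := by
  apply Subtype.ext
  exact hom_ext_whisker f (Over.homMk (Spec.map (CommRingCat.ofHom (Ideal.Quotient.mk I))) rfl :
        Over.mk (Spec.map (CommRingCat.ofHom (Ideal.Quotient.mk I)) ≫ str) ⟶ Over.mk str)
    (isFiniteOrderThickening_spec A I hI) l₁.1 l₂.1 (congrArg Subtype.val htop) (congrArg Subtype.val hbot)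

end Groth.Agent.Lib.H9Magnet1
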