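import Groth.Agent.Lib.H9Magnet1

/-! S18234: the map of representing schemes of attractors induced by a formally unramified equivariant map is formally unramified (helper9). -/

set_option autoImplicit false
universe u

open CategoryTheory MonoidalCategory CartesianMonoidalCategory AlgebraicGeometry Opposite

namespace Groth.Agent.Lib.H9Magnet2

open Groth.Agent.Lib.H9Magnet1

theorem isFiniteOrderThickening_of_first {X X' : Scheme.{u}} (i : X ⟶ X')
    (h : MoreMor.IsFirstOrderThickening i) : MoreMor.IsFiniteOrderThickening i := by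
  refine ⟨h.1, 2, ?_⟩
  rw [pow_two, h.2, Scheme.IdealSheafData.zero_eq_bot]

theorem main18234 (S : Scheme.{u}) (M : Type) [AddCommGroup M]
    [AddGroup.FG M] (N : AddSubmonoid M) {X Y : Over S} (aX : Magnet.MonAct (Magnet.AMonS S M) X)
    (aY : Magnet.MonAct (Magnet.AMonS S M) Y) (f : X ⟶ Y) (hf : Magnet.MonAct.IsEquivariant aX aY f)
    [FormallyUnramified f.left] {ZX ZY : Over S} (eX : (Magnet.attr aX N).RepresentableBy ZX)
    (eY : (Magnet.attr aY N).RepresentableBy ZY)
    (j : ZX ⟶ ZY) (hj : ∀ (T : Over S) (z : T ⟶ ZX),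
      eY.homEquiv (z ≫ j) = (Magnet.MonAct.eqvHom.postcomp (Magnet.subAct S M N) f hf).app (op T) (eX.homEquiv z)) :
    FormallyUnramified j.left := by
  refine FormallyUnramified.of_hom_ext j.left ?_
  intro R S' φ hφ hker g₁ g₂ h1 h2
  have hw : g₂ ≫ ZX.hom = g₁ ≫ ZX.hom := by
    rw [← Over.w j, ← Category.assoc, ← Category.assoc, h2]
  let T : Over S := Over.mk (g₁ ≫ ZX.hom)
  let T₀ : Over S := Over.mk (Spec.map φ ≫ g₁ ≫ ZX.hom)
  let i : T₀ ⟶ T := Over.homMk (Spec.map φ) rfl
  let z₁ : T ⟶ ZX := Over.homMk g₁ rfl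
  let z₂ : T ⟶ ZX := Over.homMk g₂ hw
  have hi : MoreMor.IsFiniteOrderThickening i.left :=
    isFiniteOrderThickening_of_first _
      (Groth.Agent.Helper18UT.isFirstOrderThickening_SpecMap φ hφ hker)
  have hz1 : i ≫ z₁ = i ≫ z₂ := Over.OverMorphism.ext h1
  have hz2 : z₁ ≫ j = z₂ ≫ j := Over.OverMorphism.ext h2
  have key : eX.homEquiv z₁ = eX.homEquiv z₂ := by
    apply Subtype.ext
    refine hom_ext_whisker f i hi _ _ ?_ ?_
    · have := congrArg (fun z => (eX.homEquiv z).1) hz1
      simp only [eX.homEquiv_comp] at this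
      exact this
    · have e1 := hj T z₁
      have e2 := hj T z₂
      rw [hz2] at e1
      exact congrArg Subtype.val (e1.symm.trans e2)
  have hz : z₁ = z₂ := eX.homEquiv.injective key
  exact congrArg (fun k => k.left) hz

end Groth.Agent.Lib.H9Magnet2
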