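import Groth.Agent.Lib.H9Magnet3
import Groth.Prelude.Def_Magnet3

/-! `AMonS.map` of the identity; the equivalence `f⁻¹Y ≃ Y` for injective `f` with `Y ≤ range f` and induced identities of `AMonS.map` (helper9). -/

set_option autoImplicit false
universe u

open CategoryTheory MonoidalCategory CartesianMonoidalCategory MonObj AlgebraicGeometry Opposite

namespace Groth.Agent.Lib.H9Magnet4

open Magnet Groth.Agent.Lib.H9SchDom2 Groth.Agent.Lib.H9Magnet3

theorem AMon_map_id (R : Type u) [CommRing R] (M : Type) [AddCommMonoid M] :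
    AMon.map R (AddMonoidHom.id M) = 𝟙 (AMon R M) := by
  ext : 1
  rw [AMon.map_left]
  change Spec.map _ = 𝟙 _
  rw [← Spec.map_id]
  congr 1
  apply CommRingCat.hom_ext
  apply MonoidAlgebra.ringHom_ext
  · intro r; simp
  · intro m; simp

theorem AMonS_map_id (S : Scheme.{u}) (M : Type) [AddCommMonoid M] :
    AMonS.map S (AddMonoidHom.id M) = 𝟙 (AMonS S M) := by
  rw [AMonS.map, AMon_map_id, CategoryTheory.Functor.map_id]

section Comap

variable (S : Scheme.{u}) {M Z : Type} [AddCommMonoid M] [AddCommGroup Z]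
  (f : M →+ Z) (Y : AddSubmonoid Z)

/-- the comparison map `f⁻¹Y → Y`. -/
abbrev gmap : ↥(Y.comap f) →+ ↥Y := (f.comp (Y.comap f).subtype).codRestrict Y (fun x => x.2)

variable {f Y}

lemma gmap_bijective (hf : Function.Injective f) (hY : Y ≤ AddMonoidHom.mrange f) :
    Function.Bijective (gmap f Y) := by
  constructor
  · intro a b h
    apply Subtype.ext
    apply hf
    exact congrArg Subtype.val h
  · intro y
    obtain ⟨m, hm⟩ := hY y.2
    exact ⟨⟨m, by rw [AddSubmonoid.mem_comap, hm]; exact y.2⟩, Subtype.ext hm⟩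

/-- the equivalence `f⁻¹Y ≃ Y`. -/
noncomputable def eqv (hf : Function.Injective f) (hY : Y ≤ AddMonoidHom.mrange f) : ↥(Y.comap f) ≃+ ↥Y :=
  AddEquiv.ofBijective (gmap f Y) (gmap_bijective hf hY)

lemma map_g_es (hf : Function.Injective f) (hY : Y ≤ AddMonoidHom.mrange f) :
    AMonS.map S (gmap f Y) ≫ AMonS.map S (eqv hf hY).symm.toAddMonoidHom = 𝟙 _ := by
  rw [← AMonS.map_comp, ← AMonS_map_id]
  congr 1
  ext y
  exact congrArg Subtype.val ((eqv hf hY).apply_symm_apply y)

lemma map_es_g (hf : Function.Injective f) (hY : Y ≤ AddMonoidHom.mrange f) :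
    AMonS.map S (eqv hf hY).symm.toAddMonoidHom ≫ AMonS.map S (gmap f Y) = 𝟙 _ := by
  rw [← AMonS.map_comp, ← AMonS_map_id]
  congr 1
  ext n
  exact congrArg Subtype.val ((eqv hf hY).symm_apply_apply n)

lemma map_f_sub_es (hf : Function.Injective f) (hY : Y ≤ AddMonoidHom.mrange f) :
    AMonS.map S f ≫ AMonS.map S (Y.comap f).subtype ≫ AMonS.map S (eqv hf hY).symm.toAddMonoidHom =
      AMonS.map S Y.subtype := by
  rw [← AMonS.map_comp, ← AMonS.map_comp]
  congr 1
  ext y
  exact congrArg Subtype.val ((eqv hf hY).apply_symm_apply y)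

end Comap

end Groth.Agent.Lib.H9Magnet4
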