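import Groth.Agent.Lib.H9Magnet3
import Groth.Agent.Lib.Helper11SchImage

/-! S18286: for an equivariant closed immersion `Z → Y`, `Z^N = Z ×_Y Y^N` (square of attractor functors is cartesian), via scheme-theoretic dominance of `A(M)×T → A(N)×T` (helper9). -/

set_option autoImplicit false
universe u

open CategoryTheory MonoidalCategory CartesianMonoidalCategory MonObj AlgebraicGeometry Opposite

namespace Groth.Agent.Lib.H9Magnet6

open Magnet Groth.Agent.Lib.H9SchDom2 Groth.Agent.Lib.H9Magnet3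

theorem main18286 (S : Scheme.{u}) (M : Type) [AddCommMonoid M]
    (N : AddSubmonoid M) (Y Z : Over S) (aY : Magnet.MonAct (Magnet.AMonS S M) Y)
    (aZ : Magnet.MonAct (Magnet.AMonS S M) Z) (f : Z ⟶ Y) [IsClosedImmersion f.left]
    (hf : Magnet.MonAct.IsEquivariant aZ aY f) :
    IsPullback (Magnet.MonAct.eqvHom.postcomp (Magnet.subAct S M N) f hf) (Magnet.attrToX aZ N)
      (Magnet.attrToX aY N) (yoneda.map f) := by
  haveI : Mono f.left := inferInstance
  haveI : Mono f := Over.mono_of_mono_left f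
  apply IsPullback.of_forall_isPullback_app
  intro T
  rw [Limits.Types.isPullback_iff]
  refine ⟨?_, ?_, ?_⟩
  · ext φ
    change lift (toUnit (unop T) ≫ η[AMonS S N]) (𝟙 (unop T)) ≫ (φ.1 ≫ f) =
      (lift (toUnit (unop T) ≫ η[AMonS S N]) (𝟙 (unop T)) ≫ φ.1) ≫ f
    rw [Category.assoc]
  · rintro φ₁ φ₂ ⟨h1, -⟩
    apply Subtype.ext
    have : φ₁.1 ≫ f = φ₂.1 ≫ f := congrArg Subtype.val h1
    exact (cancel_mono f).mp this
  · intro ψ z hz
    have hz' : (Magnet.attrToX aY N).app T ψ = z ≫ f := hz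
    have hdom := dominant_whiskerRight S N.subtype Subtype.val_injective (unop T)
    have hcomm : (AMonS.map S N.subtype ▷ unop T) ≫ ψ.1 = ((AMonS S M ◁ z) ≫ aZ.act) ≫ f := by
      rw [whiskerRight_comp_eq S M Y aY N (unop T) ψ, hz', MonoidalCategory.whiskerLeft_comp, Category.assoc,
        Category.assoc]
      congr 1
      exact hf.symm
    obtain ⟨l, hl⟩ := Groth.Agent.Lib.Helper11SchImage.exists_lift_of_dominant_over
      (AMonS.map S N.subtype ▷ unop T) ψ.1 ((AMonS S M ◁ z) ≫ aZ.act) f hcomm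
    have hleq : MonAct.IsEquivariant ((subAct S M N).prod (MonAct.trivial (AMonS S M) (unop T))) aZ l := by
      unfold MonAct.IsEquivariant
      rw [← cancel_mono f, Category.assoc, hl, Category.assoc]
      have h2 : aZ.act ≫ f = (AMonS S M ◁ f) ≫ aY.act := hf
      rw [h2, ← Category.assoc, ← MonoidalCategory.whiskerLeft_comp, hl]
      exact ψ.2
    refine ⟨⟨l, hleq⟩, Subtype.ext hl, ?_⟩
    change lift (toUnit (unop T) ≫ η[AMonS S N]) (𝟙 (unop T)) ≫ l = z
    rw [← cancel_mono f, Category.assoc, hl]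
    exact hz'

end Groth.Agent.Lib.H9Magnet6
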