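import Groth.Prelude.Def_Magnet
import Groth.Prelude.Def_Magnet2
import Groth.Agent.Lib.Helper8GeomQuotSep
import Mathlib

/-! S18958: for a `G`-stable open `U ⊆ X` and a monoid `M ⊇ G` with zero satisfying the open-stable-subset property over fields, the square `D_U → D_X` over `U → X` (evaluation at the zero section) is cartesian (helper9). -/

set_option autoImplicit false
universe u

open CategoryTheory MonoidalCategory CartesianMonoidalCategory MonObj AlgebraicGeometry Opposite

namespace Groth.Agent.Lib.H9Magnet7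

open Magnet

section

variable {k : Type u} [Field k]
  {M G X U : Over (Spec (CommRingCat.of k))} [MonObj M] [GrpObj G] (i : G ⟶ M) [IsMonHom i]
  (aX : AlgGrp.Action G X) (aU : AlgGrp.Action G U) (j : U ⟶ X) [IsOpenImmersion j.left]
  (hj : Magnet.MonAct.IsEquivariant (Magnet.MonAct.ofAction aU) (Magnet.MonAct.ofAction aX) j)

include hj in
/-- `U` is `G`-stable in `X`. -/
lemma act_mem_range (q : (G ⊗ X).left) (hq : (snd G X).left q ∈ Set.range j.left) :
    aX.act.left q ∈ Set.range j.left := by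
  obtain ⟨y, hy⟩ := hq
  have hpb := Groth.Agent.Lib.Helper8GeomQuotSep.isPullback_whiskerLeft G j
  obtain ⟨q'', h1, -⟩ := Scheme.exists_preimage_of_isPullback hpb q y hy.symm
  have h2 : aU.act ≫ j = (G ◁ j) ≫ aX.act := hj
  have h3 : aX.act.left ((G ◁ j).left q'') = j.left (aU.act.left q'') := by
    rw [← Scheme.Hom.comp_apply, ← Scheme.Hom.comp_apply, ← Over.comp_left, ← Over.comp_left, h2]
  rw [← h1, h3]
  exact ⟨_, rfl⟩

include hj in
/-- the preimage of `U` under an equivariant map is `G`-stable. -/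
lemma stable (T : Over (Spec (CommRingCat.of k)))
    (ψ : (MonAct.eqvHom ((MonAct.regular M).restrict i) (MonAct.ofAction aX)).obj (op T)) :
    (snd G (M ⊗ T)).left ⁻¹ᵁ (ψ.1.left ⁻¹ᵁ j.left.opensRange) ≤
      ((((MonAct.regular M).restrict i).prod (MonAct.trivial G T)).act).left ⁻¹ᵁ
        (ψ.1.left ⁻¹ᵁ j.left.opensRange) := by
  intro q hq
  have hq' : ψ.1.left ((snd G (M ⊗ T)).left q) ∈ Set.range j.left := hq
  change ψ.1.left (((((MonAct.regular M).restrict i).prod (MonAct.trivial G T)).act).left q) ∈ Set.range j.left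
  have heq : (((MonAct.regular M).restrict i).prod (MonAct.trivial G T)).act ≫ ψ.1 =
      (G ◁ ψ.1) ≫ aX.act := ψ.2
  have h1 : ψ.1.left (((((MonAct.regular M).restrict i).prod (MonAct.trivial G T)).act).left q) =
      aX.act.left ((G ◁ ψ.1).left q) := by
    rw [← Scheme.Hom.comp_apply, ← Scheme.Hom.comp_apply, ← Over.comp_left, ← Over.comp_left, heq]
  rw [h1]
  apply act_mem_range aX aU j hj
  have h2 : (snd G X).left ((G ◁ ψ.1).left q) = ψ.1.left ((snd G (M ⊗ T)).left q) := by
    rw [← Scheme.Hom.comp_apply, ← Scheme.Hom.comp_apply, ← Over.comp_left, ← Over.comp_left, whiskerLeft_snd]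
  rw [h2]
  exact hq'

variable (o : 𝟙_ (Over (Spec (CommRingCat.of k))) ⟶ M)
  (hM : ∀ (T : Over (Spec (CommRingCat.of k))) (K : Type u) [Field K] (eT : T.left ≅ Spec (CommRingCat.of K))
      (W : (M ⊗ T).left.Opens),
      (CartesianMonoidalCategory.snd G (M ⊗ T)).left ⁻¹ᵁ W ≤
          ((((Magnet.MonAct.regular M).restrict i).prod (Magnet.MonAct.trivial G T)).act).left ⁻¹ᵁ W →
      (CartesianMonoidalCategory.lift (toUnit T ≫ o) (𝟙 T)).left ⁻¹ᵁ W = ⊤ → W = ⊤)

/-- the zero section lands in the preimage of `U`. -/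
lemma zero_mem (T : Over (Spec (CommRingCat.of k)))
    (ψ : (MonAct.eqvHom ((MonAct.regular M).restrict i) (MonAct.ofAction aX)).obj (op T))
    (u : T ⟶ U) (hu : lift (toUnit T ≫ o) (𝟙 T) ≫ ψ.1 = u ≫ j) :
    (lift (toUnit T ≫ o) (𝟙 T)).left ⁻¹ᵁ (ψ.1.left ⁻¹ᵁ j.left.opensRange) = ⊤ := by
  rw [eq_top_iff]
  intro x _
  change ψ.1.left ((lift (toUnit T ≫ o) (𝟙 T)).left x) ∈ Set.range j.left
  rw [← Scheme.Hom.comp_apply, ← Over.comp_left, hu, Over.comp_left, Scheme.Hom.comp_apply]
  exact ⟨_, rfl⟩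

include hj hM in
/-- an equivariant map `M × T → X` sending the zero section into `U` lands in `U`. -/
lemma range_subset (T : Over (Spec (CommRingCat.of k)))
    (ψ : (MonAct.eqvHom ((MonAct.regular M).restrict i) (MonAct.ofAction aX)).obj (op T))
    (u : T ⟶ U) (hu : lift (toUnit T ≫ o) (𝟙 T) ≫ ψ.1 = u ≫ j) :
    Set.range ψ.1.left ⊆ Set.range j.left := by
  rintro _ ⟨p, rfl⟩
  let t : T.left := (snd M T).left p
  let Tt : Over (Spec (CommRingCat.of k)) := Over.mk (T.left.fromSpecResidueField t ≫ T.hom)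
  let it : Tt ⟶ T := Over.homMk (T.left.fromSpecResidueField t) rfl
  let ψt := (MonAct.eqvHom ((MonAct.regular M).restrict i) (MonAct.ofAction aX)).map it.op ψ
  have hψt : ψt.1 = (M ◁ it) ≫ ψ.1 := rfl
  have hut : lift (toUnit Tt ≫ o) (𝟙 Tt) ≫ ψt.1 = (it ≫ u) ≫ j := by
    rw [hψt, Category.assoc, ← hu, ← Category.assoc, ← Category.assoc]
    congr 1
    apply CartesianMonoidalCategory.hom_ext
    · simp only [Category.assoc, whiskerLeft_fst, lift_fst]
      rw [← Category.assoc, toUnit_unique (it ≫ toUnit T) (toUnit Tt)]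
    · simp only [Category.assoc, whiskerLeft_snd, lift_snd, lift_snd_assoc, Category.id_comp, Category.comp_id]
  have htop := hM Tt (T.left.residueField t) (Iso.refl _) (ψt.1.left ⁻¹ᵁ j.left.opensRange)
    (stable i aX aU j hj Tt ψt) (zero_mem i aX j o Tt ψt (it ≫ u) hut)
  have hpb := Groth.Agent.Lib.Helper8GeomQuotSep.isPullback_whiskerLeft M it
  obtain ⟨y, hy⟩ : ∃ y : Spec (T.left.residueField t), T.left.fromSpecResidueField t y = t :=
    ⟨IsLocalRing.closedPoint _, Scheme.fromSpecResidueField_apply _ _⟩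
  obtain ⟨p', hp', -⟩ := Scheme.exists_preimage_of_isPullback hpb p y hy.symm
  have hmem : p' ∈ (ψt.1.left ⁻¹ᵁ j.left.opensRange) := by rw [htop]; trivial
  have hmem' : ψt.1.left p' ∈ Set.range j.left := hmem
  rw [hψt, Over.comp_left, Scheme.Hom.comp_apply, hp'] at hmem'
  exact hmem'

include hM in
theorem main18958 :
    IsPullback
      (Magnet.MonAct.eqvHom.postcomp ((Magnet.MonAct.regular M).restrict i) j hj)
      (Magnet.MonAct.eqvHom.evalAt ((Magnet.MonAct.regular M).restrict i) (Magnet.MonAct.ofAction aU) o)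
      (Magnet.MonAct.eqvHom.evalAt ((Magnet.MonAct.regular M).restrict i) (Magnet.MonAct.ofAction aX) o)
      (yoneda.map j) := by
  haveI : Mono j.left := inferInstance
  haveI : Mono j := Over.mono_of_mono_left j
  apply IsPullback.of_forall_isPullback_app
  intro T
  rw [Limits.Types.isPullback_iff]
  refine ⟨?_, ?_, ?_⟩
  · ext φ
    change lift (toUnit (unop T) ≫ o) (𝟙 (unop T)) ≫ (φ.1 ≫ j) =
      (lift (toUnit (unop T) ≫ o) (𝟙 (unop T)) ≫ φ.1) ≫ j
    rw [Category.assoc]
  · rintro φ₁ φ₂ ⟨h1, -⟩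
    apply Subtype.ext
    have : φ₁.1 ≫ j = φ₂.1 ≫ j := congrArg Subtype.val h1
    exact (cancel_mono j).mp this
  · intro ψ u hu
    have hu' : lift (toUnit (unop T) ≫ o) (𝟙 (unop T)) ≫ ψ.1 = u ≫ j := hu
    have hrange := range_subset i aX aU j hj o hM (unop T) ψ u hu'
    let l₀ := IsOpenImmersion.lift j.left ψ.1.left hrange
    have hl₀ : l₀ ≫ j.left = ψ.1.left := IsOpenImmersion.lift_fac _ _ _
    let l : M ⊗ unop T ⟶ U := Over.homMk l₀ (by rw [← Over.w j, ← Category.assoc, hl₀, Over.w ψ.1])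
    have hl : l ≫ j = ψ.1 := Over.OverMorphism.ext hl₀
    have hleq : MonAct.IsEquivariant (((MonAct.regular M).restrict i).prod (MonAct.trivial G (unop T)))
        (MonAct.ofAction aU) l := by
      unfold MonAct.IsEquivariant
      rw [← cancel_mono j, Category.assoc, hl, Category.assoc]
      have h2 : (MonAct.ofAction aU).act ≫ j = (G ◁ j) ≫ (MonAct.ofAction aX).act := hj
      rw [h2, ← Category.assoc, ← MonoidalCategory.whiskerLeft_comp, hl]
      exact ψ.2
    refine ⟨⟨l, hleq⟩, Subtype.ext hl, ?_⟩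
    change lift (toUnit (unop T) ≫ o) (𝟙 (unop T)) ≫ l = u
    rw [← cancel_mono j, Category.assoc, hl]
    exact hu'

end

end Groth.Agent.Lib.H9Magnet7
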