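import Mathlib
import Groth.Prelude
import Groth.Agent.Lib.R2H1BirDeg
import Groth.Agent.Lib.R2H2ProjOver
import Groth.Agent.Lib.R2H4ModDeg

/-!
# Euler characteristics and degrees are invariant under isomorphisms of schemes (helper4, round 2)
-/

set_option autoImplicit false
set_option linter.style.haveILetI false
set_option linter.unusedSectionVars false
universe u
open CategoryTheory CategoryTheory.Limits AlgebraicGeometry TopologicalSpace Opposite

noncomputable section

namespace Groth.Agent.Lib.R2H4IsoDeg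

variable (k : Type u) [Field k] {Y Y' : Scheme.{u}} [Y.Over (Spec (CommRingCat.of k))]
  [Y'.Over (Spec (CommRingCat.of k))] [IsProper (Y' ↘ Spec (CommRingCat.of k))]
  (φ : Y ⟶ Y') [IsIso φ]
  (hφ : φ ≫ (Y' ↘ Spec (CommRingCat.of k)) = Y ↘ Spec (CommRingCat.of k))

include hφ in
theorem euler_pullback_iso (P : Y'.Modules) (hP : Coh.IsQCoh P) :
    Curv2.euler k Y ((Scheme.Modules.pullback φ).obj P) = Curv2.euler k Y' P := by
  haveI := Groth.Agent.Lib.R2H2.ProjOver.isEquivalence_pullback φ
  haveI : P.IsQuasicoherent := hP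
  have hq : Coh.IsQCoh ((Scheme.Modules.pullback φ).obj P) :=
    Groth.Agent.Lib.Helper2.PullbackSec.isQuasicoherent_pullback φ P
  rw [Groth.Agent.Lib.R2H1.BirDeg.euler_push k φ hφ _ hq]
  let adj := Scheme.Modules.pullbackPushforwardAdjunction φ
  haveI : IsIso (adj.unit.app P) := inferInstance
  exact (Groth.Agent.Lib.R2H1.DegCartier.euler_congr k (asIso (adj.unit.app P))).symm

include hφ in
theorem deg_pullback_iso (P : Y'.Modules) (hP : Coh.IsQCoh P) :
    Curv2.deg k Y ((Scheme.Modules.pullback φ).obj P) 1 = Curv2.deg k Y' P 1 := by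
  unfold Curv2.deg
  rw [euler_pullback_iso k φ hφ P hP,
    ← Groth.Agent.Lib.R2H1.DegCartier.euler_congr k
      (Groth.Agent.Lib.Helper23.PB.pullbackUnitIso φ),
    euler_pullback_iso k φ hφ _ (Groth.Agent.Lib.R2H1.GenusLe.isCoh_structureModule _).1]

end Groth.Agent.Lib.R2H4IsoDeg
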