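import Mathlib
import Groth.Prelude
import Groth.Agent.Lib.R2H4ModArith
import Groth.Agent.Lib.R2H4IsoDeg
import Groth.Agent.Lib.Helper11RedCl

/-!
# The intersection number depends only on the supports (helper4, round 2)
-/

set_option autoImplicit false
set_option linter.style.haveILetI false
set_option linter.unusedSectionVars false
universe u
open CategoryTheory CategoryTheory.Limits AlgebraicGeometry TopologicalSpace Opposite IsLocalRing

noncomputable section

namespace Groth.Agent.Lib.R2H4ModNegA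

open Groth.Agent.Lib.R2H4ModComp Groth.Agent.Lib.R2H4ModDeg Groth.Agent.Lib.R2H4ModArith
  Groth.Agent.Lib.R2H4TensorPows

section Inv

variable {X : Scheme.{u}}

/-- two tensor inverses of the same module are isomorphic -/
theorem nonempty_iso_of_inverse (L L' M : X.Modules)
    (e : CohB1.tensorMod L M ≅ Coh.structureModule X)
    (e' : CohB1.tensorMod L' M ≅ Coh.structureModule X) : Nonempty (L ≅ L') :=
  ⟨(rUnit L).symm ≪≫ tIso (Iso.refl L) e'.symm ≪≫ tIso (Iso.refl L) (tComm L' M) ≪≫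
    (tAssoc L M L').symm ≪≫ tIso e (Iso.refl L') ≪≫ lUnit L'⟩

end Inv

variable {R : Type u} [CommRing R] [IsDomain R] [IsDiscreteValuationRing R]
  {X : Scheme.{u}} {p : X ⟶ Spec (CommRingCat.of R)}

theorem ker_eq_vanishingIdeal (Γ : ArSurf.VertComp R (Over.mk p)) :
    kerOf Γ = Scheme.IdealSheafData.vanishingIdeal
      ⟨Set.range (Γ.ι.base : Γ.curve.left → X), Γ.ι.isClosedEmbedding.isClosed_range⟩ := by
  have h := Groth.Agent.Lib.Helper11RedCl.ker_eq_of_isReduced (Γ.ι : Γ.curve.left ⟶ X)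
  change (Γ.ι : Γ.curve.left ⟶ X).ker = _
  rw [h]
  congr 1
  apply SetLike.coe_injective
  exact Γ.ι.isClosedEmbedding.isClosed_range.closure_eq

theorem ker_eq_of_range_eq (Γ Γ' : ArSurf.VertComp R (Over.mk p))
    (h : Set.range (Γ.ι.base : Γ.curve.left → X) = Set.range (Γ'.ι.base : Γ'.curve.left → X)) :
    kerOf Γ = kerOf Γ' := by
  rw [ker_eq_vanishingIdeal, ker_eq_vanishingIdeal]
  congr 1
  exact SetLike.coe_injective h

variable [IsProper p]

theorem inter_congr (Γ : ArSurf.VertComp R (Over.mk p)) {N N' : X.Modules} (e : N ≅ N') :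
    ArSurf.inter R (Over.mk p) N Γ = ArSurf.inter R (Over.mk p) N' Γ := by
  haveI := isProper_curve Γ
  let ιΓ : Γ.curve.left ⟶ X := Γ.ι
  have h1 : ArSurf.inter R (Over.mk p) N Γ =
      @Curv2.deg (ResidueField R) _ Γ.curve.left _ ((Scheme.Modules.pullback ιΓ).obj N) 1 :=
    inter_eq_deg Γ N
  have h2 : ArSurf.inter R (Over.mk p) N' Γ =
      @Curv2.deg (ResidueField R) _ Γ.curve.left _ ((Scheme.Modules.pullback ιΓ).obj N') 1 :=
    inter_eq_deg Γ N'
  rw [h1, h2]
  exact deg_congr (ResidueField R) Γ.curve.left ((Scheme.Modules.pullback ιΓ).mapIso e)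

/-- the intersection number with a quasi-coherent module depends only on the ideal sheaf of the
vertical prime divisor -/
theorem inter_eq_of_ker_eq (Γ Γ' : ArSurf.VertComp R (Over.mk p)) (h : kerOf Γ = kerOf Γ')
    (N : X.Modules) [N.IsQuasicoherent] :
    ArSurf.inter R (Over.mk p) N Γ = ArSurf.inter R (Over.mk p) N Γ' := by
  haveI := isProper_curve Γ
  haveI := isProper_curve Γ'
  let ιΓ : Γ.curve.left ⟶ X := Γ.ι
  let ιΓ' : Γ'.curve.left ⟶ X := Γ'.ι
  have h1 : ιΓ'.ker ≤ ιΓ.ker := h.ge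
  have h2 : ιΓ.ker ≤ ιΓ'.ker := h.le
  let l : Γ.curve.left ⟶ Γ'.curve.left := IsClosedImmersion.lift ιΓ' ιΓ h1
  have hl : l ≫ ιΓ' = ιΓ := IsClosedImmersion.lift_fac ιΓ' ιΓ h1
  let l' : Γ'.curve.left ⟶ Γ.curve.left := IsClosedImmersion.lift ιΓ ιΓ' h2
  have hl' : l' ≫ ιΓ = ιΓ' := IsClosedImmersion.lift_fac ιΓ ιΓ' h2
  haveI : IsIso l := ⟨l', by
    rw [← cancel_mono ιΓ, Category.assoc, hl', hl, Category.id_comp], by
    rw [← cancel_mono ιΓ', Category.assoc, hl, hl', Category.id_comp]⟩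
  have hw : ιΓ ≫ p = Γ.curve.hom ≫ qq R := Γ.w
  have hw' : ιΓ' ≫ p = Γ'.curve.hom ≫ qq R := Γ'.w
  have hover : l ≫ (Γ'.curve.left ↘ Spec (CommRingCat.of (ResidueField R))) =
      Γ.curve.left ↘ Spec (CommRingCat.of (ResidueField R)) := by
    change l ≫ Γ'.curve.hom = Γ.curve.hom
    rw [← cancel_mono (qq R), Category.assoc, ← hw', ← Category.assoc, hl, hw]
  have e1 : ArSurf.inter R (Over.mk p) N Γ =
      @Curv2.deg (ResidueField R) _ Γ.curve.left _ ((Scheme.Modules.pullback ιΓ).obj N) 1 :=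
    inter_eq_deg Γ N
  have e2 : ArSurf.inter R (Over.mk p) N Γ' =
      @Curv2.deg (ResidueField R) _ Γ'.curve.left _ ((Scheme.Modules.pullback ιΓ').obj N) 1 :=
    inter_eq_deg Γ' N
  rw [e1, e2]
  have e : (Scheme.Modules.pullback ιΓ).obj N ≅
      (Scheme.Modules.pullback l).obj ((Scheme.Modules.pullback ιΓ').obj N) :=
    ((Scheme.Modules.pullbackCongr hl).app N).symm ≪≫
      ((Scheme.Modules.pullbackComp l ιΓ').app N).symm
  rw [deg_congr (ResidueField R) Γ.curve.left e]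
  exact Groth.Agent.Lib.R2H4IsoDeg.deg_pullback_iso (ResidueField R) l hover _
    (Groth.Agent.Lib.Helper2.PullbackSec.isQuasicoherent_pullback ιΓ' N)

end Groth.Agent.Lib.R2H4ModNegA
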