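import Mathlib
import Groth.Prelude
import Groth.Agent.Lib.R2H4ModMain2

/-!
# The divisor `Σ (m_i/d) Γ_i` has order dividing `d` in the Picard group (helper4, round 2)
-/

set_option autoImplicit false
set_option linter.style.haveILetI false
set_option linter.unusedSectionVars false
universe u
open CategoryTheory CategoryTheory.Limits AlgebraicGeometry TopologicalSpace Opposite IsLocalRing

noncomputable section

namespace Groth.Agent.Lib.R2H4ModOrd

open Groth.Agent.Lib.R2H4ModSec Groth.Agent.Lib.R2H4ModComp Groth.Agent.Lib.R2H4ModProd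
  Groth.Agent.Lib.R2H4ModTriv Groth.Agent.Lib.R2H4ModMain Groth.Agent.Lib.R2H4TensorPows
  Groth.Agent.Lib.R2H1.SpecialFibreProd

section Pow

variable {X : Scheme.{u}}

/-- tensor powers respect isomorphisms -/
def powCongr {L L' : X.Modules} (e : L ≅ L') : ∀ n, CohB1.tensorPow L n ≅ CohB1.tensorPow L' n
  | 0 => Iso.refl _
  | n + 1 => tIso (powCongr e n) e

/-- tensor powers of the structure sheaf -/
def powUnit : ∀ n, CohB1.tensorPow (Coh.structureModule X) n ≅ Coh.structureModule X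
  | 0 => Iso.refl _
  | n + 1 => tIso (powUnit n) (Iso.refl _) ≪≫ rUnit _

/-- if `L ⊗ M ≅ O` and `L^d ≅ O` then `M^d ≅ O` -/
theorem nonempty_pow_iso_of_inverse (L M : X.Modules) (hL : PicF.IsInvertible L)
    (hM : PicF.IsInvertible M) (e : CohB1.tensorMod L M ≅ Coh.structureModule X) (d : ℕ)
    (φ : CohB1.tensorPow L d ≅ Coh.structureModule X) :
    Nonempty (CohB1.tensorPow M d ≅ Coh.structureModule X) := by
  obtain ⟨ψ⟩ := Groth.Agent.Lib.Helper23.SecTw.nonempty_tensorPow_tensorMod_iso L M hL hM d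
  exact ⟨(lUnit _).symm ≪≫ tIso φ.symm (Iso.refl _) ≪≫ ψ ≪≫ powCongr e d ≪≫ powUnit d⟩

end Pow

variable {R : Type u} [CommRing R] [IsDomain R] [IsDiscreteValuationRing R]
  {X : Scheme.{u}} {p : X ⟶ Spec (CommRingCat.of R)} {n : ℕ}
  (Γ : Fin n → ArSurf.VertComp R (Over.mk p))
  (hΓ : Models.IsComponentList R (Over.mk p) Γ)

/-- an invertible module with a section cutting out the closed fibre is trivial -/
theorem nonempty_iso_of_zeroScheme [Flat p] (N : X.Modules) (hN : PicF.IsInvertible N)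
    (s : Coh.structureModule X ⟶ N)
    (hZ : PicF2.zeroScheme N s = Models.specialFibreIdeal R (Over.mk p)) :
    Nonempty (Coh.structureModule X ≅ N) := by
  obtain ⟨ϖ, hϖ⟩ := IsDiscreteValuationRing.exists_irreducible R
  have hmax : maximalIdeal R = Ideal.span {ϖ} :=
    (IsDiscreteValuationRing.irreducible_iff_uniformizer ϖ).mp hϖ
  refine nonempty_iso N hN s (secHom R X p ⊤ ϖ) ?_ ?_
  · intro U
    rw [hZ, specialFibreIdeal_ideal, hmax, Ideal.map_span, Set.image_singleton, rT_secHom]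
  · intro U
    rw [rT_secHom]
    exact nzd_secHom ϖ hϖ.ne_zero U

/-- the ideal sheaf of `D = Σ (m_i / d) Γ_i` -/
abbrev idealD : X.IdealSheafData :=
  ∏ i, ik Γ i ^ (Models.mult R (Over.mk p) (Γ i) / Models.multGcd R (Over.mk p) Γ)

theorem idealD_pow :
    idealD Γ ^ Models.multGcd R (Over.mk p) Γ =
      ∏ i, ik Γ i ^ Models.mult R (Over.mk p) (Γ i) := by
  unfold idealD
  rw [← Finset.prod_pow]
  refine Finset.prod_congr rfl (fun i _ => ?_)
  rw [← pow_mul]
  congr 1
  exact Nat.div_mul_cancel (Finset.gcd_dvd (Finset.mem_univ i))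

section Fibre

variable [Flat p] [LocallyOfFiniteType p] [QuasiCompact p]
  (hreg : ∀ x : X, IsRegularLocalRing (X.presheaf.stalk x))
  (L : X.Modules) (hL : ClSub.IsInverseOf L (ClSub.idealMod (idealD Γ)))

include hΓ hreg hL in
theorem s7326_first :
    Nonempty (CohB1.tensorPow L (Models.multGcd R (Over.mk p) Γ) ≅ Coh.structureModule X) := by
  obtain ⟨e⟩ := hL
  have hLinv : PicF.IsInvertible L := isInvertible_of_iso _ L e
  obtain ⟨φ⟩ := nonempty_iso_of_zeroScheme
    (CohB1.tensorPow L (Models.multGcd R (Over.mk p) Γ))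
    (Groth.Agent.Lib.Helper23.SecTw.isInvertible_tensorPow hLinv _)
    (SecTwist.powHom (canSec (idealD Γ) L e) _)
    (by
      rw [zeroScheme_powHom L hLinv, zeroScheme_canSec _ _ hLinv e, idealD_pow,
        (main R X p hreg Γ hΓ).2])
  exact ⟨φ.symm⟩

include hΓ hreg hL in
theorem s7326_second :
    Nonempty (CohB1.tensorPow ((Scheme.Modules.pullback (idealD Γ).subschemeι).obj
        (ClSub.idealMod (idealD Γ))) (Models.multGcd R (Over.mk p) Γ) ≅
      Coh.structureModule (idealD Γ).subscheme) := by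
  obtain ⟨φ⟩ := s7326_first Γ hΓ hreg L hL
  obtain ⟨e⟩ := hL
  have hLinv : PicF.IsInvertible L := isInvertible_of_iso _ L e
  have hMinv : PicF.IsInvertible (ClSub.idealMod (idealD Γ)) :=
    Groth.Agent.Lib.R2H3.NegTwist.isInvertible_of_isInverseOf L _ ⟨e⟩
  obtain ⟨ψ⟩ := nonempty_pow_iso_of_inverse L _ hLinv hMinv e _ φ
  obtain ⟨τ⟩ := Groth.Agent.Lib.Helper23.PB.nonempty_pullback_tensorPow_iso
    (idealD Γ).subschemeι (ClSub.idealMod (idealD Γ)) hMinv (Models.multGcd R (Over.mk p) Γ)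
  exact ⟨τ.symm ≪≫ (Scheme.Modules.pullback (idealD Γ).subschemeι).mapIso ψ ≪≫
    Groth.Agent.Lib.Helper23.PB.pullbackUnitIso _⟩

end Fibre

end Groth.Agent.Lib.R2H4ModOrd
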