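import Mathlib

/-!
# A quadratic form with non-negative off-diagonal entries and non-positive weighted row sums is
negative semi-definite (helper4, round 2)
-/

set_option autoImplicit false
universe u

namespace Groth.Agent.Lib.R2H4QuadNeg

variable {ι : Type*} [Fintype ι]

theorem qf_nonpos_rat (c : ι → ι → ℚ) (m : ι → ℚ)
    (hsymm : ∀ i j, c i j = c j i) (hoff : ∀ i j, i ≠ j → 0 ≤ c i j) (hm : ∀ i, 0 < m i)
    (hrow : ∀ i, ∑ j, m j * c i j ≤ 0) (a : ι → ℚ) :
    ∑ i, ∑ j, a i * a j * c i j ≤ 0 := by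
  classical
  set x : ι → ℚ := fun i => a i / m i with hx
  have hax : ∀ i, a i = m i * x i := fun i => by
    rw [hx]
    have := (hm i).ne'
    field_simp
  have e1 : ∑ i, ∑ j, c i j * m i * m j * (x i - x j) ^ 2 =
      ∑ i, ∑ j, c i j * m i * m j * x i ^ 2 + ∑ i, ∑ j, c i j * m i * m j * x j ^ 2
        - 2 * ∑ i, ∑ j, c i j * m i * m j * x i * x j := by
    rw [Finset.mul_sum, ← Finset.sum_add_distrib, ← Finset.sum_sub_distrib]
    refine Finset.sum_congr rfl (fun i _ => ?_)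
    rw [Finset.mul_sum, ← Finset.sum_add_distrib, ← Finset.sum_sub_distrib]
    refine Finset.sum_congr rfl (fun j _ => ?_)
    ring
  have e2 : ∑ i, ∑ j, c i j * m i * m j * x j ^ 2 = ∑ i, ∑ j, c i j * m i * m j * x i ^ 2 := by
    rw [Finset.sum_comm]
    refine Finset.sum_congr rfl (fun i _ => Finset.sum_congr rfl (fun j _ => ?_))
    rw [hsymm j i]
    ring
  have e3 : ∑ i, ∑ j, c i j * m i * m j * x i ^ 2 =
      ∑ i, x i ^ 2 * m i * ∑ j, m j * c i j := by
    refine Finset.sum_congr rfl (fun i _ => ?_)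
    rw [Finset.mul_sum]
    refine Finset.sum_congr rfl (fun j _ => ?_)
    ring
  have e4 : ∑ i, ∑ j, a i * a j * c i j = ∑ i, ∑ j, c i j * m i * m j * x i * x j := by
    refine Finset.sum_congr rfl (fun i _ => Finset.sum_congr rfl (fun j _ => ?_))
    rw [hax i, hax j]
    ring
  have h1 : ∑ i, x i ^ 2 * m i * (∑ j, m j * c i j) ≤ 0 := by
    refine Finset.sum_nonpos (fun i _ => ?_)
    exact mul_nonpos_of_nonneg_of_nonpos (mul_nonneg (sq_nonneg _) (hm i).le) (hrow i)
  have h2 : 0 ≤ ∑ i, ∑ j, c i j * m i * m j * (x i - x j) ^ 2 := by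
    refine Finset.sum_nonneg (fun i _ => Finset.sum_nonneg (fun j _ => ?_))
    by_cases hij : i = j
    · subst hij
      simp
    · exact mul_nonneg (mul_nonneg (mul_nonneg (hoff i j hij) (hm i).le) (hm j).le)
        (sq_nonneg _)
  rw [e4]
  rw [e1, e2, e3] at h2
  linarith

theorem qf_nonpos (c : ι → ι → ℤ) (m : ι → ℤ)
    (hsymm : ∀ i j, c i j = c j i) (hoff : ∀ i j, i ≠ j → 0 ≤ c i j) (hm : ∀ i, 0 < m i)
    (hrow : ∀ i, ∑ j, m j * c i j ≤ 0) (a : ι → ℤ) :
    ∑ i, ∑ j, a i * a j * c i j ≤ 0 := by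
  have h := qf_nonpos_rat (fun i j => (c i j : ℚ)) (fun i => (m i : ℚ))
    (fun i j => by rw [hsymm i j]) (fun i j hij => by exact_mod_cast hoff i j hij)
    (fun i => by exact_mod_cast hm i) (fun i => by exact_mod_cast hrow i) (fun i => (a i : ℚ))
  exact_mod_cast h

/-- regrouping a quadratic form along a map of index sets -/
theorem sum_regroup {α β : Type*} [Fintype α] [Fintype β] [DecidableEq β] (φ : α → β)
    (a : α → ℤ) (Q : β → β → ℤ) :
    ∑ i, ∑ j, a i * a j * Q (φ i) (φ j) =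
      ∑ z, ∑ z', (∑ i ∈ Finset.univ.filter (fun i => φ i = z), a i) *
        (∑ j ∈ Finset.univ.filter (fun j => φ j = z'), a j) * Q z z' := by
  have h1 : ∀ z z', (∑ i ∈ Finset.univ.filter (fun i => φ i = z), a i) *
      (∑ j ∈ Finset.univ.filter (fun j => φ j = z'), a j) * Q z z' =
      ∑ i ∈ Finset.univ.filter (fun i => φ i = z),
        ∑ j ∈ Finset.univ.filter (fun j => φ j = z'), a i * a j * Q (φ i) (φ j) := by
    intro z z'
    rw [Finset.sum_mul_sum, Finset.sum_mul]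
    refine Finset.sum_congr rfl (fun i hi => ?_)
    rw [Finset.sum_mul]
    refine Finset.sum_congr rfl (fun j hj => ?_)
    rw [(Finset.mem_filter.1 hi).2, (Finset.mem_filter.1 hj).2]
  simp_rw [h1]
  have h2 : ∀ i, ∑ j, a i * a j * Q (φ i) (φ j) =
      ∑ z', ∑ j ∈ Finset.univ.filter (fun j => φ j = z'), a i * a j * Q (φ i) (φ j) := fun i =>
    (Finset.sum_fiberwise Finset.univ φ (fun j => a i * a j * Q (φ i) (φ j))).symm
  rw [← Finset.sum_fiberwise Finset.univ φ (fun i => ∑ j, a i * a j * Q (φ i) (φ j))]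
  refine Finset.sum_congr rfl (fun z _ => ?_)
  have h3 : ∑ z', ∑ i ∈ Finset.univ.filter (fun i => φ i = z),
        ∑ j ∈ Finset.univ.filter (fun j => φ j = z'), a i * a j * Q (φ i) (φ j) =
      ∑ i ∈ Finset.univ.filter (fun i => φ i = z), ∑ z',
        ∑ j ∈ Finset.univ.filter (fun j => φ j = z'), a i * a j * Q (φ i) (φ j) :=
    Finset.sum_comm
  rw [h3]
  refine Finset.sum_congr rfl (fun i _ => ?_)
  exact h2 i

end Groth.Agent.Lib.R2H4QuadNeg
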