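import Mathlib
import Groth.Prelude
import Groth.Agent.Lib.R2H4ModNegA
import Groth.Agent.Lib.R2H4ModOrd
import Groth.Agent.Lib.R2H4QuadNeg
import Groth.Agent.Lib.Helper6EquiSubB
import Groth.Agent.Lib.Helper18Cart1
import Groth.Agent.Lib.R2H1InvExists
import Groth.Agent.Lib.Helper11RedCl

/-!
# Vertical prime divisors of an arithmetic surface: the components of the closed fibre
(helper4, round 2)
-/

set_option autoImplicit false
set_option linter.style.haveILetI false
set_option linter.unusedSectionVars false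
universe u
open CategoryTheory CategoryTheory.Limits AlgebraicGeometry TopologicalSpace Opposite IsLocalRing

noncomputable section

namespace Groth.Agent.Lib.R2H4ModNegB

open Groth.Agent.Lib.R2H4ModSec Groth.Agent.Lib.R2H4ModComp Groth.Agent.Lib.R2H4ModProd
  Groth.Agent.Lib.R2H4ModDeg Groth.Agent.Lib.R2H4ModMain Groth.Agent.Lib.R2H4ModArith
  Groth.Agent.Lib.R2H4ModNegA Groth.Agent.Lib.R2H4TensorPows
  Groth.Agent.Lib.R2H1.SpecialFibreProd

theorem no_between (d : WithBot ℕ∞) (h1 : 1 < d) (h2 : d < 2) : False := by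
  induction d with
  | bot => exact absurd h1 (by simp)
  | coe e =>
    induction e with
    | top => exact absurd h2 (by decide)
    | coe n =>
      have h1' : 1 < n := by exact_mod_cast h1
      have h2' : n < 2 := by
        have h3 : ((n : ℕ∞) : WithBot ℕ∞) < ((2 : ℕ∞) : WithBot ℕ∞) := h2
        have h4 : (n : ℕ∞) < 2 := WithBot.coe_lt_coe.1 h3
        exact_mod_cast h4
      omega

variable {R : Type u} [CommRing R] [IsDomain R] [IsDiscreteValuationRing R]
  {X : Scheme.{u}} {p : X ⟶ Spec (CommRingCat.of R)}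

/-- a flat scheme over a discrete valuation ring has points outside the closed fibre -/
theorem exists_not_mem_fibre [Flat p] [Nonempty X] :
    ∃ x : X, x ∉ Models.specialFibreSet R (Over.mk p) := by
  obtain ⟨x⟩ := ‹Nonempty X›
  let η : Spec (CommRingCat.of R) := ⟨⊥, Ideal.isPrime_bot⟩
  have hsp : η ⤳ p.base x :=
    (PrimeSpectrum.le_iff_specializes (R := R) ⟨⊥, Ideal.isPrime_bot⟩ (p.base x)).1 bot_le
  obtain ⟨x', -, hx'⟩ := (Flat.generalizingMap p) hsp
  refine ⟨x', fun hmem => ?_⟩
  have h1 : p.base x' = closedPoint R := hmem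
  have h2 : (η : PrimeSpectrum R).asIdeal = (closedPoint R).asIdeal := by
    rw [← h1]
    exact congrArg PrimeSpectrum.asIdeal hx'.symm
  exact IsDiscreteValuationRing.not_a_field R h2.symm

section Comp

variable [IsIntegral X] (hdim : topologicalKrullDim X = 2) [Flat p]

include hdim in
/-- a vertical prime divisor is an irreducible component of the closed fibre -/
theorem range_mem_fibreComponents (Γ : ArSurf.VertComp R (Over.mk p)) :
    Set.range (Γ.ι.base : Γ.curve.left → X) ∈ Models.fibreComponents R (Over.mk p) := by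
  refine ⟨⟨isIrreducible_range Γ, range_subset_fibre Γ⟩, ?_⟩
  rintro S ⟨hS, hSf⟩ hle
  have hfcl : IsClosed (Models.specialFibreSet R (Over.mk p) : Set X) :=
    Models.isClosed_specialFibreSet R (Over.mk p)
  set T : Set X := closure S with hT
  have hTirr : IsIrreducible T := hS.closure
  have hTf : T ⊆ Models.specialFibreSet R (Over.mk p) := hfcl.closure_subset_iff.2 hSf
  have hTne : T ≠ Set.univ := by
    intro h
    obtain ⟨x, hx⟩ := exists_not_mem_fibre (R := R) (p := p)
    exact hx (hTf (h ▸ Set.mem_univ x))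
  have hunivdim : topologicalKrullDim (Set.univ : Set X) = 2 := by
    rw [← hdim]
    exact (IsHomeomorph.topologicalKrullDim_eq _
      (Homeomorph.Set.univ X).isHomeomorph)
  have hTlt : topologicalKrullDim T < 2 := by
    rw [← hunivdim]
    exact Groth.Agent.Lib.Helper8.Conn.dim_lt_of_proper_closed
      (IrreducibleSpace.isIrreducible_univ X) isClosed_closure (Set.subset_univ _) hTne
      (by rw [hunivdim]; decide)
  have hsub : Set.range (Γ.ι.base : Γ.curve.left → X) ⊆ T := hle.trans subset_closure
  have heq : Set.range (Γ.ι.base : Γ.curve.left → X) = T := by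
    by_contra hne
    have hlt := Groth.Agent.Lib.Helper8.Conn.dim_lt_of_proper_closed hTirr
      Γ.ι.isClosedEmbedding.isClosed_range hsub hne (lt_trans hTlt (by decide))
    rw [dim_range] at hlt
    exact no_between _ hlt hTlt
  change S ⊆ Set.range (Γ.ι.base : Γ.curve.left → X)
  rw [heq]
  exact subset_closure

end Comp

section Enum

theorem isClosed_of_mem_fibreComponents {Z : Set X}
    (hZ : Z ∈ Models.fibreComponents R (Over.mk p)) : IsClosed Z := by
  have hfcl : IsClosed (Models.specialFibreSet R (Over.mk p) : Set X) :=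
    Models.isClosed_specialFibreSet R (Over.mk p)
  have h1 : closure Z ⊆ Z :=
    hZ.2 ⟨hZ.1.1.closure, hfcl.closure_subset_iff.2 hZ.1.2⟩ subset_closure
  exact closure_subset_iff_isClosed.1 h1

theorem finite_fibreComponents [IsNoetherian X] :
    (Models.fibreComponents R (Over.mk p)).Finite := by
  classical
  have hfcl : IsClosed (Models.specialFibreSet R (Over.mk p) : Set X) :=
    Models.isClosed_specialFibreSet R (Over.mk p)
  obtain ⟨𝒮, h𝒮f, h𝒮c, h𝒮i, h𝒮U⟩ :=
    NoetherianSpace.exists_finite_set_isClosed_irreducible (α := X) hfcl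
  refine h𝒮f.subset ?_
  intro Z hZ
  have hsub : Z ⊆ ⋃₀ ((h𝒮f.toFinset : Finset (Set X)) : Set (Set X)) := by
    rw [Set.Finite.coe_toFinset, ← h𝒮U]
    exact hZ.1.2
  obtain ⟨T, hT, hZT⟩ := (isIrreducible_iff_sUnion_isClosed.1 hZ.1.1) h𝒮f.toFinset
    (fun z hz => h𝒮c z (h𝒮f.mem_toFinset.1 hz)) hsub
  have hT' : T ∈ 𝒮 := h𝒮f.mem_toFinset.1 hT
  have hTf : T ⊆ Models.specialFibreSet R (Over.mk p) := by
    rw [h𝒮U]
    exact Set.subset_sUnion_of_mem hT'
  have hTZ : T ⊆ Z := hZ.2 ⟨h𝒮i T hT', hTf⟩ hZT
  have : Z = T := Set.Subset.antisymm hZT hTZ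
  rw [this]
  exact hT'

/-- the components of the closed fibre of a regular flat model, as reduced effective Cartier
divisors, with the multiplicities of the fibre -/
theorem exists_components [Flat p] [IsNoetherian X]
    (hreg : ∀ x : X, IsRegularLocalRing (X.presheaf.stalk x)) :
    ∃ (n : ℕ) (E : Fin n → X.IdealSheafData) (m : Fin n → ℕ),
      (∀ c, BlowUp.IsEffCartierIdeal (E c)) ∧
      (∀ c, ((E c).support : Set X) ∈ Models.fibreComponents R (Over.mk p)) ∧
      Function.Injective (fun c => ((E c).support : Set X)) ∧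
      (∀ Z ∈ Models.fibreComponents R (Over.mk p), ∃ c, ((E c).support : Set X) = Z) ∧
      (∀ c, E c = Scheme.IdealSheafData.vanishingIdeal (E c).support) ∧
      Models.specialFibreIdeal R (Over.mk p) = ∏ c, E c ^ m c ∧
      (∀ c, 0 < m c) := by
  classical
  have hfin := finite_fibreComponents (R := R) (p := p)
  let D : X.IdealSheafData := Models.specialFibreIdeal R (Over.mk p)
  have hDsupp : (D.support : Set X) = Models.specialFibreSet R (Over.mk p) :=
    support_specialFibreIdeal R (Over.mk p)
  -- enumeration of the components of the fibre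
  let s : Finset (Set X) := hfin.toFinset
  let n : ℕ := s.card
  let en : Fin n ≃ s := s.equivFin.symm
  let Zs : Fin n → Set X := fun c => ((en c : s) : Set X)
  have hZmem : ∀ c, Zs c ∈ Models.fibreComponents R (Over.mk p) := fun c =>
    hfin.mem_toFinset.1 (en c).2
  have hZinj : Function.Injective Zs := fun c c' h => en.injective (Subtype.ext h)
  have hZsurj : ∀ Z ∈ Models.fibreComponents R (Over.mk p), ∃ c, Zs c = Z := fun Z hZ =>
    ⟨en.symm ⟨Z, hfin.mem_toFinset.2 hZ⟩, by
      change ((en (en.symm ⟨Z, hfin.mem_toFinset.2 hZ⟩) : s) : Set X) = Z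
      rw [Equiv.apply_symm_apply]⟩
  have hZcl : ∀ c, IsClosed (Zs c) := fun c => isClosed_of_mem_fibreComponents (hZmem c)
  let Zc : Fin n → Closeds X := fun c => ⟨Zs c, hZcl c⟩
  let E : Fin n → X.IdealSheafData := fun c => Scheme.IdealSheafData.vanishingIdeal (Zc c)
  have hEsupp : ∀ c, ((E c).support : Set X) = Zs c := fun c =>
    Scheme.IdealSheafData.coe_support_vanishingIdeal _
  have hgen : ∀ c, ∃ ξ : X, closure {ξ} = Zs c := fun c => by
    obtain ⟨ξ, hξ⟩ := QuasiSober.sober (hZmem c).1.1 (hZcl c)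
    exact ⟨ξ, hξ.def⟩
  choose ξ hξ using hgen
  have hint : ∀ c, IsIntegral (E c).subscheme := fun c => by
    haveI : IrreducibleSpace ↥(Scheme.IdealSheafData.vanishingIdeal (Zc c)).subscheme :=
      Groth.Agent.Lib.Helper6.EquiSub.irreducibleSpace_subscheme (X' := Zc c) (ξ c) (hξ c)
    haveI : IsReduced (Scheme.IdealSheafData.vanishingIdeal (Zc c)).subscheme :=
      Groth.Agent.Lib.Helper11RedCl.isReduced_subscheme_vanishingIdeal (Zc c)
    exact isIntegral_of_irreducibleSpace_of_isReduced _
  have hinjE : Function.Injective (fun c => ((E c).support : Set X)) := by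
    intro c c' h
    apply hZinj
    rw [← hEsupp c, ← hEsupp c']
    exact h
  have hrange : Set.range (fun c => ((E c).support : Set X)) =
      {Z | Maximal (fun S : Set X => IsIrreducible S ∧ S ⊆ (D.support : Set X)) Z} := by
    rw [hDsupp]
    ext Z
    constructor
    · rintro ⟨c, rfl⟩
      have hmx : Maximal (fun S : Set X => IsIrreducible S ∧
          S ⊆ Models.specialFibreSet R (Over.mk p)) ((E c).support : Set X) := by
        rw [hEsupp c]
        exact hZmem c
      exact hmx
    · intro hZ
      obtain ⟨c, hc⟩ := hZsurj Z hZ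
      exact ⟨c, by change ((E c).support : Set X) = Z; rw [hEsupp c, hc]⟩
  obtain ⟨hEcart, hD⟩ := main_abstract X hreg D
    (isEffCartier_specialFibreIdeal R X p) E hint ξ
    (fun c => by rw [hξ c, hEsupp c]) hinjE hrange
  refine ⟨n, E, fun c => (Module.length (X.presheaf.stalk (ξ c))
    (X.presheaf.stalk (ξ c) ⧸ IntMult.stalkIdeal D (ξ c))).toNat, hEcart, ?_, hinjE, ?_, ?_, hD, ?_⟩
  · intro c
    rw [hEsupp c]
    exact hZmem c
  · intro Z hZ
    obtain ⟨c, hc⟩ := hZsurj Z hZ
    exact ⟨c, by rw [hEsupp c, hc]⟩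
  · intro c
    change Scheme.IdealSheafData.vanishingIdeal (Zc c) = _
    have hZE : Zc c = (E c).support := SetLike.coe_injective (hEsupp c).symm
    rw [← hZE]
  · intro c
    by_contra h0
    have h0' : (Module.length (X.presheaf.stalk (ξ c))
      (X.presheaf.stalk (ξ c) ⧸ IntMult.stalkIdeal D (ξ c))).toNat = 0 :=
      Nat.eq_zero_of_not_pos h0
    have hξf : ξ c ∈ (D.support : Set X) := by
      rw [hDsupp]
      exact (hZmem c).1.2 (by rw [← hξ c]; exact subset_closure rfl)
    rw [SetLike.mem_coe, hD, mem_support_prod_pow] at hξf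
    obtain ⟨c', -, hc', hξc'⟩ := hξf
    have hne : c ≠ c' := by
      rintro rfl
      exact hc' h0'
    have hsub : Zs c ⊆ Zs c' := by
      rw [← hξ c]
      refine (IsClosed.closure_subset_iff (hZcl c')).2 (Set.singleton_subset_iff.2 ?_)
      rw [← hEsupp c']
      exact hξc'
    have hsup : Zs c' ⊆ Zs c := (hZmem c).2 (hZmem c').1 hsub
    exact hne (hZinj (Set.Subset.antisymm hsub hsup))

end Enum

end Groth.Agent.Lib.R2H4ModNegB
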