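import Mathlib
import Groth.Prelude
import Groth.Agent.Lib.R2H4ModNegB

/-!
# Negative semi-definiteness of the intersection form on the closed fibre of an arithmetic surface
(helper4, round 2)
-/

set_option autoImplicit false
set_option linter.style.haveILetI false
set_option linter.unusedSectionVars false
universe u
open CategoryTheory CategoryTheory.Limits AlgebraicGeometry TopologicalSpace Opposite IsLocalRing

noncomputable section

namespace Groth.Agent.Lib.R2H4ModNegC

open Groth.Agent.Lib.R2H4ModSec Groth.Agent.Lib.R2H4ModComp Groth.Agent.Lib.R2H4ModProd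
  Groth.Agent.Lib.R2H4ModDeg Groth.Agent.Lib.R2H4ModMain Groth.Agent.Lib.R2H4ModArith
  Groth.Agent.Lib.R2H4ModNegA Groth.Agent.Lib.R2H4ModNegB Groth.Agent.Lib.R2H4TensorPows
  Groth.Agent.Lib.R2H1.SpecialFibreProd

section Inv

variable {X : Scheme.{u}}

theorem nonempty_iso_of_ideal_eq {J J' : X.IdealSheafData} (h : J = J') (L L' : X.Modules)
    (e : CohB1.tensorMod L (ClSub.idealMod J) ≅ Coh.structureModule X)
    (e' : CohB1.tensorMod L' (ClSub.idealMod J') ≅ Coh.structureModule X) :
    Nonempty (L ≅ L') := by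
  subst h
  exact nonempty_iso_of_inverse L L' _ e e'

/-- tensor inverses of the ideal sheaves of effective Cartier divisors on an integral scheme -/
theorem exists_inverses [IsIntegral X] {n : ℕ} (E : Fin n → X.IdealSheafData)
    (hE : ∀ c, BlowUp.IsEffCartierIdeal (E c)) :
    ∃ L' : Fin n → X.Modules, ∀ c,
      Nonempty (CohB1.tensorMod (L' c) (ClSub.idealMod (E c)) ≅ Coh.structureModule X) := by
  have hex : ∀ c, ∃ M : X.Modules,
      Nonempty (CohB1.tensorMod M (ClSub.idealMod (E c)) ≅ Coh.structureModule X) := fun c => by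
    obtain ⟨M, -, ⟨e⟩⟩ := Groth.Agent.Lib.R2H1.InvExists.exists_inverse _
      (Groth.Agent.Helper18Cart.isInvertible_of_isEffCartier _ (hE c))
    exact ⟨M, ⟨tComm _ _ ≪≫ e⟩⟩
  choose L' hL' using hex
  exact ⟨L', hL'⟩

end Inv

variable {R : Type u} [CommRing R] [IsDomain R] [IsDiscreteValuationRing R]
  {X : Scheme.{u}} {p : X ⟶ Spec (CommRingCat.of R)}

section Row

variable [Flat p] [IsProper p] {n : ℕ} (E : Fin n → X.IdealSheafData) (m : Fin n → ℕ)
  (hD : Models.specialFibreIdeal R (Over.mk p) = ∏ c, E c ^ m c)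
  (L' : Fin n → X.Modules)
  (e' : ∀ c, CohB1.tensorMod (L' c) (ClSub.idealMod (E c)) ≅ Coh.structureModule X)

include hD e' in
/-- the closed fibre is numerically trivial on every vertical prime divisor -/
theorem row_all (Γ : ArSurf.VertComp R (Over.mk p)) :
    ∑ c, (m c : ℤ) * ArSurf.inter R (Over.mk p) (L' c) Γ = 0 := by
  haveI := isProper_curve Γ
  have hL'inv : ∀ c, PicF.IsInvertible (L' c) := fun c => isInvertible_of_iso _ (L' c) (e' c)
  obtain ⟨φ⟩ := Groth.Agent.Lib.R2H4ModOrd.nonempty_iso_of_zeroScheme (p := p)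
    (bigMod n L' m) (isInvertible_bigMod n L' m hL'inv)
    (bigSec n L' (fun c => canSec (E c) (L' c) (e' c)) m)
    (by
      rw [zeroScheme_bigSec n L' _ m hL'inv]
      refine Eq.trans ?_ hD.symm
      refine Finset.prod_congr rfl (fun c _ => ?_)
      rw [zeroScheme_canSec _ _ (hL'inv c) (e' c)])
  let ιi : Γ.curve.left ⟶ X := Γ.ι
  have hA := deg_pullback_bigMod (ResidueField R) Γ.curve.left ιi Γ.dim_eq n L' m hL'inv
  have hB := deg_congr (ResidueField R) Γ.curve.left
    ((Scheme.Modules.pullback ιi).mapIso φ.symm)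
  have hC := deg_congr (ResidueField R) Γ.curve.left
    (Groth.Agent.Lib.Helper23.PB.pullbackUnitIso ιi)
  have hD2 := deg_structure (ResidueField R) Γ.curve.left
  have h1 : ∀ c, ArSurf.inter R (Over.mk p) (L' c) Γ =
      @Curv2.deg (ResidueField R) _ Γ.curve.left _
        ((Scheme.Modules.pullback ιi).obj (L' c)) 1 := fun c => inter_eq_deg Γ (L' c)
  rw [Finset.sum_congr rfl (fun c _ => by rw [h1 c])]
  exact hA.symm.trans (hB.trans (hC.trans hD2))

end Row

section Main

variable [IsProper p] [Flat p] [IsIntegral X]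
  (hreg : ∀ x : X, IsRegularLocalRing (X.presheaf.stalk x))
  (hdim : topologicalKrullDim X = 2)

include hreg hdim in
/-- **negative semi-definiteness** for pairwise distinct vertical prime divisors -/
theorem neg_semidef {ι : Type*} [Fintype ι] (Γ : ι → ArSurf.VertComp R (Over.mk p))
    (hinj : Function.Injective fun i => Set.range ((Γ i).ι.base : (Γ i).curve.left → X))
    (L : ι → X.Modules)
    (hL : ∀ i, ClSub.IsInverseOf (L i) (ClSub.idealMod (kerOf (Γ i)))) (a : ι → ℤ) :
    ∑ i, ∑ j, a i * a j * ArSurf.inter R (Over.mk p) (L j) (Γ i) ≤ 0 := by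
  classical
  haveI : IsLocallyNoetherian X := LocallyOfFiniteType.isLocallyNoetherian p
  haveI : CompactSpace X := QuasiCompact.compactSpace_of_compactSpace p
  haveI : IsNoetherian X := {}
  obtain ⟨n, E, nn, hEcart, hEmem, hEinj, hEsurj, hErad, hD', hnnpos⟩ :=
    exists_components (R := R) (p := p) hreg
  obtain ⟨L', hL'⟩ := exists_inverses E hEcart
  have e' : ∀ c, CohB1.tensorMod (L' c) (ClSub.idealMod (E c)) ≅ Coh.structureModule X :=
    fun c => (hL' c).some
  -- the given divisors among the components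
  have hcomp : ∀ i, ∃ c, ((E c).support : Set X) =
      Set.range ((Γ i).ι.base : (Γ i).curve.left → X) := fun i =>
    hEsurj _ (range_mem_fibreComponents hdim (Γ i))
  choose cOf hcOf using hcomp
  have hcOfinj : Function.Injective cOf := fun i j h => hinj (by
    change Set.range ((Γ i).ι.base : (Γ i).curve.left → X) =
      Set.range ((Γ j).ι.base : (Γ j).curve.left → X)
    rw [← hcOf i, ← hcOf j, h])
  have hEker : ∀ i, E (cOf i) = kerOf (Γ i) := fun i => by
    rw [ker_eq_vanishingIdeal, hErad (cOf i)]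
    congr 1
    exact SetLike.coe_injective (hcOf i)
  have hiso : ∀ i, Nonempty (L i ≅ L' (cOf i)) := fun i => by
    obtain ⟨e⟩ := hL i
    exact nonempty_iso_of_ideal_eq (hEker i).symm (L i) (L' (cOf i)) e (e' (cOf i))
  have hnonneg : ∀ i c, c ∉ Set.range cOf →
      0 ≤ ArSurf.inter R (Over.mk p) (L' c) (Γ i) := fun i c hc => by
    refine inter_nonneg (Γ i) (E c) (L' c) (e' c) ?_
    intro hsub
    have hsub' : ((E (cOf i)).support : Set X) ⊆ ((E c).support : Set X) := by
      rw [hcOf i]; exact hsub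
    have h1 : ((E c).support : Set X) ⊆ ((E (cOf i)).support : Set X) :=
      (hEmem (cOf i)).2 (hEmem c).1 hsub'
    exact hc ⟨i, (hEinj (Set.Subset.antisymm h1 hsub')).symm⟩
  have hrow : ∀ i, ∑ j, (nn (cOf j) : ℤ) * ArSurf.inter R (Over.mk p) (L j) (Γ i) ≤ 0 :=
    fun i => by
    have h0 := row_all E nn hD' L' e' (Γ i)
    rw [← Finset.sum_add_sum_compl (Finset.univ.image cOf)] at h0
    have h1 : ∑ c ∈ Finset.univ.image cOf,
        (nn c : ℤ) * ArSurf.inter R (Over.mk p) (L' c) (Γ i) =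
        ∑ j, (nn (cOf j) : ℤ) * ArSurf.inter R (Over.mk p) (L j) (Γ i) := by
      rw [Finset.sum_image (fun a _ b _ h => hcOfinj h)]
      refine Finset.sum_congr rfl (fun j _ => ?_)
      obtain ⟨ψ⟩ := hiso j
      rw [inter_congr (Γ i) ψ]
    have h2 : 0 ≤ ∑ c ∈ (Finset.univ.image cOf)ᶜ,
        (nn c : ℤ) * ArSurf.inter R (Over.mk p) (L' c) (Γ i) :=
      Finset.sum_nonneg (fun c hc => mul_nonneg (Nat.cast_nonneg _)
        (hnonneg i c (fun ⟨j, hj⟩ => (Finset.mem_compl.1 hc)
          (Finset.mem_image.2 ⟨j, Finset.mem_univ _, hj⟩))))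
    rw [h1] at h0
    linarith
  have hsymm : ∀ i j, ArSurf.inter R (Over.mk p) (L j) (Γ i) =
      ArSurf.inter R (Over.mk p) (L i) (Γ j) := fun i j => by
    by_cases hij : i = j
    · subst hij
      rfl
    · exact s8730 (Γ i) (Γ j) (L i) (L j) (hL i) (hL j) (fun h => hij (hinj h))
  have hoff : ∀ i j, i ≠ j → 0 ≤ ArSurf.inter R (Over.mk p) (L j) (Γ i) := fun i j hij => by
    obtain ⟨e⟩ := hL j
    refine inter_nonneg (Γ i) (kerOf (Γ j)) (L j) e ?_
    rw [support_ker_eq_range (Γ j)]
    exact fun h => hij (hinj (range_eq_of_subset (Γ i) (Γ j) h))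
  exact Groth.Agent.Lib.R2H4QuadNeg.qf_nonpos
    (fun i j => ArSurf.inter R (Over.mk p) (L j) (Γ i)) (fun j => (nn (cOf j) : ℤ))
    hsymm hoff (fun j => by exact_mod_cast hnnpos _) hrow a

include hreg hdim in
/-- **negative semi-definiteness** for arbitrary (possibly repeated) vertical prime divisors -/
theorem neg_semidef_general {r : ℕ} (Γ : Fin r → ArSurf.VertComp R (Over.mk p))
    (L : Fin r → X.Modules)
    (hL : ∀ i, ClSub.IsInverseOf (L i) (ClSub.idealMod (kerOf (Γ i)))) (a : Fin r → ℤ) :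
    ∑ i, ∑ j, a i * a j * ArSurf.inter R (Over.mk p) (L j) (Γ i) ≤ 0 := by
  classical
  let rng : Fin r → Set X := fun i => Set.range ((Γ i).ι.base : (Γ i).curve.left → X)
  let S : Finset (Set X) := Finset.univ.image rng
  let φ : Fin r → S := fun i => ⟨rng i, Finset.mem_image_of_mem _ (Finset.mem_univ i)⟩
  have hrep : ∀ b : S, ∃ i, rng i = b.1 := fun b => by
    obtain ⟨i, -, hi⟩ := Finset.mem_image.1 b.2
    exact ⟨i, hi⟩
  choose rep hrepeq using hrep
  have hinj : Function.Injective fun b : S =>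
      Set.range ((Γ (rep b)).ι.base : (Γ (rep b)).curve.left → X) := fun b b' h => by
    apply Subtype.ext
    rw [← hrepeq b, ← hrepeq b']
    exact h
  have hmain := neg_semidef hreg hdim (fun b : S => Γ (rep b)) hinj (fun b => L (rep b))
    (fun b => hL (rep b))
    (fun z => ∑ i ∈ Finset.univ.filter (fun i => φ i = z), a i)
  have hinv : ∀ i j, ArSurf.inter R (Over.mk p) (L j) (Γ i) =
      ArSurf.inter R (Over.mk p) (L (rep (φ j))) (Γ (rep (φ i))) := fun i j => by
    have hi : rng (rep (φ i)) = rng i := hrepeq (φ i)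
    have hj : rng (rep (φ j)) = rng j := hrepeq (φ j)
    have hki : kerOf (Γ i) = kerOf (Γ (rep (φ i))) := ker_eq_of_range_eq _ _ hi.symm
    have hkj : kerOf (Γ j) = kerOf (Γ (rep (φ j))) := ker_eq_of_range_eq _ _ hj.symm
    obtain ⟨e⟩ := hL j
    obtain ⟨e2⟩ := hL (rep (φ j))
    obtain ⟨ψ⟩ := nonempty_iso_of_ideal_eq hkj (L j) (L (rep (φ j))) e e2
    haveI : (L (rep (φ j))).IsQuasicoherent :=
      Groth.Agent.Lib.Helper20.WeakAss.isQuasicoherent_of_isInvertible _
        (isInvertible_of_iso _ _ e2)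
    rw [inter_congr (Γ i) ψ]
    exact inter_eq_of_ker_eq (Γ i) (Γ (rep (φ i))) hki _
  have hre := Groth.Agent.Lib.R2H4QuadNeg.sum_regroup φ a
    (fun z z' => ArSurf.inter R (Over.mk p) (L (rep z')) (Γ (rep z)))
  have hgoal : ∑ i, ∑ j, a i * a j * ArSurf.inter R (Over.mk p) (L j) (Γ i) =
      ∑ i, ∑ j, a i * a j * ArSurf.inter R (Over.mk p) (L (rep (φ j))) (Γ (rep (φ i))) :=
    Finset.sum_congr rfl (fun i _ => Finset.sum_congr rfl (fun j _ => by rw [hinv i j]))
  rw [hgoal, hre]
  exact hmain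

end Main

end Groth.Agent.Lib.R2H4ModNegC
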