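import Mathlib
import Groth.Prelude.Def_FGA
import Groth.Agent.Lib.R2H4TensorPows
import Groth.Agent.Lib.R2H4NumPoly

/-! Bridging `FGA.tensorList` / `FGA.multiTwist` with `Curv2.tensorPows` (helper4, round 2). -/
set_option autoImplicit false
set_option linter.style.haveILetI false
universe u
open CategoryTheory CategoryTheory.Limits AlgebraicGeometry

namespace Groth.Agent.Lib.R2H4FGABridge

open Groth.Agent.Lib.R2H4TensorPows

variable {X : Scheme.{u}}

/-- `tensorList (l ++ [A]) ≅ tensorList l ⊗ A` -/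
noncomputable def listSnoc (A : X.Modules) :
    ∀ l : List X.Modules, FGA.tensorList (l ++ [A]) ≅ CohB1.tensorMod (FGA.tensorList l) A
  | [] => tComm A (Coh.structureModule X)
  | M :: l => tIso (Iso.refl M) (listSnoc A l) ≪≫ (tAssoc M (FGA.tensorList l) A).symm

/-- `tensorPows O r L n ≅ multiTwist L n` -/
theorem nonempty_pows_multiTwist :
    ∀ (r : ℕ) (L : Fin r → X.Modules) (n : Fin r → ℕ),
      Nonempty (Curv2.tensorPows (Coh.structureModule X) r L n ≅ FGA.multiTwist L n)
  | 0, _, _ => ⟨Iso.refl _⟩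
  | r + 1, L, n => by
    obtain ⟨e⟩ := nonempty_pows_multiTwist r (fun i => L i.castSucc) (fun i => n i.castSucc)
    have h : FGA.multiTwist L n =
        FGA.tensorList (((List.finRange r).map fun i : Fin r =>
          CohB1.tensorPow (L i.castSucc) (n i.castSucc)) ++
          [CohB1.tensorPow (L (Fin.last r)) (n (Fin.last r))]) := by
      unfold FGA.multiTwist
      rw [List.finRange_succ_last, List.map_append, List.map_map]
      rfl
    rw [h]
    exact ⟨tIso e (Iso.refl _) ≪≫ (listSnoc _ _).symm⟩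

/-- `multiTwist L n ⊗ F ≅ tensorPows F r L n` -/
theorem nonempty_multiTwist_tensor (F : X.Modules) (r : ℕ) (L : Fin r → X.Modules) (n : Fin r → ℕ) :
    Nonempty (CohB1.tensorMod (FGA.multiTwist L n) F ≅ Curv2.tensorPows F r L n) := by
  obtain ⟨e⟩ := nonempty_pows_multiTwist r L n
  exact ⟨tIso e.symm (Iso.refl F) ≪≫ (powsIsoTensor F r L n).symm⟩

/-- `tensorList` is invariant under permutations -/
theorem nonempty_tensorList_perm {l l' : List X.Modules} (h : l.Perm l') :
    Nonempty (FGA.tensorList l ≅ FGA.tensorList l') := by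
  induction h with
  | nil => exact ⟨Iso.refl _⟩
  | cons x _ ih =>
    obtain ⟨e⟩ := ih
    exact ⟨tIso (Iso.refl x) e⟩
  | swap x y l =>
    exact ⟨(tAssoc y x (FGA.tensorList l)).symm ≪≫ tIso (tComm y x) (Iso.refl _) ≪≫
      tAssoc x y (FGA.tensorList l)⟩
  | trans _ _ ih₁ ih₂ =>
    obtain ⟨e₁⟩ := ih₁
    obtain ⟨e₂⟩ := ih₂
    exact ⟨e₁ ≪≫ e₂⟩

/-- entrywise isomorphic lists have isomorphic tensor products -/
theorem nonempty_tensorList_map {ι : Type*} (f g : ι → X.Modules) (h : ∀ i, Nonempty (f i ≅ g i)) :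
    ∀ l : List ι, Nonempty (FGA.tensorList (l.map f) ≅ FGA.tensorList (l.map g))
  | [] => ⟨Iso.refl _⟩
  | a :: l => by
    obtain ⟨e⟩ := nonempty_tensorList_map f g h l
    obtain ⟨e'⟩ := h a
    exact ⟨tIso e' e⟩

/-- dropping structure-sheaf factors -/
theorem nonempty_tensorList_filter {ι : Type*} (M : ι → X.Modules) (p : ι → Prop) [DecidablePred p] :
    ∀ l : List ι, Nonempty (FGA.tensorList ((l.filter p).map M) ≅
      FGA.tensorList (l.map fun i => if p i then M i else Coh.structureModule X))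
  | [] => ⟨Iso.refl _⟩
  | a :: l => by
    obtain ⟨e⟩ := nonempty_tensorList_filter M p l
    by_cases ha : p a
    · rw [List.filter_cons_of_pos (by simpa using ha)]
      simp only [List.map_cons, if_pos ha]
      exact ⟨tIso (Iso.refl _) e⟩
    · rw [List.filter_cons_of_neg (by simpa using ha)]
      simp only [List.map_cons, if_neg ha]
      exact ⟨e ≪≫ (lUnit _).symm⟩

/-- `(⊗_{i ∈ I} M_i) ⊗ F ≅ tensorPows F r M (ind I)` -/
theorem nonempty_sort_tensor (F : X.Modules) (r : ℕ) (M : Fin r → X.Modules) (I : Finset (Fin r)) :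
    Nonempty (CohB1.tensorMod (FGA.tensorList ((I.sort (· ≤ ·)).map M)) F ≅
      Curv2.tensorPows F r M (Groth.Agent.Lib.R2H4NumPoly.ind I)) := by
  have hperm : (I.sort (· ≤ ·)).Perm ((List.finRange r).filter (· ∈ I)) := by
    rw [List.perm_ext_iff_of_nodup (Finset.sort_nodup _ _)
      ((List.nodup_finRange r).filter _)]
    intro a
    simp
  obtain ⟨e₁⟩ := nonempty_tensorList_perm (hperm.map M)
  obtain ⟨e₂⟩ := nonempty_tensorList_filter M (· ∈ I) (List.finRange r)
  obtain ⟨e₃⟩ := nonempty_tensorList_map (fun i => if i ∈ I then M i else Coh.structureModule X)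
    (fun i => CohB1.tensorPow (M i) (Groth.Agent.Lib.R2H4NumPoly.ind I i)) (fun i => by
      by_cases hi : i ∈ I
      · simp only [if_pos hi, Groth.Agent.Lib.R2H4NumPoly.ind]
        exact ⟨(lUnit (M i)).symm⟩
      · simp only [if_neg hi, Groth.Agent.Lib.R2H4NumPoly.ind]
        exact ⟨Iso.refl _⟩) (List.finRange r)
  obtain ⟨e₄⟩ := nonempty_multiTwist_tensor F r M (Groth.Agent.Lib.R2H4NumPoly.ind I)
  exact ⟨tIso (e₁ ≪≫ e₂ ≪≫ e₃) (Iso.refl F) ≪≫ e₄⟩

end Groth.Agent.Lib.R2H4FGABridge
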