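import Mathlib
import Groth.Prelude
import Groth.Agent.Lib.R2H4ModMain2
import Groth.Agent.Lib.R2H4ModOrd
import Groth.Agent.Lib.R2H4FGABridge
import Groth.Agent.Lib.R2H4ModNegB

/-!
# Relations between the twists `O_X(Σ a_i Γ_i)` by components of the closed fibre
(helper4, round 2)
-/

set_option autoImplicit false
set_option linter.style.haveILetI false
set_option linter.unusedSectionVars false
universe u
open CategoryTheory CategoryTheory.Limits AlgebraicGeometry TopologicalSpace Opposite IsLocalRing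

noncomputable section

namespace Groth.Agent.Lib.R2H4MultiTwist

open Groth.Agent.Lib.R2H4TensorPows Groth.Agent.Lib.R2H4ModProd Groth.Agent.Lib.R2H4ModSec
  Groth.Agent.Lib.Helper6 Groth.Agent.Lib.Helper23.GenLocus
  Groth.Agent.Lib.Helper23.SecTw

section Isos

variable {X : Scheme.{u}}

/-- `L^{a+b} ≅ L^a ⊗ L^b` -/
def powAdd (L : X.Modules) (a : ℕ) : ∀ b : ℕ,
    CohB1.tensorPow L (a + b) ≅ CohB1.tensorMod (CohB1.tensorPow L a) (CohB1.tensorPow L b)
  | 0 => (rUnit _).symm
  | b + 1 => tIso (powAdd L a b) (Iso.refl L) ≪≫ tAssoc _ _ _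

/-- `(A ⊗ B) ⊗ (C ⊗ D) ≅ (A ⊗ C) ⊗ (B ⊗ D)` -/
def interchange (A B C D : X.Modules) :
    CohB1.tensorMod (CohB1.tensorMod A B) (CohB1.tensorMod C D) ≅
      CohB1.tensorMod (CohB1.tensorMod A C) (CohB1.tensorMod B D) :=
  tAssoc A B (CohB1.tensorMod C D) ≪≫
    tIso (Iso.refl A) ((tAssoc B C D).symm ≪≫ tIso (tComm B C) (Iso.refl D) ≪≫ tAssoc C B D) ≪≫
    (tAssoc A C (CohB1.tensorMod B D)).symm

/-- `⊗ L_i^{x_i + y_i} ≅ (⊗ L_i^{x_i}) ⊗ (⊗ L_i^{y_i})` -/
def bigAdd : ∀ (n : ℕ) (L : Fin n → X.Modules) (x y : Fin n → ℕ),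
    bigMod n L (x + y) ≅ CohB1.tensorMod (bigMod n L x) (bigMod n L y)
  | 0, _, _, _ => (rUnit _).symm
  | n + 1, L, x, y =>
    tIso (bigAdd n (fun i => L i.castSucc) (fun i => x i.castSucc) (fun i => y i.castSucc))
      (powAdd (L (Fin.last n)) (x (Fin.last n)) (y (Fin.last n))) ≪≫ interchange _ _ _ _

/-- `⊗ L_i^0 ≅ O` -/
def bigZero : ∀ (n : ℕ) (L : Fin n → X.Modules), bigMod n L 0 ≅ Coh.structureModule X
  | 0, _ => Iso.refl _
  | n + 1, L => tIso (bigZero n (fun i => L i.castSucc)) (Iso.refl _) ≪≫ rUnit _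

theorem nonempty_big_smul (n : ℕ) (L : Fin n → X.Modules) (m : Fin n → ℕ)
    (h : Nonempty (bigMod n L m ≅ Coh.structureModule X)) :
    ∀ c : ℕ, Nonempty (bigMod n L (c • m) ≅ Coh.structureModule X)
  | 0 => by
    rw [zero_smul]
    exact ⟨bigZero n L⟩
  | c + 1 => by
    obtain ⟨e⟩ := h
    obtain ⟨e'⟩ := nonempty_big_smul n L m ⟨e⟩ c
    rw [add_smul, one_smul]
    exact ⟨bigAdd n L (c • m) m ≪≫ tIso e' e ≪≫ lUnit _⟩

end Isos

section Zero

variable {X : Scheme.{u}}

theorem zeroIdealOn_comp_iso {L L' : X.Modules} (e : L ≅ L')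
    (s : Coh.structureModule X ⟶ L) (U : X.Opens) :
    PicF2.zeroIdealOn L' (s ≫ e.hom) U = PicF2.zeroIdealOn L s U := by
  have hφψ : ∀ m' : L'.val.obj (op U),
      (e.hom.val.app (op U)).hom ((e.inv.val.app (op U)).hom m') = m' := by
    intro m'
    have h := congrArg (fun t : L' ⟶ L' => (t.val.app (op U)).hom m') e.inv_hom_id
    exact h
  have hψφ : ∀ m : L.val.obj (op U),
      (e.inv.val.app (op U)).hom ((e.hom.val.app (op U)).hom m) = m := by
    intro m
    have h := congrArg (fun t : L ⟶ L => (t.val.app (op U)).hom m) e.hom_inv_id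
    exact h
  have hsec : PicF2.secVal L' (s ≫ e.hom) U =
      (e.hom.val.app (op U)).hom (PicF2.secVal L s U) := rfl
  ext a
  constructor
  · intro ha m
    obtain ⟨b, hb⟩ := ha ((e.hom.val.app (op U)).hom m)
    refine ⟨b, ?_⟩
    have h := congrArg (e.inv.val.app (op U)).hom hb
    rw [map_smul, map_smul, hsec, hψφ, hψφ] at h
    exact h
  · intro ha m'
    obtain ⟨b, hb⟩ := ha ((e.inv.val.app (op U)).hom m')
    refine ⟨b, ?_⟩
    have h := congrArg (e.hom.val.app (op U)).hom hb
    rw [map_smul, map_smul, hφψ] at h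
    rw [hsec]
    exact h

/-- the zero scheme of a section does not change under an isomorphism of the module -/
theorem zeroScheme_comp_iso {L L' : X.Modules} (e : L ≅ L')
    (s : Coh.structureModule X ⟶ L) :
    PicF2.zeroScheme L' (s ≫ e.hom) = PicF2.zeroScheme L s := by
  unfold PicF2.zeroScheme
  congr 1
  funext U
  exact zeroIdealOn_comp_iso e s U.1

/-- the zero scheme of an endomorphism of the structure sheaf is the principal ideal of the
corresponding global function -/
theorem zeroScheme_endo_ideal (σ : Coh.structureModule X ⟶ Coh.structureModule X)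
    (V : X.affineOpens) :
    (PicF2.zeroScheme (Coh.structureModule X) σ).ideal V =
      Ideal.span {Groth.Agent.Lib.R2H4ModTriv.rT
        (Groth.Agent.Lib.Helper23.GenLocus.ofS ⊤ (sv σ ⊤)) V.1} := by
  have hO := Groth.Agent.Lib.Helper23.TensorUnit.isInvertible_structureModule X
  obtain ⟨a, ha, hJ⟩ := Groth.Agent.Lib.R2H1.ZeroSchemeMul.exists_coef_ideal
    (Coh.structureModule X) hO σ V _ (isGen_one V.1)
  rw [hJ]
  congr 2
  have h1 : sv σ V.1 = Groth.Agent.Lib.Helper23.GenLocus.toS V.1 a := by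
    rw [ha, Groth.Agent.Lib.Helper23.GenLocus.smul_toS, mul_one]
  have h2 : res (Coh.structureModule X) (le_top : V.1 ≤ ⊤) (sv σ ⊤) = sv σ V.1 := res_sv σ le_top
  have h3 : Groth.Agent.Lib.Helper23.GenLocus.ofS V.1 (sv σ V.1) = a := by
    rw [h1]
    rfl
  rw [← h3, ← h2]
  rfl

end Zero

section Unique

open Groth.Agent.Lib.R2H1.SpecialFibreProd Groth.Agent.Lib.R2H1.CartierProd
  Groth.Agent.Lib.R2H1.IntMultCartier

/-- exponents of a product of powers of the prime components of an effective Cartier divisor on a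
regular scheme are determined by the product (lengths at the generic points) -/
theorem exponent_unique_abstract (X : Scheme.{u}) [IsLocallyNoetherian X]
    (hreg : ∀ x : X, IsRegularLocalRing (X.presheaf.stalk x))
    (D : X.IdealSheafData) (hD : BlowUp.IsEffCartierIdeal D) {n : ℕ}
    (E : Fin n → X.IdealSheafData) (hint : ∀ i, IsIntegral (E i).subscheme)
    (ξ : Fin n → X) (hξ : ∀ i, closure {ξ i} = ((E i).support : Set X))
    (hinj : Function.Injective (fun i => ((E i).support : Set X)))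
    (hrange : Set.range (fun i => ((E i).support : Set X)) =
      {Z | Maximal (fun S : Set X => IsIrreducible S ∧ S ⊆ (D.support : Set X)) Z})
    (x y : Fin n → ℕ) (h : ∏ i, E i ^ x i = ∏ i, E i ^ y i) : x = y := by
  have hmaxset : ∀ i, Maximal (fun S : Set X => IsIrreducible S ∧ S ⊆ (D.support : Set X))
      ((E i).support : Set X) := by
    intro i
    have : ((E i).support : Set X) ∈ Set.range (fun i => ((E i).support : Set X)) := ⟨i, rfl⟩
    rw [hrange] at this
    exact this
  have hmaxpt : ∀ i, ∀ ζ ∈ D.support, ζ ⤳ ξ i → ζ = ξ i := fun i =>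
    maximal_point_of_maximal (D.support : Set X) D.support.isClosed (ξ i)
      (by rw [hξ i]; exact hmaxset i)
  have hξD : ∀ i, ξ i ∈ D.support := by
    intro i
    apply (hmaxset i).1.2
    rw [← hξ i]
    exact subset_closure rfl
  have hdim : ∀ i, ringKrullDim (X.presheaf.stalk (ξ i)) = 1 := fun i =>
    ringKrullDim_stalk_eq_one D hD (ξ i) (hξD i) (hmaxpt i)
  have hnotmem : ∀ i j, j ≠ i → ξ i ∉ (E j).support := by
    intro i j hji hmem
    apply hji
    apply hinj
    show ((E j).support : Set X) = ((E i).support : Set X)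
    have h1 : ((E i).support : Set X) ⊆ ((E j).support : Set X) := by
      rw [← hξ i]
      exact (E j).support.isClosed.closure_subset_iff.mpr (Set.singleton_subset_iff.mpr hmem)
    exact Set.Subset.antisymm ((hmaxset i).2 (hmaxset j).1 h1) h1
  have hst : ∀ (z : Fin n → ℕ) (i : Fin n), IntMult.stalkIdeal (∏ j, E j ^ z j) (ξ i) =
      maximalIdeal (X.presheaf.stalk (ξ i)) ^ z i := by
    intro z i
    haveI := hint i
    rw [stalkIdeal_prod, Finset.prod_eq_single i]
    · rw [stalkIdeal_pow, stalkIdeal_of_closure_eq (E i) (ξ i) (hξ i)]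
    · intro j _ hj
      rw [stalkIdeal_pow, stalkIdeal_eq_top_of_notMem (E j) (ξ i) (hnotmem i j hj),
        ← Ideal.one_eq_top, one_pow]
    · intro h; exact absurd (Finset.mem_univ i) h
  funext i
  haveI := hreg (ξ i)
  have h1 := hst x i
  rw [h, hst y i] at h1
  have h2 := length_quot_pow_dim_one _ (hdim i) (x i)
  rw [← h1, length_quot_pow_dim_one _ (hdim i) (y i)] at h2
  exact_mod_cast h2.symm

end Unique

section Fibre

open Groth.Agent.Lib.R2H1.SpecialFibreProd Groth.Agent.Lib.R2H4ModMain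
  Groth.Agent.Lib.R2H4ModTriv Groth.Agent.Lib.R2H4ModComp

variable {R : Type u} [CommRing R] [IsDomain R] [IsDiscreteValuationRing R]
  {X : Scheme.{u}} {p : X ⟶ Spec (CommRingCat.of R)} {n : ℕ}
  (Γ : Fin n → ArSurf.VertComp R (Over.mk p))
  (hΓ : Models.IsComponentList R (Over.mk p) Γ)
  (L : Fin n → X.Modules)
  (hL : ∀ i, ClSub.IsInverseOf (L i) (ClSub.idealMod (Γ i).ι.ker))

theorem appLE_top_top : p.appLE ⊤ ⊤ le_top = p.appTop := by
  have h1 : p.appLE ⊤ ⊤ le_top =
      p.appTop ≫ X.presheaf.map (homOfLE (le_top : (⊤ : X.Opens) ≤ ⊤)).op := by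
    rw [Scheme.Hom.appLE]
    rfl
  have h2 : (homOfLE (le_top : (⊤ : X.Opens) ≤ ⊤)) = 𝟙 _ := Subsingleton.elim _ _
  rw [h1, h2, op_id, X.presheaf.map_id, Category.comp_id]

theorem secHom_top_surjective (hiso : IsIso p.appTop) :
    Function.Surjective (Groth.Agent.Lib.R2H1.SpecialFibreProd.secHom R X p ⊤) := by
  intro h
  obtain ⟨t, ht⟩ := (ConcreteCategory.bijective_of_isIso p.appTop).2 h
  obtain ⟨r, hr⟩ :=
    (Scheme.ΓSpecIso (CommRingCat.of R)).symm.commRingCatIsoToRingEquiv.surjective t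
  refine ⟨r, ?_⟩
  unfold Groth.Agent.Lib.R2H1.SpecialFibreProd.secHom
  rw [RingHom.comp_apply, appLE_top_top]
  have hr' : (Scheme.ΓSpecIso (CommRingCat.of R)).inv.hom r = t := hr
  rw [hr']
  exact ht

section Reg

variable [Flat p] [LocallyOfFiniteType p] [QuasiCompact p]
  (hreg : ∀ x : X, IsRegularLocalRing (X.presheaf.stalk x))

include hΓ hreg in
theorem exponent_unique (x y : Fin n → ℕ)
    (h : ∏ i, ik Γ i ^ x i = ∏ i, ik Γ i ^ y i) : x = y := by
  haveI : IsLocallyNoetherian X := LocallyOfFiniteType.isLocallyNoetherian p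
  have hfun : (fun i => (((Γ i).ι.ker.support : Set (Over.mk p).left))) =
      fun i => Set.range ((Γ i).ι.base : (Γ i).curve.left → (Over.mk p).left) :=
    funext (fun i => support_ker_eq_range (Γ i))
  have hinj : Function.Injective (fun i => (((Γ i).ι.ker.support : Set (Over.mk p).left))) := by
    rw [hfun]; exact hΓ.1
  have hrange : Set.range (fun i => (((Γ i).ι.ker.support : Set (Over.mk p).left))) =
      {Z | Maximal (fun S : Set (Over.mk p).left => IsIrreducible S ∧
        S ⊆ ((Models.specialFibreIdeal R (Over.mk p)).support : Set (Over.mk p).left)) Z} := by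
    rw [hfun, hΓ.2, support_specialFibreIdeal]
    rfl
  exact exponent_unique_abstract X hreg (Models.specialFibreIdeal R (Over.mk p))
    (isEffCartier_specialFibreIdeal R X p)
    (fun i => (Γ i).ι.ker) (fun i => isIntegral_ker_subscheme (Γ i))
    (fun i => Models.genPtOf R (Over.mk p) (Γ i)) (fun i => closure_genPtOf (Γ i)) hinj hrange
    x y h

include hΓ hL hreg in
/-- if `⊗ O(Γ_i)^{z_i} ≅ O_X` then `z` is a multiple of the multiplicity vector -/
theorem exists_smul_of_iso (hiso : IsIso p.appTop) (z : Fin n → ℕ)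
    (e₁ : bigMod n L z ≅ Coh.structureModule X) :
    ∃ c : ℕ, z = c • (fun i => Models.mult R (Over.mk p) (Γ i)) := by
  rcases isEmpty_or_nonempty X with hX | hX
  · refine ⟨0, funext fun i => ?_⟩
    exact (hX.false (Models.genPtOf R (Over.mk p) (Γ i))).elim
  have e : ∀ i, CohB1.tensorMod (L i) (ClSub.idealMod (ik Γ i)) ≅ Coh.structureModule X :=
    fun i => (hL i).some
  have hLinv : ∀ i, PicF.IsInvertible (L i) := fun i => isInvertible_of_iso _ (L i) (e i)
  let s : ∀ i, Coh.structureModule X ⟶ L i := fun i => canSec (Γ i).ι.ker (L i) (e i)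
  let σ : Coh.structureModule X ⟶ Coh.structureModule X := bigSec n L s z ≫ e₁.hom
  have hZ : PicF2.zeroScheme (Coh.structureModule X) σ = ∏ i, ik Γ i ^ z i := by
    rw [zeroScheme_comp_iso e₁ (bigSec n L s z), zeroScheme_bigSec n L s z hLinv]
    refine Finset.prod_congr rfl (fun i _ => ?_)
    rw [zeroScheme_canSec _ _ (hLinv i) (e i)]
  obtain ⟨r, hr⟩ := secHom_top_surjective hiso (ofS ⊤ (sv σ ⊤))
  obtain ⟨ϖ, hϖ⟩ := IsDiscreteValuationRing.exists_irreducible R
  have hmax : maximalIdeal R = Ideal.span {ϖ} :=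
    (IsDiscreteValuationRing.irreducible_iff_uniformizer ϖ).mp hϖ
  have hideal : ∀ V : X.affineOpens,
      (∏ i, ik Γ i ^ z i).ideal V = Ideal.span {Groth.Agent.Lib.R2H1.SpecialFibreProd.secHom R X p V.1 r} := by
    intro V
    rw [← hZ, zeroScheme_endo_ideal σ V, ← hr, rT_secHom]
  have hr0 : r ≠ 0 := by
    rintro rfl
    obtain ⟨x, hx⟩ := Groth.Agent.Lib.R2H4ModNegB.exists_not_mem_fibre (p := p)
    apply hx
    have hbot : (∏ i, ik Γ i ^ z i) = ⊥ := by
      apply Scheme.IdealSheafData.ext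
      funext V
      rw [hideal V, map_zero, Ideal.span_singleton_eq_bot.2 rfl]
      rfl
    have hxs : x ∈ (∏ i, ik Γ i ^ z i).support := by
      rw [hbot, Scheme.IdealSheafData.support_bot]
      trivial
    rw [mem_support_prod_pow] at hxs
    obtain ⟨i, -, -, hxi⟩ := hxs
    have hxr : x ∈ rg Γ i := by
      rw [← support_ker]
      exact hxi
    exact (rg_mem Γ hΓ i).1.2 hxr
  obtain ⟨c, u, hru⟩ := IsDiscreteValuationRing.eq_unit_mul_pow_irreducible hr0 hϖ
  refine ⟨c, ?_⟩
  apply exponent_unique Γ hΓ hreg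
  have hm := (main R X p hreg Γ hΓ).2
  have h2 : ∏ i, ik Γ i ^ (c • fun i => Models.mult R (Over.mk p) (Γ i)) i =
      (Models.specialFibreIdeal R (Over.mk p)) ^ c := by
    rw [hm, ← Finset.prod_pow]
    refine Finset.prod_congr rfl (fun i _ => ?_)
    rw [← pow_mul, Pi.smul_apply, smul_eq_mul, mul_comm]
  rw [h2]
  apply Scheme.IdealSheafData.ext
  funext V
  rw [hideal V, Scheme.IdealSheafData.ideal_pow, Pi.pow_apply, specialFibreIdeal_ideal, hmax,
    Ideal.map_span, Set.image_singleton, Ideal.span_singleton_pow, hru, map_mul, map_pow]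
  exact Ideal.span_singleton_mul_left_unit (u.isUnit.map _) _

theorem nonempty_iso_add_smul (m : Fin n → ℕ)
    (h0 : Nonempty (bigMod n L m ≅ Coh.structureModule X)) (b : Fin n → ℕ) (d : ℕ) :
    Nonempty (bigMod n L (b + d • m) ≅ bigMod n L b) := by
  obtain ⟨e'⟩ := nonempty_big_smul n L m h0 d
  exact ⟨bigAdd n L b (d • m) ≪≫ tIso (Iso.refl _) e' ≪≫ rUnit _⟩

include hΓ hL hreg in
theorem nonempty_iso_iff (hiso : IsIso p.appTop) (a b : Fin n → ℕ) :
    Nonempty (bigMod n L a ≅ bigMod n L b) ↔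
      ∃ c : ℤ, ∀ i, (a i : ℤ) - (b i : ℤ) = c * (Models.mult R (Over.mk p) (Γ i) : ℤ) := by
  let m : Fin n → ℕ := fun i => Models.mult R (Over.mk p) (Γ i)
  obtain ⟨e0⟩ := nonempty_iso_bigMod Γ hΓ L hL hreg
  have h0 : Nonempty (bigMod n L m ≅ Coh.structureModule X) := ⟨e0.symm⟩
  constructor
  · rintro ⟨e⟩
    let k : ℕ := ∑ i, b i
    let y : Fin n → ℕ := fun i => k * m i - b i
    have hby : b + y = k • m := by
      funext i
      have h1 : b i ≤ k := Finset.single_le_sum (f := b) (fun _ _ => Nat.zero_le _)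
        (Finset.mem_univ i)
      have h2 : 1 ≤ m i := mult_pos Γ hΓ hreg i
      have h3 : k ≤ k * m i := Nat.le_mul_of_pos_right k h2
      show b i + (k * m i - b i) = k * m i
      omega
    obtain ⟨ek⟩ := nonempty_big_smul n L m h0 k
    have e3 : bigMod n L (b + y) ≅ Coh.structureModule X := eqToIso (by rw [hby]) ≪≫ ek
    let e₂ : bigMod n L (a + y) ≅ Coh.structureModule X :=
      bigAdd n L a y ≪≫ tIso e (Iso.refl _) ≪≫ (bigAdd n L b y).symm ≪≫ e3
    obtain ⟨c, hc⟩ := exists_smul_of_iso Γ hΓ L hL hreg hiso (a + y) e₂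
    refine ⟨(c : ℤ) - k, fun i => ?_⟩
    have h1 : a i + y i = c * m i := congrFun hc i
    have h2 : b i + y i = k * m i := congrFun hby i
    have h1' : (a i : ℤ) + y i = c * m i := by exact_mod_cast h1
    have h2' : (b i : ℤ) + y i = k * m i := by exact_mod_cast h2
    linear_combination h1' - h2'
  · rintro ⟨c, hc⟩
    rcases le_total 0 c with h | h
    · obtain ⟨d, rfl⟩ := Int.eq_ofNat_of_zero_le h
      have hab : a = b + d • m := by
        funext i
        have h1 : (a i : ℤ) = b i + d * m i := by linarith [hc i]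
        show a i = b i + d * m i
        exact_mod_cast h1
      rw [hab]
      exact nonempty_iso_add_smul L m h0 b d
    · obtain ⟨d, rfl⟩ := Int.exists_eq_neg_ofNat h
      have hba : b = a + d • m := by
        funext i
        have h1 : (b i : ℤ) = a i + d * m i := by linarith [hc i]
        show b i = a i + d * m i
        exact_mod_cast h1
      rw [hba]
      obtain ⟨e'⟩ := nonempty_iso_add_smul L m h0 a d
      exact ⟨e'.symm⟩

end Reg

end Fibre

section Multi

variable {X : Scheme.{u}}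

theorem bigMod_eq_tensorPows : ∀ (n : ℕ) (L : Fin n → X.Modules) (m : Fin n → ℕ),
    bigMod n L m = Curv2.tensorPows (Coh.structureModule X) n L m
  | 0, _, _ => rfl
  | n + 1, L, m => by
    show CohB1.tensorMod _ _ = CohB1.tensorMod _ _
    rw [bigMod_eq_tensorPows n]

theorem nonempty_bigMod_multiTwist (n : ℕ) (L : Fin n → X.Modules) (m : Fin n → ℕ) :
    Nonempty (bigMod n L m ≅ FGA.multiTwist L m) := by
  rw [bigMod_eq_tensorPows]
  exact Groth.Agent.Lib.R2H4FGABridge.nonempty_pows_multiTwist n L m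

end Multi

section Final

open Groth.Agent.Lib.R2H1.SpecialFibreProd Groth.Agent.Lib.R2H4ModMain

variable {R : Type u} [CommRing R] [IsDomain R] [IsDiscreteValuationRing R]
  {X : Scheme.{u}} {p : X ⟶ Spec (CommRingCat.of R)} {n : ℕ}
  (Γ : Fin n → ArSurf.VertComp R (Over.mk p))
  (hΓ : Models.IsComponentList R (Over.mk p) Γ)
  (L : Fin n → X.Modules)
  (hL : ∀ i, ClSub.IsInverseOf (L i) (ClSub.idealMod (Γ i).ι.ker))
  [Flat p] [LocallyOfFiniteType p] [QuasiCompact p]
  (hreg : ∀ x : X, IsRegularLocalRing (X.presheaf.stalk x))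

include hΓ hL hreg in
/-- **S3314** -/
theorem s3314 (hiso : IsIso p.appTop) (a b : Fin n → ℕ) :
    Nonempty (FGA.multiTwist L a ≅ FGA.multiTwist L b) ↔
      ∃ c : ℤ, ∀ i, (a i : ℤ) - (b i : ℤ) = c * (Models.mult R (Over.mk p) (Γ i) : ℤ) := by
  obtain ⟨ea⟩ := nonempty_bigMod_multiTwist n L a
  obtain ⟨eb⟩ := nonempty_bigMod_multiTwist n L b
  rw [← nonempty_iso_iff Γ hΓ L hL hreg hiso a b]
  exact ⟨fun ⟨e⟩ => ⟨ea ≪≫ e ≪≫ eb.symm⟩, fun ⟨e⟩ => ⟨ea.symm ≪≫ e ≪≫ eb⟩⟩

end Final

end Groth.Agent.Lib.R2H4MultiTwist
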