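import Mathlib
import Groth.Prelude
import Groth.Agent.Lib.R2H4MultiTwist
import Groth.Agent.Lib.Helper23SecTw10
import Groth.Agent.Lib.Helper23PB

/-!
# Invertible modules on a regular model that are trivial on the generic fibre
(helper4, round 2)

`M` invertible on `X` with `g^* M ≅ O_C` (`g : C → X` the generic fibre): `M` has a global section
generating it over the generic fibre; its zero scheme is an effective Cartier divisor supported in
the closed fibre, hence a product of powers of the `I(Γ_i)`; so `M ⊗ ⊗ O(Γ_i)^{a_i} ≅ O_X`.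
-/

set_option autoImplicit false
set_option linter.style.haveILetI false
set_option linter.unusedSectionVars false
universe u
open CategoryTheory CategoryTheory.Limits AlgebraicGeometry TopologicalSpace Opposite IsLocalRing

noncomputable section

namespace Groth.Agent.Lib.R2H4PicGen

open Groth.Agent.Lib.R2H4TensorPows Groth.Agent.Lib.R2H4ModProd Groth.Agent.Lib.R2H4ModSec
  Groth.Agent.Lib.Helper6 Groth.Agent.Lib.Helper23.GenLocus
  Groth.Agent.Lib.Helper23.SecTw Groth.Agent.Lib.R2H4ModTriv Groth.Agent.Lib.R2H4MultiTwist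

/-- the ring map `R → Γ(X, U)` (helper1) -/
local notation "sH" => Groth.Agent.Lib.R2H1.SpecialFibreProd.secHom

section Generic

variable (R : Type u) [CommRing R] [IsDomain R] [IsDiscreteValuationRing R]

theorem isLocalization_away_of_irreducible (K : Type u) [Field K] [Algebra R K] [IsFractionRing R K]
    (ϖ : R) (hϖ : Irreducible ϖ) : IsLocalization.Away ϖ K := by
  haveI : IsLocalization (nonZeroDivisors R) (Localization.Away ϖ) :=
    IsLocalization.of_le_of_exists_dvd (Submonoid.powers ϖ) (nonZeroDivisors R)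
      (powers_le_nonZeroDivisors_of_noZeroDivisors hϖ.ne_zero) (fun n hn => by
        obtain ⟨k, u, hu⟩ := IsDiscreteValuationRing.eq_unit_mul_pow_irreducible
          (nonZeroDivisors.ne_zero hn) hϖ
        exact ⟨ϖ ^ k, ⟨k, rfl⟩, ⟨(↑u⁻¹ : R), by rw [hu]; ring_nf; simp⟩⟩)
  exact IsLocalization.isLocalization_of_algEquiv (Submonoid.powers ϖ)
    (IsLocalization.algEquiv (nonZeroDivisors R) (Localization.Away ϖ) K)

theorem range_specMap_fractionRing (ϖ : R) (hϖ : Irreducible ϖ) :
    Set.range (Spec.map (CommRingCat.ofHom (algebraMap R (FractionRing R)))) =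
      (PrimeSpectrum.basicOpen ϖ : Set (PrimeSpectrum R)) := by
  haveI := isLocalization_away_of_irreducible R (FractionRing R) ϖ hϖ
  exact PrimeSpectrum.localization_away_comap_range (FractionRing R) ϖ

theorem isOpenImmersion_specMap_fractionRing :
    IsOpenImmersion (Spec.map (CommRingCat.ofHom (algebraMap R (FractionRing R)))) := by
  obtain ⟨ϖ, hϖ⟩ := IsDiscreteValuationRing.exists_irreducible R
  haveI := isLocalization_away_of_irreducible R (FractionRing R) ϖ hϖ
  exact IsOpenImmersion.of_isLocalization ϖ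

theorem range_fst_of_isPullback {P X Y Z : Scheme.{u}} {fst : P ⟶ X} {snd : P ⟶ Y} {f : X ⟶ Z}
    {g : Y ⟶ Z} (h : IsPullback fst snd f g) : Set.range fst = f ⁻¹' Set.range g := by
  have h1 : fst = h.isoPullback.hom ≫ pullback.fst f g := by simp
  have hs : Set.range ⇑h.isoPullback.hom = Set.univ :=
    Set.range_eq_univ.2 h.isoPullback.hom.homeomorph.surjective
  rw [h1, Scheme.Hom.comp_base, TopCat.coe_comp, Set.range_comp, hs, Set.image_univ,
    Scheme.Pullback.range_fst]

variable {R}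
variable {X C : Scheme.{u}} {p : X ⟶ Spec (CommRingCat.of R)}
  (f : C ⟶ Spec (CommRingCat.of (FractionRing R))) (g : C ⟶ X)
  (H : IsPullback g f p (Spec.map (CommRingCat.ofHom (algebraMap R (FractionRing R)))))

include H in
theorem isOpenImmersion_of_isPullback : IsOpenImmersion g :=
  MorphismProperty.of_isPullback (P := @IsOpenImmersion) H.flip
    (isOpenImmersion_specMap_fractionRing R)

theorem basicOpen_secHom (ϖ : R) :
    X.basicOpen (sH R X p ⊤ ϖ) = p ⁻¹ᵁ (PrimeSpectrum.basicOpen ϖ) := by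
  have h1 : sH R X p ⊤ ϖ = p.appTop.hom ((Scheme.ΓSpecIso (CommRingCat.of R)).inv.hom ϖ) := by
    unfold Groth.Agent.Lib.R2H1.SpecialFibreProd.secHom
    rw [RingHom.comp_apply, appLE_top_top]
  rw [h1]
  have h2 : (Spec (CommRingCat.of R)).basicOpen
      ((Scheme.ΓSpecIso (CommRingCat.of R)).inv.hom ϖ) = PrimeSpectrum.basicOpen ϖ :=
    basicOpen_eq_of_affine (R := CommRingCat.of R) ϖ
  have h3 := Scheme.preimage_basicOpen p ((Scheme.ΓSpecIso (CommRingCat.of R)).inv.hom ϖ)
  exact h3.symm.trans (congrArg (fun U => p ⁻¹ᵁ U) h2)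

include H in
theorem opensRange_eq (ϖ : R) (hϖ : Irreducible ϖ) [IsOpenImmersion g] :
    g.opensRange = X.basicOpen (sH R X p ⊤ ϖ) := by
  apply Opens.ext
  rw [basicOpen_secHom, Scheme.Hom.coe_opensRange, range_fst_of_isPullback H,
    range_specMap_fractionRing R ϖ hϖ]
  rfl

theorem notMem_basicOpen_iff (ϖ : R) (hϖ : Irreducible ϖ) (x : X) :
    x ∉ X.basicOpen (sH R X p ⊤ ϖ) ↔ x ∈ Models.specialFibreSet R (Over.mk p) := by
  rw [basicOpen_secHom]
  have hmax : maximalIdeal R = Ideal.span {ϖ} :=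
    (IsDiscreteValuationRing.irreducible_iff_uniformizer ϖ).mp hϖ
  change ¬ (ϖ ∉ (p.base x : PrimeSpectrum R).asIdeal) ↔ p.base x = closedPoint R
  rw [not_not]
  constructor
  · intro hmem
    have hle : maximalIdeal R ≤ (p.base x : PrimeSpectrum R).asIdeal := by
      rw [hmax, Ideal.span_singleton_le_iff_mem]
      exact hmem
    have := (IsLocalRing.maximalIdeal.isMaximal R).eq_of_le (p.base x).2.ne_top hle
    exact PrimeSpectrum.ext this.symm
  · intro hx
    rw [hx]
    change ϖ ∈ maximalIdeal R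
    rw [hmax]
    exact Ideal.mem_span_singleton_self ϖ

end Generic

section Section

variable {X : Scheme.{u}}

/-- a trivialisation pulls back along a factorisation -/
theorem nonempty_pullback_iso_of_comp {C U : Scheme.{u}} (g : C ⟶ X) (ψ : U ⟶ C) (j : U ⟶ X)
    (h : ψ ≫ g = j) (M : X.Modules)
    (htriv : Nonempty ((Scheme.Modules.pullback g).obj M ≅ Coh.structureModule C)) :
    Nonempty ((Scheme.Modules.pullback j).obj M ≅ Coh.structureModule U) := by
  subst h
  obtain ⟨e⟩ := htriv
  exact ⟨((Scheme.Modules.pullbackComp ψ g).app M).symm ≪≫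
    (Scheme.Modules.pullback ψ).mapIso e ≪≫ Groth.Agent.Lib.Helper23.PB.pullbackUnitIso ψ⟩

/-- a module trivial after pullback along an open immersion is trivial on the image -/
theorem nonempty_restrict_iso {C : Scheme.{u}} (g : C ⟶ X) [IsOpenImmersion g] (M : X.Modules)
    (htriv : Nonempty ((Scheme.Modules.pullback g).obj M ≅ Coh.structureModule C)) :
    Nonempty (M.restrict g.opensRange.ι ≅ Coh.structureModule (g.opensRange : Scheme.{u})) := by
  obtain ⟨e⟩ := nonempty_pullback_iso_of_comp g g.isoOpensRange.inv g.opensRange.ι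
    g.isoOpensRange_inv_comp M htriv
  exact ⟨(Scheme.Modules.restrictFunctorIsoPullback g.opensRange.ι).app M ≪≫ e⟩

theorem genLocus_comp_iso {L L' : X.Modules} (hL : PicF.IsInvertible L)
    (hL' : PicF.IsInvertible L') (e : L ≅ L') (s : Coh.structureModule X ⟶ L) :
    CohB1.genLocus L' (s ≫ e.hom) = CohB1.genLocus L s := by
  ext x
  have h1 := mem_support_zeroScheme_iff L' hL' (s ≫ e.hom) x
  have h2 := mem_support_zeroScheme_iff L hL s x
  rw [zeroScheme_comp_iso e s] at h1
  rw [SetLike.mem_coe, SetLike.mem_coe]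
  exact not_iff_not.1 (h1.symm.trans h2)

theorem endFun_smulEnd (h : Γ(X, ⊤)) :
    endFun (smulEnd (Coh.structureModule X) h ≫ (Iso.refl (Coh.structureModule X)).hom) ⊤ = h := by
  rw [Iso.refl_hom, Category.comp_id]
  unfold endFun
  rw [smulEnd_app, smul_toS, mul_one]
  change rT h ⊤ = h
  unfold rT
  have h2 : (homOfLE (le_top : (⊤ : X.Opens) ≤ ⊤)) = 𝟙 _ := Subsingleton.elim _ _
  rw [h2, op_id, X.presheaf.map_id]
  rfl

theorem genLocus_smulEnd (h : Γ(X, ⊤)) :
    CohB1.genLocus (Coh.structureModule X) (smulEnd (Coh.structureModule X) h) = X.basicOpen h := by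
  rw [Groth.Agent.Lib.Helper23.TensorUnit.genLocus_eq_basicOpen (Coh.structureModule X)
    (Iso.refl _) (smulEnd (Coh.structureModule X) h), endFun_smulEnd]

/-- an invertible module trivial over the basic open of a global function has a global section
generating it there -/
theorem exists_section_of_triv [CompactSpace X] [QuasiSeparatedSpace X] (h : Γ(X, ⊤))
    (U : X.Opens) (hU : U = X.basicOpen h) (M : X.Modules) (hM : PicF.IsInvertible M)
    (htriv : Nonempty (M.restrict U.ι ≅ Coh.structureModule (U : Scheme.{u}))) :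
    ∃ s : Coh.structureModule X ⟶ M, U ≤ CohB1.genLocus M s := by
  have hO := Groth.Agent.Lib.Helper23.TensorUnit.isInvertible_structureModule X
  let σ : Coh.structureModule X ⟶ Coh.structureModule X := smulEnd (Coh.structureModule X) h
  have hσ : CohB1.genLocus (Coh.structureModule X) σ = U := by
    rw [hU]
    exact genLocus_smulEnd h
  obtain ⟨e, he⟩ : ∃ e : Γ(M, CohB1.genLocus (Coh.structureModule X) σ),
      IsGen M (CohB1.genLocus (Coh.structureModule X) σ) e := by
    rw [hσ]
    exact exists_isGen_of_iso M U htriv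
  obtain ⟨n, u, -, hu⟩ := exists_section_extending_gen (Coh.structureModule X) hO σ M hM e he
  let ι : CohB1.tensorMod M (CohB1.tensorPow (Coh.structureModule X) n) ≅ M :=
    tIso (Iso.refl M) (Groth.Agent.Lib.Helper23.TensorUnit.tensorPowUnitIso n) ≪≫ rUnit M
  refine ⟨u ≫ ι.hom, ?_⟩
  rw [genLocus_comp_iso (isInvertible_tensorMod hM (isInvertible_tensorPow hO n)) hM ι u, ← hσ]
  exact hu

/-- in an affine open, a function whose basic open contains the basic open of a nonzerodivisor
is a nonzerodivisor -/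
theorem nzd_of_basicOpen_le {W : X.Opens} (hW : IsAffineOpen W) (a b : Γ(X, W))
    (ha : a ∈ nonZeroDivisors Γ(X, W)) (hle : X.basicOpen a ≤ X.basicOpen b) :
    b ∈ nonZeroDivisors Γ(X, W) := by
  rw [mem_nonZeroDivisors_iff_right]
  intro y hy
  have hu : IsUnit (X.presheaf.map (homOfLE (X.basicOpen_le b)).op b) :=
    RingedSpace.isUnit_res_basicOpen _ b
  have hu' : IsUnit ((X.presheaf.map (homOfLE (X.basicOpen_le a)).op).hom b) := by
    have h1 : X.presheaf.map (homOfLE (X.basicOpen_le a)).op =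
        X.presheaf.map (homOfLE (X.basicOpen_le b)).op ≫ X.presheaf.map (homOfLE hle).op := by
      rw [← Functor.map_comp]
      rfl
    rw [h1, CommRingCat.comp_apply]
    exact hu.map _
  have h0 : (X.presheaf.map (homOfLE (X.basicOpen_le a)).op).hom y = 0 := by
    have h2 := congrArg (X.presheaf.map (homOfLE (X.basicOpen_le a)).op).hom hy
    rw [map_mul, map_zero] at h2
    exact (hu'.mul_left_eq_zero).1 h2
  obtain ⟨k, hk⟩ := exists_pow_mul_eq_zero_of_res_basicOpen_eq_zero_of_isAffineOpen X hW y a h0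
  have hak : a ^ k ∈ nonZeroDivisors Γ(X, W) := pow_mem ha k
  exact (mem_nonZeroDivisors_iff.1 hak).1 y hk

/-- the zero scheme of a section generating over the basic open of a "regular" global function
is an effective Cartier divisor -/
theorem isEffCartier_zeroScheme (M : X.Modules) (hM : PicF.IsInvertible M)
    (s : Coh.structureModule X ⟶ M) (h : Γ(X, ⊤))
    (hnzd : ∀ V : X.affineOpens, rT h V.1 ∈ nonZeroDivisors Γ(X, V.1))
    (hle : X.basicOpen h ≤ CohB1.genLocus M s) :
    BlowUp.IsEffCartierIdeal (PicF2.zeroScheme M s) := by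
  intro x
  obtain ⟨W, hxW, hW, e, f, hsf, hbf, he⟩ := exists_frame M hM s x
  obtain ⟨a, ha, hJ⟩ := Groth.Agent.Lib.R2H1.ZeroSchemeMul.exists_coef_ideal M hM s ⟨W, hW⟩ e he
  have haf : a = f := by
    apply (he W le_rfl).1
    change a • res M le_rfl e = f • res M le_rfl e
    rw [res_self, ← ha, ← hsf]
  refine ⟨⟨W, hW⟩, hxW, a, ?_, hJ⟩
  rw [haf]
  refine nzd_of_basicOpen_le hW (rT h W) f (hnzd ⟨W, hW⟩) ?_
  rw [hbf]
  unfold rT
  rw [Scheme.basicOpen_res]
  exact le_inf (inf_le_right.trans hle) inf_le_left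

end Section

section Pows

variable {X : Scheme.{u}}

/-- `A ≅ B → A^h ≅ B^h` -/
def powIso {A B : X.Modules} (e : A ≅ B) : ∀ h : ℕ, CohB1.tensorPow A h ≅ CohB1.tensorPow B h
  | 0 => Iso.refl _
  | h + 1 => tIso (powIso e h) e

/-- `(A ⊗ B)^h ≅ A^h ⊗ B^h` -/
def powTensor (A B : X.Modules) : ∀ h : ℕ,
    CohB1.tensorPow (CohB1.tensorMod A B) h ≅
      CohB1.tensorMod (CohB1.tensorPow A h) (CohB1.tensorPow B h)
  | 0 => (lUnit _).symm
  | h + 1 => tIso (powTensor A B h) (Iso.refl _) ≪≫ interchange _ _ _ _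

/-- `(⊗ L_i^{a_i})^h ≅ ⊗ L_i^{h a_i}` -/
def powBig (n : ℕ) (L : Fin n → X.Modules) (a : Fin n → ℕ) : ∀ h : ℕ,
    CohB1.tensorPow (bigMod n L a) h ≅ bigMod n L (h • a)
  | 0 => (bigZero n L).symm ≪≫ eqToIso (by rw [zero_smul])
  | h + 1 => tIso (powBig n L a h) (Iso.refl _) ≪≫ (bigAdd n L (h • a) a).symm ≪≫
      eqToIso (by rw [add_smul, one_smul])

end Pows

section Fibre

open Groth.Agent.Lib.R2H1.SpecialFibreProd Groth.Agent.Lib.R2H4ModMain
  Groth.Agent.Lib.R2H4ModComp

variable {R : Type u} [CommRing R] [IsDomain R] [IsDiscreteValuationRing R]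
  {X C : Scheme.{u}} {p : X ⟶ Spec (CommRingCat.of R)} {n : ℕ}
  (Γ : Fin n → ArSurf.VertComp R (Over.mk p))
  (hΓ : Models.IsComponentList R (Over.mk p) Γ)
  (L : Fin n → X.Modules)
  (hL : ∀ i, ClSub.IsInverseOf (L i) (ClSub.idealMod (Γ i).ι.ker))
  (f : C ⟶ Spec (CommRingCat.of (FractionRing R))) (g : C ⟶ X)
  (H : IsPullback g f p (Spec.map (CommRingCat.ofHom (algebraMap R (FractionRing R)))))

/-- an invertible module with a section cutting out a multiple of the closed fibre is trivial -/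
theorem nonempty_iso_of_zeroScheme_pow [Flat p] (N : X.Modules) (hN : PicF.IsInvertible N)
    (s : Coh.structureModule X ⟶ N) (c : ℕ)
    (hZ : PicF2.zeroScheme N s = Models.specialFibreIdeal R (Over.mk p) ^ c) :
    Nonempty (Coh.structureModule X ≅ N) := by
  obtain ⟨ϖ, hϖ⟩ := IsDiscreteValuationRing.exists_irreducible R
  have hmax : maximalIdeal R = Ideal.span {ϖ} :=
    (IsDiscreteValuationRing.irreducible_iff_uniformizer ϖ).mp hϖ
  refine nonempty_iso N hN s (sH R X p ⊤ (ϖ ^ c)) ?_ ?_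
  · intro U
    rw [hZ, Scheme.IdealSheafData.ideal_pow, Pi.pow_apply, specialFibreIdeal_ideal, hmax,
      Ideal.map_span, Set.image_singleton, Ideal.span_singleton_pow, rT_secHom, map_pow]
  · intro U
    rw [rT_secHom]
    exact nzd_secHom (ϖ ^ c) (pow_ne_zero c hϖ.ne_zero) U

variable [Flat p] [IsProper p]
  (hreg : ∀ x : X, IsRegularLocalRing (X.presheaf.stalk x))

include hΓ hreg H in
/-- an invertible module trivial on the generic fibre has a section whose zero scheme is a product
of powers of the ideals of the components of the closed fibre -/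
theorem exists_section_zeroScheme_eq (M : X.Modules) (hM : PicF.IsInvertible M)
    (htriv : Nonempty ((Scheme.Modules.pullback g).obj M ≅ Coh.structureModule C)) :
    ∃ (s : Coh.structureModule X ⟶ M) (b : Fin n → ℕ),
      PicF2.zeroScheme M s = ∏ i, ik Γ i ^ b i := by
  haveI : IsLocallyNoetherian X := LocallyOfFiniteType.isLocallyNoetherian p
  haveI : CompactSpace X := QuasiCompact.compactSpace_of_compactSpace p
  haveI : IsNoetherian X := {}
  obtain ⟨ϖ, hϖ⟩ := IsDiscreteValuationRing.exists_irreducible R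
  haveI := isOpenImmersion_of_isPullback f g H
  let h : Γ(X, ⊤) := sH R X p ⊤ ϖ
  have hU : g.opensRange = X.basicOpen h := opensRange_eq f g H ϖ hϖ
  obtain ⟨s, hs⟩ := exists_section_of_triv h g.opensRange hU M hM
    (nonempty_restrict_iso g M htriv)
  rw [hU] at hs
  have hnzd : ∀ V : X.affineOpens, rT h V.1 ∈ nonZeroDivisors Γ(X, V.1) := fun V => by
    rw [rT_secHom]
    exact nzd_secHom ϖ hϖ.ne_zero V
  have hcart := isEffCartier_zeroScheme M hM s h hnzd hs
  have hsub : ((PicF2.zeroScheme M s).support : Set X) ⊆ ⋃ i, ((ik Γ i).support : Set X) := by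
    intro x hx
    have hx1 : x ∉ CohB1.genLocus M s := (mem_support_zeroScheme_iff M hM s x).1 hx
    have hx2 : x ∉ X.basicOpen h := fun hh => hx1 (hs hh)
    have hx3 := (notMem_basicOpen_iff ϖ hϖ x).1 hx2
    obtain ⟨l, hl⟩ := exists_mem_rg Γ hΓ x hx3
    refine Set.mem_iUnion.2 ⟨l, ?_⟩
    rw [support_ker]
    exact hl
  obtain ⟨b, hb⟩ := Groth.Agent.Lib.R2H1.CartierProd.main X n (fun i => ik Γ i)
    (main R X p hreg Γ hΓ).1 (fun i => isIntegral_ker_subscheme (Γ i)) _ hcart hsub
  exact ⟨s, b, hb⟩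

include hΓ hL hreg H in
/-- **core**: `M ⊗ ⊗ O(Γ_i)^{a_i} ≅ O_X` for suitable `a` -/
theorem exists_twist_trivial (M : X.Modules) (hM : PicF.IsInvertible M)
    (htriv : Nonempty ((Scheme.Modules.pullback g).obj M ≅ Coh.structureModule C)) :
    ∃ a : Fin n → ℕ, Nonempty (CohB1.tensorMod M (bigMod n L a) ≅ Coh.structureModule X) := by
  obtain ⟨s, b, hb⟩ := exists_section_zeroScheme_eq Γ hΓ f g H hreg M hM htriv
  let m : Fin n → ℕ := fun i => Models.mult R (Over.mk p) (Γ i)
  let k : ℕ := ∑ i, b i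
  let y : Fin n → ℕ := fun i => k * m i - b i
  have hby : ∀ i, b i + y i = m i * k := by
    intro i
    have h1 : b i ≤ k := Finset.single_le_sum (f := b) (fun _ _ => Nat.zero_le _)
      (Finset.mem_univ i)
    have h2 : 1 ≤ m i := mult_pos Γ hΓ hreg i
    have h3 : k ≤ k * m i := Nat.le_mul_of_pos_right k h2
    show b i + (k * m i - b i) = m i * k
    rw [mul_comm (m i) k]
    omega
  have e : ∀ i, CohB1.tensorMod (L i) (ClSub.idealMod (ik Γ i)) ≅ Coh.structureModule X :=
    fun i => (hL i).some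
  have hLinv : ∀ i, PicF.IsInvertible (L i) := fun i => isInvertible_of_iso _ (L i) (e i)
  let sL : ∀ i, Coh.structureModule X ⟶ L i := fun i => canSec (Γ i).ι.ker (L i) (e i)
  have hZ : PicF2.zeroScheme (CohB1.tensorMod M (bigMod n L y))
      (SecTwist.tmulHom s (bigSec n L sL y)) = Models.specialFibreIdeal R (Over.mk p) ^ k := by
    rw [zeroScheme_tmulHom M (bigMod n L y) hM (isInvertible_bigMod n L y hLinv) s _, hb,
      zeroScheme_bigSec n L sL y hLinv, ← Finset.prod_mul_distrib, (main R X p hreg Γ hΓ).2,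
      ← Finset.prod_pow]
    refine Finset.prod_congr rfl (fun i _ => ?_)
    rw [zeroScheme_canSec _ _ (hLinv i) (e i), ← pow_add, ← pow_mul, hby i]
  obtain ⟨e'⟩ := nonempty_iso_of_zeroScheme_pow (CohB1.tensorMod M (bigMod n L y))
    (isInvertible_tensorMod hM (isInvertible_bigMod n L y hLinv)) _ k hZ
  exact ⟨y, ⟨e'.symm⟩⟩

include hΓ hL hreg H in
/-- **S3315** -/
theorem s3315 (M : X.Modules) (hM : PicF.IsInvertible M)
    (htriv : Nonempty ((Scheme.Modules.pullback g).obj M ≅ Coh.structureModule C)) :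
    ∃ a b : Fin n → ℕ,
      Nonempty (CohB1.tensorMod M (FGA.multiTwist L a) ≅ FGA.multiTwist L b) := by
  obtain ⟨a, ⟨e⟩⟩ := exists_twist_trivial Γ hΓ L hL f g H hreg M hM htriv
  obtain ⟨ea⟩ := nonempty_bigMod_multiTwist n L a
  obtain ⟨e0⟩ := nonempty_bigMod_multiTwist n L 0
  exact ⟨a, 0, ⟨tIso (Iso.refl M) ea.symm ≪≫ e ≪≫ (bigZero n L).symm ≪≫ e0⟩⟩

include hΓ hL hreg H in
/-- **S3341** -/
theorem s3341 (hiso : IsIso p.appTop) (h : ℕ) (hh : 0 < h)
    (hcop : Nat.Coprime h (Models.multGcd R (Over.mk p) Γ))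
    (M : X.Modules) (hM : PicF.IsInvertible M)
    (htors : Nonempty (CohB1.tensorPow M h ≅ Coh.structureModule X))
    (htriv : Nonempty ((Scheme.Modules.pullback g).obj M ≅ Coh.structureModule C)) :
    Nonempty (M ≅ Coh.structureModule X) := by
  obtain ⟨a, ⟨e⟩⟩ := exists_twist_trivial Γ hΓ L hL f g H hreg M hM htriv
  obtain ⟨et⟩ := htors
  let m : Fin n → ℕ := fun i => Models.mult R (Over.mk p) (Γ i)
  have e1 : bigMod n L (h • a) ≅ Coh.structureModule X :=
    (powBig n L a h).symm ≪≫ (lUnit _).symm ≪≫ tIso et.symm (Iso.refl _) ≪≫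
      (powTensor M (bigMod n L a) h).symm ≪≫ powIso e h ≪≫
      Groth.Agent.Lib.Helper23.TensorUnit.tensorPowUnitIso h
  obtain ⟨c, hc⟩ := exists_smul_of_iso Γ hΓ L hL hreg hiso (h • a) e1
  have hci : ∀ i, h * a i = c * m i := fun i => congrFun hc i
  have hdvd : h ∣ c * Models.multGcd R (Over.mk p) Γ := by
    have h1 : h ∣ Finset.univ.gcd (fun i => c * m i) :=
      Finset.dvd_gcd (fun i _ => ⟨a i, (hci i).symm⟩)
    rw [Finset.gcd_mul_left, normalize_eq] at h1
    exact h1
  obtain ⟨c', hc'⟩ := hcop.dvd_of_dvd_mul_right hdvd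
  have ha : a = c' • m := by
    funext i
    have h2 := hci i
    rw [hc', mul_assoc] at h2
    exact Nat.eq_of_mul_eq_mul_left hh h2
  obtain ⟨e0⟩ := nonempty_iso_bigMod Γ hΓ L hL hreg
  obtain ⟨e2⟩ := nonempty_big_smul n L m ⟨e0.symm⟩ c'
  rw [← ha] at e2
  exact ⟨(rUnit M).symm ≪≫ tIso (Iso.refl M) e2.symm ≪≫ e⟩

end Fibre

end Groth.Agent.Lib.R2H4PicGen
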