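import Mathlib
import Groth.Prelude
import Groth.Agent.Lib.R2H4PicGen
import Groth.Agent.Lib.R2H4ModNegC
import Groth.Agent.Lib.H9SteinConn
import Groth.Agent.Lib.Helper11SmInt

/-!
# A regular proper model with `Γ(X, O_X) = R` is integral; S3341 without given twists
(helper4, round 2)
-/

set_option autoImplicit false
set_option linter.style.haveILetI false
set_option linter.unusedSectionVars false
universe u
open CategoryTheory CategoryTheory.Limits AlgebraicGeometry TopologicalSpace Opposite IsLocalRing

noncomputable section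

namespace Groth.Agent.Lib.R2H4PicGen

open Groth.Agent.Lib.R2H1.SpecialFibreProd Groth.Agent.Lib.R2H4ModMain
  Groth.Agent.Lib.H9SteinAlg

theorem trivIdem_of_isDomain (A : Type*) [CommRing A] [IsDomain A] : TrivIdem A := fun e he => by
  have h0 : e * (e - 1) = 0 := by rw [mul_sub, mul_one, he.eq, sub_self]
  rcases mul_eq_zero.1 h0 with h | h
  · exact Or.inl h
  · exact Or.inr (sub_eq_zero.1 h)

variable {R : Type u} [CommRing R] [IsDomain R] [IsDiscreteValuationRing R]
  {X C : Scheme.{u}} {p : X ⟶ Spec (CommRingCat.of R)} {n : ℕ}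

/-- a regular scheme proper over a domain `R` with `Γ(X, O_X) = R` is integral -/
theorem isIntegral_of_model [Nonempty X] [IsProper p]
    (hreg : ∀ x : X, IsRegularLocalRing (X.presheaf.stalk x)) (hiso : IsIso p.appTop) :
    IsIntegral X := by
  haveI : IsLocallyNoetherian X := LocallyOfFiniteType.isLocallyNoetherian p
  haveI : CompactSpace X := QuasiCompact.compactSpace_of_compactSpace p
  haveI : IsNoetherian X := {}
  haveI : ConnectedSpace X := by
    rw [Groth.Agent.Lib.H9SteinConn.connectedSpace_iff_trivIdem]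
    refine ⟨inferInstance, ?_⟩
    haveI := hiso
    let e : R ≃+* Γ(X, ⊤) :=
      (Scheme.ΓSpecIso (CommRingCat.of R)).symm.commRingCatIsoToRingEquiv.trans
        (asIso p.appTop).commRingCatIsoToRingEquiv
    exact TrivIdem.of_ringEquiv e (trivIdem_of_isDomain R)
  exact Groth.Agent.Lib.Helper11SmInt.isIntegral_of_connected_of_isDomain_stalk (fun y => by
    haveI := hreg y
    exact Groth.Agent.Lib.Helper5.isDomain_of_isRegularLocalRing _)

variable (Γ : Fin n → ArSurf.VertComp R (Over.mk p))
  (hΓ : Models.IsComponentList R (Over.mk p) Γ)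
  (f : C ⟶ Spec (CommRingCat.of (FractionRing R))) (g : C ⟶ X)
  (H : IsPullback g f p (Spec.map (CommRingCat.ofHom (algebraMap R (FractionRing R)))))
  [Flat p] [IsProper p]
  (hreg : ∀ x : X, IsRegularLocalRing (X.presheaf.stalk x))

include hΓ hreg H in
/-- **S3341** (the twists `O(Γ_i)` are constructed) -/
theorem s3341' [Nonempty C] (hiso : IsIso p.appTop) (h : ℕ) (hh : 0 < h)
    (hcop : Nat.Coprime h (Models.multGcd R (Over.mk p) Γ))
    (M : X.Modules) (hM : PicF.IsInvertible M)
    (htors : Nonempty (CohB1.tensorPow M h ≅ Coh.structureModule X))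
    (htriv : Nonempty ((Scheme.Modules.pullback g).obj M ≅ Coh.structureModule C)) :
    Nonempty (M ≅ Coh.structureModule X) := by
  haveI : Nonempty X := ⟨g.base (Classical.arbitrary C)⟩
  haveI := isIntegral_of_model hreg hiso
  obtain ⟨L, hL⟩ := Groth.Agent.Lib.R2H4ModNegC.exists_inverses (fun i => ik Γ i)
    (main R X p hreg Γ hΓ).1
  exact s3341 Γ hΓ L hL f g H hreg hiso h hh hcop M hM htors htriv

end Groth.Agent.Lib.R2H4PicGen
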