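import Mathlib
import Groth.Prelude
import Groth.Agent.Lib.H9Models
import Groth.Agent.Lib.H9ContrC
import Groth.Agent.Lib.R2H4PicGenB
import Groth.Agent.Lib.R2H4ModNegA
import Groth.Agent.Lib.R2H4ModMain2
import Groth.Agent.Lib.R2H1InvExists
import Groth.Agent.Lib.R2H1PicPn
import Groth.Agent.Lib.R2LeadKRR
import Groth.Agent.Lib.Helper5CMAffSp
import Groth.Agent.Lib.Helper6SmRegSch2
import Groth.Agent.Lib.Helper11SmInt
import Groth.Agent.Lib.Helper11RedCl
import Groth.Agent.Lib.Helper12Reduced
import Groth.Agent.Lib.Helper18Cart1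

/-! helper9: a proper smooth model over a discrete valuation ring is a minimal model (S3338). -/

set_option autoImplicit false
set_option linter.style.haveILetI false
universe u

namespace Groth.Agent.Lib.H9MinSm

open CategoryTheory CategoryTheory.Limits AlgebraicGeometry TopologicalSpace Opposite IsLocalRing

/-- the ideal sheaf of `Spec B → Spec A` is the one attached to the kernel. -/
theorem ker_specMap (A B : Type u) [CommRing A] [CommRing B] (φ : A →+* B) :
    (Spec.map (CommRingCat.ofHom φ)).ker = Curv2.idealSheaf A (RingHom.ker φ) := by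
  rw [Scheme.ker_of_isAffine]
  unfold Curv2.idealSheaf
  congr 1
  have hnat := Scheme.ΓSpecIso_inv_naturality (CommRingCat.ofHom φ)
  have hinvbij : Function.Bijective (Scheme.ΓSpecIso (CommRingCat.of A)).inv.hom :=
    (ConcreteCategory.isIso_iff_bijective _).mp inferInstance
  have hinvbijB : Function.Bijective (Scheme.ΓSpecIso (CommRingCat.of B)).inv.hom :=
    (ConcreteCategory.isIso_iff_bijective _).mp inferInstance
  have key : ∀ a : A, (Spec.map (CommRingCat.ofHom φ)).appTop.hom
      ((Scheme.ΓSpecIso (CommRingCat.of A)).inv.hom a) =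
      (Scheme.ΓSpecIso (CommRingCat.of B)).inv.hom (φ a) := by
    intro a
    have := congr($hnat a)
    rw [ConcreteCategory.comp_apply, ConcreteCategory.comp_apply] at this
    exact this.symm
  ext x
  rw [RingHom.mem_ker, Ideal.mem_map_iff_of_surjective _ hinvbij.2]
  constructor
  · intro hx
    obtain ⟨a, rfl⟩ := hinvbij.2 x
    refine ⟨a, ?_, rfl⟩
    rw [RingHom.mem_ker]
    apply hinvbijB.1
    rw [map_zero]
    exact (key a).symm.trans hx
  · rintro ⟨a, ha, rfl⟩
    rw [RingHom.mem_ker] at ha
    exact (key a).trans (by rw [ha, map_zero])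

section DVR
variable (R : Type u) [CommRing R] [IsDomain R] [IsDiscreteValuationRing R]
  {X : Scheme.{u}} (p : X ⟶ Spec (CommRingCat.of R))

/-- the closed point as a closed immersion -/
noncomputable abbrev ik : Spec (CommRingCat.of (ResidueField R)) ⟶ Spec (CommRingCat.of R) :=
  Spec.map (CommRingCat.ofHom (algebraMap R (ResidueField R)))

instance : IsClosedImmersion (ik R) :=
  IsClosedImmersion.spec_of_surjective _ IsLocalRing.residue_surjective

theorem range_ik : Set.range (ik R).base = {closedPoint R} := by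
  ext z
  constructor
  · rintro ⟨w, rfl⟩
    exact IsLocalRing.PrimeSpectrum.comap_residue R w
  · intro hz
    have hz' : z = closedPoint R := hz
    subst hz'
    haveI : Inhabited (PrimeSpectrum (ResidueField R)) := ⟨⊥⟩
    exact ⟨(default : PrimeSpectrum (ResidueField R)),
      IsLocalRing.PrimeSpectrum.comap_residue R default⟩

theorem range_fst : Set.range (pullback.fst p (ik R)).base =
    Models.specialFibreSet R (Over.mk p) := by
  rw [Scheme.Pullback.range_fst, range_ik]
  rfl

theorem specialFibreIdeal_eq_ker :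
    Models.specialFibreIdeal R (Over.mk p) = (pullback.fst p (ik R)).ker := by
  rw [Scheme.IdealSheafData.ker_fst_of_isClosedImmersion, ker_specMap]
  unfold Models.specialFibreIdeal
  congr 2
  exact (IsLocalRing.ker_residue (R := R)).symm

theorem specialFibreIdeal_eq_vanishingIdeal [Smooth p] :
    Models.specialFibreIdeal R (Over.mk p) = Scheme.IdealSheafData.vanishingIdeal
      ⟨Models.specialFibreSet R (Over.mk p), Models.isClosed_specialFibreSet R (Over.mk p)⟩ := by
  haveI : IsReduced (pullback p (ik R)) :=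
    Groth.Agent.Lib.Helper12.Reduced.isReduced_of_smooth (pullback.snd p (ik R))
  rw [specialFibreIdeal_eq_ker,
    Groth.Agent.Lib.Helper11RedCl.ker_eq_of_isReduced (pullback.fst p (ik R))]
  congr 1
  apply SetLike.coe_injective
  show closure (Set.range (pullback.fst p (ik R)).base) = _
  rw [range_fst]
  exact (Models.isClosed_specialFibreSet R (Over.mk p)).closure_eq

end DVR

section Main
variable (R : Type u) [CommRing R] [IsDomain R] [IsDiscreteValuationRing R]
  {C X : Scheme.{u}} (f : C ⟶ Spec (CommRingCat.of (FractionRing R)))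
  (p : X ⟶ Spec (CommRingCat.of R))

theorem isRegular_of_smooth [Smooth p] (x : X) : IsRegularLocalRing (X.presheaf.stalk x) := by
  rw [Groth.Agent.Lib.Helper6.SmRegSch2.isRegularLocalRing_stalk_iff_of_smooth p x]
  exact Groth.Agent.Lib.Helper5.CMAffSp.isRegularLocalRing_stalk_spec R _

theorem isIrreducible_specialFibreSet [IsProper p] [Smooth p] (g : C ⟶ X)
    (H : IsPullback g f p (Spec.map (CommRingCat.ofHom (algebraMap R (FractionRing R)))))
    (hH0 : IsIso f.appTop) :
    IsIrreducible (Models.specialFibreSet R (Over.mk p)) := by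
  haveI hconn : ConnectedSpace ↥(pullback p (ik R)) :=
    Groth.Agent.Lib.H9Models.connectedSpace_specialFibre R f p g H hH0
  haveI : IsLocallyNoetherian (pullback p (ik R)) :=
    LocallyOfFiniteType.isLocallyNoetherian (pullback.snd p (ik R))
  haveI : CompactSpace ↥(pullback p (ik R) : Scheme.{u}) :=
    QuasiCompact.compactSpace_of_compactSpace (pullback.snd p (ik R))
  haveI : IsNoetherian (pullback p (ik R)) := {}
  haveI : IsIntegral (pullback p (ik R)) :=
    Groth.Agent.Lib.Helper11SmInt.isIntegral_of_connected_of_isDomain_stalk (fun y => by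
      haveI : IsRegularLocalRing ((pullback p (ik R)).presheaf.stalk y) := by
        rw [Groth.Agent.Lib.Helper6.SmRegSch2.isRegularLocalRing_stalk_iff_of_smooth
          (pullback.snd p (ik R)) y]
        exact Groth.Agent.Lib.Helper5.CMAffSp.isRegularLocalRing_stalk_spec (ResidueField R) _
      exact Groth.Agent.Lib.Helper5.isDomain_of_isRegularLocalRing _)
  rw [← range_fst R p]
  have := (IrreducibleSpace.isIrreducible_univ ↥(pullback p (ik R) : Scheme.{u})).image _
    (pullback.fst p (ik R)).continuous.continuousOn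
  rwa [Set.image_univ] at this

open Groth.Agent.Lib.R2H4TensorPows Groth.Agent.Lib.R2H4ModSec Groth.Agent.Lib.R2H4ModTriv
  Groth.Agent.Lib.R2H1.SpecialFibreProd Groth.Agent.Lib.R2H4ModMain in
/-- **S3338** -/
theorem main3338 (hH0 : IsIso f.appTop)
    (hX : Models.IsModel R X p C f) [IsProper p] [Smooth p] :
    Models.IsMinimalModel R X p C f := by
  obtain ⟨hflat, hlft, hqc, g, H⟩ := id hX
  haveI := hflat
  have hreg : ∀ x : X, IsRegularLocalRing (X.presheaf.stalk x) := isRegular_of_smooth R p
  refine ⟨⟨hX, inferInstance, hreg⟩, fun Γ hexc => ?_⟩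
  obtain ⟨hcart, k', hk', e', ⟨φ⟩⟩ := hexc
  haveI : IsLocallyNoetherian X := LocallyOfFiniteType.isLocallyNoetherian p
  obtain ⟨z₀⟩ : Nonempty Γ.curve.left := inferInstance
  haveI : Nonempty X := ⟨Γ.ι z₀⟩
  -- supports
  obtain ⟨J, hJdef⟩ : ∃ J : X.IdealSheafData, J = Models.specialFibreIdeal R (Over.mk p) := ⟨_, rfl⟩
  obtain ⟨I, hIdef⟩ : ∃ I : X.IdealSheafData, I = Groth.Agent.Lib.R2H4ModArith.kerOf Γ := ⟨_, rfl⟩
  have hcartI : BlowUp.IsEffCartierIdeal I := by
    rw [hIdef]
    exact hcart
  have hJ : BlowUp.IsEffCartierIdeal J := by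
    rw [hJdef]
    exact isEffCartier_specialFibreIdeal R X p
  have hsI : (I.support : Set X) = Set.range (Γ.ι.base : Γ.curve.left → X) := by
    rw [hIdef]
    exact Groth.Agent.Lib.R2H1.SpecialFibreProd.support_ker_eq_range Γ
  have hsJ : (J.support : Set X) = Models.specialFibreSet R (Over.mk p) := by
    rw [hJdef]
    exact support_specialFibreIdeal R (Over.mk p)
  have hsub : (I.support : Set X) ⊆ J.support := by
    rw [hsI, hsJ]
    exact Groth.Agent.Lib.R2H4ModArith.range_subset_fibre Γ
  have hirr : IsIrreducible (J.support : Set X) := by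
    rw [hsJ]
    exact isIrreducible_specialFibreSet R f p g H hH0
  have hne : (I.support : Set X).Nonempty := by
    rw [hsI]
    exact ⟨_, z₀, rfl⟩
  have hsup := Groth.Agent.Lib.H9ContrC.support_subset_of_effCartier I J hcartI hJ hsub hirr hne
  have hrange : Set.range (Γ.ι.base : Γ.curve.left → X) =
      Models.specialFibreSet R (Over.mk p) := by
    rw [← hsI, ← hsJ]
    exact Set.Subset.antisymm hsub hsup
  have hIJ : I = J := by
    rw [hJdef, specialFibreIdeal_eq_vanishingIdeal R p, hIdef]
    have h1 := Groth.Agent.Lib.R2H4ModNegA.ker_eq_vanishingIdeal Γ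
    refine h1.trans ?_
    congr 1
    exact SetLike.coe_injective hrange
  -- `X` is integral
  haveI hiso : IsIso p.appTop := Groth.Agent.Lib.H9Models.isIso_appTop R f p g H hH0
  haveI : IsIntegral X := Groth.Agent.Lib.R2H4PicGen.isIntegral_of_model hreg hiso
  -- an inverse of the ideal module
  obtain ⟨M, hM, ⟨eM⟩⟩ := Groth.Agent.Lib.R2H1.InvExists.exists_inverse (ClSub.idealMod J)
    (Groth.Agent.Helper18Cart.isInvertible_of_isEffCartier _ hJ)
  let eL : CohB1.tensorMod M (ClSub.idealMod J) ≅ Coh.structureModule X := tComm _ _ ≪≫ eM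
  obtain ⟨ϖ, hϖ⟩ := IsDiscreteValuationRing.exists_irreducible R
  have hmax : maximalIdeal R = Ideal.span {ϖ} :=
    (IsDiscreteValuationRing.irreducible_iff_uniformizer ϖ).mp hϖ
  have hZ : PicF2.zeroScheme M (canSec J M eL) = J := zeroScheme_canSec J M hM eL
  obtain ⟨ψ⟩ : Nonempty (Coh.structureModule X ≅ M) := by
    refine nonempty_iso M hM (canSec J M eL) (secHom R X p ⊤ ϖ) ?_ ?_
    · intro U
      rw [hZ, hJdef, specialFibreIdeal_ideal, hmax, Ideal.map_span, Set.image_singleton, rT_secHom]
    · intro U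
      rw [rT_secHom]
      exact nzd_secHom ϖ hϖ.ne_zero U
  let eJ : ClSub.idealMod J ≅ Coh.structureModule X :=
    (lUnit (ClSub.idealMod J)).symm ≪≫ tIso ψ (Iso.refl _) ≪≫ eL
  -- pull back to the projective line
  have e1 : (Scheme.Modules.pullback (e'.hom ≫ Γ.ι)).obj (ClSub.idealMod Γ.ι.ker) ≅
      Coh.structureModule (CohB1.ProjSpace 1 k') :=
    (Scheme.Modules.pullback (e'.hom ≫ Γ.ι)).mapIso
      (eqToIso (congrArg ClSub.idealMod (hIdef.symm.trans hIJ)) ≪≫ eJ) ≪≫
      Groth.Agent.Lib.Helper23.PB.pullbackUnitIso (e'.hom ≫ Γ.ι)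
  obtain ⟨e0⟩ := Groth.Agent.Lib.R2Lead.KRR.nonempty_twistProjSpace_zero_iso 1 k'
  have h10 : (1 : ℤ) = 0 :=
    Groth.Agent.Lib.R2H1.PicPn.twist_injective k' 1 le_rfl 1 0 ⟨φ.symm ≪≫ e1 ≪≫ e0.symm⟩
  exact absurd h10 one_ne_zero

end Main

end Groth.Agent.Lib.H9MinSm
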