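import Mathlib
import Groth.Prelude.Def_W4c6modpairsegaMP
import Groth.Agent.Lib.H9StrictCI
import Groth.Agent.Lib.H9BlowExt

set_option autoImplicit false
universe u
open nonZeroDivisors CategoryTheory CategoryTheory.Limits AlgebraicGeometry TopologicalSpace Opposite

namespace Groth.Agent.Lib.H9ModClos

open Groth.Agent.Lib.H9StrictCI

/-- every point is a specialization of a point in the complement of an effective Cartier divisor. -/
theorem exists_specializes_mem_cmpl {S : Scheme.{u}} (I : S.IdealSheafData)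
    (hI : BlowUp.IsEffCartierIdeal I) (s : S) : ∃ ξ : S, ξ ∈ cmpl I ∧ ξ ⤳ s := by
  obtain ⟨V, hsV, t, ht, hIt⟩ := hI s
  set p := V.2.primeIdealOf ⟨s, hsV⟩ with hp
  obtain ⟨q, hq, hqp⟩ := Ideal.exists_minimalPrimes_le (I := (⊥ : Ideal Γ(S, V.1)))
    (J := p.asIdeal) bot_le
  haveI : q.IsPrime := hq.1.1
  have htq : t ∉ q := by
    intro h
    exact (Ideal.disjoint_nonZeroDivisors_of_mem_minimalPrimes hq).le_bot ⟨h, ht⟩
  refine ⟨V.2.fromSpec ⟨q, inferInstance⟩, ?_, ?_⟩
  · have h1 : V.2.fromSpec ⟨q, inferInstance⟩ ∈ S.basicOpen t := by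
      change (⟨q, inferInstance⟩ : PrimeSpectrum _) ∈ V.2.fromSpec ⁻¹ᵁ (S.basicOpen t)
      rw [V.2.fromSpec_preimage_basicOpen]
      exact htq
    rw [← cmpl_inf_eq_basicOpen I V t hIt] at h1
    exact h1.1
  · have h1 : (⟨q, inferInstance⟩ : PrimeSpectrum Γ(S, V.1)) ⤳ p :=
      (PrimeSpectrum.le_iff_specializes _ _).mp hqp
    have h2 := h1.map V.2.fromSpec.continuous
    rw [hp, V.2.fromSpec_primeIdealOf] at h2
    exact h2

/-- the pulled back ideal is effective Cartier on the scheme-theoretic image of a quasi-compact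
morphism landing in the complement of a locally principal ideal. -/
theorem effCartier_comap_imageι {P W : Scheme.{u}} {𝓔 : P.IdealSheafData} (hE : IsLP 𝓔)
    (h : W ⟶ P) [QuasiCompact h] (hh : ∀ w, h w ∈ cmpl 𝓔) :
    BlowUp.IsEffCartierIdeal (𝓔.comap h.imageι) := by
  intro x
  set i := h.imageι with hi
  obtain ⟨V, hyV, t, ht⟩ := hE (i x)
  have hV' : IsAffineOpen (i ⁻¹ᵁ V.1) := V.2.preimage i
  refine ⟨⟨i ⁻¹ᵁ V.1, hV'⟩, hyV, (i.app V.1).hom t, ?_, ?_⟩
  · rw [mem_nonZeroDivisors_iff_right]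
    intro z hz
    obtain ⟨s, rfl⟩ := h.ker.subschemeι_app_surjective V z
    have h1 : s * t ∈ RingHom.ker (h.ker.subschemeι.app V.1).hom := by
      rw [RingHom.mem_ker, map_mul]; exact hz
    rw [Scheme.IdealSheafData.ker_subschemeι_app, Scheme.Hom.ker_apply, RingHom.mem_ker,
      map_mul] at h1
    have hunit : IsUnit ((h.app V.1).hom t) := by
      apply RingedSpace.isUnit_of_isUnit_germ W.toRingedSpace
      intro w hw
      rw [← RingedSpace.mem_basicOpen _ _ w hw]
      change w ∈ W.basicOpen ((h.app V.1).hom t)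
      rw [← Scheme.preimage_basicOpen, ← cmpl_inf_eq_basicOpen 𝓔 V t ht]
      exact ⟨hh w, hw⟩
    have h2 : (h.app V.1).hom s = 0 := (hunit.mul_left_eq_zero).mp h1
    have h3 : s ∈ RingHom.ker (h.ker.subschemeι.app V.1).hom := by
      rw [Scheme.IdealSheafData.ker_subschemeι_app, Scheme.Hom.ker_apply, RingHom.mem_ker]
      exact h2
    exact h3
  · exact Groth.Agent.Lib.H9ModPair7.comap_ideal_preimage i 𝓔 V.2 hV' t ht

theorem range_snd_of_isPullback {P X Y Z : Scheme.{u}} {fst : P ⟶ X} {snd : P ⟶ Y} {f : X ⟶ Z}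
    {g : Y ⟶ Z} (sq : IsPullback fst snd f g) : Set.range snd = g ⁻¹' Set.range f := by
  rw [← Scheme.Pullback.range_snd, ← sq.isoPullback_hom_snd, Scheme.Hom.comp_base,
    TopCat.coe_comp, Set.range_comp]
  rw [Set.range_eq_univ.mpr (ConcreteCategory.bijective_of_isIso sq.isoPullback.hom.base).2,
    Set.image_univ]

theorem main {S : Scheme.{u}} (I : S.IdealSheafData)
    (hI : BlowUp.IsEffCartierIdeal I) {ι : Type u} (V : ι → Scheme.{u})
    (g : ∀ i, V i ⟶ (ModPair.interior I : Scheme.{u})) [∀ i, IsClosedImmersion (g i)]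
    (hsurj : ∀ u : (ModPair.interior I : Scheme.{u}), ∃ (i : ι) (v : V i), (g i).base v = u) :
    (∀ s : S, ∃ (i : ι) (v : (g i ≫ (ModPair.interior I).ι).image),
        (g i ≫ (ModPair.interior I).ι).imageι.base v = s) ∧
      (∀ i, BlowUp.IsEffCartierIdeal (I.comap (g i ≫ (ModPair.interior I).ι).imageι)) ∧
      ∀ i, IsOpenImmersion (g i ≫ (ModPair.interior I).ι).toImage ∧
        Set.range (g i ≫ (ModPair.interior I).ι).toImage.base =
          (g i ≫ (ModPair.interior I).ι).imageι.base ⁻¹' (ModPair.interior I : Set S) := by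
  have hLP := isLP_of_effCartier hI
  haveI hqc : QuasiCompact (ModPair.interior I).ι := quasiCompact_cmpl_ι hLP
  refine ⟨?_, ?_, ?_⟩
  · intro s
    obtain ⟨ξ, hξU, hξs⟩ := exists_specializes_mem_cmpl I hI s
    obtain ⟨i, v, hv⟩ := hsurj ⟨ξ, hξU⟩
    refine ⟨i, ?_⟩
    have h1 : ξ ∈ Set.range (g i ≫ (ModPair.interior I).ι).imageι.base := by
      refine ⟨(g i ≫ (ModPair.interior I).ι).toImage.base v, ?_⟩
      rw [← Scheme.Hom.comp_apply, Scheme.Hom.toImage_imageι, Scheme.Hom.comp_apply]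
      change ((g i).base v).1 = ξ
      rw [hv]
    have h2 : IsClosed (Set.range (g i ≫ (ModPair.interior I).ι).imageι.base) :=
      (g i ≫ (ModPair.interior I).ι).imageι.isClosedEmbedding.isClosed_range
    exact hξs.mem_closed h2 h1
  · intro i
    exact effCartier_comap_imageι hLP (g i ≫ (ModPair.interior I).ι) (fun w => ((g i).base w).2)
  · intro i
    have sq : IsPullback (g i) (g i ≫ (ModPair.interior I).ι).toImage (ModPair.interior I).ι
        (g i ≫ (ModPair.interior I).ι).imageι := by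
      refine isPullback_of_isClosedImmersion _ _ _ _
        (Scheme.Hom.toImage_imageι (g i ≫ (ModPair.interior I).ι)).symm ?_
      rw [Scheme.IdealSheafData.ker_subschemeι, Scheme.Hom.ker_comp]
      exact Groth.Agent.Lib.H9BlowExt.comap_map_ι (ModPair.interior I) (g i).ker
    refine ⟨MorphismProperty.of_isPullback (P := @IsOpenImmersion) sq inferInstance, ?_⟩
    rw [range_snd_of_isPullback sq, Scheme.Opens.range_ι]


end Groth.Agent.Lib.H9ModClos
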