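import Groth.Agent.Lib.H9ModPair6
import Groth.Agent.Lib.H9ModPair1

/-! helper9: morphisms between admissible blow-ups of the same pair are scheme-theoretically
dominant; a limit of finitely presented admissible blow-ups which is an admissible blow-up is
isomorphic to one of them (S18754). -/

set_option autoImplicit false
universe u
open CategoryTheory CategoryTheory.Limits AlgebraicGeometry TopologicalSpace

namespace Groth.Agent.Lib.H9ModPair10


open ModPair Groth.Agent.Lib.H9ModPair1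

theorem dominant_of_comp {X Y Z : Scheme.{u}} (f : X ⟶ Y) (g : Y ⟶ Z)
    [IsSchemeTheoreticallyDominant (f ≫ g)] : IsSchemeTheoreticallyDominant g := by
  rw [isSchemeTheoreticallyDominant_iff, eq_bot_iff]
  have h1 := Scheme.Hom.le_ker_comp f g
  rw [(inferInstance : IsSchemeTheoreticallyDominant (f ≫ g)).ker_eq_bot] at h1
  exact h1

/-- a morphism between two abstract admissible blow-ups of the same pair is scheme-theoretically
dominant -/
theorem dominant_of_admBlowups {X X' Y : Scheme.{u}} (IY : Y.IdealSheafData) (s : X ⟶ Y)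
    (s' : X' ⟶ Y) (g : X' ⟶ X) (hg : g ≫ s = s')
    (hX : BlowUp.IsEffCartierIdeal (IY.comap s))
    (hs : IsAdmBlowup (IY.comap s) IY s) (hs' : IsAdmBlowup (IY.comap s') IY s') :
    IsSchemeTheoreticallyDominant g := by
  have h1 : IsIso ((g ≫ s) ∣_ interior IY) := by
    rw [hg]; exact hs'.2.2
  rw [morphismRestrict_comp] at h1
  have h2 : IsIso (g ∣_ (s ⁻¹ᵁ interior IY)) :=
    @IsIso.of_isIso_comp_right _ _ _ _ _ (g ∣_ (s ⁻¹ᵁ interior IY)) (s ∣_ interior IY) hs.2.2 h1
  have h3 : IsSchemeTheoreticallyDominant (s ⁻¹ᵁ interior IY).ι := by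
    rw [← interior_comap]
    exact interior_ι_dominant _ hX
  have h4 : IsSchemeTheoreticallyDominant ((g ⁻¹ᵁ (s ⁻¹ᵁ interior IY)).ι ≫ g) := by
    rw [← morphismRestrict_ι]
    infer_instance
  exact dominant_of_comp (g ⁻¹ᵁ (s ⁻¹ᵁ interior IY)).ι g

theorem main {Y : Scheme.{u}}
    [CompactSpace Y] [QuasiSeparatedSpace Y] (IY : Y.IdealSheafData) (hY : BlowUp.IsEffCartierIdeal IY)
    {I : Type u} [SmallCategory I] [IsCofiltered I] (D : I ⥤ Over Y) (c : Cone D) (hc : IsLimit c)
    [∀ (i j : I) (t : i ⟶ j), IsAffineHom (D.map t).left]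
    [∀ i, CompactSpace (D.obj i).left] [∀ i, QuasiSeparatedSpace (D.obj i).left]
    (hI : ∀ i, BlowUp.IsEffCartierIdeal (IY.comap (D.obj i).hom))
    (hadm : ∀ i, ModPair.IsAdmBlowup (IY.comap (D.obj i).hom) IY (D.obj i).hom)
    [∀ i, LocallyOfFinitePresentation (D.obj i).hom]
    (hX : BlowUp.IsEffCartierIdeal (IY.comap c.pt.hom))
    (hXadm : ModPair.IsAdmBlowup (IY.comap c.pt.hom) IY c.pt.hom) :
    LocallyOfFinitePresentation c.pt.hom := by
  haveI hdom : ∀ (i j : I) (t : i ⟶ j), IsSchemeTheoreticallyDominant (D.map t).left :=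
    fun i j t => dominant_of_admBlowups IY (D.obj j).hom (D.obj i).hom (D.map t).left
      (Over.w (D.map t)) (hI j) (hadm j) (hadm i)
  haveI : IsProper c.pt.hom := hXadm.2.1
  haveI : CompactSpace c.pt.left := QuasiCompact.compactSpace_of_compactSpace c.pt.hom
  haveI : QuasiSeparatedSpace c.pt.left := quasiSeparatedSpace_of_quasiSeparated c.pt.hom
  obtain ⟨i, φi, hφi⟩ := (Groth.Agent.Lib.H9ModPair6.main D c hc c.pt).1 (𝟙 c.pt)
  -- the retraction is a two-sided inverse
  have h2 : φi ≫ c.π.app i = 𝟙 (D.obj i) := by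
    ext1
    have hw : (φi ≫ c.π.app i).left ≫ (D.obj i).hom = (D.obj i).hom := Over.w (φi ≫ c.π.app i)
    refine eq_of_comp_admBlowup (IY.comap (D.obj i).hom) (IY.comap (D.obj i).hom) IY (hI i)
      (φi ≫ c.π.app i).left (𝟙 _) ?_ ?_ (D.obj i).hom (hadm i) ?_
    · show _ ≤ _
      rw [← Scheme.IdealSheafData.comap_comp, hw]
    · show _ ≤ _
      rw [Scheme.IdealSheafData.comap_id]
    · rw [hw, Category.id_comp]
  have hiso : IsIso (c.π.app i).left := by
    refine ⟨φi.left, ?_, ?_⟩
    · rw [← Over.comp_left, hφi]; rfl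
    · rw [← Over.comp_left, h2]; rfl
  have h3 : c.pt.hom = (c.π.app i).left ≫ (D.obj i).hom := (Over.w (c.π.app i)).symm
  rw [h3]
  infer_instance


end Groth.Agent.Lib.H9ModPair10
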