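import Groth.Agent.Lib.H9ModPair3
import Groth.Agent.Lib.H5bIdealDesc

set_option autoImplicit false
universe u
open CategoryTheory CategoryTheory.Limits AlgebraicGeometry TopologicalSpace

/-! Modulus pairs IV: ideal sheaves on disjoint unions: `sigmaIdeal` (glued from the summands via
H5bIdealDesc), `sigmaIdeal_comap`, `eq_of_comap_sigmaι_eq`, `le_of_comap_sigmaι_le`,
`sigmaIdeal_effCartier` (helper9). -/

namespace Groth.Agent.Lib.H9ModPair4

open ModPair nonZeroDivisors Groth.Agent.Lib.H9ModPair1 Groth.Agent.Lib.H9ModPair2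
  Groth.Agent.Lib.H9ModPair3 Groth.Agent.Lib.H5bIdealDesc

variable {σ : Type u} (Q : σ → Scheme.{u})

theorem mem_fpqc : Presieve.ofArrows Q (Sigma.ι Q) ∈ Scheme.fpqcPrecoverage (∐ Q) := by
  apply Scheme.zariskiPrecoverage_le_fpqcPrecoverage
  exact (sigmaOpenCover Q).mem₀

theorem subsingleton_idealSheafData (Z : Scheme.{u}) [IsEmpty Z] : Subsingleton Z.IdealSheafData := by
  constructor
  intro I J
  ext U : 2
  haveI : Subsingleton Γ(Z, U.1) := by
    have : U.1 = ⊥ := by
      ext z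
      exact isEmptyElim z
    rw [this]
    infer_instance
  exact Subsingleton.elim _ _

theorem hyp_sigma (I : ∀ i, (Q i).IdealSheafData) : Hyp (Sigma.ι Q) I := by
  apply hyp_of_fpqc _ (mem_fpqc Q)
  intro i j
  by_cases hij : i = j
  · subst hij
    congr 1
    exact (IsPullback.of_hasPullback (Sigma.ι Q i) (Sigma.ι Q i)).cone.fst_eq_snd_of_mono_eq
  · haveI := isEmpty_pullback_sigmaι_of_ne Q hij
    haveI := subsingleton_idealSheafData (pullback (Sigma.ι Q i) (Sigma.ι Q j))
    exact Subsingleton.elim _ _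

/-- the glued ideal sheaf on a disjoint union -/
noncomputable def sigmaIdeal (I : ∀ i, (Q i).IdealSheafData) : (∐ Q).IdealSheafData :=
  Jdesc (hyp_sigma Q I)

theorem sigmaIdeal_comap (I : ∀ i, (Q i).IdealSheafData) (i : σ) :
    (sigmaIdeal Q I).comap (Sigma.ι Q i) = I i :=
  Jdesc_comap (hyp_sigma Q I) i

/-- ideal sheaves on a disjoint union are determined by their restrictions -/
theorem eq_of_comap_sigmaι_eq {J J' : (∐ Q).IdealSheafData}
    (h : ∀ i, J.comap (Sigma.ι Q i) = J'.comap (Sigma.ι Q i)) : J = J' := by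
  have h1 := Jdesc_unique (hyp_sigma Q (fun i => J'.comap (Sigma.ι Q i))) J h
  have h2 := Jdesc_unique (hyp_sigma Q (fun i => J'.comap (Sigma.ι Q i))) J' (fun _ => rfl)
  exact h1.trans h2.symm

theorem le_of_comap_sigmaι_le {J J' : (∐ Q).IdealSheafData}
    (h : ∀ i, J.comap (Sigma.ι Q i) ≤ J'.comap (Sigma.ι Q i)) : J ≤ J' := by
  have h1 : J ⊔ J' = J' := by
    apply eq_of_comap_sigmaι_eq
    intro i
    rw [Scheme.IdealSheafData.comap_sup]
    exact sup_eq_right.mpr (h i)
  exact sup_eq_right.mp h1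

theorem sigmaIdeal_effCartier (I : ∀ i, (Q i).IdealSheafData)
    (hI : ∀ i, BlowUp.IsEffCartierIdeal (I i)) : BlowUp.IsEffCartierIdeal (sigmaIdeal Q I) := by
  apply isEffCartierIdeal_of_cover
  intro x
  obtain ⟨i, y, rfl⟩ := (sigmaOpenCover Q).exists_eq x
  refine ⟨Q i, Sigma.ι Q i, inferInstance, ⟨y, rfl⟩, ?_⟩
  rw [sigmaIdeal_comap]
  exact hI i

end Groth.Agent.Lib.H9ModPair4
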