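import Groth.Agent.Lib.H9ModPair3
import Groth.Agent.Lib.Helper22NA13
import Groth.Agent.Lib.Helper11SchImage

/-! helper9: cofiltered limits with affine, scheme-theoretically dominant transitions:
projections are dominant; Hom into finite-type targets commutes with the limit (S18742). -/

set_option autoImplicit false
universe u
open CategoryTheory CategoryTheory.Limits AlgebraicGeometry TopologicalSpace

namespace Groth.Agent.Lib.H9ModPair6

section Part1

variable {I : Type u} [SmallCategory I] [IsCofiltered I] (D : I ⥤ Scheme.{u}) (c : Cone D)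
  (hc : IsLimit c)

include hc in
/-- the projections of a cofiltered limit with affine, scheme-theoretically dominant transition
maps are scheme-theoretically dominant -/
theorem dominant_π_app [∀ {i j} (f : i ⟶ j), IsAffineHom (D.map f)]
    [∀ {i j} (f : i ⟶ j), IsSchemeTheoreticallyDominant (D.map f)] (i : I) :
    IsSchemeTheoreticallyDominant (c.π.app i) := by
  rw [isSchemeTheoreticallyDominant_iff, eq_bot_iff]
  intro U
  refine (Scheme.Hom.ideal_ker_le _ U).trans ?_
  intro s hs
  rw [RingHom.mem_ker] at hs
  obtain ⟨j, f, hf⟩ := exists_app_map_eq_map_of_isLimit D c hc U.2.isCompact s 0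
    (by rw [hs, map_zero])
  rw [map_zero] at hf
  have hinj := (D.map f).app_injective U.1
  have : s = 0 := hinj (by rw [hf, map_zero])
  rw [this]
  exact Ideal.zero_mem _

end Part1

section Part2

theorem main {S : Scheme.{u}} [CompactSpace S]
    [QuasiSeparatedSpace S] {I : Type u} [SmallCategory I] [IsCofiltered I] (D : I ⥤ Over S)
    (c : Cone D) (hc : IsLimit c)
    [∀ (i j : I) (t : i ⟶ j), IsAffineHom (D.map t).left]
    [∀ (i j : I) (t : i ⟶ j), IsSchemeTheoreticallyDominant (D.map t).left]
    [∀ i, CompactSpace (D.obj i).left] [∀ i, QuasiSeparatedSpace (D.obj i).left]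
    (Y : Over S) [CompactSpace Y.left] [QuasiSeparatedSpace Y.left] [LocallyOfFiniteType Y.hom] :
    (∀ φ : c.pt ⟶ Y, ∃ (i : I) (φi : D.obj i ⟶ Y), c.π.app i ≫ φi = φ) ∧
      ∀ (i : I) (φ ψ : D.obj i ⟶ Y), c.π.app i ≫ φ = c.π.app i ≫ ψ →
        ∃ (j : I) (t : j ⟶ i), D.map t ≫ φ = D.map t ≫ ψ := by
  have : IsConnected I := IsCofiltered.isConnected I
  let D' : I ⥤ Scheme.{u} := D ⋙ Over.forget S
  let c' : Cone D' := (Over.forget S).mapCone c
  have hc' : IsLimit c' := isLimitOfPreserves (Over.forget S) hc
  let t' : D' ⟶ (Functor.const I).obj S :=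
    { app := fun i => (D.obj i).hom
      naturality := fun i j f => by
        simp only [Functor.const_obj_obj, Functor.const_obj_map, Category.comp_id]
        exact Over.w (D.map f) }
  have hA : ∀ {i j : I} (f : i ⟶ j), IsAffineHom (D'.map f) := fun {i j} f =>
    inferInstanceAs (IsAffineHom (D.map f).left)
  have hDm : ∀ {i j : I} (f : i ⟶ j), IsSchemeTheoreticallyDominant (D'.map f) := fun {i j} f =>
    inferInstanceAs (IsSchemeTheoreticallyDominant (D.map f).left)
  have hC : ∀ i, CompactSpace (D'.obj i) := fun i => inferInstanceAs (CompactSpace (D.obj i).left)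
  have hQ : ∀ i, QuasiSeparatedSpace (D'.obj i) := fun i =>
    inferInstanceAs (QuasiSeparatedSpace (D.obj i).left)
  constructor
  · intro φ
    obtain ⟨Y', f', j, h1, h2, h3, h4, h5, h6, h7⟩ :=
      Groth.Agent.Lib.Helper22.NA13.exists_closedImmersion_fp Y.hom
    obtain ⟨i, g, hg1, hg2⟩ := Scheme.exists_π_app_comp_eq_of_locallyOfFinitePresentation D' t' f'
      c' hc' (φ.left ≫ j) (by
        ext i
        simp only [NatTrans.comp_app, Functor.const_obj_obj, Functor.const_map_app,
          Category.assoc, h7]
        show (c.π.app i).left ≫ (D.obj i).hom = φ.left ≫ Y.hom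
        rw [Over.w, Over.w]
        rfl)
    have hdom : IsSchemeTheoreticallyDominant (c'.π.app i) :=
      dominant_π_app D' c' hc' i
    obtain ⟨l, hl⟩ : ∃ l : (D.obj i).left ⟶ Y.left, l ≫ j = g :=
      Groth.Agent.Lib.Helper11SchImage.exists_lift_of_dominant (c'.π.app i) g φ.left j hg1
    have hlw : l ≫ Y.hom = (D.obj i).hom := by
      rw [← h7, ← Category.assoc, hl]
      exact hg2
    refine ⟨i, Over.homMk l hlw, ?_⟩
    ext1
    rw [Over.comp_left]
    show (c.π.app i).left ≫ l = φ.left
    rw [← cancel_mono j, Category.assoc, hl]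
    exact hg1
  · intro i φ ψ h
    obtain ⟨k, hik, hk⟩ := Scheme.exists_hom_comp_eq_comp_of_locallyOfFiniteType D' t' Y.hom c' hc'
      φ.left ψ.left (Over.w φ).symm (Over.w ψ).symm (by
        have := congrArg (fun f => f.left) h
        simp only [Over.comp_left] at this
        exact this)
    refine ⟨k, hik, ?_⟩
    ext1
    rw [Over.comp_left, Over.comp_left]
    exact hk

end Part2

end Groth.Agent.Lib.H9ModPair6
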