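import Mathlib
import Groth.Agent.Lib.Helper18OverLoc

/-! helper9: localization of a full subcategory closed under sources of `W`-morphisms is a full
subcategory of the localization (calculus of right fractions); `Over.post L` is a localization
functor of the slice category. Used for S18758. -/

set_option autoImplicit false
universe v₁ v₂ v₃ u₁ u₂ u₃
open CategoryTheory

namespace Groth.Agent.Lib.H9ModPair8


variable {C : Type u₁} [Category.{v₁} C] (W : MorphismProperty C) (P : ObjectProperty C)

abbrev WP : MorphismProperty P.FullSubcategory := W.inverseImage P.ι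

variable (hP : ∀ ⦃X Y : C⦄ (s : X ⟶ Y), W s → P Y → P X)

include hP in
theorem rcf [W.HasRightCalculusOfFractions] : (WP W P).HasRightCalculusOfFractions where
  exists_rightFraction X Y φ := by
    obtain ⟨ψ, hψ⟩ := MorphismProperty.HasRightCalculusOfFractions.exists_rightFraction
      (W := W) (X := X.obj) (Y := Y.obj) ⟨φ.f.hom, φ.s.hom, φ.hs⟩
    dsimp at hψ
    let Z : P.FullSubcategory := ⟨ψ.X', hP ψ.s ψ.hs X.2⟩
    refine ⟨⟨(ObjectProperty.homMk ψ.s : Z ⟶ X), ψ.hs, ObjectProperty.homMk ψ.f⟩, ?_⟩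
    ext
    exact hψ
  ext X Y Y' f₁ f₂ s hs h := by
    obtain ⟨X', t, ht, hh⟩ := MorphismProperty.HasRightCalculusOfFractions.ext
      (W := W) f₁.hom f₂.hom s.hom hs (by
        rw [← ObjectProperty.FullSubcategory.comp_hom, h, ObjectProperty.FullSubcategory.comp_hom])
    refine ⟨⟨X', hP t ht X.2⟩, ObjectProperty.homMk t, ht, ?_⟩
    ext
    exact hh

variable {W P}

/-- the underlying fraction in `C` -/
def under {X Y : P.FullSubcategory} (z : (WP W P).RightFraction X Y) :
    W.RightFraction X.obj Y.obj :=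
  ⟨z.s.hom, z.hs, z.f.hom⟩

include hP in
/-- lifting a fraction of `C` between objects of the subcategory -/
def liftFrac {X Y : P.FullSubcategory} (φ : W.RightFraction X.obj Y.obj) :
    (WP W P).RightFraction X Y :=
  ⟨(ObjectProperty.homMk φ.s : (⟨φ.X', hP φ.s φ.hs X.2⟩ : P.FullSubcategory) ⟶ X), φ.hs,
    ObjectProperty.homMk φ.f⟩

variable {D : Type u₂} [Category.{v₂} D] (L : C ⥤ D) [L.IsLocalization W]

lemma invι : (WP W P).IsInvertedBy (P.ι ⋙ L) := by
  intro X Y f hf
  exact Localization.inverts L W _ hf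

lemma under_map {X Y : P.FullSubcategory} (z : (WP W P).RightFraction X Y) :
    (under z).map L (Localization.inverts L W) = z.map (P.ι ⋙ L) (invι L) := by
  have : IsIso (L.map (under z).s) := Localization.inverts L W _ (under z).hs
  rw [← cancel_epi (L.map (under z).s), MorphismProperty.RightFraction.map_s_comp_map]
  exact (MorphismProperty.RightFraction.map_s_comp_map z (P.ι ⋙ L) (invι L)).symm

include hP in
theorem full_faithful [W.HasRightCalculusOfFractions]
    {E : Type u₃} [Category.{v₃} E] (L' : P.FullSubcategory ⥤ E)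
    [L'.IsLocalization (W.inverseImage P.ι)]
    (Φ : E ⥤ D) (e : L' ⋙ Φ ≅ P.ι ⋙ L) : Φ.Full ∧ Φ.Faithful := by
  haveI : (WP W P).HasRightCalculusOfFractions := rcf W P hP
  have hL' : (WP W P).IsInvertedBy L' := Localization.inverts L' _
  have hcomp : (WP W P).IsInvertedBy (L' ⋙ Φ) := fun X Y f hf => by
    have := hL' f hf
    dsimp
    infer_instance
  have key : ∀ {X Y : P.FullSubcategory} (z : (WP W P).RightFraction X Y),
      Φ.map (z.map L' hL') = e.hom.app X ≫ z.map (P.ι ⋙ L) (invι L) ≫ e.inv.app Y := by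
    intro X Y z
    have h := Groth.Agent.Lib.Helper18OverLoc.map_natIso e hcomp (invι L) z
    rw [← Groth.Agent.Lib.Helper18OverLoc.map_comp_functor L' Φ hL' hcomp, ← Category.assoc, ← h]
    simp
  have : L'.EssSurj := Localization.essSurj L' (WP W P)
  constructor
  · refine ⟨fun {e₁ e₂} g => ?_⟩
    let a₁ : L'.obj (L'.objPreimage e₁) ≅ e₁ := L'.objObjPreimageIso e₁
    let a₂ : L'.obj (L'.objPreimage e₂) ≅ e₂ := L'.objObjPreimageIso e₂
    obtain ⟨φ, hφ⟩ := Localization.exists_rightFraction L W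
      (e.inv.app _ ≫ Φ.map a₁.hom ≫ g ≫ Φ.map a₂.inv ≫ e.hom.app _)
    let z : (WP W P).RightFraction (L'.objPreimage e₁) (L'.objPreimage e₂) := liftFrac hP φ
    have hz : z.map (P.ι ⋙ L) (invι L) = φ.map L (Localization.inverts L W) :=
      (under_map L z).symm
    refine ⟨a₁.inv ≫ z.map L' hL' ≫ a₂.hom, ?_⟩
    rw [Φ.map_comp, Φ.map_comp, key, hz, ← hφ]
    simp [← Φ.map_comp_assoc, ← Φ.map_comp]
  · refine ⟨fun {e₁ e₂} u v huv => ?_⟩
    let a₁ : L'.obj (L'.objPreimage e₁) ≅ e₁ := L'.objObjPreimageIso e₁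
    let a₂ : L'.obj (L'.objPreimage e₂) ≅ e₂ := L'.objObjPreimageIso e₂
    obtain ⟨z₁, hz₁⟩ := Localization.exists_rightFraction L' (WP W P) (a₁.hom ≫ u ≫ a₂.inv)
    obtain ⟨z₂, hz₂⟩ := Localization.exists_rightFraction L' (WP W P) (a₁.hom ≫ v ≫ a₂.inv)
    have h3 : Φ.map (z₁.map L' hL') = Φ.map (z₂.map L' hL') := by
      rw [← hz₁, ← hz₂]
      simp [huv]
    rw [key, key] at h3
    have h4 : z₁.map (P.ι ⋙ L) (invι L) = z₂.map (P.ι ⋙ L) (invι L) := by
      simpa using h3
    rw [← under_map, ← under_map, MorphismProperty.RightFraction.map_eq_iff] at h4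
    obtain ⟨Z, t₁, t₂, hs, hf, ht⟩ := h4
    dsimp [under] at t₁ t₂ hs hf ht
    have h5 : MorphismProperty.RightFractionRel z₁ z₂ := by
      let Z' : P.FullSubcategory := ⟨Z, hP _ ht (L'.objPreimage e₁).2⟩
      refine ⟨Z', ObjectProperty.homMk t₁, ObjectProperty.homMk t₂, ?_, ?_, ?_⟩
      · ext; exact hs
      · ext; exact hf
      · exact ht
    have h6 : z₁.map L' hL' = z₂.map L' hL' :=
      (MorphismProperty.RightFraction.map_eq_iff L' (WP W P) z₁ z₂).2 h5
    have h7 : a₁.hom ≫ u ≫ a₂.inv = a₁.hom ≫ v ≫ a₂.inv := by rw [hz₁, hz₂, h6]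
    simpa using h7


open Groth.Agent.Lib.Helper18OverLoc in
/-- `Over.post Q` is a localization functor of the slice category (consequence of S18741) -/
theorem isLocalization_post {C : Type*} [Category C] (W : MorphismProperty C)
    [W.HasRightCalculusOfFractions] (S : C) {D : Type*} [Category D] (L : C ⥤ D)
    [L.IsLocalization W] :
    (Over.post (X := S) L).IsLocalization (W.inverseImage (Over.forget S)) := by
  let L'' := (W.inverseImage (Over.forget S)).Q
  let Φ'' := Localization.lift (Over.post (X := S) L) (invF (W := W) L) L''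
  let e'' : L'' ⋙ Φ'' ≅ Over.post (X := S) L := Localization.fac _ _ _
  have : Φ''.IsEquivalence := main (W := W) L L'' Φ'' e''
  exact Functor.IsLocalization.of_equivalence_target L'' _ (Over.post (X := S) L)
    Φ''.asEquivalence e''

end Groth.Agent.Lib.H9ModPair8
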