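import Groth.Agent.Lib.H9ModPair4

/-! helper9: (1) dual of Mathlib's `Localization.hasProductsOfShape`: localizations have and
preserve finite coproducts when `W` is stable under them; (2) disjoint unions of abstract admissible
blow-ups are abstract admissible blow-ups; (3) explicit coproducts of modulus pairs, stability of
`Pair.admBlowup` under coproducts, binary coproducts in the localization (S18748). -/

set_option autoImplicit false
open CategoryTheory CategoryTheory.Limits AlgebraicGeometry TopologicalSpace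

namespace Groth.Agent.Lib.H9ModPair9

section Cat
universe v₁ v₂ u₁ u₂

variable {C : Type u₁} {D : Type u₂} [Category.{v₁} C] [Category.{v₂} D] (L : C ⥤ D)
  (W : MorphismProperty C)

/-- the opposite of a product, as a colimit cofan -/
noncomputable def unopCofan {J : Type} (X : J → Cᵒᵖ) [HasProduct X] :
    Cofan (fun j => (X j).unop) :=
  Cofan.mk (∏ᶜ X).unop (fun j => (Pi.π X j).unop)

noncomputable def isColimitUnopCofan {J : Type} (X : J → Cᵒᵖ) [HasProduct X] :
    IsColimit (unopCofan X) :=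
  mkCofanColimit _ (fun s => (Pi.lift (fun j => (s.inj j).op)).unop)
    (fun s j => by
      show (Pi.π X j).unop ≫ (Pi.lift (fun j => (s.inj j).op)).unop = s.inj j
      rw [← unop_comp, Pi.lift_π]
      rfl)
    (fun s m hm => by
      apply Quiver.Hom.op_inj
      show m.op = Pi.lift (fun j => (s.inj j).op)
      apply Pi.hom_ext
      intro j
      rw [Pi.lift_π, ← hm j]
      rfl)

theorem op_isStableUnderProductsOfShape (J : Type) [W.RespectsIso]
    [W.IsStableUnderCoproductsOfShape J] : W.op.IsStableUnderProductsOfShape J := by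
  apply MorphismProperty.IsStableUnderProductsOfShape.mk
  intro X₁ X₂ _ _ f hf
  show W (Limits.Pi.map f).unop
  refine MorphismProperty.IsStableUnderColimitsOfShape.condition (W := W) (J := Discrete J)
    (Discrete.functor (fun j => (X₂ j).unop)) (Discrete.functor (fun j => (X₁ j).unop))
    (unopCofan X₂) (unopCofan X₁) (isColimitUnopCofan X₂) (isColimitUnopCofan X₁)
    (Discrete.natTrans (fun j => (f j.as).unop)) (fun j => hf j.as) _ ?_
  rintro ⟨j⟩
  show (Pi.π X₂ j).unop ≫ (Limits.Pi.map f).unop = (f j).unop ≫ (Pi.π X₁ j).unop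
  rw [← unop_comp, ← unop_comp, Limits.Pi.map_π]

/-- dual of `Localization.hasProductsOfShape` / `Localization.preservesProductsOfShape` -/
theorem hasCoproductsOfShape_and_preserves [L.IsLocalization W] (J : Type) [Finite J]
    [HasCoproductsOfShape J C] [W.ContainsIdentities] [W.RespectsIso]
    [W.IsStableUnderCoproductsOfShape J] :
    HasCoproductsOfShape J D ∧ PreservesColimitsOfShape (Discrete J) L := by
  haveI := op_isStableUnderProductsOfShape W J
  have h1 : HasProductsOfShape J Dᵒᵖ := Localization.hasProductsOfShape L.op W.op J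
  have h2 : PreservesLimitsOfShape (Discrete J) L.op :=
    Localization.preservesProductsOfShape L.op W.op J
  constructor
  · exact hasCoproductsOfShape_of_opposite J
  · haveI : PreservesLimitsOfShape (Discrete J)ᵒᵖ L.op :=
      preservesLimitsOfShape_of_equiv (Discrete.opposite J).symm _
    exact preservesColimitsOfShape_of_op (Discrete J) L

end Cat

universe u

section Geom

open ModPair Groth.Agent.Lib.H9ModPair1 Groth.Agent.Lib.H9ModPair3 Groth.Agent.Lib.H9ModPair4

variable {σ : Type u} (A B : σ → Scheme.{u}) (f : ∀ j, A j ⟶ B j)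

theorem sigmaMap_preimage_opensRange (j : σ) :
    (Limits.Sigma.map f) ⁻¹ᵁ (Sigma.ι B j).opensRange = (Sigma.ι A j).opensRange := by
  apply le_antisymm
  · intro x hx
    obtain ⟨k, y, rfl⟩ := (sigmaOpenCover A).exists_eq x
    have h1 : (Limits.Sigma.map f) (Sigma.ι A k y) = Sigma.ι B k (f k y) := by
      rw [← Scheme.Hom.comp_apply, Sigma.ι_map]
      rfl
    obtain ⟨z, hz⟩ := hx
    by_cases hkj : k = j
    · subst hkj
      exact ⟨y, rfl⟩
    · exfalso
      have hd := disjoint_opensRange_sigmaι B k j hkj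
      have h2 : (Limits.Sigma.map f) (Sigma.ι A k y) ∈
          ((Sigma.ι B k).opensRange ⊓ (Sigma.ι B j).opensRange : (∐ B).Opens) :=
        ⟨⟨f k y, h1.symm⟩, ⟨z, hz⟩⟩
      rw [disjoint_iff.mp hd] at h2
      exact h2
  · rintro _ ⟨y, rfl⟩
    refine ⟨f j y, ?_⟩
    rw [← Scheme.Hom.comp_apply, ← Scheme.Hom.comp_apply, Sigma.ι_map]

theorem isPullback_sigmaMap (j : σ) :
    IsPullback (f j) (Sigma.ι A j) (Sigma.ι B j) (Limits.Sigma.map f) :=
  IsOpenImmersion.isPullback (f j) (Sigma.ι A j) (Sigma.ι B j) (Limits.Sigma.map f)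
    (Sigma.ι_map _ _) (sigmaMap_preimage_opensRange A B f j)

theorem isProper_sigmaMap (h : ∀ j, IsProper (f j)) : IsProper (Limits.Sigma.map f) := by
  rw [IsZariskiLocalAtTarget.iff_of_openCover (P := @IsProper) (sigmaOpenCover B)]
  intro (j : σ)
  have sq := (isPullback_sigmaMap A B f j).flip
  have h1 : pullback.snd (Limits.Sigma.map f) (Sigma.ι B j) = sq.isoPullback.inv ≫ f j := by
    rw [Iso.eq_inv_comp]
    exact sq.isoPullback_hom_snd
  show IsProper (pullback.snd (Limits.Sigma.map f) (Sigma.ι B j))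
  rw [h1]
  have := h j
  infer_instance

theorem isIso_restrict_of_opens_eq {Y Z : Scheme.{u}} (p : Y ⟶ Z) {V V' : Z.Opens} (h : V = V')
    (hV : IsIso (p ∣_ V)) : IsIso (p ∣_ V') := by
  subst h
  exact hV

/-- an isomorphism over an open of a cartesian open piece is an isomorphism over its image -/
theorem isIso_restrict_of_isPullback {A₀ B₀ A' B' : Scheme.{u}} (fj : A₀ ⟶ B₀) (jA : A₀ ⟶ A')
    (jB : B₀ ⟶ B') (p : A' ⟶ B') [IsOpenImmersion jA] [IsOpenImmersion jB]
    (sq : IsPullback fj jA jB p) (W : B'.Opens) (hW : W ≤ jB.opensRange)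
    (h : IsIso (fj ∣_ (jB ⁻¹ᵁ W))) : IsIso (p ∣_ W) := by
  -- `jB ∣_ W` is an isomorphism
  have hB : IsIso (jB ∣_ W) := by
    apply isIso_of_isOpenImmersion_of_opensRange_eq_top
    rw [eq_top_iff]
    rintro ⟨z, hz⟩ -
    obtain ⟨y, rfl⟩ := hW hz
    refine ⟨⟨y, hz⟩, ?_⟩
    apply Subtype.ext
    rw [morphismRestrict_base_coe]
  have hq1 : IsIso ((fj ≫ jB) ∣_ W) := by
    rw [morphismRestrict_comp]
    exact @IsIso.comp_isIso _ _ _ _ _ _ _ h hB
  have hq : IsIso ((jA ≫ p) ∣_ W) := isIso_restrict_of_hom_eq sq.w.symm W hq1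
  rw [morphismRestrict_comp] at hq
  have hsurj : (jA ∣_ (p ⁻¹ᵁ W)).opensRange = ⊤ := by
    rw [eq_top_iff]
    rintro ⟨z, hz⟩ -
    -- `p z ∈ W ⊆ range jB`, so `z ∈ range jA` by the pullback property
    obtain ⟨y, hy⟩ := hW hz
    obtain ⟨x, hx1, hx2⟩ := (Scheme.Pullback.exists_preimage_pullback (f := jB) (g := p) y z hy)
    have hz' : z = jA (sq.isoPullback.inv x) := by
      rw [← hx2, ← Scheme.Hom.comp_apply, sq.isoPullback_inv_snd]
    refine ⟨⟨sq.isoPullback.inv x, ?_⟩, ?_⟩
    · show jA (sq.isoPullback.inv x) ∈ p ⁻¹ᵁ W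
      rw [← hz']
      exact hz
    · apply Subtype.ext
      rw [morphismRestrict_base_coe]
      exact hz'.symm
  have hi := isIso_of_isOpenImmersion_of_opensRange_eq_top _ hsurj
  exact @IsIso.of_isIso_comp_left _ _ _ _ _ (jA ∣_ (p ⁻¹ᵁ W)) (p ∣_ W) hi hq

/-- being an isomorphism over an open can be checked on an open cover of that open -/
theorem isIso_restrict_of_iSup {Y Z : Scheme.{u}} (p : Y ⟶ Z) {ι : Type*} (U : Z.Opens)
    (V : ι → Z.Opens) (hU : ⨆ i, V i = U) (h : ∀ i, IsIso (p ∣_ V i)) : IsIso (p ∣_ U) := by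
  have hle : ∀ i, V i ≤ U := fun i => by rw [← hU]; exact le_iSup V i
  have key : (MorphismProperty.isomorphisms Scheme.{u}) (p ∣_ U) := by
    apply IsZariskiLocalAtTarget.of_iSup_eq_top (P := MorphismProperty.isomorphisms Scheme.{u})
      (fun i : ι => U.ι ⁻¹ᵁ (V i))
    · rw [eq_top_iff]
      rintro ⟨z, hz⟩ -
      rw [← hU] at hz
      obtain ⟨i, hi⟩ := Opens.mem_iSup.mp hz
      exact Opens.mem_iSup.mpr ⟨i, hi⟩
    · intro i
      rw [(MorphismProperty.isomorphisms Scheme.{u}).arrow_mk_iso_iff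
        (morphismRestrictRestrict p U _)]
      have e : U.ι ''ᵁ (U.ι ⁻¹ᵁ (V i)) = V i := by
        rw [Scheme.Hom.image_preimage_eq_opensRange_inf, Scheme.Opens.opensRange_ι]
        exact inf_eq_right.mpr (hle i)
      rw [(MorphismProperty.isomorphisms Scheme.{u}).arrow_mk_iso_iff (morphismRestrictEq p e)]
      exact h i
  exact key

/-- a disjoint union of abstract admissible blow-ups is an abstract admissible blow-up -/
theorem isAdmBlowup_sigmaMap (IA : ∀ j, (A j).IdealSheafData) (IB : ∀ j, (B j).IdealSheafData)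
    (h : ∀ j, IsAdmBlowup (IA j) (IB j) (f j)) :
    IsAdmBlowup (sigmaIdeal A IA) (sigmaIdeal B IB) (Limits.Sigma.map f) := by
  refine ⟨?_, isProper_sigmaMap A B f (fun j => (h j).2.1), ?_⟩
  · apply eq_of_comap_sigmaι_eq
    intro j
    rw [sigmaIdeal_comap, ← Scheme.IdealSheafData.comap_comp, Sigma.ι_map,
      Scheme.IdealSheafData.comap_comp, sigmaIdeal_comap]
    exact (h j).1
  · apply isIso_restrict_of_iSup (Limits.Sigma.map f) (interior (sigmaIdeal B IB))
      (fun j => interior (sigmaIdeal B IB) ⊓ (Sigma.ι B j).opensRange)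
    · apply le_antisymm
      · exact iSup_le (fun j => inf_le_left)
      · intro x hx
        obtain ⟨k, y, rfl⟩ := (sigmaOpenCover B).exists_eq x
        exact Opens.mem_iSup.mpr ⟨k, hx, ⟨y, rfl⟩⟩
    · intro j
      apply isIso_restrict_of_isPullback (f j) (Sigma.ι A j) (Sigma.ι B j) (Limits.Sigma.map f)
        (isPullback_sigmaMap A B f j) _ inf_le_right
      have e : interior (IB j) =
          Sigma.ι B j ⁻¹ᵁ (interior (sigmaIdeal B IB) ⊓ (Sigma.ι B j).opensRange) := by
        rw [Scheme.Hom.preimage_inf, ← interior_comap, sigmaIdeal_comap]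
        have : Sigma.ι B j ⁻¹ᵁ (Sigma.ι B j).opensRange = ⊤ := by
          rw [eq_top_iff]
          intro y _
          exact ⟨y, rfl⟩
        rw [this, inf_top_eq]
      exact isIso_restrict_of_opens_eq (f j) e (h j).2.2

end Geom

section PairLevel

open ModPair Groth.Agent.Lib.H9ModPair1 Groth.Agent.Lib.H9ModPair3 Groth.Agent.Lib.H9ModPair4

theorem admBlowup_of_isIso {P Q : Pair.{u}} (f : P ⟶ Q) [IsIso f] : Pair.admBlowup f := by
  have hiso : IsIso f.hom := inferInstanceAs (IsIso (Pair.forget.map f))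
  have h1 : f.hom ≫ (inv f).hom = 𝟙 _ := congrArg Pair.Hom.hom (IsIso.hom_inv_id f)
  refine ⟨le_antisymm f.cond ?_, inferInstance, inferInstance⟩
  have h2 : Q.mod.comap f.hom ≤ (P.mod.comap (inv f).hom).comap f.hom :=
    Scheme.IdealSheafData.comap_mono f.hom (inv f).cond
  rw [← Scheme.IdealSheafData.comap_comp, h1, Scheme.IdealSheafData.comap_id] at h2
  exact h2

instance : (Pair.admBlowup.{u}).ContainsIdentities := ⟨fun P => isAdmBlowup_id P.mod⟩

theorem admBlowup_comp {P Q R : Pair.{u}} (f : P ⟶ Q) (g : Q ⟶ R) (hf : Pair.admBlowup f)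
    (hg : Pair.admBlowup g) : Pair.admBlowup (f ≫ g) :=
  isAdmBlowup_comp P.mod Q.mod R.mod f.hom g.hom hf hg

instance : (Pair.admBlowup.{u}).RespectsIso :=
  MorphismProperty.RespectsIso.mk _
    (fun e f hf => admBlowup_comp e.hom f (admBlowup_of_isIso e.hom) hf)
    (fun e f hf => admBlowup_comp f e.hom hf (admBlowup_of_isIso e.hom))

section sigma

variable {σ : Type u} (F : Discrete σ ⥤ Pair.{u})

/-- the disjoint union of a family of modulus pairs -/
noncomputable def sigmaPair : Pair.{u} where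
  total := ∐ (fun i => (F.obj ⟨i⟩).total)
  mod := sigmaIdeal (fun i => (F.obj ⟨i⟩).total) (fun i => (F.obj ⟨i⟩).mod)
  isEffCartier := sigmaIdeal_effCartier _ _ (fun i => (F.obj ⟨i⟩).isEffCartier)

noncomputable def sigmaInj (j : Discrete σ) : F.obj j ⟶ sigmaPair F :=
  ⟨Sigma.ι (fun i => (F.obj ⟨i⟩).total) j.as,
    le_of_eq (sigmaIdeal_comap (fun i => (F.obj ⟨i⟩).total) (fun i => (F.obj ⟨i⟩).mod) j.as).symm⟩

noncomputable def sigmaCocone : Cocone F where
  pt := sigmaPair F
  ι := Discrete.natTrans (sigmaInj F)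

noncomputable def isColimitSigmaCocone : IsColimit (sigmaCocone F) where
  desc s := ⟨Limits.Sigma.desc (fun i => (s.ι.app ⟨i⟩).hom), by
    show sigmaIdeal (fun i => (F.obj ⟨i⟩).total) (fun i => (F.obj ⟨i⟩).mod) ≤
      s.pt.mod.comap (Limits.Sigma.desc (fun i => (s.ι.app ⟨i⟩).hom) :
        (∐ fun i => (F.obj ⟨i⟩).total) ⟶ s.pt.total)
    apply le_of_comap_sigmaι_le
    intro i
    rw [sigmaIdeal_comap, ← Scheme.IdealSheafData.comap_comp, Sigma.ι_desc]
    exact (s.ι.app ⟨i⟩).cond⟩
  fac s j := by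
    apply Pair.Hom.ext
    show Sigma.ι (fun i => (F.obj ⟨i⟩).total) j.as ≫
      Limits.Sigma.desc (fun i => (s.ι.app ⟨i⟩).hom) = (s.ι.app ⟨j.as⟩).hom
    rw [Sigma.ι_desc]
  uniq s m hm := by
    apply Pair.Hom.ext
    show m.hom = (Limits.Sigma.desc (fun i => (s.ι.app ⟨i⟩).hom) :
        (∐ fun i => (F.obj ⟨i⟩).total) ⟶ s.pt.total)
    apply Sigma.hom_ext
    intro i
    rw [Sigma.ι_desc]
    exact congrArg Pair.Hom.hom (hm ⟨i⟩)

end sigma

theorem stable_sigma (σ : Type u) :
    (Pair.admBlowup.{u}).IsStableUnderColimitsOfShape (Discrete σ) where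
  condition X₁ X₂ c₁ c₂ h₁ h₂ f hf φ hφ := by
    let e₁ := h₁.coconePointUniqueUpToIso (isColimitSigmaCocone X₁)
    let e₂ := h₂.coconePointUniqueUpToIso (isColimitSigmaCocone X₂)
    have hadm := isAdmBlowup_sigmaMap
      (fun i => (X₁.obj ⟨i⟩).total) (fun i => (X₂.obj ⟨i⟩).total) (fun i => (f.app ⟨i⟩).hom)
      (fun i => (X₁.obj ⟨i⟩).mod) (fun i => (X₂.obj ⟨i⟩).mod) (fun i => hf ⟨i⟩)
    let φ₀ : sigmaPair X₁ ⟶ sigmaPair X₂ :=
      ⟨Limits.Sigma.map (fun i => (f.app ⟨i⟩).hom), le_of_eq hadm.1⟩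
    have hφ₀ : Pair.admBlowup φ₀ := hadm
    have key : φ = e₁.hom ≫ φ₀ ≫ e₂.inv := by
      apply h₁.hom_ext
      intro j
      have a1 : c₁.ι.app j ≫ e₁.hom = sigmaInj X₁ j :=
        IsColimit.comp_coconePointUniqueUpToIso_hom h₁ _ j
      have a2 : sigmaInj X₂ j ≫ e₂.inv = c₂.ι.app j :=
        IsColimit.comp_coconePointUniqueUpToIso_inv h₂ _ j
      have h3 : sigmaInj X₁ j ≫ φ₀ = f.app j ≫ sigmaInj X₂ j := by
        apply Pair.Hom.ext
        show Sigma.ι (fun i => (X₁.obj ⟨i⟩).total) j.as ≫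
            Limits.Sigma.map (fun i => (f.app ⟨i⟩).hom) =
          (f.app ⟨j.as⟩).hom ≫ Sigma.ι (fun i => (X₂.obj ⟨i⟩).total) j.as
        rw [Sigma.ι_map]
      calc c₁.ι.app j ≫ φ = f.app j ≫ c₂.ι.app j := hφ j
        _ = f.app j ≫ sigmaInj X₂ j ≫ e₂.inv := by rw [a2]
        _ = (sigmaInj X₁ j ≫ φ₀) ≫ e₂.inv := by rw [h3, Category.assoc]
        _ = c₁.ι.app j ≫ e₁.hom ≫ φ₀ ≫ e₂.inv := by
          rw [← a1]
          exact (Category.assoc _ _ _).trans (Category.assoc _ _ _)
    rw [key]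
    exact admBlowup_comp _ _ (admBlowup_of_isIso e₁.hom)
      (admBlowup_comp _ _ hφ₀ (admBlowup_of_isIso e₂.inv))

theorem stable_walkingPair :
    (Pair.admBlowup.{u}).IsStableUnderCoproductsOfShape WalkingPair where
  condition X₁ X₂ c₁ c₂ h₁ h₂ f hf φ hφ := by
    let e : Discrete (ULift.{u} WalkingPair) ≌ Discrete WalkingPair :=
      Discrete.equivalence Equiv.ulift
    exact (stable_sigma (ULift.{u} WalkingPair)).condition (e.functor ⋙ X₁) (e.functor ⋙ X₂)
      (c₁.whisker e.functor) (c₂.whisker e.functor) (h₁.whiskerEquivalence e)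
      (h₂.whiskerEquivalence e) (Functor.whiskerLeft e.functor f) (fun j => hf _) φ (fun j => hφ _)

instance hasColimitsOfShape_sigma (σ : Type u) : HasColimitsOfShape (Discrete σ) Pair.{u} :=
  ⟨fun F => ⟨⟨⟨sigmaCocone F, isColimitSigmaCocone F⟩⟩⟩⟩

instance : HasColimitsOfShape (Discrete WalkingPair) Pair.{u} :=
  hasColimitsOfShape_of_equivalence
    (Discrete.equivalence (Equiv.ulift.{u} (α := WalkingPair)))

theorem main : HasBinaryCoproducts (ModPair.Pair.admBlowup.{u}).Localization ∧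
      PreservesColimitsOfShape (Discrete WalkingPair) (ModPair.Pair.admBlowup.{u}).Q := by
  haveI := stable_walkingPair.{u}
  exact hasCoproductsOfShape_and_preserves
    (ModPair.Pair.admBlowup.{u}).Q (ModPair.Pair.admBlowup.{u}) WalkingPair

end PairLevel

end Groth.Agent.Lib.H9ModPair9
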