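import Mathlib
import Groth.Prelude.Def_W4c6modpairsegaMP
import Groth.Agent.Lib.Helper20BlowUp

set_option autoImplicit false
universe u
open CategoryTheory CategoryTheory.Limits AlgebraicGeometry TopologicalSpace
open ModPair

namespace Groth.Agent.Lib.H9ModPairFL

/-- the terminal modulus pair. -/
noncomputable def topPair : Pair.{u} :=
  ⟨⊤_ Scheme.{u}, ⊤, Groth.Agent.Lib.Helper20.BlowUpBasic.isEffCartierIdeal_top⟩

instance (P : Pair.{u}) : Nonempty (P ⟶ topPair.{u}) :=
  ⟨ModPair.Pair.Hom.mk (P := P) (Q := topPair.{u}) (terminal.from P.total) (by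
    change P.mod ≤ (⊤ : (⊤_ Scheme.{u}).IdealSheafData).comap _
    rw [Scheme.IdealSheafData.comap_top]
    exact le_top)⟩

instance (P : Pair.{u}) : Subsingleton (P ⟶ topPair.{u}) :=
  ⟨fun _ _ => ModPair.Pair.Hom.ext (terminal.hom_ext _ _)⟩

instance : HasTerminal Pair.{u} := hasTerminal_of_unique topPair.{u}

end Groth.Agent.Lib.H9ModPairFL
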