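import Mathlib
import Groth.Prelude.Def_W4c6modpairsegaMP
import Groth.Agent.Lib.H9BlowExist
import Groth.Agent.Lib.H9BlowProper
import Groth.Agent.Lib.H9ModPair1
import Groth.Agent.Lib.H9ModPair2
import Groth.Agent.Lib.H9ModPair5
import Groth.Agent.Lib.Helper20BlowUp
import Groth.Agent.S18731

set_option autoImplicit false
universe u
open CategoryTheory CategoryTheory.Limits AlgebraicGeometry TopologicalSpace
open ModPair
open Groth.Agent.Lib.H9ModPair1 Groth.Agent.Lib.H9ModPair2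

namespace Groth.Agent.Lib.H9ModPairPB

/-- restriction of an isomorphism-over-`V` to a smaller open. -/
theorem isIso_restrict_of_le {X Y : Scheme.{u}} (f : X ⟶ Y) (U V : Y.Opens) (hUV : U ≤ V)
    (hV : IsIso (f ∣_ V)) : IsIso (f ∣_ U) := by
  have h1 : IsIso ((f ∣_ V) ∣_ (V.ι ⁻¹ᵁ U)) := by
    have : (MorphismProperty.isomorphisms Scheme.{u}) ((f ∣_ V) ∣_ (V.ι ⁻¹ᵁ U)) :=
      IsZariskiLocalAtTarget.restrict (P := MorphismProperty.isomorphisms Scheme.{u}) hV _
    exact this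
  have h2 := morphismRestrictRestrict f V (V.ι ⁻¹ᵁ U)
  have h3 : IsIso (f ∣_ (V.ι ''ᵁ (V.ι ⁻¹ᵁ U))) := by
    have := ((MorphismProperty.isomorphisms Scheme.{u}).arrow_mk_iso_iff h2).1 h1
    exact this
  refine isIso_restrict_of_eq f _ _ ?_ h3
  rw [Scheme.Hom.image_preimage_eq_opensRange_inf, Scheme.Opens.opensRange_ι]
  exact inf_eq_right.2 hUV

/-- a blow-up in a finite type centre containing the modulus is an abstract admissible blow-up. -/
theorem isAdmBlowup_of_isBlowUp {Z Z' : Scheme.{u}} (IZ 𝓒 : Z.IdealSheafData)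
    (hft : BlowUp.IsFiniteTypeIdeal 𝓒) (hle : IZ ≤ 𝓒) (s₀ : Z' ⟶ Z) (hs : BlowUp.IsBlowUp s₀ 𝓒) :
    IsAdmBlowup (IZ.comap s₀) IZ s₀ := by
  refine ⟨rfl, Groth.Agent.Lib.H9BlowProper.isProper_of_isBlowUp s₀ 𝓒 hft hs, ?_⟩
  have h := Groth.Agent.Lib.Helper20.BlowUpBasic.isIso_morphismRestrict 𝓒 s₀ hs
  refine isIso_restrict_of_le s₀ _ _ ?_ h
  intro z hz hz'
  exact hz (Scheme.IdealSheafData.support_antitone hle hz')

section core
variable {S T X Y : Scheme.{u}} (f : X ⟶ S) (g : T ⟶ S) (I : X.IdealSheafData)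
  (J : T.IdealSheafData) (hT : BlowUp.IsEffCartierIdeal J) (hX : BlowUp.IsEffCartierIdeal I)
  (π : Y ⟶ mprod f g I J) (K : Y.IdealSheafData) (hY : IsAmbProd f g I J π K)

include hT hX hY in
theorem core_exists {Z : Scheme.{u}} (IZ : Z.IdealSheafData) (hZ : BlowUp.IsEffCartierIdeal IZ)
    (a : Z ⟶ T) (b : Z ⟶ X) (ha : IsAmbient IZ J a) (hb : IsAmbient IZ I b)
    (hab : a ≫ g = b ≫ f) :
    ∃ (Z' : Scheme.{u}) (s₀ : Z' ⟶ Z) (c : Z' ⟶ Y),
      BlowUp.IsEffCartierIdeal (IZ.comap s₀) ∧ IsAdmBlowup (IZ.comap s₀) IZ s₀ ∧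
      c ≫ π ≫ mprodι f g I J ≫ pullback.snd f g = s₀ ≫ a ∧
      c ≫ π ≫ mprodι f g I J ≫ pullback.fst f g = s₀ ≫ b ∧
      IZ.comap s₀ ≤ K.comap c := by
  set c₀' : Z ⟶ pullback f g := pullback.lift b a hab.symm with hc₀'
  have hfst : c₀' ≫ pullback.fst f g = b := pullback.lift_fst _ _ _
  have hsnd : c₀' ≫ pullback.snd f g = a := pullback.lift_snd _ _ _
  obtain ⟨c₀, hc₀⟩ := exists_lift_mprod f g I J IZ hZ c₀'
    (by rw [hfst]; exact interior_le_of_isAmbient hb)
    (by rw [hsnd]; exact interior_le_of_isAmbient ha)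
  have hc₀f : c₀ ≫ mprodι f g I J ≫ pullback.fst f g = b := by
    rw [← Category.assoc, hc₀, hfst]
  have hc₀s : c₀ ≫ mprodι f g I J ≫ pullback.snd f g = a := by
    rw [← Category.assoc, hc₀, hsnd]
  have hA : BlowUp.IsEffCartierIdeal (I.comap b) := Groth.Agent.S18731.result IZ I hZ hX b hb
  have hB : BlowUp.IsEffCartierIdeal (J.comap a) := Groth.Agent.S18731.result IZ J hZ hT a ha
  have hC : (prodCentre f g I J).comap c₀ = I.comap b ⊔ J.comap a := by
    unfold prodCentre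
    rw [Scheme.IdealSheafData.comap_sup, ← Scheme.IdealSheafData.comap_comp,
      ← Scheme.IdealSheafData.comap_comp, hc₀f, hc₀s]
  have hft : BlowUp.IsFiniteTypeIdeal (I.comap b ⊔ J.comap a) := by
    intro V
    rw [Scheme.IdealSheafData.ideal_sup]
    exact Submodule.FG.sup (Groth.Agent.Lib.H9ModPair5.effCartier_fg hA V)
      (Groth.Agent.Lib.H9ModPair5.effCartier_fg hB V)
  have hle : IZ ≤ I.comap b ⊔ J.comap a := le_trans hb le_sup_left
  obtain ⟨Z', s₀, hs⟩ := Groth.Agent.Lib.H9BlowExist.exists_isBlowUp (I.comap b ⊔ J.comap a)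
  have hadm := isAdmBlowup_of_isBlowUp IZ _ hft hle s₀ hs
  have heff : BlowUp.IsEffCartierIdeal (IZ.comap s₀) :=
    Groth.Agent.Lib.Helper20.BlowUpBasic.isEffCartierIdeal_comap _ s₀ hs IZ hZ
  have hEC : BlowUp.IsEffCartierIdeal ((prodCentre f g I J).comap (s₀ ≫ c₀)) := by
    rw [Scheme.IdealSheafData.comap_comp, hC]
    exact hs.1
  obtain ⟨c, hc, -⟩ := hY.1.2 Z' (s₀ ≫ c₀) hEC
  have hcs : c ≫ π ≫ mprodι f g I J ≫ pullback.snd f g = s₀ ≫ a := by
    rw [← Category.assoc, hc, Category.assoc, hc₀s]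
  have hcf : c ≫ π ≫ mprodι f g I J ≫ pullback.fst f g = s₀ ≫ b := by
    rw [← Category.assoc, hc, Category.assoc, hc₀f]
  refine ⟨Z', s₀, c, heff, hadm, hcs, hcf, ?_⟩
  -- the modulus condition
  have h2 := congrArg (fun L => Scheme.IdealSheafData.comap L c) hY.2
  simp only [Groth.Agent.Lib.Helper20.BlowUpBasic.comap_mul] at h2
  have eA : ((I.comap (mprodι f g I J ≫ pullback.fst f g)).comap π).comap c =
      (I.comap b).comap s₀ := by
    rw [← Scheme.IdealSheafData.comap_comp, ← Scheme.IdealSheafData.comap_comp,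
      ← Scheme.IdealSheafData.comap_comp, Category.assoc, hcf]
  have eB : ((J.comap (mprodι f g I J ≫ pullback.snd f g)).comap π).comap c =
      (J.comap a).comap s₀ := by
    rw [← Scheme.IdealSheafData.comap_comp, ← Scheme.IdealSheafData.comap_comp,
      ← Scheme.IdealSheafData.comap_comp, Category.assoc, hcs]
  have eE : ((prodCentre f g I J).comap π).comap c = (I.comap b).comap s₀ ⊔ (J.comap a).comap s₀ := by
    rw [← Scheme.IdealSheafData.comap_comp, hc, Scheme.IdealSheafData.comap_comp, hC,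
      Scheme.IdealSheafData.comap_sup]
  rw [eA, eB, eE] at h2
  have hE' : BlowUp.IsEffCartierIdeal ((I.comap b).comap s₀ ⊔ (J.comap a).comap s₀) := by
    rw [← Scheme.IdealSheafData.comap_sup]
    exact hs.1
  apply le_of_mul_le_mul_right hE'
  rw [h2, mul_comm (IZ.comap s₀), Groth.Agent.Lib.H9ModPair5.sup_mul']
  apply sup_le
  · exact mul_le_mul_left_of_le
      (Scheme.IdealSheafData.comap_mono s₀ ha)
  · rw [mul_comm ((I.comap b).comap s₀)]
    exact mul_le_mul_left_of_le (Scheme.IdealSheafData.comap_mono s₀ hb)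

include hT hX hY in
theorem core_unique {Z : Scheme.{u}} (IZ : Z.IdealSheafData) (hZ : BlowUp.IsEffCartierIdeal IZ)
    (c₁ c₂ : Z ⟶ Y) (h₁ : IsAmbient IZ K c₁)
    (e1 : c₁ ≫ π ≫ mprodι f g I J ≫ pullback.snd f g =
      c₂ ≫ π ≫ mprodι f g I J ≫ pullback.snd f g)
    (e2 : c₁ ≫ π ≫ mprodι f g I J ≫ pullback.fst f g =
      c₂ ≫ π ≫ mprodι f g I J ≫ pullback.fst f g) : c₁ = c₂ := by
  have e3 : c₁ ≫ π = c₂ ≫ π := by
    rw [← cancel_mono (mprodι f g I J)]
    apply pullback.hom_ext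
    · simp only [Category.assoc]; exact e2
    · simp only [Category.assoc]; exact e1
  have hE : BlowUp.IsEffCartierIdeal ((prodCentre f g I J).comap π) := hY.1.1
  have hKE : K ≤ (prodCentre f g I J).comap π := by
    refine le_trans (ambProd_props f g I J hT hX π K hY).2.1 ?_
    rw [Scheme.IdealSheafData.comap_comp]
    exact Scheme.IdealSheafData.comap_mono π le_sup_left
  have hEc : BlowUp.IsEffCartierIdeal (((prodCentre f g I J).comap π).comap c₁) :=
    Groth.Agent.S18731.result IZ _ hZ hE c₁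
      (le_trans h₁ (Scheme.IdealSheafData.comap_mono c₁ hKE))
  rw [← Scheme.IdealSheafData.comap_comp] at hEc
  obtain ⟨h, -, hu⟩ := hY.1.2 Z (c₁ ≫ π) hEc
  rw [hu c₁ rfl, hu c₂ e3.symm]

end core


end Groth.Agent.Lib.H9ModPairPB
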