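import Mathlib
set_option backward.isDefEq.respectTransparency.types false

/-!
# Convex sets with internal points along a spanning set are open (helper9)

`isOpen_of_convex_of_internal` : in a finite-dimensional real vector space with its module topology,
a convex set `K` such that every `x ∈ K` can be moved a little in the directions `± d`, `d` ranging
over a spanning set, is open.
-/

set_option autoImplicit false
set_option linter.style.haveILetI false
set_option linter.unusedSectionVars false
universe u

noncomputable section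

namespace Groth.Agent.Lib.H9N1RAmpleAlg

variable {V : Type*} [AddCommGroup V] [Module ℝ V]

theorem segment_mem (K : Set V) (hK : Convex ℝ K) (x d : V) (hx : x ∈ K) (ε : ℝ) (hε : 0 < ε)
    (hp : x + ε • d ∈ K) (hm : x - ε • d ∈ K) (τ : ℝ) (hτ : |τ| ≤ ε) : x + τ • d ∈ K := by
  rcases le_total 0 τ with h0 | h0
  · have hτ' : τ ≤ ε := (le_abs_self τ).trans hτ
    have h1 : x + τ • d = (1 - τ / ε) • x + (τ / ε) • (x + ε • d) := by
      rw [smul_add, smul_smul, div_mul_cancel₀ _ hε.ne', ← add_assoc, ← add_smul]
      simp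
    rw [h1]
    refine hK hx hp ?_ (div_nonneg h0 hε.le) (by ring)
    rw [sub_nonneg, div_le_one hε]
    exact hτ'
  · have hτ' : -τ ≤ ε := (neg_le_abs τ).trans hτ
    have h1 : x + τ • d = (1 - (-τ) / ε) • x + ((-τ) / ε) • (x - ε • d) := by
      rw [smul_sub, smul_smul, div_mul_cancel₀ _ hε.ne', add_sub_assoc', ← add_smul]
      simp [sub_eq_add_neg]
    rw [h1]
    refine hK hx hm ?_ (div_nonneg (neg_nonneg.mpr h0) hε.le) (by ring)
    rw [sub_nonneg, div_le_one hε]
    exact hτ'

variable [TopologicalSpace V] [IsModuleTopology ℝ V] [Module.Finite ℝ V]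

theorem isOpen_of_convex_of_internal (K : Set V) (hK : Convex ℝ K) (D : Set V)
    (hD : Submodule.span ℝ D = ⊤)
    (h : ∀ x ∈ K, ∀ d ∈ D, ∃ ε : ℝ, 0 < ε ∧ x + ε • d ∈ K ∧ x - ε • d ∈ K) : IsOpen K := by
  classical
  haveI : IsTopologicalAddGroup V := IsModuleTopology.topologicalAddGroup ℝ V
  let b := Module.Basis.ofSpan hD.ge
  haveI : Finite ((linearIndepOn_empty ℝ id).extend (Set.empty_subset D)) :=
    Module.Finite.finite_basis b
  cases nonempty_fintype ((linearIndepOn_empty ℝ id).extend (Set.empty_subset D))
  have hb : ∀ i, b i ∈ D := fun i => Module.Basis.ofSpan_subset hD.ge ⟨i, rfl⟩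
  rw [isOpen_iff_forall_mem_open]
  intro x hx
  choose ε hε0 hεp hεm using fun i => h x hx (b i) (hb i)
  by_cases hι : IsEmpty ((linearIndepOn_empty ℝ id).extend (Set.empty_subset D))
  · haveI : Subsingleton V := by
      refine ⟨fun v w => ?_⟩
      apply b.repr.injective
      ext i
      exact (hι.false i).elim
    exact ⟨K, subset_rfl, isOpen_discrete K, hx⟩
  rw [not_isEmpty_iff] at hι
  let n : ℝ := Fintype.card ((linearIndepOn_empty ℝ id).extend (Set.empty_subset D))
  have hn : 0 < n := by
    have : 0 < Fintype.card ((linearIndepOn_empty ℝ id).extend (Set.empty_subset D)) :=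
      Fintype.card_pos
    change (0 : ℝ) < ((Fintype.card
      ((linearIndepOn_empty ℝ id).extend (Set.empty_subset D)) : ℕ) : ℝ)
    exact_mod_cast this
  let ε₀ : ℝ := Finset.univ.inf' Finset.univ_nonempty ε
  have hε₀ : 0 < ε₀ := by
    rw [Finset.lt_inf'_iff]
    exact fun i _ => hε0 i
  have hε₀i : ∀ i, ε₀ ≤ ε i := fun i => Finset.inf'_le _ (Finset.mem_univ i)
  let δ : ℝ := ε₀ / n
  have hδ : 0 < δ := div_pos hε₀ hn
  refine ⟨{y | ∀ i, |b.equivFun (y - x) i| < δ}, ?_, ?_, ?_⟩
  · intro y hy
    have hy' : y = ∑ i, (1 / n) • (x + (n * b.equivFun (y - x) i) • b i) := by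
      have h1 : y - x = ∑ i, b.equivFun (y - x) i • b i := (b.sum_equivFun (y - x)).symm
      have h2 : ∑ i, (1 / n) • (x + (n * b.equivFun (y - x) i) • b i) =
          ∑ i, ((1 / n) • x + b.equivFun (y - x) i • b i) := by
        refine Finset.sum_congr rfl fun i _ => ?_
        rw [smul_add, smul_smul]
        congr 2
        field_simp
      rw [h2, Finset.sum_add_distrib, ← h1, Finset.sum_const, Finset.card_univ, ← Nat.cast_smul_eq_nsmul ℝ,
        smul_smul]
      have : (Fintype.card ((linearIndepOn_empty ℝ id).extend (Set.empty_subset D)) : ℝ) * (1 / n) = 1 := by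
        change n * (1 / n) = 1
        field_simp
      rw [this, one_smul]
      abel
    rw [hy']
    refine hK.sum_mem (fun _ _ => by positivity) ?_ fun i _ => ?_
    · rw [Finset.sum_const, Finset.card_univ, nsmul_eq_mul]
      change n * (1 / n) = 1
      field_simp
    · refine segment_mem K hK x (b i) hx (ε i) (hε0 i) (hεp i) (hεm i) _ ?_
      rw [abs_mul, abs_of_pos hn]
      have := hy i
      calc n * |b.equivFun (y - x) i| ≤ n * δ := by
            apply mul_le_mul_of_nonneg_left this.le hn.le
        _ = ε₀ := by change n * (ε₀ / n) = ε₀; field_simp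
        _ ≤ ε i := hε₀i i
  · have hc : Continuous (fun y : V => b.equivFun (y - x)) :=
      (IsModuleTopology.continuous_of_linearMap b.equivFun.toLinearMap).comp
        (continuous_id.sub continuous_const)
    simp only [Set.ofPred_forall]
    exact isOpen_iInter_of_finite fun i =>
      isOpen_lt ((continuous_apply i).comp hc).abs continuous_const
  · intro i
    simpa using hδ

end Groth.Agent.Lib.H9N1RAmpleAlg
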