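import Mathlib

/-!
# Integer quadratic forms with nonnegative off-diagonal entries (helper9)

Pure combinatorics behind negative definite curve configurations on surfaces:
`G` symmetric with `G i j ≥ 0` for `i ≠ j`; positive/negative part decomposition.
-/

set_option autoImplicit false
universe u

namespace Groth.Agent.Lib.H9NegDefAlg

variable {r : ℕ} (G : Fin r → Fin r → ℤ)

/-- the bilinear form -/
def B (a b : Fin r → ℤ) : ℤ := ∑ i, ∑ j, a i * b j * G i j

/-- positive part -/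
def pos (a : Fin r → ℤ) : Fin r → ℤ := fun i => max (a i) 0

/-- negative part -/
def neg (a : Fin r → ℤ) : Fin r → ℤ := fun i => max (-(a i)) 0

theorem pos_nonneg (a : Fin r → ℤ) (i : Fin r) : 0 ≤ pos a i := le_max_right _ _

theorem neg_nonneg (a : Fin r → ℤ) (i : Fin r) : 0 ≤ neg a i := le_max_right _ _

theorem pos_sub_neg (a : Fin r → ℤ) (i : Fin r) : pos a i - neg a i = a i := by
  unfold pos neg
  rcases le_total (a i) 0 with h | h
  · rw [max_eq_right h, max_eq_left (by omega)]; omega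
  · rw [max_eq_left h, max_eq_right (by omega)]; omega

theorem pos_mul_neg (a : Fin r → ℤ) (i : Fin r) : pos a i * neg a i = 0 := by
  unfold pos neg
  rcases le_total (a i) 0 with h | h
  · rw [max_eq_right h]; simp
  · rw [max_eq_right (show -(a i) ≤ 0 by omega)]; simp

theorem B_sub_left (a b c : Fin r → ℤ) :
    B G (fun i => a i - b i) c = B G a c - B G b c := by
  unfold B
  rw [← Finset.sum_sub_distrib]
  refine Finset.sum_congr rfl fun i _ => ?_
  rw [← Finset.sum_sub_distrib]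
  refine Finset.sum_congr rfl fun j _ => ?_
  ring

theorem B_decomp (a c : Fin r → ℤ) : B G a c = B G (pos a) c - B G (neg a) c := by
  rw [← B_sub_left]
  congr 1
  funext i
  exact (pos_sub_neg a i).symm

theorem B_comm (hsymm : ∀ i j, G i j = G j i) (a b : Fin r → ℤ) : B G a b = B G b a := by
  unfold B
  rw [Finset.sum_comm]
  refine Finset.sum_congr rfl fun i _ => Finset.sum_congr rfl fun j _ => ?_
  rw [hsymm j i]
  ring

/-- `B(a, b) = Σ_j b_j (Σ_i a_i G_ij)` -/
theorem B_eq_sum_right (a b : Fin r → ℤ) :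
    B G a b = ∑ j, b j * ∑ i, a i * G i j := by
  unfold B
  rw [Finset.sum_comm]
  refine Finset.sum_congr rfl fun j _ => ?_
  rw [Finset.mul_sum]
  refine Finset.sum_congr rfl fun i _ => ?_
  ring

theorem B_nonneg_of_disjoint (hoff : ∀ i j, i ≠ j → 0 ≤ G i j) (p n : Fin r → ℤ)
    (hp : ∀ i, 0 ≤ p i) (hn : ∀ i, 0 ≤ n i) (hpn : ∀ i, p i * n i = 0) : 0 ≤ B G p n := by
  unfold B
  refine Finset.sum_nonneg fun i _ => Finset.sum_nonneg fun j _ => ?_
  by_cases hij : i = j
  · subst hij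
    rw [hpn i, zero_mul]
  · exact mul_nonneg (mul_nonneg (hp i) (hn j)) (hoff i j hij)

theorem eq_zero_of_sum_mul_pos (p h : Fin r → ℤ) (hp : ∀ i, 0 ≤ p i) (hh : ∀ i, 0 < h i)
    (hsum : ∑ i, p i * h i ≤ 0) : ∀ i, p i = 0 := by
  intro i
  have h0 : ∀ j ∈ Finset.univ, 0 ≤ p j * h j := fun j _ => mul_nonneg (hp j) (hh j).le
  have h1 : ∑ i, p i * h i = 0 := le_antisymm hsum (Finset.sum_nonneg h0)
  have h2 := (Finset.sum_eq_zero_iff_of_nonneg h0).1 h1 i (Finset.mem_univ i)
  rcases mul_eq_zero.1 h2 with h3 | h3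
  · exact h3
  · exact absurd h3 (hh i).ne'

/-- abstract form of S18451 -/
theorem negDef_of_negDef_on_nontrivial {ι : Type*} (w : ι → Fin r → ℤ)
    (hsymm : ∀ i j, G i j = G j i) (hoff : ∀ i j, i ≠ j → 0 ≤ G i j)
    (hG : ∀ j, ∃ m, ∀ i, w m i = G i j)
    (h : Fin r → ℤ) (hh : ∀ i, 0 < h i) (hhw : ∃ m, ∀ i, w m i = h i)
    (hneg : ∀ a : Fin r → ℤ, (∃ m, ∑ i, a i * w m i ≠ 0) → B G a a < 0) :
    ∀ a : Fin r → ℤ, a ≠ 0 → B G a a < 0 := by
  intro a ha
  by_cases hnt : ∃ m, ∑ i, a i * w m i ≠ 0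
  · exact hneg a hnt
  exfalso
  push Not at hnt
  -- `B(a, b) = 0` for all `b`
  have hcol : ∀ j, ∑ i, a i * G i j = 0 := by
    intro j
    obtain ⟨m, hm⟩ := hG j
    have := hnt m
    simpa only [hm] using this
  have hB0 : ∀ b, B G a b = 0 := by
    intro b
    rw [B_eq_sum_right]
    exact Finset.sum_eq_zero fun j _ => by rw [hcol j, mul_zero]
  have hdec : a = fun i => pos a i - neg a i := funext fun i => (pos_sub_neg a i).symm
  have hpn := B_nonneg_of_disjoint G hoff (pos a) (neg a) (pos_nonneg a) (neg_nonneg a)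
    (pos_mul_neg a)
  have hnp : 0 ≤ B G (neg a) (pos a) := by rw [B_comm G hsymm]; exact hpn
  -- positive part
  have h1 : B G (pos a) (pos a) = B G (neg a) (pos a) := by
    have := hB0 (pos a)
    rw [B_decomp] at this
    linarith
  have h2 : B G (neg a) (neg a) = B G (pos a) (neg a) := by
    have := hB0 (neg a)
    rw [B_decomp] at this
    linarith
  obtain ⟨m₀, hm₀⟩ := hhw
  have key : ∀ p : Fin r → ℤ, (∀ i, 0 ≤ p i) → 0 ≤ B G p p → ∀ i, p i = 0 := by
    intro p hp hq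
    have htriv : ¬ ∃ m, ∑ i, p i * w m i ≠ 0 := fun hex => absurd (hneg p hex) (not_lt.2 hq)
    push Not at htriv
    have := htriv m₀
    simp only [hm₀] at this
    exact eq_zero_of_sum_mul_pos p h hp hh this.le
  have hp0 := key (pos a) (pos_nonneg a) (by rw [h1]; exact hnp)
  have hn0 := key (neg a) (neg_nonneg a) (by rw [h2]; exact hpn)
  apply ha
  funext i
  rw [← pos_sub_neg a i, hp0 i, hn0 i]
  simp

/-- abstract form of S18462 -/
theorem nonneg_of_orth (hsymm : ∀ i j, G i j = G j i) (hoff : ∀ i j, i ≠ j → 0 ≤ G i j)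
    (hneg : ∀ a : Fin r → ℤ, a ≠ 0 → B G a a < 0)
    (f : Fin r → ℤ) (hf : ∀ j, 0 ≤ f j) (s : Fin r → ℤ)
    (hs : ∀ j, - f j = ∑ i, s i * G i j) : ∀ i, 0 ≤ s i := by
  have hdec : s = fun i => pos s i - neg s i := funext fun i => (pos_sub_neg s i).symm
  have hpn := B_nonneg_of_disjoint G hoff (pos s) (neg s) (pos_nonneg s) (neg_nonneg s)
    (pos_mul_neg s)
  have h1 : B G s (neg s) = ∑ j, neg s j * (- f j) := by
    rw [B_eq_sum_right]
    exact Finset.sum_congr rfl fun j _ => by rw [hs j]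
  have h2 : B G s (neg s) = B G (pos s) (neg s) - B G (neg s) (neg s) := B_decomp G _ _
  have h3 : ∑ j, neg s j * (- f j) ≤ 0 :=
    Finset.sum_nonpos fun j _ => mul_nonpos_of_nonneg_of_nonpos (neg_nonneg s j) (by have := hf j; omega)
  have h4 : 0 ≤ B G (neg s) (neg s) := by linarith
  have h5 : neg s = 0 := by
    by_contra hne
    exact absurd (hneg _ hne) (not_lt.2 h4)
  intro i
  rw [← pos_sub_neg s i, h5]
  simpa using pos_nonneg s i

/-- abstract form of S18463 -/
theorem zero_of_numTrivial (hsymm : ∀ i j, G i j = G j i) (hoff : ∀ i j, i ≠ j → 0 ≤ G i j)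
    (hneg : ∀ a : Fin r → ℤ, a ≠ 0 → B G a a < 0)
    (f : Fin r → ℤ) (hf : ∀ j, 0 ≤ f j) (s : Fin r → ℤ)
    (hs : ∀ j, f j = ∑ i, s i * G i j)
    (h : Fin r → ℤ) (hh : ∀ i, 0 < h i) (t : ℤ) (ht : 0 ≤ t) (hts : t = ∑ i, s i * h i) :
    (∀ i, s i = 0) ∧ t = 0 := by
  have hdec : s = fun i => pos s i - neg s i := funext fun i => (pos_sub_neg s i).symm
  have hpn := B_nonneg_of_disjoint G hoff (pos s) (neg s) (pos_nonneg s) (neg_nonneg s)
    (pos_mul_neg s)
  have hnp : 0 ≤ B G (neg s) (pos s) := by rw [B_comm G hsymm]; exact hpn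
  have h1 : B G s (pos s) = ∑ j, pos s j * f j := by
    rw [B_eq_sum_right]
    exact Finset.sum_congr rfl fun j _ => by rw [hs j]
  have h2 : B G s (pos s) = B G (pos s) (pos s) - B G (neg s) (pos s) := B_decomp G _ _
  have h3 : 0 ≤ ∑ j, pos s j * f j :=
    Finset.sum_nonneg fun j _ => mul_nonneg (pos_nonneg s j) (hf j)
  have h4 : 0 ≤ B G (pos s) (pos s) := by linarith
  have h5 : pos s = 0 := by
    by_contra hne
    exact absurd (hneg _ hne) (not_lt.2 h4)
  have h6 : ∀ i, s i = - neg s i := fun i => by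
    rw [← pos_sub_neg s i, h5]; simp
  have h7 : t = - ∑ i, neg s i * h i := by
    rw [hts, ← Finset.sum_neg_distrib]
    exact Finset.sum_congr rfl fun i _ => by rw [h6 i]; ring
  have h8 : ∀ i, neg s i = 0 :=
    eq_zero_of_sum_mul_pos (neg s) h (neg_nonneg s) hh (by linarith)
  refine ⟨fun i => by rw [h6 i, h8 i]; simp, ?_⟩
  rw [h7]
  simp [h8]

end Groth.Agent.Lib.H9NegDefAlg
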