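import Mathlib
import Groth.Prelude.Def_CAlg
import Groth.Agent.Lib.Helper5FiberStalk
import Groth.Agent.Lib.H9NzdFibre

/-! Positive depth of the fibre local ring gives a relative effective Cartier divisor through the point (helper9): `exists_regular_of_depth_pos`, `main` (= S9756). -/

set_option autoImplicit false
set_option linter.style.haveILetI false
set_option linter.unusedSimpArgs false
set_option linter.unusedVariables false
universe u

namespace Groth.Agent.Lib.H9NzdDepth

-- ===== part NzdK =====
section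

open TensorProduct AlgebraicGeometry CategoryTheory CategoryTheory.Limits

/-- positive depth of a local ring gives a regular element of the maximal ideal -/
theorem exists_regular_of_depth_pos (R : Type u) [CommRing R] [IsLocalRing R]
    (hdepth : 1 ≤ LocCoh.depth R R) :
    ∃ r : R, r ∈ IsLocalRing.maximalIdeal R ∧ IsSMulRegular R r := by
  classical
  by_contra hcon
  push Not at hcon
  have hne : IsLocalRing.maximalIdeal R • (⊤ : Submodule R R) ≠ ⊤ := by
    rw [smul_eq_mul, Ideal.mul_top]
    exact Ideal.IsMaximal.ne_top inferInstance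
  have h0 : LocCoh.depth R R ≤ 0 := by
    unfold LocCoh.depth LocCoh.idealDepth
    rw [if_neg hne]
    refine iSup_le fun rs => iSup_le fun hrs => ?_
    cases rs with
    | nil => simp
    | cons r rs' =>
      exfalso
      have h1 := (RingTheory.Sequence.isWeaklyRegular_cons_iff R r rs').mp hrs.1
      exact hcon r (hrs.2 r (by simp)) h1.1
  have : (1 : ℕ∞) ≤ 0 := hdepth.trans h0
  simp at this

variable {X S : Scheme.{u}}

theorem main (f : X ⟶ S) [LocallyOfFinitePresentation f] (x : X)
    (hflat : (f.stalkMap x).hom.Flat)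
    (hdepth : 1 ≤ LocCoh.depth ↑((f.fiber (f x)).presheaf.stalk (f.asFiber x))
      ↑((f.fiber (f x)).presheaf.stalk (f.asFiber x))) :
    ∃ (U : X.Opens) (hU : IsAffineOpen U) (hx : x ∈ U) (h' : Γ(X, U)),
      h' ∈ nonZeroDivisors Γ(X, U) ∧
      X.presheaf.germ U x hx h' ∈ IsLocalRing.maximalIdeal ↑(X.presheaf.stalk x) ∧
      Flat (Spec.map (CommRingCat.ofHom (Ideal.Quotient.mk (Ideal.span {h'}))) ≫
        hU.fromSpec ≫ f) ∧
      LocallyOfFinitePresentation (Spec.map (CommRingCat.ofHom
        (Ideal.Quotient.mk (Ideal.span {h'}))) ≫ hU.fromSpec ≫ f) := by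
  obtain ⟨e⟩ := Groth.Agent.Lib.Helper5.FiberStalk.nonempty_stalk_asFiber_equiv f x
  obtain ⟨r, hrm, hrreg⟩ := exists_regular_of_depth_pos _ hdepth
  obtain ⟨h, hh⟩ := Ideal.Quotient.mk_surjective (e r)
  have hm : h ∈ IsLocalRing.maximalIdeal (X.presheaf.stalk x) := by
    rw [IsLocalRing.mem_maximalIdeal]
    intro hu
    have h1 : IsUnit (e r) := by rw [← hh]; exact hu.map _
    have h2 : IsUnit r := by
      have := h1.map e.symm
      rwa [RingEquiv.symm_apply_apply] at this
    exact (IsLocalRing.mem_maximalIdeal _).mp hrm h2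
  have hreg : Ideal.Quotient.mk (Ideal.map (f.stalkMap x).hom
      (IsLocalRing.maximalIdeal (S.presheaf.stalk (f x)))) h ∈
      nonZeroDivisors (X.presheaf.stalk x ⧸ Ideal.map (f.stalkMap x).hom
        (IsLocalRing.maximalIdeal (S.presheaf.stalk (f x)))) := by
    rw [hh]
    apply mem_nonZeroDivisors_of_injective (f := e.symm.toRingHom) e.symm.injective
    show e.symm (e r) ∈ _
    rw [RingEquiv.symm_apply_apply, mem_nonZeroDivisors_iff_right]
    intro y hy
    apply hrreg
    show r • y = r • 0
    rw [smul_zero, smul_eq_mul, mul_comm, hy]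
  obtain ⟨U, hU, hx, h', hgerm, hnzd, hfl, hfp⟩ :=
    Groth.Agent.Lib.H9NzdFibre.main f x hflat h hm hreg
  exact ⟨U, hU, hx, h', hnzd, hgerm ▸ hm, hfl, hfp⟩

end

end Groth.Agent.Lib.H9NzdDepth
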