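import Mathlib
import Groth.Prelude.Def_CAlg
import Groth.Agent.Lib.Helper28SkLift
import Groth.Agent.Lib.H9NzdDepth

/-!
# Hypersurfaces in Cohen–Macaulay rings of dimension `≥ 2` have no embedded closed points
(helper4, round 2)

* `not_mem_associatedPrimes_of_cm` : `A` Noetherian, `p` a prime with `A_p` Cohen–Macaulay of dimension
  at least two, `c ∈ p` a nonzerodivisor; then `p` is not an associated prime of `A ⧸ (c)`.
-/

set_option autoImplicit false
set_option linter.style.haveILetI false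
set_option linter.unusedSectionVars false
universe u

namespace Groth.Agent.Lib.R2H4CMAss

theorem not_mem_associatedPrimes_of_cm {A : Type u} [CommRing A] [IsNoetherianRing A]
    (p : Ideal A) [p.IsPrime] (R' : Type u) [CommRing R'] [Algebra A R']
    [IsLocalization.AtPrime R' p] [hCM : LocCoh.IsCohenMacaulayLocalRing R']
    (hdim : 2 ≤ ringKrullDim R') (c : A) (hc : c ∈ nonZeroDivisors A) (hcp : c ∈ p) :
    p ∉ associatedPrimes A (A ⧸ Ideal.span {c}) := by
  intro hp
  have hp' : IsAssociatedPrime p (A ⧸ Ideal.span {c}) := hp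
  rw [isAssociatedPrime_iff] at hp'
  obtain ⟨-, x, hx⟩ := hp'
  obtain ⟨a, rfl⟩ := Ideal.Quotient.mk_surjective x
  -- `r ∈ p ↔ r * a ∈ (c)`
  have hmem : ∀ r : A, r ∈ p ↔ r * a ∈ Ideal.span {c} := by
    intro r
    rw [hx, Submodule.mem_colon_singleton, Submodule.mem_bot]
    rw [← Ideal.Quotient.eq_zero_iff_mem, map_mul]
    rfl
  haveI : IsLocalRing R' := hCM.toIsLocalRing
  haveI : IsNoetherianRing R' := inferInstance
  set c' : R' := algebraMap A R' c with hc'
  have hc'reg : c' ∈ nonZeroDivisors R' :=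
    IsLocalization.map_nonZeroDivisors_le p.primeCompl R' (Submonoid.mem_map_of_mem _ hc)
  have hc'm : c' ∈ IsLocalRing.maximalIdeal R' :=
    (IsLocalization.AtPrime.to_map_mem_maximal_iff R' p c).2 hcp
  have hne : Ideal.span {c'} ≠ ⊤ := by
    intro h
    have : (1 : R') ∈ Ideal.span {c'} := h ▸ Submodule.mem_top
    have h2 : Ideal.span {c'} ≤ IsLocalRing.maximalIdeal R' :=
      (Ideal.span_singleton_le_iff_mem _).2 hc'm
    exact (IsLocalRing.maximalIdeal.isMaximal R').ne_top ((Ideal.eq_top_iff_one _).2 (h2 this))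
  haveI : Nontrivial (R' ⧸ Ideal.span {c'}) := Ideal.Quotient.nontrivial_iff.2 hne
  haveI : IsLocalRing (R' ⧸ Ideal.span {c'}) :=
    IsLocalRing.of_surjective' (Ideal.Quotient.mk (Ideal.span {c'})) Ideal.Quotient.mk_surjective
  have hc'sm : IsSMulRegular R' c' := by
    rw [isSMulRegular_iff_right_eq_zero_of_smul]
    intro m hm
    exact (mem_nonZeroDivisors_iff.1 hc'reg).1 m (by rwa [smul_eq_mul] at hm)
  have hdepth := Groth.Agent.Lib.Helper28.depth_quotient_span_singleton_add_one c' hc'm hc'sm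
  have hsupp : Module.supportDim R' R' = ((LocCoh.depth R' R' : ℕ∞) : WithBot ℕ∞) :=
    hCM.supportDim_eq_depth
  rw [Module.supportDim_self_eq_ringKrullDim] at hsupp
  have h2 : (2 : ℕ∞) ≤ LocCoh.depth R' R' := by
    rw [hsupp] at hdim
    have hdim' : ((2 : ℕ∞) : WithBot ℕ∞) ≤ ((LocCoh.depth R' R' : ℕ∞) : WithBot ℕ∞) := hdim
    exact WithBot.coe_le_coe.1 hdim'
  have h1 : 1 ≤ LocCoh.depth (R' ⧸ Ideal.span {c'}) (R' ⧸ Ideal.span {c'}) := by
    rw [← hdepth] at h2
    by_contra hlt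
    rw [not_le] at hlt
    have h0 : LocCoh.depth (R' ⧸ Ideal.span {c'}) (R' ⧸ Ideal.span {c'}) = 0 :=
      Order.lt_one_iff.1 hlt
    rw [h0] at h2
    norm_num at h2
  obtain ⟨rbar, hrm, hrreg⟩ :=
    Groth.Agent.Lib.H9NzdDepth.exists_regular_of_depth_pos (R' ⧸ Ideal.span {c'}) h1
  obtain ⟨r', rfl⟩ := Ideal.Quotient.mk_surjective rbar
  -- `r'` lies in the maximal ideal
  have hr'm : r' ∈ IsLocalRing.maximalIdeal R' := by
    rw [IsLocalRing.mem_maximalIdeal, mem_nonunits_iff] at hrm ⊢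
    exact fun hu => hrm (hu.map _)
  obtain ⟨r, s, rfl⟩ := IsLocalization.exists_mk'_eq p.primeCompl r'
  have hrp : r ∈ p := (IsLocalization.AtPrime.mk'_mem_maximal_iff R' p r s).1 hr'm
  obtain ⟨b, hb⟩ := Ideal.mem_span_singleton'.1 ((hmem r).1 hrp)
  -- in the quotient, `mk (r') * mk (a') = 0`
  have hzero : (Ideal.Quotient.mk (Ideal.span {c'}) (IsLocalization.mk' R' r s)) •
      (Ideal.Quotient.mk (Ideal.span {c'}) (algebraMap A R' a)) = 0 := by
    rw [smul_eq_mul, ← map_mul, Ideal.Quotient.eq_zero_iff_mem, Ideal.mem_span_singleton']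
    refine ⟨IsLocalization.mk' R' b s, ?_⟩
    rw [hc', mul_comm, IsLocalization.mul_mk'_eq_mk'_of_mul, mul_comm (IsLocalization.mk' R' r s),
      IsLocalization.mul_mk'_eq_mk'_of_mul, mul_comm c b, hb, mul_comm r a]
  have ha0 := (isSMulRegular_iff_right_eq_zero_of_smul.1 hrreg) _ hzero
  rw [Ideal.Quotient.eq_zero_iff_mem, Ideal.mem_span_singleton'] at ha0
  obtain ⟨t', ht'⟩ := ha0
  obtain ⟨t, u, rfl⟩ := IsLocalization.exists_mk'_eq p.primeCompl t'
  rw [hc', mul_comm, IsLocalization.mul_mk'_eq_mk'_of_mul, eq_comm,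
    IsLocalization.eq_mk'_iff_mul_eq, ← map_mul, IsLocalization.eq_iff_exists p.primeCompl R'] at ht'
  obtain ⟨v, hv⟩ := ht'
  have hvu : ((v * u : p.primeCompl) : A) ∈ p := by
    rw [hmem, Ideal.mem_span_singleton']
    refine ⟨v * t, ?_⟩
    rw [Submonoid.coe_mul]
    linear_combination -hv
  exact (v * u).2 hvu

end Groth.Agent.Lib.R2H4CMAss
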