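import Mathlib
import Groth.Prelude.Def_FGA
import Groth.Agent.Lib.R2H4Snapper
import Groth.Agent.Lib.R2H4SnapperRef
import Groth.Agent.Lib.R2H4GVSch
import Groth.Agent.Lib.R2H4FGABridge

/-! Snapper's theorem and intersection numbers in the `FGA` formalism (helper4, round 2). -/
set_option autoImplicit false
set_option linter.style.haveILetI false
universe u
open CategoryTheory CategoryTheory.Limits AlgebraicGeometry

namespace Groth.Agent.Lib.R2H4FGASnapper

open Groth.Agent.Lib.R2H4TensorPows Groth.Agent.Lib.R2H4NumPoly Groth.Agent.Lib.R2H4FGABridge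
  Groth.Agent.Lib.R2H1.DegCartier

variable (k : Type u) [Field k] {X : Scheme.{u}} [X.Over (Spec (CommRingCat.of k))]
  [IsProper (X ↘ Spec (CommRingCat.of k))]

theorem eulerCharLE_multiTwist (d : ℕ) (hd : topologicalKrullDim X ≤ d) (F : X.Modules) {n : ℕ}
    (L : Fin n → X.Modules) (m : Fin n → ℕ) :
    (FGA.eulerCharLE k X (CohB1.tensorMod (FGA.multiTwist L m) F) d : ℚ) = fE k X n L F m := by
  obtain ⟨e⟩ := nonempty_multiTwist_tensor F n L m
  rw [Groth.Agent.Lib.R2H4GVSch.eulerCharLE_eq_euler k X d hd, euler_congr k e]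
  rfl

theorem intNum_eq (d : ℕ) (hd : topologicalKrullDim X ≤ d) {r : ℕ} (M : Fin r → X.Modules)
    (F : X.Modules) :
    (FGA.intNum k X d M F : ℚ) =
      ∑ I : Finset (Fin r), (-1 : ℚ) ^ I.card * fE k X r M F (ind I) := by
  unfold FGA.intNum
  push_cast
  refine Finset.sum_congr rfl fun I _ => ?_
  obtain ⟨e⟩ := nonempty_sort_tensor F r M I
  rw [Groth.Agent.Lib.R2H4GVSch.eulerCharLE_eq_euler k X d hd, euler_congr k e]
  rfl

/-- S3230 -/
theorem s3230 (d : ℕ) (hd : topologicalKrullDim X ≤ d)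
    {n : ℕ} (L : Fin n → X.Modules) (hL : ∀ i, PicF.IsInvertible (L i)) (F : X.Modules)
    (hF : Coh.IsCoh F) (r : ℕ) (hr : topologicalKrullDim (CohB1.support F) ≤ r) :
    ∃ P : MvPolynomial (Fin n) ℚ, P.totalDegree ≤ r ∧
      ∀ m : Fin n → ℕ, (FGA.eulerCharLE k X (CohB1.tensorMod (FGA.multiTwist L m) F) d : ℚ) =
        MvPolynomial.eval (fun i => (m i : ℚ)) P := by
  obtain ⟨P, hP, hPf⟩ := Groth.Agent.Lib.R2H4Snapper.s1528 k F hF r hr n L hL
  exact ⟨P, hP, fun m => (eulerCharLE_multiTwist k d hd F L m).trans (hPf m)⟩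

/-- the alternating sum of a polynomial function of small degree over the cube vanishes -/
theorem alt_sum_eq_zero {r : ℕ} (g : (Fin r → ℕ) → ℚ) (hg : IsPolyLT r g) :
    ∑ I : Finset (Fin r), (-1 : ℚ) ^ I.card * g (ind I) = 0 := by
  obtain ⟨P, hP, hPg⟩ := hg
  have h0 := Groth.Agent.Lib.R2H4SnapperRef.coeff_ones_eq_zero_of_degLT r P hP
  have hdeg : P.totalDegree ≤ Fintype.card (Fin r) := by
    rw [Fintype.card_fin]
    exact ((hP.mono (Nat.le_succ r)).totalDegree_le)
  rw [coeff_ones_eq P hdeg, Fintype.card_fin] at h0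
  have h1 : ∑ I : Finset (Fin r), (-1 : ℚ) ^ I.card * g (ind I) =
      (-1 : ℚ) ^ r * ∑ t : Finset (Fin r), (-1 : ℚ) ^ (r - t.card) * ev (ind t) P := by
    rw [Finset.mul_sum]
    refine Finset.sum_congr rfl fun I _ => ?_
    have hI : I.card ≤ r := by simpa using Finset.card_le_univ I
    rw [hPg, ← mul_assoc, ← pow_add]
    congr 1
    have : r + (r - I.card) = I.card + 2 * (r - I.card) := by omega
    rw [this, pow_add, pow_mul]
    simp
  rw [h1, h0, mul_zero]

/-- S3231 -/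
theorem s3231 (d : ℕ) (hd : topologicalKrullDim X ≤ d) {r : ℕ} (M : Fin r → X.Modules)
    (hM : ∀ i, PicF.IsInvertible (M i)) (F : X.Modules) (hF : Coh.IsCoh F)
    (hr : topologicalKrullDim (CohB1.support F) < r) : FGA.intNum k X d M F = 0 := by
  have h := intNum_eq k d hd M F
  rw [alt_sum_eq_zero _ (Groth.Agent.Lib.R2H4Snapper.main k r M hM r F hF hr)] at h
  exact_mod_cast h

end Groth.Agent.Lib.R2H4FGASnapper
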