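import Mathlib
import Groth.Prelude.Def_FGA
import Groth.Agent.Lib.R2H4FGASnapper
import Groth.Agent.Lib.R2H4SnapperCartier

/-! Head recursion and additivity for the `FGA` intersection numbers (helper4, round 2). -/
set_option autoImplicit false
set_option linter.style.haveILetI false
universe u
open CategoryTheory CategoryTheory.Limits AlgebraicGeometry

namespace Groth.Agent.Lib.R2H4FGAAdd

open Groth.Agent.Lib.R2H4TensorPows Groth.Agent.Lib.R2H4NumPoly Groth.Agent.Lib.R2H4FGABridge
  Groth.Agent.Lib.R2H1.DegCartier Groth.Agent.Lib.R2H4FGASnapper Groth.Agent.Lib.R2H4SnapperCartier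

variable (k : Type u) [Field k] {X : Scheme.{u}} [X.Over (Spec (CommRingCat.of k))]

theorem fE_cons {r : ℕ} (M : Fin r → X.Modules) (A F : X.Modules) (a : ℕ) (n : Fin r → ℕ) :
    fE k X (r + 1) (Fin.cons A M : Fin (r + 1) → X.Modules) F (Fin.cons a n : Fin (r + 1) → ℕ) =
      fE k X r M (CohB1.tensorMod F (CohB1.tensorPow A a)) n := by
  unfold fE
  obtain ⟨e⟩ := nonempty_powsHead F r (Fin.cons A M : Fin (r + 1) → X.Modules)
    (Fin.cons a n : Fin (r + 1) → ℕ)
  rw [euler_congr k e]
  simp only [Fin.cons_zero, Fin.cons_succ]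

theorem fE_cons_zero {r : ℕ} (M : Fin r → X.Modules) (A F : X.Modules) (n : Fin r → ℕ) :
    fE k X (r + 1) (Fin.cons A M : Fin (r + 1) → X.Modules) F (Fin.cons 0 n : Fin (r + 1) → ℕ) =
      fE k X r M F n := by
  rw [fE_cons]
  exact fE_congr k r M (rUnit F) n

theorem fE_cons_one {r : ℕ} (M : Fin r → X.Modules) (A F : X.Modules) (n : Fin r → ℕ) :
    fE k X (r + 1) (Fin.cons A M : Fin (r + 1) → X.Modules) F (Fin.cons 1 n : Fin (r + 1) → ℕ) =
      fE k X r M (CohB1.tensorMod F A) n := by
  rw [fE_cons]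
  exact fE_congr k r M (tIso (Iso.refl F) (lUnit A)) n

variable [IsProper (X ↘ Spec (CommRingCat.of k))]

/-- head recursion for the intersection numbers -/
theorem intNum_cons (d : ℕ) (hd : topologicalKrullDim X ≤ d) {r : ℕ} (M : Fin r → X.Modules)
    (A F : X.Modules) :
    (FGA.intNum k X d (Fin.cons A M : Fin (r + 1) → X.Modules) F : ℚ) =
      FGA.intNum k X d M F - FGA.intNum k X d M (CohB1.tensorMod F A) := by
  classical
  rw [intNum_eq k d hd, intNum_eq k d hd, intNum_eq k d hd, sum_split, ← Finset.sum_sub_distrib]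
  refine Finset.sum_congr rfl fun s _ => ?_
  have h1 : (s.image Fin.succ).card = s.card :=
    Finset.card_image_of_injective s (Fin.succ_injective r)
  have h2 : (insert 0 (s.image Fin.succ)).card = s.card + 1 := by
    rw [Finset.card_insert_of_notMem (by simp [Fin.succ_ne_zero]), h1]
  rw [h1, h2, ind_image_succ, ind_insert_image_succ, fE_cons_zero, fE_cons_one, pow_succ]
  ring

theorem intNum_congr (d : ℕ) (hd : topologicalKrullDim X ≤ d) {r : ℕ} (M : Fin r → X.Modules)
    {F G : X.Modules} (e : F ≅ G) : FGA.intNum k X d M F = FGA.intNum k X d M G := by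
  have h : (FGA.intNum k X d M F : ℚ) = FGA.intNum k X d M G := by
    rw [intNum_eq k d hd, intNum_eq k d hd]
    refine Finset.sum_congr rfl fun s _ => ?_
    rw [fE_congr k r M e]
  exact_mod_cast h

/-- S3232 -/
theorem s3232 (d : ℕ)
    (hd : topologicalKrullDim X ≤ d) {r : ℕ} (M : Fin r → X.Modules)
    (hM : ∀ i, PicF.IsInvertible (M i))
    (A B : X.Modules) (hA : PicF.IsInvertible A) (hB : PicF.IsInvertible B)
    (F : X.Modules) (hF : Coh.IsCoh F)
    (hr : topologicalKrullDim (CohB1.support F) ≤ (r + 1 : ℕ)) :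
    FGA.intNum k X d (Fin.cons (CohB1.tensorMod A B) M : Fin (r + 1) → X.Modules) F =
      FGA.intNum k X d (Fin.cons A M : Fin (r + 1) → X.Modules) F +
        FGA.intNum k X d (Fin.cons B M : Fin (r + 1) → X.Modules) F := by
  have hM' : ∀ i, PicF.IsInvertible
      ((Fin.cons A (Fin.cons B M : Fin (r + 1) → X.Modules) : Fin (r + 1 + 1) → X.Modules) i) := by
    intro i
    induction i using Fin.cases with
    | zero => simpa using hA
    | succ j =>
      induction j using Fin.cases with
      | zero => simpa using hB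
      | succ l => simpa using hM l
  have hlt : topologicalKrullDim (CohB1.support F) < ((r + 1 + 1 : ℕ) : WithBot ℕ∞) :=
    lt_of_le_of_lt hr (by exact_mod_cast Nat.lt_succ_self (r + 1))
  have h0 := s3231 k d hd _ hM' F hF hlt
  have h0' : (FGA.intNum k X d
      (Fin.cons A (Fin.cons B M : Fin (r + 1) → X.Modules) : Fin (r + 1 + 1) → X.Modules) F : ℚ)
      = 0 := by exact_mod_cast h0
  rw [intNum_cons k d hd, intNum_cons k d hd, intNum_cons k d hd] at h0'
  have hassoc := intNum_congr k d hd M (tAssoc F A B)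
  have h : (FGA.intNum k X d (Fin.cons (CohB1.tensorMod A B) M : Fin (r + 1) → X.Modules) F : ℚ) =
      FGA.intNum k X d (Fin.cons A M : Fin (r + 1) → X.Modules) F +
        FGA.intNum k X d (Fin.cons B M : Fin (r + 1) → X.Modules) F := by
    rw [intNum_cons k d hd, intNum_cons k d hd, intNum_cons k d hd, ← hassoc]
    linarith
  exact_mod_cast h

end Groth.Agent.Lib.R2H4FGAAdd
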