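import Mathlib
import Groth.Prelude.Def_FGA
import Groth.Agent.Lib.R2H4FGAAdd
import Groth.Agent.Lib.Helper23SecTw6
import Groth.Agent.Lib.H6xSuppPush
import Groth.Agent.Lib.Helper2TensorInv

/-! Newton's backward-difference formula for `m ↦ χ(L^m ⊗ F)` in terms of the intersection
numbers `∫ c_1(L)^i F` (helper4, round 2). -/
set_option autoImplicit false
set_option linter.style.haveILetI false
universe u
open CategoryTheory CategoryTheory.Limits AlgebraicGeometry

namespace Groth.Agent.Lib.R2H4FGANewton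

open Groth.Agent.Lib.R2H4TensorPows Groth.Agent.Lib.R2H4NumPoly Groth.Agent.Lib.R2H4FGABridge
  Groth.Agent.Lib.R2H1.DegCartier Groth.Agent.Lib.R2H4FGASnapper Groth.Agent.Lib.R2H4FGAAdd

/-- the numerical form of Newton's backward-difference formula -/
theorem newton : ∀ (r : ℕ) (u : ℕ → ℕ → ℚ)
    (_ : ∀ i m, u (i + 1) (m + 1) = u i (m + 1) - u i m)
    (_ : ∀ i m, r ≤ i → u i m = 0) (m : ℕ),
    u 0 m = ∑ i ∈ Finset.range r, ((m + i - 1).choose i : ℚ) * u i 0
  | 0, u, _, hc, m => by simpa using hc 0 m le_rfl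
  | r + 1, u, hb, hc, m => by
    have ih := newton r (fun i m => u (i + 1) m) (fun i m => hb (i + 1) m)
      (fun i m hi => hc (i + 1) m (by omega))
    simp only [zero_add] at ih
    induction m with
    | zero =>
      rw [Finset.sum_range_succ', Finset.sum_eq_zero]
      · simp
      · intro i _
        have : (0 + (i + 1) - 1).choose (i + 1) = 0 := by
          rw [show 0 + (i + 1) - 1 = i by omega]
          exact Nat.choose_succ_self i
        rw [this]
        simp
    | succ m ihm =>
      have h1 : u 0 (m + 1) = u 0 m + u 1 (m + 1) := by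
        have := hb 0 m
        simp only [zero_add] at this
        rw [this]
        ring
      rw [h1, ihm, ih (m + 1), Finset.sum_range_succ', Finset.sum_range_succ' _ r]
      have h3 : ∑ i ∈ Finset.range r, ((m + 1 + (i + 1) - 1).choose (i + 1) : ℚ) * u (i + 1) 0 =
          ∑ i ∈ Finset.range r, ((m + (i + 1) - 1).choose (i + 1) : ℚ) * u (i + 1) 0 +
            ∑ i ∈ Finset.range r, ((m + 1 + i - 1).choose i : ℚ) * u (i + 1) 0 := by
        rw [← Finset.sum_add_distrib]
        refine Finset.sum_congr rfl fun i _ => ?_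
        have h2 : (m + 1 + (i + 1) - 1).choose (i + 1) =
            (m + (i + 1) - 1).choose (i + 1) + (m + 1 + i - 1).choose i := by
          rw [show m + 1 + (i + 1) - 1 = (m + i) + 1 by omega, show m + (i + 1) - 1 = m + i by omega,
            show m + 1 + i - 1 = m + i by omega, Nat.choose_succ_succ, add_comm]
        rw [h2]
        push_cast
        ring
      rw [h3]
      simp only [Nat.choose_zero_right, Nat.cast_one, one_mul]
      ring

variable (k : Type u) [Field k] {X : Scheme.{u}} [X.Over (Spec (CommRingCat.of k))]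
  [IsProper (X ↘ Spec (CommRingCat.of k))]

/-- `∫ F = χ(F)` -/
theorem intNum_zero (d : ℕ) (hd : topologicalKrullDim X ≤ d) (M : Fin 0 → X.Modules)
    (F : X.Modules) : (FGA.intNum k X d M F : ℚ) = FGA.eulerCharLE k X F d := by
  rw [intNum_eq k d hd, Groth.Agent.Lib.R2H4GVSch.eulerCharLE_eq_euler k X d hd]
  rw [Fintype.sum_eq_single ∅ (fun I hI => absurd (Finset.eq_empty_of_isEmpty I) hI)]
  simp [fE, Curv2.tensorPows]

/-- `(L^{m+1} ⊗ F) ⊗ M ≅ L^m ⊗ F` -/
noncomputable def stepIso (L M F : X.Modules) (e : CohB1.tensorMod L M ≅ Coh.structureModule X) (m : ℕ) :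
    CohB1.tensorMod (CohB1.tensorMod (CohB1.tensorPow L (m + 1)) F) M ≅
      CohB1.tensorMod (CohB1.tensorPow L m) F :=
  tIso (tAssoc (CohB1.tensorPow L m) L F) (Iso.refl M) ≪≫
    tAssoc (CohB1.tensorPow L m) (CohB1.tensorMod L F) M ≪≫
    tIso (Iso.refl _) (tIso (tComm L F) (Iso.refl M) ≪≫ tAssoc F L M ≪≫
      tIso (Iso.refl F) e ≪≫ rUnit F)

/-- S11753 -/
theorem s11753 (d : ℕ) (hd : topologicalKrullDim X ≤ d)
    (L M : X.Modules) (hL : PicF.IsInvertible L)
    (hLM : Nonempty (CohB1.tensorMod L M ≅ Coh.structureModule X))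
    (F : X.Modules) (hF : Coh.IsCoh F) (r : ℕ)
    (hr : topologicalKrullDim (CohB1.support F) ≤ r) (m : ℕ) :
    FGA.eulerCharLE k X (CohB1.tensorMod (CohB1.tensorPow L m) F) d =
      (Finset.range (r + 1)).sum (fun i => ((m + i - 1).choose i : ℤ) *
        FGA.intNum k X d (fun _ : Fin i => M) F) := by
  obtain ⟨e⟩ := hLM
  have hM : PicF.IsInvertible M :=
    Groth.Agent.Lib.Helper2.TensorInv.isInvertible_of_tensor_iso M L (tComm M L ≪≫ e)
  set u : ℕ → ℕ → ℚ := fun i m =>
    (FGA.intNum k X d (fun _ : Fin i => M) (CohB1.tensorMod (CohB1.tensorPow L m) F) : ℚ) with hu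
  have hb : ∀ i m, u (i + 1) (m + 1) = u i (m + 1) - u i m := by
    intro i m
    have hcons : (Fin.cons M (fun _ : Fin i => M) : Fin (i + 1) → X.Modules) =
        fun _ : Fin (i + 1) => M := by
      funext j
      induction j using Fin.cases with
      | zero => rfl
      | succ l => rfl
    have h1 := intNum_cons k d hd (fun _ : Fin i => M) M
      (CohB1.tensorMod (CohB1.tensorPow L (m + 1)) F)
    rw [hcons, intNum_congr k d hd (fun _ : Fin i => M) (stepIso L M F e m)] at h1
    exact h1
  have hc : ∀ i m, r + 1 ≤ i → u i m = 0 := by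
    intro i m hi
    have hLm := Groth.Agent.Lib.Helper23.SecTw.isInvertible_tensorPow hL m
    have hcoh : Coh.IsCoh (CohB1.tensorMod (CohB1.tensorPow L m) F) :=
      Groth.Agent.Lib.R2H4SSDescent.isCoh_tensorMod _ _
        (Groth.Agent.Lib.R2H4SSDescent.isCoh_of_isInvertible _ hLm) hF
    have hsub : CohB1.support (CohB1.tensorMod (CohB1.tensorPow L m) F) ⊆ CohB1.support F := by
      rw [Groth.Agent.Lib.H6xSuppPush.support_eq_of_iso (tComm (CohB1.tensorPow L m) F)]
      exact Groth.Agent.Lib.R2H4Snapper.support_tensor_subset F _ hLm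
    have hdim : topologicalKrullDim (CohB1.support (CohB1.tensorMod (CohB1.tensorPow L m) F)) <
        (i : WithBot ℕ∞) := by
      refine lt_of_le_of_lt ((Groth.Agent.Lib.Helper8.Conn.dim_mono hsub).trans hr) ?_
      exact_mod_cast hi
    have := s3231 k d hd (fun _ : Fin i => M) (fun _ => hM) _ hcoh hdim
    simp only [hu]
    exact_mod_cast this
  have hN := newton (r + 1) u hb hc m
  have h0 : u 0 m = FGA.eulerCharLE k X (CohB1.tensorMod (CohB1.tensorPow L m) F) d :=
    intNum_zero k d hd _ _
  have hi0 : ∀ i, u i 0 = FGA.intNum k X d (fun _ : Fin i => M) F := by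
    intro i
    simp only [hu]
    have := intNum_congr k d hd (fun _ : Fin i => M) (lUnit F)
    exact_mod_cast this
  rw [h0] at hN
  simp_rw [hi0] at hN
  exact_mod_cast hN

end Groth.Agent.Lib.R2H4FGANewton
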