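import Mathlib
import Groth.Prelude
import Groth.Agent.Lib.R2H4SnapperRef
import Groth.Agent.Lib.R2H1InvHom
import Groth.Agent.Lib.Helper23LocGen
import Groth.Agent.Lib.Helper20RegMero

set_option autoImplicit false
set_option linter.style.haveILetI false
universe u
open CategoryTheory CategoryTheory.Limits AlgebraicGeometry TopologicalSpace

noncomputable section

namespace Groth.Agent.Lib.R2H4AmpleSection

open Groth.Agent.Lib.R2H4NumPoly Groth.Agent.Lib.R2H4TensorPows Groth.Agent.Lib.R2H4Snapper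
  Groth.Agent.Lib.R2H4SnapperCor Groth.Agent.Lib.R2H4SnapperRef

section Stalk

variable {X : Scheme.{u}}

/-- the stalks of an invertible module have the length of the local ring -/
theorem lenE_of_isInvertible (E : X.Modules) (hE : PicF.IsInvertible E) (x : X) :
    lenE E x = Module.length (X.presheaf.stalk x) (X.presheaf.stalk x) := by
  obtain ⟨g, hg⟩ := Groth.Agent.Lib.Helper20.RegMero.exists_isGen E hE x
  unfold lenE
  exact (LinearEquiv.ofBijective (LinearMap.toSpanSingleton (X.presheaf.stalk x)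
    (E.presheaf.stalk x) g) hg).length_eq.symm

/-- an invertible module has full support -/
theorem support_of_isInvertible (E : X.Modules) (hE : PicF.IsInvertible E) :
    CohB1.support E = Set.univ := by
  ext x
  simp only [Set.mem_univ, iff_true]
  obtain ⟨g, hg⟩ := Groth.Agent.Lib.Helper20.RegMero.exists_isGen E hE x
  intro hsub
  have h01 : (0 : X.presheaf.stalk x) = 1 := hg.1 (Subsingleton.elim _ _)
  exact zero_ne_one h01

end Stalk

section Section

open Groth.Agent.Lib.R2H1.DegCartier Groth.Agent.Lib.R2H2.DevA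

variable (k : Type u) [Field k] {X : Scheme.{u}} [X.Over (Spec (CommRingCat.of k))]
  [IsProper (X ↘ (Spec (CommRingCat.of k)))]

/-- the identity, retyped -/
def tb (E K : X.Modules) : (DCoh.tensorBi.obj E).obj K ≅ CohB1.tensorMod E K := Iso.refl _

include k in
/-- a nonzero section of a globally generated twist of the ideal of a non-generic point -/
theorem exists_section_core [IsIntegral X] (E : X.Modules) (hEi : PicF.IsInvertible E) (ξ' : X)
    (hξ' : closure ({ξ'} : Set X) ≠ Set.univ)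
    (hgg : Curv2.IsGloballyGenerated (CohB1.tensorMod (ClSub.idealMod (zI ξ')) E)) :
    ∃ (s : Coh.structureModule X ⟶ E), s ≠ 0 ∧ ξ' ∈ CohB1.support (cokernel s) := by
  have := Groth.Agent.Lib.R2H1.CurveEuler.isNoetherian_of_proper k X
  obtain ⟨ι, p, hp⟩ := hgg
  have t := Groth.Agent.Lib.R2Lead.TensorExact.shortExact_map_tensorBi_of_isInvertible E hEi
    (idealSeq (zI ξ')) (idealSeq_shortExact (zI ξ'))
  haveI hm : Mono ((DCoh.tensorBi.obj E).map (ClSub.idealModι (zI ξ'))) := t.mono_f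
  haveI he : Epi ((DCoh.tensorBi.obj E).map (ClSub.toSubscheme (zI ξ'))) := t.epi_g
  let j : CohB1.tensorMod E (ClSub.idealMod (zI ξ')) ⟶ CohB1.tensorMod E (Coh.structureModule X) :=
    (tb E _).inv ≫ (DCoh.tensorBi.obj E).map (ClSub.idealModι (zI ξ')) ≫ (tb E _).hom
  let q : CohB1.tensorMod E (Coh.structureModule X) ⟶ CohB1.tensorMod E (ClSub.quotMod (zI ξ')) :=
    (tb E _).inv ≫ (DCoh.tensorBi.obj E).map (ClSub.toSubscheme (zI ξ')) ≫ (tb E _).hom
  haveI : Mono j := mono_comp _ _
  haveI : Epi q := epi_comp _ _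
  have hjq : j ≫ q = 0 := by
    change ((tb E _).inv ≫ (DCoh.tensorBi.obj E).map (ClSub.idealModι (zI ξ')) ≫ (tb E _).hom) ≫
      ((tb E _).inv ≫ (DCoh.tensorBi.obj E).map (ClSub.toSubscheme (zI ξ')) ≫ (tb E _).hom) = 0
    simp only [Category.assoc, Iso.hom_inv_id_assoc]
    rw [← Functor.map_comp_assoc]
    have : ClSub.idealModι (zI ξ') ≫ ClSub.toSubscheme (zI ξ') = 0 := (idealSeq (zI ξ')).zero
    rw [this, Functor.map_zero]
    simp
  have hqmono : j = 0 → Mono q := by
    intro hj0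
    have h1 : (DCoh.tensorBi.obj E).map (ClSub.idealModι (zI ξ')) = 0 := by
      have h2 : (tb E _).hom ≫ j ≫ (tb E _).inv =
          (DCoh.tensorBi.obj E).map (ClSub.idealModι (zI ξ')) := by
        change (tb E _).hom ≫ ((tb E _).inv ≫ (DCoh.tensorBi.obj E).map
          (ClSub.idealModι (zI ξ')) ≫ (tb E _).hom) ≫ (tb E _).inv = _
        simp
      rw [← h2, hj0]
      simp
    haveI : Mono ((DCoh.tensorBi.obj E).map (ClSub.toSubscheme (zI ξ'))) := t.exact.mono_g h1
    exact mono_comp _ _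
  -- the support of `E ⊗ O/I`
  have hsQ : CohB1.support (CohB1.tensorMod E (ClSub.quotMod (zI ξ'))) ⊆
      closure ({ξ'} : Set X) := by
    rw [Groth.Agent.Lib.H6xSuppPush.support_eq_of_iso (tComm E (ClSub.quotMod (zI ξ')))]
    exact (support_tensor_subset _ E hEi).trans (support_quotMod_zI ξ')
  -- `E ⊗ I` is nonzero
  have hnz : ¬ IsZero (CohB1.tensorMod E (ClSub.idealMod (zI ξ'))) := by
    intro hz
    have hj0 : j = 0 := hz.eq_of_src _ _
    haveI : Mono q := hqmono hj0
    haveI : IsIso q := isIso_of_mono_of_epi q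
    have h1 := Groth.Agent.Lib.H6xSuppPush.support_eq_of_iso (asIso q)
    have h2 := Groth.Agent.Lib.H6xSuppPush.support_eq_of_iso (rUnit E)
    apply hξ'
    rw [Set.eq_univ_iff_forall]
    intro x
    apply hsQ
    rw [← h1, h2, support_of_isInvertible E hEi]
    exact Set.mem_univ x
  -- a nonzero section of `I ⊗ E`
  have hp0 : p ≠ 0 := by
    intro h0
    apply hnz
    have : IsZero (CohB1.tensorMod (ClSub.idealMod (zI ξ')) E) := by
      rw [IsZero.iff_id_eq_zero]
      have h1 : p ≫ 𝟙 _ = p ≫ 0 := by rw [h0]; simp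
      exact (cancel_epi p).1 h1
    exact this.of_iso (tComm _ _)
  obtain ⟨i, hi⟩ : ∃ i : ι, SheafOfModules.ιFree i ≫ p ≠ 0 := by
    by_contra hcon
    push Not at hcon
    apply hp0
    refine Cofan.IsColimit.hom_ext (SheafOfModules.isColimitFreeCofan ι) _ _ fun i => ?_
    rw [SheafOfModules.freeCofan_inj]
    exact (hcon i).trans comp_zero.symm
  let t₀ : Coh.structureModule X ⟶ CohB1.tensorMod (ClSub.idealMod (zI ξ')) E :=
    SheafOfModules.ιFree i ≫ p
  let s : Coh.structureModule X ⟶ E :=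
    t₀ ≫ (tComm (ClSub.idealMod (zI ξ')) E).hom ≫ j ≫ (rUnit E).hom
  refine ⟨s, ?_, ?_⟩
  · intro h0
    apply hi
    have heq : t₀ ≫ ((tComm (ClSub.idealMod (zI ξ')) E).hom ≫ j ≫ (rUnit E).hom) =
        0 ≫ ((tComm (ClSub.idealMod (zI ξ')) E).hom ≫ j ≫ (rUnit E).hom) := by
      rw [zero_comp]
      exact h0
    haveI h1 : Mono (j ≫ (rUnit E).hom) := mono_comp _ _
    have h2 : Mono ((tComm (ClSub.idealMod (zI ξ')) E).hom ≫ j ≫ (rUnit E).hom) := mono_comp _ _
    exact h2.right_cancellation _ _ heq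
  · -- the cokernel surjects onto `E ⊗ O/I`
    let r : E ⟶ CohB1.tensorMod E (ClSub.quotMod (zI ξ')) := (rUnit E).inv ≫ q
    have hsr : s ≫ r = 0 := by
      change (t₀ ≫ (tComm (ClSub.idealMod (zI ξ')) E).hom ≫ j ≫ (rUnit E).hom) ≫
        ((rUnit E).inv ≫ q) = 0
      simp only [Category.assoc, Iso.hom_inv_id_assoc]
      rw [hjq]
      simp
    let φ : cokernel s ⟶ CohB1.tensorMod E (ClSub.quotMod (zI ξ')) := cokernel.desc s r hsr
    haveI : Epi r := epi_comp _ _
    haveI : Epi φ := by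
      have : cokernel.π s ≫ φ = r := cokernel.π_desc _ _ _
      exact epi_of_epi_fac this
    apply support_subset_of_epi φ
    -- `ξ'` lies in the support of `E ⊗ O/I`
    rw [Groth.Agent.Lib.H6xSuppPush.support_eq_of_iso (tComm E (ClSub.quotMod (zI ξ')))]
    obtain ⟨U, hxU, ⟨e⟩⟩ := exists_restrict_tensor_iso (ClSub.quotMod (zI ξ')) E hEi ξ'
    have hmem : ξ' ∈ CohB1.support (ClSub.quotMod (zI ξ')) := by
      by_contra hcon
      have h1 := lenE_eq_zero _ ξ' hcon
      rw [lenE_quotMod_zI ξ'] at h1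
      exact one_ne_zero h1
    have h1 := (Groth.Agent.Lib.H6xSuppPush.mem_support_restrict_iff U.ι (ClSub.quotMod (zI ξ'))
      ⟨ξ', hxU⟩).2 hmem
    rw [← Groth.Agent.Lib.H6xSuppPush.support_eq_of_iso e] at h1
    exact (Groth.Agent.Lib.H6xSuppPush.mem_support_restrict_iff U.ι _ ⟨ξ', hxU⟩).1 h1

include k in
/-- on an integral proper scheme, an ample module has a power with a nonzero section vanishing
at a prescribed non-generic point -/
theorem exists_section_of_ample [IsIntegral X] (L : X.Modules) (hL : CohB1.IsAmple L) (ξ' : X)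
    (hξ' : closure ({ξ'} : Set X) ≠ Set.univ) :
    ∃ (m : ℕ) (s : Coh.structureModule X ⟶ CohB1.tensorPow L (m + 1)),
      s ≠ 0 ∧ ξ' ∈ CohB1.support (cokernel s) := by
  have := Groth.Agent.Lib.R2H1.CurveEuler.isNoetherian_of_proper k X
  have cO : Coh.IsCoh (Coh.structureModule X) :=
    Groth.Agent.Lib.R2H1.GenusLe.isCoh_structureModule X
  have cQ : Coh.IsCoh (ClSub.quotMod (zI ξ')) := isCoh_quotMod k (zI ξ')
  have cI : Coh.IsCoh (ClSub.idealMod (zI ξ')) :=
    Groth.Agent.Lib.R2H2.PdSheaf.isCoh_kernel cO cQ (ClSub.toSubscheme (zI ξ'))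
  haveI : (ClSub.idealMod (zI ξ')).IsQuasicoherent := cI.1
  haveI : SheafOfModules.IsFiniteType (R := X.ringCatSheaf) (ClSub.idealMod (zI ξ')) := cI.2
  obtain ⟨n₀, hn₀⟩ :=
    Groth.Agent.Lib.Helper23.LocGen.isGloballyGenerated_twist_eventually L hL
      (ClSub.idealMod (zI ξ'))
  obtain ⟨s, hs, hsupp⟩ := exists_section_core k (CohB1.tensorPow L (n₀ + 1))
    (Groth.Agent.Lib.Helper23.SecTw.isInvertible_tensorPow hL.1 _) ξ' hξ'
    (hn₀ (n₀ + 1) (Nat.le_succ _))
  exact ⟨n₀, s, hs, hsupp⟩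

end Section

end Groth.Agent.Lib.R2H4AmpleSection
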