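import Mathlib
import Groth.Agent.Lib.R2H4NumPoly

set_option autoImplicit false
open MvPolynomial

noncomputable section

namespace Groth.Agent.Lib.R2H4PolyScale

open Groth.Agent.Lib.R2H4NumPoly

variable {σ : Type*} [Fintype σ] [DecidableEq σ]

/-- rescaling the variables of a polynomial -/
def scalePoly (a : σ → ℚ) : MvPolynomial σ ℚ →ₐ[ℚ] MvPolynomial σ ℚ :=
  MvPolynomial.aeval (fun i => C (a i) * X i)

theorem eval_scalePoly (a x : σ → ℚ) (P : MvPolynomial σ ℚ) :
    eval x (scalePoly a P) = eval (fun i => a i * x i) P := by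
  induction P using MvPolynomial.induction_on with
  | C r => simp [scalePoly]
  | add p q hp hq => rw [map_add, map_add, map_add, hp, hq]
  | mul_X p i hp =>
    rw [map_mul, map_mul, map_mul, hp]
    simp [scalePoly]

theorem scalePoly_monomial (a : σ → ℚ) (u : σ →₀ ℕ) (r : ℚ) :
    scalePoly a (monomial u r) = monomial u (r * ∏ i, a i ^ u i) := by
  unfold scalePoly
  rw [aeval_monomial, monomial_eq (a := r * ∏ i, a i ^ u i), map_mul, mul_assoc]
  congr 1
  rw [Finsupp.prod_fintype _ _ (fun i => by simp), Finsupp.prod_fintype _ _ (fun i => by simp),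
    map_prod, ← Finset.prod_mul_distrib]
  refine Finset.prod_congr rfl fun i _ => ?_
  rw [mul_pow, map_pow]

theorem coeff_scalePoly (a : σ → ℚ) (μ : σ →₀ ℕ) (P : MvPolynomial σ ℚ) :
    coeff μ (scalePoly a P) = (∏ i, a i ^ μ i) * coeff μ P := by
  induction P using MvPolynomial.induction_on' with
  | monomial u r =>
    rw [scalePoly_monomial, coeff_monomial, coeff_monomial]
    split_ifs with h
    · subst h; ring
    · ring
  | add p q hp hq => rw [map_add, coeff_add, coeff_add, hp, hq]; ring

/-- the coefficient of `x_1 ⋯ x_d` after rescaling -/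
theorem coeff_ones_scalePoly (a : σ → ℚ) (P : MvPolynomial σ ℚ) :
    coeff (Finsupp.equivFunOnFinite.symm fun _ : σ => 1) (scalePoly a P) =
      (∏ i, a i) * coeff (Finsupp.equivFunOnFinite.symm fun _ : σ => 1) P := by
  rw [coeff_scalePoly]
  congr 1
  refine Finset.prod_congr rfl fun i _ => ?_
  change a i ^ 1 = a i
  rw [pow_one]

end Groth.Agent.Lib.R2H4PolyScale
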