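import Mathlib
import Groth.Prelude
import Groth.Agent.Lib.R2H4SnapperCartier

set_option autoImplicit false
universe u
open CategoryTheory CategoryTheory.Limits AlgebraicGeometry TopologicalSpace

noncomputable section

namespace Groth.Agent.Lib.R2H4SnapperGen

open Groth.Agent.Lib.R2H4NumPoly Groth.Agent.Lib.R2H4TensorPows Groth.Agent.Lib.R2H4Snapper
  Groth.Agent.Lib.R2H4SnapperCor Groth.Agent.Lib.R2H4SnapperRef Groth.Agent.Lib.R2H4SnapperCartier

section Main

open Groth.Agent.Lib.R2H1.DegCartier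

variable (k : Type u) [Field k] {X : Scheme.{u}} [X.Over (Spec (CommRingCat.of k))]
  [IsProper (X ↘ (Spec (CommRingCat.of k)))]

/-- the intersection number of a coherent module of dimension `≤ d` as a finite sum over the
`d`-dimensional points of its support -/
theorem coeff_ones_eq_sum (F : X.Modules) (hF : Coh.IsCoh F) (d : ℕ)
    (hsupp : topologicalKrullDim (CohB1.support F) ≤ ((d : ℕ) : WithBot ℕ∞))
    (L : Fin d → X.Modules) (hL : ∀ i, PicF.IsInvertible (L i)) (P : MvPolynomial (Fin d) ℚ)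
    (hP : ∀ n : Fin d → ℕ, fE k X d L F n = ev n P)
    (Q : X → MvPolynomial (Fin d) ℚ)
    (hQ : ∀ ξ : X, topologicalKrullDim (closure ({ξ} : Set X)) = ((d : ℕ) : WithBot ℕ∞) →
      ∀ n : Fin d → ℕ, fE k X d L (ClSub.quotMod (zI ξ)) n = ev n (Q ξ)) :
    ∃ T : Finset X,
      (∀ ξ ∈ T, topologicalKrullDim (closure ({ξ} : Set X)) = ((d : ℕ) : WithBot ℕ∞) ∧
        lenE F ξ ≠ 0 ∧ lenE F ξ ≠ ⊤) ∧
      (∀ ξ : X, topologicalKrullDim (closure ({ξ} : Set X)) = ((d : ℕ) : WithBot ℕ∞) →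
        lenE F ξ ≠ 0 → ξ ∈ T) ∧
      MvPolynomial.coeff (Finsupp.equivFunOnFinite.symm fun _ : Fin d => 1) P =
        ∑ ξ ∈ T, ((lenE F ξ).toNat : ℚ) *
          MvPolynomial.coeff (Finsupp.equivFunOnFinite.symm fun _ : Fin d => 1) (Q ξ) := by
  classical
  obtain ⟨⟨hfin, htop⟩, R, hR, hRf⟩ := refined k d hL F hF hsupp
  set T := hfin.toFinset with hT
  have hmemT : ∀ ξ, ξ ∈ T ↔ lam d F ξ ≠ 0 := fun ξ => by
    rw [hT, Set.Finite.mem_toFinset, Function.mem_support]
  have hdimT : ∀ ξ ∈ T, topologicalKrullDim (closure ({ξ} : Set X)) = ((d : ℕ) : WithBot ℕ∞) := by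
    intro ξ hξ
    by_contra hcon
    apply (hmemT ξ).1 hξ
    unfold lam
    rw [if_neg hcon]
  have hlamT : ∀ ξ ∈ T, lam d F ξ = lenE F ξ := by
    intro ξ hξ
    unfold lam
    rw [if_pos (hdimT ξ hξ)]
  have hMT : ∀ n : Fin d → ℕ, MT k d d L F n =
      ∑ ξ ∈ T, ((lenE F ξ).toNat : ℚ) * ev n (Q ξ) := by
    intro n
    unfold MT
    rw [finsum_eq_sum_of_support_subset (s := T)]
    · exact Finset.sum_congr rfl fun ξ hξ => by rw [hQ ξ (hdimT ξ hξ) n, hlamT ξ hξ]
    · intro ξ hξ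
      rw [Function.mem_support] at hξ
      rw [Finset.mem_coe, hmemT]
      intro h0
      apply hξ
      rw [h0]
      simp
  have hPeq : P = ∑ ξ ∈ T, MvPolynomial.C ((lenE F ξ).toNat : ℚ) * Q ξ + R := by
    refine eq_of_ev_eq _ _ fun n => ?_
    have h1 : ev n P = fE k X d L F n := (hP n).symm
    have h2 := hRf n
    simp only at h2
    rw [h1]
    unfold ev at h2 ⊢
    rw [map_add, map_sum]
    simp only [map_mul, MvPolynomial.eval_C]
    have h3 := hMT n
    unfold ev at h3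
    rw [← h3, ← h2]
    ring
  refine ⟨T, fun ξ hξ => ⟨hdimT ξ hξ, ?_, ?_⟩, fun ξ hdim hne => ?_, ?_⟩
  · rw [← hlamT ξ hξ]
    exact (hmemT ξ).1 hξ
  · rw [← hlamT ξ hξ]
    exact htop ξ
  · rw [hmemT]
    unfold lam
    rw [if_pos hdim]
    exact hne
  · rw [hPeq, MvPolynomial.coeff_add, coeff_ones_eq_zero_of_degLT d R hR, add_zero,
      MvPolynomial.coeff_sum]
    simp only [MvPolynomial.coeff_C_mul]

/-- intersecting with the divisor of a section: for a short exact sequence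
`0 → O_X → L_0 → C → 0` one has `(L_0 ⋯ L_e · X) = (L_1 ⋯ L_e · C)` -/
theorem coeff_ones_of_section (e : ℕ)
    (L : Fin (e + 1) → X.Modules) (hL : ∀ j, PicF.IsInvertible (L j))
    (C : X.Modules) (s : Coh.structureModule X ⟶ L 0) (p : L 0 ⟶ C) (w : s ≫ p = 0)
    (hS : (ShortComplex.mk s p w).ShortExact) (cC : Coh.IsCoh C)
    (hC : topologicalKrullDim (CohB1.support C) ≤ ((e : ℕ) : WithBot ℕ∞))
    (hX : topologicalKrullDim X ≤ ((e + 1 : ℕ) : WithBot ℕ∞))
    (P : MvPolynomial (Fin (e + 1)) ℚ) (Q : MvPolynomial (Fin e) ℚ)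
    (hP : ∀ n : Fin (e + 1) → ℕ, fE k X (e + 1) L (Coh.structureModule X) n = ev n P)
    (hQ : ∀ n : Fin e → ℕ, fE k X e (fun j => L j.succ) C n = ev n Q) :
    MvPolynomial.coeff (Finsupp.equivFunOnFinite.symm fun _ : Fin (e + 1) => 1) P =
      MvPolynomial.coeff (Finsupp.equivFunOnFinite.symm fun _ : Fin e => 1) Q := by
  classical
  have := Groth.Agent.Lib.R2H1.CurveEuler.isNoetherian_of_proper k X
  have cO : Coh.IsCoh (Coh.structureModule X) :=
    Groth.Agent.Lib.R2H1.GenusLe.isCoh_structureModule X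
  have cL : Coh.IsCoh (L 0) := Groth.Agent.Lib.R2H4SSDescent.isCoh_of_isInvertible _ (hL 0)
  have hsuppO : topologicalKrullDim (CohB1.support (Coh.structureModule X)) ≤
      ((e + 1 : ℕ) : WithBot ℕ∞) :=
    (Topology.IsInducing.subtypeVal.topologicalKrullDim_le).trans hX
  set f := fE k X (e + 1) L (Coh.structureModule X) with hf
  set G := fE k X (e + 1) L C with hG
  set g := fE k X e (fun j => L j.succ) C with hg
  have hPdeg : P.totalDegree ≤ e + 1 :=
    totalDegree_le_of_eval k _ cO (e + 1) hsuppO (e + 1) L hL P hP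
  have hQdeg : Q.totalDegree ≤ e :=
    totalDegree_le_of_eval k _ cC e hC e (fun j => L j.succ) (fun j => hL _) Q hQ
  have hdiff : ∀ n : Fin (e + 1) → ℕ, f (n + Pi.single 0 1) = f n + G n := by
    intro n
    have h1 := fE_add k (e + 1) L hL (ShortComplex.mk s p w) hS cO cL cC n
    have h2 : f (n + Pi.single 0 1) = fE k X (e + 1) L (L 0) n := by
      rw [hf, ← fE_shift k (e + 1) L (Coh.structureModule X) 0 n]
      exact fE_congr k (e + 1) L (lUnit _) n
    rw [h2]
    exact h1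
  have hcons : ∀ m : Fin e → ℕ, (Fin.cons 1 m : Fin (e + 1) → ℕ) =
      (Fin.cons 0 m : Fin (e + 1) → ℕ) + Pi.single 0 1 := by
    intro m
    funext i
    induction i using Fin.cases with
    | zero => simp
    | succ j => simp [Fin.succ_ne_zero]
  have hG0 : ∀ m : Fin e → ℕ, G (Fin.cons 0 m) = g m := by
    intro m
    obtain ⟨i⟩ := nonempty_powsHead C e L (Fin.cons 0 m)
    simp only [Fin.cons_zero, Fin.cons_succ] at i
    rw [hG, hg]
    unfold fE
    rw [euler_congr k i]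
    exact congrArg _ (euler_congr k (powsIso (rUnit C) e _ m))
  rw [coeff_ones_eq P (by rw [Fintype.card_fin]; exact hPdeg),
    coeff_ones_eq Q (by rw [Fintype.card_fin]; exact hQdeg)]
  simp_rw [← hP, ← hQ]
  rw [alt_sum_split e f]
  refine Finset.sum_congr rfl fun t _ => ?_
  rw [hcons, hdiff, hG0]
  ring

end Main

end Groth.Agent.Lib.R2H4SnapperGen
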