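import Mathlib
import Groth.Prelude
import Groth.Agent.Lib.R2H4SnapperGen
import Groth.Agent.Lib.R2H4AmpleSection
import Groth.Agent.Lib.R2H4PolyScale
import Groth.Agent.Lib.Helper27BMCohDim
import Groth.Agent.Lib.Helper23PB
import Groth.Agent.Lib.Helper23SecTw6
import Groth.Agent.Lib.R2H1ZeroDimCoh
import Groth.Agent.Lib.R2H2PnBeilinson

set_option autoImplicit false
set_option linter.style.haveILetI false
set_option linter.unusedSectionVars false
universe u
open CategoryTheory CategoryTheory.Limits AlgebraicGeometry TopologicalSpace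

noncomputable section

namespace Groth.Agent.Lib.R2H4AmplePos

open Groth.Agent.Lib.R2H4NumPoly Groth.Agent.Lib.R2H4TensorPows Groth.Agent.Lib.R2H4Snapper
  Groth.Agent.Lib.R2H4SnapperCor Groth.Agent.Lib.R2H4SnapperRef Groth.Agent.Lib.R2H4SnapperCartier
  Groth.Agent.Lib.R2H4SnapperGen Groth.Agent.Lib.R2H4AmpleSection Groth.Agent.Lib.R2H4PolyScale

section Top

open Groth.Agent.Lib.Helper27BMCoh

variable {T : Type u} [TopologicalSpace T]

/-- (copied from helper27's `Helper27BMCohDim2`, which sits behind a long import chain) In a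
nonempty quasi-sober space of finite dimension there are points whose closures have any
prescribed dimension up to that of the space. -/
lemma exists_natDim_closure_eq_of_le [Nonempty T] [QuasiSober T] (h : topologicalKrullDim T < ⊤)
    (k : ℕ) (hk : k ≤ WeilCoh.natDim T) :
    ∃ t : T, WeilCoh.natDim ↥(closure ({t} : Set T)) = k := by
  have hd : ((WeilCoh.natDim T : ℕ) : WithBot ℕ∞) ≤ topologicalKrullDim T := (coe_natDim h).le
  obtain ⟨l, hl⟩ := Order.le_krullDim_iff.mp hd
  have hgen : ∀ i : Fin (l.length + 1), ∃ g : T, closure ({g} : Set T) = (l i : Set T) := by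
    intro i
    obtain ⟨g, hg⟩ := QuasiSober.sober (l i).isIrreducible (l i).isClosed
    exact ⟨g, hg.def⟩
  choose g hg using hgen
  let a : ℕ → ℕ := fun k => if hk : k < l.length + 1 then
    WeilCoh.natDim ↥(closure ({g ⟨k, hk⟩} : Set T)) else 0
  have hstep : ∀ k (hk : k + 1 < l.length + 1), a k < a (k + 1) := by
    intro k hk
    have hk' : k < l.length + 1 := by omega
    have hlt : l ⟨k, hk'⟩ < l ⟨k + 1, hk⟩ := l.strictMono (by simp [Fin.lt_def])
    have hx : g ⟨k, hk'⟩ ∈ closure ({g ⟨k + 1, hk⟩} : Set T) := by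
      rw [hg]
      exact hlt.le (by rw [← SetLike.mem_coe, ← hg]; exact subset_closure rfl)
    have hne : g ⟨k + 1, hk⟩ ∉ closure ({g ⟨k, hk'⟩} : Set T) := by
      intro hmem
      have : (l ⟨k + 1, hk⟩ : Set T) ⊆ l ⟨k, hk'⟩ := by
        rw [← hg, ← hg]
        exact closure_minimal (Set.singleton_subset_iff.mpr hmem) isClosed_closure
      exact absurd (le_antisymm hlt.le (SetLike.coe_subset_coe.mp this)) hlt.ne
    have := natDim_closure_lt h hx hne
    simp only [a, dif_pos hk, dif_pos hk']
    exact this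
  have hlow : ∀ k, k < l.length + 1 → k ≤ a k := by
    intro k
    induction k with
    | zero => intro _; exact Nat.zero_le _
    | succ k ih =>
      intro hk
      have := hstep k hk
      have := ih (by omega)
      omega
  have hhigh : ∀ d k, k + d = l.length → a k + d ≤ a l.length := by
    intro d
    induction d with
    | zero => intro k hk; have : k = l.length := by omega
              subst this; omega
    | succ d ih =>
      intro k hk
      have h1 := hstep k (by omega)
      have h2 := ih (k + 1) (by omega)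
      omega
  have htop : a l.length ≤ WeilCoh.natDim T := by
    simp only [a, dif_pos (Nat.lt_succ_self l.length)]
    exact natDim_le_of_isInducing Topology.IsInducing.subtypeVal h
  have hkl : k < l.length + 1 := by omega
  refine ⟨g ⟨k, hkl⟩, ?_⟩
  have h1 := hlow k hkl
  have h2 := hhigh (l.length - k) k (by omega)
  have h3 : a k = WeilCoh.natDim ↥(closure ({g ⟨k, hkl⟩} : Set T)) := by
    simp only [a, dif_pos hkl]
  omega

/-- a point whose closure has a prescribed dimension `e ≤ dim T` -/
theorem exists_dim_closure_eq [QuasiSober T] (d e : ℕ)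
    (hT : topologicalKrullDim T = ((d : ℕ) : WithBot ℕ∞)) (he : e ≤ d) :
    ∃ t : T, topologicalKrullDim (closure ({t} : Set T)) = ((e : ℕ) : WithBot ℕ∞) := by
  have hfin : topologicalKrullDim T < ⊤ := by
    rw [hT]
    change (((d : ℕ) : ℕ∞) : WithBot ℕ∞) < ((⊤ : ℕ∞) : WithBot ℕ∞)
    exact WithBot.coe_lt_coe.2 (ENat.natCast_lt_top d)
  haveI : Nonempty T := by
    by_contra hcon
    rw [not_nonempty_iff] at hcon
    have : topologicalKrullDim T = ⊥ := by
      unfold topologicalKrullDim
      rw [Order.krullDim_eq_bot_iff]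
      exact ⟨fun Z => hcon.elim Z.isIrreducible.nonempty.some⟩
    rw [this] at hT
    exact WithBot.bot_ne_coe hT
  have hnat : WeilCoh.natDim T = d := by
    have h1 := coe_natDim hfin
    rw [hT] at h1
    exact_mod_cast h1
  obtain ⟨t, ht⟩ := exists_natDim_closure_eq_of_le hfin e (hnat ▸ he)
  refine ⟨t, ?_⟩
  haveI : Nonempty ↥(closure ({t} : Set T)) := ⟨⟨t, subset_closure rfl⟩⟩
  rw [← coe_natDim (krullDim_subtype_lt_top hfin _), ht]

end Top

section Head

open Groth.Agent.Lib.R2H1.DegCartier

variable (k : Type u) [Field k] {X : Scheme.{u}} [X.Over (Spec (CommRingCat.of k))]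

theorem fE_head (F : X.Modules) (r : ℕ) (L : Fin (r + 1) → X.Modules) (n : Fin (r + 1) → ℕ) :
    fE k X (r + 1) L F n =
      fE k X r (fun j => L j.succ) (CohB1.tensorMod F (CohB1.tensorPow (L 0) (n 0)))
        (fun j => n j.succ) := by
  obtain ⟨i⟩ := nonempty_powsHead F r L n
  unfold fE
  rw [euler_congr k i]

/-- replacing the first module by a power rescales the first exponent -/
theorem fE_scale (e m : ℕ) (L : X.Modules) (hL : PicF.IsInvertible L) (F : X.Modules)
    (n : Fin (e + 1) → ℕ) :
    fE k X (e + 1) (Fin.cons (CohB1.tensorPow L (m + 1)) (fun _ => L)) F n =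
      fE k X (e + 1) (fun _ => L) F (Fin.cons ((m + 1) * n 0) (fun j => n j.succ)) := by
  rw [fE_head, fE_head]
  obtain ⟨i⟩ := Groth.Agent.Lib.Helper23.SecTw.nonempty_tensorPow_tensorPow_iso L hL (m + 1)
    (n 0) ((m + 1) * n 0) rfl
  exact fE_congr k e (fun _ => L) (tIso (Iso.refl F) i) (fun j => n j.succ)

end Head

section HZero

variable (k : Type u) [Field k] {X : Scheme.{u}} [X.Over (Spec (CommRingCat.of k))]

/-- if the higher cohomology vanishes the Euler characteristic is `h⁰` -/
theorem euler_eq_finrank_of_vanishing (F : X.Modules)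
    (h : ∀ q : ℕ, 0 < q → Subsingleton (Coh.HH X F q)) :
    Curv2.euler k X F = (Module.finrank k (Coh.HH X F 0) : ℤ) := by
  unfold Curv2.euler
  rw [finsum_eq_single _ 0]
  · simp
  · intro i hi
    haveI := h i (Nat.pos_of_ne_zero hi)
    rw [Module.finrank_zero_of_subsingleton]
    simp

variable [IsProper (X ↘ (Spec (CommRingCat.of k)))]

/-- a nonzero global section gives `h⁰ > 0` -/
theorem finrank_HH_zero_pos (F : X.Modules) (hF : Coh.IsCoh F) (s : Coh.structureModule X ⟶ F)
    (hs : s ≠ 0) : 0 < Module.finrank k (Coh.HH X F 0) := by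
  haveI : Module.Finite k (Coh.HH X F 0) := Groth.Agent.Lib.R2H1.EulerAdd.finite_HH k X F hF 0
  rw [Module.finrank_pos_iff_exists_ne_zero]
  refine ⟨Groth.Agent.Lib.R2H2.PnBeilinson.clsEquiv (k := k) F s, ?_⟩
  intro h0
  exact hs ((Groth.Agent.Lib.R2H2.PnBeilinson.clsEquiv (k := k) F).map_eq_zero_iff.1 h0)

/-- the structure sheaf is not zero on a nonempty scheme -/
theorem id_structureModule_ne_zero [Nonempty X] :
    (𝟙 (Coh.structureModule X)) ≠ 0 := by
  intro h0
  have hz : IsZero (Coh.structureModule X) := (IsZero.iff_id_eq_zero _).2 h0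
  have h1 := Groth.Agent.Lib.R2H2.DevA.support_of_isZero hz
  rw [support_of_isInvertible _
    (Groth.Agent.Lib.Helper23.TensorUnit.isInvertible_structureModule X)] at h1
  obtain ⟨x⟩ := ‹Nonempty X›
  exact Set.notMem_empty x (h1 ▸ Set.mem_univ x)

/-- `χ(O_X) > 0` in dimension zero -/
theorem euler_structure_pos_of_dim_zero [Nonempty X] (hX : topologicalKrullDim X ≤ 0) :
    0 < Curv2.euler k X (Coh.structureModule X) := by
  have := Groth.Agent.Lib.R2H1.CurveEuler.isNoetherian_of_proper k X
  have cO : Coh.IsCoh (Coh.structureModule X) :=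
    Groth.Agent.Lib.R2H1.GenusLe.isCoh_structureModule X
  have hsupp : topologicalKrullDim (CohB1.support (Coh.structureModule X)) ≤ 0 :=
    (Topology.IsInducing.subtypeVal.topologicalKrullDim_le).trans hX
  rw [euler_eq_finrank_of_vanishing k _ fun q hq =>
    Groth.Agent.Lib.R2H1.ZeroDimCoh.s1526 k X _ cO hsupp q hq]
  exact_mod_cast finrank_HH_zero_pos k _ cO (𝟙 _) id_structureModule_ne_zero

end HZero

section Pos

open Groth.Agent.Lib.R2H1.DegCartier

variable (k : Type u) [Field k]

theorem dim_zS {X : Scheme.{u}} (ξ : X) :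
    topologicalKrullDim (zI ξ).subscheme = topologicalKrullDim (closure ({ξ} : Set X)) := by
  have h1 := IsHomeomorph.topologicalKrullDim_eq _
    (zI ξ).subschemeι.isClosedEmbedding.isEmbedding.toHomeomorph.isHomeomorph
  rw [h1, range_zι]

theorem dim_univ {T : Type u} [TopologicalSpace T] :
    topologicalKrullDim (Set.univ : Set T) = topologicalKrullDim T :=
  IsHomeomorph.topologicalKrullDim_eq _ (Homeomorph.Set.univ T).isHomeomorph

/-- the polynomials of the reduced closed subschemes -/
theorem exists_Q {Z : Scheme.{u}} [Z.Over (Spec (CommRingCat.of k))]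
    [IsProper (Z ↘ Spec (CommRingCat.of k))] (e : ℕ) (L : Z.Modules) (hL : PicF.IsInvertible L) :
    ∃ Q : Z → MvPolynomial (Fin e) ℚ, ∀ ξ : Z,
      topologicalKrullDim (closure ({ξ} : Set Z)) = ((e : ℕ) : WithBot ℕ∞) →
      ∀ n : Fin e → ℕ, fE k Z e (fun _ => L) (ClSub.quotMod (zI ξ)) n = ev n (Q ξ) := by
  classical
  have hex : ∀ ξ : Z, ∃ Q : MvPolynomial (Fin e) ℚ,
      topologicalKrullDim (closure ({ξ} : Set Z)) = ((e : ℕ) : WithBot ℕ∞) →
      ∀ n : Fin e → ℕ, fE k Z e (fun _ => L) (ClSub.quotMod (zI ξ)) n = ev n Q := by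
    intro ξ
    by_cases h : topologicalKrullDim (closure ({ξ} : Set Z)) = ((e : ℕ) : WithBot ℕ∞)
    · have hsupp : topologicalKrullDim (CohB1.support (ClSub.quotMod (zI ξ))) ≤
          ((e : ℕ) : WithBot ℕ∞) :=
        (Groth.Agent.Lib.Helper8.Conn.dim_mono (support_quotMod_zI ξ)).trans h.le
      obtain ⟨Q, -, hQ⟩ := s1528 k _ (isCoh_quotMod k (zI ξ)) e hsupp e (fun _ => L)
        (fun _ => hL)
      exact ⟨Q, fun _ n => hQ n⟩
    · exact ⟨0, fun h' => absurd h' h⟩
  choose Q hQ using hex
  exact ⟨Q, hQ⟩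

/-- **positivity of the top self-intersection of an ample module** on an integral proper
scheme -/
theorem pos (e : ℕ) : ∀ (Z : Scheme.{u}) [Z.Over (Spec (CommRingCat.of k))]
    [IsProper (Z ↘ Spec (CommRingCat.of k))] [IsIntegral Z],
    topologicalKrullDim Z = ((e : ℕ) : WithBot ℕ∞) → ∀ (L : Z.Modules), CohB1.IsAmple L →
    ∀ P : MvPolynomial (Fin e) ℚ,
      (∀ n : Fin e → ℕ, fE k Z e (fun _ => L) (Coh.structureModule Z) n = ev n P) →
    0 < MvPolynomial.coeff (Finsupp.equivFunOnFinite.symm fun _ : Fin e => 1) P := by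
  classical
  induction e with
  | zero =>
    intro Z _ _ _ hZ L hL P hP
    have := Groth.Agent.Lib.R2H1.CurveEuler.isNoetherian_of_proper k Z
    have cO : Coh.IsCoh (Coh.structureModule Z) :=
      Groth.Agent.Lib.R2H1.GenusLe.isCoh_structureModule Z
    have hsuppO : topologicalKrullDim (CohB1.support (Coh.structureModule Z)) ≤
        ((0 : ℕ) : WithBot ℕ∞) :=
      (Topology.IsInducing.subtypeVal.topologicalKrullDim_le).trans hZ.le
    have hdeg : P.totalDegree ≤ 0 :=
      totalDegree_le_of_eval k _ cO 0 hsuppO 0 (fun _ => L) (fun _ => hL.1) P fun n => hP n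
    rw [coeff_ones_eq P (by simpa using hdeg)]
    have huniv : (Finset.univ : Finset (Finset (Fin 0))) = {∅} := by
      ext t
      simp only [Finset.mem_univ, Finset.mem_singleton, true_iff]
      exact Finset.eq_empty_of_isEmpty t
    rw [huniv, Finset.sum_singleton]
    simp only [Fintype.card_fin, Finset.card_empty, Nat.sub_self, pow_zero, one_mul]
    rw [← hP]
    have hpos := euler_structure_pos_of_dim_zero k (X := Z) (by rw [hZ]; exact le_rfl)
    unfold fE
    change (0 : ℚ) < ((Curv2.euler k Z (Coh.structureModule Z) : ℤ) : ℚ)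
    exact_mod_cast hpos
  | succ e ih =>
    intro Z _ _ _ hZ L hL P hP
    have := Groth.Agent.Lib.R2H1.CurveEuler.isNoetherian_of_proper k Z
    have hOi : PicF.IsInvertible (Coh.structureModule Z) :=
      Groth.Agent.Lib.Helper23.TensorUnit.isInvertible_structureModule Z
    have cO : Coh.IsCoh (Coh.structureModule Z) :=
      Groth.Agent.Lib.R2H1.GenusLe.isCoh_structureModule Z
    have hX' : topologicalKrullDim Z ≤ ((e + 1 : ℕ) : WithBot ℕ∞) := hZ.le
    have hsuppO : topologicalKrullDim (CohB1.support (Coh.structureModule Z)) ≤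
        ((e + 1 : ℕ) : WithBot ℕ∞) :=
      (Topology.IsInducing.subtypeVal.topologicalKrullDim_le).trans hX'
    -- a point of dimension `e`
    obtain ⟨ξ', hξ'⟩ := exists_dim_closure_eq (T := Z) (e + 1) e hZ (Nat.le_succ e)
    have hne : closure ({ξ'} : Set Z) ≠ Set.univ := by
      intro h
      have h2 : topologicalKrullDim (closure ({ξ'} : Set Z)) = topologicalKrullDim Z := by
        rw [h]; exact dim_univ
      rw [hξ', hZ] at h2
      have h3 : ((e : ℕ) : ℕ∞) = ((e + 1 : ℕ) : ℕ∞) := WithBot.coe_injective h2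
      have h4 : e = e + 1 := by exact_mod_cast h3
      omega
    obtain ⟨m, s, hs, hsupp⟩ := exists_section_of_ample k L hL ξ' hne
    have hEi : PicF.IsInvertible (CohB1.tensorPow L (m + 1)) :=
      Groth.Agent.Lib.Helper23.SecTw.isInvertible_tensorPow hL.1 _
    have cE : Coh.IsCoh (CohB1.tensorPow L (m + 1)) :=
      Groth.Agent.Lib.R2H4SSDescent.isCoh_of_isInvertible _ hEi
    haveI : Mono s := Groth.Agent.Lib.R2H1.InvHom.mono_of_ne_zero hOi hEi s hs
    have hS : (ShortComplex.mk s (cokernel.π s) (cokernel.condition s)).ShortExact :=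
      { exact := ShortComplex.exact_cokernel s
        mono_f := ‹Mono s›
        epi_g := inferInstanceAs (Epi (cokernel.π s)) }
    have cC : Coh.IsCoh (cokernel s) := isCoh_X₃ _ hS cO cE
    -- the support of the cokernel
    have hclC : IsClosed (CohB1.support (cokernel s)) := Groth.Agent.S0020.result Z _ cC.2
    obtain ⟨D, hDne, hD⟩ := Groth.Agent.Lib.R2H1.InvHom.exists_open_stalk_cokernel hOi hEi s hs
    have hCne : CohB1.support (cokernel s) ≠ Set.univ := by
      obtain ⟨x, hx⟩ := hDne
      intro h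
      have hmem : x ∈ CohB1.support (cokernel s) := h ▸ Set.mem_univ x
      exact hmem (hD x hx)
    have hdimC : topologicalKrullDim (CohB1.support (cokernel s)) ≤ ((e : ℕ) : WithBot ℕ∞) := by
      have hirr : IsIrreducible (Set.univ : Set Z) := (IrreducibleSpace.isIrreducible_univ Z)
      have h1 := Groth.Agent.Lib.Helper8.Conn.dim_add_one_le_of_proper_closed hirr hclC
        (Set.subset_univ _) hCne ⟨ξ', hsupp⟩
      rw [dim_univ, hZ] at h1
      exact le_of_add_one_le _ _ h1
    -- the polynomials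
    have hLv : ∀ j : Fin (e + 1), PicF.IsInvertible
        ((Fin.cons (CohB1.tensorPow L (m + 1)) (fun _ => L) : Fin (e + 1) → Z.Modules) j) := by
      intro j
      induction j using Fin.cases with
      | zero => exact hEi
      | succ j => exact hL.1
    obtain ⟨P', -, hP'⟩ := s1528 k _ cO (e + 1) hsuppO (e + 1)
      (Fin.cons (CohB1.tensorPow L (m + 1)) (fun _ => L)) hLv
    obtain ⟨Q', -, hQ'⟩ := s1528 k _ cC e hdimC e (fun _ => L) (fun _ => hL.1)
    have key1 := coeff_ones_of_section k e (Fin.cons (CohB1.tensorPow L (m + 1)) (fun _ => L)) hLv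
      (cokernel s) s (cokernel.π s) (cokernel.condition s) hS cC hdimC hX' P' Q'
      (fun n => hP' n) (fun n => hQ' n)
    -- homogeneity
    have key2 : P' = scalePoly (Fin.cons ((m + 1 : ℕ) : ℚ) (fun _ => 1)) P := by
      refine eq_of_ev_eq _ _ fun n => ?_
      have h1 : ev n P' = fE k Z (e + 1) (Fin.cons (CohB1.tensorPow L (m + 1)) (fun _ => L))
          (Coh.structureModule Z) n := (hP' n).symm
      rw [h1, fE_scale k e m L hL.1, hP]
      unfold ev
      rw [eval_scalePoly]
      have hfun : (fun i => (((Fin.cons ((m + 1) * n 0) (fun j => n j.succ) :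
          Fin (e + 1) → ℕ) i : ℕ) : ℚ)) =
          fun i => (Fin.cons ((m + 1 : ℕ) : ℚ) (fun _ => 1) : Fin (e + 1) → ℚ) i * (n i : ℚ) := by
        funext i
        induction i using Fin.cases with
        | zero => simp
        | succ j => simp
      rw [hfun]
    have key3 : MvPolynomial.coeff (Finsupp.equivFunOnFinite.symm fun _ : Fin (e + 1) => 1) P' =
        ((m + 1 : ℕ) : ℚ) *
          MvPolynomial.coeff (Finsupp.equivFunOnFinite.symm fun _ : Fin (e + 1) => 1) P := by
      rw [key2, coeff_ones_scalePoly, Fin.prod_univ_succ]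
      simp
    -- the sum formula for the cokernel
    obtain ⟨Q, hQ⟩ := exists_Q k e L hL.1
    obtain ⟨T, hT1, hT2, hsum⟩ := coeff_ones_eq_sum k _ cC e hdimC (fun _ => L) (fun _ => hL.1) Q'
      (fun n => hQ' n) Q hQ
    -- positivity of the terms
    have hQpos : ∀ ξ ∈ T, 0 < MvPolynomial.coeff
        (Finsupp.equivFunOnFinite.symm fun _ : Fin e => 1) (Q ξ) := by
      intro ξ hξ
      obtain ⟨hdim, -, -⟩ := hT1 ξ hξ
      letI : (zI ξ).subscheme.Over (Spec (CommRingCat.of k)) :=
        ⟨(zI ξ).subschemeι ≫ (Z ↘ Spec (CommRingCat.of k))⟩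
      haveI : IsProper ((zI ξ).subscheme ↘ Spec (CommRingCat.of k)) :=
        inferInstanceAs (IsProper ((zI ξ).subschemeι ≫ (Z ↘ Spec (CommRingCat.of k))))
      haveI := isIntegral_zS ξ
      refine ih (zI ξ).subscheme ((dim_zS ξ).trans hdim)
        ((Scheme.Modules.pullback (zI ξ).subschemeι).obj L)
        (Groth.Agent.Lib.Helper23.PB.isAmple_pullback_of_isAffineHom _ L hL) (Q ξ) fun n => ?_
      rw [← hQ ξ hdim n]
      unfold fE
      rw [fE_quotMod_eq k (zI ξ) e (fun _ => L) (fun _ => hL.1) n]
    have hξT : ξ' ∈ T := by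
      refine hT2 ξ' hξ' ?_
      intro h0
      apply hsupp
      unfold lenE at h0
      rw [Module.length_eq_zero_iff] at h0
      exact h0
    have hsumpos : 0 < MvPolynomial.coeff
        (Finsupp.equivFunOnFinite.symm fun _ : Fin e => 1) Q' := by
      rw [hsum]
      refine Finset.sum_pos (fun ξ hξ => ?_) ⟨ξ', hξT⟩
      obtain ⟨-, h0, htop⟩ := hT1 ξ hξ
      have hnat : 0 < (lenE (cokernel s) ξ).toNat := by
        rw [Nat.pos_iff_ne_zero]
        intro hz
        rcases (ENat.toNat_eq_zero.1 hz) with h | h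
        · exact h0 h
        · exact htop h
      have : (0 : ℚ) < ((lenE (cokernel s) ξ).toNat : ℚ) := by exact_mod_cast hnat
      exact mul_pos this (hQpos ξ hξ)
    rw [← key1, key3] at hsumpos
    have hm : (0 : ℚ) < ((m + 1 : ℕ) : ℚ) := by exact_mod_cast Nat.succ_pos m
    exact (mul_pos_iff_of_pos_left hm).1 hsumpos

end Pos

end Groth.Agent.Lib.R2H4AmplePos
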