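import Mathlib
import Groth.Prelude
import Groth.Agent.Lib.R2H4AmplePos

/-! Positivity of the mixed intersection numbers of ample invertible modules (helper4, round 2). -/

set_option autoImplicit false
set_option linter.style.haveILetI false
set_option linter.unusedSectionVars false
universe u
open CategoryTheory CategoryTheory.Limits AlgebraicGeometry TopologicalSpace

noncomputable section

namespace Groth.Agent.Lib.R2H4AmplePosMixed

open Groth.Agent.Lib.R2H4NumPoly Groth.Agent.Lib.R2H4TensorPows Groth.Agent.Lib.R2H4Snapper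
  Groth.Agent.Lib.R2H4SnapperCor Groth.Agent.Lib.R2H4SnapperRef Groth.Agent.Lib.R2H4SnapperCartier
  Groth.Agent.Lib.R2H4SnapperGen Groth.Agent.Lib.R2H4AmpleSection Groth.Agent.Lib.R2H4PolyScale
  Groth.Agent.Lib.R2H4AmplePos

section Head

open Groth.Agent.Lib.R2H1.DegCartier

variable (k : Type u) [Field k] {X : Scheme.{u}} [X.Over (Spec (CommRingCat.of k))]

/-- replacing the first module by a power rescales the first exponent -/
theorem fE_scale' (e m : ℕ) (L : Fin (e + 1) → X.Modules) (hL : PicF.IsInvertible (L 0))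
    (F : X.Modules) (n : Fin (e + 1) → ℕ) :
    fE k X (e + 1) (Fin.cons (CohB1.tensorPow (L 0) (m + 1)) (fun j => L j.succ)) F n =
      fE k X (e + 1) L F (Fin.cons ((m + 1) * n 0) (fun j => n j.succ)) := by
  rw [fE_head, fE_head]
  obtain ⟨i⟩ := Groth.Agent.Lib.Helper23.SecTw.nonempty_tensorPow_tensorPow_iso (L 0) hL (m + 1)
    (n 0) ((m + 1) * n 0) rfl
  exact fE_congr k e (fun j => L j.succ) (tIso (Iso.refl F) i) (fun j => n j.succ)

end Head

section Pos

open Groth.Agent.Lib.R2H1.DegCartier

variable (k : Type u) [Field k]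

/-- the polynomials of the reduced closed subschemes -/
theorem exists_Q' {Z : Scheme.{u}} [Z.Over (Spec (CommRingCat.of k))]
    [IsProper (Z ↘ Spec (CommRingCat.of k))] (e : ℕ) (L : Fin e → Z.Modules)
    (hL : ∀ i, PicF.IsInvertible (L i)) :
    ∃ Q : Z → MvPolynomial (Fin e) ℚ, ∀ ξ : Z,
      topologicalKrullDim (closure ({ξ} : Set Z)) = ((e : ℕ) : WithBot ℕ∞) →
      ∀ n : Fin e → ℕ, fE k Z e L (ClSub.quotMod (zI ξ)) n = ev n (Q ξ) := by
  classical
  have hex : ∀ ξ : Z, ∃ Q : MvPolynomial (Fin e) ℚ,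
      topologicalKrullDim (closure ({ξ} : Set Z)) = ((e : ℕ) : WithBot ℕ∞) →
      ∀ n : Fin e → ℕ, fE k Z e L (ClSub.quotMod (zI ξ)) n = ev n Q := by
    intro ξ
    by_cases h : topologicalKrullDim (closure ({ξ} : Set Z)) = ((e : ℕ) : WithBot ℕ∞)
    · have hsupp : topologicalKrullDim (CohB1.support (ClSub.quotMod (zI ξ))) ≤
          ((e : ℕ) : WithBot ℕ∞) :=
        (Groth.Agent.Lib.Helper8.Conn.dim_mono (support_quotMod_zI ξ)).trans h.le
      obtain ⟨Q, -, hQ⟩ := s1528 k _ (isCoh_quotMod k (zI ξ)) e hsupp e L hL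
      exact ⟨Q, fun _ n => hQ n⟩
    · exact ⟨0, fun h' => absurd h' h⟩
  choose Q hQ using hex
  exact ⟨Q, hQ⟩

/-- **positivity of the mixed top intersection number of ample modules** on an integral proper
scheme -/
theorem posMixed (e : ℕ) : ∀ (Z : Scheme.{u}) [Z.Over (Spec (CommRingCat.of k))]
    [IsProper (Z ↘ Spec (CommRingCat.of k))] [IsIntegral Z],
    topologicalKrullDim Z = ((e : ℕ) : WithBot ℕ∞) → ∀ (L : Fin e → Z.Modules),
    (∀ i, CohB1.IsAmple (L i)) →
    ∀ P : MvPolynomial (Fin e) ℚ,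
      (∀ n : Fin e → ℕ, fE k Z e L (Coh.structureModule Z) n = ev n P) →
    0 < MvPolynomial.coeff (Finsupp.equivFunOnFinite.symm fun _ : Fin e => 1) P := by
  classical
  induction e with
  | zero =>
    intro Z _ _ _ hZ L hL P hP
    have := Groth.Agent.Lib.R2H1.CurveEuler.isNoetherian_of_proper k Z
    have cO : Coh.IsCoh (Coh.structureModule Z) :=
      Groth.Agent.Lib.R2H1.GenusLe.isCoh_structureModule Z
    have hsuppO : topologicalKrullDim (CohB1.support (Coh.structureModule Z)) ≤
        ((0 : ℕ) : WithBot ℕ∞) :=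
      (Topology.IsInducing.subtypeVal.topologicalKrullDim_le).trans hZ.le
    have hdeg : P.totalDegree ≤ 0 :=
      totalDegree_le_of_eval k _ cO 0 hsuppO 0 L (fun i => (hL i).1) P fun n => hP n
    rw [coeff_ones_eq P (by simpa using hdeg)]
    have huniv : (Finset.univ : Finset (Finset (Fin 0))) = {∅} := by
      ext t
      simp only [Finset.mem_univ, Finset.mem_singleton, true_iff]
      exact Finset.eq_empty_of_isEmpty t
    rw [huniv, Finset.sum_singleton]
    simp only [Fintype.card_fin, Finset.card_empty, Nat.sub_self, pow_zero, one_mul]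
    rw [← hP]
    have hpos := euler_structure_pos_of_dim_zero k (X := Z) (by rw [hZ]; exact le_rfl)
    unfold fE
    change (0 : ℚ) < ((Curv2.euler k Z (Coh.structureModule Z) : ℤ) : ℚ)
    exact_mod_cast hpos
  | succ e ih =>
    intro Z _ _ _ hZ L hL P hP
    have := Groth.Agent.Lib.R2H1.CurveEuler.isNoetherian_of_proper k Z
    have hOi : PicF.IsInvertible (Coh.structureModule Z) :=
      Groth.Agent.Lib.Helper23.TensorUnit.isInvertible_structureModule Z
    have cO : Coh.IsCoh (Coh.structureModule Z) :=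
      Groth.Agent.Lib.R2H1.GenusLe.isCoh_structureModule Z
    have hX' : topologicalKrullDim Z ≤ ((e + 1 : ℕ) : WithBot ℕ∞) := hZ.le
    have hsuppO : topologicalKrullDim (CohB1.support (Coh.structureModule Z)) ≤
        ((e + 1 : ℕ) : WithBot ℕ∞) :=
      (Topology.IsInducing.subtypeVal.topologicalKrullDim_le).trans hX'
    -- a point of dimension `e`
    obtain ⟨ξ', hξ'⟩ := exists_dim_closure_eq (T := Z) (e + 1) e hZ (Nat.le_succ e)
    have hne : closure ({ξ'} : Set Z) ≠ Set.univ := by
      intro h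
      have h2 : topologicalKrullDim (closure ({ξ'} : Set Z)) = topologicalKrullDim Z := by
        rw [h]; exact dim_univ
      rw [hξ', hZ] at h2
      have h3 : ((e : ℕ) : ℕ∞) = ((e + 1 : ℕ) : ℕ∞) := WithBot.coe_injective h2
      have h4 : e = e + 1 := by exact_mod_cast h3
      omega
    obtain ⟨m, s, hs, hsupp⟩ := exists_section_of_ample k (L 0) (hL 0) ξ' hne
    have hEi : PicF.IsInvertible (CohB1.tensorPow (L 0) (m + 1)) :=
      Groth.Agent.Lib.Helper23.SecTw.isInvertible_tensorPow (hL 0).1 _
    have cE : Coh.IsCoh (CohB1.tensorPow (L 0) (m + 1)) :=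
      Groth.Agent.Lib.R2H4SSDescent.isCoh_of_isInvertible _ hEi
    haveI : Mono s := Groth.Agent.Lib.R2H1.InvHom.mono_of_ne_zero hOi hEi s hs
    have hS : (ShortComplex.mk s (cokernel.π s) (cokernel.condition s)).ShortExact :=
      { exact := ShortComplex.exact_cokernel s
        mono_f := ‹Mono s›
        epi_g := inferInstanceAs (Epi (cokernel.π s)) }
    have cC : Coh.IsCoh (cokernel s) := isCoh_X₃ _ hS cO cE
    -- the support of the cokernel
    have hclC : IsClosed (CohB1.support (cokernel s)) := Groth.Agent.S0020.result Z _ cC.2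
    obtain ⟨D, hDne, hD⟩ := Groth.Agent.Lib.R2H1.InvHom.exists_open_stalk_cokernel hOi hEi s hs
    have hCne : CohB1.support (cokernel s) ≠ Set.univ := by
      obtain ⟨x, hx⟩ := hDne
      intro h
      have hmem : x ∈ CohB1.support (cokernel s) := h ▸ Set.mem_univ x
      exact hmem (hD x hx)
    have hdimC : topologicalKrullDim (CohB1.support (cokernel s)) ≤ ((e : ℕ) : WithBot ℕ∞) := by
      have hirr : IsIrreducible (Set.univ : Set Z) := (IrreducibleSpace.isIrreducible_univ Z)
      have h1 := Groth.Agent.Lib.Helper8.Conn.dim_add_one_le_of_proper_closed hirr hclC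
        (Set.subset_univ _) hCne ⟨ξ', hsupp⟩
      rw [dim_univ, hZ] at h1
      exact le_of_add_one_le _ _ h1
    -- the polynomials
    have hLv : ∀ j : Fin (e + 1), PicF.IsInvertible
        ((Fin.cons (CohB1.tensorPow (L 0) (m + 1)) (fun j => L j.succ) :
          Fin (e + 1) → Z.Modules) j) := by
      intro j
      induction j using Fin.cases with
      | zero => exact hEi
      | succ j => exact (hL j.succ).1
    obtain ⟨P', -, hP'⟩ := s1528 k _ cO (e + 1) hsuppO (e + 1)
      (Fin.cons (CohB1.tensorPow (L 0) (m + 1)) (fun j => L j.succ)) hLv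
    obtain ⟨Q', -, hQ'⟩ := s1528 k _ cC e hdimC e (fun j => L j.succ) (fun j => (hL j.succ).1)
    have key1 := coeff_ones_of_section k e
      (Fin.cons (CohB1.tensorPow (L 0) (m + 1)) (fun j => L j.succ)) hLv
      (cokernel s) s (cokernel.π s) (cokernel.condition s) hS cC hdimC hX' P' Q'
      (fun n => hP' n) (fun n => hQ' n)
    -- homogeneity
    have key2 : P' = scalePoly (Fin.cons ((m + 1 : ℕ) : ℚ) (fun _ => 1)) P := by
      refine eq_of_ev_eq _ _ fun n => ?_
      have h1 : ev n P' = fE k Z (e + 1)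
          (Fin.cons (CohB1.tensorPow (L 0) (m + 1)) (fun j => L j.succ))
          (Coh.structureModule Z) n := (hP' n).symm
      rw [h1, fE_scale' k e m L (hL 0).1, hP]
      unfold ev
      rw [eval_scalePoly]
      have hfun : (fun i => (((Fin.cons ((m + 1) * n 0) (fun j => n j.succ) :
          Fin (e + 1) → ℕ) i : ℕ) : ℚ)) =
          fun i => (Fin.cons ((m + 1 : ℕ) : ℚ) (fun _ => 1) : Fin (e + 1) → ℚ) i * (n i : ℚ) := by
        funext i
        induction i using Fin.cases with
        | zero => simp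
        | succ j => simp
      rw [hfun]
    have key3 : MvPolynomial.coeff (Finsupp.equivFunOnFinite.symm fun _ : Fin (e + 1) => 1) P' =
        ((m + 1 : ℕ) : ℚ) *
          MvPolynomial.coeff (Finsupp.equivFunOnFinite.symm fun _ : Fin (e + 1) => 1) P := by
      rw [key2, coeff_ones_scalePoly, Fin.prod_univ_succ]
      simp
    -- the sum formula for the cokernel
    obtain ⟨Q, hQ⟩ := exists_Q' k e (fun j => L j.succ) (fun j => (hL j.succ).1)
    obtain ⟨T, hT1, hT2, hsum⟩ := coeff_ones_eq_sum k _ cC e hdimC (fun j => L j.succ)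
      (fun j => (hL j.succ).1) Q' (fun n => hQ' n) Q hQ
    -- positivity of the terms
    have hQpos : ∀ ξ ∈ T, 0 < MvPolynomial.coeff
        (Finsupp.equivFunOnFinite.symm fun _ : Fin e => 1) (Q ξ) := by
      intro ξ hξ
      obtain ⟨hdim, -, -⟩ := hT1 ξ hξ
      letI : (zI ξ).subscheme.Over (Spec (CommRingCat.of k)) :=
        ⟨(zI ξ).subschemeι ≫ (Z ↘ Spec (CommRingCat.of k))⟩
      haveI : IsProper ((zI ξ).subscheme ↘ Spec (CommRingCat.of k)) :=
        inferInstanceAs (IsProper ((zI ξ).subschemeι ≫ (Z ↘ Spec (CommRingCat.of k))))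
      haveI := isIntegral_zS ξ
      refine ih (zI ξ).subscheme ((dim_zS ξ).trans hdim)
        (fun j => (Scheme.Modules.pullback (zI ξ).subschemeι).obj (L j.succ))
        (fun j => Groth.Agent.Lib.Helper23.PB.isAmple_pullback_of_isAffineHom _ _ (hL j.succ))
        (Q ξ) fun n => ?_
      rw [← hQ ξ hdim n]
      unfold fE
      rw [fE_quotMod_eq k (zI ξ) e (fun j => L j.succ) (fun j => (hL j.succ).1) n]
    have hξT : ξ' ∈ T := by
      refine hT2 ξ' hξ' ?_
      intro h0
      apply hsupp
      unfold lenE at h0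
      rw [Module.length_eq_zero_iff] at h0
      exact h0
    have hsumpos : 0 < MvPolynomial.coeff
        (Finsupp.equivFunOnFinite.symm fun _ : Fin e => 1) Q' := by
      rw [hsum]
      refine Finset.sum_pos (fun ξ hξ => ?_) ⟨ξ', hξT⟩
      obtain ⟨-, h0, htop⟩ := hT1 ξ hξ
      have hnat : 0 < (lenE (cokernel s) ξ).toNat := by
        rw [Nat.pos_iff_ne_zero]
        intro hz
        rcases (ENat.toNat_eq_zero.1 hz) with h | h
        · exact h0 h
        · exact htop h
      have : (0 : ℚ) < ((lenE (cokernel s) ξ).toNat : ℚ) := by exact_mod_cast hnat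
      exact mul_pos this (hQpos ξ hξ)
    rw [← key1, key3] at hsumpos
    have hm : (0 : ℚ) < ((m + 1 : ℕ) : ℚ) := by exact_mod_cast Nat.succ_pos m
    exact (mul_pos_iff_of_pos_left hm).1 hsumpos

end Pos

end Groth.Agent.Lib.R2H4AmplePosMixed
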