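import Mathlib
import Groth.Prelude
import Groth.Agent.Lib.R2H4AmplePosMixed
import Groth.Agent.Lib.R2H4FGASnapper
import Groth.Agent.Lib.Helper2TensorInv
import Groth.Agent.Lib.R2H4SerreSupp
import Groth.Agent.Lib.H6xSuppPush

/-! Positivity of the `FGA` intersection numbers of ample modules against a coherent module whose
support has the right dimension (helper4, round 2). -/

set_option autoImplicit false
set_option linter.style.haveILetI false
set_option linter.unusedSectionVars false
universe u
open CategoryTheory CategoryTheory.Limits AlgebraicGeometry TopologicalSpace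

noncomputable section

namespace Groth.Agent.Lib.R2H4FGAPos

open Groth.Agent.Lib.R2H4NumPoly Groth.Agent.Lib.R2H4TensorPows Groth.Agent.Lib.R2H4Snapper
  Groth.Agent.Lib.R2H4SnapperCor Groth.Agent.Lib.R2H4SnapperRef Groth.Agent.Lib.R2H4SnapperCartier
  Groth.Agent.Lib.R2H4SnapperGen Groth.Agent.Lib.R2H4AmpleSection Groth.Agent.Lib.R2H4PolyScale
  Groth.Agent.Lib.R2H4AmplePos Groth.Agent.Lib.R2H4AmplePosMixed Groth.Agent.Lib.R2H4FGASnapper
  Groth.Agent.Lib.R2H1.DegCartier

section Iso

variable {X : Scheme.{u}}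

/-- `F ⊗ M^I ≅ (F ⊗ M_1 ⊗ ⋯ ⊗ M_r) ⊗ L^{Iᶜ}` when the `L_i` are inverse to the `M_i` -/
theorem nonempty_iso_compl (F : X.Modules) :
    ∀ (r : ℕ) (L M : Fin r → X.Modules)
      (_ : ∀ i, Nonempty (CohB1.tensorMod (L i) (M i) ≅ Coh.structureModule X))
      (p : Fin r → Prop) [DecidablePred p],
      Nonempty (Curv2.tensorPows F r M (fun i => if p i then 1 else 0) ≅
        Curv2.tensorPows (Curv2.tensorPows F r M (fun _ => 1)) r L
          (fun i => if p i then 0 else 1))
  | 0, _, _, _, _, _ => ⟨Iso.refl _⟩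
  | r + 1, L, M, e, p, _ => by
    obtain ⟨i⟩ := nonempty_iso_compl F r (fun j => L j.castSucc) (fun j => M j.castSucc)
      (fun j => e j.castSucc) (fun j => p j.castSucc)
    obtain ⟨el⟩ := e (Fin.last r)
    set Y := Curv2.tensorPows F r (fun j => M j.castSucc)
      (fun j => if p j.castSucc then 1 else 0) with hY
    set G := Curv2.tensorPows F r (fun j => M j.castSucc) (fun _ => 1) with hG
    set A := CohB1.tensorPow (M (Fin.last r)) 1 with hA
    have o := powsOut G A r (fun j => L j.castSucc) (fun j => if p j.castSucc then 0 else 1)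
    -- the right hand side
    have hR : Curv2.tensorPows (Curv2.tensorPows F (r + 1) M (fun _ => 1)) (r + 1) L
        (fun i => if p i then 0 else 1) =
        CohB1.tensorMod (Curv2.tensorPows (CohB1.tensorMod G A) r (fun j => L j.castSucc)
          (fun j => if p j.castSucc then 0 else 1))
          (CohB1.tensorPow (L (Fin.last r)) (if p (Fin.last r) then 0 else 1)) := rfl
    have hLs : Curv2.tensorPows F (r + 1) M (fun i => if p i then 1 else 0) =
        CohB1.tensorMod Y (CohB1.tensorPow (M (Fin.last r)) (if p (Fin.last r) then 1 else 0)) :=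
      rfl
    rw [hR, hLs]
    by_cases hp : p (Fin.last r)
    · rw [if_pos hp, if_pos hp]
      exact ⟨(rUnit _).symm ≪≫ tIso (tIso i (Iso.refl A) ≪≫ o.symm) (Iso.refl _)⟩
    · rw [if_neg hp, if_neg hp]
      -- `A ⊗ L_last^1 ≅ O`
      have u : CohB1.tensorMod A (CohB1.tensorPow (L (Fin.last r)) 1) ≅ Coh.structureModule X :=
        tIso (lUnit _) (lUnit _) ≪≫ tComm _ _ ≪≫ el
      exact ⟨tIso (Iso.refl Y) u.symm ≪≫ (tAssoc Y A _).symm ≪≫
        tIso (tIso i (Iso.refl A) ≪≫ o.symm) (Iso.refl _)⟩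

/-- `F ⊗ M^0 ≅ F` -/
def powsZero (F : X.Modules) :
    ∀ (r : ℕ) (M : Fin r → X.Modules), Curv2.tensorPows F r M (fun _ => 0) ≅ F
  | 0, _ => Iso.refl _
  | r + 1, M => rUnit _ ≪≫ powsZero F r (fun j => M j.castSucc)

theorem support_pows_subset (F : X.Modules) (r : ℕ) (M : Fin r → X.Modules)
    (hM : ∀ i, PicF.IsInvertible (M i)) (n : Fin r → ℕ) :
    CohB1.support (Curv2.tensorPows F r M n) ⊆ CohB1.support F := by
  rw [Groth.Agent.Lib.H6xSuppPush.support_eq_of_iso (powsIsoTensor F r M n),
    Groth.Agent.Lib.H6xSuppPush.support_eq_of_iso (tComm _ F)]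
  exact support_tensor_subset F _
    (isInvertible_pows _ (Groth.Agent.Lib.Helper23.TensorUnit.isInvertible_structureModule X)
      r M hM n)

end Iso

section Pos

variable (k : Type u) [Field k] {X : Scheme.{u}} [X.Over (Spec (CommRingCat.of k))]
  [IsProper (X ↘ Spec (CommRingCat.of k))]

theorem dim_closure_subtype {T : Type u} [TopologicalSpace T] (S : Set T) (hS : IsClosed S)
    (t : S) :
    topologicalKrullDim (closure ({t} : Set S)) =
      topologicalKrullDim (closure ({(t : T)} : Set T)) := by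
  have hemb : Topology.IsClosedEmbedding (Subtype.val : S → T) := hS.isClosedEmbedding_subtypeVal
  have h1 : closure ({(t : T)} : Set T) = Subtype.val '' (closure ({t} : Set S)) := by
    rw [← hemb.closure_image_eq, Set.image_singleton]
  rw [h1]
  exact IsHomeomorph.topologicalKrullDim_eq _
    (hemb.isEmbedding.homeomorphImage (closure ({t} : Set S))).isHomeomorph

/-- positivity for coherent modules -/
theorem pos_coh (r : ℕ) (L : Fin r → X.Modules) (hL : ∀ i, CohB1.IsAmple (L i))
    (F : X.Modules) (hF : Coh.IsCoh F)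
    (hr : topologicalKrullDim (CohB1.support F) = ((r : ℕ) : WithBot ℕ∞))
    (P : MvPolynomial (Fin r) ℚ) (hP : ∀ n : Fin r → ℕ, fE k X r L F n = ev n P) :
    0 < MvPolynomial.coeff (Finsupp.equivFunOnFinite.symm fun _ : Fin r => 1) P := by
  classical
  have := Groth.Agent.Lib.R2H1.CurveEuler.isNoetherian_of_proper k X
  have hcl : IsClosed (CohB1.support F) := Groth.Agent.S0020.result X F hF.2
  obtain ⟨Q, hQ⟩ := exists_Q' k r L (fun j => (hL j).1)
  obtain ⟨T, hT1, hT2, hsum⟩ := coeff_ones_eq_sum k F hF r hr.le L (fun j => (hL j).1) P hP Q hQ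
  -- a point of dimension `r` in the support
  haveI : QuasiSober ↥(CohB1.support F) := hcl.isClosedEmbedding_subtypeVal.quasiSober
  obtain ⟨t, ht⟩ := exists_dim_closure_eq (T := ↥(CohB1.support F)) r r hr le_rfl
  rw [dim_closure_subtype _ hcl t] at ht
  have htT : (t : X) ∈ T := by
    refine hT2 _ ht ?_
    intro h0
    apply t.2
    unfold lenE at h0
    rw [Module.length_eq_zero_iff] at h0
    exact h0
  have hQpos : ∀ ξ ∈ T, 0 < MvPolynomial.coeff
      (Finsupp.equivFunOnFinite.symm fun _ : Fin r => 1) (Q ξ) := by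
    intro ξ hξ
    obtain ⟨hdim, -, -⟩ := hT1 ξ hξ
    letI : (zI ξ).subscheme.Over (Spec (CommRingCat.of k)) :=
      ⟨(zI ξ).subschemeι ≫ (X ↘ Spec (CommRingCat.of k))⟩
    haveI : IsProper ((zI ξ).subscheme ↘ Spec (CommRingCat.of k)) :=
      inferInstanceAs (IsProper ((zI ξ).subschemeι ≫ (X ↘ Spec (CommRingCat.of k))))
    haveI := isIntegral_zS ξ
    refine posMixed k r (zI ξ).subscheme ((dim_zS ξ).trans hdim)
      (fun j => (Scheme.Modules.pullback (zI ξ).subschemeι).obj (L j))
      (fun j => Groth.Agent.Lib.Helper23.PB.isAmple_pullback_of_isAffineHom _ _ (hL j))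
      (Q ξ) fun n => ?_
    rw [← hQ ξ hdim n]
    unfold fE
    rw [fE_quotMod_eq k (zI ξ) r L (fun j => (hL j).1) n]
  rw [hsum]
  refine Finset.sum_pos (fun ξ hξ => ?_) ⟨t, htT⟩
  obtain ⟨-, h0, htop⟩ := hT1 ξ hξ
  have hnat : 0 < (lenE F ξ).toNat := by
    rw [Nat.pos_iff_ne_zero]
    intro hz
    rcases (ENat.toNat_eq_zero.1 hz) with h | h
    · exact h0 h
    · exact htop h
  have : (0 : ℚ) < ((lenE F ξ).toNat : ℚ) := by exact_mod_cast hnat
  exact mul_pos this (hQpos ξ hξ)

/-- S3233 -/
theorem s3233 (d : ℕ) (hd : topologicalKrullDim X ≤ d) {r : ℕ} (L M : Fin r → X.Modules)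
    (hL : ∀ i, CohB1.IsAmple (L i))
    (hLM : ∀ i, Nonempty (CohB1.tensorMod (L i) (M i) ≅ Coh.structureModule X))
    (F : X.Modules) (hF : Coh.IsCoh F) (hr : topologicalKrullDim (CohB1.support F) = r) :
    0 < FGA.intNum k X d M F := by
  classical
  have := Groth.Agent.Lib.R2H1.CurveEuler.isNoetherian_of_proper k X
  have hM : ∀ i, PicF.IsInvertible (M i) := fun i => by
    obtain ⟨e⟩ := hLM i
    exact Groth.Agent.Lib.Helper2.TensorInv.isInvertible_of_tensor_iso (M i) (L i)
      (tComm _ _ ≪≫ e)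
  have hLi : ∀ i, PicF.IsInvertible (L i) := fun i => (hL i).1
  set G := Curv2.tensorPows F r M (fun _ => 1) with hG
  -- `G` is coherent with the same support
  have hGiso : G ≅ CohB1.tensorMod (Curv2.tensorPows (Coh.structureModule X) r M (fun _ => 1)) F :=
    powsIsoTensor F r M (fun _ => 1)
  have hEi : PicF.IsInvertible (Curv2.tensorPows (Coh.structureModule X) r M (fun _ => 1)) :=
    isInvertible_pows _ (Groth.Agent.Lib.Helper23.TensorUnit.isInvertible_structureModule X)
      r M hM _
  have cG : Coh.IsCoh G :=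
    Groth.Agent.Lib.R2H4SerreSupp.isCoh_of_iso hGiso.symm
      (Groth.Agent.Lib.R2H4SSDescent.isCoh_tensorMod _ _
        (Groth.Agent.Lib.R2H4SSDescent.isCoh_of_isInvertible _ hEi) hF)
  have hsuppG : CohB1.support G = CohB1.support F := by
    refine le_antisymm (support_pows_subset F r M hM _) ?_
    obtain ⟨i⟩ := nonempty_iso_compl F r L M hLM (fun _ => False)
    simp only [if_false] at i
    rw [← Groth.Agent.Lib.H6xSuppPush.support_eq_of_iso (powsZero F r M),
      Groth.Agent.Lib.H6xSuppPush.support_eq_of_iso i]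
    exact support_pows_subset G r L hLi _
  have hrG : topologicalKrullDim (CohB1.support G) = ((r : ℕ) : WithBot ℕ∞) := by
    rw [hsuppG]; exact hr
  obtain ⟨P, hPdeg, hP⟩ := s1528 k G cG r hrG.le r L hLi
  have hpos := pos_coh k r L hL G cG hrG P (fun n => hP n)
  rw [coeff_ones_eq P (by simpa using hPdeg)] at hpos
  have h := intNum_eq k d hd M F
  have hterm : ∀ I : Finset (Fin r), fE k X r M F (ind I) = fE k X r L G (ind Iᶜ) := by
    intro I
    obtain ⟨i⟩ := nonempty_iso_compl F r L M hLM (fun j => j ∈ I)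
    have h1 : (ind I : Fin r → ℕ) = fun j => if j ∈ I then 1 else 0 := by
      funext j; simp [ind]
    have h2 : (ind Iᶜ : Fin r → ℕ) = fun j => if j ∈ I then 0 else 1 := by
      funext j
      by_cases hj : j ∈ I <;> simp [ind, hj]
    rw [h1, h2]
    unfold fE
    rw [euler_congr k i]
  have hsum : ∑ I : Finset (Fin r), (-1 : ℚ) ^ I.card * fE k X r M F (ind I) =
      ∑ t : Finset (Fin r), (-1 : ℚ) ^ (Fintype.card (Fin r) - t.card) * ev (ind t) P := by
    refine Fintype.sum_equiv (Function.Involutive.toPerm compl compl_involutive) _ _ fun I => ?_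
    simp only [Function.Involutive.coe_toPerm]
    have hc : Fintype.card (Fin r) - Iᶜ.card = I.card := by
      rw [Finset.card_compl]
      have := Finset.card_le_univ I
      omega
    rw [hc, hterm I]
    congr 1
    exact hP _
  rw [hsum] at h
  have : (0 : ℚ) < (FGA.intNum k X d M F : ℚ) := by rw [h]; exact hpos
  exact_mod_cast this

end Pos

end Groth.Agent.Lib.R2H4FGAPos
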