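import Mathlib
import Groth.Prelude
import Groth.Agent.Lib.R2H4FGAAdd
import Groth.Agent.Lib.R2H4FGAPos
import Groth.Agent.Lib.R2H1GenusZero
import Groth.Agent.Lib.R2H1InvHom
import Groth.Agent.Lib.Helper23AmpleIso
import Groth.Agent.Lib.Helper23TensorUnit

/-!
# Positivity of `(N · H)` on a surface for `N` with sections and positive self-intersection
(helper4, round 2)
-/

set_option autoImplicit false
set_option linter.style.haveILetI false
universe u
open CategoryTheory CategoryTheory.Limits AlgebraicGeometry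

noncomputable section

namespace Groth.Agent.Lib.R2H4SurfPos

open Groth.Agent.Lib.R2H4TensorPows Groth.Agent.Lib.R2H4NumPoly Groth.Agent.Lib.R2H4FGABridge
  Groth.Agent.Lib.R2H1.DegCartier Groth.Agent.Lib.R2H4FGASnapper Groth.Agent.Lib.R2H4FGAAdd
  Groth.Agent.Lib.R2H4FGAPos

variable (k : Type u) [Field k] {X : Scheme.{u}} [X.Over (Spec (CommRingCat.of k))]
  [IsProper (X ↘ Spec (CommRingCat.of k))]

/-- additivity of the intersection numbers in short exact sequences -/
theorem intNum_add (d : ℕ) (hd : topologicalKrullDim X ≤ d) {r : ℕ} (M : Fin r → X.Modules)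
    (hM : ∀ i, PicF.IsInvertible (M i)) (S : ShortComplex X.Modules) (hS : S.ShortExact)
    (c₁ : Coh.IsCoh S.X₁) (c₂ : Coh.IsCoh S.X₂) (c₃ : Coh.IsCoh S.X₃) :
    FGA.intNum k X d M S.X₂ = FGA.intNum k X d M S.X₁ + FGA.intNum k X d M S.X₃ := by
  have h : (FGA.intNum k X d M S.X₂ : ℚ) = FGA.intNum k X d M S.X₁ + FGA.intNum k X d M S.X₃ := by
    rw [intNum_eq k d hd, intNum_eq k d hd, intNum_eq k d hd, ← Finset.sum_add_distrib]
    refine Finset.sum_congr rfl fun s _ => ?_
    rw [fE_add k r M hM S hS c₁ c₂ c₃]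
    ring
  exact_mod_cast h

/-- symmetry of the two-fold intersection number -/
theorem intNum_swap (d : ℕ) (hd : topologicalKrullDim X ≤ d) (A B F : X.Modules) :
    FGA.intNum k X d (Fin.cons A (Fin.cons B (Fin.elim0 : Fin 0 → X.Modules)) : Fin 2 → X.Modules) F =
      FGA.intNum k X d (Fin.cons B (Fin.cons A (Fin.elim0 : Fin 0 → X.Modules)) : Fin 2 → X.Modules) F := by
  have h : (FGA.intNum k X d
      (Fin.cons A (Fin.cons B (Fin.elim0 : Fin 0 → X.Modules)) : Fin 2 → X.Modules) F : ℚ) =
      FGA.intNum k X d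
        (Fin.cons B (Fin.cons A (Fin.elim0 : Fin 0 → X.Modules)) : Fin 2 → X.Modules) F := by
    rw [intNum_cons k d hd, intNum_cons k d hd, intNum_cons k d hd, intNum_cons k d hd,
      intNum_cons k d hd, intNum_cons k d hd]
    have := intNum_congr k d hd (Fin.elim0 : Fin 0 → X.Modules) (swapR F A B)
    rw [this]
    ring
  exact_mod_cast h

/-- `(A^n · M) = n (A · M)` -/
theorem intNum_pow_cons (d : ℕ) (hd : topologicalKrullDim X ≤ d) {r : ℕ} (M : Fin r → X.Modules)
    (hM : ∀ i, PicF.IsInvertible (M i)) (A : X.Modules) (hA : PicF.IsInvertible A)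
    (F : X.Modules) (hF : Coh.IsCoh F)
    (hr : topologicalKrullDim (CohB1.support F) ≤ (r + 1 : ℕ)) :
    ∀ n : ℕ, FGA.intNum k X d (Fin.cons (CohB1.tensorPow A n) M : Fin (r + 1) → X.Modules) F =
      n * FGA.intNum k X d (Fin.cons A M : Fin (r + 1) → X.Modules) F
  | 0 => by
    have h : (FGA.intNum k X d
        (Fin.cons (CohB1.tensorPow A 0) M : Fin (r + 1) → X.Modules) F : ℚ) = 0 := by
      rw [intNum_cons k d hd]
      have : FGA.intNum k X d M (CohB1.tensorMod F (CohB1.tensorPow A 0)) =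
          FGA.intNum k X d M F := intNum_congr k d hd M (rUnit F)
      rw [this]
      ring
    have h' : FGA.intNum k X d
        (Fin.cons (CohB1.tensorPow A 0) M : Fin (r + 1) → X.Modules) F = 0 := by exact_mod_cast h
    rw [h']
    simp
  | n + 1 => by
    have ih := intNum_pow_cons d hd M hM A hA F hF hr n
    have h := s3232 k d hd M hM (CohB1.tensorPow A n) A
      (Groth.Agent.Lib.Helper23.SecTw.isInvertible_tensorPow hA n) hA F hF hr
    have h' : FGA.intNum k X d
        (Fin.cons (CohB1.tensorPow A (n + 1)) M : Fin (r + 1) → X.Modules) F =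
        FGA.intNum k X d (Fin.cons (CohB1.tensorPow A n) M : Fin (r + 1) → X.Modules) F +
          FGA.intNum k X d (Fin.cons A M : Fin (r + 1) → X.Modules) F := h
    rw [h', ih]
    push_cast
    ring

theorem dim_eq_one (δ : WithBot ℕ∞) (h2 : δ ≤ ((2 : ℕ) : WithBot ℕ∞))
    (hne : δ ≠ ((2 : ℕ) : WithBot ℕ∞)) (h1 : ¬ δ < ((1 : ℕ) : WithBot ℕ∞)) :
    δ = ((1 : ℕ) : WithBot ℕ∞) := by
  induction δ using WithBot.recBotCoe with
  | bot => exact absurd (WithBot.bot_lt_coe _) h1
  | coe a =>
    induction a using ENat.recTopCoe with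
    | top =>
      exfalso
      have : ((⊤ : ℕ∞) : WithBot ℕ∞) ≤ (((2 : ℕ) : ℕ∞) : WithBot ℕ∞) := h2
      rw [WithBot.coe_le_coe] at this
      exact absurd this (not_le.2 (ENat.natCast_lt_top 2))
    | coe m =>
      have h2' : (((m : ℕ) : ℕ∞) : WithBot ℕ∞) ≤ (((2 : ℕ) : ℕ∞) : WithBot ℕ∞) := h2
      rw [WithBot.coe_le_coe, Nat.cast_le] at h2'
      have hne' : m ≠ 2 := fun h => hne (by rw [h]; rfl)
      have h1' : ¬ m < 1 := fun h => h1 (by
        change (((m : ℕ) : ℕ∞) : WithBot ℕ∞) < (((1 : ℕ) : ℕ∞) : WithBot ℕ∞)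
        rw [WithBot.coe_lt_coe, Nat.cast_lt]
        exact h)
      have : m = 1 := by omega
      rw [this]
      rfl

/-- S11752 -/
theorem s11752 [IsIntegral X] (hdim : topologicalKrullDim X = 2)
    (N N' : X.Modules) (hN : PicF.IsInvertible N)
    (hNN' : Nonempty (CohB1.tensorMod N N' ≅ Coh.structureModule X))
    (hpos : 0 < FGA.intNum k X 2
      (Fin.cons N' (Fin.cons N' (Fin.elim0 : Fin 0 → X.Modules)) : Fin 2 → X.Modules)
      (Coh.structureModule X))
    (hsec : ∃ n : ℕ, 0 < n ∧ Nontrivial (Coh.HH X (CohB1.tensorPow N n) 0))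
    (H H' : X.Modules) (hH : CohB1.IsAmple H)
    (hHH' : Nonempty (CohB1.tensorMod H H' ≅ Coh.structureModule X)) :
    0 < FGA.intNum k X 2
      (Fin.cons N' (Fin.cons H' (Fin.elim0 : Fin 0 → X.Modules)) : Fin 2 → X.Modules)
      (Coh.structureModule X) := by
  classical
  haveI := Groth.Agent.Lib.R2H1.CurveEuler.isNoetherian_of_proper k X
  obtain ⟨e₀⟩ := hNN'
  obtain ⟨eH⟩ := hHH'
  obtain ⟨n, hn, hnt⟩ := hsec
  have hd : topologicalKrullDim X ≤ ((2 : ℕ) : WithBot ℕ∞) := hdim.le
  have hN' : PicF.IsInvertible N' :=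
    Groth.Agent.Lib.Helper2.TensorInv.isInvertible_of_tensor_iso N' N (tComm _ _ ≪≫ e₀)
  have hH' : PicF.IsInvertible H' :=
    Groth.Agent.Lib.Helper2.TensorInv.isInvertible_of_tensor_iso H' H (tComm _ _ ≪≫ eH)
  have hO : PicF.IsInvertible (Coh.structureModule X) :=
    Groth.Agent.Lib.Helper23.TensorUnit.isInvertible_structureModule X
  have cO : Coh.IsCoh (Coh.structureModule X) :=
    Groth.Agent.Lib.R2H4SSDescent.isCoh_of_isInvertible _ hO
  set L := CohB1.tensorPow N n with hLdef
  set L' := CohB1.tensorPow N' n with hL'def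
  have hL : PicF.IsInvertible L := Groth.Agent.Lib.Helper23.SecTw.isInvertible_tensorPow hN n
  have hL' : PicF.IsInvertible L' := Groth.Agent.Lib.Helper23.SecTw.isInvertible_tensorPow hN' n
  have cL : Coh.IsCoh L := Groth.Agent.Lib.R2H4SSDescent.isCoh_of_isInvertible _ hL
  have cL' : Coh.IsCoh L' := Groth.Agent.Lib.R2H4SSDescent.isCoh_of_isInvertible _ hL'
  obtain ⟨e₁⟩ := Groth.Agent.Lib.Helper23.SecTw.nonempty_tensorPow_tensorMod_iso N' N hN' hN n
  have eL : CohB1.tensorMod L' L ≅ Coh.structureModule X :=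
    e₁ ≪≫ Groth.Agent.Lib.Helper23.AmpleIso.tensorPowIso (tComm N' N ≪≫ e₀) n ≪≫
      Groth.Agent.Lib.Helper23.TensorUnit.tensorPowUnitIso n
  -- a nonzero section
  haveI : Module.Finite k (Coh.HH X L 0) := Groth.Agent.Lib.R2H1.EulerAdd.finite_HH k X L cL 0
  have hfr : 0 < Module.finrank k (Coh.HH X L 0) := Module.finrank_pos
  obtain ⟨s, hs⟩ := Groth.Agent.Lib.R2H1.GenusZero.exists_section_of_pos k X L cL hfr
  haveI : Mono s := Groth.Agent.Lib.R2H1.InvHom.mono_of_ne_zero hO hL s hs
  let S₀ : ShortComplex X.Modules := ShortComplex.mk s (cokernel.π s) (cokernel.condition s)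
  have hS₀ : S₀.ShortExact :=
    { exact := ShortComplex.exact_cokernel s
      mono_f := inferInstanceAs (Mono s)
      epi_g := inferInstanceAs (Epi (cokernel.π s)) }
  have cQ : Coh.IsCoh (cokernel s) := Groth.Agent.Lib.R2H2.NilFilt.isCoh_cokernel cO cL s
  have hS₁ := Groth.Agent.Lib.R2Lead.TensorExact.shortExact_map_tensorBi_of_isInvertible L' hL'
    S₀ hS₀
  set Q' := CohB1.tensorMod L' (cokernel s) with hQ'
  have cQ' : Coh.IsCoh Q' := Groth.Agent.Lib.R2H4SSDescent.isCoh_tensorMod _ _ cL' cQ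
  have c₁ : Coh.IsCoh (CohB1.tensorMod L' (Coh.structureModule X)) :=
    Groth.Agent.Lib.R2H4SSDescent.isCoh_tensorMod _ _ cL' cO
  have c₂ : Coh.IsCoh (CohB1.tensorMod L' L) :=
    Groth.Agent.Lib.R2H4SSDescent.isCoh_tensorMod _ _ cL' cL
  -- the basic relation
  have key : ∀ {r : ℕ} (M : Fin r → X.Modules), (∀ i, PicF.IsInvertible (M i)) →
      FGA.intNum k X 2 M (Coh.structureModule X) =
        FGA.intNum k X 2 M L' + FGA.intNum k X 2 M Q' := by
    intro r M hM
    have h := intNum_add k 2 hd M hM _ hS₁ c₁ c₂ cQ'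
    have h1 : FGA.intNum k X 2 M (CohB1.tensorMod L' L) =
        FGA.intNum k X 2 M (Coh.structureModule X) := intNum_congr k 2 hd M eL
    have h2 : FGA.intNum k X 2 M (CohB1.tensorMod L' (Coh.structureModule X)) =
        FGA.intNum k X 2 M L' := intNum_congr k 2 hd M (rUnit L')
    rw [← h1, ← h2]
    exact h
  have hI : ∀ {r : ℕ} (M : Fin r → X.Modules), (∀ i, PicF.IsInvertible (M i)) →
      FGA.intNum k X 2 (Fin.cons L' M : Fin (r + 1) → X.Modules) (Coh.structureModule X) =
        FGA.intNum k X 2 M Q' := by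
    intro r M hM
    have h : (FGA.intNum k X 2 (Fin.cons L' M : Fin (r + 1) → X.Modules)
        (Coh.structureModule X) : ℚ) = FGA.intNum k X 2 M Q' := by
      rw [intNum_cons k 2 hd]
      have h2 : FGA.intNum k X 2 M (CohB1.tensorMod (Coh.structureModule X) L') =
          FGA.intNum k X 2 M L' := intNum_congr k 2 hd M (lUnit L')
      rw [h2, key M hM]
      push_cast
      ring
    exact_mod_cast h
  -- families
  have hinv1 : ∀ A : X.Modules, PicF.IsInvertible A → ∀ i,
      PicF.IsInvertible ((Fin.cons A (Fin.elim0 : Fin 0 → X.Modules) : Fin 1 → X.Modules) i) := by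
    intro A hA i
    induction i using Fin.cases with
    | zero => simpa using hA
    | succ j => exact j.elim0
  have hinv2 : ∀ A B : X.Modules, PicF.IsInvertible A → PicF.IsInvertible B → ∀ i,
      PicF.IsInvertible ((Fin.cons A (Fin.cons B (Fin.elim0 : Fin 0 → X.Modules)) :
        Fin 2 → X.Modules) i) := by
    intro A B hA hB i
    induction i using Fin.cases with
    | zero => simpa using hA
    | succ j => simpa using hinv1 B hB j
  have hsuppO : topologicalKrullDim (CohB1.support (Coh.structureModule X)) ≤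
      ((1 + 1 : ℕ) : WithBot ℕ∞) :=
    (Topology.IsInducing.subtypeVal).topologicalKrullDim_le.trans hd
  have hII : ∀ A : X.Modules, PicF.IsInvertible A →
      FGA.intNum k X 2 (Fin.cons L' (Fin.cons A (Fin.elim0 : Fin 0 → X.Modules)) :
        Fin 2 → X.Modules) (Coh.structureModule X) =
      n * FGA.intNum k X 2 (Fin.cons N' (Fin.cons A (Fin.elim0 : Fin 0 → X.Modules)) :
        Fin 2 → X.Modules) (Coh.structureModule X) := fun A hA =>
    intNum_pow_cons k 2 hd _ (hinv1 A hA) N' hN' _ cO hsuppO n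
  -- the dimension of the support of `Q'`
  have hδ2 : topologicalKrullDim (CohB1.support Q') ≤ ((2 : ℕ) : WithBot ℕ∞) :=
    (Topology.IsInducing.subtypeVal).topologicalKrullDim_le.trans hd
  have hδ1 : ¬ topologicalKrullDim (CohB1.support Q') < ((1 : ℕ) : WithBot ℕ∞) := by
    intro hlt
    have h0 := s3231 k 2 hd (Fin.cons L' (Fin.elim0 : Fin 0 → X.Modules) : Fin 1 → X.Modules)
      (hinv1 L' hL') Q' cQ' hlt
    rw [← hI _ (hinv1 L' hL'), hII L' hL', intNum_swap k 2 hd N' L', hII N' hN'] at h0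
    have hnpos : (0 : ℤ) < n := by exact_mod_cast hn
    have := mul_pos hnpos (mul_pos hnpos hpos)
    rw [h0] at this
    exact lt_irrefl _ this
  have hδne : topologicalKrullDim (CohB1.support Q') ≠ ((2 : ℕ) : WithBot ℕ∞) := by
    intro heq
    have hp := s3233 k 2 hd
      (Fin.cons H (Fin.cons H (Fin.elim0 : Fin 0 → X.Modules)) : Fin 2 → X.Modules)
      (Fin.cons H' (Fin.cons H' (Fin.elim0 : Fin 0 → X.Modules)) : Fin 2 → X.Modules)
      (by
        intro i
        induction i using Fin.cases with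
        | zero => simpa using hH
        | succ j =>
          induction j using Fin.cases with
          | zero => simpa using hH
          | succ l => exact l.elim0)
      (by
        intro i
        induction i using Fin.cases with
        | zero => exact ⟨by simpa using eH⟩
        | succ j =>
          induction j using Fin.cases with
          | zero => exact ⟨by simpa using eH⟩
          | succ l => exact l.elim0)
      Q' cQ' heq
    have hz := s3231 k 2 hd
      (Fin.cons L' (Fin.cons H' (Fin.cons H' (Fin.elim0 : Fin 0 → X.Modules))) :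
        Fin 3 → X.Modules)
      (by
        intro i
        induction i using Fin.cases with
        | zero => simpa using hL'
        | succ j => simpa using hinv2 H' H' hH' hH' j)
      (Coh.structureModule X) cO
      (lt_of_le_of_lt hsuppO (by exact_mod_cast (by norm_num : (1 + 1 : ℕ) < 3)))
    rw [hI _ (hinv2 H' H' hH' hH')] at hz
    rw [hz] at hp
    exact lt_irrefl _ hp
  have hδ := dim_eq_one _ hδ2 hδne hδ1
  -- positivity
  have hp := s3233 k 2 hd
    (Fin.cons H (Fin.elim0 : Fin 0 → X.Modules) : Fin 1 → X.Modules)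
    (Fin.cons H' (Fin.elim0 : Fin 0 → X.Modules) : Fin 1 → X.Modules)
    (by
      intro i
      induction i using Fin.cases with
      | zero => simpa using hH
      | succ j => exact j.elim0)
    (by
      intro i
      induction i using Fin.cases with
      | zero => exact ⟨by simpa using eH⟩
      | succ j => exact j.elim0)
    Q' cQ' hδ
  rw [← hI _ (hinv1 H' hH'), hII H' hH'] at hp
  have hnpos : (0 : ℤ) < n := by exact_mod_cast hn
  exact (mul_pos_iff_of_pos_left hnpos).1 hp

end Groth.Agent.Lib.R2H4SurfPos
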