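import Mathlib
import Groth.Prelude
import Groth.Agent.Lib.R2H4Quo
import Groth.Agent.Lib.R2H4CMAss
import Groth.Agent.Lib.R2H4SurfPos
import Groth.Agent.Lib.R2H4FGANewton
import Groth.Agent.Lib.R2H4GVSch
import Groth.Agent.Lib.R2H1CurveDegSec
import Groth.Agent.Lib.R2H1CurveEuler
import Groth.Agent.Lib.R2H2DevF
import Groth.Agent.Lib.Helper23AssAffine
import Groth.Agent.Lib.Helper2Div
import Groth.Agent.Lib.Helper5MiracleSch
import Groth.Agent.Lib.Helper4DimFormulaAL
import Groth.Agent.Lib.Helper4IsolFib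
set_option backward.isDefEq.respectTransparency.types false

/-!
# Intersection numbers of effective Cartier divisors on a Cohen–Macaulay surface
(helper4, round 2)

* `intNum_cons_cartier` : `(I_D · M₁ ⋯ M_r ; F) = (M₁ ⋯ M_r ; F / I_D F)` for an effective Cartier
  divisor `D` containing no associated point of `F`.
* `not_isAssPoint_quo` : on a scheme with Cohen–Macaulay local ring of dimension `≥ 2` at `x`,
  `x` is not an associated point of `O / I_C O` for an effective Cartier divisor `C`.
* `s7871` : `(C · D) = dim_k Γ(O / (I_C + I_D))` on a proper Cohen–Macaulay surface.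
-/

set_option autoImplicit false
set_option linter.style.haveILetI false
set_option linter.unusedSectionVars false
universe u
open CategoryTheory CategoryTheory.Limits AlgebraicGeometry TopologicalSpace

noncomputable section

namespace Groth.Agent.Lib.R2H4CMSurf

open Groth.Agent.Lib.R2H4SerreSupp Groth.Agent.Lib.R2H4K0DevGeom Groth.Agent.Lib.R2H2.NilFilt
  Groth.Agent.Lib.Helper23.GenLocus Groth.Agent.Lib.Helper6 Groth.Agent.Lib.R2H4Quo

section Sections

variable {X : Scheme.{u}}

/-- the linear map on sections over `W` induced by a morphism of modules -/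
def appₗ {A B : X.Modules} (m : A ⟶ B) (W : X.Opens) : Γ(A, W) →ₗ[Γ(X, W)] Γ(B, W) :=
  { toFun := fun x => m.app W x
    map_add' := fun x y => map_add _ x y
    map_smul' := fun r x => Scheme.Modules.Hom.app_smul m r x }

theorem appₗ_apply {A B : X.Modules} (m : A ⟶ B) (W : X.Opens) (x : Γ(A, W)) :
    appₗ m W x = m.app W x := rfl

theorem ker_appₗ_quoπ (J : X.IdealSheafData) (F : X.Modules) [F.IsQuasicoherent]
    (U : X.affineOpens) :
    LinearMap.ker (appₗ (quoπ J F) U.1) =
      J.ideal U • (⊤ : Submodule Γ(X, U.1) Γ(F, U.1)) := by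
  ext t
  rw [LinearMap.mem_ker, appₗ_apply]
  constructor
  · intro ht
    obtain ⟨r, hr⟩ := Groth.Agent.Lib.Helper20.StalkExact.exists_app_eq_of_exact
      (quoSC J F) (shortExact J F) U.1 t ht
    have := ι_app_mem J F U r
    rw [← hr]
    exact this
  · intro ht
    obtain ⟨r, hr⟩ := exists_of_mem J F U t ht
    rw [← hr]
    have := congrArg (fun φ : (quoSC J F).X₁ ⟶ (quoSC J F).X₃ => φ.app U.1 r) (quoSC J F).zero
    simp only [Scheme.Modules.Hom.comp_app, Scheme.Modules.Hom.zero_app] at this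
    exact this

/-- `toS` as a linear map -/
def toSₗ (U : X.Opens) : Γ(X, U) →ₗ[Γ(X, U)] Γ(Coh.structureModule X, U) :=
  { toFun := toS U
    map_add' := fun _ _ => rfl
    map_smul' := fun _ _ => rfl }

/-- the map `Γ(X, U) ⟶ Γ(O / J O, U)` -/
def secMap (J : X.IdealSheafData) (U : X.Opens) :
    Γ(X, U) →ₗ[Γ(X, U)] Γ(quo J (Coh.structureModule X), U) :=
  (appₗ (quoπ J (Coh.structureModule X)) U).comp (toSₗ U)

theorem secMap_apply (J : X.IdealSheafData) (U : X.Opens) (a : Γ(X, U)) :
    secMap J U a = (quoπ J (Coh.structureModule X)).app U (toS U a) := rfl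

theorem toS_mem_smul_top_iff (J : X.IdealSheafData) (U : X.affineOpens) (a : Γ(X, U.1)) :
    toS U.1 a ∈ J.ideal U • (⊤ : Submodule Γ(X, U.1) Γ(Coh.structureModule X, U.1)) ↔
      a ∈ J.ideal U := by
  constructor
  · intro h
    have key : ∀ m ∈ J.ideal U • (⊤ : Submodule Γ(X, U.1) Γ(Coh.structureModule X, U.1)),
        ofS U.1 m ∈ J.ideal U := by
      intro m hm
      refine Submodule.smul_induction_on hm (fun r hr n _ => ?_) (fun m₁ m₂ h₁ h₂ => ?_)
      · have : ofS U.1 (r • n) = r * ofS U.1 n := rfl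
        rw [this]
        exact Ideal.mul_mem_right _ _ hr
      · have : ofS U.1 (m₁ + m₂) = ofS U.1 m₁ + ofS U.1 m₂ := rfl
        rw [this]
        exact Ideal.add_mem _ h₁ h₂
    exact key _ h
  · intro h
    have : toS U.1 a = a • toS U.1 (1 : Γ(X, U.1)) := by rw [smul_toS, mul_one]
    rw [this]
    exact Submodule.smul_mem_smul h Submodule.mem_top

theorem ker_secMap (J : X.IdealSheafData) [IsLocallyNoetherian X] (U : X.affineOpens) :
    LinearMap.ker (secMap J U.1) = J.ideal U := by
  haveI : (Coh.structureModule X).IsQuasicoherent :=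
    (Groth.Agent.Lib.R2H4BCGlue.isCoh_structureModule X).1
  ext a
  rw [LinearMap.mem_ker, secMap_apply, ← appₗ_apply, ← LinearMap.mem_ker, ker_appₗ_quoπ,
    toS_mem_smul_top_iff]

end Sections

section Ass

variable {X : Scheme.{u}} [IsNoetherian X]

theorem surjective_secMap (J : X.IdealSheafData) (U : X.affineOpens) :
    Function.Surjective (secMap J U.1) := by
  haveI : (Coh.structureModule X).IsQuasicoherent :=
    (Groth.Agent.Lib.R2H4BCGlue.isCoh_structureModule X).1
  haveI : (quo J (Coh.structureModule X)).IsQuasicoherent :=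
    (isCoh_quo J _ (Groth.Agent.Lib.R2H4BCGlue.isCoh_structureModule X)).1
  intro y
  obtain ⟨z, hz⟩ := Groth.Agent.Lib.Helper23.FinType.surjective_app_of_epi
    (quoπ J (Coh.structureModule X)) U.2 y
  exact ⟨ofS U.1 z, hz⟩

/-- sections of `O / J O` over an affine open -/
def secEquiv (J : X.IdealSheafData) (U : X.affineOpens) :
    (Γ(X, U.1) ⧸ J.ideal U) ≃ₗ[Γ(X, U.1)] Γ(quo J (Coh.structureModule X), U.1) :=
  (Submodule.quotEquivOfEq _ _ (ker_secMap J U).symm).trans
    (LinearMap.quotKerEquivOfSurjective _ (surjective_secMap J U))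

theorem mem_primeIdealOf_of_mem_support (J : X.IdealSheafData) (U : X.affineOpens) (x : X)
    (hx : x ∈ U.1) (hxJ : x ∈ J.support) (a : Γ(X, U.1)) (ha : a ∈ J.ideal U) :
    a ∈ (U.2.primeIdealOf ⟨x, hx⟩).asIdeal := by
  rw [Scheme.IdealSheafData.mem_support_iff_of_mem (U := U) hx, Scheme.mem_zeroLocus_iff] at hxJ
  have h := hxJ a ha
  rw [Groth.Agent.Lib.Helper2.mem_basicOpen_iff_notMem_primeIdealOf U.2 x hx, not_not] at h
  exact h

/-- `O / I_C O` has no embedded point at a point with Cohen–Macaulay local ring of dimension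
at least two -/
theorem not_isAssPoint_quo (C : X.IdealSheafData) (hC : BlowUp.IsEffCartierIdeal C) (x : X)
    [hCM : LocCoh.IsCohenMacaulayLocalRing (X.presheaf.stalk x)]
    (hdim : x ∈ C.support → 2 ≤ ringKrullDim (X.presheaf.stalk x)) :
    ¬ Curv2.IsAssPoint (quo C (Coh.structureModule X)) x := by
  haveI : (Coh.structureModule X).IsQuasicoherent :=
    (Groth.Agent.Lib.R2H4BCGlue.isCoh_structureModule X).1
  haveI : (quo C (Coh.structureModule X)).IsQuasicoherent :=
    (isCoh_quo C _ (Groth.Agent.Lib.R2H4BCGlue.isCoh_structureModule X)).1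
  by_cases hxC : x ∈ C.support
  · obtain ⟨U, hxU, a, ha, hspan⟩ := hC x
    haveI : IsNoetherianRing Γ(X, U.1) := IsLocallyNoetherian.component_noetherian U
    rw [Groth.Agent.Lib.Helper23.AssAffine.isAssPoint_iff_mem_associatedPrimes U.2 _ x hxU]
    intro hmem
    have h1 : IsAssociatedPrime (U.2.primeIdealOf ⟨x, hxU⟩).asIdeal
        (Γ(X, U.1) ⧸ C.ideal U) :=
      (LinearEquiv.isAssociatedPrime_iff (secEquiv C U)).2 hmem
    have h2 : IsAssociatedPrime (U.2.primeIdealOf ⟨x, hxU⟩).asIdeal
        (Γ(X, U.1) ⧸ Ideal.span {a}) :=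
      (LinearEquiv.isAssociatedPrime_iff (Submodule.quotEquivOfEq _ _ hspan)).1 h1
    letI alg : Algebra Γ(X, U.1) (X.presheaf.stalk x) :=
      X.presheaf.algebra_section_stalk ⟨x, hxU⟩
    haveI loc : IsLocalization.AtPrime (X.presheaf.stalk x)
        (U.2.primeIdealOf ⟨x, hxU⟩).asIdeal := U.2.isLocalization_stalk ⟨x, hxU⟩
    refine Groth.Agent.Lib.R2H4CMAss.not_mem_associatedPrimes_of_cm
      (U.2.primeIdealOf ⟨x, hxU⟩).asIdeal (X.presheaf.stalk x) (hdim hxC) a ha ?_ h2
    exact mem_primeIdealOf_of_mem_support C U x hxU hxC a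
      (by rw [hspan]; exact Ideal.mem_span_singleton_self a)
  · have hsub : Subsingleton ((quo C (Coh.structureModule X)).presheaf.stalk x) := by
      by_contra h
      exact hxC (support_quo C _ h)
    exact not_isAssociatedPrime_of_subsingleton

/-- the structure sheaf has no associated points on an effective Cartier divisor -/
theorem not_isAssPoint_structure (D : X.IdealSheafData) (hD : BlowUp.IsEffCartierIdeal D) (x : X)
    (hxD : x ∈ D.support) : ¬ Curv2.IsAssPoint (Coh.structureModule X) x := by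
  haveI : (Coh.structureModule X).IsQuasicoherent :=
    (Groth.Agent.Lib.R2H4BCGlue.isCoh_structureModule X).1
  obtain ⟨U, hxU, a, ha, hspan⟩ := hD x
  haveI : IsNoetherianRing Γ(X, U.1) := IsLocallyNoetherian.component_noetherian U
  rw [Groth.Agent.Lib.Helper23.AssAffine.isAssPoint_iff_mem_associatedPrimes U.2 _ x hxU]
  intro hmem
  have hmem' : IsAssociatedPrime (U.2.primeIdealOf ⟨x, hxU⟩).asIdeal
      Γ(Coh.structureModule X, U.1) := hmem
  rw [isAssociatedPrime_iff] at hmem'
  obtain ⟨-, y, hy⟩ := hmem'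
  have hap : a ∈ (U.2.primeIdealOf ⟨x, hxU⟩).asIdeal :=
    mem_primeIdealOf_of_mem_support D U x hxU hxD a
      (by rw [hspan]; exact Ideal.mem_span_singleton_self a)
  rw [hy, Submodule.mem_colon_singleton, Submodule.mem_bot] at hap
  have hy0 : y = 0 := by
    have h1 : a * ofS U.1 y = 0 := congrArg (ofS U.1) hap
    have h2 := (mem_nonZeroDivisors_iff.1 ha).1 (ofS U.1 y) h1
    exact congrArg (toS U.1) h2
  have htop : (U.2.primeIdealOf ⟨x, hxU⟩).asIdeal = ⊤ := by
    rw [hy, hy0]
    ext r
    simp [Submodule.mem_colon_singleton]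
  exact (U.2.primeIdealOf ⟨x, hxU⟩).isPrime.ne_top htop

end Ass

section Top

/-- a finite set of closed points has dimension `≤ 0` -/
theorem dim_le_zero_of_finite_closedPoints {T : Type*} [TopologicalSpace T] (S : Set T)
    (hfin : S.Finite) (hcl : ∀ x ∈ S, IsClosed ({x} : Set T)) : topologicalKrullDim S ≤ 0 := by
  haveI : Finite S := hfin
  haveI : T1Space S := by
    refine ⟨fun x => ?_⟩
    have h1 : IsClosed ((Subtype.val : S → T) ⁻¹' {x.1}) :=
      (hcl x.1 x.2).preimage continuous_subtype_val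
    have h2 : (Subtype.val : S → T) ⁻¹' {x.1} = {x} := by
      ext y
      simp [Subtype.ext_iff]
    rwa [h2] at h1
  exact topologicalKrullDim_zero_of_discreteTopology S

/-- in a Jacobson space, the points of a finite closed subset are closed -/
theorem isClosed_singleton_of_finite_closed {T : Type*} [TopologicalSpace T] [JacobsonSpace T]
    (Z : Set T) (hZ : IsClosed Z) (hfin : Z.Finite) (x : T) (hx : x ∈ Z) :
    IsClosed ({x} : Set T) := by
  set W : Set T := closure {x} with hW
  have hWZ : W ⊆ Z := closure_minimal (Set.singleton_subset_iff.2 hx) hZ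
  have hWfin : W.Finite := hfin.subset hWZ
  have h1 : closure (W ∩ closedPoints T) = W := closure_inter_closedPoints isClosed_closure
  have h2 : IsClosed (W ∩ closedPoints T) := by
    have hf : (W ∩ closedPoints T).Finite := hWfin.subset Set.inter_subset_left
    have := hf.isClosed_biUnion (f := fun y => ({y} : Set T)) (fun y hy => hy.2)
    rwa [Set.biUnion_of_singleton] at this
  rw [h2.closure_eq] at h1
  have hxW : x ∈ W := subset_closure rfl
  rw [← h1] at hxW
  exact hxW.2

end Top

section Int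

open Groth.Agent.Lib.R2H4FGAAdd Groth.Agent.Lib.R2H4SurfPos

variable (k : Type u) [Field k] {X : Scheme.{u}} [X.Over (Spec (CommRingCat.of k))]
  [IsProper (X ↘ Spec (CommRingCat.of k))]

/-- head recursion for an effective Cartier divisor: `(I_D · M ; F) = (M ; F / I_D F)` -/
theorem intNum_cons_cartier (d : ℕ) (hd : topologicalKrullDim X ≤ d) {r : ℕ}
    (M : Fin r → X.Modules) (hM : ∀ i, PicF.IsInvertible (M i)) (D : X.IdealSheafData)
    (hD : BlowUp.IsEffCartierIdeal D) (F : X.Modules) (hF : Coh.IsCoh F)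
    (hass : ∀ x ∈ D.support, ¬ Curv2.IsAssPoint F x) :
    FGA.intNum k X d (Fin.cons (ClSub.idealMod D) M : Fin (r + 1) → X.Modules) F =
      FGA.intNum k X d M (quo D F) := by
  haveI : IsNoetherian X := Groth.Agent.Lib.R2H1.CurveEuler.isNoetherian_of_proper k X
  have h1 := intNum_cons k d hd M (ClSub.idealMod D) F
  have h2 := intNum_add k d hd M hM (quoSC D F) (shortExact D F)
    (Groth.Agent.Lib.R2H2.DevF.isCoh_idealMul D F hF) hF (isCoh_quo D F hF)
  haveI := isIso_mulRLift D hD F hF hass
  have h3 := intNum_congr k d hd M (asIso (mulRLift D hD F))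
  have h2' : FGA.intNum k X d M F = FGA.intNum k X d M ((Dual3.idealMul D).obj F) +
      FGA.intNum k X d M (quo D F) := h2
  have : (FGA.intNum k X d (Fin.cons (ClSub.idealMod D) M : Fin (r + 1) → X.Modules) F : ℚ) =
      FGA.intNum k X d M (quo D F) := by
    rw [h1, h3, h2']
    push_cast
    ring
  exact_mod_cast this

/-- **S7871**: `(C · D) = dim_k Γ(O / (I_C + I_D))` on a proper Cohen–Macaulay surface -/
theorem s7871 (hdim : ∀ Z ∈ irreducibleComponents (X : Type u), topologicalKrullDim Z = 2)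
    (hCM : ∀ x : X, LocCoh.IsCohenMacaulayLocalRing (X.presheaf.stalk x))
    (IC ID : X.IdealSheafData) (hC : BlowUp.IsEffCartierIdeal IC)
    (hD : BlowUp.IsEffCartierIdeal ID) (hfin : ((IC ⊔ ID).support : Set X).Finite) :
    FGA.intNum k X 2 ![ClSub.idealMod IC, ClSub.idealMod ID] (Coh.structureModule X) =
      (Module.finrank k (Coh.HH X (ClSub.quotMod (IC ⊔ ID)) 0) : ℤ) := by
  haveI : IsNoetherian X := Groth.Agent.Lib.R2H1.CurveEuler.isNoetherian_of_proper k X
  haveI : JacobsonSpace X :=
    LocallyOfFiniteType.jacobsonSpace (Y := Spec (CommRingCat.of k)) (X ↘ Spec (CommRingCat.of k))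
  have hd : topologicalKrullDim X ≤ (2 : ℕ) :=
    Groth.Agent.Lib.Helper4.IsolFib.topologicalKrullDim_le_of_forall_irreducibleComponents _
      (fun Z hZ => (hdim Z hZ).le)
  have cO : Coh.IsCoh (Coh.structureModule X) :=
    Groth.Agent.Lib.R2H4BCGlue.isCoh_structureModule X
  have cQ : Coh.IsCoh (quo IC (Coh.structureModule X)) := isCoh_quo IC _ cO
  -- closed points of the intersection
  have hclosed : ∀ x ∈ ((IC ⊔ ID).support : Set X), IsClosed ({x} : Set X) := fun x hx =>
    isClosed_singleton_of_finite_closed _ (IC ⊔ ID).support.isClosed hfin x hx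
  have hdimx : ∀ x ∈ ((IC ⊔ ID).support : Set X), 2 ≤ ringKrullDim (X.presheaf.stalk x) := by
    intro x hx
    have h1 := Groth.Agent.Lib.Helper5.MiracleSch.stalk_add_ptTrdeg_of_equidim k
      (X ↘ Spec (CommRingCat.of k)) 2 hdim x
    rw [Groth.Agent.Lib.Helper4.DimFormula.ptTrdeg_eq_zero_of_isClosed _ x (hclosed x hx)] at h1
    simp only [Nat.cast_zero, add_zero] at h1
    rw [h1]
    rfl
  have hsupp : ((IC ⊔ ID).support : Set X) = (IC.support : Set X) ∩ ID.support := by
    rw [Scheme.IdealSheafData.support_sup]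
    rfl
  -- first step
  have e1 : FGA.intNum k X 2 ![ClSub.idealMod IC, ClSub.idealMod ID] (Coh.structureModule X) =
      FGA.intNum k X 2 (Fin.cons (ClSub.idealMod ID) (Fin.elim0 : Fin 0 → X.Modules))
        (quo IC (Coh.structureModule X)) := by
    have := intNum_cons_cartier k 2 hd
      (Fin.cons (ClSub.idealMod ID) (Fin.elim0 : Fin 0 → X.Modules) : Fin 1 → X.Modules)
      (fun i => by
        have hi : i = 0 := Fin.ext (by have := i.2; omega)
        subst hi
        exact Groth.Agent.Helper18Cart.isInvertible_of_isEffCartier ID hD)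
      IC hC (Coh.structureModule X) cO (fun x hx => not_isAssPoint_structure IC hC x hx)
    exact this
  -- second step
  have e2 : FGA.intNum k X 2 (Fin.cons (ClSub.idealMod ID) (Fin.elim0 : Fin 0 → X.Modules))
        (quo IC (Coh.structureModule X)) =
      FGA.intNum k X 2 (Fin.elim0 : Fin 0 → X.Modules)
        (quo ID (quo IC (Coh.structureModule X))) := by
    refine intNum_cons_cartier k 2 hd (Fin.elim0 : Fin 0 → X.Modules) (fun i => i.elim0)
      ID hD _ cQ (fun x hx => ?_)
    haveI := hCM x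
    exact not_isAssPoint_quo IC hC x (fun hxC => hdimx x (by rw [hsupp]; exact ⟨hxC, hx⟩))
  -- identification of the quotient
  let e : quo ID (quo IC (Coh.structureModule X)) ≅ ClSub.quotMod (IC ⊔ ID) :=
    quoQuoIso IC ID _ cO ≪≫ quoStructureIso (IC ⊔ ID)
  have e3 := Groth.Agent.Lib.R2H4FGAAdd.intNum_congr k 2 hd (Fin.elim0 : Fin 0 → X.Modules) e
  have e4 := Groth.Agent.Lib.R2H4FGANewton.intNum_zero k 2 hd (Fin.elim0 : Fin 0 → X.Modules)
    (ClSub.quotMod (IC ⊔ ID))
  rw [Groth.Agent.Lib.R2H4GVSch.eulerCharLE_eq_euler k X 2 hd] at e4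
  have hsq : CohB1.support (ClSub.quotMod (IC ⊔ ID)) ⊆ ((IC ⊔ ID).support : Set X) := by
    rw [← Groth.Agent.Lib.H6xSuppPush.support_eq_of_iso (quoStructureIso (IC ⊔ ID))]
    exact support_quo _ _
  have e5 := Groth.Agent.Lib.R2H1.CurveDegSec.euler_eq_h0 k X (ClSub.quotMod (IC ⊔ ID))
    (isCoh_quotMod _)
    (dim_le_zero_of_finite_closedPoints _ (hfin.subset hsq) (fun x hx => hclosed x (hsq hx)))
  rw [e1, e2, e3]
  have : (FGA.intNum k X 2 (Fin.elim0 : Fin 0 → X.Modules) (ClSub.quotMod (IC ⊔ ID)) : ℚ) =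
      ((Module.finrank k (Coh.HH X (ClSub.quotMod (IC ⊔ ID)) 0) : ℤ) : ℚ) := by
    rw [e4, e5]
  exact_mod_cast this

end Int

end Groth.Agent.Lib.R2H4CMSurf
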