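import Mathlib
import Groth.Agent.Lib.Helper2RankLoc
import Groth.Agent.Lib.Helper2FinPushFP
import Groth.Agent.S9351
import Groth.Agent.S9349
import Groth.Agent.Lib.R2H3SchemDense
import Groth.Agent.Lib.Helper23Serre
import Groth.Agent.Lib.Helper18FinFlat1

/-!
# Finite type flat quasi-coherent modules are finite locally free iff closed generization-stable subsets are open
(helper4, round 2; = S9352)

* `flat_sections`, `finrank_stalk_eq_rankAtStalk`: rank of a free stalk vs. `Module.rankAtStalk` of the sections.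
* `isFinLocFree_of_flat` (⇐): free stalks, rank upper semicontinuous and constant under generization, so the loci
  `{rank ≥ n}` are closed and generization-stable, hence open; conclude with helper2's `RankLoc`.
* `isFlat_of_isFlatOver_id`, `subsingleton_stalk_quotMod`, `nontrivial_stalk_quotMod`.
* `isOpen_of_isFinLocFree` (⇒): the flat closed subscheme structure of S9351 on `Z`; `O_X/I` is finite locally free so
  its support `Z` is open.
-/

set_option autoImplicit false
set_option linter.style.haveILetI false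
universe u
open CategoryTheory CategoryTheory.Limits AlgebraicGeometry TopologicalSpace Opposite TensorProduct

namespace Groth.Agent.Lib.R2H4FlatLF

open Groth.Agent.Lib.Helper2.RankLoc Groth.Agent.Lib.Helper2.FlatOver Groth.Agent.Lib.Helper2.FibreCrit
  Groth.Agent.Lib.Helper23.FinType

variable {X : Scheme.{u}}

section rank

variable (F : X.Modules) [F.IsQuasicoherent]

/-- for free stalks, the fibre rank is the rank of the stalk -/
theorem fibreRank_eq_finrank (x : X) [Module.Free (X.presheaf.stalk x) (F.presheaf.stalk x)] :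
    fibreRank F x = Module.finrank (X.presheaf.stalk x) (F.presheaf.stalk x) :=
  Module.finrank_baseChange

/-- flat stalks give flat modules of sections over affine opens -/
theorem flat_sections {U : X.Opens} (hU : IsAffineOpen U)
    (hfl : ∀ x : X, x ∈ U → Module.Flat (X.presheaf.stalk x) (F.presheaf.stalk x)) :
    Module.Flat Γ(X, U) Γ(F, U) := by
  let pt : ∀ (P : Ideal Γ(X, U)) [P.IsMaximal], X := fun P hP => hU.fromSpec ⟨P, hP.isPrime⟩
  have hpt : ∀ (P : Ideal Γ(X, U)) [P.IsMaximal], pt P ∈ U := fun P _ =>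
    Groth.Agent.Lib.Helper2.QCoh.fromSpec_mem hU _
  letI i1 : ∀ (P : Ideal Γ(X, U)) [P.IsMaximal], Module Γ(X, U) (F.presheaf.stalk (pt P)) :=
    fun P _ => moduleStalkSections F U (pt P) (hpt P)
  haveI i3 : ∀ (P : Ideal Γ(X, U)) [P.IsMaximal],
      IsScalarTower Γ(X, U) Γ(X, U) (F.presheaf.stalk (pt P)) := fun P _ => inferInstance
  haveI i4 : ∀ (P : Ideal Γ(X, U)) [P.IsMaximal],
      IsLocalizedModule.AtPrime P (germₗ F U (pt P) (hpt P)) := by
    intro P hP
    have h := isLocalizedModule_germ hU F (pt P) (hpt P)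
    have h2 : hU.primeIdealOf ⟨pt P, hpt P⟩ = ⟨P, hP.isPrime⟩ :=
      Groth.Agent.Lib.Helper2.QCoh.primeIdealOf_fromSpec hU _
    rw [h2] at h
    exact h
  refine @Module.flat_of_isLocalized_maximal Γ(X, U) Γ(X, U) _ _ _ Γ(F, U) _ _ _ _
    (fun P _ => F.presheaf.stalk (pt P)) (fun P _ => inferInstance) i1 i1 i3
    (fun P _ => germₗ F U (pt P) (hpt P)) i4 (fun P hP => ?_)
  letI aUR : Algebra Γ(X, U) (X.presheaf.stalk (pt P)) :=
    X.presheaf.algebra_section_stalk ⟨pt P, hpt P⟩
  haveI : IsScalarTower Γ(X, U) (X.presheaf.stalk (pt P)) (F.presheaf.stalk (pt P)) :=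
    IsScalarTower.of_algebraMap_smul (fun b n => rfl)
  haveI := hU.isLocalization_stalk ⟨pt P, hpt P⟩
  haveI : Module.Flat Γ(X, U) (X.presheaf.stalk (pt P)) :=
    IsLocalization.flat _ (hU.primeIdealOf ⟨pt P, hpt P⟩).asIdeal.primeCompl
  haveI := hfl (pt P) (hpt P)
  exact Module.Flat.trans Γ(X, U) (X.presheaf.stalk (pt P)) (F.presheaf.stalk (pt P))

/-- the rank of the stalk at `x` is the rank at stalk of the module of sections on an affine open at any prime
corresponding to a generization of `x` -/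
theorem finrank_stalk_eq_rankAtStalk {U : X.Opens} (hU : IsAffineOpen U)
    [Module.Finite Γ(X, U) Γ(F, U)] [Module.Flat Γ(X, U) Γ(F, U)] (x : X) (hx : x ∈ U)
    [Module.Free (X.presheaf.stalk x) (F.presheaf.stalk x)]
    (q : PrimeSpectrum Γ(X, U)) (hq : q ≤ hU.primeIdealOf ⟨x, hx⟩) :
    Module.finrank (X.presheaf.stalk x) (F.presheaf.stalk x) = Module.rankAtStalk Γ(F, U) q := by
  letI aUR : Algebra Γ(X, U) (X.presheaf.stalk x) := X.presheaf.algebra_section_stalk ⟨x, hx⟩
  letI mUP : Module Γ(X, U) (F.presheaf.stalk x) := moduleStalkSections F U x hx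
  haveI : IsScalarTower Γ(X, U) (X.presheaf.stalk x) (F.presheaf.stalk x) :=
    IsScalarTower.of_algebraMap_smul (fun b n => rfl)
  haveI := hU.isLocalization_stalk ⟨x, hx⟩
  haveI := isLocalizedModule_germ hU F x hx
  have hbc : IsBaseChange (X.presheaf.stalk x) (germₗ F U x hx) :=
    IsLocalizedModule.isBaseChange (hU.primeIdealOf ⟨x, hx⟩).asIdeal.primeCompl _ _
  obtain ⟨P, rfl⟩ : q ∈ Set.range (PrimeSpectrum.comap (algebraMap Γ(X, U) (X.presheaf.stalk x))) := by
    rw [PrimeSpectrum.localization_comap_range (X.presheaf.stalk x)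
      (hU.primeIdealOf ⟨x, hx⟩).asIdeal.primeCompl]
    exact disjoint_compl_left_iff.mpr hq
  rw [← Module.rankAtStalk_isBaseChange hbc P, Module.rankAtStalk_eq_finrank_of_free]
  rfl

end rank

/-- (⇐): if closed subsets stable under generalization are open, finite type flat quasi-coherent modules are finite
locally free -/
theorem isFinLocFree_of_flat (H : ∀ Z : Set ↑X, IsClosed Z → StableUnderGeneralization Z → IsOpen Z)
    (F : X.Modules) (hq : Coh.IsQCoh F) (hft : CohB1.IsFT F) (hfl : FlatMod.IsFlat F) :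
    FlatMod.IsFinLocFree F := by
  haveI : F.IsQuasicoherent := hq
  haveI : SheafOfModules.IsFiniteType (R := X.ringCatSheaf) F := hft
  have hfin : ∀ x : X, Module.Finite (X.presheaf.stalk x) (F.presheaf.stalk x) :=
    fun x => finite_stalk F x
  have hflat : ∀ x : X, Module.Flat (X.presheaf.stalk x) (F.presheaf.stalk x) := fun x => hfl x
  have hfree : ∀ x : X, Module.Free (X.presheaf.stalk x) (F.presheaf.stalk x) := fun x =>
    haveI := hfin x
    haveI := hflat x
    Module.free_of_flat_of_isLocalRing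
  have hρ : ∀ x : X, fibreRank F x = Module.finrank (X.presheaf.stalk x) (F.presheaf.stalk x) :=
    fun x => haveI := hfree x; fibreRank_eq_finrank F x
  -- constancy under generization
  have hgen : ∀ x y : X, y ⤳ x → fibreRank F y = fibreRank F x := by
    intro x y hyx
    obtain ⟨_, ⟨U, hU : IsAffineOpen U, rfl⟩, hxU, -⟩ :=
      X.isBasis_affineOpens.exists_subset_of_mem_open (Set.mem_univ x) isOpen_univ
    have hyU : y ∈ U := hyx.mem_open U.2 hxU
    haveI : Module.Finite Γ(X, U) Γ(F, U) := finite_of_isFiniteType F hU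
    haveI : Module.Flat Γ(X, U) Γ(F, U) := flat_sections F hU (fun x _ => hflat x)
    haveI := hfree x
    haveI := hfree y
    have hle : hU.primeIdealOf ⟨y, hyU⟩ ≤ hU.primeIdealOf ⟨x, hxU⟩ := by
      rw [PrimeSpectrum.le_iff_specializes]
      have h1 : (⟨y, hyU⟩ : U) ⤳ ⟨x, hxU⟩ := (subtype_specializes_iff _ _).mpr hyx
      exact h1.map hU.isoSpec.hom.continuous
    rw [hρ, hρ, finrank_stalk_eq_rankAtStalk F hU x hxU _ hle,
      finrank_stalk_eq_rankAtStalk F hU y hyU _ le_rfl]
  -- upper semicontinuity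
  have husc : ∀ x : X, ∃ D : X.Opens, x ∈ D ∧ ∀ x' ∈ D, fibreRank F x' ≤ fibreRank F x := by
    intro x
    obtain ⟨D, hD, m, hxD, -, hm⟩ := exists_affine_generators F x ⊤ trivial
    refine ⟨D, hxD, fun x' hx' => ?_⟩
    have hspan := span_germ_eq_top F hD m hm x' hx'
    haveI := hfree x'
    rw [hρ x']
    have := finrank_le_of_span_eq_top hspan
    simpa using this
  have hlc : IsLocallyConstant (fun x : X => fibreRank F x) := by
    rw [IsLocallyConstant.iff_exists_open]
    intro x
    obtain ⟨D, hxD, hD⟩ := husc x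
    let Z : Set X := {x' | fibreRank F x ≤ fibreRank F x'}
    have hZc : IsClosed Z := by
      rw [← isOpen_compl_iff, isOpen_iff_forall_mem_open]
      intro z hz
      obtain ⟨D', hzD', hD'⟩ := husc z
      refine ⟨D', fun z' hz' => ?_, D'.2, hzD'⟩
      have hz0 : ¬ fibreRank F x ≤ fibreRank F z := hz
      have : ¬ fibreRank F x ≤ fibreRank F z' := fun h => hz0 (h.trans (hD' z' hz'))
      exact this
    have hZg : StableUnderGeneralization Z := by
      intro a b hba ha
      have : fibreRank F x ≤ fibreRank F a := ha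
      change fibreRank F x ≤ fibreRank F b
      rw [hgen a b hba]
      exact this
    have hZo : IsOpen Z := H Z hZc hZg
    refine ⟨(D : Set X) ∩ Z, D.2.inter hZo, ⟨hxD, (le_refl (fibreRank F x) : fibreRank F x ≤ fibreRank F x)⟩,
      fun x' hx' => ?_⟩
    exact le_antisymm (hD x' hx'.1) hx'.2
  exact isFinLocFree_of_isLocallyConstant_fibreRank F hlc
    (fun D hD n m hm hrank => linearIndependent_of_free_stalks F hD m hm (fun x _ => hfree x) hrank)

section converse

/-- `IsFlatOver (𝟙 X)` is flatness as an `O_X`-module -/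
theorem isFlat_of_isFlatOver_id (F : X.Modules) (h : FlatMod.IsFlatOver (𝟙 X) F) : FlatMod.IsFlat F := by
  intro x
  have hx := h x
  unfold FlatMod.IsFlatOverAt at hx
  letI := FlatMod.moduleStalkOver (𝟙 X) F x
  haveI : Module.Flat (X.presheaf.stalk ((𝟙 X : X ⟶ X).base x)) (F.presheaf.stalk x) := hx
  let σ : X.presheaf.stalk ((𝟙 X : X ⟶ X).base x) ≃+* X.presheaf.stalk x :=
    (asIso ((𝟙 X : X ⟶ X).stalkMap x)).commRingCatIsoToRingEquiv
  exact flat_of_semilinear_equiv σ (AddEquiv.refl (F.presheaf.stalk x)) (fun r m => rfl)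

variable (I : X.IdealSheafData)

/-- the stalks of `O_X / I` vanish off the support of `I` -/
theorem subsingleton_stalk_quotMod (x : X) (hx : x ∉ I.support) :
    Subsingleton ((ClSub.quotMod I).presheaf.stalk x) := by
  refine subsingleton_of_forall_eq 0 fun t => ?_
  obtain ⟨U', hxU', s, rfl⟩ := (ClSub.quotMod I).presheaf.exists_germ_eq t
  let W : X.Opens := ⟨(I.support : Set X)ᶜ, I.support.isClosed.isOpen_compl⟩
  have hxW : x ∈ W := hx
  have hbot : I.subschemeι ⁻¹ᵁ (U' ⊓ W) = ⊥ := by
    ext y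
    simp only [Opens.coe_bot, Set.mem_empty_iff_false, iff_false]
    intro hy
    have h1 : I.subschemeι y ∈ W := hy.2
    apply h1
    rw [← I.range_subschemeι]
    exact ⟨y, rfl⟩
  haveI : Subsingleton Γ(ClSub.quotMod I, U' ⊓ W) := by
    change Subsingleton Γ(I.subscheme, I.subschemeι ⁻¹ᵁ (U' ⊓ W))
    rw [hbot]
    infer_instance
  have h2 := (ClSub.quotMod I).presheaf.germ_res_apply (homOfLE (inf_le_left : U' ⊓ W ≤ U')) x
    ⟨hxU', hxW⟩ s
  rw [← h2, Subsingleton.elim ((ClSub.quotMod I).presheaf.map (homOfLE inf_le_left).op s) 0, map_zero]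

/-- the stalks of `O_X / I` are nonzero on the support of `I` -/
theorem nontrivial_stalk_quotMod (x : X) (hx : x ∈ I.support) :
    Nontrivial ((ClSub.quotMod I).presheaf.stalk x) := by
  by_contra hnt
  rw [not_nontrivial_iff_subsingleton] at hnt
  have hxr : x ∈ Set.range I.subschemeι := by rw [I.range_subschemeι]; exact hx
  obtain ⟨y, rfl⟩ := hxr
  let s₁ : Γ(ClSub.quotMod I, ⊤) := (1 : Γ(I.subscheme, I.subschemeι ⁻¹ᵁ ⊤))
  have h0 : (ClSub.quotMod I).presheaf.germ ⊤ (I.subschemeι y) trivial s₁ =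
      (ClSub.quotMod I).presheaf.germ ⊤ (I.subschemeι y) trivial 0 := Subsingleton.elim _ _
  obtain ⟨W, hyW, iU, iV, hres⟩ := (ClSub.quotMod I).presheaf.germ_eq (U := ⊤) (V := ⊤) (I.subschemeι y) trivial trivial
    s₁ 0 h0
  have h1 : (1 : Γ(I.subscheme, I.subschemeι ⁻¹ᵁ W)) = 0 := by
    have e1 : (ClSub.quotMod I).presheaf.map iU.op s₁ = (1 : Γ(I.subscheme, I.subschemeι ⁻¹ᵁ W)) :=
      map_one (I.subscheme.presheaf.map ((Opens.map I.subschemeι.base).map iU).op).hom
    have e2 : (ClSub.quotMod I).presheaf.map iV.op 0 = (0 : Γ(I.subscheme, I.subschemeι ⁻¹ᵁ W)) :=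
      map_zero _
    rw [← e1, ← e2]
    exact hres
  have hyW' : y ∈ I.subschemeι ⁻¹ᵁ W := hyW
  have h2 := congrArg (I.subscheme.presheaf.germ (I.subschemeι ⁻¹ᵁ W) y hyW').hom h1
  rw [map_one, map_zero] at h2
  exact one_ne_zero h2

/-- (⇒): if finite type flat quasi-coherent modules are finite locally free, closed subsets stable under
generalization are open -/
theorem isOpen_of_isFinLocFree
    (H : ∀ F : X.Modules, Coh.IsQCoh F → CohB1.IsFT F → FlatMod.IsFlat F → FlatMod.IsFinLocFree F)
    (Z : Set ↑X) (hZ : IsClosed Z) (hg : StableUnderGeneralization Z) : IsOpen Z := by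
  obtain ⟨I, hIflat, hIsupp⟩ := (Groth.Agent.S9351.result X).1.surjOn
    (show (⟨Z, hZ⟩ : Closeds X) ∈ {Z : Closeds X | StableUnderGeneralization (Z : Set ↑X)} from hg)
  haveI : Flat I.subschemeι := hIflat
  have hsupp : (I.support : Set X) = Z := congrArg (fun C : Closeds X => (C : Set X)) hIsupp
  haveI hqY : (Coh.structureModule I.subscheme).IsQuasicoherent :=
    Groth.Agent.Lib.Helper23.Serre.isQuasicoherent_structureModule' _
  haveI hq : (ClSub.quotMod I).IsQuasicoherent :=
    Groth.Agent.Lib.Helper23.QCohLocal.isQuasicoherent_pushforward I.subschemeι _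
  haveI hfpY : SheafOfModules.IsFinitePresentation (R := I.subscheme.ringCatSheaf)
      (Coh.structureModule I.subscheme) :=
    Groth.Agent.Helper18FinFlat.isFinitePresentation_structureModule _
  have hft : SheafOfModules.IsFiniteType (R := X.ringCatSheaf) (ClSub.quotMod I) :=
    (Groth.Agent.Lib.Helper2.FinPushFP.isFiniteType_pushforward_iff I.subschemeι
      (Coh.structureModule I.subscheme)).mp inferInstance
  have hfl : FlatMod.IsFlat (ClSub.quotMod I) := by
    apply isFlat_of_isFlatOver_id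
    refine (Groth.Agent.S9349.result I.subschemeι (𝟙 X) (Coh.structureModule I.subscheme) hqY).mp ?_
    rw [Category.comp_id]
    exact Groth.Agent.Lib.R2H3.SchemDense.isFlatOver_structureModule I.subschemeι
  have hLF := H (ClSub.quotMod I) hq hft hfl
  rw [isOpen_iff_forall_mem_open]
  intro x hx
  obtain ⟨U, n, hxU, ⟨e⟩⟩ := hLF x
  refine ⟨U, ?_, U.2, hxU⟩
  have hx1 := fibreRank_eq_of_restrict_iso_freeMod U.ι (ClSub.quotMod I) e ⟨x, hxU⟩
  have hn : n ≠ 0 := by
    rintro rfl
    haveI : Module.Free (X.presheaf.stalk x) ((ClSub.quotMod I).presheaf.stalk x) := hx1.1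
    haveI : Module.Finite (X.presheaf.stalk x) ((ClSub.quotMod I).presheaf.stalk x) :=
      haveI := hft
      finite_stalk (ClSub.quotMod I) x
    have h0 : Module.finrank (X.presheaf.stalk x) ((ClSub.quotMod I).presheaf.stalk x) = 0 := by
      rw [← fibreRank_eq_finrank]; exact hx1.2
    haveI := (Module.finrank_eq_zero_iff_of_free _ _).mp h0
    haveI := nontrivial_stalk_quotMod I x (by rw [← hsupp] at hx; exact hx)
    exact false_of_nontrivial_of_subsingleton ((ClSub.quotMod I).presheaf.stalk x)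
  intro x' hx'
  by_contra hx'Z
  have hx2 := fibreRank_eq_of_restrict_iso_freeMod U.ι (ClSub.quotMod I) e ⟨x', hx'⟩
  haveI hss : Subsingleton ((ClSub.quotMod I).presheaf.stalk (U.ι ⟨x', hx'⟩)) :=
    subsingleton_stalk_quotMod I x' (by rw [← hsupp] at hx'Z; exact hx'Z)
  apply hn
  rw [← hx2.2]
  haveI : Subsingleton (IsLocalRing.ResidueField (X.presheaf.stalk (U.ι ⟨x', hx'⟩))
      ⊗[X.presheaf.stalk (U.ι ⟨x', hx'⟩)] (ClSub.quotMod I).presheaf.stalk (U.ι ⟨x', hx'⟩)) := by
    refine subsingleton_of_forall_eq 0 fun t => ?_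
    induction t using TensorProduct.induction_on with
    | zero => rfl
    | tmul a m => rw [Subsingleton.elim m 0, TensorProduct.tmul_zero]
    | add a b ha hb => rw [ha, hb, add_zero]
  exact Module.finrank_zero_of_subsingleton

end converse

end Groth.Agent.Lib.R2H4FlatLF
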