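import Mathlib
import Groth.Prelude
import Groth.Agent.Lib.R2H4CMSurf
import Groth.Agent.Lib.R2H4FGAPos
import Groth.Agent.Lib.R2H4FlatLF
import Groth.Agent.Lib.Helper8EffCart
import Groth.Agent.Lib.Helper8AB
import Groth.Agent.Lib.Helper6SmRegSch
import Groth.Agent.Lib.Helper6OpenDimE
import Groth.Agent.Lib.Helper10CodimFib
import Groth.Agent.Lib.Helper4CurveTop
import Groth.Agent.Lib.H5bFieldSp
import Groth.Agent.Lib.Helper5RLR3
import Groth.Agent.Lib.R2H1InvExists
import Groth.Agent.Lib.Helper20ZClos9
import Groth.Agent.Lib.Helper11RedCl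
import Groth.Agent.Lib.Helper8Conn
import Groth.Agent.Lib.H9NegDefAlg
set_option backward.isDefEq.respectTransparency.types false

/-!
# Curves on a smooth projective surface: geometric input for negative definite configurations
(helper9)

* `stalk_add`, `dim_closure` : dimension formula on an integral surface of finite type over a field.
* `isEffCartier_curve` : an integral curve on a smooth surface is an effective Cartier divisor.
* `finite_inter` : a curve meets a closed set not containing it in finitely many (closed) points.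
-/

set_option autoImplicit false
set_option linter.style.haveILetI false
set_option linter.unusedSectionVars false
universe u
open CategoryTheory CategoryTheory.Limits AlgebraicGeometry TopologicalSpace

noncomputable section

namespace Groth.Agent.Lib.H9NegDefGeo

open Groth.Agent.Lib.Helper4.DimFormula

section Dim

variable (k : Type u) [Field k] {X : Scheme.{u}} [X.Over (Spec (CommRingCat.of k))]
  [LocallyOfFiniteType (X ↘ Spec (CommRingCat.of k))] [IsIntegral X]

theorem hdim_comp (hdim : topologicalKrullDim X = 2) :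
    ∀ Z ∈ irreducibleComponents (X : Type u), topologicalKrullDim Z = 2 := by
  intro Z hZ
  rw [irreducibleComponents_eq_singleton, Set.mem_singleton_iff] at hZ
  subst hZ
  rw [← hdim]
  exact IsHomeomorph.topologicalKrullDim_eq _ (Homeomorph.Set.univ X).isHomeomorph

theorem stalk_add (hdim : topologicalKrullDim X = 2) (x : X) :
    ringKrullDim (X.presheaf.stalk x) +
      (ptTrdeg (X ↘ Spec (CommRingCat.of k)) x : WithBot ℕ∞) = 2 := by
  have := Groth.Agent.Lib.Helper5.MiracleSch.stalk_add_ptTrdeg_of_equidim k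
    (X ↘ Spec (CommRingCat.of k)) 2 (hdim_comp hdim) x
  exact_mod_cast this

theorem dim_closure (x : X) :
    topologicalKrullDim ↥(closure ({x} : Set X)) =
      (ptTrdeg (X ↘ Spec (CommRingCat.of k)) x : WithBot ℕ∞) := by
  have h := Groth.Agent.Lib.Helper6.OpenDim.topologicalKrullDim_closure_inter_fibre
    (X ↘ Spec (CommRingCat.of k)) x
  haveI : Subsingleton ↥(Spec (CommRingCat.of k)) :=
    (inferInstance : Subsingleton (PrimeSpectrum k))
  have hpre : (X ↘ Spec (CommRingCat.of k)).base ⁻¹' {(X ↘ Spec (CommRingCat.of k)).base x} =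
      Set.univ := by
    ext z
    simp only [Set.mem_preimage, Set.mem_singleton_iff, Set.mem_univ, iff_true]
    exact Subsingleton.elim _ _
  rw [← h]
  exact Groth.Agent.Lib.Helper6.OpenDim.topologicalKrullDim_congr_set
    (by rw [hpre, Set.inter_univ])

end Dim

section Curve

variable (k : Type u) [Field k] {X : Scheme.{u}} [X.Over (Spec (CommRingCat.of k))]
  [IsProper (X ↘ Spec (CommRingCat.of k))] [IsIntegral X]

/-- the generic point of an integral closed subscheme -/
def gp (C : X.IdealSheafData) [IsIntegral C.subscheme] : X :=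
  C.subschemeι (genericPoint ↥C.subscheme)

theorem closure_gp (C : X.IdealSheafData) [IsIntegral C.subscheme] :
    closure ({gp C} : Set X) = (C.support : Set X) := by
  have hemb : Topology.IsClosedEmbedding C.subschemeι := C.subschemeι.isClosedEmbedding
  have := hemb.closure_image_eq ({genericPoint ↥C.subscheme} : Set _)
  rw [Set.image_singleton, genericPoint_closure, Set.image_univ,
    Scheme.IdealSheafData.range_subschemeι] at this
  exact this

include k

theorem ptTrdeg_gp (C : X.IdealSheafData) [IsIntegral C.subscheme]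
    (hCd : topologicalKrullDim (C.support : Set X) = 1) :
    ptTrdeg (X ↘ Spec (CommRingCat.of k)) (gp C) = 1 := by
  have h1 := dim_closure k (gp C)
  rw [Groth.Agent.Lib.Helper6.OpenDim.topologicalKrullDim_congr_set (closure_gp C), hCd] at h1
  exact_mod_cast h1.symm

theorem dim_stalk_gp (hdim : topologicalKrullDim X = 2) (C : X.IdealSheafData)
    [IsIntegral C.subscheme] (hCd : topologicalKrullDim (C.support : Set X) = 1) :
    ringKrullDim (X.presheaf.stalk (gp C)) = 1 := by
  have h := stalk_add k hdim (gp C)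
  rw [ptTrdeg_gp k C hCd] at h
  have h2 : (2 : WithBot ℕ∞) = (1 : WithBot ℕ∞) + ((1 : ℕ) : WithBot ℕ∞) := by norm_num
  rw [h2] at h
  exact ENat.WithBot.add_natCast_cancel.1 h

theorem isClosed_singleton_of_mem (hdim : topologicalKrullDim X = 2) (C : X.IdealSheafData)
    [IsIntegral C.subscheme] (hCd : topologicalKrullDim (C.support : Set X) = 1) (x : X)
    (hx : x ∈ C.support) (hne : x ≠ gp C) : IsClosed ({x} : Set X) := by
  haveI := Groth.Agent.Lib.R2H1.CurveEuler.isNoetherian_of_proper k X
  haveI : Subsingleton ↥(Spec (CommRingCat.of k)) :=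
    (inferInstance : Subsingleton (PrimeSpectrum k))
  have hsp : gp C ⤳ x := by
    rw [specializes_iff_mem_closure, closure_gp]
    exact hx
  have hlt := Groth.Agent.Lib.Helper10.CodimFib.ringKrullDim_stalk_lt_of_specializes hsp
    (Ne.symm hne)
  rw [dim_stalk_gp k hdim C hCd] at hlt
  have h := stalk_add k hdim x
  have h0 : ptTrdeg (X ↘ Spec (CommRingCat.of k)) x = 0 := by
    by_contra hpos
    have h1 : 1 ≤ ptTrdeg (X ↘ Spec (CommRingCat.of k)) x := Nat.one_le_iff_ne_zero.2 hpos
    have h2 : ((1 : ℕ) : WithBot ℕ∞) + 1 ≤ ringKrullDim (X.presheaf.stalk x) :=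
      ENat.WithBot.add_one_le_iff.2 (by exact_mod_cast hlt)
    have h3 : ((1 : ℕ) : WithBot ℕ∞) + 1 + ((1 : ℕ) : WithBot ℕ∞) ≤
        ringKrullDim (X.presheaf.stalk x) +
          (ptTrdeg (X ↘ Spec (CommRingCat.of k)) x : WithBot ℕ∞) :=
      add_le_add h2 (by exact_mod_cast h1)
    rw [h] at h3
    have h4 : ((3 : ℕ) : WithBot ℕ∞) ≤ ((2 : ℕ) : WithBot ℕ∞) := by
      refine le_trans (le_of_eq ?_) (h3.trans (le_of_eq ?_))
      · norm_num
      · norm_num
    have h5 : (3 : ℕ) ≤ 2 := by exact_mod_cast h4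
    omega
  exact Groth.Agent.Lib.H5bFieldSp.isClosed_singleton_of_ptTrdeg_eq_zero
    (X ↘ Spec (CommRingCat.of k)) x h0

theorem finite_inter (hdim : topologicalKrullDim X = 2) (C : X.IdealSheafData)
    [IsIntegral C.subscheme] (hCd : topologicalKrullDim (C.support : Set X) = 1) (Z : Set X)
    (hZ : IsClosed Z) (hCZ : ¬ (C.support : Set X) ⊆ Z) : ((C.support : Set X) ∩ Z).Finite := by
  haveI := Groth.Agent.Lib.R2H1.CurveEuler.isNoetherian_of_proper k X
  refine Groth.Agent.Lib.Helper4.CurveTop.finite_of_forall_isClosed_singleton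
    (C.support.isClosed.inter hZ) (fun x hx => ?_)
  refine isClosed_singleton_of_mem k hdim C hCd x hx.1 (fun h => hCZ ?_)
  rw [← closure_gp C]
  exact closure_minimal (Set.singleton_subset_iff.2 (h ▸ hx.2)) hZ

variable [Smooth (X ↘ Spec (CommRingCat.of k))]

theorem isRegular (x : X) : IsRegularLocalRing (X.presheaf.stalk x) :=
  Groth.Agent.Lib.Helper6.SmRegSch.isRegularLocalRing_stalk_of_smooth_over_field k X
    (X ↘ Spec (CommRingCat.of k)) x

theorem isCM (x : X) : LocCoh.IsCohenMacaulayLocalRing (X.presheaf.stalk x) := by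
  haveI := isRegular k x
  exact Groth.Agent.Lib.Helper5.isCohenMacaulayLocalRing_of_isRegularLocalRing _

theorem isEffCartier_curve (hdim : topologicalKrullDim X = 2) (C : X.IdealSheafData)
    [IsIntegral C.subscheme] (hCd : topologicalKrullDim (C.support : Set X) = 1) :
    BlowUp.IsEffCartierIdeal C := by
  haveI := Groth.Agent.Lib.R2H1.CurveEuler.isNoetherian_of_proper k X
  refine Groth.Agent.Lib.Helper8.EffCart.isEffCartier_of_integral_codim_one_ufd C
    (dim_stalk_gp k hdim C hCd) (fun x _ => ?_)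
  haveI := isRegular k x
  exact ⟨inferInstance, Groth.Agent.Lib.Helper8.AB.ufd_of_isRegularLocalRing _⟩

end Curve

section Int

variable (k : Type u) [Field k] {X : Scheme.{u}} [X.Over (Spec (CommRingCat.of k))]
  [IsProper (X ↘ Spec (CommRingCat.of k))] [IsIntegral X]

theorem support_quotMod (D : X.IdealSheafData) :
    CohB1.support (ClSub.quotMod D) = (D.support : Set X) := by
  refine Set.Subset.antisymm (Groth.Agent.Lib.R2H1.DegCartier.support_quotMod_subset D)
    (fun x hx => ?_)
  haveI := Groth.Agent.Lib.R2H4FlatLF.nontrivial_stalk_quotMod D x hx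
  exact not_subsingleton _

theorem hd2 (hdim : topologicalKrullDim X = 2) :
    topologicalKrullDim X ≤ ((2 : ℕ) : WithBot ℕ∞) := hdim.le

theorem fin_one {P : X.Modules → Prop} (A : X.Modules) (hA : P A) :
    ∀ i : Fin 1, P ((Fin.cons A (Fin.elim0 : Fin 0 → X.Modules) : Fin 1 → X.Modules) i) := by
  intro i
  induction i using Fin.cases with
  | zero => exact hA
  | succ l => exact l.elim0

theorem fin_one₂ {P : X.Modules → X.Modules → Prop} (A B : X.Modules) (hA : P A B) :
    ∀ i : Fin 1, P ((Fin.cons A (Fin.elim0 : Fin 0 → X.Modules) : Fin 1 → X.Modules) i)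
      ((Fin.cons B (Fin.elim0 : Fin 0 → X.Modules) : Fin 1 → X.Modules) i) := by
  intro i
  induction i using Fin.cases with
  | zero => exact hA
  | succ l => exact l.elim0

theorem intNum_comm (hdim : topologicalKrullDim X = 2) (A B : X.Modules) :
    FGA.intNum k X 2 ![A, B] (Coh.structureModule X) =
      FGA.intNum k X 2 ![B, A] (Coh.structureModule X) :=
  Groth.Agent.Lib.R2H4SurfPos.intNum_swap k 2 (hd2 hdim) A B _

/-- `(I_D · M) = (M ; O_D)` for an effective Cartier divisor `D` -/
theorem intNum_cartier_eq (hdim : topologicalKrullDim X = 2) (D : X.IdealSheafData)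
    (hD : BlowUp.IsEffCartierIdeal D) (M : X.Modules) (hM : PicF.IsInvertible M) :
    FGA.intNum k X 2 ![ClSub.idealMod D, M] (Coh.structureModule X) =
      FGA.intNum k X 2 (Fin.cons M (Fin.elim0 : Fin 0 → X.Modules) : Fin 1 → X.Modules)
        (ClSub.quotMod D) := by
  haveI := Groth.Agent.Lib.R2H1.CurveEuler.isNoetherian_of_proper k X
  have cO : Coh.IsCoh (Coh.structureModule X) :=
    Groth.Agent.Lib.R2H4BCGlue.isCoh_structureModule X
  have e1 := Groth.Agent.Lib.R2H4CMSurf.intNum_cons_cartier k 2 (hd2 hdim)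
    (Fin.cons M (Fin.elim0 : Fin 0 → X.Modules) : Fin 1 → X.Modules)
    (fin_one (P := PicF.IsInvertible) M hM) D hD (Coh.structureModule X) cO
    (fun x hx => Groth.Agent.Lib.R2H4CMSurf.not_isAssPoint_structure D hD x hx)
  have e2 := Groth.Agent.Lib.R2H4FGAAdd.intNum_congr k 2 (hd2 hdim)
    (Fin.cons M (Fin.elim0 : Fin 0 → X.Modules) : Fin 1 → X.Modules)
    (Groth.Agent.Lib.R2H4Quo.quoStructureIso D)
  exact e1.trans e2

/-- `(I_D · M) = χ(O_D) - χ(O_D ⊗ M)` -/
theorem intNum_cartier_eq_euler (hdim : topologicalKrullDim X = 2) (D : X.IdealSheafData)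
    (hD : BlowUp.IsEffCartierIdeal D) (M : X.Modules) (hM : PicF.IsInvertible M) :
    FGA.intNum k X 2 ![ClSub.idealMod D, M] (Coh.structureModule X) =
      Curv2.euler k X (ClSub.quotMod D) -
        Curv2.euler k X (CohB1.tensorMod (ClSub.quotMod D) M) := by
  rw [intNum_cartier_eq k hdim D hD M hM]
  have h1 := Groth.Agent.Lib.R2H4FGAAdd.intNum_cons k 2 (hd2 hdim)
    (Fin.elim0 : Fin 0 → X.Modules) M (ClSub.quotMod D)
  rw [Groth.Agent.Lib.R2H4FGANewton.intNum_zero k 2 (hd2 hdim),
    Groth.Agent.Lib.R2H4FGANewton.intNum_zero k 2 (hd2 hdim),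
    Groth.Agent.Lib.R2H4GVSch.eulerCharLE_eq_euler k X 2 (hd2 hdim),
    Groth.Agent.Lib.R2H4GVSch.eulerCharLE_eq_euler k X 2 (hd2 hdim)] at h1
  exact_mod_cast h1

theorem intNum_pos_of_dim_one (hdim : topologicalKrullDim X = 2) (D : X.IdealSheafData)
    (hD : BlowUp.IsEffCartierIdeal D)
    (hDd : topologicalKrullDim (D.support : Set X) = 1)
    (H M₀ : X.Modules) (hH : CohB1.IsAmple H)
    (e : CohB1.tensorMod H M₀ ≅ Coh.structureModule X) :
    0 < FGA.intNum k X 2 ![ClSub.idealMod D, M₀] (Coh.structureModule X) := by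
  haveI := Groth.Agent.Lib.R2H1.CurveEuler.isNoetherian_of_proper k X
  have hM₀ : PicF.IsInvertible M₀ :=
    Groth.Agent.Lib.Helper2.TensorInv.isInvertible_of_tensor_iso M₀ H
      (Groth.Agent.Lib.R2H4TensorPows.tComm _ _ ≪≫ e)
  rw [intNum_cartier_eq k hdim D hD M₀ hM₀]
  refine Groth.Agent.Lib.R2H4FGAPos.s3233 k 2 (hd2 hdim)
    (Fin.cons H (Fin.elim0 : Fin 0 → X.Modules) : Fin 1 → X.Modules)
    (Fin.cons M₀ (Fin.elim0 : Fin 0 → X.Modules) : Fin 1 → X.Modules)
    (fin_one (P := CohB1.IsAmple) H hH)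
    (fin_one₂ (P := fun A B => Nonempty (CohB1.tensorMod A B ≅ Coh.structureModule X)) H M₀ ⟨e⟩)
    (ClSub.quotMod D) (Groth.Agent.Lib.R2H4Quo.isCoh_quotMod D) ?_
  rw [Groth.Agent.Lib.Helper6.OpenDim.topologicalKrullDim_congr_set (support_quotMod D), hDd]
  rfl

theorem intNum_zero_of_dim_lt (hdim : topologicalKrullDim X = 2) (D : X.IdealSheafData)
    (hD : BlowUp.IsEffCartierIdeal D)
    (hDd : topologicalKrullDim (D.support : Set X) < 1)
    (M : X.Modules) (hM : PicF.IsInvertible M) :
    FGA.intNum k X 2 ![ClSub.idealMod D, M] (Coh.structureModule X) = 0 := by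
  haveI := Groth.Agent.Lib.R2H1.CurveEuler.isNoetherian_of_proper k X
  rw [intNum_cartier_eq k hdim D hD M hM]
  refine Groth.Agent.Lib.R2H4FGASnapper.s3231 k 2 (hd2 hdim) _
    (fin_one (P := PicF.IsInvertible) M hM)
    (ClSub.quotMod D) (Groth.Agent.Lib.R2H4Quo.isCoh_quotMod D) ?_
  rw [Groth.Agent.Lib.Helper6.OpenDim.topologicalKrullDim_congr_set (support_quotMod D)]
  exact_mod_cast hDd

end Int

section Int2

variable (k : Type u) [Field k] {X : Scheme.{u}} [X.Over (Spec (CommRingCat.of k))]
  [IsProper (X ↘ Spec (CommRingCat.of k))] [IsIntegral X]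

theorem genericPoint_not_mem_support [IsNoetherian X] (F : X.IdealSheafData)
    (hF : BlowUp.IsEffCartierIdeal F) : genericPoint X ∉ F.support := by
  intro h
  refine Groth.Agent.Lib.R2H4CMSurf.not_isAssPoint_structure F hF _ h ?_
  rw [Groth.Agent.Lib.Helper23.UnitStalk.isAssPoint_structureModule_iff]
  have hbot : IsLocalRing.maximalIdeal (X.presheaf.stalk (genericPoint X)) = ⊥ :=
    IsLocalRing.maximalIdeal_eq_bot (R := X.functionField)
  rw [hbot, isAssociatedPrime_iff]
  refine ⟨Ideal.isPrime_bot, 1, ?_⟩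
  ext r
  rw [Submodule.mem_colon_singleton, Submodule.mem_bot, Ideal.mem_bot, smul_eq_mul, mul_one]

include k

theorem dim_support_le_one (hdim : topologicalKrullDim X = 2) (F : X.IdealSheafData)
    (hF : BlowUp.IsEffCartierIdeal F) : topologicalKrullDim (F.support : Set X) ≤ 1 := by
  haveI := Groth.Agent.Lib.R2H1.CurveEuler.isNoetherian_of_proper k X
  have hne : (F.support : Set X) ≠ Set.univ := fun h =>
    genericPoint_not_mem_support F hF (by
      show genericPoint X ∈ (F.support : Set X)
      rw [h]; exact Set.mem_univ _)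
  have huniv : topologicalKrullDim ↥(Set.univ : Set X) = 2 := by
    rw [← hdim]
    exact IsHomeomorph.topologicalKrullDim_eq _ (Homeomorph.Set.univ X).isHomeomorph
  have hlt := Groth.Agent.Lib.Helper8.Conn.dim_lt_of_proper_closed (C := (Set.univ : Set X))
    (Z := (F.support : Set X)) (IrreducibleSpace.isIrreducible_univ X) F.support.isClosed
    (Set.subset_univ _) hne (by rw [huniv]; exact WithBot.coe_lt_coe.2 (ENat.natCast_lt_top 2))
  rw [huniv] at hlt
  have h2 : (2 : WithBot ℕ∞) = ((1 : ℕ) : WithBot ℕ∞) + 1 := by norm_num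
  rw [h2] at hlt
  exact_mod_cast ENat.WithBot.lt_add_one_iff.1 hlt

variable [Smooth (X ↘ Spec (CommRingCat.of k))]

theorem intNum_nonneg_of_finite (hdim : topologicalKrullDim X = 2) (IC ID : X.IdealSheafData)
    (hC : BlowUp.IsEffCartierIdeal IC) (hD : BlowUp.IsEffCartierIdeal ID)
    (hfin : ((IC.support : Set X) ∩ ID.support).Finite) :
    0 ≤ FGA.intNum k X 2 ![ClSub.idealMod IC, ClSub.idealMod ID] (Coh.structureModule X) := by
  have hsupp : ((IC ⊔ ID).support : Set X) = (IC.support : Set X) ∩ ID.support := by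
    rw [Scheme.IdealSheafData.support_sup]
    rfl
  have h := Groth.Agent.Lib.R2H4CMSurf.s7871 k (hdim_comp hdim) (isCM k) IC ID hC hD
    (by rw [hsupp]; exact hfin)
  rw [h]
  exact Int.natCast_nonneg _

/-- an effective Cartier divisor on a smooth surface has no isolated points -/
theorem not_dim_support_le_zero (hdim : topologicalKrullDim X = 2) (F : X.IdealSheafData)
    (hF : BlowUp.IsEffCartierIdeal F) (x : X) (hx : x ∈ F.support) :
    ¬ topologicalKrullDim (F.support : Set X) ≤ 0 := by
  intro hle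
  haveI := Groth.Agent.Lib.R2H1.CurveEuler.isNoetherian_of_proper k X
  have cO : Coh.IsCoh (Coh.structureModule X) :=
    Groth.Agent.Lib.R2H4BCGlue.isCoh_structureModule X
  have cQ := Groth.Agent.Lib.R2H4SerreSupp.isCoh_quo F _ cO
  haveI : (Groth.Agent.Lib.R2H4SerreSupp.quo F (Coh.structureModule X)).IsQuasicoherent := cQ.1
  -- stalk dimensions on the support
  have hstalk : ∀ y : X, y ∈ F.support → 2 ≤ ringKrullDim (X.presheaf.stalk y) := by
    intro y hy
    have hcl : closure ({y} : Set X) ⊆ (F.support : Set X) :=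
      closure_minimal (Set.singleton_subset_iff.2 hy) F.support.isClosed
    have h1 : topologicalKrullDim ↥(closure ({y} : Set X)) ≤ 0 :=
      le_trans (Topology.IsInducing.topologicalKrullDim_le
        (Topology.IsEmbedding.inclusion hcl).isInducing) hle
    rw [dim_closure k y] at h1
    have h0 : ptTrdeg (X ↘ Spec (CommRingCat.of k)) y = 0 := by
      have : ptTrdeg (X ↘ Spec (CommRingCat.of k)) y ≤ 0 := by exact_mod_cast h1
      omega
    have h := stalk_add k hdim y
    rw [h0] at h
    simp only [Nat.cast_zero, add_zero] at h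
    rw [h]
  -- `x` lies in the support of the quotient
  have hxs : x ∈ CohB1.support (Groth.Agent.Lib.R2H4SerreSupp.quo F (Coh.structureModule X)) := by
    rw [Groth.Agent.Lib.H6xSuppPush.support_eq_of_iso (Groth.Agent.Lib.R2H4Quo.quoStructureIso F),
      support_quotMod]
    exact hx
  have hnt : Nontrivial ((Groth.Agent.Lib.R2H4SerreSupp.quo F
      (Coh.structureModule X)).presheaf.stalk x) := not_subsingleton_iff_nontrivial.1 hxs
  obtain ⟨s, hs⟩ := exists_ne (0 : (Groth.Agent.Lib.R2H4SerreSupp.quo F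
      (Coh.structureModule X)).presheaf.stalk x)
  obtain ⟨V, hxV, m, hm⟩ := TopCat.Presheaf.exists_germ_eq _ s
  obtain ⟨W, hW, hxW, hWV'⟩ := exists_isAffineOpen_mem_and_subset (x := x) (U := V) hxV
  have hWV : W ≤ V := hWV'
  have hgerm : (Groth.Agent.Lib.R2H4SerreSupp.quo F (Coh.structureModule X)).presheaf.germ W x hxW
      ((Groth.Agent.Lib.R2H4SerreSupp.quo F (Coh.structureModule X)).presheaf.map
        (homOfLE hWV).op m) ≠ 0 := by
    rw [TopCat.Presheaf.germ_res_apply, hm]
    exact hs
  obtain ⟨x', hx'W, hsp, hass, -⟩ :=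
    Groth.Agent.Lib.Helper20.ZClosLib.exists_assPoint_of_germ_ne_zero'
      (Groth.Agent.Lib.R2H4SerreSupp.quo F (Coh.structureModule X)) hW x hxW _ hgerm
  haveI := isCM k x'
  exact Groth.Agent.Lib.R2H4CMSurf.not_isAssPoint_quo F hF x' (hstalk x') hass

theorem intNum_cartier_nonneg (hdim : topologicalKrullDim X = 2) (F : X.IdealSheafData)
    (hF : BlowUp.IsEffCartierIdeal F) (H M₀ : X.Modules) (hH : CohB1.IsAmple H)
    (e : CohB1.tensorMod H M₀ ≅ Coh.structureModule X) :
    0 ≤ FGA.intNum k X 2 ![ClSub.idealMod F, M₀] (Coh.structureModule X) ∧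
      (FGA.intNum k X 2 ![ClSub.idealMod F, M₀] (Coh.structureModule X) = 0 → F = ⊤) := by
  have hM₀ : PicF.IsInvertible M₀ :=
    Groth.Agent.Lib.Helper2.TensorInv.isInvertible_of_tensor_iso M₀ H
      (Groth.Agent.Lib.R2H4TensorPows.tComm _ _ ≪≫ e)
  have hle := dim_support_le_one k hdim F hF
  by_cases h1 : topologicalKrullDim (F.support : Set X) = 1
  · have hpos := intNum_pos_of_dim_one k hdim F hF h1 H M₀ hH e
    exact ⟨hpos.le, fun h0 => absurd h0 hpos.ne'⟩
  · have hlt : topologicalKrullDim (F.support : Set X) < 1 := lt_of_le_of_ne hle h1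
    refine ⟨(intNum_zero_of_dim_lt k hdim F hF hlt M₀ hM₀).ge, fun _ => ?_⟩
    by_contra hne
    have hne' : F.support ≠ ⊥ := fun h => hne ((Scheme.IdealSheafData.support_eq_bot_iff F).1 h)
    obtain ⟨x, hx⟩ : ∃ x : X, x ∈ F.support := by
      by_contra hcon
      push Not at hcon
      exact hne' (TopologicalSpace.Closeds.ext (Set.eq_empty_of_forall_notMem hcon))
    refine not_dim_support_le_zero k hdim F hF x hx ?_
    have h2 : (1 : WithBot ℕ∞) = ((0 : ℕ) : WithBot ℕ∞) + 1 := by norm_num
    rw [h2] at hlt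
    exact_mod_cast ENat.WithBot.lt_add_one_iff.1 hlt

theorem eq_of_support_eq (C D : X.IdealSheafData) [IsReduced C.subscheme]
    [IsReduced D.subscheme] (h : C.support = D.support) : C = D := by
  have hC := Groth.Agent.Lib.Helper11RedCl.ker_eq_of_isReduced C.subschemeι
  have hD := Groth.Agent.Lib.Helper11RedCl.ker_eq_of_isReduced D.subschemeι
  rw [Scheme.IdealSheafData.ker_subschemeι, Scheme.IdealSheafData.range_subschemeι] at hC hD
  rw [hC, hD, h]

theorem not_support_subset (C D : X.IdealSheafData) [IsIntegral C.subscheme]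
    [IsIntegral D.subscheme] (hCd : topologicalKrullDim (C.support : Set X) = 1)
    (hDd : topologicalKrullDim (D.support : Set X) = 1) (hne : C ≠ D) :
    ¬ (C.support : Set X) ⊆ D.support := by
  intro hsub
  have hne' : (C.support : Set X) ≠ D.support := fun h =>
    hne (eq_of_support_eq k C D (TopologicalSpace.Closeds.ext h))
  have hirr : IsIrreducible (D.support : Set X) := by
    rw [← closure_gp D]
    exact isIrreducible_singleton.closure
  have hlt := Groth.Agent.Lib.Helper8.Conn.dim_lt_of_proper_closed hirr C.support.isClosed hsub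
    hne' (by rw [hDd]; exact WithBot.coe_lt_coe.2 (ENat.natCast_lt_top 1))
  rw [hCd, hDd] at hlt
  exact lt_irrefl _ hlt

theorem gram_offdiag_nonneg (hdim : topologicalKrullDim X = 2) (C D : X.IdealSheafData)
    [IsIntegral C.subscheme] [IsIntegral D.subscheme]
    (hCd : topologicalKrullDim (C.support : Set X) = 1)
    (hDd : topologicalKrullDim (D.support : Set X) = 1) (hne : C ≠ D) :
    0 ≤ FGA.intNum k X 2 ![ClSub.idealMod C, ClSub.idealMod D] (Coh.structureModule X) :=
  intNum_nonneg_of_finite k hdim C D (isEffCartier_curve k hdim C hCd)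
    (isEffCartier_curve k hdim D hDd)
    (finite_inter k hdim C hCd _ D.support.isClosed (not_support_subset k C D hCd hDd hne))

end Int2

end Groth.Agent.Lib.H9NegDefGeo
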