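import Mathlib
import Groth.Prelude
import Groth.Agent.Lib.H9NegDefGeo
import Groth.Agent.Lib.Helper23UnitStalk
import Groth.Agent.Lib.R2H4BCGlue
set_option backward.isDefEq.respectTransparency.types false

/-!
# Negative definite configurations and the Picard number (helper9)

* `real_nonpos` : an integer matrix that is negative definite on `ℤ^r` is negative semidefinite on `ℝ^r`.
* `det_ne_zero` : and has nonzero determinant.
* `card_succ_le_finrank` : linear algebra core: `r` vectors with negative definite integer Gram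
  matrix and one more vector of positive square are linearly independent.
* `main` : S19736.
-/

set_option autoImplicit false
set_option linter.style.haveILetI false
set_option linter.unusedSectionVars false
universe u
open CategoryTheory CategoryTheory.Limits AlgebraicGeometry TopologicalSpace Opposite

noncomputable section

namespace Groth.Agent.Lib.H9NegDefRank

section LinAlg

variable {r : ℕ} (G : Matrix (Fin r) (Fin r) ℤ)

/-- the quadratic form of `G` over a commutative ring -/
def qf {A : Type*} [CommRing A] (c : Fin r → A) : A :=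
  ∑ i, ∑ j, c i * c j * ((G i j : ℤ) : A)

theorem qf_eq_dot (a : Fin r → ℤ) : qf G a = ∑ i, a i * (G.mulVec a) i := by
  unfold qf Matrix.mulVec dotProduct
  refine Finset.sum_congr rfl fun i _ => ?_
  rw [Finset.mul_sum]
  refine Finset.sum_congr rfl fun j _ => ?_
  rw [Int.cast_id]; ring

theorem det_ne_zero (hneg : ∀ a : Fin r → ℤ, a ≠ 0 → qf G a < 0) : G.det ≠ 0 := by
  intro hdet
  obtain ⟨a, ha, haG⟩ := Matrix.exists_mulVec_eq_zero_iff.mpr hdet
  have h := hneg a ha
  rw [qf_eq_dot, haG] at h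
  simp at h

theorem qf_smul {A : Type*} [CommRing A] (t : A) (c : Fin r → A) :
    qf G (fun i => t * c i) = t ^ 2 * qf G c := by
  unfold qf
  rw [Finset.mul_sum]
  refine Finset.sum_congr rfl fun i _ => ?_
  rw [Finset.mul_sum]
  refine Finset.sum_congr rfl fun j _ => ?_
  ring

theorem qf_cast (a : Fin r → ℤ) : qf G (fun i => ((a i : ℤ) : ℝ)) = ((qf G a : ℤ) : ℝ) := by
  unfold qf
  push_cast
  rfl

theorem continuous_qf : Continuous (fun c : Fin r → ℝ => qf G c) := by
  unfold qf
  fun_prop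

theorem rat_nonpos (hneg : ∀ a : Fin r → ℤ, a ≠ 0 → qf G a < 0) (q : Fin r → ℚ) :
    qf G (fun i => ((q i : ℚ) : ℝ)) ≤ 0 := by
  obtain ⟨b, hb⟩ := IsLocalization.exist_integer_multiples (nonZeroDivisors ℤ) Finset.univ q
  choose a ha using fun i => hb i (Finset.mem_univ i)
  have hb0 : ((b : ℤ) : ℝ) ≠ 0 := by
    have := nonZeroDivisors.ne_zero b.2
    exact_mod_cast this
  have h1 : ∀ i, ((b : ℤ) : ℝ) * ((q i : ℚ) : ℝ) = ((a i : ℤ) : ℝ) := by
    intro i
    have := ha i
    rw [Algebra.smul_def] at this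
    have h2 : ((algebraMap ℤ ℚ (a i) : ℚ) : ℝ) = (((algebraMap ℤ ℚ (b : ℤ)) * q i : ℚ) : ℝ) := by
      rw [this]
    simpa using h2.symm
  have h3 : ((b : ℤ) : ℝ) ^ 2 * qf G (fun i => ((q i : ℚ) : ℝ)) = ((qf G a : ℤ) : ℝ) := by
    rw [← qf_smul, ← qf_cast]
    congr 1
    funext i
    exact h1 i
  have h4 : qf G a ≤ 0 := by
    by_cases h0 : a = 0
    · subst h0
      unfold qf
      simp
    · exact (hneg a h0).le
  have h5 : ((b : ℤ) : ℝ) ^ 2 * qf G (fun i => ((q i : ℚ) : ℝ)) ≤ 0 := by
    rw [h3]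
    exact_mod_cast h4
  have h6 : 0 < ((b : ℤ) : ℝ) ^ 2 := by positivity
  by_contra hcon
  push Not at hcon
  have := mul_pos h6 hcon
  linarith

theorem real_nonpos (hneg : ∀ a : Fin r → ℤ, a ≠ 0 → qf G a < 0) (c : Fin r → ℝ) :
    qf G c ≤ 0 := by
  have hd : DenseRange (fun q : Fin r → ℚ => fun i => ((q i : ℚ) : ℝ)) :=
    DenseRange.piMap (fun _ => Rat.denseRange_cast)
  refine hd.induction_on (p := fun c => qf G c ≤ 0) c ?_ (fun q => rat_nonpos G hneg q)
  exact isClosed_le (continuous_qf G) continuous_const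

variable {V : Type*} [AddCommGroup V] [Module ℝ V] [Module.Finite ℝ V]

theorem B_sum (B : V →ₗ[ℝ] V →ₗ[ℝ] ℝ) (v : Fin r → V)
    (hG : ∀ i j, B (v i) (v j) = ((G i j : ℤ) : ℝ)) (c : Fin r → ℝ) :
    B (∑ i, c i • v i) (∑ j, c j • v j) = qf G c := by
  unfold qf
  have h1 : ∀ y, B (∑ i, c i • v i) y = ∑ i, c i * B (v i) y := fun y => by
    simp only [map_sum, map_smul, LinearMap.sum_apply, LinearMap.smul_apply, smul_eq_mul]
  rw [h1]
  refine Finset.sum_congr rfl fun i _ => ?_
  rw [map_sum, Finset.mul_sum]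
  refine Finset.sum_congr rfl fun j _ => ?_
  rw [map_smul, smul_eq_mul, hG]
  ring

theorem card_succ_le_finrank (B : V →ₗ[ℝ] V →ₗ[ℝ] ℝ) (v : Fin r → V) (h : V)
    (hG : ∀ i j, B (v i) (v j) = ((G i j : ℤ) : ℝ))
    (hneg : ∀ a : Fin r → ℤ, a ≠ 0 → qf G a < 0) (hh : 0 < B h h) :
    r + 1 ≤ Module.finrank ℝ V := by
  have hdet := det_ne_zero G hneg
  have hdetR : (G.map (Int.castRingHom ℝ)).det ≠ 0 := by
    have h1 : (G.map (Int.castRingHom ℝ)).det = (Int.castRingHom ℝ) G.det := by
      rw [RingHom.map_det, RingHom.mapMatrix_apply]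
    rw [h1]
    simpa using hdet
  have hli : LinearIndependent ℝ (Fin.cons h v : Fin (r + 1) → V) := by
    rw [Fintype.linearIndependent_iff]
    intro g hg
    rw [Fin.sum_univ_succ] at hg
    simp only [Fin.cons_zero, Fin.cons_succ] at hg
    have key : ∀ c : Fin r → ℝ, ∑ i, c i • v i = 0 → c = 0 := by
      intro c hc
      refine Matrix.eq_zero_of_mulVec_eq_zero hdetR ?_
      funext j
      have h1 : B (v j) (∑ i, c i • v i) = 0 := by rw [hc, map_zero]
      rw [map_sum] at h1
      simp only [Matrix.mulVec, dotProduct, Matrix.map_apply, Pi.zero_apply]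
      rw [← h1]
      refine Finset.sum_congr rfl fun i _ => ?_
      rw [map_smul, hG, smul_eq_mul]
      simp [mul_comm]
    by_cases h0 : g 0 = 0
    · rw [h0, zero_smul, zero_add] at hg
      have hc := key (fun i => g i.succ) hg
      intro i
      refine Fin.cases h0 (fun j => ?_) i
      exact congrFun hc j
    · exfalso
      have hh' : h = ∑ i, (-(g 0)⁻¹ * g i.succ) • v i := by
        have h1 : g 0 • h = -∑ i, g i.succ • v i := eq_neg_of_add_eq_zero_left hg
        have h2 : h = (g 0)⁻¹ • (g 0 • h) := by rw [smul_smul, inv_mul_cancel₀ h0, one_smul]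
        rw [h2, h1, smul_neg, Finset.smul_sum, ← Finset.sum_neg_distrib]
        refine Finset.sum_congr rfl fun i _ => ?_
        rw [smul_smul, neg_mul, neg_smul]
      have h3 := B_sum G B v hG (fun i => -(g 0)⁻¹ * g i.succ)
      rw [← hh'] at h3
      have h4 := real_nonpos G hneg (fun i => -(g 0)⁻¹ * g i.succ)
      linarith
  have := hli.fintype_card_le_finrank
  simpa using this

end LinAlg

section Geo

variable (k : Type u) [Field k] (X : Scheme.{u}) [X.Over (Spec (CommRingCat.of k))]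
  [IsProper (X ↘ (Spec (CommRingCat.of k)))]

theorem main [AlgebraicGeometry.IsIntegral X] (hdim : topologicalKrullDim X = 2)
    (hproj : ∃ H : X.Modules, CohB1.IsAmple H) [PicGrp.Law X] [Module.Finite ℝ (NumR.N1R k X)]
    (B : NumR.N1R k X →ₗ[ℝ] NumR.N1R k X →ₗ[ℝ] ℝ) (hB : NumR.IsIntForm₂ k X B)
    (r : ℕ) (C : Fin r → X.IdealSheafData)
    (hCinv : ∀ i, PicF.IsInvertible (ClSub.idealMod (C i)))
    (hneg : ∀ a : Fin r → ℤ, a ≠ 0 →
      ∑ i, ∑ j, a i * a j * FGA.intNum k X 2 ![(ClSub.idealMod (C i)), (ClSub.idealMod (C j))]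
        (Coh.structureModule X) < 0) :
    r + 1 ≤ Module.finrank ℝ (NumR.N1R k X) := by
  obtain ⟨H, hH⟩ := hproj
  obtain ⟨M₀, hM₀, ⟨e⟩⟩ := Groth.Agent.Lib.R2H1.InvExists.exists_inverse H hH.1
  let G : Matrix (Fin r) (Fin r) ℤ := fun i j =>
    FGA.intNum k X 2 ![(ClSub.idealMod (C i)), (ClSub.idealMod (C j))] (Coh.structureModule X)
  refine card_succ_le_finrank G B (fun i => NumR.clR k X (ClSub.idealMod (C i)) (hCinv i))
    (NumR.clR k X M₀ hM₀) (fun i j => hB _ _ _ _) ?_ ?_
  · intro a ha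
    have := hneg a ha
    unfold qf
    simpa [G] using this
  · rw [hB]
    have hd2 : topologicalKrullDim X ≤ (2 : ℕ) := by rw [hdim]; rfl
    have h1 := Groth.Agent.Lib.R2H4FGAPos.s3233 k 2 hd2 (r := 2) ![H, H] ![M₀, M₀]
      (fun i => by fin_cases i <;> exact hH) (fun i => by fin_cases i <;> exact ⟨e⟩)
      (Coh.structureModule X) (Groth.Agent.Lib.R2H4BCGlue.isCoh_structureModule X) ?_
    · exact_mod_cast h1
    · have hs : CohB1.support (Coh.structureModule X) = Set.univ := by
        ext x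
        simp only [CohB1.support, Set.mem_ofPred_eq, Set.mem_univ, iff_true]
        intro hsub
        haveI := Groth.Agent.Lib.Helper23.UnitStalk.nontrivial_stalk_structureModule (Y := X) x
        exact not_subsingleton _ hsub
      rw [Groth.Agent.Lib.Helper6.OpenDim.topologicalKrullDim_congr_set hs]
      rw [IsHomeomorph.topologicalKrullDim_eq _ (Homeomorph.Set.univ X).isHomeomorph, hdim]
      rfl

end Geo

end Groth.Agent.Lib.H9NegDefRank
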