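import Mathlib
import Groth.Agent.Lib.H9NegDefRank
set_option backward.isDefEq.respectTransparency.types false

/-!
# Real quadratic spaces of hyperbolic signature (helper9)

Abstract linear algebra behind the positive cone of a surface.  `Hyp B h` : `B` is a symmetric
bilinear form on a real vector space, `B h h > 0` and `B ≤ 0` on `h^⊥` (the Hodge index property).

* `real_nonpos'` : an integer matrix which is negative semidefinite on `ℤ^r` is so on `ℝ^r`.
* `Hyp.cs` : Cauchy–Schwarz on `h^⊥`.
* `Hyp.pos` : `x² > 0`, `x·h > 0`, `y² ≥ 0`, `y·h > 0` ⟹ `x·y > 0`.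
* `Hyp.convex_posCone`, `Hyp.isOpen_posCone`.
* `Hyp.eq_zero` : with `B` nondegenerate: `x` in the positive cone, `y² ≥ 0`, `x·y = 0` ⟹ `y = 0`.
-/

set_option autoImplicit false
set_option linter.style.haveILetI false
set_option linter.unusedSectionVars false
universe u

noncomputable section

namespace Groth.Agent.Lib.H9N1RHodgeAlg

open Groth.Agent.Lib.H9NegDefRank

section Density

variable {r : ℕ} (G : Matrix (Fin r) (Fin r) ℤ)

theorem rat_nonpos' (hneg : ∀ a : Fin r → ℤ, qf G a ≤ 0) (q : Fin r → ℚ) :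
    qf G (fun i => ((q i : ℚ) : ℝ)) ≤ 0 := by
  obtain ⟨b, hb⟩ := IsLocalization.exist_integer_multiples (nonZeroDivisors ℤ) Finset.univ q
  choose a ha using fun i => hb i (Finset.mem_univ i)
  have hb0 : ((b : ℤ) : ℝ) ≠ 0 := by
    have := nonZeroDivisors.ne_zero b.2
    exact_mod_cast this
  have h1 : ∀ i, ((b : ℤ) : ℝ) * ((q i : ℚ) : ℝ) = ((a i : ℤ) : ℝ) := by
    intro i
    have := ha i
    rw [Algebra.smul_def] at this
    have h2 : ((algebraMap ℤ ℚ (a i) : ℚ) : ℝ) = (((algebraMap ℤ ℚ (b : ℤ)) * q i : ℚ) : ℝ) := by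
      rw [this]
    simpa using h2.symm
  have h3 : ((b : ℤ) : ℝ) ^ 2 * qf G (fun i => ((q i : ℚ) : ℝ)) = ((qf G a : ℤ) : ℝ) := by
    rw [← qf_smul, ← qf_cast]
    congr 1
    funext i
    exact h1 i
  have h5 : ((b : ℤ) : ℝ) ^ 2 * qf G (fun i => ((q i : ℚ) : ℝ)) ≤ 0 := by
    rw [h3]
    exact_mod_cast hneg a
  have h6 : 0 < ((b : ℤ) : ℝ) ^ 2 := by positivity
  by_contra hcon
  push Not at hcon
  have := mul_pos h6 hcon
  linarith

theorem real_nonpos' (hneg : ∀ a : Fin r → ℤ, qf G a ≤ 0) (c : Fin r → ℝ) :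
    qf G c ≤ 0 := by
  have hd : DenseRange (fun q : Fin r → ℚ => fun i => ((q i : ℚ) : ℝ)) :=
    DenseRange.piMap (fun _ => Rat.denseRange_cast)
  refine hd.induction_on (p := fun c => qf G c ≤ 0) c ?_ (fun q => rat_nonpos' G hneg q)
  exact isClosed_le (continuous_qf G) continuous_const

end Density

variable {V : Type*} [AddCommGroup V] [Module ℝ V]

/-- hyperbolic signature data -/
structure Hyp (B : V →ₗ[ℝ] V →ₗ[ℝ] ℝ) (h : V) : Prop where
  symm : ∀ x y, B x y = B y x
  pos : 0 < B h h
  hodge : ∀ w, B w h = 0 → B w w ≤ 0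

namespace Hyp

variable {B : V →ₗ[ℝ] V →ₗ[ℝ] ℝ} {h : V} (H : Hyp B h)
include H

theorem cs (w w' : V) (hw : B w h = 0) (hw' : B w' h = 0) :
    (B w w') ^ 2 ≤ B w w * B w' w' := by
  have key : ∀ t : ℝ, B w' w' * (t * t) + 2 * B w w' * t + B w w ≤ 0 := by
    intro t
    have h1 : B (w + t • w') h = 0 := by
      rw [map_add, LinearMap.add_apply, map_smul, LinearMap.smul_apply, hw, hw']
      simp
    have h2 := H.hodge _ h1
    have h3 : B (w + t • w') (w + t • w') =
        B w' w' * (t * t) + 2 * B w w' * t + B w w := by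
      simp only [map_add, LinearMap.add_apply, map_smul, LinearMap.smul_apply, smul_eq_mul]
      rw [H.symm w' w]
      ring
    rwa [h3] at h2
  have := discrim_le_zero_of_nonpos key
  unfold discrim at this
  nlinarith

/-- the `h^⊥`-component -/
def perp (_ : Hyp B h) (x : V) : V := x - (B x h / B h h) • h

theorem perp_orth (x : V) : B (H.perp x) h = 0 := by
  unfold perp
  rw [map_sub, LinearMap.sub_apply, map_smul, LinearMap.smul_apply, smul_eq_mul,
    div_mul_cancel₀ _ H.pos.ne', sub_self]

theorem eq_add_perp (x : V) : x = (B x h / B h h) • h + H.perp x := by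
  unfold perp
  abel

theorem B_eq (x y : V) :
    B x y = (B x h / B h h) * (B y h / B h h) * B h h + B (H.perp x) (H.perp y) := by
  have hx := H.perp_orth x
  have hy := H.perp_orth y
  have hy' : B h (H.perp y) = 0 := by rw [H.symm]; exact hy
  conv_lhs => rw [H.eq_add_perp x, H.eq_add_perp y]
  simp only [map_add, LinearMap.add_apply, map_smul, LinearMap.smul_apply, smul_eq_mul, hx, hy']
  ring

theorem pos_of (x y : V) (hx : 0 < B x x) (hxh : 0 < B x h) (hy : 0 ≤ B y y) (hyh : 0 < B y h) :
    0 < B x y := by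
  set a := B x h / B h h with ha
  set b := B y h / B h h with hb
  set Hh := B h h with hHh
  have hHpos : 0 < Hh := H.pos
  have ha0 : 0 < a := div_pos hxh hHpos
  have hb0 : 0 < b := div_pos hyh hHpos
  have hxx := H.B_eq x x
  have hyy := H.B_eq y y
  have hxy := H.B_eq x y
  rw [← ha, ← hHh] at hxx
  rw [← hb, ← hHh] at hyy
  rw [← ha, ← hb, ← hHh] at hxy
  have hX : B (H.perp x) (H.perp x) ≤ 0 := H.hodge _ (H.perp_orth x)
  have hY : B (H.perp y) (H.perp y) ≤ 0 := H.hodge _ (H.perp_orth y)
  have hcs := H.cs _ _ (H.perp_orth x) (H.perp_orth y)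
  set X := B (H.perp x) (H.perp x)
  set Y := B (H.perp y) (H.perp y)
  set Z := B (H.perp x) (H.perp y)
  -- `-X < a² H`, `-Y ≤ b² H`, `Z² ≤ X Y`
  have h1 : -X < a * a * Hh := by linarith
  have h2 : -Y ≤ b * b * Hh := by linarith
  have h3 : Z ^ 2 < (a * b * Hh) ^ 2 := by
    have h4 : X * Y ≤ (-X) * (b * b * Hh) := by nlinarith
    have h5 : (-X) * (b * b * Hh) < (a * a * Hh) * (b * b * Hh) := by
      apply mul_lt_mul_of_pos_right h1
      positivity
    nlinarith
  have h6 : |Z| < |a * b * Hh| := sq_lt_sq.mp h3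
  rw [abs_of_pos (by positivity : 0 < a * b * Hh)] at h6
  have h7 := neg_abs_le Z
  rw [hxy]
  linarith

theorem convex_posCone : Convex ℝ {x : V | 0 < B x x ∧ 0 < B x h} := by
  intro x hx y hy a b ha hb hab
  obtain ⟨hx1, hx2⟩ := hx
  obtain ⟨hy1, hy2⟩ := hy
  have hxy := H.pos_of x y hx1 hx2 hy1.le hy2
  refine ⟨?_, ?_⟩
  · have h1 : B (a • x + b • y) (a • x + b • y) =
        a * a * B x x + 2 * a * b * B x y + b * b * B y y := by
      simp only [map_add, LinearMap.add_apply, map_smul, LinearMap.smul_apply, smul_eq_mul]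
      rw [H.symm y x]
      ring
    rw [h1]
    rcases ha.lt_or_eq with ha' | ha'
    · have : 0 < a * a * B x x := by positivity
      have : 0 ≤ 2 * a * b * B x y := by positivity
      have : 0 ≤ b * b * B y y := by positivity
      linarith
    · have hb1 : b = 1 := by rw [← ha'] at hab; simpa using hab
      rw [← ha', hb1]
      simpa using hy1
  · rw [map_add, LinearMap.add_apply, map_smul, LinearMap.smul_apply, map_smul,
      LinearMap.smul_apply, smul_eq_mul, smul_eq_mul]
    rcases ha.lt_or_eq with ha' | ha'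
    · have : 0 < a * B x h := by positivity
      have : 0 ≤ b * B y h := by positivity
      linarith
    · have hb1 : b = 1 := by rw [← ha'] at hab; simpa using hab
      rw [← ha', hb1]
      simpa using hy2

theorem eq_zero (nondeg : ∀ y, (∀ z, B y z = 0) → y = 0)
    (x y : V) (hx : 0 < B x x) (hxh : 0 < B x h) (hy : 0 ≤ B y y) (hxy : B x y = 0) : y = 0 := by
  have hyh : B y h = 0 := by
    rcases lt_trichotomy (B y h) 0 with hlt | heq | hgt
    · exfalso
      have h1 : 0 ≤ B (-y) (-y) := by simpa using hy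
      have h2 : 0 < B (-y) h := by simpa using hlt
      have := H.pos_of x (-y) hx hxh h1 h2
      rw [map_neg, hxy] at this
      simp at this
    · exact heq
    · exfalso
      have := H.pos_of x y hx hxh hy hgt
      rw [hxy] at this
      exact lt_irrefl _ this
  have hyy : B y y = 0 := le_antisymm (H.hodge y hyh) hy
  refine nondeg y fun z => ?_
  have h1 := H.B_eq y z
  rw [hyh] at h1
  have hp : H.perp y = y := by
    unfold perp
    rw [hyh]
    simp
  rw [hp] at h1
  have h2 := H.cs y (H.perp z) hyh (H.perp_orth z)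
  rw [hyy, zero_mul] at h2
  have h3 : B y (H.perp z) = 0 := by
    have : (B y (H.perp z)) ^ 2 = 0 := le_antisymm h2 (sq_nonneg _)
    exact pow_eq_zero_iff (two_ne_zero) |>.mp this
  rw [h1, h3]
  simp

end Hyp

section Topology

variable [TopologicalSpace V] [IsModuleTopology ℝ V] [Module.Finite ℝ V]

theorem isOpen_posCone (B : V →ₗ[ℝ] V →ₗ[ℝ] ℝ) (h : V) :
    IsOpen {x : V | 0 < B x x ∧ 0 < B x h} := by
  have h1 : Continuous (fun x : V => B x x) := by
    have := IsModuleTopology.continuous_bilinear_of_finite_left B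
    exact this.comp (continuous_id.prodMk continuous_id)
  have h2 : Continuous (fun x : V => B x h) :=
    IsModuleTopology.continuous_of_linearMap (B.flip h)
  exact (isOpen_lt continuous_const h1).inter (isOpen_lt continuous_const h2)

end Topology

end Groth.Agent.Lib.H9N1RHodgeAlg
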