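import Mathlib
import Groth.Prelude.Def_FDesc
import Groth.Agent.Lib.Helper13PullbackUnit
import Groth.Agent.Lib.Helper2QCoh
import Groth.Agent.Lib.Helper23AssAffine
import Groth.Agent.Lib.Helper20OmegaAff
import Groth.Agent.Lib.Helper20StalkExact

/-!
# Associated points and monomorphisms from the reduced closure of a point (round 2, helper3)

* `mono_of_injective_app_top`: on an affine scheme a morphism of quasi-coherent modules injective on global
  sections is a monomorphism (`injective_app_basicOpen` on basic opens).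
* `ideal_eq`: the vanishing ideal of `closure {x}` on an affine open `V ∋ x` is the prime of `x`.
* `isAssPoint_iff_exists_mono_restrict`: `x` is an associated point of a quasi-coherent `F` on a locally Noetherian
  scheme iff there is a monomorphism `O_Z|_U ⟶ F|_U` on an open neighbourhood `U` of `x` (restriction form).
* `exists_mono_pullback_iff_restrict`: pass between `pullback U.ι` and `restrict U.ι`.
-/

set_option autoImplicit false
set_option linter.style.haveILetI false
universe u
open CategoryTheory CategoryTheory.Limits AlgebraicGeometry TopologicalSpace Opposite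

namespace Groth.Agent.Lib.R2H3.AssMono

variable {X : Scheme.{u}}

/-- morphisms of modules agreeing on a basis of opens are equal. -/
theorem hom_ext_basis {M N : X.Modules} (φ ψ : M ⟶ N) (B : Set X.Opens)
    (hB : TopologicalSpace.Opens.IsBasis B)
    (h : ∀ U ∈ B, ∀ s : Γ(M, U), φ.app U s = ψ.app U s) : φ = ψ := by
  apply Scheme.Modules.hom_ext
  intro O
  ext s
  refine N.isSheaf.section_ext (U := op O) fun x hx => ?_
  obtain ⟨V, hVB, hxV, hVO⟩ := TopologicalSpace.Opens.isBasis_iff_nbhd.mp hB hx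
  refine ⟨V, hVO, hxV, ?_⟩
  have n1 := congr($(φ.mapPresheaf.naturality (homOfLE hVO).op) s)
  have n2 := congr($(ψ.mapPresheaf.naturality (homOfLE hVO).op) s)
  exact n1.symm.trans ((h V hVB _).trans n2)

/-- a morphism of modules injective on sections over a basis of opens is a monomorphism. -/
theorem mono_of_injective_app_basis {M N : X.Modules} (φ : M ⟶ N) (B : Set X.Opens)
    (hB : TopologicalSpace.Opens.IsBasis B)
    (h : ∀ U ∈ B, Function.Injective (φ.app U)) : Mono φ := by
  refine Preadditive.mono_of_cancel_zero _ fun {P} g hg => ?_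
  refine hom_ext_basis g 0 B hB fun U hU s => ?_
  apply h U hU
  have h1 := congr($((congrArg (fun θ => Scheme.Modules.Hom.app θ U) hg)) s)
  refine h1.trans ?_
  exact (map_zero _).symm

theorem app_res {H F : X.Modules} (ψ : H ⟶ F) {V W : X.Opens} (h : W ≤ V) (y : Γ(H, V)) :
    F.presheaf.map (homOfLE h).op (ψ.app V y) = ψ.app W (H.presheaf.map (homOfLE h).op y) := by
  have n := congr($(ψ.mapPresheaf.naturality (homOfLE h).op) y)
  exact n.symm

/-- a morphism of quasi-coherent modules injective on an affine open is injective on its basic opens -/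
theorem injective_app_basicOpen {V : X.Opens} (hV : IsAffineOpen V)
    {H F : X.Modules} [H.IsQuasicoherent] [F.IsQuasicoherent] (ψ : H ⟶ F)
    (hinj : Function.Injective (ψ.app V)) (f : Γ(X, V)) :
    Function.Injective (ψ.app (X.basicOpen f)) := by
  rw [injective_iff_map_eq_zero]
  intro s hs
  obtain ⟨n, t, ht⟩ := Groth.Agent.Lib.Helper2.QCoh.exists_extension hV H f s
  have h1 : F.presheaf.map (homOfLE (X.basicOpen_le f)).op (ψ.app V t) = 0 := by
    rw [app_res, ht, Scheme.Modules.Hom.app_smul, hs, smul_zero]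
  obtain ⟨k, hk⟩ := Groth.Agent.Lib.Helper2.QCoh.exists_pow_smul_eq_zero hV F f _ h1
  have h2 : f ^ k • t = 0 := hinj (by rw [Scheme.Modules.Hom.app_smul, hk, map_zero])
  have h3 : (X.presheaf.map (homOfLE (X.basicOpen_le f)).op f) ^ (k + n) • s = 0 := by
    rw [pow_add, mul_smul, ← ht, ← map_pow, ← Scheme.Modules.map_smul, h2, map_zero]
  have hu : IsUnit (X.presheaf.map (homOfLE (X.basicOpen_le f)).op f) :=
    X.toRingedSpace.isUnit_res_basicOpen f
  exact (hu.pow (k + n)).smul_eq_zero.mp h3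

/-- a morphism of quasi-coherent modules on an affine scheme injective on global sections is mono -/
theorem mono_of_injective_app_top [IsAffine X] {H F : X.Modules} [H.IsQuasicoherent]
    [F.IsQuasicoherent] (ψ : H ⟶ F) (hinj : Function.Injective (ψ.app ⊤)) : Mono ψ := by
  refine mono_of_injective_app_basis ψ _ (isBasis_basicOpen X) ?_
  rintro _ ⟨f, rfl⟩
  exact injective_app_basicOpen (isAffineOpen_top X) ψ hinj f

/-- the ideal sheaf of the reduced closure of a point -/
noncomputable abbrev II (x : X) : X.IdealSheafData :=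
  Scheme.IdealSheafData.vanishingIdeal ⟨closure {x}, isClosed_closure⟩

/-- the structure sheaf of the reduced closure of a point, as a module on `X` -/
noncomputable abbrev GG (x : X) : X.Modules :=
  (Scheme.Modules.pushforward (II x).subschemeι).obj (Coh.structureModule (II x).subscheme)

theorem ideal_eq (x : X) {V : X.Opens} (hV : IsAffineOpen V) (hx : x ∈ V) :
    (II x).ideal ⟨V, hV⟩ = (hV.primeIdealOf ⟨x, hx⟩).asIdeal := by
  rw [Scheme.IdealSheafData.vanishingIdeal_ideal]
  have h1 : (hV.fromSpec ⁻¹' ((⟨closure {x}, isClosed_closure⟩ : Closeds X) : Set X)) =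
      closure {hV.primeIdealOf ⟨x, hx⟩} := by
    change hV.fromSpec ⁻¹' (closure {x}) = _
    rw [hV.fromSpec.isOpenEmbedding.isOpenMap.preimage_closure_eq_closure_preimage
      hV.fromSpec.continuous]
    congr 1
    ext q
    simp only [Set.mem_preimage, Set.mem_singleton_iff]
    constructor
    · intro h
      apply hV.fromSpec.isOpenEmbedding.injective
      rw [h, hV.fromSpec_primeIdealOf]
    · intro h
      rw [h, hV.fromSpec_primeIdealOf]
  refine (congrArg PrimeSpectrum.vanishingIdeal h1).trans ?_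
  rw [PrimeSpectrum.vanishingIdeal_closure, PrimeSpectrum.vanishingIdeal_singleton]

/-- the map `Γ(X, W) → Γ(O_Z, W)` -/
noncomputable def kap (x : X) (W : X.Opens) : Γ(X, W) →+ Γ(GG x, W) :=
  AddMonoidHom.mk' (fun r => (show Γ(GG x, W) from ((II x).subschemeι.app W r)))
    (fun a b => map_add ((II x).subschemeι.app W).hom a b)

theorem kap_apply (x : X) (W : X.Opens) (r : Γ(X, W)) :
    kap x W r = (show Γ(GG x, W) from ((II x).subschemeι.app W r)) := rfl

theorem kap_surjective (x : X) {W : X.Opens} (hW : IsAffineOpen W) :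
    Function.Surjective (kap x W) := fun y =>
  (II x).subschemeι_app_surjective ⟨W, hW⟩ y

theorem kap_eq_zero_iff (x : X) {W : X.Opens} (hW : IsAffineOpen W) (r : Γ(X, W)) :
    kap x W r = 0 ↔ r ∈ (II x).ideal ⟨W, hW⟩ := by
  rw [← (II x).ker_subschemeι_app ⟨W, hW⟩, RingHom.mem_ker]
  rfl

theorem smul_kap (x : X) (W : X.Opens) (r a : Γ(X, W)) :
    r • kap x W a = kap x W (r * a) := by
  rw [kap_apply, kap_apply, Groth.Agent.Helper13PullbackUnit.pushforward_smul, map_mul]
  rfl

instance (x : X) : (GG x).IsQuasicoherent :=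
  Groth.Agent.Lib.Helper23.QCohLocal.isQuasicoherent_pushforward _ _

theorem exists_factor {A B C : Type*} [AddCommGroup A] [AddCommGroup B] [AddCommGroup C]
    (κ : A →+ B) (hκ : Function.Surjective κ) (Λ : A →+ C) (h : ∀ a, κ a = 0 → Λ a = 0) :
    ∃ L : B →+ C, ∀ a, L (κ a) = Λ a := by
  have key : ∀ a a', κ a = κ a' → Λ a = Λ a' := by
    intro a a' e
    have := h (a - a') (by rw [map_sub, e, sub_self])
    rwa [map_sub, sub_eq_zero] at this
  refine ⟨AddMonoidHom.mk' (fun b => Λ (Classical.choose (hκ b))) ?_, ?_⟩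
  · intro b b'
    rw [← map_add]
    apply key
    rw [map_add, Classical.choose_spec (hκ b), Classical.choose_spec (hκ b'),
      Classical.choose_spec (hκ (b + b'))]
  · intro a
    exact key _ _ (Classical.choose_spec (hκ (κ a)))

/-- smul on a restriction along an open immersion -/
theorem restrict_smul {Y : Scheme.{u}} (j : Y ⟶ X) [IsOpenImmersion j] (M : X.Modules)
    (V' : Y.Opens) (r : Γ(Y, V')) (y : Γ(M.restrict j, V')) :
    r • y = (show Γ(M.restrict j, V') from
      (((j.appIso V').inv r : Γ(X, j ''ᵁ V')) • (show Γ(M, j ''ᵁ V') from y))) := rfl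

theorem restrict_smul' {Y : Scheme.{u}} (j : Y ⟶ X) [IsOpenImmersion j] (M : X.Modules)
    (V' : Y.Opens) (r : Γ(X, j ''ᵁ V')) (y : Γ(M, j ''ᵁ V')) :
    (show Γ(M.restrict j, V') from (r • y)) =
      ((j.appIso V').hom r) • (show Γ(M.restrict j, V') from y) := by
  rw [restrict_smul]
  have : (j.appIso V').inv ((j.appIso V').hom r) = r := by
    rw [← ConcreteCategory.comp_apply, Iso.hom_inv_id]; rfl
  rw [this]

section main
variable [IsLocallyNoetherian X] (F : X.Modules) [F.IsQuasicoherent] (x : X)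

theorem exists_mono_restrict_of_isAssPoint (h : Curv2.IsAssPoint F x) :
    ∃ (U : X.Opens), x ∈ U ∧ ∃ ψ : (GG x).restrict U.ι ⟶ F.restrict U.ι, Mono ψ := by
  obtain ⟨V, hV, hxV, -⟩ := exists_isAffineOpen_mem_and_subset (x := x) (U := (⊤ : X.Opens)) trivial
  have hWV : V.ι ''ᵁ ⊤ = V := by
    rw [Scheme.Hom.image_top_eq_opensRange, Scheme.Opens.opensRange_ι]
  have hW : IsAffineOpen (V.ι ''ᵁ ⊤) := hWV.symm ▸ hV
  have hxW : x ∈ V.ι ''ᵁ ⊤ := hWV.symm ▸ hxV
  haveI : IsNoetherianRing Γ(X, V.ι ''ᵁ ⊤) :=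
    IsLocallyNoetherian.component_noetherian ⟨V.ι ''ᵁ ⊤, hW⟩
  rw [Groth.Agent.Lib.Helper23.AssAffine.isAssPoint_iff_mem_associatedPrimes hW F x hxW] at h
  obtain ⟨-, m, hm⟩ := isAssociatedPrime_iff.mp h
  rw [← ideal_eq x hW hxW] at hm
  -- the map
  let Λ : Γ(X, V.ι ''ᵁ ⊤) →+ Γ(F, V.ι ''ᵁ ⊤) :=
    AddMonoidHom.mk' (fun r => r • m) (fun a b => add_smul a b m)
  have hΛ : ∀ a, kap x (V.ι ''ᵁ ⊤) a = 0 → Λ a = 0 := by
    intro a ha
    rw [kap_eq_zero_iff x hW, hm, Submodule.mem_colon_singleton, Submodule.mem_bot] at ha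
    exact ha
  obtain ⟨L, hL⟩ := exists_factor (kap x (V.ι ''ᵁ ⊤)) (kap_surjective x hW) Λ hΛ
  have hLlin : ∀ (r : Γ(X, V.ι ''ᵁ ⊤)) (y : Γ(GG x, V.ι ''ᵁ ⊤)), L (r • y) = r • L y := by
    intro r y
    obtain ⟨a, rfl⟩ := kap_surjective x hW y
    rw [smul_kap, hL, hL]
    exact mul_smul r a m
  have hLinj : Function.Injective L := by
    rw [injective_iff_map_eq_zero]
    intro y hy
    obtain ⟨a, rfl⟩ := kap_surjective x hW y
    rw [hL] at hy
    rw [kap_eq_zero_iff x hW, hm, Submodule.mem_colon_singleton, Submodule.mem_bot]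
    exact hy
  haveI : IsAffine V.toScheme := hV
  haveI : ((GG x).restrict V.ι).IsQuasicoherent :=
    Scheme.Modules.isQuasicoherent_restrictFunctor V.ι (GG x)
  haveI : (F.restrict V.ι).IsQuasicoherent :=
    Scheme.Modules.isQuasicoherent_restrictFunctor V.ι F
  obtain ⟨ψ, hψ⟩ := Groth.Agent.Helper13PullbackUnit.exists_hom_of_app
    (isAffineOpen_top V.toScheme) ((GG x).restrict V.ι) (F.restrict V.ι)
    (fun W' => Groth.Agent.Helper13PullbackUnit.map_bijective_of_eq _ (by
      rw [Scheme.Hom.image_preimage_eq_opensRange_inf, IsAffineOpen.opensRange_fromSpec,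
        top_inf_eq]) _)
    L (fun r y => hLlin ((V.ι.appIso ⊤).inv r) y)
  refine ⟨V, hxV, ψ, mono_of_injective_app_top ψ ?_⟩
  intro a b hab
  rw [hψ, hψ] at hab
  exact hLinj hab

theorem isAssPoint_of_mono_restrict {U : X.Opens} (hxU : x ∈ U)
    (ψ : (GG x).restrict U.ι ⟶ F.restrict U.ι) [Mono ψ] : Curv2.IsAssPoint F x := by
  obtain ⟨V', hV', hxV', -⟩ := exists_isAffineOpen_mem_and_subset
    (X := U.toScheme) (x := (⟨x, hxU⟩ : U.toScheme)) (U := (⊤ : U.toScheme.Opens)) trivial
  have hW : IsAffineOpen (U.ι ''ᵁ V') := hV'.image_of_isOpenImmersion U.ι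
  have hxW : x ∈ U.ι ''ᵁ V' := ⟨⟨x, hxU⟩, hxV', rfl⟩
  haveI : IsNoetherianRing Γ(X, U.ι ''ᵁ V') :=
    IsLocallyNoetherian.component_noetherian ⟨U.ι ''ᵁ V', hW⟩
  rw [Groth.Agent.Lib.Helper23.AssAffine.isAssPoint_iff_mem_associatedPrimes hW F x hxW]
  have hinj : Function.Injective (ψ.app V') :=
    Groth.Agent.Lib.Helper20.StalkExact.injective_app_of_mono ψ V'
  -- the map on sections over `W`
  let L : Γ(GG x, U.ι ''ᵁ V') → Γ(F, U.ι ''ᵁ V') := fun y => ψ.app V' y
  have hL0 : L 0 = 0 := map_zero (ψ.app V').hom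
  have hLinj : ∀ y, L y = 0 → y = 0 := fun y hy => hinj (hy.trans hL0.symm)
  have hLlin : ∀ (r : Γ(X, U.ι ''ᵁ V')) (y : Γ(GG x, U.ι ''ᵁ V')), L (r • y) = r • L y := by
    intro r y
    change ψ.app V' (show Γ((GG x).restrict U.ι, V') from (r • y)) =
      (show Γ(F.restrict U.ι, V') from (r • (show Γ(F, U.ι ''ᵁ V') from ψ.app V' y)))
    rw [restrict_smul', restrict_smul', Scheme.Modules.Hom.app_smul]
  refine isAssociatedPrime_iff.mpr ⟨(hW.primeIdealOf ⟨x, hxW⟩).isPrime,
    L (kap x (U.ι ''ᵁ V') 1), ?_⟩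
  rw [← ideal_eq x hW hxW]
  ext a
  rw [Submodule.mem_colon_singleton, Submodule.mem_bot, ← hLlin, smul_kap, mul_one,
    ← kap_eq_zero_iff x hW]
  exact ⟨fun h => by rw [h]; exact hL0, hLinj _⟩

theorem isAssPoint_iff_exists_mono_restrict :
    Curv2.IsAssPoint F x ↔
      ∃ (U : X.Opens), x ∈ U ∧ ∃ ψ : (GG x).restrict U.ι ⟶ F.restrict U.ι, Mono ψ := by
  constructor
  · exact exists_mono_restrict_of_isAssPoint F x
  · rintro ⟨U, hxU, ψ, hψ⟩
    exact isAssPoint_of_mono_restrict F x hxU ψ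

end main

theorem exists_mono_pullback_iff_restrict {U : X.Opens} (A B : X.Modules) :
    (∃ φ : (Scheme.Modules.pullback U.ι).obj A ⟶ (Scheme.Modules.pullback U.ι).obj B, Mono φ) ↔
    (∃ ψ : A.restrict U.ι ⟶ B.restrict U.ι, Mono ψ) := by
  let e := Scheme.Modules.restrictFunctorIsoPullback U.ι
  constructor
  · rintro ⟨φ, hφ⟩
    exact ⟨(e.app A).hom ≫ φ ≫ (e.app B).inv, inferInstance⟩
  · rintro ⟨ψ, hψ⟩
    exact ⟨(e.app A).inv ≫ ψ ≫ (e.app B).hom, inferInstance⟩

end Groth.Agent.Lib.R2H3.AssMono
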