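import Groth.Agent.Lib.Helper13ModBasis
import Groth.Agent.Lib.Helper23GenLocus
import Groth.Agent.Lib.Helper2QcPush
import Groth.Agent.Lib.R2H3AssMono
import Groth.Prelude.Def_TorSh

/-!
# Torsion-free modules of rank one embed in the sheaf of rational functions (helper2, round 2)

For an integral scheme `X` with generic point `ξ`, function field `K = O_{X,ξ}` and
`j : Spec K ⟶ X`:
* `germ_genericPoint_injective`: sections of a torsion-free quasi-coherent module over an affine
  open inject into the generic stalk;
* `ratHom F φ : F ⟶ j_* O_{Spec K}` for a `K`-linear map `φ : F_ξ → K`, with its values on affine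
  opens (`ratHom_app`), and `mono_ratHom` when `φ` is injective and `F` is torsion-free.
-/

set_option autoImplicit false
universe u

namespace Groth.Agent.Lib.R2H2.RatFun

open CategoryTheory CategoryTheory.Limits AlgebraicGeometry TopologicalSpace Opposite
open Groth.Agent.Lib.Helper2.QCoh Groth.Agent.Lib.Helper23.GenLocus Groth.Agent.Helper13ModBasis

variable (X : Scheme.{u}) [IsIntegral X]

/-- affine opens containing the generic point -/
def Idx : Type u := {U : X.Opens // IsAffineOpen U ∧ genericPoint X ∈ U}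

/-- the basis of nonempty affine opens -/
def B : Idx X → X.Opens := fun i => i.1

lemma genericPoint_mem (U : X.Opens) (x : X) (hx : x ∈ U) : genericPoint X ∈ U :=
  ((genericPoint_spec X).mem_open_set_iff U.2).mpr ⟨x, trivial, hx⟩

lemma isBasis_B : Opens.IsBasis (Set.range (B X)) := by
  rw [Opens.isBasis_iff_nbhd]
  intro U x hx
  obtain ⟨_, ⟨V, hV, rfl⟩, hxV, hVU⟩ := X.isBasis_affineOpens.exists_subset_of_mem_open hx U.2
  exact ⟨V, ⟨⟨V, hV, genericPoint_mem X V x hxV⟩, rfl⟩, hxV, hVU⟩

variable {X}

/-- sections over an affine open of a torsion-free quasi-coherent module inject into the generic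
stalk -/
theorem germ_genericPoint_injective (F : X.Modules) [F.IsQuasicoherent]
    (hF : TorSh.IsTorsionFree F) {U : X.Opens} (hU : IsAffineOpen U)
    (hξ : genericPoint X ∈ U) (s : Γ(F, U))
    (hs : F.presheaf.germ U (genericPoint X) hξ s = 0) : s = 0 := by
  obtain ⟨b, hb, hbs⟩ := exists_smul_eq_zero_of_germ_eq_zero hU F _ hξ s hs
  have hb0 : b ≠ 0 := by
    rintro rfl
    rw [Scheme.basicOpen_zero] at hb
    exact hb
  apply Groth.Agent.Lib.Helper2.QcPush.section_eq_zero_of_germ
  intro x hx
  have h1 : X.presheaf.germ U x hx b • F.presheaf.germ U x hx s = 0 := by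
    rw [← germ_smul, hbs, map_zero]
  have h2 : X.presheaf.germ U x hx b ≠ 0 := by
    intro h
    exact hb0 (germ_injective_of_isIntegral X x hx (h.trans (map_zero _).symm))
  have h3 : IsSMulRegular (F.presheaf.stalk x) (X.presheaf.germ U x hx b) :=
    (hF x).isSMulRegular (IsRegular.of_ne_zero h2)
  exact h3 (h1.trans (smul_zero _).symm)

variable (X)

/-- the comparison `K → Γ(Spec K, j⁻¹ U)` -/
noncomputable def rho (U : X.Opens) : X.presheaf.stalk (genericPoint X) →+*
    Γ(Spec (X.presheaf.stalk (genericPoint X)), X.fromSpecStalk (genericPoint X) ⁻¹ᵁ U) :=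
  ((Scheme.ΓSpecIso (X.presheaf.stalk (genericPoint X))).inv ≫
    (Spec (X.presheaf.stalk (genericPoint X))).presheaf.map (homOfLE le_top).op).hom

lemma rho_germ (U : X.Opens) (hξ : genericPoint X ∈ U) (a : Γ(X, U)) :
    rho X U (X.presheaf.germ U _ hξ a) = (X.fromSpecStalk (genericPoint X)).app U a := by
  rw [Scheme.fromSpecStalk_app hξ]
  rfl

lemma rho_res {U V : X.Opens} (h : V ≤ U) (c : X.presheaf.stalk (genericPoint X)) :
    (Spec (X.presheaf.stalk (genericPoint X))).presheaf.map
      (homOfLE ((X.fromSpecStalk (genericPoint X)).preimage_mono h)).op (rho X U c) =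
      rho X V c := by
  change ((Scheme.ΓSpecIso (X.presheaf.stalk (genericPoint X))).inv ≫
    (Spec (X.presheaf.stalk (genericPoint X))).presheaf.map (homOfLE le_top).op ≫
    (Spec (X.presheaf.stalk (genericPoint X))).presheaf.map
      (homOfLE ((X.fromSpecStalk (genericPoint X)).preimage_mono h)).op).hom c = _
  rw [← Functor.map_comp]
  rfl

lemma rho_injective (U : X.Opens) (hξ : genericPoint X ∈ U) : Function.Injective (rho X U) := by
  have h1 : Function.Injective (Scheme.ΓSpecIso (X.presheaf.stalk (genericPoint X))).inv.hom :=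
    (ConcreteCategory.bijective_of_isIso
      (Scheme.ΓSpecIso (X.presheaf.stalk (genericPoint X))).inv).1
  have : Nonempty ((X.fromSpecStalk (genericPoint X) ⁻¹ᵁ U :
      (Spec (X.presheaf.stalk (genericPoint X))).Opens)) := by
    refine ⟨⟨IsLocalRing.closedPoint (X.presheaf.stalk (genericPoint X)), ?_⟩⟩
    change X.fromSpecStalk (genericPoint X)
      (IsLocalRing.closedPoint (X.presheaf.stalk (genericPoint X))) ∈ U
    rw [Scheme.fromSpecStalk_closedPoint]
    exact hξ
  have h2 := map_injective_of_isIntegral (Spec (X.presheaf.stalk (genericPoint X)))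
    (homOfLE (le_top : X.fromSpecStalk (genericPoint X) ⁻¹ᵁ U ≤ ⊤))
  exact h2.comp h1

/-- the sheaf of rational functions -/
noncomputable abbrev ratSheaf : X.Modules :=
  (Scheme.Modules.pushforward (X.fromSpecStalk (genericPoint X))).obj
    (Coh.structureModule (Spec (X.presheaf.stalk (genericPoint X))))

variable {X}

section Build

variable (F : X.Modules)
  (φ : F.presheaf.stalk (genericPoint X) →ₗ[X.presheaf.stalk (genericPoint X)]
    X.presheaf.stalk (genericPoint X))

/-- the map on sections over a nonempty affine open, as a function -/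
noncomputable def dFun (i : Idx X) (s : Γ(F, B X i)) : Γ(ratSheaf X, B X i) :=
  toS (X.fromSpecStalk (genericPoint X) ⁻¹ᵁ B X i)
    (rho X (B X i) (φ (F.presheaf.germ (B X i) (genericPoint X) i.2.2 s)))

lemma dFun_add (i : Idx X) (s t : Γ(F, B X i)) : dFun F φ i (s + t) = dFun F φ i s + dFun F φ i t := by
  unfold dFun
  rw [map_add, map_add, map_add]
  rfl

/-- the map on sections over a nonempty affine open -/
noncomputable def dHom (i : Idx X) : Γ(F, B X i) ⟶ Γ(ratSheaf X, B X i) :=
  AddCommGrpCat.ofHom (AddMonoidHom.mk' (dFun F φ i) (dFun_add F φ i))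

lemma dHom_apply (i : Idx X) (s : Γ(F, B X i)) : dHom F φ i s = dFun F φ i s := rfl

lemma dHom_nat (i i' : Idx X) (h : B X i' ≤ B X i) :
    F.presheaf.map (homOfLE h).op ≫ dHom F φ i' =
      dHom F φ i ≫ (ratSheaf X).presheaf.map (homOfLE h).op := by
  ext s
  change dFun F φ i' (F.presheaf.map (homOfLE h).op s) =
    (ratSheaf X).presheaf.map (homOfLE h).op (dFun F φ i s)
  unfold dFun
  rw [TopCat.Presheaf.germ_res_apply F.presheaf (homOfLE h) (genericPoint X) i'.2.2 s]
  change _ = toS _ ((Spec (X.presheaf.stalk (genericPoint X))).presheaf.map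
    (homOfLE ((X.fromSpecStalk (genericPoint X)).preimage_mono h)).op (rho X (B X i) _))
  rw [rho_res X h]

lemma dHom_lin (i : Idx X) (a : Γ(X, B X i)) (s : Γ(F, B X i)) :
    dHom F φ i (a • s) = a • dHom F φ i s := by
  change dFun F φ i (a • s) = a • dFun F φ i s
  unfold dFun
  rw [germ_smul, map_smul, smul_eq_mul, map_mul, rho_germ]
  rfl

/-- the morphism to the sheaf of rational functions attached to a linear form on the generic
stalk -/
noncomputable def ratHom : F ⟶ ratSheaf X :=
  homOfBasis (B X) (isBasis_B X) (dHom F φ) (dHom_nat F φ) (dHom_lin F φ)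

lemma ratHom_app (i : Idx X) : (ratHom F φ).app (B X i) = dHom F φ i :=
  homOfBasis_app (B X) (isBasis_B X) (dHom F φ) (dHom_nat F φ) (dHom_lin F φ) i

theorem mono_ratHom [F.IsQuasicoherent] (hF : TorSh.IsTorsionFree F)
    (hφ : Function.Injective φ) : Mono (ratHom F φ) := by
  refine Groth.Agent.Lib.R2H3.AssMono.mono_of_injective_app_basis (ratHom F φ) (Set.range (B X))
    (isBasis_B X) ?_
  rintro _ ⟨i, rfl⟩
  rw [injective_iff_map_eq_zero]
  intro s hs
  rw [ratHom_app] at hs
  have hs' : rho X (B X i) (φ (F.presheaf.germ (B X i) (genericPoint X) i.2.2 s)) = 0 := hs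
  have h1 := rho_injective X (B X i) i.2.2 (hs'.trans (map_zero _).symm)
  have h2 := hφ (h1.trans (map_zero _).symm)
  exact germ_genericPoint_injective F hF i.2.1 i.2.2 s h2

end Build

end Groth.Agent.Lib.R2H2.RatFun
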