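import Mathlib
import Groth.Agent.Lib.Helper1PT4
import Groth.Agent.Lib.H6xClImmAdjB
set_option backward.isDefEq.respectTransparency.types false

/-!
# Closed immersions: the unit `N ⟶ ι_* ι^* N` on modules killed by the ideal (helper3, round 2)

For a closed immersion `ι : X ⟶ P` and an `O_P`-module `N` (not necessarily quasi-coherent) which is
stalkwise killed by the ideal of `X` (`SK ι N`), the unit `N ⟶ ι_* ι^* N` is an isomorphism.
`ι_* E` is stalkwise killed, and so is `B ⊗ M` whenever `M` is.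
-/

set_option autoImplicit false
set_option linter.style.haveILetI false
set_option linter.unusedSectionVars false
universe u
open CategoryTheory CategoryTheory.Limits AlgebraicGeometry TopologicalSpace Opposite
  MonoidalCategory TensorProduct

namespace Groth.Agent.Lib.R2H3.ClosedUnit

open Groth.Agent.Lib.Helper1.Sky Groth.Agent.Lib.Helper1.StalkTensor Groth.Agent.Lib.Helper1.PT
  Groth.Agent.Lib.Helper1.KBC

section Alg

variable {R S : Type u} [CommRing R] [CommRing S] (φ : R →+* S)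

/-- `S` as an `R`-module through `φ` (the carrier used by `ModuleCat.extendScalars`) -/
abbrev SR : Type u := ↑((ModuleCat.restrictScalars φ).obj (ModuleCat.of S S))

variable (hφ : Function.Surjective φ) (M : Type u) [AddCommGroup M] [Module R M]
  (hM : ∀ r : R, φ r = 0 → ∀ m : M, r • m = 0)

include hφ in
theorem exists_one_tmul (z : SR φ ⊗[R] M) : ∃ m : M, z = (show SR φ from (1 : S)) ⊗ₜ[R] m := by
  induction z using TensorProduct.induction_on with
  | zero => exact ⟨0, (TensorProduct.tmul_zero _ _).symm⟩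
  | tmul s m =>
    obtain ⟨r, hr⟩ := hφ (show S from s)
    refine ⟨r • m, ?_⟩
    rw [← TensorProduct.smul_tmul]
    congr 1
    change s = (φ r * 1 : S)
    rw [mul_one, hr]
  | add a b ha hb =>
    obtain ⟨m, rfl⟩ := ha
    obtain ⟨m', rfl⟩ := hb
    exact ⟨m + m', (TensorProduct.tmul_add _ _ _).symm⟩

include hφ hM in
theorem one_tmul_injective (m : M) (h : (show SR φ from (1 : S)) ⊗ₜ[R] m = (0 : SR φ ⊗[R] M)) :
    m = 0 := by
  classical
  have key : ∀ (r r' : R), φ r = φ r' → ∀ m : M, r • m = r' • m := by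
    intro r r' h m
    have := hM (r - r') (by rw [map_sub, h, sub_self]) m
    rwa [sub_smul, sub_eq_zero] at this
  let σ : S → R := Function.surjInv hφ
  have hσ : ∀ s, φ (σ s) = s := Function.surjInv_eq hφ
  let β : SR φ →ₗ[R] M →ₗ[R] M := LinearMap.mk₂ R (fun s m => σ (show S from s) • m)
    (fun s s' m => by
      change σ ((show S from s) + (show S from s')) • m = _
      rw [← add_smul]
      exact key _ _ (by rw [hσ, map_add, hσ, hσ]) m)
    (fun c s m => by
      change σ (φ c * (show S from s)) • m = c • σ (show S from s) • m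
      rw [smul_smul]
      exact key _ _ (by rw [hσ, map_mul, hσ]) m)
    (fun s m m' => smul_add _ _ _)
    (fun c s m => smul_comm _ _ _)
  have h1 := congrArg (TensorProduct.lift β) h
  rw [TensorProduct.lift.tmul, map_zero] at h1
  change σ (1 : S) • m = 0 at h1
  rw [key (σ 1) 1 (by rw [hσ, map_one]) m, one_smul] at h1
  exact h1

end Alg

variable {X P : Scheme.{u}} (ι : X ⟶ P)

/-- `N` is stalkwise killed by the ideal of `ι`: the germ of a function whose pullback vanishes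
kills the stalk. -/
def SK (N : P.Modules) : Prop :=
  ∀ (W : P.Opens) (a : P.presheaf.obj (op W)), (ι.app W).hom a = 0 →
    ∀ (p : P) (hp : p ∈ W) (n : St (toPM N) p), gr P.presheaf p W hp a • n = 0

theorem app_rr {W W' : P.Opens} (i : W' ⟶ W) (a : P.presheaf.obj (op W)) :
    (ι.app W').hom (rr P.presheaf i a) =
      rr X.presheaf (homOfLE (show ι ⁻¹ᵁ W' ≤ ι ⁻¹ᵁ W from fun _ hx => i.le hx)) ((ι.app W).hom a) := by
  have h := ι.naturality i.op
  exact congrArg (fun g => g.hom a) h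

/-- direct images are stalkwise killed -/
theorem sk_push (E : X.Modules) : SK ι ((psh ι).obj E) := by
  intro W a ha p hp n
  obtain ⟨W', hW', e, rfl⟩ := exists_gm_eq n
  let W'' : P.Opens := W ⊓ W'
  have hp'' : p ∈ W'' := ⟨hp, hW'⟩
  let i1 : W'' ⟶ W := homOfLE inf_le_left
  let i2 : W'' ⟶ W' := homOfLE inf_le_right
  rw [← gm_rs i2 hp'' e, ← gr_rr i1 hp'' a, ← gm_smul]
  have h0 : (rr P.presheaf i1 a • rs (toPM ((psh ι).obj E)) i2 e) = 0 := by
    rw [psh_smul, app_rr, ha, map_zero, zero_smul]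
    rfl
  rw [h0, map_zero]

/-- tensoring with anything preserves stalkwise killedness of the second factor -/
theorem sk_tens (B M : P.Modules) (hM : SK ι M) : SK ι (tens B M) := by
  intro W a ha p hp n
  apply (stalkTensorEquiv p B M).injective
  rw [map_smul, map_zero]
  induction (stalkTensorEquiv p B M) n using TensorProduct.induction_on with
  | zero => exact smul_zero _
  | tmul b m => rw [← TensorProduct.tmul_smul, hM W a ha p hp m, TensorProduct.tmul_zero]
  | add y z hy hz => rw [smul_add, hy, hz, add_zero]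

variable [IsClosedImmersion ι]

/-- every open of `X` is the preimage of an open of `P` -/
theorem exists_preimage_eq (V : X.Opens) : ∃ W : P.Opens, ι ⁻¹ᵁ W = V := by
  obtain ⟨V', hV', hVW⟩ := ι.isClosedEmbedding.isEmbedding.isInducing.isOpen_iff.1 V.2
  exact ⟨⟨V', hV'⟩, Opens.ext hVW⟩

/-- the open complement of the image -/
def complRange : P.Opens := ⟨(Set.range ι)ᶜ, ι.isClosedEmbedding.isClosed_range.isOpen_compl⟩

theorem preimage_complRange : ι ⁻¹ᵁ complRange ι = ⊥ := by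
  ext z
  simp only [Opens.coe_bot, Set.mem_empty_iff_false, iff_false]
  intro hz
  exact hz ⟨z, rfl⟩

/-- sections of a module over an open with empty preimage vanish -/
theorem eq_zero_of_preimage_eq_bot (M : X.Modules) (W : P.Opens) (hW : ι ⁻¹ᵁ W = ⊥)
    (s : (toPM M).obj (op (ι ⁻¹ᵁ W))) : s = 0 := by
  haveI : Subsingleton (X.presheaf.obj (op (ι ⁻¹ᵁ W))) := by
    rw [hW]
    infer_instance
  have h1 : (1 : X.presheaf.obj (op (ι ⁻¹ᵁ W))) = 0 := Subsingleton.elim _ _
  calc s = (1 : X.presheaf.obj (op (ι ⁻¹ᵁ W))) • s := (one_smul _ s).symm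
    _ = (0 : X.presheaf.obj (op (ι ⁻¹ᵁ W))) • s := by rw [h1]
    _ = 0 := zero_smul _ s

/-- the kernel of the stalk map kills the stalk of a stalkwise killed module -/
theorem ker_smul (N : P.Modules) (hN : SK ι N) (x : X) (c : Groth.Agent.Lib.Helper1.Sky.Ox (ι x))
    (hc : (ι.stalkMap x).hom c = 0) (n : St (toPM N) (ι x)) : c • n = 0 := by
  obtain ⟨W, hW, a, rfl⟩ := exists_gr_eq c
  have h1 : X.presheaf.germ (ι ⁻¹ᵁ W) x hW ((ι.app W).hom a) = 0 := by
    rw [← hc]
    exact (Scheme.Hom.germ_stalkMap_apply ι W x hW a).symm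
  have h2 : X.presheaf.germ (ι ⁻¹ᵁ W) x hW ((ι.app W).hom a) =
      X.presheaf.germ (ι ⁻¹ᵁ W) x hW 0 := by rw [h1, map_zero]
  obtain ⟨V', hxV', iU, iV, hV'⟩ := TopCat.Presheaf.germ_eq X.presheaf x hW hW _ _ h2
  obtain ⟨W', rfl⟩ := exists_preimage_eq ι V'
  let W'' : P.Opens := W ⊓ W'
  have hp'' : ι x ∈ W'' := ⟨hW, hxV'⟩
  let i1 : W'' ⟶ W := homOfLE inf_le_left
  have hle : ι ⁻¹ᵁ W'' ≤ ι ⁻¹ᵁ W' := fun _ hz => hz.2
  have h3 : (ι.app W'').hom (rr P.presheaf i1 a) = 0 := by
    rw [app_rr]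
    have h4 : (homOfLE (show ι ⁻¹ᵁ W'' ≤ ι ⁻¹ᵁ W from fun _ hx => i1.le hx)) =
        homOfLE hle ≫ iU := rfl
    change (X.presheaf.map (homOfLE _).op).hom ((ι.app W).hom a) = 0
    rw [h4, op_comp, X.presheaf.map_comp]
    change (X.presheaf.map (homOfLE hle).op).hom ((X.presheaf.map iU.op).hom ((ι.app W).hom a)) = 0
    rw [hV']
    simp
  have h5 := hN W'' (rr P.presheaf i1 a) h3 (ι x) hp'' n
  rwa [gr_rr] at h5

/-- restriction of sections of a direct image is restriction of sections upstairs -/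
theorem rs_psh (M : X.Modules) {W W' : P.Opens} (i : W' ⟶ W)
    (s : (toPM ((psh ι).obj M)).obj (op W)) :
    rs (toPM ((psh ι).obj M)) i s =
      rs (toPM M) (homOfLE (show ι ⁻¹ᵁ W' ≤ ι ⁻¹ᵁ W from fun _ hx => i.le hx)) s := rfl

/-- naturality of a morphism of modules with respect to restriction -/
theorem app_rs {Z : Scheme.{u}} {A B : Z.Modules} (g : A ⟶ B) {U V : Z.Opens} (i : V ⟶ U)
    (a : (toPM A).obj (op U)) :
    (toPMMap g).app (op V) (rs (toPM A) i a) = rs (toPM B) i ((toPMMap g).app (op U) a) :=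
  PresheafOfModules.naturality_apply (toPMMap g) i.op a

theorem sm_un_injective (N : P.Modules) (hN : SK ι N) (x : X) :
    Function.Injective (sm (toPMMap (un ι N)) (ι x)) := by
  rw [injective_iff_map_eq_zero]
  intro n hn
  obtain ⟨W, hW, m, rfl⟩ := exists_gm_eq n
  rw [sm_gm] at hn
  have hn' : gm (toPM ((psh ι).obj ((plb ι).obj N))) (ι x) W hW ((toPMMap (un ι N)).app (op W) m) =
      gm (toPM ((psh ι).obj ((plb ι).obj N))) (ι x) W hW 0 := by rw [hn, map_zero]
  obtain ⟨W₁, hW₁, iU, iV, h1⟩ := gm_eq hW hW _ _ hn'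
  rw [map_zero, ← app_rs] at h1
  have h2 := sigma_unit ι x N W₁ hW₁ (rs (toPM N) iU m)
  rw [h1] at h2
  have h3 : gm (toPM N) (ι x) W₁ hW₁ (rs (toPM N) iU m) = 0 := by
    have h5 : (ModuleCat.Hom.hom ((stalkPullbackIso ι x).hom.app N))
        ((gm (toPM ((plb ι).obj N)) x (ι ⁻¹ᵁ W₁) hW₁) 0) = 0 :=
      (congrArg (fun t => (ModuleCat.Hom.hom ((stalkPullbackIso ι x).hom.app N)) t)
        (map_zero (gm (toPM ((plb ι).obj N)) x (ι ⁻¹ᵁ W₁) hW₁))).trans (map_zero _)
    exact one_tmul_injective (ι.stalkMap x).hom (ι.stalkMap_surjective x) _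
      (fun c hc n => ker_smul ι N hN x c hc n) _ (h2.symm.trans h5)
  rw [gm_rs] at h3
  exact h3

theorem sm_un_surjective (N : P.Modules) (x : X) :
    Function.Surjective (sm (toPMMap (un ι N)) (ι x)) := by
  intro b
  obtain ⟨W, hW, s, rfl⟩ := exists_gm_eq b
  -- the germ of `s` upstairs
  let g : St (toPM ((plb ι).obj N)) x := gm (toPM ((plb ι).obj N)) x (ι ⁻¹ᵁ W) hW s
  obtain ⟨n, hn⟩ := exists_one_tmul (ι.stalkMap x).hom (ι.stalkMap_surjective x) _
    ((ModuleCat.Hom.hom ((stalkPullbackIso ι x).hom.app N)) g)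
  obtain ⟨W₁, hW₁, m₁, rfl⟩ := exists_gm_eq n
  have h2 := sigma_unit ι x N W₁ hW₁ m₁
  have h3 : gm (toPM ((plb ι).obj N)) x (ι ⁻¹ᵁ W₁) hW₁ ((toPMMap (un ι N)).app (op W₁) m₁) = g := by
    have hinj : Function.Injective (ModuleCat.Hom.hom ((stalkPullbackIso ι x).hom.app N)) :=
      ((ConcreteCategory.isIso_iff_bijective ((stalkPullbackIso ι x).hom.app N)).1
        inferInstance).1
    exact hinj (h2.trans hn.symm)
  obtain ⟨V', hxV', iU, iV, hV'⟩ := gm_eq (P := toPM ((plb ι).obj N)) (x := x)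
    (U := ι ⁻¹ᵁ W₁) (V := ι ⁻¹ᵁ W) hW₁ hW _ _ h3
  obtain ⟨W₂, rfl⟩ := exists_preimage_eq ι V'
  let W₃ : P.Opens := W ⊓ W₁ ⊓ W₂
  have hp₃ : ι x ∈ W₃ := ⟨⟨hW, hW₁⟩, hxV'⟩
  let j : W₃ ⟶ W := homOfLE (inf_le_left.trans inf_le_left)
  let j₁ : W₃ ⟶ W₁ := homOfLE (inf_le_left.trans inf_le_right)
  have hle₂ : ι ⁻¹ᵁ W₃ ≤ ι ⁻¹ᵁ W₂ := fun _ hz => hz.2
  refine ⟨gm (toPM N) (ι x) W₃ hp₃ (rs (toPM N) j₁ m₁), ?_⟩
  rw [sm_gm, app_rs, ← gm_rs j hp₃ s]
  congr 1
  rw [rs_psh, rs_psh]
  have e1 : (homOfLE (show ι ⁻¹ᵁ W₃ ≤ ι ⁻¹ᵁ W₁ from fun _ hx => j₁.le hx)) =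
      homOfLE hle₂ ≫ iU := rfl
  have e2 : (homOfLE (show ι ⁻¹ᵁ W₃ ≤ ι ⁻¹ᵁ W from fun _ hx => j.le hx)) =
      homOfLE hle₂ ≫ iV := rfl
  rw [e1, e2, ← rs_rs, ← rs_rs, hV']

/-- **The unit `N ⟶ ι_* ι^* N` is an isomorphism for `N` stalkwise killed by the ideal.** -/
theorem isIso_unit_of_sk (N : P.Modules) (hN : SK ι N) : IsIso (un ι N) := by
  apply isIso_of_forall_isIso_stalk
  intro p
  rw [ConcreteCategory.isIso_iff_bijective]
  change Function.Bijective (sm (toPMMap (un ι N)) p)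
  by_cases hp : p ∈ Set.range ι
  · obtain ⟨x, rfl⟩ := hp
    exact ⟨sm_un_injective ι N hN x, sm_un_surjective ι N x⟩
  · have hp' : p ∈ complRange ι := hp
    have hsrc : ∀ n : St (toPM N) p, n = 0 := by
      intro n
      have h0 : (ι.app (complRange ι)).hom 1 = 0 := by
        haveI : Subsingleton (X.presheaf.obj (op (ι ⁻¹ᵁ complRange ι))) := by
          rw [preimage_complRange]
          infer_instance
        exact Subsingleton.elim _ _
      have h := hN (complRange ι) 1 h0 p hp' n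
      rwa [map_one, one_smul] at h
    have htgt : ∀ b : St (toPM ((psh ι).obj ((plb ι).obj N))) p, b = 0 := by
      intro b
      obtain ⟨W, hW, s, rfl⟩ := exists_gm_eq b
      let W' : P.Opens := W ⊓ complRange ι
      have hW' : p ∈ W' := ⟨hW, hp'⟩
      rw [← gm_rs (homOfLE inf_le_left : W' ⟶ W) hW' s]
      have hbot : ι ⁻¹ᵁ W' = ⊥ := by
        apply le_antisymm _ bot_le
        intro z hz
        have : z ∈ ι ⁻¹ᵁ complRange ι := hz.2
        rwa [preimage_complRange] at this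
      have h1 : rs (toPM ((psh ι).obj ((plb ι).obj N))) (homOfLE inf_le_left : W' ⟶ W) s = 0 :=
        eq_zero_of_preimage_eq_bot ι ((plb ι).obj N) W' hbot _
      rw [h1, map_zero]
    exact ⟨fun a b _ => (hsrc a).trans (hsrc b).symm, fun b => ⟨0, (htgt _).trans (htgt b).symm⟩⟩

end Groth.Agent.Lib.R2H3.ClosedUnit
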