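import Mathlib
import Groth.Agent.Lib.R2H3ClosedPush
import Groth.Agent.Lib.R2H2DevE
import Groth.Agent.Lib.R2H2PdSheaf
import Groth.Agent.S0786

/-!
# Pushforward along a closed immersion reflects isomorphisms and coherence (helper3, round 2)

* `isIso_of_isIso_push` : `i_* f` iso ⇒ `f` iso;
* `isCoh_of_isCoh_push` : `i_* ω` coherent ⇒ `ω` coherent (target locally Noetherian; no
  quasi-coherence hypothesis on `ω`).
-/

set_option autoImplicit false
set_option linter.unusedSectionVars false
set_option linter.style.haveILetI false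
universe u

namespace Groth.Agent.Lib.R2H3.OmegaCoh

open CategoryTheory CategoryTheory.Limits AlgebraicGeometry Opposite TopologicalSpace
open Groth.Agent.Lib.R2H3.ClosedPush

variable {Z X : Scheme.{u}} (i : Z ⟶ X) [IsClosedImmersion i]

theorem bijective_app_of_isIso {T : Scheme.{u}} {A B : T.Modules} (g : A ⟶ B) [IsIso g]
    (U : T.Opens) : Function.Bijective (g.app U) := by
  refine Function.bijective_iff_has_inverse.2 ⟨(inv g).app U, fun m => ?_, fun m => ?_⟩
  · exact congrArg (fun φ : A ⟶ A => φ.app U m) (IsIso.hom_inv_id g)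
  · exact congrArg (fun φ : B ⟶ B => φ.app U m) (IsIso.inv_hom_id g)

/-- `i_*` reflects isomorphisms -/
theorem isIso_of_isIso_push {M N : Z.Modules} (f : M ⟶ N)
    [IsIso ((Scheme.Modules.pushforward i).map f)] : IsIso f := by
  refine Groth.Agent.Helper13AffBC.isIso_of_bijective_on_basis f
    (fun U : X.affineOpens => i ⁻¹ᵁ U.1) (isBasis_preimage_affine i) (fun U => ?_)
  exact bijective_app_of_isIso ((Scheme.Modules.pushforward i).map f) U.1

/-- a module whose direct image along a closed immersion is coherent is coherent -/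
theorem isCoh_of_isCoh_push [IsLocallyNoetherian X] (ω : Z.Modules)
    (h : Coh.IsCoh ((Scheme.Modules.pushforward i).obj ω)) : Coh.IsCoh ω := by
  haveI : QuasiCompact i := inferInstance
  have hk := Groth.Agent.Lib.R2H2.DevE.killed_push i ω
  obtain ⟨G, hG, ⟨e⟩⟩ := Groth.Agent.S0786.result i _ h hk
  haveI : G.IsQuasicoherent := hG.1
  haveI : IsIso ((Scheme.Modules.pushforward i).map (pushPreimage i e.hom)) := by
    rw [map_pushPreimage]
    infer_instance
  haveI := isIso_of_isIso_push i (pushPreimage i e.hom)
  exact Groth.Agent.Lib.R2H2.PdSheaf.isCoh_of_iso (asIso (pushPreimage i e.hom)) hG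

end Groth.Agent.Lib.R2H3.OmegaCoh
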