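import Mathlib
import Groth.Agent.Lib.R2H3ClosedUnit
import Groth.Agent.Lib.R2H1ProjLF
import Groth.Agent.Lib.R2H3OmegaCoh
set_option backward.isDefEq.respectTransparency.types false

/-!
# The projection formula for closed immersions, all modules (helper3, round 2)

For a closed immersion `ι : X ⟶ P`, every `O_P`-module `B` and every `O_X`-module `E`
(no quasi-coherence), the projection morphism `B ⊗ ι_* E ⟶ ι_* (ι^* B ⊗ E)` is an isomorphism, and
the counit `ι^* ι_* A ⟶ A` is an isomorphism.
-/

set_option autoImplicit false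
set_option linter.style.haveILetI false
set_option linter.unusedSectionVars false
universe u
open CategoryTheory CategoryTheory.Limits AlgebraicGeometry TopologicalSpace Opposite

namespace Groth.Agent.Lib.R2H3.ClosedProj

open Groth.Agent.Lib.Helper1.PT Groth.Agent.Lib.R2H1.ProjLF Groth.Agent.Lib.R2H3.ClosedUnit

variable {X P : Scheme.{u}} (ι : X ⟶ P) [IsClosedImmersion ι]

/-- the counit `ι^* ι_* A ⟶ A` is an isomorphism, for every module `A` -/
instance isIso_counit (A : X.Modules) : IsIso ((ppAdj ι).counit.app A) := by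
  have h1 : un ι ((psh ι).obj A) ≫ (psh ι).map ((ppAdj ι).counit.app A) = 𝟙 _ :=
    (ppAdj ι).right_triangle_components A
  haveI := isIso_unit_of_sk ι _ (sk_push ι A)
  haveI : IsIso ((psh ι).map ((ppAdj ι).counit.app A)) := by
    have h2 : (psh ι).map ((ppAdj ι).counit.app A) = inv (un ι ((psh ι).obj A)) := by
      rw [← cancel_epi (un ι ((psh ι).obj A)), h1, IsIso.hom_inv_id]
    rw [h2]
    infer_instance
  exact Groth.Agent.Lib.R2H3.OmegaCoh.isIso_of_isIso_push ι _

/-- **projection formula for a closed immersion** -/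
instance isIso_prj (B : P.Modules) (E : X.Modules) : IsIso (prj ι B E) := by
  have h : prj ι B E = un ι (tens B ((psh ι).obj E)) ≫
      (psh ι).map (delta ι B ((psh ι).obj E) ≫
        (DCoh.tensorBi.obj ((plb ι).obj B)).map ((ppAdj ι).counit.app E)) := by
    unfold prj
    rw [Adjunction.homEquiv_unit]
  rw [h]
  haveI := isIso_unit_of_sk ι _ (sk_tens ι B _ (sk_push ι E))
  infer_instance

/-- the projection formula as an isomorphism of functors in the `O_P`-module:
`(- ⊗ ι_* E) ≅ ι_* (ι^* - ⊗ E)` -/
noncomputable def projIso (E : X.Modules) :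
    (DCoh.tensorBi (X := P)).flip.obj ((psh ι).obj E) ≅
      plb ι ⋙ (DCoh.tensorBi (X := X)).flip.obj E ⋙ psh ι :=
  NatIso.ofComponents (fun B => asIso (prj ι B E)) (fun {B B'} s => prj_naturality_left ι s E)

end Groth.Agent.Lib.R2H3.ClosedProj
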