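import Mathlib
import Groth.Agent.Lib.R2H3ClosedProj
import Groth.Agent.Lib.Helper21DerPost
import Groth.Agent.Lib.Helper1Sky9
import Groth.Agent.Lib.Helper21FreeConst
import Groth.Agent.Lib.Helper23ExtRDNat
set_option backward.isDefEq.respectTransparency.types false

/-!
# Closed immersions: the functor `G ↦ ι^♭ ℋom(ι_* E, G)` (helper3, round 2)

For a closed immersion `ι : X ⟶ P` and an `O_X`-module `E`, the functor `A ↦ ι_*(A ⊗ E)` has a right
adjoint `T`; it satisfies `ι_* ∘ T ≅ ℋom_P(ι_* E, -)`, and preserves injectives when `E` is flat.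
-/

set_option autoImplicit false
set_option linter.style.haveILetI false
set_option linter.unusedSectionVars false
universe u
open CategoryTheory CategoryTheory.Limits AlgebraicGeometry TopologicalSpace Opposite

namespace Groth.Agent.Lib.R2H3.ClosedShriek

open Groth.Agent.Lib.Helper1.PT Groth.Agent.Lib.R2H1.ProjLF Groth.Agent.Lib.R2H3.ClosedUnit
  Groth.Agent.Lib.R2H3.ClosedProj Groth.Agent.Lib.Helper21.ModTensor3
  Groth.Agent.Lib.Helper21.ModTensor5 Groth.Agent.Lib.Helper21.DerPost

variable {X P : Scheme.{u}} (ι : X ⟶ P) [IsClosedImmersion ι] (E : X.Modules)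

/-- `A ↦ A ⊗ E` -/
noncomputable abbrev tRX : X.Modules ⥤ X.Modules := (DCoh.tensorBi (X := X)).flip.obj E

/-- `A ↦ ι_*(A ⊗ E)` -/
noncomputable abbrev L : X.Modules ⥤ P.Modules := tRX E ⋙ psh ι

instance isLeftAdjoint_tRX : (tRX E).IsLeftAdjoint := tR_isLeftAdjoint X.sheaf E

instance isLeftAdjoint_psh : (psh ι).IsLeftAdjoint :=
  Groth.Agent.Lib.H6xClImmAdj.pushforward_isLeftAdjoint ι

instance isLeftAdjoint_L : (L ι E).IsLeftAdjoint := inferInstance

/-- the right adjoint of `A ↦ ι_*(A ⊗ E)` -/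
noncomputable def T : P.Modules ⥤ X.Modules := (L ι E).rightAdjoint

/-- the adjunction -/
noncomputable def adjLT : L ι E ⊣ T ι E := Adjunction.ofIsLeftAdjoint _

instance additive_tRX : (tRX E).Additive := tR_additive X.sheaf E

instance additive_L : (L ι E).Additive := inferInstance

instance additive_T : (T ι E).Additive := (adjLT ι E).right_adjoint_additive

/-- `ι_* ∘ T ≅ ℋom_P(ι_* E, -)` -/
noncomputable def TpushIso [ModSite.HasSheafHom (O := P.sheaf) ((psh ι).obj E)] :
    T ι E ⋙ psh ι ≅ ModSite.sheafHom (O := P.sheaf) ((psh ι).obj E) :=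
  (((ppAdj ι).comp (adjLT ι E)).ofNatIsoLeft (projIso ι E).symm).rightAdjointUniq
    (ModSite.sheafHomAdj (O := P.sheaf) ((psh ι).obj E))

instance preservesFiniteLimits_psh : PreservesFiniteLimits (psh ι) := by
  haveI := (ppAdj ι).rightAdjoint_preservesLimits
  exact PreservesLimitsOfSize.preservesFiniteLimits.{u, u} _

instance preservesFiniteColimits_psh : PreservesFiniteColimits (psh ι) := by
  haveI := Groth.Agent.Lib.H6xClImmAdj.pushforward_preservesColimits_of_isClosedEmbedding ι
    ι.isClosedEmbedding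
  exact PreservesColimitsOfSize.preservesFiniteColimits.{u, u} _

/-- `T` preserves injective objects when `E` is finite locally free -/
theorem preservesInjectiveObjects_T (hE : FlatMod.IsFinLocFree E) :
    (T ι E).PreservesInjectiveObjects := by
  have hflat : ModSite.IsFlat (O := X.sheaf) E :=
    Groth.Agent.Lib.Helper1.StalkTensor.modSite_isFlat_of_isFlat E
      (Groth.Agent.Lib.Helper1.Sky.isFlat_of_isFinLocFree' E hE)
  haveI : PreservesFiniteLimits (tRX E) := hflat.1
  haveI : PreservesFiniteLimits (L ι E) := inferInstance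
  haveI : (L ι E).PreservesMonomorphisms := inferInstance
  exact Functor.preservesInjectiveObjects_of_adjunction_of_preservesMonomorphisms (adjLT ι E)

/-- `ι_*` reflects isomorphism classes -/
noncomputable def isoOfPushIso {A B : X.Modules} (e : (psh ι).obj A ≅ (psh ι).obj B) : A ≅ B :=
  (asIso ((ppAdj ι).counit.app A)).symm ≪≫ (plb ι).mapIso e ≪≫ asIso ((ppAdj ι).counit.app B)

/-- `T` with source typed as `ModSite.Mod P.sheaf` (for instance resolution) -/
noncomputable def TS : ModSite.Mod P.sheaf ⥤ X.Modules := T ι E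

/-- `ι_*` with target typed as `ModSite.Mod P.sheaf` -/
noncomputable def pshS : X.Modules ⥤ ModSite.Mod P.sheaf := psh ι

instance additive_TS : (TS ι E).Additive := additive_T ι E

instance additive_pshS : (pshS ι).Additive := inferInstanceAs (psh ι).Additive

instance preservesFiniteLimits_pshS : PreservesFiniteLimits (pshS ι) := preservesFiniteLimits_psh ι

instance preservesFiniteColimits_pshS : PreservesFiniteColimits (pshS ι) :=
  preservesFiniteColimits_psh ι

instance additive_sheafHom (M : ModSite.Mod P.sheaf) [ModSite.HasSheafHom (O := P.sheaf) M] :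
    (ModSite.sheafHom (O := P.sheaf) M).Additive :=
  haveI : ((ModSite.tensorBi P.sheaf).flip.obj M).Additive := tR_additive P.sheaf M
  (ModSite.sheafHomAdj (O := P.sheaf) M).right_adjoint_additive

variable [HasInjectiveResolutions (ModSite.Mod P.sheaf)]

/-- the derived functors of `T`: `ι_* R^q T ≅ ℰxt^q_P(ι_* E, -)` -/
noncomputable def pushRightDerivedTIso [ModSite.HasSheafHom (O := P.sheaf) ((psh ι).obj E)]
    (q : ℕ) :
    (TS ι E).rightDerived q ⋙ pshS ι ≅
      (ModSite.sheafHom (O := P.sheaf) ((psh ι).obj E)).rightDerived q :=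
  (postIso (TS ι E) (pshS ι) q).symm ≪≫
    natIsoRightDerived (F := TS ι E ⋙ pshS ι)
      (F' := ModSite.sheafHom (O := P.sheaf) ((psh ι).obj E)) (TpushIso ι E) q

/-- `M_q` is the `q`-th derived functor of `T` -/
theorem nonempty_rightDerived_TS_iso [ModSite.HasSheafHom (O := P.sheaf) ((psh ι).obj E)]
    (G : ModSite.Mod P.sheaf) (q : ℕ) (Mq : X.Modules)
    (hM : Nonempty ((psh ι).obj Mq ≅
      (ModSite.extSh (O := P.sheaf) ((psh ι).obj E) q).obj G)) :
    Nonempty (((TS ι E).rightDerived q).obj G ≅ Mq) := by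
  obtain ⟨e⟩ := hM
  exact ⟨isoOfPushIso ι (((pushRightDerivedTIso ι E q).app G) ≪≫ e.symm)⟩

open Groth.Agent.Lib.Helper21.FreeAb in
/-- `Hom_X(F, T -) ≅ Hom_P(ι_*(E ⊗ F), -)` -/
noncomputable def TScoyonedaIso (F : X.Modules) :
    TS ι E ⋙ preadditiveCoyoneda.obj (op F) ≅
      preadditiveCoyoneda.obj
        (op (show ModSite.Mod P.sheaf from (psh ι).obj (CohB1.tensorMod E F))) :=
  adjCoyonedaIso (adjLT ι E) F ≪≫
    coyonedaIsoOfIso ((psh ι).mapIso (((brd X.sheaf).app E).app F).symm)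

section SheafVersion

open Groth.Agent.Lib.Helper21.ModTensor6

variable (F : X.Modules) [ModSite.HasSheafHom (O := X.sheaf) F]

/-- `ℋom_X(F, -)` typed on `X.Modules` -/
noncomputable def shX : X.Modules ⥤ X.Modules := ModSite.sheafHom (O := X.sheaf) F

/-- the adjunction `- ⊗ F ⊣ ℋom_X(F, -)` typed on `X.Modules` -/
noncomputable def adjShX : tRX F ⊣ shX F := ModSite.sheafHomAdj (O := X.sheaf) F

/-- `(- ⊗ F) ⊗ E ≅ - ⊗ (E ⊗ F)` -/
noncomputable def tRtRIso : tRX F ⋙ tRX E ≅ tRX (CohB1.tensorMod E F) :=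
  tRTensorIso X.sheaf F E ≪≫
    (ModSite.tensorBi X.sheaf).flip.mapIso (((brd X.sheaf).app E).app F).symm

/-- `ι_* ℋom_X(F, T -) ≅ ℋom_P(ι_*(E ⊗ F), -)` -/
noncomputable def TsheafHomIso
    [ModSite.HasSheafHom (O := P.sheaf) ((psh ι).obj (CohB1.tensorMod E F))] :
    (T ι E ⋙ shX F) ⋙ psh ι ≅
      ModSite.sheafHom (O := P.sheaf) ((psh ι).obj (CohB1.tensorMod E F)) :=
  (((ppAdj ι).comp ((adjShX F).comp (adjLT ι E))).ofNatIsoLeft
    (Functor.isoWhiskerLeft (plb ι)
      ((Functor.associator _ _ _).symm ≪≫ Functor.isoWhiskerRight (tRtRIso E F) (psh ι)) ≪≫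
      (projIso ι (CohB1.tensorMod E F)).symm)).rightAdjointUniq
    (ModSite.sheafHomAdj (O := P.sheaf) ((psh ι).obj (CohB1.tensorMod E F)))

/-- `ι_*` typed with source `ModSite.Mod X.sheaf` -/
noncomputable def pshSS : ModSite.Mod X.sheaf ⥤ P.Modules := psh ι

instance additive_pshSS : (pshSS ι).Additive := inferInstanceAs (psh ι).Additive

instance preservesFiniteLimits_pshSS : PreservesFiniteLimits (pshSS ι) :=
  preservesFiniteLimits_psh ι

instance preservesFiniteColimits_pshSS : PreservesFiniteColimits (pshSS ι) :=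
  preservesFiniteColimits_psh ι

/-- `S = ι_* ℋom_X(F, -)`, typed for instance resolution -/
noncomputable def SS : ModSite.Mod X.sheaf ⥤ P.Modules :=
  ModSite.sheafHom (O := X.sheaf) F ⋙ pshSS ι

/-- `T`, typed for instance resolution -/
noncomputable def TSS : ModSite.Mod P.sheaf ⥤ ModSite.Mod X.sheaf := T ι E

instance additive_TSS : (TSS ι E).Additive := additive_T ι E

instance additive_SS : (SS ι F).Additive := by
  unfold SS
  infer_instance

instance preservesFiniteLimits_SS : PreservesFiniteLimits (SS ι F) := by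
  haveI : PreservesFiniteLimits (ModSite.sheafHom (O := X.sheaf) F) := by
    haveI := (ModSite.sheafHomAdj (O := X.sheaf) F).rightAdjoint_preservesLimits
    exact PreservesLimitsOfSize.preservesFiniteLimits.{u, u} _
  unfold SS
  infer_instance

/-- `T ⋙ S ≅ ℋom_P(ι_*(E ⊗ F), -)` -/
noncomputable def TSSSIso
    [ModSite.HasSheafHom (O := P.sheaf) ((psh ι).obj (CohB1.tensorMod E F))] :
    TSS ι E ⋙ SS ι F ≅
      ModSite.sheafHom (O := P.sheaf) ((psh ι).obj (CohB1.tensorMod E F)) :=
  (Functor.associator _ _ _).symm ≪≫ TsheafHomIso ι E F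

variable [HasInjectiveResolutions (ModSite.Mod X.sheaf)]

/-- `R^p S ≅ ι_* ℰxt^p_X(F, -)` -/
noncomputable def rightDerivedSSIso (p : ℕ) :
    (SS ι F).rightDerived p ≅
      (ModSite.sheafHom (O := X.sheaf) F).rightDerived p ⋙ pshSS ι :=
  postIso (ModSite.sheafHom (O := X.sheaf) F) (pshSS ι) p

theorem isZero_rightDerived_SS_of_injective (Q : ModSite.Mod X.sheaf) (hQ : Injective Q) (q : ℕ) :
    IsZero (((SS ι F).rightDerived (q + 1)).obj Q) := by
  refine IsZero.of_iso ?_ ((rightDerivedSSIso ι F (q + 1)).app Q)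
  exact (pshSS ι).map_isZero
    (Functor.isZero_rightDerived_obj_injective_succ (ModSite.sheafHom (O := X.sheaf) F) q Q)

/-- `ℋom_P(ι_*(E ⊗ F), -)`, typed for instance resolution -/
noncomputable def shP
    [ModSite.HasSheafHom (O := P.sheaf) ((psh ι).obj (CohB1.tensorMod E F))] :
    ModSite.Mod P.sheaf ⥤ P.Modules :=
  ModSite.sheafHom (O := P.sheaf) ((psh ι).obj (CohB1.tensorMod E F))

instance additive_shP
    [ModSite.HasSheafHom (O := P.sheaf) ((psh ι).obj (CohB1.tensorMod E F))] :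
    (shP ι E F).Additive :=
  ModSite.sheafHom_additive (O := P.sheaf) ((psh ι).obj (CohB1.tensorMod E F))

/-- `T ⋙ S ≅ ℋom_P(ι_*(E ⊗ F), -)`, typed -/
noncomputable def TSSSIso'
    [ModSite.HasSheafHom (O := P.sheaf) ((psh ι).obj (CohB1.tensorMod E F))] :
    TSS ι E ⋙ SS ι F ≅ shP ι E F :=
  TSSSIso ι E F

/-- `R^n(T ⋙ S) ≅ ℰxt^n_P(ι_*(E ⊗ F), -)` -/
noncomputable def rightDerivedTSSSIso
    [ModSite.HasSheafHom (O := P.sheaf) ((psh ι).obj (CohB1.tensorMod E F))] (n : ℕ) :
    (TSS ι E ⋙ SS ι F).rightDerived n ≅ (shP ι E F).rightDerived n :=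
  natIsoRightDerived (F := TSS ι E ⋙ SS ι F) (F' := shP ι E F) (TSSSIso' ι E F) n

/-- `(shP).rightDerived n` is `ℰxt^n_P(ι_*(E ⊗ F), -)` -/
theorem rightDerived_shP_eq
    [ModSite.HasSheafHom (O := P.sheaf) ((psh ι).obj (CohB1.tensorMod E F))] (n : ℕ) :
    (shP ι E F).rightDerived n =
      ModSite.extSh (O := P.sheaf) ((psh ι).obj (CohB1.tensorMod E F)) n := rfl

theorem preservesInjectiveObjects_TSS (hE : FlatMod.IsFinLocFree E) :
    (TSS ι E).PreservesInjectiveObjects := preservesInjectiveObjects_T ι E hE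

end SheafVersion

end Groth.Agent.Lib.R2H3.ClosedShriek
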