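import Mathlib
import Groth.Prelude.Def_CohTop
import Groth.Agent.Lib.Helper10Sob
import Groth.Agent.Lib.Helper16ClosedEmb
import Groth.Agent.Lib.R2H4GV

/-! Grothendieck vanishing on arbitrary (not necessarily sober) Noetherian spaces, by passing to
the sobrification, whose site of opens is equivalent to that of `X` (helper4, round 2). -/
set_option autoImplicit false
set_option linter.style.haveILetI false
universe u
open CategoryTheory CategoryTheory.Limits TopologicalSpace Opposite

namespace Groth.Agent.Lib.R2H4GVSob

open Groth.Agent.Lib.Helper10.Sob Groth.Agent.Lib.Helper16.ClosedEmb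

section Equiv

variable (X : TopCat.{u})

/-- the sobrification as an object of `TopCat` -/
abbrev SobT : TopCat.{u} := TopCat.of (PtTop.Sob X)

/-- the canonical map to the sobrification -/
noncomputable def q : X ⟶ SobT X := TopCat.ofHom ⟨PtTop.toSob X, continuous_toSob⟩

/-- `U ↦ D U` -/
def DF : Opens X ⥤ Opens (SobT X) where
  obj U := ⟨D (U : Set X), isOpen_D U.2⟩
  map f := homOfLE (D_mono (leOfHom f))

theorem map_q_DF (U : Opens X) : (Opens.map (q X)).obj ((DF X).obj U) = U := by
  ext x
  have h := preimage_toSob_D (X := X) U.2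
  exact (Set.ext_iff.1 h x)

theorem DF_map_q (V : Opens (SobT X)) : (DF X).obj ((Opens.map (q X)).obj V) = V := by
  obtain ⟨U, hU, hV⟩ := isOpen_iff.mp V.2
  apply Opens.ext
  change D (PtTop.toSob X ⁻¹' (V : Set (PtTop.Sob X))) = (V : Set (PtTop.Sob X))
  have hV' : (V : Set (PtTop.Sob X)) = D U := hV
  rw [hV', preimage_toSob_D hU]

/-- the equivalence between the categories of opens -/
noncomputable def eqv : Opens X ≌ Opens (SobT X) where
  functor := DF X
  inverse := Opens.map (q X)
  unitIso := NatIso.ofComponents (fun U => eqToIso (map_q_DF X U).symm)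
    (fun _ => Subsingleton.elim _ _)
  counitIso := NatIso.ofComponents (fun V => eqToIso (DF_map_q X V))
    (fun _ => Subsingleton.elim _ _)
  functor_unitIso_comp _ := Subsingleton.elim _ _

instance : (eqv X).functor.IsCocontinuous (Opens.grothendieckTopology X)
    (Opens.grothendieckTopology (SobT X)) where
  cover_lift := by
    intro U S hS x hx
    have hx' : PtTop.toSob X x ∈ (DF X).obj U := by
      have h := preimage_toSob_D (X := X) U.2
      exact (Set.ext_iff.1 h x).2 hx
    obtain ⟨W, f, hf, hxW⟩ := hS _ hx'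
    have hle : (Opens.map (q X)).obj W ≤ U := by
      rw [← map_q_DF X U]
      exact (Opens.map (q X)).monotone (leOfHom f)
    refine ⟨(Opens.map (q X)).obj W, homOfLE hle, ?_, hxW⟩
    change S.arrows ((DF X).map (homOfLE hle))
    have := S.downward_closed hf (eqToHom (DF_map_q X W))
    convert this using 1
    exact Subsingleton.elim _ _

instance : (eqv X).inverse.IsCocontinuous (Opens.grothendieckTopology (SobT X))
    (Opens.grothendieckTopology X) where
  cover_lift := by
    intro V S hS Z hZ
    rw [← DF_map_q X V] at hZ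
    obtain ⟨x, hxZ, hxU⟩ := hZ
    obtain ⟨W', f, hf, hxW'⟩ := hS x hxU
    have hle : (DF X).obj W' ≤ V := by
      rw [← DF_map_q X V]
      exact D_mono (leOfHom f)
    refine ⟨(DF X).obj W', homOfLE hle, ?_, ⟨x, hxZ, hxW'⟩⟩
    change S.arrows ((Opens.map (q X)).map (homOfLE hle))
    have := S.downward_closed hf (eqToHom (map_q_DF X W'))
    convert this using 1
    exact Subsingleton.elim _ _

instance : (eqv X).inverse.IsDenseSubsite (Opens.grothendieckTopology (SobT X))
    (Opens.grothendieckTopology X) :=
  (eqv X).isDenseSubsite_inverse_of_isCocontinuous _ _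

instance : (CohTop.push (q X)).IsEquivalence :=
  inferInstanceAs (((eqv X).sheafCongr (Opens.grothendieckTopology X)
    (Opens.grothendieckTopology (SobT X)) AddCommGrpCat.{u}).functor.IsEquivalence)

end Equiv

section Ext

variable {Z X : TopCat.{u}} (i : Z ⟶ X) [(CohTop.push i).Full] [(CohTop.push i).Faithful]

omit [(CohTop.push i).Faithful] in
lemma uZ_precomp_bijective' (F : CohTop.Ab Z) :
    Function.Bijective
      (fun φ : (CohTop.push i).obj (constZ Z) ⟶ (CohTop.push i).obj F => uZ i ≫ φ) := by
  constructor
  · intro φ φ' h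
    obtain ⟨ψ, rfl⟩ := (CohTop.push i).map_surjective φ
    obtain ⟨ψ', rfl⟩ := (CohTop.push i).map_surjective φ'
    have h' : uZ i ≫ (CohTop.push i).map ψ = uZ i ≫ (CohTop.push i).map ψ' := h
    have := congrArg ((adjC X).homEquiv _ _) h'
    rw [homEquiv_uZ_comp, homEquiv_uZ_comp] at this
    rw [((adjC Z).homEquiv _ _).injective this]
  · intro χ
    let a : AddCommGrpCat.of (ULift.{u} ℤ) ⟶
        ((sheafSections (Opens.grothendieckTopology Z) AddCommGrpCat.{u}).obj (op ⊤)).obj F :=
      (adjC X).homEquiv _ _ χ
    refine ⟨(CohTop.push i).map (((adjC Z).homEquiv _ _).symm a), ?_⟩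
    apply ((adjC X).homEquiv _ _).injective
    exact (homEquiv_uZ_comp i _).trans (((adjC Z).homEquiv _ _).apply_symm_apply a)

/-- cohomology of `i_* F` agrees with the cohomology of `F` when `i_*` is an equivalence. -/
theorem nonempty_H_push' [(CohTop.push i).IsEquivalence] (F : CohTop.Ab Z) (p : ℕ) :
    Nonempty (CohTop.H F p ≃+ CohTop.H ((CohTop.push i).obj F) p) := by
  haveI : PreservesFiniteLimits (CohTop.push i) := inferInstance
  haveI : PreservesFiniteColimits (CohTop.push i) := inferInstance
  haveI : (CohTop.push i).PreservesInjectiveObjects := by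
    haveI : (CohTop.push i).inv.PreservesMonomorphisms := inferInstance
    exact Functor.preservesInjectiveObjects_of_adjunction_of_preservesMonomorphisms
      (CohTop.push i).asEquivalence.symm.toAdjunction
  have h1 := Functor.mapExt_bijective_of_preservesInjectiveObjects.{u, u} (CohTop.push i)
    (constZ Z) F p
  have h2 := Groth.Agent.Lib.Helper16.ExtPrecomp.precomp_bijective.{u} (CohTop.push i) (uZ i)
    (uZ_precomp_bijective' i) p F
  exact ⟨(AddEquiv.ofBijective _ h1).trans (AddEquiv.ofBijective _ h2)⟩

end Ext

section Dim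

variable (X : Type u) [TopologicalSpace X]

theorem le_of_mem_closure {Z Z' : PtTop.Sob X} (h : Z ∈ closure ({Z'} : Set (PtTop.Sob X))) :
    ((show IrreducibleCloseds X from Z) : Set X) ⊆ ((show IrreducibleCloseds X from Z') : Set X) := by
  by_contra hn
  obtain ⟨x, hxZ, hxZ'⟩ := Set.not_subset.1 hn
  have hopen : IsOpen (D (((show IrreducibleCloseds X from Z') : Set X)ᶜ)) :=
    isOpen_D (show IrreducibleCloseds X from Z').isClosed.isOpen_compl
  have hZ : Z ∈ D (((show IrreducibleCloseds X from Z') : Set X)ᶜ) := ⟨x, hxZ, hxZ'⟩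
  obtain ⟨W, hW, hW'⟩ := mem_closure_iff.1 h _ hopen hZ
  rw [Set.mem_singleton_iff] at hW'
  subst hW'
  obtain ⟨y, hy, hy'⟩ := hW
  exact hy' hy

theorem dim_sob_le : topologicalKrullDim (PtTop.Sob X) ≤ topologicalKrullDim X := by
  unfold topologicalKrullDim
  let ψ : IrreducibleCloseds (PtTop.Sob X) → IrreducibleCloseds X :=
    fun T => (T.isIrreducible.genericPoint : PtTop.Sob X)
  refine Order.krullDim_le_of_strictMono ψ ?_
  intro T T' hlt
  have hT : IsGenericPoint (T.isIrreducible.genericPoint) (T : Set (PtTop.Sob X)) := by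
    have := T.isIrreducible.isGenericPoint_genericPoint_closure
    rwa [T.isClosed.closure_eq] at this
  have hT' : IsGenericPoint (T'.isIrreducible.genericPoint) (T' : Set (PtTop.Sob X)) := by
    have := T'.isIrreducible.isGenericPoint_genericPoint_closure
    rwa [T'.isClosed.closure_eq] at this
  have hsub : (T : Set (PtTop.Sob X)) ⊆ T' := (le_of_lt hlt)
  have hmem : T.isIrreducible.genericPoint ∈ closure ({T'.isIrreducible.genericPoint} :
      Set (PtTop.Sob X)) := by
    rw [hT'.def]
    exact hsub hT.mem
  refine lt_of_le_of_ne (le_of_mem_closure X hmem) ?_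
  intro heq
  have heq' : (T.isIrreducible.genericPoint : PtTop.Sob X) = T'.isIrreducible.genericPoint := heq
  have : (T : Set (PtTop.Sob X)) = T' := by
    rw [← hT.def, ← hT'.def, heq']
  exact (ne_of_lt hlt) (IrreducibleCloseds.ext this)

end Dim

/-- **Grothendieck vanishing** on arbitrary Noetherian topological spaces. -/
theorem grothendieck_vanishing' {X : TopCat.{u}} [NoetherianSpace X] (d : ℕ)
    (hd : topologicalKrullDim X ≤ d) (F : CohTop.Ab X) (p : ℕ) (hp : d < p) :
    Subsingleton (CohTop.H F p) := by
  obtain ⟨e⟩ := nonempty_H_push' (q X) F p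
  haveI : NoetherianSpace (SobT X) := noetherianSpace_sob
  haveI : QuasiSober (SobT X) := quasiSober_sob
  have hd' : topologicalKrullDim (SobT X) ≤ d := (dim_sob_le X).trans hd
  have := Groth.Agent.Lib.R2H4GV.grothendieck_vanishing (SobT X) d hd'
    ((CohTop.push (q X)).obj F) p hp
  exact e.toEquiv.subsingleton

end Groth.Agent.Lib.R2H4GVSob
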