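import Groth.Agent.Lib.R2H3DualShift
import Groth.Agent.Lib.R2H2DualExtGen
import Groth.Agent.Lib.R2H1EulerAdd
import Groth.Agent.S0458

/-!
# Duality for a dualizing pair by dimension counting (helper3, round 2)

Namespace `Groth.Agent.Lib.R2H3.DualCount`.

Generalizes `R2H2.PnDualExt` (helper2): if `(ω, t)` is a dualizing pair on `X` over a field `k`,
every coherent module is a quotient of a coherent `E` with `H^j(E) = 0` for `j < n` and
`Ext^i(E, ω) = 0` for `i ≥ 1`, cohomology vanishes above `n` and is finite dimensional, then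
`Ext^i(F, ω) ≅ H^{n-i}(F)^*` for `i ≤ n` and `Ext^i(F, ω) = 0` for `i > n` (`main`).
`main_closed`: the case of a closed subscheme of `P^N_k` with Cohen–Macaulay local rings of
dimension `n` at closed points.
-/

set_option autoImplicit false
set_option linter.style.haveILetI false
set_option linter.unusedSectionVars false
universe u

open CategoryTheory CategoryTheory.Limits AlgebraicGeometry Opposite Abelian

namespace Groth.Agent.Lib.R2H3.DualCount

open Groth.Agent.Lib.R2H2.HHLin Groth.Agent.Lib.R2H2.DualRep Groth.Agent.Lib.R2H2.DualExtGen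

section Abstract

variable (k : Type u) [Field k] {X : Scheme.{u}} [X.Over (Spec (CommRingCat.of k))]
  [IsLocallyNoetherian X] [HasExt.{u} X.Modules] (n : ℕ) (ω : X.Modules)

/-- the dimension statement of duality in degree `i` -/
def Good (i : ℕ) (F : X.Modules) : Prop :=
  Module.Finite k (Ext F ω i) ∧
    (∀ j : ℕ, i + j = n → Module.finrank k (Ext F ω i) = Module.finrank k (Coh.HH X F j)) ∧
    (n < i → Module.finrank k (Ext F ω i) = 0)

/-- the hypotheses -/
structure Hyp (t : Coh.HH X ω n →ₗ[k] k) : Prop where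
  rep : ∀ F : X.Modules, Coh.IsCoh F → Rep t F
  res : ∀ F : X.Modules, Coh.IsCoh F → ∃ (E : X.Modules) (p : E ⟶ F), Epi p ∧ Coh.IsCoh E ∧
      (∀ j : ℕ, j < n → Subsingleton (Coh.HH X E j)) ∧
      (∀ i : ℕ, 1 ≤ i → Subsingleton (Ext E ω i))
  gv : ∀ (M : X.Modules) (j : ℕ), n < j → Subsingleton (Coh.HH X M j)
  fin : ∀ M : X.Modules, Coh.IsCoh M → ∀ j : ℕ, Module.Finite k (Coh.HH X M j)

variable {k n ω} {t : Coh.HH X ω n →ₗ[k] k}

theorem good_zero (H : Hyp k n ω t) (F : X.Modules) (hF : Coh.IsCoh F) : Good k n ω 0 F := by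
  have e1 : Ext F ω 0 ≃ₗ[k] (F ⟶ ω) := Ext.linearEquiv₀
  have e2 : (F ⟶ ω) ≃ₗ[k] Module.Dual k (Coh.HH X F n) := dualityEquiv _ (H.rep F hF)
  have hfin : Module.Finite k (Coh.HH X F n) := H.fin F hF n
  have hfinD : Module.Finite k (Module.Dual k (Coh.HH X F n)) := inferInstance
  have hfinE : Module.Finite k (Ext F ω 0) := Module.Finite.equiv (e1.trans e2).symm
  refine ⟨hfinE, ?_, fun h => absurd h (Nat.not_lt_zero n)⟩
  intro j hj
  have hj' : j = n := by omega
  subst hj'
  rw [LinearEquiv.finrank_eq (e1.trans e2), Subspace.dual_finrank_eq]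

theorem good_succ (H : Hyp k n ω t) (i : ℕ)
    (ih : ∀ F : X.Modules, Coh.IsCoh F → Good k n ω i F)
    (F : X.Modules) (hF : Coh.IsCoh F) : Good k n ω (i + 1) F := by
  obtain ⟨E, p, hp, hE, hEH, hEext⟩ := H.res F hF
  haveI := hp
  let S : ShortComplex X.Modules := ShortComplex.mk (kernel.ι p) p (kernel.condition p)
  have hS : S.ShortExact := Groth.Agent.Lib.Helper17.Res.kernel_shortExact p
  have hK : Coh.IsCoh (kernel p) := Groth.Agent.Lib.R2H2.PdSheaf.isCoh_kernel hE hF p
  have hV1 : ∀ j : ℕ, 1 ≤ j → Subsingleton (Ext S.X₂ ω j) := hEext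
  have hV2 : ∀ j : ℕ, j ≠ n → Subsingleton (Coh.HH X S.X₂ j) := by
    intro j hj
    rcases Nat.lt_or_gt_of_ne hj with h | h
    · exact hEH j h
    · exact H.gv E j h
  have hV3 : ∀ (M : X.Modules) (j : ℕ), n < j → Subsingleton (Coh.HH X M j) := H.gv
  have hfinH := H.fin
  rcases Nat.eq_zero_or_pos i with hi | hi
  · -- the case `i + 1 = 1`
    subst hi
    obtain ⟨f3, g3, -⟩ := ih F hF
    obtain ⟨f2, g2, -⟩ := ih E hE
    obtain ⟨f1, g1, -⟩ := ih (kernel p) hK
    have f3' : Module.Finite k (Ext S.X₃ ω 0) := f3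
    have f2' : Module.Finite k (Ext S.X₂ ω 0) := f2
    have f1' : Module.Finite k (Ext S.X₁ ω 0) := f1
    obtain ⟨hfin, hcount⟩ := ext_four_term (k := k) hS ω (hV1 1 le_rfl)
    refine ⟨hfin, ?_, ?_⟩
    · intro j hj
      have hn : n = j + 1 := by omega
      have c3 : Module.Finite k (Coh.HH X S.X₃ j) := hfinH F hF j
      have c1 : Module.Finite k (Coh.HH X S.X₁ (j + 1)) := hfinH (kernel p) hK (j + 1)
      have c2 : Module.Finite k (Coh.HH X S.X₂ (j + 1)) := hfinH E hE (j + 1)
      obtain ⟨-, hc⟩ := hh_four_term (k := k) S hS j (hV2 j (by omega))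
        (hV3 (kernel p) (j + 1 + 1) (by omega))
      have g3'' : Module.finrank k (Ext S.X₃ ω 0) = Module.finrank k (Coh.HH X S.X₃ (j + 1)) :=
        g3 (j + 1) (by omega)
      have g2'' : Module.finrank k (Ext S.X₂ ω 0) = Module.finrank k (Coh.HH X S.X₂ (j + 1)) :=
        g2 (j + 1) (by omega)
      have g1'' : Module.finrank k (Ext S.X₁ ω 0) = Module.finrank k (Coh.HH X S.X₁ (j + 1)) :=
        g1 (j + 1) (by omega)
      change Module.finrank k (Ext S.X₃ ω (0 + 1)) = Module.finrank k (Coh.HH X S.X₃ j)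
      have hcount' : Module.finrank k (Ext S.X₃ ω (0 + 1)) + Module.finrank k (Ext S.X₂ ω 0) =
        Module.finrank k (Ext S.X₁ ω 0) + Module.finrank k (Ext S.X₃ ω 0) := hcount
      omega
    · intro hn
      have hn0 : n = 0 := by omega
      have c3 : Module.Finite k (Coh.HH X S.X₃ 0) := hfinH F hF 0
      have c1 : Module.Finite k (Coh.HH X S.X₁ 0) := hfinH (kernel p) hK 0
      have c2 : Module.Finite k (Coh.HH X S.X₂ 0) := hfinH E hE 0
      have hc := hh_three_term (k := k) S hS (hV3 (kernel p) 1 (by omega))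
      have g3'' : Module.finrank k (Ext S.X₃ ω 0) = Module.finrank k (Coh.HH X S.X₃ 0) :=
        g3 0 (by omega)
      have g2'' : Module.finrank k (Ext S.X₂ ω 0) = Module.finrank k (Coh.HH X S.X₂ 0) :=
        g2 0 (by omega)
      have g1'' : Module.finrank k (Ext S.X₁ ω 0) = Module.finrank k (Coh.HH X S.X₁ 0) :=
        g1 0 (by omega)
      change Module.finrank k (Ext S.X₃ ω (0 + 1)) = 0
      have hcount' : Module.finrank k (Ext S.X₃ ω (0 + 1)) + Module.finrank k (Ext S.X₂ ω 0) =
        Module.finrank k (Ext S.X₁ ω 0) + Module.finrank k (Ext S.X₃ ω 0) := hcount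
      omega
  · -- the case `i ≥ 1`
    obtain ⟨e⟩ := nonempty_ext_shift (k := k) hS ω i (hV1 i hi) (hV1 (i + 1) (by omega))
    obtain ⟨f1, g1, z1⟩ := ih (kernel p) hK
    have f1' : Module.Finite k (Ext S.X₁ ω i) := f1
    have hfin : Module.Finite k (Ext S.X₃ ω (i + 1)) := Module.Finite.equiv e
    have hrank : Module.finrank k (Ext S.X₃ ω (i + 1)) = Module.finrank k (Ext S.X₁ ω i) :=
      (LinearEquiv.finrank_eq e).symm
    refine ⟨hfin, ?_, ?_⟩
    · intro j hj
      obtain ⟨e'⟩ := nonempty_hh_shift (k := k) S hS j (hV2 j (by omega)) (hV2 (j + 1) (by omega))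
      have h1 : Module.finrank k (Ext S.X₁ ω i) = Module.finrank k (Coh.HH X S.X₁ (j + 1)) :=
        g1 (j + 1) (by omega)
      have h2 : Module.finrank k (Coh.HH X S.X₃ j) = Module.finrank k (Coh.HH X S.X₁ (j + 1)) :=
        LinearEquiv.finrank_eq e'
      change Module.finrank k (Ext S.X₃ ω (i + 1)) = Module.finrank k (Coh.HH X S.X₃ j)
      omega
    · intro hn
      change Module.finrank k (Ext S.X₃ ω (i + 1)) = 0
      rw [hrank]
      by_cases hni : n < i
      · exact z1 hni
      · have hni' : i = n := by omega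
        have h1 : Module.finrank k (Ext S.X₁ ω i) = Module.finrank k (Coh.HH X S.X₁ 0) :=
          g1 0 (by omega)
        rw [h1]
        have hsub2 : Subsingleton (Coh.HH X S.X₂ 0) := hV2 0 (by omega)
        haveI : Mono S.f := hS.mono_f
        have hinj : Function.Injective (HmapL S.f 0) := injective_HmapL_zero S.f
        have hsub1 : Subsingleton (Coh.HH X S.X₁ 0) := hinj.subsingleton
        exact Module.finrank_zero_of_subsingleton

theorem good_all (H : Hyp k n ω t) :
    ∀ (i : ℕ) (F : X.Modules), Coh.IsCoh F → Good k n ω i F := by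
  intro i
  induction i with
  | zero => exact fun F hF => good_zero H F hF
  | succ i ih => exact fun F hF => good_succ H i ih F hF

/-- **Duality**: `Ext^i(F, ω) ≅ H^{n-i}(F)^*` for `i ≤ n`, and `Ext^i(F, ω) = 0` for `i > n` -/
theorem main (H : Hyp k n ω t) (F : X.Modules) (hF : Coh.IsCoh F) :
    (∀ i : ℕ, i ≤ n → Nonempty (Ext F ω i ≃ₗ[k] Module.Dual k (Coh.HH X F (n - i)))) ∧
      ∀ i : ℕ, n < i → Subsingleton (Ext F ω i) := by
  constructor
  · intro i hi
    obtain ⟨h1, h2, -⟩ := good_all H i F hF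
    have hfin : Module.Finite k (Coh.HH X F (n - i)) := H.fin F hF (n - i)
    have hfinD : Module.Finite k (Module.Dual k (Coh.HH X F (n - i))) := inferInstance
    apply FiniteDimensional.nonempty_linearEquiv_of_finrank_eq
    rw [Subspace.dual_finrank_eq]
    exact h2 (n - i) (by omega)
  · intro i hi
    obtain ⟨h1, -, h3⟩ := good_all H i F hF
    exact (Module.finrank_eq_zero_iff_of_free k _).mp (h3 hi)

end Abstract

section Closed

variable (k : Type u) [Field k] (N n : ℕ) {X : Scheme.{u}} [X.Over (Spec (CommRingCat.of k))]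
  (ι : X ⟶ CohB1.ProjSpace N k) [IsClosedImmersion ι] [HasExt.{u} X.Modules]

/-- Grothendieck vanishing on a Noetherian scheme -/
theorem subsingleton_HH_of_dim_lt [IsNoetherian X] (hn : topologicalKrullDim X = n)
    (M : X.Modules) (j : ℕ) (hj : n < j) : Subsingleton (Coh.HH X M j) := by
  have hd : topologicalKrullDim X.carrier ≤ (n : WithBot ℕ∞) := hn.le
  exact Groth.Agent.S0458.result (X := X.carrier) n hd (Coh.toAb M) j hj

include ι in
theorem isProper_of_closedImmersion
    (hι : ι ≫ CohB1.ProjSpace.toSpec N k = X ↘ Spec (CommRingCat.of k)) :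
    IsProper (X ↘ Spec (CommRingCat.of k)) := by
  haveI := Groth.Agent.S9705.isProper_projSpace_toSpec N k
  rw [← hι]
  infer_instance

/-- the hypotheses hold on a closed subscheme of `P^N_k` of dimension `n` whose local rings at closed
points are Cohen–Macaulay of dimension `n`, for a dualizing pair -/
theorem hyp_closed (hι : ι ≫ CohB1.ProjSpace.toSpec N k = X ↘ Spec (CommRingCat.of k))
    (hn : topologicalKrullDim X = n)
    (hCM : ∀ x : X, IsClosed ({x} : Set X) →
      LocCoh.IsCohenMacaulayLocalRing (X.presheaf.stalk x) ∧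
        ringKrullDim (X.presheaf.stalk x) = n)
    (ω : X.Modules) (hω : Coh.IsCoh ω) (t : Coh.HH X ω n →ₗ[k] k)
    (hdual : ∀ F : X.Modules, Coh.IsCoh F → Rep t F) :
    haveI := Groth.Agent.Lib.R2H3.CMVanish.isLocallyNoetherian_of_closedImmersion k N ι
    Hyp k n ω t := by
  haveI := Groth.Agent.Lib.R2H3.CMVanish.isLocallyNoetherian_of_closedImmersion k N ι
  haveI := isProper_of_closedImmersion k N ι hι
  haveI : CompactSpace X :=
    QuasiCompact.compactSpace_of_compactSpace (X ↘ Spec (CommRingCat.of k))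
  haveI : IsNoetherian X := { }
  exact
    { rep := hdual
      res := fun F hF =>
        Groth.Agent.Lib.R2H3.DualShift.exists_resolution k N ι n hCM ω hω F hF
      gv := fun M j hj => subsingleton_HH_of_dim_lt n hn M j hj
      fin := fun M hM j => Groth.Agent.Lib.R2H1.EulerAdd.finite_HH k X M hM j }

end Closed

end Groth.Agent.Lib.R2H3.DualCount
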