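import Mathlib
import Groth.Agent.Lib.Helper23LocGen
import Groth.Agent.Lib.Helper23CounitEpi
import Groth.Agent.Lib.Helper23FinType2
import Groth.Agent.Lib.Helper20ParaF4

/-!
# Finitely many global sections suffice (helper2, round 2)

`exists_finite_epi` : a globally generated quasi-coherent module of finite type on a Noetherian
scheme is a quotient of `O_X^k` for some `k`.
-/

set_option autoImplicit false
universe u
open CategoryTheory CategoryTheory.Limits AlgebraicGeometry TopologicalSpace Opposite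

namespace Groth.Agent.Lib.R2H2.FinGen

open Groth.Agent.Lib.Helper6 Groth.Agent.Lib.Helper23.SecTw Groth.Agent.Lib.Helper23.GenLocus
  Groth.Agent.Lib.Helper23.LocGen Groth.Agent.Lib.Helper20.ParaFLib

variable {X : Scheme.{u}}

/-- finitely many global sections span `gspan N V` over a Noetherian affine open -/
theorem exists_finset_span [IsLocallyNoetherian X] (N : X.Modules) [N.IsQuasicoherent]
    [SheafOfModules.IsFiniteType (R := X.ringCatSheaf) N] {V : X.Opens} (hV : IsAffineOpen V) :
    ∃ S : Finset (Coh.structureModule X ⟶ N), ∀ σ : Coh.structureModule X ⟶ N,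
      sv σ V ∈ Submodule.span Γ(X, V) ((fun τ : Coh.structureModule X ⟶ N => sv τ V) '' (S : Set _)) := by
  classical
  haveI : IsNoetherianRing Γ(X, V) := IsLocallyNoetherian.component_noetherian ⟨V, hV⟩
  haveI : Module.Finite Γ(X, V) Γ(N, V) :=
    Groth.Agent.Lib.Helper23.FinType.finite_of_isFiniteType N hV
  haveI : IsNoetherian Γ(X, V) Γ(N, V) := isNoetherian_of_isNoetherianRing_of_finite _ _
  have hfg : (gspan N V).FG := IsNoetherian.noetherian _
  obtain ⟨s', hs', hspan⟩ := (Submodule.fg_span_iff_fg_span_finset_subset _).1 hfg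
  choose! pre hpre using fun m (hm : m ∈ (s' : Set Γ(N, V))) => hs' hm
  refine ⟨s'.image pre, fun σ => ?_⟩
  have h1 : sv σ V ∈ gspan N V := sv_mem_gspan N σ V
  have h2 : gspan N V = Submodule.span Γ(X, V) (s' : Set Γ(N, V)) := hspan
  rw [h2] at h1
  refine Submodule.span_mono ?_ h1
  intro m hm
  refine ⟨pre m, ?_, hpre m hm⟩
  rw [Finset.coe_image]
  exact ⟨m, hm, rfl⟩

/-- **a globally generated coherent module on a Noetherian scheme is a quotient of `O^k`** -/
theorem exists_finite_epi [IsLocallyNoetherian X] [CompactSpace X] (N : X.Modules)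
    [N.IsQuasicoherent] [SheafOfModules.IsFiniteType (R := X.ringCatSheaf) N]
    (hN : Curv2.IsGloballyGenerated N) :
    ∃ (k : ℕ) (q : FlatMod.freeMod X k ⟶ N), Epi q := by
  classical
  -- a finite affine cover
  have hcov : (Set.univ : Set X) ⊆ ⋃ V : X.affineOpens, (V.1 : Set X) := by
    intro y _
    obtain ⟨V, hV, hyV, -⟩ := exists_isAffineOpen_mem_and_subset (x := y) (U := ⊤) trivial
    exact Set.mem_iUnion.2 ⟨⟨V, hV⟩, hyV⟩
  obtain ⟨t, ht⟩ := isCompact_univ.elim_finite_subcover
    (fun V : X.affineOpens => (V.1 : Set X)) (fun V => V.1.2) hcov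
  choose SV hSV using fun V : X.affineOpens => exists_finset_span N V.2
  let S : Finset (Coh.structureModule X ⟶ N) := t.biUnion SV
  let k : ℕ := S.card
  let e : Fin k ≃ S := S.equivFin.symm
  let s : Fin k → (Coh.structureModule X ⟶ N) := fun j => (e j).1
  let q : FlatMod.freeMod X k ⟶ N := Sigma.desc s
  refine ⟨k, q, ?_⟩
  have hτ : ∀ τ ∈ S, τ ≫ cokernel.π q = 0 := by
    intro τ hτS
    have h1 : τ = s (e.symm ⟨τ, hτS⟩) := by
      change τ = (e (e.symm ⟨τ, hτS⟩)).1
      rw [Equiv.apply_symm_apply]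
    have h2 : s (e.symm ⟨τ, hτS⟩) = Sigma.ι (fun _ : Fin k => Coh.structureModule X)
        (e.symm ⟨τ, hτS⟩) ≫ q := (Sigma.ι_desc s _).symm
    rw [h1, h2, Category.assoc, cokernel.condition, comp_zero]
  -- every global section dies in the cokernel
  have hσ : ∀ σ : Coh.structureModule X ⟶ N, σ ≫ cokernel.π q = 0 := by
    intro σ
    apply hom_ext_of_sv
    have h0 : sv (0 : Coh.structureModule X ⟶ cokernel q) ⊤ = 0 := rfl
    rw [h0]
    refine (modSheaf (cokernel q)).eq_of_locally_eq' (fun V : t => V.1.1) ⊤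
      (fun V => homOfLE le_top) ?_ _ _ (fun V => ?_)
    · intro y _
      obtain ⟨V, hVt, hyV⟩ := Set.mem_iUnion₂.1 (ht (Set.mem_univ y))
      exact Opens.mem_iSup.2 ⟨⟨V, hVt⟩, hyV⟩
    · change res (cokernel q) (le_top : V.1.1 ≤ ⊤) (sv (σ ≫ cokernel.π q) ⊤) =
        res (cokernel q) (le_top : V.1.1 ≤ ⊤) 0
      rw [res_sv, res_zero, sv_comp]
      have hmem := hSV V.1 σ
      have key : ∀ m ∈ Submodule.span Γ(X, V.1.1)
          ((fun τ : Coh.structureModule X ⟶ N => sv τ V.1.1) '' (SV V.1 : Set _)),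
          (cokernel.π q).app V.1.1 m = 0 := by
        intro m hm
        induction hm using Submodule.span_induction with
        | mem x hx =>
          obtain ⟨τ, hτ', rfl⟩ := hx
          have hτS : τ ∈ S := Finset.mem_biUnion.2 ⟨V.1, V.2, hτ'⟩
          rw [← sv_comp, hτ τ hτS]
          rfl
        | zero => exact map_zero _
        | add x y _ _ hx hy => rw [map_add, hx, hy, add_zero]
        | smul r x _ hx => rw [Scheme.Modules.Hom.app_smul, hx, smul_zero]
      exact key _ hmem
  have hc : cokernel.π q = 0 := by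
    apply Groth.Agent.Lib.Helper23.CounitEpi.eq_of_isGloballyGenerated hN
    ext m
    have h1 : (cokernel.π q).app ⊤ m = sv (secHom N m ≫ cokernel.π q) ⊤ := by
      rw [sv_comp, sv_top_secHom]
    rw [h1, hσ]
    rfl
  exact Abelian.epi_of_cokernel_π_eq_zero q hc

end Groth.Agent.Lib.R2H2.FinGen
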