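import Mathlib
import Groth.Agent.Lib.H6xMVA
import Groth.Agent.Lib.H6xMVE
import Groth.Agent.Lib.Helper1PT4
import Groth.Agent.Lib.Helper1KBC3
import Groth.Agent.Lib.Helper21DerPost
import Groth.Agent.Lib.Helper23DerComp
import Groth.Agent.Lib.Helper21ExtShDelta
set_option backward.isDefEq.respectTransparency.types false

/-!
# Open immersions: projection formula for `j_!`, restriction commutes with `ℋom` and `ℰxt`
(helper3, round 2)
-/

set_option autoImplicit false
set_option linter.style.haveILetI false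
set_option linter.unusedSectionVars false
universe u
open CategoryTheory CategoryTheory.Limits AlgebraicGeometry TopologicalSpace Opposite

namespace Groth.Agent.Lib.R2H3.OpenShriek

open Groth.Agent.Lib.Helper1.PT Groth.Agent.Lib.Helper1.Sky Groth.Agent.Lib.Helper1.KBC
  Groth.Agent.Lib.H6xMV Groth.Agent.Lib.Helper26.FpqcMod
  Groth.Agent.Lib.Helper21.ModTensor3 Groth.Agent.Lib.Helper21.ModTensor5

variable {U X : Scheme.{u}} (j : U ⟶ X) [IsOpenImmersion j]

/-- restriction to `U` -/
noncomputable abbrev rst : X.Modules ⥤ U.Modules := Scheme.Modules.restrictFunctor j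

/-- extension by zero -/
noncomputable abbrev ez : U.Modules ⥤ X.Modules := CxOX.extZero j

/-- `j_! ⊣ j^*` -/
noncomputable abbrev adj : ez j ⊣ rst j := CxOX.extZeroAdj j

/-- `- ⊗ E` -/
noncomputable abbrev tRS {Z : Scheme.{u}} (E : Z.Modules) : Z.Modules ⥤ Z.Modules :=
  (DCoh.tensorBi (X := Z)).flip.obj E

/-- restriction is monoidal -/
noncomputable def rstTensIso (A B : X.Modules) :
    (rst j).obj (tens A B) ≅ tens ((rst j).obj A) ((rst j).obj B) :=
  (Scheme.Modules.restrictFunctorIsoPullback j).app (tens A B) ≪≫ asIso (delta j A B) ≪≫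
    ((DCoh.tensorBi (X := U)).mapIso
      ((Scheme.Modules.restrictFunctorIsoPullback j).app A).symm).app _ ≪≫
    ((DCoh.tensorBi (X := U)).obj _).mapIso
      ((Scheme.Modules.restrictFunctorIsoPullback j).app B).symm

theorem rstTensIso_naturality_left {A A' : X.Modules} (φ : A ⟶ A') (B : X.Modules) :
    (rst j).map ((tRS B).map φ) ≫ (rstTensIso j A' B).hom =
      (rstTensIso j A B).hom ≫ (tRS ((rst j).obj B)).map ((rst j).map φ) := by
  let ρ := Scheme.Modules.restrictFunctorIsoPullback j
  have h1 : (rst j).map ((tRS B).map φ) ≫ ρ.hom.app (tens A' B) =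
      ρ.hom.app (tens A B) ≫ (plb j).map ((DCoh.tensorBi.map φ).app B) :=
    ρ.hom.naturality ((DCoh.tensorBi.map φ).app B)
  have h2 := delta_naturality_left j φ B
  have h3 : (plb j).map φ ≫ ρ.inv.app A' = ρ.inv.app A ≫ (rst j).map φ := ρ.inv.naturality φ
  have h4 : (DCoh.tensorBi.map ((rst j).map φ)).app ((plb j).obj B) ≫
      ((DCoh.tensorBi (X := U)).obj ((rst j).obj A')).map (ρ.inv.app B) =
      ((DCoh.tensorBi (X := U)).obj ((rst j).obj A)).map (ρ.inv.app B) ≫
        (DCoh.tensorBi.map ((rst j).map φ)).app ((rst j).obj B) :=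
    (((DCoh.tensorBi (X := U)).map ((rst j).map φ)).naturality (ρ.inv.app B)).symm
  show (rst j).map ((tRS B).map φ) ≫ (ρ.hom.app (tens A' B) ≫ delta j A' B ≫
      ((DCoh.tensorBi (X := U)).map (ρ.inv.app A')).app _ ≫
      ((DCoh.tensorBi (X := U)).obj _).map (ρ.inv.app B)) =
    (ρ.hom.app (tens A B) ≫ delta j A B ≫
      ((DCoh.tensorBi (X := U)).map (ρ.inv.app A)).app _ ≫
      ((DCoh.tensorBi (X := U)).obj _).map (ρ.inv.app B)) ≫
      (DCoh.tensorBi.map ((rst j).map φ)).app ((rst j).obj B)
  rw [reassoc_of% h1, reassoc_of% h2, ← NatTrans.comp_app_assoc, ← Functor.map_comp, h3,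
    Functor.map_comp, NatTrans.comp_app_assoc, h4]
  simp only [Category.assoc]

variable (F : X.Modules)

/-- `A ⊗ j^*F ⟶ j^*(j_!A ⊗ F)` -/
noncomputable def alpha (A : U.Modules) :
    (tRS ((rst j).obj F)).obj A ⟶ (rst j).obj ((tRS F).obj ((ez j).obj A)) :=
  (tRS ((rst j).obj F)).map ((adj j).unit.app A) ≫ (rstTensIso j ((ez j).obj A) F).inv

instance isIso_alpha (A : U.Modules) : IsIso (alpha j F A) := by
  haveI : IsIso ((adj j).unit.app A) := inferInstance
  unfold alpha
  infer_instance

theorem alpha_naturality {A A' : U.Modules} (f : A ⟶ A') :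
    (tRS ((rst j).obj F)).map f ≫ alpha j F A' =
      alpha j F A ≫ (rst j).map ((tRS F).map ((ez j).map f)) := by
  have h1 : f ≫ (adj j).unit.app A' = (adj j).unit.app A ≫ (rst j).map ((ez j).map f) :=
    (adj j).unit.naturality f
  have h2 := rstTensIso_naturality_left j ((ez j).map f) F
  have h3 : (tRS ((rst j).obj F)).map ((rst j).map ((ez j).map f)) ≫
      (rstTensIso j ((ez j).obj A') F).inv =
      (rstTensIso j ((ez j).obj A) F).inv ≫ (rst j).map ((tRS F).map ((ez j).map f)) := by
    rw [Iso.comp_inv_eq, Category.assoc, h2, Iso.inv_hom_id_assoc]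
  unfold alpha
  rw [← Category.assoc, ← Functor.map_comp, h1, Functor.map_comp, Category.assoc, h3,
    Category.assoc]

/-- the projection morphism `j_!(A ⊗ j^*F) ⟶ j_!A ⊗ F` -/
noncomputable def theta (A : U.Modules) :
    (ez j).obj ((tRS ((rst j).obj F)).obj A) ⟶ (tRS F).obj ((ez j).obj A) :=
  ((adj j).homEquiv _ _).symm (alpha j F A)

theorem unit_theta (A : U.Modules) :
    (adj j).unit.app _ ≫ (rst j).map (theta j F A) = alpha j F A := by
  have := ((adj j).homEquiv _ _).apply_symm_apply (alpha j F A)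
  rw [Adjunction.homEquiv_unit] at this
  exact this

instance isIso_rst_theta (A : U.Modules) : IsIso ((rst j).map (theta j F A)) := by
  haveI : IsIso ((adj j).unit.app ((tRS ((rst j).obj F)).obj A)) := inferInstance
  haveI : IsIso ((adj j).unit.app ((tRS ((rst j).obj F)).obj A) ≫
      (rst j).map (theta j F A)) := by
    rw [unit_theta]
    infer_instance
  exact IsIso.of_isIso_comp_left ((adj j).unit.app ((tRS ((rst j).obj F)).obj A)) _

theorem theta_naturality {A A' : U.Modules} (f : A ⟶ A') :
    (ez j).map ((tRS ((rst j).obj F)).map f) ≫ theta j F A' =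
      theta j F A ≫ (tRS F).map ((ez j).map f) := by
  unfold theta
  rw [← Adjunction.homEquiv_naturality_left_symm, ← Adjunction.homEquiv_naturality_right_symm,
    alpha_naturality]

theorem isIso_theta (A : U.Modules) : IsIso (theta j F A) := by
  apply isIso_of_forall_isIso_stalk
  intro z
  by_cases hz : z ∈ Set.range j.base
  · obtain ⟨y, rfl⟩ := hz
    exact isIso_stalk_of_isIso_restrict j (theta j F A) y
  · have h1 : IsZero ((stalkFun z).obj ((ez j).obj ((tRS ((rst j).obj F)).obj A))) :=
      isZero_stalk_extZero j z hz _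
    have h0 : IsZero ((stalkFun z).obj ((ez j).obj A)) := isZero_stalk_extZero j z hz A
    have h2 : IsZero ((stalkFun z).obj ((tRS F).obj ((ez j).obj A))) := by
      refine IsZero.of_iso ?_ (((stalkTensorIso z).app ((ez j).obj A)).app F)
      haveI : Subsingleton ((stalkFun z).obj ((ez j).obj A)) :=
        ModuleCat.subsingleton_of_isZero h0
      haveI : Subsingleton (TensorProduct (Ox z) ((stalkFun z).obj ((ez j).obj A))
          ((stalkFun z).obj F)) := Unique.instSubsingleton
      exact ModuleCat.isZero_of_subsingleton (ModuleCat.of (Ox z)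
        (TensorProduct (Ox z) ((stalkFun z).obj ((ez j).obj A)) ((stalkFun z).obj F)))
    exact ⟨⟨0, h1.eq_of_src _ _, h2.eq_of_src _ _⟩⟩

/-- **projection formula for `j_!`** -/
noncomputable def projIso : tRS ((rst j).obj F) ⋙ ez j ≅ ez j ⋙ tRS F :=
  NatIso.ofComponents (fun A => @asIso _ _ _ _ (theta j F A) (isIso_theta j F A))
    (fun f => theta_naturality j F f)

/-- restriction to an open preserves injective objects -/
instance preservesInjectiveObjects_rst : (rst j).PreservesInjectiveObjects := by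
  haveI : (ez j).PreservesMonomorphisms := ⟨fun m _ => mono_extZero_map j m⟩
  exact Functor.preservesInjectiveObjects_of_adjunction_of_preservesMonomorphisms (adj j)

instance additive_rst : (rst j).Additive := by
  haveI : (rst j).IsRightAdjoint := (adj j).isRightAdjoint
  haveI := preservesBinaryBiproducts_of_preservesBinaryProducts (rst j)
  exact Functor.additive_of_preservesBinaryBiproducts _

section SheafHom

variable [ModSite.HasSheafHom (O := X.sheaf) F]
  [ModSite.HasSheafHom (O := U.sheaf) ((rst j).obj F)]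

/-- `ℋom_X(F, -)` typed on `X.Modules` -/
noncomputable def shXm : X.Modules ⥤ X.Modules := ModSite.sheafHom (O := X.sheaf) F

/-- `ℋom_U(F|_U, -)` typed on `U.Modules` -/
noncomputable def shUm : U.Modules ⥤ U.Modules :=
  ModSite.sheafHom (O := U.sheaf) ((rst j).obj F)

/-- the adjunction `- ⊗ F ⊣ ℋom_X(F, -)` -/
noncomputable def adjX : tRS F ⊣ shXm F := ModSite.sheafHomAdj (O := X.sheaf) F

/-- the adjunction `- ⊗ F|_U ⊣ ℋom_U(F|_U, -)` -/
noncomputable def adjU : tRS ((rst j).obj F) ⊣ shUm j F :=
  ModSite.sheafHomAdj (O := U.sheaf) ((rst j).obj F)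

/-- **`ℋom_X(F, -)|_U ≅ ℋom_U(F|_U, -|_U)`** -/
noncomputable def restrSheafHomIso : shXm F ⋙ rst j ≅ rst j ⋙ shUm j F :=
  (((adj j).comp (adjX F)).ofNatIsoLeft (projIso j F).symm).rightAdjointUniq
    ((adjU j F).comp (adj j))

/-- restriction typed on the module categories of the ringed sites -/
noncomputable def rstS : ModSite.Mod X.sheaf ⥤ ModSite.Mod U.sheaf := rst j

instance additive_rstS : (rstS j).Additive := additive_rst j

instance preservesInjectiveObjects_rstS : (rstS j).PreservesInjectiveObjects :=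
  preservesInjectiveObjects_rst j

instance preservesFiniteLimits_rstS : PreservesFiniteLimits (rstS j) :=
  inferInstanceAs (PreservesFiniteLimits (rst j))

instance preservesFiniteColimits_rstS : PreservesFiniteColimits (rstS j) :=
  inferInstanceAs (PreservesFiniteColimits (rst j))

/-- `ℋom_X(F, -)|_U ≅ ℋom_U(F|_U, -|_U)`, typed -/
noncomputable def restrSheafHomIsoS :
    ModSite.sheafHom (O := X.sheaf) F ⋙ rstS j ≅
      rstS j ⋙ ModSite.sheafHom (O := U.sheaf) ((rst j).obj F) :=
  restrSheafHomIso j F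

variable [HasInjectiveResolutions (ModSite.Mod X.sheaf)]
  [HasInjectiveResolutions (ModSite.Mod U.sheaf)]

open Groth.Agent.Lib.Helper21.DerPost in
/-- **`ℰxt^q_X(F, -)|_U ≅ ℰxt^q_U(F|_U, -|_U)`** -/
noncomputable def restrExtShIso (q : ℕ) :
    ModSite.extSh (O := X.sheaf) F q ⋙ rstS j ≅
      rstS j ⋙ ModSite.extSh (O := U.sheaf) ((rst j).obj F) q :=
  (postIso (ModSite.sheafHom (O := X.sheaf) F) (rstS j) q).symm ≪≫
    natIsoRightDerived (restrSheafHomIsoS j F) q ≪≫
    Groth.Agent.Lib.Helper23DerComp.compIso (rstS j)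
      (ModSite.sheafHom (O := U.sheaf) ((rst j).obj F)) q

end SheafHom

end Groth.Agent.Lib.R2H3.OpenShriek
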