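import Groth.Agent.Lib.R2H3ExtShCoh
import Groth.Agent.Lib.R2H3OpenShriek
import Groth.Agent.Lib.R2H4CounitEpiQc
import Groth.Agent.Lib.R2H2FinGen
import Groth.Agent.Lib.R2H2AmpleRes
import Groth.Agent.Lib.Helper23TensorQCoh
import Groth.Agent.Lib.Helper23QCohAbelian
import Groth.Agent.Lib.Helper23FinTypeLocal
import Groth.Agent.Lib.R2H3RpushRestrict
set_option backward.isDefEq.respectTransparency.types false

/-!
# Quasi-coherence of the local Ext sheaves (helper3, round 2)

* `hasEnoughLocFree_spec`: on `Spec R`, `R` Noetherian, every coherent module is a quotient of a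
  finite free one.
* `isQuasicoherent_extSh`: `X` locally Noetherian, `F` coherent, `G` quasi-coherent:
  `ℰxt^q(F, G)` is quasi-coherent.
-/

set_option autoImplicit false
set_option linter.style.haveILetI false
set_option linter.unusedSectionVars false
universe u
open CategoryTheory CategoryTheory.Limits AlgebraicGeometry Opposite

namespace Groth.Agent.Lib.R2H3.ExtAffQC

open Groth.Agent.Lib.Helper21.ExtShDelta Groth.Agent.Lib.Helper21.CoDeltaLib
  Groth.Agent.Lib.Helper21.Dual Groth.Agent.Lib.Helper21.ExtShLocFree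
  Groth.Agent.Lib.Helper21.ModTensor3
  Groth.Agent.Lib.R2H2.PnLocFree Groth.Agent.Lib.R2H2.PdSheaf Groth.Agent.Lib.R2H3.ExtShCoh

attribute [local instance] Groth.Agent.Lib.Helper21.ExtShDelta.hasSheafHom

section Spec

variable (R : CommRingCat.{u}) [IsNoetherianRing R]

instance isNoetherian_spec : IsNoetherian (Spec R) := inferInstance

/-- on a Noetherian affine scheme `Spec R` every coherent module is a quotient of a finite free
module -/
theorem hasEnoughLocFree_spec : KRR.HasEnoughLocFree (Spec R) := by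
  intro F hF
  haveI : F.IsQuasicoherent := hF.1
  haveI : SheafOfModules.IsFiniteType (R := (Spec R).ringCatSheaf) F := hF.2
  obtain ⟨G⟩ := Groth.Agent.Lib.R2H4CounitEpiQc.exists_generatingSections_Spec R F
  have hgg : Curv2.IsGloballyGenerated F := ⟨G.I, G.π, G.epi⟩
  obtain ⟨k, q, hq⟩ := Groth.Agent.Lib.R2H2.FinGen.exists_finite_epi F hgg
  exact ⟨FlatMod.freeMod (Spec R) k, q,
    Groth.Agent.Lib.R2H2.AmpleRes.isFinLocFree_freeMod k, hq⟩

end Spec

section QC

open Groth.Agent.Lib.Helper23.TensorQCoh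

variable {X : Scheme.{u}} [IsLocallyNoetherian X] [HasInjectiveResolutions (ModSite.Mod X.sheaf)]

/-- `ℋom(L, G)` is quasi-coherent for `L` finite locally free and `G` quasi-coherent. -/
theorem isQuasicoherent_sheafHom_of_isFinLocFree (L G : X.Modules) (hL : FlatMod.IsFinLocFree L)
    [G.IsQuasicoherent] : ((ModSite.sheafHom (O := X.sheaf) L).obj G).IsQuasicoherent := by
  haveI : (dual (O := X.sheaf) L : X.Modules).IsQuasicoherent :=
    Groth.Agent.Lib.R2H2.PullLF.isQuasicoherent_of_isFinLocFree _ (isFinLocFree_dual L hL)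
  haveI h1 : (CohB1.tensorMod G (dual (O := X.sheaf) L)).IsQuasicoherent :=
    isQuasicoherent_tensorMod G (dual (O := X.sheaf) L)
  exact @isQuasicoherent_of_iso _ _ _ ((cIso (O := X.sheaf) L (isLocFF_of_isFinLocFree L hL)).app G) h1

/-- quasi-coherence of the local Ext sheaves, with enough locally frees -/
theorem isQuasicoherent_extSh_of_hasEnoughLocFree (hX : KRR.HasEnoughLocFree X)
    (F G : X.Modules) (hF : Coh.IsCoh F) [hG : G.IsQuasicoherent] (q : ℕ) :
    ((ModSite.extSh (O := X.sheaf) F q).obj G).IsQuasicoherent :=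
  prop_E (extShDelta (O := X.sheaf) G) (fun F : X.Modules => Coh.IsCoh F)
    (fun L : X.Modules => FlatMod.IsFinLocFree L) (fun M : X.Modules => M.IsQuasicoherent)
    (fun A B e hA => by haveI := hA; exact isQuasicoherent_of_iso e)
    (fun f hA hB => by
      haveI := hA; haveI := hB
      exact Groth.Agent.Lib.Helper23.QCohLocal.isQuasicoherent_kernel f)
    (fun f hA hB => by
      haveI := hA; haveI := hB
      exact Groth.Agent.Lib.Helper23.QCohLocal.isQuasicoherent_cokernel f)
    (fun F hF => exists_syz hX F hF)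
    (fun L hL => by
      haveI := isQuasicoherent_sheafHom_of_isFinLocFree L G hL
      exact isQuasicoherent_of_iso (E0Iso G L).symm)
    (fun L hL q => isZero_E_succ_of_isFinLocFree L hL q) q F hF

end QC

section General

open Groth.Agent.Lib.Helper23.TensorQCoh Groth.Agent.Lib.R2H3.OpenShriek

variable {X : Scheme.{u}} [IsLocallyNoetherian X] [HasInjectiveResolutions (ModSite.Mod X.sheaf)]

/-- restriction of a coherent module along an open immersion is coherent -/
theorem isCoh_restrict {Y : Scheme.{u}} (j : Y ⟶ X) [IsOpenImmersion j] (F : X.Modules)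
    (hF : Coh.IsCoh F) : Coh.IsCoh (F.restrict j) := by
  haveI : F.IsQuasicoherent := hF.1
  haveI : SheafOfModules.IsFiniteType (R := X.ringCatSheaf) F := hF.2
  exact ⟨inferInstance, Groth.Agent.Lib.Helper23.FinType.isFiniteType_restrict j F⟩

/-- the restriction of the local Ext sheaves to an affine open, as local Ext sheaves on `Spec` -/
theorem nonempty_restrict_extSh_iso {Y : Scheme.{u}} (j : Y ⟶ X) [IsOpenImmersion j]
    [HasInjectiveResolutions (ModSite.Mod Y.sheaf)] (F G : X.Modules) (q : ℕ) :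
    Nonempty ((Scheme.Modules.restrictFunctor j).obj ((ModSite.extSh (O := X.sheaf) F q).obj G) ≅
      (ModSite.extSh (O := Y.sheaf) (F.restrict j) q).obj (G.restrict j)) :=
  ⟨(restrExtShIso j F q).app G⟩

/-- **quasi-coherence of the local Ext sheaves**: `X` locally Noetherian, `F` coherent, `G`
quasi-coherent. -/
theorem isQuasicoherent_extSh (F G : X.Modules) (hF : Coh.IsCoh F) [hG : G.IsQuasicoherent]
    (q : ℕ) : ((ModSite.extSh (O := X.sheaf) F q).obj G).IsQuasicoherent := by
  refine Groth.Agent.Lib.Helper23.QCohLocal.isQuasicoherent_of_forall_affine _ (fun V hV => ?_)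
  haveI : IsNoetherianRing Γ(X, V) := IsLocallyNoetherian.component_noetherian ⟨V, hV⟩
  letI : HasInjectiveResolutions (ModSite.Mod (Spec Γ(X, V)).sheaf) :=
    Groth.Agent.Lib.R2H3.RpushRestrict.hasInjectiveResolutions_modules (Spec Γ(X, V))
  obtain ⟨e⟩ := nonempty_restrict_extSh_iso hV.fromSpec F G q
  haveI : (G.restrict hV.fromSpec).IsQuasicoherent := inferInstance
  haveI := isQuasicoherent_extSh_of_hasEnoughLocFree (hasEnoughLocFree_spec Γ(X, V))
    (F.restrict hV.fromSpec) (G.restrict hV.fromSpec) (isCoh_restrict hV.fromSpec F hF) q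
  exact isQuasicoherent_of_iso e.symm

end General

section Coherent

open Groth.Agent.Lib.Helper23.FinType Groth.Agent.Lib.R2H3.OpenShriek

variable {X : Scheme.{u}} [IsLocallyNoetherian X] [HasInjectiveResolutions (ModSite.Mod X.sheaf)]

/-- **coherence of the local Ext sheaves**: `X` locally Noetherian, `F`, `G` coherent. -/
theorem isCoh_extSh (F G : X.Modules) (hF : Coh.IsCoh F) (hG : Coh.IsCoh G) (q : ℕ) :
    Coh.IsCoh ((ModSite.extSh (O := X.sheaf) F q).obj G) := by
  haveI : G.IsQuasicoherent := hG.1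
  haveI hqc := isQuasicoherent_extSh F G hF q
  refine ⟨hqc, ?_⟩
  rw [isFiniteType_iff_forall_affine]
  intro V hV
  haveI : IsNoetherianRing Γ(X, V) := IsLocallyNoetherian.component_noetherian ⟨V, hV⟩
  letI : HasInjectiveResolutions (ModSite.Mod (Spec Γ(X, V)).sheaf) :=
    Groth.Agent.Lib.R2H3.RpushRestrict.hasInjectiveResolutions_modules (Spec Γ(X, V))
  obtain ⟨e⟩ := nonempty_restrict_extSh_iso hV.fromSpec F G q
  have hc : Coh.IsCoh ((ModSite.extSh (O := (Spec Γ(X, V)).sheaf) (F.restrict hV.fromSpec) q).obj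
      (G.restrict hV.fromSpec)) :=
    Groth.Agent.Lib.R2H3.ExtShCoh.isCoh_extSh (isCoh_restrict hV.fromSpec G hG)
      (hasEnoughLocFree_spec Γ(X, V)) (F.restrict hV.fromSpec) (isCoh_restrict hV.fromSpec F hF) q
  let E : X.Modules := (ModSite.extSh (O := X.sheaf) F q).obj G
  have hc' : Coh.IsCoh (E.restrict hV.fromSpec) := isCoh_of_iso e.symm hc
  haveI := hc'.1
  haveI := hc'.2
  have h1 : Module.Finite Γ(Spec Γ(X, V), ⊤) Γ(E.restrict hV.fromSpec, ⊤) :=
    finite_of_isFiniteType _ (isAffineOpen_top _)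
  have h2 := (finite_restrict_iff hV.fromSpec E ⊤).1 h1
  have h3 : hV.fromSpec ''ᵁ ⊤ = V := by
    rw [Scheme.Hom.image_top_eq_opensRange, hV.opensRange_fromSpec]
  rw [h3] at h2
  exact h2

end Coherent

end Groth.Agent.Lib.R2H3.ExtAffQC
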