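import Groth.Agent.Lib.R2H3SuppCodim
import Groth.Agent.Lib.Helper4VarDim7
import Groth.Agent.Lib.Helper4VarDim13

/-!
# Dimension formula on pure-dimensional schemes locally of finite type over a field (helper3)

Namespace `Groth.Agent.Lib.R2H3.PureDim`.

* `trdegNat_eq_of_maximal`, `trdegNat_le_of_pure` : on a scheme of pure dimension `n`,
  `trdeg κ(ζ)/k = n` at maximal points, `≤ n` everywhere.
* `ringKrullDim_stalk_add_trdegNat` : `dim O_{X,x} + trdeg κ(x)/k = n` on a scheme of pure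
  dimension `n`.
* `le_ringKrullDim_stalk_of_hom` : `f : Y ⟶ X` a `k`-morphism, `X` pure of dimension `n`, `Y` pure of
  dimension `r`: `n - r ≤ dim O_{X, f y}`.
-/

set_option autoImplicit false
set_option linter.style.haveILetI false
universe u

open AlgebraicGeometry CategoryTheory TopologicalSpace

namespace Groth.Agent.Lib.R2H3.PureDim

open Groth.Agent.Lib.Helper4.VarDim Groth.Agent.Lib.Helper4.DimFormula

variable (k : Type u) [Field k] (X : Scheme.{u}) [X.Over (Spec (CommRingCat.of k))]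
  [LocallyOfFiniteType (X ↘ Spec (CommRingCat.of k))]

theorem trdegNat_eq_of_maximal (n : ℕ)
    (hX : ∀ Z : Set ↥X, Z ∈ irreducibleComponents ↥X → topologicalKrullDim ↥Z = (n : WithBot ℕ∞))
    (ζ : X) (hζ : ∀ w : X, w ⤳ ζ → w = ζ) : trdegNat k X ζ = n := by
  have hc : closure ({ζ} : Set X) ∈ irreducibleComponents X :=
    mem_irreducibleComponents_of_forall_specializes ζ hζ
  have := hX _ hc
  rw [topologicalKrullDim_closure_singleton k X ζ] at this
  exact_mod_cast this

theorem trdegNat_le_of_pure (n : ℕ)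
    (hX : ∀ Z : Set ↥X, Z ∈ irreducibleComponents ↥X → topologicalKrullDim ↥Z = (n : WithBot ℕ∞))
    (x : X) : trdegNat k X x ≤ n := by
  obtain ⟨η, hη, hηx⟩ := exists_maximal_specializes (X := X) x
  have := trdegNat_le_of_specializes k X η x hηx
  rwa [trdegNat_eq_of_maximal k X n hX η hη] at this

include k in
theorem localDim_eq_of_pure (n : ℕ)
    (hX : ∀ Z : Set ↥X, Z ∈ irreducibleComponents ↥X → topologicalKrullDim ↥Z = (n : WithBot ℕ∞))
    (x : X) : FlatMor.localDim X x = (n : WithBot ℕ∞) := by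
  apply le_antisymm
  · refine (Groth.Agent.Lib.Helper7.TopDim.localDim_le_dim x).trans ?_
    refine topologicalKrullDim_le_of_forall_trdegNat_le' k X _ fun t => ?_
    exact_mod_cast trdegNat_le_of_pure k X n hX t
  · rw [Groth.Agent.Lib.Helper7.TopDim.le_localDim_iff]
    intro U hU
    obtain ⟨η, hη, hηx⟩ := exists_maximal_specializes (X := X) x
    have hηU : η ∈ U := hηx.mem_open U.isOpen hU
    have := trdegNat_le_topologicalKrullDim_of_isLocallyClosed k X (U : Set X)
      U.isOpen.isLocallyClosed η hηU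
    rwa [trdegNat_eq_of_maximal k X n hX η hη] at this

theorem ringKrullDim_stalk_add_trdegNat (n : ℕ)
    (hX : ∀ Z : Set ↥X, Z ∈ irreducibleComponents ↥X → topologicalKrullDim ↥Z = (n : WithBot ℕ∞))
    (x : X) : ∃ b : ℕ, ringKrullDim (X.presheaf.stalk x) = b ∧ b + trdegNat k X x = n := by
  obtain ⟨b, hb⟩ := exists_ringKrullDim_stalk_eq k X x
  refine ⟨b, hb, ?_⟩
  have h1 := localDim_eq_add k X x (trdegNat k X x) b (trdeg_eq_trdegNat k X x) hb
  rw [localDim_eq_of_pure k X n hX x] at h1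
  have : n = trdegNat k X x + b := by exact_mod_cast h1
  omega

variable {X}

theorem le_ringKrullDim_stalk_of_hom {Y : Scheme.{u}} [Y.Over (Spec (CommRingCat.of k))]
    [LocallyOfFiniteType (Y ↘ Spec (CommRingCat.of k))] (f : Y ⟶ X)
    (hf : f ≫ (X ↘ Spec (CommRingCat.of k)) = (Y ↘ Spec (CommRingCat.of k))) (n r : ℕ)
    (hX : ∀ Z : Set ↥X, Z ∈ irreducibleComponents ↥X → topologicalKrullDim ↥Z = (n : WithBot ℕ∞))
    (hY : ∀ Z : Set ↥Y, Z ∈ irreducibleComponents ↥Y → topologicalKrullDim ↥Z = (r : WithBot ℕ∞))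
    (y : Y) : ((n - r : ℕ) : WithBot ℕ∞) ≤ ringKrullDim (X.presheaf.stalk (f y)) := by
  obtain ⟨b, hb, hbn⟩ := ringKrullDim_stalk_add_trdegNat k X n hX (f y)
  have h1 := trdegNat_le_of_hom k f hf y
  have h2 := trdegNat_le_of_pure k Y r hY y
  rw [hb]
  have : n - r ≤ b := by omega
  exact_mod_cast this

/-- finite morphisms preserve the transcendence degree of residue fields -/
theorem trdegNat_eq_of_isFinite {Y : Scheme.{u}} [Y.Over (Spec (CommRingCat.of k))]
    [LocallyOfFiniteType (Y ↘ Spec (CommRingCat.of k))] (f : Y ⟶ X)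
    (hf : f ≫ (X ↘ Spec (CommRingCat.of k)) = (Y ↘ Spec (CommRingCat.of k))) [IsFinite f]
    (t : Y) : trdegNat k X (f t) = trdegNat k Y t := by
  have h1 := trdeg_add_trdeg_residueFieldMap k f hf t
  rw [trdeg_residueFieldMap_eq_zero_of_locallyQuasiFinite f t, add_zero,
    trdeg_eq_trdegNat k _ (f t), trdeg_eq_trdegNat k Y t] at h1
  exact_mod_cast h1

/-- `dim O_{X, f y} = dim O_{Y,y} + (n - s)` for a finite `k`-morphism `f : Y ⟶ X` between
schemes of pure dimensions `s ≤ n` -/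
theorem ringKrullDim_stalk_eq_of_isFinite {Y : Scheme.{u}} [Y.Over (Spec (CommRingCat.of k))]
    [LocallyOfFiniteType (Y ↘ Spec (CommRingCat.of k))] (f : Y ⟶ X)
    (hf : f ≫ (X ↘ Spec (CommRingCat.of k)) = (Y ↘ Spec (CommRingCat.of k))) [IsFinite f]
    (n s : ℕ) (hsn : s ≤ n)
    (hX : ∀ Z : Set ↥X, Z ∈ irreducibleComponents ↥X → topologicalKrullDim ↥Z = (n : WithBot ℕ∞))
    (hY : ∀ Z : Set ↥Y, Z ∈ irreducibleComponents ↥Y → topologicalKrullDim ↥Z = (s : WithBot ℕ∞))
    (y : Y) : ringKrullDim (X.presheaf.stalk (f y)) =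
      ringKrullDim (Y.presheaf.stalk y) + ((n - s : ℕ) : WithBot ℕ∞) := by
  obtain ⟨b, hb, hbn⟩ := ringKrullDim_stalk_add_trdegNat k X n hX (f y)
  obtain ⟨b', hb', hbs⟩ := ringKrullDim_stalk_add_trdegNat k Y s hY y
  have h1 := trdegNat_eq_of_isFinite k f hf y
  rw [hb, hb']
  have : b = b' + (n - s) := by omega
  exact_mod_cast this

end Groth.Agent.Lib.R2H3.PureDim
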