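import Groth.Agent.Lib.R2H3OmegaGeo
import Groth.Agent.Lib.R2H3PureDim
import Groth.Agent.Lib.Helper6SmRegSch
import Groth.Agent.Lib.R2H1P1Inter
import Groth.Agent.Lib.R2H1PLineA
import Groth.Agent.Lib.R2H2QProjK0
import Groth.Agent.Lib.Helper23SecTw
import Groth.Agent.Lib.R2LeadKRR
import Groth.Agent.S10829
import Groth.Agent.S9705
set_option backward.isDefEq.respectTransparency.types false

/-!
# The dualizing sheaf of a closed subscheme of `P^n_k`: stalks (helper3, round 2)

Namespace `Groth.Agent.Lib.R2H3.OmegaPn`.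

`ι : X ⟶ P^n_k` a closed immersion over `k`, `X` of pure dimension `r ≤ n`,
`ι_* ω ≅ ℰxt^{n-r}(ι_* O_X, O(-n-1))`.

* `pure_projSpace`, `isRegularLocalRing_stalk`, `isFinLocFreeOfRank_omega` : facts about `P^n_k`;
* `exists_dim` : `dim O_{P, ι x} = dim O_{X,x} + (n - r)`;
* `torsion_stalk_eq_bot` : `ω_x` is torsion free;
* `nonempty_linearEquiv_stalk` : `ω_x ≃ O_{X,x}` if `O_{X,x}` is a field.
-/

set_option autoImplicit false
set_option linter.style.haveILetI false
set_option linter.unusedSectionVars false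
universe u

open CategoryTheory AlgebraicGeometry TopologicalSpace Opposite Limits

namespace Groth.Agent.Lib.R2H3.OmegaPn

variable (k : Type u) [Field k] (n : ℕ)

theorem pure_projSpace :
    ∀ Z : Set ↥(CohB1.ProjSpace n k), Z ∈ irreducibleComponents ↥(CohB1.ProjSpace n k) →
      topologicalKrullDim ↥Z = (n : WithBot ℕ∞) := by
  haveI : IsIntegral (CohB1.ProjSpace n k) := Groth.Agent.Lib.R2H1.PLineA.isIntegral_projSpace n k
  have hdim : topologicalKrullDim ↥(CohB1.ProjSpace n k) = (n : WithBot ℕ∞) :=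
    Groth.Agent.S10829.result k n
  intro Z hZ
  rw [irreducibleComponents_eq_singleton, Set.mem_singleton_iff] at hZ
  subst hZ
  rw [← hdim]
  exact IsHomeomorph.topologicalKrullDim_eq _ (Homeomorph.Set.univ _).isHomeomorph

theorem isRegularLocalRing_stalk (y : CohB1.ProjSpace n k) :
    IsRegularLocalRing ((CohB1.ProjSpace n k).presheaf.stalk y) := by
  haveI : IsNoetherian (CohB1.ProjSpace n k) :=
    Groth.Agent.Lib.R2H2.QProjK0.isNoetherian_projSpace n k
  haveI : Smooth (CohB1.ProjSpace.toSpec n k) := Groth.Agent.Lib.R2H1.P1Inter.smooth_toSpec n k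
  exact Groth.Agent.Lib.Helper6.SmRegSch.isRegularLocalRing_stalk_of_smooth_over_field k _
    (CohB1.ProjSpace.toSpec n k) y

theorem isFinLocFreeOfRank_omega :
    FlatMod.IsFinLocFreeOfRank 1 (Twist.twistProjSpace n k (-((n : ℤ) + 1))) :=
  Groth.Agent.Lib.Helper23.SecTw.isFinLocFreeOfRank_one_of_isInvertible _
    (Groth.Agent.Lib.R2Lead.KRR.isInvertible_twistProjSpace n k _)

variable (r : ℕ) (hr : r ≤ n) {X : Scheme.{u}} [X.Over (Spec (CommRingCat.of k))]
  (ι : X ⟶ CohB1.ProjSpace n k) [IsClosedImmersion ι]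
  (hι : ι ≫ CohB1.ProjSpace.toSpec n k = X ↘ Spec (CommRingCat.of k))
  (heq : ∀ Z : Set ↥X, Z ∈ irreducibleComponents ↥X → topologicalKrullDim ↥Z = (r : WithBot ℕ∞))

include hr hι heq in
theorem exists_dim (x : X) : ∃ d : ℕ, ringKrullDim (X.presheaf.stalk x) = d ∧
    ringKrullDim ((CohB1.ProjSpace n k).presheaf.stalk (ι.base x)) =
      ((d + (n - r) : ℕ) : WithBot ℕ∞) := by
  letI : (CohB1.ProjSpace n k).Over (Spec (CommRingCat.of k)) := ⟨CohB1.ProjSpace.toSpec n k⟩
  haveI : IsProper (CohB1.ProjSpace.toSpec n k) := Groth.Agent.S9705.isProper_projSpace_toSpec n k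
  haveI : LocallyOfFiniteType ((CohB1.ProjSpace n k) ↘ Spec (CommRingCat.of k)) := by
    change LocallyOfFiniteType (CohB1.ProjSpace.toSpec n k)
    infer_instance
  haveI : LocallyOfFiniteType (X ↘ Spec (CommRingCat.of k)) := by
    rw [← hι]
    infer_instance
  obtain ⟨d, hd, -⟩ := Groth.Agent.Lib.R2H3.PureDim.ringKrullDim_stalk_add_trdegNat k X r heq x
  refine ⟨d, hd, ?_⟩
  have h1 := Groth.Agent.Lib.R2H3.PureDim.ringKrullDim_stalk_eq_of_isFinite k
    (X := CohB1.ProjSpace n k) ι hι n r hr (pure_projSpace k n) heq x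
  rw [hd] at h1
  rw [show ι.base x = ι x from rfl, h1]
  push_cast
  rfl

variable [ModSite.HasSheafHom (O := (CohB1.ProjSpace n k).sheaf)
    ((Scheme.Modules.pushforward ι).obj (Coh.structureModule X))]
  [HasInjectiveResolutions (ModSite.Mod (CohB1.ProjSpace n k).sheaf)]
  (ω : X.Modules)
  (hω : Nonempty ((Scheme.Modules.pushforward ι).obj ω ≅
    (ModSite.extSh (O := (CohB1.ProjSpace n k).sheaf)
      ((Scheme.Modules.pushforward ι).obj (Coh.structureModule X)) (n - r)).obj
        (Twist.twistProjSpace n k (-((n : ℤ) + 1)))))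

include hr hι heq hω in
theorem torsion_stalk_eq_bot (x : X) :
    Submodule.torsion (X.presheaf.stalk x) (ω.presheaf.stalk x) = ⊥ := by
  haveI : IsNoetherian (CohB1.ProjSpace n k) :=
    Groth.Agent.Lib.R2H2.QProjK0.isNoetherian_projSpace n k
  haveI := isRegularLocalRing_stalk k n (ι.base x)
  obtain ⟨d, hB, hA⟩ := exists_dim k n r hr ι hι heq x
  exact Groth.Agent.Lib.R2H3.OmegaGeo.torsion_stalk_eq_bot ι _ (isFinLocFreeOfRank_omega k n)
    (n - r) ω hω x d hB hA

include hr hι heq hω in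
theorem nonempty_linearEquiv_stalk (x : X) (hfield : IsField (X.presheaf.stalk x)) :
    Nonempty (X.presheaf.stalk x ≃ₗ[X.presheaf.stalk x] ω.presheaf.stalk x) := by
  haveI : IsNoetherian (CohB1.ProjSpace n k) :=
    Groth.Agent.Lib.R2H2.QProjK0.isNoetherian_projSpace n k
  haveI := isRegularLocalRing_stalk k n (ι.base x)
  obtain ⟨d, hB, hA⟩ := exists_dim k n r hr ι hι heq x
  have hd0 : d = 0 := by
    letI := hfield.toField
    have h0 : ringKrullDim (X.presheaf.stalk x) = 0 := ringKrullDim_eq_zero_of_field _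
    rw [hB] at h0
    exact_mod_cast h0
  subst hd0
  rw [zero_add] at hA
  exact Groth.Agent.Lib.R2H3.OmegaGeo.nonempty_linearEquiv_stalk_of_isField ι _
    (isFinLocFreeOfRank_omega k n) (n - r) ω hω x hfield hA

end Groth.Agent.Lib.R2H3.OmegaPn
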