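import Mathlib
import Groth.Prelude
import Groth.Agent.Lib.R2H4FibTriv
import Groth.Agent.Lib.R2H2Bc0Bij
import Groth.Agent.Lib.H9Models

/-!
helper4 (round 2): invertible modules pulled back from the base, for proper flat morphisms with geometrically
integral fibres (S16951).
-/

set_option backward.isDefEq.respectTransparency.types false
set_option autoImplicit false
set_option linter.style.haveILetI false
set_option linter.unusedSectionVars false
universe u
open CategoryTheory CategoryTheory.Limits AlgebraicGeometry TopologicalSpace Opposite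
open AlgebraicGeometry.Scheme.Modules

noncomputable section

namespace Groth.Agent.Lib.R2H4FibTriv

open Groth.Agent.Lib.Helper23.SecTw Groth.Agent.Lib.Helper23.GenLocus
  Groth.Agent.Lib.Helper23.Extend Groth.Agent.Lib.Helper6 Groth.Agent.Helper13PullbackUnit
  Groth.Agent.Lib.Helper27PullGen Groth.Agent.Lib.Helper23.PB Groth.Agent.Lib.Helper23.GenNear
  Groth.Agent.Lib.R2H2.BcSect Groth.Agent.Lib.R2H2.Bc0 Groth.Agent.Lib.R2H2.Bc0Bij
  Groth.Agent.Lib.R2H2.BcIso Groth.Agent.Lib.R2H4TensorPows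

section Inv

variable {X : Scheme.{u}}

/-- inverses are unique -/
def isoOfInverses (L M M' : X.Modules) (e : CohB1.tensorMod L M ≅ Coh.structureModule X)
    (e' : CohB1.tensorMod L M' ≅ Coh.structureModule X) : M ≅ M' :=
  (rUnit M).symm ≪≫ tIso (Iso.refl M) e'.symm ≪≫ (tAssoc M L M').symm ≪≫
    tIso (tComm M L ≪≫ e) (Iso.refl M') ≪≫ lUnit M'

/-- an inverse of an invertible module is invertible -/
theorem isInvertible_of_inverse (L M : X.Modules) (hL : PicF.IsInvertible L)
    (e : CohB1.tensorMod L M ≅ Coh.structureModule X) : PicF.IsInvertible M := by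
  obtain ⟨L', hL', ⟨e'⟩⟩ := Groth.Agent.Lib.R2H4InvExists.exists_inverse L hL
  exact Groth.Agent.Lib.Helper23.AmpleIso.isInvertible_of_iso (isoOfInverses L L' M e' e) hL'

end Inv

section Epi

variable {X S : Scheme.{u}} (f : X ⟶ S) [QuasiCompact f] [QuasiSeparated f]

/-- **if `κ(s) → Γ(X_s, O)` is surjective and `N` is generated by a single section over the preimage of a
neighbourhood of `s`, then the degree zero base change map of `N` at `s` is an epimorphism** -/
theorem epi_bc0_of_local_gen (N : X.Modules) [N.IsQuasicoherent] (s : S)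
    (hq : Function.Surjective (f.fiberToSpecResidueField s).appTop.hom)
    (V : S.Opens) (hsV : s ∈ V) (t₀ : Γ(N, f ⁻¹ᵁ V)) (ht₀ : IsGen N (f ⁻¹ᵁ V) t₀) :
    Epi (CohBC.bc0 f (S.fromSpecResidueField s) (f.fiberToSpecResidueField s) (f.fiberι s)
      (f.fiber_fac s) N) := by
  obtain ⟨_, ⟨U, hU : IsAffineOpen U, rfl⟩, hsU, hUV⟩ :=
    S.isBasis_affineOpens.exists_subset_of_mem_open hsV V.2
  have hUV' : U ≤ V := hUV
  have hfUV : f ⁻¹ᵁ U ≤ f ⁻¹ᵁ V := f.preimage_mono hUV'
  set t : Γ(N, f ⁻¹ᵁ U) := res N hfUV t₀ with htdef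
  have ht : IsGen N (f ⁻¹ᵁ U) t := ht₀.mono hfUV
  haveI : Subsingleton ↥(Spec (S.residueField s)) :=
    inferInstanceAs (Subsingleton (PrimeSpectrum (S.residueField s)))
  have z : ↥(Spec (S.residueField s)) := (⊥ : PrimeSpectrum (S.residueField s))
  rw [epi_iff_surjective_app _ ⊤ z trivial]
  have hz : ∀ z : Spec (S.residueField s), S.fromSpecResidueField s z ∈ U := fun z => by
    rw [Scheme.fromSpecResidueField_apply]; exact hsU
  have hle : (⊤ : (Spec (S.residueField s)).Opens) ≤ (S.fromSpecResidueField s) ⁻¹ᵁ U :=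
    fun z _ => hz z
  haveI : ((pushforward f).obj N).IsQuasicoherent :=
    Groth.Agent.Lib.Helper23.QCohLocal.isQuasicoherent_pushforward f _
  refine (surjective_tr_app_iff (S.fromSpecResidueField s)
    (CohBC.bc0Adj f (S.fromSpecResidueField s) (f.fiberToSpecResidueField s) (f.fiberι s)
      (f.fiber_fac s) N) hU (isAffineOpen_top _) hle).2 ?_
  rw [eq_top_iff]
  intro m _
  have hle'' : (f.fiberToSpecResidueField s) ⁻¹ᵁ ⊤ ≤ (f.fiberι s) ⁻¹ᵁ (f ⁻¹ᵁ U) :=
    Groth.Agent.Lib.R2H2.BcGen.preimage_le' (w := f.fiber_fac s) hle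
  -- the pulled back section generates
  have hgen : IsGen ((Scheme.Modules.pullback (f.fiberι s)).obj N)
      ((f.fiberToSpecResidueField s) ⁻¹ᵁ ⊤) (unitSec (f.fiberι s) N hle'' t) := by
    have h3 := (isGen_pullback (f.fiberι s) N (f ⁻¹ᵁ U) t ht).mono hle''
    rwa [Groth.Agent.Helper13QcqsBC.unitSec_res (f.fiberι s) N (le_refl _)
      hle'' le_rfl hle'', res_self] at h3
  obtain ⟨a, ha⟩ := (hgen ((f.fiberToSpecResidueField s) ⁻¹ᵁ ⊤) le_rfl).2
    (show Γ((Scheme.Modules.pullback (f.fiberι s)).obj N,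
      (f.fiberToSpecResidueField s) ⁻¹ᵁ ⊤) from m)
  obtain ⟨c, hc⟩ := hq a
  have h4 := φres_bc0Adj f (S.fromSpecResidueField s) (f.fiberToSpecResidueField s) (f.fiberι s)
    (f.fiber_fac s) N hle (show Γ((pushforward f).obj N, U) from t)
  have h5 : m = c • (φres (S.fromSpecResidueField s)
      (CohBC.bc0Adj f (S.fromSpecResidueField s) (f.fiberToSpecResidueField s) (f.fiberι s)
        (f.fiber_fac s) N) hle (show Γ((pushforward f).obj N, U) from t)) := by
    rw [pushforward_smul, h4]
    rw [res_self] at ha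
    rw [← ha, ← hc]
    rfl
  rw [h5]
  exact Submodule.smul_mem _ _ (Submodule.subset_span ⟨_, rfl⟩)

end Epi

section Pull

variable {X S : Scheme.{u}} (f : X ⟶ S)

/-- a module isomorphic to the pullback of an invertible module on the base is generated by a single section over
the preimage of a neighbourhood of each point of the base -/
theorem exists_local_gen_of_pullback (L : X.Modules) (L₀ : S.Modules) (hL₀ : PicF.IsInvertible L₀)
    (e : L ≅ (Scheme.Modules.pullback f).obj L₀) (s : S) :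
    ∃ (V : S.Opens) (_ : s ∈ V) (t : Γ(L, f ⁻¹ᵁ V)), IsGen L (f ⁻¹ᵁ V) t := by
  haveI : L₀.IsQuasicoherent := isQuasicoherent_of_isInvertible L₀ hL₀
  obtain ⟨V, a, hsV, ha⟩ := exists_gen L₀ hL₀ s
  exact ⟨V, hsV, _, isGen_of_iso e.symm (isGen_pullback f L₀ V a ha)⟩

end Pull

section Main

variable {X S : Scheme.{u}} (f : X ⟶ S) [IsProper f] [Flat f] [LocallyOfFinitePresentation f]
  [GeometricallyIntegral f]

/-- the fibres of a proper morphism with geometrically integral fibres have only constant global functions -/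
theorem isIso_fiber_appTop (s : S) : IsIso (f.fiberToSpecResidueField s).appTop := by
  haveI : IsProper (f.fiberToSpecResidueField s) :=
    MorphismProperty.of_isPullback (IsPullback.of_hasPullback f (S.fromSpecResidueField s))
      inferInstance
  haveI : GeometricallyConnected (f.fiberToSpecResidueField s) :=
    Groth.Agent.Lib.H9SteinSm.geometricallyConnected_of_geometricallyIntegral _
  exact Groth.Agent.Lib.H9Models.isIso_appTop_of_geometricallyConnected (S.residueField s)
    (f.fiberToSpecResidueField s)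

/-- the four conditions of S16951 -/
def Cond (L M : X.Modules) : Prop :=
  (∀ s : S, Nontrivial (CohIII.fiberH f L s 0)) ∧ (∀ s : S, Nontrivial (CohIII.fiberH f M s 0)) ∧
    (∀ s : S, Epi (CohBC.bc0 f (S.fromSpecResidueField s) (f.fiberToSpecResidueField s)
      (f.fiberι s) (f.fiber_fac s) L)) ∧
    (∀ s : S, Epi (CohBC.bc0 f (S.fromSpecResidueField s) (f.fiberToSpecResidueField s)
      (f.fiberι s) (f.fiber_fac s) M))

/-- modules pulled back from the base satisfy the conditions -/
theorem cond_of_pullback (L M : X.Modules) (hL : PicF.IsInvertible L)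
    (eM : CohB1.tensorMod L M ≅ Coh.structureModule X)
    (L₀ : S.Modules) (hL₀ : PicF.IsInvertible L₀) (e : L ≅ (Scheme.Modules.pullback f).obj L₀) :
    Cond f L M := by
  have hM : PicF.IsInvertible M := isInvertible_of_inverse L M hL eM
  haveI : L.IsQuasicoherent := isQuasicoherent_of_isInvertible L hL
  haveI : M.IsQuasicoherent := isQuasicoherent_of_isInvertible M hM
  -- `M` is pulled back from the base as well
  obtain ⟨M₀, hM₀, ⟨e₀⟩⟩ := Groth.Agent.Lib.R2H4InvExists.exists_inverse L₀ hL₀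
  have eM' : M ≅ (Scheme.Modules.pullback f).obj M₀ :=
    isoOfInverses L M _ eM (tIso e (Iso.refl _) ≪≫
      (Groth.Agent.Lib.Helper23.RestrTensor.pullbackTensorIso L₀ M₀ f).symm ≪≫
      (Scheme.Modules.pullback f).mapIso e₀ ≪≫ pullbackUnitIso f)
  have hsurj : ∀ s : S, Function.Surjective (f.fiberToSpecResidueField s).appTop.hom := fun s => by
    haveI := isIso_fiber_appTop f s
    exact (ConcreteCategory.bijective_of_isIso (f.fiberToSpecResidueField s).appTop).2
  have hnt : ∀ (N : X.Modules) (N₀ : S.Modules), PicF.IsInvertible N₀ →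
      (N ≅ (Scheme.Modules.pullback f).obj N₀) → ∀ s : S, Nontrivial (CohIII.fiberH f N s 0) := by
    intro N N₀ hN₀ eN s
    obtain ⟨e'⟩ := fibre_trivial_of_pullback f N₀ hN₀ s
    haveI : Nontrivial Γ(f.fiber s, ⊤) := by
      haveI := isIso_fiber_appTop f s
      exact ((ConcreteCategory.bijective_of_isIso
        (f.fiberToSpecResidueField s).appTop).injective).nontrivial
    exact not_subsingleton_iff_nontrivial.1
      (Groth.Agent.Lib.R2H4TrivInt.not_subsingleton_HH_of_iso _
        ((Scheme.Modules.pullback (f.fiberι s)).mapIso eN ≪≫ e'))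
  refine ⟨hnt L L₀ hL₀ e, hnt M M₀ hM₀ eM', fun s => ?_, fun s => ?_⟩
  · obtain ⟨V, hsV, t, ht⟩ := exists_local_gen_of_pullback f L L₀ hL₀ e s
    exact epi_bc0_of_local_gen f L s (hsurj s) V hsV t ht
  · obtain ⟨V, hsV, t, ht⟩ := exists_local_gen_of_pullback f M M₀ hM₀ eM' s
    exact epi_bc0_of_local_gen f M s (hsurj s) V hsV t ht

/-- consequences of the conditions -/
theorem of_cond (L M : X.Modules) (hL : PicF.IsInvertible L)
    (eM : CohB1.tensorMod L M ≅ Coh.structureModule X) (h : Cond f L M) :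
    (∀ s : S, CohIII.fiberRank f L 0 s = 1 ∧ CohIII.fiberRank f M 0 s = 1) ∧
      PicF.IsInvertible ((pushforward f).obj L) ∧
      IsIso ((pullbackPushforwardAdjunction f).counit.app L) ∧
      ∀ L₀ : S.Modules, PicF.IsInvertible L₀ → Nonempty (L ≅ (Scheme.Modules.pullback f).obj L₀) →
        Nonempty (L₀ ≅ (pushforward f).obj L) := by
  obtain ⟨h1, h2, h3, h4⟩ := h
  have hM : PicF.IsInvertible M := isInvertible_of_inverse L M hL eM
  haveI : L.IsQuasicoherent := isQuasicoherent_of_isInvertible L hL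
  have hfp : CohB1.IsFP L := Groth.Agent.Lib.Helper2.LocFree.isFP_of_isFinLocFree L
    (Groth.Agent.Helper18PBUnit.isFinLocFree_of_isInvertible hL)
  have hfl : FlatMod.IsFlatOver f L := Groth.Agent.Lib.R2H4TrivInt.isFlatOver_of_isInvertible f L hL
  have hiso : ∀ s : S, IsIso (f.fiberToSpecResidueField s).appTop := isIso_fiber_appTop f
  have h0 : ∀ s : S, Module.finrank (S.residueField s) Γ(f.fiber s, ⊤) = 1 := fun s =>
    (Groth.Agent.Lib.H9FibOne.isIso_appTop_iff_finrank f s).1 (hiso s)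
  have hfV : ∀ V : S.Opens, IsIso (f.app V) := fun V => Groth.Agent.Lib.H9CbH.main f hiso V
  -- triviality on the fibres
  have htrivL : ∀ s : S, Nonempty (CohIII.fiberMod f L s ≅ Coh.structureModule (f.fiber s)) :=
    fun s => (Groth.Agent.Lib.R2H4TrivInt.fibre_trivial_iff f s L M hL hM eM).2
      ⟨not_subsingleton_iff_nontrivial.2 (h1 s), not_subsingleton_iff_nontrivial.2 (h2 s)⟩
  have htrivM : ∀ s : S, Nonempty (CohIII.fiberMod f M s ≅ Coh.structureModule (f.fiber s)) :=
    fun s => (Groth.Agent.Lib.R2H4TrivInt.fibre_trivial_iff f s M L hM hL (tComm M L ≪≫ eM)).2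
      ⟨not_subsingleton_iff_nontrivial.2 (h2 s), not_subsingleton_iff_nontrivial.2 (h1 s)⟩
  have hrank : ∀ s : S, CohIII.fiberRank f L 0 s = 1 ∧ CohIII.fiberRank f M 0 s = 1 := fun s => by
    obtain ⟨eL⟩ := htrivL s
    obtain ⟨eM'⟩ := htrivM s
    exact ⟨fiberRank_eq_one_of_iso f L s eL (h0 s), fiberRank_eq_one_of_iso f M s eM' (h0 s)⟩
  -- local generators
  have claim := exists_local_gen_of_good f L hL (fun s => by
    obtain ⟨U, hsU, -, hgood⟩ := exists_nhd_push_of_epi_bc0 f L hfp hfl s (h3 s)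
    exact ⟨U, hsU, hgood⟩) htrivL
  obtain ⟨hinv, hcounit⟩ := push_invertible_of_local_gen f hfV L claim
  refine ⟨hrank, hinv, hcounit, ?_⟩
  rintro L₀ hL₀ ⟨e⟩
  haveI := isIso_unit_of_isInvertible f hfV L₀ hL₀
  exact ⟨asIso ((pullbackPushforwardAdjunction f).unit.app L₀) ≪≫
    (pushforward f).mapIso e.symm⟩

/-- **S16951** -/
theorem mainB (L M : X.Modules) (hL : PicF.IsInvertible L)
    (hM : Nonempty (CohB1.tensorMod L M ≅ Coh.structureModule X)) :
    ((∃ L₀ : S.Modules, PicF.IsInvertible L₀ ∧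
        Nonempty (L ≅ (Scheme.Modules.pullback f).obj L₀)) ↔ Cond f L M) ∧
    (Cond f L M →
      (∀ s : S, CohIII.fiberRank f L 0 s = 1 ∧ CohIII.fiberRank f M 0 s = 1) ∧
      IsIso ((pullbackPushforwardAdjunction f).counit.app L) ∧
      ∀ L₀ : S.Modules, PicF.IsInvertible L₀ → Nonempty (L ≅ (Scheme.Modules.pullback f).obj L₀) →
        Nonempty (L₀ ≅ (pushforward f).obj L)) := by
  obtain ⟨eM⟩ := hM
  refine ⟨⟨?_, fun h => ?_⟩, fun h => ?_⟩
  · rintro ⟨L₀, hL₀, ⟨e⟩⟩
    exact cond_of_pullback f L M hL eM L₀ hL₀ e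
  · obtain ⟨-, hinv, hcounit, -⟩ := of_cond f L M hL eM h
    haveI := hcounit
    exact ⟨(pushforward f).obj L, hinv,
      ⟨(asIso ((pullbackPushforwardAdjunction f).counit.app L)).symm⟩⟩
  · obtain ⟨hr, -, hcounit, huniq⟩ := of_cond f L M hL eM h
    exact ⟨hr, hcounit, huniq⟩

end Main

end Groth.Agent.Lib.R2H4FibTriv
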