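import Mathlib
import Groth.Prelude
import Groth.Agent.Lib.R2H3DualCount
import Groth.Agent.Lib.R2H2SheafHomExt
import Groth.Agent.Lib.R2H2PnTwEquiv
import Groth.Agent.Lib.R2H4FGASnapper
import Groth.Agent.Lib.R2H4FGAAdd
import Groth.Agent.Lib.R2H4FGANewton
import Groth.Agent.Lib.R2H4GVSch
import Groth.Agent.Lib.R2H4TensorPows
import Groth.Agent.Lib.R2H4FibTrivB
import Groth.Agent.Lib.R2H4BCGlue
import Groth.Agent.Lib.R2H1DegTensor
import Groth.Agent.Lib.R2H1EulerAdd
import Groth.Agent.Lib.Helper5MiracleSch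
import Groth.Agent.Lib.Helper4DimFormulaAL
import Groth.Agent.S0485
import Groth.Agent.S0341
import Groth.Agent.Lib.Helper5LCIGorSch
import Groth.Agent.Lib.Helper5GorRing
import Groth.Agent.Lib.Helper5FiberMor
import Groth.Agent.Lib.Helper23TensorUnit
import Groth.Agent.Lib.R2H4InvExists

set_option autoImplicit false
set_option linter.style.haveILetI false
set_option linter.unusedSectionVars false
universe u

/-!
# Riemann–Roch on a projective Cohen–Macaulay surface with invertible dualizing sheaf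
(helper4, round 2)

Namespace `Groth.Agent.Lib.R2H4GorRR`.

* `sheafHomIsoTensor` : `Hom(L, -) ≅ L' ⊗ -` when `L ⊗ L' ≅ O ≅ L' ⊗ L`;
* `euler_sheafHom` : `χ(Hom(F, ω)) = χ(F)` for `F` finite locally free (Serre duality, from helper3's
  `R2H3.DualCount.main`);
* `euler_tensor_dualizing` : `χ(L' ⊗ ω) = χ(L)`;
* `cubic` : `3χ(L) = χ(L ⊗ L) - χ(L') + 3χ(O)` on a surface (vanishing of triple intersection
  numbers);
* `main` : `2χ(L) = (L·L) - (L·ω) + 2χ(O)`.
-/

open CategoryTheory CategoryTheory.Limits AlgebraicGeometry Opposite Abelian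

noncomputable section

namespace Groth.Agent.Lib.R2H4GorRR

open Groth.Agent.Lib.R2H4TensorPows Groth.Agent.Lib.R2H4FGAAdd
  Groth.Agent.Lib.R2H1.DegCartier

attribute [local instance] Groth.Agent.Lib.Helper21.ExtShDelta.hasSheafHom

section Adj

variable {X : Scheme.{u}}

/-- `L ⊗ - ⊣ L' ⊗ -` when `L ⊗ L' ≅ O ≅ L' ⊗ L` -/
def tensorAdj (L L' : X.Modules)
    (e : (DCoh.tensorBi.obj L).obj L' ≅ Coh.structureModule X)
    (e' : (DCoh.tensorBi.obj L').obj L ≅ Coh.structureModule X) :
    DCoh.tensorBi.obj L ⊣ DCoh.tensorBi.obj L' :=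
  let η : DCoh.tensorBi.obj L ⋙ DCoh.tensorBi.obj L' ≅ 𝟭 X.Modules :=
    (Groth.Agent.Lib.Helper21.ModTensor6.tLTensorIso X.sheaf L' L).symm ≪≫
      DCoh.tensorBi.mapIso e' ≪≫ Groth.Agent.Lib.Helper21.ModTensor7.tLUnitIso X.sheaf
  let ε : DCoh.tensorBi.obj L' ⋙ DCoh.tensorBi.obj L ≅ 𝟭 X.Modules :=
    (Groth.Agent.Lib.Helper21.ModTensor6.tLTensorIso X.sheaf L L').symm ≪≫
      DCoh.tensorBi.mapIso e ≪≫ Groth.Agent.Lib.Helper21.ModTensor7.tLUnitIso X.sheaf
  (CategoryTheory.Equivalence.mk (DCoh.tensorBi.obj L) (DCoh.tensorBi.obj L') η.symm ε).toAdjunction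

/-- `Hom(L, G) ≅ L' ⊗ G` -/
def sheafHomIsoTensor (L L' : X.Modules) [DCoh.HasSheafHom L]
    (e : CohB1.tensorMod L L' ≅ Coh.structureModule X) (G : X.Modules) : (DCoh.sheafHom L).obj G ≅ CohB1.tensorMod L' G :=
  ((DCoh.sheafHomAdj L).rightAdjointUniq (tensorAdj L L' e (tComm L' L ≪≫ e))).app G

end Adj

section Dim

theorem equidim_of_irreducible {T : Type*} [TopologicalSpace T] [IrreducibleSpace T]
    (e : WithBot ℕ∞) (h : topologicalKrullDim T = e) :
    ∀ Z ∈ irreducibleComponents T, topologicalKrullDim Z = e := by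
  intro Z hZ
  rw [irreducibleComponents_eq_singleton, Set.mem_singleton_iff] at hZ
  subst hZ
  rw [← h]
  exact IsHomeomorph.topologicalKrullDim_eq _ (Homeomorph.Set.univ T).isHomeomorph

end Dim

section Duality

variable (k : Type u) [Field k] (N : ℕ) {X : Scheme.{u}} [X.Over (Spec (CommRingCat.of k))]
  (ι : X ⟶ CohB1.ProjSpace N k) [IsClosedImmersion ι]
  (hι : ι ≫ CohB1.ProjSpace.toSpec N k = X ↘ Spec (CommRingCat.of k))
  [IsIntegral X] (hdim : topologicalKrullDim X = 2)
  (hCM : ∀ x : X, LocCoh.IsCohenMacaulayLocalRing (X.presheaf.stalk x))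
  (ω : X.Modules) (hωcoh : Coh.IsCoh ω) (t : Coh.HH X ω 2 →ₗ[k] k)
  (hdual : ∀ F : X.Modules, Coh.IsCoh F → ∀ ψ : Coh.HH X F 2 →ₗ[k] k,
    ∃! φ : F ⟶ ω, ∀ x : Coh.HH X F 2,
      ψ x = t (Sheaf.H.map ((SheafOfModules.toSheaf X.ringCatSheaf).map φ) 2 x))

include hι hdim hCM hωcoh hdual in
/-- Serre duality in dimension form: `h^{2-i}(Hom(F, ω)) = h^i(F)` -/
theorem finrank_sheafHom (F : X.Modules) [DCoh.HasSheafHom F] (hF : FlatMod.IsFinLocFree F)
    (i : ℕ) (hi : i ≤ 2) :
    Module.finrank k (Coh.HH X ((DCoh.sheafHom F).obj ω) (2 - i)) =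
      Module.finrank k (Coh.HH X F i) := by
  haveI : IsLocallyNoetherian X :=
    Groth.Agent.Lib.R2H3.CMVanish.isLocallyNoetherian_of_closedImmersion k N ι
  haveI : IsProper (X ↘ Spec (CommRingCat.of k)) :=
    Groth.Agent.Lib.R2H3.DualCount.isProper_of_closedImmersion k N ι hι
  haveI : EnoughInjectives X.Modules :=
    Groth.Agent.S0485.result (Opens.grothendieckTopology X) X.ringCatSheaf
  haveI : HasExt.{u} X.Modules := hasExt_of_enoughInjectives X.Modules
  have hCM' : ∀ x : X, IsClosed ({x} : Set ↥X) →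
      LocCoh.IsCohenMacaulayLocalRing (X.presheaf.stalk x) ∧
        ringKrullDim (X.presheaf.stalk x) = (2 : ℕ) := by
    intro x hx
    refine ⟨hCM x, ?_⟩
    have h1 := Groth.Agent.Lib.Helper5.MiracleSch.stalk_add_ptTrdeg_of_equidim k
      (X ↘ Spec (CommRingCat.of k)) 2 (equidim_of_irreducible _ (by rw [hdim]; rfl)) x
    rw [Groth.Agent.Lib.Helper4.DimFormula.ptTrdeg_eq_zero_of_isClosed _ x hx] at h1
    simpa using h1
  have hFc : Coh.IsCoh F := Groth.Agent.Lib.R2H2.QProjK0.isCoh_of_isFinLocFree F hF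
  obtain ⟨h1, -⟩ := Groth.Agent.Lib.R2H3.DualCount.main
    (Groth.Agent.Lib.R2H3.DualCount.hyp_closed k N 2 ι hι (by rw [hdim]; rfl) hCM' ω hωcoh t hdual)
    F hFc
  obtain ⟨e1⟩ := h1 (2 - i) (Nat.sub_le 2 i)
  obtain ⟨e2⟩ := Groth.Agent.Lib.R2H2.SheafHomExt.nonempty_ext_HH (k := k) F hF ω (2 - i)
  have hni : 2 - (2 - i) = i := by omega
  rw [hni] at e1
  haveI : Module.Finite k (Coh.HH X F i) := Groth.Agent.Lib.R2H1.EulerAdd.finite_HH k X F hFc i
  rw [(e2.symm.trans e1).finrank_eq, Subspace.dual_finrank_eq]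

include hι hdim hCM hωcoh hdual in
/-- `χ(Hom(F, ω)) = χ(F)` -/
theorem euler_sheafHom (F : X.Modules) [DCoh.HasSheafHom F] (hF : FlatMod.IsFinLocFree F) :
    Curv2.euler k X ((DCoh.sheafHom F).obj ω) = Curv2.euler k X F := by
  haveI : IsProper (X ↘ Spec (CommRingCat.of k)) :=
    Groth.Agent.Lib.R2H3.DualCount.isProper_of_closedImmersion k N ι hι
  have hd : topologicalKrullDim X ≤ ((2 : ℕ) : WithBot ℕ∞) := hdim.le
  rw [← Groth.Agent.Lib.R2H4GVSch.eulerCharLE_eq_euler k X 2 hd,
    ← Groth.Agent.Lib.R2H4GVSch.eulerCharLE_eq_euler k X 2 hd]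
  unfold FGA.eulerCharLE
  have h0 := finrank_sheafHom k N ι hι hdim hCM ω hωcoh t hdual F hF 0 (by omega)
  have h1 := finrank_sheafHom k N ι hι hdim hCM ω hωcoh t hdual F hF 1 (by omega)
  have h2 := finrank_sheafHom k N ι hι hdim hCM ω hωcoh t hdual F hF 2 (by omega)
  simp only [Nat.sub_zero, Nat.sub_self, show 2 - 1 = 1 from rfl] at h0 h1 h2
  simp only [Finset.sum_range_succ, Finset.sum_range_zero, h0, h1, h2]
  ring

include hι hdim hCM hωcoh hdual in
/-- `χ(L' ⊗ ω) = χ(L)` for `L ⊗ L' ≅ O` -/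
theorem euler_tensor_dualizing (L L' : X.Modules) (hL : PicF.IsInvertible L)
    (e : CohB1.tensorMod L L' ≅ Coh.structureModule X) :
    Curv2.euler k X (CohB1.tensorMod L' ω) = Curv2.euler k X L := by
  haveI : DCoh.HasSheafHom L := (tensorAdj L L' e (tComm L' L ≪≫ e)).isLeftAdjoint
  rw [← euler_congr k (sheafHomIsoTensor L L' e ω)]
  exact euler_sheafHom k N ι hι hdim hCM ω hωcoh t hdual L
    (Groth.Agent.Lib.R2H1.DegTensor.isFinLocFree_of_rank'
      (Groth.Agent.Lib.Helper23.SecTw.isFinLocFreeOfRank_one_of_isInvertible L hL))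

end Duality

section Cubic

variable (k : Type u) [Field k] {X : Scheme.{u}} [X.Over (Spec (CommRingCat.of k))]
  [IsProper (X ↘ Spec (CommRingCat.of k))]

theorem intNum_one (d : ℕ) (hd : topologicalKrullDim X ≤ d) (C F : X.Modules) :
    (FGA.intNum k X d (Fin.cons C (Fin.elim0 : Fin 0 → X.Modules) : Fin 1 → X.Modules) F : ℚ) =
      Curv2.euler k X F - Curv2.euler k X (CohB1.tensorMod F C) := by
  rw [intNum_cons k d hd, Groth.Agent.Lib.R2H4FGANewton.intNum_zero k d hd,
    Groth.Agent.Lib.R2H4FGANewton.intNum_zero k d hd,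
    Groth.Agent.Lib.R2H4GVSch.eulerCharLE_eq_euler k X d hd,
    Groth.Agent.Lib.R2H4GVSch.eulerCharLE_eq_euler k X d hd]

theorem intNum_two (d : ℕ) (hd : topologicalKrullDim X ≤ d) (B C F : X.Modules) :
    (FGA.intNum k X d (Fin.cons B (Fin.cons C (Fin.elim0 : Fin 0 → X.Modules)) :
      Fin 2 → X.Modules) F : ℚ) =
      Curv2.euler k X F - Curv2.euler k X (CohB1.tensorMod F C) -
        Curv2.euler k X (CohB1.tensorMod F B) +
        Curv2.euler k X (CohB1.tensorMod (CohB1.tensorMod F B) C) := by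
  rw [intNum_cons k d hd, intNum_one k d hd, intNum_one k d hd]
  push_cast
  ring

theorem intNum_three (d : ℕ) (hd : topologicalKrullDim X ≤ d) (A B C F : X.Modules) :
    (FGA.intNum k X d (Fin.cons A (Fin.cons B (Fin.cons C (Fin.elim0 : Fin 0 → X.Modules))) :
      Fin 3 → X.Modules) F : ℚ) =
      (Curv2.euler k X F - Curv2.euler k X (CohB1.tensorMod F C) -
        Curv2.euler k X (CohB1.tensorMod F B) +
        Curv2.euler k X (CohB1.tensorMod (CohB1.tensorMod F B) C)) -
      (Curv2.euler k X (CohB1.tensorMod F A) -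
        Curv2.euler k X (CohB1.tensorMod (CohB1.tensorMod F A) C) -
        Curv2.euler k X (CohB1.tensorMod (CohB1.tensorMod F A) B) +
        Curv2.euler k X (CohB1.tensorMod (CohB1.tensorMod (CohB1.tensorMod F A) B) C)) := by
  rw [intNum_cons k d hd, intNum_two k d hd, intNum_two k d hd]

/-- `3χ(L) = χ(L ⊗ L) - χ(L') + 3χ(O)` on a proper scheme of dimension `≤ 2` -/
theorem cubic (hd : topologicalKrullDim X ≤ ((2 : ℕ) : WithBot ℕ∞)) (L L' : X.Modules)
    (hL : PicF.IsInvertible L) (e : CohB1.tensorMod L L' ≅ Coh.structureModule X) :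
    3 * Curv2.euler k X L = Curv2.euler k X (CohB1.tensorMod L L) - Curv2.euler k X L' +
      3 * Curv2.euler k X (Coh.structureModule X) := by
  have hL' : PicF.IsInvertible L' := Groth.Agent.Lib.R2H4FibTriv.isInvertible_of_inverse L L' hL e
  have cO : Coh.IsCoh (Coh.structureModule X) :=
    Groth.Agent.Lib.R2H4BCGlue.isCoh_structureModule X
  have hr : topologicalKrullDim (CohB1.support (Coh.structureModule X)) <
      ((3 : ℕ) : WithBot ℕ∞) :=
    lt_of_le_of_lt (le_trans (topologicalKrullDim_subspace_le _ _) hd) (by norm_cast)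
  have h0 := Groth.Agent.Lib.R2H4FGASnapper.s3231 k 2 hd
    (Fin.cons L (Fin.cons L (Fin.cons L' (Fin.elim0 : Fin 0 → X.Modules))) : Fin 3 → X.Modules)
    (fun j => by
      induction j using Fin.cases with
      | zero => exact hL
      | succ j =>
        induction j using Fin.cases with
        | zero => exact hL
        | succ j =>
          induction j using Fin.cases with
          | zero => exact hL'
          | succ j => exact j.elim0)
    (Coh.structureModule X) cO hr
  have h1 := intNum_three k 2 hd L L L' (Coh.structureModule X)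
  rw [h0] at h1
  have a1 : Curv2.euler k X (CohB1.tensorMod (Coh.structureModule X) L') = Curv2.euler k X L' :=
    euler_congr k (lUnit L')
  have a2 : Curv2.euler k X (CohB1.tensorMod (Coh.structureModule X) L) = Curv2.euler k X L :=
    euler_congr k (lUnit L)
  have a3 : Curv2.euler k X (CohB1.tensorMod (CohB1.tensorMod (Coh.structureModule X) L) L') =
      Curv2.euler k X (Coh.structureModule X) :=
    euler_congr k (tIso (lUnit L) (Iso.refl L') ≪≫ e)
  have a4 : Curv2.euler k X (CohB1.tensorMod (CohB1.tensorMod (Coh.structureModule X) L) L) =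
      Curv2.euler k X (CohB1.tensorMod L L) :=
    euler_congr k (tIso (lUnit L) (Iso.refl L))
  have a5 : Curv2.euler k X (CohB1.tensorMod (CohB1.tensorMod
      (CohB1.tensorMod (Coh.structureModule X) L) L) L') = Curv2.euler k X L :=
    euler_congr k (tIso (tIso (lUnit L) (Iso.refl L)) (Iso.refl L') ≪≫ tAssoc L L L' ≪≫
      tIso (Iso.refl L) e ≪≫ rUnit L)
  rw [a1, a2, a3, a4, a5] at h1
  have h2 : (3 * Curv2.euler k X L : ℚ) = Curv2.euler k X (CohB1.tensorMod L L) -
      Curv2.euler k X L' + 3 * Curv2.euler k X (Coh.structureModule X) := by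
    push_cast at h1
    linarith
  exact_mod_cast h2

end Cubic

section LCI

theorem isGorenstein_spec_field (k : Type u) [Field k] :
    Dual3.IsGorenstein (Spec (CommRingCat.of k)) := by
  refine ⟨inferInstance, fun pt => ?_⟩
  letI : Algebra k ((Spec (CommRingCat.of k)).presheaf.stalk pt) :=
    StructureSheaf.stalkAlgebra k pt
  haveI : IsLocalization.AtPrime ((Spec (CommRingCat.of k)).presheaf.stalk pt) pt.asIdeal :=
    StructureSheaf.IsLocalization.to_stalk k pt
  have H : pt.asIdeal.primeCompl ≤ IsUnit.submonoid k := by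
    intro a ha
    have hne : a ≠ 0 := fun h => ha (by rw [h]; exact zero_mem _)
    exact hne.isUnit
  have e := IsLocalization.atUnits k pt.asIdeal.primeCompl
    (S := (Spec (CommRingCat.of k)).presheaf.stalk pt) H
  exact Groth.Agent.Lib.Helper5.FiberMor.isoInv_gor k _ e.toRingEquiv
    (Groth.Agent.Lib.Helper5.GorRing.gorLocal_of_field k)

/-- a scheme which is a local complete intersection over a field has Cohen–Macaulay local rings -/
theorem isCohenMacaulayLocalRing_stalk_of_isLCIMor (k : Type u) [Field k] {X : Scheme.{u}}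
    (p : X ⟶ Spec (CommRingCat.of k)) (h : Dual3.IsLCIMor p) (x : X) :
    LocCoh.IsCohenMacaulayLocalRing (X.presheaf.stalk x) := by
  have hG := Groth.Agent.Lib.Helper5.LCIGorSch.isGorenstein_of_isLCIMor p h
    (isGorenstein_spec_field k)
  haveI := hG.2 x
  exact Groth.Agent.S0341.result _

end LCI

section Main

variable (k : Type u) [Field k] (N : ℕ) {X : Scheme.{u}} [X.Over (Spec (CommRingCat.of k))]
  (ι : X ⟶ CohB1.ProjSpace N k) [IsClosedImmersion ι]
  (hι : ι ≫ CohB1.ProjSpace.toSpec N k = X ↘ Spec (CommRingCat.of k))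
  [IsIntegral X] (hdim : topologicalKrullDim X = 2)
  (hCM : ∀ x : X, LocCoh.IsCohenMacaulayLocalRing (X.presheaf.stalk x))
  (ω : X.Modules) (hωcoh : Coh.IsCoh ω) (t : Coh.HH X ω 2 →ₗ[k] k)
  (hdual : ∀ F : X.Modules, Coh.IsCoh F → ∀ ψ : Coh.HH X F 2 →ₗ[k] k,
    ∃! φ : F ⟶ ω, ∀ x : Coh.HH X F 2,
      ψ x = t (Sheaf.H.map ((SheafOfModules.toSheaf X.ringCatSheaf).map φ) 2 x))

include hι hdim hCM hωcoh hdual in
/-- **Riemann–Roch**: `2χ(L) = (L·L) - (L·ω) + 2χ(O)` -/
theorem main (L : X.Modules) (hL : PicF.IsInvertible L) :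
    2 * Curv2.euler k X L = FGA.intNum k X 2 ![L, L] (Coh.structureModule X) -
      FGA.intNum k X 2 ![L, ω] (Coh.structureModule X) +
      2 * Curv2.euler k X (Coh.structureModule X) := by
  haveI : IsProper (X ↘ Spec (CommRingCat.of k)) :=
    Groth.Agent.Lib.R2H3.DualCount.isProper_of_closedImmersion k N ι hι
  have hd : topologicalKrullDim X ≤ ((2 : ℕ) : WithBot ℕ∞) := hdim.le
  obtain ⟨L', hL', ⟨e⟩⟩ := Groth.Agent.Lib.R2H4InvExists.exists_inverse L hL
  have hcub := cubic k hd L L' hL e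
  have b1 : (FGA.intNum k X 2 ![L, L] (Coh.structureModule X) : ℚ) = _ :=
    intNum_two k 2 hd L L (Coh.structureModule X)
  have b2 : (FGA.intNum k X 2 ![L, ω] (Coh.structureModule X) : ℚ) = _ :=
    intNum_two k 2 hd L ω (Coh.structureModule X)
  have a2 : Curv2.euler k X (CohB1.tensorMod (Coh.structureModule X) L) = Curv2.euler k X L :=
    euler_congr k (lUnit L)
  have a4 : Curv2.euler k X (CohB1.tensorMod (CohB1.tensorMod (Coh.structureModule X) L) L) =
      Curv2.euler k X (CohB1.tensorMod L L) :=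
    euler_congr k (tIso (lUnit L) (Iso.refl L))
  have c1 : Curv2.euler k X (CohB1.tensorMod (Coh.structureModule X) ω) =
      Curv2.euler k X (Coh.structureModule X) :=
    euler_tensor_dualizing k N ι hι hdim hCM ω hωcoh t hdual _ _
      (Groth.Agent.Lib.Helper23.TensorUnit.isInvertible_structureModule X)
      (lUnit (Coh.structureModule X))
  have c2 : Curv2.euler k X (CohB1.tensorMod (CohB1.tensorMod (Coh.structureModule X) L) ω) =
      Curv2.euler k X L' := by
    rw [euler_congr k (tIso (lUnit L) (Iso.refl ω))]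
    exact euler_tensor_dualizing k N ι hι hdim hCM ω hωcoh t hdual L' L hL' (tComm L' L ≪≫ e)
  rw [a2, a4] at b1
  rw [a2, c1, c2] at b2
  have h2 : (2 * Curv2.euler k X L : ℚ) = FGA.intNum k X 2 ![L, L] (Coh.structureModule X) -
      FGA.intNum k X 2 ![L, ω] (Coh.structureModule X) +
      2 * Curv2.euler k X (Coh.structureModule X) := by
    rw [b1, b2]
    have hc : (3 * Curv2.euler k X L : ℚ) = Curv2.euler k X (CohB1.tensorMod L L) -
        Curv2.euler k X L' + 3 * Curv2.euler k X (Coh.structureModule X) := by exact_mod_cast hcub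
    linarith
  exact_mod_cast h2

end Main

end Groth.Agent.Lib.R2H4GorRR
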