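import Mathlib
import Groth.Prelude
import Groth.Agent.Lib.Helper23SecTw6
import Groth.Agent.Lib.Helper23SecTw3
import Groth.Agent.Lib.Helper20StalkExact
import Groth.Agent.Lib.R2H1InvHom
import Groth.Agent.Lib.H9YBlowUp
import Groth.Agent.Lib.Helper4VarDim5
import Groth.Agent.Lib.Helper4VarDim6
import Groth.Agent.Lib.Helper7TopDim
set_option backward.isDefEq.respectTransparency.types false

/-!
# The zero locus of a nonzero section of an invertible module has codimension one
(helper4, round 2)
-/

set_option autoImplicit false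
set_option linter.style.haveILetI false
set_option linter.unusedSectionVars false
universe u

open CategoryTheory CategoryTheory.Limits AlgebraicGeometry TopologicalSpace

namespace Groth.Agent.Lib.R2H4CartierDim

open Groth.Agent.Lib.Helper23.SecTw Groth.Agent.Lib.Helper23.GenLocus Groth.Agent.Lib.Helper6
  Groth.Agent.Lib.Helper20.StalkExact

variable {X : Scheme.{u}}

/-- the complement of the generating locus lies in the support of the cokernel -/
theorem mem_support_cokernel (L : X.Modules) (hL : PicF.IsInvertible L)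
    (σ : Coh.structureModule X ⟶ L) [Mono σ] (y : X) (hy : y ∉ CohB1.genLocus L σ) :
    y ∈ CohB1.support (cokernel σ) := by
  intro hsub
  apply hy
  obtain ⟨W, hyW, -, e, f, hsv, hD, hgen⟩ := exists_frame L hL σ y
  have hgerm : (cokernel σ).presheaf.germ W y hyW ((cokernel.π σ).app W e) =
      (cokernel σ).presheaf.germ W y hyW 0 := Subsingleton.elim _ _
  obtain ⟨V, hyV, iW, _, heq⟩ := (cokernel σ).presheaf.germ_eq y hyW hyW _ _ hgerm
  have hVW : V ≤ W := iW.le
  rw [map_zero] at heq
  have h0 : (cokernel.π σ).app V (res L hVW e) = 0 := by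
    rw [← heq]
    exact congr($((Scheme.Modules.Hom.mapPresheaf (cokernel.π σ)).naturality iW.op) e)
  let S : ShortComplex X.Modules := ShortComplex.mk σ (cokernel.π σ) (cokernel.condition σ)
  have hS : S.ShortExact :=
    { exact := ShortComplex.exact_cokernel σ
      mono_f := inferInstanceAs (Mono σ)
      epi_g := inferInstanceAs (Epi (cokernel.π σ)) }
  obtain ⟨r, hr⟩ := exists_app_eq_of_exact S hS V (res L hVW e) h0
  have hr' : σ.app V (toS V (ofS V r)) = res L hVW e := hr
  rw [app_toS, ← res_sv σ hVW, hsv, res_smul, ← mul_smul] at hr'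
  have h1 : (fun a : Γ(X, V) => a • res L hVW e) (ofS V r * resf hVW f) =
      (fun a : Γ(X, V) => a • res L hVW e) 1 := by
    change (ofS V r * resf hVW f) • res L hVW e = (1 : Γ(X, V)) • res L hVW e
    rw [hr', one_smul]
  have h2 : ofS V r * resf hVW f = 1 := (hgen V hVW).1 h1
  have hu : IsUnit (resf hVW f) := IsUnit.of_mul_eq_one_right _ h2
  have hyf : y ∈ X.basicOpen f := by
    rw [Scheme.mem_basicOpen _ _ _ hyW]
    have h3 : X.presheaf.germ W y hyW f = X.presheaf.germ V y hyV (resf hVW f) :=
      (TopCat.Presheaf.germ_res_apply X.presheaf (homOfLE hVW) y hyV f).symm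
    rw [h3]
    exact hu.map _
  rw [hD] at hyf
  exact hyf.1

/-- Krull: a point of the zero locus of a nonzero section on an integral locally Noetherian scheme
generalises, inside the zero locus, to a point of codimension one -/
theorem exists_codim_one [IsIntegral X] [IsLocallyNoetherian X] (L : X.Modules)
    (hL : PicF.IsInvertible L) (σ : Coh.structureModule X ⟶ L) (hσ : σ ≠ 0) (y : X)
    (hy : y ∉ CohB1.genLocus L σ) :
    ∃ ζ : X, ζ ∉ CohB1.genLocus L σ ∧ ringKrullDim (X.presheaf.stalk ζ) = 1 := by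
  obtain ⟨W, hyW, hW, e, f, hsv, hD, hgen⟩ := exists_frame L hL σ y
  haveI : Nonempty ↥((W : X.Opens) : Scheme.{u}) := ⟨⟨y, hyW⟩⟩
  haveI : IsDomain Γ(X, W) := IsIntegral.component_integral W
  haveI : IsNoetherianRing Γ(X, W) := IsLocallyNoetherian.component_noetherian ⟨W, hW⟩
  -- `f ≠ 0`
  have hf0 : f ≠ 0 := by
    rintro rfl
    apply hσ
    refine Groth.Agent.Lib.R2H1.InvHom.eq_zero_of_local hL σ W ⟨y, hyW⟩ fun W' hW' n => ?_
    have h1 := app_toS σ W' (ofS W' n)
    rw [← res_sv σ hW', hsv, zero_smul] at h1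
    have h2 : res L hW' (0 : Γ(L, W)) = 0 := map_zero _
    rw [h2, smul_zero] at h1
    exact h1
  -- the prime of `y` contains `f`
  set p₀ := hW.primeIdealOf ⟨y, hyW⟩ with hp₀
  have hy0 : hW.fromSpec p₀ = y := hW.fromSpec_primeIdealOf ⟨y, hyW⟩
  have hmem : ∀ q : PrimeSpectrum Γ(X, W), hW.fromSpec q ∈ X.basicOpen f ↔ f ∉ q.asIdeal := by
    intro q
    have h1 : hW.fromSpec q ∈ X.basicOpen f ↔ q ∈ hW.fromSpec ⁻¹ᵁ X.basicOpen f := Iff.rfl
    rw [h1, hW.fromSpec_preimage_basicOpen]
    exact PrimeSpectrum.mem_basicOpen _ _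
  have hfp₀ : f ∈ p₀.asIdeal := by
    by_contra hnot
    have := (hmem p₀).2 hnot
    rw [hy0, hD] at this
    exact hy this.1
  have hle : Ideal.span {f} ≤ p₀.asIdeal := by
    rw [Ideal.span_le, Set.singleton_subset_iff]
    exact hfp₀
  obtain ⟨p, hp, -⟩ := Ideal.exists_minimalPrimes_le hle
  haveI hpp : p.IsPrime := hp.1.1
  have hfp : f ∈ p := hp.1.2 (Ideal.subset_span rfl)
  let q : PrimeSpectrum Γ(X, W) := ⟨p, hpp⟩
  have hζW : hW.fromSpec q ∈ W := by
    have : hW.fromSpec q ∈ Set.range hW.fromSpec := Set.mem_range_self _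
    rwa [hW.range_fromSpec] at this
  refine ⟨hW.fromSpec q, ?_, ?_⟩
  · intro hgen'
    have h1 : hW.fromSpec q ∈ CohB1.genLocus L σ ⊓ W := ⟨hgen', hζW⟩
    rw [← hD] at h1
    exact (hmem q).1 h1 hfp
  · have hloc := hW.isLocalization_stalk' q hζW
    rw [@IsLocalization.AtPrime.ringKrullDim_eq_height _ _ q.asIdeal _ _ _
      (TopCat.Presheaf.algebra_section_stalk X.presheaf ⟨hW.fromSpec q, hζW⟩) hloc]
    have h1 : p.height ≤ 1 :=
      Ideal.height_le_one_of_isPrincipal_of_mem_minimalPrimes (Ideal.span {f}) p hp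
    have h2 : 1 ≤ p.height := by
      have hbot : (⊥ : Ideal Γ(X, W)) < p := by
        refine lt_of_le_of_ne bot_le (fun h => hf0 ?_)
        have : f ∈ (⊥ : Ideal Γ(X, W)) := h ▸ hfp
        simpa using this
      haveI : (⊥ : Ideal Γ(X, W)).IsPrime := Ideal.isPrime_bot
      have := Ideal.height_strict_mono_of_isPrime (I := (⊥ : Ideal Γ(X, W))) (J := p) hbot
      exact Order.one_le_iff_pos.2 (lt_of_le_of_lt bot_le this)
    have h3 : p.height = 1 := le_antisymm h1 h2
    change ((p.height : ℕ∞) : WithBot ℕ∞) = 1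
    rw [h3]
    rfl

section Dim

variable (k : Type u) [Field k] (X) [X.Over (Spec (CommRingCat.of k))]
  [LocallyOfFiniteType (X ↘ Spec (CommRingCat.of k))]

open Groth.Agent.Lib.Helper4.VarDim

include k

/-- on an irreducible scheme locally of finite type over a field the local dimension is the
dimension -/
theorem localDim_eq_dim [IrreducibleSpace X] (x : X) :
    FlatMor.localDim X x = topologicalKrullDim X := by
  apply le_antisymm
  · exact Groth.Agent.Lib.Helper7.TopDim.localDim_le_dim x
  · rw [Groth.Agent.Lib.Helper7.TopDim.le_localDim_iff]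
    intro U hU
    exact (topologicalKrullDim_opens_eq_of_irreducible k X U ⟨x, hU⟩).ge

/-- the closure of a codimension one point of an integral scheme of dimension `s + 1` locally of
finite type over a field has dimension `s` -/
theorem dim_closure_of_codim_one [IrreducibleSpace X] (s : ℕ)
    (hdim : topologicalKrullDim X = (s + 1 : ℕ)) (ζ : X)
    (hζ : ringKrullDim (X.presheaf.stalk ζ) = 1) :
    topologicalKrullDim (closure ({ζ} : Set X)) = s := by
  have h1 := localDim_eq_add k X ζ (trdegNat k X ζ) 1 (trdeg_eq_trdegNat k X ζ)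
    (by rw [hζ]; rfl)
  rw [localDim_eq_dim (k := k) (X := X) ζ, hdim] at h1
  have h2 : s + 1 = trdegNat k X ζ + 1 := by exact_mod_cast h1
  rw [topologicalKrullDim_closure_singleton k X ζ]
  have : trdegNat k X ζ = s := by omega
  rw [this]

end Dim

end Groth.Agent.Lib.R2H4CartierDim
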