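import Mathlib
import Groth.Prelude.Def_FGA
import Groth.Prelude.Def_Pic13
import Groth.Agent.Lib.R2H4FGANewton
import Groth.Agent.Lib.R2H4FGAAdd
import Groth.Agent.Lib.Helper23PB
import Groth.Agent.Lib.R2LeadKRR
import Groth.Agent.Lib.R2H2QProjK0
import Groth.Agent.Lib.R2H2ClosedPn
import Groth.Agent.S9705

/-! Top two Hilbert coefficients of an invertible module on an integral projective scheme in terms
of intersection numbers (helper4, round 2). -/
set_option autoImplicit false
set_option linter.style.haveILetI false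
set_option linter.unusedSectionVars false
universe u
open CategoryTheory CategoryTheory.Limits AlgebraicGeometry

namespace Groth.Agent.Lib.R2H4HilbCoef

open Groth.Agent.Lib.R2H4TensorPows Groth.Agent.Lib.R2H4FGAAdd Groth.Agent.Lib.R2H4FGASnapper

section Comb

theorem fd_zero (e : ℕ) (s : ℕ) : (fwdDiff 1)^[e] (fun _ : ℕ => (0 : ℤ)) s = 0 := by
  rw [fwdDiff_iter_eq_sum_shift]
  simp

theorem fd_choose (t j s : ℕ) :
    (fwdDiff 1)^[t] (fun x : ℕ => ((x + s).choose j : ℤ)) 0 =
      if t ≤ j then (s.choose (j - t) : ℤ) else 0 := by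
  rw [fwdDiff_iter_comp_add 1 (fun x : ℕ => (x.choose j : ℤ)) s t 0, zero_add]
  split_ifs with h
  · obtain ⟨e, rfl⟩ := Nat.exists_eq_add_of_le h
    rw [fwdDiff_iter_choose e t]
    simp
  · rw [not_le] at h
    obtain ⟨e, rfl⟩ := Nat.exists_eq_add_of_lt h
    rw [show j + e + 1 = (e + 1) + j by ring, Function.iterate_add_apply]
    have h0 := fwdDiff_iter_choose 0 j
    simp only [add_zero] at h0
    rw [h0]
    simp only [Nat.choose_zero_right, Nat.cast_one]
    rw [Function.iterate_succ_apply, fwdDiff_const]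
    exact fd_zero e s

/-- iterated forward difference at `0` of `Σ_j a_j C(m+j, j)` -/
theorem fd_lhs (N : ℕ) (a : ℕ → ℤ) (t : ℕ) :
    (fwdDiff 1)^[t] (fun m : ℕ => ∑ j ∈ Finset.range N, a j * ((m + j).choose j : ℤ)) 0 =
      ∑ j ∈ Finset.range N, a j * (if t ≤ j then (j.choose (j - t) : ℤ) else 0) := by
  have h1 : (fun m : ℕ => ∑ j ∈ Finset.range N, a j * ((m + j).choose j : ℤ)) =
      ∑ j ∈ Finset.range N, (a j) • (fun m : ℕ => ((m + j).choose j : ℤ)) := by
    funext m
    simp [Finset.sum_apply]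
  rw [h1, fwdDiff_iter_finsetSum, Finset.sum_apply]
  refine Finset.sum_congr rfl fun j _ => ?_
  rw [fwdDiff_iter_const_smul, Pi.smul_apply, fd_choose, smul_eq_mul]

/-- iterated forward difference at `0` of `Σ_i C(m+i-1, i) c_i` -/
theorem fd_rhs (N : ℕ) (c : ℕ → ℤ) (t : ℕ) :
    (fwdDiff 1)^[t] (fun m : ℕ => ∑ i ∈ Finset.range N, ((m + i - 1).choose i : ℤ) * c i) 0 =
      ∑ i ∈ Finset.range N, c i * (if t ≤ i then ((i - 1).choose (i - t) : ℤ) else 0) := by
  have h1 : (fun m : ℕ => ∑ i ∈ Finset.range N, ((m + i - 1).choose i : ℤ) * c i) =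
      ∑ i ∈ Finset.range N, (c i) • (fun m : ℕ => ((m + (i - 1)).choose i : ℤ)) := by
    funext m
    simp only [Finset.sum_apply, Pi.smul_apply, smul_eq_mul]
    refine Finset.sum_congr rfl fun i _ => ?_
    rcases Nat.eq_zero_or_pos i with rfl | hi
    · simp
    · rw [show m + i - 1 = m + (i - 1) by omega, mul_comm]
  rw [h1, fwdDiff_iter_finsetSum, Finset.sum_apply]
  refine Finset.sum_congr rfl fun i _ => ?_
  rw [fwdDiff_iter_const_smul, Pi.smul_apply, fd_choose, smul_eq_mul]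

theorem coef_top (s : ℕ) (a c : ℕ → ℤ)
    (h : ∀ m : ℕ, ∑ j ∈ Finset.range (s + 2), a j * ((m + j).choose j : ℤ) =
      ∑ i ∈ Finset.range (s + 2), ((m + i - 1).choose i : ℤ) * c i) :
    a (s + 1) = c (s + 1) ∧ a s + a (s + 1) = c s := by
  have hfun : (fun m : ℕ => ∑ j ∈ Finset.range (s + 2), a j * ((m + j).choose j : ℤ)) =
      fun m : ℕ => ∑ i ∈ Finset.range (s + 2), ((m + i - 1).choose i : ℤ) * c i := funext h
  have e1 := fd_lhs (s + 2) a (s + 1)
  have e2 := fd_rhs (s + 2) c (s + 1)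
  have e3 := fd_lhs (s + 2) a s
  have e4 := fd_rhs (s + 2) c s
  rw [hfun] at e1 e3
  rw [e2] at e1
  rw [e4] at e3
  have z1 : ∀ (b : ℕ → ℤ) (w : ℕ → ℤ), ∑ j ∈ Finset.range (s + 2),
      b j * (if s + 1 ≤ j then w j else 0) = b (s + 1) * w (s + 1) := by
    intro b w
    rw [Finset.sum_range_succ, Finset.sum_eq_zero, zero_add, if_pos le_rfl]
    intro j hj
    rw [Finset.mem_range] at hj
    rw [if_neg (by omega), mul_zero]
  have z2 : ∀ (b : ℕ → ℤ) (w : ℕ → ℤ), ∑ j ∈ Finset.range (s + 2),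
      b j * (if s ≤ j then w j else 0) = b s * w s + b (s + 1) * w (s + 1) := by
    intro b w
    rw [Finset.sum_range_succ, Finset.sum_range_succ, Finset.sum_eq_zero, zero_add,
      if_pos le_rfl, if_pos (Nat.le_succ s)]
    intro j hj
    rw [Finset.mem_range] at hj
    rw [if_neg (by omega), mul_zero]
  rw [z1 c (fun i => ((i - 1).choose (i - (s + 1)) : ℤ)),
    z1 a (fun j => (j.choose (j - (s + 1)) : ℤ))] at e1
  rw [z2 c (fun i => ((i - 1).choose (i - s) : ℤ)),
    z2 a (fun j => (j.choose (j - s) : ℤ))] at e3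
  simp only [Nat.sub_self, Nat.choose_zero_right, Nat.cast_one, mul_one,
    Nat.add_sub_cancel_left, Nat.add_sub_cancel, Nat.choose_one_right] at e1 e3
  constructor
  · exact e1.symm
  · push_cast at e3
    rw [← e1] at e3
    linarith

end Comb

section Geom

variable (k : Type u) [Field k] (n : ℕ) {X : Scheme.{u}} [X.Over (Spec (CommRingCat.of k))]
  (i : X ⟶ CohB1.ProjSpace n k) [IsClosedImmersion i]

theorem isProper_of_closedImmersion
    (hi : i ≫ CohB1.ProjSpace.toSpec n k = X ↘ Spec (CommRingCat.of k)) :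
    IsProper (X ↘ Spec (CommRingCat.of k)) := by
  rw [← hi]
  haveI := Groth.Agent.S9705.isProper_projSpace_toSpec n k
  infer_instance

/-- `H = i^* O(1)` -/
noncomputable abbrev HH : X.Modules := (Scheme.Modules.pullback i).obj (Twist.twistProjSpace n k 1)
/-- `H' = i^* O(-1)` -/
noncomputable abbrev HH' : X.Modules :=
  (Scheme.Modules.pullback i).obj (Twist.twistProjSpace n k (-1))

theorem isInvertible_HH : PicF.IsInvertible (HH k n i) :=
  Groth.Agent.Lib.Helper23.PB.isInvertible_pullback i _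
    (Groth.Agent.Lib.R2Lead.KRR.isInvertible_twistProjSpace n k 1)

theorem nonempty_HH_HH' : Nonempty (CohB1.tensorMod (HH k n i) (HH' k n i) ≅ Coh.structureModule X) := by
  obtain ⟨e3⟩ := Groth.Agent.Lib.R2H2.QProjK0.nonempty_twist_tensor_neg_iso n k (1 : ℤ)
  exact ⟨Groth.Agent.Lib.R2H2.ClosedPn.pullTensorUnitIso i _ _ e3⟩

theorem nonempty_twistOn_iso (F : X.Modules) (m : ℕ) :
    Nonempty (Pic13.twistOn k i F (m : ℤ) ≅ CohB1.tensorMod (CohB1.tensorPow (HH k n i) m) F) := by
  obtain ⟨e1⟩ := Groth.Agent.Lib.Helper23.PB.nonempty_pullback_tensorPow_iso i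
    (Twist.twistProjSpace n k 1) (Groth.Agent.Lib.R2Lead.KRR.isInvertible_twistProjSpace n k 1) m
  obtain ⟨e2⟩ := Groth.Agent.Lib.R2H2.QProjK0.nonempty_twist_iso_tensorPow n k m
  exact ⟨tIso (Iso.refl F) ((Scheme.Modules.pullback i).mapIso e2 ≪≫ e1) ≪≫ tComm _ _⟩

variable [IsProper (X ↘ Spec (CommRingCat.of k))]

theorem hilb_expansion (d : ℕ) (hd : topologicalKrullDim X ≤ d) (F : X.Modules) (hF : Coh.IsCoh F)
    (r : ℕ) (hr : topologicalKrullDim (CohB1.support F) ≤ r) (m : ℕ) :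
    FGA.eulerCharLE k X (Pic13.twistOn k i F (m : ℤ)) d =
      (Finset.range (r + 1)).sum (fun j => ((m + j - 1).choose j : ℤ) *
        FGA.intNum k X d (fun _ : Fin j => HH' k n i) F) := by
  obtain ⟨e⟩ := nonempty_twistOn_iso k n i F m
  rw [← Groth.Agent.Lib.R2H4FGANewton.s11753 k d hd (HH k n i) (HH' k n i) (isInvertible_HH k n i)
    (nonempty_HH_HH' k n i) F hF r hr m]
  rw [Groth.Agent.Lib.R2H4GVSch.eulerCharLE_eq_euler k X d hd,
    Groth.Agent.Lib.R2H4GVSch.eulerCharLE_eq_euler k X d hd]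
  exact Groth.Agent.Lib.R2H1.DegCartier.euler_congr k e

theorem coef_top_fin (s : ℕ) (a : Fin (s + 2) → ℤ) (c : ℕ → ℤ)
    (h : ∀ m : ℕ, ∑ j : Fin (s + 2), a j * ((m + j).choose j : ℤ) =
      ∑ j ∈ Finset.range (s + 2), ((m + j - 1).choose j : ℤ) * c j) :
    a (Fin.last (s + 1)) = c (s + 1) ∧ a (Fin.castSucc (Fin.last s)) + a (Fin.last (s + 1)) = c s := by
  set a' : ℕ → ℤ := fun j => if h : j < s + 2 then a ⟨j, h⟩ else 0 with ha'
  have h' : ∀ m : ℕ, ∑ j ∈ Finset.range (s + 2), a' j * ((m + j).choose j : ℤ) =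
      ∑ j ∈ Finset.range (s + 2), ((m + j - 1).choose j : ℤ) * c j := by
    intro m
    rw [← h m, ← Fin.sum_univ_eq_sum_range (fun j => a' j * ((m + j).choose j : ℤ)) (s + 2)]
    refine Finset.sum_congr rfl fun j _ => ?_
    simp only [ha', j.isLt, dite_true]
  obtain ⟨h1, h2⟩ := coef_top s a' c h'
  have e1 : a' (s + 1) = a (Fin.last (s + 1)) := by
    simp only [ha']
    rw [dif_pos (by omega)]
    rfl
  have e2 : a' s = a (Fin.castSucc (Fin.last s)) := by
    simp only [ha']
    rw [dif_pos (by omega)]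
    rfl
  rw [e1] at h1 h2
  rw [e2] at h2
  exact ⟨h1, h2⟩

/-- S5644 -/
theorem s5644 (s : ℕ) (hdim : topologicalKrullDim X = (s + 1 : ℕ))
    (L L' : X.Modules) (hL : PicF.IsInvertible L)
    (hLL' : Nonempty (CohB1.tensorMod L L' ≅ Coh.structureModule X))
    (a e : Fin (s + 2) → ℤ)
    (ha : ∀ m : ℕ, FGA.eulerCharLE k X (Pic13.twistOn k i L m) (s + 1) =
      ∑ j : Fin (s + 2), a j * ((m + j).choose j : ℤ))
    (he : ∀ m : ℕ, FGA.eulerCharLE k X (Pic13.twistOn k i (Coh.structureModule X) m) (s + 1) =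
      ∑ j : Fin (s + 2), e j * ((m + j).choose j : ℤ)) :
    a (Fin.last (s + 1)) = e (Fin.last (s + 1)) ∧
      a (Fin.last (s + 1)) = FGA.intNum k X (s + 1)
        (fun _ : Fin (s + 1) => (Scheme.Modules.pullback i).obj (Twist.twistProjSpace n k (-1)))
        (Coh.structureModule X) ∧
      a (Fin.castSucc (Fin.last s)) - e (Fin.castSucc (Fin.last s)) = FGA.intNum k X (s + 1)
        (Matrix.vecCons L' (fun _ : Fin s =>
          (Scheme.Modules.pullback i).obj (Twist.twistProjSpace n k (-1))))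
        (Coh.structureModule X) := by
  obtain ⟨eLL'⟩ := hLL'
  have hd : topologicalKrullDim X ≤ ((s + 1 : ℕ) : WithBot ℕ∞) := hdim.le
  have hLc : Coh.IsCoh L := Groth.Agent.Lib.R2H4SSDescent.isCoh_of_isInvertible L hL
  have hOc : Coh.IsCoh (Coh.structureModule X) :=
    Groth.Agent.Lib.R2H4BCGlue.isCoh_structureModule X
  have hL' : PicF.IsInvertible L' :=
    Groth.Agent.Lib.Helper2.TensorInv.isInvertible_of_tensor_iso L' L (tComm L' L ≪≫ eLL')
  have hH' : PicF.IsInvertible (HH' k n i) :=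
    Groth.Agent.Lib.Helper23.PB.isInvertible_pullback i _
      (Groth.Agent.Lib.R2Lead.KRR.isInvertible_twistProjSpace n k (-1))
  have hsupp : ∀ F : X.Modules,
      topologicalKrullDim (CohB1.support F) ≤ ((s + 1 : ℕ) : WithBot ℕ∞) := fun F =>
    (topologicalKrullDim_subspace_le _ _).trans hd
  have hlt : ∀ F : X.Modules,
      topologicalKrullDim (CohB1.support F) < ((s + 1 + 1 : ℕ) : WithBot ℕ∞) := fun F =>
    lt_of_le_of_lt (hsupp F) (by exact_mod_cast Nat.lt_succ_self _)
  set cL : ℕ → ℤ := fun j => FGA.intNum k X (s + 1) (fun _ : Fin j => HH' k n i) L with hcL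
  set cO : ℕ → ℤ := fun j => FGA.intNum k X (s + 1) (fun _ : Fin j => HH' k n i)
    (Coh.structureModule X) with hcO
  obtain ⟨hA1, hA2⟩ := coef_top_fin s a cL (fun m => by
    rw [← ha m]; exact hilb_expansion k n i (s + 1) hd L hLc (s + 1) (hsupp L) m)
  obtain ⟨hE1, hE2⟩ := coef_top_fin s e cO (fun m => by
    rw [← he m]; exact hilb_expansion k n i (s + 1) hd _ hOc (s + 1) (hsupp _) m)
  -- head recursion against `L`, `L ⊗ L' ≅ O`
  have hrec : ∀ {r : ℕ} (M : Fin r → X.Modules),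
      (FGA.intNum k X (s + 1) (Fin.cons L' M : Fin (r + 1) → X.Modules) L : ℚ) =
        FGA.intNum k X (s + 1) M L - FGA.intNum k X (s + 1) M (Coh.structureModule X) := by
    intro r M
    rw [intNum_cons k (s + 1) hd M L' L, intNum_congr k (s + 1) hd M eLL']
  -- (R1)
  have R1 : cL (s + 1) = cO (s + 1) := by
    have h0 := s3231 k (s + 1) hd (Fin.cons L' (fun _ : Fin (s + 1) => HH' k n i) :
      Fin (s + 1 + 1) → X.Modules) (fun j => by
        refine Fin.cases ?_ (fun j' => ?_) j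
        · simpa using hL'
        · simpa using hH') L hLc (hlt L)
    have h1 := hrec (fun _ : Fin (s + 1) => HH' k n i)
    rw [h0] at h1
    have h2 : (cL (s + 1) : ℚ) = cO (s + 1) := by
      simp only [hcL, hcO]
      push_cast at h1
      linarith
    exact_mod_cast h2
  -- (R2)
  have R2 : FGA.intNum k X (s + 1) (Fin.cons L' (fun _ : Fin s => HH' k n i) :
      Fin (s + 1) → X.Modules) (Coh.structureModule X) = cL s - cO s := by
    have h0 := s3231 k (s + 1) hd (Fin.cons L' (Fin.cons L' (fun _ : Fin s => HH' k n i) :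
      Fin (s + 1) → X.Modules) : Fin (s + 1 + 1) → X.Modules) (fun j => by
        refine Fin.cases ?_ (fun j' => ?_) j
        · simpa using hL'
        · refine Fin.cases ?_ (fun j'' => ?_) j'
          · simpa using hL'
          · simpa using hH') L hLc (hlt L)
    have h1 := hrec (Fin.cons L' (fun _ : Fin s => HH' k n i) : Fin (s + 1) → X.Modules)
    have h3 := hrec (fun _ : Fin s => HH' k n i)
    rw [h0] at h1
    have h2 : (FGA.intNum k X (s + 1) (Fin.cons L' (fun _ : Fin s => HH' k n i) :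
        Fin (s + 1) → X.Modules) (Coh.structureModule X) : ℚ) = ((cL s - cO s : ℤ) : ℚ) := by
      simp only [hcL, hcO]
      push_cast at h1 ⊢
      linarith
    exact_mod_cast h2
  refine ⟨?_, ?_, ?_⟩
  · rw [hA1, hE1, R1]
  · exact hA1.trans R1
  · show _ = FGA.intNum k X (s + 1) (Fin.cons L' (fun _ : Fin s => HH' k n i) :
      Fin (s + 1) → X.Modules) (Coh.structureModule X)
    rw [R2]
    have : a (Fin.last (s + 1)) = e (Fin.last (s + 1)) := by rw [hA1, hE1, R1]
    linarith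

end Geom

end Groth.Agent.Lib.R2H4HilbCoef
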