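import Mathlib
import Groth.Prelude
import Groth.Agent.Lib.R2H4CartierDim
import Groth.Agent.Lib.R2H4SurfPos
import Groth.Agent.Lib.R2H4HilbCoef
import Groth.Agent.Lib.Helper23PB
import Groth.Agent.Lib.R2H2QProjK0
import Groth.Agent.S0020
set_option backward.isDefEq.respectTransparency.types false

/-!
# An invertible module of non-positive degree with a section is trivial (helper4, round 2)
-/

set_option autoImplicit false
set_option linter.style.haveILetI false
set_option linter.unusedSectionVars false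
universe u
open CategoryTheory CategoryTheory.Limits AlgebraicGeometry

noncomputable section

namespace Groth.Agent.Lib.R2H4CartierDeg

open Groth.Agent.Lib.R2H4TensorPows Groth.Agent.Lib.R2H4NumPoly Groth.Agent.Lib.R2H4FGABridge
  Groth.Agent.Lib.R2H1.DegCartier Groth.Agent.Lib.R2H4FGASnapper Groth.Agent.Lib.R2H4FGAAdd
  Groth.Agent.Lib.R2H4FGAPos Groth.Agent.Lib.R2H4SurfPos Groth.Agent.Lib.R2H4HilbCoef
  Groth.Agent.Lib.R2H4CartierDim

theorem dim_eq_of_bounds (δ : WithBot ℕ∞) (s : ℕ) (h2 : δ ≤ ((s + 1 : ℕ) : WithBot ℕ∞))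
    (hne : δ ≠ ((s + 1 : ℕ) : WithBot ℕ∞)) (h1 : ((s : ℕ) : WithBot ℕ∞) ≤ δ) :
    δ = ((s : ℕ) : WithBot ℕ∞) := by
  apply le_antisymm _ h1
  have hlt : δ < ((s + 1 : ℕ) : WithBot ℕ∞) := lt_of_le_of_ne h2 hne
  induction δ using WithBot.recBotCoe with
  | bot => exact bot_le
  | coe a =>
    induction a using ENat.recTopCoe with
    | top =>
      exfalso
      have : ((⊤ : ℕ∞) : WithBot ℕ∞) ≤ (((s + 1 : ℕ) : ℕ∞) : WithBot ℕ∞) := h2
      rw [WithBot.coe_le_coe] at this
      exact absurd this (not_le.2 (ENat.natCast_lt_top _))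
    | coe m =>
      have h' : (((m : ℕ) : ℕ∞) : WithBot ℕ∞) < (((s + 1 : ℕ) : ℕ∞) : WithBot ℕ∞) := hlt
      rw [WithBot.coe_lt_coe, Nat.cast_lt] at h'
      change (((m : ℕ) : ℕ∞) : WithBot ℕ∞) ≤ (((s : ℕ) : ℕ∞) : WithBot ℕ∞)
      rw [WithBot.coe_le_coe, Nat.cast_le]
      omega

variable (k : Type u) [Field k] (n : ℕ) {X : Scheme.{u}} [X.Over (Spec (CommRingCat.of k))]
  (i : X ⟶ CohB1.ProjSpace n k) [IsClosedImmersion i]

/-- S5632 -/
theorem s5632 (hi : i ≫ CohB1.ProjSpace.toSpec n k = X ↘ Spec (CommRingCat.of k))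
    [IsIntegral X] (s : ℕ) (hdim : topologicalKrullDim X = (s + 1 : ℕ))
    (L L' : X.Modules) (hL : PicF.IsInvertible L)
    (hLL' : Nonempty (CohB1.tensorMod L L' ≅ Coh.structureModule X))
    (hdeg : FGA.intNum k X (s + 1)
      (Matrix.vecCons L' (fun _ : Fin s =>
        (Scheme.Modules.pullback i).obj (Twist.twistProjSpace n k (-1))))
      (Coh.structureModule X) ≤ 0)
    (hsec : Nontrivial (Coh.HH X L 0)) :
    Nonempty (L ≅ Coh.structureModule X) := by
  classical
  haveI hprop : IsProper (X ↘ Spec (CommRingCat.of k)) := isProper_of_closedImmersion k n i hi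
  haveI := Groth.Agent.Lib.R2H1.CurveEuler.isNoetherian_of_proper k X
  obtain ⟨e₀⟩ := hLL'
  obtain ⟨eH⟩ := nonempty_HH_HH' k n i
  have hd : topologicalKrullDim X ≤ ((s + 1 : ℕ) : WithBot ℕ∞) := hdim.le
  have hL' : PicF.IsInvertible L' :=
    Groth.Agent.Lib.Helper2.TensorInv.isInvertible_of_tensor_iso L' L (tComm _ _ ≪≫ e₀)
  have hH' : PicF.IsInvertible (HH' k n i) :=
    Groth.Agent.Lib.Helper23.PB.isInvertible_pullback i _
      (Groth.Agent.Lib.R2Lead.KRR.isInvertible_twistProjSpace n k (-1))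
  haveI : CompactSpace X :=
    (quasiCompact_iff_compactSpace (X ↘ Spec (CommRingCat.of k))).1 inferInstance
  have hHamp : CohB1.IsAmple (HH k n i) :=
    Groth.Agent.Lib.Helper23.PB.isAmple_pullback_of_isEmbedding i
      i.isClosedEmbedding.isEmbedding _
      (Groth.Agent.Lib.R2H2.QProjK0.isAmple_twistProjSpace_one n k)
  have hO : PicF.IsInvertible (Coh.structureModule X) :=
    Groth.Agent.Lib.Helper23.TensorUnit.isInvertible_structureModule X
  have cO : Coh.IsCoh (Coh.structureModule X) :=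
    Groth.Agent.Lib.R2H4SSDescent.isCoh_of_isInvertible _ hO
  have cL : Coh.IsCoh L := Groth.Agent.Lib.R2H4SSDescent.isCoh_of_isInvertible _ hL
  have cL' : Coh.IsCoh L' := Groth.Agent.Lib.R2H4SSDescent.isCoh_of_isInvertible _ hL'
  have eL : CohB1.tensorMod L' L ≅ Coh.structureModule X := tComm _ _ ≪≫ e₀
  -- a nonzero section
  haveI : Module.Finite k (Coh.HH X L 0) := Groth.Agent.Lib.R2H1.EulerAdd.finite_HH k X L cL 0
  have hfr : 0 < Module.finrank k (Coh.HH X L 0) := Module.finrank_pos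
  obtain ⟨σ, hσ⟩ := Groth.Agent.Lib.R2H1.GenusZero.exists_section_of_pos k X L cL hfr
  haveI : Mono σ := Groth.Agent.Lib.R2H1.InvHom.mono_of_ne_zero hO hL σ hσ
  by_cases hgen : CohB1.genLocus L σ = ⊤
  · haveI : IsIso σ := (Groth.Agent.Lib.H9YBlowUp.isIso_iff_genLocus_eq_top L σ).2 hgen
    exact ⟨(asIso σ).symm⟩
  exfalso
  obtain ⟨y, hy⟩ : ∃ y : X, y ∉ CohB1.genLocus L σ := by
    by_contra hcon
    rw [not_exists] at hcon
    apply hgen
    ext z
    simp only [TopologicalSpace.Opens.coe_top, Set.mem_univ, iff_true]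
    by_contra hz
    exact hcon z hz
  obtain ⟨ζ, hζgen, hζdim⟩ := exists_codim_one L hL σ hσ y hy
  let S₀ : ShortComplex X.Modules := ShortComplex.mk σ (cokernel.π σ) (cokernel.condition σ)
  have hS₀ : S₀.ShortExact :=
    { exact := ShortComplex.exact_cokernel σ
      mono_f := inferInstanceAs (Mono σ)
      epi_g := inferInstanceAs (Epi (cokernel.π σ)) }
  have cQ : Coh.IsCoh (cokernel σ) := Groth.Agent.Lib.R2H2.NilFilt.isCoh_cokernel cO cL σ
  have hS₁ := Groth.Agent.Lib.R2Lead.TensorExact.shortExact_map_tensorBi_of_isInvertible L' hL'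
    S₀ hS₀
  set Q' := CohB1.tensorMod L' (cokernel σ) with hQ'
  have cQ' : Coh.IsCoh Q' := Groth.Agent.Lib.R2H4SSDescent.isCoh_tensorMod _ _ cL' cQ
  have c₁ : Coh.IsCoh (CohB1.tensorMod L' (Coh.structureModule X)) :=
    Groth.Agent.Lib.R2H4SSDescent.isCoh_tensorMod _ _ cL' cO
  have c₂ : Coh.IsCoh (CohB1.tensorMod L' L) :=
    Groth.Agent.Lib.R2H4SSDescent.isCoh_tensorMod _ _ cL' cL
  -- the basic relation
  have key : ∀ {r : ℕ} (M : Fin r → X.Modules), (∀ i, PicF.IsInvertible (M i)) →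
      FGA.intNum k X (s + 1) M (Coh.structureModule X) =
        FGA.intNum k X (s + 1) M L' + FGA.intNum k X (s + 1) M Q' := by
    intro r M hM
    have h := intNum_add k (s + 1) hd M hM _ hS₁ c₁ c₂ cQ'
    have h1 : FGA.intNum k X (s + 1) M (CohB1.tensorMod L' L) =
        FGA.intNum k X (s + 1) M (Coh.structureModule X) := intNum_congr k (s + 1) hd M eL
    have h2 : FGA.intNum k X (s + 1) M (CohB1.tensorMod L' (Coh.structureModule X)) =
        FGA.intNum k X (s + 1) M L' := intNum_congr k (s + 1) hd M (rUnit L')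
    rw [← h1, ← h2]
    exact h
  have hI : ∀ {r : ℕ} (M : Fin r → X.Modules), (∀ i, PicF.IsInvertible (M i)) →
      FGA.intNum k X (s + 1) (Fin.cons L' M : Fin (r + 1) → X.Modules) (Coh.structureModule X) =
        FGA.intNum k X (s + 1) M Q' := by
    intro r M hM
    have h : (FGA.intNum k X (s + 1) (Fin.cons L' M : Fin (r + 1) → X.Modules)
        (Coh.structureModule X) : ℚ) = FGA.intNum k X (s + 1) M Q' := by
      rw [intNum_cons k (s + 1) hd]
      have h2 : FGA.intNum k X (s + 1) M (CohB1.tensorMod (Coh.structureModule X) L') =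
          FGA.intNum k X (s + 1) M L' := intNum_congr k (s + 1) hd M (lUnit L')
      rw [h2, key M hM]
      push_cast
      ring
    exact_mod_cast h
  -- the support of `Q'` contains the closure of `ζ`
  have hclQ' : IsClosed (CohB1.support Q') := Groth.Agent.S0020.result X Q' cQ'.2
  have eQ : cokernel σ ≅ CohB1.tensorMod Q' L :=
    (lUnit (cokernel σ)).symm ≪≫ tIso e₀.symm (Iso.refl _) ≪≫ tAssoc L L' (cokernel σ) ≪≫
      tComm L Q'
  have hζQ : ζ ∈ CohB1.support (cokernel σ) := mem_support_cokernel L hL σ ζ hζgen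
  have hζQ' : ζ ∈ CohB1.support Q' := by
    rw [Groth.Agent.Lib.H6xSuppPush.support_eq_of_iso eQ] at hζQ
    exact Groth.Agent.Lib.R2H4Snapper.support_tensor_subset Q' L hL hζQ
  have hsub : closure ({ζ} : Set X) ⊆ CohB1.support Q' :=
    hclQ'.closure_subset_iff.2 (Set.singleton_subset_iff.2 hζQ')
  haveI : LocallyOfFiniteType (X ↘ Spec (CommRingCat.of k)) := inferInstance
  have hZdim : topologicalKrullDim (closure ({ζ} : Set X)) = (s : ℕ) :=
    dim_closure_of_codim_one (k := k) (X := X) s hdim ζ hζdim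
  have hδ1 : ((s : ℕ) : WithBot ℕ∞) ≤ topologicalKrullDim (CohB1.support Q') := by
    rw [← hZdim]
    exact Groth.Agent.Lib.Helper8.Conn.dim_mono hsub
  have hδ2 : topologicalKrullDim (CohB1.support Q') ≤ ((s + 1 : ℕ) : WithBot ℕ∞) :=
    (Topology.IsInducing.subtypeVal).topologicalKrullDim_le.trans hd
  have hsuppO : topologicalKrullDim (CohB1.support (Coh.structureModule X)) ≤
      ((s + 1 : ℕ) : WithBot ℕ∞) :=
    (Topology.IsInducing.subtypeVal).topologicalKrullDim_le.trans hd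
  have hδne : topologicalKrullDim (CohB1.support Q') ≠ ((s + 1 : ℕ) : WithBot ℕ∞) := by
    intro heq
    have hp := s3233 k (s + 1) hd (fun _ : Fin (s + 1) => HH k n i)
      (fun _ : Fin (s + 1) => HH' k n i) (fun _ => hHamp) (fun _ => ⟨eH⟩) Q' cQ' heq
    have hz := s3231 k (s + 1) hd
      (Fin.cons L' (fun _ : Fin (s + 1) => HH' k n i) : Fin (s + 1 + 1) → X.Modules)
      (by
        intro j
        refine Fin.cases ?_ (fun j' => ?_) j
        · simpa using hL'
        · simpa using hH')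
      (Coh.structureModule X) cO
      (lt_of_le_of_lt hsuppO (by exact_mod_cast Nat.lt_succ_self _))
    rw [hI _ (fun _ => hH')] at hz
    rw [hz] at hp
    exact lt_irrefl _ hp
  have hδ := dim_eq_of_bounds _ s hδ2 hδne hδ1
  have hp := s3233 k (s + 1) hd (fun _ : Fin s => HH k n i)
    (fun _ : Fin s => HH' k n i) (fun _ => hHamp) (fun _ => ⟨eH⟩) Q' cQ' hδ
  rw [← hI _ (fun _ => hH')] at hp
  exact absurd hdeg (not_le.2 hp)

end Groth.Agent.Lib.R2H4CartierDeg
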