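import Mathlib
import Groth.Prelude
import Groth.Agent.Lib.R2H4CartierDeg
import Groth.Agent.Lib.R2H4SurfPos
import Groth.Agent.Lib.R2H1InvExists
import Groth.Agent.Lib.R2H1RegPoint

/-!
# `(L · H) > 0` for an invertible module with `h⁰(L) > 1` on a projective surface (helper4, round 2)

If `(L · H) ≤ 0` then (sign flips by bilinearity) `(c₁(L) · c₁(O(1))) ≤ 0` in the convention of
`R2H4CartierDeg.s5632`, so `L ≅ O_X` and `h⁰(L) = h⁰(O_X) = 1`.
-/

set_option autoImplicit false
set_option linter.style.haveILetI false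
set_option linter.unusedSectionVars false
universe u
open CategoryTheory CategoryTheory.Limits AlgebraicGeometry

noncomputable section

namespace Groth.Agent.Lib.R2H4SurfHyp

open Groth.Agent.Lib.R2H4TensorPows Groth.Agent.Lib.R2H4FGAAdd Groth.Agent.Lib.R2H4SurfPos
  Groth.Agent.Lib.R2H4HilbCoef Groth.Agent.Lib.R2H2.HHLin

section Iso

variable (A : Type u) [CommRing A] {Z : Scheme.{u}} [Z.Over (Spec (CommRingCat.of A))]

theorem finrank_iso {M N : Z.Modules} (e : M ≅ N) (q : ℕ) :
    Module.finrank A (Coh.HH Z M q) = Module.finrank A (Coh.HH Z N q) := by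
  apply LinearEquiv.finrank_eq
  refine LinearEquiv.ofBijective (HmapA A e.hom q) ?_
  refine Function.bijective_iff_has_inverse.2 ⟨HmapA A e.inv q, fun x => ?_, fun x => ?_⟩
  · rw [HmapA_apply, HmapA_apply, ← HmapL_comp, e.hom_inv_id, HmapL_id]
  · rw [HmapA_apply, HmapA_apply, ← HmapL_comp, e.inv_hom_id, HmapL_id]

end Iso

variable (k : Type u) [Field k] {X : Scheme.{u}} [X.Over (Spec (CommRingCat.of k))]
  [IsProper (X ↘ Spec (CommRingCat.of k))]

/-- `(A · M ; F) = - (A' · M ; F)` for mutually inverse `A`, `A'` -/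
theorem intNum_cons_inv (d : ℕ) (hd : topologicalKrullDim X ≤ d) {r : ℕ} (M : Fin r → X.Modules)
    (hM : ∀ i, PicF.IsInvertible (M i)) (A A' : X.Modules) (hA : PicF.IsInvertible A)
    (hA' : PicF.IsInvertible A') (e : CohB1.tensorMod A A' ≅ Coh.structureModule X)
    (F : X.Modules) (hF : Coh.IsCoh F)
    (hr : topologicalKrullDim (CohB1.support F) ≤ (r + 1 : ℕ)) :
    FGA.intNum k X d (Fin.cons A M : Fin (r + 1) → X.Modules) F =
      - FGA.intNum k X d (Fin.cons A' M : Fin (r + 1) → X.Modules) F := by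
  have h := s3232 k d hd M hM A A' hA hA' F hF hr
  have h0 : (FGA.intNum k X d
      (Fin.cons (CohB1.tensorMod A A') M : Fin (r + 1) → X.Modules) F : ℚ) = 0 := by
    rw [intNum_cons k d hd]
    have : FGA.intNum k X d M (CohB1.tensorMod F (CohB1.tensorMod A A')) =
        FGA.intNum k X d M F :=
      intNum_congr k d hd M (tIso (Iso.refl F) e ≪≫ rUnit F)
    rw [this]
    ring
  have h0' : FGA.intNum k X d
      (Fin.cons (CohB1.tensorMod A A') M : Fin (r + 1) → X.Modules) F = 0 := by exact_mod_cast h0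
  rw [h0'] at h
  linarith

section Main

variable (k : Type u) [Field k] [IsAlgClosed k] (n : ℕ) {X : Scheme.{u}}
  [X.Over (Spec (CommRingCat.of k))] (i : X ⟶ CohB1.ProjSpace n k) [IsClosedImmersion i]

theorem isInvertible_HH' : PicF.IsInvertible (HH' k n i) :=
  Groth.Agent.Lib.Helper23.PB.isInvertible_pullback i _
    (Groth.Agent.Lib.R2Lead.KRR.isInvertible_twistProjSpace n k (-1))

/-- S19352 -/
theorem s19352 (hi : i ≫ CohB1.ProjSpace.toSpec n k = X ↘ Spec (CommRingCat.of k))
    [IsIntegral X] (hdim : topologicalKrullDim X = 2)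
    (L : X.Modules) (hL : PicF.IsInvertible L)
    (hsec : 1 < Module.finrank k (Coh.HH X L 0)) :
    0 < FGA.intNum k X 2 ![L, HH k n i] (Coh.structureModule X) := by
  classical
  haveI hprop : IsProper (X ↘ Spec (CommRingCat.of k)) := isProper_of_closedImmersion k n i hi
  haveI := Groth.Agent.Lib.R2H1.CurveEuler.isNoetherian_of_proper k X
  obtain ⟨L', hL', ⟨e₀⟩⟩ := Groth.Agent.Lib.R2H1.InvExists.exists_inverse L hL
  obtain ⟨eH⟩ := nonempty_HH_HH' k n i
  have hH := isInvertible_HH k n i
  have hH' := isInvertible_HH' k n i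
  have hd : topologicalKrullDim X ≤ ((2 : ℕ) : WithBot ℕ∞) := hdim.le
  have cO : Coh.IsCoh (Coh.structureModule X) :=
    Groth.Agent.Lib.R2H1.GenusLe.isCoh_structureModule X
  have hr : topologicalKrullDim (CohB1.support (Coh.structureModule X)) ≤ ((1 + 1 : ℕ) : WithBot ℕ∞) :=
    le_trans (topologicalKrullDim_subspace_le _ _) hd
  have hM1 : ∀ (B : X.Modules), PicF.IsInvertible B → ∀ j : Fin 1,
      PicF.IsInvertible ((Fin.cons B (Fin.elim0 : Fin 0 → X.Modules) : Fin 1 → X.Modules) j) := by
    intro B hB j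
    induction j using Fin.cases with
    | zero => simpa using hB
    | succ l => exact l.elim0
  by_contra hneg
  rw [not_lt] at hneg
  -- sign flips
  have e1 : FGA.intNum k X 2 (Fin.cons L (Fin.cons (HH k n i) (Fin.elim0 : Fin 0 → X.Modules)) :
      Fin 2 → X.Modules) (Coh.structureModule X) =
      FGA.intNum k X 2 (Fin.cons L' (Fin.cons (HH' k n i) (Fin.elim0 : Fin 0 → X.Modules)) :
        Fin 2 → X.Modules) (Coh.structureModule X) := by
    rw [intNum_cons_inv k 2 hd _ (hM1 _ hH) L L' hL hL' e₀ _ cO hr,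
      intNum_swap k 2 hd L' (HH k n i),
      intNum_cons_inv k 2 hd _ (hM1 _ hL') (HH k n i) (HH' k n i) hH hH' eH _ cO hr,
      intNum_swap k 2 hd (HH' k n i) L', neg_neg]
  have hfam : (Matrix.vecCons L' (fun _ : Fin 1 => HH' k n i) : Fin 2 → X.Modules) =
      (Fin.cons L' (Fin.cons (HH' k n i) (Fin.elim0 : Fin 0 → X.Modules)) : Fin 2 → X.Modules) := by
    funext j
    induction j using Fin.cases with
    | zero => rfl
    | succ l =>
      induction l using Fin.cases with
      | zero => rfl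
      | succ l' => exact l'.elim0
  have hneg' : FGA.intNum k X (1 + 1)
      (Matrix.vecCons L' (fun _ : Fin 1 =>
        (Scheme.Modules.pullback i).obj (Twist.twistProjSpace n k (-1))))
      (Coh.structureModule X) ≤ 0 := by
    rw [hfam, ← e1]
    exact hneg
  haveI : Nontrivial (Coh.HH X L 0) := by
    by_contra hnt
    rw [not_nontrivial_iff_subsingleton] at hnt
    haveI := hnt
    rw [Module.finrank_zero_of_subsingleton] at hsec
    exact absurd hsec (by norm_num)
  obtain ⟨eL⟩ := Groth.Agent.Lib.R2H4CartierDeg.s5632 k n i hi 1 (by rw [hdim]; rfl) L L' hL ⟨e₀⟩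
    hneg' inferInstance
  have h1 := finrank_iso k eL 0
  rw [Groth.Agent.Lib.R2H1.RegPoint.finrank_H0_structure_eq_one k X] at h1
  omega

end Main

end Groth.Agent.Lib.R2H4SurfHyp
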