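import Mathlib
import Groth.Prelude
import Groth.Agent.Lib.R2H2RatFun
import Groth.Agent.Lib.Helper18Epi1
import Groth.Agent.Lib.Helper23StalkLin
import Groth.Agent.Lib.R2H1VBFitting
import Groth.Agent.Lib.Helper8Conn
import Groth.Agent.Lib.Helper20SuppClosed
import Groth.Agent.Lib.Helper23QCohLocal
import Groth.Agent.Lib.R2H3OmegaPn
import Groth.Agent.Lib.R2H3OmegaCoh
import Groth.Agent.Lib.R2H3ExtAffQC
import Groth.Agent.Lib.R2H3ClosedShriek
import Groth.Agent.Lib.R2H3DualCount
import Groth.Agent.S11903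
import Groth.Agent.Lib.R2H4SurfHyp
import Groth.Agent.Lib.R2H2HHLin
import Groth.Agent.Lib.R2H4GorRR
import Groth.Agent.Lib.R2H3AmpleSV
import Groth.Agent.Lib.R2H4InvExists
set_option backward.isDefEq.respectTransparency.types false

/-!
# Serre duality on projective surfaces and sections of high powers (helper4, round 2)

Namespace `Groth.Agent.Lib.R2H4SurfDual`.

* `isZero_of_torsionFree`, `mono_of_ne_zero`, `dim_support_le_one` : torsion-free modules of
  generic rank one on an integral scheme;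
* `exists_dualizing` : an integral closed subscheme of `P^n_k` has a dualizing pair `(ω, t)` with
  `ω` coherent, torsion free, of generic rank one (from helper3's `S11903` and `R2H3OmegaPn`);
* `h2_vanish`, `h2_vanish'` : `H²(L) = 0` as soon as `(L·H) > n₀` (Hartshorne V.1.7);
* `euler_pow`, `pow_sections`, `pow_sections'`, `pow_sections_nontrivial` : `h⁰(L^n) > (L·L)/4·n²`
  for `n ≫ 0` if `(L·L) > 0` and `(L·H) > 0` (Hartshorne V.1.8);
* `intNum_inv_inv` : `(A'·B') = (A·B)`.
-/

set_option autoImplicit false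
set_option linter.style.haveILetI false
set_option linter.unusedSectionVars false
universe u

open CategoryTheory CategoryTheory.Limits AlgebraicGeometry TopologicalSpace Opposite

namespace Groth.Agent.Lib.R2H4SurfDual


open Groth.Agent.Lib.Helper4.NormDelta Groth.Agent.Lib.Helper23.StalkLin
open Groth.Agent.Lib.R2H1.VBFitting

section Alg

theorem bijective_of_ne_zero {R V W : Type*} [CommRing R] (hR : IsField R) [AddCommGroup V]
    [Module R V] [AddCommGroup W] [Module R W] (e1 : R ≃ₗ[R] V) (e2 : R ≃ₗ[R] W)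
    (f : V →ₗ[R] W) (hf : f ≠ 0) : Function.Bijective f := by
  set c : R := e2.symm (f (e1 1)) with hc
  have hfv : ∀ v, f v = e2 (e1.symm v * c) := by
    intro v
    obtain ⟨a, rfl⟩ := e1.surjective v
    rw [e1.symm_apply_apply]
    have h1 : e1 a = a • e1 1 := by rw [← map_smul, smul_eq_mul, mul_one]
    rw [h1, map_smul, hc, ← smul_eq_mul, map_smul, e2.apply_symm_apply]
  have hc0 : c ≠ 0 := by
    intro h
    apply hf
    ext v
    rw [hfv, h, mul_zero, map_zero]
    rfl
  obtain ⟨d, hd⟩ := hR.mul_inv_cancel hc0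
  constructor
  · intro v w hvw
    rw [hfv, hfv] at hvw
    have h1 := e2.injective hvw
    have h2 : e1.symm v = e1.symm w := by
      calc e1.symm v = e1.symm v * c * d := by rw [mul_assoc, hd, mul_one]
        _ = e1.symm w * c * d := by rw [h1]
        _ = e1.symm w := by rw [mul_assoc, hd, mul_one]
    exact e1.symm.injective h2
  · intro w
    refine ⟨e1 (e2.symm w * d), ?_⟩
    rw [hfv, e1.symm_apply_apply, mul_assoc, mul_comm d c, hd, mul_one, e2.apply_symm_apply]

theorem le_one_of_lt_two (δ : WithBot ℕ∞) (h : δ < ((2 : ℕ) : WithBot ℕ∞)) :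
    δ ≤ ((1 : ℕ) : WithBot ℕ∞) := by
  induction δ using WithBot.recBotCoe with
  | bot => exact bot_le
  | coe a =>
    induction a using ENat.recTopCoe with
    | top =>
      have h' : ((⊤ : ℕ∞) : WithBot ℕ∞) < (((2 : ℕ) : ℕ∞) : WithBot ℕ∞) := h
      rw [WithBot.coe_lt_coe] at h'
      exact absurd h' (not_lt.2 le_top)
    | coe m =>
      have h' : (((m : ℕ) : ℕ∞) : WithBot ℕ∞) < (((2 : ℕ) : ℕ∞) : WithBot ℕ∞) := h
      rw [WithBot.coe_lt_coe, Nat.cast_lt] at h'
      change (((m : ℕ) : ℕ∞) : WithBot ℕ∞) ≤ (((1 : ℕ) : ℕ∞) : WithBot ℕ∞)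
      rw [WithBot.coe_le_coe, Nat.cast_le]
      omega

end Alg

section Sheaf

variable {X : Scheme.{u}}

theorem torsionFree_of_mono {A B : X.Modules} (i : A ⟶ B) [Mono i]
    (hB : TorSh.IsTorsionFree B) : TorSh.IsTorsionFree A := by
  intro x
  haveI := hB x
  exact Function.Injective.moduleIsTorsionFree (stalkLin i x) (stalkLin_injective i x)
    (fun r m => map_smul _ r m)

variable [IsIntegral X]

/-- a torsion-free quasi-coherent module on an integral scheme with vanishing generic stalk is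
zero -/
theorem isZero_of_torsionFree (F : X.Modules) [F.IsQuasicoherent] (hF : TorSh.IsTorsionFree F)
    (h : Subsingleton (F.presheaf.stalk (genericPoint X))) : IsZero F := by
  apply Groth.Agent.Helper18Epi.isZero_of_subsingleton_stalk
  intro x
  suffices hz : ∀ z : F.presheaf.stalk x, z = 0 from ⟨fun a b => by rw [hz a, hz b]⟩
  intro z
  obtain ⟨V, hxV, t, rfl⟩ := F.presheaf.exists_germ_eq z
  obtain ⟨_, ⟨U, hU, rfl⟩, hxU, hUV⟩ :=
    X.isBasis_affineOpens.exists_subset_of_mem_open hxV V.2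
  have hξ : genericPoint X ∈ U := Groth.Agent.Lib.R2H2.RatFun.genericPoint_mem X U x hxU
  have hUV' : U ≤ V := hUV
  have h0 : F.presheaf.map (homOfLE hUV').op t = 0 :=
    Groth.Agent.Lib.R2H2.RatFun.germ_genericPoint_injective F hF hU hξ _ (Subsingleton.elim _ _)
  rw [← TopCat.Presheaf.germ_res_apply F.presheaf (homOfLE hUV') x hxU t, h0, map_zero]

/-- a nonzero map between torsion-free quasi-coherent modules of generic rank one on an integral
scheme is a monomorphism with generically vanishing cokernel -/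
theorem mono_of_ne_zero {L ω : X.Modules} [L.IsQuasicoherent] [ω.IsQuasicoherent]
    (hL : TorSh.IsTorsionFree L) (hω : TorSh.IsTorsionFree ω)
    (e1 : X.presheaf.stalk (genericPoint X) ≃ₗ[X.presheaf.stalk (genericPoint X)]
      L.presheaf.stalk (genericPoint X))
    (e2 : X.presheaf.stalk (genericPoint X) ≃ₗ[X.presheaf.stalk (genericPoint X)]
      ω.presheaf.stalk (genericPoint X))
    (φ : L ⟶ ω) (hφ : φ ≠ 0) :
    Mono φ ∧ Subsingleton ((cokernel φ).presheaf.stalk (genericPoint X)) := by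
  have hfield : IsField (X.presheaf.stalk (genericPoint X)) :=
    (inferInstance : Field X.functionField).toIsField
  haveI : (cokernel φ).IsQuasicoherent :=
    Groth.Agent.Lib.Helper23.QCohLocal.isQuasicoherent_cokernel φ
  haveI : (Abelian.image φ).IsQuasicoherent := by
    change (kernel (cokernel.π φ)).IsQuasicoherent
    exact Groth.Agent.Lib.Helper23.QCohLocal.isQuasicoherent_kernel _
  haveI : (kernel φ).IsQuasicoherent :=
    Groth.Agent.Lib.Helper23.QCohLocal.isQuasicoherent_kernel φ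
  have hItf : TorSh.IsTorsionFree (Abelian.image φ) :=
    torsionFree_of_mono (Abelian.image.ι φ) hω
  -- the generic stalk map is nonzero
  have hφξ : stalkLin φ (genericPoint X) ≠ 0 := by
    intro h0
    apply hφ
    have hsub : Subsingleton ((Abelian.image φ).presheaf.stalk (genericPoint X)) := by
      suffices hz : ∀ z : (Abelian.image φ).presheaf.stalk (genericPoint X), z = 0 from
        ⟨fun a b => by rw [hz a, hz b]⟩
      intro z
      obtain ⟨y, rfl⟩ := stalkLin_surjective (Abelian.factorThruImage φ) (genericPoint X) z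
      apply stalkLin_injective (Abelian.image.ι φ) (genericPoint X)
      rw [← stalkLin_comp', Abelian.image.fac, h0, map_zero]
      rfl
    have hz := isZero_of_torsionFree (Abelian.image φ) hItf hsub
    rw [← Abelian.image.fac φ, hz.eq_of_tgt (Abelian.factorThruImage φ) 0, zero_comp]
  have hbij := bijective_of_ne_zero hfield e1 e2 _ hφξ
  constructor
  · have hsub : Subsingleton ((kernel φ).presheaf.stalk (genericPoint X)) := by
      suffices hz : ∀ z : (kernel φ).presheaf.stalk (genericPoint X), z = 0 from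
        ⟨fun a b => by rw [hz a, hz b]⟩
      intro z
      apply stalkLin_injective (kernel.ι φ) (genericPoint X)
      apply hbij.1
      rw [← stalkLin_comp', kernel.condition, stalkLin_zero, map_zero, map_zero]
    have hz := isZero_of_torsionFree (kernel φ) (torsionFree_of_mono (kernel.ι φ) hL) hsub
    exact Preadditive.mono_of_kernel_zero (hz.eq_of_src _ _)
  · suffices hz : ∀ z : (cokernel φ).presheaf.stalk (genericPoint X), z = 0 from
      ⟨fun a b => by rw [hz a, hz b]⟩
    intro z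
    obtain ⟨w, rfl⟩ := stalkLin_surjective (cokernel.π φ) (genericPoint X) z
    obtain ⟨y, rfl⟩ := hbij.2 w
    rw [← stalkLin_comp', cokernel.condition, stalkLin_zero]

/-- the support of a module of finite type with vanishing generic stalk on an integral surface
has dimension at most one -/
theorem dim_support_le_one (hdim : topologicalKrullDim X = 2) (Q : X.Modules)
    [hQ : SheafOfModules.IsFiniteType (R := X.ringCatSheaf) Q]
    (hξ : Subsingleton (Q.presheaf.stalk (genericPoint X))) :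
    topologicalKrullDim (CohB1.support Q) ≤ ((1 : ℕ) : WithBot ℕ∞) := by
  have hcl : IsClosed (CohB1.support Q) := by
    rw [← isOpen_compl_iff, isOpen_iff_forall_mem_open]
    intro x hx
    have hx' : Subsingleton (Q.presheaf.stalk x) := by
      by_contra h
      exact hx h
    obtain ⟨V, hxV, hV⟩ :=
      Groth.Agent.Lib.Helper20.SuppClosed.exists_opens_subsingleton_stalk Q x hx'
    exact ⟨V, fun y hy hy' => hy' (hV y hy), V.2, hxV⟩
  have hne : CohB1.support Q ≠ Set.univ := by
    intro h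
    have : genericPoint X ∈ CohB1.support Q := by rw [h]; trivial
    exact this hξ
  have huniv : topologicalKrullDim (Set.univ : Set X) = 2 := by
    rw [← hdim]
    exact IsHomeomorph.topologicalKrullDim_eq _ (Homeomorph.Set.univ _).isHomeomorph
  have hlt := Groth.Agent.Lib.Helper8.Conn.dim_lt_of_proper_closed
    (IrreducibleSpace.isIrreducible_univ X) hcl (Set.subset_univ _) hne
    (by rw [huniv]; exact WithBot.coe_lt_coe.2 (ENat.natCast_lt_top 2))
  rw [huniv] at hlt
  exact le_one_of_lt_two _ hlt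

end Sheaf



section Dual

variable (k : Type u) [Field k] (n : ℕ) {X : Scheme.{u}} [X.Over (Spec (CommRingCat.of k))]
  (ι : X ⟶ CohB1.ProjSpace n k) [IsClosedImmersion ι]
  (hι : ι ≫ CohB1.ProjSpace.toSpec n k = X ↘ Spec (CommRingCat.of k)) [IsIntegral X]

include hι in
/-- an integral closed subscheme of `P^n_k` of dimension `r` has a dualizing pair `(ω, t)` with
`ω` coherent, torsion free and of generic rank one -/
theorem exists_dualizing (r : ℕ) (hr : topologicalKrullDim X = (r : WithBot ℕ∞)) :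
    ∃ (ω : X.Modules) (t : Coh.HH X ω r →ₗ[k] k), Coh.IsCoh ω ∧ TorSh.IsTorsionFree ω ∧
      Nonempty (X.presheaf.stalk (genericPoint X) ≃ₗ[X.presheaf.stalk (genericPoint X)]
        ω.presheaf.stalk (genericPoint X)) ∧
      ∀ F : X.Modules, Coh.IsCoh F → ∀ ψ : Coh.HH X F r →ₗ[k] k,
        ∃! φ : F ⟶ ω, ∀ x : Coh.HH X F r,
          ψ x = t (Sheaf.H.map ((SheafOfModules.toSheaf X.ringCatSheaf).map φ) r x) := by
  haveI : IsNoetherian (CohB1.ProjSpace n k) :=
    Groth.Agent.Lib.R2H2.QProjK0.isNoetherian_projSpace n k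
  have hrn : r ≤ n := by
    have h1 : topologicalKrullDim ↥X ≤ topologicalKrullDim ↥(CohB1.ProjSpace n k) :=
      ι.isClosedEmbedding.isInducing.topologicalKrullDim_le
    rw [hr, Groth.Agent.S10829.result k n] at h1
    exact_mod_cast h1
  have heq : ∀ Z : Set ↥X, Z ∈ irreducibleComponents ↥X →
      topologicalKrullDim ↥Z = (r : WithBot ℕ∞) := by
    intro Z hZ
    rw [irreducibleComponents_eq_singleton, Set.mem_singleton_iff] at hZ
    subst hZ
    rw [← hr]
    exact IsHomeomorph.topologicalKrullDim_eq _ (Homeomorph.Set.univ _).isHomeomorph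
  letI : HasInjectiveResolutions (ModSite.Mod (CohB1.ProjSpace n k).sheaf) :=
    Groth.Agent.Lib.R2H3.RpushRestrict.hasInjectiveResolutions_modules (CohB1.ProjSpace n k)
  haveI : ModSite.HasSheafHom (O := (CohB1.ProjSpace n k).sheaf)
      ((Scheme.Modules.pushforward ι).obj (Coh.structureModule X)) :=
    Groth.Agent.Lib.Helper21.ExtShDelta.hasSheafHom _ _
  let ω₀ : X.Modules :=
    ((Groth.Agent.Lib.R2H3.ClosedShriek.TS ι (Coh.structureModule X)).rightDerived (n - r)).obj
      (Twist.twistProjSpace n k (-((n : ℤ) + 1)))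
  have hω₀ : Nonempty ((Scheme.Modules.pushforward ι).obj ω₀ ≅
      (ModSite.extSh (O := (CohB1.ProjSpace n k).sheaf)
        ((Scheme.Modules.pushforward ι).obj (Coh.structureModule X)) (n - r)).obj
          (Twist.twistProjSpace n k (-((n : ℤ) + 1)))) :=
    ⟨(Groth.Agent.Lib.R2H3.ClosedShriek.pushRightDerivedTIso ι (Coh.structureModule X) (n - r)).app
      (Twist.twistProjSpace n k (-((n : ℤ) + 1)))⟩
  obtain ⟨t₀, ht₀⟩ := Groth.Agent.S11903.result k n r hrn X ι hι heq ω₀ hω₀
  have hcoh₀ : Coh.IsCoh ω₀ := by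
    obtain ⟨h⟩ := hω₀
    have hL : Coh.IsCoh (Twist.twistProjSpace n k (-((n : ℤ) + 1))) :=
      Groth.Agent.Lib.R2H4DegAdd.isCoh_of_rank (Groth.Agent.Lib.R2H3.OmegaPn.isFinLocFreeOfRank_omega k n)
    have hF : Coh.IsCoh ((Scheme.Modules.pushforward ι).obj (Coh.structureModule X)) :=
      Groth.Agent.Lib.R2H2.DevE.isCoh_pushO ι
    have hE := Groth.Agent.Lib.R2H3.ExtAffQC.isCoh_extSh _ _ hF hL (n - r)
    exact Groth.Agent.Lib.R2H3.OmegaCoh.isCoh_of_isCoh_push ι ω₀
      (Groth.Agent.Lib.R2H2.PdSheaf.isCoh_of_iso h.symm hE)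
  have hfield : IsField (X.presheaf.stalk (genericPoint X)) :=
    Groth.Agent.Lib.R2H3.OmegaGeo.isField_stalk_of_generic (genericPoint X)
      (by
        have h1 : closure ({genericPoint X} : Set X) = Set.univ := (genericPoint_spec X).def
        rw [h1, irreducibleComponents_eq_singleton]
        exact Set.mem_singleton _) inferInstance
  refine ⟨ω₀, t₀, hcoh₀, ?_, ?_, ht₀⟩
  · intro x
    exact Submodule.isTorsionFree_iff_torsion_eq_bot.2
      (Groth.Agent.Lib.R2H3.OmegaPn.torsion_stalk_eq_bot k n r hrn ι hι heq ω₀ hω₀ x)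
  · exact Groth.Agent.Lib.R2H3.OmegaPn.nonempty_linearEquiv_stalk k n r hrn ι hι heq ω₀ hω₀
      (genericPoint X) hfield

end Dual



open Groth.Agent.Lib.R2H4TensorPows Groth.Agent.Lib.R2H4FGAAdd Groth.Agent.Lib.R2H4SurfPos
  Groth.Agent.Lib.R2H4SurfHyp Groth.Agent.Lib.R2H4FGASnapper Groth.Agent.Lib.R2H4FGAPos

section Num

variable (k : Type u) [Field k] {X : Scheme.{u}} [X.Over (Spec (CommRingCat.of k))]
  [IsProper (X ↘ Spec (CommRingCat.of k))] [IsIntegral X]

theorem inv1 (A : X.Modules) (hA : PicF.IsInvertible A) : ∀ i,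
    PicF.IsInvertible ((Fin.cons A (Fin.elim0 : Fin 0 → X.Modules) : Fin 1 → X.Modules) i) := by
  intro i
  induction i using Fin.cases with
  | zero => simpa using hA
  | succ j => exact j.elim0

/-- an invertible module is torsion free of generic rank one -/
theorem invertible_facts (L : X.Modules) (hL : PicF.IsInvertible L) :
    TorSh.IsTorsionFree L ∧
      Nonempty (X.presheaf.stalk (genericPoint X) ≃ₗ[X.presheaf.stalk (genericPoint X)]
        L.presheaf.stalk (genericPoint X)) := by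
  have hr := Groth.Agent.Lib.Helper23.SecTw.isFinLocFreeOfRank_one_of_isInvertible L hL
  constructor
  · intro x
    obtain ⟨f1, -, -⟩ := Groth.Agent.Lib.R2H4DegAdd.stalk_facts hr x
    haveI := f1
    infer_instance
  · obtain ⟨f1, f2, f3⟩ := Groth.Agent.Lib.R2H4DegAdd.stalk_facts hr (genericPoint X)
    haveI := f1
    haveI := f2
    exact ⟨LinearEquiv.ofFinrankEq _ _ (by rw [f3, Module.finrank_self])⟩

/-- `(L ; H') = (O ; H') + (L · H)` -/
theorem delta_invertible (hdim : topologicalKrullDim X = 2) (H H' : X.Modules)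
    (hH : PicF.IsInvertible H) (eH : CohB1.tensorMod H H' ≅ Coh.structureModule X)
    (L : X.Modules) (hL : PicF.IsInvertible L) :
    FGA.intNum k X 2 (Fin.cons H' (Fin.elim0 : Fin 0 → X.Modules) : Fin 1 → X.Modules) L =
      FGA.intNum k X 2 (Fin.cons H' (Fin.elim0 : Fin 0 → X.Modules) : Fin 1 → X.Modules)
        (Coh.structureModule X) +
      FGA.intNum k X 2 ![L, H] (Coh.structureModule X) := by
  have hd : topologicalKrullDim X ≤ ((2 : ℕ) : WithBot ℕ∞) := hdim.le
  have hH' : PicF.IsInvertible H' :=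
    Groth.Agent.Lib.Helper2.TensorInv.isInvertible_of_tensor_iso H' H (tComm _ _ ≪≫ eH)
  have hO : PicF.IsInvertible (Coh.structureModule X) :=
    Groth.Agent.Lib.Helper23.TensorUnit.isInvertible_structureModule X
  have cO : Coh.IsCoh (Coh.structureModule X) :=
    Groth.Agent.Lib.R2H4SSDescent.isCoh_of_isInvertible _ hO
  have hsuppO : topologicalKrullDim (CohB1.support (Coh.structureModule X)) ≤
      ((1 + 1 : ℕ) : WithBot ℕ∞) :=
    (Topology.IsInducing.subtypeVal).topologicalKrullDim_le.trans hd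
  have h1 := intNum_cons k 2 hd (Fin.cons H' (Fin.elim0 : Fin 0 → X.Modules) : Fin 1 → X.Modules)
    L (Coh.structureModule X)
  have h1' : FGA.intNum k X 2 (Fin.cons H' (Fin.elim0 : Fin 0 → X.Modules) : Fin 1 → X.Modules)
      (CohB1.tensorMod (Coh.structureModule X) L) =
      FGA.intNum k X 2 (Fin.cons H' (Fin.elim0 : Fin 0 → X.Modules) : Fin 1 → X.Modules) L :=
    intNum_congr k 2 hd _ (lUnit L)
  have h2 := intNum_swap k 2 hd L H' (Coh.structureModule X)
  have h3 := intNum_cons_inv k 2 hd (Fin.cons L (Fin.elim0 : Fin 0 → X.Modules) : Fin 1 → X.Modules)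
    (inv1 L hL) H' H hH' hH (tComm H' H ≪≫ eH) (Coh.structureModule X) cO hsuppO
  have h4 := intNum_swap k 2 hd H L (Coh.structureModule X)
  have h5 : FGA.intNum k X 2 ![L, H] (Coh.structureModule X) =
      FGA.intNum k X 2 (Fin.cons L (Fin.cons H (Fin.elim0 : Fin 0 → X.Modules)) :
        Fin 2 → X.Modules) (Coh.structureModule X) := rfl
  rw [h1'] at h1
  rw [h2, h3, h4] at h1
  rw [h5]
  have h6 : (FGA.intNum k X 2 (Fin.cons H' (Fin.elim0 : Fin 0 → X.Modules) : Fin 1 → X.Modules) L : ℚ) =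
      FGA.intNum k X 2 (Fin.cons H' (Fin.elim0 : Fin 0 → X.Modules) : Fin 1 → X.Modules)
        (Coh.structureModule X) +
      FGA.intNum k X 2 (Fin.cons L (Fin.cons H (Fin.elim0 : Fin 0 → X.Modules)) :
        Fin 2 → X.Modules) (Coh.structureModule X) := by
    push_cast at h1
    linarith
  exact_mod_cast h6

/-- **Vanishing of `H²`**: on an integral proper surface with a torsion-free dualizing module of
generic rank one, `H²(L) = 0` as soon as `(L · H)` is large. -/
theorem h2_vanish (hdim : topologicalKrullDim X = 2)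
    (ω : X.Modules) (hωc : Coh.IsCoh ω) (hωtf : TorSh.IsTorsionFree ω)
    (e2 : X.presheaf.stalk (genericPoint X) ≃ₗ[X.presheaf.stalk (genericPoint X)]
      ω.presheaf.stalk (genericPoint X))
    (t : Coh.HH X ω 2 →ₗ[k] k)
    (hdual : ∀ F : X.Modules, Coh.IsCoh F → ∀ ψ : Coh.HH X F 2 →ₗ[k] k,
      ∃ φ : F ⟶ ω, ∀ x : Coh.HH X F 2,
        ψ x = t (Sheaf.H.map ((SheafOfModules.toSheaf X.ringCatSheaf).map φ) 2 x))
    (H H' : X.Modules) (hH : CohB1.IsAmple H)
    (eH : CohB1.tensorMod H H' ≅ Coh.structureModule X) :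
    ∃ n₀ : ℤ, ∀ L : X.Modules, PicF.IsInvertible L →
      n₀ < FGA.intNum k X 2 ![L, H] (Coh.structureModule X) → Subsingleton (Coh.HH X L 2) := by
  classical
  haveI := Groth.Agent.Lib.R2H1.CurveEuler.isNoetherian_of_proper k X
  have hd : topologicalKrullDim X ≤ ((2 : ℕ) : WithBot ℕ∞) := hdim.le
  have hHi : PicF.IsInvertible H := hH.1
  have hH'i : PicF.IsInvertible H' :=
    Groth.Agent.Lib.Helper2.TensorInv.isInvertible_of_tensor_iso H' H (tComm _ _ ≪≫ eH)
  refine ⟨FGA.intNum k X 2 (Fin.cons H' (Fin.elim0 : Fin 0 → X.Modules) : Fin 1 → X.Modules) ω -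
    FGA.intNum k X 2 (Fin.cons H' (Fin.elim0 : Fin 0 → X.Modules) : Fin 1 → X.Modules)
      (Coh.structureModule X), fun L hL hlt => ?_⟩
  by_contra hns
  obtain ⟨x₀, hx₀⟩ : ∃ x₀ : Coh.HH X L 2, x₀ ≠ 0 := by
    by_contra h
    have h' : ∀ x₀ : Coh.HH X L 2, x₀ = 0 := fun x₀ => by
      by_contra hx
      exact h ⟨x₀, hx⟩
    exact hns ⟨fun a b => by rw [h' a, h' b]⟩
  haveI : Module.Free k (Coh.HH X L 2) := Module.Free.of_divisionRing k _
  haveI : Module.Projective k (Coh.HH X L 2) := Module.Projective.of_free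
  obtain ⟨ψ, hψ⟩ := Module.Projective.exists_dual_ne_zero k hx₀
  have cL : Coh.IsCoh L := Groth.Agent.Lib.R2H4SSDescent.isCoh_of_isInvertible _ hL
  obtain ⟨φ, hφ⟩ := hdual L cL ψ
  have hφ0 : φ ≠ 0 := by
    intro h0
    apply hψ
    rw [hφ x₀, h0]
    have h1 := Groth.Agent.Lib.R2H2.HHLin.HmapL_zero (M := L) (N := ω) 2 x₀
    rw [Groth.Agent.Lib.R2H2.HHLin.HmapL_apply] at h1
    have h2 : Sheaf.H.map ((SheafOfModules.toSheaf X.ringCatSheaf).map (0 : L ⟶ ω)) 2 x₀ = 0 := h1
    rw [h2, map_zero]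
  obtain ⟨hLtf, ⟨e1⟩⟩ := invertible_facts L hL
  haveI : L.IsQuasicoherent := cL.1
  haveI : ω.IsQuasicoherent := hωc.1
  obtain ⟨hmono, hQξ⟩ := mono_of_ne_zero hLtf hωtf e1 e2 φ hφ0
  have cQ : Coh.IsCoh (cokernel φ) := Groth.Agent.Lib.R2H2.NilFilt.isCoh_cokernel cL hωc φ
  have hQdim := dim_support_le_one hdim (cokernel φ) (hQ := cQ.2) hQξ
  let S₀ : ShortComplex X.Modules := ShortComplex.mk φ (cokernel.π φ) (cokernel.condition φ)
  have hS₀ : S₀.ShortExact :=
    { exact := ShortComplex.exact_cokernel φ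
      mono_f := hmono
      epi_g := inferInstanceAs (Epi (cokernel.π φ)) }
  have hadd := intNum_add k 2 hd (Fin.cons H' (Fin.elim0 : Fin 0 → X.Modules) : Fin 1 → X.Modules)
    (inv1 H' hH'i) S₀ hS₀ cL hωc cQ
  have hQ0 : 0 ≤ FGA.intNum k X 2 (Fin.cons H' (Fin.elim0 : Fin 0 → X.Modules) : Fin 1 → X.Modules)
      (cokernel φ) := by
    by_cases hlt1 : topologicalKrullDim (CohB1.support (cokernel φ)) < ((1 : ℕ) : WithBot ℕ∞)
    · exact (s3231 k 2 hd _ (inv1 H' hH'i) (cokernel φ) cQ hlt1).ge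
    · have heq1 : topologicalKrullDim (CohB1.support (cokernel φ)) = ((1 : ℕ) : WithBot ℕ∞) :=
        le_antisymm hQdim (not_lt.1 hlt1)
      exact (s3233 k 2 hd (Fin.cons H (Fin.elim0 : Fin 0 → X.Modules) : Fin 1 → X.Modules)
        (Fin.cons H' (Fin.elim0 : Fin 0 → X.Modules) : Fin 1 → X.Modules)
        (by
          intro i
          induction i using Fin.cases with
          | zero => simpa using hH
          | succ j => exact j.elim0)
        (by
          intro i
          induction i using Fin.cases with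
          | zero => exact ⟨by simpa using eH⟩
          | succ j => exact j.elim0)
        (cokernel φ) cQ heq1).le
  have hδ := delta_invertible k hdim H H' hHi eH L hL
  change FGA.intNum k X 2 (Fin.cons H' (Fin.elim0 : Fin 0 → X.Modules) : Fin 1 → X.Modules) ω =
    FGA.intNum k X 2 (Fin.cons H' (Fin.elim0 : Fin 0 → X.Modules) : Fin 1 → X.Modules) L +
    FGA.intNum k X 2 (Fin.cons H' (Fin.elim0 : Fin 0 → X.Modules) : Fin 1 → X.Modules)
      (cokernel φ) at hadd
  linarith

end Num



open Groth.Agent.Lib.R2H4TensorPows Groth.Agent.Lib.R2H4FGAAdd Groth.Agent.Lib.R2H4SurfPos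
  Groth.Agent.Lib.R2H4SurfHyp Groth.Agent.Lib.R2H4FGASnapper Groth.Agent.Lib.R2H4FGAPos
  Groth.Agent.Lib.R2H1.DegCartier

section Arith

theorem quad_pos (a b c : ℤ) (ha : 1 ≤ a) (n : ℕ) (hn : 4 * (|b| + |c|) + 3 ≤ (n : ℤ)) :
    (a : ℚ) / 4 * (n : ℚ) ^ 2 < c + n * b + a * n * (n - 1) / 2 := by
  have hB : (-(|b| : ℤ) : ℚ) ≤ b := by exact_mod_cast neg_abs_le b
  have hC : (-(|c| : ℤ) : ℚ) ≤ c := by exact_mod_cast neg_abs_le c
  have hB0 : (0 : ℚ) ≤ (|b| : ℤ) := by exact_mod_cast abs_nonneg b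
  have hC0 : (0 : ℚ) ≤ (|c| : ℤ) := by exact_mod_cast abs_nonneg c
  have hn' : 4 * (((|b| : ℤ) : ℚ) + ((|c| : ℤ) : ℚ)) + 3 ≤ (n : ℚ) := by exact_mod_cast hn
  have ha' : (1 : ℚ) ≤ a := by exact_mod_cast ha
  set x : ℚ := (n : ℚ) with hx
  set B : ℚ := ((|b| : ℤ) : ℚ) with hBdef
  set C : ℚ := ((|c| : ℤ) : ℚ) with hCdef
  have hx3 : 3 ≤ x := by linarith
  have h1 : x * (x - 2) ≤ a * (x * (x - 2)) := by
    have : 0 ≤ x * (x - 2) := mul_nonneg (by linarith) (by linarith)
    nlinarith
  have h2 : x * (4 * B + 4 * C + 1) ≤ x * (x - 2) :=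
    mul_le_mul_of_nonneg_left (by linarith) (by linarith)
  have h3 : 3 * C ≤ x * C := mul_le_mul_of_nonneg_right hx3 hC0
  have h4 : -(x * B) ≤ x * b := by
    have := mul_le_mul_of_nonneg_left hB (by linarith : (0 : ℚ) ≤ x)
    linarith
  nlinarith

end Arith

section Pow

variable (k : Type u) [Field k] {X : Scheme.{u}} [X.Over (Spec (CommRingCat.of k))]
  [IsProper (X ↘ Spec (CommRingCat.of k))] [IsIntegral X]

/-- `χ(L^{n})` is a quadratic polynomial in `n` -/
theorem euler_pow (hdim : topologicalKrullDim X = 2) (L : X.Modules) (hL : PicF.IsInvertible L) :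
    ∀ n : ℕ, (2 * Curv2.euler k X (CohB1.tensorPow L n) : ℤ) =
      2 * Curv2.euler k X (Coh.structureModule X) +
        2 * n * (Curv2.euler k X L - Curv2.euler k X (Coh.structureModule X)) +
        FGA.intNum k X 2 ![L, L] (Coh.structureModule X) * n * (n - 1)
  | 0 => by
    change (2 * Curv2.euler k X (Coh.structureModule X) : ℤ) = _
    push_cast
    ring
  | n + 1 => by
    have ih := euler_pow hdim L hL n
    have hd : topologicalKrullDim X ≤ ((2 : ℕ) : WithBot ℕ∞) := hdim.le
    have hO : PicF.IsInvertible (Coh.structureModule X) :=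
      Groth.Agent.Lib.Helper23.TensorUnit.isInvertible_structureModule X
    have cO : Coh.IsCoh (Coh.structureModule X) :=
      Groth.Agent.Lib.R2H4SSDescent.isCoh_of_isInvertible _ hO
    have hsuppO : topologicalKrullDim (CohB1.support (Coh.structureModule X)) ≤
        ((1 + 1 : ℕ) : WithBot ℕ∞) :=
      (Topology.IsInducing.subtypeVal).topologicalKrullDim_le.trans hd
    have h1 := intNum_pow_cons k 2 hd (Fin.cons L (Fin.elim0 : Fin 0 → X.Modules) : Fin 1 → X.Modules)
      (inv1 L hL) L hL (Coh.structureModule X) cO hsuppO n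
    have h2 := Groth.Agent.Lib.R2H4GorRR.intNum_two k 2 hd (CohB1.tensorPow L n) L
      (Coh.structureModule X)
    have a1 : Curv2.euler k X (CohB1.tensorMod (Coh.structureModule X) L) = Curv2.euler k X L :=
      euler_congr k (lUnit L)
    have a2 : Curv2.euler k X (CohB1.tensorMod (Coh.structureModule X) (CohB1.tensorPow L n)) =
        Curv2.euler k X (CohB1.tensorPow L n) := euler_congr k (lUnit _)
    have a3 : Curv2.euler k X (CohB1.tensorMod
        (CohB1.tensorMod (Coh.structureModule X) (CohB1.tensorPow L n)) L) =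
        Curv2.euler k X (CohB1.tensorPow L (n + 1)) :=
      euler_congr k (tIso (lUnit _) (Iso.refl L))
    rw [a1, a2, a3, h1] at h2
    have h5 : FGA.intNum k X 2 ![L, L] (Coh.structureModule X) =
        FGA.intNum k X 2 (Fin.cons L (Fin.cons L (Fin.elim0 : Fin 0 → X.Modules)) :
          Fin 2 → X.Modules) (Coh.structureModule X) := rfl
    rw [h5] at ih ⊢
    have h6 : ((2 * Curv2.euler k X (CohB1.tensorPow L (n + 1)) : ℤ) : ℚ) =
        ((2 * Curv2.euler k X (Coh.structureModule X) +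
        2 * ((n + 1 : ℕ) : ℤ) * (Curv2.euler k X L - Curv2.euler k X (Coh.structureModule X)) +
        FGA.intNum k X 2 (Fin.cons L (Fin.cons L (Fin.elim0 : Fin 0 → X.Modules)) :
          Fin 2 → X.Modules) (Coh.structureModule X) * ((n + 1 : ℕ) : ℤ) * (((n + 1 : ℕ) : ℤ) - 1) : ℤ) : ℚ) := by
      have ih' : ((2 * Curv2.euler k X (CohB1.tensorPow L n) : ℤ) : ℚ) = _ := congrArg (Int.cast) ih
      push_cast at h2 ih' ⊢
      linarith
    exact_mod_cast h6

/-- `h⁰ ≥ χ` if `h² = 0` -/
theorem euler_le_h0 (hdim : topologicalKrullDim X = 2) (F : X.Modules)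
    (h2 : Subsingleton (Coh.HH X F 2)) :
    Curv2.euler k X F ≤ (Module.finrank k (Coh.HH X F 0) : ℤ) := by
  have hd : topologicalKrullDim X ≤ ((2 : ℕ) : WithBot ℕ∞) := hdim.le
  rw [← Groth.Agent.Lib.R2H4GVSch.eulerCharLE_eq_euler k X 2 hd F]
  unfold FGA.eulerCharLE
  have h0 : Module.finrank k (Coh.HH X F 2) = 0 := Module.finrank_zero_of_subsingleton
  simp only [Finset.sum_range_succ, Finset.sum_range_zero, h0]
  have : (0 : ℤ) ≤ (Module.finrank k (Coh.HH X F 1) : ℤ) := Int.natCast_nonneg _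
  simp
  

/-- **Sections of high powers**: if `(L·L) > 0` and `(L·H) > 0` then `h⁰(L^n)` grows
quadratically. -/
theorem pow_sections (hdim : topologicalKrullDim X = 2)
    (ω : X.Modules) (hωc : Coh.IsCoh ω) (hωtf : TorSh.IsTorsionFree ω)
    (e2 : X.presheaf.stalk (genericPoint X) ≃ₗ[X.presheaf.stalk (genericPoint X)]
      ω.presheaf.stalk (genericPoint X))
    (t : Coh.HH X ω 2 →ₗ[k] k)
    (hdual : ∀ F : X.Modules, Coh.IsCoh F → ∀ ψ : Coh.HH X F 2 →ₗ[k] k,
      ∃ φ : F ⟶ ω, ∀ x : Coh.HH X F 2,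
        ψ x = t (Sheaf.H.map ((SheafOfModules.toSheaf X.ringCatSheaf).map φ) 2 x))
    (H H' : X.Modules) (hH : CohB1.IsAmple H)
    (eH : CohB1.tensorMod H H' ≅ Coh.structureModule X)
    (L : X.Modules) (hL : PicF.IsInvertible L)
    (hLL : 0 < FGA.intNum k X 2 ![L, L] (Coh.structureModule X))
    (hLH : 0 < FGA.intNum k X 2 ![L, H] (Coh.structureModule X)) :
    ∃ N : ℕ, ∀ n : ℕ, N ≤ n →
      (FGA.intNum k X 2 ![L, L] (Coh.structureModule X) : ℚ) / 4 * (n : ℚ) ^ 2 <
        (Module.finrank k (Coh.HH X (CohB1.tensorPow L n) 0) : ℚ) := by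
  have hd : topologicalKrullDim X ≤ ((2 : ℕ) : WithBot ℕ∞) := hdim.le
  have hO : PicF.IsInvertible (Coh.structureModule X) :=
    Groth.Agent.Lib.Helper23.TensorUnit.isInvertible_structureModule X
  have cO : Coh.IsCoh (Coh.structureModule X) :=
    Groth.Agent.Lib.R2H4SSDescent.isCoh_of_isInvertible _ hO
  have hsuppO : topologicalKrullDim (CohB1.support (Coh.structureModule X)) ≤
      ((1 + 1 : ℕ) : WithBot ℕ∞) :=
    (Topology.IsInducing.subtypeVal).topologicalKrullDim_le.trans hd
  obtain ⟨n₀, hn₀⟩ := h2_vanish k hdim ω hωc hωtf e2 t hdual H H' hH eH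
  set a := FGA.intNum k X 2 ![L, L] (Coh.structureModule X) with ha
  set b := Curv2.euler k X L - Curv2.euler k X (Coh.structureModule X) with hb
  set c := Curv2.euler k X (Coh.structureModule X) with hc
  refine ⟨(4 * (|b| + |c|) + 3 + |n₀|).toNat, fun n hn => ?_⟩
  have hn1 : 4 * (|b| + |c|) + 3 + |n₀| ≤ (n : ℤ) := by
    have := Int.toNat_le.1 hn
    exact this
  have hn2 : 4 * (|b| + |c|) + 3 ≤ (n : ℤ) := by
    have := abs_nonneg n₀
    linarith
  have hn3 : n₀ < (n : ℤ) := by
    have h1 := le_abs_self n₀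
    have h2 := abs_nonneg b
    have h3 := abs_nonneg c
    linarith
  -- `H²` vanishes
  have hpowH := intNum_pow_cons k 2 hd (Fin.cons H (Fin.elim0 : Fin 0 → X.Modules) : Fin 1 → X.Modules)
    (inv1 H hH.1) L hL (Coh.structureModule X) cO hsuppO n
  have hvan : Subsingleton (Coh.HH X (CohB1.tensorPow L n) 2) := by
    apply hn₀ _ (Groth.Agent.Lib.Helper23.SecTw.isInvertible_tensorPow hL n)
    have h5 : FGA.intNum k X 2 ![CohB1.tensorPow L n, H] (Coh.structureModule X) =
        (n : ℤ) * FGA.intNum k X 2 ![L, H] (Coh.structureModule X) := hpowH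
    rw [h5]
    nlinarith
  have hle := euler_le_h0 k hdim _ hvan
  have hq := quad_pos a b c (by omega) n hn2
  have he := euler_pow k hdim L hL n
  have he' : ((2 * Curv2.euler k X (CohB1.tensorPow L n) : ℤ) : ℚ) =
      ((2 * c + 2 * (n : ℤ) * b + a * (n : ℤ) * ((n : ℤ) - 1) : ℤ) : ℚ) := congrArg Int.cast he
  have hle' : (Curv2.euler k X (CohB1.tensorPow L n) : ℚ) ≤
      (Module.finrank k (Coh.HH X (CohB1.tensorPow L n) 0) : ℚ) := by exact_mod_cast hle
  push_cast at he'
  linarith

end Pow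



open Groth.Agent.Lib.R2H4TensorPows Groth.Agent.Lib.R2H4FGAAdd Groth.Agent.Lib.R2H4SurfPos
  Groth.Agent.Lib.R2H4SurfHyp

section Top

variable (k : Type u) [Field k] {X : Scheme.{u}} [X.Over (Spec (CommRingCat.of k))]
  [IsProper (X ↘ Spec (CommRingCat.of k))] [IsIntegral X]

/-- `(A' · B') = (A · B)` -/
theorem intNum_inv_inv (hdim : topologicalKrullDim X = 2) (A A' B B' : X.Modules)
    (hA : PicF.IsInvertible A) (hB : PicF.IsInvertible B)
    (eA : CohB1.tensorMod A A' ≅ Coh.structureModule X)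
    (eB : CohB1.tensorMod B B' ≅ Coh.structureModule X) :
    FGA.intNum k X 2 ![A', B'] (Coh.structureModule X) =
      FGA.intNum k X 2 ![A, B] (Coh.structureModule X) := by
  have hd : topologicalKrullDim X ≤ ((2 : ℕ) : WithBot ℕ∞) := hdim.le
  have hA' : PicF.IsInvertible A' :=
    Groth.Agent.Lib.Helper2.TensorInv.isInvertible_of_tensor_iso A' A (tComm _ _ ≪≫ eA)
  have hB' : PicF.IsInvertible B' :=
    Groth.Agent.Lib.Helper2.TensorInv.isInvertible_of_tensor_iso B' B (tComm _ _ ≪≫ eB)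
  have hO : PicF.IsInvertible (Coh.structureModule X) :=
    Groth.Agent.Lib.Helper23.TensorUnit.isInvertible_structureModule X
  have cO : Coh.IsCoh (Coh.structureModule X) :=
    Groth.Agent.Lib.R2H4SSDescent.isCoh_of_isInvertible _ hO
  have hsuppO : topologicalKrullDim (CohB1.support (Coh.structureModule X)) ≤
      ((1 + 1 : ℕ) : WithBot ℕ∞) :=
    (Topology.IsInducing.subtypeVal).topologicalKrullDim_le.trans hd
  have h1 := intNum_cons_inv k 2 hd (Fin.cons B' (Fin.elim0 : Fin 0 → X.Modules) : Fin 1 → X.Modules)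
    (inv1 B' hB') A' A hA' hA (tComm A' A ≪≫ eA) (Coh.structureModule X) cO hsuppO
  have h2 := intNum_swap k 2 hd A B' (Coh.structureModule X)
  have h3 := intNum_cons_inv k 2 hd (Fin.cons A (Fin.elim0 : Fin 0 → X.Modules) : Fin 1 → X.Modules)
    (inv1 A hA) B' B hB' hB (tComm B' B ≪≫ eB) (Coh.structureModule X) cO hsuppO
  have h4 := intNum_swap k 2 hd B A (Coh.structureModule X)
  change FGA.intNum k X 2 (Fin.cons A' (Fin.cons B' (Fin.elim0 : Fin 0 → X.Modules)) :
      Fin 2 → X.Modules) (Coh.structureModule X) =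
    FGA.intNum k X 2 (Fin.cons A (Fin.cons B (Fin.elim0 : Fin 0 → X.Modules)) :
      Fin 2 → X.Modules) (Coh.structureModule X)
  rw [h1, h2, h3, h4, neg_neg]

/-- a proper integral surface with an ample invertible module has a torsion-free dualizing
module of generic rank one -/
theorem exists_data (hdim : topologicalKrullDim X = 2) (H : X.Modules) (hH : CohB1.IsAmple H) :
    ∃ (ω : X.Modules) (t : Coh.HH X ω 2 →ₗ[k] k), Coh.IsCoh ω ∧ TorSh.IsTorsionFree ω ∧
      Nonempty (X.presheaf.stalk (genericPoint X) ≃ₗ[X.presheaf.stalk (genericPoint X)]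
        ω.presheaf.stalk (genericPoint X)) ∧
      ∀ F : X.Modules, Coh.IsCoh F → ∀ ψ : Coh.HH X F 2 →ₗ[k] k,
        ∃! φ : F ⟶ ω, ∀ x : Coh.HH X F 2,
          ψ x = t (Sheaf.H.map ((SheafOfModules.toSheaf X.ringCatSheaf).map φ) 2 x) := by
  obtain ⟨d, _, r, i, hi, hif, _⟩ :=
    Groth.Agent.Lib.R2H3.AmpleSV.exists_closedImmersion_projSpace k
      (X ↘ Spec (CommRingCat.of k)) H hH
  haveI := hi
  exact exists_dualizing k r i hif 2 (by rw [hdim]; rfl)

/-- **V.1.7**: `H²(L) = 0` for `(L·H)` large -/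
theorem h2_vanish' (hdim : topologicalKrullDim X = 2) (H : X.Modules) (hH : CohB1.IsAmple H) :
    ∃ n₀ : ℤ, ∀ L : X.Modules, PicF.IsInvertible L →
      n₀ < FGA.intNum k X 2 ![L, H] (Coh.structureModule X) → Subsingleton (Coh.HH X L 2) := by
  obtain ⟨ω, t, hωc, hωtf, ⟨e2⟩, hdual⟩ := exists_data k hdim H hH
  obtain ⟨H', -, ⟨eH⟩⟩ := Groth.Agent.Lib.R2H4InvExists.exists_inverse H hH.1
  exact h2_vanish k hdim ω hωc hωtf e2 t (fun F hF ψ => (hdual F hF ψ).exists) H H' hH eH

/-- **V.1.8**: if `(L·L) > 0` and `(L·H) > 0` then `h⁰(L^n)` grows quadratically -/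
theorem pow_sections' (hdim : topologicalKrullDim X = 2) (H : X.Modules) (hH : CohB1.IsAmple H)
    (L : X.Modules) (hL : PicF.IsInvertible L)
    (hLL : 0 < FGA.intNum k X 2 ![L, L] (Coh.structureModule X))
    (hLH : 0 < FGA.intNum k X 2 ![L, H] (Coh.structureModule X)) :
    ∃ N : ℕ, ∀ n : ℕ, N ≤ n →
      (FGA.intNum k X 2 ![L, L] (Coh.structureModule X) : ℚ) / 4 * (n : ℚ) ^ 2 <
        (Module.finrank k (Coh.HH X (CohB1.tensorPow L n) 0) : ℚ) := by
  obtain ⟨ω, t, hωc, hωtf, ⟨e2⟩, hdual⟩ := exists_data k hdim H hH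
  obtain ⟨H', -, ⟨eH⟩⟩ := Groth.Agent.Lib.R2H4InvExists.exists_inverse H hH.1
  exact pow_sections k hdim ω hωc hωtf e2 t (fun F hF ψ => (hdual F hF ψ).exists) H H' hH eH
    L hL hLL hLH

/-- nontriviality version -/
theorem pow_sections_nontrivial (hdim : topologicalKrullDim X = 2) (H : X.Modules)
    (hH : CohB1.IsAmple H) (L : X.Modules) (hL : PicF.IsInvertible L)
    (hLL : 0 < FGA.intNum k X 2 ![L, L] (Coh.structureModule X))
    (hLH : 0 < FGA.intNum k X 2 ![L, H] (Coh.structureModule X)) :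
    ∃ N : ℕ, ∀ n : ℕ, N ≤ n → Nontrivial (Coh.HH X (CohB1.tensorPow L n) 0) := by
  obtain ⟨N, hN⟩ := pow_sections' k hdim H hH L hL hLL hLH
  refine ⟨N, fun n hn => ?_⟩
  have h1 := hN n hn
  have h2 : (0 : ℚ) ≤ (FGA.intNum k X 2 ![L, L] (Coh.structureModule X) : ℚ) / 4 * (n : ℚ) ^ 2 := by
    have : (0 : ℚ) < (FGA.intNum k X 2 ![L, L] (Coh.structureModule X) : ℚ) := by exact_mod_cast hLL
    positivity
  have h3 : 0 < Module.finrank k (Coh.HH X (CohB1.tensorPow L n) 0) := by
    have : (0 : ℚ) < (Module.finrank k (Coh.HH X (CohB1.tensorPow L n) 0) : ℚ) := lt_of_le_of_lt h2 h1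
    exact_mod_cast this
  exact Module.nontrivial_of_finrank_pos (R := k) h3

end Top

end Groth.Agent.Lib.R2H4SurfDual
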