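import Mathlib
import Groth.Prelude
import Groth.Agent.Lib.R2H4SurfDual
import Groth.Agent.Lib.Helper23Restr2
import Groth.Agent.Lib.Helper23SecTw10
set_option backward.isDefEq.respectTransparency.types false

/-!
# The Hodge index theorem on projective surfaces (helper4, round 2)

Namespace `Groth.Agent.Lib.R2H4HodgeIdx`.

* `exists_ample_twist` : `H ⊗ (E ⊗ H^N)` is ample for `H` ample, `E` invertible, some `N`;
* `hodge_ample` : on a proper integral surface, `(L·H) = 0` with `H` ample implies `(L·L) ≤ 0`;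
* `zp`, `intNum_zp` : integer powers `A^z` and `(A^z · M ; F) = z (A · M ; F)`;
* `hodge_index` : `(L·L) > 0`, `(L·M) = 0` imply `(M·M) ≤ 0`.
-/

set_option autoImplicit false
set_option linter.style.haveILetI false
set_option linter.unusedSectionVars false
universe u

open CategoryTheory CategoryTheory.Limits AlgebraicGeometry TopologicalSpace Opposite

namespace Groth.Agent.Lib.R2H4HodgeIdx


open Groth.Agent.Lib.R2H4TensorPows Groth.Agent.Lib.R2H4FGAAdd Groth.Agent.Lib.R2H4SurfPos
  Groth.Agent.Lib.R2H4SurfHyp Groth.Agent.Lib.R2H4SurfDual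

section Ample

variable {X : Scheme.{u}}

/-- for `H` ample and `E` invertible, `H ⊗ (E ⊗ H^N)` is ample for some `N` -/
theorem exists_ample_twist (H : X.Modules) (hH : CohB1.IsAmple H) (E : X.Modules)
    (hE : PicF.IsInvertible E) :
    ∃ N : ℕ, CohB1.IsAmple (CohB1.tensorMod H (CohB1.tensorMod E (CohB1.tensorPow H N))) := by
  haveI : CompactSpace X := hH.2.1
  choose V N₀ hV hN₀ using fun x : X =>
    Groth.Agent.Lib.Helper23.SecTw.exists_sections_eventually H hH E hE {x} (Set.finite_singleton x)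
  obtain ⟨T, hT⟩ := CompactSpace.elim_nhds_subcover (fun x => (V x : Set X))
    (fun x => (V x).2.mem_nhds (hV x (Set.mem_singleton x)))
  refine ⟨T.sup N₀, ?_⟩
  have hinv : PicF.IsInvertible (CohB1.tensorMod E (CohB1.tensorPow H (T.sup N₀))) :=
    Groth.Agent.Lib.Helper23.SecTw.isInvertible_tensorMod hE
      (Groth.Agent.Lib.Helper23.SecTw.isInvertible_tensorPow hH.1 _)
  refine Groth.Agent.Lib.Helper23.SecTw.isAmple_tensorMod_of_forall_mem_genLocus H _ hH hinv
    (fun x => ?_)
  have hx : x ∈ ⋃ y ∈ T, (V y : Set X) := by rw [hT]; trivial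
  rw [Set.mem_iUnion₂] at hx
  obtain ⟨y, hyT, hxy⟩ := hx
  obtain ⟨s, hs⟩ := hN₀ y (T.sup N₀) (Finset.le_sup hyT)
  refine ⟨0, s ≫ (lUnit _).inv, ?_⟩
  have h1 := Groth.Agent.Lib.Helper23.AmpleIso.genLocus_comp_iso
    (lUnit (CohB1.tensorMod E (CohB1.tensorPow H (T.sup N₀)))).symm s
  change x ∈ CohB1.genLocus _ (s ≫ (lUnit (CohB1.tensorMod E (CohB1.tensorPow H (T.sup N₀)))).symm.hom)
  rw [h1]
  exact hs hxy

end Ample

section Hodge

variable (k : Type u) [Field k] {X : Scheme.{u}} [X.Over (Spec (CommRingCat.of k))]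
  [IsProper (X ↘ Spec (CommRingCat.of k))] [IsIntegral X]

/-- **Hodge index, ample form**: if `(L·H) = 0` for an ample `H` then `(L·L) ≤ 0` -/
theorem hodge_ample (hdim : topologicalKrullDim X = 2) (H : X.Modules) (hH : CohB1.IsAmple H)
    (L : X.Modules) (hL : PicF.IsInvertible L)
    (horth : FGA.intNum k X 2 ![L, H] (Coh.structureModule X) = 0) :
    FGA.intNum k X 2 ![L, L] (Coh.structureModule X) ≤ 0 := by
  by_contra hpos
  rw [not_le] at hpos
  have hd : topologicalKrullDim X ≤ ((2 : ℕ) : WithBot ℕ∞) := hdim.le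
  have hO : PicF.IsInvertible (Coh.structureModule X) :=
    Groth.Agent.Lib.Helper23.TensorUnit.isInvertible_structureModule X
  have cO : Coh.IsCoh (Coh.structureModule X) :=
    Groth.Agent.Lib.R2H4SSDescent.isCoh_of_isInvertible _ hO
  have hsuppO : topologicalKrullDim (CohB1.support (Coh.structureModule X)) ≤
      ((1 + 1 : ℕ) : WithBot ℕ∞) :=
    (Topology.IsInducing.subtypeVal).topologicalKrullDim_le.trans hd
  obtain ⟨N, hA⟩ := exists_ample_twist H hH L hL
  have hHN : PicF.IsInvertible (CohB1.tensorPow H N) :=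
    Groth.Agent.Lib.Helper23.SecTw.isInvertible_tensorPow hH.1 N
  have hLHN : PicF.IsInvertible (CohB1.tensorMod L (CohB1.tensorPow H N)) :=
    Groth.Agent.Lib.Helper23.SecTw.isInvertible_tensorMod hL hHN
  -- `(L · A) = (L · L)`
  have h1 := s3232 k 2 hd (Fin.cons L (Fin.elim0 : Fin 0 → X.Modules) : Fin 1 → X.Modules)
    (inv1 L hL) H (CohB1.tensorMod L (CohB1.tensorPow H N)) hH.1 hLHN (Coh.structureModule X) cO hsuppO
  have h2 := s3232 k 2 hd (Fin.cons L (Fin.elim0 : Fin 0 → X.Modules) : Fin 1 → X.Modules)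
    (inv1 L hL) L (CohB1.tensorPow H N) hL hHN (Coh.structureModule X) cO hsuppO
  have h3 := intNum_pow_cons k 2 hd (Fin.cons L (Fin.elim0 : Fin 0 → X.Modules) : Fin 1 → X.Modules)
    (inv1 L hL) H hH.1 (Coh.structureModule X) cO hsuppO N
  have h4 := intNum_swap k 2 hd H L (Coh.structureModule X)
  have h5 := intNum_swap k 2 hd (CohB1.tensorMod H (CohB1.tensorMod L (CohB1.tensorPow H N))) L
    (Coh.structureModule X)
  have horth' : FGA.intNum k X 2 (Fin.cons L (Fin.cons H (Fin.elim0 : Fin 0 → X.Modules)) :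
      Fin 2 → X.Modules) (Coh.structureModule X) = 0 := horth
  have hpos' : 0 < FGA.intNum k X 2 (Fin.cons L (Fin.cons L (Fin.elim0 : Fin 0 → X.Modules)) :
      Fin 2 → X.Modules) (Coh.structureModule X) := hpos
  have hLA : 0 < FGA.intNum k X 2 ![L, CohB1.tensorMod H (CohB1.tensorMod L (CohB1.tensorPow H N))]
      (Coh.structureModule X) := by
    change 0 < FGA.intNum k X 2 (Fin.cons L (Fin.cons
      (CohB1.tensorMod H (CohB1.tensorMod L (CohB1.tensorPow H N)))
      (Fin.elim0 : Fin 0 → X.Modules)) : Fin 2 → X.Modules) (Coh.structureModule X)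
    rw [← h5, h1, h2, h3, h4, horth']
    simpa using hpos'
  obtain ⟨N₁, hN₁⟩ := pow_sections_nontrivial k hdim _ hA L hL hpos hLA
  obtain ⟨L', -, ⟨eL⟩⟩ := Groth.Agent.Lib.R2H4InvExists.exists_inverse L hL
  obtain ⟨H', -, ⟨eH⟩⟩ := Groth.Agent.Lib.R2H4InvExists.exists_inverse H hH.1
  have e1 := intNum_inv_inv k hdim L L' L L' hL hL eL eL
  have e2 := intNum_inv_inv k hdim L L' H H' hL hH.1 eL eH
  have := s11752 k hdim L L' hL ⟨eL⟩ (by rw [← e1] at hpos; exact hpos)
    ⟨N₁ + 1, Nat.succ_pos _, hN₁ _ (Nat.le_succ _)⟩ H H' hH ⟨eH⟩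
  have h6 : 0 < FGA.intNum k X 2 ![L', H'] (Coh.structureModule X) := this
  rw [e2, horth] at h6
  exact lt_irrefl _ h6

end Hodge



open Groth.Agent.Lib.R2H4TensorPows Groth.Agent.Lib.R2H4FGAAdd Groth.Agent.Lib.R2H4SurfPos
  Groth.Agent.Lib.R2H4SurfHyp Groth.Agent.Lib.R2H4SurfDual

section ZPow

variable (k : Type u) [Field k] {X : Scheme.{u}} [X.Over (Spec (CommRingCat.of k))]
  [IsProper (X ↘ Spec (CommRingCat.of k))]

/-- integer powers of an invertible module with a chosen inverse -/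
noncomputable def zp (A A' : X.Modules) (z : ℤ) : X.Modules :=
  if 0 ≤ z then CohB1.tensorPow A z.toNat else CohB1.tensorPow A' (-z).toNat

theorem isInvertible_zp (A A' : X.Modules) (hA : PicF.IsInvertible A) (hA' : PicF.IsInvertible A')
    (z : ℤ) : PicF.IsInvertible (zp A A' z) := by
  unfold zp
  split_ifs
  · exact Groth.Agent.Lib.Helper23.SecTw.isInvertible_tensorPow hA _
  · exact Groth.Agent.Lib.Helper23.SecTw.isInvertible_tensorPow hA' _

theorem intNum_zp (d : ℕ) (hd : topologicalKrullDim X ≤ d) {r : ℕ} (M : Fin r → X.Modules)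
    (hM : ∀ i, PicF.IsInvertible (M i)) (A A' : X.Modules) (hA : PicF.IsInvertible A)
    (hA' : PicF.IsInvertible A') (e : CohB1.tensorMod A A' ≅ Coh.structureModule X)
    (F : X.Modules) (hF : Coh.IsCoh F)
    (hr : topologicalKrullDim (CohB1.support F) ≤ (r + 1 : ℕ)) (z : ℤ) :
    FGA.intNum k X d (Fin.cons (zp A A' z) M : Fin (r + 1) → X.Modules) F =
      z * FGA.intNum k X d (Fin.cons A M : Fin (r + 1) → X.Modules) F := by
  unfold zp
  split_ifs with hz
  · rw [intNum_pow_cons k d hd M hM A hA F hF hr]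
    congr 1
    exact Int.toNat_of_nonneg hz
  · rw [intNum_pow_cons k d hd M hM A' hA' F hF hr,
      intNum_cons_inv k d hd M hM A' A hA' hA (tComm A' A ≪≫ e) F hF hr]
    have : ((-z).toNat : ℤ) = -z := Int.toNat_of_nonneg (by omega)
    rw [this]
    ring

end ZPow

section Hodge

variable (k : Type u) [Field k] {X : Scheme.{u}} [X.Over (Spec (CommRingCat.of k))]
  [IsProper (X ↘ Spec (CommRingCat.of k))] [IsIntegral X]

/-- **Hodge index theorem**: on a proper integral surface carrying an ample module, if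
`(L·L) > 0` and `(L·M) = 0` then `(M·M) ≤ 0`. -/
theorem hodge_index (hdim : topologicalKrullDim X = 2) (H : X.Modules) (hH : CohB1.IsAmple H)
    (L M : X.Modules) (hL : PicF.IsInvertible L) (hM : PicF.IsInvertible M)
    (hpos : 0 < FGA.intNum k X 2 ![L, L] (Coh.structureModule X))
    (horth : FGA.intNum k X 2 ![L, M] (Coh.structureModule X) = 0) :
    FGA.intNum k X 2 ![M, M] (Coh.structureModule X) ≤ 0 := by
  by_contra hMM
  rw [not_le] at hMM
  have hd : topologicalKrullDim X ≤ ((2 : ℕ) : WithBot ℕ∞) := hdim.le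
  have hO : PicF.IsInvertible (Coh.structureModule X) :=
    Groth.Agent.Lib.Helper23.TensorUnit.isInvertible_structureModule X
  have cO : Coh.IsCoh (Coh.structureModule X) :=
    Groth.Agent.Lib.R2H4SSDescent.isCoh_of_isInvertible _ hO
  have hsuppO : topologicalKrullDim (CohB1.support (Coh.structureModule X)) ≤
      ((1 + 1 : ℕ) : WithBot ℕ∞) :=
    (Topology.IsInducing.subtypeVal).topologicalKrullDim_le.trans hd
  obtain ⟨L', hL', ⟨eL⟩⟩ := Groth.Agent.Lib.R2H4InvExists.exists_inverse L hL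
  obtain ⟨M', hM', ⟨eM⟩⟩ := Groth.Agent.Lib.R2H4InvExists.exists_inverse M hM
  -- notation for the pairing
  let P : X.Modules → X.Modules → ℤ := fun A B =>
    FGA.intNum k X 2 (Fin.cons A (Fin.cons B (Fin.elim0 : Fin 0 → X.Modules)) : Fin 2 → X.Modules)
      (Coh.structureModule X)
  have hP : ∀ A B, FGA.intNum k X 2 ![A, B] (Coh.structureModule X) = P A B := fun A B => rfl
  have hsymm : ∀ A B, P A B = P B A := fun A B => intNum_swap k 2 hd A B (Coh.structureModule X)
  set a : ℤ := P M H with ha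
  set b : ℤ := -P L H with hb
  set D : X.Modules := CohB1.tensorMod (zp L L' a) (zp M M' b) with hD
  have hDa := isInvertible_zp L L' hL hL' a
  have hDb := isInvertible_zp M M' hM hM' b
  have hDi : PicF.IsInvertible D := Groth.Agent.Lib.Helper23.SecTw.isInvertible_tensorMod hDa hDb
  have hlin : ∀ C : X.Modules, PicF.IsInvertible C → P D C = a * P L C + b * P M C := by
    intro C hC
    change FGA.intNum k X 2 (Fin.cons (CohB1.tensorMod (zp L L' a) (zp M M' b))
      (Fin.cons C (Fin.elim0 : Fin 0 → X.Modules)) : Fin 2 → X.Modules) (Coh.structureModule X) = _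
    rw [s3232 k 2 hd (Fin.cons C (Fin.elim0 : Fin 0 → X.Modules) : Fin 1 → X.Modules) (inv1 C hC)
      _ _ hDa hDb (Coh.structureModule X) cO hsuppO,
      intNum_zp k 2 hd _ (inv1 C hC) L L' hL hL' eL _ cO hsuppO,
      intNum_zp k 2 hd _ (inv1 C hC) M M' hM hM' eM _ cO hsuppO]
  have hDH : P D H = 0 := by
    rw [hlin H hH.1, ha, hb]
    ring
  have hDD : P D D = a * a * P L L + b * b * P M M := by
    rw [hlin D hDi, hsymm L D, hsymm M D, hlin L hL, hlin M hM, hsymm M L]
    have h0 : P L M = 0 := horth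
    rw [h0]
    ring
  have h1 : P D D ≤ 0 := hodge_ample k hdim H hH D hDi hDH
  have hLL : 0 < P L L := hpos
  have hMM' : 0 < P M M := hMM
  rw [hDD] at h1
  have ha0 : a = 0 := by
    by_contra hne
    have : 0 < a * a := mul_self_pos.2 hne
    nlinarith [mul_self_nonneg b]
  have hb0 : b = 0 := by
    by_contra hne
    have : 0 < b * b := mul_self_pos.2 hne
    nlinarith [mul_self_nonneg a]
  have hLH : P L H = 0 := by
    have := hb0
    rw [hb] at this
    linarith
  have := hodge_ample k hdim H hH L hL hLH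
  exact absurd hpos (not_lt.2 this)

end Hodge

end Groth.Agent.Lib.R2H4HodgeIdx
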