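import Mathlib
import Groth.Prelude
import Groth.Agent.Lib.H9N1RHodgeAlg
import Groth.Agent.Lib.R2H4HodgeIdx
import Groth.Agent.Lib.R2H4BCGlue
import Groth.Agent.Lib.Helper23UnitStalk
set_option backward.isDefEq.respectTransparency.types false

/-!
# The real Hodge index theorem on `N¹(X)_ℝ` of a surface (helper9)

From helper4's `R2H4HodgeIdx.hodge_ample` (integral classes) we deduce that the intersection form
`B` on `N¹(X)_ℝ` together with the class of an ample module is a `Hyp` datum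
(`H9N1RHodgeAlg.Hyp`): symmetric, `h² > 0`, negative semidefinite on `h^⊥`.
-/

set_option autoImplicit false
set_option linter.style.haveILetI false
set_option linter.unusedSectionVars false
universe u
open CategoryTheory CategoryTheory.Limits AlgebraicGeometry TopologicalSpace Opposite

noncomputable section

namespace Groth.Agent.Lib.H9N1RHodge

open Groth.Agent.Lib.H9NegDefRank Groth.Agent.Lib.H9N1RHodgeAlg

section Alg

variable {V : Type*} [AddCommGroup V] [Module ℝ V] [Module.Finite ℝ V]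

theorem qf_identity (B : V →ₗ[ℝ] V →ₗ[ℝ] ℝ) (hsymm : ∀ x y, B x y = B y x) (h : V) {n : ℕ}
    (lam : Fin n → V) (a : ℤ) (b : Fin n → ℤ) (gg : Matrix (Fin n) (Fin n) ℤ)
    (ha : B h h = (a : ℝ)) (hb : ∀ i, B (lam i) h = (b i : ℝ))
    (hg : ∀ i j, B (lam i) (lam j) = ((gg i j : ℤ) : ℝ)) (f : Fin n → ℝ) :
    qf (fun i j => a * a * gg i j - a * b i * b j : Matrix (Fin n) (Fin n) ℤ) f =
      B ((a : ℝ) • (∑ i, f i • lam i) - (B (∑ i, f i • lam i) h) • h)
        ((a : ℝ) • (∑ i, f i • lam i) - (B (∑ i, f i • lam i) h) • h) := by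
  have h1 := B_sum gg B lam hg f
  have h2 : B (∑ i, f i • lam i) h = ∑ i, f i * (b i : ℝ) := by
    rw [map_sum, LinearMap.sum_apply]
    refine Finset.sum_congr rfl fun i _ => ?_
    rw [map_smul, LinearMap.smul_apply, hb, smul_eq_mul]
  set w := ∑ i, f i • lam i with hw
  have h3 : B ((a : ℝ) • w - (B w h) • h) ((a : ℝ) • w - (B w h) • h) =
      (a : ℝ) * (a : ℝ) * B w w - (a : ℝ) * (B w h) * (B w h) := by
    simp only [map_sub, LinearMap.sub_apply, map_smul, LinearMap.smul_apply, smul_eq_mul]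
    rw [hsymm h w, ha]
    ring
  rw [h3, h1, h2]
  unfold qf
  have h4 : (∑ i, f i * (b i : ℝ)) * (∑ j, f j * (b j : ℝ)) =
      ∑ i, ∑ j, (f i * (b i : ℝ)) * (f j * (b j : ℝ)) := Finset.sum_mul_sum _ _ _ _
  rw [mul_assoc ((a : ℝ)) (∑ i, f i * (b i : ℝ)), h4, Finset.mul_sum, Finset.mul_sum,
    ← Finset.sum_sub_distrib]
  refine Finset.sum_congr rfl fun i _ => ?_
  rw [Finset.mul_sum, Finset.mul_sum, ← Finset.sum_sub_distrib]
  refine Finset.sum_congr rfl fun j _ => ?_
  push_cast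
  ring

end Alg

variable (k : Type u) [Field k] (X : Scheme.{u}) [X.Over (Spec (CommRingCat.of k))]
  [IsProper (X ↘ (Spec (CommRingCat.of k)))] [AlgebraicGeometry.IsIntegral X] [PicGrp.Law X]
  [Module.Finite ℝ (NumR.N1R k X)]

theorem symm (hdim : topologicalKrullDim X = 2)
    (B : NumR.N1R k X →ₗ[ℝ] NumR.N1R k X →ₗ[ℝ] ℝ) (hB : NumR.IsIntForm₂ k X B) :
    ∀ x y, B x y = B y x := by
  have hd : topologicalKrullDim X ≤ ((2 : ℕ) : WithBot ℕ∞) := hdim.le
  have : B = B.flip := by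
    refine LinearMap.ext_on NumR.span_clR ?_
    rintro _ ⟨L, hL, rfl⟩
    refine LinearMap.ext_on NumR.span_clR ?_
    rintro _ ⟨M, hM, rfl⟩
    rw [LinearMap.flip_apply, hB, hB]
    exact_mod_cast Groth.Agent.Lib.R2H4SurfPos.intNum_swap k 2 hd L M (Coh.structureModule X)
  intro x y
  conv_lhs => rw [this]
  rfl

theorem self_pos (hdim : topologicalKrullDim X = 2)
    (B : NumR.N1R k X →ₗ[ℝ] NumR.N1R k X →ₗ[ℝ] ℝ) (hB : NumR.IsIntForm₂ k X B)
    (H : X.Modules) (hH : CohB1.IsAmple H) (H' : X.Modules) (hH' : CohB1.IsAmple H') :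
    0 < B (NumR.clR k X H hH.1) (NumR.clR k X H' hH'.1) := by
  rw [hB]
  obtain ⟨M₀, hM₀, ⟨e⟩⟩ := Groth.Agent.Lib.R2H1.InvExists.exists_inverse H hH.1
  obtain ⟨M₁, hM₁, ⟨e'⟩⟩ := Groth.Agent.Lib.R2H1.InvExists.exists_inverse H' hH'.1
  rw [← Groth.Agent.Lib.R2H4SurfDual.intNum_inv_inv k hdim H M₀ H' M₁ hH.1 hH'.1 e e']
  have hd2 : topologicalKrullDim X ≤ (2 : ℕ) := by rw [hdim]; rfl
  have h1 := Groth.Agent.Lib.R2H4FGAPos.s3233 k 2 hd2 (r := 2) ![H, H'] ![M₀, M₁]
    (fun i => by fin_cases i; exacts [hH, hH']) (fun i => by fin_cases i; exacts [⟨e⟩, ⟨e'⟩])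
    (Coh.structureModule X) (Groth.Agent.Lib.R2H4BCGlue.isCoh_structureModule X) ?_
  · exact_mod_cast h1
  · have hs : CohB1.support (Coh.structureModule X) = Set.univ := by
      ext x
      simp only [CohB1.support, Set.mem_ofPred_eq, Set.mem_univ, iff_true]
      intro hsub
      haveI := Groth.Agent.Lib.Helper23.UnitStalk.nontrivial_stalk_structureModule (Y := X) x
      exact not_subsingleton _ hsub
    rw [Groth.Agent.Lib.Helper6.OpenDim.topologicalKrullDim_congr_set hs]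
    rw [IsHomeomorph.topologicalKrullDim_eq _ (Homeomorph.Set.univ X).isHomeomorph, hdim]
    rfl

/-- Hodge index on the lattice of integral classes -/
theorem hodge_lattice (hdim : topologicalKrullDim X = 2)
    (B : NumR.N1R k X →ₗ[ℝ] NumR.N1R k X →ₗ[ℝ] ℝ) (hB : NumR.IsIntForm₂ k X B)
    (H : X.Modules) (hH : CohB1.IsAmple H) (n : NumR.N1 k X)
    (hn : B (NumR.toN1R k X n) (NumR.clR k X H hH.1) = 0) :
    B (NumR.toN1R k X n) (NumR.toN1R k X n) ≤ 0 := by
  obtain ⟨M, hM, rfl⟩ := NumR.exists_eq_cl n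
  rw [← NumR.clR_def] at hn ⊢
  rw [hB] at hn ⊢
  have h0 : FGA.intNum k X 2 ![M, H] (Coh.structureModule X) = 0 := by exact_mod_cast hn
  exact_mod_cast Groth.Agent.Lib.R2H4HodgeIdx.hodge_ample k hdim H hH M hM h0

theorem hodge_real (hdim : topologicalKrullDim X = 2)
    (B : NumR.N1R k X →ₗ[ℝ] NumR.N1R k X →ₗ[ℝ] ℝ) (hB : NumR.IsIntForm₂ k X B)
    (H : X.Modules) (hH : CohB1.IsAmple H) (w : NumR.N1R k X)
    (hw : B w (NumR.clR k X H hH.1) = 0) : B w w ≤ 0 := by
  have hsymm := symm k X hdim B hB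
  have hw' : w ∈ Submodule.span ℝ {x : NumR.N1R k X | ∃ (L : X.Modules)
      (hL : PicF.IsInvertible L), x = NumR.clR k X L hL} := by
    rw [NumR.span_clR]; trivial
  obtain ⟨n, f, g, rfl⟩ := Submodule.mem_span_set'.mp hw'
  choose L hL hgL using fun i => (g i).2
  set h := NumR.clR k X H hH.1 with hh
  let a : ℤ := FGA.intNum k X 2 ![H, H] (Coh.structureModule X)
  let b : Fin n → ℤ := fun i => FGA.intNum k X 2 ![L i, H] (Coh.structureModule X)
  let gg : Matrix (Fin n) (Fin n) ℤ := fun i j =>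
    FGA.intNum k X 2 ![L i, L j] (Coh.structureModule X)
  have ha : B h h = (a : ℝ) := hB _ _ _ _
  have hb : ∀ i, B (g i : NumR.N1R k X) h = (b i : ℝ) := fun i => by
    rw [hgL i]; exact hB _ _ _ _
  have hg : ∀ i j, B (g i : NumR.N1R k X) (g j : NumR.N1R k X) = ((gg i j : ℤ) : ℝ) :=
    fun i j => by rw [hgL i, hgL j]; exact hB _ _ _ _
  have hapos : 0 < (a : ℝ) := by
    rw [← ha]; exact self_pos k X hdim B hB H hH H hH
  have hid := qf_identity B hsymm h (fun i => (g i : NumR.N1R k X)) a b gg ha hb hg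
  -- negative semidefinite on integer vectors
  have hint : ∀ c : Fin n → ℤ,
      qf (fun i j => a * a * gg i j - a * b i * b j : Matrix (Fin n) (Fin n) ℤ) c ≤ 0 := by
    intro c
    have h1 := hid (fun i => ((c i : ℤ) : ℝ))
    rw [qf_cast] at h1
    -- the vector `ν` is integral
    let μ : NumR.N1 k X := ∑ i, c i • NumR.cl k X (L i) (hL i)
    have hμ : NumR.toN1R k X μ = ∑ i, ((c i : ℤ) : ℝ) • (g i : NumR.N1R k X) := by
      rw [map_sum]
      refine Finset.sum_congr rfl fun i _ => ?_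
      rw [map_zsmul, hgL i, NumR.clR_def, Int.cast_smul_eq_zsmul]
    have hBμ : ∃ z : ℤ, B (∑ i, ((c i : ℤ) : ℝ) • (g i : NumR.N1R k X)) h = (z : ℝ) := by
      refine ⟨∑ i, c i * b i, ?_⟩
      rw [map_sum, LinearMap.sum_apply]
      push_cast
      refine Finset.sum_congr rfl fun i _ => ?_
      rw [map_smul, LinearMap.smul_apply, hb, smul_eq_mul]
    obtain ⟨z, hz⟩ := hBμ
    let ν : NumR.N1 k X := a • μ - z • NumR.cl k X H hH.1
    have hν : NumR.toN1R k X ν = (a : ℝ) • (∑ i, ((c i : ℤ) : ℝ) • (g i : NumR.N1R k X)) -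
        (B (∑ i, ((c i : ℤ) : ℝ) • (g i : NumR.N1R k X)) h) • h := by
      rw [hz, map_sub, map_zsmul, map_zsmul, hμ, Int.cast_smul_eq_zsmul, Int.cast_smul_eq_zsmul,
        hh, NumR.clR_def]
    have hνh : B (NumR.toN1R k X ν) h = 0 := by
      rw [hν, map_sub, LinearMap.sub_apply, map_smul, LinearMap.smul_apply, map_smul,
        LinearMap.smul_apply, ha, smul_eq_mul, smul_eq_mul]
      ring
    have := hodge_lattice k X hdim B hB H hH ν hνh
    rw [hν, ← h1] at this
    exact_mod_cast this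
  have hreal := real_nonpos' _ hint f
  rw [hid f] at hreal
  -- `ν_f = a • w` since `B w h = 0`
  simp only [hw, zero_smul, sub_zero, map_smul, LinearMap.smul_apply, smul_eq_mul] at hreal
  have h5 : 0 < (a : ℝ) * (a : ℝ) := mul_pos hapos hapos
  by_contra hcon
  push Not at hcon
  have := mul_pos h5 hcon
  linarith

theorem hyp (hdim : topologicalKrullDim X = 2)
    (B : NumR.N1R k X →ₗ[ℝ] NumR.N1R k X →ₗ[ℝ] ℝ) (hB : NumR.IsIntForm₂ k X B)
    (H : X.Modules) (hH : CohB1.IsAmple H) : Hyp B (NumR.clR k X H hH.1) where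
  symm := symm k X hdim B hB
  pos := self_pos k X hdim B hB H hH H hH
  hodge := hodge_real k X hdim B hB H hH

end Groth.Agent.Lib.H9N1RHodge
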