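import Mathlib
import Groth.Prelude
import Groth.Agent.Lib.H9N1RHodge
import Groth.Agent.Lib.H9N1RAmpleAlg
set_option backward.isDefEq.respectTransparency.types false

/-!
# The ample cone of a surface is open and lies in the positive cone (helper9)

* `clR_congr`, `clR_tensor`, `clR_structure`, `clR_inverse`, `clR_tensorPow` : arithmetic of real classes.
* `isOpen_ampleCone` : on any scheme with `N¹(X)_ℝ` finite-dimensional (no surface hypothesis).
* `ampleCone_subset_posCone`.
-/

set_option autoImplicit false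
set_option linter.style.haveILetI false
set_option linter.unusedSectionVars false
universe u
open CategoryTheory CategoryTheory.Limits AlgebraicGeometry TopologicalSpace Opposite

noncomputable section

namespace Groth.Agent.Lib.H9N1RAmple

open Groth.Agent.Lib.H9N1RHodgeAlg Groth.Agent.Lib.H9N1RAmpleAlg

section Classes

variable (k : Type u) [Field k] (X : Scheme.{u}) [X.Over (Spec (CommRingCat.of k))] [PicGrp.Law X]

theorem clR_congr {L L' : X.Modules} (hL : PicF.IsInvertible L) (hL' : PicF.IsInvertible L')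
    (e : L ≅ L') : NumR.clR k X L hL = NumR.clR k X L' hL' := by
  unfold NumR.clR NumR.cl
  rw [(PicGrp.cls_eq_cls_iff hL hL').mpr ⟨e⟩]

theorem clR_tensor {L M : X.Modules} (hL : PicF.IsInvertible L) (hM : PicF.IsInvertible M)
    (hLM : PicF.IsInvertible (CohB1.tensorMod L M)) :
    NumR.clR k X (CohB1.tensorMod L M) hLM = NumR.clR k X L hL + NumR.clR k X M hM := by
  unfold NumR.clR NumR.cl
  rw [← map_add, ← map_add]
  congr 2
  have h1 : PicGrp.cls (CohB1.tensorMod L M) hLM = PicGrp.cls L hL * PicGrp.cls M hM :=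
    Subtype.ext (by rw [PicGrp.cls_mul_cls_val]; rfl)
  rw [h1]
  rfl

theorem clR_structure (hO : PicF.IsInvertible (Coh.structureModule X)) :
    NumR.clR k X (Coh.structureModule X) hO = 0 := by
  unfold NumR.clR NumR.cl
  have h1 : PicGrp.cls (Coh.structureModule X) hO = 1 := PicGrp.cls_structureModule_eq_one
  rw [h1]
  simp

theorem clR_inverse {L L' : X.Modules} (hL : PicF.IsInvertible L) (hL' : PicF.IsInvertible L')
    (e : CohB1.tensorMod L L' ≅ Coh.structureModule X) :
    NumR.clR k X L' hL' = - NumR.clR k X L hL := by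
  have hO : PicF.IsInvertible (Coh.structureModule X) :=
    Groth.Agent.Lib.Helper23.TensorUnit.isInvertible_structureModule X
  have hLL' : PicF.IsInvertible (CohB1.tensorMod L L') :=
    Groth.Agent.Lib.Helper23.SecTw.isInvertible_tensorMod hL hL'
  have h1 := clR_tensor k X hL hL' hLL'
  rw [clR_congr k X hLL' hO e, clR_structure] at h1
  exact (neg_eq_of_add_eq_zero_right h1.symm).symm

theorem clR_tensorPow {L : X.Modules} (hL : PicF.IsInvertible L) (n : ℕ)
    (hLn : PicF.IsInvertible (CohB1.tensorPow L n)) :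
    NumR.clR k X (CohB1.tensorPow L n) hLn = (n : ℝ) • NumR.clR k X L hL := by
  induction n with
  | zero =>
    rw [Nat.cast_zero, zero_smul]
    exact clR_structure k X hLn
  | succ n ih =>
    have hn : PicF.IsInvertible (CohB1.tensorPow L n) :=
      Groth.Agent.Lib.Helper23.SecTw.isInvertible_tensorPow hL n
    have h1 : NumR.clR k X (CohB1.tensorPow L (n + 1)) hLn =
        NumR.clR k X (CohB1.tensorPow L n) hn + NumR.clR k X L hL :=
      clR_tensor k X hn hL hLn
    rw [h1, ih hn]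
    push_cast
    rw [add_smul, one_smul]

end Classes

section Open

variable (k : Type u) [Field k] (X : Scheme.{u}) [X.Over (Spec (CommRingCat.of k))] [PicGrp.Law X]
  [Module.Finite ℝ (NumR.N1R k X)]

/-- moving an ample class a little in an integral direction -/
theorem ample_add_mem (A : X.Modules) (hA : CohB1.IsAmple A) (L : X.Modules)
    (hL : PicF.IsInvertible L) :
    ∃ ε : ℝ, 0 < ε ∧ NumR.clR k X A hA.1 + ε • NumR.clR k X L hL ∈ NumR.ampleCone k X := by
  obtain ⟨N, hN⟩ := Groth.Agent.Lib.R2H4HodgeIdx.exists_ample_twist A hA L hL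
  have hAN : PicF.IsInvertible (CohB1.tensorPow A N) :=
    Groth.Agent.Lib.Helper23.SecTw.isInvertible_tensorPow hA.1 N
  have hLAN : PicF.IsInvertible (CohB1.tensorMod L (CohB1.tensorPow A N)) :=
    Groth.Agent.Lib.Helper23.SecTw.isInvertible_tensorMod hL hAN
  have h1 : NumR.clR k X _ hN.1 =
      ((N : ℝ) + 1) • NumR.clR k X A hA.1 + NumR.clR k X L hL := by
    rw [clR_tensor k X hA.1 hLAN hN.1, clR_tensor k X hL hAN hLAN, clR_tensorPow k X hA.1 N hAN,
      add_smul, one_smul]
    abel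
  have h2 : NumR.clR k X _ hN.1 ∈ NumR.ampleCone k X :=
    ConvexCone.subset_hull ⟨_, hN.1, hN, rfl⟩
  have hpos : (0 : ℝ) < ((N : ℝ) + 1)⁻¹ := by positivity
  refine ⟨((N : ℝ) + 1)⁻¹, hpos, ?_⟩
  have h3 := (NumR.ampleCone k X).smul_mem hpos h2
  rw [h1, smul_add, smul_smul, inv_mul_cancel₀ (by positivity), one_smul] at h3
  exact h3

theorem internal (x : NumR.N1R k X) (hx : x ∈ NumR.ampleCone k X) (L : X.Modules)
    (hL : PicF.IsInvertible L) :
    ∃ ε : ℝ, 0 < ε ∧ x + ε • NumR.clR k X L hL ∈ NumR.ampleCone k X := by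
  -- the set of such `x` is a convex cone containing the ample classes
  let T : ConvexCone ℝ (NumR.N1R k X) :=
    { carrier := {x | x ∈ NumR.ampleCone k X ∧
        ∃ ε : ℝ, 0 < ε ∧ x + ε • NumR.clR k X L hL ∈ NumR.ampleCone k X}
      smul_mem' := by
        rintro c hc x ⟨hx, ε, hε, hxε⟩
        refine ⟨(NumR.ampleCone k X).smul_mem hc hx, c * ε, mul_pos hc hε, ?_⟩
        have := (NumR.ampleCone k X).smul_mem hc hxε
        rwa [smul_add, smul_smul] at this
      add_mem' := by
        rintro x ⟨hx, ε, hε, hxε⟩ y ⟨hy, -⟩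
        refine ⟨(NumR.ampleCone k X).add_mem hx hy, ε, hε, ?_⟩
        have := (NumR.ampleCone k X).add_mem hxε hy
        rwa [add_right_comm] at this }
  have hT : NumR.ampleCone k X ≤ T := by
    refine ConvexCone.hull_min ?_
    rintro _ ⟨A, hA, hAamp, rfl⟩
    exact ⟨ConvexCone.subset_hull ⟨A, hA, hAamp, rfl⟩, ample_add_mem k X A hAamp L hL⟩
  exact (hT hx).2

theorem seg_one {V : Type*} [AddCommGroup V] [Module ℝ V] (K : Set V) (hK : Convex ℝ K) (x d : V)
    (hx : x ∈ K) (ε : ℝ) (hε : 0 < ε) (hp : x + ε • d ∈ K) (τ : ℝ) (h0 : 0 ≤ τ) (hτ : τ ≤ ε) :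
    x + τ • d ∈ K := by
  have h1 : x + τ • d = (1 - τ / ε) • x + (τ / ε) • (x + ε • d) := by
    rw [smul_add, smul_smul, div_mul_cancel₀ _ hε.ne', ← add_assoc, ← add_smul]
    simp
  rw [h1]
  refine hK hx hp ?_ (div_nonneg h0 hε.le) (by ring)
  rw [sub_nonneg, div_le_one hε]
  exact hτ

theorem isOpen_ampleCone [IsIntegral X] :
    IsOpen (NumR.ampleCone k X : Set (NumR.N1R k X)) := by
  refine isOpen_of_convex_of_internal _ (NumR.ampleCone k X).convex
    {x : NumR.N1R k X | ∃ (L : X.Modules) (hL : PicF.IsInvertible L), x = NumR.clR k X L hL}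
    NumR.span_clR ?_
  rintro x hx _ ⟨L, hL, rfl⟩
  obtain ⟨L', hL', ⟨e⟩⟩ := Groth.Agent.Lib.R2H1.InvExists.exists_inverse L hL
  obtain ⟨ε₁, hε₁, h1⟩ := internal k X x hx L hL
  obtain ⟨ε₂, hε₂, h2⟩ := internal k X x hx L' hL'
  rw [clR_inverse k X hL hL' e, smul_neg, ← sub_eq_add_neg] at h2
  -- common `ε`
  have hK := (NumR.ampleCone k X).convex
  refine ⟨min ε₁ ε₂, lt_min hε₁ hε₂, ?_, ?_⟩
  · exact seg_one _ hK x _ hx ε₁ hε₁ h1 _ (lt_min hε₁ hε₂).le (min_le_left _ _)
  · have h3 : x + ε₂ • (-NumR.clR k X L hL) ∈ NumR.ampleCone k X := by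
      rw [smul_neg, ← sub_eq_add_neg]; exact h2
    have h4 := seg_one _ hK x _ hx ε₂ hε₂ h3 _ (lt_min hε₁ hε₂).le (min_le_right _ _)
    rwa [smul_neg, ← sub_eq_add_neg] at h4

end Open

section Pos

variable (k : Type u) [Field k] (X : Scheme.{u}) [X.Over (Spec (CommRingCat.of k))]
  [IsProper (X ↘ (Spec (CommRingCat.of k)))] [AlgebraicGeometry.IsIntegral X] [PicGrp.Law X]
  [Module.Finite ℝ (NumR.N1R k X)]

theorem ampleCone_subset_posCone (hdim : topologicalKrullDim X = 2)
    (B : NumR.N1R k X →ₗ[ℝ] NumR.N1R k X →ₗ[ℝ] ℝ) (hB : NumR.IsIntForm₂ k X B)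
    (H : X.Modules) (hH : CohB1.IsAmple H) :
    (NumR.ampleCone k X : Set (NumR.N1R k X)) ⊆ NumR.posCone k X B H hH.1 := by
  have hyp := Groth.Agent.Lib.H9N1RHodge.hyp k X hdim B hB H hH
  let C : ConvexCone ℝ (NumR.N1R k X) :=
    { carrier := NumR.posCone k X B H hH.1
      smul_mem' := by
        rintro c hc x ⟨hx1, hx2⟩
        refine ⟨?_, ?_⟩
        · simp only [map_smul, LinearMap.smul_apply, smul_eq_mul]
          positivity
        · simp only [map_smul, LinearMap.smul_apply, smul_eq_mul]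
          positivity
      add_mem' := by
        rintro x ⟨hx1, hx2⟩ y ⟨hy1, hy2⟩
        have hxy := hyp.pos_of x y hx1 hx2 hy1.le hy2
        refine ⟨?_, ?_⟩
        · simp only [map_add, LinearMap.add_apply]
          rw [hyp.symm y x]
          linarith
        · rw [map_add, LinearMap.add_apply]
          linarith }
  have hC : NumR.ampleCone k X ≤ C := by
    refine ConvexCone.hull_min ?_
    rintro _ ⟨A, hA, hAamp, rfl⟩
    exact ⟨Groth.Agent.Lib.H9N1RHodge.self_pos k X hdim B hB A hAamp A hAamp,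
      Groth.Agent.Lib.H9N1RHodge.self_pos k X hdim B hB A hAamp H hH⟩
  exact hC

end Pos

end Groth.Agent.Lib.H9N1RAmple
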