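import Mathlib
import Groth.Prelude
import Groth.Agent.Lib.R2H4CMSurf
import Groth.Agent.Lib.R2H4HilbCoef
import Groth.Agent.Lib.R2H4FibTrivB
import Groth.Agent.Lib.Helper8EffCart
import Groth.Agent.Lib.Helper8AB
import Groth.Agent.Lib.R2H1HypIdeal
import Groth.Agent.Lib.R2H1DegTensor
import Groth.Agent.Lib.R2H1BirDeg
import Groth.Agent.Lib.R2H1GenusZeroPic
import Groth.Agent.Lib.R2H1CurveAmple
import Groth.Agent.Lib.R2H1VBSub
import Groth.Agent.Lib.Helper5MiracleSch
import Groth.Agent.Lib.Helper4DimFormulaAN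
import Groth.Agent.Lib.Helper23PB
import Groth.Agent.Lib.Helper23RestrTensor

set_option autoImplicit false
set_option linter.style.haveILetI false
universe u

/-!
# An integral curve on a smooth projective surface: `(O(C) · L) = deg (L|_C)` (helper4, round 2)

Namespace `Groth.Agent.Lib.R2H4CurveOnSurf`.

* `ringKrullDim_stalk_image_generic` : the generic point of an integral closed curve in an integral
  surface of finite type over a field has a local ring of dimension one;
* `isEffCartier_ker` : an integral closed curve in a smooth integral surface over a field is an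
  effective Cartier divisor (the local rings are regular, hence factorial);
* `pushIso` : `O_S / I_C ≅ i_* O_C` for a closed immersion `i : C → S`;
* `main` : `(I_C · L' ; O_S) = deg (i^* L)` for `L ⊗ L' ≅ O_S`.
-/

open CategoryTheory CategoryTheory.Limits AlgebraicGeometry TopologicalSpace

noncomputable section

namespace Groth.Agent.Lib.R2H4CurveOnSurf

section Dim

open Groth.Agent.Lib.Helper4.DimFormula

theorem equidim_of_irreducible {T : Type*} [TopologicalSpace T] [IrreducibleSpace T]
    (e : WithBot ℕ∞) (h : topologicalKrullDim T = e) :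
    ∀ Z ∈ irreducibleComponents T, topologicalKrullDim Z = e := by
  intro Z hZ
  rw [irreducibleComponents_eq_singleton, Set.mem_singleton_iff] at hZ
  subst hZ
  rw [← h]
  exact IsHomeomorph.topologicalKrullDim_eq _ (Homeomorph.Set.univ T).isHomeomorph

theorem ringKrullDim_stalk_image_generic (k : Type u) [Field k] {S Z : Scheme.{u}}
    (p : S ⟶ Spec (CommRingCat.of k)) [LocallyOfFiniteType p] [IsIntegral S]
    (hS : topologicalKrullDim S = 2) (ι : Z ⟶ S) [IsClosedImmersion ι] [IsIntegral Z]
    (hZ : topologicalKrullDim Z = 1) :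
    ringKrullDim (S.presheaf.stalk (ι (genericPoint Z))) = 1 := by
  have h1 := Groth.Agent.Lib.Helper5.MiracleSch.stalk_add_ptTrdeg_of_equidim k p 2
    (equidim_of_irreducible _ (by rw [hS]; rfl)) (ι (genericPoint Z))
  have h2 := Groth.Agent.Lib.Helper5.MiracleSch.stalk_add_ptTrdeg_of_equidim k (ι ≫ p) 1
    (equidim_of_irreducible _ (by rw [hZ]; rfl)) (genericPoint Z)
  have h3 := Groth.Agent.Lib.Helper4.DimFormula.ptTrdeg_comp_of_isPreimmersion ι p (genericPoint Z)
  have h4 : ringKrullDim (Z.presheaf.stalk (genericPoint Z)) = 0 :=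
    ringKrullDim_eq_zero_of_field Z.functionField
  rw [h4, h3, zero_add] at h2
  have h5 : ptTrdeg p (ι (genericPoint Z)) = 1 := by exact_mod_cast h2
  rw [h5] at h1
  generalize ringKrullDim (S.presheaf.stalk (ι (genericPoint Z))) = d at h1 ⊢
  induction d using WithBot.recBotCoe with
  | bot => simp at h1
  | coe c =>
    induction c using ENat.recTopCoe with
    | top =>
      exfalso
      have h6 : ((⊤ : ℕ∞) : WithBot ℕ∞) + (((1 : ℕ) : ℕ∞) : WithBot ℕ∞) =
          (((2 : ℕ) : ℕ∞) : WithBot ℕ∞) := h1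
      rw [← WithBot.coe_add] at h6
      have h7 : (⊤ : ℕ∞) + ((1 : ℕ) : ℕ∞) = ((2 : ℕ) : ℕ∞) := WithBot.coe_injective h6
      simp at h7
    | coe n =>
      have h6 : (((n : ℕ) : ℕ∞) : WithBot ℕ∞) + (((1 : ℕ) : ℕ∞) : WithBot ℕ∞) =
          (((2 : ℕ) : ℕ∞) : WithBot ℕ∞) := h1
      rw [← WithBot.coe_add] at h6
      have h7 : ((n : ℕ) : ℕ∞) + ((1 : ℕ) : ℕ∞) = ((2 : ℕ) : ℕ∞) := WithBot.coe_injective h6
      have h8 : n + 1 = 2 := by exact_mod_cast h7
      have h9 : n = 1 := by omega
      subst h9
      rfl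

end Dim

section Cartier

variable (k : Type u) [Field k] {S C : Scheme.{u}} [S.Over (Spec (CommRingCat.of k))]

theorem isEffCartier_ker [IsIntegral S] [Smooth (S ↘ Spec (CommRingCat.of k))]
    (hS : topologicalKrullDim S = 2) (i : C ⟶ S) [IsClosedImmersion i] [IsIntegral C]
    (hC : topologicalKrullDim C = 1) : BlowUp.IsEffCartierIdeal i.ker := by
  haveI : IsLocallyNoetherian S :=
    LocallyOfFiniteType.isLocallyNoetherian (S ↘ Spec (CommRingCat.of k))
  haveI : IsIso i.toImage := inferInstance
  haveI : IsIntegral i.ker.subscheme := IsIntegral.of_isIso i.toImage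
  have hZ : topologicalKrullDim i.ker.subscheme = 1 := by
    rw [← hC]
    exact (IsHomeomorph.topologicalKrullDim_eq _
      (Scheme.homeoOfIso (asIso i.toImage)).isHomeomorph).symm
  refine Groth.Agent.Lib.Helper8.EffCart.isEffCartier_of_integral_codim_one_ufd i.ker ?_ ?_
  · exact ringKrullDim_stalk_image_generic k (S ↘ Spec (CommRingCat.of k)) hS i.ker.subschemeι hZ
  · intro x _
    haveI := Groth.Agent.Lib.Helper6.SmRegSch.isRegularLocalRing_stalk_of_smooth_over_field k S
      (S ↘ Spec (CommRingCat.of k)) x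
    exact ⟨inferInstance, Groth.Agent.Lib.Helper8.AB.ufd_of_isRegularLocalRing _⟩

end Cartier

section Push

variable {S C : Scheme.{u}} (i : C ⟶ S) [IsClosedImmersion i]

/-- `O_S / I_C ≅ i_* O_C` for a closed immersion -/
def pushIso : ClSub.quotMod i.ker ≅ (Scheme.Modules.pushforward i).obj (Coh.structureModule C) :=
  haveI : IsIso i.toImage := inferInstance
  haveI := Groth.Agent.Lib.R2H1.HypIdeal.isIso_unitToPush i.toImage
  (Scheme.Modules.pushforward i.ker.subschemeι).mapIso (asIso (ClSub.unitToPush i.toImage)) ≪≫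
    (Scheme.Modules.pushforwardComp i.toImage i.ker.subschemeι).app _ ≪≫
    (Scheme.Modules.pushforwardCongr i.toImage_imageι).app _

end Push

section Main

open Groth.Agent.Lib.R2H4TensorPows Groth.Agent.Lib.R2H4FGAAdd Groth.Agent.Lib.R2H4Quo
  Groth.Agent.Lib.R2H4SerreSupp
  Groth.Agent.Lib.R2H4CMSurf Groth.Agent.Lib.R2H1.DegCartier

variable (k : Type u) [Field k] (S : Scheme.{u}) [S.Over (Spec (CommRingCat.of k))]
  [IsProper (S ↘ Spec (CommRingCat.of k))]

/-- **S13459**: `(O(C) · L) = deg (L|_C)` for an integral curve `C` on a smooth integral proper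
surface `S` over a field. -/
theorem main [IsIntegral S] (hdim : topologicalKrullDim S = 2)
    [Smooth (S ↘ (Spec (CommRingCat.of k)))]
    (C : Scheme.{u}) (i : C ⟶ S) [IsClosedImmersion i] [IsIntegral C]
    (hC : topologicalKrullDim C = 1)
    (L L' : S.Modules) (hL : PicF.IsInvertible L)
    (hLL' : Nonempty (CohB1.tensorMod L L' ≅ Coh.structureModule S)) :
    letI : C.Over (Spec (CommRingCat.of k)) := ⟨i ≫ (S ↘ (Spec (CommRingCat.of k)))⟩
    FGA.intNum k S 2 ![ClSub.idealMod i.ker, L'] (Coh.structureModule S) =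
      Curv2.deg k C ((Scheme.Modules.pullback i).obj L) 1 := by
  letI : C.Over (Spec (CommRingCat.of k)) := ⟨i ≫ (S ↘ (Spec (CommRingCat.of k)))⟩
  haveI : IsProper (C ↘ Spec (CommRingCat.of k)) :=
    inferInstanceAs (IsProper (i ≫ (S ↘ Spec (CommRingCat.of k))))
  haveI : IsNoetherian S := Groth.Agent.Lib.R2H1.CurveEuler.isNoetherian_of_proper k S
  obtain ⟨e₀⟩ := hLL'
  have hL' : PicF.IsInvertible L' := Groth.Agent.Lib.R2H4FibTriv.isInvertible_of_inverse L L' hL e₀
  have hd : topologicalKrullDim S ≤ ((2 : ℕ) : WithBot ℕ∞) := hdim.le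
  have cO : Coh.IsCoh (Coh.structureModule S) :=
    Groth.Agent.Lib.R2H4BCGlue.isCoh_structureModule S
  have cOC : Coh.IsCoh (Coh.structureModule C) :=
    Groth.Agent.Lib.R2H4BCGlue.isCoh_structureModule C
  have hD := isEffCartier_ker k hdim i hC
  set Q := quo i.ker (Coh.structureModule S) with hQ
  -- step 1 : peel off the Cartier divisor
  have e1 : FGA.intNum k S 2 ![ClSub.idealMod i.ker, L'] (Coh.structureModule S) =
      FGA.intNum k S 2 (Fin.cons L' (Fin.elim0 : Fin 0 → S.Modules) : Fin 1 → S.Modules) Q := by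
    have := intNum_cons_cartier k 2 hd
      (Fin.cons L' (Fin.elim0 : Fin 0 → S.Modules) : Fin 1 → S.Modules)
      (fun j => by
        have hj : j = 0 := Fin.ext (by have := j.2; omega)
        subst hj
        exact hL')
      i.ker hD (Coh.structureModule S) cO (fun x hx => not_isAssPoint_structure i.ker hD x hx)
    exact this
  -- step 2 : Euler characteristics on `S`
  have e2 := intNum_cons k 2 hd (Fin.elim0 : Fin 0 → S.Modules) L' Q
  have e3 := Groth.Agent.Lib.R2H4FGANewton.intNum_zero k 2 hd (Fin.elim0 : Fin 0 → S.Modules) Q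
  have e4 := Groth.Agent.Lib.R2H4FGANewton.intNum_zero k 2 hd (Fin.elim0 : Fin 0 → S.Modules)
    (CohB1.tensorMod Q L')
  rw [Groth.Agent.Lib.R2H4GVSch.eulerCharLE_eq_euler k S 2 hd] at e3 e4
  -- step 3 : transfer to `C`
  let qI : Q ≅ (Scheme.Modules.pushforward i).obj (Coh.structureModule C) :=
    quoStructureIso i.ker ≪≫ pushIso i
  have e5 : Curv2.euler k S Q = Curv2.euler k C (Coh.structureModule C) := by
    rw [euler_congr k qI]
    exact (Groth.Agent.Lib.R2H1.BirDeg.euler_push k i rfl (Coh.structureModule C) cOC.1).symm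
  have e6 : Curv2.euler k S (CohB1.tensorMod Q L') =
      Curv2.euler k C ((Scheme.Modules.pullback i).obj L') := by
    rw [euler_congr k (tIso qI (Iso.refl L') ≪≫ tComm _ _),
      Groth.Agent.Lib.R2H1.DegTensor.euler_tensor_push k i rfl L'
        (Groth.Agent.Lib.Helper23.SecTw.isFinLocFreeOfRank_one_of_isInvertible L' hL')
        (Coh.structureModule C) cOC]
    exact euler_congr k (rUnit _)
  -- step 4 : degrees on `C`
  have hiL := Groth.Agent.Lib.Helper23.PB.isInvertible_pullback i L hL
  have hiL' := Groth.Agent.Lib.Helper23.PB.isInvertible_pullback i L' hL'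
  have e7 := Groth.Agent.Lib.R2H1.GenusZeroPic.deg_tensor k C hC _ _ hiL hiL'
  have e8 : Curv2.deg k C (CohB1.tensorMod ((Scheme.Modules.pullback i).obj L)
      ((Scheme.Modules.pullback i).obj L')) 1 = 0 := by
    rw [Groth.Agent.Lib.R2H1.CurveAmple.deg_congr k C
      ((Groth.Agent.Lib.Helper23.RestrTensor.pullbackTensorIso L L' i).symm ≪≫
        (Scheme.Modules.pullback i).mapIso e₀ ≪≫ Groth.Agent.Lib.Helper23.PB.pullbackUnitIso i) 1]
    unfold Curv2.deg
    ring
  have e9 : (FGA.intNum k S 2 ![ClSub.idealMod i.ker, L'] (Coh.structureModule S) : ℚ) =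
      (Curv2.deg k C ((Scheme.Modules.pullback i).obj L) 1 : ℤ) := by
    rw [e1, e2, e3, e4, e5, e6]
    have h10 : Curv2.deg k C ((Scheme.Modules.pullback i).obj L) 1 =
        - Curv2.deg k C ((Scheme.Modules.pullback i).obj L') 1 := by linarith
    rw [h10]
    unfold Curv2.deg
    push_cast
    ring
  exact_mod_cast e9

end Main

end Groth.Agent.Lib.R2H4CurveOnSurf
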