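import Mathlib
import Groth.Prelude
import Groth.Agent.Lib.H9N1RAmple
import Groth.Agent.Lib.R2H4CurveOnSurf
import Groth.Agent.Lib.Helper18Cart1
import Groth.Agent.Lib.R2H4GVSch
set_option backward.isDefEq.respectTransparency.types false

/-!
# The intersection form on `N¹(X)_ℝ` of a smooth projective surface is nondegenerate (helper9)

* `cl_eq_zero_of_orth` : an invertible module whose real class is orthogonal to everything is
  numerically trivial (uses helper4's `(O(-C)·L⁻¹) = deg L|_C`).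
* `nondeg` : nondegeneracy over `ℝ` (descent of the radical to `ℚ` via a `ℚ`-basis of the
  coefficients).
-/

set_option autoImplicit false
set_option linter.style.haveILetI false
set_option linter.unusedSectionVars false
universe u
open CategoryTheory CategoryTheory.Limits AlgebraicGeometry TopologicalSpace Opposite

noncomputable section

namespace Groth.Agent.Lib.H9N1RNondeg

open Groth.Agent.Lib.H9N1RAmple

variable (k : Type u) [Field k] (X : Scheme.{u}) [X.Over (Spec (CommRingCat.of k))]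
  [IsProper (X ↘ (Spec (CommRingCat.of k)))] [Smooth (X ↘ (Spec (CommRingCat.of k)))]
  [AlgebraicGeometry.IsIntegral X] [PicGrp.Law X]

theorem cl_eq_zero_of_orth (hdim : topologicalKrullDim X = 2)
    (B : NumR.N1R k X →ₗ[ℝ] NumR.N1R k X →ₗ[ℝ] ℝ) (hB : NumR.IsIntForm₂ k X B)
    (M : X.Modules) (hM : PicF.IsInvertible M)
    (h : ∀ z, B (NumR.clR k X M hM) z = 0) : NumR.cl k X M hM = 0 := by
  have hd : topologicalKrullDim X ≤ ((2 : ℕ) : WithBot ℕ∞) := hdim.le
  refine NumR.cl_eq_zero hM ?_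
  intro Y i _ hYint hYdim
  haveI := hYint
  obtain ⟨M', hM', ⟨e⟩⟩ := Groth.Agent.Lib.R2H1.InvExists.exists_inverse M hM
  have hI : PicF.IsInvertible (ClSub.idealMod i.ker) :=
    Groth.Agent.Helper18Cart.isInvertible_of_isEffCartier _
      (Groth.Agent.Lib.R2H4CurveOnSurf.isEffCartier_ker k hdim i hYdim)
  have h1 := Groth.Agent.Lib.R2H4CurveOnSurf.main k X hdim Y i hYdim M M' hM ⟨e⟩
  have h2 : FGA.intNum k X 2 ![ClSub.idealMod i.ker, M'] (Coh.structureModule X) = 0 := by
    have h3 : B (NumR.clR k X M' hM') (NumR.clR k X (ClSub.idealMod i.ker) hI) = 0 := by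
      rw [clR_inverse k X hM hM' e, map_neg, LinearMap.neg_apply, h, neg_zero]
    rw [hB] at h3
    have h4 := Groth.Agent.Lib.R2H4SurfPos.intNum_swap k 2 hd M' (ClSub.idealMod i.ker)
      (Coh.structureModule X)
    have h5 : FGA.intNum k X 2 ![M', ClSub.idealMod i.ker] (Coh.structureModule X) = 0 := by
      exact_mod_cast h3
    exact h4.symm.trans h5
  unfold Pic13.curveDeg
  letI : Y.Over (Spec (CommRingCat.of k)) := ⟨i ≫ (X ↘ (Spec (CommRingCat.of k)))⟩
  haveI : IsProper (Y ↘ Spec (CommRingCat.of k)) :=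
    inferInstanceAs (IsProper (i ≫ (X ↘ Spec (CommRingCat.of k))))
  have hd1 : topologicalKrullDim Y ≤ ((1 : ℕ) : WithBot ℕ∞) := hYdim.le
  have e1 := Groth.Agent.Lib.R2H4GVSch.eulerCharLE_eq_euler k Y 1 hd1
    ((Scheme.Modules.pullback i).obj M)
  have e2 := Groth.Agent.Lib.R2H4GVSch.eulerCharLE_eq_euler k Y 1 hd1 (Coh.structureModule Y)
  have h6 : Curv2.deg k Y ((Scheme.Modules.pullback i).obj M) 1 = 0 := by
    rw [← h2]; exact h1.symm
  unfold Curv2.deg at h6
  rw [e1, e2]
  simpa using h6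

variable [Module.Finite ℝ (NumR.N1R k X)]

theorem exists_int (B : NumR.N1R k X →ₗ[ℝ] NumR.N1R k X →ₗ[ℝ] ℝ) (hB : NumR.IsIntForm₂ k X B)
    (a b : NumR.N1 k X) : ∃ t : ℤ, B (NumR.toN1R k X a) (NumR.toN1R k X b) = (t : ℝ) := by
  obtain ⟨L, hL, rfl⟩ := NumR.exists_eq_cl a
  obtain ⟨M, hM, rfl⟩ := NumR.exists_eq_cl b
  exact ⟨_, hB L M hL hM⟩

theorem nondeg (hdim : topologicalKrullDim X = 2)
    (B : NumR.N1R k X →ₗ[ℝ] NumR.N1R k X →ₗ[ℝ] ℝ) (hB : NumR.IsIntForm₂ k X B)
    (y : NumR.N1R k X) (h : ∀ z, B y z = 0) : y = 0 := by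
  classical
  have hy' : y ∈ Submodule.span ℝ {x : NumR.N1R k X | ∃ (L : X.Modules)
      (hL : PicF.IsInvertible L), x = NumR.clR k X L hL} := by
    rw [NumR.span_clR]; trivial
  obtain ⟨n, f, g, rfl⟩ := Submodule.mem_span_set'.mp hy'
  choose L hL hgL using fun i => (g i).2
  let m : Fin n → NumR.N1 k X := fun i => NumR.cl k X (L i) (hL i)
  have hgm : ∀ i, (g i : NumR.N1R k X) = NumR.toN1R k X (m i) := fun i => hgL i
  -- a `ℚ`-basis of the span of the coefficients
  let S : Submodule ℚ ℝ := Submodule.span ℚ (Set.range f)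
  haveI : FiniteDimensional ℚ S := FiniteDimensional.span_of_finite ℚ (Set.finite_range f)
  let bS := Module.finBasis ℚ S
  let s : Fin n → S := fun i => ⟨f i, Submodule.subset_span ⟨i, rfl⟩⟩
  let q : Fin n → Fin (Module.finrank ℚ S) → ℚ := fun i j => bS.repr (s i) j
  have hf : ∀ i, f i = ∑ j, (q i j : ℝ) * ((bS j : S) : ℝ) := by
    intro i
    have h1 := bS.sum_repr (s i)
    have h2 := congrArg (Subtype.val) h1
    rw [Submodule.coe_sum] at h2
    change _ = f i at h2
    rw [← h2]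
    refine Finset.sum_congr rfl fun j _ => ?_
    rw [Submodule.coe_smul, Rat.smul_def]
  -- common denominator
  obtain ⟨N, hN⟩ := IsLocalization.exist_integer_multiples (nonZeroDivisors ℤ)
    (Finset.univ : Finset (Fin n × Fin (Module.finrank ℚ S))) (fun p => q p.1 p.2)
  choose c hc using fun p => hN p (Finset.mem_univ p)
  have hN0 : ((N : ℤ) : ℝ) ≠ 0 := by
    have := nonZeroDivisors.ne_zero N.2
    exact_mod_cast this
  have hc' : ∀ i j, ((c (i, j) : ℤ) : ℝ) = ((N : ℤ) : ℝ) * (q i j : ℝ) := by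
    intro i j
    have := hc (i, j)
    rw [Algebra.smul_def] at this
    have h2 : ((algebraMap ℤ ℚ (c (i, j)) : ℚ) : ℝ) =
        (((algebraMap ℤ ℚ (N : ℤ)) * q i j : ℚ) : ℝ) := by rw [this]
    simpa using h2
  let μ : Fin (Module.finrank ℚ S) → NumR.N1 k X := fun j => ∑ i, c (i, j) • m i
  have hμ : ∀ j, NumR.toN1R k X (μ j) = ∑ i, ((c (i, j) : ℤ) : ℝ) • (g i : NumR.N1R k X) := by
    intro j
    rw [map_sum]
    refine Finset.sum_congr rfl fun i _ => ?_
    rw [map_zsmul, hgm i, Int.cast_smul_eq_zsmul]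
  have key : ((N : ℤ) : ℝ) • (∑ i, f i • (g i : NumR.N1R k X)) =
      ∑ j, ((bS j : S) : ℝ) • NumR.toN1R k X (μ j) := by
    simp_rw [hμ, Finset.smul_sum, smul_smul]
    rw [Finset.sum_comm]
    refine Finset.sum_congr rfl fun i _ => ?_
    rw [← Finset.sum_smul]
    congr 1
    rw [hf i, Finset.mul_sum]
    refine Finset.sum_congr rfl fun j _ => ?_
    rw [hc' i j]
    ring
  -- each `μ j` is orthogonal to the lattice
  have horth : ∀ j (ζ : NumR.N1 k X), B (NumR.toN1R k X (μ j)) (NumR.toN1R k X ζ) = 0 := by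
    intro j₀ ζ
    choose t ht using fun j => exists_int k X B hB (μ j) ζ
    have h1 : B (((N : ℤ) : ℝ) • (∑ i, f i • (g i : NumR.N1R k X))) (NumR.toN1R k X ζ) = 0 := by
      rw [map_smul, LinearMap.smul_apply, h, smul_zero]
    rw [key, map_sum, LinearMap.sum_apply] at h1
    have h2 : ∑ j, ((t j : ℤ) : ℚ) • bS j = 0 := by
      apply Subtype.ext
      rw [Submodule.coe_sum]
      change _ = (0 : ℝ)
      rw [← h1]
      refine Finset.sum_congr rfl fun j _ => ?_
      rw [Submodule.coe_smul, Rat.smul_def, map_smul, LinearMap.smul_apply, ht j, smul_eq_mul]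
      push_cast
      ring
    have h3 := Fintype.linearIndependent_iff.mp bS.linearIndependent _ h2 j₀
    rw [ht j₀]
    exact_mod_cast h3
  have hzero : ∀ j, μ j = 0 := by
    intro j
    obtain ⟨Mj, hMj, hj⟩ := NumR.exists_eq_cl (μ j)
    rw [hj]
    refine cl_eq_zero_of_orth k X hdim B hB Mj hMj ?_
    have h0 : B (NumR.clR k X Mj hMj) = 0 := by
      refine LinearMap.ext_on NumR.span_clR ?_
      rintro _ ⟨Z, hZ, rfl⟩
      rw [NumR.clR_def, ← hj, NumR.clR_def]
      exact horth j _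
    intro z
    rw [h0]; rfl
  have hfin : ((N : ℤ) : ℝ) • (∑ i, f i • (g i : NumR.N1R k X)) = 0 := by
    rw [key]
    refine Finset.sum_eq_zero fun j _ => ?_
    rw [hzero j, map_zero, smul_zero]
  exact (smul_eq_zero.mp hfin).resolve_left hN0

end Groth.Agent.Lib.H9N1RNondeg
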