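/-
helper9: algebra for the Néron model of a finite étale group over the fraction field of a Dedekind
domain: finiteness of the integral closure in a finite étale algebra, the étale algebra as a
localization of that integral closure, and integral closedness of normal rings in localizations
at non-zero-divisors.
-/
import Mathlib
import Groth.Agent.Lib.Helper4TotalFracFin

set_option autoImplicit false
set_option linter.style.haveILetI false
universe u

open scoped nonZeroDivisors

namespace Groth.Agent.Lib.H9NeronDedAlg

/-- The integral closure of an integrally closed Noetherian domain in a finite étale algebra over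
its fraction field is a finite module. -/
theorem finite_integralClosure_of_etale (A K L : Type u) [CommRing A] [IsDomain A]
    [IsIntegrallyClosed A] [IsNoetherianRing A] [Field K] [Algebra A K] [IsFractionRing A K]
    [CommRing L] [Algebra K L] [Algebra A L] [IsScalarTower A K L] [Algebra.Etale K L] :
    Module.Finite A (integralClosure A L) := by
  classical
  obtain ⟨I, hI, Ai, hF, hAlg, e, he⟩ :=
    (Algebra.Etale.iff_exists_algEquiv_prod (K := K) (A := L)).mp inferInstance
  letI : ∀ i, Algebra A (Ai i) := fun i => ((algebraMap K (Ai i)).comp (algebraMap A K)).toAlgebra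
  haveI : ∀ i, IsScalarTower A K (Ai i) := fun i => IsScalarTower.of_algebraMap_eq (fun _ => rfl)
  haveI : ∀ i, Module.Finite A (integralClosure A (Ai i)) := fun i => by
    haveI := (he i).1
    haveI := (he i).2
    exact IsIntegralClosure.finite A K (Ai i) (integralClosure A (Ai i))
  let φ : ∀ i, L →ₐ[A] Ai i := fun i =>
    ((Pi.evalAlgHom K Ai i).comp e.toAlgHom).restrictScalars A
  let Φ : integralClosure A L →ₗ[A] (∀ i, integralClosure A (Ai i)) :=
    LinearMap.pi fun i =>
      ((φ i).toLinearMap.comp (integralClosure A L).val.toLinearMap).codRestrict
        (Subalgebra.toSubmodule (integralClosure A (Ai i))) (fun x => by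
          change IsIntegral A (φ i x.1)
          exact x.2.map (φ i))
  have hΦ : Function.Injective Φ := by
    intro x y hxy
    apply Subtype.ext
    apply e.injective
    funext i
    have := congrArg (fun t => (t i : Ai i)) hxy
    exact this
  haveI : Finite I := hI
  exact Module.Finite.of_injective Φ hΦ

/-- An algebra integral over the fraction field `K` of a domain `A` is the localization of the
integral closure of `A` in it at the nonzero elements of `A`. -/
theorem isLocalization_integralClosure (A K L : Type*) [CommRing A] [IsDomain A] [Field K]
    [Algebra A K] [IsFractionRing A K] [CommRing L] [Algebra K L] [Algebra A L]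
    [IsScalarTower A K L] [Algebra.IsIntegral K L] :
    IsLocalization (Algebra.algebraMapSubmonoid (integralClosure A L) A⁰) L := by
  refine ⟨?_, fun z => ?_, fun {x y} h => ⟨1, ?_⟩⟩
  · rintro ⟨_, a, ha, rfl⟩
    have h1 : IsUnit (algebraMap A K a) := IsLocalization.map_units K ⟨a, ha⟩
    have h2 : algebraMap (integralClosure A L) L (algebraMap A (integralClosure A L) a) =
        algebraMap K L (algebraMap A K a) := by
      rw [← IsScalarTower.algebraMap_apply, ← IsScalarTower.algebraMap_apply]
    change IsUnit (algebraMap (integralClosure A L) L (algebraMap A (integralClosure A L) a))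
    rw [h2]
    exact h1.map _
  · obtain ⟨m, hm⟩ := IsIntegral.exists_multiple_integral_of_isLocalization A⁰ z
      (Algebra.IsIntegral.isIntegral (R := K) z)
    refine ⟨⟨⟨m • z, hm⟩, ⟨algebraMap A (integralClosure A L) m, m, m.2, rfl⟩⟩, ?_⟩
    change z * algebraMap (integralClosure A L) L (algebraMap A (integralClosure A L) m) = m • z
    rw [← IsScalarTower.algebraMap_apply, Submonoid.smul_def, Algebra.smul_def, mul_comm]
  · have : x = y := Subtype.ext h
    rw [this]

/-- A ring all of whose localizations at maximal ideals are integrally closed domains is
integrally closed in any localization at non-zero-divisors. -/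
theorem mem_range_of_isIntegral_of_isLocalization {A B : Type*} [CommRing A] [CommRing B]
    [Algebra A B] (M : Submonoid A) [IsLocalization M B] (hM : M ≤ A⁰)
    (h : ∀ (m : Ideal A) [m.IsMaximal],
      IsDomain (Localization.AtPrime m) ∧ IsIntegrallyClosed (Localization.AtPrime m))
    (b : B) (hb : IsIntegral A b) : b ∈ Set.range (algebraMap A B) := by
  let Q := FractionRing A
  have hic : IsIntegrallyClosedIn A Q :=
    Groth.Agent.Lib.Helper4.TotalFracFin.isIntegrallyClosedIn_of_forall_localization Q h
  have hg : ∀ y : M, IsUnit (algebraMap A Q y) := fun y =>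
    IsLocalization.map_units Q (⟨y.1, hM y.2⟩ : A⁰)
  let ψ : B →+* Q := IsLocalization.lift hg
  have hψ : ∀ a : A, ψ (algebraMap A B a) = algebraMap A Q a := fun a => IsLocalization.lift_eq hg a
  have hψinj : Function.Injective ψ := by
    rw [IsLocalization.lift_injective_iff]
    intro x y
    constructor
    · intro hxy
      rw [← hψ, ← hψ, hxy]
    · intro hxy
      rw [IsFractionRing.injective A Q hxy]
  have hψb : IsIntegral A (ψ b) := by
    obtain ⟨p, hp, hpb⟩ := hb
    refine ⟨p, hp, ?_⟩
    have : (algebraMap A Q) = ψ.comp (algebraMap A B) := by
      ext a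
      exact (hψ a).symm
    rw [this, ← Polynomial.hom_eval₂, hpb, map_zero]
  obtain ⟨a, ha⟩ := IsIntegrallyClosedIn.isIntegral_iff.mp hψb
  refine ⟨a, ?_⟩
  apply hψinj
  rw [hψ, ha]

/-- A finite étale algebra over the fraction field of `A` is formally smooth over `A`. -/
theorem formallySmooth_of_etale (A K L : Type*) [CommRing A] [IsDomain A] [Field K]
    [Algebra A K] [IsFractionRing A K] [CommRing L] [Algebra K L] [Algebra A L]
    [IsScalarTower A K L] [Algebra.FormallySmooth K L] : Algebra.FormallySmooth A L := by
  haveI : Algebra.FormallySmooth A K := Algebra.FormallySmooth.of_isLocalization A⁰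
  exact Algebra.FormallySmooth.comp A K L

end Groth.Agent.Lib.H9NeronDedAlg
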