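/-
helper9: for a normal scheme `Z` flat over a domain `R`, the relative normalization of `Z` in its
generic fibre `Z_K` is `Z` itself; sections of integral morphisms defined over the generic fibre
extend.
-/
import Mathlib
import Groth.Prelude.Def_Pi1
import Groth.Prelude.Def_Neron
import Groth.Agent.Lib.H9NeronDedAlg

set_option autoImplicit false
set_option linter.style.haveILetI false
universe u

open CategoryTheory CategoryTheory.Limits AlgebraicGeometry TopologicalSpace
open scoped nonZeroDivisors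

namespace Groth.Agent.Lib.H9NeronDedExt

/-- `A → Γ(X, W)` induced by `f : X ⟶ Spec A`. -/
noncomputable def secHom {A : Type u} [CommRing A] {X : Scheme.{u}}
    (f : X ⟶ Spec (CommRingCat.of A)) (W : X.Opens) : A →+* Γ(X, W) :=
  ((Scheme.ΓSpecIso (CommRingCat.of A)).inv ≫ f.appLE ⊤ W le_top).hom

lemma ofHom_secHom {A : Type u} [CommRing A] {X : Scheme.{u}}
    (f : X ⟶ Spec (CommRingCat.of A)) (W : X.Opens) :
    CommRingCat.ofHom (secHom f W) =
      (Scheme.ΓSpecIso (CommRingCat.of A)).inv ≫ f.appLE ⊤ W le_top := rfl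

/-- Sections of a base change along `Spec B ⟶ Spec A` over the preimage of an affine open are the
pushout. -/
lemma isPushout_sections {A B : Type u} [CommRing A] [CommRing B] [Algebra A B]
    {X X' : Scheme.{u}} (f : X ⟶ Spec (CommRingCat.of A)) (f' : X' ⟶ Spec (CommRingCat.of B))
    (g' : X' ⟶ X)
    (h : IsPullback g' f' f (Spec.map (CommRingCat.ofHom (algebraMap A B))))
    {W : X.Opens} (hW : IsAffineOpen W) :
    IsPushout (CommRingCat.ofHom (algebraMap A B)) (CommRingCat.ofHom (secHom f W))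
      (CommRingCat.ofHom (secHom f' (g' ⁻¹ᵁ W)))
      (CommRingCat.ofHom (g'.app W).hom) := by
  have hUY : g' ⁻¹ᵁ W = g' ⁻¹ᵁ W ⊓ f' ⁻¹ᵁ ⊤ := by simp
  have hiso := isIso_pushoutSection_of_isAffineOpen h (US := ⊤) (UT := ⊤) (UX := W)
    (le_top) (le_top) hUY (isAffineOpen_top _) (isAffineOpen_top _) hW
  have hpo := ((isIso_pushoutSection_iff h _ _ hUY).1 hiso).flip
  refine hpo.of_iso (Scheme.ΓSpecIso (CommRingCat.of A)) (Scheme.ΓSpecIso (CommRingCat.of B))
    (Iso.refl _) (Iso.refl _) ?_ ?_ ?_ ?_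
  · have := Scheme.ΓSpecIso_naturality (CommRingCat.ofHom (algebraMap A B))
    rw [← this]
    congr 1
  · rw [ofHom_secHom, Iso.hom_inv_id_assoc]
    rfl
  · rw [ofHom_secHom, Iso.hom_inv_id_assoc]
    rfl
  · rw [Scheme.Hom.app_eq_appLE]
    rfl

theorem algebraMapSubmonoid_le_nonZeroDivisors_of_flat (A B : Type*) [CommRing A] [CommRing B]
    [Algebra A B] [Module.Flat A B] :
    Algebra.algebraMapSubmonoid B (nonZeroDivisors A) ≤ nonZeroDivisors B := by
  rintro _ ⟨a, ha, rfl⟩
  have hreg : IsSMulRegular B a := Module.Flat.isSMulRegular_of_nonZeroDivisors ha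
  rw [mem_nonZeroDivisors_iff_right]
  intro z hz
  apply hreg
  simp only [smul_zero]
  rw [Algebra.smul_def, mul_comm, hz]

/-- Localizations of the coordinate rings of affine opens of a normal scheme at primes are
integrally closed domains. -/
theorem normal_localization_of_isNormalScheme {Z : Scheme.{u}} (hZ : Pi1.IsNormalScheme Z)
    {V : Z.Opens} (hV : IsAffineOpen V) (P : Ideal Γ(Z, V)) [hP : P.IsPrime] :
    IsDomain (Localization.AtPrime P) ∧ IsIntegrallyClosed (Localization.AtPrime P) := by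
  letI : Algebra Γ(Z, V) (Z.presheaf.stalk (hV.fromSpec ⟨P, hP⟩)) :=
    TopCat.Presheaf.algebra_section_stalk Z.presheaf ⟨_, (hV.isoSpec.inv _).2⟩
  haveI : IsLocalization.AtPrime (Z.presheaf.stalk (hV.fromSpec ⟨P, hP⟩)) P :=
    hV.isLocalization_stalk' ⟨P, hP⟩ (hV.isoSpec.inv _).2
  let e : Localization.AtPrime P ≃ₐ[Γ(Z, V)] Z.presheaf.stalk (hV.fromSpec ⟨P, hP⟩) :=
    IsLocalization.algEquiv P.primeCompl _ _
  obtain ⟨h1, h2⟩ := hZ (hV.fromSpec ⟨P, hP⟩)
  exact ⟨e.symm.toRingEquiv.toMulEquiv.isDomain_iff.mp h1,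
    IsIntegrallyClosed.of_equiv e.symm.toRingEquiv⟩

/-- Sections of the generic fibre over the preimage of an affine open `V` are a localization of
`Γ(Z, V)` at non-zero-divisors, for `Z` flat over the domain `R`. -/
theorem sections_localization {R : Type u} [CommRing R] [IsDomain R] {Z Z' : Scheme.{u}}
    (h : Z ⟶ Spec (CommRingCat.of R)) [Flat h]
    (h' : Z' ⟶ Spec (CommRingCat.of (FractionRing R))) (q : Z' ⟶ Z)
    (sq : IsPullback q h' h (Neron.genPt R)) {V : Z.Opens} (hV : IsAffineOpen V) :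
    letI := (q.app V).hom.toAlgebra
    ∃ M : Submonoid Γ(Z, V), M ≤ nonZeroDivisors Γ(Z, V) ∧ IsLocalization M Γ(Z', q ⁻¹ᵁ V) := by
  letI a1 : Algebra R Γ(Z, V) := (secHom h V).toAlgebra
  letI a2 : Algebra (FractionRing R) Γ(Z', q ⁻¹ᵁ V) := (secHom h' (q ⁻¹ᵁ V)).toAlgebra
  letI a3 : Algebra Γ(Z, V) Γ(Z', q ⁻¹ᵁ V) := (q.app V).hom.toAlgebra
  letI a4 : Algebra R Γ(Z', q ⁻¹ᵁ V) :=
    ((algebraMap Γ(Z, V) Γ(Z', q ⁻¹ᵁ V)).comp (algebraMap R Γ(Z, V))).toAlgebra
  haveI t1 : IsScalarTower R Γ(Z, V) Γ(Z', q ⁻¹ᵁ V) := IsScalarTower.of_algebraMap_eq (fun _ => rfl)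
  have hpo := isPushout_sections h h' q sq hV
  haveI t2 : IsScalarTower R (FractionRing R) Γ(Z', q ⁻¹ᵁ V) :=
    IsScalarTower.of_algebraMap_eq (fun r => by
      have := congrArg (fun m => m.hom r) hpo.w
      exact this.symm)
  have hP : Algebra.IsPushout R (FractionRing R) Γ(Z, V) Γ(Z', q ⁻¹ᵁ V) :=
    CommRingCat.isPushout_iff_isPushout.mp hpo
  have hloc : IsLocalization (Algebra.algebraMapSubmonoid Γ(Z, V) (nonZeroDivisors R))
      Γ(Z', q ⁻¹ᵁ V) :=
    (Algebra.isLocalization_iff_isPushout (nonZeroDivisors R) (FractionRing R)).mpr hP.symm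
  haveI hflat : Module.Flat R Γ(Z, V) := by
    have h1 : (h.appLE ⊤ V le_top).hom.Flat :=
      HasRingHomProperty.appLE (P := @Flat) h inferInstance ⟨⊤, isAffineOpen_top _⟩ ⟨V, hV⟩ le_top
    have h2 : (secHom h V).Flat := by
      have : secHom h V = (h.appLE ⊤ V le_top).hom.comp
          (Scheme.ΓSpecIso (CommRingCat.of R)).inv.hom := rfl
      rw [this]
      exact RingHom.Flat.comp
        (RingHom.Flat.of_bijective
          ((ConcreteCategory.isIso_iff_bijective _).mp inferInstance)) h1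
    exact h2
  exact ⟨_, algebraMapSubmonoid_le_nonZeroDivisors_of_flat R Γ(Z, V), hloc⟩

set_option maxHeartbeats 1600000 in
/-- The relative normalization of a normal scheme flat over a domain in its generic fibre is the
scheme itself. -/
theorem isIso_fromNormalization_genericFibre {R : Type u} [CommRing R] [IsDomain R]
    {Z : Scheme.{u}} (hZ : Pi1.IsNormalScheme Z) (h : Z ⟶ Spec (CommRingCat.of R)) [Flat h] :
    IsIso (pullback.fst h (Neron.genPt R)).fromNormalization := by
  set q := pullback.fst h (Neron.genPt R) with hq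
  have sq : IsPullback q (pullback.snd h (Neron.genPt R)) h (Neron.genPt R) :=
    IsPullback.of_hasPullback _ _
  change MorphismProperty.isomorphisms Scheme.{u} _
  rw [IsZariskiLocalAtTarget.iff_of_iSup_eq_top (P := MorphismProperty.isomorphisms Scheme.{u}) _
    (iSup_affineOpens_eq_top Z)]
  rintro ⟨V, hV⟩
  change IsIso (q.fromNormalization ∣_ V)
  rw [isIso_morphismRestrict_iff_isIso_app _ hV, Scheme.Hom.fromNormalization_app _ hV]
  letI := (q.app V).hom.toAlgebra
  suffices h : IsIso (CommRingCat.ofHom (algebraMap Γ(Z, V)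
      (integralClosure Γ(Z, V) Γ(pullback h (Neron.genPt R), q ⁻¹ᵁ V)))) from inferInstance
  rw [ConcreteCategory.isIso_iff_bijective]
  obtain ⟨M, hM, hloc⟩ := sections_localization h _ q sq hV
  have hinj : Function.Injective (algebraMap Γ(Z, V) Γ(pullback h (Neron.genPt R), q ⁻¹ᵁ V)) :=
    IsLocalization.injective _ hM
  constructor
  · intro a a' haa'
    apply hinj
    exact congrArg Subtype.val haa'
  · rintro ⟨b, hb⟩
    obtain ⟨c, hc⟩ := Groth.Agent.Lib.H9NeronDedAlg.mem_range_of_isIntegral_of_isLocalization M hM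
      (fun m _ => normal_localization_of_isNormalScheme hZ hV m) b hb
    exact ⟨c, Subtype.ext hc⟩

/-- Extension of sections of integral morphisms from the generic fibre of a normal scheme flat over
a domain. -/
theorem exists_section_extension {R : Type u} [CommRing R] [IsDomain R]
    {Z P : Scheme.{u}} (hZ : Pi1.IsNormalScheme Z) (h : Z ⟶ Spec (CommRingCat.of R)) [Flat h]
    (p : P ⟶ Z) [IsIntegralHom p] (g₀ : pullback h (Neron.genPt R) ⟶ P)
    (hg₀ : g₀ ≫ p = pullback.fst h (Neron.genPt R)) :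
    ∃ g : Z ⟶ P, g ≫ p = 𝟙 Z ∧ pullback.fst h (Neron.genPt R) ≫ g = g₀ := by
  haveI := isIso_fromNormalization_genericFibre hZ h
  set q := pullback.fst h (Neron.genPt R) with hq
  let d := q.normalizationDesc g₀ p hg₀.symm
  have h1 : q.toNormalization ≫ d = g₀ := q.toNormalization_normalizationDesc g₀ p hg₀.symm
  have h2 : d ≫ p = q.fromNormalization := q.normalizationDesc_comp g₀ p hg₀.symm
  refine ⟨inv q.fromNormalization ≫ d, ?_, ?_⟩
  · rw [Category.assoc, h2, IsIso.inv_hom_id]
  · have h3 : q ≫ inv q.fromNormalization = q.toNormalization := by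
      rw [IsIso.comp_inv_eq]
      exact q.toNormalization_fromNormalization.symm
    rw [← Category.assoc, h3, h1]

end Groth.Agent.Lib.H9NeronDedExt
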