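/-
helper9: preliminaries for "the relative normalization of a scheme in a normal scheme with
locally finite irreducible components is normal" (Stacks 035L):
openness of irreducible components, idempotents of clopen subsets over an open, and a
transitivity lemma for integral closedness.
-/
import Mathlib
import Groth.Prelude.Def_Pi1
import Groth.Agent.Lib.H9SteinConn
import Groth.Agent.Lib.Helper4EtNormalSch

set_option autoImplicit false
set_option linter.style.haveILetI false
universe u

open CategoryTheory CategoryTheory.Limits AlgebraicGeometry TopologicalSpace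

namespace Groth.Agent.Lib.H9RelNormNormalA

/-- In a scheme with domain stalks and locally finite irreducible components, irreducible
components are open. -/
theorem isOpen_of_mem_irreducibleComponents {X : Scheme.{u}}
    (hX : ∀ x : X, IsDomain (X.presheaf.stalk x))
    (hfin : LocallyFinite (fun Z : ↥(irreducibleComponents ↥X) => (Z : Set ↥X)))
    {Z : Set X} (hZ : Z ∈ irreducibleComponents X) : IsOpen Z := by
  have hcl : IsClosed (⋃ Z' : {Z' : ↥(irreducibleComponents ↥X) // (Z' : Set X) ≠ Z},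
      ((Z'.1 : Set X))) := by
    apply LocallyFinite.isClosed_iUnion
    · exact hfin.comp_injective Subtype.val_injective
    · intro Z'
      exact isClosed_of_mem_irreducibleComponents _ Z'.1.2
  have heq : Zᶜ = ⋃ Z' : {Z' : ↥(irreducibleComponents ↥X) // (Z' : Set X) ≠ Z},
      ((Z'.1 : Set X)) := by
    ext x
    simp only [Set.mem_compl_iff, Set.mem_iUnion]
    constructor
    · intro hx
      refine ⟨⟨⟨irreducibleComponent x, irreducibleComponent_mem_irreducibleComponents x⟩, ?_⟩,
        mem_irreducibleComponent⟩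
      intro h
      apply hx
      rw [← h]
      exact mem_irreducibleComponent
    · rintro ⟨⟨Z', hne⟩, hxZ'⟩ hxZ
      haveI := hX x
      exact hne (Groth.Agent.Lib.Helper4.EtNormalSch.irreducibleComponents_eq_of_mem x Z'.2 hZ
        hxZ' hxZ)
  rw [← isClosed_compl_iff, heq]
  exact hcl

/-- A clopen subset cuts out, over any open `V`, the basic open of an idempotent section. -/
theorem exists_idem {X : Scheme.{u}} (V : X.Opens) (Z : Set X) (hZ : IsClopen Z) :
    ∃ e : Γ(X, V), IsIdempotentElem e ∧ ((X.basicOpen e : X.Opens) : Set X) = Z ∩ V := by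
  let U₁ : X.Opens := ⟨Z, hZ.isOpen⟩ ⊓ V
  let U₂ : X.Opens := ⟨Zᶜ, hZ.compl.isOpen⟩ ⊓ V
  have hdisj : U₁ ⊓ U₂ = ⊥ := by
    ext y
    simp only [U₁, U₂, Opens.coe_inf, Opens.coe_mk, Set.mem_inter_iff, Set.mem_compl_iff,
      SetLike.mem_coe, Opens.coe_bot, Set.mem_empty_iff_false, iff_false]
    tauto
  have hsup : V = U₁ ⊔ U₂ := by
    ext y
    simp only [U₁, U₂, Opens.coe_sup, Opens.coe_inf, Opens.coe_mk, Set.mem_union,
      Set.mem_inter_iff, Set.mem_compl_iff, SetLike.mem_coe]
    tauto
  let ε := (X.sheaf.isProductOfDisjoint U₁ U₂ hdisj).conePointUniqueUpToIso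
      (CommRingCat.prodFanIsLimit _ _)
  let s : Γ(X, U₁ ⊔ U₂) := ε.inv ((1, 0) : Γ(X, U₁) × Γ(X, U₂))
  have hs1 : X.presheaf.map (homOfLE (le_sup_left : U₁ ≤ U₁ ⊔ U₂)).op s = 1 := by
    have := IsLimit.conePointUniqueUpToIso_inv_comp (X.sheaf.isProductOfDisjoint U₁ U₂ hdisj)
      (CommRingCat.prodFanIsLimit _ _) ⟨WalkingPair.left⟩
    have h2 := congrArg (fun φ => φ.hom ((1, 0) : Γ(X, U₁) × Γ(X, U₂))) this
    exact h2
  have hs2 : X.presheaf.map (homOfLE (le_sup_right : U₂ ≤ U₁ ⊔ U₂)).op s = 0 := by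
    have := IsLimit.conePointUniqueUpToIso_inv_comp (X.sheaf.isProductOfDisjoint U₁ U₂ hdisj)
      (CommRingCat.prodFanIsLimit _ _) ⟨WalkingPair.right⟩
    have h2 := congrArg (fun φ => φ.hom ((1, 0) : Γ(X, U₁) × Γ(X, U₂))) this
    exact h2
  have hsi : IsIdempotentElem s := by
    have h0 : IsIdempotentElem ((1, 0) : Γ(X, U₁) × Γ(X, U₂)) := by
      change ((1, 0) : Γ(X, U₁) × Γ(X, U₂)) * (1, 0) = (1, 0)
      simp
    exact h0.map ε.inv.hom
  refine ⟨X.presheaf.map (homOfLE (le_of_eq hsup)).op s, hsi.map _, ?_⟩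
  rw [Scheme.basicOpen_res]
  ext y
  simp only [Opens.coe_inf, Set.mem_inter_iff, SetLike.mem_coe]
  by_cases hyV : y ∈ V
  swap
  · simp [hyV]
  by_cases hy : y ∈ Z
  · have hy1 : y ∈ U₁ := ⟨hy, hyV⟩
    have hy' : y ∈ U₁ ⊔ U₂ := le_sup_left (a := U₁) hy1
    rw [X.mem_basicOpen s y hy']
    have hg := TopCat.Presheaf.germ_res_apply X.presheaf
      (homOfLE (le_sup_left : U₁ ≤ U₁ ⊔ U₂)) y hy1 s
    rw [hs1, map_one] at hg
    simp only [hy, hyV, true_and, and_true, iff_true]
    rw [← hg]
    exact isUnit_one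
  · have hy2 : y ∈ U₂ := ⟨hy, hyV⟩
    have hy' : y ∈ U₁ ⊔ U₂ := le_sup_right (a := U₁) hy2
    rw [X.mem_basicOpen s y hy']
    have hg := TopCat.Presheaf.germ_res_apply X.presheaf
      (homOfLE (le_sup_right : U₂ ≤ U₁ ⊔ U₂)) y hy2 s
    rw [hs2, map_zero] at hg
    simp only [hy, hyV, and_true, false_and, iff_false, true_and]
    rw [← hg]
    exact not_isUnit_zero

/-- Transitivity: `R ⊆ B ⊆ K` with `K` a field, `B` integrally closed in `K` and `R` integrally
closed in `B`; then `R` is an integrally closed domain. -/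
theorem isIntegrallyClosed_of_tower (R B K : Type*) [CommRing R] [IsDomain R] [CommRing B]
    [Field K] [Algebra R B] [Algebra B K] [Algebra R K] [IsScalarTower R B K]
    (hRB : Function.Injective (algebraMap R B))
    (hBK : Function.Injective (algebraMap B K))
    (hR : ∀ b : B, IsIntegral R b → b ∈ Set.range (algebraMap R B))
    (hB : ∀ k : K, IsIntegral B k → k ∈ Set.range (algebraMap B K)) :
    IsIntegrallyClosed R := by
  have hRK : Function.Injective (Algebra.ofId R K) := by
    change Function.Injective (algebraMap R K)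
    rw [IsScalarTower.algebraMap_eq R B K]
    exact hBK.comp hRB
  let ψ : FractionRing R →ₐ[R] K := IsFractionRing.liftAlgHom hRK
  rw [isIntegrallyClosed_iff (FractionRing R)]
  intro x hx
  have h1 : IsIntegral R (ψ x) := hx.map ψ
  have h2 : IsIntegral B (ψ x) := h1.tower_top
  obtain ⟨b, hb⟩ := hB _ h2
  have h3 : IsIntegral R b := by
    rw [← isIntegral_algebraMap_iff hBK, hb]
    exact h1
  obtain ⟨r, hr⟩ := hR b h3
  refine ⟨r, ?_⟩
  apply ψ.toRingHom.injective
  change ψ (algebraMap R (FractionRing R) r) = ψ x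
  rw [ψ.commutes, ← hb, ← hr, ← IsScalarTower.algebraMap_apply]

end Groth.Agent.Lib.H9RelNormNormalA
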