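/-
helper9: local structure of the relative normalization of `Y` in a normal scheme `X` with locally
finite irreducible components (Stacks 035L): every point of the normalization has an affine open
neighbourhood `W₁` with integrally closed domain of sections, whose preimage in `X` lies in a
single irreducible component, with generic point mapping to the generic point of `W₁`.
-/
import Mathlib
import Groth.Prelude.Def_Pi1
import Groth.Agent.Lib.H9RelNormNormalA
import Groth.Agent.Lib.Helper8NormDvrGeo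
import Groth.Agent.Lib.H9FibrBirA
import Groth.Agent.Lib.R2LeadWENormal
import Groth.Agent.Lib.Helper14IrrComp

set_option autoImplicit false
set_option linter.style.haveILetI false
universe u

open CategoryTheory CategoryTheory.Limits AlgebraicGeometry TopologicalSpace

namespace Groth.Agent.Lib.H9RelNormNormalB

open Groth.Agent.Lib.Helper8NormDvrGeo (secMap secMap_injective mem_range_secMap_of_isIntegralElem)
open Groth.Agent.Lib.H9RelNormNormalA

theorem eq_zero_of_germ {X : Scheme.{u}} (V : X.Opens) (s : Γ(X, V))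
    (h : ∀ (x : X) (hx : x ∈ V), X.presheaf.germ V x hx s = 0) : s = 0 := by
  refine TopCat.Presheaf.section_ext X.sheaf V s 0 (fun x hx => ?_)
  rw [map_zero]
  exact h x hx

variable {X Y : Scheme.{u}} (f : X ⟶ Y) [QuasiCompact f] [QuasiSeparated f]

set_option maxHeartbeats 1600000 in
theorem exists_local_structure (hX : Pi1.IsNormalScheme X)
    (hfin : LocallyFinite (fun Z : ↥(irreducibleComponents ↥X) => (Z : Set ↥X)))
    (x' : ↥f.normalization) :
    ∃ W₁ : f.normalization.Opens, IsAffineOpen W₁ ∧ x' ∈ W₁ ∧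
      IsDomain Γ(f.normalization, W₁) ∧ IsIntegrallyClosed Γ(f.normalization, W₁) ∧
      ∃ y : X, closure ({y} : Set X) ∈ irreducibleComponents ↥X ∧
        y ∈ f.toNormalization ⁻¹ᵁ W₁ ∧
        ((f.toNormalization ⁻¹ᵁ W₁ : X.Opens) : Set X) ⊆ closure {y} ∧
        (W₁ : Set f.normalization) ⊆ closure {f.toNormalization y} := by
  classical
  obtain ⟨_, ⟨U, hU, rfl⟩, hxU, -⟩ := Y.isBasis_affineOpens.exists_subset_of_mem_open
    (Set.mem_univ (f.fromNormalization x')) isOpen_univ
  let W : f.normalization.Opens := f.fromNormalization ⁻¹ᵁ U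
  have hW : IsAffineOpen W := hU.preimage f.fromNormalization
  have hx'W : x' ∈ W := hxU
  let V : X.Opens := f ⁻¹ᵁ U
  have hVW : f.toNormalization ⁻¹ᵁ W = V := by
    rw [← Scheme.Hom.comp_preimage, Scheme.Hom.toNormalization_fromNormalization]
  have hVc : IsCompact (V : Set X) := f.isCompact_preimage hU.isCompact
  have hVqs : IsQuasiSeparated (V : Set X) := f.isQuasiSeparated_preimage hU.isQuasiSeparated
  let φ : Γ(f.normalization, W) ⟶ Γ(X, V) := secMap f U
  have hφinj : Function.Injective φ.hom := secMap_injective f hU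
  haveI : IsReduced X := by
    haveI : ∀ z : X, _root_.IsReduced (X.presheaf.stalk z) := fun z => by
      haveI := (hX z).1
      infer_instance
    exact isReduced_of_isReduced_stalk _
  -- components meeting `V`
  have h𝒵 : {Z : ↥(irreducibleComponents ↥X) | ((Z : Set X) ∩ V).Nonempty}.Finite :=
    hfin.finite_nonempty_inter_compact hVc
  have hclopen : ∀ Z : ↥(irreducibleComponents ↥X), IsClopen (Z : Set X) := fun Z =>
    ⟨isClosed_of_mem_irreducibleComponents _ Z.2,
      isOpen_of_mem_irreducibleComponents (fun x => (hX x).1) hfin Z.2⟩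
  choose e he hbe using fun Z : ↥(irreducibleComponents ↥X) =>
    exists_idem V (Z : Set X) (hclopen Z)
  have hint : ∀ Z, φ.hom.IsIntegralElem (e Z) := by
    intro Z
    refine ⟨Polynomial.X * (Polynomial.X - Polynomial.C 1),
      Polynomial.monic_X.mul (Polynomial.monic_X_sub_C 1), ?_⟩
    rw [Polynomial.eval₂_mul, Polynomial.eval₂_sub, Polynomial.eval₂_X, Polynomial.eval₂_C,
      map_one, mul_sub, mul_one, (he Z).eq, sub_self]
  choose ε hε using fun Z => mem_range_secMap_of_isIntegralElem f hU (e Z) (hint Z)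
  have hprod : ∏ Z ∈ h𝒵.toFinset, (1 - ε Z) = 0 := by
    apply hφinj
    rw [map_zero, map_prod]
    apply eq_zero_of_germ V
    intro x hx
    rw [map_prod]
    let Zx : ↥(irreducibleComponents ↥X) :=
      ⟨irreducibleComponent x, irreducibleComponent_mem_irreducibleComponents x⟩
    have hZx : Zx ∈ h𝒵.toFinset := by
      rw [Set.Finite.mem_toFinset]
      exact ⟨x, mem_irreducibleComponent, hx⟩
    apply Finset.prod_eq_zero hZx
    rw [map_sub, map_one, hε, map_sub, map_one]
    have hmem : x ∈ X.basicOpen (e Zx) := by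
      change x ∈ ((X.basicOpen (e Zx) : X.Opens) : Set X)
      rw [hbe]
      exact ⟨mem_irreducibleComponent, hx⟩
    rw [Groth.Agent.Lib.H9SteinConn.germ_eq_one (he Zx) x hx hmem, sub_self]
  obtain ⟨Z, hZmem, hxZ⟩ : ∃ Z ∈ h𝒵.toFinset, x' ∈ f.normalization.basicOpen (ε Z) := by
    by_contra hcon
    push Not at hcon
    have hunit : ∀ Z ∈ h𝒵.toFinset,
        IsUnit (f.normalization.presheaf.germ W x' hx'W (1 - ε Z)) := by
      intro Z hZ
      have h1 := hcon Z hZ
      rw [f.normalization.mem_basicOpen _ x' hx'W] at h1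
      rw [map_sub, map_one]
      exact (IsLocalRing.isUnit_or_isUnit_one_sub_self _).resolve_left h1
    have h0 := congrArg (f.normalization.presheaf.germ W x' hx'W) hprod
    rw [map_prod, map_zero] at h0
    have hu : IsUnit (∏ Z ∈ h𝒵.toFinset,
        (f.normalization.presheaf.germ W x' hx'W) (1 - ε Z)) := IsUnit.prod_iff.mpr hunit
    rw [h0] at hu
    exact not_isUnit_zero hu
  -- the chosen component
  have hZne : ((Z : Set X) ∩ V).Nonempty := h𝒵.mem_toFinset.mp hZmem
  let ε₀ : Γ(f.normalization, W) := ε Z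
  let W₁ : f.normalization.Opens := f.normalization.basicOpen ε₀
  have hW₁ : IsAffineOpen W₁ := hW.basicOpen ε₀
  let V₁ : X.Opens := X.basicOpen (φ.hom ε₀)
  have hV₁set : (V₁ : Set X) = (Z : Set X) ∩ V := by
    rw [← hbe Z]
    have h1 : φ.hom ε₀ = e Z := hε Z
    change ((X.basicOpen (φ.hom ε₀) : X.Opens) : Set X) = _
    rw [h1]
  have hW₁W : W₁ ≤ W := f.normalization.basicOpen_le ε₀
  have hV₁ : f.toNormalization ⁻¹ᵁ W₁ = V₁ := by
    have h1 := Scheme.basicOpen_appLE f.toNormalization V W (le_of_eq hVW.symm) ε₀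
    change V₁ = _ at h1
    rw [h1]
    refine le_antisymm (le_inf ?_ le_rfl) inf_le_right
    rw [← hVW]
    exact f.toNormalization.preimage_mono hW₁W
  -- algebra structures
  letI algRB : Algebra Γ(f.normalization, W) Γ(X, V) := φ.hom.toAlgebra
  haveI locS : IsLocalization.Away ε₀ Γ(f.normalization, W₁) := hW.isLocalization_basicOpen ε₀
  haveI locB : IsLocalization.Away (φ.hom ε₀) Γ(X, V₁) :=
    isLocalization_basicOpen_of_qcqs hVc hVqs (φ.hom ε₀)
  let ρ : Γ(f.normalization, W₁) ⟶ Γ(X, V₁) :=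
    f.toNormalization.appLE W₁ V₁ (le_of_eq hV₁.symm)
  letI algSB' : Algebra Γ(f.normalization, W₁) Γ(X, V₁) := ρ.hom.toAlgebra
  letI algRB' : Algebra Γ(f.normalization, W) Γ(X, V₁) :=
    ((algebraMap Γ(X, V) Γ(X, V₁)).comp (algebraMap Γ(f.normalization, W) Γ(X, V))).toAlgebra
  haveI tw1 : IsScalarTower Γ(f.normalization, W) Γ(X, V) Γ(X, V₁) :=
    IsScalarTower.of_algebraMap_eq' rfl
  haveI tw2 : IsScalarTower Γ(f.normalization, W) Γ(f.normalization, W₁) Γ(X, V₁) :=
    IsScalarTower.of_algebraMap_eq' (by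
      simp only [RingHom.algebraMap_toAlgebra]
      rw [← CommRingCat.hom_comp, ← CommRingCat.hom_comp]
      congr 1
      exact (Scheme.Hom.appLE_map _ _ _).trans (Scheme.Hom.map_appLE _ _ _).symm)
  haveI locB' : IsLocalization (Algebra.algebraMapSubmonoid Γ(X, V) (Submonoid.powers ε₀))
      Γ(X, V₁) := by
    rw [Algebra.algebraMapSubmonoid_powers]
    exact locB
  obtain ⟨hρinj, hρic⟩ := Groth.Agent.Lib.Helper8NormDvrAlg.localization_integrallyClosedIn
    (R := Γ(f.normalization, W)) (B := Γ(X, V)) hφinj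
    (fun x hx => mem_range_secMap_of_isIntegralElem f hU x hx)
    (Submonoid.powers ε₀) Γ(f.normalization, W₁) Γ(X, V₁)
  -- `V₁` is an integral normal scheme
  have hirr : IsIrreducible (V₁ : Set X) := by
    rw [hV₁set]
    refine ⟨hZne, ?_⟩
    exact (Z.2.1.isPreirreducible).open_subset ((hclopen Z).isOpen.inter V.2)
      Set.inter_subset_left
  haveI : IrreducibleSpace ↥(V₁ : Scheme.{u}) := Subtype.irreducibleSpace hirr
  haveI : IsIntegral (V₁ : Scheme.{u}) := isIntegral_of_irreducibleSpace_of_isReduced _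
  have hV₁n : Pi1.IsNormalScheme (V₁ : Scheme.{u}) :=
    Groth.Agent.Lib.R2LeadWENormal.main V₁.ι hX
  haveI : Nonempty (⊤ : (V₁ : Scheme.{u}).Opens) := by
    obtain ⟨z⟩ := (inferInstance : Nonempty ↥(V₁ : Scheme.{u}))
    exact ⟨⟨z, trivial⟩⟩
  have hB₀ := Groth.Agent.Lib.H9FibrBirA.isIntegrallyClosedIn_functionField
    (V₁ : Scheme.{u}) hV₁n ⊤
  rw [isIntegrallyClosedIn_iff] at hB₀
  -- the composite `Γ(N, W₁) → Γ(↑V₁, ⊤)`
  let ρ' : Γ(f.normalization, W₁) ⟶ Γ((V₁ : Scheme.{u}), ⊤) := ρ ≫ V₁.topIso.inv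
  have htopinj : Function.Injective V₁.topIso.inv.hom :=
    ((ConcreteCategory.isIso_iff_bijective V₁.topIso.inv).mp inferInstance).1
  have hρ'inj : Function.Injective ρ'.hom := by
    change Function.Injective (V₁.topIso.inv.hom.comp ρ.hom)
    exact htopinj.comp hρinj
  haveI : IsDomain Γ(f.normalization, W₁) := hρ'inj.isDomain ρ'.hom
  letI alg1 : Algebra Γ(f.normalization, W₁) Γ((V₁ : Scheme.{u}), ⊤) := ρ'.hom.toAlgebra
  letI alg2 : Algebra Γ(f.normalization, W₁) (V₁ : Scheme.{u}).functionField :=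
    ((algebraMap Γ((V₁ : Scheme.{u}), ⊤) (V₁ : Scheme.{u}).functionField).comp
      (algebraMap Γ(f.normalization, W₁) Γ((V₁ : Scheme.{u}), ⊤))).toAlgebra
  haveI tw3 : IsScalarTower Γ(f.normalization, W₁) Γ((V₁ : Scheme.{u}), ⊤)
      (V₁ : Scheme.{u}).functionField := IsScalarTower.of_algebraMap_eq' rfl
  have hic : IsIntegrallyClosed Γ(f.normalization, W₁) := by
    refine isIntegrallyClosed_of_tower Γ(f.normalization, W₁) Γ((V₁ : Scheme.{u}), ⊤)
      (V₁ : Scheme.{u}).functionField hρ'inj hB₀.1 ?_ (fun k hk => hB₀.2 hk)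
    intro b hb
    -- transport integrality along `topIso`
    have hb' : IsIntegral Γ(f.normalization, W₁) (V₁.topIso.hom.hom b) := by
      obtain ⟨p, hp, hpb⟩ := hb
      refine ⟨p, hp, ?_⟩
      have hcomp : V₁.topIso.hom.hom.comp ρ'.hom = ρ.hom := by
        ext r
        change V₁.topIso.hom.hom (V₁.topIso.inv.hom (ρ.hom r)) = ρ.hom r
        rw [← CommRingCat.comp_apply, Iso.inv_hom_id]
        rfl
      have h1 := Polynomial.hom_eval₂ p ρ'.hom V₁.topIso.hom.hom b
      have hpb' : Polynomial.eval₂ ρ'.hom b p = 0 := hpb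
      rw [hpb', map_zero, hcomp] at h1
      exact h1.symm
    obtain ⟨r, hr⟩ := hρic _ hb'
    refine ⟨r, ?_⟩
    change V₁.topIso.inv.hom (ρ.hom r) = b
    have hr' : ρ.hom r = V₁.topIso.hom.hom b := hr
    rw [hr', ← CommRingCat.comp_apply, Iso.hom_inv_id]
    rfl
  -- generic point
  obtain ⟨y, hy⟩ := Groth.Agent.Lib.Helper14.exists_closure_eq_of_mem_irreducibleComponents Z.2
  have hygen : IsGenericPoint y (Z : Set X) := hy
  have hyV₁ : y ∈ V₁ := by
    obtain ⟨z, hz⟩ := hZne
    have hz' : z ∈ (V₁ : Set X) := by rw [hV₁set]; exact hz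
    exact (hygen.mem_open_set_iff V₁.isOpen).mpr ⟨z, hz.1, hz'⟩
  refine ⟨W₁, hW₁, hxZ, inferInstance, hic, y, ?_, ?_, ?_, ?_⟩
  · rw [hy]
    exact Z.2
  · rw [hV₁]
    exact hyV₁
  · rw [hV₁, hy, hV₁set]
    exact Set.inter_subset_left
  · intro x hx
    rw [mem_closure_iff]
    intro o ho hxo
    obtain ⟨r, hr1, hr2⟩ := hW₁.exists_basicOpen_le (V := ⟨o, ho⟩) ⟨x, hxo⟩ hx
    have hr0 : r ≠ 0 := by
      rintro rfl
      rw [Scheme.basicOpen_zero] at hr2
      exact hr2
    have hρr : ρ.hom r ≠ 0 := fun h => hr0 (hρinj (by rw [map_zero]; exact h))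
    have hne : X.basicOpen (ρ.hom r) ≠ ⊥ := fun h => hρr ((basicOpen_eq_bot_iff _).mp h)
    obtain ⟨z, hz⟩ : ((X.basicOpen (ρ.hom r) : X.Opens) : Set X).Nonempty := by
      rw [Set.nonempty_iff_ne_empty]
      intro h
      exact hne (Opens.ext h)
    have hzV₁ : z ∈ (V₁ : Set X) := X.basicOpen_le _ hz
    have hyr : y ∈ X.basicOpen (ρ.hom r) := by
      rw [hV₁set] at hzV₁
      exact (hygen.mem_open_set_iff (X.basicOpen (ρ.hom r)).isOpen).mpr ⟨z, hzV₁.1, hz⟩
    have h2 := Scheme.basicOpen_appLE f.toNormalization V₁ W₁ (le_of_eq hV₁.symm) r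
    have hyr' : y ∈ V₁ ⊓ f.toNormalization ⁻¹ᵁ f.normalization.basicOpen r := by
      rw [← h2]
      exact hyr
    exact ⟨f.toNormalization y, hr1 hyr'.2, rfl⟩

end Groth.Agent.Lib.H9RelNormNormalB
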