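/-
helper9: finiteness of the relative normalization of a normal Noetherian scheme `S` of
characteristic zero in a quasi-compact étale `S`-scheme.
-/
import Mathlib
import Groth.Prelude.Def_Pi1
import Groth.Agent.Lib.H9RelNormNormalB
import Groth.Agent.Lib.Helper4QuasiFiniteN2
import Groth.Agent.Lib.Helper4NormIso
import Groth.Agent.Lib.H9AlignedEt
import Groth.Agent.Lib.R2LeadWENormal

set_option autoImplicit false
set_option linter.style.haveILetI false
universe u

open CategoryTheory CategoryTheory.Limits AlgebraicGeometry TopologicalSpace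

namespace Groth.Agent.Lib.H9NeronEtFinA

set_option backward.isDefEq.respectTransparency false in
/-- Cover version: the relative normalization is finite as soon as the integral closures over the
members of an affine open cover are finite modules. -/
theorem isFinite_fromNormalization_of_cover {X S : Scheme.{u}} (f : X ⟶ S) [QuasiCompact f]
    [QuasiSeparated f] {ι : Type*} (𝒰 : ι → S.affineOpens) (hsup : (⨆ i, (𝒰 i).1) = ⊤)
    (H : ∀ i, letI := (f.app (𝒰 i).1).hom.toAlgebra
      Module.Finite Γ(S, (𝒰 i).1) (integralClosure Γ(S, (𝒰 i).1) Γ(X, f ⁻¹ᵁ (𝒰 i).1))) :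
    IsFinite f.fromNormalization := by
  rw [IsZariskiLocalAtTarget.iff_of_iSup_eq_top (P := @IsFinite) _ hsup]
  intro i
  obtain ⟨U, hU⟩ : ∃ U : S.affineOpens, U = 𝒰 i := ⟨_, rfl⟩
  rw [← hU]
  have HU := H i
  rw [← hU] at HU
  let e := IsOpenImmersion.isoOfRangeEq (f.fromNormalization ⁻¹ᵁ U).ι
      (f.normalizationOpenCover.f U)
      (by simpa using congr($(f.fromNormalization_preimage U).1))
  rw [← MorphismProperty.cancel_left_of_respectsIso @IsFinite e.inv,
    ← MorphismProperty.cancel_right_of_respectsIso @IsFinite _ U.2.isoSpec.hom]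
  have : (f.normalizationDiagramMap.app (.op U)).hom.Finite := by
    let := (f.app U).hom.toAlgebra
    change (algebraMap Γ(S, U) (integralClosure Γ(S, U) Γ(X, f ⁻¹ᵁ U))).Finite
    rw [RingHom.finite_algebraMap]
    exact HU
  convert! (IsFinite.SpecMap_iff _).mpr this
  rw [← cancel_mono U.2.fromSpec]
  simp [IsAffineOpen.isoSpec_hom, e, Scheme.Hom.ι_fromNormalization]

/-- Sections of a reduced scheme over an irreducible open form a domain. -/
theorem isDomain_sections_of_isIrreducible {X : Scheme.{u}} [IsReduced X] (V : X.Opens)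
    (hirr : IsIrreducible (V : Set X)) : IsDomain Γ(X, V) := by
  haveI : IrreducibleSpace ↥(V : Scheme.{u}) := Subtype.irreducibleSpace hirr
  haveI : IsIntegral (V : Scheme.{u}) := isIntegral_of_irreducibleSpace_of_isReduced _
  exact (V.topIso.commRingCatIsoToRingEquiv.symm).toMulEquiv.isDomain Γ((V : Scheme.{u}), ⊤)

theorem injective_algebraMap_of_flat (A B : Type*) [CommRing A] [IsDomain A] [CommRing B]
    [Nontrivial B] [Algebra A B] [Module.Flat A B] : Function.Injective (algebraMap A B) := by
  rw [injective_iff_map_eq_zero]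
  intro a ha
  by_contra hne
  have hreg : IsSMulRegular A a := (IsRegular.of_ne_zero hne).isSMulRegular
  have h1 : IsSMulRegular B (algebraMap A B a) := hreg.of_flat
  rw [ha] at h1
  have h2 : (1 : B) = 0 := h1 (by simp)
  exact one_ne_zero h2

end Groth.Agent.Lib.H9NeronEtFinA
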