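/-
helper9: finiteness of the relative normalization of a normal locally Noetherian scheme `S` of
characteristic zero in a quasi-compact étale `S`-scheme.
-/
import Mathlib
import Groth.Prelude.Def_Pi1
import Groth.Agent.Lib.H9NeronEtFinA

set_option autoImplicit false
set_option linter.style.haveILetI false
universe u

open CategoryTheory CategoryTheory.Limits AlgebraicGeometry TopologicalSpace

namespace Groth.Agent.Lib.H9NeronEtFinB

open Groth.Agent.Lib.H9NeronEtFinA

theorem isReduced_of_isNormalScheme {X : Scheme.{u}} (hX : Pi1.IsNormalScheme X) :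
    IsReduced X := by
  haveI : ∀ z : X, _root_.IsReduced (X.presheaf.stalk z) := fun z => by
    haveI := (hX z).1
    infer_instance
  exact isReduced_of_isReduced_stalk _

/-- Irreducible affine opens form a basis of a normal locally Noetherian scheme. -/
theorem exists_irreducible_affine_nhd {X : Scheme.{u}} [IsLocallyNoetherian X]
    (hX : Pi1.IsNormalScheme X) (V : X.Opens) (x : X) (hx : x ∈ V) :
    ∃ W : X.Opens, IsAffineOpen W ∧ x ∈ W ∧ W ≤ V ∧ IsIrreducible (W : Set X) := by
  have hC := irreducibleComponent_mem_irreducibleComponents x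
  have hCo : IsOpen (irreducibleComponent x) :=
    Groth.Agent.Lib.H9AlignedEt.isOpen_of_mem_irreducibleComponents (fun w => (hX w).1) hC
  obtain ⟨_, ⟨W, hW, rfl⟩, hxW, hWC⟩ := X.isBasis_affineOpens.exists_subset_of_mem_open
    (show x ∈ irreducibleComponent x ∩ (V : Set X) from ⟨mem_irreducibleComponent, hx⟩)
    (hCo.inter V.2)
  refine ⟨W, hW, hxW, fun y hy => (hWC hy).2, ⟨⟨x, hxW⟩, ?_⟩⟩
  exact isIrreducible_irreducibleComponent.isPreirreducible.open_subset W.2
    (fun y hy => (hWC hy).1)

/-- Ring-level: finiteness of the integral closure checked on finitely many quasi-finite domain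
pieces. -/
theorem finite_integralClosure_of_pieces (A B : Type u) [CommRing A] [IsDomain A]
    [IsNoetherianRing A] [CommRing B] [Algebra A B] (hN2 : CAlg.IsN2 A) {ι : Type*}
    [Finite ι] (C : ι → Type u) [∀ i, CommRing (C i)] [∀ i, IsDomain (C i)]
    [∀ i, Algebra A (C i)] [∀ i, Algebra.QuasiFinite A (C i)]
    (hinj : ∀ i, Function.Injective (algebraMap A (C i)))
    (r : ∀ i, B →ₐ[A] C i) (hr : ∀ b : B, (∀ i, r i b = 0) → b = 0) :
    Module.Finite A (integralClosure A B) := by
  classical
  cases nonempty_fintype ι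
  haveI : ∀ i, Module.Finite A (integralClosure A (C i)) := fun i =>
    Groth.Agent.Lib.Helper4.QuasiFiniteN2.finite_integralClosure_of_quasiFinite (hinj i) hN2
  let g : integralClosure A B →ₗ[A] (∀ i, integralClosure A (C i)) :=
    LinearMap.pi (fun i => (AlgHom.mapIntegralClosure (r i)).toLinearMap)
  have hg : Function.Injective g := by
    rw [injective_iff_map_eq_zero]
    intro x hx
    apply Subtype.ext
    apply hr
    intro i
    have h1 := congrFun hx i
    exact congrArg Subtype.val h1
  haveI : IsNoetherian A (∀ i, integralClosure A (C i)) :=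
    isNoetherian_of_isNoetherianRing_of_finite A _
  exact Module.Finite.of_injective g hg

set_option maxHeartbeats 1600000 in
/-- The integral closure of the sections of `S` over an irreducible affine open in the sections
of an étale quasi-compact `S`-scheme is a finite module. -/
theorem finite_integralClosure_sections {k : Type u} [Field k] [CharZero k] {X S : Scheme.{u}}
    (σ : S ⟶ Spec (CommRingCat.of k)) [IsLocallyNoetherian S] (hS : Pi1.IsNormalScheme S)
    (f : X ⟶ S) [Etale f] [QuasiCompact f] (U : S.Opens) (hU : IsAffineOpen U)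
    (hirr : IsIrreducible (U : Set S)) :
    letI := (f.app U).hom.toAlgebra
    Module.Finite Γ(S, U) (integralClosure Γ(S, U) Γ(X, f ⁻¹ᵁ U)) := by
  classical
  letI algAB := (f.app U).hom.toAlgebra
  haveI : IsReduced S := isReduced_of_isNormalScheme hS
  -- the base ring
  haveI : IsDomain Γ(S, U) := isDomain_sections_of_isIrreducible U hirr
  haveI : IsNoetherianRing Γ(S, U) := IsLocallyNoetherian.component_noetherian ⟨U, hU⟩
  haveI : IsIntegrallyClosed Γ(S, U) := by
    haveI : IrreducibleSpace ↥(U : Scheme.{u}) := Subtype.irreducibleSpace hirr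
    haveI : IsIntegral (U : Scheme.{u}) := isIntegral_of_irreducibleSpace_of_isReduced _
    have hUn : Pi1.IsNormalScheme (U : Scheme.{u}) :=
      Groth.Agent.Lib.R2LeadWENormal.main U.ι hS
    haveI : IsAffine (U : Scheme.{u}) := hU
    haveI : Nonempty (⊤ : (U : Scheme.{u}).Opens) := by
      obtain ⟨z⟩ := (inferInstance : Nonempty ↥(U : Scheme.{u}))
      exact ⟨⟨z, trivial⟩⟩
    haveI := Groth.Agent.Lib.Helper4.NormIso.isIntegrallyClosed_sections hUn ⊤
      (isAffineOpen_top _)
    exact IsIntegrallyClosed.of_equiv U.topIso.commRingCatIsoToRingEquiv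
  haveI : CharZero Γ(S, U) := by
    let ρ : k →+* Γ(S, U) :=
      ((Scheme.ΓSpecIso (CommRingCat.of k)).inv ≫ σ.appTop ≫
        S.presheaf.map (homOfLE (le_top : U ≤ ⊤)).op).hom
    exact charZero_of_injective_ringHom ρ.injective
  haveI : CharZero (FractionRing Γ(S, U)) :=
    charZero_of_injective_algebraMap (IsFractionRing.injective Γ(S, U) (FractionRing Γ(S, U)))
  have hN2 : CAlg.IsN2 Γ(S, U) :=
    Groth.Agent.Lib.Helper14.isN2_of_isIntegrallyClosed_of_perfectField Γ(S, U)
  -- the source
  haveI : IsLocallyNoetherian X := LocallyOfFiniteType.isLocallyNoetherian f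
  have hX : Pi1.IsNormalScheme X := Groth.Agent.Lib.R2LeadWENormal.main f hS
  haveI : IsReduced X := isReduced_of_isNormalScheme hX
  let V : X.Opens := f ⁻¹ᵁ U
  have hVc : IsCompact (V : Set X) := f.isCompact_preimage hU.isCompact
  choose Vx hVxa hVxm hVxle hVxi using fun x : ↥V =>
    exists_irreducible_affine_nhd hX V x.1 x.2
  obtain ⟨t, ht⟩ := hVc.elim_finite_subcover (fun x : ↥V => ((Vx x : X.Opens) : Set X))
    (fun x => (Vx x).2) (fun x hx => Set.mem_iUnion.mpr ⟨⟨x, hx⟩, hVxm ⟨x, hx⟩⟩)
  -- the pieces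
  letI algC : ∀ i : ↥t, Algebra Γ(S, U) Γ(X, Vx i.1) := fun i =>
    (f.appLE U (Vx i.1) (hVxle i.1)).hom.toAlgebra
  haveI domC : ∀ i : ↥t, IsDomain Γ(X, Vx i.1) := fun i =>
    isDomain_sections_of_isIrreducible _ (hVxi i.1)
  haveI etC : ∀ i : ↥t, Algebra.Etale Γ(S, U) Γ(X, Vx i.1) := fun i =>
    f.etale_appLE hU (hVxa i.1) (hVxle i.1)
  haveI qfC : ∀ i : ↥t, Algebra.QuasiFinite Γ(S, U) Γ(X, Vx i.1) := fun i => inferInstance
  have hinj : ∀ i : ↥t, Function.Injective (algebraMap Γ(S, U) Γ(X, Vx i.1)) := fun i =>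
    injective_algebraMap_of_flat _ _
  let r : ∀ i : ↥t, Γ(X, V) →ₐ[Γ(S, U)] Γ(X, Vx i.1) := fun i =>
    { toRingHom := (X.presheaf.map (homOfLE (hVxle i.1)).op).hom
      commutes' := fun a => rfl }
  refine finite_integralClosure_of_pieces Γ(S, U) Γ(X, V) hN2 (fun i : ↥t => Γ(X, Vx i.1))
    hinj r ?_
  intro b hb
  apply Groth.Agent.Lib.H9RelNormNormalB.eq_zero_of_germ V
  intro x hx
  obtain ⟨i, hi⟩ := Set.mem_iUnion.mp (ht hx)
  obtain ⟨hit, hxi⟩ := Set.mem_iUnion.mp hi
  have h1 : (X.presheaf.map (homOfLE (hVxle i)).op).hom b = 0 := hb ⟨i, hit⟩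
  have h2 := TopCat.Presheaf.germ_res_apply X.presheaf (homOfLE (hVxle i)) x hxi b
  rw [← h2]
  erw [h1]
  rw [map_zero]

/-- The relative normalization of a normal locally Noetherian scheme of characteristic zero in a
quasi-compact étale scheme over it is finite. -/
theorem isFinite_fromNormalization {k : Type u} [Field k] [CharZero k] {X S : Scheme.{u}}
    (σ : S ⟶ Spec (CommRingCat.of k)) [IsLocallyNoetherian S] (hS : Pi1.IsNormalScheme S)
    (f : X ⟶ S) [Etale f] [QuasiCompact f] [QuasiSeparated f] :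
    IsFinite f.fromNormalization := by
  have hsup : (⨆ V : {V : S.affineOpens // IsIrreducible (V.1 : Set S)}, (V.1.1 : S.Opens)) =
      ⊤ := by
    rw [eq_top_iff]
    intro z _
    obtain ⟨W, hW, hzW, -, hirr⟩ := exists_irreducible_affine_nhd hS ⊤ z trivial
    exact Opens.mem_iSup.mpr ⟨⟨⟨W, hW⟩, hirr⟩, hzW⟩
  exact isFinite_fromNormalization_of_cover f
    (fun V : {V : S.affineOpens // IsIrreducible (V.1 : Set S)} => V.1) hsup
    (fun V => finite_integralClosure_sections σ hS f V.1.1 V.1.2 V.2)

end Groth.Agent.Lib.H9NeronEtFinB
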