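/-
Helper library (helper9): for a locally quasi-finite morphism of finite type `f : X ⟶ Y`
(quasi-compact, quasi-separated) from a normal integral scheme, the canonical morphism
`f.toNormalization` to the relative normalization is a local isomorphism.
-/
import Mathlib
import Groth.Agent.Lib.H9FibrBirA

set_option autoImplicit false
set_option linter.style.haveILetI false
universe u

open AlgebraicGeometry CategoryTheory

namespace Groth.Agent.Lib.H9ZMTLocIso

/-- If `ψ : C → B` is injective, every element of `B` becomes an element of `C` after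
multiplication by a power of `ψ r₀`, and `B'` is the localization of `B` away from `ψ r₀`,
then `B'` is the localization of `C` away from `r₀`. -/
theorem isLocalization_away_comp {C B B' : Type u} [CommRing C] [CommRing B] [CommRing B']
    (ψ : C →+* B) (hinj : Function.Injective ψ) (r₀ : C)
    (hr : ∀ b : B, ∃ (k : ℕ) (c : C), ψ r₀ ^ k * b = ψ c) [Algebra B B']
    [IsLocalization.Away (ψ r₀) B'] (hinj' : Function.Injective (algebraMap B B')) :
    @IsLocalization.Away C _ r₀ B' _ ((algebraMap B B').comp ψ).toAlgebra := by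
  letI : Algebra C B' := ((algebraMap B B').comp ψ).toAlgebra
  have hmap : ∀ c : C, algebraMap C B' c = algebraMap B B' (ψ c) := fun c => rfl
  change IsLocalization (Submonoid.powers r₀) B'
  rw [isLocalization_iff]
  refine ⟨?_, ?_, ?_⟩
  · rintro ⟨_, n, rfl⟩
    rw [hmap, map_pow, map_pow]
    exact (IsLocalization.Away.algebraMap_isUnit (ψ r₀)).pow n
  · intro z
    obtain ⟨⟨b, ⟨_, n, rfl⟩⟩, hz⟩ := IsLocalization.surj (Submonoid.powers (ψ r₀)) z
    obtain ⟨k, c, hc⟩ := hr b
    refine ⟨(c, ⟨r₀ ^ (n + k), n + k, rfl⟩), ?_⟩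
    simp only [hmap, map_pow] at hz ⊢
    rw [← hc, map_mul, map_pow, pow_add, ← mul_assoc, hz]
    ring
  · intro c₁ c₂ h
    refine ⟨1, ?_⟩
    have := hinj (hinj' h)
    simp [this]

/-- On a normal integral scheme, a section over a nonempty open `U ≤ W` which is integral over a
ring mapping to `Γ(X, W)` extends to a section over `W`, integral over that ring. -/
theorem exists_section_of_isIntegral {X : Scheme.{u}} [IsIntegral X] (hX : Pi1.IsNormalScheme X)
    (W U : X.Opens) (hUW : U ≤ W) [hU : Nonempty U]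
    {A : Type u} [CommRing A] (φ : A →+* Γ(X, W)) (b : Γ(X, U))
    (hb : ((X.presheaf.map (homOfLE hUW).op).hom.comp φ).IsIntegralElem b) :
    ∃ c : Γ(X, W), φ.IsIntegralElem c ∧ (X.presheaf.map (homOfLE hUW).op).hom c = b := by
  haveI hW : Nonempty W := by
    obtain ⟨⟨y, hy⟩⟩ := hU
    exact ⟨⟨y, hUW hy⟩⟩
  obtain ⟨p, hp, hpb⟩ := hb
  have hgerm : (X.germToFunctionField U).hom.comp (X.presheaf.map (homOfLE hUW).op).hom =
      (X.germToFunctionField W).hom := by
    rw [← CommRingCat.hom_comp]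
    congr 1
    exact X.presheaf.germ_res _ _ _
  have hint : IsIntegral Γ(X, W) ((X.germToFunctionField U).hom b) := by
    refine ⟨p.map φ, hp.map φ, ?_⟩
    rw [Polynomial.eval₂_map]
    have h1 := congrArg (X.germToFunctionField U).hom hpb
    rw [Polynomial.hom_eval₂, map_zero, ← RingHom.comp_assoc, hgerm] at h1
    exact h1
  haveI := Groth.Agent.Lib.H9FibrBirA.isIntegrallyClosedIn_functionField X hX W
  obtain ⟨c, hc⟩ := (IsIntegrallyClosedIn.isIntegral_iff (R := Γ(X, W))
    (A := X.functionField)).mp hint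
  have hcb : (X.presheaf.map (homOfLE hUW).op).hom c = b := by
    apply X.germToFunctionField_injective U
    have h2 : (X.germToFunctionField U).hom ((X.presheaf.map (homOfLE hUW).op).hom c) =
        (X.germToFunctionField W).hom c := by
      rw [← hgerm]; rfl
    exact h2.trans hc
  refine ⟨c, ⟨p, hp, ?_⟩, hcb⟩
  apply X.germToFunctionField_injective W
  have h3 : (X.germToFunctionField W).hom (Polynomial.eval₂ φ c p) =
      Polynomial.eval₂ ((X.germToFunctionField W).hom.comp φ) ((X.germToFunctionField U).hom b)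
        p := by
    rw [Polynomial.hom_eval₂]
    congr 1
  rw [h3, map_zero]
  have h1 := congrArg (X.germToFunctionField U).hom hpb
  rw [Polynomial.hom_eval₂, map_zero, ← RingHom.comp_assoc, hgerm] at h1
  exact h1

set_option backward.isDefEq.respectTransparency false in
/-- For a locally quasi-finite morphism of finite type from a normal integral scheme, the
canonical morphism to the relative normalization is a local isomorphism. -/
theorem isLocalIso_toNormalization {X Y : Scheme.{u}} [IsIntegral X]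
    (hN : ∀ x : X, IsIntegrallyClosed (X.presheaf.stalk x)) (f : X ⟶ Y)
    [LocallyQuasiFinite f] [LocallyOfFiniteType f] [QuasiCompact f] [QuasiSeparated f] :
    IsLocalIso f.toNormalization := by
  have hX : Pi1.IsNormalScheme X := fun x => ⟨inferInstance, hN x⟩
  constructor
  intro x
  obtain ⟨_, ⟨(V : Y.Opens), hV, rfl⟩, hyV, -⟩ :=
    Y.isBasis_affineOpens.exists_subset_of_mem_open (Set.mem_univ (f x)) isOpen_univ
  obtain ⟨_, ⟨(U : X.Opens), hU, rfl⟩, hxU, hUV : U ≤ f ⁻¹ᵁ V⟩ :=
    X.isBasis_affineOpens.exists_subset_of_mem_open hyV (f ⁻¹ᵁ V).2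
  haveI : Nonempty U := ⟨⟨x, hxU⟩⟩
  -- Zariski's main theorem, algebraic form
  obtain ⟨r, hrn, hrint, hr⟩ : ∃ r : Γ(X, U), r ∉ (hU.primeIdealOf ⟨x, hxU⟩).asIdeal ∧
      (f.appLE V U hUV).hom.IsIntegralElem r ∧
      ∀ b, ∃ m : ℕ, (f.appLE V U hUV).hom.IsIntegralElem (r ^ m * b) := by
    have hft : (f.appLE V U hUV).hom.FiniteType := f.finiteType_appLE hV hU hUV
    algebraize [(f.appLE V U hUV).hom]
    have hqf' : Algebra.QuasiFiniteAt Γ(Y, V) (hU.primeIdealOf ⟨x, hxU⟩).asIdeal :=
      (f.quasiFiniteAt x).quasiFiniteAt hU hV hUV hxU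
    have hZ := Algebra.ZariskisMainProperty.of_finiteType (R := Γ(Y, V))
      (hU.primeIdealOf ⟨x, hxU⟩).asIdeal
    rw [Algebra.zariskisMainProperty_iff] at hZ
    exact hZ
  letI algW : Algebra Γ(Y, V) Γ(X, f ⁻¹ᵁ V) := (f.app V).hom.toAlgebra
  let C := integralClosure Γ(Y, V) Γ(X, f ⁻¹ᵁ V)
  let res : Γ(X, f ⁻¹ᵁ V) →+* Γ(X, U) := (X.presheaf.map (homOfLE hUV).op).hom
  have hres_inj : Function.Injective res := map_injective_of_isIntegral X (homOfLE hUV)
  let ψ : C →+* Γ(X, U) := res.comp C.val.toRingHom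
  have hψ_inj : Function.Injective ψ := hres_inj.comp Subtype.val_injective
  have hcomp : res.comp (f.app V).hom = (f.appLE V U hUV).hom := rfl
  have key : ∀ b : Γ(X, U), (f.appLE V U hUV).hom.IsIntegralElem b → ∃ c : C, ψ c = b := by
    intro b hb
    obtain ⟨c, hc, hcb⟩ := exists_section_of_isIntegral hX (f ⁻¹ᵁ V) U hUV (f.app V).hom b hb
    exact ⟨⟨c, hc⟩, hcb⟩
  obtain ⟨r₀, rfl⟩ := key r hrint
  have hr' : ∀ b : Γ(X, U), ∃ (k : ℕ) (c : C), ψ r₀ ^ k * b = ψ c := by
    intro b
    obtain ⟨m, hm⟩ := hr b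
    obtain ⟨c, hc⟩ := key _ hm
    exact ⟨m, c, hc.symm⟩
  have hxr : x ∈ X.basicOpen (ψ r₀) := by
    have h1 : hU.primeIdealOf ⟨x, hxU⟩ ∈ PrimeSpectrum.basicOpen (ψ r₀) := hrn
    rw [← hU.fromSpec_preimage_basicOpen] at h1
    have h2 : hU.fromSpec (hU.primeIdealOf ⟨x, hxU⟩) ∈ X.basicOpen (ψ r₀) := h1
    rwa [hU.fromSpec_primeIdealOf] at h2
  refine ⟨X.basicOpen (ψ r₀), hxr, ?_⟩
  have hUr : IsAffineOpen (X.basicOpen (ψ r₀)) := hU.basicOpen (ψ r₀)
  have hle : X.basicOpen (ψ r₀) ≤ f ⁻¹ᵁ V := (X.basicOpen_le (ψ r₀)).trans hUV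
  have h1 : (X.basicOpen (ψ r₀)).ι ≫ f.toNormalization =
      ((X.basicOpen (ψ r₀)).toSpecΓ ≫ Spec.map (CommRingCat.ofHom
        (((X.presheaf.map (homOfLE hle).op).hom).comp C.val.toRingHom))) ≫
        f.normalizationOpenCover.f ⟨V, hV⟩ := by
    rw [← X.homOfLE_ι hle, Category.assoc, f.ι_toNormalization ⟨V, hV⟩,
      ← Scheme.Opens.toSpecΓ_SpecMap_presheaf_map_assoc, ← Spec.map_comp_assoc]
    rfl
  rw [h1]
  haveI : IsIso (X.basicOpen (ψ r₀)).toSpecΓ := by
    rw [← hUr.isoSpec_hom]; infer_instance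
  haveI : IsOpenImmersion (Spec.map (CommRingCat.ofHom
      (((X.presheaf.map (homOfLE hle).op).hom).comp C.val.toRingHom))) := by
    haveI : IsLocalization.Away (ψ r₀) Γ(X, X.basicOpen (ψ r₀)) := hU.isLocalization_basicOpen _
    have hinj' : Function.Injective (algebraMap Γ(X, U) Γ(X, X.basicOpen (ψ r₀))) := by
      haveI : Nonempty (X.basicOpen (ψ r₀)) := ⟨⟨x, hxr⟩⟩
      exact map_injective_of_isIntegral X (homOfLE (X.basicOpen_le (ψ r₀)))
    have hloc := isLocalization_away_comp ψ hψ_inj r₀ hr' (B' := Γ(X, X.basicOpen (ψ r₀))) hinj'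
    letI : Algebra C Γ(X, X.basicOpen (ψ r₀)) :=
      ((algebraMap Γ(X, U) Γ(X, X.basicOpen (ψ r₀))).comp ψ).toAlgebra
    have h2 := IsOpenImmersion.of_isLocalization (R := C) (S := Γ(X, X.basicOpen (ψ r₀))) r₀
    convert h2 using 3
    ext c
    change (X.presheaf.map (homOfLE hle).op).hom c.1 =
      (X.presheaf.map (homOfLE (X.basicOpen_le (ψ r₀))).op).hom
        ((X.presheaf.map (homOfLE hUV).op).hom c.1)
    rw [← CommRingCat.comp_apply, ← Functor.map_comp]
    rfl
  infer_instance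

end Groth.Agent.Lib.H9ZMTLocIso
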