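/-
helper9: on a normal locally Noetherian scheme `Z`, sections of integral morphisms `P ⟶ Z` defined
over a dense open extend to all of `Z` (the relative normalization of `Z` in a dense open is `Z`).
-/
import Mathlib
import Groth.Prelude.Def_Pi1
import Groth.Agent.Lib.H9AlignedEt
import Groth.Agent.Lib.H9ZMTLocIso
import Groth.Agent.Lib.R2LeadWENormal

set_option autoImplicit false
set_option linter.style.haveILetI false
universe u

open CategoryTheory CategoryTheory.Limits AlgebraicGeometry TopologicalSpace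

namespace Groth.Agent.Lib.H9NormExt

theorem presheaf_map_comp_eq {X : Scheme.{u}} {A B C D : (X.Opens)ᵒᵖ} (f : A ⟶ B) (g : B ⟶ D)
    (f' : A ⟶ C) (g' : C ⟶ D) :
    X.presheaf.map f ≫ X.presheaf.map g = X.presheaf.map f' ≫ X.presheaf.map g' := by
  rw [← Functor.map_comp, ← Functor.map_comp]
  congr 1

/-- On a normal scheme, sections over an integral open `V` are integrally closed in the sections
over any nonempty smaller open. -/
theorem exists_section_of_isIntegral_open {Z : Scheme.{u}} (hZ : Pi1.IsNormalScheme Z)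
    (V O' : Z.Opens) [IsIntegral (V : Scheme.{u})] (hO : O' ≤ V) [hne : Nonempty O']
    (b : Γ(Z, O')) (hb : (Z.presheaf.map (homOfLE hO).op).hom.IsIntegralElem b) :
    ∃ c : Γ(Z, V), (Z.presheaf.map (homOfLE hO).op).hom c = b := by
  have hV : Pi1.IsNormalScheme (V : Scheme.{u}) := Groth.Agent.Lib.R2LeadWENormal.main V.ι hZ
  let U : (V : Scheme.{u}).Opens := V.ι ⁻¹ᵁ O'
  haveI : Nonempty U := by
    obtain ⟨⟨x, hx⟩⟩ := hne
    exact ⟨⟨⟨x, hO hx⟩, hx⟩⟩
  have key' : V.topIso.inv ≫ (V : Scheme.{u}).presheaf.map (homOfLE (le_top : U ≤ ⊤)).op =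
      Z.presheaf.map (homOfLE hO).op ≫ V.ι.app O' := by
    simp only [Scheme.Opens.topIso, Functor.mapIso_inv, Scheme.Opens.ι_app,
      Scheme.Opens.toScheme_presheaf_map]
    exact presheaf_map_comp_eq _ _ _ _
  let φ : Γ(Z, V) →+* Γ((V : Scheme.{u}), ⊤) := V.topIso.inv.hom
  let b' : Γ((V : Scheme.{u}), U) := (V.ι.app O').hom b
  have key : (((V : Scheme.{u}).presheaf.map (homOfLE (le_top : U ≤ ⊤)).op).hom.comp φ) =
      (V.ι.app O').hom.comp (Z.presheaf.map (homOfLE hO).op).hom := by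
    simp only [φ]
    rw [← CommRingCat.hom_comp, ← CommRingCat.hom_comp, key']
  have hb' : (((V : Scheme.{u}).presheaf.map (homOfLE (le_top : U ≤ ⊤)).op).hom.comp
      φ).IsIntegralElem b' := by
    obtain ⟨p, hp, hpb⟩ := hb
    refine ⟨p, hp, ?_⟩
    rw [key]
    simp only [b']
    rw [← Polynomial.hom_eval₂, hpb, map_zero]
  obtain ⟨c', -, hc'⟩ := Groth.Agent.Lib.H9ZMTLocIso.exists_section_of_isIntegral hV ⊤ U le_top
    φ b' hb'
  refine ⟨V.topIso.hom.hom c', ?_⟩
  have hiso : IsIso (V.ι.app O') := Scheme.Hom.isIso_app V.ι O' (by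
    rw [Scheme.Opens.opensRange_ι]; exact hO)
  have hinj : Function.Injective (V.ι.app O').hom :=
    ((ConcreteCategory.isIso_iff_bijective _).mp hiso).1
  apply hinj
  change _ = b'
  rw [← hc']
  have h1 := congrArg (fun m => m.hom (V.topIso.hom.hom c')) key'
  simp only [CommRingCat.hom_comp, RingHom.comp_apply] at h1
  rw [← h1]
  congr 1
  rw [← CommRingCat.comp_apply, Iso.hom_inv_id]
  rfl

/-- The relative normalization of a normal locally Noetherian scheme in a dense open subscheme is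
the scheme itself. -/
theorem isIso_fromNormalization_of_dense {Z : Scheme.{u}} [IsLocallyNoetherian Z]
    (hZ : Pi1.IsNormalScheme Z) (W : Z.Opens) (hW : Dense (W : Set Z)) :
    IsIso W.ι.fromNormalization := by
  haveI : IsReduced Z := by
    haveI : ∀ z : Z, _root_.IsReduced (Z.presheaf.stalk z) := fun z => by
      haveI := (hZ z).1
      infer_instance
    exact isReduced_of_isReduced_stalk _
  have hsup : (⨆ V : {V : Z.affineOpens // IsIrreducible (V.1 : Set Z)}, (V.1.1 : Z.Opens)) = ⊤ := by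
    rw [eq_top_iff]
    intro z _
    have hC := irreducibleComponent_mem_irreducibleComponents z
    have hCo : IsOpen (irreducibleComponent z) :=
      Groth.Agent.Lib.H9AlignedEt.isOpen_of_mem_irreducibleComponents (fun w => (hZ w).1) hC
    obtain ⟨_, ⟨V, hV, rfl⟩, hzV, hVC⟩ := Z.isBasis_affineOpens.exists_subset_of_mem_open
      (mem_irreducibleComponent : z ∈ irreducibleComponent z) hCo
    have hirr : IsIrreducible (V : Set Z) :=
      ⟨⟨z, hzV⟩, isIrreducible_irreducibleComponent.isPreirreducible.open_subset V.2 hVC⟩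
    exact Opens.mem_iSup.mpr ⟨⟨⟨V, hV⟩, hirr⟩, hzV⟩
  change MorphismProperty.isomorphisms Scheme.{u} _
  rw [IsZariskiLocalAtTarget.iff_of_iSup_eq_top (P := MorphismProperty.isomorphisms Scheme.{u}) _
    hsup]
  rintro ⟨⟨V, hV⟩, hirr⟩
  change IsIso (W.ι.fromNormalization ∣_ V)
  rw [isIso_morphismRestrict_iff_isIso_app _ hV, Scheme.Hom.fromNormalization_app _ hV]
  letI := (W.ι.app V).hom.toAlgebra
  suffices h : IsIso (CommRingCat.ofHom (algebraMap Γ(Z, V)
      (integralClosure Γ(Z, V) Γ((W : Scheme.{u}), W.ι ⁻¹ᵁ V)))) from inferInstance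
  rw [ConcreteCategory.isIso_iff_bijective]
  have hdense : DenseRange W.ι := by
    rw [DenseRange, Scheme.Opens.range_ι]
    exact hW
  have hinj : Function.Injective (W.ι.app V).hom :=
    Groth.Agent.Lib.H9AlignedEt.app_injective_of_dense W.ι hdense V
  constructor
  · intro a a' haa'
    apply hinj
    exact congrArg Subtype.val haa'
  · rintro ⟨b, hb⟩
    haveI : IrreducibleSpace ↥(V : Scheme.{u}) := Subtype.irreducibleSpace hirr
    haveI : IsIntegral (V : Scheme.{u}) := isIntegral_of_irreducibleSpace_of_isReduced _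
    have hO : W.ι ''ᵁ W.ι ⁻¹ᵁ V ≤ V := by
      intro x hx
      obtain ⟨w, hw, rfl⟩ := hx
      exact hw
    haveI : Nonempty (W.ι ''ᵁ W.ι ⁻¹ᵁ V : Z.Opens) := by
      obtain ⟨x, hxV, hxW⟩ := hW.inter_open_nonempty V V.2 hirr.1
      exact ⟨⟨x, ⟨⟨x, hxW⟩, hxV, rfl⟩⟩⟩
    have hb' : (Z.presheaf.map (homOfLE hO).op).hom.IsIntegralElem b := hb
    obtain ⟨c, hc⟩ := exists_section_of_isIntegral_open hZ V (W.ι ''ᵁ W.ι ⁻¹ᵁ V) hO b hb'
    exact ⟨c, Subtype.ext hc⟩

/-- Extension of sections of integral morphisms over a dense open of a normal locally Noetherian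
scheme. -/
theorem exists_section_extension {Z P : Scheme.{u}} [IsLocallyNoetherian Z]
    (hZ : Pi1.IsNormalScheme Z) (W : Z.Opens) (hW : Dense (W : Set Z)) (q : P ⟶ Z)
    [IsIntegralHom q] (g₀ : (W : Scheme.{u}) ⟶ P) (hg₀ : g₀ ≫ q = W.ι) :
    ∃ g : Z ⟶ P, g ≫ q = 𝟙 Z ∧ W.ι ≫ g = g₀ := by
  haveI := isIso_fromNormalization_of_dense hZ W hW
  let d := W.ι.normalizationDesc g₀ q hg₀.symm
  have h1 : W.ι.toNormalization ≫ d = g₀ := W.ι.toNormalization_normalizationDesc g₀ q hg₀.symm
  have h2 : d ≫ q = W.ι.fromNormalization := W.ι.normalizationDesc_comp g₀ q hg₀.symm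
  refine ⟨inv W.ι.fromNormalization ≫ d, ?_, ?_⟩
  · rw [Category.assoc, h2, IsIso.inv_hom_id]
  · have h3 : W.ι ≫ inv W.ι.fromNormalization = W.ι.toNormalization := by
      rw [IsIso.comp_inv_eq]
      exact W.ι.toNormalization_fromNormalization.symm
    rw [← Category.assoc, h3, h1]

end Groth.Agent.Lib.H9NormExt
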