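/-
helper9: the weak Néron mapping property (for étale test schemes) implies uniqueness of extensions
for smooth test schemes, in characteristic zero (S13422).
-/
import Mathlib
import Groth.Prelude.Def_CInt
import Groth.Agent.Lib.H9EtSecPt
import Groth.Agent.Lib.Helper12SchDenseExt

set_option autoImplicit false
set_option linter.style.haveILetI false
universe u

open CategoryTheory CategoryTheory.Limits AlgebraicGeometry TensorProduct

namespace Groth.Agent.Lib.H9WeakNMPInj

/-- Every prime `q` of a finite type `R`-algebra `B` specializes, inside its fibre, to the kernel of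
a ring map `φ : B → L` into a finite extension `L` of the residue field of `q ∩ R`. -/
theorem exists_closed_fibre_point {R B : Type u} [CommRing R] [CommRing B] [Algebra R B]
    [Algebra.FiniteType R B] (q : PrimeSpectrum B) :
    ∃ (L : Type u) (_ : Field L)
      (_ : Algebra (PrimeSpectrum.comap (algebraMap R B) q).asIdeal.ResidueField L)
      (_ : FiniteDimensional (PrimeSpectrum.comap (algebraMap R B) q).asIdeal.ResidueField L)
      (φ : B →+* L),
      φ.comp (algebraMap R B) =
        (algebraMap (PrimeSpectrum.comap (algebraMap R B) q).asIdeal.ResidueField L).comp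
          (algebraMap R (PrimeSpectrum.comap (algebraMap R B) q).asIdeal.ResidueField) ∧
      q.asIdeal ≤ RingHom.ker φ := by
  set 𝔭 := PrimeSpectrum.comap (algebraMap R B) q with h𝔭
  let Q : PrimeSpectrum (𝔭.asIdeal.Fiber B) := PrimeSpectrum.preimageEquivFiber R B 𝔭 ⟨q, rfl⟩
  have hQ : (PrimeSpectrum.preimageEquivFiber R B 𝔭).symm Q = ⟨q, rfl⟩ :=
    (PrimeSpectrum.preimageEquivFiber R B 𝔭).symm_apply_apply _
  have hQq : ∀ b ∈ q.asIdeal, (1 : 𝔭.asIdeal.ResidueField) ⊗ₜ[R] b ∈ Q.asIdeal := by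
    intro b hb
    have h1 := congrArg (fun t => (t : PrimeSpectrum B).asIdeal) (congrArg Subtype.val hQ)
    have h2 : b ∈ ((PrimeSpectrum.preimageEquivFiber R B 𝔭).symm Q : PrimeSpectrum B).asIdeal := by
      rw [show ((PrimeSpectrum.preimageEquivFiber R B 𝔭).symm Q : PrimeSpectrum B).asIdeal =
        q.asIdeal from h1]
      exact hb
    exact h2
  obtain ⟨m, hm, hQm⟩ := Ideal.exists_le_maximal Q.asIdeal Q.2.ne_top
  letI : Field (𝔭.asIdeal.Fiber B ⧸ m) := Ideal.Quotient.field m
  haveI : Algebra.FiniteType 𝔭.asIdeal.ResidueField (𝔭.asIdeal.Fiber B ⧸ m) :=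
    Algebra.FiniteType.of_surjective (Ideal.Quotient.mkₐ 𝔭.asIdeal.ResidueField m)
      (Ideal.Quotient.mkₐ_surjective _ m)
  have hfin : FiniteDimensional 𝔭.asIdeal.ResidueField (𝔭.asIdeal.Fiber B ⧸ m) :=
    finite_of_finite_type_of_isJacobsonRing _ _
  refine ⟨𝔭.asIdeal.Fiber B ⧸ m, inferInstance, inferInstance, hfin,
    (Ideal.Quotient.mk m).comp
      (Algebra.TensorProduct.includeRight : B →ₐ[R] 𝔭.asIdeal.Fiber B).toRingHom, ?_, ?_⟩
  · ext a
    simp only [RingHom.comp_apply, AlgHom.toRingHom_eq_coe, RingHom.coe_coe, AlgHom.commutes]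
    rw [IsScalarTower.algebraMap_apply R 𝔭.asIdeal.ResidueField (𝔭.asIdeal.Fiber B)]
    rfl
  · intro b hb
    rw [RingHom.mem_ker, RingHom.comp_apply, Ideal.Quotient.eq_zero_iff_mem]
    exact hQm (hQq b hb)

/-- The residue fields of a scheme over a field of characteristic zero have characteristic zero:
ring version for sections over an open. -/
theorem charZero_residueField {k : Type u} [Field k] [CharZero k] {S : Scheme.{u}}
    (σ : S ⟶ Spec (CommRingCat.of k)) (U : S.Opens) (𝔭 : Ideal Γ(S, U)) [𝔭.IsPrime] :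
    CharZero 𝔭.ResidueField := by
  let ρ : k →+* 𝔭.ResidueField :=
    (algebraMap Γ(S, U) 𝔭.ResidueField).comp
      ((Scheme.ΓSpecIso (CommRingCat.of k)).inv ≫ σ.appTop ≫
        S.presheaf.map (homOfLE (le_top : U ≤ ⊤)).op).hom
  exact charZero_of_injective_ringHom ρ.injective

/-- Main theorem (S13422). -/
theorem main {k : Type u} [Field k] [CharZero k] {S : Scheme.{u}}
    (σ : S ⟶ Spec (CommRingCat.of k)) [IsLocallyNoetherian S] (S₀ : S.Opens)
    (hS₀ : CInt.IsSchematicallyDense S₀) (N : Over S)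
    (hN : ∀ U : Over S, Etale U.hom →
      Function.Injective (fun g : U ⟶ N => (Over.pullback S₀.ι).map g))
    (Z : Over S) [Smooth Z.hom] :
    Function.Injective (fun g : Z ⟶ N => (Over.pullback S₀.ι).map g) := by
  intro g1 g2 h12
  have h12 : (Over.pullback S₀.ι).map g1 = (Over.pullback S₀.ι).map g2 := h12
  haveI : IsLocallyNoetherian Z.left := LocallyOfFiniteType.isLocallyNoetherian Z.hom
  -- agreement over `S₀`
  have hagree : pullback.fst Z.hom S₀.ι ≫ g1.left = pullback.fst Z.hom S₀.ι ≫ g2.left := by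
    have h1 := congrArg (fun t => t.left ≫ pullback.fst N.hom S₀.ι) h12
    simp only [Over.pullback, Over.homMk_left] at h1
    erw [pullback.lift_fst, pullback.lift_fst] at h1
    exact h1
  -- the equalizer
  let ιE := equalizer.ι g1.left g2.left
  let O : Z.left.Opens := ιE.coborderRange
  -- the equalizer is the open subscheme `O`
  let Z₀ : Z.left.Opens := Z.hom ⁻¹ᵁ S₀
  haveI : QuasiCompact Z₀.ι := inferInstance
  haveI : QuasiCompact S₀.ι := inferInstance
  have hZ₀ : CInt.IsSchematicallyDense Z₀ :=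
    Groth.Agent.Lib.Helper12.SchDense.isSchematicallyDense_preimage_of_flat Z.hom S₀ hS₀
  let W : (O : Scheme.{u}).Opens := O.ι ⁻¹ᵁ Z₀
  have hW : CInt.IsSchematicallyDense W :=
    Groth.Agent.Lib.Helper12.SchDense.isSchematicallyDense_preimage_of_flat O.ι Z₀ hZ₀
  have hWr : Set.range (W.ι ≫ O.ι) ⊆ Set.range (pullback.fst Z.hom S₀.ι) := by
    rw [Scheme.Pullback.range_fst, Scheme.Opens.range_ι]
    rintro _ ⟨w, rfl⟩
    rw [Scheme.Hom.comp_apply]
    exact w.2
  have hWeq : (W.ι ≫ O.ι) ≫ g1.left = (W.ι ≫ O.ι) ≫ g2.left := by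
    rw [← IsOpenImmersion.lift_fac (pullback.fst Z.hom S₀.ι) (W.ι ≫ O.ι) hWr, Category.assoc,
      Category.assoc, hagree]
  let l : (W : Scheme.{u}) ⟶ equalizer g1.left g2.left := equalizer.lift (W.ι ≫ O.ι) hWeq
  have hl : l ≫ ιE.liftCoborder = W.ι := by
    rw [← cancel_mono O.ι, Category.assoc, Scheme.Hom.liftCoborder_ι]
    exact equalizer.lift_ι _ _
  haveI : IsIso ιE.liftCoborder :=
    Groth.Agent.Lib.Helper12.SchDense.isIso_of_isSchematicallyDense_factors ιE.liftCoborder W hW l hl
  have hOeq : O.ι ≫ g1.left = O.ι ≫ g2.left := by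
    rw [← cancel_epi ιE.liftCoborder, ← Category.assoc, ← Category.assoc,
      Scheme.Hom.liftCoborder_ι]
    exact equalizer.condition _ _
  -- every morphism equalizing `g1` and `g2` lands in `O`
  have hland : ∀ {T : Scheme.{u}} (h : T ⟶ Z.left), h ≫ g1.left = h ≫ g2.left →
      Set.range h ⊆ (O : Set Z.left) := by
    intro T h hh
    rintro _ ⟨t, rfl⟩
    have h1 : h = (equalizer.lift h hh ≫ ιE.liftCoborder) ≫ O.ι := by
      rw [Category.assoc, Scheme.Hom.liftCoborder_ι]
      exact (equalizer.lift_ι _ _).symm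
    rw [h1, Scheme.Hom.comp_apply]
    exact ((equalizer.lift h hh ≫ ιE.liftCoborder) t).2
  -- `O` is everything
  have hOtop : ∀ z : Z.left, z ∈ O := by
    intro z
    obtain ⟨U, hU, V, hV, hzV, e, hsm⟩ := Smooth.exists_isStandardSmooth Z.hom z
    letI := (Z.hom.appLE U V e).hom.toAlgebra
    haveI : Algebra.FiniteType Γ(S, U) Γ(Z.left, V) := Z.hom.finiteType_appLE hU hV e
    let qz : PrimeSpectrum Γ(Z.left, V) := hV.primeIdealOf ⟨z, hzV⟩
    have hqz : hV.fromSpec qz = z := hV.fromSpec_primeIdealOf ⟨z, hzV⟩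
    obtain ⟨L, _, _, _, φ, hφ, hle⟩ := exists_closed_fibre_point (R := Γ(S, U)) qz
    haveI := charZero_residueField σ U
      (PrimeSpectrum.comap (algebraMap Γ(S, U) Γ(Z.left, V)) qz).asIdeal
    obtain ⟨T, c, h, t, hc, hhc, hht⟩ :=
      Groth.Agent.Lib.H9EtSecPt.exists_etale_section_through Z.hom hU hV e hsm
        (PrimeSpectrum.comap (algebraMap Γ(S, U) Γ(Z.left, V)) qz).asIdeal L φ hφ
    -- weak Néron mapping property
    let TO : Over S := Over.mk c
    let h' : TO ⟶ Z := Over.homMk h hhc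
    have hh' : h' ≫ g1 = h' ≫ g2 := by
      apply hN TO hc
      change (Over.pullback S₀.ι).map (h' ≫ g1) = (Over.pullback S₀.ι).map (h' ≫ g2)
      rw [Functor.map_comp, Functor.map_comp, h12]
    have hh : h ≫ g1.left = h ≫ g2.left := congrArg (fun t => t.left) hh'
    have hz' : hV.fromSpec ⟨RingHom.ker φ, RingHom.ker_isPrime φ⟩ ∈ O := by
      rw [← hht]
      exact hland h hh ⟨t, rfl⟩
    -- `z` specializes to this point
    have hspec : qz ⤳ ⟨RingHom.ker φ, RingHom.ker_isPrime φ⟩ := by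
      rw [← PrimeSpectrum.le_iff_specializes]
      exact hle
    have hspec' : z ⤳ hV.fromSpec ⟨RingHom.ker φ, RingHom.ker_isPrime φ⟩ := by
      rw [← hqz]
      exact hspec.map hV.fromSpec.continuous
    exact hspec'.mem_open O.2 hz'
  haveI : Surjective O.ι := ⟨fun z => ⟨⟨z, hOtop z⟩, rfl⟩⟩
  haveI : IsIso O.ι := (isIso_iff_isOpenImmersion_and_surjective _).mpr ⟨inferInstance, inferInstance⟩
  apply Over.OverMorphism.ext
  rw [← cancel_epi O.ι]
  exact hOeq

end Groth.Agent.Lib.H9WeakNMPInj
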