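/-
helper9: the smooth locus of a finite normal scheme over a normal Noetherian base of characteristic
zero has the Néron mapping property (S13432).
-/
import Mathlib
import Groth.Prelude.Def_CInt
import Groth.Prelude.Def_Pi1
import Groth.Agent.Lib.H9WeakNMPInj
import Groth.Agent.Lib.H9FinNormEt
import Groth.Agent.Lib.H9NormExt
import Groth.Agent.Lib.Helper7N0
import Groth.Agent.Lib.Helper20SchDense

set_option autoImplicit false
set_option linter.style.haveILetI false
universe u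

open CategoryTheory CategoryTheory.Limits AlgebraicGeometry

namespace Groth.Agent.Lib.H9NeronFinite

/-- A scheme smooth over a normal scheme is normal. -/
theorem isNormalScheme_of_smooth {Z S : Scheme.{u}} (f : Z ⟶ S) [Smooth f]
    (hS : Pi1.IsNormalScheme S) : Pi1.IsNormalScheme Z := by
  intro z
  obtain ⟨U, hU, V, hV, hzV, e, hsm⟩ := Smooth.exists_isStandardSmooth f z
  letI := (f.appLE U V e).hom.toAlgebra
  haveI : Algebra.IsStandardSmooth Γ(S, U) Γ(Z, V) := hsm
  haveI : Algebra.Smooth Γ(S, U) Γ(Z, V) := inferInstance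
  haveI hQ : (hV.primeIdealOf ⟨z, hzV⟩).asIdeal.IsPrime := (hV.primeIdealOf ⟨z, hzV⟩).isPrime
  haveI hP : (hU.primeIdealOf ⟨f z, e hzV⟩).asIdeal.IsPrime :=
    (hU.primeIdealOf ⟨f z, e hzV⟩).isPrime
  have hcomap : (hV.primeIdealOf ⟨z, hzV⟩).asIdeal.comap (algebraMap Γ(S, U) Γ(Z, V)) =
      (hU.primeIdealOf ⟨f z, e hzV⟩).asIdeal :=
    congrArg PrimeSpectrum.asIdeal (IsAffineOpen.comap_primeIdealOf_appLE U hU V hV e hzV)
  -- the local ring of `S` at `f z`
  letI := TopCat.Presheaf.algebra_section_stalk S.presheaf ⟨f z, e hzV⟩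
  haveI hlocS := hU.isLocalization_stalk ⟨f z, e hzV⟩
  let eS : Localization.AtPrime (hU.primeIdealOf ⟨f z, e hzV⟩).asIdeal ≃ₐ[Γ(S, U)]
      S.presheaf.stalk (f z) :=
    IsLocalization.algEquiv (hU.primeIdealOf ⟨f z, e hzV⟩).asIdeal.primeCompl _ _
  have hnS : Groth.Agent.Lib.Helper7.NorOpen.IsNormalDomain
      (Localization.AtPrime (hU.primeIdealOf ⟨f z, e hzV⟩).asIdeal) :=
    Groth.Agent.Lib.Helper7.NorOpen.IsNormalDomain.of_ringEquiv eS.symm.toRingEquiv (hS (f z))
  have hnS' : Groth.Agent.Lib.Helper7.NorOpen.IsNormalDomain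
      (Localization.AtPrime ((hV.primeIdealOf ⟨z, hzV⟩).asIdeal.comap
        (algebraMap Γ(S, U) Γ(Z, V)))) := by
    have : ∀ (I J : Ideal Γ(S, U)) [I.IsPrime] [J.IsPrime], I = J →
        Groth.Agent.Lib.Helper7.NorOpen.IsNormalDomain (Localization.AtPrime J) →
        Groth.Agent.Lib.Helper7.NorOpen.IsNormalDomain (Localization.AtPrime I) := by
      intro I J _ _ hIJ h
      subst hIJ
      exact h
    exact this _ _ hcomap hnS
  have hnZ := Groth.Agent.Lib.Helper7.N0.isNormalDomain_of_smooth_of_comap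
    (hV.primeIdealOf ⟨z, hzV⟩).asIdeal hnS'
  letI := TopCat.Presheaf.algebra_section_stalk Z.presheaf ⟨z, hzV⟩
  haveI hlocZ := hV.isLocalization_stalk ⟨z, hzV⟩
  let eZ : Localization.AtPrime (hV.primeIdealOf ⟨z, hzV⟩).asIdeal ≃ₐ[Γ(Z, V)]
      Z.presheaf.stalk z :=
    IsLocalization.algEquiv (hV.primeIdealOf ⟨z, hzV⟩).asIdeal.primeCompl _ _
  exact Groth.Agent.Lib.Helper7.NorOpen.IsNormalDomain.of_ringEquiv eZ.toRingEquiv hnZ

open Groth.Agent.Lib.H9WeakNMPInj in
/-- In characteristic zero, an open subset of a smooth `S`-scheme containing the images of all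
`S`-morphisms from étale `S`-schemes is everything. -/
theorem mem_of_etale_quasiSections {k : Type u} [Field k] [CharZero k] {S : Scheme.{u}}
    (σ : S ⟶ Spec (CommRingCat.of k)) (Z : Over S) [Smooth Z.hom] (O : Z.left.Opens)
    (hO : ∀ (T : Scheme.{u}) (c : T ⟶ S) (h : T ⟶ Z.left), Etale c → h ≫ Z.hom = c →
      Set.range h ⊆ (O : Set Z.left)) (z : Z.left) : z ∈ O := by
  obtain ⟨U, hU, V, hV, hzV, e, hsm⟩ := Smooth.exists_isStandardSmooth Z.hom z
  letI := (Z.hom.appLE U V e).hom.toAlgebra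
  haveI : Algebra.FiniteType Γ(S, U) Γ(Z.left, V) := Z.hom.finiteType_appLE hU hV e
  let qz : PrimeSpectrum Γ(Z.left, V) := hV.primeIdealOf ⟨z, hzV⟩
  have hqz : hV.fromSpec qz = z := hV.fromSpec_primeIdealOf ⟨z, hzV⟩
  obtain ⟨L, _, _, _, φ, hφ, hle⟩ := exists_closed_fibre_point (R := Γ(S, U)) qz
  haveI := charZero_residueField σ U
    (PrimeSpectrum.comap (algebraMap Γ(S, U) Γ(Z.left, V)) qz).asIdeal
  obtain ⟨T, c, h, t, hc, hhc, hht⟩ :=
    Groth.Agent.Lib.H9EtSecPt.exists_etale_section_through Z.hom hU hV e hsm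
      (PrimeSpectrum.comap (algebraMap Γ(S, U) Γ(Z.left, V)) qz).asIdeal L φ hφ
  have hz' : hV.fromSpec ⟨RingHom.ker φ, RingHom.ker_isPrime φ⟩ ∈ O := by
    rw [← hht]
    exact hO T c h hc hhc ⟨t, rfl⟩
  have hspec : qz ⤳ ⟨RingHom.ker φ, RingHom.ker_isPrime φ⟩ := by
    rw [← PrimeSpectrum.le_iff_specializes]
    exact hle
  have hspec' : z ⤳ hV.fromSpec ⟨RingHom.ker φ, RingHom.ker_isPrime φ⟩ := by
    rw [← hqz]
    exact hspec.map hV.fromSpec.continuous
  exact hspec'.mem_open O.2 hz'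

/-- Main theorem (S13432). -/
theorem main {k : Type u} [Field k] [CharZero k] {S : Scheme.{u}}
    (σ : S ⟶ Spec (CommRingCat.of k)) [IsNoetherian S] (hS : Pi1.IsNormalScheme S)
    (S₀ : S.Opens) (hS₀ : CInt.IsSchematicallyDense S₀)
    {T : Scheme.{u}} (π : T ⟶ S) [IsFinite π] [LocallyOfFinitePresentation π]
    (hT : Pi1.IsNormalScheme T) (Z : Over S) [Smooth Z.hom] :
    Function.Bijective (fun g : Z ⟶ Over.mk (π.smoothLocus.ι ≫ π) =>
      (Over.pullback S₀.ι).map g) := by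
  haveI : IsLocallyNoetherian Z.left := LocallyOfFiniteType.isLocallyNoetherian Z.hom
  have hZ : Pi1.IsNormalScheme Z.left := isNormalScheme_of_smooth Z.hom hS
  haveI : IsReduced Z.left := by
    haveI : ∀ z : Z.left, _root_.IsReduced (Z.left.presheaf.stalk z) := fun z => by
      haveI := (hZ z).1
      infer_instance
    exact isReduced_of_isReduced_stalk _
  haveI : QuasiCompact S₀.ι := inferInstance
  let Z₀ : Z.left.Opens := Z.hom ⁻¹ᵁ S₀
  have hZ₀ : CInt.IsSchematicallyDense Z₀ :=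
    Groth.Agent.Lib.Helper12.SchDense.isSchematicallyDense_preimage_of_flat Z.hom S₀ hS₀
  have hZ₀d : Dense (Z₀ : Set Z.left) :=
    Groth.Agent.Lib.Helper20.SchDense.dense_of_isSchematicallyDense Z₀ hZ₀
  have hrange : Set.range (pullback.fst Z.hom S₀.ι) = (Z₀ : Set Z.left) := by
    rw [Scheme.Pullback.range_fst, Scheme.Opens.range_ι]
    rfl
  haveI : IsDominant (pullback.fst Z.hom S₀.ι) := by
    constructor
    rw [DenseRange, hrange]
    exact hZ₀d
  constructor
  · -- injectivity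
    intro g1 g2 h12
    have h12 : (Over.pullback S₀.ι).map g1 = (Over.pullback S₀.ι).map g2 := h12
    have hagree : pullback.fst Z.hom S₀.ι ≫ g1.left = pullback.fst Z.hom S₀.ι ≫ g2.left := by
      have h1 := congrArg (fun t => t.left ≫ pullback.fst (π.smoothLocus.ι ≫ π) S₀.ι) h12
      simp only [Over.pullback, Over.homMk_left] at h1
      erw [pullback.lift_fst, pullback.lift_fst] at h1
      exact h1
    apply Over.OverMorphism.ext
    have hw1 : g1.left ≫ (π.smoothLocus.ι ≫ π) = Z.hom := Over.w g1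
    have hw2 : g2.left ≫ (π.smoothLocus.ι ≫ π) = Z.hom := Over.w g2
    exact ext_of_isDominant_of_isSeparated (π.smoothLocus.ι ≫ π) (hw1.trans hw2.symm)
      (pullback.fst Z.hom S₀.ι) hagree
  · -- surjectivity
    intro γ
    have hγ : γ.left ≫ pullback.snd (π.smoothLocus.ι ≫ π) S₀.ι = pullback.snd Z.hom S₀.ι :=
      Over.w γ
    let a : (Z₀ : Scheme.{u}) ≅ pullback Z.hom S₀.ι :=
      IsOpenImmersion.isoOfRangeEq Z₀.ι (pullback.fst Z.hom S₀.ι) (by
        rw [hrange, Scheme.Opens.range_ι])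
    have ha : a.hom ≫ pullback.fst Z.hom S₀.ι = Z₀.ι := IsOpenImmersion.isoOfRangeEq_hom_fac _ _ _
    let g₀' : (Z₀ : Scheme.{u}) ⟶ T :=
      a.hom ≫ γ.left ≫ pullback.fst (π.smoothLocus.ι ≫ π) S₀.ι ≫ π.smoothLocus.ι
    have hg₀' : g₀' ≫ π = Z₀.ι ≫ Z.hom := by
      have hc1 : pullback.fst (π.smoothLocus.ι ≫ π) S₀.ι ≫ (π.smoothLocus.ι ≫ π) =
          pullback.snd (π.smoothLocus.ι ≫ π) S₀.ι ≫ S₀.ι := pullback.condition
      have hc2 : pullback.fst Z.hom S₀.ι ≫ Z.hom = pullback.snd Z.hom S₀.ι ≫ S₀.ι :=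
        pullback.condition
      calc g₀' ≫ π = a.hom ≫ γ.left ≫
            (pullback.fst (π.smoothLocus.ι ≫ π) S₀.ι ≫ (π.smoothLocus.ι ≫ π)) := by
              simp only [g₀', Category.assoc]
        _ = a.hom ≫ (γ.left ≫ pullback.snd (π.smoothLocus.ι ≫ π) S₀.ι) ≫ S₀.ι := by
              rw [hc1, Category.assoc]
        _ = a.hom ≫ pullback.snd Z.hom S₀.ι ≫ S₀.ι := by rw [hγ]
        _ = (a.hom ≫ pullback.fst Z.hom S₀.ι) ≫ Z.hom := by rw [← hc2, Category.assoc]
        _ = Z₀.ι ≫ Z.hom := by rw [ha]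
    let q : pullback Z.hom π ⟶ Z.left := pullback.fst Z.hom π
    let g₀ : (Z₀ : Scheme.{u}) ⟶ pullback Z.hom π := pullback.lift Z₀.ι g₀' hg₀'.symm
    have hg₀q : g₀ ≫ q = Z₀.ι := pullback.lift_fst _ _ _
    obtain ⟨g, hgq, hg⟩ :=
      Groth.Agent.Lib.H9NormExt.exists_section_extension hZ Z₀ hZ₀d q g₀ hg₀q
    let G : Z.left ⟶ T := g ≫ pullback.snd Z.hom π
    have hGπ : G ≫ π = Z.hom := by
      simp only [G, Category.assoc]
      rw [← pullback.condition, ← Category.assoc]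
      change (g ≫ q) ≫ Z.hom = Z.hom
      rw [hgq, Category.id_comp]
    have hG₀ : Z₀.ι ≫ G = g₀' := by
      simp only [G]
      rw [← Category.assoc, hg]
      exact pullback.lift_snd _ _ _
    -- `G` lands in the smooth locus
    have hGN : ∀ z : Z.left, z ∈ G ⁻¹ᵁ π.smoothLocus := by
      apply mem_of_etale_quasiSections σ Z (G ⁻¹ᵁ π.smoothLocus)
      intro T₁ c h hc hhc
      haveI := hc
      have hu : (h ≫ G) ≫ π = c := by rw [Category.assoc, hGπ, hhc]
      have := Groth.Agent.Lib.H9FinNormEt.range_subset_smoothLocus π hT c (h ≫ G) hu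
      rintro _ ⟨t, rfl⟩
      exact this ⟨t, rfl⟩
    have hGr : Set.range G ⊆ Set.range π.smoothLocus.ι := by
      rw [Scheme.Opens.range_ι]
      rintro _ ⟨z, rfl⟩
      exact hGN z
    let G' : Z.left ⟶ (π.smoothLocus : Scheme.{u}) := IsOpenImmersion.lift π.smoothLocus.ι G hGr
    have hG' : G' ≫ π.smoothLocus.ι = G := IsOpenImmersion.lift_fac _ _ _
    let gN : Z ⟶ Over.mk (π.smoothLocus.ι ≫ π) := Over.homMk G' (by
      change G' ≫ π.smoothLocus.ι ≫ π = Z.hom
      rw [← Category.assoc, hG', hGπ])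
    refine ⟨gN, ?_⟩
    change (Over.pullback S₀.ι).map gN = γ
    apply Over.OverMorphism.ext
    apply pullback.hom_ext
    · have h1 : ((Over.pullback S₀.ι).map gN).left ≫ pullback.fst (π.smoothLocus.ι ≫ π) S₀.ι =
          pullback.fst Z.hom S₀.ι ≫ G' := by
        simp only [Over.pullback, Over.homMk_left]
        erw [pullback.lift_fst]
        rfl
      have h2 : pullback.fst Z.hom S₀.ι = a.inv ≫ Z₀.ι := by
        rw [← ha, Iso.inv_hom_id_assoc]
      have h3 : γ.left ≫ pullback.fst (π.smoothLocus.ι ≫ π) S₀.ι =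
          pullback.fst Z.hom S₀.ι ≫ G' := by
        rw [← cancel_mono π.smoothLocus.ι, Category.assoc, Category.assoc, hG', h2, Category.assoc,
          hG₀]
        simp only [g₀', Iso.inv_hom_id_assoc]
      exact h1.trans h3.symm
    · exact (Over.w ((Over.pullback S₀.ι).map gN)).trans hγ.symm

end Groth.Agent.Lib.H9NeronFinite
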