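/-
helper9: the relative normalization of `Y` in a normal scheme `X` with locally finite irreducible
components is normal, has locally finite irreducible components, and `X ⟶ normalization` induces
a bijection on generic points of irreducible components (Stacks 035L).
-/
import Mathlib
import Groth.Prelude.Def_Pi1
import Groth.Agent.Lib.H9RelNormNormalB

set_option autoImplicit false
set_option linter.style.haveILetI false
universe u

open CategoryTheory CategoryTheory.Limits AlgebraicGeometry TopologicalSpace

namespace Groth.Agent.Lib.H9RelNormNormalC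

open Groth.Agent.Lib.H9RelNormNormalB

section top

variable {T : Type*} [TopologicalSpace T]

theorem subset_closure_of_isIrreducible {W : Set T} (hW : IsOpen W) {η : T}
    (hWη : W ⊆ closure {η}) {S : Set T} (hS : IsIrreducible S) (hSW : (S ∩ W).Nonempty) :
    S ⊆ closure {η} := by
  intro s hs
  rw [mem_closure_iff]
  intro o ho hso
  obtain ⟨w, -, hwo, hwW⟩ := hS.isPreirreducible o W ho hW ⟨s, hs, hso⟩ hSW
  have hw : w ∈ closure {η} := hWη hwW
  rw [mem_closure_iff] at hw
  obtain ⟨z, hzo, hz⟩ := hw o ho hwo
  rw [Set.mem_singleton_iff] at hz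
  subst hz
  exact ⟨z, hzo, rfl⟩

theorem closure_mem_irreducibleComponents {W : Set T} (hW : IsOpen W) {η : T} (hη : η ∈ W)
    (hWη : W ⊆ closure {η}) : closure ({η} : Set T) ∈ irreducibleComponents T := by
  refine ⟨isIrreducible_singleton.closure, fun S hS hle => ?_⟩
  exact subset_closure_of_isIrreducible hW hWη hS ⟨η, hle (subset_closure rfl), hη⟩

theorem eq_closure_of_mem_irreducibleComponents {W : Set T} (hW : IsOpen W) {η : T}
    (hWη : W ⊆ closure {η}) {Z : Set T} (hZ : Z ∈ irreducibleComponents T)
    (hZW : (Z ∩ W).Nonempty) : Z = closure {η} := by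
  have h1 : Z ⊆ closure {η} := subset_closure_of_isIrreducible hW hWη hZ.1 hZW
  exact h1.antisymm (hZ.2 isIrreducible_singleton.closure h1)

end top

variable {X Y : Scheme.{u}} (f : X ⟶ Y) [QuasiCompact f] [QuasiSeparated f]

/-- **Stacks 035L.** -/
theorem main (hX : Pi1.IsNormalScheme X)
    (hfin : LocallyFinite (fun Z : ↥(irreducibleComponents ↥X) => (Z : Set ↥X))) :
    Pi1.IsNormalScheme f.normalization ∧
    LocallyFinite (fun Z : ↥(irreducibleComponents ↥f.normalization) =>
      (Z : Set ↥f.normalization)) ∧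
    (∀ y : X, closure {y} ∈ irreducibleComponents ↥X →
      closure {f.toNormalization.base y} ∈ irreducibleComponents ↥f.normalization) ∧
    (∀ x' : ↥f.normalization, closure {x'} ∈ irreducibleComponents ↥f.normalization →
      ∃! y : X, closure {y} ∈ irreducibleComponents ↥X ∧ f.toNormalization.base y = x') := by
  refine ⟨?_, ?_, ?_, ?_⟩
  · intro x'
    obtain ⟨W₁, hW₁, hx', hdom, hic, -⟩ := exists_local_structure f hX hfin x'
    letI : Algebra Γ(f.normalization, W₁) (f.normalization.presheaf.stalk x') :=
      TopCat.Presheaf.algebra_section_stalk f.normalization.presheaf ⟨x', hx'⟩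
    haveI : IsLocalization.AtPrime (f.normalization.presheaf.stalk x')
        (hW₁.primeIdealOf ⟨x', hx'⟩).asIdeal := hW₁.isLocalization_stalk ⟨x', hx'⟩
    have hle : (hW₁.primeIdealOf ⟨x', hx'⟩).asIdeal.primeCompl ≤
        nonZeroDivisors Γ(f.normalization, W₁) := Ideal.primeCompl_le_nonZeroDivisors _
    exact ⟨IsLocalization.isDomain_of_le_nonZeroDivisors _ hle,
      isIntegrallyClosed_of_isLocalization _ _ hle⟩
  · intro x'
    obtain ⟨W₁, hW₁, hx', -, -, y, hy1, hy2, hy3, hy4⟩ := exists_local_structure f hX hfin x'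
    refine ⟨W₁, W₁.2.mem_nhds hx', ?_⟩
    apply Set.Finite.subset (Set.finite_singleton
      ⟨closure {f.toNormalization y}, closure_mem_irreducibleComponents W₁.2 hy2 hy4⟩)
    intro Z' hZ'
    rw [Set.mem_singleton_iff]
    apply Subtype.ext
    exact eq_closure_of_mem_irreducibleComponents W₁.2 hy4 Z'.2 hZ'
  · intro y₀ hy₀
    obtain ⟨W₁, hW₁, hx', -, -, y, hy1, hy2, hy3, hy4⟩ :=
      exists_local_structure f hX hfin (f.toNormalization y₀)
    have hy₀W : y₀ ∈ f.toNormalization ⁻¹ᵁ W₁ := hx'
    have h1 : y₀ ∈ closure {y} := hy3 hy₀W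
    have h2 : closure {y₀} ⊆ closure {y} :=
      closure_minimal (Set.singleton_subset_iff.mpr h1) isClosed_closure
    have h3 : closure {y} ⊆ closure {y₀} := hy₀.2 isIrreducible_singleton.closure h2
    have h4 : y₀ = y :=
      IsGenericPoint.eq (show IsGenericPoint y₀ (closure {y₀}) from rfl)
        (show IsGenericPoint y (closure {y₀}) from h3.antisymm h2)
    subst h4
    exact closure_mem_irreducibleComponents W₁.2 hy2 hy4
  · intro x' hx'c
    obtain ⟨W₁, hW₁, hx', -, -, y, hy1, hy2, hy3, hy4⟩ := exists_local_structure f hX hfin x'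
    have h1 : x' ∈ closure {f.toNormalization y} := hy4 hx'
    have h2 : closure {x'} ⊆ closure {f.toNormalization y} :=
      closure_minimal (Set.singleton_subset_iff.mpr h1) isClosed_closure
    have h3 := hx'c.2 isIrreducible_singleton.closure h2
    have h4 : f.toNormalization y = x' :=
      IsGenericPoint.eq (show IsGenericPoint (f.toNormalization y) (closure {x'}) from
        h3.antisymm h2) rfl
    refine ⟨y, ⟨hy1, h4⟩, ?_⟩
    rintro y₂ ⟨hy₂c, hy₂⟩
    have hy₂W : y₂ ∈ f.toNormalization ⁻¹ᵁ W₁ := by
      change f.toNormalization y₂ ∈ W₁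
      rw [show f.toNormalization y₂ = x' from hy₂]
      exact hx'
    have h5 : y₂ ∈ closure {y} := hy3 hy₂W
    have h6 : closure {y₂} ⊆ closure {y} :=
      closure_minimal (Set.singleton_subset_iff.mpr h5) isClosed_closure
    have h7 := hy₂c.2 isIrreducible_singleton.closure h6
    exact IsGenericPoint.eq (show IsGenericPoint y₂ (closure {y}) from h6.antisymm h7) rfl

end Groth.Agent.Lib.H9RelNormNormalC
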