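/-
helper9: existence of Néron models of separated quasi-compact étale schemes over a dense open of
a normal Noetherian base of characteristic zero (S13429).
-/
import Mathlib
import Groth.Prelude.Def_CInt
import Groth.Prelude.Def_Pi1
import Groth.Agent.Lib.H9NeronEtFinB
import Groth.Agent.Lib.H9NeronFinite
import Groth.Agent.Lib.H9RelNormNormalC
import Groth.Agent.Lib.Helper6SmQF
import Groth.Agent.Lib.H9FinFlatB

set_option autoImplicit false
set_option linter.style.haveILetI false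
universe u

open CategoryTheory CategoryTheory.Limits AlgebraicGeometry TopologicalSpace

namespace Groth.Agent.Lib.H9NeronEtMain

instance smooth_isMultiplicative : MorphismProperty.IsMultiplicative @Smooth :=
  { (inferInstance : MorphismProperty.IsStableUnderComposition @Smooth) with
    id_mem := fun _ => inferInstanceAs (Smooth (𝟙 _)) }

instance smooth_hasOfPostcomp : MorphismProperty.HasOfPostcompProperty @Smooth
    (@LocallyOfFiniteType ⊓ @FormallyUnramified) := by
  rw [MorphismProperty.hasOfPostcompProperty_iff_le_diagonal]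
  intro X Y f ⟨hft, hfu⟩
  exact inferInstanceAs <| Smooth (pullback.diagonal f)

/-- A morphism over `S` from a smooth `S`-scheme to an unramified `S`-scheme is smooth. -/
theorem smooth_of_comp {X Y S : Scheme.{u}} (g : X ⟶ Y) (q : Y ⟶ S) [Smooth (g ≫ q)]
    [LocallyOfFiniteType q] [FormallyUnramified q] : Smooth g :=
  MorphismProperty.of_postcomp (W := @Smooth)
    (W' := @LocallyOfFiniteType ⊓ @FormallyUnramified) g q ⟨‹_›, ‹_›⟩ ‹_›

theorem preimage_closure_eq_empty {X Y : Type*} [TopologicalSpace X] [TopologicalSpace Y]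
    (h : X → Y) (hopen : IsOpenMap h) (C : Set Y) (hC : h ⁻¹' C = ∅) :
    h ⁻¹' closure C = ∅ := by
  have h1 := hopen.preimage_closure_subset_closure_preimage (s := C)
  rw [hC, closure_empty] at h1
  exact Set.subset_empty_iff.mp h1

set_option maxHeartbeats 3200000 in
/-- From the Néron mapping property of the smooth locus of `π : T ⟶ S` to a Néron model of an
étale `S₀`-scheme `N₀` openly immersed in `T`. -/
theorem exists_neron_of_openImmersion {S : Scheme.{u}} (S₀ : S.Opens)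
    (N₀ : Over (S₀ : Scheme.{u})) [Etale N₀.hom]
    {T : Scheme.{u}} [IsLocallyNoetherian T] (π : T ⟶ S) [LocallyOfFinitePresentation π]
    [LocallyQuasiFinite π] [IsSeparated π] [QuasiCompact π]
    (j : N₀.left ⟶ T) [IsOpenImmersion j] (hj : j ≫ π = N₀.hom ≫ S₀.ι)
    (hNMP : ∀ Z : Over S, Smooth Z.hom → Function.Bijective
      (fun g : Z ⟶ Over.mk (π.smoothLocus.ι ≫ π) => (Over.pullback S₀.ι).map g)) :
    ∃ (N : Over S) (_ : (Over.pullback S₀.ι).obj N ≅ N₀), Etale N.hom ∧ IsSeparated N.hom ∧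
      QuasiCompact N.hom ∧ ∀ Z : Over S, Smooth Z.hom →
        Function.Bijective (fun g : Z ⟶ N => (Over.pullback S₀.ι).map g) := by
  classical
  let E' : T.Opens := π.smoothLocus
  let J : T.Opens := j.opensRange
  let B : T.Opens := π ⁻¹ᵁ S₀
  have hJB : J ≤ B := by
    rintro _ ⟨n, rfl⟩
    change π (j n) ∈ S₀
    rw [← Scheme.Hom.comp_apply, hj, Scheme.Hom.comp_apply]
    have h1 : S₀.ι (N₀.hom n) ∈ Set.range S₀.ι := ⟨_, rfl⟩
    rwa [Scheme.Opens.range_ι] at h1
  have hJE : J ≤ E' := by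
    rintro _ ⟨n, rfl⟩
    have h1 : j ⁻¹ᵁ π.smoothLocus = (j ≫ π).smoothLocus :=
      Scheme.Hom.preimage_smoothLocus_eq j π
    haveI : Smooth (j ≫ π) := by rw [hj]; infer_instance
    have h2 : (j ≫ π).smoothLocus = ⊤ := Scheme.Hom.smoothLocus_eq_top _
    have h3 : n ∈ j ⁻¹ᵁ π.smoothLocus := by rw [h1, h2]; trivial
    exact h3
  let D : Set T := closure ((B : Set T) \ (J : Set T))
  let N' : T.Opens := E' ⊓ ⟨Dᶜ, isClosed_closure.isOpen_compl⟩
  have hN'E : N' ≤ E' := inf_le_left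
  have hJD : ∀ x ∈ J, x ∉ D := by
    intro x hxJ hxD
    obtain ⟨y, hyJ, -, hynJ⟩ := mem_closure_iff.mp hxD J J.2 hxJ
    exact hynJ hyJ
  have hJN' : J ≤ N' := fun x hx => ⟨hJE hx, hJD x hx⟩
  have hN'BJ : ∀ x ∈ N', x ∈ B → x ∈ J := by
    intro x hxN hxB
    by_contra hxJ
    exact hxN.2 (subset_closure ⟨hxB, hxJ⟩)
  -- the objects
  let M : Over S := Over.mk (E'.ι ≫ π)
  let N : Over S := Over.mk (N'.ι ≫ π)
  let ιN : N ⟶ M := Over.homMk (T.homOfLE hN'E) (by
    change T.homOfLE hN'E ≫ E'.ι ≫ π = N'.ι ≫ π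
    rw [← Category.assoc, Scheme.homOfLE_ι])
  haveI hsm : Smooth (N'.ι ≫ π) := by
    rw [← Scheme.Hom.smoothLocus_eq_top_iff, ← Scheme.Hom.preimage_smoothLocus_eq]
    rw [eq_top_iff]
    rintro x -
    exact hN'E x.2
  haveI het : Etale (N'.ι ≫ π) :=
    (Groth.Agent.Lib.Helper6.SmQF.etale_iff_smooth_and_locallyQuasiFinite _).mpr
      ⟨hsm, inferInstance⟩
  haveI hsmE : Smooth (E'.ι ≫ π) := by
    rw [← Scheme.Hom.smoothLocus_eq_top_iff, ← Scheme.Hom.preimage_smoothLocus_eq]
    rw [eq_top_iff]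
    rintro x -
    exact x.2
  haveI hetE : Etale (E'.ι ≫ π) :=
    (Groth.Agent.Lib.Helper6.SmQF.etale_iff_smooth_and_locallyQuasiFinite _).mpr
      ⟨hsmE, inferInstance⟩
  -- the isomorphism over `S₀`
  have hjr : Set.range j ⊆ Set.range N'.ι := by
    rw [Scheme.Opens.range_ι]
    rintro _ ⟨n, rfl⟩
    exact hJN' ⟨n, rfl⟩
  let j' : N₀.left ⟶ (N' : Scheme.{u}) := IsOpenImmersion.lift N'.ι j hjr
  have hj' : j' ≫ N'.ι = j := IsOpenImmersion.lift_fac _ _ _
  let a : N₀.left ⟶ pullback (N'.ι ≫ π) S₀.ι :=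
    pullback.lift j' N₀.hom (by rw [← Category.assoc, hj', hj])
  have ha1 : a ≫ pullback.fst (N'.ι ≫ π) S₀.ι = j' := pullback.lift_fst _ _ _
  have ha2 : a ≫ pullback.snd (N'.ι ≫ π) S₀.ι = N₀.hom := pullback.lift_snd _ _ _
  haveI : IsOpenImmersion j' := by
    haveI : IsOpenImmersion (j' ≫ N'.ι) := by rw [hj']; infer_instance
    exact IsOpenImmersion.of_comp j' N'.ι
  haveI : IsOpenImmersion a := by
    haveI : IsOpenImmersion (a ≫ pullback.fst (N'.ι ≫ π) S₀.ι) := by rw [ha1]; infer_instance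
    exact IsOpenImmersion.of_comp a (pullback.fst (N'.ι ≫ π) S₀.ι)
  haveI : IsIso a := by
    apply isIso_of_isOpenImmersion_of_opensRange_eq_top
    rw [eq_top_iff]
    rintro z -
    have hz1 : N'.ι (pullback.fst (N'.ι ≫ π) S₀.ι z) ∈ J := by
      apply hN'BJ
      · have h1 : N'.ι (pullback.fst (N'.ι ≫ π) S₀.ι z) ∈ Set.range N'.ι := ⟨_, rfl⟩
        rwa [Scheme.Opens.range_ι] at h1
      · change π (N'.ι (pullback.fst (N'.ι ≫ π) S₀.ι z)) ∈ S₀
        have h2 : π (N'.ι (pullback.fst (N'.ι ≫ π) S₀.ι z)) =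
            S₀.ι (pullback.snd (N'.ι ≫ π) S₀.ι z) := by
          rw [← Scheme.Hom.comp_apply, ← Scheme.Hom.comp_apply, ← Scheme.Hom.comp_apply]
          rw [show pullback.fst (N'.ι ≫ π) S₀.ι ≫ N'.ι ≫ π =
            pullback.snd (N'.ι ≫ π) S₀.ι ≫ S₀.ι from pullback.condition]
        rw [h2]
        have h3 : S₀.ι (pullback.snd (N'.ι ≫ π) S₀.ι z) ∈ Set.range S₀.ι := ⟨_, rfl⟩
        rwa [Scheme.Opens.range_ι] at h3
    obtain ⟨n, hn⟩ := hz1
    refine ⟨n, ?_⟩
    apply (pullback.fst (N'.ι ≫ π) S₀.ι).isOpenEmbedding.injective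
    rw [← Scheme.Hom.comp_apply, ha1]
    apply N'.ι.isOpenEmbedding.injective
    rw [← Scheme.Hom.comp_apply, hj']
    exact hn
  let e : (Over.pullback S₀.ι).obj N ≅ N₀ :=
    (Over.isoMk (f := N₀) (g := (Over.pullback S₀.ι).obj N) (asIso a) ha2).symm
  refine ⟨N, e, het, inferInstanceAs (IsSeparated (N'.ι ≫ π)),
    inferInstanceAs (QuasiCompact (N'.ι ≫ π)), ?_⟩
  intro Z hZsm
  haveI : Smooth Z.hom := hZsm
  obtain ⟨hMinj, hMsurj⟩ := hNMP Z hZsm
  haveI : Mono ιN := by
    haveI : Mono ιN.left := inferInstanceAs (Mono (T.homOfLE hN'E))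
    exact Over.mono_of_mono_left ιN
  constructor
  · intro g1 g2 h12
    have h12' : (Over.pullback S₀.ι).map g1 = (Over.pullback S₀.ι).map g2 := h12
    have h3 : g1 ≫ ιN = g2 ≫ ιN := by
      apply hMinj
      change (Over.pullback S₀.ι).map (g1 ≫ ιN) = (Over.pullback S₀.ι).map (g2 ≫ ιN)
      rw [Functor.map_comp, Functor.map_comp, h12']
    exact (cancel_mono ιN).mp h3
  · intro γ
    obtain ⟨gM, hgM⟩ := hMsurj (γ ≫ (Over.pullback S₀.ι).map ιN)
    have hgM' : (Over.pullback S₀.ι).map gM = γ ≫ (Over.pullback S₀.ι).map ιN := hgM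
    let h : Z.left ⟶ T := gM.left ≫ E'.ι
    have hw : gM.left ≫ (E'.ι ≫ π) = Z.hom := Over.w gM
    have hhπ : h ≫ π = Z.hom := by
      simp only [h, Category.assoc]
      exact hw
    haveI : Smooth (gM.left ≫ (E'.ι ≫ π)) := by rw [hw]; infer_instance
    haveI : Smooth gM.left := smooth_of_comp gM.left (E'.ι ≫ π)
    have hopen : IsOpenMap h := (gM.left ≫ E'.ι).isOpenMap
    -- the key relation over `S₀`
    have hkey : pullback.fst Z.hom S₀.ι ≫ h =
        γ.left ≫ pullback.fst (N'.ι ≫ π) S₀.ι ≫ N'.ι := by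
      have k1 : ((Over.pullback S₀.ι).map gM).left ≫ pullback.fst (E'.ι ≫ π) S₀.ι =
          pullback.fst Z.hom S₀.ι ≫ gM.left := by
        simp only [Over.pullback, Over.homMk_left]
        erw [pullback.lift_fst]
      have k2 : ((Over.pullback S₀.ι).map ιN).left ≫ pullback.fst (E'.ι ≫ π) S₀.ι =
          pullback.fst (N'.ι ≫ π) S₀.ι ≫ T.homOfLE hN'E := by
        simp only [Over.pullback, Over.homMk_left]
        erw [pullback.lift_fst]
        rfl
      have k3 : ((Over.pullback S₀.ι).map gM).left =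
          γ.left ≫ ((Over.pullback S₀.ι).map ιN).left := by
        rw [hgM']
        rfl
      calc pullback.fst Z.hom S₀.ι ≫ h
          = (pullback.fst Z.hom S₀.ι ≫ gM.left) ≫ E'.ι := by
            simp only [h, Category.assoc]
        _ = (γ.left ≫ ((Over.pullback S₀.ι).map ιN).left ≫
              pullback.fst (E'.ι ≫ π) S₀.ι) ≫ E'.ι := by
            rw [← k1, k3]
            simp only [Category.assoc]
        _ = γ.left ≫ pullback.fst (N'.ι ≫ π) S₀.ι ≫ N'.ι := by
            rw [k2]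
            simp only [Category.assoc, Scheme.homOfLE_ι]
    have hover : ∀ z : Z.left, Z.hom z ∈ S₀ → h z ∈ N' := by
      intro z hz
      have hzr : z ∈ Set.range (pullback.fst Z.hom S₀.ι) := by
        rw [Scheme.Pullback.range_fst, Scheme.Opens.range_ι]
        exact hz
      obtain ⟨w, rfl⟩ := hzr
      have e1 : h (pullback.fst Z.hom S₀.ι w) =
          N'.ι (pullback.fst (N'.ι ≫ π) S₀.ι (γ.left w)) := by
        rw [← Scheme.Hom.comp_apply, hkey, Scheme.Hom.comp_apply, Scheme.Hom.comp_apply]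
      rw [e1]
      have h1 : N'.ι (pullback.fst (N'.ι ≫ π) S₀.ι (γ.left w)) ∈ Set.range N'.ι := ⟨_, rfl⟩
      rwa [Scheme.Opens.range_ι] at h1
    have hπh : ∀ z : Z.left, π (h z) = Z.hom z := by
      intro z
      rw [← Scheme.Hom.comp_apply, hhπ]
    have hpre : h ⁻¹' ((B : Set T) \ (J : Set T)) = ∅ := by
      ext z
      simp only [Set.mem_preimage, Set.mem_empty_iff_false, iff_false]
      rintro ⟨hzB, hzJ⟩
      have hz : Z.hom z ∈ S₀ := by
        rw [← hπh z]
        exact hzB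
      exact hzJ (hN'BJ _ (hover z hz) hzB)
    have hpreD : h ⁻¹' D = ∅ := preimage_closure_eq_empty h hopen _ hpre
    have hN' : ∀ z : Z.left, h z ∈ N' := by
      intro z
      refine ⟨?_, ?_⟩
      · have h1 : E'.ι (gM.left z) ∈ Set.range E'.ι := ⟨_, rfl⟩
        rw [Scheme.Opens.range_ι] at h1
        exact h1
      · intro hzD
        have h2 : z ∈ h ⁻¹' D := hzD
        rw [hpreD] at h2
        exact h2
    have hr : Set.range h ⊆ Set.range N'.ι := by
      rw [Scheme.Opens.range_ι]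
      rintro _ ⟨z, rfl⟩
      exact hN' z
    let g' : Z.left ⟶ (N' : Scheme.{u}) := IsOpenImmersion.lift N'.ι h hr
    have hg' : g' ≫ N'.ι = h := IsOpenImmersion.lift_fac _ _ _
    let g : Z ⟶ N := Over.homMk g' (by
      change g' ≫ N'.ι ≫ π = Z.hom
      rw [← Category.assoc, hg', hhπ])
    have hgι : g ≫ ιN = gM := by
      apply Over.OverMorphism.ext
      change g' ≫ T.homOfLE hN'E = gM.left
      rw [← cancel_mono E'.ι, Category.assoc, Scheme.homOfLE_ι, hg']
    refine ⟨g, ?_⟩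
    change (Over.pullback S₀.ι).map g = γ
    rw [← cancel_mono ((Over.pullback S₀.ι).map ιN), ← Functor.map_comp, hgι, hgM']

/-- **S13429**: Néron models of separated quasi-compact étale schemes over a dense open of a
normal Noetherian base of characteristic zero. -/
theorem main {k : Type u} [Field k] [CharZero k] {S : Scheme.{u}}
    (σ : S ⟶ Spec (CommRingCat.of k)) [IsNoetherian S] (hS : Pi1.IsNormalScheme S)
    (S₀ : S.Opens) (hS₀ : CInt.IsSchematicallyDense S₀)
    (N₀ : Over (S₀ : Scheme.{u})) [Etale N₀.hom] [IsSeparated N₀.hom] [QuasiCompact N₀.hom] :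
    ∃ (N : Over S) (_ : (Over.pullback S₀.ι).obj N ≅ N₀), Etale N.hom ∧ IsSeparated N.hom ∧
      QuasiCompact N.hom ∧ ∀ Z : Over S, Smooth Z.hom →
        Function.Bijective (fun g : Z ⟶ N => (Over.pullback S₀.ι).map g) := by
  haveI : Etale (N₀.hom ≫ S₀.ι) := inferInstance
  haveI : IsSeparated (N₀.hom ≫ S₀.ι) := inferInstance
  haveI : QuasiCompact (N₀.hom ≫ S₀.ι) := inferInstance
  haveI : LocallyQuasiFinite (N₀.hom ≫ S₀.ι) :=
    ((Groth.Agent.Lib.Helper6.SmQF.etale_iff_smooth_and_locallyQuasiFinite _).mp inferInstance).2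
  haveI hfin : IsFinite (N₀.hom ≫ S₀.ι).fromNormalization :=
    Groth.Agent.Lib.H9NeronEtFinB.isFinite_fromNormalization σ hS _
  haveI : IsOpenImmersion (N₀.hom ≫ S₀.ι).toNormalization := inferInstance
  haveI : LocallyOfFinitePresentation (N₀.hom ≫ S₀.ι).fromNormalization :=
    Groth.Agent.Lib.H9FinFlatB.lfp_of_lft _
  have hN₀n : Pi1.IsNormalScheme N₀.left :=
    Groth.Agent.Lib.R2LeadWENormal.main (N₀.hom ≫ S₀.ι) hS
  haveI : IsLocallyNoetherian N₀.left :=
    LocallyOfFiniteType.isLocallyNoetherian (N₀.hom ≫ S₀.ι)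
  haveI : CompactSpace N₀.left := QuasiCompact.compactSpace_of_compactSpace (N₀.hom ≫ S₀.ι)
  haveI : IsNoetherian N₀.left := {}
  have hlf : LocallyFinite (fun Z : ↥(irreducibleComponents ↥N₀.left) =>
      (Z : Set ↥N₀.left)) := by
    haveI : Finite ↥(irreducibleComponents ↥N₀.left) :=
      NoetherianSpace.finite_irreducibleComponents.to_subtype
    exact locallyFinite_of_finite _
  have hT : Pi1.IsNormalScheme (N₀.hom ≫ S₀.ι).normalization :=
    (Groth.Agent.Lib.H9RelNormNormalC.main _ hN₀n hlf).1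
  haveI : IsLocallyNoetherian (N₀.hom ≫ S₀.ι).normalization :=
    LocallyOfFiniteType.isLocallyNoetherian (N₀.hom ≫ S₀.ι).fromNormalization
  exact exists_neron_of_openImmersion S₀ N₀ (N₀.hom ≫ S₀.ι).fromNormalization
    (N₀.hom ≫ S₀.ι).toNormalization (Scheme.Hom.toNormalization_fromNormalization _)
    (fun Z hZ => by
      haveI := hZ
      exact Groth.Agent.Lib.H9NeronFinite.main σ hS S₀ hS₀ _ hT Z)

end Groth.Agent.Lib.H9NeronEtMain
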