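/-
Helper library (helper8): algebra behind Stacks 0BXC — a height one prime `p` of a reduced
Noetherian ring `R` that is integrally closed in an overring `B` in which some element `g ∈ p`
outside all minimal primes becomes invertible after inverting some `h ∉ p` has `R_p` a DVR.
-/
import Mathlib
import Groth.Agent.Lib.Helper4TotalFrac

set_option autoImplicit false
universe u

open IsLocalRing

namespace Groth.Agent.Lib.Helper8NormDvrAlg

/-- If `S` is integrally closed in an overring `B` in which all nonzerodivisors of `S` become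
invertible, then `S` is integrally closed in its total ring of fractions. -/
theorem mem_range_of_isIntegral_fractionRing {S B : Type*} [CommRing S] [CommRing B] [Algebra S B]
    (hinj : Function.Injective (algebraMap S B))
    (hic : ∀ x : B, IsIntegral S x → x ∈ Set.range (algebraMap S B))
    (hunit : ∀ s ∈ nonZeroDivisors S, IsUnit (algebraMap S B s))
    (t : FractionRing S) (ht : IsIntegral S t) :
    t ∈ Set.range (algebraMap S (FractionRing S)) := by
  let ψ : FractionRing S →ₐ[S] B :=
    IsLocalization.liftAlgHom (M := nonZeroDivisors S) (f := Algebra.ofId S B)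
      (fun s => hunit s.1 s.2)
  obtain ⟨c, hc⟩ := hic (ψ t) (ht.map ψ)
  refine ⟨c, ?_⟩
  have hψinj : Function.Injective ψ := by
    have := (IsLocalization.injective_iff_map_algebraMap_eq (nonZeroDivisors S)
      (S := FractionRing S) (ψ : FractionRing S →+* B)).2 ?_
    · exact this
    · intro x y
      have hx : (ψ : FractionRing S →+* B) (algebraMap S (FractionRing S) x) = algebraMap S B x :=
        ψ.commutes x
      have hy : (ψ : FractionRing S →+* B) (algebraMap S (FractionRing S) y) = algebraMap S B y :=
        ψ.commutes y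
      rw [hx, hy]
      constructor
      · intro h
        rw [IsFractionRing.injective S (FractionRing S) h]
      · intro h
        rw [hinj h]
  apply hψinj
  rw [AlgHom.commutes, hc]

/-- In a local ring in which every non-maximal prime is minimal, if some `g` in the maximal ideal
becomes a unit in `B`, then every nonzerodivisor becomes a unit in `B`. -/
theorem isUnit_algebraMap_of_mem_nonZeroDivisors {S B : Type*} [CommRing S] [IsLocalRing S]
    [CommRing B] [Algebra S B]
    (hdim : ∀ q : Ideal S, q.IsPrime → q ≠ maximalIdeal S → q ∈ minimalPrimes S)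
    (g : S) (hg : g ∈ maximalIdeal S) (hgu : IsUnit (algebraMap S B g))
    (s : S) (hs : s ∈ nonZeroDivisors S) : IsUnit (algebraMap S B s) := by
  by_cases hu : IsUnit s
  · exact hu.map _
  have hgr : g ∈ (Ideal.span {s}).radical := by
    rw [Ideal.radical_eq_sInf, Ideal.mem_sInf]
    rintro q ⟨hsq, hq⟩
    by_cases hqm : q = maximalIdeal S
    · rw [hqm]; exact hg
    · exfalso
      have hmin := hdim q hq hqm
      exact notMem_nonZeroDivisors_of_mem_mem_minimalPrimes
        (hsq (Ideal.subset_span rfl)) hmin hs
  obtain ⟨n, hn⟩ := hgr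
  obtain ⟨c, hc⟩ := Ideal.mem_span_singleton'.mp hn
  have h1 : IsUnit (algebraMap S B (c * s)) := by
    rw [hc, map_pow]; exact hgu.pow n
  rw [map_mul] at h1
  exact isUnit_of_mul_isUnit_right h1

/-- Being integrally closed in an overring passes to localizations. -/
theorem localization_integrallyClosedIn {R B : Type*} [CommRing R] [CommRing B] [Algebra R B]
    (hinj : Function.Injective (algebraMap R B))
    (hic : ∀ x : B, IsIntegral R x → x ∈ Set.range (algebraMap R B))
    (M : Submonoid R) (S : Type*) [CommRing S] [Algebra R S] [IsLocalization M S]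
    (B' : Type*) [CommRing B'] [Algebra B B'] [Algebra R B'] [IsScalarTower R B B']
    [Algebra S B'] [IsScalarTower R S B']
    [IsLocalization (Algebra.algebraMapSubmonoid B M) B'] :
    Function.Injective (algebraMap S B') ∧
      ∀ x : B', IsIntegral S x → x ∈ Set.range (algebraMap S B') := by
  constructor
  · rw [injective_iff_map_eq_zero]
    intro x hx
    obtain ⟨a, m, rfl⟩ := IsLocalization.exists_mk'_eq M x
    have h1 : algebraMap R B' a = 0 := by
      have : algebraMap S B' (algebraMap R S a) = 0 := by
        rw [← IsLocalization.mk'_spec S a m, map_mul, hx, zero_mul]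
      rwa [← IsScalarTower.algebraMap_apply] at this
    rw [IsScalarTower.algebraMap_apply R B B',
      IsLocalization.map_eq_zero_iff (Algebra.algebraMapSubmonoid B M)] at h1
    obtain ⟨⟨_, m', hm', rfl⟩, hm⟩ := h1
    have h2 : m' * a = 0 := hinj (by simpa using hm)
    rw [IsLocalization.mk'_eq_zero_iff]
    exact ⟨⟨m', hm'⟩, h2⟩
  · intro x hx
    obtain ⟨m, hm⟩ := IsIntegral.exists_multiple_integral_of_isLocalization M x hx
    obtain ⟨⟨y, ⟨_, τ, hτ, rfl⟩⟩, hy⟩ :=
      IsLocalization.surj (Algebra.algebraMapSubmonoid B M) (m • x)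
    have hy' : IsIntegral R (algebraMap B B' y) := by
      rw [← hy]
      refine hm.mul ?_
      simp only
      rw [← IsScalarTower.algebraMap_apply]
      exact isIntegral_algebraMap
    obtain ⟨m', hm', hint⟩ := IsLocalization.exists_isIntegral_smul_of_isIntegral_map M hy'
    obtain ⟨c, hc⟩ := hic _ hint
    refine ⟨IsLocalization.mk' S c (⟨m', hm'⟩ * ⟨τ, hτ⟩ * m), ?_⟩
    have hu : IsUnit (algebraMap R B' ((⟨m', hm'⟩ * ⟨τ, hτ⟩ * m : M) : R)) :=
      IsLocalization.map_units_map_submonoid B B' _
    apply hu.mul_left_cancel
    have e1 : algebraMap R B' ((⟨m', hm'⟩ * ⟨τ, hτ⟩ * m : M) : R) *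
        algebraMap S B' (IsLocalization.mk' S c (⟨m', hm'⟩ * ⟨τ, hτ⟩ * m)) = algebraMap R B' c := by
      rw [IsScalarTower.algebraMap_apply R S B', ← map_mul, mul_comm, IsLocalization.mk'_spec,
        ← IsScalarTower.algebraMap_apply]
    rw [e1]
    simp only [Submonoid.coe_mul, map_mul]
    have e2 : algebraMap R B' c = algebraMap B B' (m' • y) := by
      rw [← hc, ← IsScalarTower.algebraMap_apply]
    rw [e2, Algebra.smul_def, map_mul, ← IsScalarTower.algebraMap_apply, ← hy,
      Submonoid.smul_def, Algebra.smul_def, ← IsScalarTower.algebraMap_apply]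
    ring


/-- A reduced Noetherian local ring of dimension at most one which is not a field and is integrally
closed in its total ring of fractions is a discrete valuation ring. -/
theorem dvr_of_integrallyClosed_fractionRing (A : Type u) [CommRing A] [IsLocalRing A]
    [IsNoetherianRing A] [IsReduced A] [hK1 : Ring.KrullDimLE 1 A] (hnf : ¬ IsField A)
    (hsurj : ∀ t : FractionRing A, IsIntegral A t → t ∈ Set.range (algebraMap A (FractionRing A))) :
    ∃ _ : IsDomain A, IsDiscreteValuationRing A := by
  have hinj : Function.Injective (algebraMap A (integralClosure A (FractionRing A))) := by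
    intro a b hab
    apply IsFractionRing.injective A (FractionRing A)
    exact congrArg Subtype.val hab
  have hsurj' : Function.Surjective (algebraMap A (integralClosure A (FractionRing A))) := by
    rintro ⟨t, ht⟩
    obtain ⟨a, ha⟩ := hsurj t ht
    exact ⟨a, Subtype.ext ha⟩
  let ψ : A ≃+* integralClosure A (FractionRing A) :=
    RingEquiv.ofBijective (algebraMap A (integralClosure A (FractionRing A))) ⟨hinj, hsurj'⟩
  have h1 := Groth.Agent.Lib.Helper4.TotalFrac.isDomain_isIntegrallyClosed_localization_of_ringEquiv
    ψ (IsLocalRing.maximalIdeal A)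
    (fun P _ => Groth.Agent.Lib.Helper4.TotalFrac.isDomain_isIntegrallyClosed_localization_normalization P)
  obtain ⟨hD, hIC⟩ := Groth.Agent.Lib.Helper4.TotalFrac.isDomain_isIntegrallyClosed_of_isLocalRing h1
  refine ⟨hD, ?_⟩
  refine ((IsDiscreteValuationRing.TFAE A hnf).out 0 2).mpr ?_
  exact { toIsDomain := hD
          maximalOfPrime := fun {p} hp0 hp =>
            Ring.krullDimLE_one_iff_of_noZeroDivisors.mp hK1 p hp0 hp }

/-- **Main algebraic lemma** (Stacks 0BXC, algebra). -/
theorem dvr_localization {R B : Type u} [CommRing R] [CommRing B] [Algebra R B]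
    [IsNoetherianRing R] [IsReduced R]
    (hinj : Function.Injective (algebraMap R B))
    (hic : ∀ x : B, IsIntegral R x → x ∈ Set.range (algebraMap R B))
    (p : Ideal R) [hp : p.IsPrime] (g h : R) (b : B) (hg : g ∈ p) (hh : h ∉ p)
    (hb : algebraMap R B h = algebraMap R B g * b)
    (hht : ∀ q : Ideal R, q.IsPrime → q < p → q ∈ minimalPrimes R) :
    ∃ _ : IsDomain (Localization.AtPrime p), IsDiscreteValuationRing (Localization.AtPrime p) := by
  let S := Localization.AtPrime p
  let B' := Localization (Algebra.algebraMapSubmonoid B p.primeCompl)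
  obtain ⟨hinj', hic'⟩ := localization_integrallyClosedIn hinj hic p.primeCompl S B'
  -- `g` becomes a unit in `B'`
  have hgu : IsUnit (algebraMap S B' (algebraMap R S g)) := by
    rw [← IsScalarTower.algebraMap_apply, IsScalarTower.algebraMap_apply R B B']
    have hu : IsUnit (algebraMap B B' (algebraMap R B h)) :=
      IsLocalization.map_units B' (⟨algebraMap R B h, h, hh, rfl⟩ :
        Algebra.algebraMapSubmonoid B p.primeCompl)
    rw [hb, map_mul] at hu
    exact isUnit_of_mul_isUnit_left hu
  have hgm : algebraMap R S g ∈ maximalIdeal S :=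
    (IsLocalization.AtPrime.to_map_mem_maximal_iff S p g).2 hg
  -- primes of `S`
  have hdimS : ∀ q : Ideal S, q.IsPrime → q ≠ maximalIdeal S → q ∈ minimalPrimes S := by
    intro q hq hqm
    have hmp := IsLocalization.minimalPrimes_map p.primeCompl S (⊥ : Ideal R)
    rw [Ideal.map_bot] at hmp
    change q ∈ (⊥ : Ideal S).minimalPrimes
    rw [hmp]
    change q.under R ∈ minimalPrimes R
    have hle : q.under R ≤ p := by
      have := (IsLocalization.isPrime_iff_isPrime_disjoint p.primeCompl S q).1 hq
      intro x hx
      by_contra hxp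
      exact Set.disjoint_left.mp this.2 hxp hx
    have hne : q.under R ≠ p := by
      intro he
      apply hqm
      rw [← IsLocalization.map_under p.primeCompl S q, he,
        IsLocalization.AtPrime.map_eq_maximalIdeal]
    exact hht _ (hq.under R) (lt_of_le_of_ne hle hne)
  have hunit : ∀ s ∈ nonZeroDivisors S, IsUnit (algebraMap S B' s) :=
    isUnit_algebraMap_of_mem_nonZeroDivisors hdimS _ hgm hgu
  have hsurj := mem_range_of_isIntegral_fractionRing hinj' hic' hunit
  haveI : Ring.KrullDimLE 1 S := by
    refine Ring.KrullDimLE.mk₁ (fun I hI => ?_)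
    by_cases hIm : I = maximalIdeal S
    · right; rw [hIm]; infer_instance
    · left; exact hdimS I hI hIm
  have hnf : ¬ IsField S := by
    intro hf
    have h0 : algebraMap R S g = 0 := by
      have := IsLocalRing.isField_iff_maximalIdeal_eq.mp hf
      rw [this] at hgm
      simpa using hgm
    rw [h0, map_zero] at hgu
    have : Nontrivial B' := hinj'.nontrivial
    exact not_isUnit_zero hgu
  exact dvr_of_integrallyClosed_fractionRing S hnf hsurj

/-- Finding `h`: if a prime `p` all of whose strict generizations are minimal primes is not in the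
image of `Spec T → Spec R` and `g` lies in no minimal prime, then some `h ∉ p` is a multiple of `g`
in `T`. -/
theorem exists_notMem_mul {R T : Type*} [CommRing R] [CommRing T] (ψ : R →+* T) (p : Ideal R)
    [hp : p.IsPrime] (g : R)
    (hgmin : ∀ q ∈ minimalPrimes R, g ∉ q)
    (hht : ∀ q : Ideal R, q.IsPrime → q < p → q ∈ minimalPrimes R)
    (hrange : ∀ Q : Ideal T, Q.IsPrime → Q.comap ψ ≠ p) :
    ∃ h, h ∉ p ∧ ∃ r : T, ψ h = ψ g * r := by
  by_contra hcon
  push Not at hcon
  have hJ : (Ideal.span {ψ g}).comap ψ ≤ p := by
    intro h hh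
    by_contra hhp
    obtain ⟨r, hr⟩ := Ideal.mem_span_singleton'.mp (Ideal.mem_comap.mp hh)
    exact hcon h hhp r (by rw [← hr, mul_comm])
  obtain ⟨q, hq, hqp⟩ := Ideal.exists_minimalPrimes_le hJ
  obtain ⟨Q, hQ, -, hQq⟩ := Ideal.exists_comap_eq_of_mem_minimalPrimes ψ q hq
  have hqne : q ≠ p := fun h => hrange Q hQ (hQq.trans h)
  have hqmin := hht q hq.isPrime (lt_of_le_of_ne hqp hqne)
  exact hgmin q hqmin (hq.le (Ideal.mem_comap.mpr (Ideal.subset_span rfl)))

end Groth.Agent.Lib.Helper8NormDvrAlg
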