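/-
Helper library (helper8): Stacks 0BXC — the relative normalization has DVR local rings at
dimension-one points missed by the source.
-/
import Groth.Agent.Lib.Helper8NormDvrAlg
import Groth.Agent.Lib.Helper4NormFinite

set_option autoImplicit false
set_option linter.style.haveILetI false
set_option linter.unusedSectionVars false
universe u

open CategoryTheory AlgebraicGeometry TopologicalSpace Opposite
open Groth CAlg

namespace Groth.Agent.Lib.Helper8NormDvrGeo

variable {X Y : Scheme.{u}} (f : X ⟶ Y) [QuasiCompact f] [QuasiSeparated f]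

/-- The comparison map on sections over the preimage of an affine open. -/
noncomputable def secMap (U : Y.Opens) :
    Γ(f.normalization, f.fromNormalization ⁻¹ᵁ U) ⟶ Γ(X, f ⁻¹ᵁ U) :=
  f.toNormalization.appLE (f.fromNormalization ⁻¹ᵁ U) (f ⁻¹ᵁ U)
    (by rw [← Scheme.Hom.comp_preimage, Scheme.Hom.toNormalization_fromNormalization])

theorem secMap_eq {U : Y.Opens} (hU : IsAffineOpen U) :
    letI := (f.app U).hom.toAlgebra
    secMap f U = (f.normalizationObjIso hU).hom ≫
      CommRingCat.ofHom (Subalgebra.val (integralClosure Γ(Y, U) Γ(X, f ⁻¹ᵁ U))).toRingHom :=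
  (f.normalizationObjIso_hom_val hU).symm

theorem secMap_injective {U : Y.Opens} (hU : IsAffineOpen U) :
    Function.Injective (secMap f U).hom := by
  letI := (f.app U).hom.toAlgebra
  rw [secMap_eq f hU, CommRingCat.hom_comp]
  exact Subtype.val_injective.comp
    (f.normalizationObjIso hU).commRingCatIsoToRingEquiv.injective

theorem mem_range_secMap_of_isIntegralElem {U : Y.Opens} (hU : IsAffineOpen U)
    (b : Γ(X, f ⁻¹ᵁ U)) (hb : (secMap f U).hom.IsIntegralElem b) :
    b ∈ Set.range (secMap f U).hom := by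
  letI := (f.app U).hom.toAlgebra
  have he := secMap_eq f hU
  let e := (f.normalizationObjIso hU).commRingCatIsoToRingEquiv
  -- `b` is integral over the integral closure
  have h1 : IsIntegral (integralClosure Γ(Y, U) Γ(X, f ⁻¹ᵁ U)) b := by
    obtain ⟨p, hp, hpb⟩ := hb
    refine ⟨p.map (e : _ →+* _), hp.map _, ?_⟩
    rw [Polynomial.eval₂_map]
    convert hpb using 2
    rw [he, CommRingCat.hom_comp]
    rfl
  have h2 : IsIntegral Γ(Y, U) b := isIntegral_trans b h1
  refine ⟨e.symm ⟨b, h2⟩, ?_⟩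
  rw [he, CommRingCat.hom_comp]
  rw [RingHom.comp_apply]
  have h3 : (f.normalizationObjIso hU).hom.hom (e.symm ⟨b, h2⟩) = ⟨b, h2⟩ :=
    e.apply_symm_apply ⟨b, h2⟩
  rw [h3]
  rfl


theorem isNoetherianRing_sections [LocallyOfFiniteType f] [IsReduced X] {U : Y.Opens}
    (hU : IsAffineOpen U) (hA : IsNagata Γ(Y, U)) :
    IsNoetherianRing Γ(f.normalization, f.fromNormalization ⁻¹ᵁ U) := by
  letI := (f.app U).hom.toAlgebra
  haveI : IsNoetherianRing Γ(Y, U) := hA.1
  haveI := Groth.Agent.Lib.Helper4.NormFinite.finite_integralClosure_sections f U hU hA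
  haveI : IsNoetherianRing (integralClosure Γ(Y, U) Γ(X, f ⁻¹ᵁ U)) :=
    IsNoetherianRing.of_finite Γ(Y, U) _
  exact isNoetherianRing_of_ringEquiv _ (f.normalizationObjIso hU).commRingCatIsoToRingEquiv.symm

theorem exists_mem_notMem_minimalPrimes {R : Type*} [CommRing R] [IsNoetherianRing R]
    (p : Ideal R) [hp : p.IsPrime] (hpm : p ∉ minimalPrimes R) :
    ∃ g ∈ p, ∀ q ∈ minimalPrimes R, g ∉ q := by
  by_contra hcon
  push Not at hcon
  have hfin : (minimalPrimes R).Finite := minimalPrimes.finite_of_isNoetherianRing R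
  have hsub : (p : Set R) ⊆ ⋃ i ∈ (↑hfin.toFinset : Set (Ideal R)), ((id i : Ideal R) : Set R) := by
    intro g hg
    obtain ⟨q, hq, hgq⟩ := hcon g hg
    simp only [Set.mem_iUnion]
    exact ⟨q, by simpa using hq, hgq⟩
  obtain ⟨q, hq, hpq⟩ := (Ideal.subset_union_prime (f := id) ⊥ ⊥ (fun i hi _ _ => by
    have : i ∈ minimalPrimes R := by simpa using hi
    exact this.isPrime)).1 hsub
  have hqm : q ∈ minimalPrimes R := by simpa using hq
  apply hpm
  have : q ≤ p := hqm.2 ⟨hp, bot_le⟩ hpq
  rw [le_antisymm hpq this]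
  exact hqm

theorem facts_of_height_eq_one {R : Type*} [CommRing R] [IsNoetherianRing R] (p : Ideal R)
    [hp : p.IsPrime] (h : p.height = 1) :
    p ∉ minimalPrimes R ∧ ∀ q : Ideal R, q.IsPrime → q < p → q ∈ minimalPrimes R := by
  constructor
  · intro hmin
    rw [← Ideal.height_eq_zero_iff, h] at hmin
    exact one_ne_zero hmin
  · intro q hq hqp
    have := Ideal.height_strict_mono_of_isPrime hqp
    rw [h, Order.lt_one_iff] at this
    exact Ideal.height_eq_zero_iff.mp this

set_option maxHeartbeats 1600000 in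
/-- **Stacks 0BXC.** -/
theorem main [LocallyOfFiniteType f] [IsReduced X]
    (hY : ∀ U : Y.affineOpens, CAlg.IsNagata Γ(Y, U))
    (x' : ↥f.normalization) (hdim : ringKrullDim (f.normalization.presheaf.stalk x') = 1)
    (hx' : x' ∉ Set.range f.toNormalization.base) :
    ∃ _ : IsDomain (f.normalization.presheaf.stalk x'),
      IsDiscreteValuationRing (f.normalization.presheaf.stalk x') := by
  obtain ⟨_, ⟨U, hU, rfl⟩, hxU, -⟩ := Y.isBasis_affineOpens.exists_subset_of_mem_open
    (Set.mem_univ (f.fromNormalization x')) isOpen_univ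
  let W : f.normalization.Opens := f.fromNormalization ⁻¹ᵁ U
  have hW : IsAffineOpen W := hU.preimage f.fromNormalization
  have hx'W : x' ∈ W := hxU
  let V : X.Opens := f ⁻¹ᵁ U
  have hVW : f.toNormalization ⁻¹ᵁ W = V := by
    rw [← Scheme.Hom.comp_preimage, Scheme.Hom.toNormalization_fromNormalization]
  haveI : IsNoetherianRing Γ(f.normalization, W) := isNoetherianRing_sections f hU (hY ⟨U, hU⟩)
  let p' := hW.primeIdealOf ⟨x', hx'W⟩
  letI : Algebra Γ(f.normalization, W) (f.normalization.presheaf.stalk x') :=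
    TopCat.Presheaf.algebra_section_stalk f.normalization.presheaf ⟨x', hx'W⟩
  haveI : IsLocalization.AtPrime (f.normalization.presheaf.stalk x') p'.asIdeal :=
    hW.isLocalization_stalk ⟨x', hx'W⟩
  have hheight : p'.asIdeal.height = 1 := by
    have := IsLocalization.AtPrime.ringKrullDim_eq_height p'.asIdeal
      (f.normalization.presheaf.stalk x')
    rw [hdim] at this
    exact_mod_cast this.symm
  obtain ⟨hnotmin, hht⟩ := facts_of_height_eq_one p'.asIdeal hheight
  obtain ⟨g, hgp, hgmin⟩ := exists_mem_notMem_minimalPrimes p'.asIdeal hnotmin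
  -- an affine scheme surjecting onto `V`
  obtain ⟨R₀, δ, hδ⟩ := isCompact_iff_exists.mp (f.isCompact_preimage hU.isCompact)
  let γ : Spec R₀ ⟶ f.normalization := δ ≫ f.toNormalization
  have hγtop : γ ⁻¹ᵁ W = ⊤ := by
    rw [Scheme.Hom.comp_preimage, hVW]
    ext z
    simp only [Scheme.Hom.coe_preimage, Set.mem_preimage, SetLike.mem_coe, Opens.coe_top,
      Set.mem_univ, iff_true]
    have : δ z ∈ Set.range δ := ⟨z, rfl⟩
    rw [hδ] at this
    exact this
  have hV₀ : IsAffineOpen (γ ⁻¹ᵁ W) := by rw [hγtop]; exact isAffineOpen_top _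
  let ψ := γ.app W
  have hrange : ∀ Q : Ideal Γ(Spec R₀, γ ⁻¹ᵁ W), Q.IsPrime → Q.comap ψ.hom ≠ p'.asIdeal := by
    intro Q hQ heq
    let Qs : PrimeSpectrum Γ(Spec R₀, γ ⁻¹ᵁ W) := ⟨Q, hQ⟩
    let z := hV₀.isoSpec.inv Qs
    have hz : hV₀.primeIdealOf z = Qs := by
      simp only [IsAffineOpen.primeIdealOf, z]
      rw [← Scheme.Hom.comp_apply, Iso.inv_hom_id]
      rfl
    have h1 := IsAffineOpen.comap_primeIdealOf_appLE (f := γ) (x := z.1) W hW (γ ⁻¹ᵁ W) hV₀
      le_rfl z.2
    rw [← Scheme.Hom.app_eq_appLE] at h1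
    have h2 : hW.primeIdealOf ⟨γ z.1, z.2⟩ = p' := by
      rw [← h1]
      apply PrimeSpectrum.ext
      change (hV₀.primeIdealOf z).asIdeal.comap ψ.hom = _
      rw [hz]
      exact heq
    have h3 : γ z.1 = x' := by
      have := congrArg hW.fromSpec h2
      rwa [hW.fromSpec_primeIdealOf, hW.fromSpec_primeIdealOf] at this
    exact hx' ⟨δ z.1, h3⟩
  obtain ⟨h₀, hh₀, r, hr⟩ :=
    Groth.Agent.Lib.Helper8NormDvrAlg.exists_notMem_mul ψ.hom p'.asIdeal g hgmin hht hrange
  -- the key inclusion
  have hincl : ∀ x : X, f.toNormalization x ∈ f.normalization.basicOpen h₀ →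
      f.toNormalization x ∈ f.normalization.basicOpen g := by
    intro x hx
    have hxV : x ∈ V := by
      rw [← hVW]
      exact f.normalization.basicOpen_le h₀ hx
    have : x ∈ Set.range δ := by rw [hδ]; exact hxV
    obtain ⟨z, rfl⟩ := this
    have hz : z ∈ γ ⁻¹ᵁ f.normalization.basicOpen h₀ := hx
    rw [Scheme.preimage_basicOpen] at hz
    have hz' : z ∈ γ ⁻¹ᵁ f.normalization.basicOpen g := by
      rw [Scheme.preimage_basicOpen]
      have : (Spec R₀).basicOpen (ψ.hom h₀) ≤ (Spec R₀).basicOpen (ψ.hom g) := by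
        rw [hr, Scheme.basicOpen_mul]
        exact inf_le_left
      exact this hz
    exact hz'
  -- sections on `X`
  let s_h : Γ(X, V) := (secMap f U).hom h₀
  let s_g : Γ(X, V) := (secMap f U).hom g
  have hle : X.basicOpen s_h ≤ X.basicOpen s_g := by
    intro x hx
    have e1 := Scheme.basicOpen_appLE f.toNormalization V W (le_of_eq hVW.symm) h₀
    have e2 := Scheme.basicOpen_appLE f.toNormalization V W (le_of_eq hVW.symm) g
    change x ∈ X.basicOpen (f.toNormalization.appLE W V _ h₀) at hx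
    rw [e1] at hx
    change x ∈ X.basicOpen (f.toNormalization.appLE W V _ g)
    rw [e2]
    exact ⟨hx.1, hincl x hx.2⟩
  haveI := isLocalization_basicOpen_of_qcqs (f.isCompact_preimage hU.isCompact)
    (f.isQuasiSeparated_preimage hU.isQuasiSeparated) s_h
  have hu : IsUnit (algebraMap Γ(X, V) Γ(X, X.basicOpen s_h) s_g) := by
    have h1 := RingedSpace.isUnit_res_basicOpen X.toRingedSpace s_g
    have h2 := h1.map (X.presheaf.map (homOfLE hle).op).hom
    convert h2 using 1
    change _ = (X.presheaf.map (homOfLE _).op ≫ X.presheaf.map (homOfLE hle).op) s_g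
    rw [← Functor.map_comp]
    rfl
  obtain ⟨n, b, hb⟩ := (IsLocalization.Away.algebraMap_isUnit_iff (x := s_h)
    (S := Γ(X, X.basicOpen s_h))).1 hu
  -- apply the algebraic lemma
  letI : Algebra Γ(f.normalization, W) Γ(X, V) := (secMap f U).hom.toAlgebra
  have hdvr := Groth.Agent.Lib.Helper8NormDvrAlg.dvr_localization
    (R := Γ(f.normalization, W)) (B := Γ(X, V))
    (secMap_injective f hU) (fun x hx => mem_range_secMap_of_isIntegralElem f hU x hx)
    p'.asIdeal g (h₀ ^ n) b hgp (fun h => hh₀ (p'.2.mem_of_pow_mem n h))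
    (by
      change (secMap f U).hom (h₀ ^ n) = (secMap f U).hom g * b
      rw [map_pow]
      exact hb) hht
  obtain ⟨hD, hDVR⟩ := hdvr
  let e : Localization.AtPrime p'.asIdeal ≃ₐ[Γ(f.normalization, W)]
      f.normalization.presheaf.stalk x' :=
    IsLocalization.algEquiv p'.asIdeal.primeCompl _ _
  haveI : IsDomain (f.normalization.presheaf.stalk x') :=
    e.symm.toRingEquiv.toMulEquiv.isDomain (Localization.AtPrime p'.asIdeal)
  exact ⟨inferInstance, IsDiscreteValuationRing.RingEquivClass.isDiscreteValuationRing e.toRingEquiv⟩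

end Groth.Agent.Lib.Helper8NormDvrGeo
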