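/-
helper9: geometry of the relative normalization `T` of `Spec R` (`R` an integrally closed
Noetherian domain with fraction field `K`) in a finite étale `K`-scheme `X`: `T` is finite over
`Spec R`, its generic fibre is `X`, and `T ⟶ Spec R` is smooth at the points of the generic fibre.
Also: morphisms from smooth schemes to finite normal schemes are smooth (any characteristic).
-/
import Mathlib
import Groth.Prelude.Def_Pi1
import Groth.Prelude.Def_Neron
import Groth.Agent.Lib.H9NeronDedAlg
import Groth.Agent.Lib.H9NeronFinite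
import Groth.Agent.Lib.H9FinNormEt
import Groth.Agent.Lib.Helper8NormDvrGeo
import Groth.Agent.Lib.Helper12SmoothSrc2
import Groth.Agent.Lib.H9NeronEtMain

set_option autoImplicit false
set_option linter.style.haveILetI false
universe u

open CategoryTheory CategoryTheory.Limits AlgebraicGeometry TopologicalSpace
open scoped nonZeroDivisors

namespace Groth.Agent.Lib.H9NeronDedGeo

section SmoothToFinite

/-- Over a locally Noetherian base `S`, an `S`-morphism from a smooth `S`-scheme to a finite
`S`-scheme with normal total space is smooth. -/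
theorem smooth_of_finite_normal {S T Z : Scheme.{u}} [IsLocallyNoetherian S]
    (π : T ⟶ S) [IsFinite π] (hT : Pi1.IsNormalScheme T)
    (c : Z ⟶ S) [Smooth c] (v : Z ⟶ T) (hv : v ≫ π = c) : Smooth v := by
  let p₁ : pullback c π ⟶ Z := pullback.fst c π
  let p₂ : pullback c π ⟶ T := pullback.snd c π
  have hT' : Pi1.IsNormalScheme (pullback c π) :=
    Groth.Agent.Lib.H9NeronFinite.isNormalScheme_of_smooth p₂ hT
  haveI : IsLocallyNoetherian Z := LocallyOfFiniteType.isLocallyNoetherian c
  haveI : IsLocallyNoetherian (pullback c π) := LocallyOfFiniteType.isLocallyNoetherian p₁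
  let s : Z ⟶ pullback c π := pullback.lift (𝟙 Z) v (by rw [Category.id_comp, hv])
  have hs1 : s ≫ p₁ = 𝟙 Z := pullback.lift_fst _ _ _
  have hs2 : s ≫ p₂ = v := pullback.lift_snd _ _ _
  haveI : IsOpenImmersion s :=
    Groth.Agent.Lib.H9FinNormEt.isOpenImmersion_section (fun x => (hT' x).1) p₁ s hs1
  rw [← hs2]
  infer_instance

/-- Consequence: such a morphism lands in the smooth locus of `π`. -/
theorem range_subset_smoothLocus {S T Z : Scheme.{u}} [IsLocallyNoetherian S]
    (π : T ⟶ S) [IsFinite π] [LocallyOfFinitePresentation π] (hT : Pi1.IsNormalScheme T)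
    (c : Z ⟶ S) [Smooth c] (v : Z ⟶ T) (hv : v ≫ π = c) :
    Set.range v ⊆ (π.smoothLocus : Set T) := by
  haveI : Smooth v := smooth_of_finite_normal π hT c v hv
  have hop : IsOpen (Set.range v) := v.isOpenMap.isOpen_range
  let T₁ : T.Opens := ⟨Set.range v, hop⟩
  have hT₁ : Set.range v ⊆ Set.range T₁.ι := by
    rw [Scheme.Opens.range_ι]
    exact subset_rfl
  let v' : Z ⟶ (T₁ : Scheme.{u}) := IsOpenImmersion.lift T₁.ι v hT₁
  have hv' : v' ≫ T₁.ι = v := IsOpenImmersion.lift_fac _ _ _
  haveI : Smooth (v' ≫ T₁.ι) := by rw [hv']; infer_instance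
  haveI : Smooth v' := Groth.Agent.Lib.H9NeronEtMain.smooth_of_comp v' T₁.ι
  haveI : Surjective v' := by
    constructor
    rintro ⟨x, y, rfl⟩
    refine ⟨y, ?_⟩
    apply T₁.ι.isOpenEmbedding.injective
    rw [← Scheme.Hom.comp_apply, hv']
    rfl
  haveI : Smooth (v' ≫ T₁.ι ≫ π) := by
    rw [← Category.assoc, hv', hv]
    infer_instance
  haveI : Smooth (T₁.ι ≫ π) :=
    Groth.Agent.Lib.Helper12.SmoothSrc2.smooth_of_smooth_cover_source v' (T₁.ι ≫ π)
  rintro _ ⟨y, rfl⟩
  have h1 : T₁.ι ⁻¹ᵁ π.smoothLocus = (T₁.ι ≫ π).smoothLocus :=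
    Scheme.Hom.preimage_smoothLocus_eq T₁.ι π
  have h2 : (T₁.ι ≫ π).smoothLocus = ⊤ := Scheme.Hom.smoothLocus_eq_top _
  have h3 : (⟨v y, ⟨y, rfl⟩⟩ : T₁) ∈ T₁.ι ⁻¹ᵁ π.smoothLocus := by
    rw [h1, h2]
    trivial
  exact h3

end SmoothToFinite

section TopHom

/-- `A → Γ(X, ⊤)` induced by `f : X ⟶ Spec A`. -/
noncomputable def topHom {A : Type u} [CommRing A] {X : Scheme.{u}}
    (f : X ⟶ Spec (CommRingCat.of A)) : A →+* Γ(X, ⊤) :=
  ((Scheme.ΓSpecIso (CommRingCat.of A)).inv ≫ f.appTop).hom

lemma topHom_eq {A : Type u} [CommRing A] {X : Scheme.{u}}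
    (f : X ⟶ Spec (CommRingCat.of A)) :
    topHom f = f.appTop.hom.comp (Scheme.ΓSpecIso (CommRingCat.of A)).inv.hom := rfl

lemma topHom_comp_left {A : Type u} [CommRing A] {X X' : Scheme.{u}} (a : X' ⟶ X)
    (f : X ⟶ Spec (CommRingCat.of A)) : topHom (a ≫ f) = a.appTop.hom.comp (topHom f) := by
  rw [topHom_eq, topHom_eq, Scheme.Hom.comp_appTop, CommRingCat.hom_comp, RingHom.comp_assoc]

lemma topHom_comp_SpecMap {A B : Type u} [CommRing A] [CommRing B] {X : Scheme.{u}}
    (f : X ⟶ Spec (CommRingCat.of B)) (φ : A →+* B) :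
    topHom (f ≫ Spec.map (CommRingCat.ofHom φ)) = (topHom f).comp φ := by
  have h := Scheme.ΓSpecIso_inv_naturality (CommRingCat.ofHom φ)
  rw [topHom_eq, topHom_eq, Scheme.Hom.comp_appTop, CommRingCat.hom_comp, RingHom.comp_assoc,
    RingHom.comp_assoc]
  congr 1
  have h2 := congrArg CommRingCat.Hom.hom h
  rw [CommRingCat.hom_comp, CommRingCat.hom_comp] at h2
  exact h2.symm

lemma topHom_iff {P : ∀ {R S : Type u} [CommRing R] [CommRing S], (R →+* S) → Prop}
    (hP : RingHom.RespectsIso @P) {A : Type u} [CommRing A] {X : Scheme.{u}}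
    (f : X ⟶ Spec (CommRingCat.of A)) : P (topHom f) ↔ P f.appTop.hom :=
  hP.cancel_left_isIso (Scheme.ΓSpecIso (CommRingCat.of A)).inv f.appTop

end TopHom

section locus

variable {R : Type u} [CommRing R] {S : Type u} [CommRing S] [Algebra R S]

/-- smooth locus and localization (general submonoid); copied from `Helper6GeomRedGen2`. -/
theorem mem_smoothLocus_comap_of_isLocalization (M : Submonoid S) (T : Type u) [CommRing T]
    [Algebra S T] [Algebra R T] [IsScalarTower R S T] [IsLocalization M T] (p : PrimeSpectrum T)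
    (hp : p ∈ Algebra.smoothLocus R T) :
    PrimeSpectrum.comap (algebraMap S T) p ∈ Algebra.smoothLocus R S := by
  let q := PrimeSpectrum.comap (algebraMap S T) p
  have : IsLocalization.AtPrime (Localization.AtPrime p.asIdeal) q.asIdeal :=
    IsLocalization.isLocalization_isLocalization_atPrime_isLocalization M _ p.asIdeal
  have hp' : Algebra.FormallySmooth R (Localization.AtPrime p.asIdeal) := hp
  show Algebra.FormallySmooth R (Localization.AtPrime q.asIdeal)
  exact Algebra.FormallySmooth.of_equiv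
    ((IsLocalization.algEquiv q.asIdeal.primeCompl (Localization.AtPrime p.asIdeal)
      (Localization.AtPrime q.asIdeal)).restrictScalars R)

/-- primes disjoint from `M` lie in the smooth locus if the localization at `M` is formally
smooth; copied from `Helper6GeomRedGen2`. -/
theorem mem_smoothLocus_of_disjoint (M : Submonoid S) (T : Type u) [CommRing T]
    [Algebra S T] [Algebra R T] [IsScalarTower R S T] [IsLocalization M T]
    [Algebra.FormallySmooth R T] (Q : PrimeSpectrum S)
    (hdisj : Disjoint (M : Set S) (Q.asIdeal : Set S)) : Q ∈ Algebra.smoothLocus R S := by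
  have hprime : (Q.asIdeal.map (algebraMap S T)).IsPrime :=
    IsLocalization.isPrime_of_isPrime_disjoint M T Q.asIdeal Q.2 hdisj
  have hcomap : (Q.asIdeal.map (algebraMap S T)).comap (algebraMap S T) = Q.asIdeal :=
    IsLocalization.comap_map_of_isPrime_disjoint M T Q.2 hdisj
  have hQeq : Q = PrimeSpectrum.comap (algebraMap S T) ⟨_, hprime⟩ :=
    PrimeSpectrum.ext hcomap.symm
  rw [hQeq]
  apply mem_smoothLocus_comap_of_isLocalization M T
  show Algebra.FormallySmooth R (Localization.AtPrime (Q.asIdeal.map (algebraMap S T)))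
  haveI : Algebra.FormallySmooth T (Localization.AtPrime (Q.asIdeal.map (algebraMap S T))) :=
    Algebra.FormallySmooth.of_isLocalization (Q.asIdeal.map (algebraMap S T)).primeCompl
  exact Algebra.FormallySmooth.comp R T _

end locus

section GenericFibre

open Groth.Agent.Lib.Helper8NormDvrGeo (secMap secMap_injective mem_range_secMap_of_isIntegralElem)

variable {R : Type u} [CommRing R] [IsDomain R] {X : Scheme.{u}}
  (g : X ⟶ Spec (CommRingCat.of (FractionRing R))) [IsFinite g]

include g in
lemma isAffine_source : IsAffine X := isAffine_of_isAffineHom g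

lemma finite_topHom : (topHom g).Finite := by
  haveI : IsAffine X := isAffine_source g
  exact (topHom_iff RingHom.finite_respectsIso g).mpr
    ((HasAffineProperty.iff_of_isAffine (P := @IsFinite)).mp ‹IsFinite g›).2

lemma etale_topHom [Etale g] : (topHom g).Etale := by
  haveI : IsAffine X := isAffine_source g
  exact (topHom_iff RingHom.Etale.respectsIso g).mpr
    ((HasRingHomProperty.iff_of_isAffine (P := @Etale)).mp ‹Etale g›)

lemma secMap_top : secMap (g ≫ Neron.genPt R) ⊤ = (g ≫ Neron.genPt R).toNormalization.appTop :=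
  (Scheme.Hom.app_eq_appLE (g ≫ Neron.genPt R).toNormalization).symm

lemma topHom_eq_comp :
    topHom (g ≫ Neron.genPt R) = (g ≫ Neron.genPt R).toNormalization.appTop.hom.comp
      (topHom (g ≫ Neron.genPt R).fromNormalization) := by
  rw [← topHom_comp_left, Scheme.Hom.toNormalization_fromNormalization]

lemma topHom_eq_comp' :
    topHom (g ≫ Neron.genPt R) = (topHom g).comp (algebraMap R (FractionRing R)) :=
  topHom_comp_SpecMap g _

lemma appTop_injective :
    Function.Injective (g ≫ Neron.genPt R).toNormalization.appTop.hom := by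
  rw [← secMap_top]
  exact secMap_injective _ (isAffineOpen_top _)

set_option maxHeartbeats 1600000 in
/-- `Γ(X, ⊤)` is the localization of `Γ(T, ⊤)` at the nonzero elements of `R`. -/
theorem isLocalization_appTop :
    letI := (topHom (g ≫ Neron.genPt R).fromNormalization).toAlgebra
    letI := (g ≫ Neron.genPt R).toNormalization.appTop.hom.toAlgebra
    IsLocalization (Algebra.algebraMapSubmonoid Γ((g ≫ Neron.genPt R).normalization, ⊤) R⁰)
      Γ(X, ⊤) := by
  letI aC : Algebra R Γ((g ≫ Neron.genPt R).normalization, ⊤) :=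
    (topHom (g ≫ Neron.genPt R).fromNormalization).toAlgebra
  letI aCL : Algebra Γ((g ≫ Neron.genPt R).normalization, ⊤) Γ(X, ⊤) :=
    (g ≫ Neron.genPt R).toNormalization.appTop.hom.toAlgebra
  letI aKL : Algebra (FractionRing R) Γ(X, ⊤) := (topHom g).toAlgebra
  letI aRL : Algebra R Γ(X, ⊤) := (topHom (g ≫ Neron.genPt R)).toAlgebra
  have e1 := topHom_eq_comp g
  have e2 := topHom_eq_comp' g
  haveI t1 : IsScalarTower R (FractionRing R) Γ(X, ⊤) :=
    IsScalarTower.of_algebraMap_eq (fun r => DFunLike.congr_fun e2 r)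
  haveI t2 : IsScalarTower R Γ((g ≫ Neron.genPt R).normalization, ⊤) Γ(X, ⊤) :=
    IsScalarTower.of_algebraMap_eq (fun r => DFunLike.congr_fun e1 r)
  haveI : Module.Finite (FractionRing R) Γ(X, ⊤) := finite_topHom g
  haveI : Algebra.IsIntegral (FractionRing R) Γ(X, ⊤) := Algebra.IsIntegral.of_finite _ _
  refine ⟨?_, fun z => ?_, fun {x y} h => ⟨1, ?_⟩⟩
  · rintro ⟨_, r, hr, rfl⟩
    have h1 : IsUnit (algebraMap R (FractionRing R) r) :=
      IsLocalization.map_units (FractionRing R) ⟨r, hr⟩
    have h2 : algebraMap Γ((g ≫ Neron.genPt R).normalization, ⊤) Γ(X, ⊤)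
        (algebraMap R Γ((g ≫ Neron.genPt R).normalization, ⊤) r) =
        algebraMap (FractionRing R) Γ(X, ⊤) (algebraMap R (FractionRing R) r) := by
      rw [← IsScalarTower.algebraMap_apply, ← IsScalarTower.algebraMap_apply]
    change IsUnit (algebraMap Γ((g ≫ Neron.genPt R).normalization, ⊤) Γ(X, ⊤)
      (algebraMap R Γ((g ≫ Neron.genPt R).normalization, ⊤) r))
    rw [h2]
    exact h1.map _
  · obtain ⟨m, hm⟩ := IsIntegral.exists_multiple_integral_of_isLocalization R⁰ z
      (Algebra.IsIntegral.isIntegral (R := FractionRing R) z)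
    have hint0 : (g ≫ Neron.genPt R).toNormalization.appTop.hom.IsIntegralElem (m • z) := by
      obtain ⟨p, hp, hpz⟩ := hm
      refine ⟨p.map (topHom (g ≫ Neron.genPt R).fromNormalization), hp.map _, ?_⟩
      rw [Polynomial.eval₂_map, ← e1]
      exact hpz
    have hint : (secMap (g ≫ Neron.genPt R) ⊤).hom.IsIntegralElem (m • z) := by
      rw [secMap_top]
      exact hint0
    obtain ⟨c, hc⟩ := mem_range_secMap_of_isIntegralElem (g ≫ Neron.genPt R)
      (isAffineOpen_top _) (m • z) hint
    rw [secMap_top] at hc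
    refine ⟨⟨c, ⟨algebraMap R _ m, m, m.2, rfl⟩⟩, ?_⟩
    have hgoal : z * algebraMap Γ((g ≫ Neron.genPt R).normalization, ⊤) Γ(X, ⊤)
        (algebraMap R Γ((g ≫ Neron.genPt R).normalization, ⊤) m) = m • z := by
      rw [← IsScalarTower.algebraMap_apply, Submonoid.smul_def, Algebra.smul_def, mul_comm]
    exact hgoal.trans hc.symm
  · have : x = y := appTop_injective g h
    rw [this]

set_option maxHeartbeats 1600000 in
/-- The relative normalization of `Spec R` in a finite étale `K`-scheme is finite over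
`Spec R`. -/
theorem isFinite_fromNormalization [IsIntegrallyClosed R] [IsNoetherianRing R] [Etale g] :
    IsFinite (g ≫ Neron.genPt R).fromNormalization := by
  haveI : IsAffine (g ≫ Neron.genPt R).normalization :=
    isAffine_of_isAffineHom (g ≫ Neron.genPt R).fromNormalization
  rw [HasAffineProperty.iff_of_isAffine (P := @IsFinite)]
  refine ⟨inferInstance, ?_⟩
  rw [← topHom_iff RingHom.finite_respectsIso]
  letI aC : Algebra R Γ((g ≫ Neron.genPt R).normalization, ⊤) :=
    (topHom (g ≫ Neron.genPt R).fromNormalization).toAlgebra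
  letI aCL : Algebra Γ((g ≫ Neron.genPt R).normalization, ⊤) Γ(X, ⊤) :=
    (g ≫ Neron.genPt R).toNormalization.appTop.hom.toAlgebra
  letI aKL : Algebra (FractionRing R) Γ(X, ⊤) := (topHom g).toAlgebra
  letI aRL : Algebra R Γ(X, ⊤) := (topHom (g ≫ Neron.genPt R)).toAlgebra
  have e1 := topHom_eq_comp g
  have e2 := topHom_eq_comp' g
  haveI t1 : IsScalarTower R (FractionRing R) Γ(X, ⊤) :=
    IsScalarTower.of_algebraMap_eq (fun r => DFunLike.congr_fun e2 r)
  haveI t2 : IsScalarTower R Γ((g ≫ Neron.genPt R).normalization, ⊤) Γ(X, ⊤) :=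
    IsScalarTower.of_algebraMap_eq (fun r => DFunLike.congr_fun e1 r)
  haveI : Algebra.Etale (FractionRing R) Γ(X, ⊤) := etale_topHom g
  haveI hfin : Module.Finite R (integralClosure R Γ(X, ⊤)) :=
    Groth.Agent.Lib.H9NeronDedAlg.finite_integralClosure_of_etale R (FractionRing R) Γ(X, ⊤)
  -- every element of `Γ(T, ⊤)` is integral over `R`
  have hint : ∀ c : Γ((g ≫ Neron.genPt R).normalization, ⊤), IsIntegral R c := by
    intro c
    have h1 : (g ≫ Neron.genPt R).fromNormalization.appTop.hom.IsIntegral :=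
      ((HasAffineProperty.iff_of_isAffine (P := @IsIntegralHom)).mp inferInstance).2
    obtain ⟨p, hp, hpc⟩ := h1 c
    refine ⟨p.map (Scheme.ΓSpecIso (CommRingCat.of R)).hom.hom, hp.map _, ?_⟩
    rw [Polynomial.eval₂_map]
    convert hpc using 2
    change (topHom (g ≫ Neron.genPt R).fromNormalization).comp
      (Scheme.ΓSpecIso (CommRingCat.of R)).hom.hom = _
    rw [topHom_eq, RingHom.comp_assoc, ← CommRingCat.hom_comp, Iso.hom_inv_id]
    rfl
  let ψ : Γ((g ≫ Neron.genPt R).normalization, ⊤) →ₗ[R] integralClosure R Γ(X, ⊤) :=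
    (IsScalarTower.toAlgHom R Γ((g ≫ Neron.genPt R).normalization, ⊤)
      Γ(X, ⊤)).toLinearMap.codRestrict
      (Subalgebra.toSubmodule (integralClosure R Γ(X, ⊤))) (fun c => by
        change IsIntegral R ((IsScalarTower.toAlgHom R
          Γ((g ≫ Neron.genPt R).normalization, ⊤) Γ(X, ⊤)) c)
        exact (hint c).map _)
  have hψ : Function.Injective ψ := by
    intro c c' hcc'
    apply appTop_injective g
    exact congrArg Subtype.val hcc'
  exact Module.Finite.of_injective ψ hψ

set_option maxHeartbeats 1600000 in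
/-- The generic fibre of the relative normalization is `X`. -/
theorem isPullback_toNormalization :
    IsPullback (g ≫ Neron.genPt R).toNormalization g (g ≫ Neron.genPt R).fromNormalization
      (Neron.genPt R) := by
  haveI : IsAffine X := isAffine_source g
  haveI : IsAffine (g ≫ Neron.genPt R).normalization :=
    isAffine_of_isAffineHom (g ≫ Neron.genPt R).fromNormalization
  letI aC : Algebra R Γ((g ≫ Neron.genPt R).normalization, ⊤) :=
    (topHom (g ≫ Neron.genPt R).fromNormalization).toAlgebra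
  letI aCL : Algebra Γ((g ≫ Neron.genPt R).normalization, ⊤) Γ(X, ⊤) :=
    (g ≫ Neron.genPt R).toNormalization.appTop.hom.toAlgebra
  letI aKL : Algebra (FractionRing R) Γ(X, ⊤) := (topHom g).toAlgebra
  letI aRL : Algebra R Γ(X, ⊤) := (topHom (g ≫ Neron.genPt R)).toAlgebra
  have e1 := topHom_eq_comp g
  have e2 := topHom_eq_comp' g
  haveI t1 : IsScalarTower R (FractionRing R) Γ(X, ⊤) :=
    IsScalarTower.of_algebraMap_eq (fun r => DFunLike.congr_fun e2 r)
  haveI t2 : IsScalarTower R Γ((g ≫ Neron.genPt R).normalization, ⊤) Γ(X, ⊤) :=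
    IsScalarTower.of_algebraMap_eq (fun r => DFunLike.congr_fun e1 r)
  haveI hloc : IsLocalization
      (Algebra.algebraMapSubmonoid Γ((g ≫ Neron.genPt R).normalization, ⊤) R⁰) Γ(X, ⊤) :=
    isLocalization_appTop g
  have hP : Algebra.IsPushout R Γ((g ≫ Neron.genPt R).normalization, ⊤) (FractionRing R)
      Γ(X, ⊤) :=
    (Algebra.isLocalization_iff_isPushout R⁰ (FractionRing R)).mp hloc
  have hpo : IsPushout (CommRingCat.ofHom (algebraMap R (FractionRing R)))
      (CommRingCat.ofHom (algebraMap R Γ((g ≫ Neron.genPt R).normalization, ⊤)))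
      (CommRingCat.ofHom (algebraMap (FractionRing R) Γ(X, ⊤)))
      (CommRingCat.ofHom (algebraMap Γ((g ≫ Neron.genPt R).normalization, ⊤) Γ(X, ⊤))) :=
    CommRingCat.isPushout_iff_isPushout.mpr hP.symm
  have hpb := isPullback_SpecMap_of_isPushout _ _ _ _ hpo.flip
  refine hpb.of_iso X.isoSpec.symm (g ≫ Neron.genPt R).normalization.isoSpec.symm (Iso.refl _)
    (Iso.refl _) ?_ ?_ ?_ ?_
  · exact Scheme.isoSpec_inv_naturality (g ≫ Neron.genPt R).toNormalization
  · have h1 := Scheme.isoSpec_inv_naturality g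
    rw [Scheme.isoSpec_Spec_inv, ← Spec.map_comp] at h1
    rw [Iso.refl_hom, Category.comp_id]
    exact h1
  · have h1 := Scheme.isoSpec_inv_naturality (g ≫ Neron.genPt R).fromNormalization
    rw [Scheme.isoSpec_Spec_inv, ← Spec.map_comp] at h1
    rw [Iso.refl_hom, Category.comp_id]
    exact h1
  · simp

set_option maxHeartbeats 1600000 in
/-- The relative normalization is smooth over `Spec R` at the points of the generic fibre. -/
theorem range_toNormalization_subset_smoothLocus [Etale g]
    [LocallyOfFinitePresentation (g ≫ Neron.genPt R).fromNormalization] :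
    Set.range (g ≫ Neron.genPt R).toNormalization ⊆
      ((g ≫ Neron.genPt R).fromNormalization.smoothLocus : Set _) := by
  rintro _ ⟨x, rfl⟩
  haveI : IsAffine X := isAffine_source g
  haveI : IsAffine (g ≫ Neron.genPt R).normalization :=
    isAffine_of_isAffineHom (g ≫ Neron.genPt R).fromNormalization
  rw [SetLike.mem_coe, Scheme.Hom.mem_smoothLocus,
    formallySmooth_stalkMap_iff ⊤ (isAffineOpen_top _) ⊤ (isAffineOpen_top _) le_top trivial]
  letI a0 : Algebra Γ(Spec (CommRingCat.of R), ⊤) Γ((g ≫ Neron.genPt R).normalization, ⊤) :=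
    ((g ≫ Neron.genPt R).fromNormalization.appLE ⊤ ⊤ le_top).hom.toAlgebra
  letI aC : Algebra R Γ((g ≫ Neron.genPt R).normalization, ⊤) :=
    (topHom (g ≫ Neron.genPt R).fromNormalization).toAlgebra
  letI aCL : Algebra Γ((g ≫ Neron.genPt R).normalization, ⊤) Γ(X, ⊤) :=
    (g ≫ Neron.genPt R).toNormalization.appTop.hom.toAlgebra
  letI a0L : Algebra Γ(Spec (CommRingCat.of R), ⊤) Γ(X, ⊤) :=
    ((algebraMap Γ((g ≫ Neron.genPt R).normalization, ⊤) Γ(X, ⊤)).comp
      (algebraMap Γ(Spec (CommRingCat.of R), ⊤)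
        Γ((g ≫ Neron.genPt R).normalization, ⊤))).toAlgebra
  haveI t0 : IsScalarTower Γ(Spec (CommRingCat.of R), ⊤)
      Γ((g ≫ Neron.genPt R).normalization, ⊤) Γ(X, ⊤) :=
    IsScalarTower.of_algebraMap_eq (fun _ => rfl)
  haveI hloc : IsLocalization
      (Algebra.algebraMapSubmonoid Γ((g ≫ Neron.genPt R).normalization, ⊤) R⁰) Γ(X, ⊤) :=
    isLocalization_appTop g
  haveI hfs : Algebra.FormallySmooth Γ(Spec (CommRingCat.of R), ⊤) Γ(X, ⊤) := by
    rw [← RingHom.formallySmooth_algebraMap]
    have h1 : (topHom (g ≫ Neron.genPt R)).FormallySmooth := by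
      letI aKL : Algebra (FractionRing R) Γ(X, ⊤) := (topHom g).toAlgebra
      letI aRL : Algebra R Γ(X, ⊤) := (topHom (g ≫ Neron.genPt R)).toAlgebra
      have e2 := topHom_eq_comp' g
      haveI t1 : IsScalarTower R (FractionRing R) Γ(X, ⊤) :=
        IsScalarTower.of_algebraMap_eq (fun r => DFunLike.congr_fun e2 r)
      haveI : Algebra.Etale (FractionRing R) Γ(X, ⊤) := etale_topHom g
      haveI : Algebra.FormallySmooth R Γ(X, ⊤) :=
        Groth.Agent.Lib.H9NeronDedAlg.formallySmooth_of_etale R (FractionRing R) Γ(X, ⊤)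
      exact RingHom.formallySmooth_algebraMap.mpr ‹_›
    have h2 : (g ≫ Neron.genPt R).appTop.hom.FormallySmooth :=
      (topHom_iff RingHom.FormallySmooth.respectsIso _).mp h1
    have h3 : (g ≫ Neron.genPt R).appTop =
        (g ≫ Neron.genPt R).fromNormalization.appTop ≫
          (g ≫ Neron.genPt R).toNormalization.appTop := by
      rw [← Scheme.Hom.comp_appTop, Scheme.Hom.toNormalization_fromNormalization]
    rw [h3] at h2
    convert h2 using 1
    change ((g ≫ Neron.genPt R).toNormalization.appTop.hom.comp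
      ((g ≫ Neron.genPt R).fromNormalization.appLE ⊤ ⊤ le_top).hom) = _
    rw [CommRingCat.hom_comp]
    congr 2
    exact Scheme.Hom.appLE_eq_app _
  apply mem_smoothLocus_of_disjoint
    (Algebra.algebraMapSubmonoid Γ((g ≫ Neron.genPt R).normalization, ⊤) R⁰) Γ(X, ⊤)
  rw [Set.disjoint_left]
  intro c hcM hcQ
  have hunit : IsUnit (algebraMap Γ((g ≫ Neron.genPt R).normalization, ⊤) Γ(X, ⊤) c) :=
    IsLocalization.map_units Γ(X, ⊤) (⟨c, hcM⟩ :
      Algebra.algebraMapSubmonoid Γ((g ≫ Neron.genPt R).normalization, ⊤) R⁰)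
  have hcomap := IsAffineOpen.comap_primeIdealOf_appLE (f := (g ≫ Neron.genPt R).toNormalization)
    ⊤ (isAffineOpen_top _) ⊤ (isAffineOpen_top X) le_top (x := x) trivial
  have hcQ' : c ∈ (PrimeSpectrum.comap
      ((g ≫ Neron.genPt R).toNormalization.appLE ⊤ ⊤ le_top).hom
      ((isAffineOpen_top X).primeIdealOf ⟨x, trivial⟩)).asIdeal := by
    rw [hcomap]
    exact hcQ
  have hmem : (g ≫ Neron.genPt R).toNormalization.appTop.hom c ∈
      ((isAffineOpen_top X).primeIdealOf ⟨x, trivial⟩).asIdeal := by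
    have : (g ≫ Neron.genPt R).toNormalization.appLE ⊤ ⊤ le_top =
        (g ≫ Neron.genPt R).toNormalization.appTop := Scheme.Hom.appLE_eq_app _
    rw [← this]
    exact hcQ'
  exact ((isAffineOpen_top X).primeIdealOf ⟨x, trivial⟩).isPrime.ne_top
    (Ideal.eq_top_of_isUnit_mem _ hmem hunit)

end GenericFibre

end Groth.Agent.Lib.H9NeronDedGeo
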