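/-
helper9: the Néron model of a finite étale scheme over the fraction field of a Dedekind domain
(S18497): the smooth locus of the normalization of `Spec R` in it.
-/
import Mathlib
import Groth.Prelude.Def_Pi1
import Groth.Prelude.Def_Neron
import Groth.Agent.Lib.H9NeronDedGeo
import Groth.Agent.Lib.H9NeronDedExt
import Groth.Agent.Lib.H9RelNormNormalC
import Groth.Agent.Lib.H9FinFlatB
import Groth.Agent.Lib.Helper6SmQF

set_option autoImplicit false
set_option linter.style.haveILetI false
universe u

open CategoryTheory CategoryTheory.Limits AlgebraicGeometry TopologicalSpace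

namespace Groth.Agent.Lib.H9NeronDedMain

theorem isNormalScheme_spec (A : Type u) [CommRing A] [IsDomain A] [IsIntegrallyClosed A] :
    Pi1.IsNormalScheme (Spec (CommRingCat.of A)) := by
  intro x
  letI alg : Algebra A ((Spec (CommRingCat.of A)).presheaf.stalk x) :=
    StructureSheaf.stalkAlgebra (R := A) x
  haveI hloc : IsLocalization.AtPrime ((Spec (CommRingCat.of A)).presheaf.stalk x) x.asIdeal :=
    StructureSheaf.IsLocalization.to_stalk A x
  have hle : x.asIdeal.primeCompl ≤ nonZeroDivisors A := Ideal.primeCompl_le_nonZeroDivisors _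
  exact ⟨IsLocalization.isDomain_of_le_nonZeroDivisors _ hle,
    isIntegrallyClosed_of_isLocalization _ x.asIdeal.primeCompl hle⟩

theorem isDominant_SpecMap_of_injective {A B : CommRingCat.{u}} (φ : A ⟶ B)
    (hφ : Function.Injective φ) : IsDominant (Spec.map φ) := by
  refine ⟨?_⟩
  change DenseRange (PrimeSpectrum.comap φ.hom)
  rw [PrimeSpectrum.denseRange_comap_iff_ker_le_nilRadical]
  rw [(RingHom.injective_iff_ker_eq_bot _).mp hφ]
  exact bot_le

/-- The generic fibre of a flat scheme over a domain is dense. -/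
theorem isDominant_genericFibre {R : Type u} [CommRing R] [IsDomain R] {Y : Scheme.{u}}
    (h : Y ⟶ Spec (CommRingCat.of R)) [Flat h] :
    IsDominant (pullback.fst h (Neron.genPt R)) := by
  haveI : IsDominant (Neron.genPt R) :=
    isDominant_SpecMap_of_injective _ (IsFractionRing.injective R (FractionRing R))
  haveI : IsSchemeTheoreticallyDominant (Neron.genPt R) := .of_isDominant _
  haveI : IsSchemeTheoreticallyDominant (pullback.fst h (Neron.genPt R)) :=
    IsSchemeTheoreticallyDominant.of_isPullback (IsPullback.of_hasPullback h (Neron.genPt R)).flip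
  infer_instance

set_option maxHeartbeats 3200000 in
/-- **S18497** (without using the group structure). -/
theorem main (R : Type u) [CommRing R] [IsDedekindDomain R]
    (G : Over (Spec (CommRingCat.of (FractionRing R)))) [IsFinite G.hom] [Etale G.hom] :
    ∃ (N : Over (Spec (CommRingCat.of R))) (e : (Neron.genericFibre R).obj N ≅ G),
      Neron.IsNeronModelOf R N G e ∧ Etale N.hom ∧ LocallyQuasiFinite N.hom := by
  classical
  haveI hfin : IsFinite (G.hom ≫ Neron.genPt R).fromNormalization :=
    Groth.Agent.Lib.H9NeronDedGeo.isFinite_fromNormalization G.hom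
  haveI : LocallyOfFinitePresentation (G.hom ≫ Neron.genPt R).fromNormalization :=
    Groth.Agent.Lib.H9FinFlatB.lfp_of_lft _
  have hS : Pi1.IsNormalScheme (Spec (CommRingCat.of R)) := isNormalScheme_spec R
  have hK : Pi1.IsNormalScheme (Spec (CommRingCat.of (FractionRing R))) :=
    isNormalScheme_spec (FractionRing R)
  have hXn : Pi1.IsNormalScheme G.left :=
    Groth.Agent.Lib.H9NeronFinite.isNormalScheme_of_smooth G.hom hK
  haveI : IsLocallyNoetherian G.left := LocallyOfFiniteType.isLocallyNoetherian G.hom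
  haveI : CompactSpace G.left := QuasiCompact.compactSpace_of_compactSpace G.hom
  haveI : IsNoetherian G.left := {}
  have hlf : LocallyFinite (fun Z : ↥(irreducibleComponents ↥G.left) => (Z : Set ↥G.left)) := by
    haveI : Finite ↥(irreducibleComponents ↥G.left) :=
      NoetherianSpace.finite_irreducibleComponents.to_subtype
    exact locallyFinite_of_finite _
  have hT : Pi1.IsNormalScheme (G.hom ≫ Neron.genPt R).normalization :=
    (Groth.Agent.Lib.H9RelNormNormalC.main _ hXn hlf).1
  haveI : IsLocallyNoetherian (G.hom ≫ Neron.genPt R).normalization :=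
    LocallyOfFiniteType.isLocallyNoetherian (G.hom ≫ Neron.genPt R).fromNormalization
  have sqD := Groth.Agent.Lib.H9NeronDedGeo.isPullback_toNormalization G.hom
  have hrange := Groth.Agent.Lib.H9NeronDedGeo.range_toNormalization_subset_smoothLocus G.hom
  -- notation
  set π := (G.hom ≫ Neron.genPt R).fromNormalization with hπ
  set t := (G.hom ≫ Neron.genPt R).toNormalization with ht
  let E := π.smoothLocus
  let N : Over (Spec (CommRingCat.of R)) := Over.mk (E.ι ≫ π)
  have hrange' : Set.range t ⊆ Set.range E.ι := by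
    rw [Scheme.Opens.range_ι]
    exact hrange
  let tE : G.left ⟶ (E : Scheme.{u}) := IsOpenImmersion.lift E.ι t hrange'
  have htE : tE ≫ E.ι = t := IsOpenImmersion.lift_fac _ _ _
  -- the generic fibre
  let b : G.left ⟶ pullback (E.ι ≫ π) (Neron.genPt R) :=
    pullback.lift tE G.hom (by rw [← Category.assoc, htE]; exact sqD.w)
  let c : pullback (E.ι ≫ π) (Neron.genPt R) ⟶ G.left :=
    sqD.lift (pullback.fst (E.ι ≫ π) (Neron.genPt R) ≫ E.ι)
      (pullback.snd (E.ι ≫ π) (Neron.genPt R)) (by
        rw [Category.assoc]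
        exact pullback.condition)
  have hc1 : c ≫ t = pullback.fst (E.ι ≫ π) (Neron.genPt R) ≫ E.ι := sqD.lift_fst _ _ _
  have hc2 : c ≫ G.hom = pullback.snd (E.ι ≫ π) (Neron.genPt R) := sqD.lift_snd _ _ _
  have hb1 : b ≫ pullback.fst (E.ι ≫ π) (Neron.genPt R) = tE := pullback.lift_fst _ _ _
  have hb2 : b ≫ pullback.snd (E.ι ≫ π) (Neron.genPt R) = G.hom := pullback.lift_snd _ _ _
  have hbc : b ≫ c = 𝟙 G.left := by
    apply sqD.hom_ext
    · rw [Category.assoc, hc1, ← Category.assoc, hb1, htE, Category.id_comp]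
    · rw [Category.assoc, hc2, hb2, Category.id_comp]
  have hcb : c ≫ b = 𝟙 (pullback (E.ι ≫ π) (Neron.genPt R)) := by
    apply pullback.hom_ext
    · rw [Category.assoc, hb1, Category.id_comp, ← cancel_mono E.ι, Category.assoc, htE, hc1]
    · rw [Category.assoc, hb2, hc2, Category.id_comp]
  let e : (Neron.genericFibre R).obj N ≅ G :=
    Over.isoMk (⟨c, b, hcb, hbc⟩ : pullback (E.ι ≫ π) (Neron.genPt R) ≅ G.left) hc2
  have he : e.hom.left = c := rfl
  -- properties of `N`
  haveI hsmE : Smooth (E.ι ≫ π) := by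
    rw [← Scheme.Hom.smoothLocus_eq_top_iff, ← Scheme.Hom.preimage_smoothLocus_eq]
    rw [eq_top_iff]
    rintro x -
    exact x.2
  haveI hlqf : LocallyQuasiFinite (E.ι ≫ π) := inferInstance
  haveI hetE : Etale (E.ι ≫ π) :=
    (Groth.Agent.Lib.Helper6.SmQF.etale_iff_smooth_and_locallyQuasiFinite _).mpr ⟨hsmE, hlqf⟩
  haveI hsep : IsSeparated (E.ι ≫ π) := inferInstance
  haveI hqc : QuasiCompact (E.ι ≫ π) := inferInstance
  haveI hlft : LocallyOfFiniteType (E.ι ≫ π) := inferInstance
  refine ⟨N, e, ⟨hsmE, hsep, hlft, hqc, ?_⟩, hetE, hlqf⟩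
  intro Y hY
  haveI := hY
  have hYn : Pi1.IsNormalScheme Y.left :=
    Groth.Agent.Lib.H9NeronFinite.isNormalScheme_of_smooth Y.hom hS
  haveI : IsReduced Y.left := by
    haveI : ∀ z : Y.left, _root_.IsReduced (Y.left.presheaf.stalk z) := fun z => by
      haveI := (hYn z).1
      infer_instance
    exact isReduced_of_isReduced_stalk _
  haveI : IsDominant (pullback.fst Y.hom (Neron.genPt R)) := isDominant_genericFibre Y.hom
  constructor
  · -- injectivity
    intro g1 g2 h12
    have h12' : (Neron.genericFibre R).map g1 = (Neron.genericFibre R).map g2 := by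
      have h12'' : (Neron.genericFibre R).map g1 ≫ e.hom = (Neron.genericFibre R).map g2 ≫ e.hom :=
        h12
      exact (cancel_mono e.hom).mp h12''
    have hagree : pullback.fst Y.hom (Neron.genPt R) ≫ g1.left =
        pullback.fst Y.hom (Neron.genPt R) ≫ g2.left := by
      have h1 := congrArg (fun t => t.left ≫ pullback.fst (E.ι ≫ π) (Neron.genPt R)) h12'
      simp only [Over.pullback, Over.homMk_left] at h1
      erw [pullback.lift_fst, pullback.lift_fst] at h1
      exact h1
    apply Over.OverMorphism.ext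
    have hw1 : g1.left ≫ (E.ι ≫ π) = Y.hom := Over.w g1
    have hw2 : g2.left ≫ (E.ι ≫ π) = Y.hom := Over.w g2
    exact ext_of_isDominant_of_isSeparated (E.ι ≫ π) (hw1.trans hw2.symm)
      (pullback.fst Y.hom (Neron.genPt R)) hagree
  · -- surjectivity
    intro γ
    have hγ : γ.left ≫ G.hom = pullback.snd Y.hom (Neron.genPt R) := Over.w γ
    let q := pullback.fst Y.hom (Neron.genPt R)
    let g₀' : pullback Y.hom (Neron.genPt R) ⟶ (G.hom ≫ Neron.genPt R).normalization :=
      γ.left ≫ t
    have hg₀' : g₀' ≫ π = q ≫ Y.hom := by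
      have h1 : t ≫ π = G.hom ≫ Neron.genPt R :=
        Scheme.Hom.toNormalization_fromNormalization _
      calc g₀' ≫ π = γ.left ≫ (t ≫ π) := by simp only [g₀', Category.assoc]
        _ = (γ.left ≫ G.hom) ≫ Neron.genPt R := by rw [h1, Category.assoc]
        _ = pullback.snd Y.hom (Neron.genPt R) ≫ Neron.genPt R := by rw [hγ]
        _ = q ≫ Y.hom := pullback.condition.symm
    let p : pullback Y.hom π ⟶ Y.left := pullback.fst Y.hom π
    let g₀ : pullback Y.hom (Neron.genPt R) ⟶ pullback Y.hom π :=
      pullback.lift q g₀' hg₀'.symm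
    have hg₀p : g₀ ≫ p = q := pullback.lift_fst _ _ _
    obtain ⟨gt, hgtp, hgt⟩ :=
      Groth.Agent.Lib.H9NeronDedExt.exists_section_extension hYn Y.hom p g₀ hg₀p
    let Gm : Y.left ⟶ (G.hom ≫ Neron.genPt R).normalization := gt ≫ pullback.snd Y.hom π
    have hGmπ : Gm ≫ π = Y.hom := by
      simp only [Gm, Category.assoc]
      rw [← pullback.condition, ← Category.assoc]
      change (gt ≫ p) ≫ Y.hom = Y.hom
      rw [hgtp, Category.id_comp]
    have hGm₀ : q ≫ Gm = g₀' := by
      simp only [Gm]
      rw [← Category.assoc, hgt]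
      exact pullback.lift_snd _ _ _
    have hGmr : Set.range Gm ⊆ Set.range E.ι := by
      rw [Scheme.Opens.range_ι]
      exact Groth.Agent.Lib.H9NeronDedGeo.range_subset_smoothLocus π hT Y.hom Gm hGmπ
    let G' : Y.left ⟶ (E : Scheme.{u}) := IsOpenImmersion.lift E.ι Gm hGmr
    have hG' : G' ≫ E.ι = Gm := IsOpenImmersion.lift_fac _ _ _
    let gN : Y ⟶ N := Over.homMk G' (by
      change G' ≫ E.ι ≫ π = Y.hom
      rw [← Category.assoc, hG', hGmπ])
    refine ⟨gN, ?_⟩
    change (Neron.genericFibre R).map gN ≫ e.hom = γ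
    apply Over.OverMorphism.ext
    rw [Over.comp_left, he]
    have h1 : ((Neron.genericFibre R).map gN).left ≫ pullback.fst (E.ι ≫ π) (Neron.genPt R) =
        q ≫ G' := by
      simp only [Over.pullback, Over.homMk_left]
      erw [pullback.lift_fst]
      rfl
    have h2 : ((Neron.genericFibre R).map gN).left ≫ pullback.snd (E.ι ≫ π) (Neron.genPt R) =
        pullback.snd Y.hom (Neron.genPt R) := by
      simp only [Over.pullback, Over.homMk_left]
      erw [pullback.lift_snd]
    apply sqD.hom_ext
    · rw [Category.assoc, hc1, ← Category.assoc, h1, Category.assoc, hG', hGm₀]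
    · rw [Category.assoc, hc2, h2, hγ]

end Groth.Agent.Lib.H9NeronDedMain
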