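/-
helper9: Néron models are stable under base change along a finite étale extension of Dedekind
domains (S11103).
-/
import Mathlib
import Groth.Prelude.Def_Pi1
import Groth.Prelude.Def_Neron
import Groth.Agent.Lib.H9NeronDedMain

set_option autoImplicit false
set_option linter.style.haveILetI false
universe u

open CategoryTheory CategoryTheory.Limits AlgebraicGeometry TopologicalSpace
open scoped nonZeroDivisors

namespace Groth.Agent.Lib.H9NeronBC

section Alg

/-- For `R ⊆ R'` an integral extension of domains with `R'` integrally closed, the fraction field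
of `R'` is `R' ⊗_R Frac R`. -/
theorem isPushout_fractionRing (R R' K K' : Type*) [CommRing R] [IsDomain R] [CommRing R']
    [IsDomain R'] [IsIntegrallyClosed R'] [Algebra R R'] [Algebra.IsIntegral R R']
    [Field K] [Field K'] [Algebra R K] [IsFractionRing R K] [Algebra R' K'] [IsFractionRing R' K']
    [Algebra K K'] [Algebra R K'] [IsScalarTower R R' K'] [IsScalarTower R K K'] :
    Algebra.IsPushout R R' K K' := by
  haveI : IsIntegralClosure R' R K' := inferInstance
  haveI : Algebra.IsAlgebraic K K' := isAlgebraic_of_isFractionRing R R' K K'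
  haveI : IsLocalization (Algebra.algebraMapSubmonoid R' R⁰) K' :=
    IsIntegralClosure.isLocalization R K K' R'
  exact (Algebra.isLocalization_iff_isPushout R⁰ K).mp inferInstance

theorem algebraMap_injective_of_flat (R R' : Type*) [CommRing R] [IsDomain R] [CommRing R']
    [Nontrivial R'] [Algebra R R'] [Module.Flat R R'] : Function.Injective (algebraMap R R') := by
  rw [injective_iff_map_eq_zero]
  intro r hr
  by_contra hne
  have hreg : IsSMulRegular R' r :=
    Module.Flat.isSMulRegular_of_nonZeroDivisors (mem_nonZeroDivisors_of_ne_zero hne)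
  have h1 : r • (1 : R') = r • (0 : R') := by
    rw [Algebra.smul_def, mul_one, hr, smul_zero]
  exact one_ne_zero (hreg h1)

end Alg

section Geo

variable {S S' : Scheme.{u}} (f : S' ⟶ S)

lemma map_left_fst {A B : Over S} (g : A ⟶ B) :
    ((Over.pullback f).map g).left ≫ pullback.fst B.hom f = pullback.fst A.hom f ≫ g.left := by
  simp only [Over.pullback_map_left]
  exact pullback.lift_fst _ _ _

lemma map_left_snd {A B : Over S} (g : A ⟶ B) :
    ((Over.pullback f).map g).left ≫ pullback.snd B.hom f = pullback.snd A.hom f := by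
  simp only [Over.pullback_map_left]
  exact pullback.lift_snd _ _ _

end Geo

section Main

variable (R R' : Type u) [CommRing R] [IsDedekindDomain R] [CommRing R'] [IsDedekindDomain R']
  [Algebra R R'] [Module.Finite R R'] [Algebra.Etale R R']

set_option maxHeartbeats 3200000 in
/-- **S11103**. -/
theorem main (N : Over (Spec (CommRingCat.of R)))
    (hN : Neron.IsNeronModelOf R N ((Neron.genericFibre R).obj N) (Iso.refl _)) :
    Neron.IsNeronModelOf R'
      ((Over.pullback (Spec.map (CommRingCat.ofHom (algebraMap R R')))).obj N)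
      ((Neron.genericFibre R').obj
        ((Over.pullback (Spec.map (CommRingCat.ofHom (algebraMap R R')))).obj N))
      (Iso.refl _) := by
  classical
  obtain ⟨hsm, hsep, hlft, hqc, hNMP⟩ := hN
  haveI := hsm
  haveI := hsep
  haveI := hlft
  haveI := hqc
  set ρ := Spec.map (CommRingCat.ofHom (algebraMap R R')) with hρ
  -- algebra
  haveI : Module.Flat R R' := inferInstance
  have hinj : Function.Injective (algebraMap R R') := algebraMap_injective_of_flat R R'
  have hinj' : Function.Injective (algebraMap R (FractionRing R')) := by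
    rw [IsScalarTower.algebraMap_eq R R' (FractionRing R')]
    exact (IsFractionRing.injective R' (FractionRing R')).comp hinj
  letI aKK : Algebra (FractionRing R) (FractionRing R') := (IsFractionRing.lift hinj').toAlgebra
  haveI t2 : IsScalarTower R (FractionRing R) (FractionRing R') :=
    IsScalarTower.of_algebraMap_eq (fun r => (IsFractionRing.lift_algebraMap hinj' r).symm)
  haveI : Algebra.IsIntegral R R' := Algebra.IsIntegral.of_finite R R'
  have hP : Algebra.IsPushout R R' (FractionRing R) (FractionRing R') :=
    isPushout_fractionRing R R' (FractionRing R) (FractionRing R')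
  let ρK : Spec (CommRingCat.of (FractionRing R')) ⟶ Spec (CommRingCat.of (FractionRing R)) :=
    Spec.map (CommRingCat.ofHom (algebraMap (FractionRing R) (FractionRing R')))
  have sqK : IsPullback (Neron.genPt R') ρK ρ (Neron.genPt R) :=
    isPullback_SpecMap_of_isPushout _ _ _ _ (CommRingCat.isPushout_iff_isPushout.mpr hP)
  haveI : Etale ρ := by
    rw [hρ, HasRingHomProperty.Spec_iff (P := @Etale)]
    exact RingHom.etale_algebraMap.mpr inferInstance
  refine ⟨inferInstanceAs (Smooth (pullback.snd N.hom ρ)),
    inferInstanceAs (IsSeparated (pullback.snd N.hom ρ)),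
    inferInstanceAs (LocallyOfFiniteType (pullback.snd N.hom ρ)),
    inferInstanceAs (QuasiCompact (pullback.snd N.hom ρ)), ?_⟩
  intro Y' hY'
  haveI := hY'
  have hS' : Pi1.IsNormalScheme (Spec (CommRingCat.of R')) :=
    Groth.Agent.Lib.H9NeronDedMain.isNormalScheme_spec R'
  have hYn : Pi1.IsNormalScheme Y'.left :=
    Groth.Agent.Lib.H9NeronFinite.isNormalScheme_of_smooth Y'.hom hS'
  haveI : IsReduced Y'.left := by
    haveI : ∀ z : Y'.left, _root_.IsReduced (Y'.left.presheaf.stalk z) := fun z => by
      haveI := (hYn z).1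
      infer_instance
    exact isReduced_of_isReduced_stalk _
  haveI : IsDominant (pullback.fst Y'.hom (Neron.genPt R')) :=
    Groth.Agent.Lib.H9NeronDedMain.isDominant_genericFibre Y'.hom
  constructor
  · -- injectivity
    intro g1 g2 h12
    have h12' : (Neron.genericFibre R').map g1 = (Neron.genericFibre R').map g2 := by
      have h12'' : (Neron.genericFibre R').map g1 ≫ 𝟙 _ = (Neron.genericFibre R').map g2 ≫ 𝟙 _ :=
        h12
      rwa [Category.comp_id, Category.comp_id] at h12''
    have hagree : pullback.fst Y'.hom (Neron.genPt R') ≫ g1.left =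
        pullback.fst Y'.hom (Neron.genPt R') ≫ g2.left := by
      rw [← map_left_fst, ← map_left_fst, h12']
    apply Over.OverMorphism.ext
    have hw1 : g1.left ≫ pullback.snd N.hom ρ = Y'.hom := Over.w g1
    have hw2 : g2.left ≫ pullback.snd N.hom ρ = Y'.hom := Over.w g2
    exact ext_of_isDominant_of_isSeparated (pullback.snd N.hom ρ) (hw1.trans hw2.symm)
      (pullback.fst Y'.hom (Neron.genPt R')) hagree
  · -- surjectivity
    intro γ'
    have hγ' : γ'.left ≫ pullback.snd (pullback.snd N.hom ρ) (Neron.genPt R') =
        pullback.snd Y'.hom (Neron.genPt R') := Over.w γ'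
    let YR : Over (Spec (CommRingCat.of R)) := Over.mk (Y'.hom ≫ ρ)
    have hYR : Smooth YR.hom := inferInstanceAs (Smooth (Y'.hom ≫ ρ))
    -- comparison of generic fibres of `Y'`
    let k' : pullback (Y'.hom ≫ ρ) (Neron.genPt R) ⟶ Spec (CommRingCat.of (FractionRing R')) :=
      sqK.lift (pullback.fst (Y'.hom ≫ ρ) (Neron.genPt R) ≫ Y'.hom)
        (pullback.snd (Y'.hom ≫ ρ) (Neron.genPt R)) (by
          rw [Category.assoc]
          exact pullback.condition)
    have hk'1 : k' ≫ Neron.genPt R' = pullback.fst (Y'.hom ≫ ρ) (Neron.genPt R) ≫ Y'.hom :=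
      sqK.lift_fst _ _ _
    have hk'2 : k' ≫ ρK = pullback.snd (Y'.hom ≫ ρ) (Neron.genPt R) := sqK.lift_snd _ _ _
    let i : pullback (Y'.hom ≫ ρ) (Neron.genPt R) ⟶ pullback Y'.hom (Neron.genPt R') :=
      pullback.lift (pullback.fst (Y'.hom ≫ ρ) (Neron.genPt R)) k' hk'1.symm
    have hi1 : i ≫ pullback.fst Y'.hom (Neron.genPt R') =
        pullback.fst (Y'.hom ≫ ρ) (Neron.genPt R) := pullback.lift_fst _ _ _
    have hi2 : i ≫ pullback.snd Y'.hom (Neron.genPt R') = k' := pullback.lift_snd _ _ _
    let j : pullback Y'.hom (Neron.genPt R') ⟶ pullback (Y'.hom ≫ ρ) (Neron.genPt R) :=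
      pullback.lift (pullback.fst Y'.hom (Neron.genPt R'))
        (pullback.snd Y'.hom (Neron.genPt R') ≫ ρK) (by
          rw [← Category.assoc, pullback.condition, Category.assoc, Category.assoc, sqK.w])
    have hj1 : j ≫ pullback.fst (Y'.hom ≫ ρ) (Neron.genPt R) =
        pullback.fst Y'.hom (Neron.genPt R') := pullback.lift_fst _ _ _
    have hj2 : j ≫ pullback.snd (Y'.hom ≫ ρ) (Neron.genPt R) =
        pullback.snd Y'.hom (Neron.genPt R') ≫ ρK := pullback.lift_snd _ _ _
    have hji : j ≫ i = 𝟙 _ := by
      apply pullback.hom_ext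
      · rw [Category.assoc, hi1, hj1, Category.id_comp]
      · rw [Category.assoc, hi2, Category.id_comp]
        apply sqK.hom_ext
        · rw [Category.assoc, hk'1, ← Category.assoc, hj1, pullback.condition]
        · rw [Category.assoc, hk'2, hj2]
    -- the map to the generic fibre of `N`
    let m : pullback (pullback.snd N.hom ρ) (Neron.genPt R') ⟶ pullback N.hom (Neron.genPt R) :=
      pullback.lift (pullback.fst (pullback.snd N.hom ρ) (Neron.genPt R') ≫ pullback.fst N.hom ρ)
        (pullback.snd (pullback.snd N.hom ρ) (Neron.genPt R') ≫ ρK) (by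
          rw [Category.assoc, pullback.condition, ← Category.assoc, pullback.condition,
            Category.assoc, Category.assoc, sqK.w])
    have hm1 : m ≫ pullback.fst N.hom (Neron.genPt R) =
        pullback.fst (pullback.snd N.hom ρ) (Neron.genPt R') ≫ pullback.fst N.hom ρ :=
      pullback.lift_fst _ _ _
    have hm2 : m ≫ pullback.snd N.hom (Neron.genPt R) =
        pullback.snd (pullback.snd N.hom ρ) (Neron.genPt R') ≫ ρK := pullback.lift_snd _ _ _
    let γ : (Neron.genericFibre R).obj YR ⟶ (Neron.genericFibre R).obj N :=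
      Over.homMk (i ≫ γ'.left ≫ m) (by
        change (i ≫ γ'.left ≫ m) ≫ pullback.snd N.hom (Neron.genPt R) =
          pullback.snd (Y'.hom ≫ ρ) (Neron.genPt R)
        rw [Category.assoc, Category.assoc, hm2, ← Category.assoc γ'.left, hγ', ← Category.assoc,
          hi2, hk'2])
    obtain ⟨h, hh⟩ := (hNMP YR hYR).2 γ
    have hh' : (Neron.genericFibre R).map h = γ := by
      have : (Neron.genericFibre R).map h ≫ 𝟙 _ = γ := hh
      rwa [Category.comp_id] at this
    have hw : h.left ≫ N.hom = Y'.hom ≫ ρ := Over.w h
    let gl : Y'.left ⟶ pullback N.hom ρ := pullback.lift h.left Y'.hom hw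
    have hgl1 : gl ≫ pullback.fst N.hom ρ = h.left := pullback.lift_fst _ _ _
    have hgl2 : gl ≫ pullback.snd N.hom ρ = Y'.hom := pullback.lift_snd _ _ _
    let gN : Y' ⟶ (Over.pullback ρ).obj N := Over.homMk gl hgl2
    refine ⟨gN, ?_⟩
    change (Neron.genericFibre R').map gN ≫ 𝟙 _ = γ'
    rw [Category.comp_id]
    apply Over.OverMorphism.ext
    have e1 : ((Neron.genericFibre R').map gN).left ≫
        pullback.fst (pullback.snd N.hom ρ) (Neron.genPt R') =
        pullback.fst Y'.hom (Neron.genPt R') ≫ gl := map_left_fst (Neron.genPt R') gN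
    have e2 : ((Neron.genericFibre R').map gN).left ≫
        pullback.snd (pullback.snd N.hom ρ) (Neron.genPt R') =
        pullback.snd Y'.hom (Neron.genPt R') := map_left_snd (Neron.genPt R') gN
    -- key identity from `h_K = γ`
    have key : pullback.fst Y'.hom (Neron.genPt R') ≫ h.left =
        γ'.left ≫ pullback.fst (pullback.snd N.hom ρ) (Neron.genPt R') ≫ pullback.fst N.hom ρ := by
      have k1 : pullback.fst (Y'.hom ≫ ρ) (Neron.genPt R) ≫ h.left =
          (i ≫ γ'.left ≫ m) ≫ pullback.fst N.hom (Neron.genPt R) := by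
        have := map_left_fst (Neron.genPt R) h
        rw [hh'] at this
        exact this.symm
      have k2 : i ≫ (pullback.fst Y'.hom (Neron.genPt R') ≫ h.left) =
          i ≫ (γ'.left ≫ pullback.fst (pullback.snd N.hom ρ) (Neron.genPt R') ≫
            pullback.fst N.hom ρ) := by
        rw [← Category.assoc, hi1, k1, Category.assoc, Category.assoc, hm1]
      have k3 := congrArg (fun z => j ≫ z) k2
      simp only [← Category.assoc] at k3
      rw [hji] at k3
      simpa only [Category.id_comp, Category.assoc] using k3
    apply pullback.hom_ext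
    · refine e1.trans ?_
      change pullback.fst Y'.hom (Neron.genPt R') ≫ gl =
        γ'.left ≫ pullback.fst (pullback.snd N.hom ρ) (Neron.genPt R')
      apply pullback.hom_ext
      · rw [Category.assoc, hgl1, Category.assoc, key]
      · have c1 : pullback.fst Y'.hom (Neron.genPt R') ≫ Y'.hom =
            pullback.snd Y'.hom (Neron.genPt R') ≫ Neron.genPt R' := pullback.condition
        have c2 : pullback.fst (pullback.snd N.hom ρ) (Neron.genPt R') ≫ pullback.snd N.hom ρ =
            pullback.snd (pullback.snd N.hom ρ) (Neron.genPt R') ≫ Neron.genPt R' :=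
          pullback.condition
        rw [Category.assoc, hgl2, c1, Category.assoc, c2, ← Category.assoc, hγ']
    · exact e2.trans hγ'.symm

end Main

end Groth.Agent.Lib.H9NeronBC
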