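import Mathlib
import Groth.Prelude.Def_CInt

set_option autoImplicit false
set_option linter.style.haveILetI false
set_option linter.unusedSectionVars false
universe u v w

namespace Groth.Agent.Lib.H9NeronSection

open CategoryTheory AlgebraicGeometry TopologicalSpace

-- ===== from NR1 =====
section SecNR1
theorem inj_of_eq {X : Scheme.{u}} {A A' B B' : X.Opens} (hA : A' ≤ A) (hB : B' ≤ B)
    (e1 : A = B) (e2 : A' = B')
    (h : Function.Injective (X.presheaf.map (homOfLE hA).op)) :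
    Function.Injective (X.presheaf.map (homOfLE hB).op) := by
  subst e1 e2
  exact h

/-- restriction to a schematically dense open is injective on global sections of an open -/
theorem appTop_injective {E : Scheme.{u}} (D₀ : E.Opens) (hD : CInt.IsSchematicallyDense D₀)
    (W : E.Opens) :
    Function.Injective ((W.ι ⁻¹ᵁ D₀).ι.appTop).hom := by
  rw [Scheme.Opens.ι_appTop, Scheme.Opens.toScheme_presheaf_map]
  have h := hD W
  have hle : W.ι ''ᵁ ((W.ι ⁻¹ᵁ D₀).ι ''ᵁ ⊤) ≤ W.ι ''ᵁ ⊤ :=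
    W.ι.image_mono le_top
  have e1 : W = W.ι ''ᵁ ⊤ := (Scheme.Opens.ι_image_top W).symm
  have e2 : W ⊓ D₀ = W.ι ''ᵁ ((W.ι ⁻¹ᵁ D₀).ι ''ᵁ ⊤) := by
    rw [Scheme.Opens.ι_image_top]
    ext x
    simp only [Opens.coe_inf, Set.mem_inter_iff, SetLike.mem_coe]
    constructor
    · rintro ⟨hxW, hxD⟩
      exact ⟨⟨x, hxW⟩, hxD, rfl⟩
    · rintro ⟨y, hy, rfl⟩
      exact ⟨y.2, hy⟩
  exact inj_of_eq _ hle e1 e2 h


/-- two morphisms to an affine scheme agreeing on a schematically dense open are equal -/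
theorem eq_of_dense {E V : Scheme.{u}} [IsAffine V] (D₀ : E.Opens)
    (hD : CInt.IsSchematicallyDense D₀) (W : E.Opens) (a b : W.toScheme ⟶ V)
    (hab : (W.ι ⁻¹ᵁ D₀).ι ≫ a = (W.ι ⁻¹ᵁ D₀).ι ≫ b) : a = b := by
  apply ext_of_isAffine
  have h1 : a.appTop ≫ (W.ι ⁻¹ᵁ D₀).ι.appTop = b.appTop ≫ (W.ι ⁻¹ᵁ D₀).ι.appTop := by
    rw [← Scheme.Hom.comp_appTop, ← Scheme.Hom.comp_appTop, hab]
  ext x
  apply appTop_injective D₀ hD W
  exact congr($(h1).hom x)

theorem main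
    {E S : Scheme.{u}} (f : E ⟶ S) (U : S.Opens) (_hU : CInt.IsSchematicallyDense U)
    (hiso : IsIso (morphismRestrict f U)) (hdense : CInt.IsSchematicallyDense (f ⁻¹ᵁ U))
    (σ : S ⟶ E) (hσ : σ ≫ f = 𝟙 S) (s : S) :
    ∃ W : E.Opens, σ.base s ∈ W ∧ IsOpenImmersion (W.ι ≫ f) := by
  haveI := hiso
  -- step 1: `f ≫ σ` is the identity on `f⁻¹ U`
  have hrange1 : Set.range (U.ι ≫ σ) ⊆ Set.range (f ⁻¹ᵁ U).ι := by
    rintro _ ⟨x, rfl⟩
    rw [Scheme.Opens.range_ι]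
    change f (σ (U.ι x)) ∈ U
    have : f (σ (U.ι x)) = U.ι x := by
      have := congr($(hσ) (U.ι x))
      simpa using this
    rw [this]
    exact x.2
  let σU : U.toScheme ⟶ (f ⁻¹ᵁ U).toScheme := IsOpenImmersion.lift (f ⁻¹ᵁ U).ι (U.ι ≫ σ) hrange1
  have hσU : σU ≫ (f ⁻¹ᵁ U).ι = U.ι ≫ σ := IsOpenImmersion.lift_fac _ _ _
  have h1 : σU ≫ (f ∣_ U) = 𝟙 _ := by
    rw [← cancel_mono U.ι, Category.assoc, morphismRestrict_ι, ← Category.assoc, hσU,
      Category.assoc, hσ, Category.comp_id, Category.id_comp]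
  have h2 : (f ∣_ U) ≫ σU = 𝟙 _ := by
    have : σU = inv (f ∣_ U) := by
      rw [← cancel_mono (f ∣_ U), h1, IsIso.inv_hom_id]
    rw [this, IsIso.hom_inv_id]
  have h3 : (f ⁻¹ᵁ U).ι ≫ f ≫ σ = (f ⁻¹ᵁ U).ι := by
    rw [← Category.assoc, ← morphismRestrict_ι, Category.assoc, ← hσU, ← Category.assoc, h2,
      Category.id_comp]
  -- step 2: the neighbourhood
  obtain ⟨V, hV, heV, -⟩ := exists_isAffineOpen_mem_and_subset (x := σ s) (U := ⊤) trivial
  haveI : IsAffine V.toScheme := hV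
  let g : E ⟶ E := f ≫ σ
  have hge : g (σ s) = σ s := by
    change σ (f (σ s)) = σ s
    have : f (σ s) = s := by
      have := congr($(hσ) s)
      simpa using this
    rw [this]
  let W : E.Opens := V ⊓ g ⁻¹ᵁ V
  have heW : σ s ∈ W := ⟨heV, by change g (σ s) ∈ V; rw [hge]; exact heV⟩
  -- step 3: `g` is the identity on `W`
  have hrange2 : Set.range (W.ι ≫ g) ⊆ Set.range V.ι := by
    rintro _ ⟨x, rfl⟩
    rw [Scheme.Opens.range_ι]
    exact x.2.2
  let a : W.toScheme ⟶ V.toScheme := IsOpenImmersion.lift V.ι (W.ι ≫ g) hrange2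
  have ha : a ≫ V.ι = W.ι ≫ g := IsOpenImmersion.lift_fac _ _ _
  let b : W.toScheme ⟶ V.toScheme := E.homOfLE (inf_le_left : W ≤ V)
  have hb : b ≫ V.ι = W.ι := E.homOfLE_ι _
  have hab : a = b := by
    apply eq_of_dense (f ⁻¹ᵁ U) hdense W a b
    rw [← cancel_mono V.ι, Category.assoc, Category.assoc, ha, hb]
    have hfac : (W.ι ⁻¹ᵁ (f ⁻¹ᵁ U)).ι ≫ W.ι =
        IsOpenImmersion.lift (f ⁻¹ᵁ U).ι ((W.ι ⁻¹ᵁ (f ⁻¹ᵁ U)).ι ≫ W.ι) (by
          rintro _ ⟨x, rfl⟩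
          rw [Scheme.Opens.range_ι]
          exact x.2) ≫ (f ⁻¹ᵁ U).ι := (IsOpenImmersion.lift_fac _ _ _).symm
    rw [← Category.assoc, hfac, Category.assoc, h3]
  have h4 : W.ι ≫ f ≫ σ = W.ι := by
    change W.ι ≫ g = W.ι
    rw [← ha, hab, hb]
  -- step 4: the inverse
  let T : S.Opens := σ ⁻¹ᵁ W
  have hrange3 : Set.range (W.ι ≫ f) ⊆ Set.range T.ι := by
    rintro _ ⟨x, rfl⟩
    rw [Scheme.Opens.range_ι]
    change σ (f (W.ι x)) ∈ W
    have : σ (f (W.ι x)) = W.ι x := by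
      have := congr($(h4) x)
      simpa using this
    rw [this]
    exact x.2
  let c : W.toScheme ⟶ T.toScheme := IsOpenImmersion.lift T.ι (W.ι ≫ f) hrange3
  have hc : c ≫ T.ι = W.ι ≫ f := IsOpenImmersion.lift_fac _ _ _
  have hrange4 : Set.range (T.ι ≫ σ) ⊆ Set.range W.ι := by
    rintro _ ⟨x, rfl⟩
    rw [Scheme.Opens.range_ι]
    exact x.2
  let d : T.toScheme ⟶ W.toScheme := IsOpenImmersion.lift W.ι (T.ι ≫ σ) hrange4
  have hd : d ≫ W.ι = T.ι ≫ σ := IsOpenImmersion.lift_fac _ _ _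
  have hcd : c ≫ d = 𝟙 _ := by
    rw [← cancel_mono W.ι, Category.assoc, hd, ← Category.assoc, hc, Category.assoc, h4,
      Category.id_comp]
  have hdc : d ≫ c = 𝟙 _ := by
    rw [← cancel_mono T.ι, Category.assoc, hc, ← Category.assoc, hd, Category.assoc, hσ,
      Category.comp_id, Category.id_comp]
  haveI : IsIso c := ⟨d, hcd, hdc⟩
  refine ⟨W, heW, ?_⟩
  rw [← hc]
  infer_instance

end SecNR1


end Groth.Agent.Lib.H9NeronSection
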