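import Mathlib
import Groth.Prelude.Def_W4c5spincurvestfNode

set_option autoImplicit false
universe u

namespace Groth.Agent.Lib.H9NodeKer
open SpinCurv MvPowerSeries

variable {R : Type u} [CommRing R]

/-- exponent vectors in two variables -/
noncomputable def e (i j : ℕ) : Fin 2 →₀ ℕ := Finsupp.single 0 i + Finsupp.single 1 j

lemma e_zero (i j : ℕ) : e i j 0 = i := by simp [e]
lemma e_one (i j : ℕ) : e i j 1 = j := by simp [e]

lemma eq_e (d : Fin 2 →₀ ℕ) : d = e (d 0) (d 1) := by
  ext k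
  fin_cases k
  · exact (e_zero _ _).symm
  · exact (e_one _ _).symm

lemma e_succ_left (i j : ℕ) : e (i + 1) j = Finsupp.single 0 1 + e i j := by
  ext k
  fin_cases k <;> simp [e] <;> ring

lemma e_succ_right (i j : ℕ) : e i (j + 1) = Finsupp.single 1 1 + e i j := by
  ext k
  fin_cases k <;> simp [e] <;> ring

lemma ext2 {f g : MvPowerSeries (Fin 2) R} (h : ∀ i j, coeff (e i j) f = coeff (e i j) g) : f = g := by
  ext d
  rw [eq_e d]
  exact h _ _

lemma coeff_X0_mul_succ (f : MvPowerSeries (Fin 2) R) (i j : ℕ) :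
    coeff (e (i + 1) j) (X 0 * f) = coeff (e i j) f := by
  rw [e_succ_left, X_def, coeff_add_monomial_mul, one_mul]

lemma coeff_X0_mul_zero (f : MvPowerSeries (Fin 2) R) (j : ℕ) :
    coeff (e 0 j) (X 0 * f) = 0 := by
  rw [X_def, coeff_monomial_mul, if_neg]
  intro h
  have := h 0
  simp [e] at this

lemma coeff_X1_mul_succ (f : MvPowerSeries (Fin 2) R) (i j : ℕ) :
    coeff (e i (j + 1)) (X 1 * f) = coeff (e i j) f := by
  rw [e_succ_right, X_def, coeff_add_monomial_mul, one_mul]

lemma coeff_X1_mul_zero (f : MvPowerSeries (Fin 2) R) (i : ℕ) :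
    coeff (e i 0) (X 1 * f) = 0 := by
  rw [X_def, coeff_monomial_mul, if_neg]
  intro h
  have := h 1
  simp [e] at this

/-- a series from a double-indexed family -/
noncomputable def mk2 (c : ℕ → ℕ → R) : MvPowerSeries (Fin 2) R := fun d => c (d 0) (d 1)

lemma coeff_mk2 (c : ℕ → ℕ → R) (i j : ℕ) : coeff (e i j) (mk2 c) = c i j := by
  change c (e i j 0) (e i j 1) = c i j
  rw [e_zero, e_one]

/-- Krull-type vanishing: a series `h` with `h_{ij} = π h_{i+1,j+1}` vanishes. -/
lemma krull_vanish [IsNoetherianRing R] [IsLocalRing R] (π : R)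
    (hπ : π ∈ IsLocalRing.maximalIdeal R) (h : MvPowerSeries (Fin 2) R)
    (hrec : ∀ i j, coeff (e i j) h = π * coeff (e (i + 1) (j + 1)) h) : h = 0 := by
  have hk : ∀ (k i j : ℕ), coeff (e i j) h ∈ IsLocalRing.maximalIdeal R ^ k := by
    intro k
    induction k with
    | zero => intro i j; simp
    | succ k ih =>
      intro i j
      rw [hrec, pow_succ']
      exact Ideal.mul_mem_mul hπ (ih _ _)
  apply ext2
  intro i j
  rw [map_zero]
  have hbot := Ideal.iInf_pow_eq_bot_of_isLocalRing (IsLocalRing.maximalIdeal R)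
    (IsLocalRing.maximalIdeal.isMaximal R).ne_top
  have : coeff (e i j) h ∈ (⨅ k, IsLocalRing.maximalIdeal R ^ k : Ideal R) := by
    rw [Ideal.mem_iInf]
    intro k
    exact hk k i j
  rw [hbot] at this
  exact this

theorem core [IsNoetherianRing R] [IsLocalRing R] (p q : R)
    (hpq : p * q ∈ IsLocalRing.maximalIdeal R)
    (a b h₁ h₂ : MvPowerSeries (Fin 2) R)
    (E1 : X 0 * a + C p * b = (X 0 * X 1 - C (p * q)) * h₁)
    (E2 : C q * a + X 1 * b = (X 0 * X 1 - C (p * q)) * h₂) :
    ∃ u w : MvPowerSeries (Fin 2) R, a = C p * u + X 1 * w ∧ b = -(X 0 * u) - C q * w := by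
  set a' := a - X 1 * h₁ with ha'
  set b' := b + C q * h₁ with hb'
  have E1' : X 0 * a' = -(C p * b') := by
    rw [ha', hb']
    have : X 0 * (a - X 1 * h₁) + C p * (b + C q * h₁) = 0 := by
      have e : X 0 * (a - X 1 * h₁) + C p * (b + C q * h₁) =
          (X 0 * a + C p * b) - (X 0 * X 1 - C p * C q) * h₁ := by ring
      rw [e, E1, map_mul, sub_self]
    exact eq_neg_of_add_eq_zero_left this
  have E2' : C q * a' + X 1 * b' = (X 0 * X 1 - C (p * q)) * h₂ := by
    rw [ha', hb', ← E2]; ring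
  let b₁ : MvPowerSeries (Fin 2) R := mk2 (fun i j => coeff (e (i + 1) j) b')
  set b₀ := b' - X 0 * b₁ with hb₀
  have hA : a' = -(C p * b₁) := by
    apply ext2
    intro i j
    rw [← coeff_X0_mul_succ a' i j, E1', map_neg, map_neg, coeff_C_mul, coeff_C_mul, coeff_mk2]
  have hB : ∀ i j, coeff (e (i + 1) j) b₀ = 0 := by
    intro i j
    rw [hb₀, map_sub, coeff_X0_mul_succ, coeff_mk2, sub_self]
  have E3 : X 1 * b₀ = (X 0 * X 1 - C (p * q)) * (h₂ - b₁) := by
    have : X 1 * b₀ = (C q * a' + X 1 * b') - (X 0 * X 1 - C (p * q)) * b₁ := by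
      rw [hA, hb₀, map_mul]; ring
    rw [this, E2']; ring
  have hh : h₂ - b₁ = 0 := by
    apply krull_vanish (p * q) hpq
    intro i j
    have h1 := congrArg (coeff (e (i + 1) (j + 1))) E3
    rw [coeff_X1_mul_succ, hB, sub_mul, map_sub, mul_assoc, coeff_X0_mul_succ, coeff_X1_mul_succ,
      coeff_C_mul] at h1
    exact (sub_eq_zero.mp h1.symm)
  have hb0 : b₀ = 0 := by
    rw [hh, mul_zero] at E3
    apply ext2
    intro i j
    rw [← coeff_X1_mul_succ b₀ i j, E3, map_zero, map_zero]
  refine ⟨-b₁, h₁, ?_, ?_⟩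
  · have : a = a' + X 1 * h₁ := by rw [ha']; ring
    rw [this, hA]; ring
  · have h1 : b = b' - C q * h₁ := by rw [hb']; ring
    have h2 : b' = X 0 * b₁ := by
      have := sub_eq_zero.mp (hb0 ▸ hb₀.symm : b' - X 0 * b₁ = 0)
      exact this
    rw [h1, h2]; ring

lemma algebraMap_eq (π r : R) :
    algebraMap R (NodeRing R π) r = Ideal.Quotient.mk _ (C r : MvPowerSeries (Fin 2) R) := rfl

lemma mk_rel (π : R) :
    (Ideal.Quotient.mk (Ideal.span {(X 0 * X 1 - C π : MvPowerSeries (Fin 2) R)}))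
      (X 0 * X 1 - C π) = 0 :=
  Ideal.Quotient.eq_zero_iff_mem.mpr (Ideal.subset_span rfl)

lemma mk_lin1 {S : Type*} [CommRing S] (I : Ideal S) (c u x w : S) :
    Ideal.Quotient.mk I (c * u + x * w) =
      Ideal.Quotient.mk I u * Ideal.Quotient.mk I c + Ideal.Quotient.mk I w * Ideal.Quotient.mk I x := by
  rw [map_add, map_mul, map_mul]; ring

lemma mk_lin2 {S : Type*} [CommRing S] (I : Ideal S) (c u x w : S) :
    Ideal.Quotient.mk I (-(x * u) - c * w) =
      Ideal.Quotient.mk I u * -Ideal.Quotient.mk I x + Ideal.Quotient.mk I w * -Ideal.Quotient.mk I c := by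
  rw [map_sub, map_neg, map_mul, map_mul]; ring

lemma mk_lin3 {S : Type*} [CommRing S] (I : Ideal S) (c u x w : S) :
    Ideal.Quotient.mk I x * Ideal.Quotient.mk I u + Ideal.Quotient.mk I c * Ideal.Quotient.mk I w =
    Ideal.Quotient.mk I (x * u + c * w) := by
  rw [map_add, map_mul, map_mul]

theorem ker_eq [IsNoetherianRing R] [IsLocalRing R] (p q : R)
    (hp : p ∈ IsLocalRing.maximalIdeal R) :
    LinearMap.ker (Matrix.mulVecLin (nodeAlpha R p q)) =
      Submodule.span (NodeRing R (p * q))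
        {![algebraMap R (NodeRing R (p * q)) p, -NodeRing.x R (p * q)],
         ![NodeRing.y R (p * q), -algebraMap R (NodeRing R (p * q)) q]} := by
  have hxy : NodeRing.x R (p * q) * NodeRing.y R (p * q) =
      algebraMap R (NodeRing R (p * q)) p * algebraMap R (NodeRing R (p * q)) q := by
    have h0 := mk_rel (p * q)
    have h2 : (Ideal.Quotient.mk (Ideal.span {(X 0 * X 1 - C (p * q) : MvPowerSeries (Fin 2) R)}))
        (X 0 * X 1) = (Ideal.Quotient.mk _) (C (p * q)) :=
      sub_eq_zero.mp ((map_sub _ _ _).symm.trans h0)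
    calc NodeRing.x R (p * q) * NodeRing.y R (p * q)
        = (Ideal.Quotient.mk _) (X 0 * X 1) := (map_mul _ _ _).symm
      _ = (Ideal.Quotient.mk _) (C (p * q)) := h2
      _ = algebraMap R (NodeRing R (p * q)) (p * q) := rfl
      _ = _ := map_mul _ _ _
  apply le_antisymm
  · intro v hv
    rw [LinearMap.mem_ker, Matrix.mulVecLin_apply] at hv
    have h0 := congrFun hv 0
    have h1 := congrFun hv 1
    simp only [nodeAlpha, Matrix.mulVec, dotProduct, Fin.sum_univ_two, Matrix.of_apply,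
      Matrix.cons_val_zero, Matrix.cons_val_one, Pi.zero_apply, Matrix.cons_val',
      Matrix.cons_val_fin_one] at h0 h1
    obtain ⟨a, ha⟩ := Ideal.Quotient.mk_surjective (v 0)
    obtain ⟨b, hb⟩ := Ideal.Quotient.mk_surjective (v 1)
    rw [← ha, ← hb, algebraMap_eq, mk_lin3, Ideal.Quotient.eq_zero_iff_mem,
      Ideal.mem_span_singleton'] at h0 h1
    obtain ⟨h₁, e1⟩ := h0
    obtain ⟨h₂, e2⟩ := h1
    obtain ⟨u, w, hu, hw⟩ := core p q (Ideal.mul_mem_right _ _ hp) a b h₁ h₂
      (by rw [← e1]; ring) (by rw [← e2]; ring)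
    rw [Submodule.mem_span_pair]
    refine ⟨Ideal.Quotient.mk _ u, Ideal.Quotient.mk _ w, ?_⟩
    ext i
    fin_cases i
    · simp only [Fin.zero_eta, Pi.add_apply, Pi.smul_apply, Matrix.cons_val_zero, smul_eq_mul]
      rw [← ha, hu]
      exact (mk_lin1 _ _ _ _ _).symm
    · simp only [Fin.mk_one, Pi.add_apply, Pi.smul_apply, Matrix.cons_val_one,
        Matrix.cons_val_fin_one, smul_eq_mul]
      rw [← hb, hw]
      exact (mk_lin2 _ _ _ _ _).symm
  · rw [Submodule.span_le]
    rintro v (rfl | rfl)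
    · rw [SetLike.mem_coe, LinearMap.mem_ker, Matrix.mulVecLin_apply]
      ext i
      fin_cases i
      · simp only [nodeAlpha, Matrix.mulVec, dotProduct, Fin.sum_univ_two, Matrix.of_apply,
          Matrix.cons_val_zero, Matrix.cons_val_one, Pi.zero_apply, Matrix.cons_val',
          Matrix.cons_val_fin_one, Fin.zero_eta]
        ring
      · simp only [nodeAlpha, Matrix.mulVec, dotProduct, Fin.sum_univ_two, Matrix.of_apply,
          Matrix.cons_val_zero, Matrix.cons_val_one, Pi.zero_apply, Matrix.cons_val',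
          Matrix.cons_val_fin_one, Fin.mk_one]
        linear_combination (-1 : NodeRing R (p * q)) * hxy
    · rw [SetLike.mem_coe, LinearMap.mem_ker, Matrix.mulVecLin_apply]
      ext i
      fin_cases i
      · simp only [nodeAlpha, Matrix.mulVec, dotProduct, Fin.sum_univ_two, Matrix.of_apply,
          Matrix.cons_val_zero, Matrix.cons_val_one, Pi.zero_apply, Matrix.cons_val',
          Matrix.cons_val_fin_one, Fin.zero_eta]
        linear_combination hxy
      · simp only [nodeAlpha, Matrix.mulVec, dotProduct, Fin.sum_univ_two, Matrix.of_apply,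
          Matrix.cons_val_zero, Matrix.cons_val_one, Pi.zero_apply, Matrix.cons_val',
          Matrix.cons_val_fin_one, Fin.mk_one]
        ring

end Groth.Agent.Lib.H9NodeKer
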