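import Mathlib
import Groth.Agent.Lib.H9NodeKer

set_option autoImplicit false
universe u

namespace Groth.Agent.Lib.H9NodeNF
open SpinCurv MvPowerSeries Groth.Agent.Lib.H9NodeKer

variable {R : Type u} [CommRing R]

/-- geometric-series solutions in an adically complete ring -/
lemma exists_geom (I : Ideal R) [IsAdicComplete I R] (π : R) (hπ : π ∈ I) (t : ℕ → R) :
    ∃ s : ℕ → R, ∀ n, s n = t n + π * s (n + 1) := by
  let P : ℕ → ℕ → R := fun N n => ∑ k ∈ Finset.range N, t (n + k) * π ^ k
  have hP : ∀ N n, P (N + 1) n = t n + π * P N (n + 1) := by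
    intro N n
    simp only [P]
    rw [Finset.sum_range_succ', Finset.mul_sum, pow_zero, mul_one, add_zero, add_comm]
    congr 1
    apply Finset.sum_congr rfl
    intro k _
    rw [pow_succ, show n + (k + 1) = n + 1 + k by ring]
    ring
  have hstep : ∀ N n, P (N + 1) n - P N n ∈ I ^ N := by
    intro N n
    simp only [P]
    rw [Finset.sum_range_succ, add_sub_cancel_left]
    exact Ideal.mul_mem_left _ _ (Ideal.pow_mem_pow hπ N)
  have hcauchy : ∀ n M N, M ≤ N → P M n - P N n ∈ I ^ M := by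
    intro n M N hMN
    induction N, hMN using Nat.le_induction with
    | base => rw [sub_self]; exact Ideal.zero_mem _
    | succ N hMN ih =>
      have : P M n - P (N + 1) n = (P M n - P N n) - (P (N + 1) n - P N n) := by ring
      rw [this]
      exact Ideal.sub_mem _ ih (Ideal.pow_le_pow_right hMN (hstep N n))
  have hlim : ∀ n, ∃ L : R, ∀ N, P N n - L ∈ I ^ N := by
    intro n
    obtain ⟨L, hL⟩ := IsPrecomplete.prec (I := I) (M := R) inferInstance (f := fun N => P N n)
      (by
        intro M N hMN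
        rw [SModEq.sub_mem, smul_eq_mul, Ideal.mul_top]
        exact hcauchy n M N hMN)
    refine ⟨L, fun N => ?_⟩
    have := hL N
    rwa [SModEq.sub_mem, smul_eq_mul, Ideal.mul_top] at this
  choose s hs using hlim
  refine ⟨s, fun n => ?_⟩
  have key : ∀ N, s n - (t n + π * s (n + 1)) ∈ I ^ N := by
    intro N
    have e : s n - (t n + π * s (n + 1)) =
        -(P (N + 1) n - s n) + π * (P N (n + 1) - s (n + 1)) := by
      rw [hP]; ring
    rw [e]
    refine Ideal.add_mem _ (Ideal.neg_mem_iff _ |>.mpr ?_) (Ideal.mul_mem_left _ _ (hs _ _))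
    exact Ideal.pow_le_pow_right (Nat.le_succ N) (hs n (N + 1))
  have h0 : s n - (t n + π * s (n + 1)) = 0 := by
    apply IsHausdorff.haus (I := I) (M := R) inferInstance
    intro N
    rw [SModEq.sub_mem, sub_zero, smul_eq_mul, Ideal.mul_top]
    exact key N
  exact sub_eq_zero.mp h0

lemma exists_S (I : Ideal R) [IsAdicComplete I R] (π : R) (hπ : π ∈ I) (c : ℕ → ℕ → R) :
    ∃ S : ℕ → ℕ → R, ∀ i j, S i j = c i j + π * S (i + 1) (j + 1) := by
  have h1 : ∀ d : ℕ, ∃ s : ℕ → R, ∀ n, s n = c (d + n) n + π * s (n + 1) :=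
    fun d => exists_geom I π hπ (fun n => c (d + n) n)
  have h2 : ∀ d : ℕ, ∃ s : ℕ → R, ∀ n, s n = c n (d + n) + π * s (n + 1) :=
    fun d => exists_geom I π hπ (fun n => c n (d + n))
  choose s₁ hs₁ using h1
  choose s₂ hs₂ using h2
  refine ⟨fun i j => if j ≤ i then s₁ (i - j) j else s₂ (j - i) i, fun i j => ?_⟩
  by_cases hij : j ≤ i
  · have h' : j + 1 ≤ i + 1 := by omega
    simp only [if_pos hij, if_pos h']
    rw [hs₁, show i + 1 - (j + 1) = i - j by omega, show i - j + j = i by omega]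
  · have h' : ¬ (j + 1 ≤ i + 1) := by omega
    simp only [if_neg hij, if_neg h']
    rw [hs₂, show j + 1 - (i + 1) = j - i by omega, show j - i + i = j by omega]

/-- normal form: modulo `xy - π` every series is congruent to one without mixed terms -/
lemma exists_nf (I : Ideal R) [IsAdicComplete I R] (π : R) (hπ : π ∈ I)
    (c : MvPowerSeries (Fin 2) R) :
    ∃ N h : MvPowerSeries (Fin 2) R, c = N + (X 0 * X 1 - C π) * h ∧
      ∀ i j, coeff (e (i + 1) (j + 1)) N = 0 := by
  obtain ⟨S, hS⟩ := exists_S I π hπ (fun i j => coeff (e i j) c)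
  refine ⟨c - (X 0 * X 1 - C π) * mk2 (fun i j => S (i + 1) (j + 1)),
    mk2 (fun i j => S (i + 1) (j + 1)), by ring, fun i j => ?_⟩
  rw [map_sub, sub_mul, map_sub, mul_assoc, coeff_X0_mul_succ, coeff_X1_mul_succ, coeff_C_mul,
    coeff_mk2, coeff_mk2]
  have := hS (i + 1) (j + 1)
  rw [this]
  ring

/-- the embedding of one-variable series in the first variable -/
noncomputable abbrev tX (f : PowerSeries R) : MvPowerSeries (Fin 2) R :=
  PowerSeries.toMvPowerSeries (σ := Fin 2) 0 f

/-- the embedding of one-variable series in the second variable -/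
noncomputable abbrev tY (f : PowerSeries R) : MvPowerSeries (Fin 2) R :=
  PowerSeries.toMvPowerSeries (σ := Fin 2) 1 f

lemma coeff_toMv_same (k : Fin 2) (f : PowerSeries R) (n : ℕ) :
    coeff (Finsupp.single k n) (PowerSeries.toMvPowerSeries (σ := Fin 2) k f) =
      PowerSeries.coeff n f := by
  have h := coeff_embDomain_rename (R := R) (Function.Embedding.punit k) f (Finsupp.single () n)
  rw [Finsupp.embDomain_single] at h
  exact h

lemma coeff_toMv_other (k l : Fin 2) (hkl : l ≠ k) (f : PowerSeries R) (d : Fin 2 →₀ ℕ)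
    (hd : d l ≠ 0) :
    coeff d (PowerSeries.toMvPowerSeries (σ := Fin 2) k f) = 0 := by
  rw [PowerSeries.toMvPowerSeries_apply]
  apply coeff_rename_eq_zero
  rintro ⟨x, rfl⟩
  apply hd
  rw [Finsupp.mapDomain, Finsupp.sum_apply]
  apply Finset.sum_eq_zero
  intro a _
  exact Finsupp.single_eq_of_ne hkl

lemma coeff_tX_zero (f : PowerSeries R) (i : ℕ) : coeff (e i 0) (tX f) = PowerSeries.coeff i f := by
  have : e i 0 = Finsupp.single 0 i := by simp [e]
  rw [this]
  exact coeff_toMv_same 0 f i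

lemma coeff_tX_succ (f : PowerSeries R) (i j : ℕ) : coeff (e i (j + 1)) (tX f) = 0 :=
  coeff_toMv_other 0 1 (by decide) f _ (by rw [e_one]; omega)

lemma coeff_tY_zero (f : PowerSeries R) (j : ℕ) : coeff (e 0 j) (tY f) = PowerSeries.coeff j f := by
  have : e 0 j = Finsupp.single 1 j := by simp [e]
  rw [this]
  exact coeff_toMv_same 1 f j

lemma coeff_tY_succ (f : PowerSeries R) (i j : ℕ) : coeff (e (i + 1) j) (tY f) = 0 :=
  coeff_toMv_other 1 0 (by decide) f _ (by rw [e_zero]; omega)

lemma nf_split1 (N : MvPowerSeries (Fin 2) R) (hN : ∀ i j, coeff (e (i + 1) (j + 1)) N = 0) :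
    ∃ F G : PowerSeries R, N = tX F + X 1 * tY G := by
  refine ⟨PowerSeries.mk (fun i => coeff (e i 0) N), PowerSeries.mk (fun j => coeff (e 0 (j + 1)) N), ?_⟩
  apply ext2
  intro i j
  rw [map_add]
  rcases j with _ | j
  · rw [coeff_tX_zero, PowerSeries.coeff_mk, coeff_X1_mul_zero, add_zero]
  · rw [coeff_tX_succ, coeff_X1_mul_succ, zero_add]
    rcases i with _ | i
    · rw [coeff_tY_zero, PowerSeries.coeff_mk]
    · rw [coeff_tY_succ, hN]

lemma nf_split2 (N : MvPowerSeries (Fin 2) R) (hN : ∀ i j, coeff (e (i + 1) (j + 1)) N = 0) :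
    ∃ F G : PowerSeries R, N = X 0 * tX F + tY G := by
  refine ⟨PowerSeries.mk (fun i => coeff (e (i + 1) 0) N), PowerSeries.mk (fun j => coeff (e 0 j) N), ?_⟩
  apply ext2
  intro i j
  rw [map_add]
  rcases i with _ | i
  · rw [coeff_tY_zero, PowerSeries.coeff_mk, coeff_X0_mul_zero, zero_add]
  · rw [coeff_tY_succ, coeff_X0_mul_succ, add_zero]
    rcases j with _ | j
    · rw [coeff_tX_zero, PowerSeries.coeff_mk]
    · rw [coeff_tX_succ, hN]

lemma mk_diff {S : Type*} [CommRing S] (I : Ideal S) (x0 c a a' b b' : S)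
    (h : Ideal.Quotient.mk I x0 * Ideal.Quotient.mk I a + Ideal.Quotient.mk I c * Ideal.Quotient.mk I b =
      Ideal.Quotient.mk I x0 * Ideal.Quotient.mk I a' + Ideal.Quotient.mk I c * Ideal.Quotient.mk I b') :
    Ideal.Quotient.mk I (x0 * (a - a') + c * (b - b')) = 0 := by
  rw [map_add, map_mul, map_mul, map_sub, map_sub]
  linear_combination h

lemma mk_nf {S : Type*} [CommRing S] (I : Ideal S) (r h n1 x1 n2 a : S)
    (hr : Ideal.Quotient.mk I r = 0) (ha : a = n1 + x1 * n2 + r * h) :
    Ideal.Quotient.mk I a = Ideal.Quotient.mk I n1 + Ideal.Quotient.mk I x1 * Ideal.Quotient.mk I n2 := by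
  rw [ha, map_add, map_add, map_mul, map_mul, hr, zero_mul, add_zero]

lemma mk_add_mul {S : Type*} [CommRing S] (I : Ideal S) (a c u : S) :
    Ideal.Quotient.mk I (a + c * u) = Ideal.Quotient.mk I a + Ideal.Quotient.mk I c * Ideal.Quotient.mk I u := by
  rw [map_add, map_mul]

lemma alpha_apply0 (p q : R) (v : Fin 2 → NodeRing R (p * q)) :
    (nodeAlpha R p q).mulVec v 0 =
      NodeRing.x R (p * q) * v 0 + algebraMap R (NodeRing R (p * q)) p * v 1 := by
  simp only [nodeAlpha, Matrix.mulVec, dotProduct, Fin.sum_univ_two, Matrix.of_apply,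
    Matrix.cons_val_zero, Matrix.cons_val_one, Matrix.cons_val', Matrix.cons_val_fin_one]

lemma alpha_apply1 (p q : R) (v : Fin 2 → NodeRing R (p * q)) :
    (nodeAlpha R p q).mulVec v 1 =
      algebraMap R (NodeRing R (p * q)) q * v 0 + NodeRing.y R (p * q) * v 1 := by
  simp only [nodeAlpha, Matrix.mulVec, dotProduct, Fin.sum_univ_two, Matrix.of_apply,
    Matrix.cons_val_zero, Matrix.cons_val_one, Matrix.cons_val', Matrix.cons_val_fin_one]

/-- a relation multiple with no mixed terms on the other side vanishes -/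
lemma rel_mul_eq_zero [IsNoetherianRing R] [IsLocalRing R] (π : R)
    (hπ : π ∈ IsLocalRing.maximalIdeal R) (h c : MvPowerSeries (Fin 2) R)
    (hc : ∀ i j, coeff (e (i + 1) (j + 1)) c = 0)
    (heq : h * (X 0 * X 1 - C π) = c) : h = 0 := by
  apply krull_vanish π hπ
  intro i j
  have h1 := congrArg (coeff (e (i + 1) (j + 1))) heq
  rw [mul_comm, sub_mul, map_sub, mul_assoc, coeff_X0_mul_succ, coeff_X1_mul_succ, coeff_C_mul,
    hc] at h1
  exact sub_eq_zero.mp h1

theorem inj_and_range [IsNoetherianRing R] [IsLocalRing R]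
    [IsAdicComplete (IsLocalRing.maximalIdeal R) R]
    (p q : R) (hp : p ∈ IsLocalRing.maximalIdeal R) :
    Function.Injective (fun fg : PowerSeries R × PowerSeries R =>
        Matrix.mulVec (nodeAlpha R p q)
          ![NodeRing.ofX R (p * q) fg.1, NodeRing.ofY R (p * q) fg.2]) ∧
    Set.range (fun fg : PowerSeries R × PowerSeries R =>
        Matrix.mulVec (nodeAlpha R p q)
          ![NodeRing.ofX R (p * q) fg.1, NodeRing.ofY R (p * q) fg.2]) =
      Set.range (Matrix.mulVec (nodeAlpha R p q)) := by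
  have hπ : p * q ∈ IsLocalRing.maximalIdeal R := Ideal.mul_mem_right _ _ hp
  have hxy : NodeRing.x R (p * q) * NodeRing.y R (p * q) =
      algebraMap R (NodeRing R (p * q)) p * algebraMap R (NodeRing R (p * q)) q := by
    have h0 := mk_rel (p * q)
    have h2 : (Ideal.Quotient.mk (Ideal.span {(X 0 * X 1 - C (p * q) : MvPowerSeries (Fin 2) R)}))
        (X 0 * X 1) = (Ideal.Quotient.mk _) (C (p * q)) :=
      sub_eq_zero.mp ((map_sub _ _ _).symm.trans h0)
    calc NodeRing.x R (p * q) * NodeRing.y R (p * q)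
        = (Ideal.Quotient.mk _) (X 0 * X 1) := (map_mul _ _ _).symm
      _ = (Ideal.Quotient.mk _) (C (p * q)) := h2
      _ = algebraMap R (NodeRing R (p * q)) (p * q) := rfl
      _ = _ := map_mul _ _ _
  constructor
  · rintro ⟨f, g⟩ ⟨f', g'⟩ h
    have h0 := congrFun h 0
    have h1 := congrFun h 1
    simp only [alpha_apply0, alpha_apply1, Matrix.cons_val_zero, Matrix.cons_val_one,
      Matrix.cons_val_fin_one] at h0 h1
    have k0 := mk_diff _ (X 0) (C p) (tX f) (tX f') (tY g) (tY g') h0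
    have k1 := mk_diff _ (C q) (X 1) (tX f) (tX f') (tY g) (tY g') h1
    rw [← map_sub, ← map_sub, Ideal.Quotient.eq_zero_iff_mem, Ideal.mem_span_singleton'] at k0 k1
    obtain ⟨h₀, e0⟩ := k0
    obtain ⟨h₁, e1⟩ := k1
    have z0 : h₀ = 0 := by
      apply rel_mul_eq_zero (p * q) hπ h₀ _ _ e0
      intro i j
      rw [map_add, coeff_X0_mul_succ, coeff_tX_succ, coeff_C_mul, coeff_tY_succ, mul_zero, add_zero]
    have z1 : h₁ = 0 := by
      apply rel_mul_eq_zero (p * q) hπ h₁ _ _ e1
      intro i j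
      rw [map_add, coeff_X1_mul_succ, coeff_tY_succ, coeff_C_mul, coeff_tX_succ, mul_zero, add_zero]
    rw [z0, zero_mul] at e0
    rw [z1, zero_mul] at e1
    have hf : f - f' = 0 := by
      ext i
      have := congrArg (coeff (e (i + 1) 0)) e0
      rw [map_add, coeff_X0_mul_succ, coeff_tX_zero, coeff_C_mul, coeff_tY_succ, mul_zero,
        add_zero, map_zero] at this
      rw [← this, map_zero]
    have hg : g - g' = 0 := by
      ext j
      have := congrArg (coeff (e 0 (j + 1))) e1
      rw [map_add, coeff_X1_mul_succ, coeff_tY_zero, coeff_C_mul, coeff_tX_succ, mul_zero,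
        zero_add, map_zero] at this
      rw [← this, map_zero]
    rw [sub_eq_zero.mp hf, sub_eq_zero.mp hg]
  · apply Set.eq_of_subset_of_subset
    · rintro _ ⟨fg, rfl⟩
      exact ⟨_, rfl⟩
    · rintro _ ⟨v, rfl⟩
      obtain ⟨a, ha⟩ := Ideal.Quotient.mk_surjective (v 0)
      obtain ⟨b, hb⟩ := Ideal.Quotient.mk_surjective (v 1)
      obtain ⟨Na, ka, eqa, hNa⟩ := exists_nf (IsLocalRing.maximalIdeal R) (p * q) hπ a
      obtain ⟨Nb, kb, eqb, hNb⟩ := exists_nf (IsLocalRing.maximalIdeal R) (p * q) hπ b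
      obtain ⟨a₁, w, hNa'⟩ := nf_split1 Na hNa
      obtain ⟨u', b₂, hNb'⟩ := nf_split2 Nb hNb
      have hv0 : v 0 = Ideal.Quotient.mk _ (tX a₁) + NodeRing.y R (p * q) * Ideal.Quotient.mk _ (tY w) := by
        rw [← ha]
        exact mk_nf _ _ ka _ _ _ _ (mk_rel (p * q)) (by rw [eqa, hNa'])
      have hv1 : v 1 = Ideal.Quotient.mk _ (tY b₂) + NodeRing.x R (p * q) * Ideal.Quotient.mk _ (tX u') := by
        rw [← hb]
        exact mk_nf _ _ kb _ _ _ _ (mk_rel (p * q)) (by rw [eqb, hNb']; ring)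
      have hf : NodeRing.ofX R (p * q) (a₁ + PowerSeries.C p * u') =
          Ideal.Quotient.mk _ (tX a₁) + algebraMap R (NodeRing R (p * q)) p * Ideal.Quotient.mk _ (tX u') := by
        have : tX (a₁ + PowerSeries.C p * u') = tX a₁ + C p * tX u' := by
          rw [tX, map_add, map_mul, PowerSeries.toMvPowerSeries_C]
        change Ideal.Quotient.mk _ (tX (a₁ + PowerSeries.C p * u')) = _
        rw [this]
        exact mk_add_mul _ _ _ _
      have hg : NodeRing.ofY R (p * q) (b₂ + PowerSeries.C q * w) =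
          Ideal.Quotient.mk _ (tY b₂) + algebraMap R (NodeRing R (p * q)) q * Ideal.Quotient.mk _ (tY w) := by
        have : tY (b₂ + PowerSeries.C q * w) = tY b₂ + C q * tY w := by
          rw [tY, map_add, map_mul, PowerSeries.toMvPowerSeries_C]
        change Ideal.Quotient.mk _ (tY (b₂ + PowerSeries.C q * w)) = _
        rw [this]
        exact mk_add_mul _ _ _ _
      refine ⟨(a₁ + PowerSeries.C p * u', b₂ + PowerSeries.C q * w), ?_⟩
      ext i
      fin_cases i
      · simp only [Fin.zero_eta, alpha_apply0, Matrix.cons_val_zero, Matrix.cons_val_one,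
          Matrix.cons_val_fin_one]
        rw [hv0, hv1, hf, hg]
        linear_combination (-(Ideal.Quotient.mk _ (tY w))) * hxy
      · simp only [Fin.mk_one, alpha_apply1, Matrix.cons_val_zero, Matrix.cons_val_one,
          Matrix.cons_val_fin_one]
        rw [hv0, hv1, hf, hg]
        linear_combination (-(Ideal.Quotient.mk _ (tX u'))) * hxy

end Groth.Agent.Lib.H9NodeNF
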