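import Mathlib
import Groth.Prelude
import Groth.Agent.Lib.Helper20Perfection
import Groth.Agent.S0593

/-! helper9: S14915. `isAffineHom_of_comp_surjective` (h surjective universally closed, h ≫ f affine ⇒ f affine; via S0593 Chevalley), `main` (f affine ⟺ its perfection is affine). -/

set_option autoImplicit false
universe u

namespace Groth.Agent.Lib.H9PerfAff

open CategoryTheory CategoryTheory.Limits AlgebraicGeometry TopologicalSpace Opposite

/-- affineness descends along a surjective universally closed morphism `h : X' ⟶ X`: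
if `h ≫ f` is affine then `f` is affine -/
theorem isAffineHom_of_comp_surjective {X' X Y : Scheme.{u}} (h : X' ⟶ X) (f : X ⟶ Y)
    [Surjective h] [UniversallyClosed h] [IsAffineHom (h ≫ f)] : IsAffineHom f := by
  refine ⟨fun U hU => ?_⟩
  have h1 : IsAffineOpen ((h ≫ f) ⁻¹ᵁ U) := hU.preimage (h ≫ f)
  have h2 : (h ≫ f) ⁻¹ᵁ U = h ⁻¹ᵁ (f ⁻¹ᵁ U) := rfl
  rw [h2] at h1
  haveI : IsAffine (h ⁻¹ᵁ (f ⁻¹ᵁ U)).toScheme := h1
  haveI : Surjective (h ∣_ (f ⁻¹ᵁ U)) :=
    IsZariskiLocalAtTarget.restrict (P := @Surjective) inferInstance _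
  haveI : UniversallyClosed (h ∣_ (f ⁻¹ᵁ U)) :=
    IsZariskiLocalAtTarget.restrict (P := @UniversallyClosed) inferInstance _
  exact Groth.Agent.S0593.result _ _ (h ∣_ (f ⁻¹ᵁ U))

theorem main (p : ℕ) [Fact p.Prime] {X Y XP YP : Scheme.{u}}
    [FrobSch.IsCharP X p] [FrobSch.IsCharP Y p] [FrobSch.IsCharP XP p] [FrobSch.IsCharP YP p]
    (πX : XP ⟶ X) (πY : YP ⟶ Y) (hX : FrobSch.IsPerfection πX p) (hY : FrobSch.IsPerfection πY p)
    (f : X ⟶ Y) (fP : XP ⟶ YP) (w : fP ≫ πY = πX ≫ f) :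
    AlgebraicGeometry.IsAffineHom f ↔ AlgebraicGeometry.IsAffineHom fP := by
  obtain ⟨hX1, hX2, hX3⟩ := Groth.Agent.Lib.Helper20.Perfection.props_of_isPerfection p πX hX
  obtain ⟨hY1, hY2, hY3⟩ := Groth.Agent.Lib.Helper20.Perfection.props_of_isPerfection p πY hY
  constructor
  · intro hf
    haveI : IsAffineHom (fP ≫ πY) := by rw [w]; infer_instance
    exact IsAffineHom.of_comp fP πY
  · intro hf
    haveI : IsAffineHom (πX ≫ f) := by rw [← w]; infer_instance
    exact isAffineHom_of_comp_surjective πX f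

end Groth.Agent.Lib.H9PerfAff
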