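import Mathlib
import Groth.Prelude
import Groth.Agent.Lib.Helper3IndCons

/-!
# Ind-constructibility of fibrewise properties, without descent (helper3, round 2)

Namespace `Groth.Agent.Lib.R2H3.IndConsQ`.

A variant of `Helper3.IndCons.isIndConstructible_setOf_baseMap` for an arbitrary predicate `Q` on morphisms
`a : T ⟶ S` (thought of as "the base change along `a` has the property"), which only needs
stability under precomposition and spreading out to the stages `Spec (R_h/I R_h)`; no fpqc descent is
needed since the stage maps induce isomorphisms on residue fields.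

* `isIso_residueFieldMap_of_surjectiveOnStalks`
* `isIso_residueFieldMap_toS`
* `isIndConstructible_of`
-/

set_option autoImplicit false
set_option linter.style.haveILetI false
universe u
open CategoryTheory CategoryTheory.Limits AlgebraicGeometry Topology

namespace Groth.Agent.Lib.R2H3.IndConsQ

open Groth.Agent.Lib.Helper3.ResFieldColim Groth.Agent.Lib.Helper3.ResFieldLim

theorem isIso_residueFieldMap_of_surjectiveOnStalks {X Y : Scheme.{u}} (f : X ⟶ Y)
    [SurjectiveOnStalks f] (x : X) : IsIso (f.residueFieldMap x) := by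
  rw [ConcreteCategory.isIso_iff_bijective]
  refine ⟨(f.residueFieldMap x).hom.injective, ?_⟩
  have h := Scheme.residue_residueFieldMap f x
  have h1 : Function.Surjective (f.stalkMap x ≫ X.residue x) := by
    show Function.Surjective (⇑(X.residue x) ∘ ⇑(f.stalkMap x))
    exact (X.residue_surjective x).comp (f.stalkMap_surjective x)
  rw [← h] at h1
  replace h1 : Function.Surjective (⇑(f.residueFieldMap x) ∘ ⇑(Y.residue (f x))) := h1
  exact Function.Surjective.of_comp h1

variable {S : Scheme.{u}} {U : S.Opens} (hU : IsAffineOpen U) (s : S) (hs : s ∈ U)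

instance surjectiveOnStalks_toS (j : Idx (ev s hs)) : SurjectiveOnStalks (toS hU s hs j) := by
  rw [toS_eq]
  have h0 : SurjectiveOnStalks (Spec.map (CommRingCat.ofHom (toA j))) := by
    rw [SurjectiveOnStalks.Spec_iff]
    show RingHom.SurjectiveOnStalks (toA j)
    exact (RingHom.surjectiveOnStalks_of_surjective Ideal.Quotient.mk_surjective).comp
      (RingHom.surjectiveOnStalks_of_isLocalization (Submonoid.powers j.h) _)
  haveI : IsOpenImmersion hU.fromSpec := hU.isOpenImmersion_fromSpec
  haveI : SurjectiveOnStalks hU.fromSpec := inferInstance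
  exact @SurjectiveOnStalks.comp _ _ _ _ _ h0 _

theorem isIso_residueFieldMap_toS (j : Idx (ev s hs)) (t : (D s hs).obj (Opposite.op j)) :
    IsIso ((toS hU s hs j).residueFieldMap t) :=
  isIso_residueFieldMap_of_surjectiveOnStalks _ t

section Key

variable (Q : ∀ {T : Scheme.{u}}, (T ⟶ S) → Prop)
  (hcomp : ∀ {T T' : Scheme.{u}} (a : T ⟶ S) (b : T' ⟶ T), Q a → Q (b ≫ a))
  (hlim : ∀ {U : S.Opens} (hU : IsAffineOpen U) (s : S) (hs : s ∈ U),
    Q (S.fromSpecResidueField s) → ∃ j : Idx (ev s hs), Q (toS hU s hs j))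

omit hcomp in
theorem congr_point {x y : S} (h : x = y) (hx : Q (S.fromSpecResidueField x)) :
    Q (S.fromSpecResidueField y) := by
  subst h; exact hx

include hcomp hlim in
theorem exists_locallyConstructible_nhd {U : S.Opens} (hU : IsAffineOpen U) (s : S) (hs : s ∈ U)
    (h : Q (S.fromSpecResidueField s)) :
    ∃ T : Set (U : Scheme.{u}), IsLocallyConstructible T ∧ (⟨s, hs⟩ : U) ∈ T ∧
      ∀ u ∈ T, Q (S.fromSpecResidueField u.1) := by
  obtain ⟨j, hj⟩ := hlim hU s hs h
  haveI : IsAffine (U : Scheme.{u}) := hU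
  refine ⟨Set.range (toU hU s hs j), ?_, ?_, ?_⟩
  · rw [← Set.image_univ]
    exact (toU hU s hs j).isLocallyConstructible_image IsLocallyConstructible.univ
  · haveI : Nonempty (c s hs).pt :=
      inferInstanceAs (Nonempty (PrimeSpectrum (S.residueField s)))
    let pt : (c s hs).pt := Classical.arbitrary _
    refine ⟨(c s hs).π.app (Opposite.op j) pt, ?_⟩
    apply Subtype.ext
    have h1 := congr($(π_toS hU s hs j) pt)
    rw [Scheme.fromSpecResidueField_apply] at h1
    exact h1
  · rintro _ ⟨t, rfl⟩
    have h1 : Q (((D s hs).obj (Opposite.op j)).fromSpecResidueField t ≫ toS hU s hs j) :=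
      hcomp _ _ hj
    rw [← Scheme.Hom.SpecMap_residueFieldMap_fromSpecResidueField] at h1
    haveI := isIso_residueFieldMap_toS hU s hs j t
    have h2 := hcomp _ (Spec.map (inv ((toS hU s hs j).residueFieldMap t))) h1
    rw [← Spec.map_comp_assoc, IsIso.hom_inv_id, Spec.map_id, Category.id_comp] at h2
    exact h2

include hcomp hlim in
/-- **Ind-constructibility of fibrewise properties** -/
theorem isIndConstructible_of :
    ProCons.IsIndConstructible {s : S | Q (S.fromSpecResidueField s)} := by
  intro x
  obtain ⟨_, ⟨U : S.Opens, hU, rfl⟩, hxU, -⟩ := S.isBasis_affineOpens.exists_subset_of_mem_open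
    (Set.mem_univ x) isOpen_univ
  refine ⟨U, U.2, hxU, {T : Set ↥U | IsLocallyConstructible T ∧
    ∀ u ∈ T, Q (S.fromSpecResidueField u.1)}, fun T hT => hT.1, ?_⟩
  ext u
  constructor
  · intro hu
    obtain ⟨T, h1, h2, h3⟩ := exists_locallyConstructible_nhd Q hcomp hlim hU u.1 u.2 hu
    exact ⟨T, ⟨h1, h3⟩, h2⟩
  · rintro ⟨T, ⟨-, hT⟩, huT⟩
    exact hT u huT

end Key

end Groth.Agent.Lib.R2H3.IndConsQ
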