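import Mathlib
import Groth.Prelude
import Groth.Agent.S4811
import Groth.Agent.S2350
import Groth.Agent.Lib.Helper23PB
import Groth.Agent.Lib.Helper23AmpleIso
import Groth.Agent.Lib.Helper23SecTw6
import Groth.Agent.Lib.Helper2LocFree
import Groth.Agent.Lib.Helper18PBUnit2

/-!
# Ampleness descends to a stage of a cofiltered limit (helper3, round 2)

Namespace `Groth.Agent.Lib.R2H3.LimAmpleA`.

* `genLocus_iso_comp` : precomposing a section with an automorphism of `O_X` does not change `X_s`
* `exists_section_stage` : a section of `(π^* L₀)^{⊗ n}` on the limit comes from a stage, with `X_s` the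
  preimage of the stage locus
* `isCompact_genLocus` : `X_s` is quasi-compact in a quasi-compact scheme
* `exists_isAmple_stage` : if `π_{i₀}^* L₀` is ample on `lim S_i`, then `L₀` pulled back to some stage is ample.
-/

set_option autoImplicit false
set_option linter.style.haveILetI false
universe u
open CategoryTheory CategoryTheory.Limits AlgebraicGeometry TopologicalSpace Opposite

namespace Groth.Agent.Lib.R2H3.LimAmpleA

open Groth.Agent.Lib.Helper23.PB Groth.Agent.Lib.Helper23.AmpleIso Groth.Agent.Lib.Helper23.GenLocus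
  Groth.Agent.Lib.Helper23.SecTw

/-- precomposing with an isomorphism of the source does not change the generating locus -/
theorem genLocus_iso_comp {X : Scheme.{u}} {L : X.Modules}
    (a : Coh.structureModule X ≅ Coh.structureModule X) (s : Coh.structureModule X ⟶ L) :
    CohB1.genLocus L (a.hom ≫ s) = CohB1.genLocus L s := by
  have key : ∀ W : X.Opens, IsIso ((a.hom ≫ s).app W) ↔ IsIso (s.app W) := by
    intro W
    rw [ConcreteCategory.isIso_iff_bijective, ConcreteCategory.isIso_iff_bijective]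
    have hc : IsIso (a.hom.app W) := Scheme.Modules.Hom.isIso_iff_isIso_app.1 inferInstance _
    have hcb : Function.Bijective (a.hom.app W) := ConcreteCategory.bijective_of_isIso _
    have hfun : ⇑((a.hom ≫ s).app W) = ⇑(s.app W) ∘ ⇑(a.hom.app W) := rfl
    rw [hfun]
    exact Function.Bijective.of_comp_iff _ hcb
  ext x
  rw [SetLike.mem_coe, SetLike.mem_coe, mem_genLocus_iff, mem_genLocus_iff]
  constructor
  · rintro ⟨V, hxV, hV⟩
    exact ⟨V, hxV, fun W hW => (key W).1 (hV W hW)⟩
  · rintro ⟨V, hxV, hV⟩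
    exact ⟨V, hxV, fun W hW => (key W).2 (hV W hW)⟩

theorem isFP_structureModule (X : Scheme.{u}) : CohB1.IsFP (Coh.structureModule X) :=
  Groth.Agent.Lib.Helper2.LocFree.isFP_of_isFinLocFree _
    (Groth.Agent.Helper18PBUnit.isFinLocFree_of_isInvertible
      (Groth.Agent.Lib.Helper23.TensorUnit.isInvertible_structureModule X))

/-- the generating locus of a section of an invertible module on a quasi-compact scheme is quasi-compact -/
theorem isCompact_genLocus {X : Scheme.{u}} [CompactSpace X] (L : X.Modules) (hL : PicF.IsInvertible L)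
    (s : Coh.structureModule X ⟶ L) : IsCompact (CohB1.genLocus L s : Set X) := by
  have h1 : IsAffineHom (CohB1.genLocus L s).ι := Groth.Agent.S2350.result X L hL s
  have h2 : IsCompact ((CohB1.genLocus L s).ι ⁻¹' (Set.univ : Set X)) :=
    QuasiCompact.isCompact_preimage (f := (CohB1.genLocus L s).ι) _ isOpen_univ isCompact_univ
  rw [Set.preimage_univ] at h2
  have h3 := h2.image (CohB1.genLocus L s).ι.continuous
  rw [Set.image_univ, Scheme.Opens.range_ι] at h3
  exact h3

section

variable {I : Type u} [SmallCategory I] [IsCofiltered I]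
  (D : I ⥤ Scheme.{u}) (c : Cone D) (hc : IsLimit c)
  [∀ (i j : I) (f : i ⟶ j), IsAffineHom (D.map f)]

include hc in
/-- a section of a tensor power of the pullback of an invertible module to the limit comes from a
stage, compatibly with generating loci -/
theorem exists_section_stage (i₀ : I) [CompactSpace (D.obj i₀)] [QuasiSeparatedSpace (D.obj i₀)]
    (L₀ : (D.obj i₀).Modules) (hL₀ : PicF.IsInvertible L₀) (n : ℕ)
    (s : Coh.structureModule c.pt ⟶
      CohB1.tensorPow ((Scheme.Modules.pullback (c.π.app i₀)).obj L₀) n) :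
    ∃ (j : I) (φ : j ⟶ i₀)
      (t : Coh.structureModule (D.obj j) ⟶ CohB1.tensorPow ((Scheme.Modules.pullback (D.map φ)).obj L₀) n),
      (c.π.app j) ⁻¹ᵁ (CohB1.genLocus _ t) = CohB1.genLocus _ s := by
  obtain ⟨Φ₀⟩ := nonempty_pullback_tensorPow_iso (c.π.app i₀) L₀ hL₀ n
  haveI : (Coh.structureModule (D.obj i₀)).IsQuasicoherent :=
    Groth.Agent.Lib.Helper23.Serre.isQuasicoherent_structureModule' _
  haveI : (CohB1.tensorPow L₀ n).IsQuasicoherent :=
    isQuasicoherent_of_isInvertible _ (isInvertible_tensorPow hL₀ n)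
  obtain ⟨j, φ, hj, hh⟩ := Groth.Agent.S4811.result D c hc i₀ (Coh.structureModule (D.obj i₀))
    (CohB1.tensorPow L₀ n) (isFP_structureModule _)
    ((pullbackUnitIso (c.π.app i₀)).hom ≫ s ≫ Φ₀.inv)
  obtain ⟨Φj⟩ := nonempty_pullback_tensorPow_iso (D.map φ) L₀ hL₀ n
  have hN : PicF.IsInvertible ((Scheme.Modules.pullback (D.map φ)).obj (CohB1.tensorPow L₀ n)) :=
    isInvertible_pullback _ _ (isInvertible_tensorPow hL₀ n)
  refine ⟨j, φ, ((pullbackUnitIso (D.map φ)).inv ≫ hj) ≫ Φj.hom, ?_⟩
  rw [genLocus_comp_iso]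
  rw [← genLocus_pullback (c.π.app j) _ hN ((pullbackUnitIso (D.map φ)).inv ≫ hj)
    (pullbackUnitIso (c.π.app j)).symm]
  -- express `s`
  set A := (Scheme.Modules.pullbackComp (c.π.app j) (D.map φ) ≪≫
    Scheme.Modules.pullbackCongr (c.w φ)).app (Coh.structureModule (D.obj i₀)) with hA
  set B := (Scheme.Modules.pullbackComp (c.π.app j) (D.map φ) ≪≫
    Scheme.Modules.pullbackCongr (c.w φ)).app (CohB1.tensorPow L₀ n) with hB
  have hs : s = (pullbackUnitIso (c.π.app i₀)).inv ≫
      (A.inv ≫ (Scheme.Modules.pullback (c.π.app j)).map hj ≫ B.hom) ≫ Φ₀.hom := by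
    rw [hh]
    simp
  -- the automorphism of the structure module
  let a : Coh.structureModule c.pt ≅ Coh.structureModule c.pt :=
    (pullbackUnitIso (c.π.app i₀)).symm ≪≫ A.symm ≪≫
      (Scheme.Modules.pullback (c.π.app j)).mapIso (pullbackUnitIso (D.map φ)) ≪≫
      pullbackUnitIso (c.π.app j)
  have hs2 : s = a.hom ≫ ((pullbackUnitIso (c.π.app j)).symm.hom ≫
      (Scheme.Modules.pullback (c.π.app j)).map ((pullbackUnitIso (D.map φ)).inv ≫ hj)) ≫
      (B ≪≫ Φ₀).hom := by
    rw [hs]
    simp only [a, Iso.trans_hom, Iso.symm_hom, CategoryTheory.Functor.mapIso_hom, CategoryTheory.Functor.map_comp, Category.assoc,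
      Iso.hom_inv_id_assoc]
    congr 2
    rw [← CategoryTheory.Functor.map_comp_assoc, Iso.hom_inv_id, CategoryTheory.Functor.map_id,
      Category.id_comp]
  rw [hs2, genLocus_iso_comp, genLocus_comp_iso]

end

section Main

variable {I : Type u} [SmallCategory I] [IsCofiltered I]
  (D : I ⥤ Scheme.{u}) (c : Cone D) (hc : IsLimit c)
  [∀ (i j : I) (f : i ⟶ j), IsAffineHom (D.map f)]

omit [IsCofiltered I] [∀ (i j : I) (f : i ⟶ j), IsAffineHom (D.map f)] in
/-- transport of a section of a tensor power along a transition map -/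
theorem exists_section_transport {j j' i₀ : I} (φ : j ⟶ i₀) (ρ : j' ⟶ j) (φ' : j' ⟶ i₀)
    (w : ρ ≫ φ = φ') (L₀ : (D.obj i₀).Modules) (hL₀ : PicF.IsInvertible L₀) (n : ℕ)
    (t : Coh.structureModule (D.obj j) ⟶
      CohB1.tensorPow ((Scheme.Modules.pullback (D.map φ)).obj L₀) n) :
    ∃ t' : Coh.structureModule (D.obj j') ⟶
        CohB1.tensorPow ((Scheme.Modules.pullback (D.map φ')).obj L₀) n,
      CohB1.genLocus _ t' = (D.map ρ) ⁻¹ᵁ CohB1.genLocus _ t := by
  obtain ⟨s', hs'⟩ := exists_pullback_section (D.map ρ) ((Scheme.Modules.pullback (D.map φ)).obj L₀)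
    (isInvertible_pullback _ _ hL₀) n t
  let a : (Scheme.Modules.pullback (D.map ρ)).obj ((Scheme.Modules.pullback (D.map φ)).obj L₀) ≅
      (Scheme.Modules.pullback (D.map φ')).obj L₀ :=
    (Scheme.Modules.pullbackComp (D.map ρ) (D.map φ) ≪≫
      Scheme.Modules.pullbackCongr (by rw [← D.map_comp, w])).app L₀
  exact ⟨s' ≫ (tensorPowIso a n).hom, by rw [genLocus_comp_iso, hs']⟩

variable [∀ i, CompactSpace (D.obj i)] [∀ i, QuasiSeparatedSpace (D.obj i)]

include hc in
/-- **Ampleness descends to a stage**: if the pullback of an invertible module `L₀` on a stage to the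
limit is ample, then the pullback of `L₀` to some later stage is ample. -/
theorem exists_isAmple_stage (i₀ : I) (L₀ : (D.obj i₀).Modules) (hL₀ : PicF.IsInvertible L₀)
    (h : CohB1.IsAmple ((Scheme.Modules.pullback (c.π.app i₀)).obj L₀)) :
    ∃ (i : I) (φ : i ⟶ i₀), CohB1.IsAmple ((Scheme.Modules.pullback (D.map φ)).obj L₀) := by
  classical
  haveI : CompactSpace c.pt := h.2.1
  have haffD : ∀ {i j : I} (f : i ⟶ j), IsAffineHom (D.map f) := fun f => inferInstance
  choose n s hxs haff using h.2.2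
  choose j φ t ht using fun x => exists_section_stage D c hc i₀ L₀ hL₀ (n x + 1) (s x)
  -- finite subcover
  let G : c.pt → c.pt.Opens := fun x => CohB1.genLocus _ (s x)
  obtain ⟨T, hT⟩ := isCompact_univ.elim_finite_subcover
    (fun x : c.pt => (G x : Set c.pt))
    (fun x => (G x).isOpen) (fun x _ => Set.mem_iUnion.2 ⟨x, hxs x⟩)
  -- a common stage
  obtain ⟨J, hJ⟩ := IsCofiltered.inf_objs_exists (T.image fun x => (Over.mk (φ x) : Over i₀))
  let ρ : ∀ x : T, J ⟶ Over.mk (φ x.1) := fun x => (hJ (Finset.mem_image_of_mem _ x.2)).some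
  have hM : PicF.IsInvertible ((Scheme.Modules.pullback (D.map J.hom)).obj L₀) :=
    isInvertible_pullback _ _ hL₀
  choose t' ht' using fun x : T => exists_section_transport D (φ x.1) (ρ x).left J.hom (Over.w (ρ x))
    L₀ hL₀ (n x.1 + 1) (t x.1)
  let U : T → (D.obj J.left).Opens := fun x => CohB1.genLocus _ (t' x)
  have hU : ∀ x : T, c.π.app J.left ⁻¹ᵁ U x = CohB1.genLocus _ (s x.1) := by
    intro x
    show c.π.app J.left ⁻¹ᵁ CohB1.genLocus _ (t' x) = _
    rw [ht' x, ← Scheme.Hom.comp_preimage, c.w, ht x.1]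
  have hUc : ∀ x : T, IsCompact (U x : Set (D.obj J.left)) := fun x =>
    isCompact_genLocus _ (isInvertible_tensorPow hM _) (t' x)
  -- affineness at a later stage
  have hk : ∀ x : T, ∃ k : Over J.left, IsAffineOpen (D.map k.hom ⁻¹ᵁ U x) := by
    intro x
    have (k : Over J.left) : CompactSpace ((opensDiagram D J.left (U x)).obj k) :=
      isCompact_iff_compactSpace.mp (QuasiCompact.isCompact_preimage _ (U x).2 (hUc x))
    have (k : Over J.left) : QuasiSeparatedSpace ((opensDiagram D J.left (U x)).obj k) :=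
      (isQuasiSeparated_iff_quasiSeparatedSpace _ (D.map _ ⁻¹ᵁ _).2).mp (.of_quasiSeparatedSpace _)
    have : IsAffine (opensCone D c J.left (U x)).pt := by
      show IsAffineOpen (c.π.app J.left ⁻¹ᵁ U x)
      rw [hU x]
      exact haff x.1
    obtain ⟨k, hk⟩ := Scheme.exists_isAffine_of_isLimit _ _ (isLimitOpensCone D c hc J.left (U x))
    exact ⟨k, hk⟩
  choose k hk using hk
  obtain ⟨K, hK⟩ := IsCofiltered.inf_objs_exists (Finset.univ.image k)
  let σ : ∀ x : T, K ⟶ k x := fun x => (hK (Finset.mem_image_of_mem _ (Finset.mem_univ x))).some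
  have hA : ∀ x : T, IsAffineOpen (D.map K.hom ⁻¹ᵁ U x) := by
    intro x
    have h1 := (hk x).preimage (D.map (σ x).left)
    rwa [← Scheme.Hom.comp_preimage, ← D.map_comp, Over.w (σ x)] at h1
  -- covering at a later stage
  have hV : c.π.app K.left ⁻¹ᵁ (⨆ x : T, D.map K.hom ⁻¹ᵁ U x) = ⊤ := by
    rw [Scheme.Hom.preimage_iSup, eq_top_iff]
    intro y _
    obtain ⟨x, hxT, hx⟩ : ∃ x ∈ T, y ∈ G x := by
      have := hT (Set.mem_univ y)
      simpa using this
    rw [Opens.mem_iSup]
    refine ⟨⟨x, hxT⟩, ?_⟩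
    rw [← Scheme.Hom.comp_preimage, c.w, hU]
    exact hx
  obtain ⟨i, fi, hi⟩ := exists_map_eq_top D c hc _ hV
  refine ⟨i, fi ≫ K.hom ≫ J.hom, ?_⟩
  have h1 : CohB1.IsAmple ((Scheme.Modules.pullback (D.map (fi ≫ K.hom))).obj
      ((Scheme.Modules.pullback (D.map J.hom)).obj L₀)) := by
    refine isAmple_pullback_of (D.map (fi ≫ K.hom)) _ hM (fun y => ?_)
    have hy : (D.map fi) y ∈ (⨆ x : T, D.map K.hom ⁻¹ᵁ U x) := by
      have : y ∈ D.map fi ⁻¹ᵁ (⨆ x : T, D.map K.hom ⁻¹ᵁ U x) := by rw [hi]; trivial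
      exact this
    rw [Opens.mem_iSup] at hy
    obtain ⟨x, hx⟩ := hy
    refine ⟨n x.1, t' x, ?_, ?_⟩
    · rw [D.map_comp]
      exact hx
    · rw [D.map_comp, Scheme.Hom.comp_preimage]
      exact (hA x).preimage (D.map fi)
  exact isAmple_of_iso ((Scheme.Modules.pullbackComp (D.map (fi ≫ K.hom)) (D.map J.hom) ≪≫
    Scheme.Modules.pullbackCongr (by rw [← D.map_comp, Category.assoc])).app L₀) h1

end Main

end Groth.Agent.Lib.R2H3.LimAmpleA
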