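import Mathlib
import Groth.Prelude
import Groth.Agent.Lib.R2H3LimAmpleA
import Groth.Agent.Lib.R2H3QProj
import Groth.Agent.Lib.R2H4RelAmpleDesc
import Groth.Agent.Lib.Helper22LimBC2
import Groth.Agent.S2332
import Groth.Agent.S4380
import Groth.Agent.S4381

/-!
# Relative ampleness and cofiltered limits (helper3, round 2)

Namespace `Groth.Agent.Lib.R2H3.LimAmpleB`.

* `isRelAmple_iso_comp` : relative ampleness is invariant under an isomorphism of the source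
* `isRelAmple_of_isPullback` : base change of relative ampleness, for an arbitrary pullback square
-/

set_option autoImplicit false
set_option linter.style.haveILetI false
universe u
open CategoryTheory CategoryTheory.Limits AlgebraicGeometry TopologicalSpace Opposite

namespace Groth.Agent.Lib.R2H3.LimAmpleB

open Groth.Agent.Lib.Helper23.PB Groth.Agent.Lib.Helper23.AmpleIso Groth.Agent.Lib.Helper23.RestrJ
  Groth.Agent.Lib.R2H4RelAmpleDesc Groth.Agent.Lib.R2H3.QProj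

/-- relative ampleness is invariant under an isomorphism of the source -/
theorem isRelAmple_iso_comp {X' P Y' : Scheme.{u}} (e : X' ≅ P) (p : P ⟶ Y') (M : P.Modules)
    (h : RelAmple.IsRelAmple p M) :
    RelAmple.IsRelAmple (e.hom ≫ p) ((Scheme.Modules.pullback e.hom).obj M) := by
  obtain ⟨hqc, hV⟩ := h
  haveI := hqc
  refine ⟨inferInstance, fun V => ?_⟩
  rw [isAmple_iff_of_iso (restrictPullbackIso e.hom M ((e.hom ≫ p) ⁻¹ᵁ V.1).ι)]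
  rw [← isAmple_iff_of_iso
    ((Scheme.Modules.restrictFunctorIsoPullback (((e.hom ≫ p) ⁻¹ᵁ V.1).ι ≫ e.hom)).app M)]
  have hrange : Set.range (((e.hom ≫ p) ⁻¹ᵁ V.1).ι ≫ e.hom) = Set.range (p ⁻¹ᵁ V.1).ι := by
    rw [Scheme.Opens.range_ι]
    ext z
    constructor
    · rintro ⟨u, rfl⟩
      exact u.2
    · intro hz
      have hz' : e.inv z ∈ (e.hom ≫ p) ⁻¹ᵁ V.1 := by
        show (e.hom ≫ p) (e.inv z) ∈ V.1
        rw [← Scheme.Hom.comp_apply, Iso.inv_hom_id_assoc]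
        exact hz
      refine ⟨⟨e.inv z, hz'⟩, ?_⟩
      show e.hom (e.inv z) = z
      rw [← Scheme.Hom.comp_apply, Iso.inv_hom_id]
      rfl
  rw [isAmple_restrict_iff_of_range_eq M _ (p ⁻¹ᵁ V.1).ι hrange]
  exact hV V

/-- base change of relative ampleness along an arbitrary pullback square -/
theorem isRelAmple_of_isPullback {X Y X' Y' : Scheme.{u}} (f : X ⟶ Y) [QuasiCompact f] (g : Y' ⟶ Y)
    (g' : X' ⟶ X) (f' : X' ⟶ Y') (h : IsPullback g' f' f g) (L : X.Modules)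
    (hL : RelAmple.IsRelAmple f L) :
    RelAmple.IsRelAmple f' ((Scheme.Modules.pullback g').obj L) := by
  have h1 := Groth.Agent.S2332.result f g L hL
  have h2 := isRelAmple_iso_comp h.isoPullback (pullback.snd f g) _ h1
  rw [h.isoPullback_hom_snd] at h2
  exact isRelAmple_of_iso f' ((Scheme.Modules.pullbackComp h.isoPullback.hom (pullback.fst f g) ≪≫
    Scheme.Modules.pullbackCongr h.isoPullback_hom_fst).app L) h2

/-- ampleness of an iterated pullback -/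
theorem isAmple_pullback_comp_iff {X Y Z : Scheme.{u}} (a : X ⟶ Y) (b : Y ⟶ Z) (c : X ⟶ Z)
    (w : a ≫ b = c) (N : Z.Modules) :
    CohB1.IsAmple ((Scheme.Modules.pullback a).obj ((Scheme.Modules.pullback b).obj N)) ↔
      CohB1.IsAmple ((Scheme.Modules.pullback c).obj N) :=
  isAmple_iff_of_iso ((Scheme.Modules.pullbackComp a b ≪≫ Scheme.Modules.pullbackCongr w).app N)

/-- ampleness of a pullback only depends on the morphism -/
theorem isAmple_pullback_congr {X Z : Scheme.{u}} {c c' : X ⟶ Z} (w : c = c') (N : Z.Modules) :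
    CohB1.IsAmple ((Scheme.Modules.pullback c).obj N) ↔
      CohB1.IsAmple ((Scheme.Modules.pullback c').obj N) := by
  subst w; rfl

section Conv

variable {I : Type u} [SmallCategory I]
  (D : I ⥤ Scheme.{u}) (c : Cone D) {i₀ : I}
  {X₀ Y₀ : Scheme.{u}} (f₀ : X₀ ⟶ Y₀) (g₀ : Y₀ ⟶ D.obj i₀)
  (L₀ : X₀.Modules)
  {X Y : Scheme.{u}} (f : X ⟶ Y) (g : Y ⟶ c.pt) (qY : Y ⟶ Y₀) (qX : X ⟶ X₀)
  (hY : IsPullback qY g g₀ (c.π.app i₀)) (hX : IsPullback qX f f₀ qY)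

include hY hX in
/-- relative ampleness at a stage implies relative ampleness on the limit -/
theorem isRelAmple_of_stage {j : I} (φ : j ⟶ i₀) {Xj Yj : Scheme.{u}} (fj : Xj ⟶ Yj)
    (gj : Yj ⟶ D.obj j) (pY : Yj ⟶ Y₀) (pX : Xj ⟶ X₀)
    (hYj : IsPullback pY gj g₀ (D.map φ)) (hXj : IsPullback pX fj f₀ pY)
    (hamp : RelAmple.IsRelAmple fj ((Scheme.Modules.pullback pX).obj L₀)) :
    RelAmple.IsRelAmple f ((Scheme.Modules.pullback qX).obj L₀) := by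
  let rY : Y ⟶ Yj := hYj.lift qY (g ≫ c.π.app j) (by rw [hY.w, Category.assoc, c.w])
  have hrY1 : rY ≫ pY = qY := hYj.lift_fst _ _ _
  let rX : X ⟶ Xj := hXj.lift qX (f ≫ rY) (by rw [hX.w, Category.assoc, hrY1])
  have hrX1 : rX ≫ pX = qX := hXj.lift_fst _ _ _
  have hrX2 : rX ≫ fj = f ≫ rY := hXj.lift_snd _ _ _
  have sq : IsPullback rX f fj rY := by
    refine IsPullback.of_right ?_ hrX2 hXj
    rw [hrX1, hrY1]
    exact hX
  haveI : QuasiCompact fj := hamp.1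
  have h1 := isRelAmple_of_isPullback fj rY rX f sq _ hamp
  exact isRelAmple_of_iso f ((Scheme.Modules.pullbackComp rX pX ≪≫
    Scheme.Modules.pullbackCongr hrX1).app L₀) h1

end Conv

section Local

open Groth.Agent.Lib.Helper22.LimBC Groth.Agent.Lib.R2H3.LimAmpleA

variable {I : Type u} [SmallCategory I] [IsCofiltered I]
  (D : I ⥤ Scheme.{u}) (c : Cone D) (hc : IsLimit c)
  [∀ (i j : I) (f : i ⟶ j), IsAffineHom (D.map f)] {i₀ : I}
  {X₀ Y₀ : Scheme.{u}} (f₀ : X₀ ⟶ Y₀) (g₀ : Y₀ ⟶ D.obj i₀)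
  [QuasiSeparated g₀] [QuasiCompact (f₀ ≫ g₀)] [QuasiSeparated (f₀ ≫ g₀)]
  (L₀ : X₀.Modules) (hL₀ : PicF.IsInvertible L₀)
  {X Y : Scheme.{u}} (f : X ⟶ Y) (g : Y ⟶ c.pt) (qY : Y ⟶ Y₀) (qX : X ⟶ X₀)
  (hY : IsPullback qY g g₀ (c.π.app i₀)) (hX : IsPullback qX f f₀ qY)

include hc hL₀ hY hX in
/-- over an affine open `V₀` of `Y₀`: if `L` is `f`-ample then the pullback of `L₀ |_{f₀⁻¹ V₀}` to
`f₀⁻¹ V₀ ×_{S_{i₀}} S_k` is ample for all `k` beyond some stage. -/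
theorem exists_stage_isAmple_over_affine (V₀ : Y₀.Opens) (hV₀ : IsAffineOpen V₀)
    (hamp : RelAmple.IsRelAmple f ((Scheme.Modules.pullback qX).obj L₀)) :
    ∃ j : Over i₀, ∀ (k : Over i₀) (_ : k ⟶ j),
      CohB1.IsAmple ((Scheme.Modules.pullback (dFst D i₀ ((f₀ ⁻¹ᵁ V₀).ι ≫ f₀ ≫ g₀) k)).obj
        (L₀.restrict (f₀ ⁻¹ᵁ V₀).ι)) := by
  have haffD : ∀ {i j : I} (f : i ⟶ j), IsAffineHom (D.map f) := fun f => inferInstance
  haveI : QuasiCompact f₀ := QuasiCompact.of_comp f₀ g₀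
  haveI : QuasiSeparated f₀ := QuasiSeparated.of_comp f₀ g₀
  set U₀ : X₀.Opens := f₀ ⁻¹ᵁ V₀ with hU₀
  set N : (U₀ : Scheme.{u}).Modules := L₀.restrict U₀.ι with hN
  have hNinv : PicF.IsInvertible N := Groth.Agent.Lib.Helper23.SecTw.isInvertible_restrict L₀ hL₀ _
  haveI : CompactSpace (U₀ : Scheme.{u}) :=
    isCompact_iff_compactSpace.mp (QuasiCompact.isCompact_preimage (f := f₀) _ V₀.2 hV₀.isCompact)
  haveI : IsAffine (V₀ : Scheme.{u}) := hV₀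
  haveI : QuasiSeparatedSpace (U₀ : Scheme.{u}) := quasiSeparatedSpace_of_quasiSeparated (f₀ ∣_ V₀)
  set ξ : (U₀ : Scheme.{u}) ⟶ D.obj i₀ := U₀.ι ≫ f₀ ≫ g₀ with hξ
  -- the limit
  let U : X.Opens := qX ⁻¹ᵁ U₀
  let q : (U : Scheme.{u}) ⟶ (U₀ : Scheme.{u}) := qX ∣_ U₀
  have hXa : IsPullback qX (f ≫ g) (f₀ ≫ g₀) (c.π.app i₀) := hX.paste_vert hY
  have hP : IsPullback q (U.ι ≫ f ≫ g) ξ (c.π.app i₀) :=
    (isPullback_morphismRestrict qX U₀).paste_vert hXa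
  haveI : ∀ (j k : Over i₀) (a : j ⟶ k), IsAffineHom ((bcDiagram D i₀ ξ).map a) :=
    fun j k a => inferInstance
  -- ampleness on the limit
  have hπ : IsAffineHom (c.π.app i₀) := isAffineHom_π_app D c hc i₀
  have hqY : IsAffineHom qY := MorphismProperty.of_isPullback (P := @IsAffineHom) hY.flip hπ
  have hVaff : IsAffineOpen (qY ⁻¹ᵁ V₀) := hV₀.preimage qY
  have h0 := hamp.2 ⟨qY ⁻¹ᵁ V₀, hVaff⟩
  have hUeq : U = f ⁻¹ᵁ (qY ⁻¹ᵁ V₀) := by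
    show qX ⁻¹ᵁ (f₀ ⁻¹ᵁ V₀) = _
    rw [← Scheme.Hom.comp_preimage, ← Scheme.Hom.comp_preimage, hX.w]
  have h1 : CohB1.IsAmple (((Scheme.Modules.pullback qX).obj L₀).restrict U.ι) := by
    refine (isAmple_restrict_iff_of_range_eq _ U.ι (f ⁻¹ᵁ (qY ⁻¹ᵁ V₀)).ι ?_).2 h0
    rw [Scheme.Opens.range_ι, Scheme.Opens.range_ι, hUeq]
  have hqι : q ≫ U₀.ι = U.ι ≫ qX := morphismRestrict_ι qX U₀
  have h2 : CohB1.IsAmple ((Scheme.Modules.pullback q).obj N) := by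
    rw [isAmple_iff_of_iso (pullbackRestrictIso q U₀.ι L₀)]
    rw [isAmple_pullback_congr hqι L₀]
    rw [← isAmple_iff_of_iso (restrictPullbackIso qX L₀ U.ι)]
    exact h1
  let i₀' : Over i₀ := Over.mk (𝟙 i₀)
  have h3 : CohB1.IsAmple ((Scheme.Modules.pullback ((bcCone i₀ hP).π.app i₀')).obj
      ((Scheme.Modules.pullback (dFst D i₀ ξ i₀')).obj N)) := by
    exact (isAmple_pullback_comp_iff _ _ q (bcπ_fst i₀ hP i₀') N).2 h2
  obtain ⟨j, φ, hj⟩ := exists_isAmple_stage (bcDiagram D i₀ ξ) (bcCone i₀ hP)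
    (isLimitBcCone i₀ hP hc) i₀' _ (isInvertible_pullback _ _ hNinv) h3
  refine ⟨j, fun k a => ?_⟩
  have h4 : CohB1.IsAmple ((Scheme.Modules.pullback (dFst D i₀ ξ j)).obj N) := by
    exact (isAmple_pullback_comp_iff _ _ _ (map_dFst D i₀ ξ φ) N).1 hj
  exact (isAmple_pullback_comp_iff _ _ _ (map_dFst D i₀ ξ a) N).1
    (isAmple_pullback_of_isAffineHom _ _ h4)

end Local

section Kap

open Groth.Agent.Lib.Helper22.LimBC

variable {I : Type u} [SmallCategory I] (D : I ⥤ Scheme.{u}) (i₀ : I)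
  {X₀ : Scheme.{u}} (U₀ : X₀.Opens) (xi : X₀ ⟶ D.obj i₀) (j : Over i₀)

/-- the open immersion `U₀ ×_{S_{i₀}} S_j ⟶ X₀ ×_{S_{i₀}} S_j` -/
noncomputable def kap : (bcDiagram D i₀ (U₀.ι ≫ xi)).obj j ⟶ (bcDiagram D i₀ xi).obj j :=
  dLift j (dFst D i₀ (U₀.ι ≫ xi) j ≫ U₀.ι) (dSnd D i₀ (U₀.ι ≫ xi) j)
    (by rw [Category.assoc]; exact d_condition D i₀ (U₀.ι ≫ xi) j)

theorem kap_fst : kap D i₀ U₀ xi j ≫ dFst D i₀ xi j = dFst D i₀ (U₀.ι ≫ xi) j ≫ U₀.ι :=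
  dLift_fst _ _ _ _

theorem kap_snd : kap D i₀ U₀ xi j ≫ dSnd D i₀ xi j = dSnd D i₀ (U₀.ι ≫ xi) j :=
  dLift_snd _ _ _ _

theorem isPullback_kap :
    IsPullback (kap D i₀ U₀ xi j) (dFst D i₀ (U₀.ι ≫ xi) j) (dFst D i₀ xi j) U₀.ι := by
  refine IsPullback.of_right ?_ (kap_fst D i₀ U₀ xi j) (isPullback_d D i₀ xi j).flip
  rw [kap_snd]
  exact (isPullback_d D i₀ (U₀.ι ≫ xi) j).flip

instance : IsOpenImmersion (kap D i₀ U₀ xi j) :=
  MorphismProperty.of_isPullback (P := @IsOpenImmersion) (isPullback_kap D i₀ U₀ xi j).flip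
    inferInstance

theorem range_kap :
    Set.range (kap D i₀ U₀ xi j) = ((dFst D i₀ xi j) ⁻¹ᵁ U₀ : Set ((bcDiagram D i₀ xi).obj j)) := by
  have h := IsOpenImmersion.image_preimage_eq_preimage_image_of_isPullback
    (isPullback_kap D i₀ U₀ xi j).flip ⊤
  have h2 : (kap D i₀ U₀ xi j).opensRange = (dFst D i₀ xi j) ⁻¹ᵁ U₀ := by
    simpa using h
  rw [← h2]
  rfl

end Kap

section Global

open Groth.Agent.Lib.Helper22.LimBC Groth.Agent.Lib.R2H3.LimAmpleA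

variable {I : Type u} [SmallCategory I] [IsCofiltered I]
  (D : I ⥤ Scheme.{u}) (c : Cone D) (hc : IsLimit c)
  [∀ (i j : I) (f : i ⟶ j), IsAffineHom (D.map f)] {i₀ : I} [CompactSpace (D.obj i₀)]
  {X₀ Y₀ : Scheme.{u}} (f₀ : X₀ ⟶ Y₀) (g₀ : Y₀ ⟶ D.obj i₀)
  [QuasiCompact g₀] [QuasiSeparated g₀] [QuasiCompact (f₀ ≫ g₀)] [QuasiSeparated (f₀ ≫ g₀)]
  (L₀ : X₀.Modules) (hL₀ : PicF.IsInvertible L₀)
  {X Y : Scheme.{u}} (f : X ⟶ Y) (g : Y ⟶ c.pt) (qY : Y ⟶ Y₀) (qX : X ⟶ X₀)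
  (hY : IsPullback qY g g₀ (c.π.app i₀)) (hX : IsPullback qX f f₀ qY)

include hc hL₀ hY hX in
/-- relative ampleness on the limit descends to a stage -/
theorem exists_stage_isRelAmple
    (hamp : RelAmple.IsRelAmple f ((Scheme.Modules.pullback qX).obj L₀)) :
    ∃ j : Over i₀, RelAmple.IsRelAmple (bcMor D i₀ f₀ g₀ j)
      ((Scheme.Modules.pullback (dFst D i₀ (f₀ ≫ g₀) j)).obj L₀) := by
  classical
  have haffD : ∀ {i j : I} (f : i ⟶ j), IsAffineHom (D.map f) := fun f => inferInstance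
  haveI : CompactSpace Y₀ := QuasiCompact.compactSpace_of_compactSpace g₀
  haveI : QuasiCompact f₀ := QuasiCompact.of_comp f₀ g₀
  have hex : ∀ y : Y₀, ∃ V : Y₀.Opens, IsAffineOpen V ∧ y ∈ V := fun y => by
    obtain ⟨W, hW, hyW, -⟩ := exists_isAffineOpen_mem_and_subset (x := y) (U := ⊤) trivial
    exact ⟨W, hW, hyW⟩
  choose V₀ hV₀aff hyV₀ using hex
  obtain ⟨T, hT⟩ := isCompact_univ.elim_finite_subcover (fun y => (V₀ y : Set Y₀))
    (fun y => (V₀ y).isOpen) (fun y _ => Set.mem_iUnion.2 ⟨y, hyV₀ y⟩)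
  choose js hjs using fun y => exists_stage_isAmple_over_affine D c hc f₀ g₀ L₀ hL₀ f g qY qX hY hX
    (V₀ y) (hV₀aff y) hamp
  obtain ⟨J, hJ⟩ := IsCofiltered.inf_objs_exists (T.image js)
  refine ⟨J, ?_⟩
  haveI : QuasiCompact (bcMor D i₀ f₀ g₀ J) :=
    MorphismProperty.of_isPullback (P := @QuasiCompact) (isPullback_bcMor D i₀ f₀ g₀ J) inferInstance
  have hcover : ⨆ y : T, (dFst D i₀ g₀ J) ⁻¹ᵁ V₀ y.1 = ⊤ := by
    rw [eq_top_iff]
    intro z _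
    have := hT (Set.mem_univ ((dFst D i₀ g₀ J) z))
    obtain ⟨y, hyT, hy⟩ : ∃ y ∈ T, (dFst D i₀ g₀ J) z ∈ V₀ y := by simpa using this
    rw [Opens.mem_iSup]
    exact ⟨⟨y, hyT⟩, hy⟩
  rw [Groth.Agent.S4380.result (bcMor D i₀ f₀ g₀ J) _ (fun y : T => (dFst D i₀ g₀ J) ⁻¹ᵁ V₀ y.1) hcover]
  intro y
  have hVj : IsAffineOpen ((dFst D i₀ g₀ J) ⁻¹ᵁ V₀ y.1) := (hV₀aff y.1).preimage (dFst D i₀ g₀ J)
  haveI : IsAffine ((dFst D i₀ g₀ J) ⁻¹ᵁ V₀ y.1 : Scheme.{u}) := hVj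
  rw [Groth.Agent.S4381.result]
  -- the open immersion from the restricted diagram
  have hr : Set.range ((bcMor D i₀ f₀ g₀ J) ⁻¹ᵁ ((dFst D i₀ g₀ J) ⁻¹ᵁ V₀ y.1)).ι =
      Set.range (kap D i₀ (f₀ ⁻¹ᵁ V₀ y.1) (f₀ ≫ g₀) J) := by
    rw [range_kap, Scheme.Opens.range_ι, ← Scheme.Hom.comp_preimage, ← Scheme.Hom.comp_preimage,
      bcMor_fst]
  rw [isAmple_restrict_iff_of_range_eq _ _ (kap D i₀ (f₀ ⁻¹ᵁ V₀ y.1) (f₀ ≫ g₀) J) hr]
  rw [isAmple_iff_of_iso (restrictPullbackIso (dFst D i₀ (f₀ ≫ g₀) J) L₀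
    (kap D i₀ (f₀ ⁻¹ᵁ V₀ y.1) (f₀ ≫ g₀) J))]
  rw [isAmple_pullback_congr (kap_fst D i₀ (f₀ ⁻¹ᵁ V₀ y.1) (f₀ ≫ g₀) J) L₀]
  rw [← isAmple_iff_of_iso (pullbackRestrictIso (dFst D i₀ ((f₀ ⁻¹ᵁ V₀ y.1).ι ≫ f₀ ≫ g₀) J)
    (f₀ ⁻¹ᵁ V₀ y.1).ι L₀)]
  exact hjs y.1 J (hJ (Finset.mem_image_of_mem _ y.2)).some

end Global

end Groth.Agent.Lib.R2H3.LimAmpleB
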