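import Mathlib
import Groth.Prelude
import Groth.Agent.Lib.R2H3LimAmpleB
import Groth.Agent.Lib.R2H3IndConsQ

/-!
# Ind-constructibility of the fibrewise relatively ample locus (helper3, round 2)

Namespace `Groth.Agent.Lib.R2H3.LimAmpleC`.

* `isRelAmple_of_models` : relative ampleness passes from any model of the base change along `a`
  to any model of the base change along `b ≫ a`
* `QAmp f g L a` : the base change of `(f, L)` along `a : T ⟶ S` is relatively ample
* `QAmp.comp`, `QAmp.exists_stage`, `isIndConstructible_setOf_QAmp`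
-/

set_option autoImplicit false
set_option linter.style.haveILetI false
universe u
open CategoryTheory CategoryTheory.Limits AlgebraicGeometry TopologicalSpace Opposite

namespace Groth.Agent.Lib.R2H3.LimAmpleC

open Groth.Agent.Lib.Helper23.PB Groth.Agent.Lib.Helper23.AmpleIso
  Groth.Agent.Lib.R2H3.QProj Groth.Agent.Lib.R2H3.LimAmpleB Groth.Agent.Lib.Helper3.BaseMap
  Groth.Agent.Lib.Helper3.ResFieldColim Groth.Agent.Lib.Helper3.ResFieldLim
  Groth.Agent.Lib.Helper22.LimBC

variable {X Y S : Scheme.{u}} (f : X ⟶ Y) (g : Y ⟶ S) (L : X.Modules)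

/-- relative ampleness passes from a model of the base change along `a` to a model of the base
change along `b ≫ a` -/
theorem isRelAmple_of_models {T T' : Scheme.{u}} (a : T ⟶ S) (b : T' ⟶ T) (a' : T' ⟶ S)
    (hab : b ≫ a = a')
    {XT YT : Scheme.{u}} {pY : YT ⟶ Y} {gT : YT ⟶ T} {pX : XT ⟶ X} {fT : XT ⟶ YT}
    (hY : IsPullback pY gT g a) (hX : IsPullback pX fT f pY)
    {XT' YT' : Scheme.{u}} {pY' : YT' ⟶ Y} {gT' : YT' ⟶ T'} {pX' : XT' ⟶ X} {fT' : XT' ⟶ YT'}
    (hY' : IsPullback pY' gT' g a') (hX' : IsPullback pX' fT' f pY')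
    (h : RelAmple.IsRelAmple fT ((Scheme.Modules.pullback pX).obj L)) :
    RelAmple.IsRelAmple fT' ((Scheme.Modules.pullback pX').obj L) := by
  let rY : YT' ⟶ YT := hY.lift pY' (gT' ≫ b) (by rw [hY'.w, Category.assoc, hab])
  have hrY1 : rY ≫ pY = pY' := hY.lift_fst _ _ _
  let rX : XT' ⟶ XT := hX.lift pX' (fT' ≫ rY) (by rw [hX'.w, Category.assoc, hrY1])
  have hrX1 : rX ≫ pX = pX' := hX.lift_fst _ _ _
  have hrX2 : rX ≫ fT = fT' ≫ rY := hX.lift_snd _ _ _
  have sq : IsPullback rX fT' fT rY := by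
    refine IsPullback.of_right ?_ hrX2 hX
    rw [hrX1, hrY1]
    exact hX'
  haveI : QuasiCompact fT := h.1
  have h1 := isRelAmple_of_isPullback fT rY rX fT' sq _ h
  exact isRelAmple_of_iso fT' ((Scheme.Modules.pullbackComp rX pX ≪≫
    Scheme.Modules.pullbackCongr hrX1).app L) h1

/-- the base change of `(f, L)` along `a : T ⟶ S` is relatively ample -/
def QAmp {T : Scheme.{u}} (a : T ⟶ S) : Prop :=
  RelAmple.IsRelAmple (baseMap f g a) ((Scheme.Modules.pullback (pullback.fst (f ≫ g) a)).obj L)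

theorem QAmp.of_model {T : Scheme.{u}} (a : T ⟶ S)
    {XT YT : Scheme.{u}} {pY : YT ⟶ Y} {gT : YT ⟶ T} {pX : XT ⟶ X} {fT : XT ⟶ YT}
    (hY : IsPullback pY gT g a) (hX : IsPullback pX fT f pY)
    (h : RelAmple.IsRelAmple fT ((Scheme.Modules.pullback pX).obj L)) : QAmp f g L a :=
  isRelAmple_of_models f g L a (𝟙 T) a (Category.id_comp a) hY hX
    (IsPullback.of_hasPullback g a) (isPullback_baseMap f g a) h

theorem QAmp.comp {T T' : Scheme.{u}} (a : T ⟶ S) (b : T' ⟶ T) (h : QAmp f g L a) :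
    QAmp f g L (b ≫ a) :=
  isRelAmple_of_models f g L a b (b ≫ a) rfl
    (IsPullback.of_hasPullback g a) (isPullback_baseMap f g a)
    (IsPullback.of_hasPullback g (b ≫ a)) (isPullback_baseMap f g (b ≫ a)) h

theorem QAmp.congr {T : Scheme.{u}} {a a' : T ⟶ S} (e : a = a') (h : QAmp f g L a) :
    QAmp f g L a' := by
  subst e; exact h

variable [QuasiCompact g] [QuasiSeparated g] [QuasiCompact (f ≫ g)] [QuasiSeparated (f ≫ g)]

/-- spreading out from the fibre at `s` to a stage `Spec (R_h/I R_h)` -/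
theorem QAmp.exists_stage (hL : PicF.IsInvertible L) {U : S.Opens} (hU : IsAffineOpen U) (s : S)
    (hs : s ∈ U) (h : QAmp f g L (S.fromSpecResidueField s)) :
    ∃ j : Idx (ev s hs), QAmp f g L (toS hU s hs j) := by
  let j₀ : Idx (ev s hs) := ⟨⊥, Submodule.fg_bot, bot_le, 1, by rw [map_one]; exact one_ne_zero⟩
  let a₀ := toS hU s hs j₀
  let π := (c s hs).π.app (Opposite.op j₀)
  have hπ : π ≫ a₀ = S.fromSpecResidueField s := π_toS hU s hs j₀
  haveI : QuasiCompact (baseMap f g a₀ ≫ pullback.snd g a₀) := by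
    rw [baseMap_snd]; infer_instance
  haveI : QuasiSeparated (baseMap f g a₀ ≫ pullback.snd g a₀) := by
    rw [baseMap_snd]; infer_instance
  have hL₀ : PicF.IsInvertible ((Scheme.Modules.pullback (pullback.fst (f ≫ g) a₀)).obj L) :=
    isInvertible_pullback _ _ hL
  have h' : QAmp f g L (π ≫ a₀) := QAmp.congr f g L hπ.symm h
  have hamp : RelAmple.IsRelAmple (baseMap f g (π ≫ a₀))
      ((Scheme.Modules.pullback (baseMapY (f ≫ g) a₀ π)).obj
        ((Scheme.Modules.pullback (pullback.fst (f ≫ g) a₀)).obj L)) :=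
    isRelAmple_of_iso _ ((Scheme.Modules.pullbackComp (baseMapY (f ≫ g) a₀ π)
      (pullback.fst (f ≫ g) a₀) ≪≫
      Scheme.Modules.pullbackCongr (baseMapY_fst (f ≫ g) a₀ π)).app L).symm h'
  obtain ⟨j, hj⟩ := exists_stage_isRelAmple (D s hs) (c s hs) (hc hU s hs)
    (baseMap f g a₀) (pullback.snd g a₀) _ hL₀
    (baseMap f g (π ≫ a₀)) (pullback.snd g (π ≫ a₀)) (baseMapY g a₀ π) (baseMapY (f ≫ g) a₀ π)
    (isPullback_baseMapY g a₀ π) (isPullback_baseMap_comp f g a₀ π) hamp
  obtain ⟨j', hj'⟩ : ∃ j' : Idx (ev s hs), j.left = Opposite.op j' := ⟨j.left.unop, rfl⟩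
  refine ⟨j', ?_⟩
  have hY' := (isPullback_d (D s hs) (Opposite.op j₀) (pullback.snd g a₀) j).paste_horiz
    (IsPullback.of_hasPullback g a₀)
  have hX' := (isPullback_bcMor (D s hs) (Opposite.op j₀) (baseMap f g a₀)
    (pullback.snd g a₀) j).paste_horiz (isPullback_baseMap f g a₀)
  have h4 : QAmp f g L ((D s hs).map j.hom ≫ a₀) := by
    refine QAmp.of_model f g L _ hY' hX' ?_
    exact isRelAmple_of_iso _ ((Scheme.Modules.pullbackComp _ _).app L) hj
  have h5 : ∀ (k : (Idx (ev s hs))ᵒᵖ) (φ' : k ⟶ Opposite.op j₀),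
      (D s hs).map φ' ≫ a₀ = toS hU s hs k.unop := by
    intro k φ'
    have hle : j₀ ≤ k.unop := leOfHom φ'.unop
    have : φ' = (homOfLE hle).op := by
      apply Quiver.Hom.unop_inj
      exact Subsingleton.elim _ _
    rw [this]
    exact map_toS hU s hs hle
  have h6 := QAmp.congr f g L (h5 j.left j.hom) h4
  rw [hj'] at h6
  exact h6

/-- the set of points of `S` over which `L` is relatively ample on the fibre of `f` is
ind-constructible -/
theorem isIndConstructible_setOf_QAmp (hL : PicF.IsInvertible L) :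
    ProCons.IsIndConstructible {s : S | QAmp f g L (S.fromSpecResidueField s)} :=
  Groth.Agent.Lib.R2H3.IndConsQ.isIndConstructible_of (fun {T} a => QAmp f g L a)
    (fun a b h => QAmp.comp f g L a b h)
    (fun hU s hs h => QAmp.exists_stage f g L hL hU s hs h)

end Groth.Agent.Lib.R2H3.LimAmpleC
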