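import Mathlib
import Groth.Prelude
import Groth.Agent.Lib.R2H3LimAmpleC
import Groth.Agent.Lib.Helper23Restr2
import Groth.Agent.Lib.Helper23QAffSec
import Groth.Agent.S4788
import Groth.Agent.S4792

/-!
# Quasi-projectivity descends to a stage of a cofiltered limit (helper3, round 2)

Namespace `Groth.Agent.Lib.R2H3.LimQProj`.

* `QP` : `RelProj.IsQuasiProjective` as a morphism property, stable under base change
* `limDescends_QP` : quasi-projectivity of the base change to the limit descends to a stage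
-/

set_option autoImplicit false
set_option linter.style.haveILetI false
universe u
open CategoryTheory CategoryTheory.Limits AlgebraicGeometry TopologicalSpace Opposite

namespace Groth.Agent.Lib.R2H3.LimQProj

open Groth.Agent.Lib.Helper23.PB Groth.Agent.Lib.Helper23.AmpleIso
  Groth.Agent.Lib.R2H3.QProj Groth.Agent.Lib.R2H3.LimAmpleB Groth.Agent.Lib.R2H3.LimAmpleA
  Groth.Agent.Lib.Helper22.LimBC

/-- quasi-projectivity as a morphism property -/
def QP : MorphismProperty Scheme.{u} := fun _ _ f => RelProj.IsQuasiProjective f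

instance : QP.{u}.IsStableUnderBaseChange where
  of_isPullback {X Y Y' S f g f' g'} sq hg := by
    obtain ⟨h1, h2, L, hL⟩ := hg
    haveI := h1
    haveI := h2
    refine ⟨MorphismProperty.of_isPullback (P := @LocallyOfFiniteType) sq h1,
      MorphismProperty.of_isPullback (P := @QuasiCompact) sq h2,
      (Scheme.Modules.pullback f').obj L, ?_⟩
    exact isRelAmple_of_isPullback g f f' g' sq L hL

theorem isInvertible_of_rank_one {X : Scheme.{u}} {L : X.Modules}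
    (hL : FlatMod.IsFinLocFreeOfRank 1 L) : PicF.IsInvertible L := by
  intro x
  obtain ⟨U, hxU, ⟨ε⟩⟩ := hL x
  exact ⟨U, hxU, ⟨ε ≪≫ Limits.coproductUniqueIso
    (fun _ : Fin 1 => Coh.structureModule (↑U : Scheme.{u}))⟩⟩

theorem isFP_of_isInvertible {X : Scheme.{u}} {L : X.Modules} (hL : PicF.IsInvertible L) :
    CohB1.IsFP L :=
  Groth.Agent.Lib.Helper2.LocFree.isFP_of_isFinLocFree _
    (Groth.Agent.Helper18PBUnit.isFinLocFree_of_isInvertible hL)

section Desc

variable {I : Type u} [SmallCategory I] [IsCofiltered I]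
  (D : I ⥤ Scheme.{u}) (c : Cone D) (hc : IsLimit c)
  [∀ (i j : I) (f : i ⟶ j), IsAffineHom (D.map f)] (i₀ : I) [CompactSpace (D.obj i₀)]
  [QuasiSeparatedSpace (D.obj i₀)]

include hc in
/-- an invertible module on the limit of a base-change system comes from an invertible module on a
stage -/
theorem exists_invertible_stage {X₀ : Scheme.{u}} (xi : X₀ ⟶ D.obj i₀) [QuasiCompact xi]
    [QuasiSeparated xi] {P : Scheme.{u}} {qX : P ⟶ X₀} {pX : P ⟶ c.pt}
    (hP : IsPullback qX pX xi (c.π.app i₀)) (L : P.Modules) (hL : PicF.IsInvertible L) :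
    ∃ (k : Over i₀) (Lk : ((bcDiagram D i₀ xi).obj k).Modules), PicF.IsInvertible Lk ∧
      Nonempty ((Scheme.Modules.pullback (bcπ i₀ hP k)).obj Lk ≅ L) := by
  have haffD : ∀ {i j : I} (f : i ⟶ j), IsAffineHom (D.map f) := fun f => inferInstance
  haveI : CompactSpace X₀ := QuasiCompact.compactSpace_of_compactSpace xi
  haveI : QuasiSeparatedSpace X₀ := quasiSeparatedSpace_of_quasiSeparated xi
  haveI : ∀ (j k : Over i₀) (a : j ⟶ k), IsAffineHom ((bcDiagram D i₀ xi).map a) :=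
    fun j k a => inferInstance
  haveI : Coh.IsQCoh (X := (bcCone i₀ hP).pt) L :=
    Groth.Agent.Lib.Helper23.SecTw.isQuasicoherent_of_isInvertible L hL
  obtain ⟨k, -, Fk, hFkq, hFkfp, ⟨e⟩⟩ := Groth.Agent.S4788.result (bcDiagram D i₀ xi) (bcCone i₀ hP)
    (isLimitBcCone i₀ hP hc) (Over.mk (𝟙 i₀)) L (isFP_of_isInvertible hL)
  haveI := hFkq
  have h1 : FlatMod.IsFinLocFreeOfRank 1
      ((Scheme.Modules.pullback ((bcCone i₀ hP).π.app k)).obj Fk) :=
    Groth.Agent.Lib.Helper23.SecTw.isFinLocFreeOfRank_one_of_isInvertible _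
      (isInvertible_of_iso e.symm hL)
  obtain ⟨k', φ, h2⟩ := (Groth.Agent.S4792.result (bcDiagram D i₀ xi) (bcCone i₀ hP)
    (isLimitBcCone i₀ hP hc) k Fk hFkfp 1).1 h1
  refine ⟨k', (Scheme.Modules.pullback ((bcDiagram D i₀ xi).map φ)).obj Fk,
    isInvertible_of_rank_one h2, ⟨?_⟩⟩
  exact (Scheme.Modules.pullbackComp (bcπ i₀ hP k') ((bcDiagram D i₀ xi).map φ) ≪≫
    Scheme.Modules.pullbackCongr (bcπ_map i₀ hP φ)).app Fk ≪≫ e

end Desc

/-- **Quasi-projectivity descends to a stage of a cofiltered limit.** -/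
theorem limDescends_QP : Groth.Agent.Lib.Helper3.IndCons.LimDescends (QP.{u}) := by
  intro I _ _ D c hc _ i₀ _ _ X₀ Y₀ f₀ g₀ _ _ _ _ _ _ X Y f g qY qX hY hX hf
  have haffD : ∀ {i j : I} (f : i ⟶ j), IsAffineHom (D.map f) := fun f => inferInstance
  obtain ⟨hlft, hqc, L, hL⟩ := hf
  have hLinv : PicF.IsInvertible L :=
    Groth.Agent.Lib.Helper23.SecTw.isInvertible_of_isRelAmple f L hL
  have hXa : IsPullback qX (f ≫ g) (f₀ ≫ g₀) (c.π.app i₀) := hX.paste_vert hY
  obtain ⟨k, Lk, hLk, ⟨e⟩⟩ := exists_invertible_stage D c hc i₀ (f₀ ≫ g₀) hXa L hLinv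
  haveI : CompactSpace (D.obj k.left) := QuasiCompact.compactSpace_of_compactSpace (D.map k.hom)
  haveI : QuasiCompact (dSnd D i₀ g₀ k) :=
    inferInstanceAs (QuasiCompact (pullback.snd g₀ (D.map k.hom)))
  haveI : QuasiSeparated (dSnd D i₀ g₀ k) :=
    inferInstanceAs (QuasiSeparated (pullback.snd g₀ (D.map k.hom)))
  haveI : QuasiCompact (bcMor D i₀ f₀ g₀ k ≫ dSnd D i₀ g₀ k) := by
    rw [bcMor_snd]
    exact inferInstanceAs (QuasiCompact (pullback.snd (f₀ ≫ g₀) (D.map k.hom)))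
  haveI : QuasiSeparated (bcMor D i₀ f₀ g₀ k ≫ dSnd D i₀ g₀ k) := by
    rw [bcMor_snd]
    exact inferInstanceAs (QuasiSeparated (pullback.snd (f₀ ≫ g₀) (D.map k.hom)))
  have hamp : RelAmple.IsRelAmple f ((Scheme.Modules.pullback (bcπ i₀ hXa k)).obj Lk) :=
    isRelAmple_of_iso f e.symm hL
  obtain ⟨m, hm⟩ := exists_stage_isRelAmple D c hc (i₀ := k.left) (bcMor D i₀ f₀ g₀ k)
    (dSnd D i₀ g₀ k) Lk hLk f g (bcπ i₀ hY k) (bcπ i₀ hXa k) (isPullback_bcπ i₀ hY k)
    (isPullback_bcπ_bcMor hY hX k) hamp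
  have hpY : IsPullback (dFst D k.left (dSnd D i₀ g₀ k) m ≫ dFst D i₀ g₀ k)
      (dSnd D k.left (dSnd D i₀ g₀ k) m) g₀ (D.map (m.hom ≫ k.hom)) := by
    rw [D.map_comp]
    exact (isPullback_d D k.left (dSnd D i₀ g₀ k) m).paste_horiz (isPullback_d D i₀ g₀ k)
  have hpX : IsPullback
      (dFst D k.left (bcMor D i₀ f₀ g₀ k ≫ dSnd D i₀ g₀ k) m ≫ dFst D i₀ (f₀ ≫ g₀) k)
      (bcMor D k.left (bcMor D i₀ f₀ g₀ k) (dSnd D i₀ g₀ k) m) f₀
      (dFst D k.left (dSnd D i₀ g₀ k) m ≫ dFst D i₀ g₀ k) :=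
    (isPullback_bcMor D k.left (bcMor D i₀ f₀ g₀ k) (dSnd D i₀ g₀ k) m).paste_horiz
      (isPullback_bcMor D i₀ f₀ g₀ k)
  haveI : LocallyOfFiniteType f₀ := locallyOfFiniteType_of_comp f₀ g₀
  haveI : QuasiCompact f₀ := QuasiCompact.of_comp f₀ g₀
  refine ⟨m.left, m.hom ≫ k.hom, _, _, bcMor D k.left (bcMor D i₀ f₀ g₀ k) (dSnd D i₀ g₀ k) m,
    dSnd D k.left (dSnd D i₀ g₀ k) m, _, _, hpY, hpX, ?_⟩
  exact ⟨MorphismProperty.of_isPullback (P := @LocallyOfFiniteType) hpX inferInstance,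
    MorphismProperty.of_isPullback (P := @QuasiCompact) hpX inferInstance, _, hm⟩

end Groth.Agent.Lib.R2H3.LimQProj
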