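import Mathlib
import Groth.Prelude
import Groth.Agent.Lib.R2H3LimQProj
import Groth.Agent.Lib.Helper26StalkLim
import Groth.Agent.Lib.Helper22LimBC

/-! helper9: S17734 — an invertible module on `X ×_S Spec 𝒪_{S,s}` (for `f : X ⟶ S` quasi-compact
and quasi-separated) extends to `f⁻¹(V)` for an open neighbourhood `V` of `s`
(`main17734`), from `R2H3.LimQProj.exists_invertible_stage` applied to the limit presentation
`Spec 𝒪_{S,s} = lim Spec Γ(S, W)` of `Helper26.StalkLim`. -/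

set_option autoImplicit false
universe u

namespace Groth.Agent.Lib.H9PicStalk

open CategoryTheory CategoryTheory.Limits AlgebraicGeometry TopologicalSpace Opposite
open Groth.Agent.Lib.Helper26.StalkLim Groth.Agent.Lib.Helper22.LimBC

theorem main17734 {X S : Scheme.{u}} (f : X ⟶ S) [QuasiCompact f] [QuasiSeparated f] (s : S)
    (L : (pullback f (S.fromSpecStalk s)).Modules) (hL : PicF.IsInvertible L) :
    ∃ (V : S.Opens) (_ : s ∈ V) (L' : (↑(f ⁻¹ᵁ V) : Scheme.{u}).Modules), PicF.IsInvertible L' ∧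
      ∀ (ι : pullback f (S.fromSpecStalk s) ⟶ ↑(f ⁻¹ᵁ V)),
        ι ≫ (f ⁻¹ᵁ V).ι = pullback.fst f (S.fromSpecStalk s) →
        Nonempty ((Scheme.Modules.pullback ι).obj L' ≅ L) := by
  haveI : IsFiltered (AffNhd s) := isFiltered_of_directed_le_nonempty _
  have hc : IsLimit (specCone s) := specIsLimit s
  obtain ⟨a₀, -⟩ := AffNhd.exists_le s ⊤ trivial
  obtain ⟨i₀, hi₀⟩ : ∃ i₀ : (AffNhd s)ᵒᵖ, i₀ = op a₀ := ⟨_, rfl⟩
  obtain ⟨xi, hxi⟩ : ∃ xi : pullback f (toX s i₀) ⟶ (specDiagram s).obj i₀,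
      xi = pullback.snd f (toX s i₀) := ⟨_, rfl⟩
  haveI : QuasiCompact xi := by rw [hxi]; infer_instance
  haveI : QuasiSeparated xi := by rw [hxi]; infer_instance
  obtain ⟨u, hu⟩ : ∃ u : pullback f (S.fromSpecStalk s) ⟶ (specCone s).pt,
      u = pullback.snd f (S.fromSpecStalk s) := ⟨_, rfl⟩
  have hπ : (specCone s).π.app i₀ ≫ toX s i₀ = S.fromSpecStalk s := π_toX s i₀
  have hw : pullback.fst f (S.fromSpecStalk s) ≫ f = (u ≫ (specCone s).π.app i₀) ≫ toX s i₀ := by
    rw [Category.assoc, hπ, hu]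
    exact pullback.condition
  obtain ⟨qX, hqX⟩ : ∃ qX : pullback f (S.fromSpecStalk s) ⟶ pullback f (toX s i₀),
      qX = pullback.lift (pullback.fst f (S.fromSpecStalk s))
        (u ≫ (specCone s).π.app i₀) hw := ⟨_, rfl⟩
  have hqX1 : qX ≫ pullback.fst f (toX s i₀) = pullback.fst f (S.fromSpecStalk s) := by
    rw [hqX]; exact pullback.lift_fst _ _ _
  have hqX2 : qX ≫ xi = u ≫ (specCone s).π.app i₀ := by
    rw [hqX, hxi]; exact pullback.lift_snd _ _ _
  have hP : IsPullback qX u xi ((specCone s).π.app i₀) := by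
    refine IsPullback.of_right ?_ hqX2 (hxi ▸ IsPullback.of_hasPullback f (toX s i₀))
    rw [hqX1, hπ, hu]
    exact IsPullback.of_hasPullback f (S.fromSpecStalk s)
  haveI : CompactSpace ((specDiagram s).obj i₀) := inferInstance
  haveI : QuasiSeparatedSpace ((specDiagram s).obj i₀) := inferInstance
  obtain ⟨k, Lk, hLk, ⟨e⟩⟩ := Groth.Agent.Lib.R2H3.LimQProj.exists_invertible_stage
    (specDiagram s) (specCone s) hc i₀ xi hP L hL
  -- identify the stage with `f⁻¹(V)`
  obtain ⟨m, hm⟩ : ∃ m : (bcDiagram (specDiagram s) i₀ xi).obj k ⟶ X,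
      m = dFst (specDiagram s) i₀ xi k ≫ pullback.fst f (toX s i₀) := ⟨_, rfl⟩
  have hsq : IsPullback m (dSnd (specDiagram s) i₀ xi k) f (toX s k.left) := by
    have h1 := isPullback_d (specDiagram s) i₀ xi k
    have h2 : IsPullback (pullback.fst f (toX s i₀)) xi f (toX s i₀) :=
      hxi ▸ IsPullback.of_hasPullback f (toX s i₀)
    have h3 := h1.paste_horiz h2
    rw [map_toX, ← hm] at h3
    exact h3
  haveI : IsOpenImmersion m := MorphismProperty.of_isPullback (P := @IsOpenImmersion) hsq.flip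
    inferInstance
  have hrange : Set.range m = Set.range (f ⁻¹ᵁ k.left.unop.U).ι := by
    rw [Scheme.Opens.range_ι]
    have h1 : Set.range m = Set.range (pullback.fst f (toX s k.left)) := by
      apply Set.Subset.antisymm
      · rintro _ ⟨z, rfl⟩
        refine ⟨hsq.isoPullback.hom z, ?_⟩
        have := congrArg (fun φ : (bcDiagram (specDiagram s) i₀ xi).obj k ⟶ X => φ z)
          hsq.isoPullback_hom_fst
        exact this
      · rintro _ ⟨z, rfl⟩
        refine ⟨hsq.isoPullback.inv z, ?_⟩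
        have := congrArg (fun φ : pullback f (toX s k.left) ⟶ X => φ z) hsq.isoPullback_inv_fst
        exact this
    rw [h1, Scheme.Pullback.range_fst, range_toX]
    rfl
  obtain ⟨ε, hε⟩ : ∃ ε : (bcDiagram (specDiagram s) i₀ xi).obj k ≅ ↑(f ⁻¹ᵁ k.left.unop.U),
      ε.hom ≫ (f ⁻¹ᵁ k.left.unop.U).ι = m :=
    ⟨IsOpenImmersion.isoOfRangeEq m (f ⁻¹ᵁ k.left.unop.U).ι hrange,
      IsOpenImmersion.isoOfRangeEq_hom_fac _ _ _⟩
  refine ⟨k.left.unop.U, k.left.unop.mem, (Scheme.Modules.pullback ε.inv).obj Lk,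
    Groth.Agent.Lib.Helper23.PB.isInvertible_pullback _ _ hLk, ?_⟩
  intro ι hι
  have hιε : ι ≫ ε.inv = bcπ i₀ hP k := by
    rw [← cancel_mono ε.hom, Category.assoc, Iso.inv_hom_id, Category.comp_id,
      ← cancel_mono (f ⁻¹ᵁ k.left.unop.U).ι, hι, Category.assoc, hε, hm, ← Category.assoc,
      bcπ_fst, hqX1]
  exact ⟨(Scheme.Modules.pullbackComp ι ε.inv ≪≫ Scheme.Modules.pullbackCongr hιε).app Lk ≪≫ e⟩

end Groth.Agent.Lib.H9PicStalk
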