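import Mathlib
import Groth.Prelude.Def_DeRham

set_option autoImplicit false
universe u

namespace Groth.Agent.Lib.H9Poincare

section PL1

open MvPowerSeries

variable {k : Type u} [Field k] {σ : Type u}

/-- the operator dividing the coefficient of `x^α` by `|α| + p`, as a function -/
noncomputable def JopFun (p : ℕ) (f : MvPowerSeries σ k) : MvPowerSeries σ k :=
  fun α => coeff α f / (((Finsupp.degree α : ℕ) : k) + (p : k))

lemma coeff_JopFun (p : ℕ) (f : MvPowerSeries σ k) (α : σ →₀ ℕ) :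
    coeff α (JopFun p f) = coeff α f / (((Finsupp.degree α : ℕ) : k) + (p : k)) := rfl

/-- the operator dividing the coefficient of `x^α` by `|α| + p` -/
noncomputable def Jop (p : ℕ) : MvPowerSeries σ k →ₗ[k] MvPowerSeries σ k where
  toFun f := JopFun p f
  map_add' f g := by
    ext α
    rw [map_add, coeff_JopFun, coeff_JopFun, coeff_JopFun, map_add, add_div]
  map_smul' c f := by
    ext α
    rw [RingHom.id_apply, map_smul, coeff_JopFun, coeff_JopFun, map_smul, smul_eq_mul, smul_eq_mul,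
      mul_div_assoc]

lemma coeff_Jop (p : ℕ) (f : MvPowerSeries σ k) (α : σ →₀ ℕ) :
    coeff α (Jop p f) = coeff α f / (((Finsupp.degree α : ℕ) : k) + (p : k)) := rfl

/-- `∂_i` commutes with `J` up to the shift of weight -/
lemma pderiv_Jop (p : ℕ) (i : σ) (f : MvPowerSeries σ k) :
    pderiv k i (Jop p f) = Jop (p + 1) (pderiv k i f) := by
  ext α
  rw [coeff_pderiv, coeff_Jop, coeff_Jop, coeff_pderiv, map_add, Finsupp.degree_single]
  push_cast
  ring

lemma coeff_X_mul_pderiv [DecidableEq σ] (i : σ) (g : MvPowerSeries σ k) (α : σ →₀ ℕ) :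
    coeff α (X i * pderiv k i g) = (α i : k) * coeff α g := by
  rw [X_def, coeff_monomial_mul]
  by_cases h : Finsupp.single i 1 ≤ α
  · rw [if_pos h, one_mul, coeff_pderiv, tsub_add_cancel_of_le h]
    have h1 : 1 ≤ α i := by
      have := h i
      rwa [Finsupp.single_eq_same] at this
    have h2 : (((α - Finsupp.single i 1 : σ →₀ ℕ) i : ℕ) : k) + 1 = (α i : k) := by
      rw [Finsupp.tsub_apply, Finsupp.single_eq_same]
      rw [Nat.cast_sub h1]; ring
    rw [h2, mul_comm]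
  · rw [if_neg h]
    have h1 : α i = 0 := by
      by_contra hne
      apply h
      intro j
      by_cases hj : j = i
      · subst hj
        rw [Finsupp.single_eq_same]; omega
      · rw [Finsupp.single_eq_of_ne hj]; exact Nat.zero_le _
    rw [h1, Nat.cast_zero, zero_mul]

variable [Fintype σ]

/-- the Euler operator -/
noncomputable def Eul (g : MvPowerSeries σ k) : MvPowerSeries σ k :=
  ∑ i, X i * pderiv k i g

lemma coeff_Eul (g : MvPowerSeries σ k) (α : σ →₀ ℕ) :
    coeff α (Eul g) = ((Finsupp.degree α : ℕ) : k) * coeff α g := by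
  classical
  rw [Eul, map_sum, Finsupp.degree_eq_sum]
  simp only [coeff_X_mul_pderiv]
  rw [← Finset.sum_mul]
  push_cast
  rfl

lemma Eul_Jop [CharZero k] (p : ℕ) (hp : 1 ≤ p) (f : MvPowerSeries σ k) :
    Eul (Jop p f) + (p : k) • Jop p f = f := by
  ext α
  rw [map_add, coeff_Eul, map_smul, smul_eq_mul, coeff_Jop, ← add_mul]
  have h : (((Finsupp.degree α : ℕ) : k) + (p : k)) ≠ 0 := by
    have : ((Finsupp.degree α + p : ℕ) : k) ≠ 0 := by
      rw [Nat.cast_ne_zero]; omega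
    rwa [Nat.cast_add] at this
  rw [mul_div_cancel₀ _ h]


end PL1

section PL2

open MvPowerSeries
open scoped Pointwise

variable {k : Type u} [Field k] {σ : Type u}

/-- coordinate differentials -/
noncomputable def dx [DecidableEq σ] (i : σ) : σ → MvPowerSeries σ k := Pi.single i 1

section
variable [Fintype σ] [DecidableEq σ]

lemma span_dx : Submodule.span (MvPowerSeries σ k) (Set.range (dx (k := k) (σ := σ))) = ⊤ := by
  rw [eq_top_iff]
  intro m _
  have : m = ∑ i, m i • dx (k := k) i := by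
    ext j
    simp [dx, Finset.sum_apply, Pi.single_apply]
  rw [this]
  exact Submodule.sum_mem _ (fun i _ => Submodule.smul_mem _ _ (Submodule.subset_span ⟨i, rfl⟩))

/-- the Euler vector field as a linear form -/
noncomputable def Evec : Module.Dual (MvPowerSeries σ k) (σ → MvPowerSeries σ k) :=
  ∑ i, (X i : MvPowerSeries σ k) • LinearMap.proj i

lemma Evec_apply (m : σ → MvPowerSeries σ k) : Evec m = ∑ i, X i * m i := by
  simp [Evec, LinearMap.sum_apply]

lemma Evec_dx (i : σ) : Evec (dx (k := k) i) = X i := by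
  rw [Evec_apply]
  simp [dx, Pi.single_apply]

/-- wedge monomials -/
noncomputable def W (p : ℕ) (a : Fin p → σ) :
    ExteriorAlgebra (MvPowerSeries σ k) (σ → MvPowerSeries σ k) :=
  ExteriorAlgebra.ιMulti (MvPowerSeries σ k) p (fun j => dx (a j))

lemma W_zero (a : Fin 0 → σ) : W (k := k) 0 a = 1 := by
  rw [W, ExteriorAlgebra.ιMulti_zero_apply]

lemma W_succ (p : ℕ) (a : Fin (p + 1) → σ) :
    W (k := k) (p + 1) a = ExteriorAlgebra.ι _ (dx (a 0)) * W p (fun j => a j.succ) := by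
  rw [W, ExteriorAlgebra.ιMulti_succ_apply]
  rfl

lemma W_cons (p : ℕ) (i : σ) (a : Fin p → σ) :
    W (k := k) (p + 1) (Fin.cons i a) = ExteriorAlgebra.ι _ (dx i) * W p a := by
  rw [W_succ]
  simp

lemma W_mem (p : ℕ) (a : Fin p → σ) :
    W (k := k) p a ∈ ⋀[MvPowerSeries σ k]^p (σ → MvPowerSeries σ k) :=
  ExteriorAlgebra.ιMulti_range _ p ⟨_, rfl⟩

/-- induction principle in fixed degree -/
theorem ind_deg (P : ExteriorAlgebra (MvPowerSeries σ k) (σ → MvPowerSeries σ k) → Prop)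
    (h0 : P 0) (hadd : ∀ x y, P x → P y → P (x + y)) (p : ℕ)
    (hgen : ∀ (a : Fin p → σ) (f : MvPowerSeries σ k), P (f • W p a))
    (x : ExteriorAlgebra (MvPowerSeries σ k) (σ → MvPowerSeries σ k))
    (hmem : x ∈ ⋀[MvPowerSeries σ k]^p (σ → MvPowerSeries σ k)) : P x := by
  rw [← exteriorPower.ιMulti_span_fixedDegree_of_span_eq_top _ p _ (span_dx (k := k) (σ := σ))]
    at hmem
  have hmem' : x ∈ AddSubmonoid.closure ((Set.univ : Set (MvPowerSeries σ k)) •
      (ExteriorAlgebra.ιMulti (MvPowerSeries σ k) p ''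
      {a | Set.range a ⊆ Set.range (dx (k := k) (σ := σ))})) := by
    rw [← Submodule.span_eq_closure]
    exact hmem
  clear hmem
  induction hmem' using AddSubmonoid.closure_induction with
  | mem x hx =>
    obtain ⟨f, -, y, ⟨v, hv, rfl⟩, rfl⟩ := hx
    have : ∃ a : Fin p → σ, v = fun j => dx (a j) := by
      have h1 : ∀ j, ∃ i, dx (k := k) i = v j := fun j => hv ⟨j, rfl⟩
      choose a ha using h1
      exact ⟨a, funext fun j => (ha j).symm⟩
    obtain ⟨a, rfl⟩ := this
    exact hgen a f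
  | zero => exact h0
  | add x y _ _ hx hy => exact hadd x y hx hy

/-- induction principle: additive predicates are determined on `f • W p a` -/
theorem ind (P : ExteriorAlgebra (MvPowerSeries σ k) (σ → MvPowerSeries σ k) → Prop)
    (h0 : P 0) (hadd : ∀ x y, P x → P y → P (x + y))
    (hgen : ∀ (p : ℕ) (a : Fin p → σ) (f : MvPowerSeries σ k), P (f • W p a)) : ∀ ω, P ω := by
  classical
  intro ω
  rw [← DirectSum.sum_support_decompose
    (fun p : ℕ => ⋀[MvPowerSeries σ k]^p (σ → MvPowerSeries σ k)) ω]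
  apply Finset.sum_induction _ P hadd h0
  intro p _
  exact ind_deg P h0 hadd p (hgen p) _ (DirectSum.decompose
    (fun p : ℕ => ⋀[MvPowerSeries σ k]^p (σ → MvPowerSeries σ k)) ω p).2

end


end PL2

section PL3

open MvPowerSeries
open scoped Pointwise

variable {k : Type u} [Field k] {σ : Type u} [Fintype σ] [DecidableEq σ]

/-- glue degreewise additive maps -/
noncomputable def glob
    (T : ∀ p : ℕ, ↥(⋀[MvPowerSeries σ k]^p (σ → MvPowerSeries σ k)) →+
      ExteriorAlgebra (MvPowerSeries σ k) (σ → MvPowerSeries σ k)) :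
    ExteriorAlgebra (MvPowerSeries σ k) (σ → MvPowerSeries σ k) →+
      ExteriorAlgebra (MvPowerSeries σ k) (σ → MvPowerSeries σ k) :=
  (DirectSum.toAddMonoid T).comp
    (DirectSum.decomposeAddEquiv
      (fun p : ℕ => ⋀[MvPowerSeries σ k]^p (σ → MvPowerSeries σ k))).toAddMonoidHom

lemma glob_of_mem
    (T : ∀ p : ℕ, ↥(⋀[MvPowerSeries σ k]^p (σ → MvPowerSeries σ k)) →+
      ExteriorAlgebra (MvPowerSeries σ k) (σ → MvPowerSeries σ k)) (p : ℕ)
    (ω : ExteriorAlgebra (MvPowerSeries σ k) (σ → MvPowerSeries σ k))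
    (h : ω ∈ ⋀[MvPowerSeries σ k]^p (σ → MvPowerSeries σ k)) :
    glob T ω = T p ⟨ω, h⟩ := by
  rw [glob, AddMonoidHom.comp_apply]
  change DirectSum.toAddMonoid T (DirectSum.decompose _ ω) = _
  rw [DirectSum.decompose_of_mem
    (fun p : ℕ => ⋀[MvPowerSeries σ k]^p (σ → MvPowerSeries σ k)) h, DirectSum.toAddMonoid_of]

variable (δ : Derivation k (MvPowerSeries σ k) (σ → MvPowerSeries σ k))
    (d : ∀ p : ℕ, ↥(⋀[MvPowerSeries σ k]^p (σ → MvPowerSeries σ k)) →ₗ[k]
      ↥(⋀[MvPowerSeries σ k]^(p + 1) (σ → MvPowerSeries σ k)))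

/-- the global differential -/
noncomputable def Dg : ExteriorAlgebra (MvPowerSeries σ k) (σ → MvPowerSeries σ k) →+
      ExteriorAlgebra (MvPowerSeries σ k) (σ → MvPowerSeries σ k) :=
  glob (fun p => (Submodule.subtype _).toAddMonoidHom.comp (d p).toAddMonoidHom)

lemma Dg_of_mem (p : ℕ) (ω : ExteriorAlgebra (MvPowerSeries σ k) (σ → MvPowerSeries σ k))
    (h : ω ∈ ⋀[MvPowerSeries σ k]^p (σ → MvPowerSeries σ k)) :
    Dg d ω = (d p ⟨ω, h⟩ : ExteriorAlgebra (MvPowerSeries σ k) (σ → MvPowerSeries σ k)) := by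
  rw [Dg, glob_of_mem _ p ω h]
  rfl

lemma delta_X (hδ : ∀ (f : MvPowerSeries σ k) (i : σ), δ f i = MvPowerSeries.pderiv k i f)
    (i : σ) : δ (X i) = dx i := by
  ext1 j
  rw [hδ, pderiv_X, dx, Pi.single_apply, Pi.single_apply]
  by_cases h : j = i
  · subst h; simp
  · rw [if_neg (fun h' => h h'.symm), if_neg h]

/-- the rule, globally -/
lemma Dg_gen (hδ : ∀ (f : MvPowerSeries σ k) (i : σ), δ f i = MvPowerSeries.pderiv k i f)
    (hrule : DeRham.IsRule δ d) (p : ℕ) (a : Fin p → σ) (f : MvPowerSeries σ k) :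
    Dg d (f • W p a) = ExteriorAlgebra.ι _ (δ f) * W p a := by
  have hmem : f • W (k := k) p a ∈ ⋀[MvPowerSeries σ k]^p (σ → MvPowerSeries σ k) :=
    Submodule.smul_mem _ _ (W_mem p a)
  rw [Dg_of_mem d p _ hmem]
  have h1 : (⟨f • W (k := k) p a, hmem⟩ : ↥(⋀[MvPowerSeries σ k]^p (σ → MvPowerSeries σ k))) =
      DeRham.gen δ p f (fun j => X (a j)) := by
    apply Subtype.ext
    rw [DeRham.gen, Submodule.coe_smul, exteriorPower.ιMulti_apply_coe]
    simp only [delta_X δ hδ]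
    rfl
  rw [h1, hrule p f (fun j => X (a j)), exteriorPower.ιMulti_apply_coe,
    ExteriorAlgebra.ιMulti_succ_apply]
  simp only [delta_X δ hδ]
  rfl


end PL3

section PL4

open MvPowerSeries
open scoped Pointwise

variable {k : Type u} [Field k] {σ : Type u} [Fintype σ] [DecidableEq σ]

variable (δ : Derivation k (MvPowerSeries σ k) (σ → MvPowerSeries σ k))
    (d : ∀ p : ℕ, ↥(⋀[MvPowerSeries σ k]^p (σ → MvPowerSeries σ k)) →ₗ[k]
      ↥(⋀[MvPowerSeries σ k]^(p + 1) (σ → MvPowerSeries σ k)))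

/-- Leibniz rule for functions -/
lemma Dg_smul (hδ : ∀ (f : MvPowerSeries σ k) (i : σ), δ f i = MvPowerSeries.pderiv k i f)
    (hrule : DeRham.IsRule δ d) (g : MvPowerSeries σ k)
    (ω : ExteriorAlgebra (MvPowerSeries σ k) (σ → MvPowerSeries σ k)) :
    Dg d (g • ω) = ExteriorAlgebra.ι _ (δ g) * ω + g • Dg d ω := by
  revert ω
  apply ind
  · simp
  · intro x y hx hy
    rw [smul_add, map_add, hx, hy, map_add, mul_add, smul_add]
    abel
  · intro p a f
    rw [smul_smul, Dg_gen δ d hδ hrule, Dg_gen δ d hδ hrule, Derivation.leibniz, map_add, map_smul,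
      map_smul, add_mul, smul_mul_assoc, smul_mul_assoc, mul_smul_comm]
    abel

/-- graded Leibniz rule for the coordinate differentials -/
lemma Dg_ι_mul (hδ : ∀ (f : MvPowerSeries σ k) (i : σ), δ f i = MvPowerSeries.pderiv k i f)
    (hrule : DeRham.IsRule δ d) (i : σ)
    (ω : ExteriorAlgebra (MvPowerSeries σ k) (σ → MvPowerSeries σ k)) :
    Dg d (ExteriorAlgebra.ι _ (dx i) * ω) = -(ExteriorAlgebra.ι _ (dx i) * Dg d ω) := by
  revert ω
  apply ind
  · simp
  · intro x y hx hy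
    rw [mul_add, map_add, hx, hy, map_add, mul_add, neg_add]
  · intro p a f
    rw [mul_smul_comm, ← W_cons, Dg_gen δ d hδ hrule, Dg_gen δ d hδ hrule, W_cons, ← mul_assoc,
      ← mul_assoc]
    have h := ExteriorAlgebra.ι_add_mul_swap (R := MvPowerSeries σ k) (δ f) (dx i)
    rw [eq_neg_of_add_eq_zero_left h, neg_mul]

/-- contraction with the Euler vector field -/
noncomputable def con : ExteriorAlgebra (MvPowerSeries σ k) (σ → MvPowerSeries σ k) →ₗ[MvPowerSeries σ k]
    ExteriorAlgebra (MvPowerSeries σ k) (σ → MvPowerSeries σ k) :=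
  CliffordAlgebra.contractLeft (Q := (0 : QuadraticForm (MvPowerSeries σ k) (σ → MvPowerSeries σ k)))
    Evec

lemma con_ι_mul (m : σ → MvPowerSeries σ k)
    (w : ExteriorAlgebra (MvPowerSeries σ k) (σ → MvPowerSeries σ k)) :
    con (ExteriorAlgebra.ι _ m * w) = Evec m • w - ExteriorAlgebra.ι _ m * con w :=
  CliffordAlgebra.contractLeft_ι_mul _ _ _

lemma con_one : con (1 : ExteriorAlgebra (MvPowerSeries σ k) (σ → MvPowerSeries σ k)) = 0 :=
  CliffordAlgebra.contractLeft_one _ _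

/-- the Lie derivative along the Euler vector field -/
noncomputable def Lg : ExteriorAlgebra (MvPowerSeries σ k) (σ → MvPowerSeries σ k) →+
      ExteriorAlgebra (MvPowerSeries σ k) (σ → MvPowerSeries σ k) :=
  (Dg d).comp con.toAddMonoidHom + con.toAddMonoidHom.comp (Dg d)

lemma Lg_apply (ω : ExteriorAlgebra (MvPowerSeries σ k) (σ → MvPowerSeries σ k)) :
    Lg d ω = Dg d (con ω) + con (Dg d ω) := rfl

lemma Lg_ι_mul (hδ : ∀ (f : MvPowerSeries σ k) (i : σ), δ f i = MvPowerSeries.pderiv k i f)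
    (hrule : DeRham.IsRule δ d) (i : σ)
    (ω : ExteriorAlgebra (MvPowerSeries σ k) (σ → MvPowerSeries σ k)) :
    Lg d (ExteriorAlgebra.ι _ (dx i) * ω) =
      ExteriorAlgebra.ι _ (dx i) * ω + ExteriorAlgebra.ι _ (dx i) * Lg d ω := by
  rw [Lg_apply, Lg_apply, con_ι_mul, Evec_dx, map_sub, Dg_smul δ d hδ hrule,
    Dg_ι_mul δ d hδ hrule, Dg_ι_mul δ d hδ hrule, map_neg, con_ι_mul, Evec_dx, delta_X δ hδ,
    mul_add]
  abel

lemma Lg_smul (hδ : ∀ (f : MvPowerSeries σ k) (i : σ), δ f i = MvPowerSeries.pderiv k i f)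
    (hrule : DeRham.IsRule δ d) (g : MvPowerSeries σ k)
    (ω : ExteriorAlgebra (MvPowerSeries σ k) (σ → MvPowerSeries σ k)) :
    Lg d (g • ω) = Evec (δ g) • ω + g • Lg d ω := by
  rw [Lg_apply, Lg_apply, map_smul, Dg_smul δ d hδ hrule, Dg_smul δ d hδ hrule, map_add,
    con_ι_mul, map_smul, smul_add]
  abel

lemma Lg_W (hδ : ∀ (f : MvPowerSeries σ k) (i : σ), δ f i = MvPowerSeries.pderiv k i f)
    (hrule : DeRham.IsRule δ d) (p : ℕ) (a : Fin p → σ) :
    Lg d (W p a) = (p : MvPowerSeries σ k) • W p a := by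
  induction p with
  | zero =>
    rw [W_zero, Lg_apply, con_one, map_zero, zero_add, Nat.cast_zero, zero_smul]
    have h1 : (1 : ExteriorAlgebra (MvPowerSeries σ k) (σ → MvPowerSeries σ k)) =
        (1 : MvPowerSeries σ k) • W 0 a := by rw [W_zero, one_smul]
    rw [h1, Dg_gen δ d hδ hrule, Derivation.map_one_eq_zero, map_zero, zero_mul, map_zero]
  | succ p ih =>
    rw [W_succ, Lg_ι_mul δ d hδ hrule, ih, mul_smul_comm, Nat.cast_succ, add_smul, one_smul,
      add_comm]

lemma Lg_gen (hδ : ∀ (f : MvPowerSeries σ k) (i : σ), δ f i = MvPowerSeries.pderiv k i f)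
    (hrule : DeRham.IsRule δ d) (p : ℕ) (a : Fin p → σ) (f : MvPowerSeries σ k) :
    Lg d (f • W p a) = (Eul f + (p : k) • f) • W p a := by
  rw [Lg_smul δ d hδ hrule, Lg_W δ d hδ hrule, smul_smul, ← add_smul, Evec_apply]
  congr 1
  rw [Eul]
  simp only [hδ]
  congr 1
  rw [mul_comm, Algebra.smul_def, map_natCast]


end PL4

section PL5

open MvPowerSeries Module
open scoped Pointwise

variable {k : Type u} [Field k] {σ : Type u} [Fintype σ] [LinearOrder σ]

/-- the degreewise `J` operator -/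
noncomputable def Jdeg (p : ℕ) : ↥(⋀[MvPowerSeries σ k]^p (σ → MvPowerSeries σ k)) →+
    ↥(⋀[MvPowerSeries σ k]^p (σ → MvPowerSeries σ k)) :=
  (((Pi.basisFun (MvPowerSeries σ k) σ).exteriorPower p).repr.symm.toLinearMap.toAddMonoidHom.comp
    (Finsupp.mapRange.addMonoidHom (Jop (k := k) (σ := σ) p).toAddMonoidHom)).comp
    ((Pi.basisFun (MvPowerSeries σ k) σ).exteriorPower p).repr.toLinearMap.toAddMonoidHom

/-- the coordinates of a wedge monomial are constants -/
lemma repr_W_const (p : ℕ) (a : Fin p → σ) (S : Set.powersetCard σ p) :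
    ∃ c : k, ((Pi.basisFun (MvPowerSeries σ k) σ).exteriorPower p).repr
      (exteriorPower.ιMulti (MvPowerSeries σ k) p (fun j => dx (a j))) S =
        algebraMap k (MvPowerSeries σ k) c := by
  rw [exteriorPower.basis_repr_apply, exteriorPower.ιMultiDual_apply_ιMulti]
  refine ⟨(Matrix.of fun i j : Fin p =>
    if a i = Set.powersetCard.ofFinEmbEquiv.symm S j then (1 : k) else 0).det, ?_⟩
  rw [RingHom.map_det]
  congr 1
  apply Matrix.ext
  intro i j
  simp only [Matrix.of_apply, RingHom.mapMatrix_apply, Matrix.map_apply, Basis.coord_apply,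
    Pi.basisFun_repr, dx, Pi.single_apply]
  by_cases h : a i = Set.powersetCard.ofFinEmbEquiv.symm S j
  · rw [if_pos h.symm, if_pos h, map_one]
  · rw [if_neg (fun h' => h h'.symm), if_neg h, map_zero]

lemma Jdeg_gen (p : ℕ) (a : Fin p → σ) (f : MvPowerSeries σ k) :
    Jdeg p (f • exteriorPower.ιMulti (MvPowerSeries σ k) p (fun j => dx (a j))) =
      Jop p f • exteriorPower.ιMulti (MvPowerSeries σ k) p (fun j => dx (a j)) := by
  set B := (Pi.basisFun (MvPowerSeries σ k) σ).exteriorPower p with hB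
  change B.repr.symm (Finsupp.mapRange (Jop (k := k) (σ := σ) p) (map_zero _) (B.repr _)) = _
  apply B.repr.injective
  rw [LinearEquiv.apply_symm_apply]
  ext S
  rw [Finsupp.mapRange_apply, map_smul, map_smul, Finsupp.smul_apply, Finsupp.smul_apply]
  obtain ⟨c, hc⟩ := repr_W_const (k := k) p a S
  rw [hc, smul_eq_mul, smul_eq_mul, mul_comm, ← Algebra.smul_def, map_smul, Algebra.smul_def,
    mul_comm]

/-- the global `J` operator -/
noncomputable def Jg : ExteriorAlgebra (MvPowerSeries σ k) (σ → MvPowerSeries σ k) →+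
      ExteriorAlgebra (MvPowerSeries σ k) (σ → MvPowerSeries σ k) :=
  glob (fun p => (Submodule.subtype _).toAddMonoidHom.comp (Jdeg p))

lemma Jg_of_mem (p : ℕ) (ω : ExteriorAlgebra (MvPowerSeries σ k) (σ → MvPowerSeries σ k))
    (h : ω ∈ ⋀[MvPowerSeries σ k]^p (σ → MvPowerSeries σ k)) :
    Jg ω = (Jdeg p ⟨ω, h⟩ : ExteriorAlgebra (MvPowerSeries σ k) (σ → MvPowerSeries σ k)) := by
  rw [Jg, glob_of_mem _ p ω h]
  rfl

lemma Jg_mem (p : ℕ) (ω : ExteriorAlgebra (MvPowerSeries σ k) (σ → MvPowerSeries σ k))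
    (h : ω ∈ ⋀[MvPowerSeries σ k]^p (σ → MvPowerSeries σ k)) :
    Jg ω ∈ ⋀[MvPowerSeries σ k]^p (σ → MvPowerSeries σ k) := by
  rw [Jg_of_mem p ω h]
  exact (Jdeg (k := k) p ⟨ω, h⟩).2

lemma Jg_gen (p : ℕ) (a : Fin p → σ) (f : MvPowerSeries σ k) :
    Jg (k := k) (f • W p a) = Jop p f • W p a := by
  have hmem : f • W (k := k) p a ∈ ⋀[MvPowerSeries σ k]^p (σ → MvPowerSeries σ k) :=
    Submodule.smul_mem _ _ (W_mem p a)
  rw [Jg_of_mem p _ hmem]
  have h1 : (⟨f • W (k := k) p a, hmem⟩ : ↥(⋀[MvPowerSeries σ k]^p (σ → MvPowerSeries σ k))) =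
      f • exteriorPower.ιMulti (MvPowerSeries σ k) p (fun j => dx (a j)) := by
    apply Subtype.ext
    rw [Submodule.coe_smul, exteriorPower.ιMulti_apply_coe]
    rfl
  rw [h1, Jdeg_gen, Submodule.coe_smul, exteriorPower.ιMulti_apply_coe]
  rfl


end PL5

section PL6

open MvPowerSeries Module
open scoped Pointwise

variable {k : Type u} [Field k] {σ : Type u} [Fintype σ] [LinearOrder σ]

variable (δ : Derivation k (MvPowerSeries σ k) (σ → MvPowerSeries σ k))
    (d : ∀ p : ℕ, ↥(⋀[MvPowerSeries σ k]^p (σ → MvPowerSeries σ k)) →ₗ[k]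
      ↥(⋀[MvPowerSeries σ k]^(p + 1) (σ → MvPowerSeries σ k)))

/-- `L ∘ J = id` in positive degrees -/
lemma Lg_Jg [CharZero k]
    (hδ : ∀ (f : MvPowerSeries σ k) (i : σ), δ f i = MvPowerSeries.pderiv k i f)
    (hrule : DeRham.IsRule δ d) (p : ℕ)
    (ω : ExteriorAlgebra (MvPowerSeries σ k) (σ → MvPowerSeries σ k))
    (h : ω ∈ ⋀[MvPowerSeries σ k]^(p + 1) (σ → MvPowerSeries σ k)) :
    Lg d (Jg ω) = ω := by
  revert h
  revert ω
  apply ind_deg (P := fun ω => Lg d (Jg ω) = ω)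
  · simp
  · intro x y hx hy
    simp only [map_add, hx, hy]
  · intro a f
    rw [Jg_gen, Lg_gen δ d hδ hrule, Eul_Jop (p + 1) (by omega)]

/-- `ι (δ g)` in coordinates -/
lemma ι_delta (hδ : ∀ (f : MvPowerSeries σ k) (i : σ), δ f i = MvPowerSeries.pderiv k i f)
    (g : MvPowerSeries σ k) :
    ExteriorAlgebra.ι (MvPowerSeries σ k) (δ g) =
      ∑ i, pderiv k i g • ExteriorAlgebra.ι (MvPowerSeries σ k) (dx i) := by
  have : δ g = ∑ i, pderiv k i g • dx (k := k) i := by
    ext j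
    simp [dx, Finset.sum_apply, Pi.single_apply, hδ]
  conv_lhs => rw [this]
  rw [map_sum]
  simp only [map_smul]

/-- `D` commutes with `J` -/
lemma Dg_Jg (hδ : ∀ (f : MvPowerSeries σ k) (i : σ), δ f i = MvPowerSeries.pderiv k i f)
    (hrule : DeRham.IsRule δ d)
    (ω : ExteriorAlgebra (MvPowerSeries σ k) (σ → MvPowerSeries σ k)) :
    Dg d (Jg ω) = Jg (Dg d ω) := by
  revert ω
  apply ind
  · simp
  · intro x y hx hy
    simp only [map_add, hx, hy]
  · intro p a f
    rw [Jg_gen, Dg_gen δ d hδ hrule, Dg_gen δ d hδ hrule, ι_delta δ hδ, ι_delta δ hδ,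
      Finset.sum_mul, Finset.sum_mul, map_sum]
    apply Finset.sum_congr rfl
    intro i _
    rw [smul_mul_assoc, smul_mul_assoc, ← W_cons, Jg_gen, pderiv_Jop]

lemma ι_mul_mem (m : σ → MvPowerSeries σ k) (p : ℕ)
    (ω : ExteriorAlgebra (MvPowerSeries σ k) (σ → MvPowerSeries σ k))
    (h : ω ∈ ⋀[MvPowerSeries σ k]^p (σ → MvPowerSeries σ k)) :
    ExteriorAlgebra.ι (MvPowerSeries σ k) m * ω ∈
      ⋀[MvPowerSeries σ k]^(p + 1) (σ → MvPowerSeries σ k) := by
  have h1 : ExteriorAlgebra.ι (MvPowerSeries σ k) m ∈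
      ⋀[MvPowerSeries σ k]^1 (σ → MvPowerSeries σ k) := by
    rw [ExteriorAlgebra.exteriorPower, pow_one]
    exact LinearMap.mem_range_self _ m
  have h2 := SetLike.mul_mem_graded
    (A := fun i : ℕ => ⋀[MvPowerSeries σ k]^i (σ → MvPowerSeries σ k)) h1 h
  rwa [add_comm] at h2

lemma con_W_mem (p : ℕ) (a : Fin (p + 1) → σ) :
    con (W (k := k) (p + 1) a) ∈ ⋀[MvPowerSeries σ k]^p (σ → MvPowerSeries σ k) := by
  induction p with
  | zero =>
    rw [W_succ, W_zero, con_ι_mul, con_one, mul_zero, sub_zero]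
    refine Submodule.smul_mem _ _ ?_
    rw [← W_zero (k := k) (fun j : Fin 0 => a j.succ)]
    exact W_mem 0 _
  | succ p ih =>
    rw [W_succ, con_ι_mul]
    refine Submodule.sub_mem _ (Submodule.smul_mem _ _ (W_mem _ _)) ?_
    exact ι_mul_mem _ p _ (ih _)

lemma con_mem (p : ℕ) (ω : ExteriorAlgebra (MvPowerSeries σ k) (σ → MvPowerSeries σ k))
    (h : ω ∈ ⋀[MvPowerSeries σ k]^(p + 1) (σ → MvPowerSeries σ k)) :
    con ω ∈ ⋀[MvPowerSeries σ k]^p (σ → MvPowerSeries σ k) := by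
  revert h
  revert ω
  apply ind_deg (P := fun ω => con ω ∈ ⋀[MvPowerSeries σ k]^p (σ → MvPowerSeries σ k))
  · simp
  · intro x y hx hy
    simp only [map_add]
    exact Submodule.add_mem _ hx hy
  · intro a f
    simp only [map_smul]
    exact Submodule.smul_mem _ _ (con_W_mem p a)

/-- the formal Poincaré lemma, with a chosen order on the variables -/
theorem poincare [CharZero k]
    (hδ : ∀ (f : MvPowerSeries σ k) (i : σ), δ f i = MvPowerSeries.pderiv k i f)
    (hd : DeRham.IsDiff δ d) (p : ℕ) :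
    DeRham.cocycles d (p + 1) ≤ DeRham.coboundaries d (p + 1) := by
  intro ω hω
  have hω0 : d (p + 1) ω = 0 := hω
  have hrule := hd.1
  set Ω : ExteriorAlgebra (MvPowerSeries σ k) (σ → MvPowerSeries σ k) := ω.1 with hΩ
  have hDΩ : Dg d Ω = 0 := by
    rw [Dg_of_mem d (p + 1) Ω ω.2]
    have : (⟨Ω, ω.2⟩ : ↥(⋀[MvPowerSeries σ k]^(p + 1) (σ → MvPowerSeries σ k))) = ω := rfl
    rw [this, hω0]
    rfl
  have hη : con (Jg Ω) ∈ ⋀[MvPowerSeries σ k]^p (σ → MvPowerSeries σ k) :=
    con_mem p _ (Jg_mem (p + 1) Ω ω.2)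
  have h1 : Dg d (con (Jg Ω)) = Ω := by
    have h2 := Lg_Jg δ d hδ hrule p Ω ω.2
    rw [Lg_apply, Dg_Jg δ d hδ hrule, hDΩ, map_zero, map_zero, add_zero] at h2
    exact h2
  refine ⟨⟨con (Jg Ω), hη⟩, ?_⟩
  apply Subtype.ext
  rw [← Dg_of_mem d p _ hη, h1]


end PL6

section PL7


open exteriorPower in
theorem thm616 (k : Type u) [Field k] [CharZero k]
    (σ : Type u) [Finite σ]
    (δ : Derivation k (MvPowerSeries σ k) (σ → MvPowerSeries σ k))
    (hδ : ∀ (f : MvPowerSeries σ k) (i : σ), δ f i = MvPowerSeries.pderiv k i f)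
    (d : ∀ p : ℕ, ↥(⋀[MvPowerSeries σ k]^p (σ → MvPowerSeries σ k)) →ₗ[k]
      ↥(⋀[MvPowerSeries σ k]^(p + 1) (σ → MvPowerSeries σ k)))
    (hd : DeRham.IsDiff δ d) (p : ℕ) :
    DeRham.cocycles d (p + 1) ≤ DeRham.coboundaries d (p + 1) := by
  classical
  letI : Fintype σ := Fintype.ofFinite σ
  letI : LinearOrder σ := linearOrderOfSTO WellOrderingRel
  exact poincare δ d hδ hd p


end PL7

end Groth.Agent.Lib.H9Poincare
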