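import Groth.Agent.Lib.R2H2ARSheaf
import Groth.Agent.Lib.R2H2DevK
import Groth.Agent.Lib.Helper23FTsub
set_option backward.isDefEq.respectTransparency.types false

/-!
# Deligne's formula, surjectivity (helper2, round 2)

`X` Noetherian, `F` quasi-coherent, `G` coherent, `I` an ideal sheaf with open complement `U`: every
`φ : G|_U ⟶ F|_U` extends to some `ψ : I^n G ⟶ F` (S9515).

* `exists_app_eq_of_cokernel` : over affine opens, sections killed by `cokernel.π p` are in the image of `p`.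
* `exists_ft_sub_finite` : finitely many sections over affine opens lie in a finite type quasi-coherent submodule.
* `exists_coh_sub_range_ge`.
* `main`.
-/

set_option autoImplicit false
set_option linter.unusedSectionVars false
set_option linter.style.haveILetI false
universe u
open CategoryTheory CategoryTheory.Limits AlgebraicGeometry TopologicalSpace Opposite

noncomputable section

namespace Groth.Agent.Lib.R2H2.DeligneSurj

open Groth.Agent.Lib.R2H2.DevA Groth.Agent.Lib.R2H2.DevF Groth.Agent.Lib.R2H2.DevK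
  Groth.Agent.Lib.R2H2.NilFilt Groth.Agent.Lib.R2H2.IdealMulSec
  Groth.Agent.Lib.R2H2.SubSec Groth.Agent.Lib.R2H2.ARSheaf

variable {X : Scheme.{u}}

/-- over an affine open, sections killed by `cokernel.π p` come from sections of the source -/
theorem exists_app_eq_of_cokernel {A B : X.Modules} [A.IsQuasicoherent] [B.IsQuasicoherent]
    (p : A ⟶ B) {V : X.Opens} (hV : IsAffineOpen V) (g : Γ(B, V))
    (hg : Scheme.Modules.Hom.app (cokernel.π p) V g = 0) :
    ∃ t : Γ(A, V), Scheme.Modules.Hom.app p V t = g := by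
  haveI : (cokernel p).IsQuasicoherent :=
    Groth.Agent.Lib.Helper23.QCohLocal.isQuasicoherent_cokernel p
  haveI hIm : (Abelian.image p).IsQuasicoherent :=
    Groth.Agent.Lib.Helper23.QCohLocal.isQuasicoherent_kernel (cokernel.π p)
  obtain ⟨r, hr⟩ := exists_kernel_app_eq (cokernel.π p) V g hg
  obtain ⟨t, ht⟩ := Groth.Agent.Lib.Helper23.FinType.surjective_app_of_epi
    (Abelian.factorThruImage p) hV r
  refine ⟨t, ?_⟩
  have h1 := congrArg (fun f => Scheme.Modules.Hom.app f V t) (Abelian.image.fac p)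
  refine h1.symm.trans ?_
  change Scheme.Modules.Hom.app (Abelian.image.ι p) V
    (Scheme.Modules.Hom.app (Abelian.factorThruImage p) V t) = g
  rw [ht]
  exact hr

/-- finitely many sections over affine opens lie in a finite type quasi-coherent submodule -/
theorem exists_ft_sub_finite [CompactSpace X] [QuasiSeparatedSpace X] (K : X.Modules)
    [K.IsQuasicoherent] (S : Set (Σ U : X.affineOpens, Γ(K, U.1))) (hS : S.Finite) :
    ∃ (K' : X.Modules) (i : K' ⟶ K), Mono i ∧ K'.IsQuasicoherent ∧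
      SheafOfModules.IsFiniteType (R := X.ringCatSheaf) K' ∧
      ∀ p ∈ S, ∃ g : Γ(K', p.1.1), Scheme.Modules.Hom.app i p.1.1 g = p.2 := by
  let a₀ : Σ U : X.affineOpens, Γ(K, U.1) := ⟨⟨⊥, isAffineOpen_bot X⟩, 0⟩
  obtain ⟨K', i, hi, hq, hf, h⟩ :=
    Groth.Agent.Lib.Helper23.FTsub.exists_ft_sub_list K a₀ hS.toFinset.toList
  refine ⟨K', i, hi, hq, hf, fun p hp => h p ?_⟩
  apply List.mem_cons_of_mem
  rw [Finset.mem_toList, Set.Finite.mem_toFinset]
  exact hp

variable [IsNoetherian X]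

/-- a coherent submodule of `G'` whose image in `G` contains prescribed submodules of sections -/
theorem exists_coh_sub_range_ge (G' G : X.Modules) [G'.IsQuasicoherent] (hG : Coh.IsCoh G)
    (p₁ : G' ⟶ G) (s : Finset X.affineOpens)
    (N : ∀ V : X.affineOpens, Submodule Γ(X, V.1) Γ(G, V.1))
    (hN : ∀ V ∈ s, N V ≤ rangeApp p₁ V.1) :
    ∃ (G'' : X.Modules) (i : G'' ⟶ G'), Mono i ∧ Coh.IsCoh G'' ∧
      ∀ V ∈ s, N V ≤ rangeApp (i ≫ p₁) V.1 := by
  classical
  haveI := hG.1
  haveI := hG.2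
  -- generators
  have hfg : ∀ V : X.affineOpens, ∃ T : Finset Γ(G, V.1), Submodule.span Γ(X, V.1) (T : Set Γ(G, V.1)) = N V := by
    intro V
    haveI : IsNoetherianRing Γ(X, V.1) := IsLocallyNoetherian.component_noetherian V
    haveI : Module.Finite Γ(X, V.1) Γ(G, V.1) :=
      Groth.Agent.Lib.Helper23.FinType.finite_of_isFiniteType G V.2
    exact (IsNoetherian.noetherian (N V))
  choose T hT using hfg
  -- lifts
  have hlift : ∀ V ∈ s, ∀ g ∈ T V, ∃ t : Γ(G', V.1), Scheme.Modules.Hom.app p₁ V.1 t = g := by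
    intro V hV g hg
    have h1 : g ∈ N V := by
      rw [← hT V]
      exact Submodule.subset_span hg
    exact hN V hV h1
  let lift : ∀ V : X.affineOpens, Γ(G, V.1) → Γ(G', V.1) := fun V g =>
    if h : V ∈ s ∧ g ∈ T V then (hlift V h.1 g h.2).choose else 0
  have hlift' : ∀ V ∈ s, ∀ g ∈ T V, Scheme.Modules.Hom.app p₁ V.1 (lift V g) = g := by
    intro V hV g hg
    have : lift V g = (hlift V hV g hg).choose := dif_pos ⟨hV, hg⟩
    rw [this]
    exact (hlift V hV g hg).choose_spec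
  let S : Set (Σ U : X.affineOpens, Γ(G', U.1)) :=
    ⋃ V ∈ s, (fun g : Γ(G, V.1) => (⟨V, lift V g⟩ : Σ U : X.affineOpens, Γ(G', U.1))) '' (T V : Set Γ(G, V.1))
  have hS : S.Finite :=
    Set.Finite.biUnion s.finite_toSet (fun V _ => (T V).finite_toSet.image _)
  obtain ⟨G'', i, hi, hq, hf, h⟩ := exists_ft_sub_finite G' S hS
  refine ⟨G'', i, hi, ⟨hq, hf⟩, fun V hV => ?_⟩
  rw [← hT V, Submodule.span_le]
  intro g hg
  have hmem : (⟨V, lift V g⟩ : Σ U : X.affineOpens, Γ(G', U.1)) ∈ S :=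
    Set.mem_biUnion hV ⟨g, hg, rfl⟩
  obtain ⟨t, ht⟩ := h _ hmem
  refine ⟨t, ?_⟩
  change Scheme.Modules.Hom.app p₁ V.1 (Scheme.Modules.Hom.app i V.1 t) = g
  have ht' : Scheme.Modules.Hom.app i V.1 t = lift V g := ht
  rw [ht', hlift' V hV g hg]

/-- Deligne's formula, surjectivity (S9515) -/
theorem main (F G : X.Modules) (hF : Coh.IsQCoh F) (hG : Coh.IsCoh G) (I : X.IdealSheafData)
    (U : X.Opens) (hU : (U : Set X) = (I.support : Set X)ᶜ)
    (φ : (Scheme.Modules.restrictFunctor U.ι).obj G ⟶ (Scheme.Modules.restrictFunctor U.ι).obj F) :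
    ∃ (n : ℕ) (ψ : (Dual3.idealMul (I ^ n)).obj G ⟶ F),
      (Scheme.Modules.restrictFunctor U.ι).map ψ =
        (Scheme.Modules.restrictFunctor U.ι).map (Dual3.idealMulι (I ^ n) G) ≫ φ := by
  classical
  haveI : F.IsQuasicoherent := hF
  haveI := hG.1
  haveI hGft := hG.2
  let R := Scheme.Modules.restrictFunctor U.ι
  let P := Scheme.Modules.pushforward U.ι
  let adj := Scheme.Modules.restrictAdjunction U.ι
  let F' : X.Modules := P.obj (R.obj F)
  haveI hRF : (R.obj F).IsQuasicoherent := inferInstance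
  haveI hF' : F'.IsQuasicoherent :=
    Groth.Agent.Lib.Helper23.QCohLocal.isQuasicoherent_pushforward U.ι (R.obj F)
  let η : F ⟶ F' := adj.unit.app F
  let α : G ⟶ F' := adj.unit.app G ≫ P.map φ
  let G' : X.Modules := pullback α η
  let p₁ : G' ⟶ G := pullback.fst α η
  let p₂ : G' ⟶ F := pullback.snd α η
  have hcond : p₁ ≫ α = p₂ ≫ η := pullback.condition
  -- quasi-coherence of `G'`
  haveI hGF : (G ⊞ F : X.Modules).IsQuasicoherent :=
    Groth.Agent.Lib.Helper23.QCohLocal.isQuasicoherent_biprod G F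
  haveI hker : (kernel (biprod.desc α (-η))).IsQuasicoherent :=
    Groth.Agent.Lib.Helper23.QCohLocal.isQuasicoherent_kernel _
  haveI hG' : G'.IsQuasicoherent :=
    Groth.Agent.Lib.Helper23.TensorQCoh.isQuasicoherent_of_iso (hM := hker)
      ((limit.isLimit (parallelPair (biprod.desc α (-η)) 0)).conePointUniqueUpToIso
        (Abelian.PullbackToBiproductIsKernel.isLimitPullbackToBiproduct α η))
  -- restriction to `U`
  let ε := adj.counit.app (R.obj F)
  have hε1 : R.map η ≫ ε = 𝟙 _ := adj.left_triangle_components F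
  have hα : α = adj.homEquiv G (R.obj F) φ := (adj.homEquiv_unit G (R.obj F) φ).symm
  have hε2 : R.map α ≫ ε = φ := by
    rw [hα]
    exact (adj.homEquiv_counit G (R.obj F) _).symm.trans (Equiv.symm_apply_apply _ _)
  have hR : R.map p₁ ≫ φ = R.map p₂ := by
    rw [← hε2, ← Category.assoc, ← R.map_comp, hcond, R.map_comp, Category.assoc, hε1,
      Category.comp_id]
  haveI : IsIso ε := inferInstance
  haveI hηiso : IsIso (R.map η) := by
    have : R.map η = inv ε := by
      rw [← cancel_mono ε, IsIso.inv_hom_id]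
      exact hε1
    rw [this]
    infer_instance
  haveI hp₁iso : IsIso (R.map p₁) := by
    have h1 : R.map p₁ = (PreservesPullback.iso R α η).hom ≫ pullback.fst (R.map α) (R.map η) :=
      (PreservesPullback.iso_hom_fst R α η).symm
    rw [h1]
    infer_instance
  obtain ⟨hsK, hsQ⟩ := support_kernel_cokernel_of_isIso_restrict U p₁
  -- the cokernel of `p₁` is killed by a power of `I`
  have hWU : ∀ W : X.Opens, Disjoint (W : Set X) (I.support : Set X) → ∀ x ∈ W, x ∈ U := by
    intro W hW x hx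
    change x ∈ (U : Set X)
    rw [hU]
    exact fun hx' => Set.disjoint_left.1 hW hx hx'
  haveI hQq : (cokernel p₁).IsQuasicoherent :=
    Groth.Agent.Lib.Helper23.QCohLocal.isQuasicoherent_cokernel p₁
  have cQ : Coh.IsCoh (cokernel p₁) :=
    ⟨hQq, Groth.Agent.Lib.Helper23.FinType.isFiniteType_of_epi (cokernel.π p₁)⟩
  have hvanQ : ∀ W : X.Opens, Disjoint (W : Set X) (I.support : Set X) →
      Subsingleton Γ(cokernel p₁, W) := by
    intro W hW
    refine ⟨fun a b => ?_⟩
    have h1 : ∀ x ∈ W, x ∉ CohB1.support (cokernel p₁) := fun x hx => hsQ x (hWU W hW x hx)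
    rw [Groth.Agent.Lib.Helper23.Support.eq_zero_of_disjoint_support (cokernel p₁) W h1 a,
      Groth.Agent.Lib.Helper23.Support.eq_zero_of_disjoint_support (cokernel p₁) W h1 b]
  obtain ⟨a, ha⟩ := exists_killed_pow I (cokernel p₁) cQ hvanQ
  have h0 : Dual3.idealMulι (I ^ a) G ≫ cokernel.π p₁ = 0 :=
    idealMulι_comp_eq_zero (I ^ a) ha (cokernel.π p₁)
  -- a finite affine cover
  obtain ⟨s, hs⟩ : ∃ s : Finset X.affineOpens, (Set.univ : Set X) ⊆ ⋃ U ∈ s, (U.1 : Set X) :=
    isCompact_univ.elim_finite_subcover (fun U : X.affineOpens => (U.1 : Set X))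
      (fun U => U.1.2) (fun x _ => by
        obtain ⟨V, hV, hxV, -⟩ := exists_isAffineOpen_mem_and_subset (x := x) (U := ⊤) trivial
        exact Set.mem_iUnion.2 ⟨⟨V, hV⟩, hxV⟩)
  let 𝒰 : Set X.Opens := {U | ∃ V ∈ s, V.1 = U}
  have haff : ∀ U ∈ 𝒰, IsAffineOpen U := by
    rintro _ ⟨V, -, rfl⟩
    exact V.2
  have hcov : ∀ x : X, ∃ U ∈ 𝒰, x ∈ U := by
    intro x
    obtain ⟨U, hU⟩ := Set.mem_iUnion.1 (hs (Set.mem_univ x))
    obtain ⟨hUs, hxU⟩ := Set.mem_iUnion.1 hU
    exact ⟨U.1, ⟨U, hUs, rfl⟩, hxU⟩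
  -- `I^a G` lies in the image of `p₁`
  let N : ∀ V : X.affineOpens, Submodule Γ(X, V.1) Γ(G, V.1) := fun V =>
    (I.ideal V) ^ a • (⊤ : Submodule Γ(X, V.1) Γ(G, V.1))
  have hN : ∀ V ∈ s, N V ≤ rangeApp p₁ V.1 := by
    intro V _ g hg
    have hg' : g ∈ rangeApp (Dual3.idealMulι (I ^ a) G) V.1 := by
      rw [rangeApp_idealMulι (I ^ a) G V.2]
      exact hg
    obtain ⟨t, rfl⟩ := hg'
    apply exists_app_eq_of_cokernel p₁ V.2
    have h1 := congrArg (fun f => Scheme.Modules.Hom.app f V.1 t) h0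
    exact h1
  obtain ⟨G'', i'', hi'', cG'', hG''⟩ := exists_coh_sub_range_ge G' G hG p₁ s N hN
  haveI := hi''
  haveI := cG''.1
  let p'' : G'' ⟶ G := i'' ≫ p₁
  -- the kernel of `p''` has no sections off `V(I)`
  have hvanK : ∀ W : X.Opens, Disjoint (W : Set X) (I.support : Set X) →
      Subsingleton Γ(kernel p'', W) := by
    intro W hW
    have hk0 : (kernel.ι p'' ≫ i'') ≫ p₁ = 0 := by
      rw [Category.assoc]
      exact kernel.condition p''
    let κ : kernel p'' ⟶ kernel p₁ := kernel.lift p₁ (kernel.ι p'' ≫ i'') hk0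
    haveI : Mono κ := by
      have hfac : κ ≫ kernel.ι p₁ = kernel.ι p'' ≫ i'' := kernel.lift_ι _ _ _
      haveI : Mono (κ ≫ kernel.ι p₁) := by
        rw [hfac]
        exact mono_comp _ _
      exact mono_of_mono κ (kernel.ι p₁)
    have h1 : ∀ x ∈ W, x ∉ CohB1.support (kernel p'') := fun x hx hx' =>
      hsK x (hWU W hW x hx) (support_subset_of_mono κ hx')
    refine ⟨fun a b => ?_⟩
    rw [Groth.Agent.Lib.Helper23.Support.eq_zero_of_disjoint_support (kernel p'') W h1 a,
      Groth.Agent.Lib.Helper23.Support.eq_zero_of_disjoint_support (kernel p'') W h1 b]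
  obtain ⟨m, hm⟩ := exists_mono_idealMul_comp G'' G cG'' hG p'' I hvanK
  haveI hθ : Mono (Dual3.idealMulι (I ^ m) G'' ≫ p'') := hm m le_rfl
  let θ : (Dual3.idealMul (I ^ m)).obj G'' ⟶ G := Dual3.idealMulι (I ^ m) G'' ≫ p''
  -- `I^(m+a) G ≤ image of θ`
  haveI hq1 : ((Dual3.idealMul (I ^ (m + a))).obj G).IsQuasicoherent :=
    (isCoh_idealMul (I ^ (m + a)) G hG).1
  haveI hq2 : ((Dual3.idealMul (I ^ m)).obj G'').IsQuasicoherent :=
    (isCoh_idealMul (I ^ m) G'' cG'').1
  haveI hq3 : ((Subobject.mk (Dual3.idealMulι (I ^ (m + a)) G) : Subobject G) : X.Modules).IsQuasicoherent :=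
    isQuasicoherent_mk _
  haveI hq4 : ((Subobject.mk θ : Subobject G) : X.Modules).IsQuasicoherent := isQuasicoherent_mk θ
  have hle : Subobject.mk (Dual3.idealMulι (I ^ (m + a)) G) ≤ Subobject.mk θ := by
    apply le_of_rangeApp_le _ _ 𝒰 haff hcov
    rintro _ ⟨V, hVs, rfl⟩
    rw [rangeApp_mk_arrow, rangeApp_mk_arrow, rangeApp_idealMulι (I ^ (m + a)) G V.2,
      rangeApp_idealMulι_comp (I ^ m) G'' p'' V.2]
    have h1 : (I ^ (m + a)).ideal V • (⊤ : Submodule Γ(X, V.1) Γ(G, V.1)) =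
        (I ^ m).ideal V • N V := by
      change (I.ideal V) ^ (m + a) • (⊤ : Submodule Γ(X, V.1) Γ(G, V.1)) =
        (I.ideal V) ^ m • ((I.ideal V) ^ a • (⊤ : Submodule Γ(X, V.1) Γ(G, V.1)))
      rw [← Submodule.mul_smul, ← pow_add]
    rw [h1]
    exact Submodule.smul_mono le_rfl (hG'' V hVs)
  let e : (Dual3.idealMul (I ^ (m + a))).obj G ⟶ (Dual3.idealMul (I ^ m)).obj G'' :=
    Subobject.ofMkLEMk _ _ hle
  have he : e ≫ θ = Dual3.idealMulι (I ^ (m + a)) G := Subobject.ofMkLEMk_comp hle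
  refine ⟨m + a, e ≫ Dual3.idealMulι (I ^ m) G'' ≫ i'' ≫ p₂, ?_⟩
  have h2 : (e ≫ Dual3.idealMulι (I ^ m) G'' ≫ i'') ≫ p₁ = Dual3.idealMulι (I ^ (m + a)) G := by
    rw [← he]
    simp only [θ, p'', Category.assoc]
  calc R.map (e ≫ Dual3.idealMulι (I ^ m) G'' ≫ i'' ≫ p₂)
      = R.map (e ≫ Dual3.idealMulι (I ^ m) G'' ≫ i'') ≫ R.map p₂ := by
        rw [← R.map_comp]
        simp only [Category.assoc]
    _ = R.map (e ≫ Dual3.idealMulι (I ^ m) G'' ≫ i'') ≫ R.map p₁ ≫ φ := by rw [hR]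
    _ = R.map (Dual3.idealMulι (I ^ (m + a)) G) ≫ φ := by
        rw [← Category.assoc, ← R.map_comp, h2]

end Groth.Agent.Lib.R2H2.DeligneSurj
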