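import Mathlib
import Groth.Prelude
import Groth.Agent.Lib.Helper26ModLim

/-!
# helper7: the ascending chain condition for coherent submodules on a Noetherian scheme

`acc` : for a coherent module `E` on a Noetherian scheme, the coherent subobjects of `E` satisfy
the ascending chain condition (`WellFoundedGT`).
-/

set_option autoImplicit false
set_option linter.style.haveILetI false
universe u
open CategoryTheory CategoryTheory.Limits AlgebraicGeometry TopologicalSpace
open Groth.Agent.Lib.Helper20.Thickening Groth.Agent.Lib.Helper26.ModSec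
  Groth.Agent.Lib.Helper26.ModLim

namespace Groth.Agent.Lib.R2H7.CohACC

variable {X : Scheme.{u}}

/-- sections of a subobject over an affine open, as a submodule of the sections of the ambient
module -/
noncomputable def secRange {E : X.Modules} {U : X.Opens} (hU : IsAffineOpen U) (S : Subobject E) :
    Submodule Γ(X, U) ((ΓUF hU).obj E) :=
  LinearMap.range ((ΓUF hU).map S.arrow).hom

theorem map_ofLE_apply {E : X.Modules} {A B : Subobject E} (h : A ≤ B) {U : X.Opens}
    (hU : IsAffineOpen U) (y : (ΓUF hU).obj (A : X.Modules)) :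
    ((ΓUF hU).map B.arrow).hom (((ΓUF hU).map (Subobject.ofLE A B h)).hom y) =
      ((ΓUF hU).map A.arrow).hom y := by
  have e : (ΓUF hU).map (Subobject.ofLE A B h) ≫ (ΓUF hU).map B.arrow =
      (ΓUF hU).map A.arrow := by
    rw [← Functor.map_comp, Subobject.ofLE_arrow]
  have e' := congrArg (fun φ => φ.hom y) e
  simp only [ModuleCat.hom_comp, LinearMap.comp_apply] at e'
  exact e'

theorem secRange_mono {E : X.Modules} {U : X.Opens} (hU : IsAffineOpen U) {A B : Subobject E}
    (h : A ≤ B) : secRange hU A ≤ secRange hU B := by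
  intro x hx
  obtain ⟨y, rfl⟩ := LinearMap.mem_range.1 hx
  exact LinearMap.mem_range.2 ⟨((ΓUF hU).map (Subobject.ofLE A B h)).hom y, map_ofLE_apply h hU y⟩

/-- **ACC for coherent submodules** -/
theorem acc [IsNoetherian X] (E : X.Modules) (hE : Coh.IsCoh E) :
    WellFoundedGT {S : Subobject E // Coh.IsCoh (S : X.Modules)} := by
  classical
  haveI : E.IsQuasicoherent := hE.1
  rw [wellFoundedGT_iff_monotone_chain_condition]
  intro a
  obtain ⟨s, hs⟩ := exists_finite_affine_cover X
  have hAff : ∀ k : s, IsAffineOpen ((k.1 : X.Opens)) := fun k => k.1.2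
  have hNoeth : ∀ k : s, IsNoetherian Γ(X, (k.1 : X.Opens)) ((ΓUF (hAff k)).obj E) := by
    intro k
    haveI : IsNoetherianRing Γ(X, (k.1 : X.Opens)) :=
      IsLocallyNoetherian.component_noetherian k.1
    haveI := finite_ΓUF E hE.2 (hAff k)
    exact isNoetherian_of_isNoetherianRing_of_finite _ _
  have hstab : ∀ k : s, ∃ n, ∀ m, n ≤ m →
      secRange (hAff k) (a n).1 = secRange (hAff k) (a m).1 := fun k =>
    (monotone_stabilizes_iff_noetherian.2 (hNoeth k))
      ⟨fun n => secRange (hAff k) (a n).1, fun n m hnm => secRange_mono (hAff k) (a.monotone hnm)⟩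
  choose nk hnk using hstab
  refine ⟨Finset.univ.sup nk, fun m hm => ?_⟩
  have hle : (a (Finset.univ.sup nk)).1 ≤ (a m).1 := a.monotone hm
  haveI q1 : ((a (Finset.univ.sup nk)).1 : X.Modules).IsQuasicoherent := (a _).2.1
  haveI q2 : ((a m).1 : X.Modules).IsQuasicoherent := (a m).2.1
  have hiso : IsIso (Subobject.ofLE _ _ hle) := by
    rw [isIso_iff_ΓUF (Subobject.ofLE _ _ hle) (fun k : s => (k.1 : X.Opens)) hs hAff]
    intro k
    haveI : Mono ((ΓUF (hAff k)).map (Subobject.ofLE _ _ hle)) := mono_ΓUF_map _ (hAff k)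
    haveI hm2 : Mono ((ΓUF (hAff k)).map (a m).1.arrow) := mono_ΓUF_map _ (hAff k)
    haveI : Epi ((ΓUF (hAff k)).map (Subobject.ofLE _ _ hle)) := by
      refine (ModuleCat.epi_iff_surjective _).2 fun y => ?_
      have h1 : ((ΓUF (hAff k)).map (a m).1.arrow).hom y ∈ secRange (hAff k) (a m).1 :=
        LinearMap.mem_range.2 ⟨y, rfl⟩
      have hk : nk k ≤ Finset.univ.sup nk := Finset.le_sup (Finset.mem_univ k)
      have h2 : secRange (hAff k) (a (Finset.univ.sup nk)).1 = secRange (hAff k) (a m).1 := by
        rw [← hnk k _ hk, ← hnk k m (hk.trans hm)]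
      rw [← h2] at h1
      obtain ⟨x, hx⟩ := LinearMap.mem_range.1 h1
      refine ⟨x, ?_⟩
      apply (ModuleCat.mono_iff_injective _).1 hm2
      exact (map_ofLE_apply hle (hAff k) x).trans hx
    exact isIso_of_mono_of_epi _
  apply Subtype.ext
  refine le_antisymm hle ?_
  haveI := hiso
  exact Subobject.le_of_comm (inv (Subobject.ofLE _ _ hle))
    (by rw [IsIso.inv_comp_eq, Subobject.ofLE_arrow])

end Groth.Agent.Lib.R2H7.CohACC
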