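import Mathlib
import Groth.Prelude
import Groth.Agent.Lib.H6xQCohSAFT
import Groth.Agent.Lib.R2H7CohACC
import Groth.Agent.Lib.R2H2DeligneSurj
import Groth.Agent.Lib.R2H2PrimDecE
import Groth.Agent.Lib.Helper23FTsub
import Groth.Agent.Lib.Helper20Nakayama

/-!
# helper9: noetherian objects of `QCoh(O_Y)` on a noetherian scheme are the coherent modules
-/

set_option autoImplicit false
set_option linter.style.haveILetI false
universe u
open CategoryTheory CategoryTheory.Limits AlgebraicGeometry TopologicalSpace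

namespace Groth.Agent.Lib.H9QCohNoeth

open Groth.Agent.Lib.H6xQCohSAFT Groth.Agent.Lib.Helper23.QCohLocal

variable {Y : Scheme.{u}}

theorem isCoh_of_iso {M N : Y.Modules} (e : M ≅ N) (hM : Coh.IsCoh M) : Coh.IsCoh N := by
  haveI := hM.2
  exact ⟨(QCohCat.isQCoh Y).prop_of_iso e hM.1,
    Groth.Agent.Lib.Helper23.FinType.isFiniteType_of_iso e⟩

theorem exists_affine_mem (x : Y) : ∃ V : Y.affineOpens, x ∈ V.1 := by
  obtain ⟨U, hU, hx, -⟩ :=
    Y.isBasis_affineOpens.exists_subset_of_mem_open (Set.mem_univ x) isOpen_univ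
  obtain ⟨V, hV, rfl⟩ := hU
  exact ⟨⟨V, hV⟩, hx⟩

/-- surjective on sections over all affine opens implies epi (quasi-coherent target) -/
theorem epi_of_surjective_affine {A B : Y.Modules} [B.IsQuasicoherent] (φ : A ⟶ B)
    (h : ∀ (V : Y.affineOpens) (t : Γ(B, V.1)), ∃ s : Γ(A, V.1),
      Scheme.Modules.Hom.app φ V.1 s = t) : Epi φ := by
  apply Abelian.epi_of_cokernel_π_eq_zero
  refine eq_zero_of_cover (cokernel.π φ) (fun V : Y.affineOpens => V.1) (fun V => V.2)
    exists_affine_mem ?_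
  intro V t
  obtain ⟨s, rfl⟩ := h V t
  have h0 : φ ≫ cokernel.π φ = 0 := cokernel.condition φ
  have h1 : (Scheme.Modules.Hom.app (φ ≫ cokernel.π φ) V.1) s =
      (Scheme.Modules.Hom.app (0 : A ⟶ cokernel φ) V.1) s := by rw [h0]
  exact h1

theorem isNoetherianObject_of_isCoh [IsNoetherian Y] (M : QCohCat.QCoh Y)
    (hM : Coh.IsCoh M.obj) : IsNoetherianObject M := by
  have hmono := (QCohCat.isQCoh Y).preservesMonomorphisms_ι_of_isNormalEpiCategory
  rw [isNoetherianObject_iff_monotone_chain_condition]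
  intro f
  haveI := Groth.Agent.Lib.R2H7.CohACC.acc M.obj hM
  have hm : ∀ n, Mono ((QCohCat.isQCoh Y).ι.map (f n).arrow) := fun n => inferInstance
  have hc : ∀ n, Coh.IsCoh
      ((Subobject.mk ((QCohCat.isQCoh Y).ι.map (f n).arrow) : Subobject M.obj) : Y.Modules) := by
    intro n
    haveI : ((f n : QCohCat.QCoh Y)).obj.IsQuasicoherent := (f n : QCohCat.QCoh Y).property
    have h1 : Coh.IsCoh (f n : QCohCat.QCoh Y).obj :=
      Groth.Agent.Lib.R2H2.PrimDecE.isCoh_of_mono ((QCohCat.isQCoh Y).ι.map (f n).arrow) hM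
    exact isCoh_of_iso (Subobject.underlyingIso ((QCohCat.isQCoh Y).ι.map (f n).arrow)).symm h1
  let a : ℕ →o {S : Subobject M.obj // Coh.IsCoh (S : Y.Modules)} :=
    { toFun := fun n => ⟨Subobject.mk ((QCohCat.isQCoh Y).ι.map (f n).arrow), hc n⟩
      monotone' := by
        intro n m hnm
        have hle : f n ≤ f m := f.monotone hnm
        refine Subobject.mk_le_mk_of_comm
          ((QCohCat.isQCoh Y).ι.map (Subobject.ofLE (f n) (f m) hle)) ?_
        rw [← Functor.map_comp, Subobject.ofLE_arrow] }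
  obtain ⟨n, hn⟩ := WellFoundedGT.monotone_chain_condition a
  refine ⟨n, fun m hnm => le_antisymm (f.monotone hnm) ?_⟩
  have h1 : (a m).1 ≤ (a n).1 := by rw [hn m hnm]
  let g := Subobject.ofMkLEMk _ _ h1
  refine Subobject.le_of_comm ((QCohCat.isQCoh Y).homMk g) ?_
  apply ObjectProperty.hom_ext
  exact Subobject.ofMkLEMk_comp h1

theorem isCoh_of_isNoetherianObject [IsNoetherian Y] (M : QCohCat.QCoh Y)
    [IsNoetherianObject M] : Coh.IsCoh M.obj := by
  classical
  have hmono := (QCohCat.isQCoh Y).preservesMonomorphisms_ι_of_isNormalEpiCategory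
  haveI hMq : M.obj.IsQuasicoherent := M.property
  let P : Set (Subobject M) := {S | Coh.IsCoh (S : QCohCat.QCoh Y).obj}
  have hne : P.Nonempty := by
    obtain ⟨K', i, hi, hq, hf, -⟩ :=
      Groth.Agent.Lib.R2H2.DeligneSurj.exists_ft_sub_finite M.obj ∅ Set.finite_empty
    let K : QCohCat.QCoh Y := ⟨K', hq⟩
    let i' : K ⟶ M := (QCohCat.isQCoh Y).homMk i
    haveI : Mono i' := (QCohCat.isQCoh Y).ι.mono_of_mono_map (by exact hi)
    refine ⟨Subobject.mk i', ?_⟩
    exact isCoh_of_iso ((QCohCat.isQCoh Y).ι.mapIso (Subobject.underlyingIso i').symm) ⟨hq, hf⟩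
  obtain ⟨N, hN, hmax⟩ := wellFounded_gt.has_min P hne
  have hNc : Coh.IsCoh (N : QCohCat.QCoh Y).obj := hN
  have hsurj : ∀ (V : Y.affineOpens) (t : Γ(M.obj, V.1)),
      ∃ s : Γ((N : QCohCat.QCoh Y).obj, V.1),
        Scheme.Modules.Hom.app ((QCohCat.isQCoh Y).ι.map N.arrow) V.1 s = t := by
    intro V t
    obtain ⟨K', i, hi, hq, hf, hK⟩ :=
      Groth.Agent.Lib.R2H2.DeligneSurj.exists_ft_sub_finite M.obj {⟨V, t⟩}
        (Set.finite_singleton _)
    obtain ⟨g, hg⟩ := hK ⟨V, t⟩ rfl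
    haveI := hNc.1
    haveI := hNc.2
    let f : (N : QCohCat.QCoh Y).obj ⊞ K' ⟶ M.obj := biprod.desc N.arrow.hom i
    haveI : ((N : QCohCat.QCoh Y).obj ⊞ K').IsQuasicoherent := isQuasicoherent_biprod _ _
    haveI hIq : (Abelian.image f).IsQuasicoherent := by
      haveI := isQuasicoherent_cokernel f
      exact isQuasicoherent_kernel (cokernel.π f)
    haveI hbf : SheafOfModules.IsFiniteType (R := Y.ringCatSheaf)
        ((N : QCohCat.QCoh Y).obj ⊞ K') :=
      Groth.Agent.Lib.Helper23.FTsub.isFiniteType_biprod _ _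
    haveI hepi : Epi (Abelian.factorThruImage f) := inferInstance
    have hIf : SheafOfModules.IsFiniteType (R := Y.ringCatSheaf) (Abelian.image f) := by
      refine @Groth.Agent.Lib.Helper20.Nakayama.isFiniteType_of_epi _ _ _
        (Abelian.factorThruImage f) ?_ ?_
      · exact hepi
      · exact hbf
    let I : QCohCat.QCoh Y := ⟨Abelian.image f, hIq⟩
    let j : I ⟶ M := (QCohCat.isQCoh Y).homMk (Abelian.image.ι f)
    haveI : Mono j := (QCohCat.isQCoh Y).ι.mono_of_mono_map
      (inferInstanceAs (Mono (Abelian.image.ι f)))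
    have hS' : Subobject.mk j ∈ P :=
      isCoh_of_iso ((QCohCat.isQCoh Y).ι.mapIso (Subobject.underlyingIso j).symm) ⟨hIq, hIf⟩
    have hle : N ≤ Subobject.mk j := by
      refine Subobject.le_mk_of_comm
        ((QCohCat.isQCoh Y).homMk (biprod.inl ≫ Abelian.factorThruImage f)) ?_
      apply ObjectProperty.hom_ext
      show (biprod.inl ≫ Abelian.factorThruImage f) ≫ Abelian.image.ι f = N.arrow.hom
      simp [f]
    have heq : Subobject.mk j ≤ N := by
      by_contra hcon
      exact hmax _ hS' (lt_of_le_not_ge hle hcon)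
    let r := Subobject.ofMkLE j N heq
    have hr : r ≫ N.arrow = j := Subobject.ofMkLE_arrow heq
    have hr' : r.hom ≫ N.arrow.hom = Abelian.image.ι f := congrArg (fun φ => φ.hom) hr
    refine ⟨Scheme.Modules.Hom.app r.hom V.1 (Scheme.Modules.Hom.app (Abelian.factorThruImage f) V.1
      (Scheme.Modules.Hom.app (biprod.inr : K' ⟶ _) V.1 g)), ?_⟩
    have e1 : (biprod.inr : K' ⟶ _) ≫ Abelian.factorThruImage f ≫ r.hom ≫ N.arrow.hom = i := by
      rw [hr']
      simp [f]
    have e2 := congrArg (fun ψ => (Scheme.Modules.Hom.app ψ V.1) g) e1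
    simp only [Scheme.Modules.Hom.comp_app] at e2
    exact e2.trans hg
  haveI : ((QCohCat.isQCoh Y).ι.obj M).IsQuasicoherent := M.property
  haveI : Epi ((QCohCat.isQCoh Y).ι.map N.arrow) := epi_of_surjective_affine _ hsurj
  haveI : Mono ((QCohCat.isQCoh Y).ι.map N.arrow) := inferInstance
  haveI : IsIso ((QCohCat.isQCoh Y).ι.map N.arrow) := isIso_of_mono_of_epi _
  exact isCoh_of_iso (asIso ((QCohCat.isQCoh Y).ι.map N.arrow)) hNc

theorem main (Y : Scheme.{u}) [IsNoetherian Y] (M : QCohCat.QCoh Y) :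
    IsNoetherianObject M ↔ Coh.IsCoh M.obj :=
  ⟨fun _ => isCoh_of_isNoetherianObject M, isNoetherianObject_of_isCoh M⟩

end Groth.Agent.Lib.H9QCohNoeth
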