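import Mathlib
import Groth.Prelude.Def_FDesc
import Groth.Agent.Lib.Helper2QuasiFlat2
import Groth.Agent.Lib.Helper6ProdComp
import Groth.Agent.Lib.Helper11Generic

/-!
# Irreducible components of a fibre product with a quasi-flat morphism (helper9)

* `exists_specializes_lift`: in `X ×_Y Y'`, generalizations of `q ξ'` inside the fibre of `g` lift to
  generalizations of `ξ'`.
* `main` (S4633).
-/

set_option autoImplicit false
universe u
open CategoryTheory CategoryTheory.Limits AlgebraicGeometry TopologicalSpace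

namespace Groth.Agent.Lib.H9QFlatComp

theorem flat_of_isField_source {R T : Type u} [CommRing R] [CommRing T] (f : R →+* T)
    (hR : IsField R) : f.Flat := by
  algebraize [f]
  let _ := hR.toField
  have : Module.Free R T := Module.Free.of_divisionRing R T
  exact Module.Flat.of_free

lemma flat_SpecMap_of_field {K L : CommRingCat.{u}} (hK : IsField K) (φ : K ⟶ L) :
    Flat (Spec.map φ) := by
  rw [HasRingHomProperty.Spec_iff (P := @Flat)]
  exact flat_of_isField_source φ.hom hK

variable {X Y Y' : Scheme.{u}} (f : X ⟶ Y) (g : Y' ⟶ Y)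

/-- generalizations inside the fibres of `g` lift along `X ×_Y Y' ⟶ Y'`. -/
theorem exists_specializes_lift (ξ' : ↑(pullback f g)) (y'' : Y')
    (hsp : y'' ⤳ (pullback.snd f g) ξ') (hg : g y'' = g ((pullback.snd f g) ξ')) :
    ∃ x'' : ↑(pullback f g), x'' ⤳ ξ' ∧ (pullback.snd f g) x'' = y'' := by
  set p := pullback.fst f g with hp
  set q := pullback.snd f g with hq
  set x := p ξ' with hx
  have hcond : p ≫ f = q ≫ g := pullback.condition
  have hfx : f x = g (q ξ') := by
    rw [hx, ← Scheme.Hom.comp_apply, hcond, Scheme.Hom.comp_apply]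
  -- the morphisms
  let k' : Spec ((pullback f g).residueField ξ') ⟶ pullback f g :=
    (pullback f g).fromSpecResidueField ξ'
  let kx : Spec (X.residueField x) ⟶ X := X.fromSpecResidueField x
  let ky : Spec (Y.residueField (f x)) ⟶ Y := Y.fromSpecResidueField (f x)
  let a : Spec ((pullback f g).residueField ξ') ⟶ Spec (X.residueField x) :=
    Spec.map (p.residueFieldMap ξ')
  have ha : a ≫ kx = k' ≫ p := Scheme.Hom.SpecMap_residueFieldMap_fromSpecResidueField p ξ'
  let b : Spec (X.residueField x) ⟶ Spec (Y.residueField (f x)) := Spec.map (f.residueFieldMap x)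
  have hb : b ≫ ky = kx ≫ f := Scheme.Hom.SpecMap_residueFieldMap_fromSpecResidueField f x
  haveI : Flat b := flat_SpecMap_of_field (Field.toIsField _) _
  let φ : g.fiber (f x) ⟶ Spec (Y.residueField (f x)) := g.fiberToSpecResidueField (f x)
  let ι : g.fiber (f x) ⟶ Y' := g.fiberι (f x)
  have hfac : ι ≫ g = φ ≫ ky := g.fiber_fac (f x)
  -- the map `h : P ⟶ X'`
  have hh : (pullback.fst b φ ≫ kx) ≫ f = (pullback.snd b φ ≫ ι) ≫ g := by
    rw [Category.assoc, ← hb, ← Category.assoc, pullback.condition, Category.assoc, Category.assoc,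
      hfac]
  let h : pullback b φ ⟶ pullback f g := pullback.lift (pullback.fst b φ ≫ kx) (pullback.snd b φ ≫ ι) hh
  have hh1 : h ≫ p = pullback.fst b φ ≫ kx := pullback.lift_fst _ _ _
  have hh2 : h ≫ q = pullback.snd b φ ≫ ι := pullback.lift_snd _ _ _
  -- the map `c : K' ⟶ fibre`
  have hc : (k' ≫ q) ≫ g = (a ≫ b) ≫ ky := by
    rw [Category.assoc, ← hcond, ← Category.assoc, ← ha, Category.assoc, Category.assoc, hb]
  let c : Spec ((pullback f g).residueField ξ') ⟶ g.fiber (f x) := pullback.lift (k' ≫ q) (a ≫ b) hc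
  have hc1 : c ≫ ι = k' ≫ q := pullback.lift_fst _ _ _
  have hc2 : c ≫ φ = a ≫ b := pullback.lift_snd _ _ _
  let t₀ : Spec ((pullback f g).residueField ξ') ⟶ pullback b φ := pullback.lift a c hc2.symm
  have ht1 : t₀ ≫ pullback.fst b φ = a := pullback.lift_fst _ _ _
  have ht2 : t₀ ≫ pullback.snd b φ = c := pullback.lift_snd _ _ _
  have hth : t₀ ≫ h = k' := by
    apply pullback.hom_ext
    · change (t₀ ≫ h) ≫ p = k' ≫ p
      rw [Category.assoc, hh1, ← Category.assoc, ht1, ha]
    · change (t₀ ≫ h) ≫ q = k' ≫ q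
      rw [Category.assoc, hh2, ← Category.assoc, ht2, hc1]
  -- the point
  let pt : Spec ((pullback f g).residueField ξ') := IsLocalRing.closedPoint _
  let t : ↑(pullback b φ) := t₀ pt
  have hht : h t = ξ' := by
    change h (t₀ pt) = ξ'
    rw [← Scheme.Hom.comp_apply, hth]
    exact Scheme.fromSpecResidueField_apply _ _
  -- `y''` lies in the fibre
  have hy''mem : y'' ∈ Set.range ι := by
    change y'' ∈ Set.range (g.fiberι (f x))
    rw [g.range_fiberι (f x)]
    change g y'' = f x
    rw [hg, hfx]
  obtain ⟨y₀'', hy₀''⟩ := hy''mem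
  let y₀' : ↑(g.fiber (f x)) := (pullback.snd b φ) t
  have hy₀' : ι y₀' = q ξ' := by
    change ι ((pullback.snd b φ) t) = q ξ'
    rw [← Scheme.Hom.comp_apply, ← hh2, Scheme.Hom.comp_apply, hht]
  have hsp₀ : y₀'' ⤳ y₀' := by
    have : ι y₀'' ⤳ ι y₀' := by rw [hy₀'', hy₀']; exact hsp
    exact (ι.isEmbedding.isInducing.specializes_iff).mp this
  have hgen : GeneralizingMap (pullback.snd b φ) := Flat.generalizingMap _
  obtain ⟨t'', ht''sp, ht''⟩ := hgen hsp₀
  refine ⟨h t'', ?_, ?_⟩
  · rw [← hht]
    exact ht''sp.map h.continuous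
  · change q (h t'') = y''
    rw [← Scheme.Hom.comp_apply, hh2, Scheme.Hom.comp_apply, ht'', hy₀'']

/-- S4633 -/
theorem main (hf : ∀ Z ∈ irreducibleComponents ↥X, closure (⇑f '' Z) ∈ irreducibleComponents ↥Y)
    (hg : FDesc.IsQuasiFlat g) (Z' : Set ↥(pullback f g)) (hZ' : Z' ∈ irreducibleComponents ↥(pullback f g)) :
    closure (⇑(pullback.snd f g) '' Z') ∈ irreducibleComponents ↥Y' := by
  have hZ'cl : IsClosed Z' := isClosed_of_mem_irreducibleComponents Z' hZ'
  obtain ⟨ξ', hξ'⟩ := QuasiSober.sober hZ'.1 hZ'cl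
  have hξ'cl : closure {ξ'} = Z' := hξ'
  -- `p` is generalizing
  have hpq : FDesc.IsQuasiFlat (pullback.fst f g) :=
    Helper2.QuasiFlat.isQuasiFlat_of_isPullback (IsPullback.of_hasPullback f g).flip hg
  have hpgen : GeneralizingMap (pullback.fst f g).base :=
    Helper2.QuasiFlat.generalizingMap_of_isQuasiFlat _ hpq
  have hxcomp : closure {(pullback.fst f g) ξ'} ∈ irreducibleComponents ↥X :=
    Helper6.ProdComp.closure_image_mem_irreducibleComponents (pullback.fst f g)
      (pullback.fst f g).continuous hpgen ξ' (by rw [hξ'cl]; exact hZ')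
  have hycomp : closure {f ((pullback.fst f g) ξ')} ∈ irreducibleComponents ↥Y := by
    have := hf _ hxcomp
    rwa [closure_image_closure f.continuous, Set.image_singleton] at this
  have hfx : f ((pullback.fst f g) ξ') = g ((pullback.snd f g) ξ') := by
    rw [← Scheme.Hom.comp_apply, pullback.condition, Scheme.Hom.comp_apply]
  -- rewrite the goal
  rw [← hξ'cl, closure_image_closure (pullback.snd f g).continuous, Set.image_singleton]
  refine ⟨isIrreducible_singleton.closure, ?_⟩
  intro S hS hle
  obtain ⟨η, hη⟩ := QuasiSober.sober hS.closure isClosed_closure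
  have hηcl : closure {η} = closure S := hη
  have hsp : η ⤳ (pullback.snd f g) ξ' := by
    rw [specializes_iff_mem_closure, hηcl]
    exact subset_closure (hle (subset_closure rfl))
  have hgη : g η = g ((pullback.snd f g) ξ') := by
    have h1 : g η ⤳ f ((pullback.fst f g) ξ') := by
      rw [hfx]; exact hsp.map g.continuous
    rw [← hfx]
    exact Helper11.eq_of_specializes_generic hycomp h1
  obtain ⟨x'', hx''sp, hx''⟩ := exists_specializes_lift f g ξ' η hsp hgη
  have hx''eq : x'' = ξ' :=
    Helper11.eq_of_specializes_generic (by rw [hξ'cl]; exact hZ') hx''sp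
  have hηeq : η = (pullback.snd f g) ξ' := by rw [← hx'', hx''eq]
  calc S ⊆ closure S := subset_closure
    _ = closure {η} := hηcl.symm
    _ = closure {(pullback.snd f g) ξ'} := by rw [hηeq]

end Groth.Agent.Lib.H9QFlatComp
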