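import Mathlib
import Groth.Prelude.Def_CAlgX
import Groth.Agent.Lib.H6xQRegBC

/-!
# Flatness from a quasi-regular quotient (helper9)

* `flat_of_flat_quot_pow`: `B` noetherian, `I ≤ rad B`, all `B ⧸ I ^ n` flat over `A` ⟹ `B` flat.
* `flat_of_quasiRegular_quot`: `A → B ↠ C`, `B` noetherian local, kernel generated by a quasi-regular
  sequence, `C ≠ 0` flat over `A` ⟹ `B` flat over `A`.
-/

set_option autoImplicit false
set_option linter.style.haveILetI false
universe u
open TensorProduct

namespace Groth.Agent.Lib.H9QRegFlat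
open Groth.Agent.Lib.H6xQRegBC

/-- If `B` is noetherian, `I ≤ rad B` and all `B ⧸ I ^ n` are flat over `A`, then `B` is flat over
`A`. -/
theorem flat_of_flat_quot_pow {A B : Type u} [CommRing A] [CommRing B] [Algebra A B]
    [IsNoetherianRing B] (I : Ideal B) (hI : I ≤ Ideal.jacobson ⊥)
    (h : ∀ n : ℕ, Module.Flat A (B ⧸ I ^ n)) : Module.Flat A B := by
  rw [Module.Flat.iff_lTensor_injective]
  intro J hJ
  rw [injective_iff_map_eq_zero]
  intro x hx
  haveI : Module.Finite A J := Module.Finite.iff_fg.mpr hJ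
  have hkrull := Ideal.iInf_pow_smul_eq_bot_of_le_jacobson (M := B ⊗[A] J) I hI
  suffices hmem : x ∈ (⨅ n : ℕ, I ^ n • ⊤ : Submodule B (B ⊗[A] J)) by
    rw [hkrull] at hmem
    exact hmem
  rw [Submodule.mem_iInf]
  intro n
  let q : B →ₗ[A] B ⧸ I ^ n := (Ideal.Quotient.mkₐ A (I ^ n)).toLinearMap
  have hq : Function.Surjective q := Ideal.Quotient.mk_surjective
  let ι : ↥((I ^ n).restrictScalars A) →ₗ[A] B := ((I ^ n).restrictScalars A).subtype
  have hex0 : Function.Exact ι q := by
    intro b
    constructor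
    · intro hb
      have : b ∈ I ^ n := Ideal.Quotient.eq_zero_iff_mem.mp hb
      exact ⟨⟨b, this⟩, rfl⟩
    · rintro ⟨y, rfl⟩
      exact Ideal.Quotient.eq_zero_iff_mem.mpr y.2
  have hex := rTensor_exact J hex0 hq
  have h1 : (J.subtype.lTensor (B ⧸ I ^ n)) (q.rTensor J x) = 0 := by
    rw [← LinearMap.comp_apply, LinearMap.lTensor_comp_rTensor, ← LinearMap.rTensor_comp_lTensor,
      LinearMap.comp_apply, hx, map_zero]
  have h2 : q.rTensor J x = 0 := by
    apply (Module.Flat.iff_lTensor_injective.mp (h n) hJ)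
    rw [h1, map_zero]
  have hrange : ∀ y, (ι.rTensor J) y ∈ (I ^ n • ⊤ : Submodule B (B ⊗[A] J)) := by
    intro y
    induction y using TensorProduct.induction_on with
    | zero => simp
    | tmul b j =>
      have : (ι.rTensor J) (b ⊗ₜ[A] j) = (b : B) • ((1 : B) ⊗ₜ[A] j) := by
        rw [LinearMap.rTensor_tmul, TensorProduct.smul_tmul', smul_eq_mul, mul_one]
        rfl
      rw [this]
      exact Submodule.smul_mem_smul b.2 Submodule.mem_top
    | add y₁ y₂ h₁ h₂ =>
      rw [map_add]
      exact Submodule.add_mem _ h₁ h₂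
  obtain ⟨y, rfl⟩ := (hex x).mp h2
  exact hrange y


/-- Local flatness from a quasi-regular quotient: `A → B ↠ C`, `B` noetherian local, the kernel
generated by a quasi-regular sequence, `C ≠ 0` flat over `A`; then `B` is flat over `A`. -/
theorem flat_of_quasiRegular_quot {A B C : Type u} [CommRing A] [CommRing B] [CommRing C]
    [IsLocalRing B] [IsNoetherianRing B] [Nontrivial C] (ψ : A →+* B) (φ : B →+* C)
    (hφ : Function.Surjective φ) (hflat : (φ.comp ψ).Flat) {r : ℕ} (g : Fin r → B)
    (hg : CAlgX.IsQuasiRegular g) (hker : RingHom.ker φ = Ideal.span (Set.range g)) : ψ.Flat := by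
  letI : Algebra A B := ψ.toAlgebra
  letI : Algebra A C := (φ.comp ψ).toAlgebra
  haveI : Module.Flat A C := hflat
  let φ' : B →ₐ[A] C := { φ with commutes' := fun a => rfl }
  have hφ' : Function.Surjective φ' := hφ
  have hker' : RingHom.ker φ' = Ideal.span (Set.range g) := hker
  let e : (B ⧸ Ideal.span (Set.range g)) ≃ₐ[A] C :=
    (Ideal.quotientEquivAlgOfEq A hker'.symm).trans (Ideal.quotientKerAlgEquivOfSurjective hφ')
  haveI hflatI : Module.Flat A (B ⧸ Ideal.span (Set.range g)) :=
    Module.Flat.of_linearEquiv e.toLinearEquiv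
  have hne : Ideal.span (Set.range g) ≠ ⊤ := by
    rw [← hker]
    exact RingHom.ker_ne_top φ
  have hle : Ideal.span (Set.range g) ≤ Ideal.jacobson ⊥ :=
    (IsLocalRing.le_maximalIdeal hne).trans (IsLocalRing.maximalIdeal_le_jacobson _)
  have hpow := fun n => flat_quot_pow (A := A) g hflatI (qr_of_isQuasiRegular g hg) n
  exact flat_of_flat_quot_pow (A := A) _ hle hpow

end Groth.Agent.Lib.H9QRegFlat
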