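import Mathlib

/-! exists_fewer_gens (dropping a generator of B/J near a prime), exists_mul_pow_eq_zero_of_mem_minimalPrimes, false_of_finite: for a finite A-algebra B, a closed V(J) ⊆ Spec B with empty interior cannot map onto a nonempty basic open D(a) of Spec A (no Noetherian hypotheses; elementary minimal-number-of-generators argument) (helper9). -/

set_option autoImplicit false
universe u

namespace Groth.Agent.Lib.H9QfNd1

section Red

variable {A B : Type*} [CommRing A] [CommRing B] [Algebra A B]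

/-- the reduction step: a relation with a coefficient outside `p` allows to drop a generator. -/
theorem exists_fewer_gens {N m : ℕ} (ys : Fin N → B) (hys : Submodule.span A (Set.range ys) = ⊤)
    (J : Ideal B) (s : A) (x : Fin m → B) (z e : Fin N → B)
    (hz : ∀ l, z l ∈ Submodule.span A (Set.range x)) (he : ∀ l, e l ∈ J)
    (hze : ∀ l, s • ys l = z l + e l)
    (q : Ideal B) [q.IsPrime] (hsq : algebraMap A B s ∉ q)
    (hJ₀ : Ideal.span (Set.range e) ≤ q) (j : B) (hjJ : j ∈ J) (hjq : j ∉ q) :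
    ∃ m' < m, ∃ s' : A, algebraMap A B s' ∉ q ∧ ∃ x' : Fin m' → B,
      ∀ l, s' • ys l ∈ Submodule.span A (Set.range x') ⊔ J.restrictScalars A := by
  classical
  set Sx := Submodule.span A (Set.range x) with hSx
  set J₀ : Ideal B := Ideal.span (Set.range e) with hJ₀def
  -- (i) `s • y ∈ Sx ⊔ J₀` for all `y`
  have h1 : ∀ y : B, s • y ∈ Sx ⊔ J₀.restrictScalars A := by
    intro y
    have hy : y ∈ Submodule.span A (Set.range ys) := by rw [hys]; trivial
    induction hy using Submodule.span_induction with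
    | mem y hy =>
      obtain ⟨l, rfl⟩ := hy
      rw [hze l]
      exact Submodule.add_mem_sup (hz l) (Ideal.subset_span ⟨l, rfl⟩)
    | zero => rw [smul_zero]; exact Submodule.zero_mem _
    | add y₁ y₂ _ _ h₁ h₂ => rw [smul_add]; exact Submodule.add_mem _ h₁ h₂
    | smul c y _ h => rw [smul_comm]; exact Submodule.smul_mem _ c h
  obtain ⟨zz, hzz, ee, hee, hsum⟩ := Submodule.mem_sup.mp (h1 j)
  have hee' : ee ∈ J₀ := hee
  obtain ⟨β, hβ⟩ := (Submodule.mem_span_range_iff_exists_fun A).mp hzz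
  -- (iii) some coefficient is outside `q`
  have h3 : ∃ k₀, algebraMap A B (β k₀) ∉ q := by
    by_contra hcon
    push Not at hcon
    have hzq : zz ∈ q := by
      rw [← hβ]
      refine Ideal.sum_mem _ fun k _ => ?_
      rw [Algebra.smul_def]
      exact q.mul_mem_right _ (hcon k)
    have : s • j ∈ q := by rw [← hsum]; exact q.add_mem hzq (hJ₀ hee')
    rw [Algebra.smul_def] at this
    rcases ‹q.IsPrime›.mem_or_mem this with h | h
    · exact hsq h
    · exact hjq h
  obtain ⟨k₀, hk₀⟩ := h3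
  -- (iv) `zz ∈ J`
  have hJ₀J : J₀ ≤ J := Ideal.span_le.mpr (by rintro _ ⟨l, rfl⟩; exact he l)
  have h4 : zz ∈ J := by
    have : zz = s • j - ee := by rw [← hsum]; ring
    rw [this, Algebra.smul_def]
    exact J.sub_mem (J.mul_mem_left _ hjJ) (hJ₀J hee')
  -- (v) drop the generator `k₀`
  obtain ⟨m', rfl⟩ : ∃ m', m = m' + 1 := by
    cases m with
    | zero => exact k₀.elim0
    | succ m' => exact ⟨m', rfl⟩
  refine ⟨m', Nat.lt_succ_self _, s * β k₀, ?_, x ∘ k₀.succAbove, ?_⟩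
  · rw [map_mul]
    exact fun h => (‹q.IsPrime›.mem_or_mem h).elim hsq hk₀
  set Sx' := Submodule.span A (Set.range (x ∘ k₀.succAbove)) with hSx'
  have h5 : β k₀ • x k₀ ∈ Sx' ⊔ J.restrictScalars A := by
    have hs := Fin.sum_univ_succAbove (fun k => β k • x k) k₀
    rw [hβ] at hs
    have : β k₀ • x k₀ = (- ∑ i, β (k₀.succAbove i) • x (k₀.succAbove i)) + zz := by
      rw [hs]; ring
    rw [this]
    refine Submodule.add_mem_sup (Submodule.neg_mem _ (Submodule.sum_mem _ fun i _ => ?_)) h4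
    exact Submodule.smul_mem _ _ (Submodule.subset_span ⟨i, rfl⟩)
  have h6 : ∀ w ∈ Sx, β k₀ • w ∈ Sx' ⊔ J.restrictScalars A := by
    intro w hw
    induction hw using Submodule.span_induction with
    | mem w hw =>
      obtain ⟨k, rfl⟩ := hw
      rcases Fin.eq_self_or_eq_succAbove k₀ k with h | ⟨i, h⟩
      · rw [h]; exact h5
      · rw [h]
        exact Submodule.mem_sup_left (Submodule.smul_mem _ _ (Submodule.subset_span ⟨i, rfl⟩))
    | zero => rw [smul_zero]; exact Submodule.zero_mem _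
    | add y₁ y₂ _ _ h₁ h₂ => rw [smul_add]; exact Submodule.add_mem _ h₁ h₂
    | smul c y _ h => rw [smul_comm]; exact Submodule.smul_mem _ c h
  intro l
  rw [mul_comm, mul_smul, hze l, smul_add]
  refine Submodule.add_mem _ (h6 _ (hz l)) (Submodule.mem_sup_right ?_)
  change β k₀ • e l ∈ J
  rw [Algebra.smul_def]
  exact J.mul_mem_left _ (he l)

end Red

section Min

variable {B : Type*} [CommRing B]

/-- an element of a minimal prime is nilpotent up to a factor outside the prime. -/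
theorem exists_mul_pow_eq_zero_of_mem_minimalPrimes {q : Ideal B} (hq : q ∈ minimalPrimes B)
    {x : B} (hx : x ∈ q) : ∃ g : B, g ∉ q ∧ ∃ n : ℕ, g * x ^ n = 0 := by
  haveI hqp : q.IsPrime := hq.1.1
  by_contra hcon
  push Not at hcon
  let Mset : Submonoid B :=
    { carrier := {y | ∃ g : B, g ∉ q ∧ ∃ n : ℕ, y = g * x ^ n}
      one_mem' := ⟨1, fun h => hqp.ne_top ((Ideal.eq_top_iff_one _).mpr h), 0, by simp⟩
      mul_mem' := by
        rintro y y' ⟨g, hg, n, rfl⟩ ⟨g', hg', n', rfl⟩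
        refine ⟨g * g', fun h => (hqp.mem_or_mem h).elim hg hg', n + n', ?_⟩
        rw [pow_add]; ring }
  have hdisj : Disjoint ((⊥ : Ideal B) : Set B) (Mset : Set B) := by
    rw [Set.disjoint_left]
    rintro y hy ⟨g, hg, n, rfl⟩
    exact hcon g hg n hy
  obtain ⟨P, hP, -, hPdisj⟩ := Ideal.exists_le_prime_disjoint _ Mset hdisj
  have hPq : P ≤ q := by
    intro y hyP
    by_contra hyq
    exact (Set.disjoint_left.mp hPdisj) hyP ⟨y, hyq, 0, by simp⟩
  have hqP : q ≤ P := hq.2 ⟨hP, bot_le⟩ hPq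
  have hxP : x ∈ P := hqP hx
  exact (Set.disjoint_left.mp hPdisj) hxP
    ⟨1, fun h => hqp.ne_top ((Ideal.eq_top_iff_one _).mpr h), 1, by simp⟩

end Min

section Fin

variable {A B : Type*} [CommRing A] [CommRing B] [Algebra A B] [Module.Finite A B]

/-- **finite case, algebra form**: for a finite `A`-algebra `B`, a closed subset `V(J)` of
`Spec B` with empty interior cannot have an image containing a nonempty basic open `D(a)`. -/
theorem false_of_finite (J : Ideal B) (a : A)
    (H1 : ∀ g : B, ¬ IsNilpotent g → ∃ q : Ideal B, q.IsPrime ∧ g ∉ q ∧ ¬ J ≤ q)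
    (H2 : ∀ p : Ideal A, p.IsPrime → a ∉ p → ∃ q : Ideal B, q.IsPrime ∧ J ≤ q ∧ q.under A = p)
    (H3 : ¬ IsNilpotent a) : False := by
  classical
  obtain ⟨N, ys, hys⟩ := Module.Finite.exists_fin (R := A) (M := B)
  -- the minimal number of generators of `B ⧸ J` near a point of `D(a)`
  let G : ℕ → Prop := fun m => ∃ p : Ideal A, p.IsPrime ∧ a ∉ p ∧ ∃ s : A, s ∉ p ∧
    ∃ x : Fin m → B, ∀ l, s • ys l ∈ Submodule.span A (Set.range x) ⊔ J.restrictScalars A
  have hGN : ∃ m, G m := by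
    obtain ⟨p, hp, hap⟩ : ∃ p : Ideal A, p.IsPrime ∧ a ∉ p := by
      by_contra hcon
      push Not at hcon
      apply H3
      rw [nilpotent_iff_mem_prime]
      exact fun p hp => hcon p hp
    refine ⟨N, p, hp, hap, 1, fun h => hp.ne_top ((Ideal.eq_top_iff_one _).mpr h), ys, fun l => ?_⟩
    rw [one_smul]
    exact Submodule.mem_sup_left (Submodule.subset_span ⟨l, rfl⟩)
  obtain ⟨p₀, hp₀, hap₀, s, hsp₀, x, hx⟩ := Nat.find_spec hGN
  have hmin : ∀ m < Nat.find hGN, ¬ G m := fun m hm => Nat.find_min hGN hm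
  choose z hz e he hze using fun l => Submodule.mem_sup.mp (hx l)
  have he' : ∀ l, e l ∈ J := he
  -- (C1)
  have C1 : ∀ q : Ideal B, q.IsPrime → algebraMap A B a ∉ q → algebraMap A B s ∉ q →
      Ideal.span (Set.range e) ≤ q → J ≤ q := by
    intro q hq haq hsq hJ₀q
    by_contra hJq
    obtain ⟨j, hjJ, hjq⟩ := Set.not_subset.mp hJq
    haveI := hq
    obtain ⟨m', hm', s', hs'q, x', hx'⟩ := exists_fewer_gens ys hys J s x z e hz he'
      (fun l => (hze l).symm) q hsq hJ₀q j hjJ hjq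
    exact hmin m' hm' ⟨q.under A, Ideal.IsPrime.under A q, fun h => haq h, s', fun h => hs'q h,
      x', hx'⟩
  -- a minimal prime of `A` inside `D(a s)`
  obtain ⟨p₁, hp₁min, hp₁le⟩ := Ideal.exists_minimalPrimes_le (bot_le : (⊥ : Ideal A) ≤ p₀)
  haveI hp₁ : p₁.IsPrime := hp₁min.1.1
  have hap₁ : a ∉ p₁ := fun h => hap₀ (hp₁le h)
  have hsp₁ : s ∉ p₁ := fun h => hsp₀ (hp₁le h)
  obtain ⟨q₁, hq₁, hJq₁, hq₁p₁⟩ := H2 p₁ hp₁ hap₁
  haveI := hq₁
  have hq₁min : q₁ ∈ minimalPrimes B := by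
    refine ⟨⟨hq₁, bot_le⟩, ?_⟩
    rintro q' ⟨hq', -⟩ hle
    haveI := hq'
    have hu : q'.under A = q₁.under A := by
      rw [hq₁p₁]
      refine le_antisymm ?_ (hp₁min.2 ⟨Ideal.IsPrime.under A q', bot_le⟩ ?_)
      · rw [← hq₁p₁]; exact Ideal.comap_mono hle
      · rw [← hq₁p₁]; exact Ideal.comap_mono hle
    exact (Algebra.QuasiFinite.eq_of_le_of_under_eq (R := A) q' q₁ hle hu).ge
  -- kill the generators of `J₀` near `q₁`
  have hkill : ∀ l, ∃ g : B, g ∉ q₁ ∧ ∃ n : ℕ, g * e l ^ n = 0 := fun l =>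
    exists_mul_pow_eq_zero_of_mem_minimalPrimes hq₁min (hJq₁ (he' l))
  choose g hg n hgn using hkill
  set gg : B := (∏ l, g l) * algebraMap A B (a * s) with hgg
  have hggq₁ : gg ∉ q₁ := by
    intro h
    rcases hq₁.mem_or_mem h with h | h
    · obtain ⟨l, -, hl⟩ := (hq₁.prod_mem_iff).mp h
      exact hg l hl
    · have : a * s ∈ q₁.under A := h
      rw [hq₁p₁] at this
      exact (hp₁.mem_or_mem this).elim hap₁ hsp₁
  have hggnil : ¬ IsNilpotent gg := by
    intro h
    exact hggq₁ ((nilpotent_iff_mem_prime.mp h) q₁ hq₁)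
  obtain ⟨q, hq, hggq, hJq⟩ := H1 gg hggnil
  haveI := hq
  have haq : algebraMap A B a ∉ q := fun h => hggq (by
    rw [hgg, map_mul]; exact q.mul_mem_left _ (q.mul_mem_right _ h))
  have hsq : algebraMap A B s ∉ q := fun h => hggq (by
    rw [hgg, map_mul]; exact q.mul_mem_left _ (q.mul_mem_left _ h))
  have hJ₀q : ¬ Ideal.span (Set.range e) ≤ q := fun h => hJq (C1 q hq haq hsq h)
  rw [Ideal.span_le] at hJ₀q
  obtain ⟨_, ⟨l, rfl⟩, hl⟩ := Set.not_subset.mp hJ₀q
  have h0 : g l * e l ^ n l ∈ q := by rw [hgn l]; exact q.zero_mem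
  rcases hq.mem_or_mem h0 with h | h
  · refine hggq ?_
    rw [hgg]
    refine q.mul_mem_right _ ?_
    exact (hq.prod_mem_iff).mpr ⟨l, Finset.mem_univ _, h⟩
  · exact hl (hq.mem_of_pow_mem _ h)

end Fin

end Groth.Agent.Lib.H9QfNd1
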