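import Mathlib

/-!
# Zariski's main theorem with a *finite* compactification, affine target (helper2)

Mathlib's Zariski main theorem factors a separated quasi-finite morphism of finite type through
its relative normalization, which is integral but in general not finite over the base.  Here we
cut the integral extension down to a finite subalgebra: a separated, quasi-finite morphism of
finite type `f : X ⟶ Y` with `Y` affine factors as an open immersion followed by a finite
morphism.
-/

set_option autoImplicit false
set_option linter.style.haveILetI false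
universe u

open CategoryTheory AlgebraicGeometry

namespace Groth.Agent.Lib.R2H2.ZMTFinite

section ring

variable {B B' : Type u} [CommRing B] [CommRing B'] [Algebra B B']

/-- Let `B''` be a `B`-subalgebra of `B'` containing `b` such that every element of a generating
set `G` of the `B`-algebra `B'_b` has a numerator in `B''`.  Then `B'_b` is the localization of
`B''` at `b`. -/
theorem isLocalization_away_of_numerators (B'' : Subalgebra B B') (b : B') (hb : b ∈ B'')
    (L : Type u) [CommRing L] [Algebra B' L] [Algebra B L] [IsScalarTower B B' L]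
    [IsLocalization.Away b L] (G : Set L) (hG : Algebra.adjoin B G = ⊤)
    (hnum : ∀ z ∈ G, ∃ (n : ℕ) (a : B'), a ∈ B'' ∧ z * algebraMap B' L b ^ n = algebraMap B' L a) :
    letI : Algebra B'' L := ((algebraMap B' L).comp B''.val.toRingHom).toAlgebra
    IsLocalization.Away (⟨b, hb⟩ : B'') L := by
  letI : Algebra B'' L := ((algebraMap B' L).comp B''.val.toRingHom).toAlgebra
  have hmap : ∀ a : B'', algebraMap B'' L a = algebraMap B' L a.1 := fun a => rfl
  -- every element has a numerator in `B''`
  have hall : ∀ z : L, ∃ (n : ℕ) (a : B'), a ∈ B'' ∧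
      z * algebraMap B' L b ^ n = algebraMap B' L a := by
    intro z
    have hz : z ∈ Algebra.adjoin B G := by rw [hG]; exact Algebra.mem_top
    induction hz using Algebra.adjoin_induction with
    | mem z hz => exact hnum z hz
    | algebraMap r =>
      refine ⟨0, algebraMap B B' r, B''.algebraMap_mem r, ?_⟩
      rw [pow_zero, mul_one, ← IsScalarTower.algebraMap_apply]
    | add x y _ _ hx hy =>
      obtain ⟨n, a, ha, h1⟩ := hx
      obtain ⟨m, c, hc, h2⟩ := hy
      refine ⟨n + m, a * b ^ m + c * b ^ n, ?_, ?_⟩
      · exact B''.add_mem (B''.mul_mem ha (B''.pow_mem hb m)) (B''.mul_mem hc (B''.pow_mem hb n))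
      · rw [map_add, map_mul, map_mul, map_pow, map_pow, ← h1, ← h2, pow_add]
        ring
    | mul x y _ _ hx hy =>
      obtain ⟨n, a, ha, h1⟩ := hx
      obtain ⟨m, c, hc, h2⟩ := hy
      refine ⟨n + m, a * c, B''.mul_mem ha hc, ?_⟩
      rw [map_mul, ← h1, ← h2, pow_add]
      ring
  refine ⟨?_, ?_, ?_⟩
  · rintro ⟨_, n, rfl⟩
    rw [hmap]
    simp only [SubmonoidClass.coe_pow]
    rw [map_pow]
    exact (IsLocalization.Away.algebraMap_isUnit (S := L) b).pow n
  · intro z
    obtain ⟨n, a, ha, h⟩ := hall z
    refine ⟨⟨⟨a, ha⟩, ⟨⟨b, hb⟩ ^ n, n, rfl⟩⟩, ?_⟩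
    rw [hmap, hmap]
    simpa using h
  · intro a₁ a₂ h
    rw [hmap, hmap] at h
    obtain ⟨⟨_, n, rfl⟩, hn⟩ := IsLocalization.exists_of_eq (M := Submonoid.powers b) h
    refine ⟨⟨⟨b, hb⟩ ^ n, n, rfl⟩, ?_⟩
    apply Subtype.ext
    simpa using hn

end ring

section spec

/-- **Cutting an integral compactification down to a finite one.** -/
theorem exists_finite_factor_of_integral {B B' : CommRingCat.{u}} (φ : B ⟶ B')
    (hφ : φ.hom.IsIntegral) {X : Scheme.{u}} [CompactSpace X] (j : X ⟶ Spec B')
    [IsOpenImmersion j] [LocallyOfFiniteType (j ≫ Spec.map φ)] :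
    ∃ (B'' : CommRingCat.{u}) (φ₁ : B ⟶ B'') (φ₂ : B'' ⟶ B'), φ₁ ≫ φ₂ = φ ∧ φ₁.hom.Finite ∧
      IsOpenImmersion (j ≫ Spec.map φ₂) := by
  classical
  algebraize [φ.hom]
  have hrange : IsCompact (Set.range j) ∧ IsOpen (Set.range j) :=
    ⟨isCompact_range j.continuous, j.isOpenEmbedding.isOpen_range⟩
  obtain ⟨s, hs, hsU⟩ := (isCompact_open_iff_eq_finite_iUnion_of_isTopologicalBasis _
    PrimeSpectrum.isTopologicalBasis_basic_opens PrimeSpectrum.isCompact_basicOpen
    (Set.range j)).mp hrange
  -- the localization maps and the lifts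
  have hr : ∀ b ∈ s, Set.range (Spec.map (CommRingCat.ofHom
      (algebraMap B' (Localization.Away b)))) ⊆ Set.range j := by
    intro b hb x hx
    have : x ∈ (PrimeSpectrum.basicOpen b : Set (PrimeSpectrum B')) := by
      rw [← PrimeSpectrum.localization_away_comap_range (Localization.Away b) b]
      exact hx
    exact (Set.ext_iff.mp hsU x).mpr (Set.mem_biUnion hb this)
  have hft : ∀ b ∈ s, Algebra.FiniteType B (Localization.Away b) := by
    intro b hb
    have hk : IsOpenImmersion.lift j _ (hr b hb) ≫ j = Spec.map (CommRingCat.ofHom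
      (algebraMap B' (Localization.Away b))) := IsOpenImmersion.lift_fac _ _ _
    haveI : IsOpenImmersion (IsOpenImmersion.lift j _ (hr b hb) ≫ j) := by
      rw [hk]; infer_instance
    haveI : IsOpenImmersion (IsOpenImmersion.lift j _ (hr b hb)) :=
      IsOpenImmersion.of_comp _ j
    have h1 : LocallyOfFiniteType (Spec.map (φ ≫ CommRingCat.ofHom
        (algebraMap B' (Localization.Away b)))) := by
      rw [Spec.map_comp, ← hk, Category.assoc]
      infer_instance
    have h2 := (HasRingHomProperty.Spec_iff (P := @LocallyOfFiniteType)).mp h1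
    have e : algebraMap B (Localization.Away b) = (φ ≫ CommRingCat.ofHom
        (algebraMap B' (Localization.Away b))).hom := by
      ext r
      rw [IsScalarTower.algebraMap_apply B B' (Localization.Away b)]
      rfl
    rw [← RingHom.finiteType_algebraMap, e]
    exact h2
  -- generators and numerators
  choose G hG using fun b : s => (hft b.1 b.2).out
  choose n a hna using fun (b : s) (z : Localization.Away b.1) =>
    IsLocalization.Away.surj b.1 z
  let gens : Set B' := s ∪ ⋃ b : s, (fun z => a b z) '' (G b : Set (Localization.Away b.1))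
  haveI : Finite s := hs.to_subtype
  have hgens : gens.Finite :=
    hs.union (Set.finite_iUnion fun b => (G b).finite_toSet.image _)
  let B'' : Subalgebra B B' := Algebra.adjoin B gens
  haveI : Module.Finite B B'' :=
    Algebra.finite_adjoin_of_finite_of_isIntegral hgens
      (fun x _ => Algebra.IsIntegral.isIntegral x)
  have hsB : ∀ b : s, b.1 ∈ B'' := fun b => Algebra.subset_adjoin (Or.inl b.2)
  have hloc : ∀ b : s,
      letI : Algebra B'' (Localization.Away b.1) :=
        ((algebraMap B' (Localization.Away b.1)).comp B''.val.toRingHom).toAlgebra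
      IsLocalization.Away (⟨b.1, hsB b⟩ : B'') (Localization.Away b.1) := fun b =>
    isLocalization_away_of_numerators B'' b.1 (hsB b) (Localization.Away b.1) (G b) (hG b)
      (fun z hz => ⟨n b z, a b z,
        Algebra.subset_adjoin (Or.inr (Set.mem_iUnion.mpr ⟨b, z, hz, rfl⟩)), hna b z⟩)
  refine ⟨CommRingCat.of B'', CommRingCat.ofHom (algebraMap B B''),
    CommRingCat.ofHom B''.val.toRingHom, ?_, ?_, ?_⟩
  · ext r
    rfl
  · exact RingHom.finite_algebraMap.mpr inferInstance
  · -- the open immersions `Spec B'_b ⟶ Spec B''`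
    have hχ : ∀ b : s, IsOpenImmersion (Spec.map (CommRingCat.ofHom B''.val.toRingHom ≫
        CommRingCat.ofHom (algebraMap B' (Localization.Away b.1)))) := by
      intro b
      letI : Algebra B'' (Localization.Away b.1) :=
        ((algebraMap B' (Localization.Away b.1)).comp B''.val.toRingHom).toAlgebra
      haveI := hloc b
      exact IsOpenImmersion.of_isLocalization (R := B'') (S := Localization.Away b.1)
        (⟨b.1, hsB b⟩ : B'')
    have hχr : ∀ b : s, Set.range (Spec.map (CommRingCat.ofHom B''.val.toRingHom ≫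
        CommRingCat.ofHom (algebraMap B' (Localization.Away b.1)))) =
        (PrimeSpectrum.basicOpen (⟨b.1, hsB b⟩ : B'') : Set (PrimeSpectrum B'')) := by
      intro b
      letI : Algebra B'' (Localization.Away b.1) :=
        ((algebraMap B' (Localization.Away b.1)).comp B''.val.toRingHom).toAlgebra
      haveI := hloc b
      exact PrimeSpectrum.localization_away_comap_range (Localization.Away b.1)
        (⟨b.1, hsB b⟩ : B'')
    have hpre : ∀ (b : s) (y : Spec B'), Spec.map (CommRingCat.ofHom B''.val.toRingHom) y ∈
        (PrimeSpectrum.basicOpen (⟨b.1, hsB b⟩ : B'') : Set (PrimeSpectrum B'')) →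
        y ∈ (PrimeSpectrum.basicOpen b.1 : Set (PrimeSpectrum B')) := by
      intro b y hy
      exact hy
    have hlift : ∀ b : s, IsOpenImmersion.lift j _ (hr b.1 b.2) ≫ j =
        Spec.map (CommRingCat.ofHom (algebraMap B' (Localization.Away b.1))) :=
      fun b => IsOpenImmersion.lift_fac _ _ _
    have hmem : ∀ (b : s) (x : X), j x ∈ (PrimeSpectrum.basicOpen b.1 : Set (PrimeSpectrum B')) →
        ∃ z, IsOpenImmersion.lift j _ (hr b.1 b.2) z = x := by
      intro b x hx
      rw [← PrimeSpectrum.localization_away_comap_range (Localization.Away b.1) b.1] at hx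
      obtain ⟨z, hz⟩ := hx
      refine ⟨z, j.isOpenEmbedding.injective ?_⟩
      rw [← Scheme.Hom.comp_apply, hlift b]
      exact hz
    have hcomp : ∀ b : s, IsOpenImmersion.lift j _ (hr b.1 b.2) ≫
        (j ≫ Spec.map (CommRingCat.ofHom B''.val.toRingHom)) =
        Spec.map (CommRingCat.ofHom B''.val.toRingHom ≫
          CommRingCat.ofHom (algebraMap B' (Localization.Away b.1))) := by
      intro b
      rw [← Category.assoc, hlift b, ← Spec.map_comp]
    have hcover : ∀ x : X, ∃ b : s, j x ∈ (PrimeSpectrum.basicOpen b.1 : Set (PrimeSpectrum B')) := by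
      intro x
      have hx : j x ∈ Set.range j := ⟨x, rfl⟩
      have hx' := (Set.ext_iff.mp hsU (j x)).mp hx
      obtain ⟨b, hb, hxb⟩ := Set.mem_iUnion₂.mp hx'
      exact ⟨⟨b, hb⟩, hxb⟩
    refine IsOpenImmersion.of_forall_source_exists _ ?_ ?_
    · intro x x' hxx'
      obtain ⟨b, hxb⟩ := hcover x
      obtain ⟨z, rfl⟩ := hmem b x hxb
      have h1 : (j ≫ Spec.map (CommRingCat.ofHom B''.val.toRingHom)) x' ∈
          (PrimeSpectrum.basicOpen (⟨b.1, hsB b⟩ : B'') : Set (PrimeSpectrum B'')) := by
        rw [← hxx', ← hχr b, ← Scheme.Hom.comp_apply, hcomp b]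
        exact ⟨z, rfl⟩
      obtain ⟨z', rfl⟩ := hmem b x' (hpre b _ h1)
      rw [← Scheme.Hom.comp_apply, ← Scheme.Hom.comp_apply, hcomp b] at hxx'
      haveI := hχ b
      rw [(Scheme.Hom.isOpenEmbedding (Spec.map (CommRingCat.ofHom B''.val.toRingHom ≫
        CommRingCat.ofHom (algebraMap B' (Localization.Away b.1))))).injective hxx']
    · intro x
      obtain ⟨b, hxb⟩ := hcover x
      obtain ⟨z, rfl⟩ := hmem b x hxb
      haveI : IsOpenImmersion (IsOpenImmersion.lift j _ (hr b.1 b.2) ≫ j) := by
        rw [hlift b]; infer_instance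
      haveI : IsOpenImmersion (IsOpenImmersion.lift j _ (hr b.1 b.2)) :=
        IsOpenImmersion.of_comp _ j
      refine ⟨_, IsOpenImmersion.lift j _ (hr b.1 b.2), inferInstance, ⟨z, rfl⟩, ?_⟩
      rw [hcomp b]
      exact hχ b

end spec

/-- **Zariski's main theorem, finite form, affine target**: a separated, locally quasi-finite
morphism of finite type with affine target factors as an open immersion followed by a finite
morphism. -/
theorem exists_finite_factorization {X Y : Scheme.{u}} (f : X ⟶ Y) [IsAffine Y] [IsSeparated f]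
    [LocallyQuasiFinite f] [LocallyOfFiniteType f] [QuasiCompact f] :
    ∃ (T : Scheme.{u}) (j : X ⟶ T) (π : T ⟶ Y), j ≫ π = f ∧ IsOpenImmersion j ∧ IsFinite π := by
  haveI : IsAffine f.normalization := isAffine_of_isAffineHom f.fromNormalization
  haveI : CompactSpace X := QuasiCompact.compactSpace_of_compactSpace f
  have hφ : (f.fromNormalization.appTop).hom.IsIntegral := by
    have h1 : IsIntegralHom (Spec.map f.fromNormalization.appTop) := by
      have e : Spec.map f.fromNormalization.appTop =
          f.normalization.isoSpec.inv ≫ f.fromNormalization ≫ Y.isoSpec.hom := by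
        rw [← Scheme.isoSpec_hom_naturality, Iso.inv_hom_id_assoc]
      rw [e]
      infer_instance
    exact IsIntegralHom.SpecMap_iff.mp h1
  have hcomp : (f.toNormalization ≫ f.normalization.isoSpec.hom) ≫
      Spec.map f.fromNormalization.appTop = f ≫ Y.isoSpec.hom := by
    rw [Category.assoc, Scheme.isoSpec_hom_naturality, ← Category.assoc,
      f.toNormalization_fromNormalization]
  haveI : LocallyOfFiniteType ((f.toNormalization ≫ f.normalization.isoSpec.hom) ≫
      Spec.map f.fromNormalization.appTop) := by
    rw [hcomp]; infer_instance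
  obtain ⟨B'', φ₁, φ₂, h12, hfin, hopen⟩ := exists_finite_factor_of_integral
    f.fromNormalization.appTop hφ (f.toNormalization ≫ f.normalization.isoSpec.hom)
  refine ⟨Spec B'', (f.toNormalization ≫ f.normalization.isoSpec.hom) ≫ Spec.map φ₂,
    Spec.map φ₁ ≫ Y.isoSpec.inv, ?_, hopen, ?_⟩
  · rw [Category.assoc, ← Category.assoc (Spec.map φ₂), ← Spec.map_comp, h12,
      ← Category.assoc, hcomp, Category.assoc, Iso.hom_inv_id, Category.comp_id]
  · haveI : IsFinite (Spec.map φ₁) := (IsFinite.SpecMap_iff φ₁).mpr hfin
    infer_instance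

end Groth.Agent.Lib.R2H2.ZMTFinite
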