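import Mathlib
import Groth.Agent.Lib.H9QfNd1
import Groth.Agent.Lib.H9GenAss4
import Groth.Agent.Lib.R2H2ZMTFinite

/-! isNowhereDense_image_of_isFinite (finite morphism to an affine scheme maps closed nowhere dense sets to nowhere dense sets), interior_biUnion_eq_empty, isNowhereDense_image_inter_affine, isNowhereDense_image_of_locallyQuasiFinite (S0439: quasi-finite morphisms map closed nowhere dense subsets to nowhere dense subsets; via ZMT finite factorization on affine charts) (helper9). -/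

set_option autoImplicit false
universe u

namespace Groth.Agent.Lib.H9QfNd2

open AlgebraicGeometry CategoryTheory Limits TopologicalSpace
open Groth.Agent.Lib.H9GenPt2 Groth.Agent.Lib.H9GenAss4 Groth.Agent.Lib.H9QfNd1
open Groth.Agent.Lib.H9FibNumericsSch Groth.Agent.Lib.Helper4.DimFormula

/-- **finite case**: a finite morphism to an affine scheme maps closed nowhere dense subsets to
nowhere dense subsets. -/
theorem isNowhereDense_image_of_isFinite {T' S : Scheme.{u}} (π : T' ⟶ S) [IsFinite π]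
    [IsAffine S] (Z : Set T') (hZ : IsClosed Z) (hZ' : IsNowhereDense Z) :
    IsNowhereDense (π '' Z) := by
  haveI : IsAffine T' := isAffine_of_isAffineHom π
  have hcl : IsClosed (π '' Z) := π.isClosedMap _ hZ
  rw [hcl.isNowhereDense_iff]
  rw [hZ.isNowhereDense_iff] at hZ'
  by_contra hne
  obtain ⟨s₀, hs₀⟩ := Set.nonempty_iff_ne_empty.mpr hne
  have hU : IsAffineOpen (⊤ : S.Opens) := isAffineOpen_top S
  have hV : IsAffineOpen (π ⁻¹ᵁ (⊤ : S.Opens)) := isAffineOpen_top T'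
  have hUV : π ⁻¹ᵁ (⊤ : S.Opens) ≤ π ⁻¹ᵁ (⊤ : S.Opens) := le_rfl
  have hfin : (π.appLE ⊤ (π ⁻¹ᵁ ⊤) hUV).hom.Finite := by
    rw [Scheme.Hom.appLE_eq_app]
    exact π.finite_appTop
  letI aVU : Algebra Γ(S, ⊤) Γ(T', π ⁻¹ᵁ ⊤) := (π.appLE ⊤ (π ⁻¹ᵁ ⊤) hUV).hom.toAlgebra
  haveI : Module.Finite Γ(S, ⊤) Γ(T', π ⁻¹ᵁ ⊤) := hfin
  have hcomap : ∀ (x' : T') (hx' : x' ∈ π ⁻¹ᵁ (⊤ : S.Opens)),
      (hV.primeIdealOf ⟨x', hx'⟩).asIdeal.under Γ(S, ⊤) =
        (hU.primeIdealOf ⟨π x', hUV hx'⟩).asIdeal :=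
    fun x' hx' => primeIdealOf_comap_appLE π hV hU hUV x' hx'
  set Zc : T'.Opens := ⟨Zᶜ, hZ.isOpen_compl⟩ with hZc
  obtain ⟨a, haW, hs₀a⟩ := hU.exists_basicOpen_le
    (V := ⟨interior (π '' Z), isOpen_interior⟩) ⟨s₀, hs₀⟩ (Set.mem_univ s₀)
  refine false_of_finite (A := Γ(S, ⊤)) (B := Γ(T', π ⁻¹ᵁ ⊤)) (complIdeal Zc (π ⁻¹ᵁ ⊤)) a ?_ ?_ ?_
  · -- H1
    intro g hg
    obtain ⟨q, hq, hgq⟩ : ∃ q : Ideal Γ(T', π ⁻¹ᵁ ⊤), q.IsPrime ∧ g ∉ q := by
      by_contra hcon
      push Not at hcon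
      exact hg (nilpotent_iff_mem_prime.mpr hcon)
    obtain ⟨⟨y, hyV⟩, hy⟩ := exists_primeIdealOf_eq hV ⟨q, hq⟩
    have hyg : y ∈ T'.basicOpen g := by
      apply (Groth.Agent.Lib.H9Slice.notMem_primeIdealOf_iff hV y hyV g).mp
      rw [hy]; exact hgq
    -- the basic open is not contained in `Z`
    have hnot : ¬ ((T'.basicOpen g : Set T') ⊆ Z) := by
      intro hsub
      have : y ∈ interior Z := mem_interior.mpr ⟨_, hsub, (T'.basicOpen g).isOpen, hyg⟩
      rw [hZ'] at this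
      exact this
    obtain ⟨y', hy'g, hy'Z⟩ := Set.not_subset.mp hnot
    have hy'V : y' ∈ π ⁻¹ᵁ (⊤ : S.Opens) := Set.mem_univ _
    refine ⟨(hV.primeIdealOf ⟨y', hy'V⟩).asIdeal, (hV.primeIdealOf ⟨y', hy'V⟩).isPrime,
      (Groth.Agent.Lib.H9Slice.notMem_primeIdealOf_iff hV y' hy'V g).mpr hy'g, ?_⟩
    rw [complIdeal_le_iff hV Zc y' hy'V]
    exact fun h => h hy'Z
  · -- H2
    intro p hp hap
    obtain ⟨⟨s, hsU⟩, hs⟩ := exists_primeIdealOf_eq hU ⟨p, hp⟩
    have hsa : s ∈ S.basicOpen a := by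
      apply (Groth.Agent.Lib.H9Slice.notMem_primeIdealOf_iff hU s hsU a).mp
      rw [hs]; exact hap
    obtain ⟨z, hzZ, rfl⟩ := interior_subset (haW hsa)
    have hzV : z ∈ π ⁻¹ᵁ (⊤ : S.Opens) := Set.mem_univ _
    refine ⟨(hV.primeIdealOf ⟨z, hzV⟩).asIdeal, (hV.primeIdealOf ⟨z, hzV⟩).isPrime, ?_, ?_⟩
    · rw [complIdeal_le_iff hV Zc z hzV]
      exact fun h => h hzZ
    · rw [hcomap z hzV]
      have : hU.primeIdealOf ⟨π z, hUV hzV⟩ = hU.primeIdealOf ⟨π z, hsU⟩ := rfl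
      rw [this, hs]
  · -- H3
    intro hnil
    have : a ∈ (hU.primeIdealOf ⟨s₀, Set.mem_univ s₀⟩).asIdeal :=
      (nilpotent_iff_mem_prime.mp hnil) _ (hU.primeIdealOf ⟨s₀, Set.mem_univ s₀⟩).isPrime
    exact (Groth.Agent.Lib.H9Slice.notMem_primeIdealOf_iff hU s₀ (Set.mem_univ s₀) a).mpr hs₀a this

/-- a finite union of closed sets with empty interior has empty interior. -/
theorem interior_biUnion_eq_empty {X ι : Type*} [TopologicalSpace X] {s : Set ι} (hs : s.Finite)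
    (F : ι → Set X) (hF : ∀ i, IsClosed (F i)) (hF' : ∀ i ∈ s, interior (F i) = ∅) :
    interior (⋃ i ∈ s, F i) = ∅ := by
  induction s, hs using Set.Finite.induction_on with
  | empty => simp
  | @insert a t _ ht ih =>
    rw [Set.biUnion_insert, Set.union_comm,
      interior_union_isClosed_of_interior_empty (ht.isClosed_biUnion fun i _ => hF i)
        (hF' a (Set.mem_insert a t))]
    exact ih fun i hi => hF' i (Set.mem_insert_of_mem a hi)

/-- chart step: the image of the trace of `T` on an affine chart is nowhere dense. -/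
theorem isNowhereDense_image_inter_affine {Y X : Scheme.{u}} (f : Y ⟶ X) [LocallyQuasiFinite f]
    [LocallyOfFiniteType f] (T : Set Y) (hT : IsClosed T) (hT' : IsNowhereDense T)
    {U : X.Opens} (hU : IsAffineOpen U) {V : Y.Opens} (hV : IsAffineOpen V)
    (e : V ≤ f ⁻¹ᵁ U) : IsNowhereDense (f '' (T ∩ (V : Set Y))) := by
  haveI : IsAffine (U : Scheme.{u}) := hU
  haveI : IsAffine (V : Scheme.{u}) := hV
  obtain ⟨T', j, π, hjπ, hj, hπ⟩ :=
    Groth.Agent.Lib.R2H2.ZMTFinite.exists_finite_factorization (f.resLE U V e)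
  haveI := hj
  haveI := hπ
  set T₀ := V.ι ⁻¹' T with hT₀def
  have hT₀c : IsClosed T₀ := hT.preimage V.ι.continuous
  have hT₀ : IsNowhereDense T₀ := by
    rw [hT₀c.isNowhereDense_iff]
    rw [hT.isNowhereDense_iff] at hT'
    have := V.ι.isOpenEmbedding.isOpenMap.preimage_interior_eq_interior_preimage
      V.ι.continuous T
    rw [hT₀def, ← this, hT', Set.preimage_empty]
  have hT₁ : IsNowhereDense (closure (j '' T₀)) :=
    (j.isOpenEmbedding.isInducing.isNowhereDense_image hT₀).closure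
  have h1 := isNowhereDense_image_of_isFinite π _ isClosed_closure hT₁
  have h2 : IsNowhereDense (U.ι '' (π '' closure (j '' T₀))) :=
    U.ι.isOpenEmbedding.isInducing.isNowhereDense_image h1
  refine h2.mono ?_
  rintro _ ⟨t, ⟨htT, htV⟩, rfl⟩
  refine ⟨π (j ⟨t, htV⟩), ⟨j ⟨t, htV⟩, subset_closure ⟨⟨t, htV⟩, htT, rfl⟩, rfl⟩, ?_⟩
  have h3 : (j ≫ π) ≫ U.ι = V.ι ≫ f := by
    rw [hjπ]
    exact f.resLE_comp_ι e
  have h4 := congrArg (fun h : (V : Scheme.{u}) ⟶ X => h ⟨t, htV⟩) h3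
  simp only [Scheme.Hom.comp_apply] at h4
  exact h4

/-- **S0439**: a quasi-finite morphism maps closed nowhere dense subsets to nowhere dense
subsets. -/
theorem isNowhereDense_image_of_locallyQuasiFinite {Y X : Scheme.{u}} (f : Y ⟶ X)
    [LocallyQuasiFinite f] [LocallyOfFiniteType f] [QuasiCompact f]
    (T : Set Y) (hT : IsClosed T) (hT' : IsNowhereDense T) : IsNowhereDense (f '' T) := by
  rw [IsNowhereDense]
  by_contra hne
  obtain ⟨x₀, hx₀⟩ := Set.nonempty_iff_ne_empty.mpr hne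
  obtain ⟨_, ⟨U, hU, rfl⟩, hx₀U, -⟩ :=
    X.isBasis_affineOpens.exists_subset_of_mem_open (Set.mem_univ x₀) isOpen_univ
  have hc : IsCompact (f ⁻¹' (U : Set X)) :=
    QuasiCompact.isCompact_preimage (f := f) _ U.isOpen hU.isCompact
  obtain ⟨s, hs, hsU⟩ := isCompact_and_isOpen_iff_finite_and_eq_biUnion_affineOpens.mp
    ⟨hc, U.isOpen.preimage f.continuous⟩
  have hle : ∀ i ∈ s, (i : Y.Opens) ≤ f ⁻¹ᵁ U := by
    intro i hi x hx
    have : x ∈ ⋃ i ∈ s, ((i : Y.Opens) : Set Y) := Set.mem_biUnion hi hx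
    rw [← hsU] at this
    exact this
  set C : Set X := ⋃ i ∈ s, closure (f '' (T ∩ ((i : Y.Opens) : Set Y))) with hC
  have hCint : interior C = ∅ :=
    interior_biUnion_eq_empty hs _ (fun _ => isClosed_closure) fun i hi =>
      isNowhereDense_image_inter_affine f T hT hT' hU i.2 (hle i hi)
  have hsub : (U : Set X) ∩ interior (closure (f '' T)) ⊆ C := by
    rintro x ⟨hxU, hx⟩
    have hx' : x ∈ closure (f '' T) := interior_subset hx
    -- `x` is in the closure of `f '' (T ∩ f⁻¹ U)`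
    have h1 : x ∈ closure (⋃ i ∈ s, f '' (T ∩ ((i : Y.Opens) : Set Y))) := by
      rw [mem_closure_iff]
      intro O hO hxO
      obtain ⟨_, ⟨hyO, hyU⟩, t, htT, rfl⟩ :=
        mem_closure_iff.mp hx' (O ∩ U) (hO.inter U.isOpen) ⟨hxO, hxU⟩
      have ht : t ∈ f ⁻¹' (U : Set X) := hyU
      rw [hsU] at ht
      obtain ⟨i, hi, hti⟩ := Set.mem_iUnion₂.mp ht
      exact ⟨f t, hyO, Set.mem_biUnion hi ⟨t, ⟨htT, hti⟩, rfl⟩⟩
    rw [hs.closure_biUnion] at h1
    exact h1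
  have : x₀ ∈ interior C := mem_interior.mpr
    ⟨_, hsub, U.isOpen.inter isOpen_interior, ⟨hx₀U, hx₀⟩⟩
  rw [hCint] at this
  exact this

end Groth.Agent.Lib.H9QfNd2
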