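import Mathlib
import Groth.Agent.Lib.H9QfFin1
import Groth.Agent.Lib.H9QfNd2
import Groth.Agent.Lib.R2H2ZMTFinite

/-! isNowhereDense_frontier_of_isOpen, exists_closed_nowhereDense_forall_isFinite (separated quasi-finite to affine: finite away from a closed nowhere dense set, via ZMT), exists_dense_isFinite_of_isAffine (quasi-finite to affine, no separatedness: finite over a dense open) (helper9). -/

set_option autoImplicit false
universe u

namespace Groth.Agent.Lib.H9QfFin2

open AlgebraicGeometry CategoryTheory Limits TopologicalSpace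
open Groth.Agent.Lib.H9QfFin1 Groth.Agent.Lib.H9QfNd2

theorem isNowhereDense_frontier_of_isOpen {X : Type*} [TopologicalSpace X] {s : Set X}
    (hs : IsOpen s) : IsNowhereDense (frontier s) := by
  rw [isClosed_frontier.isNowhereDense_iff, ← frontier_compl]
  exact interior_frontier hs.isClosed_compl

/-- Separated quasi-finite morphism to an affine scheme: finite away from a closed nowhere dense
subset of the target. -/
theorem exists_closed_nowhereDense_forall_isFinite {V X : Scheme.{u}} (f : V ⟶ X) [IsAffine X]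
    [IsSeparated f] [LocallyQuasiFinite f] [LocallyOfFiniteType f] [QuasiCompact f] :
    ∃ N : Set X, IsClosed N ∧ IsNowhereDense N ∧
      ∀ W : X.Opens, Disjoint (W : Set X) N → IsFinite (f ∣_ W) := by
  obtain ⟨T, j, π, hjπ, hj, hπ⟩ :=
    Groth.Agent.Lib.R2H2.ZMTFinite.exists_finite_factorization f
  haveI := hj
  haveI := hπ
  have hopen : IsOpen (Set.range j) := j.isOpenEmbedding.isOpen_range
  have hBc : IsClosed (frontier (Set.range j)) := isClosed_frontier
  have hBn : IsNowhereDense (frontier (Set.range j)) := isNowhereDense_frontier_of_isOpen hopen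
  refine ⟨π '' frontier (Set.range j), π.isClosedMap _ hBc,
    isNowhereDense_image_of_isFinite π _ hBc hBn, ?_⟩
  intro W hW
  subst hjπ
  rw [morphismRestrict_comp]
  have h1 : IsFinite (j ∣_ π ⁻¹ᵁ W) := by
    apply isFinite_of_isOpenImmersion_of_isClosed_range
    rw [range_morphismRestrict]
    have : (π ⁻¹ᵁ W).ι ⁻¹' (Set.range j) = (π ⁻¹ᵁ W).ι ⁻¹' (closure (Set.range j)) := by
      ext z
      refine ⟨fun hz => subset_closure hz, fun hz => ?_⟩
      by_contra hz'
      have hzB : (π ⁻¹ᵁ W).ι z ∈ frontier (Set.range j) := by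
        rw [hopen.frontier_eq]
        exact ⟨hz, hz'⟩
      exact Set.disjoint_left.mp hW z.2 ⟨_, hzB, rfl⟩
    rw [this]
    exact isClosed_closure.preimage (π ⁻¹ᵁ W).ι.continuous
  have h2 : IsFinite (π ∣_ W) := inferInstance
  exact MorphismProperty.comp_mem _ _ _ h1 h2

/-- Quasi-finite morphisms to an affine scheme are finite over a dense open. -/
theorem exists_dense_isFinite_of_isAffine {Y X : Scheme.{u}} (f : Y ⟶ X) [IsAffine X]
    [LocallyQuasiFinite f] [LocallyOfFiniteType f] [QuasiCompact f] :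
    ∃ W : X.Opens, Dense (W : Set X) ∧ IsFinite (f ∣_ W) := by
  haveI : CompactSpace Y := QuasiCompact.compactSpace_of_compactSpace f
  let 𝒰 := Y.affineCover.finiteSubcover
  -- the pieces are separated quasi-finite over `X`
  have key : ∀ i : 𝒰.I₀, ∃ N : Set X, IsClosed N ∧ IsNowhereDense N ∧
      ∀ W : X.Opens, Disjoint (W : Set X) N → IsFinite ((𝒰.f i ≫ f) ∣_ W) := by
    intro i
    haveI : QuasiCompact (𝒰.f i ≫ f) := quasiCompact_of_compactSpace _
    exact exists_closed_nowhereDense_forall_isFinite (𝒰.f i ≫ f)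
  choose N hNc hNn hN using key
  -- frontier part
  let M : 𝒰.I₀ → Set X := fun i => closure (f '' frontier (Set.range (𝒰.f i)))
  have hMc : ∀ i, IsClosed (M i) := fun i => isClosed_closure
  have hMn : ∀ i, IsNowhereDense (M i) := fun i =>
    (isNowhereDense_image_of_locallyQuasiFinite f _ isClosed_frontier
      (isNowhereDense_frontier_of_isOpen (𝒰.f i).isOpenEmbedding.isOpen_range)).closure
  let C : Set X := (⋃ i, N i) ∪ (⋃ i, M i)
  have hCc : IsClosed C := (isClosed_iUnion_of_finite hNc).union (isClosed_iUnion_of_finite hMc)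
  have hCn : interior C = ∅ := by
    have h1 : interior (⋃ i, N i) = ∅ := by
      have := interior_biUnion_eq_empty (Set.finite_univ (α := 𝒰.I₀)) N hNc
        (fun i _ => (hNc i).isNowhereDense_iff.mp (hNn i))
      simpa using this
    have h2 : interior (⋃ i, M i) = ∅ := by
      have := interior_biUnion_eq_empty (Set.finite_univ (α := 𝒰.I₀)) M hMc
        (fun i _ => (hMc i).isNowhereDense_iff.mp (hMn i))
      simpa using this
    show interior ((⋃ i, N i) ∪ (⋃ i, M i)) = ∅
    rw [interior_union_isClosed_of_interior_empty (isClosed_iUnion_of_finite hNc) h2, h1]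
  let W : X.Opens := ⟨Cᶜ, hCc.isOpen_compl⟩
  refine ⟨W, interior_eq_empty_iff_dense_compl.mp hCn, ?_⟩
  refine isFinite_of_clopen_cover (f ∣_ W) (fun i => ((𝒰.f i) ⁻¹ᵁ (f ⁻¹ᵁ W) : (𝒰.X i).Opens))
    (fun i => (𝒰.f i) ∣_ (f ⁻¹ᵁ W)) ?_ ?_ ?_
  · intro i
    rw [range_morphismRestrict]
    have hopen : IsOpen (Set.range (𝒰.f i)) := (𝒰.f i).isOpenEmbedding.isOpen_range
    have : (f ⁻¹ᵁ W).ι ⁻¹' (Set.range (𝒰.f i)) =
        (f ⁻¹ᵁ W).ι ⁻¹' (closure (Set.range (𝒰.f i))) := by
      ext z
      refine ⟨fun hz => subset_closure hz, fun hz => ?_⟩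
      by_contra hz'
      have hzB : (f ⁻¹ᵁ W).ι z ∈ frontier (Set.range (𝒰.f i)) := by
        rw [hopen.frontier_eq]
        exact ⟨hz, hz'⟩
      have hzW : f ((f ⁻¹ᵁ W).ι z) ∈ W := z.2
      exact hzW (Or.inr (Set.mem_iUnion.mpr ⟨i, subset_closure ⟨_, hzB, rfl⟩⟩))
    rw [this]
    exact isClosed_closure.preimage (f ⁻¹ᵁ W).ι.continuous
  · intro z
    obtain ⟨i, hi⟩ : ∃ i, z.1 ∈ Set.range (𝒰.f i) := ⟨𝒰.idx z.1, 𝒰.covers z.1⟩
    refine ⟨i, ?_⟩
    rw [range_morphismRestrict]
    exact hi
  · intro i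
    rw [← morphismRestrict_comp]
    apply hN i
    rw [Set.disjoint_left]
    intro x hxW hxN
    exact hxW (Or.inl (Set.mem_iUnion.mpr ⟨i, hxN⟩))

end Groth.Agent.Lib.H9QfFin2
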