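import Mathlib
import Groth.Agent.Lib.H9QfFin2

/-! exists_nonempty_le_isFinite, exists_dense_isFinite (S0409: a quasi-finite morphism is finite over a dense open of the target; largest open over which f is finite) (helper9). -/

set_option autoImplicit false
universe u

namespace Groth.Agent.Lib.H9QfFin3

open AlgebraicGeometry CategoryTheory Limits TopologicalSpace
open Groth.Agent.Lib.H9QfFin1 Groth.Agent.Lib.H9QfFin2

theorem exists_nonempty_le_isFinite {Y X : Scheme.{u}} (f : Y ⟶ X) [LocallyQuasiFinite f]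
    [LocallyOfFiniteType f] [QuasiCompact f] (O : X.Opens) (x : X) (hx : x ∈ O) :
    ∃ W : X.Opens, W ≤ O ∧ (W : Set X).Nonempty ∧ IsFinite (f ∣_ W) := by
  obtain ⟨_, ⟨X₁, hX₀, rfl⟩, hxX₀, hle⟩ :=
    X.isBasis_affineOpens.exists_subset_of_mem_open hx O.isOpen
  let X₀ : X.Opens := X₁
  haveI : IsAffine (X₀ : Scheme.{u}) := hX₀
  obtain ⟨W', hW'd, hW'f⟩ := exists_dense_isFinite_of_isAffine (f ∣_ X₀)
  haveI : Nonempty (X₀ : Scheme.{u}) := ⟨⟨x, hxX₀⟩⟩
  obtain ⟨w, hw⟩ := hW'd.nonempty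
  refine ⟨X₀.ι ''ᵁ W', ?_, ⟨X₀.ι w, ⟨w, hw, rfl⟩⟩, ?_⟩
  · rintro _ ⟨z, -, rfl⟩
    exact hle z.2
  · exact (MorphismProperty.arrow_mk_iso_iff @IsFinite (morphismRestrictRestrict f X₀ W')).mp hW'f

/-- **S0409**: a quasi-finite morphism is finite over a dense open subset of the target. -/
theorem exists_dense_isFinite {Y X : Scheme.{u}} (f : Y ⟶ X) [LocallyQuasiFinite f]
    [LocallyOfFiniteType f] [QuasiCompact f] :
    ∃ U : X.Opens, Dense (U : Set X) ∧ IsFinite (f ∣_ U) := by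
  let S : Set X.Opens := {W | IsFinite (f ∣_ W)}
  let U₀ : X.Opens := ⨆ W : S, (W : X.Opens)
  have hle : ∀ W : S, (W : X.Opens) ≤ U₀ := fun W => le_iSup (fun W : S => (W : X.Opens)) W
  refine ⟨U₀, ?_, ?_⟩
  · rw [dense_iff_inter_open]
    rintro O hO ⟨x, hx⟩
    obtain ⟨W, hWO, ⟨w, hw⟩, hWf⟩ := exists_nonempty_le_isFinite f ⟨O, hO⟩ x hx
    exact ⟨w, hWO hw, hle ⟨W, hWf⟩ hw⟩
  · refine IsZariskiLocalAtTarget.of_iSup_eq_top (P := @IsFinite)
      (fun W : S => U₀.ι ⁻¹ᵁ (W : X.Opens)) ?_ ?_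
    · apply TopologicalSpace.Opens.ext
      ext z
      simp only [Opens.coe_iSup, Set.mem_iUnion, Opens.coe_top, Set.mem_univ, iff_true]
      have hz : z.1 ∈ U₀ := z.2
      obtain ⟨W, hW⟩ := TopologicalSpace.Opens.mem_iSup.mp hz
      exact ⟨W, hW⟩
    · intro W
      have e : U₀.ι ''ᵁ (U₀.ι ⁻¹ᵁ (W : X.Opens)) = (W : X.Opens) := by
        rw [Scheme.Hom.image_preimage_eq_opensRange_inf, Scheme.Opens.opensRange_ι]
        exact inf_eq_right.mpr (hle W)
      rw [MorphismProperty.arrow_mk_iso_iff @IsFinite (morphismRestrictRestrict f U₀ _),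
        MorphismProperty.arrow_mk_iso_iff @IsFinite (morphismRestrictEq f e)]
      exact W.2

end Groth.Agent.Lib.H9QfFin3
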