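import Mathlib.AlgebraicGeometry.Scheme
import Mathlib.Topology.Maps.Basic
import Mathlib.AlgebraicGeometry.Morphisms.UnderlyingMap

/-!
# Descending scheme morphisms along a surjective quotient map with `O_V ≅ h_* O_U` (helper9)

* `H9Quot.epi_part`: such an `h` is an epimorphism.
* `H9Quot.desc`, `H9Quot.comp_desc`: a morphism `u : U ⟶ W` constant on the fibres of `h`
  descends to `V ⟶ W`.
-/

set_option autoImplicit false
universe u
open CategoryTheory CategoryTheory.Limits AlgebraicGeometry TopologicalSpace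

namespace H9Quot

section Epi


variable {U V : Scheme.{u}} (h : U ⟶ V)

instance isIso_app [IsIso h.c] (O : V.Opens) : IsIso (h.app O) :=
  inferInstanceAs (IsIso (h.c.app (Opposite.op O)))

theorem epi_part [Surjective h] [IsIso h.c] (W : Scheme.{u}) (v₁ v₂ : V ⟶ W)
    (e : h ≫ v₁ = h ≫ v₂) : v₁ = v₂ := by
  have hb : v₁.base = v₂.base := by
    ext x
    obtain ⟨y, rfl⟩ := h.surjective x
    have := congr(($e).base y)
    simpa using this
  refine Scheme.Hom.ext hb ?_
  intro O
  have hO : v₂ ⁻¹ᵁ O = v₁ ⁻¹ᵁ O := by rw [hb]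
  have h1 : v₁.app O ≫ h.app (v₁ ⁻¹ᵁ O) =
      v₂.app O ≫ h.app (v₂ ⁻¹ᵁ O) ≫ U.presheaf.map (eqToHom (by rw [hO])).op := by
    have h1 := Scheme.Hom.congr_app e O
    rw [Scheme.Hom.comp_app, Scheme.Hom.comp_app] at h1
    exact h1.trans (Category.assoc _ _ _)
  rw [← cancel_mono (h.app (v₂ ⁻¹ᵁ O))]
  rw [Category.assoc, Scheme.Hom.naturality, reassoc_of% h1, ← Functor.map_comp]
  have : ∀ (i : Opposite.op (h ⁻¹ᵁ v₂ ⁻¹ᵁ O) ⟶ Opposite.op (h ⁻¹ᵁ v₂ ⁻¹ᵁ O)),
      U.presheaf.map i = 𝟙 _ := by
    intro i
    rw [Subsingleton.elim i (𝟙 _), U.presheaf.map_id]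
  rw [this, Category.comp_id]


end Epi

section Desc


variable {U V W : Scheme.{u}} (h : U ⟶ V)


section
variable (hq : Topology.IsQuotientMap h.base) (u : U ⟶ W)
  (hu : ∀ x y : U, h.base x = h.base y → u.base x = u.base y)

/-- the descended continuous map. -/
noncomputable def descBase : V.carrier ⟶ W.carrier :=
  TopCat.ofHom (Topology.IsQuotientMap.lift (f := h.base.hom) hq u.base.hom (fun x y e => hu x y e))

include hq hu in
lemma descBase_comp : h.base ≫ descBase h hq u hu = u.base := by
  ext x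
  have := Topology.IsQuotientMap.lift_comp (f := h.base.hom) hq u.base.hom (fun x y e => hu x y e)
  exact congr($this x)

lemma descBase_apply (x : U) : descBase h hq u hu (h.base x) = u.base x :=
  congr($(descBase_comp h hq u hu) x)

lemma preimage_eq (O : W.Opens) :
    u ⁻¹ᵁ O = h ⁻¹ᵁ ((Opens.map (descBase h hq u hu)).obj O) := by
  ext x
  change u.base x ∈ O ↔ descBase h hq u hu (h.base x) ∈ O
  rw [descBase_apply]

variable [IsIso h.c]

/-- the descended map on sections. -/
noncomputable def descApp (O : W.Opens) :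
    Γ(W, O) ⟶ Γ(V, (Opens.map (descBase h hq u hu)).obj O) :=
  u.app O ≫ U.presheaf.map (eqToHom (preimage_eq h hq u hu O).symm).op ≫
    inv (h.app ((Opens.map (descBase h hq u hu)).obj O))

lemma descApp_comp (O : W.Opens) :
    descApp h hq u hu O ≫ h.app ((Opens.map (descBase h hq u hu)).obj O) =
      u.app O ≫ U.presheaf.map (eqToHom (preimage_eq h hq u hu O).symm).op := by
  simp [descApp]

/-- the descended morphism of presheafed spaces. -/
noncomputable def descPsh : V.toPresheafedSpace ⟶ W.toPresheafedSpace where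
  base := descBase h hq u hu
  c :=
    { app := fun O => descApp h hq u hu O.unop
      naturality := by
        intro O O' i
        rw [← cancel_mono (h.app ((Opens.map (descBase h hq u hu)).obj O'.unop))]
        rw [Category.assoc, Category.assoc, descApp_comp]
        change _ = _ ≫ V.presheaf.map ((Opens.map (descBase h hq u hu)).map i.unop).op ≫ _
        rw [Scheme.Hom.naturality, reassoc_of% descApp_comp, Scheme.Hom.naturality_assoc,
          ← Functor.map_comp, ← Functor.map_comp]
        rfl }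

end


end Desc

section Desc2


variable {U V W : Scheme.{u}} (h : U ⟶ V)
variable (hq : Topology.IsQuotientMap h.base) (u : U ⟶ W)
  (hu : ∀ x y : U, h.base x = h.base y → u.base x = u.base y) [IsIso h.c]

lemma descPsh_isLocal [Surjective h] (x : V) :
    IsLocalHom ((descPsh h hq u hu).stalkMap x).hom := by
  constructor
  intro a ha
  obtain ⟨O, hxO, s, rfl⟩ := TopCat.Presheaf.exists_germ_eq W.presheaf a
  have key : ((descPsh h hq u hu).stalkMap x).hom (W.presheaf.germ O _ hxO s) =
      V.presheaf.germ ((Opens.map (descBase h hq u hu)).obj O) x hxO (descApp h hq u hu O s) :=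
    congr($(PresheafedSpace.stalkMap_germ (descPsh h hq u hu) O x hxO) s)
  rw [key] at ha
  have ha' : x ∈ V.basicOpen (descApp h hq u hu O s) :=
    (Scheme.mem_basicOpen V (descApp h hq u hu O s) x hxO).mpr ha
  suffices hg : descBase h hq u hu x ∈ W.basicOpen s from
    (Scheme.mem_basicOpen W s _ hxO).mp hg
  obtain ⟨y, rfl⟩ := h.surjective x
  have h2 : y ∈ U.basicOpen (h.app _ (descApp h hq u hu O s)) := by
    rw [← Scheme.preimage_basicOpen]; exact ha'
  have h3 : h.app _ (descApp h hq u hu O s) =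
      U.presheaf.map (eqToHom (preimage_eq h hq u hu O).symm).op (u.app O s) :=
    congr($(descApp_comp h hq u hu O) s)
  rw [h3, Scheme.basicOpen_res] at h2
  have h4 : y ∈ u ⁻¹ᵁ W.basicOpen s := by rw [Scheme.preimage_basicOpen]; exact h2.2
  rw [descBase_apply]
  exact h4

/-- the descended morphism of schemes. -/
noncomputable def desc [Surjective h] : V ⟶ W :=
  ⟨⟨descPsh h hq u hu, descPsh_isLocal h hq u hu⟩⟩

lemma comp_desc [Surjective h] : h ≫ desc h hq u hu = u := by
  refine Scheme.Hom.ext (descBase_comp h hq u hu) ?_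
  intro O
  rw [Scheme.Hom.comp_app]
  have e1 : (desc h hq u hu).app O = descApp h hq u hu O := rfl
  rw [e1]
  have e2 := descApp_comp h hq u hu O
  have e3 : ∀ (i : Opposite.op (u ⁻¹ᵁ O) ⟶ Opposite.op (u ⁻¹ᵁ O)),
      U.presheaf.map i = 𝟙 _ := by
    intro i
    rw [Subsingleton.elim i (𝟙 _), U.presheaf.map_id]
  refine (congr($e2 ≫ U.presheaf.map (eqToHom (preimage_eq h hq u hu O)).op)).trans ?_
  rw [Category.assoc, ← Functor.map_comp, e3, Category.comp_id]


end Desc2

end H9Quot
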