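import Mathlib
import Groth.Agent.Lib.H9LscA
import Groth.Agent.Lib.H9LscC
import Groth.Agent.Lib.H9RadB

/-! helper9: `geometricallyConnected_comp` (geom. connected followed by universally injective surjective), `r`, `isPullback_r`, `surjective_r` (`X ×_Y Y' → Y' ×_Y Y'`), `snd_genericPoint_of_component`, `eq_diagonal_of_snd_eq`, `universallyInjective_fromNormalization`, `geometricallyConnected`, `main` (= S5735, EGA III 4.3.7-type: geometrically connected fibres for proper universally-open-ish `f` with purely inseparable algebraic closure of `R(Y)` in `R(X)`). -/

set_option autoImplicit false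
universe u

namespace Groth.Agent.Lib.H9RadC

open CategoryTheory CategoryTheory.Limits AlgebraicGeometry TopologicalSpace Opposite
open Groth.Agent.Lib.H9SteinFib Groth.Agent.Lib.H9RadA Groth.Agent.Lib.H9RadB

/-- composition of a geometrically connected morphism with a universally injective surjective
morphism is geometrically connected. -/
theorem geometricallyConnected_comp {X Y' Y : Scheme.{u}} (p : X ⟶ Y') (q : Y' ⟶ Y)
    [GeometricallyConnected p] [UniversallyInjective q] [Surjective q] :
    GeometricallyConnected (p ≫ q) := by
  refine ⟨geometrically_iff_of_isClosedUnderIsomorphisms.mpr fun K _ x ↦ ?_⟩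
  rw [← (pullbackRightPullbackFstIso q x p).hom.homeomorph.connectedSpace_iff]
  haveI : UniversallyInjective (pullback.snd q x) :=
    MorphismProperty.pullback_snd (P := @UniversallyInjective) _ _ inferInstance
  haveI : Subsingleton ↥(pullback q x) := (pullback.snd q x).injective.subsingleton
  haveI : Nonempty ↥(pullback q x) := by
    obtain ⟨z, -⟩ := (pullback.snd q x).surjective (IsLocalRing.closedPoint K)
    exact ⟨z⟩
  exact GeometricallyConnected.connectedSpace_of_subsingleton (pullback.snd p (pullback.fst q x))

section main

variable {X Y : Scheme.{u}} [IsIntegral X] [IsIntegral Y] [IsLocallyNoetherian Y] (f : X ⟶ Y)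
  [IsProper f]

/-- the comparison map `X ×_Y Y' ⟶ Y' ×_Y Y'`. -/
noncomputable def r : pullback f f.fromNormalization ⟶
    pullback f.fromNormalization f.fromNormalization :=
  pullback.map f f.fromNormalization f.fromNormalization f.fromNormalization
    f.toNormalization (𝟙 _) (𝟙 _) (by simp) (by simp)

theorem r_fst : r f ≫ pullback.fst f.fromNormalization f.fromNormalization =
    pullback.fst f f.fromNormalization ≫ f.toNormalization :=
  pullback.lift_fst _ _ _

theorem r_snd : r f ≫ pullback.snd f.fromNormalization f.fromNormalization =
    pullback.snd f f.fromNormalization :=
  (pullback.lift_snd _ _ _).trans (Category.comp_id _)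

theorem isPullback_r : IsPullback (r f) (pullback.fst f f.fromNormalization)
    (pullback.fst f.fromNormalization f.fromNormalization) f.toNormalization := by
  have t : IsPullback (pullback.snd f.fromNormalization f.fromNormalization)
      (pullback.fst f.fromNormalization f.fromNormalization) f.fromNormalization
      f.fromNormalization := (IsPullback.of_hasPullback _ _).flip
  have s : IsPullback (r f ≫ pullback.snd f.fromNormalization f.fromNormalization)
      (pullback.fst f f.fromNormalization) f.fromNormalization
      (f.toNormalization ≫ f.fromNormalization) := by
    rw [r_snd, f.toNormalization_fromNormalization]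
    exact (IsPullback.of_hasPullback f f.fromNormalization).flip
  exact IsPullback.of_right s (r_fst f) t

theorem surjective_r : Function.Surjective (r f) := by
  haveI : Surjective f.toNormalization := ⟨surjective_toNormalization f⟩
  haveI : Surjective (r f) :=
    MorphismProperty.of_isPullback (P := @Surjective) (isPullback_r f).flip inferInstance
  exact (r f).surjective

variable (hdom : f.base (genericPoint X) ⤳ genericPoint Y)
  (hopen : ∀ (Y' : Scheme.{u}) (g : Y' ⟶ Y), IrreducibleSpace ↥Y' → IsLocallyNoetherian Y' →
      IsDominant g → ∀ Z ∈ irreducibleComponents ↥(pullback f g), Dense ((pullback.snd f g).base '' Z))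
  (hrad : ∀ x : X.functionField,
      (∃ q : Polynomial Y.functionField, q ≠ 0 ∧
        Polynomial.eval₂ (CohIII.stalkToFunctionField f (genericPoint Y) hdom) x q = 0) →
      ∃ e : ℕ, x ^ (ringExpChar X.functionField ^ e) ∈
        Set.range (CohIII.stalkToFunctionField f (genericPoint Y) hdom))

include hdom in
theorem isDominant_fromNormalization : IsDominant f.fromNormalization := by
  refine ⟨?_⟩
  rw [DenseRange, dense_iff_closure_eq, ← Set.univ_subset_iff]
  have h1 : genericPoint Y ∈ Set.range f.fromNormalization :=
    ⟨_, fromNormalization_genericPoint f hdom⟩
  have h2 := closure_mono (Set.singleton_subset_iff.mpr h1)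
  rw [(genericPoint_spec Y).def] at h2
  exact h2

include hdom hopen in
/-- every irreducible component of `Y' ×_Y Y'` dominates `Y'` via the second projection. -/
theorem snd_genericPoint_of_component
    (Z : Set ↥(pullback f.fromNormalization f.fromNormalization))
    (hZ : Z ∈ irreducibleComponents ↥(pullback f.fromNormalization f.fromNormalization))
    (ξ : ↥(pullback f.fromNormalization f.fromNormalization)) (hξ : IsGenericPoint ξ Z) :
    pullback.snd f.fromNormalization f.fromNormalization ξ = genericPoint f.normalization := by
  haveI := isLocallyNoetherian_normalization f
  obtain ⟨W', hW', hsub⟩ := Groth.Agent.Lib.H9LscC.exists_component_map_subset (r f)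
    (r f).continuous (surjective_r f) Z hZ
  have hd := hopen f.normalization f.fromNormalization inferInstance inferInstance
    (isDominant_fromNormalization f hdom) W' hW'
  have hsub2 : (pullback.snd f f.fromNormalization) '' W' ⊆
      (pullback.snd f.fromNormalization f.fromNormalization) '' Z := by
    rintro _ ⟨w, hw, rfl⟩
    refine ⟨r f w, hsub ⟨w, hw, rfl⟩, ?_⟩
    rw [← Scheme.Hom.comp_apply, r_snd]
  have hd2 : Dense ((pullback.snd f.fromNormalization f.fromNormalization) '' Z) :=
    hd.mono hsub2
  have hcl : (pullback.snd f.fromNormalization f.fromNormalization) '' Z ⊆
      closure {pullback.snd f.fromNormalization f.fromNormalization ξ} := by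
    rw [← hξ.def, ← Set.image_singleton]
    exact image_closure_subset_closure_image
      (pullback.snd f.fromNormalization f.fromNormalization).continuous
  have hgen : IsGenericPoint (pullback.snd f.fromNormalization f.fromNormalization ξ)
      (⊤ : Set ↥f.normalization) := by
    rw [IsGenericPoint, Set.top_eq_univ, ← Set.univ_subset_iff, ← hd2.closure_eq]
    exact closure_minimal hcl isClosed_closure
  exact hgen.eq (genericPoint_spec f.normalization)

include hdom hrad in
/-- the only point of `Y' ×_Y Y'` over the generic point of `Y'` is the diagonal point. -/
theorem eq_diagonal_of_snd_eq (z : ↥(pullback f.fromNormalization f.fromNormalization))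
    (hz : pullback.snd f.fromNormalization f.fromNormalization z =
      genericPoint f.normalization) :
    z = pullback.diagonal f.fromNormalization (genericPoint f.normalization) := by
  haveI := isFinite_fromNormalization f
  have hq := fromNormalization_genericPoint f hdom
  have hfst : pullback.fst f.fromNormalization f.fromNormalization z =
      genericPoint f.normalization := by
    have hcond : f.fromNormalization (pullback.fst f.fromNormalization f.fromNormalization z) =
        f.fromNormalization (pullback.snd f.fromNormalization f.fromNormalization z) := by
      rw [← Scheme.Hom.comp_apply, ← Scheme.Hom.comp_apply, pullback.condition]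
    rw [hz, hq] at hcond
    have hdisc := f.fromNormalization.isDiscrete_preimage_singleton (genericPoint Y)
    exact (eq_of_specializes_of_isDiscrete hdisc (a := genericPoint f.normalization)
      (b := pullback.fst f.fromNormalization f.fromNormalization z) hq hcond
      (genericPoint_specializes _)).symm
  have hΔ1 : pullback.fst f.fromNormalization f.fromNormalization
      (pullback.diagonal f.fromNormalization (genericPoint f.normalization)) =
      genericPoint f.normalization := by
    rw [← Scheme.Hom.comp_apply, pullback.diagonal_fst]; rfl
  have hΔ2 : pullback.snd f.fromNormalization f.fromNormalization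
      (pullback.diagonal f.fromNormalization (genericPoint f.normalization)) =
      genericPoint f.normalization := by
    rw [← Scheme.Hom.comp_apply, pullback.diagonal_snd]; rfl
  apply eq_of_fst_eq_of_snd_eq z _ (hfst.trans hΔ1.symm) (hz.trans hΔ2.symm)
  rw [hfst]
  exact isPurelyInseparable_residueFieldMap f hdom hrad

include hdom hopen hrad in
theorem universallyInjective_fromNormalization : UniversallyInjective f.fromNormalization := by
  haveI := isFinite_fromNormalization f
  rw [UniversallyInjective.iff_diagonal]
  refine ⟨fun z => ?_⟩
  have hcl : IsClosed (Set.range (pullback.diagonal f.fromNormalization)) :=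
    (pullback.diagonal f.fromNormalization).isClosedEmbedding.isClosed_range
  have hZ := irreducibleComponent_mem_irreducibleComponents z
  have hZirr : IsIrreducible (irreducibleComponent z) := isIrreducible_irreducibleComponent
  have hZcl : IsClosed (irreducibleComponent z) := isClosed_irreducibleComponent
  obtain ⟨ξ, hξ⟩ := QuasiSober.sober hZirr hZcl
  have h1 := snd_genericPoint_of_component f hdom hopen _ hZ ξ hξ
  have h2 := eq_diagonal_of_snd_eq f hdom hrad ξ h1
  have h3 : irreducibleComponent z ⊆ Set.range (pullback.diagonal f.fromNormalization) := by
    rw [← hξ.def]
    exact closure_minimal (Set.singleton_subset_iff.mpr ⟨_, h2.symm⟩) hcl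
  exact h3 mem_irreducibleComponent

include hdom hopen hrad in
theorem geometricallyConnected : GeometricallyConnected f := by
  haveI := isFinite_fromNormalization f
  haveI := universallyInjective_fromNormalization f hdom hopen hrad
  haveI := Groth.Agent.Lib.H9LscA.geometricallyConnected_toNormalization f
  haveI := isDominant_fromNormalization f hdom
  haveI : Surjective f.fromNormalization := by
    refine ⟨fun y => ?_⟩
    have hcl : IsClosed (Set.range f.fromNormalization) :=
      f.fromNormalization.isClosedMap.isClosed_range
    have : Set.range f.fromNormalization = Set.univ := by
      rw [← hcl.closure_eq]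
      exact f.fromNormalization.denseRange.closure_range
    have hy : y ∈ Set.range f.fromNormalization := by rw [this]; exact Set.mem_univ y
    exact hy
  have := geometricallyConnected_comp f.toNormalization f.fromNormalization
  rwa [f.toNormalization_fromNormalization] at this

include hdom hopen hrad in
/-- **S5735** -/
theorem main (y : Y) : GeometricallyConnected (f.fiberToSpecResidueField y) := by
  haveI := geometricallyConnected f hdom hopen hrad
  infer_instance

end main

end Groth.Agent.Lib.H9RadC
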