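import Mathlib
import Groth.Prelude.Def_FDesc
import Groth.Prelude.Def_EGA4b
import Groth.Agent.Lib.H9FibGeomNormal
import Groth.Agent.Lib.Helper6BcRed

/-! EGA IV: flat lfp morphism, base reduced at f x, fibre geometrically reduced at x => X reduced at x. Algebra core: `prod_smul_eq_zero_of_flat` (equational-criterion trick over a reduced base), `isReduced_of_flat_of_fibres` (A reduced, B flat, nilpotents of B lie locally in (Q∩A)B => B reduced; no Noetherian hypothesis), `chart_H` (chart form via EGA4.FibLocRing), `exists_mul_pow_mem_of_mem_minimalPrimes`, `exists_fin_sum_of_mem_map`; scheme: `isReduced_fiber_stalk`, `exists_point_of_prime`, `main2567`. -/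

set_option autoImplicit false
set_option linter.style.haveILetI false
set_option linter.unusedSimpArgs false
set_option linter.unusedVariables false
universe u

namespace Groth.Agent.Lib.H9RedFlatFib

-- ===== part RedFibA =====
section

open scoped BigOperators

/-- in a minimal prime `p` over `I`, every element has a power which, up to a factor outside
`p`, lies in `I`. -/
theorem exists_mul_pow_mem_of_mem_minimalPrimes {R : Type*} [CommRing R] {I p : Ideal R}
    (hp : p ∈ I.minimalPrimes) {x : R} (hx : x ∈ p) :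
    ∃ s, s ∉ p ∧ ∃ m : ℕ, s * x ^ m ∈ I := by
  haveI : p.IsPrime := hp.1.1
  have h1 := IsLocalization.AtPrime.radical_map_of_mem_minimalPrimes
    (A := Localization.AtPrime p) p I hp
  have h2 : algebraMap R (Localization.AtPrime p) x ∈
      (I.map (algebraMap R (Localization.AtPrime p))).radical := by
    rw [h1]
    exact Ideal.mem_map_of_mem _ hx
  obtain ⟨m, hm⟩ := h2
  rw [← map_pow, IsLocalization.mem_map_algebraMap_iff p.primeCompl] at hm
  obtain ⟨⟨a, s⟩, h⟩ := hm
  rw [← map_mul, IsLocalization.eq_iff_exists p.primeCompl] at h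
  obtain ⟨c, hc⟩ := h
  refine ⟨c.1 * s.1, ?_, m, ?_⟩
  · exact fun h => (p.primeCompl.mul_mem c.2 s.2) h
  · have : c.1 * s.1 * x ^ m = c.1 * a.1 := by
      rw [← hc]; ring
    rw [this]
    exact I.mul_mem_left _ a.2

/-- the reduced ring computation. -/
theorem prod_mul_eq_zero {A : Type*} [CommRing A] [IsReduced A] {n : ℕ} (a s r : Fin n → A)
    (m : Fin n → ℕ) (w : A) (hw : w = ∑ i, a i * r i)
    (h : ∀ j, s j * a j ^ m j * w = 0) : (∏ j, s j) * w = 0 := by
  have h1 : ∀ j, s j * a j * w = 0 := by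
    intro j
    apply IsNilpotent.eq_zero
    refine ⟨m j + 1, ?_⟩
    have : (s j * a j * w) ^ (m j + 1) =
        (s j * a j ^ m j * w) * (s j ^ m j * a j * w ^ m j) := by ring
    rw [this, h j, zero_mul]
  have h2 : ∀ j, (∏ j, s j) * a j * w = 0 := by
    intro j
    rw [← Finset.prod_erase_mul _ _ (Finset.mem_univ j)]
    have : (∏ x ∈ Finset.univ.erase j, s x) * s j * a j * w =
        (∏ x ∈ Finset.univ.erase j, s x) * (s j * a j * w) := by ring
    rw [this, h1 j, mul_zero]
  apply IsNilpotent.eq_zero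
  refine ⟨2, ?_⟩
  have : ((∏ j, s j) * w) ^ 2 = (∏ j, s j) * ∑ i, ((∏ j, s j) * a i * w) * r i := by
    rw [← Finset.sum_congr rfl (fun i _ => by ring :
      ∀ i ∈ Finset.univ, (∏ j, s j) * w * (a i * r i) = (∏ j, s j) * a i * w * r i),
      ← Finset.mul_sum, ← hw]
    ring
  rw [this]
  simp [h2]

/-- **the flatness trick**: `B` flat over the reduced ring `A`; if `b = ∑ aᵢ βᵢ` and
`sᵢ aᵢ^{mᵢ} b = 0` for all `i` then `(∏ sᵢ) b = 0`. -/
theorem prod_smul_eq_zero_of_flat {A : Type u} {B : Type u} [CommRing A] [IsReduced A]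
    [AddCommGroup B] [Module A B] [Module.Flat A B] {n : ℕ} (a s : Fin n → A) (m : Fin n → ℕ)
    (β : Fin n → B) (b : B) (hb : b = ∑ i, a i • β i)
    (h : ∀ j, (s j * a j ^ m j) • b = 0) : (∏ j, s j) • b = 0 := by
  classical
  -- the linear maps
  let x : (Fin n → A) →ₗ[A] B := Fintype.linearCombination A β
  let c : Fin n → A := fun j => s j * a j ^ m j
  let f : (Fin n → A) →ₗ[A] (Fin n → A) :=
    (LinearMap.toSpanSingleton A (Fin n → A) a) ∘ₗ (Fintype.linearCombination A c)
  have hxa : x a = b := by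
    rw [hb]
    simp [x, Fintype.linearCombination_apply]
  have hxf : x ∘ₗ f = 0 := by
    ext j
    simp only [LinearMap.coe_comp, LinearMap.coe_single, Function.comp_apply, LinearMap.zero_apply,
      f]
    rw [Fintype.linearCombination_apply_single, LinearMap.toSpanSingleton_apply, map_smul, hxa]
    simpa [c] using h j
  obtain ⟨k, α, y, hxy, hαf⟩ := Module.Flat.exists_factorization_of_comp_eq_zero_of_free hxf
  set v : Fin k →₀ A := α a with hv
  have hcv : ∀ j, c j • v = 0 := by
    intro j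
    have := congrArg (fun g => g (Pi.single j 1)) hαf
    simp only [LinearMap.coe_comp, Function.comp_apply, LinearMap.zero_apply, f] at this
    rw [Fintype.linearCombination_apply_single, LinearMap.toSpanSingleton_apply, map_smul] at this
    simpa using this
  have hsv : (∏ j, s j) • v = 0 := by
    ext l
    simp only [Finsupp.smul_apply, smul_eq_mul, Finsupp.coe_zero, Pi.zero_apply]
    refine prod_mul_eq_zero a s (fun i => α (Pi.single i 1) l) m (v l) ?_ ?_
    · have ha : a = ∑ i, a i • (Pi.single i 1 : Fin n → A) := by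
        ext i
        simp [Finset.sum_apply, Pi.single_apply]
      rw [hv]
      conv_lhs => rw [ha]
      rw [map_sum]
      simp [Finsupp.finset_sum_apply]
    · intro j
      have := congrArg (fun g => g l) (hcv j)
      simpa [c] using this
  rw [← hxa, hxy]
  simp only [LinearMap.coe_comp, Function.comp_apply]
  rw [← hv, ← map_smul, hsv, map_zero]

end

-- ===== part RedFibB =====
section

open scoped BigOperators

/-- membership in an extended ideal, as a finite combination. -/
theorem exists_fin_sum_of_mem_map {A B : Type*} [CommRing A] [CommRing B] [Algebra A B]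
    {p : Ideal A} {b : B} (hb : b ∈ p.map (algebraMap A B)) :
    ∃ (n : ℕ) (a : Fin n → A) (β : Fin n → B), (∀ i, a i ∈ p) ∧ b = ∑ i, a i • β i := by
  rw [Ideal.map, Ideal.span] at hb
  induction hb using Submodule.span_induction with
  | mem x hx =>
    obtain ⟨a, ha, rfl⟩ := hx
    refine ⟨1, fun _ => a, fun _ => 1, fun _ => ha, ?_⟩
    simp [Algebra.smul_def]
  | zero => exact ⟨0, Fin.elim0, Fin.elim0, fun i => i.elim0, by simp⟩
  | add x y _ _ hx hy =>
    obtain ⟨n1, a1, β1, h1, rfl⟩ := hx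
    obtain ⟨n2, a2, β2, h2, rfl⟩ := hy
    refine ⟨n1 + n2, Fin.append a1 a2, Fin.append β1 β2, ?_, ?_⟩
    · intro i
      induction i using Fin.addCases with
      | left i => simpa using h1 i
      | right i => simpa using h2 i
    · rw [Fin.sum_univ_add]
      simp
  | smul r x _ hx =>
    obtain ⟨n, a, β, h, rfl⟩ := hx
    refine ⟨n, a, fun i => r • β i, h, ?_⟩
    rw [Finset.smul_sum]
    refine Finset.sum_congr rfl fun i _ => ?_
    rw [smul_comm]

/-- **the algebra core**: `B` flat over the reduced ring `A`; if at every prime `Q` of `B` every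
nilpotent element of `B` lies in `(Q ∩ A) B` up to a factor outside `Q`, then `B` is reduced. -/
theorem isReduced_of_flat_of_fibres {A B : Type u} [CommRing A] [CommRing B] [Algebra A B]
    [Module.Flat A B] [IsReduced A]
    (H : ∀ (Q : Ideal B) [Q.IsPrime] (b : B), IsNilpotent b →
      ∃ t, t ∉ Q ∧ t * b ∈ (Q.comap (algebraMap A B)).map (algebraMap A B)) :
    IsReduced B := by
  classical
  refine ⟨fun b hb => ?_⟩
  by_contra hb0
  -- the annihilators
  set 𝔞 : Ideal A := Ideal.comap (algebraMap A B) (Ideal.span {b}).annihilator with h𝔞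
  have hmem𝔞 : ∀ a : A, a ∈ 𝔞 ↔ a • b = 0 := by
    intro a
    rw [h𝔞, Ideal.mem_comap, Submodule.mem_annihilator_span_singleton, Algebra.smul_def]
    simp [Algebra.smul_def]
  have h𝔞top : 𝔞 ≠ ⊤ := by
    intro h
    have : (1 : A) ∈ 𝔞 := h ▸ Submodule.mem_top
    rw [hmem𝔞, one_smul] at this
    exact hb0 this
  obtain ⟨p, hp⟩ := Ideal.nonempty_minimalPrimes h𝔞top
  haveI hpp : p.IsPrime := hp.1.1
  -- a prime of `B` over `p` containing the annihilator of `b`
  have hdisj : Disjoint ((Ideal.span {b}).annihilator : Set B)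
      ((p.primeCompl.map (algebraMap A B) : Submonoid B) : Set B) := by
    rw [Set.disjoint_left]
    rintro _ hx ⟨s, hs, rfl⟩
    have : s ∈ 𝔞 := hx
    exact hs (hp.1.2 this)
  obtain ⟨Q, hQ, hQann, hQdisj⟩ := Ideal.exists_le_prime_disjoint _ _ hdisj
  have hQp : Q.comap (algebraMap A B) = p := by
    haveI : (Q.comap (algebraMap A B)).IsPrime := Ideal.comap_isPrime _ _
    apply le_antisymm
    · intro a ha
      by_contra hap
      exact Set.disjoint_left.mp hQdisj ha ⟨a, hap, rfl⟩
    · exact hp.2 ⟨inferInstance, Ideal.comap_mono hQann⟩ (by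
        intro a ha
        by_contra hap
        exact Set.disjoint_left.mp hQdisj ha ⟨a, hap, rfl⟩)
  obtain ⟨t, htQ, htb⟩ := H Q b hb
  rw [hQp] at htb
  obtain ⟨n, a, β, ha, hsum⟩ := exists_fin_sum_of_mem_map htb
  choose s hs m hm using fun i => exists_mul_pow_mem_of_mem_minimalPrimes hp (ha i)
  have hkill : ∀ j, (s j * a j ^ m j) • (t * b) = 0 := by
    intro j
    have := (hmem𝔞 _).mp (hm j)
    rw [Algebra.smul_def, mul_left_comm, ← Algebra.smul_def, this, mul_zero]
  have hfin := prod_smul_eq_zero_of_flat a s m β (t * b) hsum hkill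
  -- so `(∏ s) t` annihilates `b`
  have hmemQ : algebraMap A B (∏ j, s j) * t ∈ Q := by
    apply hQann
    rw [Submodule.mem_annihilator_span_singleton, smul_eq_mul, mul_assoc, ← Algebra.smul_def]
    exact hfin
  rcases hQ.mem_or_mem hmemQ with h | h
  · have : (∏ j, s j) ∈ p := by rw [← hQp]; exact h
    rw [hpp.prod_mem_iff] at this
    obtain ⟨j, -, hj⟩ := this
    exact hs j hj
  · exact htQ h

end

-- ===== part RedFibC =====
section

open scoped BigOperators

/-- the chart form of the hypothesis of `isReduced_of_flat_of_fibres`. -/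
theorem chart_H {A₀ B₀ : Type u} [CommRing A₀] [CommRing B₀] [Algebra A₀ B₀]
    (Q₀ : Ideal B₀) [Q₀.IsPrime] (S : Type u) [CommRing S] [Algebra B₀ S]
    [IsLocalization.AtPrime S Q₀] (T : Type u) [CommRing T] [Algebra A₀ T] [Algebra T S]
    [Algebra A₀ S] [IsScalarTower A₀ T S] [IsScalarTower A₀ B₀ S]
    (hred : ∀ (Q' : Ideal B₀) [Q'.IsPrime], Q' ≤ Q₀ → IsReduced (EGA4.FibLocRing A₀ B₀ Q'))
    (Q : Ideal S) [Q.IsPrime] (b : S) (hb : IsNilpotent b) :
    ∃ t, t ∉ Q ∧ t * b ∈ (Q.comap (algebraMap T S)).map (algebraMap T S) := by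
  obtain ⟨⟨β, s⟩, hβ⟩ := IsLocalization.surj Q₀.primeCompl b
  simp only at hβ
  set Q' : Ideal B₀ := Q.comap (algebraMap B₀ S) with hQ'
  haveI : Q'.IsPrime := Ideal.comap_isPrime _ _
  have hQ'le : Q' ≤ Q₀ := by
    intro x hx
    by_contra hx0
    have hu : IsUnit (algebraMap B₀ S x) := IsLocalization.map_units S (⟨x, hx0⟩ : Q₀.primeCompl)
    exact (Ideal.IsPrime.ne_top ‹Q.IsPrime›) (Ideal.eq_top_of_isUnit_mem _ hx hu)
  haveI := hred Q' hQ'le
  -- `β` is nilpotent in the localization at `Q'`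
  have hβnil : IsNilpotent (algebraMap B₀ S β) := by
    rw [← hβ]
    exact Commute.isNilpotent_mul_right (Commute.all _ _) hb
  obtain ⟨N, hN⟩ := hβnil
  rw [← map_pow, IsLocalization.map_eq_zero_iff Q₀.primeCompl] at hN
  obtain ⟨u, hu⟩ := hN
  have huQ' : (u : B₀) ∈ Q'.primeCompl := fun h => u.2 (hQ'le h)
  have hβ0 : (algebraMap B₀ (Localization.AtPrime Q') β) ^ N = 0 := by
    rw [← map_pow, IsLocalization.map_eq_zero_iff Q'.primeCompl]
    exact ⟨⟨u, huQ'⟩, hu⟩
  have hmem : algebraMap B₀ (Localization.AtPrime Q') β ∈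
      (Q'.comap (algebraMap A₀ B₀)).map (algebraMap A₀ (Localization.AtPrime Q')) := by
    rw [← Ideal.Quotient.eq_zero_iff_mem]
    apply IsNilpotent.eq_zero
    exact ⟨N, by rw [← map_pow, hβ0, map_zero]⟩
  rw [IsScalarTower.algebraMap_eq A₀ B₀ (Localization.AtPrime Q'), ← Ideal.map_map,
    IsLocalization.mem_map_algebraMap_iff Q'.primeCompl] at hmem
  obtain ⟨⟨x, t'⟩, hxt⟩ := hmem
  rw [← map_mul, IsLocalization.eq_iff_exists Q'.primeCompl] at hxt
  obtain ⟨c, hc⟩ := hxt
  have hmem2 : (c : B₀) * t' * β ∈ (Q'.comap (algebraMap A₀ B₀)).map (algebraMap A₀ B₀) := by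
    have : (c : B₀) * t' * β = c * x := by rw [← hc]; ring
    rw [this]
    exact Ideal.mul_mem_left _ _ x.2
  refine ⟨algebraMap B₀ S ((c : B₀) * t') * algebraMap B₀ S s, ?_, ?_⟩
  · intro h
    rcases (‹Q.IsPrime›).mem_or_mem h with h | h
    · exact (Q'.primeCompl.mul_mem c.2 t'.2) h
    · exact s.2 (hQ'le h)
  · have e1 : algebraMap B₀ S ((c : B₀) * t') * algebraMap B₀ S s * b =
        algebraMap B₀ S ((c : B₀) * t' * β) := by
      rw [map_mul _ _ β, ← hβ]
      ring
    rw [e1]
    have hle : ((Q'.comap (algebraMap A₀ B₀)).map (algebraMap A₀ B₀)).map (algebraMap B₀ S) ≤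
        (Q.comap (algebraMap T S)).map (algebraMap T S) := by
      rw [Ideal.map_map, ← IsScalarTower.algebraMap_eq A₀ B₀ S,
        IsScalarTower.algebraMap_eq A₀ T S, ← Ideal.map_map]
      apply Ideal.map_mono
      rw [Ideal.map_le_iff_le_comap, Ideal.comap_comap, Ideal.comap_comap,
        ← IsScalarTower.algebraMap_eq A₀ T S, ← IsScalarTower.algebraMap_eq A₀ B₀ S]
    exact hle (Ideal.mem_map_of_mem _ hmem2)

end

-- ===== part RedFibD =====
section

open AlgebraicGeometry CategoryTheory Limits IsLocalRing TensorProduct Topology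
open Groth.Agent.Lib.H9FibSkEquidim Groth.Agent.Lib.H9FibGeomRk Groth.Agent.Lib.H9FibGeomNormal
open Groth.Agent.Lib.Helper2.FlatOver

attribute [local instance] Curv2.stalkAlgebra

/-- "reduced" is invariant under the isomorphisms of the dictionary. -/
theorem semiInv_isReduced : SemiInv.{u} (fun R _ _ _ _ => IsReduced R) where
  lin _ _ _ _ _ _ _ _ _ _ _ h := h
  hub _ _ _ _ _ _ R R' _ _ _ _ _ _ e h := by
    haveI := h
    exact isReduced_of_injective e.symm.toRingHom e.symm.injective

variable {X Y : Scheme.{u}} (f : X ⟶ Y)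

/-- a geometrically reduced point of a fibre has a reduced local ring in the fibre. -/
theorem isReduced_fiber_stalk (x : X)
    (h : FBase.IsGeomReducedAt (f.fiberToSpecResidueField (f.base x)) (f.asFiber x)) :
    IsReduced ((f.fiber (f.base x)).presheaf.stalk (f.asFiber x)) := by
  letI : (f.fiber (f x)).Over (Spec (CommRingCat.of (IsLocalRing.ResidueField
      (Y.presheaf.stalk (f.base x))))) := ⟨f.fiberToSpecResidueField (f x)⟩
  have h1 : Curv2.IsGeomReducedAt (IsLocalRing.ResidueField (Y.presheaf.stalk (f.base x)))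
      (f.fiber (f x)) (f.asFiber x) := fun K _ _ y hy => h K y hy
  have h2 := (Groth.Agent.Lib.Helper6.BcRed.isGeomReducedAt_iff _ _ _).mp h1
  exact Algebra.isReduced_of_isGeometricallyReduced
    (IsLocalRing.ResidueField (Y.presheaf.stalk (f.base x)))

/-- the point of an affine open with a given prime. -/
theorem exists_point_of_prime {U : X.Opens} (hU : IsAffineOpen U) (x : X) (hxU : x ∈ U)
    (Q' : Ideal Γ(X, U)) [Q'.IsPrime] (hle : Q' ≤ (hU.primeIdealOf ⟨x, hxU⟩).asIdeal) :
    ∃ (x' : X) (hx'U : x' ∈ U), x' ⤳ x ∧ (hU.primeIdealOf ⟨x', hx'U⟩).asIdeal = Q' := by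
  set q : PrimeSpectrum Γ(X, U) := ⟨Q', inferInstance⟩ with hq
  have hmem : hU.fromSpec q ∈ U := by
    have := hU.range_fromSpec
    have h2 : hU.fromSpec q ∈ Set.range hU.fromSpec := ⟨q, rfl⟩
    rw [this] at h2
    exact h2
  refine ⟨hU.fromSpec q, hmem, ?_, ?_⟩
  · have hs : q ⤳ hU.primeIdealOf ⟨x, hxU⟩ := (PrimeSpectrum.le_iff_specializes _ _).mp hle
    have := hs.map hU.fromSpec.continuous
    rwa [hU.fromSpec_primeIdealOf ⟨x, hxU⟩] at this
  · have : hU.primeIdealOf ⟨hU.fromSpec q, hmem⟩ = q := by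
      have hinj : Function.Injective hU.fromSpec :=
        (Scheme.Hom.isOpenEmbedding hU.fromSpec).injective
      apply hinj
      exact hU.fromSpec_primeIdealOf ⟨hU.fromSpec q, hmem⟩
    rw [this]

set_option synthInstance.maxHeartbeats 400000 in
set_option maxHeartbeats 1600000 in
/-- **EGA IV 11.3.? / 12.1**: a flat morphism locally of finite presentation with geometrically
reduced fibre at `x` and reduced base at `f x` is reduced at `x`. -/
theorem main2567 [Flat f] [LocallyOfFinitePresentation f] (x : X)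
    (hy : FBase.IsReducedAt Y (f.base x))
    (hx : FBase.IsGeomReducedAt (f.fiberToSpecResidueField (f.base x)) (f.asFiber x)) :
    FBase.IsReducedAt X x := by
  obtain ⟨U, hU, V, hV, hUV, hxU, hfp⟩ := exists_chart_ring f x
  letI aVU : Algebra Γ(Y, V) Γ(X, U) := (f.appLE V U hUV).hom.toAlgebra
  have hft : (f.appLE V U hUV).hom.FiniteType := RingHom.FiniteType.of_finitePresentation hfp
  have hopen := isOpen_geomReducedFib f
  -- the rings
  letI aBS : Algebra Γ(X, U) (X.presheaf.stalk x) :=
    TopCat.Presheaf.algebra_section_stalk X.presheaf ⟨x, hxU⟩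
  haveI hlocS : IsLocalization.AtPrime (X.presheaf.stalk x) (hU.primeIdealOf ⟨x, hxU⟩).asIdeal :=
    hU.isLocalization_stalk ⟨x, hxU⟩
  letI aAT : Algebra Γ(Y, V) (Y.presheaf.stalk (f x)) :=
    TopCat.Presheaf.algebra_section_stalk Y.presheaf ⟨f x, hUV hxU⟩
  letI aTS : Algebra (Y.presheaf.stalk (f x)) (X.presheaf.stalk x) := (f.stalkMap x).hom.toAlgebra
  letI aAS : Algebra Γ(Y, V) (X.presheaf.stalk x) :=
    ((algebraMap (Y.presheaf.stalk (f x)) (X.presheaf.stalk x)).comp
      (algebraMap Γ(Y, V) (Y.presheaf.stalk (f x)))).toAlgebra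
  haveI t1 : IsScalarTower Γ(Y, V) (Y.presheaf.stalk (f x)) (X.presheaf.stalk x) :=
    .of_algebraMap_eq' rfl
  haveI t2 : IsScalarTower Γ(Y, V) Γ(X, U) (X.presheaf.stalk x) := by
    refine .of_algebraMap_eq fun a => ?_
    exact stalkMap_germ_eq f hUV x hxU a
  haveI hflat : Module.Flat (Y.presheaf.stalk (f x)) (X.presheaf.stalk x) := Flat.stalkMap f x
  haveI hredT : IsReduced (Y.presheaf.stalk (f x)) := hy
  have hred : ∀ (Q' : Ideal Γ(X, U)) [Q'.IsPrime], Q' ≤ (hU.primeIdealOf ⟨x, hxU⟩).asIdeal →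
      IsReduced (EGA4.FibLocRing Γ(Y, V) Γ(X, U) Q') := by
    intro Q' _ hle
    obtain ⟨x', hx'U, hspec, hQ'⟩ := exists_point_of_prime hU x hxU Q' hle
    have hx' : FBase.IsGeomReducedAt (f.fiberToSpecResidueField (f.base x')) (f.asFiber x') :=
      hspec.mem_open hopen hx
    have h1 := isReduced_fiber_stalk f x' hx'
    have h2 := (SemiInv.fiber_ring_dict f hU hV hUV semiInv_isReduced hft x' hx'U).mp h1
    subst hQ'
    exact h2
  exact isReduced_of_flat_of_fibres (A := Y.presheaf.stalk (f x)) (B := X.presheaf.stalk x)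
    (fun Q _ b hb => chart_H (A₀ := Γ(Y, V)) (B₀ := Γ(X, U)) (hU.primeIdealOf ⟨x, hxU⟩).asIdeal
      (X.presheaf.stalk x) (Y.presheaf.stalk (f x)) hred Q b hb)

end

end Groth.Agent.Lib.H9RedFlatFib
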