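import Mathlib
import Groth.Agent.Lib.R2H3AmpleSV
import Groth.Agent.Lib.Helper23Serre
import Groth.Agent.Lib.Helper23SecTw6
import Groth.Agent.Lib.R2H2PnSerre

/-!
# Ampleness from vanishing of `H¹` of twisted ideals (helper3, round 2)
-/

set_option autoImplicit false
universe u
open CategoryTheory CategoryTheory.Limits AlgebraicGeometry TopologicalSpace Opposite MonoidalCategory

namespace Groth.Agent.Lib.R2H3.AmpleOfVanish

open Groth.Agent.Lib.Helper23.SecTw Groth.Agent.Lib.Helper23.AmpleIso Groth.Agent.Lib.Helper6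
  Groth.Agent.Lib.Helper23.GenLocus

variable {X : Scheme.{u}}

/-- `φ ⊗ M` -/
noncomputable def tmap {A B : X.Modules} (φ : A ⟶ B) (M : X.Modules) : CohB1.tensorMod A M ⟶ CohB1.tensorMod B M :=
  (DCoh.tensorBi.map φ).app M

/-- the tensor bifunctor on a morphism in the first variable, on pure tensors -/
theorem tensorBi_map_app_tm {A B : X.Modules} (φ : A ⟶ B) (M : X.Modules) (U : X.Opens) (a : Γ(A, U)) (m : Γ(M, U)) :
    (tmap φ M).app U (tm A M U a m) = tm B M U (φ.app U a) m := by
  let ψ : CohB1.tensorPre A M ⟶ CohB1.tensorPre B M := (DCoh.toP.map φ) ▷ (DCoh.toP.obj M)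
  have hnat := (PresheafOfModules.sheafificationAdjunction (𝟙 X.ringCatSheaf.obj)).unit.naturality ψ
  have h2 := congrArg (fun t => (t.app (op U)).hom (a ⊗ₜ m)) hnat
  exact h2.symm

theorem app_res {M N : X.Modules} (φ : M ⟶ N) {U V : X.Opens} (e : V ≤ U) (m : Γ(M, U)) :
    φ.app V (res M e m) = res N e (φ.app U m) :=
  congr($((Scheme.Modules.Hom.mapPresheaf φ).naturality (homOfLE e).op) m)

/-- the left unit isomorphism `O ⊗ M ≅ M` with its effect on frames -/
theorem exists_unitorL (M : X.Modules) (hM : PicF.IsInvertible M) :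
    ∃ Φ : CohB1.tensorMod (Coh.structureModule X) M ≅ M, ∀ (W : X.Opens) (e : Γ(M, W)), IsGen M W e →
      ∀ (c : Γ(X, W)), Φ.hom.app W (tm _ M W (toS W c) e) = c • e := by
  obtain ⟨Φ, hΦ⟩ := exists_iso_of_frames (CohB1.tensorMod (Coh.structureModule X) M) M
    (fun p : {p : Σ W : X.Opens, Γ(M, W) // IsGen M p.1 p.2} => p.1.1)
    (fun x => by
      obtain ⟨W, e, hxW, he⟩ := exists_gen M hM x
      exact ⟨⟨⟨W, e⟩, he⟩, hxW⟩)
    (fun p => tm _ M p.1.1 (toS p.1.1 1) p.1.2) (fun p => p.1.2)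
    (fun p => isGen_tm _ M p.1.1 _ _ (isGen_one p.1.1) p.2) (fun p => p.2)
    (by
      intro p p' g hg
      rw [res_tm, res_tm] at hg
      -- write `res e_p = c • res e_p'`
      have hgen' := p'.2.mono (inf_le_right : p.1.1 ⊓ p'.1.1 ≤ p'.1.1)
      obtain ⟨c, hc⟩ := (hgen' _ le_rfl).2 (res M inf_le_left p.1.2)
      rw [res_self] at hc
      change c • res M inf_le_right p'.1.2 = res M inf_le_left p.1.2 at hc
      rw [← hc, tm_smul_right] at hg
      have hone : ∀ (A B : X.Opens) (hh : A ≤ B), res (Coh.structureModule X) hh (toS B 1) = toS A 1 := by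
        intro A B hh
        exact map_one (X.presheaf.map (homOfLE hh).op).hom
      rw [hone, hone] at hg
      have hgenT := isGen_tm _ M _ _ _ (isGen_one (p.1.1 ⊓ p'.1.1)) hgen'
      have := (hgenT _ le_rfl).1 (a₁ := c) (a₂ := g) (by
        change c • res _ le_rfl _ = g • res _ le_rfl _
        rw [res_self]
        exact hg)
      rw [← hc, this])
  refine ⟨Φ, fun W e he c => ?_⟩
  have h1 := hΦ ⟨⟨W, e⟩, he⟩ W le_rfl c
  rw [res_self, res_self] at h1
  rw [← h1, ← tm_smul_left, smul_toS, mul_one]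

/-- sections of `i_* O_Z` -/
noncomputable def bsec {Z : Scheme.{u}} (i : Z ⟶ X) (A : X.Opens) (r : Γ(Z, i ⁻¹ᵁ A)) :
    Γ((Scheme.Modules.pushforward i).obj (Coh.structureModule Z), A) := toS (i ⁻¹ᵁ A) r

theorem bsec_injective {Z : Scheme.{u}} (i : Z ⟶ X) (A : X.Opens) : Function.Injective (bsec i A) :=
  fun _ _ h => h

theorem unitPush_app' {Z : Scheme.{u}} (i : Z ⟶ X) (A : X.Opens) (a : Γ(X, A)) :
    (Groth.Agent.Lib.Helper23.Serre.unitPush i).app A (toS A a) = bsec i A (i.app A a) := rfl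

theorem res_zero' (N : X.Modules) {A A' : X.Opens} (hh : A' ≤ A) : res N hh (0 : Γ(N, A)) = 0 :=
  map_zero (N.presheaf.map (homOfLE hh).op).hom

/-- the hypothesis: `H¹` of some positive twist of every quasi-coherent ideal vanishes -/
def HypL (L : X.Modules) : Prop :=
  ∀ (I : X.Modules) (i : I ⟶ Coh.structureModule X), Mono i → Coh.IsQCoh I →
    ∃ n : ℕ, Subsingleton (Coh.HH X (CohB1.tensorMod I (CohB1.tensorPow L (n + 1))) 1)

open Groth.Agent.Lib.Helper23.Serre Groth.Agent.Lib.Helper23.QCohLocal Groth.Agent.Lib.Helper23.AffVanish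
  Groth.Agent.Lib.R2H2.PnSerre in
/-- key step: a closed point `x` of an open `U` on which `L` is trivial lies in some `X_s ⊆ U` -/
theorem exists_genLocus_le (L : X.Modules) (hL : PicF.IsInvertible L) (h : HypL L) (x : X)
    (hx : IsClosed ({x} : Set X)) (U : X.Opens) (hxU : x ∈ U) (g : Γ(L, U)) (hg : IsGen L U g) :
    ∃ (n : ℕ) (s : Coh.structureModule X ⟶ CohB1.tensorPow L (n + 1)) (f : Γ(X, U)),
      x ∈ CohB1.genLocus _ s ∧ CohB1.genLocus _ s ≤ U ∧ CohB1.genLocus _ s = X.basicOpen f := by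
  classical
  -- the closed subscheme on `Uᶜ ∪ {x}`
  let T : Closeds X := ⟨(U : Set X)ᶜ ∪ {x}, U.isOpen.isClosed_compl.union hx⟩
  let J := Scheme.IdealSheafData.vanishingIdeal T
  let i : J.subscheme ⟶ X := J.subschemeι
  have hrange : Set.range i = (U : Set X)ᶜ ∪ {x} := by
    rw [J.range_subschemeι]
    exact Scheme.IdealSheafData.coe_support_vanishingIdeal T
  let B : X.Modules := (Scheme.Modules.pushforward i).obj (Coh.structureModule J.subscheme)
  let π : Coh.structureModule X ⟶ B := unitPush i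
  have hOq : (Coh.structureModule X).IsQuasicoherent := isQuasicoherent_structureModule' X
  have hOZq : (Coh.structureModule J.subscheme).IsQuasicoherent := isQuasicoherent_structureModule' _
  have hBq : B.IsQuasicoherent := isQuasicoherent_pushforward i _
  have hKq : (kernel π).IsQuasicoherent := isQuasicoherent_kernel π
  obtain ⟨n, hn⟩ := h (kernel π) (kernel.ι π) inferInstance hKq
  let M := CohB1.tensorPow L (n + 1)
  have hM : PicF.IsInvertible M := isInvertible_tensorPow hL (n + 1)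
  let e : Γ(M, U) := pw L U g (n + 1)
  have he : IsGen M U e := isGen_pw L U g hg (n + 1)
  -- the exact sequence and surjectivity on global sections
  let S : ShortComplex X.Modules := ShortComplex.mk (kernel.ι π) π (kernel.condition π)
  have hS : S.ShortExact :=
    { exact := ShortComplex.exact_kernel π
      mono_f := inferInstanceAs (Mono (kernel.ι π))
      epi_g := inferInstanceAs (Epi π) }
  have hS' := shortExact_map_twR M hM S hS
  have hsurj : Function.Surjective ((tmap π M).app ⊤) := by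
    refine surjective_app_of_subsingleton_HE (S.map (twR M)) hS' ⊤ ?_
    have h1 : Subsingleton (Coh.HH X (CohB1.tensorMod (kernel π) M) 1) := hn
    exact (HETopEquivH X.carrier (ab' (CohB1.tensorMod (kernel π) M)) 1).toEquiv.subsingleton
  -- the section of `B ⊗ M` to be lifted
  let Wx : X.Opens := ⟨({x} : Set X)ᶜ, hx.isOpen_compl⟩
  have hBzero : ∀ A : X.Opens, A ≤ U → A ≤ Wx → ∀ b : Γ(B, A), b = 0 := by
    intro A hAU hAW b
    have hbot : i ⁻¹ᵁ A = ⊥ := by
      ext z
      simp only [Opens.coe_bot, Set.mem_empty_iff_false, iff_false]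
      intro hz
      have hz' : i z ∈ (U : Set X)ᶜ ∪ {x} := hrange ▸ Set.mem_range_self z
      rcases hz' with hz' | hz'
      · exact hz' (hAU hz)
      · exact hAW hz hz'
    have hss : Subsingleton Γ(J.subscheme, i ⁻¹ᵁ A) := by rw [hbot]; infer_instance
    exact @Subsingleton.elim _ hss _ _
  let Uc : Bool → X.Opens := fun b => if b then U else Wx
  let sf : ∀ b : Bool, Γ(CohB1.tensorMod B M, Uc b) := fun b =>
    match b with
    | true => tm B M U (bsec i U 1) e
    | false => 0
  have hcov : (⊤ : X.Opens) ≤ ⨆ b, Uc b := by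
    intro y _
    by_cases hy : y = x
    · exact Opens.mem_iSup.2 ⟨true, by rw [hy]; exact hxU⟩
    · exact Opens.mem_iSup.2 ⟨false, hy⟩
  have hmixed : res (CohB1.tensorMod B M) (inf_le_left : U ⊓ Wx ≤ U) (tm B M U (bsec i U 1) e) = 0 := by
    rw [res_tm, hBzero (U ⊓ Wx) inf_le_left inf_le_right (res B _ _), tm_zero_left]
  have hcompat : TopCat.Presheaf.IsCompatible (modSheaf (CohB1.tensorMod B M)).1 Uc sf := by
    intro b b'
    cases b <;> cases b'
    · rfl
    · change res (CohB1.tensorMod B M) (inf_le_left : Wx ⊓ U ≤ Wx) (0 : Γ(CohB1.tensorMod B M, Wx)) = res (CohB1.tensorMod B M) (inf_le_right : Wx ⊓ U ≤ U) (tm B M U _ e)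
      rw [res_zero', res_tm, hBzero (Wx ⊓ U) inf_le_right inf_le_left (res B _ _), tm_zero_left]
    · change res (CohB1.tensorMod B M) (inf_le_left : U ⊓ Wx ≤ U) (tm B M U _ e) = res (CohB1.tensorMod B M) (inf_le_right : U ⊓ Wx ≤ Wx) (0 : Γ(CohB1.tensorMod B M, Wx))
      rw [hmixed, res_zero']
    · rfl
  obtain ⟨q, hq, -⟩ := (modSheaf (CohB1.tensorMod B M)).existsUnique_gluing' Uc ⊤ (fun b => homOfLE le_top) hcov sf hcompat
  have hqU : res (CohB1.tensorMod B M) (le_top : U ≤ ⊤) q = tm B M U (bsec i U 1) e := hq true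
  have hqW : res (CohB1.tensorMod B M) (le_top : Wx ≤ ⊤) q = 0 := hq false
  obtain ⟨s', hs'⟩ := hsurj q
  -- the section of `M`
  obtain ⟨Φ, hΦ⟩ := exists_unitorL M hM
  let s : Coh.structureModule X ⟶ M := secHom M (Φ.hom.app ⊤ s')
  -- local description of `s`
  have hloc : ∀ (W : X.Opens) (eW : Γ(M, W)), IsGen M W eW → ∃ c : Γ(X, W), sv s W = c • eW ∧
      res (CohB1.tensorMod B M) (le_top : W ≤ ⊤) q = tm B M W (bsec i W (i.app W c)) eW := by
    intro W eW hW
    obtain ⟨a, ha⟩ := (bijective_tm_of_isGen (Coh.structureModule X) M W eW hW W le_rfl).2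
      (res _ (le_top : W ≤ ⊤) s')
    rw [Groth.Agent.Lib.Helper23.SecTw.res_self] at ha
    change tm _ M W a eW = _ at ha
    refine ⟨ofS W a, ?_, ?_⟩
    · rw [sv_secHom, ← app_res, ← ha]
      exact hΦ W eW hW (ofS W a)
    · rw [← hs', ← app_res, ← ha, tensorBi_map_app_tm]
      have h5 : a = toS W (ofS W a) := rfl
      rw [h5, unitPush_app']
      rfl
  -- on `U`
  obtain ⟨f, hf1, hf2⟩ := hloc U e he
  have hf3 : i.app U f = 1 := by
    rw [hqU] at hf2
    have := (bijective_tm_of_isGen B M U e he U le_rfl).1 (a₁ := bsec i U 1)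
      (a₂ := bsec i U (i.app U f)) (by
        change tm B M U _ (res M le_rfl e) = tm B M U _ (res M le_rfl e)
        rw [Groth.Agent.Lib.Helper23.SecTw.res_self]
        exact hf2)
    exact (bsec_injective i U this).symm
  have hGU : CohB1.genLocus M s ⊓ U = X.basicOpen f := genLocus_inf_eq_of_isGen M s U e f he hf1
  have hxr : x ∈ Set.range i := by rw [hrange]; right; rfl
  obtain ⟨z₀, hz₀⟩ := hxr
  have hxf : x ∈ X.basicOpen f := by
    have hpre : i ⁻¹ᵁ (X.basicOpen f) = J.subscheme.basicOpen (i.app U f) := Scheme.preimage_basicOpen i f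
    have : z₀ ∈ i ⁻¹ᵁ (X.basicOpen f) := by
      rw [hpre, hf3, J.subscheme.basicOpen_of_isUnit isUnit_one]
      change i z₀ ∈ U
      rw [hz₀]; exact hxU
    rw [← hz₀]
    exact this
  have hle : CohB1.genLocus M s ≤ U := by
    intro y hy
    by_contra hyU
    have hyr : y ∈ Set.range i := by rw [hrange]; left; exact hyU
    obtain ⟨z, rfl⟩ := hyr
    have hyx : i z ≠ x := by
      intro hzx
      rw [hzx] at hyU
      exact hyU hxU
    obtain ⟨W', e', hyW', he'⟩ := exists_gen M hM (i z)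
    let W : X.Opens := W' ⊓ Wx
    have heW : IsGen M W (res M inf_le_left e') := he'.mono inf_le_left
    obtain ⟨c, hc1, hc2⟩ := hloc W _ heW
    have hqW' : res (CohB1.tensorMod B M) (le_top : W ≤ ⊤) q = 0 := by
      have : res (CohB1.tensorMod B M) (le_top : W ≤ ⊤) q = res (CohB1.tensorMod B M) (inf_le_right : W ≤ Wx) (res (CohB1.tensorMod B M) (le_top : Wx ≤ ⊤) q) :=
        (Groth.Agent.Lib.Helper6.res_res (CohB1.tensorMod B M) (le_top : Wx ≤ ⊤) (inf_le_right : W ≤ Wx) q).symm
      rw [this, hqW, res_zero']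
    rw [hqW'] at hc2
    have hc3 : i.app W c = 0 := by
      have := (bijective_tm_of_isGen B M W _ heW W le_rfl).1 (a₁ := bsec i W (i.app W c))
        (a₂ := bsec i W 0) (by
          change tm B M W _ (res M le_rfl _) = tm B M W _ (res M le_rfl _)
          rw [Groth.Agent.Lib.Helper23.SecTw.res_self]
          rw [← hc2]
          exact (tm_zero_left B M W _).symm)
      exact bsec_injective i W this
    have hGW : CohB1.genLocus M s ⊓ W = X.basicOpen c := genLocus_inf_eq_of_isGen M s W _ c heW hc1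
    have hyc : i z ∈ X.basicOpen c := by
      rw [← hGW]
      exact ⟨hy, hyW', hyx⟩
    have hpre : i ⁻¹ᵁ (X.basicOpen c) = J.subscheme.basicOpen (i.app W c) := Scheme.preimage_basicOpen i c
    have : z ∈ i ⁻¹ᵁ (X.basicOpen c) := hyc
    rw [hpre, hc3, Scheme.basicOpen_zero] at this
    exact this
  refine ⟨n, s, f, ?_, hle, ?_⟩
  · have : x ∈ CohB1.genLocus M s ⊓ U := by rw [hGU]; exact hxf
    exact this.1
  · rw [← hGU]
    exact (inf_eq_left.2 hle).symm

/-- **ampleness from vanishing of `H¹` of twisted ideals** -/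
theorem isAmple_of_hypL [CompactSpace X] (L : X.Modules) (hL : PicF.IsInvertible L) (h : HypL L) :
    CohB1.IsAmple L := by
  refine ⟨hL, inferInstance, fun y => ?_⟩
  by_contra hcon
  push Not at hcon
  let W : X.Opens := ⨆ p : {p : Σ n : ℕ, (Coh.structureModule X ⟶ CohB1.tensorPow L (n + 1)) //
    IsAffineOpen (CohB1.genLocus _ p.2)}, CohB1.genLocus _ p.1.2
  have hyW : y ∉ W := by
    intro hy
    obtain ⟨p, hp⟩ := Opens.mem_iSup.1 hy
    exact hcon p.1.1 p.1.2 hp p.2
  obtain ⟨x, hxW, hx⟩ := IsClosed.exists_closed_singleton (S := (W : Set X)ᶜ) W.isOpen.isClosed_compl ⟨y, hyW⟩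
  obtain ⟨W', g, hxW', hg⟩ := exists_gen L hL x
  obtain ⟨_, ⟨U, hU, rfl⟩, hxU, hUW'⟩ :=
    X.isBasis_affineOpens.exists_subset_of_mem_open hxW' W'.isOpen
  obtain ⟨n, s, f, hxs, -, hsf⟩ := exists_genLocus_le L hL h x hx U hxU (res L hUW' g) (hg.mono hUW')
  have haff : IsAffineOpen (CohB1.genLocus _ s) := by
    rw [hsf]
    exact hU.basicOpen f
  exact hxW (Opens.mem_iSup.2 ⟨⟨⟨n, s⟩, haff⟩, hxs⟩)

end Groth.Agent.Lib.R2H3.AmpleOfVanish
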