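import Groth.Agent.Lib.R2H2Chevalley
import Groth.Agent.Lib.R2H3AmpleOfVanish
import Groth.Agent.Lib.R2H3AmpleSV
import Groth.Agent.Lib.R2H2PnSerre
import Groth.Agent.Lib.R2H1ProjLF
import Groth.Agent.Lib.Helper20EffCartier
import Groth.Agent.Lib.Helper23PB
import Groth.Agent.Lib.Helper18OmLS11

/-!
# Ampleness descends along finite jointly surjective families (helper3, round 2)

Let `R` be a Noetherian ring, `X` proper over `Spec R` and `L` an invertible `O_X`-module.  If every point of `X` lies in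
the image of a finite morphism `f : Y ⟶ X` with `Y` proper over `Spec R` and `f^* L` ample, then `L` is ample
(`isAmple_of_finite_cover`).  The proof is the dévissage of EGA III 2.6.2 / Stacks 0B5V, through helper2's
`DevL.devissage_roots`, the cohomological criterion `AmpleOfVanish.isAmple_of_hypL` and Serre vanishing for ample
modules `AmpleSV.serre_vanishing_ample`.
-/

set_option autoImplicit false
set_option linter.style.haveILetI false
universe u

open CategoryTheory CategoryTheory.Limits AlgebraicGeometry TopologicalSpace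

namespace Groth.Agent.Lib.R2H3.AmpleFinite

open Groth.Agent.Lib.R2H2.StalkPow Groth.Agent.Lib.R2H2.HHLin Groth.Agent.Lib.R2H2.PnSerre
  Groth.Agent.Lib.R2H2.IdealMulSec

section PartA

variable {X : Scheme.{u}} (L : X.Modules)

/-- eventual vanishing of `H^1` of the twists -/
def P (F : X.Modules) : Prop :=
  ∃ n₀ : ℕ, ∀ n : ℕ, n₀ ≤ n → Subsingleton (Coh.HH X (CohB1.tensorMod F (CohB1.tensorPow L n)) 1)

theorem P_of_iso {F F' : X.Modules} (e : F ≅ F') (h : P L F) : P L F' := by
  obtain ⟨n₀, h⟩ := h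
  refine ⟨n₀, fun n hn => ?_⟩
  exact subsingleton_HH_of_iso ((twR (CohB1.tensorPow L n)).mapIso e) 1 (h n hn)

theorem P_zero (M : X.Modules) (hM : IsZero M) : P L M :=
  ⟨0, fun n _ => Groth.Agent.Lib.R2H2.KoszulShift.subsingleton_HH_of_isZero
    ((twR (CohB1.tensorPow L n)).map_isZero hM) 1⟩

theorem P_ext (hL : PicF.IsInvertible L) (S : ShortComplex X.Modules) (hS : S.ShortExact)
    (h₁ : P L S.X₁) (h₃ : P L S.X₃) : P L S.X₂ := by
  obtain ⟨n₁, h₁⟩ := h₁
  obtain ⟨n₃, h₃⟩ := h₃
  refine ⟨max n₁ n₃, fun n hn => ?_⟩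
  have hS' := shortExact_map_twR (CohB1.tensorPow L n)
    (Groth.Agent.Lib.Helper23.SecTw.isInvertible_tensorPow hL n) S hS
  have i₁ : Subsingleton (Coh.HH X (S.map (twR (CohB1.tensorPow L n))).X₁ 1) :=
    h₁ n ((le_max_left _ _).trans hn)
  have i₃ : Subsingleton (Coh.HH X (S.map (twR (CohB1.tensorPow L n))).X₃ 1) :=
    h₃ n ((le_max_right _ _).trans hn)
  refine ⟨fun a b => ?_⟩
  have hz : ∀ c : Coh.HH X (S.map (twR (CohB1.tensorPow L n))).X₂ 1, c = 0 := by
    intro c
    obtain ⟨x₁, hx₁⟩ := exact₂ _ hS' 1 c (Subsingleton.elim _ _)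
    rw [← hx₁, Subsingleton.elim x₁ 0, map_zero]
  exact (hz a).trans (hz b).symm

theorem P_root (F : X.Modules) (r : ℕ) (h : P L (pow F (r + 1))) : P L F := by
  obtain ⟨n₀, h⟩ := h
  refine ⟨n₀, fun n hn => ?_⟩
  have : Subsingleton (Coh.HH X ((twR (CohB1.tensorPow L n)).obj (pow F (r + 1))) 1) := h n hn
  refine ⟨fun a b => ?_⟩
  have hinj : Function.Injective
      (HmapL ((twR (CohB1.tensorPow L n)).map (powι F r)) 1) := by
    intro a b hab
    have h1 := congrArg (HmapL ((twR (CohB1.tensorPow L n)).map (powπ F r)) 1) hab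
    rw [← HmapL_comp, ← HmapL_comp, ← CategoryTheory.Functor.map_comp, powι_π,
      CategoryTheory.Functor.map_id, HmapL_id,
      HmapL_id] at h1
    exact h1
  exact hinj (Subsingleton.elim _ _)

end PartA

section PartB

open Groth.Agent.Lib.R2H2.FinPush

variable {W X : Scheme.{u}} (g : W ⟶ X) (J : X.IdealSheafData)

/-- the ideal `J O_W` as a module -/
noncomputable abbrev idl : W.Modules := (Dual3.idealMul (J.comap g)).obj (Coh.structureModule W)

/-- `g_* (J O_W) ⟶ g_* O_W` -/
noncomputable abbrev phi : (Scheme.Modules.pushforward g).obj (idl g J) ⟶ pushO g :=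
  (Scheme.Modules.pushforward g).map (Dual3.idealMulι (J.comap g) (Coh.structureModule W))

instance mono_phi : Mono (phi g J) := by
  haveI : Mono (Dual3.idealMulι (J.comap g) (Coh.structureModule W)) :=
    Groth.Agent.Lib.R2H2.DevF.mono_idealMulι _ _
  haveI : (Scheme.Modules.pushforward g).IsRightAdjoint :=
    (Scheme.Modules.pullbackPushforwardAdjunction g).isRightAdjoint
  infer_instance

theorem phi_app (U : X.Opens) (t : Γ((Scheme.Modules.pushforward g).obj (idl g J), U)) :
    (phi g J).app U t = (Dual3.idealMulι (J.comap g) (Coh.structureModule W)).app (g ⁻¹ᵁ U) t := rfl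

/-- `g_*(J O_W)` lands in `J · g_* O_W` -/
theorem phi_comp_un [IsAffineHom g] [(pushO g).IsQuasicoherent] : phi g J ≫ un J (pushO g) = 0 := by
  haveI : (Coh.structureModule W).IsQuasicoherent :=
    Groth.Agent.Lib.Helper23.Serre.isQuasicoherent_structureModule' W
  refine Groth.Agent.Helper18OmLS.hom_ext_basis _ _ {V : X.Opens | IsAffineOpen V}
    (X.isBasis_affineOpens) (fun V hV t => ?_)
  have hV' : IsAffineOpen V := hV
  change (un J (pushO g)).app V ((phi g J).app V t) = 0
  rw [un_app_eq_zero_iff J (pushO g) hV', phi_app]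
  have hgV : IsAffineOpen (g ⁻¹ᵁ V) := hV'.preimage g
  have h1 := Groth.Agent.Lib.R2H2.DevF.idealMulι_app_mem (J.comap g) (Coh.structureModule W) hgV t
  set x := (Dual3.idealMulι (J.comap g) (Coh.structureModule W)).app (g ⁻¹ᵁ V) t with hx
  have h2 : (show Γ(W, g ⁻¹ᵁ V) from x) ∈ (J.comap g).ideal ⟨g ⁻¹ᵁ V, hgV⟩ := by
    refine Submodule.smul_induction_on (p := fun x : Γ(Coh.structureModule W, g ⁻¹ᵁ V) =>
      (show Γ(W, g ⁻¹ᵁ V) from x) ∈ (J.comap g).ideal ⟨g ⁻¹ᵁ V, hgV⟩) h1 ?_ ?_
    · intro a ha m _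
      exact Ideal.mul_mem_right (show Γ(W, g ⁻¹ᵁ V) from m) _ ha
    · intro a b ha hb
      exact Ideal.add_mem _ ha hb
  rw [Groth.Agent.Lib.Helper20.EffCartier.ideal_comap_eq_map g J hgV hV' le_rfl] at h2
  have h3 : g.appLE V (g ⁻¹ᵁ V) le_rfl = g.app V := Scheme.Hom.appLE_eq_app (f := g) (U := V)
  rw [h3] at h2
  exact map_ideal_le_smul_top g J hV' _ h2

/-- `g_*(J O_W) ⟶ g_* O_W` is bijective on stalks away from `V(J)` -/
theorem bijective_stalkLin_phi (y : X) (hy : y ∉ (J.support : Set X)) :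
    Function.Bijective (stalkLin (phi g J) y) := by
  constructor
  · exact TopCat.Presheaf.stalkFunctor_map_injective_of_app_injective
      (f := Scheme.Modules.Hom.mapPresheaf (phi g J))
      (fun U => Groth.Agent.Lib.Helper20.StalkExact.injective_app_of_mono (phi g J) U) _
  · intro s
    obtain ⟨V, hyV, m, rfl⟩ := TopCat.Presheaf.exists_germ_eq (pushO g).presheaf s
    let D : X.Opens := ⟨(J.support : Set X)ᶜ, J.support.isClosed.isOpen_compl⟩
    let V' : X.Opens := V ⊓ D
    have hyV' : y ∈ V' := ⟨hyV, hy⟩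
    let D' : W.Opens := g ⁻¹ᵁ D
    have hD' : Disjoint (D' : Set W) ((J.comap g).support : Set W) := by
      rw [Scheme.IdealSheafData.support_comap]
      rw [Set.disjoint_left]
      intro w hw hw'
      exact hw hw'
    have hiso := Groth.Agent.Lib.R2H2.DevF.isIso_restrict_idealMulι (J.comap g) (Coh.structureModule W) D' hD'
    rw [Groth.Agent.Lib.Helper23.Extend.isIso_restrict_iff, Scheme.Opens.opensRange_ι] at hiso
    have hle : g ⁻¹ᵁ V' ≤ D' := fun w hw => hw.2
    have h1 := hiso (g ⁻¹ᵁ V') hle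
    let m' : Γ(pushO g, V') := (pushO g).presheaf.map (homOfLE (inf_le_left : V' ≤ V)).op m
    obtain ⟨t', ht'⟩ := (ConcreteCategory.bijective_of_isIso
      ((Dual3.idealMulι (J.comap g) (Coh.structureModule W)).app (g ⁻¹ᵁ V'))).2 m'
    let t : Γ((Scheme.Modules.pushforward g).obj (idl g J), V') := t'
    have ht : (phi g J).app V' t = m' := ht'
    refine ⟨((Scheme.Modules.pushforward g).obj (idl g J)).presheaf.germ V' y hyV' t,
      (stalkLin_germ (phi g J) y V' hyV' t).trans ?_⟩
    rw [ht]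
    exact TopCat.Presheaf.germ_res_apply (pushO g).presheaf (homOfLE (inf_le_left : V' ≤ V)) y hyV' m

end PartB

section PartC

open Groth.Agent.Lib.Helper1.PT

variable {W X : Scheme.{u}} (g : W ⟶ X)

theorem isFinLocFree_of_isInvertible {Z : Scheme.{u}} (E : Z.Modules) (hE : PicF.IsInvertible E) :
    FlatMod.IsFinLocFree E := by
  intro x
  obtain ⟨U, hxU, ⟨e⟩⟩ := hE x
  refine ⟨U, 1, hxU, ⟨e ≪≫ ?_⟩⟩
  exact (Limits.coproductUniqueIso (fun _ : Fin 1 => Coh.structureModule (↑U : Scheme.{u}))).symm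

/-- the projection formula for twists by powers of an invertible module -/
theorem nonempty_push_twist_iso (L : X.Modules) (hL : PicF.IsInvertible L) (N : W.Modules) (n : ℕ) :
    Nonempty (CohB1.tensorMod ((Scheme.Modules.pushforward g).obj N) (CohB1.tensorPow L n) ≅
      (Scheme.Modules.pushforward g).obj
        (CohB1.tensorMod N (CohB1.tensorPow ((Scheme.Modules.pullback g).obj L) n))) := by
  have hE : PicF.IsInvertible (CohB1.tensorPow L n) :=
    Groth.Agent.Lib.Helper23.SecTw.isInvertible_tensorPow hL n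
  obtain ⟨Φ⟩ := Groth.Agent.Lib.Helper23.PB.nonempty_pullback_tensorPow_iso g L hL n
  let e1 : CohB1.tensorMod ((Scheme.Modules.pushforward g).obj N) (CohB1.tensorPow L n) ≅
      (DCoh.tensorBi.obj (CohB1.tensorPow L n)).obj ((Scheme.Modules.pushforward g).obj N) :=
    ((twIso (CohB1.tensorPow L n)).app ((Scheme.Modules.pushforward g).obj N)).symm
  let e2 := (Groth.Agent.Lib.R2H1.ProjLF.prjIso g (CohB1.tensorPow L n)
    (isFinLocFree_of_isInvertible _ hE)).app N
  let e3 : (DCoh.tensorBi.obj ((Scheme.Modules.pullback g).obj (CohB1.tensorPow L n))).obj N ≅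
      CohB1.tensorMod N ((Scheme.Modules.pullback g).obj (CohB1.tensorPow L n)) :=
    (twIso ((Scheme.Modules.pullback g).obj (CohB1.tensorPow L n))).app N
  let e4 : CohB1.tensorMod N ((Scheme.Modules.pullback g).obj (CohB1.tensorPow L n)) ≅
      CohB1.tensorMod N (CohB1.tensorPow ((Scheme.Modules.pullback g).obj L) n) :=
    Groth.Agent.Lib.Helper23.AmpleIso.tensorModIso (Iso.refl N) Φ
  exact ⟨e1 ≪≫ e2 ≪≫ (Scheme.Modules.pushforward g).mapIso (e3 ≪≫ e4)⟩

/-- Serre vanishing upstairs gives eventual vanishing of `H^1` of the twists of a direct image -/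
theorem P_push (R : Type u) [CommRing R] [IsNoetherianRing R] (gW : W ⟶ Spec (CommRingCat.of R)) [IsProper gW]
    [IsAffineHom g] (L : X.Modules) (hL : PicF.IsInvertible L)
    (hamp : CohB1.IsAmple ((Scheme.Modules.pullback g).obj L)) (N : W.Modules) (hN : Coh.IsCoh N) :
    P L ((Scheme.Modules.pushforward g).obj N) := by
  obtain ⟨n₀, hn₀⟩ := Groth.Agent.Lib.R2H3.AmpleSV.serre_vanishing_ample (A := R) gW _ hamp N hN
  refine ⟨n₀, fun n hn => ?_⟩
  obtain ⟨Φ⟩ := nonempty_push_twist_iso g L hL N n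
  have hq : Coh.IsQCoh (CohB1.tensorMod N (CohB1.tensorPow ((Scheme.Modules.pullback g).obj L) n)) :=
    (Groth.Agent.Lib.R2H3.AmpleSV.isCoh_tensorMod_invertible N _ hN
      (Groth.Agent.Lib.Helper23.SecTw.isInvertible_tensorPow hamp.1 n)).1
  have h1 := (Groth.Agent.Lib.R2H2.ClosedPn.subsingleton_HH_push_iff g _ hq 1).1 (hn₀ n hn 1 Nat.one_pos)
  exact subsingleton_HH_of_iso Φ.symm 1 h1

end PartC

section PartD

open Groth.Agent.Lib.R2H2.FinPush

/-- **Ampleness descends along finite jointly surjective families**, for schemes proper over a Noetherian ring. -/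
theorem isAmple_of_finite_cover (R : Type u) [CommRing R] [IsNoetherianRing R] {X : Scheme.{u}}
    (gX : X ⟶ Spec (CommRingCat.of R)) [IsProper gX] (L : X.Modules) (hL : PicF.IsInvertible L)
    (hcov : ∀ y : X, ∃ (Y : Scheme.{u}) (gY : Y ⟶ Spec (CommRingCat.of R)) (_ : IsProper gY)
      (f : Y ⟶ X) (_ : IsFinite f), y ∈ Set.range f ∧ CohB1.IsAmple ((Scheme.Modules.pullback f).obj L)) :
    CohB1.IsAmple L := by
  classical
  haveI : IsLocallyNoetherian X := LocallyOfFiniteType.isLocallyNoetherian gX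
  haveI : CompactSpace X := QuasiCompact.compactSpace_of_compactSpace gX
  haveI : IsNoetherian X := {}
  have key : ∀ F : X.Modules, Coh.IsCoh F → P L F := by
    intro F hF
    refine Groth.Agent.Lib.R2H2.DevL.devissage_roots (P := P L) (P_zero L)
      (fun S hS _ _ _ h₁ h₃ => P_ext L hL S hS h₁ h₃) (fun F r _ h => P_root L F r h) ?_ F hF
    intro y
    obtain ⟨Y, gY, hgY, f, hf, ⟨η, rfl⟩, hamp⟩ := hcov y
    haveI := hgY
    haveI := hf
    haveI : IsLocallyNoetherian Y := LocallyOfFiniteType.isLocallyNoetherian gY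
    obtain ⟨W, i, hi, hW, -, hgen⟩ := Groth.Agent.Lib.R2H2.DevD.exists_integral_closed
      (closure {η}) isClosed_closure isIrreducible_singleton.closure η rfl
    subst hgen
    haveI := hi
    haveI := hW
    haveI : IsProper (i ≫ gY) := inferInstance
    haveI : IsLocallyNoetherian W := LocallyOfFiniteType.isLocallyNoetherian (i ≫ gY)
    haveI : CompactSpace W := QuasiCompact.compactSpace_of_compactSpace (i ≫ gY)
    haveI : IsNoetherian W := {}
    haveI : IsFinite (i ≫ f) := inferInstance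
    have hO : Coh.IsCoh (Coh.structureModule W) := by
      haveI : SheafOfModules.IsFinitePresentation (R := W.ringCatSheaf) (Coh.structureModule W) :=
        Groth.Agent.Helper18FinFlat.isFinitePresentation_structureModule W
      exact ⟨inferInstance, inferInstance⟩
    have cG : Coh.IsCoh (pushO (i ≫ f)) := Groth.Agent.Lib.R2H2.ClosedPn.isCoh_push (i ≫ f) _ hO
    haveI : (pushO (i ≫ f)).IsQuasicoherent := cG.1
    have hampW : CohB1.IsAmple ((Scheme.Modules.pullback (i ≫ f)).obj L) := by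
      have h1 := Groth.Agent.Lib.Helper23.PB.isAmple_pullback_of_isAffineHom i _ hamp
      exact Groth.Agent.Lib.Helper23.AmpleIso.isAmple_of_iso
        ((Scheme.Modules.pullbackComp i f).app L) h1
    refine ⟨pushO (i ≫ f), cG, nontrivial_stalk_pushO (i ≫ f) (genericPoint W),
      stalk_pushO_smul_eq_zero (i ≫ f) (Coh.structureModule W), fun J hJ => ?_⟩
    have cN : Coh.IsCoh (idl (i ≫ f) J) := Groth.Agent.Lib.R2H2.DevF.isCoh_idealMul _ _ hO
    haveI : (idl (i ≫ f) J).IsQuasicoherent := cN.1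
    refine ⟨(Scheme.Modules.pushforward (i ≫ f)).obj (idl (i ≫ f) J), phi (i ≫ f) J, inferInstance,
      Groth.Agent.Lib.Helper23.QCohLocal.isQuasicoherent_pushforward (i ≫ f) _,
      bijective_stalkLin_phi (i ≫ f) J _ hJ,
      P_push (i ≫ f) R (i ≫ gY) L hL hampW _ cN, phi_comp_un (i ≫ f) J⟩
  refine Groth.Agent.Lib.R2H3.AmpleOfVanish.isAmple_of_hypL L hL ?_
  intro I ι hι hIq
  haveI := hι
  haveI : I.IsQuasicoherent := hIq
  haveI : (Coh.structureModule X).IsQuasicoherent :=
    Groth.Agent.Lib.Helper23.Serre.isQuasicoherent_structureModule' X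
  haveI : SheafOfModules.IsFiniteType (R := X.ringCatSheaf) (Coh.structureModule X) :=
    Groth.Agent.Lib.R2H2.PnFinite.isFiniteType_structureModule X
  have hIft : SheafOfModules.IsFiniteType (R := X.ringCatSheaf) I :=
    Groth.Agent.Lib.Helper23.FinType.isFiniteType_of_mono ι
  obtain ⟨n₀, hn₀⟩ := key I ⟨hIq, hIft⟩
  exact ⟨n₀, hn₀ (n₀ + 1) (Nat.le_succ n₀)⟩

end PartD

end Groth.Agent.Lib.R2H3.AmpleFinite
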