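import Mathlib

/-!
# Graded Noetherianity for families of modules with commuting operators (helper3, round 2)

Pure algebra.  `N k` (`k : ℕ`) are finite modules over a Noetherian ring `R` with commuting `R`-linear operators
`t a k : N k → N (k + 1)` (`a : Fin r`), generated in degrees `≤ d` (i.e. `N (k+1) = Σ_a t a k (N k)` for `k ≥ d`).  The total module
`⨁ k, N k` is a finite module over `R[T_1..T_r]` (`ρ`), hence Noetherian, and

* `exists_bound` : every family of submodules `P k ⊆ N k` stable under the operators satisfies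
  `P (k + 1) ≤ ⨆ a, (P k).map (t a k)` for all large `k`.
-/

set_option autoImplicit false
set_option linter.style.haveILetI false
universe u
open DirectSum

namespace Groth.Agent.Lib.R2H3.GradedNoeth

variable {R : Type u} [CommRing R] {r : ℕ} (N : ℕ → Type u) [∀ k, AddCommGroup (N k)] [∀ k, Module R (N k)]
  (t : Fin r → ∀ k, N k →ₗ[R] N (k + 1))

/-- the shift operator on the total module -/
noncomputable def τ (a : Fin r) : (⨁ k, N k) →ₗ[R] (⨁ k, N k) :=
  DirectSum.toModule R ℕ _ (fun k => (DirectSum.lof R ℕ N (k + 1)).comp (t a k))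

theorem τ_lof (a : Fin r) (k : ℕ) (x : N k) :
    τ N t a (DirectSum.lof R ℕ N k x) = DirectSum.lof R ℕ N (k + 1) (t a k x) := by
  unfold τ
  rw [DirectSum.toModule_lof]
  rfl

theorem τ_apply_succ (a : Fin r) (x : ⨁ k, N k) (k : ℕ) : (τ N t a x) (k + 1) = t a k (x k) := by
  induction x using DirectSum.induction_on with
  | zero => simp
  | of i y =>
    rw [← DirectSum.lof_eq_of R, τ_lof, DirectSum.lof_eq_of, DirectSum.lof_eq_of]
    by_cases h : i = k
    · subst h
      rw [DirectSum.of_eq_same, DirectSum.of_eq_same]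
    · rw [DirectSum.of_eq_of_ne _ _ _ (by omega), DirectSum.of_eq_of_ne _ _ _ (Ne.symm h), map_zero]
  | add x y hx hy => simp only [map_add, DirectSum.add_apply, hx, hy]

theorem τ_apply_zero (a : Fin r) (x : ⨁ k, N k) : (τ N t a x) 0 = 0 := by
  induction x using DirectSum.induction_on with
  | zero => simp
  | of i y =>
    rw [← DirectSum.lof_eq_of R, τ_lof, DirectSum.lof_eq_of]
    exact DirectSum.of_eq_of_ne _ _ _ (by omega)
  | add x y hx hy => simp only [map_add, DirectSum.add_apply, hx, hy, add_zero]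

section comm

variable (hcomm : ∀ (a b : Fin r) (k : ℕ) (x : N k), t a (k + 1) (t b k x) = t b (k + 1) (t a k x))

include hcomm in
theorem τ_comm (a b : Fin r) : τ N t a * τ N t b = τ N t b * τ N t a := by
  apply DirectSum.linearMap_ext
  intro k
  ext x
  simp only [LinearMap.coe_comp, Function.comp_apply, Module.End.mul_apply, τ_lof, hcomm]

/-- the set of shift operators -/
def Ops : Set (Module.End R (⨁ k, N k)) := Set.range (τ N t)

include hcomm in
theorem ops_comm : ∀ x ∈ Ops N t, ∀ y ∈ Ops N t, x * y = y * x := by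
  rintro _ ⟨a, rfl⟩ _ ⟨b, rfl⟩
  exact τ_comm N t hcomm a b

/-- the action of the polynomial ring on the total module -/
noncomputable def ρ : MvPolynomial (Fin r) R →+* Module.End R (⨁ k, N k) :=
  letI : CommRing (Algebra.adjoin R (Ops N t)) :=
    { (inferInstance : Ring (Algebra.adjoin R (Ops N t))) with
      mul_comm := (Algebra.isMulCommutative_adjoin R (ops_comm N t hcomm)).is_comm.comm }
  (Algebra.adjoin R (Ops N t)).val.toRingHom.comp
    (MvPolynomial.aeval (R := R)
      (fun a => (⟨τ N t a, Algebra.subset_adjoin ⟨a, rfl⟩⟩ : Algebra.adjoin R (Ops N t)))).toRingHom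

theorem ρ_X (a : Fin r) : ρ N t hcomm (MvPolynomial.X a) = τ N t a := by
  unfold ρ
  simp

theorem ρ_C (c : R) : ρ N t hcomm (MvPolynomial.C c) = algebraMap R _ c := by
  unfold ρ
  simp

end comm

section noeth

variable (hcomm : ∀ (a b : Fin r) (k : ℕ) (x : N k), t a (k + 1) (t b k x) = t b (k + 1) (t a k x))

/-- an `R`-submodule stable under the shifts is stable under the polynomial action -/
theorem ρ_mem (Q : Submodule R (⨁ k, N k)) (hQ : ∀ a, ∀ x ∈ Q, τ N t a x ∈ Q)
    (p : MvPolynomial (Fin r) R) : ∀ x ∈ Q, ρ N t hcomm p x ∈ Q := by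
  induction p using MvPolynomial.induction_on with
  | C c =>
    intro x hx
    rw [ρ_C, Algebra.algebraMap_eq_smul_one, LinearMap.smul_apply, Module.End.one_apply]
    exact Q.smul_mem c hx
  | add p q hp hq =>
    intro x hx
    rw [map_add, LinearMap.add_apply]
    exact Q.add_mem (hp x hx) (hq x hx)
  | mul_X p a hp =>
    intro x hx
    rw [map_mul, ρ_X, Module.End.mul_apply]
    exact hp _ (hQ a x hx)

variable (hfin : ∀ k, Module.Finite R (N k)) (d : ℕ)
  (hgen : ∀ k, d ≤ k → ∀ y : N (k + 1), y ∈ ⨆ a, LinearMap.range (t a k))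

include hcomm hfin hgen in
/-- Noetherianity of the total module, in terms of shift-stable `R`-submodules -/
theorem exists_finset_of_stable [IsNoetherianRing R] (Q : Submodule R (⨁ k, N k))
    (hQ : ∀ a, ∀ x ∈ Q, τ N t a x ∈ Q) :
    ∃ G : Finset (⨁ k, N k), (↑G : Set (⨁ k, N k)) ⊆ Q ∧
      ∀ Q' : Submodule R (⨁ k, N k), (∀ a, ∀ x ∈ Q', τ N t a x ∈ Q') → (↑G : Set (⨁ k, N k)) ⊆ Q' → Q ≤ Q' := by
  classical
  letI : Module (MvPolynomial (Fin r) R) (⨁ k, N k) := Module.compHom _ (ρ N t hcomm)
  have hsm : ∀ (p : MvPolynomial (Fin r) R) (x : ⨁ k, N k), p • x = ρ N t hcomm p x := fun _ _ => rfl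
  have hC : ∀ (c : R) (x : ⨁ k, N k), (MvPolynomial.C c : MvPolynomial (Fin r) R) • x = c • x := by
    intro c x
    rw [hsm, ρ_C, Algebra.algebraMap_eq_smul_one, LinearMap.smul_apply, Module.End.one_apply]
  have hX : ∀ (a : Fin r) (x : ⨁ k, N k), (MvPolynomial.X a : MvPolynomial (Fin r) R) • x = τ N t a x := by
    intro a x
    rw [hsm, ρ_X]
  -- stable submodules as submodules over the polynomial ring
  let toS : ∀ (Q : Submodule R (⨁ k, N k)), (∀ a, ∀ x ∈ Q, τ N t a x ∈ Q) →
      Submodule (MvPolynomial (Fin r) R) (⨁ k, N k) := fun Q hQ =>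
    { carrier := Q
      add_mem' := Q.add_mem
      zero_mem' := Q.zero_mem
      smul_mem' := fun p x hx => ρ_mem N t hcomm Q hQ p x hx }
  -- the total module is finitely generated
  choose gens hgens using fun k => (hfin k).fg_top
  let G₀ : Finset (⨁ k, N k) :=
    (Finset.range (d + 1)).biUnion (fun k => (gens k).image (DirectSum.lof R ℕ N k))
  have hlof : ∀ k (x : N k), DirectSum.lof R ℕ N k x ∈ Submodule.span (MvPolynomial (Fin r) R) (↑G₀ : Set (⨁ k, N k)) := by
    intro k
    induction k with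
    | zero =>
      intro x
      have hx : x ∈ Submodule.span R (↑(gens 0) : Set (N 0)) := by rw [hgens 0]; trivial
      refine Submodule.span_induction (p := fun x _ => DirectSum.lof R ℕ N 0 x ∈
        Submodule.span (MvPolynomial (Fin r) R) (↑G₀ : Set (⨁ k, N k))) ?_ ?_ ?_ ?_ hx
      · intro y hy
        refine Submodule.subset_span ?_
        simp only [G₀, Finset.coe_biUnion, Finset.coe_range, Set.mem_Iio, Finset.coe_image, Set.mem_iUnion]
        exact ⟨0, by omega, y, hy, rfl⟩
      · rw [map_zero]; exact Submodule.zero_mem _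
      · intro y z _ _ hy hz; rw [map_add]; exact Submodule.add_mem _ hy hz
      · intro c y _ hy
        rw [map_smul, ← hC]
        exact Submodule.smul_mem _ _ hy
    | succ k ih =>
      intro x
      by_cases hk : k + 1 ≤ d
      · have hx : x ∈ Submodule.span R (↑(gens (k + 1)) : Set (N (k + 1))) := by rw [hgens (k + 1)]; trivial
        refine Submodule.span_induction (p := fun x _ => DirectSum.lof R ℕ N (k + 1) x ∈
          Submodule.span (MvPolynomial (Fin r) R) (↑G₀ : Set (⨁ k, N k))) ?_ ?_ ?_ ?_ hx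
        · intro y hy
          refine Submodule.subset_span ?_
          simp only [G₀, Finset.coe_biUnion, Finset.coe_range, Set.mem_Iio, Finset.coe_image, Set.mem_iUnion]
          exact ⟨k + 1, by omega, y, hy, rfl⟩
        · rw [map_zero]; exact Submodule.zero_mem _
        · intro y z _ _ hy hz; rw [map_add]; exact Submodule.add_mem _ hy hz
        · intro c y _ hy
          rw [map_smul, ← hC]
          exact Submodule.smul_mem _ _ hy
      · have hx := hgen k (by omega) x
        refine Submodule.iSup_induction (fun a => LinearMap.range (t a k))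
          (motive := fun x => DirectSum.lof R ℕ N (k + 1) x ∈
            Submodule.span (MvPolynomial (Fin r) R) (↑G₀ : Set (⨁ k, N k))) hx ?_ ?_ ?_
        · rintro a _ ⟨y, rfl⟩
          rw [← τ_lof, ← hX]
          exact Submodule.smul_mem _ _ (ih y)
        · rw [map_zero]; exact Submodule.zero_mem _
        · intro y z hy hz; rw [map_add]; exact Submodule.add_mem _ hy hz
  have htop : (⊤ : Submodule (MvPolynomial (Fin r) R) (⨁ k, N k)).FG := by
    refine ⟨G₀, ?_⟩
    rw [eq_top_iff]
    intro x _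
    induction x using DirectSum.induction_on with
    | zero => exact Submodule.zero_mem _
    | of i y => rw [← DirectSum.lof_eq_of R]; exact hlof i y
    | add x y hx hy => exact Submodule.add_mem _ (hx trivial) (hy trivial)
  haveI : Module.Finite (MvPolynomial (Fin r) R) (⨁ k, N k) := Module.finite_def.2 htop
  haveI : IsNoetherian (MvPolynomial (Fin r) R) (⨁ k, N k) := inferInstance
  obtain ⟨G, hG⟩ := (IsNoetherian.noetherian (toS Q hQ) : (toS Q hQ).FG)
  refine ⟨G, ?_, fun Q' hQ' hGQ' => ?_⟩
  · intro g hg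
    have : g ∈ toS Q hQ := by rw [← hG]; exact Submodule.subset_span hg
    exact this
  · intro x hx
    have hx' : x ∈ toS Q hQ := hx
    rw [← hG] at hx'
    have : Submodule.span (MvPolynomial (Fin r) R) (↑G : Set (⨁ k, N k)) ≤ toS Q' hQ' :=
      Submodule.span_le.2 hGQ'
    exact this hx'

end noeth

section main

variable (hcomm : ∀ (a b : Fin r) (k : ℕ) (x : N k), t a (k + 1) (t b k x) = t b (k + 1) (t a k x))
  (hfin : ∀ k, Module.Finite R (N k)) (d : ℕ)
  (hgen : ∀ k, d ≤ k → ∀ y : N (k + 1), y ∈ ⨆ a, LinearMap.range (t a k))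

include hcomm hfin hgen in
/-- **Graded Noetherianity.**  Let `N k` be finite modules over a Noetherian ring `R` with commuting operators
`t a : N k → N (k + 1)`, generated in degrees `≤ d`.  Every family of submodules `P k ⊆ N k` stable under the operators is
generated in bounded degrees. -/
theorem exists_bound [IsNoetherianRing R] (P : ∀ k, Submodule R (N k))
    (hP : ∀ a k, (P k).map (t a k) ≤ P (k + 1)) :
    ∃ d' : ℕ, ∀ k, d' ≤ k → P (k + 1) ≤ ⨆ a, (P k).map (t a k) := by
  classical
  -- the total submodule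
  let Q₁ : Submodule R (⨁ k, N k) := ⨅ k, (P k).comap (DirectSum.component R ℕ N k)
  have hQ₁mem : ∀ x : ⨁ k, N k, x ∈ Q₁ ↔ ∀ k, x k ∈ P k := by
    intro x
    simp only [Q₁, Submodule.mem_iInf, Submodule.mem_comap]
    rfl
  have hQ₁ : ∀ a, ∀ x ∈ Q₁, τ N t a x ∈ Q₁ := by
    intro a x hx
    rw [hQ₁mem] at hx ⊢
    intro k
    cases k with
    | zero => rw [τ_apply_zero]; exact Submodule.zero_mem _
    | succ k =>
      rw [τ_apply_succ]
      exact hP a k (Submodule.mem_map_of_mem (hx k))
  obtain ⟨G, hGQ, hG⟩ := exists_finset_of_stable N t hcomm hfin d hgen Q₁ hQ₁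
  -- a bound for the degrees of the generators
  let d' : ℕ := G.sup (fun g => (DFinsupp.support g).sup id)
  have hd' : ∀ g ∈ G, ∀ k, d' < k → g k = 0 := by
    intro g hg k hk
    by_contra hne
    have h1 : k ∈ DFinsupp.support g := DFinsupp.mem_support_iff.2 hne
    have h2 : k ≤ (DFinsupp.support g).sup id := Finset.le_sup (f := id) h1
    have h3 : (DFinsupp.support g).sup id ≤ d' := Finset.le_sup (f := fun g => (DFinsupp.support g).sup id) hg
    omega
  refine ⟨d', fun k hk => ?_⟩
  let Q₂ : Submodule R (⨁ k, N k) := Q₁ ⊓ ⨅ j, ⨅ (_ : d' ≤ j),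
    (⨆ a, (P j).map (t a j)).comap (DirectSum.component R ℕ N (j + 1))
  have hQ₂mem : ∀ x : ⨁ k, N k, x ∈ Q₂ ↔ x ∈ Q₁ ∧ ∀ j, d' ≤ j → x (j + 1) ∈ ⨆ a, (P j).map (t a j) := by
    intro x
    simp only [Q₂, Submodule.mem_inf, Submodule.mem_iInf, Submodule.mem_comap]
    rfl
  have hQ₂ : ∀ a, ∀ x ∈ Q₂, τ N t a x ∈ Q₂ := by
    intro a x hx
    rw [hQ₂mem] at hx ⊢
    refine ⟨hQ₁ a x hx.1, fun j _ => ?_⟩
    rw [τ_apply_succ]
    have hxj : x j ∈ P j := (hQ₁mem x).1 hx.1 j
    exact Submodule.mem_iSup_of_mem a (Submodule.mem_map_of_mem hxj)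
  have hGQ₂ : (↑G : Set (⨁ k, N k)) ⊆ Q₂ := by
    intro g hg
    rw [SetLike.mem_coe, hQ₂mem]
    refine ⟨hGQ hg, fun j hj => ?_⟩
    rw [hd' g hg (j + 1) (by omega)]
    exact Submodule.zero_mem _
  have hle := hG Q₂ hQ₂ hGQ₂
  intro y hy
  have h1 : DirectSum.lof R ℕ N (k + 1) y ∈ Q₁ := by
    rw [hQ₁mem]
    intro j
    rw [DirectSum.lof_eq_of]
    by_cases hj : j = k + 1
    · subst hj
      rw [DirectSum.of_eq_same]
      exact hy
    · rw [DirectSum.of_eq_of_ne _ _ _ hj]
      exact Submodule.zero_mem _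
  have h2 := ((hQ₂mem _).1 (hle h1)).2 k hk
  rwa [DirectSum.lof_eq_of, DirectSum.of_eq_same] at h2

end main

end Groth.Agent.Lib.R2H3.GradedNoeth
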