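import Mathlib
import Groth.Agent.Lib.R2H3GradedNoeth
import Groth.Agent.Lib.Helper26ModLim
import Groth.Agent.Lib.R2H2PdSheaf
import Groth.Agent.Lib.R2H2NilFilt
import Groth.Agent.Lib.R2H2PnSerre
import Groth.Agent.Lib.R2H2HHLin
import Groth.Agent.Lib.Helper23SecTw6

/-!
# Uniform Serre vanishing for finitely generated graded families of coherent modules (helper3, round 2)

An `OpFam X r` is a sequence of `O_X`-modules `M k` with `r` commuting operators `T a k : M k ⟶ M (k+1)`
(a "graded module over `O_X[T_1..T_r]`").  It is generated in degrees `≤ d` over an affine open `U` (`GenOn`) if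
`Γ(U, M (k+1)) = Σ_a T_a Γ(U, M k)` for `k ≥ d`.

* `uniform_vanishing` : `X` Noetherian, `L` invertible such that Serre vanishing holds for every coherent module (`hSV`).  For a family
  of coherent modules which is finitely generated over every affine open, there is `n₀` with `H^q(X, M k ⊗ L^n) = 0` for all
  `n ≥ n₀`, all `k` and all `q > 0`.
-/

set_option autoImplicit false
set_option linter.style.haveILetI false
universe u
open CategoryTheory CategoryTheory.Limits AlgebraicGeometry TopologicalSpace Opposite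

namespace Groth.Agent.Lib.R2H3.GradedFam

open Groth.Agent.Lib.Helper20.Thickening Groth.Agent.Lib.Helper26.ModSec Groth.Agent.Lib.R2H2.HHLin
  Groth.Agent.Lib.R2H2.PnSerre

/-- a sequence of modules with `r` commuting operators of degree one -/
structure OpFam (X : Scheme.{u}) (r : ℕ) where
  M : ℕ → X.Modules
  T : Fin r → ∀ k, M k ⟶ M (k + 1)
  comm : ∀ a b k, T a k ≫ T b (k + 1) = T b k ≫ T a (k + 1)

variable {X : Scheme.{u}} {r : ℕ}

/-- sections of the family over an affine open -/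
abbrev Nsec (F : OpFam X r) {U : X.Opens} (hU : IsAffineOpen U) (k : ℕ) : Type u := (ΓUF hU).obj (F.M k)

/-- the operators on sections over an affine open -/
noncomputable abbrev tsec (F : OpFam X r) {U : X.Opens} (hU : IsAffineOpen U) (a : Fin r) (k : ℕ) :
    Nsec F hU k →ₗ[Γ(X, U)] Nsec F hU (k + 1) := ((ΓUF hU).map (F.T a k)).hom

/-- generated in degrees `≤ d` over the affine open `U` -/
def GenOn (F : OpFam X r) {U : X.Opens} (hU : IsAffineOpen U) (d : ℕ) : Prop :=
  ∀ k, d ≤ k → ∀ y : Nsec F hU (k + 1), y ∈ ⨆ a, LinearMap.range (tsec F hU a k)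

theorem tsec_comm (F : OpFam X r) {U : X.Opens} (hU : IsAffineOpen U) (a b : Fin r) (k : ℕ) (x : Nsec F hU k) :
    tsec F hU a (k + 1) (tsec F hU b k x) = tsec F hU b (k + 1) (tsec F hU a k x) := by
  change ((ΓUF hU).map (F.T b k) ≫ (ΓUF hU).map (F.T a (k + 1))).hom x =
    ((ΓUF hU).map (F.T a k) ≫ (ΓUF hU).map (F.T b (k + 1))).hom x
  rw [← Functor.map_comp, ← Functor.map_comp, F.comm]

namespace OpFam

variable (F : OpFam X (r + 1))

/-- the kernels of the last operator -/
noncomputable def ker : OpFam X r where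
  M k := kernel (F.T (Fin.last r) k)
  T a k := kernel.map _ _ (F.T a.castSucc k) (F.T a.castSucc (k + 1)) (F.comm (Fin.last r) a.castSucc k)
  comm a b k := by
    apply equalizer.hom_ext
    simp [kernel.map, F.comm a.castSucc b.castSucc k]

/-- the cokernels of the last operator -/
noncomputable def coker : OpFam X r where
  M k := cokernel (F.T (Fin.last r) k)
  T a k := cokernel.map _ _ (F.T a.castSucc k) (F.T a.castSucc (k + 1)) (F.comm (Fin.last r) a.castSucc k)
  comm a b k := by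
    apply coequalizer.hom_ext
    simp only [cokernel.map, cokernel.π_desc_assoc, Category.assoc, cokernel.π_desc]
    rw [← Category.assoc, F.comm a.castSucc b.castSucc (k + 1), Category.assoc]

/-- the inclusion of the kernel family -/
noncomputable def kerι (k : ℕ) : F.ker.M k ⟶ F.M k := kernel.ι (F.T (Fin.last r) k)

/-- the projection onto the cokernel family -/
noncomputable def cokerπ (k : ℕ) : F.M (k + 1) ⟶ F.coker.M k := cokernel.π (F.T (Fin.last r) k)

instance (k : ℕ) : Mono (F.kerι k) := inferInstanceAs (Mono (kernel.ι (F.T (Fin.last r) k)))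

instance (k : ℕ) : Epi (F.cokerπ k) := inferInstanceAs (Epi (cokernel.π (F.T (Fin.last r) k)))

theorem kerι_T (k : ℕ) : F.kerι k ≫ F.T (Fin.last r) k = 0 := kernel.condition _

theorem T_cokerπ (k : ℕ) : F.T (Fin.last r) k ≫ F.cokerπ k = 0 := cokernel.condition _

theorem ker_T_ι (a : Fin r) (k : ℕ) :
    F.ker.T a k ≫ F.kerι (k + 1) = F.kerι k ≫ F.T a.castSucc k := by
  simp [ker, kerι, kernel.map]

theorem π_coker_T (a : Fin r) (k : ℕ) :
    F.cokerπ k ≫ F.coker.T a k = F.T a.castSucc (k + 1) ≫ F.cokerπ (k + 1) := by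
  simp [coker, cokerπ, cokernel.map]

theorem exact_ker (k : ℕ) : (ShortComplex.mk (F.kerι k) (F.T (Fin.last r) k) (F.kerι_T k)).Exact :=
  ShortComplex.exact_kernel (F.T (Fin.last r) k)

theorem isQuasicoherent_ker (hq : ∀ k, (F.M k).IsQuasicoherent) (k : ℕ) : (F.ker.M k).IsQuasicoherent := by
  haveI := hq k
  haveI := hq (k + 1)
  exact Groth.Agent.Lib.Helper23.QCohLocal.isQuasicoherent_kernel (F.T (Fin.last r) k)

theorem isQuasicoherent_coker (hq : ∀ k, (F.M k).IsQuasicoherent) (k : ℕ) : (F.coker.M k).IsQuasicoherent := by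
  haveI := hq k
  haveI := hq (k + 1)
  exact Groth.Agent.Lib.Helper23.QCohLocal.isQuasicoherent_cokernel (F.T (Fin.last r) k)

theorem isCoh_ker [IsLocallyNoetherian X] (hcoh : ∀ k, Coh.IsCoh (F.M k)) (k : ℕ) : Coh.IsCoh (F.ker.M k) :=
  Groth.Agent.Lib.R2H2.PdSheaf.isCoh_kernel (hcoh k) (hcoh (k + 1)) (F.T (Fin.last r) k)

theorem isCoh_coker (hcoh : ∀ k, Coh.IsCoh (F.M k)) (k : ℕ) : Coh.IsCoh (F.coker.M k) :=
  Groth.Agent.Lib.R2H2.NilFilt.isCoh_cokernel (hcoh k) (hcoh (k + 1)) (F.T (Fin.last r) k)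

end OpFam

/-- the cokernel family is generated in the same degrees -/
theorem genOn_coker (F : OpFam X (r + 1)) (hq : ∀ k, (F.M k).IsQuasicoherent) {U : X.Opens} (hU : IsAffineOpen U)
    (d : ℕ) (hgen : GenOn F hU d) : GenOn F.coker hU d := by
  intro k hk y
  haveI := hq (k + 1 + 1)
  haveI := F.isQuasicoherent_coker hq (k + 1)
  have hepi : Epi ((ΓUF hU).map (F.cokerπ (k + 1))) := epi_ΓUF_map _ hU
  obtain ⟨y', rfl⟩ := (ModuleCat.epi_iff_surjective _).1 hepi y
  have hy' := hgen (k + 1) (by omega) y'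
  have hle : (⨆ a, LinearMap.range (tsec F hU a (k + 1))) ≤
      Submodule.comap ((ΓUF hU).map (F.cokerπ (k + 1))).hom
        (⨆ a, LinearMap.range (tsec F.coker hU a k)) := by
    refine iSup_le fun a => ?_
    rintro _ ⟨x, rfl⟩
    rw [Submodule.mem_comap]
    induction a using Fin.lastCases with
    | last =>
      have h0 : ((ΓUF hU).map (F.cokerπ (k + 1))).hom (tsec F hU (Fin.last r) (k + 1) x) = 0 := by
        change ((ΓUF hU).map (F.T (Fin.last r) (k + 1)) ≫ (ΓUF hU).map (F.cokerπ (k + 1))).hom x = 0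
        rw [← Functor.map_comp, ΓUF_map_eq_zero _ hU (F.T_cokerπ (k + 1))]
        rfl
      rw [h0]
      exact Submodule.zero_mem _
    | cast a =>
      have h1 : ((ΓUF hU).map (F.cokerπ (k + 1))).hom (tsec F hU a.castSucc (k + 1) x) =
          tsec F.coker hU a k (((ΓUF hU).map (F.cokerπ k)).hom x) := by
        change ((ΓUF hU).map (F.T a.castSucc (k + 1)) ≫ (ΓUF hU).map (F.cokerπ (k + 1))).hom x =
          ((ΓUF hU).map (F.cokerπ k) ≫ (ΓUF hU).map (F.coker.T a k)).hom x
        rw [← Functor.map_comp, ← Functor.map_comp, OpFam.π_coker_T]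
      rw [h1]
      exact Submodule.mem_iSup_of_mem a ⟨_, rfl⟩
  exact hle hy'

/-- **the kernel family is finitely generated** (graded Noetherianity) -/
theorem genOn_ker [IsLocallyNoetherian X] (F : OpFam X (r + 1)) (hcoh : ∀ k, Coh.IsCoh (F.M k)) {U : X.Opens}
    (hU : IsAffineOpen U) (d : ℕ) (hgen : GenOn F hU d) : ∃ d', GenOn F.ker hU d' := by
  classical
  haveI : IsNoetherianRing Γ(X, U) := IsLocallyNoetherian.component_noetherian ⟨U, hU⟩
  have hq : ∀ k, (F.M k).IsQuasicoherent := fun k => (hcoh k).1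
  have hfin : ∀ k, Module.Finite Γ(X, U) (Nsec F hU k) := fun k => by
    haveI := hq k
    exact Groth.Agent.Lib.Helper26.ModLim.finite_ΓUF (F.M k) (hcoh k).2 hU
  let P : ∀ k, Submodule Γ(X, U) (Nsec F hU k) := fun k => LinearMap.ker (tsec F hU (Fin.last r) k)
  have hP : ∀ a k, (P k).map (tsec F hU a k) ≤ P (k + 1) := by
    rintro a k _ ⟨x, hx, rfl⟩
    change tsec F hU (Fin.last r) (k + 1) (tsec F hU a k x) = 0
    rw [tsec_comm, (hx : tsec F hU (Fin.last r) k x = 0), map_zero]
  obtain ⟨d', hd'⟩ := GradedNoeth.exists_bound (Nsec F hU) (tsec F hU) (tsec_comm F hU) hfin d hgen P hP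
  refine ⟨d', fun k hk y => ?_⟩
  let ι : ∀ k, Nsec F.ker hU k →ₗ[Γ(X, U)] Nsec F hU k := fun k => ((ΓUF hU).map (F.kerι k)).hom
  have hιinj : ∀ k, Function.Injective (ι k) := fun k => by
    haveI := hq k
    haveI := F.isQuasicoherent_ker hq k
    have hm : Mono ((ΓUF hU).map (F.kerι k)) := mono_ΓUF_map _ hU
    exact (ModuleCat.mono_iff_injective _).1 hm
  have hιrange : ∀ k, ∀ x ∈ P k, ∃ x', ι k x' = x := fun k x hx => by
    have hex := (F.exact_ker k).map_of_mono_of_preservesKernel (ΓUF hU)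
      (inferInstanceAs (Mono (F.kerι k))) inferInstance
    have hfe := (ShortComplex.ShortExact.moduleCat_exact_iff_function_exact _).1 hex
    exact (hfe x).1 hx
  have hιT : ∀ (a : Fin r) (k : ℕ) (x : Nsec F.ker hU k),
      ι (k + 1) (tsec F.ker hU a k x) = tsec F hU a.castSucc k (ι k x) := fun a k x => by
    change ((ΓUF hU).map (F.ker.T a k) ≫ (ΓUF hU).map (F.kerι (k + 1))).hom x =
      ((ΓUF hU).map (F.kerι k) ≫ (ΓUF hU).map (F.T a.castSucc k)).hom x
    rw [← Functor.map_comp, ← Functor.map_comp, OpFam.ker_T_ι]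
  have hmem : ι (k + 1) y ∈ P (k + 1) := by
    change ((ΓUF hU).map (F.kerι (k + 1)) ≫ (ΓUF hU).map (F.T (Fin.last r) (k + 1))).hom y = 0
    rw [← Functor.map_comp, ΓUF_map_eq_zero _ hU (F.kerι_T (k + 1))]
    rfl
  have h1 := hd' k hk hmem
  have hle : (⨆ a, (P k).map (tsec F hU a k)) ≤
      Submodule.map (ι (k + 1)) (⨆ a, LinearMap.range (tsec F.ker hU a k)) := by
    refine iSup_le fun a => ?_
    rintro _ ⟨x, hx, rfl⟩
    induction a using Fin.lastCases with
    | last =>
      rw [(hx : tsec F hU (Fin.last r) k x = 0)]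
      exact Submodule.zero_mem _
    | cast a =>
      obtain ⟨x', rfl⟩ := hιrange k x hx
      rw [← hιT]
      exact Submodule.mem_map_of_mem (Submodule.mem_iSup_of_mem a ⟨_, rfl⟩)
  obtain ⟨y', hy', hyy'⟩ := hle h1
  rwa [hιinj _ hyy'] at hy'

/-! ### the two short exact sequences of the last operator -/

namespace OpFam

variable (F : OpFam X (r + 1))

theorem kerι_factorThruImage (k : ℕ) : F.kerι k ≫ Abelian.factorThruImage (F.T (Fin.last r) k) = 0 := by
  rw [← cancel_mono (Abelian.image.ι (F.T (Fin.last r) k)), Category.assoc, Abelian.image.fac, zero_comp]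
  exact F.kerι_T k

/-- `0 → ker T → M k → im T → 0` -/
theorem ses1 (k : ℕ) :
    (ShortComplex.mk (F.kerι k) (Abelian.factorThruImage (F.T (Fin.last r) k)) (F.kerι_factorThruImage k)).ShortExact :=
  Groth.Agent.Lib.R2H2.PdSheaf.shortExact_of_factor (F.kerι k) (F.T (Fin.last r) k) (F.kerι_T k)
    (kernelIsKernel (F.T (Fin.last r) k)) (Abelian.factorThruImage (F.T (Fin.last r) k))
    (Abelian.image.ι (F.T (Fin.last r) k)) (Abelian.image.fac _) _

theorem imageι_cokerπ (k : ℕ) : Abelian.image.ι (F.T (Fin.last r) k) ≫ F.cokerπ k = 0 :=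
  kernel.condition (cokernel.π (F.T (Fin.last r) k))

/-- `0 → im T → M (k+1) → coker T → 0` -/
theorem ses2 (k : ℕ) :
    (ShortComplex.mk (Abelian.image.ι (F.T (Fin.last r) k)) (F.cokerπ k) (F.imageι_cokerπ k)).ShortExact where
  exact := ShortComplex.exact_kernel (cokernel.π (F.T (Fin.last r) k))
  mono_f := inferInstanceAs (Mono (Abelian.image.ι (F.T (Fin.last r) k)))
  epi_g := inferInstanceAs (Epi (F.cokerπ k))

end OpFam

theorem subsingleton_HH_of_isZero {M : X.Modules} (h : IsZero M) (q : ℕ) : Subsingleton (Coh.HH X M q) := by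
  have hx : ∀ x : Coh.HH X M q, x = 0 := fun x => by
    rw [← HmapL_id M q x, h.eq_of_src (𝟙 M) 0, HmapL_zero]
  exact ⟨fun x y => by rw [hx x, hx y]⟩

theorem subsingleton_X₃ (S : ShortComplex X.Modules) (hS : S.ShortExact) (q : ℕ)
    (h2 : Subsingleton (Coh.HH X S.X₂ q)) (h1 : Subsingleton (Coh.HH X S.X₁ (q + 1))) :
    Subsingleton (Coh.HH X S.X₃ q) := by
  have key : ∀ x : Coh.HH X S.X₃ q, x = 0 := fun x => by
    obtain ⟨y, hy⟩ := exact₃ S hS q x (Subsingleton.elim _ _)
    rw [← hy, Subsingleton.elim y 0, map_zero]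
  exact ⟨fun a b => by rw [key a, key b]⟩

theorem subsingleton_X₂ (S : ShortComplex X.Modules) (hS : S.ShortExact) (q : ℕ)
    (h1 : Subsingleton (Coh.HH X S.X₁ q)) (h3 : Subsingleton (Coh.HH X S.X₃ q)) :
    Subsingleton (Coh.HH X S.X₂ q) := by
  have key : ∀ x : Coh.HH X S.X₂ q, x = 0 := fun x => by
    obtain ⟨y, hy⟩ := exact₂ S hS q x (Subsingleton.elim _ _)
    rw [← hy, Subsingleton.elim y 0, map_zero]
  exact ⟨fun a b => by rw [key a, key b]⟩

/-- **Uniform Serre vanishing** for finitely generated graded families of coherent modules. -/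
theorem uniform_vanishing [IsNoetherian X] (L : X.Modules) (hL : PicF.IsInvertible L)
    (hSV : ∀ K : X.Modules, Coh.IsCoh K → ∃ n₀ : ℕ, ∀ n : ℕ, n₀ ≤ n → ∀ q : ℕ, 0 < q →
      Subsingleton (Coh.HH X (CohB1.tensorMod K (CohB1.tensorPow L n)) q)) :
    ∀ (r : ℕ) (F : OpFam X r), (∀ k, Coh.IsCoh (F.M k)) →
      (∀ (U : X.Opens) (hU : IsAffineOpen U), ∃ d, GenOn F hU d) →
      ∃ n₀ : ℕ, ∀ n : ℕ, n₀ ≤ n → ∀ k q : ℕ, 0 < q →
        Subsingleton (Coh.HH X (CohB1.tensorMod (F.M k) (CohB1.tensorPow L n)) q) := by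
  classical
  intro r
  induction r with
  | zero =>
    intro F hcoh hgen
    obtain ⟨s, hs⟩ := Groth.Agent.Lib.Helper26.ModLim.exists_finite_affine_cover X
    choose d hd using fun k : s => hgen k.1.1 k.1.2
    let D : ℕ := Finset.univ.sup d
    have hzero : ∀ k, D ≤ k → IsZero (F.M (k + 1)) := by
      intro k hk
      haveI := (hcoh (k + 1)).1
      rw [IsZero.iff_id_eq_zero]
      refine (zero_iff_ΓUF (𝟙 _) (fun k : s => (k.1 : X.Opens)) hs (fun k => k.1.2)).2 fun i => ?_
      have hsub : ∀ y : Nsec F i.1.2 (k + 1), y = 0 := fun y => by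
        have h1 := hd i k (le_trans (Finset.le_sup (Finset.mem_univ i)) hk) y
        rw [iSup_of_empty] at h1
        exact (Submodule.mem_bot _).1 h1
      apply ModuleCat.hom_ext
      apply LinearMap.ext
      intro y
      rw [hsub y, map_zero, map_zero]
    choose n₀ hn₀ using fun k => hSV (F.M k) (hcoh k)
    refine ⟨(Finset.range (D + 1)).sup n₀, fun n hn k q hq => ?_⟩
    by_cases hk : k ≤ D
    · exact hn₀ k n (le_trans (Finset.le_sup (Finset.mem_range.2 (by omega))) hn) q hq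
    · obtain ⟨k', rfl⟩ : ∃ k', k = k' + 1 := ⟨k - 1, by omega⟩
      have hz := hzero k' (by omega)
      exact subsingleton_HH_of_isZero ((twR (CohB1.tensorPow L n)).map_isZero hz) q
  | succ r ih =>
    intro F hcoh hgen
    have hq : ∀ k, (F.M k).IsQuasicoherent := fun k => (hcoh k).1
    obtain ⟨nK, hnK⟩ := ih F.ker (F.isCoh_ker hcoh) (fun U hU => by
      obtain ⟨d, hd⟩ := hgen U hU
      exact genOn_ker F hcoh hU d hd)
    obtain ⟨nC, hnC⟩ := ih F.coker (F.isCoh_coker hcoh) (fun U hU => by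
      obtain ⟨d, hd⟩ := hgen U hU
      exact ⟨d, genOn_coker F hq hU d hd⟩)
    obtain ⟨n0, hn0⟩ := hSV (F.M 0) (hcoh 0)
    refine ⟨max (max nK nC) n0, fun n hn k => ?_⟩
    induction k with
    | zero =>
      intro q hq'
      exact hn0 n (by omega) q hq'
    | succ k ihk =>
      intro q hq'
      have hL' := Groth.Agent.Lib.Helper23.SecTw.isInvertible_tensorPow hL n
      have hS1 := shortExact_map_twR (CohB1.tensorPow L n) hL' _ (F.ses1 k)
      have hS2 := shortExact_map_twR (CohB1.tensorPow L n) hL' _ (F.ses2 k)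
      have hI := subsingleton_X₃ _ hS1 q (ihk q hq') (hnK n (by omega) k (q + 1) (by omega))
      exact subsingleton_X₂ _ hS2 q hI (hnC n (by omega) k q hq')

/-! ### a criterion in terms of sections -/

open Groth.Agent.Lib.Helper20.PullbackAff in
theorem ΓUF_map_toΓUF {U : X.Opens} (hU : IsAffineOpen U) {M N : X.Modules} (φ : M ⟶ N) (y : Γ(M, U)) :
    ((ΓUF hU).map φ).hom (toΓUF hU M y) = toΓUF hU N (φ.app U y) := by
  change φ.app (hU.fromSpec ''ᵁ ⊤) (M.presheaf.map (homOfLE (Groth.Agent.Lib.Helper2.QCoh.fromSpec_image_le hU ⊤)).op y) =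
    N.presheaf.map (homOfLE (Groth.Agent.Lib.Helper2.QCoh.fromSpec_image_le hU ⊤)).op (φ.app U y)
  exact congr($((Scheme.Modules.Hom.mapPresheaf φ).naturality (homOfLE (Groth.Agent.Lib.Helper2.QCoh.fromSpec_image_le hU ⊤)).op) y)

open Groth.Agent.Lib.Helper20.PullbackAff in
/-- generation can be checked on sections `Γ(M k, U)` -/
theorem genOn_of_sections (F : OpFam X r) {U : X.Opens} (hU : IsAffineOpen U) (d : ℕ)
    (h : ∀ k, d ≤ k → ∀ y : Γ(F.M (k + 1), U), ∃ x : Fin r → Γ(F.M k, U),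
      y = ∑ a, (F.T a k).app U (x a)) : GenOn F hU d := by
  intro k hk y'
  obtain ⟨y, rfl⟩ := (toΓUF_bijective hU (F.M (k + 1))).2 y'
  obtain ⟨x, hx⟩ := h k hk y
  rw [hx, map_sum]
  refine Submodule.sum_mem _ fun a _ => ?_
  rw [← ΓUF_map_toΓUF]
  exact Submodule.mem_iSup_of_mem a ⟨_, rfl⟩

end Groth.Agent.Lib.R2H3.GradedFam
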