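import Mathlib
import Groth.Prelude.Def_Formal
import Groth.Prelude.Def_ega3
import Groth.Agent.S9530
import Groth.Agent.Lib.R2H3GradedFam
import Groth.Agent.Lib.R2H2FlatDev
import Groth.Agent.Lib.Helper20StalkExact

/-!
# The graded family of kernels of a coherent formal module (helper3, round 2)

`G : ℕᵒᵖ ⥤ X.Modules` a coherent formal module for the ideal `I = (a_1, .., a_r)` of the base ring `A`.  The kernels
`K_n = Ker(G_{n+1} → G_n) = I^{n+1} G_{n+1}` form a graded family with operators "multiplication by `a_j`"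
(`kerFam`), generated in degree `0` over every affine open (`genOn_kerFam`).

* `uniform_vanishing_kernels` : if Serre vanishing holds for `L` on `X` (Noetherian), there is `n₀` with
  `H^q(X, K_n ⊗ L^d) = 0` for all `n`, all `d ≥ n₀`, all `q > 0`.
-/

set_option autoImplicit false
set_option linter.style.haveILetI false
universe u
open CategoryTheory CategoryTheory.Limits AlgebraicGeometry TopologicalSpace Opposite

namespace Groth.Agent.Lib.R2H3.FormalKer

open Groth.Agent.Lib.R2H3.GradedFam Groth.Agent.Lib.R2H2.FlatDev Groth.Agent.Lib.R2H2.SheafBC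

/-! ### algebra -/

theorem exists_sum_of_mem_smul {R N : Type*} [CommRing R] [AddCommGroup N] [Module R N] {r : ℕ} (g : Fin r → R)
    (𝔟 : Ideal R) (y : N) (hy : y ∈ (Ideal.span (Set.range g) * 𝔟) • (⊤ : Submodule R N)) :
    ∃ z : Fin r → N, (∀ j, z j ∈ 𝔟 • (⊤ : Submodule R N)) ∧ y = ∑ j, g j • z j := by
  rw [Submodule.mul_smul] at hy
  refine Submodule.smul_induction_on hy ?_ ?_
  · intro c hc w hw
    obtain ⟨c', rfl⟩ := (Ideal.mem_span_range_iff_exists_fun).1 hc
    refine ⟨fun j => c' j • w, fun j => Submodule.smul_mem _ _ hw, ?_⟩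
    rw [Finset.sum_smul]
    refine Finset.sum_congr rfl fun j _ => ?_
    rw [mul_comm, mul_smul]
  · rintro y₁ y₂ ⟨z₁, hz₁, rfl⟩ ⟨z₂, hz₂, rfl⟩
    refine ⟨fun j => z₁ j + z₂ j, fun j => Submodule.add_mem _ (hz₁ j) (hz₂ j), ?_⟩
    rw [← Finset.sum_add_distrib]
    refine Finset.sum_congr rfl fun j _ => ?_
    rw [smul_add]

variable {A : Type u} [CommRing A] {X : Scheme.{u}} [X.Over (Spec (CommRingCat.of A))]
  {I : Ideal A} {G : ℕᵒᵖ ⥤ X.Modules}

/-- the transition map `G_{n+1} → G_n` -/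
abbrev tr (G : ℕᵒᵖ ⥤ X.Modules) (n : ℕ) : G.obj (op (n + 1)) ⟶ G.obj (op n) :=
  G.map (homOfLE (Nat.le_succ n)).op

section

variable (hG : Formal.IsCohFormal I G)

include hG in
theorem epi_tr (n : ℕ) : Epi (tr G n) := Groth.Agent.S9530.epi_succ hG n

include hG in
theorem exists_abar (a : A) (ha : a ∈ I) (n : ℕ) :
    ∃ g : G.obj (op n) ⟶ G.obj (op (n + 1)), tr G n ≫ g = Formal.smulMod A (G.obj (op (n + 1))) a := by
  refine Groth.Agent.S9530.exists_factor hG n (n + 1) (Nat.le_succ n) _ _ fun b hb => ?_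
  rw [← CohIII.smulMod_mul]
  refine hG.2.1 (n + 1) (a * b) ?_
  rw [pow_succ' I (n + 1)]
  exact Ideal.mul_mem_mul ha hb

/-- "multiplication by `a ∈ I`" `G_n → G_{n+1}` -/
noncomputable def abar (a : A) (ha : a ∈ I) (n : ℕ) : G.obj (op n) ⟶ G.obj (op (n + 1)) :=
  (exists_abar hG a ha n).choose

theorem tr_abar (a : A) (ha : a ∈ I) (n : ℕ) :
    tr G n ≫ abar hG a ha n = Formal.smulMod A (G.obj (op (n + 1))) a :=
  (exists_abar hG a ha n).choose_spec

theorem abar_tr (a : A) (ha : a ∈ I) (n : ℕ) :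
    abar hG a ha n ≫ tr G n = Formal.smulMod A (G.obj (op n)) a := by
  haveI := epi_tr hG n
  rw [← cancel_epi (tr G n), ← Category.assoc, tr_abar, Groth.Agent.S9530.smulMod_comp]

theorem abar_comm (a b : A) (ha : a ∈ I) (hb : b ∈ I) (n : ℕ) :
    abar hG a ha n ≫ abar hG b hb (n + 1) = abar hG b hb n ≫ abar hG a ha (n + 1) := by
  haveI := epi_tr hG n
  haveI := epi_tr hG (n + 1)
  rw [← cancel_epi (tr G n), ← Category.assoc, ← Category.assoc, tr_abar, tr_abar,
    Groth.Agent.S9530.smulMod_comp, Groth.Agent.S9530.smulMod_comp,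
    ← cancel_epi (tr G (n + 1)), ← Category.assoc, ← Category.assoc, tr_abar, tr_abar,
    ← CohIII.smulMod_mul, ← CohIII.smulMod_mul, mul_comm]

include hG in
theorem kerι_smulMod (a : A) (ha : a ∈ I) (n : ℕ) :
    kernel.ι (tr G n) ≫ Formal.smulMod A (G.obj (op (n + 1))) a = 0 := by
  rw [← tr_abar hG a ha n, ← Category.assoc, kernel.condition, zero_comp]

/-- the operator "multiplication by `a ∈ I`" on the kernels -/
noncomputable def Top (a : A) (ha : a ∈ I) (n : ℕ) : kernel (tr G n) ⟶ kernel (tr G (n + 1)) :=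
  kernel.lift _ (kernel.ι (tr G n) ≫ abar hG a ha (n + 1)) (by
    rw [Category.assoc, abar_tr, kerι_smulMod hG a ha])

theorem Top_ι (a : A) (ha : a ∈ I) (n : ℕ) :
    Top hG a ha n ≫ kernel.ι (tr G (n + 1)) = kernel.ι (tr G n) ≫ abar hG a ha (n + 1) :=
  kernel.lift_ι _ _ _

/-- the graded family of the kernels `K_n = Ker(G_{n+1} → G_n)` -/
noncomputable def kerFam {r : ℕ} (a : Fin r → A) (ha : ∀ j, a j ∈ I) : OpFam X r where
  M k := kernel (tr G k)
  T j k := Top hG (a j) (ha j) k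
  comm j j' k := by
    rw [← cancel_mono (kernel.ι (tr G (k + 1 + 1))), Category.assoc, Category.assoc, Top_ι, Top_ι,
      ← Category.assoc, ← Category.assoc, Top_ι, Top_ι, Category.assoc, Category.assoc, abar_comm]

theorem isCoh_kerFam [IsLocallyNoetherian X] {r : ℕ} (a : Fin r → A) (ha : ∀ j, a j ∈ I) (k : ℕ) :
    Coh.IsCoh ((kerFam hG a ha).M k) :=
  Groth.Agent.Lib.R2H2.PdSheaf.isCoh_kernel (hG.1 (k + 1)) (hG.1 k) (tr G k)

end

/-! ### sections -/

open Groth.Agent.Lib.Helper20.StalkExact in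
theorem exists_app_kernelι {M N : X.Modules} (φ : M ⟶ N) (V : X.Opens) (t : Γ(M, V)) (ht : φ.app V t = 0) :
    ∃ s : Γ(kernel φ, V), (kernel.ι φ).app V s = t := by
  haveI : (secF (X := X) V).PreservesZeroMorphisms := ⟨fun _ _ => rfl⟩
  have h1 : ((ShortComplex.mk (kernel.ι φ) φ (kernel.condition φ)).map (secF V)).Exact :=
    (ShortComplex.exact_kernel φ).map_of_mono_of_preservesKernel (secF V)
      (inferInstanceAs (Mono (kernel.ι φ))) inferInstance
  rw [ShortComplex.ab_exact_iff] at h1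
  exact h1 t ht

theorem app_mem_JS (J : Ideal A) {M N : X.Modules} (φ : M ⟶ N) (U : X.Opens) (x : Γ(M, U)) (hx : x ∈ JS J M U) :
    φ.app U x ∈ JS J N U := by
  unfold JS at hx ⊢
  refine Submodule.smul_induction_on hx ?_ ?_
  · intro c hc w _
    rw [Scheme.Modules.Hom.app_smul]
    exact Submodule.smul_mem_smul hc Submodule.mem_top
  · intro y₁ y₂ h₁ h₂
    rw [map_add]
    exact Submodule.add_mem _ h₁ h₂

section gen

variable (hG : Formal.IsCohFormal I G)

include hG in
theorem exists_tr_eq (n : ℕ) : ∃ e : modJ (I ^ (n + 1)) (G.obj (op (n + 1))) ≅ G.obj (op n),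
    tr G n = πJ (I ^ (n + 1)) (G.obj (op (n + 1))) ≫ e.hom := by
  obtain ⟨h, hI⟩ := hG.2.2 n
  haveI := hI
  let e0 := asIso (cokernel.desc _ _ h)
  exact ⟨e0, (cokernel.π_desc _ _ h).symm⟩

include hG in
theorem tr_app_eq_zero_iff (n : ℕ) {U : X.Opens} (hU : IsAffineOpen U) (x : Γ(G.obj (op (n + 1)), U)) :
    (tr G n).app U x = 0 ↔ x ∈ JS (I ^ (n + 1)) (G.obj (op (n + 1))) U := by
  obtain ⟨e, he⟩ := exists_tr_eq hG n
  haveI : (G.obj (op (n + 1))).IsQuasicoherent := (hG.1 (n + 1)).1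
  constructor
  · intro h
    refine mem_of_πJ_app_eq_zero _ _ hU x ?_
    have h2 : e.inv.app U ((tr G n).app U x) = (πJ (I ^ (n + 1)) (G.obj (op (n + 1)))).app U x := by
      rw [he]
      change ((πJ (I ^ (n + 1)) (G.obj (op (n + 1))) ≫ e.hom) ≫ e.inv).app U x = _
      rw [Category.assoc, e.hom_inv_id, Category.comp_id]
    rw [← h2, h, map_zero]
  · intro h
    rw [he]
    change e.hom.app U ((πJ (I ^ (n + 1)) (G.obj (op (n + 1)))).app U x) = 0
    rw [πJ_app_eq_zero_of_mem _ _ U x h, map_zero]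

variable {r : ℕ} (a : Fin r → A) (ha : ∀ j, a j ∈ I) (hspan : Ideal.span (Set.range a) = I)

include hspan in
/-- **the family of kernels is generated in degree `0`** -/
theorem genOn_kerFam {U : X.Opens} (hU : IsAffineOpen U) : GenOn (kerFam hG a ha) hU 0 := by
  refine genOn_of_sections _ hU 0 fun k _ y => ?_
  change Γ(kernel (tr G (k + 1)), U) at y
  let b := bW (X ↘ Spec (CommRingCat.of A)) U
  have hy₁ : (tr G (k + 1)).app U ((kernel.ι (tr G (k + 1))).app U y) = 0 := by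
    change ((kernel.ι (tr G (k + 1))) ≫ tr G (k + 1)).app U y = 0
    rw [kernel.condition]
    rfl
  have hmem := (tr_app_eq_zero_iff hG (k + 1) hU _).1 hy₁
  have hJ : (I ^ (k + 1 + 1)).map b = Ideal.span (Set.range (fun j => b (a j))) * (I ^ (k + 1)).map b := by
    rw [pow_succ' I (k + 1), Ideal.map_mul]
    congr 1
    rw [← hspan, Ideal.map_span, ← Set.range_comp]
    rfl
  unfold JS at hmem
  rw [hJ] at hmem
  obtain ⟨z, hz, hyz⟩ := exists_sum_of_mem_smul _ _ _ hmem
  have hx : ∀ j, ∃ x' : Γ(kernel (tr G k), U),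
      (kernel.ι (tr G k)).app U x' = (tr G (k + 1)).app U (z j) := by
    intro j
    have h1 : (tr G (k + 1)).app U (z j) ∈ JS (I ^ (k + 1)) (G.obj (op (k + 1))) U :=
      app_mem_JS (I ^ (k + 1)) (tr G (k + 1)) U (z j) (hz j)
    exact exists_app_kernelι _ U _ ((tr_app_eq_zero_iff hG k hU _).2 h1)
  choose x' hx' using hx
  refine ⟨x', ?_⟩
  haveI : Mono (kernel.ι (tr G (k + 1))) := inferInstance
  apply Groth.Agent.Lib.Helper20.StalkExact.injective_app_of_mono (kernel.ι (tr G (k + 1))) U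
  rw [hyz]
  change _ = (kernel.ι (tr G (k + 1))).app U (∑ j, (Top hG (a j) (ha j) k).app U (x' j))
  rw [map_sum]
  refine Finset.sum_congr rfl fun j _ => ?_
  change _ = (Top hG (a j) (ha j) k ≫ kernel.ι (tr G (k + 1))).app U (x' j)
  rw [Top_ι]
  change _ = (abar hG (a j) (ha j) (k + 1)).app U ((kernel.ι (tr G k)).app U (x' j))
  rw [hx']
  change _ = (tr G (k + 1) ≫ abar hG (a j) (ha j) (k + 1)).app U (z j)
  rw [tr_abar, smulMod_app]

end gen

/-- **Uniform vanishing for the kernels of a coherent formal module.** -/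
theorem uniform_vanishing_kernels [IsNoetherianRing A] [IsNoetherian X] (L : X.Modules) (hL : PicF.IsInvertible L)
    (hSV : ∀ K : X.Modules, Coh.IsCoh K → ∃ n₀ : ℕ, ∀ n : ℕ, n₀ ≤ n → ∀ q : ℕ, 0 < q →
      Subsingleton (Coh.HH X (CohB1.tensorMod K (CohB1.tensorPow L n)) q))
    (hG : Formal.IsCohFormal I G) :
    ∃ n₀ : ℕ, ∀ d : ℕ, n₀ ≤ d → ∀ n q : ℕ, 0 < q →
      Subsingleton (Coh.HH X (CohB1.tensorMod (kernel (tr G n)) (CohB1.tensorPow L d)) q) := by
  obtain ⟨r, a, hspan⟩ := Submodule.fg_iff_exists_fin_generating_family.1 (IsNoetherian.noetherian I)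
  have ha : ∀ j, a j ∈ I := fun j => by
    rw [← hspan]
    exact Submodule.subset_span ⟨j, rfl⟩
  exact uniform_vanishing L hL hSV r (kerFam hG a ha) (isCoh_kerFam hG a ha)
    (fun U hU => ⟨0, genOn_kerFam hG a ha hspan hU⟩)

end Groth.Agent.Lib.R2H3.FormalKer
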