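import Mathlib
import Groth.Agent.Lib.R2H3FormalKer
import Groth.Agent.Lib.R2H2ClosedPnLin
import Groth.Agent.Lib.Helper20FormalPull

/-!
# One and two steps of a tower of infinitesimal thickenings (helper3, round 2)

Schemes over `Spec A`, an ideal `J ⊆ A`.  On a scheme `Y` on which `J^(k+1)` acts as zero, `Kk J k F = J^k F ⊆ F` (`= Ker(F → F/J^k F)`).
For a closed immersion `i : Y' → Y` over `A` (`Y'` killed by `J^(k+1)`, `Y` by `J^(k+2)`) and `θ : F/J^(k+1)F ≅ i_* F'`:
the operators `t a : i_*(J^k F') → J^(k+1) F` ("multiplication by `a ∈ J`"), generation on sections (`gen`), and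
the commutation over two steps (`t_comm`).
-/

set_option autoImplicit false
set_option linter.style.haveILetI false
set_option linter.unusedSectionVars false
universe u
open CategoryTheory CategoryTheory.Limits AlgebraicGeometry TopologicalSpace Opposite

namespace Groth.Agent.Lib.R2H3.TowerA

open Scheme.Modules Groth.Agent.Lib.R2H2.FlatDev Groth.Agent.Lib.R2H2.SheafBC Groth.Agent.Lib.R2H3.FormalKer

variable {A : Type u} [CommRing A] (J : Ideal A)

section T0

variable {X Y : Scheme.{u}} [X.Over (Spec (CommRingCat.of A))] [Y.Over (Spec (CommRingCat.of A))]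
  (f : X ⟶ Y) (hf : f ≫ (Y ↘ Spec (CommRingCat.of A)) = X ↘ Spec (CommRingCat.of A))

include hf in
theorem pushforward_map_smulMod (N : X.Modules) (a : A) :
    (pushforward f).map (Formal.smulMod A N a) = Formal.smulMod A ((pushforward f).obj N) a := by
  rw [Formal.smulMod, Formal.smulMod, Groth.Agent.Lib.Helper20.FormalPull.toGlobal_eq f hf,
    Groth.Agent.Lib.Helper20.FormalPull.pushforward_map_smulModΓ]

include hf in
theorem app_bW (V : Y.Opens) (a : A) :
    (f.app V).hom (bW (Y ↘ Spec (CommRingCat.of A)) V a) =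
      bW (X ↘ Spec (CommRingCat.of A)) (f ⁻¹ᵁ V) a := by
  change (f.app V).hom (Coh.resTop Y (op V) (Coh.toGlobal (Y ↘ Spec (CommRingCat.of A)) a)) =
    Coh.resTop X (op (f ⁻¹ᵁ V)) (Coh.toGlobal (X ↘ Spec (CommRingCat.of A)) a)
  rw [Groth.Agent.Lib.Helper20.FormalPull.toGlobal_eq f hf]
  exact congrArg (fun φ => φ.hom (Coh.toGlobal (Y ↘ Spec (CommRingCat.of A)) a))
    (f.naturality (homOfLE (le_top (a := V))).op)

include hf in
theorem mem_JS_of_push (I : Ideal A) (N : X.Modules) (V : Y.Opens) (x : Γ((pushforward f).obj N, V))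
    (hx : x ∈ JS I ((pushforward f).obj N) V) : (show Γ(N, f ⁻¹ᵁ V) from x) ∈ JS I N (f ⁻¹ᵁ V) := by
  unfold JS at hx ⊢
  refine Submodule.smul_induction_on hx ?_ ?_
  · intro c hc w _
    have hc' : (f.app V).hom c ∈ I.map (bW (X ↘ Spec (CommRingCat.of A)) (f ⁻¹ᵁ V)) := by
      have h1 : (I.map (bW (Y ↘ Spec (CommRingCat.of A)) V)).map (f.app V).hom =
          I.map (bW (X ↘ Spec (CommRingCat.of A)) (f ⁻¹ᵁ V)) := by
        rw [Ideal.map_map]
        congr 1
        ext a
        exact app_bW f hf V a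
      rw [← h1]
      exact Ideal.mem_map_of_mem _ hc
    exact Submodule.smul_mem_smul hc' Submodule.mem_top
  · intro y₁ y₂ h₁ h₂
    exact Submodule.add_mem _ h₁ h₂

end T0

section T1

variable {Y : Scheme.{u}} [Y.Over (Spec (CommRingCat.of A))] (k : ℕ)

/-- `J^k F ⊆ F` -/
noncomputable def Kk (F : Y.Modules) : Y.Modules := kernel (πJ (J ^ k) F)

/-- the inclusion `J^k F → F` -/
noncomputable def kι (F : Y.Modules) : Kk J k F ⟶ F := kernel.ι (πJ (J ^ k) F)

instance (F : Y.Modules) : Mono (kι J k F) := inferInstanceAs (Mono (kernel.ι (πJ (J ^ k) F)))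

theorem kι_π (F : Y.Modules) : kι J k F ≫ πJ (J ^ k) F = 0 := kernel.condition _

theorem isQuasicoherent_Kk (F : Y.Modules) [F.IsQuasicoherent] : (Kk J k F).IsQuasicoherent :=
  Groth.Agent.Lib.Helper23.QCohLocal.isQuasicoherent_kernel (πJ (J ^ k) F)

variable (hY : ∀ M : Y.Modules, Formal.KilledBy (J ^ (k + 1)) M)

include hY in
theorem smulFamily_smulMod (F : Y.Modules) (a : A) (ha : a ∈ J) :
    Formal.smulFamily (J ^ k) F ≫ Formal.smulMod A F a = 0 := by
  rw [Groth.Agent.S9530.smulFamily_comp_eq_zero_iff]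
  intro b hb
  rw [← CohIII.smulMod_mul]
  refine hY F (a * b) ?_
  rw [pow_succ' J k]
  exact Ideal.mul_mem_mul ha hb

/-- "multiplication by `a ∈ J`" `F/J^k F → F` (when `J^(k+1) F = 0`) -/
noncomputable def abar (F : Y.Modules) (a : A) (ha : a ∈ J) : modJ (J ^ k) F ⟶ F :=
  cokernel.desc _ (Formal.smulMod A F a) (smulFamily_smulMod J k hY F a ha)

theorem π_abar (F : Y.Modules) (a : A) (ha : a ∈ J) :
    πJ (J ^ k) F ≫ abar J k hY F a ha = Formal.smulMod A F a := cokernel.π_desc _ _ _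

include hY in
theorem kι_smulMod (F : Y.Modules) (a : A) (ha : a ∈ J) :
    kι J k F ≫ Formal.smulMod A F a = 0 := by
  rw [← π_abar J k hY F a ha, ← Category.assoc, kι_π, zero_comp]

theorem abar_π (F : Y.Modules) (a : A) (ha : a ∈ J) :
    abar J k hY F a ha ≫ πJ (J ^ k) F = Formal.smulMod A (modJ (J ^ k) F) a := by
  rw [← cancel_epi (πJ (J ^ k) F), ← Category.assoc, π_abar, Groth.Agent.S9530.smulMod_comp]

end T1

section T2

variable {Y' Y : Scheme.{u}} [Y'.Over (Spec (CommRingCat.of A))] [Y.Over (Spec (CommRingCat.of A))]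
  (i : Y' ⟶ Y) (hi : i ≫ (Y ↘ Spec (CommRingCat.of A)) = Y' ↘ Spec (CommRingCat.of A))
  (k : ℕ) (hY' : ∀ M : Y'.Modules, Formal.KilledBy (J ^ (k + 1)) M)
  (hY : ∀ M : Y.Modules, Formal.KilledBy (J ^ (k + 1 + 1)) M)
  {F : Y.Modules} {F' : Y'.Modules} (θ : modJ (J ^ (k + 1)) F ≅ (pushforward i).obj F')

/-- the projection `F → i_* F'` -/
noncomputable def u : F ⟶ (pushforward i).obj F' := πJ (J ^ (k + 1)) F ≫ θ.hom

instance : Epi (u J i k θ) := by unfold u; infer_instance

theorem kι_u : kι J (k + 1) F ≫ u J i k θ = 0 := by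
  unfold u
  rw [← Category.assoc, kι_π, zero_comp]

/-- `0 → J^(k+1) F → F → i_* F' → 0` -/
theorem ses : (ShortComplex.mk (kι J (k + 1) F) (u J i k θ) (kι_u J i k θ)).ShortExact where
  exact := ShortComplex.exact_of_f_is_kernel _
    (isKernelCompMono (kernelIsKernel (πJ (J ^ (k + 1)) F)) θ.hom rfl)
  mono_f := inferInstanceAs (Mono (kι J (k + 1) F))
  epi_g := inferInstanceAs (Epi (u J i k θ))

/-- "multiplication by `a`" `i_* F' → F` -/
noncomputable def α (a : A) (ha : a ∈ J) : (pushforward i).obj F' ⟶ F :=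
  θ.inv ≫ abar J (k + 1) hY F a ha

theorem u_α (a : A) (ha : a ∈ J) : u J i k θ ≫ α J i k hY θ a ha = Formal.smulMod A F a := by
  unfold u α
  rw [Category.assoc, Iso.hom_inv_id_assoc, π_abar]

theorem α_u (a : A) (ha : a ∈ J) :
    α J i k hY θ a ha ≫ u J i k θ = Formal.smulMod A ((pushforward i).obj F') a := by
  rw [← cancel_epi (u J i k θ), ← Category.assoc, u_α, Groth.Agent.S9530.smulMod_comp]

include hi hY' in
theorem push_kι_α_π (a : A) (ha : a ∈ J) :
    ((pushforward i).map (kι J k F') ≫ α J i k hY θ a ha) ≫ πJ (J ^ (k + 1)) F = 0 := by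
  have h1 : α J i k hY θ a ha ≫ πJ (J ^ (k + 1)) F =
      Formal.smulMod A ((pushforward i).obj F') a ≫ θ.inv := by
    rw [← α_u J i k hY θ a ha]
    unfold u
    rw [Category.assoc, Category.assoc, Iso.hom_inv_id, Category.comp_id]
  rw [Category.assoc, h1, ← Category.assoc, ← pushforward_map_smulMod i hi, ← Functor.map_comp,
    kι_smulMod J k hY' F' a ha, Functor.map_zero, zero_comp]

/-- the operator "multiplication by `a ∈ J`" `i_*(J^k F') → J^(k+1) F` -/
noncomputable def t (a : A) (ha : a ∈ J) : (pushforward i).obj (Kk J k F') ⟶ Kk J (k + 1) F :=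
  kernel.lift (πJ (J ^ (k + 1)) F) ((pushforward i).map (kι J k F') ≫ α J i k hY θ a ha)
    (push_kι_α_π J i hi k hY' hY θ a ha)

theorem t_kι (a : A) (ha : a ∈ J) :
    t J i hi k hY' hY θ a ha ≫ kι J (k + 1) F = (pushforward i).map (kι J k F') ≫ α J i k hY θ a ha :=
  kernel.lift_ι _ _ _

variable {r : ℕ} (a : Fin r → A) (ha : ∀ j, a j ∈ J) (hspan : Ideal.span (Set.range a) = J)

include hspan in
/-- **generation**: over an affine open, every section of `J^(k+1) F` is a sum of `a_j`-multiples of sections of `i_*(J^k F')` -/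
theorem gen [F.IsQuasicoherent] {V : Y.Opens} (hV : IsAffineOpen V) (y : Γ(Kk J (k + 1) F, V)) :
    ∃ x : Fin r → Γ((pushforward i).obj (Kk J k F'), V),
      y = ∑ j, (t J i hi k hY' hY θ (a j) (ha j)).app V (x j) := by
  let b := bW (Y ↘ Spec (CommRingCat.of A)) V
  have hy₁ : (πJ (J ^ (k + 1)) F).app V ((kι J (k + 1) F).app V y) = 0 := by
    change (kι J (k + 1) F ≫ πJ (J ^ (k + 1)) F).app V y = 0
    rw [kι_π]
    rfl
  have hmem := mem_of_πJ_app_eq_zero (J ^ (k + 1)) F hV _ hy₁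
  have hJ : (J ^ (k + 1)).map b = Ideal.span (Set.range (fun j => b (a j))) * (J ^ k).map b := by
    rw [pow_succ' J k, Ideal.map_mul]
    congr 1
    rw [← hspan, Ideal.map_span, ← Set.range_comp]
    rfl
  unfold JS at hmem
  rw [hJ] at hmem
  obtain ⟨z, hz, hyz⟩ := exists_sum_of_mem_smul _ _ _ hmem
  have hx : ∀ j, ∃ x' : Γ(Kk J k F', i ⁻¹ᵁ V),
      (kι J k F').app (i ⁻¹ᵁ V) x' = (u J i k θ).app V (z j) := by
    intro j
    have h1 : (u J i k θ).app V (z j) ∈ JS (J ^ k) ((pushforward i).obj F') V :=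
      app_mem_JS (J ^ k) (u J i k θ) V (z j) (hz j)
    have h2 := mem_JS_of_push i hi (J ^ k) F' V _ h1
    exact exists_app_kernelι (πJ (J ^ k) F') (i ⁻¹ᵁ V) _ (πJ_app_eq_zero_of_mem _ _ _ _ h2)
  choose x' hx' using hx
  refine ⟨x', ?_⟩
  apply Groth.Agent.Lib.Helper20.StalkExact.injective_app_of_mono (kι J (k + 1) F) V
  rw [hyz, map_sum]
  refine Finset.sum_congr rfl fun j _ => ?_
  change _ = (t J i hi k hY' hY θ (a j) (ha j) ≫ kι J (k + 1) F).app V (x' j)
  rw [t_kι]
  change _ = (α J i k hY θ (a j) (ha j)).app V ((kι J k F').app (i ⁻¹ᵁ V) (x' j))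
  rw [hx']
  change _ = (u J i k θ ≫ α J i k hY θ (a j) (ha j)).app V (z j)
  rw [u_α, smulMod_app]

end T2

section T3

variable {Y'' Y' Y : Scheme.{u}} [Y''.Over (Spec (CommRingCat.of A))] [Y'.Over (Spec (CommRingCat.of A))]
  [Y.Over (Spec (CommRingCat.of A))]
  (i' : Y'' ⟶ Y') (hi' : i' ≫ (Y' ↘ Spec (CommRingCat.of A)) = Y'' ↘ Spec (CommRingCat.of A))
  (i : Y' ⟶ Y) (hi : i ≫ (Y ↘ Spec (CommRingCat.of A)) = Y' ↘ Spec (CommRingCat.of A))
  (hcl : Topology.IsClosedEmbedding i.base)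
  (k : ℕ) (hY'' : ∀ M : Y''.Modules, Formal.KilledBy (J ^ (k + 1)) M)
  (hY' : ∀ M : Y'.Modules, Formal.KilledBy (J ^ (k + 1 + 1)) M)
  (hY : ∀ M : Y.Modules, Formal.KilledBy (J ^ (k + 1 + 1 + 1)) M)
  {F : Y.Modules} {F' : Y'.Modules} {F'' : Y''.Modules}
  (θ' : modJ (J ^ (k + 1)) F' ≅ (pushforward i').obj F'')
  (θ : modJ (J ^ (k + 1 + 1)) F ≅ (pushforward i).obj F')

include hi hcl in
theorem α_comm (a b : A) (ha : a ∈ J) (hb : b ∈ J) :
    (pushforward i).map (α J i' k hY' θ' a ha) ≫ α J i (k + 1) hY θ b hb =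
      (pushforward i).map (α J i' k hY' θ' b hb) ≫ α J i (k + 1) hY θ a ha := by
  haveI : Epi ((pushforward i).map (u J i' k θ')) :=
    Groth.Agent.Lib.R2H2.ClosedPnLin.epi_push_map i hcl _ inferInstance
  have key : ∀ (c d : A) (hc : c ∈ J) (hd : d ∈ J),
      u J i (k + 1) θ ≫ (pushforward i).map (u J i' k θ') ≫
        (pushforward i).map (α J i' k hY' θ' c hc) ≫ α J i (k + 1) hY θ d hd =
      Formal.smulMod A F (d * c) := by
    intro c d hc hd
    rw [← Category.assoc ((pushforward i).map (u J i' k θ')), ← Functor.map_comp, u_α,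
      pushforward_map_smulMod i hi, ← Category.assoc, ← Groth.Agent.S9530.smulMod_comp,
      Category.assoc, u_α, ← CohIII.smulMod_mul]
  rw [← cancel_epi ((pushforward i).map (u J i' k θ')), ← cancel_epi (u J i (k + 1) θ),
    key a b ha hb, key b a hb ha, mul_comm]

include hi hcl in
/-- **the operators commute over two steps** -/
theorem t_comm (a b : A) (ha : a ∈ J) (hb : b ∈ J) :
    (pushforward i).map (t J i' hi' k hY'' hY' θ' a ha) ≫ t J i hi (k + 1) hY' hY θ b hb =
      (pushforward i).map (t J i' hi' k hY'' hY' θ' b hb) ≫ t J i hi (k + 1) hY' hY θ a ha := by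
  rw [← cancel_mono (kι J (k + 1 + 1) F), Category.assoc, Category.assoc, t_kι, t_kι,
    ← Category.assoc, ← Category.assoc, ← Functor.map_comp, ← Functor.map_comp, t_kι, t_kι,
    Functor.map_comp, Functor.map_comp, Category.assoc, Category.assoc,
    α_comm J i' i hi hcl k hY' hY θ' θ a b ha hb]

end T3

end Groth.Agent.Lib.R2H3.TowerA
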