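import Mathlib
import Groth.Prelude.Def_CohB1
import Groth.Agent.S3855
import Groth.Agent.Lib.R2H3TowerA
import Groth.Agent.Lib.R2H3ClosedPush
import Groth.Agent.Lib.R2H2FibreCoh
import Groth.Agent.Lib.R2H2ReesGeom
import Groth.Agent.Lib.Helper22ThickAffine

/-!
# Towers of infinitesimal thickenings `X_k → Spec (A/J^(k+1))` (helper3, round 2)

Geometry of an adic system of schemes (`Tower J`): all `X_k` are schemes over `Spec A`, the transition maps `i k` and the maps
`ι k : X_0 → X_k` are surjective closed immersions over `A`, `J^(k+1)` acts as zero on `X_k`, and the base change squares over `A`.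
-/

set_option autoImplicit false
set_option linter.style.haveILetI false
set_option linter.unusedSectionVars false
universe u
open CategoryTheory CategoryTheory.Limits AlgebraicGeometry TopologicalSpace Opposite

namespace Groth.Agent.Lib.R2H3.TowerB

open Scheme.Modules Groth.Agent.Lib.R2H2.FlatDev Groth.Agent.Lib.R2H2.SheafBC

variable {A : Type u} [CommRing A] (J : Ideal A)

/-- an adic system of schemes over `Spec (A/J^(k+1))` -/
structure Tower where
  Xs : ℕ → Scheme.{u}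
  p : ∀ k, Xs k ⟶ Spec (CommRingCat.of (A ⧸ J ^ (k + 1)))
  i : ∀ k, Xs k ⟶ Xs (k + 1)
  hcart : ∀ k, IsPullback (i k) (p k) (p (k + 1)) (CohB1.specQuotTrans J k)

theorem isPullback_of_mono {C : Type*} [Category C] {X Y Z : C} (f : X ⟶ Y) (m : Y ⟶ Z) [Mono m] :
    IsPullback f (𝟙 X) m (f ≫ m) := by
  have h := (IsPullback.id_vert f).paste_horiz (IsKernelPair.id_of_mono m)
  rwa [Category.comp_id] at h

section general

variable {X₀ X₁ X₂ : Scheme.{u}} (f : X₀ ⟶ X₁) (g : X₁ ⟶ X₂) (h : X₀ ⟶ X₂) (hfg : f ≫ g = h)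

/-- `h_* M ≅ g_* f_* M` for `h = f ≫ g` -/
noncomputable def cI (M : X₀.Modules) :
    (pushforward h).obj M ≅ (pushforward g).obj ((pushforward f).obj M) :=
  (pushforwardCongr hfg).symm.app M ≪≫ ((pushforwardComp f g).app M).symm

theorem cI_naturality {M N : X₀.Modules} (φ : M ⟶ N) :
    (pushforward h).map φ ≫ (cI f g h hfg N).hom =
      (cI f g h hfg M).hom ≫ (pushforward g).map ((pushforward f).map φ) := by
  subst hfg
  unfold cI
  simp only [Iso.trans_hom, Iso.app_hom, Iso.symm_hom, Iso.app_inv, Category.assoc]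
  have h1 := (pushforwardComp f g).inv.naturality φ
  have h2 := (pushforwardCongr (rfl : f ≫ g = f ≫ g)).inv.naturality φ
  rw [← Category.assoc, h2, Category.assoc, h1]
  rfl

theorem cI_map {M N : X₀.Modules} (φ : M ⟶ N) :
    (pushforward h).map φ =
      (cI f g h hfg M).hom ≫ (pushforward g).map ((pushforward f).map φ) ≫ (cI f g h hfg N).inv := by
  rw [← Category.assoc, ← cI_naturality, Category.assoc, Iso.hom_inv_id, Category.comp_id]

end general

namespace Tower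

variable {J} (T : Tower J)

/-- the structure map to `Spec A` -/
noncomputable def q (k : ℕ) : T.Xs k ⟶ Spec (CommRingCat.of A) := T.p k ≫ CohB1.specQuot J k

noncomputable instance instOverA (k : ℕ) : (T.Xs k).Over (Spec (CommRingCat.of A)) := ⟨T.q k⟩

theorem over_eq (k : ℕ) : (T.Xs k ↘ Spec (CommRingCat.of A)) = T.q k := rfl

theorem i_q (k : ℕ) : T.i k ≫ T.q (k + 1) = T.q k := by
  unfold q
  rw [← Category.assoc, (T.hcart k).w, Category.assoc, CohB1.specQuotTrans_specQuot]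

theorem i_over (k : ℕ) :
    T.i k ≫ (T.Xs (k + 1) ↘ Spec (CommRingCat.of A)) = T.Xs k ↘ Spec (CommRingCat.of A) := T.i_q k

instance isClosedImmersion_trans (k : ℕ) : IsClosedImmersion (CohB1.specQuotTrans J k) :=
  Groth.Agent.S3855.isClosedImmersion_fac A J k (k + 1) (Nat.le_succ k)

instance surjective_trans (k : ℕ) : Surjective (CohB1.specQuotTrans J k) :=
  ⟨Groth.Agent.S3855.surjective_base_fac A J k (k + 1) (Nat.le_succ k)⟩

instance isClosedImmersion_i (k : ℕ) : IsClosedImmersion (T.i k) :=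
  MorphismProperty.of_isPullback (T.hcart k).flip
    (inferInstance : IsClosedImmersion (CohB1.specQuotTrans J k))

instance surjective_i (k : ℕ) : Surjective (T.i k) :=
  MorphismProperty.of_isPullback (T.hcart k).flip
    (inferInstance : Surjective (CohB1.specQuotTrans J k))

/-- `X_0 → X_k` -/
noncomputable def ι : ∀ k, T.Xs 0 ⟶ T.Xs k
  | 0 => 𝟙 _
  | (k + 1) => ι k ≫ T.i k

theorem ι_succ (k : ℕ) : T.ι (k + 1) = T.ι k ≫ T.i k := rfl

instance isClosedImmersion_ι (k : ℕ) : IsClosedImmersion (T.ι k) := by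
  induction k with
  | zero => exact inferInstanceAs (IsClosedImmersion (𝟙 _))
  | succ k ih => rw [ι_succ]; infer_instance

instance surjective_ι (k : ℕ) : Surjective (T.ι k) := by
  induction k with
  | zero => exact inferInstanceAs (Surjective (𝟙 _))
  | succ k ih => rw [ι_succ]; infer_instance

theorem ι_q (k : ℕ) : T.ι k ≫ T.q k = T.q 0 := by
  induction k with
  | zero => exact Category.id_comp _
  | succ k ih => rw [ι_succ, Category.assoc, i_q, ih]

theorem ι_over (k : ℕ) :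
    T.ι k ≫ (T.Xs k ↘ Spec (CommRingCat.of A)) = T.Xs 0 ↘ Spec (CommRingCat.of A) := T.ι_q k

/-- `J^(k+1)` acts as zero on `X_k` -/
theorem killedBy (k : ℕ) (M : (T.Xs k).Modules) : Formal.KilledBy (J ^ (k + 1)) M := by
  intro a ha
  have h1 : Coh.toGlobal (T.Xs k ↘ Spec (CommRingCat.of A)) a = 0 := by
    change Coh.toGlobal (T.p k ≫ Spec.map (CommRingCat.ofHom (Ideal.Quotient.mk (J ^ (k + 1))))) a = 0
    rw [Groth.Agent.Lib.R2H2.ReesGeom.toGlobal_comp_SpecMap]
    have : (CommRingCat.ofHom (Ideal.Quotient.mk (J ^ (k + 1)))).hom a = 0 :=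
      Ideal.Quotient.eq_zero_iff_mem.2 ha
    rw [this, map_zero]
  unfold Formal.smulMod
  rw [h1]
  exact Groth.Agent.Lib.R2H2.FibreCoh.smulModΓ_zero M

instance mono_specQuot (k : ℕ) : Mono (CohB1.specQuot J k) := by
  haveI : IsClosedImmersion (CohB1.specQuot J k) :=
    IsClosedImmersion.spec_of_surjective _ Ideal.Quotient.mk_surjective
  infer_instance

/-- `X_k = X_{k+1} ×_A Spec (A/J^(k+1))` -/
theorem isPullback_i (k : ℕ) : IsPullback (T.i k) (T.p k) (T.q (k + 1)) (CohB1.specQuot J k) := by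
  have h := (T.hcart k).paste_vert
    (isPullback_of_mono (CohB1.specQuotTrans J k) (CohB1.specQuot J (k + 1)))
  rwa [Category.comp_id, CohB1.specQuotTrans_specQuot] at h

/-- `Spec (A/J) → Spec (A/J^(k+1))` -/
noncomputable def trans0 : ∀ k, Spec (CommRingCat.of (A ⧸ J ^ (0 + 1))) ⟶ Spec (CommRingCat.of (A ⧸ J ^ (k + 1)))
  | 0 => 𝟙 _
  | (k + 1) => trans0 k ≫ CohB1.specQuotTrans J k

theorem trans0_specQuot (k : ℕ) : trans0 (J := J) k ≫ CohB1.specQuot J k = CohB1.specQuot J 0 := by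
  induction k with
  | zero => exact Category.id_comp _
  | succ k ih =>
    change (trans0 k ≫ CohB1.specQuotTrans J k) ≫ _ = _
    rw [Category.assoc, CohB1.specQuotTrans_specQuot, ih]

theorem isPullback_ι' (k : ℕ) : IsPullback (T.ι k) (T.p 0) (T.p k) (trans0 k) := by
  induction k with
  | zero => exact IsPullback.id_horiz (T.p 0)
  | succ k ih => exact ih.paste_horiz (T.hcart k)

/-- `X_0 = X_k ×_A Spec (A/J)` -/
theorem isPullback_ι (k : ℕ) : IsPullback (T.ι k) (T.p 0) (T.q k) (CohB1.specQuot J 0) := by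
  have h := (T.isPullback_ι' k).paste_vert (isPullback_of_mono (trans0 k) (CohB1.specQuot J k))
  rwa [Category.comp_id, trans0_specQuot] at h

/-- the open of `X_k` with the same points as `U ⊆ X_0` -/
noncomputable def imageOpen (k : ℕ) (U : (T.Xs 0).Opens) : (T.Xs k).Opens :=
  ⟨(T.ι k) '' (U : Set (T.Xs 0)),
    (Groth.Agent.Lib.Helper22.ThickAffine.isHomeomorph_of_surjective (T.ι k)
      (T.ι k).surjective).isOpenMap _ U.2⟩

theorem preimage_imageOpen (k : ℕ) (U : (T.Xs 0).Opens) : (T.ι k) ⁻¹ᵁ (T.imageOpen k U) = U := by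
  ext x
  change (T.ι k) x ∈ (T.ι k) '' (U : Set (T.Xs 0)) ↔ x ∈ U
  exact (T.ι k).isClosedEmbedding.injective.mem_set_image

theorem isAffineOpen_imageOpen (k : ℕ) {U : (T.Xs 0).Opens} (hU : IsAffineOpen U) :
    IsAffineOpen (T.imageOpen k U) := by
  have h1 : IsAffineOpen ((T.ι k) ⁻¹ᵁ (T.imageOpen k U)) := by
    rw [preimage_imageOpen]
    exact hU
  haveI : IsAffine ((T.ι k) ⁻¹ᵁ (T.imageOpen k U)).toScheme := h1
  haveI : IsClosedImmersion ((T.ι k) ∣_ (T.imageOpen k U)) :=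
    IsZariskiLocalAtTarget.restrict (P := @IsClosedImmersion) inferInstance _
  haveI : Surjective ((T.ι k) ∣_ (T.imageOpen k U)) :=
    IsZariskiLocalAtTarget.restrict (P := @Surjective) inferInstance _
  exact Groth.Agent.Lib.Helper22.ThickAffine.isAffine_of_thickening ((T.ι k) ∣_ (T.imageOpen k U))
    ((T.ι k) ∣_ (T.imageOpen k U)).surjective

end Tower

/-! ### compatible systems of quasi-coherent modules -/

open Groth.Agent.Lib.R2H3.TowerA Groth.Agent.Lib.R2H2.FibreCoh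

/-- a compatible system of quasi-coherent modules on a tower -/
structure QSys {J : Ideal A} (T : Tower J) where
  F : ∀ k, (T.Xs k).Modules
  hF : ∀ k, (F k).IsQuasicoherent
  ψ : ∀ k, (Scheme.Modules.pullback (T.i k)).obj (F (k + 1)) ≅ F k

namespace QSys

variable {J} {T : Tower J} (S : QSys T)

instance (k : ℕ) : (S.F k).IsQuasicoherent := S.hF k

theorem mem_of_map_eq_zero (k : ℕ) (a : A) (h : algebraMap A (A ⧸ J ^ (k + 1)) a = 0) : a ∈ J ^ (k + 1) :=
  Ideal.Quotient.eq_zero_iff_mem.1 h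

theorem map_eq_zero_of_mem (k : ℕ) (a : A) (h : a ∈ J ^ (k + 1)) : algebraMap A (A ⧸ J ^ (k + 1)) a = 0 :=
  Ideal.Quotient.eq_zero_iff_mem.2 h

/-- `F_{k+1}/J^(k+1) F_{k+1} ≅ (i_k)_* F_k` -/
noncomputable def θ (k : ℕ) :
    modJ (J ^ (k + 1)) (S.F (k + 1)) ≅ (pushforward (T.i k)).obj (S.F k) :=
  haveI := isIso_ubar (T.p k) (T.i k) (T.isPullback_i k) (S.F (k + 1)) Ideal.Quotient.mk_surjective
    (J ^ (k + 1)) (fun a ha => map_eq_zero_of_mem k a ha) (fun a ha => mem_of_map_eq_zero k a ha)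
  asIso (ubar (T.p k) (T.i k) (T.isPullback_i k) (S.F (k + 1)) (J ^ (k + 1))
    (fun a ha => map_eq_zero_of_mem k a ha)) ≪≫ (pushforward (T.i k)).mapIso (S.ψ k)

/-- `K_k = J^k F_k` -/
noncomputable def K (k : ℕ) : (T.Xs k).Modules := Kk J k (S.F k)

instance (k : ℕ) : (S.K k).IsQuasicoherent := isQuasicoherent_Kk J k (S.F k)

/-- `K_k` is killed by `J` -/
theorem smulMod_K (k : ℕ) (a : A) (ha : a ∈ J) : Formal.smulMod A (S.K k) a = 0 := by
  change Formal.smulMod A (Kk J k (S.F k)) a = 0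
  rw [← cancel_mono (kι J k (S.F k)), zero_comp]
  have h1 : Formal.smulMod A (Kk J k (S.F k)) a ≫ kι J k (S.F k) =
      kι J k (S.F k) ≫ Formal.smulMod A (S.F k) a :=
    Groth.Agent.S9530.smulMod_comp _ a
  rw [h1]
  exact kι_smulMod J k (T.killedBy k) (S.F k) a ha

theorem isIso_πJ_of_killed {Y : Scheme.{u}} [Y.Over (Spec (CommRingCat.of A))] (I : Ideal A) (K : Y.Modules)
    (h : ∀ a ∈ I, Formal.smulMod A K a = 0) : IsIso (πJ I K) := by
  have h0 : Formal.smulFamily I K ≫ 𝟙 K = 0 := by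
    rw [Groth.Agent.S9530.smulFamily_comp_eq_zero_iff]
    intro a ha
    rw [h a ha, zero_comp]
  refine ⟨⟨cokernel.desc _ (𝟙 K) h0, cokernel.π_desc _ _ _, ?_⟩⟩
  rw [← cancel_epi (πJ I K)]
  change cokernel.π _ ≫ cokernel.desc _ (𝟙 K) h0 ≫ πJ I K = _
  rw [← Category.assoc, cokernel.π_desc, Category.id_comp, Category.comp_id]

/-- the unit `K_k → (ι_k)_* ι_k^* K_k` is an isomorphism -/
theorem isIso_unit_K (k : ℕ) :
    IsIso ((Scheme.Modules.pullbackPushforwardAdjunction (T.ι k)).unit.app (S.K k)) := by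
  have hI : ∀ a ∈ J ^ (0 + 1), algebraMap A (A ⧸ J ^ (0 + 1)) a = 0 := fun a ha => map_eq_zero_of_mem 0 a ha
  haveI := isIso_ubar (T.p 0) (T.ι k) (T.isPullback_ι k) (S.K k) Ideal.Quotient.mk_surjective
    (J ^ (0 + 1)) hI (fun a ha => mem_of_map_eq_zero 0 a ha)
  haveI := isIso_πJ_of_killed (J ^ (0 + 1)) (S.K k) (fun a ha => S.smulMod_K k a (by simpa using ha))
  have h := π_ubar (T.p 0) (T.ι k) (T.isPullback_ι k) (S.K k) (J ^ (0 + 1)) hI
  change _ = (Scheme.Modules.pullbackPushforwardAdjunction (T.ι k)).unit.app (S.K k) at h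
  rw [← h]
  infer_instance

/-- the module on `X_0` corresponding to `K_k` -/
noncomputable def M (k : ℕ) : (T.Xs 0).Modules := (Scheme.Modules.pullback (T.ι k)).obj (S.K k)

instance (k : ℕ) : (S.M k).IsQuasicoherent :=
  Groth.Agent.Lib.Helper2.PullbackSec.isQuasicoherent_pullback (T.ι k) (S.K k)

/-- `K_k ≅ (ι_k)_* M_k` -/
noncomputable def e (k : ℕ) : S.K k ≅ (pushforward (T.ι k)).obj (S.M k) :=
  @asIso _ _ _ _ ((Scheme.Modules.pullbackPushforwardAdjunction (T.ι k)).unit.app (S.K k))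
    (S.isIso_unit_K k)

/-! ### the operators -/

/-- the operator "multiplication by `a ∈ J`" on `X_{k+1}` -/
noncomputable def tt (a : A) (ha : a ∈ J) (k : ℕ) : (pushforward (T.i k)).obj (S.K k) ⟶ S.K (k + 1) :=
  t J (T.i k) (T.i_over k) k (T.killedBy k) (T.killedBy (k + 1)) (S.θ k) a ha

theorem tt_comm (a b : A) (ha : a ∈ J) (hb : b ∈ J) (k : ℕ) :
    (pushforward (T.i (k + 1))).map (S.tt a ha k) ≫ S.tt b hb (k + 1) =
      (pushforward (T.i (k + 1))).map (S.tt b hb k) ≫ S.tt a ha (k + 1) :=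
  t_comm J (T.i k) (T.i_over k) (T.i (k + 1)) (T.i_over (k + 1)) (T.i (k + 1)).isClosedEmbedding k
    (T.killedBy k) (T.killedBy (k + 1)) (T.killedBy (k + 1 + 1)) (S.θ k) (S.θ (k + 1)) a b ha hb

/-- the operator pushed forward to `X_{k+1}` -/
noncomputable def Ψ (a : A) (ha : a ∈ J) (k : ℕ) :
    (pushforward (T.ι (k + 1))).obj (S.M k) ⟶ (pushforward (T.ι (k + 1))).obj (S.M (k + 1)) :=
  (cI (T.ι k) (T.i k) (T.ι (k + 1)) (T.ι_succ k).symm (S.M k)).hom ≫
    (pushforward (T.i k)).map (S.e k).inv ≫ S.tt a ha k ≫ (S.e (k + 1)).hom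

/-- the operator "multiplication by `a ∈ J`" on `X_0` -/
noncomputable def Top (a : A) (ha : a ∈ J) (k : ℕ) : S.M k ⟶ S.M (k + 1) :=
  Groth.Agent.Lib.R2H3.ClosedPush.pushPreimage (T.ι (k + 1)) (S.Ψ a ha k)

theorem push_Top (a : A) (ha : a ∈ J) (k : ℕ) :
    (pushforward (T.ι (k + 1))).map (S.Top a ha k) = S.Ψ a ha k :=
  Groth.Agent.Lib.R2H3.ClosedPush.map_pushPreimage (T.ι (k + 1)) (S.Ψ a ha k)

/-- the common prefix -/
noncomputable def Pre (k : ℕ) : (pushforward (T.ι (k + 1 + 1))).obj (S.M k) ⟶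
    (pushforward (T.i (k + 1))).obj ((pushforward (T.i k)).obj (S.K k)) :=
  (cI (T.ι (k + 1)) (T.i (k + 1)) (T.ι (k + 1 + 1)) (T.ι_succ (k + 1)).symm (S.M k)).hom ≫
    (pushforward (T.i (k + 1))).map
      ((cI (T.ι k) (T.i k) (T.ι (k + 1)) (T.ι_succ k).symm (S.M k)).hom ≫
        (pushforward (T.i k)).map (S.e k).inv)

theorem push_Top_Ψ (a b : A) (ha : a ∈ J) (hb : b ∈ J) (k : ℕ) :
    (pushforward (T.ι (k + 1 + 1))).map (S.Top a ha k) ≫ S.Ψ b hb (k + 1) =
      S.Pre k ≫ (pushforward (T.i (k + 1))).map (S.tt a ha k) ≫ S.tt b hb (k + 1) ≫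
        (S.e (k + 1 + 1)).hom := by
  rw [cI_map (T.ι (k + 1)) (T.i (k + 1)) (T.ι (k + 1 + 1)) (T.ι_succ (k + 1)).symm, push_Top]
  unfold Pre
  rw [Ψ, Ψ]
  simp only [Category.assoc, Functor.map_comp, Iso.inv_hom_id_assoc]
  rw [← Functor.map_comp_assoc (pushforward (T.i (k + 1))) (S.e (k + 1)).hom, Iso.hom_inv_id,
    CategoryTheory.Functor.map_id, Category.id_comp]

theorem Top_comm (a b : A) (ha : a ∈ J) (hb : b ∈ J) (k : ℕ) :
    S.Top a ha k ≫ S.Top b hb (k + 1) = S.Top b hb k ≫ S.Top a ha (k + 1) := by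
  apply Groth.Agent.Lib.R2H3.ClosedPush.push_map_injective (T.ι (k + 1 + 1))
  rw [Functor.map_comp, Functor.map_comp, push_Top, push_Top, push_Top_Ψ, push_Top_Ψ,
    ← Category.assoc ((pushforward (T.i (k + 1))).map (S.tt a ha k)), tt_comm, Category.assoc]

/-! ### the graded family on `X_0` -/

open Groth.Agent.Lib.R2H3.GradedFam

variable {r : ℕ} (a : Fin r → A) (ha : ∀ j, a j ∈ J)

/-- the graded family `M_k = ι_k^*(J^k F_k)` on `X_0` -/
noncomputable def fam : OpFam (T.Xs 0) r where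
  M := S.M
  T j k := S.Top (a j) (ha j) k
  comm j j' k := S.Top_comm (a j) (a j') (ha j) (ha j') k

variable (hspan : Ideal.span (Set.range a) = J)

theorem Ψ_app (j : Fin r) (k : ℕ) (V : (T.Xs (k + 1)).Opens)
    (x : Γ((pushforward (T.i k)).obj (S.K k), V)) :
    (S.Ψ (a j) (ha j) k).app V
      (((pushforward (T.i k)).map (S.e k).hom ≫
        (cI (T.ι k) (T.i k) (T.ι (k + 1)) (T.ι_succ k).symm (S.M k)).inv).app V x) =
      (S.e (k + 1)).hom.app V ((S.tt (a j) (ha j) k).app V x) := by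
  have h : ((pushforward (T.i k)).map (S.e k).hom ≫
      (cI (T.ι k) (T.i k) (T.ι (k + 1)) (T.ι_succ k).symm (S.M k)).inv) ≫ S.Ψ (a j) (ha j) k =
      S.tt (a j) (ha j) k ≫ (S.e (k + 1)).hom := by
    rw [Ψ]
    simp only [Category.assoc, Iso.inv_hom_id_assoc]
    rw [← Functor.map_comp_assoc, Iso.hom_inv_id, CategoryTheory.Functor.map_id, Category.id_comp]
  exact congrArg (fun φ => φ.app V x) h

include hspan in
theorem exists_sections (k : ℕ) {V : (T.Xs (k + 1)).Opens} (hV : IsAffineOpen V)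
    (y : Γ(S.M (k + 1), (T.ι (k + 1)) ⁻¹ᵁ V)) :
    ∃ x : Fin r → Γ(S.M k, (T.ι (k + 1)) ⁻¹ᵁ V),
      y = ∑ j, (S.Top (a j) (ha j) k).app ((T.ι (k + 1)) ⁻¹ᵁ V) (x j) := by
  have hgen : ∃ x : Fin r → Γ((pushforward (T.i k)).obj (S.K k), V),
      (S.e (k + 1)).inv.app V y = ∑ j, (S.tt (a j) (ha j) k).app V (x j) :=
    gen J (T.i k) (T.i_over k) k (T.killedBy k) (T.killedBy (k + 1)) (S.θ k) a ha hspan hV
      ((S.e (k + 1)).inv.app V y)
  obtain ⟨x, hx⟩ := hgen
  refine ⟨fun j => ((pushforward (T.i k)).map (S.e k).hom ≫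
    (cI (T.ι k) (T.i k) (T.ι (k + 1)) (T.ι_succ k).symm (S.M k)).inv).app V (x j), ?_⟩
  have h1 : y = (S.e (k + 1)).hom.app V ((S.e (k + 1)).inv.app V y) := by
    change y = ((S.e (k + 1)).inv ≫ (S.e (k + 1)).hom).app V y
    rw [Iso.inv_hom_id]
    rfl
  rw [h1, hx, map_sum]
  refine Finset.sum_congr rfl fun j _ => ?_
  have h2 := S.Ψ_app a ha j k V (x j)
  rw [← push_Top] at h2
  exact h2.symm

include hspan in
theorem exists_sections_U (k : ℕ) {U : (T.Xs 0).Opens} (hU : IsAffineOpen U) (y : Γ(S.M (k + 1), U)) :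
    ∃ x : Fin r → Γ(S.M k, U), y = ∑ j, (S.Top (a j) (ha j) k).app U (x j) := by
  have hP : ∀ W : (T.Xs 0).Opens, W = U →
      (∀ y : Γ(S.M (k + 1), W), ∃ x : Fin r → Γ(S.M k, W),
        y = ∑ j, (S.Top (a j) (ha j) k).app W (x j)) →
      ∀ y : Γ(S.M (k + 1), U), ∃ x : Fin r → Γ(S.M k, U),
        y = ∑ j, (S.Top (a j) (ha j) k).app U (x j) := by
    rintro W rfl h
    exact h
  exact hP _ (T.preimage_imageOpen (k + 1) U)
    (fun y => S.exists_sections a ha hspan k (T.isAffineOpen_imageOpen (k + 1) hU) y) y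

include hspan in
/-- the family is generated in degree `0` over every affine open of `X_0` -/
theorem genOn_fam {U : (T.Xs 0).Opens} (hU : IsAffineOpen U) : GenOn (S.fam a ha) hU 0 :=
  genOn_of_sections _ hU 0 fun k _ y => S.exists_sections_U a ha hspan k hU y

/-- the linear map on sections -/
noncomputable def appₗ {Y : Scheme.{u}} {M N : Y.Modules} (m : M ⟶ N) (W : Y.Opens) :
    Γ(M, W) →ₗ[Γ(Y, W)] Γ(N, W) :=
  { toFun := fun x => m.app W x
    map_add' := fun x y => map_add _ x y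
    map_smul' := fun r x => Scheme.Modules.Hom.app_smul m r x }

/-- `K_0 ≅ F_0` -/
theorem isIso_kι_zero : IsIso (kι J 0 (S.F 0)) := by
  have h0 : IsZero (modJ (J ^ 0) (S.F 0)) := by
    rw [pow_zero, Ideal.one_eq_top]
    exact isZero_modJ_top (S.F 0)
  exact Groth.Agent.Lib.Helper26.ModSec.isIso_kernel_ι_of_eq_zero _ (h0.eq_of_tgt _ _)

include ha hspan in
/-- the modules `M_k` on `X_0` are coherent -/
theorem isCoh_M (h0 : Coh.IsCoh (S.F 0)) (k : ℕ) : Coh.IsCoh (S.M k) := by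
  induction k with
  | zero =>
    haveI := S.isIso_kι_zero
    have hK : Coh.IsCoh (S.K 0) :=
      Groth.Agent.Lib.R2H2.PdSheaf.isCoh_of_iso (asIso (kι J 0 (S.F 0))).symm h0
    haveI : SheafOfModules.IsFiniteType (R := (T.Xs 0).ringCatSheaf) (S.K 0) := hK.2
    exact ⟨inferInstanceAs (S.M 0).IsQuasicoherent,
      Groth.Agent.Lib.Helper20.FormalPull.isFiniteType_pullback (T.ι 0) (S.K 0)⟩
  | succ k ih =>
    refine ⟨inferInstanceAs (S.M (k + 1)).IsQuasicoherent, ?_⟩
    rw [Groth.Agent.Lib.Helper23.FinType.isFiniteType_iff_forall_affine]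
    intro U hU
    haveI : SheafOfModules.IsFiniteType (R := (T.Xs 0).ringCatSheaf) (S.M k) := ih.2
    haveI : Module.Finite Γ(T.Xs 0, U) Γ(S.M k, U) :=
      Groth.Agent.Lib.Helper23.FinType.finite_of_isFiniteType (S.M k) hU
    let Φ : (Fin r → Γ(S.M k, U)) →ₗ[Γ(T.Xs 0, U)] Γ(S.M (k + 1), U) :=
      ∑ j, (appₗ (S.Top (a j) (ha j) k) U).comp (LinearMap.proj j)
    refine Module.Finite.of_surjective Φ fun y => ?_
    obtain ⟨x, hx⟩ := S.exists_sections_U a ha hspan k hU y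
    refine ⟨x, ?_⟩
    rw [hx]
    simp only [Φ, LinearMap.sum_apply, LinearMap.comp_apply, LinearMap.proj_apply]
    rfl

end QSys

end Groth.Agent.Lib.R2H3.TowerB
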