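import Mathlib
import Groth.Agent.Lib.R2H3TowerB
import Groth.Agent.Lib.R2H3AmpleFinite
import Groth.Agent.Lib.R2H3AmpleSV
import Groth.Agent.Lib.R2H2ClosedPn
import Groth.Agent.Lib.Helper23AmpleIso

/-!
# Uniform vanishing on a tower of thickenings (helper3, round 2)

`uniform_vanishing_tower` : for an adic system `X_k → Spec (A/J^(k+1))` (`A` Noetherian, `X_0` proper), compatible invertible modules `L_k`
with `L_0` ample, and compatible coherent modules `F_k`: there is `n₀` with `H^q(X_k, F_k ⊗ L_k^n) = 0` for all `n ≥ n₀`, all `k` and `q > 0`;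
moreover `H^q(X_k, J^k F_k ⊗ L_k^n) = 0`.
-/

set_option autoImplicit false
set_option linter.style.haveILetI false
set_option linter.unusedSectionVars false
universe u
open CategoryTheory CategoryTheory.Limits AlgebraicGeometry TopologicalSpace Opposite

namespace Groth.Agent.Lib.R2H3.TowerC

open Scheme.Modules Groth.Agent.Lib.R2H3.TowerB Groth.Agent.Lib.R2H3.TowerA Groth.Agent.Lib.R2H3.GradedFam
  Groth.Agent.Lib.R2H2.PnSerre Groth.Agent.Lib.Helper23.AmpleIso

variable {A : Type u} [CommRing A] {J : Ideal A}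

/-- a compatible system of invertible modules on a tower -/
structure LSys (T : Tower J) where
  L : ∀ k, (T.Xs k).Modules
  hL : ∀ k, PicF.IsInvertible (L k)
  φ : ∀ k, (Scheme.Modules.pullback (T.i k)).obj (L (k + 1)) ≅ L k

namespace LSys

variable {T : Tower J} (Ls : LSys T)

theorem nonempty_pullι_iso (k : ℕ) :
    Nonempty ((Scheme.Modules.pullback (T.ι k)).obj (Ls.L k) ≅ Ls.L 0) := by
  induction k with
  | zero => exact ⟨(pullbackId (T.Xs 0)).app (Ls.L 0)⟩
  | succ k ih =>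
    obtain ⟨e⟩ := ih
    exact ⟨(pullbackCongr (T.ι_succ k)).app (Ls.L (k + 1)) ≪≫
      ((pullbackComp (T.ι k) (T.i k)).app (Ls.L (k + 1))).symm ≪≫
      (Scheme.Modules.pullback (T.ι k)).mapIso (Ls.φ k) ≪≫ e⟩

end LSys

/-- cohomology of a twisted pushforward along an affine morphism -/
theorem subsingleton_HH_push_twist {W X : Scheme.{u}} (g : W ⟶ X) [IsAffineHom g] (L : X.Modules)
    (hL : PicF.IsInvertible L) (L' : W.Modules) (e : (Scheme.Modules.pullback g).obj L ≅ L')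
    (N : W.Modules) [N.IsQuasicoherent] (n q : ℕ)
    (h : Subsingleton (Coh.HH W (CohB1.tensorMod N (CohB1.tensorPow L' n)) q)) :
    Subsingleton (Coh.HH X (CohB1.tensorMod ((pushforward g).obj N) (CohB1.tensorPow L n)) q) := by
  obtain ⟨Φ⟩ := Groth.Agent.Lib.R2H3.AmpleFinite.nonempty_push_twist_iso g L hL N n
  have hL' : PicF.IsInvertible L' :=
    isInvertible_of_iso e
      (Groth.Agent.Lib.Helper23.PB.isInvertible_pullback g L hL)
  haveI : (CohB1.tensorPow L' n).IsQuasicoherent :=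
    Groth.Agent.Lib.Helper23.SecTw.isQuasicoherent_of_isInvertible _
      (Groth.Agent.Lib.Helper23.SecTw.isInvertible_tensorPow hL' n)
  have hq : Coh.IsQCoh (CohB1.tensorMod N (CohB1.tensorPow L' n)) :=
    Groth.Agent.Lib.Helper23.TensorQCoh.isQuasicoherent_tensorMod _ _
  have h1 := (Groth.Agent.Lib.R2H2.ClosedPn.subsingleton_HH_push_iff g _ hq q).1 h
  have e2 : CohB1.tensorMod N (CohB1.tensorPow L' n) ≅
      CohB1.tensorMod N (CohB1.tensorPow ((Scheme.Modules.pullback g).obj L) n) :=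
    tensorModIso (Iso.refl N) (tensorPowIso e.symm n)
  exact subsingleton_HH_of_iso (((pushforward g).mapIso e2) ≪≫ Φ.symm) q h1

section main

variable {T : Tower J} (S : QSys T) (Ls : LSys T)

/-- vanishing for `J^k F_k` on `X_k` from vanishing for `M_k` on `X_0` -/
theorem subsingleton_HH_K (k n q : ℕ)
    (h : Subsingleton (Coh.HH (T.Xs 0) (CohB1.tensorMod (S.M k) (CohB1.tensorPow (Ls.L 0) n)) q)) :
    Subsingleton (Coh.HH (T.Xs k) (CohB1.tensorMod (S.K k) (CohB1.tensorPow (Ls.L k) n)) q) := by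
  obtain ⟨e⟩ := Ls.nonempty_pullι_iso k
  have h1 := subsingleton_HH_push_twist (T.ι k) (Ls.L k) (Ls.hL k) (Ls.L 0) e (S.M k) n q h
  exact subsingleton_HH_of_iso (tensorModIso (S.e k).symm (Iso.refl _)) q h1

/-- vanishing for `F_k` by induction on `k` -/
theorem subsingleton_HH_F (n : ℕ)
    (hM : ∀ k q : ℕ, 0 < q →
      Subsingleton (Coh.HH (T.Xs 0) (CohB1.tensorMod (S.M k) (CohB1.tensorPow (Ls.L 0) n)) q)) :
    ∀ k q : ℕ, 0 < q →
      Subsingleton (Coh.HH (T.Xs k) (CohB1.tensorMod (S.F k) (CohB1.tensorPow (Ls.L k) n)) q) := by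
  intro k
  induction k with
  | zero =>
    intro q hq
    haveI := S.isIso_kι_zero
    have h1 := subsingleton_HH_K S Ls 0 n q (hM 0 q hq)
    exact subsingleton_HH_of_iso (tensorModIso (asIso (kι J 0 (S.F 0))) (Iso.refl _)) q h1
  | succ k ih =>
    intro q hq
    have hS := shortExact_map_twR (CohB1.tensorPow (Ls.L (k + 1)) n)
      (Groth.Agent.Lib.Helper23.SecTw.isInvertible_tensorPow (Ls.hL (k + 1)) n) _
      (ses J (T.i k) k (S.θ k))
    have h1 := subsingleton_HH_K S Ls (k + 1) n q (hM (k + 1) q hq)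
    have h3 := subsingleton_HH_push_twist (T.i k) (Ls.L (k + 1)) (Ls.hL (k + 1)) (Ls.L k) (Ls.φ k)
      (S.F k) n q (ih q hq)
    exact subsingleton_X₂ _ hS q h1 h3

end main

/-- **Uniform vanishing on a tower of thickenings** (EGA III 5.2.x). -/
theorem uniform_vanishing_tower [IsNoetherianRing A] (T : Tower J) (hp : IsProper (T.p 0)) (Ls : LSys T)
    (hamp : CohB1.IsAmple (Ls.L 0)) (S : QSys T) (hF : Coh.IsCoh (S.F 0)) :
    ∃ n₀ : ℕ, ∀ n : ℕ, n₀ ≤ n → ∀ k q : ℕ, 0 < q →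
      Subsingleton (Coh.HH (T.Xs k) (CohB1.tensorMod (S.F k) (CohB1.tensorPow (Ls.L k) n)) q) ∧
      Subsingleton (Coh.HH (T.Xs k) (CohB1.tensorMod (S.K k) (CohB1.tensorPow (Ls.L k) n)) q) := by
  haveI := hp
  haveI : IsLocallyNoetherian (T.Xs 0) := LocallyOfFiniteType.isLocallyNoetherian (T.p 0)
  haveI : CompactSpace (T.Xs 0) := QuasiCompact.compactSpace_of_compactSpace (T.p 0)
  haveI : IsNoetherian (T.Xs 0) := {}
  obtain ⟨r, a, hspan⟩ := Submodule.fg_iff_exists_fin_generating_family.1 (IsNoetherian.noetherian J)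
  have ha : ∀ j, a j ∈ J := fun j => by
    rw [← hspan]
    exact Submodule.subset_span ⟨j, rfl⟩
  obtain ⟨n₀, hn₀⟩ := uniform_vanishing (Ls.L 0) (Ls.hL 0)
    (fun K hK => Groth.Agent.Lib.R2H3.AmpleSV.serre_vanishing_ample (A ⧸ J ^ (0 + 1)) (T.p 0) (Ls.L 0)
      hamp K hK) r (S.fam a ha) (S.isCoh_M a ha hspan hF) (fun U hU => ⟨0, S.genOn_fam a ha hspan hU⟩)
  exact ⟨n₀, fun n hn k q hq =>
    ⟨subsingleton_HH_F S Ls n (fun k q hq => hn₀ n hn k q hq) k q hq,
      subsingleton_HH_K S Ls k n q (hn₀ n hn k q hq)⟩⟩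

end Groth.Agent.Lib.R2H3.TowerC
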