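import Mathlib
import Groth.Agent.Lib.R2H3TowerC
import Groth.Agent.Lib.Helper23LocGen
import Groth.Agent.Lib.Helper23TensorMap
import Groth.Agent.Lib.R2H2PnLinRes
import Groth.Agent.Lib.R2H2CoprodSec
import Groth.Agent.Lib.Helper4ModEpi
import Groth.Agent.Lib.R2H2TensorLin

/-!
# Uniform global generation on a tower of thickenings (helper3, round 2)
-/

set_option autoImplicit false
set_option linter.style.haveILetI false
set_option linter.unusedSectionVars false
universe u
open CategoryTheory CategoryTheory.Limits AlgebraicGeometry TopologicalSpace Opposite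

namespace Groth.Agent.Lib.R2H3.TowerGG

open Scheme.Modules Groth.Agent.Lib.Helper23.LocGen Groth.Agent.Lib.Helper23.SecTw
  Groth.Agent.Lib.Helper23.GenLocus Groth.Agent.Lib.Helper6
  Groth.Agent.Lib.R2H2.HHLin Groth.Agent.Lib.R2H2.PnSerre Groth.Agent.Lib.R2H2.PnLinRes

attribute [local instance] Abelian.hasFiniteBiproducts

section General

variable {X : Scheme.{u}}

/-- a globally generated module is generated by its global sections near every point -/
theorem locGen_of_isGloballyGenerated (N : X.Modules) (h : Curv2.IsGloballyGenerated N) : LocGen N ⊤ := by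
  classical
  obtain ⟨ι, p, hp⟩ := h
  intro A _ m y hy
  let E : ι → X.Modules := fun _ => Coh.structureModule X
  let p' : (∐ E) ⟶ N := p
  haveI : Epi p' := hp
  obtain ⟨V, hVA, hyV, g, hg⟩ := Groth.Agent.Lib.Helper4.ModEpi.exists_app_eq_of_epi p' A m y hy
  obtain ⟨T', hT', hyT', S, hS⟩ := Groth.Agent.Lib.R2H2.CoprodSec.mem_locFin E g y hyV
  refine ⟨T', hT'.trans hVA, hyT', ?_⟩
  set t := Groth.Agent.Lib.R2H2.SubFam.rs (∐ E) hT' g with ht
  have h1 : res N (hT'.trans hVA) m = p'.app T' t := by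
    have h := Groth.Agent.Lib.Helper23.Extend.app_map p' (homOfLE hT') g
    rw [ht]
    refine Eq.trans ?_ h.symm
    rw [hg]
    exact (res_res N hVA hT' m).symm
  rw [h1]
  have h2 : p'.app T' t = ∑ j ∈ S, (Sigma.ι E j ≫ p').app T' ((Sigma.π E j).app T' t) := by
    conv_lhs => rw [← hS]
    change (Groth.Agent.Lib.R2H2.CoprodSec.eS E S ≫ p').app T' t = _
    unfold Groth.Agent.Lib.R2H2.CoprodSec.eS
    rw [Preadditive.sum_comp]
    have h := map_sum (Groth.Agent.Lib.Helper23.Serre.evalHom (N := N) T' t)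
      (fun j => (Sigma.π E j ≫ Sigma.ι E j) ≫ p') S
    refine h.trans ?_
    refine Finset.sum_congr rfl (fun j _ => ?_)
    rw [Category.assoc]
    rfl
  rw [h2]
  refine Submodule.sum_mem _ (fun j _ => ?_)
  rw [Groth.Agent.Lib.Helper23.TensorMap.app_eq_smul_sv]
  exact Submodule.smul_mem _ _ (sv_mem_gspan N _ T')

theorem cls_injective (M : X.Modules) : Function.Injective (cls (M := M)) := by
  intro σ τ h
  apply hom_ext_of_sv
  exact (Groth.Agent.Lib.Helper27PnSections.hh0Equiv X M).symm.injective h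

/-- sections of the quotient lift when `H^1` of the kernel vanishes -/
theorem exists_lift_of_subsingleton (S : ShortComplex X.Modules) (hS : S.ShortExact)
    (h1 : Subsingleton (Coh.HH X S.X₁ 1)) (τ : Coh.structureModule X ⟶ S.X₃) :
    ∃ σ : Coh.structureModule X ⟶ S.X₂, σ ≫ S.g = τ := by
  obtain ⟨x₂, hx₂⟩ := exact₃ S hS 0 (cls τ) (Subsingleton.elim _ _)
  obtain ⟨σ, rfl⟩ := cls_surjective S.X₂ x₂
  refine ⟨σ, cls_injective _ ?_⟩
  rw [← cls_comp, hx₂]

section Nak

variable {A : Type u} [CommRing A] [X.Over (Spec (CommRingCat.of A))]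

/-- **categorical Nakayama**: if `G → Q` has kernel `∑ b_l G` with `b_l b_m G = 0`, a map `p : P → G` which is epi after
composing with `G → Q` is epi -/
theorem nakayama_epi {r : ℕ} (b : Fin r → A) {E G Q P : X.Modules} (ε : E ⟶ G) (v : G ⟶ Q) (w : ε ≫ v = 0)
    (hex : (ShortComplex.mk ε v w).Exact)
    (j : Fin r → (G ⟶ E)) (hj : ∀ l, j l ≫ ε = Formal.smulMod A G (b l))
    (hjepi : ∀ (Z : X.Modules) (h : E ⟶ Z), (∀ l, j l ≫ h = 0) → h = 0)
    (hbb : ∀ l m, Formal.smulMod A G (b l * b m) = 0)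
    (p : P ⟶ G) (hpv : Epi (p ≫ v)) : Epi p := by
  haveI : Epi v := epi_of_epi p v
  let π := cokernel.π p
  -- `ε ≫ π` is epi
  have h1 : Epi (ε ≫ π) := by
    apply Abelian.epi_of_cokernel_π_eq_zero
    set δ := cokernel.π (ε ≫ π) with hδ
    have hk : ε ≫ (π ≫ δ) = 0 := by
      rw [← Category.assoc]
      exact cokernel.condition _
    have hd : (p ≫ v) ≫ hex.desc (π ≫ δ) hk = 0 := by
      rw [Category.assoc]
      erw [hex.g_desc]
      rw [← Category.assoc, cokernel.condition, zero_comp]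
    have hd0 : hex.desc (π ≫ δ) hk = 0 := by
      rw [← cancel_epi (p ≫ v), hd, comp_zero]
    have h2 : π ≫ δ = 0 := by
      have := hex.g_desc (π ≫ δ) hk
      rw [hd0] at this
      rw [← this]
      exact comp_zero
    rw [← cancel_epi π, h2, comp_zero]
  -- `b_m` kills the cokernel
  have h2 : ∀ m, Formal.smulMod A (cokernel p) (b m) = 0 := by
    intro m
    rw [← cancel_epi (ε ≫ π), comp_zero]
    apply hjepi
    intro l
    rw [Category.assoc, ← Category.assoc (j l), hj, ← Groth.Agent.S9530.smulMod_comp, ← Category.assoc,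
      ← CohIII.smulMod_mul, hbb, zero_comp]
  have h3 : ε ≫ π = 0 := by
    apply hjepi
    intro l
    rw [← Category.assoc, hj, Groth.Agent.S9530.smulMod_comp, h2, comp_zero]
  apply Abelian.epi_of_cokernel_π_eq_zero
  have h4 : 𝟙 (cokernel p) = 0 := by
    rw [← cancel_epi (ε ≫ π), h3, zero_comp, zero_comp]
  change π = 0
  rw [← Category.comp_id π, h4, comp_zero]

end Nak

section Tw

variable {A : Type u} [CommRing A] [X.Over (Spec (CommRingCat.of A))]

open Groth.Agent.Lib.R2H2.FlatDev Groth.Agent.Lib.R2H2.SheafBC Groth.Agent.Lib.R2H3.FormalKer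

theorem twR_map_smulMod (L M : X.Modules) (a : A) :
    (twR L).map (Formal.smulMod A M a) = Formal.smulMod A ((twR L).obj M) a := by
  have h1 := (twIso L).hom.naturality (Formal.smulMod A M a)
  have h2 : (DCoh.tensorBi.obj L).map (Formal.smulMod A M a) =
      Formal.smulMod A ((DCoh.tensorBi.obj L).obj M) a :=
    Groth.Agent.Lib.R2H2.TensorLin.tensorBi_map_smulModΓ L M _
  rw [h2] at h1
  have h3 : (twIso L).hom.app M ≫ (twR L).map (Formal.smulMod A M a) =
      (twIso L).hom.app M ≫ Formal.smulMod A ((twR L).obj M) a := by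
    rw [← h1]
    exact (KLin.comp_smulModΓ _ _).symm
  exact (cancel_epi ((twIso L).hom.app M)).1 h3

theorem exact_map_twR (L : X.Modules) (hL : PicF.IsInvertible L) (S : ShortComplex X.Modules)
    (hS : S.Exact) : (S.map (twR L)).Exact := by
  have h := (Functor.exact_tfae (twR L)).out 0 1
  exact h.1 (fun S hS => shortExact_map_twR L hL S hS) S hS

variable {r : ℕ} (b : Fin r → A) (I : Ideal A)

/-- `⊕_l F → F`, `(x_l) ↦ ∑ b_l x_l` -/
noncomputable def εb (F : X.Modules) : (⨁ fun _ : Fin r => F) ⟶ F :=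
  biproduct.desc (fun l => Formal.smulMod A F (b l))

theorem ι_εb (F : X.Modules) (l : Fin r) :
    biproduct.ι (fun _ : Fin r => F) l ≫ εb b F = Formal.smulMod A F (b l) :=
  biproduct.ι_desc _ l

theorem εb_π (hb : ∀ l, b l ∈ I) (F : X.Modules) : εb b F ≫ πJ I F = 0 := by
  apply biproduct.hom_ext'
  intro l
  have h : Formal.smulFamily I F ≫ πJ I F = 0 := cokernel.condition _
  rw [← Category.assoc, ι_εb, comp_zero, smulMod_eq_ι I F (b l) (hb l), Category.assoc, h, comp_zero]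

theorem exact_εb (hb : ∀ l, b l ∈ I) (hspan : Ideal.span (Set.range b) = I) (F : X.Modules)
    [F.IsQuasicoherent] : (ShortComplex.mk (εb b F) (πJ I F) (εb_π b I hb F)).Exact := by
  rw [ShortComplex.exact_iff_epi_kernel_lift]
  apply Groth.Agent.Lib.Helper23.Serre.epi_of_locally_surjective
  intro V t x hxV
  obtain ⟨V', hV', hxV', hV'V⟩ := exists_isAffineOpen_mem_and_subset (x := x) (U := V) hxV
  refine ⟨V', hV'V, hxV', ?_⟩
  set t' := (kernel (πJ I F)).presheaf.map (homOfLE hV'V).op t with ht'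
  set y := (kernel.ι (πJ I F)).app V' t' with hy
  have hy0 : (πJ I F).app V' y = 0 := by
    change (kernel.ι (πJ I F) ≫ πJ I F).app V' t' = 0
    rw [kernel.condition]
    rfl
  have hmem := mem_of_πJ_app_eq_zero I F hV' y hy0
  let β := bW (X ↘ Spec (CommRingCat.of A)) V'
  have hI : I.map β = Ideal.span (Set.range (fun l => β (b l))) * ⊤ := by
    rw [Ideal.mul_top, ← hspan, Ideal.map_span, ← Set.range_comp]
    rfl
  unfold JS at hmem
  rw [hI] at hmem
  obtain ⟨z, -, hyz⟩ := exists_sum_of_mem_smul _ _ _ hmem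
  refine ⟨∑ l, (biproduct.ι (fun _ : Fin r => F) l).app V' (z l), ?_⟩
  apply Groth.Agent.Lib.Helper20.StalkExact.injective_app_of_mono (kernel.ι (πJ I F)) V'
  change (kernel.lift (πJ I F) (εb b F) (εb_π b I hb F) ≫ kernel.ι (πJ I F)).app V' _ = y
  rw [kernel.lift_ι, map_sum, hyz]
  refine Finset.sum_congr rfl fun l _ => ?_
  change (biproduct.ι (fun _ : Fin r => F) l ≫ εb b F).app V' (z l) = _
  rw [ι_εb, smulMod_app]

end Tw

end General

theorem epi_of_epi_comp_iso {C : Type*} [Category C] {P G Q Q' : C} (p : P ⟶ G) (v₀ : G ⟶ Q) (m : Q ≅ Q')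
    (h : Epi (p ≫ v₀ ≫ m.hom)) : Epi (p ≫ v₀) := by
  have h3 : p ≫ v₀ = (p ≫ v₀ ≫ m.hom) ≫ m.inv := by
    rw [Category.assoc, Category.assoc, Iso.hom_inv_id, Category.comp_id]
  rw [h3]
  exact epi_comp _ _

section Star

variable {Y' Y : Scheme.{u}} (i : Y' ⟶ Y) [IsClosedImmersion i] [Surjective i]
  {G : Y.Modules} {G' : Y'.Modules} (v : G ⟶ (pushforward i).obj G')
  (hlift : ∀ τ : Coh.structureModule Y ⟶ (pushforward i).obj G',
    ∃ σ : Coh.structureModule Y ⟶ G, σ ≫ v = τ)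

include hlift in
/-- sections spanned by global sections downstairs lift to sections spanned by global sections upstairs -/
theorem exists_gspan_lift {B : Y.Opens} (hB : IsAffineOpen B) (m : Γ(G', i ⁻¹ᵁ B))
    (hm : m ∈ gspan G' (i ⁻¹ᵁ B)) : ∃ n ∈ gspan G B, v.app B n = m := by
  induction hm using Submodule.span_induction with
  | mem x hx =>
    obtain ⟨σ', rfl⟩ := hx
    let τ : Coh.structureModule Y ⟶ (pushforward i).obj G' :=
      secHom ((pushforward i).obj G') (show Γ((pushforward i).obj G', ⊤) from sv σ' ⊤)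
    obtain ⟨σ, hσ⟩ := hlift τ
    refine ⟨sv σ B, sv_mem_gspan G σ B, ?_⟩
    have h1 : v.app B (sv σ B) = sv (σ ≫ v) B := rfl
    rw [h1, hσ, sv_secHom]
    exact res_sv σ' (show i ⁻¹ᵁ B ≤ ⊤ from le_top)
  | zero => exact ⟨0, zero_mem _, map_zero _⟩
  | add x y _ _ hx hy =>
    obtain ⟨n₁, hn₁, h₁⟩ := hx
    obtain ⟨n₂, hn₂, h₂⟩ := hy
    exact ⟨n₁ + n₂, add_mem hn₁ hn₂, by rw [map_add, h₁, h₂]; rfl⟩
  | smul c x _ hx =>
    obtain ⟨n, hn, hnx⟩ := hx
    obtain ⟨d, hd⟩ := i.app_surjective B hB c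
    refine ⟨d • n, Submodule.smul_mem _ _ hn, ?_⟩
    rw [Scheme.Modules.Hom.app_smul, hnx, ← hd]
    rfl

include hlift in
/-- if `G'` is generated by global sections and global sections lift along `v`, a map hitting all global sections of `G`
is epi after composing with `v` -/
theorem epi_comp_of_locGen (hG' : LocGen G' ⊤) {P : Y.Modules} (p : P ⟶ G)
    (hp : ∀ σ : Coh.structureModule Y ⟶ G, ∃ ι : Coh.structureModule Y ⟶ P, ι ≫ p = σ) :
    Epi (p ≫ v) := by
  apply Groth.Agent.Lib.Helper23.Serre.epi_of_locally_surjective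
  intro V t x hxV
  obtain ⟨x', rfl⟩ := i.surjective x
  let t' : Γ(G', i ⁻¹ᵁ V) := t
  obtain ⟨B', hB', hxB', hmem⟩ := hG' (i ⁻¹ᵁ V) le_top t' x' hxV
  let B₀ : Y.Opens := ⟨i '' (B' : Set Y'),
    (Groth.Agent.Lib.Helper22.ThickAffine.isHomeomorph_of_surjective i i.surjective).isOpenMap _ B'.2⟩
  have hB₀ : i ⁻¹ᵁ B₀ = B' := by
    ext y
    change i y ∈ i '' (B' : Set Y') ↔ y ∈ B'
    exact i.isClosedEmbedding.injective.mem_set_image
  obtain ⟨B, hB, hxB, hBle⟩ := exists_isAffineOpen_mem_and_subset (x := i x') (U := V ⊓ B₀)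
    ⟨hxV, ⟨x', hxB', rfl⟩⟩
  refine ⟨B, hBle.trans inf_le_left, hxB, ?_⟩
  have hle : i ⁻¹ᵁ B ≤ B' := by
    rw [← hB₀]
    exact fun y hy => (hBle hy).2
  have hmem' : res G' hle (res G' hB' t') ∈ gspan G' (i ⁻¹ᵁ B) := res_mem_gspan G' hle hmem
  obtain ⟨n, hn, hvn⟩ := exists_gspan_lift i v hlift hB _ hmem'
  obtain ⟨a, ha⟩ := exists_app_eq_of_mem_gspan p hp hn
  refine ⟨a, ?_⟩
  change v.app B (p.app B a) = _
  rw [ha, hvn]
  exact (res_res G' hB' hle t').trans rfl

end Star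

section Step

open Groth.Agent.Lib.R2H2.FlatDev Groth.Agent.Lib.R2H3.TowerA Groth.Agent.Lib.Helper23.AmpleIso

variable {A : Type u} [CommRing A] [IsNoetherianRing A] (J : Ideal A)
  {Y' Y : Scheme.{u}} [Y'.Over (Spec (CommRingCat.of A))] [Y.Over (Spec (CommRingCat.of A))]
  (i : Y' ⟶ Y) [IsClosedImmersion i] [Surjective i]
  (k : ℕ) (hY : ∀ M : Y.Modules, Formal.KilledBy (J ^ (k + 1 + 1)) M)
  {F : Y.Modules} [F.IsQuasicoherent] {F' : Y'.Modules}
  (θ : modJ (J ^ (k + 1)) F ≅ (pushforward i).obj F')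
  (L : Y.Modules) (hL : PicF.IsInvertible L) (L' : Y'.Modules)
  (e : (Scheme.Modules.pullback i).obj L ≅ L') (n : ℕ)

include hY hL e θ in
/-- **one step**: global generation of `F' ⊗ L'^n` on `Y'` and `H^1(Y, J^(k+1) F ⊗ L^n) = 0` give global generation of
`F ⊗ L^n` on the thickening `Y` -/
theorem isGloballyGenerated_step
    (h1 : Subsingleton (Coh.HH Y (CohB1.tensorMod (Kk J (k + 1) F) (CohB1.tensorPow L n)) 1))
    (hG' : Curv2.IsGloballyGenerated (CohB1.tensorMod F' (CohB1.tensorPow L' n))) :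
    Curv2.IsGloballyGenerated (CohB1.tensorMod F (CohB1.tensorPow L n)) := by
  classical
  obtain ⟨Ln, hLndef⟩ : ∃ Ln : Y.Modules, Ln = CohB1.tensorPow L n := ⟨_, rfl⟩
  have hLn : PicF.IsInvertible Ln := by
    rw [hLndef]
    exact Groth.Agent.Lib.Helper23.SecTw.isInvertible_tensorPow hL n
  obtain ⟨G', hG'def⟩ : ∃ G' : Y'.Modules, G' = CohB1.tensorMod F' (CohB1.tensorPow L' n) := ⟨_, rfl⟩
  obtain ⟨Φ₀⟩ := Groth.Agent.Lib.R2H3.AmpleFinite.nonempty_push_twist_iso i L hL F' n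
  have Φ : (twR Ln).obj ((pushforward i).obj F') ≅ (pushforward i).obj G' := by
    rw [hLndef, hG'def]
    exact Φ₀ ≪≫ (pushforward i).mapIso (tensorModIso (Iso.refl F') (tensorPowIso e n))
  rw [← hLndef] at h1 ⊢
  rw [← hG'def] at hG'
  change Curv2.IsGloballyGenerated ((twR Ln).obj F)
  change Subsingleton (Coh.HH Y ((twR Ln).obj (Kk J (k + 1) F)) 1) at h1
  -- the twisted short exact sequence
  have hS := shortExact_map_twR Ln hLn _ (ses J i k θ)
  obtain ⟨v, hv⟩ : ∃ v : (twR Ln).obj F ⟶ (pushforward i).obj G',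
      v = (twR Ln).map (u J i k θ) ≫ Φ.hom := ⟨_, rfl⟩
  -- lifting of sections
  have hlift' : ∀ τ' : Coh.structureModule Y ⟶ (twR Ln).obj ((pushforward i).obj F'),
      ∃ σ : Coh.structureModule Y ⟶ (twR Ln).obj F, σ ≫ (twR Ln).map (u J i k θ) = τ' :=
    fun τ' => exists_lift_of_subsingleton _ hS h1 τ'
  have hlift : ∀ τ : Coh.structureModule Y ⟶ (pushforward i).obj G',
      ∃ σ : Coh.structureModule Y ⟶ (twR Ln).obj F, σ ≫ v = τ := by
    intro τ
    obtain ⟨σ, hσ⟩ := hlift' (τ ≫ Φ.inv)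
    refine ⟨σ, ?_⟩
    rw [hv, ← Category.assoc, hσ, Category.assoc, Iso.inv_hom_id, Category.comp_id]
  -- the tautological map
  let p : (SheafOfModules.free (Coh.structureModule Y ⟶ (twR Ln).obj F) : Y.Modules) ⟶ (twR Ln).obj F :=
    Sigma.desc (C := SheafOfModules Y.ringCatSheaf)
      (fun s : (Coh.structureModule Y ⟶ (twR Ln).obj F) => s)
  have hp : ∀ s : Coh.structureModule Y ⟶ (twR Ln).obj F,
      (show Coh.structureModule Y ⟶
          (SheafOfModules.free (Coh.structureModule Y ⟶ (twR Ln).obj F) : Y.Modules) from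
        SheafOfModules.ιFree (R := Y.ringCatSheaf) s) ≫ p = s := fun s =>
    Sigma.ι_desc (C := SheafOfModules Y.ringCatSheaf)
      (fun s : (Coh.structureModule Y ⟶ (twR Ln).obj F) => s) s
  have hepi : Epi (p ≫ v) :=
    epi_comp_of_locGen i v hlift (locGen_of_isGloballyGenerated _ hG') p (fun σ => ⟨_, hp σ⟩)
  -- generators of `J^(k+1)`
  obtain ⟨r, b, hspan⟩ := Submodule.fg_iff_exists_fin_generating_family.1
    (IsNoetherian.noetherian (J ^ (k + 1)))
  have hb : ∀ l, b l ∈ J ^ (k + 1) := fun l => by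
    rw [← hspan]
    exact Submodule.subset_span ⟨l, rfl⟩
  have hex₀ := exact_map_twR Ln hLn _ (exact_εb b (J ^ (k + 1)) hb hspan F)
  have w₀ : (twR Ln).map (εb b F) ≫ (twR Ln).map (πJ (J ^ (k + 1)) F) = 0 := by
    rw [← Functor.map_comp, εb_π b (J ^ (k + 1)) hb F, Functor.map_zero]
  have hex : (ShortComplex.mk ((twR Ln).map (εb b F)) ((twR Ln).map (πJ (J ^ (k + 1)) F)) w₀).Exact :=
    hex₀
  have hepi₀ : Epi (p ≫ (twR Ln).map (πJ (J ^ (k + 1)) F)) := by
    have hv' : v = (twR Ln).map (πJ (J ^ (k + 1)) F) ≫ ((twR Ln).mapIso θ ≪≫ Φ).hom := by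
      rw [hv]
      unfold u
      rw [Functor.map_comp, Category.assoc]
      rfl
    rw [hv'] at hepi
    exact epi_of_epi_comp_iso p _ _ hepi
  refine ⟨_, p, ?_⟩
  refine nakayama_epi (A := A) b ((twR Ln).map (εb b F)) ((twR Ln).map (πJ (J ^ (k + 1)) F)) w₀ hex
    (fun l => (twR Ln).map (biproduct.ι (fun _ : Fin r => F) l)) ?_ ?_ ?_ p hepi₀
  · intro l
    rw [← Functor.map_comp, ι_εb, twR_map_smulMod]
  · intro Z h hh
    have h0 : h = (twR Ln).map (𝟙 _) ≫ h := by
      rw [CategoryTheory.Functor.map_id, Category.id_comp]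
    rw [h0, ← biproduct.total, Functor.map_sum, Preadditive.sum_comp]
    refine Finset.sum_eq_zero (fun l _ => ?_)
    rw [Functor.map_comp, Category.assoc, hh l, comp_zero]
  · intro l m
    refine hY _ (b l * b m) ?_
    have h2 : b l * b m ∈ J ^ (k + 1) * J ^ (k + 1) := Ideal.mul_mem_mul (hb l) (hb m)
    rw [← pow_add] at h2
    exact Ideal.pow_le_pow_right (by omega) h2

end Step

section main

open Groth.Agent.Lib.R2H3.TowerB Groth.Agent.Lib.R2H3.TowerC

variable {A : Type u} [CommRing A] {J : Ideal A}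

/-- **Uniform global generation on a tower of thickenings** (EGA III 5.2.x). -/
theorem uniform_globallyGenerated_tower [IsNoetherianRing A] (T : Tower J) (hp : IsProper (T.p 0))
    (Ls : LSys T) (hamp : CohB1.IsAmple (Ls.L 0)) (S : QSys T) (hF : Coh.IsCoh (S.F 0)) :
    ∃ N : ℕ, ∀ n : ℕ, N ≤ n → ∀ k : ℕ,
      Curv2.IsGloballyGenerated (CohB1.tensorMod (S.F k) (CohB1.tensorPow (Ls.L k) n)) := by
  obtain ⟨n₀, hn₀⟩ := uniform_vanishing_tower T hp Ls hamp S hF
  haveI : SheafOfModules.IsFiniteType (R := (T.Xs 0).ringCatSheaf) (S.F 0) := hF.2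
  obtain ⟨n₁, hn₁⟩ := isGloballyGenerated_twist_eventually (Ls.L 0) hamp (S.F 0)
  refine ⟨max n₀ n₁, fun n hn k => ?_⟩
  induction k with
  | zero => exact hn₁ n ((le_max_right _ _).trans hn)
  | succ k ih =>
    exact isGloballyGenerated_step J (T.i k) k (T.killedBy (k + 1))
      (S.θ k) (Ls.L (k + 1)) (Ls.hL (k + 1)) (Ls.L k) (Ls.φ k) n
      (hn₀ n ((le_max_left _ _).trans hn) (k + 1) 1 one_pos).2 ih

end main

end Groth.Agent.Lib.R2H3.TowerGG
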