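import Mathlib
import Groth.Prelude
import Groth.Agent.Lib.R2H3TowerGG
import Groth.Agent.Lib.Helper23LocGen
import Groth.Agent.Lib.Helper6QCohQcqs

set_option autoImplicit false
universe u
open CategoryTheory CategoryTheory.Limits AlgebraicGeometry TopologicalSpace Opposite

namespace Groth.Agent.Lib.H9RegBlowG

open Groth.Agent.Lib.Helper23.LocGen Groth.Agent.Lib.Helper23.SecTw Groth.Agent.Lib.Helper6

variable {X : Scheme.{u}}

/-- a section of a quasi-coherent module over a basic open of an affine open, lying in the span of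
the global sections, extends after multiplication by a power of the function. -/
theorem exists_extension_gspan (F : X.Modules) {U : X.Opens} (hU : IsAffineOpen U) (f : Γ(X, U))
    (z : Γ(F, X.basicOpen f)) (hz : z ∈ gspan F (X.basicOpen f)) :
    ∃ (k : ℕ) (t : Γ(F, U)), t ∈ gspan F U ∧
      res F (X.basicOpen_le f) t = (resf (X.basicOpen_le f) f) ^ k • z := by
  induction hz using Submodule.span_induction with
  | mem z hz =>
    obtain ⟨σ, rfl⟩ := hz
    refine ⟨0, sv σ U, sv_mem_gspan F σ U, ?_⟩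
    rw [pow_zero, one_smul, res_sv]
  | zero => exact ⟨0, 0, zero_mem _, by rw [res_zero, smul_zero]⟩
  | add z₁ z₂ _ _ h₁ h₂ =>
    obtain ⟨k₁, t₁, ht₁, e₁⟩ := h₁
    obtain ⟨k₂, t₂, ht₂, e₂⟩ := h₂
    refine ⟨k₁ + k₂, f ^ k₂ • t₁ + f ^ k₁ • t₂,
      add_mem (Submodule.smul_mem _ _ ht₁) (Submodule.smul_mem _ _ ht₂), ?_⟩
    rw [res_add', res_smul, res_smul, e₁, e₂, resf_pow, resf_pow, smul_add, ← mul_smul, ← mul_smul,
      ← pow_add, ← pow_add, add_comm k₂ k₁]
  | smul c z _ h =>
    obtain ⟨k, t, ht, e⟩ := h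
    have inst := hU.isLocalization_basicOpen f
    obtain ⟨⟨a, ⟨_, n, rfl⟩⟩, ha⟩ := IsLocalization.surj (Submonoid.powers f) c
    have ha' : c * (resf (X.basicOpen_le f) f) ^ n = resf (X.basicOpen_le f) a := by
      have h0 : ∀ r : Γ(X, U), algebraMap Γ(X, U) Γ(X, X.basicOpen f) r =
          resf (X.basicOpen_le f) r := fun _ => rfl
      have := ha
      simp only [h0, map_pow] at this
      exact this
    refine ⟨k + n, a • t, Submodule.smul_mem _ _ ht, ?_⟩
    rw [res_smul, e, ← ha', ← mul_smul, ← mul_smul, pow_add]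
    congr 1
    ring

theorem gspan_eq_top (F : X.Modules) [F.IsQuasicoherent] (hLG : LocGen F ⊤) {U : X.Opens}
    (hU : IsAffineOpen U) : gspan F U = ⊤ := by
  rw [eq_top_iff]
  intro m _
  let 𝔞 : Ideal Γ(X, U) :=
    { carrier := {r | r • m ∈ gspan F U}
      add_mem' := by
        intro r s hr hs
        show (r + s) • m ∈ gspan F U
        rw [add_smul]; exact add_mem hr hs
      zero_mem' := by
        show (0 : Γ(X, U)) • m ∈ gspan F U
        rw [zero_smul]; exact zero_mem _
      smul_mem' := by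
        intro c r hr
        show (c • r) • m ∈ gspan F U
        rw [smul_eq_mul, mul_smul]; exact Submodule.smul_mem _ _ hr }
  suffices h : 𝔞 = ⊤ by
    have h1 : (1 : Γ(X, U)) ∈ 𝔞 := by rw [h]; trivial
    have h2 : (1 : Γ(X, U)) • m ∈ gspan F U := h1
    rwa [one_smul] at h2
  by_contra hne
  obtain ⟨P, hPmax, hle⟩ := Ideal.exists_le_maximal 𝔞 hne
  let p : PrimeSpectrum Γ(X, U) := ⟨P, hPmax.isPrime⟩
  let y : X := hU.fromSpec p
  have hyU : y ∈ U := by
    have h : y ∈ Set.range hU.fromSpec := ⟨p, rfl⟩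
    rw [hU.range_fromSpec] at h
    exact h
  obtain ⟨B, hB, hyB, hmem⟩ := hLG U le_top m y hyU
  obtain ⟨f, hfB, hyf⟩ := hU.exists_basicOpen_le ⟨y, hyB⟩ hyU
  have hmem' : res F (X.basicOpen_le f) m ∈ gspan F (X.basicOpen f) := by
    have := res_mem_gspan F hfB hmem
    rwa [res_res] at this
  obtain ⟨k, t, ht, e⟩ := exists_extension_gspan F hU f _ hmem'
  have h0 : res F (X.basicOpen_le f) (t - f ^ k • m) = 0 := by
    rw [res_sub, res_smul, resf_pow, e, sub_self]
  obtain ⟨l, hl⟩ := exists_pow_smul_eq_zero_of_isCompact F hU.isCompact f _ h0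
  have h1 : f ^ (l + k) ∈ 𝔞 := by
    show f ^ (l + k) • m ∈ gspan F U
    rw [smul_sub, sub_eq_zero] at hl
    rw [pow_add, mul_smul, ← hl]
    exact Submodule.smul_mem _ _ ht
  have h2 : f ∈ P := hPmax.isPrime.mem_of_pow_mem _ (hle h1)
  have h3 : p ∈ hU.fromSpec ⁻¹ᵁ (X.basicOpen f) := hyf
  rw [hU.fromSpec_preimage_basicOpen] at h3
  exact h3 h2

end Groth.Agent.Lib.H9RegBlowG
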