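import Mathlib
import Groth.Prelude
import Groth.Agent.Lib.H9RegBlowF
import Groth.Agent.Lib.H9RegBlowG
import Groth.Agent.Lib.Helper23AffOpen3

set_option autoImplicit false
universe u
open nonZeroDivisors CategoryTheory CategoryTheory.Limits AlgebraicGeometry TopologicalSpace Opposite
open Groth.Agent.Lib.H9AffBlow Groth.Agent.Lib.H9AffBlow2

/-! helper9: `H¹(X, F) = 0` for a globally generated quasi-coherent module on the blow-up of a
two-dimensional regular local ring in its closed point. -/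

namespace Groth.Agent.Lib.H9RegBlowH

open Groth.Agent.Lib.Helper23.LocGen Groth.Agent.Lib.Helper23.SecTw Groth.Agent.Lib.Helper6
open Groth.Agent.Lib.Helper23.AffVanish IsLocalRing
open Groth.Agent.Lib.H9RegBlowE Groth.Agent.Lib.H9RegBlowF Groth.Agent.Lib.H9RegBlowG

theorem main1624 (A : Type u) [CommRing A] [IsRegularLocalRing A] (hA : ringKrullDim A = 2)
    (X : Scheme.{u}) (b : X ⟶ Spec (CommRingCat.of A))
    (hb : BlowUp.IsBlowUp b (Curv2.idealSheaf A (IsLocalRing.maximalIdeal A)))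
    (F : X.Modules) (hF : Coh.IsQCoh F) (hgg : Curv2.IsGloballyGenerated F) :
    Subsingleton (Coh.HH X F 1) := by
  haveI : IsDomain A := Groth.Agent.Lib.Helper5.isDomain_of_isRegularLocalRing A
  have hd2 : ringKrullDim A = ((2 : ℕ) : WithBot ℕ∞) := by rw [hA]; rfl
  obtain ⟨z, hz⟩ := Groth.Agent.Lib.Helper5.HilbertRLR.exists_regular_system hd2
  obtain ⟨x, hx⟩ : ∃ x : A, x = (z 0 : A) := ⟨_, rfl⟩
  obtain ⟨y, hy⟩ : ∃ y : A, y = (z 1 : A) := ⟨_, rfl⟩
  have hxy : Ideal.span {x, y} = maximalIdeal A := by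
    rw [← hz, hx, hy]
    congr 1
    ext t
    simp only [Set.mem_insert_iff, Set.mem_singleton_iff, Set.mem_range]
    constructor
    · rintro (rfl | rfl)
      · exact ⟨0, rfl⟩
      · exact ⟨1, rfl⟩
    · rintro ⟨i, rfl⟩
      fin_cases i
      · exact Or.inl rfl
      · exact Or.inr rfl
  have hxm : x ∈ maximalIdeal A := by
    rw [← hxy]; exact Ideal.subset_span (Set.mem_insert _ _)
  have hym : y ∈ maximalIdeal A := by
    rw [← hxy]; exact Ideal.subset_span (Set.mem_insert_of_mem _ rfl)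
  set J := (Curv2.idealSheaf A (maximalIdeal A)).comap b with hJ
  set U₁ : X.Opens := goodOpen J (gmap b x) with hU₁def
  set U₂ : X.Opens := goodOpen J (gmap b y) with hU₂def
  have hU₁ : IsAffineOpen U₁ := isAffineOpen_goodOpen A (maximalIdeal A) x hxm b hb
  have hU₂ : IsAffineOpen U₂ := isAffineOpen_goodOpen A (maximalIdeal A) y hym b hb
  have hcov : (⊤ : X.Opens) ≤ U₁ ⊔ U₂ := by
    intro x' _
    obtain ⟨a, ha, hx'⟩ := Groth.Agent.Lib.H9RegBlowC.exists_good_nbhd_of_span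
      (maximalIdeal A) {x, y} hxy b hb.1 x'
    rcases ha with rfl | rfl
    · exact Or.inl hx'
    · exact Or.inr hx'
  have hft : BlowUp.IsFiniteTypeIdeal (Curv2.idealSheaf A (maximalIdeal A)) := by
    intro V
    haveI : IsNoetherianRing Γ(Spec (CommRingCat.of A), V.1) :=
      IsLocallyNoetherian.component_noetherian V
    exact IsNoetherian.noetherian _
  haveI : IsProper b := Groth.Agent.Lib.H9BlowProper.isProper_of_isBlowUp b _ hft hb
  have hU₁₂ : IsAffineOpen (U₁ ⊓ U₂) := by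
    have h : IsAffineHom (pullback.diagonal b) := inferInstance
    exact isAffineHom_diagonal_iff.mp h ⊤ (isAffineOpen_top _) U₁ le_top U₂ le_top hU₁ hU₂
  haveI : F.IsQuasicoherent := hF
  have hLG := Groth.Agent.Lib.R2H3.TowerGG.locGen_of_isGloballyGenerated F hgg
  have hspan := gspan_eq_top F hLG hU₁₂
  -- module-level decomposition
  have hdecF : ∀ g : Γ(F, U₁ ⊓ U₂), ∃ (b₁ : Γ(F, U₁)) (b₂ : Γ(F, U₂)),
      g = res F (inf_le_left : U₁ ⊓ U₂ ≤ U₁) b₁ + res F (inf_le_right : U₁ ⊓ U₂ ≤ U₂) b₂ := by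
    intro g
    have hg : g ∈ gspan F (U₁ ⊓ U₂) := by rw [hspan]; trivial
    have key : ∀ c : Γ(X, U₁ ⊓ U₂), ∃ (b₁ : Γ(F, U₁)) (b₂ : Γ(F, U₂)),
        c • g = res F (inf_le_left : U₁ ⊓ U₂ ≤ U₁) b₁ +
          res F (inf_le_right : U₁ ⊓ U₂ ≤ U₂) b₂ := by
      induction hg using Submodule.span_induction with
      | mem g hg =>
        obtain ⟨σ, rfl⟩ := hg
        intro c
        obtain ⟨a, a', hc⟩ := exists_decomp b hb x y hxy c
        refine ⟨a • sv σ U₁, a' • sv σ U₂, ?_⟩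
        rw [res_smul, res_smul, res_sv, res_sv, ← add_smul]
        congr 1
      | zero => exact fun c => ⟨0, 0, by rw [smul_zero, res_zero, res_zero, add_zero]⟩
      | add g g' _ _ h h' =>
        intro c
        obtain ⟨b₁, b₂, e⟩ := h c
        obtain ⟨b₁', b₂', e'⟩ := h' c
        refine ⟨b₁ + b₁', b₂ + b₂', ?_⟩
        rw [smul_add, e, e', res_add', res_add']
        abel
      | smul r g _ h =>
        intro c
        obtain ⟨b₁, b₂, e⟩ := h (c * r)
        exact ⟨b₁, b₂, by rw [← e, mul_smul]⟩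
    obtain ⟨b₁, b₂, e⟩ := key 1
    exact ⟨b₁, b₂, by rw [← e, one_smul]⟩
  -- Mayer–Vietoris
  have hsub : Subsingleton (HE (ab' F) 1 (⊤ : X.Opens)) := by
    refine ⟨fun α β => ?_⟩
    have key : ∀ α : HE (ab' F) (0 + 1) (⊤ : X.Opens), α = 0 := by
      intro α
      haveI h1 : Subsingleton (HE (ab' F) (0 + 1) U₁) := subsingleton_HE_of_isAffineOpen hU₁ F 0
      haveI h2 : Subsingleton (HE (ab' F) (0 + 1) U₂) := subsingleton_HE_of_isAffineOpen hU₂ F 0
      refine eq_zero_of_mv (ab' F) 0 U₁ U₂ ⊤ le_top le_top hcov α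
        (Subsingleton.elim _ _) (Subsingleton.elim _ _) ?_
      intro γ
      obtain ⟨b₁, b₂, e⟩ := hdecF (h0F' F (U₁ ⊓ U₂) γ)
      refine ⟨(h0F' F U₁).symm b₁, (h0F' F U₂).symm (-b₂), ?_⟩
      apply (h0F' F (U₁ ⊓ U₂)).injective
      rw [map_sub, h0F'_res, h0F'_res, AddEquiv.apply_symm_apply, AddEquiv.apply_symm_apply, e]
      have : res F (inf_le_right : U₁ ⊓ U₂ ≤ U₂) (-b₂) =
          - res F (inf_le_right : U₁ ⊓ U₂ ≤ U₂) b₂ := map_neg _ _
      rw [this, sub_neg_eq_add]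
    exact (key α).trans (key β).symm
  exact (HETopEquivH X.carrier (ab' F) 1).symm.subsingleton

end Groth.Agent.Lib.H9RegBlowH
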