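import Mathlib
import Groth.Prelude

set_option autoImplicit false
universe u

open AlgebraicGeometry CategoryTheory RingTheory.Sequence TopologicalSpace

namespace Groth.Agent.Lib.H9RegIdealImm

theorem isRegularImmersion_subschemeι_iff {X : Scheme.{u}} (k : RegImm.Kind)
    (I : X.IdealSheafData) :
    RegImm.IsRegularImmersion k I.subschemeι ↔ RegImm.IsRegularIdeal k I := by
  constructor
  · rintro ⟨-, h⟩ x hx
    have hx' : x ∈ Set.range I.subschemeι := by
      rw [I.range_subschemeι]
      exact hx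
    obtain ⟨z, rfl⟩ := hx'
    obtain ⟨U, hz, -, rs, hrs, hker⟩ := h z
    refine ⟨U, hz, rs, hrs, ?_⟩
    rw [← hker, I.ker_subschemeι_app U]
  · intro h
    refine ⟨inferInstance, fun z => ?_⟩
    have hx : I.subschemeι z ∈ I.support := by
      rw [← SetLike.mem_coe, ← I.range_subschemeι]
      exact ⟨z, rfl⟩
    obtain ⟨U, hz, rs, hrs, hI⟩ := h _ hx
    refine ⟨U, hz, IsZariskiLocalAtTarget.restrict (P := @IsClosedImmersion) inferInstance U.1,
      rs, hrs, ?_⟩
    rw [← hI, I.ker_subschemeι_app U]

end Groth.Agent.Lib.H9RegIdealImm
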