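import Mathlib
import Groth.Prelude
import Groth.Agent.Lib.Helper5RegSeq
import Groth.Agent.Lib.Helper5StalkSpec
import Groth.Agent.Lib.H9RegImmStalk

set_option autoImplicit false
set_option linter.style.haveILetI false
set_option linter.unusedSectionVars false
universe u v w

namespace Groth.Agent.Lib.H9RegImmPres

open RingTheory.Sequence AlgebraicGeometry CategoryTheory

-- ===== from RS1 =====
section SecRS1
open Groth.Agent.Lib.Helper5.RegSeq

section Unit

variable {R : Type*} [CommRing R]

/-- unit multiples of a regular sequence -/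
theorem regOn_of_forall₂ {ss ts : List R}
    (h : List.Forall₂ (fun s t => ∃ u : R, IsUnit u ∧ t = s * u) ss ts) :
    ∀ J : Ideal R, RegOn J ss → RegOn J ts ∧ J ⊔ Ideal.ofList ts = J ⊔ Ideal.ofList ss := by
  induction h with
  | nil => intro J _; exact ⟨trivial, rfl⟩
  | @cons s t ss ts hst _ ih =>
    intro J hJ
    obtain ⟨u, hu, rfl⟩ := hst
    rw [regOn_cons] at hJ
    have hspan : Ideal.span {s * u} = Ideal.span {s} := Ideal.span_singleton_mul_right_unit hu s
    obtain ⟨h1, h2⟩ := ih _ hJ.2
    refine ⟨?_, ?_⟩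
    · rw [regOn_cons, hspan]
      refine ⟨fun c hc => ?_, h1⟩
      have hc' : (c * u) * s ∈ J := by
        have : c * u * s = c * (s * u) := by ring
        rw [this]; exact hc
      have := hJ.1 _ hc'
      exact (Ideal.mul_unit_mem_iff_mem J hu).mp this
    · rw [Ideal.ofList_cons, Ideal.ofList_cons, hspan, ← sup_assoc, ← sup_assoc]
      exact h2

end Unit

section Lift

variable {P : Type u} [CommRing P] (p : Ideal P) [p.IsPrime] (S : Type u) [CommRing S]
  [Algebra P S] [IsLocalization.AtPrime S p]

include p in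
/-- lifting generators of `I S` to elements of `I`, up to units -/
theorem exists_lift (I : Ideal P) (ss : List S)
    (hss : ∀ s ∈ ss, s ∈ I.map (algebraMap P S)) :
    ∃ as : List P, (∀ a ∈ as, a ∈ I) ∧
      List.Forall₂ (fun s t => ∃ u : S, IsUnit u ∧ t = s * u) ss (as.map (algebraMap P S)) := by
  induction ss with
  | nil => exact ⟨[], by simp, by simp⟩
  | cons s ss ih =>
    obtain ⟨as, has, hF⟩ := ih (fun s' hs' => hss s' (List.mem_cons_of_mem _ hs'))
    have hs := hss s List.mem_cons_self
    rw [IsLocalization.mem_map_algebraMap_iff p.primeCompl S] at hs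
    obtain ⟨⟨a, t⟩, hat⟩ := hs
    refine ⟨a.1 :: as, ?_, ?_⟩
    · intro b hb
      rcases List.mem_cons.mp hb with rfl | hb
      · exact a.2
      · exact has b hb
    · rw [List.map_cons]
      exact List.Forall₂.cons ⟨algebraMap P S t, IsLocalization.map_units S t, hat.symm⟩ hF

include p in
theorem exists_away_regular [IsNoetherianRing P] (I : Ideal P)
    (ss : List S) (hreg : IsWeaklyRegular S ss) (hI : I.map (algebraMap P S) = Ideal.ofList ss) :
    ∃ g : P, g ∉ p ∧ ∃ as : List P, (∀ a ∈ as, a ∈ I) ∧
      RegOn (⊥ : Ideal (Localization.Away g)) (as.map (algebraMap P (Localization.Away g))) ∧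
      I.map (algebraMap P (Localization.Away g)) ≤
        Ideal.ofList (as.map (algebraMap P (Localization.Away g))) := by
  obtain ⟨as, has, hF⟩ := exists_lift p S I ss (fun s hs => by
    rw [hI]
    exact Ideal.subset_span hs)
  have hreg' := (isWeaklyRegular_iff_regOn ss).mp hreg
  obtain ⟨h1, h2⟩ := regOn_of_forall₂ hF ⊥ hreg'
  rw [bot_sup_eq, bot_sup_eq] at h2
  have hle : I.map (algebraMap P S) ≤ (Ideal.ofList as).map (algebraMap P S) := by
    rw [hI, Ideal.map_ofList, h2]
  obtain ⟨g₁, hg₁, H₁⟩ := exists_notMem_forall_map_le.{u, u} p S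
    (IsNoetherian.noetherian I) hle
  have h1' : RegOn ((⊥ : Ideal P).map (algebraMap P S)) (as.map (algebraMap P S)) := by
    rw [Ideal.map_bot]
    exact h1
  obtain ⟨g₃, hg₃, H₃⟩ := exists_notMem_forall_regOn.{u, u} p S as ⊥ h1'
  refine ⟨g₁ * g₃, fun hmem => (Ideal.IsPrime.mem_or_mem ‹_› hmem).elim hg₁ hg₃, as, has, ?_, ?_⟩
  · have hu : IsUnit (algebraMap P (Localization.Away (g₁ * g₃)) (g₁ * g₃)) :=
      IsLocalization.Away.algebraMap_isUnit _
    rw [map_mul] at hu
    have := H₃ (Submonoid.powers (g₁ * g₃)) (Localization.Away (g₁ * g₃))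
      (isUnit_of_mul_isUnit_right hu)
    rwa [Ideal.map_bot] at this
  · have hu : IsUnit (algebraMap P (Localization.Away (g₁ * g₃)) (g₁ * g₃)) :=
      IsLocalization.Away.algebraMap_isUnit _
    rw [map_mul] at hu
    have := H₁ (Localization.Away (g₁ * g₃)) (isUnit_of_mul_isUnit_left hu)
    rwa [Ideal.map_ofList] at this

end Lift

end SecRS1

-- ===== from RS2 =====
section SecRS2
open Groth.Agent.Lib.Helper5.RegSeq

section Poly

variable {R : Type*} [CommRing R]

theorem poly_reg (g : R) (h : Polynomial R)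
    (h0 : h * (Polynomial.C g * Polynomial.X - 1) = 0) : h = 0 := by
  have h1 : ∀ k, (h * (Polynomial.C g * Polynomial.X - 1)).coeff k = 0 := by
    intro k; rw [h0]; simp
  have key : ∀ k, h.coeff k = 0 := by
    intro k
    induction k with
    | zero =>
      have := h1 0
      have e : h * (Polynomial.C g * Polynomial.X - 1) =
          Polynomial.C g * (h * Polynomial.X) - h := by ring
      rw [e, Polynomial.coeff_sub, Polynomial.coeff_C_mul, Polynomial.coeff_mul_X_zero, mul_zero,
        zero_sub, neg_eq_zero] at this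
      exact this
    | succ k ih =>
      have := h1 (k + 1)
      have e : h * (Polynomial.C g * Polynomial.X - 1) =
          Polynomial.C g * (h * Polynomial.X) - h := by ring
      rw [e, Polynomial.coeff_sub, Polynomial.coeff_C_mul, Polynomial.coeff_mul_X, ih, mul_zero,
        zero_sub, neg_eq_zero] at this
      exact this
  ext k
  rw [key k, Polynomial.coeff_zero]

end Poly

section Pres

variable (A : Type u) [CommRing A] (n : ℕ)

/-- the inclusion `A[X_1..X_n] → A[X_0..X_n]` -/
noncomputable def ι : MvPolynomial (Fin n) A →ₐ[A] MvPolynomial (Fin (n + 1)) A :=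
  MvPolynomial.rename Fin.succ

theorem finSuccEquiv_ι (a : MvPolynomial (Fin n) A) :
    MvPolynomial.finSuccEquiv A n (ι A n a) = Polynomial.C a := by
  have h : ((MvPolynomial.finSuccEquiv A n : MvPolynomial (Fin (n + 1)) A →ₐ[A] _).comp (ι A n)) =
      IsScalarTower.toAlgHom A (MvPolynomial (Fin n) A) (Polynomial (MvPolynomial (Fin n) A)) := by
    apply MvPolynomial.algHom_ext
    intro j
    simp only [AlgHom.comp_apply, ι, MvPolynomial.rename_X,
      IsScalarTower.coe_toAlgHom', Polynomial.algebraMap_apply,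
      Algebra.algebraMap_self, RingHom.id_apply]
    exact MvPolynomial.finSuccEquiv_X_succ
  have := congrArg (fun φ => φ a) h
  simpa using this

/-- the element `g X_0 - 1` -/
noncomputable def G (g : MvPolynomial (Fin n) A) : MvPolynomial (Fin (n + 1)) A :=
  ι A n g * MvPolynomial.X 0 - 1

theorem finSuccEquiv_G (g : MvPolynomial (Fin n) A) :
    MvPolynomial.finSuccEquiv A n (G A n g) = Polynomial.C g * Polynomial.X - 1 := by
  rw [G, map_sub, map_mul, map_one, finSuccEquiv_ι, MvPolynomial.finSuccEquiv_X_zero]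

/-- the projection `A[X_0..X_n] → A[X_1..X_n]_g` -/
noncomputable def π (g : MvPolynomial (Fin n) A) :
    MvPolynomial (Fin (n + 1)) A →+* Localization.Away g :=
  ((Localization.awayEquivAdjoin g).symm : _ →+* Localization.Away g).comp
    ((AdjoinRoot.mk (Polynomial.C g * Polynomial.X - 1)).comp
      (MvPolynomial.finSuccEquiv A n : MvPolynomial (Fin (n + 1)) A →+* _))

theorem π_surjective (g : MvPolynomial (Fin n) A) : Function.Surjective (π A n g) := by
  unfold π
  simp only [RingHom.coe_comp]
  exact ((Localization.awayEquivAdjoin g).symm.surjective.comp AdjoinRoot.mk_surjective).comp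
    (MvPolynomial.finSuccEquiv A n).surjective

theorem π_eq_zero_iff (g : MvPolynomial (Fin n) A) (x : MvPolynomial (Fin (n + 1)) A) :
    π A n g x = 0 ↔ x ∈ Ideal.span {G A n g} := by
  unfold π
  simp only [RingHom.coe_comp, Function.comp_apply, RingHom.coe_coe]
  rw [EmbeddingLike.map_eq_zero_iff, AdjoinRoot.mk_eq_zero, ← finSuccEquiv_G,
    Ideal.mem_span_singleton]
  exact map_dvd_iff (MvPolynomial.finSuccEquiv A n)

theorem ker_π (g : MvPolynomial (Fin n) A) : RingHom.ker (π A n g) = Ideal.span {G A n g} := by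
  ext x
  rw [RingHom.mem_ker, π_eq_zero_iff]

theorem π_ι (g a : MvPolynomial (Fin n) A) :
    π A n g (ι A n a) = algebraMap _ (Localization.Away g) a := by
  unfold π
  simp only [RingHom.coe_comp, Function.comp_apply, RingHom.coe_coe]
  rw [finSuccEquiv_ι, AdjoinRoot.mk_C, ← AdjoinRoot.algebraMap_eq, AlgEquiv.commutes]

theorem G_reg (g : MvPolynomial (Fin n) A) (c : MvPolynomial (Fin (n + 1)) A)
    (hc : c * G A n g = 0) : c = 0 := by
  have h1 := congrArg (MvPolynomial.finSuccEquiv A n) hc
  rw [map_mul, finSuccEquiv_G, map_zero] at h1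
  have h2 := poly_reg g _ h1
  exact (EmbeddingLike.map_eq_zero_iff (f := MvPolynomial.finSuccEquiv A n)).mp h2

theorem regOn_seq (g : MvPolynomial (Fin n) A) (as : List (MvPolynomial (Fin n) A))
    (h : RegOn (⊥ : Ideal (Localization.Away g))
      (as.map (algebraMap _ (Localization.Away g)))) :
    RegOn (⊥ : Ideal (MvPolynomial (Fin (n + 1)) A)) (G A n g :: as.map (ι A n)) := by
  rw [regOn_cons, bot_sup_eq]
  refine ⟨fun c hc => ?_, ?_⟩
  · rw [Ideal.mem_bot] at hc ⊢
    exact G_reg A n g c hc
  · rw [← regOn_map_of_surjective (π A n g) (π_surjective A n g) _ (ker_π A n g).le]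
    have h1 : (Ideal.span {G A n g}).map (π A n g) = ⊥ := by
      rw [Ideal.map_span, Set.image_singleton, Ideal.span_singleton_eq_bot]
      rw [π_eq_zero_iff]
      exact Ideal.mem_span_singleton_self _
    rw [h1, List.map_map]
    have h2 : as.map ((π A n g) ∘ (ι A n)) = as.map (algebraMap _ (Localization.Away g)) := by
      apply List.map_congr_left
      intro a _
      exact π_ι A n g a
    rw [h2]
    exact h

end Pres

end SecRS2

-- ===== from RS3 =====
section SecRS3
open Groth.Agent.Lib.Helper5.RegSeq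

section Iso

variable (A : Type u) [CommRing A] (n : ℕ) (I : Ideal (MvPolynomial (Fin n) A))
  (g : MvPolynomial (Fin n) A) (as : List (MvPolynomial (Fin n) A))

/-- the ideal of relations -/
noncomputable def K : Ideal (MvPolynomial (Fin (n + 1)) A) :=
  Ideal.ofList (G A n g :: as.map (ι A n))

theorem K_eq : K A n g as = Ideal.ofList (as.map (ι A n)) ⊔ RingHom.ker (π A n g) := by
  rw [K, Ideal.ofList_cons, ker_π, sup_comm]

theorem G_mem_K : G A n g ∈ K A n g as :=
  Ideal.subset_span List.mem_cons_self

theorem ι_mem_K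
    (hle : I.map (algebraMap _ (Localization.Away g)) ≤
      Ideal.ofList (as.map (algebraMap _ (Localization.Away g))))
    (x : MvPolynomial (Fin n) A) (hx : x ∈ I) : ι A n x ∈ K A n g as := by
  have h1 : π A n g (ι A n x) ∈ (Ideal.ofList (as.map (ι A n))).map (π A n g) := by
    rw [π_ι, Ideal.map_ofList, List.map_map]
    have h2 : as.map ((π A n g) ∘ (ι A n)) = as.map (algebraMap _ (Localization.Away g)) := by
      apply List.map_congr_left
      intro a _
      exact π_ι A n g a
    rw [h2]
    exact hle (Ideal.mem_map_of_mem _ hx)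
  rw [← Ideal.mem_comap, Ideal.comap_map_of_surjective _ (π_surjective A n g),
    ← RingHom.ker_eq_comap_bot] at h1
  rw [K_eq]
  exact h1

variable (has : ∀ a ∈ as, a ∈ I)

/-- the map to the localization of the quotient -/
noncomputable def φ : MvPolynomial (Fin (n + 1)) A →ₐ[A]
    Localization.Away (Ideal.Quotient.mk I g) :=
  MvPolynomial.aeval (Fin.cons (IsLocalization.Away.invSelf (Ideal.Quotient.mk I g))
    (fun j => algebraMap (MvPolynomial (Fin n) A ⧸ I) _ (Ideal.Quotient.mk I (MvPolynomial.X j))))

theorem φ_ι (x : MvPolynomial (Fin n) A) :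
    φ A n I g (ι A n x) = algebraMap (MvPolynomial (Fin n) A ⧸ I) _ (Ideal.Quotient.mk I x) := by
  have h : (φ A n I g).comp (ι A n) =
      (IsScalarTower.toAlgHom A (MvPolynomial (Fin n) A ⧸ I)
        (Localization.Away (Ideal.Quotient.mk I g))).comp (Ideal.Quotient.mkₐ A I) := by
    apply MvPolynomial.algHom_ext
    intro j
    simp only [AlgHom.comp_apply, ι, MvPolynomial.rename_X, φ, MvPolynomial.aeval_X,
      Fin.cons_succ]
    rfl
  exact congrArg (fun f => f x) h

theorem φ_G : φ A n I g (G A n g) = 0 := by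
  rw [G, map_sub, map_mul, map_one, φ_ι]
  have : φ A n I g (MvPolynomial.X 0) = IsLocalization.Away.invSelf (Ideal.Quotient.mk I g) := by
    simp [φ]
  rw [this, IsLocalization.Away.mul_invSelf, sub_self]

include has in
theorem φ_K (y : MvPolynomial (Fin (n + 1)) A) (hy : y ∈ K A n g as) : φ A n I g y = 0 := by
  have hle : K A n g as ≤ RingHom.ker (φ A n I g).toRingHom := by
    rw [K, Ideal.ofList, Ideal.span_le]
    intro z hz
    rw [SetLike.mem_coe, RingHom.mem_ker]
    change φ A n I g z = 0
    rcases List.mem_cons.mp hz with rfl | hz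
    · exact φ_G A n I g
    · obtain ⟨a, ha, rfl⟩ := List.mem_map.mp hz
      rw [φ_ι, Ideal.Quotient.eq_zero_iff_mem.mpr (has a ha), map_zero]
  exact hle hy

/-- backward map -/
noncomputable def F' : (MvPolynomial (Fin (n + 1)) A ⧸ K A n g as) →ₐ[A]
    Localization.Away (Ideal.Quotient.mk I g) :=
  Ideal.Quotient.liftₐ (K A n g as) (φ A n I g) (φ_K A n I g as has)

variable (hle : I.map (algebraMap _ (Localization.Away g)) ≤
      Ideal.ofList (as.map (algebraMap _ (Localization.Away g))))

/-- the map from the quotient -/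
noncomputable def ψ : (MvPolynomial (Fin n) A ⧸ I) →ₐ[A]
    (MvPolynomial (Fin (n + 1)) A ⧸ K A n g as) :=
  Ideal.Quotient.liftₐ I ((Ideal.Quotient.mkₐ A (K A n g as)).comp (ι A n))
    (fun x hx => Ideal.Quotient.eq_zero_iff_mem.mpr (ι_mem_K A n I g as hle x hx))

theorem ψ_mk (x : MvPolynomial (Fin n) A) :
    ψ A n I g as hle (Ideal.Quotient.mk I x) = Ideal.Quotient.mk (K A n g as) (ι A n x) := rfl

theorem mk_mul_X0 :
    Ideal.Quotient.mk (K A n g as) (ι A n g) * Ideal.Quotient.mk (K A n g as) (MvPolynomial.X 0)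
      = 1 := by
  rw [← map_mul, ← sub_eq_zero, ← map_one (Ideal.Quotient.mk (K A n g as)), ← map_sub,
    Ideal.Quotient.eq_zero_iff_mem]
  exact G_mem_K A n g as

theorem ψ_unit (y : Submonoid.powers (Ideal.Quotient.mk I g)) :
    IsUnit (ψ A n I g as hle y) := by
  obtain ⟨y, k, rfl⟩ := y
  change IsUnit (ψ A n I g as hle ((Ideal.Quotient.mk I g) ^ k))
  rw [map_pow, ψ_mk]
  exact (IsUnit.of_mul_eq_one _ (mk_mul_X0 A n g as)).pow k

/-- forward map -/
noncomputable def F : Localization.Away (Ideal.Quotient.mk I g) →ₐ[A]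
    (MvPolynomial (Fin (n + 1)) A ⧸ K A n g as) :=
  IsLocalization.liftAlgHom (M := Submonoid.powers (Ideal.Quotient.mk I g))
    (f := ψ A n I g as hle) (ψ_unit A n I g as hle)

theorem F_algebraMap (b : MvPolynomial (Fin n) A ⧸ I) :
    F A n I g as hle (algebraMap _ _ b) = ψ A n I g as hle b := by
  simp [F]

end Iso

end SecRS3

-- ===== from RS4 =====
section SecRS4
open Groth.Agent.Lib.Helper5.RegSeq

section Iso

variable (A : Type u) [CommRing A] (n : ℕ) (I : Ideal (MvPolynomial (Fin n) A))
  (g : MvPolynomial (Fin n) A) (as : List (MvPolynomial (Fin n) A))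
  (has : ∀ a ∈ as, a ∈ I)
  (hle : I.map (algebraMap _ (Localization.Away g)) ≤
      Ideal.ofList (as.map (algebraMap _ (Localization.Away g))))

theorem F'_F (y : Localization.Away (Ideal.Quotient.mk I g)) :
    F' A n I g as has (F A n I g as hle y) = y := by
  have h : ((F' A n I g as has).comp (F A n I g as hle)).toRingHom =
      RingHom.id (Localization.Away (Ideal.Quotient.mk I g)) := by
    apply IsLocalization.ringHom_ext (Submonoid.powers (Ideal.Quotient.mk I g))
    refine RingHom.ext fun b => ?_
    obtain ⟨x, rfl⟩ := Ideal.Quotient.mk_surjective b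
    change F' A n I g as has (F A n I g as hle (algebraMap _ _ (Ideal.Quotient.mk I x))) =
      algebraMap _ _ (Ideal.Quotient.mk I x)
    rw [F_algebraMap, ψ_mk]
    change φ A n I g (ι A n x) = _
    rw [φ_ι]
  exact congrArg (fun f => f y) h

theorem F_invSelf :
    F A n I g as hle (IsLocalization.Away.invSelf (Ideal.Quotient.mk I g)) =
      Ideal.Quotient.mk (K A n g as) (MvPolynomial.X 0) := by
  have h1 : F A n I g as hle (IsLocalization.Away.invSelf (Ideal.Quotient.mk I g)) *
      Ideal.Quotient.mk (K A n g as) (ι A n g) = 1 := by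
    rw [← ψ_mk A n I g as hle, ← F_algebraMap, ← map_mul, mul_comm,
      IsLocalization.Away.mul_invSelf, map_one]
  exact left_inv_eq_right_inv h1 (mk_mul_X0 A n g as)

theorem F_F' (y : MvPolynomial (Fin (n + 1)) A ⧸ K A n g as) :
    F A n I g as hle (F' A n I g as has y) = y := by
  obtain ⟨w, rfl⟩ := Ideal.Quotient.mk_surjective y
  change F A n I g as hle (φ A n I g w) = _
  have h : (F A n I g as hle).comp (φ A n I g) = Ideal.Quotient.mkₐ A (K A n g as) := by
    apply MvPolynomial.algHom_ext
    intro i
    refine Fin.cases ?_ (fun j => ?_) i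
    · have : φ A n I g (MvPolynomial.X 0) =
          IsLocalization.Away.invSelf (Ideal.Quotient.mk I g) := by
        simp [φ]
      rw [AlgHom.comp_apply, this, F_invSelf]
      rfl
    · have : φ A n I g (MvPolynomial.X j.succ) =
          algebraMap (MvPolynomial (Fin n) A ⧸ I) _ (Ideal.Quotient.mk I (MvPolynomial.X j)) := by
        simp [φ]
      rw [AlgHom.comp_apply, this, F_algebraMap, ψ_mk]
      simp [ι]
  exact congrArg (fun f => f w) h

/-- the isomorphism -/
noncomputable def e : Localization.Away (Ideal.Quotient.mk I g) ≃ₐ[A]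
    (MvPolynomial (Fin (n + 1)) A ⧸ K A n g as) :=
  AlgEquiv.ofAlgHom (F A n I g as hle) (F' A n I g as has)
    (AlgHom.ext (F_F' A n I g as has hle)) (AlgHom.ext (F'_F A n I g as has hle))

include has hle in
theorem main_ring (hreg : RegOn (⊥ : Ideal (Localization.Away g))
      (as.map (algebraMap _ (Localization.Away g))))
    (hne : Nontrivial (Localization.Away (Ideal.Quotient.mk I g))) :
    ∃ (d : ℕ) (Pf : Fin d → MvPolynomial (Fin (n + 1)) A),
      IsRegular (MvPolynomial (Fin (n + 1)) A) (List.ofFn Pf) ∧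
      Nonempty (Localization.Away (Ideal.Quotient.mk I g) ≃ₐ[A]
        (MvPolynomial (Fin (n + 1)) A ⧸ Ideal.ofList (List.ofFn Pf))) := by
  refine ⟨(G A n g :: as.map (ι A n)).length, (G A n g :: as.map (ι A n)).get, ?_, ?_⟩
  · rw [List.ofFn_get]
    refine ⟨(isWeaklyRegular_iff_regOn _).mpr (regOn_seq A n g as hreg), ?_⟩
    intro htop
    rw [smul_eq_mul, Ideal.mul_top] at htop
    have hK : K A n g as = ⊤ := htop.symm
    have hsub : Subsingleton (MvPolynomial (Fin (n + 1)) A ⧸ K A n g as) :=
      Ideal.Quotient.subsingleton_iff.mpr hK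
    have := (e A n I g as has hle).toEquiv.subsingleton
    exact not_subsingleton _ this
  · rw [List.ofFn_get]
    exact ⟨e A n I g as has hle⟩

end Iso

end SecRS4

-- ===== from RS5 =====
section SecRS5
open Groth.Agent.Lib.Helper5.RegSeq

theorem ker_localRingHom {P B : Type u} [CommRing P] [CommRing B] (f : P →+* B)
    (hf : Function.Surjective f) (q : Ideal B) [q.IsPrime] (p : Ideal P) [p.IsPrime]
    (hpq : p = q.comap f) :
    RingHom.ker (Localization.localRingHom p q f hpq) =
      (RingHom.ker f).map (algebraMap P (Localization.AtPrime p)) := by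
  have e1 : (algebraMap P (Localization.AtPrime p)).toAlgebra =
      (inferInstance : Algebra P (Localization.AtPrime p)) :=
    Algebra.algebra_ext _ _ (fun r => rfl)
  have e2 : (algebraMap B (Localization.AtPrime q)).toAlgebra =
      (inferInstance : Algebra B (Localization.AtPrime q)) :=
    Algebra.algebra_ext _ _ (fun r => rfl)
  refine Groth.Agent.Lib.Helper5.StalkSpec.ker_eq_map_of_isLocalization
    (algebraMap P (Localization.AtPrime p)) (algebraMap B (Localization.AtPrime q)) f
    (Localization.localRingHom p q f hpq) (fun a => ?_) hf p.primeCompl ?_ q.primeCompl ?_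
  · exact (Localization.localRingHom_to_map p q f hpq a).symm
  · rw [e1]; infer_instance
  · rw [e2]; infer_instance

theorem nontrivial_away {B : Type*} [CommRing B] (q : Ideal B) [q.IsPrime] (g : B) (hg : g ∉ q) :
    Nontrivial (Localization.Away g) := by
  by_contra hnt
  rw [not_nontrivial_iff_subsingleton] at hnt
  have h1 : algebraMap B (Localization.Away g) 1 = algebraMap B (Localization.Away g) 0 :=
    Subsingleton.elim _ _
  rw [IsLocalization.eq_iff_exists (Submonoid.powers g)] at h1
  obtain ⟨⟨c, k, rfl⟩, hc⟩ := h1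
  simp only [mul_one, mul_zero] at hc
  have : g ^ k ∈ q := by rw [hc]; exact q.zero_mem
  exact hg (Ideal.IsPrime.mem_of_pow_mem inferInstance k this)


set_option backward.isDefEq.respectTransparency.types false in
theorem stalk_data {P B : Type u} [CommRing P] [CommRing B] (f : P →+* B)
    (hf : Function.Surjective f) (q : PrimeSpectrum B)
    (rs : List ((Spec (CommRingCat.of P)).presheaf.stalk
      ((Spec.map (CommRingCat.ofHom f)) q)))
    (hreg : IsRegular ((Spec (CommRingCat.of P)).presheaf.stalk
      ((Spec.map (CommRingCat.ofHom f)) q)) rs)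
    (hker : RingHom.ker ((Spec.map (CommRingCat.ofHom f)).stalkMap q).hom = Ideal.ofList rs) :
    ∃ ss : List (Localization.AtPrime (q.comap f).asIdeal),
      IsWeaklyRegular (Localization.AtPrime (q.comap f).asIdeal) ss ∧
      (RingHom.ker f).map (algebraMap P (Localization.AtPrime (q.comap f).asIdeal)) =
        Ideal.ofList ss := by
  have hst := Scheme.localRingHom_comp_stalkIso (CommRingCat.ofHom f) q
  set a := (Spec.stalkIso (CommRingCat.of P) (q.comap f)) with ha
  set b := (Spec.stalkIso (CommRingCat.of B) q) with hb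
  have ha_bij : Function.Bijective a.hom.hom := ConcreteCategory.bijective_of_isIso a.hom
  have hb_bij : Function.Bijective b.inv.hom := ConcreteCategory.bijective_of_isIso b.inv
  refine ⟨rs.map a.hom.hom, ?_, ?_⟩
  · rw [isWeaklyRegular_iff_regOn]
    have h1 := (isWeaklyRegular_iff_regOn rs).mp hreg.toIsWeaklyRegular
    have h2 := (regOn_map_of_surjective a.hom.hom ha_bij.2 ⊥ (by
      intro x hx
      rw [RingHom.mem_ker] at hx
      rw [Ideal.mem_bot]
      exact ha_bij.1 (by rw [hx, map_zero])) rs).mpr h1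
    rwa [Ideal.map_bot] at h2
  · have hmem : ∀ x : ((Spec (CommRingCat.of P)).presheaf.stalk
        ((Spec.map (CommRingCat.ofHom f)) q)),
        x ∈ Ideal.ofList rs ↔ (Localization.localRingHom (PrimeSpectrum.comap f q).asIdeal
          q.asIdeal f rfl) (a.hom.hom x) = 0 := by
      intro x
      rw [← hker, RingHom.mem_ker, ← hst]
      constructor
      · intro h
        apply hb_bij.1
        rw [map_zero]
        exact h
      · intro h
        have h' : (Localization.localRingHom (PrimeSpectrum.comap f q).asIdeal q.asIdeal f rfl)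
          (a.hom.hom x) = 0 := h
        change b.inv.hom ((Localization.localRingHom (PrimeSpectrum.comap f q).asIdeal
          q.asIdeal f rfl) (a.hom.hom x)) = 0
        rw [h', map_zero]
    ext y
    rw [← ker_localRingHom f hf q.asIdeal (PrimeSpectrum.comap f q).asIdeal rfl, RingHom.mem_ker,
      ← Ideal.map_ofList]
    constructor
    · intro hy
      obtain ⟨x, rfl⟩ := ha_bij.2 y
      exact Ideal.mem_map_of_mem _ ((hmem x).mpr hy)
    · intro hy
      obtain ⟨x, hx, rfl⟩ := (Ideal.mem_map_iff_of_surjective _ ha_bij.2).mp hy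
      exact (hmem x).mp hx


theorem main
    (A : Type u) [CommRing A] [IsNoetherianRing A] (n : ℕ) (I : Ideal (MvPolynomial (Fin n) A))
    (h : RegImm.IsRegularImmersion RegImm.Kind.regular
      (Spec.map (CommRingCat.ofHom (Ideal.Quotient.mk I))))
    (q : PrimeSpectrum (MvPolynomial (Fin n) A ⧸ I)) :
    ∃ g : MvPolynomial (Fin n) A ⧸ I, g ∉ q.asIdeal ∧
      ∃ (d : ℕ) (P : Fin d → MvPolynomial (Fin (n + 1)) A),
        RingTheory.Sequence.IsRegular (MvPolynomial (Fin (n + 1)) A) (List.ofFn P) ∧
        Nonempty (Localization.Away g ≃ₐ[A]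
          (MvPolynomial (Fin (n + 1)) A ⧸ Ideal.ofList (List.ofFn P))) := by
  obtain ⟨rs, hreg, hker⟩ := Groth.Agent.Lib.H9RegImmStalk.main
    (Spec.map (CommRingCat.ofHom (Ideal.Quotient.mk I))) h q
  obtain ⟨ss, hw, hI⟩ := stalk_data (Ideal.Quotient.mk I) Ideal.Quotient.mk_surjective q rs
    hreg hker
  rw [Ideal.mk_ker] at hI
  obtain ⟨g, hg, as, has, hregOn, hle⟩ := exists_away_regular
    (q.comap (Ideal.Quotient.mk I)).asIdeal _ I ss hw hI
  have hgq : Ideal.Quotient.mk I g ∉ q.asIdeal := fun hmem => hg hmem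
  refine ⟨Ideal.Quotient.mk I g, hgq, ?_⟩
  exact main_ring A n I g as has hle hregOn (nontrivial_away q.asIdeal _ hgq)

end SecRS5


end Groth.Agent.Lib.H9RegImmPres
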