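import Mathlib
import Groth.Agent.Lib.H9RelSk

/-! For f locally of finite presentation, the set of points where f is flat and the fibre is (S_k) is open (restriction of H9RelSk to the open flat locus); also a generic restriction-to-the-flat-locus lemma (helper9). -/

set_option autoImplicit false
set_option linter.style.haveILetI false
set_option linter.unusedSimpArgs false
set_option linter.unusedVariables false
universe u

namespace Groth.Agent.Lib.H9RelSkFlatLocus

-- ===== part SkJ =====
section

open CategoryTheory CategoryTheory.Limits AlgebraicGeometry Topology TensorProduct TopologicalSpace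
  IsLocalRing
open Groth.Agent.Lib.H9RelSk

/-- restriction to the flat locus: a fibrewise locus `L` compatible with open immersions and open
for flat morphisms locally of finite presentation gives an open set `{flat at x ∧ x ∈ L f}`. -/
theorem isOpen_flat_and_locus
    (L : ∀ {X Y : Scheme.{u}} (_ : X ⟶ Y), Set X)
    (hoi : ∀ {X Y U : Scheme.{u}} (f : X ⟶ Y) (j : U ⟶ X), IsOpenImmersion j →
      L (j ≫ f) = j ⁻¹' L f)
    (hopen : ∀ {X Y : Scheme.{u}} (f : X ⟶ Y) [LocallyOfFinitePresentation f] [Flat f],
      IsOpen (L f))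
    {X Y : Scheme.{u}} (f : X ⟶ Y) [LocallyOfFinitePresentation f] :
    IsOpen {x : X | (f.stalkMap x).hom.Flat ∧ x ∈ L f} := by
  have hopen0 := Groth.Agent.S0386.result f
  obtain ⟨U, hU⟩ : ∃ U : X.Opens, (U : Set X) = {x : X | (f.stalkMap x).hom.Flat} :=
    ⟨⟨_, hopen0⟩, rfl⟩
  haveI : Flat (U.ι ≫ f) := by
    rw [Flat.iff_flat_stalkMap]
    intro u
    rw [Scheme.Hom.stalkMap_comp]
    have h1 : (f.stalkMap (U.ι u)).hom.Flat := by
      have hu : (u.1 : X) ∈ (U : Set X) := u.2
      rw [hU] at hu
      exact hu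
    have h2 : (U.ι.stalkMap u).hom.Flat := Flat.stalkMap U.ι u
    exact RingHom.Flat.comp h1 h2
  have hE := hopen (U.ι ≫ f)
  have heq : {x : X | (f.stalkMap x).hom.Flat ∧ x ∈ L f} = U.ι '' (L (U.ι ≫ f)) := by
    ext x
    constructor
    · rintro ⟨hfl, hcm⟩
      have hxU : x ∈ (U : Set X) := by rw [hU]; exact hfl
      refine ⟨⟨x, hxU⟩, ?_, rfl⟩
      rw [hoi f U.ι inferInstance]
      exact hcm
    · rintro ⟨u, hu, rfl⟩
      rw [hoi f U.ι inferInstance] at hu
      refine ⟨?_, hu⟩
      have hmem : (u.1 : X) ∈ (U : Set X) := u.2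
      rw [hU] at hmem
      exact hmem
  rw [heq]
  exact U.ι.isOpenEmbedding.isOpenMap _ hE

theorem main {X Y : Scheme.{u}} (f : X ⟶ Y) [LocallyOfFinitePresentation f] (k : ℕ) :
    IsOpen {x : X | (f.stalkMap x).hom.Flat ∧
      LocCoh.HasSk k ((f.fiber (f.base x)).presheaf.stalk (f.asFiber x))
        ((f.fiber (f.base x)).presheaf.stalk (f.asFiber x))} := by
  have h := isOpen_flat_and_locus (fun {X Y} f => Lsk k f)
    (fun f j hj => lsk_openImmersion k f j hj)
    (fun f _ _ => isOpen_lsk_of_flat k f) f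
  convert h using 1
  ext x
  exact and_congr Iff.rfl (skLoc_fiber_iff k f x).symm

end

end Groth.Agent.Lib.H9RelSkFlatLocus
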