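import Mathlib
import Groth.Agent.Lib.H9RelSk

/-! For f proper, flat and locally of finite presentation, the set of points of the base whose fibre is (S_k) is open (EGA IV 12.1.6-type corollary of H9RelSk via closedness of proper maps) (helper9). -/

set_option autoImplicit false
set_option linter.style.haveILetI false
set_option linter.unusedSimpArgs false
set_option linter.unusedVariables false
universe u

namespace Groth.Agent.Lib.H9RelSkProper

-- ===== part SkI =====
section

open CategoryTheory CategoryTheory.Limits AlgebraicGeometry Topology TensorProduct TopologicalSpace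
  IsLocalRing
open Groth.Agent.Lib.Helper5.FiberBC Groth.Agent.Lib.H9RelSk

theorem hasSk_fiber_stalk_iff (k : ℕ) {X Y : Scheme.{u}} (f : X ⟶ Y) [LocallyOfFiniteType f]
    (y : Y) (x : f.fiber y) :
    LocCoh.HasSk k ((f.fiber y).presheaf.stalk x) ((f.fiber y).presheaf.stalk x) ↔
      f.fiberι y x ∈ Lsk k f := by
  haveI : LocallyOfFiniteType (f.fiberToSpecResidueField y) := by
    dsimp only [Scheme.Hom.fiberToSpecResidueField]
    exact MorphismProperty.pullback_snd (P := @LocallyOfFiniteType) f _ inferInstance
  haveI : IsLocallyNoetherian (f.fiber y) :=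
    LocallyOfFiniteType.isLocallyNoetherian (f.fiberToSpecResidueField y)
  have h1 : LocCoh.HasSk k ((f.fiber y).presheaf.stalk x) ((f.fiber y).presheaf.stalk x) ↔
      SkLoc k ((f.fiber y).presheaf.stalk x) :=
    ⟨fun h => ⟨inferInstance, inferInstance, h⟩, fun ⟨_, _, h⟩ => h⟩
  have hy : f (f.fiberι y x) = y := by
    have : f.fiberι y x ∈ Set.range (f.fiberι y) := Set.mem_range_self x
    rw [f.range_fiberι y] at this
    exact this
  obtain ⟨e⟩ := fiber_stalk_transport f hy (f.asFiber (f.fiberι y x)) x
    (f.fiberι_asFiber (f.fiberι y x))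
  rw [h1]
  exact (skLoc_congr k e).symm

/-- **EGA IV 12.1.6-type corollary**: for `f` proper, flat and locally of finite presentation, the
set of points of the base whose fibre is `(S_k)` is open. -/
theorem main {X Y : Scheme.{u}} (f : X ⟶ Y) [IsProper f]
    [Flat f] [LocallyOfFinitePresentation f] (k : ℕ) :
    IsOpen {y : Y | ∀ x : ↥(f.fiber y), LocCoh.HasSk k ((f.fiber y).presheaf.stalk x)
      ((f.fiber y).presheaf.stalk x)} := by
  have hL := isOpen_lsk_of_flat k f
  have hclosed : IsClosed (f '' (Lsk k f)ᶜ) := f.isClosedMap _ hL.isClosed_compl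
  have heq : {y : Y | ∀ x : ↥(f.fiber y), LocCoh.HasSk k ((f.fiber y).presheaf.stalk x)
      ((f.fiber y).presheaf.stalk x)} = (f '' (Lsk k f)ᶜ)ᶜ := by
    ext y
    simp only [Set.mem_ofPred_eq, Set.mem_compl_iff, Set.mem_image, not_exists, not_and]
    constructor
    · intro h x₀ hx₀ hfx
      subst hfx
      apply hx₀
      have := (hasSk_fiber_stalk_iff k f (f x₀) (f.asFiber x₀)).mp (h _)
      rwa [f.fiberι_asFiber] at this
    · intro h x
      rw [hasSk_fiber_stalk_iff]
      by_contra hcon
      refine h (f.fiberι y x) hcon ?_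
      have : f.fiberι y x ∈ Set.range (f.fiberι y) := Set.mem_range_self x
      rw [f.range_fiberι y] at this
      exact this
  rw [heq]
  exact hclosed.isOpen_compl

end

end Groth.Agent.Lib.H9RelSkProper
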