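import Mathlib
import Groth.Prelude
import Groth.Agent.Lib.Helper22ThickAffine

set_option autoImplicit false
universe u

namespace Groth.Agent.Lib.H9RibSplit

open AlgebraicGeometry CategoryTheory CategoryTheory.Limits TopologicalSpace

variable {C S : Scheme.{u}}

theorem surjective_subschemeι_of_sq (I : C.IdealSheafData) (hI : I ^ 2 = ⊥) :
    Function.Surjective I.subschemeι := by
  rw [← Set.range_eq_univ, Scheme.IdealSheafData.range_subschemeι,
    ← Scheme.IdealSheafData.support_pow I 2 (by norm_num), hI,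
    Scheme.IdealSheafData.support_bot]
  rfl

theorem isAffine_of_sq (I : C.IdealSheafData) (hI : I ^ 2 = ⊥) [IsAffine I.subscheme] :
    IsAffine C :=
  Groth.Agent.Lib.Helper22.ThickAffine.isAffine_of_thickening I.subschemeι
    (surjective_subschemeι_of_sq I hI)

/-- split a square-zero thickening of a smooth affine scheme. -/
theorem exists_retraction [IsAffine S] (s : C ⟶ S) (I : C.IdealSheafData) (hI : I ^ 2 = ⊥)
    [IsAffine I.subscheme] [Smooth (I.subschemeι ≫ s)] :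
    ∃ r : C ⟶ I.subscheme, I.subschemeι ≫ r = 𝟙 I.subscheme ∧ r ≫ I.subschemeι ≫ s = s := by
  haveI : IsAffine C := isAffine_of_sq I hI
  letI : Algebra Γ(S, ⊤) Γ(C, ⊤) := (s.appTop).hom.toAlgebra
  letI : Algebra Γ(S, ⊤) Γ(I.subscheme, ⊤) := ((I.subschemeι ≫ s).appTop).hom.toAlgebra
  have hsm : RingHom.Smooth ((I.subschemeι ≫ s).appTop).hom :=
    (HasRingHomProperty.iff_of_isAffine (P := @Smooth)).mp inferInstance
  have hfs : Algebra.FormallySmooth Γ(S, ⊤) Γ(I.subscheme, ⊤) := by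
    have : Algebra.Smooth Γ(S, ⊤) Γ(I.subscheme, ⊤) := hsm
    exact this.formallySmooth
  let φ : Γ(C, ⊤) →ₐ[Γ(S, ⊤)] Γ(I.subscheme, ⊤) :=
    { (I.subschemeι.appTop).hom with
      commutes' := by
        intro a
        show (I.subschemeι.appTop).hom ((s.appTop).hom a) = ((I.subschemeι ≫ s).appTop).hom a
        rw [Scheme.Hom.comp_appTop]
        rfl }
  have hφsurj : Function.Surjective φ :=
    I.subschemeι_app_surjective ⟨⊤, isAffineOpen_top C⟩
  have hker : RingHom.ker (φ : Γ(C, ⊤) →+* Γ(I.subscheme, ⊤)) = I.ideal ⟨⊤, isAffineOpen_top C⟩ :=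
    I.ker_subschemeι_app ⟨⊤, isAffineOpen_top C⟩
  have hnil : IsNilpotent (RingHom.ker (φ : Γ(C, ⊤) →+* Γ(I.subscheme, ⊤))) := by
    refine ⟨2, ?_⟩
    rw [hker]
    have := congrArg (fun J : C.IdealSheafData => J.ideal ⟨⊤, isAffineOpen_top C⟩) hI
    simpa using this
  let σ := Algebra.FormallySmooth.liftOfSurjective (AlgHom.id Γ(S, ⊤) Γ(I.subscheme, ⊤)) φ
    hφsurj hnil
  have hσ : ∀ x, φ (σ x) = x := fun x =>
    Algebra.FormallySmooth.liftOfSurjective_apply (AlgHom.id Γ(S, ⊤) Γ(I.subscheme, ⊤)) φ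
      hφsurj hnil x
  let σ' : Γ(I.subscheme, ⊤) ⟶ Γ(C, ⊤) := CommRingCat.ofHom (σ : Γ(I.subscheme, ⊤) →+* Γ(C, ⊤))
  have h1 : σ' ≫ I.subschemeι.appTop = 𝟙 _ := by
    ext x
    exact hσ x
  have h2 : (I.subschemeι ≫ s).appTop ≫ σ' = s.appTop := by
    ext a
    exact σ.commutes a
  have h1' : Spec.map I.subschemeι.appTop ≫ Spec.map σ' = 𝟙 _ := by
    rw [← Spec.map_comp, h1, Spec.map_id]
  have h2' : Spec.map σ' ≫ Spec.map (I.subschemeι ≫ s).appTop = Spec.map s.appTop := by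
    rw [← Spec.map_comp, h2]
  refine ⟨C.isoSpec.hom ≫ Spec.map σ' ≫ I.subscheme.isoSpec.inv, ?_, ?_⟩
  · rw [← Category.assoc, ← Scheme.isoSpec_hom_naturality, Category.assoc, reassoc_of% h1',
      Iso.hom_inv_id]
  · have h3 := Scheme.isoSpec_inv_naturality (I.subschemeι ≫ s)
    rw [Category.assoc, Category.assoc, ← h3, reassoc_of% h2',
      Scheme.isoSpec_inv_naturality, Iso.hom_inv_id_assoc]

end Groth.Agent.Lib.H9RibSplit
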