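import Mathlib
import Groth.Prelude
import Groth.Agent.Lib.H9Blow2Geo
import Groth.Agent.Lib.H9Div21Geo4
import Groth.Agent.Lib.R2H1P1Inter

set_option autoImplicit false
set_option linter.style.haveILetI false
universe u

namespace Groth.Agent.Lib.H9Ribbon

open AlgebraicGeometry CategoryTheory CategoryTheory.Limits TopologicalSpace IsLocalRing Topology

/-- surjectivity from a square-zero kernel. -/
theorem surjective_of_sq_zero {R S T : Type u} [CommRing R] [CommRing S] [CommRing T]
    (φ : R →+* S) (π : S →+* T) (hsurj : Function.Surjective (π.comp φ))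
    (hsq : (RingHom.ker π) ^ 2 = ⊥)
    (hker : RingHom.ker π = (RingHom.ker (π.comp φ)).map φ) : Function.Surjective φ := by
  have hJ : ∀ x ∈ RingHom.ker π, x ∈ φ.range := by
    intro x hx
    rw [hker, Ideal.map] at hx
    induction hx using Submodule.span_induction with
    | mem y hy =>
      obtain ⟨a, -, rfl⟩ := hy
      exact ⟨a, rfl⟩
    | zero => exact Subring.zero_mem _
    | add y z _ _ hy hz => exact Subring.add_mem _ hy hz
    | smul s y hy ih =>
      obtain ⟨a', rfl⟩ := ih
      obtain ⟨r', hr'⟩ := hsurj (π s)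
      have hj : s - φ r' ∈ RingHom.ker π := by
        rw [RingHom.mem_ker, map_sub, sub_eq_zero]
        exact hr'.symm
      have hy' : φ a' ∈ RingHom.ker π := by
        rw [hker, Ideal.map]; exact hy
      have h0 : (s - φ r') * φ a' = 0 := by
        have : (s - φ r') * φ a' ∈ (RingHom.ker π) ^ 2 := by
          rw [pow_two]; exact Ideal.mul_mem_mul hj hy'
        rw [hsq] at this
        exact this
      refine ⟨r' * a', ?_⟩
      rw [map_mul, smul_eq_mul]
      have : s * φ a' = (s - φ r') * φ a' + φ r' * φ a' := by ring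
      rw [this, h0, zero_add]
  intro s
  obtain ⟨r, hr⟩ := hsurj (π s)
  have hj : s - φ r ∈ RingHom.ker π := by
    rw [RingHom.mem_ker, map_sub, sub_eq_zero]
    exact hr.symm
  obtain ⟨a, ha⟩ := hJ _ hj
  exact ⟨a + r, by rw [map_add, ha]; ring⟩

variable {D C X : Scheme.{u}}

theorem surjective_of_ker_sq (i : D ⟶ C) [IsClosedImmersion i] (hsq : i.ker ^ 2 = ⊥) :
    Function.Surjective i := by
  have h1 : (i.ker ^ 2).support = i.ker.support :=
    Scheme.IdealSheafData.support_pow _ 2 (by norm_num)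
  rw [hsq, Scheme.IdealSheafData.support_bot] at h1
  intro c
  have h2 : c ∈ (i.ker.support : Set C) := by rw [← h1]; trivial
  rw [Scheme.Hom.support_ker] at h2
  have h3 : closure (Set.range i) = Set.range i := i.isClosedEmbedding.isClosed_range.closure_eq
  rw [h3] at h2
  exact h2

theorem stalkIdeal_bot (c : C) : IntMult.stalkIdeal (⊥ : C.IdealSheafData) c = ⊥ := by
  obtain ⟨_, ⟨V, hV, rfl⟩, hzV, -⟩ := C.isBasis_affineOpens.exists_subset_of_mem_open
    (Set.mem_univ c) isOpen_univ
  rw [Groth.Agent.Lib.R2H1.CartierProd.stalkIdeal_eq_map_germ ⊥ ⟨V, hV⟩ c hzV,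
    Scheme.IdealSheafData.ideal_bot]
  exact Ideal.map_bot

/-- S18343. -/
theorem main18343 (i : D ⟶ C) (hi : IsClosedImmersion i) (hsq : i.ker ^ 2 = ⊥) (f : C ⟶ X) :
    IsClosedImmersion f ↔ (IsClosedImmersion (i ≫ f) ∧ (i ≫ f).ker.comap f = i.ker) := by
  have hisurj := surjective_of_ker_sq i hsq
  constructor
  · intro hf
    refine ⟨inferInstance, ?_⟩
    apply Groth.Agent.Lib.H9Div21Geo.eq_of_stalkIdeal_eq
    intro c
    obtain ⟨d, rfl⟩ := hisurj c
    rw [Groth.Agent.Lib.H9EffCartDesc.stalkIdeal_comap]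
    have h1 : IntMult.stalkIdeal (i ≫ f).ker (f (i d)) =
        Ideal.comap (f.stalkMap (i d)).hom (RingHom.ker (i.stalkMap d).hom) :=
      (Groth.Agent.Lib.R2H1.P1Inter.stalkIdeal_ker (i ≫ f) d).trans (by
        rw [RingHom.comap_ker, Scheme.Hom.stalkMap_comp]; rfl)
    rw [h1, Groth.Agent.Lib.R2H1.P1Inter.stalkIdeal_ker i d]
    exact Ideal.map_comap_of_surjective _ (f.stalkMap_surjective (i d)) _
  · rintro ⟨hcomp, hker⟩
    have hinj : Function.Injective f := by
      intro c c' h
      obtain ⟨d, rfl⟩ := hisurj c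
      obtain ⟨d', rfl⟩ := hisurj c'
      have : (i ≫ f) d = (i ≫ f) d' := h
      rw [(i ≫ f).isClosedEmbedding.injective this]
    have hclosed : IsClosedMap f := by
      intro S hS
      have : f '' S = (i ≫ f) '' (i ⁻¹' S) := by
        ext x
        constructor
        · rintro ⟨c, hc, rfl⟩
          obtain ⟨d, rfl⟩ := hisurj c
          exact ⟨d, hc, rfl⟩
        · rintro ⟨d, hd, rfl⟩
          exact ⟨i d, hd, rfl⟩
      rw [this]
      exact (i ≫ f).isClosedEmbedding.isClosedMap _ (hS.preimage i.continuous)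
    refine { stalkMap_surjective := ?_,
             isClosedEmbedding := IsClosedEmbedding.of_continuous_injective_isClosedMap
               f.continuous hinj hclosed }
    intro c
    obtain ⟨d, rfl⟩ := hisurj c
    have hJ : RingHom.ker (i.stalkMap d).hom = IntMult.stalkIdeal i.ker (i d) :=
      (Groth.Agent.Lib.R2H1.P1Inter.stalkIdeal_ker i d).symm
    apply surjective_of_sq_zero (f.stalkMap (i d)).hom (i.stalkMap d).hom
    · have h1 := (i ≫ f).stalkMap_surjective d
      rw [Scheme.Hom.stalkMap_comp] at h1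
      exact h1
    · rw [hJ, ← Groth.Agent.Lib.H9Blow2Geo.stalkIdeal_pow, hsq, stalkIdeal_bot]
    · rw [hJ, ← hker, Groth.Agent.Lib.H9EffCartDesc.stalkIdeal_comap]
      have h1 : IntMult.stalkIdeal (i ≫ f).ker (f (i d)) =
          RingHom.ker ((i.stalkMap d).hom.comp (f.stalkMap (i d)).hom) :=
        (Groth.Agent.Lib.R2H1.P1Inter.stalkIdeal_ker (i ≫ f) d).trans (by
          rw [Scheme.Hom.stalkMap_comp]; rfl)
      rw [h1]

end Groth.Agent.Lib.H9Ribbon
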