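import Mathlib
import Groth.Agent.Lib.H9RigE
import Groth.Agent.Lib.Helper11RedCl
import Groth.Agent.Lib.Helper12GeomConn
import Groth.Agent.Lib.Helper6SepCl2

/-! helper9: maps from abelian varieties are constant on translates of connected closed subsets
of the fibre through the unit (towards S7806, S19533). -/
set_option autoImplicit false

universe u
open CategoryTheory CategoryTheory.Limits MonoidalCategory CartesianMonoidalCategory MonObj GrpObj
  AlgebraicGeometry

namespace Groth.Agent.Lib.H9RigF

open Groth.Agent.Lib.H9RigA Groth.Agent.Lib.H9RigD Groth.Agent.Lib.H9RigE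

variable (k : Type u) [Field k]


/-- left translation by a rational point -/
noncomputable def trans (A : Over (Spec (CommRingCat.of k))) [GrpObj A] (x : 𝟙_ (Over (Spec (CommRingCat.of k))) ⟶ A) : A ⟶ A :=
  (toUnit A ≫ x) * 𝟙 A

theorem trans_eq (A : Over (Spec (CommRingCat.of k))) [GrpObj A] (x : 𝟙_ (Over (Spec (CommRingCat.of k))) ⟶ A) :
    trans k A x = lift (toUnit A ≫ x) (𝟙 A) ≫ μ[A] := rfl

theorem comp_trans (A : Over (Spec (CommRingCat.of k))) [GrpObj A] {B : Over (Spec (CommRingCat.of k))} (b : B ⟶ A) (x : 𝟙_ (Over (Spec (CommRingCat.of k))) ⟶ A) :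
    b ≫ trans k A x = (toUnit B ≫ x) * b := by
  rw [trans, MonObj.comp_mul, Category.comp_id, ← Category.assoc, toUnit_unique (b ≫ toUnit A)]

theorem trans_trans (A : Over (Spec (CommRingCat.of k))) [GrpObj A] (x y : 𝟙_ (Over (Spec (CommRingCat.of k))) ⟶ A) :
    trans k A x ≫ trans k A y = trans k A (y * x) := by
  rw [comp_trans, trans, trans, ← _root_.mul_assoc, MonObj.comp_mul]

theorem trans_one (A : Over (Spec (CommRingCat.of k))) [GrpObj A] : trans k A 1 = 𝟙 A := by
  rw [trans, MonObj.comp_one, _root_.one_mul]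


section core

variable [PerfectField k] (A : Over (Spec (CommRingCat.of k))) [GrpObj A] [IsProper A.hom] [ConnectedSpace A.left]
  {Y : Scheme.{u}} (q : Y ⟶ (Spec (CommRingCat.of k))) [IsSeparated q] (f : A.left ⟶ Y) (hf : f ≫ q = A.hom)
  (Z : TopologicalSpace.Closeds A.left) (hZ : _root_.IsConnected (Z : Set A.left))
  (he : η[A].left (IsLocalRing.closedPoint k) ∈ Z) (hfZ : ∀ u ∈ Z, f u = f (η[A].left (IsLocalRing.closedPoint k)))

include hf hZ he hfZ in
/-- `f` is constant on the translate of `Z` by any rational point -/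
theorem apply_trans_eq (x : 𝟙_ (Over (Spec (CommRingCat.of k))) ⟶ A) (u : A.left) (hu : u ∈ Z) :
    f ((trans k A x).left u) = f (x.left (IsLocalRing.closedPoint k)) := by
  let I := Scheme.IdealSheafData.vanishingIdeal Z
  let F : Scheme.{u} := I.subscheme
  let i : F ⟶ A.left := I.subschemeι
  have hri : Set.range i = (Z : Set A.left) :=
    Groth.Agent.Lib.Helper11RedCl.range_subschemeι_vanishingIdeal Z
  haveI : IsReduced F := Groth.Agent.Lib.Helper11RedCl.isReduced_subscheme_vanishingIdeal Z
  let FO : Over (Spec (CommRingCat.of k)) := Over.mk (i ≫ A.hom)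
  let iO : FO ⟶ A := Over.homMk i rfl
  let YO : Over (Spec (CommRingCat.of k)) := Over.mk q
  let fO : A ⟶ YO := Over.homMk f hf
  -- the unit lifts to `F`
  have hre : Set.range η[A].left ⊆ (Z : Set A.left) := by
    rintro _ ⟨w, rfl⟩
    have hw : w = IsLocalRing.closedPoint k :=
      @Subsingleton.elim (Spec (CommRingCat.of k)) inferInstance _ _
    rwa [hw]
  obtain ⟨l, hl⟩ := Groth.Agent.Lib.Helper11RedCl.exists_lift_of_range_subset
    (T := (Spec (CommRingCat.of k))) η[A].left Z hre
  have hwη : η[A].left ≫ A.hom = 𝟙 (Spec (CommRingCat.of k)) := Over.w η[A]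
  let eF : 𝟙_ (Over (Spec (CommRingCat.of k))) ⟶ FO := Over.homMk l (by
    show l ≫ i ≫ A.hom = 𝟙 _
    rw [reassoc_of% hl, hwη])
  have heF : eF ≫ iO = η[A] := by
    ext1
    exact hl
  -- `F` maps to the point `f e`
  have hconst : iO ≫ fO = toUnit FO ≫ η[A] ≫ fO := by
    let p : (Spec (CommRingCat.of k)) ⟶ Y := η[A].left ≫ f
    have hpq : p ≫ q = 𝟙 (Spec (CommRingCat.of k)) := by rw [Category.assoc, hf, hwη]
    haveI : IsClosedImmersion p := isClosedImmersion_of_comp_eq_id q p hpq
    have hZj : (Z : Set A.left) ⊆ Set.range (pullback.fst f p) := by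
      intro u hu
      obtain ⟨w, hw, -⟩ := Scheme.Pullback.exists_preimage_pullback (f := f) (g := p) u (IsLocalRing.closedPoint k)
        (by rw [hfZ u hu]; rfl)
      exact ⟨w, hw⟩
    obtain ⟨l', hl'⟩ := Groth.Agent.Lib.Helper11RedCl.exists_lift_of_subset_range
      (pullback.fst f p) Z hZj
    have h1 : i ≫ f = (l' ≫ pullback.snd f p) ≫ p := by
      rw [Category.assoc, ← pullback.condition, ← Category.assoc, hl']
    have h2 : l' ≫ pullback.snd f p = i ≫ A.hom := by
      rw [← hf, reassoc_of% h1, hpq, Category.comp_id]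
    ext1
    show i ≫ f = (i ≫ A.hom) ≫ η[A].left ≫ f
    rw [h1, h2]
  -- properties of `F`
  haveI : ConnectedSpace F := by
    have hne : Nonempty F := by
      obtain ⟨w, -⟩ : η[A].left (IsLocalRing.closedPoint k) ∈ Set.range i := by rw [hri]; exact he
      exact ⟨w⟩
    have hpre : _root_.IsPreconnected (Set.univ : Set F) := by
      rw [← i.isEmbedding.toIsInducing.isPreconnected_image, Set.image_univ, hri]
      exact hZ.isPreconnected
    exact { toPreconnectedSpace := ⟨hpre⟩, toNonempty := hne }
  haveI : IsProper FO.hom := by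
    show IsProper (i ≫ A.hom); infer_instance
  haveI : Flat FO.hom := inferInstance
  haveI : LocallyOfFinitePresentation FO.hom := inferInstance
  haveI : GeometricallyReduced FO.hom := by
    letI : F.Over (Spec (CommRingCat.of k)) := ⟨i ≫ A.hom⟩
    exact Groth.Agent.Lib.Helper6.SepCl.geometricallyReduced_of_perfectField k F
  haveI : GeometricallyConnected FO.hom :=
    Groth.Agent.Lib.Helper12.GeomConn.geometricallyConnected_of_section (X := F) (i ≫ A.hom) l
      (by rw [reassoc_of% hl, hwη])
  haveI : IsSeparated YO.hom := ‹IsSeparated q›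
  -- the morphism `(u, a) ↦ f (a * u)`
  set m : FO ⊗ A ⟶ A := snd FO A * (fst FO A ≫ iO) with hm
  set φ : FO ⊗ A ⟶ YO := m ≫ fO with hφ
  have hsnd1 : snd FO (𝟙_ (Over (Spec (CommRingCat.of k)))) ≫ η[A] = 1 := by
    rw [Hom.one_def, toUnit_unique (snd FO (𝟙_ (Over (Spec (CommRingCat.of k))))) (toUnit _)]
  have h : (FO ◁ η[A]) ≫ φ = snd FO (𝟙_ (Over (Spec (CommRingCat.of k)))) ≫ (η[A] ≫ fO) := by
    have hm1 : (FO ◁ η[A]) ≫ m = fst FO (𝟙_ (Over (Spec (CommRingCat.of k)))) ≫ iO := by
      rw [hm, MonObj.comp_mul, whiskerLeft_snd, whiskerLeft_fst_assoc, hsnd1, _root_.one_mul]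
    rw [hφ, reassoc_of% hm1, hconst, ← Category.assoc, ← Category.assoc,
      toUnit_unique (fst FO (𝟙_ (Over (Spec (CommRingCat.of k)))) ≫ toUnit FO) (snd FO (𝟙_ (Over (Spec (CommRingCat.of k))))), Category.assoc]
  haveI : Subsingleton (𝟙_ (Over (Spec (CommRingCat.of k)))).left := inferInstanceAs (Subsingleton (Spec (CommRingCat.of k)))
  haveI : Nonempty (𝟙_ (Over (Spec (CommRingCat.of k)))).left := inferInstanceAs (Nonempty (Spec (CommRingCat.of k)))
  obtain ⟨g, hg, -⟩ := existsUnique_factor FO A YO (𝟙_ (Over (Spec (CommRingCat.of k)))) φ η[A] (η[A] ≫ fO) h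
  -- identify `g` using the section through `e`
  have hgf : g = fO := by
    have h1 : lift (toUnit A ≫ eF) (𝟙 A) ≫ m = 𝟙 A := by
      rw [hm, MonObj.comp_mul, lift_snd, lift_fst_assoc, Category.assoc, heF, ← Hom.one_def,
        _root_.mul_one]
    have h2 := congr(lift (toUnit A ≫ eF) (𝟙 A) ≫ $hg)
    rw [hφ, reassoc_of% h1, lift_snd_assoc, Category.id_comp] at h2
    exact h2.symm
  -- evaluate along `u ↦ (u, x)`
  have hx : iO ≫ trans k A x ≫ fO = toUnit FO ≫ x ≫ fO := by
    have h1 : lift (𝟙 FO) (toUnit FO ≫ x) ≫ m = iO ≫ trans k A x := by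
      rw [hm, MonObj.comp_mul, lift_snd, lift_fst_assoc, Category.id_comp, comp_trans]
    have h2 := congr(lift (𝟙 FO) (toUnit FO ≫ x) ≫ $hg)
    rw [hφ, reassoc_of% h1, lift_snd_assoc, hgf] at h2
    rw [h2, Category.assoc]
  obtain ⟨u', rfl⟩ : u ∈ Set.range i := by rw [hri]; exact hu
  have hx' : i ≫ (trans k A x).left ≫ f = (i ≫ A.hom) ≫ x.left ≫ f := congr($(hx).left)
  have := congr($(hx') u')
  simp only [Scheme.Hom.comp_apply] at this
  rw [this]
  congr 2
  exact Subsingleton.elim _ _

end core


theorem isClosed_connectedComponentIn {α : Type*} [TopologicalSpace α] {F : Set α}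
    (hF : IsClosed F) (x : α) : IsClosed (connectedComponentIn F x) := by
  by_cases h : x ∈ F
  · rw [connectedComponentIn_eq_image h]
    exact hF.isClosedEmbedding_subtypeVal.isClosedMap _ isClosed_connectedComponent
  · rw [connectedComponentIn_eq_empty h]
    exact isClosed_empty

section points

variable (A : Over (Spec (CommRingCat.of k))) [GrpObj A]

theorem one_comp_trans (x : 𝟙_ (Over (Spec (CommRingCat.of k))) ⟶ A) :
    η[A] ≫ trans k A x = x := by
  rw [comp_trans, toUnit_unique (toUnit (𝟙_ (Over (Spec (CommRingCat.of k))))) (𝟙 _),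
    Category.id_comp, MonObj.one_eq_one, _root_.mul_one]

theorem pt_comp_trans (x y : 𝟙_ (Over (Spec (CommRingCat.of k))) ⟶ A) :
    y ≫ trans k A x = x * y := by
  rw [comp_trans, toUnit_unique (toUnit (𝟙_ (Over (Spec (CommRingCat.of k))))) (𝟙 _),
    Category.id_comp]

theorem trans_apply_unit (x : 𝟙_ (Over (Spec (CommRingCat.of k))) ⟶ A) :
    (trans k A x).left (η[A].left (IsLocalRing.closedPoint k)) =
      x.left (IsLocalRing.closedPoint k) := by
  rw [← Scheme.Hom.comp_apply, ← Over.comp_left, one_comp_trans]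

theorem trans_apply_pt (x y : 𝟙_ (Over (Spec (CommRingCat.of k))) ⟶ A) :
    (trans k A x).left (y.left (IsLocalRing.closedPoint k)) =
      (x * y).left (IsLocalRing.closedPoint k) := by
  rw [← Scheme.Hom.comp_apply, ← Over.comp_left, pt_comp_trans]

theorem trans_inv_apply (x : 𝟙_ (Over (Spec (CommRingCat.of k))) ⟶ A) (u : A.left) :
    (trans k A x⁻¹).left ((trans k A x).left u) = u := by
  rw [← Scheme.Hom.comp_apply, ← Over.comp_left, trans_trans, inv_mul_cancel, trans_one]
  rfl

theorem trans_apply_inv (x : 𝟙_ (Over (Spec (CommRingCat.of k))) ⟶ A) (u : A.left) :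
    (trans k A x).left ((trans k A x⁻¹).left u) = u := by
  rw [← Scheme.Hom.comp_apply, ← Over.comp_left, trans_trans, mul_inv_cancel, trans_one]
  rfl

/-- the image of a rational point of a separated `k`-scheme is closed -/
theorem isClosed_singleton_of_section {Y : Scheme.{u}} (q : Y ⟶ Spec (CommRingCat.of k))
    [IsSeparated q] (p : Spec (CommRingCat.of k) ⟶ Y) (hp : p ≫ q = 𝟙 _) :
    IsClosed ({p (IsLocalRing.closedPoint k)} : Set Y) := by
  haveI : IsClosedImmersion p := isClosedImmersion_of_comp_eq_id q p hp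
  have : Set.range p = {p (IsLocalRing.closedPoint k)} := by
    ext y
    constructor
    · rintro ⟨w, rfl⟩
      have hw : w = IsLocalRing.closedPoint k :=
        @Subsingleton.elim (Spec (CommRingCat.of k)) inferInstance _ _
      rw [hw]; rfl
    · rintro rfl
      exact ⟨_, rfl⟩
  rw [← this]
  exact p.isClosedEmbedding.isClosed_range

end points


section main

variable [PerfectField k] (A : Over (Spec (CommRingCat.of k))) [GrpObj A] [IsProper A.hom]
  [ConnectedSpace A.left]
  {Y : Scheme.{u}} (q : Y ⟶ Spec (CommRingCat.of k)) [IsSeparated q] (f : A.left ⟶ Y)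
  (hf : f ≫ q = A.hom)

include hf in
theorem isClosed_fibre (x : 𝟙_ (Over (Spec (CommRingCat.of k))) ⟶ A) :
    IsClosed (f ⁻¹' {f (x.left (IsLocalRing.closedPoint k))}) := by
  have hp : (x.left ≫ f) ≫ q = 𝟙 _ := by rw [Category.assoc, hf]; exact Over.w x
  exact (isClosed_singleton_of_section k q (x.left ≫ f) hp).preimage f.continuous

include hf in
/-- **Lemma M**: `f` is constant on the translate of the component of the unit in its fibre. -/
theorem apply_trans_of_mem (x : 𝟙_ (Over (Spec (CommRingCat.of k))) ⟶ A) (u : A.left)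
    (hu : u ∈ connectedComponentIn (f ⁻¹' {f (η[A].left (IsLocalRing.closedPoint k))})
      (η[A].left (IsLocalRing.closedPoint k))) :
    f ((trans k A x).left u) = f (x.left (IsLocalRing.closedPoint k)) := by
  have hmem : η[A].left (IsLocalRing.closedPoint k) ∈
      f ⁻¹' {f (η[A].left (IsLocalRing.closedPoint k))} := rfl
  exact apply_trans_eq k A q f hf
    ⟨_, isClosed_connectedComponentIn (isClosed_fibre k A q f hf η[A]) _⟩
    (isConnected_connectedComponentIn_iff.mpr hmem) (mem_connectedComponentIn hmem)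
    (fun u hu => (connectedComponentIn_subset
      (f ⁻¹' {f (η[A].left (IsLocalRing.closedPoint k))}) _ hu : _)) x u hu

include hf in
/-- **S7806** -/
theorem image_component_eq (x : 𝟙_ (Over (Spec (CommRingCat.of k))) ⟶ A) :
    (trans k A x).left '' connectedComponentIn
        (f ⁻¹' {f (η[A].left (IsLocalRing.closedPoint k))})
        (η[A].left (IsLocalRing.closedPoint k)) =
      connectedComponentIn (f ⁻¹' {f (x.left (IsLocalRing.closedPoint k))})
        (x.left (IsLocalRing.closedPoint k)) := by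
  set e := η[A].left (IsLocalRing.closedPoint k) with he
  set x₀ := x.left (IsLocalRing.closedPoint k) with hx₀
  have hmem : e ∈ f ⁻¹' {f e} := rfl
  have hτe : (trans k A x).left e = x₀ := trans_apply_unit k A x
  apply Set.Subset.antisymm
  · -- ⊆
    have hpre : _root_.IsPreconnected ((trans k A x).left '' connectedComponentIn (f ⁻¹' {f e}) e) :=
      isPreconnected_connectedComponentIn.image _ (trans k A x).left.continuous.continuousOn
    refine hpre.subset_connectedComponentIn ⟨e, mem_connectedComponentIn hmem, hτe⟩ ?_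
    rintro _ ⟨u, hu, rfl⟩
    exact apply_trans_of_mem k A q f hf x u hu
  · -- ⊇
    intro z hz
    refine ⟨(trans k A x⁻¹).left z, ?_, trans_apply_inv k A x z⟩
    -- the translated map
    set f' : A.left ⟶ Y := (trans k A x).left ≫ f with hf'
    have hf'q : f' ≫ q = A.hom := by rw [hf', Category.assoc, hf, Over.w]
    have hf'e : f' e = f x₀ := by rw [hf', Scheme.Hom.comp_apply, hτe]
    have hτ'x : (trans k A x⁻¹).left x₀ = e := by
      rw [hx₀, trans_apply_pt, inv_mul_cancel, ← MonObj.one_eq_one]
    have hpre : _root_.IsPreconnected ((trans k A x⁻¹).left ''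
        connectedComponentIn (f ⁻¹' {f x₀}) x₀) :=
      isPreconnected_connectedComponentIn.image _ (trans k A x⁻¹).left.continuous.continuousOn
    have hx₀mem : x₀ ∈ f ⁻¹' {f x₀} := rfl
    -- the translate lies in the component for `f'`
    have hsub' : (trans k A x⁻¹).left '' connectedComponentIn (f ⁻¹' {f x₀}) x₀ ⊆
        connectedComponentIn (f' ⁻¹' {f' e}) e := by
      refine hpre.subset_connectedComponentIn ⟨x₀, mem_connectedComponentIn hx₀mem, hτ'x⟩ ?_
      rintro _ ⟨w, hw, rfl⟩
      show f' ((trans k A x⁻¹).left w) = f' e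
      rw [hf'e, hf', Scheme.Hom.comp_apply, trans_apply_inv]
      exact (connectedComponentIn_subset (f ⁻¹' {f x₀}) x₀ hw : _)
    -- hence in the fibre of `f` through `e`
    have hsub : (trans k A x⁻¹).left '' connectedComponentIn (f ⁻¹' {f x₀}) x₀ ⊆ f ⁻¹' {f e} := by
      rintro _ ⟨w, hw, rfl⟩
      have h1 := apply_trans_of_mem k A q f' hf'q x⁻¹ _ (hsub' ⟨w, hw, rfl⟩)
      rw [hf', Scheme.Hom.comp_apply, Scheme.Hom.comp_apply, trans_apply_inv, trans_apply_pt,
        mul_inv_cancel, ← MonObj.one_eq_one] at h1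
      exact h1
    exact hpre.subset_connectedComponentIn ⟨x₀, mem_connectedComponentIn hx₀mem, hτ'x⟩ hsub
      ⟨z, hz, rfl⟩

include hf in
/-- **S19533** -/
theorem mul_inv_mem (x y : 𝟙_ (Over (Spec (CommRingCat.of k))) ⟶ A)
    (hx : x.left (IsLocalRing.closedPoint k) ∈ connectedComponentIn
      (f ⁻¹' {f (η[A].left (IsLocalRing.closedPoint k))}) (η[A].left (IsLocalRing.closedPoint k)))
    (hy : y.left (IsLocalRing.closedPoint k) ∈ connectedComponentIn
      (f ⁻¹' {f (η[A].left (IsLocalRing.closedPoint k))})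
      (η[A].left (IsLocalRing.closedPoint k))) :
    (x * y).left (IsLocalRing.closedPoint k) ∈ connectedComponentIn
        (f ⁻¹' {f (η[A].left (IsLocalRing.closedPoint k))})
        (η[A].left (IsLocalRing.closedPoint k)) ∧
      x⁻¹.left (IsLocalRing.closedPoint k) ∈ connectedComponentIn
        (f ⁻¹' {f (η[A].left (IsLocalRing.closedPoint k))})
        (η[A].left (IsLocalRing.closedPoint k)) := by
  set e := η[A].left (IsLocalRing.closedPoint k) with he
  set x₀ := x.left (IsLocalRing.closedPoint k) with hx₀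
  have hmem : e ∈ f ⁻¹' {f e} := rfl
  have hfx : f x₀ = f e := (connectedComponentIn_subset (f ⁻¹' {f e}) e hx : _)
  constructor
  · have hpre : _root_.IsPreconnected ((trans k A x).left '' connectedComponentIn (f ⁻¹' {f e}) e) :=
      isPreconnected_connectedComponentIn.image _ (trans k A x).left.continuous.continuousOn
    have hsub : (trans k A x).left '' connectedComponentIn (f ⁻¹' {f e}) e ⊆
        connectedComponentIn (f ⁻¹' {f e}) x₀ := by
      refine hpre.subset_connectedComponentIn
        ⟨e, mem_connectedComponentIn hmem, trans_apply_unit k A x⟩ ?_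
      rintro _ ⟨u, hu, rfl⟩
      exact (apply_trans_of_mem k A q f hf x u hu).trans hfx
    rw [connectedComponentIn_eq hx]
    exact hsub ⟨_, hy, trans_apply_pt k A x y⟩
  · have hpre : _root_.IsPreconnected ((trans k A x⁻¹).left ''
        connectedComponentIn (f ⁻¹' {f e}) e) :=
      isPreconnected_connectedComponentIn.image _ (trans k A x⁻¹).left.continuous.continuousOn
    have hτx : (trans k A x⁻¹).left x₀ = e := by
      rw [hx₀, trans_apply_pt, inv_mul_cancel, ← MonObj.one_eq_one]
    have hfinv : f (x⁻¹.left (IsLocalRing.closedPoint k)) = f e := by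
      have := apply_trans_of_mem k A q f hf x⁻¹ x₀ hx
      rw [hτx] at this
      exact this.symm
    have hsub : (trans k A x⁻¹).left '' connectedComponentIn (f ⁻¹' {f e}) e ⊆
        connectedComponentIn (f ⁻¹' {f e}) e := by
      refine hpre.subset_connectedComponentIn ⟨x₀, hx, hτx⟩ ?_
      rintro _ ⟨u, hu, rfl⟩
      exact (apply_trans_of_mem k A q f hf x⁻¹ u hu).trans hfinv
    exact hsub ⟨e, mem_connectedComponentIn hmem, trans_apply_unit k A x⁻¹⟩

end main

end Groth.Agent.Lib.H9RigF
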