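import Mathlib
import Groth.Agent.Lib.H9RigD
import Groth.Agent.Lib.H9SteinSm

/-! helper9: morphisms from an abelian scheme to a finite scheme factor through the base (S15364). -/
set_option autoImplicit false

universe u
open CategoryTheory CategoryTheory.Limits MonoidalCategory CartesianMonoidalCategory MonObj
  AlgebraicGeometry

namespace Groth.Agent.Lib.H9RigI

open Groth.Agent.Lib.H9RigD

variable {T : Scheme.{u}}

/-- a morphism from an abelian-like `A` (with section `e`) to a scheme `H` separated with
discrete fibres over the base factors through the base -/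
theorem eq_toUnit_comp_of_discrete_fibres (A H : Over T) [IsProper A.hom] [Flat A.hom]
    [LocallyOfFinitePresentation A.hom] [GeometricallyReduced A.hom]
    [GeometricallyConnected A.hom] [IsSeparated H.hom] [LocallyQuasiFinite H.hom]
    (e : 𝟙_ (Over T) ⟶ A) (φ : A ⟶ H) : φ = toUnit A ≫ e ≫ φ := by
  refine eq_toUnit_comp A H e φ fun s => ?_
  refine subsingleton_of_isPreconnected_of_isDiscrete
    ((A.hom.isConnected_preimage_singleton s).isPreconnected.image _
      φ.left.continuous.continuousOn) ?_ (H.hom.isDiscrete_preimage_singleton s)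
  rintro _ ⟨a, ha, rfl⟩
  show H.hom (φ.left a) = s
  rw [← Scheme.Hom.comp_apply, Over.w φ]
  exact ha

/-- **S15364** -/
theorem bijective_comp_toUnit (A : Over T) [GrpObj A] [IsProper A.hom] [Smooth A.hom]
    [GeometricallyConnected A.hom] (H : Over T) [IsFinite H.hom] :
    Function.Bijective fun s : (𝟙_ (Over T) ⟶ H) => toUnit A ≫ s := by
  haveI : GeometricallyReduced A.hom :=
    Groth.Agent.Lib.H9SteinSm.geometricallyReduced_of_smooth A.hom
  constructor
  · intro s s' h
    have h' : toUnit A ≫ s = toUnit A ≫ s' := h
    have := congr(η[A] ≫ $h')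
    rwa [← Category.assoc, ← Category.assoc, toUnit_unique (η[A] ≫ toUnit A) (𝟙 _),
      Category.id_comp, Category.id_comp] at this
  · intro φ
    exact ⟨η[A] ≫ φ, (eq_toUnit_comp_of_discrete_fibres A H η[A] φ).symm⟩

end Groth.Agent.Lib.H9RigI
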