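import Mathlib
import Groth.Prelude.Def_Red
import Groth.Agent.Lib.H9RigC
import Groth.Agent.Lib.H9SteinSm
import Groth.Agent.Lib.Helper12GeomConn

/-! helper9: abelian schemes given by smooth proper + connected geometric fibres (S11440). -/
set_option autoImplicit false

universe u
open CategoryTheory CategoryTheory.Limits MonoidalCategory CartesianMonoidalCategory MonObj GrpObj
  AlgebraicGeometry

namespace Groth.Agent.Lib.H9RigL

variable {S : Scheme.{u}}

theorem surjective_specMap_field (k K : Type u) [Field k] [Field K] [Algebra k K] :
    Surjective (Spec.map (CommRingCat.ofHom (algebraMap k K))) := by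
  refine ⟨fun x => ?_⟩
  haveI : Unique ↥(Spec (CommRingCat.of k)) := inferInstanceAs (Unique (PrimeSpectrum k))
  haveI : Nonempty ↥(Spec (CommRingCat.of K)) := inferInstanceAs (Nonempty (PrimeSpectrum K))
  exact ⟨Classical.arbitrary _, Subsingleton.elim _ _⟩

/-- connected geometric fibres give connected fibres -/
theorem connectedSpace_fiber_of_geomFibre (X : Over S) (s : S)
    (hc : ConnectedSpace (Red.geomFibre s X).left) : ConnectedSpace ↥(X.hom.fiber s) := by
  let φ : Spec (CommRingCat.of (AlgebraicClosure (S.residueField s))) ⟶ Spec (S.residueField s) :=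
    Spec.map (CommRingCat.ofHom (algebraMap (S.residueField s)
      (AlgebraicClosure (S.residueField s))))
  haveI : Surjective φ := surjective_specMap_field (S.residueField s)
    (AlgebraicClosure (S.residueField s))
  let e : pullback (X.hom.fiberToSpecResidueField s) φ ≅
      pullback X.hom (φ ≫ S.fromSpecResidueField s) :=
    pullbackLeftPullbackSndIso X.hom (S.fromSpecResidueField s) φ
  haveI : ConnectedSpace ↥(pullback X.hom (φ ≫ S.fromSpecResidueField s)) := hc
  have hsurj : Function.Surjective (e.inv ≫ pullback.fst (X.hom.fiberToSpecResidueField s) φ) :=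
    (inferInstance : Surjective (e.inv ≫ pullback.fst (X.hom.fiberToSpecResidueField s) φ)).surj
  exact hsurj.connectedSpace (e.inv ≫ pullback.fst (X.hom.fiberToSpecResidueField s) φ).continuous

/-- an `S`-group with connected geometric fibres is geometrically connected -/
theorem geometricallyConnected_of_geomFibre (X : Over S) [GrpObj X]
    (hc : ∀ s : S, ConnectedSpace (Red.geomFibre s X).left) : GeometricallyConnected X.hom := by
  rw [GeometricallyConnected.iff_geometricallyConnected_fiber]
  intro s
  haveI : ConnectedSpace ↥(X.hom.fiber s) := connectedSpace_fiber_of_geomFibre X s (hc s)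
  have hη : η[X].left ≫ X.hom = 𝟙 S := Over.w η[X]
  exact Groth.Agent.Lib.Helper12.GeomConn.geometricallyConnected_of_section
    (k := S.residueField s) (X.hom.fiberToSpecResidueField s)
    (pullback.lift (S.fromSpecResidueField s ≫ η[X].left) (𝟙 _) (by
      rw [Category.assoc, hη, Category.comp_id, Category.id_comp]))
    (pullback.lift_snd _ _ _)

/-- **S11440** -/
theorem main11440 (S : Scheme.{u}) [IsNoetherian S]
    (X G : Over S) [GrpObj X] [GrpObj G] [Smooth X.hom] [IsProper X.hom]
    (hc : ∀ s : S, ConnectedSpace (Red.geomFibre s X).left)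
    [IsLocallyNoetherian G.left] [IsSeparated G.hom] (f : X ⟶ G) (hf : η[X] ≫ f = η[G]) :
    IsMonHom f := by
  haveI := Groth.Agent.Lib.H9SteinSm.geometricallyReduced_of_smooth X.hom
  haveI := geometricallyConnected_of_geomFibre X hc
  exact Groth.Agent.Lib.H9RigC.isMonHom_of_one_hom X G f hf

end Groth.Agent.Lib.H9RigL
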