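import Mathlib
import Groth.Prelude.Def_AlgGrp
import Groth.Agent.Lib.H9RigK
import Groth.Agent.Lib.H9RigC
import Groth.Agent.Lib.H9RigF
import Groth.Agent.Lib.H9SteinSm
import Groth.Agent.Lib.Helper12GeomConn
import Groth.Agent.Lib.Helper11RigidAntiE

/-! helper9: automorphisms of `A × S` over `S` for an abelian variety `A` (S11404). -/
set_option autoImplicit false

universe u
open CategoryTheory CategoryTheory.Limits MonoidalCategory CartesianMonoidalCategory MonObj GrpObj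
  AlgebraicGeometry

namespace Groth.Agent.Lib.H9RigM

open Groth.Agent.Lib.H9RigK Groth.Agent.Lib.H9RigF

variable (k : Type u) [Field k]

/-- the `H⁰`-condition for an abelian variety over a field -/
theorem h1_of_abelian (A : Over (Spec (CommRingCat.of k))) [GrpObj A] [IsProper A.hom]
    [Smooth A.hom] [ConnectedSpace ↥A.left] (s : ↥(Spec (CommRingCat.of k))) :
    IsIso (A.hom.fiberToSpecResidueField s).appTop := by
  haveI := Groth.Agent.Lib.H9SteinSm.geometricallyReduced_of_smooth A.hom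
  haveI : GeometricallyConnected A.hom :=
    Groth.Agent.Lib.Helper12.GeomConn.geometricallyConnected_of_section A.hom η[A].left
      (Over.w η[A])
  exact Groth.Agent.Lib.H9CbI.isIso_fiber_appTop A.hom (fun K _ _ σ =>
    ⟨pullback_of_geometrically (GeometricallyReduced.geometrically_isReduced (f := A.hom)) K σ,
      pullback_of_geometrically
        (GeometricallyConnected.geometrically_connectedSpace (f := A.hom)) K σ⟩) s

/-- **S11404** -/
theorem main11404 [IsAlgClosed k]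
    (A S : Over (Spec (CommRingCat.of k))) [GrpObj A] [IsProper A.hom] [Smooth A.hom]
    [ConnectedSpace ↥A.left]
    [LocallyOfFiniteType S.hom] [QuasiCompact S.hom] [ConnectedSpace ↥S.left]
    (f : A ⊗ S ≅ A ⊗ S) (hf : f.hom ≫ snd A S = snd A S) :
    ∃ (g : S ⟶ A) (h : A ⟶ A), IsMonHom h ∧ IsIso h ∧
      f.hom ≫ fst A S = (snd A S ≫ g) * (fst A S ≫ h) ∧
      ∀ (g' : S ⟶ A) (h' : A ⟶ A), IsMonHom h' →
        f.hom ≫ fst A S = (snd A S ≫ g') * (fst A S ≫ h') → g' = g ∧ h' = h := by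
  haveI := Groth.Agent.Lib.H9SteinSm.geometricallyReduced_of_smooth A.hom
  haveI : GeometricallyConnected A.hom :=
    Groth.Agent.Lib.Helper12.GeomConn.geometricallyConnected_of_section A.hom η[A].left
      (Over.w η[A])
  have h1 := h1_of_abelian k A
  obtain ⟨s₀⟩ := Groth.Agent.Lib.Helper11RigidAntiE.exists_pt_of_isAlgClosed (k := k) S
  have hf' : f.inv ≫ snd A S = snd A S := by
    calc f.inv ≫ snd A S = f.inv ≫ f.hom ≫ snd A S := by rw [hf]
      _ = snd A S := by rw [Iso.inv_hom_id_assoc]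
  -- the basic maps
  set jS : S ⟶ A ⊗ S := lift (toUnit S ≫ η[A]) (𝟙 S) with hjS
  set i₀ : A ⟶ A ⊗ S := lift (𝟙 A) (toUnit A ≫ s₀) with hi₀
  have hjS_fst : jS ≫ fst A S = toUnit S ≫ η[A] := lift_fst _ _
  have hjS_snd : jS ≫ snd A S = 𝟙 S := lift_snd _ _
  have hi₀_fst : i₀ ≫ fst A S = 𝟙 A := lift_fst _ _
  have hi₀_snd : i₀ ≫ snd A S = toUnit A ≫ s₀ := lift_snd _ _
  set g : S ⟶ A := jS ≫ f.hom ≫ fst A S with hg
  set φ : A ⊗ S ⟶ A := (snd A S ≫ g)⁻¹ * (f.hom ≫ fst A S) with hφ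
  have hjSφ : jS ≫ φ = 1 := by
    rw [hφ, MonObj.comp_mul, GrpObj.comp_inv, ← Category.assoc, hjS_snd, Category.id_comp,
      ← hg, inv_mul_cancel]
  set h : A ⟶ A := i₀ ≫ φ with hh
  have hηi : η[A] ≫ i₀ = s₀ ≫ jS := by
    apply CartesianMonoidalCategory.hom_ext
    · rw [Category.assoc, hi₀_fst, Category.comp_id, Category.assoc, hjS_fst, ← Category.assoc,
        toUnit_unique (s₀ ≫ toUnit S) (𝟙 _), Category.id_comp]
    · rw [Category.assoc, hi₀_snd, Category.assoc, hjS_snd, Category.comp_id, ← Category.assoc,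
        toUnit_unique (η[A] ≫ toUnit A) (𝟙 _), Category.id_comp]
  have hηh : η[A] ≫ h = η[A] := by
    rw [hh, ← Category.assoc, hηi, Category.assoc, hjSφ, MonObj.comp_one, Hom.one_def,
      toUnit_unique (toUnit (𝟙_ (Over (Spec (CommRingCat.of k))))) (𝟙 _), Category.id_comp]
  haveI hmon : IsMonHom h := Groth.Agent.Lib.H9RigC.isMonHom_of_one_hom A A h hηh
  -- rigidity
  set ψ : A ⊗ S ⟶ A := φ * (fst A S ≫ h)⁻¹ with hψ
  have hi₀ψ : i₀ ≫ ψ = toUnit A ≫ η[A] := by
    rw [hψ, MonObj.comp_mul, GrpObj.comp_inv, ← Category.assoc i₀, hi₀_fst, Category.id_comp,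
      ← hh, mul_inv_cancel, Hom.one_def]
  obtain ⟨h', hh'⟩ := exists_eq_snd_comp h1 s₀ η[A] ψ (Classical.arbitrary S.left) hi₀ψ
  have hjSψ : jS ≫ ψ = 1 := by
    rw [hψ, MonObj.comp_mul, GrpObj.comp_inv, hjSφ, ← Category.assoc jS, hjS_fst, Category.assoc,
      hηh, ← Hom.one_def, inv_one, _root_.mul_one]
  have hh'1 : h' = 1 := by
    have := congr(jS ≫ $(hh'))
    rw [hjSψ, ← Category.assoc, hjS_snd, Category.id_comp] at this
    exact this.symm
  have hψ1 : ψ = 1 := by rw [hh', hh'1, MonObj.comp_one]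
  have hφh : φ = fst A S ≫ h := by
    have : φ * (fst A S ≫ h)⁻¹ = 1 := hψ1
    exact mul_inv_eq_one.mp this
  have hmain : f.hom ≫ fst A S = (snd A S ≫ g) * (fst A S ≫ h) := by
    rw [← hφh, hφ, mul_inv_cancel_left]
  -- `h` is an isomorphism
  obtain ⟨F, hF⟩ : ∃ F : A ⟶ A, F = i₀ ≫ f.hom ≫ fst A S := ⟨_, rfl⟩
  obtain ⟨F', hF'⟩ : ∃ F' : A ⟶ A, F' = i₀ ≫ f.inv ≫ fst A S := ⟨_, rfl⟩
  have hFi : F ≫ i₀ = i₀ ≫ f.hom := by
    apply CartesianMonoidalCategory.hom_ext
    · rw [Category.assoc, hi₀_fst, Category.comp_id, Category.assoc, hF]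
    · rw [Category.assoc, hi₀_snd, Category.assoc, hf, hi₀_snd, ← Category.assoc,
        toUnit_unique (F ≫ toUnit A) (toUnit A)]
  have hF'i : F' ≫ i₀ = i₀ ≫ f.inv := by
    apply CartesianMonoidalCategory.hom_ext
    · rw [Category.assoc, hi₀_fst, Category.comp_id, Category.assoc, hF']
    · rw [Category.assoc, hi₀_snd, Category.assoc, hf', hi₀_snd, ← Category.assoc,
        toUnit_unique (F' ≫ toUnit A) (toUnit A)]
  have hFF' : F ≫ F' = 𝟙 A := by
    rw [hF', ← Category.assoc, hFi, Category.assoc, Iso.hom_inv_id_assoc, hi₀_fst]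
  have hF'F : F' ≫ F = 𝟙 A := by
    rw [hF, ← Category.assoc, hF'i, Category.assoc, Iso.inv_hom_id_assoc, hi₀_fst]
  have hhF : h = F ≫ trans k A (s₀ ≫ g)⁻¹ := by
    rw [comp_trans, hh, hφ, MonObj.comp_mul, GrpObj.comp_inv, ← Category.assoc i₀, hi₀_snd,
      Category.assoc, ← hF, GrpObj.comp_inv]
  have hiso : IsIso h := by
    rw [hhF]
    haveI : IsIso F := ⟨F', hFF', hF'F⟩
    haveI : IsIso (trans k A (s₀ ≫ g)⁻¹) :=
      ⟨trans k A (s₀ ≫ g), by rw [trans_trans, mul_inv_cancel, trans_one],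
        by rw [trans_trans, inv_mul_cancel, trans_one]⟩
    infer_instance
  refine ⟨g, h, hmon, hiso, hmain, ?_⟩
  intro g' h' hmon' hgh'
  have hg' : g' = g := by
    have := congr(jS ≫ $(hgh'))
    rw [← hg, MonObj.comp_mul, ← Category.assoc jS, hjS_snd, Category.id_comp,
      ← Category.assoc jS, hjS_fst, Category.assoc, IsMonHom.one_hom, ← Hom.one_def,
      _root_.mul_one] at this
    exact this.symm
  refine ⟨hg', ?_⟩
  subst hg'
  have h2 : fst A S ≫ h' = fst A S ≫ h := by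
    have := hgh'.symm.trans hmain
    exact mul_left_cancel this
  have := congr(i₀ ≫ $(h2))
  rwa [← Category.assoc, ← Category.assoc, hi₀_fst, Category.id_comp, Category.id_comp] at this

end Groth.Agent.Lib.H9RigM
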