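import Mathlib

namespace Groth.Agent.Lib.R2LeadGlobFlatA

universe u v

open TensorProduct

section Alg

variable {C : Type u} [CommRing C] {ι : Type v} (B : ι → Type u) [∀ i, CommRing (B i)]
  [∀ i, Algebra C (B i)] (r : ι → ι → Prop) (ρ : ∀ i j, r i j → (B i →ₐ[C] B j))

/-- compatible families with coefficients in `M`. -/
def Compat (M : Type u) [AddCommGroup M] [Module C M] (s : ∀ i, B i ⊗[C] M) : Prop :=
  ∀ i j (h : r i j), LinearMap.rTensor M (ρ i j h).toLinearMap (s i) = s j

/-- `M → H(M)` is bijective. -/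
def P (M : Type u) [AddCommGroup M] [Module C M] : Prop :=
  (∀ m : M, (∀ i, (1 : B i) ⊗ₜ[C] m = 0) → m = 0) ∧
    ∀ s, Compat B r ρ M s → ∃ m : M, ∀ i, s i = (1 : B i) ⊗ₜ[C] m

variable {B r ρ}

theorem P_of_exact [∀ i, Module.Flat C (B i)] {M' M M'' : Type u} [AddCommGroup M'] [Module C M']
    [AddCommGroup M] [Module C M] [AddCommGroup M''] [Module C M'']
    (f : M' →ₗ[C] M) (g : M →ₗ[C] M'') (hf : Function.Injective f) (hg : Function.Surjective g)
    (hfg : Function.Exact f g) (h' : P B r ρ M') (h'' : P B r ρ M'') : P B r ρ M := by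
  have hinj : ∀ i, Function.Injective (LinearMap.lTensor (B i) f) := fun i =>
    Module.Flat.lTensor_preserves_injective_linearMap f hf
  have hex : ∀ i, Function.Exact (LinearMap.lTensor (B i) f) (LinearMap.lTensor (B i) g) :=
    fun i => lTensor_exact (B i) hfg hg
  constructor
  · intro m hm
    have h1 : g m = 0 := by
      apply h''.1
      intro i
      have := congrArg (LinearMap.lTensor (B i) g) (hm i)
      simpa using this
    obtain ⟨m', rfl⟩ := (hfg m).1 h1
    have h2 : m' = 0 := by
      apply h'.1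
      intro i
      apply hinj i
      rw [map_zero, LinearMap.lTensor_tmul]
      exact hm i
    rw [h2, map_zero]
  · intro s hs
    have hs'' : Compat B r ρ M'' (fun i => LinearMap.lTensor (B i) g (s i)) := by
      intro i j h
      change LinearMap.rTensor M'' (ρ i j h).toLinearMap (LinearMap.lTensor (B i) g (s i)) = _
      rw [← LinearMap.comp_apply, LinearMap.rTensor_comp_lTensor, ← LinearMap.lTensor_comp_rTensor,
        LinearMap.comp_apply, hs i j h]
    obtain ⟨m'', hm''⟩ := h''.2 _ hs''
    obtain ⟨m, rfl⟩ := hg m''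
    have hker : ∀ i, LinearMap.lTensor (B i) g (s i - (1 : B i) ⊗ₜ[C] m) = 0 := by
      intro i
      rw [map_sub, hm'' i, LinearMap.lTensor_tmul, sub_self]
    choose t ht using fun i => (hex i _).1 (hker i)
    have ht' : Compat B r ρ M' t := by
      intro i j h
      apply hinj j
      rw [ht j, ← LinearMap.comp_apply, LinearMap.lTensor_comp_rTensor,
        ← LinearMap.rTensor_comp_lTensor, LinearMap.comp_apply, ht i, map_sub, hs i j h,
        LinearMap.rTensor_tmul]
      simp
    obtain ⟨m', hm'⟩ := h'.2 t ht'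
    refine ⟨m + f m', fun i => ?_⟩
    have := ht i
    rw [hm' i, LinearMap.lTensor_tmul] at this
    rw [tmul_add, this]
    abel

theorem P_of_subsingleton (M : Type u) [AddCommGroup M] [Module C M] [Subsingleton M] :
    P B r ρ M :=
  ⟨fun m _ => Subsingleton.elim _ _, fun s _ => ⟨0, fun i => by
    haveI : Subsingleton (B i ⊗[C] M) := inferInstance
    exact Subsingleton.elim _ _⟩⟩

theorem P_of_equiv [∀ i, Module.Flat C (B i)] {M M'' : Type u}
    [AddCommGroup M] [Module C M] [AddCommGroup M''] [Module C M'']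
    (e : M ≃ₗ[C] M'') (h'' : P B r ρ M'') : P B r ρ M := by
  refine P_of_exact (0 : PUnit.{u+1} →ₗ[C] M) e.toLinearMap
    (fun a b _ => Subsingleton.elim _ _) e.surjective ?_ (P_of_subsingleton _) h''
  intro y
  constructor
  · intro h
    refine ⟨PUnit.unit, ?_⟩
    have : y = 0 := e.injective (by rw [map_zero]; exact h)
    rw [this]; rfl
  · rintro ⟨_, rfl⟩
    simp

theorem P_ideal [IsLocalRing C] [IsArtinianRing C] [∀ i, Module.Flat C (B i)]
    (hk : P B r ρ (C ⧸ IsLocalRing.maximalIdeal C)) (I : Ideal C) : P B r ρ I := by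
  induction I using WellFoundedLT.induction with
  | ind I ih =>
    by_cases hI : IsMin I
    · have : I = ⊥ := by
        rw [isMin_iff_eq_bot] at hI; exact hI
      subst this
      exact P_of_subsingleton _
    · obtain ⟨I', hI'⟩ := exists_covBy_of_wellFoundedGT hI
      have hle : I' ≤ I := hI'.le
      have hsimple : IsSimpleModule C (↥I ⧸ Submodule.comap I.subtype I') :=
        (covBy_iff_quot_is_simple hle).1 hI'
      obtain ⟨J, hJ, ⟨e⟩⟩ := isSimpleModule_iff_quot_maximal.1 hsimple
      have hJm : J = IsLocalRing.maximalIdeal C := IsLocalRing.eq_maximalIdeal hJ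
      subst hJm
      refine P_of_exact (Submodule.inclusion hle) (Submodule.comap I.subtype I').mkQ
        (Submodule.inclusion_injective hle) (Submodule.mkQ_surjective _) ?_ (ih I' hI'.lt)
        (P_of_equiv e hk)
      intro y
      rw [Submodule.mkQ_apply, Submodule.Quotient.mk_eq_zero, Submodule.mem_comap]
      constructor
      · intro h
        exact ⟨⟨y.1, h⟩, rfl⟩
      · rintro ⟨z, rfl⟩
        exact z.2

theorem P_self [IsLocalRing C] [IsArtinianRing C] [∀ i, Module.Flat C (B i)]
    (hk : P B r ρ (C ⧸ IsLocalRing.maximalIdeal C)) : P B r ρ C :=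
  P_of_equiv (Submodule.topEquiv (R := C) (M := C)).symm (P_ideal hk ⊤)

end Alg

end Groth.Agent.Lib.R2LeadGlobFlatA
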