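import Mathlib
import Groth.Agent.Lib.R2LeadGlobFlatA

namespace Groth.Agent.Lib.R2LeadGlobFlatB

universe u

open CategoryTheory CategoryTheory.Limits AlgebraicGeometry TensorProduct TopologicalSpace
open Groth.Agent.Lib.R2LeadGlobFlatA

theorem res_res {Y : Scheme.{u}} {U V W : Y.Opens} (h1 : V ≤ U) (h2 : W ≤ V) (s : Γ(Y, U)) :
    Y.presheaf.map (homOfLE h2).op (Y.presheaf.map (homOfLE h1).op s) =
      Y.presheaf.map (homOfLE (h2.trans h1)).op s := by
  rw [← CommRingCat.comp_apply, ← Functor.map_comp]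
  rfl

section Glue

variable {Y : Scheme.{u}} {ι : Type*} (𝒰 : ι → Y.Opens) (r : ι → ι → Prop)
  (hr : ∀ a b, r a b → 𝒰 b ≤ 𝒰 a) (hcov : ∀ x : Y, ∃ a, x ∈ 𝒰 a)
  (hbas : ∀ a b (x : Y), x ∈ 𝒰 a → x ∈ 𝒰 b → ∃ c, x ∈ 𝒰 c ∧ r a c ∧ r b c)

include hcov in
theorem sep_family (s s' : Γ(Y, ⊤))
    (h : ∀ a, Y.presheaf.map (homOfLE (le_top : 𝒰 a ≤ ⊤)).op s =
      Y.presheaf.map (homOfLE (le_top : 𝒰 a ≤ ⊤)).op s') : s = s' :=
  TopCat.Sheaf.eq_of_locally_eq' Y.sheaf 𝒰 ⊤ (fun a => homOfLE le_top)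
    (fun x _ => by obtain ⟨a, ha⟩ := hcov x; exact Opens.mem_iSup.2 ⟨a, ha⟩) s s' h

include hcov hbas in
theorem glue_family (t : ∀ a, Γ(Y, 𝒰 a))
    (ht : ∀ a b (h : r a b), Y.presheaf.map (homOfLE (hr a b h)).op (t a) = t b) :
    ∃ s : Γ(Y, ⊤), ∀ a, Y.presheaf.map (homOfLE (le_top : 𝒰 a ≤ ⊤)).op s = t a := by
  have hcompat : TopCat.Presheaf.IsCompatible Y.presheaf 𝒰 t := by
    intro a b
    refine TopCat.Sheaf.eq_of_locally_eq' Y.sheaf (fun c : {c : ι // r a c ∧ r b c} => 𝒰 c.1)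
      (𝒰 a ⊓ 𝒰 b) (fun c => homOfLE (le_inf (hr _ _ c.2.1) (hr _ _ c.2.2))) ?_ _ _ (fun c => ?_)
    · rintro x ⟨hxa, hxb⟩
      obtain ⟨c, hxc, hac, hbc⟩ := hbas a b x hxa hxb
      exact Opens.mem_iSup.2 ⟨⟨c, hac, hbc⟩, hxc⟩
    · have e1 := ht a c.1 c.2.1
      have e2 := ht b c.1 c.2.2
      change Y.presheaf.map (homOfLE _).op (Y.presheaf.map (homOfLE _).op (t a)) =
        Y.presheaf.map (homOfLE _).op (Y.presheaf.map (homOfLE _).op (t b))
      rw [res_res, res_res]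
      exact e1.trans e2.symm
  obtain ⟨s, hs, -⟩ := Y.sheaf.existsUnique_gluing' 𝒰 ⊤ (fun a => homOfLE le_top)
    (fun x _ => by obtain ⟨a, ha⟩ := hcov x; exact Opens.mem_iSup.2 ⟨a, ha⟩) t hcompat
  exact ⟨s, hs⟩

end Glue

section Geom

variable {C : Type u} [CommRing C] {X : Scheme.{u}} (g : X ⟶ Spec (CommRingCat.of C))

/-- the structure map `C → Γ(X, U)`. -/
noncomputable def phi (U : X.Opens) : CommRingCat.of C ⟶ Γ(X, U) :=
  (Scheme.ΓSpecIso (CommRingCat.of C)).inv ≫ g.appLE ⊤ U le_top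

theorem phi_res {U V : X.Opens} (h : V ≤ U) :
    phi g U ≫ X.presheaf.map (homOfLE h).op = phi g V := by
  simp [phi, Scheme.Hom.appLE_map]

theorem phi_res_apply {U V : X.Opens} (h : V ≤ U) (c : C) :
    X.presheaf.map (homOfLE h).op ((phi g U).hom c) = (phi g V).hom c := by
  rw [← phi_res g h]; rfl

theorem phi_top : phi g ⊤ = (Scheme.ΓSpecIso (CommRingCat.of C)).inv ≫ g.appTop := by
  simp [phi, Scheme.Hom.appTop, Scheme.Hom.app_eq_appLE]

/-- sections of `X` over `U`, as a `C`-algebra. -/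
def Sec (_g : X ⟶ Spec (CommRingCat.of C)) (U : X.Opens) : Type u := Γ(X, U)

noncomputable instance (U : X.Opens) : CommRing (Sec g U) := inferInstanceAs (CommRing Γ(X, U))

noncomputable instance (U : X.Opens) : Algebra C (Sec g U) := (phi g U).hom.toAlgebra

theorem algebraMap_sec (U : X.Opens) (c : C) : algebraMap C (Sec g U) c = (phi g U).hom c := rfl

/-- restriction as an algebra map. -/
noncomputable def rho {U V : X.Opens} (h : V ≤ U) : Sec g U →ₐ[C] Sec g V :=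
  { (X.presheaf.map (homOfLE h).op).hom with
    commutes' := fun c => phi_res_apply g h c }

theorem rho_apply {U V : X.Opens} (h : V ≤ U) (b : Sec g U) :
    rho g h b = X.presheaf.map (homOfLE h).op b := rfl

instance flat_sec [Flat g] (U : X.affineOpens) : Module.Flat C (Sec g U.1) := by
  have h1 : (g.appLE ⊤ U.1 le_top).hom.Flat := Scheme.Hom.flat_appLE g (isAffineOpen_top _) U.2 _
  have h2 : ((Scheme.ΓSpecIso (CommRingCat.of C)).inv).hom.Flat :=
    RingHom.Flat.of_bijective (ConcreteCategory.bijective_of_isIso _)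
  exact RingHom.Flat.comp h2 h1

end Geom

end Groth.Agent.Lib.R2LeadGlobFlatB
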