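import Mathlib
import Groth.Agent.Lib.R2LeadGlobFlatB

namespace Groth.Agent.Lib.R2LeadGlobFlatC

universe u

open CategoryTheory CategoryTheory.Limits AlgebraicGeometry TensorProduct TopologicalSpace
open Groth.Agent.Lib.R2LeadGlobFlatA Groth.Agent.Lib.R2LeadGlobFlatB

variable {C : Type u} [CommRing C] [IsLocalRing C] {X X₀ : Scheme.{u}}
  (g : X ⟶ Spec (CommRingCat.of C)) (i : X₀ ⟶ X)
  (f₀ : X₀ ⟶ Spec (CommRingCat.of (C ⧸ IsLocalRing.maximalIdeal C)))
  (hsq : IsPullback i f₀ g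
    (Spec.map (CommRingCat.ofHom (Ideal.Quotient.mk (IsLocalRing.maximalIdeal C)))))

include hsq in
theorem exists_equiv (U : X.Opens) (hU : IsAffineOpen U) :
    ∃ e : (Sec g U ⊗[C] (C ⧸ IsLocalRing.maximalIdeal C)) ≃+ Γ(X₀, i ⁻¹ᵁ U),
      ∀ (b : Sec g U) (κ : C ⧸ IsLocalRing.maximalIdeal C),
        e (b ⊗ₜ κ) = (i.app U).hom b * (phi f₀ (i ⁻¹ᵁ U)).hom κ ∧
        e ((1 : Sec g U) ⊗ₜ κ) = (phi f₀ (i ⁻¹ᵁ U)).hom κ := by
  have hiso := isIso_pushoutSection_of_isAffineOpen hsq (US := ⊤) (UT := ⊤) (UX := U)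
    (UY := i ⁻¹ᵁ U) le_top le_top (by simp) (isAffineOpen_top _) (isAffineOpen_top _) hU
  have hpo := (isIso_pushoutSection_iff hsq (US := ⊤) (UT := ⊤) (UX := U)
    (UY := i ⁻¹ᵁ U) le_top le_top (by simp)).mp hiso
  have hpo' : IsPushout (phi g U)
      (CommRingCat.ofHom (Ideal.Quotient.mk (IsLocalRing.maximalIdeal C))) (i.app U)
      (phi f₀ (i ⁻¹ᵁ U)) := by
    refine hpo.of_iso (Scheme.ΓSpecIso (CommRingCat.of C)) (Iso.refl _)
      (Scheme.ΓSpecIso (CommRingCat.of (C ⧸ IsLocalRing.maximalIdeal C))) (Iso.refl _) ?_ ?_ ?_ ?_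
    · simp [phi]
    · have := Scheme.ΓSpecIso_naturality
        (CommRingCat.ofHom (Ideal.Quotient.mk (IsLocalRing.maximalIdeal C)))
      rw [← this]
      simp [Scheme.Hom.appTop, Scheme.Hom.app_eq_appLE]
    · simp [Scheme.Hom.app_eq_appLE]
    · simp [phi]
  letI : Algebra (Sec g U) Γ(X₀, i ⁻¹ᵁ U) := (i.app U).hom.toAlgebra
  letI : Algebra (C ⧸ IsLocalRing.maximalIdeal C) Γ(X₀, i ⁻¹ᵁ U) :=
    (phi f₀ (i ⁻¹ᵁ U)).hom.toAlgebra
  letI : Algebra C Γ(X₀, i ⁻¹ᵁ U) := ((i.app U).hom.comp (algebraMap C (Sec g U))).toAlgebra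
  haveI : IsScalarTower C (Sec g U) Γ(X₀, i ⁻¹ᵁ U) := IsScalarTower.of_algebraMap_eq (fun _ => rfl)
  haveI : IsScalarTower C (C ⧸ IsLocalRing.maximalIdeal C) Γ(X₀, i ⁻¹ᵁ U) :=
    IsScalarTower.of_algebraMap_eq (fun c => by
      have := congrArg (fun f => f.hom c) hpo'.w
      exact this)
  have hP : Algebra.IsPushout C (Sec g U) (C ⧸ IsLocalRing.maximalIdeal C) Γ(X₀, i ⁻¹ᵁ U) :=
    CommRingCat.isPushout_iff_isPushout.mp hpo'
  refine ⟨(Algebra.IsPushout.equiv C (Sec g U) (C ⧸ IsLocalRing.maximalIdeal C)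
    Γ(X₀, i ⁻¹ᵁ U)).toAddEquiv, fun b κ => ⟨Algebra.IsPushout.equiv_tmul _ _ _ _ b κ, ?_⟩⟩
  refine (Algebra.IsPushout.equiv_tmul _ _ _ _ (1 : Sec g U) κ).trans ?_
  rw [map_one, one_mul]
  rfl

theorem hcov_affine (Y : Scheme.{u}) : ∀ x : Y, ∃ a : Y.affineOpens, x ∈ a.1 := by
  intro x
  obtain ⟨W, hW, hx, -⟩ := exists_isAffineOpen_mem_and_subset (x := x) (U := ⊤) trivial
  exact ⟨⟨W, hW⟩, hx⟩

include hsq in
theorem P_residue
    (h0 : Function.Bijective
      ((Scheme.ΓSpecIso (CommRingCat.of (C ⧸ IsLocalRing.maximalIdeal C))).inv ≫ f₀.appTop)) :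
    P (fun U : X.affineOpens => Sec g U.1) (fun U V => V.1 ≤ U.1) (fun U V h => rho g h)
      (C ⧸ IsLocalRing.maximalIdeal C) := by
  rw [← phi_top] at h0
  choose e he using fun U : X.affineOpens => exists_equiv g i f₀ hsq U.1 U.2
  have hr : ∀ a b : X.affineOpens, b.1 ≤ a.1 → i ⁻¹ᵁ b.1 ≤ i ⁻¹ᵁ a.1 := fun a b h x hx => h hx
  have hcov : ∀ x : X₀, ∃ a : X.affineOpens, x ∈ i ⁻¹ᵁ a.1 := fun x => hcov_affine X (i x)
  have hbas : ∀ (a b : X.affineOpens) (x : X₀), x ∈ i ⁻¹ᵁ a.1 → x ∈ i ⁻¹ᵁ b.1 →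
      ∃ c : X.affineOpens, x ∈ i ⁻¹ᵁ c.1 ∧ c.1 ≤ a.1 ∧ c.1 ≤ b.1 := by
    intro a b x hxa hxb
    obtain ⟨W, hW, hx, hWab⟩ := exists_isAffineOpen_mem_and_subset (x := i x) (U := a.1 ⊓ b.1)
      ⟨hxa, hxb⟩
    exact ⟨⟨W, hW⟩, hx, fun y hy => (hWab hy).1, fun y hy => (hWab hy).2⟩
  constructor
  · intro κ hκ
    have h1 : ∀ U : X.affineOpens, (phi f₀ (i ⁻¹ᵁ U.1)).hom κ = 0 := fun U => by
      have := (he U 1 κ).2
      rw [hκ U, map_zero] at this
      exact this.symm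
    have h2 : (phi f₀ ⊤).hom κ = 0 := by
      refine sep_family (fun U : X.affineOpens => i ⁻¹ᵁ U.1) hcov _ 0 (fun U => ?_)
      rw [map_zero, phi_res_apply]
      exact h1 U
    exact (map_eq_zero_iff _ h0.injective).mp h2
  · intro s hs
    have ht : ∀ (U V : X.affineOpens) (h : V.1 ≤ U.1),
        X₀.presheaf.map (homOfLE (hr U V h)).op (e U (s U)) = e V (s V) := by
      intro U V h
      rw [← hs U V h]
      generalize s U = z
      induction z using TensorProduct.induction_on with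
      | zero => simp
      | tmul b κ =>
        rw [LinearMap.rTensor_tmul, (he _ _ _).1, (he _ _ _).1, map_mul, phi_res_apply]
        congr 1
        have := congrArg (fun f => f.hom b) (i.naturality (homOfLE h).op)
        exact this.symm
      | add x y hx hy => rw [map_add, map_add, map_add, map_add, hx, hy]
    obtain ⟨t0, ht0⟩ := glue_family (fun U : X.affineOpens => i ⁻¹ᵁ U.1) (fun U V => V.1 ≤ U.1) hr
      hcov hbas (fun U => e U (s U)) ht
    obtain ⟨κ, hκ⟩ := h0.surjective t0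
    refine ⟨κ, fun U => (e U).injective ?_⟩
    rw [(he U 1 κ).2, ← ht0 U, ← hκ]
    exact phi_res_apply f₀ le_top κ

theorem main [IsArtinianRing C] [Flat g]
    (hsq : IsPullback i f₀ g
      (Spec.map (CommRingCat.ofHom (Ideal.Quotient.mk (IsLocalRing.maximalIdeal C)))))
    (h0 : Function.Bijective
      ((Scheme.ΓSpecIso (CommRingCat.of (C ⧸ IsLocalRing.maximalIdeal C))).inv ≫ f₀.appTop)) :
    Function.Bijective ((Scheme.ΓSpecIso (CommRingCat.of C)).inv ≫ g.appTop) := by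
  have hk := P_residue g i f₀ hsq h0
  have hC : P (fun U : X.affineOpens => Sec g U.1) (fun U V => V.1 ≤ U.1) (fun U V h => rho g h) C :=
    P_self hk
  rw [← phi_top]
  constructor
  · rw [injective_iff_map_eq_zero]
    intro c hc
    apply hC.1 c
    intro U
    have h1 : (1 : Sec g U.1) ⊗ₜ[C] c = (algebraMap C (Sec g U.1) c) ⊗ₜ[C] (1 : C) := by
      rw [Algebra.algebraMap_eq_smul_one, TensorProduct.smul_tmul, smul_eq_mul, mul_one]
    have h2 : algebraMap C (Sec g U.1) c = 0 := by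
      have e1 := phi_res_apply g (le_top : U.1 ≤ ⊤) c
      have : (phi g ⊤).hom c = 0 := hc
      rw [this, map_zero] at e1
      exact e1.symm
    rw [h1, h2, zero_tmul]
  · intro s
    obtain ⟨c, hc⟩ := hC.2
      (fun U => (X.presheaf.map (homOfLE (le_top : U.1 ≤ ⊤)).op s : Sec g U.1) ⊗ₜ[C] (1 : C))
      (by
        intro U V h
        change LinearMap.rTensor C (rho g h).toLinearMap _ = _
        rw [LinearMap.rTensor_tmul]
        congr 1
        exact res_res _ _ s)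
    refine ⟨c, ?_⟩
    refine sep_family (fun U : X.affineOpens => U.1) (hcov_affine X) _ _ (fun U => ?_)
    have h3 := congrArg (TensorProduct.rid C (Sec g U.1)) (hc U)
    rw [TensorProduct.rid_tmul, TensorProduct.rid_tmul, one_smul, ← Algebra.algebraMap_eq_smul_one,
      algebraMap_sec] at h3
    rw [h3]
    exact phi_res_apply g le_top c

end Groth.Agent.Lib.R2LeadGlobFlatC
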