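import Mathlib
import Groth.Agent.Lib.R2LeadGlobFlatC
import Groth.Agent.Lib.H9RigK
import Groth.Agent.Lib.Helper20ZClos4

/-! helper9: rigidity lemma (GIT 6.1) for a flat closed map with a section (S11434). -/

set_option autoImplicit false
set_option linter.style.haveILetI false
universe u
open CategoryTheory CategoryTheory.Limits AlgebraicGeometry IsLocalRing

namespace Groth.Agent.Lib.H9RigO

/-- two morphisms from the spectrum of a Noetherian local ring agreeing on all infinitesimal
neighbourhoods of the closed point are equal -/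
theorem eq_of_forall_quotient_pow {R : Type u} [CommRing R] [IsLocalRing R] [IsNoetherianRing R]
    {Y : Scheme.{u}} (a b : Spec (CommRingCat.of R) ⟶ Y)
    (hcl : a (closedPoint R) = b (closedPoint R))
    (h : ∀ n : ℕ, Spec.map (CommRingCat.ofHom (Ideal.Quotient.mk (maximalIdeal R ^ (n + 1)))) ≫ a =
      Spec.map (CommRingCat.ofHom (Ideal.Quotient.mk (maximalIdeal R ^ (n + 1)))) ≫ b) : a = b := by
  obtain ⟨_, ⟨(V : Y.Opens), hV, rfl⟩, hyV, -⟩ := Y.isBasis_affineOpens.exists_subset_of_mem_open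
    (Set.mem_univ (a (closedPoint R))) isOpen_univ
  have ha : a ⁻¹ᵁ V = ⊤ := Scheme.preimage_eq_top_of_closedPoint_mem a hyV
  have hb : b ⁻¹ᵁ V = ⊤ := Scheme.preimage_eq_top_of_closedPoint_mem b (hcl ▸ hyV)
  have hra : Set.range a ⊆ Set.range V.ι := by
    rintro _ ⟨z, rfl⟩
    rw [Scheme.Opens.range_ι]
    have : z ∈ a ⁻¹ᵁ V := ha ▸ trivial
    exact this
  have hrb : Set.range b ⊆ Set.range V.ι := by
    rintro _ ⟨z, rfl⟩
    rw [Scheme.Opens.range_ι]
    have : z ∈ b ⁻¹ᵁ V := hb ▸ trivial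
    exact this
  let a' := IsOpenImmersion.lift V.ι a hra
  let b' := IsOpenImmersion.lift V.ι b hrb
  have ha' : a' ≫ V.ι = a := IsOpenImmersion.lift_fac _ _ _
  have hb' : b' ≫ V.ι = b := IsOpenImmersion.lift_fac _ _ _
  suffices a' = b' by rw [← ha', ← hb', this]
  haveI : IsAffine (V : Scheme.{u}) := hV
  apply ext_of_isAffine
  ext c
  have key : ∀ n : ℕ, (Scheme.ΓSpecIso (CommRingCat.of R)).hom (a'.appTop c) -
      (Scheme.ΓSpecIso (CommRingCat.of R)).hom (b'.appTop c) ∈ maximalIdeal R ^ (n + 1) := by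
    intro n
    set π := CommRingCat.ofHom (Ideal.Quotient.mk (maximalIdeal R ^ (n + 1))) with hπ
    have h1 : Spec.map π ≫ a' = Spec.map π ≫ b' := by
      rw [← cancel_mono V.ι, Category.assoc, Category.assoc, ha', hb']
      exact h n
    have h2 := congrArg (fun m => m.appTop) h1
    simp only [Scheme.Hom.comp_appTop] at h2
    have h3 := congrArg (fun m => m ≫ (Scheme.ΓSpecIso _).hom) h2
    simp only [Category.assoc, Scheme.ΓSpecIso_naturality] at h3
    have h4 := congrArg (fun m => m.hom c) h3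
    simp only [CommRingCat.hom_comp, RingHom.comp_apply] at h4
    rw [← Ideal.Quotient.eq]
    exact h4
  have hmem : (Scheme.ΓSpecIso (CommRingCat.of R)).hom (a'.appTop c) -
      (Scheme.ΓSpecIso (CommRingCat.of R)).hom (b'.appTop c) ∈ (⨅ i, maximalIdeal R ^ i : Ideal R) := by
    rw [Ideal.mem_iInf]
    intro i
    cases i with
    | zero => simp
    | succ n => exact key n
  rw [Ideal.iInf_pow_eq_bot_of_isLocalRing _ (Ideal.IsPrime.ne_top inferInstance), Ideal.mem_bot, sub_eq_zero] at hmem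
  exact (ConcreteCategory.bijective_of_isIso (Scheme.ΓSpecIso (CommRingCat.of R)).hom).1 hmem


section Thick

variable {S : Scheme.{u}} [IsLocallyNoetherian S]

/-- the ring `O_{S,s} / m^(n+1)` -/
abbrev Cn (s : S) (n : ℕ) : Type u :=
  (S.presheaf.stalk s) ⧸ (maximalIdeal (S.presheaf.stalk s)) ^ (n + 1)

instance (s : S) (n : ℕ) : Nontrivial (Cn s n) :=
  Ideal.Quotient.nontrivial_iff.mpr (fun h => (Ideal.IsPrime.ne_top inferInstance :
    maximalIdeal (S.presheaf.stalk s) ≠ ⊤) (top_le_iff.mp (h ▸ Ideal.pow_le_self (by omega))))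

instance (s : S) (n : ℕ) : IsLocalRing (Cn s n) :=
  IsLocalRing.of_surjective' (Ideal.Quotient.mk _) Ideal.Quotient.mk_surjective

theorem map_maximalIdeal (s : S) (n : ℕ) :
    (maximalIdeal (S.presheaf.stalk s)).map
      (Ideal.Quotient.mk ((maximalIdeal (S.presheaf.stalk s)) ^ (n + 1))) =
      maximalIdeal (Cn s n) := by
  have hI : (maximalIdeal (S.presheaf.stalk s)) ^ (n + 1) ≠ ⊤ := fun h =>
    (Ideal.IsPrime.ne_top inferInstance : maximalIdeal (S.presheaf.stalk s) ≠ ⊤)
      (top_le_iff.mp (h ▸ Ideal.pow_le_self (by omega)))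
  haveI : IsLocalHom (Ideal.Quotient.mk ((maximalIdeal (S.presheaf.stalk s)) ^ (n + 1))) :=
    IsLocalHom.of_surjective _ Ideal.Quotient.mk_surjective
  ext x
  obtain ⟨x, rfl⟩ := Ideal.Quotient.mk_surjective x
  simp [sup_eq_left.mpr (le_maximalIdeal hI)]

instance (s : S) (n : ℕ) : IsArtinianRing (Cn s n) := by
  rw [isArtinianRing_iff_isNilpotent_maximalIdeal]
  refine ⟨n + 1, ?_⟩
  rw [← map_maximalIdeal, ← Ideal.map_pow, Ideal.zero_eq_bot, Ideal.map_eq_bot_iff_le_ker,
    Ideal.mk_ker]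

/-- the `n`-th infinitesimal neighbourhood of `s` in `S` -/
noncomputable def tn (s : S) (n : ℕ) : Spec (CommRingCat.of (Cn s n)) ⟶ S :=
  Spec.map (CommRingCat.ofHom (Ideal.Quotient.mk
    ((maximalIdeal (S.presheaf.stalk s)) ^ (n + 1)))) ≫ S.fromSpecStalk s

theorem tn_apply (s : S) (n : ℕ) (w : Spec (CommRingCat.of (Cn s n))) : tn s n w = s := by
  haveI : Subsingleton (PrimeSpectrum (Cn s n)) := Ring.KrullDimLE.subsingleton_primeSpectrum _
  have hw : w = closedPoint (Cn s n) := Subsingleton.elim (α := PrimeSpectrum (Cn s n)) _ _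
  rw [hw, tn, Scheme.Hom.comp_apply]
  haveI : IsLocalHom (CommRingCat.ofHom (Ideal.Quotient.mk
    ((maximalIdeal (S.presheaf.stalk s)) ^ (n + 1)))).hom :=
    IsLocalHom.of_surjective (Ideal.Quotient.mk _) Ideal.Quotient.mk_surjective
  rw [Spec_closedPoint, Scheme.fromSpecStalk_closedPoint]

/-- the residue map `O_{S,s}/m^(n+1) → κ(s)` -/
noncomputable def r1 (s : S) (n : ℕ) : Cn s n →+* IsLocalRing.ResidueField (S.presheaf.stalk s) :=
  Ideal.Quotient.lift _ (IsLocalRing.residue (S.presheaf.stalk s)) (fun a ha => by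
    rw [IsLocalRing.residue_eq_zero_iff]
    exact Ideal.pow_le_self (by omega) ha)

theorem r1_surjective (s : S) (n : ℕ) : Function.Surjective (r1 s n) :=
  Ideal.Quotient.lift_surjective_of_surjective _ _ IsLocalRing.residue_surjective

theorem ker_r1 (s : S) (n : ℕ) : RingHom.ker (r1 s n) = maximalIdeal (Cn s n) := by
  haveI := RingHom.ker_isMaximal_of_surjective (r1 s n) (r1_surjective s n)
  exact IsLocalRing.eq_maximalIdeal inferInstance

/-- `(O_{S,s}/m^(n+1)) / m ≃ κ(s)` -/
noncomputable def resEquiv (s : S) (n : ℕ) :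
    (Cn s n ⧸ maximalIdeal (Cn s n)) ≃+* IsLocalRing.ResidueField (S.presheaf.stalk s) :=
  (Ideal.quotEquivOfEq (ker_r1 s n).symm).trans
    (RingHom.quotientKerEquivOfSurjective (r1_surjective s n))

/-- the induced isomorphism of spectra -/
noncomputable def bIso (s : S) (n : ℕ) :
    Spec (S.residueField s) ⟶ Spec (CommRingCat.of (Cn s n ⧸ maximalIdeal (Cn s n))) :=
  Spec.map (resEquiv s n).toCommRingCatIso.hom

instance (s : S) (n : ℕ) : IsIso (bIso s n) := by
  unfold bIso; infer_instance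

theorem bIso_comp (s : S) (n : ℕ) :
    bIso s n ≫ Spec.map (CommRingCat.ofHom (Ideal.Quotient.mk (maximalIdeal (Cn s n)))) ≫ tn s n =
      S.fromSpecResidueField s := by
  unfold bIso tn Scheme.fromSpecResidueField
  rw [← Spec.map_comp_assoc, ← Spec.map_comp_assoc]
  congr 2

variable {X Y : Scheme.{u}} (p : X ⟶ S) [Flat p] (f : X ⟶ Y) (e : S ⟶ X)

set_option maxHeartbeats 1600000 in
theorem thick_agree (he : e ≫ p = 𝟙 S) (s : S)
    (h0s : Function.Bijective (pullback.snd p (S.fromSpecResidueField s)).appTop)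
    (hs : ∀ x x' : X, p x = s → p x' = s → f x = f x') (n : ℕ) :
    pullback.fst p (tn s n) ≫ f = pullback.fst p (tn s n) ≫ p ≫ e ≫ f := by
  set j := pullback.fst p (tn s n) with hj
  set gn := pullback.snd p (tn s n) with hgn
  -- the section
  let en : Spec (CommRingCat.of (Cn s n)) ⟶ pullback p (tn s n) :=
    pullback.lift (tn s n ≫ e) (𝟙 _) (by rw [Category.assoc, he, Category.comp_id, Category.id_comp])
  have hen1 : en ≫ j = tn s n ≫ e := pullback.lift_fst _ _ _
  have hen2 : en ≫ gn = 𝟙 _ := pullback.lift_snd _ _ _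
  -- global sections of the thickening
  have hbij : Function.Bijective ((Scheme.ΓSpecIso (CommRingCat.of (Cn s n))).inv ≫ gn.appTop) := by
    set l := pullback.snd p (S.fromSpecResidueField s) with hl
    set mk := Spec.map (CommRingCat.ofHom (Ideal.Quotient.mk (maximalIdeal (Cn s n)))) with hmk
    have hcomm : pullback.fst p (S.fromSpecResidueField s) ≫ p = (l ≫ bIso s n ≫ mk) ≫ tn s n := by
      rw [pullback.condition, Category.assoc, Category.assoc, bIso_comp]
    let i : pullback p (S.fromSpecResidueField s) ⟶ pullback p (tn s n) :=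
      pullback.lift (pullback.fst p (S.fromSpecResidueField s)) (l ≫ bIso s n ≫ mk) hcomm
    have hbig : IsPullback (i ≫ j) (l ≫ bIso s n) p (mk ≫ tn s n) := by
      have h1 := IsPullback.of_hasPullback p (S.fromSpecResidueField s)
      have hi : i ≫ j = pullback.fst p (S.fromSpecResidueField s) := pullback.lift_fst _ _ _
      rw [hi]
      refine h1.of_iso (Iso.refl _) (Iso.refl _) (asIso (bIso s n)) (Iso.refl _) ?_ ?_ ?_ ?_
      · simp
      · simp [hl]
      · simp
      · simp only [Iso.refl_hom, Category.comp_id, asIso_hom]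
        exact (bIso_comp s n).symm
    have hsq : IsPullback i (l ≫ bIso s n) gn mk :=
      IsPullback.of_right hbig (by rw [hgn, pullback.lift_snd, Category.assoc])
        (IsPullback.of_hasPullback p (tn s n))
    refine Groth.Agent.Lib.R2LeadGlobFlatC.main gn i (l ≫ bIso s n) hsq ?_
    rw [Scheme.Hom.comp_appTop]
    haveI : IsIso l.appTop := (ConcreteCategory.isIso_iff_bijective _).mpr h0s
    haveI : IsIso (bIso s n).appTop := (inferInstance : IsIso ((bIso s n).app ⊤))
    exact ConcreteCategory.bijective_of_isIso _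
  haveI hiso : IsIso gn.appTop := by
    haveI h1 : IsIso ((Scheme.ΓSpecIso (CommRingCat.of (Cn s n))).inv ≫ gn.appTop) :=
      (ConcreteCategory.isIso_iff_bijective _).mpr hbij
    exact IsIso.of_isIso_comp_left (Scheme.ΓSpecIso (CommRingCat.of (Cn s n))).inv _
  have hk : (gn ≫ en).appTop = 𝟙 _ := by
    rw [Scheme.Hom.comp_appTop]
    have h1 : gn.appTop ≫ en.appTop = 𝟙 _ := by
      rw [← Scheme.Hom.comp_appTop, hen2]
      rfl
    have h2 : en.appTop = inv gn.appTop := IsIso.eq_inv_of_hom_inv_id h1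
    rw [h2, IsIso.inv_hom_id]
  -- the image lands in an affine open
  have hpes : p (e s) = s := by
    rw [← Scheme.Hom.comp_apply, he]
    rfl
  obtain ⟨_, ⟨(V : Y.Opens), hV, rfl⟩, hyV, -⟩ := Y.isBasis_affineOpens.exists_subset_of_mem_open
    (Set.mem_univ (f (e s))) isOpen_univ
  have hpj : ∀ z, p (j z) = s := by
    intro z
    rw [← Scheme.Hom.comp_apply, hj, pullback.condition, Scheme.Hom.comp_apply, tn_apply]
  have hr : Set.range (j ≫ f) ⊆ Set.range V.ι := by
    rintro _ ⟨z, rfl⟩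
    rw [Scheme.Opens.range_ι, Scheme.Hom.comp_apply, hs (j z) (e s) (hpj z) hpes]
    exact hyV
  let a' := IsOpenImmersion.lift V.ι (j ≫ f) hr
  have ha' : a' ≫ V.ι = j ≫ f := IsOpenImmersion.lift_fac _ _ _
  haveI : IsAffine (V : Scheme.{u}) := hV
  have hka : (gn ≫ en) ≫ a' = a' := by
    apply ext_of_isAffine
    rw [Scheme.Hom.comp_appTop, hk, Category.comp_id]
  calc j ≫ f = a' ≫ V.ι := ha'.symm
    _ = ((gn ≫ en) ≫ a') ≫ V.ι := by rw [hka]
    _ = gn ≫ en ≫ j ≫ f := by rw [Category.assoc, Category.assoc, ha']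
    _ = gn ≫ tn s n ≫ e ≫ f := by rw [reassoc_of% hen1]
    _ = j ≫ p ≫ e ≫ f := by rw [hj, hgn, pullback.condition_assoc]

end Thick

section Local

variable {S X Y : Scheme.{u}} [IsLocallyNoetherian S] [IsLocallyNoetherian X]
  (p : X ⟶ S) [Flat p] (f : X ⟶ Y) (e : S ⟶ X)

set_option maxHeartbeats 1600000 in
/-- if `f` collapses the fibre of `p` through `x`, then `f` and `p ≫ e ≫ f` agree near `x` -/
theorem local_agree (he : e ≫ p = 𝟙 S)
    (h0 : ∀ s : S, Function.Bijective (pullback.snd p (S.fromSpecResidueField s)).appTop)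
    (x : X) (hs : ∀ x₁ x₂ : X, p x₁ = p x → p x₂ = p x → f x₁ = f x₂) :
    ∃ U : X.Opens, x ∈ U ∧ U.ι ≫ f = U.ι ≫ p ≫ e ≫ f := by
  apply spread_out_unique_of_isGermInjective' f (p ≫ e ≫ f)
  have hpe : p (e (p x)) = p x := by
    rw [← Scheme.Hom.comp_apply, he]
    rfl
  refine eq_of_forall_quotient_pow (R := X.presheaf.stalk x) _ _ ?_ ?_
  · have hc : (X.fromSpecStalk x) (closedPoint (X.presheaf.stalk x)) = x :=
      Scheme.fromSpecStalk_closedPoint
    simp only [Scheme.Hom.comp_apply]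
    rw [hc]
    exact hs _ _ rfl hpe
  · intro n
    set π := CommRingCat.ofHom (Ideal.Quotient.mk (maximalIdeal (X.presheaf.stalk x) ^ (n + 1)))
      with hπ
    -- the induced map on quotients
    have hle : (maximalIdeal (S.presheaf.stalk (p x)) ^ (n + 1)) ≤
        RingHom.ker ((Ideal.Quotient.mk (maximalIdeal (X.presheaf.stalk x) ^ (n + 1))).comp
          (p.stalkMap x).hom) := by
      intro a ha
      rw [RingHom.mem_ker, RingHom.comp_apply, Ideal.Quotient.eq_zero_iff_mem]
      have h1 : (maximalIdeal (S.presheaf.stalk (p x))).map (p.stalkMap x).hom ≤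
          maximalIdeal (X.presheaf.stalk x) :=
        ((IsLocalRing.local_hom_TFAE (p.stalkMap x).hom).out 0 2).mp
          (by infer_instance : IsLocalHom (p.stalkMap x).hom)
      have h2 : (maximalIdeal (S.presheaf.stalk (p x)) ^ (n + 1)).map (p.stalkMap x).hom ≤
          maximalIdeal (X.presheaf.stalk x) ^ (n + 1) := by
        rw [Ideal.map_pow]
        exact Ideal.pow_right_mono h1 _
      exact h2 (Ideal.mem_map_of_mem _ ha)
    let ρ : Cn (p x) n →+* (X.presheaf.stalk x) ⧸ (maximalIdeal (X.presheaf.stalk x) ^ (n + 1)) :=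
      Ideal.Quotient.lift _ _ hle
    have hcomm : (Spec.map π ≫ X.fromSpecStalk x) ≫ p =
        Spec.map (CommRingCat.ofHom ρ) ≫ tn (p x) n := by
      rw [Category.assoc, ← Scheme.SpecMap_stalkMap_fromSpecStalk, tn, ← Spec.map_comp_assoc,
        ← Spec.map_comp_assoc]
      congr 2
    let l : Spec (CommRingCat.of ((X.presheaf.stalk x) ⧸
        (maximalIdeal (X.presheaf.stalk x) ^ (n + 1)))) ⟶ pullback p (tn (p x) n) :=
      pullback.lift (Spec.map π ≫ X.fromSpecStalk x) (Spec.map (CommRingCat.ofHom ρ)) hcomm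
    have hl : l ≫ pullback.fst p (tn (p x) n) = Spec.map π ≫ X.fromSpecStalk x :=
      pullback.lift_fst _ _ _
    have := thick_agree p f e he (p x) (h0 (p x)) hs n
    calc Spec.map π ≫ X.fromSpecStalk x ≫ f = l ≫ pullback.fst p (tn (p x) n) ≫ f := by
          rw [reassoc_of% hl]
      _ = l ≫ pullback.fst p (tn (p x) n) ≫ p ≫ e ≫ f := by rw [this]
      _ = Spec.map π ≫ X.fromSpecStalk x ≫ p ≫ e ≫ f := by rw [reassoc_of% hl]

end Local

section Global

variable {S X Y : Scheme.{u}} [IsLocallyNoetherian S] [IsLocallyNoetherian X]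
  (p : X ⟶ S) [Flat p] (q : Y ⟶ S) [IsSeparated q] (f : X ⟶ Y) (e : S ⟶ X)

/-- an open subset of a locally Noetherian scheme which is stable under specialization is closed -/
theorem isClosed_of_isOpen_of_stableUnderSpecialization {T : Set S} (ho : IsOpen T)
    (hsp : StableUnderSpecialization T) : IsClosed T := by
  rw [← closure_subset_iff_isClosed]
  intro s₀ hs₀
  obtain ⟨_, ⟨(V : S.Opens), hV, rfl⟩, hsV, -⟩ := S.isBasis_affineOpens.exists_subset_of_mem_open
    (Set.mem_univ s₀) isOpen_univ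
  haveI : IsNoetherianRing Γ(S, V) := IsLocallyNoetherian.component_noetherian ⟨V, hV⟩
  have hN : TopologicalSpace.NoetherianSpace (V : Scheme.{u}) :=
    noetherianSpace_of_isAffineOpen V hV
  have key := @Groth.Agent.Lib.Helper20.ZClosLib.closure_subset_of_stableUnderSpecialization
    S _ T hsp V hN V.isOpen.isOpenEmbedding_subtypeVal.quasiSober ⟨T, ho⟩ Set.univ isClosed_univ
    (fun y hy => hy.2)
  apply key
  rw [mem_closure_iff]
  intro N hN hsN
  obtain ⟨t, htN, htT⟩ := mem_closure_iff.mp hs₀ (N ∩ V) (hN.inter V.2) ⟨hsN, hsV⟩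
  exact ⟨t, htN.1, ⟨trivial, htN.2⟩, htT⟩

set_option maxHeartbeats 1600000 in
/-- **Rigidity lemma** (GIT 6.1) for a flat closed map with a section. -/
theorem main_closed_section [ConnectedSpace S] (hf : f ≫ q = p) (he : e ≫ p = 𝟙 S)
    (h0 : ∀ s : S, Function.Bijective (pullback.snd p (S.fromSpecResidueField s)).appTop)
    (hcl : IsClosedMap p) (s : S) (hs : ∀ x x' : X, p x = s → p x' = s → f x = f x') :
    f = p ≫ e ≫ f := by
  have hg : (p ≫ e ≫ f) ≫ q = p := by
    rw [Category.assoc, Category.assoc, hf, he, Category.comp_id]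
  let fO : Over.mk p ⟶ Over.mk q := Over.homMk f hf
  let gO : Over.mk p ⟶ Over.mk q := Over.homMk (p ≫ e ≫ f) hg
  haveI : IsSeparated (Over.mk q).hom := ‹_›
  set E : Set X := Set.range (equalizer.ι fO gO).left with hE
  have hEcl : IsClosed E := (equalizer.ι fO gO).left.isClosedEmbedding.isClosed_range
  have hEeq : ∀ x ∈ E, f x = (p ≫ e ≫ f) x := by
    rintro _ ⟨z, rfl⟩
    have := congr($(equalizer.condition fO gO).left)
    rw [Over.comp_left, Over.comp_left] at this
    exact congr($(this) z)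
  have hEopen : ∀ U : X.Opens, U.ι ≫ f = U.ι ≫ p ≫ e ≫ f → (U : Set X) ⊆ E := by
    intro U hU x hx
    let UO : Over S := Over.mk (U.ι ≫ p)
    let i : UO ⟶ Over.mk p := Over.homMk U.ι rfl
    have hi : i ≫ fO = i ≫ gO := by
      ext1
      exact hU
    have h1 : (equalizer.lift i hi ≫ equalizer.ι _ _).left = U.ι := by
      rw [equalizer.lift_ι]
      rfl
    rw [Over.comp_left] at h1
    refine ⟨(equalizer.lift i hi).left ⟨x, hx⟩, ?_⟩
    rw [← Scheme.Hom.comp_apply, h1]
    rfl
  have hpe : ∀ t : S, p (e t) = t := by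
    intro t
    rw [← Scheme.Hom.comp_apply, he]
    rfl
  -- the locus of fibres contained in `E`
  set T : Set S := {t | p ⁻¹' {t} ⊆ E} with hT
  have hcoll : ∀ t ∈ T, ∀ x x' : X, p x = t → p x' = t → f x = f x' := by
    intro t ht x x' hx hx'
    have h1 := hEeq x (ht hx)
    have h2 := hEeq x' (ht hx')
    simp only [Scheme.Hom.comp_apply] at h1 h2
    rw [h1, h2, hx, hx']
  have step1 : ∀ t : S, (∀ x x' : X, p x = t → p x' = t → f x = f x') →
      ∃ U : Set S, IsOpen U ∧ t ∈ U ∧ U ⊆ T := by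
    intro t ht
    have hsub : p ⁻¹' {t} ⊆ interior E := by
      intro x hx
      obtain ⟨U, hxU, hU⟩ := local_agree p f e he h0 x (fun x₁ x₂ h₁ h₂ =>
        ht x₁ x₂ (h₁.trans hx) (h₂.trans hx))
      exact interior_maximal (hEopen U hU) U.2 hxU
    have hC : IsClosed (p '' (interior E)ᶜ) := hcl _ isOpen_interior.isClosed_compl
    refine ⟨(p '' (interior E)ᶜ)ᶜ, hC.isOpen_compl, ?_, ?_⟩
    · rintro ⟨x, hx, hxt⟩
      exact hx (hsub hxt)
    · intro t' ht' x hx
      by_contra hxE
      exact ht' ⟨x, fun h => hxE (interior_subset h), hx⟩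
  have hTopen : IsOpen T := by
    rw [isOpen_iff_forall_mem_open]
    intro t ht
    obtain ⟨U, hU, htU, hUT⟩ := step1 t (hcoll t ht)
    exact ⟨U, hUT, hU, htU⟩
  have hTsp : StableUnderSpecialization T := by
    intro t' t'' htt ht' x hx
    obtain ⟨x', hx'x, hx't⟩ := (Flat.generalizingMap p) (hx ▸ htt : t' ⤳ p x)
    exact hx'x.mem_closed hEcl (ht' hx't)
  have hTcl : IsClosed T := isClosed_of_isOpen_of_stableUnderSpecialization hTopen hTsp
  have hsT : s ∈ T := by
    obtain ⟨U, -, hsU, hUT⟩ := step1 s hs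
    exact hUT hsU
  have hTuniv : T = Set.univ := IsClopen.eq_univ ⟨hTcl, hTopen⟩ ⟨s, hsT⟩
  -- conclude by gluing
  have hall : ∀ x : X, ∃ U : X.Opens, x ∈ U ∧ U.ι ≫ f = U.ι ≫ p ≫ e ≫ f := by
    intro x
    have hx : p x ∈ T := hTuniv ▸ Set.mem_univ _
    exact local_agree p f e he h0 x (hcoll (p x) hx)
  choose U hxU hU using hall
  have hcov : TopologicalSpace.IsOpenCover U := by
    refine top_le_iff.mp ?_
    intro x _
    exact TopologicalSpace.Opens.mem_iSup.mpr ⟨x, hxU x⟩
  exact (X.openCoverOfIsOpenCover _ hcov).hom_ext _ _ fun x => hU x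

end Global

end Groth.Agent.Lib.H9RigO
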