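import Mathlib
import Groth.Prelude.Def_HTop2
import Groth.Agent.Lib.H6xPtFunF

/-!
# Seminormal rings have no nontrivial subintegral extensions (no Noetherian hypothesis)
-/

set_option autoImplicit false
universe u

namespace Groth.Agent.Lib.H9SNKey

open Groth.Agent.Lib.H6xPtFunF

variable {A B : Type u} [CommRing A] [CommRing B] [Algebra A B]

/-- Finite case. -/
theorem surjective_of_finite [Module.Finite A B] [IsReduced B]
    (hA : HTop.IsSeminormalRing A) (hinj : Function.Injective (algebraMap A B))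
    (huniq : ∀ Q Q' : Ideal B, Q.IsPrime → Q'.IsPrime →
      Q.comap (algebraMap A B) = Q'.comap (algebraMap A B) → Q = Q')
    (hpt : ∀ (Q : Ideal B), Q.IsPrime → ∀ b : B, ∃ a s : A,
      s ∉ Q.comap (algebraMap A B) ∧ algebraMap A B s * b - algebraMap A B a ∈ Q) :
    Function.Surjective (algebraMap A B) := by
  classical
  by_contra hsurj
  have hc : cond A B ≠ ⊤ := by
    intro h
    apply hsurj
    intro b
    have h1 : (1 : A) ∈ cond A B := by rw [h]; trivial
    have := h1 b
    rwa [map_one, one_mul] at this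
  obtain ⟨⟨p, hp⟩⟩ := Ideal.nonempty_minimalPrimes hc
  have hpp : p.IsPrime := hp.1.1
  have hcp : cond A B ≤ p := hp.1.2
  -- the prime of `B` over `p`
  haveI : Algebra.IsIntegral A B := Algebra.IsIntegral.of_finite A B
  obtain ⟨q, -, hq, hqp⟩ := Ideal.exists_ideal_over_prime_of_isIntegral p (⊥ : Ideal B) (by
    intro x hx
    rw [Ideal.mem_comap, Ideal.mem_bot] at hx
    have : x = 0 := hinj (by rw [hx, map_zero])
    rw [this]; exact Ideal.zero_mem _)
  -- Claim 1
  have claim1 : ∃ x ∈ q, ∀ s : A, s ∉ p → algebraMap A B s * x ∉ (algebraMap A B).range := by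
    by_contra hcon
    push Not at hcon
    have hgen : ∀ b : B, ∃ u : A, u ∉ p ∧ algebraMap A B u * b ∈ (algebraMap A B).range := by
      intro b
      obtain ⟨a, s, hs, hsb⟩ := hpt q hq b
      rw [hqp] at hs
      obtain ⟨t, ht, htr⟩ := hcon _ hsb
      refine ⟨t * s, fun h => (hpp.mem_or_mem h).elim ht hs, ?_⟩
      have : algebraMap A B (t * s) * b =
          algebraMap A B t * (algebraMap A B s * b - algebraMap A B a) + algebraMap A B (t * a) := by
        simp only [map_mul]; ring
      rw [this]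
      exact Subring.add_mem _ htr ⟨_, rfl⟩
    obtain ⟨T, hT⟩ := (Module.Finite.fg_top : (⊤ : Submodule A B).FG)
    choose f hf1 hf2 using hgen
    have hu : (∏ x ∈ T, f x) ∈ cond A B := by
      intro c
      have hcT : c ∈ Submodule.span A (T : Set B) := by rw [hT]; trivial
      induction hcT using Submodule.span_induction with
      | mem x hx =>
        obtain ⟨k, hk⟩ := Finset.dvd_prod_of_mem f hx
        rw [hk]
        have : algebraMap A B (f x * k) * x = algebraMap A B k * (algebraMap A B (f x) * x) := by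
          simp only [map_mul]; ring
        rw [this]
        exact Subring.mul_mem _ ⟨_, rfl⟩ (hf2 x)
      | zero => rw [mul_zero]; exact Subring.zero_mem _
      | add x y _ _ hx hy => rw [mul_add]; exact Subring.add_mem _ hx hy
      | smul r x _ hx =>
        rw [Algebra.smul_def]
        have : algebraMap A B (∏ x ∈ T, f x) * (algebraMap A B r * x) =
            algebraMap A B r * (algebraMap A B (∏ x ∈ T, f x) * x) := by ring
        rw [this]
        exact Subring.mul_mem _ ⟨_, rfl⟩ hx
    obtain ⟨x, _, hx⟩ := (hpp.prod_mem_iff).mp (hcp hu)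
    exact hf1 x hx
  obtain ⟨x, hxq, hx⟩ := claim1
  -- Claim 2
  obtain ⟨σ, hσ, n, hσn⟩ := exists_mul_pow_mem (Ideal.map (algebraMap A B) (cond A B))
    (Submonoid.map (algebraMap A B : A →* B) p.primeCompl) x (by
      intro Q hQ hJQ hdisj
      have h1 : Q.comap (algebraMap A B) = p := by
        have hle : Q.comap (algebraMap A B) ≤ p := by
          intro y hy
          by_contra hyp
          exact Set.disjoint_left.mp hdisj hy ⟨y, hyp, rfl⟩
        have hge : cond A B ≤ Q.comap (algebraMap A B) := by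
          intro y hy
          exact hJQ (Ideal.mem_map_of_mem _ hy)
        exact le_antisymm hle (hp.2 ⟨Ideal.IsPrime.comap _, hge⟩ hle)
      have h2 : Q = q := huniq Q q hQ hq (h1.trans hqp.symm)
      rw [h2]; exact hxq)
  obtain ⟨s₀, hs₀, rfl⟩ := hσ
  have hs₀p : s₀ ∉ p := hs₀
  obtain ⟨a₀, ha₀, ha₀x⟩ := exists_of_mem_map_cond hσn
  -- Claim 3
  let P : ℕ → Prop := fun N => ∃ s : A, s ∉ p ∧ ∀ m, N ≤ m →
    algebraMap A B s * x ^ m ∈ (algebraMap A B).range
  have hPn : P n := by
    refine ⟨s₀, hs₀p, fun m hm => ?_⟩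
    obtain ⟨k, rfl⟩ := Nat.exists_eq_add_of_le hm
    have : algebraMap A B s₀ * x ^ (n + k) = algebraMap A B a₀ * x ^ k := by
      rw [ha₀x, pow_add]
      show _ = (algebraMap A B s₀ * x ^ n) * x ^ k
      ring
    rw [this]
    exact ha₀ _
  have hP1 : ¬ P 1 := by
    rintro ⟨s, hs, h⟩
    have := h 1 le_rfl
    rw [pow_one] at this
    exact hx s hs this
  have hP0 : ¬ P 0 := by
    rintro ⟨s, hs, h⟩
    exact hP1 ⟨s, hs, fun m _ => h m (Nat.zero_le _)⟩
  have hex : ∃ N, P N := ⟨n, hPn⟩
  set N := Nat.find hex with hN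
  have hPN : P N := Nat.find_spec hex
  have hN2 : 2 ≤ N := by
    by_contra hlt
    push Not at hlt
    interval_cases h : N
    · exact hP0 hPN
    · exact hP1 hPN
  obtain ⟨k, hk⟩ : ∃ k, N = k + 1 := ⟨N - 1, by omega⟩
  have hk1 : 1 ≤ k := by omega
  have hPk : ¬ P k := Nat.find_min hex (by omega)
  obtain ⟨s₁, hs₁, hs₁m⟩ := hPN
  apply hPk
  refine ⟨s₁, hs₁, fun m hm => ?_⟩
  rcases Nat.eq_or_lt_of_le hm with rfl | hlt
  · apply mem_range_of_sq_cube hA hinj
    · have : (algebraMap A B s₁ * x ^ k) ^ 2 =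
          algebraMap A B s₁ * (algebraMap A B s₁ * x ^ (2 * k)) := by
        rw [pow_mul]; ring
      rw [this]
      exact Subring.mul_mem _ ⟨_, rfl⟩ (hs₁m _ (by omega))
    · have : (algebraMap A B s₁ * x ^ k) ^ 3 =
          algebraMap A B (s₁ ^ 2) * (algebraMap A B s₁ * x ^ (3 * k)) := by
        rw [pow_mul, map_pow]; ring
      rw [this]
      exact Subring.mul_mem _ ⟨_, rfl⟩ (hs₁m _ (by omega))
  · exact hs₁m m (by omega)

/-- Integral case. -/
theorem surjective_of_isIntegral [Algebra.IsIntegral A B] [IsReduced B]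
    (hA : HTop.IsSeminormalRing A) (hinj : Function.Injective (algebraMap A B))
    (huniq : ∀ Q Q' : Ideal B, Q.IsPrime → Q'.IsPrime →
      Q.comap (algebraMap A B) = Q'.comap (algebraMap A B) → Q = Q')
    (hpt : ∀ (Q : Ideal B), Q.IsPrime → ∀ b : B, ∃ a s : A,
      s ∉ Q.comap (algebraMap A B) ∧ algebraMap A B s * b - algebraMap A B a ∈ Q) :
    Function.Surjective (algebraMap A B) := by
  intro b
  let C := Algebra.adjoin A {b}
  let b' : C := ⟨b, Algebra.subset_adjoin rfl⟩
  haveI : IsReduced C := isReduced_of_injective C.val Subtype.val_injective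
  have hinjC : Function.Injective (algebraMap A C) := by
    intro x y h
    apply hinj
    exact congrArg Subtype.val h
  haveI : Module.Finite A C :=
    Module.Finite.iff_fg.mpr (Algebra.IsIntegral.isIntegral (R := A) b).fg_adjoin_singleton
  haveI : Algebra.IsIntegral C B := Algebra.IsIntegral.tower_top A
  have hover : ∀ Q' : Ideal C, Q'.IsPrime → ∃ Q : Ideal B, Q.IsPrime ∧
      Q.comap (algebraMap C B) = Q' := by
    intro Q' hQ'
    obtain ⟨Q, -, hQ, hQQ'⟩ := Ideal.exists_ideal_over_prime_of_isIntegral Q' (⊥ : Ideal B) (by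
      intro x hx
      rw [Ideal.mem_comap, Ideal.mem_bot] at hx
      have : x = 0 := Subtype.ext hx
      rw [this]; exact Ideal.zero_mem _)
    exact ⟨Q, hQ, hQQ'⟩
  have hcc : ∀ Q : Ideal B, (Q.comap (algebraMap C B)).comap (algebraMap A C) =
      Q.comap (algebraMap A B) := by
    intro Q
    rw [Ideal.comap_comap]
    rfl
  have hres := surjective_of_finite (A := A) (B := C) hA hinjC (by
      intro Q₁ Q₂ hQ₁ hQ₂ h
      obtain ⟨R₁, hR₁, rfl⟩ := hover Q₁ hQ₁
      obtain ⟨R₂, hR₂, rfl⟩ := hover Q₂ hQ₂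
      rw [hcc, hcc] at h
      rw [huniq R₁ R₂ hR₁ hR₂ h]) (by
      intro Q' hQ' c
      obtain ⟨Q, hQ, rfl⟩ := hover Q' hQ'
      obtain ⟨a, s, hs, hsa⟩ := hpt Q hQ c.1
      refine ⟨a, s, ?_, ?_⟩
      · rw [hcc]; exact hs
      · rw [Ideal.mem_comap]
        exact hsa)
  obtain ⟨a, ha⟩ := hres b'
  exact ⟨a, congrArg Subtype.val ha⟩

end Groth.Agent.Lib.H9SNKey
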