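import Mathlib
import Groth.Prelude.Def_HTop2
import Groth.Agent.Lib.H9SNKey
import Groth.Agent.Lib.Helper20EtaPtSN
import Groth.Agent.Lib.Helper20PerfSch
import Groth.Agent.Lib.Helper6Reduced
import Groth.Agent.S0415

/-!
# Universal homeomorphisms with trivial residue field extensions onto seminormal schemes
-/

set_option autoImplicit false
universe u

namespace Groth.Agent.Lib.H9SNKey

open AlgebraicGeometry CategoryTheory
open Groth.Agent.Lib.H6xPtFunF
open Groth.Agent.Lib.Helper20.EtaPt

/-- Ring form of the key lemma. -/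
theorem bijective_of_isUnivHomeo {A B : Type u} [CommRing A] [CommRing B] (ψ : A →+* B)
    [IsReduced B] (hA : HTop.IsSeminormalRing A)
    (h1 : FlatMor.IsUnivHomeo (Spec.map (CommRingCat.ofHom ψ)))
    (h2 : HTop.ResidueFieldsIso (Spec.map (CommRingCat.ofHom ψ))) : Function.Bijective ψ := by
  letI := ψ.toAlgebra
  have hint : ψ.IsIntegral := (isIntegral_and_Nmap_bijective_of ψ h1 h2).1
  haveI : Algebra.IsIntegral A B := ⟨hint⟩
  have hbij := comap_bijective_of_isUnivHomeo ψ h1
  have hresb : ∀ Q : PrimeSpectrum B, Function.Bijective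
      (Ideal.ResidueField.map (PrimeSpectrum.comap ψ Q).asIdeal Q.asIdeal ψ rfl) :=
    fun Q => (isIso_residueFieldMap_iff (CommRingCat.ofHom ψ) Q).mp (h2 Q)
  haveI hAred : IsReduced A := isReduced_of_isSeminormalRing hA
  have hinj : Function.Injective ψ := by
    rw [injective_iff_map_eq_zero]
    intro a ha
    have : a ∈ nilradical A := by
      rw [nilradical_eq_sInf, Ideal.mem_sInf]
      intro p hp
      obtain ⟨Q, hQ⟩ := hbij.2 ⟨p, hp⟩
      have hpQ : p = Q.asIdeal.comap ψ := congrArg PrimeSpectrum.asIdeal hQ.symm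
      rw [hpQ, Ideal.mem_comap, ha]
      exact zero_mem _
    exact IsReduced.eq_zero _ (mem_nilradical.mp this)
  refine ⟨hinj, surjective_of_isIntegral (A := A) (B := B) hA hinj ?_ ?_⟩
  · intro Q Q' hQ hQ' h
    have := hbij.1 (a₁ := ⟨Q, hQ⟩) (a₂ := ⟨Q', hQ'⟩) (PrimeSpectrum.ext h)
    exact congrArg PrimeSpectrum.asIdeal this
  · intro Q hQ b
    haveI := hQ
    haveI : (Q.comap ψ).IsPrime := Ideal.IsPrime.comap ψ
    have hsurj : Function.Surjective (Ideal.ResidueField.map (Q.comap ψ) Q ψ rfl) :=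
      (hresb ⟨Q, hQ⟩).2
    obtain ⟨w, hw⟩ := hsurj (algebraMap B Q.ResidueField b)
    obtain ⟨x, y, hy, rfl⟩ := IsFractionRing.div_surjective (A := A ⧸ (Q.comap ψ)) w
    obtain ⟨a, rfl⟩ := Ideal.Quotient.mk_surjective x
    obtain ⟨s, rfl⟩ := Ideal.Quotient.mk_surjective y
    have hs : s ∉ Q.comap ψ := by
      intro hs
      have : (Ideal.Quotient.mk (Q.comap ψ) s) = 0 := Ideal.Quotient.eq_zero_iff_mem.mpr hs
      exact nonZeroDivisors.ne_zero hy this
    refine ⟨a, s, hs, ?_⟩
    rw [Ideal.algebraMap_quotient_residueField_mk, Ideal.algebraMap_quotient_residueField_mk,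
      map_div₀, Ideal.ResidueField.map_algebraMap, Ideal.ResidueField.map_algebraMap] at hw
    have hs' : algebraMap B Q.ResidueField (ψ s) ≠ 0 := by
      rw [Ne, Ideal.algebraMap_residueField_eq_zero]
      exact hs
    rw [div_eq_iff hs'] at hw
    rw [← Ideal.algebraMap_residueField_eq_zero, map_sub, map_mul]
    show algebraMap B Q.ResidueField (ψ s) * _ - algebraMap B Q.ResidueField (ψ a) = 0
    rw [hw]; ring

section residue

variable {X Y Z : Scheme.{u}}

theorem residueFieldsIso_comp {f : X ⟶ Y} {g : Y ⟶ Z} (hf : HTop.ResidueFieldsIso f)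
    (hg : HTop.ResidueFieldsIso g) : HTop.ResidueFieldsIso (f ≫ g) := by
  intro x
  rw [Scheme.residueFieldMap_comp]
  exact @IsIso.comp_isIso _ _ _ _ _ _ _ (hg _) (hf x)

theorem residueFieldsIso_of_comp {f : X ⟶ Y} {g : Y ⟶ Z} (hg : HTop.ResidueFieldsIso g)
    (hfg : HTop.ResidueFieldsIso (f ≫ g)) : HTop.ResidueFieldsIso f := by
  intro x
  have h := hfg x
  rw [Scheme.residueFieldMap_comp] at h
  exact @IsIso.of_isIso_comp_left _ _ _ _ _ _ _ (hg _) h

theorem residueFieldsIso_of_isOpenImmersion (f : X ⟶ Y) [IsOpenImmersion f] :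
    HTop.ResidueFieldsIso f := fun _ => inferInstance

theorem residueFieldsIso_of_isClosedImmersion (i : X ⟶ Y) [IsClosedImmersion i] :
    HTop.ResidueFieldsIso i := by
  intro y
  rw [ConcreteCategory.isIso_iff_bijective]
  refine ⟨(i.residueFieldMap y).hom.injective, ?_⟩
  intro z
  obtain ⟨s, rfl⟩ := IsLocalRing.residue_surjective (R := X.presheaf.stalk y) z
  obtain ⟨t, rfl⟩ := i.stalkMap_surjective y s
  exact ⟨IsLocalRing.residue _ t, rfl⟩

theorem residueFieldsIso_SpecMap_app (f : X ⟶ Y) [IsAffineHom f] (hf : HTop.ResidueFieldsIso f)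
    (U : Y.Opens) (hU : IsAffineOpen U) : HTop.ResidueFieldsIso (Spec.map (f.app U)) := by
  have hV : IsAffineOpen (f ⁻¹ᵁ U) := hU.preimage f
  have h1 : HTop.ResidueFieldsIso (f ∣_ U) := by
    apply residueFieldsIso_of_comp (g := U.ι) (residueFieldsIso_of_isOpenImmersion _)
    rw [morphismRestrict_ι]
    exact residueFieldsIso_comp (residueFieldsIso_of_isOpenImmersion _) hf
  have e : hV.isoSpec.hom ≫ Spec.map (f.app U) = (f ∣_ U) ≫ hU.isoSpec.hom := by
    simp only [IsAffineOpen.isoSpec_hom]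
    exact Scheme.Opens.toSpecΓ_naturality f U
  have e' : Spec.map (f.app U) = hV.isoSpec.inv ≫ (f ∣_ U) ≫ hU.isoSpec.hom := by
    rw [← e, Iso.inv_hom_id_assoc]
  rw [e']
  exact residueFieldsIso_comp (residueFieldsIso_of_isOpenImmersion _)
    (residueFieldsIso_comp h1 (residueFieldsIso_of_isOpenImmersion _))

end residue

/-- Scheme form of the key lemma: a universal homeomorphism with trivial residue field extensions
from a reduced scheme onto a seminormal scheme is an isomorphism. -/
theorem isIso_of_isReduced {Y X : Scheme.{u}} (π : Y ⟶ X) [IsReduced Y]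
    (hπ : FlatMor.IsUnivHomeo π) (hres : HTop.ResidueFieldsIso π) (hX : HTop.IsSeminormal X) :
    IsIso π := by
  obtain ⟨hint, hinj, hsurj⟩ := (Groth.Agent.S0415.result π).mp hπ
  haveI : IsAffineHom π := inferInstance
  rw [← MorphismProperty.isomorphisms.iff]
  apply IsZariskiLocalAtTarget.of_forall_exists_morphismRestrict
  intro x
  obtain ⟨U, hxU, hUsn⟩ := hX x
  refine ⟨U.1, hxU, ?_⟩
  rw [MorphismProperty.isomorphisms.iff, isIso_morphismRestrict_iff_isIso_app π U.2]
  have h1 := Groth.Agent.Lib.Helper20.PerfSch.isUnivHomeo_SpecMap_app π hπ U.1 U.2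
  have h2 := residueFieldsIso_SpecMap_app π hres U.1 U.2
  have hb := bijective_of_isUnivHomeo (π.app U.1).hom hUsn h1 h2
  exact (ConcreteCategory.isIso_iff_bijective (π.app U.1)).mpr hb

/-- A universal homeomorphism with trivial residue field extensions onto a seminormal scheme
has a section. -/
theorem exists_section {Y X : Scheme.{u}} (π : Y ⟶ X)
    (hπ : FlatMor.IsUnivHomeo π) (hres : HTop.ResidueFieldsIso π) (hX : HTop.IsSeminormal X) :
    ∃ s : X ⟶ Y, s ≫ π = 𝟙 X := by
  let ι := Y.nilradical.subschemeι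
  haveI : Surjective ι := ⟨by
    rw [← Set.range_eq_univ]
    exact Groth.Agent.Lib.Helper6.range_nilradical_subschemeι Y⟩
  have hι : FlatMor.IsUnivHomeo ι :=
    (Groth.Agent.S0415.result ι).mpr ⟨inferInstance, inferInstance, inferInstance⟩
  obtain ⟨hint, hinj, hsurj⟩ := (Groth.Agent.S0415.result π).mp hπ
  have hcomp : FlatMor.IsUnivHomeo (ι ≫ π) :=
    (Groth.Agent.S0415.result (ι ≫ π)).mpr ⟨inferInstance,
      MorphismProperty.comp_mem (W := @UniversallyInjective) _ _ inferInstance hinj,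
      inferInstance⟩
  have hrescomp : HTop.ResidueFieldsIso (ι ≫ π) :=
    residueFieldsIso_comp (residueFieldsIso_of_isClosedImmersion ι) hres
  haveI : IsReduced Y.nilradical.subscheme :=
    Groth.Agent.Lib.Helper6.isReduced_nilradical_subscheme Y
  haveI := isIso_of_isReduced (ι ≫ π) hcomp hrescomp hX
  exact ⟨inv (ι ≫ π) ≫ ι, by rw [Category.assoc, IsIso.inv_hom_id]⟩

end Groth.Agent.Lib.H9SNKey
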