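import Mathlib
import Groth.Prelude.Def_HTop2
import Groth.Prelude.Def_Pi1
import Groth.Agent.Lib.H9SNKeySch
import Groth.Agent.Lib.Helper11SN
import Groth.Agent.S15941

/-!
# Base change of universal homeomorphisms with trivial residue field extensions;
normal schemes are seminormal
-/

set_option autoImplicit false
universe u

namespace Groth.Agent.Lib.H9SNKey

open AlgebraicGeometry CategoryTheory Limits

/-- Every field-valued point of the target lifts to the source. -/
def FieldPointsLift {Y X : Scheme.{u}} (f : Y ⟶ X) : Prop :=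
  ∀ (K : Type u) [Field K] (x : Spec (.of K) ⟶ X), ∃ y : Spec (.of K) ⟶ Y, y ≫ f = x

theorem fieldPointsLift_of_residueFieldsIso {Y X : Scheme.{u}} (f : Y ⟶ X)
    (hs : Function.Surjective f) (hres : HTop.ResidueFieldsIso f) : FieldPointsLift f := by
  intro K _ x
  obtain ⟨y₀, hy₀⟩ := hs (x (IsLocalRing.closedPoint K))
  have hx := Scheme.descResidueField_stalkClosedPointTo_fromSpecResidueField K X x
  set φ := Scheme.descResidueField (Scheme.stalkClosedPointTo x) with hφ
  let φ' : X.residueField (f y₀) ⟶ .of K := (X.residueFieldCongr hy₀).hom ≫ φ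
  have hx' : Spec.map φ' ≫ X.fromSpecResidueField (f y₀) = x := by
    rw [Spec.map_comp, Category.assoc, Scheme.residueFieldCongr_fromSpecResidueField, hx]
  haveI := hres y₀
  refine ⟨Spec.map (inv (f.residueFieldMap y₀) ≫ φ') ≫ Y.fromSpecResidueField y₀, ?_⟩
  rw [Category.assoc, ← Scheme.Hom.SpecMap_residueFieldMap_fromSpecResidueField,
    ← Spec.map_comp_assoc, IsIso.hom_inv_id_assoc, hx']

theorem residueFieldsIso_of_fieldPointsLift {Y X : Scheme.{u}} (f : Y ⟶ X)
    (hi : Function.Injective f) (hl : FieldPointsLift f) : HTop.ResidueFieldsIso f := by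
  intro y₀
  obtain ⟨y, hy⟩ := hl (X.residueField (f y₀)) (X.fromSpecResidueField (f y₀))
  have hpt : y (IsLocalRing.closedPoint (X.residueField (f y₀))) = y₀ := by
    apply hi
    have h0 : (y ≫ f) (IsLocalRing.closedPoint (X.residueField (f y₀))) =
        (X.fromSpecResidueField (f y₀)) (IsLocalRing.closedPoint (X.residueField (f y₀))) := by
      rw [hy]
    rw [Scheme.fromSpecResidueField_apply] at h0
    exact h0
  have hyy := Scheme.descResidueField_stalkClosedPointTo_fromSpecResidueField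
    (X.residueField (f y₀)) Y y
  set ψ₀ := Scheme.descResidueField (Scheme.stalkClosedPointTo y) with hψ₀
  let ψ : Y.residueField y₀ ⟶ X.residueField (f y₀) := (Y.residueFieldCongr hpt.symm).hom ≫ ψ₀
  have hyψ : Spec.map ψ ≫ Y.fromSpecResidueField y₀ = y := by
    rw [Spec.map_comp, Category.assoc, Scheme.residueFieldCongr_fromSpecResidueField, hyy]
  have h1 : Spec.map (f.residueFieldMap y₀ ≫ ψ) ≫ X.fromSpecResidueField (f y₀) =
      Spec.map (𝟙 _) ≫ X.fromSpecResidueField (f y₀) := by
    rw [Spec.map_comp, Category.assoc, Scheme.Hom.SpecMap_residueFieldMap_fromSpecResidueField,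
      ← Category.assoc, hyψ, hy, Spec.map_id, Category.id_comp]
  have h2 : f.residueFieldMap y₀ ≫ ψ = 𝟙 _ :=
    Spec.map_injective ((cancel_mono (X.fromSpecResidueField (f y₀))).mp h1)
  have hψbij : Function.Bijective ψ.hom := by
    refine ⟨ψ.hom.injective, fun z => ⟨(f.residueFieldMap y₀).hom z, ?_⟩⟩
    exact congrArg (fun g => g.hom z) h2
  haveI : IsIso ψ := (ConcreteCategory.isIso_iff_bijective ψ).mpr hψbij
  have h3 : f.residueFieldMap y₀ = inv ψ := by
    rw [← cancel_mono ψ, h2, IsIso.inv_hom_id]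
  rw [h3]
  infer_instance

theorem fieldPointsLift_of_isPullback {Y X Y' X' : Scheme.{u}} {f : Y ⟶ X} {f' : Y' ⟶ X'}
    {g' : Y' ⟶ Y} {g : X' ⟶ X} (sq : IsPullback g' f' f g) (hl : FieldPointsLift f) :
    FieldPointsLift f' := by
  intro K _ x'
  obtain ⟨y, hy⟩ := hl K (x' ≫ g)
  exact ⟨sq.lift y x' hy, sq.lift_snd _ _ _⟩

theorem isUnivHomeo_bijective {Y X : Scheme.{u}} (f : Y ⟶ X) (hf : FlatMor.IsUnivHomeo f) :
    Function.Bijective f :=
  (hf (𝟙 _) (𝟙 _) _ IsPullback.of_id_snd).bijective

/-- Universal homeomorphisms with trivial residue field extensions are stable under base change. -/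
theorem isUnivHomeo_residueFieldsIso_of_isPullback {Y X Y' X' : Scheme.{u}} {f : Y ⟶ X}
    {f' : Y' ⟶ X'} {g' : Y' ⟶ Y} {g : X' ⟶ X} (sq : IsPullback g' f' f g)
    (hf : FlatMor.IsUnivHomeo f) (hres : HTop.ResidueFieldsIso f) :
    FlatMor.IsUnivHomeo f' ∧ HTop.ResidueFieldsIso f' := by
  have h1 : FlatMor.IsUnivHomeo f' := by
    unfold FlatMor.IsUnivHomeo at hf ⊢
    exact MorphismProperty.of_isPullback sq hf
  refine ⟨h1, residueFieldsIso_of_fieldPointsLift f' (isUnivHomeo_bijective f' h1).1 ?_⟩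
  exact fieldPointsLift_of_isPullback sq
    (fieldPointsLift_of_residueFieldsIso f (isUnivHomeo_bijective f hf).2 hres)

section normal

open Groth.Agent.Lib.Helper11

theorem isSeminormalRing_of_ringEquiv {A B : Type u} [CommRing A] [CommRing B] (e : A ≃+* B)
    (h : HTop.IsSeminormalRing A) : HTop.IsSeminormalRing B := by
  intro x y hxy
  obtain ⟨a, ⟨h2, h3⟩, hu⟩ := h (e.symm x) (e.symm y) (by rw [← map_pow, ← map_pow, hxy])
  refine ⟨e a, ⟨by rw [← map_pow, ← h2, e.apply_symm_apply],
    by rw [← map_pow, ← h3, e.apply_symm_apply]⟩, fun b ⟨hb2, hb3⟩ => ?_⟩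
  have := hu (e.symm b) ⟨by rw [← map_pow, ← hb2], by rw [← map_pow, ← hb3]⟩
  rw [← this, e.apply_symm_apply]

/-- Seminormality can be checked at the localizations at maximal ideals. -/
theorem isSeminormalRing_of_localization_maximal (A : Type u) [CommRing A]
    (h : ∀ (m : Ideal A) (_ : m.IsMaximal), HTop.IsSeminormalRing (Localization.AtPrime m)) :
    HTop.IsSeminormalRing A := by
  haveI hred : IsReduced A :=
    isReduced_ofLocalizationMaximal A (fun m hm => isReduced_of_isSeminormalRing (h m hm))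
  have hredm : ∀ (m : Ideal A) (hm : m.IsMaximal), IsReduced (Localization.AtPrime m) :=
    fun m hm => isReduced_of_isSeminormalRing (h m hm)
  rw [isSeminormalRing_iff]
  refine ⟨hred, fun x y hxy => ?_⟩
  have hloc : ∀ (m : Ideal A) (hm : m.IsMaximal), ∃ a : Localization.AtPrime m,
      algebraMap A (Localization.AtPrime m) x = a ^ 2 ∧
      algebraMap A (Localization.AtPrime m) y = a ^ 3 := by
    intro m hm
    obtain ⟨a, ha, -⟩ := h m hm (algebraMap A _ x) (algebraMap A _ y)
      (by rw [← map_pow, ← map_pow, hxy])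
    exact ⟨a, ha⟩
  choose a ha2 ha3 using hloc
  let I : Ideal A :=
    { carrier := {s | ∃ β : A, ∀ (m : Ideal A) (hm : m.IsMaximal),
        algebraMap A (Localization.AtPrime m) s * a m hm = algebraMap A _ β}
      zero_mem' := ⟨0, fun m hm => by rw [map_zero, zero_mul]⟩
      add_mem' := by
        rintro s s' ⟨β, hβ⟩ ⟨β', hβ'⟩
        exact ⟨β + β', fun m hm => by rw [map_add, add_mul, hβ m hm, hβ' m hm, map_add]⟩
      smul_mem' := by
        rintro c s ⟨β, hβ⟩
        exact ⟨c * β, fun m hm => by rw [smul_eq_mul, map_mul, mul_assoc, hβ m hm, map_mul]⟩ }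
  have hI : I = ⊤ := by
    by_contra hne
    obtain ⟨m, hm, hIm⟩ := Ideal.exists_le_maximal I hne
    obtain ⟨⟨α, s⟩, hαs⟩ := IsLocalization.mk'_surjective m.primeCompl (a m hm)
    have hspec : a m hm * algebraMap A _ (s : A) = algebraMap A _ α := by
      rw [← hαs]; exact IsLocalization.mk'_spec _ _ _
    have e2 : algebraMap A (Localization.AtPrime m) ((s : A) ^ 2 * x) =
        algebraMap A (Localization.AtPrime m) (α ^ 2) := by
      rw [map_mul, map_pow, map_pow, ha2 m hm, ← hspec]; ring
    have e3 : algebraMap A (Localization.AtPrime m) ((s : A) ^ 3 * y) =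
        algebraMap A (Localization.AtPrime m) (α ^ 3) := by
      rw [map_mul, map_pow, map_pow, ha3 m hm, ← hspec]; ring
    obtain ⟨t₁, ht₁⟩ := (IsLocalization.eq_iff_exists m.primeCompl _).mp e2
    obtain ⟨t₂, ht₂⟩ := (IsLocalization.eq_iff_exists m.primeCompl _).mp e3
    set t : A := (t₁ : A) * (t₂ : A) with ht
    have hf : t * (s : A) ∈ I := by
      refine ⟨t * α, fun n hn => ?_⟩
      haveI := hredm n hn
      apply eq_of_sq_eq_of_cube_eq
      · have : (algebraMap A (Localization.AtPrime n) (t * (s : A)) * a n hn) ^ 2 =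
            algebraMap A (Localization.AtPrime n) ((t * (s : A)) ^ 2 * x) := by
          rw [map_mul _ _ x, ha2 n hn, map_pow]; ring
        rw [this, ← map_pow]
        congr 1
        have : (t * (s : A)) ^ 2 * x = t * (t₂ : A) * ((t₁ : A) * ((s : A) ^ 2 * x)) := by
          rw [ht]; ring
        rw [this, ht₁, ht]; ring
      · have : (algebraMap A (Localization.AtPrime n) (t * (s : A)) * a n hn) ^ 3 =
            algebraMap A (Localization.AtPrime n) ((t * (s : A)) ^ 3 * y) := by
          rw [map_mul _ _ y, ha3 n hn, map_pow]; ring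
        rw [this, ← map_pow]
        congr 1
        have : (t * (s : A)) ^ 3 * y = t ^ 2 * (t₁ : A) * ((t₂ : A) * ((s : A) ^ 3 * y)) := by
          rw [ht]; ring
        rw [this, ht₂, ht]; ring
    have hmem := hIm hf
    have hprime := hm.isPrime
    rcases hprime.mem_or_mem hmem with h1 | h1
    · rcases hprime.mem_or_mem h1 with h2 | h2
      · exact t₁.2 h2
      · exact t₂.2 h2
    · exact s.2 h1
  have h1 : (1 : A) ∈ I := by rw [hI]; trivial
  obtain ⟨β, hβ⟩ := h1
  refine ⟨β, ?_, ?_⟩
  · rw [← sub_eq_zero]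
    apply eq_zero_of_localization
    intro m hm
    rw [map_sub, map_pow, ← hβ m hm, map_one, one_mul, ha2 m hm, sub_self]
  · rw [← sub_eq_zero]
    apply eq_zero_of_localization
    intro m hm
    rw [map_sub, map_pow, ← hβ m hm, map_one, one_mul, ha3 m hm, sub_self]

/-- A normal scheme is seminormal. -/
theorem isSeminormal_of_isNormalScheme (X : Scheme.{u}) (hX : Pi1.IsNormalScheme X) :
    HTop.IsSeminormal X := by
  intro x
  obtain ⟨_, ⟨U, hU, rfl⟩, hxU, -⟩ :=
    X.isBasis_affineOpens.exists_subset_of_mem_open (Set.mem_univ x) isOpen_univ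
  refine ⟨⟨U, hU⟩, hxU, ?_⟩
  apply isSeminormalRing_of_localization_maximal
  intro m hm
  haveI := hm.isPrime
  letI : Algebra Γ(X, U) (X.presheaf.stalk (hU.fromSpec ⟨m, hm.isPrime⟩)) :=
    TopCat.Presheaf.algebra_section_stalk X.presheaf _
  haveI : IsLocalization.AtPrime (X.presheaf.stalk (hU.fromSpec ⟨m, hm.isPrime⟩)) m :=
    hU.isLocalization_stalk' ⟨m, hm.isPrime⟩ (hU.isoSpec.inv _).2
  obtain ⟨hdom, hic⟩ := hX (hU.fromSpec ⟨m, hm.isPrime⟩)
  have hsn : HTop.IsSeminormalRing (X.presheaf.stalk (hU.fromSpec ⟨m, hm.isPrime⟩)) :=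
    Groth.Agent.S15941.result _
  exact isSeminormalRing_of_ringEquiv
    (IsLocalization.algEquiv m.primeCompl (X.presheaf.stalk (hU.fromSpec ⟨m, hm.isPrime⟩))
      (Localization.AtPrime m)).toRingEquiv hsn

end normal

end Groth.Agent.Lib.H9SNKey
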