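import Mathlib
import Groth.Agent.Lib.H9SNBase
import Groth.Agent.S7420
import Groth.Agent.S7421

set_option autoImplicit false
universe u

namespace Groth.Agent.Lib.H9SNKey

open AlgebraicGeometry CategoryTheory Limits

theorem isSeminormal_of_isOpenImmersion {W X : Scheme.{u}} (j : W ⟶ X) [IsOpenImmersion j]
    (hX : HTop.IsSeminormal X) : HTop.IsSeminormal W := by
  have hall := (Groth.Agent.S7420.result X).1.mp hX
  intro w
  obtain ⟨_, ⟨V, hV, rfl⟩, hwV, -⟩ :=
    W.isBasis_affineOpens.exists_subset_of_mem_open (Set.mem_univ w) isOpen_univ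
  refine ⟨⟨V, hV⟩, hwV, ?_⟩
  have hjV : IsAffineOpen (j ''ᵁ V) := hV.image_of_isOpenImmersion j
  exact isSeminormalRing_of_ringEquiv (j.appIso V).commRingCatIsoToRingEquiv
    (hall ⟨j ''ᵁ V, hjV⟩)

/-- If `π : Y ⟶ T` is a universal homeomorphism with trivial residue field extensions and `W` is a
seminormal scheme over `T`, then there is a unique `T`-morphism `W ⟶ Y`. -/
theorem existsUnique_lift {Y T W : Scheme.{u}} (π : Y ⟶ T) (hπ : FlatMor.IsUnivHomeo π)
    (hres : HTop.ResidueFieldsIso π) (hW : HTop.IsSeminormal W) (μ : W ⟶ T) :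
    ∃! h : W ⟶ Y, h ≫ π = μ := by
  have sq : IsPullback (pullback.snd μ π) (pullback.fst μ π) π μ :=
    (IsPullback.of_hasPullback μ π).flip
  obtain ⟨h1', h2'⟩ := isUnivHomeo_residueFieldsIso_of_isPullback sq hπ hres
  obtain ⟨σ, hσ⟩ := exists_section (pullback.fst μ π) h1' h2' hW
  have hex : (σ ≫ pullback.snd μ π) ≫ π = μ := by
    rw [Category.assoc, ← pullback.condition, ← Category.assoc, hσ, Category.id_comp]
  refine ⟨σ ≫ pullback.snd μ π, hex, fun h' hh' => ?_⟩
  obtain ⟨hint, hinj, hsurj⟩ := (Groth.Agent.S0415.result π).mp hπ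
  haveI : IsReduced W := (Groth.Agent.S7421.result).2 W hW
  have hK := ((tfae_universallyInjective π).out 0 1).mp hinj
  refine ext_of_fromSpecResidueField_eq h' (σ ≫ pullback.snd μ π) π Set.univ dense_univ
    (fun w _ => ?_) (hh'.trans hex.symm)
  apply hK (W.residueField w)
  show (W.fromSpecResidueField w ≫ h') ≫ π = (W.fromSpecResidueField w ≫ σ ≫ pullback.snd μ π) ≫ π
  rw [Category.assoc, Category.assoc, hh', hex]

end Groth.Agent.Lib.H9SNKey
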