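import Mathlib
import Groth.Agent.Lib.H9SNOpen

set_option autoImplicit false
universe u

namespace Groth.Agent.Lib.H9SNKey

open AlgebraicGeometry CategoryTheory Limits

theorem finite_of_comp_injective {A B C : Type*} [CommRing A] [CommRing B] [CommRing C]
    [IsNoetherianRing A] (φ : A →+* B) (ψ : B →+* C) (hψ : Function.Injective ψ)
    (h : (ψ.comp φ).Finite) : φ.Finite := by
  letI := φ.toAlgebra
  letI := (ψ.comp φ).toAlgebra
  let ψl : B →ₗ[A] C :=
    { toFun := ψ
      map_add' := map_add ψ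
      map_smul' := fun a b => by
        simp only [Algebra.smul_def, RingHom.algebraMap_toAlgebra, map_mul, RingHom.id_apply]
        rfl }
  haveI : Module.Finite A C := h
  haveI : IsNoetherian A C := isNoetherian_of_isNoetherianRing_of_finite A C
  exact Module.Finite.of_injective ψl hψ

theorem main15963 {S Sn X' : Scheme.{u}}
    [IsNoetherian S] [IsReduced S]
    (π : Sn ⟶ S) [IsIntegralHom π]
    (hbir : ∃ U : S.Opens, Dense (U : Set S) ∧ Dense ((π ⁻¹ᵁ U : Sn.Opens) : Set Sn) ∧ IsIso (π ∣_ U))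
    (ν : X' ⟶ S) (hν : HTop.IsSeminormalization ν) (hX' : HTop.IsSeminormal X')
    (g : Sn ⟶ X') (hg : g ≫ ν = π) :
    (IsSchemeTheoreticallyDominant ν ∧ IsSchemeTheoreticallyDominant g) ∧
      (IsFinite π → IsFinite ν ∧ IsFinite g) := by
  obtain ⟨⟨h1, h2⟩, -⟩ := hν
  obtain ⟨hint, hinj, hsurj⟩ := (Groth.Agent.S0415.result ν).mp h1
  haveI : IsReduced X' := (Groth.Agent.S7421.result).2 X' hX'
  have hhomeo : IsHomeomorph ν := h1 (𝟙 _) (𝟙 _) _ IsPullback.of_id_snd
  -- π is dominant
  have hπdom : DenseRange π := by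
    obtain ⟨U, hUd, -, hiso⟩ := hbir
    refine hUd.mono ?_
    intro u hu
    obtain ⟨w, hw⟩ := (ConcreteCategory.bijective_of_isIso (π ∣_ U).base).2 ⟨u, hu⟩
    refine ⟨w.1, ?_⟩
    rw [← morphismRestrict_base_coe]
    exact congrArg Subtype.val hw
  have hgdom : DenseRange g := by
    rw [DenseRange, dense_iff_closure_eq]
    have hcl : IsClosed (ν '' closure (Set.range g)) := hhomeo.isClosedMap _ isClosed_closure
    have hsub : Set.range π ⊆ ν '' closure (Set.range g) := by
      rintro _ ⟨z, rfl⟩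
      refine ⟨g z, subset_closure ⟨z, rfl⟩, ?_⟩
      rw [← hg]; rfl
    have huniv : ν '' closure (Set.range g) = Set.univ := by
      rw [← Set.univ_subset_iff, ← hπdom.closure_eq]
      exact closure_minimal hsub hcl
    ext x
    simp only [Set.mem_univ, iff_true]
    have : ν x ∈ ν '' closure (Set.range g) := by rw [huniv]; trivial
    obtain ⟨x', hx', hxx'⟩ := this
    rwa [← hhomeo.injective hxx']
  haveI : IsDominant ν := ⟨hsurj.surj.denseRange⟩
  haveI : IsDominant g := ⟨hgdom⟩
  haveI hstdν : IsSchemeTheoreticallyDominant ν := IsSchemeTheoreticallyDominant.of_isDominant ν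
  haveI hstdg : IsSchemeTheoreticallyDominant g := IsSchemeTheoreticallyDominant.of_isDominant g
  refine ⟨⟨hstdν, hstdg⟩, fun hfin => ?_⟩
  subst hg
  haveI : IsFinite g := IsFinite.of_comp g ν
  refine ⟨?_, inferInstance⟩
  refine { toIsAffineHom := inferInstance, finite_app := fun U hU => ?_ }
  haveI : IsNoetherianRing Γ(S, U) := IsLocallyNoetherian.component_noetherian ⟨U, hU⟩
  have hfU : ((g ≫ ν).app U).hom.Finite := IsFinite.finite_app (g ≫ ν) U hU
  have hfU' : ((g.app (ν ⁻¹ᵁ U)).hom.comp (ν.app U).hom).Finite := hfU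
  exact finite_of_comp_injective (ν.app U).hom (g.app (ν ⁻¹ᵁ U)).hom
    (g.app_injective (ν ⁻¹ᵁ U)) hfU'

end Groth.Agent.Lib.H9SNKey
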