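import Mathlib
import Groth.Agent.Lib.H9SNOpen

set_option autoImplicit false
universe u

namespace Groth.Agent.Lib.H9SNKey

open AlgebraicGeometry CategoryTheory Limits

/-- A proper universally injective morphism all of whose target points lift (with their residue
fields) is a universal homeomorphism with trivial residue field extensions. -/
theorem isUnivHomeo_residueFieldsIso_of_pointwise_lift {P T : Scheme.{u}} (q : P ⟶ T)
    [UniversallyClosed q] [UniversallyInjective q]
    (hl : ∀ t : T, ∃ l : Spec (T.residueField t) ⟶ P, l ≫ q = T.fromSpecResidueField t) :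
    FlatMor.IsUnivHomeo q ∧ HTop.ResidueFieldsIso q := by
  have hlift : FieldPointsLift q := by
    intro K _ x
    obtain ⟨l, hl'⟩ := hl (x (IsLocalRing.closedPoint K))
    have hx := Scheme.descResidueField_stalkClosedPointTo_fromSpecResidueField K T x
    refine ⟨Spec.map (Scheme.descResidueField (Scheme.stalkClosedPointTo x)) ≫ l, ?_⟩
    rw [Category.assoc, hl', hx]
  haveI : Surjective q := ⟨by
    intro t
    obtain ⟨l, hl'⟩ := hl t
    refine ⟨l (IsLocalRing.closedPoint (T.residueField t)), ?_⟩
    rw [← Scheme.Hom.comp_apply, hl', Scheme.fromSpecResidueField_apply]⟩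
  exact ⟨Groth.Agent.Lib.Helper20.EtaPt.isUnivHomeo_of q,
    residueFieldsIso_of_fieldPointsLift q q.injective hlift⟩

end Groth.Agent.Lib.H9SNKey
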