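import Mathlib
import Groth.Prelude
import Groth.Agent.Lib.R2H1MultCM
import Groth.Agent.Lib.Helper13KzSamuel
import Groth.Agent.Lib.Helper5Mult
import Groth.Agent.Lib.Helper5SuppDim

set_option autoImplicit false
set_option linter.style.haveILetI false
set_option linter.unusedSectionVars false
set_option linter.unusedVariables false
universe u

open IsLocalRing Module RingTheory.Sequence Groth.Agent.Helper13Kz Pointwise Filter
open Groth.Agent.Lib.R2H1.MultOne Groth.Agent.Lib.R2H1.IntMultCartier Groth.Agent.Lib.R2H1.MultCM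

namespace Groth.Agent.Lib.H9Samuel1874

theorem sup_pow_le {A : Type u} [CommRing A] (P Q : Ideal A) (t : ℕ) : (Q ⊔ P) ^ t ≤ Q ⊔ P ^ t := by
  induction t with
  | zero => simp
  | succ t ih =>
    rw [pow_succ]
    refine (Ideal.mul_mono_left ih).trans ?_
    rw [Ideal.sup_mul, Ideal.mul_sup, Ideal.mul_sup]
    refine sup_le (sup_le ?_ ?_) (sup_le ?_ ?_)
    · exact Ideal.mul_le_right.trans le_sup_left
    · exact Ideal.mul_le_left.trans le_sup_left
    · exact Ideal.mul_le_right.trans le_sup_left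
    · rw [← pow_succ]; exact le_sup_right


/-- in `A/Q`, `(Q ⊔ P)^t • ⊤ = P^t • ⊤` -/
theorem sup_pow_smul_top {A : Type u} [CommRing A] (P Q : Ideal A) (t : ℕ) :
    ((Q ⊔ P) ^ t • ⊤ : Submodule A (A ⧸ Q)) = (P ^ t • ⊤ : Submodule A (A ⧸ Q)) := by
  apply le_antisymm
  · refine (Submodule.smul_mono_left (sup_pow_le P Q t)).trans ?_
    rw [Submodule.sup_smul]
    refine sup_le ?_ le_rfl
    rw [Submodule.smul_le]
    intro r hr x _
    obtain ⟨y, rfl⟩ := Ideal.Quotient.mk_surjective x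
    have : r • (Ideal.Quotient.mk Q y) = 0 := by
      rw [← Ideal.Quotient.mk_eq_mk, ← Submodule.Quotient.mk_smul, Submodule.Quotient.mk_eq_zero]
      exact Q.mul_mem_right _ hr
    rw [this]
    exact Submodule.zero_mem _
  · exact Submodule.smul_mono_left (Ideal.pow_right_mono le_sup_right t)

theorem samuel_limit (A : Type u) [CommRing A] [IsLocalRing A] [IsNoetherianRing A]
    (Q : Ideal A) (c : ℕ) (g : Fin c → A) (hreg : IsRegular A (List.ofFn g))
    (hne : Q ⊔ Ideal.span (Set.range g) ≠ ⊤)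
    (hprime : ∀ (p : Ideal A) [p.IsPrime], Q ⊔ Ideal.span (Set.range g) ≤ p → p = maximalIdeal A)
    (hdimQ : (c : WithBot ℕ∞) ≤ ringKrullDim (A ⧸ Q)) :
    Tendsto (fun t : ℕ => (c.factorial : ℝ) *
      ((Module.length A (A ⧸ (Q ⊔ Ideal.span (Set.range g) ^ t))).toNat : ℝ) / (t : ℝ) ^ c) atTop
      (nhds (IntMult.chi A (A ⧸ Q) (A ⧸ Ideal.span (Set.range g)) : ℝ)) ∧
    0 < IntMult.chi A (A ⧸ Q) (A ⧸ Ideal.span (Set.range g)) := by
  have hdim0 : ringKrullDim (A ⧸ (Q ⊔ Ideal.span (Set.range g))) = 0 :=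
    ringKrullDim_quotient_eq_zero _ hne hprime
  rw [← ofList_ofFn] at hdim0 hne hprime ⊢
  set l := List.ofFn g with hl
  have hlen : l.length = c := List.length_ofFn
  have hne' : Ideal.ofList l ≠ ⊤ := by
    intro htop
    apply hreg.top_ne_smul
    rw [htop, Submodule.top_smul]
  have hlm : ∀ x ∈ l, x ∈ maximalIdeal A := by
    intro x hx
    exact IsLocalRing.le_maximalIdeal hne' (Ideal.subset_span hx)
  -- finite length of the quotient
  have h0 : Module.supportDim A ((A ⧸ Q) ⧸ (Ideal.ofList l • ⊤ : Submodule A (A ⧸ Q))) = 0 := by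
    rw [Module.supportDim_eq_of_equiv (quotSmulTopEquiv Q (Ideal.ofList l)),
      Module.supportDim_quotient_eq_ringKrullDim, hdim0]
  have hfl : IsFiniteLength A ((A ⧸ Q) ⧸ (Ideal.ofList l • ⊤ : Submodule A (A ⧸ Q))) :=
    Groth.Agent.Lib.Helper5.isFiniteLength_of_supportDim_le_zero h0.le
  have hFLI : FLI (Ideal.span {a | a ∈ l}) (A ⧸ Q) := FLI.of_isFiniteLength hfl
  -- the dimension of A/Q is c
  have hdimeq : Module.supportDim A (A ⧸ Q) = c := by
    have h1 := Groth.Agent.Lib.Helper28.supportDim_le_supportDim_quot_ofList_add_length_local l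
      (A ⧸ Q) hlm
    rw [h0, zero_add, hlen] at h1
    rw [Module.supportDim_quotient_eq_ringKrullDim] at h1 ⊢
    exact le_antisymm h1 hdimQ
  -- Serre's theorem
  have hT := tendsto_seq_chi l hlm (A ⧸ Q) hFLI
  have hchi : (chi l (A ⧸ Q) : ℤ) = IntMult.chi A (A ⧸ Q) (A ⧸ Ideal.ofList l) := by
    rw [chi_symm, intMult_chi_eq_chi l hreg.toIsWeaklyRegular (A ⧸ Q)]
  rw [hchi] at hT
  have hseq : ∀ t : ℕ, seq l (A ⧸ Q) t = (c.factorial : ℝ) *
      ((Module.length A (A ⧸ (Q ⊔ Ideal.ofList l ^ t))).toNat : ℝ) / (t : ℝ) ^ c := by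
    intro t
    unfold Groth.Agent.Helper13Kz.seq
    rw [hlen]
    congr 4
    exact (quotSmulTopEquiv Q (Ideal.ofList l ^ t)).length_eq
  have hT' : Tendsto (fun t : ℕ => (c.factorial : ℝ) *
      ((Module.length A (A ⧸ (Q ⊔ Ideal.ofList l ^ t))).toNat : ℝ) / (t : ℝ) ^ c) atTop
      (nhds (IntMult.chi A (A ⧸ Q) (A ⧸ Ideal.ofList l) : ℝ)) :=
    hT.congr hseq
  refine ⟨hT', ?_⟩
  -- positivity from the Samuel multiplicity
  have ha : Q ⊔ Ideal.ofList l ≤ maximalIdeal A := IsLocalRing.le_maximalIdeal hne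
  have ha' : ∃ N : ℕ, maximalIdeal A ^ N ≤ Q ⊔ Ideal.ofList l := by
    apply Ideal.exists_pow_le_of_le_radical_of_fg _ (IsNoetherian.noetherian _)
    rw [Ideal.radical_eq_sInf]
    refine le_sInf ?_
    rintro p ⟨hp1, hp2⟩
    haveI := hp2
    rw [hprime p hp1]
  obtain ⟨c0, hc0, -, hc1⟩ := Groth.Agent.Lib.Helper5.Mult.exists_mult A (Q ⊔ Ideal.ofList l) ha ha'
    (A ⧸ Q) c hdimeq.le
  have hc0' : Tendsto (seq l (A ⧸ Q)) atTop (nhds (c0 : ℝ)) := by
    refine hc0.congr (fun t => ?_)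
    unfold Groth.Agent.Helper13Kz.seq
    rw [hlen, sup_pow_smul_top]
  have huniq := tendsto_nhds_unique hT hc0'
  have h1 : 1 ≤ c0 := hc1 hdimeq
  have : (IntMult.chi A (A ⧸ Q) (A ⧸ Ideal.ofList l) : ℤ) = c0 := by exact_mod_cast huniq
  rw [this]
  omega

section Geom

open CategoryTheory AlgebraicGeometry TopologicalSpace
open Groth.Agent.Lib.Helper5

theorem main1874 (K : Type u) [Field K] (X : Scheme.{u})
    (f : X ⟶ Spec (CommRingCat.of K)) [Smooth f] [IsIntegral X]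
    (IV IW : X.IdealSheafData) [IsIntegral IV.subscheme] [IsIntegral IW.subscheme] (n r s : ℕ)
    (hn : topologicalKrullDim X = n) (hr : topologicalKrullDim IV.support = r)
    (hs : topologicalKrullDim IW.support = s)
    (hprop : IntMult.ProperInt (IV.support : Set X) (IW.support : Set X) n r s) (ξ : X)
    (hξV : ξ ∈ IV.support) (hξW : ξ ∈ IW.support)
    (hmax : ∀ ξ' : X, ξ' ∈ IV.support → ξ' ∈ IW.support → ξ' ⤳ ξ → ξ' = ξ)
    (c : ℕ) (g : Fin c → ↑(X.presheaf.stalk ξ))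
    (hg : IntMult.stalkIdeal IV ξ = Ideal.span (Set.range g))
    (hreg : RingTheory.Sequence.IsRegular (↑(X.presheaf.stalk ξ)) (List.ofFn g)) :
    Filter.Tendsto (fun t : ℕ => (c.factorial : ℝ) *
      ((Module.length (X.presheaf.stalk ξ) (↑(X.presheaf.stalk ξ) ⧸
        (IntMult.stalkIdeal IW ξ ⊔ IntMult.stalkIdeal IV ξ ^ t))).toNat : ℝ) / (t : ℝ) ^ c)
      Filter.atTop (nhds (IntMult.mult IV IW ξ : ℝ)) ∧ 0 < IntMult.mult IV IW ξ := by
  haveI : IsRegularLocalRing (X.presheaf.stalk ξ) :=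
    Groth.Agent.Lib.Helper6.SmRegSch.isRegularLocalRing_stalk_of_smooth_over_field K X f ξ
  obtain ⟨a, b, c', e, ha, hb, hc, hae, hrb, hsc, hle, hnrs⟩ :=
    dims K X f IV IW n r s hn hr hs hprop ξ hξV hξW
  have hreg2 := ringKrullDim_add_length_eq_ringKrullDim_of_isRegular (List.ofFn g) hreg
  rw [ofList_ofFn, ← hg, hb, ha, List.length_ofFn] at hreg2
  have hbc : b + c = a := by exact_mod_cast hreg2
  have hdimQ : (c : WithBot ℕ∞) ≤
      ringKrullDim (↑(X.presheaf.stalk ξ) ⧸ IntMult.stalkIdeal IW ξ) := by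
    rw [hc]
    have : c ≤ c' := by omega
    exact_mod_cast this
  have hne : IntMult.stalkIdeal IW ξ ⊔ IntMult.stalkIdeal IV ξ ≠ ⊤ := by
    intro htop
    have h1 := (mem_support_iff_stalkIdeal_le IV ξ ξ specializes_rfl).mp hξV
    have h2 := (mem_support_iff_stalkIdeal_le IW ξ ξ specializes_rfl).mp hξW
    have h3 : (⊤ : Ideal (X.presheaf.stalk ξ)) ≤ RingHom.ker (Cyc.specMap ξ ξ specializes_rfl) := by
      rw [← htop]; exact sup_le h2 h1
    exact (RingHom.ker_ne_top _) (top_le_iff.mp h3)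
  have hprime : ∀ (p : Ideal (X.presheaf.stalk ξ)) [p.IsPrime],
      IntMult.stalkIdeal IW ξ ⊔ IntMult.stalkIdeal IV ξ ≤ p →
        p = maximalIdeal (X.presheaf.stalk ξ) :=
    fun p _ hp => eq_maximalIdeal_of_le IV IW ξ hmax p hp
  unfold IntMult.mult
  rw [hg] at hne hprime ⊢
  exact samuel_limit _ _ c g hreg hne hprime hdimQ

end Geom

end Groth.Agent.Lib.H9Samuel1874
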