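import Groth.Agent.Lib.H9SchDom1
import Groth.Prelude.Def_Magnet2
import Groth.Agent.Lib.Helper8GeomQuotSep

/-! `dominant_whiskerRight`: for injective `f : N →+ M`, `A(M)_S × T → A(N)_S × T` is scheme-theoretically dominant (diagonalizable monoid schemes of the Magnet prelude) (helper9). -/

set_option autoImplicit false
universe u

open CategoryTheory CategoryTheory.Limits AlgebraicGeometry TensorProduct

namespace Groth.Agent.Lib.H9SchDom2

section Algebra

variable (R : Type u) [CommRing R] {M' N' : Type} [CommMonoid M'] [CommMonoid N']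

/-- retraction of `R[N'] → R[M']` for injective `g : N' → M'`. -/
noncomputable def retr (g : N' →* M') (hg : Function.Injective g) :
    MonoidAlgebra R M' →ₗ[R] MonoidAlgebra R N' where
  toFun x := MonoidAlgebra.ofCoeff (Finsupp.lcomapDomain (R := R) g hg x.coeff)
  map_add' x y := by
    rw [MonoidAlgebra.coeff_add, map_add, MonoidAlgebra.ofCoeff_add]
  map_smul' c x := by
    rw [MonoidAlgebra.coeff_smul, map_smul, MonoidAlgebra.ofCoeff_smul]
    rfl

lemma retr_map (g : N' →* M') (hg : Function.Injective g) (x : MonoidAlgebra R N') :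
    retr R g hg ((MonoidAlgebra.mapDomainBialgHom R g : MonoidAlgebra R N' →ₐ[R] MonoidAlgebra R M') x) = x := by
  change MonoidAlgebra.ofCoeff (Finsupp.comapDomain g (Finsupp.mapDomain g x.coeff) hg.injOn) = x
  rw [Finsupp.comapDomain_mapDomain g hg]

end Algebra

section Geometry

open MonoidalCategory CartesianMonoidalCategory Magnet Groth.Agent.Lib.H9SchDom1

variable (S : Scheme.{u}) {M N : Type} [AddCommMonoid M] [AddCommMonoid N]

/-- For an injective monoid map `f : N →+ M` and any `T`, the morphism `A(M)_S × T ⟶ A(N)_S × T` is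
scheme-theoretically dominant. -/
theorem dominant_whiskerRight (f : N →+ M) (hf : Function.Injective f) (T : Over S) :
    IsSchemeTheoreticallyDominant ((AMonS.map S f) ▷ T).left := by
  let s : S ⟶ Spec (CommRingCat.of (ULift.{u} ℤ)) := Limits.IsTerminal.from specULiftZIsTerminal S
  let g : AMonS S M ⟶ AMonS S N := AMonS.map S f
  let fm : Multiplicative N →* Multiplicative M := AddMonoidHom.toMultiplicative f
  have hfm : Function.Injective fm := hf
  let φ : MonoidAlgebra (ULift.{u} ℤ) (Multiplicative N) →ₐ[ULift.{u} ℤ]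
      MonoidAlgebra (ULift.{u} ℤ) (Multiplicative M) := (MonoidAlgebra.mapDomainBialgHom (ULift.{u} ℤ) fm)
  let aM : Spec (CommRingCat.of (MonoidAlgebra (ULift.{u} ℤ) (Multiplicative M))) ⟶
      Spec (CommRingCat.of (ULift.{u} ℤ)) := (AMon (ULift.{u} ℤ) M).hom
  let aN : Spec (CommRingCat.of (MonoidAlgebra (ULift.{u} ℤ) (Multiplicative N))) ⟶
      Spec (CommRingCat.of (ULift.{u} ℤ)) := (AMon (ULift.{u} ℤ) N).hom
  have haMN : Spec.map (CommRingCat.ofHom φ.toRingHom) ≫ aN = aM := Over.w (AMon.map (ULift.{u} ℤ) f)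
  -- square 2
  have hmid : g.left ≫ pullback.fst aN s = pullback.fst aM s ≫ Spec.map (CommRingCat.ofHom φ.toRingHom) := by
    change pullback.lift _ _ _ ≫ pullback.fst aN s = _
    exact (pullback.lift_fst _ _ _).trans rfl
  have hout : IsPullback (g.left ≫ pullback.snd aN s) (pullback.fst aM s) s
      (Spec.map (CommRingCat.ofHom φ.toRingHom) ≫ aN) := by
    have e : g.left ≫ pullback.snd aN s = pullback.snd aM s := Over.w g
    rw [e, haMN]
    exact (IsPullback.of_hasPullback aM s).flip
  have sq2 : IsPullback g.left (pullback.fst aM s) (pullback.fst aN s)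
      (Spec.map (CommRingCat.ofHom φ.toRingHom)) :=
    IsPullback.of_right hout hmid (IsPullback.of_hasPullback aN s).flip
  have sq1 := Groth.Agent.Lib.Helper8GeomQuotSep.isPullback_whiskerRight g T
  have hP : IsPullback ((fst (AMonS S M) T).left ≫ pullback.fst aM s) (g ▷ T).left
      (Spec.map (CommRingCat.ofHom φ.toRingHom)) ((fst (AMonS S N) T).left ≫ pullback.fst aN s) :=
    sq1.flip.paste_horiz sq2.flip
  have sqA : IsPullback (fst (AMonS S N) T).left (snd (AMonS S N) T).left (AMonS S N).hom T.hom :=
    IsPullback.of_hasPullback (AMonS S N).hom T.hom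
  have hQ : IsPullback ((fst (AMonS S N) T).left ≫ pullback.fst aN s) (snd (AMonS S N) T).left
      aN (T.hom ≫ s) :=
    sqA.paste_horiz (IsPullback.of_hasPullback aN s)
  exact dominant_general φ (retr (ULift.{u} ℤ) fm hfm) (retr_map (ULift.{u} ℤ) fm hfm)
    (T.hom ≫ s) _ _ hQ _ _ hP

end Geometry

end Groth.Agent.Lib.H9SchDom2
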