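import Mathlib
import Groth.Agent.Lib.Helper26SmoothLift

/-! Sections of a smooth scheme over a strictly henselian DVR are dense in the special fibre (S11108):
`exists_retraction` (smooth algebra over a henselian local ring with algebraically closed residue
field and a prime over the maximal ideal has an `R`-algebra retraction), `main` (helper9). -/

set_option autoImplicit false
universe u

open AlgebraicGeometry CategoryTheory IsLocalRing

namespace Groth.Agent.Lib.H9SecDense

/-- Ring form: a smooth algebra over a henselian local ring with algebraically closed residue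
field, having a prime lying over the maximal ideal, admits a retraction. -/
theorem exists_retraction (R B : Type u) [CommRing R] [HenselianLocalRing R]
    [IsAlgClosed (ResidueField R)] [CommRing B] [Algebra R B] [Algebra.Smooth R B]
    (q : Ideal B) [q.IsPrime] (hq : q.comap (algebraMap R B) = maximalIdeal R) :
    ∃ τ : B →ₐ[R] R, True := by
  classical
  obtain ⟨n, hn, hqn⟩ := Ideal.exists_le_maximal q (Ideal.IsPrime.ne_top ‹_›)
  haveI := hn
  letI : Field (B ⧸ n) := Ideal.Quotient.field n
  -- the residue field of `R` maps to `B ⧸ n`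
  have hker : maximalIdeal R ≤ RingHom.ker ((Ideal.Quotient.mk n).comp (algebraMap R B)) := by
    intro r hr
    rw [RingHom.mem_ker, RingHom.comp_apply, Ideal.Quotient.eq_zero_iff_mem]
    apply hqn
    have : r ∈ q.comap (algebraMap R B) := hq ▸ hr
    exact this
  let ι : ResidueField R →+* B ⧸ n :=
    Ideal.Quotient.lift (maximalIdeal R) ((Ideal.Quotient.mk n).comp (algebraMap R B)) hker
  have hι : ∀ r : R, ι (Ideal.Quotient.mk (maximalIdeal R) r) =
      (Ideal.Quotient.mk n) (algebraMap R B r) := fun r =>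
    Ideal.Quotient.lift_mk (maximalIdeal R) ((Ideal.Quotient.mk n).comp (algebraMap R B)) hker
  letI : Algebra (ResidueField R) (B ⧸ n) := ι.toAlgebra
  haveI : IsScalarTower R (ResidueField R) (B ⧸ n) :=
    IsScalarTower.of_algebraMap_eq fun r => by
      change (Ideal.Quotient.mk n) (algebraMap R B r) = ι (Ideal.Quotient.mk _ r)
      exact (hι r).symm
  haveI : Algebra.FiniteType R B := inferInstance
  haveI : Algebra.FiniteType R (B ⧸ n) :=
    Algebra.FiniteType.of_surjective (Ideal.Quotient.mkₐ R n) Ideal.Quotient.mk_surjective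
  haveI : Algebra.FiniteType (ResidueField R) (B ⧸ n) :=
    Algebra.FiniteType.of_restrictScalars_finiteType R (ResidueField R) (B ⧸ n)
  haveI : Module.Finite (ResidueField R) (B ⧸ n) :=
    finite_of_finite_type_of_isJacobsonRing (ResidueField R) (B ⧸ n)
  have hbij : Function.Bijective (algebraMap (ResidueField R) (B ⧸ n)) :=
    IsAlgClosed.algebraMap_bijective_of_isIntegral
  let e : ResidueField R ≃+* B ⧸ n := RingEquiv.ofBijective _ hbij
  let σ : B →ₐ[R] R ⧸ maximalIdeal R :=
    { toRingHom := (e.symm : B ⧸ n →+* ResidueField R).comp (Ideal.Quotient.mk n)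
      commutes' := fun r => by
        change e.symm ((Ideal.Quotient.mk n) (algebraMap R B r)) = Ideal.Quotient.mk _ r
        rw [RingEquiv.symm_apply_eq]
        change _ = ι (Ideal.Quotient.mk _ r)
        exact (hι r).symm }
  obtain ⟨τ, -⟩ := Groth.Agent.Lib.Helper26.SmoothLift.exists_lift_of_smooth
    (maximalIdeal R) σ
  exact ⟨τ, trivial⟩

theorem main (R : Type u) [CommRing R] [IsDomain R]
    [IsDiscreteValuationRing R] [HenselianLocalRing R] [IsAlgClosed (IsLocalRing.ResidueField R)]
    {X : Scheme.{u}} (p : X ⟶ Spec (CommRingCat.of R)) [Smooth p]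
    (x : X) (hx : p.base x = IsLocalRing.closedPoint R) :
    x ∈ closure {y : X | ∃ s : Spec (CommRingCat.of R) ⟶ X, s ≫ p = 𝟙 _ ∧
      s.base (IsLocalRing.closedPoint R) = y} := by
  rw [mem_closure_iff]
  intro o ho hxo
  -- an affine open neighbourhood of `x` inside `o`
  obtain ⟨_, ⟨U, hU, rfl⟩, hxU, hUo⟩ :=
    X.isBasis_affineOpens.exists_subset_of_mem_open hxo ho
  let U' : X.Opens := U
  have hU' : IsAffineOpen U' := hU
  have e : U' ≤ p ⁻¹ᵁ ⊤ := by simp
  let ψ : CommRingCat.of R ⟶ Γ(X, U') :=
    (Scheme.ΓSpecIso (CommRingCat.of R)).inv ≫ p.appLE ⊤ U' e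
  have hψ : hU'.fromSpec ≫ p = Spec.map ψ := by
    have := IsAffineOpen.SpecMap_appLE_fromSpec p (isAffineOpen_top _) hU' e
    rw [IsAffineOpen.fromSpec_top, Scheme.isoSpec_Spec_inv, ← Spec.map_comp] at this
    exact this.symm
  have hsm : ψ.hom.Smooth := by
    have h1 : (p.appLE ⊤ U' e).hom.Smooth :=
      HasRingHomProperty.appLE (P := @Smooth) p ‹_› ⟨⊤, isAffineOpen_top _⟩ ⟨U', hU'⟩ e
    exact (RingHom.Smooth.respectsIso.cancel_left_isIso
      (Scheme.ΓSpecIso (CommRingCat.of R)).inv (p.appLE ⊤ U' e)).mpr h1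
  letI : Algebra R Γ(X, U') := ψ.hom.toAlgebra
  haveI : Algebra.Smooth R Γ(X, U') := hsm
  -- the prime of `x`
  obtain ⟨x', hx'⟩ : ∃ x' : Spec Γ(X, U'), hU'.fromSpec x' = x := by
    have : x ∈ Set.range hU'.fromSpec := by
      rw [hU'.range_fromSpec]; exact hxU
    exact this
  have hq : x'.asIdeal.comap (algebraMap R Γ(X, U')) = maximalIdeal R := by
    have h1 : (Spec.map ψ) x' = IsLocalRing.closedPoint R := by
      rw [← hψ, Scheme.Hom.comp_apply, hx', hx]
    have h2 := congrArg PrimeSpectrum.asIdeal h1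
    exact h2
  obtain ⟨τ, -⟩ := exists_retraction R Γ(X, U') x'.asIdeal hq
  let s : Spec (CommRingCat.of R) ⟶ X := Spec.map (CommRingCat.ofHom τ.toRingHom) ≫ hU'.fromSpec
  have hs : s ≫ p = 𝟙 _ := by
    rw [Category.assoc, hψ, ← Spec.map_comp]
    have : ψ ≫ CommRingCat.ofHom τ.toRingHom = 𝟙 _ := by
      ext r
      exact τ.commutes r
    rw [this, Spec.map_id]
  refine ⟨s (IsLocalRing.closedPoint R), hUo ?_, s, hs, rfl⟩
  have : s (IsLocalRing.closedPoint R) ∈ Set.range hU'.fromSpec :=
    ⟨Spec.map (CommRingCat.ofHom τ.toRingHom) (IsLocalRing.closedPoint R), by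
      rw [← Scheme.Hom.comp_apply]⟩
  rw [hU'.range_fromSpec] at this
  exact this

end Groth.Agent.Lib.H9SecDense
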