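import Mathlib
import Groth.Prelude
import Groth.Agent.Lib.R2H4ModTriv
import Groth.Agent.Lib.R2H4PicGen
set_option backward.isDefEq.respectTransparency.types false

/-!
# Dividing a section of an invertible module by a global nonzerodivisor (helper9)

* `exists_div'` : if the zero scheme of `t : O ⟶ P` is contained in the principal ideal `(ϖ)`,
  then `t = u ≫ ϖ`.
* `not_forall_div` : a regular section is not infinitely divisible by `ϖ` near a zero of `ϖ`.
* `exists_max_div` : extraction of the maximal power of `ϖ`.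
-/

set_option autoImplicit false
set_option linter.style.haveILetI false
set_option linter.unusedSectionVars false
universe u
open CategoryTheory CategoryTheory.Limits AlgebraicGeometry MonoidalCategory TopologicalSpace Opposite

noncomputable section

namespace Groth.Agent.Lib.H9SemiTrivA

open Groth.Agent.Lib.Helper23.SecTw Groth.Agent.Lib.Helper23.GenLocus Groth.Agent.Lib.Helper6
  Groth.Agent.Lib.R2H4ModSec Groth.Agent.Lib.R2H4RegSeq Groth.Agent.Lib.R2H4ModTriv

variable {X : Scheme.{u}}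

theorem rT_one (U : X.Opens) : rT (1 : Γ(X, ⊤)) U = 1 := by
  unfold rT
  exact map_one _

theorem rT_mul (a b : Γ(X, ⊤)) (U : X.Opens) : rT (a * b) U = rT a U * rT b U := by
  unfold rT
  exact map_mul _ _ _

theorem rT_pow (a : Γ(X, ⊤)) (m : ℕ) (U : X.Opens) : rT (a ^ m) U = rT a U ^ m := by
  unfold rT
  exact map_pow _ _ _

theorem smulEnd_one (P : X.Modules) : smulEnd P (1 : Γ(X, ⊤)) = 𝟙 P := by
  apply Scheme.Modules.hom_ext
  intro U
  ext m
  rw [smulEnd_app, rT_one, one_smul]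
  rfl

theorem smulEnd_comp (P : X.Modules) (a b : Γ(X, ⊤)) :
    smulEnd P a ≫ smulEnd P b = smulEnd P (a * b) := by
  apply Scheme.Modules.hom_ext
  intro U
  ext m
  rw [Scheme.Modules.Hom.comp_app, ConcreteCategory.comp_apply, smulEnd_app, smulEnd_app,
    smulEnd_app, rT_mul, smul_smul, mul_comm]

theorem sv_comp_smulEnd {P : X.Modules} (u : Coh.structureModule X ⟶ P) (ϖ : Γ(X, ⊤))
    (V : X.Opens) : sv (u ≫ smulEnd P ϖ) V = rT ϖ V • sv u V := rfl

variable (P : X.Modules) (hP : PicF.IsInvertible P) (t : Coh.structureModule X ⟶ P)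
  (ϖ : Γ(X, ⊤))
  (hle : ∀ U : X.affineOpens, (PicF2.zeroScheme P t).ideal U ≤ Ideal.span {rT ϖ U.1})
  (hnzd : ∀ U : X.affineOpens, rT ϖ U.1 ∈ nonZeroDivisors Γ(X, U.1))

include hP hle in
theorem comp_cokernel_eq_zero' : t ≫ cokernel.π (smulEnd P ϖ) = 0 := by
  refine Groth.Agent.Helper18Strict.hom_eq_zero_of_basis _ (genB P) (isBasis_genB P hP) ?_
  rintro V ⟨hV, e, hgen⟩ g
  obtain ⟨a, ha, hJ⟩ :=
    Groth.Agent.Lib.R2H1.ZeroSchemeMul.exists_coef_ideal P hP t ⟨V, hV⟩ e hgen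
  have hmem : a ∈ Ideal.span {rT ϖ V} := by
    refine hle ⟨V, hV⟩ ?_
    rw [hJ]
    exact Ideal.mem_span_singleton_self a
  obtain ⟨c, rfl⟩ := Ideal.mem_span_singleton'.1 hmem
  have hg : g = toS V (ofS V g) := rfl
  rw [Scheme.Modules.Hom.comp_app, ConcreteCategory.comp_apply, hg, app_toS, ha]
  have h1 : ofS V g • (c * rT ϖ V) • e = (smulEnd P ϖ).app V ((ofS V g * c) • e) := by
    rw [smulEnd_app, smul_smul, smul_smul]
    congr 1
    ring
  rw [h1, ← ConcreteCategory.comp_apply, ← Scheme.Modules.Hom.comp_app, cokernel.condition]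
  rfl

include hP hle hnzd in
/-- the quotient section `t / ϖ` -/
theorem exists_div' : ∃ u : Coh.structureModule X ⟶ P, u ≫ smulEnd P ϖ = t := by
  haveI := mono_smulEnd P hP ϖ hnzd
  exact ⟨Abelian.monoLift (smulEnd P ϖ) t (comp_cokernel_eq_zero' P hP t ϖ hle),
    Abelian.monoLift_comp _ _ _⟩

omit t hle in
include hP hnzd in
/-- a regular section is not infinitely divisible by `ϖ` near a zero of `ϖ` -/
theorem not_forall_div [IsLocallyNoetherian X] (s₀ : Coh.structureModule X ⟶ P)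
    (hgen : X.basicOpen ϖ ≤ CohB1.genLocus P s₀) (x : X) (hx : x ∉ X.basicOpen ϖ) :
    ¬ ∀ m : ℕ, ∃ t : Coh.structureModule X ⟶ P, t ≫ smulEnd P (ϖ ^ m) = s₀ := by
  intro H
  obtain ⟨W, hxW, hW, e, f, hsf, hbf, he⟩ := exists_frame P hP s₀ x
  haveI : IsNoetherianRing Γ(X, W) := IsLocallyNoetherian.component_noetherian ⟨W, hW⟩
  have hres : X.basicOpen (rT ϖ W) = W ⊓ X.basicOpen ϖ := by
    unfold rT
    exact Scheme.basicOpen_res X ϖ _
  have hf : f ∈ nonZeroDivisors Γ(X, W) := by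
    refine Groth.Agent.Lib.R2H4PicGen.nzd_of_basicOpen_le hW (rT ϖ W) f (hnzd ⟨W, hW⟩) ?_
    rw [hbf, hres]
    exact le_inf (inf_le_right.trans hgen) inf_le_left
  have hmem : ∀ m : ℕ, f ∈ (Ideal.span {rT ϖ W}) ^ m := by
    intro m
    obtain ⟨t, ht⟩ := H m
    obtain ⟨b, hb⟩ : ∃ b : Γ(X, W), b • e = sv t W := by
      have := (he W le_rfl).2 (sv t W)
      simpa only [res_self] using this
    have h1 : f = rT ϖ W ^ m * b := by
      apply (he W le_rfl).1
      change f • res P le_rfl e = (rT ϖ W ^ m * b) • res P le_rfl e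
      rw [res_self, ← hsf, ← ht, sv_comp_smulEnd, rT_pow, mul_smul, hb]
    rw [h1, Ideal.span_singleton_pow]
    exact Ideal.mem_span_singleton'.2 ⟨b, mul_comm _ _⟩
  have hinf : f ∈ (⨅ i : ℕ, (Ideal.span {rT ϖ W}) ^ i • ⊤ : Submodule Γ(X, W) Γ(X, W)) := by
    rw [Submodule.mem_iInf]
    intro i
    rw [Ideal.smul_top_eq_map, Algebra.algebraMap_self, Ideal.map_id]
    exact hmem i
  obtain ⟨r, hr⟩ := (Ideal.mem_iInf_smul_pow_eq_bot_iff (Ideal.span {rT ϖ W}) f).1 hinf
  have hr1 : (r : Γ(X, W)) = 1 := by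
    have h0 : ((r : Γ(X, W)) - 1) * f = 0 := by
      rw [sub_mul, one_mul]
      exact sub_eq_zero.2 hr
    have := (mem_nonZeroDivisors_iff_right.1 hf) _ h0
    exact sub_eq_zero.1 this
  have hunit : IsUnit (rT ϖ W) := by
    have h1 : (1 : Γ(X, W)) ∈ Ideal.span {rT ϖ W} := hr1 ▸ r.2
    obtain ⟨c, hc⟩ := Ideal.mem_span_singleton'.1 h1
    exact IsUnit.of_mul_eq_one _ (by rw [mul_comm]; exact hc)
  have hxb : x ∈ X.basicOpen (rT ϖ W) := by
    rw [X.basicOpen_of_isUnit hunit]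
    exact hxW
  rw [hres] at hxb
  exact hx hxb.2

omit t hle in
include hP hnzd in
/-- extraction of the maximal power of `ϖ` dividing a regular section -/
theorem exists_max_div [IsLocallyNoetherian X] (s₀ : Coh.structureModule X ⟶ P)
    (hgen : X.basicOpen ϖ ≤ CohB1.genLocus P s₀) (x : X) (hx : x ∉ X.basicOpen ϖ) :
    ∃ (m : ℕ) (t : Coh.structureModule X ⟶ P), t ≫ smulEnd P (ϖ ^ m) = s₀ ∧
      ¬ ∃ u : Coh.structureModule X ⟶ P, u ≫ smulEnd P ϖ = t := by
  classical
  have hnot := not_forall_div P hP ϖ hnzd s₀ hgen x hx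
  push Not at hnot
  obtain ⟨N, hN⟩ := hnot
  -- the least `m` with no quotient by `ϖ ^ m`
  let p : ℕ → Prop := fun m => ∀ t : Coh.structureModule X ⟶ P, t ≫ smulEnd P (ϖ ^ m) ≠ s₀
  have hp : ∃ m, p m := ⟨N, hN⟩
  have h0 : ¬ p 0 := by
    intro h
    refine h s₀ ?_
    rw [pow_zero, smulEnd_one, Category.comp_id]
  have hpos : 0 < Nat.find hp := by
    rcases Nat.eq_zero_or_pos (Nat.find hp) with h | h
    · exact absurd (h ▸ Nat.find_spec hp) h0
    · exact h
  obtain ⟨m, hm⟩ : ∃ m, Nat.find hp = m + 1 := ⟨Nat.find hp - 1, by omega⟩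
  have hmin : ¬ p m := Nat.find_min hp (by omega)
  have hsucc : p (m + 1) := hm ▸ Nat.find_spec hp
  simp only [p, not_forall, not_not] at hmin
  obtain ⟨t, ht⟩ := hmin
  refine ⟨m, t, ht, ?_⟩
  rintro ⟨u, hu⟩
  refine hsucc u ?_
  rw [pow_succ', ← smulEnd_comp, ← Category.assoc, hu, ht]

end Groth.Agent.Lib.H9SemiTrivA
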