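import Mathlib
import Groth.Prelude
import Groth.Agent.Lib.R2H4PicGen
import Groth.Agent.Lib.Helper11RedCl
set_option backward.isDefEq.respectTransparency.types false

/-!
# Vertical prime divisors through every point of the closed fibre (helper9)

* `exists_vertComp` : an irreducible closed subset of dimension one contained in the closed fibre
  underlies a vertical prime divisor (reduced induced structure).
* `exists_vertComp_mem` : if the irreducible components of the closed fibre have dimension one,
  every point of the closed fibre lies on a vertical prime divisor.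
-/

set_option autoImplicit false
set_option linter.style.haveILetI false
set_option linter.unusedSectionVars false
universe u
open CategoryTheory CategoryTheory.Limits AlgebraicGeometry TopologicalSpace Opposite IsLocalRing

noncomputable section

namespace Groth.Agent.Lib.H9SemiTrivB

variable {R : Type u} [CommRing R] [IsDomain R] [IsDiscreteValuationRing R]
  {X : Scheme.{u}} (p : X ⟶ Spec (CommRingCat.of R))

/-- a morphism to `Spec R` is determined by its ring map -/
theorem eq_toSpecΓ_comp {W : Scheme.{u}} (g : W ⟶ Spec (CommRingCat.of R)) :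
    g = W.toSpecΓ ≫ Spec.map ((Scheme.ΓSpecIso (CommRingCat.of R)).inv ≫ g.appTop) := by
  have h1 := Scheme.toSpecΓ_naturality g
  rw [← SpecMap_ΓSpecIso_hom] at h1
  rw [Spec.map_comp, ← Category.assoc, ← h1, Category.assoc, ← Spec.map_comp, Iso.inv_hom_id,
    Spec.map_id, Category.comp_id]

theorem exists_vertComp (Y : Closeds X) (hirr : IsIrreducible (Y : Set X))
    (hdim : topologicalKrullDim (Y : Set X) = 1)
    (hYF : (Y : Set X) ⊆ Models.specialFibreSet R (Over.mk p)) :
    ∃ Γ : ArSurf.VertComp R (Over.mk p),
      Set.range (Γ.ι.base : Γ.curve.left → X) = (Y : Set X) := by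
  let I := Scheme.IdealSheafData.vanishingIdeal Y
  let W : Scheme.{u} := I.subscheme
  have hrange : Set.range I.subschemeι = (Y : Set X) :=
    Groth.Agent.Lib.Helper11RedCl.range_subschemeι_vanishingIdeal Y
  let e : W ≃ₜ (Y : Set X) :=
    I.subschemeι.isEmbedding.toHomeomorph.trans (Homeomorph.setCongr hrange)
  haveI : IrreducibleSpace (Y : Set X) := Subtype.irreducibleSpace hirr
  haveI : IrreducibleSpace W := (Homeomorph.irreducibleSpace_iff e).2 inferInstance
  haveI : IsReduced W := Groth.Agent.Lib.Helper11RedCl.isReduced_subscheme_vanishingIdeal Y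
  haveI : IsIntegral W := isIntegral_of_irreducibleSpace_of_isReduced W
  have hWdim : topologicalKrullDim W = 1 := by
    rw [← hdim]
    exact IsHomeomorph.topologicalKrullDim_eq _ e.isHomeomorph
  -- the ring map
  let g : W ⟶ Spec (CommRingCat.of R) := I.subschemeι ≫ p
  let φ : CommRingCat.of R ⟶ Γ(W, ⊤) := (Scheme.ΓSpecIso (CommRingCat.of R)).inv ≫ g.appTop
  have hker : ∀ a ∈ maximalIdeal R, φ.hom a = 0 := by
    intro a ha
    apply (AlgebraicGeometry.basicOpen_eq_bot_iff (X := W) (U := ⊤) _).1
    have h3 := Scheme.preimage_basicOpen g ((Scheme.ΓSpecIso (CommRingCat.of R)).inv.hom a)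
    have h2 : (Spec (CommRingCat.of R)).basicOpen
        ((Scheme.ΓSpecIso (CommRingCat.of R)).inv.hom a) = PrimeSpectrum.basicOpen a :=
      basicOpen_eq_of_affine (R := CommRingCat.of R) a
    have h4 : W.basicOpen (φ.hom a) = g ⁻¹ᵁ (PrimeSpectrum.basicOpen a) :=
      h3.symm.trans (congrArg (fun U => g ⁻¹ᵁ U) h2)
    rw [h4, eq_bot_iff]
    intro w hw
    exfalso
    have hwF : I.subschemeι w ∈ Models.specialFibreSet R (Over.mk p) :=
      hYF (hrange ▸ ⟨w, rfl⟩)
    have hcl : g w = closedPoint R := hwF
    have hmem : a ∉ (g w : PrimeSpectrum R).asIdeal := hw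
    rw [hcl] at hmem
    exact hmem ha
  let ψ : ResidueField R →+* Γ(W, ⊤) := Ideal.Quotient.lift (maximalIdeal R) φ.hom hker
  have hψ : (CommRingCat.ofHom (residue R) : CommRingCat.of R ⟶ CommRingCat.of (ResidueField R)) ≫
      (CommRingCat.ofHom ψ : CommRingCat.of (ResidueField R) ⟶ Γ(W, ⊤)) = φ := by
    ext a
    exact Ideal.Quotient.lift_mk (maximalIdeal R) φ.hom hker
  refine ⟨{ curve := Over.mk (W.toSpecΓ ≫ Spec.map (CommRingCat.ofHom ψ))
            ι := I.subschemeι
            isClosedImmersion := inferInstance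
            isIntegral := inferInstanceAs (IsIntegral W)
            dim_eq := hWdim
            w := ?_ }, hrange⟩
  change g = (W.toSpecΓ ≫ Spec.map (CommRingCat.ofHom ψ)) ≫
    Spec.map (CommRingCat.ofHom (residue R))
  have h1 : Spec.map (CommRingCat.ofHom ψ : CommRingCat.of (ResidueField R) ⟶ Γ(W, ⊤)) ≫
      Spec.map (CommRingCat.ofHom (residue R)) = Spec.map φ :=
    (Spec.map_comp _ _).symm.trans (congrArg Spec.map hψ)
  exact ((eq_toSpecΓ_comp g).trans (congrArg (fun q => W.toSpecΓ ≫ q) h1.symm)).trans
    (Category.assoc _ _ _).symm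

/-- every point of the closed fibre lies on a vertical prime divisor -/
theorem exists_vertComp_mem
    (hcomp : ∀ Z ∈ irreducibleComponents (p.fiber (closedPoint R) : Type u),
      topologicalKrullDim Z = 1)
    (y : X) (hy : y ∈ Models.specialFibreSet R (Over.mk p)) :
    ∃ Γ : ArSurf.VertComp R (Over.mk p), y ∈ Set.range (Γ.ι.base : Γ.curve.left → X) := by
  let h := p.fiberHomeo (closedPoint R)
  let y' : p.fiber (closedPoint R) := h.symm ⟨y, hy⟩
  let Z : Set (p.fiber (closedPoint R)) := irreducibleComponent y'
  have hZc : IsClosed Z := isClosed_irreducibleComponent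
  have hZi : IsIrreducible Z := isIrreducible_irreducibleComponent
  have hZd : topologicalKrullDim Z = 1 :=
    hcomp Z (irreducibleComponent_mem_irreducibleComponents y')
  have hF : IsClosed (p.base ⁻¹' {closedPoint R}) :=
    (isClosed_singleton_closedPoint R).preimage p.base.hom.continuous
  have hemb : Topology.IsClosedEmbedding (fun z : p.fiber (closedPoint R) => (h z : X)) :=
    hF.isClosedEmbedding_subtypeVal.comp h.isClosedEmbedding
  let Yset : Set X := (fun z : p.fiber (closedPoint R) => (h z : X)) '' Z
  have hYc : IsClosed Yset := hemb.isClosedMap Z hZc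
  have hYi : IsIrreducible Yset := hZi.image _ hemb.continuous.continuousOn
  have hYd : topologicalKrullDim Yset = 1 := by
    rw [← hZd]
    have e : Z ≃ₜ Yset := hemb.isEmbedding.homeomorphImage Z
    exact (IsHomeomorph.topologicalKrullDim_eq _ e.isHomeomorph).symm
  have hYF : Yset ⊆ Models.specialFibreSet R (Over.mk p) := by
    rintro _ ⟨z, -, rfl⟩
    exact (h z).2
  obtain ⟨Γ, hΓ⟩ := exists_vertComp p ⟨Yset, hYc⟩ hYi hYd hYF
  refine ⟨Γ, ?_⟩
  rw [hΓ]
  refine ⟨y', mem_irreducibleComponent, ?_⟩
  show (h (h.symm ⟨y, hy⟩) : X) = y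
  rw [h.apply_symm_apply]

end Groth.Agent.Lib.H9SemiTrivB
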