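import Mathlib
import Groth.Prelude
import Groth.Agent.Lib.R2H1LiftZero
import Groth.Agent.Lib.R2LeadTensorExact
import Groth.Agent.Lib.R2H2PullLF
import Groth.Agent.Lib.Helper27TmLeft
import Groth.Agent.Lib.R2H1IdealProd
import Groth.Agent.Lib.Helper20IdealModSec
import Groth.Agent.Lib.R2H1CurveAmple
import Groth.Agent.Lib.Helper23Serre
import Groth.Agent.Lib.Helper23TensorUnit
import Groth.Agent.Lib.R2H1DegCartier
import Groth.Agent.Lib.R2H1ZeroSchemeMul
import Groth.Agent.Lib.R2H4RegSeqA3
import Groth.Agent.Lib.Helper23SecTw10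
import Groth.Agent.Lib.R2H4InvExists
import Groth.Agent.Lib.R2H4ModSec
import Groth.Agent.Lib.R2H4TensorPows
import Groth.Agent.Lib.Helper18FinFlat1
import Groth.Agent.Lib.Helper18OmLS3
set_option backward.isDefEq.respectTransparency.types false

/-!
# Invertible modules as differences of effective Cartier divisors (helper4, round 2)

* `mono_of_assPoints` : a section of an invertible module on a Noetherian scheme which generates at
  every associated point of `O_X` is a monomorphism `O_X ⟶ L`.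
* `nonempty_iso_tensor_idealMod'` : the non-integral version of
  `R2H1.HypIdeal.nonempty_iso_tensor_idealMod` (`Mono s` as hypothesis).
* `isEffCartier_zeroScheme`, `nonempty_iso_tensor_zeroScheme` : the zero scheme of such a regular
  section is an effective Cartier divisor `D` with `O ≅ L ⊗ I_D`.
* `exists_diff` : S1658.
-/

set_option autoImplicit false
set_option linter.style.haveILetI false
set_option linter.unusedSectionVars false
universe u v

open CategoryTheory CategoryTheory.Limits AlgebraicGeometry TopologicalSpace Opposite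

namespace Groth.Agent.Lib.R2H4DiffCartier

open Groth.Agent.Lib.Helper23.SecTw Groth.Agent.Lib.Helper23.GenLocus
open Groth.Agent.Lib.R2H1.DegCartier
open Groth.Agent.Lib.Helper23.Extend Groth.Agent.Lib.Helper23.IdealSec Groth.Agent.Lib.Helper6

variable {X : Scheme.{u}}

/-- a section generating at all associated points of `O_X` is injective on sections -/
theorem app_injective_of_assPoints (L : X.Modules)
    (s : Coh.structureModule X ⟶ L)
    (hreg : ∀ x : X, Curv2.IsAssPoint (Coh.structureModule X) x → x ∈ CohB1.genLocus L s)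
    (V : X.Opens) : Function.Injective (s.app V) := by
  haveI : (Coh.structureModule X).IsQuasicoherent :=
    Groth.Agent.Lib.Helper23.Serre.isQuasicoherent_structureModule' X
  have key : ∀ c : Γ(Coh.structureModule X, V), s.app V c = 0 → c = 0 := by
    intro c hc
    apply Groth.Agent.Lib.R2H3.NegTwist.eq_zero_of_res_eq_zero (Coh.structureModule X)
      (CohB1.genLocus L s) hreg V c
    set W := CohB1.genLocus L s ⊓ V
    have h1 : s.app W (res (Coh.structureModule X) (inf_le_right : W ≤ V) c) = 0 := by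
      rw [Groth.Agent.Lib.R2H3.NegTwist.app_res, hc, res_zero]
    rw [Groth.Agent.Lib.Helper23.TensorMap.app_eq_smul_sv] at h1
    have hgen := (isGen_sv_genLocus L s) W inf_le_left
    rw [res_sv] at hgen
    have h2 := hgen.1 (a₁ := ofS W (res (Coh.structureModule X) (inf_le_right : W ≤ V) c))
      (a₂ := 0) (by simpa using h1)
    exact h2
  intro a b hab
  have := key (a - b) (by rw [map_sub, hab, sub_self])
  exact sub_eq_zero.1 this

/-- a section generating at all associated points of `O_X` is a monomorphism -/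
theorem mono_of_assPoints (L : X.Modules) (s : Coh.structureModule X ⟶ L)
    (hreg : ∀ x : X, Curv2.IsAssPoint (Coh.structureModule X) x → x ∈ CohB1.genLocus L s) :
    Mono s := by
  refine Groth.Agent.Helper18OmLS.mono_of_injective_app_basis _ _ X.isBasis_affineOpens ?_
  intro V _
  exact app_injective_of_assPoints L s hreg V

/-- if a monomorphic section `s` of an invertible module `L` is locally `a • t`
with `t` a generator of `L` and `a` a generator of the ideal `I`, then `L ⊗ I ≅ O_X` -/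
theorem nonempty_iso_tensor_idealMod' (L : X.Modules) (hL : PicF.IsInvertible L)
    (s : Coh.structureModule X ⟶ L) [Mono s] (I : X.IdealSheafData)
    (hloc : ∀ x : X, ∃ (U : X.affineOpens) (t : Γ(L, U.1)) (a : Γ(X, U.1)), x ∈ U.1 ∧
      IsGen L U.1 t ∧ sv s U.1 = a • t ∧ I.ideal U = Ideal.span {a}) :
    Nonempty (Coh.structureModule X ≅ CohB1.tensorMod L (ClSub.idealMod I)) := by
  have hL1 : FlatMod.IsFinLocFreeOfRank 1 L :=
    Groth.Agent.Lib.Helper23.SecTw.isFinLocFreeOfRank_one_of_isInvertible L hL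
  have hLf : FlatMod.IsFinLocFree L := fun y => by
    obtain ⟨V, hy, e⟩ := hL1 y
    exact ⟨V, 1, hy, e⟩
  have hfl := Groth.Agent.Lib.R2H2.PullLF.isFlat_of_isFinLocFree L hLf
  have hS : ((idealSeq I).map (DCoh.tensorBi.obj L)).ShortExact :=
    Groth.Agent.Lib.R2Lead.TensorExact.shortExact_map_tensorBi L (fun y => hfl y)
      (idealSeq I) (idealSeq_shortExact I)
  haveI := hS.mono_f
  obtain ⟨σ', hσ'⟩ := Groth.Agent.Lib.R2H1.LiftZero.exists_lift I L hS s (fun x _ => by
    obtain ⟨U, t, a, hxU, -, hsa, hI⟩ := hloc x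
    exact ⟨U, t, a, hxU, hsa, by rw [hI]; exact Ideal.subset_span rfl⟩)
  haveI : Mono (σ' ≫ ((idealSeq I).map (DCoh.tensorBi.obj L)).f) := by
    rw [hσ']; exact mono_comp s _
  haveI : Mono σ' := mono_of_mono σ' ((idealSeq I).map (DCoh.tensorBi.obj L)).f
  haveI : Epi σ' := by
    apply Groth.Agent.Lib.Helper23.Serre.epi_of_locally_surjective
    intro V z x hxV
    obtain ⟨U, t, a, hxU, hgen, hsa, hI⟩ := hloc x
    obtain ⟨W, hW, hxW, hWle⟩ : ∃ W : X.Opens, IsAffineOpen W ∧ x ∈ W ∧ W ≤ U.1 ⊓ V := by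
      obtain ⟨W, hW, hxW, hle⟩ := Opens.isBasis_iff_nbhd.1 X.isBasis_affineOpens
        (show x ∈ U.1 ⊓ V from ⟨hxU, hxV⟩)
      exact ⟨W, hW, hxW, hle⟩
    have hWU : W ≤ U.1 := hWle.trans inf_le_left
    have hWV : W ≤ V := hWle.trans inf_le_right
    refine ⟨W, hWV, hxW, ?_⟩
    have hgenW : IsGen L W (res L hWU t) := hgen.mono hWU
    have hIW : I.ideal ⟨W, hW⟩ = Ideal.span {X.presheaf.map (homOfLE hWU).op a} :=
      Groth.Agent.Lib.R2H1.ZeroSchemeMul.ideal_res_span I (U := ⟨W, hW⟩) (V := U) hWU a hI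
    have hb1 := Groth.Agent.Lib.Helper27TmLeft.bijective_tm_of_isGen_left L (ClSub.idealMod I) W _
      hgenW W le_rfl
    have hb2 := Groth.Agent.Lib.Helper27TmLeft.bijective_tm_of_isGen_left L
      (Coh.structureModule X) W _ hgenW W le_rfl
    simp only [res_self] at hb1 hb2
    obtain ⟨j, hj⟩ := hb1.2 (res _ hWV z)
    obtain ⟨j₀, hj₀⟩ := hb1.2 (sv σ' W)
    simp only [] at hj hj₀
    have h1 : ((DCoh.tensorBi.obj L).map (ClSub.idealModι I)).app W (sv σ' W) =
        (SecTwist.unitorR L).inv.app W (sv s W) := by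
      have := congrArg (fun φ => sv φ W) hσ'
      exact this
    rw [← hj₀, Groth.Agent.Lib.R2H1.CurveAmple.tensorBi_map_tm,
      Groth.Agent.Lib.R2H1.CurveAmple.unitorR_inv_app, ← res_sv s hWU, hsa, res_smul,
      tm_smul_left, ← tm_smul_right] at h1
    have h2 := hb2.1 h1
    simp only [] at h2
    have hmem := Groth.Agent.Lib.R2H1.IdealProd.ι_mem_ideal (I := I) ⟨W, hW⟩ j
    rw [hIW, Ideal.mem_span_singleton'] at hmem
    obtain ⟨c, hc⟩ := hmem
    have h3 : (ClSub.idealModι I).app W (c • j₀) = (ClSub.idealModι I).app W j := by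
      rw [Scheme.Modules.Hom.app_smul, h2, ← mul_smul, smul_toS, mul_one]
      have : toS W (c * resf hWU a) = toS W (ofS W ((ClSub.idealModι I).app W j)) := by
        rw [← hc]
      rw [this]
      rfl
    have h4 : c • j₀ = j := Groth.Agent.Lib.Helper20.IdealModSec.ι_injective (I := I) W h3
    refine ⟨toS W c, ?_⟩
    rw [app_toS]
    have h5 : c • sv σ' W = res (CohB1.tensorMod L (ClSub.idealMod I)) hWV z := by
      rw [← hj, ← h4, tm_smul_right, hj₀]
      rfl
    exact h5
  haveI : IsIso σ' := isIso_of_mono_of_epi σ'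
  have e := asIso σ'
  exact ⟨e⟩

/-- local data of the zero scheme of a section -/
theorem exists_local_data (L : X.Modules) (hL : PicF.IsInvertible L)
    (s : Coh.structureModule X ⟶ L) (x : X) :
    ∃ (U : X.affineOpens) (t : Γ(L, U.1)) (a : Γ(X, U.1)), x ∈ U.1 ∧
      IsGen L U.1 t ∧ sv s U.1 = a • t ∧ (PicF2.zeroScheme L s).ideal U = Ideal.span {a} := by
  obtain ⟨W, e₀, hxW, hgen⟩ := exists_gen L hL x
  obtain ⟨V, hV, hxV, hle⟩ := exists_isAffineOpen_mem_and_subset (X := X) (x := x) (U := W) hxW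
  have hgenV : IsGen L V (res L hle e₀) := hgen.mono hle
  obtain ⟨a, ha, hI⟩ := Groth.Agent.Lib.R2H1.ZeroSchemeMul.exists_coef_ideal L hL s ⟨V, hV⟩ _ hgenV
  exact ⟨⟨V, hV⟩, _, a, hxV, hgenV, ha, hI⟩

/-- the zero scheme of a regular section is an effective Cartier divisor -/
theorem isEffCartier_zeroScheme (L : X.Modules) (hL : PicF.IsInvertible L)
    (s : Coh.structureModule X ⟶ L)
    (hreg : ∀ x : X, Curv2.IsAssPoint (Coh.structureModule X) x → x ∈ CohB1.genLocus L s) :
    BlowUp.IsEffCartierIdeal (PicF2.zeroScheme L s) := by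
  intro x
  obtain ⟨U, t, a, hxU, hgen, hsa, hI⟩ := exists_local_data L hL s x
  refine ⟨U, hxU, a, ?_, hI⟩
  rw [mem_nonZeroDivisors_iff_right]
  intro c hc
  have h1 : s.app U.1 (toS U.1 c) = 0 := by
    rw [app_toS, hsa, ← mul_smul, hc, zero_smul]
  have h2 := app_injective_of_assPoints L s hreg U.1 (a₁ := toS U.1 c) (a₂ := 0)
    (by rw [h1, map_zero])
  exact h2

/-- `O ≅ L ⊗ I_D` for the zero scheme `D` of a regular section of `L` -/
theorem nonempty_iso_tensor_zeroScheme (L : X.Modules) (hL : PicF.IsInvertible L)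
    (s : Coh.structureModule X ⟶ L)
    (hreg : ∀ x : X, Curv2.IsAssPoint (Coh.structureModule X) x → x ∈ CohB1.genLocus L s) :
    Nonempty (Coh.structureModule X ≅
      CohB1.tensorMod L (ClSub.idealMod (PicF2.zeroScheme L s))) := by
  haveI := mono_of_assPoints L s hreg
  exact nonempty_iso_tensor_idealMod' L hL s _ (exists_local_data L hL s)

open Groth.Agent.Lib.R2H4TensorPows in
/-- S1658: every invertible module on a Noetherian scheme with an ample invertible module is a
difference of effective Cartier divisors avoiding a given finite set -/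
theorem exists_diff [IsNoetherian X] (L : X.Modules) (hL : CohB1.IsAmple L)
    (N : X.Modules) (hN : PicF.IsInvertible N) (E : Set X) (hE : E.Finite) :
    ∃ D D' : X.IdealSheafData, BlowUp.IsEffCartierIdeal D ∧ BlowUp.IsEffCartierIdeal D' ∧
      Disjoint E (D.support : Set X) ∧ Disjoint E (D'.support : Set X) ∧
      Nonempty (CohB1.tensorMod N (ClSub.idealMod D) ≅ ClSub.idealMod D') := by
  have hO := Groth.Agent.Lib.Helper23.TensorUnit.isInvertible_structureModule X
  have hcoh : Coh.IsCoh (Coh.structureModule X) := by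
    haveI : SheafOfModules.IsFinitePresentation (R := X.ringCatSheaf) (Coh.structureModule X) :=
      Groth.Agent.Helper18FinFlat.isFinitePresentation_structureModule X
    exact ⟨inferInstance, inferInstance⟩
  have hfin : {x : X | Curv2.IsAssPoint (Coh.structureModule X) x}.Finite :=
    Groth.Agent.Lib.R2H3.NegTwist.finite_assPoints _ hcoh
  set Z : Set X := E ∪ {x : X | Curv2.IsAssPoint (Coh.structureModule X) x} with hZdef
  have hZ : Z.Finite := hE.union hfin
  obtain ⟨V1, n1, hZ1, h1⟩ :=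
    Groth.Agent.Lib.Helper23.SecTw.exists_sections_eventually L hL N hN Z hZ
  obtain ⟨V2, n2, hZ2, h2⟩ :=
    Groth.Agent.Lib.Helper23.SecTw.exists_sections_eventually L hL _ hO Z hZ
  set n := max n1 n2
  obtain ⟨s1, hs1⟩ := h1 n (le_max_left _ _)
  obtain ⟨s2, hs2⟩ := h2 n (le_max_right _ _)
  have hLn : PicF.IsInvertible (CohB1.tensorPow L n) := isInvertible_tensorPow hL.1 n
  have hM1 := isInvertible_tensorMod hN hLn
  have hM2 := isInvertible_tensorMod hO hLn
  have hreg1 : ∀ x : X, Curv2.IsAssPoint (Coh.structureModule X) x → x ∈ CohB1.genLocus _ s1 :=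
    fun x hx => hs1 (hZ1 (Or.inr hx))
  have hreg2 : ∀ x : X, Curv2.IsAssPoint (Coh.structureModule X) x → x ∈ CohB1.genLocus _ s2 :=
    fun x hx => hs2 (hZ2 (Or.inr hx))
  obtain ⟨e1⟩ := nonempty_iso_tensor_zeroScheme _ hM1 s1 hreg1
  obtain ⟨e2⟩ := nonempty_iso_tensor_zeroScheme _ hM2 s2 hreg2
  obtain ⟨P, -, ⟨eP⟩⟩ := Groth.Agent.Lib.R2H4InvExists.exists_inverse _ hLn
  refine ⟨PicF2.zeroScheme _ s1, PicF2.zeroScheme _ s2, isEffCartier_zeroScheme _ hM1 s1 hreg1,
    isEffCartier_zeroScheme _ hM2 s2 hreg2, ?_, ?_, ?_⟩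
  · rw [Set.disjoint_left]
    intro x hxE hx
    exact (Groth.Agent.Lib.R2H4ModSec.mem_support_zeroScheme_iff _ hM1 s1 x).1 hx
      (hs1 (hZ1 (Or.inl hxE)))
  · rw [Set.disjoint_left]
    intro x hxE hx
    exact (Groth.Agent.Lib.R2H4ModSec.mem_support_zeroScheme_iff _ hM2 s2 x).1 hx
      (hs2 (hZ2 (Or.inl hxE)))
  · set I1 := ClSub.idealMod (PicF2.zeroScheme _ s1)
    set I2 := ClSub.idealMod (PicF2.zeroScheme _ s2)
    set Ln := CohB1.tensorPow L n
    have a1 : CohB1.tensorMod N I1 ≅ P :=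
      (rUnit _).symm ≪≫ tIso (Iso.refl _) eP.symm ≪≫ (tAssoc _ _ _).symm ≪≫
        tIso (swapR N I1 Ln) (Iso.refl P) ≪≫ tIso e1.symm (Iso.refl P) ≪≫ lUnit P
    have a2 : I2 ≅ P :=
      (rUnit _).symm ≪≫ tIso (Iso.refl _) eP.symm ≪≫ (tAssoc _ _ _).symm ≪≫
        tIso (tComm I2 Ln ≪≫ tIso (lUnit Ln).symm (Iso.refl I2)) (Iso.refl P) ≪≫
        tIso e2.symm (Iso.refl P) ≪≫ lUnit P
    exact ⟨a1 ≪≫ a2.symm⟩

end Groth.Agent.Lib.R2H4DiffCartier
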