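import Mathlib
import Groth.Prelude
import Groth.Agent.Lib.H9SemiTrivA
import Groth.Agent.Lib.H9SemiTrivB
import Groth.Agent.Lib.H9MinSm
import Groth.Agent.Lib.R2H4ModComp
import Groth.Agent.Lib.R2H4DiffCartier
import Groth.Agent.Lib.R2H4CMSurf
import Groth.Agent.Lib.Helper4FibDimK
set_option backward.isDefEq.respectTransparency.types false

/-!
# Generically trivial invertible modules of multidegree zero over a DVR are trivial (helper9)

`main` : `p : X ⟶ Spec R` proper flat, closed fibre reduced, connected, with irreducible components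
of dimension one; `L` invertible, trivial on the generic fibre, of degree zero on every vertical
prime divisor. Then `L ≅ O_X`.
-/

set_option autoImplicit false
set_option linter.style.haveILetI false
set_option linter.unusedSectionVars false
universe u
open CategoryTheory CategoryTheory.Limits AlgebraicGeometry TopologicalSpace Opposite IsLocalRing

noncomputable section

namespace Groth.Agent.Lib.H9SemiTrivC

open Groth.Agent.Lib.Helper23.SecTw Groth.Agent.Lib.Helper23.GenLocus Groth.Agent.Lib.Helper6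
  Groth.Agent.Lib.R2H4ModSec Groth.Agent.Lib.R2H4RegSeq Groth.Agent.Lib.R2H4ModTriv
  Groth.Agent.Lib.H9SemiTrivA Groth.Agent.Lib.H9SemiTrivB Groth.Agent.Lib.R2H4PicGen
  Groth.Agent.Lib.R2H1.SpecialFibreProd Groth.Agent.Lib.R2H4ModMain Groth.Agent.Lib.H9MinSm

section Top

/-- a closed preconnected set `F` in a Noetherian sober space, and a closed subset `Z ⊆ F` such
that no point of `F \ Z` specialises into `Z`: then `Z = ∅` or `F ⊆ Z`. -/
theorem eq_empty_or_subset {T : Type*} [TopologicalSpace T] [NoetherianSpace T] [QuasiSober T]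
    (F Z : Set T) (hF : IsClosed F) (hZ : IsClosed Z) (hZF : Z ⊆ F) (hconn : IsPreconnected F)
    (hsp : ∀ y ∈ F, y ∉ Z → ∀ x, y ⤳ x → x ∉ Z) : Z = ∅ ∨ F ⊆ Z := by
  by_contra hcon
  push Not at hcon
  obtain ⟨hZne, hFZ⟩ := hcon
  obtain ⟨y₀, hy₀F, hy₀Z⟩ := Set.not_subset.1 hFZ
  obtain ⟨z₀, hz₀⟩ := hZne
  -- closure of `F \ Z`
  let B : Set T := closure (F \ Z)
  have hB : IsClosed B := isClosed_closure
  have hcov : F ⊆ Z ∪ B := by
    intro x hx
    by_cases hxZ : x ∈ Z
    · exact Or.inl hxZ
    · exact Or.inr (subset_closure ⟨hx, hxZ⟩)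
  have hBZ : ∀ x ∈ B, x ∉ Z := by
    intro x hx
    -- `x` is a specialisation of a point of `F \ Z`
    let U : Set T := Zᶜ
    have hU : IsOpen U := hZ.isOpen_compl
    haveI : QuasiSober U := hU.isOpenEmbedding_subtypeVal.quasiSober
    have himg : (Subtype.val : U → T) '' (Subtype.val ⁻¹' F) = F \ Z := by
      ext t
      constructor
      · rintro ⟨⟨t, htU⟩, htF, rfl⟩
        exact ⟨htF, htU⟩
      · rintro ⟨htF, htZ⟩
        exact ⟨⟨t, htZ⟩, htF, rfl⟩
    obtain ⟨a, haF, hax⟩ :=
      Groth.Agent.Lib.Helper4.FibDim.exists_specializes_of_mem_closure_image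
        (Subtype.val : U → T) continuous_subtype_val (Subtype.val ⁻¹' F)
        (hF.preimage continuous_subtype_val) x (by rw [himg]; exact hx)
    exact hsp a.1 haF a.2 x hax
  have h1 := isPreconnected_closed_iff.1 hconn Z B hZ hB hcov ⟨z₀, hZF hz₀, hz₀⟩
    ⟨y₀, hy₀F, subset_closure ⟨hy₀F, hy₀Z⟩⟩
  obtain ⟨x, -, hxZ, hxB⟩ := h1
  exact hBZ x hxB hxZ

end Top

variable {R : Type u} [CommRing R] [IsDomain R] [IsDiscreteValuationRing R]
  {X : Scheme.{u}} (p : X ⟶ Spec (CommRingCat.of R))

/-- the ring map `R → Γ(X, U)` (helper1) -/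
local notation "sH" => Groth.Agent.Lib.R2H1.SpecialFibreProd.secHom

theorem specialFibreIdeal_eq_vanishingIdeal_of_isReduced [IsReduced (pullback p (ik R))] :
    Models.specialFibreIdeal R (Over.mk p) = Scheme.IdealSheafData.vanishingIdeal
      ⟨Models.specialFibreSet R (Over.mk p), Models.isClosed_specialFibreSet R (Over.mk p)⟩ := by
  rw [specialFibreIdeal_eq_ker,
    Groth.Agent.Lib.Helper11RedCl.ker_eq_of_isReduced (pullback.fst p (ik R))]
  congr 1
  apply SetLike.coe_injective
  show closure (Set.range (pullback.fst p (ik R)).base) = _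
  rw [range_fst]
  exact (Models.isClosed_specialFibreSet R (Over.mk p)).closure_eq

/-- dividing by a power of a function can only enlarge the generating locus -/
theorem genLocus_le_of_comp_smulEnd {P : X.Modules} (hP : PicF.IsInvertible P)
    (t : Coh.structureModule X ⟶ P) (a : Γ(X, ⊤)) :
    CohB1.genLocus P (t ≫ smulEnd P a) ≤ CohB1.genLocus P t := by
  intro x hx
  obtain ⟨W, hxW, hW, e, f, hsf, hbf, he⟩ := exists_frame P hP t x
  have h1 : sv (t ≫ smulEnd P a) W = (rT a W * f) • e := by
    rw [sv_comp_smulEnd, hsf, mul_smul]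
  have h2 := genLocus_inf_eq_of_isGen P (t ≫ smulEnd P a) W e (rT a W * f) he h1
  have hx2 : x ∈ X.basicOpen (rT a W * f) := by
    rw [← h2]
    exact ⟨hx, hxW⟩
  rw [Scheme.basicOpen_mul] at hx2
  have hx3 : x ∈ CohB1.genLocus P t ⊓ W := by
    rw [← hbf]
    exact hx2.2
  exact hx3.1

variable [IsProper p] [Flat p]

theorem main
    (hcomp : ∀ Z ∈ irreducibleComponents (p.fiber (closedPoint R) : Type u),
      topologicalKrullDim Z = 1)
    [IsReduced (pullback p (ik R))]
    (hconn : _root_.IsPreconnected (Models.specialFibreSet R (Over.mk p)))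
    (L : X.Modules) (hL : PicF.IsInvertible L)
    (hgen : Nonempty ((Scheme.Modules.pullback (pullback.fst p (Neron.genPt R))).obj L ≅
      Coh.structureModule (pullback p (Neron.genPt R))))
    (hdeg : ∀ Γ : ArSurf.VertComp R (Over.mk p), ArSurf.inter R (Over.mk p) L Γ = 0) :
    Nonempty (L ≅ Coh.structureModule X) := by
  haveI : IsLocallyNoetherian X := LocallyOfFiniteType.isLocallyNoetherian p
  haveI : CompactSpace X := QuasiCompact.compactSpace_of_compactSpace p
  haveI : IsNoetherian X := {}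
  obtain ⟨ϖ, hϖ⟩ := IsDiscreteValuationRing.exists_irreducible R
  have hmax : maximalIdeal R = Ideal.span {ϖ} :=
    (IsDiscreteValuationRing.irreducible_iff_uniformizer ϖ).mp hϖ
  have H : IsPullback (pullback.fst p (Neron.genPt R)) (pullback.snd p (Neron.genPt R)) p
      (Spec.map (CommRingCat.ofHom (algebraMap R (FractionRing R)))) := IsPullback.of_hasPullback _ _
  haveI := isOpenImmersion_of_isPullback _ _ H
  let h : Γ(X, ⊤) := sH R X p ⊤ ϖ
  have hU : (pullback.fst p (Neron.genPt R)).opensRange = X.basicOpen h :=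
    opensRange_eq _ _ H ϖ hϖ
  obtain ⟨s₀, hs₀⟩ := exists_section_of_triv h _ hU L hL
    (nonempty_restrict_iso _ L hgen)
  rw [hU] at hs₀
  have hnzd : ∀ V : X.affineOpens, rT h V.1 ∈ nonZeroDivisors Γ(X, V.1) := fun V => by
    rw [rT_secHom]
    exact nzd_secHom ϖ hϖ.ne_zero V
  have hFmem : ∀ x : X, x ∉ X.basicOpen h ↔ x ∈ Models.specialFibreSet R (Over.mk p) :=
    fun x => notMem_basicOpen_iff ϖ hϖ x
  by_cases hFne : ∃ x₀ : X, x₀ ∈ Models.specialFibreSet R (Over.mk p)
  swap
  · -- empty closed fibre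
    push Not at hFne
    have htop : CohB1.genLocus L s₀ = ⊤ := by
      rw [eq_top_iff]
      intro x _
      refine hs₀ ?_
      by_contra hx
      exact hFne x ((hFmem x).1 hx)
    haveI : IsIso s₀ := (Groth.Agent.Lib.H9YBlowUp.isIso_iff_genLocus_eq_top L s₀).2 htop
    exact ⟨(asIso s₀).symm⟩
  obtain ⟨x₀, hx₀⟩ := hFne
  obtain ⟨m, s, hsm, hmax_div⟩ := exists_max_div L hL h hnzd s₀ hs₀ x₀ ((hFmem x₀).2 hx₀)
  have hs : X.basicOpen h ≤ CohB1.genLocus L s := by
    refine hs₀.trans ?_
    rw [← hsm]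
    exact genLocus_le_of_comp_smulEnd hL s (h ^ m)
  -- the zero scheme
  set D := PicF2.zeroScheme L s with hD
  have hcart : BlowUp.IsEffCartierIdeal D := isEffCartier_zeroScheme L hL s h hnzd hs
  have hZF : (D.support : Set X) ⊆ Models.specialFibreSet R (Over.mk p) := by
    intro x hx
    have hx1 : x ∉ CohB1.genLocus L s := (mem_support_zeroScheme_iff L hL s x).1 hx
    exact (hFmem x).1 (fun hh => hx1 (hs hh))
  have hreg : ∀ x : X, Curv2.IsAssPoint (Coh.structureModule X) x → x ∈ CohB1.genLocus L s := by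
    intro x hx
    refine hs ?_
    by_contra hxh
    have hxF := (hFmem x).1 hxh
    rw [← support_specialFibreIdeal] at hxF
    exact Groth.Agent.Lib.R2H4CMSurf.not_isAssPoint_structure (X := X)
      (Models.specialFibreIdeal R (Over.mk p))
      (isEffCartier_specialFibreIdeal R X p) x hxF hx
  obtain ⟨e⟩ := Groth.Agent.Lib.R2H4DiffCartier.nonempty_iso_tensor_zeroScheme L hL s hreg
  -- dichotomy for vertical prime divisors
  have hdich : ∀ Γ : ArSurf.VertComp R (Over.mk p),
      ¬ Set.range (Γ.ι.base : Γ.curve.left → X) ⊆ (D.support : Set X) →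
      Disjoint (Set.range (Γ.ι.base : Γ.curve.left → X)) (D.support : Set X) := fun Γ hne =>
    (Groth.Agent.Lib.R2H4ModComp.inter_eq_zero_iff Γ D L e.symm hne).1 (hdeg Γ)
  -- no point of `F \ Z` specialises into `Z`
  have hsp : ∀ y ∈ Models.specialFibreSet R (Over.mk p), y ∉ (D.support : Set X) →
      ∀ x, y ⤳ x → x ∉ (D.support : Set X) := by
    intro y hyF hyZ x hyx hxZ
    obtain ⟨Γ, hyΓ⟩ := exists_vertComp_mem p hcomp y hyF
    have hcl : IsClosed (Set.range (Γ.ι.base : Γ.curve.left → X)) :=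
      Γ.ι.isClosedEmbedding.isClosed_range
    have hxΓ : x ∈ Set.range (Γ.ι.base : Γ.curve.left → X) := hyx.mem_closed hcl hyΓ
    have hne : ¬ Set.range (Γ.ι.base : Γ.curve.left → X) ⊆ (D.support : Set X) :=
      fun hsub => hyZ (hsub hyΓ)
    exact Set.disjoint_left.1 (hdich Γ hne) hxΓ hxZ
  rcases eq_empty_or_subset (T := X) (Models.specialFibreSet R (Over.mk p)) (D.support : Set X)
    (Models.isClosed_specialFibreSet R (Over.mk p)) D.support.isClosed hZF hconn hsp with hZ | hZ
  · -- `Z = ∅`
    have htop : CohB1.genLocus L s = ⊤ := by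
      rw [eq_top_iff]
      intro x _
      by_contra hx
      have : x ∈ (D.support : Set X) := (mem_support_zeroScheme_iff L hL s x).2 hx
      rw [hZ] at this
      exact this
    haveI : IsIso s := (Groth.Agent.Lib.H9YBlowUp.isIso_iff_genLocus_eq_top L s).2 htop
    exact ⟨(asIso s).symm⟩
  · -- `F ⊆ Z`: contradiction with maximality
    exfalso
    apply hmax_div
    have hle : D ≤ Models.specialFibreIdeal R (Over.mk p) := by
      rw [specialFibreIdeal_eq_vanishingIdeal_of_isReduced p,
        ← Scheme.IdealSheafData.le_support_iff_le_vanishingIdeal]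
      exact hZ
    refine exists_div' L hL s h (fun U => ?_) hnzd
    have h1 := hle U
    rw [specialFibreIdeal_ideal, hmax, Ideal.map_span, Set.image_singleton] at h1
    rw [rT_secHom]
    exact h1

end Groth.Agent.Lib.H9SemiTrivC
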