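import Mathlib
import Groth.Prelude.Def_CurvBase

/-!
# Ordinary double points are reduced (helper2, round 2)

Namespace `Groth.Agent.Lib.R2H2.NodalAlg`.

* `prime_X`: `X s` is a prime element of `MvPowerSeries σ K` over a domain.
* `isReduced_quot`: `K[[x, y]]/(xy)` is reduced.
* `isReduced_of_isOrdDoublePt`: a Noetherian local `K`-algebra which is an ordinary double point
  (`Curv2.IsOrdDoublePt`) is reduced.
-/

set_option autoImplicit false
universe u

namespace Groth.Agent.Lib.R2H2.NodalAlg

open MvPowerSeries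

section Prime

variable {σ : Type*} {R : Type*} [CommRing R] [IsDomain R]

/-- the part of a power series not involving `X s` -/
noncomputable def part (s : σ) (φ : MvPowerSeries σ R) : MvPowerSeries σ R :=
  fun m => if m s = 0 then coeff m φ else 0

omit [IsDomain R] in
lemma coeff_part (s : σ) (φ : MvPowerSeries σ R) (m : σ →₀ ℕ) :
    coeff m (part s φ) = if m s = 0 then coeff m φ else 0 := rfl

omit [IsDomain R] in
lemma part_eq_zero_iff (s : σ) (φ : MvPowerSeries σ R) :
    part s φ = 0 ↔ (X s : MvPowerSeries σ R) ∣ φ := by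
  rw [X_dvd_iff]
  constructor
  · intro h m hm
    have := congrArg (coeff m) h
    rw [coeff_part, if_pos hm] at this
    simpa using this
  · intro h
    ext m
    rw [coeff_part]
    split_ifs with hm
    · rw [h m hm]; simp
    · simp

lemma coeff_mul_part (s : σ) (φ ψ : MvPowerSeries σ R) (m : σ →₀ ℕ) (hm : m s = 0) :
    coeff m (part s φ * part s ψ) = coeff m (φ * ψ) := by
  classical
  rw [coeff_mul, coeff_mul]
  refine Finset.sum_congr rfl fun p hp => ?_
  have h := congrArg (fun t : σ →₀ ℕ => t s) (Finset.HasAntidiagonal.mem_antidiagonal.mp hp)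
  simp only [Finsupp.coe_add, Pi.add_apply] at h
  rw [hm] at h
  have h1 : p.1 s = 0 := by omega
  have h2 : p.2 s = 0 := by omega
  rw [coeff_part, coeff_part, if_pos h1, if_pos h2]

lemma coeff_mul_part_ne (s : σ) (φ ψ : MvPowerSeries σ R) (m : σ →₀ ℕ) (hm : m s ≠ 0) :
    coeff m (part s φ * part s ψ) = 0 := by
  classical
  rw [coeff_mul]
  refine Finset.sum_eq_zero fun p hp => ?_
  have h := congrArg (fun t : σ →₀ ℕ => t s) (Finset.HasAntidiagonal.mem_antidiagonal.mp hp)
  simp only [Finsupp.coe_add, Pi.add_apply] at h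
  rw [coeff_part, coeff_part]
  by_cases h1 : p.1 s = 0
  · have h2 : p.2 s ≠ 0 := by omega
    rw [if_neg h2, mul_zero]
  · rw [if_neg h1, zero_mul]

/-- `X s` is prime in a power series ring over a domain -/
theorem prime_X (s : σ) : Prime (X s : MvPowerSeries σ R) := by
  classical
  refine ⟨?_, ?_, ?_⟩
  · intro h0
    have := congrArg (coeff (Finsupp.single s 1)) h0
    rw [coeff_X] at this
    simp at this
  · intro hu
    have h1 : (X s : MvPowerSeries σ R) ∣ 1 := hu.dvd
    rw [X_dvd_iff] at h1
    have := h1 0 rfl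
    simp at this
  · intro φ ψ h
    by_contra hcon
    rw [not_or] at hcon
    obtain ⟨h1, h2⟩ := hcon
    rw [← part_eq_zero_iff] at h1 h2 h
    have h3 : part s φ * part s ψ ≠ 0 := mul_ne_zero h1 h2
    apply h3
    ext m
    by_cases hm : m s = 0
    · rw [coeff_mul_part s φ ψ m hm]
      have := congrArg (coeff m) h
      rw [coeff_part, if_pos hm] at this
      simpa using this
    · rw [coeff_mul_part_ne s φ ψ m hm]; simp

end Prime

section Quot

variable (K : Type u) [Field K]

lemma not_X_one_dvd_X_zero :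
    ¬ (X 1 : MvPowerSeries (Fin 2) K) ∣ (X 0 : MvPowerSeries (Fin 2) K) := by
  classical
  rw [X_dvd_iff]
  intro h
  have := h (Finsupp.single 0 1) (by simp)
  rw [coeff_X] at this
  simp at this

/-- `K[[x, y]]/(xy)` is reduced -/
theorem isReduced_quot :
    IsReduced (MvPowerSeries (Fin 2) K ⧸
      Ideal.span {(X 0 * X 1 : MvPowerSeries (Fin 2) K)}) := by
  rw [← Ideal.isRadical_iff_quotient_reduced, Ideal.isRadical_iff_pow_one_lt 2 one_lt_two]
  intro f hf
  rw [Ideal.mem_span_singleton] at hf ⊢
  have p0 := prime_X (R := K) (0 : Fin 2)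
  have p1 := prime_X (R := K) (1 : Fin 2)
  have h0 : (X 0 : MvPowerSeries (Fin 2) K) ∣ f :=
    p0.dvd_of_dvd_pow (dvd_trans (Dvd.intro _ rfl) hf)
  have h1 : (X 1 : MvPowerSeries (Fin 2) K) ∣ f :=
    p1.dvd_of_dvd_pow (dvd_trans (Dvd.intro_left _ rfl) hf)
  obtain ⟨g, rfl⟩ := h0
  have h2 : (X 1 : MvPowerSeries (Fin 2) K) ∣ g :=
    (p1.dvd_or_dvd h1).resolve_left (not_X_one_dvd_X_zero K)
  exact mul_dvd_mul_left _ h2

end Quot

section ODP

/-- a Noetherian local ring which is an ordinary double point is reduced -/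
theorem isReduced_of_isOrdDoublePt (K : Type u) [Field K] (A : Type u) [CommRing A] [Algebra K A]
    [IsLocalRing A] [IsNoetherianRing A] (h : Curv2.IsOrdDoublePt K A) : IsReduced A := by
  obtain ⟨e, -⟩ := h
  haveI := isReduced_quot K
  have hinj : Function.Injective
      (e.toRingHom.comp (algebraMap A (AdicCompletion (IsLocalRing.maximalIdeal A) A))) := by
    refine e.injective.comp ?_
    intro a b hab
    rw [AdicCompletion.algebraMap_apply, AdicCompletion.algebraMap_apply] at hab
    exact AdicCompletion.of_injective _ _ hab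
  exact isReduced_of_injective _ hinj

end ODP

end Groth.Agent.Lib.R2H2.NodalAlg
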