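import Mathlib
import Groth.Prelude.Def_CurvBase
import Groth.Agent.Lib.R2H2NodalAlg
import Groth.Agent.Lib.Helper6BcRed
import Groth.Agent.Lib.Helper6BcRed2
import Groth.Agent.Lib.H9WeilPI
import Groth.Agent.Lib.H9SteinSm

/-!
# At-worst-nodal schemes over a field are geometrically reduced (helper2, round 2)

Namespace `Groth.Agent.Lib.R2H2.NodalRed`.

* `isReduced_of_closedPoints`: a quasi-compact scheme whose local rings at closed points are reduced is reduced.
* `isReduced_stalk_of_isNode`: the local ring of `X_{k̄}` at the distinguished point over a node is reduced.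
* `tower`, `tower_fst`, `flat_tower`: the morphism `X_{k̄} ⟶ X_{k'}` for an algebraic extension `k'/k`.
* `isGeometricallyReduced_stalk_of_isNode`: the local ring at a node is a geometrically reduced `k`-algebra.
* `isReduced_stalk_of_smooth`: the local rings of `X_K` over a smooth open of `X` are reduced.
* `geometricallyReduced_of_atWorstNodal`: a quasi-compact `k`-scheme locally of finite type with at-worst-nodal
  singularities is geometrically reduced.
* `topologicalKrullDim_le_of_irreducibleComponents`.
-/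

set_option autoImplicit false
universe u
open CategoryTheory CategoryTheory.Limits AlgebraicGeometry TensorProduct TopologicalSpace

namespace Groth.Agent.Lib.R2H2.NodalRed

section ClosedPoints

/-- localizing a reduced localization further (elementary form) -/
lemma isReduced_of_le {A B C : Type u} [CommRing A] [CommRing B] [CommRing C] [Algebra A B]
    [Algebra A C] (p q : Ideal A) [p.IsPrime] [q.IsPrime] [IsLocalization.AtPrime B p]
    [IsLocalization.AtPrime C q] (hqp : q ≤ p) [IsReduced B] : IsReduced C := by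
  rw [isReduced_iff_pow_one_lt 2 one_lt_two]
  intro c hc
  obtain ⟨⟨a, s⟩, hs⟩ := IsLocalization.surj q.primeCompl c
  dsimp only at hs
  -- `c * s = a`, so `a ^ 2 = 0` in `C`
  have ha : algebraMap A C (a ^ 2) = 0 := by
    rw [map_pow, ← hs, mul_pow, hc, zero_mul]
  obtain ⟨t, ht⟩ := (IsLocalization.map_eq_zero_iff q.primeCompl C _).mp ha
  -- `(t a)^2 = 0` in `A`
  have h2 : ((t : A) * a) ^ 2 = 0 := by
    rw [mul_pow, pow_two (t : A), mul_assoc, ht, mul_zero]
  have h3 : algebraMap A B ((t : A) * a) = 0 := by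
    have : (algebraMap A B ((t : A) * a)) ^ 2 = 0 := by rw [← map_pow, h2, map_zero]
    exact (isReduced_iff_pow_one_lt 2 one_lt_two).mp inferInstance _ this
  obtain ⟨u, hu⟩ := (IsLocalization.map_eq_zero_iff p.primeCompl B _).mp h3
  have hu' : (u : A) ∈ q.primeCompl := fun h => u.2 (hqp h)
  have h4 : algebraMap A C a = 0 := by
    rw [IsLocalization.map_eq_zero_iff q.primeCompl C]
    exact ⟨⟨u, hu'⟩ * t, by rw [Submonoid.coe_mul, mul_assoc]; exact hu⟩
  have hunit : IsUnit (algebraMap A C (s : A)) := IsLocalization.map_units C s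
  have : c * algebraMap A C (s : A) = 0 := by rw [hs, h4]
  exact (hunit.mul_left_eq_zero).mp this

/-- **a quasi-compact scheme whose local rings at the closed points are reduced is reduced** -/
theorem isReduced_of_closedPoints (Y : Scheme.{u}) [CompactSpace Y]
    (h : ∀ y : Y, IsClosed ({y} : Set Y) → _root_.IsReduced (Y.presheaf.stalk y)) :
    AlgebraicGeometry.IsReduced Y := by
  haveI : ∀ y : Y, _root_.IsReduced (Y.presheaf.stalk y) := by
    intro y
    obtain ⟨y₀, hy₀, hcl⟩ := IsClosed.exists_closed_singleton (isClosed_closure (s := ({y} : Set Y)))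
      ⟨y, subset_closure rfl⟩
    obtain ⟨_, ⟨U, hU : IsAffineOpen U, rfl⟩, hy₀U, -⟩ :=
      Y.isBasis_affineOpens.exists_subset_of_mem_open (Set.mem_univ y₀) isOpen_univ
    have hyU : y ∈ U := by
      by_contra hn
      have hsub : ({y} : Set Y) ⊆ (U : Set Y)ᶜ := by
        intro z hz; rw [Set.mem_singleton_iff] at hz; subst hz; exact hn
      have := closure_minimal hsub U.2.isClosed_compl hy₀
      exact this hy₀U
    haveI := h y₀ hcl
    letI : Algebra Γ(Y, U) (Y.presheaf.stalk y₀) := Y.presheaf.algebra_section_stalk ⟨y₀, hy₀U⟩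
    letI : Algebra Γ(Y, U) (Y.presheaf.stalk y) := Y.presheaf.algebra_section_stalk ⟨y, hyU⟩
    haveI : IsLocalization.AtPrime (Y.presheaf.stalk y₀) (hU.primeIdealOf ⟨y₀, hy₀U⟩).asIdeal :=
      hU.isLocalization_stalk ⟨y₀, hy₀U⟩
    haveI : IsLocalization.AtPrime (Y.presheaf.stalk y) (hU.primeIdealOf ⟨y, hyU⟩).asIdeal :=
      hU.isLocalization_stalk ⟨y, hyU⟩
    refine isReduced_of_le (A := Γ(Y, U)) (B := Y.presheaf.stalk y₀) (C := Y.presheaf.stalk y)
      (hU.primeIdealOf ⟨y₀, hy₀U⟩).asIdeal (hU.primeIdealOf ⟨y, hyU⟩).asIdeal ?_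
    -- `y ⤳ y₀` gives the inclusion of primes
    have hspec : y ⤳ y₀ := specializes_iff_mem_closure.mpr hy₀
    have h1 : hU.primeIdealOf ⟨y, hyU⟩ ⤳ hU.primeIdealOf ⟨y₀, hy₀U⟩ := by
      have h2 : (⟨y, hyU⟩ : U) ⤳ ⟨y₀, hy₀U⟩ := (subtype_specializes_iff _ _).mpr hspec
      exact h2.map (hU.isoSpec.hom.base.hom.continuous)
    exact (PrimeSpectrum.le_iff_specializes _ _).mpr h1
  exact isReduced_of_isReduced_stalk Y

end ClosedPoints

section Tower

attribute [local instance] Curv2.stalkAlgebra

variable (k : Type u) [Field k] (X : Scheme.{u}) [X.Over (Spec (CommRingCat.of k))]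

/-- `X_K` is locally Noetherian when `X` is locally of finite type over `k` -/
lemma isLocallyNoetherian_bc [LocallyOfFiniteType (X ↘ Spec (CommRingCat.of k))] (K : Type u) [Field K]
    [Algebra k K] : IsLocallyNoetherian (Curv2.bc k X K) := by
  haveI : LocallyOfFiniteType (Curv2.bcSnd k X K) := by
    unfold Curv2.bcSnd; infer_instance
  exact LocallyOfFiniteType.isLocallyNoetherian (Curv2.bcSnd k X K)

/-- the local ring of `X_{k̄}` at the distinguished point over a node is reduced -/
theorem isReduced_stalk_of_isOrdDoublePt [LocallyOfFiniteType (X ↘ Spec (CommRingCat.of k))]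
    (xb : Curv2.bc k X (AlgebraicClosure k))
    (h : letI : (Curv2.bc k X (AlgebraicClosure k)).Over (Spec (CommRingCat.of (AlgebraicClosure k))) :=
        ⟨Curv2.bcSnd k X (AlgebraicClosure k)⟩
      letI := Curv2.stalkAlgebra (AlgebraicClosure k) (Curv2.bc k X (AlgebraicClosure k)) xb
      Curv2.IsOrdDoublePt (AlgebraicClosure k)
        ((Curv2.bc k X (AlgebraicClosure k)).presheaf.stalk xb)) :
    _root_.IsReduced ((Curv2.bc k X (AlgebraicClosure k)).presheaf.stalk xb) := by
  haveI := isLocallyNoetherian_bc k X (AlgebraicClosure k)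
  exact @Groth.Agent.Lib.R2H2.NodalAlg.isReduced_of_isOrdDoublePt (AlgebraicClosure k) _ _ _ _ _ _ h

variable (k' K : Type u) [Field k'] [Algebra k k'] [Field K] [Algebra k K] (σ : k' →ₐ[k] K)

/-- the morphism `X_K ⟶ X_{k'}` induced by a `k`-embedding `k' → K` -/
noncomputable def tower : Curv2.bc k X K ⟶ Curv2.bc k X k' :=
  pullback.lift (Curv2.bcFst k X K)
    (Curv2.bcSnd k X K ≫ Spec.map (CommRingCat.ofHom σ.toRingHom)) (by
      rw [Category.assoc, ← Spec.map_comp, ← CommRingCat.ofHom_comp]
      have : σ.toRingHom.comp (algebraMap k k') = algebraMap k K := σ.comp_algebraMap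
      rw [this]
      exact pullback.condition)

@[reassoc]
lemma tower_fst : tower k X k' K σ ≫ Curv2.bcFst k X k' = Curv2.bcFst k X K :=
  pullback.lift_fst _ _ _

@[reassoc]
lemma tower_snd : tower k X k' K σ ≫ Curv2.bcSnd k X k' =
    Curv2.bcSnd k X K ≫ Spec.map (CommRingCat.ofHom σ.toRingHom) :=
  pullback.lift_snd _ _ _

lemma isPullback_tower :
    IsPullback (tower k X k' K σ) (Curv2.bcSnd k X K) (Curv2.bcSnd k X k')
      (Spec.map (CommRingCat.ofHom σ.toRingHom)) := by
  refine IsPullback.of_right ?_ (tower_snd k X k' K σ) (IsPullback.of_hasPullback _ _)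
  rw [tower_fst, ← Spec.map_comp, ← CommRingCat.ofHom_comp]
  have : σ.toRingHom.comp (algebraMap k k') = algebraMap k K := σ.comp_algebraMap
  rw [this]
  exact IsPullback.of_hasPullback _ _

instance flat_tower : Flat (tower k X k' K σ) := by
  haveI : Flat (Spec.map (CommRingCat.ofHom σ.toRingHom)) := by
    rw [HasRingHomProperty.Spec_iff (P := @Flat)]
    exact RingHom.Flat.of_isField (Field.toIsField k') _
  exact MorphismProperty.of_isPullback (isPullback_tower k X k' K σ).flip inferInstance

end Tower

section StalkInj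

/-- the stalk maps of a flat morphism are injective -/
lemma stalkMap_injective_of_flat {X Y : Scheme.{u}} (f : X ⟶ Y) [Flat f] (x : X) :
    Function.Injective (f.stalkMap x).hom := by
  algebraize [(f.stalkMap x).hom]
  have : Module.FaithfullyFlat (Y.presheaf.stalk (f x)) (X.presheaf.stalk x) :=
    @Module.FaithfullyFlat.of_flat_of_isLocalHom _ _ _ _ _ _ _
      (Flat.stalkMap f x) (f.toLRSHom.prop x)
  exact ‹RingHom.FaithfullyFlat _›.injective

end StalkInj

section Node

attribute [local instance] Curv2.stalkAlgebra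

variable (k : Type u) [Field k] (X : Scheme.{u}) [X.Over (Spec (CommRingCat.of k))]
  [LocallyOfFiniteType (X ↘ Spec (CommRingCat.of k))]

/-- **the local ring at a node is a geometrically reduced `k`-algebra** -/
theorem isGeometricallyReduced_stalk_of_isNode (x : X) (hx : Curv2.IsNode k X x) :
    Algebra.IsGeometricallyReduced k (X.presheaf.stalk x) := by
  obtain ⟨-, xb, hxb, hodp⟩ := hx
  have hred := isReduced_stalk_of_isOrdDoublePt k X xb hodp
  refine Groth.Agent.Lib.Helper6.BcRed.isGeometricallyReduced_stalk_of_purelyInseparable k X x ?_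
  intro k' _ _ _ _ x' hx'
  let σ : k' →ₐ[k] AlgebraicClosure k := IsAlgClosed.lift
  have h1 : Curv2.bcFst k X k' (tower k X k' (AlgebraicClosure k) σ xb) = x := by
    rw [← Scheme.Hom.comp_apply, tower_fst]; exact hxb
  haveI : UniversallyInjective (Curv2.bcFst k X k') :=
    MorphismProperty.pullback_fst (P := @UniversallyInjective) _ _ inferInstance
  have h2 : tower k X k' (AlgebraicClosure k) σ xb = x' :=
    (Curv2.bcFst k X k').injective (h1.trans hx'.symm)
  subst h2
  haveI := hred
  exact isReduced_of_injective _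
    (stalkMap_injective_of_flat (tower k X k' (AlgebraicClosure k) σ) xb)

end Node

section Smooth

variable (k : Type u) [Field k] (X : Scheme.{u}) [X.Over (Spec (CommRingCat.of k))]

/-- the local rings of `X_K` at the points over a smooth open of `X` are reduced -/
theorem isReduced_stalk_of_smooth (K : Type u) [Field K] [Algebra k K] (U : X.Opens)
    (hU : Smooth (U.ι ≫ (X ↘ Spec (CommRingCat.of k)))) (y : Curv2.bc k X K)
    (hy : Curv2.bcFst k X K y ∈ U) :
    _root_.IsReduced ((Curv2.bc k X K).presheaf.stalk y) := by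
  have hpb : IsPullback ((Curv2.bcFst k X K) ∣_ U)
      (((Curv2.bcFst k X K) ⁻¹ᵁ U).ι ≫ Curv2.bcSnd k X K)
      (U.ι ≫ (X ↘ Spec (CommRingCat.of k))) (Spec.map (CommRingCat.ofHom (algebraMap k K))) :=
    (isPullback_morphismRestrict (Curv2.bcFst k X K) U).paste_vert (IsPullback.of_hasPullback _ _)
  haveI : Smooth (((Curv2.bcFst k X K) ⁻¹ᵁ U).ι ≫ Curv2.bcSnd k X K) :=
    MorphismProperty.of_isPullback hpb hU
  haveI : AlgebraicGeometry.IsReduced (((Curv2.bcFst k X K) ⁻¹ᵁ U : (Curv2.bc k X K).Opens) : Scheme.{u}) :=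
    Groth.Agent.Lib.Helper6.SmGeom.isReduced_of_smooth_over_field K _
      (((Curv2.bcFst k X K) ⁻¹ᵁ U).ι ≫ Curv2.bcSnd k X K)
  have key : ∀ v : (((Curv2.bcFst k X K) ⁻¹ᵁ U : (Curv2.bc k X K).Opens) : Scheme.{u}),
      _root_.IsReduced ((Curv2.bc k X K).presheaf.stalk (((Curv2.bcFst k X K) ⁻¹ᵁ U).ι v)) := by
    intro v
    haveI : IsIso ((((Curv2.bcFst k X K) ⁻¹ᵁ U).ι).stalkMap v) := inferInstance
    exact isReduced_of_injective ((((Curv2.bcFst k X K) ⁻¹ᵁ U).ι).stalkMap v).hom
      ((ConcreteCategory.bijective_of_isIso ((((Curv2.bcFst k X K) ⁻¹ᵁ U).ι).stalkMap v)).1)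
  exact key ⟨y, hy⟩

end Smooth

section Main

attribute [local instance] Curv2.stalkAlgebra

variable (k : Type u) [Field k] (X : Scheme.{u}) [X.Over (Spec (CommRingCat.of k))]
  [LocallyOfFiniteType (X ↘ Spec (CommRingCat.of k))]

/-- **a quasi-compact `k`-scheme locally of finite type with at-worst-nodal singularities is geometrically reduced** -/
theorem geometricallyReduced_of_atWorstNodal [CompactSpace X] (h : Curv2.AtWorstNodal k X) :
    GeometricallyReduced (X ↘ Spec (CommRingCat.of k)) := by
  haveI : IsIntegralHom (Spec.map (CommRingCat.ofHom (algebraMap k (AlgebraicClosure k)))) := by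
    rw [IsIntegralHom.SpecMap_iff]
    exact algebraMap_isIntegral_iff.mpr inferInstance
  haveI : IsIntegralHom (Curv2.bcFst k X (AlgebraicClosure k)) :=
    MorphismProperty.pullback_fst (P := @IsIntegralHom) _ _ inferInstance
  haveI : CompactSpace (Curv2.bc k X (AlgebraicClosure k)) :=
    QuasiCompact.compactSpace_of_compactSpace (Curv2.bcFst k X (AlgebraicClosure k))
  haveI : AlgebraicGeometry.IsReduced (Curv2.bc k X (AlgebraicClosure k)) := by
    refine isReduced_of_closedPoints _ (fun y hy => ?_)
    have hcl : IsClosed ({Curv2.bcFst k X (AlgebraicClosure k) y} : Set X) := by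
      have := (Curv2.bcFst k X (AlgebraicClosure k)).isClosedMap _ hy
      rwa [Set.image_singleton] at this
    rcases h _ hcl with ⟨U, hxU, hU⟩ | hnode
    · exact isReduced_stalk_of_smooth k X (AlgebraicClosure k) U hU y hxU
    · haveI := isGeometricallyReduced_stalk_of_isNode k X _ hnode
      exact Groth.Agent.Lib.Helper6.BcRed.isGeomReducedAt_of_isGeometricallyReduced_stalk k X _
        (AlgebraicClosure k) y rfl
  exact Groth.Agent.Lib.Helper6.BcRed.geometricallyReduced_of_isReduced_bc_perfect k X
    (AlgebraicClosure k)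

end Main

section Dim

/-- a space all of whose irreducible components have dimension `≤ n` has dimension `≤ n` -/
theorem topologicalKrullDim_le_of_irreducibleComponents {T : Type*} [TopologicalSpace T] (n : ℕ)
    (h : ∀ Z ∈ irreducibleComponents T, topologicalKrullDim Z ≤ n) : topologicalKrullDim T ≤ n := by
  unfold topologicalKrullDim Order.krullDim
  refine iSup_le fun p => ?_
  -- an irreducible component containing the last member of the chain
  obtain ⟨Z, hZ, hsub, hmax⟩ := exists_preirreducible (p.last : Set T) p.last.isIrreducible.isPreirreducible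
  have hZirr : IsIrreducible Z := ⟨p.last.isIrreducible.nonempty.mono hsub, hZ⟩
  have hZmem : Z ∈ irreducibleComponents T := by
    refine ⟨hZirr, fun u hu hzu => ?_⟩
    exact (hmax u hu.isPreirreducible hzu).le
  have hZcl : IsClosed Z := isClosed_of_mem_irreducibleComponents Z hZmem
  have hle : ∀ i, (p i : Set T) ⊆ Z := fun i =>
    (show (p i : Set T) ⊆ p.last from p.monotone (Fin.le_last i)).trans hsub
  -- the chain inside `Z`
  let q : Fin (p.length + 1) → IrreducibleCloseds Z := fun i =>
    { carrier := Subtype.val ⁻¹' (p i : Set T)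
      isIrreducible' := by
        refine ⟨?_, ?_⟩
        · obtain ⟨x, hx⟩ := (p i).isIrreducible.nonempty
          exact ⟨⟨x, hle i hx⟩, hx⟩
        · intro u v hu hv ⟨a, ha, hau⟩ ⟨b, hb, hbv⟩
          obtain ⟨u', hu', rfl⟩ := isOpen_induced_iff.mp hu
          obtain ⟨v', hv', rfl⟩ := isOpen_induced_iff.mp hv
          obtain ⟨c, hc, hcu, hcv⟩ := (p i).isIrreducible.isPreirreducible u' v' hu' hv'
            ⟨a, ha, hau⟩ ⟨b, hb, hbv⟩
          exact ⟨⟨c, hle i hc⟩, hc, hcu, hcv⟩
      isClosed' := (p i).isClosed.preimage continuous_subtype_val }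
  have hq : StrictMono q := by
    intro i j hij
    have hlt := p.strictMono hij
    refine lt_of_le_of_ne (fun x hx => (le_of_lt hlt) hx) ?_
    intro heq
    apply ne_of_lt hlt
    apply IrreducibleCloseds.ext
    ext x
    constructor
    · exact fun hx => (le_of_lt hlt) hx
    · intro hx
      have : (⟨x, hle j hx⟩ : Z) ∈ (q j : Set Z) := hx
      rw [← heq] at this
      exact this
  have hlen := Order.LTSeries.length_le_krullDim (LTSeries.mk p.length q hq)
  exact hlen.trans (h Z hZmem)

end Dim

end Groth.Agent.Lib.R2H2.NodalRed
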