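import Mathlib
import Groth.Prelude
import Groth.Agent.Lib.H9SemiTrivC
import Groth.Agent.Lib.R2H2NodalRed
import Groth.Agent.Lib.R2LeadPicFibre
set_option backward.isDefEq.respectTransparency.types false

/-!
# Nodal families over a DVR: reducedness and connectedness of the closed fibre (helper9)

* `isReduced_fibre` : the closed fibre of a proper nodal family over a DVR is reduced.
* `isReduced_pullback` : so is `X ×_R Spec k`.
* `main` : generically trivial invertible modules of multidegree zero on a nodal family with
  connected geometric fibres are trivial.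
-/

set_option autoImplicit false
set_option linter.style.haveILetI false
set_option linter.unusedSectionVars false
universe u
open CategoryTheory CategoryTheory.Limits AlgebraicGeometry TopologicalSpace Opposite IsLocalRing

noncomputable section

namespace Groth.Agent.Lib.H9SemiTrivD

open Groth.Agent.Lib.H9MinSm

variable (R : Type u) [CommRing R] [IsDomain R] [IsDiscreteValuationRing R]
variable {X : Scheme.{u}} (f : X ⟶ Spec (CommRingCat.of R)) [IsProper f]

theorem isReduced_fibre (hf : Curv2.IsNodalFamily f) :
    AlgebraicGeometry.IsReduced (f.fiber (closedPoint R)) := by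
  obtain ⟨hflat, hfp, h⟩ := hf
  haveI := hflat
  haveI := hfp
  letI : (f.fiber (closedPoint R)).Over
      (Spec ((Spec (CommRingCat.of R)).residueField (closedPoint R))) :=
    ⟨f.fiberToSpecResidueField (closedPoint R)⟩
  have hn := (h (closedPoint R)).2
  haveI : LocallyOfFiniteType (f.fiberToSpecResidueField (closedPoint R)) :=
    MorphismProperty.pullback_snd (P := @LocallyOfFiniteType) _ _ inferInstance
  haveI hlft2 : LocallyOfFiniteType ((f.fiber (closedPoint R)) ↘
      Spec (CommRingCat.of ((Spec (CommRingCat.of R)).residueField (closedPoint R)))) :=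
    MorphismProperty.pullback_snd (P := @LocallyOfFiniteType) _ _ inferInstance
  haveI : CompactSpace (f.fiber (closedPoint R)) := inferInstance
  have hg := Groth.Agent.Lib.R2H2.NodalRed.geometricallyReduced_of_atWorstNodal
    ((Spec (CommRingCat.of R)).residueField (closedPoint R)) (f.fiber (closedPoint R)) hn
  exact hg.geometrically_isReduced (𝟙 _) (𝟙 _) (f.fiberToSpecResidueField (closedPoint R))
    IsPullback.of_id_fst

theorem isReduced_pullback (hf : Curv2.IsNodalFamily f) :
    AlgebraicGeometry.IsReduced (pullback f (ik R)) := by
  haveI := hf.1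
  haveI := isReduced_fibre R f hf
  haveI hiso : IsIso (Groth.Agent.Lib.R2Lead.PicFibre.θ f) := inferInstance
  let e : f.fiber (closedPoint R) ≅ pullback f (Groth.Agent.Lib.R2Lead.PicFibre.rr R) :=
    @asIso _ _ _ _ (Groth.Agent.Lib.R2Lead.PicFibre.θ f) hiso
  exact isReduced_of_isOpenImmersion e.inv

theorem main (hf : Curv2.IsNodalFamily f)
    (hconn : ConnectedSpace ↑(pullback f (ik R)))
    (L : X.Modules) (hL : PicF.IsInvertible L)
    (hgen : Nonempty ((Scheme.Modules.pullback (pullback.fst f (Neron.genPt R))).obj L ≅
      Coh.structureModule (pullback f (Neron.genPt R))))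
    (hdeg : ∀ Γ : ArSurf.VertComp R (Over.mk f), ArSurf.inter R (Over.mk f) L Γ = 0) :
    Nonempty (L ≅ Coh.structureModule X) := by
  haveI := hf.1
  haveI := isReduced_pullback R f hf
  have hcomp := (hf.2.2 (closedPoint R)).1
  have hc : _root_.IsPreconnected (Models.specialFibreSet R (Over.mk f)) := by
    have h1 : Models.specialFibreSet R (Over.mk f) = Set.range (pullback.fst f (ik R)).base :=
      (range_fst R f).symm
    rw [h1]
    exact isPreconnected_range (pullback.fst f (ik R)).continuous
  exact Groth.Agent.Lib.H9SemiTrivC.main f hcomp hc L hL hgen hdeg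

end Groth.Agent.Lib.H9SemiTrivD
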