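import Mathlib

set_option autoImplicit false
set_option linter.style.haveILetI false
set_option linter.unusedSectionVars false
universe u v w

namespace Groth.Agent.Lib.H9SemilocalSop

-- ===== from SP1 =====
section SecSP1
section Sop

variable {A : Type u} [CommRing A]

/-- every prime containing `I` is maximal or of height at least `i` -/
def Q (I : Ideal A) (i : ℕ) : Prop :=
  ∀ p : Ideal A, p.IsPrime → I ≤ p → p.IsMaximal ∨ (i : ℕ∞) ≤ p.height

theorem Q_zero (I : Ideal A) : Q I 0 := fun p _ _ => Or.inr (by simp)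

variable [IsNoetherianRing A]

/-- the inductive step: add an element avoiding the non-maximal minimal primes -/
theorem exists_step (I : Ideal A) (i : ℕ) (hQ : Q I i) (c : Ideal A)
    (hc : ∀ p ∈ I.minimalPrimes, ¬ p.IsMaximal → ¬ c ≤ p) :
    ∃ z ∈ c, Q (I ⊔ Ideal.span {z}) (i + 1) := by
  classical
  have hfin : I.minimalPrimes.Finite := Ideal.finite_minimalPrimes_of_isNoetherianRing A I
  let S : Finset (Ideal A) := hfin.toFinset.filter (fun p => ¬ p.IsMaximal)
  have hS : ∀ p ∈ S, p ∈ I.minimalPrimes ∧ ¬ p.IsMaximal := by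
    intro p hp
    obtain ⟨h1, h2⟩ := Finset.mem_filter.mp hp
    exact ⟨hfin.mem_toFinset.mp h1, h2⟩
  have hnot : ¬ ((c : Set A) ⊆ ⋃ p ∈ (S : Set (Ideal A)), (p : Set A)) := by
    intro hsub
    obtain ⟨p, hpS, hcp⟩ := (Ideal.subset_union_prime (f := fun p : Ideal A => p) ⊥ ⊥
      (fun p hp _ _ => (hS p hp).1.1.1)).mp hsub
    exact hc p (hS p hpS).1 (hS p hpS).2 hcp
  obtain ⟨z, hzc, hz⟩ := Set.not_subset.mp hnot
  refine ⟨z, hzc, ?_⟩
  intro p hp hle
  by_cases hmax : p.IsMaximal
  · exact Or.inl hmax
  right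
  have hIp : I ≤ p := le_sup_left.trans hle
  have hzp : z ∈ p := hle (Ideal.mem_sup_right (Ideal.subset_span rfl))
  obtain ⟨p₀, hp₀min, hp₀p⟩ := Ideal.exists_minimalPrimes_le hIp
  haveI := hp₀min.1.1
  have hp₀max : ¬ p₀.IsMaximal := by
    intro h
    exact hmax ((h.eq_of_le hp.ne_top hp₀p) ▸ h)
  have hp₀S : p₀ ∈ S := Finset.mem_filter.mpr ⟨hfin.mem_toFinset.mpr hp₀min, hp₀max⟩
  have hzp₀ : z ∉ p₀ := by
    intro h
    apply hz
    simp only [Set.mem_iUnion]
    exact ⟨p₀, hp₀S, h⟩
  have hlt : p₀ < p := lt_of_le_of_ne hp₀p (fun h => hzp₀ (h ▸ hzp))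
  have h1 := Ideal.height_add_one_le_of_lt_of_isPrime hlt
  rcases hQ p₀ hp₀min.1.1 hp₀min.1.2 with h | h
  · exact absurd h hp₀max
  · push_cast
    exact (add_le_add_left h 1).trans h1

theorem height_le_length_of_mem_minimalPrimes_ofList (zs : List A) (p : Ideal A)
    (hp : p ∈ (Ideal.ofList zs).minimalPrimes) : p.height ≤ zs.length := by
  classical
  have hset : {r | r ∈ zs} = (zs.toFinset : Set A) := by
    ext x
    simp
  have h1 : Ideal.ofList zs = Ideal.span (zs.toFinset : Set A) := by
    change Ideal.span {r | r ∈ zs} = _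
    rw [hset]
  rw [h1] at hp
  have h2 := Ideal.height_le_card_of_mem_minimalPrimes_span_finset hp
  exact h2.trans (by exact_mod_cast zs.toFinset_card_le)

variable [Finite (MaximalSpectrum A)]

theorem isMaximal_of_jacobson_le (p : Ideal A) [hp : p.IsPrime] (h : Ring.jacobson A ≤ p) :
    p.IsMaximal := by
  classical
  have hfin : {I : Ideal A | I.IsMaximal}.Finite := by
    have : {I : Ideal A | I.IsMaximal} = Set.range (fun m : MaximalSpectrum A => m.asIdeal) := by
      ext I
      constructor
      · intro hI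
        exact ⟨⟨I, hI⟩, rfl⟩
      · rintro ⟨m, rfl⟩
        exact m.isMaximal
    rw [this]
    exact Set.finite_range _
  rw [Ring.jacobson_eq_sInf_isMaximal] at h
  have h2 : hfin.toFinset.inf id ≤ p := by
    rw [Finset.inf_id_eq_sInf, Set.Finite.coe_toFinset]
    exact h
  obtain ⟨m, hm, hmp⟩ := (Ideal.IsPrime.inf_le' hp).mp h2
  have hmmax : m.IsMaximal := hfin.mem_toFinset.mp hm
  exact (hmmax.eq_of_le hp.ne_top hmp) ▸ hmmax

theorem exists_dim [Nontrivial A] : ∃ d : ℕ, ringKrullDim A = ((d : ℕ∞) : WithBot ℕ∞) := by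
  classical
  have hfin : {I : Ideal A | I.IsMaximal}.Finite := by
    have : {I : Ideal A | I.IsMaximal} = Set.range (fun m : MaximalSpectrum A => m.asIdeal) := by
      ext I
      constructor
      · intro hI
        exact ⟨⟨I, hI⟩, rfl⟩
      · rintro ⟨m, rfl⟩
        exact m.isMaximal
    rw [this]
    exact Set.finite_range _
  have hlt : (⨆ (I : Ideal A) (_ : I.IsMaximal), I.height) < ⊤ := by
    have hle : (⨆ (I : Ideal A) (_ : I.IsMaximal), I.height) ≤ hfin.toFinset.sup Ideal.height := by
      refine iSup_le fun I => iSup_le fun hI => ?_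
      exact Finset.le_sup (f := Ideal.height) (hfin.mem_toFinset.mpr hI)
    refine lt_of_le_of_lt hle ?_
    rw [Finset.sup_lt_iff (by simp)]
    intro I hI
    haveI : I.IsMaximal := hfin.mem_toFinset.mp hI
    exact Ideal.height_lt_top (Ideal.IsMaximal.ne_top ‹_›)
  refine ⟨(⨆ (I : Ideal A) (_ : I.IsMaximal), I.height).toNat, ?_⟩
  rw [← Ideal.sup_isMaximal_height_eq_ringKrullDim, ENat.natCast_toNat hlt.ne]

end Sop

end SecSP1

-- ===== from SP2 =====
section SecSP2
section Main

variable {A : Type u} [CommRing A] [IsNoetherianRing A] [Finite (MaximalSpectrum A)]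

theorem exists_seq (a : Ideal A) (h : ℕ) (hh : a.height = h) :
    ∀ i : ℕ, ∃ zs : List A, zs.length = i ∧ (∀ z ∈ zs, z ∈ Ring.jacobson A) ∧
      (∀ z ∈ zs.take h, z ∈ a) ∧ Q (Ideal.ofList zs) i ∧
      Q (Ideal.ofList (zs.take h)) (min i h) := by
  intro i
  induction i with
  | zero =>
    refine ⟨[], rfl, ?_, ?_, ?_, ?_⟩
    · intro z hz; exact absurd hz List.not_mem_nil
    · intro z hz; rw [List.take_nil] at hz; exact absurd hz List.not_mem_nil
    · exact Q_zero _
    · rw [Nat.zero_min]; exact Q_zero _
  | succ i ih =>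
    obtain ⟨zs, hlen, hr, ha, hQ, hQh⟩ := ih
    have hkrull : ∀ p ∈ (Ideal.ofList zs).minimalPrimes, p.height ≤ (i : ℕ∞) := by
      intro p hp
      have := height_le_length_of_mem_minimalPrimes_ofList zs p hp
      rwa [hlen] at this
    by_cases hih : i < h
    · -- choose in `a ⊓ r`
      have hc : ∀ p ∈ (Ideal.ofList zs).minimalPrimes, ¬ p.IsMaximal →
          ¬ a ⊓ Ring.jacobson A ≤ p := by
        intro p hp hmax hle
        haveI := hp.1.1
        rcases (Ideal.IsPrime.inf_le hp.1.1).mp hle with h1 | h1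
        · have h2 : a.height ≤ p.height := Ideal.height_mono h1
          have h3 := hkrull p hp
          rw [hh] at h2
          have : (h : ℕ∞) ≤ (i : ℕ∞) := h2.trans h3
          have : h ≤ i := by exact_mod_cast this
          omega
        · exact hmax (isMaximal_of_jacobson_le p h1)
      obtain ⟨z, hz, hQz⟩ := exists_step (Ideal.ofList zs) i hQ _ hc
      have htake : zs.take h = zs := List.take_of_length_le (by omega)
      have htake' : (zs ++ [z]).take h = zs ++ [z] :=
        List.take_of_length_le (by rw [List.length_append, List.length_singleton]; omega)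
      have hof : Ideal.ofList (zs ++ [z]) = Ideal.ofList zs ⊔ Ideal.span {z} := by
        rw [Ideal.ofList_append, Ideal.ofList_singleton]
      refine ⟨zs ++ [z], ?_, ?_, ?_, ?_, ?_⟩
      · rw [List.length_append, List.length_singleton, hlen]
      · intro z' hz'
        rcases List.mem_append.mp hz' with h1 | h1
        · exact hr z' h1
        · rw [List.mem_singleton.mp h1]; exact hz.2
      · intro z' hz'
        rw [htake'] at hz'
        rcases List.mem_append.mp hz' with h1 | h1
        · exact ha z' (htake.symm ▸ h1)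
        · rw [List.mem_singleton.mp h1]; exact hz.1
      · rw [hof]; exact hQz
      · rw [htake', hof, min_eq_left (by omega)]; exact hQz
    · -- choose in `r`
      have hc : ∀ p ∈ (Ideal.ofList zs).minimalPrimes, ¬ p.IsMaximal →
          ¬ Ring.jacobson A ≤ p := by
        intro p hp hmax hle
        haveI := hp.1.1
        exact hmax (isMaximal_of_jacobson_le p hle)
      obtain ⟨z, hz, hQz⟩ := exists_step (Ideal.ofList zs) i hQ _ hc
      have htake' : (zs ++ [z]).take h = zs.take h :=
        List.take_append_of_le_length (by omega)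
      have hof : Ideal.ofList (zs ++ [z]) = Ideal.ofList zs ⊔ Ideal.span {z} := by
        rw [Ideal.ofList_append, Ideal.ofList_singleton]
      refine ⟨zs ++ [z], ?_, ?_, ?_, ?_, ?_⟩
      · rw [List.length_append, List.length_singleton, hlen]
      · intro z' hz'
        rcases List.mem_append.mp hz' with h1 | h1
        · exact hr z' h1
        · rw [List.mem_singleton.mp h1]; exact hz
      · intro z' hz'
        rw [htake'] at hz'
        exact ha z' hz'
      · rw [hof]; exact hQz
      · rw [htake', min_eq_right (by omega)]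
        rw [min_eq_right (by omega)] at hQh
        exact hQh

theorem main (A : Type u) [CommRing A] [IsNoetherianRing A]
    [Finite (MaximalSpectrum A)] (a : Ideal A) (ha : a ≠ ⊤) (h : ℕ) (hh : a.height = h)
    (_hpos : 0 < h) :
    ∃ x : Fin h → A, (∀ i, x i ∈ a) ∧ (∀ i, x i ∈ Ring.jacobson A) ∧
      (∃ ys : List A, (∀ y ∈ ys, y ∈ Ring.jacobson A) ∧
        (((h + ys.length : ℕ) : ℕ∞) : WithBot ℕ∞) = ringKrullDim A ∧
        IsFiniteLength A (A ⧸ (Ideal.span (Set.range x) ⊔ Ideal.ofList ys))) ∧
      (a.map (Ideal.Quotient.mk (Ideal.span (Set.range x)))).height = 0 := by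
  haveI : Nontrivial A := by
    by_contra hnt
    rw [not_nontrivial_iff_subsingleton] at hnt
    exact ha (Subsingleton.elim _ _)
  obtain ⟨d, hd⟩ := exists_dim (A := A)
  have hhd : h ≤ d := by
    have h1 := Ideal.height_le_ringKrullDim_of_ne_top ha
    rw [hh, hd] at h1
    exact_mod_cast h1
  obtain ⟨zs, hlen, hr, hza, hQ, hQh⟩ := exists_seq a h hh d
  rw [min_eq_right hhd] at hQh
  let x : Fin h → A := fun j => zs[j.1]'(by rw [hlen]; exact lt_of_lt_of_le j.2 hhd)
  have hrange : Set.range x = {r | r ∈ zs.take h} := by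
    ext r
    constructor
    · rintro ⟨j, rfl⟩
      rw [Set.mem_ofPred_eq, List.mem_take_iff_getElem]
      exact ⟨j.1, by rw [hlen]; exact lt_min j.2 (lt_of_lt_of_le j.2 hhd), rfl⟩
    · intro hr'
      rw [Set.mem_ofPred_eq, List.mem_take_iff_getElem] at hr'
      obtain ⟨j, hj, rfl⟩ := hr'
      exact ⟨⟨j, (lt_min_iff.mp hj).1⟩, rfl⟩
  have hspan : Ideal.span (Set.range x) = Ideal.ofList (zs.take h) := by
    rw [hrange]
  have hxmem : ∀ j, x j ∈ zs.take h := by
    intro j
    have : x j ∈ Set.range x := ⟨j, rfl⟩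
    rw [hrange] at this
    exact this
  refine ⟨x, fun j => hza _ (hxmem j), fun j => hr _ (List.mem_of_mem_take (hxmem j)), ?_, ?_⟩
  · refine ⟨zs.drop h, fun y hy => hr y (List.mem_of_mem_drop hy), ?_, ?_⟩
    · rw [hd, List.length_drop, hlen]
      congr 2
      omega
    · have hI : Ideal.span (Set.range x) ⊔ Ideal.ofList (zs.drop h) = Ideal.ofList zs := by
        rw [hspan, ← Ideal.ofList_append, List.take_append_drop]
      rw [hI]
      -- all primes containing `I` are maximal
      have hmax : ∀ p : Ideal A, p.IsPrime → Ideal.ofList zs ≤ p → p.IsMaximal := by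
        intro p hp hle
        rcases hQ p hp hle with h1 | h1
        · exact h1
        · by_contra hnm
          obtain ⟨m, hm, hpm⟩ := Ideal.exists_le_maximal p hp.ne_top
          have hlt : p < m := lt_of_le_of_ne hpm (fun h => hnm (h ▸ hm))
          haveI := hm.isPrime
          have h2 := Ideal.height_add_one_le_of_lt_of_isPrime hlt
          have h3 : (m.height : WithBot ℕ∞) ≤ ringKrullDim A :=
            Ideal.height_le_ringKrullDim_of_isPrime
          rw [hd] at h3
          have h4 : m.height ≤ (d : ℕ∞) := by exact_mod_cast h3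
          have h5 : (d : ℕ∞) + 1 ≤ (d : ℕ∞) := (add_le_add_left h1 1).trans (h2.trans h4)
          have : d + 1 ≤ d := by exact_mod_cast h5
          omega
      haveI : Ring.KrullDimLE 0 (A ⧸ Ideal.ofList zs) := by
        rw [Ring.krullDimLE_zero_iff]
        intro J hJ
        have hc : (J.comap (Ideal.Quotient.mk (Ideal.ofList zs))).IsMaximal := by
          refine hmax _ (Ideal.comap_isPrime _ J) ?_
          intro z hz
          rw [Ideal.mem_comap, Ideal.Quotient.eq_zero_iff_mem.mpr hz]
          exact J.zero_mem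
        have hmap := Ideal.map_comap_of_surjective _
          (Ideal.Quotient.mk_surjective (I := Ideal.ofList zs)) J
        rcases Ideal.map_eq_top_or_isMaximal_of_surjective _
          (Ideal.Quotient.mk_surjective (I := Ideal.ofList zs)) hc with h1 | h1
        · rw [hmap] at h1
          exact absurd h1 hJ.ne_top
        · rwa [hmap] at h1
      haveI : IsArtinianRing (A ⧸ Ideal.ofList zs) :=
        IsNoetherianRing.isArtinianRing_of_krullDimLE_zero
      rw [isFiniteLength_iff_isNoetherian_isArtinian]
      exact ⟨isNoetherian_quotient _,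
        isArtinian_of_surjective_algebraMap (Ideal.Quotient.mk_surjective (I := Ideal.ofList zs))⟩
  · -- the image of `a` has height zero
    obtain ⟨q, hq, haq, hqh⟩ := Ideal.exists_isPrime_height_eq hh
    have hIa : Ideal.span (Set.range x) ≤ a := by
      rw [Ideal.span_le]
      rintro _ ⟨j, rfl⟩
      exact hza _ (hxmem j)
    have hIq : Ideal.span (Set.range x) ≤ q := hIa.trans haq
    have hqmin : q ∈ (Ideal.span (Set.range x)).minimalPrimes := by
      obtain ⟨p₀, hp₀, hp₀q⟩ := Ideal.exists_minimalPrimes_le hIq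
      haveI := hp₀.1.1
      have : p₀ = q := by
        rcases hQh p₀ hp₀.1.1 (hspan ▸ hp₀.1.2) with h1 | h1
        · exact h1.eq_of_le hq.ne_top hp₀q
        · have h6 : q.height ≤ p₀.height := by rw [hqh]; exact h1
          exact Ideal.eq_of_le_of_height_le (I := p₀) (J := q) hp₀q h6
      exact this ▸ hp₀
    set I := Ideal.span (Set.range x) with hIdef
    have hker : RingHom.ker (Ideal.Quotient.mk I) ≤ q := by rw [Ideal.mk_ker]; exact hIq
    haveI : (q.map (Ideal.Quotient.mk I)).IsPrime :=
      Ideal.map_isPrime_of_surjective Ideal.Quotient.mk_surjective hker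
    have hqbar : q.map (Ideal.Quotient.mk I) ∈ minimalPrimes (A ⧸ I) := by
      have h1 : (I.map (Ideal.Quotient.mk I)).minimalPrimes =
          Ideal.map (Ideal.Quotient.mk I) '' I.minimalPrimes := by
        have h2 := Ideal.minimalPrimes_map_of_surjective
          (Ideal.Quotient.mk_surjective (I := I)) I
        rwa [Ideal.mk_ker, sup_idem] at h2
      rw [Ideal.map_quotient_self] at h1
      change q.map (Ideal.Quotient.mk I) ∈ (⊥ : Ideal (A ⧸ I)).minimalPrimes
      rw [h1]
      exact ⟨q, hqmin, rfl⟩
    have h0 : (q.map (Ideal.Quotient.mk I)).height = 0 := Ideal.height_eq_zero_iff.mpr hqbar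
    have hle : (a.map (Ideal.Quotient.mk I)).height ≤ (q.map (Ideal.Quotient.mk I)).height :=
      Ideal.height_mono (Ideal.map_mono haq)
    rw [h0] at hle
    exact le_antisymm hle bot_le

end Main

end SecSP2


end Groth.Agent.Lib.H9SemilocalSop
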