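import Mathlib
import Groth.Prelude.Def_BlowUp2
import Groth.Agent.Lib.H9PtVan
import Groth.Agent.Lib.H9ZarCov
import Groth.Agent.Lib.H9BlowExist
import Groth.Agent.Lib.H9FibDepthAlong
import Groth.Agent.Lib.Helper22FTIdeal

set_option autoImplicit false
universe u
open nonZeroDivisors CategoryTheory CategoryTheory.Limits AlgebraicGeometry TopologicalSpace Opposite
open Groth.Agent.Lib.H9PtVan

namespace Groth.Agent.Lib.H9SepBlow

/-- blowing up the sum of two ideals separates the closures of (the preimages of) subsets of their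
supports lying off the common support. -/
theorem disjoint_closure_of_sup {X X' : Scheme.{u}} (𝓘₁ 𝓘₂ : X.IdealSheafData) (b : X' ⟶ X)
    (hb : BlowUp.IsEffCartierIdeal ((𝓘₁ ⊔ 𝓘₂).comap b)) (A₁ A₂ : Set X)
    (hA₁ : A₁ ⊆ 𝓘₁.support) (hA₂ : A₂ ⊆ 𝓘₂.support)
    (hA₁' : Disjoint A₁ ((𝓘₁ ⊔ 𝓘₂).support : Set X))
    (hA₂' : Disjoint A₂ ((𝓘₁ ⊔ 𝓘₂).support : Set X)) :
    Disjoint (closure (b ⁻¹' A₁)) (closure (b ⁻¹' A₂)) := by
  rw [Set.disjoint_left]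
  intro x' hx1 hx2
  set 𝓢 := 𝓘₁ ⊔ 𝓘₂ with h𝓢
  obtain ⟨W, hW, hxW, -⟩ := exists_isAffineOpen_mem_and_subset (x := b x') (U := ⊤) trivial
  obtain ⟨W', hW', hx'W', hW'W, e, he, hIe⟩ :=
    Groth.Agent.Lib.Helper20.EffCartier.exists_le_of_isEffCartierIdeal hb x' (b ⁻¹ᵁ W) hxW
  set α := (b.appLE W W' hW'W).hom with hα
  set J₁ := (𝓘₁.ideal ⟨W, hW⟩).map α with hJ₁
  set J₂ := (𝓘₂.ideal ⟨W, hW⟩).map α with hJ₂
  have hS' : J₁ ⊔ J₂ = Ideal.span {e} := by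
    rw [← hIe, Groth.Agent.Lib.Helper22.IdealComap.ideal_comap_eq_map b 𝓢 ⟨W', hW'⟩ ⟨W, hW⟩ hW'W,
      h𝓢, Scheme.IdealSheafData.ideal_sup, Pi.sup_apply, Ideal.map_sup]
  have hJ₁le : J₁ ≤ Ideal.span {e} := hS' ▸ le_sup_left
  have hJ₂le : J₂ ≤ Ideal.span {e} := hS' ▸ le_sup_right
  set 𝔟₁ := colon J₁ e with h𝔟₁
  set 𝔟₂ := colon J₂ e with h𝔟₂
  have hJb₁ : J₁ = Ideal.span {e} * 𝔟₁ := eq_span_mul_colon _ _ hJ₁le
  have hJb₂ : J₂ = Ideal.span {e} * 𝔟₂ := eq_span_mul_colon _ _ hJ₂le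
  have he' : e ∈ J₁ ⊔ J₂ := by rw [hS']; exact Ideal.mem_span_singleton_self e
  obtain ⟨j₁, hj₁, j₂, hj₂, hj⟩ := Submodule.mem_sup.mp he'
  rw [hJb₁] at hj₁
  rw [hJb₂] at hj₂
  obtain ⟨b₁, hb₁, rfl⟩ := Ideal.mem_span_singleton_mul.mp hj₁
  obtain ⟨b₂, hb₂, rfl⟩ := Ideal.mem_span_singleton_mul.mp hj₂
  have hb12 : b₁ + b₂ = 1 := by
    have h3 : (b₁ + b₂ - 1) * e = 0 := by
      rw [sub_mul, add_mul, one_mul, mul_comm b₁, mul_comm b₂, hj, sub_self]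
    have := (mem_nonZeroDivisors_iff_right.mp he) _ h3
    exact sub_eq_zero.mp this
  have key : ∀ (𝓘 : X.IdealSheafData) (A : Set X), A ⊆ 𝓘.support → Disjoint A (𝓢.support : Set X) →
      x' ∈ closure (b ⁻¹' A) →
      colon ((𝓘.ideal ⟨W, hW⟩).map α) e ≤ vanAt W' x' hx'W' := by
    intro 𝓘 A hA hA' hx β hβ
    by_contra hcon
    obtain ⟨y, hyW', hyA, hyβ⟩ := exists_mem_of_mem_closure hx'W' β hcon _ hx
    have hyW : b y ∈ W := hW'W hyW'
    have h8 : e * β ∈ vanAt W' y hyW' := by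
      have : (𝓘.ideal ⟨W, hW⟩).map α ≤ vanAt W' y hyW' :=
        map_appLE_le_vanAt b hW'W hyW' _
          (ideal_le_vanAt_of_mem_support 𝓘 ⟨W, hW⟩ hyW (hA hyA))
      exact this hβ
    rcases (isPrime_vanAt _ _ _).mem_or_mem h8 with h9 | h9
    · refine gen_not_mem_vanAt (𝓢.comap b) ⟨W', hW'⟩ e hIe hyW' ?_ h9
      intro hc
      rw [Scheme.IdealSheafData.support_comap] at hc
      exact Set.disjoint_left.mp hA' hyA hc
    · exact hyβ h9
  have c1 := key 𝓘₁ A₁ hA₁ hA₁' hx1 hb₁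
  have c2 := key 𝓘₂ A₂ hA₂ hA₂' hx2 hb₂
  have := (vanAt W' x' hx'W').add_mem c1 c2
  rw [hb12] at this
  exact one_not_mem_vanAt hx'W' this


open Topology in
/-- a closed constructible subset of a quasi-compact open `U` of a qcqs scheme is `U ∩ V(F)` for a
finite type ideal `F` whose support contains the complement of `U`. -/
theorem exists_ft_support {X : Scheme.{u}} [CompactSpace X] [QuasiSeparatedSpace X]
    (U : X.Opens) (hU : IsCompact (U : Set X)) (T : Set U) (hT : IsClosed T)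
    (cT : IsConstructible T) :
    ∃ F : X.IdealSheafData, BlowUp.IsFiniteTypeIdeal F ∧
      (F.support : Set X) = (Subtype.val '' Tᶜ)ᶜ := by
  haveI i1 : CompactSpace ↥U := isCompact_iff_compactSpace.mp hU
  haveI : QuasiSober ↥U := (inferInstance : QuasiSober (U : Scheme.{u}))
  haveI : PrespectralSpace ↥U := (inferInstance : PrespectralSpace (U : Scheme.{u}))
  haveI : QuasiSeparatedSpace ↥U :=
    QuasiSeparatedSpace.of_isOpenEmbedding U.2.isOpenEmbedding_subtypeVal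
  have hc : IsCompact (Tᶜ : Set U) :=
    @Groth.Agent.Lib.H9FibDepthAlong.isCompact_of_isConstructible ↥U _ i1 _ _ _ _ cT.compl
  let O : X.Opens := ⟨Subtype.val '' Tᶜ, U.2.isOpenEmbedding_subtypeVal.isOpenMap _ hT.isOpen_compl⟩
  have hO : IsCompact (O : Set X) := hc.image continuous_subtype_val
  obtain ⟨F, hF, hFs⟩ := Groth.Agent.Lib.H9ZarCov.exists_ft_support_eq_compl O hO
  exact ⟨F, hF, hFs⟩


open Topology in
theorem main {X : Scheme.{u}} [CompactSpace X] [QuasiSeparatedSpace X]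
    (U : X.Opens) (hU : IsCompact (U : Set X)) (T₁ T₂ : Set U)
    (h₁ : IsClosed T₁) (h₂ : IsClosed T₂) (c₁ : IsConstructible T₁) (c₂ : IsConstructible T₂)
    (hd : Disjoint T₁ T₂) :
    ∃ (𝓘 : X.IdealSheafData) (X' : Scheme.{u}) (b : X' ⟶ X), BlowUp.IsBlowUp b 𝓘 ∧
      BlowUp.IsAdmissibleFor U 𝓘 ∧
      Disjoint (closure (b.base ⁻¹' (Subtype.val '' T₁))) (closure (b.base ⁻¹' (Subtype.val '' T₂))) := by
  obtain ⟨F₁, hF₁, hs₁⟩ := exists_ft_support U hU T₁ h₁ c₁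
  obtain ⟨F₂, hF₂, hs₂⟩ := exists_ft_support U hU T₂ h₂ c₂
  obtain ⟨X', b, hb⟩ := Groth.Agent.Lib.H9BlowExist.exists_isBlowUp (F₁ ⊔ F₂)
  have hmem : ∀ (T : Set U) (x : X) (hx : x ∈ U), x ∈ (Subtype.val '' Tᶜ)ᶜ → (⟨x, hx⟩ : U) ∈ T := by
    intro T x hx hxc
    by_contra hcon
    exact hxc ⟨⟨x, hx⟩, hcon, rfl⟩
  have hsupp : Disjoint ((F₁ ⊔ F₂).support : Set X) (U : Set X) := by
    rw [Set.disjoint_left]
    intro x hx hxU
    rw [Scheme.IdealSheafData.support_sup] at hx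
    have hx1 : x ∈ (F₁.support : Set X) := hx.1
    have hx2 : x ∈ (F₂.support : Set X) := hx.2
    rw [hs₁] at hx1
    rw [hs₂] at hx2
    exact Set.disjoint_left.mp hd (hmem T₁ x hxU hx1) (hmem T₂ x hxU hx2)
  have hsub : ∀ (T : Set U) (F : X.IdealSheafData), (F.support : Set X) = (Subtype.val '' Tᶜ)ᶜ →
      Subtype.val '' T ⊆ (F.support : Set X) := by
    rintro T F hF _ ⟨t, ht, rfl⟩
    rw [hF]
    rintro ⟨t', ht', htt'⟩
    exact ht' ((Subtype.val_injective htt') ▸ ht)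
  have hoff : ∀ (T : Set U), Disjoint (Subtype.val '' T) ((F₁ ⊔ F₂).support : Set X) := by
    intro T
    rw [Set.disjoint_left]
    rintro _ ⟨t, -, rfl⟩ hc
    exact Set.disjoint_left.mp hsupp hc t.2
  refine ⟨F₁ ⊔ F₂, X', b, hb, ⟨?_, hsupp⟩, ?_⟩
  · exact Groth.Agent.Lib.Helper22.FTIdeal.FT.sup hF₁ hF₂
  · exact disjoint_closure_of_sup F₁ F₂ b hb.1 _ _ (hsub T₁ F₁ hs₁) (hsub T₂ F₂ hs₂) (hoff T₁)
      (hoff T₂)


end Groth.Agent.Lib.H9SepBlow
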