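import Mathlib
import Groth.Prelude.Def_BlowUp2
import Groth.Agent.Lib.H9PtVan
import Groth.Agent.Lib.H9ZarCov
import Groth.Agent.Lib.H9BlowExt
import Groth.Agent.Lib.Helper22FTIdeal

set_option autoImplicit false
universe u
open nonZeroDivisors CategoryTheory CategoryTheory.Limits AlgebraicGeometry TopologicalSpace Opposite
open Groth.Agent.Lib.H9PtVan

namespace Groth.Agent.Lib.H9SepBlow2

theorem core_gen {X Z X' : Scheme.{u}} (p : Z ⟶ X) (X₀ : X.Opens) (F : Set X)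
    (𝔞 IF : X.IdealSheafData) (h₁ : Disjoint (𝔞.support : Set X) (X₀ : Set X))
    (hFsupp : F ⊆ IF.support) (h₂ : IF ≤ 𝔞)
    (O : Z.Opens)
    (h₃ : ∀ M : Z.affineOpens, M.1 ≤ O → (𝔞.comap p).ideal M ≤ (IF.comap p).ideal M)
    (π : X' ⟶ X) (hπ : BlowUp.IsEffCartierIdeal (𝔞.comap π))
    (z : ↑(pullback p π)) (hzO : pullback.fst p π z ∈ O)
    (hz1 : pullback.snd p π z ∈ closure (π ⁻¹' (F ∩ (X₀ : Set X))))
    (hz2 : z ∈ closure (pullback.fst p π ⁻¹' (p ⁻¹ᵁ X₀ : Set Z))) : False := by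
  set x' := pullback.snd p π z with hx'
  obtain ⟨W, hW, hxW, -⟩ := exists_isAffineOpen_mem_and_subset (x := π x') (U := ⊤) trivial
  obtain ⟨W', hW', hx'W', hW'W, e, he, hIe⟩ :=
    Groth.Agent.Lib.Helper20.EffCartier.exists_le_of_isEffCartierIdeal hπ x' (π ⁻¹ᵁ W) hxW
  have hcond : ∀ w : ↑(pullback p π), p (pullback.fst p π w) = π (pullback.snd p π w) := by
    intro w
    rw [← Scheme.Hom.comp_apply, ← Scheme.Hom.comp_apply, pullback.condition]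
  obtain ⟨M, hM, hzM, hMle⟩ := exists_isAffineOpen_mem_and_subset (x := pullback.fst p π z)
    (U := p ⁻¹ᵁ W ⊓ O)
    ⟨by change p (pullback.fst p π z) ∈ W; rw [hcond]; exact hxW, hzO⟩
  have hMW : M ≤ p ⁻¹ᵁ W := hMle.trans inf_le_left
  have hMO : M ≤ O := hMle.trans inf_le_right
  obtain ⟨N, hN, hzN, hNle⟩ := exists_isAffineOpen_mem_and_subset (x := z)
    (U := pullback.snd p π ⁻¹ᵁ W' ⊓ pullback.fst p π ⁻¹ᵁ M) ⟨hx'W', hzM⟩
  have hNW' : N ≤ pullback.snd p π ⁻¹ᵁ W' := hNle.trans inf_le_left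
  have hNM : N ≤ pullback.fst p π ⁻¹ᵁ M := hNle.trans inf_le_right
  set α := (π.appLE W W' hW'W).hom with hα
  set ρ := ((pullback.snd p π).appLE W' N hNW').hom with hρ
  set σ := ((pullback.fst p π).appLE M N hNM).hom with hσ
  set τ := (p.appLE W M hMW).hom with hτ
  have hcomm : ρ.comp α = σ.comp τ :=
    appLE_square (pullback.fst p π) (pullback.snd p π) p π pullback.condition W W' M N _ _ _ _
  have hA' : (𝔞.comap π).ideal ⟨W', hW'⟩ = (𝔞.ideal ⟨W, hW⟩).map α :=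
    Groth.Agent.Lib.Helper22.IdealComap.ideal_comap_eq_map π 𝔞 ⟨W', hW'⟩ ⟨W, hW⟩ hW'W
  have hF' : (IF.ideal ⟨W, hW⟩).map α ≤ Ideal.span {e} := by
    rw [← hIe, hA']; exact Ideal.map_mono (h₂ ⟨W, hW⟩)
  set 𝔟 := colon ((IF.ideal ⟨W, hW⟩).map α) e with h𝔟
  have hFb : (IF.ideal ⟨W, hW⟩).map α = Ideal.span {e} * 𝔟 := eq_span_mul_colon _ _ hF'
  have hM1 : (𝔞.ideal ⟨W, hW⟩).map τ ≤ (IF.ideal ⟨W, hW⟩).map τ := by
    have := h₃ ⟨M, hM⟩ hMO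
    rw [Groth.Agent.Lib.Helper22.IdealComap.ideal_comap_eq_map p 𝔞 ⟨M, hM⟩ ⟨W, hW⟩ hMW,
      Groth.Agent.Lib.Helper22.IdealComap.ideal_comap_eq_map p IF ⟨M, hM⟩ ⟨W, hW⟩ hMW] at this
    exact this
  have h5 : ρ e ∈ Ideal.span {ρ e} * 𝔟.map ρ := by
    have h6 : ρ e ∈ ((𝔞.ideal ⟨W, hW⟩).map α).map ρ :=
      Ideal.mem_map_of_mem ρ (by rw [← hA', hIe]; exact Ideal.mem_span_singleton_self e)
    rw [Ideal.map_map, hcomm, ← Ideal.map_map] at h6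
    have h7 := Ideal.map_mono (f := σ) hM1 h6
    rw [Ideal.map_map, ← hcomm, ← Ideal.map_map, hFb, Ideal.map_mul, Ideal.map_span,
      Set.image_singleton] at h7
    exact h7
  obtain ⟨β', hβ', huγ⟩ := Ideal.mem_span_singleton_mul.mp h5
  have hoff : ∀ y : X', π y ∈ X₀ → y ∉ (𝔞.comap π).support := by
    intro y hy hc
    rw [Scheme.IdealSheafData.support_comap] at hc
    exact Set.disjoint_left.mp h₁ hc hy
  have c1 : 𝔟 ≤ vanAt W' x' hx'W' := by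
    intro β hβ
    by_contra hcon
    obtain ⟨y, hyW', hyA, hyβ⟩ := exists_mem_of_mem_closure hx'W' β hcon _ hz1
    have hyW : π y ∈ W := hW'W hyW'
    have h8 : e * β ∈ vanAt W' y hyW' := by
      have : (IF.ideal ⟨W, hW⟩).map α ≤ vanAt W' y hyW' :=
        map_appLE_le_vanAt π hW'W hyW' _
          (ideal_le_vanAt_of_mem_support IF ⟨W, hW⟩ hyW (hFsupp hyA.1))
      exact this hβ
    rcases (isPrime_vanAt _ _ _).mem_or_mem h8 with h9 | h9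
    · exact gen_not_mem_vanAt (𝔞.comap π) ⟨W', hW'⟩ e hIe hyW' (hoff y hyA.2) h9
    · exact hyβ h9
  have c1' : β' ∈ vanAt N z hzN :=
    map_appLE_le_vanAt (pullback.snd p π) hNW' hzN 𝔟 c1 hβ'
  have c2 : (1 - β') ∈ vanAt N z hzN := by
    by_contra hcon
    obtain ⟨y, hyN, hyA, hyβ⟩ := exists_mem_of_mem_closure hzN (1 - β') hcon _ hz2
    have hyW' : pullback.snd p π y ∈ W' := hNW' hyN
    have h8 : ρ e * (1 - β') ∈ vanAt N y hyN := by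
      have h9 : ρ e * (1 - β') = 0 := by
        rw [mul_sub, mul_one, huγ, sub_self]
      rw [h9]; exact Ideal.zero_mem _
    rcases (isPrime_vanAt _ _ _).mem_or_mem h8 with h9 | h9
    · rw [hρ, appLE_mem_vanAt_iff] at h9
      refine gen_not_mem_vanAt (𝔞.comap π) ⟨W', hW'⟩ e hIe hyW' (hoff _ ?_) h9
      rw [← hcond]; exact hyA
    · exact hyβ h9
  have h10 : (1 : Γ(pullback p π, N)) ∈ vanAt N z hzN := by
    have := (vanAt N z hzN).add_mem c1' c2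
    rwa [add_sub_cancel] at this
  exact one_not_mem_vanAt hzN h10


/-- comparing ideals on affine opens inside an open via restriction to that open. -/
theorem ideal_le_of_comap_ι_le {Z : Scheme.{u}} (A B : Z.IdealSheafData) (O : Z.Opens)
    (h : A.comap O.ι ≤ B.comap O.ι) (M : Z.affineOpens) (hM : M.1 ≤ O) :
    A.ideal M ≤ B.ideal M := by
  have haff : IsAffineOpen (O.ι ⁻¹ᵁ M.1) :=
    M.2.preimage_of_isOpenImmersion O.ι (by rw [Scheme.Opens.opensRange_ι]; exact hM)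
  have hA := Groth.Agent.Lib.Helper20.EffCartier.ideal_comap_eq_map O.ι A haff M.2 le_rfl
  have hB := Groth.Agent.Lib.Helper20.EffCartier.ideal_comap_eq_map O.ι B haff M.2 le_rfl
  have h1 := h ⟨_, haff⟩
  rw [hA, hB] at h1
  have hiso : IsIso (O.ι.app M.1) :=
    Scheme.Hom.isIso_app O.ι M.1 (by rw [Scheme.Opens.opensRange_ι]; exact hM)
  have hbij : Function.Bijective (O.ι.appLE M.1 (O.ι ⁻¹ᵁ M.1) le_rfl).hom := by
    rw [Scheme.Hom.appLE_eq_app]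
    exact ConcreteCategory.bijective_of_isIso (O.ι.app M.1)
  have h2 := Ideal.comap_mono (f := (O.ι.appLE M.1 (O.ι ⁻¹ᵁ M.1) le_rfl).hom) h1
  rw [Ideal.comap_map_of_bijective _ hbij, Ideal.comap_map_of_bijective _ hbij] at h2
  exact h2

open Groth.Agent.Lib.Helper22.FTIdeal in
/-- the centre for S17392. -/
theorem exists_centre {X₁ X₂ : Scheme.{u}} [CompactSpace X₁] [QuasiSeparatedSpace X₁]
    [CompactSpace X₂] [QuasiSeparatedSpace X₂] (q : X₂ ⟶ X₁) [QuasiCompact q]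
    (V₁ : X₁.Opens) (hV₁ : IsCompact (V₁ : Set X₁))
    (Z₁ : Set X₁) (hZ₁ : IsClosed Z₁) (hZ₁c : IsCompact Z₁ᶜ)
    (Z₂ : Set X₂) (hZ₂ : IsClosed Z₂) (hZ₂c : IsCompact Z₂ᶜ)
    (hYZ : (fun x => q x) ⁻¹' (Z₁ ∩ (V₁ : Set X₁)) ⊆ Z₂) :
    ∃ E IF : X₁.IdealSheafData, BlowUp.IsFiniteTypeIdeal E ∧
      (E.support : Set X₁) ⊆ Z₁ \ (V₁ : Set X₁) ∧ Z₁ ⊆ IF.support ∧ IF ≤ E ∧
      ∀ M : X₂.affineOpens, (M.1 : Set X₂) ⊆ Z₂ᶜ → (E.comap q).ideal M ≤ (IF.comap q).ideal M := by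
  classical
  let O₂ : X₂.Opens := ⟨Z₂ᶜ, hZ₂.isOpen_compl⟩
  have hO₂ : IsCompact (O₂ : Set X₂) := hZ₂c
  haveI : QuasiCompact O₂.ι := Groth.Agent.Lib.H9BlowExt.quasiCompact_ι O₂ hO₂
  let O₁ : X₁.Opens := ⟨Z₁ᶜ, hZ₁.isOpen_compl⟩
  obtain ⟨IF, hIFft, hIFs⟩ := Groth.Agent.Lib.H9ZarCov.exists_ft_support_eq_compl O₁ hZ₁c
  have hIFs' : (IF.support : Set X₁) = Z₁ := by
    rw [hIFs]; exact compl_compl Z₁
  set qO := O₂.ι ≫ q with hqO
  set K := (IF.comap qO).map qO with hK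
  have hIFK : IF ≤ K := Scheme.IdealSheafData.le_map_comap IF qO
  have hKs : (K.support : Set X₁) ⊆ Z₁ \ (V₁ : Set X₁) := by
    rw [hK, Scheme.IdealSheafData.support_map]
    change closure (qO '' ((IF.comap qO).support : Set O₂)) ⊆ _
    apply closure_minimal
    · rintro _ ⟨y, hy, rfl⟩
      rw [Scheme.IdealSheafData.support_comap] at hy
      have hy1 : qO y ∈ Z₁ := by rw [← hIFs']; exact hy
      refine ⟨hy1, fun hyV => ?_⟩
      have hy1' : q (O₂.ι y) ∈ Z₁ := by rw [← Scheme.Hom.comp_apply]; exact hy1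
      have hyV' : q (O₂.ι y) ∈ V₁ := by rw [← Scheme.Hom.comp_apply]; exact hyV
      have : O₂.ι y ∈ Z₂ := hYZ ⟨hy1', hyV'⟩
      exact y.2 this
    · exact hZ₁.sdiff V₁.2
  have hKV : ∀ W : X₁.affineOpens, W.1 ≤ V₁ → K.ideal W = ⊤ := by
    intro W hWV
    apply Groth.Agent.Lib.H9BlowExt.ideal_eq_top_of_disjoint
    rw [Set.disjoint_left]
    intro x hx hxW
    exact (hKs hx).2 (hWV hxW)
  have hFTK : FTOn K V₁ := by
    intro W hWV
    rw [hKV W hWV]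
    exact ⟨{1}, by simp⟩
  obtain ⟨s, hs, hsX⟩ := isCompact_iff_finite_and_eq_biUnion_affineOpens.mp
    (show IsCompact ((⊤ : X₁.Opens) : Set X₁) from isCompact_univ)
  obtain ⟨E₀, hE₀le, hE₀ft, hE₀eq⟩ := extend_finset hs.toFinset K V₁ hV₁ hFTK
  have hE₀FT : FT E₀ := by
    intro W
    refine hE₀ft W ?_
    refine le_sup_of_le_right ?_
    intro x hx
    have hx' : x ∈ (⊤ : X₁.Opens) := trivial
    rw [hsX] at hx'
    simpa using hx'
  have hE₀s : Disjoint (E₀.support : Set X₁) (V₁ : Set X₁) := by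
    apply Groth.Agent.Lib.H9BlowExt.disjoint_support_of_ideal_eq_top
    intro W hWV
    rw [hE₀eq W hWV, hKV W hWV]
  refine ⟨E₀ ⊔ IF, IF, FT.sup hE₀FT hIFft, ?_, hIFs'.ge, le_sup_right, ?_⟩
  · intro x hx
    rw [Scheme.IdealSheafData.support_sup] at hx
    refine ⟨?_, fun hxV => Set.disjoint_left.mp hE₀s hx.1 hxV⟩
    rw [← hIFs']; exact hx.2
  · intro M hM
    apply ideal_le_of_comap_ι_le _ _ O₂ _ M hM
    rw [← Scheme.IdealSheafData.comap_comp, ← Scheme.IdealSheafData.comap_comp]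
    have hEK : E₀ ⊔ IF ≤ K := sup_le hE₀le hIFK
    exact (Scheme.IdealSheafData.comap_mono qO hEK).trans
      (Scheme.IdealSheafData.comap_map_le _ qO)


theorem main {X₁ X₂ : Scheme.{u}} [CompactSpace X₁] [QuasiSeparatedSpace X₁] [CompactSpace X₂]
    [QuasiSeparatedSpace X₂]
    (q : X₂ ⟶ X₁) [QuasiCompact q]
    (V₁ : X₁.Opens) (hV₁ : IsCompact (V₁ : Set X₁))
    (U : X₂.Opens) (hU : U ≤ q ⁻¹ᵁ V₁)
    (Z₁ : Set X₁) (hZ₁ : IsClosed Z₁) (hZ₁c : IsCompact Z₁ᶜ)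
    (Z₂ : Set X₂) (hZ₂ : IsClosed Z₂) (hZ₂c : IsCompact Z₂ᶜ)
    (hYZ : (fun x => q x) ⁻¹' (Z₁ ∩ (V₁ : Set X₁)) ⊆ Z₂) :
    ∃ 𝓔 : X₁.IdealSheafData, BlowUp.IsFiniteTypeIdeal 𝓔 ∧
      (𝓔.support : Set X₁) ⊆ Z₁ \ (V₁ : Set X₁) ∧
      ∀ (X₁' : Scheme.{u}) (c : X₁' ⟶ X₁), BlowUp.IsBlowUp c 𝓔 →
        (fun z => (pullback.snd q c) z) ⁻¹' closure ((fun x => c x) ⁻¹' (Z₁ ∩ (V₁ : Set X₁))) ∩
            closure ((fun z => (pullback.fst q c) z) ⁻¹' (U : Set X₂)) ⊆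
          (fun z => (pullback.fst q c) z) ⁻¹' Z₂ := by
  obtain ⟨E, IF, hEft, hEs, hIFs, hIFE, hcmp⟩ :=
    exists_centre q V₁ hV₁ Z₁ hZ₁ hZ₁c Z₂ hZ₂ hZ₂c hYZ
  refine ⟨E, hEft, hEs, ?_⟩
  rintro X₁' c hc z ⟨hz1, hz2⟩
  by_contra hz3
  let O₂ : X₂.Opens := ⟨Z₂ᶜ, hZ₂.isOpen_compl⟩
  have hdisj : Disjoint (E.support : Set X₁) (V₁ : Set X₁) := by
    rw [Set.disjoint_left]
    intro x hx hxV
    exact (hEs hx).2 hxV
  refine core_gen q V₁ Z₁ E IF hdisj hIFs hIFE O₂ (fun M hM => hcmp M hM) c hc.1 z hz3 hz1 ?_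
  refine closure_mono ?_ hz2
  intro w hw
  exact hU hw


end Groth.Agent.Lib.H9SepBlow2
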