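import Mathlib

/-! helper9 (Mathlib only): `exists_algHom_of_isMaximal`, `finite_and_card_le`, `main` — **Galois count**: `N` normal local domain, `F = Frac N`, `E/F` finite separable, `B` the integral closure of `N` in `E` (`IsIntegralClosure B N E`); then `B` has finitely many, at most `[E:F]`, maximal ideals (via normal closure, transitivity of the Galois action `Algebra.IsInvariant.exists_smul_of_under_eq`, and `card_algHom_le_finrank`). -/

set_option autoImplicit false
universe u

namespace Groth.Agent.Lib.H9SepCountA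

open scoped Pointwise

section G

variable (N F E M B D : Type u) [CommRing N] [IsDomain N] [IsIntegrallyClosed N] [IsLocalRing N]
  [Field F] [Algebra N F] [IsFractionRing N F]
  [Field E] [Algebra F E] [Algebra N E] [IsScalarTower N F E]
  [Field M] [Algebra F M] [Algebra N M] [IsScalarTower N F M]
  [Algebra E M] [IsScalarTower F E M] [FiniteDimensional F M] [IsGalois F M]
  [CommRing B] [Algebra N B] [Algebra B E] [IsScalarTower N B E] [IsIntegralClosure B N E]
  [CommRing D] [Algebra N D] [Algebra D M] [IsScalarTower N D M] [IsIntegralClosure D N M]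

theorem exists_algHom_of_isMaximal (𝔐₀ : Ideal D) [𝔐₀.IsMaximal] (𝔫 : Ideal B) [h𝔫 : 𝔫.IsMaximal] :
    ∃ σ : E →ₐ[F] M, ∀ b : B, b ∈ 𝔫 ↔ galRestrict' N B D σ b ∈ 𝔐₀ := by
  let ι : B →ₐ[N] D := galRestrict' N B D (IsScalarTower.toAlgHom F E M)
  have hι : ∀ b, algebraMap D M (ι b) = algebraMap E M (algebraMap B E b) := fun b =>
    algebraMap_galRestrict'_apply N B D (IsScalarTower.toAlgHom F E M) b
  haveI : Algebra.IsIntegral N D := IsIntegralClosure.isIntegral_algebra N M
  have hιint : ι.toRingHom.IsIntegral := by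
    intro d
    have hd : IsIntegral N d := Algebra.IsIntegral.isIntegral d
    obtain ⟨P, hP, hPd⟩ := hd
    refine ⟨P.map (algebraMap N B), hP.map _, ?_⟩
    rw [Polynomial.eval₂_map]
    have : (ι.toRingHom.comp (algebraMap N B)) = algebraMap N D := by
      ext a; exact ι.commutes a
    rw [this]
    exact hPd
  have hιinj : Function.Injective ι := by
    intro b₁ b₂ h
    apply IsIntegralClosure.algebraMap_injective B N E
    apply (algebraMap E M).injective
    rw [← hι, ← hι, h]
  -- a maximal ideal of `D` over `𝔫`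
  obtain ⟨𝔐, h𝔐max, h𝔐⟩ : ∃ 𝔐 : Ideal D, 𝔐.IsMaximal ∧ 𝔐.comap ι.toRingHom = 𝔫 := by
    letI : Algebra B D := ι.toRingHom.toAlgebra
    haveI : Algebra.IsIntegral B D := ⟨hιint⟩
    apply Ideal.exists_ideal_over_maximal_of_isIntegral (R := B) (S := D) 𝔫
    have : RingHom.ker (algebraMap B D) = ⊥ := (RingHom.injective_iff_ker_eq_bot _).mp hιinj
    rw [this]
    exact bot_le
  -- both lie over the maximal ideal of `N`
  have hunder : ∀ (𝔔 : Ideal D), 𝔔.IsMaximal → 𝔔.under N = IsLocalRing.maximalIdeal N := by
    intro 𝔔 h𝔔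
    haveI : (𝔔.under N).IsMaximal :=
      Ideal.isMaximal_comap_of_isIntegral_of_isMaximal (R := N) 𝔔
    exact IsLocalRing.eq_maximalIdeal inferInstance
  have h1 : 𝔐₀.under N = 𝔐.under N := (hunder 𝔐₀ inferInstance).trans (hunder 𝔐 h𝔐max).symm
  -- Galois action
  haveI : IsDomain D := (IsIntegralClosure.algebraMap_injective D N M).isDomain _
  haveI : IsFractionRing D M := IsIntegralClosure.isFractionRing_of_finite_extension N F M D
  letI := IsIntegralClosure.MulSemiringAction N F M D
  haveI : IsGaloisGroup Gal(M/F) N D := IsGaloisGroup.of_isFractionRing Gal(M/F) N D F M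
  haveI := h𝔐max.isPrime
  obtain ⟨g, hg⟩ := Algebra.IsInvariant.exists_smul_of_under_eq N D Gal(M/F) 𝔐₀ 𝔐 h1
  refine ⟨(g⁻¹ : Gal(M/F)).toAlgHom.comp (IsScalarTower.toAlgHom F E M), fun b => ?_⟩
  rw [← h𝔐, Ideal.mem_comap, hg, Ideal.mem_pointwise_smul_iff_inv_smul_mem]
  have : g⁻¹ • (ι.toRingHom b) = galRestrict' N B D
      ((g⁻¹ : Gal(M/F)).toAlgHom.comp (IsScalarTower.toAlgHom F E M)) b := by
    apply IsIntegralClosure.algebraMap_injective D N M
    rw [algebraMap_galRestrict'_apply]
    change algebraMap D M (galRestrict N F M D g⁻¹ (ι b)) = _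
    rw [algebraMap_galRestrict_apply, hι]
    rfl
  rw [this]

include N M D in
theorem finite_and_card_le [FiniteDimensional F E] :
    Finite (MaximalSpectrum B) ∧ Nat.card (MaximalSpectrum B) ≤ Module.finrank F E := by
  classical
  haveI : Nontrivial D := RingHom.domain_nontrivial (algebraMap D M)
  obtain ⟨𝔐₀, h𝔐₀⟩ := Ideal.exists_maximal D
  have key : ∀ 𝔫 : MaximalSpectrum B, ∃ σ : E →ₐ[F] M,
      ∀ b : B, b ∈ 𝔫.asIdeal ↔ galRestrict' N B D σ b ∈ 𝔐₀ := fun 𝔫 =>
    haveI := 𝔫.isMaximal
    exists_algHom_of_isMaximal N F E M B D 𝔐₀ 𝔫.asIdeal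
  choose ψ hψ using key
  have hinj : Function.Injective ψ := by
    intro 𝔫₁ 𝔫₂ h
    apply MaximalSpectrum.ext
    ext b
    rw [hψ 𝔫₁ b, hψ 𝔫₂ b, h]
  haveI : Finite (E →ₐ[F] M) := inferInstance
  refine ⟨Finite.of_injective ψ hinj, ?_⟩
  exact (Nat.card_le_card_of_injective ψ hinj).trans (card_algHom_le_finrank F E M)

end G

section Main

open IntermediateField

/-- **Galois count**: over a normal local domain `N` with fraction field `F`, the integral closure
of `N` in a finite separable extension `E/F` has at most `[E:F]` maximal ideals. -/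
theorem main (N F E B : Type u) [CommRing N] [IsDomain N] [IsIntegrallyClosed N] [IsLocalRing N]
    [Field F] [Algebra N F] [IsFractionRing N F]
    [Field E] [Algebra F E] [Algebra N E] [IsScalarTower N F E]
    [FiniteDimensional F E] [Algebra.IsSeparable F E]
    [CommRing B] [Algebra N B] [Algebra B E] [IsScalarTower N B E] [IsIntegralClosure B N E] :
    Finite (MaximalSpectrum B) ∧ Nat.card (MaximalSpectrum B) ≤ Module.finrank F E := by
  let Ω := AlgebraicClosure E
  let M := normalClosure F E Ω
  have hsep : Algebra.IsSeparable F M := by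
    rw [← le_separableClosure_iff, normalClosure_le_iff]
    rintro f _ ⟨e, rfl⟩
    rw [mem_separableClosure_iff]
    exact (Algebra.IsSeparable.isSeparable F e).map f f.injective
  haveI : IsGalois F M := { to_isSeparable := hsep, to_normal := inferInstance }
  letI : Algebra N M := ((algebraMap F M).comp (algebraMap N F)).toAlgebra
  haveI : IsScalarTower N F M := IsScalarTower.of_algebraMap_eq (fun _ => rfl)
  exact finite_and_card_le N F E M B (integralClosure N M)

end Main

end Groth.Agent.Lib.H9SepCountA
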