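import Mathlib
import Groth.Agent.Lib.H9SepCountA

/-! helper9: `exists_injective_of_pow_mem` (integral ring map with `c^k ∈ range` ⇒ injection on MaximalSpectrum), `finSepDegree_algebraicClosure` (`finSepDegree K (algebraicClosure K L) = finrank K (separableClosure K L)`), `exists_pow_mem_separableClosure`, `main` (Theorem T: `A` domain with local normalization, `L ⊇ K = Frac A`, algebraic closure of `K` in `L` of finite separable degree `n>0` ⇒ integral closure of `A` in `L` has ≤ n maximal ideals). -/

set_option autoImplicit false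
universe u

namespace Groth.Agent.Lib.H9SepCountB

open IntermediateField

/-- **Lemma P**: an integral ring map `φ : C₁ → C` such that every element of `C` has a positive
power in the range induces an injection on maximal spectra. -/
theorem exists_injective_of_pow_mem {C₁ C : Type*} [CommRing C₁] [CommRing C] (φ : C₁ →+* C)
    (hint : φ.IsIntegral) (hpow : ∀ c : C, ∃ k : ℕ, 0 < k ∧ c ^ k ∈ φ.range) :
    ∃ Ψ : MaximalSpectrum C → MaximalSpectrum C₁, Function.Injective Ψ := by
  refine ⟨fun 𝔪 => ⟨𝔪.asIdeal.comap φ,
    haveI := 𝔪.isMaximal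
    Ideal.isMaximal_comap_of_isIntegral_of_isMaximal' φ hint 𝔪.asIdeal⟩, ?_⟩
  have key : ∀ 𝔪₁ 𝔪₂ : MaximalSpectrum C, 𝔪₁.asIdeal.comap φ = 𝔪₂.asIdeal.comap φ →
      𝔪₁.asIdeal ≤ 𝔪₂.asIdeal := by
    intro 𝔪₁ 𝔪₂ h c hc
    haveI := 𝔪₂.isMaximal
    obtain ⟨k, hk, c₁, hc₁⟩ := hpow c
    have h1 : c₁ ∈ 𝔪₁.asIdeal.comap φ := by
      rw [Ideal.mem_comap, hc₁]
      exact Ideal.pow_mem_of_mem _ hc k hk
    rw [h, Ideal.mem_comap, hc₁] at h1
    exact (𝔪₂.isMaximal.isPrime).mem_of_pow_mem k h1
  intro 𝔪₁ 𝔪₂ h
  have h' : 𝔪₁.asIdeal.comap φ = 𝔪₂.asIdeal.comap φ := congrArg MaximalSpectrum.asIdeal h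
  apply MaximalSpectrum.ext
  exact le_antisymm (key 𝔪₁ 𝔪₂ h') (key 𝔪₂ 𝔪₁ h'.symm)

section sep

variable (K L : Type u) [Field K] [Field L] [Algebra K L]

theorem separableClosure_algebraicClosure_eq_bot :
    separableClosure (algebraicClosure K L) L = ⊥ := by
  rw [eq_bot_iff]
  intro x hx
  rw [mem_separableClosure_iff] at hx
  have h1 : IsAlgebraic (algebraicClosure K L) x := hx.isIntegral.isAlgebraic
  have h2 : IsAlgebraic K x := h1.restrictScalars K
  rw [IntermediateField.mem_bot]
  exact ⟨⟨x, (mem_algebraicClosure_iff).mpr h2⟩, rfl⟩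

/-- (a) -/
theorem finSepDegree_algebraicClosure :
    Field.finSepDegree K (algebraicClosure K L) = Module.finrank K (separableClosure K L) := by
  rw [Field.finSepDegree_eq]
  have h := separableClosure.map_eq_of_separableClosure_eq_bot K
    (E := algebraicClosure K L) (K := L) (separableClosure_algebraicClosure_eq_bot K L)
  have e := IntermediateField.equivMap (separableClosure K (algebraicClosure K L))
    (IsScalarTower.toAlgHom K (algebraicClosure K L) L)
  rw [h] at e
  unfold Field.sepDegree Module.finrank
  rw [e.toLinearEquiv.rank_eq]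

/-- (b) -/
theorem exists_pow_mem_separableClosure (x : L) (hx : IsAlgebraic K x) :
    ∃ e : ℕ, x ^ (ringExpChar K ^ e) ∈ separableClosure K L := by
  haveI : ExpChar K (ringExpChar K) := ringExpChar.expChar K
  haveI : ExpChar (separableClosure K (algebraicClosure K L)) (ringExpChar K) :=
    expChar_of_injective_algebraMap (algebraMap K _).injective _
  obtain ⟨e, y, hy⟩ := IsPurelyInseparable.pow_mem
    (separableClosure K (algebraicClosure K L)) (ringExpChar K)
    (⟨x, mem_algebraicClosure_iff.mpr hx⟩ : algebraicClosure K L)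
  refine ⟨e, ?_⟩
  have hy1 : IsSeparable K (y : algebraicClosure K L) := mem_separableClosure_iff.mp y.2
  have hy2 : IsSeparable K ((algebraicClosure K L).val (y : algebraicClosure K L)) :=
    hy1.map (algebraicClosure K L).val (algebraicClosure K L).val.injective
  rw [mem_separableClosure_iff]
  have : (algebraicClosure K L).val (y : algebraicClosure K L) = x ^ (ringExpChar K ^ e) := by
    have := congrArg (algebraicClosure K L).val hy
    rw [map_pow] at this
    exact this
  rwa [this] at hy2

end sep

section T

variable {A K L : Type u} [CommRing A] [IsDomain A] [Field K] [Algebra A K] [IsFractionRing A K]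
  [Field L] [Algebra K L] [Algebra A L] [IsScalarTower A K L]
  (C : Type u) [CommRing C] [Algebra A C] [Algebra C L] [IsScalarTower A C L]
  [IsIntegralClosure C A L]

/-- **Theorem T**: `A` a domain whose normalization is local, `L/K` a field extension of
`K = Frac A` such that the algebraic closure of `K` in `L` has finite separable degree `n > 0`.
Then the integral closure `C` of `A` in `L` has at most `n` maximal ideals. -/
theorem main (hloc : IsLocalRing (integralClosure A K)) (n : ℕ) (hn0 : 0 < n)
    (hn : Field.finSepDegree K (algebraicClosure K L) = n) :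
    Finite (MaximalSpectrum C) ∧ Nat.card (MaximalSpectrum C) ≤ n := by
  let N := integralClosure A K
  let E := separableClosure K L
  haveI : IsFractionRing N K := integralClosure.isFractionRing_of_finite_extension K K
  haveI : IsIntegrallyClosed N := integralClosure.isIntegrallyClosedOfFiniteExtension K
  haveI : IsLocalRing N := hloc
  have hrank : Module.finrank K E = n := by rw [← hn, finSepDegree_algebraicClosure]
  haveI : FiniteDimensional K E := Module.finite_of_finrank_pos (by rw [hrank]; exact hn0)
  let B := integralClosure N E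
  obtain ⟨hfin, hcard⟩ := Groth.Agent.Lib.H9SepCountA.main N K E B
  rw [hrank] at hcard
  -- the map `B → C`
  letI : Algebra A B := ((algebraMap N B).comp (algebraMap A N)).toAlgebra
  haveI : IsScalarTower A N B := IsScalarTower.of_algebraMap_eq (fun _ => rfl)
  haveI : IsScalarTower A B L := IsScalarTower.of_algebraMap_eq (fun a => by
    change algebraMap A L a = algebraMap K L (algebraMap A K a)
    exact IsScalarTower.algebraMap_apply A K L a)
  haveI : Algebra.IsIntegral A B := Algebra.IsIntegral.trans N
  let φ : B →ₐ[A] C := IsIntegralClosure.lift A C L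
  have hφ : ∀ b : B, algebraMap C L (φ b) = algebraMap B L b :=
    fun b => IsIntegralClosure.algebraMap_lift A C L b
  haveI : Algebra.IsIntegral A C := IsIntegralClosure.isIntegral_algebra A L
  have hφint : φ.toRingHom.IsIntegral := by
    intro c
    obtain ⟨P, hP, hPc⟩ := Algebra.IsIntegral.isIntegral (R := A) c
    refine ⟨P.map (algebraMap A B), hP.map _, ?_⟩
    rw [Polynomial.eval₂_map]
    have : (φ.toRingHom.comp (algebraMap A B)) = algebraMap A C := by
      ext a; exact φ.commutes a
    rw [this]
    exact hPc
  have hφpow : ∀ c : C, ∃ k : ℕ, 0 < k ∧ c ^ k ∈ φ.toRingHom.range := by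
    intro c
    have hc : IsIntegral A (algebraMap C L c) := (IsIntegralClosure.isIntegral A L c).algebraMap
    have hcK : IsAlgebraic K (algebraMap C L c) := (hc.tower_top (A := K)).isAlgebraic
    obtain ⟨e, he⟩ := exists_pow_mem_separableClosure K L _ hcK
    let y : E := ⟨_, he⟩
    have hyA : IsIntegral A (y : L) := hc.pow _
    have hyN : IsIntegral N y := by
      obtain ⟨P, hP, hPy⟩ := hyA
      refine ⟨P.map (algebraMap A N), hP.map _, ?_⟩
      apply (algebraMap E L).injective
      rw [map_zero, Polynomial.hom_eval₂, Polynomial.eval₂_map]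
      have : ((algebraMap E L).comp (algebraMap N E)).comp (algebraMap A N) = algebraMap A L := by
        ext a
        change algebraMap K L (algebraMap A K a) = algebraMap A L a
        exact (IsScalarTower.algebraMap_apply A K L a).symm
      rw [this]
      exact hPy
    refine ⟨ringExpChar K ^ e, pow_pos (lt_of_lt_of_le Nat.one_pos (le_max_right _ _)) _,
      ⟨y, hyN⟩, ?_⟩
    apply IsIntegralClosure.algebraMap_injective C A L
    change algebraMap C L (φ ⟨y, hyN⟩) = _
    rw [hφ, map_pow]
    rfl
  obtain ⟨Ψ, hΨ⟩ := exists_injective_of_pow_mem φ.toRingHom hφint hφpow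
  refine ⟨Finite.of_injective Ψ hΨ, ?_⟩
  exact (Nat.card_le_card_of_injective Ψ hΨ).trans hcard

end T

end Groth.Agent.Lib.H9SepCountB
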