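import Mathlib
import Groth.Agent.Lib.H9UniFib
import Groth.Agent.Lib.Helper4Unibranch
import Groth.Agent.Lib.H9SepCountB

/-! helper9: `main` (= S4484: X,Y integral loc. Noetherian, f proper dominant, alg. closure of R(Y) in R(X) of finite separable degree n, y unibranch ⇒ X_y has ≤ n connected components; via H9CardFib.main + H9SepCountB.main). -/

set_option autoImplicit false
universe u

namespace Groth.Agent.Lib.H9SepCountC

open CategoryTheory CategoryTheory.Limits AlgebraicGeometry TopologicalSpace Opposite
open Groth.Agent.Lib.H9CardAlg Groth.Agent.Lib.H9UniFib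

variable {X Y : Scheme.{u}} [IsIntegral X] [IsIntegral Y] (f : X ⟶ Y)

/-- **S4484** -/
theorem main [IsProper f] [IsLocallyNoetherian Y]
    (hdom : f.base (genericPoint X) ⤳ genericPoint Y) [Algebra Y.functionField X.functionField]
    (halg : algebraMap Y.functionField X.functionField =
      CohIII.stalkToFunctionField f (genericPoint Y) hdom)
    (n : ℕ) (hn0 : 0 < n)
    (hn : Field.finSepDegree Y.functionField
      ↥(algebraicClosure Y.functionField X.functionField) = n)
    (y : Y) (hy : CAlg2.IsUnibranch (Y.presheaf.stalk y)) :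
    Finite (_root_.ConnectedComponents ↥(f.fiber y)) ∧
      Nat.card (_root_.ConnectedComponents ↥(f.fiber y)) ≤ n := by
  have h : f.base (genericPoint X) ⤳ y := hdom.trans (genericPoint_specializes y)
  have hloc : IsLocalRing (integralClosure (Y.presheaf.stalk y) Y.functionField) :=
    (Groth.Agent.Lib.Helper4.Unibranch.isUnibranch_iff_of_isDomain (Y.presheaf.stalk y)
      Y.functionField).mp hy
  letI : Algebra (Y.presheaf.stalk y) X.functionField :=
    (CohIII.stalkToFunctionField f y h).toAlgebra
  haveI : IsScalarTower (Y.presheaf.stalk y) Y.functionField X.functionField :=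
    IsScalarTower.of_algebraMap_eq (fun a => by
      change CohIII.stalkToFunctionField f y h a = _
      rw [stalkToFunctionField_comp f y hdom, halg]
      rfl)
  obtain ⟨hfin, hcard⟩ := Groth.Agent.Lib.H9SepCountB.main
    (A := Y.presheaf.stalk y) (K := Y.functionField) (L := X.functionField)
    (integralClosure (Y.presheaf.stalk y) X.functionField) hloc n hn0 hn
  have hle := Groth.Agent.Lib.H9CardFib.main f y h
  have hfin' : Finite (MaximalSpectrum (CohIII.integralClosureStalk f y h)) := hfin
  have hcard' : Nat.card (MaximalSpectrum (CohIII.integralClosureStalk f y h)) ≤ n := hcard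
  have hlt : Cardinal.mk (MaximalSpectrum (CohIII.integralClosureStalk f y h)) < Cardinal.aleph0 :=
    Cardinal.mk_lt_aleph0_iff.mpr hfin'
  have hlt2 := hle.trans_lt hlt
  refine ⟨Cardinal.mk_lt_aleph0_iff.mp hlt2, ?_⟩
  exact (Cardinal.toNat_le_toNat hle hlt).trans hcard'

end Groth.Agent.Lib.H9SepCountC
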