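import Mathlib
import Groth.Agent.Lib.Helper13TorLin

set_option autoImplicit false
universe u
open CategoryTheory CategoryTheory.Limits MonoidalCategory

namespace Groth.Agent.Lib.H9SerreCM

open Groth.Agent.Helper13Tor

variable {R : Type u} [CommRing R]

theorem homologyMap_smul' {K L : ChainComplex (ModuleCat.{u} R) ℕ} (φ : K ⟶ L) (r : R) (n : ℕ) :
    HomologicalComplex.homologyMap (r • φ) n = r • HomologicalComplex.homologyMap φ n := by
  have h : (HomologicalComplex.shortComplexFunctor (ModuleCat.{u} R) (ComplexShape.down ℕ) n).map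
      (r • φ) = r • (HomologicalComplex.shortComplexFunctor (ModuleCat.{u} R)
        (ComplexShape.down ℕ) n).map φ := by
    ext <;> rfl
  show ShortComplex.homologyMap _ = r • ShortComplex.homologyMap _
  rw [h]
  exact ShortComplex.homologyMap_smul _ _

/-- `Tor_n(X, r • id_N) = r • id`. -/
theorem tor_map_smul (X N : ModuleCat.{u} R) (r : R) (n : ℕ) :
    ((Tor (ModuleCat.{u} R) n).obj X).map (r • 𝟙 N) =
      r • 𝟙 (((Tor (ModuleCat.{u} R) n).obj X).obj N) := by
  let P := projectiveResolution N
  have w : (r • 𝟙 P.complex) ≫ P.π = P.π ≫ (ChainComplex.single₀ (ModuleCat.{u} R)).map (r • 𝟙 N) := by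
    ext
    simp
    rfl
  have h := Functor.leftDerived_map_eq (tL X) n (r • 𝟙 N) (P := P) (Q := P) (r • 𝟙 P.complex) w
  show ((tL X).leftDerived n).map (r • 𝟙 N) = _
  rw [h]
  have hz : ((tL X).mapHomologicalComplex (ComplexShape.down ℕ)).map (r • 𝟙 P.complex) =
      r • 𝟙 _ := by
    ext j : 1
    show (tL X).map ((r • 𝟙 P.complex : P.complex ⟶ P.complex).f j) = _
    rw [HomologicalComplex.smul_f_apply, HomologicalComplex.id_f]
    apply ModuleCat.hom_ext
    apply TensorProduct.ext'
    intro x p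
    show x ⊗ₜ[R] (r • p) = r • (x ⊗ₜ[R] p)
    rw [TensorProduct.tmul_smul]
  rw [Functor.comp_map, hz]
  have h2 : (HomologicalComplex.homologyFunctor (ModuleCat.{u} R) (ComplexShape.down ℕ) n).map
      (r • 𝟙 (((tL X).mapHomologicalComplex (ComplexShape.down ℕ)).obj P.complex)) = r • 𝟙 _ := by
    show HomologicalComplex.homologyMap _ n = _
    rw [homologyMap_smul', HomologicalComplex.homologyMap_id]
    rfl
  rw [h2, Linear.smul_comp, Linear.comp_smul, Category.id_comp, Iso.hom_inv_id]
  rfl

theorem smul_tor_eq_zero_left (X N : ModuleCat.{u} R) (r : R) (hr : ∀ x : X, r • x = 0) (n : ℕ)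
    (t : ((Tor (ModuleCat.{u} R) n).obj X).obj N) : r • t = 0 := by
  have h1 := tor_map_smul X N r n
  rw [Groth.Agent.Helper13TorLin.tor_map_smul_eq_zero X N r hr n] at h1
  have h2 : (r • 𝟙 (((Tor (ModuleCat.{u} R) n).obj X).obj N)).hom t =
      (0 : ((Tor (ModuleCat.{u} R) n).obj X).obj N ⟶ _).hom t := by rw [← h1]
  rw [ModuleCat.hom_smul, ModuleCat.hom_id, ModuleCat.hom_zero] at h2
  exact h2

theorem smul_tor_eq_zero_right (X N : ModuleCat.{u} R) (r : R) (hr : ∀ y : N, r • y = 0) (n : ℕ)
    (t : ((Tor (ModuleCat.{u} R) n).obj X).obj N) : r • t = 0 := by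
  have h1 := tor_map_smul X N r n
  have h0 : (r • 𝟙 N : N ⟶ N) = 0 := by
    apply ModuleCat.hom_ext
    ext y
    exact hr y
  have h3 : ((Tor (ModuleCat.{u} R) n).obj X).map (0 : N ⟶ N) = 0 := by
    have := tor_map_smul X N (0 : R) n
    rwa [zero_smul, zero_smul] at this
  rw [h0, h3] at h1
  have h2 : (r • 𝟙 (((Tor (ModuleCat.{u} R) n).obj X).obj N)).hom t =
      (0 : ((Tor (ModuleCat.{u} R) n).obj X).obj N ⟶ _).hom t := by rw [← h1]
  rw [ModuleCat.hom_smul, ModuleCat.hom_id, ModuleCat.hom_zero] at h2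
  exact h2

/-- Tor of finite modules over a Noetherian ring is finite. -/
theorem finite_tor [IsNoetherianRing R] (X : Type u) [AddCommGroup X] [Module R X]
    [Module.Finite R X] (n : ℕ) : ∀ (N : Type u) [AddCommGroup N] [Module R N] [Module.Finite R N],
    Module.Finite R (((Tor (ModuleCat.{u} R) n).obj (ModuleCat.of R X)).obj (ModuleCat.of R N)) := by
  induction n with
  | zero =>
    intro N _ _ _
    let e : ((Tor (ModuleCat.{u} R) 0).obj (ModuleCat.of R X)).obj (ModuleCat.of R N) ≅
        ModuleCat.of R (TensorProduct R X N) :=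
      (torZeroIso.app (ModuleCat.of R X)).app (ModuleCat.of R N)
    exact Module.Finite.equiv e.toLinearEquiv.symm
  | succ n ih =>
    intro N _ _ _
    obtain ⟨m, π, hπ⟩ := Module.Finite.exists_fin' R N
    have hex : Function.Exact (LinearMap.ker π).subtype π := LinearMap.exact_subtype_ker_map π
    let S := ModuleCat.shortComplexOfCompEqZero (LinearMap.ker π).subtype π
      hex.linearMap_comp_eq_zero
    have hS : S.ShortExact :=
      ModuleCat.shortComplex_shortExact S hex (LinearMap.ker π).injective_subtype hπ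
    have hTF : IsZero (((Tor (ModuleCat.{u} R) (n + 1)).obj (ModuleCat.of R X)).obj S.X₂) := by
      haveI : Module.Flat R S.X₂ := inferInstanceAs (Module.Flat R (Fin m → R))
      exact isZero_tor_of_flat_right _ _ (n + 1) (by omega)
    obtain ⟨δ, w₁, w₂, hex₁, hex₂⟩ := tor₂_exists_δ (ModuleCat.of R X) S hS n
    haveI : Mono δ := hex₁.mono_g (hTF.eq_of_src _ _)
    have hinj : Function.Injective δ.hom := (ModuleCat.mono_iff_injective _).mp inferInstance
    haveI := ih (LinearMap.ker π)
    exact Module.Finite.of_injective δ.hom hinj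

end Groth.Agent.Lib.H9SerreCM
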