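import Mathlib
import Groth.Prelude
import Groth.Agent.Lib.Helper13TorMore
import Groth.Agent.Lib.Helper28Depth
import Groth.Agent.Lib.Helper28DepthFlat2
import Groth.Agent.Lib.H9QGor711
import Groth.Agent.Lib.Helper5SuppDim
import Groth.Agent.Lib.Helper4DimFormulaAV
import Groth.Agent.Lib.H9TorLin2
import Groth.Agent.Lib.R2H1MultCM
import Groth.Agent.Lib.Helper28FlatNormal
import Groth.Agent.Lib.R2H1MultOne

set_option autoImplicit false
set_option linter.style.haveILetI false
set_option linter.unusedSectionVars false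
set_option linter.unusedVariables false
universe u

open CategoryTheory CategoryTheory.Limits MonoidalCategory TensorProduct
open Groth.Agent.Helper13Tor Groth.Agent.Lib.Helper28

namespace Groth.Agent.Lib.H9SerreCM

variable {A : Type u} [CommRing A] [IsLocalRing A] [IsNoetherianRing A]

/-- a finite-length submodule of a module of positive depth is zero -/
theorem subsingleton_of_injective_of_depth {T N : Type u} [AddCommGroup T] [Module A T]
    [AddCommGroup N] [Module A N] [Module.Finite A N] (hT : IsFiniteLength A T)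
    (j : T →ₗ[A] N) (hj : Function.Injective j) (h : 1 ≤ LocCoh.depth A N) :
    Subsingleton T := by
  by_contra hns
  rw [not_subsingleton_iff_nontrivial] at hns
  obtain ⟨hN, hA⟩ := isFiniteLength_iff_isNoetherian_isArtinian.mp hT
  haveI : Module.Finite A T := inferInstance
  have h1 : 1 ≤ LocCoh.depth A T :=
    one_le_idealDepth_of_injective (I := IsLocalRing.maximalIdeal A) j hj h
  rw [depth_eq_zero_of_isFiniteLength hT] at h1
  simp at h1

/-- abbreviation for the Tor objects -/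
noncomputable abbrev T (i : ℕ) (X M : ModuleCat.{u} A) : ModuleCat.{u} A :=
  ((Tor (ModuleCat.{u} A) i).obj X).obj M

theorem isFiniteLength_of_iso {X Y : ModuleCat.{u} A} (e : X ≅ Y) (h : IsFiniteLength A X) :
    IsFiniteLength A Y := by
  rw [← Module.length_ne_top_iff] at h ⊢
  rwa [← e.toLinearEquiv.length_eq]

theorem base_case (M : Type u) [AddCommGroup M] [Module A M] [Module.Finite A M]
    (X : Type u) [AddCommGroup X] [Module A X] [Module.Finite A X] (d : ℕ)
    (hpd : HasProjectiveDimensionLT (ModuleCat.of A M) 1)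
    (hdepth : (d : ℕ∞) ≤ LocCoh.depth A X) :
    (∀ i, 1 ≤ i → IsZero (T i (ModuleCat.of A X) (ModuleCat.of A M))) ∧
      (d : ℕ∞) ≤ LocCoh.depth A (X ⊗[A] M) := by
  have hproj : Projective (ModuleCat.of A M) :=
    projective_iff_hasProjectiveDimensionLT_one.mpr hpd
  have hP : Module.Projective A M := (IsProjective.iff_projective (R := A) (P := M)).mpr hproj
  haveI : Module.Flat A M := inferInstance
  refine ⟨fun i hi => ?_, ?_⟩
  · haveI : Module.Flat A (ModuleCat.of A M) := ‹Module.Flat A M›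
    exact isZero_tor_of_flat_right _ _ i hi
  · exact hdepth.trans
      (Groth.Agent.Lib.H9QGor711.idealDepth_le_idealDepth_tensor_of_flat
        (IsLocalRing.maximalIdeal A) X M)

theorem step (ℓ : ℕ)
    (IH : ∀ (M : Type u) [AddCommGroup M] [Module A M] [Module.Finite A M]
      (X : Type u) [AddCommGroup X] [Module A X] [Module.Finite A X] (d : ℕ),
      HasProjectiveDimensionLT (ModuleCat.of A M) (ℓ + 1) →
      ((ℓ + d : ℕ) : ℕ∞) ≤ LocCoh.depth A X →
      (∀ i, 1 ≤ i → IsFiniteLength A (T i (ModuleCat.of A X) (ModuleCat.of A M))) →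
      (∀ i, 1 ≤ i → IsZero (T i (ModuleCat.of A X) (ModuleCat.of A M))) ∧
        (d : ℕ∞) ≤ LocCoh.depth A (X ⊗[A] M))
    (M : Type u) [AddCommGroup M] [Module A M] [Module.Finite A M]
    (X : Type u) [AddCommGroup X] [Module A X] [Module.Finite A X] (d : ℕ)
    (hpd : HasProjectiveDimensionLT (ModuleCat.of A M) (ℓ + 1 + 1))
    (hdepth : ((ℓ + 1 + d : ℕ) : ℕ∞) ≤ LocCoh.depth A X)
    (hfl : ∀ i, 1 ≤ i → IsFiniteLength A (T i (ModuleCat.of A X) (ModuleCat.of A M))) :
    (∀ i, 1 ≤ i → IsZero (T i (ModuleCat.of A X) (ModuleCat.of A M))) ∧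
      (d : ℕ∞) ≤ LocCoh.depth A (X ⊗[A] M) := by
  obtain ⟨n, π, hπ⟩ := Module.Finite.exists_fin' A M
  have hex : Function.Exact (LinearMap.ker π).subtype π := LinearMap.exact_subtype_ker_map π
  let S := ModuleCat.shortComplexOfCompEqZero (LinearMap.ker π).subtype π hex.linearMap_comp_eq_zero
  have hS : S.ShortExact :=
    ModuleCat.shortComplex_shortExact S hex (LinearMap.ker π).injective_subtype hπ
  have hF : Projective S.X₂ := by
    show Projective (ModuleCat.of A (Fin n → A))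
    exact (IsProjective.iff_projective (R := A) (P := (Fin n → A))).mp inferInstance
  have hpdK : HasProjectiveDimensionLT (ModuleCat.of A (LinearMap.ker π)) (ℓ + 1) :=
    hS.hasProjectiveDimensionLT_X₁ (ℓ + 1) inferInstance hpd
  have hTF : ∀ i, 1 ≤ i → IsZero (T i (ModuleCat.of A X) S.X₂) := by
    intro i hi
    haveI : Module.Flat A S.X₂ := inferInstanceAs (Module.Flat A (Fin n → A))
    exact isZero_tor_of_flat_right _ _ i hi
  have hflK : ∀ i, 1 ≤ i →
      IsFiniteLength A (T i (ModuleCat.of A X) (ModuleCat.of A (LinearMap.ker π))) := by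
    intro i hi
    obtain ⟨δ, w₁, w₂, hex₁, hex₂⟩ := tor₂_exists_δ (ModuleCat.of A X) S hS i
    haveI : Mono δ := hex₁.mono_g ((hTF (i + 1) (by omega)).eq_of_src _ _)
    haveI : Epi δ := hex₂.epi_f ((hTF i hi).eq_of_tgt _ _)
    haveI : IsIso δ := isIso_of_mono_of_epi δ
    exact isFiniteLength_of_iso (asIso δ) (hfl (i + 1) (by omega))
  obtain ⟨hK0, hKd⟩ := IH (LinearMap.ker π) X (d + 1) hpdK
    (by rw [← add_assoc, add_right_comm]; exact hdepth) hflK
  -- Tor_1(X, M) = 0
  have hT1 : IsZero (T 1 (ModuleCat.of A X) (ModuleCat.of A M)) := by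
    obtain ⟨δ, w₁, w₂, hex₁, hex₂⟩ := tor₂_exists_δ (ModuleCat.of A X) S hS 0
    haveI : Mono δ := hex₁.mono_g ((hTF 1 le_rfl).eq_of_src _ _)
    let e : T 0 (ModuleCat.of A X) (ModuleCat.of A (LinearMap.ker π)) ≅
        ModuleCat.of A (X ⊗[A] (LinearMap.ker π)) :=
      (torZeroIso.app (ModuleCat.of A X)).app (ModuleCat.of A (LinearMap.ker π))
    haveI : Mono (δ ≫ e.hom) := mono_comp _ _
    have hinj : Function.Injective (δ ≫ e.hom).hom :=
      (ModuleCat.mono_iff_injective _).mp inferInstance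
    have h1 : (1 : ℕ∞) ≤ LocCoh.depth A (X ⊗[A] (LinearMap.ker π)) := by
      refine le_trans ?_ hKd
      push_cast
      exact le_add_self
    have := subsingleton_of_injective_of_depth (hfl 1 le_rfl) (δ ≫ e.hom).hom hinj h1
    exact ModuleCat.isZero_of_subsingleton _
  have hT : ∀ i, 1 ≤ i → IsZero (T i (ModuleCat.of A X) (ModuleCat.of A M)) := by
    intro i hi
    obtain ⟨k, rfl⟩ : ∃ k, i = k + 1 := ⟨i - 1, by omega⟩
    rcases Nat.eq_zero_or_pos k with rfl | hk
    · exact hT1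
    · exact isZero_tor₂_X₃ (ModuleCat.of A X) S hS k (hTF (k + 1) (by omega)) (hK0 k hk)
  refine ⟨hT, ?_⟩
  -- the depth of X ⊗ M
  have hinj : Function.Injective (LinearMap.lTensor X (LinearMap.ker π).subtype) :=
    (isZero_tor_one_iff_lTensor_injective (ModuleCat.of A X) S hS (hTF 1 le_rfl)).mp hT1
  have hex' : Function.Exact (LinearMap.lTensor X (LinearMap.ker π).subtype)
      (LinearMap.lTensor X π) := lTensor_exact X hex hπ
  have hsurj : Function.Surjective (LinearMap.lTensor X π) := LinearMap.lTensor_surjective X hπ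
  have hdl := min_idealDepth_le_right (IsLocalRing.maximalIdeal A) _ _ hinj hsurj hex'
  refine le_trans (le_min ?_ ?_) hdl
  · have h2 : (d : ℕ∞) ≤ LocCoh.depth A X := by
      refine le_trans ?_ hdepth
      push_cast
      exact le_add_self
    exact h2.trans (Groth.Agent.Lib.H9QGor711.idealDepth_le_idealDepth_tensor_of_flat
        (IsLocalRing.maximalIdeal A) X (Fin n → A))
  · have h3 : ((d + 1 : ℕ) : ℕ∞) ≤ LocCoh.idealDepth (IsLocalRing.maximalIdeal A)
        (X ⊗[A] (LinearMap.ker π)) := hKd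
    apply ENat.le_sub_of_add_le_right (by simp)
    exact_mod_cast h3

theorem tor_vanish (ℓ : ℕ) : ∀ (M : Type u) [AddCommGroup M] [Module A M] [Module.Finite A M]
      (X : Type u) [AddCommGroup X] [Module A X] [Module.Finite A X] (d : ℕ),
      HasProjectiveDimensionLT (ModuleCat.of A M) (ℓ + 1) →
      ((ℓ + d : ℕ) : ℕ∞) ≤ LocCoh.depth A X →
      (∀ i, 1 ≤ i → IsFiniteLength A (T i (ModuleCat.of A X) (ModuleCat.of A M))) →
      (∀ i, 1 ≤ i → IsZero (T i (ModuleCat.of A X) (ModuleCat.of A M))) ∧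
        (d : ℕ∞) ≤ LocCoh.depth A (X ⊗[A] M) := by
  induction ℓ with
  | zero =>
    intro M _ _ _ X _ _ _ d hpd hdepth _
    rw [zero_add] at hdepth
    exact base_case M X d hpd hdepth
  | succ ℓ ih =>
    intro M _ _ _ X _ _ _ d hpd hdepth hfl
    exact step ℓ ih M X d hpd hdepth hfl

/-- finite length of `Tor_n(A/Q, A/P)` when `A/(Q+P)` has dimension zero -/
theorem isFiniteLength_tor (P Q : Ideal A) (hdim0 : ringKrullDim (A ⧸ (Q ⊔ P)) = 0) (n : ℕ) :
    IsFiniteLength A (T n (ModuleCat.of A (A ⧸ Q)) (ModuleCat.of A (A ⧸ P))) := by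
  haveI := finite_tor (R := A) (A ⧸ Q) n (A ⧸ P)
  apply Groth.Agent.Lib.Helper5.isFiniteLength_of_supportDim_le_zero
  rw [Module.supportDim_eq_ringKrullDim_quotient_annihilator]
  have hle : Q ⊔ P ≤ Module.annihilator A
      (T n (ModuleCat.of A (A ⧸ Q)) (ModuleCat.of A (A ⧸ P))) := by
    refine sup_le ?_ ?_
    · intro r hr
      rw [Module.mem_annihilator]
      intro t
      refine smul_tor_eq_zero_left _ _ r ?_ n t
      intro x
      obtain ⟨y, rfl⟩ := Ideal.Quotient.mk_surjective x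
      show r • (Ideal.Quotient.mk Q y) = 0
      rw [← Ideal.Quotient.mk_eq_mk, ← Submodule.Quotient.mk_smul, Submodule.Quotient.mk_eq_zero]
      exact Q.mul_mem_right _ hr
    · intro r hr
      rw [Module.mem_annihilator]
      intro t
      refine smul_tor_eq_zero_right _ _ r ?_ n t
      intro x
      obtain ⟨y, rfl⟩ := Ideal.Quotient.mk_surjective x
      show r • (Ideal.Quotient.mk P y) = 0
      rw [← Ideal.Quotient.mk_eq_mk, ← Submodule.Quotient.mk_smul, Submodule.Quotient.mk_eq_zero]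
      exact P.mul_mem_right _ hr
  rw [← hdim0]
  exact ringKrullDim_le_of_surjective (Ideal.Quotient.factor hle) (Ideal.Quotient.factor_surjective hle)

/-- depth of a Cohen–Macaulay quotient as a module -/
theorem depth_quotient_of_cm (Q : Ideal A) (hQ : LocCoh.IsCohenMacaulayLocalRing (A ⧸ Q)) (c : ℕ)
    (hc : ringKrullDim (A ⧸ Q) = c) : LocCoh.depth A (A ⧸ Q) = c := by
  haveI : IsLocalRing (A ⧸ Q) := hQ.toIsLocalRing
  have h1 := hQ.supportDim_eq_depth
  rw [Module.supportDim_self_eq_ringKrullDim, hc,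
    Groth.Agent.Lib.Helper28.depth_quotient_self_eq] at h1
  have h2 : ((c : ℕ∞) : WithBot ℕ∞) = ((LocCoh.depth A (A ⧸ Q) : ℕ∞) : WithBot ℕ∞) := by
    exact_mod_cast h1
  exact (WithBot.coe_injective h2).symm

end Groth.Agent.Lib.H9SerreCM

namespace Groth.Agent.Lib.H9SerreCM

open Groth.Agent.Lib.R2H1.MultOne

/-- Serre: over a regular local ring, for Cohen–Macaulay quotients meeting properly in a point,
the higher Tor vanish, hence `χ(A/Q, A/P) = length A/(P+Q)`. -/
theorem chi_eq_length_of_cm_cm (A : Type u) [CommRing A] [IsRegularLocalRing A] (P Q : Ideal A)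
    (hP : LocCoh.IsCohenMacaulayLocalRing (A ⧸ P)) (hQ : LocCoh.IsCohenMacaulayLocalRing (A ⧸ Q))
    (a b c : ℕ) (ha : ringKrullDim A = a) (hb : ringKrullDim (A ⧸ P) = b)
    (hc : ringKrullDim (A ⧸ Q) = c) (habc : a ≤ b + c)
    (hdim0 : ringKrullDim (A ⧸ (Q ⊔ P)) = 0) :
    IntMult.chi A (A ⧸ Q) (A ⧸ P) = ((Module.length A (A ⧸ (P ⊔ Q))).toNat : ℤ) := by
  haveI : IsLocalRing (A ⧸ P) := hP.toIsLocalRing
  haveI : Nontrivial (A ⧸ P) := inferInstance
  have hdP := depth_quotient_of_cm P hP b hb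
  have hdQ := depth_quotient_of_cm Q hQ c hc
  obtain ⟨e, he⟩ := Groth.Agent.Lib.Helper4.DimFormula.exists_nat_projectiveDimension_eq A (A ⧸ P)
  have hAB := Groth.Agent.Lib.Helper4.DimFormula.depth_add_projectiveDimension_eq_ringKrullDim A
    (A ⧸ P)
  rw [hdP, he, ha] at hAB
  have hbe : b + e = a := by exact_mod_cast hAB
  have hpd : HasProjectiveDimensionLT (ModuleCat.of A (A ⧸ P)) (e + 1) := by
    rw [← projectiveDimension_lt_iff, he]
    exact_mod_cast Nat.lt_succ_self e
  have hdep : ((e + 0 : ℕ) : ℕ∞) ≤ LocCoh.depth A (A ⧸ Q) := by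
    rw [hdQ]
    exact_mod_cast (by omega : e + 0 ≤ c)
  obtain ⟨hvan, -⟩ := tor_vanish e (A ⧸ P) (A ⧸ Q) 0 hpd hdep
    (fun i _ => isFiniteLength_tor P Q hdim0 i)
  unfold IntMult.chi
  rw [finsum_eq_single _ 0]
  · rw [pow_zero, one_mul]
    congr 2
    let e0 : T 0 (ModuleCat.of A (A ⧸ Q)) (ModuleCat.of A (A ⧸ P)) ≅
        ModuleCat.of A ((A ⧸ Q) ⊗[A] (A ⧸ P)) :=
      (torZeroIso.app (ModuleCat.of A (A ⧸ Q))).app (ModuleCat.of A (A ⧸ P))
    rw [show Module.length A (DRing.Tor A 0 (A ⧸ Q) (A ⧸ P)) =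
      Module.length A ((A ⧸ Q) ⊗[A] (A ⧸ P)) from e0.toLinearEquiv.length_eq,
      (TensorProduct.quotTensorEquivQuotSMul (A ⧸ P) Q).length_eq, length_quot_smul_top]
  · intro i hi
    have hz := hvan i (by omega)
    have hsub : Subsingleton (DRing.Tor A i (A ⧸ Q) (A ⧸ P)) :=
      ModuleCat.subsingleton_of_isZero hz
    rw [Module.length_eq_zero]
    simp

end Groth.Agent.Lib.H9SerreCM


section Geom

open CategoryTheory AlgebraicGeometry TopologicalSpace IsLocalRing
open Groth.Agent.Lib.R2H1.MultCM Groth.Agent.Lib.R2H1.IntMultCartier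

namespace Groth.Agent.Lib.H9SerreCM

theorem main1872 (K : Type u) [Field K] (X : Scheme.{u})
    (f : X ⟶ Spec (CommRingCat.of K)) [Smooth f] [IsIntegral X]
    (IV IW : X.IdealSheafData) [IsIntegral IV.subscheme] [IsIntegral IW.subscheme] (n r s : ℕ)
    (hn : topologicalKrullDim X = n) (hr : topologicalKrullDim IV.support = r)
    (hs : topologicalKrullDim IW.support = s)
    (hprop : IntMult.ProperInt (IV.support : Set X) (IW.support : Set X) n r s) (ξ : X)
    (hξV : ξ ∈ IV.support) (hξW : ξ ∈ IW.support)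
    (hmax : ∀ ξ' : X, ξ' ∈ IV.support → ξ' ∈ IW.support → ξ' ⤳ ξ → ξ' = ξ)
    (hV : LocCoh.IsCohenMacaulayLocalRing (↑(X.presheaf.stalk ξ) ⧸ IntMult.stalkIdeal IV ξ))
    (hW : LocCoh.IsCohenMacaulayLocalRing (↑(X.presheaf.stalk ξ) ⧸ IntMult.stalkIdeal IW ξ)) :
    (IntMult.mult IV IW ξ : ℤ) = (Module.length (X.presheaf.stalk ξ)
      (↑(X.presheaf.stalk ξ) ⧸ (IntMult.stalkIdeal IV ξ ⊔ IntMult.stalkIdeal IW ξ))).toNat := by
  haveI : IsRegularLocalRing (X.presheaf.stalk ξ) :=
    Groth.Agent.Lib.Helper6.SmRegSch.isRegularLocalRing_stalk_of_smooth_over_field K X f ξ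
  obtain ⟨a, b, c', e, ha, hb, hc, hae, hrb, hsc, hle, hnrs⟩ :=
    dims K X f IV IW n r s hn hr hs hprop ξ hξV hξW
  have habc : a ≤ b + c' := by omega
  have hne : IntMult.stalkIdeal IW ξ ⊔ IntMult.stalkIdeal IV ξ ≠ ⊤ := by
    intro htop
    have h1 := (mem_support_iff_stalkIdeal_le IV ξ ξ specializes_rfl).mp hξV
    have h2 := (mem_support_iff_stalkIdeal_le IW ξ ξ specializes_rfl).mp hξW
    have h3 : (⊤ : Ideal (X.presheaf.stalk ξ)) ≤ RingHom.ker (Cyc.specMap ξ ξ specializes_rfl) := by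
      rw [← htop]; exact sup_le h2 h1
    exact (RingHom.ker_ne_top _) (top_le_iff.mp h3)
  have hdim0 : ringKrullDim (↑(X.presheaf.stalk ξ) ⧸
      (IntMult.stalkIdeal IW ξ ⊔ IntMult.stalkIdeal IV ξ)) = 0 :=
    ringKrullDim_quotient_eq_zero _ hne (fun p _ hp => eq_maximalIdeal_of_le IV IW ξ hmax p hp)
  unfold IntMult.mult
  exact chi_eq_length_of_cm_cm _ _ _ hV hW a b c' ha hb hc habc hdim0

end Groth.Agent.Lib.H9SerreCM


end Geom
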