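import Groth.Agent.Lib.H9SmDiv

/-! Smooth divisors through a non-generic point of a fibre with separable residue field (helper9): for a formally smooth local algebra with formally smooth residue extension and Noetherian closed fibre, `𝔪_R ≠ 𝔪_A R` gives `h ∈ 𝔪_R` with `dh ≠ 0` in `κ ⊗ Ω` (via injectivity of the cotangent map of the fibre); the scheme-theoretic fibre stalk is compared via the preimmersion `fiberι`. -/

set_option autoImplicit false
set_option linter.style.haveILetI false
set_option linter.unusedSimpArgs false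
set_option linter.unusedVariables false
universe u

namespace Groth.Agent.Lib.H9SmDivGen

-- ===== part Gen1 =====
section

open KaehlerDifferential IsLocalRing TensorProduct
open Groth.Agent.Lib.H9SmDiv


theorem exists_dh_ne_zero (A R : Type u) [CommRing A] [CommRing R] [IsLocalRing A] [IsLocalRing R]
    [Algebra A R] [IsLocalHom (algebraMap A R)] [Algebra.FormallySmooth A R]
    (hnoeth : IsNoetherianRing (R ⧸ (maximalIdeal A).map (algebraMap A R)))
    (hsep : Algebra.FormallySmooth (ResidueField A) (ResidueField R))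
    (hne : (maximalIdeal A).map (algebraMap A R) ≠ maximalIdeal R) :
    ∃ h ∈ maximalIdeal R, (1 : ResidueField R) ⊗ₜ[R] D A R h ≠ 0 := by
  have hIm : (maximalIdeal A).map (algebraMap A R) ≤ maximalIdeal R :=
    ((local_hom_TFAE (algebraMap A R)).out 0 2).mp ‹_›
  haveI : Algebra.FormallySmooth (A ⧸ maximalIdeal A)
      (R ⧸ (maximalIdeal A).map (algebraMap A R)) :=
    Algebra.FormallySmooth.of_equiv
      (Algebra.TensorProduct.quotIdealMapEquivQuotTensor R (maximalIdeal A)).symm
  letI : Algebra (R ⧸ (maximalIdeal A).map (algebraMap A R)) (ResidueField R) :=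
    (Ideal.Quotient.factor hIm).toAlgebra
  haveI : IsScalarTower R (R ⧸ (maximalIdeal A).map (algebraMap A R)) (ResidueField R) :=
    .of_algebraMap_eq (fun r => rfl)
  letI : Algebra (A ⧸ maximalIdeal A) (ResidueField R) :=
    inferInstanceAs (Algebra (ResidueField A) (ResidueField R))
  haveI : IsScalarTower (A ⧸ maximalIdeal A) (R ⧸ (maximalIdeal A).map (algebraMap A R))
      (ResidueField R) := by
    refine .of_algebraMap_eq (fun a => ?_)
    obtain ⟨a, rfl⟩ := Ideal.Quotient.mk_surjective a
    rfl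
  have hsurj : Function.Surjective
      (algebraMap (R ⧸ (maximalIdeal A).map (algebraMap A R)) (ResidueField R)) :=
    Ideal.Quotient.factor_surjective hIm
  have hsep' : Algebra.FormallySmooth (A ⧸ maximalIdeal A) (ResidueField R) := hsep
  obtain ⟨l, hl⟩ := (Algebra.FormallySmooth.iff_split_injection hsurj).mp hsep'
  have hinj : Function.Injective (kerCotangentToTensor (A ⧸ maximalIdeal A)
      (R ⧸ (maximalIdeal A).map (algebraMap A R)) (ResidueField R)) := by
    intro x y hxy
    have := congrArg l hxy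
    rwa [← LinearMap.comp_apply, ← LinearMap.comp_apply, hl] at this
  -- the quotient is local
  have hIne : (maximalIdeal A).map (algebraMap A R) ≠ ⊤ := fun h =>
    (maximalIdeal.isMaximal R).ne_top (top_le_iff.mp (h ▸ hIm))
  haveI : Nontrivial (R ⧸ (maximalIdeal A).map (algebraMap A R)) :=
    Ideal.Quotient.nontrivial_iff.mpr hIne
  haveI : IsLocalRing (R ⧸ (maximalIdeal A).map (algebraMap A R)) :=
    IsLocalRing.of_surjective' (Ideal.Quotient.mk _) Ideal.Quotient.mk_surjective
  obtain ⟨mb, hmb⟩ : ∃ mb : Ideal (R ⧸ (maximalIdeal A).map (algebraMap A R)),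
      mb = RingHom.ker (algebraMap (R ⧸ (maximalIdeal A).map (algebraMap A R))
        (ResidueField R)) := ⟨_, rfl⟩
  have hmem : ∀ r : R, Ideal.Quotient.mk ((maximalIdeal A).map (algebraMap A R)) r ∈ mb ↔
      r ∈ maximalIdeal R := by
    intro r
    rw [hmb, RingHom.mem_ker]
    exact IsLocalRing.residue_eq_zero_iff r
  have hmbne : mb ≠ ⊥ := by
    obtain ⟨r, hr, hrI⟩ := SetLike.exists_of_lt (lt_of_le_of_ne hIm hne)
    intro h0
    have h1 := (hmem r).mpr hr
    rw [h0, Ideal.mem_bot, Ideal.Quotient.eq_zero_iff_mem] at h1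
    exact hrI h1
  have hmb_jac : mb ≤ Ideal.jacobson ⊥ := by
    have : mb.IsMaximal := hmb ▸ RingHom.ker_isMaximal_of_surjective _ hsurj
    rw [IsLocalRing.eq_maximalIdeal this]
    exact IsLocalRing.maximalIdeal_le_jacobson _
  have hcot : Nontrivial mb.Cotangent := by
    by_contra hnt
    rw [not_nontrivial_iff_subsingleton, Ideal.cotangent_subsingleton_iff] at hnt
    apply hmbne
    refine Submodule.eq_bot_of_le_smul_of_le_jacobson_bot mb mb (IsNoetherian.noetherian _) ?_
      hmb_jac
    rw [smul_eq_mul]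
    exact (show mb * mb = mb from hnt).ge
  subst hmb
  obtain ⟨c, hc⟩ := exists_ne (0 : (RingHom.ker (algebraMap
    (R ⧸ (maximalIdeal A).map (algebraMap A R)) (ResidueField R))).Cotangent)
  obtain ⟨t, rfl⟩ := Ideal.toCotangent_surjective _ c
  have h1 : kerCotangentToTensor (A ⧸ maximalIdeal A)
      (R ⧸ (maximalIdeal A).map (algebraMap A R)) (ResidueField R)
      (Ideal.toCotangent _ t) ≠ 0 := fun h => hc (hinj (h.trans (map_zero _).symm))
  rw [kerCotangentToTensor_toCotangent] at h1
  obtain ⟨h, hh⟩ := Ideal.Quotient.mk_surjective (t : R ⧸ (maximalIdeal A).map (algebraMap A R))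
  have hhm : h ∈ maximalIdeal R := by
    rw [← hmem, hh]
    exact t.2
  refine ⟨h, hhm, fun h0 => h1 ?_⟩
  rw [one_tmul_eq_zero_iff] at h0
  have key : ∀ ω ∈ (maximalIdeal R • ⊤ : Submodule R Ω[R⁄A]),
      (1 : ResidueField R) ⊗ₜ[R ⧸ (maximalIdeal A).map (algebraMap A R)]
        (KaehlerDifferential.map A (A ⧸ maximalIdeal A) R
          (R ⧸ (maximalIdeal A).map (algebraMap A R)) ω) = 0 := by
    intro ω hω
    refine Submodule.smul_induction_on hω ?_ ?_
    · intro r hr x _
      rw [map_smul, ← algebraMap_smul (R ⧸ (maximalIdeal A).map (algebraMap A R)) r,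
        ← TensorProduct.smul_tmul, Algebra.smul_def, mul_one]
      have : algebraMap (R ⧸ (maximalIdeal A).map (algebraMap A R)) (ResidueField R)
          (algebraMap R (R ⧸ (maximalIdeal A).map (algebraMap A R)) r) = 0 :=
        (IsLocalRing.residue_eq_zero_iff r).mpr hr
      rw [this, TensorProduct.zero_tmul]
    · intro x y hx hy
      rw [map_add, TensorProduct.tmul_add, hx, hy, add_zero]
  have := key _ h0
  rw [KaehlerDifferential.map_D] at this
  rw [← hh]
  exact this

theorem exists_dh_ne_zero' (A R : Type u) [CommRing A] [CommRing R] [IsLocalRing A]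
    [IsLocalRing R] [Algebra A R] [IsLocalHom (algebraMap A R)] [Algebra.FormallySmooth A R]
    (hnoeth : IsNoetherianRing (R ⧸ (maximalIdeal A).map (algebraMap A R)))
    (ρ : ResidueField A →+* ResidueField R)
    (hρ : ∀ a, ρ (residue A a) = residue R (algebraMap A R a))
    (hsep : letI := ρ.toAlgebra; Algebra.FormallySmooth (ResidueField A) (ResidueField R))
    (hne : (maximalIdeal A).map (algebraMap A R) ≠ maximalIdeal R) :
    ∃ h ∈ maximalIdeal R, (1 : ResidueField R) ⊗ₜ[R] D A R h ≠ 0 := by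
  have : ρ.toAlgebra = (inferInstance : Algebra (ResidueField A) (ResidueField R)) := by
    refine Algebra.algebra_ext _ _ (fun r => ?_)
    obtain ⟨a, rfl⟩ := residue_surjective r
    exact hρ a
  rw [this] at hsep
  exact exists_dh_ne_zero A R hnoeth hsep hne

end

-- ===== part Gen2 =====
section

open IsLocalRing
open AlgebraicGeometry CategoryTheory CategoryTheory.Limits

variable {X S : Scheme.{u}}

/-- the stalks of the spectrum of a field have zero maximal ideal -/
lemma maximalIdeal_stalk_spec_field (K : Type u) [Field K] (t : Spec (CommRingCat.of K)) :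
    maximalIdeal ((Spec (CommRingCat.of K)).presheaf.stalk t) = ⊥ := by
  haveI : t.asIdeal.IsPrime := t.2
  letI : Algebra K ((Spec (CommRingCat.of K)).presheaf.stalk t) :=
    StructureSheaf.stalkAlgebra K t
  haveI : IsLocalization.AtPrime ((Spec (CommRingCat.of K)).presheaf.stalk t) t.asIdeal :=
    StructureSheaf.IsLocalization.to_stalk K t
  rw [← IsLocalization.AtPrime.map_eq_maximalIdeal t.asIdeal
    ((Spec (CommRingCat.of K)).presheaf.stalk t)]
  have : t.asIdeal = ⊥ := Ideal.eq_bot_of_prime t.asIdeal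
  rw [this, Ideal.map_bot]

/-- a morphism factoring through the spectrum of a field kills the maximal ideals on stalks -/
lemma stalkMap_eq_zero_of_factors {F : Scheme.{u}} (g : F ⟶ S) (K : Type u) [Field K]
    (q : F ⟶ Spec (CommRingCat.of K)) (r : Spec (CommRingCat.of K) ⟶ S) (e : g = q ≫ r) (z : F)
    (a : S.presheaf.stalk (g z)) (ha : a ∈ maximalIdeal (S.presheaf.stalk (g z))) :
    (g.stalkMap z).hom a = 0 := by
  subst e
  rw [Scheme.Hom.stalkMap_comp]
  revert a
  show ∀ a : ↑(S.presheaf.stalk (r (q z))), a ∈ maximalIdeal _ →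
    (q.stalkMap z).hom ((r.stalkMap (q z)).hom a) = 0
  intro a ha
  have h1 : (r.stalkMap (q z)).hom a ∈
      maximalIdeal ((Spec (CommRingCat.of K)).presheaf.stalk (q z)) := by
    rw [mem_maximalIdeal, mem_nonunits_iff] at ha ⊢
    exact fun hu => ha (isUnit_of_map_unit (r.stalkMap (q z)).hom a hu)
  rw [maximalIdeal_stalk_spec_field, Ideal.mem_bot] at h1
  rw [h1, map_zero]

/-- if `𝔪_x = 𝔪_s 𝒪_x` then the local ring of the fibre at `x` is a field -/
lemma maximalIdeal_fiber_stalk_eq_bot (f : X ⟶ S) (y : S) (z : f.fiber y)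
    (hz : (maximalIdeal (S.presheaf.stalk (f (f.fiberι y z)))).map
        (f.stalkMap (f.fiberι y z)).hom =
      maximalIdeal (X.presheaf.stalk (f.fiberι y z))) :
    maximalIdeal ((f.fiber y).presheaf.stalk z) = ⊥ := by
  rw [eq_bot_iff]
  intro t ht
  obtain ⟨b, rfl⟩ := (f.fiberι y).stalkMap_surjective z t
  have hb : b ∈ maximalIdeal (X.presheaf.stalk (f.fiberι y z)) := by
    rw [mem_maximalIdeal, mem_nonunits_iff] at ht ⊢
    exact fun hu => ht (hu.map _)
  rw [← hz, Ideal.map, ← Ideal.submodule_span_eq] at hb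
  rw [Ideal.mem_bot]
  clear ht
  induction hb using Submodule.span_induction with
  | mem x hx =>
    obtain ⟨a, ha, rfl⟩ := hx
    have key := stalkMap_eq_zero_of_factors (f.fiberι y ≫ f) (S.residueField y)
      (f.fiberToSpecResidueField y) (S.fromSpecResidueField y) (f.fiber_fac y) z a ha
    rw [Scheme.Hom.stalkMap_comp] at key
    exact key
  | zero => exact map_zero _
  | add x y _ _ hx hy => rw [map_add, hx, hy, add_zero]
  | smul c x _ hx => rw [smul_eq_mul, map_mul, hx, mul_zero]

end

-- ===== part Gen3 =====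
section

open IsLocalRing TensorProduct
open AlgebraicGeometry CategoryTheory CategoryTheory.Limits

variable {X S : Scheme.{u}}

theorem main (f : X ⟶ S) (x : X)
    (W : X.Opens) (hxW : x ∈ W) (hW : Smooth (W.ι ≫ f))
    (hsep : letI := (f.residueFieldMap x).hom.toAlgebra
      Algebra.FormallySmooth (S.residueField (f x)) (X.residueField x))
    (hgen : IsLocalRing.maximalIdeal ↑((f.fiber (f x)).presheaf.stalk (f.asFiber x)) ≠ ⊥) :
    ∃ (U : X.Opens) (hU : IsAffineOpen U) (hx : x ∈ U) (h' : Γ(X, U)),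
      h' ∈ nonZeroDivisors Γ(X, U) ∧
      X.presheaf.germ U x hx h' ∈ IsLocalRing.maximalIdeal ↑(X.presheaf.stalk x) ∧
      Smooth (Spec.map (CommRingCat.ofHom (Ideal.Quotient.mk (Ideal.span {h'}))) ≫
        hU.fromSpec ≫ f) := by
  -- step 1: `𝔪_x ≠ 𝔪_s 𝒪_x`
  have hne : (maximalIdeal (S.presheaf.stalk (f x))).map (f.stalkMap x).hom ≠
      maximalIdeal (X.presheaf.stalk x) := by
    have h1 := mt (maximalIdeal_fiber_stalk_eq_bot f (f x) (f.asFiber x)) hgen
    have key : ∀ x₁ : X, x₁ = x →
        ¬ ((maximalIdeal (S.presheaf.stalk (f x₁))).map (f.stalkMap x₁).hom =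
          maximalIdeal (X.presheaf.stalk x₁)) →
        (maximalIdeal (S.presheaf.stalk (f x))).map (f.stalkMap x).hom ≠
          maximalIdeal (X.presheaf.stalk x) := by
      rintro _ rfl h
      exact h
    exact key _ (f.fiberι_asFiber x) h1
  -- step 2: the stalk map is formally smooth and essentially of finite type
  haveI := hW
  obtain ⟨x', hx'⟩ : ∃ x' : (W : Scheme.{u}), W.ι x' = x := ⟨⟨x, hxW⟩, rfl⟩
  subst hx'
  have hcomp : (W.ι ≫ f).stalkMap x' = f.stalkMap (W.ι x') ≫ W.ι.stalkMap x' :=
    Scheme.Hom.stalkMap_comp W.ι f x'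
  have hfs : (f.stalkMap (W.ι x')).hom.FormallySmooth := by
    have h1 : ((W.ι ≫ f).stalkMap x').hom.FormallySmooth := by
      rw [← Scheme.Hom.mem_smoothLocus, (W.ι ≫ f).smoothLocus_eq_top]
      trivial
    rw [hcomp] at h1
    exact (RingHom.FormallySmooth.respectsIso.cancel_right_isIso _ _).mp h1
  have hess : (f.stalkMap (W.ι x')).hom.EssFiniteType := by
    have h1 : ((W.ι ≫ f).stalkMap x').hom.EssFiniteType :=
      LocallyOfFiniteType.stalkMap (W.ι ≫ f) x'
    rw [hcomp] at h1
    exact (RingHom.EssFiniteType.respectsIso.cancel_right_isIso _ _).mp h1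
  letI : Algebra (S.presheaf.stalk (f (W.ι x'))) (X.presheaf.stalk (W.ι x')) :=
    (f.stalkMap (W.ι x')).hom.toAlgebra
  haveI : Algebra.FormallySmooth (S.presheaf.stalk (f (W.ι x'))) (X.presheaf.stalk (W.ι x')) :=
    hfs
  haveI : Algebra.EssFiniteType (S.presheaf.stalk (f (W.ι x'))) (X.presheaf.stalk (W.ι x')) :=
    hess
  haveI : IsLocalHom (algebraMap (S.presheaf.stalk (f (W.ι x'))) (X.presheaf.stalk (W.ι x'))) :=
    inferInstanceAs (IsLocalHom (f.stalkMap (W.ι x')).hom)
  have hnoeth : IsNoetherianRing ((X.presheaf.stalk (W.ι x')) ⧸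
      (maximalIdeal (S.presheaf.stalk (f (W.ι x')))).map
        (algebraMap (S.presheaf.stalk (f (W.ι x'))) (X.presheaf.stalk (W.ι x')))) := by
    letI : Field ((S.presheaf.stalk (f (W.ι x'))) ⧸
        maximalIdeal (S.presheaf.stalk (f (W.ι x')))) := Ideal.Quotient.field _
    exact Algebra.EssFiniteType.isNoetherianRing ((S.presheaf.stalk (f (W.ι x'))) ⧸
        maximalIdeal (S.presheaf.stalk (f (W.ι x')))) _
  obtain ⟨h, hm, hd⟩ := exists_dh_ne_zero' (S.presheaf.stalk (f (W.ι x')))
    (X.presheaf.stalk (W.ι x')) hnoeth (f.residueFieldMap (W.ι x')).hom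
    (fun a => congr($(Scheme.residue_residueFieldMap f (W.ι x')).hom a)) hsep hne
  obtain ⟨U, hU, hx, h', hgerm, hnzd, hsm⟩ :=
    Groth.Agent.Lib.H9SmDiv.main f (W.ι x') W hxW hW h hm hd
  exact ⟨U, hU, hx, h', hnzd, hgerm ▸ hm, hsm⟩

end

end Groth.Agent.Lib.H9SmDivGen
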