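import Mathlib
import Groth.Agent.Lib.Helper8Conn

/-! helper9: topological lemmas for S3258 (smooth arithmetic surfaces are relatively minimal).
`IsMaxPt` (no proper generization), `exists_isMaxPt_specializes`, `isOpen_closure_of_unique`
(if maximal points with a common specialization coincide then closures of maximal points are open,
Noetherian quasi-sober T0 spaces), `exists_nonclosed_of_isPreconnected` (a preconnected closed
subset with two points of a Noetherian quasi-sober space has a non-closed point),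
`one_le_dim_closure`, `isMaxPt_of_dim_lt_two`. -/

set_option autoImplicit false
universe u

namespace Groth.Agent.Lib.H9SmMinA

open TopologicalSpace Set

variable {T : Type*} [TopologicalSpace T]

/-- a maximal point: no proper generization -/
def IsMaxPt (ξ : T) : Prop := ∀ z : T, z ⤳ ξ → z = ξ

theorem isMaxPt_genericPoint [QuasiSober T] [T0Space T] (t : Set T)
    (ht : t ∈ irreducibleComponents T) (η : T) (hgen : IsGenericPoint η t) : IsMaxPt η := by
  intro z hz
  have h1 : t ⊆ closure {z} := by
    rw [← hgen.def]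
    exact specializes_iff_closure_subset.1 hz
  have h3 : closure ({z} : Set T) ⊆ t := ht.2 isIrreducible_singleton.closure h1
  have h4 : z ∈ closure ({η} : Set T) := by
    rw [hgen.def]
    exact h3 (subset_closure rfl)
  exact (hz.antisymm (specializes_iff_mem_closure.2 h4)).eq

theorem exists_isMaxPt_specializes [QuasiSober T] [T0Space T] (y : T) :
    ∃ ζ : T, IsMaxPt ζ ∧ ζ ⤳ y := by
  have hirr : IsIrreducible (irreducibleComponent y) := isIrreducible_irreducibleComponent
  have hcl : IsClosed (irreducibleComponent y) := isClosed_irreducibleComponent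
  have hgen := hirr.isGenericPoint_genericPoint hcl
  refine ⟨hirr.genericPoint, isMaxPt_genericPoint _
    (irreducibleComponent_mem_irreducibleComponents y) _ hgen, ?_⟩
  apply specializes_iff_mem_closure.2
  rw [hgen.def]
  exact mem_irreducibleComponent

theorem isOpen_closure_of_unique [NoetherianSpace T] [QuasiSober T] [T0Space T]
    (H : ∀ ξ η w : T, IsMaxPt ξ → IsMaxPt η → ξ ⤳ w → η ⤳ w → ξ = η)
    (ξ : T) (hξ : IsMaxPt ξ) : IsOpen (closure ({ξ} : Set T)) := by
  have hfin : (irreducibleComponents T).Finite := NoetherianSpace.finite_irreducibleComponents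
  have hBcl : IsClosed (⋃₀ (irreducibleComponents T \ {closure ({ξ} : Set T)})) :=
    Groth.Agent.Lib.Helper8.Conn.isClosed_sUnion_of_finite (hfin.subset diff_subset)
      (fun s hs => isClosed_of_mem_irreducibleComponents s hs.1)
  have hEq : closure ({ξ} : Set T) =
      (⋃₀ (irreducibleComponents T \ {closure ({ξ} : Set T)}))ᶜ := by
    ext w
    constructor
    · intro hw hwB
      obtain ⟨t, ⟨ht, htne⟩, hwt⟩ := hwB
      have htirr : IsIrreducible t := ht.1
      have htcl : IsClosed t := isClosed_of_mem_irreducibleComponents t ht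
      have hgen := htirr.isGenericPoint_genericPoint htcl
      have hηmax : IsMaxPt htirr.genericPoint := isMaxPt_genericPoint t ht _ hgen
      have h6 : ξ = htirr.genericPoint := H ξ _ w hξ hηmax (specializes_iff_mem_closure.2 hw)
        (specializes_iff_mem_closure.2 (by rw [hgen.def]; exact hwt))
      apply htne
      rw [mem_singleton_iff, h6, hgen.def]
    · intro hw
      by_contra hnot
      apply hw
      refine ⟨irreducibleComponent w, ⟨irreducibleComponent_mem_irreducibleComponents w, ?_⟩,
        mem_irreducibleComponent⟩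
      intro heq
      rw [mem_singleton_iff] at heq
      exact hnot (heq ▸ mem_irreducibleComponent)
  rw [hEq]
  exact hBcl.isOpen_compl

theorem exists_nonclosed_of_isPreconnected [NoetherianSpace T] [QuasiSober T]
    (F : Set T) (hF : IsClosed F) (hpre : IsPreconnected F) (x₁ x₂ : T) (h₁ : x₁ ∈ F)
    (h₂ : x₂ ∈ F) (hne : x₁ ≠ x₂) : ∃ ξ ∈ F, ∃ x' ∈ closure ({ξ} : Set T), x' ≠ ξ := by
  by_contra hcon
  push Not at hcon
  have hclpt : ∀ ξ ∈ F, closure ({ξ} : Set T) = {ξ} := fun ξ hξ =>
    Set.Subset.antisymm (fun x' hx' => hcon ξ hξ x' hx') subset_closure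
  obtain ⟨S, hSfin, hScl, hSirr, hFS⟩ := NoetherianSpace.exists_finite_set_isClosed_irreducible hF
  have hsing : ∀ t ∈ S, ∃ ξ ∈ F, t = {ξ} := by
    intro t ht
    obtain ⟨η, hgen⟩ : ∃ η, IsGenericPoint η t :=
      ⟨_, (hSirr t ht).isGenericPoint_genericPoint (hScl t ht)⟩
    have hηt : η ∈ t := by
      rw [← hgen.def]
      exact subset_closure rfl
    have hmem : η ∈ F := by
      rw [hFS]
      exact ⟨t, ht, hηt⟩
    exact ⟨η, hmem, by rw [← hgen.def, hclpt _ hmem]⟩
  have hA : IsClosed ({x₁} : Set T) := by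
    rw [← hclpt x₁ h₁]
    exact isClosed_closure
  have hB : IsClosed (⋃₀ (S \ {({x₁} : Set T)})) :=
    Groth.Agent.Lib.Helper8.Conn.isClosed_sUnion_of_finite (hSfin.subset diff_subset)
      (fun s hs => hScl s hs.1)
  have hcov : F ⊆ {x₁} ∪ ⋃₀ (S \ {({x₁} : Set T)}) := by
    intro x hx
    rw [hFS] at hx
    obtain ⟨t, ht, hxt⟩ := hx
    by_cases htx : t = {x₁}
    · left
      rw [htx] at hxt
      exact hxt
    · right
      exact ⟨t, ⟨ht, htx⟩, hxt⟩
  have hx₂B : x₂ ∈ ⋃₀ (S \ {({x₁} : Set T)}) := by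
    rcases hcov h₂ with h | h
    · exact absurd (mem_singleton_iff.1 h).symm hne
    · exact h
  obtain ⟨z, hzF, hzA, hzB⟩ := (isPreconnected_closed_iff.1 hpre) {x₁} _ hA hB hcov
    ⟨x₁, h₁, rfl⟩ ⟨x₂, h₂, hx₂B⟩
  rw [mem_singleton_iff] at hzA
  subst hzA
  obtain ⟨t, ⟨ht, htne⟩, hzt⟩ := hzB
  obtain ⟨ξ, -, rfl⟩ := hsing t ht
  rw [mem_singleton_iff] at hzt
  exact htne (by rw [hzt]; rfl)

theorem closure_ne_of_specializes_ne [T0Space T] (a b : T) (hab : a ⤳ b) (hne : a ≠ b) :
    closure ({b} : Set T) ≠ closure {a} := by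
  intro h
  apply hne
  have : b ⤳ a := specializes_iff_closure_subset.2 h.ge
  exact (hab.antisymm this).eq

theorem one_le_dim_closure [T0Space T] (a b : T) (hab : a ⤳ b) (hne : a ≠ b) :
    (1 : WithBot ℕ∞) ≤ topologicalKrullDim ↥(closure ({a} : Set T)) := by
  have hC : IsIrreducible (closure ({a} : Set T)) := isIrreducible_singleton.closure
  have hsub : closure ({b} : Set T) ⊆ closure {a} := specializes_iff_closure_subset.1 hab
  have h1 := Groth.Agent.Lib.Helper8.Conn.dim_add_one_le_of_proper_closed hC isClosed_closure hsub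
    (closure_ne_of_specializes_ne a b hab hne) ⟨b, subset_closure rfl⟩
  have h0 : (0 : WithBot ℕ∞) ≤ topologicalKrullDim ↥(closure ({b} : Set T)) := by
    haveI : IrreducibleSpace ↥(closure ({b} : Set T)) :=
      Subtype.irreducibleSpace isIrreducible_singleton.closure
    haveI : Nonempty (IrreducibleCloseds ↥(closure ({b} : Set T))) :=
      ⟨⟨univ, IrreducibleSpace.isIrreducible_univ _, isClosed_univ⟩⟩
    exact Order.krullDim_nonneg
  calc (1 : WithBot ℕ∞) = 0 + 1 := (zero_add 1).symm
    _ ≤ topologicalKrullDim ↥(closure ({b} : Set T)) + 1 := by gcongr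
    _ ≤ _ := h1

theorem isMaxPt_of_dim_lt_two [T0Space T] (hdim : topologicalKrullDim T < 2) (ξ x' : T)
    (hx' : ξ ⤳ x') (hne : ξ ≠ x') : IsMaxPt ξ := by
  intro z hz
  by_contra hzne
  have h1 := one_le_dim_closure ξ x' hx' hne
  have hC : IsIrreducible (closure ({z} : Set T)) := isIrreducible_singleton.closure
  have hsub : closure ({ξ} : Set T) ⊆ closure {z} := specializes_iff_closure_subset.1 hz
  have h2 := Groth.Agent.Lib.Helper8.Conn.dim_add_one_le_of_proper_closed hC isClosed_closure hsub
    (closure_ne_of_specializes_ne z ξ hz hzne) ⟨ξ, subset_closure rfl⟩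
  have h3 : topologicalKrullDim ↥(closure ({z} : Set T)) ≤ topologicalKrullDim T :=
    topologicalKrullDim_subspace_le _ _
  have h4 : (1 : WithBot ℕ∞) + 1 ≤ topologicalKrullDim T :=
    calc (1 : WithBot ℕ∞) + 1 ≤ topologicalKrullDim ↥(closure ({ξ} : Set T)) + 1 := by gcongr
      _ ≤ _ := h2
      _ ≤ _ := h3
  have h5 : (1 : WithBot ℕ∞) + 1 = 2 := by norm_num
  rw [h5] at h4
  exact absurd (lt_of_le_of_lt h4 hdim) (lt_irrefl _)

/-- a closed point below a non-closed point in a space of dimension `< 2` -/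
theorem isClosed_singleton_of_dim_lt_two [T0Space T] (hdim : topologicalKrullDim T < 2)
    (ξ x' : T) (hx' : ξ ⤳ x') (hne : ξ ≠ x') : IsClosed ({x'} : Set T) := by
  rw [← closure_eq_iff_isClosed]
  refine Set.Subset.antisymm ?_ subset_closure
  intro w hw
  rw [mem_singleton_iff]
  by_contra hwne
  have hsp : x' ⤳ w := specializes_iff_mem_closure.2 hw
  have hmax := isMaxPt_of_dim_lt_two hdim x' w hsp (fun h => hwne h.symm)
  exact hne (hmax ξ hx')

end Groth.Agent.Lib.H9SmMinA
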