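import Mathlib
import Groth.Prelude
import Groth.Agent.Lib.H9SmMinA
import Groth.Agent.Lib.Helper4DimFormulaAE
import Groth.Agent.Lib.Helper4DimFormulaAQ
import Groth.Agent.Lib.Helper4DimFormulaT
import Groth.Agent.Lib.Helper6StalkIso
import Groth.Agent.Lib.H5bDimIneq
import Groth.Agent.Lib.H5bFieldSp
import Groth.Agent.Lib.H5bLqfDim
import Groth.Agent.Lib.H9RectDepthSch

/-! helper9: scheme-theoretic lemmas for S3258. `eq_of_isMaxPt_of_isDomain_stalk` (domain stalks:
maximal points with a common specialization coincide), generic-fibre lemmas over a domain `R`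
(`range_genPt`, `mem_range_of_generic`, `eq_of_generic`, `isIso_stalkMap_of_generic`),
`ptTrdeg_eq_zero_of_surjective_stalkMap`, `two_le_stalk_dim` (dimension inequality: a positive
dimensional fibre of a birational morphism lies over a point of codimension `≥ 2`),
`stalk_dim_le_of_quasiFiniteAt`, `asIdeal_eq_bot_of_isMaxPt`. -/

set_option autoImplicit false
universe u

namespace Groth.Agent.Lib.H9SmMinB

open CategoryTheory CategoryTheory.Limits AlgebraicGeometry TopologicalSpace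
open Groth.Agent.Lib.H9SmMinA Groth.Agent.Lib.Helper4.DimFormula

/-- in a scheme with domain stalks, two maximal points with a common specialization coincide -/
theorem eq_of_isMaxPt_of_isDomain_stalk {W : Scheme.{u}}
    (hW : ∀ w : W, IsDomain (W.presheaf.stalk w))
    (ξ η w : W) (hξ : IsMaxPt ξ) (hη : IsMaxPt η) (hξw : ξ ⤳ w) (hηw : η ⤳ w) : ξ = η := by
  haveI := hW w
  obtain ⟨𝔭, h𝔭, e1⟩ := exists_prime_fromSpecStalk_eq hξw
  obtain ⟨𝔮, h𝔮, e2⟩ := exists_prime_fromSpecStalk_eq hηw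
  let b : PrimeSpectrum (W.presheaf.stalk w) := ⟨⊥, Ideal.isPrime_bot⟩
  have hb1 : b ⤳ (⟨𝔭, h𝔭⟩ : PrimeSpectrum (W.presheaf.stalk w)) :=
    (PrimeSpectrum.le_iff_specializes _ _).1 (bot_le : (⊥ : Ideal _) ≤ 𝔭)
  have hb2 : b ⤳ (⟨𝔮, h𝔮⟩ : PrimeSpectrum (W.presheaf.stalk w)) :=
    (PrimeSpectrum.le_iff_specializes _ _).1 (bot_le : (⊥ : Ideal _) ≤ 𝔮)
  have k1 : (W.fromSpecStalk w) b ⤳ ξ := by
    have := hb1.map (W.fromSpecStalk w).continuous
    rw [← e1]
    exact this
  have k2 : (W.fromSpecStalk w) b ⤳ η := by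
    have := hb2.map (W.fromSpecStalk w).continuous
    rw [← e2]
    exact this
  exact (hξ _ k1).symm.trans (hη _ k2)

section Gen

variable (R : Type u) [CommRing R] [IsDomain R]

theorem flat_genPt : Flat (Neron.genPt R) := by
  unfold Neron.genPt
  rw [Flat.SpecMap_iff]
  show (algebraMap R (FractionRing R)).Flat
  rw [RingHom.flat_algebraMap_iff]
  infer_instance

theorem isPreimmersion_genPt : IsPreimmersion (Neron.genPt R) :=
  IsPreimmersion.of_isLocalization (nonZeroDivisors R)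

theorem range_genPt :
    Set.range (Neron.genPt R) = {s : Spec (CommRingCat.of R) | s.asIdeal = ⊥} := by
  ext s
  constructor
  · rintro ⟨pt, rfl⟩
    change Ideal.comap (algebraMap R (FractionRing R)) pt.asIdeal = ⊥
    have h1 : pt.asIdeal = ⊥ := Ideal.eq_bot_of_prime pt.asIdeal
    rw [h1]
    exact Ideal.comap_bot_of_injective _ (IsFractionRing.injective R (FractionRing R))
  · intro hs
    refine ⟨(⟨⊥, Ideal.isPrime_bot⟩ : PrimeSpectrum (FractionRing R)), ?_⟩
    apply PrimeSpectrum.ext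
    change Ideal.comap (algebraMap R (FractionRing R)) ⊥ = s.asIdeal
    rw [Ideal.comap_bot_of_injective _ (IsFractionRing.injective R (FractionRing R))]
    exact hs.symm

variable {R}
variable {X Y : Scheme.{u}} (p : X ⟶ Spec (CommRingCat.of R)) (q : Y ⟶ Spec (CommRingCat.of R))
  (γ : X ⟶ Y) (hγ : γ ≫ q = p)
  (gK : pullback p (Neron.genPt R) ⟶ pullback q (Neron.genPt R)) [IsIso gK]
  (hgK : gK ≫ pullback.fst q (Neron.genPt R) = pullback.fst p (Neron.genPt R) ≫ γ)

theorem exists_lift_of_generic (x : X) (hx : (p x).asIdeal = ⊥) :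
    ∃ x' : ↥(pullback p (Neron.genPt R)), pullback.fst p (Neron.genPt R) x' = x := by
  have : x ∈ Set.range (pullback.fst p (Neron.genPt R)) := by
    rw [Scheme.Pullback.range_fst, range_genPt]
    exact hx
  exact this

include hgK in
theorem mem_range_of_generic (y : Y) (hy : (q y).asIdeal = ⊥) : y ∈ Set.range γ := by
  obtain ⟨y', rfl⟩ := exists_lift_of_generic q y hy
  obtain ⟨x', rfl⟩ := (ConcreteCategory.bijective_of_isIso gK.base).2 y'
  refine ⟨pullback.fst p (Neron.genPt R) x', ?_⟩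
  have := congrArg (fun f : pullback p (Neron.genPt R) ⟶ Y => f x') hgK
  exact this.symm

include hγ hgK in
theorem eq_of_generic (x₁ x₂ : X) (h : γ x₁ = γ x₂) (hx : (p x₁).asIdeal = ⊥) : x₁ = x₂ := by
  have hx2 : (p x₂).asIdeal = ⊥ := by
    have e1 : p x₁ = q (γ x₁) := by rw [← hγ]; rfl
    have e2 : p x₂ = q (γ x₂) := by rw [← hγ]; rfl
    rw [e2, ← h, ← e1]
    exact hx
  obtain ⟨a₁, rfl⟩ := exists_lift_of_generic p x₁ hx
  obtain ⟨a₂, rfl⟩ := exists_lift_of_generic p x₂ hx2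
  have k1 := congrArg (fun f : pullback p (Neron.genPt R) ⟶ Y => f a₁) hgK
  have k2 := congrArg (fun f : pullback p (Neron.genPt R) ⟶ Y => f a₂) hgK
  have k3 : pullback.fst q (Neron.genPt R) (gK a₁) = pullback.fst q (Neron.genPt R) (gK a₂) :=
    k1.trans (h.trans k2.symm)
  haveI := isPreimmersion_genPt R
  have k4 : gK a₁ = gK a₂ := (pullback.fst q (Neron.genPt R)).isEmbedding.injective k3
  rw [(ConcreteCategory.bijective_of_isIso gK.base).1 k4]

include hgK in
theorem isIso_stalkMap_of_generic (x : X) (hx : (p x).asIdeal = ⊥) : IsIso (γ.stalkMap x) := by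
  obtain ⟨a, rfl⟩ := exists_lift_of_generic p x hx
  haveI := isPreimmersion_genPt R
  haveI := flat_genPt R
  haveI : Flat (pullback.fst p (Neron.genPt R)) := MorphismProperty.pullback_fst _ _ inferInstance
  haveI : Flat (pullback.fst q (Neron.genPt R)) := MorphismProperty.pullback_fst _ _ inferInstance
  haveI h1 : IsIso ((pullback.fst p (Neron.genPt R)).stalkMap a) :=
    Groth.Agent.Lib.Helper6.isIso_stalkMap_of_flat_of_isPreimmersion _ a
  haveI h2 : IsIso ((pullback.fst q (Neron.genPt R)).stalkMap (gK a)) :=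
    Groth.Agent.Lib.Helper6.isIso_stalkMap_of_flat_of_isPreimmersion _ (gK a)
  haveI h4 : IsIso (gK.stalkMap a) := inferInstance
  have h3 : IsIso ((pullback.fst p (Neron.genPt R) ≫ γ).stalkMap a) := by
    rw [← hgK, Scheme.Hom.stalkMap_comp]
    exact IsIso.comp_isIso' h2 h4
  rw [Scheme.Hom.stalkMap_comp] at h3
  exact @IsIso.of_isIso_comp_right _ _ _ _ _ _ _ h1 h3

end Gen

section Dim

attribute [local instance] Curv2.resAlgebra

variable {X Y : Scheme.{u}} (γ : X ⟶ Y) [LocallyOfFiniteType γ]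

theorem ptTrdeg_eq_zero_of_surjective_stalkMap (x : X)
    (h : Function.Surjective (γ.stalkMap x).hom) : ptTrdeg γ x = 0 := by
  have h1 := trdeg_eq_ptTrdeg γ x
  letI : Algebra (Y.residueField (γ.base x)) (X.residueField x) :=
    (γ.residueFieldMap x).hom.toAlgebra
  have hsurj : Function.Surjective (algebraMap (Y.residueField (γ.base x)) (X.residueField x)) := by
    intro a
    obtain ⟨a', rfl⟩ := IsLocalRing.residue_surjective (R := X.presheaf.stalk x) a
    obtain ⟨b, rfl⟩ := h a'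
    refine ⟨Y.residue (γ.base x) b, ?_⟩
    have := congrArg (fun φ : Y.presheaf.stalk (γ.base x) ⟶ X.residueField x => φ.hom b)
      (Scheme.residue_residueFieldMap γ x)
    exact this
  haveI : Algebra.IsIntegral (Y.residueField (γ.base x)) (X.residueField x) :=
    Algebra.isIntegral_of_surjective hsurj
  have h2 : Algebra.trdeg (Y.residueField (γ.base x)) (X.residueField x) = 0 :=
    trdeg_eq_zero
  have h3 : ((ptTrdeg γ x : ℕ) : Cardinal.{u}) = 0 := h1.symm.trans h2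
  exact_mod_cast h3

theorem one_le_of_nonneg_of_ne_zero (a : WithBot ℕ∞) (h0 : 0 ≤ a) (hne : a ≠ 0) : 1 ≤ a := by
  induction a with
  | bot => simp at h0
  | coe n =>
    have h1 : n ≠ 0 := fun h => hne (by rw [h]; rfl)
    have h2 : 1 ≤ n := Order.one_le_iff_ne_zero.2 h1
    exact_mod_cast h2

/-- **dimension inequality** for a birational morphism with a positive dimensional fibre -/
theorem two_le_stalk_dim [IsIntegral X] [IsLocallyNoetherian Y]
    (hst : Function.Surjective (γ.stalkMap (genericPoint X)).hom)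
    (ξ x' : X) (hsp : ξ ⤳ x') (hne : ξ ≠ x') (hγ : γ ξ = γ x') (hξ : ξ ≠ genericPoint X) :
    (2 : WithBot ℕ∞) ≤ ringKrullDim (Y.presheaf.stalk (γ.base ξ)) := by
  have hE : ∀ ξ' : X, ξ' ⤳ ξ → ringKrullDim (X.presheaf.stalk ξ') = 0 →
      ((ptTrdeg γ ξ' : ℕ) : WithBot ℕ∞) ≤ 0 := by
    intro ξ' _ h0
    have h1 := (Groth.Agent.Lib.H5bFieldSp.stalk_dim_zero_iff ξ').1 h0 (genericPoint X)
      (genericPoint_specializes ξ')
    rw [← h1, ptTrdeg_eq_zero_of_surjective_stalkMap γ _ hst]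
    rfl
  have h1 := Groth.Agent.Lib.H5bDimIneq.stalkDim_add_ptTrdeg_le γ ξ 0 hE
  rw [add_zero] at h1
  -- dim O_{X,ξ} ≥ 1
  have h2 : (1 : WithBot ℕ∞) ≤ ringKrullDim (X.presheaf.stalk ξ) := by
    apply one_le_of_nonneg_of_ne_zero _ ringKrullDim_nonneg_of_nontrivial
    intro h0
    exact hξ ((Groth.Agent.Lib.H5bFieldSp.stalk_dim_zero_iff ξ).1 h0 (genericPoint X)
      (genericPoint_specializes ξ)).symm
  -- ptTrdeg ≥ 1
  have h3 : (1 : WithBot ℕ∞) ≤ ((ptTrdeg γ ξ : ℕ) : WithBot ℕ∞) := by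
    rw [← Groth.Agent.Lib.H9RectDepthSch.topologicalKrullDim_closure_asFiber_eq_ptTrdeg γ ξ]
    let b : ↥(γ.fiber (γ.base ξ)) := (γ.fiberHomeo (γ.base ξ)).symm ⟨x', hγ.symm⟩
    have hb : γ.fiberι (γ.base ξ) b = x' := γ.fiberι_fiberHomeo_symm _ _
    have ha : γ.fiberι (γ.base ξ) (γ.asFiber ξ) = ξ := γ.fiberι_asFiber ξ
    have hab : γ.asFiber ξ ⤳ b := by
      rw [← (γ.fiberι (γ.base ξ)).isEmbedding.isInducing.specializes_iff, ha, hb]
      exact hsp
    have hne' : γ.asFiber ξ ≠ b := by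
      intro h
      apply hne
      rw [← ha, ← hb, h]
    exact one_le_dim_closure _ _ hab hne'
  calc (2 : WithBot ℕ∞) = 1 + 1 := by norm_num
    _ ≤ ringKrullDim (X.presheaf.stalk ξ) + ((ptTrdeg γ ξ : ℕ) : WithBot ℕ∞) :=
      add_le_add h2 h3
    _ ≤ _ := h1

end Dim

theorem stalk_dim_le_of_quasiFiniteAt {Y S : Scheme.{u}} (q : Y ⟶ S) [LocallyOfFiniteType q]
    (y : Y) (hy : q.QuasiFiniteAt y) :
    ringKrullDim (Y.presheaf.stalk y) ≤ ringKrullDim (S.presheaf.stalk (q.base y)) := by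
  have hyU : y ∈ q.quasiFiniteLocus := hy
  obtain ⟨w, rfl⟩ : ∃ w : ↥q.quasiFiniteLocus, q.quasiFiniteLocus.ι w = y := ⟨⟨y, hyU⟩, rfl⟩
  have h1 := Groth.Agent.Lib.H5bLqfDim.ringKrullDim_stalk_le_of_lqf (q.quasiFiniteLocus.ι ≫ q) w
  have h2 : ringKrullDim (Y.presheaf.stalk (q.quasiFiniteLocus.ι w)) =
      ringKrullDim ((q.quasiFiniteLocus : Scheme.{u}).presheaf.stalk w) :=
    ringKrullDim_eq_of_ringEquiv
      (asIso (q.quasiFiniteLocus.ι.stalkMap w)).commRingCatIsoToRingEquiv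
  rw [h2]
  exact h1

theorem asIdeal_eq_bot_of_isMaxPt {R : Type u} [CommRing R] [IsDomain R] {X : Scheme.{u}}
    (f : X ⟶ Spec (CommRingCat.of R)) [Flat f] (ξ : X) (hξ : IsMaxPt ξ) :
    (f ξ).asIdeal = ⊥ := by
  obtain ⟨y₀, hy₀⟩ : ∃ y₀ : Spec (CommRingCat.of R), y₀.asIdeal = ⊥ :=
    ⟨(⟨⊥, Ideal.isPrime_bot⟩ : PrimeSpectrum R), rfl⟩
  have hsp : y₀ ⤳ f ξ :=
    (PrimeSpectrum.le_iff_specializes (R := R) y₀ (f ξ)).mp (by
      change y₀.asIdeal ≤ _
      rw [hy₀]
      exact bot_le)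
  obtain ⟨x, hx, hfx⟩ := Flat.generalizingMap f hsp
  rw [← hξ x hx, hfx, hy₀]

end Groth.Agent.Lib.H9SmMinB
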