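import Mathlib
import Groth.Prelude
import Groth.Agent.Lib.H9SmMinB
import Groth.Agent.Lib.Helper8ProperO
import Groth.Agent.Lib.H9ContrU
import Groth.Agent.Lib.H9ContrU2
import Groth.Agent.Lib.H9SteinIso
import Groth.Agent.Lib.R2H4BirIso
import Groth.Agent.Lib.Helper11SmInt
import Groth.Agent.Lib.Helper5RLR
import Groth.Agent.Lib.Helper28Catenary

/-! helper9: S3258 — a smooth arithmetic surface over a Dedekind domain is relatively minimal.
`quasiFiniteAt_of_contracted` (if a birational proper morphism from a smooth fibred surface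
contracts a curve of a closed fibre to a point `y`, then `y` is isolated in its fibre),
`core`, `main3258`. -/

set_option autoImplicit false
universe u

namespace Groth.Agent.Lib.H9SmMinC

open CategoryTheory CategoryTheory.Limits AlgebraicGeometry TopologicalSpace
open Groth.Agent.Lib.H9SmMinA Groth.Agent.Lib.H9SmMinB

theorem quasiFiniteAt_of_contracted {X Y S : Scheme.{u}} (p : X ⟶ S) (q : Y ⟶ S) (γ : X ⟶ Y)
    (hγ : γ ≫ q = p) [IsIntegral X] [IsNoetherian X] (hdim : topologicalKrullDim X = 2)
    [Smooth p] [IsProper γ] [LocallyOfFiniteType q] (hsurj : Function.Surjective γ)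
    (y : Y) (hscl : IsClosed ({q.base y} : Set S)) (hgen : p.base (genericPoint X) ≠ q.base y)
    (hpre : _root_.IsPreconnected (γ ⁻¹' {y}))
    (ξ x' : X) (hξ : γ.base ξ = y) (hx' : γ.base x' = y) (hsp : ξ ⤳ x') (hne : ξ ≠ x') :
    q.QuasiFiniteAt y := by
  classical
  have hcomp : ∀ x : X, p.base x = q.base (γ.base x) := fun x => by rw [← hγ]; rfl
  have hpξ : p.base ξ = q.base y := by rw [hcomp, hξ]
  have hpx' : p.base x' = q.base y := by rw [hcomp, hx']
  have hιemb := (p.fiberι (q.base y)).isEmbedding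
  have hrange : Set.range (p.fiberι (q.base y)) = p ⁻¹' {q.base y} := p.range_fiberι (q.base y)
  have hιcl : Topology.IsClosedEmbedding (p.fiberι (q.base y)) :=
    ⟨hιemb, by rw [hrange]; exact hscl.preimage p.continuous⟩
  haveI : NoetherianSpace ↥(p.fiber (q.base y)) := hιemb.isInducing.noetherianSpace
  haveI : Smooth (p.fiberToSpecResidueField (q.base y)) :=
    MorphismProperty.pullback_snd (P := @Smooth) _ _ inferInstance
  have hW : ∀ w : ↥(p.fiber (q.base y)), IsDomain ((p.fiber (q.base y)).presheaf.stalk w) :=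
    fun w => Groth.Agent.Lib.Helper11SmInt.isDomain_stalk_of_smooth (S.residueField (q.base y))
      (p.fiberToSpecResidueField (q.base y)) w
  -- dimension of the fibre
  have hdimW : topologicalKrullDim ↥(p.fiber (q.base y)) < 2 := by
    have h1 : topologicalKrullDim ↥(p.fiber (q.base y)) =
        topologicalKrullDim ↥(p ⁻¹' {q.base y}) :=
      IsHomeomorph.topologicalKrullDim_eq _ (p.fiberHomeo (q.base y)).isHomeomorph
    have h2 : topologicalKrullDim ↥(Set.univ : Set X) = topologicalKrullDim X :=
      IsHomeomorph.topologicalKrullDim_eq _ (Homeomorph.Set.univ X).isHomeomorph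
    have h3 := Groth.Agent.Lib.Helper8.Conn.dim_lt_of_proper_closed
      (C := (Set.univ : Set X)) (Z := p ⁻¹' {q.base y})
      (IrreducibleSpace.isIrreducible_univ X) (hscl.preimage p.continuous) (Set.subset_univ _)
      (fun h => hgen (by
        have : genericPoint X ∈ p ⁻¹' {q.base y} := by rw [h]; trivial
        exact this))
      (by rw [h2, hdim]; exact WithBot.coe_lt_coe.2 (ENat.coe_lt_top 2))
    rw [h1]
    rw [h2, hdim] at h3
    exact h3
  -- the points in the fibre
  obtain ⟨ξW, hιξ⟩ : ∃ w : ↥(p.fiber (q.base y)), p.fiberι (q.base y) w = ξ :=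
    ⟨(p.fiberHomeo (q.base y)).symm ⟨ξ, hpξ⟩, p.fiberι_fiberHomeo_symm _ _⟩
  obtain ⟨xW, hιx⟩ : ∃ w : ↥(p.fiber (q.base y)), p.fiberι (q.base y) w = x' :=
    ⟨(p.fiberHomeo (q.base y)).symm ⟨x', hpx'⟩, p.fiberι_fiberHomeo_symm _ _⟩
  have hspW : ξW ⤳ xW := by
    rw [← hιemb.isInducing.specializes_iff, hιξ, hιx]
    exact hsp
  have hneW : ξW ≠ xW := fun h => hne (by rw [← hιξ, ← hιx, h])
  have hmax : IsMaxPt ξW := isMaxPt_of_dim_lt_two hdimW ξW xW hspW hneW
  have hxcl : IsClosed ({xW} : Set ↥(p.fiber (q.base y))) :=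
    isClosed_singleton_of_dim_lt_two hdimW ξW xW hspW hneW
  have hopen : IsOpen (closure ({ξW} : Set ↥(p.fiber (q.base y)))) :=
    isOpen_closure_of_unique (eq_of_isMaxPt_of_isDomain_stalk hW) ξW hmax
  have hxclX : IsClosed ({x'} : Set X) := by
    have := hιcl.isClosedMap _ hxcl
    rwa [Set.image_singleton, hιx] at this
  have hycl : IsClosed ({y} : Set Y) := by
    have := γ.isClosedMap _ hxclX
    rwa [Set.image_singleton, hx'] at this
  -- the fibre of `γ` inside the fibre of `p`
  have hFWcl : IsClosed {w : ↥(p.fiber (q.base y)) | γ.base (p.fiberι (q.base y) w) = y} :=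
    hycl.preimage (γ.continuous.comp (p.fiberι (q.base y)).continuous)
  have himg : (p.fiberι (q.base y)) '' {w : ↥(p.fiber (q.base y)) |
      γ.base (p.fiberι (q.base y) w) = y} = γ ⁻¹' {y} := by
    ext x
    constructor
    · rintro ⟨w, hw, rfl⟩
      exact hw
    · intro hx
      have hx' : x ∈ Set.range (p.fiberι (q.base y)) := by
        rw [hrange]
        show p.base x = q.base y
        rw [hcomp]
        exact congrArg q.base hx
      obtain ⟨w, rfl⟩ := hx'
      exact ⟨w, hx, rfl⟩
  have hFWpre : _root_.IsPreconnected {w : ↥(p.fiber (q.base y)) |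
      γ.base (p.fiberι (q.base y) w) = y} := by
    rw [← hιemb.isInducing.isPreconnected_image, himg]
    exact hpre
  have hξF : ξW ∈ {w : ↥(p.fiber (q.base y)) | γ.base (p.fiberι (q.base y) w) = y} := by
    show γ.base (p.fiberι (q.base y) ξW) = y
    rw [hιξ, hξ]
  have hCF : closure ({ξW} : Set ↥(p.fiber (q.base y))) ⊆
      {w : ↥(p.fiber (q.base y)) | γ.base (p.fiberι (q.base y) w) = y} :=
    hFWcl.closure_subset_iff.2 (Set.singleton_subset_iff.2 hξF)
  have hFC : {w : ↥(p.fiber (q.base y)) | γ.base (p.fiberι (q.base y) w) = y} ⊆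
      closure ({ξW} : Set ↥(p.fiber (q.base y))) :=
    hFWpre.subset_isClopen ⟨isClosed_closure, hopen⟩ ⟨ξW, hξF, subset_closure rfl⟩
  have hEcl : IsClosed (γ.base '' ((p.fiberι (q.base y)) ''
      (closure ({ξW} : Set ↥(p.fiber (q.base y))))ᶜ)) :=
    γ.isClosedMap _ (hιcl.isClosedMap _ hopen.isClosed_compl)
  have hyE : y ∉ γ.base '' ((p.fiberι (q.base y)) ''
      (closure ({ξW} : Set ↥(p.fiber (q.base y))))ᶜ) := by
    rintro ⟨_, ⟨w, hw, rfl⟩, hwy⟩
    exact hw (hFC hwy)
  have hcov : ∀ z : Y, q.base z = q.base y → z = y ∨ z ∈ γ.base '' ((p.fiberι (q.base y)) ''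
      (closure ({ξW} : Set ↥(p.fiber (q.base y))))ᶜ) := by
    intro z hz
    obtain ⟨x, rfl⟩ := hsurj z
    have hx : x ∈ Set.range (p.fiberι (q.base y)) := by
      rw [hrange]
      show p.base x = q.base y
      rw [hcomp]
      exact hz
    obtain ⟨w, rfl⟩ := hx
    by_cases hw : w ∈ closure ({ξW} : Set ↥(p.fiber (q.base y)))
    · left
      exact hCF hw
    · right
      exact ⟨_, ⟨w, hw, rfl⟩, rfl⟩
  rw [← Groth.Agent.Lib.H9SteinIso.isClopen_singleton_iff_quasiFiniteAt q y]
  constructor
  · have : ({⟨y, Set.mem_singleton (q.base y)⟩} : Set ↥(q.base ⁻¹' {q.base y})) =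
        Subtype.val ⁻¹' ({y} : Set Y) := by
      ext ⟨z, hz⟩
      simp only [Set.mem_singleton_iff, Set.mem_preimage, Subtype.mk.injEq]
    rw [this]
    exact hycl.preimage continuous_subtype_val
  · have : ({⟨y, Set.mem_singleton (q.base y)⟩} : Set ↥(q.base ⁻¹' {q.base y})) =
        Subtype.val ⁻¹' (γ.base '' ((p.fiberι (q.base y)) ''
          (closure ({ξW} : Set ↥(p.fiber (q.base y))))ᶜ))ᶜ := by
      ext ⟨z, hz⟩
      simp only [Set.mem_singleton_iff, Set.mem_preimage, Subtype.mk.injEq, Set.mem_compl_iff]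
      constructor
      · intro h
        rw [h]
        exact hyE
      · intro h
        rcases hcov z hz with h1 | h1
        · exact h1
        · exact absurd h1 h
    rw [this]
    exact hEcl.isOpen_compl.preimage continuous_subtype_val

section Core

variable {R : Type u} [CommRing R] [IsDedekindDomain R]
  {X Y : Scheme.{u}} (p : X ⟶ Spec (CommRingCat.of R)) (q : Y ⟶ Spec (CommRingCat.of R))
  (γ : X ⟶ Y) (hγ : γ ≫ q = p)
  (gK : pullback p (Neron.genPt R) ⟶ pullback q (Neron.genPt R)) [IsIso gK]
  (hgK : gK ≫ pullback.fst q (Neron.genPt R) = pullback.fst p (Neron.genPt R) ≫ γ)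

include hγ hgK in
theorem core [IsIntegral X] (hdim : topologicalKrullDim X = 2) [Smooth p] [IsProper p] [Flat p]
    (hYreg : ∀ y : Y, IsRegularLocalRing (Y.presheaf.stalk y)) [IsProper q] [Flat q] :
    IsIso γ := by
  have hcomp : ∀ x : X, p.base x = q.base (γ.base x) := fun x => by rw [← hγ]; rfl
  haveI : IsProper γ := by
    haveI : IsProper (γ ≫ q) := by rw [hγ]; infer_instance
    exact IsProper.of_comp γ q
  haveI : IsLocallyNoetherian X := LocallyOfFiniteType.isLocallyNoetherian p
  haveI : CompactSpace X := QuasiCompact.compactSpace_of_compactSpace p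
  haveI : IsNoetherian X := {}
  haveI : IsLocallyNoetherian Y := LocallyOfFiniteType.isLocallyNoetherian q
  -- surjectivity
  have hsurj : Function.Surjective γ.base := by
    intro y
    obtain ⟨ζ, hζmax, hζy⟩ := exists_isMaxPt_specializes y
    have h1 : (q.base ζ).asIdeal = ⊥ := asIdeal_eq_bot_of_isMaxPt q ζ hζmax
    have h2 : ζ ∈ Set.range γ.base := mem_range_of_generic p q γ gK hgK ζ h1
    have hcl : IsClosed (Set.range γ.base) := γ.isClosedMap.isClosed_range
    exact hcl.closure_subset_iff.2 (Set.singleton_subset_iff.2 h2)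
      (specializes_iff_mem_closure.1 hζy)
  haveI : IrreducibleSpace Y := by
    rw [irreducibleSpace_def]
    have := (IrreducibleSpace.isIrreducible_univ X).image γ.base γ.continuous.continuousOn
    rwa [Set.image_univ_of_surjective hsurj] at this
  have hdomY : ∀ y : Y, IsDomain (Y.presheaf.stalk y) := fun y => by
    haveI := hYreg y
    exact Groth.Agent.Lib.Helper5.isDomain_of_isRegularLocalRing _
  haveI : ∀ y : Y, _root_.IsReduced (Y.presheaf.stalk y) := fun y => by
    haveI := hdomY y
    infer_instance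
  haveI : AlgebraicGeometry.IsReduced Y := isReduced_of_isReduced_stalk Y
  haveI : IsIntegral Y := isIntegral_of_irreducibleSpace_of_isReduced Y
  have hN : Pi1.IsNormalScheme Y := fun y => by
    haveI := hYreg y
    exact ⟨hdomY y, Groth.Agent.Lib.Helper28.isIntegrallyClosed_of_isRegularLocalRing _⟩
  have hgen : γ.base (genericPoint X) = genericPoint Y := by
    have h1 := (genericPoint_spec X).image γ.continuous
    rw [Set.image_univ_of_surjective hsurj, closure_univ] at h1
    exact h1.eq (genericPoint_spec Y)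
  have hpgen : (p.base (genericPoint X)).asIdeal = ⊥ :=
    asIdeal_eq_bot_of_isMaxPt p _ (fun z hz => (hz.antisymm (genericPoint_specializes z)).eq)
  haveI hst : IsIso (γ.stalkMap (genericPoint X)) :=
    isIso_stalkMap_of_generic p q γ gK hgK _ hpgen
  have hdom : γ.base (genericPoint X) ⤳ genericPoint Y := by rw [hgen]
  have hsurjF : Function.Surjective (CohIII.stalkToFunctionField γ (genericPoint Y) hdom) := by
    unfold CohIII.stalkToFunctionField
    rw [RingHom.coe_comp]
    exact (ConcreteCategory.bijective_of_isIso (γ.stalkMap (genericPoint X))).2.comp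
      (Groth.Agent.Lib.H9ContrU.bijective_stalkSpecializes _ _ hdom hgen).2
  have happ : ∀ V : Y.Opens, IsIso (γ.app V) :=
    Groth.Agent.Lib.Helper8ProperO.isIso_app γ hN hdom (fun x _ => hsurjF x)
  -- the fibres
  have hfib : ∀ y : Y, (γ.base ⁻¹' {y}).Subsingleton := by
    intro y x₁ hx₁ x₂ hx₂
    by_contra hne
    by_cases hs : (q.base y).asIdeal = ⊥
    · apply hne
      refine eq_of_generic p q γ hγ gK hgK x₁ x₂ (hx₁.trans hx₂.symm) ?_
      rw [hcomp, hx₁]
      exact hs
    · have hsmax : (q.base y).asIdeal.IsMaximal := Ideal.IsPrime.isMaximal (q.base y).isPrime hs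
      have hscl : IsClosed ({q.base y} : Set (Spec (CommRingCat.of R))) :=
        (PrimeSpectrum.isClosed_singleton_iff_isMaximal _).2 hsmax
      have hpre : _root_.IsPreconnected (γ.base ⁻¹' {y}) :=
        Groth.Agent.Lib.H9ContrU.isPreconnected_fibre γ happ y
      have hιemb := (γ.fiberι y).isEmbedding
      haveI : NoetherianSpace ↥(γ.fiber y) := hιemb.isInducing.noetherianSpace
      have hrange : Set.range (γ.fiberι y) = γ ⁻¹' {y} := γ.range_fiberι y
      obtain ⟨a₁, ha₁⟩ : ∃ a : ↥(γ.fiber y), γ.fiberι y a = x₁ :=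
        ⟨(γ.fiberHomeo y).symm ⟨x₁, hx₁⟩, γ.fiberι_fiberHomeo_symm _ _⟩
      obtain ⟨a₂, ha₂⟩ : ∃ a : ↥(γ.fiber y), γ.fiberι y a = x₂ :=
        ⟨(γ.fiberHomeo y).symm ⟨x₂, hx₂⟩, γ.fiberι_fiberHomeo_symm _ _⟩
      have hane : a₁ ≠ a₂ := fun h => hne (by rw [← ha₁, ← ha₂, h])
      have hpreU : _root_.IsPreconnected (Set.univ : Set ↥(γ.fiber y)) := by
        rw [← hιemb.isInducing.isPreconnected_image, Set.image_univ, hrange]
        exact hpre
      obtain ⟨a, -, b, hb, hba⟩ := exists_nonclosed_of_isPreconnected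
        (Set.univ : Set ↥(γ.fiber y)) isClosed_univ hpreU a₁ a₂ trivial trivial hane
      have hab : a ⤳ b := specializes_iff_mem_closure.2 hb
      have hξ : γ.base (γ.fiberι y a) = y := by
        have : γ.fiberι y a ∈ Set.range (γ.fiberι y) := ⟨a, rfl⟩
        rw [hrange] at this
        exact this
      have hx' : γ.base (γ.fiberι y b) = y := by
        have : γ.fiberι y b ∈ Set.range (γ.fiberι y) := ⟨b, rfl⟩
        rw [hrange] at this
        exact this
      have hsp : γ.fiberι y a ⤳ γ.fiberι y b := hab.map (γ.fiberι y).continuous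
      have hneX : γ.fiberι y a ≠ γ.fiberι y b := fun h => hba (hιemb.injective h).symm
      have hgenne : p.base (genericPoint X) ≠ q.base y := by
        intro h
        apply hs
        rw [← h]
        exact hpgen
      have hξgen : γ.fiberι y a ≠ genericPoint X := by
        intro h
        apply hgenne
        rw [← h, hcomp, hξ]
      -- lower bound
      have hlow := two_le_stalk_dim γ
        (ConcreteCategory.bijective_of_isIso (γ.stalkMap (genericPoint X))).2
        (γ.fiberι y a) (γ.fiberι y b) hsp hneX (hξ.trans hx'.symm) hξgen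
      rw [hξ] at hlow
      -- upper bound
      have hqf := quasiFiniteAt_of_contracted p q γ hγ hdim hsurj y hscl hgenne hpre
        (γ.fiberι y a) (γ.fiberι y b) hξ hx' hsp hneX
      have hup := stalk_dim_le_of_quasiFiniteAt q y hqf
      have h1 : ringKrullDim ((Spec (CommRingCat.of R)).presheaf.stalk (q.base y)) ≤
          ringKrullDim (CommRingCat.of R) :=
        Groth.Agent.Lib.Helper4.DimFormula.ringKrullDim_stalk_spec_le _ _
      have h2 : ringKrullDim R ≤ 1 := Ring.krullDimLE_iff.mp inferInstance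
      have h3 : (2 : WithBot ℕ∞) ≤ 1 := hlow.trans (hup.trans (h1.trans h2))
      exact absurd h3 (by norm_num)
  haveI : LocallyQuasiFinite γ :=
    locallyQuasiFinite_iff_isDiscrete_preimage_singleton.2 (fun y => (hfib y).isDiscrete)
  haveI : IsFinite γ := IsFinite.of_isProper_of_locallyQuasiFinite γ
  haveI : Surjective γ := ⟨hsurj⟩
  exact Groth.Agent.Lib.R2H4.BirIso.isIso_of_finite_birational_normal γ hN hst

end Core

/-- **S3258** -/
theorem main3258 {R : Type u} [CommRing R] [IsDedekindDomain R]
    (X : Over (Spec (CommRingCat.of R))) (hX : ArSurf.IsArithSurface R X) [Smooth X.hom] :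
    Neron.IsRelMinimalRegularModel R X := by
  obtain ⟨hreg, hint, hdim, hflat, n, i, hi, hiX⟩ := hX
  haveI := hint
  haveI := hflat
  have hXproj : Neron.IsProjectiveOver R X := ⟨n, i, hi, hiX⟩
  refine ⟨hreg, hXproj, hflat, ?_⟩
  intro Y hYreg hYproj hYflat g hgen
  haveI := hYflat
  haveI : IsProper X.hom := Groth.Agent.Lib.H9ContrU2.isProper_of_isProjectiveOver R X hXproj
  haveI : IsProper Y.hom := Groth.Agent.Lib.H9ContrU2.isProper_of_isProjectiveOver R Y hYproj
  haveI : IsIso ((Neron.genericFibre R).map g).left :=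
    (inferInstance : IsIso ((Over.forget _).map ((Neron.genericFibre R).map g)))
  have hfst : ((Neron.genericFibre R).map g).left ≫ pullback.fst Y.hom (Neron.genPt R) =
      pullback.fst X.hom (Neron.genPt R) ≫ g.left := pullback.lift_fst _ _ _
  haveI : IsIso g.left :=
    core X.hom Y.hom g.left (Over.w g) ((Neron.genericFibre R).map g).left hfst hdim hYreg
  haveI : IsIso ((Over.forget _).map g) := (inferInstance : IsIso g.left)
  exact isIso_of_reflects_iso g (Over.forget _)

end Groth.Agent.Lib.H9SmMinC
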