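import Mathlib
import Groth.Agent.Lib.H9RegImmPres

set_option autoImplicit false
set_option linter.style.haveILetI false
set_option linter.unusedSectionVars false
universe u v w

namespace Groth.Agent.Lib.H9SmoothUnitSection

open TensorProduct KaehlerDifferential IsLocalRing

-- ===== from SM1 =====
section SecSM1
section Part1
variable {R S T K : Type u} [CommRing R] [CommRing S] [CommRing T] [CommRing K]
  [Algebra R S] [Algebra R T] [Algebra T S] [IsScalarTower R T S]
  [Algebra R K] [Algebra T K] [Algebra S K] [IsScalarTower T S K] [IsScalarTower R T K]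

omit [Algebra R S] [IsScalarTower R T S] in
/-- If there is an `R`-derivation `T → K ⊗[T] ker` restricting to `b ↦ 1 ⊗ b` on the kernel,
then the base-changed cotangent complex map is injective. -/
theorem injective_of_derivation
    (D' : Derivation R T (K ⊗[T] RingHom.ker (algebraMap T S)))
    (hD : ∀ b : RingHom.ker (algebraMap T S), D' b.1 = 1 ⊗ₜ b) :
    Function.Injective (cotangentComplexBaseChange R S T K) := by
  let θ : K ⊗[T] Ω[T⁄R] →ₗ[K] K ⊗[T] RingHom.ker (algebraMap T S) :=
    LinearMap.liftBaseChange K D'.liftKaehlerDifferential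
  have key : ∀ x, θ (cotangentComplexBaseChange R S T K x) = x := by
    intro x
    induction x with
    | zero => simp
    | add x y hx hy => rw [map_add, map_add, hx, hy]
    | tmul a b =>
      rw [cotangentComplexBaseChange_tmul, map_smul, kerToTensor_apply]
      simp only [θ, LinearMap.liftBaseChange_tmul, one_smul, Derivation.liftKaehlerDifferential_comp_D]
      rw [hD b, TensorProduct.smul_tmul', smul_eq_mul, mul_one]
  exact Function.LeftInverse.injective key

end Part1

section Part2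
variable {R A T M : Type u} [CommRing R] [CommRing A] [CommRing T] [AddCommGroup M]
  [Algebra R A] [Algebra R T] [Algebra A T] [IsScalarTower R A T]
  [Module R M] [Module A M] [Module T M] [IsScalarTower R A M] [IsScalarTower A T M]
  [IsScalarTower R T M]

/-- Derivations extend along localizations. -/
theorem exists_derivation_extension (Mon : Submonoid A) [IsLocalization Mon T]
    (D : Derivation R A M) :
    ∃ D' : Derivation R T M, ∀ a : A, D' (algebraMap A T a) = D a := by
  haveI := Algebra.FormallyEtale.of_isLocalization (Rₘ := T) Mon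
  let l : Ω[T⁄R] →ₗ[T] M :=
    (LinearMap.liftBaseChange T D.liftKaehlerDifferential) ∘ₗ
      (tensorKaehlerEquivOfFormallyEtale R A T).symm.toLinearMap
  refine ⟨l.compDer (KaehlerDifferential.D R T), fun a => ?_⟩
  have h1 : (l.compDer (KaehlerDifferential.D R T)) (algebraMap A T a) =
      l (KaehlerDifferential.D R T (algebraMap A T a)) := rfl
  rw [h1]
  have h2 : l (KaehlerDifferential.D R T (algebraMap A T a)) =
      (LinearMap.liftBaseChange T D.liftKaehlerDifferential)
        ((tensorKaehlerEquivOfFormallyEtale R A T).symm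
          (KaehlerDifferential.D R T (algebraMap A T a))) := rfl
  rw [h2, tensorKaehlerEquivOfFormallyEtale_symm_D_algebraMap, LinearMap.liftBaseChange_tmul,
    one_smul, Derivation.liftKaehlerDifferential_comp_D]

end Part2

end SecSM1

-- ===== from SM2a =====
section SecSM2a
variable {R A : Type u} [CommRing R] [CommRing A] [Algebra R A]

theorem exists_retraction {I : Type u} [AddCommGroup I] [Module R I] [Module A I]
    [IsScalarTower R A I] (N : Submodule A I)
    (h3 : Module.Projective R (I ⧸ N)) :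
    ∃ τ : I →ₗ[R] I, (∀ x, τ x ∈ N) ∧ (∀ x ∈ N, τ x = x) := by
  let π : I →ₗ[R] (I ⧸ N) := (Submodule.mkQ N).restrictScalars R
  have hπ : Function.Surjective π := Submodule.mkQ_surjective _
  obtain ⟨σ, hσ⟩ := Module.projective_lifting_property π (LinearMap.id : (I ⧸ N) →ₗ[R] (I ⧸ N)) hπ
  let τ : I →ₗ[R] I := LinearMap.id - σ ∘ₗ π
  refine ⟨τ, fun x => ?_, fun x hx => ?_⟩
  · have h0 : π (τ x) = 0 := by
      have : π (σ (π x)) = π x := LinearMap.congr_fun hσ (π x)
      simp only [τ, LinearMap.sub_apply, LinearMap.id_apply, LinearMap.comp_apply, map_sub, this,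
        sub_self]
    have h1 : (Submodule.Quotient.mk (τ x) : I ⧸ N) = 0 := h0
    rw [Submodule.Quotient.mk_eq_zero] at h1
    exact h1
  · have h0 : π x = 0 := by
      have : (Submodule.Quotient.mk x : I ⧸ N) = 0 := by
        rw [Submodule.Quotient.mk_eq_zero]; exact hx
      exact this
    simp only [τ, LinearMap.sub_apply, LinearMap.id_apply, LinearMap.comp_apply, h0, map_zero,
      sub_zero]

end SecSM2a

-- ===== from SM2 =====
section SecSM2
variable {R A M : Type u} [CommRing R] [CommRing A] [Algebra R A] [AddCommGroup M]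
  [Module R M] [Module A M] [IsScalarTower R A M]

/-- the map `x ↦ ψ₀ x` on `J` extends to `J ⊔ I²` killing `I²`, as soon as it kills `J ⊓ I²`. -/
theorem exists_extension_sup (J I2 : Ideal A) (ψ₀ : J →ₗ[A] M)
    (h : ∀ x : J, (x : A) ∈ I2 → ψ₀ x = 0) :
    ∃ ψ : ↥(J ⊔ I2) →ₗ[A] M,
      (∀ (x : ↥(J ⊔ I2)) (hx : (x : A) ∈ J), ψ x = ψ₀ ⟨x, hx⟩) ∧
      (∀ (x : ↥(J ⊔ I2)), (x : A) ∈ I2 → ψ x = 0) := by
  have hle : Submodule.comap J.subtype (J ⊓ I2) ≤ LinearMap.ker ψ₀ := by
    intro x hx
    rw [LinearMap.mem_ker]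
    exact h x hx.2
  let ψ₁ : (J ⧸ Submodule.comap J.subtype (J ⊓ I2)) →ₗ[A] M := Submodule.liftQ _ ψ₀ hle
  let ψ : ↥(J ⊔ I2) →ₗ[A] M :=
    ψ₁ ∘ₗ (LinearMap.quotientInfEquivSupQuotient J I2).symm.toLinearMap ∘ₗ Submodule.mkQ _
  refine ⟨ψ, fun x hx => ?_, fun x hx => ?_⟩
  · have : ψ x = ψ₁ ((LinearMap.quotientInfEquivSupQuotient J I2).symm
        (Submodule.Quotient.mk x)) := rfl
    rw [this, LinearMap.quotientInfEquivSupQuotient_symm_apply_left J I2 x hx]
    rfl
  · have : ψ x = ψ₁ ((LinearMap.quotientInfEquivSupQuotient J I2).symm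
        (Submodule.Quotient.mk x)) := rfl
    have e := LinearMap.quotientInfEquivSupQuotient_symm_apply_right J I2 hx
    rw [this]
    exact (congrArg ψ₁ e).trans (map_zero ψ₁)

/-- `ψ₀` kills `I * J` if `I` kills `M`. -/
theorem kills_mul (I J : Ideal A) (ψ₀ : J →ₗ[A] M) (hM : ∀ i ∈ I, ∀ m : M, i • m = 0)
    (x : J) (hx : (x : A) ∈ I * J) : ψ₀ x = 0 := by
  have hle : I * J ≤ Submodule.map J.subtype (LinearMap.ker ψ₀) := by
    rw [Ideal.mul_le]
    intro i hi j hj
    refine ⟨i • ⟨j, hj⟩, ?_, rfl⟩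
    rw [SetLike.mem_coe, LinearMap.mem_ker, map_smul]
    exact hM i hi _
  obtain ⟨y, hy, hyx⟩ := hle hx
  have : y = x := Subtype.ext hyx
  rw [← this]
  exact hy

variable (ε : A →ₐ[R] R)

theorem sub_mem_ker (a : A) : a - algebraMap R A (ε a) ∈ RingHom.ker ε := by
  rw [RingHom.mem_ker, map_sub]
  have : ε (algebraMap R A (ε a)) = ε a := by
    rw [AlgHom.commutes]; rfl
  rw [this, sub_self]

variable (I : Ideal A) (hIε : ∀ a, a - algebraMap R A (ε a) ∈ I) (hεI : ∀ i ∈ I, ε i = 0)

/-- `a ↦ a - ε a` as an `R`-linear map into the augmentation ideal. -/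
noncomputable def ι₀ : A →ₗ[R] ↥I where
  toFun a := ⟨a - algebraMap R A (ε a), hIε a⟩
  map_add' a b := by
    apply Subtype.ext
    simp only [map_add, Submodule.coe_add]
    ring
  map_smul' r a := by
    apply Subtype.ext
    simp only [RingHom.id_apply, Submodule.coe_smul_of_tower, Algebra.smul_def, map_mul]
    have : ε (algebraMap R A r) = r := by rw [AlgHom.commutes]; rfl
    rw [this, mul_sub]

theorem ι₀_coe (a : A) : ((ι₀ ε I hIε a : ↥I) : A) = a - algebraMap R A (ε a) := rfl

include hIε in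
theorem smul_eq_of_ker_smul (hM : ∀ i ∈ I, ∀ m : M, i • m = 0) (a : A) (m : M) :
    a • m = ε a • m := by
  have h1 := hM _ (hIε a) m
  rw [sub_smul, sub_eq_zero, algebraMap_smul] at h1
  exact h1

theorem ι₀_mul (a b : A) : ι₀ ε I hIε (a * b) =
    ε a • ι₀ ε I hIε b + ε b • ι₀ ε I hIε a + (ι₀ ε I hIε a : A) • ι₀ ε I hIε b := by
  apply Subtype.ext
  simp only [Submodule.coe_add, Submodule.coe_smul_of_tower, ι₀_coe, map_mul, smul_eq_mul,
    Algebra.smul_def]
  ring

include hεI in
theorem ι₀_of_mem (j : A) (hj : j ∈ I) : ι₀ ε I hIε j = ⟨j, hj⟩ := by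
  apply Subtype.ext
  rw [ι₀_coe, hεI j hj, map_zero, sub_zero]

theorem ι₀_one : ι₀ ε I hIε 1 = 0 := by
  apply Subtype.ext
  rw [ι₀_coe, map_one, map_one, sub_self]
  rfl

end SecSM2

-- ===== from SM3 =====
section SecSM3
variable {R A M : Type u} [CommRing R] [CommRing A] [Algebra R A] [AddCommGroup M]
  [Module R M] [Module A M] [IsScalarTower R A M]

variable (ε : A →ₐ[R] R) (I J : Ideal A) (hJI : J ≤ I)
  (hIε : ∀ a, a - algebraMap R A (ε a) ∈ I) (hεI : ∀ i ∈ I, ε i = 0)

include hJI hIε hεI in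
/-- Construction of the derivation. -/
theorem exists_derivation_aux
    (h2 : J ⊓ I ^ 2 = I * J)
    (h3 : Module.Projective R (↥I ⧸ Submodule.comap I.subtype (J ⊔ I ^ 2)))
    (hM : ∀ i ∈ I, ∀ m : M, i • m = 0)
    (ψ₀ : J →ₗ[A] M) :
    ∃ D : Derivation R A M, ∀ j : J, D (j : A) = ψ₀ j := by
  have hkill : ∀ x : J, (x : A) ∈ I ^ 2 → ψ₀ x = 0 := by
    intro x hx
    have hx' : (x : A) ∈ I * J := by rw [← h2]; exact ⟨x.2, hx⟩
    exact kills_mul I J ψ₀ hM x hx'
  obtain ⟨ψ, hψ1, hψ2⟩ := exists_extension_sup J (I ^ 2) ψ₀ hkill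
  obtain ⟨τ, hτ1, hτ2⟩ := exists_retraction (R := R) (A := A)
    (Submodule.comap I.subtype (J ⊔ I ^ 2)) h3
  have hτmem : ∀ x : ↥I, ((τ x : ↥I) : A) ∈ J ⊔ I ^ 2 := fun x => hτ1 x
  have hτfix : ∀ x : ↥I, (x : A) ∈ J ⊔ I ^ 2 → τ x = x := fun x hx => hτ2 x hx
  let τ' : ↥I →ₗ[R] ↥(J ⊔ I ^ 2) :=
    { toFun := fun x => ⟨((τ x : ↥I) : A), hτmem x⟩
      map_add' := fun x y => by
        apply Subtype.ext
        simp only [map_add, Submodule.coe_add]
      map_smul' := fun r x => by
        apply Subtype.ext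
        simp only [map_smul, RingHom.id_apply, Submodule.coe_smul_of_tower] }
  have hτ'coe : ∀ x : ↥I, ((τ' x : ↥(J ⊔ I ^ 2)) : A) = ((τ x : ↥I) : A) := fun x => rfl
  let F : ↥I →ₗ[R] M := (ψ.restrictScalars R) ∘ₗ τ'
  have hF1 : ∀ (x : ↥I) (hx : (x : A) ∈ J), F x = ψ₀ ⟨x, hx⟩ := by
    intro x hx
    have e : τ x = x := hτfix x (Ideal.mem_sup_left hx)
    have hx' : ((τ' x : ↥(J ⊔ I ^ 2)) : A) ∈ J := by rw [hτ'coe, e]; exact hx
    have : F x = ψ (τ' x) := rfl
    rw [this, hψ1 _ hx']
    congr 1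
    exact Subtype.ext (by rw [hτ'coe, e])
  have hF2 : ∀ (x : ↥I), (x : A) ∈ I ^ 2 → F x = 0 := by
    intro x hx
    have e : τ x = x := hτfix x (Ideal.mem_sup_right hx)
    have hx' : ((τ' x : ↥(J ⊔ I ^ 2)) : A) ∈ I ^ 2 := by rw [hτ'coe, e]; exact hx
    exact hψ2 _ hx'
  let Dlin : A →ₗ[R] M := F ∘ₗ ι₀ ε I hIε
  have hsm : ∀ (a : A) (m : M), a • m = ε a • m := smul_eq_of_ker_smul ε I hIε hM
  have hleib : ∀ a b : A, Dlin (a * b) = a • Dlin b + b • Dlin a := by
    intro a b
    have hz : F ((ι₀ ε I hIε a : A) • ι₀ ε I hIε b) = 0 := by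
      apply hF2
      rw [pow_two]
      exact Ideal.mul_mem_mul (ι₀ ε I hIε a).2 (ι₀ ε I hIε b).2
    change F (ι₀ ε I hIε (a * b)) = a • F (ι₀ ε I hIε b) + b • F (ι₀ ε I hIε a)
    rw [ι₀_mul, map_add, map_add, map_smul, map_smul, hz, add_zero, hsm a, hsm b]
  have hone : Dlin 1 = 0 := by
    change F (ι₀ ε I hIε 1) = 0
    rw [ι₀_one, map_zero]
  refine ⟨⟨Dlin, hone, hleib⟩, fun j => ?_⟩
  have hjI : (j : A) ∈ I := hJI j.2
  change F (ι₀ ε I hIε (j : A)) = ψ₀ j
  rw [ι₀_of_mem ε I hIε hεI j hjI, hF1 ⟨j, hjI⟩ j.2]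

/-- Construction of the derivation, for `I = ker ε`. -/
theorem exists_derivation (hJI' : J ≤ RingHom.ker ε)
    (h2 : J ⊓ RingHom.ker ε ^ 2 = RingHom.ker ε * J)
    (h3 : Module.Projective R
      (↥(RingHom.ker ε) ⧸ Submodule.comap (RingHom.ker ε).subtype (J ⊔ RingHom.ker ε ^ 2)))
    (hM : ∀ i ∈ RingHom.ker ε, ∀ m : M, i • m = 0)
    (ψ₀ : J →ₗ[A] M) :
    ∃ D : Derivation R A M, ∀ j : J, D (j : A) = ψ₀ j :=
  exists_derivation_aux ε (RingHom.ker ε) J hJI' (sub_mem_ker ε) (fun _ hi => hi) h2 h3 hM ψ₀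

end SecSM3

-- ===== from SM4 =====
section SecSM4
variable {R A T S : Type u} [CommRing R] [CommRing A] [CommRing T] [CommRing S]
  [Algebra R A] [Algebra R T] [Algebra A T] [IsScalarTower R A T]
  [Algebra R S] [Algebra A S] [Algebra T S] [IsScalarTower R T S] [IsScalarTower A T S]
  [IsLocalRing S]

/-- elements of `T` mapping to zero in `S` kill `K ⊗[T] N`. -/
theorem smul_eq_zero_of_map_eq_zero {N : Type u} [AddCommGroup N] [Module T N]
    (t : T) (ht : algebraMap T S t ∈ maximalIdeal S) (m : ResidueField S ⊗[T] N) : t • m = 0 := by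
  have h0 : algebraMap T (ResidueField S) t = 0 := by
    rw [IsScalarTower.algebraMap_apply T S (ResidueField S), ResidueField.algebraMap_eq,
      residue_eq_zero_iff]
    exact ht
  induction m with
  | zero => simp
  | add x y hx hy => rw [smul_add, hx, hy, add_zero]
  | tmul k x =>
    rw [TensorProduct.smul_tmul', Algebra.smul_def, h0, zero_mul, zero_tmul]

theorem smul_eq_zero_of_map_eq_zero' {N : Type u} [AddCommGroup N] [Module T N]
    (a : A) (ha : algebraMap A S a ∈ maximalIdeal S) (m : ResidueField S ⊗[T] N) : a • m = 0 := by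
  have h1 : a • m = algebraMap A T a • m := (algebraMap_smul T a m).symm
  rw [h1]
  apply smul_eq_zero_of_map_eq_zero
  rw [← IsScalarTower.algebraMap_apply A T S]
  exact ha

variable (ε : A →ₐ[R] R) (J : Ideal A)

/-- the map `j ↦ 1 ⊗ j`. -/
noncomputable def ψ₀ (hle : J.map (algebraMap A T) ≤ RingHom.ker (algebraMap T S)) :
    J →ₗ[A] ResidueField S ⊗[T] RingHom.ker (algebraMap T S) where
  toFun j := 1 ⊗ₜ ⟨algebraMap A T j, hle (Ideal.mem_map_of_mem _ j.2)⟩
  map_add' j j' := by
    rw [← TensorProduct.tmul_add]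
    congr 1
    apply Subtype.ext
    simp only [Submodule.coe_add, map_add]
  map_smul' a j := by
    have h1 : a • ((1 : ResidueField S) ⊗ₜ[T]
        (⟨algebraMap A T j, hle (Ideal.mem_map_of_mem _ j.2)⟩ :
          RingHom.ker (algebraMap T S))) =
        algebraMap A T a • ((1 : ResidueField S) ⊗ₜ[T]
        (⟨algebraMap A T j, hle (Ideal.mem_map_of_mem _ j.2)⟩ :
          RingHom.ker (algebraMap T S))) := (algebraMap_smul T a _).symm
    rw [RingHom.id_apply, h1, TensorProduct.smul_tmul', TensorProduct.smul_tmul]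
    congr 1
    apply Subtype.ext
    simp only [Submodule.coe_smul_of_tower, smul_eq_mul, map_mul, Submodule.coe_smul]

theorem core (Mon : Submonoid A) [IsLocalization Mon T]
    [Algebra.FormallySmooth R T] [Module.Free T Ω[T⁄R]] [Module.Finite T Ω[T⁄R]]
    (hJI : J ≤ RingHom.ker ε) (h1 : J.FG)
    (h2 : J ⊓ RingHom.ker ε ^ 2 = RingHom.ker ε * J)
    (h3 : Module.Projective R
      (↥(RingHom.ker ε) ⧸ Submodule.comap (RingHom.ker ε).subtype (J ⊔ RingHom.ker ε ^ 2)))
    (hker : RingHom.ker (algebraMap T S) = J.map (algebraMap A T))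
    (hsurj : Function.Surjective (algebraMap T S))
    (hIS : ∀ i ∈ RingHom.ker ε, algebraMap A S i ∈ maximalIdeal S) :
    Algebra.FormallySmooth R S := by
  have h₂ : (RingHom.ker (algebraMap T S)).FG := by
    rw [hker]; exact h1.map _
  rw [Algebra.FormallySmooth.iff_injective_cotangentComplexBaseChange_residueField (P := T)
    hsurj h₂]
  have hle : J.map (algebraMap A T) ≤ RingHom.ker (algebraMap T S) := hker.ge
  obtain ⟨D, hD⟩ := exists_derivation (R := R)
    (M := ResidueField S ⊗[T] RingHom.ker (algebraMap T S)) ε J hJI h2 h3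
    (fun i hi m => smul_eq_zero_of_map_eq_zero' i (hIS i hi) m) (ψ₀ J hle)
  obtain ⟨D', hD'⟩ := exists_derivation_extension (T := T) Mon D
  refine injective_of_derivation D' ?_
  have hspan : ∀ (b : T) (hb : b ∈ Submodule.span T ((algebraMap A T) '' (J : Set A))),
      D' b = 1 ⊗ₜ ⟨b, hle hb⟩ := by
    intro b hb
    induction hb using Submodule.span_induction with
    | mem x hx =>
      obtain ⟨j, hj, rfl⟩ := hx
      rw [hD', hD ⟨j, hj⟩]
      rfl
    | zero =>
      rw [map_zero]
      have : (⟨0, hle (Submodule.zero_mem _)⟩ : RingHom.ker (algebraMap T S)) = 0 := rfl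
      rw [this, TensorProduct.tmul_zero]
    | add x y hx hy ihx ihy =>
      rw [map_add, ihx, ihy, ← TensorProduct.tmul_add]
      rfl
    | smul t x hx ihx =>
      have hx0 : x • D' t = 0 := by
        apply smul_eq_zero_of_map_eq_zero
        have : algebraMap T S x = 0 := hle hx
        rw [this]
        exact zero_mem _
      have e1 : D' (t • x) = t • D' x + x • D' t := by rw [smul_eq_mul, Derivation.leibniz]
      rw [e1, ihx, hx0, add_zero, TensorProduct.smul_tmul', TensorProduct.smul_tmul]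
      rfl
  intro b
  have hb : b.1 ∈ Submodule.span T ((algebraMap A T) '' (J : Set A)) := hker.le b.2
  exact hspan b.1 hb

end SecSM4

-- ===== from SM5 =====
section SecSM5
theorem main (R A : Type u) [CommRing R] [CommRing A] [Algebra R A]
    [Algebra.Smooth R A] (ε : A →ₐ[R] R) (J : Ideal A) (hJI : J ≤ RingHom.ker ε)
    (h1 : J.FG)
    (h2 : J ⊓ RingHom.ker ε ^ 2 = RingHom.ker ε * J)
    (h3 : Module.Finite R (↥(RingHom.ker ε) ⧸ Submodule.comap (RingHom.ker ε).subtype (J ⊔ RingHom.ker ε ^ 2)) ∧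
      Module.Projective R (↥(RingHom.ker ε) ⧸ Submodule.comap (RingHom.ker ε).subtype (J ⊔ RingHom.ker ε ^ 2)))
    (P : Ideal (A ⧸ J)) [P.IsPrime] (hP : (RingHom.ker ε).map (Ideal.Quotient.mk J) ≤ P) :
    Algebra.IsSmoothAt R P := by
  let P' : Ideal A := P.comap (Ideal.Quotient.mk J)
  haveI : P'.IsPrime := Ideal.comap_isPrime _ _
  let f : Localization.AtPrime P' →+* Localization.AtPrime P :=
    Localization.localRingHom P' P (Ideal.Quotient.mk J) rfl
  letI : Algebra (Localization.AtPrime P') (Localization.AtPrime P) := f.toAlgebra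
  have hf : ∀ a : A, algebraMap (Localization.AtPrime P') (Localization.AtPrime P)
      (algebraMap A (Localization.AtPrime P') a) =
      algebraMap (A ⧸ J) (Localization.AtPrime P) (Ideal.Quotient.mk J a) :=
    fun a => Localization.localRingHom_to_map P' P (Ideal.Quotient.mk J) rfl a
  haveI : IsScalarTower A (Localization.AtPrime P') (Localization.AtPrime P) :=
    IsScalarTower.of_algebraMap_eq (fun a => by
      rw [hf, IsScalarTower.algebraMap_apply A (A ⧸ J) (Localization.AtPrime P)]
      rfl)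
  haveI : IsScalarTower R (Localization.AtPrime P') (Localization.AtPrime P) :=
    IsScalarTower.of_algebraMap_eq (fun r => by
      rw [IsScalarTower.algebraMap_apply R A (Localization.AtPrime P'), hf,
        IsScalarTower.algebraMap_apply R (A ⧸ J) (Localization.AtPrime P)]
      rfl)
  haveI : Algebra.FormallySmooth A (Localization.AtPrime P') :=
    Algebra.FormallySmooth.of_isLocalization P'.primeCompl
  haveI : Algebra.FormallySmooth R (Localization.AtPrime P') :=
    Algebra.FormallySmooth.comp R A (Localization.AtPrime P')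
  haveI : Module.Finite (Localization.AtPrime P') Ω[Localization.AtPrime P'⁄R] := inferInstance
  haveI : Module.Free (Localization.AtPrime P') Ω[Localization.AtPrime P'⁄R] :=
    Module.free_of_flat_of_isLocalRing
  have hker : RingHom.ker (algebraMap (Localization.AtPrime P') (Localization.AtPrime P)) =
      J.map (algebraMap A (Localization.AtPrime P')) := by
    have := Groth.Agent.Lib.H9RegImmPres.ker_localRingHom (Ideal.Quotient.mk J)
      Ideal.Quotient.mk_surjective P P' rfl
    rw [Ideal.mk_ker] at this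
    exact this
  have hsurj : Function.Surjective
      (algebraMap (Localization.AtPrime P') (Localization.AtPrime P)) :=
    RingHom.surjective_localRingHom_of_surjective (Ideal.Quotient.mk J)
      Ideal.Quotient.mk_surjective P
  have hIS : ∀ i ∈ RingHom.ker ε, algebraMap A (Localization.AtPrime P) i ∈
      maximalIdeal (Localization.AtPrime P) := by
    intro i hi
    rw [IsScalarTower.algebraMap_apply A (A ⧸ J) (Localization.AtPrime P),
      IsLocalization.AtPrime.to_map_mem_maximal_iff (Localization.AtPrime P) P]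
    exact hP (Ideal.mem_map_of_mem _ hi)
  exact core ε J P'.primeCompl hJI h1 h2 h3.2 hker hsurj hIS

end SecSM5


end Groth.Agent.Lib.H9SmoothUnitSection
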