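import Mathlib
import Groth.Agent.S18436

set_option autoImplicit false
universe u

namespace Groth.Agent.Lib.H9SpinSect
open SpinCurv LaurentPolynomial Groth.Agent.S18436 Groth.Agent.S18436.P1 Groth.Agent.S18436.P2
  Groth.Agent.S18436.P3

variable {R : Type u} [CommRing R]

lemma polyNode_algHom_ext {π : R} {B : Type*} [CommRing B] [Algebra R B]
    (f g : PolyNodeRing R π →ₐ[R] B)
    (hx : f (PolyNodeRing.x R π) = g (PolyNodeRing.x R π))
    (hy : f (PolyNodeRing.y R π) = g (PolyNodeRing.y R π)) : f = g := by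
  apply Ideal.Quotient.algHom_ext
  apply MvPolynomial.algHom_ext
  intro i
  fin_cases i
  · exact hx
  · exact hy

section Main

variable (p q : R)
  (rU : PolyNodeRing R (p * q) →ₐ[R] PolyNodeRing R q)
  (hrUx : rU (PolyNodeRing.x R (p * q)) = algebraMap R _ p * PolyNodeRing.x R q)
  (hrUy : rU (PolyNodeRing.y R (p * q)) = PolyNodeRing.y R q)
  (rV : PolyNodeRing R (p * q) →ₐ[R] PolyNodeRing R p)
  (hrVx : rV (PolyNodeRing.x R (p * q)) = PolyNodeRing.y R p)
  (hrVy : rV (PolyNodeRing.y R (p * q)) = algebraMap R _ q * PolyNodeRing.x R p)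
  (gU : PolyNodeRing R q →ₐ[R] LaurentPolynomial R)
  (hgUs : gU (PolyNodeRing.x R q) = T 1)
  (hgUy : gU (PolyNodeRing.y R q) = C q * T (-1))
  (gV : PolyNodeRing R p →ₐ[R] LaurentPolynomial R)
  (hgVt : gV (PolyNodeRing.x R p) = T (-1))
  (hgVx : gV (PolyNodeRing.y R p) = C p * T 1)
  (n : ℕ)

include hrUx hrUy hrVx hrVy hgUs hgUy hgVt hgVx in
lemma gr_eq : gU.comp rU = gV.comp rV := by
  apply polyNode_algHom_ext
  · rw [AlgHom.comp_apply, AlgHom.comp_apply, hrUx, hrVx, map_mul, hgUs, hgVx, AlgHom.commutes]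
    rfl
  · rw [AlgHom.comp_apply, AlgHom.comp_apply, hrUy, hrVy, map_mul, hgUy, hgVt, AlgHom.commutes]
    rfl

/-- the sections map -/
noncomputable def Phi : (Fin (n + 1) → PolyNodeRing R (p * q)) →ₗ[R]
    PolyNodeRing R q × PolyNodeRing R p where
  toFun F := (∑ i : Fin (n + 1), rU (F i) * PolyNodeRing.x R q ^ (n - (i : ℕ)),
         ∑ i : Fin (n + 1), rV (F i) * PolyNodeRing.x R p ^ (i : ℕ))
  map_add' F G := by
    ext
    · simp only [Pi.add_apply, map_add, add_mul, Finset.sum_add_distrib, Prod.fst_add]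
    · simp only [Pi.add_apply, map_add, add_mul, Finset.sum_add_distrib, Prod.snd_add]
  map_smul' r F := by
    ext
    · simp only [Pi.smul_apply, map_smul, smul_mul_assoc, ← Finset.smul_sum, Prod.smul_fst,
        RingHom.id_apply]
    · simp only [Pi.smul_apply, map_smul, smul_mul_assoc, ← Finset.smul_sum, Prod.smul_snd,
        RingHom.id_apply]

lemma Phi_apply (F : Fin (n + 1) → PolyNodeRing R (p * q)) :
    Phi p q rU rV n F = (∑ i : Fin (n + 1), rU (F i) * PolyNodeRing.x R q ^ (n - (i : ℕ)),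
         ∑ i : Fin (n + 1), rV (F i) * PolyNodeRing.x R p ^ (i : ℕ)) := rfl

lemma Phi_smul (a : PolyNodeRing R (p * q)) (F : Fin (n + 1) → PolyNodeRing R (p * q)) :
    Phi p q rU rV n (a • F) = (rU a * (Phi p q rU rV n F).1, rV a * (Phi p q rU rV n F).2) := by
  simp only [Phi_apply, Pi.smul_apply, smul_eq_mul, map_mul, Finset.mul_sum, mul_assoc]

lemma Phi_single (i : Fin (n + 1)) (a : PolyNodeRing R (p * q)) :
    Phi p q rU rV n (Pi.single i a) =
      (rU a * PolyNodeRing.x R q ^ (n - (i : ℕ)), rV a * PolyNodeRing.x R p ^ (i : ℕ)) := by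
  rw [Phi_apply]
  congr 1
  · rw [Finset.sum_eq_single i]
    · rw [Pi.single_eq_same]
    · intro j _ hj
      rw [Pi.single_eq_of_ne hj, map_zero, zero_mul]
    · intro h; exact absurd (Finset.mem_univ i) h
  · rw [Finset.sum_eq_single i]
    · rw [Pi.single_eq_same]
    · intro j _ hj
      rw [Pi.single_eq_of_ne hj, map_zero, zero_mul]
    · intro h; exact absurd (Finset.mem_univ i) h

include hrUx hrUy hrVx hrVy hgUs hgUy hgVt hgVx in
lemma range_sub (F : Fin (n + 1) → PolyNodeRing R (p * q)) :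
    gU (Phi p q rU rV n F).1 = T (n : ℤ) * gV (Phi p q rU rV n F).2 := by
  have h := gr_eq p q rU hrUx hrUy rV hrVx hrVy gU hgUs hgUy gV hgVt hgVx
  have h' : ∀ a, gU (rU a) = gV (rV a) := fun a => DFunLike.congr_fun h a
  rw [Phi_apply]
  simp only [map_sum, map_mul, map_pow, hgUs, hgVt, Finset.mul_sum, h', T_pow]
  apply Finset.sum_congr rfl
  intro i _
  rw [mul_left_comm, ← T_add]
  congr 2
  have : (i : ℕ) ≤ n := Nat.lt_succ_iff.mp i.2
  push_cast [this]
  ring

/-- first family of relation vectors -/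
noncomputable def rel1 (i : Fin n) : Fin (n + 1) → PolyNodeRing R (p * q) :=
  Pi.single (Fin.castSucc i) (algebraMap R (PolyNodeRing R (p * q)) p) -
    Pi.single (Fin.succ i) (PolyNodeRing.x R (p * q))

/-- second family of relation vectors -/
noncomputable def rel2 (i : Fin n) : Fin (n + 1) → PolyNodeRing R (p * q) :=
  Pi.single (Fin.castSucc i) (PolyNodeRing.y R (p * q)) -
    Pi.single (Fin.succ i) (algebraMap R (PolyNodeRing R (p * q)) q)

/-- the relation submodule -/
noncomputable def K : Submodule (PolyNodeRing R (p * q)) (Fin (n + 1) → PolyNodeRing R (p * q)) :=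
  Submodule.span (PolyNodeRing R (p * q)) (Set.range (rel1 p q n) ∪ Set.range (rel2 p q n))

/-- the kernel of `Phi` as a submodule over the node ring -/
noncomputable def kerA : Submodule (PolyNodeRing R (p * q)) (Fin (n + 1) → PolyNodeRing R (p * q)) where
  carrier := {F | Phi p q rU rV n F = 0}
  add_mem' {F G} hF hG := by
    change Phi p q rU rV n (F + G) = 0
    rw [map_add, hF, hG, add_zero]
  zero_mem' := map_zero _
  smul_mem' a F hF := by
    change Phi p q rU rV n (a • F) = 0
    rw [Phi_smul, hF]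
    simp

include hrUx hrVx in
lemma Phi_rel1 (i : Fin n) : Phi p q rU rV n (rel1 p q n i) = 0 := by
  have hi : (i : ℕ) < n := i.2
  rw [rel1, map_sub, Phi_single, Phi_single, AlgHom.commutes, AlgHom.commutes, hrUx, hrVx]
  simp only [Fin.val_castSucc, Fin.val_succ]
  have e1 : n - (i : ℕ) = (n - ((i : ℕ) + 1)) + 1 := by omega
  ext
  · simp only [Prod.fst_sub, Prod.fst_zero]
    rw [e1, pow_succ]
    ring
  · simp only [Prod.snd_sub, Prod.snd_zero]
    rw [pow_succ]
    have := xy_eq R p
    calc algebraMap R (PolyNodeRing R p) p * PolyNodeRing.x R p ^ (i : ℕ) -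
          PolyNodeRing.y R p * (PolyNodeRing.x R p ^ (i : ℕ) * PolyNodeRing.x R p)
        = algebraMap R (PolyNodeRing R p) p * PolyNodeRing.x R p ^ (i : ℕ) -
          (PolyNodeRing.x R p * PolyNodeRing.y R p) * PolyNodeRing.x R p ^ (i : ℕ) := by ring
      _ = 0 := by rw [this, sub_self]

include hrUy hrVy in
lemma Phi_rel2 (i : Fin n) : Phi p q rU rV n (rel2 p q n i) = 0 := by
  have hi : (i : ℕ) < n := i.2
  rw [rel2, map_sub, Phi_single, Phi_single, AlgHom.commutes, AlgHom.commutes, hrUy, hrVy]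
  simp only [Fin.val_castSucc, Fin.val_succ]
  have e1 : n - (i : ℕ) = (n - ((i : ℕ) + 1)) + 1 := by omega
  ext
  · simp only [Prod.fst_sub, Prod.fst_zero]
    rw [e1, pow_succ]
    have := xy_eq R q
    calc PolyNodeRing.y R q * (PolyNodeRing.x R q ^ (n - ((i : ℕ) + 1)) * PolyNodeRing.x R q) -
          algebraMap R (PolyNodeRing R q) q * PolyNodeRing.x R q ^ (n - ((i : ℕ) + 1))
        = (PolyNodeRing.x R q * PolyNodeRing.y R q) * PolyNodeRing.x R q ^ (n - ((i : ℕ) + 1)) -
          algebraMap R (PolyNodeRing R q) q * PolyNodeRing.x R q ^ (n - ((i : ℕ) + 1)) := by ring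
      _ = 0 := by rw [this, sub_self]
  · simp only [Prod.snd_sub, Prod.snd_zero]
    rw [pow_succ]
    ring

include hrUx hrUy hrVx hrVy in
lemma K_le_kerA : K p q n ≤ kerA p q rU rV n := by
  rw [K, Submodule.span_le]
  rintro _ (⟨i, rfl⟩ | ⟨i, rfl⟩)
  · exact Phi_rel1 p q rU hrUx rV hrVx n i
  · exact Phi_rel2 p q rU hrUy rV hrVy n i

/-- the normal-form vectors -/
noncomputable def nu (k : ℤ) : Fin (n + 1) → PolyNodeRing R (p * q) :=
  if k < 0 then Pi.single (Fin.last n) (PolyNodeRing.y R (p * q) ^ (-k).toNat)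
  else if h : k ≤ n then Pi.single ⟨n - k.toNat, by omega⟩ 1
  else Pi.single 0 (PolyNodeRing.x R (p * q) ^ (k - n).toNat)

include hrUx hrUy hrVx hrVy in
lemma Phi_nu (k : ℤ) :
    Phi p q rU rV n (nu p q n k) =
      (Miso R q (Finsupp.single k (p ^ (k - n).toNat)),
        Miso R p (Finsupp.single ((n : ℤ) - k) (q ^ (-k).toNat))) := by
  rw [Miso_single, Miso_single]
  by_cases h1 : k < 0
  · rw [nu, if_pos h1, Phi_single, map_pow, map_pow, hrUy, hrVy]
    have e1 : (k - n).toNat = 0 := by omega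
    have e2 : k.toNat = 0 := by omega
    have e3 : ((n : ℤ) - k).toNat = n + (-k).toNat := by omega
    have e4 : (-((n : ℤ) - k)).toNat = 0 := by omega
    rw [e1, e2, e3, e4]
    simp only [Fin.val_last, Nat.sub_self, pow_zero, mul_one, one_smul, one_mul]
    congr 1
    rw [mul_pow, ← map_pow]
    refine Eq.trans ?_ (Algebra.smul_def (R := R) (A := PolyNodeRing R p) _ _).symm
    rw [pow_add]
    ring
  · by_cases h2 : k ≤ n
    · rw [nu, if_neg h1, dif_pos h2, Phi_single, map_one, map_one]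
      have e1 : (k - n).toNat = 0 := by omega
      have e2 : (-k).toNat = 0 := by omega
      have e3 : ((n : ℤ) - k).toNat = n - k.toNat := by omega
      have e4 : (-((n : ℤ) - k)).toNat = 0 := by omega
      have e5 : n - (n - k.toNat) = k.toNat := by omega
      rw [e1, e2, e3, e4]
      simp only [pow_zero, mul_one, one_smul, one_mul, e5]
    · rw [nu, if_neg h1, dif_neg h2, Phi_single, map_pow, map_pow, hrUx, hrVx]
      have e2 : (-k).toNat = 0 := by omega
      have e3 : ((n : ℤ) - k).toNat = 0 := by omega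
      have e4 : (-((n : ℤ) - k)).toNat = (k - n).toNat := by omega
      have e5 : k.toNat = (k - n).toNat + n := by omega
      rw [e2, e3, e4, e5]
      simp only [Fin.val_zero, Nat.sub_zero, pow_zero, mul_one, one_smul, one_mul]
      congr 1
      rw [mul_pow, ← map_pow]
      refine Eq.trans ?_ (Algebra.smul_def (R := R) (A := PolyNodeRing R q) _ _).symm
      rw [pow_add]
      ring

/-- the normal-form parametrisation -/
noncomputable def nuL : (ℤ →₀ R) →ₗ[R] (Fin (n + 1) → PolyNodeRing R (p * q)) :=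
  Finsupp.linearCombination R (nu p q n)

include hrUx hrUy hrVx hrVy in
lemma Phi_nuL :
    Phi p q rU rV n ∘ₗ nuL p q n =
      (eps R p q (n : ℤ)).toLinearMap ∘ₗ
        LinearMap.prod (D (fun k : ℤ => p ^ (k - n).toNat)) (D (fun k : ℤ => q ^ (-k).toNat)) := by
  apply Finsupp.lhom_ext
  intro k r
  simp only [LinearMap.comp_apply, nuL, Finsupp.linearCombination_single, map_smul,
    LinearMap.prod_apply, Function.prod, D_single, LinearEquiv.coe_coe, eps,
    LinearEquiv.prodCongr_apply, LinearEquiv.trans_apply, Finsupp.domLCongr_single,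
    Equiv.subLeft_apply]
  rw [Phi_nu p q rU hrUx hrUy rV hrVx hrVy n k, Prod.smul_mk, ← map_smul, ← map_smul,
    Finsupp.smul_single, Finsupp.smul_single, smul_eq_mul, smul_eq_mul, mul_comm r, mul_comm r]

include hrUx hrUy hrVx hrVy in
lemma nuL_inj (c : ℤ →₀ R) (hc : Phi p q rU rV n (nuL p q n c) = 0) : c = 0 := by
  have h := LinearMap.congr_fun (Phi_nuL p q rU hrUx hrUy rV hrVx hrVy n) c
  rw [LinearMap.comp_apply, hc, LinearMap.comp_apply, LinearEquiv.coe_coe] at h
  have h2 := (LinearEquiv.map_eq_zero_iff (eps R p q (n : ℤ))).mp h.symm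
  rw [LinearMap.prod_apply, Function.prod, Prod.mk_eq_zero] at h2
  ext k
  have h3 := DFunLike.congr_fun h2.1 k
  have h4 := DFunLike.congr_fun h2.2 k
  rw [D_apply, Finsupp.zero_apply] at h3 h4
  by_cases hk : k ≤ n
  · have e : (k - n).toNat = 0 := by omega
    rw [e, pow_zero, one_mul] at h3
    exact h3
  · have e : (-k).toNat = 0 := by omega
    rw [e, pow_zero, one_mul] at h4
    exact h4

include hrUx hrUy hrVx hrVy hgUs hgUy hgVt hgVx in
open Classical in
lemma range_sup (g : PolyNodeRing R q) (f : PolyNodeRing R p)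
    (hgf : gU g = T (n : ℤ) * gV f) :
    ∃ c : ℤ →₀ R, Phi p q rU rV n (nuL p q n c) = (g, f) := by
  obtain ⟨⟨c1, c2⟩, hc⟩ := (eps R p q (n : ℤ)).surjective (g, f)
  have hker : Psi (fun m : ℤ => q ^ (-m).toNat) (fun m : ℤ => p ^ (-((n : ℤ) - m)).toNat) (c1, c2) = 0 := by
    rw [← comp_eq R p q gU hgUs hgUy gV hgVt hgVx (n : ℤ)]
    simp only [LinearMap.comp_apply, LinearEquiv.coe_coe, hc]
    rw [LinearEquiv.map_eq_zero_iff]
    simp only [PsiA, LinearMap.sub_apply, LinearMap.comp_apply, LinearMap.fst_apply,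
      LinearMap.snd_apply, AlgHom.toLinearMap_apply, LinearMap.mulLeft_apply]
    rw [hgf, sub_self]
  have hrel := (mem_ker_Psi _ _ (c1, c2)).mp hker
  simp only at hrel
  let χ1 : ℤ → R := fun m => if m ≤ n then 1 else 0
  let χ2 : ℤ → R := fun m => if m ≤ n then 0 else 1
  refine ⟨D χ1 c1 + D χ2 c2, ?_⟩
  have h := LinearMap.congr_fun (Phi_nuL p q rU hrUx hrUy rV hrVx hrVy n) (D χ1 c1 + D χ2 c2)
  rw [LinearMap.comp_apply] at h
  rw [h, LinearMap.comp_apply, LinearEquiv.coe_coe, ← hc]
  congr 1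
  rw [LinearMap.prod_apply, Function.prod]
  congr 1
  · ext m
    have hm := hrel m
    simp only [D_apply, Finsupp.add_apply, χ1, χ2]
    by_cases hk : m ≤ n
    · have e : (m - n).toNat = 0 := by omega
      simp [hk, e]
    · have e1 : (-m).toNat = 0 := by omega
      have e2 : (-((n : ℤ) - m)).toNat = (m - n).toNat := by omega
      rw [e1, e2, pow_zero, one_mul] at hm
      simp [hk, hm]
  · ext m
    have hm := hrel m
    simp only [D_apply, Finsupp.add_apply, χ1, χ2]
    by_cases hk : m ≤ n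
    · by_cases hk0 : m < 0
      · have e2 : (-((n : ℤ) - m)).toNat = 0 := by omega
        rw [e2, pow_zero, one_mul] at hm
        simp [hk, hm]
      · have e1 : (-m).toNat = 0 := by omega
        have e2 : (-((n : ℤ) - m)).toNat = 0 := by omega
        rw [e1, e2] at hm
        simp only [pow_zero, one_mul] at hm
        simp [hk, e1, hm]
    · have e1 : (-m).toNat = 0 := by omega
      simp [hk, e1]

/-- normal forms plus relations -/
noncomputable def NK : Submodule R (Fin (n + 1) → PolyNodeRing R (p * q)) :=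
  LinearMap.range (nuL p q n) ⊔ (K p q n).restrictScalars R

lemma nu_mem (k : ℤ) : nu p q n k ∈ NK p q n := by
  apply Submodule.mem_sup_left
  refine ⟨Finsupp.single k 1, ?_⟩
  rw [nuL, Finsupp.linearCombination_single, one_smul]

lemma K_mem (v : Fin (n + 1) → PolyNodeRing R (p * q)) (hv : v ∈ K p q n) : v ∈ NK p q n :=
  Submodule.mem_sup_right hv

lemma single_one_mem (i : Fin (n + 1)) : Pi.single i (1 : PolyNodeRing R (p * q)) ∈ NK p q n := by
  have hi : (i : ℕ) < n + 1 := i.2
  have h := nu_mem p q n ((n : ℤ) - (i : ℕ))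
  rw [nu, if_neg (by omega), dif_pos (by omega)] at h
  convert h using 2
  apply Fin.ext
  simp only
  omega

lemma single_zero_x_mem (j : ℕ) :
    Pi.single (0 : Fin (n + 1)) (PolyNodeRing.x R (p * q) ^ j) ∈ NK p q n := by
  rcases Nat.eq_zero_or_pos j with rfl | hj
  · rw [pow_zero]; exact single_one_mem p q n 0
  · have h := nu_mem p q n ((n : ℤ) + j)
    rw [nu, if_neg (by omega), dif_neg (by omega)] at h
    have e : ((n : ℤ) + j - n).toNat = j := by omega
    rw [e] at h
    exact h

lemma single_last_y_mem (j : ℕ) :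
    Pi.single (Fin.last n) (PolyNodeRing.y R (p * q) ^ j) ∈ NK p q n := by
  rcases Nat.eq_zero_or_pos j with rfl | hj
  · rw [pow_zero]; exact single_one_mem p q n _
  · have h := nu_mem p q n (-(j : ℤ))
    rw [nu, if_pos (by omega)] at h
    have e : (-(-(j : ℤ))).toNat = j := by omega
    rw [e] at h
    exact h

lemma single_x_mem : ∀ (i : ℕ) (hi : i < n + 1) (j : ℕ),
    Pi.single (⟨i, hi⟩ : Fin (n + 1)) (PolyNodeRing.x R (p * q) ^ j) ∈ NK p q n := by
  intro i
  induction i with
  | zero =>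
    intro hi j
    exact single_zero_x_mem p q n j
  | succ i ih =>
    intro hi j
    rcases Nat.eq_zero_or_pos j with rfl | hj
    · rw [pow_zero]; exact single_one_mem p q n _
    · obtain ⟨j', rfl⟩ : ∃ j', j = j' + 1 := ⟨j - 1, by omega⟩
      have hi' : i < n := by omega
      have key : Pi.single (⟨i + 1, hi⟩ : Fin (n + 1)) (PolyNodeRing.x R (p * q) ^ (j' + 1)) =
          p • (Pi.single (⟨i, by omega⟩ : Fin (n + 1)) (PolyNodeRing.x R (p * q) ^ j') :
              Fin (n + 1) → PolyNodeRing R (p * q)) -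
            PolyNodeRing.x R (p * q) ^ j' • rel1 p q n ⟨i, hi'⟩ := by
        rw [rel1, smul_sub, ← Pi.single_smul, ← Pi.single_smul, ← Pi.single_smul]
        have e1 : Fin.castSucc (⟨i, hi'⟩ : Fin n) = (⟨i, by omega⟩ : Fin (n + 1)) := rfl
        have e2 : Fin.succ (⟨i, hi'⟩ : Fin n) = (⟨i + 1, hi⟩ : Fin (n + 1)) := rfl
        rw [e1, e2, smul_eq_mul, smul_eq_mul, ← pow_succ]
        have e3 : p • PolyNodeRing.x R (p * q) ^ j' =
            PolyNodeRing.x R (p * q) ^ j' * algebraMap R (PolyNodeRing R (p * q)) p := by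
          refine (Algebra.smul_def (R := R) (A := PolyNodeRing R (p * q)) _ _).trans ?_
          ring
        rw [e3]
        abel
      rw [key]
      refine Submodule.sub_mem _ (Submodule.smul_mem _ _ (ih _ _)) ?_
      apply K_mem
      exact Submodule.smul_mem _ _ (Submodule.subset_span (Or.inl ⟨_, rfl⟩))

lemma single_y_mem : ∀ (d i : ℕ) (hi : i < n + 1) (_ : i + d = n) (j : ℕ),
    Pi.single (⟨i, hi⟩ : Fin (n + 1)) (PolyNodeRing.y R (p * q) ^ j) ∈ NK p q n := by
  intro d
  induction d with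
  | zero =>
    intro i hi hid j
    have : (⟨i, hi⟩ : Fin (n + 1)) = Fin.last n := Fin.ext (by simpa using hid)
    rw [this]
    exact single_last_y_mem p q n j
  | succ d ih =>
    intro i hi hid j
    rcases Nat.eq_zero_or_pos j with rfl | hj
    · rw [pow_zero]; exact single_one_mem p q n _
    · obtain ⟨j', rfl⟩ : ∃ j', j = j' + 1 := ⟨j - 1, by omega⟩
      have hi' : i < n := by omega
      have key : Pi.single (⟨i, hi⟩ : Fin (n + 1)) (PolyNodeRing.y R (p * q) ^ (j' + 1)) =
          q • (Pi.single (⟨i + 1, by omega⟩ : Fin (n + 1)) (PolyNodeRing.y R (p * q) ^ j') :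
              Fin (n + 1) → PolyNodeRing R (p * q)) +
            PolyNodeRing.y R (p * q) ^ j' • rel2 p q n ⟨i, hi'⟩ := by
        rw [rel2, smul_sub, ← Pi.single_smul, ← Pi.single_smul, ← Pi.single_smul]
        have e1 : Fin.castSucc (⟨i, hi'⟩ : Fin n) = (⟨i, hi⟩ : Fin (n + 1)) := rfl
        have e2 : Fin.succ (⟨i, hi'⟩ : Fin n) = (⟨i + 1, by omega⟩ : Fin (n + 1)) := rfl
        rw [e1, e2, smul_eq_mul, smul_eq_mul, ← pow_succ]
        have e3 : q • PolyNodeRing.y R (p * q) ^ j' =
            PolyNodeRing.y R (p * q) ^ j' * algebraMap R (PolyNodeRing R (p * q)) q := by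
          refine (Algebra.smul_def (R := R) (A := PolyNodeRing R (p * q)) _ _).trans ?_
          ring
        rw [e3]
        abel
      rw [key]
      refine Submodule.add_mem _ (Submodule.smul_mem _ _ (ih _ _ (by omega) _)) ?_
      apply K_mem
      exact Submodule.smul_mem _ _ (Submodule.subset_span (Or.inr ⟨_, rfl⟩))

lemma single_mem (i : Fin (n + 1)) (a : PolyNodeRing R (p * q)) :
    Pi.single i a ∈ NK p q n := by
  obtain ⟨c, rfl⟩ := (Miso R (p * q)).surjective a
  induction c using Finsupp.induction_linear with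
  | zero => rw [map_zero, Pi.single_zero]; exact Submodule.zero_mem _
  | add c d hc hd => rw [map_add, Pi.single_add]; exact Submodule.add_mem _ hc hd
  | single m r =>
    rw [Miso_single, Pi.single_smul]
    apply Submodule.smul_mem
    obtain ⟨i, hi⟩ := i
    by_cases hm : 0 ≤ m
    · have e : (-m).toNat = 0 := by omega
      rw [e, pow_zero, mul_one]
      exact single_x_mem p q n i hi _
    · have e : m.toNat = 0 := by omega
      rw [e, pow_zero, one_mul]
      exact single_y_mem p q n (n - i) i hi (by omega) _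

lemma all_mem (F : Fin (n + 1) → PolyNodeRing R (p * q)) : F ∈ NK p q n := by
  have : F = ∑ i, Pi.single i (F i) := by
    ext j
    rw [Finset.sum_apply, Finset.sum_eq_single j]
    · rw [Pi.single_eq_same]
    · intro i _ hij
      rw [Pi.single_eq_of_ne hij.symm]
    · intro h; exact absurd (Finset.mem_univ j) h
  rw [this]
  exact Submodule.sum_mem _ (fun i _ => single_mem p q n i (F i))

include hrUx hrUy hrVx hrVy in
lemma ker_le (F : Fin (n + 1) → PolyNodeRing R (p * q)) (hF : Phi p q rU rV n F = 0) :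
    F ∈ K p q n := by
  obtain ⟨v, ⟨c, rfl⟩, κ, hκ, rfl⟩ := Submodule.mem_sup.mp (all_mem p q n F)
  have hκ' : κ ∈ K p q n := hκ
  have hκ0 : Phi p q rU rV n κ = 0 := K_le_kerA p q rU hrUx hrUy rV hrVx hrVy n hκ'
  rw [map_add, hκ0, add_zero] at hF
  have hc := nuL_inj p q rU hrUx hrUy rV hrVx hrVy n c hF
  rw [hc, map_zero, zero_add]
  exact hκ'

include hrUx hrUy hrVx hrVy hgUs hgUy hgVt hgVx in
theorem main :
    Set.range (fun F : Fin (n + 1) → PolyNodeRing R (p * q) => Phi p q rU rV n F) =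
      {gf : PolyNodeRing R q × PolyNodeRing R p | gU gf.1 = T (n : ℤ) * gV gf.2} ∧
    {F : Fin (n + 1) → PolyNodeRing R (p * q) | Phi p q rU rV n F = 0} =
      (K p q n : Set (Fin (n + 1) → PolyNodeRing R (p * q))) := by
  constructor
  · ext ⟨g, f⟩
    constructor
    · rintro ⟨F, hF⟩
      have := range_sub p q rU hrUx hrUy rV hrVx hrVy gU hgUs hgUy gV hgVt hgVx n F
      simp only at hF
      rw [hF] at this
      exact this
    · intro h
      obtain ⟨c, hc⟩ := range_sup p q rU hrUx hrUy rV hrVx hrVy gU hgUs hgUy gV hgVt hgVx n g f h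
      exact ⟨_, hc⟩
  · ext F
    constructor
    · intro hF
      exact ker_le p q rU hrUx hrUy rV hrVx hrVy n F hF
    · intro hF
      exact K_le_kerA p q rU hrUx hrUy rV hrVx hrVy n hF

end Main

end Groth.Agent.Lib.H9SpinSect
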