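import Mathlib

set_option autoImplicit false
universe u

namespace Groth.Agent.Lib.R2Lead.ProConsSpec

open PrimeSpectrum

/-- closure of the image of a closed set under `comap` consists of specializations of the image -/
theorem exists_specializes_of_mem_closure_image_closed {A B : Type u} [CommRing A] [CommRing B]
    (φ : A →+* B) (Z : Set (PrimeSpectrum B)) (hZ : IsClosed Z) (z : PrimeSpectrum A)
    (hz : z ∈ closure (comap φ '' Z)) : ∃ e ∈ comap φ '' Z, e ⤳ z := by
  obtain ⟨I, rfl⟩ := (PrimeSpectrum.isClosed_iff_zeroLocus_ideal Z).mp hZ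
  have hsub : comap φ '' zeroLocus (I : Set B) ⊆ zeroLocus ((I.comap φ : Ideal A) : Set A) := by
    rintro _ ⟨q, hq, rfl⟩
    exact Ideal.comap_mono hq
  have hz' : z ∈ zeroLocus ((I.comap φ : Ideal A) : Set A) :=
    closure_minimal hsub (isClosed_zeroLocus _) hz
  obtain ⟨q, hqI, hq, hqle⟩ := z.asIdeal.exists_ideal_comap_le_prime I hz'
  refine ⟨comap φ ⟨q, hq⟩, ⟨⟨q, hq⟩, hqI, rfl⟩, ?_⟩
  exact (le_iff_specializes (comap φ ⟨q, hq⟩) z).mp hqle

/-- same for a basic locally closed piece -/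
theorem exists_specializes_of_mem_closure_image_piece {A B : Type u} [CommRing A] [CommRing B]
    (φ : A →+* B) (Z : Set (PrimeSpectrum B)) (hZ : IsClosed Z) (b : B) (z : PrimeSpectrum A)
    (hz : z ∈ closure (comap φ '' (Z ∩ (basicOpen b : Set (PrimeSpectrum B))))) :
    ∃ e ∈ comap φ '' (Z ∩ (basicOpen b : Set (PrimeSpectrum B))), e ⤳ z := by
  let α : B →+* Localization.Away b := algebraMap B (Localization.Away b)
  have hrange : Set.range (comap α) = (basicOpen b : Set (PrimeSpectrum B)) :=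
    localization_away_comap_range (Localization.Away b) b
  have himg : comap (α.comp φ) '' (comap α ⁻¹' Z) =
      comap φ '' (Z ∩ (basicOpen b : Set (PrimeSpectrum B))) := by
    rw [← hrange, ← Set.image_preimage_eq_inter_range, ← Set.image_comp]
    rfl
  rw [← himg] at hz ⊢
  exact exists_specializes_of_mem_closure_image_closed (α.comp φ) _
    (hZ.preimage (continuous_comap α)) z hz

/-- a compact locally closed subset of a prime spectrum is a finite union of basic pieces -/
theorem exists_finite_pieces {B : Type u} [CommRing B] (T : Set (PrimeSpectrum B))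
    (hT : IsLocallyClosed T) (hTc : IsCompact T) :
    ∃ (Z : Set (PrimeSpectrum B)) (bs : Finset B), IsClosed Z ∧
      T = ⋃ b ∈ bs, Z ∩ (basicOpen b : Set (PrimeSpectrum B)) := by
  obtain ⟨U, Z, hU, hZ, rfl⟩ := hT
  have hcov : ∀ x ∈ U ∩ Z, ∃ b : B, x ∈ (basicOpen b : Set (PrimeSpectrum B)) ∧
      (basicOpen b : Set (PrimeSpectrum B)) ⊆ U := by
    intro x hx
    obtain ⟨_, ⟨b, rfl⟩, hxb, hbU⟩ :=
      isTopologicalBasis_basic_opens.exists_subset_of_mem_open hx.1 hU
    exact ⟨b, hxb, hbU⟩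
  choose! β hβ1 hβ2 using hcov
  obtain ⟨t, htcov⟩ := hTc.elim_nhds_subcover' (fun x hx => (basicOpen (β x) : Set (PrimeSpectrum B)))
    (fun x hx => (basicOpen (β x)).2.mem_nhds (hβ1 x hx))
  classical
  refine ⟨Z, t.image (fun x => β x.1), hZ, ?_⟩
  apply Set.Subset.antisymm
  · intro x hx
    obtain ⟨i, hi, hxi⟩ := Set.mem_iUnion₂.mp (htcov hx)
    refine Set.mem_iUnion₂.mpr ⟨β i.1, Finset.mem_image.mpr ⟨i, hi, rfl⟩, hx.2, hxi⟩
  · intro x hx
    obtain ⟨b, hb, hxZ, hxb⟩ := Set.mem_iUnion₂.mp hx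
    obtain ⟨i, hi, rfl⟩ := Finset.mem_image.mp hb
    exact ⟨hβ2 i.1 i.2 hxb, hxZ⟩

/-- closure of the image of a compact locally closed set consists of specializations -/
theorem exists_specializes_of_mem_closure_image {A B : Type u} [CommRing A] [CommRing B]
    (φ : A →+* B) (T : Set (PrimeSpectrum B)) (hT : IsLocallyClosed T) (hTc : IsCompact T)
    (z : PrimeSpectrum A) (hz : z ∈ closure (comap φ '' T)) : ∃ e ∈ comap φ '' T, e ⤳ z := by
  obtain ⟨Z, bs, hZ, rfl⟩ := exists_finite_pieces T hT hTc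
  rw [Set.image_iUnion₂, Finset.closure_biUnion] at hz
  obtain ⟨b, hb, hzb⟩ := Set.mem_iUnion₂.mp hz
  obtain ⟨e, he, hez⟩ := exists_specializes_of_mem_closure_image_piece φ Z hZ b z hzb
  refine ⟨e, ?_, hez⟩
  rw [Set.image_iUnion₂]
  exact Set.mem_iUnion₂.mpr ⟨b, hb, he⟩

end Groth.Agent.Lib.R2Lead.ProConsSpec
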