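/-
R2LeadValChain: composite valuation subrings (`comp A W`, preimage in `A` of a valuation subring `W` of the residue
field) and `exists_valuationRing_chain`: every finite monotone chain of primes of a ring is the image of a chain of
primes of a valuation ring `V` under some `R → V`.
-/
import Mathlib

set_option autoImplicit false

namespace Groth.Agent.Lib.R2Lead.ValChain

universe u

open IsLocalRing

section comp

variable {K : Type*} [Field K]

lemma residue_inv_of_mul_eq_one (A : ValuationSubring K) (a a' : A) (h : a * a' = 1) :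
    residue A a' = (residue A a)⁻¹ := by
  have h1 : residue A a * residue A a' = 1 := by rw [← map_mul, h, map_one]
  exact eq_inv_of_mul_eq_one_right h1

/-- the composite of a valuation subring `A` of `K` and a valuation subring `W` of the residue field
of `A`: the preimage of `W` in `A`. -/
noncomputable def comp (A : ValuationSubring K) (W : ValuationSubring (ResidueField A)) :
    ValuationSubring K :=
  ValuationSubring.ofSubring
    ((Subring.comap (residue A) W.toSubring).map A.subtype)
    (by
      intro x
      by_cases hx : x ∈ A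
      · by_cases hw : residue A ⟨x, hx⟩ ∈ W
        · left
          exact ⟨⟨x, hx⟩, hw, rfl⟩
        · right
          have hw' : (residue A ⟨x, hx⟩)⁻¹ ∈ W := (W.mem_or_inv_mem _).resolve_left hw
          have hne : residue A ⟨x, hx⟩ ≠ 0 := by
            intro h0
            apply hw
            rw [h0]
            exact W.zero_mem
          have hu : IsUnit (⟨x, hx⟩ : A) := by
            by_contra hnu
            exact hne ((residue_eq_zero_iff _).mpr ((mem_maximalIdeal _).mpr hnu))
          obtain ⟨u, hu⟩ := hu
          refine ⟨((u⁻¹ : Aˣ) : A), ?_, ?_⟩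
          · change residue A ((u⁻¹ : Aˣ) : A) ∈ W
            rw [residue_inv_of_mul_eq_one A (u : A) ((u⁻¹ : Aˣ) : A) (by simp), hu]
            exact hw'
          · have h1 : ((u : A) : K) * (((u⁻¹ : Aˣ) : A) : K) = 1 := by
              rw [← A.coe_mul]
              simp
            rw [hu] at h1
            change (((u⁻¹ : Aˣ) : A) : K) = x⁻¹
            exact eq_inv_of_mul_eq_one_right h1
      · right
        have hx' : x⁻¹ ∈ A := (A.mem_or_inv_mem x).resolve_left hx
        refine ⟨⟨x⁻¹, hx'⟩, ?_, rfl⟩
        change residue A ⟨x⁻¹, hx'⟩ ∈ W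
        have : residue A ⟨x⁻¹, hx'⟩ = 0 := by
          rw [residue_eq_zero_iff, mem_maximalIdeal, mem_nonunits_iff]
          rintro ⟨u, hu⟩
          apply hx
          have h1 : (((u⁻¹ : Aˣ) : A) : K) * ((u : A) : K) = 1 := by
            rw [← A.coe_mul]
            simp
          rw [hu] at h1
          have h2 : (((u⁻¹ : Aˣ) : A) : K) = x := by
            have := eq_inv_of_mul_eq_one_left h1
            simpa using this
          rw [← h2]
          exact ((u⁻¹ : Aˣ) : A).2
        rw [this]
        exact W.zero_mem)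

lemma mem_comp_iff' (A : ValuationSubring K) (W : ValuationSubring (ResidueField A)) (x : K) :
    x ∈ comp A W ↔ ∃ a : A, residue A a ∈ W ∧ (a : K) = x := by
  unfold comp
  rw [ValuationSubring.mem_ofSubring]
  exact Iff.rfl

lemma comp_le (A : ValuationSubring K) (W : ValuationSubring (ResidueField A)) : comp A W ≤ A := by
  intro x hx
  obtain ⟨a, -, rfl⟩ := (mem_comp_iff' A W x).mp hx
  exact a.2

lemma mem_comp_iff (A : ValuationSubring K) (W : ValuationSubring (ResidueField A)) (a : A) :
    (a : K) ∈ comp A W ↔ residue A a ∈ W := by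
  rw [mem_comp_iff']
  constructor
  · rintro ⟨a', ha', h⟩
    have : a' = a := Subtype.ext h
    rwa [← this]
  · intro h
    exact ⟨a, h, rfl⟩

lemma mem_nonunits_comp_iff (A : ValuationSubring K) (W : ValuationSubring (ResidueField A))
    (a : A) : (a : K) ∈ (comp A W).nonunits ↔ residue A a ∈ W.nonunits := by
  rw [ValuationSubring.mem_nonunits_iff_or, ValuationSubring.mem_nonunits_iff_or]
  constructor
  · rintro (h | h)
    · left
      have : a = 0 := Subtype.ext h
      rw [this, map_zero]
    · by_contra hcon
      push Not at hcon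
      obtain ⟨hne, hinv⟩ := hcon
      have hu : IsUnit a := by
        by_contra hnu
        exact hne ((residue_eq_zero_iff _).mpr ((mem_maximalIdeal _).mpr hnu))
      obtain ⟨u, rfl⟩ := hu
      apply h
      have h1 : ((u : A) : K) * (((u⁻¹ : Aˣ) : A) : K) = 1 := by
        rw [← A.coe_mul]
        simp
      have h2 : (((u⁻¹ : Aˣ) : A) : K) = ((u : A) : K)⁻¹ := eq_inv_of_mul_eq_one_right h1
      rw [← h2, mem_comp_iff, residue_inv_of_mul_eq_one A (u : A) ((u⁻¹ : Aˣ) : A) (by simp)]
      exact hinv
  · intro h
    by_contra hcon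
    push Not at hcon
    obtain ⟨hne, hinv⟩ := hcon
    have hinvA : (a : K)⁻¹ ∈ A := comp_le A W hinv
    have hmul : a * ⟨(a : K)⁻¹, hinvA⟩ = 1 := by
      apply Subtype.ext
      rw [A.coe_mul]
      exact mul_inv_cancel₀ hne
    have h3 := residue_inv_of_mul_eq_one A a ⟨(a : K)⁻¹, hinvA⟩ hmul
    have h4 : residue A ⟨(a : K)⁻¹, hinvA⟩ ∈ W := (mem_comp_iff A W ⟨(a : K)⁻¹, hinvA⟩).mp hinv
    have h5 : residue A a * residue A ⟨(a : K)⁻¹, hinvA⟩ = 1 := by rw [← map_mul, hmul, map_one]
    rcases h with h | h
    · rw [h, zero_mul] at h5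
      exact zero_ne_one h5
    · apply h
      rw [← h3]
      exact h4

end comp

section step

variable {R : Type*} [CommRing R] {K : Type*} [Field K]

lemma exists_step (φ : R →+* K) (A : ValuationSubring K) (hA : ∀ r, φ r ∈ A) (P Q : Ideal R)
    [Q.IsPrime] (hPQ : P ≤ Q) (hP : ∀ r, φ r ∈ A.nonunits ↔ r ∈ P) :
    ∃ B : ValuationSubring K, B ≤ A ∧ (∀ r, φ r ∈ B) ∧ ∀ r, φ r ∈ B.nonunits ↔ r ∈ Q := by
  let φA : R →+* A := φ.codRestrict A.toSubring hA
  let ψ : R →+* ResidueField A := (residue A).comp φA
  have hψ : ∀ r, ψ r = 0 ↔ r ∈ P := by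
    intro r
    change residue A (φA r) = 0 ↔ _
    rw [residue_eq_zero_iff, ← ValuationSubring.coe_mem_nonunits_iff]
    exact hP r
  have hunit : ∀ y : Q.primeCompl, IsUnit (ψ y) := by
    intro y
    rw [isUnit_iff_ne_zero]
    intro h0
    exact y.2 (hPQ ((hψ _).mp h0))
  let ψQ : Localization.AtPrime Q →+* ResidueField A := IsLocalization.lift hunit
  have hψQ : ∀ r, ψQ (algebraMap R (Localization.AtPrime Q) r) = ψ r := fun r =>
    IsLocalization.lift_eq hunit r
  obtain ⟨W, hW, hloc⟩ := IsLocalRing.exists_factor_valuationRing ψQ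
  refine ⟨comp A W, comp_le A W, ?_, ?_⟩
  · intro r
    have : φ r = ((φA r : A) : K) := rfl
    rw [this, mem_comp_iff]
    have h2 : residue A (φA r) = ψQ (algebraMap R (Localization.AtPrime Q) r) := (hψQ r).symm
    rw [h2]
    exact hW _
  · intro r
    have : φ r = ((φA r : A) : K) := rfl
    rw [this, mem_nonunits_comp_iff]
    have h2 : residue A (φA r) = ψQ (algebraMap R (Localization.AtPrime Q) r) := (hψQ r).symm
    rw [h2]
    set g := ψQ.codRestrict W.toSubring hW with hg
    have h3 : ψQ (algebraMap R (Localization.AtPrime Q) r) =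
        ((g (algebraMap R (Localization.AtPrime Q) r) : W) : ResidueField A) := rfl
    rw [h3, ValuationSubring.coe_mem_nonunits_iff, mem_maximalIdeal, mem_nonunits_iff,
      isUnit_map_iff g, ← mem_nonunits_iff, ← mem_maximalIdeal,
      IsLocalization.AtPrime.to_map_mem_maximal_iff (Localization.AtPrime Q) Q]

lemma exists_chain_aux (φ : R →+* K) (p : ℕ → Ideal R) (hpp : ∀ i, (p i).IsPrime)
    (hpm : Monotone p) (hp0 : p 0 = RingHom.ker φ) :
    ∀ n : ℕ, ∃ V : ℕ → ValuationSubring K, (∀ i, i < n → V (i + 1) ≤ V i) ∧
      ∀ i, i ≤ n → (∀ r, φ r ∈ V i) ∧ ∀ r, φ r ∈ (V i).nonunits ↔ r ∈ p i := by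
  intro n
  induction n with
  | zero =>
    refine ⟨fun _ => ⊤, fun i hi => absurd hi (Nat.not_lt_zero _), ?_⟩
    intro i hi
    have hi0 : i = 0 := Nat.le_zero.mp hi
    subst hi0
    refine ⟨fun r => ValuationSubring.mem_top _, fun r => ?_⟩
    rw [ValuationSubring.mem_nonunits_iff_or, hp0, RingHom.mem_ker]
    constructor
    · rintro (h | h)
      · exact h
      · exact absurd (ValuationSubring.mem_top _) h
    · intro h
      exact Or.inl h
  | succ n ih =>
    obtain ⟨V, hV1, hV2⟩ := ih
    haveI := hpp (n + 1)
    obtain ⟨B, hBA, hB1, hB2⟩ := exists_step φ (V n) (hV2 n le_rfl).1 (p n) (p (n + 1))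
      (hpm (Nat.le_succ n)) (hV2 n le_rfl).2
    refine ⟨fun i => if i ≤ n then V i else B, ?_, ?_⟩
    · intro i hi
      by_cases hin : i + 1 ≤ n
      · have hin' : i ≤ n := by omega
        simp only [hin, hin', if_true]
        exact hV1 i (by omega)
      · have hin' : i = n := by omega
        subst hin'
        simp only [hin, le_refl, if_true, if_false]
        exact hBA
    · intro i hi
      by_cases hin : i ≤ n
      · simp only [hin, if_true]
        exact hV2 i hin
      · have hin' : i = n + 1 := by omega
        subst hin'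
        simp only [hin, if_false]
        exact ⟨hB1, hB2⟩

end step

/-- **Chains of primes are dominated by valuation rings**: for a monotone chain of primes
`p 0 ≤ … ≤ p n` of a ring `R` there are a valuation ring `V`, a ring homomorphism `R → V` and a
chain of primes of `V` lying over the given chain. -/
theorem exists_valuationRing_chain {R : Type u} [CommRing R] (n : ℕ)
    (p : Fin (n + 1) → PrimeSpectrum R) (hp : Monotone p) :
    ∃ (V : Type u) (_ : CommRing V) (_ : IsDomain V) (_ : ValuationRing V) (φ : R →+* V)
      (q : Fin (n + 1) → PrimeSpectrum V), Monotone q ∧ ∀ i, PrimeSpectrum.comap φ (q i) = p i := by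
  classical
  let p0 : Ideal R := (p 0).asIdeal
  let K := FractionRing (R ⧸ p0)
  let φ : R →+* K := (algebraMap (R ⧸ p0) K).comp (Ideal.Quotient.mk p0)
  have hker : RingHom.ker φ = p0 := by
    ext r
    simp only [φ, RingHom.mem_ker, RingHom.comp_apply]
    rw [map_eq_zero_iff _ (IsFractionRing.injective (R ⧸ p0) K), Ideal.Quotient.eq_zero_iff_mem]
  let P : ℕ → Ideal R := fun i => (p ⟨min i n, by omega⟩).asIdeal
  have hPp : ∀ i, (P i).IsPrime := fun i => (p ⟨min i n, by omega⟩).isPrime
  have hPm : Monotone P := by
    intro i j hij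
    apply hp
    rw [Fin.le_def]
    exact min_le_min_right n hij
  have hP0 : P 0 = RingHom.ker φ := by
    rw [hker]
    simp [P, p0]
  obtain ⟨V, hV1, hV2⟩ := exists_chain_aux φ P hPp hPm hP0 n
  have hanti : ∀ i j, i ≤ j → j ≤ n → V j ≤ V i := by
    intro i j hij
    induction j, hij using Nat.le_induction with
    | base => intro _; exact le_rfl
    | succ j hij ih =>
      intro hj
      exact (hV1 j (by omega)).trans (ih (by omega))
  let φV : R →+* V n := φ.codRestrict (V n).toSubring (hV2 n le_rfl).1
  refine ⟨V n, inferInstance, inferInstance, inferInstance, φV,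
    fun i => ⟨ValuationSubring.idealOfLE (V n) (V i) (hanti i n (by omega) le_rfl), inferInstance⟩,
    ?_, ?_⟩
  · intro i j hij
    change ValuationSubring.idealOfLE (V n) (V i) _ ≤ ValuationSubring.idealOfLE (V n) (V j) _
    exact ValuationSubring.idealOfLE_le_of_le (V n) (V j) (V i) _ _
      (hanti i j (by exact hij) (by omega))
  · intro i
    apply PrimeSpectrum.ext
    ext r
    change φV r ∈ ValuationSubring.idealOfLE (V n) (V i) _ ↔ r ∈ (p i).asIdeal
    rw [ValuationSubring.idealOfLE, Ideal.mem_comap, ← ValuationSubring.coe_mem_nonunits_iff]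
    have h1 := (hV2 i (by omega)).2 r
    have h2 : P i = (p i).asIdeal := by
      simp only [P]
      congr 2
      apply Fin.ext
      simp only [min_eq_left_iff]
      omega
    rw [h2] at h1
    exact h1

end Groth.Agent.Lib.R2Lead.ValChain
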