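/-
helper9: universally S-subtrusive morphisms of finite presentation reflect locally closed subsets
(S14784).  Elementary proof: chain lifting (S19530) + Chevalley + an ultrafilter argument on the
prime spectrum (every point of the closure of `E` is a specialization of a point of the
constructible closure of `E`).
-/
import Mathlib
import Groth.Prelude.Def_W4c2submetdescSubtr
import Groth.Agent.S19530
import Groth.Agent.S14783

set_option autoImplicit false
universe u

open CategoryTheory CategoryTheory.Limits AlgebraicGeometry Topology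

namespace Groth.Agent.Lib.H9SubtrLocClosed

open PrimeSpectrum in
/-- Every point of the closure of a subset `E` of a prime spectrum is a specialization of a point
of the constructible closure of `E` (a point all of whose constructible neighbourhoods meet `E`). -/
theorem exists_specializes_consClosure {R : Type u} [CommRing R] (E : Set (PrimeSpectrum R))
    (y : PrimeSpectrum R) (hy : y ∈ closure E) :
    ∃ e : PrimeSpectrum R, e ⤳ y ∧
      ∀ K : Set (PrimeSpectrum R), IsConstructible K → e ∈ K → (K ∩ E).Nonempty := by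
  classical
  haveI : (𝓝[E] y).NeBot := mem_closure_iff_nhdsWithin_neBot.mp hy
  let 𝔘 : Ultrafilter (PrimeSpectrum R) := Ultrafilter.of (𝓝[E] y)
  have h𝔘 : (𝔘 : Filter (PrimeSpectrum R)) ≤ 𝓝[E] y := Ultrafilter.of_le _
  have hE : E ∈ 𝔘 := h𝔘 self_mem_nhdsWithin
  have hnhds : ∀ r : R, r ∉ y.asIdeal → {p : PrimeSpectrum R | r ∉ p.asIdeal} ∈ 𝔘 := by
    intro r hr
    have h1 : ((basicOpen r : TopologicalSpace.Opens (PrimeSpectrum R)) : Set (PrimeSpectrum R))
        ∈ 𝓝 y := (basicOpen r).2.mem_nhds hr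
    exact h𝔘 (mem_nhdsWithin_of_mem_nhds h1)
  let I : Ideal R :=
    { carrier := {r | {p : PrimeSpectrum R | r ∈ p.asIdeal} ∈ 𝔘}
      zero_mem' := Filter.univ_mem' (fun p => p.asIdeal.zero_mem)
      add_mem' := fun {a b} ha hb =>
        Filter.mem_of_superset (Filter.inter_mem ha hb) (fun p hp => p.asIdeal.add_mem hp.1 hp.2)
      smul_mem' := fun c {a} ha =>
        Filter.mem_of_superset ha (fun p hp => p.asIdeal.mul_mem_left c hp) }
  have hI : ∀ r, r ∈ I ↔ {p : PrimeSpectrum R | r ∈ p.asIdeal} ∈ 𝔘 := fun r => Iff.rfl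
  have hIprime : I.IsPrime := by
    refine ⟨?_, ?_⟩
    · intro htop
      have h1 : (1 : R) ∈ I := htop ▸ Submodule.mem_top
      rw [hI] at h1
      have h2 : {p : PrimeSpectrum R | (1 : R) ∈ p.asIdeal} = ∅ := by
        ext p
        simp only [Set.mem_setOf_eq, Set.mem_empty_iff_false, iff_false]
        exact fun h => p.2.ne_top ((Ideal.eq_top_iff_one _).mpr h)
      rw [h2] at h1
      exact 𝔘.empty_notMem h1
    · intro a b hab
      rw [hI] at hab
      have h1 : {p : PrimeSpectrum R | a ∈ p.asIdeal} ∪ {p : PrimeSpectrum R | b ∈ p.asIdeal}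
          ∈ 𝔘 :=
        Filter.mem_of_superset hab (fun p hp => p.2.mem_or_mem hp)
      exact Ultrafilter.union_mem_iff.mp h1
  let e : PrimeSpectrum R := ⟨I, hIprime⟩
  have hey : e ⤳ y := by
    rw [← le_iff_specializes]
    intro r hr
    by_contra hry
    have h1 := Filter.inter_mem ((hI r).mp hr) (hnhds r hry)
    have h2 : {p : PrimeSpectrum R | r ∈ p.asIdeal} ∩ {p : PrimeSpectrum R | r ∉ p.asIdeal}
        = ∅ := by
      ext p
      simp
    rw [h2] at h1
    exact 𝔘.empty_notMem h1
  have key : ∀ K : Set (PrimeSpectrum R), IsConstructible K → (e ∈ K ↔ K ∈ 𝔘) := by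
    intro K hK
    induction hK using IsConstructible.empty_union_induction with
    | open_retrocompact U hUo hUc =>
      obtain ⟨t, rfl⟩ := isCompact_isOpen_iff.mp ⟨hUc.isCompact, hUo⟩
      rw [Ultrafilter.compl_mem_iff_notMem, Set.mem_compl_iff, not_iff_not]
      have h1 : zeroLocus (t : Set R) = ⋂ r ∈ t, {p : PrimeSpectrum R | r ∈ p.asIdeal} := by
        ext p
        simp only [mem_zeroLocus, Set.mem_iInter, Set.mem_setOf_eq]
        exact ⟨fun h r hr => h hr, fun h r hr => h r hr⟩
      rw [h1]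
      have h2 : (⋂ r ∈ t, {p : PrimeSpectrum R | r ∈ p.asIdeal}) ∈
          (𝔘 : Filter (PrimeSpectrum R)) ↔
          ∀ r ∈ t, {p : PrimeSpectrum R | r ∈ p.asIdeal} ∈ (𝔘 : Filter (PrimeSpectrum R)) :=
        Filter.biInter_finset_mem t
      refine Iff.trans ?_ h2.symm
      simp only [Set.mem_iInter]
      exact ⟨fun h r hr => h r hr, fun h r hr => h r hr⟩
    | union s hs t ht ihs iht =>
      rw [Set.mem_union, Ultrafilter.union_mem_iff, ihs, iht]
    | compl s hs ihs =>
      rw [Set.mem_compl_iff, Ultrafilter.compl_mem_iff_notMem, ihs]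
  refine ⟨e, hey, fun K hK heK => ?_⟩
  exact Filter.nonempty_of_mem (Filter.inter_mem ((key K hK).mp heK) hE)

/-- Affine base: a universally S-subtrusive morphism of finite presentation reflects locally
closed subsets. -/
theorem isLocallyClosed_of_preimage_affine {X : Scheme.{u}} {A : CommRingCat.{u}}
    (f : X ⟶ Spec A) [LocallyOfFinitePresentation f] [QuasiCompact f]
    (hf : Subtr.UnivSSubtrusive f) (E : Set (Spec A))
    (hE : IsLocallyClosed (f ⁻¹' E)) :
    IsLocallyClosed E := by
  haveI : CompactSpace X := QuasiCompact.compactSpace_of_compactSpace f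
  -- chain lifting
  have hchain : ∀ y₀ y₁ y₂ : Spec A, y₀ ⤳ y₁ → y₁ ⤳ y₂ →
      ∃ x₀ x₁ x₂ : X, x₀ ⤳ x₁ ∧ x₁ ⤳ x₂ ∧ f x₀ = y₀ ∧ f x₁ = y₁ ∧ f x₂ = y₂ := by
    intro y₀ y₁ y₂ h01 h12
    obtain ⟨x, hx, hfx⟩ := Groth.Agent.S19530.result f hf 2 ![y₀, y₁, y₂] (by
      intro i j hij
      fin_cases i <;> fin_cases j <;> simp at hij ⊢ <;>
        first | exact h01 | exact h12 | exact h01.trans h12 | exact specializes_rfl | omega)
    refine ⟨x 0, x 1, x 2, hx 0 1 (by decide), hx 1 2 (by decide), ?_, ?_, ?_⟩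
    · simpa using hfx 0
    · simpa using hfx 1
    · simpa using hfx 2
  have hsurj : ∀ y : Spec A, ∃ x : X, f x = y := by
    intro y
    obtain ⟨x, _, _, _, _, h, _, _⟩ := hchain y y y specializes_rfl specializes_rfl
    exact ⟨x, h⟩
  set E' := f ⁻¹' E with hE'
  have himgE : f '' E' = E := Set.image_preimage_eq_of_subset (fun y _ => hsurj y)
  set D' := closure E' \ E' with hD'
  have hD'closed : IsClosed D' := by
    have := hE.isOpen_coborder
    rw [coborder] at this
    exact isOpen_compl_iff.mp this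
  set D := f '' D' with hD
  -- Claim 0: points of the closure are specializations of points of the constructible closure
  have hcl0 : ∀ z ∈ closure E, ∃ e : Spec A, e ⤳ z ∧
      ∀ K : Set (Spec A), IsConstructible K → e ∈ K → (K ∩ E).Nonempty := by
    intro z hz
    exact exists_specializes_consClosure (R := A) E z hz
  -- Chevalley: points over the constructible closure of `E` are in the closure of `E'`
  have hcons : ∀ (x : X) , (∀ K : Set (Spec A), IsConstructible K → f x ∈ K → (K ∩ E).Nonempty) →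
      x ∈ closure E' := by
    intro x hx
    rw [mem_closure_iff]
    intro N hN hxN
    obtain ⟨_, ⟨V, hV, rfl⟩, hxV, hVN⟩ := X.isBasis_affineOpens.exists_subset_of_mem_open hxN hN
    have hV' : IsAffineOpen V := hV
    haveI : IsAffine ↑V := hV'
    haveI : QuasiCompact (Scheme.Opens.ι V ≫ f) :=
      HasAffineProperty.iff_of_isAffine.mpr (inferInstance : CompactSpace ↑V)
    have h1 : IsConstructible ((Scheme.Opens.ι V ≫ f) '' Set.univ) :=
      Scheme.Hom.isConstructible_image (Scheme.Opens.ι V ≫ f) IsConstructible.univ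
    have h2 : f x ∈ (Scheme.Opens.ι V ≫ f) '' Set.univ := ⟨⟨x, hxV⟩, Set.mem_univ _, rfl⟩
    obtain ⟨_, ⟨v, _, rfl⟩, hvE⟩ := hx _ h1 h2
    exact ⟨Scheme.Opens.ι V v, hVN v.2, hvE⟩
  -- D avoids E
  have hDE : ∀ d ∈ D, d ∉ E := by
    rintro _ ⟨d', hd', rfl⟩ hd
    exact hd'.2 hd
  -- closure E \ E ⊆ D
  have hsub : ∀ z ∈ closure E, z ∉ E → z ∈ D := by
    intro z hz hzE
    obtain ⟨e, hez, he⟩ := hcl0 z hz
    obtain ⟨x₀, x₁, _, h01, _, hf0, hf1, _⟩ := hchain e z z hez specializes_rfl
    have hx0 : x₀ ∈ closure E' := hcons x₀ (by rw [hf0]; exact he)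
    have hx1 : x₁ ∈ closure E' := h01.mem_closed isClosed_closure hx0
    have hx1' : x₁ ∉ E' := by
      intro h
      apply hzE
      have : f x₁ ∈ E := h
      rwa [hf1] at this
    exact ⟨x₁, ⟨hx1, hx1'⟩, hf1⟩
  -- D is closed
  have hDclosed : IsClosed D := by
    have hspec : ∀ z ∈ closure D, ∃ d ∈ D, d ⤳ z := fun z hz =>
      Groth.Agent.S14783.Aux.exists_specializes_of_mem_closure_image f D'
        hD'closed.isLocallyClosed
        (by
          intro U hU hUo
          exact (hU.inter_left hD'closed)) z hz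
    rw [← closure_subset_iff_isClosed]
    intro z hz
    obtain ⟨d, hd, hdz⟩ := hspec z hz
    -- d ∈ closure E
    have hdcl : d ∈ closure E := by
      obtain ⟨d', hd', rfl⟩ := hd
      have : f d' ∈ f '' closure E' := ⟨d', hd'.1, rfl⟩
      have h2 := image_closure_subset_closure_image f.continuous this
      rwa [himgE] at h2
    have hzcl : z ∈ closure E := hdz.mem_closed isClosed_closure hdcl
    by_contra hzD
    have hzE : z ∈ E := by
      by_contra h
      exact hzD (hsub z hzcl h)
    obtain ⟨e, hed, he⟩ := hcl0 d hdcl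
    obtain ⟨x₀, x₁, x₂, h01, h12, hf0, hf1, hf2⟩ := hchain e d z hed hdz
    have hx0 : x₀ ∈ closure E' := hcons x₀ (by rw [hf0]; exact he)
    have hx1 : x₁ ∈ D' := by
      refine ⟨h01.mem_closed isClosed_closure hx0, ?_⟩
      intro h
      have : f x₁ ∈ E := h
      rw [hf1] at this
      exact hDE d hd this
    have hx2 : x₂ ∈ D' := h12.mem_closed hD'closed hx1
    have : f x₂ ∉ E := fun h => hx2.2 h
    rw [hf2] at this
    exact this hzE
  have hEeq : E = closure E ∩ Dᶜ := by
    apply Set.Subset.antisymm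
    · intro e he
      exact ⟨subset_closure he, fun hd => hDE e hd he⟩
    · rintro z ⟨hz, hzD⟩
      by_contra h
      exact hzD (hsub z hz h)
  rw [hEeq]
  exact isClosed_closure.isLocallyClosed.inter hDclosed.isOpen_compl.isLocallyClosed

/-- Main theorem (S14784). -/
theorem main {S' S : Scheme.{u}} (f : S' ⟶ S)
    [LocallyOfFinitePresentation f] [QuasiCompact f]
    (hf : Subtr.UnivSSubtrusive f) (E : Set S) :
    IsLocallyClosed E ↔ IsLocallyClosed (f ⁻¹' E) := by
  constructor
  · intro hE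
    exact hE.preimage f.continuous
  · intro hE
    have key : IsLocallyClosed E ↔ ∀ x ∈ E, ∃ U, x ∈ U ∧ IsOpen U ∧ U ∩ closure E ⊆ E :=
      (isLocallyClosed_tfae E).out 0 3
    rw [key]
    intro x hx
    let 𝒲 := S.affineOpenCover
    obtain ⟨j, x₀, hx₀⟩ := 𝒲.openCover.exists_eq x
    let ι : Spec (𝒲.X j) ⟶ S := 𝒲.f j
    have hfj : Subtr.UnivSSubtrusive (pullback.snd f ι) :=
      MorphismProperty.pullback_snd
        (P := MorphismProperty.universally fun _ _ f => Subtr.IsSSubtrusive f) f ι hf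
    have hpre : (pullback.snd f ι) ⁻¹' (ι ⁻¹' E) = (pullback.fst f ι) ⁻¹' (f ⁻¹' E) := by
      ext w
      have : ι ((pullback.snd f ι) w) = f ((pullback.fst f ι) w) :=
        (congrArg (fun m : pullback f ι ⟶ S => m w) pullback.condition).symm
      show ι ((pullback.snd f ι) w) ∈ E ↔ f ((pullback.fst f ι) w) ∈ E
      rw [this]
    have h1 : IsLocallyClosed ((pullback.snd f ι) ⁻¹' (ι ⁻¹' E)) := by
      rw [hpre]
      exact hE.preimage (pullback.fst f ι).continuous
    have hEj : IsLocallyClosed (ι ⁻¹' E) :=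
      isLocallyClosed_of_preimage_affine (pullback.snd f ι) hfj _ h1
    have key' : IsLocallyClosed (ι ⁻¹' E) ↔
        ∀ x ∈ ι ⁻¹' E, ∃ U, x ∈ U ∧ IsOpen U ∧ U ∩ closure (ι ⁻¹' E) ⊆ ι ⁻¹' E :=
      (isLocallyClosed_tfae (ι ⁻¹' E)).out 0 3
    obtain ⟨U₀, hx₀U, hU₀, hsub⟩ := key'.mp hEj x₀
      (by
        have h0 : ι x₀ = x := hx₀
        show ι x₀ ∈ E
        rw [h0]; exact hx)
    refine ⟨ι '' U₀, ⟨x₀, hx₀U, (hx₀ : ι x₀ = x)⟩, ι.isOpenEmbedding.isOpenMap _ hU₀, ?_⟩
    rintro _ ⟨⟨y₀, hy₀, rfl⟩, hycl⟩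
    have : y₀ ∈ closure (ι ⁻¹' E) :=
      ι.isOpenEmbedding.isOpenMap.preimage_closure_subset_closure_preimage hycl
    exact hsub ⟨hy₀, this⟩

end Groth.Agent.Lib.H9SubtrLocClosed
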