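import Mathlib
import Groth.Prelude.Def_CohB1
import Groth.Agent.Lib.H9RigO

/-! helper9: two morphisms from a proper scheme over an adically complete Noetherian ring which
agree on all infinitesimal thickenings are equal (S5742). -/

set_option autoImplicit false
set_option linter.style.haveILetI false
universe u
open CategoryTheory CategoryTheory.Limits AlgebraicGeometry IsLocalRing

namespace Groth.Agent.Lib.H9ThickEq

variable {A : Type u} [CommRing A] {X Y : Scheme.{u}} (f : X ⟶ Spec (CommRingCat.of A))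

/-- the ring map `A → O_{X,x}` -/
noncomputable def φx (x : X) : CommRingCat.of A ⟶ X.presheaf.stalk x :=
  (Scheme.ΓSpecIso (CommRingCat.of A)).inv ≫ f.appTop ≫ X.presheaf.germ ⊤ x trivial

theorem fromSpecStalk_comp (x : X) : X.fromSpecStalk x ≫ f = Spec.map (φx f x) := by
  have h1 : f = X.toSpecΓ ≫ Spec.map f.appTop ≫
      Spec.map (Scheme.ΓSpecIso (CommRingCat.of A)).inv := by
    rw [← Scheme.toSpecΓ_naturality_assoc, ← SpecMap_ΓSpecIso_hom, ← Spec.map_comp,
      Iso.inv_hom_id, Spec.map_id, Category.comp_id]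
  calc X.fromSpecStalk x ≫ f
      = X.fromSpecStalk x ≫ X.toSpecΓ ≫ Spec.map f.appTop ≫
          Spec.map (Scheme.ΓSpecIso (CommRingCat.of A)).inv := by rw [← h1]
    _ = Spec.map (φx f x) := by
        rw [Scheme.fromSpecStalk_toSpecΓ_assoc, φx, Spec.map_comp, Spec.map_comp, Category.assoc]

theorem φx_mem (x : X) (a : A) (ha : a ∈ (f x).asIdeal) :
    (φx f x).hom a ∈ maximalIdeal (X.presheaf.stalk x) := by
  rw [mem_maximalIdeal, mem_nonunits_iff]
  intro hu
  have h1 : x ∈ X.basicOpen (f.appTop ((Scheme.ΓSpecIso (CommRingCat.of A)).inv a)) := by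
    rw [Scheme.mem_basicOpen_top]
    exact hu
  have h2 : x ∈ f ⁻¹ᵁ ((Spec (CommRingCat.of A)).basicOpen
      ((Scheme.ΓSpecIso (CommRingCat.of A)).inv a)) := by
    rw [Scheme.preimage_basicOpen]
    exact h1
  have h3 : f x ∈ (Spec (CommRingCat.of A)).basicOpen
      ((Scheme.ΓSpecIso (CommRingCat.of A)).inv a) := h2
  rw [basicOpen_eq_of_affine] at h3
  exact h3 ha

variable [IsNoetherianRing A] (I : Ideal A) [IsAdicComplete I A] (h : Y ⟶ Spec (CommRingCat.of A))
  [IsProper f]

set_option maxHeartbeats 1600000 in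
theorem main (φ ψ : X ⟶ Y)
    (e : ∀ n : ℕ, CohB1.thickι f I n ≫ φ = CohB1.thickι f I n ≫ ψ) : φ = ψ := by
  haveI : IsLocallyNoetherian X := LocallyOfFiniteType.isLocallyNoetherian f
  haveI : CompactSpace X := by
    have : QuasiCompact f := inferInstance
    exact HasAffineProperty.iff_of_isAffine (P := @QuasiCompact) |>.mp this
  -- agreement near every closed point
  have hloc : ∀ x : X, IsClosed ({x} : Set X) → ∃ U : X.Opens, x ∈ U ∧ U.ι ≫ φ = U.ι ≫ ψ := by
    intro x hx
    have hfx : IsClosed ({f x} : Set (Spec (CommRingCat.of A))) := by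
      have := f.isClosedMap _ hx
      rwa [Set.image_singleton] at this
    have hmax : (f x).asIdeal.IsMaximal :=
      (PrimeSpectrum.isClosed_singleton_iff_isMaximal _).mp hfx
    have hI : I ≤ (f x).asIdeal :=
      (IsAdicComplete.le_jacobson_bot I).trans (sInf_le ⟨bot_le, hmax⟩)
    -- agreement on all infinitesimal neighbourhoods of x
    have hn : ∀ n : ℕ, Spec.map (CommRingCat.ofHom (Ideal.Quotient.mk
        (maximalIdeal (X.presheaf.stalk x) ^ (n + 1)))) ≫ X.fromSpecStalk x ≫ φ =
        Spec.map (CommRingCat.ofHom (Ideal.Quotient.mk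
        (maximalIdeal (X.presheaf.stalk x) ^ (n + 1)))) ≫ X.fromSpecStalk x ≫ ψ := by
      intro n
      set π := CommRingCat.ofHom (Ideal.Quotient.mk (maximalIdeal (X.presheaf.stalk x) ^ (n + 1)))
        with hπ
      have hle : I ^ (n + 1) ≤ RingHom.ker ((Ideal.Quotient.mk
          (maximalIdeal (X.presheaf.stalk x) ^ (n + 1))).comp (φx f x).hom) := by
        intro a ha
        rw [RingHom.mem_ker, RingHom.comp_apply, Ideal.Quotient.eq_zero_iff_mem]
        have h1 : I.map (φx f x).hom ≤ maximalIdeal (X.presheaf.stalk x) := by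
          rw [Ideal.map_le_iff_le_comap]
          intro b hb
          exact φx_mem f x b (hI hb)
        have h2 : (I ^ (n + 1)).map (φx f x).hom ≤ maximalIdeal (X.presheaf.stalk x) ^ (n + 1) := by
          rw [Ideal.map_pow]
          exact Ideal.pow_right_mono h1 _
        exact h2 (Ideal.mem_map_of_mem _ ha)
      let ρ : A ⧸ I ^ (n + 1) →+* (X.presheaf.stalk x) ⧸ (maximalIdeal (X.presheaf.stalk x) ^ (n + 1)) :=
        Ideal.Quotient.lift _ _ hle
      have hcomm : (Spec.map π ≫ X.fromSpecStalk x) ≫ f =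
          Spec.map (CommRingCat.ofHom ρ) ≫ CohB1.specQuot I n := by
        rw [Category.assoc, fromSpecStalk_comp, CohB1.specQuot, ← Spec.map_comp, ← Spec.map_comp]
        congr 1
      let l : Spec (CommRingCat.of ((X.presheaf.stalk x) ⧸
          (maximalIdeal (X.presheaf.stalk x) ^ (n + 1)))) ⟶ CohB1.thick f I n :=
        pullback.lift (Spec.map π ≫ X.fromSpecStalk x) (Spec.map (CommRingCat.ofHom ρ)) hcomm
      have hl : l ≫ CohB1.thickι f I n = Spec.map π ≫ X.fromSpecStalk x :=
        pullback.lift_fst _ _ _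
      rw [← reassoc_of% hl, ← reassoc_of% hl, e n]
    -- the closed point
    have hcl : (X.fromSpecStalk x ≫ φ) (closedPoint (X.presheaf.stalk x)) =
        (X.fromSpecStalk x ≫ ψ) (closedPoint (X.presheaf.stalk x)) := by
      have h0 := hn 0
      haveI : Nontrivial ((X.presheaf.stalk x) ⧸ (maximalIdeal (X.presheaf.stalk x) ^ (0 + 1))) :=
        Ideal.Quotient.nontrivial_iff.mpr (by
          rw [zero_add, pow_one]
          exact Ideal.IsPrime.ne_top inferInstance)
      obtain ⟨z⟩ : Nonempty (PrimeSpectrum ((X.presheaf.stalk x) ⧸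
        (maximalIdeal (X.presheaf.stalk x) ^ (0 + 1)))) := inferInstance
      have hz : (Spec.map (CommRingCat.ofHom (Ideal.Quotient.mk
          (maximalIdeal (X.presheaf.stalk x) ^ (0 + 1))))) z = closedPoint (X.presheaf.stalk x) := by
        apply PrimeSpectrum.ext
        have hle : maximalIdeal (X.presheaf.stalk x) ≤
            (Ideal.comap (Ideal.Quotient.mk (maximalIdeal (X.presheaf.stalk x) ^ (0 + 1)))
              z.asIdeal) := by
          intro a ha
          rw [Ideal.mem_comap]
          have : (Ideal.Quotient.mk (maximalIdeal (X.presheaf.stalk x) ^ (0 + 1))) a = 0 := by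
            rw [Ideal.Quotient.eq_zero_iff_mem, zero_add, pow_one]
            exact ha
          rw [this]
          exact Ideal.zero_mem _
        exact ((inferInstance : (maximalIdeal (X.presheaf.stalk x)).IsMaximal).eq_of_le
          (Ideal.IsPrime.ne_top (Ideal.comap_isPrime _ _)) hle).symm
      have h1 := congr($(h0) z)
      simp only [Scheme.Hom.comp_apply] at h1 ⊢
      rw [hz] at h1
      exact h1
    apply spread_out_unique_of_isGermInjective' φ ψ
    exact Groth.Agent.Lib.H9RigO.eq_of_forall_quotient_pow (R := X.presheaf.stalk x) _ _ hcl hn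
  -- the agreement locus is everything
  let W : X.Opens := sSup {U : X.Opens | U.ι ≫ φ = U.ι ≫ ψ}
  have hW : (W : Set X) = Set.univ := by
    by_contra hne
    have hne' : ((W : Set X)ᶜ).Nonempty := by
      rw [Set.nonempty_compl]
      exact hne
    obtain ⟨x, hxW, hx⟩ := IsClosed.exists_closed_singleton W.2.isClosed_compl hne'
    obtain ⟨U, hxU, hU⟩ := hloc x hx
    exact hxW (TopologicalSpace.Opens.mem_sSup.mpr ⟨U, hU, hxU⟩)
  have hall : ∀ x : X, ∃ U : X.Opens, x ∈ U ∧ U.ι ≫ φ = U.ι ≫ ψ := by
    intro x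
    have hx : x ∈ (W : Set X) := hW ▸ Set.mem_univ x
    obtain ⟨U, hU, hxU⟩ := TopologicalSpace.Opens.mem_sSup.mp hx
    exact ⟨U, hxU, hU⟩
  choose U hxU hU using hall
  have hcov : TopologicalSpace.IsOpenCover U := by
    refine top_le_iff.mp ?_
    intro x _
    exact TopologicalSpace.Opens.mem_iSup.mpr ⟨x, hxU x⟩
  exact (X.openCoverOfIsOpenCover _ hcov).hom_ext _ _ fun x => hU x

end Groth.Agent.Lib.H9ThickEq
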