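import Mathlib

set_option autoImplicit false
universe u
open Polynomial

namespace Groth.Agent.Lib.H9TrivAct

/-- two roots of a separable polynomial in a ring with only trivial idempotents which agree after a
ring hom to a nontrivial ring are equal. -/
theorem root_eq_of_separable {k R K : Type*} [Field k] [CommRing R] [Algebra k R] [CommRing K]
    [Nontrivial K] (hidem : ∀ e : R, IsIdempotentElem e → e = 0 ∨ e = 1) (s : R →+* K)
    (g : k[X]) (hg : g.Separable) (α β : R) (hα : aeval α g = 0) (hβ : aeval β g = 0)
    (hs : s α = s β) : α = β := by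
  obtain ⟨u, v, huv⟩ := hg
  have h1 : aeval α v * aeval α (derivative g) = 1 := by
    have := congr(aeval α $huv)
    simpa [hα] using this
  set G : R[X] := g.map (algebraMap k R) with hG
  have eα : G.eval α = 0 := by rw [hG, eval_map_algebraMap]; exact hα
  have eβ : G.eval β = 0 := by rw [hG, eval_map_algebraMap]; exact hβ
  have ed : G.derivative.eval α = aeval α (derivative g) := by
    rw [hG, derivative_map, eval_map_algebraMap]
  obtain ⟨c, hc⟩ := G.binomExpansion α (β - α)
  rw [add_sub_cancel, eβ, eα, ed, zero_add] at hc
  set δ := β - α with hδ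
  set w := aeval α v with hw
  set d := aeval α (derivative g) with hd
  -- δ = c' δ²
  have h2 : δ = (-(w * c)) * δ ^ 2 := by
    have : w * (d * δ + c * δ ^ 2) = 0 := by rw [← hc, mul_zero]
    have h3 : δ + w * c * δ ^ 2 = 0 := by
      calc δ + w * c * δ ^ 2 = (w * d) * δ + w * c * δ ^ 2 := by rw [h1, one_mul]
        _ = w * (d * δ + c * δ ^ 2) := by ring
        _ = 0 := this
    linear_combination h3
  set c' := -(w * c) with hc'
  have hidem' : IsIdempotentElem (c' * δ) := by
    change c' * δ * (c' * δ) = c' * δ
    calc c' * δ * (c' * δ) = c' * (c' * δ ^ 2) := by ring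
      _ = c' * δ := by rw [← h2]
  rcases hidem _ hidem' with h0 | h1'
  · have : δ = 0 := by
      calc δ = c' * δ ^ 2 := h2
        _ = (c' * δ) * δ := by ring
        _ = 0 := by rw [h0, zero_mul]
    exact (sub_eq_zero.mp this).symm
  · exfalso
    have hsδ : s δ = 0 := by rw [hδ, map_sub, hs, sub_self]
    have := congr(s $h1')
    rw [map_mul, hsδ, mul_zero, map_one] at this
    exact zero_ne_one this

/-- Two `k`-algebra maps from an algebraic field extension `K/k` to a reduced `k`-algebra `R` with
only trivial idempotents, which agree after composing with a ring hom `s : R → K'`, are equal. -/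
theorem algHom_eq_of_section {k K R K' : Type*} [Field k] [CommRing K] [IsDomain K] [Algebra k K]
    [Algebra.IsAlgebraic k K] [CommRing R] [Algebra k R] [IsReduced R] [CommRing K'] [Nontrivial K']
    (hidem : ∀ e : R, IsIdempotentElem e → e = 0 ∨ e = 1) (φ ψ : K →ₐ[k] R) (s : R →+* K')
    (hs : ∀ x, s (φ x) = s (ψ x)) : φ = ψ := by
  haveI : Nontrivial R := s.domain_nontrivial
  obtain ⟨q, hq⟩ := ExpChar.exists k
  haveI : ExpChar R q := expChar_of_injective_algebraMap (algebraMap k R).injective q
  ext x
  have hx : IsIntegral k x := (Algebra.IsAlgebraic.isAlgebraic x).isIntegral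
  obtain ⟨g, hgsep, n, hgn⟩ := (minpoly.irreducible hx).hasSeparableContraction q
  have hroot : aeval (x ^ q ^ n) g = 0 := by
    have := minpoly.aeval k x
    rwa [← hgn, expand_aeval] at this
  have key : φ (x ^ q ^ n) = ψ (x ^ q ^ n) := by
    refine root_eq_of_separable hidem s g hgsep _ _ ?_ ?_ (hs _)
    · rw [aeval_algHom_apply, hroot, map_zero]
    · rw [aeval_algHom_apply, hroot, map_zero]
  rw [map_pow, map_pow] at key
  have : (φ x - ψ x) ^ q ^ n = 0 := by
    rw [sub_pow_expChar_pow, key, sub_self]
  exact sub_eq_zero.mp (IsReduced.eq_zero _ ⟨_, this⟩)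

/-- a finite type algebra over a field which is a field is algebraic (Zariski's lemma). -/
theorem isAlgebraic_of_isField {k K : Type*} [Field k] [CommRing K] [Algebra k K]
    [Algebra.FiniteType k K] (hK : IsField K) : Algebra.IsAlgebraic k K := by
  letI : Field K := hK.toField
  haveI : Module.Finite k K := finite_of_finite_type_of_isJacobsonRing k K
  exact Algebra.IsAlgebraic.of_finite k K

end Groth.Agent.Lib.H9TrivAct
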