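import Mathlib
import Groth.Prelude.Def_AlgGrp
import Groth.Agent.Lib.Helper7TopDim
import Groth.Agent.Lib.Helper12GeomConn
import Groth.Agent.Lib.Helper12GeomReduced
import Groth.Agent.Lib.H9SteinSm
import Groth.Agent.Lib.H9SteinConn
import Groth.Agent.Lib.H9TrivAct

set_option autoImplicit false
set_option linter.style.haveILetI false
universe u
open CategoryTheory CategoryTheory.Limits MonoidalCategory CartesianMonoidalCategory MonObj GrpObj
  AlgebraicGeometry TopologicalSpace

namespace Groth.Agent.Lib.H9TrivAct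

/-- the ring of global sections of a reduced affine one-point scheme is a field. -/
theorem isField_of_subsingleton (X : Scheme.{u}) [IsAffine X] [IsReduced X] [Subsingleton X]
    [Nonempty X] : IsField Γ(X, ⊤) := by
  haveI : Subsingleton (PrimeSpectrum Γ(X, ⊤)) :=
    (Scheme.homeoOfIso X.isoSpec).symm.injective.subsingleton
  haveI : Nonempty (PrimeSpectrum Γ(X, ⊤)) :=
    ⟨(Scheme.homeoOfIso X.isoSpec) (Classical.arbitrary X)⟩
  haveI : Nontrivial Γ(X, ⊤) := (PrimeSpectrum.nonempty_iff_nontrivial.mp inferInstance)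
  refine ⟨exists_pair_ne _, mul_comm, fun {x} hx => ?_⟩
  suffices h : IsUnit x by
    obtain ⟨u, rfl⟩ := h
    exact ⟨↑u⁻¹, by simp⟩
  by_contra hu
  obtain ⟨M, hM, hxM⟩ := exists_max_ideal_of_mem_nonunits (mem_nonunits_iff.mpr hu)
  have hnil : x ∈ nilradical Γ(X, ⊤) := by
    rw [nilradical_eq_sInf, Ideal.mem_sInf]
    intro p hp
    have : (⟨p, hp⟩ : PrimeSpectrum Γ(X, ⊤)) = ⟨M, hM.isPrime⟩ := Subsingleton.elim _ _
    have hpM : p = M := congrArg PrimeSpectrum.asIdeal this
    rw [hpM]
    exact hxM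
  exact hx (IsReduced.eq_zero _ (mem_nilradical.mp hnil))

section main

variable {k : Type u} [Field k] {G Z : Over (Spec (CommRingCat.of k))} [GrpObj G]

/-- the unit acts trivially, on generalized points -/
theorem lift_one_act (a : AlgGrp.Action G Z) {T : Over (Spec (CommRingCat.of k))} (w : T ⟶ Z) :
    lift (toUnit T ≫ η[G]) w ≫ a.act = w := by
  have h : lift (toUnit T ≫ η[G]) w = lift (toUnit T) w ≫ (η[G] ▷ Z) := by
    apply CartesianMonoidalCategory.hom_ext
    · rw [lift_fst, Category.assoc, whiskerRight_fst, lift_fst_assoc]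
    · rw [lift_snd, Category.assoc, whiskerRight_snd, lift_snd]
  rw [h, Category.assoc, a.one_act, leftUnitor_hom, lift_snd]

variable [Smooth G.hom] [ConnectedSpace ↥G.left]

theorem geometricallyConnected_snd : GeometricallyConnected (snd G Z).left := by
  haveI : GeometricallyConnected G.hom :=
    Groth.Agent.Lib.Helper12.GeomConn.geometricallyConnected_of_section G.hom (η[G]).left
      (by simpa using Over.w η[G])
  change GeometricallyConnected (pullback.snd G.hom Z.hom)
  infer_instance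

theorem act_apply_eq [DiscreteTopology Z.left] (a : AlgGrp.Action G Z) (w : (G ⊗ Z).left) :
    a.act.left w = (snd G Z).left w := by
  haveI := geometricallyConnected_snd (G := G) (Z := Z)
  set z := (snd G Z).left w with hz
  have hconn := (snd G Z).left.isConnected_preimage_singleton z
  have himg := hconn.isPreconnected.image _ a.act.left.continuous.continuousOn
  have hsub := himg.subsingleton
  let σ : Z ⟶ G ⊗ Z := lift (toUnit Z ≫ η[G]) (𝟙 Z)
  have h1 : σ ≫ a.act = 𝟙 Z := lift_one_act a (𝟙 Z)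
  have h2 : σ ≫ snd G Z = 𝟙 Z := lift_snd _ _
  have h1' : a.act.left (σ.left z) = z := by
    have := congr(($h1).left z)
    simpa using this
  have h2' : (snd G Z).left (σ.left z) = z := by
    have := congr(($h2).left z)
    simpa using this
  have hw : a.act.left w ∈ a.act.left '' ((snd G Z).left ⁻¹' {z}) := ⟨w, rfl, rfl⟩
  have hσ : a.act.left (σ.left z) ∈ a.act.left '' ((snd G Z).left ⁻¹' {z}) := ⟨σ.left z, h2', rfl⟩
  rw [hsub hw hσ, h1']

theorem isReduced_tensor [IsReduced Z.left] : IsReduced (G ⊗ Z).left := by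
  haveI : GeometricallyReduced G.hom :=
    Groth.Agent.Lib.H9SteinSm.geometricallyReduced_of_smooth G.hom
  change IsReduced (pullback G.hom Z.hom)
  exact Groth.Agent.Lib.Helper12.GR.isReduced_pullback G.hom Z.hom

/-- the key local statement: over an affine open `V = {z}` of `Z`, the action agrees with the
projection. -/
theorem key [DiscreteTopology Z.left] [IsReduced Z.left] [LocallyOfFiniteType Z.hom]
    (a : AlgGrp.Action G Z) (z : Z.left) (V : Z.left.Opens) (hV : IsAffineOpen V)
    (hVz : (V : Set Z.left) = {z}) :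
    ((snd G Z).left ⁻¹ᵁ V).ι ≫ a.act.left = ((snd G Z).left ⁻¹ᵁ V).ι ≫ (snd G Z).left := by
  haveI := geometricallyConnected_snd (G := G) (Z := Z)
  haveI := isReduced_tensor (G := G) (Z := Z)
  set W : (G ⊗ Z).left.Opens := (snd G Z).left ⁻¹ᵁ V with hW
  have hWset : (W : Set (G ⊗ Z).left) = (snd G Z).left ⁻¹' {z} := by
    rw [hW, Scheme.Hom.coe_preimage, hVz]
  haveI : ConnectedSpace ↥W.toScheme := by
    change ConnectedSpace ↥W
    have := (snd G Z).left.isConnected_preimage_singleton z
    rw [← hWset] at this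
    exact isConnected_iff_connectedSpace.mp this
  haveI : IsAffine V.toScheme := hV
  haveI : Subsingleton ↥V.toScheme := by
    change Subsingleton ↥V
    refine ⟨fun x y => Subtype.ext ?_⟩
    have hx : (x : Z.left) ∈ (V : Set Z.left) := x.2
    have hy : (y : Z.left) ∈ (V : Set Z.left) := y.2
    rw [hVz] at hx hy
    exact hx.trans hy.symm
  haveI : Nonempty ↥V.toScheme := by
    change Nonempty ↥V
    exact ⟨⟨z, by change z ∈ (V : Set Z.left); rw [hVz]; rfl⟩⟩
  have hKfield : IsField Γ(V.toScheme, ⊤) := isField_of_subsingleton V.toScheme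
  -- the three morphisms
  let σ : Z ⟶ G ⊗ Z := lift (toUnit Z ≫ η[G]) (𝟙 Z)
  have h1 : σ ≫ a.act = 𝟙 Z := lift_one_act a (𝟙 Z)
  have h2 : σ ≫ snd G Z = 𝟙 Z := lift_snd _ _
  have hleact : W ≤ a.act.left ⁻¹ᵁ V := by
    intro w hw
    change a.act.left w ∈ V
    rw [act_apply_eq a w]
    exact hw
  have hleσ : V ≤ σ.left ⁻¹ᵁ W := by
    intro x hx
    change (snd G Z).left (σ.left x) ∈ V
    have := congr(($h2).left x)
    have h3 : (snd G Z).left (σ.left x) = x := by simpa using this
    rw [h3]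
    exact hx
  let snd' : W.toScheme ⟶ V.toScheme := (snd G Z).left.resLE V W le_rfl
  let act' : W.toScheme ⟶ V.toScheme := a.act.left.resLE V W hleact
  let σ' : V.toScheme ⟶ W.toScheme := σ.left.resLE W V hleσ
  have hsnd' : snd' ≫ V.ι = W.ι ≫ (snd G Z).left := Scheme.Hom.resLE_comp_ι _ _
  have hact' : act' ≫ V.ι = W.ι ≫ a.act.left := Scheme.Hom.resLE_comp_ι _ _
  have hσ' : σ' ≫ W.ι = V.ι ≫ σ.left := Scheme.Hom.resLE_comp_ι _ _
  have hσsnd : σ' ≫ snd' = 𝟙 _ := by
    rw [← cancel_mono V.ι, Category.assoc, hsnd', reassoc_of% hσ', ← Over.comp_left, h2]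
    simp
  have hσact : σ' ≫ act' = 𝟙 _ := by
    rw [← cancel_mono V.ι, Category.assoc, hact', reassoc_of% hσ', ← Over.comp_left, h1]
    simp
  have hbase : act' ≫ (V.ι ≫ Z.hom) = snd' ≫ (V.ι ≫ Z.hom) := by
    rw [reassoc_of% hact', reassoc_of% hsnd', Over.w, Over.w]
  suffices hmain : snd' = act' by
    rw [← hsnd', ← hact', hmain]
  apply ext_of_isAffine
  let ι₀ : k →+* Γ(V.toScheme, ⊤) :=
    ((V.ι ≫ Z.hom).appTop.hom).comp (Scheme.ΓSpecIso (CommRingCat.of k)).inv.hom
  have hft : ι₀.FiniteType := by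
    refine RingHom.FiniteType.comp ?_ ?_
    · exact (HasRingHomProperty.iff_of_isAffine (P := @LocallyOfFiniteType)).mp
        (inferInstance : LocallyOfFiniteType (V.ι ≫ Z.hom))
    · refine RingHom.FiniteType.of_surjective _ ?_
      exact (ConcreteCategory.bijective_of_isIso
        (Scheme.ΓSpecIso (CommRingCat.of k)).inv).surjective
  letI : Algebra k Γ(V.toScheme, ⊤) := ι₀.toAlgebra
  letI : Algebra k Γ(W.toScheme, ⊤) := (snd'.appTop.hom.comp ι₀).toAlgebra
  haveI : IsDomain Γ(V.toScheme, ⊤) := hKfield.isDomain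
  haveI : Algebra.FiniteType k Γ(V.toScheme, ⊤) := hft
  haveI : Algebra.IsAlgebraic k Γ(V.toScheme, ⊤) := isAlgebraic_of_isField hKfield
  have hidem : ∀ e : Γ(W.toScheme, ⊤), IsIdempotentElem e → e = 0 ∨ e = 1 :=
    ((Groth.Agent.Lib.H9SteinConn.connectedSpace_iff_trivIdem W.toScheme).mp inferInstance).2
  have hcomm : ∀ c : k, act'.appTop.hom (ι₀ c) = snd'.appTop.hom (ι₀ c) := by
    intro c
    have := congr(($hbase).appTop.hom ((Scheme.ΓSpecIso (CommRingCat.of k)).inv.hom c))
    rw [Scheme.Hom.comp_appTop, Scheme.Hom.comp_appTop] at this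
    exact this
  let φA : Γ(V.toScheme, ⊤) →ₐ[k] Γ(W.toScheme, ⊤) :=
    { snd'.appTop.hom with commutes' := fun c => rfl }
  let ψA : Γ(V.toScheme, ⊤) →ₐ[k] Γ(W.toScheme, ⊤) :=
    { act'.appTop.hom with commutes' := fun c => hcomm c }
  have hs : ∀ x, σ'.appTop.hom (φA x) = σ'.appTop.hom (ψA x) := by
    intro x
    have e1 := congr(($hσsnd).appTop.hom x)
    have e2 := congr(($hσact).appTop.hom x)
    rw [Scheme.Hom.comp_appTop] at e1 e2
    exact e1.trans e2.symm
  have hfinal := algHom_eq_of_section hidem φA ψA σ'.appTop.hom hs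
  ext x
  exact congr($hfinal x)

theorem main14633 (k : Type u) [Field k]
    (G Z : Over (Spec (CommRingCat.of k))) [GrpObj G] [Smooth G.hom] [QuasiCompact G.hom]
    [ConnectedSpace ↥G.left]
    [LocallyOfFiniteType Z.hom] [QuasiCompact Z.hom] [IsReduced Z.left]
    (hdim : topologicalKrullDim ↥Z.left ≤ 0)
    (a : AlgGrp.Action G Z) : a.act = CartesianMonoidalCategory.snd G Z := by
  rcases isEmpty_or_nonempty Z.left with hE | hN
  · haveI : IsEmpty (G ⊗ Z).left := Function.isEmpty (snd G Z).left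
    ext1
    exact (isInitialOfIsEmpty).hom_ext _ _
  haveI : IsLocallyNoetherian Z.left := LocallyOfFiniteType.isLocallyNoetherian Z.hom
  haveI : CompactSpace Z.left := QuasiCompact.compactSpace_of_compactSpace Z.hom
  haveI : IsNoetherian Z.left := {}
  obtain ⟨-, hdisc⟩ := (Groth.Agent.Lib.Helper7.TopDim.dim_eq_zero_iff_finite_discrete).mp
    (le_antisymm hdim Groth.Agent.Lib.Helper7.TopDim.topologicalKrullDim_nonneg)
  haveI := hdisc
  have hex : ∀ z : Z.left, ∃ V : Z.left.Opens, IsAffineOpen V ∧ (V : Set Z.left) = {z} := by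
    intro z
    obtain ⟨_, ⟨V, hV, rfl⟩, hzV, hVsub⟩ :=
      Z.left.isBasis_affineOpens.exists_subset_of_mem_open (Set.mem_singleton z)
        (isOpen_discrete {z})
    exact ⟨V, hV, Set.Subset.antisymm hVsub (Set.singleton_subset_iff.mpr hzV)⟩
  choose V hV hVz using hex
  ext1
  let U : Z.left → (G ⊗ Z).left.Opens := fun z => (snd G Z).left ⁻¹ᵁ V z
  have hU : IsOpenCover U := by
    rw [IsOpenCover, eq_top_iff]
    intro w _
    rw [Opens.mem_iSup]
    refine ⟨(snd G Z).left w, ?_⟩
    change (snd G Z).left w ∈ (V ((snd G Z).left w) : Set Z.left)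
    rw [hVz]
    rfl
  refine ((G ⊗ Z).left.openCoverOfIsOpenCover U hU).hom_ext _ _ fun z => ?_
  exact key a z (V z) (hV z) (hVz z)

end main

end Groth.Agent.Lib.H9TrivAct
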