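import Mathlib

/-! Algebra for S18694: for `B` integral over a semilocal `A`, units of `∏_m (A/m ⊗ B)` lift to units of `B` (CRT + unit detection on maximal ideals) (helper9). -/

set_option autoImplicit false
universe u

open TensorProduct

namespace Groth.Agent.Lib.H9WRGm1

variable (A : Type u) [CommRing A] (B : Type u) [CommRing B] [Algebra A B]

/-- the map `B → A/m ⊗ B`. -/
noncomputable abbrev rho (m : Ideal A) : B →+* (A ⧸ m) ⊗[A] B :=
  (Algebra.TensorProduct.includeRight : B →ₐ[A] (A ⧸ m) ⊗[A] B).toRingHom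

lemma rho_surjective (m : Ideal A) : Function.Surjective (rho A B m) := by
  intro x
  induction x using TensorProduct.induction_on with
  | zero => exact ⟨0, map_zero _⟩
  | tmul a b =>
    obtain ⟨a, rfl⟩ := Ideal.Quotient.mk_surjective a
    refine ⟨a • b, ?_⟩
    change (1 : A ⧸ m) ⊗ₜ[A] (a • b) = _
    rw [TensorProduct.tmul_smul, TensorProduct.smul_tmul']
    congr 1
    rw [Algebra.smul_def, mul_one]
    rfl
  | add x y hx hy =>
    obtain ⟨x', rfl⟩ := hx
    obtain ⟨y', rfl⟩ := hy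
    exact ⟨x' + y', map_add _ _ _⟩

lemma rho_algebraMap_of_mem (m : Ideal A) (a : A) (ha : a ∈ m) :
    rho A B m (algebraMap A B a) = 0 := by
  change (1 : A ⧸ m) ⊗ₜ[A] (algebraMap A B a) = 0
  rw [Algebra.algebraMap_eq_smul_one, TensorProduct.tmul_smul, TensorProduct.smul_tmul']
  have : a • (1 : A ⧸ m) = 0 := by
    rw [Algebra.smul_def, mul_one]
    exact Ideal.Quotient.eq_zero_iff_mem.mpr ha
  rw [this, TensorProduct.zero_tmul]

lemma isUnit_of_forall_rho [Algebra.IsIntegral A B] (b : B)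
    (h : ∀ m : MaximalSpectrum A, IsUnit (rho A B m.asIdeal b)) : IsUnit b := by
  by_contra hb
  obtain ⟨M, hM, hbM⟩ := exists_max_ideal_of_mem_nonunits hb
  have hm : (M.comap (algebraMap A B)).IsMaximal :=
    Ideal.isMaximal_comap_of_isIntegral_of_isMaximal M
  let m : MaximalSpectrum A := ⟨M.comap (algebraMap A B), hm⟩
  have hkill : ∀ a ∈ m.asIdeal, (Algebra.ofId A (B ⧸ M)) a = 0 := by
    intro a ha
    change algebraMap A (B ⧸ M) a = 0
    rw [IsScalarTower.algebraMap_apply A B (B ⧸ M)]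
    exact Ideal.Quotient.eq_zero_iff_mem.mpr ha
  let χ : (A ⧸ m.asIdeal) ⊗[A] B →ₐ[A] B ⧸ M :=
    Algebra.TensorProduct.lift (Ideal.Quotient.liftₐ m.asIdeal (Algebra.ofId A (B ⧸ M)) hkill)
      (Ideal.Quotient.mkₐ A M) (fun _ _ => Commute.all _ _)
  have h1 : χ (rho A B m.asIdeal b) = Ideal.Quotient.mk M b := by
    change χ ((1 : A ⧸ m.asIdeal) ⊗ₜ[A] b) = _
    rw [Algebra.TensorProduct.lift_tmul, map_one, one_mul]
    rfl
  have h2 : IsUnit (Ideal.Quotient.mk M b) := h1 ▸ (h m).map χ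
  have h3 : Ideal.Quotient.mk M b = 0 := Ideal.Quotient.eq_zero_iff_mem.mpr hbM
  rw [h3] at h2
  exact not_isUnit_zero h2

theorem exists_unit_lift [Finite (MaximalSpectrum A)] [Algebra.IsIntegral A B]
    (v : ∀ m : MaximalSpectrum A, ((A ⧸ m.asIdeal) ⊗[A] B)ˣ) :
    ∃ b : Bˣ, ∀ m : MaximalSpectrum A, rho A B m.asIdeal (b : B) = (v m : (A ⧸ m.asIdeal) ⊗[A] B) := by
  classical
  haveI : Fintype (MaximalSpectrum A) := Fintype.ofFinite _
  choose x hx using fun m : MaximalSpectrum A => rho_surjective A B m.asIdeal (v m : _)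
  have hcop : Pairwise fun m m' : MaximalSpectrum A =>
      IsCoprime (RingHom.ker (rho A B m.asIdeal)) (RingHom.ker (rho A B m'.asIdeal)) := by
    intro m m' hmm'
    rw [Ideal.isCoprime_iff_exists]
    have hne : m.asIdeal ≠ m'.asIdeal := fun h => hmm' (MaximalSpectrum.ext h)
    have hsup : m.asIdeal ⊔ m'.asIdeal = ⊤ := m.isMaximal.coprime_of_ne m'.isMaximal hne
    obtain ⟨a, ha, a', ha', haa'⟩ := Submodule.mem_sup.mp ((Ideal.eq_top_iff_one _).mp hsup)
    refine ⟨algebraMap A B a, rho_algebraMap_of_mem A B _ a ha, algebraMap A B a',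
      rho_algebraMap_of_mem A B _ a' ha', ?_⟩
    rw [← map_add, haa', map_one]
  obtain ⟨b, hb⟩ := Ideal.exists_forall_sub_mem_ideal hcop x
  have hbv : ∀ m : MaximalSpectrum A, rho A B m.asIdeal b = (v m : (A ⧸ m.asIdeal) ⊗[A] B) := by
    intro m
    have := hb m
    rw [RingHom.mem_ker, map_sub, sub_eq_zero] at this
    rw [this, hx]
  have hbu : IsUnit b := isUnit_of_forall_rho A B b (fun m => by rw [hbv m]; exact (v m).isUnit)
  exact ⟨hbu.unit, fun m => by rw [IsUnit.unit_spec]; exact hbv m⟩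

end Groth.Agent.Lib.H9WRGm1
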