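import Groth.Agent.Lib.H9WRGm1
import Groth.Agent.Lib.Helper27GaGm
import Groth.Prelude.Def_WeilRes

/-! Geometry for S18694: identification of `Γ` of the base changes `Spec A/m ×_A Spec B` and `Spec A ×_A Spec B` with `A/m ⊗ B` and `B`, compatibly with restriction; lifting of units (helper9). -/

set_option autoImplicit false
universe u

open CategoryTheory CategoryTheory.Limits AlgebraicGeometry TensorProduct

namespace Groth.Agent.Lib.H9WRGm2

open Groth.Agent.Lib.H9WRGm1 Groth.Agent.Lib.Helper27.GaGm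

lemma isIso_appTop {X Y : Scheme.{u}} (f : X ⟶ Y) [IsIso f] : IsIso f.appTop := by
  have : IsIso (Scheme.Γ.map f.op) := inferInstance
  exact this

variable (A : Type u) [CommRing A] (B : Type u) [CommRing B] [Algebra A B]

noncomputable abbrev fAB : Spec (CommRingCat.of B) ⟶ Spec (CommRingCat.of A) :=
  Spec.map (CommRingCat.ofHom (algebraMap A B))

noncomputable abbrev T0 : Over (Spec (CommRingCat.of A)) := Over.mk (𝟙 _)

noncomputable abbrev Tm (m : Ideal A) : Over (Spec (CommRingCat.of A)) :=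
  Over.mk (Spec.map (CommRingCat.ofHom (Ideal.Quotient.mk m)))

noncomputable abbrev jm (m : Ideal A) : Tm A m ⟶ T0 A :=
  Over.homMk (Spec.map (CommRingCat.ofHom (Ideal.Quotient.mk m))) (by simp)

/-- the closed immersion `Y_m → Y_0`. -/
noncomputable abbrev im (m : Ideal A) : (Red.bc (fAB A B) (Tm A m)).left ⟶ (Red.bc (fAB A B) (T0 A)).left :=
  ((Over.pullback (fAB A B)).map (jm A m)).left

lemma im_snd (m : Ideal A) :
    im A B m ≫ (Red.bc (fAB A B) (T0 A)).hom = (Red.bc (fAB A B) (Tm A m)).hom :=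
  Over.w ((Over.pullback (fAB A B)).map (jm A m))

instance : IsIso (Red.bc (fAB A B) (T0 A)).hom := by
  change IsIso (pullback.snd (𝟙 _) (fAB A B))
  infer_instance

/-- `B ≅ Γ(Y_0)`. -/
noncomputable def beta0 : B →+* Γ((Red.bc (fAB A B) (T0 A)).left, ⊤) :=
  ((Scheme.ΓSpecIso (CommRingCat.of B)).inv ≫ (Red.bc (fAB A B) (T0 A)).hom.appTop).hom

lemma beta0_bijective : Function.Bijective (beta0 A B) := by
  have h0 : IsIso ((Red.bc (fAB A B) (T0 A)).hom.appTop) := isIso_appTop _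
  have : IsIso ((Scheme.ΓSpecIso (CommRingCat.of B)).inv ≫ (Red.bc (fAB A B) (T0 A)).hom.appTop) := by
    infer_instance
  exact ConcreteCategory.bijective_of_isIso _

/-- `Y_m ≅ Spec (A/m ⊗ B)`. -/
noncomputable def em (m : Ideal A) :
    (Red.bc (fAB A B) (Tm A m)).left ≅ Spec (CommRingCat.of ((A ⧸ m) ⊗[A] B)) :=
  pullbackSpecIso A (A ⧸ m) B

lemma em_hom_snd (m : Ideal A) :
    (em A B m).hom ≫ Spec.map (CommRingCat.ofHom (rho A B m)) = (Red.bc (fAB A B) (Tm A m)).hom :=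
  pullbackSpecIso_hom_snd A (A ⧸ m) B

/-- `A/m ⊗ B ≅ Γ(Y_m)`. -/
noncomputable def betam (m : Ideal A) : (A ⧸ m) ⊗[A] B →+* Γ((Red.bc (fAB A B) (Tm A m)).left, ⊤) :=
  ((Scheme.ΓSpecIso (CommRingCat.of ((A ⧸ m) ⊗[A] B))).inv ≫ (em A B m).hom.appTop).hom

lemma betam_bijective (m : Ideal A) : Function.Bijective (betam A B m) := by
  have h0 : IsIso ((em A B m).hom.appTop) := isIso_appTop _
  have : IsIso ((Scheme.ΓSpecIso (CommRingCat.of ((A ⧸ m) ⊗[A] B))).inv ≫ (em A B m).hom.appTop) := by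
    infer_instance
  exact ConcreteCategory.bijective_of_isIso _

lemma im_beta0 (m : Ideal A) (b : B) :
    (im A B m).appTop (beta0 A B b) = betam A B m (rho A B m b) := by
  have h1 : (Red.bc (fAB A B) (T0 A)).hom.appTop ≫ (im A B m).appTop =
      (Spec.map (CommRingCat.ofHom (rho A B m))).appTop ≫ (em A B m).hom.appTop := by
    rw [← Scheme.Hom.comp_appTop, ← Scheme.Hom.comp_appTop, im_snd, em_hom_snd]
  have h2 : (Scheme.ΓSpecIso (CommRingCat.of B)).inv ≫
      (Spec.map (CommRingCat.ofHom (rho A B m))).appTop =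
      CommRingCat.ofHom (rho A B m) ≫ (Scheme.ΓSpecIso (CommRingCat.of ((A ⧸ m) ⊗[A] B))).inv :=
    (Scheme.ΓSpecIso_inv_naturality (CommRingCat.ofHom (rho A B m))).symm
  have h3 : ((Scheme.ΓSpecIso (CommRingCat.of B)).inv ≫ (Red.bc (fAB A B) (T0 A)).hom.appTop) ≫
      (im A B m).appTop = CommRingCat.ofHom (rho A B m) ≫
      ((Scheme.ΓSpecIso (CommRingCat.of ((A ⧸ m) ⊗[A] B))).inv ≫ (em A B m).hom.appTop) := by
    rw [Category.assoc, h1, ← Category.assoc, h2, Category.assoc]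
  exact congrArg (fun k => k.hom b) h3

theorem exists_unit (hfin : Finite (MaximalSpectrum A)) [Algebra.IsIntegral A B]
    (v : ∀ m : MaximalSpectrum A, Γ((Red.bc (fAB A B) (Tm A m.asIdeal)).left, ⊤)ˣ) :
    ∃ b : Γ((Red.bc (fAB A B) (T0 A)).left, ⊤)ˣ, ∀ m : MaximalSpectrum A,
      (im A B m.asIdeal).appTop (b : Γ((Red.bc (fAB A B) (T0 A)).left, ⊤)) = (v m : _) := by
  let eβ : ∀ m : MaximalSpectrum A, (A ⧸ m.asIdeal) ⊗[A] B ≃+* Γ((Red.bc (fAB A B) (Tm A m.asIdeal)).left, ⊤) :=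
    fun m => RingEquiv.ofBijective (betam A B m.asIdeal) (betam_bijective A B m.asIdeal)
  obtain ⟨b', hb'⟩ := exists_unit_lift A B (fun m => Units.map (eβ m).symm.toRingHom.toMonoidHom (v m))
  refine ⟨Units.map (beta0 A B).toMonoidHom b', fun m => ?_⟩
  change (im A B m.asIdeal).appTop (beta0 A B (b' : B)) = _
  rw [im_beta0, hb' m]
  exact (eβ m).apply_symm_apply _

end Groth.Agent.Lib.H9WRGm2
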