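import Groth.Agent.Lib.H9WRGm2

/-! S18694 main: sections of the Weil restriction `R_{B/A} G_m` over a semilocal ring lift from the closed points (helper9). -/

set_option autoImplicit false
universe u

open CategoryTheory CategoryTheory.Limits AlgebraicGeometry TensorProduct

namespace Groth.Agent.Lib.H9WRGm3

open Groth.Agent.Lib.H9WRGm1 Groth.Agent.Lib.H9WRGm2 Groth.Agent.Lib.Helper27.GaGm

theorem main (A : Type u) [CommRing A] [Finite (MaximalSpectrum A)]
    (B : Type u) [CommRing B] [Algebra A B] [Module.Finite A B]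
    (P : Over (Spec (CommRingCat.of A)))
    (q : Red.bc (Spec.map (CommRingCat.ofHom (algebraMap A B))) P ⟶ Red.Gm (Spec (CommRingCat.of B)))
    (hP : WeilRes.IsWeilRes (Spec.map (CommRingCat.ofHom (algebraMap A B))) (Red.Gm (Spec (CommRingCat.of B))) P q)
    (u : ∀ m : MaximalSpectrum A, Spec (CommRingCat.of (A ⧸ m.asIdeal)) ⟶ P.left)
    (hu : ∀ m : MaximalSpectrum A, u m ≫ P.hom = (Spec.map (CommRingCat.ofHom (Ideal.Quotient.mk m.asIdeal)))) :
    ∃ s : Spec (CommRingCat.of A) ⟶ P.left, s ≫ P.hom = 𝟙 (Spec (CommRingCat.of A)) ∧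
      ∀ m : MaximalSpectrum A, (Spec.map (CommRingCat.ofHom (Ideal.Quotient.mk m.asIdeal))) ≫ s = u m := by
  let g : ∀ m : MaximalSpectrum A, Tm A m.asIdeal ⟶ P := fun m => Over.homMk (u m) (hu m)
  let v : ∀ m : MaximalSpectrum A, Γ((Red.bc (fAB A B) (Tm A m.asIdeal)).left, ⊤)ˣ :=
    fun m => gmUnit (WeilRes.restr (fAB A B) q (Tm A m.asIdeal) (g m))
  obtain ⟨b, hb⟩ := exists_unit A B inferInstance v
  obtain ⟨z, hz⟩ := gmUnit_surjective (S := Spec (CommRingCat.of B)) (X := Red.bc (fAB A B) (T0 A)) b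
  obtain ⟨g0, hg0⟩ := (hP (T0 A)).2 z
  have hw : g0.left ≫ P.hom = 𝟙 _ := Over.w g0
  refine ⟨g0.left, hw, fun m => ?_⟩
  have key : jm A m.asIdeal ≫ g0 = g m := by
    apply (hP (Tm A m.asIdeal)).1
    rw [WeilRes.restr_comp]
    apply gmFn_injective
    rw [gmFn_comp, hg0, ← coe_gmUnit z, hz, hb m, coe_gmUnit]
  exact congrArg (fun k => k.left) key

end Groth.Agent.Lib.H9WRGm3
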