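import Mathlib

set_option autoImplicit false
universe u

namespace Groth.Agent.Lib.H9WeilOrd.WN1
open Polynomial

variable (p : ℕ) [Fact p.Prime]

local notation "L" => PadicAlgCl p

lemma intCast_eq (a : ℤ) : ((a : ℚ_[p]) : L) = (a : L) := map_intCast (algebraMap ℚ_[p] L) a

lemma norm_intCast_le_one (a : ℤ) : ‖(a : L)‖ ≤ 1 := by
  rw [← intCast_eq, PadicAlgCl.norm_extends]
  exact Padic.norm_int_le_one a

lemma norm_intCast_lt_one_iff (a : ℤ) : ‖(a : L)‖ < 1 ↔ (p : ℤ) ∣ a := by
  rw [← intCast_eq, PadicAlgCl.norm_extends]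
  exact Padic.norm_intCast_lt_one_iff

lemma norm_sub_le_max' (x y : L) : ‖x - y‖ ≤ max ‖x‖ ‖y‖ := by
  have := IsUltrametricDist.norm_add_le_max x (-y)
  rwa [norm_neg, ← sub_eq_add_neg] at this

lemma coeff_X_sub_C_mul_zero (a : L) (f : L[X]) : ((X - C a) * f).coeff 0 = -(a * f.coeff 0) := by
  rw [sub_mul, coeff_sub, coeff_X_mul_zero, coeff_C_mul, zero_sub]

lemma coeff_X_sub_C_mul_succ (a : L) (f : L[X]) (k : ℕ) :
    ((X - C a) * f).coeff (k + 1) = f.coeff k - a * f.coeff (k + 1) := by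
  rw [sub_mul, coeff_sub, coeff_X_mul, coeff_C_mul]

/-- coefficients of a product of `X - α` with integral `α` are integral -/
lemma coeff_prod_le_one (T : Multiset L) (hT : ∀ α ∈ T, ‖α‖ ≤ 1) (k : ℕ) :
    ‖((T.map (fun α => X - C α)).prod).coeff k‖ ≤ 1 := by
  induction T using Multiset.induction_on generalizing k with
  | empty =>
    rw [Multiset.map_zero, Multiset.prod_zero, coeff_one]
    split_ifs <;> simp
  | cons a T ih =>
    rw [Multiset.map_cons, Multiset.prod_cons]
    have ha : ‖a‖ ≤ 1 := hT a (Multiset.mem_cons_self a T)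
    have ih' := ih (fun α hα => hT α (Multiset.mem_cons_of_mem hα))
    rcases k with _ | k
    · rw [coeff_X_sub_C_mul_zero, norm_neg, norm_mul]
      exact mul_le_one₀ ha (norm_nonneg _) (ih' 0)
    · rw [coeff_X_sub_C_mul_succ]
      refine (norm_sub_le_max' p _ _).trans (max_le (ih' k) ?_)
      rw [norm_mul]
      exact mul_le_one₀ ha (norm_nonneg _) (ih' (k + 1))

/-- non-leading coefficients of a product of `X - α` with topologically nilpotent `α` -/
lemma coeff_prod_lt_one (T : Multiset L) (hT : ∀ α ∈ T, ‖α‖ < 1) (k : ℕ) (hk : k < Multiset.card T) :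
    ‖((T.map (fun α => X - C α)).prod).coeff k‖ < 1 := by
  induction T using Multiset.induction_on generalizing k with
  | empty => simp at hk
  | cons a T ih =>
    rw [Multiset.map_cons, Multiset.prod_cons]
    have ha : ‖a‖ < 1 := hT a (Multiset.mem_cons_self a T)
    have hT' : ∀ α ∈ T, ‖α‖ < 1 := fun α hα => hT α (Multiset.mem_cons_of_mem hα)
    have hle := coeff_prod_le_one p T (fun α hα => (hT' α hα).le)
    rw [Multiset.card_cons] at hk
    have hmul : ∀ j, ‖a * ((T.map (fun α => X - C α)).prod).coeff j‖ < 1 := by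
      intro j
      rw [norm_mul]
      calc ‖a‖ * ‖((T.map (fun α => X - C α)).prod).coeff j‖ ≤ ‖a‖ * 1 :=
            mul_le_mul_of_nonneg_left (hle j) (norm_nonneg _)
        _ < 1 := by rw [mul_one]; exact ha
    rcases k with _ | k
    · rw [coeff_X_sub_C_mul_zero, norm_neg]
      exact hmul 0
    · rw [coeff_X_sub_C_mul_succ]
      exact (norm_sub_le_max' p _ _).trans_lt (max_lt (ih hT' k (by omega)) (hmul _))

lemma coeff_prod_card (T : Multiset L) :
    ((T.map (fun α => X - C α)).prod).coeff (Multiset.card T) = 1 := by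
  have h1 : ((T.map (fun α => X - C α)).prod).Monic := monic_multiset_prod_of_monic _ _ (fun α _ => monic_X_sub_C α)
  have h2 : ((T.map (fun α => X - C α)).prod).natDegree = Multiset.card T :=
    natDegree_multiset_prod_X_sub_C_eq_card T
  rw [← h2]
  exact h1.coeff_natDegree

lemma coeff_prod_zero_norm (T : Multiset L) (hT : ∀ α ∈ T, ‖α‖ = 1) :
    ‖((T.map (fun α => X - C α)).prod).coeff 0‖ = 1 := by
  induction T using Multiset.induction_on with
  | empty => simp
  | cons a T ih =>
    rw [Multiset.map_cons, Multiset.prod_cons, coeff_X_sub_C_mul_zero, norm_neg, norm_mul,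
      hT a (Multiset.mem_cons_self a T), one_mul]
    exact ih (fun α hα => hT α (Multiset.mem_cons_of_mem hα))

/-- the Newton-polygon statement for a product of linear factors -/
lemma coeff_add_norm (S₁ S₀ : Multiset L) (h1 : ∀ α ∈ S₁, ‖α‖ = 1) (h0 : ∀ α ∈ S₀, ‖α‖ < 1) :
    ‖(((S₁ + S₀).map (fun α => X - C α)).prod).coeff (Multiset.card S₀)‖ = 1 ∧
      ∀ j < Multiset.card S₀, ‖(((S₁ + S₀).map (fun α => X - C α)).prod).coeff j‖ < 1 := by
  set P₁ := (S₁.map (fun α => X - C α)).prod with hP₁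
  set P₀ := (S₀.map (fun α => X - C α)).prod with hP₀
  have hf : ((S₁ + S₀).map (fun α => X - C α)).prod = P₁ * P₀ := by
    rw [Multiset.map_add, Multiset.prod_add]
  rw [hf]
  have c1 : ∀ k, ‖P₁.coeff k‖ ≤ 1 := coeff_prod_le_one p S₁ (fun α hα => (h1 α hα).le)
  have c0 : ∀ k, ‖P₀.coeff k‖ ≤ 1 := coeff_prod_le_one p S₀ (fun α hα => (h0 α hα).le)
  have c0' : ∀ k < Multiset.card S₀, ‖P₀.coeff k‖ < 1 := coeff_prod_lt_one p S₀ h0
  have hterm : ∀ i j, j < Multiset.card S₀ → ‖P₁.coeff i * P₀.coeff j‖ < 1 := by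
    intro i j hj
    rw [norm_mul]
    calc ‖P₁.coeff i‖ * ‖P₀.coeff j‖ ≤ 1 * ‖P₀.coeff j‖ :=
          mul_le_mul_of_nonneg_right (c1 i) (norm_nonneg _)
      _ < 1 := by rw [one_mul]; exact c0' j hj
  constructor
  · rw [coeff_mul]
    have hmem : (0, Multiset.card S₀) ∈ Finset.HasAntidiagonal.antidiagonal (Multiset.card S₀) := by
      rw [Finset.HasAntidiagonal.mem_antidiagonal]; simp
    rw [← Finset.add_sum_erase _ _ hmem]
    have hmain : ‖P₁.coeff 0 * P₀.coeff (Multiset.card S₀)‖ = 1 := by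
      rw [coeff_prod_card, mul_one]
      exact coeff_prod_zero_norm p S₁ h1
    have hrest : ‖∑ x ∈ (Finset.HasAntidiagonal.antidiagonal (Multiset.card S₀)).erase (0, Multiset.card S₀),
        P₁.coeff x.1 * P₀.coeff x.2‖ < 1 := by
      rcases ((Finset.HasAntidiagonal.antidiagonal (Multiset.card S₀)).erase (0, Multiset.card S₀)).eq_empty_or_nonempty
        with he | hne
      · rw [he, Finset.sum_empty, norm_zero]; exact zero_lt_one
      · obtain ⟨x, hx, hle⟩ := IsUltrametricDist.exists_norm_finsetSum_le_of_nonempty hne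
          (fun x => P₁.coeff x.1 * P₀.coeff x.2)
        refine hle.trans_lt (hterm _ _ ?_)
        rw [Finset.mem_erase, Finset.HasAntidiagonal.mem_antidiagonal] at hx
        obtain ⟨hne', hsum⟩ := hx
        have : x.1 ≠ 0 := by
          intro h0'
          apply hne'
          ext
          · exact h0'
          · simp only; omega
        omega
    have hne : ‖P₁.coeff 0 * P₀.coeff (Multiset.card S₀)‖ ≠
        ‖∑ x ∈ (Finset.HasAntidiagonal.antidiagonal (Multiset.card S₀)).erase (0, Multiset.card S₀),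
          P₁.coeff x.1 * P₀.coeff x.2‖ := by
      rw [hmain]; exact hrest.ne'
    rw [IsUltrametricDist.norm_add_eq_max_of_norm_ne_norm hne, hmain]
    exact max_eq_left hrest.le
  · intro j hj
    rw [coeff_mul]
    obtain ⟨x, hx, hle⟩ := IsUltrametricDist.exists_norm_finsetSum_le_of_nonempty
      (⟨(0, j), by rw [Finset.HasAntidiagonal.mem_antidiagonal]; simp⟩ :
        (Finset.HasAntidiagonal.antidiagonal j).Nonempty)
      (fun x => P₁.coeff x.1 * P₀.coeff x.2)
    refine hle.trans_lt (hterm _ _ ?_)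
    rw [Finset.HasAntidiagonal.mem_antidiagonal] at hx
    omega

/-- roots of monic integer polynomials are integral -/
lemma root_norm_le_one (P : ℤ[X]) (hP : P.Monic) (α : L) (hα : aeval α P = 0) : ‖α‖ ≤ 1 := by
  by_contra hgt
  rw [not_le] at hgt
  rw [aeval_eq_sum_range, Finset.sum_range_succ, hP.coeff_natDegree, one_smul] at hα
  have h1 : α ^ P.natDegree = -∑ i ∈ Finset.range P.natDegree, P.coeff i • α ^ i :=
    eq_neg_of_add_eq_zero_right hα
  have h2 : ‖α ^ P.natDegree‖ = ‖α‖ ^ P.natDegree := norm_pow _ _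
  rcases Nat.eq_zero_or_pos P.natDegree with h0 | hpos
  · rw [h0, Finset.range_zero, Finset.sum_empty, neg_zero, pow_zero] at h1
    exact one_ne_zero h1
  · have h3 : ‖∑ i ∈ Finset.range P.natDegree, P.coeff i • α ^ i‖ ≤ ‖α‖ ^ (P.natDegree - 1) := by
      apply IsUltrametricDist.norm_sum_le_of_forall_le_of_nonneg (by positivity)
      intro i hi
      rw [Finset.mem_range] at hi
      rw [zsmul_eq_mul, norm_mul, norm_pow]
      calc ‖(P.coeff i : L)‖ * ‖α‖ ^ i ≤ 1 * ‖α‖ ^ i :=
            mul_le_mul_of_nonneg_right (norm_intCast_le_one p _) (by positivity)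
        _ = ‖α‖ ^ i := one_mul _
        _ ≤ ‖α‖ ^ (P.natDegree - 1) := pow_le_pow_right₀ hgt.le (by omega)
    rw [h1, norm_neg] at h2
    have h4 : ‖α‖ ^ (P.natDegree - 1) < ‖α‖ ^ P.natDegree :=
      pow_lt_pow_right₀ hgt (by omega)
    linarith

open scoped Classical in
/-- the `p`-adic side: the first unit coefficient of a monic integer polynomial sits at
`natDegree - #(unit roots)` -/
theorem stepB (P : ℤ[X]) (hP : P.Monic) :
    Multiset.card ((P.aroots L).filter (fun z => ‖z‖ = 1)) ≤ P.natDegree ∧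
    ‖((P.coeff (P.natDegree - Multiset.card ((P.aroots L).filter (fun z => ‖z‖ = 1)) ) : ℤ) : L)‖ = 1 ∧
    ∀ j < P.natDegree - Multiset.card ((P.aroots L).filter (fun z => ‖z‖ = 1)),
      ‖((P.coeff j : ℤ) : L)‖ < 1 := by
  set Pm := P.map (algebraMap ℤ L) with hPm
  have hmonic : Pm.Monic := hP.map _
  have hsplit : Pm.Splits := IsAlgClosed.splits Pm
  set S := P.aroots L with hS
  have hSroots : S = Pm.roots := rfl
  have hcard : Multiset.card S = P.natDegree := by
    rw [hSroots, ← hsplit.natDegree_eq_card_roots]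
    exact hP.natDegree_map _
  have hprod : Pm = (S.map (fun α => X - C α)).prod := hsplit.eq_prod_roots_of_monic hmonic
  have hle : ∀ α ∈ S, ‖α‖ ≤ 1 := by
    intro α hα
    apply root_norm_le_one p P hP
    exact (mem_aroots.mp hα).2
  set S₁ := S.filter (fun z => ‖z‖ = 1) with hS₁
  set S₀ := S.filter (fun z => ¬ ‖z‖ = 1) with hS₀
  have hadd : S₁ + S₀ = S := Multiset.filter_add_not _ S
  have h1 : ∀ α ∈ S₁, ‖α‖ = 1 := fun α hα => (Multiset.mem_filter.mp hα).2
  have h0 : ∀ α ∈ S₀, ‖α‖ < 1 := fun α hα =>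
    lt_of_le_of_ne (hle α (Multiset.mem_filter.mp hα).1) (Multiset.mem_filter.mp hα).2
  have hcards : Multiset.card S₁ + Multiset.card S₀ = P.natDegree := by
    rw [← Multiset.card_add, hadd, hcard]
  have hm : P.natDegree - Multiset.card S₁ = Multiset.card S₀ := by omega
  have hcoeff : ∀ j, ((P.coeff j : ℤ) : L) = (((S₁ + S₀).map (fun α => X - C α)).prod).coeff j := by
    intro j
    rw [hadd, ← hprod, hPm, coeff_map]
    rfl
  obtain ⟨hW1, hW2⟩ := coeff_add_norm p S₁ S₀ h1 h0
  refine ⟨by omega, ?_, ?_⟩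
  · rw [hm, hcoeff]; exact hW1
  · intro j hj
    rw [hm] at hj
    rw [hcoeff]; exact hW2 j hj

end Groth.Agent.Lib.H9WeilOrd.WN1

namespace Groth.Agent.Lib.H9WeilOrd.WN2
open Polynomial ComplexConjugate

/-- complex side, part 1: conjugation symmetry of the roots -/
lemma roots_conj (P : ℤ[X]) :
    (P.aroots ℂ).map (starRingEnd ℂ) = P.aroots ℂ := by
  set Pc := P.map (algebraMap ℤ ℂ) with hPc
  have hsplit : Pc.Splits := IsAlgClosed.splits Pc
  have h1 : (Pc.map (starRingEnd ℂ)).roots = Pc.roots.map (starRingEnd ℂ) :=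
    hsplit.roots_map_of_injective (starRingEnd ℂ).injective
  have h2 : Pc.map (starRingEnd ℂ) = Pc := by
    rw [hPc, Polynomial.map_map]
    congr 1
    exact Subsingleton.elim _ _
  rw [h2] at h1
  exact h1.symm

/-- complex side, part 2: the degree is even when there are no real roots -/
lemma natDegree_even (P : ℤ[X]) (hP : P.Monic) (hnr : ∀ z ∈ P.aroots ℂ, z.im ≠ 0) :
    ∃ d, P.natDegree = 2 * d := by
  classical
  set Rc := P.aroots ℂ with hRc
  have hcard : Multiset.card Rc = P.natDegree := by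
    have hsplit : (P.map (algebraMap ℤ ℂ)).Splits := IsAlgClosed.splits _
    change Multiset.card (P.map (algebraMap ℤ ℂ)).roots = _
    rw [← hsplit.natDegree_eq_card_roots]
    exact hP.natDegree_map _
  have hconj := roots_conj P
  have hsplit2 : Rc.filter (fun z => 0 < z.im) + Rc.filter (fun z => ¬ 0 < z.im) = Rc :=
    Multiset.filter_add_not _ Rc
  have hneg : Rc.filter (fun z => ¬ 0 < z.im) = Rc.filter (fun z => z.im < 0) := by
    apply Multiset.filter_congr
    intro z hz
    have := hnr z hz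
    constructor
    · intro h; exact lt_of_le_of_ne (not_lt.mp h) this
    · intro h; exact not_lt.mpr h.le
  have hmap : (Rc.filter (fun z => 0 < z.im)).map (starRingEnd ℂ) = Rc.filter (fun z => z.im < 0) := by
    have h := Multiset.filter_map (p := fun z : ℂ => z.im < 0) (starRingEnd ℂ) Rc
    rw [hconj] at h
    rw [h]
    congr 1
    apply Multiset.filter_congr
    intro z _
    simp [Complex.conj_im]
  refine ⟨Multiset.card (Rc.filter (fun z => 0 < z.im)), ?_⟩
  have h3 := congrArg Multiset.card hsplit2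
  rw [Multiset.card_add, hneg, ← hmap, Multiset.card_map, hcard] at h3
  omega

/-- complex side, part 3: the functional equation at nonzero points -/
lemma eval_functional (P : ℤ[X]) (hP : P.Monic) (q : ℝ) (hq : 0 ≤ q)
    (hweil : ∀ z ∈ P.aroots ℂ, ‖z‖ = Real.sqrt q) (w : ℂ) :
    ((P.aroots ℂ).map (fun z => (q : ℂ) - z * w)).prod =
      ((P.coeff 0 : ℤ) : ℂ) * (P.map (algebraMap ℤ ℂ)).eval w := by
  set Pc := P.map (algebraMap ℤ ℂ) with hPc
  have hmonic : Pc.Monic := hP.map _
  have hsplit : Pc.Splits := IsAlgClosed.splits Pc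
  set Rc := P.aroots ℂ with hRc
  have hR : Pc.roots = Rc := rfl
  have hconj : Rc.map (starRingEnd ℂ) = Rc := roots_conj P
  have e0 : ((P.coeff 0 : ℤ) : ℂ) = (Rc.map (fun z => 0 - z)).prod := by
    have := hsplit.eval_eq_prod_roots_of_monic hmonic 0
    rw [hR] at this
    rw [← this, ← coeff_zero_eq_eval_zero, hPc, coeff_map]
    rfl
  have e1 : Pc.eval w = (Rc.map (fun z => w - starRingEnd ℂ z)).prod := by
    have := hsplit.eval_eq_prod_roots_of_monic hmonic w
    rw [hR] at this
    rw [this]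
    conv_lhs => rw [← hconj, Multiset.map_map]
    rfl
  rw [e0, e1, ← Multiset.prod_map_mul]
  congr 1
  apply Multiset.map_congr rfl
  intro z hz
  have hz' : z * starRingEnd ℂ z = (q : ℂ) := by
    rw [Complex.mul_conj, Complex.normSq_eq_norm_sq, hweil z hz, Real.sq_sqrt hq]
  rw [← hz']
  ring

/-- complex side, part 4: the coefficient identity -/
lemma coeff_identity (P : ℤ[X]) (hP : P.Monic) (q : ℕ)
    (hweil : ∀ z ∈ P.aroots ℂ, ‖z‖ = Real.sqrt (q : ℝ)) (j : ℕ) (hj : j ≤ P.natDegree) :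
    P.coeff (P.natDegree - j) * (q : ℤ) ^ (P.natDegree - j) = P.coeff 0 * P.coeff j := by
  set N := P.natDegree with hN
  set Pc := P.map (algebraMap ℤ ℂ) with hPc
  have hmonic : Pc.Monic := hP.map _
  have hsplit : Pc.Splits := IsAlgClosed.splits Pc
  have hNc : Pc.natDegree = N := hP.natDegree_map _
  set Rc := P.aroots ℂ with hRc
  have hR : Pc.roots = Rc := rfl
  have hcard : Multiset.card Rc = N := by
    rw [← hR, ← hsplit.natDegree_eq_card_roots, hNc]
  let Q : ℤ[X] := ∑ k ∈ Finset.range (N + 1), C (P.coeff k * (q : ℤ) ^ k) * X ^ (N - k)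
  have hQ : Q = C (P.coeff 0) * P := by
    apply Polynomial.map_injective (algebraMap ℤ ℂ) Int.cast_injective
    apply Polynomial.eq_of_infinite_eval_eq
    apply Set.Infinite.mono (s := {w : ℂ | w ≠ 0})
    · intro w hw
      have hw' : w ≠ 0 := hw
      change _ = _
      have h1 := eval_functional P hP (q : ℝ) (Nat.cast_nonneg q) hweil w
      have h2 : ((P.aroots ℂ).map (fun z => ((q : ℝ) : ℂ) - z * w)).prod =
          Pc.eval ((q : ℂ) / w) * w ^ N := by
        rw [hsplit.eval_eq_prod_roots_of_monic hmonic, hR, ← hcard, ← Multiset.prod_replicate,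
          ← Multiset.map_const', ← Multiset.prod_map_mul]
        congr 1
        apply Multiset.map_congr rfl
        intro z _
        push_cast
        field_simp
      have hrhs : Pc.eval ((q : ℂ) / w) * w ^ N =
          ∑ k ∈ Finset.range (N + 1), ((P.coeff k : ℤ) : ℂ) * (q : ℂ) ^ k * w ^ (N - k) := by
        rw [eval_eq_sum_range, hNc, Finset.sum_mul]
        apply Finset.sum_congr rfl
        intro k hk
        rw [Finset.mem_range] at hk
        have e : w ^ N = w ^ k * w ^ (N - k) := by rw [← pow_add]; congr 1; omega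
        rw [hPc, coeff_map, e, div_pow]
        simp only [eq_intCast]
        field_simp
      have hlhs : (Q.map (algebraMap ℤ ℂ)).eval w =
          ∑ k ∈ Finset.range (N + 1), ((P.coeff k : ℤ) : ℂ) * (q : ℂ) ^ k * w ^ (N - k) := by
        simp only [Q, Polynomial.map_sum, Polynomial.map_mul, map_C, Polynomial.map_pow, map_X,
          eval_finsetSum, eval_mul, eval_C, eval_pow, eval_X]
        apply Finset.sum_congr rfl
        intro k _
        simp only [eq_intCast, Int.cast_mul, Int.cast_pow, Int.cast_natCast]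
      rw [hlhs, ← hrhs, ← h2, h1, Polynomial.map_mul, map_C, eval_mul, eval_C]
      rfl
    · exact (Set.finite_singleton (0 : ℂ)).infinite_compl
  have h3 := congrArg (fun f => f.coeff j) hQ
  simp only [Q, finsetSum_coeff, coeff_C_mul, coeff_X_pow] at h3
  rw [Finset.sum_eq_single (N - j)] at h3
  · rw [if_pos (by omega), mul_one] at h3
    exact h3
  · intro k hk hne
    rw [Finset.mem_range] at hk
    rw [if_neg (by omega), mul_zero]
  · intro h
    exact absurd (Finset.mem_range.mpr (by omega)) h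

end Groth.Agent.Lib.H9WeilOrd.WN2

namespace Groth.Agent.Lib.H9WeilOrd
open Polynomial

/-- complex side, summary -/
theorem stepA (P : ℤ[X]) (hP : P.Monic) (q : ℕ) (hq : 0 < q)
    (hweil : ∀ z ∈ P.aroots ℂ, ‖z‖ = Real.sqrt (q : ℝ)) (hnr : ∀ z ∈ P.aroots ℂ, z.im ≠ 0) :
    ∃ d, P.natDegree = 2 * d ∧ ∀ j < d, (q : ℤ) ∣ P.coeff j := by
  obtain ⟨d, hd⟩ := WN2.natDegree_even P hP hnr
  refine ⟨d, hd, ?_⟩
  have hq0 : ((q : ℤ) ^ d) ≠ 0 := pow_ne_zero _ (by exact_mod_cast hq.ne')
  have h0 := WN2.coeff_identity P hP q hweil 0 (Nat.zero_le _)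
  rw [Nat.sub_zero, hP.coeff_natDegree, one_mul, hd, two_mul, pow_add] at h0
  have h0' : P.coeff 0 = (q : ℤ) ^ d ∨ P.coeff 0 = -(q : ℤ) ^ d :=
    mul_self_eq_mul_self_iff.mp h0.symm
  intro j hj
  have hjN : j ≤ P.natDegree := by omega
  have h1 := WN2.coeff_identity P hP q hweil j hjN
  have e1 : P.natDegree - j = d + (d - j - 1) + 1 := by omega
  rw [e1, pow_succ, pow_add] at h1
  rcases h0' with h | h
  · rw [h] at h1
    have : (q : ℤ) ^ d * (P.coeff (d + (d - j - 1) + 1) * (q : ℤ) ^ (d - j - 1) * q) =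
        (q : ℤ) ^ d * P.coeff j := by rw [← h1]; ring
    have h2 := mul_left_cancel₀ hq0 this
    exact ⟨P.coeff (d + (d - j - 1) + 1) * (q : ℤ) ^ (d - j - 1), by rw [← h2]; ring⟩
  · rw [h] at h1
    have : (q : ℤ) ^ d * (-(P.coeff (d + (d - j - 1) + 1) * (q : ℤ) ^ (d - j - 1) * q)) =
        (q : ℤ) ^ d * P.coeff j := by linear_combination -h1
    have h2 := mul_left_cancel₀ hq0 this
    exact ⟨-(P.coeff (d + (d - j - 1) + 1) * (q : ℤ) ^ (d - j - 1)), by rw [← h2]; ring⟩

open scoped Classical in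
/-- ordinarity of a single Weil polynomial -/
theorem ordinary_iff (p e : ℕ) [Fact p.Prime] (he : 0 < e) (P : ℤ[X]) (hP : P.Monic)
    (hweil : ∀ z ∈ P.aroots ℂ, ‖z‖ = Real.sqrt ((p : ℝ) ^ e))
    (hnr : ∀ z ∈ P.aroots ℂ, z.im ≠ 0) :
    2 * Multiset.card ((P.aroots (PadicAlgCl p)).filter (fun z => ‖z‖ = 1)) = P.natDegree ↔
      ¬ ((p : ℤ) ∣ P.coeff (P.natDegree / 2)) := by
  have hp : p.Prime := Fact.out
  have hweil' : ∀ z ∈ P.aroots ℂ, ‖z‖ = Real.sqrt ((p ^ e : ℕ) : ℝ) := by
    intro z hz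
    rw [hweil z hz, Nat.cast_pow]
  obtain ⟨d, hd, hdiv⟩ := stepA P hP (p ^ e) (pow_pos hp.pos e) hweil' hnr
  have hdiv' : ∀ j < d, (p : ℤ) ∣ P.coeff j := by
    intro j hj
    refine dvd_trans ?_ (hdiv j hj)
    rw [Nat.cast_pow]
    exact dvd_pow_self _ he.ne'
  obtain ⟨hu, hB1, hB2⟩ := WN1.stepB p P hP
  set u := Multiset.card ((P.aroots (PadicAlgCl p)).filter (fun z => ‖z‖ = 1)) with hu'
  have hhalf : P.natDegree / 2 = d := by omega
  rw [hhalf]
  constructor
  · intro h2u
    have hud : P.natDegree - u = d := by omega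
    rw [hud] at hB1
    intro hdvd
    have := (WN1.norm_intCast_lt_one_iff p _).mpr hdvd
    rw [hB1] at this
    exact lt_irrefl _ this
  · intro hnd
    have h1 : ¬ d < P.natDegree - u := by
      intro hlt
      exact hnd ((WN1.norm_intCast_lt_one_iff p _).mp (hB2 d hlt))
    have h2 : ¬ P.natDegree - u < d := by
      intro hlt
      have := (WN1.norm_intCast_lt_one_iff p _).mpr (hdiv' _ hlt)
      rw [hB1] at this
      exact lt_irrefl _ this
    omega

end Groth.Agent.Lib.H9WeilOrd
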