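import Mathlib
import Groth.Agent.S18436
import Groth.Agent.Lib.H9WeilOrd

set_option autoImplicit false
universe u

namespace Groth.Agent.Lib.H9WeilKer
open MvPolynomial SpinCurv Groth.Agent.S18436 Groth.Agent.S18436.P1 Groth.Agent.S18436.P2
  Groth.Agent.S18436.P3

/-- the two-variable polynomial ring -/
abbrev B := MvPolynomial (Fin 2) ℤ

/-- the relation `FV - q` -/
noncomputable abbrev rho (q : ℤ) : B := X 0 * X 1 - C q

/-- the map to Laurent polynomials -/
noncomputable def psi (q : ℤ) : B →ₐ[ℤ] LaurentPolynomial ℤ :=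
  aeval ![LaurentPolynomial.T 1, LaurentPolynomial.C q * LaurentPolynomial.T (-1)]

lemma psi_X0 (q : ℤ) : psi q (X 0) = LaurentPolynomial.T 1 := by
  rw [psi, aeval_X]; rfl

lemma psi_X1 (q : ℤ) : psi q (X 1) = LaurentPolynomial.C q * LaurentPolynomial.T (-1) := by
  rw [psi, aeval_X]; rfl

lemma psi_rho (q : ℤ) : psi q (rho q) = 0 := by
  rw [rho, map_sub, map_mul, psi_X0, psi_X1, mul_left_comm, ← LaurentPolynomial.T_add]
  simp only [add_neg_cancel, LaurentPolynomial.T_zero, mul_one]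
  rw [sub_eq_zero]
  exact ((psi q).commutes q).symm

/-- the induced map on the node ring -/
noncomputable def gU (q : ℤ) : PolyNodeRing ℤ q →ₐ[ℤ] LaurentPolynomial ℤ :=
  Ideal.Quotient.liftₐ _ (psi q) (fun a ha => by
    obtain ⟨c, rfl⟩ := Ideal.mem_span_singleton'.mp ha
    rw [map_mul, psi_rho, mul_zero])

lemma gU_mk (q : ℤ) (a : B) : gU q (Ideal.Quotient.mk _ a) = psi q a := rfl

lemma gU_injective (q : ℤ) (hq : q ≠ 0) : Function.Injective (gU q) := by
  rw [injective_iff_map_eq_zero]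
  intro z hz
  obtain ⟨c, rfl⟩ := (Miso ℤ q).surjective z
  have key : ∀ c : ℤ →₀ ℤ, cE ℤ (gU q (Miso ℤ q c)) = D (fun m : ℤ => q ^ (-m).toNat) c := by
    intro c
    induction c using Finsupp.induction_linear with
    | zero => simp
    | add c d hc hd => simp only [map_add, hc, hd]
    | single m r =>
      rw [gU_Miso ℤ q (gU q) (psi_X0 q) (psi_X1 q), D_single]
  have h1 := key c
  rw [hz, map_zero] at h1
  have : c = 0 := by
    ext m
    have := DFunLike.congr_fun h1 m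
    rw [D_apply, Finsupp.zero_apply] at this
    rcases mul_eq_zero.mp this.symm with h | h
    · exact absurd h (pow_ne_zero _ hq)
    · exact h
  rw [this, map_zero]

lemma ker_psi (q : ℤ) (hq : q ≠ 0) : RingHom.ker (psi q).toRingHom = Ideal.span {rho q} := by
  ext a
  rw [RingHom.mem_ker]
  constructor
  · intro ha
    have h1 : gU q (Ideal.Quotient.mk _ a) = 0 := ha
    have h2 := (injective_iff_map_eq_zero (gU q)).mp (gU_injective q hq) _ h1
    exact Ideal.Quotient.eq_zero_iff_mem.mp h2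
  · intro ha
    obtain ⟨c, rfl⟩ := Ideal.mem_span_singleton'.mp ha
    change psi q (c * rho q) = 0
    rw [map_mul, psi_rho, mul_zero]

lemma mem_rho_iff (q : ℤ) (hq : q ≠ 0) (a : B) : a ∈ Ideal.span {rho q} ↔ psi q a = 0 := by
  rw [← ker_psi q hq]; rfl

/-- `F` is a nonzerodivisor modulo `FV - q` -/
lemma X0_cancel (q : ℤ) (hq : q ≠ 0) (a : B) (h : X 0 * a ∈ Ideal.span {rho q}) :
    a ∈ Ideal.span {rho q} := by
  rw [mem_rho_iff q hq] at h ⊢
  rw [map_mul, psi_X0] at h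
  rcases mul_eq_zero.mp h with h | h
  · exact absurd h (by
      intro h0
      have := congrArg (fun f => f * LaurentPolynomial.T (-1)) h0
      simp only [← LaurentPolynomial.T_add, zero_mul] at this
      norm_num at this)
  · exact h

lemma X0_pow_cancel (q : ℤ) (hq : q ≠ 0) (k : ℕ) (a : B)
    (h : X 0 ^ k * a ∈ Ideal.span {rho q}) : a ∈ Ideal.span {rho q} := by
  induction k with
  | zero => simpa using h
  | succ k ih =>
    apply ih
    apply X0_cancel q hq
    rw [← mul_assoc, ← pow_succ']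
    exact h

/-- the ideal `(FV - q)` is prime -/
lemma rho_prime (q : ℤ) (hq : q ≠ 0) (a b : B) (h : a * b ∈ Ideal.span {rho q}) :
    a ∈ Ideal.span {rho q} ∨ b ∈ Ideal.span {rho q} := by
  rw [mem_rho_iff q hq] at h ⊢
  rw [mem_rho_iff q hq]
  rw [map_mul] at h
  exact mul_eq_zero.mp h

open Polynomial in
/-- coefficient symmetry of a Weil polynomial of even degree -/
lemma weil_symm (Pw : ℤ[X]) (hmonic : Pw.Monic) (q : ℕ) (hq : 0 < q) (D : ℕ)
    (hdeg : Pw.natDegree = 2 * D)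
    (hweil : ∀ z ∈ Pw.aroots ℂ, ‖z‖ = Real.sqrt (q : ℝ)) :
    ∃ ε : ℤ, ε * ε = 1 ∧ ∀ j ≤ D, Pw.coeff j = ε * (q : ℤ) ^ (D - j) * Pw.coeff (2 * D - j) := by
  have hq0 : ((q : ℤ) ^ D) ≠ 0 := pow_ne_zero _ (by exact_mod_cast hq.ne')
  have h0 := Groth.Agent.Lib.H9WeilOrd.WN2.coeff_identity Pw hmonic q hweil 0 (Nat.zero_le _)
  rw [Nat.sub_zero, hmonic.coeff_natDegree, one_mul, hdeg, two_mul, pow_add] at h0
  have h0' : Pw.coeff 0 = (q : ℤ) ^ D ∨ Pw.coeff 0 = -(q : ℤ) ^ D :=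
    mul_self_eq_mul_self_iff.mp h0.symm
  have main : ∀ ε : ℤ, ε * ε = 1 → Pw.coeff 0 = ε * (q : ℤ) ^ D →
      ∀ j ≤ D, Pw.coeff j = ε * (q : ℤ) ^ (D - j) * Pw.coeff (2 * D - j) := by
    intro ε hε hc0 j hj
    have h1 := Groth.Agent.Lib.H9WeilOrd.WN2.coeff_identity Pw hmonic q hweil j (by omega)
    rw [hdeg, hc0] at h1
    have e1 : 2 * D - j = D + (D - j) := by omega
    rw [e1, pow_add] at h1
    have : (q : ℤ) ^ D * (ε * (q : ℤ) ^ (D - j) * Pw.coeff (D + (D - j))) =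
        (q : ℤ) ^ D * Pw.coeff j := by
      have : (q : ℤ) ^ D * Pw.coeff j = ε * (ε * (q : ℤ) ^ D * Pw.coeff j) := by
        rw [← mul_assoc, ← mul_assoc, hε, one_mul]
      rw [this, ← h1]; ring
    rw [e1]
    exact (mul_left_cancel₀ hq0 this).symm
  rcases h0' with h | h
  · exact ⟨1, by norm_num, main 1 (by norm_num) (by rw [h, one_mul])⟩
  · exact ⟨-1, by norm_num, main (-1) (by norm_num) (by rw [h]; ring)⟩

/-- the symmetric form of `F^{-D} P(F)` -/
lemma sym_identity {S : Type*} [CommRing S] (x y : S) (q : ℤ) (hxy : x * y = (q : S))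
    (c : ℕ → ℤ) (ε : ℤ) (D : ℕ)
    (hc : ∀ j ≤ D, c j = ε * q ^ (D - j) * c (2 * D - j)) :
    x ^ D * (∑ j ∈ Finset.range (D + 1), (c (D + j) : S) * x ^ j +
        (ε : S) * ∑ i ∈ Finset.range D, (c (D + 1 + i) : S) * y ^ (i + 1)) =
      ∑ k ∈ Finset.range (2 * D + 1), (c k : S) * x ^ k := by
  have hR : ∑ k ∈ Finset.range (2 * D + 1), (c k : S) * x ^ k =
      ∑ k ∈ Finset.range D, (c k : S) * x ^ k +
        ∑ j ∈ Finset.range (D + 1), (c (D + j) : S) * x ^ (D + j) := by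
    have e0 : 2 * D + 1 = D + (D + 1) := by ring
    rw [e0, Finset.sum_range_add]
  have hL1 : x ^ D * ∑ j ∈ Finset.range (D + 1), (c (D + j) : S) * x ^ j =
      ∑ j ∈ Finset.range (D + 1), (c (D + j) : S) * x ^ (D + j) := by
    rw [Finset.mul_sum]
    apply Finset.sum_congr rfl
    intro j _
    rw [pow_add]; ring
  have hL2 : x ^ D * ((ε : S) * ∑ i ∈ Finset.range D, (c (D + 1 + i) : S) * y ^ (i + 1)) =
      ∑ k ∈ Finset.range D, (c k : S) * x ^ k := by
    rw [← Finset.sum_range_reflect (fun k => (c k : S) * x ^ k), Finset.mul_sum, Finset.mul_sum]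
    apply Finset.sum_congr rfl
    intro i hi
    rw [Finset.mem_range] at hi
    have h1 := hc (D - 1 - i) (by omega)
    have e1 : D - (D - 1 - i) = i + 1 := by omega
    have e2 : 2 * D - (D - 1 - i) = D + 1 + i := by omega
    rw [e1, e2] at h1
    have e3 : x ^ D = x ^ (D - 1 - i) * x ^ (i + 1) := by rw [← pow_add]; congr 1; omega
    rw [h1, e3]
    push_cast
    have : x ^ (i + 1) * y ^ (i + 1) = (q : S) ^ (i + 1) := by rw [← mul_pow, hxy]
    calc x ^ (D - 1 - i) * x ^ (i + 1) * ((ε : S) * ((c (D + 1 + i) : S) * y ^ (i + 1)))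
        = (ε : S) * (c (D + 1 + i) : S) * x ^ (D - 1 - i) * (x ^ (i + 1) * y ^ (i + 1)) := by ring
      _ = _ := by rw [this]; ring
  rw [mul_add, hL1, hL2, hR, add_comm]

/-- the symmetric representative of `F^{-D} P(F)` -/
noncomputable def h0 (c : ℕ → ℤ) (ε : ℤ) (D : ℕ) : B :=
  ∑ j ∈ Finset.range (D + 1), C (c (D + j)) * X 0 ^ j +
    C ε * ∑ i ∈ Finset.range D, C (c (D + 1 + i)) * X 1 ^ (i + 1)

lemma h0_spec (q : ℤ) (Pw : Polynomial ℤ) (D : ℕ) (hdeg : Pw.natDegree = 2 * D) (ε : ℤ)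
    (hc : ∀ j ≤ D, Pw.coeff j = ε * q ^ (D - j) * Pw.coeff (2 * D - j)) :
    X 0 ^ D * h0 Pw.coeff ε D - Polynomial.aeval (X 0 : B) Pw ∈ Ideal.span {rho q} := by
  apply Ideal.Quotient.eq_zero_iff_mem.mp
  set mk := Ideal.Quotient.mk (Ideal.span {rho q}) with hmk
  have hxy : mk (X 0) * mk (X 1) = ((q : ℤ) : B ⧸ Ideal.span {rho q}) := by
    have h0 : mk (rho q) = 0 := Ideal.Quotient.eq_zero_iff_mem.mpr (Ideal.subset_span rfl)
    have h1 : mk (X 0 * X 1) = mk (C q) := sub_eq_zero.mp ((map_sub mk _ _).symm.trans h0)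
    rw [← map_mul, h1, ← map_intCast mk q]
    congr 1
  have hC : ∀ a : ℤ, mk (C a) = ((a : ℤ) : B ⧸ Ideal.span {rho q}) := by
    intro a
    rw [← map_intCast mk a]
    congr 1
  rw [map_sub, sub_eq_zero, map_mul, map_pow]
  have e1 : mk (h0 Pw.coeff ε D) =
      ∑ j ∈ Finset.range (D + 1), ((Pw.coeff (D + j) : ℤ) : B ⧸ Ideal.span {rho q}) * mk (X 0) ^ j +
        ((ε : ℤ) : B ⧸ Ideal.span {rho q}) *
          ∑ i ∈ Finset.range D, ((Pw.coeff (D + 1 + i) : ℤ) : B ⧸ Ideal.span {rho q}) * mk (X 1) ^ (i + 1) := by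
    simp only [h0, map_add, map_sum, map_mul, map_pow, hC]
  have e2 : mk (Polynomial.aeval (X 0 : B) Pw) =
      ∑ k ∈ Finset.range (2 * D + 1), ((Pw.coeff k : ℤ) : B ⧸ Ideal.span {rho q}) * mk (X 0) ^ k := by
    rw [Polynomial.aeval_eq_sum_range, hdeg, map_sum]
    apply Finset.sum_congr rfl
    intro k _
    rw [zsmul_eq_mul, map_mul, map_pow, map_intCast]
  rw [e1, e2]
  exact sym_identity (mk (X 0)) (mk (X 1)) q hxy Pw.coeff ε D hc



/-- evaluation at `F = 0` -/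
noncomputable def ev0 : B →ₐ[ℤ] Polynomial ℤ := aeval ![0, Polynomial.X]

lemma ev0_X0 : ev0 (X 0) = 0 := by rw [ev0, aeval_X]; rfl
lemma ev0_X1 : ev0 (X 1) = Polynomial.X := by rw [ev0, aeval_X]; rfl
lemma ev0_C (a : ℤ) : ev0 (C a) = Polynomial.C a := by
  rw [ev0, aeval_C]; rfl

/-- the inclusion `ℤ[V] → ℤ[F,V]` -/
noncomputable def incl : Polynomial ℤ →ₐ[ℤ] B := Polynomial.aeval (X 1)

lemma sub_incl_ev0 (b : B) : ∃ b₂ : B, b = incl (ev0 b) + X 0 * b₂ := by
  have key : (Ideal.Quotient.mkₐ ℤ (Ideal.span {(X 0 : B)})) =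
      ((Ideal.Quotient.mkₐ ℤ (Ideal.span {(X 0 : B)})).comp incl).comp ev0 := by
    apply MvPolynomial.algHom_ext
    intro i
    fin_cases i
    · change Ideal.Quotient.mk _ (X 0) = Ideal.Quotient.mk _ (incl (ev0 (X 0)))
      rw [ev0_X0, map_zero, map_zero]
      exact Ideal.Quotient.eq_zero_iff_mem.mpr (Ideal.subset_span rfl)
    · change Ideal.Quotient.mk _ (X 1) = Ideal.Quotient.mk _ (incl (ev0 (X 1)))
      rw [ev0_X1, incl, Polynomial.aeval_X]
  have h1 := DFunLike.congr_fun key b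
  have h2 : Ideal.Quotient.mk (Ideal.span {(X 0 : B)}) b =
      Ideal.Quotient.mk _ (incl (ev0 b)) := h1
  rw [Ideal.Quotient.eq, Ideal.mem_span_singleton'] at h2
  obtain ⟨b₂, hb₂⟩ := h2
  exact ⟨b₂, by rw [mul_comm, hb₂]; ring⟩

lemma ev0_h0 (c : ℕ → ℤ) (ε : ℤ) (D : ℕ) :
    ev0 (h0 c ε D) = Polynomial.C (c D) +
      Polynomial.C ε * ∑ i ∈ Finset.range D, Polynomial.C (c (D + 1 + i)) * Polynomial.X ^ (i + 1) := by
  rw [h0, map_add, map_sum, Finset.sum_range_succ']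
  have h1 : ∀ j ∈ Finset.range D, ev0 (C (c (D + (j + 1))) * X 0 ^ (j + 1)) = 0 := by
    intro j _
    rw [map_mul, map_pow, ev0_X0, zero_pow (Nat.succ_ne_zero j), mul_zero]
  rw [Finset.sum_eq_zero h1, zero_add, map_mul, map_pow, pow_zero, mul_one, ev0_C, add_zero,
    map_mul, ev0_C, map_sum]
  congr 2
  apply Finset.sum_congr rfl
  intro i _
  rw [map_mul, map_pow, ev0_X1, ev0_C]

lemma ev0_h0_coeff (c : ℕ → ℤ) (ε : ℤ) (D : ℕ) (hε : ε * ε = 1) (hc : c (2 * D) = 1) :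
    IsUnit ((ev0 (h0 c ε D)).coeff D) := by
  rw [ev0_h0]
  rcases Nat.eq_zero_or_pos D with hD | hD
  · subst hD
    simp only [Finset.range_zero, Finset.sum_empty, mul_zero, add_zero, Polynomial.coeff_C_zero]
    rw [Nat.mul_zero] at hc
    rw [hc]; exact isUnit_one
  · obtain ⟨D', rfl⟩ : ∃ D', D = D' + 1 := ⟨D - 1, by omega⟩
    rw [Finset.sum_range_succ, mul_add, Polynomial.coeff_add, Polynomial.coeff_add,
      Polynomial.coeff_C_succ, zero_add, Polynomial.coeff_C_mul, Polynomial.coeff_C_mul,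
      Polynomial.coeff_C_mul, Polynomial.coeff_X_pow, if_pos rfl, mul_one,
      Polynomial.finsetSum_coeff]
    have h1 : ∀ i ∈ Finset.range D',
        (Polynomial.C (c (D' + 1 + 1 + i)) * (Polynomial.X : Polynomial ℤ) ^ (i + 1)).coeff (D' + 1) = 0 := by
      intro i hi
      rw [Finset.mem_range] at hi
      rw [Polynomial.coeff_C_mul, Polynomial.coeff_X_pow, if_neg (by omega), mul_zero]
    rw [Finset.sum_eq_zero h1, mul_zero, zero_add]
    have e : D' + 1 + 1 + D' = 2 * (D' + 1) := by ring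
    rw [e, hc, mul_one]
    exact IsUnit.of_mul_eq_one _ hε

lemma ev0_h0_primitive (c : ℕ → ℤ) (ε : ℤ) (D : ℕ) (hε : ε * ε = 1) (hc : c (2 * D) = 1) :
    (ev0 (h0 c ε D)).IsPrimitive := by
  rw [Polynomial.isPrimitive_iff_isUnit_of_C_dvd]
  intro r hr
  rw [Polynomial.C_dvd_iff_dvd_coeff] at hr
  exact isUnit_of_dvd_unit (hr D) (ev0_h0_coeff c ε D hε hc)

lemma ev0_rho (q : ℤ) : ev0 (rho q) = - Polynomial.C q := by
  rw [rho, map_sub, map_mul, ev0_X0, zero_mul, zero_sub, ev0_C]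

lemma incl_C (a : ℤ) : incl (Polynomial.C a) = C a := by
  rw [incl, Polynomial.aeval_C]; rfl

/-- `F` is a nonzerodivisor modulo `(FV - q, h0)` -/
lemma R3_h0 (q : ℤ) (hq : q ≠ 0) (c : ℕ → ℤ) (ε : ℤ) (D : ℕ) (hε : ε * ε = 1)
    (hc : c (2 * D) = 1) (a : B)
    (ha : X 0 * a ∈ Ideal.span {rho q, h0 c ε D}) : a ∈ Ideal.span {rho q, h0 c ε D} := by
  rw [Ideal.mem_span_pair] at ha
  obtain ⟨u, b, hub⟩ := ha
  have h1 := congrArg ev0 hub
  rw [map_add, map_mul, map_mul, map_mul, ev0_X0, zero_mul, ev0_rho] at h1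
  have h2 : Polynomial.C q ∣ ev0 b * ev0 (h0 c ε D) := by
    refine ⟨ev0 u, ?_⟩
    linear_combination h1
  rw [← Polynomial.dvd_content_iff_C_dvd, Polynomial.content_mul,
    (ev0_h0_primitive c ε D hε hc).content_eq_one, mul_one,
    Polynomial.dvd_content_iff_C_dvd] at h2
  obtain ⟨b₁, hb₁⟩ := h2
  obtain ⟨b₂, hb₂⟩ := sub_incl_ev0 b
  rw [hb₁, map_mul, incl_C] at hb₂
  -- b = C q * incl b₁ + X 0 * b₂
  have h3 : X 0 * (a - (X 1 * incl b₁ + b₂) * h0 c ε D) =
      (u - incl b₁ * h0 c ε D) * rho q := by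
    have : X 0 * a = u * rho q + b * h0 c ε D := hub.symm
    rw [mul_sub, this, hb₂, rho]
    ring
  have h4 : a - (X 1 * incl b₁ + b₂) * h0 c ε D ∈ Ideal.span {rho q} := by
    apply X0_cancel q hq
    rw [h3]
    exact Ideal.mul_mem_left _ _ (Ideal.subset_span rfl)
  obtain ⟨w, hw⟩ := Ideal.mem_span_singleton'.mp h4
  rw [Ideal.mem_span_pair]
  exact ⟨w, X 1 * incl b₁ + b₂, by rw [hw]; ring⟩

lemma span_pair_congr (r h h' : B) (hh : h - h' ∈ Ideal.span {r}) :
    Ideal.span {r, h} = Ideal.span {r, h'} := by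
  obtain ⟨w, hw⟩ := Ideal.mem_span_singleton'.mp hh
  apply le_antisymm
  · rw [Ideal.span_le]
    intro x hx
    rcases hx with rfl | rfl
    · exact Ideal.subset_span (by simp)
    · rw [SetLike.mem_coe, Ideal.mem_span_pair]
      exact ⟨w, 1, by rw [hw]; ring⟩
  · rw [Ideal.span_le]
    intro x hx
    rcases hx with rfl | rfl
    · exact Ideal.subset_span (by simp)
    · rw [SetLike.mem_coe, Ideal.mem_span_pair]
      exact ⟨-w, 1, by rw [neg_mul, hw]; ring⟩



lemma psi_aeval_X0 (q : ℤ) (G : Polynomial ℤ) :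
    psi q (Polynomial.aeval (X 0 : B) G) = Polynomial.toLaurent G := by
  have key : (psi q).comp (Polynomial.aeval (X 0 : B)) = Polynomial.toLaurentAlg := by
    apply Polynomial.algHom_ext
    rw [AlgHom.comp_apply, Polynomial.aeval_X, psi_X0, Polynomial.toLaurentAlg_apply,
      Polynomial.toLaurent_X]
  have := DFunLike.congr_fun key G
  rwa [AlgHom.comp_apply, Polynomial.toLaurentAlg_apply] at this

/-- clearing the `V`-denominators -/
lemma exists_clear (q : ℤ) (hq : q ≠ 0) (g : B) :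
    ∃ (n : ℕ) (G : Polynomial ℤ), X 0 ^ n * g - Polynomial.aeval (X 0 : B) G ∈
      Ideal.span {rho q} := by
  obtain ⟨n, G, hG⟩ := LaurentPolynomial.exists_T_pow (psi q g)
  refine ⟨n, G, ?_⟩
  rw [mem_rho_iff q hq, map_sub, map_mul, map_pow, psi_X0, psi_aeval_X0, hG,
    LaurentPolynomial.T_pow, mul_one, mul_comm, sub_self]

/-- R3 for general `h` -/
lemma R3 (q : ℤ) (hq : q ≠ 0) (Pw : Polynomial ℤ) (hmonic : Pw.Monic) (D : ℕ)
    (hdeg : Pw.natDegree = 2 * D) (ε : ℤ) (hε : ε * ε = 1)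
    (hc : ∀ j ≤ D, Pw.coeff j = ε * q ^ (D - j) * Pw.coeff (2 * D - j))
    (h : B) (hh : X 0 ^ D * h - Polynomial.aeval (X 0 : B) Pw ∈ Ideal.span {rho q})
    (a : B) (ha : X 0 * a ∈ Ideal.span {rho q, h}) : a ∈ Ideal.span {rho q, h} := by
  have h1 : h - h0 Pw.coeff ε D ∈ Ideal.span {rho q} := by
    apply X0_pow_cancel q hq D
    have := Ideal.sub_mem _ hh (h0_spec q Pw D hdeg ε hc)
    convert this using 1; ring
  have h2 := span_pair_congr (rho q) h _ h1
  rw [h2] at ha ⊢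
  exact R3_h0 q hq Pw.coeff ε D hε (by rw [← hdeg]; exact hmonic.coeff_natDegree) a ha

lemma R3_pow (q : ℤ) (hq : q ≠ 0) (Pw : Polynomial ℤ) (hmonic : Pw.Monic) (D : ℕ)
    (hdeg : Pw.natDegree = 2 * D) (ε : ℤ) (hε : ε * ε = 1)
    (hc : ∀ j ≤ D, Pw.coeff j = ε * q ^ (D - j) * Pw.coeff (2 * D - j))
    (h : B) (hh : X 0 ^ D * h - Polynomial.aeval (X 0 : B) Pw ∈ Ideal.span {rho q})
    (k : ℕ) (a : B) (ha : X 0 ^ k * a ∈ Ideal.span {rho q, h}) : a ∈ Ideal.span {rho q, h} := by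
  induction k with
  | zero => simpa using ha
  | succ k ih =>
    apply ih
    apply R3 q hq Pw hmonic D hdeg ε hε hc h hh
    rw [← mul_assoc, ← pow_succ']
    exact ha

/-- the regular sequence -/
lemma regular (q : ℤ) (hq : q ≠ 0) (Pw : Polynomial ℤ) (hmonic : Pw.Monic) (D : ℕ)
    (h : B) (hh : X 0 ^ D * h - Polynomial.aeval (X 0 : B) Pw ∈ Ideal.span {rho q}) :
    RingTheory.Sequence.IsWeaklyRegular B [rho q, h] := by
  rw [RingTheory.Sequence.isWeaklyRegular_cons_iff, RingTheory.Sequence.isWeaklyRegular_cons_iff]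
  refine ⟨?_, ?_, RingTheory.Sequence.IsWeaklyRegular.nil _ _⟩
  · have hne : rho q ≠ 0 := by
      intro h0
      have := congrArg ev0 h0
      rw [ev0_rho, map_zero, neg_eq_zero, Polynomial.C_eq_zero] at this
      exact hq this
    intro x y hxy
    exact mul_left_cancel₀ hne hxy
  · rw [isSMulRegular_quotient_iff_mem_of_smul_mem]
    intro x hx
    rw [Submodule.mem_smul_pointwise_iff_exists] at hx ⊢
    obtain ⟨b, -, hb⟩ := hx
    have h1 : h * x ∈ Ideal.span {rho q} := by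
      rw [Ideal.mem_span_singleton']
      exact ⟨b, by rw [mul_comm]; exact hb⟩
    rcases rho_prime q hq h x h1 with h2 | h2
    · exfalso
      have h3 : Polynomial.aeval (X 0 : B) Pw ∈ Ideal.span {rho q} := by
        have := Ideal.sub_mem _ (Ideal.mul_mem_left _ (X 0 ^ D) h2) hh
        convert this using 1; ring
      rw [mem_rho_iff q hq, psi_aeval_X0] at h3
      have : Pw = 0 := Polynomial.toLaurent_injective (by rw [h3, map_zero])
      exact hmonic.ne_zero this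
    · obtain ⟨w, hw⟩ := Ideal.mem_span_singleton'.mp h2
      exact ⟨w, trivial, by rw [← hw, mul_comm]; rfl⟩

lemma prod_dvd {ι : Type*} (s : Finset ι) (P : ι → Polynomial ℤ) (hmonic : ∀ i, (P i).Monic)
    (hirr : ∀ i, Irreducible (P i)) (hinj : ∀ i j, P i = P j → i = j) (G : Polynomial ℤ)
    (hG : ∀ i ∈ s, P i ∣ G) : ∏ i ∈ s, P i ∣ G := by
  classical
  induction s using Finset.induction_on with
  | empty => simp
  | insert a s ha ih =>
    rw [Finset.prod_insert ha]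
    obtain ⟨G₂, hG₂⟩ := ih (fun i hi => hG i (Finset.mem_insert_of_mem hi))
    have h1 : P a ∣ (∏ i ∈ s, P i) * G₂ := hG₂ ▸ hG a (Finset.mem_insert_self a s)
    have hprime : Prime (P a) := (hirr a).prime
    rcases hprime.dvd_or_dvd h1 with h | h
    · exfalso
      obtain ⟨j, hj, hdvd⟩ := (Prime.dvd_finsetProd_iff hprime _).mp h
      have := Polynomial.eq_of_monic_of_associated (hmonic a) (hmonic j)
        ((hirr a).associated_of_dvd (hirr j) hdvd)
      exact ha (hinj a j this ▸ hj)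
    · obtain ⟨G₃, rfl⟩ := h
      exact ⟨G₃, by rw [hG₂]; ring⟩



theorem main (p e : ℕ) [Fact p.Prime] (he : 0 < e)
    (ι : Type) [Fintype ι] (K : ι → Type u) [∀ i, Field (K i)] [∀ i, CharZero (K i)] (π : ∀ i, K i)
    (hint : ∀ i, IsIntegral ℤ (π i))
    (hweil : ∀ i, ∀ z ∈ (minpoly ℤ (π i)).aroots ℂ, ‖z‖ = Real.sqrt ((p : ℝ) ^ e))
    (hinj : ∀ i j, minpoly ℤ (π i) = minpoly ℤ (π j) → i = j)
    (D : ℕ) (hD : ∑ i, (minpoly ℤ (π i)).natDegree = 2 * D)
    (h : MvPolynomial (Fin 2) ℤ)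
    (hh : X 0 ^ D * h - Polynomial.aeval (X 0 : MvPolynomial (Fin 2) ℤ) (∏ i, minpoly ℤ (π i)) ∈
      Ideal.span ({X 0 * X 1 - C ((p : ℤ) ^ e)} : Set (MvPolynomial (Fin 2) ℤ))) :
    RingHom.ker (MvPolynomial.aeval ![fun i => π i, fun i => ((p : K i) ^ e) / π i] :
        MvPolynomial (Fin 2) ℤ →ₐ[ℤ] ((i : ι) → K i)) =
        Ideal.span {X 0 * X 1 - C ((p : ℤ) ^ e), h} ∧
      RingTheory.Sequence.IsWeaklyRegular (MvPolynomial (Fin 2) ℤ)
        [X 0 * X 1 - C ((p : ℤ) ^ e), h] := by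
  classical
  have hp : 0 < p := (Fact.out : p.Prime).pos
  have hq : ((p : ℤ) ^ e) ≠ 0 := pow_ne_zero _ (by exact_mod_cast hp.ne')
  have hPmonic : ∀ i, (minpoly ℤ (π i)).Monic := fun i => minpoly.monic (hint i)
  have hPwmonic : (∏ i, minpoly ℤ (π i)).Monic :=
    Polynomial.monic_prod_of_monic _ _ (fun i _ => hPmonic i)
  have hdeg : (∏ i, minpoly ℤ (π i)).natDegree = 2 * D := by
    rw [Polynomial.natDegree_prod_of_monic _ _ (fun i _ => hPmonic i)]; exact hD
  have hweil' : ∀ z ∈ (∏ i, minpoly ℤ (π i)).aroots ℂ, ‖z‖ = Real.sqrt (((p ^ e : ℕ) : ℝ)) := by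
    intro z hz
    rw [Polynomial.mem_aroots, map_prod, Finset.prod_eq_zero_iff] at hz
    obtain ⟨-, i, -, hi⟩ := hz
    rw [Nat.cast_pow]
    exact hweil i z (Polynomial.mem_aroots.mpr ⟨(hPmonic i).ne_zero, hi⟩)
  obtain ⟨ε, hε, hc⟩ := weil_symm _ hPwmonic (p ^ e) (pow_pos hp e) D hdeg hweil'
  rw [Nat.cast_pow] at hc
  refine ⟨?_, regular _ hq _ hPwmonic D h hh⟩
  -- the points are nonzero
  have hπ : ∀ i, π i ≠ 0 := by
    intro i h0
    have h1 := minpoly.aeval ℤ (π i)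
    have h1' : Polynomial.aeval (0 : K i) (minpoly ℤ (π i)) = 0 :=
      (congrArg (fun x => Polynomial.aeval x (minpoly ℤ (π i))) h0).symm.trans h1
    rw [← Polynomial.coeff_zero_eq_aeval_zero'] at h1'
    have h2 : (minpoly ℤ (π i)).coeff 0 = 0 := by
      have : ((algebraMap ℤ (K i)) ((minpoly ℤ (π i)).coeff 0)) = algebraMap ℤ (K i) 0 := by
        rw [h1', map_zero]
      exact (algebraMap ℤ (K i)).injective_int this
    have h3 : (0 : ℂ) ∈ (minpoly ℤ (π i)).aroots ℂ := by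
      rw [Polynomial.mem_aroots]
      refine ⟨(hPmonic i).ne_zero, ?_⟩
      rw [← Polynomial.coeff_zero_eq_aeval_zero', h2, map_zero]
    have h4 := hweil i 0 h3
    rw [norm_zero] at h4
    have : 0 < Real.sqrt ((p : ℝ) ^ e) := Real.sqrt_pos.mpr (pow_pos (by exact_mod_cast hp) e)
    linarith
  -- componentwise description
  have hφ : ∀ (i : ι) (g : B),
      (MvPolynomial.aeval ![fun i => π i, fun i => ((p : K i) ^ e) / π i] g : (i : ι) → K i) i =
        MvPolynomial.aeval ![π i, ((p : K i) ^ e) / π i] g := by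
    intro i g
    have key : (Pi.evalAlgHom ℤ K i).comp
        (MvPolynomial.aeval ![fun i => π i, fun i => ((p : K i) ^ e) / π i] :
          MvPolynomial (Fin 2) ℤ →ₐ[ℤ] ((i : ι) → K i)) =
        MvPolynomial.aeval ![π i, ((p : K i) ^ e) / π i] := by
      apply MvPolynomial.algHom_ext
      intro k
      fin_cases k
      · simp
      · simp
    exact DFunLike.congr_fun key g
  have hρ : ∀ i, MvPolynomial.aeval ![π i, ((p : K i) ^ e) / π i] (rho ((p : ℤ) ^ e)) = 0 := by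
    intro i
    rw [rho, map_sub, map_mul, aeval_X, aeval_X, aeval_C]
    simp only [Matrix.cons_val_zero, Matrix.cons_val_one, eq_intCast, Int.cast_pow,
      Int.cast_natCast]
    rw [mul_div_cancel₀ _ (hπ i), sub_self]
  have hρle : ∀ i, ∀ a ∈ Ideal.span {rho ((p : ℤ) ^ e)},
      MvPolynomial.aeval ![π i, ((p : K i) ^ e) / π i] a = 0 := by
    intro i a ha
    obtain ⟨w, rfl⟩ := Ideal.mem_span_singleton'.mp ha
    rw [map_mul, hρ, mul_zero]
  have hX0 : ∀ i (G : Polynomial ℤ), MvPolynomial.aeval ![π i, ((p : K i) ^ e) / π i]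
      (Polynomial.aeval (X 0 : B) G) = Polynomial.aeval (π i) G := by
    intro i G
    rw [← Polynomial.aeval_algHom_apply, aeval_X]
    rfl
  have hhi : ∀ i, MvPolynomial.aeval ![π i, ((p : K i) ^ e) / π i] h = 0 := by
    intro i
    have h1 := hρle i _ hh
    rw [map_sub, map_mul, map_pow, aeval_X, hX0, map_prod,
      Finset.prod_eq_zero (Finset.mem_univ i) (minpoly.aeval ℤ (π i)), sub_zero] at h1
    rcases mul_eq_zero.mp h1 with h2 | h2
    · exact absurd h2 (pow_ne_zero _ (hπ i))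
    · exact h2
  apply le_antisymm
  · intro g hg
    rw [RingHom.mem_ker] at hg
    have hgi : ∀ i, MvPolynomial.aeval ![π i, ((p : K i) ^ e) / π i] g = 0 := by
      intro i
      rw [← hφ i g]
      have := congrFun hg i
      exact this
    obtain ⟨n, G, hG⟩ := exists_clear _ hq g
    have hGi : ∀ i, minpoly ℤ (π i) ∣ G := by
      intro i
      apply minpoly.isIntegrallyClosed_dvd (hint i)
      have h1 := hρle i _ hG
      rw [map_sub, map_mul, hgi, mul_zero, zero_sub, neg_eq_zero, hX0] at h1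
      exact h1
    obtain ⟨G', hG'⟩ := prod_dvd Finset.univ (fun i => minpoly ℤ (π i)) hPmonic
      (fun i => minpoly.irreducible (hint i)) hinj G (fun i _ => hGi i)
    apply R3_pow _ hq _ hPwmonic D hdeg ε hε hc h hh n
    obtain ⟨w, hw⟩ := Ideal.mem_span_singleton'.mp hG
    obtain ⟨w', hw'⟩ := Ideal.mem_span_singleton'.mp hh
    rw [Ideal.mem_span_pair]
    refine ⟨w - w' * Polynomial.aeval (X 0 : B) G', X 0 ^ D * Polynomial.aeval (X 0 : B) G', ?_⟩
    have e1 : Polynomial.aeval (X 0 : B) G =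
        Polynomial.aeval (X 0 : B) (∏ i, minpoly ℤ (π i)) * Polynomial.aeval (X 0 : B) G' := by
      rw [hG', map_mul]
    have e2 : X 0 ^ n * g = w * rho ((p : ℤ) ^ e) + Polynomial.aeval (X 0 : B) G := by
      rw [hw]; ring
    have e3 : Polynomial.aeval (X 0 : B) (∏ i, minpoly ℤ (π i)) =
        X 0 ^ D * h - w' * rho ((p : ℤ) ^ e) := by
      rw [hw']; ring
    rw [e2, e1, e3]
    ring
  · rw [Ideal.span_le]
    intro x hx
    rw [SetLike.mem_coe, RingHom.mem_ker]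
    funext i
    rw [hφ]
    rcases hx with rfl | rfl
    · exact hρ i
    · exact hhi i

end Groth.Agent.Lib.H9WeilKer
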