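import Mathlib
import Groth.Agent.Lib.H9WeilKer
import Groth.Agent.Lib.Helper5GorRing
import Groth.Agent.Lib.H6xPointCountAlg

/-!
# The minimal central order of an even-degree family of Weil numbers is a free, one-dimensional
Gorenstein ring (helper9, S17985)

* `gor_of_regular_pair`: quotient of a Gorenstein ring by a regular sequence of length two.
* `aeval_swap`: `q/x` is a root of a symmetric Weil polynomial when `x` is.
* `basic`, `gor_range`, `finite_range`, `free_rank`, `krullDim_range`, `main17985`.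
-/

set_option autoImplicit false
universe u

namespace Groth.Agent.Lib.H9WeilGor


open LocCoh Groth.Agent.Lib.Helper5.GorRing

/-- quotient of a Gorenstein ring by a regular sequence of length two -/
theorem gor_of_regular_pair {B' : Type u} [CommRing B'] [IsGorensteinRing B'] (r h : B')
    (hr : IsSMulRegular B' r)
    (hh : ∀ x, h * x ∈ Ideal.span {r} → x ∈ Ideal.span {r}) :
    IsGorensteinRing (B' ⧸ Ideal.span {r, h}) := by
  haveI h1 : IsGorensteinRing (B' ⧸ Ideal.span {r}) := gorRing_quotient_of_regular r hr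
  set mk := Ideal.Quotient.mk (Ideal.span {r}) with hmk
  have hreg : IsSMulRegular (B' ⧸ Ideal.span {r}) (mk h) := by
    intro a b hab
    obtain ⟨a, rfl⟩ := Ideal.Quotient.mk_surjective a
    obtain ⟨b, rfl⟩ := Ideal.Quotient.mk_surjective b
    simp only [smul_eq_mul] at hab
    rw [← map_mul, ← map_mul, Ideal.Quotient.eq, ← mul_sub] at hab
    rw [Ideal.Quotient.eq]
    exact hh _ hab
  haveI h2 : IsGorensteinRing ((B' ⧸ Ideal.span {r}) ⧸ Ideal.span {mk h}) :=
    gorRing_quotient_of_regular (mk h) hreg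
  have e1 : (Ideal.span {h}).map mk = Ideal.span {mk h} := by
    rw [Ideal.map_span, Set.image_singleton]
  have e2 : Ideal.span {r} ⊔ Ideal.span {h} = Ideal.span {r, h} := by
    rw [← Ideal.span_union]; rfl
  exact gorRing_of_ringEquiv
    (((Ideal.quotEquivOfEq e1.symm).trans
      (DoubleQuot.quotQuotEquivQuotSup (Ideal.span {r}) (Ideal.span {h}))).trans
      (Ideal.quotEquivOfEq e2))




open MvPolynomial Groth.Agent.Lib.H9WeilKer

/-- `q/x` is again a root of a symmetric Weil polynomial -/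
lemma aeval_swap {S : Type*} [Field S] (x y : S) (q : ℤ) (hxy : x * y = (q : S)) (hx : x ≠ 0)
    (Pw : Polynomial ℤ) (D : ℕ) (hdeg : Pw.natDegree = 2 * D) (ε : ℤ) (hε : ε * ε = 1)
    (hc : ∀ j ≤ D, Pw.coeff j = ε * q ^ (D - j) * Pw.coeff (2 * D - j))
    (h0 : Polynomial.aeval x Pw = 0) : Polynomial.aeval y Pw = 0 := by
  have e1 := sym_identity x y q hxy Pw.coeff ε D hc
  have e2 := sym_identity y x q (by rw [mul_comm]; exact hxy) Pw.coeff ε D hc
  have hA : ∀ z : S, Polynomial.aeval z Pw =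
      ∑ k ∈ Finset.range (2 * D + 1), ((Pw.coeff k : ℤ) : S) * z ^ k := by
    intro z
    rw [Polynomial.aeval_eq_sum_range, hdeg]
    apply Finset.sum_congr rfl
    intro k _
    rw [zsmul_eq_mul]
  rw [← hA, h0] at e1
  rw [← hA] at e2
  have hS : ∀ a b : S, ∑ j ∈ Finset.range (D + 1), ((Pw.coeff (D + j) : ℤ) : S) * a ^ j +
      (ε : S) * ∑ i ∈ Finset.range D, ((Pw.coeff (D + 1 + i) : ℤ) : S) * b ^ (i + 1) =
      ∑ i ∈ Finset.range D, ((Pw.coeff (D + 1 + i) : ℤ) : S) * a ^ (i + 1) +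
        ((Pw.coeff D : ℤ) : S) +
      (ε : S) * ∑ i ∈ Finset.range D, ((Pw.coeff (D + 1 + i) : ℤ) : S) * b ^ (i + 1) := by
    intro a b
    rw [Finset.sum_range_succ']
    congr 2
    · apply Finset.sum_congr rfl
      intro i _
      rw [show D + (i + 1) = D + 1 + i by ring]
    · rw [pow_zero, mul_one, Nat.add_zero]
  have hεS : (ε : S) * (ε : S) = 1 := by exact_mod_cast congrArg (Int.cast : ℤ → S) hε
  have hcD : (ε : S) * ((Pw.coeff D : ℤ) : S) = ((Pw.coeff D : ℤ) : S) := by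
    have := hc D le_rfl
    rw [Nat.sub_self, pow_zero, mul_one, show 2 * D - D = D by omega] at this
    exact_mod_cast (congrArg (Int.cast : ℤ → S) this).symm
  rw [hS] at e1 e2
  have h1 : ∑ i ∈ Finset.range D, ((Pw.coeff (D + 1 + i) : ℤ) : S) * x ^ (i + 1) +
        ((Pw.coeff D : ℤ) : S) +
      (ε : S) * ∑ i ∈ Finset.range D, ((Pw.coeff (D + 1 + i) : ℤ) : S) * y ^ (i + 1) = 0 := by
    rcases mul_eq_zero.mp e1 with h | h
    · exact absurd h (pow_ne_zero _ hx)
    · exact h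
  rw [← e2]
  have h2 : ∑ i ∈ Finset.range D, ((Pw.coeff (D + 1 + i) : ℤ) : S) * y ^ (i + 1) +
        ((Pw.coeff D : ℤ) : S) +
      (ε : S) * ∑ i ∈ Finset.range D, ((Pw.coeff (D + 1 + i) : ℤ) : S) * x ^ (i + 1) = 0 := by
    have := congrArg (fun t => (ε : S) * t) h1
    simp only [mul_zero, mul_add] at this
    rw [← mul_assoc, hεS, one_mul, hcD] at this
    rw [← this]; ring
  rw [h2, mul_zero]

/-- cancellation of `h` modulo `FV - q` -/
lemma h_cancel (q : ℤ) (hq : q ≠ 0) (Pw : Polynomial ℤ) (hmonic : Pw.Monic) (D : ℕ)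
    (h : B) (hh : X 0 ^ D * h - Polynomial.aeval (X 0 : B) Pw ∈ Ideal.span {rho q})
    (x : B) (hx : h * x ∈ Ideal.span {rho q}) : x ∈ Ideal.span {rho q} := by
  rcases rho_prime q hq h x hx with h2 | h2
  · exfalso
    have h3 : Polynomial.aeval (X 0 : B) Pw ∈ Ideal.span {rho q} := by
      have := Ideal.sub_mem _ (Ideal.mul_mem_left _ (X 0 ^ D) h2) hh
      convert this using 1; ring
    rw [mem_rho_iff q hq, psi_aeval_X0] at h3
    have : Pw = 0 := Polynomial.toLaurent_injective (by rw [h3, map_zero])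
    exact hmonic.ne_zero this
  · exact h2

lemma rho_ne_zero (q : ℤ) (hq : q ≠ 0) : rho q ≠ 0 := by
  intro h0
  have := congrArg ev0 h0
  rw [ev0_rho, map_zero, neg_eq_zero, Polynomial.C_eq_zero] at this
  exact hq this

lemma aeval_pi {ι : Type*} (K : ι → Type*) [∀ i, CommRing (K i)] (a : ∀ i, K i)
    (G : Polynomial ℤ) (i : ι) : (Polynomial.aeval a G) i = Polynomial.aeval (a i) G := by
  exact (Polynomial.aeval_algHom_apply (Pi.evalAlgHom ℤ K i) a G).symm




open MvPolynomial Groth.Agent.Lib.H9WeilKer LocCoh Groth.Agent.Lib.Helper5.GorRing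

section
variable (p e : ℕ) [Fact p.Prime] (he : 0 < e)
    (ι : Type) [Fintype ι] (K : ι → Type u) [∀ i, Field (K i)] [∀ i, CharZero (K i)] (π : ∀ i, K i)
    (hint : ∀ i, IsIntegral ℤ (π i))
    (hweil : ∀ i, ∀ z ∈ (minpoly ℤ (π i)).aroots ℂ, ‖z‖ = Real.sqrt ((p : ℝ) ^ e))
    (hinj : ∀ i j, minpoly ℤ (π i) = minpoly ℤ (π j) → i = j)
    (D : ℕ) (hD : ∑ i, (minpoly ℤ (π i)).natDegree = 2 * D)

include he hint hweil hinj hD in
/-- all the basic facts about the minimal central order, packaged -/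
theorem basic :
    ∃ (ε : ℤ) (h : B), ε * ε = 1 ∧
      (∀ j ≤ D, (∏ i, minpoly ℤ (π i)).coeff j =
        ε * ((p : ℤ) ^ e) ^ (D - j) * (∏ i, minpoly ℤ (π i)).coeff (2 * D - j)) ∧
      (∏ i, minpoly ℤ (π i)).Monic ∧ (∏ i, minpoly ℤ (π i)).natDegree = 2 * D ∧
      (∀ i, π i ≠ 0) ∧
      X 0 ^ D * h - Polynomial.aeval (X 0 : B) (∏ i, minpoly ℤ (π i)) ∈
        Ideal.span ({rho ((p : ℤ) ^ e)} : Set B) ∧
      RingHom.ker (MvPolynomial.aeval ![fun i => π i, fun i => ((p : K i) ^ e) / π i] :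
        MvPolynomial (Fin 2) ℤ →ₐ[ℤ] ((i : ι) → K i)) =
        Ideal.span {rho ((p : ℤ) ^ e), h} := by
  classical
  have hp : 0 < p := (Fact.out : p.Prime).pos
  have hq : ((p : ℤ) ^ e) ≠ 0 := pow_ne_zero _ (by exact_mod_cast hp.ne')
  have hPmonic : ∀ i, (minpoly ℤ (π i)).Monic := fun i => minpoly.monic (hint i)
  have hPwmonic : (∏ i, minpoly ℤ (π i)).Monic :=
    Polynomial.monic_prod_of_monic _ _ (fun i _ => hPmonic i)
  have hdeg : (∏ i, minpoly ℤ (π i)).natDegree = 2 * D := by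
    rw [Polynomial.natDegree_prod_of_monic _ _ (fun i _ => hPmonic i)]; exact hD
  have hweil' : ∀ z ∈ (∏ i, minpoly ℤ (π i)).aroots ℂ, ‖z‖ = Real.sqrt (((p ^ e : ℕ) : ℝ)) := by
    intro z hz
    rw [Polynomial.mem_aroots, map_prod, Finset.prod_eq_zero_iff] at hz
    obtain ⟨-, i, -, hi⟩ := hz
    rw [Nat.cast_pow]
    exact hweil i z (Polynomial.mem_aroots.mpr ⟨(hPmonic i).ne_zero, hi⟩)
  obtain ⟨ε, hε, hc⟩ := weil_symm _ hPwmonic (p ^ e) (pow_pos hp e) D hdeg hweil'
  rw [Nat.cast_pow] at hc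
  have hπ : ∀ i, π i ≠ 0 := by
    intro i h0
    have h1 := minpoly.aeval ℤ (π i)
    have h1' : Polynomial.aeval (0 : K i) (minpoly ℤ (π i)) = 0 :=
      (congrArg (fun x => Polynomial.aeval x (minpoly ℤ (π i))) h0).symm.trans h1
    rw [← Polynomial.coeff_zero_eq_aeval_zero'] at h1'
    have h2 : (minpoly ℤ (π i)).coeff 0 = 0 := by
      have : ((algebraMap ℤ (K i)) ((minpoly ℤ (π i)).coeff 0)) = algebraMap ℤ (K i) 0 := by
        rw [h1', map_zero]
      exact (algebraMap ℤ (K i)).injective_int this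
    have h3 : (0 : ℂ) ∈ (minpoly ℤ (π i)).aroots ℂ := by
      rw [Polynomial.mem_aroots]
      refine ⟨(hPmonic i).ne_zero, ?_⟩
      rw [← Polynomial.coeff_zero_eq_aeval_zero', h2, map_zero]
    have h4 := hweil i 0 h3
    rw [norm_zero] at h4
    have : 0 < Real.sqrt ((p : ℝ) ^ e) := Real.sqrt_pos.mpr (pow_pos (by exact_mod_cast hp) e)
    linarith
  have hh := h0_spec ((p : ℤ) ^ e) (∏ i, minpoly ℤ (π i)) D hdeg ε hc
  refine ⟨ε, h0 (∏ i, minpoly ℤ (π i)).coeff ε D, hε, hc, hPwmonic, hdeg, hπ, hh, ?_⟩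
  exact (Groth.Agent.Lib.H9WeilKer.main p e he ι K π hint hweil hinj D hD _ hh).1

end




open MvPolynomial Groth.Agent.Lib.H9WeilKer LocCoh Groth.Agent.Lib.Helper5.GorRing

section
variable (p e : ℕ) [Fact p.Prime] (he : 0 < e)
    (ι : Type) [Fintype ι] (K : ι → Type u) [∀ i, Field (K i)] [∀ i, CharZero (K i)] (π : ∀ i, K i)
    (hint : ∀ i, IsIntegral ℤ (π i))
    (hweil : ∀ i, ∀ z ∈ (minpoly ℤ (π i)).aroots ℂ, ‖z‖ = Real.sqrt ((p : ℝ) ^ e))
    (hinj : ∀ i j, minpoly ℤ (π i) = minpoly ℤ (π j) → i = j)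
    (D : ℕ) (hD : ∑ i, (minpoly ℤ (π i)).natDegree = 2 * D)

include he hint hweil hinj hD in
theorem gor_range :
    IsGorensteinRing (MvPolynomial.aeval ![fun i => π i, fun i => ((p : K i) ^ e) / π i] :
        MvPolynomial (Fin 2) ℤ →ₐ[ℤ] ((i : ι) → K i)).range := by
  classical
  obtain ⟨ε, h, hε, hc, hPwmonic, hdeg, hπ, hh, hker⟩ := basic p e he ι K π hint hweil hinj D hD
  have hp : 0 < p := (Fact.out : p.Prime).pos
  have hq : ((p : ℤ) ^ e) ≠ 0 := pow_ne_zero _ (by exact_mod_cast hp.ne')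
  set φ : B →ₐ[ℤ] ((i : ι) → K i) :=
    MvPolynomial.aeval ![fun i => π i, fun i => ((p : K i) ^ e) / π i] with hφ
  let eB : B ≃ₐ[ℤ] MvPolynomial (ULift.{u} (Fin 2)) ℤ :=
    MvPolynomial.renameEquiv ℤ (Equiv.ulift.symm)
  let f : MvPolynomial (ULift.{u} (Fin 2)) ℤ →ₐ[ℤ] φ.range :=
    φ.rangeRestrict.comp (eB.symm : MvPolynomial (ULift.{u} (Fin 2)) ℤ →ₐ[ℤ] B)
  have hf : Function.Surjective f := φ.rangeRestrict_surjective.comp eB.symm.surjective
  have hfx : ∀ x, f x = 0 ↔ eB.symm x ∈ Ideal.span {rho ((p : ℤ) ^ e), h} := by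
    intro x
    rw [← hker, RingHom.mem_ker]
    constructor
    · intro hx
      have := congrArg Subtype.val hx
      exact this
    · intro hx
      apply Subtype.ext
      exact hx
  have hkerf : RingHom.ker f = Ideal.span {eB (rho ((p : ℤ) ^ e)), eB h} := by
    ext x
    rw [RingHom.mem_ker, hfx, Ideal.mem_span_pair, Ideal.mem_span_pair]
    constructor
    · rintro ⟨a, b, hab⟩
      refine ⟨eB a, eB b, ?_⟩
      rw [← map_mul, ← map_mul, ← map_add, hab, AlgEquiv.apply_symm_apply]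
    · rintro ⟨a, b, hab⟩
      refine ⟨eB.symm a, eB.symm b, ?_⟩
      rw [← hab, map_add, map_mul, map_mul, AlgEquiv.symm_apply_apply, AlgEquiv.symm_apply_apply]
  haveI : IsGorensteinRing (MvPolynomial (ULift.{u} (Fin 2)) ℤ) := gorRing_of_isRegularRing _
  have hr : IsSMulRegular (MvPolynomial (ULift.{u} (Fin 2)) ℤ) (eB (rho ((p : ℤ) ^ e))) := by
    have hne : eB (rho ((p : ℤ) ^ e)) ≠ 0 := by
      intro h0
      exact rho_ne_zero _ hq (eB.injective (by rw [h0, map_zero]))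
    intro x y hxy
    exact mul_left_cancel₀ hne hxy
  have hh' : ∀ x, eB h * x ∈ Ideal.span {eB (rho ((p : ℤ) ^ e))} →
      x ∈ Ideal.span {eB (rho ((p : ℤ) ^ e))} := by
    intro x hx
    obtain ⟨a, ha⟩ := Ideal.mem_span_singleton'.mp hx
    have h1 : h * eB.symm x ∈ Ideal.span {rho ((p : ℤ) ^ e)} := by
      rw [Ideal.mem_span_singleton']
      refine ⟨eB.symm a, ?_⟩
      have := congrArg eB.symm ha
      rw [map_mul, map_mul, AlgEquiv.symm_apply_apply, AlgEquiv.symm_apply_apply] at this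
      exact this
    have h2 := h_cancel _ hq _ hPwmonic D h hh _ h1
    obtain ⟨b, hb⟩ := Ideal.mem_span_singleton'.mp h2
    rw [Ideal.mem_span_singleton']
    refine ⟨eB b, ?_⟩
    rw [← map_mul, hb, AlgEquiv.apply_symm_apply]
  haveI hG := gor_of_regular_pair _ _ hr hh'
  exact gorRing_of_ringEquiv ((Ideal.quotEquivOfEq hkerf.symm).trans
    (Ideal.quotientKerAlgEquivOfSurjective hf).toRingEquiv)

end




open MvPolynomial Groth.Agent.Lib.H9WeilKer LocCoh Groth.Agent.Lib.Helper5.GorRing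

section
variable (p e : ℕ) [Fact p.Prime] (he : 0 < e)
    (ι : Type) [Fintype ι] (K : ι → Type u) [∀ i, Field (K i)] [∀ i, CharZero (K i)] (π : ∀ i, K i)
    (hint : ∀ i, IsIntegral ℤ (π i))
    (hweil : ∀ i, ∀ z ∈ (minpoly ℤ (π i)).aroots ℂ, ‖z‖ = Real.sqrt ((p : ℝ) ^ e))
    (hinj : ∀ i j, minpoly ℤ (π i) = minpoly ℤ (π j) → i = j)
    (D : ℕ) (hD : ∑ i, (minpoly ℤ (π i)).natDegree = 2 * D)

include he hint hweil hinj hD in
theorem finite_range :
    Module.Finite ℤ (MvPolynomial.aeval ![fun i => π i, fun i => ((p : K i) ^ e) / π i] :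
        MvPolynomial (Fin 2) ℤ →ₐ[ℤ] ((i : ι) → K i)).range := by
  classical
  obtain ⟨ε, h, hε, hc, hPwmonic, hdeg, hπ, hh, hker⟩ := basic p e he ι K π hint hweil hinj D hD
  have hFV : ∀ i, π i * (((p : K i) ^ e) / π i) = ((((p : ℤ) ^ e : ℤ)) : K i) := by
    intro i
    rw [mul_div_cancel₀ _ (hπ i)]
    push_cast
    rfl
  have hPwF : ∀ i, Polynomial.aeval (π i) (∏ i, minpoly ℤ (π i)) = 0 := by
    intro i
    rw [map_prod]
    exact Finset.prod_eq_zero (Finset.mem_univ i) (minpoly.aeval ℤ (π i))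
  have hPwV : ∀ i, Polynomial.aeval (((p : K i) ^ e) / π i) (∏ i, minpoly ℤ (π i)) = 0 :=
    fun i => aeval_swap (π i) _ ((p : ℤ) ^ e) (hFV i) (hπ i) _ D hdeg ε hε hc (hPwF i)
  have hFint : IsIntegral ℤ (fun i => π i : (i : ι) → K i) := by
    refine ⟨∏ i, minpoly ℤ (π i), hPwmonic, ?_⟩
    rw [← Polynomial.aeval_def]
    funext i
    rw [aeval_pi]
    exact hPwF i
  have hVint : IsIntegral ℤ (fun i => ((p : K i) ^ e) / π i : (i : ι) → K i) := by
    refine ⟨∏ i, minpoly ℤ (π i), hPwmonic, ?_⟩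
    rw [← Polynomial.aeval_def]
    funext i
    rw [aeval_pi]
    exact hPwV i
  have hfg : ((MvPolynomial.aeval ![fun i => π i, fun i => ((p : K i) ^ e) / π i] :
        MvPolynomial (Fin 2) ℤ →ₐ[ℤ] ((i : ι) → K i)).range).toSubmodule.FG := by
    rw [← Algebra.adjoin_range_eq_range_aeval]
    apply fg_adjoin_of_finite (Set.finite_range _)
    rintro x ⟨k, rfl⟩
    fin_cases k
    · exact hFint
    · exact hVint
  exact Module.Finite.iff_fg.mpr hfg

end




open MvPolynomial Groth.Agent.Lib.H9WeilKer LocCoh Groth.Agent.Lib.Helper5.GorRing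

section
variable (p e : ℕ) [Fact p.Prime] (he : 0 < e)
    (ι : Type) [Fintype ι] (K : ι → Type u) [∀ i, Field (K i)] [∀ i, CharZero (K i)] (π : ∀ i, K i)
    (hint : ∀ i, IsIntegral ℤ (π i))
    (hweil : ∀ i, ∀ z ∈ (minpoly ℤ (π i)).aroots ℂ, ‖z‖ = Real.sqrt ((p : ℝ) ^ e))
    (hinj : ∀ i j, minpoly ℤ (π i) = minpoly ℤ (π j) → i = j)
    (D : ℕ) (hD : ∑ i, (minpoly ℤ (π i)).natDegree = 2 * D)

include he hint hweil hinj hD in
theorem free_rank :
    Module.Free ℤ (MvPolynomial.aeval ![fun i => π i, fun i => ((p : K i) ^ e) / π i] :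
        MvPolynomial (Fin 2) ℤ →ₐ[ℤ] ((i : ι) → K i)).range ∧
    Module.finrank ℤ (MvPolynomial.aeval ![fun i => π i, fun i => ((p : K i) ^ e) / π i] :
        MvPolynomial (Fin 2) ℤ →ₐ[ℤ] ((i : ι) → K i)).range = 2 * D := by
  classical
  obtain ⟨ε, h, hε, hc, hPwmonic, hdeg, hπ, hh, hker⟩ := basic p e he ι K π hint hweil hinj D hD
  haveI hfin := finite_range p e he ι K π hint hweil hinj D hD
  have hp : 0 < p := (Fact.out : p.Prime).pos
  have hq : ((p : ℤ) ^ e) ≠ 0 := pow_ne_zero _ (by exact_mod_cast hp.ne')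
  set φ : B →ₐ[ℤ] ((i : ι) → K i) :=
    MvPolynomial.aeval ![fun i => π i, fun i => ((p : K i) ^ e) / π i] with hφ
  set Pw := ∏ i, minpoly ℤ (π i) with hPw
  haveI : Module.IsTorsionFree ℤ φ.range := inferInstance
  refine ⟨Module.free_of_finite_type_torsion_free', ?_⟩
  -- the element `F` of the order
  have hφX0 : φ (X 0) = fun i => π i := by
    rw [hφ, aeval_X]; rfl
  let Fr : φ.range := ⟨fun i => π i, ⟨X 0, hφX0⟩⟩
  let ψ : Polynomial ℤ →ₐ[ℤ] φ.range := Polynomial.aeval Fr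
  have hψval : ∀ G : Polynomial ℤ, ((ψ G : φ.range) : (i : ι) → K i) =
      Polynomial.aeval (fun i => π i : (i : ι) → K i) G := by
    intro G
    exact (Polynomial.aeval_algHom_apply φ.range.val Fr G).symm
  -- kernel of ψ
  have hψker : RingHom.ker ψ = Ideal.span {Pw} := by
    ext G
    rw [RingHom.mem_ker, Ideal.mem_span_singleton]
    constructor
    · intro hG
      have hG' : ∀ i, Polynomial.aeval (π i) G = 0 := by
        intro i
        have := congrFun ((hψval G).symm.trans (congrArg Subtype.val hG)) i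
        rw [aeval_pi] at this
        exact this
      exact prod_dvd Finset.univ (fun i => minpoly ℤ (π i)) (fun i => minpoly.monic (hint i))
        (fun i => minpoly.irreducible (hint i)) hinj G
        (fun i _ => minpoly.isIntegrallyClosed_dvd (hint i) (hG' i))
    · rintro ⟨G', rfl⟩
      apply Subtype.ext
      rw [hψval]
      funext i
      rw [aeval_pi, map_mul, hPw, map_prod,
        Finset.prod_eq_zero (Finset.mem_univ i) (minpoly.aeval ℤ (π i)), zero_mul]
      rfl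
  -- rank of the image of ψ
  have hrankN : Module.finrank ℤ ψ.range = 2 * D := by
    have e1 : (Polynomial ℤ ⧸ Ideal.span {Pw}) ≃ₐ[ℤ] ψ.range :=
      (Ideal.quotientEquivAlgOfEq ℤ (by rw [← hψker, AlgHom.ker_rangeRestrict])).trans
        (Ideal.quotientKerAlgEquivOfSurjective ψ.rangeRestrict_surjective)
    have e2 : Module.finrank ℤ (AdjoinRoot Pw) = 2 * D := by
      rw [(AdjoinRoot.powerBasis' hPwmonic).finrank, AdjoinRoot.powerBasis'_dim, hdeg]
    rw [← e2]
    exact (LinearEquiv.finrank_eq e1.toLinearEquiv).symm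
  -- the quotient by the image of ψ is torsion
  let N : Submodule ℤ φ.range := ψ.range.toSubmodule
  have hc0 : Pw.coeff 0 ≠ 0 := by
    have := hc 0 (Nat.zero_le _)
    rw [Nat.sub_zero, Nat.sub_zero, ← hdeg, hPwmonic.coeff_natDegree, mul_one] at this
    rw [this]
    have hε0 : ε ≠ 0 := by rintro rfl; simp at hε
    exact mul_ne_zero hε0 (pow_ne_zero _ hq)
  have hW : Fr * (- ψ Pw.divX) = algebraMap ℤ φ.range (Pw.coeff 0) := by
    have h1 : ψ Pw = 0 := by
      rw [← RingHom.mem_ker, hψker]; exact Ideal.subset_span rfl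
    have h2 : ψ (Pw.divX * Polynomial.X + Polynomial.C (Pw.coeff 0)) = 0 := by
      rw [Polynomial.divX_mul_X_add]; exact h1
    rw [map_add, map_mul, Polynomial.aeval_X, Polynomial.aeval_C] at h2
    linear_combination (-1 : φ.range) * h2
  have htors : ∀ x : φ.range, ∃ a : ℤ, a ≠ 0 ∧ a • x ∈ N := by
    intro x
    obtain ⟨g, rfl⟩ := φ.rangeRestrict_surjective x
    obtain ⟨n, G, hG⟩ := exists_clear _ hq g
    have hG' : φ (X 0 ^ n * g - Polynomial.aeval (X 0 : B) G) = 0 := by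
      rw [← RingHom.mem_ker, hker]
      exact Ideal.span_mono (by simp) hG
    have h3 : Fr ^ n * φ.rangeRestrict g = ψ G := by
      apply Subtype.ext
      rw [hψval]
      change (fun i => π i : (i : ι) → K i) ^ n * φ g = _
      rw [map_sub, map_mul, map_pow, hφX0, sub_eq_zero] at hG'
      rw [← Polynomial.aeval_algHom_apply, hφX0] at hG'
      exact hG'
    refine ⟨Pw.coeff 0 ^ n, pow_ne_zero _ hc0, ?_⟩
    have h4 : (Pw.coeff 0 ^ n) • φ.rangeRestrict g =
        ψ ((- Pw.divX) ^ n * G) := by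
      rw [map_mul, map_pow, map_neg, ← h3, ← mul_assoc, ← mul_pow, mul_comm (- ψ Pw.divX), hW,
        ← map_pow, Algebra.smul_def]
    rw [h4]
    exact ⟨_, rfl⟩
  have hquot : Module.rank ℤ (φ.range ⧸ N) = 0 := by
    rw [rank_eq_zero_iff]
    intro x
    obtain ⟨y, rfl⟩ := Submodule.Quotient.mk_surjective N x
    obtain ⟨a, ha, hay⟩ := htors y
    refine ⟨a, ha, ?_⟩
    rw [← Submodule.Quotient.mk_smul, Submodule.Quotient.mk_eq_zero]
    exact hay
  have hrank := Submodule.rank_quotient_add_rank N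
  rw [hquot, zero_add] at hrank
  have : Module.finrank ℤ φ.range = Module.finrank ℤ N := by
    unfold Module.finrank
    rw [hrank]
  rw [this]
  exact hrankN

end




open MvPolynomial Groth.Agent.Lib.H9WeilKer LocCoh Groth.Agent.Lib.Helper5.GorRing

section
variable (p e : ℕ) [Fact p.Prime] (he : 0 < e)
    (ι : Type) [Fintype ι] (K : ι → Type u) [∀ i, Field (K i)] [∀ i, CharZero (K i)] (π : ∀ i, K i)
    (hint : ∀ i, IsIntegral ℤ (π i))
    (hweil : ∀ i, ∀ z ∈ (minpoly ℤ (π i)).aroots ℂ, ‖z‖ = Real.sqrt ((p : ℝ) ^ e))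
    (hinj : ∀ i j, minpoly ℤ (π i) = minpoly ℤ (π j) → i = j)
    [Nonempty ι]
    (D : ℕ) (hD : ∑ i, (minpoly ℤ (π i)).natDegree = 2 * D)

include he hint hweil hinj hD in
theorem krullDim_range :
    ringKrullDim (MvPolynomial.aeval ![fun i => π i, fun i => ((p : K i) ^ e) / π i] :
        MvPolynomial (Fin 2) ℤ →ₐ[ℤ] ((i : ι) → K i)).range = 1 := by
  classical
  haveI hfin := finite_range p e he ι K π hint hweil hinj D hD
  set φ : B →ₐ[ℤ] ((i : ι) → K i) :=
    MvPolynomial.aeval ![fun i => π i, fun i => ((p : K i) ^ e) / π i] with hφ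
  haveI : Algebra.IsIntegral ℤ φ.range := Algebra.IsIntegral.of_finite ℤ _
  have hinjZ : Function.Injective (algebraMap ℤ φ.range) := by
    intro a b hab
    have h1 := congrArg Subtype.val hab
    obtain ⟨i⟩ := ‹Nonempty ι›
    have h2 : algebraMap ℤ (K i) a = algebraMap ℤ (K i) b := congrFun h1 i
    exact (algebraMap ℤ (K i)).injective_int h2
  rw [← IsPrincipalIdealRing.ringKrullDim_eq_one ℤ Int.not_isField]
  apply le_antisymm
  · apply Order.krullDim_le_of_strictMono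
      (fun P : PrimeSpectrum φ.range => PrimeSpectrum.comap (algebraMap ℤ φ.range) P)
    intro P Q hPQ
    have h1 : P.asIdeal < Q.asIdeal := hPQ
    have h2 := Ideal.IsIntegral.comap_lt_comap (R := ℤ) h1
    exact h2
  · exact Groth.Agent.Lib.H6xPointCountAlg.ringKrullDim_le_of_isIntegral_of_injective ℤ _ hinjZ

include he hint hweil hinj hD in
theorem main17985 :
    Module.Free ℤ (MvPolynomial.aeval ![fun i => π i, fun i => ((p : K i) ^ e) / π i] :
        MvPolynomial (Fin 2) ℤ →ₐ[ℤ] ((i : ι) → K i)).range ∧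
      Module.finrank ℤ (MvPolynomial.aeval ![fun i => π i, fun i => ((p : K i) ^ e) / π i] :
        MvPolynomial (Fin 2) ℤ →ₐ[ℤ] ((i : ι) → K i)).range = 2 * D ∧
      ringKrullDim (MvPolynomial.aeval ![fun i => π i, fun i => ((p : K i) ^ e) / π i] :
        MvPolynomial (Fin 2) ℤ →ₐ[ℤ] ((i : ι) → K i)).range = 1 ∧
      LocCoh.IsGorensteinRing (MvPolynomial.aeval ![fun i => π i, fun i => ((p : K i) ^ e) / π i] :
        MvPolynomial (Fin 2) ℤ →ₐ[ℤ] ((i : ι) → K i)).range :=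
  ⟨(free_rank p e he ι K π hint hweil hinj D hD).1, (free_rank p e he ι K π hint hweil hinj D hD).2,
    krullDim_range p e he ι K π hint hweil hinj D hD, gor_range p e he ι K π hint hweil hinj D hD⟩

end


end Groth.Agent.Lib.H9WeilGor
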