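import Mathlib
import Groth.Agent.Lib.H9WeilKer

set_option autoImplicit false
universe u

namespace Groth.Agent.Lib.H9WeilMod
open MvPolynomial Groth.Agent.Lib.H9WeilKer

/-- the common preamble -/
theorem setup (p e : ℕ) [Fact p.Prime]
    (ι : Type) [Fintype ι] (K : ι → Type u) [∀ i, Field (K i)] [∀ i, CharZero (K i)] (π : ∀ i, K i)
    (hint : ∀ i, IsIntegral ℤ (π i))
    (hweil : ∀ i, ∀ z ∈ (minpoly ℤ (π i)).aroots ℂ, ‖z‖ = Real.sqrt ((p : ℝ) ^ e))
    (D : ℕ) (hD : ∑ i, (minpoly ℤ (π i)).natDegree = 2 * D) :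
    ((p : ℤ) ^ e) ≠ 0 ∧ (∏ i, minpoly ℤ (π i)).Monic ∧ (∏ i, minpoly ℤ (π i)).natDegree = 2 * D ∧
    ∃ ε : ℤ, ε * ε = 1 ∧ ∀ j ≤ D, (∏ i, minpoly ℤ (π i)).coeff j =
      ε * ((p : ℤ) ^ e) ^ (D - j) * (∏ i, minpoly ℤ (π i)).coeff (2 * D - j) := by
  classical
  have hp : 0 < p := (Fact.out : p.Prime).pos
  have hq : ((p : ℤ) ^ e) ≠ 0 := pow_ne_zero _ (by exact_mod_cast hp.ne')
  have hPmonic : ∀ i, (minpoly ℤ (π i)).Monic := fun i => minpoly.monic (hint i)
  have hPwmonic : (∏ i, minpoly ℤ (π i)).Monic :=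
    Polynomial.monic_prod_of_monic _ _ (fun i _ => hPmonic i)
  have hdeg : (∏ i, minpoly ℤ (π i)).natDegree = 2 * D := by
    rw [Polynomial.natDegree_prod_of_monic _ _ (fun i _ => hPmonic i)]; exact hD
  have hweil' : ∀ z ∈ (∏ i, minpoly ℤ (π i)).aroots ℂ, ‖z‖ = Real.sqrt (((p ^ e : ℕ) : ℝ)) := by
    intro z hz
    rw [Polynomial.mem_aroots, map_prod, Finset.prod_eq_zero_iff] at hz
    obtain ⟨-, i, -, hi⟩ := hz
    rw [Nat.cast_pow]
    exact hweil i z (Polynomial.mem_aroots.mpr ⟨(hPmonic i).ne_zero, hi⟩)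
  obtain ⟨ε, hε, hc⟩ := weil_symm _ hPwmonic (p ^ e) (pow_pos hp e) D hdeg hweil'
  rw [Nat.cast_pow] at hc
  exact ⟨hq, hPwmonic, hdeg, ε, hε, hc⟩

/-- injectivity of an endomorphism killed by a polynomial with nonzero constant term -/
lemma inj_of_aeval {T : Type*} [AddCommGroup T] [Module.Free ℤ T] (FT : T →ₗ[ℤ] T)
    (P : Polynomial ℤ) (hP : Polynomial.aeval FT P = 0) (hc : P.coeff 0 ≠ 0) :
    Function.Injective FT := by
  rw [injective_iff_map_eq_zero]
  intro t ht
  have h1 : Polynomial.aeval FT P =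
      Polynomial.aeval FT (Polynomial.divX P) * FT + algebraMap ℤ (Module.End ℤ T) (P.coeff 0) := by
    conv_lhs => rw [← Polynomial.divX_mul_X_add P]
    rw [map_add, map_mul, Polynomial.aeval_X, Polynomial.aeval_C]
  have h2 := congrArg (fun f : Module.End ℤ T => f t) h1
  simp only [hP, LinearMap.zero_apply, LinearMap.add_apply, Module.End.mul_apply, ht, map_zero,
    Module.algebraMap_end_apply, zero_add] at h2
  rcases smul_eq_zero.mp h2.symm with h | h
  · exact absurd h hc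
  · exact h



/-- a pair of commuting endomorphisms gives a ring hom from `ℤ[F,V]` -/
lemma exists_psi {T : Type*} [AddCommGroup T] (FT VT : Module.End ℤ T) (hcomm : FT * VT = VT * FT) :
    ∃ ψ : B →ₐ[ℤ] Module.End ℤ T, ψ (X 0) = FT ∧ ψ (X 1) = VT := by
  have hc : ∀ a ∈ ({FT, VT} : Set (Module.End ℤ T)), ∀ b ∈ ({FT, VT} : Set (Module.End ℤ T)),
      a * b = b * a := by
    intro a ha b hb
    rcases ha with rfl | rfl <;> rcases hb with rfl | rfl
    · rfl
    · exact hcomm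
    · exact hcomm.symm
    · rfl
  letI : CommRing (Algebra.adjoin ℤ ({FT, VT} : Set (Module.End ℤ T))) :=
    Algebra.adjoinCommRingOfComm ℤ hc
  let fS : Algebra.adjoin ℤ ({FT, VT} : Set (Module.End ℤ T)) :=
    ⟨FT, Algebra.subset_adjoin (by simp)⟩
  let vS : Algebra.adjoin ℤ ({FT, VT} : Set (Module.End ℤ T)) :=
    ⟨VT, Algebra.subset_adjoin (by simp)⟩
  refine ⟨(Algebra.adjoin ℤ ({FT, VT} : Set (Module.End ℤ T))).val.comp (aeval ![fS, vS]), ?_, ?_⟩
  · rw [AlgHom.comp_apply, aeval_X]; rfl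
  · rw [AlgHom.comp_apply, aeval_X]; rfl

theorem thm003 (p e : ℕ) [Fact p.Prime] (he : 0 < e)
    (ι : Type) [Fintype ι] (K : ι → Type u) [∀ i, Field (K i)] [∀ i, CharZero (K i)] (π : ∀ i, K i)
    (hint : ∀ i, IsIntegral ℤ (π i))
    (hweil : ∀ i, ∀ z ∈ (minpoly ℤ (π i)).aroots ℂ, ‖z‖ = Real.sqrt ((p : ℝ) ^ e))
    (hinj : ∀ i j, minpoly ℤ (π i) = minpoly ℤ (π j) → i = j)
    (D : ℕ) (hD : ∑ i, (minpoly ℤ (π i)).natDegree = 2 * D)
    (T : Type) [AddCommGroup T] [Module.Finite ℤ T] [Module.Free ℤ T] (FT : T →ₗ[ℤ] T) :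
    (∃ _ : Module (MvPolynomial.aeval ![fun i => π i, fun i => ((p : K i) ^ e) / π i] :
        MvPolynomial (Fin 2) ℤ →ₐ[ℤ] ((i : ι) → K i)).range T,
        ∀ t : T, (⟨(MvPolynomial.aeval ![fun i => π i, fun i => ((p : K i) ^ e) / π i] :
        MvPolynomial (Fin 2) ℤ →ₐ[ℤ] ((i : ι) → K i)) (X 0), AlgHom.mem_range_self _ _⟩ : (MvPolynomial.aeval ![fun i => π i, fun i => ((p : K i) ^ e) / π i] :
        MvPolynomial (Fin 2) ℤ →ₐ[ℤ] ((i : ι) → K i)).range) • t = FT t) ↔
      (Polynomial.aeval FT (∏ i, minpoly ℤ (π i)) = 0 ∧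
        ∃ VT : T →ₗ[ℤ] T, FT ∘ₗ VT = ((p : ℤ) ^ e) • LinearMap.id) := by
  classical
  obtain ⟨hq, hPwmonic, hdeg, ε, hε, hc⟩ := setup p e ι K π hint hweil D hD
  set Pw := ∏ i, minpoly ℤ (π i) with hPw
  set φ : MvPolynomial (Fin 2) ℤ →ₐ[ℤ] ((i : ι) → K i) :=
    MvPolynomial.aeval ![fun i => π i, fun i => ((p : K i) ^ e) / π i] with hφ
  have hspec := h0_spec ((p : ℤ) ^ e) Pw D hdeg ε hc
  have hker := (main p e he ι K π hint hweil hinj D hD (h0 Pw.coeff ε D) hspec).1
  rw [← hφ] at hker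
  have hρker : rho ((p : ℤ) ^ e) ∈ RingHom.ker φ := by
    rw [hker]; exact Ideal.subset_span (by simp)
  have hPwker : Polynomial.aeval (X 0 : B) Pw ∈ RingHom.ker φ := by
    rw [hker]
    have h1 : X 0 ^ D * h0 Pw.coeff ε D ∈ Ideal.span {rho ((p : ℤ) ^ e), h0 Pw.coeff ε D} :=
      Ideal.mul_mem_left _ _ (Ideal.subset_span (by simp))
    have h2 : X 0 ^ D * h0 Pw.coeff ε D - Polynomial.aeval (X 0 : B) Pw ∈
        Ideal.span {rho ((p : ℤ) ^ e), h0 Pw.coeff ε D} :=
      Ideal.span_mono (by intro x hx; rw [Set.mem_singleton_iff] at hx; rw [hx]; simp) hspec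
    have := Ideal.sub_mem _ h1 h2
    convert this using 1; ring
  constructor
  · rintro ⟨inst, hF⟩
    letI := inst
    set Ψ : B →+* Module.End ℤ T :=
      ((addMonoidEndRingEquivInt T).toRingHom.comp (Module.toAddMonoidEnd φ.range T)).comp
        φ.rangeRestrict.toRingHom with hΨ
    have hΨker : ∀ b : B, b ∈ RingHom.ker φ → Ψ b = 0 := by
      intro b hb
      have : φ.rangeRestrict b = 0 := by
        apply Subtype.ext
        exact hb
      simp only [hΨ, RingHom.comp_apply]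
      change (addMonoidEndRingEquivInt T).toRingHom
        ((Module.toAddMonoidEnd φ.range T) (φ.rangeRestrict b)) = 0
      rw [this, map_zero, map_zero]
    have hΨX0 : Ψ (X 0) = FT := by
      apply LinearMap.ext
      intro t
      exact hF t
    have hΨaeval : ∀ G : Polynomial ℤ, Ψ (Polynomial.aeval (X 0 : B) G) = Polynomial.aeval FT G := by
      intro G
      have key : Ψ.comp (Polynomial.aeval (X 0 : B)).toRingHom =
          (Polynomial.aeval FT : Polynomial ℤ →ₐ[ℤ] Module.End ℤ T).toRingHom := by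
        apply Polynomial.ringHom_ext
        · intro a
          rw [eq_intCast (Polynomial.C : ℤ →+* Polynomial ℤ) a, map_intCast, map_intCast]
        · simp only [RingHom.comp_apply, AlgHom.toRingHom_eq_coe, RingHom.coe_coe,
            Polynomial.aeval_X]
          exact hΨX0
      exact DFunLike.congr_fun key G
    refine ⟨?_, Ψ (X 1), ?_⟩
    · rw [← hΨaeval, hΨker _ hPwker]
    · have h1 : Ψ (X 0 * X 1) = Ψ (C ((p : ℤ) ^ e)) := by
        have := hΨker _ hρker
        rw [rho, map_sub, sub_eq_zero] at this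
        exact this
      rw [map_mul, hΨX0, eq_intCast (C : ℤ →+* B) ((p : ℤ) ^ e), map_intCast] at h1
      rw [← Module.End.mul_eq_comp, h1, ← Module.End.one_eq_id, zsmul_one]
  · rintro ⟨hPw0, VT, hFV⟩
    have hc0 : Pw.coeff 0 ≠ 0 := by
      rw [hc 0 (Nat.zero_le _), Nat.sub_zero, Nat.sub_zero, ← hdeg, hPwmonic.coeff_natDegree,
        mul_one]
      refine mul_ne_zero ?_ (pow_ne_zero _ hq)
      intro h0
      rw [h0, zero_mul] at hε
      exact zero_ne_one hε
    have hFinj : Function.Injective FT := inj_of_aeval FT Pw hPw0 hc0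
    have hVF : VT * FT = FT * VT := by
      apply LinearMap.ext
      intro t
      apply hFinj
      have h1 : FT (VT (FT t)) = (FT ∘ₗ VT) (FT t) := rfl
      have h2 : FT ((FT * VT) t) = FT ((FT ∘ₗ VT) t) := rfl
      rw [Module.End.mul_apply, h1, h2, hFV, LinearMap.smul_apply, LinearMap.smul_apply,
        LinearMap.id_apply, LinearMap.id_apply, map_zsmul]
    obtain ⟨ψ, hψ0, hψ1⟩ := exists_psi FT VT hVF.symm
    have hψker : RingHom.ker φ.rangeRestrict.toRingHom ≤ RingHom.ker ψ.toRingHom := by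
      have e0 : RingHom.ker φ.rangeRestrict.toRingHom = RingHom.ker φ := AlgHom.ker_rangeRestrict φ
      rw [e0, hker, Ideal.span_le]
      intro x hx
      rw [SetLike.mem_coe, RingHom.mem_ker]
      change ψ x = 0
      rcases hx with rfl | rfl
      · rw [map_sub, map_mul, hψ0, hψ1, eq_intCast (C : ℤ →+* B) ((p : ℤ) ^ e),
          map_intCast, Module.End.mul_eq_comp, hFV, ← Module.End.one_eq_id, zsmul_one, sub_self]
      · have h1 : ψ (X 0 ^ D * h0 Pw.coeff ε D - Polynomial.aeval (X 0 : B) Pw) = 0 := by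
          obtain ⟨w, hw⟩ := Ideal.mem_span_singleton'.mp hspec
          rw [← hw, map_mul]
          have : ψ (rho ((p : ℤ) ^ e)) = 0 := by
            rw [rho, map_sub, map_mul, hψ0, hψ1, eq_intCast (C : ℤ →+* B) ((p : ℤ) ^ e),
              map_intCast, Module.End.mul_eq_comp, hFV, ← Module.End.one_eq_id, zsmul_one,
              sub_self]
          rw [this, mul_zero]
        rw [map_sub, map_mul, map_pow, hψ0, ← Polynomial.aeval_algHom_apply, hψ0, hPw0,
          sub_zero] at h1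
        apply LinearMap.ext
        intro t
        have h2 := congrArg (fun f : Module.End ℤ T => f t) h1
        simp only [Module.End.mul_apply, LinearMap.zero_apply, Module.End.pow_apply] at h2
        exact (hFinj.iterate D) (by rw [h2, LinearMap.zero_apply, iterate_map_zero])
    let f : φ.range →+* Module.End ℤ T :=
      (φ.rangeRestrict.toRingHom).liftOfSurjective φ.rangeRestrict_surjective ⟨ψ.toRingHom, hψker⟩
    refine ⟨Module.compHom T f, ?_⟩
    intro t
    change (f (φ.rangeRestrict (X 0))) t = FT t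
    have := RingHom.liftOfSurjective_comp_apply (φ.rangeRestrict.toRingHom)
      φ.rangeRestrict_surjective ⟨ψ.toRingHom, hψker⟩ (X 0)
    change f (φ.rangeRestrict (X 0)) = ψ (X 0) at this
    rw [this, hψ0]

end Groth.Agent.Lib.H9WeilMod
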