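import Mathlib

set_option autoImplicit false
universe u v

namespace Groth.Agent.Lib.H9WittV

/-- arithmetic: `ℓ p^e + 1 = ℓ u + v p^e` with `v < ℓ` -/
lemma exists_uv (p ℓ e : ℕ) (hp : p.Prime) (hℓ : 0 < ℓ) (hpℓ : ¬ p ∣ ℓ) :
    ∃ v u : ℕ, v < ℓ ∧ ℓ * p ^ e + 1 = ℓ * u + v * p ^ e := by
  rcases Nat.lt_or_ge 1 ℓ with h1 | h1
  · have hcop : Nat.Coprime (p ^ e) ℓ :=
      Nat.Coprime.pow_left e ((Nat.Prime.coprime_iff_not_dvd hp).mpr hpℓ)
    obtain ⟨v, hvlt, hv⟩ := Nat.exists_mul_mod_eq_one_of_coprime hcop h1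
    have h2 := Nat.div_add_mod (p ^ e * v) ℓ
    rw [hv] at h2
    set k := p ^ e * v / ℓ with hk
    have h3 : p ^ e * v < p ^ e * ℓ :=
      Nat.mul_lt_mul_of_pos_left hvlt (pow_pos hp.pos e)
    have h4 : k < p ^ e := by
      by_contra hcon
      have hcon' : p ^ e ≤ k := not_lt.mp hcon
      have : ℓ * p ^ e ≤ ℓ * k := Nat.mul_le_mul_left ℓ hcon'
      nlinarith
    refine ⟨v, p ^ e - k, hvlt, ?_⟩
    have h5 : ℓ * (p ^ e - k) = ℓ * p ^ e - ℓ * k := Nat.mul_sub ℓ (p ^ e) k
    have h6 : ℓ * k ≤ ℓ * p ^ e := Nat.mul_le_mul_left ℓ h4.le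
    rw [h5]
    have : v * p ^ e = ℓ * k + 1 := by rw [mul_comm]; exact h2.symm
    omega
  · have : ℓ = 1 := by omega
    subst this
    exact ⟨0, p ^ e + 1, by omega, by ring⟩

variable {A B : Type u} [CommRing A] [CommRing B] [Algebra A B]

/-- the key divisibility: `c^{p^e} b ∈ A (b^v)^{p^e}` -/
lemma key_b (p ℓ : ℕ) (hp : p.Prime) (hℓ : 0 < ℓ) (hpℓ : ¬ p ∣ ℓ) (b : B) (c : A)
    (hc : algebraMap A B c = b ^ ℓ) (e : ℕ) :
    ∃ v < ℓ, ∃ x : A, algebraMap A B (c ^ p ^ e) * b = algebraMap A B x * (b ^ v) ^ p ^ e := by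
  obtain ⟨v, u, hv, huv⟩ := exists_uv p ℓ e hp hℓ hpℓ
  refine ⟨v, hv, c ^ u, ?_⟩
  rw [map_pow, map_pow, hc, ← pow_mul, ← pow_mul, ← pow_mul, ← pow_succ, huv, pow_add]



variable {A B : Type u} [CommRing A] [CommRing B] [Algebra A B] [IsDomain A] [IsDomain B]

lemma exists_c (ℓ : ℕ) (y : Finset B)
    (hpow : ∀ b ∈ y, b ^ ℓ ∈ Set.range (algebraMap A B)) :
    ∃ c : B → A, (∀ b ∈ y, b ≠ 0 → algebraMap A B (c b) = b ^ ℓ) ∧ ∀ b, c b ≠ 0 := by
  classical
  refine ⟨fun b => if h : b ∈ y ∧ b ≠ 0 then Classical.choose (hpow b h.1) else 1, ?_, ?_⟩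
  · intro b hb hb0
    simp only [dif_pos (And.intro hb hb0)]
    exact Classical.choose_spec (hpow b hb)
  · intro b
    by_cases h : b ∈ y ∧ b ≠ 0
    · simp only [dif_pos h]
      intro h0
      have h1 := Classical.choose_spec (hpow b h.1)
      rw [h0, map_zero] at h1
      exact h.2 (pow_eq_zero_iff (by
        intro hl; rw [hl, pow_zero] at h1; exact zero_ne_one h1) |>.mp h1.symm)
    · simp only [dif_neg h]
      exact one_ne_zero

lemma Hprime (p ℓ n : ℕ) (hp : p.Prime) (hℓ : 0 < ℓ) (hpℓ : ¬ p ∣ ℓ)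
    (y : Finset B) (hspan : Submodule.span A (y : Set B) = ⊤)
    (hpow : ∀ b ∈ y, b ^ ℓ ∈ Set.range (algebraMap A B)) :
    ∃ a : A, a ≠ 0 ∧ ∀ (i : ℕ) (r : B), ∃ (u' : B × ℕ → B) (x : B × ℕ → A),
      r = ∑ j ∈ y ×ˢ Finset.range ℓ, u' j ∧
      ∀ j ∈ y ×ˢ Finset.range ℓ,
        algebraMap A B a ^ p ^ i * u' j = algebraMap A B (x j) * (j.1 ^ j.2) ^ p ^ (n + i) := by
  classical
  obtain ⟨c, hc, hc0⟩ := exists_c ℓ y hpow
  refine ⟨∏ b ∈ y, c b ^ p ^ n, ?_, ?_⟩
  · rw [Finset.prod_ne_zero_iff]
    intro b _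
    exact pow_ne_zero _ (hc0 b)
  intro i r
  have hr : r ∈ Submodule.span A (y : Set B) := by rw [hspan]; trivial
  obtain ⟨f, -, hf⟩ := Submodule.mem_span_finset.mp hr
  have claim : ∀ b ∈ y, ∃ v < ℓ, ∃ x : A,
      algebraMap A B (∏ b ∈ y, c b ^ p ^ n) ^ p ^ i * (f b • b) =
        algebraMap A B x * (b ^ v) ^ p ^ (n + i) := by
    intro b hb
    by_cases hb0 : b = 0
    · refine ⟨0, hℓ, 0, ?_⟩
      rw [hb0, smul_zero, mul_zero, map_zero, zero_mul]
    · obtain ⟨v, hv, x₀, hx₀⟩ := key_b p ℓ hp hℓ hpℓ b (c b) (hc b hb hb0) (n + i)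
      set d := ∏ b' ∈ y.erase b, c b' ^ p ^ n with hd
      refine ⟨v, hv, d ^ p ^ i * f b * x₀, ?_⟩
      have e0 : ∏ b ∈ y, c b ^ p ^ n = c b ^ p ^ n * d := (Finset.mul_prod_erase y _ hb).symm
      have e1 : (c b ^ p ^ n * d) ^ p ^ i = c b ^ p ^ (n + i) * d ^ p ^ i := by
        rw [mul_pow, ← pow_mul, ← pow_add]
      rw [e0, ← map_pow, e1, Algebra.smul_def]
      simp only [map_mul]
      calc algebraMap A B (c b ^ p ^ (n + i)) * algebraMap A B (d ^ p ^ i) *
            (algebraMap A B (f b) * b)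
          = algebraMap A B (d ^ p ^ i) * algebraMap A B (f b) *
              (algebraMap A B (c b ^ p ^ (n + i)) * b) := by ring
        _ = _ := by rw [hx₀]; ring
  choose! v hv x hx using claim
  refine ⟨fun j => if j.2 = v j.1 then f j.1 • j.1 else 0,
    fun j => if j.2 = v j.1 then x j.1 else 0, ?_, ?_⟩
  · rw [Finset.sum_product, ← hf]
    apply Finset.sum_congr rfl
    intro b hb
    simp only
    rw [Finset.sum_ite_eq' (Finset.range ℓ) (v b) (fun _ => f b • b),
      if_pos (Finset.mem_range.mpr (hv b hb))]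
  · intro j hj
    rw [Finset.mem_product] at hj
    by_cases hjv : j.2 = v j.1
    · simp only [if_pos hjv]
      rw [hjv]
      exact hx j.1 hj.1
    · simp only [if_neg hjv]
      rw [mul_zero, map_zero, zero_mul]


open WittVector

section general
variable {p : ℕ} [hp : Fact p.Prime] {R : Type*} [CommRing R]

/-- decomposition `w = [w₀] + V(shift w 1)` -/
lemma decomp (w : WittVector p R) :
    w = teichmuller p (w.coeff 0) + verschiebung (w.shift 1) := by
  ext k
  rw [coeff_add_of_disjoint]
  · cases k with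
    | zero => rw [teichmuller_coeff_zero, verschiebung_coeff_zero, add_zero]
    | succ k =>
      rw [teichmuller_coeff_pos _ _ _ (Nat.succ_pos k), verschiebung_coeff_succ, shift_coeff,
        zero_add, add_comm]
  · intro k
    cases k with
    | zero => right; exact verschiebung_coeff_zero _
    | succ k => left; exact teichmuller_coeff_pos _ _ _ (Nat.succ_pos k)

lemma shift_zero (w : WittVector p R) : w.shift 0 = w := by
  ext k
  rw [shift_coeff, zero_add]

lemma shift_shift_one (w : WittVector p R) (N : ℕ) : (w.shift N).shift 1 = w.shift (N + 1) := by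
  ext k
  rw [shift_coeff, shift_coeff, shift_coeff, add_assoc]

lemma frobenius_teichmuller [CharP R p] (r : R) :
    frobenius (teichmuller p r) = teichmuller p (r ^ p) := by
  ext k
  rw [coeff_frobenius_charP]
  cases k with
  | zero => rw [teichmuller_coeff_zero, teichmuller_coeff_zero]
  | succ k =>
    rw [teichmuller_coeff_pos _ _ _ (Nat.succ_pos k), teichmuller_coeff_pos _ _ _ (Nat.succ_pos k),
      zero_pow hp.out.ne_zero]

lemma iterate_frobenius_teichmuller [CharP R p] (r : R) (i : ℕ) :
    frobenius^[i] (teichmuller p r) = teichmuller p (r ^ p ^ i) := by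
  induction i with
  | zero => simp
  | succ i ih =>
    rw [Function.iterate_succ_apply', ih, frobenius_teichmuller, ← pow_mul, ← pow_succ]

lemma iterate_verschiebung_sum {ι : Type*} (s : Finset ι) (f : ι → WittVector p R) (n : ℕ) :
    verschiebung^[n] (∑ j ∈ s, f j) = ∑ j ∈ s, verschiebung^[n] (f j) := by
  induction n with
  | zero => simp
  | succ n ih =>
    simp only [Function.iterate_succ_apply']
    rw [ih, map_sum]

lemma map_iterate_verschiebung {S : Type*} [CommRing S] (f : R →+* S) (x : WittVector p R)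
    (n : ℕ) : WittVector.map f (verschiebung^[n] x) = verschiebung^[n] (WittVector.map f x) := by
  induction n with
  | zero => simp
  | succ n ih =>
    simp only [Function.iterate_succ_apply']
    rw [map_verschiebung, ih]

end general

variable {p : ℕ} [hp : Fact p.Prime]
variable {A B : Type u} [CommRing A] [CommRing B] [Algebra A B]

/-- one approximation step -/
lemma step {ι : Type*} (a' : B) (s : Finset ι) (γ : ι → B)
    (hH : ∀ r : B, ∃ (u' : ι → B) (x : ι → A), r = ∑ j ∈ s, u' j ∧
      ∀ j ∈ s, a' * u' j = algebraMap A B (x j) * γ j)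
    (w : WittVector p B) :
    ∃ (x : ι → A) (w' : WittVector p B),
      teichmuller p a' * w =
        ∑ j ∈ s, teichmuller p (algebraMap A B (x j)) * teichmuller p (γ j) +
          teichmuller p a' * verschiebung w' := by
  obtain ⟨u', x, hsum, hx⟩ := hH (w.coeff 0)
  set z : WittVector p B := teichmuller p (w.coeff 0) - ∑ j ∈ s, teichmuller p (u' j) with hz
  have hz0 : ∀ i < 1, z.coeff i = 0 := by
    intro i hi
    have hi0 : i = 0 := by omega
    subst hi0
    have : z.coeff 0 = constantCoeff z := rfl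
    rw [this, hz, map_sub, map_sum]
    have e1 : constantCoeff (teichmuller p (w.coeff 0)) = w.coeff 0 := teichmuller_coeff_zero p _
    have e2 : ∀ j ∈ s, constantCoeff (teichmuller p (u' j)) = u' j :=
      fun j _ => teichmuller_coeff_zero p _
    rw [e1, Finset.sum_congr rfl e2, ← hsum, sub_self]
  have hzV : z = verschiebung (z.shift 1) := by
    have := eq_iterate_verschiebung hz0
    simpa using this
  refine ⟨x, z.shift 1 + w.shift 1, ?_⟩
  have hw := decomp w
  have e3 : teichmuller p (w.coeff 0) = ∑ j ∈ s, teichmuller p (u' j) + verschiebung (z.shift 1) := by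
    rw [← hzV, hz]; ring
  have e4 : ∀ j ∈ s, teichmuller p a' * teichmuller p (u' j) =
      teichmuller p (algebraMap A B (x j)) * teichmuller p (γ j) := by
    intro j hj
    rw [← map_mul, ← map_mul, hx j hj]
  calc teichmuller p a' * w
      = teichmuller p a' * (∑ j ∈ s, teichmuller p (u' j) + verschiebung (z.shift 1) +
          verschiebung (w.shift 1)) := by rw [← e3, ← hw]
    _ = ∑ j ∈ s, teichmuller p a' * teichmuller p (u' j) +
          teichmuller p a' * verschiebung (z.shift 1 + w.shift 1) := by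
        rw [map_add, mul_add, mul_add, mul_add, Finset.mul_sum]; ring
    _ = _ := by rw [Finset.sum_congr rfl e4]


open WittVector

variable {p : ℕ} [hp : Fact p.Prime]
variable {A B : Type u} [CommRing A] [CommRing B] [Algebra A B]

/-- passage to the limit -/
lemma limit [CharP B p] {ι : Type*} (a' : B) (s : Finset ι) (g : ι → WittVector p B)
    (η : WittVector p B) (xs : ℕ → ι → A) (ws : ℕ → WittVector p B) (h0 : ws 0 = η)
    (hstep : ∀ i, teichmuller p (a' ^ p ^ i) * ws i =
      ∑ j ∈ s, teichmuller p (algebraMap A B (xs i j)) * frobenius^[i] (g j) +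
        teichmuller p (a' ^ p ^ i) * verschiebung (ws (i + 1))) :
    teichmuller p a' * η =
      ∑ j ∈ s, WittVector.map (algebraMap A B) (WittVector.mk p (fun i => xs i j)) * g j := by
  set X : ι → WittVector p A := fun j => WittVector.mk p (fun i => xs i j) with hX
  set E : ℕ → WittVector p B := fun N => teichmuller p (a' ^ p ^ N) * ws N -
    ∑ j ∈ s, WittVector.map (algebraMap A B) ((X j).shift N) * frobenius^[N] (g j) with hE
  have hXs : ∀ j N, WittVector.map (algebraMap A B) ((X j).shift N) =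
      teichmuller p (algebraMap A B (xs N j)) +
        verschiebung (WittVector.map (algebraMap A B) ((X j).shift (N + 1))) := by
    intro j N
    have h1 := decomp ((X j).shift N)
    rw [shift_shift_one, shift_coeff, add_zero] at h1
    have h2 : (X j).coeff N = xs N j := rfl
    rw [h2] at h1
    conv_lhs => rw [h1]
    rw [map_add, map_teichmuller, map_verschiebung]
  have hEV : ∀ N, E N = verschiebung (E (N + 1)) := by
    intro N
    simp only [hE]
    rw [hstep N, map_sub, map_sum]
    have e1 : verschiebung (teichmuller p (a' ^ p ^ (N + 1)) * ws (N + 1)) =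
        teichmuller p (a' ^ p ^ N) * verschiebung (ws (N + 1)) := by
      have : teichmuller p (a' ^ p ^ (N + 1)) = frobenius (teichmuller p (a' ^ p ^ N)) := by
        rw [frobenius_teichmuller, ← pow_mul, ← pow_succ]
      rw [this, mul_comm, verschiebung_mul_frobenius, mul_comm]
    have e2 : ∀ j ∈ s, verschiebung (WittVector.map (algebraMap A B) ((X j).shift (N + 1)) *
        frobenius^[N + 1] (g j)) =
        verschiebung (WittVector.map (algebraMap A B) ((X j).shift (N + 1))) *
          frobenius^[N] (g j) := by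
      intro j _
      rw [Function.iterate_succ_apply', verschiebung_mul_frobenius]
    rw [e1, Finset.sum_congr rfl e2]
    have e3 : ∑ j ∈ s, WittVector.map (algebraMap A B) ((X j).shift N) * frobenius^[N] (g j) =
        ∑ j ∈ s, teichmuller p (algebraMap A B (xs N j)) * frobenius^[N] (g j) +
          ∑ j ∈ s, verschiebung (WittVector.map (algebraMap A B) ((X j).shift (N + 1))) *
            frobenius^[N] (g j) := by
      rw [← Finset.sum_add_distrib]
      apply Finset.sum_congr rfl
      intro j _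
      rw [hXs j N, add_mul]
    rw [e3]
    ring
  have hiter : ∀ N, E 0 = verschiebung^[N] (E N) := by
    intro N
    induction N with
    | zero => rfl
    | succ N ih =>
      rw [Function.iterate_succ_apply, ← hEV N]
      exact ih
  have hE0 : E 0 = 0 := by
    ext k
    rw [hiter (k + 1), iterate_verschiebung_coeff_eq_zero _ (Nat.lt_succ_self k), zero_coeff]
  have hE0' : E 0 = teichmuller p a' * η -
      ∑ j ∈ s, WittVector.map (algebraMap A B) (X j) * g j := by
    simp only [hE, pow_zero, pow_one, h0, shift_zero, Function.iterate_zero, id_eq]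
  rw [hE0'] at hE0
  exact sub_eq_zero.mp hE0


open WittVector

/-- uniform version of S18587 -/
theorem uniform (p : ℕ) [Fact p.Prime] (ℓ n : ℕ) (hℓ : 0 < ℓ) (hpℓ : ¬ p ∣ ℓ)
    (A B : Type u) [CommRing A] [CommRing B] [IsDomain A] [IsDomain B] [Algebra A B]
    [CharP A p] [CharP B p]
    (y : Finset B) (hspan : Submodule.span A (y : Set B) = ⊤)
    (hpow : ∀ b ∈ y, b ^ ℓ ∈ Set.range (algebraMap A B)) :
    ∃ a : A, a ≠ 0 ∧ ∀ η : WittVector p B,
      WittVector.teichmuller p (algebraMap A B a) *
        (⇑(WittVector.verschiebung : WittVector p B →+ WittVector p B))^[n] η ∈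
      Ideal.span (Set.range (fun x : WittVector p A =>
        WittVector.map (algebraMap A B)
          ((⇑(WittVector.verschiebung : WittVector p A →+ WittVector p A))^[n] x))) := by
  classical
  have hp : p.Prime := Fact.out
  obtain ⟨a, ha0, hH⟩ := Hprime p ℓ n hp hℓ hpℓ y hspan hpow
  refine ⟨a, ha0, ?_⟩
  intro η
  set s := y ×ˢ Finset.range ℓ with hs
  set a' : B := algebraMap A B a with ha'
  -- the approximation steps
  have hstep : ∀ (i : ℕ) (w : WittVector p B), ∃ (x : B × ℕ → A) (w' : WittVector p B),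
      teichmuller p (a' ^ p ^ i) * w =
        ∑ j ∈ s, teichmuller p (algebraMap A B (x j)) *
            teichmuller p ((j.1 ^ j.2) ^ p ^ (n + i)) +
          teichmuller p (a' ^ p ^ i) * verschiebung w' := by
    intro i w
    exact step (a' ^ p ^ i) s (fun j => (j.1 ^ j.2) ^ p ^ (n + i)) (hH i) w
  choose stepx stepw hstepeq using hstep
  set ws : ℕ → WittVector p B := fun i => Nat.rec η (fun i w => stepw i w) i with hws
  have hws0 : ws 0 = η := rfl
  have hwss : ∀ i, ws (i + 1) = stepw i (ws i) := fun i => rfl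
  set xs : ℕ → B × ℕ → A := fun i => stepx i (ws i) with hxs
  set g : B × ℕ → WittVector p B := fun j => teichmuller p ((j.1 ^ j.2) ^ p ^ n) with hg
  have hlim := limit (p := p) (A := A) a' s g η xs ws hws0 (by
    intro i
    have h1 := hstepeq i (ws i)
    rw [hwss i]
    convert h1 using 3
    rename_i j _
    simp only [hg]
    rw [iterate_frobenius_teichmuller, ← pow_mul, ← pow_add])
  set X : B × ℕ → WittVector p A := fun j => WittVector.mk p (fun i => xs i j) with hX
  -- move the Teichmüller factor inside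
  have h1 : teichmuller p a' * verschiebung^[n] η =
      verschiebung^[n] (η * teichmuller p (a' ^ p ^ n)) := by
    rw [mul_comm, iterate_verschiebung_mul_left, iterate_frobenius_teichmuller]
  have h2 : η * teichmuller p (a' ^ p ^ n) =
      ∑ j ∈ s, WittVector.map (algebraMap A B) (teichmuller p (a ^ (p ^ n - 1)) * X j) *
        frobenius^[n] (teichmuller p (j.1 ^ j.2)) := by
    have hpn : p ^ n = (p ^ n - 1) + 1 := (Nat.sub_add_cancel (Nat.one_le_pow _ _ hp.pos)).symm
    have e1 : teichmuller p (a' ^ p ^ n) =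
        teichmuller p (a' ^ (p ^ n - 1)) * teichmuller p a' := by
      rw [← map_mul, ← pow_succ, ← hpn]
    rw [e1, mul_comm η, mul_assoc, hlim, Finset.mul_sum]
    apply Finset.sum_congr rfl
    intro j _
    simp only [hg]
    rw [iterate_frobenius_teichmuller, map_mul, map_teichmuller, mul_assoc,
      map_pow (algebraMap A B)]
  have h3 : ∀ j ∈ s, verschiebung^[n]
      (WittVector.map (algebraMap A B) (teichmuller p (a ^ (p ^ n - 1)) * X j) *
        frobenius^[n] (teichmuller p (j.1 ^ j.2))) =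
      WittVector.map (algebraMap A B)
        (verschiebung^[n] (teichmuller p (a ^ (p ^ n - 1)) * X j)) *
          teichmuller p (j.1 ^ j.2) := by
    intro j _
    rw [← iterate_verschiebung_mul_left, map_iterate_verschiebung]
  rw [h1, h2, iterate_verschiebung_sum, Finset.sum_congr rfl h3]
  apply Ideal.sum_mem
  intro j _
  apply Ideal.mul_mem_right
  apply Ideal.subset_span
  exact ⟨_, rfl⟩


open WittVector

theorem thm587 (p : ℕ) [Fact p.Prime] (ℓ n : ℕ) (hℓ : 0 < ℓ) (hpℓ : ¬ p ∣ ℓ)
    (A B : Type u) [CommRing A] [CommRing B] [IsDomain A] [IsDomain B] [Algebra A B]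
    [CharP A p] [CharP B p]
    (y : Finset B) (hspan : Submodule.span A (y : Set B) = ⊤)
    (hpow : ∀ b ∈ y, b ^ ℓ ∈ Set.range (algebraMap A B))
    (ζ : WittVector p B)
    (hζ : ∃ η : WittVector p B, (⇑(WittVector.verschiebung : WittVector p B →+ WittVector p B))^[n] η = ζ) :
    ∃ a : A, a ≠ 0 ∧ WittVector.teichmuller p (algebraMap A B a) * ζ ∈
      Ideal.span (Set.range (fun x : WittVector p A =>
        WittVector.map (algebraMap A B) ((⇑(WittVector.verschiebung : WittVector p A →+ WittVector p A))^[n] x))) := by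
  obtain ⟨a, ha0, ha⟩ := uniform p ℓ n hℓ hpℓ A B y hspan hpow
  obtain ⟨η, rfl⟩ := hζ
  exact ⟨a, ha0, ha η⟩

theorem thm588 (p : ℕ) [Fact p.Prime] (ℓ n : ℕ) (hℓ : 0 < ℓ) (hpℓ : ¬ p ∣ ℓ)
    (A B : Type u) [CommRing A] [CommRing B] [IsDomain A] [IsDomain B] [Algebra A B]
    [CharP A p] [CharP B p]
    (y : Finset B) (hspan : Submodule.span A (y : Set B) = ⊤)
    (hpow : ∀ b ∈ y, b ^ ℓ ∈ Set.range (algebraMap A B))
    (M : Type v) [AddCommGroup M] [Module (WittVector p A) M]
    (hMn : ∀ (x : WittVector p A) (m : M),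
      ((⇑(WittVector.verschiebung : WittVector p A →+ WittVector p A))^[n] x) • m = 0)
    (htf : ∀ a : A, a ≠ 0 → ∀ m : M, WittVector.teichmuller p a • m = 0 → m = 0)
    (ψ : WittVector p B →+ M)
    (hψ : ∀ (x : WittVector p A) (w : WittVector p B),
      ψ (WittVector.map (algebraMap A B) x * w) = x • ψ w)
    (η : WittVector p B) :
    ψ ((⇑(WittVector.verschiebung : WittVector p B →+ WittVector p B))^[n] η) = 0 := by
  obtain ⟨a, ha0, ha⟩ := uniform p ℓ n hℓ hpℓ A B y hspan hpow
  have key : ∀ z ∈ Ideal.span (Set.range (fun x : WittVector p A =>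
        WittVector.map (algebraMap A B)
          ((⇑(WittVector.verschiebung : WittVector p A →+ WittVector p A))^[n] x))),
      ∀ w : WittVector p B, ψ (z * w) = 0 := by
    intro z hz
    induction hz using Submodule.span_induction with
    | mem z hz =>
      obtain ⟨x, rfl⟩ := hz
      intro w
      simp only
      rw [hψ, hMn]
    | zero => intro w; rw [zero_mul, map_zero]
    | add z1 z2 _ _ h1 h2 => intro w; rw [add_mul, map_add, h1, h2, add_zero]
    | smul r z _ h1 =>
      intro w
      rw [smul_eq_mul, mul_comm r z, mul_assoc]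
      exact h1 _
  have h1 := key _ (ha η) 1
  rw [mul_one, ← map_teichmuller, hψ] at h1
  exact htf a ha0 _ h1

end Groth.Agent.Lib.H9WittV
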