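import Mathlib
import Groth.Agent.Lib.H9YBlowUp
import Groth.Agent.S2332
import Groth.Agent.S2359
import Groth.Agent.Lib.Helper11SchImage

/-! Two Y-blow-ups are dominated by a third (S17891): scheme-theoretic image of Y in X₂ ×_X X₁ with pr₂^*L₂ ⊗ pr₁^*L₁^n (S2332 base change, S2331 composition, S2359 restriction to closed subscheme) (helper9). -/

set_option autoImplicit false
set_option linter.style.haveILetI false
set_option linter.unusedSimpArgs false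
set_option linter.unusedVariables false
universe u

namespace Groth.Agent.Lib.H9YBlowUpDom

open CategoryTheory CategoryTheory.Limits AlgebraicGeometry TopologicalSpace

-- ===== part YBlow3 =====
section

open Groth.Agent.Lib.Helper23.AmpleIso Groth.Agent.Lib.Helper23.SecTw Groth.Agent.Lib.Helper23.AmpleComp
open Groth.Agent.Lib.Helper23.PB Groth.Agent.Lib.H9YBlowUp

theorem main {X Y : Scheme.{u}} (f : Y ⟶ X)
    [CompactSpace X] [QuasiSeparatedSpace X] [CompactSpace Y] [QuasiSeparatedSpace Y] [IsAffineHom f]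
    {X₁ X₂ : Scheme.{u}} (f₁ : Y ⟶ X₁) (g₁ : X₁ ⟶ X) (f₂ : Y ⟶ X₂) (g₂ : X₂ ⟶ X)
    (h₁ : IsSchemeTheoreticallyDominant f₁ ∧ IsProper g₁ ∧ f₁ ≫ g₁ = f ∧
        ∃ (L : X₁.Modules) (ε : Coh.structureModule X₁ ⟶ L),
          RelAmple.IsRelAmple g₁ L ∧ IsIso ((Scheme.Modules.pullback f₁).map ε))
    (h₂ : IsSchemeTheoreticallyDominant f₂ ∧ IsProper g₂ ∧ f₂ ≫ g₂ = f ∧
        ∃ (L : X₂.Modules) (ε : Coh.structureModule X₂ ⟶ L),
          RelAmple.IsRelAmple g₂ L ∧ IsIso ((Scheme.Modules.pullback f₂).map ε)) :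
    ∃ (X₃ : Scheme.{u}) (f₃ : Y ⟶ X₃) (g₃ : X₃ ⟶ X) (d₁ : X₃ ⟶ X₁) (d₂ : X₃ ⟶ X₂),
      (IsSchemeTheoreticallyDominant f₃ ∧ IsProper g₃ ∧ f₃ ≫ g₃ = f ∧
        ∃ (L : X₃.Modules) (ε : Coh.structureModule X₃ ⟶ L),
          RelAmple.IsRelAmple g₃ L ∧ IsIso ((Scheme.Modules.pullback f₃).map ε)) ∧
      f₃ ≫ d₁ = f₁ ∧ d₁ ≫ g₁ = g₃ ∧ f₃ ≫ d₂ = f₂ ∧ d₂ ≫ g₂ = g₃ := by
  obtain ⟨-, hp1, hf1, L₁, ε₁, hL₁, hε₁⟩ := h₁
  obtain ⟨-, hp2, hf2, L₂, ε₂, hL₂, hε₂⟩ := h₂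
  haveI := hp1
  haveI := hp2
  have hL₁inv : PicF.IsInvertible L₁ := isInvertible_of_isRelAmple g₁ L₁ hL₁
  have hL₂inv : PicF.IsInvertible L₂ := isInvertible_of_isRelAmple g₂ L₂ hL₂
  -- the fibre product and the map from `Y`
  let h : Y ⟶ pullback g₂ g₁ := pullback.lift f₂ f₁ (by rw [hf1, hf2])
  haveI : CompactSpace ↥(pullback g₂ g₁) :=
    QuasiCompact.compactSpace_of_compactSpace (pullback.snd g₂ g₁ ≫ g₁)
  haveI : QuasiSeparatedSpace ↥(pullback g₂ g₁) :=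
    quasiSeparatedSpace_of_quasiSeparated (pullback.snd g₂ g₁ ≫ g₁)
  haveI : QuasiCompact h := inferInstance
  -- ampleness on the fibre product
  have hM : RelAmple.IsRelAmple (pullback.snd g₂ g₁)
      ((Scheme.Modules.pullback (pullback.fst g₂ g₁)).obj L₂) := Groth.Agent.S2332.result g₂ g₁ L₂ hL₂
  have hMinv : PicF.IsInvertible ((Scheme.Modules.pullback (pullback.fst g₂ g₁)).obj L₂) :=
    isInvertible_pullback _ _ hL₂inv
  obtain ⟨n₀, hn₀, hn⟩ := Groth.Agent.S2331.result (pullback.snd g₂ g₁) g₁ _ L₁ hM hL₁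
  have hpow : PicF.IsInvertible (CohB1.tensorPow L₁ n₀) := isInvertible_tensorPow hL₁inv n₀
  have hpb : PicF.IsInvertible ((Scheme.Modules.pullback (pullback.snd g₂ g₁)).obj (CohB1.tensorPow L₁ n₀)) :=
    isInvertible_pullback _ _ hpow
  obtain ⟨N, hN⟩ : ∃ N : (pullback g₂ g₁).Modules, N =
      CohB1.tensorMod ((Scheme.Modules.pullback (pullback.fst g₂ g₁)).obj L₂)
        ((Scheme.Modules.pullback (pullback.snd g₂ g₁)).obj (CohB1.tensorPow L₁ n₀)) := ⟨_, rfl⟩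
  have hNamp : RelAmple.IsRelAmple (pullback.snd g₂ g₁ ≫ g₁) N := hN ▸ hn n₀ le_rfl
  have hNinv : PicF.IsInvertible N := hN ▸ isInvertible_tensorMod hMinv hpb
  obtain ⟨σ, hσ⟩ : ∃ σ : Coh.structureModule (pullback g₂ g₁) ⟶ N,
      CohB1.genLocus N σ = pullback.fst g₂ g₁ ⁻¹ᵁ CohB1.genLocus L₂ ε₂ ⊓
        pullback.snd g₂ g₁ ⁻¹ᵁ CohB1.genLocus L₁ ε₁ := by
    subst hN
    refine ⟨SecTwist.tmulHom ((pullbackUnitIso _).symm.hom ≫ (Scheme.Modules.pullback _).map ε₂)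
      ((pullbackUnitIso _).symm.hom ≫ (Scheme.Modules.pullback _).map (SecTwist.powHom ε₁ n₀)), ?_⟩
    rw [genLocus_tmulHom hMinv hpb, genLocus_pullback _ _ hL₂inv, genLocus_pullback _ _ hpow,
      genLocus_powHom hL₁inv ε₁ n₀ hn₀]
  -- the scheme-theoretic image
  haveI : QuasiCompact h.imageι := inferInstance
  have hemb : Topology.IsEmbedding h.imageι.base := h.imageι.isEmbedding
  have hamp3 := Groth.Agent.S2359.result (pullback.snd g₂ g₁ ≫ g₁) h.imageι hemb N hNamp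
  have hfac1 : h ≫ pullback.snd g₂ g₁ = f₁ := pullback.lift_snd _ _ _
  have hfac2 : h ≫ pullback.fst g₂ g₁ = f₂ := pullback.lift_fst _ _ _
  refine ⟨h.image, h.toImage, h.imageι ≫ pullback.snd g₂ g₁ ≫ g₁, h.imageι ≫ pullback.snd g₂ g₁,
    h.imageι ≫ pullback.fst g₂ g₁, ⟨inferInstance, inferInstance, ?_, (Scheme.Modules.pullback h.imageι).obj N,
      (pullbackUnitIso h.imageι).symm.hom ≫ (Scheme.Modules.pullback h.imageι).map σ, hamp3, ?_⟩, ?_, ?_, ?_, ?_⟩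
  · rw [h.toImage_imageι_assoc, reassoc_of% hfac1, hf1]
  · rw [isIso_pullback_map_iff h.toImage _ (isInvertible_pullback _ _ hNinv), genLocus_pullback _ _ hNinv, hσ,
      ← Scheme.Hom.comp_preimage, h.toImage_imageι, Scheme.Hom.preimage_inf, ← Scheme.Hom.comp_preimage,
      ← Scheme.Hom.comp_preimage, hfac1, hfac2]
    rw [isIso_pullback_map_iff f₂ L₂ hL₂inv] at hε₂
    rw [isIso_pullback_map_iff f₁ L₁ hL₁inv] at hε₁
    rw [hε₁, hε₂, top_inf_eq]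
  · rw [h.toImage_imageι_assoc, hfac1]
  · rw [Category.assoc]
  · rw [h.toImage_imageι_assoc, hfac2]
  · rw [Category.assoc, pullback.condition]

end

end Groth.Agent.Lib.H9YBlowUpDom
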