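import Mathlib
import Groth.Prelude
import Groth.Agent.Lib.Helper10CurveFin
import Groth.Agent.Lib.Helper10CurveFlat
import Groth.Agent.Lib.Helper10DedFlat
import Groth.Agent.Lib.Helper6SmRegSch
import Groth.Agent.S9705

/-! helper9: S18267. `nontrivial_of_dim_one`, `main` (k field, C integral smooth quasi-compact curve over k, X proper over k, Z ⊂ C ×_k X integral closed of dimension 1 surjecting onto C ⇒ Z → C finite and flat; assembles Helper10CurveFin.finite_preimage_singleton + Mathlib ZMT + Helper10CurveFlat.main), `main18267`. -/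

set_option autoImplicit false
universe u

namespace Groth.Agent.Lib.H9ZCorr

open CategoryTheory CategoryTheory.Limits AlgebraicGeometry TopologicalSpace Opposite

/-- a space of dimension `1` has at least two points -/
theorem nontrivial_of_dim_one {T : Type*} [TopologicalSpace T] (h : topologicalKrullDim T = 1) :
    Nontrivial T := by
  by_contra hn
  rw [not_nontrivial_iff_subsingleton] at hn
  have h0 : topologicalKrullDim T ≤ 0 := by
    unfold topologicalKrullDim
    haveI : Subsingleton (IrreducibleCloseds T) := ⟨fun a b => by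
      apply IrreducibleCloseds.ext
      obtain ⟨x, hx⟩ := a.isIrreducible'.nonempty
      obtain ⟨y, hy⟩ := b.isIrreducible'.nonempty
      ext z
      constructor
      · intro _
        rw [Subsingleton.elim z y]; exact hy
      · intro _
        rw [Subsingleton.elim z x]; exact hx⟩
    apply Order.krullDim_nonpos_of_subsingleton
  rw [h] at h0
  exact absurd h0 (by decide)

/-- general form of S18267 -/
theorem main (k : Type u) [Field k] (C X Z : Scheme.{u}) (qC : C ⟶ Spec (CommRingCat.of k))
    (qX : X ⟶ Spec (CommRingCat.of k)) [IsIntegral C] [Smooth qC] [QuasiCompact qC]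
    (hdimC : topologicalKrullDim C = 1) [IsProper qX]
    (i : Z ⟶ pullback qC qX) [IsClosedImmersion i] [IsIntegral Z] (hdimZ : topologicalKrullDim Z = 1)
    (hsurj : Function.Surjective ⇑(i ≫ pullback.fst qC qX)) :
    IsFinite (i ≫ pullback.fst qC qX) ∧ Flat (i ≫ pullback.fst qC qX) := by
  set p := i ≫ pullback.fst qC qX with hp
  haveI : Nontrivial C := nontrivial_of_dim_one hdimC
  have hrange : (Set.range p.base).Nontrivial := by
    rw [Set.range_eq_univ.mpr hsurj]
    exact Set.nontrivial_univ
  haveI : IsProper p := by rw [hp]; infer_instance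
  haveI : LocallyOfFiniteType (p ≫ qC) := inferInstance
  haveI : IsLocallyNoetherian Z := LocallyOfFiniteType.isLocallyNoetherian (p ≫ qC)
  haveI : CompactSpace Z := QuasiCompact.compactSpace_of_compactSpace (p ≫ qC)
  haveI : IsNoetherian Z := {}
  constructor
  · have hcomp : ∀ W ∈ irreducibleComponents (Z : Type u), topologicalKrullDim W = 1 →
        (p.base '' W).Nontrivial := by
      intro W hW _
      have hWu : W = Set.univ := by
        have := hW.2 (IrreducibleSpace.isIrreducible_univ Z) (Set.subset_univ W)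
        exact Set.eq_univ_of_univ_subset this
      rw [hWu, Set.image_univ]
      exact hrange
    haveI : LocallyQuasiFinite p := LocallyQuasiFinite.of_finite_preimage_singleton p
      (fun y => Groth.Agent.Lib.Helper10.CurveFin.finite_preimage_singleton hdimZ.le p
        p.continuous p.isClosedMap hcomp y)
    exact IsFinite.of_isProper_of_locallyQuasiFinite p
  · refine Groth.Agent.Lib.Helper10.CurveFlat.main k Z C qC hdimC (fun y => ⟨inferInstance, ?_⟩) p hrange
    haveI := Groth.Agent.Lib.Helper6.SmRegSch.isRegularLocalRing_stalk_of_smooth_over_field k C qC y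
    haveI : IsLocallyNoetherian C := LocallyOfFiniteType.isLocallyNoetherian qC
    have hk : Ring.KrullDimLE 1 (C.presheaf.stalk y) :=
      krullDimLE_of_coheight_le
        (Groth.Agent.Lib.Helper10.CurveFlat.coheight_le_of_topologicalKrullDim_le C 1
          (by exact_mod_cast hdimC.le) y)
    haveI := Groth.Agent.Lib.Helper10.DedFlat.isPrincipalIdealRing_of_regular (C.presheaf.stalk y)
      (Ring.krullDimLE_iff.mp hk)
    infer_instance

/-- **S18267** -/
theorem main18267
    (C X : Scheme.{0}) [C.Over (Spec (CommRingCat.of ℂ))] [X.Over (Spec (CommRingCat.of ℂ))]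
    [AlgebraicGeometry.IsIntegral C] [Smooth (C ↘ Spec (CommRingCat.of ℂ))]
    (hC : RelProj.IsHQuasiProjective (C ↘ Spec (CommRingCat.of ℂ)))
    (hdimC : topologicalKrullDim C = 1)
    (hX : RelProj.IsHProjective (X ↘ Spec (CommRingCat.of ℂ)))
    {Z : Scheme.{0}} (i : Z ⟶ pullback (C ↘ Spec (CommRingCat.of ℂ)) (X ↘ Spec (CommRingCat.of ℂ)))
    [IsClosedImmersion i]
    [AlgebraicGeometry.IsIntegral Z] (hdimZ : topologicalKrullDim Z = 1)
    (hsurj : Function.Surjective ⇑(i ≫ pullback.fst (C ↘ Spec (CommRingCat.of ℂ)) (X ↘ Spec (CommRingCat.of ℂ)))) :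
    IsFinite (i ≫ pullback.fst (C ↘ Spec (CommRingCat.of ℂ)) (X ↘ Spec (CommRingCat.of ℂ))) ∧
      Flat (i ≫ pullback.fst (C ↘ Spec (CommRingCat.of ℂ)) (X ↘ Spec (CommRingCat.of ℂ))) := by
  obtain ⟨n, j, hj, hjqc, hjf⟩ := hC
  haveI : QuasiCompact (C ↘ Spec (CommRingCat.of ℂ)) := by
    rw [← hjf]
    haveI := Groth.Agent.S9705.isProper_toBase n (Spec (CommRingCat.of ℂ))
    infer_instance
  obtain ⟨m, l, hl, hlf⟩ := hX
  haveI : IsProper (X ↘ Spec (CommRingCat.of ℂ)) := by
    rw [← hlf]
    haveI := Groth.Agent.S9705.isProper_toBase m (Spec (CommRingCat.of ℂ))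
    infer_instance
  exact main ℂ C X Z _ _ hdimC i hdimZ hsurj

end Groth.Agent.Lib.H9ZCorr
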