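import Mathlib.Tactic
import Mathlib.RingTheory.AdjoinRoot
import Mathlib.RingTheory.RingHom.Flat
import Mathlib.RingTheory.RingHom.Integral
import Mathlib.FieldTheory.Finite.Basic
import Groth.Agent.Lib.Helper27GaGm

/-!
# Artin–Schreier algebra (helper8)

* characteristic `p` ring lemmas for rings with `(p : R) = 0` (possibly trivial);
* the ring map `X ↦ X - X ^ p` of `ℤ[X]` (as the symmetric algebra) is finite free.
-/

set_option autoImplicit false
universe u

open Polynomial
open Groth.Agent.Lib.Helper27.GaGm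

namespace Groth.Agent.Lib.Helper8ASAlg

section CharP

variable {R : Type*} [CommRing R] (p : ℕ) [hp : Fact p.Prime]

include hp in
lemma charP_of_cast_eq_zero [Nontrivial R] (h : (p : R) = 0) : CharP R p :=
  (CharP.charP_iff_prime_eq_zero hp.out).mpr h

lemma add_pow_p (h : (p : R) = 0) (a b : R) : (a + b) ^ p = a ^ p + b ^ p := by
  rcases subsingleton_or_nontrivial R with hs | hn
  · exact Subsingleton.elim _ _
  · haveI : CharP R p := charP_of_cast_eq_zero p h
    exact add_pow_char a b p

lemma sub_pow_p (h : (p : R) = 0) (a b : R) : (a - b) ^ p = a ^ p - b ^ p := by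
  rcases subsingleton_or_nontrivial R with hs | hn
  · exact Subsingleton.elim _ _
  · haveI : CharP R p := charP_of_cast_eq_zero p h
    exact sub_pow_char a b

lemma natCast_pow_p (h : (p : R) = 0) (k : ℕ) : ((k : R)) ^ p = k := by
  induction k with
  | zero => simp [hp.out.ne_zero]
  | succ k ih => rw [Nat.cast_succ, add_pow_p p h, ih, one_pow]

/-- the constants `m ∈ 𝔽_p` in a ring of characteristic `p` -/
def cst (R : Type*) [CommRing R] {p : ℕ} (m : ZMod p) : R := ((m.val : ℕ) : R)

lemma map_cst {R' : Type*} [CommRing R'] (f : R →+* R') (m : ZMod p) :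
    f (cst R m) = cst R' m := by
  unfold cst
  rw [map_natCast]

lemma cst_pow_p (h : (p : R) = 0) (m : ZMod p) : (cst R m) ^ p = cst R m :=
  natCast_pow_p p h _

lemma cst_natCast (h : (p : R) = 0) (k : ℕ) : cst R ((k : ℕ) : ZMod p) = (k : R) := by
  unfold cst
  rw [ZMod.val_natCast]
  conv_rhs => rw [← Nat.mod_add_div k p]
  rw [Nat.cast_add, Nat.cast_mul, h, zero_mul, add_zero]

lemma cst_eq_castHom [CharP R p] (m : ZMod p) :
    cst R m = ZMod.castHom (dvd_refl p) R m := by
  unfold cst
  rw [ZMod.castHom_apply, ZMod.natCast_val]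

lemma isUnit_cst_sub (h : (p : R) = 0) (m n : ZMod p) (hmn : m ≠ n) :
    IsUnit (cst R m - cst R n) := by
  rcases subsingleton_or_nontrivial R with hs | hn
  · exact isUnit_of_subsingleton _
  · haveI : CharP R p := charP_of_cast_eq_zero p h
    rw [cst_eq_castHom, cst_eq_castHom, ← map_sub]
    exact (IsUnit.mk0 _ (sub_ne_zero.mpr hmn)).map _

lemma prod_X_sub_C_zmod : ∏ m : ZMod p, (X - C m) = (X ^ p - X : (ZMod p)[X]) := by
  have hmonic : (X ^ p - X : (ZMod p)[X]).Monic :=
    monic_X_pow_sub (by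
      rw [degree_X]
      exact_mod_cast hp.out.one_lt)
  have hroots : (X ^ p - X : (ZMod p)[X]).roots = Finset.univ.val := by
    have := FiniteField.roots_X_pow_card_sub_X (ZMod p)
    rwa [ZMod.card] at this
  have hcard : Multiset.card (X ^ p - X : (ZMod p)[X]).roots
      = (X ^ p - X : (ZMod p)[X]).natDegree := by
    rw [hroots, FiniteField.X_pow_card_sub_X_natDegree_eq _ hp.out.one_lt]
    simp [ZMod.card]
  have := Polynomial.prod_multiset_X_sub_C_of_monic_of_roots_card_eq hmonic hcard
  rw [hroots] at this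
  exact this

lemma prod_sub_cst (h : (p : R) = 0) (a : R) :
    ∏ m : ZMod p, (a - cst R m) = a ^ p - a := by
  rcases subsingleton_or_nontrivial R with hs | hn
  · exact Subsingleton.elim _ _
  · haveI : CharP R p := charP_of_cast_eq_zero p h
    have key := congrArg (Polynomial.eval₂ (ZMod.castHom (dvd_refl p) R) a) (prod_X_sub_C_zmod p)
    rw [eval₂_finsetProd] at key
    simp only [eval₂_sub, eval₂_X, eval₂_C, eval₂_pow] at key
    rw [← key]
    refine Finset.prod_congr rfl fun m _ => ?_
    rw [cst_eq_castHom]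

end CharP

section Theta

variable (p : ℕ) [hp : Fact p.Prime]

/-- the ring `ℤ[X]`, as a symmetric algebra -/
abbrev A : Type u := SymmetricAlgebra (ULift.{u} ℤ) (ULift.{u} ℤ)

/-- the coordinate `X` -/
noncomputable def T : A.{u} := SymmetricAlgebra.ι (ULift.{u} ℤ) (ULift.{u} ℤ) (ULift.up 1)

instance : Nontrivial A.{u} := by
  obtain ⟨φ, _⟩ := sym_ringHom_exists.{u} (0 : ℤ)
  exact RingHom.domain_nontrivial φ

/-- the ring hom `X ↦ X - X ^ p` -/
noncomputable def θ : A.{u} →+* A.{u} := (sym_ringHom_exists.{u} (T.{u} - T ^ p)).choose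

lemma θ_T : θ.{u} p T = T - T ^ p := (sym_ringHom_exists.{u} (T.{u} - T ^ p)).choose_spec

/-- the Artin–Schreier polynomial `Y ^ p - Y + X` -/
noncomputable def kp : A.{u}[X] := X ^ p - (X - C T)

include hp in
lemma degree_lt_kp : degree (X - C (T.{u})) < (p : WithBot ℕ) :=
  lt_of_le_of_lt (degree_X_sub_C_le _) (by exact_mod_cast hp.out.one_lt)

include hp in
lemma monic_kp : (kp.{u} p).Monic := monic_X_pow_sub (degree_lt_kp p)

include hp in
lemma degree_kp : degree (kp.{u} p) = p := by
  unfold kp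
  rw [degree_sub_eq_left_of_degree_lt, degree_X_pow]
  rw [degree_X_pow]
  exact degree_lt_kp p

/-- the comparison map `ℤ[X][Y]/(Y^p - Y + X) → ℤ[X]`, `Y ↦ X` -/
noncomputable def cmp : AdjoinRoot (kp.{u} p) →+* A.{u} :=
  AdjoinRoot.lift (θ p) T (by
    unfold kp
    rw [eval₂_sub, eval₂_pow, eval₂_sub, eval₂_X, eval₂_C, θ_T]
    ring)

lemma cmp_comp_of : (cmp.{u} p).comp (AdjoinRoot.of (kp p)) = θ p :=
  AdjoinRoot.lift_comp_of _

lemma root_rel : AdjoinRoot.of (kp.{u} p) T =
    AdjoinRoot.root (kp p) - AdjoinRoot.root (kp p) ^ p := by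
  have : eval₂ (AdjoinRoot.of (kp.{u} p)) (AdjoinRoot.root (kp p)) (X ^ p - (X - C T)) = 0 :=
    AdjoinRoot.eval₂_root (kp.{u} p)
  rw [eval₂_sub, eval₂_pow, eval₂_sub, eval₂_X, eval₂_C] at this
  linear_combination this

lemma cmp_bijective : Function.Bijective (cmp.{u} p) := by
  obtain ⟨g, hg⟩ := sym_ringHom_exists.{u} (AdjoinRoot.root (kp.{u} p))
  have hg' : g T = AdjoinRoot.root (kp p) := hg
  have h1 : (cmp p).comp g = RingHom.id _ := by
    apply sym_ringHom_ext
    change cmp p (g T) = T
    rw [hg']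
    exact AdjoinRoot.lift_root _
  have h2 : g.comp (cmp p) = RingHom.id _ := by
    apply AdjoinRoot.ringHom_ext
    · rw [RingHom.comp_assoc, cmp_comp_of, RingHom.id_comp]
      apply sym_ringHom_ext
      change g (θ p T) = AdjoinRoot.of (kp p) T
      rw [θ_T, map_sub, map_pow, hg', root_rel]
    · change g (cmp p (AdjoinRoot.root (kp p))) = AdjoinRoot.root (kp p)
      rw [show cmp p (AdjoinRoot.root (kp p)) = T from AdjoinRoot.lift_root _, hg']
  refine ⟨fun a b h => ?_, fun a => ⟨g a, congrArg (fun k : _ →+* _ => k a) h1⟩⟩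
  have := congrArg g h
  rwa [← RingHom.comp_apply, ← RingHom.comp_apply, h2] at this

include hp in
lemma of_injective : Function.Injective (AdjoinRoot.of (kp.{u} p)) := by
  rw [injective_iff_map_eq_zero]
  intro r hr
  by_contra hne
  rw [← AdjoinRoot.mk_C, AdjoinRoot.mk_eq_zero] at hr
  refine (monic_kp p).not_dvd_of_degree_lt (fun h => hne (C_eq_zero.mp h)) ?_ hr
  rw [degree_C hne, degree_kp]
  exact_mod_cast hp.out.pos

include hp in
theorem θ_injective : Function.Injective (θ.{u} p) := by
  rw [← cmp_comp_of]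
  exact (cmp_bijective p).1.comp (of_injective p)

include hp in
theorem θ_flat : (θ.{u} p).Flat := by
  rw [← cmp_comp_of]
  refine RingHom.Flat.comp ?_ (RingHom.Flat.of_bijective (cmp_bijective p))
  rw [← AdjoinRoot.algebraMap_eq, RingHom.flat_algebraMap_iff]
  haveI := (monic_kp.{u} p).free_adjoinRoot
  infer_instance

include hp in
theorem θ_isIntegral : (θ.{u} p).IsIntegral := by
  rw [← cmp_comp_of]
  refine RingHom.IsIntegral.trans _ _ ?_
    (RingHom.isIntegral_of_surjective _ (cmp_bijective p).2)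
  rw [← AdjoinRoot.algebraMap_eq]
  haveI := (monic_kp.{u} p).finite_adjoinRoot
  exact algebraMap_isIntegral_iff.mpr inferInstance

end Theta

end Groth.Agent.Lib.Helper8ASAlg
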