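import Mathlib
import Groth.Prelude.Def_NonAbH2
import Groth.Prelude.Def_TwC
import Groth.Agent.Lib.Helper27GaGm
import Groth.Agent.Lib.H6xDSPts
import Groth.Agent.Lib.Helper11KerPair
import Groth.Agent.Lib.Helper8ASAlg

/-!
# The Artin–Schreier sequence is fpqc exact (helper8)

`1 → (ℤ/p)_S → 𝔾_a → 𝔾_a → 1`, `P = 𝟙 - F`, over a base of characteristic `p`.
-/

set_option autoImplicit false
universe u

open CategoryTheory MonoidalCategory CartesianMonoidalCategory MonObj AlgebraicGeometry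
  CategoryTheory.Limits
open Groth.Agent.Lib.Helper27.GaGm Groth.Agent.Lib.Helper8ASAlg

namespace Groth.Agent.Lib.Helper8AS

section General

/-- a scheme whose ring of global functions is trivial is empty -/
lemma isEmpty_of_subsingleton_Γ (X : Scheme.{u}) [Subsingleton Γ(X, ⊤)] : IsEmpty X := by
  refine ⟨fun x => ?_⟩
  have h1 : X.basicOpen (1 : Γ(X, ⊤)) = ⊤ := X.basicOpen_one
  have h0 : X.basicOpen (0 : Γ(X, ⊤)) = ⊥ := X.basicOpen_zero ⊤
  rw [Subsingleton.elim (1 : Γ(X, ⊤)) 0, h0] at h1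
  have hx : x ∈ (⊤ : X.Opens) := trivial
  rw [← h1] at hx
  exact hx

lemma isUnit_of_basicOpen_eq_top {Y : Scheme.{u}} (g : Γ(Y, ⊤)) (h : Y.basicOpen g = ⊤) :
    IsUnit g := by
  apply RingedSpace.isUnit_of_isUnit_germ Y.toLocallyRingedSpace.toRingedSpace ⊤ g
  intro x hx
  have hx' : x ∈ Y.basicOpen g := by rw [h]; trivial
  exact (Y.mem_basicOpen_top g x).mp hx'

variable {X : Scheme.{u}}

lemma isUnit_res_basicOpen (f : Γ(X, ⊤)) : IsUnit ((X.basicOpen f).ι.appTop.hom f) := by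
  apply isUnit_of_basicOpen_eq_top
  have h := Scheme.preimage_basicOpen_top (X.basicOpen f).ι f
  exact h.symm.trans (Scheme.Opens.ι_preimage_self _)

lemma res_eq_zero_of_mul_eq_zero (b e : Γ(X, ⊤)) (h : b * e = 0) :
    (X.basicOpen e).ι.appTop.hom b = 0 := by
  have hu := isUnit_res_basicOpen e
  have h2 := congrArg (X.basicOpen e).ι.appTop.hom h
  rw [map_mul, map_zero] at h2
  exact hu.mul_left_eq_zero.mp h2

lemma isOpenImmersion_sigmaι {σ : Type*} [Small.{u} σ] (g : σ → Scheme.{u}) (i : σ) :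
    IsOpenImmersion (Sigma.ι g i) := by
  have h : IsOpenImmersion ((sigmaOpenCover g).f i) := inferInstance
  exact h

lemma exists_mem_opensRange {σ : Type*} [Small.{u} σ] (g : σ → Scheme.{u}) (z : ↑(∐ g)) :
    ∃ m, z ∈ Set.range (Sigma.ι g m) := by
  obtain ⟨m, w, hw⟩ := (sigmaOpenCover g).exists_eq z
  exact ⟨m, w, hw⟩

/-- a morphism to a constant scheme over `S` is, on the preimage of the `m`-th copy, the
structure morphism followed by the `m`-th inclusion -/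
lemma factor_of_le {S : Scheme.{u}} {M : Type*} [Small.{u} M] {T : Scheme.{u}} (h : T ⟶ S)
    (y : T ⟶ ∐ fun _ : M => S) (hy : y ≫ Sigma.desc (fun _ : M => 𝟙 S) = h) (m : M)
    (U : T.Opens) (hU : ∀ t ∈ U, y t ∈ Set.range (Sigma.ι (fun _ : M => S) m)) :
    U.ι ≫ y = U.ι ≫ h ≫ Sigma.ι (fun _ : M => S) m := by
  haveI := isOpenImmersion_sigmaι (fun _ : M => S) m
  have hr : Set.range (U.ι ≫ y) ⊆ Set.range (Sigma.ι (fun _ : M => S) m) := by
    rintro _ ⟨z, rfl⟩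
    rw [Scheme.Hom.comp_apply]
    exact hU _ z.2
  have hl : IsOpenImmersion.lift (Sigma.ι (fun _ : M => S) m) (U.ι ≫ y) hr ≫
      Sigma.ι (fun _ : M => S) m = U.ι ≫ y := IsOpenImmersion.lift_fac _ _ _
  have hl2 : IsOpenImmersion.lift (Sigma.ι (fun _ : M => S) m) (U.ι ≫ y) hr = U.ι ≫ h := by
    have h3 := congrArg (fun k => k ≫ Sigma.desc (fun _ : M => 𝟙 S)) hl
    simp only [Category.assoc, Sigma.ι_desc, Category.comp_id] at h3
    rw [h3, hy]
  rw [← hl, hl2, Category.assoc]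

end General

section Locus

variable {X : Scheme.{u}} (p : ℕ) [hp : Fact p.Prime]

/-- the idempotent cutting out the locus `a = m` -/
noncomputable def idem (a : Γ(X, ⊤)) (m : ZMod p) : Γ(X, ⊤) := 1 - (a - cst _ m) ^ (p - 1)

/-- the open locus where `a = m` -/
noncomputable def locus (a : Γ(X, ⊤)) (m : ZMod p) : X.Opens := X.basicOpen (idem p a m)

include hp in
lemma sub_mul_idem (hpX : (p : Γ(X, ⊤)) = 0) (a : Γ(X, ⊤)) (ha : a ^ p = a) (m : ZMod p) :
    (a - cst _ m) * idem p a m = 0 := by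
  unfold idem
  have h1 : (a - cst Γ(X, ⊤) m) ^ p = a - cst _ m := by
    rw [sub_pow_p p hpX, ha, cst_pow_p p hpX]
  have h2 : (a - cst Γ(X, ⊤) m) * (a - cst _ m) ^ (p - 1) = (a - cst _ m) ^ p := by
    rw [← pow_succ', Nat.sub_add_cancel hp.out.one_le]
  rw [mul_sub, _root_.mul_one, h2, h1, sub_self]

include hp in
lemma res_locus (hpX : (p : Γ(X, ⊤)) = 0) (a : Γ(X, ⊤)) (ha : a ^ p = a) (m : ZMod p) :
    (locus p a m).ι.appTop.hom a = cst Γ(locus p a m, ⊤) m := by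
  have h := res_eq_zero_of_mul_eq_zero _ _ (sub_mul_idem p hpX a ha m)
  rw [map_sub, map_cst, sub_eq_zero] at h
  exact h

include hp in
lemma mem_locus_iff (hpX : (p : Γ(X, ⊤)) = 0) (a : Γ(X, ⊤)) (ha : a ^ p = a) (m : ZMod p)
    (x : X) :
    x ∈ locus p a m ↔ ¬ IsUnit ((X.presheaf.germ ⊤ x trivial).hom (a - cst _ m)) := by
  unfold locus
  rw [Scheme.mem_basicOpen_top]
  change IsUnit ((X.presheaf.germ ⊤ x trivial).hom (idem p a m)) ↔ _
  have hmul : (X.presheaf.germ ⊤ x trivial).hom (a - cst _ m) *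
      (X.presheaf.germ ⊤ x trivial).hom (idem p a m) = 0 := by
    rw [← map_mul, sub_mul_idem p hpX a ha m, map_zero]
  constructor
  · intro hu hb
    have h3 := hb.mul hu
    rw [hmul] at h3
    exact not_isUnit_zero h3
  · intro hb
    unfold idem
    rw [map_sub, map_one, map_pow]
    apply IsLocalRing.isUnit_one_sub_self_of_mem_nonunits
    intro h
    exact hb ((isUnit_pow_iff (Nat.sub_ne_zero_of_lt hp.out.one_lt)).mp h)

include hp in
lemma exists_mem_locus (hpX : (p : Γ(X, ⊤)) = 0) (a : Γ(X, ⊤)) (ha : a ^ p = a) (x : X) :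
    ∃ m, x ∈ locus p a m := by
  by_contra hcon
  push Not at hcon
  have hall : ∀ m : ZMod p, IsUnit ((X.presheaf.germ ⊤ x trivial).hom (a - cst _ m)) := by
    intro m
    have h := hcon m
    rw [mem_locus_iff p hpX a ha m x, not_not] at h
    exact h
  have hprod : IsUnit (∏ m : ZMod p, (X.presheaf.germ ⊤ x trivial).hom (a - cst _ m)) :=
    IsUnit.prod_univ_iff.mpr hall
  rw [← map_prod, prod_sub_cst p hpX a, ha, sub_self, map_zero] at hprod
  exact not_isUnit_zero hprod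

include hp in
lemma not_mem_locus_of_ne (hpX : (p : Γ(X, ⊤)) = 0) (a : Γ(X, ⊤)) (ha : a ^ p = a)
    (m n : ZMod p) (hmn : m ≠ n) (x : X) (hm : x ∈ locus p a m) (hn : x ∈ locus p a n) :
    False := by
  rw [mem_locus_iff p hpX a ha] at hm hn
  have hu : IsUnit ((X.presheaf.germ ⊤ x trivial).hom (cst _ m - cst _ n)) :=
    (isUnit_cst_sub p hpX m n hmn).map _
  have he : (X.presheaf.germ ⊤ x trivial).hom (cst _ m - cst _ n) =
      (X.presheaf.germ ⊤ x trivial).hom (a - cst _ n) -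
        (X.presheaf.germ ⊤ x trivial).hom (a - cst _ m) := by
    rw [← map_sub]
    congr 1
    ring
  rw [he] at hu
  have h1 := (IsLocalRing.mem_maximalIdeal _).mpr hn
  have h2 := (IsLocalRing.mem_maximalIdeal _).mpr hm
  exact (IsLocalRing.mem_maximalIdeal _).mp (Ideal.sub_mem _ h1 h2) hu

include hp in
lemma isColimit_locus (hpX : (p : Γ(X, ⊤)) = 0) (a : Γ(X, ⊤)) (ha : a ^ p = a) :
    Nonempty (IsColimit (Cofan.mk X fun m : ZMod p => (locus p a m).ι)) := by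
  apply nonempty_isColimit_cofanMk_of
  · simp only [Scheme.Opens.opensRange_ι]
    rw [eq_top_iff]
    intro x _
    obtain ⟨m, hm⟩ := exists_mem_locus p hpX a ha x
    exact TopologicalSpace.Opens.mem_iSup.mpr ⟨m, hm⟩
  · intro m n hmn
    simp only [Function.onFun, Scheme.Opens.opensRange_ι]
    rw [disjoint_iff, eq_bot_iff]
    intro x hx
    have hx' : x ∈ locus p a m ∧ x ∈ locus p a n := hx
    exact (not_mem_locus_of_ne p hpX a ha m n hmn x hx'.1 hx'.2).elim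

end Locus

section Kernel

variable {S : Scheme.{u}} (p : ℕ) [hp : Fact p.Prime]

/-- the index group `ℤ/p`, written multiplicatively -/
abbrev Mp (p : ℕ) : Type := Multiplicative (ZMod p)

lemma cast_p_eq_zero (hpS : (p : Γ(S, ⊤)) = 0) (T : Over S) : (p : Γ(T.left, ⊤)) = 0 := by
  have h := congrArg T.hom.appTop.hom hpS
  rwa [map_natCast, map_zero] at h

variable (hpS : (p : Γ(S, ⊤)) = 0)
  (j : TwC.const S (Mp p) ⟶ Red.Ga S)
  (hj : ∀ m : Mp p, Red.gaFn (TwC.pt S (Mp p) m ≫ j) = cst _ (Multiplicative.toAdd m))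
  (P : Red.Ga S ⟶ Red.Ga S)
  (hP : ∀ (T : Over S) (x : T ⟶ Red.Ga S), Red.gaFn (x ≫ P) = Red.gaFn x - Red.gaFn x ^ p)

include hp hpS hj hP in
theorem comp_eq_one : j ≫ P = 1 := by
  apply Over.OverMorphism.ext
  apply Sigma.hom_ext
  intro m
  have h1 : TwC.pt S (Mp p) m ≫ (j ≫ P) = TwC.pt S (Mp p) m ≫ 1 := by
    rw [MonObj.comp_one]
    apply gaFn_injective
    rw [← Category.assoc, hP, gaFn_one, hj,
      cst_pow_p p (cast_p_eq_zero p hpS (𝟙_ (Over S))), sub_self]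
  exact congrArg (fun k => k.left) h1

include hp hpS hj in
lemma res_eq_cst (T : Over S) (y : T ⟶ TwC.const S (Mp p)) (m : Mp p) (U : T.left.Opens)
    (hU : ∀ t ∈ U, y.left t ∈ Set.range (Sigma.ι (fun _ : Mp p => S) m)) :
    U.ι.appTop.hom (Red.gaFn (y ≫ j)) = cst Γ(U, ⊤) (Multiplicative.toAdd m) := by
  let UO : Over S := Over.mk (U.ι ≫ T.hom)
  let u : UO ⟶ T := Over.homMk U.ι rfl
  have e1 : u ≫ y = toUnit UO ≫ TwC.pt S (Mp p) m := by
    apply Over.OverMorphism.ext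
    exact factor_of_le T.hom y.left (Over.w y) m U hU
  have e2 : Red.gaFn (u ≫ (y ≫ j)) = U.ι.appTop.hom (Red.gaFn (y ≫ j)) := gaFn_comp u (y ≫ j)
  rw [← e2, ← Category.assoc, e1, Category.assoc, gaFn_comp, hj]
  exact map_cst p _ _

include hp hpS hj hP in
theorem exists_lift (T : Over S) (x : T ⟶ Red.Ga S) (hx : x ≫ P = 1) :
    ∃ y : T ⟶ TwC.const S (Mp p), y ≫ j = x := by
  have hpT := cast_p_eq_zero p hpS T
  have ha : Red.gaFn x ^ p = Red.gaFn x := by
    have h := hP T x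
    rw [hx, gaFn_one] at h
    exact (sub_eq_zero.mp h.symm).symm
  obtain ⟨hc⟩ := isColimit_locus p hpT (Red.gaFn x) ha
  let yl : T.left ⟶ ∐ fun _ : Mp p => S :=
    Cofan.IsColimit.desc hc (fun m : ZMod p => (locus p (Red.gaFn x) m).ι ≫ T.hom ≫
      Sigma.ι (fun _ : Mp p => S) (Multiplicative.ofAdd m))
  have hyl : ∀ m : ZMod p, (locus p (Red.gaFn x) m).ι ≫ yl =
      (locus p (Red.gaFn x) m).ι ≫ T.hom ≫
        Sigma.ι (fun _ : Mp p => S) (Multiplicative.ofAdd m) :=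
    fun m => Cofan.IsColimit.fac hc _ m
  have hw : yl ≫ Sigma.desc (fun _ : Mp p => 𝟙 S) = T.hom := by
    apply Cofan.IsColimit.hom_ext hc
    intro m
    change (locus p (Red.gaFn x) m).ι ≫ _ = (locus p (Red.gaFn x) m).ι ≫ _
    rw [← Category.assoc, hyl, Category.assoc, Category.assoc, Sigma.ι_desc, Category.comp_id]
  refine ⟨Over.homMk yl hw, ?_⟩
  apply Over.OverMorphism.ext
  apply Cofan.IsColimit.hom_ext hc
  intro m
  let Um : Over S := Over.mk ((locus p (Red.gaFn x) m).ι ≫ T.hom)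
  let um : Um ⟶ T := Over.homMk (locus p (Red.gaFn x) m).ι rfl
  have h1 : um ≫ ((Over.homMk yl hw : T ⟶ TwC.const S (Mp p)) ≫ j) = um ≫ x := by
    apply gaFn_injective
    have e1 : um ≫ (Over.homMk yl hw : T ⟶ TwC.const S (Mp p)) =
        toUnit Um ≫ TwC.pt S (Mp p) (Multiplicative.ofAdd m) := by
      apply Over.OverMorphism.ext
      exact hyl m
    rw [← Category.assoc, e1, Category.assoc, gaFn_comp, hj, gaFn_comp]
    exact (map_cst p _ _).trans (res_locus p hpT (Red.gaFn x) ha m).symm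
  exact congrArg (fun k => k.left) h1

include hp hpS hj in
theorem lift_unique (T : Over S) (y y' : T ⟶ TwC.const S (Mp p)) (h : y ≫ j = y' ≫ j) :
    y = y' := by
  apply Over.OverMorphism.ext
  apply Scheme.hom_ext_of_forall
  intro t
  obtain ⟨m, hm⟩ := exists_mem_opensRange (fun _ : Mp p => S) (y.left t)
  obtain ⟨n, hn⟩ := exists_mem_opensRange (fun _ : Mp p => S) (y'.left t)
  let V : T.left.Opens := (y.left : T.left ⟶ ∐ fun _ : Mp p => S) ⁻¹ᵁ
    (Sigma.ι (fun _ : Mp p => S) m).opensRange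
  let V' : T.left.Opens := (y'.left : T.left ⟶ ∐ fun _ : Mp p => S) ⁻¹ᵁ
    (Sigma.ι (fun _ : Mp p => S) n).opensRange
  have hV : ∀ t' ∈ V ⊓ V', y.left t' ∈ Set.range (Sigma.ι (fun _ : Mp p => S) m) :=
    fun t' ht' => ht'.1
  have hV' : ∀ t' ∈ V ⊓ V', y'.left t' ∈ Set.range (Sigma.ι (fun _ : Mp p => S) n) :=
    fun t' ht' => ht'.2
  have htV : t ∈ V ⊓ V' := ⟨hm, hn⟩
  have hmn : m = n := by
    by_contra hne
    have key1 := res_eq_cst p hpS j hj T y m (V ⊓ V') hV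
    have key2 := res_eq_cst p hpS j hj T y' n (V ⊓ V') hV'
    rw [h] at key1
    have hpU := cast_p_eq_zero p hpS (Over.mk ((V ⊓ V').ι ≫ T.hom))
    have hu := isUnit_cst_sub (R := Γ((V ⊓ V' : T.left.Opens).toScheme, ⊤)) p hpU (Multiplicative.toAdd m)
      (Multiplicative.toAdd n) (fun h' => hne (Multiplicative.toAdd.injective h'))
    rw [← key1, ← key2, sub_self] at hu
    haveI : Subsingleton Γ((V ⊓ V' : T.left.Opens).toScheme, ⊤) := subsingleton_of_zero_eq_one (isUnit_zero_iff.mp hu)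
    exact (isEmpty_of_subsingleton_Γ (V ⊓ V').toScheme).false ⟨t, htV⟩
  subst hmn
  refine ⟨V ⊓ V', htV, ?_⟩
  rw [factor_of_le T.hom y.left (Over.w y) m (V ⊓ V') hV,
    factor_of_le T.hom y'.left (Over.w y') m (V ⊓ V') hV']

end Kernel

section Points

variable {S : Scheme.{u}} (p : ℕ) [hp : Fact p.Prime]

/-- the values of `i` on the constant points of `(ℤ/p)_S` -/
theorem gaFn_pt {G' : Over S} [GrpObj G'] (e : G' ≅ TwC.const S (Mp p))
    (he : TwC.IsConstGrp (Mp p) G' e) (hpS : (p : Γ(S, ⊤)) = 0)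
    (i : G' ⟶ Red.Ga S) [IsMonHom i]
    (hi : Red.gaFn (TwC.pt S (Mp p) (Multiplicative.ofAdd 1) ≫ e.inv ≫ i) = 1) (m : Mp p) :
    Red.gaFn (TwC.pt S (Mp p) m ≫ e.inv ≫ i) = cst _ (Multiplicative.toAdd m) := by
  have hadd : ∀ m n : Mp p, Red.gaFn (TwC.pt S (Mp p) (m * n) ≫ e.inv ≫ i) =
      Red.gaFn (TwC.pt S (Mp p) m ≫ e.inv ≫ i) + Red.gaFn (TwC.pt S (Mp p) n ≫ e.inv ≫ i) := by
    intro m n
    rw [← gaFn_mul, ← Category.assoc, ← he m n, MonObj.mul_comp _ _ i, Category.assoc, Category.assoc]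
  have hone : Red.gaFn (TwC.pt S (Mp p) 1 ≫ e.inv ≫ i) = 0 := by
    have h := hadd 1 1
    rw [_root_.mul_one] at h
    exact left_eq_add.mp h
  have hnat : ∀ k : ℕ, Red.gaFn (TwC.pt S (Mp p) (Multiplicative.ofAdd ((k : ℕ) : ZMod p)) ≫
      e.inv ≫ i) = (k : Γ((𝟙_ (Over S)).left, ⊤)) := by
    intro k
    induction k with
    | zero =>
      rw [Nat.cast_zero, Nat.cast_zero, ofAdd_zero]
      exact hone
    | succ k ih =>
      rw [Nat.cast_succ, Nat.cast_succ, ofAdd_add, hadd, ih, hi]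
  have hm : m = Multiplicative.ofAdd (((Multiplicative.toAdd m).val : ℕ) : ZMod p) := by
    rw [ZMod.natCast_zmod_val]
    rfl
  rw [hm, hnat, ← hm]
  rfl

end Points

section Frob

variable {S : Scheme.{u}} (p : ℕ) [hp : Fact p.Prime]

theorem gaFn_comp_P (F : Red.Ga S ⟶ Red.Ga S)
    (hF : ∀ (T : Over S) (x : T ⟶ Red.Ga S), Red.gaFn (x ≫ F) = Red.gaFn x ^ p)
    (T : Over S) (x : T ⟶ Red.Ga S) :
    Red.gaFn (x ≫ (𝟙 (Red.Ga S) * F⁻¹)) = Red.gaFn x - Red.gaFn x ^ p := by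
  rw [MonObj.comp_mul, Category.comp_id, GrpObj.comp_inv, gaFn_mul, gaFn_inv, hF, sub_eq_add_neg]

include hp in
theorem isMonHom_P (hpS : (p : Γ(S, ⊤)) = 0) (P : Red.Ga S ⟶ Red.Ga S)
    (hP : ∀ (T : Over S) (x : T ⟶ Red.Ga S), Red.gaFn (x ≫ P) = Red.gaFn x - Red.gaFn x ^ p) :
    IsMonHom P := by
  apply Groth.Agent.Lib.H6xDSPts.isMonHom_of_pts
  · apply gaFn_injective
    rw [hP, gaFn_one, zero_pow hp.out.ne_zero, sub_zero]
  · intro T x y
    apply gaFn_injective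
    rw [hP, gaFn_mul, gaFn_mul, hP, hP, add_pow_p p (cast_p_eq_zero p hpS T)]
    ring

end Frob

section Cover

variable {S : Scheme.{u}} (p : ℕ) [hp : Fact p.Prime]

/-- the morphism `x ↦ x - x ^ p` of `𝔾_a` over `ℤ` -/
noncomputable def P0 : Red.GaZ.{u} ⟶ Red.GaZ.{u} :=
  Over.homMk (Spec.map (CommRingCat.ofHom (θ.{u} p))) (specULiftZIsTerminal.hom_ext _ _)

/-- the morphism `x ↦ x - x ^ p` of `𝔾_{a,S}` -/
noncomputable def P' : Red.Ga S ⟶ Red.Ga S :=
  (Over.pullback (Limits.IsTerminal.from specULiftZIsTerminal S)).map (P0 p)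

lemma gaPt_P' {X : Over S} (x : X ⟶ Red.Ga S) :
    gaPt (x ≫ P' p) = gaPt x ≫ Spec.map (CommRingCat.ofHom (θ.{u} p)) := by
  unfold gaPt P'
  rw [Over.comp_left, Category.assoc, Category.assoc]
  congr 1
  simp only [P0, Over.pullback_map_left, Over.homMk_left]
  exact pullback.lift_fst _ _ _

theorem gaFn_P' {X : Over S} (x : X ⟶ Red.Ga S) :
    Red.gaFn (x ≫ P' p) = Red.gaFn x - Red.gaFn x ^ p := by
  rw [gaFn_eq_fn_gaPt, gaPt_P', fn_specMap]
  change fn (gaPt x) (θ.{u} p T) = _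
  rw [θ_T, fn_eq, map_sub, map_pow]
  rfl

theorem eq_P' (P : Red.Ga S ⟶ Red.Ga S)
    (hP : ∀ (T : Over S) (x : T ⟶ Red.Ga S), Red.gaFn (x ≫ P) = Red.gaFn x - Red.gaFn x ^ p) :
    P = P' p := by
  apply gaFn_injective
  have h1 := hP _ (𝟙 (Red.Ga S))
  have h2 := gaFn_P' p (𝟙 (Red.Ga S))
  rw [Category.id_comp] at h1 h2
  rw [h1, h2]

include hp in
lemma flat_P0 : Flat (Spec.map (CommRingCat.ofHom (θ.{u} p))) :=
  (HasRingHomProperty.Spec_iff (P := @Flat)).mpr (θ_flat p)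

include hp in
lemma surjective_P0 : Surjective (Spec.map (CommRingCat.ofHom (θ.{u} p))) := by
  rw [surjective_iff]
  exact RingHom.IsIntegral.comap_surjective (θ_isIntegral p) (θ_injective p)

include hp in
lemma flat_P' : Flat (P' (S := S) p).left :=
  MorphismProperty.overPullbackMap (P := @Flat) _ (P0 p) (flat_P0 p)

include hp in
lemma surjective_P' : Surjective (P' (S := S) p).left :=
  MorphismProperty.overPullbackMap (P := @Surjective) _ (P0 p) (surjective_P0 p)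

lemma quasiCompact_P' : QuasiCompact (P' (S := S) p).left :=
  MorphismProperty.overPullbackMap (P := @QuasiCompact) _ (P0 p)
    (inferInstanceAs (QuasiCompact (Spec.map (CommRingCat.ofHom (θ.{u} p)))))

end Cover

section Main

variable {S : Scheme.{u}} (p : ℕ) [hp : Fact p.Prime]

include hp in
theorem isKernel (hpS : (p : Γ(S, ⊤)) = 0) {G' : Over S} [GrpObj G']
    (e : G' ≅ TwC.const S (Mp p)) (i : G' ⟶ Red.Ga S)
    (hj : ∀ m : Mp p, Red.gaFn (TwC.pt S (Mp p) m ≫ e.inv ≫ i) = cst _ (Multiplicative.toAdd m))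
    (P : Red.Ga S ⟶ Red.Ga S)
    (hP : ∀ (T : Over S) (x : T ⟶ Red.Ga S), Red.gaFn (x ≫ P) = Red.gaFn x - Red.gaFn x ^ p) :
    i ≫ P = 1 ∧ AlgGrp.IsKernel i P := by
  have h1 : i ≫ P = 1 := by
    have h := comp_eq_one p hpS (e.inv ≫ i) hj P hP
    calc i ≫ P = e.hom ≫ ((e.inv ≫ i) ≫ P) := by simp
      _ = 1 := by rw [h, MonObj.comp_one]
  refine ⟨h1, ?_⟩
  have hw : i ≫ P = toUnit _ ≫ η[Red.Ga S] := by
    rw [← Hom.one_def]
    exact h1
  have key : ∀ (T : Over S) (x : T ⟶ Red.Ga S), x ≫ P = 1 → ∃ y : T ⟶ G', y ≫ i = x := by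
    intro T x hx
    obtain ⟨y, hy⟩ := exists_lift p hpS (e.inv ≫ i) hj P hP T x hx
    exact ⟨y ≫ e.inv, by rw [Category.assoc]; exact hy⟩
  have cancel : ∀ (T : Over S) (z z' : T ⟶ G'), z ≫ i = z' ≫ i → z = z' := by
    intro T z z' h
    have h2 : (z ≫ e.hom) ≫ (e.inv ≫ i) = (z' ≫ e.hom) ≫ (e.inv ≫ i) := by
      simpa using h
    have h3 := lift_unique p hpS (e.inv ≫ i) hj T _ _ h2
    exact (cancel_mono e.hom).mp h3
  unfold AlgGrp.IsKernel
  have hcond : ∀ s : PullbackCone P η[Red.Ga S], s.fst ≫ P = 1 := by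
    intro s
    rw [s.condition, Hom.one_def]
    congr 1
    exact toUnit_unique _ _
  refine IsPullback.of_isLimit' ⟨hw⟩ ?_
  refine PullbackCone.IsLimit.mk hw
    (fun s => (key s.pt s.fst (hcond s)).choose) ?_ ?_ ?_
  · intro s
    exact (key s.pt s.fst (hcond s)).choose_spec
  · intro s
    exact toUnit_unique _ _
  · intro s m' hm' _
    apply cancel
    rw [hm']
    exact ((key s.pt s.fst (hcond s)).choose_spec).symm

include hp in
theorem main (hpS : (p : Γ(S, ⊤)) = 0) (F : Red.Ga S ⟶ Red.Ga S)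
    (hF : ∀ (T : Over S) (x : T ⟶ Red.Ga S), Red.gaFn (x ≫ F) = Red.gaFn x ^ p)
    {G' : Over S} [GrpObj G'] (e : G' ≅ TwC.const S (Multiplicative (ZMod p)))
    (he : TwC.IsConstGrp (Multiplicative (ZMod p)) G' e)
    (i : G' ⟶ Red.Ga S) [IsMonHom i]
    (hi : Red.gaFn (TwC.pt S (Multiplicative (ZMod p)) (Multiplicative.ofAdd 1) ≫ e.inv ≫ i) = 1) :
    NonAbH1.IsExactSeq Scheme.fpqcPrecoverage i (𝟙 (Red.Ga S) * F⁻¹) := by
  have hP := gaFn_comp_P p F hF
  haveI : IsMonHom (𝟙 (Red.Ga S) * F⁻¹) := isMonHom_P p hpS _ hP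
  have hj := gaFn_pt p e he hpS i hi
  obtain ⟨h1, hk⟩ := isKernel p hpS e i hj _ hP
  refine ⟨inferInstance, inferInstance, h1,
    Groth.Agent.Lib.Helper11KerPair.isPullback_of_isKernel _ _ hk, ?_⟩
  have hPP' := eq_P' p _ hP
  haveI : Flat (𝟙 (Red.Ga S) * F⁻¹).left := hPP' ▸ flat_P' p
  haveI : Surjective (𝟙 (Red.Ga S) * F⁻¹).left := hPP' ▸ surjective_P' p
  haveI : QuasiCompact (𝟙 (Red.Ga S) * F⁻¹).left := hPP' ▸ quasiCompact_P' p
  refine ⟨Presieve.singleton (𝟙 (Red.Ga S) * F⁻¹).left,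
    Scheme.Hom.singleton_mem_fpqcPrecoverage _, ?_⟩
  intro S' f hf
  cases hf
  exact ⟨𝟙 _, Category.id_comp _⟩

end Main

end Groth.Agent.Lib.Helper8AS
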