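import Mathlib
import Groth.Prelude.Def_EtGm
import Groth.Prelude.Def_W4c5etcohweilstudentAS
import Groth.Agent.Lib.Helper16SmallEtale
import Groth.Agent.Lib.H6xMuConst
import Groth.Agent.Lib.H9ArtinSchreier

/-!
# The kernel of the Artin–Schreier endomorphism of `G_a` is the constant sheaf `ℤ/p` (helper8)
-/

set_option autoImplicit false
set_option linter.style.haveILetI false
open CategoryTheory CategoryTheory.Limits AlgebraicGeometry Opposite
universe u

namespace Groth.Agent.Lib.Helper8ASKernel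

open Groth.Agent.Lib.Helper16.SmallEtale Groth.Agent.Lib.H6xMuConst

section Alg

variable {R : Type*} [CommRing R] (p : ℕ) (hp : p.Prime) (h0 : (p : R) = 0)

include hp h0 in
/-- Fermat: integers are fixed by the Frobenius in characteristic `p` -/
lemma intCast_pow (i : ℤ) : ((i : R)) ^ p = (i : R) := by
  haveI : Fact p.Prime := ⟨hp⟩
  have h1 : ((i ^ p - i : ℤ) : ZMod p) = 0 := by
    push_cast
    rw [ZMod.pow_card, sub_self]
  obtain ⟨m, hm⟩ := (ZMod.intCast_zmod_eq_zero_iff_dvd _ p).1 h1
  have h2 : ((i ^ p - i : ℤ) : R) = 0 := by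
    rw [hm]
    push_cast
    rw [h0, zero_mul]
  push_cast at h2
  exact sub_eq_zero.1 h2

include hp h0 in
/-- a Frobenius-fixed element is locally an integer constant -/
lemma exists_local_const (a : R) (ha : a ^ p = a) (P : Ideal R) [P.IsPrime] :
    ∃ (i : ℤ) (e : R), e ∉ P ∧ e * (a - i) = 0 := by
  haveI : Fact p.Prime := ⟨hp⟩
  let F := P.ResidueField
  have hpF : (p : F) = 0 := by
    have := congrArg (algebraMap R F) h0
    simpa using this
  haveI : CharP F p := by
    have hc : ringChar F = p := CharP.ringChar_of_prime_eq_zero hp hpF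
    exact hc ▸ (ringChar.charP F)
  have haF : (algebraMap R F a) ^ p = algebraMap R F a := by rw [← map_pow, ha]
  have hmem : algebraMap R F a ∈ (⊥ : Subfield F) := (Subfield.mem_bot_iff_pow_eq_self F p).2 haF
  obtain ⟨i, hi'⟩ := (mem_bot_iff_intCast p F).1 hmem
  have hi : algebraMap R F (a - (i : R)) = 0 := by
    rw [map_sub, map_intCast, hi', sub_self]
  have hb : a - (i : R) ∈ P := by
    rw [← Ideal.ker_algebraMap_residueField P]
    exact hi
  have hbp : (a - (i : R)) ^ p = a - (i : R) := by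
    rcases subsingleton_or_nontrivial R with hR | hR
    · exact Subsingleton.elim _ _
    · haveI : CharP R p := by
        have hc : ringChar R = p := CharP.ringChar_of_prime_eq_zero hp h0
        exact hc ▸ (ringChar.charP R)
      rw [sub_pow_char, ha, intCast_pow p hp h0]
  refine ⟨i, 1 - (a - (i : R)) ^ (p - 1), ?_, ?_⟩
  · intro he
    have h1 : (a - (i : R)) ^ (p - 1) ∈ P :=
      Ideal.pow_mem_of_mem P hb (p - 1) (by have := hp.two_le; omega)
    have : (1 : R) ∈ P := by
      have := P.add_mem he h1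
      simpa using this
    exact (Ideal.IsPrime.ne_top inferInstance) (P.eq_top_of_isUnit_mem this isUnit_one)
  · have : (a - (i : R)) ^ (p - 1) * (a - (i : R)) = (a - (i : R)) ^ p := by
      rw [← pow_succ]
      congr 1
      have := hp.two_le
      omega
    rw [sub_mul, one_mul, this, hbp, sub_self]

end Alg

section Sheaf

variable (S : Scheme.{u}) (p : ℕ) (hp : p.Prime) (h0 : (p : Γ(S, ⊤)) = 0)

/-- the Artin–Schreier endomorphism -/
noncomputable abbrev AS : EtCoh.Ga S ⟶ EtCoh.Ga S :=
  W4c5etcohweilstudent.artinSchreierEndo S p hp h0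

/-- sections of `G_a` from functions -/
def mkA (U : S.Etale) (a : Γ(U.left, ⊤)) : (EtCoh.Ga S).obj.obj (op U) := ULift.up a

/-- functions from sections of `G_a` -/
def valA (U : S.Etale) (x : (EtCoh.Ga S).obj.obj (op U)) : Γ(U.left, ⊤) := ULift.down x

lemma mkA_valA (U : S.Etale) (x : (EtCoh.Ga S).obj.obj (op U)) : mkA S U (valA S U x) = x := rfl
lemma valA_mkA (U : S.Etale) (a : Γ(U.left, ⊤)) : valA S U (mkA S U a) = a := rfl

lemma mkA_injective (U : S.Etale) : Function.Injective (mkA S U) := fun _ _ h =>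
  congrArg (valA S U) h

lemma valA_map {U V : S.Etale} (g : V ⟶ U) (x : (EtCoh.Ga S).obj.obj (op U)) :
    valA S V ((EtCoh.Ga S).obj.map g.op x) = g.left.appTop.hom (valA S U x) := rfl

lemma valA_AS (U : S.Etale) (x : (EtCoh.Ga S).obj.obj (op U)) :
    valA S U ((AS S p hp h0).hom.app (op U) x) = (valA S U x) ^ p - valA S U x := rfl

lemma valA_zero (U : S.Etale) : valA S U 0 = 0 := rfl

/-- the kernel of the Artin–Schreier endomorphism -/
noncomputable abbrev K : EtCoh.Ab S := kernel (AS S p hp h0)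

/-- its inclusion -/
noncomputable abbrev Kι : K S p hp h0 ⟶ EtCoh.Ga S := kernel.ι (AS S p hp h0)

lemma Kι_app_injective (U : S.Etale) :
    Function.Injective ((Kι S p hp h0).hom.app (op U)) := by
  have h1 : Mono (Kι S p hp h0).hom := inferInstance
  have h2 : Mono ((Kι S p hp h0).hom.app (op U)) := inferInstance
  exact (AddCommGrpCat.mono_iff_injective _).mp h2

lemma Kι_AS_app (U : S.Etale) (t : (K S p hp h0).obj.obj (op U)) :
    (AS S p hp h0).hom.app (op U) ((Kι S p hp h0).hom.app (op U) t) = 0 := by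
  have h : Kι S p hp h0 ≫ AS S p hp h0 = 0 := kernel.condition _
  exact congrArg (fun f => f.hom.app (op U) t) h

variable {S p}

include h0 in
lemma h0U (U : S.Etale) : (p : Γ(U.left, ⊤)) = 0 :=
  W4c5etcohweilstudent.natCast_eq_zero_etale p h0 U

/-- the constant sections -/
noncomputable def cst (U : S.Etale) : ZMod p →+ (EtCoh.Ga S).obj.obj (op U) :=
  (AddEquiv.ulift (α := Γ(U.left, ⊤))).symm.toAddMonoidHom.comp
    (ZMod.lift p ⟨Int.castAddHom Γ(U.left, ⊤), by
      change ((p : ℤ) : Γ(U.left, ⊤)) = 0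
      rw [Int.cast_natCast]
      exact h0U h0 U⟩)

lemma cst_intCast (U : S.Etale) (i : ℤ) : cst h0 U (i : ZMod p) = mkA S U (i : Γ(U.left, ⊤)) := by
  unfold cst
  change (AddEquiv.ulift (α := Γ(U.left, ⊤))).symm (ZMod.lift p _ (i : ZMod p)) = _
  rw [ZMod.lift_coe]
  rfl

lemma map_cst {U V : S.Etale} (g : V ⟶ U) (k : ZMod p) :
    (EtCoh.Ga S).obj.map g.op (cst h0 U k) = cst h0 V k := by
  obtain ⟨i, rfl⟩ := ZMod.intCast_surjective k
  rw [cst_intCast, cst_intCast]
  apply congrArg (mkA S V)
  change g.left.appTop.hom (i : Γ(U.left, ⊤)) = _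
  rw [map_intCast]

/-- the presheaf-level map -/
noncomputable def psi0 : P0 S p ⟶ (EtCoh.Ga S).obj where
  app U := AddCommGrpCat.ofHom ((cst h0 (unop U)).comp AddEquiv.ulift.toAddMonoidHom)
  naturality U V g := by
    ext k
    change cst h0 (unop V) k.down = (EtCoh.Ga S).obj.map g (cst h0 (unop U) k.down)
    exact (map_cst h0 g.unop k.down).symm

lemma psi0_app (U : S.Etale) (k : ULift.{u+1} (ZMod p)) :
    (psi0 h0).app (op U) k = cst h0 U k.down := rfl

/-- the sheaf-level map -/
noncomputable def psi : C0 S p ⟶ EtCoh.Ga S :=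
  ⟨sheafifyLift S.smallEtaleTopology (psi0 h0) (EtCoh.Ga S).property⟩

lemma toSheafify_psi :
    toSheafify S.smallEtaleTopology (P0 S p) ≫ (psi h0).hom = psi0 h0 :=
  toSheafify_sheafifyLift _ _ _

include hp in
lemma psi0_AS : psi0 h0 ≫ (AS S p hp h0).hom = 0 := by
  ext U k
  induction U using Opposite.rec with | _ U => ?_
  change (AS S p hp h0).hom.app (op U) ((psi0 h0).app (op U) k) = 0
  rw [psi0_app]
  obtain ⟨i, hi⟩ := ZMod.intCast_surjective k.down
  rw [← hi, cst_intCast]
  change mkA S U ((i : Γ(U.left, ⊤)) ^ p - (i : Γ(U.left, ⊤))) = 0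
  rw [intCast_pow p hp (h0U h0 U), sub_self]
  rfl

include hp in
lemma psi_AS : psi h0 ≫ AS S p hp h0 = 0 := by
  apply Sheaf.hom_ext
  apply sheafify_hom_ext _ _ _ (EtCoh.Ga S).property
  rw [sheaf_comp_hom, ← Category.assoc, toSheafify_psi, psi0_AS hp h0, sheaf_zero_hom, comp_zero]

/-- the lift to the kernel -/
noncomputable def theta : C0 S p ⟶ K S p hp h0 :=
  kernel.lift (AS S p hp h0) (psi h0) (psi_AS hp h0)

lemma theta_Kι : theta hp h0 ≫ Kι S p hp h0 = psi h0 := kernel.lift_ι _ _ _

/-- presheaf-level version of `theta` -/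
noncomputable def theta0 : P0 S p ⟶ (K S p hp h0).obj :=
  toSheafify S.smallEtaleTopology (P0 S p) ≫ (theta hp h0).hom

lemma theta0_Kι : theta0 hp h0 ≫ (Kι S p hp h0).hom = psi0 h0 := by
  unfold theta0
  rw [Category.assoc, ← sheaf_comp_hom, theta_Kι, toSheafify_psi]

lemma Kι_theta0_app (U : S.Etale) (k : ULift.{u+1} (ZMod p)) :
    (Kι S p hp h0).hom.app (op U) ((theta0 hp h0).app (op U) k) = cst h0 U k.down := by
  have := congrArg (fun f => f.app (op U) k) (theta0_Kι hp h0)
  exact this

include hp in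
lemma isEmpty_of_cst_eq (U : S.Etale) {k k' : ZMod p} (hkk : k ≠ k')
    (h : cst h0 U k = cst h0 U k') : IsEmpty U.left := by
  haveI : Fact p.Prime := ⟨hp⟩
  obtain ⟨i, rfl⟩ := ZMod.intCast_surjective k
  obtain ⟨i', rfl⟩ := ZMod.intCast_surjective k'
  rw [cst_intCast, cst_intCast] at h
  have h1 : ((i - i' : ℤ) : Γ(U.left, ⊤)) = 0 := by
    have := mkA_injective S U h
    push_cast
    rw [this, sub_self]
  have h2 : ¬ (p : ℤ) ∣ (i - i') := by
    intro hd
    apply hkk
    have := (ZMod.intCast_zmod_eq_zero_iff_dvd (i - i') p).2 hd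
    push_cast at this
    exact sub_eq_zero.1 this
  have hcop : IsCoprime (i - i') (p : ℤ) := by
    have hpz : Prime (p : ℤ) := Nat.prime_iff_prime_int.1 hp
    exact (hpz.coprime_iff_not_dvd.2 h2).symm
  obtain ⟨x, y, hxy⟩ := hcop
  apply isEmpty_of_one_eq_zero
  have h3 := congrArg (Int.cast (R := Γ(U.left, ⊤))) hxy
  push_cast at h3
  have h4 : ((i : Γ(U.left, ⊤)) - (i' : Γ(U.left, ⊤))) = 0 := by
    have := h1
    push_cast at this
    exact this
  rw [h4, mul_zero, h0U h0 U, mul_zero, add_zero] at h3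
  exact h3.symm

include hp in
lemma isLocallyInjective_theta0 :
    Presheaf.IsLocallyInjective S.smallEtaleTopology (theta0 hp h0) := by
  constructor
  intro U x y hxy
  induction U using Opposite.rec with | _ U => ?_
  by_cases hk : x = y
  · subst hk
    rw [Presheaf.equalizerSieve_self_eq_top]
    exact GrothendieckTopology.top_mem _ _
  · have h1 := congrArg ((Kι S p hp h0).hom.app (op U)) hxy
    rw [Kι_theta0_app, Kι_theta0_app] at h1
    have hne : x.down ≠ y.down := fun h => hk (ULift.ext _ _ h)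
    haveI := isEmpty_of_cst_eq hp h0 U hne h1
    rw [mem_smallEtale_iff]
    intro pt
    exact isEmptyElim pt

include hp h0 in
lemma exists_local_int (U : S.Etale) (a : Γ(U.left, ⊤)) (ha : a ^ p = a) (pt : U.left) :
    ∃ (W : S.Etale) (g : W ⟶ U) (y : W.left) (i : ℤ), g.left y = pt ∧
      g.left.appTop.hom a = (i : Γ(W.left, ⊤)) := by
  let ev := (U.left.evaluation ⊤ pt trivial).hom
  haveI : (RingHom.ker ev).IsPrime := RingHom.ker_isPrime ev
  obtain ⟨i, e, he, hmul⟩ := exists_local_const p hp (h0U h0 U) a ha (RingHom.ker ev)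
  have hp' : pt ∈ U.left.basicOpen e := by
    rw [← Scheme.evaluation_ne_zero_iff_mem_basicOpen U.left (U := ⊤) pt trivial e]
    exact fun h => he ((RingHom.mem_ker).mpr h)
  refine ⟨basicEt U e, basicEtHom U e, ⟨pt, hp'⟩, i, rfl, ?_⟩
  have h1 := congrArg (U.left.basicOpen e).ι.appTop.hom hmul
  rw [map_mul, map_zero, map_sub, map_intCast] at h1
  have h2 := (isUnit_ι_appTop_basicOpen U.left e).mul_right_eq_zero.mp h1
  exact sub_eq_zero.1 h2

include hp in
lemma isLocallySurjective_theta0 :
    Presheaf.IsLocallySurjective S.smallEtaleTopology (theta0 hp h0) := by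
  constructor
  intro U t
  rw [mem_smallEtale_iff]
  intro pt
  have hx := Kι_AS_app S p hp h0 U t
  have ha : (valA S U ((Kι S p hp h0).hom.app (op U) t)) ^ p =
      valA S U ((Kι S p hp h0).hom.app (op U) t) := by
    have := congrArg (valA S U) hx
    rw [valA_AS, valA_zero] at this
    exact sub_eq_zero.1 this
  obtain ⟨W, g, y, i, hy, hi⟩ := exists_local_int hp h0 U _ ha pt
  refine ⟨W, g, y, ?_, hy⟩
  refine ⟨ULift.up (i : ZMod p), ?_⟩
  apply Kι_app_injective S p hp h0 W
  rw [Kι_theta0_app]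
  have hnat := NatTrans.naturality_apply (Kι S p hp h0).hom g.op t
  refine Eq.trans ?_ hnat.symm
  change cst h0 W (i : ZMod p) = _
  rw [cst_intCast]
  apply congrArg (mkA S W)
  exact hi.symm

include hp in
theorem isIso_theta : IsIso (theta hp h0) := by
  haveI := isLocallyInjective_theta0 hp h0
  haveI := isLocallySurjective_theta0 hp h0
  have fac : toSheafify S.smallEtaleTopology (P0 S p) ≫ (theta hp h0).hom = theta0 hp h0 := rfl
  haveI : Presheaf.IsLocallyInjective S.smallEtaleTopology (theta hp h0).hom :=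
    Presheaf.isLocallyInjective_of_isLocallyInjective_of_isLocallySurjective_fac _ _ fac
  haveI : Presheaf.IsLocallySurjective S.smallEtaleTopology (theta hp h0).hom :=
    Presheaf.isLocallySurjective_of_isLocallySurjective_fac _ fac
  exact (Sheaf.isLocallyBijective_iff_isIso _).mp ⟨inferInstance, inferInstance⟩

/-- the kernel of Artin–Schreier is the constant sheaf `ℤ/p` -/
noncomputable def constIsoK : EtCoh.const S (ZMod p) ≅ K S p hp h0 :=
  @asIso _ _ _ _ (theta hp h0) (isIso_theta hp h0)

/-- the Artin–Schreier short complex `0 → K → G_a → G_a → 0` -/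
noncomputable def asSC : ShortComplex (EtCoh.Ab S) :=
  ShortComplex.mk (Kι S p hp h0) (AS S p hp h0) (kernel.condition _)

theorem asSC_shortExact : (asSC hp h0).ShortExact where
  exact := ShortComplex.exact_of_f_is_kernel _ (kernelIsKernel _)
  mono_f := by dsimp [asSC]; infer_instance
  epi_g := Groth.Agent.Lib.H9AS.epi_artinSchreier p hp h0

end Sheaf

end Groth.Agent.Lib.Helper8ASKernel
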