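import Mathlib

/-!
# Global sections of a wide fibre product of affine schemes (helper8)

Let `f : Vs ⟶ Us` be a morphism of affine schemes and `Q` an affine scheme with maps
`π k : Q ⟶ Vs` (`k : Fin (n+1)`) making `Q` the `(n+1)`-fold fibre product of `Vs` over `Us`
(universal property against all schemes).  Then the canonical map from the wide pushout of `n+1`
copies of `Γ(Vs)` under `Γ(Us)` (in `CommRingCat`) to `Γ(Q)` is an isomorphism.
-/

set_option autoImplicit false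
universe u
open CategoryTheory CategoryTheory.Limits AlgebraicGeometry Opposite

namespace Groth.Agent.Lib.Helper8AffWide

lemma isoSpec_inv_appTop (X : Scheme.{u}) [IsAffine X] :
    X.isoSpec.inv.appTop = (Scheme.ΓSpecIso Γ(X, ⊤)).inv := by
  have h1 : X.isoSpec.hom.appTop = (Scheme.ΓSpecIso Γ(X, ⊤)).hom := Scheme.toSpecΓ_appTop X
  have h2 : X.isoSpec.hom.appTop ≫ X.isoSpec.inv.appTop = 𝟙 _ := by
    rw [← Scheme.Hom.comp_appTop, Iso.inv_hom_id]
    rfl
  rw [h1] at h2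
  have h3 := congrArg (fun g => (Scheme.ΓSpecIso Γ(X, ⊤)).inv ≫ g) h2
  simp only [Iso.inv_hom_id_assoc, Category.comp_id] at h3
  exact h3

variable {Us Vs Q : Scheme.{u}} [IsAffine Us] [IsAffine Vs] [IsAffine Q] (f : Vs ⟶ Us) (n : ℕ)
  (π : Fin (n + 1) → (Q ⟶ Vs)) (b : Q ⟶ Us) (hπ : ∀ k, π k ≫ f = b)

/-- the comparison map from the wide pushout to the global sections of `Q` -/
noncomputable def cmp : widePushout Γ(Us, ⊤) (fun _ : Fin (n + 1) => Γ(Vs, ⊤)) (fun _ => f.appTop) ⟶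
    Γ(Q, ⊤) :=
  WidePushout.desc b.appTop (fun k => (π k).appTop) (fun k => by
    rw [← Scheme.Hom.comp_appTop, hπ k])

lemma ι_cmp (k : Fin (n + 1)) :
    WidePushout.ι (fun _ : Fin (n + 1) => f.appTop) k ≫ cmp f n π b hπ = (π k).appTop :=
  WidePushout.ι_desc _ _ _ _ k

lemma head_cmp :
    WidePushout.head (fun _ : Fin (n + 1) => f.appTop) ≫ cmp f n π b hπ = b.appTop :=
  WidePushout.head_desc _ _ _ _

/-- the wide pushout ring -/
noncomputable abbrev WP : CommRingCat.{u} :=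
  widePushout Γ(Us, ⊤) (fun _ : Fin (n + 1) => Γ(Vs, ⊤)) (fun _ => f.appTop)

/-- the projections `Spec WP ⟶ Vs` -/
noncomputable def wk (k : Fin (n + 1)) : Spec (WP f n) ⟶ Vs :=
  Spec.map (WidePushout.ι (fun _ : Fin (n + 1) => f.appTop) k) ≫ Vs.isoSpec.inv

lemma wk_comp (k : Fin (n + 1)) :
    wk f n k ≫ f =
      Spec.map (WidePushout.head (fun _ : Fin (n + 1) => f.appTop)) ≫ Us.isoSpec.inv := by
  unfold wk
  rw [Category.assoc, ← Scheme.isoSpec_inv_naturality f, ← Category.assoc, ← Spec.map_comp]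
  have := WidePushout.arrow_ι (fun _ : Fin (n + 1) => f.appTop) k
  rw [this]

include hπ in
theorem isIso_cmp
    (hlift : ∀ (T : Scheme.{u}) (w : Fin (n + 1) → (T ⟶ Vs)) (c : T ⟶ Us), (∀ k, w k ≫ f = c) →
      ∃ t : T ⟶ Q, ∀ k, t ≫ π k = w k)
    (hext : ∀ (T : Scheme.{u}) (t t' : T ⟶ Q), (∀ k, t ≫ π k = t' ≫ π k) → t = t') :
    IsIso (cmp f n π b hπ) := by
  obtain ⟨t, ht⟩ := hlift (Spec (WP f n)) (wk f n) _ (wk_comp f n)
  let s : Q ⟶ Spec (WP f n) := Q.isoSpec.hom ≫ Spec.map (cmp f n π b hπ)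
  have hst : s ≫ t = 𝟙 Q := by
    apply hext
    intro k
    rw [Category.assoc, ht k, Category.id_comp]
    change (Q.isoSpec.hom ≫ Spec.map (cmp f n π b hπ)) ≫
      Spec.map (WidePushout.ι (fun _ : Fin (n + 1) => f.appTop) k) ≫ Vs.isoSpec.inv = π k
    rw [Category.assoc, ← Category.assoc (Spec.map _), ← Spec.map_comp, ι_cmp,
      Scheme.isoSpec_inv_naturality, Iso.hom_inv_id_assoc]
  have hcomp : cmp f n π b hπ ≫ t.appTop = (Scheme.ΓSpecIso (WP f n)).inv := by
    apply WidePushout.hom_ext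
    · intro k
      rw [← Category.assoc, ι_cmp, ← Scheme.Hom.comp_appTop, ht k]
      unfold wk
      rw [Scheme.Hom.comp_appTop, isoSpec_inv_appTop, Scheme.ΓSpecIso_inv_naturality]
    · rw [← Category.assoc, head_cmp, ← hπ 0, ← Scheme.Hom.comp_appTop, ← Category.assoc, ht 0,
        wk_comp, Scheme.Hom.comp_appTop, isoSpec_inv_appTop, Scheme.ΓSpecIso_inv_naturality]
  have hts : t ≫ s = 𝟙 _ := by
    change t ≫ Q.isoSpec.hom ≫ Spec.map (cmp f n π b hπ) = 𝟙 _
    rw [← Category.assoc, ← Scheme.isoSpec_hom_naturality, Category.assoc, ← Spec.map_comp, hcomp,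
      Scheme.isoSpec_Spec_hom, ← Spec.map_comp, Iso.inv_hom_id, Spec.map_id]
  haveI : IsIso t := ⟨s, hts, hst⟩
  haveI : IsIso t.appTop := inferInstanceAs (IsIso (t.app ⊤))
  haveI : IsIso (cmp f n π b hπ ≫ t.appTop) := by rw [hcomp]; infer_instance
  exact IsIso.of_isIso_comp_right _ t.appTop

end Groth.Agent.Lib.Helper8AffWide
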