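import Mathlib
import Groth.Prelude.Def_EtCore
import Groth.Agent.Lib.Helper9EtFpCech
import Groth.Prelude.Def_CohCx

/-!
# Affine objects of the small coherent model of the étale site (helper8)

For a qcqs scheme `S`: the underlying-scheme functor `Ftot S : Cfp S ⥤ Scheme` preserves finite wide
pullbacks, so that finite products in `Over U` (in `Cfp S`) have the universal property of iterated
fibre products against all schemes (`exists_lift`, `lift_ext`), and are affine when the factors and
`U` are (`isAffine_pi`).
-/

set_option autoImplicit false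
set_option linter.style.haveILetI false
open CategoryTheory CategoryTheory.Limits AlgebraicGeometry Opposite
universe u

namespace Groth.Agent.Lib.Helper8EtFpAff
open Groth.Agent.Lib.Helper9.EtFp

variable (S : Scheme.{u})

/-- the underlying scheme functor -/
noncomputable abbrev Ftot : Cfp S ⥤ Scheme.{u} := G S ⋙ Scheme.Etale.forget S ⋙ Over.forget S

section qcqs
variable [CompactSpace S] [QuasiSeparatedSpace S]

instance preservesFiniteLimits_G : PreservesFiniteLimits (G S) := by
  haveI : HasTerminal (Fp S) := inferInstance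
  haveI : HasPullbacks (Fp S) := inferInstance
  haveI : HasFiniteLimits (Fp S) := hasFiniteLimits_of_hasTerminal_and_pullbacks
  haveI : PreservesLimitsOfShape (Discrete PEmpty.{1}) (fpProp S).ι := inferInstance
  haveI : PreservesLimitsOfShape WalkingCospan (fpProp S).ι := inferInstance
  haveI : PreservesFiniteLimits (fpProp S).ι :=
    preservesFiniteLimits_of_preservesTerminal_and_pullbacks _
  haveI : PreservesFiniteLimits (ULiftHom.down : ULiftHom.{u + 1} (Fp S) ⥤ Fp S) := by
    constructor
    intro K _ _
    infer_instance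
  unfold G
  exact comp_preservesFiniteLimits _ _

instance preservesWide (n : ℕ) : PreservesLimitsOfShape (WidePullbackShape (Fin n)) (Ftot S) := by
  haveI : PreservesLimitsOfShape (WidePullbackShape (Fin n)) (G S) := inferInstance
  haveI : PreservesLimitsOfShape (WidePullbackShape (Fin n)) (Scheme.Etale.forget S) := inferInstance
  haveI : PreservesLimitsOfShape (WidePullbackShape (Fin n)) (Over.forget S) := inferInstance
  unfold Ftot
  infer_instance

variable {S} {U : Cfp S} {n : ℕ} (Z : Fin (n + 1) → Over U)

/-- the wide pullback cone in `Cfp S` attached to the product of the `Z k` in `Over U` -/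
noncomputable abbrev wideCone :
    Cone (Over.ConstructProducts.widePullbackDiagramOfDiagramOver U (Discrete.functor Z)) :=
  (Over.ConstructProducts.conesEquiv U (Discrete.functor Z)).inverse.obj
    (limit.cone (Discrete.functor Z))

/-- it is a limit cone -/
noncomputable def wideConeIsLimit : IsLimit (wideCone Z) :=
  IsLimit.ofRightAdjoint (Over.ConstructProducts.conesEquiv U (Discrete.functor Z)).toAdjunction
    (limit.isLimit _)

/-- its image in schemes is a limit cone -/
noncomputable def schemeConeIsLimit : IsLimit ((Ftot S).mapCone (wideCone Z)) :=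
  isLimitOfPreserves (Ftot S) (wideConeIsLimit Z)

lemma schemeCone_π_some (k : Fin (n + 1)) :
    ((Ftot S).mapCone (wideCone Z)).π.app (some k) = (Ftot S).map (Pi.π Z k).left := rfl

lemma schemeCone_π_none :
    ((Ftot S).mapCone (wideCone Z)).π.app none = (Ftot S).map (∏ᶜ Z).hom := rfl

theorem exists_lift (T : Scheme.{u}) (w : ∀ k, T ⟶ (Ftot S).obj (Z k).left)
    (c : T ⟶ (Ftot S).obj U) (hw : ∀ k, w k ≫ (Ftot S).map (Z k).hom = c) :
    ∃ t : T ⟶ (Ftot S).obj (∏ᶜ Z).left, ∀ k, t ≫ (Ftot S).map (Pi.π Z k).left = w k := by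
  let cT : Cone (Over.ConstructProducts.widePullbackDiagramOfDiagramOver U (Discrete.functor Z) ⋙
      Ftot S) := WidePullbackShape.mkCone c w hw
  refine ⟨(schemeConeIsLimit Z).lift cT, fun k => ?_⟩
  exact (schemeConeIsLimit Z).fac cT (some k)

theorem lift_ext (T : Scheme.{u}) (t t' : T ⟶ (Ftot S).obj (∏ᶜ Z).left)
    (h : ∀ k, t ≫ (Ftot S).map (Pi.π Z k).left = t' ≫ (Ftot S).map (Pi.π Z k).left) : t = t' := by
  apply (schemeConeIsLimit Z).hom_ext
  rintro (_ | k)
  · have e : (∏ᶜ Z).hom = (Pi.π Z 0).left ≫ (Z 0).hom := (Over.w (Pi.π Z 0)).symm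
    change t ≫ (Ftot S).map (∏ᶜ Z).hom = t' ≫ (Ftot S).map (∏ᶜ Z).hom
    rw [e, Functor.map_comp]
    exact (Category.assoc _ _ _).symm.trans
      ((congrArg (fun g => g ≫ (Ftot S).map (Z 0).hom) (h 0)).trans (Category.assoc _ _ _))
  · exact h k

/-- finite products in `Over U` of affine objects over an affine object are affine -/
theorem isAffine_pi (hU : IsAffine ((Ftot S).obj U)) (hZ : ∀ k, IsAffine ((Ftot S).obj (Z k).left)) :
    IsAffine ((Ftot S).obj (∏ᶜ Z).left) := by
  haveI : ∀ j, IsAffine ((Over.ConstructProducts.widePullbackDiagramOfDiagramOver U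
      (Discrete.functor Z) ⋙ Ftot S).obj j) := by
    rintro (_ | k)
    · exact hU
    · exact hZ k
  exact Scheme.isAffine_of_isLimit _ (schemeConeIsLimit Z)

end qcqs

end Groth.Agent.Lib.Helper8EtFpAff
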