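import Mathlib

/-!
# Exactness of the Amitsur complex (Čech conerve form) in positive degrees

For a faithfully flat ring map `R → A`, the alternating coface complex of the Čech conerve of
`R → A` in `CommRingCat` is exact in positive degrees.  The proof uses only the universal property
of the wide pushouts: after tensoring with `A` the complex acquires a contracting homotopy.
-/

set_option autoImplicit false
universe v u

open CategoryTheory CategoryTheory.Limits TensorProduct

namespace Groth.Agent.Lib.R2H7.AmitsurCech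

section gen
variable {C : Type u} [Category.{v} C] (f : Arrow C)
variable [∀ n : ℕ, HasWidePushout f.left (fun _ : Fin (n + 1) => f.right) fun _ => f.hom]

theorem ι_cechConerve_map {x y : SimplexCategory} (g : x ⟶ y) (j : Fin (x.len + 1)) :
    WidePushout.ι (fun _ : Fin (x.len + 1) => f.hom) j ≫ f.cechConerve.map g =
      WidePushout.ι (fun _ : Fin (y.len + 1) => f.hom) (g.toOrderHom j) := by
  rw [Arrow.cechConerve_map]
  apply WidePushout.ι_desc

theorem head_cechConerve_map {x y : SimplexCategory} (g : x ⟶ y) :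
    WidePushout.head (fun _ : Fin (x.len + 1) => f.hom) ≫ f.cechConerve.map g =
      WidePushout.head (fun _ : Fin (y.len + 1) => f.hom) := by
  rw [Arrow.cechConerve_map]
  apply WidePushout.head_desc

end gen

variable (R A : Type u) [CommRing R] [CommRing A] [Algebra R A]

/-- The arrow `R → A` in `CommRingCat`. -/
noncomputable abbrev arr : Arrow CommRingCat.{u} := Arrow.mk (CommRingCat.ofHom (algebraMap R A))

/-- The `n`-th term of the Čech conerve. -/
noncomputable abbrev Cn (n : ℕ) : CommRingCat.{u} :=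
  (arr R A).cechConerve.obj (SimplexCategory.mk n)

variable {R A}

/-- The structure map `R → C^n`. -/
noncomputable def headHom (n : ℕ) : R →+* Cn R A n :=
  (WidePushout.head (fun _ : Fin (n + 1) => (arr R A).hom)).hom

/-- The `i`-th inclusion `A → C^n`. -/
noncomputable def iotaHom (n : ℕ) (i : Fin (n + 1)) : A →+* Cn R A n :=
  (WidePushout.ι (fun _ : Fin (n + 1) => (arr R A).hom) i).hom

theorem iotaHom_algebraMap (n : ℕ) (i : Fin (n + 1)) (r : R) :
    iotaHom n i (algebraMap R A r) = headHom (A := A) n r := by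
  have := WidePushout.arrow_ι (fun _ : Fin (n + 1) => (arr R A).hom) i
  exact congrArg (fun f => f.hom r) this

/-- The coface map as a ring hom. -/
noncomputable def deltaHom (n : ℕ) (i : Fin (n + 2)) : Cn R A n →+* Cn R A (n + 1) :=
  ((arr R A).cechConerve.δ i).hom

theorem deltaHom_iota (n : ℕ) (i : Fin (n + 2)) (j : Fin (n + 1)) (a : A) :
    deltaHom n i (iotaHom (R := R) n j a) = iotaHom (n + 1) (i.succAbove j) a := by
  have := ι_cechConerve_map (arr R A) (SimplexCategory.δ i) j
  exact congrArg (fun f => f.hom a) this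

theorem deltaHom_head (n : ℕ) (i : Fin (n + 2)) (r : R) :
    deltaHom n i (headHom (A := A) n r) = headHom (n + 1) r := by
  have := head_cechConerve_map (arr R A) (SimplexCategory.δ i)
  exact congrArg (fun f => f.hom r) this

/-- Two ring homs out of `C^n` agreeing on the images of `R` and of all the copies of `A` agree. -/
theorem ringHom_ext {S : Type u} [CommRing S] (n : ℕ) (f g : Cn R A n →+* S)
    (h0 : ∀ r : R, f (headHom n r) = g (headHom n r))
    (h : ∀ (i : Fin (n + 1)) (a : A), f (iotaHom n i a) = g (iotaHom n i a)) : f = g := by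
  have : CommRingCat.ofHom f = CommRingCat.ofHom g := by
    apply WidePushout.hom_ext
    · intro j
      ext a
      exact h j a
    · ext r
      exact h0 r
  exact congrArg (fun φ => φ.hom) this

/-- The `R`-algebra structure on `C^n`. -/
noncomputable instance algCn (n : ℕ) : Algebra R (Cn R A n) := (headHom n).toAlgebra

theorem algebraMap_Cn (n : ℕ) (r : R) : algebraMap R (Cn R A n) r = headHom n r := rfl

/-- The coface maps as `R`-algebra homs. -/
noncomputable def deltaAlg (n : ℕ) (i : Fin (n + 2)) : Cn R A n →ₐ[R] Cn R A (n + 1) :=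
  { deltaHom n i with
    commutes' := fun r => deltaHom_head n i r }

theorem deltaAlg_apply (n : ℕ) (i : Fin (n + 2)) (c : Cn R A n) :
    deltaAlg n i c = deltaHom n i c := rfl

/-- The inclusions as `R`-algebra homs. -/
noncomputable def iotaAlg (n : ℕ) (i : Fin (n + 1)) : A →ₐ[R] Cn R A n :=
  { iotaHom n i with
    commutes' := fun r => iotaHom_algebraMap n i r }

theorem iotaAlg_apply (n : ℕ) (i : Fin (n + 1)) (a : A) : iotaAlg (R := R) n i a = iotaHom n i a :=
  rfl

theorem algHom_ext {S : Type u} [CommRing S] [Algebra R S] (n : ℕ) (f g : Cn R A n →ₐ[R] S)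
    (h : ∀ (i : Fin (n + 1)) (a : A), f (iotaHom n i a) = g (iotaHom n i a)) : f = g := by
  have := ringHom_ext n f.toRingHom g.toRingHom
    (fun r => by
      change f (algebraMap R _ r) = g (algebraMap R _ r)
      rw [f.commutes, g.commutes])
    h
  exact AlgHom.ext (fun c => congrArg (fun φ => φ c) this)

/-- The alternating sum differential, as an `R`-linear map. -/
noncomputable def dLin (n : ℕ) : Cn R A n →ₗ[R] Cn R A (n + 1) :=
  ∑ i : Fin (n + 2), (-1 : ℤ) ^ (i : ℕ) • (deltaAlg n i).toLinearMap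

/-- The ring map `C^(n+1) → A ⊗ C^n` splitting off the first factor. -/
noncomputable def sigmaHom (n : ℕ) : Cn R A (n + 1) →+* A ⊗[R] Cn R A n :=
  (WidePushout.desc (X := CommRingCat.of (A ⊗[R] Cn R A n))
    (CommRingCat.ofHom (algebraMap R (A ⊗[R] Cn R A n)))
    (fun j : Fin (n + 2) => Fin.cases
      (CommRingCat.ofHom (Algebra.TensorProduct.includeLeft (R := R) (S := R)
        (A := A) (B := Cn R A n)).toRingHom)
      (fun j' => CommRingCat.ofHom ((Algebra.TensorProduct.includeRight (R := R)
        (A := A) (B := Cn R A n)).toRingHom.comp (iotaHom n j'))) j)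
    (by
      intro j
      ext r
      refine Fin.cases ?_ (fun j' => ?_) j
      · change (Algebra.TensorProduct.includeLeft (R := R) (S := R) (A := A) (B := Cn R A n))
          (algebraMap R A r) = _
        rw [AlgHom.commutes]
        rfl
      · change (Algebra.TensorProduct.includeRight (R := R) (A := A) (B := Cn R A n))
          (iotaHom n j' (algebraMap R A r)) = _
        rw [iotaHom_algebraMap, ← algebraMap_Cn, AlgHom.commutes]
        rfl)).hom

theorem sigmaHom_head (n : ℕ) (r : R) :
    sigmaHom (A := A) n (headHom (n + 1) r) = algebraMap R (A ⊗[R] Cn R A n) r := by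
  have := WidePushout.head_desc (X := CommRingCat.of (A ⊗[R] Cn R A n))
    (arrows := fun _ : Fin (n + 2) => (arr R A).hom)
    (CommRingCat.ofHom (algebraMap R (A ⊗[R] Cn R A n)))
    (fun j : Fin (n + 2) => Fin.cases
      (CommRingCat.ofHom (Algebra.TensorProduct.includeLeft (R := R) (S := R)
        (A := A) (B := Cn R A n)).toRingHom)
      (fun j' => CommRingCat.ofHom ((Algebra.TensorProduct.includeRight (R := R)
        (A := A) (B := Cn R A n)).toRingHom.comp (iotaHom n j'))) j)
  exact congrArg (fun f => f.hom r) (this _)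

theorem sigmaHom_iota (n : ℕ) (j : Fin (n + 2)) (a : A) :
    sigmaHom (R := R) n (iotaHom (n + 1) j a) =
      (Fin.cases
      (CommRingCat.ofHom (Algebra.TensorProduct.includeLeft (R := R) (S := R)
        (A := A) (B := Cn R A n)).toRingHom)
      (fun j' => CommRingCat.ofHom ((Algebra.TensorProduct.includeRight (R := R)
        (A := A) (B := Cn R A n)).toRingHom.comp (iotaHom n j'))) j :
          CommRingCat.of A ⟶ CommRingCat.of (A ⊗[R] Cn R A n)).hom a := by
  have := WidePushout.ι_desc (X := CommRingCat.of (A ⊗[R] Cn R A n))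
    (arrows := fun _ : Fin (n + 2) => (arr R A).hom)
    (CommRingCat.ofHom (algebraMap R (A ⊗[R] Cn R A n)))
    (fun j : Fin (n + 2) => Fin.cases
      (CommRingCat.ofHom (Algebra.TensorProduct.includeLeft (R := R) (S := R)
        (A := A) (B := Cn R A n)).toRingHom)
      (fun j' => CommRingCat.ofHom ((Algebra.TensorProduct.includeRight (R := R)
        (A := A) (B := Cn R A n)).toRingHom.comp (iotaHom n j'))) j)
  exact congrArg (fun f => f.hom a) (this _ j)

theorem sigmaHom_iota_zero (n : ℕ) (a : A) :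
    sigmaHom (R := R) n (iotaHom (n + 1) 0 a) = a ⊗ₜ[R] (1 : Cn R A n) := by
  rw [sigmaHom_iota]
  rfl

theorem sigmaHom_iota_succ (n : ℕ) (j : Fin (n + 1)) (a : A) :
    sigmaHom (R := R) n (iotaHom (n + 1) j.succ a) = (1 : A) ⊗ₜ[R] (iotaHom n j a) := by
  rw [sigmaHom_iota]
  rfl

/-- `sigmaHom` as an `R`-algebra hom. -/
noncomputable def sigmaAlg (n : ℕ) : Cn R A (n + 1) →ₐ[R] A ⊗[R] Cn R A n :=
  { sigmaHom n with
    commutes' := fun r => sigmaHom_head n r }

theorem sigmaAlg_apply (n : ℕ) (c : Cn R A (n + 1)) : sigmaAlg n c = sigmaHom n c := rfl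

theorem sigma_comp_delta_zero (n : ℕ) :
    (sigmaAlg (R := R) (A := A) (n + 1)).comp (deltaAlg (n + 1) 0) =
      Algebra.TensorProduct.includeRight := by
  apply algHom_ext
  intro j a
  rw [AlgHom.comp_apply, deltaAlg_apply, deltaHom_iota, Fin.succAbove_zero, sigmaAlg_apply,
    sigmaHom_iota_succ]
  rfl

theorem sigma_comp_delta_succ (n : ℕ) (i : Fin (n + 2)) :
    (sigmaAlg (R := R) (A := A) (n + 1)).comp (deltaAlg (n + 1) i.succ) =
      (Algebra.TensorProduct.map (AlgHom.id R A) (deltaAlg n i)).comp (sigmaAlg n) := by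
  apply algHom_ext
  intro j a
  refine Fin.cases ?_ (fun j' => ?_) j
  · rw [AlgHom.comp_apply, deltaAlg_apply, deltaHom_iota, Fin.succ_succAbove_zero, sigmaAlg_apply,
      sigmaHom_iota_zero, AlgHom.comp_apply, sigmaAlg_apply, sigmaHom_iota_zero,
      Algebra.TensorProduct.map_tmul, map_one, AlgHom.id_apply]
  · rw [AlgHom.comp_apply, deltaAlg_apply, deltaHom_iota, Fin.succ_succAbove_succ, sigmaAlg_apply,
      sigmaHom_iota_succ, AlgHom.comp_apply, sigmaAlg_apply, sigmaHom_iota_succ,
      Algebra.TensorProduct.map_tmul, map_one, deltaAlg_apply, deltaHom_iota]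

/-- The contracting homotopy `A ⊗ C^(n+1) → A ⊗ C^n`. -/
noncomputable def sLin (n : ℕ) : A ⊗[R] Cn R A (n + 1) →ₗ[R] A ⊗[R] Cn R A n :=
  (Algebra.TensorProduct.productMap
    (Algebra.TensorProduct.includeLeft (R := R) (S := R) (A := A) (B := Cn R A n))
    (sigmaAlg n)).toLinearMap

theorem sLin_tmul (n : ℕ) (a : A) (c : Cn R A (n + 1)) :
    sLin n (a ⊗ₜ[R] c) = (a ⊗ₜ[R] (1 : Cn R A n)) * sigmaAlg n c := by
  unfold sLin
  rw [AlgHom.toLinearMap_apply, Algebra.TensorProduct.productMap_apply_tmul]
  rfl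

theorem lTensor_dLin (n : ℕ) :
    LinearMap.lTensor A (dLin (R := R) (A := A) n) =
      ∑ i : Fin (n + 2), (-1 : ℤ) ^ (i : ℕ) •
        (Algebra.TensorProduct.map (AlgHom.id R A) (deltaAlg n i)).toLinearMap := by
  unfold dLin
  have h1 := map_sum (LinearMap.lTensorHom (R := R) (M := A) (N := Cn R A n) (P := Cn R A (n + 1)))
    (fun i : Fin (n + 2) => (-1 : ℤ) ^ (i : ℕ) • (deltaAlg (R := R) (A := A) n i).toLinearMap)
    Finset.univ
  rw [LinearMap.coe_lTensorHom] at h1
  rw [h1]
  refine Finset.sum_congr rfl (fun i _ => ?_)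
  have h2 := map_zsmul (LinearMap.lTensorHom (R := R) (M := A) (N := Cn R A n)
    (P := Cn R A (n + 1))) ((-1 : ℤ) ^ (i : ℕ)) (deltaAlg (R := R) (A := A) n i).toLinearMap
  rw [LinearMap.coe_lTensorHom] at h2
  rw [h2]
  congr 1

theorem homotopy (n : ℕ) (w : A ⊗[R] Cn R A (n + 1)) :
    sLin (n + 1) (LinearMap.lTensor A (dLin (n + 1)) w) +
      LinearMap.lTensor A (dLin n) (sLin n w) = w := by
  induction w using TensorProduct.induction_on with
  | zero => simp only [map_zero, add_zero]
  | add x y hx hy =>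
    rw [map_add, map_add, map_add, map_add, add_add_add_comm, hx, hy]
  | tmul a c =>
    rw [LinearMap.lTensor_tmul, sLin_tmul, sLin_tmul, lTensor_dLin]
    unfold dLin
    rw [LinearMap.sum_apply, map_sum, Finset.mul_sum, Fin.sum_univ_succ, LinearMap.sum_apply]
    have h0 : sigmaAlg (R := R) (A := A) (n + 1) (deltaAlg (n + 1) 0 c) = (1 : A) ⊗ₜ[R] c := by
      rw [← AlgHom.comp_apply, sigma_comp_delta_zero]
      rfl
    have hs : ∀ i : Fin (n + 2), sigmaAlg (R := R) (A := A) (n + 1) (deltaAlg (n + 1) i.succ c) =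
        Algebra.TensorProduct.map (AlgHom.id R A) (deltaAlg n i) (sigmaAlg n c) := by
      intro i
      rw [← AlgHom.comp_apply, sigma_comp_delta_succ]
      rfl
    simp only [LinearMap.smul_apply, AlgHom.toLinearMap_apply, map_zsmul, h0, hs, Fin.val_zero,
      pow_zero, one_smul, Fin.val_succ, pow_succ, map_mul, Algebra.TensorProduct.map_tmul,
      AlgHom.id_apply, map_one, mul_smul_comm, Algebra.TensorProduct.tmul_mul_tmul, mul_one, one_mul]
    rw [add_assoc, ← Finset.sum_add_distrib]
    rw [Finset.sum_eq_zero, add_zero]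
    intro i _
    rw [mul_neg, mul_one, neg_smul, neg_add_cancel]

theorem addCommGrpCat_hom_sum {M N : AddCommGrpCat.{u}} {ι : Type*} (s : Finset ι)
    (f : ι → (M ⟶ N)) : (∑ i ∈ s, f i).hom = ∑ i ∈ s, (f i).hom := by
  classical
  induction s using Finset.induction_on with
  | empty => simp
  | insert a s ha ih => rw [Finset.sum_insert ha, Finset.sum_insert ha, AddCommGrpCat.hom_add, ih]

variable (R A : Type u) [CommRing R] [CommRing A] [Algebra R A]

/-- The cosimplicial abelian group. -/
noncomputable abbrev Xab : CosimplicialObject AddCommGrpCat.{u} :=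
  (arr R A).cechConerve ⋙ forget₂ CommRingCat RingCat ⋙ forget₂ RingCat AddCommGrpCat

/-- The complex. -/
noncomputable abbrev Kab : CochainComplex AddCommGrpCat.{u} ℕ :=
  AlgebraicTopology.AlternatingCofaceMapComplex.obj (Xab R A)

theorem Kab_d (n : ℕ) : (Kab R A).d n (n + 1) =
    AlgebraicTopology.AlternatingCofaceMapComplex.objD (Xab R A) n :=
  CochainComplex.of_d (fun n => (Xab R A).obj (SimplexCategory.mk n))
    (AlgebraicTopology.AlternatingCofaceMapComplex.objD (Xab R A)) n

theorem Xab_δ_apply (n : ℕ) (i : Fin (n + 2)) (c : Cn R A n) :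
    ((Xab R A).δ i).hom c = deltaHom n i c := rfl

theorem Kab_d_apply (n : ℕ) (c : Cn R A n) :
    ((Kab R A).d n (n + 1)).hom c = dLin (R := R) (A := A) n c := by
  have h0 : ((Kab R A).d n (n + 1)).hom c =
      (AlgebraicTopology.AlternatingCofaceMapComplex.objD (Xab R A) n).hom c :=
    congrArg (fun f => f.hom c) (Kab_d R A n)
  refine h0.trans ?_
  have h1 : (AlgebraicTopology.AlternatingCofaceMapComplex.objD (Xab R A) n).hom c =
      ∑ i : Fin (n + 2), ((-1 : ℤ) ^ (i : ℕ) • (Xab R A).δ i).hom c := by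
    have := addCommGrpCat_hom_sum Finset.univ
      (fun i : Fin (n + 2) => (-1 : ℤ) ^ (i : ℕ) • (Xab R A).δ i)
    exact (congrArg (fun f => f c) this).trans (AddMonoidHom.finsetSum_apply _ _ _)
  refine h1.trans ?_
  unfold dLin
  rw [LinearMap.sum_apply]
  refine Finset.sum_congr rfl (fun i _ => ?_)
  rfl

theorem dLin_dLin (n : ℕ) (c : Cn R A n) :
    dLin (R := R) (A := A) (n + 1) (dLin n c) = 0 := by
  rw [← Kab_d_apply, ← Kab_d_apply]
  have := (Kab R A).d_comp_d n (n + 1) (n + 2)
  exact congrArg (fun f => f.hom c) this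

theorem exact_dLin [Module.FaithfullyFlat R A] (n : ℕ) :
    Function.Exact (dLin (R := R) (A := A) n) (dLin (n + 1)) := by
  rw [← Module.FaithfullyFlat.lTensor_exact_iff_exact R A]
  intro w
  constructor
  · intro hw
    have h := homotopy n w
    rw [hw, map_zero, zero_add] at h
    exact ⟨sLin n w, h⟩
  · rintro ⟨v, rfl⟩
    rw [← LinearMap.comp_apply, ← LinearMap.lTensor_comp]
    have : dLin (R := R) (A := A) (n + 1) ∘ₗ dLin n = 0 := by
      ext c
      exact dLin_dLin R A n c
    rw [this, LinearMap.lTensor_zero, LinearMap.zero_apply]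

theorem exactAt [Module.FaithfullyFlat R A] (n : ℕ) (hn : 0 < n) : (Kab R A).ExactAt n := by
  obtain ⟨m, rfl⟩ : ∃ m, n = m + 1 := ⟨n - 1, by omega⟩
  rw [HomologicalComplex.exactAt_iff' (Kab R A) m (m + 1) (m + 2)
    (CochainComplex.prev_nat_succ m) (CochainComplex.next ℕ (m + 1)), ShortComplex.ab_exact_iff]
  intro x hx
  have h1 : dLin (R := R) (A := A) (m + 1) (show Cn R A (m + 1) from x) = 0 :=
    (Kab_d_apply R A (m + 1) x).symm.trans hx
  obtain ⟨y, hy⟩ := (exact_dLin R A m (show Cn R A (m + 1) from x)).mp h1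
  exact ⟨y, (Kab_d_apply R A m y).trans hy⟩

end Groth.Agent.Lib.R2H7.AmitsurCech
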