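import Mathlib
import Groth.Prelude.Def_EtGm
import Groth.Prelude.Def_CohCx
import Groth.Agent.Lib.Helper8EtFpAff
import Groth.Agent.Lib.Helper8AffWide
import Groth.Agent.Lib.Helper16CechLow
import Groth.Agent.Lib.R2H7AmitsurCech
import Groth.Agent.Lib.Helper9EtFpH

/-!
# Čech cohomology of `G_a` for an affine étale surjection (helper8)
-/

set_option autoImplicit false
set_option linter.style.haveILetI false
set_option linter.unusedSectionVars false
open CategoryTheory CategoryTheory.Limits AlgebraicGeometry Opposite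
universe u

namespace Groth.Agent.Lib.Helper8EtGaCech
open Groth.Agent.Lib.Helper9.EtFp Groth.Agent.Lib.Helper8EtFpAff Groth.Agent.Lib.Helper16.CechLow
  Groth.Agent.Lib.R2H7.AmitsurCech Groth.Agent.Lib.Helper8AffWide

variable (S : Scheme.{u})

/-- `G_a` on the small model -/
noncomputable abbrev GaFp : Sheaf (Jfp S) AddCommGrpCat.{u + 1} := (Rab S).obj (EtCoh.Ga S)

/-- the underlying presheaf -/
noncomputable abbrev P : (Cfp S)ᵒᵖ ⥤ AddCommGrpCat.{u + 1} := (GaFp S).obj

variable {S}

/-- the ring of functions on an object of the small model -/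
noncomputable abbrev Rg (W : Cfp S) : CommRingCat.{u} := Γ((Ftot S).obj W, ⊤)

/-- sections of `G_a` are functions -/
noncomputable def down {W : Cfp S} (x : (P S).obj (op W)) : Rg W := ULift.down x

/-- functions are sections of `G_a` -/
noncomputable def up {W : Cfp S} (x : Rg W) : (P S).obj (op W) := ULift.up x

lemma down_up {W : Cfp S} (x : Rg W) : down (up x) = x := rfl
lemma up_down {W : Cfp S} (x : (P S).obj (op W)) : up (down x) = x := rfl

lemma down_add {W : Cfp S} (x y : (P S).obj (op W)) : down (x + y) = down x + down y := rfl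
lemma down_zero {W : Cfp S} : down (0 : (P S).obj (op W)) = 0 := rfl

lemma down_map {W W' : Cfp S} (g : W' ⟶ W) (x : (P S).obj (op W)) :
    down (((P S).map g.op).hom x) = ((Ftot S).map g).appTop.hom (down x) := rfl

section single

variable [CompactSpace S] [QuasiSeparatedSpace S] {U : Cfp S} (V : Over U)
  [hU : IsAffine ((Ftot S).obj U)] [hV : IsAffine ((Ftot S).obj V.left)]

/-- the structure map on schemes -/
noncomputable abbrev fV : (Ftot S).obj V.left ⟶ (Ftot S).obj U := (Ftot S).map V.hom

/-- the algebra structure -/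
@[reducible] noncomputable def algV : Algebra (Rg U) (Rg V.left) := (fV V).appTop.hom.toAlgebra

/-- the constant family -/
abbrev Zc (n : ℕ) : Fin (n + 1) → Over U := fun _ => V

/-- the `(n+1)`-fold product of `V` over `U` -/
noncomputable abbrev Qn (n : ℕ) : Over U := ∏ᶜ (Zc V n)

instance isAffine_Qn (n : ℕ) : IsAffine ((Ftot S).obj (Qn V n).left) :=
  isAffine_pi (Zc V n) hU (fun _ => hV)

/-- the projections on schemes -/
noncomputable abbrev πk (n : ℕ) (k : Fin (n + 1)) :
    (Ftot S).obj (Qn V n).left ⟶ (Ftot S).obj V.left :=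
  (Ftot S).map (Pi.π (Zc V n) k).left

lemma πk_comp (n : ℕ) (k : Fin (n + 1)) : πk V n k ≫ fV V = (Ftot S).map (Qn V n).hom := by
  rw [← Functor.map_comp, Over.w]

attribute [local instance] algV

/-- the comparison map from the Amitsur ring to the functions on the product -/
noncomputable def e (n : ℕ) : Cn (Rg U) (Rg V.left) n ⟶ Rg (Qn V n).left :=
  cmp (fV V) n (πk V n) ((Ftot S).map (Qn V n).hom) (πk_comp V n)

instance isIso_e (n : ℕ) : IsIso (e V n) :=
  isIso_cmp (fV V) n (πk V n) _ (πk_comp V n)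
    (fun T w c hw => exists_lift (Zc V n) T w c hw)
    (fun T t t' h => lift_ext (Zc V n) T t t' h)

/-- the face maps between the products -/
noncomputable def faceQ (n : ℕ) (i : Fin (n + 2)) : Qn V (n + 1) ⟶ Qn V n :=
  Pi.lift fun a => Pi.π (Zc V (n + 1)) (i.succAbove a)

lemma faceQ_π (n : ℕ) (i : Fin (n + 2)) (a : Fin (n + 1)) :
    faceQ V n i ≫ Pi.π (Zc V n) a = Pi.π (Zc V (n + 1)) (i.succAbove a) :=
  Pi.lift_π _ _

/-- the comparison maps commute with the coface maps -/
theorem delta_e (n : ℕ) (i : Fin (n + 2)) :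
    (arr (Rg U) (Rg V.left)).cechConerve.δ i ≫ e V (n + 1) =
      e V n ≫ ((Ftot S).map (faceQ V n i).left).appTop := by
  apply WidePushout.hom_ext
  · intro j
    have h1 := ι_cechConerve_map (arr (Rg U) (Rg V.left)) (SimplexCategory.δ i) j
    have h2 : WidePushout.ι (fun _ : Fin (n + 1) => (fV V).appTop) j ≫ e V n = (πk V n j).appTop :=
      ι_cmp (fV V) n (πk V n) _ (πk_comp V n) j
    have h3 : WidePushout.ι (fun _ : Fin (n + 2) => (fV V).appTop) (i.succAbove j) ≫ e V (n + 1) =
        (πk V (n + 1) (i.succAbove j)).appTop :=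
      ι_cmp (fV V) (n + 1) (πk V (n + 1)) _ (πk_comp V (n + 1)) (i.succAbove j)
    refine (Category.assoc _ _ _).symm.trans ((congrArg (fun g => g ≫ e V (n + 1)) h1).trans ?_)
    refine h3.trans ?_
    refine Eq.trans ?_ ((congrArg (fun g => g ≫ ((Ftot S).map (faceQ V n i).left).appTop) h2).symm.trans
      (Category.assoc _ _ _))
    rw [← Scheme.Hom.comp_appTop, ← Functor.map_comp, ← Over.comp_left, faceQ_π]
  · have h1 := head_cechConerve_map (arr (Rg U) (Rg V.left)) (SimplexCategory.δ i)
    have h2 : WidePushout.head (fun _ : Fin (n + 1) => (fV V).appTop) ≫ e V n =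
        ((Ftot S).map (Qn V n).hom).appTop := head_cmp (fV V) n (πk V n) _ (πk_comp V n)
    have h3 : WidePushout.head (fun _ : Fin (n + 2) => (fV V).appTop) ≫ e V (n + 1) =
        ((Ftot S).map (Qn V (n + 1)).hom).appTop :=
      head_cmp (fV V) (n + 1) (πk V (n + 1)) _ (πk_comp V (n + 1))
    refine (Category.assoc _ _ _).symm.trans ((congrArg (fun g => g ≫ e V (n + 1)) h1).trans ?_)
    refine h3.trans ?_
    refine Eq.trans ?_ ((congrArg (fun g => g ≫ ((Ftot S).map (faceQ V n i).left).appTop) h2).symm.trans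
      (Category.assoc _ _ _))
    rw [← Scheme.Hom.comp_appTop, ← Functor.map_comp, Over.w]

lemma delta_e_apply (n : ℕ) (i : Fin (n + 2)) (c : Cn (Rg U) (Rg V.left) n) :
    (e V (n + 1)).hom (deltaHom n i c) =
      ((Ftot S).map (faceQ V n i).left).appTop.hom ((e V n).hom c) :=
  congrArg (fun g => g.hom c) (delta_e V n i)

/-- `down` as an additive map -/
noncomputable def downHom (W : Cfp S) : (P S).obj (op W) →+ Rg W :=
  (AddEquiv.ulift (α := Rg W)).toAddMonoidHom

lemma downHom_apply (W : Cfp S) (x : (P S).obj (op W)) : downHom W x = down x := rfl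

/-- the Čech complex of the single morphism `V ⟶ U` -/
noncomputable abbrev KV : CochainComplex AddCommGrpCat.{u + 1} ℕ :=
  CK (fun _ : PUnit.{u + 2} => V) ((Over.forget U).op ⋙ P S)

/-- the value of a cochain -/
noncomputable def val (m : ℕ) (c : (KV V).X m) : Rg (Qn V m).left :=
  down (W := (Qn V m).left)
    ((pr (fun _ : PUnit.{u + 2} => V) ((Over.forget U).op ⋙ P S) m (fun _ => PUnit.unit)).hom c)

lemma val_d (m : ℕ) (c : (KV V).X m) :
    val V (m + 1) (((KV V).d m (m + 1)).hom c) =
      ∑ i : Fin (m + 2), (-1 : ℤ) ^ (i : ℕ) •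
        ((Ftot S).map (faceQ V m i).left).appTop.hom (val V m c) := by
  have h := d_pr_apply (fun _ : PUnit.{u + 2} => V) ((Over.forget U).op ⋙ P S) m
    (fun _ => PUnit.unit) c
  have h' := (congrArg (downHom (Qn V (m + 1)).left) h).trans
    (map_sum (downHom (Qn V (m + 1)).left) _ _)
  refine h'.trans (Finset.sum_congr rfl (fun i _ => ?_))
  exact map_zsmul (downHom (Qn V (m + 1)).left) _ _

lemma val_zero (m : ℕ) : val V m 0 = 0 := by
  unfold val
  rw [map_zero]
  rfl

lemma val_injective (m : ℕ) (c c' : (KV V).X m) (h : val V m c = val V m c') : c = c' := by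
  apply elt_ext
  intro x
  have : down (W := (Qn V m).left)
      ((pr (fun _ : PUnit.{u + 2} => V) ((Over.forget U).op ⋙ P S) m (fun _ => PUnit.unit)).hom c) =
      down (W := (Qn V m).left)
      ((pr (fun _ : PUnit.{u + 2} => V) ((Over.forget U).op ⋙ P S) m (fun _ => PUnit.unit)).hom c') := h
  exact congrArg (up (W := (Qn V m).left)) this

/-- the cochain with a given value -/
noncomputable def ofVal (m : ℕ) (r : Rg (Qn V m).left) : (KV V).X m :=
  mkElt (fun _ : PUnit.{u + 2} => V) ((Over.forget U).op ⋙ P S) m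
    (fun _ => up (W := (Qn V m).left) r)

lemma val_ofVal (m : ℕ) (r : Rg (Qn V m).left) : val V m (ofVal V m r) = r := by
  unfold val ofVal
  rw [pr_mkElt]
  rfl

lemma dLin_apply' (n : ℕ) (c : Cn (Rg U) (Rg V.left) n) :
    dLin (R := Rg U) (A := Rg V.left) n c =
      ∑ i : Fin (n + 2), (-1 : ℤ) ^ (i : ℕ) • deltaHom n i c := by
  unfold dLin
  rw [LinearMap.sum_apply]
  rfl

lemma e_dLin (n : ℕ) (c : Cn (Rg U) (Rg V.left) n) :
    (e V (n + 1)).hom (dLin (R := Rg U) (A := Rg V.left) n c) =
      ∑ i : Fin (n + 2), (-1 : ℤ) ^ (i : ℕ) •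
        ((Ftot S).map (faceQ V n i).left).appTop.hom ((e V n).hom c) := by
  rw [dLin_apply', map_sum]
  refine Finset.sum_congr rfl (fun i _ => ?_)
  rw [map_zsmul, delta_e_apply]

/-- positive-degree Čech cocycles of `G_a` for a faithfully flat affine cover are coboundaries -/
theorem exact_single [Module.FaithfullyFlat (Rg U) (Rg V.left)] (n : ℕ) (c : (KV V).X (n + 1))
    (hc : ((KV V).d (n + 1) (n + 2)).hom c = 0) :
    ∃ b : (KV V).X n, ((KV V).d n (n + 1)).hom b = c := by
  have he : ∀ m, Function.Bijective (e V m).hom := fun m =>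
    (ConcreteCategory.isIso_iff_bijective (e V m)).1 inferInstance
  obtain ⟨γ, hγ⟩ := (he (n + 1)).2 (val V (n + 1) c)
  have hγ0 : dLin (R := Rg U) (A := Rg V.left) (n + 1) γ = 0 := by
    apply (he (n + 2)).1
    rw [e_dLin, hγ, ← val_d, hc, map_zero, val_zero]
  obtain ⟨β, hβ⟩ := (exact_dLin (Rg U) (Rg V.left) n γ).1 hγ0
  refine ⟨ofVal V n ((e V n).hom β), ?_⟩
  apply val_injective
  rw [val_d, val_ofVal, ← e_dLin, hβ, hγ]

/-- Čech cohomology of `G_a` vanishes in positive degrees for a faithfully flat affine cover -/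
theorem isZero_cechH_single [Module.FaithfullyFlat (Rg U) (Rg V.left)] (p : ℕ) :
    IsZero (CohCx.cechH (P S) (fun _ : PUnit.{u + 2} => V) (p + 1)) := by
  change IsZero ((KV V).homology (p + 1))
  rw [← HomologicalComplex.exactAt_iff_isZero_homology,
    HomologicalComplex.exactAt_iff' (KV V) p (p + 1) (p + 2) (by simp) (by simp),
    ShortComplex.ab_exact_iff]
  intro c hc
  exact exact_single V p c hc

/-- faithful flatness from surjectivity -/
theorem faithfullyFlat_of_surjective (hs : Function.Surjective (fV V).base) :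
    Module.FaithfullyFlat (Rg U) (Rg V.left) := by
  haveI : Etale (fV V) := inferInstanceAs (Etale ((G S).map V.hom).left)
  haveI : Flat (fV V) := inferInstance
  haveI : Surjective (fV V) := ⟨hs⟩
  exact (Flat.flat_and_surjective_iff_faithfullyFlat_of_isAffine (fV V)).1 ⟨inferInstance, inferInstance⟩

end single

end Groth.Agent.Lib.Helper8EtGaCech
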