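import Mathlib
import Groth.Agent.Lib.Helper8EtGaCech
import Groth.Agent.Lib.Helper8CechDisj
import Groth.Agent.S0861

/-!
# Vanishing of the higher étale cohomology of `G_a` on an affine scheme (helper8)
-/

set_option autoImplicit false
set_option linter.style.haveILetI false
set_option linter.unusedSectionVars false
open CategoryTheory CategoryTheory.Limits AlgebraicGeometry Opposite
universe u

namespace Groth.Agent.Lib.Helper8EtGaAffine
open Groth.Agent.Lib.Helper9.EtFp Groth.Agent.Lib.Helper8EtFpAff Groth.Agent.Lib.Helper8EtGaCech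

variable {S : Scheme.{u}}

/-- every covering sieve of an object of the small model contains a finite covering family of
affine objects, provided the object is quasi-compact (automatic). -/
theorem exists_finite_affine_subcover {W : Cfp S} (T : Sieve W) (hT : T ∈ Jfp S W) :
    ∃ (ι : Type (u + 1)) (Y : ι → Over W), Finite ι ∧ (∀ i, IsAffine ((Ftot S).obj (Y i).left)) ∧
      Sieve.ofArrows (fun i => (Y i).left) (fun i => (Y i).hom) ∈ Jfp S W ∧
      ∀ i, T.arrows (Y i).hom := by
  have h := (mem_Jfp_iff S T).1 hT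
  choose Z r z hr hz using h
  -- affine neighbourhoods
  have hA : ∀ x, ∃ A : ((G S).obj (Z x)).left.Opens, IsAffineOpen A ∧ z x ∈ A := by
    intro x
    obtain ⟨A, hA, hxA, -⟩ : ∃ A : ((G S).obj (Z x)).left.Opens,
        A ∈ ((G S).obj (Z x)).left.affineOpens ∧ z x ∈ A ∧ A ≤ ⊤ :=
      (TopologicalSpace.Opens.isBasis_iff_nbhd.1 ((G S).obj (Z x)).left.isBasis_affineOpens)
        (show z x ∈ (⊤ : ((G S).obj (Z x)).left.Opens) from trivial)
    exact ⟨A, hA, hxA⟩
  choose A hAaff hzA using hA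
  let ZE : ∀ x, S.Etale := fun x => Scheme.Etale.mk ((A x).ι ≫ ((G S).obj (Z x)).hom)
  have hfp : ∀ x, fpProp S (ZE x) := fun x => by
    haveI : IsAffine (ZE x).left := hAaff x
    exact ⟨inferInstance, inferInstance⟩
  let Z' : ∀ x, Cfp S := fun x => mk S (ZE x) (hfp x)
  let jE : ∀ x, (G S).obj (Z' x) ⟶ (G S).obj (Z x) := fun x =>
    MorphismProperty.Over.homMk (A x).ι rfl trivial
  let j : ∀ x, Z' x ⟶ Z x := fun x => (G S).preimage (jE x)
  have hj : ∀ x, ((G S).map (j x)).left = (A x).ι := fun x => by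
    rw [Functor.map_preimage]
    rfl
  let r' : ∀ x, Z' x ⟶ W := fun x => j x ≫ r x
  have hr' : ∀ x, T (r' x) := fun x => T.downward_closed (hr x) (j x)
  haveI : CompactSpace ((G S).obj W).left := (prop_G S W).1
  have hopen : ∀ x, IsOpen (Set.range ((G S).map (r' x)).left) := fun x =>
    (((G S).map (r' x)).left).isOpenMap.isOpen_range
  have hmem : ∀ x, x ∈ Set.range ((G S).map (r' x)).left := by
    intro x
    refine ⟨⟨z x, hzA x⟩, ?_⟩
    have : ((G S).map (r' x)).left = (A x).ι ≫ ((G S).map (r x)).left := by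
      change ((G S).map (j x ≫ r x)).left = _
      rw [Functor.map_comp]
      change ((G S).map (j x)).left ≫ ((G S).map (r x)).left = _
      rw [hj]
      rfl
    rw [this]
    exact hz x
  obtain ⟨s, hs⟩ := isCompact_univ.elim_finite_subcover
    (fun x => Set.range ((G S).map (r' x)).left) hopen
    (fun x _ => Set.mem_iUnion.2 ⟨x, hmem x⟩)
  refine ⟨ULift.{u + 1} s, fun i => Over.mk (r' i.down.1), inferInstance, ?_, ?_, fun i => hr' _⟩
  · intro i
    exact hAaff i.down.1
  · rw [mem_Jfp_iff]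
    intro x
    obtain ⟨y, hy⟩ := Set.mem_iUnion.1 (hs (Set.mem_univ x))
    obtain ⟨hys, w, hw⟩ := Set.mem_iUnion.1 hy
    exact ⟨Z' y, r' y, w, Sieve.ofArrows_mk _ _ (⟨⟨y, hys⟩⟩ : ULift.{u + 1} s), hw⟩

section coprod

variable {W : Cfp S} {ι : Type (u + 1)} [Finite ι] (Y : ι → Over W)

/-- the underlying schemes of the family -/
noncomputable abbrev gY (i : ι) : Scheme.{u} := (Ftot S).obj (Y i).left

instance etale_desc : Etale (Sigma.desc fun i => ((G S).obj (Y i).left).hom : ∐ (gY Y) ⟶ S) :=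
  IsZariskiLocalAtSource.sigmaDesc (fun i => ((G S).obj (Y i).left).prop)

/-- the disjoint union as an étale `S`-scheme -/
noncomputable def VE : S.Etale :=
  Scheme.Etale.mk (Sigma.desc fun i => ((G S).obj (Y i).left).hom : ∐ (gY Y) ⟶ S)

lemma VE_left : (VE Y).left = ∐ (gY Y) := rfl

variable (hY : ∀ i, IsAffine ((Ftot S).obj (Y i).left))

include hY in
lemma isAffine_VE : IsAffine (VE Y).left := by
  haveI : ∀ i, IsAffine (gY Y i) := hY
  exact inferInstanceAs (IsAffine (∐ (gY Y)))

include hY in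
lemma fpProp_VE : fpProp S (VE Y) := by
  haveI := isAffine_VE Y hY
  exact ⟨inferInstance, inferInstance⟩

/-- the disjoint union as an object of the small model -/
noncomputable def Vobj : Cfp S := mk S (VE Y) (fpProp_VE Y hY)

lemma homE_w : (Sigma.desc (fun i => ((G S).map (Y i).hom).left) : ∐ (gY Y) ⟶ ((G S).obj W).left) ≫
    ((G S).obj W).hom = Sigma.desc fun i => ((G S).obj (Y i).left).hom := by
  apply Sigma.hom_ext
  intro i
  rw [Sigma.ι_desc_assoc]
  refine Eq.trans ?_ (Sigma.ι_desc (fun i => ((G S).obj (Y i).left).hom) i).symm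
  exact MorphismProperty.Over.w _

/-- the structure map of the disjoint union in the étale site -/
noncomputable def homE : (G S).obj (Vobj Y hY) ⟶ (G S).obj W :=
  (MorphismProperty.Over.homMk (Sigma.desc fun i => ((G S).map (Y i).hom).left)
    (homE_w Y) trivial : VE Y ⟶ (G S).obj W)

lemma homE_left : (homE Y hY).left = Sigma.desc (fun i => ((G S).map (Y i).hom).left) := rfl

/-- the structure map of the disjoint union in the small model -/
noncomputable def Vhom : Vobj Y hY ⟶ W := (G S).preimage (homE Y hY)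

/-- the disjoint union over `W` -/
noncomputable def Vov : Over W := Over.mk (Vhom Y hY)

/-- the inclusions in the étale site -/
noncomputable def inclE (i : ι) : (G S).obj (Y i).left ⟶ (G S).obj (Vobj Y hY) :=
  (MorphismProperty.Over.homMk (Sigma.ι (gY Y) i)
    (by
      change Sigma.ι (gY Y) i ≫ Sigma.desc (fun i => ((G S).obj (Y i).left).hom) = _
      rw [Sigma.ι_desc]) trivial : (G S).obj (Y i).left ⟶ VE Y)

lemma inclE_left (i : ι) : (inclE Y hY i).left = Sigma.ι (gY Y) i := rfl

lemma map_Vhom : (G S).map (Vhom Y hY) = homE Y hY := (G S).map_preimage (homE Y hY)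

/-- the inclusions in the small model -/
noncomputable def inclC (i : ι) : (Y i).left ⟶ Vobj Y hY := (G S).preimage (inclE Y hY i)

lemma map_inclC (i : ι) : (G S).map (inclC Y hY i) = inclE Y hY i :=
  (G S).map_preimage (inclE Y hY i)

lemma inclC_comp (i : ι) : inclC Y hY i ≫ Vhom Y hY = (Y i).hom := by
  apply (G S).map_injective
  rw [Functor.map_comp, map_inclC, map_Vhom]
  apply MorphismProperty.Over.Hom.ext
  change Sigma.ι (gY Y) i ≫ Sigma.desc (fun i => ((G S).map (Y i).hom).left) = _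
  rw [Sigma.ι_desc]

/-- the inclusions over `W` -/
noncomputable def incl (i : ι) : Y i ⟶ Vov Y hY := Over.homMk (inclC Y hY i) (inclC_comp Y hY i)

lemma Ftot_incl (i : ι) :
    ((Ftot S).map (incl Y hY i).left : (Ftot S).obj (Y i).left ⟶ ∐ (gY Y)) = Sigma.ι (gY Y) i := by
  change ((G S).map (inclC Y hY i)).left = _
  rw [map_inclC]
  rfl

lemma Ftot_Vov_hom :
    ((Ftot S).map (Vov Y hY).hom : ∐ (gY Y) ⟶ (Ftot S).obj W) =
      Sigma.desc (fun i => ((G S).map (Y i).hom).left) := by
  change ((G S).map (Vhom Y hY)).left = _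
  rw [map_Vhom]
  rfl

instance isOpenImmersion_ι (i : ι) : IsOpenImmersion (Sigma.ι (gY Y) i) :=
  (sigmaOpenCover (gY Y)).map_prop i

lemma mono_incl (i : ι) : Mono (incl Y hY i) := by
  haveI : Mono ((Ftot S).map (incl Y hY i).left) := by
    have h := Ftot_incl Y hY i
    have : Mono (Sigma.ι (gY Y) i) := inferInstance
    rw [← h] at this
    exact this
  haveI : Mono (incl Y hY i).left := (Ftot S).mono_of_mono_map inferInstance
  exact (Over.forget W).mono_of_mono_map (inferInstanceAs (Mono (incl Y hY i).left))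

lemma cov_incl : Sieve.ofArrows (fun i => (Y i).left) (fun i => (incl Y hY i).left) ∈
    Jfp S (Vov Y hY).left := by
  rw [mem_Jfp_iff]
  intro x
  obtain ⟨i, y, hy⟩ := (sigmaOpenCover (gY Y)).exists_eq x
  refine ⟨(Y i).left, (incl Y hY i).left, y, Sieve.ofArrows_mk _ _ i, ?_⟩
  have h := Ftot_incl Y hY i
  exact (congrArg (fun f => f.base y) h).trans hy

lemma disj_incl (i j : ι) (hij : i ≠ j) (T : Cfp S) (a : T ⟶ (Y i).left) (b : T ⟶ (Y j).left)
    (hab : a ≫ (incl Y hY i).left = b ≫ (incl Y hY j).left) : (⊥ : Sieve T) ∈ Jfp S T := by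
  have h0 : (Ftot S).map a ≫ (Ftot S).map (incl Y hY i).left =
      (Ftot S).map b ≫ (Ftot S).map (incl Y hY j).left := by
    rw [← Functor.map_comp, ← Functor.map_comp, hab]
  have h1 : (Ftot S).map a ≫ Sigma.ι (gY Y) i = (Ftot S).map b ≫ Sigma.ι (gY Y) j := by
    rw [← Ftot_incl Y hY i, ← Ftot_incl Y hY j]
    exact h0
  haveI : IsEmpty ((Ftot S).obj T) := isEmpty_of_commSq_sigmaι_of_ne ⟨h1⟩ hij
  rw [mem_Jfp_iff]
  intro x
  exact (IsEmpty.false (α := (Ftot S).obj T) x).elim

lemma surj_Vov (hcov : Sieve.ofArrows (fun i => (Y i).left) (fun i => (Y i).hom) ∈ Jfp S W) :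
    Function.Surjective ((Ftot S).map (Vov Y hY).hom).base := by
  intro x
  obtain ⟨Z, r, z, hr, hz⟩ := (mem_Jfp_iff S _).1 hcov x
  rw [Sieve.mem_ofArrows_iff] at hr
  obtain ⟨i, a, rfl⟩ := hr
  refine ⟨((Ftot S).map (a ≫ inclC Y hY i)).base z, ?_⟩
  have h1 : (Ftot S).map (a ≫ inclC Y hY i) ≫ (Ftot S).map (Vhom Y hY) =
      (Ftot S).map (a ≫ (Y i).hom) := by
    rw [← Functor.map_comp, Category.assoc, inclC_comp]
  have h2 := congrArg (fun f => f.base z) h1
  exact h2.trans hz

attribute [local instance] Groth.Agent.Lib.Helper8EtGaCech.algV in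
include hY in
theorem isZero_cechH_family [CompactSpace S] [QuasiSeparatedSpace S]
    (hW : IsAffine ((Ftot S).obj W))
    (hcov : Sieve.ofArrows (fun i => (Y i).left) (fun i => (Y i).hom) ∈ Jfp S W) (p : ℕ) :
    IsZero (CohCx.cechH (P S) Y (p + 1)) := by
  apply Groth.Agent.Lib.Helper8CechDisj.isZero_cechH_of_single (P S) Y (Vov Y hY) (incl Y hY)
    (GaFp S).property (cov_incl Y hY) (mono_incl Y hY) (disj_incl Y hY) (p + 1)
  haveI : IsAffine ((Ftot S).obj (Vov Y hY).left) := isAffine_VE Y hY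
  haveI : Module.FaithfullyFlat (Rg W) (Rg (Vov Y hY).left) :=
    faithfullyFlat_of_surjective (Vov Y hY) (surj_Vov Y hY hcov)
  exact isZero_cechH_single (Vov Y hY) p

end coprod

/-- `H^{q+1}(S_ét, G_a) = 0` for an affine scheme `S`. -/
theorem subsingleton_H_Ga (S : Scheme.{u}) [IsAffine S] (q : ℕ) :
    Subsingleton (EtCoh.H S (EtCoh.Ga S) (q + 1)) := by
  have h := Groth.Agent.S0861.result (Jfp S) {W | IsAffine ((Ftot S).obj W)}
    (fun W ι Y => IsAffine ((Ftot S).obj W) ∧ Finite ι ∧ (∀ i, IsAffine ((Ftot S).obj (Y i).left)) ∧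
      Sieve.ofArrows (fun i => (Y i).left) (fun i => (Y i).hom) ∈ Jfp S W)
    (fun W ι Y h => ⟨h.1, h.2.2.2, fun p a =>
      isAffine_pi (fun k => Y (a k)) h.1 (fun k => h.2.2.1 (a k))⟩)
    (fun W hW T hT => by
      obtain ⟨ι, Y, hfin, haff, hcov, hYT⟩ := exists_finite_affine_subcover T hT
      exact ⟨ι, Y, ⟨hW, hfin, haff, hcov⟩, hYT⟩)
    (GaFp S)
    (fun W ι Y h p => by
      haveI := h.2.1
      exact isZero_cechH_family Y h.2.2.1 h.1 h.2.2.2 p)
    (topFp S) (inferInstanceAs (IsAffine S)) q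
  let e := (hfIso S (q + 1)).app (EtCoh.Ga S)
  let e' : EtCoh.H S (EtCoh.Ga S) (q + 1) ≃ CohSite.HU (GaFp S) (q + 1) (topFp S) :=
    ((forget AddCommGrpCat).mapIso e).toEquiv
  exact e'.subsingleton

end Groth.Agent.Lib.Helper8EtGaAffine
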