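import Mathlib
import Groth.Agent.Lib.Helper8ASKernel
import Groth.Agent.Lib.Helper8EtGaAffine

/-!
# `H^q(S_ét, ℤ/p) = 0` for `q ≥ 2` on an affine scheme of characteristic `p` (helper8)
-/

set_option autoImplicit false
set_option linter.style.haveILetI false
open CategoryTheory CategoryTheory.Limits AlgebraicGeometry Opposite Abelian
universe u

namespace Groth.Agent.Lib.Helper8ASAffine
open Groth.Agent.Lib.Helper8ASKernel Groth.Agent.Lib.Helper8EtGaAffine

theorem subsingleton_H_K (S : Scheme.{u}) [IsAffine S] (p : ℕ) (hp : p.Prime)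
    (h0 : (p : Γ(S, ⊤)) = 0) (n : ℕ) :
    Subsingleton (EtCoh.H S (K S p hp h0) (n + 2)) := by
  haveI h1 := subsingleton_H_Ga S n
  haveI h2 := subsingleton_H_Ga S (n + 1)
  have hx : ∀ x : EtCoh.H S (K S p hp h0) (n + 2), x = 0 := by
    intro x
    obtain ⟨x₃, hx₃⟩ := Ext.covariant_sequence_exact₁ _ (asSC_shortExact hp h0) x
      (h2.elim _ _) (rfl : n + 1 + 1 = n + 2)
    have hz : x₃ = 0 := h1.elim x₃ 0
    rw [← hx₃, hz]
    exact Ext.zero_comp _ _ _ _ _
  exact ⟨fun x y => (hx x).trans (hx y).symm⟩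

theorem subsingleton_H_const (S : Scheme.{u}) [IsAffine S] (p : ℕ) (hp : p.Prime)
    (h0 : (p : Γ(S, ⊤)) = 0) (n : ℕ) :
    Subsingleton (EtCoh.H S (EtCoh.const S (ZMod p)) (n + 2)) := by
  haveI := subsingleton_H_K S p hp h0 n
  let e := (EtCoh.HF S (n + 2)).mapIso (constIsoK hp h0)
  let e' : EtCoh.H S (EtCoh.const S (ZMod p)) (n + 2) ≃ EtCoh.H S (K S p hp h0) (n + 2) :=
    ((forget AddCommGrpCat).mapIso e).toEquiv
  exact e'.subsingleton

end Groth.Agent.Lib.Helper8ASAffine
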