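import Mathlib
import Groth.Agent.Lib.Helper17DS3

/-!
# Helper8: vanishing of right derived functors by dimension shifting along a class of objects

* `isZero_rd_one_of_epi`: for a short exact sequence `0 → G → I → Q → 0` with `R¹F I = 0` and
  `F I → F Q` epi, `R¹F G = 0`.
* `isZero_rightDerived_of_class`: if a class `P` of objects is stable under passing to the cokernel
  of an embedding into an injective, and `F` keeps those quotient maps epi, then `R^q F` vanishes on
  `P` for `q ≥ 1`.
-/

set_option autoImplicit false
universe v u v' u'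

open CategoryTheory CategoryTheory.Limits

namespace Groth.Agent.Lib.Helper8LocVanish

open RDer Groth.Agent.Lib.Helper17.RDerLib Groth.Agent.Lib.Helper17.DS

variable {C : Type u} [Category.{v} C] [Abelian C] [HasInjectiveResolutions C]
  [EnoughInjectives C]
  {D : Type u'} [Category.{v'} D] [Abelian D] (F : C ⥤ D) [F.Additive] [PreservesFiniteLimits F]

lemma isZero_rd_one_of_epi (S : ShortComplex C) (hS : S.ShortExact) (hg : Epi (F.map S.g))
    (h₂ : IsZero ((F.rightDerived 1).obj S.X₂)) : IsZero ((F.rightDerived 1).obj S.X₁) := by
  obtain ⟨T⟩ := nonempty_sesRes S hS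
  have hex3 := exact₃ F T 0 1 rfl
  have hex1 := exact₁ F T 0 1 rfl
  haveI : Epi ((F.rightDerived 0).map S.g) := by
    have hnat := F.rightDerivedZeroIsoSelf.hom.naturality S.g
    have h : (F.rightDerived 0).map S.g =
        F.rightDerivedZeroIsoSelf.hom.app S.X₂ ≫ F.map S.g ≫
          F.rightDerivedZeroIsoSelf.inv.app S.X₃ := by
      rw [← Category.assoc, ← hnat, Category.assoc, Iso.hom_inv_id_app, Category.comp_id]
    rw [h]
    infer_instance
  have hδ0 : T.delta F 0 1 rfl = 0 := by
    have hz := (ShortComplex.mk ((F.rightDerived 0).map S.g) (T.delta F 0 1 rfl)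
      (comp_δ F T 0 1 rfl)).zero
    exact (cancel_epi ((F.rightDerived 0).map S.g)).1 (hz.trans comp_zero.symm)
  haveI hδepi : Epi (T.delta F 0 1 rfl) := hex1.epi_f (h₂.eq_of_tgt _ _)
  exact IsZero.of_epi_eq_zero _ hδ0

/-- **vanishing by dimension shifting**. -/
theorem isZero_rightDerived_of_class (P : C → Prop)
    (hP : ∀ S : ShortComplex C, S.ShortExact → Injective S.X₂ → P S.X₁ →
      P S.X₃ ∧ Epi (F.map S.g)) :
    ∀ (q : ℕ) (G : C), P G → IsZero ((F.rightDerived (q + 1)).obj G) := by
  intro q
  induction q with
  | zero =>
    intro G hG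
    let S : ShortComplex C := ShortComplex.mk (Injective.ι G) (cokernel.π (Injective.ι G))
      (cokernel.condition _)
    have hS : S.ShortExact :=
      { exact := ShortComplex.exact_cokernel _
        mono_f := inferInstanceAs (Mono (Injective.ι G))
        epi_g := inferInstanceAs (Epi (cokernel.π (Injective.ι G))) }
    haveI : Injective S.X₂ := inferInstanceAs (Injective (Injective.under G))
    obtain ⟨-, hepi⟩ := hP S hS inferInstance hG
    exact isZero_rd_one_of_epi F S hS hepi
      (Functor.isZero_rightDerived_obj_injective_succ F 0 S.X₂)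
  | succ q ih =>
    intro G hG
    let S : ShortComplex C := ShortComplex.mk (Injective.ι G) (cokernel.π (Injective.ι G))
      (cokernel.condition _)
    have hS : S.ShortExact :=
      { exact := ShortComplex.exact_cokernel _
        mono_f := inferInstanceAs (Mono (Injective.ι G))
        epi_g := inferInstanceAs (Epi (cokernel.π (Injective.ι G))) }
    haveI : Injective S.X₂ := inferInstanceAs (Injective (Injective.under G))
    obtain ⟨hQ, -⟩ := hP S hS inferInstance hG
    exact isZero_rd_X₁ F S hS (q + 1) (ih S.X₃ hQ)
      (Functor.isZero_rightDerived_obj_injective_succ F (q + 1) S.X₂)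

end Groth.Agent.Lib.Helper8LocVanish
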