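import Mathlib
import Groth.Prelude.Def_EtCore
import Groth.Agent.Lib.Helper8LocVanish
import Groth.Agent.Lib.Helper9EtMVCompare
import Groth.Agent.Lib.Helper9EtFlasque

/-!
# Helper8: local vanishing criterion for derived functors of pushforward-type functors out of
abelian sheaves on a small étale site

For a continuous functor `w : D ⥤ X.Etale` from a site `(D, K)` and `E = w`-pushforward, a class
`𝔅` of objects of `D` covering every object, and an abelian sheaf `G` on `X_ét` with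
`Ext^i(ℤ[w W], G) = 0` for `W ∈ 𝔅`, `i ≥ 1`: `R^q E G = 0` for `q ≥ 1`.
-/

set_option autoImplicit false
set_option linter.style.haveILetI false
universe u
open CategoryTheory CategoryTheory.Limits AlgebraicGeometry Opposite Abelian

namespace Groth.Agent.Lib.Helper8EtLocVanish

open Groth.Agent.Lib.Helper9.EtMV

variable {X : Scheme.{u}}

/-- higher Ext out of `ℤ[h_T]` vanishes for the `T` in the class. -/
def ExtVanish (𝔅 : X.Etale → Prop) (G : EtCoh.Ab X) : Prop :=
  ∀ T, 𝔅 T → ∀ i : ℕ, Subsingleton (Ext.{u + 1} (Zh T) G (i + 1))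

theorem extVanish_X₃ (𝔅 : X.Etale → Prop) (S : ShortComplex (EtCoh.Ab X)) (hS : S.ShortExact)
    [Injective S.X₂] (h : ExtVanish 𝔅 S.X₁) : ExtVanish 𝔅 S.X₃ := by
  intro T hT i
  apply subsingleton_of_forall_eq 0
  intro x₃
  haveI := h T hT (i + 1)
  obtain ⟨x₂, hx₂⟩ := Ext.covariant_sequence_exact₃ (Zh T) hS x₃ rfl (Subsingleton.elim _ _)
  rw [← hx₂, Ext.eq_zero_of_injective x₂, Ext.zero_comp]

theorem surjective_g_app (S : ShortComplex (EtCoh.Ab X)) (hS : S.ShortExact) (T : X.Etale)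
    (h1 : Subsingleton (Ext.{u + 1} (Zh T) S.X₁ 1)) :
    Function.Surjective (S.g.hom.app (op T)).hom := by
  intro s
  obtain ⟨φ, hφ⟩ : ∃ φ : Zh T ⟶ S.X₃, zhEquiv T S.X₃ φ = s :=
    ⟨(zhEquiv T S.X₃).symm s, Equiv.apply_symm_apply _ _⟩
  obtain ⟨x₂, hx₂⟩ := Ext.covariant_sequence_exact₃ (Zh T) hS (Ext.mk₀ φ) (zero_add 1)
    (Subsingleton.elim _ _)
  obtain ⟨ψ, rfl⟩ := Ext.mk₀_bijective (Zh T) S.X₂ |>.2 x₂
  rw [Ext.mk₀_comp_mk₀] at hx₂
  have hψ : ψ ≫ S.g = φ := (Ext.mk₀_bijective _ _).1 hx₂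
  refine ⟨zhEquiv T S.X₂ ψ, ?_⟩
  rw [← zhEquiv_comp, hψ, hφ]

section Push

variable {D : Type*} [Category D] (K : GrothendieckTopology D) (w : D ⥤ X.Etale)
  [w.IsContinuous K X.smallEtaleTopology]

theorem epi_pushforward_map {I Q : EtCoh.Ab X} (φ : I ⟶ Q) (𝔅 : D → Prop)
    (hcov : ∀ V : D, Sieve.generate (fun W (_ : W ⟶ V) => 𝔅 W) ∈ K V)
    (hsurj : ∀ W, 𝔅 W → Function.Surjective (φ.hom.app (op (w.obj W))).hom) :
    Epi ((w.sheafPushforwardContinuous AddCommGrpCat.{u + 1} K X.smallEtaleTopology).map φ) := by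
  haveI : Sheaf.IsLocallySurjective
      ((w.sheafPushforwardContinuous AddCommGrpCat.{u + 1} K X.smallEtaleTopology).map φ) := by
    constructor
    intro V s
    refine K.superset_covering ?_ (hcov V)
    rw [Sieve.generate_le_iff]
    intro W g hW
    obtain ⟨t, ht⟩ := hsurj W hW ((Q.obj.map (w.map g).op).hom s)
    exact ⟨t, ht⟩
  exact Sheaf.epi_of_isLocallySurjective _

variable [HasSheafify K AddCommGrpCat.{u + 1}]

instance : (w.sheafPushforwardContinuous AddCommGrpCat.{u + 1} K X.smallEtaleTopology).Additive where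
  map_add := rfl

/-- **local vanishing criterion**. -/
theorem isZero_rightDerived_pushforward
    [PreservesFiniteLimits
      (w.sheafPushforwardContinuous AddCommGrpCat.{u + 1} K X.smallEtaleTopology)]
    (𝔅 : D → Prop)
    (hcov : ∀ V : D, Sieve.generate (fun W (_ : W ⟶ V) => 𝔅 W) ∈ K V)
    (G : EtCoh.Ab X)
    (hG : ∀ W, 𝔅 W → ∀ i : ℕ, Subsingleton (Ext.{u + 1} (Zh (w.obj W)) G (i + 1))) (q : ℕ) :
    IsZero (((w.sheafPushforwardContinuous AddCommGrpCat.{u + 1} K
      X.smallEtaleTopology).rightDerived (q + 1)).obj G) := by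
  refine Groth.Agent.Lib.Helper8LocVanish.isZero_rightDerived_of_class
    (w.sheafPushforwardContinuous AddCommGrpCat.{u + 1} K X.smallEtaleTopology)
    (ExtVanish (fun T => ∃ W, 𝔅 W ∧ T = w.obj W)) ?_ q G ?_
  · intro S hS hI h1
    haveI := hI
    refine ⟨extVanish_X₃ _ S hS h1, ?_⟩
    refine epi_pushforward_map K w S.g 𝔅 hcov ?_
    intro W hW
    exact surjective_g_app S hS (w.obj W) (h1 _ ⟨W, hW, rfl⟩ 0)
  · rintro T ⟨W, hW, rfl⟩ i
    exact hG W hW i

end Push

end Groth.Agent.Lib.Helper8EtLocVanish
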