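import Mathlib
import Groth.Prelude
import Groth.Agent.S9436
import Groth.Agent.Lib.R2H3TwConstF
import Groth.Agent.Lib.Helper18NormalSepClosed3

/-!
# Étale schemes over a normal integral scheme with separably closed function field (helper8)

* `Top.exists_disjoint_cover`: a topological gluing lemma: a local homeomorphism onto a
  preirreducible space whose "sheets" are relatively closed over their images splits, on a
  quasi-compact source, as a finite disjoint union of injective pieces;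
* `isLocalIso_of_etale`: an étale morphism to an integral normal scheme with separably closed
  function field is a local isomorphism;
* `exists_disjoint_cover_of_etale`: if moreover the morphism is separated with quasi-compact source,
  the source is a finite disjoint union of opens each mapping by an open immersion.
-/

set_option autoImplicit false
universe u
open CategoryTheory CategoryTheory.Limits AlgebraicGeometry Opposite TopologicalSpace

namespace Groth.Agent.Lib.Helper8NormalSepEt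

namespace Top

variable {U X : Type*} [TopologicalSpace U] [TopologicalSpace X] [PreirreducibleSpace X]
  {ι : Type*} (c : U → X) (V : ι → Set U)

/-- the hypotheses on the sheets `V j`: open, `c` injective and open on each, and each sheet is
closed in the preimage of its image. -/
structure Sheets : Prop where
  continuous : Continuous c
  isOpen : ∀ j, IsOpen (V j)
  injOn : ∀ j, Set.InjOn c (V j)
  isOpenMap : ∀ j (O : Set U), IsOpen O → O ⊆ V j → IsOpen (c '' O)
  closed : ∀ j, closure (V j) ∩ c ⁻¹' (c '' V j) ⊆ V j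

variable {c V}

theorem Sheets.isPreirreducible (h : Sheets c V) (j : ι) : IsPreirreducible (V j) := by
  intro O1 O2 hO1 hO2 ⟨v1, hv1, hv1'⟩ ⟨v2, hv2, hv2'⟩
  have h1 : IsOpen (c '' (V j ∩ O1)) :=
    h.isOpenMap j _ ((h.isOpen j).inter hO1) Set.inter_subset_left
  have h2 : IsOpen (c '' (V j ∩ O2)) :=
    h.isOpenMap j _ ((h.isOpen j).inter hO2) Set.inter_subset_left
  obtain ⟨y, ⟨a, ⟨ha, ha'⟩, rfl⟩, ⟨b, ⟨hb, hb'⟩, hab⟩⟩ :=
    nonempty_preirreducible_inter h1 h2 ⟨c v1, v1, ⟨hv1, hv1'⟩, rfl⟩ ⟨c v2, v2, ⟨hv2, hv2'⟩, rfl⟩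
  have : b = a := h.injOn j hb ha hab
  subst this
  exact ⟨b, hb, ha', hb'⟩

/-- key lemma: if two sheets meet, the part of the first lying over the image of the second
is contained in the second. -/
theorem Sheets.inter_preimage_subset (h : Sheets c V) {a b : ι} (hab : (V a ∩ V b).Nonempty) :
    V a ∩ c ⁻¹' (c '' V b) ⊆ V b := by
  have hopen : IsOpen (c ⁻¹' (c '' V b)) :=
    (h.isOpenMap b _ (h.isOpen b) subset_rfl).preimage h.continuous
  have hT : IsPreirreducible (V a ∩ c ⁻¹' (c '' V b)) :=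
    (h.isPreirreducible a).open_subset ((h.isOpen a).inter hopen) Set.inter_subset_left
  intro t ht
  by_contra htb
  have ht' : t ∉ closure (V b) := fun hcl => htb (h.closed b ⟨hcl, ht.2⟩)
  obtain ⟨w, hw⟩ := hab
  obtain ⟨z, -, hz1, hz2⟩ := hT (V b) (closure (V b))ᶜ (h.isOpen b) isClosed_closure.isOpen_compl
    ⟨w, ⟨hw.1, w, hw.2, rfl⟩, hw.2⟩ ⟨t, ht, ht'⟩
  exact hz2 (subset_closure hz1)

/-- meeting is transitive (through a common sheet). -/
theorem Sheets.meet_trans (h : Sheets c V) {a b d : ι} (hab : (V a ∩ V b).Nonempty)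
    (hbd : (V b ∩ V d).Nonempty) : (V a ∩ V d).Nonempty := by
  obtain ⟨w1, hw1⟩ := hab
  obtain ⟨w2, hw2⟩ := hbd
  obtain ⟨z, hz, hz1, hz2⟩ := h.isPreirreducible b (V a) (V d) (h.isOpen a) (h.isOpen d)
    ⟨w1, hw1.2, hw1.1⟩ ⟨w2, hw2.1, hw2.2⟩
  exact ⟨z, hz1, hz2⟩

/-- `c` is injective on the union of two sheets which meet. -/
theorem Sheets.eq_of_meet (h : Sheets c V) {a b : ι} (hab : (V a ∩ V b).Nonempty) {v v' : U}
    (hv : v ∈ V a) (hv' : v' ∈ V b) (hc : c v = c v') : v = v' := by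
  have hvb : v ∈ V b := h.inter_preimage_subset hab ⟨hv, v', hv', hc.symm⟩
  exact h.injOn b hvb hv' hc

/-- the star of the sheet `j`. -/
def star (V : ι → Set U) (j : ι) : Set U := ⋃ a ∈ {a | (V a ∩ V j).Nonempty}, V a

theorem Sheets.isOpen_star (h : Sheets c V) (j : ι) : IsOpen (star V j) :=
  isOpen_biUnion fun a _ => h.isOpen a

theorem subset_star {j : ι} (hj : (V j).Nonempty) : V j ⊆ star V j := by
  intro v hv
  exact Set.mem_biUnion (show (V j ∩ V j).Nonempty by rwa [Set.inter_self]) hv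

theorem Sheets.injOn_star (h : Sheets c V) (j : ι) : Set.InjOn c (star V j) := by
  intro v hv v' hv' hc
  simp only [star, Set.mem_iUnion, Set.mem_ofPred_eq, exists_prop] at hv hv'
  obtain ⟨a, ha, hva⟩ := hv
  obtain ⟨b, hb, hvb⟩ := hv'
  have hab : (V a ∩ V b).Nonempty := h.meet_trans ha (by rwa [Set.inter_comm])
  exact h.eq_of_meet hab hva hvb hc

theorem Sheets.star_eq_of_meet (h : Sheets c V) {j j' : ι}
    (hjj : (star V j ∩ star V j').Nonempty) : star V j = star V j' := by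
  obtain ⟨w, hw1, hw2⟩ := hjj
  simp only [star, Set.mem_iUnion, Set.mem_ofPred_eq, exists_prop] at hw1 hw2
  obtain ⟨a, ha, hwa⟩ := hw1
  obtain ⟨b, hb, hwb⟩ := hw2
  have hab : (V a ∩ V b).Nonempty := ⟨w, hwa, hwb⟩
  -- j ~ a ~ b ~ j'
  have hjb : (V j ∩ V b).Nonempty := h.meet_trans (by rwa [Set.inter_comm]) hab
  have hjj' : (V j ∩ V j').Nonempty := h.meet_trans hjb hb
  apply Set.Subset.antisymm
  · intro v hv
    simp only [star, Set.mem_iUnion, Set.mem_ofPred_eq, exists_prop] at hv ⊢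
    obtain ⟨d, hd, hvd⟩ := hv
    exact ⟨d, h.meet_trans hd hjj', hvd⟩
  · intro v hv
    simp only [star, Set.mem_iUnion, Set.mem_ofPred_eq, exists_prop] at hv ⊢
    obtain ⟨d, hd, hvd⟩ := hv
    exact ⟨d, h.meet_trans hd (by rwa [Set.inter_comm]), hvd⟩

/-- **the gluing lemma**: the distinct stars form a finite family of pairwise disjoint open
subsets covering `U`, on each of which `c` is injective. -/
theorem Sheets.exists_disjoint_cover [Finite ι] (h : Sheets c V) (hcov : ⋃ j, V j = Set.univ) :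
    ∃ 𝒲 : Set (Set U), 𝒲.Finite ∧ (∀ W ∈ 𝒲, IsOpen W) ∧ (∀ W ∈ 𝒲, Set.InjOn c W) ∧
      (∀ W ∈ 𝒲, ∀ W' ∈ 𝒲, W ≠ W' → Disjoint W W') ∧ ⋃₀ 𝒲 = Set.univ ∧
      ∀ W ∈ 𝒲, ∀ w ∈ W, ∃ j, w ∈ V j ∧ V j ⊆ W := by
  refine ⟨Set.range (star V), Set.finite_range _, ?_, ?_, ?_, ?_, ?_⟩
  · rintro _ ⟨j, rfl⟩; exact h.isOpen_star j
  · rintro _ ⟨j, rfl⟩; exact h.injOn_star j
  · rintro _ ⟨j, rfl⟩ _ ⟨j', rfl⟩ hne
    rw [Set.disjoint_iff_inter_eq_empty]
    by_contra hne'
    exact hne (h.star_eq_of_meet (Set.nonempty_iff_ne_empty.mpr hne'))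
  · rw [Set.eq_univ_iff_forall]
    intro u
    have : u ∈ ⋃ j, V j := by rw [hcov]; trivial
    obtain ⟨j, hj⟩ := Set.mem_iUnion.mp this
    exact ⟨star V j, ⟨j, rfl⟩, subset_star ⟨u, hj⟩ hj⟩
  · rintro _ ⟨j, rfl⟩ w hw
    simp only [star, Set.mem_iUnion, Set.mem_ofPred_eq, exists_prop] at hw
    obtain ⟨a, ha, hwa⟩ := hw
    refine ⟨a, hwa, ?_⟩
    intro v hv
    exact Set.mem_biUnion ha hv

end Top

/-- points with values in a separably closed field lift along étale morphisms, through a given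
point of the source. -/
theorem exists_lift_etale_apply {Ω : Type u} [Field Ω] [IsSepClosed Ω] {S' S : Scheme.{u}}
    (g : S' ⟶ S) [Etale g] (s' : S') (f : Spec (CommRingCat.of Ω) ⟶ S)
    (hf : f (IsLocalRing.closedPoint Ω) = g s') :
    ∃ f' : Spec (CommRingCat.of Ω) ⟶ S', f' ≫ g = f ∧ f' (IsLocalRing.closedPoint Ω) = s' := by
  obtain ⟨⟨x, a⟩, rfl⟩ := (Scheme.SpecToEquivOfField Ω S).symm.surjective f
  have hx : x = g s' := by
    simpa [Scheme.SpecToEquivOfField] using hf
  subst hx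
  algebraize [(g.residueFieldMap s').hom, a.hom]
  let b : S'.residueField s' →ₐ[S.residueField (g s')] Ω := IsSepClosed.lift
  have hfac : g.residueFieldMap s' ≫ CommRingCat.ofHom b.toRingHom = a := by
    ext1; exact b.comp_algebraMap
  refine ⟨Spec.map (CommRingCat.ofHom b.toRingHom) ≫ S'.fromSpecResidueField s', ?_, ?_⟩
  · simp [Scheme.SpecToEquivOfField, ← hfac]
    rfl
  · rw [Scheme.Hom.comp_apply]
    exact Scheme.fromSpecResidueField_apply _ _

open IsLocalRing in
/-- **local structure**: through every point of an étale scheme over an integral normal scheme with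
separably closed function field there is a local section of the structure map. -/
theorem exists_local_section (X : Scheme.{u}) [IsIntegral X]
    (hN : ∀ x : X, IsIntegrallyClosed (X.presheaf.stalk x)) [IsSepClosed X.functionField]
    {U : Scheme.{u}} (c : U ⟶ X) [Etale c] (u : U) :
    ∃ (X' : X.Opens) (s : (X' : Scheme.{u}) ⟶ U), s ≫ c = X'.ι ∧ u ∈ Set.range s := by
  obtain ⟨hH, hS⟩ := Groth.Agent.Lib.Helper18NormalSepClosed3.main X hN (c u)
  let g : pullback c (X.fromSpecStalk (c u)) ⟶ Spec (CommRingCat.of (X.presheaf.stalk (c u))) :=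
    pullback.snd _ _
  haveI : Etale g := by dsimp only [g]; infer_instance
  obtain ⟨u', hu'1, hu'2⟩ := Scheme.Pullback.exists_preimage_pullback (f := c)
    (g := X.fromSpecStalk (c u)) u (closedPoint (X.presheaf.stalk (c u)))
    (by rw [Scheme.fromSpecStalk_closedPoint])
  obtain ⟨τ, hτ1, hτ2⟩ := exists_lift_etale_apply (Ω := ResidueField (X.presheaf.stalk (c u)))
    g u' (Spec.map (CommRingCat.ofHom (residue (X.presheaf.stalk (c u)))))
    (by rw [Groth.Agent.Lib.R2H3.TwConst.specMap_residue_apply]; exact hu'2.symm)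
  obtain ⟨σ, hσ1, hσ2⟩ := Groth.Agent.Lib.R2H3.TwConst.exists_section_lift
    (X.presheaf.stalk (c u)) g τ hτ1
  -- the section at the level of the local scheme
  let t : Spec (X.presheaf.stalk (c u)) ⟶ U := σ ≫ pullback.fst _ _
  have ht : t ≫ c = X.fromSpecStalk (c u) ≫ 𝟙 X := by
    dsimp only [t]
    rw [Category.assoc, pullback.condition, ← Category.assoc]
    change (σ ≫ g) ≫ _ = _
    rw [hσ1, Category.comp_id]
    exact Category.id_comp _
  have htu : t (closedPoint (X.presheaf.stalk (c u))) = u := by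
    have h1 : σ (closedPoint (X.presheaf.stalk (c u))) = u' := by
      rw [← Groth.Agent.Lib.R2H3.TwConst.specMap_residue_apply (X.presheaf.stalk (c u))
        (closedPoint (ResidueField (X.presheaf.stalk (c u)))), ← Scheme.Hom.comp_apply, hσ2, hτ2]
    dsimp only [t]
    rw [Scheme.Hom.comp_apply, h1, hu'1]
  obtain ⟨X', hxX', s, hs1, hs2⟩ := spread_out_of_isGermInjective' (𝟙 X) c t ht
  refine ⟨X', s, by rw [hs2, Category.comp_id], ?_⟩
  refine ⟨(X'.fromSpecStalkOfMem (c u) hxX') (closedPoint (X.presheaf.stalk (c u))), ?_⟩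
  rw [← Scheme.Hom.comp_apply, ← hs1, htu]

/-- an étale morphism to an integral normal scheme with separably closed function field is a
local isomorphism. -/
theorem isLocalIso_of_etale (X : Scheme.{u}) [IsIntegral X]
    (hN : ∀ x : X, IsIntegrallyClosed (X.presheaf.stalk x)) [IsSepClosed X.functionField]
    {U : Scheme.{u}} (c : U ⟶ X) [Etale c] : IsLocalIso c := by
  refine ⟨fun u => ?_⟩
  obtain ⟨X', s, hs, hu⟩ := exists_local_section X hN c u
  haveI : Etale (s ≫ c) := by rw [hs]; infer_instance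
  haveI : Etale s := Etale.of_comp s c
  haveI : Mono s := mono_of_mono_fac hs
  haveI : IsOpenImmersion s := IsOpenImmersion.of_flat_of_mono s
  refine ⟨s.opensRange, hu, ?_⟩
  have : s.opensRange.ι ≫ c = s.isoOpensRange.inv ≫ X'.ι := by
    rw [← hs, ← Category.assoc, Scheme.Hom.isoOpensRange_inv_comp]
  rw [this]
  infer_instance

/-- a sheet of a separated morphism (an open of the source mapping by an open immersion) is
closed in the preimage of its image. -/
theorem closure_inter_preimage_subset {U X : Scheme.{u}} (c : U ⟶ X) [IsSeparated c] (N : U.Opens)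
    [IsOpenImmersion (N.ι ≫ c)] :
    closure (N : Set U) ∩ c ⁻¹' (c '' (N : Set U)) ⊆ (N : Set U) := by
  have hNr : ∀ v : U, v ∈ (N : Set U) ↔ ∃ n : (N : Scheme.{u}), N.ι n = v := by
    intro v
    rw [← Set.mem_range, Scheme.Opens.range_ι]
  have hle : N ≤ c ⁻¹ᵁ (N.ι ≫ c).opensRange := by
    intro v hv
    obtain ⟨n, rfl⟩ := (hNr v).1 hv
    exact ⟨n, rfl⟩
  let j : (N : Scheme.{u}) ⟶ (c ⁻¹ᵁ (N.ι ≫ c).opensRange : U.Opens) := U.homOfLE hle
  have hj : j ≫ (c ⁻¹ᵁ (N.ι ≫ c).opensRange).ι = N.ι := by simp [j]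
  have h1 : j ≫ (c ∣_ (N.ι ≫ c).opensRange) = (N.ι ≫ c).isoOpensRange.hom := by
    rw [← cancel_mono (N.ι ≫ c).opensRange.ι, Category.assoc, morphismRestrict_ι,
      Scheme.Hom.isoOpensRange_hom_ι, ← Category.assoc, hj]
  haveI : IsClosedImmersion (j ≫ (c ∣_ (N.ι ≫ c).opensRange)) := by rw [h1]; infer_instance
  haveI : IsClosedImmersion j := IsClosedImmersion.of_comp j (c ∣_ (N.ι ≫ c).opensRange)
  have hcl : IsClosed (Set.range j) := j.isClosedEmbedding.isClosed_range
  obtain ⟨F, hF, hFeq⟩ :=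
    ((c ⁻¹ᵁ (N.ι ≫ c).opensRange).ι.isOpenEmbedding.isInducing.isClosed_iff).1 hcl
  have hjn : ∀ n : (N : Scheme.{u}), (c ⁻¹ᵁ (N.ι ≫ c).opensRange).ι (j n) = N.ι n := by
    intro n
    rw [← Scheme.Hom.comp_apply, hj]
  have hNF : (N : Set U) ⊆ F := by
    intro v hv
    obtain ⟨n, rfl⟩ := (hNr v).1 hv
    have : j n ∈ (c ⁻¹ᵁ (N.ι ≫ c).opensRange).ι ⁻¹' F := by rw [hFeq]; exact ⟨_, rfl⟩
    rw [Set.mem_preimage, hjn] at this
    exact this
  rintro v ⟨hv1, hv2⟩
  have hvF : v ∈ F := closure_minimal hNF hF hv1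
  have hvU : v ∈ Set.range (c ⁻¹ᵁ (N.ι ≫ c).opensRange).ι := by
    rw [Scheme.Opens.range_ι]
    obtain ⟨w, hw, hwv⟩ := hv2
    obtain ⟨n, rfl⟩ := (hNr w).1 hw
    exact ⟨n, hwv⟩
  obtain ⟨v₁, rfl⟩ := hvU
  have : v₁ ∈ Set.range j := by
    rw [← hFeq]; exact hvF
  obtain ⟨n, rfl⟩ := this
  rw [hjn]
  exact (hNr _).2 ⟨n, rfl⟩

set_option backward.isDefEq.respectTransparency false in
/-- an étale local isomorphism which is injective on points is an open immersion. -/
theorem isOpenImmersion_of_isLocalIso_of_injective {W X : Scheme.{u}} (g : W ⟶ X) [IsLocalIso g]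
    [Etale g] (hinj : Function.Injective g) : IsOpenImmersion g := by
  have hoe : Topology.IsOpenEmbedding g :=
    Topology.IsOpenEmbedding.of_continuous_injective_isOpenMap g.continuous hinj g.isOpenMap
  haveI : ∀ w, IsIso (g.stalkMap w) := by
    intro w
    obtain ⟨N, hwN, hN⟩ := IsLocalIso.exists_isOpenImmersion (f := g) w
    haveI := hN
    obtain ⟨n, rfl⟩ : ∃ n : (N : Scheme.{u}), N.ι n = w := by
      rw [← Set.mem_range, Scheme.Opens.range_ι]; exact hwN
    have h1 : (N.ι ≫ g).stalkMap n = g.stalkMap (N.ι n) ≫ N.ι.stalkMap n :=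
      Scheme.Hom.stalkMap_comp N.ι g n
    haveI : IsIso (g.stalkMap (N.ι n) ≫ N.ι.stalkMap n) := by rw [← h1]; infer_instance
    exact IsIso.of_isIso_comp_right (g.stalkMap (N.ι n)) (N.ι.stalkMap n)
  exact IsOpenImmersion.of_isIso_stalkMap g hoe

/-- **splitting**: a separated étale morphism with quasi-compact source to an integral normal scheme
with separably closed function field is, on the source, a finite disjoint union of open
immersions. -/
theorem exists_disjoint_cover_of_etale (X : Scheme.{u}) [IsIntegral X]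
    (hN : ∀ x : X, IsIntegrallyClosed (X.presheaf.stalk x)) [IsSepClosed X.functionField]
    {U : Scheme.{u}} (c : U ⟶ X) [Etale c] [IsSeparated c] [CompactSpace U] :
    ∃ (ι : Type u) (_ : Finite ι) (W : ι → U.Opens), (∀ k, IsOpenImmersion ((W k).ι ≫ c)) ∧
      (∀ k k', k ≠ k' → Disjoint (W k) (W k')) ∧ ⨆ k, W k = ⊤ := by
  haveI := isLocalIso_of_etale X hN c
  choose N hN1 hN2 using fun u => IsLocalIso.exists_isOpenImmersion (f := c) u
  obtain ⟨t, ht⟩ := isCompact_univ.elim_finite_subcover (fun u => (N u : Set U))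
    (fun u => (N u).2) (fun u _ => Set.mem_iUnion.2 ⟨u, hN1 u⟩)
  have hSh : Top.Sheets (c : U → X) (fun j : {u // u ∈ t} => (N j.1 : Set U)) := by
    refine ⟨c.continuous, fun j => (N j.1).2, ?_, fun j O hO _ => c.isOpenMap O hO, ?_⟩
    · intro j v hv v' hv' hvv
      haveI := hN2 j.1
      obtain ⟨n, rfl⟩ : ∃ n : (N j.1 : Scheme.{u}), (N j.1).ι n = v := by
        rw [← Set.mem_range, Scheme.Opens.range_ι]; exact hv
      obtain ⟨n', rfl⟩ : ∃ n : (N j.1 : Scheme.{u}), (N j.1).ι n = v' := by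
        rw [← Set.mem_range, Scheme.Opens.range_ι]; exact hv'
      have : ((N j.1).ι ≫ c) n = ((N j.1).ι ≫ c) n' := by
        rw [Scheme.Hom.comp_apply, Scheme.Hom.comp_apply]; exact hvv
      rw [((N j.1).ι ≫ c).isOpenEmbedding.injective this]
    · intro j
      haveI := hN2 j.1
      exact closure_inter_preimage_subset c (N j.1)
  have hcov : ⋃ j : {u // u ∈ t}, (N j.1 : Set U) = Set.univ := by
    rw [Set.eq_univ_iff_forall]
    intro u
    have := ht (Set.mem_univ u)
    simp only [Set.mem_iUnion, exists_prop] at this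
    obtain ⟨v, hvt, hv⟩ := this
    exact Set.mem_iUnion.2 ⟨⟨v, hvt⟩, hv⟩
  obtain ⟨𝒲, hfin, hopen, hinj, hdisj, hcov', -⟩ := hSh.exists_disjoint_cover hcov
  haveI : Finite ↥𝒲 := hfin.to_subtype
  let W : ↥𝒲 → U.Opens := fun k => (⟨k.1, hopen k.1 k.2⟩ : TopologicalSpace.Opens U)
  have hWmem : ∀ (k : ↥𝒲) (a : (W k : Scheme.{u})), (W k).ι a ∈ k.1 := by
    intro k a
    have : (W k).ι a ∈ Set.range (W k).ι := ⟨a, rfl⟩
    rw [Scheme.Opens.range_ι] at this
    exact this
  refine ⟨↥𝒲, inferInstance, W, ?_, ?_, ?_⟩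
  · intro k
    haveI : IsLocalIso ((W k).ι ≫ c) :=
      IsZariskiLocalAtSource.comp (P := @IsLocalIso) inferInstance _
    apply isOpenImmersion_of_isLocalIso_of_injective
    intro a b hab
    rw [Scheme.Hom.comp_apply, Scheme.Hom.comp_apply] at hab
    exact (W k).ι.isOpenEmbedding.injective (hinj k.1 k.2 (hWmem k a) (hWmem k b) hab)
  · intro k k' hkk
    rw [← Opens.coe_disjoint]
    exact hdisj k.1 k.2 k'.1 k'.2 (fun h => hkk (Subtype.ext h))
  · rw [eq_top_iff]
    intro u _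
    have : u ∈ ⋃₀ 𝒲 := by rw [hcov']; trivial
    obtain ⟨W', hW', huW⟩ := this
    exact Opens.mem_iSup.2 ⟨⟨W', hW'⟩, huW⟩

open TensorProduct in
/-- an affine étale scheme over `Spec (A/I)` lifts (globally) to an étale affine scheme over
`Spec A`. -/
theorem exists_etale_lift_spec_global (A : Type u) [CommRing A] (I : Ideal A) {E : Scheme.{u}}
    (e : E ⟶ Spec (CommRingCat.of (A ⧸ I))) [Etale e] [IsAffine E] :
    ∃ (W W₀ : Scheme.{u}) (c : W ⟶ Spec (CommRingCat.of A)) (k : W₀ ⟶ W) (r : W₀ ⟶ E),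
      IsAffine W ∧ Etale c ∧ IsIso r ∧
      IsPullback k (r ≫ e) c (Spec.map (CommRingCat.ofHom (Ideal.Quotient.mk I))) := by
  have hU : IsAffineOpen (⊤ : E.Opens) := isAffineOpen_top E
  let θ : CommRingCat.of (A ⧸ I) ⟶ Γ(E, ⊤) :=
    (Scheme.ΓSpecIso (CommRingCat.of (A ⧸ I))).inv ≫ e.appLE ⊤ ⊤ le_top
  have hfac : Spec.map θ = hU.fromSpec ≫ e := by
    have h1 := IsAffineOpen.SpecMap_appLE_fromSpec e
      (isAffineOpen_top (Spec (CommRingCat.of (A ⧸ I)))) hU le_top
    rw [← h1, IsAffineOpen.fromSpec_top, Scheme.isoSpec_Spec_inv, ← Spec.map_comp]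
  have hθe : Etale (Spec.map θ) := by
    rw [hfac]
    infer_instance
  have hθ : θ.hom.Etale := (HasRingHomProperty.Spec_iff (P := @Etale)).1 hθe
  algebraize [θ.hom]
  obtain ⟨C, _, _, hC, ⟨ε⟩⟩ := Groth.Agent.S9436.result A I Γ(E, ⊤)
  let c : Spec (CommRingCat.of C) ⟶ Spec (CommRingCat.of A) :=
    Spec.map (CommRingCat.ofHom (algebraMap A C))
  have hc : Etale c :=
    (HasRingHomProperty.Spec_iff (P := @Etale)).2 (RingHom.etale_algebraMap.2 hC)
  haveI : IsIso (CommRingCat.ofHom ε.symm.toRingHom) :=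
    (RingEquiv.toCommRingCatIso ε.symm.toRingEquiv).isIso_hom
  let r : pullback (Spec.map (CommRingCat.ofHom (algebraMap A (A ⧸ I))))
      (Spec.map (CommRingCat.ofHom (algebraMap A C))) ⟶ E :=
    (pullbackSpecIso A (A ⧸ I) C).hom ≫ Spec.map (CommRingCat.ofHom ε.symm.toRingHom) ≫
      hU.fromSpec
  have hriso : IsIso r := by
    dsimp only [r]
    rw [IsAffineOpen.fromSpec_top]
    infer_instance
  have hre : r ≫ e = pullback.fst _ _ := by
    have h2 : θ ≫ CommRingCat.ofHom ε.symm.toRingHom =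
        CommRingCat.ofHom (algebraMap (A ⧸ I) ((A ⧸ I) ⊗[A] C)) := by
      apply CommRingCat.hom_ext
      ext y
      exact ε.symm.commutes y
    calc r ≫ e = (pullbackSpecIso A (A ⧸ I) C).hom ≫
          Spec.map (CommRingCat.ofHom ε.symm.toRingHom) ≫ hU.fromSpec ≫ e := by
          simp only [r, Category.assoc]
      _ = (pullbackSpecIso A (A ⧸ I) C).hom ≫
          Spec.map (θ ≫ CommRingCat.ofHom ε.symm.toRingHom) := by
          rw [← hfac, ← Spec.map_comp]
      _ = _ := by rw [h2, pullbackSpecIso_hom_fst']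
  refine ⟨Spec (CommRingCat.of C), _, c, pullback.snd _ _, r, inferInstance, hc, hriso, ?_⟩
  rw [hre]
  exact (IsPullback.of_hasPullback _ _).flip

/-- an affine étale scheme over a closed subscheme `Z` of an affine scheme `X` is the base change
of an affine étale scheme over `X`. -/
theorem exists_etale_lift_global {X Z V : Scheme.{u}} [IsAffine X] (i : Z ⟶ X)
    [IsClosedImmersion i] (φ : V ⟶ Z) [Etale φ] [IsAffine V] :
    ∃ (U : Scheme.{u}) (c : U ⟶ X) (p : V ⟶ U), IsAffine U ∧ Etale c ∧ IsPullback p φ c i := by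
  obtain ⟨I, ε, hε⟩ := IsClosedImmersion.Spec_iff.1
    (inferInstance : IsClosedImmersion (i ≫ X.isoSpec.hom))
  obtain ⟨W, W₀, c, k, r, hW, hc, hr, sq⟩ :=
    exists_etale_lift_spec_global Γ(X, ⊤) I (φ ≫ ε.hom)
  haveI := hc
  haveI := hr
  refine ⟨W, c ≫ X.isoSpec.inv, inv r ≫ k, hW, inferInstance, ?_⟩
  refine IsPullback.of_iso sq (asIso r) (Iso.refl _) ε.symm X.isoSpec.symm ?_ ?_ ?_ ?_
  · simp
  · simp
  · simp
  · rw [Iso.symm_hom, Iso.symm_hom, ← cancel_mono X.isoSpec.hom, Category.assoc, Category.assoc,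
      Iso.inv_hom_id, Category.comp_id, hε, Iso.inv_hom_id_assoc]

open scoped Function in
/-- **S0624**: over an affine integral normal scheme with separably closed function field, an
affine scheme étale over a closed subscheme `Z` is a finite disjoint union of opens of `Z`. -/
theorem splits {V Z X : Scheme.{u}} [IsAffine X] [IsIntegral X]
    (hN : ∀ x : X, IsIntegrallyClosed (X.presheaf.stalk x)) [IsSepClosed X.functionField]
    (i : Z ⟶ X) [IsClosedImmersion i] (φ : V ⟶ Z) [Etale φ] [IsAffine V] :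
    ∃ (ι : Type u) (_ : Finite ι) (W : ι → Z.Opens) (e : (∐ fun k => (W k : Scheme.{u})) ≅ V),
      ∀ k, Sigma.ι (fun k => (W k : Scheme.{u})) k ≫ e.hom ≫ φ = (W k).ι := by
  obtain ⟨U, c, p, hU, hc, sq⟩ := exists_etale_lift_global i φ
  haveI := hU
  haveI := hc
  haveI : IsSeparated c := inferInstance
  obtain ⟨ι, hfin, W, hW, hdisj, hcov⟩ := exists_disjoint_cover_of_etale X hN c
  haveI := hfin
  -- the pieces of `V`
  have hVk : ∀ k, IsOpenImmersion ((p ⁻¹ᵁ W k).ι ≫ φ) := by
    intro k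
    haveI := hW k
    have s1 : IsPullback (p ∣_ W k) (p ⁻¹ᵁ W k).ι (W k).ι p :=
      isPullback_morphismRestrict p (W k)
    exact MorphismProperty.of_isPullback (P := @IsOpenImmersion) (s1.paste_vert sq) inferInstance
  let g : ∀ k, (((p ⁻¹ᵁ W k).ι ≫ φ).opensRange : Scheme.{u}) ⟶ V := fun k =>
    ((p ⁻¹ᵁ W k).ι ≫ φ).isoOpensRange.inv ≫ (p ⁻¹ᵁ W k).ι
  have hgφ : ∀ k, g k ≫ φ = (((p ⁻¹ᵁ W k).ι ≫ φ).opensRange).ι := by
    intro k
    dsimp only [g]
    rw [Category.assoc, Scheme.Hom.isoOpensRange_inv_comp]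
  haveI : ∀ k, IsOpenImmersion (g k) := fun k => by dsimp only [g]; infer_instance
  have hgr : ∀ k, (g k).opensRange = p ⁻¹ᵁ W k := by
    intro k
    dsimp only [g]
    rw [Scheme.Hom.opensRange_comp_of_isIso, Scheme.Opens.opensRange_ι]
  have hcov' : ⨆ k, (g k).opensRange = ⊤ := by
    simp_rw [hgr]
    rw [eq_top_iff]
    intro v _
    have : p v ∈ ⨆ k, W k := by rw [hcov]; trivial
    obtain ⟨k, hk⟩ := Opens.mem_iSup.1 this
    exact Opens.mem_iSup.2 ⟨k, hk⟩
  have hdisj' : Pairwise (Disjoint on (g · |>.opensRange)) := by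
    intro k k' hkk
    simp only [hgr]
    change Disjoint (p ⁻¹ᵁ W k) (p ⁻¹ᵁ W k')
    rw [← Opens.coe_disjoint, Set.disjoint_iff_forall_ne]
    intro a ha b hb hab
    subst hab
    have h1 := hdisj k k' hkk
    rw [← Opens.coe_disjoint, Set.disjoint_iff_forall_ne] at h1
    exact h1 ha hb rfl
  obtain ⟨hcol⟩ := nonempty_isColimit_cofanMk_of g hcov' hdisj'
  let e : (∐ fun k => ((((p ⁻¹ᵁ W k).ι ≫ φ).opensRange : Z.Opens) : Scheme.{u})) ≅ V :=
    (coproductIsCoproduct _).coconePointUniqueUpToIso hcol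
  refine ⟨ι, hfin, fun k => ((p ⁻¹ᵁ W k).ι ≫ φ).opensRange, e, ?_⟩
  intro k
  have h1 : Sigma.ι (fun k => ((((p ⁻¹ᵁ W k).ι ≫ φ).opensRange : Z.Opens) : Scheme.{u})) k ≫ e.hom
      = g k :=
    (coproductIsCoproduct _).comp_coconePointUniqueUpToIso_hom hcol ⟨k⟩
  rw [← Category.assoc, h1, hgφ]

end Groth.Agent.Lib.Helper8NormalSepEt
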