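import Mathlib
import Groth.Prelude.Def_EtZar
import Groth.Prelude.Def_EtCore
import Groth.Agent.Lib.Helper16BigZar
import Groth.Agent.Lib.Helper16SmallEtale
import Groth.Agent.Lib.Helper8NormalSepEt
import Groth.Agent.Lib.Helper4SpreadFP
import Groth.Agent.Lib.Helper23DerCompAcyclic

/-!
# Helper8: étale cohomology equals Zariski cohomology when all local rings are strictly henselian

* `exists_local_section_of_sh`: local sections of étale maps at points with strictly henselian
  local ring on the base.
* `isCofiltered_structuredArrow`, `flat_zarToEt`, `injective_resZar`: the restriction to the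
  Zariski site preserves injectives.
* `zarToEt_isCocontinuous`: under the strictly henselian hypothesis `zarToEt` is cocontinuous,
  hence `resZar` is exact.
* `nonempty_H_resZar`: the comparison of cohomology.
-/

set_option autoImplicit false
set_option linter.style.haveILetI false
universe u
open CategoryTheory CategoryTheory.Limits AlgebraicGeometry Opposite Abelian

namespace Groth.Agent.Lib.Helper8EtZarSH

/-- through every point of an étale scheme over `X` whose image has a strictly henselian local ring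
there is a local section of the structure map. -/
theorem exists_local_section_of_sh (X : Scheme.{u}) {U : Scheme.{u}} (c : U ⟶ X) [Etale c] (u : U)
    (h : EtCoh.IsStrictlyHenselianLocalRing (X.presheaf.stalk (c u))) :
    ∃ (X' : X.Opens) (s : (X' : Scheme.{u}) ⟶ U), s ≫ c = X'.ι ∧ u ∈ Set.range s := by
  obtain ⟨hH, hS⟩ := h
  let g : pullback c (X.fromSpecStalk (c u)) ⟶ Spec (CommRingCat.of (X.presheaf.stalk (c u))) :=
    pullback.snd _ _
  haveI : Etale g := by dsimp only [g]; infer_instance
  obtain ⟨u', hu'1, hu'2⟩ := Scheme.Pullback.exists_preimage_pullback (f := c)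
    (g := X.fromSpecStalk (c u)) u (IsLocalRing.closedPoint (X.presheaf.stalk (c u)))
    (by rw [Scheme.fromSpecStalk_closedPoint])
  obtain ⟨τ, hτ1, hτ2⟩ := Groth.Agent.Lib.Helper8NormalSepEt.exists_lift_etale_apply
    (Ω := IsLocalRing.ResidueField (X.presheaf.stalk (c u)))
    g u' (Spec.map (CommRingCat.ofHom (IsLocalRing.residue (X.presheaf.stalk (c u)))))
    (by rw [Groth.Agent.Lib.R2H3.TwConst.specMap_residue_apply]; exact hu'2.symm)
  obtain ⟨σ, hσ1, hσ2⟩ := Groth.Agent.Lib.R2H3.TwConst.exists_section_lift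
    (X.presheaf.stalk (c u)) g τ hτ1
  let t : Spec (X.presheaf.stalk (c u)) ⟶ U := σ ≫ pullback.fst _ _
  have ht : t ≫ c = X.fromSpecStalk (c u) ≫ 𝟙 X := by
    dsimp only [t]
    rw [Category.assoc, pullback.condition, ← Category.assoc]
    change (σ ≫ g) ≫ _ = _
    rw [hσ1, Category.comp_id]
    exact Category.id_comp _
  have htu : t (IsLocalRing.closedPoint (X.presheaf.stalk (c u))) = u := by
    have h1 : σ (IsLocalRing.closedPoint (X.presheaf.stalk (c u))) = u' := by
      rw [← Groth.Agent.Lib.R2H3.TwConst.specMap_residue_apply (X.presheaf.stalk (c u))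
        (IsLocalRing.closedPoint (IsLocalRing.ResidueField (X.presheaf.stalk (c u)))),
        ← Scheme.Hom.comp_apply, hσ2, hτ2]
    dsimp only [t]
    rw [Scheme.Hom.comp_apply, h1, hu'1]
  obtain ⟨X', hxX', s, hs1, hs2⟩ := Groth.Agent.Lib.Helper4.SpreadFP.spread_out_of_finitePresentation' (𝟙 X) c t ht
  refine ⟨X', s, by rw [hs2, Category.comp_id], ?_⟩
  refine ⟨(X'.fromSpecStalkOfMem (c u) hxX') (IsLocalRing.closedPoint (X.presheaf.stalk (c u))), ?_⟩
  rw [← Scheme.Hom.comp_apply, ← hs1, htu]

variable (X : Scheme.{u})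

theorem exists_left {Y : X.Etale} {U : X.Opens} (f : Y ⟶ (EtZar.zarToEt X).obj U) :
    ∃ fl : Y.left ⟶ (U : Scheme.{u}), fl = f.left ∧ fl ≫ Scheme.Opens.ι U = Y.hom :=
  ⟨f.left, rfl, MorphismProperty.Over.w f⟩

theorem hom_zarToEt_ext {Y : X.Etale} {U : X.Opens} (f g : Y ⟶ (EtZar.zarToEt X).obj U) :
    f = g := by
  apply MorphismProperty.Over.Hom.ext
  obtain ⟨fl, hfl, hf⟩ := exists_left X f
  obtain ⟨gl, hgl, hg⟩ := exists_left X g
  rw [← hfl, ← hgl]
  exact (cancel_mono (Scheme.Opens.ι U)).1 (hf.trans hg.symm)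

theorem range_subset_of_hom {Y : X.Etale} {U : X.Opens} (f : Y ⟶ (EtZar.zarToEt X).obj U) :
    Set.range Y.hom ⊆ (U : Set X) := by
  obtain ⟨fl, -, hf⟩ := exists_left X f
  rintro _ ⟨y, rfl⟩
  rw [← hf, Scheme.Hom.comp_apply]
  exact (fl y).2

/-- a morphism into an open, given the range condition (underlying scheme morphism). -/
noncomputable def liftL (Y : X.Etale) (U : X.Opens) (h : Set.range Y.hom ⊆ (U : Set X)) :
    Y.left ⟶ (U : Scheme.{u}) :=
  IsOpenImmersion.lift (Scheme.Opens.ι U) Y.hom (by
    rw [Scheme.Opens.range_ι]; exact h)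

theorem liftL_fac (Y : X.Etale) (U : X.Opens) (h : Set.range Y.hom ⊆ (U : Set X)) :
    liftL X Y U h ≫ Scheme.Opens.ι U = Y.hom :=
  IsOpenImmersion.lift_fac _ _ _

/-- a morphism into an open, given the range condition. -/
noncomputable def liftTo (Y : X.Etale) (U : X.Opens) (h : Set.range Y.hom ⊆ (U : Set X)) :
    Y ⟶ (EtZar.zarToEt X).obj U :=
  MorphismProperty.Over.homMk (liftL X Y U h) (liftL_fac X Y U h)

instance isCofiltered_structuredArrow (Y : X.Etale) :
    IsCofiltered (StructuredArrow Y (EtZar.zarToEt X)) where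
  cone_objs A B := by
    have hA := range_subset_of_hom X A.hom
    have hB := range_subset_of_hom X B.hom
    refine ⟨StructuredArrow.mk (liftTo X Y (A.right ⊓ B.right) (fun x hx => ⟨hA hx, hB hx⟩)),
      StructuredArrow.homMk (homOfLE inf_le_left) (hom_zarToEt_ext X _ _),
      StructuredArrow.homMk (homOfLE inf_le_right) (hom_zarToEt_ext X _ _), trivial⟩
  cone_maps A B f g := ⟨A, 𝟙 A, by
    congr 1
    apply StructuredArrow.hom_ext
    exact Subsingleton.elim _ _⟩
  nonempty := ⟨StructuredArrow.mk (liftTo X Y ⊤ (fun x _ => trivial))⟩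

instance flat_zarToEt : RepresentablyFlat (EtZar.zarToEt X) := ⟨fun _ => inferInstance⟩

instance hasExactColimits_costructuredArrow_zarToEt (d : (X.Etale)ᵒᵖ) :
    HasExactColimitsOfShape (CostructuredArrow (EtZar.zarToEt X).op d) AddCommGrpCat.{u + 1} := by
  have : IsFiltered (CostructuredArrow (EtZar.zarToEt X).op d) :=
    IsFiltered.of_equivalence (structuredArrowOpEquivalence (EtZar.zarToEt X) (unop d))
  have := AB5OfSize_of_univLE.{u, u, u + 1, u + 1} AddCommGrpCat.{u + 1}
  exact AB5OfSize.ofShape _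

/-- the pullback functor from Zariski sheaves to étale sheaves. -/
noncomputable abbrev zarPull [EtZar.ZarCont X] : EtZar.Ab X ⥤ EtCoh.Ab X :=
  (EtZar.zarToEt X).sheafPullback AddCommGrpCat.{u + 1} (Opens.grothendieckTopology X)
    X.smallEtaleTopology

/-- the adjunction between pullback and restriction. -/
noncomputable abbrev zarAdj [EtZar.ZarCont X] : zarPull X ⊣ EtZar.resZar X :=
  (EtZar.zarToEt X).sheafAdjunctionContinuous AddCommGrpCat.{u + 1} (Opens.grothendieckTopology X)
    X.smallEtaleTopology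

theorem zarPull_preservesFiniteLimits [EtZar.ZarCont X] :
    PreservesFiniteLimits (zarPull X) := by
  have h : PreservesFiniteLimits ((EtZar.zarToEt X).op.lan : (_ ⥤ _ ⥤ AddCommGrpCat.{u + 1})) :=
    Groth.Agent.Lib.Helper6.lan_preservesFiniteLimits_of_flat' AddCommGrpCat.{u + 1}
      (EtZar.zarToEt X)
  exact Functor.sheafPullbackConstruction.preservesFiniteLimits (EtZar.zarToEt X)
    AddCommGrpCat.{u + 1} (Opens.grothendieckTopology X) X.smallEtaleTopology

theorem injective_resZar [EtZar.ZarCont X] (I : EtCoh.Ab X) [Injective I] :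
    Injective ((EtZar.resZar X).obj I) := by
  haveI := zarPull_preservesFiniteLimits X
  haveI : (zarPull X).PreservesMonomorphisms :=
    preservesMonomorphisms_of_preservesLimitsOfShape _
  exact Injective.injective_of_adjoint (zarAdj X) I

theorem cover_lift_zar (hS : ∀ s : X, EtCoh.IsStrictlyHenselianLocalRing (X.presheaf.stalk s))
    {U : X.Opens} (R : Sieve ((EtZar.zarToEt X).obj U))
    (hR : R ∈ X.smallEtaleTopology ((EtZar.zarToEt X).obj U)) :
    R.functorPullback (EtZar.zarToEt X) ∈ Opens.grothendieckTopology X U := by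
  intro x hx
  obtain ⟨x', hx'⟩ : ∃ x' : (U : Scheme.{u}), U.ι x' = x := by
    have : x ∈ Set.range U.ι := by rw [Scheme.Opens.range_ι]; exact hx
    exact this
  obtain ⟨W, g, y, hg, hy⟩ :=
    (Groth.Agent.Lib.Helper16.SmallEtale.mem_smallEtale_iff _ R).1 hR x'
  obtain ⟨gl, hgl, hgw⟩ := exists_left X g
  have hWy : W.hom y = x := by
    rw [← hgw, Scheme.Hom.comp_apply, hgl]
    exact (congrArg U.ι hy).trans hx'
  haveI : Etale W.hom := W.prop
  obtain ⟨X', s, hs, hu⟩ := exists_local_section_of_sh X W.hom y (by rw [hWy]; exact hS x)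
  have hX'r : ∀ z : X, z ∈ (X' : Set X) ↔ ∃ z' : (X' : Scheme.{u}), X'.ι z' = z := by
    intro z
    rw [← Set.mem_range, Scheme.Opens.range_ι]
  have hX'U : X' ≤ U := by
    intro z hz
    obtain ⟨z', rfl⟩ := (hX'r z).1 hz
    rw [← hs, ← hgw, Scheme.Hom.comp_apply, Scheme.Hom.comp_apply]
    exact (gl (s z')).2
  refine ⟨X', homOfLE hX'U, ?_, ?_⟩
  · let e : (EtZar.zarToEt X).obj X' ⟶ W := MorphismProperty.Over.homMk s hs
    have h2 := R.downward_closed hg e
    have h3 : e ≫ g = (EtZar.zarToEt X).map (homOfLE hX'U) := hom_zarToEt_ext X _ _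
    rw [h3] at h2
    exact h2
  · obtain ⟨z', rfl⟩ := hu
    rw [← hWy, ← Scheme.Hom.comp_apply, hs]
    exact (hX'r _).2 ⟨z', rfl⟩

theorem zarToEt_isCocontinuous
    (hS : ∀ s : X, EtCoh.IsStrictlyHenselianLocalRing (X.presheaf.stalk s)) :
    (EtZar.zarToEt X).IsCocontinuous (Opens.grothendieckTopology X) X.smallEtaleTopology where
  cover_lift {_ R} hR := cover_lift_zar X hS R hR

section zarcont
variable [EtZar.ZarCont X]

instance resZar_preservesFiniteLimits : PreservesFiniteLimits (EtZar.resZar X) := by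
  haveI := (zarAdj X).rightAdjoint_preservesLimits
  infer_instance

instance resZar_additive : (EtZar.resZar X).Additive where
  map_add := rfl

instance resZar_preservesInjectiveObjects : (EtZar.resZar X).PreservesInjectiveObjects where
  injective_obj {I} hI := by
    haveI := hI
    exact injective_resZar X I

/-- `zarToEt` of the terminal object is terminal. -/
noncomputable def zarTopIsTerminal : IsTerminal ((EtZar.zarToEt X).obj ⊤) :=
  IsTerminal.ofIso (EtCore.topIsTerminal X)
    (MorphismProperty.Over.isoMk X.topIso.symm X.toIso_inv_ι :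
      EtCoh.top X ≅ (EtZar.zarToEt X).obj ⊤)

/-- restriction to the Zariski site followed by global sections is global sections. -/
noncomputable def sectionsIso :
    EtZar.resZar X ⋙
        (sheafSections (Opens.grothendieckTopology X) AddCommGrpCat.{u + 1}).obj (op ⊤) ≅
      (sheafSections X.smallEtaleTopology AddCommGrpCat.{u + 1}).obj
        (op ((EtZar.zarToEt X).obj ⊤)) :=
  NatIso.ofComponents (fun _ => Iso.refl _) (fun f => by
    simp only [Iso.refl_hom]
    rfl)

/-- the pullback of the constant sheaf is the constant sheaf. -/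
noncomputable def pullConstIso :
    constantSheaf (Opens.grothendieckTopology X) AddCommGrpCat.{u + 1} ⋙ zarPull X ≅
      constantSheaf X.smallEtaleTopology AddCommGrpCat.{u + 1} :=
  Adjunction.leftAdjointUniq
    ((constantSheafAdj (Opens.grothendieckTopology X) AddCommGrpCat.{u + 1} isTerminalTop).comp
      (zarAdj X))
    ((constantSheafAdj X.smallEtaleTopology AddCommGrpCat.{u + 1} (zarTopIsTerminal X)).ofNatIsoRight
      (sectionsIso X).symm)

open Groth.Agent.Lib.Helper21.DerAcyc Groth.Agent.Lib.Helper23ExtRD Groth.Agent.Lib.Helper23LocSS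
  Groth.Agent.Lib.Helper21.FreeAb in
/-- étale cohomology agrees with the Zariski cohomology of the restriction for sheaves acyclic for
the restriction functor. -/
theorem nonempty_H_resZar_of_acyclic (F : EtCoh.Ab X)
    (hF : ∀ q : ℕ, IsZero (((EtZar.resZar X).rightDerived (q + 1)).obj F)) (p : ℕ) :
    Nonempty (EtCoh.H X F p ≃+ EtZar.H ((EtZar.resZar X).obj F) p) := by
  haveI : (zarPull X).Additive := (zarAdj X).left_adjoint_additive
  let E := EtZar.resZar X
  let ZC := (constantSheaf (Opens.grothendieckTopology X) AddCommGrpCat.{u + 1}).obj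
    (AddCommGrpCat.of (ULift ℤ))
  let ZD := (constantSheaf X.smallEtaleTopology AddCommGrpCat.{u + 1}).obj
    (AddCommGrpCat.of (ULift ℤ))
  let G : EtZar.Ab X ⥤ AddCommGrpCat.{u + 1} := preadditiveCoyoneda.obj (op ZC)
  let G' : EtCoh.Ab X ⥤ AddCommGrpCat.{u + 1} := preadditiveCoyoneda.obj (op ZD)
  let iso : E ⋙ G ≅ G' :=
    adjCoyonedaIso (zarAdj X) ZC ≪≫
      coyonedaIsoOfIso ((pullConstIso X).app (AddCommGrpCat.of (ULift ℤ)))
  let e₁ := Groth.Agent.Lib.Helper23DerCompAcyclic.compIsoOfAcyclic E G hF p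
  let e₂ := (rightDerivedIso iso p).app F
  obtain ⟨e₃⟩ := rightDerived_coyoneda_iso ZC (E.obj F) p
  obtain ⟨e₄⟩ := rightDerived_coyoneda_iso ZD F p
  exact ⟨(e₃.symm ≪≫ e₁.symm ≪≫ e₂ ≪≫ e₄).addCommGroupIsoToAddEquiv.symm⟩

end zarcont

section cohomology
variable [EtZar.ZarCont X] [(EtZar.zarToEt X).IsCocontinuous
    (Opens.grothendieckTopology X) X.smallEtaleTopology]

instance resZar_preservesFiniteColimits : PreservesFiniteColimits (EtZar.resZar X) := by
  haveI := ((EtZar.zarToEt X).sheafAdjunctionCocontinuous AddCommGrpCat.{u + 1}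
    (Opens.grothendieckTopology X) X.smallEtaleTopology).leftAdjoint_preservesColimits
  infer_instance

instance resZar_preservesHomology : (EtZar.resZar X).PreservesHomology := inferInstance

/-- étale cohomology agrees with the Zariski cohomology of the restriction, as soon as `zarToEt`
is cocontinuous. -/
theorem nonempty_H_resZar (F : EtCoh.Ab X) (p : ℕ) :
    Nonempty (EtCoh.H X F p ≃+ EtZar.H ((EtZar.resZar X).obj F) p) :=
  nonempty_H_resZar_of_acyclic X F
    (fun q => Groth.Agent.Lib.Helper16.BigSmallCoh.isZero_rightDerived_succ_of_preservesHomology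
      (EtZar.resZar X) F q) p

end cohomology

/-- **étale = Zariski**: if all local rings of `X` are strictly henselian, étale cohomology is the
Zariski cohomology of the restriction. -/
theorem nonempty_H_resZar_of_sh
    (hS : ∀ s : X, EtCoh.IsStrictlyHenselianLocalRing (X.presheaf.stalk s)) [EtZar.ZarCont X]
    (F : EtCoh.Ab X) (p : ℕ) :
    Nonempty (EtCoh.H X F p ≃+ EtZar.H ((EtZar.resZar X).obj F) p) := by
  haveI := zarToEt_isCocontinuous X hS
  exact nonempty_H_resZar X F p

end Groth.Agent.Lib.Helper8EtZarSH
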