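import Mathlib
import Groth.Agent.Lib.Helper8EtZarSH
import Groth.Agent.Lib.Helper8EtLocVanish
import Groth.Agent.Lib.Helper9JContAll
import Groth.Agent.S0101

/-!
# Helper8: sheaves on the small étale site that are acyclic on affines are acyclic for the
restriction to the Zariski site
-/

set_option autoImplicit false
set_option linter.style.haveILetI false
universe u
open CategoryTheory CategoryTheory.Limits AlgebraicGeometry Opposite Abelian

namespace Groth.Agent.Lib.Helper8EtZarAcyc

open Groth.Agent.Lib.Helper9.EtMV Groth.Agent.Lib.Helper9.EtPull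

variable {X : Scheme.{u}}

/-- `ℤ[h_P] ≅ ℤ[h_Q]` for `P ≅ Q`. -/
noncomputable def ZhIso {P Q : X.Etale} (e : P ≅ Q) : Zh P ≅ Zh Q :=
  (presheafToSheaf X.smallEtaleTopology AddCommGrpCat.{u + 1}).mapIso
    (Functor.isoWhiskerRight (uliftYoneda.{u + 1}.mapIso e) AddCommGrpCat.free.{u + 1})

lemma ext_precomp_iso_injective {A B G : EtCoh.Ab X} (a : A ≅ B) (n : ℕ) :
    Function.Injective (fun x : Ext.{u + 1} B G n => (Ext.mk₀ a.hom).comp x (zero_add n)) := by
  intro x y h
  have h2 := congrArg (fun t => (Ext.mk₀ a.inv).comp t (zero_add n)) h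
  simp only [] at h2
  rwa [← Ext.comp_assoc_of_second_deg_zero, ← Ext.comp_assoc_of_second_deg_zero,
    Ext.mk₀_comp_mk₀, a.inv_hom_id, Ext.mk₀_id_comp, Ext.mk₀_id_comp] at h2

/-- vanishing of the cohomology of `T` gives vanishing of `Ext(ℤ[h_T], -)`. -/
theorem subsingleton_ext_Zh (T : X.Etale) (G : EtCoh.Ab X) (n : ℕ)
    (h : Subsingleton (EtCoh.H T.left ((EtCoh.pull T.hom).obj G) n)) :
    Subsingleton (Ext.{u + 1} (Zh T) G n) := by
  haveI : Etale T.hom := T.prop
  haveI : EtShriek.JCont T.hom := Groth.Agent.Lib.Helper9.JContAll.jCont T.hom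
  haveI : PreservesFiniteLimits (EtCoh.pull T.hom) := Groth.Agent.S0101.result T.hom
  let e : obj T.hom ≅ T := MorphismProperty.Over.isoMk (Iso.refl _) (by
    simp only [Iso.refl_hom]
    exact (Category.id_comp _).trans (Category.id_comp _).symm)
  refine ⟨fun x y => ?_⟩
  apply ext_precomp_iso_injective (ZhIso e) n
  apply (Phi T.hom G n).injective
  exact h.elim _ _

theorem isIso_aug (P : X.Etale) (hP : IsIso ((EtCore.topIsTerminal X).from P)) :
    IsIso (aug P) := by
  rw [isIso_iff_coyoneda_map_bijective]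
  intro G
  have h1 : Function.Bijective (fun l : EtCoh.const X ℤ ⟶ G => zhEquiv P G (aug P ≫ l)) := by
    have hf : (fun l : EtCoh.const X ℤ ⟶ G => zhEquiv P G (aug P ≫ l)) =
        (G.obj.map ((EtCore.topIsTerminal X).from P).op).hom ∘ sec G :=
      funext (zhEquiv_aug_comp P G)
    rw [hf]
    haveI : IsIso (G.obj.map ((EtCore.topIsTerminal X).from P).op) := inferInstance
    exact ((ConcreteCategory.isIso_iff_bijective _).1 inferInstance).comp
      ⟨sec_injective G, sec_surjective G⟩
  exact (Function.Bijective.of_comp_iff' (zhEquiv P G).bijective _).1 h1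

/-- vanishing of the cohomology computed on the terminal object gives vanishing of `H`. -/
theorem subsingleton_H_of_top (G : EtCoh.Ab X) (n : ℕ)
    (h : Subsingleton (EtCoh.H (EtCoh.top X).left ((EtCoh.pull (EtCoh.top X).hom).obj G) n)) :
    Subsingleton (EtCoh.H X G n) := by
  haveI := subsingleton_ext_Zh (EtCoh.top X) G n h
  haveI : IsIso (aug (EtCoh.top X)) := isIso_aug (EtCoh.top X) (by
    have : (EtCore.topIsTerminal X).from (EtCoh.top X) = 𝟙 _ :=
      (EtCore.topIsTerminal X).hom_ext _ _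
    rw [this]; infer_instance)
  refine ⟨fun x y => ?_⟩
  apply ext_precomp_iso_injective (asIso (aug (EtCoh.top X))) n
  exact Subsingleton.elim _ _

/-- a sheaf whose cohomology vanishes on all affine étale schemes is acyclic for the restriction to
the Zariski site. -/
theorem isZero_rightDerived_resZar (X : Scheme.{u}) [EtZar.ZarCont X] (G : EtCoh.Ab X)
    (hG : ∀ (T : X.Etale), IsAffine T.left → ∀ i : ℕ, 1 ≤ i →
      Subsingleton (EtCoh.H T.left ((EtCoh.pull T.hom).obj G) i)) (q : ℕ) :
    IsZero (((EtZar.resZar X).rightDerived (q + 1)).obj G) := by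
  refine Groth.Agent.Lib.Helper8EtLocVanish.isZero_rightDerived_pushforward
    (Opens.grothendieckTopology X) (EtZar.zarToEt X) (fun W => IsAffineOpen W) ?_ G ?_ q
  · intro V x hx
    obtain ⟨W, hW, hxW, hWV⟩ := TopologicalSpace.Opens.isBasis_iff_nbhd.1 X.isBasis_affineOpens hx
    exact ⟨W, homOfLE hWV, ⟨W, 𝟙 W, homOfLE hWV, hW, Category.id_comp _⟩, hxW⟩
  · intro W hW i
    exact subsingleton_ext_Zh ((EtZar.zarToEt X).obj W) G (i + 1)
      (hG ((EtZar.zarToEt X).obj W) hW (i + 1) (by omega))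

/-- **S17614**. -/
theorem subsingleton_H_resZar (S : Scheme.{u}) [IsAffine S] [EtZar.ZarCont S] (G : EtCoh.Ab S)
    (hG : ∀ (T : S.Etale), IsAffine T.left → ∀ i : ℕ, 1 ≤ i →
      Subsingleton (EtCoh.H T.left ((EtCoh.pull T.hom).obj G) i))
    (i : ℕ) (hi : 1 ≤ i) :
    Subsingleton (EtZar.H ((EtZar.resZar S).obj G) i) := by
  obtain ⟨e⟩ := Groth.Agent.Lib.Helper8EtZarSH.nonempty_H_resZar_of_acyclic S G
    (isZero_rightDerived_resZar S G hG) i
  haveI := subsingleton_H_of_top G i (hG (EtCoh.top S) (inferInstanceAs (IsAffine S)) i hi)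
  exact e.symm.toEquiv.subsingleton

end Groth.Agent.Lib.Helper8EtZarAcyc
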