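import Groth.Agent.Lib.Helper8TopULift
import Groth.Agent.Lib.Helper16ExtCompare

/-!
# Sheaf cohomology on a space does not change when the values are lifted one universe up (helper8)

For `X : TopCat.{u}` and an abelian sheaf `F` on `X` (values in `AddCommGrpCat.{u}`), the cohomology
`H^n(X, F)` agrees with the cohomology of `L F`, the same sheaf with values lifted to
`AddCommGrpCat.{u+1}` (computed in the category of sheaves with values in `AddCommGrpCat.{u+1}`).
-/

set_option autoImplicit false
universe u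
open CategoryTheory CategoryTheory.Limits TopologicalSpace Opposite Abelian

namespace Groth.Agent.Lib.Helper8ZarULift
open Groth.Agent.Lib.Helper8TopULift

variable (X : TopCat.{u})

/-- lifting the values of a sheaf one universe up -/
noncomputable abbrev L : CohTop.Ab X ⥤ AbUp X :=
  sheafCompose (Opens.grothendieckTopology X) AddCommGrpCat.uliftFunctor.{u + 1, u}

instance : (L X).Additive where
  map_add := rfl

instance : PreservesFiniteLimits (L X) := by
  constructor
  intro K _ _
  haveI : PreservesLimitsOfShape K (L X ⋙ sheafToPresheaf _ _) :=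
    inferInstanceAs (PreservesLimitsOfShape K (sheafToPresheaf _ _ ⋙
      (Functor.whiskeringRight _ _ _).obj AddCommGrpCat.uliftFunctor.{u + 1, u}))
  exact preservesLimitsOfShape_of_reflects_of_preserves (L X) (sheafToPresheaf _ _)

theorem epi_L_map {F G : CohTop.Ab X} (g : F ⟶ G) [Epi g] : Epi ((L X).map g) := by
  have h1 : TopCat.Presheaf.IsLocallySurjective g.hom :=
    (TopCat.Sheaf.isLocallySurjective_iff_epi g).mpr ‹Epi g›
  rw [TopCat.Presheaf.isLocallySurjective_iff] at h1
  have h2 : TopCat.Presheaf.IsLocallySurjective ((Psi X).functor.map ((L X).map g)).hom := by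
    rw [TopCat.Presheaf.isLocallySurjective_iff]
    intro U' t x' hx'
    obtain ⟨V, hV, ⟨s, hs⟩, hxV⟩ := h1 ((eO X).inverse.obj U') t.down x'.down hx'
    refine ⟨(eO X).functor.obj V, ?_, ⟨ULift.up s, ?_⟩, hxV⟩
    · intro y' hy'
      exact hV hy'
    · exact congrArg ULift.up hs
  haveI : Epi ((Psi X).functor.map ((L X).map g)) :=
    (TopCat.Sheaf.isLocallySurjective_iff_epi _).mp h2
  exact (Psi X).functor.epi_of_epi_map this

instance : PreservesFiniteColimits (L X) := by
  apply ((L X).preservesFiniteColimits_tfae.out 3 0).mpr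
  intro S hS
  have hL : PreservesFiniteLimits (L X) := inferInstance
  have h0 : ∀ (S : ShortComplex (CohTop.Ab X)), S.ShortExact →
      (S.map (L X)).Exact ∧ Mono ((L X).map S.f) :=
    ((L X).preservesFiniteLimits_tfae.out 3 0).mp hL
  have h := h0 S hS
  haveI := hS.epi_g
  exact ⟨h.1, epi_L_map X S.g⟩

/-- the constant sheaf `ℤ` -/
noncomputable abbrev ZLo : CohTop.Ab X :=
  (constantSheaf (Opens.grothendieckTopology X) AddCommGrpCat.{u}).obj
    (AddCommGrpCat.of (ULift ℤ))

/-- constant sheaf / global sections adjunction -/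
noncomputable abbrev adjLo :=
  constantSheafAdj (Opens.grothendieckTopology X) AddCommGrpCat.{u}
    (T := (⊤ : Opens X)) isTerminalTop

/-- constant sheaf / global sections adjunction, one universe up -/
noncomputable abbrev adjUp :=
  constantSheafAdj (Opens.grothendieckTopology X) AddCommGrpCat.{u + 1}
    (T := (⊤ : Opens X)) isTerminalTop

/-- the unit section of the constant sheaf, lifted -/
noncomputable def iota : AddCommGrpCat.of (ULift.{u + 1} ℤ) ⟶
    ((L X).obj (ZLo X)).obj.obj (op (⊤ : Opens X)) :=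
  AddCommGrpCat.ofHom ((AddEquiv.ulift.symm.toAddMonoidHom.comp
    (((adjLo X).unit.app (AddCommGrpCat.of (ULift.{u} ℤ))).hom.comp
      AddEquiv.ulift.symm.toAddMonoidHom)).comp AddEquiv.ulift.toAddMonoidHom)

/-- the comparison map `ℤ ⟶ L ℤ` -/
noncomputable def wZ : ZUp X ⟶ (L X).obj (ZLo X) :=
  ((adjUp X).homEquiv _ _).symm (iota X)

/-- sections from maps out of `ℤ` -/
noncomputable def secLo (F : CohTop.Ab X) : (ZLo X ⟶ F) ≃ F.obj.obj (op (⊤ : Opens X)) :=
  ((adjLo X).homEquiv _ F).trans (AddCommGrpCat.uliftZMultiplesAddEquiv _).toEquiv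

/-- sections from maps out of `ℤ`, one universe up -/
noncomputable def secUp (G : AbUp X) : (ZUp X ⟶ G) ≃ G.obj.obj (op (⊤ : Opens X)) :=
  ((adjUp X).homEquiv _ G).trans (AddCommGrpCat.uliftZMultiplesAddEquiv _).toEquiv

lemma secUp_wZ_comp (F : CohTop.Ab X) (φ : ZLo X ⟶ F) :
    secUp X ((L X).obj F) (wZ X ≫ (L X).map φ) = ULift.up (secLo X F φ) := by
  unfold secUp secLo wZ
  simp only [Equiv.trans_apply]
  rw [Adjunction.homEquiv_naturality_right, Equiv.apply_symm_apply]
  rw [Adjunction.homEquiv_unit]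
  rfl

theorem h0 (F : CohTop.Ab X) :
    Function.Bijective (fun φ : ZLo X ⟶ F => wZ X ≫ (L X).map φ) := by
  have h : (fun φ : ZLo X ⟶ F => wZ X ≫ (L X).map φ) =
      (secUp X ((L X).obj F)).symm ∘ ULift.up ∘ (secLo X F) := by
    funext φ
    apply (secUp X ((L X).obj F)).injective
    simp only [Function.comp_apply, Equiv.apply_symm_apply]
    exact secUp_wZ_comp X F φ
  rw [h]
  exact (secUp X ((L X).obj F)).symm.bijective.comp
    (Function.Bijective.comp ⟨ULift.up_injective, ULift.up_surjective⟩ (secLo X F).bijective)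

theorem heff (I : CohTop.Ab X) [Injective I] (n : ℕ) :
    Subsingleton (Ext.{u + 1} (ZUp X) ((L X).obj I) (n + 1)) := by
  haveI := Groth.Agent.Lib.Helper16.Flasque.injective_isFlasque I
  refine subsingleton_of_forall_eq 0 (fun x => ?_)
  refine ext_eq_zero_of_flasque X ((L X).obj I) ?_ n x
  intro U V i
  have h1 : Epi (I.obj.map i) := inferInstance
  rw [AddCommGrpCat.epi_iff_surjective] at h1 ⊢
  intro t
  obtain ⟨s, hs⟩ := h1 t.down
  exact ⟨ULift.up s, congrArg ULift.up hs⟩

/-- **Universe lifting does not change sheaf cohomology on a topological space.** -/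
theorem nonempty_H_addEquiv (F : CohTop.Ab X) (n : ℕ) :
    Nonempty (Sheaf.H.{u} F n ≃+ Ext.{u + 1} (ZUp X) ((L X).obj F) n) :=
  ⟨AddEquiv.ofBijective (Groth.Agent.Lib.Helper16.ExtCompare.cmp (L X) (wZ X) F n)
    (Groth.Agent.Lib.Helper16.ExtCompare.cmp_bijective (L X) (wZ X) (h0 X)
      (fun I _ n => heff X I n) n F)⟩

end Groth.Agent.Lib.Helper8ZarULift
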