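import Mathlib
import Groth.Prelude.Def_Coh
import Groth.Prelude.Def_EtZar
import Groth.Prelude.Def_EtGm
import Groth.Agent.Lib.Helper8ZarULift
import Groth.Agent.Lib.Helper8EtZarSH
import Groth.Agent.Lib.Helper8EtZarAcyc
import Groth.Agent.Lib.Helper8ZarCont
import Groth.Agent.Lib.Helper8EtGaAffine
import Groth.Agent.Lib.Helper9EtPull
import Groth.Agent.Lib.Helper9JContAll

/-!
# `H^p(X_ét, G_a) ≅ H^p(X_Zar, O_X)` (helper8)
-/

set_option autoImplicit false
universe u
open CategoryTheory CategoryTheory.Limits TopologicalSpace Opposite AlgebraicGeometry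

namespace Groth.Agent.Lib.Helper8EtGaZar
open Groth.Agent.Lib.Helper8TopULift Groth.Agent.Lib.Helper8ZarULift

variable (X : Scheme.{u})

lemma topIso_naturality {U V : X.Opens} (e : V ≤ U) :
    (X.homOfLE e).appTop ≫ V.topIso.hom = U.topIso.hom ≫ X.presheaf.map (homOfLE e).op := by
  rw [Scheme.homOfLE_appTop]
  change X.presheaf.map _ ≫ X.presheaf.map _ = X.presheaf.map _ ≫ X.presheaf.map _
  rw [← Functor.map_comp, ← Functor.map_comp]
  rfl

/-- sectionwise comparison -/
noncomputable def secIso (U : X.Opens) :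
    AddCommGrpCat.of (ULift.{u + 1} Γ(↑U, ⊤)) ≅ AddCommGrpCat.of (ULift.{u + 1} Γ(X, U)) :=
  (AddEquiv.ulift.trans ((U.topIso).commRingCatIsoToRingEquiv.toAddEquiv.trans
    AddEquiv.ulift.symm)).toAddCommGrpIso

/-- the restriction of `G_a` to the Zariski site is the structure sheaf, lifted -/
noncomputable def resZarGaIso [EtZar.ZarCont X] :
    (EtZar.resZar X).obj (EtCoh.Ga X) ≅ (L X.carrier).obj (Coh.toAb (Coh.structureModule X)) :=
  (fullyFaithfulSheafToPresheaf _ _).preimageIso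
    (NatIso.ofComponents (fun U => secIso X U.unop) (by
      intro U V i
      ext x
      have h := congrArg (fun f => f.hom x.down) (topIso_naturality X i.unop.le)
      exact congrArg ULift.up h))

/-- restriction of `G_a` along an étale map is `G_a` -/
noncomputable def restrGaIso {T : Scheme.{u}} (j : T ⟶ X) [Etale j] [EtShriek.JCont j] :
    (EtShriek.restrAlong j).obj (EtCoh.Ga X) ≅ EtCoh.Ga T :=
  (fullyFaithfulSheafToPresheaf _ _).preimageIso
    (NatIso.ofComponents (fun V => Iso.refl _) (by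
      intro V W g
      rfl))

/-- inverse image of `G_a` along an étale map is `G_a` -/
noncomputable def pullGaIso {T : Scheme.{u}} (j : T ⟶ X) [Etale j] :
    (EtCoh.pull j).obj (EtCoh.Ga X) ≅ EtCoh.Ga T :=
  haveI := Groth.Agent.Lib.Helper9.JContAll.jCont j
  (Groth.Agent.Lib.Helper9.EtPull.rho j).app (EtCoh.Ga X) ≪≫ restrGaIso X j

theorem subsingleton_H_pull_Ga (T : X.Etale) (hT : IsAffine T.left) (i : ℕ) (hi : 1 ≤ i) :
    Subsingleton (EtCoh.H T.left ((EtCoh.pull T.hom).obj (EtCoh.Ga X)) i) := by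
  haveI : Etale T.hom := T.prop
  obtain ⟨q, rfl⟩ : ∃ q, i = q + 1 := ⟨i - 1, by omega⟩
  have h := Groth.Agent.Lib.Helper8EtGaAffine.subsingleton_H_Ga T.left q
  exact @Equiv.subsingleton _ _ (((EtCoh.HF T.left (q + 1)).mapIso
    (pullGaIso X T.hom)).addCommGroupIsoToAddEquiv).toEquiv h

/-- **`H^p(X_ét, G_a) ≅ H^p(X, O_X)`**. -/
theorem main (p : ℕ) :
    Nonempty (EtCoh.H X (EtCoh.Ga X) p ≃+ Coh.HH X (Coh.structureModule X) p) := by
  haveI : EtZar.ZarCont X := Groth.Agent.Lib.Helper8ZarCont.zarCont X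
  obtain ⟨e1⟩ := Groth.Agent.Lib.Helper8EtZarSH.nonempty_H_resZar_of_acyclic X (EtCoh.Ga X)
    (Groth.Agent.Lib.Helper8EtZarAcyc.isZero_rightDerived_resZar X (EtCoh.Ga X)
      (fun T hT i hi => subsingleton_H_pull_Ga X T hT i hi)) p
  let e2 : EtZar.H ((EtZar.resZar X).obj (EtCoh.Ga X)) p ≃+
      EtZar.H ((L X.carrier).obj (Coh.toAb (Coh.structureModule X))) p :=
    ((Sheaf.functorH (Opens.grothendieckTopology X) p).mapIso
      (resZarGaIso X)).addCommGroupIsoToAddEquiv
  obtain ⟨e3⟩ := nonempty_H_addEquiv X.carrier (Coh.toAb (Coh.structureModule X)) p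
  exact ⟨e1.trans (e2.trans e3.symm)⟩

end Groth.Agent.Lib.Helper8EtGaZar
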