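import Mathlib
import Groth.Prelude.Def_EtZar
import Groth.Agent.Lib.Helper8EtZarSH
import Groth.Agent.Lib.Helper8EtLocVanish
import Groth.Agent.Lib.Helper16ExtCompare

/-!
# A natural comparison map `H^n(X_Zar, F|_Zar) → H^n(X_ét, F)` (helper8)

`cmpZ X F n` is natural in `F` (`cmpZ_naturality`) and bijective when `F` has no higher cohomology
on the affine opens of `X` (`cmpZ_bijective`).
-/

set_option autoImplicit false
universe u
open CategoryTheory CategoryTheory.Limits TopologicalSpace Opposite AlgebraicGeometry Abelian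

namespace Groth.Agent.Lib.Helper8EtZarNat
open Groth.Agent.Lib.Helper8EtZarSH Groth.Agent.Lib.Helper8EtLocVanish Groth.Agent.Lib.Helper9.EtMV

variable (X : Scheme.{u}) [EtZar.ZarCont X]

/-- the constant Zariski sheaf `ℤ` -/
noncomputable abbrev ZC : EtZar.Ab X :=
  (constantSheaf (Opens.grothendieckTopology X) AddCommGrpCat.{u + 1}).obj
    (AddCommGrpCat.of (ULift ℤ))

/-- the constant étale sheaf `ℤ` -/
noncomputable abbrev ZD : EtCoh.Ab X :=
  (constantSheaf X.smallEtaleTopology AddCommGrpCat.{u + 1}).obj (AddCommGrpCat.of (ULift ℤ))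

/-- `ℤ_ét ≅ ε^* ℤ_Zar` -/
noncomputable def wIso : ZD X ≅ (zarPull X).obj (ZC X) :=
  ((pullConstIso X).app (AddCommGrpCat.of (ULift ℤ))).symm

instance : (zarPull X).Additive := (zarAdj X).left_adjoint_additive
instance : PreservesFiniteLimits (zarPull X) := zarPull_preservesFiniteLimits X
instance : PreservesFiniteColimits (zarPull X) := by
  haveI := (zarAdj X).leftAdjoint_preservesColimits
  infer_instance

/-- the natural comparison map from Zariski to étale cohomology -/
noncomputable def cmpZ (F : EtCoh.Ab X) (n : ℕ) :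
    EtZar.H ((EtZar.resZar X).obj F) n →+ EtCoh.H X F n :=
  ((Ext.mk₀ ((zarAdj X).counit.app F)).postcomp (ZD X) (add_zero n)).comp
    (Groth.Agent.Lib.Helper16.ExtCompare.cmp (zarPull X) (wIso X).hom
      ((EtZar.resZar X).obj F) n)

lemma cmpZ_apply (F : EtCoh.Ab X) (n : ℕ) (x : EtZar.H ((EtZar.resZar X).obj F) n) :
    cmpZ X F n x = ((Ext.mk₀ (wIso X).hom).comp (x.mapExactFunctor (zarPull X)) (zero_add n)).comp
      (Ext.mk₀ ((zarAdj X).counit.app F)) (add_zero n) := rfl

/-- naturality of the comparison map -/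
theorem cmpZ_naturality {F G : EtCoh.Ab X} (a : F ⟶ G) (n : ℕ)
    (x : EtZar.H ((EtZar.resZar X).obj F) n) :
    cmpZ X G n (Sheaf.H.map ((EtZar.resZar X).map a) n x) = Sheaf.H.map a n (cmpZ X F n x) := by
  rw [Sheaf.H.map_apply, Sheaf.H.map_apply, cmpZ_apply, cmpZ_apply, Ext.mapExactFunctor_comp,
    Ext.mapExactFunctor_mk₀]
  rw [Ext.comp_assoc_of_third_deg_zero, Ext.comp_assoc_of_third_deg_zero,
    Ext.comp_assoc_of_third_deg_zero, Ext.comp_assoc_of_third_deg_zero, Ext.mk₀_comp_mk₀,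
    Ext.mk₀_comp_mk₀]
  congr 3
  exact (zarAdj X).counit.naturality a

lemma cmpZ_mk₀ (F : EtCoh.Ab X) (φ : ZC X ⟶ (EtZar.resZar X).obj F) :
    cmpZ X F 0 (Ext.mk₀ φ) =
      Ext.mk₀ ((wIso X).hom ≫ (zarPull X).map φ ≫ (zarAdj X).counit.app F) := by
  rw [cmpZ_apply, Ext.mapExactFunctor_mk₀, Ext.mk₀_comp_mk₀, Ext.mk₀_comp_mk₀, Category.assoc]

theorem cmpZ_zero_bijective (F : EtCoh.Ab X) : Function.Bijective (cmpZ X F 0) := by
  have hb : Function.Bijective
      (fun φ : ZC X ⟶ (EtZar.resZar X).obj F =>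
        (wIso X).hom ≫ (zarPull X).map φ ≫ (zarAdj X).counit.app F) := by
    have h : (fun φ : ZC X ⟶ (EtZar.resZar X).obj F =>
        (wIso X).hom ≫ (zarPull X).map φ ≫ (zarAdj X).counit.app F) =
        (fun ψ => (wIso X).hom ≫ ψ) ∘ ((zarAdj X).homEquiv (ZC X) F).symm := by
      funext φ
      simp only [Function.comp_apply, Adjunction.homEquiv_counit]
    rw [h]
    refine Function.Bijective.comp ?_ (Equiv.bijective _)
    exact ⟨fun a b hab => (cancel_epi (wIso X).hom).mp hab,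
      fun b => ⟨(wIso X).inv ≫ b, by simp⟩⟩
  constructor
  · intro x y hxy
    obtain ⟨φ, rfl⟩ := (Ext.mk₀_bijective _ _).2 x
    obtain ⟨ψ, rfl⟩ := (Ext.mk₀_bijective _ _).2 y
    rw [cmpZ_mk₀, cmpZ_mk₀] at hxy
    rw [hb.1 ((Ext.mk₀_bijective _ _).1 hxy)]
  · intro y
    obtain ⟨ψ, rfl⟩ := (Ext.mk₀_bijective _ _).2 y
    obtain ⟨φ, hφ⟩ := hb.2 ψ
    exact ⟨Ext.mk₀ φ, (cmpZ_mk₀ X F φ).trans (congrArg Ext.mk₀ hφ)⟩

/-- the class of affine opens, as étale schemes -/
def AffOpen : X.Etale → Prop := fun T => ∃ W : X.Opens, IsAffineOpen W ∧ T = (EtZar.zarToEt X).obj W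

/-- the counit, as a morphism of short complexes -/
noncomputable def counitSC (S : ShortComplex (EtCoh.Ab X)) :
    (S.map (EtZar.resZar X)).map (zarPull X) ⟶ S where
  τ₁ := (zarAdj X).counit.app S.X₁
  τ₂ := (zarAdj X).counit.app S.X₂
  τ₃ := (zarAdj X).counit.app S.X₃
  comm₁₂ := ((zarAdj X).counit.naturality S.f).symm
  comm₂₃ := ((zarAdj X).counit.naturality S.g).symm

theorem shortExact_map_resZar (S : ShortComplex (EtCoh.Ab X)) (hS : S.ShortExact)
    (h : ExtVanish (AffOpen X) S.X₁) : (S.map (EtZar.resZar X)).ShortExact := by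
  have h00 : ∀ (S : ShortComplex (EtCoh.Ab X)), S.ShortExact →
      (S.map (EtZar.resZar X)).Exact ∧ Mono ((EtZar.resZar X).map S.f) :=
    ((EtZar.resZar X).preservesFiniteLimits_tfae.out 3 0).mp
      (inferInstance : PreservesFiniteLimits (EtZar.resZar X))
  have h0 := h00 S hS
  haveI : Mono (S.map (EtZar.resZar X)).f := h0.2
  haveI : Epi (S.map (EtZar.resZar X)).g := by
    refine epi_pushforward_map (Opens.grothendieckTopology X) (EtZar.zarToEt X) S.g
      (fun W => IsAffineOpen W) ?_ ?_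
    · intro V x hx
      obtain ⟨W, hW, hxW, hWV⟩ :=
        TopologicalSpace.Opens.isBasis_iff_nbhd.1 X.isBasis_affineOpens hx
      exact ⟨W, homOfLE hWV, ⟨W, 𝟙 W, homOfLE hWV, hW, Category.id_comp _⟩, hxW⟩
    · intro W hW
      exact surjective_g_app S hS _ (h _ ⟨W, hW, rfl⟩ 0)
  exact ShortComplex.ShortExact.mk h0.1

theorem ext_nat_aux {𝒟 : Type*} [Category 𝒟] [Abelian 𝒟] [HasExt.{u + 1} 𝒟]
    {S₁ S₂ : ShortComplex 𝒟} (h₁ : S₁.ShortExact) (h₂ : S₂.ShortExact) (γ : S₁ ⟶ S₂) {A : 𝒟}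
    {n : ℕ} (y : Ext.{u + 1} A S₁.X₃ n) :
    (y.comp (Ext.mk₀ γ.τ₃) (add_zero n)).comp h₂.extClass rfl =
      (y.comp h₁.extClass rfl).comp (Ext.mk₀ γ.τ₁) (add_zero (n + 1)) := by
  rw [Ext.comp_assoc _ _ _ (add_zero n) (zero_add 1) (by omega),
    ← ShortComplex.ShortExact.extClass_naturality h₁ h₂ γ,
    Ext.comp_assoc _ _ _ rfl (add_zero 1) (by omega)]

theorem extClass_aux (T : ShortComplex (EtZar.Ab X)) (hT : T.ShortExact)
    (S : ShortComplex (EtCoh.Ab X)) (hS : S.ShortExact) (γ : T.map (zarPull X) ⟶ S) (n : ℕ)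
    (x : Ext.{u + 1} (ZC X) T.X₃ n) :
    (((Ext.mk₀ (wIso X).hom).comp (x.mapExactFunctor (zarPull X)) (zero_add n)).comp
      (Ext.mk₀ γ.τ₃) (add_zero n)).comp hS.extClass rfl =
    ((Ext.mk₀ (wIso X).hom).comp ((x.comp hT.extClass rfl).mapExactFunctor (zarPull X))
      (zero_add (n + 1))).comp (Ext.mk₀ γ.τ₁) (add_zero (n + 1)) := by
  have hT' := hT.map_of_exact (zarPull X)
  have e1 : (x.comp hT.extClass rfl).mapExactFunctor (zarPull X) =
      (x.mapExactFunctor (zarPull X)).comp hT'.extClass rfl := by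
    rw [Ext.mapExactFunctor_comp, Ext.mapExactFunctor_extClass]
    rfl
  rw [e1]
  refine (ext_nat_aux hT' hS γ
    ((Ext.mk₀ (wIso X).hom).comp (x.mapExactFunctor (zarPull X)) (zero_add n))).trans ?_
  congr 1
  exact Ext.comp_assoc _ _ _ (zero_add n) rfl (by omega)

attribute [local instance] Ext.subsingleton_of_injective in
/-- **the comparison map is bijective for sheaves without higher cohomology on affine opens** -/
theorem cmpZ_bijective (n : ℕ) : ∀ (F : EtCoh.Ab X), ExtVanish (AffOpen X) F →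
    Function.Bijective (cmpZ X F n) := by
  induction n with
  | zero => exact fun F _ => cmpZ_zero_bijective X F
  | succ n hn =>
    intro F hF
    let I : InjectivePresentation F := Classical.arbitrary _
    let S := ShortComplex.mk _ _ (cokernel.condition I.f)
    haveI : Injective S.X₂ := I.injective
    have hS : S.ShortExact := { exact := ShortComplex.exact_cokernel I.f }
    have hS' : (S.map (EtZar.resZar X)).ShortExact := shortExact_map_resZar X S hS hF
    have hQ : ExtVanish (AffOpen X) S.X₃ := extVanish_X₃ _ S hS hF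
    have hI : ExtVanish (AffOpen X) S.X₂ := fun T _ i => inferInstance
    haveI : Injective (S.map (EtZar.resZar X)).X₂ := injective_resZar X S.X₂
    exact AddMonoidHom.bijective_of_surjective_of_bijective_of_right_exact
      ((Ext.mk₀ (S.map (EtZar.resZar X)).g).postcomp (ZC X) (add_zero n))
      (hS'.extClass.postcomp (ZC X) rfl)
      ((Ext.mk₀ S.g).postcomp (ZD X) (add_zero n)) (hS.extClass.postcomp (ZD X) rfl)
      (cmpZ X S.X₂ n) (cmpZ X S.X₃ n) (cmpZ X S.X₁ (n + 1))
      (by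
        ext x
        exact (cmpZ_naturality X S.g n x).symm)
      (by
        ext x
        exact extClass_aux X (S.map (EtZar.resZar X)) hS' S hS (counitSC X S) n x)
      ((ShortComplex.ab_exact_iff_function_exact _).mp
        (Ext.covariant_sequence_exact₃' (ZC X) hS' n (n + 1) rfl))
      ((ShortComplex.ab_exact_iff_function_exact _).mp
        (Ext.covariant_sequence_exact₃' (ZD X) hS n (n + 1) rfl))
      (hn _ hI).surjective (hn _ hQ)
      (fun x₁ ↦ Ext.covariant_sequence_exact₁ _ hS' x₁ (by subsingleton) rfl)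
      (fun y₁ ↦ Ext.covariant_sequence_exact₁ _ hS y₁ (by subsingleton) rfl)

end Groth.Agent.Lib.Helper8EtZarNat
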