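import Mathlib
import Groth.Prelude.Def_Coh
import Groth.Prelude.Def_EtZar
import Groth.Prelude.Def_EtGm
import Groth.Prelude.Def_W4c5etcohweilstudentAS
import Groth.Agent.Lib.Helper8EtZarNat
import Groth.Agent.Lib.Helper8EtGaZar
import Groth.Agent.Lib.Helper8ASKernel

/-!
# The module structure on `H^q(X_ét, G_a)` and its comparison with `H^q(X, O_X)` (helper8)
-/

set_option autoImplicit false
universe u
open CategoryTheory CategoryTheory.Limits TopologicalSpace Opposite AlgebraicGeometry Abelian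

namespace Groth.Agent.Lib.Helper8GaLin
open Groth.Agent.Lib.Helper8TopULift Groth.Agent.Lib.Helper8ZarULift
  Groth.Agent.Lib.Helper8EtGaZar Groth.Agent.Lib.Helper8EtZarNat Groth.Agent.Lib.Helper8ASKernel

variable (X : Scheme.{u})

/-- pulling a global function back to an étale `X`-scheme -/
noncomputable def resU (U : X.Etale) : Γ(X, ⊤) →+* Γ(U.left, ⊤) :=
  (Scheme.Hom.appTop (X := U.left) (Y := X) U.hom).hom

lemma resU_comp {U V : X.Etale} (g : V ⟶ U) (r : Γ(X, ⊤)) :
    g.left.appTop.hom (resU X U r) = resU X V r := by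
  have h : g.left ≫ U.hom = V.hom := Over.w g.hom
  have h2 : (Scheme.Hom.appTop (X := V.left) (Y := X) (g.left ≫ U.hom)).hom r = resU X V r := by
    rw [h]; rfl
  rw [← h2, Scheme.Hom.comp_appTop]
  rfl

/-- multiplication by a global function on `G_a` -/
noncomputable def gaSmul (r : Γ(X, ⊤)) : EtCoh.Ga X ⟶ EtCoh.Ga X :=
  ⟨{ app := fun U => AddCommGrpCat.uliftFunctor.{u + 1}.map
        (AddCommGrpCat.ofHom (AddMonoidHom.mulLeft (resU X U.unop r)))
     naturality := by
       intro U V g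
       ext ⟨x⟩
       apply congrArg ULift.up
       change resU X V.unop r * g.unop.left.appTop.hom (show Γ(U.unop.left, ⊤) from x) =
         g.unop.left.appTop.hom (resU X U.unop r * (show Γ(U.unop.left, ⊤) from x))
       rw [map_mul, resU_comp] }⟩

lemma valA_gaSmul (r : Γ(X, ⊤)) (U : X.Etale) (x : (EtCoh.Ga X).obj.obj (op U)) :
    valA X U ((gaSmul X r).hom.app (op U) x) = resU X U r * valA X U x := rfl

lemma valA_injective (U : X.Etale) : Function.Injective (valA X U) := fun _ _ h =>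
  congrArg (mkA X U) h

lemma valA_add (U : X.Etale) (x y : (EtCoh.Ga X).obj.obj (op U)) :
    valA X U (x + y) = valA X U x + valA X U y := rfl

theorem gaSmul_one : gaSmul X 1 = 𝟙 _ := by
  ext U x
  apply valA_injective
  rw [valA_gaSmul, map_one, one_mul]
  rfl

theorem gaSmul_mul (r s : Γ(X, ⊤)) : gaSmul X (r * s) = gaSmul X s ≫ gaSmul X r := by
  ext U x
  apply valA_injective
  change _ = valA X U.unop ((gaSmul X r).hom.app U ((gaSmul X s).hom.app U x))
  rw [valA_gaSmul, valA_gaSmul, valA_gaSmul, map_mul, mul_assoc]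

theorem gaSmul_add (r s : Γ(X, ⊤)) : gaSmul X (r + s) = gaSmul X r + gaSmul X s := by
  ext U x
  apply valA_injective
  change _ = valA X U.unop ((gaSmul X r).hom.app U x + (gaSmul X s).hom.app U x)
  rw [valA_add, valA_gaSmul, valA_gaSmul, valA_gaSmul, map_add, add_mul]

theorem gaSmul_zero : gaSmul X 0 = 0 := by
  ext U x
  apply valA_injective
  rw [valA_gaSmul, map_zero, zero_mul]
  rfl

/-- `H^q(X_ét, G_a)` is a module over the global functions -/
@[reducible] noncomputable def moduleGa (q : ℕ) : Module Γ(X, ⊤) (EtCoh.H X (EtCoh.Ga X) q) where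
  smul r x := Sheaf.H.map (gaSmul X r) q x
  one_smul x := by
    change Sheaf.H.map (gaSmul X 1) q x = x
    rw [gaSmul_one, Sheaf.H.map_id_apply]
  mul_smul r s x := by
    change Sheaf.H.map (gaSmul X (r * s)) q x =
      Sheaf.H.map (gaSmul X r) q (Sheaf.H.map (gaSmul X s) q x)
    rw [gaSmul_mul, Sheaf.H.map_comp_apply]
  smul_zero r := by
    change Sheaf.H.map (gaSmul X r) q 0 = 0
    rw [map_zero]
  smul_add r x y := by
    change Sheaf.H.map (gaSmul X r) q (x + y) =
      Sheaf.H.map (gaSmul X r) q x + Sheaf.H.map (gaSmul X r) q y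
    rw [map_add]
  add_smul r s x := by
    change Sheaf.H.map (gaSmul X (r + s)) q x =
      Sheaf.H.map (gaSmul X r) q x + Sheaf.H.map (gaSmul X s) q x
    rw [gaSmul_add, Sheaf.H.map_add_apply]
  zero_smul x := by
    change Sheaf.H.map (gaSmul X 0) q x = 0
    rw [gaSmul_zero]
    change ((Sheaf.functorH _ q).map (0 : EtCoh.Ga X ⟶ EtCoh.Ga X)).hom x = 0
    rw [Functor.map_zero]
    rfl


section Compare

lemma topIso_ι_appTop (U : X.Opens) (r : Γ(X, ⊤)) :
    U.topIso.hom.hom (U.ι.appTop.hom r) = (X.presheaf.map (homOfLE (le_top : U ≤ ⊤)).op).hom r := by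
  change (X.presheaf.map _ ≫ X.presheaf.map _).hom r = _
  rw [← Functor.map_comp]
  rfl

variable [EtZar.ZarCont X]

omit [EtZar.ZarCont X] in
theorem extVanish_Ga :
    Groth.Agent.Lib.Helper8EtLocVanish.ExtVanish (AffOpen X) (EtCoh.Ga X) := by
  rintro T ⟨W, hW, rfl⟩ i
  exact Groth.Agent.Lib.Helper8EtZarAcyc.subsingleton_ext_Zh ((EtZar.zarToEt X).obj W)
    (EtCoh.Ga X) (i + 1) (subsingleton_H_pull_Ga X ((EtZar.zarToEt X).obj W) (show IsAffine (↑W : Scheme.{u}) from hW) (i + 1) (by omega))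

theorem resZarGaIso_smul (r : Γ(X, ⊤)) :
    (EtZar.resZar X).map (gaSmul X r) ≫ (resZarGaIso X).hom =
      (resZarGaIso X).hom ≫ (L X.carrier).map (Coh.smulAb (Coh.structureModule X) r) := by
  apply (sheafToPresheaf _ _).map_injective
  ext U x
  apply ULift.down_injective
  change (Scheme.Opens.topIso U.unop).hom.hom ((Scheme.Opens.ι U.unop).appTop.hom r *
      (show Γ(↑U.unop, ⊤) from x.down)) =
    (X.presheaf.map (homOfLE (le_top : U.unop ≤ ⊤)).op).hom r *
      (Scheme.Opens.topIso U.unop).hom.hom (show Γ(↑U.unop, ⊤) from x.down)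
  rw [map_mul, topIso_ι_appTop]

/-- naturality of `Helper16.ExtCompare.cmp` -/
theorem cmp_naturality {𝒞 : Type*} [Category 𝒞] [Abelian 𝒞] [EnoughInjectives 𝒞]
    [HasExt.{u} 𝒞] {𝒟 : Type*} [Category 𝒟] [Abelian 𝒟] [HasExt.{u + 1} 𝒟]
    (R : 𝒞 ⥤ 𝒟) [R.Additive] [PreservesFiniteLimits R] [PreservesFiniteColimits R]
    {A : 𝒞} {B : 𝒟} (w : B ⟶ R.obj A) {F G : 𝒞} (a : F ⟶ G) (n : ℕ) (x : Ext.{u} A F n) :
    Groth.Agent.Lib.Helper16.ExtCompare.cmp R w G n (x.comp (Ext.mk₀ a) (add_zero n)) =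
      (Groth.Agent.Lib.Helper16.ExtCompare.cmp R w F n x).comp (Ext.mk₀ (R.map a))
        (add_zero n) := by
  rw [Groth.Agent.Lib.Helper16.ExtCompare.cmp_apply, Groth.Agent.Lib.Helper16.ExtCompare.cmp_apply,
    Ext.mapExactFunctor_comp, Ext.mapExactFunctor_mk₀, Ext.comp_assoc_of_third_deg_zero]

/-- first step: étale to Zariski -/
noncomputable def ga1 (p : ℕ) :
    EtZar.H ((EtZar.resZar X).obj (EtCoh.Ga X)) p ≃+ EtCoh.H X (EtCoh.Ga X) p :=
  AddEquiv.ofBijective (cmpZ X (EtCoh.Ga X) p) (cmpZ_bijective X p _ (extVanish_Ga X))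

/-- second step: `G_a` on the Zariski site is the structure sheaf -/
noncomputable def ga2 (p : ℕ) :
    EtZar.H ((EtZar.resZar X).obj (EtCoh.Ga X)) p ≃+
      EtZar.H ((L X.carrier).obj (Coh.toAb (Coh.structureModule X))) p :=
  ((Sheaf.functorH (Opens.grothendieckTopology X) p).mapIso
    (resZarGaIso X)).addCommGroupIsoToAddEquiv

/-- third step: universe lifting -/
noncomputable def ga3 (p : ℕ) :
    Coh.HH X (Coh.structureModule X) p ≃+
      EtZar.H ((L X.carrier).obj (Coh.toAb (Coh.structureModule X))) p :=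
  AddEquiv.ofBijective (Groth.Agent.Lib.Helper16.ExtCompare.cmp (L X.carrier) (wZ X.carrier)
      (Coh.toAb (Coh.structureModule X)) p)
    (Groth.Agent.Lib.Helper16.ExtCompare.cmp_bijective (L X.carrier) (wZ X.carrier)
      (h0 X.carrier) (fun I _ n => heff X.carrier I n) p _)

/-- the comparison `H^p(X_ét, G_a) ≃ H^p(X, O_X)` -/
noncomputable def gaEquiv (p : ℕ) :
    EtCoh.H X (EtCoh.Ga X) p ≃+ Coh.HH X (Coh.structureModule X) p :=
  (ga1 X p).symm.trans ((ga2 X p).trans (ga3 X p).symm)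

theorem ga1_smul (p : ℕ) (r : Γ(X, ⊤)) (v : EtCoh.H X (EtCoh.Ga X) p) :
    (ga1 X p).symm (Sheaf.H.map (gaSmul X r) p v) =
      Sheaf.H.map ((EtZar.resZar X).map (gaSmul X r)) p ((ga1 X p).symm v) := by
  rw [AddEquiv.symm_apply_eq]
  change _ = cmpZ X _ p _
  rw [cmpZ_naturality]
  change _ = Sheaf.H.map (gaSmul X r) p ((ga1 X p) ((ga1 X p).symm v))
  rw [AddEquiv.apply_symm_apply]

theorem ga2_smul (p : ℕ) (r : Γ(X, ⊤)) (y : EtZar.H ((EtZar.resZar X).obj (EtCoh.Ga X)) p) :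
    ga2 X p (Sheaf.H.map ((EtZar.resZar X).map (gaSmul X r)) p y) =
      Sheaf.H.map ((L X.carrier).map (Coh.smulAb (Coh.structureModule X) r)) p (ga2 X p y) := by
  change Sheaf.H.map (resZarGaIso X).hom p (Sheaf.H.map ((EtZar.resZar X).map (gaSmul X r)) p y) =
    Sheaf.H.map ((L X.carrier).map (Coh.smulAb (Coh.structureModule X) r)) p
      (Sheaf.H.map (resZarGaIso X).hom p y)
  rw [← Sheaf.H.map_comp_apply, ← Sheaf.H.map_comp_apply, resZarGaIso_smul]

omit [EtZar.ZarCont X] in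
theorem ga3_smul (p : ℕ) (r : Γ(X, ⊤))
    (z : EtZar.H ((L X.carrier).obj (Coh.toAb (Coh.structureModule X))) p) :
    (ga3 X p).symm
        (Sheaf.H.map ((L X.carrier).map (Coh.smulAb (Coh.structureModule X) r)) p z) =
      Sheaf.H.map (Coh.smulAb (Coh.structureModule X) r) p ((ga3 X p).symm z) := by
  rw [AddEquiv.symm_apply_eq]
  change _ = Groth.Agent.Lib.Helper16.ExtCompare.cmp (L X.carrier) (wZ X.carrier) _ p
    (((ga3 X p).symm z).comp (Ext.mk₀ (Coh.smulAb (Coh.structureModule X) r)) (add_zero p))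
  rw [cmp_naturality]
  change _ = Sheaf.H.map ((L X.carrier).map (Coh.smulAb (Coh.structureModule X) r)) p
    ((ga3 X p) ((ga3 X p).symm z))
  rw [AddEquiv.apply_symm_apply]

theorem gaEquiv_smul (p : ℕ) (r : Γ(X, ⊤)) (v : EtCoh.H X (EtCoh.Ga X) p) :
    gaEquiv X p (Sheaf.H.map (gaSmul X r) p v) =
      Sheaf.H.map (Coh.smulAb (Coh.structureModule X) r) p (gaEquiv X p v) := by
  change (ga3 X p).symm (ga2 X p ((ga1 X p).symm _)) = _
  rw [ga1_smul, ga2_smul, ga3_smul]
  rfl

end Compare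

end Groth.Agent.Lib.Helper8GaLin
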