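import Mathlib
import Groth.Agent.Lib.H6xFrobRing

/-!
# `p`-linear endomorphisms of finite-dimensional vector spaces over a separably closed field (helper8)

For `k` separably closed of characteristic `p`, `V` finite-dimensional and `F : V → V` additive with
`F (a • v) = a ^ p • F v`: the map `F - 1` is surjective and has a finite kernel of cardinality at
most `p ^ dim V`.
-/

set_option autoImplicit false
universe u v
open Module

namespace Groth.Agent.Lib.Helper8PLinear

theorem isSepClosed_of_ringEquiv {K K' : Type*} [Field K] [Field K'] [IsSepClosed K]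
    (e : K ≃+* K') : IsSepClosed K' := by
  refine ⟨fun p hp => ?_⟩
  have h1 : (p.map (e.symm : K' →+* K)).Separable := hp.map
  have h2 := IsSepClosed.splits_of_separable _ h1
  have h3 := h2.map (e : K →+* K')
  rw [Polynomial.map_map] at h3
  have h4 : (e : K →+* K').comp (e.symm : K' →+* K) = RingHom.id K' := by
    ext x; simp
  rwa [h4, Polynomial.map_id] at h3

theorem isSepClosed_residueField (K : Type u) [Field K] [IsSepClosed K] :
    IsSepClosed (IsLocalRing.ResidueField K) :=
  isSepClosed_of_ringEquiv (RingEquiv.ofBijective (IsLocalRing.residue K)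
    ⟨RingHom.injective _, IsLocalRing.residue_surjective⟩)

variable {k : Type u} [Field k] (p : ℕ) {V : Type v} [AddCommGroup V] [Module k V]
  (F : V →+ V) (hF : ∀ (a : k) (v : V), F (a • v) = a ^ p • F v)

/-- the span of the image of the `i`-th iterate -/
def W (i : ℕ) : Submodule k V := Submodule.span k (Set.range (⇑F)^[i])

include hF in
lemma map_W (i : ℕ) {x : V} (hx : x ∈ W (k := k) F i) : F x ∈ W (k := k) F (i + 1) := by
  induction hx using Submodule.span_induction with
  | mem x hx =>
    obtain ⟨v, rfl⟩ := hx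
    apply Submodule.subset_span
    exact ⟨v, Function.iterate_succ_apply' _ _ _⟩
  | zero => rw [map_zero]; exact Submodule.zero_mem _
  | add x y _ _ hx hy => rw [map_add]; exact Submodule.add_mem _ hx hy
  | smul a x _ hx => rw [hF]; exact Submodule.smul_mem _ _ hx

lemma W_succ_le (i : ℕ) : W (k := k) F (i + 1) ≤ W (k := k) F i := by
  apply Submodule.span_mono
  rintro _ ⟨v, rfl⟩
  exact ⟨F v, (Function.iterate_succ_apply _ _ _).symm⟩

lemma W_antitone : Antitone (W (k := k) F) := antitone_nat_of_succ_le (W_succ_le F)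

lemma iterate_mem_W (i : ℕ) (v : V) : (⇑F)^[i] v ∈ W (k := k) F i :=
  Submodule.subset_span ⟨v, rfl⟩

lemma telescope (N : ℕ) (v : V) :
    F (-(∑ i ∈ Finset.range N, (⇑F)^[i] v)) - (-(∑ i ∈ Finset.range N, (⇑F)^[i] v)) =
      v - (⇑F)^[N] v := by
  rw [map_neg, map_sum]
  have h : ∑ i ∈ Finset.range N, F ((⇑F)^[i] v) = ∑ i ∈ Finset.range N, (⇑F)^[i + 1] v :=
    Finset.sum_congr rfl (fun i _ => (Function.iterate_succ_apply' _ _ _).symm)
  rw [h]
  have h2 := Finset.sum_range_sub (fun i => (⇑F)^[i] v) N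
  simp only [Function.iterate_zero, id_eq, Finset.sum_sub_distrib] at h2
  rw [sub_neg_eq_add, neg_add_eq_sub, ← neg_sub, h2, neg_sub]

lemma fixed_mem_W {v : V} (hv : F v = v) (N : ℕ) : v ∈ W (k := k) F N := by
  have : (⇑F)^[N] v = v := Function.iterate_fixed hv N
  rw [← this]
  exact iterate_mem_W F N v

include hF in
/-- **`F - 1` is surjective with finite kernel of order at most `p ^ dim V`.** -/
theorem main [IsSepClosed k] [Fact p.Prime] [CharP k p] [FiniteDimensional k V] :
    Function.Surjective (fun v => F v - v) ∧ Finite {v : V // F v = v} ∧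
      Nat.card {v : V // F v = v} ≤ p ^ Module.finrank k V := by
  classical
  -- stabilization
  obtain ⟨N, hN⟩ := IsArtinian.monotone_stabilizes
    (⟨fun i => OrderDual.toDual (W (k := k) F i), fun i j hij => W_antitone F hij⟩ :
      ℕ →o (Submodule k V)ᵒᵈ)
  have hN1 : W (k := k) F (N + 1) = W (k := k) F N := (hN (N + 1) (Nat.le_succ N)).symm
  set W₀ : Submodule k V := W (k := k) F N with hW₀
  have hmap : ∀ x ∈ W₀, F x ∈ W₀ := fun x hx => hN1 ▸ map_W p F hF N hx
  -- the restriction
  let T : W₀ →+ W₀ :=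
    { toFun := fun w => ⟨F w.1, hmap w.1 w.2⟩
      map_zero' := Subtype.ext (map_zero F)
      map_add' := fun a b => Subtype.ext (map_add F a.1 b.1) }
  have hT : ∀ (r : k) (m : W₀), T (r • m) = r ^ p • T m := fun r m => Subtype.ext (hF r m.1)
  have hspan : Submodule.span k (Set.range T) = ⊤ := by
    rw [eq_top_iff]
    rintro ⟨w, hw⟩ -
    have hw' : w ∈ W (k := k) F (N + 1) := hN1.symm ▸ hw
    have key : ∀ y ∈ W (k := k) F (N + 1), ∀ hy : y ∈ W₀,
        (⟨y, hy⟩ : W₀) ∈ Submodule.span k (Set.range T) := by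
      intro y hy
      induction hy using Submodule.span_induction with
      | mem x hx =>
        intro hy
        obtain ⟨v, rfl⟩ := hx
        apply Submodule.subset_span
        refine ⟨⟨(⇑F)^[N] v, iterate_mem_W F N v⟩, Subtype.ext ?_⟩
        exact (Function.iterate_succ_apply' _ _ _).symm
      | zero => intro hy; exact Submodule.zero_mem _
      | add x y hx' hy' hx hy =>
        intro hxy
        have hx0 : x ∈ W₀ := hN1 ▸ hx'
        have hy0 : y ∈ W₀ := hN1 ▸ hy'
        exact Submodule.add_mem _ (hx hx0) (hy hy0)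
      | smul a x hx' hx =>
        intro hax
        have hx0 : x ∈ W₀ := hN1 ▸ hx'
        exact Submodule.smul_mem _ a (hx hx0)
    exact key w hw' hw
  haveI := isSepClosed_residueField k
  obtain ⟨hsurj, hcard⟩ := Groth.Agent.Lib.H6xFrob.main_ring p T hT hspan
  refine ⟨?_, ?_⟩
  · intro v
    obtain ⟨w, hw⟩ := hsurj ⟨(⇑F)^[N] v, iterate_mem_W F N v⟩
    have hw' : F w.1 - w.1 = (⇑F)^[N] v := congrArg Subtype.val hw
    refine ⟨-(∑ i ∈ Finset.range N, (⇑F)^[i] v) + w.1, ?_⟩
    change F (-(∑ i ∈ Finset.range N, (⇑F)^[i] v) + w.1) -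
      (-(∑ i ∈ Finset.range N, (⇑F)^[i] v) + w.1) = v
    rw [map_add, add_sub_add_comm, telescope, hw', sub_add_cancel]
  · let e : {m : W₀ // T m = m} ≃ {v : V // F v = v} :=
      { toFun := fun m => ⟨m.1.1, congrArg Subtype.val m.2⟩
        invFun := fun v => ⟨⟨v.1, fixed_mem_W F v.2 N⟩, Subtype.ext v.2⟩
        left_inv := fun m => rfl
        right_inv := fun v => rfl }
    have hpos : Nat.card {m : W₀ // T m = m} ≠ 0 := by
      rw [hcard]
      exact pow_ne_zero _ (Fact.out : p.Prime).ne_zero
    haveI : Finite {m : W₀ // T m = m} := Nat.finite_of_card_ne_zero hpos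
    refine ⟨Finite.of_equiv _ e, ?_⟩
    rw [← Nat.card_congr e, hcard]
    exact Nat.pow_le_pow_right (Fact.out : p.Prime).pos (Submodule.finrank_le W₀)

end Groth.Agent.Lib.Helper8PLinear
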