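import Mathlib
import Groth.Agent.Lib.Helper8GaLin
import Groth.Agent.Lib.Helper8PLinear
import Groth.Agent.Lib.Helper8ZarCont
import Groth.Agent.Lib.Helper23Serre
import Groth.Agent.Lib.R2H2PnFinite
import Groth.Agent.S0002

/-!
# Artin–Schreier on the cohomology of a proper scheme over a separably closed field (helper8)
-/

set_option autoImplicit false
universe u
open CategoryTheory CategoryTheory.Limits TopologicalSpace Opposite AlgebraicGeometry Abelian

namespace Groth.Agent.Lib.Helper8GaFrob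
open Groth.Agent.Lib.Helper8GaLin Groth.Agent.Lib.Helper8ASKernel

section Frob

variable (X : Scheme.{u}) (p : ℕ) (hp : p.Prime) (h0 : (p : Γ(X, ⊤)) = 0)

/-- the Frobenius endomorphism of `G_a` -/
noncomputable def frob : EtCoh.Ga X ⟶ EtCoh.Ga X := AS X p hp h0 + 𝟙 _

lemma valA_frob (U : X.Etale) (x : (EtCoh.Ga X).obj.obj (op U)) :
    valA X U ((frob X p hp h0).hom.app (op U) x) = (valA X U x) ^ p := by
  change valA X U ((AS X p hp h0).hom.app (op U) x + x) = _
  rw [valA_add, valA_AS, sub_add_cancel]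

theorem gaSmul_frob (r : Γ(X, ⊤)) :
    gaSmul X r ≫ frob X p hp h0 = frob X p hp h0 ≫ gaSmul X (r ^ p) := by
  ext U x
  apply valA_injective
  change valA X U.unop ((frob X p hp h0).hom.app U ((gaSmul X r).hom.app U x)) =
    valA X U.unop ((gaSmul X (r ^ p)).hom.app U ((frob X p hp h0).hom.app U x))
  rw [valA_frob, valA_gaSmul, valA_gaSmul, valA_frob, map_pow, mul_pow]

/-- Frobenius on cohomology -/
noncomputable def frobH (q : ℕ) : EtCoh.H X (EtCoh.Ga X) q →+ EtCoh.H X (EtCoh.Ga X) q :=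
  Sheaf.H.map (frob X p hp h0) q

lemma frobH_smul (q : ℕ) (r : Γ(X, ⊤)) (v : EtCoh.H X (EtCoh.Ga X) q) :
    frobH X p hp h0 q (Sheaf.H.map (gaSmul X r) q v) =
      Sheaf.H.map (gaSmul X (r ^ p)) q (frobH X p hp h0 q v) := by
  change Sheaf.H.map (frob X p hp h0) q (Sheaf.H.map (gaSmul X r) q v) =
    Sheaf.H.map (gaSmul X (r ^ p)) q (Sheaf.H.map (frob X p hp h0) q v)
  rw [← Sheaf.H.map_comp_apply, ← Sheaf.H.map_comp_apply, gaSmul_frob]

lemma map_AS_eq (q : ℕ) (v : EtCoh.H X (EtCoh.Ga X) q) :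
    Sheaf.H.map (AS X p hp h0) q v = frobH X p hp h0 q v - v := by
  change _ = Sheaf.H.map (AS X p hp h0 + 𝟙 _) q v - v
  rw [Sheaf.H.map_add_apply, Sheaf.H.map_id_apply, add_sub_cancel_right]

end Frob

section OverField

variable (X : Scheme.{u}) (k : Type u) [Field k] [X.Over (Spec (CommRingCat.of k))]

/-- the structure map on global functions -/
noncomputable abbrev tg : k →+* Γ(X, ⊤) := Coh.toGlobal (X ↘ Spec (CommRingCat.of k))

/-- the `k`-vector space structure on `H^q(X_ét, G_a)` -/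
@[reducible] noncomputable def moduleGaOver (q : ℕ) : Module k (EtCoh.H X (EtCoh.Ga X) q) :=
  letI : Module Γ(X, ⊤) (EtCoh.H X (EtCoh.Ga X) q) := moduleGa X q
  Module.compHom _ (tg X k)

lemma smul_def (q : ℕ) (c : k) (v : EtCoh.H X (EtCoh.Ga X) q) :
    letI := moduleGaOver X k q
    c • v = Sheaf.H.map (gaSmul X (tg X k c)) q v := rfl

/-- the `k`-linear comparison -/
noncomputable def gaLinEquiv [EtZar.ZarCont X] (q : ℕ) :
    letI := moduleGaOver X k q
    EtCoh.H X (EtCoh.Ga X) q ≃ₗ[k] Coh.HH X (Coh.structureModule X) q :=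
  letI := moduleGaOver X k q
  { gaEquiv X q with
    map_smul' := fun c v => gaEquiv_smul X q (tg X k c) v }

theorem finite_H_Ga [IsProper (X ↘ Spec (CommRingCat.of k))] (q : ℕ) :
    letI := moduleGaOver X k q
    Module.Finite k (EtCoh.H X (EtCoh.Ga X) q) := by
  haveI : EtZar.ZarCont X := Groth.Agent.Lib.Helper8ZarCont.zarCont X
  letI := moduleGaOver X k q
  haveI : Module.Finite k (Coh.HH X (Coh.structureModule X) q) :=
    Groth.Agent.S0002.result k X _
      ⟨Groth.Agent.Lib.Helper23.Serre.isQuasicoherent_structureModule' X,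
        Groth.Agent.Lib.R2H2.PnFinite.isFiniteType_structureModule X⟩ q
  exact Module.Finite.equiv (gaLinEquiv X k q).symm

theorem finrank_H_Ga (q : ℕ) :
    letI := moduleGaOver X k q
    Module.finrank k (EtCoh.H X (EtCoh.Ga X) q) =
      Module.finrank k (Coh.HH X (Coh.structureModule X) q) := by
  haveI : EtZar.ZarCont X := Groth.Agent.Lib.Helper8ZarCont.zarCont X
  letI := moduleGaOver X k q
  exact LinearEquiv.finrank_eq (gaLinEquiv X k q)

lemma h0_of_charP (p : ℕ) [CharP k p] : (p : Γ(X, ⊤)) = 0 := by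
  rw [← map_natCast (tg X k) p, CharP.cast_eq_zero k p, map_zero]

variable (p : ℕ) [hp : Fact p.Prime] [CharP k p]

/-- **Artin–Schreier on `H^q(X_ét, G_a)`**: surjective with finite kernel of order at most
`p ^ h^q(O_X)`. -/
theorem AS_main [IsSepClosed k] [IsProper (X ↘ Spec (CommRingCat.of k))]
    (h0 : (p : Γ(X, ⊤)) = 0) (q : ℕ) :
    Function.Surjective (Sheaf.H.map (AS X p hp.out h0) q) ∧
      Finite {v : EtCoh.H X (EtCoh.Ga X) q // Sheaf.H.map (AS X p hp.out h0) q v = 0} ∧
      Nat.card {v : EtCoh.H X (EtCoh.Ga X) q // Sheaf.H.map (AS X p hp.out h0) q v = 0} ≤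
        p ^ Module.finrank k (Coh.HH X (Coh.structureModule X) q) := by
  letI := moduleGaOver X k q
  haveI := finite_H_Ga X k q
  have hF : ∀ (a : k) (v : EtCoh.H X (EtCoh.Ga X) q),
      frobH X p hp.out h0 q (a • v) = a ^ p • frobH X p hp.out h0 q v := by
    intro a v
    rw [smul_def, smul_def, frobH_smul, map_pow]
  obtain ⟨h1, h2, h3⟩ := Groth.Agent.Lib.Helper8PLinear.main p (frobH X p hp.out h0 q) hF
  have hfun : (fun v => frobH X p hp.out h0 q v - v) = Sheaf.H.map (AS X p hp.out h0) q := by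
    funext v
    exact (map_AS_eq X p hp.out h0 q v).symm
  let e : {v : EtCoh.H X (EtCoh.Ga X) q // Sheaf.H.map (AS X p hp.out h0) q v = 0} ≃
      {v : EtCoh.H X (EtCoh.Ga X) q // frobH X p hp.out h0 q v = v} :=
    Equiv.subtypeEquivRight (fun v => by rw [map_AS_eq, sub_eq_zero])
  refine ⟨hfun ▸ h1, Finite.of_equiv _ e.symm, ?_⟩
  rw [Nat.card_congr e, ← finrank_H_Ga X k q]
  exact h3

end OverField

end Groth.Agent.Lib.Helper8GaFrob
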