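import Mathlib
import Groth.Agent.Lib.Helper8GaFrob

/-!
# `H^i(X_ét, ℤ/p)` for `X` proper over a separably closed field of characteristic `p` (helper8)
-/

set_option autoImplicit false
universe u
open CategoryTheory CategoryTheory.Limits TopologicalSpace Opposite AlgebraicGeometry Abelian

namespace Groth.Agent.Lib.Helper8ASProper
open Groth.Agent.Lib.Helper8GaLin Groth.Agent.Lib.Helper8ASKernel Groth.Agent.Lib.Helper8GaFrob

variable (X : Scheme.{u}) (k : Type u) [Field k] [X.Over (Spec (CommRingCat.of k))]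
  (p : ℕ) [hp : Fact p.Prime] [CharP k p]

lemma H_map_zero {F G : EtCoh.Ab X} (i : ℕ) (x : EtCoh.H X F i) :
    Sheaf.H.map (0 : F ⟶ G) i x = 0 := by
  rw [Sheaf.H.map_apply, Ext.mk₀_zero, Ext.comp_zero]

lemma comp_g_extClass {𝒟 : Type*} [Category 𝒟] [Abelian 𝒟] [HasExt.{u + 1} 𝒟]
    {S : ShortComplex 𝒟} (hS : S.ShortExact) {A : 𝒟} {n : ℕ} (x₂ : Ext.{u + 1} A S.X₂ n) :
    (x₂.comp (Ext.mk₀ S.g) (add_zero n)).comp hS.extClass rfl = 0 := by
  rw [Ext.comp_assoc _ _ _ (add_zero n) (zero_add 1) (by omega), hS.comp_extClass,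
    Ext.comp_zero]

theorem injective_Kι [IsSepClosed k] [IsProper (X ↘ Spec (CommRingCat.of k))]
    (h0 : (p : Γ(X, ⊤)) = 0) (i : ℕ) :
    Function.Injective (Sheaf.H.map (Kι X p hp.out h0) i) := by
  have hS : (asSC hp.out h0).ShortExact := asSC_shortExact hp.out h0
  rw [injective_iff_map_eq_zero]
  intro x hx
  rw [Sheaf.H.map_apply] at hx
  cases i with
  | zero =>
    obtain ⟨φ, rfl⟩ := (Ext.mk₀_bijective _ _).2 x
    rw [Ext.mk₀_comp_mk₀] at hx
    have h1 : φ ≫ Kι X p hp.out h0 = 0 := by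
      apply (Ext.mk₀_bijective _ _).1
      rw [hx, Ext.mk₀_zero]
    have h2 : φ = 0 := by
      rw [← cancel_mono (Kι X p hp.out h0), h1, zero_comp]
    rw [h2, Ext.mk₀_zero]
  | succ n =>
    obtain ⟨x₃, hx₃⟩ := Ext.covariant_sequence_exact₁ _ hS x hx rfl
    obtain ⟨x₂, hx₂⟩ := (AS_main X k p h0 n).1 x₃
    rw [Sheaf.H.map_apply] at hx₂
    rw [← hx₃, ← hx₂]
    exact comp_g_extClass hS x₂

/-- **finiteness and order bound for `H^i(X_ét, ℤ/p)`** -/
theorem finite_card_H_const [IsSepClosed k] [IsProper (X ↘ Spec (CommRingCat.of k))] (i : ℕ) :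
    Finite (EtCoh.H X (EtCoh.const X (ZMod p)) i) ∧
      Nat.card (EtCoh.H X (EtCoh.const X (ZMod p)) i) ≤
        p ^ Module.finrank k (Coh.HH X (Coh.structureModule X) i) := by
  have h0 := h0_of_charP X k p
  obtain ⟨-, hfin, hcard⟩ := AS_main X k p h0 i
  have hS : (asSC hp.out h0).ShortExact := asSC_shortExact hp.out h0
  have hker : ∀ x : EtCoh.H X (K X p hp.out h0) i,
      Sheaf.H.map (AS X p hp.out h0) i (Sheaf.H.map (Kι X p hp.out h0) i x) = 0 := by
    intro x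
    rw [← Sheaf.H.map_comp_apply]
    have : Kι X p hp.out h0 ≫ AS X p hp.out h0 = 0 := kernel.condition _
    rw [this, H_map_zero]
  let g : EtCoh.H X (K X p hp.out h0) i →
      {v : EtCoh.H X (EtCoh.Ga X) i // Sheaf.H.map (AS X p hp.out h0) i v = 0} :=
    fun x => ⟨Sheaf.H.map (Kι X p hp.out h0) i x, hker x⟩
  have hg : Function.Bijective g := by
    constructor
    · intro a b hab
      exact injective_Kι X k p h0 i (congrArg Subtype.val hab)
    · rintro ⟨v, hv⟩
      rw [Sheaf.H.map_apply] at hv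
      obtain ⟨x₁, hx₁⟩ := Ext.covariant_sequence_exact₂ _ hS v hv
      exact ⟨x₁, Subtype.ext hx₁⟩
  let e : EtCoh.H X (EtCoh.const X (ZMod p)) i ≃
      {v : EtCoh.H X (EtCoh.Ga X) i // Sheaf.H.map (AS X p hp.out h0) i v = 0} :=
    (((EtCoh.HF X i).mapIso (constIsoK hp.out h0)).addCommGroupIsoToAddEquiv.toEquiv).trans
      (Equiv.ofBijective g hg)
  refine ⟨Finite.of_equiv _ e.symm, ?_⟩
  rw [Nat.card_congr e]
  exact hcard

end Groth.Agent.Lib.Helper8ASProper
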