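import Mathlib

/-!
# Recognising coproducts of abelian groups (helper8)

`nonempty_iso_sigma`: an abelian group `S` with maps `c i : S ⟶ Z i` which are jointly injective,
have finite support on every element and admit "delta" preimages is the coproduct of the `Z i`.
-/

set_option autoImplicit false
universe v w

open CategoryTheory CategoryTheory.Limits

namespace Groth.Agent.Lib.Helper8AbCoprod

variable {ι : Type w} (Z : ι → AddCommGrpCat.{v}) (S : AddCommGrpCat.{v}) (c : ∀ i, S ⟶ Z i)

section

variable (hinj : ∀ x : S, (∀ i, c i x = 0) → x = 0)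
  (hsurj : ∀ i (t : Z i), ∃ x : S, c i x = t ∧ ∀ j, j ≠ i → c j x = 0)

/-- the delta section -/
noncomputable def phiFun (i : ι) (t : Z i) : S := (hsurj i t).choose

theorem c_phiFun_self (i : ι) (t : Z i) : c i (phiFun Z S c hsurj i t) = t :=
  (hsurj i t).choose_spec.1

theorem c_phiFun_ne (i : ι) (t : Z i) (j : ι) (h : j ≠ i) : c j (phiFun Z S c hsurj i t) = 0 :=
  (hsurj i t).choose_spec.2 j h

include hinj in
theorem phiFun_unique (i : ι) (t : Z i) (x : S) (h1 : c i x = t) (h2 : ∀ j, j ≠ i → c j x = 0) :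
    x = phiFun Z S c hsurj i t := by
  rw [← sub_eq_zero]
  apply hinj
  intro j
  rw [map_sub]
  by_cases h : j = i
  · subst h
    rw [h1, c_phiFun_self, sub_self]
  · rw [h2 j h, c_phiFun_ne Z S c hsurj i t j h, sub_self]

/-- the delta section as a homomorphism -/
noncomputable def phi (i : ι) : Z i ⟶ S :=
  AddCommGrpCat.ofHom
    { toFun := phiFun Z S c hsurj i
      map_zero' := by
        symm
        apply phiFun_unique Z S c hinj hsurj
        · rw [map_zero]
        · intro j _; rw [map_zero]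
      map_add' := by
        intro a b
        symm
        apply phiFun_unique Z S c hinj hsurj
        · rw [map_add, c_phiFun_self, c_phiFun_self]
        · intro j hj
          rw [map_add, c_phiFun_ne Z S c hsurj i a j hj, c_phiFun_ne Z S c hsurj i b j hj, add_zero] }

theorem c_phi_self (i : ι) (t : Z i) : c i (phi Z S c hinj hsurj i t) = t :=
  c_phiFun_self Z S c hsurj i t

theorem c_phi_ne (i : ι) (t : Z i) (j : ι) (h : j ≠ i) : c j (phi Z S c hinj hsurj i t) = 0 :=
  c_phiFun_ne Z S c hsurj i t j h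

end

theorem nonempty_iso_sigma [HasCoproduct Z]
    (hfin : ∀ x : S, {i | c i x ≠ 0}.Finite)
    (hinj : ∀ x : S, (∀ i, c i x = 0) → x = 0)
    (hsurj : ∀ i (t : Z i), ∃ x : S, c i x = t ∧ ∀ j, j ≠ i → c j x = 0) :
    Nonempty (S ≅ ∐ Z) := by
  classical
  let φ := phi Z S c hinj hsurj
  have hφ1 : ∀ i t, c i (φ i t) = t := c_phi_self Z S c hinj hsurj
  have hφ2 : ∀ i t j, j ≠ i → c j (φ i t) = 0 := c_phi_ne Z S c hinj hsurj
  -- finite supports
  have hsupp : ∀ (T : AddCommGrpCat.{v}) (g : ∀ i, Z i ⟶ T) (x : S),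
      (Function.support fun i => g i (c i x)).Finite := by
    intro T g x
    refine (hfin x).subset ?_
    intro i hi
    simp only [Function.mem_support, ne_eq] at hi
    simp only [Set.mem_ofPred_eq, ne_eq]
    intro h0
    apply hi
    rw [h0, map_zero]
  have hrec : ∀ x : S, x = ∑ᶠ i, φ i (c i x) := by
    intro x
    rw [← sub_eq_zero]
    apply hinj
    intro j
    rw [map_sub, sub_eq_zero]
    have h1 : (c j) (∑ᶠ i, φ i (c i x)) = ∑ᶠ i, (c j) (φ i (c i x)) :=
      AddMonoidHom.map_finsum (c j).hom (hsupp S φ x)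
    rw [h1]
    rw [finsum_eq_single _ j (fun i hi => hφ2 i _ j hi.symm), hφ1]
  let cof : Cofan Z := Cofan.mk S φ
  have hcof : IsColimit cof := by
    refine Cofan.IsColimit.mk cof
      (fun t => AddCommGrpCat.ofHom
        { toFun := fun x => ∑ᶠ i, t.inj i (c i x)
          map_zero' := by simp
          map_add' := by
            intro a b
            simp only [map_add]
            exact finsum_add_distrib (hsupp t.pt t.inj a) (hsupp t.pt t.inj b) }) ?_ ?_
    · intro t j
      ext y
      change ∑ᶠ i, t.inj i (c i (φ j y)) = t.inj j y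
      rw [finsum_eq_single _ j (fun i hi => by rw [hφ2 j y i hi, map_zero]), hφ1]
    · intro t m hm
      ext x
      change m x = ∑ᶠ i, t.inj i (c i x)
      conv_lhs => rw [hrec x]
      have h1 : m (∑ᶠ i, φ i (c i x)) = ∑ᶠ i, m (φ i (c i x)) :=
        AddMonoidHom.map_finsum m.hom (hsupp S φ x)
      rw [h1]
      apply finsum_congr
      intro i
      have := congrArg (fun k => k (c i x)) (congrArg AddCommGrpCat.Hom.hom (hm i))
      exact this
  exact ⟨(hcof.coconePointUniqueUpToIso (colimit.isColimit _))⟩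

section Exact

variable {ι : Type w}

/-- an element with prescribed (finitely supported) components -/
theorem exists_of_components (Z : ι → AddCommGrpCat.{v}) (S : AddCommGrpCat.{v})
    (c : ∀ i, S ⟶ Z i)
    (hinj : ∀ x : S, (∀ i, c i x = 0) → x = 0)
    (hsurj : ∀ i (t : Z i), ∃ x : S, c i x = t ∧ ∀ j, j ≠ i → c j x = 0)
    (t : ∀ i, Z i) (ht : {i | t i ≠ 0}.Finite) : ∃ x : S, ∀ i, c i x = t i := by
  classical
  let φ := phi Z S c hinj hsurj
  have hφ1 : ∀ i t, c i (φ i t) = t := c_phi_self Z S c hinj hsurj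
  have hφ2 : ∀ i t j, j ≠ i → c j (φ i t) = 0 := c_phi_ne Z S c hinj hsurj
  have hsupp : (Function.support fun i => φ i (t i)).Finite := by
    refine ht.subset ?_
    intro i hi
    simp only [Function.mem_support, ne_eq] at hi
    simp only [Set.mem_ofPred_eq, ne_eq]
    intro h0
    apply hi
    rw [h0, map_zero]
  refine ⟨∑ᶠ i, φ i (t i), fun j => ?_⟩
  have h1 : (c j) (∑ᶠ i, φ i (t i)) = ∑ᶠ i, (c j) (φ i (t i)) :=
    AddMonoidHom.map_finsum (c j).hom hsupp
  rw [h1, finsum_eq_single _ j (fun i hi => hφ2 i _ j hi.symm), hφ1]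

/-- short exactness can be checked componentwise -/
theorem shortExact_of_components
    (Z' Z Z'' : ι → AddCommGrpCat.{v}) (S' S S'' : AddCommGrpCat.{v})
    (c' : ∀ i, S' ⟶ Z' i) (c : ∀ i, S ⟶ Z i) (c'' : ∀ i, S'' ⟶ Z'' i)
    (hfin : ∀ x : S, {i | c i x ≠ 0}.Finite)
    (hfin'' : ∀ x : S'', {i | c'' i x ≠ 0}.Finite)
    (hinj' : ∀ x : S', (∀ i, c' i x = 0) → x = 0)
    (hinj : ∀ x : S, (∀ i, c i x = 0) → x = 0)
    (hinj'' : ∀ x : S'', (∀ i, c'' i x = 0) → x = 0)
    (hsurj' : ∀ i (t : Z' i), ∃ x : S', c' i x = t ∧ ∀ j, j ≠ i → c' j x = 0)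
    (hsurj : ∀ i (t : Z i), ∃ x : S, c i x = t ∧ ∀ j, j ≠ i → c j x = 0)
    (a : S' ⟶ S) (b : S ⟶ S'') (α : ∀ i, Z' i ⟶ Z i) (β : ∀ i, Z i ⟶ Z'' i)
    (hca : ∀ i (x : S'), c i (a x) = α i (c' i x))
    (hcb : ∀ i (x : S), c'' i (b x) = β i (c i x))
    (hα : ∀ i, Function.Injective (α i)) (hβ : ∀ i, Function.Surjective (β i))
    (hex : ∀ i (y : Z i), β i y = 0 → ∃ z : Z' i, α i z = y) :
    Function.Injective a ∧ Function.Surjective b ∧ ∀ x : S, b x = 0 → ∃ y : S', a y = x := by
  classical
  refine ⟨?_, ?_, ?_⟩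
  · rw [injective_iff_map_eq_zero]
    intro x hx
    apply hinj'
    intro i
    apply hα i
    rw [map_zero, ← hca, hx, map_zero]
  · intro z
    have hw : ∀ i, ∃ w : Z i, β i w = c'' i z ∧ (c'' i z = 0 → w = 0) := by
      intro i
      by_cases h0 : c'' i z = 0
      · exact ⟨0, by rw [map_zero, h0], fun _ => rfl⟩
      · obtain ⟨w, hw⟩ := hβ i (c'' i z)
        exact ⟨w, hw, fun h => (h0 h).elim⟩
    choose w hw1 hw2 using hw
    obtain ⟨x, hx⟩ := exists_of_components Z S c hinj hsurj w
      ((hfin'' z).subset (fun i hi h0 => hi (hw2 i h0)))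
    refine ⟨x, ?_⟩
    rw [← sub_eq_zero]
    apply hinj''
    intro i
    rw [map_sub, hcb, hx, hw1, sub_self]
  · intro x hx
    have hy : ∀ i, ∃ y : Z' i, α i y = c i x := by
      intro i
      apply hex
      rw [← hcb, hx, map_zero]
    choose y hy using hy
    obtain ⟨y', hy'⟩ := exists_of_components Z' S' c' hinj' hsurj' y
      ((hfin x).subset (fun i hi h0 => hi (by
        apply hα i
        rw [hy, h0, map_zero])))
    refine ⟨y', ?_⟩
    rw [← sub_eq_zero]
    apply hinj
    intro i
    rw [map_sub, hca, hy', hy, sub_self]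

end Exact

section Recognise

variable {ι : Type w}

/-- recognising a colimit cofan of abelian groups from retractions: the retractions have finite
support on each element and are jointly injective. -/
theorem isColimit_cofan_of_retractions (Z : ι → AddCommGrpCat.{v}) (S : AddCommGrpCat.{v})
    (c : ∀ i, S ⟶ Z i) (φ : ∀ i, Z i ⟶ S)
    (h1 : ∀ i (t : Z i), c i (φ i t) = t) (h2 : ∀ i (t : Z i) j, j ≠ i → c j (φ i t) = 0)
    (hfin : ∀ x : S, {i | c i x ≠ 0}.Finite)
    (hinj : ∀ x : S, (∀ i, c i x = 0) → x = 0) :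
    Nonempty (IsColimit (Cofan.mk S φ)) := by
  classical
  have hsupp : ∀ (T : AddCommGrpCat.{v}) (g : ∀ i, Z i ⟶ T) (x : S),
      (Function.support fun i => g i (c i x)).Finite := by
    intro T g x
    refine (hfin x).subset ?_
    intro i hi
    simp only [Function.mem_support, ne_eq] at hi
    simp only [Set.mem_ofPred_eq, ne_eq]
    intro h0
    apply hi
    rw [h0, map_zero]
  have hrec : ∀ x : S, x = ∑ᶠ i, φ i (c i x) := by
    intro x
    rw [← sub_eq_zero]
    apply hinj
    intro j
    rw [map_sub, sub_eq_zero]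
    have e1 : (c j) (∑ᶠ i, φ i (c i x)) = ∑ᶠ i, (c j) (φ i (c i x)) :=
      AddMonoidHom.map_finsum (c j).hom (hsupp S φ x)
    rw [e1]
    rw [finsum_eq_single _ j (fun i hi => h2 i _ j hi.symm), h1]
  refine ⟨Cofan.IsColimit.mk (Cofan.mk S φ)
      (fun t => AddCommGrpCat.ofHom
        { toFun := fun x => ∑ᶠ i, t.inj i (c i x)
          map_zero' := by simp
          map_add' := by
            intro a b
            simp only [map_add]
            exact finsum_add_distrib (hsupp t.pt t.inj a) (hsupp t.pt t.inj b) }) ?_ ?_⟩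
  · intro t j
    ext y
    change ∑ᶠ i, t.inj i (c i (φ j y)) = t.inj j y
    rw [finsum_eq_single _ j (fun i hi => by rw [h2 j y i hi, map_zero]), h1]
  · intro t m hm
    ext x
    change m x = ∑ᶠ i, t.inj i (c i x)
    conv_lhs => rw [hrec x]
    have e1 : m (∑ᶠ i, φ i (c i x)) = ∑ᶠ i, m (φ i (c i x)) :=
      AddMonoidHom.map_finsum m.hom (hsupp S φ x)
    rw [e1]
    apply finsum_congr
    intro i
    exact congrArg (fun k => k (c i x)) (congrArg AddCommGrpCat.Hom.hom (hm i))

/-- conversely, for a colimit cofan of abelian groups with retractions, the retractions have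
finite support on each element and are jointly injective. -/
theorem retractions_of_isColimit (Z : ι → AddCommGrpCat.{v}) (S : AddCommGrpCat.{v})
    (c : ∀ i, S ⟶ Z i) (φ : ∀ i, Z i ⟶ S) (hc : IsColimit (Cofan.mk S φ))
    (h1 : ∀ i (t : Z i), c i (φ i t) = t) (h2 : ∀ i (t : Z i) j, j ≠ i → c j (φ i t) = 0)
    (x : S) : {i | c i x ≠ 0}.Finite ∧ ((∀ i, c i x = 0) → x = 0) := by
  classical
  -- the subgroup of elements with finite support that are the sum of their components
  let H : AddSubgroup S :=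
    { carrier := {y | {i | c i y ≠ 0}.Finite ∧ y = ∑ᶠ i, φ i (c i y)}
      zero_mem' := by
        refine ⟨?_, ?_⟩
        · convert Set.finite_empty
          rw [Set.eq_empty_iff_forall_notMem]
          intro i hi
          exact hi (map_zero _)
        · simp
      add_mem' := by
        rintro a b ⟨ha1, ha2⟩ ⟨hb1, hb2⟩
        have hsa : (Function.support fun i => φ i (c i a)).Finite := by
          refine ha1.subset ?_
          intro i hi h0
          apply hi
          change φ i (c i a) = 0
          rw [h0, map_zero]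
        have hsb : (Function.support fun i => φ i (c i b)).Finite := by
          refine hb1.subset ?_
          intro i hi h0
          apply hi
          change φ i (c i b) = 0
          rw [h0, map_zero]
        refine ⟨(ha1.union hb1).subset ?_, ?_⟩
        · intro i hi
          by_contra hcon
          rw [Set.mem_union, not_or] at hcon
          apply hi
          have e1 : c i a = 0 := by
            by_contra h; exact hcon.1 h
          have e2 : c i b = 0 := by
            by_contra h; exact hcon.2 h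
          rw [map_add, e1, e2, add_zero]
        · simp only [map_add]
          rw [finsum_add_distrib hsa hsb, ← ha2, ← hb2]
      neg_mem' := by
        rintro a ⟨ha1, ha2⟩
        refine ⟨ha1.subset ?_, ?_⟩
        · intro i hi h0
          apply hi
          change c i (-a) = 0
          rw [map_neg, h0, neg_zero]
        · simp only [map_neg]
          rw [finsum_neg_distrib, ← ha2] }
  have hφ : ∀ i (t : Z i), φ i t ∈ H := by
    intro i t
    refine ⟨(Set.finite_singleton i).subset ?_, ?_⟩
    · intro j hj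
      by_contra hne
      exact hj (h2 i t j hne)
    · rw [finsum_eq_single _ i (fun j hj => by rw [h2 i t j hj, map_zero]), h1]
  have hH : ∀ y : S, y ∈ H := by
    intro y
    have e : AddCommGrpCat.ofHom (QuotientAddGroup.mk' H) =
        (0 : S ⟶ AddCommGrpCat.of (S ⧸ H)) := by
      apply Cofan.IsColimit.hom_ext hc
      intro i
      ext t
      change (QuotientAddGroup.mk' H) (φ i t) = 0
      exact (QuotientAddGroup.eq_zero_iff _).mpr (hφ i t)
    have e2 : (QuotientAddGroup.mk' H) y = 0 :=
      congrArg (fun k => k.hom y) e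
    exact (QuotientAddGroup.eq_zero_iff _).mp e2
  obtain ⟨hx1, hx2⟩ := hH x
  refine ⟨hx1, fun h0 => ?_⟩
  rw [hx2]
  simp [h0]

/-- double decomposition: recognising a colimit cofan `(S, I)` from retractions `P` which are
compatible with componentwise decompositions. -/
theorem isColimit_cofan_of_double {κ : Type*} (T : ι → AddCommGrpCat.{v}) (S : AddCommGrpCat.{v})
    (P : ∀ j, S ⟶ T j) (I : ∀ j, T j ⟶ S)
    (h1 : ∀ j (t : T j), P j (I j t) = t) (h2 : ∀ j (t : T j) k, k ≠ j → P k (I j t) = 0)
    (Y : κ → AddCommGrpCat.{v}) (Z : ι → κ → AddCommGrpCat.{v})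
    (c : ∀ ξ, S ⟶ Y ξ) (cj : ∀ j ξ, T j ⟶ Z j ξ) (r : ∀ j ξ, Y ξ ⟶ Z j ξ)
    (hnat : ∀ j ξ (x : S), cj j ξ (P j x) = r j ξ (c ξ x))
    (hfin : ∀ x : S, {ξ | c ξ x ≠ 0}.Finite)
    (hinj : ∀ x : S, (∀ ξ, c ξ x = 0) → x = 0)
    (hinjj : ∀ j (x : T j), (∀ ξ, cj j ξ x = 0) → x = 0)
    (hY : ∀ ξ (y : Y ξ), {j | r j ξ y ≠ 0}.Finite ∧ ((∀ j, r j ξ y = 0) → y = 0)) :
    Nonempty (IsColimit (Cofan.mk S I)) := by
  apply isColimit_cofan_of_retractions T S P I h1 h2
  · intro x
    refine ((hfin x).biUnion (fun ξ _ => (hY ξ (c ξ x)).1)).subset ?_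
    intro j hj
    simp only [Set.mem_ofPred_eq, ne_eq] at hj
    have : ∃ ξ, cj j ξ (P j x) ≠ 0 := by
      by_contra hcon
      push Not at hcon
      exact hj (hinjj j _ hcon)
    obtain ⟨ξ, hξ⟩ := this
    rw [hnat] at hξ
    simp only [Set.mem_iUnion, Set.mem_ofPred_eq, ne_eq, exists_prop]
    refine ⟨ξ, ?_, hξ⟩
    intro h0
    apply hξ
    rw [h0, map_zero]
  · intro x hx
    apply hinj
    intro ξ
    apply (hY ξ (c ξ x)).2
    intro j
    rw [← hnat, hx, map_zero]

end Recognise

end Groth.Agent.Lib.Helper8AbCoprod
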