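import Mathlib
import Groth.Prelude
import Groth.Agent.Lib.Helper12Cart

set_option autoImplicit false

/-!
# Toolkit: local sections, descent along morphisms with local sections, exact sequences of
`S`-groups and pseudo-torsors, in points form.
-/

universe u

open CategoryTheory CategoryTheory.Limits MonoidalCategory CartesianMonoidalCategory MonObj GrpObj
  AlgebraicGeometry

namespace Groth.Agent.Lib.Helper8ExactSeq

section General

variable {C : Type*} [Category C]

/-- A commutative square is cartesian as soon as it has the universal property on points. -/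
theorem isPullback_of_existsUnique {P X Y Z : C} {p₁ : P ⟶ X} {p₂ : P ⟶ Y} {f : X ⟶ Z}
    {g : Y ⟶ Z} (w : p₁ ≫ f = p₂ ≫ g)
    (h : ∀ (T : C) (a : T ⟶ X) (b : T ⟶ Y), a ≫ f = b ≫ g →
      ∃! l : T ⟶ P, l ≫ p₁ = a ∧ l ≫ p₂ = b) :
    IsPullback p₁ p₂ f g := by
  refine ⟨⟨w⟩, ⟨PullbackCone.IsLimit.mk _
    (fun s => (h _ s.fst s.snd s.condition).exists.choose) ?_ ?_ ?_⟩⟩
  · intro s
    exact (h _ s.fst s.snd s.condition).exists.choose_spec.1
  · intro s
    exact (h _ s.fst s.snd s.condition).exists.choose_spec.2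
  · intro s m h1 h2
    exact (h _ s.fst s.snd s.condition).unique ⟨h1, h2⟩
      (h _ s.fst s.snd s.condition).exists.choose_spec

variable [CartesianMonoidalCategory C]

/-- the product is the fibre product over the terminal object. -/
theorem isPullback_fst_snd_toUnit (X Y : C) :
    IsPullback (fst X Y) (snd X Y) (toUnit X) (toUnit Y) := by
  refine isPullback_of_existsUnique (toUnit_unique _ _) ?_
  intro T a b _
  refine ⟨lift a b, ⟨lift_fst _ _, lift_snd _ _⟩, ?_⟩
  rintro l ⟨h1, h2⟩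
  apply CartesianMonoidalCategory.hom_ext
  · rw [h1, lift_fst]
  · rw [h2, lift_snd]

end General

section Sections

variable (K : Precoverage Scheme.{u})

/-- `f` has sections over the members of a `K`-covering of its target. -/
def Loc {A B : Scheme.{u}} (f : A ⟶ B) : Prop :=
  ∃ R ∈ K B, ∀ ⦃V : Scheme.{u}⦄ (g : V ⟶ B), R g → ∃ l : V ⟶ A, l ≫ f = g

variable {K}

/-- a morphism with local sections for a subcanonical topology is an effective epimorphism. -/
theorem Loc.effectiveEpi [K.toGrothendieck.Subcanonical] {A B : Scheme.{u}} {f : A ⟶ B}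
    (hf : Loc K f) : EffectiveEpi f := by
  obtain ⟨R, hR, hl⟩ := hf
  rw [← Sieve.effectiveEpimorphic_singleton,
    Presieve.EffectiveEpimorphic.iff_forall_isSheafFor_yoneda]
  intro Z
  refine (GrothendieckTopology.Subcanonical.isSheaf_of_isRepresentable
    (J := K.toGrothendieck) (yoneda.obj Z)).isSheafFor _ ?_
  refine K.toGrothendieck.superset_covering ?_ (Precoverage.generate_mem_toGrothendieck hR)
  rw [Sieve.generate_le_iff]
  intro V g hg
  obtain ⟨l, hl'⟩ := hl g hg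
  exact ⟨_, l, f, ⟨⟩, hl'⟩

/-- local sections are stable under base change. -/
theorem Loc.of_isPullback [K.IsStableUnderBaseChange] {A B A' B' : Scheme.{u}} {f' : A' ⟶ B'}
    {g' : A' ⟶ A} {g : B' ⟶ B} {f : A ⟶ B} (hpb : IsPullback f' g' g f) (hf : Loc K f) :
    Loc K f' := by
  obtain ⟨R, hR, hl⟩ := hf
  obtain ⟨I, Z, φ, rfl⟩ := Presieve.exists_eq_ofArrows R
  refine ⟨Presieve.ofArrows (fun i => pullback g (φ i)) (fun i => pullback.fst g (φ i)),
    Precoverage.mem_coverings_of_isPullback φ hR g (fun i => pullback.fst g (φ i))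
      (fun i => pullback.snd g (φ i)) (fun i => IsPullback.of_hasPullback g (φ i)), ?_⟩
  rintro V v ⟨i⟩
  obtain ⟨l, hl'⟩ := hl (φ i) ⟨i⟩
  refine ⟨hpb.lift (pullback.fst g (φ i)) (pullback.snd g (φ i) ≫ l) ?_, hpb.lift_fst _ _ _⟩
  rw [Category.assoc, hl', pullback.condition]

/-- local sections are stable under composition. -/
theorem Loc.comp [K.IsStableUnderBaseChange] [K.IsStableUnderComposition] {A B C : Scheme.{u}}
    {f : A ⟶ B} {g : B ⟶ C} (hf : Loc K f) (hg : Loc K g) : Loc K (f ≫ g) := by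
  obtain ⟨R₁, hR₁, h₁⟩ := hf
  obtain ⟨R₂, hR₂, h₂⟩ := hg
  obtain ⟨I, V, φ, rfl⟩ := Presieve.exists_eq_ofArrows R₁
  obtain ⟨J, W, ψ, rfl⟩ := Presieve.exists_eq_ofArrows R₂
  choose t ht using fun j => h₂ (ψ j) ⟨j⟩
  choose s hs using fun i => h₁ (φ i) ⟨i⟩
  refine ⟨_, Precoverage.comp_mem_coverings (J := K) ψ hR₂
    (σ := fun _ => I) (Y := fun j i => pullback (t j) (φ i))
    (fun j i => pullback.fst (t j) (φ i))
    (fun j => Precoverage.mem_coverings_of_isPullback φ hR₁ (t j)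
      (fun i => pullback.fst (t j) (φ i)) (fun i => pullback.snd (t j) (φ i))
      (fun i => IsPullback.of_hasPullback (t j) (φ i))), ?_⟩
  rintro V' v' ⟨⟨j, i⟩⟩
  refine ⟨pullback.snd (t j) (φ i) ≫ s i, ?_⟩
  rw [Category.assoc, ← Category.assoc (s i), hs, ← pullback.condition_assoc, ht]

/-- if a composite has local sections, so does its second factor. -/
theorem Loc.of_comp {A B C : Scheme.{u}} {f : A ⟶ B} {g : B ⟶ C} (h : Loc K (f ≫ g)) :
    Loc K g := by
  obtain ⟨R, hR, hl⟩ := h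
  refine ⟨R, hR, fun V w hw => ?_⟩
  obtain ⟨l, hl'⟩ := hl w hw
  exact ⟨l ≫ f, by rw [Category.assoc, hl']⟩

end Sections

section OverS

variable {S : Scheme.{u}} {K : Precoverage Scheme.{u}}

theorem loc_toUnit {X : Over S} (h : NonAbH1.IsLocallyTrivialFor K X) :
    Loc K (toUnit X).left := h

theorem isLocallyTrivialFor_of_loc {X : Over S} (h : Loc K (toUnit X).left) :
    NonAbH1.IsLocallyTrivialFor K X := h

theorem Loc.epi [K.toGrothendieck.Subcanonical] {X Y : Over S} {q : X ⟶ Y}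
    (h : Loc K q.left) : Epi q := by
  haveI := h.effectiveEpi
  have : Epi ((Over.forget S).map q) := (inferInstance : Epi q.left)
  exact (Over.forget S).epi_of_epi_map this

theorem Loc.whiskerLeft [K.IsStableUnderBaseChange] {X Y : Over S} {q : X ⟶ Y}
    (h : Loc K q.left) (Z : Over S) : Loc K (Z ◁ q).left :=
  Loc.of_isPullback ((Helper12.isPullback_whiskerLeft Z q).map (Over.forget S)) h

theorem Loc.whiskerRight [K.IsStableUnderBaseChange] {X Y : Over S} {q : X ⟶ Y}
    (h : Loc K q.left) (Z : Over S) : Loc K (q ▷ Z).left :=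
  Loc.of_isPullback ((Helper12.isPullback_whiskerRight Z q).map (Over.forget S)) h

theorem Loc.of_isPullbackO [K.IsStableUnderBaseChange] {A B A' B' : Over S} {f' : A' ⟶ B'}
    {g' : A' ⟶ A} {g : B' ⟶ B} {f : A ⟶ B} (hpb : IsPullback f' g' g f) (hf : Loc K f.left) :
    Loc K f'.left :=
  Loc.of_isPullback (hpb.map (Over.forget S)) hf

theorem Loc.compO [K.IsStableUnderBaseChange] [K.IsStableUnderComposition] {A B C : Over S}
    {f : A ⟶ B} {g : B ⟶ C} (hf : Loc K f.left) (hg : Loc K g.left) : Loc K (f ≫ g).left :=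
  Loc.comp hf hg

theorem Loc.of_compO {A B C : Over S} {f : A ⟶ B} {g : B ⟶ C} (h : Loc K (f ≫ g).left) :
    Loc K g.left :=
  Loc.of_comp (f := f.left) h

theorem Loc.fst [K.IsStableUnderBaseChange] {X : Over S} (h : Loc K (toUnit X).left)
    (T : Over S) : Loc K (fst T X).left :=
  Loc.of_isPullbackO (isPullback_fst_snd_toUnit T X) h

theorem Loc.snd [K.IsStableUnderBaseChange] {X : Over S} (h : Loc K (toUnit X).left)
    (T : Over S) : Loc K (snd X T).left :=
  Loc.of_isPullbackO (isPullback_fst_snd_toUnit X T).flip h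

/-- Descent of morphisms along a morphism with local sections, in points form. -/
theorem Loc.exists_desc [K.toGrothendieck.Subcanonical] {X Y W : Over S} {q : X ⟶ Y}
    (h : Loc K q.left) (g : X ⟶ W)
    (hg : ∀ (T : Over S) (x₁ x₂ : T ⟶ X), x₁ ≫ q = x₂ ≫ q → x₁ ≫ g = x₂ ≫ g) :
    ∃ f : Y ⟶ W, q ≫ f = g := by
  haveI := h.effectiveEpi
  exact Helper12.exists_desc_of_isPullback q (IsPullback.of_hasPullback q q) g
    (hg _ _ _ pullback.condition)

end OverS

section Torsor

variable {S : Scheme.{u}} {G X : Over S} [GrpObj G] {a : AlgGrp.Action G X}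

/-- simple transitivity on points of a pseudo-torsor. -/
theorem existsUnique_of_isPseudoTorsor (h : NonAbH1.IsPseudoTorsorSch a) {T : Over S}
    (x y : T ⟶ X) : ∃! g : T ⟶ G, lift g x ≫ a.act = y := by
  haveI : IsIso (lift a.act (snd G X)) := h
  obtain ⟨l, hl⟩ : ∃ l : T ⟶ G ⊗ X, l ≫ lift a.act (snd G X) = lift y x :=
    ⟨lift y x ≫ inv (lift a.act (snd G X)), by rw [Category.assoc, IsIso.inv_hom_id,
      Category.comp_id]⟩
  have h1 : l ≫ a.act = y := by
    have := congrArg (· ≫ fst X X) hl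
    simpa only [Category.assoc, lift_fst] using this
  have h2 : l ≫ snd G X = x := by
    have := congrArg (· ≫ snd X X) hl
    simpa only [Category.assoc, lift_snd] using this
  have h3 : lift (l ≫ fst G X) x = l := by
    apply CartesianMonoidalCategory.hom_ext
    · rw [lift_fst]
    · rw [lift_snd, h2]
  refine ⟨l ≫ fst G X, ?_, ?_⟩
  · show lift (l ≫ fst G X) x ≫ a.act = y
    rw [h3, h1]
  · intro g hg
    have h4 : lift g x ≫ lift a.act (snd G X) = lift y x := by
      rw [comp_lift, hg, lift_snd]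
    have h5 : lift g x = l := by
      rw [← cancel_mono (lift a.act (snd G X)), h4, hl]
    rw [← h5, lift_fst]

/-- conversely. -/
theorem isPseudoTorsor_of_existsUnique
    (h : ∀ (T : Over S) (x y : T ⟶ X), ∃! g : T ⟶ G, lift g x ≫ a.act = y) :
    NonAbH1.IsPseudoTorsorSch a := by
  obtain ⟨g₀, hg₀, -⟩ := h (X ⊗ X) (snd X X) (fst X X)
  have hg₀' : lift g₀ (snd X X) ≫ a.act = fst X X := hg₀
  refine ⟨⟨lift g₀ (snd X X), ?_, ?_⟩⟩
  · have h1 : lift a.act (snd G X) ≫ g₀ = fst G X := by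
      obtain ⟨g₁, -, huniq⟩ := h (G ⊗ X) (snd G X) a.act
      have e1 : lift (lift a.act (snd G X) ≫ g₀) (snd G X) ≫ a.act = a.act := by
        have : lift (lift a.act (snd G X) ≫ g₀) (snd G X) =
            lift a.act (snd G X) ≫ lift g₀ (snd X X) := by
          rw [comp_lift, lift_snd]
        rw [this, Category.assoc, hg₀', lift_fst]
      have e2 : lift (fst G X) (snd G X) ≫ a.act = a.act := by
        rw [lift_fst_snd, Category.id_comp]
      rw [huniq _ e1, huniq _ e2]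
    rw [comp_lift, h1, lift_snd, lift_fst_snd]
  · rw [comp_lift, hg₀', lift_snd, lift_fst_snd]

end Torsor

section Exact

variable {S : Scheme.{u}} {K : Precoverage Scheme.{u}} {G' G G'' : Over S} [GrpObj G'] [GrpObj G]
  [GrpObj G''] {u : G' ⟶ G} {v : G ⟶ G''}

theorem lift_whiskerLeft_mul {T : Over S} (x : T ⟶ G) (g : T ⟶ G') :
    lift x g ≫ (G ◁ u) ≫ μ[G] = x * (g ≫ u) := by
  rw [← Category.assoc, lift_whiskerLeft, ← Hom.mul_def]

theorem comp_u_comp_v (hex : NonAbH1.IsExactSeq K u v) {T : Over S} (g : T ⟶ G') :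
    (g ≫ u) ≫ v = 1 := by
  rw [Category.assoc, hex.2.2.1, MonObj.comp_one]

theorem mul_u_comp_v (hex : NonAbH1.IsExactSeq K u v) {T : Over S} (x : T ⟶ G) (g : T ⟶ G') :
    (x * (g ≫ u)) ≫ v = x ≫ v := by
  haveI := hex.2.1
  rw [MonObj.mul_comp, comp_u_comp_v hex, _root_.mul_one]

/-- two points of `G` with the same image in `G''` differ by a unique point of `G'`. -/
theorem existsUnique_of_comp_v_eq (hex : NonAbH1.IsExactSeq K u v) {T : Over S} (x y : T ⟶ G)
    (h : x ≫ v = y ≫ v) : ∃! g : T ⟶ G', x * (g ≫ u) = y := by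
  have hpb := hex.2.2.2.1
  obtain ⟨l, hl1, hl2⟩ : ∃ l : T ⟶ G ⊗ G', l ≫ fst G G' = x ∧ l ≫ (G ◁ u) ≫ μ[G] = y :=
    ⟨hpb.lift x y h, hpb.lift_fst _ _ _, hpb.lift_snd _ _ _⟩
  have hl : lift x (l ≫ snd G G') = l := by
    apply CartesianMonoidalCategory.hom_ext
    · rw [lift_fst, hl1]
    · rw [lift_snd]
  refine ⟨l ≫ snd G G', ?_, ?_⟩
  · show x * ((l ≫ snd G G') ≫ u) = y
    rw [← lift_whiskerLeft_mul, hl, hl2]
  · intro g hg
    have h1 : lift x g = l := by
      apply hpb.hom_ext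
      · rw [lift_fst, hl1]
      · rw [lift_whiskerLeft_mul, hl2]
        exact hg
    rw [← h1, lift_snd]

/-- a point of `G` with trivial image in `G''` comes from a unique point of `G'`. -/
theorem existsUnique_of_comp_v_eq_one (hex : NonAbH1.IsExactSeq K u v) {T : Over S} (e : T ⟶ G)
    (h : e ≫ v = 1) : ∃! g : T ⟶ G', g ≫ u = e := by
  haveI := hex.2.1
  have := existsUnique_of_comp_v_eq hex (1 : T ⟶ G) e (by rw [MonObj.one_comp, h])
  simpa only [_root_.one_mul] using this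

theorem u_injective (hex : NonAbH1.IsExactSeq K u v) {T : Over S} (g g' : T ⟶ G')
    (h : g ≫ u = g' ≫ u) : g = g' := by
  obtain ⟨g₀, -, huniq⟩ := existsUnique_of_comp_v_eq_one hex (g ≫ u) (comp_u_comp_v hex g)
  rw [huniq g rfl, huniq g' h.symm]

theorem loc_v (hex : NonAbH1.IsExactSeq K u v) : Loc K v.left := hex.2.2.2.2

variable [K.toGrothendieck.Subcanonical]

/-- descent along `v` of a morphism invariant under right translation by `G'`. -/
theorem exists_desc_v (hex : NonAbH1.IsExactSeq K u v) {W : Over S} (c : G ⟶ W)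
    (hc : ∀ (T : Over S) (x : T ⟶ G) (g : T ⟶ G'), (x * (g ≫ u)) ≫ c = x ≫ c) :
    ∃ c' : G'' ⟶ W, v ≫ c' = c := by
  refine Loc.exists_desc (loc_v hex) c ?_
  intro T x₁ x₂ h
  obtain ⟨g, hg, -⟩ := existsUnique_of_comp_v_eq hex x₁ x₂ h
  have hg' : x₁ * (g ≫ u) = x₂ := hg
  rw [← hg', hc]

variable [K.IsStableUnderBaseChange]

/-- descent along `v ▷ X`. -/
theorem exists_desc_v_whiskerRight (hex : NonAbH1.IsExactSeq K u v) (X : Over S) {W : Over S}
    (c : G ⊗ X ⟶ W)
    (hc : ∀ (T : Over S) (x : T ⟶ G) (g : T ⟶ G') (y : T ⟶ X),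
      lift (x * (g ≫ u)) y ≫ c = lift x y ≫ c) :
    ∃ c' : G'' ⊗ X ⟶ W, (v ▷ X) ≫ c' = c := by
  refine Loc.exists_desc (Loc.whiskerRight (loc_v hex) X) c ?_
  intro T p₁ p₂ h
  have e1 : (p₁ ≫ fst G X) ≫ v = (p₂ ≫ fst G X) ≫ v := by
    have := congrArg (· ≫ fst G'' X) h
    simpa only [Category.assoc, whiskerRight_fst] using this
  have e2 : p₁ ≫ snd G X = p₂ ≫ snd G X := by
    have := congrArg (· ≫ snd G'' X) h
    simpa only [Category.assoc, whiskerRight_snd] using this
  obtain ⟨g, hg, -⟩ := existsUnique_of_comp_v_eq hex _ _ e1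
  have hg' : (p₁ ≫ fst G X) * (g ≫ u) = p₂ ≫ fst G X := hg
  calc p₁ ≫ c = lift (p₁ ≫ fst G X) (p₁ ≫ snd G X) ≫ c := by
        rw [← comp_lift, lift_fst_snd, Category.comp_id]
    _ = lift ((p₁ ≫ fst G X) * (g ≫ u)) (p₁ ≫ snd G X) ≫ c := (hc _ _ _ _).symm
    _ = lift (p₂ ≫ fst G X) (p₂ ≫ snd G X) ≫ c := by rw [hg', e2]
    _ = p₂ ≫ c := by rw [← comp_lift, lift_fst_snd, Category.comp_id]

/-- descent along `X ◁ v`. -/
theorem exists_desc_v_whiskerLeft (hex : NonAbH1.IsExactSeq K u v) (X : Over S) {W : Over S}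
    (c : X ⊗ G ⟶ W)
    (hc : ∀ (T : Over S) (y : T ⟶ X) (x : T ⟶ G) (g : T ⟶ G'),
      lift y (x * (g ≫ u)) ≫ c = lift y x ≫ c) :
    ∃ c' : X ⊗ G'' ⟶ W, (X ◁ v) ≫ c' = c := by
  refine Loc.exists_desc (Loc.whiskerLeft (loc_v hex) X) c ?_
  intro T p₁ p₂ h
  have e1 : (p₁ ≫ snd X G) ≫ v = (p₂ ≫ snd X G) ≫ v := by
    have := congrArg (· ≫ snd X G'') h
    simpa only [Category.assoc, whiskerLeft_snd] using this
  have e2 : p₁ ≫ fst X G = p₂ ≫ fst X G := by
    have := congrArg (· ≫ fst X G'') h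
    simpa only [Category.assoc, whiskerLeft_fst] using this
  obtain ⟨g, hg, -⟩ := existsUnique_of_comp_v_eq hex _ _ e1
  have hg' : (p₁ ≫ snd X G) * (g ≫ u) = p₂ ≫ snd X G := hg
  calc p₁ ≫ c = lift (p₁ ≫ fst X G) (p₁ ≫ snd X G) ≫ c := by
        rw [← comp_lift, lift_fst_snd, Category.comp_id]
    _ = lift (p₁ ≫ fst X G) ((p₁ ≫ snd X G) * (g ≫ u)) ≫ c := (hc _ _ _ _).symm
    _ = lift (p₂ ≫ fst X G) (p₂ ≫ snd X G) ≫ c := by rw [hg', e2]
    _ = p₂ ≫ c := by rw [← comp_lift, lift_fst_snd, Category.comp_id]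

end Exact

end Groth.Agent.Lib.Helper8ExactSeq
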