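import Mathlib
import Groth.Prelude
import Groth.Agent.Lib.Helper8SheafPts

/-!
# Descent of an action to the quotient by its kernel (helper8)
-/

universe u

open CategoryTheory CategoryTheory.Limits MonoidalCategory CartesianMonoidalCategory MonObj GrpObj
open AlgebraicGeometry Opposite

namespace Groth.Agent.Lib.Helper8ActQuot

open Groth.Agent.Lib.Helper8SheafPts

variable {S : Scheme.{u}}

/-- fpqc-local lifts along a flat surjective quasi-compact morphism (no group structure). -/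
theorem exists_local_lift_of_fpqc' {G H : Over S} (p : G ⟶ H) [Flat p.left] [Surjective p.left]
    [QuasiCompact p.left] {T : Over S} (y : T ⟶ H) :
    ∃ R ∈ QuotSh.J Scheme.fpqcPrecoverage S T,
      ∀ ⦃V : Over S⦄ (i : V ⟶ T), R i → ∃ t : V ⟶ G, t ≫ p = i ≫ y := by
  have sq : IsPullback (pullback.snd y p).left (pullback.fst y p).left p.left y.left :=
    ((IsPullback.of_hasPullback y p).map (Over.forget S)).flip
  haveI : Flat (pullback.fst y p).left :=
    MorphismProperty.of_isPullback (P := @Flat) sq inferInstance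
  haveI : Surjective (pullback.fst y p).left :=
    MorphismProperty.of_isPullback (P := @Surjective) sq inferInstance
  haveI : QuasiCompact (pullback.fst y p).left :=
    MorphismProperty.of_isPullback (P := @QuasiCompact) sq inferInstance
  refine ⟨Sieve.generate (Presieve.singleton (pullback.fst y p)),
    Groth.Agent.Lib.Helper12.QuotShLib.generate_singleton_mem_J _ _
      (Scheme.Hom.singleton_mem_fpqcPrecoverage _), ?_⟩
  rintro V i ⟨W, a, b, ⟨⟩, rfl⟩
  exact ⟨a ≫ pullback.snd y p, by rw [Category.assoc, Category.assoc, pullback.condition]⟩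

theorem action_ext {G X : Over S} [GrpObj G] (b b' : AlgGrp.Action G X) (h : b.act = b'.act) :
    b = b' := by
  cases b
  cases b'
  cases h
  rfl

theorem main14643 (G N Q X : Over S) [GrpObj G] (a : AlgGrp.Action G X) [GrpObj N] (n : N ⟶ G)
    [IsMonHom n]
    (hN : ∀ (T : Over S) (g : T ⟶ G), (∃ m : T ⟶ N, m ≫ n = g) ↔
        ∀ (T' : Over S) (s : T' ⟶ T) (x : T' ⟶ X), lift (s ≫ g) x ≫ a.act = x)
    [GrpObj Q] (π : G ⟶ Q) [IsMonHom π] [Flat π.left] [Surjective π.left] [QuasiCompact π.left]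
    (hker : AlgGrp.IsKernel n π) :
    (∃! b : AlgGrp.Action Q X, (π ▷ X) ≫ b.act = a.act) ∧
    ∀ b : AlgGrp.Action Q X, (π ▷ X) ≫ b.act = a.act →
      (∀ (T : Over S) (q : T ⟶ Q),
        (∀ (T' : Over S) (s : T' ⟶ T) (x : T' ⟶ X), lift (s ≫ q) x ≫ b.act = x) → q = 1) ∧
      (Surjective (lift (snd G X) a.act).left ↔ Surjective (lift (snd Q X) b.act).left) ∧
      (IsDominant (lift (snd G X) a.act).left ↔ IsDominant (lift (snd Q X) b.act).left) := by
  have hN' : IsPullback n (toUnit N) π η[Q] := hker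
  have htriv : ∀ {T : Over S} (m : T ⟶ N) (x : T ⟶ X), lift (m ≫ n) x ≫ a.act = x := by
    intro T m x
    have := (hN T (m ≫ n)).mp ⟨m, rfl⟩ T (𝟙 T) x
    rwa [Category.id_comp] at this
  have hsame : ∀ {T : Over S} (g g' : T ⟶ G) (x : T ⟶ X), g ≫ π = g' ≫ π →
      lift g x ≫ a.act = lift g' x ≫ a.act := by
    intro T g g' x hgg
    have h1 : (g * g'⁻¹) ≫ π = toUnit T ≫ η[Q] := by
      rw [MonObj.mul_comp, GrpObj.inv_comp, hgg, _root_.mul_inv_cancel, Hom.one_def]
    obtain ⟨m, hm⟩ : ∃ m : T ⟶ N, m ≫ n = g * g'⁻¹ :=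
      ⟨hN'.lift (g * g'⁻¹) (toUnit T) h1, hN'.lift_fst _ _ _⟩
    have hg : g = (m ≫ n) * g' := by rw [hm, inv_mul_cancel_right]
    rw [hg, AlgGrp.Action.lift_mul_act, htriv]
  have hE0 : ∀ {V : Over S} (g : V ⟶ G) (x : V ⟶ X), lift g x ≫ (π ▷ X) = lift (g ≫ π) x :=
    fun g x => lift_whiskerRight _ _ _
  have hloc : ∃ R₀ ∈ QuotSh.J Scheme.fpqcPrecoverage S (Q ⊗ X),
      ∀ ⦃V : Over S⦄ (i : V ⟶ Q ⊗ X), R₀ i → ∃ t : V ⟶ G ⊗ X, t ≫ (π ▷ X) = i := by
    obtain ⟨R₀, hR₀, hl⟩ := exists_local_lift_of_fpqc' π (fst Q X)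
    refine ⟨R₀, hR₀, fun V i hi => ?_⟩
    obtain ⟨t, ht⟩ := hl i hi
    refine ⟨lift t (i ≫ snd Q X), ?_⟩
    rw [hE0, ht]
    exact lift_comp_fst_snd i
  have hconst : ∀ (T : Over S) (x x' : T ⟶ G ⊗ X), x ≫ (π ▷ X) = x' ≫ (π ▷ X) →
      x ≫ a.act = x' ≫ a.act := by
    intro T x x' hxx
    obtain ⟨g, p, rfl⟩ : ∃ g p, x = lift g p := ⟨_, _, (lift_comp_fst_snd x).symm⟩
    obtain ⟨g', p', rfl⟩ : ∃ g' p', x' = lift g' p' := ⟨_, _, (lift_comp_fst_snd x').symm⟩
    rw [hE0, hE0] at hxx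
    have hg : g ≫ π = g' ≫ π := by
      have h0 := congrArg (· ≫ fst _ _) hxx
      simpa only [lift_fst] using h0
    have hp : p = p' := by
      have h0 := congrArg (· ≫ snd _ _) hxx
      simpa only [lift_snd] using h0
    subst hp
    exact hsame g g' p hg
  obtain ⟨β, hβ⟩ := exists_desc_of_local_lift (K := Scheme.fpqcPrecoverage) (π ▷ X) a.act hloc hconst
  have hlift1 : ∀ {T Z : Over S} (q : T ⟶ Q) (u v : T ⟶ Z),
      (∀ ⦃V : Over S⦄ (i : V ⟶ T) (g : V ⟶ G), g ≫ π = i ≫ q → i ≫ u = i ≫ v) → u = v := by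
    intro T Z q u v h
    obtain ⟨R₀, hR₀, hl⟩ := exists_local_lift_of_fpqc' π q
    refine eq_of_local (K := Scheme.fpqcPrecoverage) hR₀ u v (fun V i hi => ?_)
    obtain ⟨t, ht⟩ := hl i hi
    exact h i t ht
  -- general facts for any descended action morphism
  have hpt : ∀ (gam : Q ⊗ X ⟶ X), (π ▷ X) ≫ gam = a.act → ∀ {T : Over S} (g : T ⟶ G) (x : T ⟶ X),
      lift (g ≫ π) x ≫ gam = lift g x ≫ a.act := by
    intro gam hgam T g x
    rw [← hE0, Category.assoc, hgam]
  have hβ' : ∀ {T : Over S} (g : T ⟶ G) (x : T ⟶ X),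
      lift (g ≫ π) x ≫ β = lift g x ≫ a.act := fun g x => hpt β hβ g x
  have hmulβ : ∀ {T : Over S} (q₁ q₂ : T ⟶ Q) (x : T ⟶ X),
      lift (q₁ * q₂) x ≫ β = lift q₁ (lift q₂ x ≫ β) ≫ β := by
    intro T q₁ q₂ x
    refine hlift1 q₁ _ _ (fun V i g₁ hg₁ => ?_)
    refine hlift1 (i ≫ q₂) _ _ (fun V' i' g₂ hg₂ => ?_)
    have e1 : (i' ≫ g₁) ≫ π = (i' ≫ i) ≫ q₁ := by rw [Category.assoc, hg₁, Category.assoc]
    have e2 : g₂ ≫ π = (i' ≫ i) ≫ q₂ := by rw [hg₂, Category.assoc]
    simp only [← Category.assoc, comp_lift, MonObj.comp_mul]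
    rw [← e1, ← e2, ← MonObj.mul_comp, hβ', hβ', hβ', AlgGrp.Action.lift_mul_act]
  let b : AlgGrp.Action Q X :=
    { act := β
      one_act := by
        have h1 : η[Q] ▷ X = (η[G] ▷ X) ≫ (π ▷ X) := by
          rw [← comp_whiskerRight, IsMonHom.one_hom]
        rw [h1, Category.assoc, hβ, a.one_act]
      mul_act := by
        apply AlgGrp.Action.hom_ext_lift₃
        intro T q₁ q₂ x
        rw [lift_whiskerRight_assoc, ← Hom.mul_def, hmulβ, lift_lift_associator_hom_assoc,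
          lift_whiskerLeft_assoc] }
  have hgraph : ∀ (gam : Q ⊗ X ⟶ X), (π ▷ X) ≫ gam = a.act →
      (lift (snd G X) a.act).left = (π ▷ X).left ≫ (lift (snd Q X) gam).left := by
    intro gam hgam
    rw [← Over.comp_left, comp_lift, whiskerRight_snd, hgam]
  haveI hsurj : Surjective (π ▷ X).left :=
    MorphismProperty.of_isPullback (P := @Surjective)
      ((Groth.Agent.Lib.Helper12.isPullback_whiskerRight X π).map (Over.forget S)).flip
      (inferInstance : Surjective π.left)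
  refine ⟨⟨b, hβ, fun b' hb' => ?_⟩, fun b' hb' => ⟨?_, ?_, ?_⟩⟩
  · exact action_ext _ _
      (epi_of_local_lift (K := Scheme.fpqcPrecoverage) (π ▷ X) hloc b'.act β (hb'.trans hβ.symm))
  · intro T q hq
    refine hlift1 q q 1 (fun V i g hg => ?_)
    have hgt : ∀ (T' : Over S) (s : T' ⟶ V) (x : T' ⟶ X), lift (s ≫ g) x ≫ a.act = x := by
      intro T' s x
      rw [← hpt b'.act hb', Category.assoc, hg, ← Category.assoc]
      exact hq T' (s ≫ i) x
    obtain ⟨m, hm⟩ := (hN V g).mpr hgt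
    rw [MonObj.comp_one, ← hg, ← hm, Category.assoc, hN'.w, ← Category.assoc,
      toUnit_unique (m ≫ toUnit N) (toUnit V), Hom.one_def]
  · rw [hgraph b'.act hb']
    constructor
    · intro h
      exact Surjective.of_comp (π ▷ X).left (lift (snd Q X) b'.act).left
    · intro h
      infer_instance
  · rw [hgraph b'.act hb']
    constructor
    · intro h
      exact IsDominant.of_comp (π ▷ X).left (lift (snd Q X) b'.act).left
    · intro h
      infer_instance

end Groth.Agent.Lib.Helper8ActQuot
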