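import Mathlib

/-!
# Abstract lemmas on reflections along an adjunction (helper8)

Used to compare `L ⟶ L ⊗ κ_* O` with the adjunction unit `L ⟶ κ_* κ^* L` for a closed immersion `κ`.
-/

set_option autoImplicit false
universe v₁ v₂ u₁ u₂

open CategoryTheory CategoryTheory.Limits

namespace Groth.Agent.Lib.Helper8AdjAbs

/-- a natural transformation `η : 𝟭 ⟶ M` which is invertible at `K` lets every `u : L ⟶ K` factor
through `η_L` -/
theorem comp_map_inv {C : Type u₁} [Category.{v₁} C] (M : C ⥤ C) (η : 𝟭 C ⟶ M) {L K : C}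
    (u : L ⟶ K) [IsIso (η.app K)] : η.app L ≫ (M.map u ≫ inv (η.app K)) = u := by
  have h := η.naturality u
  rw [← Category.assoc, IsIso.comp_inv_eq]
  exact h.symm

/-- comparison of two reflections -/
theorem exists_section_unit {C : Type u₁} [Category.{v₁} C] {D : Type u₂} [Category.{v₂} D]
    [Preadditive C] [Preadditive D] (F : C ⥤ D) (Gf : D ⥤ C) [Gf.PreservesZeroMorphisms]
    (adj : F ⊣ Gf) (O L R : C) (rr : L ⟶ R) (aa : R ⟶ Gf.obj (F.obj L))
    (ha : rr ≫ aa = adj.unit.app L) (G' : D) (ψ : Gf.obj G' ≅ R)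
    (hfull : ∀ p : Gf.obj (F.obj L) ⟶ Gf.obj (F.obj L), ∃ φ : F.obj L ⟶ F.obj L, Gf.map φ = p)
    (hlift : ∀ v' : O ⟶ R, ∃ s : O ⟶ L, s ≫ rr = v') (v : O ⟶ Gf.obj (F.obj L)) :
    ∃ s : O ⟶ L, s ≫ adj.unit.app L = v := by
  obtain ⟨u, hu⟩ : ∃ u : L ⟶ Gf.obj (F.obj L), u = adj.unit.app L := ⟨_, rfl⟩
  have hunit : ∀ (Y : D) (φ : F.obj L ⟶ Y), adj.homEquiv L Y φ = u ≫ Gf.map φ := by
    intro Y φ
    rw [hu]
    exact Adjunction.homEquiv_unit adj L Y φ
  have ha' : rr ≫ aa = u := ha.trans hu.symm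
  rw [← hu]
  let g : F.obj L ⟶ G' := (adj.homEquiv L G').symm (rr ≫ ψ.inv)
  let bb : Gf.obj (F.obj L) ⟶ R := Gf.map g ≫ ψ.hom
  have hb : u ≫ bb = rr := by
    have h1 : u ≫ Gf.map g = rr ≫ ψ.inv :=
      (hunit G' g).symm.trans (Equiv.apply_symm_apply _ _)
    change u ≫ Gf.map g ≫ ψ.hom = rr
    rw [← Category.assoc, h1, Category.assoc, Iso.inv_hom_id, Category.comp_id]
  have hba : bb ≫ aa = 𝟙 _ := by
    obtain ⟨φ, hφ⟩ := hfull (𝟙 _ - bb ≫ aa)
    have hp : u ≫ (𝟙 _ - bb ≫ aa) = 0 := by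
      rw [Preadditive.comp_sub, Category.comp_id, ← Category.assoc, hb, ha', sub_self]
    have h1 : adj.homEquiv L (F.obj L) φ = 0 := by
      rw [hunit, hφ]
      exact hp
    have h2 : φ = 0 := by
      apply (adj.homEquiv L (F.obj L)).injective
      rw [h1, hunit, Functor.map_zero, comp_zero]
    rw [h2, Functor.map_zero] at hφ
    exact (sub_eq_zero.mp hφ.symm).symm
  obtain ⟨s, hs⟩ := hlift (v ≫ bb)
  refine ⟨s, ?_⟩
  calc s ≫ u = s ≫ rr ≫ aa := by rw [ha']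
    _ = (v ≫ bb) ≫ aa := by rw [← Category.assoc, hs]
    _ = v := by rw [Category.assoc, hba, Category.comp_id]

theorem cancel_hom_inv {C : Type u₁} [Category.{v₁} C] {A B B' Z : C} (w : A ⟶ B) (h : B ⟶ B')
    (i : B' ⟶ B) (t : B ⟶ Z) (hi : h ≫ i = 𝟙 B) : (w ≫ h) ≫ i ≫ t = w ≫ t := by
  rw [Category.assoc, ← Category.assoc h, hi, Category.id_comp]

/-- a section whose image under the unit is the adjunct of `t'` pulls back to `t'` -/
theorem map_eq_of_comp_unit {C : Type u₁} [Category.{v₁} C] {D : Type u₂} [Category.{v₂} D]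
    (F : C ⥤ D) (Gf : D ⥤ C) (adj : F ⊣ Gf) {O L : C} (s : O ⟶ L) (w : F.obj O ⟶ F.obj L)
    (h : s ≫ adj.unit.app L = adj.homEquiv _ _ w) : F.map s = w := by
  apply (adj.homEquiv O (F.obj L)).injective
  rw [← h]
  exact (Adjunction.homEquiv_unit adj O (F.obj L) (F.map s)).trans (adj.unit.naturality s).symm

end Groth.Agent.Lib.Helper8AdjAbs
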