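import Mathlib
import Groth.Prelude
import Groth.Agent.S10175
import Groth.Agent.S10176
import Groth.Agent.Lib.H5bFibCrit
import Groth.Agent.Lib.Helper12AffineDescent

set_option autoImplicit false
universe u
open CategoryTheory CategoryTheory.Limits AlgebraicGeometry Topology TopologicalSpace
open AlgSp

namespace Groth.Agent.Lib.Helper8AffCompl

variable {S : Scheme.{u}}

/-- points of a chart lying in the image of a base-changed morphism. -/
lemma mem_range_iff {F G : Sp S} {f : F ⟶ G} {V W : Over S} {φ : (yon S).obj V ⟶ G}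
    {snd : W ⟶ V} {fst : (yon S).obj W ⟶ F} (sq : IsPullback fst ((yon S).map snd) f φ)
    (v : V.left) :
    v ∈ Set.range snd.left ↔ Points.ofPt φ v ∈ Set.range (Points.map f) := by
  constructor
  · rintro ⟨w, rfl⟩
    refine ⟨Points.ofPt fst w, ?_⟩
    rw [Points.map_ofPt, sq.w, Groth.Agent.S10176.ofPt_map_comp]
  · rintro ⟨x, hx⟩
    have e : Points.map f x = Points.map φ (Points.ofScheme V v) := by
      rw [hx, Points.ofPt_eq_map_ofScheme]
    obtain ⟨p, hp1, hp2⟩ := Groth.Agent.S10175.exists_point_of_isPullback sq x _ e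
    obtain ⟨w, rfl⟩ := (Points.schemeHomeo W).surjective p
    refine ⟨w, ?_⟩
    apply (Points.schemeHomeo V).injective
    rw [← Points.map_yon_map_apply]
    exact hp2

/-- the open complement of a closed subspace, pulled back to a chart on which the closed subspace is
cut out by `I`, has range the complement of the support of `I`. -/
lemma range_eq_compl {X D U : Sp S} {i : D ⟶ X} {j : U ⟶ X}
    (hU : Set.range (Points.map j) = (Set.range (Points.map i))ᶜ)
    {V : Over S} {φ : (yon S).obj V ⟶ X} (I : V.left.IdealSheafData)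
    {fstD : (yon S).obj (Over.mk (I.subschemeι ≫ V.hom)) ⟶ D}
    (sqD : IsPullback fstD
      ((yon S).map (Over.homMk I.subschemeι rfl : Over.mk (I.subschemeι ≫ V.hom) ⟶ V)) i φ)
    {UV : Over S} {sndU : UV ⟶ V} {fstU : (yon S).obj UV ⟶ U}
    (sqU : IsPullback fstU ((yon S).map sndU) j φ) :
    Set.range sndU.left = ((I.support.compl : V.left.Opens) : Set V.left) := by
  ext v
  rw [mem_range_iff sqU, hU, Set.mem_compl_iff, ← mem_range_iff sqD]
  change v ∉ Set.range I.subschemeι ↔ v ∈ ((I.support.compl : V.left.Opens) : Set V.left)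
  rw [Scheme.IdealSheafData.range_subschemeι]
  rfl

/-- an open immersion with the same range as an affine open inclusion is affine. -/
lemma isAffineHom_of_range_eq {X Y : Scheme.{u}} (f : X ⟶ Y) [IsOpenImmersion f] (W : Y.Opens)
    (hW : Set.range f = (W : Set Y)) (h : IsAffineHom W.ι) : IsAffineHom f := by
  have e : Set.range f = Set.range W.ι := by rw [Scheme.Opens.range_ι]; exact hW
  have hfac : (IsOpenImmersion.isoOfRangeEq f W.ι e).hom ≫ W.ι = f :=
    IsOpenImmersion.isoOfRangeEq_hom_fac f W.ι e
  rw [← hfac]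
  infer_instance

/-- transport a pullback square along the identification of an open immersion with the inclusion
of its range. -/
lemma exists_isPullback_opens {X U : Sp S} {j : U ⟶ X} {V : Over S} {φ : (yon S).obj V ⟶ X}
    {UV : Over S} {sndU : UV ⟶ V} {fstU : (yon S).obj UV ⟶ U}
    (sqU : IsPullback fstU ((yon S).map sndU) j φ) [IsOpenImmersion sndU.left]
    (W : V.left.Opens) (hW : Set.range sndU.left = (W : Set V.left)) :
    ∃ fst : (yon S).obj (Over.mk (W.ι ≫ V.hom)) ⟶ U,
      IsPullback fst ((yon S).map (Over.homMk W.ι rfl : Over.mk (W.ι ≫ V.hom) ⟶ V)) j φ := by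
  have e : Set.range sndU.left = Set.range W.ι := by rw [Scheme.Opens.range_ι]; exact hW
  let ε := IsOpenImmersion.isoOfRangeEq sndU.left W.ι e
  have hinv : ε.inv ≫ sndU.left = W.ι := IsOpenImmersion.isoOfRangeEq_inv_fac sndU.left W.ι e
  let OW : Over S := Over.mk (W.ι ≫ V.hom)
  let ιW : OW ⟶ V := Over.homMk W.ι rfl
  let eO : OW ≅ UV := Over.isoMk ε.symm (by
    change ε.inv ≫ UV.hom = W.ι ≫ V.hom
    rw [← Over.w sndU, ← Category.assoc, hinv])
  have hι : eO.hom ≫ sndU = ιW := by
    ext
    exact hinv
  have sqIso : IsPullback ((yon S).map eO.hom) ((yon S).map ιW) ((yon S).map sndU)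
      (𝟙 ((yon S).obj V)) := by
    haveI : IsIso ((yon S).map eO.hom) := inferInstance
    exact IsPullback.of_horiz_isIso ⟨by rw [Category.comp_id, ← Functor.map_comp, hι]⟩
  have big := sqIso.paste_horiz sqU
  rw [Category.id_comp] at big
  exact ⟨_, big⟩

set_option backward.isDefEq.respectTransparency.types false in
/-- affineness of an open immersion into an algebraic space can be checked on one étale surjective chart. -/
theorem isAffineMor_of_chart {X U : Sp S} {j : U ⟶ X} (hj : RepWith @IsOpenImmersion j)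
    {V : Over S} {φ : (yon S).obj V ⟶ X} (hφe : RepWith @Etale φ) (hφs : RepWith @Surjective φ)
    {UV : Over S} {sndU : UV ⟶ V} {fstU : (yon S).obj UV ⟶ U}
    (sqU : IsPullback fstU ((yon S).map sndU) j φ) (haff : IsAffineHom sndU.left) :
    IsAffineMor j := by
  intro Z hZ g
  obtain ⟨W, snd, fst, sq⟩ := hj.1 g
  refine ⟨W, snd, fst, sq, ?_⟩
  obtain ⟨VZ, sndV, fstV', sqV⟩ := hφe.1 g
  obtain ⟨hV, rfl⟩ := (yon S).map_surjective fstV'
  haveI hEt : Etale sndV.left := hφe.2 _ _ sndV sqV
  haveI hSu : Surjective sndV.left := hφs.2 _ _ sndV sqV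
  let P : Over S := Over.mk (pullback.fst sndV.left snd.left ≫ VZ.hom)
  let pV : P ⟶ VZ := Over.homMk (pullback.fst sndV.left snd.left) rfl
  let pW : P ⟶ W := Over.homMk (pullback.snd sndV.left snd.left) (by
    change pullback.snd sndV.left snd.left ≫ W.hom = pullback.fst sndV.left snd.left ≫ VZ.hom
    rw [← Over.w snd, ← Over.w sndV, ← Category.assoc, ← Category.assoc, pullback.condition])
  have hw : pV ≫ sndV = pW ≫ snd := by
    ext
    exact pullback.condition
  have sqP : IsPullback ((yon S).map pV) ((yon S).map pW) ((yon S).map sndV) ((yon S).map snd) :=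
    Groth.Agent.Lib.H5bFibCrit.isPullback_yon_of_left pV pW sndV snd hw
      (IsPullback.of_hasPullback sndV.left snd.left)
  have big : IsPullback ((yon S).map pW ≫ fst) ((yon S).map pV) j ((yon S).map sndV ≫ g) :=
    sqP.flip.paste_horiz sq
  have hcomm : (yon S).map sndV ≫ g = (yon S).map hV ≫ φ := sqV.w.symm
  rw [hcomm] at big
  have hl : ((yon S).map pW ≫ fst) ≫ j = ((yon S).map pV ≫ (yon S).map hV) ≫ φ := by
    rw [big.w, Category.assoc]
  let l : (yon S).obj P ⟶ (yon S).obj UV := sqU.lift _ _ hl
  have h1 : l ≫ fstU = (yon S).map pW ≫ fst := sqU.lift_fst _ _ _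
  have h2 : l ≫ (yon S).map sndU = (yon S).map pV ≫ (yon S).map hV := sqU.lift_snd _ _ _
  have big' : IsPullback (l ≫ fstU) ((yon S).map pV) j ((yon S).map hV ≫ φ) := by
    rw [h1]; exact big
  have left : IsPullback l ((yon S).map pV) ((yon S).map sndU) ((yon S).map hV) :=
    IsPullback.of_right big' h2 sqU
  have hAffU : RepWith @IsAffineHom ((yon S).map sndU) := (repWith_yon_map_iff _ _).2 haff
  have hpV : IsAffineHom pV.left := hAffU.2 _ _ pV left
  have hpV' : IsAffineHom (pullback.fst sndV.left snd.left) := hpV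
  haveI := Groth.Agent.Lib.Helper12.descendsAlong_isAffineHom.{u}
  have hQ : (@Surjective ⊓ @Flat ⊓ @LocallyOfFinitePresentation : MorphismProperty Scheme.{u})
      sndV.left := ⟨⟨hSu, inferInstance⟩, inferInstance⟩
  have hsnd : IsAffineHom snd.left :=
    MorphismProperty.of_pullback_fst_of_descendsAlong (P := @IsAffineHom)
      (Q := (@Surjective ⊓ @Flat ⊓ @LocallyOfFinitePresentation : MorphismProperty Scheme.{u}))
      hQ hpV'
  haveI := hZ
  exact isAffine_of_isAffineHom snd.left

end Groth.Agent.Lib.Helper8AffCompl
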