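import Mathlib
import Groth.Agent.Lib.H9ZarLocalU
import Groth.Agent.Lib.H9FibrBirB

/-!
# Complement of an affine open, part A: general lemmas

* `eq_range_of_isProper_comp` : a dominant morphism `e : W ⟶ Γ` whose corestriction to an open `V`
  becomes proper after composing with a separated morphism out of `V` has range exactly `V`.
* `isConnected_preimage` : for a proper morphism `q` to a locally Noetherian scheme with
  `O_Y = q_* O_Γ` on affine opens, preimages of closed connected sets are connected.
* `isIso_app_of_birational` : a proper birational morphism of integral schemes onto a normal locally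
  Noetherian scheme satisfies `O_Y = q_* O_Γ`.
-/

set_option autoImplicit false
universe u
open AlgebraicGeometry CategoryTheory CategoryTheory.Limits TopologicalSpace

namespace Groth.Agent.Lib.Helper8AffComplA

/-- A dominant morphism `e : W ⟶ Γ` with range inside an open `V`, such that the corestriction of `e`
to `V` followed by a separated morphism `r` is proper, has range exactly `V`. -/
theorem eq_range_of_isProper_comp {W Γ T : Scheme.{u}} (e : W ⟶ Γ) (hd : DenseRange e.base)
    (V : Γ.Opens) (hV : Set.range e.base ⊆ (V : Set Γ))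
    (e' : W ⟶ (V : Scheme.{u})) (he' : e' ≫ V.ι = e)
    (r : (V : Scheme.{u}) ⟶ T) [IsSeparated r] [IsProper (e' ≫ r)] :
    (V : Set Γ) = Set.range e.base := by
  haveI : IsProper e' := IsProper.of_comp e' r
  have hcl : IsClosed (Set.range e'.base) := e'.isClosedMap.isClosed_range
  have hdense : Dense (Set.range e'.base) := by
    have h1 : (V.ι.base) ⁻¹' (closure (Set.range e.base)) = closure ((V.ι.base) ⁻¹' (Set.range e.base)) :=
      V.ι.isOpenEmbedding.isOpenMap.preimage_closure_eq_closure_preimage V.ι.continuous _
    have h2 : (V.ι.base) ⁻¹' (Set.range e.base) = Set.range e'.base := by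
      ext z
      constructor
      · rintro ⟨w, hw⟩
        refine ⟨w, ?_⟩
        apply V.ι.isOpenEmbedding.injective
        rw [← hw, ← he']
        rfl
      · rintro ⟨w, rfl⟩
        refine ⟨w, ?_⟩
        rw [← he']
        rfl
    rw [dense_iff_closure_eq, ← h2, ← h1, hd.closure_eq, Set.preimage_univ]
  have huniv : Set.range e'.base = Set.univ := by
    rw [← hcl.closure_eq, hdense.closure_eq]
  apply Set.Subset.antisymm _ hV
  intro z hz
  have : (⟨z, hz⟩ : V) ∈ Set.range e'.base := by rw [huniv]; trivial
  obtain ⟨w, hw⟩ := this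
  refine ⟨w, ?_⟩
  rw [← he']
  show V.ι.base (e'.base w) = z
  rw [hw]
  rfl

/-- For a proper morphism `q` to a locally Noetherian scheme with `O_Y = q_* O_Γ` on affine opens,
the preimage of a closed connected set is connected. -/
theorem isConnected_preimage {Γ Y : Scheme.{u}} (q : Γ ⟶ Y) [IsProper q] [IsLocallyNoetherian Y]
    (hiso : ∀ V : Y.Opens, IsAffineOpen V → IsIso (q.app V)) (T : Set Y) (hT : IsClosed T)
    (hTc : _root_.IsConnected T) : _root_.IsConnected (q.base ⁻¹' T) := by
  have hfib : ∀ y : Y, _root_.IsConnected (q.base ⁻¹' {y}) := by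
    intro y
    obtain ⟨_, ⟨V, hV, rfl⟩, hyV, -⟩ := Y.isBasis_affineOpens.exists_subset_of_mem_open
      (Set.mem_univ y) isOpen_univ
    haveI := Groth.Agent.Lib.H9ZarLocalU.connectedSpace_fiber_of_nhd q y V hV hyV (hiso V hV)
    have h1 : _root_.IsConnected (Set.univ : Set (q.fiber y)) := isConnected_univ
    have h2 := (q.fiberHomeo y).isConnected_image.2 h1
    rw [Set.image_univ, (q.fiberHomeo y).surjective.range_eq] at h2
    exact isConnected_iff_connectedSpace.2 (connectedSpace_iff_univ.2 h2)
  have hsurj : Function.Surjective q.base := fun y => by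
    obtain ⟨x, hx⟩ := (hfib y).nonempty
    exact ⟨x, hx⟩
  have hquot : Topology.IsQuotientMap q.base :=
    q.isClosedMap.isQuotientMap q.continuous hsurj
  exact hquot.isCoinducing.isConnected_preimage_of_isClosed hfib hT hTc

end Groth.Agent.Lib.Helper8AffComplA

namespace Groth.Agent.Lib.Helper8AffComplA

/-- the image of the generic point under a morphism which is an isomorphism over a nonempty open of
an irreducible target is the generic point -/
theorem apply_genericPoint_of_isIso_restrict {Γ Y : Scheme.{u}} [IsIntegral Γ] [IsIntegral Y]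
    (q : Γ ⟶ Y) (W : Y.Opens) (hW : (W : Set Y).Nonempty) [IsIso (q ∣_ W)] :
    q.base (genericPoint Γ) = genericPoint Y := by
  have hsurjW : Function.Surjective (q ∣_ W).base :=
    (ConcreteCategory.bijective_of_isIso (q ∣_ W).base).surjective
  -- `W ⊆ range q`
  have hWr : (W : Set Y) ⊆ Set.range q.base := by
    intro y hy
    obtain ⟨x, hx⟩ := hsurjW ⟨y, hy⟩
    refine ⟨x.1, ?_⟩
    have := morphismRestrict_base_coe q W x
    rw [← this, hx]
  have hgen : IsGenericPoint (q.base (genericPoint Γ)) (Set.univ : Set Y) := by
    rw [isGenericPoint_def]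
    apply Set.Subset.antisymm (Set.subset_univ _)
    have h1 : Set.range q.base ⊆ closure {q.base (genericPoint Γ)} := by
      have h2 : q.base '' closure {genericPoint Γ} ⊆ closure (q.base '' {genericPoint Γ}) :=
        image_closure_subset_closure_image q.continuous
      rw [(genericPoint_spec Γ).def, Set.image_univ, Set.image_singleton] at h2
      exact h2
    have h3 : Dense (W : Set Y) := W.isOpen.dense hW
    calc (Set.univ : Set Y) = closure (W : Set Y) := h3.closure_eq.symm
      _ ⊆ closure (closure {q.base (genericPoint Γ)}) := closure_mono (hWr.trans h1)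
      _ = closure {q.base (genericPoint Γ)} := closure_closure
  exact hgen.eq (genericPoint_spec Y)

/-- A proper morphism of integral schemes onto a normal locally Noetherian scheme which is an
isomorphism over a nonempty open satisfies `O_Y = q_* O_Γ`. -/
theorem isIso_app_of_birational {Γ Y : Scheme.{u}} [IsIntegral Γ] [IsIntegral Y]
    [IsLocallyNoetherian Y] (q : Γ ⟶ Y) [IsProper q] (hY : Pi1.IsNormalScheme Y)
    (W : Y.Opens) (hW : (W : Set Y).Nonempty) [IsIso (q ∣_ W)] (V : Y.Opens) :
    IsIso (q.app V) := by
  have hgen := apply_genericPoint_of_isIso_restrict q W hW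
  have h : q.base (genericPoint Γ) ⤳ genericPoint Y := by rw [hgen]
  refine Groth.Agent.Lib.H9FibrBirB.isIso_app_of_algClosed q hY h ?_ V
  intro x _
  -- the map `O_{Y,η} → K(Γ)` is surjective
  have hmemW : q.base (genericPoint Γ) ∈ W := by
    rw [hgen]
    exact ((genericPoint_spec Y).mem_open_set_iff W.isOpen).2 (by simpa using hW)
  let x₀ : (q ⁻¹ᵁ W : Γ.Opens) := ⟨genericPoint Γ, hmemW⟩
  have e := morphismRestrictStalkMap q W x₀
  have hiso1 : IsIso ((q ∣_ W).stalkMap x₀) := inferInstance
  have hiso2 : IsIso (q.stalkMap (genericPoint Γ)) := by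
    have : IsIso (Arrow.mk (q.stalkMap x₀.1)).hom :=
      (Arrow.isIso_iff_isIso_of_isIso e.hom).1 (by simpa using hiso1)
    simpa using this
  have hbij1 : Function.Bijective (q.stalkMap (genericPoint Γ)).hom :=
    ConcreteCategory.bijective_of_isIso _
  have hbij2 : Function.Bijective (Y.presheaf.stalkSpecializes h).hom := by
    have hins : Inseparable (genericPoint Y) (q.base (genericPoint Γ)) := by rw [hgen]
    have : (Y.presheaf.stalkSpecializes h) = (Y.presheaf.stalkCongr hins).hom := rfl
    rw [this]
    exact ConcreteCategory.bijective_of_isIso _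
  obtain ⟨a, ha⟩ := hbij1.surjective x
  obtain ⟨b, hb⟩ := hbij2.surjective a
  refine ⟨b, ?_⟩
  show (q.stalkMap (genericPoint Γ)).hom ((Y.presheaf.stalkSpecializes h).hom b) = x
  rw [hb, ha]

end Groth.Agent.Lib.Helper8AffComplA
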