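import Mathlib
import Groth.Agent.Lib.Helper8AffComplA
import Groth.Agent.Lib.Helper11RedCl

/-!
# Complement of an affine open, part B: closure of a graph

Given proper `S`-schemes `X`, `Ȳ`, an integral quasi-compact open `U'' ⊆ Ȳ` and an `S`-morphism
`φ : U'' ⟶ X` which is proper onto an open `U ⊆ X`, the closure `Γ` of the graph of `φ` in
`X ×_S Ȳ` is an integral scheme with proper projections `p : Γ ⟶ X`, `q : Γ ⟶ Ȳ` such that
`p⁻¹(U) = q⁻¹(U'') =` the graph, and `q` is an isomorphism over `U''`.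
-/

set_option autoImplicit false
universe u
open AlgebraicGeometry CategoryTheory CategoryTheory.Limits TopologicalSpace

namespace Groth.Agent.Lib.Helper8AffComplB

/-- the image of an integral scheme is integral. -/
theorem isIntegral_image {A B : Scheme.{u}} (f : A ⟶ B) [IsIntegral A] [QuasiCompact f] :
    IsIntegral f.image := by
  haveI : IsReduced f.image := by
    have h := Groth.Agent.Lib.Helper11RedCl.ker_eq_of_isReduced f
    show IsReduced f.ker.subscheme
    rw [h]
    exact Groth.Agent.Lib.Helper11RedCl.isReduced_subscheme_vanishingIdeal _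
  haveI : IrreducibleSpace f.image := by
    rw [irreducibleSpace_def]
    have h1 : IsIrreducible (Set.range f.toImage.base) := by
      rw [← Set.image_univ]
      exact (IrreducibleSpace.isIrreducible_univ A).image _ f.toImage.continuous.continuousOn
    have h2 := h1.closure
    rwa [f.toImage.denseRange.closure_range] at h2
  exact isIntegral_of_irreducibleSpace_of_isReduced f.image

variable {S X Yb : Scheme.{u}} (pX : X ⟶ S) (pY : Yb ⟶ S) [IsProper pX] [IsProper pY]

theorem exists_graph [QuasiSeparatedSpace S] (U'' : Yb.Opens) [CompactSpace (U'' : Scheme.{u})]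
    [IsIntegral (U'' : Scheme.{u})] (φ : (U'' : Scheme.{u}) ⟶ X) (hφ : φ ≫ pX = U''.ι ≫ pY)
    (U : X.Opens) (φ₀ : (U'' : Scheme.{u}) ⟶ (U : Scheme.{u})) (hφ₀ : φ₀ ≫ U.ι = φ)
    [IsProper φ₀] :
    ∃ (Γ : Scheme.{u}) (p : Γ ⟶ X) (q : Γ ⟶ Yb) (e : (U'' : Scheme.{u}) ⟶ Γ),
      IsIntegral Γ ∧ IsProper p ∧ IsProper q ∧ IsOpenImmersion e ∧ e ≫ p = φ ∧ e ≫ q = U''.ι ∧
      (∀ z : Γ, q.base z ∈ U'' ↔ z ∈ Set.range e.base) ∧
      (∀ z : Γ, p.base z ∈ U ↔ z ∈ Set.range e.base) ∧ IsIso (q ∣_ U'') := by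
  let Q : Scheme.{u} := pullback pX pY
  let γ : (U'' : Scheme.{u}) ⟶ Q := pullback.lift φ U''.ι hφ
  have hγ1 : γ ≫ pullback.fst pX pY = φ := pullback.lift_fst _ _ _
  have hγ2 : γ ≫ pullback.snd pX pY = U''.ι := pullback.lift_snd _ _ _
  haveI : IsImmersion γ := by
    haveI : IsImmersion (γ ≫ pullback.snd pX pY) := by rw [hγ2]; infer_instance
    exact IsImmersion.of_comp γ (pullback.snd pX pY)
  haveI : QuasiSeparatedSpace Q :=
    quasiSeparatedSpace_of_quasiSeparated (pullback.fst pX pY ≫ pX)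
  haveI : QuasiCompact γ := inferInstance
  haveI : IsOpenImmersion γ.toImage := inferInstance
  haveI : IsDominant γ.toImage := inferInstance
  have hti : γ.toImage ≫ γ.imageι = γ := γ.toImage_imageι
  let p : γ.image ⟶ X := γ.imageι ≫ pullback.fst pX pY
  let q : γ.image ⟶ Yb := γ.imageι ≫ pullback.snd pX pY
  have hep : γ.toImage ≫ p = φ := by
    show γ.toImage ≫ γ.imageι ≫ pullback.fst pX pY = φ
    rw [← Category.assoc, hti, hγ1]
  have heq : γ.toImage ≫ q = U''.ι := by
    show γ.toImage ≫ γ.imageι ≫ pullback.snd pX pY = U''.ι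
    rw [← Category.assoc, hti, hγ2]
  haveI hpp : IsProper p := by
    show IsProper (γ.imageι ≫ pullback.fst pX pY)
    infer_instance
  haveI hqp : IsProper q := by
    show IsProper (γ.imageι ≫ pullback.snd pX pY)
    infer_instance
  -- the statement about `q`
  have hrq : Set.range γ.toImage.base ⊆ ((q ⁻¹ᵁ U'' : γ.image.Opens) : Set γ.image) := by
    rintro _ ⟨y, rfl⟩
    show q.base (γ.toImage.base y) ∈ U''
    have : q.base (γ.toImage.base y) = U''.ι.base y := congrArg (fun m => m.base y) heq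
    rw [this]
    exact y.2
  let eq' : (U'' : Scheme.{u}) ⟶ ((q ⁻¹ᵁ U'' : γ.image.Opens) : Scheme.{u}) :=
    IsOpenImmersion.lift (q ⁻¹ᵁ U'').ι γ.toImage (by
      rw [Scheme.Opens.range_ι]; exact hrq)
  have heq' : eq' ≫ (q ⁻¹ᵁ U'').ι = γ.toImage := IsOpenImmersion.lift_fac _ _ _
  have heq'' : eq' ≫ (q ∣_ U'') = 𝟙 _ := by
    rw [← cancel_mono U''.ι, Category.assoc, morphismRestrict_ι, ← Category.assoc, heq', heq,
      Category.id_comp]
  haveI : IsProper (eq' ≫ (q ∣_ U'')) := by rw [heq'']; infer_instance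
  have hVq := Groth.Agent.Lib.Helper8AffComplA.eq_range_of_isProper_comp γ.toImage
    γ.toImage.denseRange (q ⁻¹ᵁ U'') hrq eq' heq' (q ∣_ U'')
  -- the statement about `p`
  have hrp : Set.range γ.toImage.base ⊆ ((p ⁻¹ᵁ U : γ.image.Opens) : Set γ.image) := by
    rintro _ ⟨y, rfl⟩
    show p.base (γ.toImage.base y) ∈ U
    have : p.base (γ.toImage.base y) = U.ι.base (φ₀.base y) := by
      have h := congrArg (fun m => m.base y) hep
      rw [← hφ₀] at h
      exact h
    rw [this]
    exact (φ₀.base y).2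
  let ep' : (U'' : Scheme.{u}) ⟶ ((p ⁻¹ᵁ U : γ.image.Opens) : Scheme.{u}) :=
    IsOpenImmersion.lift (p ⁻¹ᵁ U).ι γ.toImage (by
      rw [Scheme.Opens.range_ι]; exact hrp)
  have hep' : ep' ≫ (p ⁻¹ᵁ U).ι = γ.toImage := IsOpenImmersion.lift_fac _ _ _
  have hep'' : ep' ≫ (p ∣_ U) = φ₀ := by
    rw [← cancel_mono U.ι, Category.assoc, morphismRestrict_ι, ← Category.assoc, hep', hep, hφ₀]
  haveI : IsProper (ep' ≫ (p ∣_ U)) := by rw [hep'']; infer_instance
  have hVp := Groth.Agent.Lib.Helper8AffComplA.eq_range_of_isProper_comp γ.toImage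
    γ.toImage.denseRange (p ⁻¹ᵁ U) hrp ep' hep' (p ∣_ U)
  refine ⟨γ.image, p, q, γ.toImage, isIntegral_image γ, hpp, hqp, inferInstance, hep, heq,
    ?_, ?_, ?_⟩
  · intro z
    rw [← hVq]
    rfl
  · intro z
    rw [← hVp]
    rfl
  · -- `eq'` is a surjective open immersion, hence an isomorphism
    haveI : IsOpenImmersion eq' := by
      haveI : IsOpenImmersion (eq' ≫ (q ⁻¹ᵁ U'').ι) := by rw [heq']; infer_instance
      exact IsOpenImmersion.of_comp eq' (q ⁻¹ᵁ U'').ι
    haveI : Surjective eq' := by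
      constructor
      intro z
      have hz : (z.1 : γ.image) ∈ Set.range γ.toImage.base := by
        rw [← hVq]; exact z.2
      obtain ⟨y, hy⟩ := hz
      refine ⟨y, ?_⟩
      apply (q ⁻¹ᵁ U'').ι.isOpenEmbedding.injective
      have := congrArg (fun m => m.base y) heq'
      exact this.trans hy
    haveI : IsIso eq' := (isIso_iff_isOpenImmersion_and_epi_base eq').2
      ⟨inferInstance, (TopCat.epi_iff_surjective _).2 (‹Surjective eq'›).surj⟩
    have : q ∣_ U'' = inv eq' := by
      rw [← cancel_epi eq', heq'', IsIso.hom_inv_id]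
    rw [this]
    infer_instance

end Groth.Agent.Lib.Helper8AffComplB
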