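import Groth.Agent.Lib.R2H3NegTwistData
import Groth.Agent.Lib.R2H3VAmpleMain
import Groth.Agent.Lib.R2LeadKRR
import Groth.Agent.Lib.R2H1ZeroSchemeDiv
import Groth.Agent.Lib.Helper2ModExact
import Groth.Agent.Lib.Helper23UnitStalk

/-!
# Connectedness of the zero scheme of a regular section of an ample module (helper3, round 2)

Namespace `Groth.Agent.Lib.R2H3.ZeroConn`.

* `exists_inverse_of_isAmple`: an ample module on a scheme locally of finite type over some base has an inverse;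
* `isUnit_or_isUnit_one_sub`: global functions on a connected scheme with Artinian ring of global functions
  form a local ring;
* `isPreconnected_compl_genLocus`, `nonempty_compl_genLocus`: the sheaf-theoretic core;
* `support_zeroScheme`: the support of `Z(s)` is the complement of `X_s`;
* `main`: `Z(s)` is connected.
-/

set_option autoImplicit false
set_option linter.style.haveILetI false
set_option linter.unusedSectionVars false
universe u

open CategoryTheory CategoryTheory.Limits AlgebraicGeometry TopologicalSpace Opposite MonoidalCategory TensorProduct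

namespace Groth.Agent.Lib.R2H3.ZeroConn

open Groth.Agent.Lib.Helper23.SecTw Groth.Agent.Lib.Helper23.GenLocus Groth.Agent.Lib.Helper6
  Groth.Agent.Lib.Helper23.AmpleIso Groth.Agent.Lib.Helper23.Extend
  Groth.Agent.Lib.R2H3.NegTwist Groth.Agent.Lib.R2H2.PnSerre

section Inverse

/-- the left unitor `O ⊗ A ≅ A` -/
noncomputable def lunit {X : Scheme.{u}} (A : X.Modules) :
    CohB1.tensorMod (Coh.structureModule X) A ≅ A :=
  braidMod _ _ ≪≫ SecTwist.unitorR A

/-- an ample module on a scheme locally of finite type over some base has an inverse -/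
theorem exists_inverse_of_isAmple {X S : Scheme.{u}} (f : X ⟶ S) [LocallyOfFiniteType f]
    (L : X.Modules) (hL : CohB1.IsAmple L) : ∃ M : X.Modules, ClSub.IsInverseOf L M := by
  obtain ⟨N₀, hN₀⟩ := Groth.Agent.Lib.R2H3.VAmpleMain.main f L hL (Coh.structureModule X)
    (Groth.Agent.Lib.Helper23.TensorUnit.isInvertible_structureModule X)
  obtain ⟨n, i, -, -, ⟨e⟩⟩ := hN₀ (N₀ + 1) (Nat.le_succ _)
  obtain ⟨e1⟩ := Groth.Agent.Lib.Helper23.PB.nonempty_pullback_tensorMod_iso i
    (Twist.twistOver n S 1) (Twist.twistOver n S (-1))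
    (Groth.Agent.Lib.R2Lead.KRR.isInvertible_twistOver n S 1)
    (Groth.Agent.Lib.R2Lead.KRR.isInvertible_twistOver n S (-1))
  obtain ⟨e2⟩ := Groth.Agent.Lib.R2Lead.KRR.nonempty_twistOver_tensor_iso n S 1 (-1)
  obtain ⟨e3⟩ := Groth.Agent.Lib.R2Lead.KRR.nonempty_twistOver_zero_iso n S
  have h0 : (1 : ℤ) + (-1) = 0 := by norm_num
  let ε1 : CohB1.tensorMod ((Scheme.Modules.pullback i).obj (Twist.twistOver n S 1))
      ((Scheme.Modules.pullback i).obj (Twist.twistOver n S (-1))) ≅ Coh.structureModule X :=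
    e1.symm ≪≫ (Scheme.Modules.pullback i).mapIso (e2 ≪≫ eqToIso (by rw [h0]) ≪≫ e3) ≪≫
      Groth.Agent.Lib.Helper23.PB.pullbackUnitIso i
  refine ⟨CohB1.tensorMod (CohB1.tensorPow L N₀)
    ((Scheme.Modules.pullback i).obj (Twist.twistOver n S (-1))), ⟨?_⟩⟩
  exact (Groth.Agent.Lib.Helper23.LocGen.tensorAssoc L (CohB1.tensorPow L N₀) _).symm ≪≫
    tensorModIso (braidMod L (CohB1.tensorPow L N₀)) (Iso.refl _) ≪≫
    tensorModIso ((lunit (CohB1.tensorPow L (N₀ + 1))).symm ≪≫ e) (Iso.refl _) ≪≫ ε1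

end Inverse

section LocalRing

variable {X : Scheme.{u}}

theorem eq_zero_or_eq_one_of_isIdempotentElem [PreconnectedSpace X] (e : Γ(X, ⊤))
    (he : IsIdempotentElem e) : e = 0 ∨ e = 1 := by
  have hunion : ∀ x : X, x ∈ X.basicOpen e ∨ x ∈ X.basicOpen (1 - e) := by
    intro x
    have hx : x ∈ (⊤ : X.Opens) := trivial
    rw [Scheme.mem_basicOpen X e x hx, Scheme.mem_basicOpen X (1 - e) x hx]
    have h1 : X.presheaf.germ ⊤ x hx e + X.presheaf.germ ⊤ x hx (1 - e) = 1 := by
      rw [← map_add, add_sub_cancel, map_one]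
    exact IsLocalRing.isUnit_or_isUnit_of_add_one h1
  have hdisj : ∀ x : X, x ∈ X.basicOpen e → x ∉ X.basicOpen (1 - e) := by
    intro x h1 h2
    have h3 : x ∈ X.basicOpen (e * (1 - e)) := by
      rw [Scheme.basicOpen_mul]
      exact ⟨h1, h2⟩
    have h4 : e * (1 - e) = 0 := by
      rw [mul_sub, mul_one, he.eq, sub_self]
    rw [h4, Scheme.basicOpen_zero] at h3
    exact h3
  have hclopen : IsClopen ((X.basicOpen e : X.Opens) : Set X) := by
    refine ⟨?_, (X.basicOpen e).2⟩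
    have hc : ((X.basicOpen e : X.Opens) : Set X) = ((X.basicOpen (1 - e) : X.Opens) : Set X)ᶜ := by
      ext x
      constructor
      · intro h
        exact hdisj x h
      · intro h
        rcases hunion x with h1 | h1
        · exact h1
        · exact absurd h1 h
    rw [hc]
    exact (X.basicOpen (1 - e)).2.isClosed_compl
  have huniv : ∀ g : Γ(X, ⊤), IsIdempotentElem g → ((X.basicOpen g : X.Opens) : Set X) = Set.univ →
      g = 1 := by
    intro g hg h
    have hu : IsUnit g := by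
      apply X.toRingedSpace.isUnit_of_isUnit_germ ⊤ g
      intro x hx
      have hx' : x ∈ X.basicOpen g := by
        change x ∈ ((X.basicOpen g : X.Opens) : Set X)
        rw [h]
        trivial
      exact (Scheme.mem_basicOpen X g x hx).1 hx'
    obtain ⟨u, rfl⟩ := hu
    have h2 : (u : Γ(X, ⊤)) * u = u := hg.eq
    calc (u : Γ(X, ⊤)) = ((u⁻¹ : (Γ(X, ⊤))ˣ) : Γ(X, ⊤)) * (u * u) := by
          rw [← mul_assoc, Units.inv_mul, one_mul]
      _ = 1 := by rw [h2, Units.inv_mul]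
  rcases isClopen_iff.1 hclopen with h | h
  · left
    have h2 : ((X.basicOpen (1 - e) : X.Opens) : Set X) = Set.univ := by
      ext x
      simp only [Set.mem_univ, iff_true]
      rcases hunion x with h1 | h1
      · exfalso
        have : x ∈ ((X.basicOpen e : X.Opens) : Set X) := h1
        rw [h] at this
        exact this
      · exact h1
    have h3 := huniv (1 - e) he.one_sub h2
    have : e = 1 - (1 - e) := by ring
    rw [this, h3, sub_self]
  · right
    exact huniv e he h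

theorem isUnit_or_isUnit_one_sub [PreconnectedSpace X] [IsArtinianRing Γ(X, ⊤)] (f : Γ(X, ⊤)) :
    IsUnit f ∨ IsUnit (1 - f) := by
  obtain ⟨n, y, hy⟩ := IsArtinian.exists_pow_succ_smul_dvd f (1 : Γ(X, ⊤))
  have hy' : f ^ n = f ^ (n + 1) * y := by
    have h := hy
    simp only [smul_eq_mul, mul_one] at h
    exact h.symm
  have hj : ∀ j : ℕ, f ^ n = f ^ (n + j) * y ^ j := by
    intro j
    induction j with
    | zero => simp
    | succ j ih =>
      calc f ^ n = f ^ (n + j) * y ^ j := ih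
        _ = f ^ j * f ^ n * y ^ j := by rw [pow_add]; ring
        _ = f ^ j * (f ^ (n + 1) * y) * y ^ j := by rw [← hy']
        _ = f ^ (n + (j + 1)) * y ^ (j + 1) := by ring
  have hidem : IsIdempotentElem (f ^ n * y ^ n) := by
    change f ^ n * y ^ n * (f ^ n * y ^ n) = f ^ n * y ^ n
    have h := hj n
    calc f ^ n * y ^ n * (f ^ n * y ^ n) = (f ^ (n + n) * y ^ n) * y ^ n := by rw [pow_add]; ring
      _ = f ^ n * y ^ n := by rw [← h]
  rcases eq_zero_or_eq_one_of_isIdempotentElem _ hidem with h | h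
  · right
    have h0 : f ^ n = 0 := by
      have h2 := hj n
      have h3 : f ^ (n + n) * y ^ n = f ^ n * (f ^ n * y ^ n) := by rw [pow_add]; ring
      rw [h2, h3, h, mul_zero]
    exact IsNilpotent.isUnit_one_sub ⟨n, h0⟩
  · left
    rcases Nat.eq_zero_or_pos n with hn | hn
    · subst hn
      have h1 : f * y = 1 := by
        have := hy'
        simp only [pow_zero, zero_add, pow_one] at this
        exact this.symm
      exact IsUnit.of_mul_eq_one _ h1
    · have h1 : f * (f ^ (n - 1) * y ^ n) = 1 := by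
        rw [← mul_assoc, ← pow_succ', Nat.sub_add_cancel hn]
        exact h
      exact IsUnit.of_mul_eq_one _ h1

end LocalRing

section Core

open Groth.Agent.Lib.R2H2.HHLin

variable {X : Scheme.{u}}

/-- sections vanishing locally vanish -/
theorem eq_zero_of_locally (G : X.Modules) (V : X.Opens) (t : Γ(G, V))
    (h : ∀ x ∈ V, ∃ (W : X.Opens) (hWV : W ≤ V), x ∈ W ∧ res G hWV t = 0) : t = 0 := by
  choose W hWV hxW hres using h
  refine (modSheaf G).eq_of_locally_eq' (fun x : V => W x.1 x.2) V (fun x => homOfLE (hWV x.1 x.2))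
    ?_ t 0 (fun x => ?_)
  · intro x hx
    exact Opens.mem_iSup.2 ⟨⟨x, hx⟩, hxW x hx⟩
  · change res G _ t = res G _ 0
    rw [hres, res_zero]

theorem exists_joint_frame (M L : X.Modules) (hM : PicF.IsInvertible M) (hL : PicF.IsInvertible L)
    (s : Coh.structureModule X ⟶ L) (x : X) (V : X.Opens) (hxV : x ∈ V) :
    ∃ (W : X.Opens) (e : Γ(M, W)) (ℓ : Γ(L, W)) (f : Γ(X, W)), x ∈ W ∧ W ≤ V ∧ IsGen M W e ∧
      IsGen L W ℓ ∧ sv s W = f • ℓ := by
  obtain ⟨W₁, e₁, hx₁, he₁⟩ := exists_gen M hM x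
  obtain ⟨W₂, e₂, hx₂, he₂⟩ := exists_gen L hL x
  have h1 : W₁ ⊓ (W₂ ⊓ V) ≤ W₁ := inf_le_left
  have h2 : W₁ ⊓ (W₂ ⊓ V) ≤ W₂ := inf_le_right.trans inf_le_left
  have hℓ := he₂.mono h2
  refine ⟨W₁ ⊓ (W₂ ⊓ V), res M h1 e₁, res L h2 e₂, coef hℓ le_rfl (sv s _), ⟨hx₁, hx₂, hxV⟩,
    inf_le_right.trans inf_le_right, he₁.mono h1, hℓ, ?_⟩
  have h3 := coef_spec hℓ le_rfl (sv s (W₁ ⊓ (W₂ ⊓ V)))
  rw [res_self] at h3
  exact h3.symm

/-- the contraction `M ⟶ O` attached to a section `s` of `L` and `ε : M ⊗ L ≅ O` -/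
noncomputable def chi (M : X.Modules) {L : X.Modules}
    (ε : CohB1.tensorMod M L ≅ Coh.structureModule X) (s : Coh.structureModule X ⟶ L) :
    M ⟶ Coh.structureModule X :=
  mulSec M s ≫ ε.hom

theorem chi_app (M : X.Modules) {L : X.Modules}
    (ε : CohB1.tensorMod M L ≅ Coh.structureModule X) (s : Coh.structureModule X ⟶ L)
    (V : X.Opens) (m : Γ(M, V)) :
    (chi M ε s).app V m = ε.hom.app V (tm M L V m (sv s V)) := by
  change ε.hom.app V ((mulSec M s).app V m) = _
  rw [mulSec_app]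

theorem chi_frame (M : X.Modules) {L : X.Modules}
    (ε : CohB1.tensorMod M L ≅ Coh.structureModule X) (s : Coh.structureModule X ⟶ L)
    (W : X.Opens) (e : Γ(M, W)) (ℓ : Γ(L, W)) (f : Γ(X, W)) (hsv : sv s W = f • ℓ) (r : Γ(X, W)) :
    (chi M ε s).app W (r • e) = toS W (r * f * ofS W (ε.hom.app W (tm M L W e ℓ))) := by
  rw [chi_app, hsv, tm_smul_left, tm_smul_right, smul_smul, Scheme.Modules.Hom.app_smul]
  rfl

theorem isUnit_frame (M : X.Modules) {L : X.Modules}
    (ε : CohB1.tensorMod M L ≅ Coh.structureModule X)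
    (W : X.Opens) (e : Γ(M, W)) (ℓ : Γ(L, W)) (he : IsGen M W e) (hℓ : IsGen L W ℓ) :
    IsUnit (ofS W (ε.hom.app W (tm M L W e ℓ))) :=
  Groth.Agent.Lib.R2H3.NegTwistData.isUnit_of_isGen_structure _ _
    (Groth.Agent.Lib.Helper23.PB.isGen_of_iso ε (isGen_tm M L W e ℓ he hℓ))

theorem nzd_frame {L : X.Modules} (s : Coh.structureModule X ⟶ L)
    (hnz : ∀ (V : X.Opens) (r : Γ(X, V)), r • sv s V = 0 → r = 0)
    (W : X.Opens) (ℓ : Γ(L, W)) (f : Γ(X, W)) (hsv : sv s W = f • ℓ) (g : Γ(X, W))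
    (h : g * f = 0) : g = 0 := by
  apply hnz W g
  rw [hsv, smul_smul, h, zero_smul]

theorem chi_app_injective (M : X.Modules) {L : X.Modules} (hM : PicF.IsInvertible M)
    (hL : PicF.IsInvertible L) (ε : CohB1.tensorMod M L ≅ Coh.structureModule X)
    (s : Coh.structureModule X ⟶ L)
    (hnz : ∀ (V : X.Opens) (r : Γ(X, V)), r • sv s V = 0 → r = 0) (V : X.Opens) :
    Function.Injective ((chi M ε s).app V) := by
  have key : ∀ m : Γ(M, V), (chi M ε s).app V m = 0 → m = 0 := by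
    intro m hm
    apply eq_zero_of_locally M V m
    intro x hxV
    obtain ⟨W, e, ℓ, f, hxW, hWV, he, hℓ, hsv⟩ := exists_joint_frame M L hM hL s x V hxV
    refine ⟨W, hWV, hxW, ?_⟩
    have h1 := coef_spec he le_rfl (res M hWV m)
    rw [res_self] at h1
    have h2 : (chi M ε s).app W (res M hWV m) = 0 := by
      rw [app_res, hm, res_zero]
    rw [← h1, chi_frame M ε s W e ℓ f hsv] at h2
    have h3 : coef he le_rfl (res M hWV m) * f * ofS W (ε.hom.app W (tm M L W e ℓ)) = 0 := h2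
    have h4 : coef he le_rfl (res M hWV m) * f = 0 :=
      (isUnit_frame M ε W e ℓ he hℓ).mul_left_eq_zero.1 h3
    rw [← h1, nzd_frame s hnz W ℓ f hsv _ h4, zero_smul]
  intro a b hab
  have := key (a - b) (by rw [map_sub, hab, sub_self])
  exact sub_eq_zero.1 this

theorem pi_one_eq_zero (M : X.Modules) {L : X.Modules} (hM : PicF.IsInvertible M)
    (ε : CohB1.tensorMod M L ≅ Coh.structureModule X) (s : Coh.structureModule X ⟶ L)
    (V : X.Opens) (hV : V ≤ CohB1.genLocus L s) :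
    (cokernel.π (chi M ε s)).app V (toS V 1) = 0 := by
  apply eq_zero_of_locally _ V
  intro x hxV
  obtain ⟨W₁, e₁, hx₁, he₁⟩ := exists_gen M hM x
  have h1 : W₁ ⊓ V ≤ W₁ := inf_le_left
  have h2 : W₁ ⊓ V ≤ V := inf_le_right
  refine ⟨W₁ ⊓ V, h2, ⟨hx₁, hxV⟩, ?_⟩
  have he := he₁.mono h1
  have hℓ : IsGen L (W₁ ⊓ V) (sv s (W₁ ⊓ V)) := by
    have h3 := (isGen_sv_genLocus L s).mono (h2.trans hV)
    rwa [res_sv] at h3
  have hsv : sv s (W₁ ⊓ V) = (1 : Γ(X, W₁ ⊓ V)) • sv s (W₁ ⊓ V) := (one_smul _ _).symm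
  obtain ⟨u, hu⟩ := isUnit_frame M ε (W₁ ⊓ V) (res M h1 e₁) (sv s (W₁ ⊓ V)) he hℓ
  have h4 := chi_frame M ε s (W₁ ⊓ V) (res M h1 e₁) (sv s (W₁ ⊓ V)) 1 hsv
    ((u⁻¹ : (Γ(X, W₁ ⊓ V))ˣ) : Γ(X, W₁ ⊓ V))
  rw [← hu, mul_one, Units.inv_mul] at h4
  have h5 : res (cokernel (chi M ε s)) h2 ((cokernel.π (chi M ε s)).app V (toS V 1)) =
      (cokernel.π (chi M ε s)).app (W₁ ⊓ V) (toS (W₁ ⊓ V) 1) := by
    rw [← app_res]
    congr 1
    change toS (W₁ ⊓ V) (resf h2 1) = _
    congr 1
    exact map_one (X.presheaf.map (homOfLE h2).op).hom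
  rw [h5, ← h4]
  have h0 : (chi M ε s ≫ cokernel.π (chi M ε s)).app (W₁ ⊓ V)
      (((u⁻¹ : (Γ(X, W₁ ⊓ V))ˣ) : Γ(X, W₁ ⊓ V)) • res M h1 e₁) = 0 := by
    rw [cokernel.condition]
    rfl
  exact h0

/-- the short exact sequence `0 ⟶ M ⟶ O ⟶ Q ⟶ 0` -/
theorem shortExact_chi (M : X.Modules) {L : X.Modules} (hM : PicF.IsInvertible M)
    (hL : PicF.IsInvertible L) (ε : CohB1.tensorMod M L ≅ Coh.structureModule X)
    (s : Coh.structureModule X ⟶ L)
    (hnz : ∀ (V : X.Opens) (r : Γ(X, V)), r • sv s V = 0 → r = 0) :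
    (ShortComplex.mk (chi M ε s) (cokernel.π (chi M ε s)) (cokernel.condition _)).ShortExact := by
  haveI : Mono (chi M ε s) := Groth.Agent.Lib.R2H3.NegTwistH1.mono_of_app_injective _
    (chi_app_injective M hM hL ε s hnz)
  exact
    { exact := ShortComplex.exact_cokernel _
      mono_f := inferInstanceAs (Mono (chi M ε s))
      epi_g := inferInstanceAs (Epi (cokernel.π (chi M ε s))) }

theorem le_genLocus_of_pi_eq_zero (M : X.Modules) {L : X.Modules} (hM : PicF.IsInvertible M)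
    (hL : PicF.IsInvertible L) (ε : CohB1.tensorMod M L ≅ Coh.structureModule X)
    (s : Coh.structureModule X ⟶ L)
    (hnz : ∀ (V : X.Opens) (r : Γ(X, V)), r • sv s V = 0 → r = 0)
    (V : X.Opens) (g : Γ(X, V)) (hg : IsUnit g)
    (h : (cokernel.π (chi M ε s)).app V (toS V g) = 0) : V ≤ CohB1.genLocus L s := by
  obtain ⟨m, hm⟩ := Groth.Agent.Lib.Helper2.ModExact.exists_app_eq_of_shortExact _
    (shortExact_chi M hM hL ε s hnz) V (toS V g) h
  have hm' : (chi M ε s).app V m = toS V g := hm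
  intro x hxV
  obtain ⟨W, e, ℓ, f, hxW, hWV, he, hℓ, hsv⟩ := exists_joint_frame M L hM hL s x V hxV
  have h1 := coef_spec he le_rfl (res M hWV m)
  rw [res_self] at h1
  have h2 : (chi M ε s).app W (res M hWV m) = toS W (resf hWV g) := by
    rw [app_res, hm']
    rfl
  rw [← h1, chi_frame M ε s W e ℓ f hsv] at h2
  have h3 : coef he le_rfl (res M hWV m) * f * ofS W (ε.hom.app W (tm M L W e ℓ)) = resf hWV g := h2
  have h4 : IsUnit (coef he le_rfl (res M hWV m) * f * ofS W (ε.hom.app W (tm M L W e ℓ))) := by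
    rw [h3]
    exact hg.map _
  have h5 : IsUnit f := by
    have h6 := isUnit_of_mul_isUnit_left h4
    exact isUnit_of_mul_isUnit_right h6
  have h7 := genLocus_inf_eq_of_isGen L s W ℓ f hℓ hsv
  rw [Scheme.basicOpen_of_isUnit X h5] at h7
  have h8 : x ∈ CohB1.genLocus L s ⊓ W := by
    rw [h7]
    exact hxW
  exact h8.1

theorem surjective_pi_top (M : X.Modules) {L : X.Modules} (hM : PicF.IsInvertible M)
    (hL : PicF.IsInvertible L) (ε : CohB1.tensorMod M L ≅ Coh.structureModule X)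
    (s : Coh.structureModule X ⟶ L)
    (hnz : ∀ (V : X.Opens) (r : Γ(X, V)), r • sv s V = 0 → r = 0)
    (hH1 : Subsingleton (Coh.HH X M 1)) :
    Function.Surjective ((cokernel.π (chi M ε s)).app ⊤) := by
  intro y
  have hS := shortExact_chi M hM hL ε s hnz
  obtain ⟨x₂, hx₂⟩ := exact₃ _ hS 0 ((h0Equiv _).symm y) (Subsingleton.elim _ _)
  refine ⟨h0Equiv _ x₂, ?_⟩
  have h1 := hh0_nat (cokernel.π (chi M ε s)) x₂
  rw [← h1]
  have h2 : HmapL (cokernel.π (chi M ε s)) 0 x₂ = (h0Equiv _).symm y := hx₂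
  rw [h2]
  exact (h0Equiv _).apply_symm_apply y

end Core

section Conn

open Groth.Agent.Lib.R2H2.HHLin

variable {X : Scheme.{u}}

theorem isPreconnected_compl_genLocus (hloc : ∀ f₀ : Γ(X, ⊤), IsUnit f₀ ∨ IsUnit (1 - f₀))
    (M : X.Modules) {L : X.Modules} (hM : PicF.IsInvertible M)
    (hL : PicF.IsInvertible L) (ε : CohB1.tensorMod M L ≅ Coh.structureModule X)
    (s : Coh.structureModule X ⟶ L)
    (hnz : ∀ (V : X.Opens) (r : Γ(X, V)), r • sv s V = 0 → r = 0)
    (hH1 : Subsingleton (Coh.HH X M 1)) :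
    IsPreconnected (((CohB1.genLocus L s : X.Opens) : Set X)ᶜ) := by
  have hcl : IsClosed (((CohB1.genLocus L s : X.Opens) : Set X)ᶜ) :=
    (CohB1.genLocus L s).2.isClosed_compl
  rw [isPreconnected_iff_subset_of_fully_disjoint_closed hcl]
  intro u v hu hv hsub hdisj
  let V₁ : X.Opens := ⟨vᶜ, hv.isOpen_compl⟩
  let V₂ : X.Opens := ⟨uᶜ, hu.isOpen_compl⟩
  have hcov : (⊤ : X.Opens) ≤ V₁ ⊔ V₂ := by
    intro x _
    by_cases hxv : x ∈ v
    · right
      exact fun hxu => Set.disjoint_left.1 hdisj hxu hxv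
    · left
      exact hxv
  have hint : V₁ ⊓ V₂ ≤ CohB1.genLocus L s := by
    rintro x ⟨hx1, hx2⟩
    by_contra hxG
    rcases hsub hxG with h | h
    · exact hx2 h
    · exact hx1 h
  have hglue : res (cokernel (chi M ε s)) (inf_le_left : V₁ ⊓ V₂ ≤ V₁)
      ((cokernel.π (chi M ε s)).app V₁ (toS V₁ 1)) =
      res (cokernel (chi M ε s)) (inf_le_right : V₁ ⊓ V₂ ≤ V₂) 0 := by
    rw [res_zero, ← app_res]
    have h1 : res (Coh.structureModule X) (inf_le_left : V₁ ⊓ V₂ ≤ V₁) (toS V₁ 1) =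
        toS (V₁ ⊓ V₂) 1 := by
      change toS (V₁ ⊓ V₂) (resf inf_le_left 1) = _
      congr 1
      exact map_one (X.presheaf.map (homOfLE (inf_le_left : V₁ ⊓ V₂ ≤ V₁)).op).hom
    rw [h1]
    exact pi_one_eq_zero M hM ε s _ hint
  obtain ⟨q, hq1, hq2⟩ := exists_res_eq₂ (cokernel (chi M ε s)) (le_top : V₁ ≤ ⊤) (le_top : V₂ ≤ ⊤)
    hcov inf_le_left inf_le_right le_rfl _ _ hglue
  obtain ⟨t, ht⟩ := surjective_pi_top M hM hL ε s hnz hH1 q
  rcases hloc (ofS ⊤ t) with hunit | hunit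
  · left
    have h1 : (cokernel.π (chi M ε s)).app V₂ (toS V₂ (resf le_top (ofS ⊤ t))) = 0 := by
      have h2 : toS V₂ (resf le_top (ofS ⊤ t)) =
          res (Coh.structureModule X) (le_top : V₂ ≤ ⊤) t := rfl
      rw [h2, app_res, ht, hq2]
    have h3 := le_genLocus_of_pi_eq_zero M hM hL ε s hnz V₂ _
      (hunit.map (X.presheaf.map (homOfLE (le_top : V₂ ≤ ⊤)).op).hom) h1
    intro x hxZ
    by_contra hxu
    exact hxZ (h3 hxu)
  · right
    have h1 : (cokernel.π (chi M ε s)).app V₁ (toS V₁ (resf le_top (1 - ofS ⊤ t))) = 0 := by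
      have h2 : toS V₁ (resf le_top (1 - ofS ⊤ t)) =
          toS V₁ 1 - res (Coh.structureModule X) (le_top : V₁ ≤ ⊤) t := by
        have h4 : resf (le_top : V₁ ≤ ⊤) (1 - ofS ⊤ t) = 1 - resf (le_top : V₁ ≤ ⊤) (ofS ⊤ t) := by
          have := map_sub (X.presheaf.map (homOfLE (le_top : V₁ ≤ ⊤)).op).hom 1 (ofS ⊤ t)
          rw [map_one] at this
          exact this
        rw [h4]
        rfl
      rw [h2, map_sub, app_res, ht, hq1, sub_self]
    have h3 := le_genLocus_of_pi_eq_zero M hM hL ε s hnz V₁ _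
      (hunit.map (X.presheaf.map (homOfLE (le_top : V₁ ≤ ⊤)).op).hom) h1
    intro x hxZ
    by_contra hxv
    exact hxZ (h3 hxv)

theorem nonempty_compl_genLocus [Nonempty X]
    (M : X.Modules) {L : X.Modules} (hM : PicF.IsInvertible M)
    (hL : PicF.IsInvertible L) (ε : CohB1.tensorMod M L ≅ Coh.structureModule X)
    (s : Coh.structureModule X ⟶ L)
    (hnz : ∀ (V : X.Opens) (r : Γ(X, V)), r • sv s V = 0 → r = 0)
    (hH0 : Subsingleton (Coh.HH X M 0)) :
    (((CohB1.genLocus L s : X.Opens) : Set X)ᶜ).Nonempty := by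
  by_contra hne
  rw [Set.not_nonempty_iff_eq_empty, Set.compl_empty_iff] at hne
  have htop : (⊤ : X.Opens) ≤ CohB1.genLocus L s := by
    intro x _
    change x ∈ ((CohB1.genLocus L s : X.Opens) : Set X)
    rw [hne]
    trivial
  have h1 := pi_one_eq_zero M hM ε s ⊤ htop
  obtain ⟨m, hm⟩ := Groth.Agent.Lib.Helper2.ModExact.exists_app_eq_of_shortExact _
    (shortExact_chi M hM hL ε s hnz) ⊤ (toS ⊤ 1) h1
  have hm' : (chi M ε s).app ⊤ m = toS ⊤ 1 := hm
  have hm0 : m = 0 := (h0Equiv M).symm.injective (Subsingleton.elim _ _)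
  have h2 : toS ⊤ (1 : Γ(X, ⊤)) = 0 := by rw [← hm', hm0, map_zero]
  have h3 : (1 : Γ(X, ⊤)) = 0 := congrArg (ofS ⊤) h2
  obtain ⟨x⟩ := ‹Nonempty X›
  have hx : x ∈ (⊤ : X.Opens) := trivial
  have h4 : (1 : X.presheaf.stalk x) = 0 := by
    have h5 := congrArg (X.presheaf.germ ⊤ x hx) h3
    rwa [map_one, map_zero] at h5
  exact one_ne_zero h4

end Conn

section Final

open Groth.Agent.Lib.R2H2.HHLin Groth.Agent.Lib.R2H1.ZeroSchemeDiv

variable {X : Scheme.{u}}

theorem isCoh_structureModule (X : Scheme.{u}) : Coh.IsCoh (Coh.structureModule X) :=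
  ⟨Groth.Agent.Lib.Helper23.Serre.isQuasicoherent_structureModule' X,
    Groth.Agent.Lib.R2H2.PnFinite.isFiniteType_structureModule X⟩

/-- the ring of global functions of a proper scheme over a field is Artinian -/
theorem isArtinianRing_top (k : Type u) [Field k] (X : Scheme.{u}) [X.Over (Spec (CommRingCat.of k))]
    [IsProper (X ↘ Spec (CommRingCat.of k))] : IsArtinianRing Γ(X, ⊤) := by
  letI : Algebra k Γ(X, ⊤) := (kMap (X := X) k ⊤).toAlgebra
  haveI hfin : Module.Finite k (Coh.HH X (Coh.structureModule X) 0) :=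
    Groth.Agent.S0002.result k X _ (isCoh_structureModule X) 0
  letI : Module k Γ(Coh.structureModule X, ⊤) := Module.compHom _ (kMap (X := X) k ⊤)
  have hsurj : Function.Surjective (resLin k (Coh.structureModule X) ⊤) := by
    intro y
    refine ⟨(h0Equiv _).symm y, ?_⟩
    rw [resLin_apply, AddEquiv.apply_symm_apply]
    exact res_self _ y
  haveI : Module.Finite k Γ(Coh.structureModule X, ⊤) := Module.Finite.of_surjective _ hsurj
  let ψ : Γ(Coh.structureModule X, ⊤) ≃ₗ[k] Γ(X, ⊤) :=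
    { toFun := ofS ⊤
      invFun := toS ⊤
      map_add' := fun _ _ => rfl
      map_smul' := fun _ _ => rfl
      left_inv := fun _ => rfl
      right_inv := fun _ => rfl }
  haveI : Module.Finite k Γ(X, ⊤) := Module.Finite.equiv ψ
  exact IsArtinianRing.of_finite k Γ(X, ⊤)

theorem nz_of_mono {L : X.Modules} (s : Coh.structureModule X ⟶ L) [Mono s] (V : X.Opens)
    (r : Γ(X, V)) (h : r • sv s V = 0) : r = 0 := by
  have h1 : s.app V (toS V r) = s.app V 0 := by
    rw [app_toS, h, map_zero]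
  exact congrArg (ofS V) (injective_app_of_mono s V h1)

theorem nz_powHom {L : X.Modules} (hL : PicF.IsInvertible L) (s : Coh.structureModule X ⟶ L)
    (hnz : ∀ (V : X.Opens) (r : Γ(X, V)), r • sv s V = 0 → r = 0) (m : ℕ) (V : X.Opens)
    (r : Γ(X, V)) (h : r • sv (SecTwist.powHom s m) V = 0) : r = 0 := by
  have h0 : toS V r = 0 := by
    apply eq_zero_of_locally _ V
    intro x hxV
    obtain ⟨W₂, ℓ₂, hx₂, hℓ₂⟩ := exists_gen L hL x
    have hWV : W₂ ⊓ V ≤ V := inf_le_right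
    have hℓ := hℓ₂.mono (inf_le_left : W₂ ⊓ V ≤ W₂)
    refine ⟨W₂ ⊓ V, hWV, ⟨hx₂, hxV⟩, ?_⟩
    have hsv : sv s (W₂ ⊓ V) = coef hℓ le_rfl (sv s (W₂ ⊓ V)) • res L inf_le_left ℓ₂ := by
      have h3 := coef_spec hℓ le_rfl (sv s (W₂ ⊓ V))
      rw [res_self] at h3
      exact h3.symm
    have h1 : resf hWV r • sv (SecTwist.powHom s m) (W₂ ⊓ V) = 0 := by
      rw [← res_sv (SecTwist.powHom s m) hWV, ← res_smul, h, res_zero]
    rw [sv_powHom, hsv, pw_smul, smul_smul] at h1
    have h2 : resf hWV r * coef hℓ le_rfl (sv s (W₂ ⊓ V)) ^ m = 0 := by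
      apply (isGen_pw L _ _ hℓ m (W₂ ⊓ V) le_rfl).1
      change _ • res _ (le_refl _) _ = (0 : Γ(X, W₂ ⊓ V)) • res _ (le_refl _) _
      rw [res_self, h1, zero_smul]
    have h3 : ∀ (j : ℕ) (g : Γ(X, W₂ ⊓ V)), g * coef hℓ le_rfl (sv s (W₂ ⊓ V)) ^ j = 0 → g = 0 := by
      intro j
      induction j with
      | zero => intro g hg; simpa using hg
      | succ j ih =>
        intro g hg
        apply ih
        apply nzd_frame s hnz _ _ _ hsv
        rw [mul_assoc, ← pow_succ]
        exact hg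
    have h4 : resf hWV r = 0 := h3 m _ h2
    change toS (W₂ ⊓ V) (resf hWV r) = 0
    rw [h4]
    rfl
  exact congrArg (ofS V) h0

/-- the support of the zero scheme of a section of an invertible module is the complement of `X_s` -/
theorem support_zeroScheme (L : X.Modules) (hL : PicF.IsInvertible L)
    (s : Coh.structureModule X ⟶ L) :
    ((PicF2.zeroScheme L s).support : Set X) = ((CohB1.genLocus L s : X.Opens) : Set X)ᶜ := by
  ext x
  obtain ⟨W₀, ℓ₀, hxW₀, hℓ₀⟩ := exists_gen L hL x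
  obtain ⟨U, hU, hxU, hUW⟩ : ∃ U : X.Opens, IsAffineOpen U ∧ x ∈ U ∧ U ≤ W₀ := by
    obtain ⟨U, hU, hxU, hle⟩ := Opens.isBasis_iff_nbhd.1 X.isBasis_affineOpens hxW₀
    exact ⟨U, hU, hxU, hle⟩
  have hℓ := hℓ₀.mono hUW
  have hsv : sv s U = coef hℓ le_rfl (sv s U) • res L hUW ℓ₀ := by
    have h3 := coef_spec hℓ le_rfl (sv s U)
    rw [res_self] at h3
    exact h3.symm
  have hb : Function.Bijective (fun r : Γ(X, U) => r • res L hUW ℓ₀) := by
    have h3 := hℓ U le_rfl
    have h4 : (fun r : Γ(X, U) => r • res L (le_refl U) (res L hUW ℓ₀)) =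
        fun r : Γ(X, U) => r • res L hUW ℓ₀ := by
      funext r
      rw [res_self]
    rwa [h4] at h3
  have hideal : (PicF2.zeroScheme L s).ideal ⟨U, hU⟩ = Ideal.span {coef hℓ le_rfl (sv s U)} := by
    rw [zeroScheme_ideal L hL s ⟨U, hU⟩]
    exact zeroIdealOn_eq_span L s U (res L hUW ℓ₀) _ hb hsv
  have h7 := genLocus_inf_eq_of_isGen L s U (res L hUW ℓ₀) _ hℓ hsv
  rw [SetLike.mem_coe, Scheme.IdealSheafData.mem_support_iff_of_mem (U := ⟨U, hU⟩) hxU, hideal,
    Scheme.mem_zeroLocus_iff]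
  constructor
  · intro h hxG
    refine h _ (Ideal.subset_span rfl) ?_
    rw [← h7]
    exact ⟨hxG, hxU⟩
  · intro h g hg hxg
    obtain ⟨c, rfl⟩ := Ideal.mem_span_singleton'.1 hg
    rw [Scheme.basicOpen_mul] at hxg
    have h8 : x ∈ CohB1.genLocus L s ⊓ U := by
      rw [h7]
      exact hxg.2
    exact h h8.1

theorem connectedSpace_subscheme (I : X.IdealSheafData) (h : _root_.IsConnected (I.support : Set X)) :
    ConnectedSpace ↥I.subscheme := by
  have hind : Topology.IsInducing I.subschemeι := I.subschemeι.isEmbedding.isInducing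
  have hrange : Set.range I.subschemeι = I.support := I.range_subschemeι
  rw [connectedSpace_iff_univ]
  rw [← hrange, ← Set.image_univ] at h
  exact ⟨(Set.image_nonempty.1 h.1), hind.isPreconnected_image.1 h.2⟩

end Final

section Main

open Groth.Agent.Lib.R2H2.HHLin

/-- **The zero scheme of a regular section of an ample module is connected** on a connected proper
scheme over a field whose local rings at closed points have depth `≥ 2`. -/
theorem main (k : Type u) [Field k] (X : Scheme.{u}) [X.Over (Spec (CommRingCat.of k))]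
    [IsProper (X ↘ (Spec (CommRingCat.of k)))] [ConnectedSpace X] (L : X.Modules)
    (hL : CohB1.IsAmple L) (s : Coh.structureModule X ⟶ L) (hs : Mono s)
    (hdepth : ∀ x : X, IsClosed ({x} : Set X) →
      2 ≤ LocCoh.depth (X.presheaf.stalk x) (X.presheaf.stalk x)) :
    ConnectedSpace ↥(PicF2.zeroScheme L s).subscheme := by
  have hLi := hL.1
  haveI : CompactSpace X := hL.2.1
  haveI : IsLocallyNoetherian X :=
    LocallyOfFiniteType.isLocallyNoetherian (X ↘ Spec (CommRingCat.of k))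
  haveI : IsNoetherian X := {}
  obtain ⟨M, hM⟩ := exists_inverse_of_isAmple (X ↘ Spec (CommRingCat.of k)) L hL
  have hMi := isInvertible_of_isInverseOf L M hM
  have hO := isCoh_structureModule X
  -- depth of the structure module
  have hdepthO : ∀ x : X, IsClosed ({x} : Set X) →
      2 ≤ LocCoh.depth (X.presheaf.stalk x) ((Coh.structureModule X).presheaf.stalk x) := by
    intro x hx
    have hd : LocCoh.depth (X.presheaf.stalk x) (X.presheaf.stalk x) =
        LocCoh.depth (X.presheaf.stalk x) ((Coh.structureModule X).presheaf.stalk x) :=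
      Groth.Agent.Lib.Helper28.idealDepth_congr
        (Groth.Agent.Lib.Helper23.UnitStalk.unitStalkEquiv x) _
    rw [← hd]
    exact hdepth x hx
  haveI : (Coh.structureModule X).IsQuasicoherent := hO.1
  haveI : SheafOfModules.IsFiniteType (R := X.ringCatSheaf) (Coh.structureModule X) := hO.2
  have hnotcl : ∀ x : X, IsClosed ({x} : Set X) → ¬ Curv2.IsAssPoint (Coh.structureModule X) x := by
    intro x hcl hx
    haveI := Groth.Agent.Lib.Helper2.FibreCrit.finite_stalk (Coh.structureModule X) x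
    have h2 := hdepthO x hcl
    have h0 : LocCoh.depth (X.presheaf.stalk x) ((Coh.structureModule X).presheaf.stalk x) = 0 :=
      Groth.Agent.Lib.Helper28.depth_eq_zero_iff.2 hx
    rw [h0] at h2
    exact absurd h2 (by simp)
  obtain ⟨m₀, hm₀⟩ := Groth.Agent.Lib.R2H3.NegTwistData.main k X L hL M hM
    (Coh.structureModule X) hO hdepthO
  obtain ⟨m₁, hm₁⟩ := Groth.Agent.Lib.R2H3.NegTwist.main k X L hL M hM
    (Coh.structureModule X) hO hnotcl
  have hmpos : 0 < max m₀ m₁ + 1 := Nat.succ_pos _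
  have hH1 : Subsingleton (Coh.HH X (CohB1.tensorPow M (max m₀ m₁ + 1)) 1) :=
    subsingleton_HH_of_iso (lunit (CohB1.tensorPow M (max m₀ m₁ + 1))) 1
      (hm₀ _ (le_trans (le_max_left m₀ m₁) (Nat.le_succ _)))
  have hH0 : Subsingleton (Coh.HH X (CohB1.tensorPow M (max m₀ m₁ + 1)) 0) :=
    subsingleton_HH_of_iso (lunit (CohB1.tensorPow M (max m₀ m₁ + 1))) 0
      (hm₁ _ (le_trans (le_max_right m₀ m₁) (Nat.le_succ _)))
  obtain ⟨e₀⟩ := hM
  obtain ⟨b⟩ := nonempty_tensorPow_tensorMod_iso M L hMi hLi (max m₀ m₁ + 1)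
  let ε : CohB1.tensorMod (CohB1.tensorPow M (max m₀ m₁ + 1)) (CohB1.tensorPow L (max m₀ m₁ + 1)) ≅
      Coh.structureModule X :=
    b ≪≫ tensorPowIso (braidMod M L ≪≫ e₀) (max m₀ m₁ + 1) ≪≫
      Groth.Agent.Lib.Helper23.TensorUnit.tensorPowUnitIso (max m₀ m₁ + 1)
  haveI := hs
  have hnz : ∀ (V : X.Opens) (r : Γ(X, V)),
      r • sv (SecTwist.powHom s (max m₀ m₁ + 1)) V = 0 → r = 0 :=
    nz_powHom hLi s (nz_of_mono s) (max m₀ m₁ + 1)
  haveI : IsArtinianRing Γ(X, ⊤) := isArtinianRing_top k X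
  have hpre := isPreconnected_compl_genLocus (isUnit_or_isUnit_one_sub (X := X))
    (CohB1.tensorPow M (max m₀ m₁ + 1)) (isInvertible_tensorPow hMi _) (isInvertible_tensorPow hLi _)
    ε (SecTwist.powHom s (max m₀ m₁ + 1)) hnz hH1
  have hne := nonempty_compl_genLocus
    (CohB1.tensorPow M (max m₀ m₁ + 1)) (isInvertible_tensorPow hMi _) (isInvertible_tensorPow hLi _)
    ε (SecTwist.powHom s (max m₀ m₁ + 1)) hnz hH0
  rw [genLocus_powHom hLi s _ hmpos] at hpre hne
  apply connectedSpace_subscheme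
  rw [support_zeroScheme L hLi s]
  exact ⟨hne, hpre⟩

end Main

end Groth.Agent.Lib.R2H3.ZeroConn
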