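import Groth.Agent.Lib.R2H3NegTwistData
import Groth.Agent.Lib.R2H3ZeroConn
import Groth.Agent.Lib.R2LeadKRR
import Groth.Agent.Lib.R2H2QProjK0
import Groth.Agent.Lib.Helper27TwistAmple2
import Groth.Agent.Lib.R2H2NilFilt
import Groth.Agent.Lib.Helper23Restr
import Groth.Agent.Lib.R2H3VAmpleMor
import Groth.Agent.Lib.Helper2ModExact
import Groth.Agent.S9705

/-!
# `h⁰(F(-1)) < h⁰(F)` on `P^N_k` for coherent `F` without closed associated points (helper3, round 2)

Namespace `Groth.Agent.Lib.R2H3.PnH0Drop`.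
-/

set_option autoImplicit false
set_option linter.style.haveILetI false
set_option linter.unusedSectionVars false
universe u

open CategoryTheory CategoryTheory.Limits AlgebraicGeometry TopologicalSpace Opposite MonoidalCategory TensorProduct

namespace Groth.Agent.Lib.R2H3.PnH0Drop

open Groth.Agent.Lib.Helper23.SecTw Groth.Agent.Lib.Helper23.GenLocus Groth.Agent.Lib.Helper6
  Groth.Agent.Lib.Helper23.AmpleIso Groth.Agent.Lib.Helper23.Extend
  Groth.Agent.Lib.R2H3.NegTwist Groth.Agent.Lib.R2H2.PnSerre Groth.Agent.Lib.R2H2.PnBeilinson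
  Groth.Agent.Lib.R2H3.NegTwistLin Groth.Agent.Lib.R2H3.NegTwistCalc Groth.Agent.Lib.R2H3.NegTwistH1
  Groth.Agent.Lib.Helper2.Ass Groth.Agent.S8890

section General

variable {X : Scheme.{u}}

/-- contraction with `χ : N ⟶ O` is injective on sections if `χ` is a unit on local generators of `N`
over an open containing all associated points -/
theorem eta_app_injective [IsLocallyNoetherian X] (N : X.Modules) (hN : PicF.IsInvertible N)
    (χ : N ⟶ Coh.structureModule X) (G : X.Modules) (hG : Coh.IsCoh G) (U : X.Opens)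
    (hσ : ∀ (W : X.Opens), W ≤ U → ∀ e : Γ(N, W), IsGen N W e → IsUnit (ofS W (χ.app W e)))
    (hp : ∀ x, Curv2.IsAssPoint G x → x ∈ U) (V : X.Opens) :
    Function.Injective ((eta N χ G).app V) := by
  haveI : G.IsQuasicoherent := hG.1
  have hGN : Coh.IsCoh (CohB1.tensorMod G N) :=
    Groth.Agent.Lib.R2H3.AmpleSV.isCoh_tensorMod_invertible G N hG hN
  haveI : (CohB1.tensorMod G N).IsQuasicoherent := hGN.1
  haveI : ((twR N).obj G).IsQuasicoherent := hGN.1
  have key : ∀ t : Γ((twR N).obj G, V), (eta N χ G).app V t = 0 → t = 0 := by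
    intro t ht
    by_contra hne
    obtain ⟨y, hyV, hass, hgerm⟩ := exists_isWeakAssPoint_of_ne_zero_open ((twR N).obj G) V t hne
    have hassG : Curv2.IsAssPoint G y :=
      (isAssPoint_tensor_iff G N hN y).1 ((isAssPoint_iff_isWeakAssPoint _ y).2 hass)
    have hyU : y ∈ U := hp y hassG
    obtain ⟨W₀, e₀, hyW₀, he₀⟩ := exists_gen N hN y
    let W : X.Opens := W₀ ⊓ (V ⊓ U)
    have hWW₀ : W ≤ W₀ := inf_le_left
    have hWV : W ≤ V := inf_le_right.trans inf_le_left
    have hWU : W ≤ U := inf_le_right.trans inf_le_right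
    have hyW : y ∈ W := ⟨hyW₀, hyV, hyU⟩
    have he : IsGen N W (res N hWW₀ e₀) := he₀.mono hWW₀
    obtain ⟨g, hg⟩ := (bijective_tm_of_isGen G N W (res N hWW₀ e₀) he W le_rfl).2
      (res ((twR N).obj G) hWV t)
    have hg' : tm G N W g (res N hWW₀ e₀) = res ((twR N).obj G) hWV t := by
      rw [← hg]
      change _ = tm G N W g (res N (le_refl W) (res N hWW₀ e₀))
      rw [res_self]
    have h1 : (eta N χ G).app W (res ((twR N).obj G) hWV t) = 0 := by
      rw [app_res, ht, res_zero]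
    rw [← hg', eta_tm] at h1
    have hg0 : g = 0 := (hσ W hWU _ he).smul_eq_zero.1 h1
    apply hgerm
    have h2 := TopCat.Presheaf.germ_res_apply ((twR N).obj G).presheaf (homOfLE hWV) y hyW t
    rw [← h2]
    change ((twR N).obj G).presheaf.germ W y hyW (res ((twR N).obj G) hWV t) = 0
    rw [← hg', hg0, tm_zero_left]
    exact map_zero _
  intro t t' htt
  have := key (t - t') (by rw [map_sub, htt, sub_self])
  exact sub_eq_zero.1 this

/-- associated points of a subobject are associated points -/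
theorem isAssPoint_of_mono {A B : X.Modules} (ι : A ⟶ B) [Mono ι] (x : X)
    (h : Curv2.IsAssPoint A x) : Curv2.IsAssPoint B x := by
  have hinj : Function.Injective (ψₗ ι x) := by
    intro a a' haa
    have h0 : ψ ι x (a - a') = 0 := by
      have : ψₗ ι x (a - a') = 0 := by rw [map_sub, haa, sub_self]
      exact this
    obtain ⟨U, hxU, m, hm⟩ := TopCat.Presheaf.exists_germ_eq A.presheaf (a - a')
    rw [← hm, ψ_germ] at h0
    have h1 := Groth.Agent.Lib.Helper2.ModExact.germ_eq_zero_of_app ι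
      (fun V => Groth.Agent.Lib.Helper2.ModExact.app_injective_of_mono ι V) U x hxU m h0
    rw [hm] at h1
    exact sub_eq_zero.1 h1
  exact h.map_of_injective (ψₗ ι x) hinj

/-- `sv` of `secHom` at `⊤` -/
theorem sv_secHom_top (M : X.Modules) (σ : Γ(M, ⊤)) : sv (secHom M σ) ⊤ = σ := by
  rw [sv_secHom]
  exact res_self M σ

/-- **Key lemma.** A nonzero global section `s` of a coherent `F` without closed associated points is
not in the image of the contraction `F ⊗ N ⟶ F` (`N` inverse of an ample `L`) when the contraction is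
a unit on an open containing the associated points of `F` and of `F / O s`. -/
theorem eta_app_top_ne (k : Type u) [Field k] [X.Over (Spec (CommRingCat.of k))]
    [IsProper (X ↘ Spec (CommRingCat.of k))]
    (L : X.Modules) (hL : CohB1.IsAmple L) (N : X.Modules) (hM : ClSub.IsInverseOf L N)
    (χ : N ⟶ Coh.structureModule X) (U : X.Opens)
    (hσ : ∀ (W : X.Opens), W ≤ U → ∀ e : Γ(N, W), IsGen N W e → IsUnit (ofS W (χ.app W e)))
    (F : X.Modules) (hF : Coh.IsCoh F)
    (hncl : ∀ x : X, IsClosed ({x} : Set X) → ¬ Curv2.IsAssPoint F x)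
    (s : Γ(F, ⊤)) (hs : s ≠ 0)
    (hFU : ∀ x, Curv2.IsAssPoint F x → x ∈ U)
    (hGU : ∀ x, Curv2.IsAssPoint (cokernel (secHom F s)) x → x ∈ U)
    (t : Γ((twR N).obj F, ⊤)) : (eta N χ F).app ⊤ t ≠ s := by
  intro hts
  haveI : CompactSpace X := hL.2.1
  haveI : IsLocallyNoetherian X := LocallyOfFiniteType.isLocallyNoetherian (X ↘ Spec (CommRingCat.of k))
  haveI : IsNoetherian X := {}
  have hN : PicF.IsInvertible N := isInvertible_of_isInverseOf L N hM
  obtain ⟨s', hs'⟩ : ∃ s' : Coh.structureModule X ⟶ F, s' = secHom F s := ⟨_, rfl⟩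
  rw [← hs'] at hGU
  have hsv : sv s' ⊤ = s := by rw [hs']; exact sv_secHom_top F s
  have hs1 : s'.app ⊤ (toS ⊤ 1) = s := by rw [app_toS, one_smul, hsv]
  have hO : Coh.IsCoh (Coh.structureModule X) := Groth.Agent.Lib.R2H3.ZeroConn.isCoh_structureModule X
  have hGc : Coh.IsCoh (cokernel s') := Groth.Agent.Lib.R2H2.NilFilt.isCoh_cokernel hO hF s'
  have hIc : Coh.IsCoh (Abelian.image s') :=
    Groth.Agent.Lib.R2H2.PdSheaf.isCoh_kernel hF hGc (cokernel.π s')
  -- `π s = 0`
  have hπs : (cokernel.π s').app ⊤ s = 0 := by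
    rw [← hs1]
    change (s' ≫ cokernel.π s').app ⊤ (toS ⊤ 1) = 0
    rw [cokernel.condition]
    rfl
  -- step 1
  have h1 : ((twR N).map (cokernel.π s')).app ⊤ t = 0 := by
    apply eta_app_injective N hN χ (cokernel s') hGc U hσ hGU ⊤
    have hnat := eta_natural N hN χ (cokernel.π s')
    have h2 : (eta N χ (cokernel s')).app ⊤ (((twR N).map (cokernel.π s')).app ⊤ t) =
        (cokernel.π s').app ⊤ ((eta N χ F).app ⊤ t) := by
      change ((twR N).map (cokernel.π s') ≫ eta N χ (cokernel s')).app ⊤ t =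
        (eta N χ F ≫ cokernel.π s').app ⊤ t
      rw [hnat]
    rw [h2, hts, hπs, map_zero]
  -- the short exact sequence
  let S : ShortComplex X.Modules :=
    ShortComplex.mk (Abelian.image.ι s') (cokernel.π s') (kernel.condition (cokernel.π s'))
  have hS : S.ShortExact :=
    ShortComplex.ShortExact.mk' (S.exact_of_f_is_kernel (kernelIsKernel (cokernel.π s')))
      (show Mono (Abelian.image.ι s') from inferInstance)
      (show Epi (cokernel.π s') from inferInstance)
  have hS' := shortExact_map_twR N hN S hS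
  obtain ⟨t₁, ht₁'⟩ : ∃ t₁ : Γ((twR N).obj (Abelian.image s'), ⊤),
      ((twR N).map (Abelian.image.ι s')).app ⊤ t₁ = t :=
    Groth.Agent.Lib.Helper2.ModExact.exists_app_eq_of_shortExact _ hS' ⊤ t h1
  -- the lift of `s'`
  obtain ⟨p, hp, hpepi⟩ : ∃ p : Coh.structureModule X ⟶ Abelian.image s',
      p ≫ Abelian.image.ι s' = s' ∧ Epi p :=
    ⟨Abelian.factorThruImage s', Abelian.image.fac s', inferInstance⟩
  obtain ⟨ι, hι⟩ : ∃ ι : Abelian.image s' ⟶ F, ι = Abelian.image.ι s' := ⟨_, rfl⟩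
  haveI : Mono ι := by rw [hι]; infer_instance
  rw [← hι] at hp ht₁'
  obtain ⟨I, hI⟩ : ∃ I : X.Modules, I = Abelian.image s' := ⟨_, rfl⟩
  subst hI
  have hιinj := Groth.Agent.Lib.Helper2.ModExact.app_injective_of_mono ι ⊤
  -- step 3
  have h3 : (eta N χ (Abelian.image s')).app ⊤ t₁ = p.app ⊤ (toS ⊤ 1) := by
    apply hιinj
    have hnat := eta_natural N hN χ ι
    have h4 : ι.app ⊤ ((eta N χ (Abelian.image s')).app ⊤ t₁) =
        (eta N χ F).app ⊤ (((twR N).map ι).app ⊤ t₁) := by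
      change (eta N χ (Abelian.image s') ≫ ι).app ⊤ t₁ = ((twR N).map ι ≫ eta N χ F).app ⊤ t₁
      rw [hnat]
    have h5 : ι.app ⊤ (p.app ⊤ (toS ⊤ 1)) = s := by
      change (p ≫ ι).app ⊤ (toS ⊤ 1) = s
      rw [hp, hs1]
    rw [h4, ht₁', hts, h5]
  -- step 4: the contraction on the image is an isomorphism
  have hIU : ∀ x, Curv2.IsAssPoint (Abelian.image s') x → x ∈ U :=
    fun x hx => hFU x (isAssPoint_of_mono ι x hx)
  haveI hmono : Mono (eta N χ (Abelian.image s')) :=
    mono_of_app_injective _ (fun V => eta_app_injective N hN χ _ hIc U hσ hIU V)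
  haveI hepi : Epi (eta N χ (Abelian.image s')) := by
    have hq : secHom ((twR N).obj (Abelian.image s')) t₁ ≫ eta N χ (Abelian.image s') = p := by
      apply hom_ext_of_sv
      rw [Groth.Agent.Lib.Helper23.SecTw.sv_comp, sv_secHom_top, h3]
      exact (app_toS p ⊤ 1).trans (one_smul _ _)
    haveI : Epi (secHom ((twR N).obj (Abelian.image s')) t₁ ≫ eta N χ (Abelian.image s')) := by
      rw [hq]; exact hpepi
    exact epi_of_epi (secHom ((twR N).obj (Abelian.image s')) t₁) _
  haveI : IsIso (eta N χ (Abelian.image s')) := isIso_of_mono_of_epi _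
  -- step 5
  have hit : ∀ m : ℕ, Nonempty (itw N m (Abelian.image s') ≅ Abelian.image s') := by
    intro m
    induction m with
    | zero => exact ⟨Iso.refl _⟩
    | succ m ih =>
      obtain ⟨e⟩ := ih
      exact ⟨(twR N).mapIso e ≪≫ asIso (eta N χ (Abelian.image s'))⟩
  have hIncl : ∀ x : X, IsClosed ({x} : Set X) → ¬ Curv2.IsAssPoint (Abelian.image s') x :=
    fun x hx h => hncl x hx (isAssPoint_of_mono ι x h)
  obtain ⟨n₀, hn₀⟩ := Groth.Agent.Lib.R2H3.NegTwist.main k X L hL N hM (Abelian.image s') hIc hIncl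
  obtain ⟨e₁⟩ := hit n₀
  obtain ⟨e₂⟩ := nonempty_itw_iso N n₀ (Abelian.image s')
  have hsub : Subsingleton (Coh.HH X (Abelian.image s') 0) :=
    subsingleton_HH_of_iso (e₂.symm ≪≫ e₁) 0 (hn₀ n₀ le_rfl)
  have hp0 : p.app ⊤ (toS ⊤ 1) = 0 := by
    apply (h0Equiv (Abelian.image s')).symm.injective
    exact Subsingleton.elim _ _
  apply hs
  have h5 : ι.app ⊤ (p.app ⊤ (toS ⊤ 1)) = s := by
    change (p ≫ ι).app ⊤ (toS ⊤ 1) = s
    rw [hp, hs1]
  rw [← h5, hp0, map_zero]

end General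

section Pn

variable (n : ℕ) (k : Type u) [Field k]

local notation "𝒢" => CohB1.polyGrading n k
local notation "PX" => CohB1.ProjSpace n k

/-- over an infinite field there is a linear form not vanishing at any of finitely many points of `P^n` -/
theorem exists_linear_form [Infinite k] (T : Set (PX)) (hT : T.Finite) :
    ∃ b : MvPolynomial (Fin (n + 1)) k, b ∈ 𝒢 1 ∧
      ∀ y ∈ T, b ∉ (show ProjectiveSpectrum 𝒢 from y).asHomogeneousIdeal := by
  classical
  let E := ↥(𝒢 1)
  let Wy : PX → Subspace k E := fun y =>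
    Submodule.comap (𝒢 1).subtype
      (((show ProjectiveSpectrum 𝒢 from y).asHomogeneousIdeal.toIdeal).restrictScalars k)
  have hmem : ∀ (y : PX) (b : E), b ∈ Wy y ↔
      (b : MvPolynomial (Fin (n + 1)) k) ∈ (show ProjectiveSpectrum 𝒢 from y).asHomogeneousIdeal :=
    fun y b => Iff.rfl
  let s : Finset (Subspace k E) := hT.toFinset.image Wy
  have hs : (⊤ : Subspace k E) ∉ s := by
    intro h
    obtain ⟨y, -, hy⟩ := Finset.mem_image.1 h
    obtain ⟨i, hi⟩ := Groth.Agent.Lib.Helper27PnSections.exists_X_not_mem n k y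
    apply hi
    have h1 : (⟨MvPolynomial.X i, Groth.Agent.Lib.Helper27PnChart.X_mem_one n k i⟩ : E) ∈ Wy y := by
      rw [hy]
      exact Submodule.mem_top
    exact (hmem y _).1 h1
  have hne := Subspace.biUnion_ne_univ_of_top_notMem hs
  obtain ⟨b, hb⟩ := (Set.ne_univ_iff_exists_notMem _).1 hne
  refine ⟨b.1, b.2, fun y hy hby => hb ?_⟩
  refine Set.mem_iUnion₂.2 ⟨Wy y, Finset.mem_image.2 ⟨y, hT.mem_toFinset.2 hy, rfl⟩, ?_⟩
  exact (hmem y b).2 hby

/-- a linear form `b` gives a section of `O(1)` whose non-vanishing locus is `D₊(b)` -/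
theorem exists_section_genLocus (b : MvPolynomial (Fin (n + 1)) k) (hb : b ∈ 𝒢 1) :
    ∃ σ : Coh.structureModule PX ⟶ Twist.twistProjSpace n k 1,
      CohB1.genLocus (Twist.twistProjSpace n k 1) σ = Proj.basicOpen 𝒢 b := by
  let G : Option (Fin (n + 1)) → MvPolynomial (Fin (n + 1)) k := fun o =>
    match o with
    | none => b
    | some i => MvPolynomial.X i
  have hG : ∀ o, G o ∈ 𝒢 1 := by
    intro o
    cases o with
    | none => exact hb
    | some i => exact Groth.Agent.Lib.Helper27PnChart.X_mem_one n k i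
  have hcov : ∀ y : Proj 𝒢, ∃ o, G o ∉ (show ProjectiveSpectrum 𝒢 from y).asHomogeneousIdeal := by
    intro y
    obtain ⟨i, hi⟩ := Groth.Agent.Lib.Helper27PnSections.exists_X_not_mem n k y
    exact ⟨some i, hi⟩
  have key : ∀ (m : ℤ) (hm : ((1 : ℕ) : ℤ) = m),
      ∃ σ : Coh.structureModule (Proj 𝒢) ⟶ GrTilde.tilde 𝒢 𝒢 m,
        CohB1.genLocus (GrTilde.tilde 𝒢 𝒢 m) σ = Proj.basicOpen 𝒢 b := by
    intro m hm
    subst hm
    exact ⟨_, Groth.Agent.Lib.Helper27GrTildeSect.genLocus_secHom_gsec 𝒢 1 G hG hcov none⟩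
  exact key 1 Nat.cast_one

/-- contractions `O(-1) ⟶ O` which are units near a given finite set of points -/
theorem exists_chi [Infinite k] (T : Set (PX)) (hT : T.Finite) :
    ∃ (χ : Twist.twistProjSpace n k (-1) ⟶ Coh.structureModule PX) (U : (PX).Opens),
      (∀ x ∈ T, x ∈ U) ∧
      ∀ (W : (PX).Opens), W ≤ U → ∀ e : Γ(Twist.twistProjSpace n k (-1), W),
        IsGen (Twist.twistProjSpace n k (-1)) W e → IsUnit (ofS W (χ.app W e)) := by
  obtain ⟨b, hb, hbT⟩ := exists_linear_form n k T hT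
  obtain ⟨σ, hσ⟩ := exists_section_genLocus n k b hb
  obtain ⟨ε₀⟩ := Groth.Agent.Lib.R2Lead.KRR.nonempty_twistProjSpace_tensor_iso n k (-1) 1
  obtain ⟨ε₁⟩ := Groth.Agent.Lib.R2Lead.KRR.nonempty_twistProjSpace_zero_iso n k
  let ε : CohB1.tensorMod (Twist.twistProjSpace n k (-1)) (Twist.twistProjSpace n k 1) ≅
      Coh.structureModule PX := ε₀ ≪≫ eqToIso (by norm_num) ≪≫ ε₁
  refine ⟨mulSec (Twist.twistProjSpace n k (-1)) σ ≫ ε.hom,
    CohB1.genLocus (Twist.twistProjSpace n k 1) σ, ?_, ?_⟩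
  · intro x hx
    rw [hσ]
    exact (ProjectiveSpectrum.mem_basicOpen 𝒢 b x).mpr (hbT x hx)
  · exact (Groth.Agent.Lib.R2H3.NegTwistData.chi_props (Twist.twistProjSpace n k (-1))
      (Twist.twistProjSpace n k 1) ε σ σ (CohB1.genLocus (Twist.twistProjSpace n k 1) σ) 1 le_rfl
      (one_smul _ _).symm).1

/-- **`h⁰(F(-1)) ≤ h⁰(F)`, with strict inequality when `h⁰(F) ≠ 0`**, for a coherent module on `P^n_k`
(`k` infinite) without closed associated points. -/
theorem h0_drop [Infinite k] (F : (PX).Modules) (hF : Coh.IsCoh F)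
    (hass : ∀ x : PX, Curv2.IsAssPoint F x → ¬ IsClosed ({x} : Set PX)) :
    Module.finrank k (Coh.HH PX ((twR (Twist.twistProjSpace n k (-1))).obj F) 0) ≤
        Module.finrank k (Coh.HH PX F 0) ∧
      (1 ≤ Module.finrank k (Coh.HH PX F 0) →
        Module.finrank k (Coh.HH PX ((twR (Twist.twistProjSpace n k (-1))).obj F) 0) + 1 ≤
          Module.finrank k (Coh.HH PX F 0)) := by
  haveI : IsProper (PX ↘ Spec (CommRingCat.of k)) := Groth.Agent.S9705.isProper_projSpace_toSpec n k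
  haveI : IsNoetherian PX := Groth.Agent.Lib.R2H2.QProjK0.isNoetherian_projSpace n k
  have hN : PicF.IsInvertible (Twist.twistProjSpace n k (-1)) :=
    Groth.Agent.Lib.R2Lead.KRR.isInvertible_twistProjSpace n k (-1)
  have hFN : Coh.IsCoh ((twR (Twist.twistProjSpace n k (-1))).obj F) :=
    Groth.Agent.Lib.R2H3.AmpleSV.isCoh_tensorMod_invertible F _ hF hN
  have hO : Coh.IsCoh (Coh.structureModule PX) := Groth.Agent.Lib.R2H3.ZeroConn.isCoh_structureModule _
  constructor
  · obtain ⟨χ, U, hTU, hσ⟩ := exists_chi n k _ (finite_assPoints F hF)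
    exact h0_le k hF (eta _ χ F) (eta_app_injective _ hN χ F hF U hσ (fun x hx => hTU x hx) ⊤)
  · intro h1
    haveI : Module.Finite k (Coh.HH PX F 0) := Groth.Agent.S0002.result k PX F hF 0
    haveI : Nontrivial (Coh.HH PX F 0) := Module.nontrivial_of_finrank_pos (R := k) (by omega)
    obtain ⟨ξ, hξ⟩ := exists_ne (0 : Coh.HH PX F 0)
    obtain ⟨s, hs⟩ : ∃ s : Γ(F, ⊤), s = h0Equiv F ξ := ⟨_, rfl⟩
    have hs0 : s ≠ 0 := by
      rw [hs]
      intro h
      exact hξ ((h0Equiv F).injective (h.trans (map_zero _).symm))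
    have hGc : Coh.IsCoh (cokernel (secHom F s)) :=
      Groth.Agent.Lib.R2H2.NilFilt.isCoh_cokernel hO hF _
    obtain ⟨χ, U, hTU, hσ⟩ := exists_chi n k
      ({x | Curv2.IsAssPoint F x} ∪ {x | Curv2.IsAssPoint (cokernel (secHom F s)) x})
      ((finite_assPoints F hF).union (finite_assPoints _ hGc))
    have hinj := eta_app_injective _ hN χ F hF U hσ (fun x hx => hTU x (Or.inl hx)) ⊤
    have hle := h0_le k hF (eta _ χ F) hinj
    by_contra hcon
    have heq : h0 k ((twR (Twist.twistProjSpace n k (-1))).obj F) = h0 k F := by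
      apply le_antisymm hle
      change Module.finrank k (Coh.HH PX F 0) ≤
        Module.finrank k (Coh.HH PX ((twR (Twist.twistProjSpace n k (-1))).obj F) 0)
      omega
    obtain ⟨t, ht⟩ := surjective_app_of_h0_eq k hFN hF (eta _ χ F) hinj heq s
    obtain ⟨ε₀⟩ := Groth.Agent.Lib.R2Lead.KRR.nonempty_twistProjSpace_tensor_iso n k 1 (-1)
    obtain ⟨ε₁⟩ := Groth.Agent.Lib.R2Lead.KRR.nonempty_twistProjSpace_zero_iso n k
    have hM : ClSub.IsInverseOf (Twist.twistProjSpace n k 1) (Twist.twistProjSpace n k (-1)) :=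
      ⟨ε₀ ≪≫ eqToIso (by norm_num) ≪≫ ε₁⟩
    exact eta_app_top_ne k (Twist.twistProjSpace n k 1)
      (Groth.Agent.Lib.R2H2.QProjK0.isAmple_twistProjSpace_one n k) _ hM χ U hσ F hF
      (fun x hcl hx => hass x hx hcl) s hs0 (fun x hx => hTU x (Or.inl hx))
      (fun x hx => hTU x (Or.inr hx)) t ht

/-- `H⁰` has the same dimension for isomorphic modules -/
theorem finrank_HH_of_iso {A B : (PX).Modules} (e : A ≅ B) (i : ℕ) :
    Module.finrank k (Coh.HH PX A i) = Module.finrank k (Coh.HH PX B i) :=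
  (LinearEquiv.ofBijective (Groth.Agent.Lib.R2H2.HHLin.HmapA k e.hom i) (HmapA_bijective_of_iso k e i)).finrank_eq

/-- `h⁰(F(-m)) ≤ h⁰(F) - m` -/
theorem h0_twist_neg_le [Infinite k] (F : (PX).Modules) (hF : Coh.IsCoh F)
    (hass : ∀ x : PX, Curv2.IsAssPoint F x → ¬ IsClosed ({x} : Set PX)) (m : ℕ) :
    Module.finrank k (Coh.HH PX (CohB1.tensorMod F (Twist.twistProjSpace n k (-(m : ℤ)))) 0) ≤
      Module.finrank k (Coh.HH PX F 0) - m := by
  haveI : IsNoetherian PX := Groth.Agent.Lib.R2H2.QProjK0.isNoetherian_projSpace n k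
  haveI : F.IsQuasicoherent := hF.1
  induction m with
  | zero =>
    obtain ⟨ε₁⟩ := Groth.Agent.Lib.R2Lead.KRR.nonempty_twistProjSpace_zero_iso n k
    have e : CohB1.tensorMod F (Twist.twistProjSpace n k (-((0 : ℕ) : ℤ))) ≅ F :=
      tensorModIso (Iso.refl F) (eqToIso (by norm_num) ≪≫ ε₁) ≪≫ SecTwist.unitorR F
    rw [finrank_HH_of_iso n k e 0]
    exact le_rfl
  | succ m ih =>
    have hNm : PicF.IsInvertible (Twist.twistProjSpace n k (-(m : ℤ))) :=
      Groth.Agent.Lib.R2Lead.KRR.isInvertible_twistProjSpace n k _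
    have hFm : Coh.IsCoh (CohB1.tensorMod F (Twist.twistProjSpace n k (-(m : ℤ)))) :=
      Groth.Agent.Lib.R2H3.AmpleSV.isCoh_tensorMod_invertible F _ hF hNm
    haveI : (CohB1.tensorMod F (Twist.twistProjSpace n k (-(m : ℤ)))).IsQuasicoherent := hFm.1
    have hassm : ∀ x : PX, Curv2.IsAssPoint (CohB1.tensorMod F (Twist.twistProjSpace n k (-(m : ℤ)))) x →
        ¬ IsClosed ({x} : Set PX) := fun x hx => hass x ((isAssPoint_tensor_iff F _ hNm x).1 hx)
    obtain ⟨hle, hlt⟩ := h0_drop n k _ hFm hassm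
    obtain ⟨ε₀⟩ := Groth.Agent.Lib.R2Lead.KRR.nonempty_twistProjSpace_tensor_iso n k (-(m : ℤ)) (-1)
    have e : (twR (Twist.twistProjSpace n k (-1))).obj
        (CohB1.tensorMod F (Twist.twistProjSpace n k (-(m : ℤ)))) ≅
        CohB1.tensorMod F (Twist.twistProjSpace n k (-((m + 1 : ℕ) : ℤ))) :=
      Groth.Agent.Lib.Helper23.LocGen.tensorAssoc _ _ _ ≪≫
        tensorModIso (Iso.refl F) (ε₀ ≪≫ eqToIso (by push_cast; ring_nf))
    rw [← finrank_HH_of_iso n k e 0]
    by_cases h0 : 1 ≤ Module.finrank k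
        (Coh.HH PX (CohB1.tensorMod F (Twist.twistProjSpace n k (-(m : ℤ)))) 0)
    · have := hlt h0
      omega
    · omega

end Pn

end Groth.Agent.Lib.R2H3.PnH0Drop
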