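import Mathlib
import Groth.Prelude
import Groth.Agent.Lib.H6xZetaPts5
import Groth.Agent.Lib.R2H1Hyperplane
import Groth.Agent.Lib.Helper27PnChart
import Groth.Agent.S9705

/-!
# Point counts and the zeta function of projective space (helper4, round 2)

* `nPts_add`, `degCount_iso`, `nPts_iso`, `nPts_top_ι` : additivity of `Zeta.nPts` for a closed-open
  decomposition and invariance under isomorphisms.
* `ptsSpec`, `algHomEquiv`, `nPts_mvPolynomial` : `#𝔸^σ(k_m) = q^{m·#σ}`.
* `exists_comap_eq` : for a surjective graded hom `φ`, points of `Proj 𝒜` containing `ker φ` are in the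
  image of `Proj ℬ`; `range_emb` : the image of the hyperplane `T_j = 0`.
* `emb_over`, `chartIso`, `chart_over` : the hyperplane embedding and the standard chart are over `k`.
* `nPts_projSpace` : `N_m(P^n) = ∑_{i ≤ n} q^{mi}`.
-/

set_option autoImplicit false
set_option linter.style.haveILetI false
set_option linter.unusedSectionVars false

namespace Groth.Agent.Lib.R2H4ZetaPn

open CategoryTheory AlgebraicGeometry MvPolynomial HomogeneousLocalization
open Groth.Agent.Lib.H6xPointCount Groth.Agent.Lib.H6xZetaPts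
open Groth.Agent.Lib.R2H1.Hyperplane Groth.Agent.Lib.Helper27PnChart

universe u

variable {k : Type u} [Field k]

section general

variable {X : Scheme.{u}} (f : X ⟶ Spec (CommRingCat.of k))

/-- additivity of `nPts` along a closed-open decomposition -/
theorem nPts_add {Y : Scheme.{u}} [Finite k] [LocallyOfFiniteType f] [QuasiCompact f]
    (U : X.Opens) (i : Y ⟶ X) [IsClosedImmersion i] (hY : Set.range i.base = (U : Set X)ᶜ)
    (m : ℕ) :
    Zeta.nPts f m = Zeta.nPts (i ≫ f) m + Zeta.nPts (U.ι ≫ f) m := by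
  unfold Zeta.nPts
  rw [← Finset.sum_add_distrib]
  refine Finset.sum_congr rfl fun e he => ?_
  rw [degCount_add f U i hY e (Nat.pos_of_mem_divisors he), mul_add]

/-- invariance of `degCount` under isomorphisms -/
theorem degCount_iso {Y : Scheme.{u}} (e : Y ≅ X) (d : ℕ) :
    Zeta.degCount (e.hom ≫ f) d = Zeta.degCount f d := by
  unfold Zeta.degCount
  apply Nat.card_congr
  refine Equiv.subtypeEquiv e.hom.homeomorph.toEquiv ?_
  intro y
  have h1 : EGA4loc.residueDegree (e.hom ≫ f) y = EGA4loc.residueDegree f (e.hom.base y) :=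
    residueDegree_comp f e.hom y
  have h2 : IsClosed ({y} : Set Y) ↔ IsClosed ({e.hom.base y} : Set X) := by
    have := e.hom.homeomorph.isClosed_image (s := ({y} : Set Y))
    rw [Set.image_singleton] at this
    exact this.symm
  rw [h1, h2]
  rfl

theorem nPts_iso {Y : Scheme.{u}} (e : Y ≅ X) (m : ℕ) :
    Zeta.nPts (e.hom ≫ f) m = Zeta.nPts f m := by
  unfold Zeta.nPts
  exact Finset.sum_congr rfl fun d _ => by rw [degCount_iso]

theorem nPts_top_ι (U : X.Opens) (hU : U = ⊤) (m : ℕ) :
    Zeta.nPts (U.ι ≫ f) m = Zeta.nPts f m := by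
  subst hU
  exact nPts_iso f (Scheme.topIso X) m

end general

section affine

/-- points of an affine scheme are algebra homomorphisms -/
noncomputable def ptsSpec (A : Type u) [CommRing A] [Algebra k A] (K : Type u) [Field K]
    [Algebra k K] :
    Pts (Spec.map (CommRingCat.ofHom (algebraMap k A))) K ≃ (A →ₐ[k] K) where
  toFun g :=
    { toRingHom := (Spec.preimage g.1).hom
      commutes' := fun r => by
        have h := g.2
        rw [← Spec.map_preimage g.1, ← Spec.map_comp] at h
        have h' := Spec.map_injective h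
        exact congrArg (fun φ => φ.hom r) h' }
  invFun ψ := ⟨Spec.map (CommRingCat.ofHom ψ.toRingHom), by
    rw [← Spec.map_comp]
    congr 1
    ext r
    exact ψ.commutes r⟩
  left_inv g := by
    apply Subtype.ext
    show Spec.map (CommRingCat.ofHom (Spec.preimage g.1).hom) = g.1
    rw [CommRingCat.ofHom_hom, Spec.map_preimage]
  right_inv ψ := by
    ext a
    show (Spec.preimage (Spec.map (CommRingCat.ofHom ψ.toRingHom))).hom a = ψ a
    rw [Spec.preimage_map]
    rfl

/-- algebra maps out of a polynomial ring -/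
noncomputable def algHomEquiv (σ : Type) (K : Type u) [Field K] [Algebra k K] :
    (MvPolynomial σ k →ₐ[k] K) ≃ (σ → K) where
  toFun ψ s := ψ (X s)
  invFun v := aeval v
  left_inv ψ := by
    apply MvPolynomial.algHom_ext
    intro s
    simp
  right_inv v := by
    funext s
    simp

theorem nPts_mvPolynomial [Finite k] (σ : Type) [Fintype σ] (m : ℕ) (hm : 0 < m) :
    Zeta.nPts (Spec.map (CommRingCat.ofHom (algebraMap k (MvPolynomial σ k)))) m =
      (Nat.card k ^ m) ^ Fintype.card σ := by
  haveI : LocallyOfFiniteType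
      (Spec.map (CommRingCat.ofHom (algebraMap k (MvPolynomial σ k)))) := by
    rw [HasRingHomProperty.Spec_iff (P := @LocallyOfFiniteType)]
    exact RingHom.finiteType_algebraMap.mpr inferInstance
  obtain ⟨K, hKf, hKa, hKfin, hK⟩ := exists_ext k m hm
  have h1 := pointCount_eq_nPts
    (Spec.map (CommRingCat.ofHom (algebraMap k (MvPolynomial σ k)))) K
  rw [hK] at h1
  rw [← h1]
  haveI : Module.Finite k K := Module.Finite.of_finite
  have h3 : Nat.card K = Nat.card k ^ m := by
    rw [← hK]
    exact Module.natCard_eq_pow_finrank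
  show Nat.card (Pts (Spec.map (CommRingCat.ofHom (algebraMap k (MvPolynomial σ k)))) K) = _
  rw [Nat.card_congr ((ptsSpec (MvPolynomial σ k) K).trans (algHomEquiv σ K)), Nat.card_fun,
    h3, Nat.card_eq_fintype_card (α := σ)]

end affine

section proj

variable {R A : Type u} [CommRing R] [CommRing A] [Algebra R A] {𝒜 : ℕ → Submodule R A}
  [GradedAlgebra 𝒜]
  {B : Type u} [CommRing B] [Algebra R B] {ℬ : ℕ → Submodule R B} [GradedAlgebra ℬ]

theorem exists_comap_eq (φ : 𝒜 →+*ᵍ ℬ) (hsurj : Function.Surjective φ)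
    (hφ : HomogeneousIdeal.irrelevant ℬ ≤ (HomogeneousIdeal.irrelevant 𝒜).map φ)
    (x : ProjectiveSpectrum 𝒜)
    (hx : RingHom.ker φ ≤ x.asHomogeneousIdeal.toIdeal) :
    ∃ y : ProjectiveSpectrum ℬ, ProjectiveSpectrum.comap φ hφ y = x := by
  have hcm : (x.asHomogeneousIdeal.toIdeal.map φ).comap φ =
      x.asHomogeneousIdeal.toIdeal := by
    rw [Ideal.comap_map_of_surjective _ hsurj]
    exact sup_eq_left.mpr hx
  refine ⟨⟨x.asHomogeneousIdeal.map φ, Ideal.map_isPrime_of_surjective hsurj hx, ?_⟩, ?_⟩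
  · intro hle
    apply x.not_irrelevant_le
    rw [HomogeneousIdeal.irrelevant_le]
    intro i hi a ha
    have h1 : φ a ∈ HomogeneousIdeal.irrelevant ℬ :=
      HomogeneousIdeal.mem_irrelevant_of_mem ℬ hi (φ.map_mem ha)
    have h2 : φ a ∈ (x.asHomogeneousIdeal.map φ).toIdeal := hle h1
    have h3 : a ∈ (x.asHomogeneousIdeal.toIdeal.map φ).comap φ := h2
    rw [hcm] at h3
    exact h3
  · apply ProjectiveSpectrum.ext
    apply HomogeneousIdeal.toIdeal_injective
    exact hcm

end proj

section pn

variable {k : Type u} [Field k] (n : ℕ)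

local notation "PJ" => Proj (CohB1.polyGrading (n + 1) k)
local notation "PJ'" => Proj (CohB1.polyGrading n k)

variable (j : Fin (n + 1 + 1))

/-- coefficient vector of the linear form `T_j` -/
noncomputable def cj : Fin (n + 1 + 1) → k := Pi.single j 1

theorem cj_self : cj (k := k) n j j = 1 := by simp [cj]

theorem cj_ne : cj (k := k) n j j ≠ 0 := by rw [cj_self]; exact one_ne_zero

theorem lin_cj : lin n (cj (k := k) n j) = X j := by
  unfold lin cj
  rw [Finset.sum_eq_single j]
  · simp
  · intro i _ hij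
    simp [Pi.single_eq_of_ne hij]
  · intro h
    exact absurd (Finset.mem_univ j) h

theorem phiA_X_cj : phiA n (cj (k := k) n j) j (X j) = 0 := by
  have := phiA_lin n (cj (k := k) n j) j (cj_ne n j)
  rwa [lin_cj] at this

theorem range_emb :
    Set.range (emb n (cj (k := k) n j) j).base =
      ((Proj.basicOpen (CohB1.polyGrading (n + 1) k) (X j) : (PJ).Opens) : Set PJ)ᶜ := by
  ext x
  constructor
  · rintro ⟨y, rfl⟩ hmem
    have h1 : y ∈ (emb n (cj n j) j) ⁻¹ᵁ
        Proj.basicOpen (CohB1.polyGrading (n + 1) k) (X j) := hmem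
    rw [emb, Proj.map_preimage_basicOpen] at h1
    have h0 : (phiG n (cj (k := k) n j) j) (X j) = 0 := phiA_X_cj n j
    rw [h0] at h1
    exact (ProjectiveSpectrum.mem_basicOpen _ _ y).mp h1 (zero_mem _)
  · intro hx
    have hx' : X j ∈ x.asHomogeneousIdeal := by
      by_contra h
      exact hx ((ProjectiveSpectrum.mem_basicOpen _ _ x).mpr h)
    have hker : RingHom.ker (phiG n (cj (k := k) n j) j) ≤ x.asHomogeneousIdeal.toIdeal := by
      have h1 := ker_phiA n (cj (k := k) n j) j (cj_ne n j)
      rw [lin_cj] at h1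
      intro a ha
      have ha' : a ∈ RingHom.ker (phiA n (cj (k := k) n j) j).toRingHom := ha
      rw [h1] at ha'
      obtain ⟨b, rfl⟩ := Ideal.mem_span_singleton'.mp ha'
      exact Ideal.mul_mem_left _ _ hx'
    obtain ⟨y, hy⟩ := exists_comap_eq (R := k) (𝒜 := CohB1.polyGrading (n + 1) k)
      (ℬ := CohB1.polyGrading n k) (phiG n (cj n j) j) (phiG_surjective n _ j) (hφ n _ j)
      (show ProjectiveSpectrum (CohB1.polyGrading (n + 1) k) from x) hker
    exact ⟨y, hy⟩

end pn

section pn

variable {k : Type u} [Field k] (n : ℕ)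

theorem awayι_emb_toSpec (c : Fin (n + 1 + 1) → k) (j : Fin (n + 1 + 1)) {d : ℕ} (hd : 0 < d)
    (x : MvPolynomial (Fin (n + 1 + 1)) k) (hx : x ∈ CohB1.polyGrading (n + 1) k d) :
    Proj.awayι (CohB1.polyGrading n k) (phiG n c j x) ((phiG n c j).map_mem hx) hd ≫
      Proj.map (phiG n c j) (hφ n c j) ≫
      Proj.toSpecZero (CohB1.polyGrading (n + 1) k) ≫
        Spec.map (CommRingCat.ofHom (algebraMap k (CohB1.polyGrading (n + 1) k 0))) =
    Proj.awayι (CohB1.polyGrading n k) (phiG n c j x) ((phiG n c j).map_mem hx) hd ≫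
      Proj.toSpecZero (CohB1.polyGrading n k) ≫
        Spec.map (CommRingCat.ofHom (algebraMap k (CohB1.polyGrading n k 0))) := by
  rw [Proj.awayι_comp_map_assoc (phiG n c j) (hφ n c j) hd x hx,
    Proj.awayι_toSpecZero_assoc, Proj.awayι_toSpecZero_assoc, ← Spec.map_comp, ← Spec.map_comp,
    ← Spec.map_comp]
  congr 1
  ext a
  simp only [CommRingCat.hom_comp, CommRingCat.hom_ofHom, RingHom.coe_comp, Function.comp_apply]
  simp only [HomogeneousLocalization.fromZeroRingHom, HomogeneousLocalization.Away.map,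
    RingHom.coe_mk, MonoidHom.coe_mk, OneHom.coe_mk, HomogeneousLocalization.map_mk,
    HomogeneousLocalization.val_mk]
  have e1 : (phiG n c j) ((algebraMap k (CohB1.polyGrading (n + 1) k 0) a :
      CohB1.polyGrading (n + 1) k 0) : MvPolynomial (Fin (n + 1 + 1)) k) =
      ((algebraMap k (CohB1.polyGrading n k 0) a : CohB1.polyGrading n k 0) :
        MvPolynomial (Fin (n + 1)) k) := by
    change phiA n c j (algebraMap k (MvPolynomial (Fin (n + 1 + 1)) k) a) =
      algebraMap k (MvPolynomial (Fin (n + 1)) k) a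
    rw [MvPolynomial.algebraMap_eq, phiA_C]
    rfl
  congr 1
  apply Subtype.ext
  exact map_one (phiG n c j)

theorem emb_over (c : Fin (n + 1 + 1) → k) (j : Fin (n + 1 + 1)) :
    emb n c j ≫ CohB1.ProjSpace.toSpec (n + 1) k = CohB1.ProjSpace.toSpec n k := by
  change Proj.map (phiG n c j) (hφ n c j) ≫
      Proj.toSpecZero (CohB1.polyGrading (n + 1) k) ≫
        Spec.map (CommRingCat.ofHom (algebraMap k (CohB1.polyGrading (n + 1) k 0))) =
    Proj.toSpecZero (CohB1.polyGrading n k) ≫
      Spec.map (CommRingCat.ofHom (algebraMap k (CohB1.polyGrading n k 0)))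
  refine (Proj.mapAffineOpenCover (phiG n c j) (hφ n c j)).openCover.hom_ext _ _ fun s => ?_
  exact awayι_emb_toSpec n c j s.1.2 s.2.1 s.2.2

end pn

section chart

variable {k : Type u} [Field k] (n : ℕ) (i : Fin (n + 1))

/-- the chart `D_+(T_i) ≅ 𝔸^n` -/
noncomputable def chartIso :
    (Proj.basicOpen (CohB1.polyGrading n k) (X i)).toScheme ≅
      Spec (CommRingCat.of (MvPolynomial {j : Fin (n + 1) // j ≠ i} k)) :=
  Proj.basicOpenIsoSpec (CohB1.polyGrading n k) (X i) (X_mem_one n k i) one_pos ≪≫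
    Scheme.Spec.mapIso
      ((RingEquiv.ofBijective (chart n k i) (chart_bijective n k i)).toCommRingCatIso).op

theorem chart_over :
    (Proj.basicOpen (CohB1.polyGrading n k) (X i)).ι ≫ CohB1.ProjSpace.toSpec n k =
      (chartIso n i).hom ≫
        Spec.map (CommRingCat.ofHom
          (algebraMap k (MvPolynomial {j : Fin (n + 1) // j ≠ i} k))) := by
  have h1 : (Proj.basicOpen (CohB1.polyGrading n k) (X i)).ι =
      (Proj.basicOpenIsoSpec (CohB1.polyGrading n k) (X i) (X_mem_one n k i) one_pos).hom ≫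
        Proj.awayι (CohB1.polyGrading n k) (X i) (X_mem_one n k i) one_pos := by
    rw [Proj.awayι, Iso.hom_inv_id_assoc]
  change (Proj.basicOpen (CohB1.polyGrading n k) (X i)).ι ≫
      Proj.toSpecZero (CohB1.polyGrading n k) ≫
        Spec.map (CommRingCat.ofHom (algebraMap k (CohB1.polyGrading n k 0))) =
    ((Proj.basicOpenIsoSpec (CohB1.polyGrading n k) (X i) (X_mem_one n k i) one_pos).hom ≫
      Spec.map (CommRingCat.ofHom (chart n k i))) ≫
        Spec.map (CommRingCat.ofHom
          (algebraMap k (MvPolynomial {j : Fin (n + 1) // j ≠ i} k)))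
  rw [h1, Category.assoc, Proj.awayι_toSpecZero_assoc, Category.assoc]
  congr 1
  rw [← Spec.map_comp, ← Spec.map_comp]
  congr 1
  ext a
  simp only [CommRingCat.hom_comp, CommRingCat.hom_ofHom, RingHom.coe_comp, Function.comp_apply]
  rw [MvPolynomial.algebraMap_eq]
  unfold chart
  rw [MvPolynomial.eval₂Hom_C]
  rfl

end chart

section main

variable {k : Type u} [Field k]

/-- the structure morphism of `P^n_k`, with source written as `Proj` -/
noncomputable def pToSpec (n : ℕ) : Proj (CohB1.polyGrading n k) ⟶ Spec (CommRingCat.of k) :=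
  CohB1.ProjSpace.toSpec n k

instance (n : ℕ) : IsProper (pToSpec (k := k) n) :=
  Groth.Agent.S9705.isProper_projSpace_toSpec n k

theorem emb_over' (n : ℕ) (c : Fin (n + 1 + 1) → k) (j : Fin (n + 1 + 1)) :
    emb n c j ≫ pToSpec (n + 1) = pToSpec n := emb_over n c j

theorem chart_over' (n : ℕ) (i : Fin (n + 1)) :
    (Proj.basicOpen (CohB1.polyGrading n k) (X i)).ι ≫ pToSpec n =
      (chartIso n i).hom ≫
        Spec.map (CommRingCat.ofHom
          (algebraMap k (MvPolynomial {j : Fin (n + 1) // j ≠ i} k))) := chart_over n i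

theorem nPts_chart [Finite k] (n : ℕ) (i : Fin (n + 1)) (m : ℕ) (hm : 0 < m) :
    Zeta.nPts ((Proj.basicOpen (CohB1.polyGrading n k) (X i)).ι ≫ pToSpec n) m =
      (Nat.card k ^ m) ^ n := by
  rw [chart_over', nPts_iso, nPts_mvPolynomial _ m hm]
  congr 1
  simp

theorem nPts_pToSpec [Finite k] (n m : ℕ) (hm : 0 < m) :
    Zeta.nPts (pToSpec (k := k) n) m =
      ∑ i ∈ Finset.range (n + 1), (Nat.card k ^ m) ^ i := by
  induction n with
  | zero =>
    have htop : Proj.basicOpen (CohB1.polyGrading 0 k) (X 0) = ⊤ := by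
      rw [← iSup_basicOpen_X 0 k]
      haveI : Unique (Fin (0 + 1)) := inferInstanceAs (Unique (Fin 1))
      rw [iSup_unique (f := fun i : Fin (0 + 1) =>
        Proj.basicOpen (CohB1.polyGrading 0 k) (X i))]
      congr 2
      exact Subsingleton.elim _ _
    have h1 := nPts_top_ι (pToSpec (k := k) 0)
      (Proj.basicOpen (CohB1.polyGrading 0 k) (X 0)) htop m
    rw [← h1, nPts_chart 0 0 m hm]
    simp
  | succ n ih =>
    have h1 := nPts_add (pToSpec (k := k) (n + 1))
      (Proj.basicOpen (CohB1.polyGrading (n + 1) k) (X (Fin.last (n + 1))))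
      (emb n (cj n (Fin.last (n + 1))) (Fin.last (n + 1))) (range_emb n (Fin.last (n + 1))) m
    rw [h1, emb_over', ih, nPts_chart (n + 1) (Fin.last (n + 1)) m hm,
      Finset.sum_range_succ _ (n + 1)]

theorem nPts_projSpace [Finite k] (n m : ℕ) (hm : 0 < m) :
    Zeta.nPts (CohB1.ProjSpace.toSpec n k) m =
      ∑ i ∈ Finset.range (n + 1), (Nat.card k ^ m) ^ i := nPts_pToSpec n m hm

end main

end Groth.Agent.Lib.R2H4ZetaPn
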