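import Mathlib
import Groth.Agent.Lib.Helper8AffComplB
import Groth.Agent.Lib.R2H4ZetaPn
import Groth.Agent.Lib.R2H3PnH0Drop
import Groth.Agent.Lib.Helper23PB
import Groth.Agent.Lib.R2H3VAmpleConv

/-!
# Complement of an affine open, part C: projective closure of an affine variety

For a finitely generated domain `A` over a field `k` there is an integral proper `k`-scheme `Y₀`
carrying an ample invertible module `L₀` with a section `s₀` whose non-vanishing locus is an open
copy of `Spec A`.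
-/

set_option autoImplicit false
universe u
open AlgebraicGeometry CategoryTheory CategoryTheory.Limits TopologicalSpace

namespace Groth.Agent.Lib.Helper8AffComplC

open Groth.Agent.Lib.R2H4ZetaPn Groth.Agent.Lib.Helper27PnChart

/-- the standard chart `D₊(T₀)` as an open of `ProjSpace` -/
noncomputable def D0 (k : Type u) [Field k] (n : ℕ) : (CohB1.ProjSpace n k).Opens :=
  Proj.basicOpen (CohB1.polyGrading n k) (MvPolynomial.X (0 : Fin (n + 1)))

/-- the chart isomorphism, retyped -/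
noncomputable def affEmb' (k : Type u) [Field k] (n : ℕ) :
    Spec (CommRingCat.of (MvPolynomial {j : Fin (n + 1) // j ≠ 0} k)) ⟶ (D0 k n).toScheme :=
  (chartIso n 0).inv

instance (k : Type u) [Field k] (n : ℕ) : IsIso (affEmb' k n) := by
  unfold affEmb'; infer_instance

/-- the standard affine chart of projective space as an open immersion from affine space -/
noncomputable def affEmb (k : Type u) [Field k] (n : ℕ) :
    Spec (CommRingCat.of (MvPolynomial {j : Fin (n + 1) // j ≠ 0} k)) ⟶ CohB1.ProjSpace n k :=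
  affEmb' k n ≫ (D0 k n).ι

instance (k : Type u) [Field k] (n : ℕ) : IsOpenImmersion (affEmb k n) := by
  unfold affEmb; infer_instance

theorem D0_ι_toSpec (k : Type u) [Field k] (n : ℕ) :
    (D0 k n).ι ≫ CohB1.ProjSpace.toSpec n k =
      inv (affEmb' k n) ≫ Spec.map (CommRingCat.ofHom
        (algebraMap k (MvPolynomial {j : Fin (n + 1) // j ≠ 0} k))) := by
  have h : inv (affEmb' k n) = (chartIso n 0).hom := by
    apply IsIso.inv_eq_of_hom_inv_id; unfold affEmb'; simp
  rw [h]
  exact chart_over (k := k) n 0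

theorem affEmb_toSpec (k : Type u) [Field k] (n : ℕ) :
    affEmb k n ≫ CohB1.ProjSpace.toSpec n k =
      Spec.map (CommRingCat.ofHom
        (algebraMap k (MvPolynomial {j : Fin (n + 1) // j ≠ 0} k))) := by
  unfold affEmb
  rw [Category.assoc, D0_ι_toSpec, IsIso.hom_inv_id_assoc]

theorem affEmb_mem (k : Type u) [Field k] (n : ℕ)
    (y : Spec (CommRingCat.of (MvPolynomial {j : Fin (n + 1) // j ≠ 0} k))) :
    (affEmb k n).base y ∈ D0 k n := by
  unfold affEmb
  exact ((affEmb' k n).base y).2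

theorem affEmb'_ι (k : Type u) [Field k] (n : ℕ) :
    affEmb' k n ≫ (D0 k n).ι = affEmb k n := rfl

theorem exists_projective_closure (k : Type u) [Field k] (A : Type u) [CommRing A] [IsDomain A]
    [Algebra k A] [Algebra.FiniteType k A] :
    ∃ (Y₀ : Scheme.{u}) (p₀ : Y₀ ⟶ Spec (CommRingCat.of k)) (L₀ : Y₀.Modules)
      (s₀ : Coh.structureModule Y₀ ⟶ L₀) (j₀ : Spec (CommRingCat.of A) ⟶ Y₀),
      IsProper p₀ ∧ IsIntegral Y₀ ∧ CohB1.IsAmple L₀ ∧ IsOpenImmersion j₀ ∧
      j₀ ≫ p₀ = Spec.map (CommRingCat.ofHom (algebraMap k A)) ∧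
      Set.range j₀.base = (CohB1.genLocus L₀ s₀ : Set Y₀) := by
  obtain ⟨n, ψ, hψ⟩ := (Algebra.FiniteType.iff_quotient_mvPolynomial'' (R := k) (S := A)).1
    inferInstance
  -- reindex the variables by `{j : Fin (n + 1) // j ≠ 0}`
  let σ : Fin n ≃ {j : Fin (n + 1) // j ≠ 0} :=
    { toFun := fun i => ⟨i.succ, Fin.succ_ne_zero i⟩
      invFun := fun j => j.1.pred j.2
      left_inv := fun i => by simp
      right_inv := fun j => by ext; simp }
  let ψ' : MvPolynomial {j : Fin (n + 1) // j ≠ 0} k →ₐ[k] A :=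
    ψ.comp (MvPolynomial.renameEquiv k σ.symm).toAlgHom
  have hψ' : Function.Surjective ψ' := by
    show Function.Surjective (ψ ∘ (MvPolynomial.renameEquiv k σ.symm))
    exact hψ.comp (MvPolynomial.renameEquiv k σ.symm).surjective
  obtain ⟨c, hc⟩ : ∃ c : Spec (CommRingCat.of A) ⟶
      Spec (CommRingCat.of (MvPolynomial {j : Fin (n + 1) // j ≠ 0} k)),
      c = Spec.map (CommRingCat.ofHom ψ'.toRingHom) := ⟨_, rfl⟩
  haveI : IsClosedImmersion c := by
    rw [hc]; exact IsClosedImmersion.spec_of_surjective _ hψ'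
  have hck : c ≫ Spec.map (CommRingCat.ofHom
      (algebraMap k (MvPolynomial {j : Fin (n + 1) // j ≠ 0} k))) =
      Spec.map (CommRingCat.ofHom (algebraMap k A)) := by
    rw [hc, ← Spec.map_comp, ← CommRingCat.ofHom_comp]
    congr 2
    exact ψ'.comp_algebraMap
  obtain ⟨j, hj⟩ : ∃ j : Spec (CommRingCat.of A) ⟶ CohB1.ProjSpace n k, j = c ≫ affEmb k n :=
    ⟨_, rfl⟩
  haveI : IsImmersion j := by rw [hj]; infer_instance
  haveI : IsProper (CohB1.ProjSpace.toSpec n k) := Groth.Agent.S9705.isProper_projSpace_toSpec n k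
  have hjk : j ≫ CohB1.ProjSpace.toSpec n k = Spec.map (CommRingCat.ofHom (algebraMap k A)) := by
    rw [hj, Category.assoc, affEmb_toSpec, hck]
  haveI : QuasiCompact j := by
    haveI : QuasiCompact (j ≫ CohB1.ProjSpace.toSpec n k) := by rw [hjk]; infer_instance
    exact QuasiCompact.of_comp j (CohB1.ProjSpace.toSpec n k)
  haveI : IsOpenImmersion j.toImage := inferInstance
  haveI : IsIntegral j.image := Groth.Agent.Lib.Helper8AffComplB.isIntegral_image j
  -- the ample module and its section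
  have hamp : CohB1.IsAmple (Twist.twistProjSpace n k 1) :=
    Groth.Agent.Lib.R2H3.VAmpleConv.isAmple_twistProjSpace_one n k
  obtain ⟨σ₀, hσ₀⟩ := Groth.Agent.Lib.R2H3.PnH0Drop.exists_section_genLocus n k
    (MvPolynomial.X (0 : Fin (n + 1))) (X_mem_one n k 0)
  obtain ⟨D, hD⟩ : ∃ D : (CohB1.ProjSpace n k).Opens, D = D0 k n := ⟨_, rfl⟩
  have hσ₀' : CohB1.genLocus (Twist.twistProjSpace n k 1) σ₀ = D := by rw [hD]; exact hσ₀
  obtain ⟨L₀, hL₀def⟩ : ∃ L₀ : j.image.Modules,
      L₀ = (Scheme.Modules.pullback j.imageι).obj (Twist.twistProjSpace n k 1) := ⟨_, rfl⟩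
  have hL₀ : CohB1.IsAmple L₀ := by
    rw [hL₀def]
    exact Groth.Agent.Lib.Helper23.PB.isAmple_pullback_of_isAffineHom j.imageι _ hamp
  subst hL₀def
  let e := (Groth.Agent.Lib.Helper23.PB.pullbackUnitIso j.imageι).symm
  obtain ⟨s₀, hs₀⟩ : ∃ s₀ : Coh.structureModule j.image ⟶
      (Scheme.Modules.pullback j.imageι).obj (Twist.twistProjSpace n k 1),
      s₀ = e.hom ≫ (Scheme.Modules.pullback j.imageι).map σ₀ := ⟨_, rfl⟩
  have hgen : CohB1.genLocus _ s₀ = j.imageι ⁻¹ᵁ D := by
    have := Groth.Agent.Lib.Helper23.PB.genLocus_pullback j.imageι (Twist.twistProjSpace n k 1)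
      hamp.1 σ₀ e
    rw [hσ₀'] at this
    rw [hs₀]
    exact this
  -- the range of `toImage` is the preimage of the chart
  have hti : j.toImage ≫ j.imageι = j := j.toImage_imageι
  have hr : Set.range j.toImage.base ⊆ ((j.imageι ⁻¹ᵁ D : j.image.Opens) : Set j.image) := by
    rintro _ ⟨y, rfl⟩
    show j.imageι.base (j.toImage.base y) ∈ D
    have h1 : j.imageι.base (j.toImage.base y) = j.base y := congrArg (fun m => m.base y) hti
    rw [h1, hD, hj]
    exact affEmb_mem k n (c.base y)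
  let e' : Spec (CommRingCat.of A) ⟶ ((j.imageι ⁻¹ᵁ D : j.image.Opens) : Scheme.{u}) :=
    IsOpenImmersion.lift (j.imageι ⁻¹ᵁ D).ι j.toImage (by
      rw [Scheme.Opens.range_ι]; exact hr)
  have he' : e' ≫ (j.imageι ⁻¹ᵁ D).ι = j.toImage := IsOpenImmersion.lift_fac _ _ _
  subst hD
  have he'' : e' ≫ (j.imageι ∣_ (D0 k n)) = c ≫ affEmb' k n := by
    rw [← cancel_mono (D0 k n).ι, Category.assoc, morphismRestrict_ι,
      ← Category.assoc, he', hti, Category.assoc, affEmb'_ι, hj]
  haveI : IsProper (e' ≫ (j.imageι ∣_ (D0 k n))) := by rw [he'']; infer_instance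
  have hV := Groth.Agent.Lib.Helper8AffComplA.eq_range_of_isProper_comp j.toImage
    j.toImage.denseRange (j.imageι ⁻¹ᵁ (D0 k n)) hr e' he' (j.imageι ∣_ (D0 k n))
  refine ⟨j.image, j.imageι ≫ CohB1.ProjSpace.toSpec n k, _, s₀, j.toImage, inferInstance,
    inferInstance, hL₀, inferInstance, ?_, ?_⟩
  · rw [← Category.assoc, hti, hjk]
  · rw [hgen, ← hV]

end Groth.Agent.Lib.Helper8AffComplC
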