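import Mathlib
import Groth.Prelude
import Groth.Agent.Lib.Helper18PBUnit4
import Groth.Agent.Lib.Helper23Serre

/-!
# The unit `G ⟶ i_* i^* G` of a closed immersion is an epimorphism (helper4, round 2)

For a closed immersion `i : Z ⟶ X` and a quasi-coherent `O_X`-module `G`, the unit of the
adjunction `i^* ⊣ i_*` at `G` is surjective on sections over affine opens (`unitSec_surjective`),
hence an epimorphism (`epi_unit_app`).
-/

set_option autoImplicit false
set_option linter.style.haveILetI false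
universe u
open CategoryTheory CategoryTheory.Limits AlgebraicGeometry TopologicalSpace Opposite
open Groth.Agent.Helper13PullbackUnit Scheme.Modules

namespace Groth.Agent.Lib.R2H4UnitEpi

/-- base change along a surjective ring map: the universal map is surjective -/
theorem surjective_of_lift_of_surjective {R R' : Type u} [CommRing R] [CommRing R'] (ψ : R →+* R')
    (hψ : Function.Surjective ψ) {M Q : Type u} [AddCommGroup M] [Module R M] [AddCommGroup Q]
    [Module R' Q] (φ : M →+ Q) (hφ : ∀ (r : R) (m : M), φ (r • m) = ψ r • φ m)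
    (huniv : ∀ (N : Type u) [AddCommGroup N] [Module R' N] (l : M →+ N),
      (∀ (r : R) (m : M), l (r • m) = ψ r • l m) → ∃! l' : Q →ₗ[R'] N, ∀ m, l' (φ m) = l m) :
    Function.Surjective φ := by
  let P : Submodule R' Q :=
    { carrier := Set.range φ
      add_mem' := by
        rintro _ _ ⟨a, rfl⟩ ⟨b, rfl⟩
        exact ⟨a + b, map_add _ _ _⟩
      zero_mem' := ⟨0, map_zero _⟩
      smul_mem' := by
        rintro c _ ⟨a, rfl⟩
        obtain ⟨r, rfl⟩ := hψ c
        exact ⟨r • a, hφ r a⟩ }
  obtain ⟨l', _, huniq⟩ := huniv (Q ⧸ P) 0 (fun r m => by simp)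
  have h1 : P.mkQ = l' := huniq P.mkQ (fun m => by
    rw [Submodule.mkQ_apply, AddMonoidHom.zero_apply, Submodule.Quotient.mk_eq_zero]
    exact ⟨m, rfl⟩)
  have h2 : (0 : Q →ₗ[R'] Q ⧸ P) = l' := huniq 0 (fun m => rfl)
  intro q
  have h3 : P.mkQ q = 0 := by
    rw [h1, ← h2]
    rfl
  exact (Submodule.Quotient.mk_eq_zero P).1 h3

variable {Z X : Scheme.{u}} (i : Z ⟶ X) [IsClosedImmersion i] (G : X.Modules) [G.IsQuasicoherent]

/-- over an affine open, the unit `Γ(G, U) → Γ(i^*G, i⁻¹U)` is surjective -/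
theorem unitSec_surjective {U : X.Opens} (hU : IsAffineOpen U) :
    Function.Surjective (unitSec i G (le_refl (i ⁻¹ᵁ U))) := by
  have hU' : IsAffineOpen (i ⁻¹ᵁ U) := hU.preimage i
  refine surjective_of_lift_of_surjective (i.appLE U (i ⁻¹ᵁ U) le_rfl).hom ?_ _
    (unitSec_smul i G le_rfl)
    (fun N _ _ l hl => existsUnique_lift i G hU hU' le_rfl N l hl)
  rw [Scheme.Hom.appLE_eq_app]
  exact i.app_surjective U hU

/-- the unit `G ⟶ i_* i^* G` is an epimorphism -/
theorem epi_unit_app : Epi ((pullbackPushforwardAdjunction i).unit.app G) := by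
  apply Groth.Agent.Lib.Helper23.Serre.epi_of_locally_surjective
  intro V t x hxV
  obtain ⟨U, hU, hxU, hUV⟩ := Opens.isBasis_iff_nbhd.1 X.isBasis_affineOpens hxV
  have hU' : IsAffineOpen U := hU
  let t' : Γ((Scheme.Modules.pullback i).obj G, i ⁻¹ᵁ U) :=
    ((Scheme.Modules.pullback i ⋙ Scheme.Modules.pushforward i).obj G).presheaf.map (homOfLE hUV).op t
  obtain ⟨a, ha⟩ := unitSec_surjective i G hU' t'
  refine ⟨U, hUV, hxU, a, ?_⟩
  rw [Groth.Agent.Helper18PBUnit.unit_app_eq_unitSec]
  exact ha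

end Groth.Agent.Lib.R2H4UnitEpi
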