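import Mathlib
import Groth.Prelude
import Groth.Agent.Lib.R2H4UnitEpi
import Groth.Agent.Lib.R2H4Quo
import Groth.Agent.Lib.R2H4CMSurf
import Groth.Agent.Lib.R2H3NegTwist
import Groth.Agent.Lib.R2H3AmpleSV
import Groth.Agent.Lib.R2H3AmpleFinite
import Groth.Agent.Lib.R2H1CurveAmple
import Groth.Agent.Lib.R2H1CurveAffProj
import Groth.Agent.Lib.Helper23GG
import Groth.Agent.Lib.Helper23SecTw10
import Groth.Agent.Lib.Helper23PB
import Groth.Agent.Lib.Helper18Cart1
import Groth.Agent.Lib.R2H2ClosedPnLin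

/-!
# `O(mD)` is globally generated when `O(D)|_D` is ample (helper4, round 2)

`X` proper over a field, `D` an effective Cartier divisor, `M = O_X(D)` with `M|_D` ample: then
`M^m` is globally generated for all large `m` (`main`, statement S17288).

The proof follows the classical argument: with `ι : D ⟶ X`, the unit sequences
`0 → I_D M^{m+1} → M^{m+1} → ι_* ι^* M^{m+1} → 0` with `I_D M^{m+1} ≅ M^m` and Serre vanishing on
`D` give surjections `H¹(M^m) ↠ H¹(M^{m+1})`; where the dimensions stabilise all sections of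
`M^{m+1}|_D` lift to `X`, and `M^{m+1}|_D` is globally generated.  Away from `D` the canonical
section generates.
-/

set_option autoImplicit false
set_option linter.style.haveILetI false
set_option linter.unusedSectionVars false
universe u
open CategoryTheory CategoryTheory.Limits AlgebraicGeometry TopologicalSpace

noncomputable section

namespace Groth.Agent.Lib.R2H4CartierGG

open Groth.Agent.Lib.R2H2.HHLin Groth.Agent.Lib.R2H2.PnSerre Groth.Agent.Lib.R2H2.StalkPow
  Groth.Agent.Lib.R2H4TensorPows Groth.Agent.Lib.R2H4Quo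

section Ass

variable {X : Scheme.{u}}

theorem isAssPoint_iff_of_iso {F G : X.Modules} (e : F ≅ G) (x : X) :
    Curv2.IsAssPoint F x ↔ Curv2.IsAssPoint G x :=
  LinearEquiv.isAssociatedPrime_iff (LinearEquiv.ofLinear (stalkLin e.hom x) (stalkLin e.inv x)
    (by rw [← stalkLin_comp, e.inv_hom_id, stalkLin_id])
    (by rw [← stalkLin_comp, e.hom_inv_id, stalkLin_id]))

/-- an invertible module has no associated point on an effective Cartier divisor -/
theorem not_isAssPoint_of_isInvertible [IsNoetherian X] (D : X.IdealSheafData)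
    (hD : BlowUp.IsEffCartierIdeal D) (N : X.Modules) (hN : PicF.IsInvertible N) (x : X)
    (hx : x ∈ D.support) : ¬ Curv2.IsAssPoint N x := by
  haveI : (Coh.structureModule X).IsQuasicoherent :=
    Groth.Agent.Lib.Helper23.Serre.isQuasicoherent_structureModule' X
  haveI : N.IsQuasicoherent := Groth.Agent.Lib.Helper23.SecTw.isQuasicoherent_of_isInvertible N hN
  haveI : (CohB1.tensorMod (Coh.structureModule X) N).IsQuasicoherent :=
    Groth.Agent.Lib.Helper23.TensorQCoh.isQuasicoherent_tensorMod _ _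
  intro h
  rw [isAssPoint_iff_of_iso (lUnit N).symm,
    Groth.Agent.Lib.R2H3.NegTwist.isAssPoint_tensor_iff (Coh.structureModule X) N hN x] at h
  exact Groth.Agent.Lib.R2H4CMSurf.not_isAssPoint_structure D hD x hx h

end Ass

section Seq

variable {X : Scheme.{u}} (D : X.IdealSheafData)

/-- the unit sequence `0 → I_D N → N → ι_* ι^* N → 0` -/
def unitSC (N : X.Modules) : ShortComplex X.Modules :=
  ShortComplex.mk (Dual3.idealMulι D N)
    ((Scheme.Modules.pullbackPushforwardAdjunction D.subschemeι).unit.app N)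
    (kernel.condition _)

theorem unitSC_shortExact (N : X.Modules) [N.IsQuasicoherent] : (unitSC D N).ShortExact :=
  { exact := ShortComplex.exact_kernel _
    mono_f := inferInstanceAs (Mono (Dual3.idealMulι D N))
    epi_g := Groth.Agent.Lib.R2H4UnitEpi.epi_unit_app D.subschemeι N }

end Seq

section Stab

/-- an eventually non-increasing sequence of natural numbers is eventually constant -/
theorem exists_eventually_const (a : ℕ → ℕ) (m₀ : ℕ) (h : ∀ m, m₀ ≤ m → a (m + 1) ≤ a m) :
    ∃ m₁, m₀ ≤ m₁ ∧ ∀ m, m₁ ≤ m → a (m + 1) = a m := by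
  classical
  -- the minimum of the values `a (m₀ + j)`
  have hne : (Set.range fun j : ℕ => a (m₀ + j)).Nonempty := ⟨_, ⟨0, rfl⟩⟩
  obtain ⟨j₀, hj₀⟩ : ∃ j₀, ∀ j, a (m₀ + j₀) ≤ a (m₀ + j) := by
    obtain ⟨v, ⟨j₀, rfl⟩, hmin⟩ := WellFounded.has_min (wellFounded_lt (α := ℕ)) _ hne
    exact ⟨j₀, fun j => not_lt.1 (hmin _ ⟨j, rfl⟩)⟩
  have hanti : ∀ j i, a (m₀ + j + i) ≤ a (m₀ + j) := by
    intro j i
    induction i with
    | zero => exact le_rfl
    | succ i ih => exact (h (m₀ + j + i) (by omega)).trans ih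
  refine ⟨m₀ + j₀, Nat.le_add_right _ _, fun m hm => ?_⟩
  obtain ⟨i, rfl⟩ := Nat.exists_eq_add_of_le hm
  have h1 := hanti j₀ i
  have h2 := hanti j₀ (i + 1)
  have h3 := hj₀ (j₀ + i)
  have h4 := hj₀ (j₀ + i + 1)
  have e1 : m₀ + (j₀ + i) = m₀ + j₀ + i := by omega
  have e2 : m₀ + (j₀ + i + 1) = m₀ + j₀ + i + 1 := by omega
  have e3 : m₀ + j₀ + (i + 1) = m₀ + j₀ + i + 1 := by omega
  rw [e1] at h3
  rw [e2] at h4
  rw [e3] at h2
  omega

end Stab

section Main

variable (k : Type u) [Field k] {X : Scheme.{u}} [X.Over (Spec (CommRingCat.of k))]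
  [IsProper (X ↘ (Spec (CommRingCat.of k)))]

theorem isCoh_of_isInvertible {Y : Scheme.{u}} (L : Y.Modules) (hL : PicF.IsInvertible L) :
    Coh.IsCoh L :=
  ⟨Groth.Agent.Lib.Helper23.SecTw.isQuasicoherent_of_isInvertible L hL,
    Groth.Agent.Lib.R2H2.PnFinite.isFiniteType_of_isInvertible L hL⟩

include k in
/-- **S17288**: if `O_X(D)|_D` is ample then `O_X(mD)` is globally generated for large `m`. -/
theorem main (D : X.IdealSheafData) (hD : PicF.IsInvertible (ClSub.idealMod D)) (M : X.Modules)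
    (hMD : ClSub.IsInverseOf M (ClSub.idealMod D))
    (hample : CohB1.IsAmple ((Scheme.Modules.pullback D.subschemeι).obj M)) :
    ∀ᶠ m : ℕ in Filter.atTop, Curv2.IsGloballyGenerated (CohB1.tensorPow M m) := by
  classical
  haveI : IsNoetherian X := Groth.Agent.Lib.R2H1.CurveEuler.isNoetherian_of_proper k X
  obtain ⟨e⟩ := hMD
  have hD' : BlowUp.IsEffCartierIdeal D := (Groth.Agent.Helper18Cart.main_S8914 D).1 hD
  have hM : PicF.IsInvertible M :=
    Groth.Agent.Lib.R2H3.NegTwist.isInvertible_of_isInverseOf (ClSub.idealMod D) M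
      ⟨tComm _ _ ≪≫ e⟩
  letI : D.subscheme.Over (Spec (CommRingCat.of k)) :=
    ⟨D.subschemeι ≫ (X ↘ Spec (CommRingCat.of k))⟩
  haveI : IsProper (D.subscheme ↘ Spec (CommRingCat.of k)) :=
    inferInstanceAs (IsProper (D.subschemeι ≫ (X ↘ Spec (CommRingCat.of k))))
  haveI : IsNoetherian D.subscheme :=
    Groth.Agent.Lib.R2H1.CurveEuler.isNoetherian_of_proper k D.subscheme
  have hMZ : PicF.IsInvertible ((Scheme.Modules.pullback D.subschemeι).obj M) := hample.1
  have cOZ : Coh.IsCoh (Coh.structureModule D.subscheme) :=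
    Groth.Agent.Lib.R2H1.GenusLe.isCoh_structureModule D.subscheme
  haveI : (Coh.structureModule D.subscheme).IsQuasicoherent := cOZ.1
  haveI : SheafOfModules.IsFiniteType (R := D.subscheme.ringCatSheaf)
      (Coh.structureModule D.subscheme) := cOZ.2
  -- Serre vanishing and global generation on `D`
  obtain ⟨n₁, hn₁⟩ := Groth.Agent.Lib.R2H3.AmpleSV.serre_vanishing_ample (A := k)
    (D.subscheme ↘ Spec (CommRingCat.of k)) _ hample (Coh.structureModule D.subscheme) cOZ
  obtain ⟨n₂, hn₂⟩ := Groth.Agent.Lib.Helper23.LocGen.isGloballyGenerated_twist_eventually _ hample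
    (Coh.structureModule D.subscheme)
  have hNinv : ∀ m, PicF.IsInvertible (CohB1.tensorPow M m) := fun m =>
    Groth.Agent.Lib.Helper23.SecTw.isInvertible_tensorPow hM m
  have hNcoh : ∀ m, Coh.IsCoh (CohB1.tensorPow M m) := fun m => isCoh_of_isInvertible _ (hNinv m)
  -- the kernel of the unit
  have hker : ∀ m, Nonempty ((Dual3.idealMul D).obj (CohB1.tensorPow M (m + 1)) ≅
      CohB1.tensorPow M m) := by
    intro m
    haveI := isIso_mulRLift D hD' (CohB1.tensorPow M (m + 1)) (hNcoh _)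
      (fun x hx => not_isAssPoint_of_isInvertible D hD' _ (hNinv _) x hx)
    exact ⟨(asIso (mulRLift D hD' (CohB1.tensorPow M (m + 1)))).symm ≪≫
      tAssoc (CohB1.tensorPow M m) M (ClSub.idealMod D) ≪≫ tIso (Iso.refl _) e ≪≫ rUnit _⟩
  -- the restriction to `D`
  have hres : ∀ m, Nonempty (CohB1.tensorMod (Coh.structureModule D.subscheme)
      (CohB1.tensorPow ((Scheme.Modules.pullback D.subschemeι).obj M) m) ≅
      (Scheme.Modules.pullback D.subschemeι).obj (CohB1.tensorPow M m)) := by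
    intro m
    obtain ⟨Φ⟩ := Groth.Agent.Lib.Helper23.PB.nonempty_pullback_tensorPow_iso D.subschemeι M hM m
    exact ⟨lUnit _ ≪≫ Φ.symm⟩
  have hvan : ∀ m, n₁ ≤ m + 1 →
      Subsingleton (Coh.HH X (unitSC D (CohB1.tensorPow M (m + 1))).X₃ 1) := by
    intro m hm
    obtain ⟨Ψ⟩ := hres (m + 1)
    have h2 : Subsingleton (Coh.HH D.subscheme
        ((Scheme.Modules.pullback D.subschemeι).obj (CohB1.tensorPow M (m + 1))) 1) :=
      subsingleton_HH_of_iso Ψ 1 (hn₁ (m + 1) hm 1 Nat.one_pos)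
    have hq : Coh.IsQCoh ((Scheme.Modules.pullback D.subschemeι).obj (CohB1.tensorPow M (m + 1))) :=
      Groth.Agent.Lib.Helper23.SecTw.isQuasicoherent_of_isInvertible _
        (Groth.Agent.Lib.Helper23.PB.isInvertible_pullback D.subschemeι _ (hNinv _))
    exact (Groth.Agent.Lib.R2H2.ClosedPn.subsingleton_HH_push_iff D.subschemeι _ hq 1).1 h2
  -- the sequence of `h¹`
  let a : ℕ → ℕ := fun m => Module.finrank k (Coh.HH X (CohB1.tensorPow M m) 1)
  have hX₁ : ∀ m, Module.finrank k (Coh.HH X (unitSC D (CohB1.tensorPow M (m + 1))).X₁ 1) = a m := by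
    intro m
    obtain ⟨Φ⟩ := hker m
    exact Groth.Agent.Lib.R2H2.ClosedPnLin.finrank_HH_of_iso k Φ 1
  have hSE : ∀ m, (unitSC D (CohB1.tensorPow M m)).ShortExact := fun m =>
    haveI : (CohB1.tensorPow M m).IsQuasicoherent := (hNcoh m).1
    unitSC_shortExact D _
  have cX₁ : ∀ m, Coh.IsCoh (unitSC D (CohB1.tensorPow M m)).X₁ := fun m =>
    Groth.Agent.Lib.R2H2.DevF.isCoh_idealMul D _ (hNcoh m)
  have hmono : ∀ m, n₁ ≤ m → a (m + 1) ≤ a m := by
    intro m hm
    haveI := hvan m (hm.trans (Nat.le_succ m))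
    haveI : Module.Finite k (Coh.HH X (unitSC D (CohB1.tensorPow M (m + 1))).X₁ 1) :=
      Groth.Agent.Lib.R2H1.EulerAdd.finite_HH k X _ (cX₁ (m + 1)) 1
    have hsurj : Function.Surjective
        (HmapA k (unitSC D (CohB1.tensorPow M (m + 1))).f 1) := by
      intro y
      obtain ⟨x₁, hx₁⟩ := exact₂ _ (hSE (m + 1)) 1 y (Subsingleton.elim _ _)
      exact ⟨x₁, by rw [HmapA_apply]; exact hx₁⟩
    have h1 := LinearMap.finrank_range_le (HmapA k (unitSC D (CohB1.tensorPow M (m + 1))).f 1)
    rw [LinearMap.range_eq_top.2 hsurj, finrank_top, hX₁ m] at h1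
    exact h1
  obtain ⟨m₁, hm₁, hconst⟩ := exists_eventually_const a n₁ hmono
  rw [Filter.eventually_atTop]
  refine ⟨max m₁ n₂ + 1, fun m hm => ?_⟩
  obtain ⟨m', rfl⟩ : ∃ m', m = m' + 1 := ⟨m - 1, by omega⟩
  have hm'₁ : m₁ ≤ m' := by
    have := le_max_left m₁ n₂
    omega
  have hm'₂ : n₂ ≤ m' + 1 := by
    have := le_max_right m₁ n₂
    omega
  set N := CohB1.tensorPow M (m' + 1) with hNdef
  have hN : PicF.IsInvertible N := hNinv _
  -- lifting of sections
  have hlift : ∀ c : Coh.structureModule X ⟶ (unitSC D N).X₃,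
      ∃ t : Coh.structureModule X ⟶ N, t ≫ (unitSC D N).g = c := by
    intro c
    refine Groth.Agent.Lib.R2H1.CurveAmple.exists_lift_of_finrank_eq k X (unitSC D N) (hSE _)
      (cX₁ _) (hNcoh _) (hvan m' ((hm₁.trans hm'₁).trans (Nat.le_succ m'))) ?_ c
    rw [hX₁ m']
    exact (hconst m' hm'₁).symm
  -- global generation on `D`
  have hggZ : Curv2.IsGloballyGenerated ((Scheme.Modules.pullback D.subschemeι).obj N) := by
    obtain ⟨Ψ⟩ := hres (m' + 1)
    exact Groth.Agent.Lib.Helper23.RestrTensor.isGloballyGenerated_of_iso Ψ (hn₂ (m' + 1) hm'₂)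
  have hNZ : PicF.IsInvertible ((Scheme.Modules.pullback D.subschemeι).obj N) :=
    Groth.Agent.Lib.Helper23.PB.isInvertible_pullback D.subschemeι N hN
  refine Groth.Agent.Lib.Helper23.SecTw.isGloballyGenerated_of_forall_mem_genLocus N (fun x => ?_)
  by_cases hx : x ∈ D.support
  · -- points of `D`
    have hx' : x ∈ Set.range D.subschemeι := by
      rw [Scheme.IdealSheafData.range_subschemeι]
      exact hx
    obtain ⟨x', rfl⟩ := hx'
    obtain ⟨τ, hτ⟩ := Groth.Agent.Lib.Helper23.GG.exists_section_mem_genLocus _ hNZ hggZ x'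
    let e₀ : Coh.structureModule D.subscheme ≅
        (Scheme.Modules.pullback D.subschemeι).obj (Coh.structureModule X) :=
      (Groth.Agent.Lib.Helper23.PB.pullbackUnitIso D.subschemeι).symm
    let adj := Scheme.Modules.pullbackPushforwardAdjunction D.subschemeι
    let c : Coh.structureModule X ⟶ (unitSC D N).X₃ := adj.homEquiv _ _ (e₀.inv ≫ τ)
    obtain ⟨t, ht⟩ := hlift c
    have h1 : (Scheme.Modules.pullback D.subschemeι).map t = e₀.inv ≫ τ := by
      apply (adj.homEquiv _ _).injective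
      rw [Adjunction.homEquiv_unit]
      exact (adj.unit.naturality t).symm.trans ht
    have h3 := Groth.Agent.Lib.Helper23.PB.genLocus_pullback D.subschemeι N hN t e₀
    rw [h1, Iso.hom_inv_id_assoc] at h3
    refine ⟨t, ?_⟩
    have h4 : x' ∈ D.subschemeι ⁻¹ᵁ CohB1.genLocus N t := h3 ▸ hτ
    exact h4
  · -- points away from `D`
    refine ⟨SecTwist.powHom (Groth.Agent.Lib.R2H1.CurveAffProj.canonSec D M e) (m' + 1), ?_⟩
    rw [Groth.Agent.Lib.Helper23.SecTw.genLocus_powHom hM _ (m' + 1) (Nat.succ_pos m')]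
    exact Groth.Agent.Lib.R2H1.CurveAffProj.mem_genLocus_canonSec D M hM e x hx

end Main

end Groth.Agent.Lib.R2H4CartierGG
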