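import Mathlib
import Groth.Agent.Lib.R2H4CartierGG
import Groth.Agent.Lib.R2H4GGAmple
import Groth.Agent.Lib.R2H1NefPull
import Groth.Agent.Lib.R2H3AmpleFinite
import Groth.Agent.Lib.R2H2DevD
import Groth.Agent.Lib.R2H4DiffCartier
import Groth.Agent.Lib.R2H4SnapperCartier
import Groth.Agent.Lib.R2H1DegNonpos
import Groth.Agent.Lib.R2H4ModSec
import Groth.Agent.Lib.Helper8Conn
import Groth.Agent.Lib.Helper3DimCons
import Groth.Agent.Lib.Helper14FtPts
import Groth.Agent.Lib.Helper23AssAffine
set_option backward.isDefEq.respectTransparency.types false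

/-!
helper4 (run 2): the core of the Nakai–Moishezon criterion over an arbitrary field (S16711).
`strictNef_pullback` (strict nefness restricts to closed subschemes), `mem_genLocus_of_isAssPoint`
(a nonzero section of an invertible module on an integral scheme generates at the associated points
of `O`), `isAmple_of_integral` (integral step: a nonzero section of `M^(m+1)` whose zero scheme `D`
has `M|_D` ample, `M` strictly nef ⟹ `M` ample), `isAmple_of_forall_integral` (ampleness is detected
on integral closed subschemes), `main` (strictly nef + a nonzero section of a positive power on every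
integral closed subscheme ⟹ ample).
-/

set_option autoImplicit false
set_option linter.style.haveILetI false
set_option linter.unusedSectionVars false
universe u v

open CategoryTheory CategoryTheory.Limits AlgebraicGeometry TopologicalSpace Opposite

namespace Groth.Agent.Lib.R2H4NakaiCore

open Groth.Agent.Lib.R2H1.NefPull Groth.Agent.Lib.R2H4NumEqDesc Groth.Agent.Lib.R2H4NumEqPull

section PartA

variable (k : Type u) [Field k] (X X' : Scheme.{u})
    [X.Over (Spec (CommRingCat.of k))] [IsProper (X ↘ (Spec (CommRingCat.of k)))]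
    [X'.Over (Spec (CommRingCat.of k))] [IsProper (X' ↘ (Spec (CommRingCat.of k)))]

/-- strict nefness (degree form) restricts along a closed immersion -/
theorem strictNef_pullback_deg (f : X' ⟶ X) [IsClosedImmersion f]
    (hf : f ≫ (X ↘ (Spec (CommRingCat.of k))) = X' ↘ (Spec (CommRingCat.of k)))
    (L : X.Modules) (hL : PicF.IsInvertible L)
    (hnef : ∀ C : X.IdealSheafData, IsIntegral C.subscheme →
      topologicalKrullDim (C.support : Set X) = 1 →
      0 < Pic13.curveDeg k (C.subschemeι ≫ (X ↘ (Spec (CommRingCat.of k))))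
        ((Scheme.Modules.pullback C.subschemeι).obj L))
    (C' : X'.IdealSheafData) (hC' : IsIntegral C'.subscheme)
    (hdim' : topologicalKrullDim (C'.support : Set X') = 1) :
    0 < Pic13.curveDeg k (C'.subschemeι ≫ (X' ↘ (Spec (CommRingCat.of k))))
      ((Scheme.Modules.pullback C'.subschemeι).obj ((Scheme.Modules.pullback f).obj L)) := by
  haveI := hC'
  have hY' : topologicalKrullDim C'.subscheme = 1 := by rw [← dim_support_eq, hdim']
  obtain ⟨h, hh⟩ : ∃ h : C'.subscheme ⟶ X, h = C'.subschemeι ≫ f := ⟨_, rfl⟩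
  have hcomp : h ≫ (X ↘ Spec (CommRingCat.of k)) =
      C'.subschemeι ≫ (X' ↘ Spec (CommRingCat.of k)) := by
    rw [hh, Category.assoc, hf]
  haveI : IsProper (C'.subschemeι ≫ (X' ↘ Spec (CommRingCat.of k))) := inferInstance
  haveI : IsProper (h ≫ (X ↘ Spec (CommRingCat.of k))) := by
    rw [hcomp]; infer_instance
  haveI : IsProper h := IsProper.of_comp h (X ↘ Spec (CommRingCat.of k))
  have hinj : Function.Injective h.base := by
    rw [hh]
    exact (C'.subschemeι ≫ f).isClosedEmbedding.injective
  have eL : (Scheme.Modules.pullback C'.subschemeι).obj ((Scheme.Modules.pullback f).obj L) ≅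
      (Scheme.Modules.pullback h).obj L :=
    (Scheme.Modules.pullbackComp C'.subschemeι f).app L ≪≫
      (Scheme.Modules.pullbackCongr hh.symm).app L
  rw [curveDeg_congr k _ hY'.le eL]
  have hkey : Pic13.curveDeg k (C'.subschemeι ≫ (X' ↘ Spec (CommRingCat.of k)))
        ((Scheme.Modules.pullback h).obj L) =
      Pic13.curveDeg k (h ≫ (X ↘ Spec (CommRingCat.of k)))
        ((Scheme.Modules.pullback h).obj L) := by
    congr 1
    exact hcomp.symm
  rw [hkey]
  have hpt : ¬ ∃ x : X, Set.range h.base ⊆ {x} := by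
    rintro ⟨x, hx⟩
    haveI : Subsingleton C'.subscheme := ⟨fun a b => hinj ((hx ⟨a, rfl⟩).trans (hx ⟨b, rfl⟩).symm)⟩
    have h0 : topologicalKrullDim C'.subscheme ≤ 0 := by
      unfold topologicalKrullDim
      haveI : Subsingleton (IrreducibleCloseds C'.subscheme) := by
        refine ⟨fun A B => ?_⟩
        apply SetLike.ext
        intro y
        obtain ⟨a, ha⟩ := A.isIrreducible'.nonempty
        obtain ⟨b, hb⟩ := B.isIrreducible'.nonempty
        constructor
        · intro _; rw [Subsingleton.elim y b]; exact hb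
        · intro _; rw [Subsingleton.elim y a]; exact ha
      exact Order.krullDim_nonpos_of_subsingleton
    rw [hY'] at h0
    exact absurd h0 (by decide)
  obtain ⟨I₀, hint₀, hdim₀, hr₀⟩ := image_curve X hY' h hpt
  haveI := hint₀
  obtain ⟨c, hc, hform⟩ := exists_pos_curveDeg_pullback k X hY' hdim₀ h I₀.subschemeι hr₀.symm
  rw [hform L hL]
  exact mul_pos hc (hnef I₀ hint₀ (by rw [dim_support_eq, hdim₀]))

/-- strict nefness (Euler characteristic form) restricts along a closed immersion -/
theorem strictNef_pullback (f : X' ⟶ X) [IsClosedImmersion f]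
    (hf : f ≫ (X ↘ (Spec (CommRingCat.of k))) = X' ↘ (Spec (CommRingCat.of k)))
    (L : X.Modules) (hL : PicF.IsInvertible L)
    (hnef : ∀ C : X.IdealSheafData, IsIntegral C.subscheme →
      topologicalKrullDim (C.support : Set X) = 1 →
        0 < Curv2.euler k X (CohB1.tensorMod (ClSub.quotMod C) L) - Curv2.euler k X (ClSub.quotMod C))
    (C' : X'.IdealSheafData) (hC' : IsIntegral C'.subscheme)
    (hdim' : topologicalKrullDim (C'.support : Set X') = 1) :
    0 < Curv2.euler k X' (CohB1.tensorMod (ClSub.quotMod C') ((Scheme.Modules.pullback f).obj L)) -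
      Curv2.euler k X' (ClSub.quotMod C') := by
  have hL' := Groth.Agent.Lib.Helper23.PB.isInvertible_pullback f L hL
  rw [euler_quotMod_tensor_sub k X' C' hdim'.le _ hL']
  refine strictNef_pullback_deg k X X' f hf L hL (fun C hC hdim => ?_) C' hC' hdim'
  rw [← euler_quotMod_tensor_sub k X C hdim.le _ hL]
  exact hnef C hC hdim

end PartA

section PartB

open Groth.Agent.Lib.Helper23.GenLocus

variable {Y : Scheme.{u}} [IsIntegral Y] [IsLocallyNoetherian Y]

/-- on an integral scheme, an associated point of `O` lies in every nonempty open -/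
theorem mem_of_isAssPoint (x : Y) (hx : Curv2.IsAssPoint (Coh.structureModule Y) x)
    (V : Y.Opens) (hV : (V : Set Y).Nonempty) : x ∈ V := by
  haveI : (Coh.structureModule Y).IsQuasicoherent :=
    Groth.Agent.Lib.Helper23.Serre.isQuasicoherent_structureModule' Y
  obtain ⟨U, hU, hxU, -⟩ :=
    exists_isAffineOpen_mem_and_subset (X := Y) (x := x) (U := ⊤) trivial
  haveI : IsNoetherianRing Γ(Y, U) := IsLocallyNoetherian.component_noetherian ⟨U, hU⟩
  rw [Groth.Agent.Lib.Helper23.AssAffine.isAssPoint_iff_mem_associatedPrimes hU _ x hxU] at hx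
  have hmem' : IsAssociatedPrime (hU.primeIdealOf ⟨x, hxU⟩).asIdeal
      Γ(Coh.structureModule Y, U) := hx
  rw [isAssociatedPrime_iff] at hmem'
  obtain ⟨-, y, hy⟩ := hmem'
  haveI : Nonempty U := ⟨⟨x, hxU⟩⟩
  haveI : IsDomain Γ(Y, U) := IsIntegral.component_integral U
  have hy0 : y ≠ 0 := by
    rintro rfl
    have htop : (hU.primeIdealOf ⟨x, hxU⟩).asIdeal = ⊤ := by
      rw [hy]
      ext r
      simp [Submodule.mem_colon_singleton]
    exact (hU.primeIdealOf ⟨x, hxU⟩).isPrime.ne_top htop
  have hbot : ∀ a ∈ (hU.primeIdealOf ⟨x, hxU⟩).asIdeal, a = 0 := by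
    intro a ha
    rw [hy, Submodule.mem_colon_singleton, Submodule.mem_bot] at ha
    have h1 : a * ofS U y = 0 := congrArg (ofS U) ha
    rcases mul_eq_zero.1 h1 with h | h
    · exact h
    · exact absurd (congrArg (toS U) h) hy0
  obtain ⟨z, hzV, hzU⟩ : ((V : Set Y) ∩ (U : Set Y)).Nonempty :=
    nonempty_preirreducible_inter V.isOpen U.isOpen hV ⟨x, hxU⟩
  obtain ⟨a, hle, hza⟩ := hU.exists_basicOpen_le (V := V) ⟨z, hzV⟩ hzU
  have ha0 : a ≠ 0 := by
    rintro rfl
    rw [Scheme.basicOpen_zero] at hza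
    exact hza
  have hxa : x ∈ Y.basicOpen a :=
    (Groth.Agent.Lib.Helper14.mem_basicOpen_iff_notMem_primeIdealOf hU x hxU a).2
      (fun h => ha0 (hbot a h))
  exact hle hxa

/-- a nonzero section of an invertible module on an integral scheme generates at every associated
point of the structure sheaf -/
theorem mem_genLocus_of_isAssPoint (L : Y.Modules) (hL : PicF.IsInvertible L)
    (s : Coh.structureModule Y ⟶ L) (hs : s ≠ 0) (x : Y)
    (hx : Curv2.IsAssPoint (Coh.structureModule Y) x) : x ∈ CohB1.genLocus L s := by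
  refine mem_of_isAssPoint x hx _ ?_
  by_contra hne
  apply hs
  apply Groth.Agent.Lib.R2H1.DegNonpos.eq_zero_of_genLocus_eq_bot L hL s
  ext y
  simp only [Opens.coe_bot, Set.mem_empty_iff_false, iff_false]
  exact fun hy => hne ⟨y, hy⟩

end PartB

section PartC

variable (k : Type u) [Field k] (Y : Scheme.{u}) [Y.Over (Spec (CommRingCat.of k))]
    [IsProper (Y ↘ (Spec (CommRingCat.of k)))] [IsIntegral Y]

/-- the integral step of Nakai–Moishezon: `M` strictly nef with a nonzero section `s` of
`M^(m+1)` such that `M` restricted to the zero scheme of `s` is ample ⟹ `M` ample -/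
theorem isAmple_of_integral (M : Y.Modules) (hM : PicF.IsInvertible M)
    (hnef : ∀ C : Y.IdealSheafData, IsIntegral C.subscheme →
      topologicalKrullDim (C.support : Set Y) = 1 →
        0 < Curv2.euler k Y (CohB1.tensorMod (ClSub.quotMod C) M) - Curv2.euler k Y (ClSub.quotMod C))
    (m : ℕ) (s : Coh.structureModule Y ⟶ CohB1.tensorPow M (m + 1)) (hs : s ≠ 0)
    (hD : CohB1.IsAmple
      ((Scheme.Modules.pullback (PicF2.zeroScheme _ s).subschemeι).obj M)) :
    CohB1.IsAmple M := by
  haveI : IsNoetherian Y := Groth.Agent.Lib.R2H1.CurveEuler.isNoetherian_of_proper k Y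
  have hM' : PicF.IsInvertible (CohB1.tensorPow M (m + 1)) :=
    Groth.Agent.Lib.Helper23.SecTw.isInvertible_tensorPow hM (m + 1)
  have hreg : ∀ x : Y, Curv2.IsAssPoint (Coh.structureModule Y) x →
      x ∈ CohB1.genLocus (CohB1.tensorPow M (m + 1)) s :=
    fun x hx => mem_genLocus_of_isAssPoint _ hM' s hs x hx
  have hcart := Groth.Agent.Lib.R2H4DiffCartier.isEffCartier_zeroScheme _ hM' s hreg
  obtain ⟨e⟩ := Groth.Agent.Lib.R2H4DiffCartier.nonempty_iso_tensor_zeroScheme _ hM' s hreg
  have hDinv : PicF.IsInvertible (ClSub.idealMod (PicF2.zeroScheme _ s)) :=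
    (Groth.Agent.Helper18Cart.main_S8914 _).2 hcart
  have hMD : ClSub.IsInverseOf (CohB1.tensorPow M (m + 1))
      (ClSub.idealMod (PicF2.zeroScheme _ s)) := ⟨e.symm⟩
  have hample : CohB1.IsAmple ((Scheme.Modules.pullback (PicF2.zeroScheme _ s).subschemeι).obj
      (CohB1.tensorPow M (m + 1))) := by
    obtain ⟨Φ⟩ := Groth.Agent.Lib.Helper23.PB.nonempty_pullback_tensorPow_iso
      (PicF2.zeroScheme _ s).subschemeι M hM (m + 1)
    exact Groth.Agent.Lib.Helper23.AmpleIso.isAmple_of_iso Φ.symm
      ((Groth.Agent.Lib.Helper23.SecTw.isAmple_tensorPow_iff _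
        (Groth.Agent.Lib.Helper23.PB.isInvertible_pullback _ M hM) (m + 1) (Nat.succ_pos m)).1 hD)
  have hgg := Groth.Agent.Lib.R2H4CartierGG.main k _ hDinv _ hMD hample
  obtain ⟨j, hj, hj1⟩ := (hgg.and (Filter.eventually_ge_atTop 1)).exists
  obtain ⟨Ψ⟩ := Groth.Agent.Lib.Helper23.SecTw.nonempty_tensorPow_tensorPow_iso M hM (m + 1) j
    ((m + 1) * j) rfl
  obtain ⟨n, hn⟩ : ∃ n, (m + 1) * j = n + 1 :=
    ⟨(m + 1) * j - 1, by
      have h1 : 0 < (m + 1) * j := Nat.mul_pos (Nat.succ_pos m) hj1
      omega⟩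
  refine (Groth.Agent.Lib.R2H4GGAmple.isAmple_iff_strictlyNef_and_semiample k Y M hM).2
    ⟨hnef, n, ?_⟩
  rw [← hn]
  exact Groth.Agent.Lib.Helper23.RestrTensor.isGloballyGenerated_of_iso Ψ hj

end PartC

section PartD

variable (k : Type u) [Field k] (X : Scheme.{u}) [X.Over (Spec (CommRingCat.of k))]
    [IsProper (X ↘ (Spec (CommRingCat.of k)))]

include k in
/-- ampleness on a proper scheme over a field is detected on integral closed subschemes -/
theorem isAmple_of_forall_integral (L : X.Modules) (hL : PicF.IsInvertible L)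
    (h : ∀ (W : Scheme.{u}) (i : W ⟶ X) [IsClosedImmersion i] [IsIntegral W],
      CohB1.IsAmple ((Scheme.Modules.pullback i).obj L)) : CohB1.IsAmple L := by
  refine Groth.Agent.Lib.R2H3.AmpleFinite.isAmple_of_finite_cover k
    (X ↘ Spec (CommRingCat.of k)) L hL (fun y => ?_)
  obtain ⟨W, i, hi, hW, hr, -⟩ := Groth.Agent.Lib.R2H2.DevD.exists_integral_closed
    (closure {y}) isClosed_closure isIrreducible_singleton.closure y rfl
  haveI := hi
  haveI := hW
  refine ⟨W, i ≫ (X ↘ Spec (CommRingCat.of k)), inferInstance, i, inferInstance, ?_, h W i⟩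
  rw [hr]
  exact subset_closure rfl

end PartD

section Arith

theorem isEmpty_of_dim_lt_zero {T : Type*} [TopologicalSpace T]
    (h : topologicalKrullDim T < ((0 : ℕ) : WithBot ℕ∞)) : IsEmpty T := by
  by_contra hne
  rw [not_isEmpty_iff] at hne
  obtain ⟨t⟩ := hne
  haveI : Nonempty (IrreducibleCloseds T) :=
    ⟨⟨closure {t}, isIrreducible_singleton.closure, isClosed_closure⟩⟩
  have h0 : (0 : WithBot ℕ∞) ≤ topologicalKrullDim T := Order.krullDim_nonneg
  exact absurd (lt_of_le_of_lt h0 h) (by simp)

theorem exists_nat_gt_of_lt_top (a : WithBot ℕ∞) (h : a < ⊤) :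
    ∃ d : ℕ, a < ((d : ℕ) : WithBot ℕ∞) := by
  induction a using WithBot.recBotCoe with
  | bot => exact ⟨0, WithBot.bot_lt_coe _⟩
  | coe n =>
    induction n using ENat.recTopCoe with
    | top => exact absurd h (lt_irrefl _)
    | coe m =>
      refine ⟨m + 1, ?_⟩
      change (((m : ℕ) : ℕ∞) : WithBot ℕ∞) < (((m + 1 : ℕ) : ℕ∞) : WithBot ℕ∞)
      rw [WithBot.coe_lt_coe, Nat.cast_lt]
      omega

theorem lt_of_add_one_le_of_lt (a b : WithBot ℕ∞) (d : ℕ) (h1 : a + 1 ≤ b)
    (h2 : b < ((d + 1 : ℕ) : WithBot ℕ∞)) : a < ((d : ℕ) : WithBot ℕ∞) := by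
  have h := lt_of_le_of_lt h1 h2
  induction a using WithBot.recBotCoe with
  | bot => exact WithBot.bot_lt_coe _
  | coe n =>
    induction n using ENat.recTopCoe with
    | top =>
      exfalso
      have : ((⊤ : ℕ∞) : WithBot ℕ∞) + 1 = ((⊤ : ℕ∞) : WithBot ℕ∞) := by
        rw [← WithBot.coe_one, ← WithBot.coe_add, top_add]
      rw [this] at h
      have h' : ((⊤ : ℕ∞) : WithBot ℕ∞) < (((d + 1 : ℕ) : ℕ∞) : WithBot ℕ∞) := h
      rw [WithBot.coe_lt_coe] at h'
      exact absurd h' (not_lt.2 le_top)
    | coe m =>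
      have e2 : (((m : ℕ) : ℕ∞) : WithBot ℕ∞) + 1 = (((m + 1 : ℕ) : ℕ∞) : WithBot ℕ∞) := by
        rw [Nat.cast_add, Nat.cast_one, WithBot.coe_add, WithBot.coe_one]
      have h' : (((m + 1 : ℕ) : ℕ∞) : WithBot ℕ∞) < (((d + 1 : ℕ) : ℕ∞) : WithBot ℕ∞) := by
        rw [← e2]
        exact h
      rw [WithBot.coe_lt_coe, Nat.cast_lt] at h'
      change (((m : ℕ) : ℕ∞) : WithBot ℕ∞) < (((d : ℕ) : ℕ∞) : WithBot ℕ∞)
      rw [WithBot.coe_lt_coe, Nat.cast_lt]
      omega

end Arith

section PartE

variable (k : Type u) [Field k] (X : Scheme.{u}) [X.Over (Spec (CommRingCat.of k))]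
    [IsProper (X ↘ (Spec (CommRingCat.of k)))]

/-- the zero scheme of a nonzero section on an integral scheme has smaller dimension -/
theorem dim_zeroScheme_lt {Y : Scheme.{u}} [IsIntegral Y] (M : Y.Modules)
    (hM : PicF.IsInvertible M) (s : Coh.structureModule Y ⟶ M) (hs : s ≠ 0) (d : ℕ)
    (hY : topologicalKrullDim Y < ((d + 1 : ℕ) : WithBot ℕ∞)) :
    topologicalKrullDim (PicF2.zeroScheme M s).subscheme < ((d : ℕ) : WithBot ℕ∞) := by
  rw [← dim_support_eq]
  rcases Set.eq_empty_or_nonempty ((PicF2.zeroScheme M s).support : Set Y) with hemp | hne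
  · haveI : IsEmpty ((PicF2.zeroScheme M s).support : Set Y) := by
      rw [hemp]; infer_instance
    have : topologicalKrullDim ((PicF2.zeroScheme M s).support : Set Y) = ⊥ := by
      unfold topologicalKrullDim
      haveI : IsEmpty (IrreducibleCloseds ((PicF2.zeroScheme M s).support : Set Y)) :=
        ⟨fun A => by
          obtain ⟨a, -⟩ := A.isIrreducible'.nonempty
          exact isEmptyElim a⟩
      exact Order.krullDim_eq_bot
    rw [this]
    exact WithBot.bot_lt_coe _
  · have hgen : ((CohB1.genLocus M s : Y.Opens) : Set Y).Nonempty := by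
      by_contra hne'
      apply hs
      apply Groth.Agent.Lib.R2H1.DegNonpos.eq_zero_of_genLocus_eq_bot M hM s
      ext y
      simp only [Opens.coe_bot, Set.mem_empty_iff_false, iff_false]
      exact fun hy => hne' ⟨y, hy⟩
    obtain ⟨z, hz⟩ := hgen
    have hneq : ((PicF2.zeroScheme M s).support : Set Y) ≠ Set.univ := by
      intro heq
      have hz' : z ∈ (PicF2.zeroScheme M s).support := by
        change z ∈ ((PicF2.zeroScheme M s).support : Set Y)
        rw [heq]; trivial
      exact (Groth.Agent.Lib.R2H4ModSec.mem_support_zeroScheme_iff M hM s z).1 hz' hz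
    have h1 := Groth.Agent.Lib.Helper8.Conn.dim_add_one_le_of_proper_closed
      (C := (Set.univ : Set Y)) (Z := ((PicF2.zeroScheme M s).support : Set Y))
      (IrreducibleSpace.isIrreducible_univ Y) (PicF2.zeroScheme M s).support.isClosed (Set.subset_univ _) hneq hne
    have h2 : topologicalKrullDim (Set.univ : Set Y) = topologicalKrullDim Y :=
      IsHomeomorph.topologicalKrullDim_eq _ (Homeomorph.Set.univ Y).isHomeomorph
    rw [h2] at h1
    exact lt_of_add_one_le_of_lt _ _ d h1 hY

end PartE

section PartF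

variable (k : Type u) [Field k] (X : Scheme.{u}) [X.Over (Spec (CommRingCat.of k))]
    [IsProper (X ↘ (Spec (CommRingCat.of k)))]

/-- induction on the dimension: `L` restricted to every closed subscheme of dimension `< d`
is ample -/
theorem main_aux (L : X.Modules) (hL : PicF.IsInvertible L)
    (hnef : ∀ C : X.IdealSheafData, IsIntegral C.subscheme →
      topologicalKrullDim (C.support : Set X) = 1 →
        0 < Curv2.euler k X (CohB1.tensorMod (ClSub.quotMod C) L) - Curv2.euler k X (ClSub.quotMod C))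
    (heff : ∀ Z : X.IdealSheafData, IsIntegral Z.subscheme →
      ∃ (m : ℕ) (s : Coh.structureModule Z.subscheme ⟶
          CohB1.tensorPow ((Scheme.Modules.pullback Z.subschemeι).obj L) (m + 1)), s ≠ 0) :
    ∀ (d : ℕ) (W : Scheme.{u}) (j : W ⟶ X) [IsClosedImmersion j],
      topologicalKrullDim W < ((d : ℕ) : WithBot ℕ∞) →
        CohB1.IsAmple ((Scheme.Modules.pullback j).obj L) := by
  intro d
  induction d with
  | zero =>
    intro W j _ hdim
    haveI : IsEmpty W := isEmpty_of_dim_lt_zero hdim
    exact ⟨Groth.Agent.Lib.Helper23.PB.isInvertible_pullback j L hL, inferInstance,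
      fun x => isEmptyElim x⟩
  | succ d ih =>
    have hint : ∀ (V : Scheme.{u}) (j' : V ⟶ X) [IsClosedImmersion j'] [IsIntegral V],
        topologicalKrullDim V < ((d + 1 : ℕ) : WithBot ℕ∞) →
          CohB1.IsAmple ((Scheme.Modules.pullback j').obj L) := by
      intro V j' _ _ hdimV
      obtain ⟨Z₁, hZ₁⟩ : ∃ Z₁ : X.IdealSheafData, Z₁ = j'.ker := ⟨_, rfl⟩
      obtain ⟨e, he, heiso⟩ : ∃ e : V ⟶ Z₁.subscheme, e ≫ Z₁.subschemeι = j' ∧ IsIso e := by
        subst hZ₁
        exact ⟨j'.toImage, j'.toImage_imageι, inferInstance⟩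
      haveI := heiso
      haveI : IsIntegral Z₁.subscheme := by
        haveI : Nonempty Z₁.subscheme := ⟨e.base (Classical.arbitrary V)⟩
        exact isIntegral_of_isOpenImmersion (inv e)
      letI : Z₁.subscheme.Over (Spec (CommRingCat.of k)) :=
        ⟨Z₁.subschemeι ≫ (X ↘ Spec (CommRingCat.of k))⟩
      haveI : IsProper (Z₁.subscheme ↘ Spec (CommRingCat.of k)) :=
        inferInstanceAs (IsProper (Z₁.subschemeι ≫ (X ↘ Spec (CommRingCat.of k))))
      have hM : PicF.IsInvertible ((Scheme.Modules.pullback Z₁.subschemeι).obj L) :=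
        Groth.Agent.Lib.Helper23.PB.isInvertible_pullback _ L hL
      obtain ⟨m, s, hs⟩ := heff Z₁ inferInstance
      have hnefY := strictNef_pullback k X Z₁.subscheme Z₁.subschemeι rfl L hL hnef
      have hdimY : topologicalKrullDim Z₁.subscheme < ((d + 1 : ℕ) : WithBot ℕ∞) := by
        rw [← IsHomeomorph.topologicalKrullDim_eq _ (e.homeomorph).isHomeomorph]
        exact hdimV
      have hdimD := dim_zeroScheme_lt _
        (Groth.Agent.Lib.Helper23.SecTw.isInvertible_tensorPow hM (m + 1)) s hs d hdimY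
      have hDample : CohB1.IsAmple
          ((Scheme.Modules.pullback (PicF2.zeroScheme _ s).subschemeι).obj
            ((Scheme.Modules.pullback Z₁.subschemeι).obj L)) :=
        Groth.Agent.Lib.Helper23.AmpleIso.isAmple_of_iso
          ((Scheme.Modules.pullbackComp (PicF2.zeroScheme _ s).subschemeι Z₁.subschemeι).app L).symm
          (ih _ ((PicF2.zeroScheme _ s).subschemeι ≫ Z₁.subschemeι) hdimD)
      have hMample := isAmple_of_integral k Z₁.subscheme _ hM hnefY m s hs hDample
      have h1 := Groth.Agent.Lib.Helper23.PB.isAmple_pullback_of_isAffineHom e _ hMample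
      exact Groth.Agent.Lib.Helper23.AmpleIso.isAmple_of_iso
        ((Scheme.Modules.pullbackComp e Z₁.subschemeι).app L ≪≫
          (Scheme.Modules.pullbackCongr he).app L) h1
    intro W j _ hdim
    letI : W.Over (Spec (CommRingCat.of k)) := ⟨j ≫ (X ↘ Spec (CommRingCat.of k))⟩
    haveI : IsProper (W ↘ Spec (CommRingCat.of k)) :=
      inferInstanceAs (IsProper (j ≫ (X ↘ Spec (CommRingCat.of k))))
    refine isAmple_of_forall_integral k W _
      (Groth.Agent.Lib.Helper23.PB.isInvertible_pullback j L hL) (fun V h _ _ => ?_)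
    have hdimV : topologicalKrullDim V < ((d + 1 : ℕ) : WithBot ℕ∞) :=
      lt_of_le_of_lt h.isClosedEmbedding.isInducing.topologicalKrullDim_le hdim
    exact Groth.Agent.Lib.Helper23.AmpleIso.isAmple_of_iso
      ((Scheme.Modules.pullbackComp h j).app L).symm (hint V (h ≫ j) hdimV)

/-- **S16711 over an arbitrary field**: a strictly nef invertible module on a proper scheme such
that a positive power of its restriction to every integral closed subscheme has a nonzero section is
ample -/
theorem main (L : X.Modules) (hL : PicF.IsInvertible L)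
    (hnef : ∀ C : X.IdealSheafData, IsIntegral C.subscheme →
      topologicalKrullDim (C.support : Set X) = 1 →
        0 < Curv2.euler k X (CohB1.tensorMod (ClSub.quotMod C) L) - Curv2.euler k X (ClSub.quotMod C))
    (heff : ∀ Z : X.IdealSheafData, IsIntegral Z.subscheme →
      ∃ (m : ℕ) (s : Coh.structureModule Z.subscheme ⟶
          CohB1.tensorPow ((Scheme.Modules.pullback Z.subschemeι).obj L) (m + 1)), s ≠ 0) :
    CohB1.IsAmple L := by
  refine isAmple_of_forall_integral k X L hL (fun W i _ _ => ?_)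
  haveI : IsNoetherian X := Groth.Agent.Lib.R2H1.CurveEuler.isNoetherian_of_proper k X
  obtain ⟨d, hd⟩ : ∃ d : ℕ, topologicalKrullDim W < ((d : ℕ) : WithBot ℕ∞) := by
    haveI : CompactSpace W :=
      QuasiCompact.compactSpace_of_compactSpace (i ≫ (X ↘ Spec (CommRingCat.of k)))
    have hfin := Groth.Agent.Lib.Helper3.DimCons.topologicalKrullDim_lt_top_of_lft_field k
      (i ≫ (X ↘ Spec (CommRingCat.of k)))
    exact exists_nat_gt_of_lt_top _ hfin
  exact main_aux k X L hL hnef heff d W i hd

end PartF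

end Groth.Agent.Lib.R2H4NakaiCore
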