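import Mathlib
import Groth.Agent.Lib.Helper8AffComplC
import Groth.Agent.Lib.Helper4NormCurve
import Groth.Agent.Lib.R2H4NakaiCore
import Groth.Agent.Lib.R2H4DiffCartier

/-!
# Complement of an affine open, part D: normal projective closure

For a finitely generated domain `A` over a field `k` there is a normal integral proper `k`-scheme
`Y` carrying an ample invertible module `L` with a regular section `s` whose non-vanishing locus `W`
is finite and surjective over `Spec A`.
-/

set_option autoImplicit false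
set_option linter.style.haveILetI false
universe u
open AlgebraicGeometry CategoryTheory CategoryTheory.Limits TopologicalSpace

namespace Groth.Agent.Lib.Helper8AffComplD

open Groth.Agent.Lib.Helper4.NormCurve

/-- a section of a module on an integral locally Noetherian scheme which generates somewhere is a
monomorphism -/
theorem mono_of_nonempty_genLocus {Y : Scheme.{u}} [IsIntegral Y] [IsLocallyNoetherian Y]
    (L : Y.Modules) (s : Coh.structureModule Y ⟶ L)
    (h : ((CohB1.genLocus L s : Y.Opens) : Set Y).Nonempty) : Mono s :=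
  Groth.Agent.Lib.R2H4DiffCartier.mono_of_assPoints L s (fun x hx =>
    Groth.Agent.Lib.R2H4NakaiCore.mem_of_isAssPoint x hx _ h)

theorem exists_normal_closure (k : Type u) [Field k] (A : Type u) [CommRing A] [IsDomain A]
    [Algebra k A] [Algebra.FiniteType k A] :
    ∃ (Y : Scheme.{u}) (p : Y ⟶ Spec (CommRingCat.of k)) (L : Y.Modules)
      (s : Coh.structureModule Y ⟶ L) (W : Y.Opens)
      (φ : (W : Scheme.{u}) ⟶ Spec (CommRingCat.of A)),
      IsProper p ∧ IsIntegral Y ∧ Pi1.IsNormalScheme Y ∧ CohB1.IsAmple L ∧ Mono s ∧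
      CohB1.genLocus L s = W ∧ IsFinite φ ∧ Surjective φ ∧
      φ ≫ Spec.map (CommRingCat.ofHom (algebraMap k A)) = W.ι ≫ p := by
  obtain ⟨Y₀, p₀, L₀, s₀, j₀, hp₀, hY₀, hL₀, hj₀, hj₀p, hr⟩ :=
    Groth.Agent.Lib.Helper8AffComplC.exists_projective_closure k A
  letI : Y₀.Over (Spec (CommRingCat.of k)) := ⟨p₀⟩
  haveI : IsProper (Y₀ ↘ Spec (CommRingCat.of k)) := hp₀
  obtain ⟨g, hg⟩ : ∃ g : Spec (CommRingCat.of Y₀.functionField) ⟶ Y₀,
      g = gen Y₀ Y₀.functionField (RingHom.id _) := ⟨_, rfl⟩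
  haveI : QuasiCompact g := inferInstance
  haveI : QuasiSeparated g := inferInstance
  have hN2 : ∀ (U : Y₀.Opens), IsAffineOpen U → ∀ (hne : Nonempty ↥U),
      @CAlg.IsN2 Γ(Y₀, U) _ (@IsIntegral.component_integral Y₀ _ U hne) := fun U hU hne =>
    isN2_sections_of_locallyOfFiniteType_field k Y₀ U hU (hne := hne)
  haveI hfin : IsFinite g.fromNormalization :=
    isFinite_fromNormalization_of_eq Y₀.functionField (RingHom.id _) g hg
      (RingHom.Finite.id _) hN2
  have hsurj := surjective_fromNormalization_of_eq Y₀.functionField (RingHom.id _) g hg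
  have hnorm := isNormalScheme_normalization_of_eq Y₀.functionField (RingHom.id _) g hg
  obtain ⟨ν, hν⟩ : ∃ ν : g.normalization ⟶ Y₀, ν = g.fromNormalization := ⟨_, rfl⟩
  rw [← hν] at hfin hsurj
  haveI := hfin
  haveI : IsProper (ν ≫ p₀) := inferInstance
  haveI : IsLocallyNoetherian g.normalization :=
    LocallyOfFiniteType.isLocallyNoetherian (ν ≫ p₀)
  -- the ample module and its section
  have hL : CohB1.IsAmple ((Scheme.Modules.pullback ν).obj L₀) :=
    Groth.Agent.Lib.Helper23.PB.isAmple_pullback_of_isAffineHom ν L₀ hL₀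
  let e := (Groth.Agent.Lib.Helper23.PB.pullbackUnitIso ν).symm
  obtain ⟨s, hs⟩ : ∃ s : Coh.structureModule g.normalization ⟶
      (Scheme.Modules.pullback ν).obj L₀, s = e.hom ≫ (Scheme.Modules.pullback ν).map s₀ :=
    ⟨_, rfl⟩
  obtain ⟨W₀, hW₀⟩ : ∃ W₀ : Y₀.Opens, W₀ = CohB1.genLocus L₀ s₀ := ⟨_, rfl⟩
  have hgen : CohB1.genLocus _ s = ν ⁻¹ᵁ W₀ := by
    rw [hs, hW₀]
    exact Groth.Agent.Lib.Helper23.PB.genLocus_pullback ν L₀ hL₀.1 s₀ e
  rw [← hW₀] at hr
  -- `Spec A ≅ W₀`
  have hrange : Set.range j₀.base = Set.range W₀.ι.base := by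
    rw [hr, Scheme.Opens.range_ι]
  let θ : Spec (CommRingCat.of A) ≅ (W₀ : Scheme.{u}) :=
    IsOpenImmersion.isoOfRangeEq j₀ W₀.ι hrange
  have hθ : θ.hom ≫ W₀.ι = j₀ := IsOpenImmersion.isoOfRangeEq_hom_fac j₀ W₀.ι hrange
  have hθ' : θ.inv ≫ j₀ = W₀.ι := by rw [← hθ, Iso.inv_hom_id_assoc]
  have hne : ((ν ⁻¹ᵁ W₀ : g.normalization.Opens) : Set g.normalization).Nonempty := by
    haveI : Nonempty (Spec (CommRingCat.of A)) := inferInstance
    obtain ⟨a⟩ := ‹Nonempty (Spec (CommRingCat.of A))›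
    have ha : j₀.base a ∈ (W₀ : Set Y₀) := by rw [← hr]; exact ⟨a, rfl⟩
    obtain ⟨y, hy⟩ := hsurj.surj (j₀.base a)
    exact ⟨y, by change ν.base y ∈ W₀; rw [hy]; exact ha⟩
  haveI : Mono s := mono_of_nonempty_genLocus _ s (by rw [hgen]; exact hne)
  haveI : IsFinite (ν ∣_ W₀) := IsZariskiLocalAtTarget.restrict hfin W₀
  haveI : Surjective (ν ∣_ W₀) := IsZariskiLocalAtTarget.restrict hsurj W₀
  refine ⟨g.normalization, ν ≫ p₀, _, s, ν ⁻¹ᵁ W₀, (ν ∣_ W₀) ≫ θ.inv, inferInstance,
    inferInstance, hnorm, hL, inferInstance, hgen, inferInstance, inferInstance, ?_⟩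
  rw [Category.assoc, ← hj₀p, reassoc_of% hθ', morphismRestrict_ι_assoc]

end Groth.Agent.Lib.Helper8AffComplD
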