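import Mathlib
import Groth.Prelude
import Groth.Agent.Lib.R2H3ZeroConn
import Groth.Agent.Lib.R2H4ModPull
import Groth.Agent.Lib.Helper4EtNormalSch
import Groth.Agent.Lib.H5bEtLocal
import Groth.Agent.Lib.Helper28Normal
import Groth.Agent.Lib.Helper4VarDim5
import Groth.Agent.Lib.Helper4VarDim4
import Groth.Agent.Lib.Helper4VarDim2
import Groth.Agent.Lib.Helper7TopDim
import Groth.Agent.Lib.Helper23PB
import Groth.Agent.Lib.Helper26FpqcMod
set_option backward.isDefEq.respectTransparency.types false

/-!
# Ample divisors on normal proper varieties and finite etale covers (helper7, round 2)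

* `ringKrullDim_stalk_eq_of_isClosed` : on an irreducible scheme locally of finite type over a field the
  local ring at a closed point has the dimension of the scheme.
* `main` (= S15551) : for `X` integral normal proper of dimension `≥ 2` over a field, `D` the zero
  scheme of a regular section of an ample module and `Y → X` a connected finite etale cover,
  `Y ×_X D` is connected.
-/

set_option autoImplicit false
set_option linter.style.haveILetI false
set_option linter.unusedSectionVars false
universe u

open CategoryTheory CategoryTheory.Limits AlgebraicGeometry TopologicalSpace Opposite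

namespace Groth.Agent.Lib.R2H7.LefConn

section Dim

variable (k : Type u) [Field k] (X : Scheme.{u}) [X.Over (Spec (CommRingCat.of k))]

theorem ringKrullDim_stalk_eq_of_isClosed
    [LocallyOfFiniteType (X ↘ Spec (CommRingCat.of k))] [IrreducibleSpace X] (x : X)
    (hx : IsClosed ({x} : Set X)) :
    ringKrullDim (X.presheaf.stalk x) = topologicalKrullDim X := by
  have h0 := Groth.Agent.Lib.Helper4.VarDim.trdeg_eq_zero_of_isClosed k X x hx
  have h1 := Groth.Agent.Lib.Helper4.VarDim.localDim_eq_of_trdeg_eq_zero k X x h0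
  rw [← h1]
  apply le_antisymm
  · exact Groth.Agent.Lib.Helper7.TopDim.localDim_le_dim x
  · rw [Groth.Agent.Lib.Helper7.TopDim.le_localDim_iff]
    intro U hU
    exact (Groth.Agent.Lib.Helper4.VarDim.topologicalKrullDim_opens_eq_of_irreducible k X U
      ⟨x, hU⟩).ge

end Dim

section Main

open Groth.Agent.Lib.R2H4ModPull

theorem main (k : Type u) [Field k]
    (X : Scheme.{u}) (f : X ⟶ Spec (CommRingCat.of k)) [IsProper f] [IsIntegral X]
    (hN : Pi1.IsNormalScheme X) (hdim : (2 : WithBot ℕ∞) ≤ topologicalKrullDim X)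
    (L : X.Modules) (hL : CohB1.IsAmple L) (s : Coh.structureModule X ⟶ L) (hs : Mono s)
    (Y : FEt.Cat X) [ConnectedSpace Y.left] :
    ConnectedSpace ↥(pullback Y.hom (PicF2.zeroScheme L s).subschemeι) := by
  haveI : IsFinite Y.hom := Y.prop.1
  haveI : Etale Y.hom := Y.prop.2
  letI : X.Over (Spec (CommRingCat.of k)) := ⟨f⟩
  letI : Y.left.Over (Spec (CommRingCat.of k)) := ⟨Y.hom ≫ f⟩
  haveI : IsProper (Y.left ↘ Spec (CommRingCat.of k)) :=
    inferInstanceAs (IsProper (Y.hom ≫ f))
  haveI : LocallyOfFiniteType (X ↘ Spec (CommRingCat.of k)) :=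
    inferInstanceAs (LocallyOfFiniteType f)
  haveI : IsLocallyNoetherian Y.left :=
    LocallyOfFiniteType.isLocallyNoetherian (Y.left ↘ Spec (CommRingCat.of k))
  have hL' : CohB1.IsAmple ((Scheme.Modules.pullback Y.hom).obj L) :=
    Groth.Agent.Lib.Helper23.PB.isAmple_pullback_of_isAffineHom Y.hom L hL
  haveI := hs
  haveI : Mono ((Scheme.Modules.pullback Y.hom).map s) :=
    Groth.Agent.Lib.Helper26.FpqcMod.mono_pullback_of_flat Y.hom s
  have hs' : Mono (pullSec Y.hom L s) := by
    unfold pullSec
    exact mono_comp _ _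
  have hNY : Pi1.IsNormalScheme Y.left :=
    Groth.Agent.Lib.Helper4.EtNormalSch.isNormalScheme_of_etale hN Y.hom
  have hdepth : ∀ y : Y.left, IsClosed ({y} : Set Y.left) →
      2 ≤ LocCoh.depth (Y.left.presheaf.stalk y) (Y.left.presheaf.stalk y) := by
    intro y hy
    haveI := (hNY y).1
    haveI := (hNY y).2
    have hx : IsClosed ({Y.hom y} : Set X) := by
      have h1 := Y.hom.isClosedMap _ hy
      rwa [Set.image_singleton] at h1
    have h1 : ringKrullDim (Y.left.presheaf.stalk y) =
        ringKrullDim (X.presheaf.stalk (Y.hom y)) :=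
      Groth.Agent.Lib.H5bEtLocal.ringKrullDim_stalk_eq_of_etale Y.hom y
    have h2 := ringKrullDim_stalk_eq_of_isClosed k X (Y.hom y) hx
    apply Groth.Agent.Lib.Helper28.two_le_depth_of_isIntegrallyClosed_of_two_le_dim
    rw [h1, h2]
    exact hdim
  have hconn := Groth.Agent.Lib.R2H3.ZeroConn.main k Y.left
    ((Scheme.Modules.pullback Y.hom).obj L) hL' (pullSec Y.hom L s) hs' hdepth
  rw [zeroScheme_pullSec Y.hom L hL.1 s] at hconn
  exact ((Scheme.homeoOfIso ((PicF2.zeroScheme L s).comapIso Y.hom)).connectedSpace_iff).mp hconn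

end Main

end Groth.Agent.Lib.R2H7.LefConn
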