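import Mathlib
import Groth.Agent.Lib.Helper8AffComplA
import Groth.Agent.Lib.Helper8AffComplB
import Groth.Agent.Lib.Helper8AffComplD
import Groth.Agent.Lib.R2H7LefConn
import Groth.Agent.Lib.R2H3ZeroConn
import Groth.Agent.Lib.Helper10IntDim
import Groth.Agent.Lib.Helper4VarDim2

/-!
# Complement of an affine open, part E: the main theorem

`isConnected_compl_genLocus` : on a normal integral proper scheme of dimension `≥ 2` over a field
the complement of the non-vanishing locus of a regular section of an ample module is connected.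

`isConnected_compl_affineOpen` : in an irreducible proper scheme of dimension `≥ 2` over a field the
complement of a nonempty affine open is connected.
-/

set_option autoImplicit false
set_option linter.style.haveILetI false
universe u
open AlgebraicGeometry CategoryTheory CategoryTheory.Limits TopologicalSpace

namespace Groth.Agent.Lib.Helper8AffComplE

/-- connectedness of the complement of the generating locus -/
theorem isConnected_compl_genLocus (k : Type u) [Field k] (Y : Scheme.{u})
    (p : Y ⟶ Spec (CommRingCat.of k)) [IsProper p] [IsIntegral Y] (hN : Pi1.IsNormalScheme Y)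
    (hdim : (2 : WithBot ℕ∞) ≤ topologicalKrullDim Y) (L : Y.Modules) (hL : CohB1.IsAmple L)
    (s : Coh.structureModule Y ⟶ L) (hs : Mono s) :
    _root_.IsConnected (((CohB1.genLocus L s : Y.Opens) : Set Y)ᶜ) := by
  letI : Y.Over (Spec (CommRingCat.of k)) := ⟨p⟩
  haveI : IsProper (Y ↘ Spec (CommRingCat.of k)) := ‹IsProper p›
  haveI : LocallyOfFiniteType (Y ↘ Spec (CommRingCat.of k)) := inferInstance
  haveI : IsLocallyNoetherian Y :=
    LocallyOfFiniteType.isLocallyNoetherian (Y ↘ Spec (CommRingCat.of k))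
  have hdepth : ∀ y : Y, IsClosed ({y} : Set Y) →
      2 ≤ LocCoh.depth (Y.presheaf.stalk y) (Y.presheaf.stalk y) := by
    intro y hy
    haveI := (hN y).1
    haveI := (hN y).2
    have h2 := Groth.Agent.Lib.R2H7.LefConn.ringKrullDim_stalk_eq_of_isClosed k Y y hy
    apply Groth.Agent.Lib.Helper28.two_le_depth_of_isIntegrallyClosed_of_two_le_dim
    rw [h2]
    exact hdim
  haveI hconn := Groth.Agent.Lib.R2H3.ZeroConn.main k Y L hL s hs hdepth
  have h1 : _root_.IsConnected (Set.range (PicF2.zeroScheme L s).subschemeι.base) :=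
    isConnected_range (PicF2.zeroScheme L s).subschemeι.continuous
  rw [Scheme.IdealSheafData.range_subschemeι,
    Groth.Agent.Lib.R2H3.ZeroConn.support_zeroScheme L hL.1 s] at h1
  exact h1

/-- the reduction of an irreducible affine open is the spectrum of a finitely generated domain -/
theorem exists_domain_chart (k : Type u) [Field k] (X : Scheme.{u})
    (pX : X ⟶ Spec (CommRingCat.of k)) [LocallyOfFiniteType pX] [IrreducibleSpace X]
    (U : X.Opens) (hU : IsAffineOpen U) (hne : (U : Set X).Nonempty) :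
    ∃ (A : Type u) (_ : CommRing A) (_ : IsDomain A) (_ : Algebra k A)
      (_ : Algebra.FiniteType k A) (c : Spec (CommRingCat.of A) ⟶ (U : Scheme.{u})),
      IsClosedImmersion c ∧ Surjective c ∧
        c ≫ U.ι ≫ pX = Spec.map (CommRingCat.ofHom (algebraMap k A)) := by
  haveI : Nonempty (Spec (CommRingCat.of Γ(X, U))) := by
    obtain ⟨x, hx⟩ := hne
    exact ⟨hU.isoSpec.hom.base ⟨x, hx⟩⟩
  haveI : Nonempty (Spec Γ(X, U)) := ‹_›
  haveI hirr : IrreducibleSpace (Spec Γ(X, U)) := hU.fromSpec.isOpenEmbedding.irreducibleSpace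
  haveI hprime : (nilradical Γ(X, U)).IsPrime :=
    PrimeSpectrum.irreducibleSpace_iff_isPrime_nilradical.1 hirr
  let A : Type u := Γ(X, U) ⧸ nilradical Γ(X, U)
  haveI : IsDomain A := Ideal.Quotient.isDomain _
  let c₀ : Spec (CommRingCat.of A) ⟶ Spec Γ(X, U) :=
    Spec.map (CommRingCat.ofHom (Ideal.Quotient.mk (nilradical Γ(X, U))))
  haveI : IsClosedImmersion c₀ :=
    IsClosedImmersion.spec_of_surjective _ Ideal.Quotient.mk_surjective
  haveI : Surjective c₀ := ⟨by
    intro x
    obtain ⟨y, hy⟩ := (PrimeSpectrum.comap_quotientMk_bijective_of_le_nilradical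
      (le_refl (nilradical Γ(X, U)))).2 x
    exact ⟨y, hy⟩⟩
  let c : Spec (CommRingCat.of A) ⟶ (U : Scheme.{u}) := c₀ ≫ hU.isoSpec.inv
  let ρ : CommRingCat.of k ⟶ CommRingCat.of A := Spec.preimage (c ≫ U.ι ≫ pX)
  letI : Algebra k A := ρ.hom.toAlgebra
  have hρ : Spec.map (CommRingCat.ofHom (algebraMap k A)) = c ≫ U.ι ≫ pX :=
    Spec.map_preimage (c ≫ U.ι ≫ pX)
  haveI : LocallyOfFiniteType (Spec.map (CommRingCat.ofHom (algebraMap k A))) := by
    rw [hρ]; infer_instance
  have hft' : (algebraMap k A).FiniteType :=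
    (HasRingHomProperty.Spec_iff (P := @LocallyOfFiniteType)
      (φ := CommRingCat.ofHom (algebraMap k A))).1 ‹_›
  have hft : Algebra.FiniteType k A := hft'
  exact ⟨A, inferInstance, inferInstance, inferInstance, hft, c, inferInstance, inferInstance,
    hρ.symm⟩

/-- **The complement of a nonempty affine open in an irreducible proper scheme of dimension at
least two over a field is connected.** -/
theorem isConnected_compl_affineOpen (k : Type u) [Field k] (X : Scheme.{u})
    (pX : X ⟶ Spec (CommRingCat.of k)) [IsProper pX] [IrreducibleSpace X]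
    (hdim : (2 : WithBot ℕ∞) ≤ topologicalKrullDim X) (U : X.Opens) (hU : IsAffineOpen U)
    (hne : (U : Set X).Nonempty) : _root_.IsConnected ((U : Set X)ᶜ) := by
  obtain ⟨A, _, _, _, _, c, hc1, hc2, hck⟩ := exists_domain_chart k X pX U hU hne
  obtain ⟨Y, p, L, s, W, φ, hp, hYint, hN, hL, hs, hW, hφfin, hφsurj, hφk⟩ :=
    Groth.Agent.Lib.Helper8AffComplD.exists_normal_closure k A
  haveI := hp
  haveI := hYint
  haveI := hc1
  haveI := hc2
  haveI := hφfin
  haveI := hφsurj
  haveI : IsLocallyNoetherian Y := LocallyOfFiniteType.isLocallyNoetherian p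
  -- `W` is nonempty
  have hWne : (W : Set Y).Nonempty := by
    obtain ⟨a⟩ : Nonempty (Spec (CommRingCat.of A)) := inferInstance
    obtain ⟨w, -⟩ := hφsurj.surj a
    exact ⟨w.1, w.2⟩
  haveI : Nonempty W := ⟨⟨hWne.some, hWne.some_mem⟩⟩
  -- the finite surjective morphism `W ⟶ U`
  obtain ⟨φ₀, hφ₀⟩ : ∃ φ₀ : (W : Scheme.{u}) ⟶ (U : Scheme.{u}), φ₀ = φ ≫ c := ⟨_, rfl⟩
  haveI : IsFinite φ₀ := by rw [hφ₀]; infer_instance
  haveI : Surjective φ₀ := by rw [hφ₀]; infer_instance
  have hφX : (φ₀ ≫ U.ι) ≫ pX = W.ι ≫ p := by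
    rw [hφ₀, Category.assoc, Category.assoc, hck, hφk]
  -- dimensions
  have hdimY : (2 : WithBot ℕ∞) ≤ topologicalKrullDim Y := by
    have h1 : topologicalKrullDim ↥U = topologicalKrullDim X := by
      letI : X.Over (Spec (CommRingCat.of k)) := ⟨pX⟩
      haveI : LocallyOfFiniteType (X ↘ Spec (CommRingCat.of k)) :=
        inferInstanceAs (LocallyOfFiniteType pX)
      exact Groth.Agent.Lib.Helper4.VarDim.topologicalKrullDim_opens_eq_of_irreducible k X U hne
    have h2 : topologicalKrullDim ↥W = topologicalKrullDim Y := by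
      letI : Y.Over (Spec (CommRingCat.of k)) := ⟨p⟩
      haveI : LocallyOfFiniteType (Y ↘ Spec (CommRingCat.of k)) :=
        inferInstanceAs (LocallyOfFiniteType p)
      exact Groth.Agent.Lib.Helper4.VarDim.topologicalKrullDim_opens_eq_of_irreducible k Y W hWne
    have h3 : topologicalKrullDim ↥(W : Scheme.{u}) = topologicalKrullDim ↥(U : Scheme.{u}) :=
      (Groth.Agent.Lib.Helper10.IntDim.main9683 φ₀).2 inferInstance
    rw [← h2]
    change (2 : WithBot ℕ∞) ≤ topologicalKrullDim ↥(W : Scheme.{u})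
    rw [h3]
    change (2 : WithBot ℕ∞) ≤ topologicalKrullDim ↥U
    rw [h1]
    exact hdim
  -- the boundary of `W` is connected
  have hconnW : _root_.IsConnected ((W : Set Y)ᶜ) := by
    rw [← hW]
    exact isConnected_compl_genLocus k Y p hN hdimY L hL s hs
  -- the graph
  haveI : IsAffine (W : Scheme.{u}) := isAffine_of_isAffineHom φ
  haveI : CompactSpace (W : Scheme.{u}) := inferInstance
  haveI : IsIntegral (W : Scheme.{u}) := inferInstance
  obtain ⟨Γ, pΓ, q, e, hΓ, hpΓ, hq, he, hep, heq, hqW, hpU, hiso⟩ :=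
    Groth.Agent.Lib.Helper8AffComplB.exists_graph pX p W (φ₀ ≫ U.ι) hφX U φ₀ rfl
  haveI := hΓ
  haveI := hpΓ
  haveI := hq
  haveI := hiso
  have happ : ∀ V : Y.Opens, IsAffineOpen V → IsIso (q.app V) := fun V _ =>
    Groth.Agent.Lib.Helper8AffComplA.isIso_app_of_birational q hN W hWne V
  have hpre : _root_.IsConnected (q.base ⁻¹' ((W : Set Y)ᶜ)) :=
    Groth.Agent.Lib.Helper8AffComplA.isConnected_preimage q happ _ W.isOpen.isClosed_compl hconnW
  have hpreq : q.base ⁻¹' ((W : Set Y)ᶜ) = pΓ.base ⁻¹' ((U : Set X)ᶜ) := by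
    ext z
    simp only [Set.mem_preimage, Set.mem_compl_iff, SetLike.mem_coe]
    rw [hqW z, hpU z]
  -- `pΓ` is surjective
  have hsurj : Function.Surjective pΓ.base := by
    have hcl : IsClosed (Set.range pΓ.base) := pΓ.isClosedMap.isClosed_range
    have hsub : (U : Set X) ⊆ Set.range pΓ.base := by
      intro x hx
      obtain ⟨w, hw⟩ := (inferInstance : Surjective φ₀).surj ⟨x, hx⟩
      refine ⟨e.base w, ?_⟩
      have h1 : pΓ.base (e.base w) = (φ₀ ≫ U.ι).base w := congrArg (fun m => m.base w) hep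
      rw [h1]
      show U.ι.base (φ₀.base w) = x
      rw [hw]
      rfl
    have hd : Dense (U : Set X) := U.isOpen.dense hne
    have : closure (U : Set X) ⊆ Set.range pΓ.base := hcl.closure_subset_iff.2 hsub
    rw [hd.closure_eq] at this
    intro x
    exact this (Set.mem_univ x)
  have himg : pΓ.base '' (pΓ.base ⁻¹' ((U : Set X)ᶜ)) = (U : Set X)ᶜ :=
    Set.image_preimage_eq _ hsurj
  rw [← himg, ← hpreq]
  exact hpre.image _ pΓ.continuous.continuousOn

end Groth.Agent.Lib.Helper8AffComplE
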