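import Groth.Agent.Lib.Helper3SmDim
import Groth.Agent.Lib.Helper3EquiDim
import Groth.Agent.Lib.Helper4FibDimE

/-!
# Smooth schemes of relative dimension `n` over a field are of pure dimension `n` (helper3, round 2)

Namespace `Groth.Agent.Lib.R2H3.SmPure`.

* `fibreDimAt_eq_localDim` : for `f : X ⟶ S` with `S` a one-point space, `fibreDimAt f x` is the
  local dimension of `X` at `x`.
* `pure_of_smoothOfRelativeDimension` : `X` smooth of relative dimension `n` over a field: every
  irreducible component of `X` has dimension `n`.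
-/

set_option autoImplicit false
set_option linter.style.haveILetI false
universe u

open AlgebraicGeometry CategoryTheory TopologicalSpace

namespace Groth.Agent.Lib.R2H3.SmPure

open Groth.Agent.Lib.Helper4.FibDim

theorem fibreDimAt_eq_localDim {X S : Scheme.{u}} (f : X ⟶ S) [Subsingleton S] (x : X) :
    FlatMor.fibreDimAt f x = FlatMor.localDim X x := by
  rw [fibreDimAt_eq_fibLD]
  unfold fibLD
  have h : (f : X → S) ⁻¹' {f x} = Set.univ := by
    ext y
    simp only [Set.mem_preimage, Set.mem_singleton_iff, Set.mem_univ, iff_true]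
    exact Subsingleton.elim _ _
  rw [localDim_congr_set h x rfl]
  exact localDim_eq_of_homeomorph (Homeomorph.Set.univ X) ⟨x, trivial⟩

theorem pure_of_smoothOfRelativeDimension (k : Type u) [Field k] (n : ℕ) (X : Scheme.{u})
    [X.Over (Spec (CommRingCat.of k))] [SmoothOfRelativeDimension n (X ↘ Spec (CommRingCat.of k))] :
    ∀ Z : Set ↥X, Z ∈ irreducibleComponents ↥X → topologicalKrullDim ↥Z = (n : WithBot ℕ∞) := by
  haveI : Smooth (X ↘ Spec (CommRingCat.of k)) :=
    SmoothOfRelativeDimension.smooth n (X ↘ Spec (CommRingCat.of k))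
  haveI : LocallyOfFiniteType (X ↘ Spec (CommRingCat.of k)) := inferInstance
  rw [Groth.Agent.Lib.Helper3.EquiDim.forall_dim_irreducibleComponents_eq_iff k X n]
  intro z
  haveI : Subsingleton ↥(Spec (CommRingCat.of k)) :=
    inferInstanceAs (Subsingleton (PrimeSpectrum k))
  rw [← fibreDimAt_eq_localDim (X ↘ Spec (CommRingCat.of k)) z]
  exact Groth.Agent.Lib.Helper3.SmDim.fibreDimAt_eq_of_smoothOfRelativeDimension n _ z

end Groth.Agent.Lib.R2H3.SmPure
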