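import Mathlib
import Groth.Agent.Lib.Helper8AffComplE
import Groth.Agent.Lib.R2H1CurveBC
import Groth.Agent.Lib.R2H3SmPure

/-!
# Complement of an affine open, part F: smooth proper varieties

`connectedSpace_of_range_eq_compl` : a closed subscheme of a connected smooth proper scheme of
relative dimension `d ≥ 2` over a field whose complement is an affine open is connected.
-/

set_option autoImplicit false
set_option linter.style.haveILetI false
universe u
open AlgebraicGeometry CategoryTheory CategoryTheory.Limits TopologicalSpace

namespace Groth.Agent.Lib.Helper8AffComplF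

/-- the dimension of an irreducible scheme smooth of relative dimension `d` over a field -/
theorem topologicalKrullDim_eq_of_smooth {L : Type u} [Field L] {X : Scheme.{u}}
    (f : X ⟶ Spec (CommRingCat.of L)) (d : ℕ) [SmoothOfRelativeDimension d f]
    [IrreducibleSpace X] : topologicalKrullDim X = (d : WithBot ℕ∞) := by
  letI : X.Over (Spec (CommRingCat.of L)) := ⟨f⟩
  haveI : SmoothOfRelativeDimension d (X ↘ Spec (CommRingCat.of L)) :=
    ‹SmoothOfRelativeDimension d f›
  have h := Groth.Agent.Lib.R2H3.SmPure.pure_of_smoothOfRelativeDimension L d X Set.univ (by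
    rw [irreducibleComponents_eq_singleton]; rfl)
  rw [← h]
  exact (IsHomeomorph.topologicalKrullDim_eq _ (Homeomorph.Set.univ X).isHomeomorph).symm

theorem isConnected_compl_of_smooth {L : Type u} [Field L] {X : Scheme.{u}}
    (f : X ⟶ Spec (CommRingCat.of L)) [IsProper f] (d : ℕ) (hd : 1 < d)
    [SmoothOfRelativeDimension d f] [ConnectedSpace X] (U : X.Opens) (hU : IsAffineOpen U) :
    _root_.IsConnected ((U : Set X)ᶜ) := by
  haveI : Smooth f := SmoothOfRelativeDimension.smooth d f
  haveI : IsIntegral X := Groth.Agent.Lib.R2H1.CurveBC.isIntegral_of_smooth_of_connected L X f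
  have hdim : (2 : WithBot ℕ∞) ≤ topologicalKrullDim X := by
    rw [topologicalKrullDim_eq_of_smooth f d]
    exact_mod_cast hd
  by_cases hne : (U : Set X).Nonempty
  · exact Groth.Agent.Lib.Helper8AffComplE.isConnected_compl_affineOpen L X f hdim U hU hne
  · rw [Set.not_nonempty_iff_eq_empty] at hne
    rw [hne, Set.compl_empty]
    exact isConnected_univ

/-- **S16345** -/
theorem connectedSpace_of_range_eq_compl {L : Type u} [Field L] {X D : Scheme.{u}}
    (f : X ⟶ Spec (CommRingCat.of L)) (i : D ⟶ X) [IsProper f] (d : ℕ) (hd : 1 < d)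
    [SmoothOfRelativeDimension d f] [IsClosedImmersion i] [ConnectedSpace X] (U : X.Opens)
    (hU : IsAffineOpen U) (hDU : Set.range i.base = (U : Set X)ᶜ) : ConnectedSpace D := by
  have h := isConnected_compl_of_smooth f d hd U hU
  rw [← hDU, ← Set.image_univ] at h
  have h2 : _root_.IsConnected (Set.univ : Set D) := by
    refine ⟨?_, ?_⟩
    · obtain ⟨x, hx⟩ := h.nonempty
      obtain ⟨y, -, -⟩ := hx
      exact ⟨y, trivial⟩
    · exact (i.isEmbedding.isInducing.isPreconnected_image).1 h.isPreconnected
  exact connectedSpace_iff_univ.2 h2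

end Groth.Agent.Lib.Helper8AffComplF
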