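import Mathlib
import Groth.Prelude
import Groth.Agent.Lib.R2H2AffPushLin

/-!
# Cohomology along an affine morphism, fully naturally (helper8)

For `f : X ⟶ Y` affine, `Y` with an affine cover `V` with affine finite intersections: a family of isomorphisms
`H^p(X, M) ≃+ H^p(Y, f_* M)`, one for each quasi-coherent `M`, compatible with ALL morphisms of the
underlying abelian sheaves `M ⟶ N` (not only endomorphisms as in `R2H2AffPushLin`).
-/

set_option autoImplicit false
set_option linter.unusedSectionVars false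
universe u

namespace Groth.Agent.Lib.Helper8AffPushNat

open CategoryTheory CategoryTheory.Limits Opposite TopologicalSpace Abelian CechEdge
open Groth.Agent.Lib.Helper16.CechLow Groth.Agent.Lib.Helper16.CechH1
  Groth.Agent.Lib.Helper16.CechCmp Groth.Agent.Lib.Helper16.CechLES
  Groth.Agent.Lib.R2H2.LerayNat Groth.Agent.Lib.R2H2.LerayNat2 Groth.Agent.Lib.R2H2.CechCmp
  Groth.Agent.Lib.R2H2.AffPushLin

section Abstract

universe v u₁ v' u₁'

variable {C : Type u₁} [Category.{v} C] [HasFiniteProducts C]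
  {C' : Type u₁'} [Category.{v'} C'] [HasFiniteProducts C']
  {ι : Type u} (U : ι → C) (U' : ι → C')
  (P Q : Cᵒᵖ ⥤ AddCommGrpCat.{u}) (P' Q' : C'ᵒᵖ ⥤ AddCommGrpCat.{u})

/-- naturality of `cechIso` with respect to morphisms of the coefficients -/
theorem cechIso_natural' (e : ∀ (n : ℕ) (x : Fin (n + 1) → ι),
      P.obj (op (Ux U x)) ≅ P'.obj (op (Ux U' x)))
    (he : ∀ (n : ℕ) (x : Fin (n + 2) → ι) (i : Fin (n + 2)),
      P.map (face U x i).op ≫ (e (n + 1) x).hom =
        (e n (x ∘ Fin.succAbove i)).hom ≫ P'.map (face U' x i).op)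
    (e₂ : ∀ (n : ℕ) (x : Fin (n + 1) → ι),
      Q.obj (op (Ux U x)) ≅ Q'.obj (op (Ux U' x)))
    (he₂ : ∀ (n : ℕ) (x : Fin (n + 2) → ι) (i : Fin (n + 2)),
      Q.map (face U x i).op ≫ (e₂ (n + 1) x).hom =
        (e₂ n (x ∘ Fin.succAbove i)).hom ≫ Q'.map (face U' x i).op)
    (a : P ⟶ Q) (a' : P' ⟶ Q')
    (ha : ∀ (n : ℕ) (x : Fin (n + 1) → ι),
      a.app (op (Ux U x)) ≫ (e₂ n x).hom = (e n x).hom ≫ a'.app (op (Ux U' x))) :
    (cechComplexFunctor U).map a ≫ (cechIso U U' Q Q' e₂ he₂).hom =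
      (cechIso U U' P P' e he).hom ≫ (cechComplexFunctor U').map a' := by
  apply HomologicalComplex.hom_ext
  intro n
  change ((cechComplexFunctor U).map a).f n ≫ cmpMap U U' Q Q' (fun n x => (e₂ n x).hom) n =
    cmpMap U U' P P' (fun n x => (e n x).hom) n ≫ ((cechComplexFunctor U').map a').f n
  refine Pi.hom_ext _ _ (fun (x : Fin (n + 1) → ι) => ?_)
  change _ ≫ pr U' Q' n x = _ ≫ pr U' Q' n x
  rw [Category.assoc, Category.assoc, cmpMap_pr, map_pr, ← Category.assoc, map_pr,
    ← Category.assoc, cmpMap_pr, Category.assoc, Category.assoc, ha n x]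

/-- the induced isomorphism in homology -/
noncomputable def homologyEquiv (e : ∀ (n : ℕ) (x : Fin (n + 1) → ι),
      P.obj (op (Ux U x)) ≅ P'.obj (op (Ux U' x)))
    (he : ∀ (n : ℕ) (x : Fin (n + 2) → ι) (i : Fin (n + 2)),
      P.map (face U x i).op ≫ (e (n + 1) x).hom =
        (e n (x ∘ Fin.succAbove i)).hom ≫ P'.map (face U' x i).op) (p : ℕ) :
    ((CK U P).homology p : AddCommGrpCat.{u}) ≃+ ((CK U' P').homology p : AddCommGrpCat.{u}) :=
  ((HomologicalComplex.homologyFunctor _ _ p).mapIso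
    (cechIso U U' P P' e he)).addCommGroupIsoToAddEquiv

theorem homologyEquiv_natural (e : ∀ (n : ℕ) (x : Fin (n + 1) → ι),
      P.obj (op (Ux U x)) ≅ P'.obj (op (Ux U' x)))
    (he : ∀ (n : ℕ) (x : Fin (n + 2) → ι) (i : Fin (n + 2)),
      P.map (face U x i).op ≫ (e (n + 1) x).hom =
        (e n (x ∘ Fin.succAbove i)).hom ≫ P'.map (face U' x i).op)
    (e₂ : ∀ (n : ℕ) (x : Fin (n + 1) → ι),
      Q.obj (op (Ux U x)) ≅ Q'.obj (op (Ux U' x)))
    (he₂ : ∀ (n : ℕ) (x : Fin (n + 2) → ι) (i : Fin (n + 2)),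
      Q.map (face U x i).op ≫ (e₂ (n + 1) x).hom =
        (e₂ n (x ∘ Fin.succAbove i)).hom ≫ Q'.map (face U' x i).op)
    (a : P ⟶ Q) (a' : P' ⟶ Q')
    (ha : ∀ (n : ℕ) (x : Fin (n + 1) → ι),
      a.app (op (Ux U x)) ≫ (e₂ n x).hom = (e n x).hom ≫ a'.app (op (Ux U' x))) (p : ℕ)
    (z : ((CK U P).homology p : AddCommGrpCat.{u})) :
    homologyEquiv U U' Q Q' e₂ he₂ p
        (HomologicalComplex.homologyMap ((cechComplexFunctor U).map a) p z) =
      HomologicalComplex.homologyMap ((cechComplexFunctor U').map a') p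
        (homologyEquiv U U' P P' e he p z) := by
  have h1 := cechIso_natural' U U' P Q P' Q' e he e₂ he₂ a a' ha
  have h2 := congrArg (fun f => HomologicalComplex.homologyMap f p) h1
  simp only [HomologicalComplex.homologyMap_comp] at h2
  exact ConcreteCategory.congr_hom h2 z

end Abstract

section Top

variable {X Y : TopCat.{u}} (f : X ⟶ Y) {ι : Type u} (V : ι → Opens Y)

lemma termIso_nat' {F G : CohTop.Ab X} (ψ : F ⟶ G) (n : ℕ) (x : Fin (n + 1) → ι) :
    ψ.hom.app (op (Ux (preU f V) x)) ≫ (termIso f V G n x).hom =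
      (termIso f V F n x).hom ≫ ((CohTop.push f).map ψ).hom.app (op (Ux V x)) := by
  rw [termIso_hom, termIso_hom]
  exact (ψ.hom.naturality _).symm

/-- **cohomology along a map with acyclic covers, naturally in all morphisms** -/
theorem exists_top_natural' (hcov : iSup V = ⊤) (p : ℕ) :
    ∃ E : ∀ (F : CohTop.Ab X), Leray F (preU f V) → Leray ((CohTop.push f).obj F) V →
        (CohTop.H F p ≃+ CohTop.H ((CohTop.push f).obj F) p),
      ∀ (F G : CohTop.Ab X) (hF : Leray F (preU f V)) (hF' : Leray ((CohTop.push f).obj F) V)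
        (hG : Leray G (preU f V)) (hG' : Leray ((CohTop.push f).obj G) V)
        (ψ : F ⟶ G) (z : CohTop.H F p),
        E G hG hG' (Sheaf.H.map ψ p z) =
          Sheaf.H.map ((CohTop.push f).map ψ) p (E F hF hF' z) := by
  obtain ⟨eX, heX⟩ := exists_natural_top_family (X := X) (preU f V) (iSup_preU f V hcov) p
  obtain ⟨eY, heY⟩ := exists_natural_top_family (X := Y) V hcov p
  refine ⟨fun F hF hF' => (eX F hF).symm.trans
    ((homologyEquiv (preU f V) V F.obj ((CohTop.push f).obj F).obj (termIso f V F)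
      (termIso_face f V F) p).trans (eY _ hF')), ?_⟩
  intro F G hF hF' hG hG' ψ z
  obtain ⟨w, rfl⟩ := (eX F hF).surjective z
  have h1 := heX F G hF hG ψ w
  have h2 := homologyEquiv_natural (preU f V) V F.obj G.obj ((CohTop.push f).obj F).obj
    ((CohTop.push f).obj G).obj (termIso f V F) (termIso_face f V F) (termIso f V G)
    (termIso_face f V G) ψ.hom ((CohTop.push f).map ψ).hom (termIso_nat' f V ψ) p w
  have h3 := heY _ _ hF' hG' ((CohTop.push f).map ψ)
    (homologyEquiv (preU f V) V F.obj ((CohTop.push f).obj F).obj (termIso f V F)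
      (termIso_face f V F) p w)
  change eY _ hG' (homologyEquiv (preU f V) V G.obj ((CohTop.push f).obj G).obj (termIso f V G)
      (termIso_face f V G) p ((eX G hG).symm (Sheaf.H.map ψ p (eX F hF w)))) =
    Sheaf.H.map ((CohTop.push f).map ψ) p (eY _ hF' (homologyEquiv (preU f V) V F.obj
      ((CohTop.push f).obj F).obj (termIso f V F) (termIso_face f V F) p
        ((eX F hF).symm (eX F hF w))))
  rw [← h1, AddEquiv.symm_apply_apply, AddEquiv.symm_apply_apply, h2, h3]

end Top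

section Scheme

open AlgebraicGeometry Groth.Agent.Lib.Helper23.AffVanish

variable {X Y : Scheme.{u}} (f : X ⟶ Y) [IsAffineHom f] {ι : Type u} (V : ι → Y.Opens)

lemma leray_pre (hV : ∀ (p : ℕ) (a : Fin (p + 1) → ι), IsAffineOpen (iInf fun k => V (a k)))
    (M : X.Modules) (hM : Coh.IsQCoh M) : Leray (ab' M) (preU f.base V) := by
  haveI : M.IsQuasicoherent := hM
  intro p a q
  have haff : IsAffineOpen (f ⁻¹ᵁ (iInf fun k => V (a k))) := (hV p a).preimage f
  have e : (iInf fun k => preU f.base V (a k)) = f ⁻¹ᵁ (iInf fun k => V (a k)) := by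
    apply Opens.ext
    rw [Opens.coe_iInf]
    change _ = f.base ⁻¹' ((iInf fun k => V (a k) : Y.Opens) : Set Y)
    rw [Opens.coe_iInf, Set.preimage_iInter]
    rfl
  rw [e]
  exact subsingleton_HE_of_isAffineOpen haff M q

lemma leray_push (hV : ∀ (p : ℕ) (a : Fin (p + 1) → ι), IsAffineOpen (iInf fun k => V (a k)))
    (M : X.Modules) (hM : Coh.IsQCoh M) : Leray ((CohTop.push f.base).obj (ab' M)) V := by
  haveI : M.IsQuasicoherent := hM
  haveI : ((Scheme.Modules.pushforward f).obj M).IsQuasicoherent :=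
    Groth.Agent.Lib.Helper23.QCohLocal.isQuasicoherent_pushforward f M
  intro p a q
  exact subsingleton_HE_of_isAffineOpen (hV p a) ((Scheme.Modules.pushforward f).obj M) q

/-- **`H^p(X, M) ≃+ H^p(Y, f_* M)` for `f` affine, naturally in `M`** -/
theorem exists_push_natural' (hcov : ⨆ i, V i = ⊤)
    (hV : ∀ (p : ℕ) (a : Fin (p + 1) → ι), IsAffineOpen (iInf fun k => V (a k))) (p : ℕ) :
    ∃ E : ∀ (M : X.Modules), Coh.IsQCoh M →
        (Coh.HH X M p ≃+ Coh.HH Y ((Scheme.Modules.pushforward f).obj M) p),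
      ∀ (M N : X.Modules) (hM : Coh.IsQCoh M) (hN : Coh.IsQCoh N)
        (ψ : Coh.toAb M ⟶ Coh.toAb N) (z : Coh.HH X M p),
        E N hN (Sheaf.H.map ψ p z) = Sheaf.H.map ((CohTop.push f.base).map ψ) p (E M hM z) := by
  obtain ⟨E, hE⟩ := exists_top_natural' f.base V hcov p
  exact ⟨fun M hM => E (ab' M) (leray_pre f V hV M hM) (leray_push f V hV M hM),
    fun M N hM hN ψ z => hE (ab' M) (ab' N) _ _ _ _ ψ z⟩

variable (A : Type u) [CommRing A] [X.Over (Spec (CommRingCat.of A))]
  [Y.Over (Spec (CommRingCat.of A))]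

/-- **`H^p(X, M) ≃ₗ[A] H^p(Y, f_* M)`, naturally in `M`**, for an affine morphism of `A`-schemes -/
theorem exists_push_linear_natural
    (hf : f ≫ (Y ↘ Spec (CommRingCat.of A)) = X ↘ Spec (CommRingCat.of A))
    (hcov : ⨆ i, V i = ⊤)
    (hV : ∀ (p : ℕ) (a : Fin (p + 1) → ι), IsAffineOpen (iInf fun k => V (a k))) (p : ℕ) :
    ∃ E : ∀ (M : X.Modules), Coh.IsQCoh M →
        (Coh.HH X M p ≃ₗ[A] Coh.HH Y ((Scheme.Modules.pushforward f).obj M) p),
      ∀ (M N : X.Modules) (hM : Coh.IsQCoh M) (hN : Coh.IsQCoh N) (φ : M ⟶ N)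
        (z : Coh.HH X M p),
        E N hN (Canon.HHlin A φ p z) =
          Canon.HHlin A ((Scheme.Modules.pushforward f).map φ) p (E M hM z) := by
  obtain ⟨E, hE⟩ := exists_push_natural' f V hcov hV p
  refine ⟨fun M hM => { E M hM with map_smul' := fun r z => ?_ }, ?_⟩
  · change E M hM (Sheaf.H.map (Coh.smulAb M (Coh.toGlobal (X ↘ Spec (CommRingCat.of A)) r)) p z) =
      Sheaf.H.map (Coh.smulAb ((Scheme.Modules.pushforward f).obj M)
        (Coh.toGlobal (Y ↘ Spec (CommRingCat.of A)) r)) p (E M hM z)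
    have h1 : (f.appTop).hom (Coh.toGlobal (Y ↘ Spec (CommRingCat.of A)) r) =
        Coh.toGlobal (X ↘ Spec (CommRingCat.of A)) r := by
      rw [← hf]
      simp only [Coh.toGlobal, Scheme.Hom.comp_appTop, CommRingCat.hom_comp]
      rfl
    rw [hE M M hM hM, smulAb_push, h1]
    rfl
  · intro M N hM hN φ z
    exact hE M N hM hN ((SheafOfModules.toSheaf X.ringCatSheaf).map φ) z

end Scheme

end Groth.Agent.Lib.Helper8AffPushNat
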