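import Mathlib

/-!
# Adjoining roots of all monic polynomials (helper8)

For a commutative ring `R`, `Cl R` is the `R`-algebra obtained by adjoining a root of every monic
polynomial of positive degree.  It is integral over `R`, `Spec (Cl R) → Spec R` is surjective, and
all residue fields of `Cl R` are algebraic closures of the residue fields of `R`.
-/

set_option autoImplicit false
universe u

namespace Groth.Agent.Lib.Helper8AlgClCover

open Polynomial
open scoped Classical

variable (R : Type u) [CommRing R]

/-- monic polynomials of positive degree -/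
def Idx : Type u := {P : R[X] // P.Monic ∧ 0 < P.natDegree}

/-- the relations `P(x_P) = 0` -/
noncomputable def rel : Ideal (MvPolynomial (Idx R) R) :=
  Ideal.span (Set.range fun P : Idx R =>
    Polynomial.aeval (MvPolynomial.X P : MvPolynomial (Idx R) R) P.1)

/-- the ring obtained by adjoining a root of every monic polynomial of positive degree -/
abbrev Cl : Type u := MvPolynomial (Idx R) R ⧸ rel R

theorem aeval_mk_X (P : Idx R) :
    Polynomial.aeval (Ideal.Quotient.mk (rel R) (MvPolynomial.X P)) P.1 = 0 := by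
  have h1 : Polynomial.aeval (MvPolynomial.X P : MvPolynomial (Idx R) R) P.1 ∈ rel R :=
    Ideal.subset_span ⟨P, rfl⟩
  have h2 := (Ideal.Quotient.eq_zero_iff_mem).mpr h1
  have h3 := Polynomial.aeval_algHom_apply (Ideal.Quotient.mkₐ R (rel R))
    (MvPolynomial.X P : MvPolynomial (Idx R) R) P.1
  simp only [Ideal.Quotient.mkₐ_eq_mk] at h3
  rw [h3]
  exact h2

theorem exists_root (P : R[X]) (hP : P.Monic) (hd : 0 < P.natDegree) :
    ∃ r : Cl R, Polynomial.aeval r P = 0 :=
  ⟨_, aeval_mk_X R ⟨P, hP, hd⟩⟩

instance isIntegral : Algebra.IsIntegral R (Cl R) := by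
  refine ⟨fun x => ?_⟩
  obtain ⟨f, rfl⟩ := Ideal.Quotient.mk_surjective x
  induction f using MvPolynomial.induction_on with
  | C a =>
    show IsIntegral R (algebraMap R (Cl R) a)
    exact isIntegral_algebraMap
  | add f g hf hg => rw [map_add]; exact hf.add hg
  | mul_X f P hf =>
    rw [map_mul]
    refine hf.mul ⟨P.1, P.2.1, ?_⟩
    rw [← Polynomial.aeval_def]
    exact aeval_mk_X R P

theorem exists_prime_over (p : Ideal R) [p.IsPrime] :
    ∃ p' : Ideal (Cl R), p'.IsPrime ∧ p'.comap (algebraMap R (Cl R)) = p := by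
  let Ω := AlgebraicClosure p.ResidueField
  letI : Algebra R Ω :=
    ((algebraMap p.ResidueField Ω).comp (algebraMap R p.ResidueField)).toAlgebra
  have hroot : ∀ P : Idx R, ∃ x : Ω, Polynomial.aeval x P.1 = 0 := by
    intro P
    have hdeg : (P.1.map (algebraMap R Ω)).degree ≠ 0 := by
      have h0 : 0 < (P.1.map (algebraMap R Ω)).natDegree := by
        rw [P.2.1.natDegree_map]; exact P.2.2
      exact (Polynomial.natDegree_pos_iff_degree_pos.mp h0).ne'
    obtain ⟨x, hx⟩ := IsAlgClosed.exists_root _ hdeg
    exact ⟨x, by rwa [Polynomial.IsRoot.def, Polynomial.eval_map_algebraMap] at hx⟩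
  choose ρ hρ using hroot
  let g : MvPolynomial (Idx R) R →ₐ[R] Ω := MvPolynomial.aeval ρ
  have hg : ∀ a ∈ rel R, g a = 0 := by
    have : rel R ≤ RingHom.ker g.toRingHom := by
      rw [rel, Ideal.span_le]
      rintro _ ⟨P, rfl⟩
      rw [SetLike.mem_coe, RingHom.mem_ker]
      show g (Polynomial.aeval (MvPolynomial.X P) P.1) = 0
      rw [← Polynomial.aeval_algHom_apply, MvPolynomial.aeval_X]
      exact hρ P
    intro a ha
    exact this ha
  let g' : Cl R →ₐ[R] Ω := Ideal.Quotient.liftₐ (rel R) g hg
  refine ⟨RingHom.ker g'.toRingHom, RingHom.ker_isPrime _, ?_⟩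
  ext a
  rw [Ideal.mem_comap, RingHom.mem_ker]
  show g' (algebraMap R (Cl R) a) = 0 ↔ _
  rw [g'.commutes]
  show algebraMap p.ResidueField Ω (algebraMap R p.ResidueField a) = 0 ↔ a ∈ p
  rw [map_eq_zero_iff _ (algebraMap p.ResidueField Ω).injective,
    Ideal.algebraMap_residueField_eq_zero]

theorem residue (p' : Ideal (Cl R)) [p'.IsPrime] :
    IsAlgClosed p'.ResidueField ∧
      (Ideal.ResidueField.map (p'.comap (algebraMap R (Cl R))) p' (algebraMap R (Cl R))
        rfl).IsIntegral := by
  set p : Ideal R := p'.under R with hp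
  haveI : p'.LiesOver p := ⟨rfl⟩
  letI := Localization.AtPrime.algebraOfLiesOver p p'
  haveI : Algebra.IsAlgebraic p.ResidueField p'.ResidueField := inferInstance
  have hmap : algebraMap p.ResidueField p'.ResidueField =
      Ideal.ResidueField.map p p' (algebraMap R (Cl R)) rfl := rfl
  haveI htower : IsScalarTower R p.ResidueField p'.ResidueField :=
    IsScalarTower.of_algebraMap_eq fun x => by
      rw [hmap, Ideal.ResidueField.map_algebraMap]
      rfl
  haveI : Module.IsTorsionFree p.ResidueField p'.ResidueField :=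
    DivisionSemiring.to_moduleIsTorsionFree
  have hcl : IsAlgClosure p.ResidueField p'.ResidueField := by
    apply IsAlgClosure.of_exists_root
    intro q hq hirr
    have hn : 0 < q.natDegree := hirr.natDegree_pos
    obtain ⟨⟨b, hbmem⟩, hb⟩ := IsLocalization.exist_integer_multiples_of_finset
      (nonZeroDivisors (R ⧸ p)) ((Finset.range q.natDegree).image q.coeff)
    obtain ⟨s₀, rfl⟩ := Ideal.Quotient.mk_surjective b
    set sK : p.ResidueField := algebraMap R p.ResidueField s₀ with hsK
    have hsK0 : sK ≠ 0 := by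
      rw [hsK, Ne, Ideal.algebraMap_residueField_eq_zero, ← Ideal.Quotient.eq_zero_iff_mem]
      exact nonZeroDivisors.ne_zero hbmem
    have hcoef : ∀ i, i < q.natDegree →
        ∃ r : R, algebraMap R p.ResidueField r = sK * q.coeff i := by
      intro i hi
      obtain ⟨d, hd⟩ := hb (q.coeff i) (Finset.mem_image.mpr ⟨i, Finset.mem_range.mpr hi, rfl⟩)
      obtain ⟨r, rfl⟩ := Ideal.Quotient.mk_surjective d
      refine ⟨r, ?_⟩
      rw [Ideal.algebraMap_quotient_residueField_mk] at hd
      rw [hd, Algebra.smul_def, Ideal.algebraMap_quotient_residueField_mk]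
    have hlift : q.scaleRoots sK ∈ Polynomial.lifts (algebraMap R p.ResidueField) := by
      rw [Polynomial.lifts_iff_coeff_lifts]
      intro i
      rw [Polynomial.coeff_scaleRoots]
      rcases lt_trichotomy i q.natDegree with hi | hi | hi
      · obtain ⟨r, hr⟩ := hcoef i hi
        refine ⟨r * s₀ ^ (q.natDegree - i - 1), ?_⟩
        rw [map_mul, map_pow, hr, ← hsK]
        obtain ⟨k, hk⟩ : ∃ k, q.natDegree - i = k + 1 := ⟨q.natDegree - i - 1, by omega⟩
        rw [hk, Nat.add_sub_cancel, pow_succ]
        ring
      · subst hi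
        refine ⟨1, ?_⟩
        rw [map_one, Nat.sub_self, pow_zero, mul_one]
        exact hq.coeff_natDegree.symm
      · refine ⟨0, ?_⟩
        rw [map_zero, Polynomial.coeff_eq_zero_of_natDegree_lt hi, zero_mul]
    obtain ⟨M, hMmap, hMdeg, hMmonic⟩ := Polynomial.lifts_and_natDegree_eq_and_monic hlift
      ((Polynomial.monic_scaleRoots_iff sK).mpr hq)
    have hMpos : 0 < M.natDegree := by
      rw [hMdeg, Polynomial.natDegree_scaleRoots]; exact hn
    obtain ⟨r', hr'⟩ := exists_root R M hMmonic hMpos
    set β : p'.ResidueField := algebraMap (Cl R) p'.ResidueField r' with hβ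
    have h1 : Polynomial.aeval β M = 0 := by
      rw [hβ, Polynomial.aeval_algebraMap_apply, hr', map_zero]
    have h2 : Polynomial.aeval β (q.scaleRoots sK) = 0 := by
      rw [← hMmap, Polynomial.aeval_map_algebraMap]; exact h1
    have hs' : algebraMap p.ResidueField p'.ResidueField sK ≠ 0 := (_root_.map_ne_zero _).mpr hsK0
    refine ⟨β / algebraMap p.ResidueField p'.ResidueField sK, ?_⟩
    have h3 := Polynomial.scaleRoots_eval₂_mul (algebraMap p.ResidueField p'.ResidueField)
      (β / algebraMap p.ResidueField p'.ResidueField sK) sK (p := q)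
    have h4 : algebraMap p.ResidueField p'.ResidueField sK *
        (β / algebraMap p.ResidueField p'.ResidueField sK) = β := by
      field_simp
    rw [h4] at h3
    rw [Polynomial.aeval_def] at h2 ⊢
    rw [h2] at h3
    exact (mul_eq_zero.mp h3.symm).resolve_left (pow_ne_zero _ hs')
  refine ⟨hcl.isAlgClosed, ?_⟩
  rw [← hmap]
  exact algebraMap_isIntegral_iff.mpr inferInstance

end Groth.Agent.Lib.Helper8AlgClCover
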