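import Mathlib
import Groth.Agent.Lib.Helper8AlgClCover
import Groth.Agent.Lib.Helper20ResFld

/-!
# A qcqs scheme is covered by an affine scheme with algebraically closed residue fields (helper8)
-/

set_option autoImplicit false
universe u

namespace Groth.Agent.Lib.Helper8AlgClCover

open AlgebraicGeometry CategoryTheory Limits

/-- the residue field at `x` is algebraically closed and integral over that of `f x`. -/
def Good {X Y : Scheme.{u}} (f : X ⟶ Y) (x : X) : Prop :=
  IsAlgClosed (X.residueField x) ∧ (f.residueFieldMap x).hom.IsIntegral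

theorem isIntegral_comp {A B C : CommRingCat.{u}} (a : A ⟶ B) (b : B ⟶ C)
    (ha : a.hom.IsIntegral) (hb : b.hom.IsIntegral) : (a ≫ b).hom.IsIntegral := by
  rw [CommRingCat.hom_comp]; exact RingHom.IsIntegral.trans _ _ ha hb

theorem isIntegral_of_isIso {A B : CommRingCat.{u}} (a : A ⟶ B) [IsIso a] : a.hom.IsIntegral :=
  RingHom.isIntegral_of_surjective _ (ConcreteCategory.bijective_of_isIso a).2

theorem isIntegral_iso_hom {A B : CommRingCat.{u}} (e : A ≅ B) : e.hom.hom.IsIntegral :=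
  isIntegral_of_isIso e.hom

theorem isIntegral_iso_inv {A B : CommRingCat.{u}} (e : A ≅ B) : e.inv.hom.IsIntegral :=
  isIntegral_of_isIso e.inv

theorem good_comp_of_isOpenImmersion {X Y Z : Scheme.{u}} (f : X ⟶ Y) (g : Y ⟶ Z)
    [IsOpenImmersion g] (x : X) (h : Good f x) : Good (f ≫ g) x := by
  refine ⟨h.1, ?_⟩
  have h1 : (f ≫ g).residueFieldMap x = g.residueFieldMap (f x) ≫ f.residueFieldMap x :=
    Scheme.residueFieldMap_comp f g x
  have h2 : (g.residueFieldMap (f x) ≫ f.residueFieldMap x).hom.IsIntegral :=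
    isIntegral_comp _ _ (isIntegral_of_isIso _) h.2
  rw [h1]; exact h2

theorem good_of_comp_isOpenImmersion {W X Y : Scheme.{u}} (h : W ⟶ X) [IsOpenImmersion h]
    (f : X ⟶ Y) (w : W) (hg : Good (h ≫ f) w) : Good f (h w) := by
  let e : X.residueField (h w) ≅ W.residueField w := asIso (h.residueFieldMap w)
  constructor
  · haveI := hg.1
    exact IsAlgClosed.of_ringEquiv _ _ e.commRingCatIsoToRingEquiv.symm
  · have h0 : (h ≫ f).residueFieldMap w = f.residueFieldMap (h w) ≫ h.residueFieldMap w :=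
      Scheme.residueFieldMap_comp h f w
    have h1 : (f.residueFieldMap (h w)) =
        (f.residueFieldMap (h w) ≫ h.residueFieldMap w) ≫ e.inv := by
      rw [Category.assoc]
      simp [e]
    have h2 : (f.residueFieldMap (h w) ≫ h.residueFieldMap w).hom.IsIntegral := by
      have := hg.2
      rw [h0] at this
      exact this
    rw [h1]
    exact isIntegral_comp _ _ h2 (isIntegral_of_isIso _)

theorem good_SpecMap (R : CommRingCat.{u}) (x' : Spec (CommRingCat.of (Cl R))) :
    Good (Spec.map (CommRingCat.ofHom (algebraMap R (Cl R)))) x' := by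
  haveI : x'.asIdeal.IsPrime := x'.2
  obtain ⟨h1, h2⟩ := residue R x'.asIdeal
  set φ : R ⟶ CommRingCat.of (Cl R) := CommRingCat.ofHom (algebraMap R (Cl R)) with hφ
  have key := Groth.Agent.Lib.Helper20.ResFld.residueFieldMap_SpecMap φ x'
  constructor
  · haveI : IsAlgClosed x'.asIdeal.ResidueField := h1
    let e : x'.asIdeal.ResidueField ≃+* (Spec (CommRingCat.of (Cl R))).residueField x' :=
      (Scheme.Spec.residueFieldIso (CommRingCat.of (Cl R)) x').commRingCatIsoToRingEquiv.symm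
    exact IsAlgClosed.of_ringEquiv _ _ e
  · have h3 : (Spec.map φ).residueFieldMap x' =
        ((Scheme.Spec.residueFieldIso R (x'.comap φ.hom)).hom ≫
          CommRingCat.ofHom (Ideal.ResidueField.map (x'.comap φ.hom).asIdeal x'.asIdeal φ.hom rfl)) ≫
          (Scheme.Spec.residueFieldIso (CommRingCat.of (Cl R)) x').inv := by
      rw [← key]
      exact ((Iso.comp_inv_eq _).mpr rfl).symm
    rw [h3]
    refine isIntegral_comp _ _ (isIntegral_comp _ _ (isIntegral_iso_hom _) ?_) (isIntegral_iso_inv _)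
    exact h2

theorem main (X : Scheme.{u}) [CompactSpace X] [QuasiSeparatedSpace X] :
    ∃ (X' : Scheme.{u}) (f : X' ⟶ X), IsAffine X' ∧ QuasiCompact f ∧ Surjective f ∧
      ∀ x' : X', Good f x' := by
  let 𝒰 := X.affineCover.finiteSubcover
  haveI : Finite 𝒰.I₀ := Finite.of_fintype _
  haveI haff : ∀ j, IsAffine (𝒰.X j) := fun j => by
    show IsAffine (X.affineCover.X _)
    infer_instance
  let R : 𝒰.I₀ → CommRingCat.{u} := fun j => Γ(𝒰.X j, ⊤)
  let Y' : 𝒰.I₀ → Scheme.{u} := fun j => Spec (CommRingCat.of (Cl (R j)))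
  let g : ∀ j, Y' j ⟶ 𝒰.X j := fun j =>
    Spec.map (CommRingCat.ofHom (algebraMap (R j) (Cl (R j)))) ≫ (𝒰.X j).isoSpec.inv
  let f : ∐ Y' ⟶ X := Sigma.desc fun j => g j ≫ 𝒰.f j
  have hf : ∀ j, Sigma.ι Y' j ≫ f = g j ≫ 𝒰.f j := fun j => Sigma.ι_desc _ _
  refine ⟨∐ Y', f, inferInstance, inferInstance, ⟨fun x => ?_⟩, fun x' => ?_⟩
  · obtain ⟨j, y, hy⟩ := 𝒰.exists_eq x
    let yS : Spec (R j) := (𝒰.X j).isoSpec.hom y
    haveI : yS.asIdeal.IsPrime := yS.2
    obtain ⟨p', hp', hpp'⟩ := exists_prime_over (R j) yS.asIdeal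
    let y' : Y' j := (⟨p', hp'⟩ : PrimeSpectrum (Cl (R j)))
    have h1 : (Spec.map (CommRingCat.ofHom (algebraMap (R j) (Cl (R j))))) y' = yS := by
      apply PrimeSpectrum.ext
      exact hpp'
    have h2 : g j y' = y := by
      show (𝒰.X j).isoSpec.inv ((Spec.map (CommRingCat.ofHom (algebraMap (R j) (Cl (R j))))) y') = y
      rw [h1]
      show ((𝒰.X j).isoSpec.hom ≫ (𝒰.X j).isoSpec.inv) y = y
      rw [Iso.hom_inv_id]
      rfl
    refine ⟨Sigma.ι Y' j y', ?_⟩
    show (Sigma.ι Y' j ≫ f) y' = x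
    rw [hf j]
    show 𝒰.f j (g j y') = x
    rw [h2, hy]
  · obtain ⟨⟨j, y'⟩, rfl⟩ := (sigmaMk Y').surjective x'
    rw [sigmaMk_mk]
    apply good_of_comp_isOpenImmersion
    rw [hf j]
    apply good_comp_of_isOpenImmersion
    apply good_comp_of_isOpenImmersion
    exact good_SpecMap (R j) y'

end Groth.Agent.Lib.Helper8AlgClCover
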