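import Mathlib
import Groth.Prelude

/-!
# Almost cocontinuous functors between (possibly large) sites (helper8)

Universe-general versions of S6441 / S6440 (sheafification commutes with `u^p`; `u^s` preserves
finite connected colimits of sheaves of sets), and the abelian variant: `u^s` preserves
epimorphisms of abelian sheaves, hence is exact.
-/

set_option autoImplicit false
universe w v₁ v₂ u₁ u₂
open CategoryTheory CategoryTheory.Limits Opposite

namespace Groth.Agent.Lib.Helper8AlmostCocont

variable {C : Type u₁} [Category.{v₁} C] {D : Type u₂} [Category.{v₂} D]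

/-- sheaves of types have singleton values on objects covered by the empty sieve -/
lemma sheaf_unique_of_bot_mem (K : GrothendieckTopology D)
    (F : Dᵒᵖ ⥤ Type w) (hF : Presheaf.IsSheaf K F) (V : D) (hV : (⊥ : Sieve V) ∈ K V) :
    Nonempty (Unique (F.obj (op V))) := by
  have hF' := (isSheaf_iff_isSheaf_of_type _ _).mp hF
  have h := hF' _ hV
  let x : Presieve.FamilyOfElements F (⊥ : Sieve V).arrows := fun W g hg => hg.elim
  have hx : x.Compatible := by
    intro Y₁ Y₂ Z g₁ g₂ f₁ f₂ h₁ h₂ _
    exact h₁.elim
  obtain ⟨t, -, htu⟩ := h x hx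
  refine ⟨⟨⟨t⟩, fun s => htu s ?_⟩⟩
  intro W g hg
  exact hg.elim

/-- a connected colimit of singletons in `Type w` is a singleton -/
lemma unique_of_isColimit_of_unique {I : Type} [SmallCategory I] [IsConnected I]
    (T : I ⥤ Type w) (c : Cocone T) (hc : IsColimit c) (hT : ∀ i, Nonempty (Unique (T.obj i))) :
    Nonempty (Unique c.pt) := by
  have hT' : ∀ i, Unique (T.obj i) := fun i => (hT i).some
  let f : I → c.pt := fun i => c.ι.app i (hT' i).default
  have hf : ∀ i j, f i = f j := by
    apply constant_of_preserves_morphisms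
    intro j₁ j₂ m
    have h1 : c.ι.app j₁ (hT' j₁).default = c.ι.app j₂ (T.map m (hT' j₁).default) := by
      have := congrArg (fun g => g (hT' j₁).default) (c.w m)
      exact this.symm
    change c.ι.app j₁ (hT' j₁).default = c.ι.app j₂ (hT' j₂).default
    rw [h1, (hT' j₂).uniq (T.map m (hT' j₁).default)]
  obtain ⟨i₀⟩ := (inferInstance : Nonempty I)
  refine ⟨⟨⟨f i₀⟩, ?_⟩⟩
  intro x
  obtain ⟨i, a, rfl⟩ := Types.jointly_surjective_of_isColimit hc x
  rw [(hT' i).uniq a]
  exact hf i i₀

variable (J : GrothendieckTopology C) (K : GrothendieckTopology D) (u : C ⥤ D)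
  [u.IsContinuous J K]

/-- universe-general S6441 -/
theorem isIso_comparison [HasWeakSheafify J (Type w)] [HasWeakSheafify K (Type w)]
    [J.WEqualsLocallyBijective (Type w)] [K.WEqualsLocallyBijective (Type w)]
    (hu : BigSite.IsAlmostCocontinuous u J K) (G : Dᵒᵖ ⥤ Type w)
    (hG : ∀ V : D, (⊥ : Sieve V) ∈ K V → Nonempty (Unique (G.obj (op V)))) :
    IsIso (((sheafificationAdjunction J (Type w)).homEquiv (u.op ⋙ G)
      ((u.sheafPushforwardContinuous (Type w) J K).obj ((presheafToSheaf K (Type w)).obj G))).symm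
        (Functor.whiskerLeft u.op (toSheafify K G))) := by
  set α := Functor.whiskerLeft u.op (toSheafify K G) with hα
  set F' := (u.sheafPushforwardContinuous (Type w) J K).obj ((presheafToSheaf K (Type w)).obj G)
  set β := ((sheafificationAdjunction J (Type w)).homEquiv (u.op ⋙ G) F').symm α with hβ
  have hαβ : (sheafificationAdjunction J (Type w)).unit.app (u.op ⋙ G) ≫
      (sheafToPresheaf J _).map β = α := by
    exact ((sheafificationAdjunction J (Type w)).homEquiv_unit (X := u.op ⋙ G) (Y := F') β).symm.trans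
      (Equiv.apply_symm_apply _ _)
  have hW : J.W α := by
    have : Presheaf.IsLocallyInjective J α := by
      constructor
      intro U x y hxy
      induction U using Opposite.rec with | _ U => ?_
      have h1 : Presheaf.equalizerSieve (F := G) (X := op (u.obj U)) x y ∈ K (u.obj U) :=
        Presheaf.equalizerSieve_mem K (toSheafify K G) (X := op (u.obj U)) x y hxy
      obtain ⟨R', hR', hR'2⟩ := hu U _ h1
      refine J.superset_covering ?_ hR'
      intro V g hg
      rcases hR'2 g hg with hbot | hmem
      · obtain ⟨hU⟩ := hG _ hbot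
        exact (hU.uniq _).trans (hU.uniq _).symm
      · exact hmem
    have : Presheaf.IsLocallySurjective J α := by
      constructor
      intro U s
      have h1 : Presheaf.imageSieve (toSheafify K G) (U := u.obj U) s ∈ K (u.obj U) :=
        Presheaf.imageSieve_mem K (toSheafify K G) (U := op (u.obj U)) s
      obtain ⟨R', hR', hR'2⟩ := hu U _ h1
      refine J.superset_covering ?_ hR'
      intro V g hg
      rcases hR'2 g hg with hbot | hmem
      · obtain ⟨hU⟩ := hG _ hbot
        obtain ⟨hS⟩ := sheaf_unique_of_bot_mem K (sheafify K G)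
          ((presheafToSheaf K (Type w)).obj G).property _ hbot
        exact ⟨hU.default, (hS.uniq _).trans (hS.uniq _).symm⟩
      · exact hmem
    exact J.W_of_isLocallyBijective α
  have hW2 : J.W ((sheafToPresheaf J _).map β) := by
    have h1 := J.W_adj_unit_app (sheafificationAdjunction J (Type w)) (u.op ⋙ G)
    rw [← hαβ] at hW
    exact J.W.of_precomp _ _ h1 hW
  exact (J.W_sheafToPresheaf_map_iff_isIso β).mp hW2

/-- universe-general S6440 -/
theorem preservesColimitsOfShape_of_isAlmostCocontinuous
    [HasWeakSheafify J (Type w)] [HasWeakSheafify K (Type w)]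
    [J.WEqualsLocallyBijective (Type w)] [K.WEqualsLocallyBijective (Type w)]
    (hu : BigSite.IsAlmostCocontinuous u J K) (I : Type) [SmallCategory I] [FinCategory I]
    [IsConnected I] :
    PreservesColimitsOfShape I (u.sheafPushforwardContinuous (Type w) J K) := by
  constructor
  intro F
  let E : Cocone (F ⋙ sheafToPresheaf K (Type w)) := colimit.cocone _
  have hE : IsColimit E := colimit.isColimit _
  let c : Cocone F := Sheaf.sheafifyCocone E
  have hc : IsColimit c := Sheaf.isColimitSheafifyCocone E hE
  apply preservesColimit_of_preserves_colimit_cocone hc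
  let up : (Dᵒᵖ ⥤ Type w) ⥤ (Cᵒᵖ ⥤ Type w) := (Functor.whiskeringLeft _ _ _).obj u.op
  let E' : Cocone ((F ⋙ u.sheafPushforwardContinuous (Type w) J K) ⋙ sheafToPresheaf J (Type w)) :=
    up.mapCocone E
  have hE' : IsColimit E' := isColimitOfPreserves up hE
  let c' : Cocone (F ⋙ u.sheafPushforwardContinuous (Type w) J K) := Sheaf.sheafifyCocone E'
  have hc' : IsColimit c' := Sheaf.isColimitSheafifyCocone E' hE'
  have hG : ∀ V : D, (⊥ : Sieve V) ∈ K V → Nonempty (Unique (E.pt.obj (op V))) := by
    intro V hV
    have hEV : IsColimit (((evaluation _ _).obj (op V)).mapCocone E) :=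
      isColimitOfPreserves _ hE
    refine unique_of_isColimit_of_unique _ _ hEV ?_
    intro i
    exact sheaf_unique_of_bot_mem K (F.obj i).obj (F.obj i).property V hV
  have hiso := isIso_comparison J K u hu E.pt hG
  let β : c'.pt ⟶ ((u.sheafPushforwardContinuous (Type w) J K).mapCocone c).pt :=
    ((sheafificationAdjunction J (Type w)).homEquiv (u.op ⋙ E.pt)
      ((u.sheafPushforwardContinuous (Type w) J K).obj ((presheafToSheaf K (Type w)).obj E.pt))).symm
        (Functor.whiskerLeft u.op (toSheafify K E.pt))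
  have hβiso : IsIso β := hiso
  have hβ : toSheafify J (u.op ⋙ E.pt) ≫ β.hom = Functor.whiskerLeft u.op (toSheafify K E.pt) := by
    exact ((sheafificationAdjunction J (Type w)).homEquiv_unit (X := u.op ⋙ E.pt)
      (Y := (u.sheafPushforwardContinuous (Type w) J K).obj ((presheafToSheaf K (Type w)).obj E.pt))
      β).symm.trans (Equiv.apply_symm_apply _ _)
  refine IsColimit.ofIsoColimit hc' (Cocone.ext (asIso β) ?_)
  intro i
  apply Sheaf.hom_ext
  change (c'.ι.app i).hom ≫ β.hom = Functor.whiskerLeft u.op (c.ι.app i).hom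
  rw [Sheaf.sheafifyCocone_ι_app_val, Sheaf.sheafifyCocone_ι_app_val]
  have e1 : (E'.ι.app i ≫ toSheafify J E'.pt) ≫ β.hom =
      E'.ι.app i ≫ (toSheafify J (u.op ⋙ E.pt) ≫ β.hom) := Category.assoc _ _ _
  have e2 : E'.ι.app i ≫ (toSheafify J (u.op ⋙ E.pt) ≫ β.hom) =
      E'.ι.app i ≫ Functor.whiskerLeft u.op (toSheafify K E.pt) :=
    congrArg (fun m => E'.ι.app i ≫ m) hβ
  exact e1.trans (e2.trans rfl)


/-- abelian sheaves vanish on objects covered by the empty sieve -/
lemma ab_eq_of_bot_mem [K.HasSheafCompose (forget AddCommGrpCat.{w})]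
    (F : Sheaf K AddCommGrpCat.{w}) (V : D) (hV : (⊥ : Sieve V) ∈ K V)
    (a b : F.obj.obj (op V)) : a = b := by
  have h1 : Presheaf.IsSheaf K (F.obj ⋙ forget AddCommGrpCat.{w}) :=
    GrothendieckTopology.HasSheafCompose.isSheaf F.obj F.property
  obtain ⟨hU⟩ := sheaf_unique_of_bot_mem K _ h1 V hV
  exact (hU.uniq a).trans (hU.uniq b).symm

/-- the direct image along a continuous and almost cocontinuous functor preserves
epimorphisms of abelian sheaves -/
theorem preservesEpimorphisms_ab
    [HasSheafify J AddCommGrpCat.{w}] [HasSheafify K AddCommGrpCat.{w}]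
    [J.WEqualsLocallyBijective AddCommGrpCat.{w}] [K.WEqualsLocallyBijective AddCommGrpCat.{w}]
    [J.HasSheafCompose (forget AddCommGrpCat.{w})] [K.HasSheafCompose (forget AddCommGrpCat.{w})]
    (hu : BigSite.IsAlmostCocontinuous u J K) :
    (u.sheafPushforwardContinuous AddCommGrpCat.{w} J K).PreservesEpimorphisms := by
  constructor
  intro F G φ hφ
  rw [← Sheaf.isLocallySurjective_iff_epi'] at hφ ⊢
  constructor
  intro U s
  have h1 : Presheaf.imageSieve φ.hom (U := u.obj U) s ∈ K (u.obj U) :=
    Presheaf.imageSieve_mem K φ.hom (U := op (u.obj U)) s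
  obtain ⟨R', hR', hR'2⟩ := hu U _ h1
  refine J.superset_covering ?_ hR'
  intro V g hg
  rcases hR'2 g hg with hbot | hmem
  · exact ⟨0, ab_eq_of_bot_mem K G _ hbot _ _⟩
  · exact hmem

end Groth.Agent.Lib.Helper8AlmostCocont
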