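/-
Helper library (helper8): a closed subscheme without embedded points, of pure codimension one, in a
scheme with factorial local rings along it, is an effective Cartier divisor.

* `exists_span_singleton_of_ass_height_one`: in a Noetherian UFD, an ideal all of whose associated
  primes have height one is principal (generated by a nonzero element);
* `exists_isAssociatedPrime_of_surjective`: associated primes of `A/ker φ` as `A`-module come from
  associated primes of the ring `B` for `φ : A → B` surjective;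
* `height_eq_one_of_mem_associatedPrimes`, `isEffCartier_of_noEmbedded_codim_one_ufd`.
-/
import Mathlib
import Groth.Agent.Lib.Helper8EffCart
import Groth.Agent.Lib.Helper8LocFact
import Groth.Agent.Lib.Helper5RegImm
import Groth.Agent.Lib.Helper5StalkSpec
import Groth.Agent.Lib.Helper4Pur21

set_option autoImplicit false
set_option linter.style.haveILetI false
universe u

open AlgebraicGeometry CategoryTheory TopologicalSpace IsLocalRing

namespace Groth.Agent.Lib.Helper8.NoEmbCart

section Alg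

theorem exists_span_singleton_of_ass_height_one {A : Type u} [CommRing A] [IsDomain A]
    [IsNoetherianRing A] [UniqueFactorizationMonoid A] (J : Ideal A)
    (hJ : ∀ P ∈ associatedPrimes A (A ⧸ J), P.height = 1) :
    ∃ t : A, t ≠ 0 ∧ J = Ideal.span {t} := by
  induction J using WellFoundedGT.induction with
  | ind J ih =>
    by_cases hJtop : J = ⊤
    · exact ⟨1, one_ne_zero, by rw [hJtop, Ideal.span_singleton_one]⟩
    haveI : Nontrivial (A ⧸ J) := Ideal.Quotient.nontrivial_iff.mpr hJtop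
    obtain ⟨P, hP⟩ := associatedPrimes.nonempty A (A ⧸ J)
    have hht := hJ P hP
    haveI hPprime : P.IsPrime := hP.isPrime
    obtain ⟨-, x, hx⟩ := isAssociatedPrime_iff.mp hP
    obtain ⟨a, rfl⟩ := Ideal.Quotient.mk_surjective x
    obtain ⟨π, hπ⟩ := (UniqueFactorizationMonoid.isPrincipal_of_height_eq_one hht).principal
    have hπ' : P = Ideal.span {π} := hπ
    have hπP : π ∈ P := by rw [hπ']; exact Ideal.mem_span_singleton_self π
    have hπ0 : π ≠ 0 := by
      rintro rfl
      apply Ideal.ne_bot_of_height_eq_one hht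
      rw [hπ']; exact Ideal.span_singleton_eq_bot.mpr rfl
    have hmemP : ∀ c : A, c ∈ P ↔ c * a ∈ J := by
      intro c
      have h : c • (Ideal.Quotient.mk J a) = Ideal.Quotient.mk J (c * a) := by
        rw [map_mul]; rfl
      rw [hx, Submodule.mem_colon_singleton, Submodule.mem_bot, h, Ideal.Quotient.eq_zero_iff_mem]
    have haJ : a ∉ J := by
      intro h
      apply hPprime.ne_top
      rw [Ideal.eq_top_iff_one, hmemP, one_mul]; exact h
    let J' : Ideal A := Submodule.comap (LinearMap.mulLeft A π) J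
    have hmemJ' : ∀ c : A, c ∈ J' ↔ π * c ∈ J := fun c => by
      change c ∈ Submodule.comap (LinearMap.mulLeft A π) J ↔ _
      rw [Submodule.mem_comap, LinearMap.mulLeft_apply]
    have hlt : J < J' := by
      refine lt_of_le_of_ne (fun c hc => (hmemJ' c).mpr (J.mul_mem_left π hc)) ?_
      intro heq
      apply haJ
      rw [heq, hmemJ']
      exact (hmemP π).mp hπP
    have hJeq : J = Ideal.span {π} * J' := by
      apply le_antisymm
      · intro c hc
        have hcP : c ∈ P := (hmemP c).mpr (J.mul_mem_right a hc)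
        rw [hπ', Ideal.mem_span_singleton'] at hcP
        obtain ⟨d, rfl⟩ := hcP
        have hd : d ∈ J' := by rw [hmemJ', mul_comm]; exact hc
        rw [mul_comm d π]
        exact Ideal.mul_mem_mul (Ideal.mem_span_singleton_self π) hd
      · rw [Ideal.span_singleton_mul_le_iff]
        intro c hc
        exact (hmemJ' c).mp hc
    let f : (A ⧸ J') →ₗ[A] (A ⧸ J) := Submodule.mapQ J' J (LinearMap.mulLeft A π) (le_refl _)
    have hf : Function.Injective f := by
      rw [injective_iff_map_eq_zero]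
      intro y hy
      obtain ⟨c, rfl⟩ := Submodule.Quotient.mk_surjective J' y
      rw [Submodule.mapQ_apply, Submodule.Quotient.mk_eq_zero, LinearMap.mulLeft_apply] at hy
      rw [Submodule.Quotient.mk_eq_zero]
      exact (hmemJ' c).mpr hy
    obtain ⟨t', ht', hJ't'⟩ := ih J' hlt
      (fun Q hQ => hJ Q (associatedPrimes.subset_of_injective hf hQ))
    refine ⟨π * t', mul_ne_zero hπ0 ht', ?_⟩
    rw [hJeq, hJ't', Ideal.span_singleton_mul_span_singleton]

theorem exists_isAssociatedPrime_of_surjective {A B : Type u} [CommRing A] [CommRing B]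
    [IsNoetherianRing A] (φ : A →+* B) (hφ : Function.Surjective φ) (P : Ideal A)
    (hP : P ∈ associatedPrimes A (A ⧸ RingHom.ker φ)) :
    ∃ P' : Ideal B, IsAssociatedPrime P' B ∧ P'.comap φ = P := by
  haveI hPprime : P.IsPrime := hP.isPrime
  obtain ⟨-, x, hx⟩ := isAssociatedPrime_iff.mp hP
  obtain ⟨a, rfl⟩ := Ideal.Quotient.mk_surjective x
  have hmemP : ∀ c : A, c ∈ P ↔ φ c * φ a = 0 := by
    intro c
    have h : c • (Ideal.Quotient.mk (RingHom.ker φ) a) =
        Ideal.Quotient.mk (RingHom.ker φ) (c * a) := by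
      rw [map_mul]; rfl
    rw [hx, Submodule.mem_colon_singleton, Submodule.mem_bot, h, Ideal.Quotient.eq_zero_iff_mem,
      RingHom.mem_ker, map_mul]
  have hker : RingHom.ker φ ≤ P := fun c hc => by
    rw [hmemP, (RingHom.mem_ker).mp hc, zero_mul]
  have hcomap : (P.map φ).comap φ = P := by
    rw [Ideal.comap_map_of_surjective φ hφ, ← RingHom.ker_eq_comap_bot]
    exact sup_eq_left.mpr hker
  haveI hmapprime : (P.map φ).IsPrime := Ideal.map_isPrime_of_surjective hφ hker
  refine ⟨P.map φ, ⟨hmapprime, φ a, ?_⟩, hcomap⟩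
  have hcol : (⊥ : Submodule B B).colon {φ a} = P.map φ := by
    ext b
    obtain ⟨c, rfl⟩ := hφ b
    rw [Submodule.mem_colon_singleton, Submodule.mem_bot, smul_eq_mul, ← hmemP,
      Ideal.mem_map_iff_of_surjective φ hφ]
    constructor
    · intro hc; exact ⟨c, hc, rfl⟩
    · rintro ⟨c', hc', hcc'⟩
      have h1 : c - c' ∈ P := hker (by rw [RingHom.mem_ker, map_sub, hcc', sub_self])
      have h2 := P.add_mem h1 hc'
      simpa using h2
  rw [hcol]
  exact (Ideal.IsPrime.radical hmapprime).symm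

end Alg

section Sch

variable {X : Scheme.{u}}

theorem height_eq_one_of_mem_associatedPrimes [IsLocallyNoetherian X] (𝓘 : X.IdealSheafData)
    (h1 : ∀ z : ↥𝓘.subscheme,
      IsAssociatedPrime (IsLocalRing.maximalIdeal ↑(𝓘.subscheme.presheaf.stalk z))
        ↑(𝓘.subscheme.presheaf.stalk z) → ∀ z' : ↥𝓘.subscheme, z' ⤳ z → z' = z)
    (h2 : ∀ z : ↥𝓘.subscheme, (∀ z' : ↥𝓘.subscheme, z' ⤳ z → z' = z) →
      ringKrullDim (X.presheaf.stalk (𝓘.subschemeι z)) = 1)
    (z : ↥𝓘.subscheme) (P : Ideal (X.presheaf.stalk (𝓘.subschemeι z)))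
    (hP : P ∈ associatedPrimes (X.presheaf.stalk (𝓘.subschemeι z))
      (X.presheaf.stalk (𝓘.subschemeι z) ⧸ RingHom.ker (𝓘.subschemeι.stalkMap z).hom)) :
    P.height = 1 := by
  have hsurj : Function.Surjective (𝓘.subschemeι.stalkMap z).hom :=
    𝓘.subschemeι.stalkMap_surjective z
  obtain ⟨P', hP', rfl⟩ := exists_isAssociatedPrime_of_surjective _ hsurj P hP
  haveI hP'prime : P'.IsPrime := hP'.isPrime
  let q : Spec (𝓘.subscheme.presheaf.stalk z) := ⟨P', hP'prime⟩
  have hspec : 𝓘.subscheme.fromSpecStalk z q ⤳ z :=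
    Groth.Agent.Lib.Helper4.Pur21.fromSpecStalk_specializes 𝓘.subscheme z q
  have hcm := Groth.Agent.Lib.Helper4.Pur21.comap_stalkSpecializes_maximalIdeal
    𝓘.subscheme z q hspec
  have hass : IsAssociatedPrime
      (maximalIdeal (𝓘.subscheme.presheaf.stalk (𝓘.subscheme.fromSpecStalk z q)))
      (𝓘.subscheme.presheaf.stalk (𝓘.subscheme.fromSpecStalk z q)) := by
    letI := (𝓘.subscheme.presheaf.stalkSpecializes hspec).hom.toAlgebra
    obtain ⟨M, hM⟩ :=
      Groth.Agent.Lib.Helper5.StalkSpec.exists_isLocalization_stalkSpecializes 𝓘.subscheme hspec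
    haveI := hM
    apply Module.associatedPrimes.mem_associatedPrimes_of_comap_mem_associatedPrimes_of_isLocalizedModule
      M (Algebra.linearMap (𝓘.subscheme.presheaf.stalk z)
        (𝓘.subscheme.presheaf.stalk (𝓘.subscheme.fromSpecStalk z q)))
    have h3 : Ideal.comap (algebraMap (𝓘.subscheme.presheaf.stalk z)
        (𝓘.subscheme.presheaf.stalk (𝓘.subscheme.fromSpecStalk z q)))
        (maximalIdeal (𝓘.subscheme.presheaf.stalk (𝓘.subscheme.fromSpecStalk z q))) = P' := hcm
    rw [h3]
    exact hP'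
  have hmax := h1 _ hass
  have hdim := h2 _ hmax
  have hpt : 𝓘.subschemeι (𝓘.subscheme.fromSpecStalk z q) =
      X.fromSpecStalk (𝓘.subschemeι z) (Spec.map (𝓘.subschemeι.stalkMap z) q) := by
    rw [← Scheme.Hom.comp_apply, ← Scheme.Hom.comp_apply, Scheme.SpecMap_stalkMap_fromSpecStalk]
  rw [hpt] at hdim
  have hy : X.fromSpecStalk (𝓘.subschemeι z) (Spec.map (𝓘.subschemeι.stalkMap z) q) ⤳
      𝓘.subschemeι z := Groth.Agent.Lib.Helper4.Pur21.fromSpecStalk_specializes X _ _
  have h3 := Groth.Agent.Lib.Helper8.LocFact.ringKrullDim_stalk_eq_height_comap X hy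
  rw [Groth.Agent.Lib.Helper4.Pur21.comap_stalkSpecializes_maximalIdeal X _ _ hy, hdim] at h3
  have h4 : (Spec.map (𝓘.subschemeι.stalkMap z) q).asIdeal =
      P'.comap (𝓘.subschemeι.stalkMap z).hom := rfl
  rw [h4] at h3
  exact_mod_cast h3.symm

theorem isEffCartier_of_noEmbedded_codim_one_ufd [IsLocallyNoetherian X] (𝓘 : X.IdealSheafData)
    (h1 : ∀ z : ↥𝓘.subscheme,
      IsAssociatedPrime (IsLocalRing.maximalIdeal ↑(𝓘.subscheme.presheaf.stalk z))
        ↑(𝓘.subscheme.presheaf.stalk z) → ∀ z' : ↥𝓘.subscheme, z' ⤳ z → z' = z)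
    (h2 : ∀ z : ↥𝓘.subscheme, (∀ z' : ↥𝓘.subscheme, z' ⤳ z → z' = z) →
      ringKrullDim (X.presheaf.stalk (𝓘.subschemeι z)) = 1)
    (h3 : ∀ x : ↥X, x ∈ 𝓘.support →
      IsDomain (X.presheaf.stalk x) ∧ UniqueFactorizationMonoid (X.presheaf.stalk x)) :
    BlowUp.IsEffCartierIdeal 𝓘 := by
  intro x
  by_cases hxs : x ∈ 𝓘.support
  · have hr : x ∈ Set.range 𝓘.subschemeι := by rw [𝓘.range_subschemeι]; exact hxs
    obtain ⟨z, rfl⟩ := hr
    obtain ⟨V, hV, hxV, -⟩ :=
      exists_isAffineOpen_mem_and_subset (x := 𝓘.subschemeι z) (U := ⊤) trivial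
    obtain ⟨hdom, hU⟩ := h3 _ hxs
    haveI := hdom
    haveI := hU
    have hk := Groth.Agent.Lib.Helper5.RegImm.ker_stalkMap_eq_map_ker 𝓘.subschemeι z V hV hxV
    have hk' : RingHom.ker (𝓘.subschemeι.stalkMap z).hom =
        (𝓘.ideal ⟨V, hV⟩).map (X.presheaf.germ V (𝓘.subschemeι z) hxV).hom := by
      rw [hk, 𝓘.ker_subschemeι]
    obtain ⟨t, ht0, hJ⟩ := exists_span_singleton_of_ass_height_one
      (RingHom.ker (𝓘.subschemeι.stalkMap z).hom)
      (fun P hP => height_eq_one_of_mem_associatedPrimes 𝓘 h1 h2 z P hP)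
    exact Groth.Agent.Lib.Helper8.EffCart.exists_of_stalk_principal 𝓘 _ hV hxV t
      (mem_nonZeroDivisors_of_ne_zero ht0) (hk'.symm.trans hJ)
  · exact Groth.Agent.Lib.Helper8.EffCart.exists_of_notMem_support 𝓘 x hxs

end Sch

end Groth.Agent.Lib.Helper8.NoEmbCart
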