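/-
Helper library (helper8): the complement of a dense open with affine inclusion, along which the local
rings are factorial, is the support of an effective Cartier divisor (the reduced structure).

* `isAffineHom_ι_of_inf`; `ringKrullDim_stalk_eq_one_of_isAffineHom` (= S12210);
* `exists_effCartier_compl`.
-/
import Mathlib
import Groth.Agent.Lib.Helper8NoEmbCart
import Groth.Agent.Lib.Helper4PunctAffine3
import Groth.Agent.Lib.Helper28Serre
import Groth.Agent.Lib.Helper10RedInd

set_option autoImplicit false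
set_option linter.style.haveILetI false
universe u

open AlgebraicGeometry CategoryTheory TopologicalSpace IsLocalRing

namespace Groth.Agent.Lib.Helper8.ComplCart

theorem isAffineHom_ι_of_inf {X : Scheme.{u}} (U : X.Opens)
    (h : ∀ V : X.Opens, IsAffineOpen V → IsAffineOpen (U ⊓ V)) : IsAffineHom U.ι := by
  refine ⟨fun V hV => ?_⟩
  rw [← U.ι.isAffineOpen_iff_of_isOpenImmersion, Scheme.Hom.image_preimage_eq_opensRange_inf,
    Scheme.Opens.opensRange_ι]
  exact h V hV

theorem ringKrullDim_stalk_eq_one_of_isAffineHom (X : Scheme.{u}) [IsLocallyNoetherian X]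
    (U : X.Opens) [IsAffineHom U.ι] (ξ : X) (hξ : ξ ∉ U) (hgen : ∀ y : X, y ∉ U → y ⤳ ξ → y = ξ)
    (hcl : ξ ∈ closure (U : Set X)) :
    ringKrullDim (X.presheaf.stalk ξ) = 1 := by
  classical
  have hle := Groth.Agent.Lib.Helper4.PunctAffine.ringKrullDim_stalk_le_one_of_isAffineHom X U ξ hξ hgen
  obtain ⟨η, hηU, hηξ⟩ : ∃ η : X, η ∈ U ∧ η ⤳ ξ := by
    obtain ⟨V, hV, hξV, -⟩ := exists_isAffineOpen_mem_and_subset (x := ξ) (U := ⊤) trivial
    haveI : IsNoetherianRing Γ(X, V) := IsLocallyNoetherian.component_noetherian ⟨V, hV⟩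
    haveI hNV : TopologicalSpace.NoetherianSpace ↥V := noetherianSpace_of_isAffineOpen V hV
    have hemb : Topology.IsEmbedding (Set.inclusion (inf_le_right : ((U ⊓ V : X.Opens) : Set X) ≤ V)) :=
      Topology.IsEmbedding.inclusion _
    haveI hNW : TopologicalSpace.NoetherianSpace ↥(U ⊓ V : X.Opens) :=
      hemb.isInducing.noetherianSpace
    haveI hQW : QuasiSober ↥(U ⊓ V : X.Opens) :=
      (U ⊓ V : X.Opens).isOpenEmbedding'.quasiSober
    have hfin : (genericPoints ↥(U ⊓ V : X.Opens)).Finite :=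
      genericPoints.finite TopologicalSpace.NoetherianSpace.finite_irreducibleComponents
    have hclg : closure (genericPoints ↥(U ⊓ V : X.Opens)) = Set.univ := genericPoints.closure
    have hi : Continuous (Subtype.val : ↥(U ⊓ V : X.Opens) → X) := continuous_subtype_val
    have h2 : ξ ∈ closure (((U ⊓ V : X.Opens) : Set X)) := by
      have := V.2.inter_closure (t := (U : Set X)) ⟨hξV, hcl⟩
      rwa [Set.inter_comm] at this
    have h3 : ((U ⊓ V : X.Opens) : Set X) ⊆
        Subtype.val '' (closure (genericPoints ↥(U ⊓ V : X.Opens))) := by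
      rw [hclg, Set.image_univ, Subtype.range_coe]
    have h1 : ξ ∈ closure ((Subtype.val : ↥(U ⊓ V : X.Opens) → X) ''
        genericPoints ↥(U ⊓ V : X.Opens)) :=
      closure_minimal (h3.trans (image_closure_subset_closure_image hi)) isClosed_closure h2
    have h4 : (Subtype.val : ↥(U ⊓ V : X.Opens) → X) '' genericPoints ↥(U ⊓ V : X.Opens) =
        ⋃ w ∈ genericPoints ↥(U ⊓ V : X.Opens), ({w.1} : Set X) := by
      ext y
      simp only [Set.mem_image, Set.mem_iUnion, Set.mem_singleton_iff, exists_prop]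
      constructor
      · rintro ⟨w, hw, rfl⟩; exact ⟨w, hw, rfl⟩
      · rintro ⟨w, hw, rfl⟩; exact ⟨w, hw, rfl⟩
    rw [h4, hfin.closure_biUnion] at h1
    simp only [Set.mem_iUnion, exists_prop] at h1
    obtain ⟨w, -, hw⟩ := h1
    exact ⟨w.1, w.2.1, specializes_iff_mem_closure.mpr hw⟩
  have hne : ξ ≠ η := fun h => hξ (h ▸ hηU)
  have hne0 := Groth.Agent.Lib.Helper8.LocFact.ringKrullDim_stalk_ne_zero_of_specializes_ne X hηξ hne
  have h0 : (0 : WithBot ℕ∞) ≤ ringKrullDim (X.presheaf.stalk ξ) := ringKrullDim_nonneg_of_nontrivial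
  apply le_antisymm hle
  have h1 : (0 : WithBot ℕ∞) < ringKrullDim (X.presheaf.stalk ξ) := lt_of_le_of_ne h0 (Ne.symm hne0)
  generalize ringKrullDim (X.presheaf.stalk ξ) = D at h1 ⊢
  induction D using WithBot.recBotCoe with
  | bot => exact absurd h1 (by simp)
  | coe a =>
    have h1' : (0 : ℕ∞) < a := by exact_mod_cast h1
    have : (1 : ℕ∞) ≤ a := Order.one_le_iff_pos.mpr h1'
    exact_mod_cast this

theorem exists_effCartier_compl (X : Scheme.{u}) [IsNoetherian X] (U : X.Opens) [IsAffineHom U.ι]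
    (hdense : Dense (U : Set X))
    (hufd : ∀ x : X, x ∉ U →
      IsDomain (X.presheaf.stalk x) ∧ UniqueFactorizationMonoid (X.presheaf.stalk x)) :
    ∃ D : X.IdealSheafData, BlowUp.IsEffCartierIdeal D ∧ (D.support : Set X) = (U : Set X)ᶜ := by
  let Z : Closeds X := ⟨(U : Set X)ᶜ, U.2.isClosed_compl⟩
  have hsupp : ((Scheme.IdealSheafData.vanishingIdeal Z).support : Set X) = (U : Set X)ᶜ := rfl
  generalize hD : Scheme.IdealSheafData.vanishingIdeal Z = D at hsupp
  haveI hred : IsReduced D.subscheme := by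
    rw [← hD]; exact Groth.Agent.Lib.Helper10.RedInd.isReduced_subscheme_vanishingIdeal Z
  haveI hLN : IsLocallyNoetherian D.subscheme :=
    LocallyOfFiniteType.isLocallyNoetherian D.subschemeι
  have hmem : ∀ x : X, x ∈ D.support ↔ x ∉ U := by
    intro x
    change x ∈ (D.support : Set X) ↔ _
    rw [hsupp]; rfl
  refine ⟨D, ?_, hsupp⟩
  apply Groth.Agent.Lib.Helper8.NoEmbCart.isEffCartier_of_noEmbedded_codim_one_ufd D
  · intro z hz z' hz'
    have hmin := Groth.Agent.Lib.Helper28.mem_minimalPrimes_of_mem_associatedPrimes_of_isReduced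
      (R := D.subscheme.presheaf.stalk z) hz
    have h0 : ringKrullDim (D.subscheme.presheaf.stalk z) = 0 := by
      rw [← IsLocalRing.maximalIdeal_height_eq_ringKrullDim, Ideal.height_eq_zero_iff.mpr hmin]
      rfl
    by_contra hne
    exact Groth.Agent.Lib.Helper8.LocFact.ringKrullDim_stalk_ne_zero_of_specializes_ne
      D.subscheme hz' (fun h => hne h.symm) h0
  · intro z hzmax
    have hzs : D.subschemeι z ∈ D.support := by
      have : D.subschemeι z ∈ Set.range D.subschemeι := ⟨z, rfl⟩
      rwa [D.range_subschemeι] at this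
    apply ringKrullDim_stalk_eq_one_of_isAffineHom X U (D.subschemeι z) ((hmem _).mp hzs)
    · intro y hy hspec
      have hyr : y ∈ Set.range D.subschemeι := by
        rw [D.range_subschemeι]; exact (hmem y).mpr hy
      obtain ⟨z', rfl⟩ := hyr
      have h1 : z' ⤳ z := D.subschemeι.isEmbedding.isInducing.specializes_iff.mp hspec
      rw [hzmax z' h1]
    · rw [hdense.closure_eq]; exact Set.mem_univ _
  · intro x hx
    exact hufd x ((hmem x).mp hx)

end Groth.Agent.Lib.Helper8.ComplCart
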