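/-
Helper library (helper8): a separated Noetherian scheme with factorial local rings has an ample
family of invertible modules (S4272).
-/
import Mathlib
import Groth.Prelude
import Groth.Agent.Lib.Helper8ComplCart
import Groth.Agent.Lib.Helper18Cart1
import Groth.Agent.Lib.R2H4InvExists
import Groth.Agent.Lib.R2H1CurveAffProj
import Groth.Agent.Lib.Helper23AmpleIso
import Groth.Agent.Lib.Helper23TensorUnit

set_option autoImplicit false
set_option linter.style.haveILetI false
universe u
open CategoryTheory CategoryTheory.Limits AlgebraicGeometry TopologicalSpace Opposite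

namespace Groth.Agent.Lib.Helper8AmpleFamily

/-- In a Noetherian scheme every point has a dense affine open neighbourhood. -/
theorem exists_dense_isAffineOpen_mem (X : Scheme.{u}) [NoetherianSpace X] (x : X) :
    ∃ U : X.Opens, IsAffineOpen U ∧ x ∈ U ∧ Dense (U : Set X) := by
  have hwf : WellFoundedGT X.Opens := (inferInstance : NoetherianSpace X)
  obtain ⟨U₀, hU₀, hxU₀, -⟩ := exists_isAffineOpen_mem_and_subset (x := x) (U := ⊤) trivial
  obtain ⟨U, ⟨hU, hxU⟩, hmax⟩ := hwf.wf.has_min {U : X.Opens | IsAffineOpen U ∧ x ∈ U}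
    ⟨U₀, hU₀, hxU₀⟩
  refine ⟨U, hU, hxU, ?_⟩
  rw [dense_iff_inter_open]
  intro O hO hne
  by_contra hcon
  rw [Set.not_nonempty_iff_eq_empty] at hcon
  obtain ⟨y, hy⟩ := hne
  obtain ⟨W, hW, hyW, hWO⟩ := exists_isAffineOpen_mem_and_subset (U := ⟨O, hO⟩) (x := y) hy
  have hdisj : Disjoint U W := by
    rw [← Opens.coe_disjoint, Set.disjoint_iff_inter_eq_empty]
    apply Set.eq_empty_of_subset_empty
    rintro z ⟨hzU, hzW⟩
    rw [← hcon]
    exact ⟨hWO hzW, hzU⟩
  have haff : IsAffineOpen (U ⊔ W) := hU.sup_of_disjoint hW hdisj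
  have hlt : U < U ⊔ W := by
    refine lt_of_le_of_ne le_sup_left fun h => ?_
    have hyU : y ∈ U := by rw [h]; exact Or.inr hyW
    have : y ∈ (O ∩ (U : Set X)) := ⟨hy, hyU⟩
    rw [hcon] at this
    exact this
  exact hmax (U ⊔ W) ⟨haff, Or.inl hxU⟩ hlt

/-- S4272 -/
theorem main (X : Scheme.{u}) [IsNoetherian X] [X.IsSeparated]
    (hfact : ∀ x : X, ∃ _ : IsDomain (X.presheaf.stalk x),
      UniqueFactorizationMonoid (X.presheaf.stalk x)) :
    MoreMor.HasAmpleFamily X := by
  refine ⟨inferInstance, fun x => ?_⟩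
  obtain ⟨V, hV, hxV, hVdense⟩ := exists_dense_isAffineOpen_mem X x
  haveI : IsAffineHom V.ι :=
    Groth.Agent.Lib.Helper8.ComplCart.isAffineHom_ι_of_inf V (fun W hW => hV.inf hW)
  obtain ⟨D, hD, hsupp⟩ := Groth.Agent.Lib.Helper8.ComplCart.exists_effCartier_compl X V hVdense
    (fun y _ => by obtain ⟨h1, h2⟩ := hfact y; exact ⟨h1, h2⟩)
  have hI : PicF.IsInvertible (ClSub.idealMod D) :=
    Groth.Agent.Helper18Cart.isInvertible_of_isEffCartier D hD
  obtain ⟨L, hL, ⟨e₀⟩⟩ := Groth.Agent.Lib.R2H4InvExists.exists_inverse (ClSub.idealMod D) hI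
  let e : CohB1.tensorMod L (ClSub.idealMod D) ≅ Coh.structureModule X :=
    Groth.Agent.Lib.R2H4TensorPows.tComm L (ClSub.idealMod D) ≪≫ e₀
  let s := Groth.Agent.Lib.R2H1.CurveAffProj.canonSec D L e
  have hgen : CohB1.genLocus L s = V := by
    ext y
    constructor
    · intro hy
      have := Groth.Agent.Lib.R2H1.CurveAffProj.notMem_support_of_mem_genLocus_canonSec D L hL e y hy
      by_contra hyV
      apply this
      change y ∈ (D.support : Set X)
      rw [hsupp]
      exact hyV
    · intro hy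
      apply Groth.Agent.Lib.R2H1.CurveAffProj.mem_genLocus_canonSec D L hL e y
      intro hyD
      have : y ∈ (D.support : Set X) := hyD
      rw [hsupp] at this
      exact this hy
  let u := Groth.Agent.Lib.Helper23.TensorUnit.unitTensorIso L
  refine ⟨L, 1, s ≫ u.inv, hL, le_rfl, ?_, ?_⟩
  · have := Groth.Agent.Lib.Helper23.AmpleIso.genLocus_comp_iso u.symm s
    change x ∈ CohB1.genLocus (CohB1.tensorMod (Coh.structureModule X) L) (s ≫ u.symm.hom)
    rw [this, hgen]
    exact hxV
  · have := Groth.Agent.Lib.Helper23.AmpleIso.genLocus_comp_iso u.symm s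
    change IsAffineOpen (CohB1.genLocus (CohB1.tensorMod (Coh.structureModule X) L) (s ≫ u.symm.hom))
    rw [this, hgen]
    exact hV

end Groth.Agent.Lib.Helper8AmpleFamily
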