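/-
Helper library (helper8): a quasi-compact locally Noetherian regular scheme with affine diagonal
has an ample family of invertible modules (S4271).
-/
import Mathlib
import Groth.Prelude
import Groth.Agent.Lib.Helper8AmpleFamily
import Groth.Agent.Lib.Helper8AB

set_option autoImplicit false
set_option linter.style.haveILetI false
universe u
open CategoryTheory CategoryTheory.Limits AlgebraicGeometry TopologicalSpace Opposite

namespace Groth.Agent.Lib.Helper8AmpleFamilyReg

open Groth.Agent.Lib

/-- variant of S4272 with affine diagonal in place of separatedness -/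
theorem main_of_affine_inter (X : Scheme.{u}) [IsNoetherian X]
    (hdiag : ∀ U V : X.Opens, IsAffineOpen U → IsAffineOpen V → IsAffineOpen (U ⊓ V))
    (hfact : ∀ x : X, ∃ _ : IsDomain (X.presheaf.stalk x),
      UniqueFactorizationMonoid (X.presheaf.stalk x)) :
    MoreMor.HasAmpleFamily X := by
  refine ⟨inferInstance, fun x => ?_⟩
  obtain ⟨V, hV, hxV, hVdense⟩ := Helper8AmpleFamily.exists_dense_isAffineOpen_mem X x
  haveI : IsAffineHom V.ι :=
    Groth.Agent.Lib.Helper8.ComplCart.isAffineHom_ι_of_inf V (fun W hW => hdiag V W hV hW)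
  obtain ⟨D, hD, hsupp⟩ := Groth.Agent.Lib.Helper8.ComplCart.exists_effCartier_compl X V hVdense
    (fun y _ => by obtain ⟨h1, h2⟩ := hfact y; exact ⟨h1, h2⟩)
  have hI : PicF.IsInvertible (ClSub.idealMod D) :=
    Groth.Agent.Helper18Cart.isInvertible_of_isEffCartier D hD
  obtain ⟨L, hL, ⟨e₀⟩⟩ := Groth.Agent.Lib.R2H4InvExists.exists_inverse (ClSub.idealMod D) hI
  let e : CohB1.tensorMod L (ClSub.idealMod D) ≅ Coh.structureModule X :=
    Groth.Agent.Lib.R2H4TensorPows.tComm L (ClSub.idealMod D) ≪≫ e₀
  let s := Groth.Agent.Lib.R2H1.CurveAffProj.canonSec D L e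
  have hgen : CohB1.genLocus L s = V := by
    ext y
    constructor
    · intro hy
      have := Groth.Agent.Lib.R2H1.CurveAffProj.notMem_support_of_mem_genLocus_canonSec D L hL e y hy
      by_contra hyV
      apply this
      change y ∈ (D.support : Set X)
      rw [hsupp]
      exact hyV
    · intro hy
      apply Groth.Agent.Lib.R2H1.CurveAffProj.mem_genLocus_canonSec D L hL e y
      intro hyD
      have : y ∈ (D.support : Set X) := hyD
      rw [hsupp] at this
      exact this hy
  let u := Groth.Agent.Lib.Helper23.TensorUnit.unitTensorIso L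
  refine ⟨L, 1, s ≫ u.inv, hL, le_rfl, ?_, ?_⟩
  · have := Groth.Agent.Lib.Helper23.AmpleIso.genLocus_comp_iso u.symm s
    change x ∈ CohB1.genLocus (CohB1.tensorMod (Coh.structureModule X) L) (s ≫ u.symm.hom)
    rw [this, hgen]
    exact hxV
  · have := Groth.Agent.Lib.Helper23.AmpleIso.genLocus_comp_iso u.symm s
    change IsAffineOpen (CohB1.genLocus (CohB1.tensorMod (Coh.structureModule X) L) (s ≫ u.symm.hom))
    rw [this, hgen]
    exact hV


/-- S4271 -/
theorem main (X : Scheme.{u}) [CompactSpace X] [IsLocallyNoetherian X]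
    (hreg : ∀ x : X, IsRegularLocalRing (X.presheaf.stalk x))
    (hdiag : ∀ U V : X.Opens, IsAffineOpen U → IsAffineOpen V → IsAffineOpen (U ⊓ V)) :
    MoreMor.HasAmpleFamily X := by
  haveI : IsNoetherian X := {}
  refine main_of_affine_inter X hdiag (fun x => ?_)
  haveI := hreg x
  haveI hd : IsDomain (X.presheaf.stalk x) := Helper5.isDomain_of_isRegularLocalRing _
  exact ⟨hd, Helper8.AB.ufd_of_isRegularLocalRing _⟩

end Groth.Agent.Lib.Helper8AmpleFamilyReg
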