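import Mathlib

/-!
# Sections of finite flat modules are detected at associated points (helper8)
-/

set_option autoImplicit false
universe u
open CategoryTheory

namespace Groth.Agent.Lib.Helper8AssDense

/-- transfer of "the maximal ideal is an associated prime of the ring" along a ring isomorphism -/
theorem maximalIdeal_mem_ass_of_ringEquiv {R R' : Type*} [CommRing R] [CommRing R'] [IsLocalRing R]
    [IsLocalRing R'] (e : R ≃+* R')
    (h : IsLocalRing.maximalIdeal R ∈ associatedPrimes R R) :
    IsLocalRing.maximalIdeal R' ∈ associatedPrimes R' R' := by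
  obtain ⟨hp, x, hx⟩ := h
  refine ⟨inferInstance, e x, ?_⟩
  ext r
  have h1 : r ∈ IsLocalRing.maximalIdeal R' ↔ e.symm r ∈ IsLocalRing.maximalIdeal R := by
    rw [IsLocalRing.mem_maximalIdeal, IsLocalRing.mem_maximalIdeal, mem_nonunits_iff, mem_nonunits_iff]
    exact not_congr (isUnit_map_iff e.symm r).symm
  rw [h1, hx, Ideal.mem_radical_iff, Ideal.mem_radical_iff]
  refine exists_congr fun n => ?_
  rw [Submodule.mem_colon_singleton, Submodule.mem_colon_singleton, Submodule.mem_bot, Submodule.mem_bot,
    smul_eq_mul, smul_eq_mul, ← map_pow]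
  constructor
  · intro h2
    have := congrArg e h2
    rwa [map_mul, RingEquiv.apply_symm_apply, map_zero] at this
  · intro h2
    apply e.injective
    rw [map_mul, RingEquiv.apply_symm_apply, map_zero]
    exact h2

theorem eq_zero_of_ass {A : Type*} [CommRing A] {B : Type*} [AddCommGroup B] [Module A B]
    [Module.Finite A B] [Module.Flat A B] (d : B)
    (H : ∀ (q : Ideal A) [q.IsPrime],
      IsLocalRing.maximalIdeal (Localization.AtPrime q) ∈
        associatedPrimes (Localization.AtPrime q) (Localization.AtPrime q) → ∃ a ∉ q, a • d = 0) :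
    d = 0 := by
  by_contra hd
  let I : Ideal A := LinearMap.ker (LinearMap.toSpanSingleton A B d)
  have hI : ∀ a, a ∈ I ↔ a • d = 0 := fun a => by
    simp [I, LinearMap.mem_ker, LinearMap.toSpanSingleton_apply]
  have hItop : I ≠ ⊤ := by
    intro h
    have : (1 : A) ∈ I := h ▸ Submodule.mem_top
    rw [hI, one_smul] at this
    exact hd this
  obtain ⟨q, hq⟩ := Ideal.nonempty_minimalPrimes hItop
  haveI : q.IsPrime := hq.1.1
  have hIq : I ≤ q := hq.1.2
  obtain ⟨a, haq, had⟩ := H q (by
    let Aq := Localization.AtPrime q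
    let Bq := LocalizedModule q.primeCompl B
    haveI : Module.Free Aq Bq := Module.free_of_flat_of_isLocalRing
    let d' : Bq := LocalizedModule.mkLinearMap q.primeCompl B d
    have hd' : d' ≠ 0 := by
      intro h0
      obtain ⟨c, hc⟩ := (IsLocalizedModule.eq_zero_iff q.primeCompl
        (LocalizedModule.mkLinearMap q.primeCompl B)).1 h0
      exact c.2 (hIq ((hI c.1).2 hc))
    let b := Module.Free.chooseBasis Aq Bq
    obtain ⟨j, hj⟩ : ∃ j, b.repr d' j ≠ 0 := by
      by_contra hall
      push_neg at hall
      apply hd'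
      rw [← b.repr.map_eq_zero_iff]
      exact Finsupp.ext hall
    refine ⟨inferInstance, b.repr d' j, ?_⟩
    -- elements of `I Aq` kill `d'`
    let J : Ideal Aq := LinearMap.ker (LinearMap.toSpanSingleton Aq Bq d')
    have hJ : ∀ x, x ∈ J ↔ x • d' = 0 := fun x => by
      simp [J, LinearMap.mem_ker, LinearMap.toSpanSingleton_apply]
    have hIJ : I.map (algebraMap A Aq) ≤ J := by
      rw [Ideal.map_le_iff_le_comap]
      intro a ha
      rw [Ideal.mem_comap, hJ, algebraMap_smul, ← map_smul, (hI a).1 ha, map_zero]
    have hrad : (I.map (algebraMap A Aq)).radical = IsLocalRing.maximalIdeal Aq := by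
      rw [IsLocalization.AtPrime.radical_map_of_mem_minimalPrimes (A := Aq) q I hq,
        IsLocalization.AtPrime.map_eq_maximalIdeal q Aq]
    ext r
    rw [Ideal.mem_radical_iff]
    constructor
    · intro hr
      rw [← hrad, Ideal.mem_radical_iff] at hr
      obtain ⟨n, hn⟩ := hr
      refine ⟨n, ?_⟩
      rw [Submodule.mem_colon_singleton, Submodule.mem_bot, smul_eq_mul]
      have h1 : r ^ n • d' = 0 := (hJ _).1 (hIJ hn)
      have h2 := congrArg (fun v => b.repr v j) h1
      simpa using h2
    · rintro ⟨n, hn⟩
      rw [Submodule.mem_colon_singleton, Submodule.mem_bot, smul_eq_mul] at hn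
      rw [IsLocalRing.mem_maximalIdeal, mem_nonunits_iff]
      intro hu
      apply hj
      have hu' : IsUnit (r ^ n) := hu.pow n
      exact (hu'.mul_right_eq_zero).1 hn)
  exact haq (hIq ((hI a).2 had))

end Groth.Agent.Lib.Helper8AssDense
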