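import Mathlib
import Groth.Agent.Lib.Helper8AssDense
import Groth.Agent.Lib.Helper2QCoh

/-!
# Morphisms of finite flat schemes agreeing over an open containing the associated points (helper8)
-/

set_option autoImplicit false
universe u
open CategoryTheory AlgebraicGeometry Opposite

namespace Groth.Agent.Lib.Helper8AssDense

variable {X Y : Scheme.{u}}

theorem appLE_eq_of_ι_comp_eq (φ ψ : X ⟶ Y) (U : Y.Opens) (W : X.Opens) (e : W ≤ φ ⁻¹ᵁ U)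
    (e' : W ≤ ψ ⁻¹ᵁ U) (h : W.ι ≫ φ = W.ι ≫ ψ) : φ.appLE U W e = ψ.appLE U W e' := by
  have h1 : φ.resLE U W e = ψ.resLE U W e' := by
    rw [← cancel_mono U.ι, Scheme.Hom.resLE_comp_ι, Scheme.Hom.resLE_comp_ι, h]
  have h2 : (φ.resLE U W e).appTop = (ψ.resLE U W e').appTop := by rw [h1]
  rw [Scheme.Hom.appTop, Scheme.Hom.appTop, Scheme.Hom.resLE_app_top, Scheme.Hom.resLE_app_top] at h2
  rwa [Iso.cancel_iso_hom_left, Iso.cancel_iso_inv_right] at h2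

theorem ι_comp_eq_of_appLE_eq (φ ψ : X ⟶ Y) (U : Y.Opens) (hU : IsAffineOpen U) (W : X.Opens)
    (e : W ≤ φ ⁻¹ᵁ U) (e' : W ≤ ψ ⁻¹ᵁ U) (h : φ.appLE U W e = ψ.appLE U W e') :
    W.ι ≫ φ = W.ι ≫ ψ := by
  haveI : IsAffine U := hU
  have h1 : φ.resLE U W e = ψ.resLE U W e' := by
    apply ext_of_isAffine
    rw [Scheme.Hom.appTop, Scheme.Hom.appTop, Scheme.Hom.resLE_app_top, Scheme.Hom.resLE_app_top, h]
  rw [← Scheme.Hom.resLE_comp_ι φ e, ← Scheme.Hom.resLE_comp_ι ψ e', h1]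

open Groth.Agent.Lib.Helper2.QCoh in
theorem hom_eq_of_restrict_eq (S G₁ G₂ : Scheme.{u}) (f₁ : G₁ ⟶ S) (f₂ : G₂ ⟶ S)
    [IsFinite f₁] [Flat f₁] [IsAffineHom f₂] (U : S.Opens)
    (hU : ∀ s : S, IsLocalRing.maximalIdeal (S.presheaf.stalk s) ∈
        associatedPrimes (S.presheaf.stalk s) (S.presheaf.stalk s) → s ∈ U)
    (φ ψ : G₁ ⟶ G₂) (hφ : φ ≫ f₂ = f₁) (hψ : ψ ≫ f₂ = f₁)
    (h : (f₁ ⁻¹ᵁ U).ι ≫ φ = (f₁ ⁻¹ᵁ U).ι ≫ ψ) : φ = ψ := by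
  apply Scheme.hom_ext_of_forall
  intro x
  obtain ⟨_, ⟨V, hV, rfl⟩, hxV, -⟩ :=
    S.isBasis_affineOpens.exists_subset_of_mem_open (Set.mem_univ (f₁ x)) isOpen_univ
  refine ⟨f₁ ⁻¹ᵁ V, hxV, ?_⟩
  have hU₁ : IsAffineOpen (f₁ ⁻¹ᵁ V) := hV.preimage f₁
  have hU₂ : IsAffineOpen (f₂ ⁻¹ᵁ V) := hV.preimage f₂
  have e : f₁ ⁻¹ᵁ V ≤ φ ⁻¹ᵁ (f₂ ⁻¹ᵁ V) := by
    rw [← Scheme.Hom.comp_preimage, hφ]
  have e' : f₁ ⁻¹ᵁ V ≤ ψ ⁻¹ᵁ (f₂ ⁻¹ᵁ V) := by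
    rw [← Scheme.Hom.comp_preimage, hψ]
  refine ι_comp_eq_of_appLE_eq φ ψ (f₂ ⁻¹ᵁ V) hU₂ (f₁ ⁻¹ᵁ V) e e' ?_
  ext b
  rw [← sub_eq_zero]
  letI : Algebra Γ(S, V) Γ(G₁, f₁ ⁻¹ᵁ V) := (f₁.app V).hom.toAlgebra
  haveI : Module.Finite Γ(S, V) Γ(G₁, f₁ ⁻¹ᵁ V) := f₁.finite_app V hV
  haveI : Module.Flat Γ(S, V) Γ(G₁, f₁ ⁻¹ᵁ V) := by
    have := f₁.flat_appLE hV hU₁ le_rfl
    rw [Scheme.Hom.appLE_eq_app] at this
    exact this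
  refine eq_zero_of_ass (A := Γ(S, V)) (B := Γ(G₁, f₁ ⁻¹ᵁ V)) _ ?_
  intro q hqp hass
  let y : PrimeSpectrum Γ(S, V) := ⟨q, hqp⟩
  have hsV : hV.fromSpec y ∈ V := fromSpec_mem hV y
  letI := TopCat.Presheaf.algebra_section_stalk S.presheaf ⟨hV.fromSpec y, hsV⟩
  haveI : IsLocalization.AtPrime (S.presheaf.stalk (hV.fromSpec y)) q :=
    hV.isLocalization_stalk' y hsV
  let eq := IsLocalization.algEquiv q.primeCompl (Localization.AtPrime q)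
    (S.presheaf.stalk (hV.fromSpec y))
  have hsU : hV.fromSpec y ∈ U := hU _ (maximalIdeal_mem_ass_of_ringEquiv eq.toRingEquiv hass)
  obtain ⟨a, haUV, hsa⟩ := hV.exists_basicOpen_le (V := U ⊓ V) ⟨hV.fromSpec y, hsU, hsV⟩ hsV
  have haq : a ∉ q := (mem_basicOpen_fromSpec_iff hV y a).1 hsa
  have hW : f₁ ⁻¹ᵁ (S.basicOpen a) = G₁.basicOpen (f₁.app V a) := Scheme.preimage_basicOpen f₁ a
  have hWU : G₁.basicOpen (f₁.app V a) ≤ f₁ ⁻¹ᵁ U := by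
    rw [← hW]
    exact fun z hz => (haUV hz).1
  have hWV : G₁.basicOpen (f₁.app V a) ≤ f₁ ⁻¹ᵁ V := G₁.basicOpen_le _
  have hιW : (G₁.basicOpen (f₁.app V a)).ι ≫ φ = (G₁.basicOpen (f₁.app V a)).ι ≫ ψ := by
    rw [← Scheme.homOfLE_ι G₁ hWU, Category.assoc, Category.assoc, h]
  have hres := appLE_eq_of_ι_comp_eq φ ψ (f₂ ⁻¹ᵁ V) (G₁.basicOpen (f₁.app V a)) (hWV.trans e)
    (hWV.trans e') hιW
  have hd : (φ.appLE (f₂ ⁻¹ᵁ V) (f₁ ⁻¹ᵁ V) e b - ψ.appLE (f₂ ⁻¹ᵁ V) (f₁ ⁻¹ᵁ V) e' b) |_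
      (G₁.basicOpen (f₁.app V a)) = 0 := by
    change (G₁.presheaf.map (homOfLE hWV).op) _ = 0
    rw [map_sub, sub_eq_zero, ← ConcreteCategory.comp_apply, ← ConcreteCategory.comp_apply,
      Scheme.Hom.appLE_map, Scheme.Hom.appLE_map]
    exact congrArg (fun m => m b) hres
  obtain ⟨n, hn⟩ := exists_pow_mul_eq_zero_of_res_basicOpen_eq_zero_of_isAffineOpen G₁ hU₁ _
    (f₁.app V a) hd
  refine ⟨a ^ n, fun h' => haq (hqp.mem_of_pow_mem n h'), ?_⟩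
  rw [Algebra.smul_def, RingHom.algebraMap_toAlgebra, map_pow]
  exact hn

end Groth.Agent.Lib.Helper8AssDense
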