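import Mathlib
import Groth.Prelude
import Groth.Agent.Lib.Helper8GeomQuotSep
import Groth.Agent.Lib.Helper12Cart

set_option autoImplicit false

/-!
# Categorical quotients of a balanced product: `(G ×^H Z) // G ≅ Z // H`
-/

universe u

open CategoryTheory CategoryTheory.Limits MonoidalCategory CartesianMonoidalCategory MonObj GrpObj
  AlgebraicGeometry

namespace Groth.Agent.Lib.Helper8BalProd

open Groth.Agent.Lib.Helper8GeomQuotSep

section Sections

/-- a morphism with sections over the members of an fppf covering is an effective epimorphism. -/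
theorem effectiveEpi_of_local_sections {A B : Scheme.{u}} (f : A ⟶ B)
    (hf : ∃ R ∈ Scheme.fppfPrecoverage B, ∀ ⦃V : Scheme.{u}⦄ (g : V ⟶ B), R g →
      ∃ l : V ⟶ A, l ≫ f = g) : EffectiveEpi f := by
  obtain ⟨R, hR, hl⟩ := hf
  rw [← Sieve.effectiveEpimorphic_singleton,
    Presieve.EffectiveEpimorphic.iff_forall_isSheafFor_yoneda]
  intro Z
  refine (GrothendieckTopology.Subcanonical.isSheaf_of_isRepresentable
    (J := Scheme.fppfTopology) (yoneda.obj Z)).isSheafFor _ ?_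
  refine Scheme.fppfTopology.superset_covering ?_ (Precoverage.generate_mem_toGrothendieck hR)
  rw [Sieve.generate_le_iff]
  intro V g hg
  obtain ⟨l, hl'⟩ := hl g hg
  exact ⟨_, l, f, ⟨⟩, hl'⟩

/-- local sections are stable under base change. -/
theorem local_sections_of_isPullback {A B A' B' : Scheme.{u}} {f' : A' ⟶ B'} {g' : A' ⟶ A}
    {g : B' ⟶ B} {f : A ⟶ B} (hpb : IsPullback f' g' g f)
    (hf : ∃ R ∈ Scheme.fppfPrecoverage B, ∀ ⦃V : Scheme.{u}⦄ (v : V ⟶ B), R v →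
      ∃ l : V ⟶ A, l ≫ f = v) :
    ∃ R' ∈ Scheme.fppfPrecoverage B', ∀ ⦃V : Scheme.{u}⦄ (v : V ⟶ B'), R' v →
      ∃ l : V ⟶ A', l ≫ f' = v := by
  obtain ⟨R, hR, hl⟩ := hf
  obtain ⟨I, Z, φ, rfl⟩ := Presieve.exists_eq_ofArrows R
  refine ⟨Presieve.ofArrows (fun i => pullback g (φ i)) (fun i => pullback.fst g (φ i)),
    Precoverage.mem_coverings_of_isPullback φ hR g (fun i => pullback.fst g (φ i))
      (fun i => pullback.snd g (φ i)) (fun i => IsPullback.of_hasPullback g (φ i)), ?_⟩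
  rintro V v ⟨i⟩
  obtain ⟨l, hl'⟩ := hl (φ i) ⟨i⟩
  refine ⟨hpb.lift (pullback.fst g (φ i)) (pullback.snd g (φ i) ≫ l) ?_, hpb.lift_fst _ _ _⟩
  rw [Category.assoc, hl', pullback.condition]

end Sections

section BalProd

variable {S : Scheme.{u}} {G H : Over S} [GrpObj G] [GrpObj H]

/-- S19679 (general form). -/
theorem exists_iso_catQuot (i : H ⟶ G) [IsMonHom i] {Z Y P Q : Over S}
    (aZ : AlgGrp.Action H Z) (aY : AlgGrp.Action G Y) (j : G ⊗ Z ⟶ Y)
    (hY : ChGrp.IsBalProd Scheme.fppfPrecoverage i aZ aY j)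
    (πZ : Z ⟶ P) (hP : GIT.IsCatQuot aZ πZ) (πY : Y ⟶ Q) (hQ : GIT.IsCatQuot aY πY) :
    ∃ (φ : P ⟶ Q) (χ : Q ⟶ P), φ ≫ χ = 𝟙 P ∧ χ ≫ φ = 𝟙 Q ∧
      πZ ≫ φ = lift (toUnit Z ≫ η[G]) (𝟙 Z) ≫ j ≫ πY ∧ j ≫ πY ≫ χ = snd G Z ≫ πZ := by
  obtain ⟨hequiv', hcart, hloc⟩ := hY
  have hequiv : ((NonAbH1.trivialAction G).prod (AlgGrp.Action.trivial G Z)).act ≫ j =
      (G ◁ j) ≫ aY.act := hequiv'
  have hinvZ : aZ.act ≫ πZ = snd H Z ≫ πZ := hP.1
  have hinvY : aY.act ≫ πY = snd G Y ≫ πY := hQ.1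
  -- point forms
  have hE : ∀ (T : Over S) (g g' : T ⟶ G) (z : T ⟶ Z),
      lift (g * g') z ≫ j = lift g (lift g' z ≫ j) ≫ aY.act := by
    intro T g g' z
    have h1 : lift g (lift g' z) ≫
        ((NonAbH1.trivialAction G).prod (AlgGrp.Action.trivial G Z)).act ≫ j =
        lift g (lift g' z) ≫ (G ◁ j) ≫ aY.act := by rw [hequiv]
    rw [← Category.assoc, AlgGrp.Action.lift_prod_act, AlgGrp.Action.lift_trivial_act,
      ← Category.assoc, lift_whiskerLeft] at h1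
    have h2 : lift g g' ≫ (NonAbH1.trivialAction G).act = g * g' := (Hom.mul_def g g').symm
    rw [h2] at h1
    exact h1
  have hT : ∀ (T : Over S) (h : T ⟶ H) (g : T ⟶ G) (z : T ⟶ Z),
      lift (g * (h ≫ i)⁻¹) (lift h z ≫ aZ.act) ≫ j = lift g z ≫ j := by
    intro T h g z
    have h1 : lift h (lift g z) ≫ (ChGrp.twist i aZ).act ≫ j =
        lift h (lift g z) ≫ snd H (G ⊗ Z) ≫ j := by rw [hcart.w]
    rw [← Category.assoc, ChGrp.lift_twist_act, ← Category.assoc, lift_snd] at h1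
    exact h1
  have hIY : ∀ (T : Over S) (g : T ⟶ G) (y : T ⟶ Y), lift g y ≫ aY.act ≫ πY = y ≫ πY := by
    intro T g y
    rw [hinvY, ← Category.assoc, lift_snd]
  have hIZ : ∀ (T : Over S) (h : T ⟶ H) (z : T ⟶ Z), lift h z ≫ aZ.act ≫ πZ = z ≫ πZ := by
    intro T h z
    rw [hinvZ, ← Category.assoc, lift_snd]
  have heZ : ∀ (T : Over S) (z : T ⟶ Z),
      z ≫ lift (toUnit Z ≫ η[G]) (𝟙 Z) = lift (1 : T ⟶ G) z := by
    intro T z
    rw [comp_lift, Category.comp_id, ← Category.assoc, comp_toUnit, ← Hom.one_def]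
  -- the key invariance on points: `πY (j (g, z)) = πY (j (1, z))`
  have hkey : ∀ (T : Over S) (g : T ⟶ G) (z : T ⟶ Z),
      lift g z ≫ j ≫ πY = lift (1 : T ⟶ G) z ≫ j ≫ πY := by
    intro T g z
    have h1 := hE T g 1 z
    rw [_root_.mul_one] at h1
    rw [← Category.assoc, h1, Category.assoc, hIY, Category.assoc]
  -- Step 1: the map `Z ⟶ Q`
  have hψinv : GIT.IsInvariant aZ (lift (toUnit Z ≫ η[G]) (𝟙 Z) ≫ j ≫ πY) := by
    show aZ.act ≫ lift (toUnit Z ≫ η[G]) (𝟙 Z) ≫ j ≫ πY =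
      snd H Z ≫ lift (toUnit Z ≫ η[G]) (𝟙 Z) ≫ j ≫ πY
    apply AlgGrp.Action.hom_ext_lift₂
    intro T h z
    have h1 := hT T h (h ≫ i) z
    rw [_root_.mul_inv_cancel] at h1
    calc lift h z ≫ aZ.act ≫ lift (toUnit Z ≫ η[G]) (𝟙 Z) ≫ j ≫ πY
        = ((lift h z ≫ aZ.act) ≫ lift (toUnit Z ≫ η[G]) (𝟙 Z)) ≫ j ≫ πY := by
          simp only [Category.assoc]
      _ = (lift (1 : T ⟶ G) (lift h z ≫ aZ.act) ≫ j) ≫ πY := by
          rw [heZ, Category.assoc]
      _ = (lift (h ≫ i) z ≫ j) ≫ πY := by rw [h1]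
      _ = lift (1 : T ⟶ G) z ≫ j ≫ πY := by rw [Category.assoc, hkey]
      _ = lift h z ≫ snd H Z ≫ lift (toUnit Z ≫ η[G]) (𝟙 Z) ≫ j ≫ πY := by
          rw [← Category.assoc (lift h z), lift_snd, ← Category.assoc z, heZ]
  obtain ⟨φ, hφ, -⟩ := hP.2 Q _ hψinv
  -- Step 3: descend `snd ≫ πZ` along `j`
  have hm : (ChGrp.twist i aZ).act ≫ snd G Z ≫ πZ = snd H (G ⊗ Z) ≫ snd G Z ≫ πZ := by
    apply AlgGrp.Action.hom_ext_lift₂
    intro T h p
    have hp : lift (p ≫ fst G Z) (p ≫ snd G Z) = p := by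
      rw [← comp_lift, lift_fst_snd, Category.comp_id]
    have hL : lift h (lift (p ≫ fst G Z) (p ≫ snd G Z)) ≫ (ChGrp.twist i aZ).act ≫
        snd G Z ≫ πZ = (p ≫ snd G Z) ≫ πZ := by
      rw [← Category.assoc, ChGrp.lift_twist_act, ← Category.assoc, lift_snd, Category.assoc, hIZ]
    have hR : lift h (lift (p ≫ fst G Z) (p ≫ snd G Z)) ≫ snd H (G ⊗ Z) ≫ snd G Z ≫ πZ =
        (p ≫ snd G Z) ≫ πZ := by
      rw [← Category.assoc, lift_snd, ← Category.assoc, lift_snd]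
    rw [← hp]
    exact hL.trans hR.symm
  haveI : EffectiveEpi j.left := effectiveEpi_of_local_sections j.left hloc
  obtain ⟨χ₀, hχ₀⟩ := Groth.Agent.Lib.Helper12.exists_desc_of_isPullback j hcart
    (snd G Z ≫ πZ) hm
  haveI hepij : Epi j := by
    have : Epi ((Over.forget S).map j) := (inferInstance : Epi j.left)
    exact (Over.forget S).epi_of_epi_map this
  -- Step 4: `χ₀` is invariant
  haveI : EffectiveEpi (G ◁ j).left :=
    effectiveEpi_of_local_sections _ (local_sections_of_isPullback (isPullback_whiskerLeft G j) hloc)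
  haveI hepiGj : Epi (G ◁ j) := by
    have : Epi ((Over.forget S).map (G ◁ j)) := (inferInstance : Epi (G ◁ j).left)
    exact (Over.forget S).epi_of_epi_map this
  have hχ₀inv : GIT.IsInvariant aY χ₀ := by
    show aY.act ≫ χ₀ = snd G Y ≫ χ₀
    rw [← cancel_epi (G ◁ j), ← Category.assoc, ← hequiv, Category.assoc, hχ₀,
      ← Category.assoc (G ◁ j), whiskerLeft_snd, Category.assoc, hχ₀]
    apply AlgGrp.Action.hom_ext_lift₂
    intro T g p
    have hp : lift (p ≫ fst G Z) (p ≫ snd G Z) = p := by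
      rw [← comp_lift, lift_fst_snd, Category.comp_id]
    rw [← hp, ← Category.assoc, AlgGrp.Action.lift_prod_act, AlgGrp.Action.lift_trivial_act,
      ← Category.assoc, lift_snd, ← Category.assoc, lift_snd, ← Category.assoc, lift_snd]
  obtain ⟨χ, hχ, -⟩ := hQ.2 P χ₀ hχ₀inv
  have h4 : j ≫ πY ≫ χ = snd G Z ≫ πZ := by rw [hχ, hχ₀]
  refine ⟨φ, χ, ?_, ?_, hφ, h4⟩
  · -- φ ≫ χ = 𝟙
    obtain ⟨u, -, hu⟩ := hP.2 P πZ hP.1
    have h1 : πZ ≫ φ ≫ χ = πZ := by
      rw [← Category.assoc, hφ, Category.assoc, Category.assoc, h4, ← Category.assoc, lift_snd,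
        Category.id_comp]
    rw [hu (φ ≫ χ) h1, hu (𝟙 P) (Category.comp_id _)]
  · -- χ ≫ φ = 𝟙
    obtain ⟨u, -, hu⟩ := hQ.2 Q πY hQ.1
    have h2 : χ₀ ≫ φ = πY := by
      rw [← cancel_epi j, ← Category.assoc, hχ₀, Category.assoc, hφ]
      apply AlgGrp.Action.hom_ext_lift₂
      intro T g z
      rw [← Category.assoc, lift_snd, ← Category.assoc, heZ]
      exact (hkey T g z).symm
    have h1 : πY ≫ χ ≫ φ = πY := by rw [← Category.assoc, hχ, h2]
    rw [hu (χ ≫ φ) h1, hu (𝟙 Q) (Category.comp_id _)]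

end BalProd

end Groth.Agent.Lib.Helper8BalProd
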