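import Mathlib
import Groth.Prelude
import Groth.Agent.Lib.Helper8ExactSeq

set_option autoImplicit false

/-!
# Fixed loci in balanced products (S19099), descent of closed immersions along fppf coverings
-/

universe u

open CategoryTheory CategoryTheory.Limits MonoidalCategory CartesianMonoidalCategory MonObj GrpObj
  AlgebraicGeometry

namespace Groth.Agent.Lib.Helper8BalProdFix

open Groth.Agent.Lib.Helper8ExactSeq

section FppfLocal

/-- a property of morphisms that is Zariski-local on the target and descends along fppf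
coverings by a single morphism can be checked on the members of an fppf covering family. -/
theorem of_fppf_cover (P : MorphismProperty Scheme.{u}) [IsZariskiLocalAtTarget P]
    [P.DescendsAlong (@Surjective ⊓ @Flat ⊓ @LocallyOfFinitePresentation)]
    {X Y : Scheme.{u}} (f : X ⟶ Y) (R : Presieve Y) (hR : R ∈ Scheme.fppfPrecoverage Y)
    (h : ∀ ⦃V : Scheme.{u}⦄ (φ : V ⟶ Y), R φ → P (pullback.snd f φ)) : P f := by
  have hR' : R ∈ Scheme.precoverage (@Flat ⊓ @LocallyOfFinitePresentation) Y := hR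
  obtain ⟨𝒰₀, rfl⟩ := (Precoverage.mem_iff_exists_zeroHypercover).mp hR'
  obtain ⟨𝒰, h𝒰⟩ : ∃ 𝒰 : Scheme.Cover.{u} (Scheme.precoverage
      (@Flat ⊓ @LocallyOfFinitePresentation)) Y, ∀ i, P (pullback.snd f (𝒰.f i)) :=
    ⟨Scheme.Cover.ulift 𝒰₀, fun i => h _ ⟨_⟩⟩
  obtain ⟨g, hg⟩ : ∃ g : (∐ 𝒰.X) ⟶ Y, g = Sigma.desc 𝒰.f := ⟨_, rfl⟩
  have hιg : ∀ i, Sigma.ι 𝒰.X i ≫ g = 𝒰.f i := fun i => by rw [hg, Sigma.ι_desc]
  have hgP : (@Surjective ⊓ @Flat ⊓ @LocallyOfFinitePresentation : MorphismProperty Scheme) g := by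
    have h1 : (@Flat ⊓ @LocallyOfFinitePresentation : MorphismProperty Scheme) g := by
      rw [hg]
      exact IsZariskiLocalAtSource.sigmaDesc 𝒰.map_prop
    refine ⟨⟨⟨fun y => ?_⟩, h1.1⟩, h1.2⟩
    obtain ⟨i, x, rfl⟩ := 𝒰.exists_eq y
    exact ⟨Sigma.ι 𝒰.X i x, by rw [← Scheme.Hom.comp_apply, hιg]⟩
  refine MorphismProperty.of_pullback_snd_of_descendsAlong
    (Q := (@Surjective ⊓ @Flat ⊓ @LocallyOfFinitePresentation : MorphismProperty Scheme)) hgP ?_
  refine IsZariskiLocalAtTarget.of_openCover (sigmaOpenCover 𝒰.X) ?_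
  intro i
  show P (pullback.snd (pullback.snd f g) (Sigma.ι 𝒰.X i))
  have hpaste : IsPullback
      (pullback.fst (pullback.snd f g) (Sigma.ι 𝒰.X i) ≫ pullback.fst f g)
      (pullback.snd (pullback.snd f g) (Sigma.ι 𝒰.X i)) f (Sigma.ι 𝒰.X i ≫ g) :=
    (IsPullback.of_hasPullback (pullback.snd f g) (Sigma.ι 𝒰.X i)).paste_horiz
      (IsPullback.of_hasPullback f g)
  rw [hιg] at hpaste
  rw [← hpaste.isoPullback_hom_snd, P.cancel_left_of_respectsIso]
  exact h𝒰 i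

/-- closed immersions can be checked on the members of an fppf covering family, for
monomorphisms. -/
theorem isClosedImmersion_of_fppf_cover {X Y : Scheme.{u}} (f : X ⟶ Y) [Mono f]
    (R : Presieve Y) (hR : R ∈ Scheme.fppfPrecoverage Y)
    (h : ∀ ⦃V : Scheme.{u}⦄ (φ : V ⟶ Y), R φ → IsClosedImmersion (pullback.snd f φ)) :
    IsClosedImmersion f := by
  rw [IsClosedImmersion.iff_isProper_and_mono]
  refine ⟨?_, inferInstance⟩
  haveI : UniversallyClosed f := of_fppf_cover @UniversallyClosed f R hR (fun V φ hφ => by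
    haveI := h φ hφ
    infer_instance)
  haveI : LocallyOfFiniteType f := of_fppf_cover @LocallyOfFiniteType f R hR (fun V φ hφ => by
    haveI := h φ hφ
    infer_instance)
  exact {}

end FppfLocal

section Lift

variable {S : Scheme.{u}} {K : Precoverage Scheme.{u}} [K.IsStableUnderBaseChange]

/-- points lift locally along a morphism with local sections. -/
theorem Loc.exists_lift {A B : Over S} {f : A ⟶ B} (hf : Loc K f.left) {T : Over S} (y : T ⟶ B) :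
    ∃ (T' : Over S) (π : T' ⟶ T) (p : T' ⟶ A), Loc K π.left ∧ p ≫ f = π ≫ y :=
  ⟨_, pullback.fst y f, pullback.snd y f,
    Loc.of_isPullbackO (IsPullback.of_hasPullback y f) hf, pullback.condition.symm⟩

end Lift

section BalProd

variable {S : Scheme.{u}} {K : Precoverage Scheme.{u}} {G H : Over S} [GrpObj G] [GrpObj H]
  {i : H ⟶ G} [IsMonHom i] {Z Y : Over S} {aZ : AlgGrp.Action H Z} {aY : AlgGrp.Action G Y}
  {j : G ⊗ Z ⟶ Y}

theorem bp1 (hY : ChGrp.IsBalProd K i aZ aY j) {T : Over S} (g g' : T ⟶ G) (z : T ⟶ Z) :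
    lift (g * g') z ≫ j = lift g (lift g' z ≫ j) ≫ aY.act := by
  have hequiv : ((NonAbH1.trivialAction G).prod (AlgGrp.Action.trivial G Z)).act ≫ j =
      (G ◁ j) ≫ aY.act := hY.1
  have h1 : lift g (lift g' z) ≫
      ((NonAbH1.trivialAction G).prod (AlgGrp.Action.trivial G Z)).act ≫ j =
      lift g (lift g' z) ≫ (G ◁ j) ≫ aY.act := by rw [hequiv]
  rw [← Category.assoc, AlgGrp.Action.lift_prod_act, AlgGrp.Action.lift_trivial_act,
    ← Category.assoc, lift_whiskerLeft] at h1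
  have h2 : lift g g' ≫ (NonAbH1.trivialAction G).act = g * g' := (Hom.mul_def g g').symm
  rw [h2] at h1
  exact h1

theorem bp2 (hY : ChGrp.IsBalProd K i aZ aY j) {T : Over S} (h : T ⟶ H) (g : T ⟶ G)
    (z : T ⟶ Z) : lift (g * (h ≫ i)⁻¹) (lift h z ≫ aZ.act) ≫ j = lift g z ≫ j := by
  have h1 : lift h (lift g z) ≫ (ChGrp.twist i aZ).act ≫ j =
      lift h (lift g z) ≫ snd H (G ⊗ Z) ≫ j := by rw [hY.2.1.w]
  rw [← Category.assoc, ChGrp.lift_twist_act, ← Category.assoc, lift_snd] at h1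
  exact h1

theorem bp3 (hY : ChGrp.IsBalProd K i aZ aY j) {T : Over S} (g₁ g₂ : T ⟶ G) (z₁ z₂ : T ⟶ Z)
    (heq : lift g₁ z₁ ≫ j = lift g₂ z₂ ≫ j) :
    ∃ h : T ⟶ H, g₁ = g₂ * (h ≫ i)⁻¹ ∧ z₁ = lift h z₂ ≫ aZ.act := by
  have hcart := hY.2.1
  obtain ⟨l, hl1, hl2⟩ : ∃ l : T ⟶ H ⊗ (G ⊗ Z), l ≫ (ChGrp.twist i aZ).act = lift g₁ z₁ ∧
      l ≫ snd H (G ⊗ Z) = lift g₂ z₂ :=
    ⟨hcart.lift _ _ heq, hcart.lift_fst _ _ _, hcart.lift_snd _ _ _⟩
  have hl : l = lift (l ≫ fst H (G ⊗ Z)) (lift g₂ z₂) := by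
    apply CartesianMonoidalCategory.hom_ext
    · rw [lift_fst]
    · rw [lift_snd, hl2]
  rw [hl, ChGrp.lift_twist_act] at hl1
  refine ⟨l ≫ fst H (G ⊗ Z), ?_, ?_⟩
  · have := congrArg (fun f => f ≫ fst G Z) hl1
    simpa only [lift_fst] using this.symm
  · have := congrArg (fun f => f ≫ snd G Z) hl1
    simpa only [lift_snd] using this.symm

end BalProd

section Main

variable {S : Scheme.{u}} {K : Precoverage Scheme.{u}} [K.toGrothendieck.Subcanonical]
  [K.IsStableUnderBaseChange]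

/-- S19099, the categorical part. -/
theorem main19099 {Q G X Xh Y Y' : Over S} [GrpObj Q] [GrpObj G]
    (i : G ⟶ Q) [IsMonHom i] [Mono i]
    (h : 𝟙_ (Over S) ⟶ G)
    (hcent : ∀ (T : Over S) (q : T ⟶ Q), q * (toUnit T ≫ h ≫ i) = (toUnit T ≫ h ≫ i) * q)
    (a : AlgGrp.Action G X)
    (incl : Xh ⟶ X) [Mono incl]
    (hXh : ∀ (T : Over S) (x : T ⟶ X),
      (∃ y : T ⟶ Xh, y ≫ incl = x) ↔ lift (toUnit T ≫ h) x ≫ a.act = x)
    (aXh : AlgGrp.Action G Xh) (hincl : AlgGrp.Action.IsEquivariant aXh a incl)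
    (aY : AlgGrp.Action Q Y) (j : Q ⊗ X ⟶ Y) (hY : ChGrp.IsBalProd K i a aY j)
    (aY' : AlgGrp.Action Q Y') (j' : Q ⊗ Xh ⟶ Y') (hY' : ChGrp.IsBalProd K i aXh aY' j')
    (m : Y' ⟶ Y) (hm : j' ≫ m = (Q ◁ incl) ≫ j) :
    Mono m ∧
      (∀ (T : Over S) (y : T ⟶ Y),
        (∃ y' : T ⟶ Y', y' ≫ m = y) ↔ lift (toUnit T ≫ h ≫ i) y ≫ aY.act = y) ∧
      IsPullback j' (Q ◁ incl) m j := by
  have hloc : Loc K j.left := hY.2.2
  have hloc' : Loc K j'.left := hY'.2.2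
  have hm' : ∀ (T : Over S) (q : T ⟶ Q) (x : T ⟶ Xh),
      (lift q x ≫ j') ≫ m = lift q (x ≫ incl) ≫ j := by
    intro T q x
    rw [Category.assoc, hm, ← Category.assoc, lift_whiskerLeft]
  have hincl' : ∀ (T : Over S) (g : T ⟶ G) (x : T ⟶ Xh),
      (lift g x ≫ aXh.act) ≫ incl = lift g (x ≫ incl) ≫ a.act := by
    intro T g x
    have h1 : aXh.act ≫ incl = (G ◁ incl) ≫ a.act := hincl
    rw [Category.assoc, h1, ← Category.assoc, lift_whiskerLeft]
  have hnat : ∀ {T T' : Over S} (π : T' ⟶ T), π ≫ toUnit T ≫ h ≫ i = toUnit T' ≫ h ≫ i := by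
    intro T T' π
    rw [← Category.assoc]
    congr 1
    exact toUnit_unique _ _
  have hpQX : ∀ (T : Over S) (p : T ⟶ Q ⊗ X), p = lift (p ≫ fst Q X) (p ≫ snd Q X) := by
    intro T p
    rw [← comp_lift, lift_fst_snd, Category.comp_id]
  have hpQXh : ∀ (T : Over S) (p : T ⟶ Q ⊗ Xh), p = lift (p ≫ fst Q Xh) (p ≫ snd Q Xh) := by
    intro T p
    rw [← comp_lift, lift_fst_snd, Category.comp_id]
  -- the key equivalence
  have keyA : ∀ (T : Over S) (q : T ⟶ Q) (x : T ⟶ X),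
      lift (toUnit T ≫ h ≫ i) (lift q x ≫ j) ≫ aY.act = lift q x ≫ j ↔
        lift (toUnit T ≫ h) x ≫ a.act = x := by
    intro T q x
    have e0 : lift (toUnit T ≫ h ≫ i) (lift q x ≫ j) ≫ aY.act =
        lift (q * (toUnit T ≫ h ≫ i)) x ≫ j := by
      rw [← bp1 hY, ← hcent T q]
    constructor
    · intro hfixY
      rw [e0] at hfixY
      obtain ⟨g, hg1, hg2⟩ := bp3 hY _ _ _ _ hfixY
      have h1 : toUnit T ≫ h ≫ i = (g ≫ i)⁻¹ := mul_left_cancel hg1
      have h2 : (toUnit T ≫ h) ≫ i = g⁻¹ ≫ i := by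
        rw [GrpObj.inv_comp, Category.assoc, h1]
      have h3 : toUnit T ≫ h = g⁻¹ := (cancel_mono i).mp h2
      rw [h3]
      conv_lhs => rw [hg2]
      rw [← AlgGrp.Action.lift_mul_act, inv_mul_cancel, AlgGrp.Action.lift_one_act]
    · intro hfix
      have hfix' : lift (toUnit T ≫ h)⁻¹ x ≫ a.act = x := by
        calc lift (toUnit T ≫ h)⁻¹ x ≫ a.act
            = lift (toUnit T ≫ h)⁻¹ (lift (toUnit T ≫ h) x ≫ a.act) ≫ a.act := by rw [hfix]
          _ = x := by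
              rw [← AlgGrp.Action.lift_mul_act, inv_mul_cancel, AlgGrp.Action.lift_one_act]
      have h1 := bp2 hY (toUnit T ≫ h)⁻¹ q x
      rw [hfix', GrpObj.inv_comp, _root_.inv_inv, Category.assoc] at h1
      rw [e0]
      exact h1
  -- `m` is a monomorphism
  have hmono : Mono m := by
    constructor
    intro T y₁ y₂ hy
    obtain ⟨T₁, π₁, p₁, hπ₁, hp₁⟩ := Loc.exists_lift hloc' y₁
    obtain ⟨T₂, π₂, p₂, hπ₂, hp₂⟩ := Loc.exists_lift hloc' (π₁ ≫ y₂)
    haveI := hπ₁.epi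
    haveI := hπ₂.epi
    rw [← cancel_epi π₁, ← cancel_epi π₂]
    obtain ⟨q₁, x₁, hqx₁⟩ : ∃ q₁ x₁, π₂ ≫ p₁ = lift q₁ x₁ := ⟨_, _, hpQXh _ _⟩
    obtain ⟨q₂, x₂, rfl⟩ : ∃ q₂ x₂, p₂ = lift q₂ x₂ := ⟨_, _, hpQXh _ _⟩
    have e1 : lift q₁ x₁ ≫ j' = π₂ ≫ π₁ ≫ y₁ := by
      rw [← hqx₁, Category.assoc, hp₁]
    have h1 : lift q₁ (x₁ ≫ incl) ≫ j = lift q₂ (x₂ ≫ incl) ≫ j := by
      rw [← hm', ← hm', e1, hp₂]
      simp only [Category.assoc]
      rw [hy]
    obtain ⟨g, hg1, hg2⟩ := bp3 hY _ _ _ _ h1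
    have hx : x₁ = lift g x₂ ≫ aXh.act := by
      rw [← cancel_mono incl, hincl', hg2]
    have h2 := bp2 hY' g q₂ x₂
    rw [← hg1, ← hx] at h2
    rw [← e1, h2, hp₂]
  -- fixed points
  have hfixed : ∀ (T : Over S) (y : T ⟶ Y),
      (∃ y' : T ⟶ Y', y' ≫ m = y) ↔ lift (toUnit T ≫ h ≫ i) y ≫ aY.act = y := by
    intro T y
    constructor
    · rintro ⟨y', rfl⟩
      obtain ⟨T', π, p, hπ, hp⟩ := Loc.exists_lift hloc' y'
      haveI := hπ.epi
      obtain ⟨q, x, rfl⟩ : ∃ q x, p = lift q x := ⟨_, _, hpQXh _ _⟩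
      have e1 : π ≫ y' ≫ m = lift q (x ≫ incl) ≫ j := by
        rw [← Category.assoc, ← hp, hm']
      have e2 := (keyA T' q (x ≫ incl)).mpr ((hXh T' (x ≫ incl)).mp ⟨x, rfl⟩)
      rw [← cancel_epi π, ← Category.assoc, comp_lift, hnat π, e1]
      exact e2
    · intro hfix
      obtain ⟨T', π, p, hπ, hp⟩ := Loc.exists_lift hloc y
      haveI := hπ.epi
      obtain ⟨q, x, rfl⟩ : ∃ q x, p = lift q x := ⟨_, _, hpQX _ _⟩
      have e1 : lift (toUnit T' ≫ h ≫ i) (lift q x ≫ j) ≫ aY.act = lift q x ≫ j := by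
        rw [hp, ← hnat π, ← comp_lift, Category.assoc, hfix]
      obtain ⟨x', hx'⟩ := (hXh T' x).mpr ((keyA T' q x).mp e1)
      have e2 : (lift q x' ≫ j') ≫ m = π ≫ y := by
        rw [hm', hx', hp]
      obtain ⟨y', hy'⟩ := Loc.exists_desc hπ (lift q x' ≫ j') (by
        intro T'' t₁ t₂ ht
        have e3 : ∀ t : T'' ⟶ T', (t ≫ lift q x' ≫ j') ≫ m = t ≫ π ≫ y := fun t => by
          rw [Category.assoc, e2]
        rw [← cancel_mono m, e3, e3, ← Category.assoc, ← Category.assoc, ht])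
      refine ⟨y', ?_⟩
      rw [← cancel_epi π, ← Category.assoc, hy', e2]
  refine ⟨hmono, hfixed, ?_⟩
  -- the cartesian square
  haveI : Mono (Q ◁ incl) := by
    constructor
    intro T p₁ p₂ hp
    have e1 : (p₁ ≫ fst Q Xh) = (p₂ ≫ fst Q Xh) := by
      have := congrArg (fun f => f ≫ fst Q X) hp
      simpa only [Category.assoc, whiskerLeft_fst] using this
    have e2 : (p₁ ≫ snd Q Xh) ≫ incl = (p₂ ≫ snd Q Xh) ≫ incl := by
      have := congrArg (fun f => f ≫ snd Q X) hp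
      simpa only [Category.assoc, whiskerLeft_snd] using this
    rw [hpQXh T p₁, hpQXh T p₂, e1, (cancel_mono incl).mp e2]
  refine isPullback_of_existsUnique hm ?_
  intro T y' p hyp
  obtain ⟨q, x, rfl⟩ : ∃ q x, p = lift q x := ⟨_, _, hpQX _ _⟩
  have e1 : lift (toUnit T ≫ h ≫ i) (lift q x ≫ j) ≫ aY.act = lift q x ≫ j := by
    rw [← hyp]
    exact (hfixed T (y' ≫ m)).mp ⟨y', rfl⟩
  obtain ⟨x', hx'⟩ := (hXh T x).mpr ((keyA T q x).mp e1)
  have e2 : lift q x' ≫ (Q ◁ incl) = lift q x := by rw [lift_whiskerLeft, hx']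
  refine ⟨lift q x', ⟨?_, e2⟩, ?_⟩
  · rw [← cancel_mono m, hm', hx', hyp]
  · rintro l ⟨-, hl2⟩
    rw [← cancel_mono (Q ◁ incl), hl2, e2]

/-- S19099, the closed immersion part. -/
theorem closedImm19099 {Q X Xh Y Y' : Over S} (incl : Xh ⟶ X) (j : Q ⊗ X ⟶ Y)
    (j' : Q ⊗ Xh ⟶ Y') (m : Y' ⟶ Y) [Mono m] (hpb : IsPullback j' (Q ◁ incl) m j)
    (hloc : Loc Scheme.fppfPrecoverage j.left) (hcl : IsClosedImmersion incl.left) :
    IsClosedImmersion m.left := by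
  obtain ⟨R, hR, hl⟩ := hloc
  have hQi : IsClosedImmersion (Q ◁ incl).left :=
    MorphismProperty.of_isPullback (P := @IsClosedImmersion)
      ((Helper12.isPullback_whiskerLeft Q incl).map (Over.forget _)).flip hcl
  have hpbL : IsPullback j'.left (Q ◁ incl).left m.left j.left := hpb.map (Over.forget S)
  refine isClosedImmersion_of_fppf_cover m.left R hR ?_
  intro V φ hφ
  obtain ⟨l, hl'⟩ := hl φ hφ
  have hpaste : IsPullback (pullback.fst (Q ◁ incl).left l ≫ j'.left)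
      (pullback.snd (Q ◁ incl).left l) m.left (l ≫ j.left) :=
    (IsPullback.of_hasPullback (Q ◁ incl).left l).paste_horiz hpbL
  rw [hl'] at hpaste
  have h1 : IsClosedImmersion (pullback.snd (Q ◁ incl).left l) := inferInstance
  rw [← hpaste.isoPullback_hom_snd,
    MorphismProperty.cancel_left_of_respectsIso @IsClosedImmersion] at h1
  exact h1

end Main

end Groth.Agent.Lib.Helper8BalProdFix
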