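import Mathlib
import Groth.Prelude
import Groth.Agent.Lib.Helper8BalProdFix
import Groth.Agent.Lib.Helper11OrbitSub

set_option autoImplicit false

/-!
# Invariant subschemes of a balanced product are balanced products (S19681)
-/

universe u

open CategoryTheory CategoryTheory.Limits MonoidalCategory CartesianMonoidalCategory MonObj GrpObj
  AlgebraicGeometry

namespace Groth.Agent.Lib.Helper8BalProdSub

open Groth.Agent.Lib.Helper8ExactSeq Groth.Agent.Lib.Helper8BalProdFix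

variable {S : Scheme.{u}} {K : Precoverage Scheme.{u}} {G H : Over S} [GrpObj G] [GrpObj H]
  {i : H ⟶ G} [IsMonHom i] {Z Y : Over S} {aZ : AlgGrp.Action H Z} {aY : AlgGrp.Action G Y}
  {j : G ⊗ Z ⟶ Y}

theorem bp3_unique (hY : ChGrp.IsBalProd K i aZ aY j) {T : Over S} (g₂ : T ⟶ G) (z₂ : T ⟶ Z)
    (h h' : T ⟶ H) (e1 : g₂ * (h ≫ i)⁻¹ = g₂ * (h' ≫ i)⁻¹)
    (e2 : lift h z₂ ≫ aZ.act = lift h' z₂ ≫ aZ.act) : h = h' := by
  have hcart := hY.2.1
  have h1 : lift h (lift g₂ z₂) = lift h' (lift g₂ z₂) := by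
    apply hcart.hom_ext
    · rw [ChGrp.lift_twist_act, ChGrp.lift_twist_act, e1, e2]
    · rw [lift_snd, lift_snd]
  have := congrArg (fun f => f ≫ fst H (G ⊗ Z)) h1
  simpa only [lift_fst] using this

/-- S19681 (general form): a `G`-invariant subobject `c : Y' ⟶ Y` of a balanced product is the
balanced product of its trace `Z' = Z ×_Y Y'` on `Z`. -/
theorem main19681 [K.IsStableUnderBaseChange] (hY : ChGrp.IsBalProd K i aZ aY j) {Y' : Over S}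
    (c : Y' ⟶ Y) [Mono c] (aY' : AlgGrp.Action G Y')
    (hc : AlgGrp.Action.IsEquivariant aY' aY c) :
    ∃ (Z' : Over S) (c' : Z' ⟶ Z) (ε : Z' ⟶ Y') (aZ' : AlgGrp.Action H Z') (j' : G ⊗ Z' ⟶ Y'),
      IsPullback c' ε (lift (toUnit Z ≫ η[G]) (𝟙 Z) ≫ j) c ∧
      AlgGrp.Action.IsEquivariant aZ' aZ c' ∧
      j' ≫ c = (G ◁ c') ≫ j ∧ ChGrp.IsBalProd K i aZ' aY' j' := by
  obtain ⟨e, he0⟩ : ∃ e : Z ⟶ Y, e = lift (toUnit Z ≫ η[G]) (𝟙 Z) ≫ j := ⟨_, rfl⟩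
  have he : ∀ (T : Over S) (z : T ⟶ Z), z ≫ e = lift (1 : T ⟶ G) z ≫ j := by
    intro T z
    rw [he0, ← Category.assoc, comp_lift, Category.comp_id, ← Category.assoc, comp_toUnit,
      ← Hom.one_def]
  have hc' : ∀ (T : Over S) (g : T ⟶ G) (y' : T ⟶ Y'),
      (lift g y' ≫ aY'.act) ≫ c = lift g (y' ≫ c) ≫ aY.act := by
    intro T g y'
    have h1 : aY'.act ≫ c = (G ◁ c) ≫ aY.act := hc
    rw [Category.assoc, h1, ← Category.assoc, lift_whiskerLeft]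
  have hje : ∀ (T : Over S) (g : T ⟶ G) (z : T ⟶ Z),
      lift g z ≫ j = lift g (z ≫ e) ≫ aY.act := by
    intro T g z
    have h1 := bp1 hY g 1 z
    rw [_root_.mul_one] at h1
    rw [h1, he]
  have heh : ∀ (T : Over S) (h : T ⟶ H) (z : T ⟶ Z),
      (lift h z ≫ aZ.act) ≫ e = lift (h ≫ i) (z ≫ e) ≫ aY.act := by
    intro T h z
    have h1 := bp2 hY h (h ≫ i) z
    rw [_root_.mul_inv_cancel] at h1
    rw [he, h1, hje]
  obtain ⟨Z', c', ε, hpbZ⟩ : ∃ (Z' : Over S) (c' : Z' ⟶ Z) (ε : Z' ⟶ Y'), IsPullback c' ε e c :=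
    ⟨_, _, _, IsPullback.of_hasPullback e c⟩
  have hZ'w : c' ≫ e = ε ≫ c := hpbZ.w
  have hZ'w' : ∀ (T : Over S) (z' : T ⟶ Z'), (z' ≫ c') ≫ e = (z' ≫ ε) ≫ c := by
    intro T z'
    rw [Category.assoc, Category.assoc, hZ'w]
  haveI : Mono c' := by
    constructor
    intro T a b hab
    refine hpbZ.hom_ext hab ((cancel_mono c).mp ?_)
    rw [← hZ'w', ← hZ'w', hab]
  have hZ'pt : ∀ (T : Over S) (z : T ⟶ Z) (y' : T ⟶ Y'), z ≫ e = y' ≫ c →
      ∃ z' : T ⟶ Z', z' ≫ c' = z ∧ z' ≫ ε = y' :=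
    fun T z y' hzy => ⟨hpbZ.lift z y' hzy, hpbZ.lift_fst _ _ _, hpbZ.lift_snd _ _ _⟩
  -- the action of `H` on `Z'`
  obtain ⟨actZ', hact1, hact2⟩ := hZ'pt (H ⊗ Z') ((H ◁ c') ≫ aZ.act)
    (lift (fst H Z' ≫ i) (snd H Z' ≫ ε) ≫ aY'.act) (by
      apply AlgGrp.Action.hom_ext_lift₂
      intro T h z'
      have hL : lift h z' ≫ ((H ◁ c') ≫ aZ.act) ≫ e =
          lift (h ≫ i) ((z' ≫ c') ≫ e) ≫ aY.act := by
        rw [← Category.assoc, ← Category.assoc, lift_whiskerLeft, heh]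
      have hR : lift h z' ≫ (lift (fst H Z' ≫ i) (snd H Z' ≫ ε) ≫ aY'.act) ≫ c =
          lift (h ≫ i) ((z' ≫ ε) ≫ c) ≫ aY.act := by
        rw [← Category.assoc, ← Category.assoc, comp_lift, lift_fst_assoc, lift_snd_assoc, hc']
      rw [hL, hR, hZ'w'])
  obtain ⟨aZ', haZ'⟩ : ∃ aZ' : AlgGrp.Action H Z', aZ'.act = actZ' :=
    ⟨Groth.Agent.Lib.Helper11OrbitSub.restrictAct aZ c' actZ' hact1, rfl⟩
  have hZ'c : ∀ (T : Over S) (h : T ⟶ H) (z' : T ⟶ Z'),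
      (lift h z' ≫ aZ'.act) ≫ c' = lift h (z' ≫ c') ≫ aZ.act := by
    intro T h z'
    rw [haZ', Category.assoc, hact1, ← Category.assoc, lift_whiskerLeft]
  have hZ'ε : ∀ (T : Over S) (h : T ⟶ H) (z' : T ⟶ Z'),
      (lift h z' ≫ aZ'.act) ≫ ε = lift (h ≫ i) (z' ≫ ε) ≫ aY'.act := by
    intro T h z'
    rw [haZ', Category.assoc, hact2, ← Category.assoc, comp_lift, lift_fst_assoc, lift_snd_assoc]
  obtain ⟨j', hj'0⟩ : ∃ j' : G ⊗ Z' ⟶ Y', j' = (G ◁ ε) ≫ aY'.act := ⟨_, rfl⟩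
  have hj' : ∀ (T : Over S) (g : T ⟶ G) (z' : T ⟶ Z'),
      lift g z' ≫ j' = lift g (z' ≫ ε) ≫ aY'.act := by
    intro T g z'
    rw [hj'0, ← Category.assoc, lift_whiskerLeft]
  have hj'c : ∀ (T : Over S) (g : T ⟶ G) (z' : T ⟶ Z'),
      (lift g z' ≫ j') ≫ c = lift g (z' ≫ c') ≫ j := by
    intro T g z'
    rw [hj', hc', ← hZ'w', ← hje]
  have hw : j' ≫ c = (G ◁ c') ≫ j := by
    apply AlgGrp.Action.hom_ext_lift₂
    intro T g z'
    rw [← Category.assoc, hj'c, ← Category.assoc, lift_whiskerLeft]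
  have hpGZ' : ∀ (T : Over S) (p : T ⟶ G ⊗ Z'), p = lift (p ≫ fst G Z') (p ≫ snd G Z') := by
    intro T p
    rw [← comp_lift, lift_fst_snd, Category.comp_id]
  have hpGZ : ∀ (T : Over S) (p : T ⟶ G ⊗ Z), p = lift (p ≫ fst G Z) (p ≫ snd G Z) := by
    intro T p
    rw [← comp_lift, lift_fst_snd, Category.comp_id]
  haveI : Mono (G ◁ c') := by
    constructor
    intro T p₁ p₂ hp
    have e1 : (p₁ ≫ fst G Z') = (p₂ ≫ fst G Z') := by
      have := congrArg (fun f => f ≫ fst G Z) hp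
      simpa only [Category.assoc, whiskerLeft_fst] using this
    have e2 : (p₁ ≫ snd G Z') ≫ c' = (p₂ ≫ snd G Z') ≫ c' := by
      have := congrArg (fun f => f ≫ snd G Z) hp
      simpa only [Category.assoc, whiskerLeft_snd] using this
    rw [hpGZ' T p₁, hpGZ' T p₂, e1, (cancel_mono c').mp e2]
  -- `j'` is the base change of `j` along `c`
  have hsq : IsPullback j' (G ◁ c') c j := by
    refine isPullback_of_existsUnique hw ?_
    intro T y' p hyp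
    obtain ⟨g, z, rfl⟩ : ∃ g z, p = lift g z := ⟨_, _, hpGZ _ _⟩
    have e1 : z ≫ e = (lift g⁻¹ y' ≫ aY'.act) ≫ c := by
      rw [hc', hyp, hje, ← AlgGrp.Action.lift_mul_act, inv_mul_cancel,
        AlgGrp.Action.lift_one_act]
    obtain ⟨z', hz'1, hz'2⟩ := hZ'pt T z _ e1
    have e2 : lift g z' ≫ (G ◁ c') = lift g z := by rw [lift_whiskerLeft, hz'1]
    refine ⟨lift g z', ⟨?_, e2⟩, ?_⟩
    · rw [hj', hz'2, ← AlgGrp.Action.lift_mul_act, _root_.mul_inv_cancel,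
        AlgGrp.Action.lift_one_act]
    · rintro l ⟨-, hl2⟩
      rw [← cancel_mono (G ◁ c'), hl2, e2]
  refine ⟨Z', c', ε, aZ', j', he0 ▸ hpbZ, ?_, hw, ?_, ?_, ?_⟩
  · show aZ'.act ≫ c' = (H ◁ c') ≫ aZ.act
    rw [haZ', hact1]
  · -- equivariance of `j'`
    show ((NonAbH1.trivialAction G).prod (AlgGrp.Action.trivial G Z')).act ≫ j' =
      (G ◁ j') ≫ aY'.act
    apply AlgGrp.Action.hom_ext_lift₂
    intro T g p
    obtain ⟨g₁, z', rfl⟩ : ∃ g₁ z', p = lift g₁ z' := ⟨_, _, hpGZ' _ _⟩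
    have hL : lift g (lift g₁ z') ≫
        ((NonAbH1.trivialAction G).prod (AlgGrp.Action.trivial G Z')).act =
        lift (g * g₁) z' := by
      rw [AlgGrp.Action.lift_prod_act, AlgGrp.Action.lift_trivial_act]
      congr 1
    rw [← Category.assoc, hL, hj', ← Category.assoc, lift_whiskerLeft, hj',
      AlgGrp.Action.lift_mul_act]
  · -- the torsor square
    have hw2 : (ChGrp.twist i aZ').act ≫ j' = snd H (G ⊗ Z') ≫ j' := by
      apply AlgGrp.Action.hom_ext_lift₂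
      intro T h p
      obtain ⟨g, z', rfl⟩ : ∃ g z', p = lift g z' := ⟨_, _, hpGZ' _ _⟩
      rw [← Category.assoc, ChGrp.lift_twist_act, hj', hZ'ε, ← AlgGrp.Action.lift_mul_act,
        inv_mul_cancel_right, ← Category.assoc, lift_snd, hj']
    refine isPullback_of_existsUnique hw2 ?_
    intro T p₁ p₂ hpp
    obtain ⟨g₁, z₁, rfl⟩ : ∃ g₁ z₁, p₁ = lift g₁ z₁ := ⟨_, _, hpGZ' _ _⟩
    obtain ⟨g₂, z₂, rfl⟩ : ∃ g₂ z₂, p₂ = lift g₂ z₂ := ⟨_, _, hpGZ' _ _⟩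
    have h1 : lift g₁ (z₁ ≫ c') ≫ j = lift g₂ (z₂ ≫ c') ≫ j := by
      rw [← hj'c, ← hj'c, hpp]
    obtain ⟨h, hh1, hh2⟩ := bp3 hY _ _ _ _ h1
    have hz : z₁ = lift h z₂ ≫ aZ'.act := by
      rw [← cancel_mono c', hZ'c, hh2]
    refine ⟨lift h (lift g₂ z₂), ⟨?_, lift_snd _ _⟩, ?_⟩
    · rw [ChGrp.lift_twist_act, ← hh1, ← hz]
    · rintro l ⟨hl1, hl2⟩
      have hl : l = lift (l ≫ fst H (G ⊗ Z')) (lift g₂ z₂) := by
        apply CartesianMonoidalCategory.hom_ext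
        · rw [lift_fst]
        · rw [lift_snd, hl2]
      rw [hl, ChGrp.lift_twist_act] at hl1
      have e1 : g₂ * ((l ≫ fst H (G ⊗ Z')) ≫ i)⁻¹ = g₁ := by
        have := congrArg (fun f => f ≫ fst G Z') hl1
        simpa only [lift_fst] using this
      have e2 : lift (l ≫ fst H (G ⊗ Z')) z₂ ≫ aZ'.act = z₁ := by
        have := congrArg (fun f => f ≫ snd G Z') hl1
        simpa only [lift_snd] using this
      have e3 : l ≫ fst H (G ⊗ Z') = h := by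
        apply bp3_unique hY g₂ (z₂ ≫ c')
        · rw [e1, hh1]
        · rw [← hZ'c, e2, hh2]
      rw [hl, e3]
  · -- local sections
    show Loc K j'.left
    exact Loc.of_isPullbackO hsq hY.2.2

end Groth.Agent.Lib.Helper8BalProdSub
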