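import Mathlib
import Groth.Prelude.Def_Biext

/-!
# Biextensions on a site: a biextension whose inverse image by `(n, m)` is trivial is trivial,
# when the base sheaves are divisible

Generic over a site `(C, J)`, as the prelude module `Def_Biext`.
-/

universe u

open CategoryTheory Opposite

namespace Groth.Agent.Lib.Helper8Biext

variable {C : Type (u + 1)} [Category.{u} C] {J : GrothendieckTopology C}

section Basic

theorem res_zsmul (F : Sheaf J AddCommGrpCat.{u + 1}) {T T' : C} (f : T' ⟶ T) (k : ℤ)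
    (x : F.obj.obj (op T)) : F.obj.map f.op (k • x) = k • F.obj.map f.op x :=
  map_zsmul (F.obj.map f.op).hom k x

theorem res_add (F : Sheaf J AddCommGrpCat.{u + 1}) {T T' : C} (f : T' ⟶ T)
    (x y : F.obj.obj (op T)) : F.obj.map f.op (x + y) = F.obj.map f.op x + F.obj.map f.op y :=
  map_add (F.obj.map f.op).hom x y

theorem res_zero (F : Sheaf J AddCommGrpCat.{u + 1}) {T T' : C} (f : T' ⟶ T) :
    F.obj.map f.op (0 : F.obj.obj (op T)) = 0 :=
  map_zero (F.obj.map f.op).hom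

theorem res_comp_ab (F : Sheaf J AddCommGrpCat.{u + 1}) {T T' T'' : C} (f : T' ⟶ T) (g : T'' ⟶ T')
    (x : F.obj.obj (op T)) : F.obj.map (g ≫ f).op x = F.obj.map g.op (F.obj.map f.op x) := by
  rw [op_comp, F.obj.map_comp]; rfl

theorem res_comp_type (F : Sheaf J (Type (u + 1))) {T T' T'' : C} (f : T' ⟶ T) (g : T'' ⟶ T')
    (x : F.obj.obj (op T)) : F.obj.map (g ≫ f).op x = F.obj.map g.op (F.obj.map f.op x) := by
  rw [op_comp, F.obj.map_comp]; rfl

theorem sep_type (F : Sheaf J (Type (u + 1))) {T : C} {R : Sieve T} (hR : R ∈ J T)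
    (x y : F.obj.obj (op T))
    (h : ∀ ⦃T' : C⦄ (f : T' ⟶ T), R f → F.obj.map f.op x = F.obj.map f.op y) : x = y :=
  (((isSheaf_iff_isSheaf_of_type J F.obj).1 F.property) R hR).isSeparatedFor.ext
    (fun _ f hf => h f hf)

theorem sep_ab (F : Sheaf J AddCommGrpCat.{u + 1}) {T : C} {R : Sieve T} (hR : R ∈ J T)
    (x y : F.obj.obj (op T))
    (h : ∀ ⦃T' : C⦄ (f : T' ⟶ T), R f → F.obj.map f.op x = F.obj.map f.op y) : x = y :=
  sep_type (Biext.uSh J F) hR x y h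

theorem smul_id_app (F : Sheaf J AddCommGrpCat.{u + 1}) (k : ℤ) (T : C) (x : F.obj.obj (op T)) :
    (k • 𝟙 F).hom.app (op T) x = k • x := by
  have h1 : (k • 𝟙 F).hom = k • (𝟙 F : F ⟶ F).hom := rfl
  rw [h1, NatTrans.app_zsmul]
  simp

theorem div_of_epi (F : Sheaf J AddCommGrpCat.{u + 1}) (k : ℤ) (hk : Epi (k • 𝟙 F)) (T : C)
    (x : F.obj.obj (op T)) :
    ∃ R ∈ J T, ∀ ⦃T' : C⦄ (f : T' ⟶ T), R f →
      ∃ x₀ : F.obj.obj (op T'), k • x₀ = F.obj.map f.op x := by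
  haveI hls : Sheaf.IsLocallySurjective (k • 𝟙 F) :=
    (Sheaf.isLocallySurjective_iff_epi' _ _).mpr hk
  refine ⟨Presheaf.imageSieve (k • 𝟙 F).hom x, Presheaf.imageSieve_mem _ _ x, ?_⟩
  rintro T' f ⟨t, ht⟩
  exact ⟨t, (smul_id_app F k T' t).symm.trans ht⟩

end Basic

section General

variable {P Q G : Sheaf J AddCommGrpCat.{u + 1}} (B : Biext J P Q G)

theorem add₁_congr {T : C} {x x' z z' : B.E.obj.obj (op T)} (hx : x = x') (hz : z = z')
    (h : B.πQ T x = B.πQ T z) (h' : B.πQ T x' = B.πQ T z') :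
    B.add₁ T x z h = B.add₁ T x' z' h' := by
  subst hx; subst hz; rfl

theorem add₂_congr {T : C} {x x' y y' : B.E.obj.obj (op T)} (hx : x = x') (hy : y = y')
    (h : B.πP T x = B.πP T y) (h' : B.πP T x' = B.πP T y') :
    B.add₂ T x y h = B.add₂ T x' y' h' := by
  subst hx; subst hy; rfl

theorem add₁_act_act (T : C) (g g' : G.obj.obj (op T)) (x z : B.E.obj.obj (op T))
    (h : B.πQ T x = B.πQ T z) :
    B.add₁ T (B.act T g x) (B.act T g' z)
        ((B.πQ_act T g x).trans (h.trans (B.πQ_act T g' z).symm)) =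
      B.act T (g + g') (B.add₁ T x z h) :=
  ((B.add₁_act T g x (B.act T g' z) (h.trans (B.πQ_act T g' z).symm)).trans
    (congrArg (B.act T g) ((B.add₁_comm T x (B.act T g' z) _).trans
      ((B.add₁_act T g' z x h.symm).trans
        (congrArg (B.act T g') (B.add₁_comm T z x h.symm)))))).trans
    (B.add_act T g g' _).symm

theorem add₂_act_act (T : C) (g g' : G.obj.obj (op T)) (x y : B.E.obj.obj (op T))
    (h : B.πP T x = B.πP T y) :
    B.add₂ T (B.act T g x) (B.act T g' y)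
        ((B.πP_act T g x).trans (h.trans (B.πP_act T g' y).symm)) =
      B.act T (g + g') (B.add₂ T x y h) :=
  ((B.add₂_act T g x (B.act T g' y) (h.trans (B.πP_act T g' y).symm)).trans
    (congrArg (B.act T g) ((B.add₂_comm T x (B.act T g' y) _).trans
      ((B.add₂_act T g' y x h.symm).trans
        (congrArg (B.act T g') (B.add₂_comm T y x h.symm)))))).trans
    (B.add_act T g g' _).symm

end General

/-- The data: a morphism of biextensions `B' → B` over `(n, m, 𝟙)`, a splitting of `B'`, and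
local divisibility of `P` and `Q` by `n` and `m`. -/
structure Data (J : GrothendieckTopology C) (P Q G : Sheaf J AddCommGrpCat.{u + 1}) where
  α : P ⟶ P
  β : Q ⟶ Q
  B : Biext J P Q G
  B' : Biext J P Q G
  φ : Biext.HomOver J α β (𝟙 G) B' B
  s : Biext.Splitting J B'
  n : ℤ
  m : ℤ
  hα : ∀ (T : C) (p : P.obj.obj (op T)), α.hom.app (op T) p = n • p
  hβ : ∀ (T : C) (q : Q.obj.obj (op T)), β.hom.app (op T) q = m • q
  divPn : ∀ (T : C) (p : P.obj.obj (op T)), ∃ R ∈ J T, ∀ ⦃T' : C⦄ (f : T' ⟶ T), R f →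
    ∃ p₀ : P.obj.obj (op T'), n • p₀ = P.obj.map f.op p
  divPm : ∀ (T : C) (p : P.obj.obj (op T)), ∃ R ∈ J T, ∀ ⦃T' : C⦄ (f : T' ⟶ T), R f →
    ∃ p₀ : P.obj.obj (op T'), m • p₀ = P.obj.map f.op p
  divQn : ∀ (T : C) (q : Q.obj.obj (op T)), ∃ R ∈ J T, ∀ ⦃T' : C⦄ (f : T' ⟶ T), R f →
    ∃ q₀ : Q.obj.obj (op T'), n • q₀ = Q.obj.map f.op q
  divQm : ∀ (T : C) (q : Q.obj.obj (op T)), ∃ R ∈ J T, ∀ ⦃T' : C⦄ (f : T' ⟶ T), R f →
    ∃ q₀ : Q.obj.obj (op T'), m • q₀ = Q.obj.map f.op q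

namespace Data

variable {P Q G : Sheaf J AddCommGrpCat.{u + 1}} (D : Data J P Q G)

/-- the image in `B` of the splitting of `B'`. -/
def tau (T : C) (p : P.obj.obj (op T)) (q : Q.obj.obj (op T)) : D.B.E.obj.obj (op T) :=
  D.φ.map T (D.s.σ T p q)

theorem πP_tau (T : C) (p : P.obj.obj (op T)) (q : Q.obj.obj (op T)) :
    D.B.πP T (D.tau T p q) = D.n • p := by
  unfold tau
  rw [D.φ.πP_map, D.s.πP_σ, D.hα]

theorem πQ_tau (T : C) (p : P.obj.obj (op T)) (q : Q.obj.obj (op T)) :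
    D.B.πQ T (D.tau T p q) = D.m • q := by
  unfold tau
  rw [D.φ.πQ_map, D.s.πQ_σ, D.hβ]

theorem fiberQ (T : C) (p p' : P.obj.obj (op T)) (q : Q.obj.obj (op T)) :
    D.B.πQ T (D.tau T p q) = D.B.πQ T (D.tau T p' q) := by
  rw [D.πQ_tau, D.πQ_tau]

theorem fiberP (T : C) (p : P.obj.obj (op T)) (q q' : Q.obj.obj (op T)) :
    D.B.πP T (D.tau T p q) = D.B.πP T (D.tau T p q') := by
  rw [D.πP_tau, D.πP_tau]

theorem tau_map {T T' : C} (f : T' ⟶ T) (p : P.obj.obj (op T)) (q : Q.obj.obj (op T)) :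
    D.B.E.obj.map f.op (D.tau T p q) = D.tau T' (P.obj.map f.op p) (Q.obj.map f.op q) := by
  unfold tau
  rw [← D.φ.map_res, D.s.σ_map]

theorem tau_add₁ (T : C) (p p' : P.obj.obj (op T)) (q : Q.obj.obj (op T))
    (h : D.B.πQ T (D.tau T p q) = D.B.πQ T (D.tau T p' q)) :
    D.tau T (p + p') q = D.B.add₁ T (D.tau T p q) (D.tau T p' q) h := by
  unfold tau
  rw [D.s.σ_add₁, D.φ.map_add₁]

theorem tau_add₂ (T : C) (p : P.obj.obj (op T)) (q q' : Q.obj.obj (op T))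
    (h : D.B.πP T (D.tau T p q) = D.B.πP T (D.tau T p q')) :
    D.tau T p (q + q') = D.B.add₂ T (D.tau T p q) (D.tau T p q') h := by
  unfold tau
  rw [D.s.σ_add₂, D.φ.map_add₂]

theorem tau_add_zero₁ (T : C) (p : P.obj.obj (op T)) (q : Q.obj.obj (op T))
    (h : D.B.πQ T (D.tau T p q) = D.B.πQ T (D.tau T 0 q)) :
    D.B.add₁ T (D.tau T p q) (D.tau T 0 q) h = D.tau T p q := by
  have h1 := D.tau_add₁ T p 0 q h
  rw [add_zero] at h1
  exact h1.symm

theorem tau_add_zero₂ (T : C) (p : P.obj.obj (op T)) (q : Q.obj.obj (op T))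
    (h : D.B.πP T (D.tau T p q) = D.B.πP T (D.tau T p 0)) :
    D.B.add₂ T (D.tau T p q) (D.tau T p 0) h = D.tau T p q := by
  have h1 := D.tau_add₂ T p q 0 h
  rw [add_zero] at h1
  exact h1.symm

/-! ### Left: `n`-torsion sections of `P` -/

theorem fiberL (T : C) (a : P.obj.obj (op T)) (q : Q.obj.obj (op T)) (ha : D.n • a = 0) :
    D.B.πP T (D.tau T 0 q) = D.B.πP T (D.tau T a q) := by
  rw [D.πP_tau, D.πP_tau, smul_zero, ha]

/-- the difference of `tau a q` and `tau 0 q` for `n • a = 0`. -/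
noncomputable def gL (T : C) (a : P.obj.obj (op T)) (q : Q.obj.obj (op T)) (ha : D.n • a = 0) :
    G.obj.obj (op T) :=
  Classical.choose (D.B.existsUnique_act T (D.tau T 0 q) (D.tau T a q) (D.fiberL T a q ha)
    (D.fiberQ T 0 a q))

theorem gL_spec (T : C) (a : P.obj.obj (op T)) (q : Q.obj.obj (op T)) (ha : D.n • a = 0) :
    D.B.act T (D.gL T a q ha) (D.tau T 0 q) = D.tau T a q :=
  (Classical.choose_spec (D.B.existsUnique_act T (D.tau T 0 q) (D.tau T a q) (D.fiberL T a q ha)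
    (D.fiberQ T 0 a q))).1

theorem gL_unique (T : C) (a : P.obj.obj (op T)) (q : Q.obj.obj (op T)) (ha : D.n • a = 0)
    (g : G.obj.obj (op T)) (hg : D.B.act T g (D.tau T 0 q) = D.tau T a q) :
    g = D.gL T a q ha :=
  (Classical.choose_spec (D.B.existsUnique_act T (D.tau T 0 q) (D.tau T a q) (D.fiberL T a q ha)
    (D.fiberQ T 0 a q))).2 g hg

theorem gL_add_q (T : C) (a : P.obj.obj (op T)) (q q' : Q.obj.obj (op T)) (ha : D.n • a = 0) :
    D.gL T a (q + q') ha = D.gL T a q ha + D.gL T a q' ha := by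
  symm
  apply D.gL_unique
  rw [D.tau_add₂ T a q q' (D.fiberP T a q q'), D.tau_add₂ T 0 q q' (D.fiberP T 0 q q'),
    ← add₂_act_act D.B T _ _ _ _ (D.fiberP T 0 q q')]
  exact add₂_congr D.B (D.gL_spec T a q ha) (D.gL_spec T a q' ha) _ _

theorem gL_add_a (T : C) (a a' : P.obj.obj (op T)) (q : Q.obj.obj (op T)) (ha : D.n • a = 0)
    (ha' : D.n • a' = 0) (haa' : D.n • (a + a') = 0) :
    D.gL T (a + a') q haa' = D.gL T a q ha + D.gL T a' q ha' := by
  symm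
  apply D.gL_unique
  rw [D.tau_add₁ T a a' q (D.fiberQ T a a' q)]
  have h0 := D.tau_add_zero₁ T 0 q rfl
  have h1 := add₁_act_act D.B T (D.gL T a q ha) (D.gL T a' q ha') (D.tau T 0 q) (D.tau T 0 q) rfl
  rw [h0] at h1
  rw [← h1]
  exact add₁_congr D.B (D.gL_spec T a q ha) (D.gL_spec T a' q ha') _ _

/-- the `n`-torsion subgroup of `P(T)`. -/
def torsP (T : C) : AddSubgroup (P.obj.obj (op T)) where
  carrier := {a | D.n • a = 0}
  zero_mem' := smul_zero _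
  add_mem' := fun {a b} ha hb => by
    show D.n • (a + b) = 0
    rw [smul_add, ha, hb, add_zero]
  neg_mem' := fun {a} ha => by
    show D.n • (-a) = 0
    rw [smul_neg, ha, neg_zero]

theorem tau_left_aux (T : C) (a : P.obj.obj (op T)) (q₀ : Q.obj.obj (op T)) (ha : D.n • a = 0) :
    D.tau T a (D.n • q₀) = D.tau T 0 (D.n • q₀) := by
  have h1 : D.gL T a (D.n • q₀) ha = D.n • D.gL T a q₀ ha :=
    map_zsmul (AddMonoidHom.mk' (fun q => D.gL T a q ha)
      (fun q q' => D.gL_add_q T a q q' ha)) D.n q₀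
  have h2 : D.n • D.gL T a q₀ ha = 0 := by
    let F : D.torsP T →+ G.obj.obj (op T) :=
      AddMonoidHom.mk' (fun x => D.gL T x.1 q₀ x.2)
        (fun x y => D.gL_add_a T x.1 y.1 q₀ x.2 y.2 (x + y).2)
    have h3 : F (D.n • (⟨a, ha⟩ : D.torsP T)) = D.n • F ⟨a, ha⟩ := map_zsmul F D.n ⟨a, ha⟩
    have h4 : D.n • (⟨a, ha⟩ : D.torsP T) = 0 := Subtype.ext ha
    rw [h4, map_zero] at h3
    exact h3.symm
  rw [← D.gL_spec T a (D.n • q₀) ha, h1, h2, D.B.zero_act]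

theorem tau_left (T : C) (a : P.obj.obj (op T)) (q : Q.obj.obj (op T)) (ha : D.n • a = 0) :
    D.tau T a q = D.tau T 0 q := by
  obtain ⟨R, hR, h⟩ := D.divQn T q
  refine sep_type D.B.E hR _ _ (fun T' f hf => ?_)
  obtain ⟨q₀, hq₀⟩ := h f hf
  rw [D.tau_map, D.tau_map, ← hq₀, res_zero]
  exact D.tau_left_aux T' _ q₀ (by rw [← res_zsmul, ha, res_zero])

/-! ### Right: `m`-torsion sections of `Q` -/

theorem fiberR (T : C) (p : P.obj.obj (op T)) (b : Q.obj.obj (op T)) (hb : D.m • b = 0) :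
    D.B.πQ T (D.tau T p 0) = D.B.πQ T (D.tau T p b) := by
  rw [D.πQ_tau, D.πQ_tau, smul_zero, hb]

/-- the difference of `tau p b` and `tau p 0` for `m • b = 0`. -/
noncomputable def gR (T : C) (p : P.obj.obj (op T)) (b : Q.obj.obj (op T)) (hb : D.m • b = 0) :
    G.obj.obj (op T) :=
  Classical.choose (D.B.existsUnique_act T (D.tau T p 0) (D.tau T p b) (D.fiberP T p 0 b)
    (D.fiberR T p b hb))

theorem gR_spec (T : C) (p : P.obj.obj (op T)) (b : Q.obj.obj (op T)) (hb : D.m • b = 0) :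
    D.B.act T (D.gR T p b hb) (D.tau T p 0) = D.tau T p b :=
  (Classical.choose_spec (D.B.existsUnique_act T (D.tau T p 0) (D.tau T p b) (D.fiberP T p 0 b)
    (D.fiberR T p b hb))).1

theorem gR_unique (T : C) (p : P.obj.obj (op T)) (b : Q.obj.obj (op T)) (hb : D.m • b = 0)
    (g : G.obj.obj (op T)) (hg : D.B.act T g (D.tau T p 0) = D.tau T p b) :
    g = D.gR T p b hb :=
  (Classical.choose_spec (D.B.existsUnique_act T (D.tau T p 0) (D.tau T p b) (D.fiberP T p 0 b)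
    (D.fiberR T p b hb))).2 g hg

theorem gR_add_p (T : C) (p p' : P.obj.obj (op T)) (b : Q.obj.obj (op T)) (hb : D.m • b = 0) :
    D.gR T (p + p') b hb = D.gR T p b hb + D.gR T p' b hb := by
  symm
  apply D.gR_unique
  rw [D.tau_add₁ T p p' b (D.fiberQ T p p' b), D.tau_add₁ T p p' 0 (D.fiberQ T p p' 0),
    ← add₁_act_act D.B T _ _ _ _ (D.fiberQ T p p' 0)]
  exact add₁_congr D.B (D.gR_spec T p b hb) (D.gR_spec T p' b hb) _ _

theorem gR_add_b (T : C) (p : P.obj.obj (op T)) (b b' : Q.obj.obj (op T)) (hb : D.m • b = 0)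
    (hb' : D.m • b' = 0) (hbb' : D.m • (b + b') = 0) :
    D.gR T p (b + b') hbb' = D.gR T p b hb + D.gR T p b' hb' := by
  symm
  apply D.gR_unique
  rw [D.tau_add₂ T p b b' (D.fiberP T p b b')]
  have h0 := D.tau_add_zero₂ T p 0 rfl
  have h1 := add₂_act_act D.B T (D.gR T p b hb) (D.gR T p b' hb') (D.tau T p 0) (D.tau T p 0) rfl
  rw [h0] at h1
  rw [← h1]
  exact add₂_congr D.B (D.gR_spec T p b hb) (D.gR_spec T p b' hb') _ _

/-- the `m`-torsion subgroup of `Q(T)`. -/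
def torsQ (T : C) : AddSubgroup (Q.obj.obj (op T)) where
  carrier := {b | D.m • b = 0}
  zero_mem' := smul_zero _
  add_mem' := fun {a b} ha hb => by
    show D.m • (a + b) = 0
    rw [smul_add, ha, hb, add_zero]
  neg_mem' := fun {a} ha => by
    show D.m • (-a) = 0
    rw [smul_neg, ha, neg_zero]

theorem tau_right_aux (T : C) (p₀ : P.obj.obj (op T)) (b : Q.obj.obj (op T)) (hb : D.m • b = 0) :
    D.tau T (D.m • p₀) b = D.tau T (D.m • p₀) 0 := by
  have h1 : D.gR T (D.m • p₀) b hb = D.m • D.gR T p₀ b hb :=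
    map_zsmul (AddMonoidHom.mk' (fun p => D.gR T p b hb)
      (fun p p' => D.gR_add_p T p p' b hb)) D.m p₀
  have h2 : D.m • D.gR T p₀ b hb = 0 := by
    let F : D.torsQ T →+ G.obj.obj (op T) :=
      AddMonoidHom.mk' (fun x => D.gR T p₀ x.1 x.2)
        (fun x y => D.gR_add_b T p₀ x.1 y.1 x.2 y.2 (x + y).2)
    have h3 : F (D.m • (⟨b, hb⟩ : D.torsQ T)) = D.m • F ⟨b, hb⟩ := map_zsmul F D.m ⟨b, hb⟩
    have h4 : D.m • (⟨b, hb⟩ : D.torsQ T) = 0 := Subtype.ext hb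
    rw [h4, map_zero] at h3
    exact h3.symm
  rw [← D.gR_spec T (D.m • p₀) b hb, h1, h2, D.B.zero_act]

theorem tau_right (T : C) (p : P.obj.obj (op T)) (b : Q.obj.obj (op T)) (hb : D.m • b = 0) :
    D.tau T p b = D.tau T p 0 := by
  obtain ⟨R, hR, h⟩ := D.divPm T p
  refine sep_type D.B.E hR _ _ (fun T' f hf => ?_)
  obtain ⟨p₀, hp₀⟩ := h f hf
  rw [D.tau_map, D.tau_map, ← hp₀, res_zero]
  exact D.tau_right_aux T' p₀ _ (by rw [← res_zsmul, hb, res_zero])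

/-! ### Independence of the lift -/

theorem tau_indep_left (T : C) (p₀ p₁ : P.obj.obj (op T)) (q : Q.obj.obj (op T))
    (h : D.n • p₀ = D.n • p₁) : D.tau T p₀ q = D.tau T p₁ q := by
  have ha : D.n • (p₁ - p₀) = 0 := by rw [smul_sub, h, sub_self]
  have e : p₁ = p₀ + (p₁ - p₀) := by abel
  calc D.tau T p₀ q
      = D.B.add₁ T (D.tau T p₀ q) (D.tau T 0 q) (D.fiberQ T p₀ 0 q) :=
        (D.tau_add_zero₁ T p₀ q _).symm
    _ = D.B.add₁ T (D.tau T p₀ q) (D.tau T (p₁ - p₀) q) (D.fiberQ T p₀ (p₁ - p₀) q) :=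
        add₁_congr D.B rfl (D.tau_left T _ q ha).symm _ _
    _ = D.tau T (p₀ + (p₁ - p₀)) q := (D.tau_add₁ T p₀ (p₁ - p₀) q _).symm
    _ = D.tau T p₁ q := by rw [← e]

theorem tau_indep_right (T : C) (p : P.obj.obj (op T)) (q₀ q₁ : Q.obj.obj (op T))
    (h : D.m • q₀ = D.m • q₁) : D.tau T p q₀ = D.tau T p q₁ := by
  have hb : D.m • (q₁ - q₀) = 0 := by rw [smul_sub, h, sub_self]
  have e : q₁ = q₀ + (q₁ - q₀) := by abel
  calc D.tau T p q₀
      = D.B.add₂ T (D.tau T p q₀) (D.tau T p 0) (D.fiberP T p q₀ 0) :=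
        (D.tau_add_zero₂ T p q₀ _).symm
    _ = D.B.add₂ T (D.tau T p q₀) (D.tau T p (q₁ - q₀)) (D.fiberP T p q₀ (q₁ - q₀)) :=
        add₂_congr D.B rfl (D.tau_right T p _ hb).symm _ _
    _ = D.tau T p (q₀ + (q₁ - q₀)) := (D.tau_add₂ T p q₀ (q₁ - q₀) _).symm
    _ = D.tau T p q₁ := by rw [← e]

theorem tau_indep (T : C) (p₀ p₁ : P.obj.obj (op T)) (q₀ q₁ : Q.obj.obj (op T))
    (hp : D.n • p₀ = D.n • p₁) (hq : D.m • q₀ = D.m • q₁) : D.tau T p₀ q₀ = D.tau T p₁ q₁ :=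
  (D.tau_indep_left T p₀ p₁ q₀ hp).trans (D.tau_indep_right T p₁ q₀ q₁ hq)

/-! ### Gluing -/

/-- the sieve of arrows over which `(p, q)` is of the form `(n p₀, m q₀)`. -/
def liftSieve (T : C) (p : P.obj.obj (op T)) (q : Q.obj.obj (op T)) : Sieve T where
  arrows T' f := ∃ (p₀ : P.obj.obj (op T')) (q₀ : Q.obj.obj (op T')),
    D.n • p₀ = P.obj.map f.op p ∧ D.m • q₀ = Q.obj.map f.op q
  downward_closed := by
    intro T' T'' f hf g
    obtain ⟨p₀, q₀, hp, hq⟩ := hf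
    refine ⟨P.obj.map g.op p₀, Q.obj.map g.op q₀, ?_, ?_⟩
    · rw [← res_zsmul, hp, res_comp_ab]
    · rw [← res_zsmul, hq, res_comp_ab]

theorem liftSieve_mem (T : C) (p : P.obj.obj (op T)) (q : Q.obj.obj (op T)) :
    D.liftSieve T p q ∈ J T := by
  obtain ⟨R₁, hR₁, h₁⟩ := D.divPn T p
  obtain ⟨R₂, hR₂, h₂⟩ := D.divQm T q
  refine J.superset_covering ?_ (J.intersection_covering hR₁ hR₂)
  rintro T' f ⟨hf₁, hf₂⟩
  obtain ⟨p₀, hp₀⟩ := h₁ f hf₁
  obtain ⟨q₀, hq₀⟩ := h₂ f hf₂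
  exact ⟨p₀, q₀, hp₀, hq₀⟩

/-- the local sections `tau p₀ q₀` over the lift sieve. -/
noncomputable def fam (T : C) (p : P.obj.obj (op T)) (q : Q.obj.obj (op T)) :
    Presieve.FamilyOfElements D.B.E.obj (D.liftSieve T p q).arrows :=
  fun T' _ hf => D.tau T' (Classical.choose hf) (Classical.choose (Classical.choose_spec hf))

theorem fam_compatible (T : C) (p : P.obj.obj (op T)) (q : Q.obj.obj (op T)) :
    (D.fam T p q).Compatible := by
  intro Y₁ Y₂ Z g₁ g₂ f₁ f₂ h₁ h₂ hg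
  obtain ⟨hp₁, hq₁⟩ := Classical.choose_spec (Classical.choose_spec h₁)
  obtain ⟨hp₂, hq₂⟩ := Classical.choose_spec (Classical.choose_spec h₂)
  show D.B.E.obj.map g₁.op (D.tau Y₁ _ _) = D.B.E.obj.map g₂.op (D.tau Y₂ _ _)
  rw [D.tau_map, D.tau_map]
  apply D.tau_indep
  · rw [← res_zsmul, ← res_zsmul, hp₁, hp₂, ← res_comp_ab, ← res_comp_ab, hg]
  · rw [← res_zsmul, ← res_zsmul, hq₁, hq₂, ← res_comp_ab, ← res_comp_ab, hg]

theorem isSheafFor (T : C) (p : P.obj.obj (op T)) (q : Q.obj.obj (op T)) :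
    Presieve.IsSheafFor D.B.E.obj (D.liftSieve T p q).arrows :=
  ((isSheaf_iff_isSheaf_of_type J D.B.E.obj).1 D.B.E.property) _ (D.liftSieve_mem T p q)

/-- the glued section above `(p, q)`. -/
noncomputable def sigma (T : C) (p : P.obj.obj (op T)) (q : Q.obj.obj (op T)) :
    D.B.E.obj.obj (op T) :=
  (D.isSheafFor T p q).amalgamate (D.fam T p q) (D.fam_compatible T p q)

theorem sigma_res {T T' : C} (f : T' ⟶ T) (p : P.obj.obj (op T)) (q : Q.obj.obj (op T))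
    (p₀ : P.obj.obj (op T')) (q₀ : Q.obj.obj (op T')) (hp : D.n • p₀ = P.obj.map f.op p)
    (hq : D.m • q₀ = Q.obj.map f.op q) :
    D.B.E.obj.map f.op (D.sigma T p q) = D.tau T' p₀ q₀ := by
  have hf : (D.liftSieve T p q).arrows f := ⟨p₀, q₀, hp, hq⟩
  have h1 := (D.isSheafFor T p q).valid_glue (D.fam_compatible T p q) f hf
  obtain ⟨hp₁, hq₁⟩ := Classical.choose_spec (Classical.choose_spec hf)
  refine h1.trans ?_
  show D.tau T' _ _ = _
  exact D.tau_indep T' _ _ _ _ (hp₁.trans hp.symm) (hq₁.trans hq.symm)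

theorem πP_sigma (T : C) (p : P.obj.obj (op T)) (q : Q.obj.obj (op T)) :
    D.B.πP T (D.sigma T p q) = p := by
  refine sep_ab P (D.liftSieve_mem T p q) _ _ ?_
  rintro T' f ⟨p₀, q₀, hp, hq⟩
  rw [← D.B.πP_map, D.sigma_res f p q p₀ q₀ hp hq, D.πP_tau, hp]

theorem πQ_sigma (T : C) (p : P.obj.obj (op T)) (q : Q.obj.obj (op T)) :
    D.B.πQ T (D.sigma T p q) = q := by
  refine sep_ab Q (D.liftSieve_mem T p q) _ _ ?_
  rintro T' f ⟨p₀, q₀, hp, hq⟩
  rw [← D.B.πQ_map, D.sigma_res f p q p₀ q₀ hp hq, D.πQ_tau, hq]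

theorem sigma_map {T T' : C} (g : T' ⟶ T) (p : P.obj.obj (op T)) (q : Q.obj.obj (op T)) :
    D.B.E.obj.map g.op (D.sigma T p q) = D.sigma T' (P.obj.map g.op p) (Q.obj.map g.op q) := by
  refine sep_type D.B.E (D.liftSieve_mem T' (P.obj.map g.op p) (Q.obj.map g.op q)) _ _ ?_
  rintro T'' f ⟨p₀, q₀, hp, hq⟩
  rw [D.sigma_res f _ _ p₀ q₀ hp hq, ← res_comp_type,
    D.sigma_res (f ≫ g) p q p₀ q₀ (by rw [hp, res_comp_ab]) (by rw [hq, res_comp_ab])]

theorem sigma_add₁ (T : C) (p p' : P.obj.obj (op T)) (q : Q.obj.obj (op T))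
    (h : D.B.πQ T (D.sigma T p q) = D.B.πQ T (D.sigma T p' q)) :
    D.sigma T (p + p') q = D.B.add₁ T (D.sigma T p q) (D.sigma T p' q) h := by
  refine sep_type D.B.E
    (J.intersection_covering (D.liftSieve_mem T p q) (D.liftSieve_mem T p' q)) _ _ ?_
  rintro T' f ⟨⟨p₀, q₀, hp, hq⟩, ⟨p₀', q₀', hp', hq'⟩⟩
  rw [D.B.add₁_map, D.sigma_res f (p + p') q (p₀ + p₀') q₀ (by rw [smul_add, hp, hp', res_add]) hq,
    D.tau_add₁ T' p₀ p₀' q₀ (D.fiberQ T' p₀ p₀' q₀)]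
  exact (add₁_congr D.B (D.sigma_res f p q p₀ q₀ hp hq) (D.sigma_res f p' q p₀' q₀ hp' hq)
    _ _).symm

theorem sigma_add₂ (T : C) (p : P.obj.obj (op T)) (q q' : Q.obj.obj (op T))
    (h : D.B.πP T (D.sigma T p q) = D.B.πP T (D.sigma T p q')) :
    D.sigma T p (q + q') = D.B.add₂ T (D.sigma T p q) (D.sigma T p q') h := by
  refine sep_type D.B.E
    (J.intersection_covering (D.liftSieve_mem T p q) (D.liftSieve_mem T p q')) _ _ ?_
  rintro T' f ⟨⟨p₀, q₀, hp, hq⟩, ⟨p₀', q₀', hp', hq'⟩⟩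
  rw [D.B.add₂_map, D.sigma_res f p (q + q') p₀ (q₀ + q₀') hp (by rw [smul_add, hq, hq', res_add]),
    D.tau_add₂ T' p₀ q₀ q₀' (D.fiberP T' p₀ q₀ q₀')]
  exact (add₂_congr D.B (D.sigma_res f p q p₀ q₀ hp hq) (D.sigma_res f p q' p₀ q₀' hp hq')
    _ _).symm

/-- the splitting of `B`. -/
noncomputable def splitting : Biext.Splitting J D.B where
  σ := D.sigma
  πP_σ := D.πP_sigma
  πQ_σ := D.πQ_sigma
  σ_map := fun f p q => D.sigma_map f p q
  σ_add₁ := fun T p p' q => D.sigma_add₁ T p p' q _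
  σ_add₂ := fun T p q q' => D.sigma_add₂ T p q q' _

end Data

/-- A biextension `B` of `(P, Q)` by `G` whose inverse image by `(n, m)` is trivial is trivial, if `P`
and `Q` are divisible (multiplication by every non-zero integer is an epimorphism). -/
theorem main19683 {P Q G : Sheaf J AddCommGrpCat.{u + 1}}
    (hP : ∀ k : ℤ, k ≠ 0 → Epi (k • 𝟙 P)) (hQ : ∀ k : ℤ, k ≠ 0 → Epi (k • 𝟙 Q))
    (n m : ℤ) (hn : n ≠ 0) (hm : m ≠ 0) (B B' : Biext J P Q G)
    (φ : Biext.HomOver J (n • 𝟙 P) (m • 𝟙 Q) (𝟙 G) B' B) (hB' : Biext.IsTrivial J B') :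
    Biext.IsTrivial J B := by
  obtain ⟨s⟩ := hB'
  let D : Data J P Q G :=
    { α := n • 𝟙 P
      β := m • 𝟙 Q
      B := B
      B' := B'
      φ := φ
      s := s
      n := n
      m := m
      hα := fun T p => smul_id_app P n T p
      hβ := fun T q => smul_id_app Q m T q
      divPn := div_of_epi P n (hP n hn)
      divPm := div_of_epi P m (hP m hm)
      divQn := div_of_epi Q n (hQ n hn)
      divQm := div_of_epi Q m (hQ m hm) }
  exact ⟨D.splitting⟩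

end Groth.Agent.Lib.Helper8Biext
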