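import Mathlib
import Groth.Prelude
import Groth.Agent.Lib.Helper8EtLift
import Groth.Agent.Lib.Helper20SmoothSec

/-!
# Base change along a closed immersion is almost cocontinuous on the big étale / smooth sites
(helper8)
-/

set_option autoImplicit false
universe u
open CategoryTheory CategoryTheory.Limits AlgebraicGeometry Opposite

namespace Groth.Agent.Lib.Helper8BigClosedCocont

instance smooth_containsIdentities : MorphismProperty.ContainsIdentities @Smooth :=
  ⟨fun _ => inferInstance⟩

/-- a covering sieve for the big étale or smooth topology contains an étale neighbourhood of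
every point -/
theorem exists_etale_mem {S : Scheme.{u}} (K : Precoverage Scheme.{u})
    (hK : K = Scheme.etalePrecoverage ∨ K = Scheme.precoverage @Smooth) {U : Over S}
    (R : Sieve U) (hR : R ∈ QuotSh.J K S U) (x : U.left) :
    ∃ (E : Scheme.{u}) (e : E ⟶ U.left) (_ : Etale e), x ∈ Set.range e ∧
      R.arrows (Over.homMk e : Over.mk (e ≫ U.hom) ⟶ U) := by
  rcases hK with rfl | rfl
  · rw [GrothendieckTopology.mem_over_iff, Scheme.etalePrecoverage,
      Precoverage.mem_toGrothendieck_iff_of_isStableUnderComposition] at hR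
    obtain ⟨R', hR', hle⟩ := hR
    have h1 := hR'.1
    rw [Scheme.jointlySurjectivePrecoverage,
      Presieve.mem_comap_jointlySurjectivePrecoverage_iff] at h1
    obtain ⟨E, g, hg, hx⟩ := h1 x
    refine ⟨E, g, hR'.2 hg, hx, ?_⟩
    have h4 := hle _ _ hg
    rw [Sieve.overEquiv_iff] at h4
    exact h4
  · rw [GrothendieckTopology.mem_over_iff,
      Precoverage.mem_toGrothendieck_iff_of_isStableUnderComposition] at hR
    obtain ⟨R', hR', hle⟩ := hR
    have h1 := hR'.1
    rw [Scheme.jointlySurjectivePrecoverage,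
      Presieve.mem_comap_jointlySurjectivePrecoverage_iff] at h1
    obtain ⟨E, g, hg, y, hy⟩ := h1 x
    haveI : Smooth g := hR'.2 hg
    obtain ⟨S', e, s', he, hes, h, hh⟩ :=
      Groth.Agent.Lib.Helper20.SmoothSec.exists_etale_section_of_smooth g y
    refine ⟨S', e, he, ⟨s', hes.trans hy⟩, ?_⟩
    have h4 := (Sieve.overEquiv U R).downward_closed (hle _ _ hg) h
    rw [hh, Sieve.overEquiv_iff] at h4
    exact h4

/-- a jointly surjective family of étale morphisms generates a covering sieve of the big étale
or smooth topology -/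
theorem ofArrows_mem_J {S : Scheme.{u}} (K : Precoverage Scheme.{u})
    (hK : K = Scheme.etalePrecoverage ∨ K = Scheme.precoverage @Smooth) {U : Over S}
    {ι : Type u} (V : ι → Scheme.{u}) (v : ∀ i, V i ⟶ U.left) (hv : ∀ i, Etale (v i))
    (hsurj : ∀ x : U.left, ∃ i, x ∈ Set.range (v i)) :
    Sieve.ofArrows (fun i => Over.mk (v i ≫ U.hom))
      (fun i => (Over.homMk (v i) : Over.mk (v i ≫ U.hom) ⟶ U)) ∈ QuotSh.J K S U := by
  rw [GrothendieckTopology.mem_over_iff, Sieve.overEquiv_ofArrows]
  refine Precoverage.generate_mem_toGrothendieck ?_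
  rcases hK with rfl | rfl
  · rw [Scheme.etalePrecoverage, Scheme.ofArrows_mem_precoverage_iff]
    exact ⟨hsurj, hv⟩
  · rw [Scheme.ofArrows_mem_precoverage_iff]
    refine ⟨hsurj, fun i => ?_⟩
    haveI := hv i
    change Smooth (v i)
    infer_instance

/-- the empty sieve covers an empty scheme -/
theorem bot_mem_J {S : Scheme.{u}} (K : Precoverage Scheme.{u})
    (hK : K = Scheme.etalePrecoverage ∨ K = Scheme.precoverage @Smooth) {U : Over S}
    [IsEmpty U.left] : (⊥ : Sieve U) ∈ QuotSh.J K S U := by
  have h := ofArrows_mem_J K hK (U := U) (ι := PEmpty.{u + 1}) (fun i => i.elim)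
    (fun i => i.elim) (fun i => i.elim) (fun x => (IsEmpty.false x).elim)
  refine (QuotSh.J K S).superset_covering ?_ h
  rintro W g ⟨_, _, _, ⟨i⟩, _⟩
  exact i.elim

variable {X Y : Scheme.{u}}

/-- **S6635**: base change along a closed immersion is almost cocontinuous for the big étale and
smooth topologies. -/
theorem isAlmostCocontinuous (f : X ⟶ Y) [IsClosedImmersion f] (K : Precoverage Scheme.{u})
    (hK : K = Scheme.etalePrecoverage ∨ K = Scheme.precoverage @Smooth) :
    BigSite.IsAlmostCocontinuous (Over.pullback f) (QuotSh.J K Y) (QuotSh.J K X) := by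
  intro U R hR
  have h1 : ∀ z : ↥(pullback U.hom f), ∃ (B : Scheme.{u}) (c : B ⟶ U.left), Etale c ∧
      pullback.fst U.hom f z ∈ Set.range c ∧
      ∀ (W : Over Y) (g : W ⟶ U) (h : W.left ⟶ B), h ≫ c = g.left →
        R.arrows ((Over.pullback f).map g) := by
    intro z
    obtain ⟨E, e, he, ⟨x, hx⟩, hRe⟩ :=
      exists_etale_mem K hK (U := (Over.pullback f).obj U) R hR z
    haveI := he
    obtain ⟨B, B₀, c, k, r, -, hc, -, sq, ⟨b₀, hb₀⟩⟩ :=
      Groth.Agent.Lib.Helper8EtLift.exists_etale_lift_closed (pullback.fst U.hom f) e x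
    refine ⟨B, c, hc, ⟨k b₀, ?_⟩, ?_⟩
    · have h2 := congrArg (fun φ : B₀ ⟶ U.left => φ b₀) sq.w
      simp only [Scheme.Hom.comp_apply] at h2
      rw [h2, hb₀]
      exact congrArg _ hx
    · intro W g h hh
      have hw : (pullback.fst W.hom f ≫ h) ≫ c =
          ((Over.pullback f).map g).left ≫ pullback.fst U.hom f := by
        rw [Category.assoc, hh]
        exact (pullback.lift_fst _ _ _).symm
      have hl2 : sq.lift (pullback.fst W.hom f ≫ h) ((Over.pullback f).map g).left hw ≫ r ≫ e =
          ((Over.pullback f).map g).left := sq.lift_snd _ _ hw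
      have hw2 : (sq.lift (pullback.fst W.hom f ≫ h) ((Over.pullback f).map g).left hw ≫ r) ≫
          (Over.mk (e ≫ ((Over.pullback f).obj U).hom)).hom = ((Over.pullback f).obj W).hom := by
        change (_ ≫ r) ≫ e ≫ ((Over.pullback f).obj U).hom = _
        rw [Category.assoc, ← Category.assoc r, ← Category.assoc, ← Category.assoc,
          Category.assoc _ r e, hl2]
        exact Over.w ((Over.pullback f).map g)
      have hfac : (Over.pullback f).map g =
          (Over.homMk (sq.lift (pullback.fst W.hom f ≫ h) ((Over.pullback f).map g).left hw ≫ r)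
            hw2 : (Over.pullback f).obj W ⟶ Over.mk (e ≫ ((Over.pullback f).obj U).hom)) ≫
          (Over.homMk e : Over.mk (e ≫ ((Over.pullback f).obj U).hom) ⟶
            (Over.pullback f).obj U) := by
        apply Over.OverMorphism.ext
        change _ = (_ ≫ r) ≫ e
        rw [Category.assoc, hl2]
      rw [hfac]
      exact R.downward_closed hRe _
  choose B c hc hrange hBR using h1
  have hcl : IsClosed (Set.range (pullback.fst U.hom f)) :=
    (pullback.fst U.hom f).isClosedEmbedding.isClosed_range
  let O : U.left.Opens := ⟨(Set.range (pullback.fst U.hom f))ᶜ, hcl.isOpen_compl⟩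
  let V : ↥(pullback U.hom f) ⊕ PUnit.{u + 1} → Scheme.{u} := fun i =>
    Sum.elim (fun z => B z) (fun _ => (O : Scheme.{u})) i
  let v : ∀ i, V i ⟶ U.left := fun i => match i with
    | Sum.inl z => c z
    | Sum.inr _ => O.ι
  have hv : ∀ i, Etale (v i) := fun i => match i with
    | Sum.inl z => hc z
    | Sum.inr _ => (inferInstance : Etale O.ι)
  have hsurj : ∀ p : U.left, ∃ i, p ∈ Set.range (v i) := by
    intro p
    by_cases hp : p ∈ Set.range (pullback.fst U.hom f)
    · obtain ⟨z, rfl⟩ := hp
      exact ⟨Sum.inl z, hrange z⟩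
    · refine ⟨Sum.inr PUnit.unit, ?_⟩
      change p ∈ Set.range O.ι
      rw [Scheme.Opens.range_ι]
      exact hp
  have hempty : ∀ (W : Over Y) (g : W ⟶ U) (h : W.left ⟶ (O : Scheme.{u})),
      h ≫ O.ι = g.left → IsEmpty ((Over.pullback f).obj W).left := by
    intro W g h hh
    constructor
    intro p
    change ↥(pullback W.hom f) at p
    have e1 : ((Over.pullback f).map g).left ≫ pullback.fst U.hom f =
        pullback.fst W.hom f ≫ g.left := pullback.lift_fst _ _ _
    have e2 := congrArg (fun φ : pullback W.hom f ⟶ U.left => φ p) e1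
    simp only [Scheme.Hom.comp_apply] at e2
    have e3 : g.left (pullback.fst W.hom f p) ∈ (O : Set U.left) := by
      rw [← hh, Scheme.Hom.comp_apply]
      exact (h (pullback.fst W.hom f p)).2
    exact e3 ⟨_, e2⟩
  refine ⟨_, ofArrows_mem_J K hK V v hv hsurj, ?_⟩
  rintro W g ⟨Z', h, g', ⟨i⟩, rfl⟩
  rcases i with z | _
  · right
    exact hBR z W _ h.left rfl
  · left
    haveI : IsEmpty ((Over.pullback f).obj W).left :=
      hempty W (h ≫ (Over.homMk (v (Sum.inr PUnit.unit)) :
        Over.mk (v (Sum.inr PUnit.unit) ≫ U.hom) ⟶ U)) h.left rfl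
    exact bot_mem_J K hK

end Groth.Agent.Lib.Helper8BigClosedCocont
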