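import Mathlib
import Groth.Prelude
import Groth.Agent.Lib.H5bCodimOne
import Groth.Agent.Lib.H5bEtLocSch
import Groth.Agent.Lib.Helper3GrpHomQF
import Groth.Agent.Lib.Helper20ZClos21
import Groth.Agent.Lib.Helper4DimFormulaT

/-!
# Finite fibres over codimension `≤ 1` points of a birational morphism of finite type (helper8)
-/

set_option autoImplicit false
set_option linter.style.haveILetI false
set_option linter.unusedSectionVars false
universe u
open CategoryTheory CategoryTheory.Limits AlgebraicGeometry TopologicalSpace Opposite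

namespace Groth.Agent.Lib.Helper8BirFinFib

open Groth.Agent.Lib.Helper4.DimFormula

/-- if `f` restricts to an isomorphism over `U`, the residue field maps at points over `U`
are isomorphisms. -/
theorem isIso_residueFieldMap_of_isIso_restrict {X Y : Scheme.{u}} (f : Y ⟶ X) (U : X.Opens)
    [IsIso (f ∣_ U)] (y : Y) (hy : y ∈ f ⁻¹ᵁ U) : IsIso (f.residueFieldMap y) := by
  have hcomp : (f ⁻¹ᵁ U).ι ≫ f = (f ∣_ U) ≫ U.ι := (morphismRestrict_ι f U).symm
  haveI : IsOpenImmersion ((f ⁻¹ᵁ U).ι ≫ f) := by rw [hcomp]; infer_instance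
  let y' : (f ⁻¹ᵁ U : Scheme.{u}) := ⟨y, hy⟩
  have h1 := Scheme.residueFieldMap_comp (f ⁻¹ᵁ U).ι f y'
  haveI h2 : IsIso (((f ⁻¹ᵁ U).ι ≫ f).residueFieldMap y') := inferInstance
  haveI : IsIso (f.residueFieldMap ((f ⁻¹ᵁ U).ι y') ≫ (f ⁻¹ᵁ U).ι.residueFieldMap y') := by
    rw [← h1]; exact h2
  exact IsIso.of_isIso_comp_right (f.residueFieldMap ((f ⁻¹ᵁ U).ι y'))
    ((f ⁻¹ᵁ U).ι.residueFieldMap y')

theorem ptTrdeg_eq_zero_of_isIso_residueFieldMap {X Y : Scheme.{u}} (f : Y ⟶ X)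
    [LocallyOfFiniteType f] (y : Y) [IsIso (f.residueFieldMap y)] : ptTrdeg f y = 0 := by
  have h := trdeg_eq_ptTrdeg f y
  letI := (f.residueFieldMap y).hom.toAlgebra
  have hsurj : Function.Surjective (algebraMap (X.residueField (f.base y)) (Y.residueField y)) :=
    (ConcreteCategory.bijective_of_isIso (f.residueFieldMap y)).2
  haveI : Algebra.IsIntegral (X.residueField (f.base y)) (Y.residueField y) :=
    Algebra.isIntegral_of_surjective hsurj
  rw [trdeg_eq_zero] at h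
  exact_mod_cast h.symm

theorem main {X Y : Scheme.{u}} [IsLocallyNoetherian X] [IsLocallyNoetherian Y] (f : Y ⟶ X)
    [LocallyOfFiniteType f] [QuasiCompact f] (U : X.Opens)
    (hU' : Dense ((f ⁻¹ᵁ U : Y.Opens) : Set Y)) (hiso : IsIso (f ∣_ U)) (x : X)
    (hx : ringKrullDim (X.presheaf.stalk x) ≤ 1) : (f.base ⁻¹' {x}).Finite := by
  refine (H5bEtLocSch.finite_quasiFiniteAt_fiber f x).subset ?_
  intro y hy
  have hy' : f.base y = x := hy
  refine ⟨hy', ?_⟩
  rw [Helper3.GrpHomQF.quasiFiniteAt_iff_fibreDimAt_le_zero]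
  refine H5bCodimOne.fibreDimAt_le_zero_of_codim_le_one f y (by rw [hy']; exact hx) ?_
  intro u₀ hmax _
  have h0 : ringKrullDim (Y.presheaf.stalk u₀) = 0 := (H5bFieldSp.stalk_dim_zero_iff u₀).2 hmax
  have hmem : u₀ ∈ f ⁻¹ᵁ U :=
    Helper20.ZClosLib.mem_of_dense_of_dim_le_zero (f ⁻¹ᵁ U) hU' u₀ h0.le
  haveI := isIso_residueFieldMap_of_isIso_restrict f U u₀ hmem
  exact ptTrdeg_eq_zero_of_isIso_residueFieldMap f u₀

end Groth.Agent.Lib.Helper8BirFinFib
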