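import Mathlib
import Groth.Agent.Lib.R2H3VAmpleMain

/-!
# A closed immersion into `P^n_R` from `n + 1` prescribed sections (helper8)

* `exists_closedImmersion_of_sections` : `q : X ⟶ Spec R` proper, `M` invertible, `w : Fin (n + 1) → Γ(X, M)` sections
  whose generating loci are affine and cover `X`, such that the functions on `X_{w k}` are generated as a ring by the
  image of `R` and the ratios `w j / w k`.  Then the morphism `X ⟶ P^n_R` defined by `w` is a closed immersion over `R`
  and pulls `O(1)` back to `M`.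
-/

set_option autoImplicit false
universe u
open CategoryTheory CategoryTheory.Limits AlgebraicGeometry TopologicalSpace Opposite

namespace Groth.Agent.Lib.Helper8CLS1

open Groth.Agent.Lib.Helper23.SecTw Groth.Agent.Lib.Helper23.GenLocus Groth.Agent.Lib.Helper6
  Groth.Agent.Lib.Helper23.AmpleIso Groth.Agent.Lib.Helper23.Extend Groth.Agent.Lib.Helper27GrTildeSect
  Groth.Agent.Lib.R2H3.VAmpleMor Groth.Agent.Lib.R2H3.VAmpleSec Groth.Agent.Lib.R2H3.VAmpleImm
  Groth.Agent.Lib.R2H3.VAmpleMain

instance isSeparated_toSpec (n : ℕ) (R : Type u) [CommRing R] : IsSeparated (CohB1.ProjSpace.toSpec n R) := by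
  unfold CohB1.ProjSpace.toSpec
  exact MorphismProperty.comp_mem @IsSeparated _ _ (Proj.isSeparated _) inferInstance

theorem exists_closedImmersion_of_sections {R : Type u} [CommRing R] {X : Scheme.{u}}
    (q : X ⟶ Spec (CommRingCat.of R)) [IsProper q] (M : X.Modules) (hM : PicF.IsInvertible M) (n : ℕ)
    (w : Fin (n + 1) → ProjUP.Γm M)
    (U : Fin (n + 1) → X.Opens) (hU : ∀ k, CohB1.genLocus M (secHom M (w k)) = U k)
    (hcov : ∀ y : X, ∃ k, y ∈ U k)
    (haff : ∀ k, IsAffineOpen (U k))
    (hb : ∀ k (T' : Subring Γ(X, U k)),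
      (∀ a, (q.appLE ⊤ (U k) le_top).hom a ∈ T') →
      (∀ j (c : Γ(X, U k)),
        res M (le_top : U k ≤ ⊤) (w j) = c • res M (le_top : U k ≤ ⊤) (w k) → c ∈ T') → T' = ⊤) :
    ∃ i : X ⟶ CohB1.ProjSpace n R, IsClosedImmersion i ∧ i ≫ CohB1.ProjSpace.toSpec n R = q ∧
      Nonempty ((Scheme.Modules.pullback i).obj (Twist.twistProjSpace n R 1) ≅ M) := by
  classical
  have hcov' : ∀ y : X, ∃ k, y ∈ CohB1.genLocus M (secHom M (w k)) := by
    intro y
    obtain ⟨k, hk⟩ := hcov y
    exact ⟨k, by rw [hU k]; exact hk⟩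
  have hgenw := generatedBy_of_cover M w hcov'
  obtain ⟨r, hrq, τ, hτ⟩ := exists_mor_data (R := R) n q M hM w hgenw
  have hpre := fun k => preimage_eq (CohB1.polyGrading n R)
    (fun i : Fin (n + 1) => (MvPolynomial.X i : MvPolynomial (Fin (n + 1)) R)) (hX n) (hcovX n) r M τ w hτ k
  let i : X ⟶ CohB1.ProjSpace n R := r
  have hiq : i ≫ CohB1.ProjSpace.toSpec n R = q := hrq
  let D : Fin (n + 1) → (CohB1.ProjSpace n R).Opens := fun k =>
    Proj.basicOpen (CohB1.polyGrading n R) (MvPolynomial.X k : MvPolynomial (Fin (n + 1)) R)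
  have hDU : ∀ k, i ⁻¹ᵁ D k = U k := fun k => (hpre k).trans (hU k)
  have himm : IsImmersion i := by
    refine isImmersion_of_charts' i (κ := Fin (n + 1)) D U
      (fun k => Proj.isAffineOpen_basicOpen _ _ (hX n _) Nat.one_pos) haff hDU ?_ (fun k => ?_)
    · rw [eq_top_iff]
      intro y _
      obtain ⟨k, hk⟩ := hcov y
      exact Opens.mem_iSup.2 ⟨k, hk⟩
    · have hgen : IsGen M (U k) (res M (le_top : U k ≤ ⊤) (w k)) := by
        have h1 := isGen_sv_genLocus M (secHom M (w k))
        rw [sv_secHom] at h1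
        have key : ∀ (V : X.Opens), CohB1.genLocus M (secHom M (w k)) = V →
            IsGen M V (res M (le_top : V ≤ ⊤) (w k)) := by
          rintro V rfl
          exact h1
        exact key _ (hU k)
      have hT := hb k (i.appLE (D k) (U k) (hDU k).ge).hom.range ?_ ?_
      · intro z
        have : z ∈ (i.appLE (D k) (U k) (hDU k).ge).hom.range := by
          rw [hT]; trivial
        exact this
      · intro a
        have h1 : q.appLE ⊤ (U k) le_top =
            (CohB1.ProjSpace.toSpec n R).appLE ⊤ (D k) le_top ≫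
              i.appLE (D k) (U k) (hDU k).ge := by
          rw [Scheme.Hom.appLE_comp_appLE]
          exact appLE_congr hiq.symm le_top
        rw [h1]
        exact ⟨_, rfl⟩
      · intro j c hc
        have h3 := appLE_ratio_eq (CohB1.polyGrading n R)
          (fun i : Fin (n + 1) => (MvPolynomial.X i : MvPolynomial (Fin (n + 1)) R)) (hX n) r M τ w hτ
          j k (U := U k) (hDU k).ge hgen c hc
        rw [← h3]
        exact ⟨_, rfl⟩
  haveI : UniversallyClosed (i ≫ CohB1.ProjSpace.toSpec n R) := by rw [hiq]; infer_instance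
  haveI : UniversallyClosed i := UniversallyClosed.of_comp_of_isSeparated i (CohB1.ProjSpace.toSpec n R)
  have hcl : IsClosed (Set.range i) := (i.isClosedMap).isClosed_range
  have hci : IsClosedImmersion i := IsClosedImmersion.of_isPreimmersion i hcl
  refine ⟨i, hci, hiq, ?_⟩
  have e3 := (Scheme.Modules.pullback r).mapIso (eqToIso (twist_eq R n ((1 : ℕ) : ℤ)))
  exact ⟨e3 ≪≫ τ⟩

end Groth.Agent.Lib.Helper8CLS1
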