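import Groth.Agent.Lib.Helper8NormGen
import Groth.Agent.Lib.R2H3AmpleSV

/-!
# Normal generation and very ampleness on proper one-dimensional schemes with `H¹(O) = 0` (helper8)

* `isNef_of_isAmple`: an ample invertible module is nef;
* `span_zero`: `Γ(O) ⊗ Γ(L) → Γ(O ⊗ L)` is surjective;
* `span_of_isAmple`: for `L` ample on `X` proper of dimension `≤ 1` with `H¹(O) = 0`, all the
  multiplication maps `Γ(L^n) ⊗ Γ(L) → Γ(L^{n+1})` are surjective;
* `veryAmple_of_isAmple`: such an `L` is very ample.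
-/

set_option autoImplicit false
set_option linter.style.haveILetI false
set_option linter.unusedSectionVars false
set_option linter.unusedVariables false
universe u

open CategoryTheory CategoryTheory.Limits AlgebraicGeometry TopologicalSpace Opposite

namespace Groth.Agent.Lib.Helper8NormGen

variable (k : Type u) [Field k] (X : Scheme.{u}) [X.Over (Spec (CommRingCat.of k))]
  [IsProper (X ↘ (Spec (CommRingCat.of k)))]

theorem isNef_of_isAmple (L : X.Modules) (hL : CohB1.IsAmple L) :
    Groth.Agent.Lib.Helper8NefGZ.IsNef k X L := by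
  intro J hJ hJd
  letI : J.subscheme.Over (Spec (CommRingCat.of k)) :=
    ⟨J.subschemeι ≫ (X ↘ Spec (CommRingCat.of k))⟩
  haveI : IsProper (J.subscheme ↘ Spec (CommRingCat.of k)) :=
    inferInstanceAs (IsProper (J.subschemeι ≫ (X ↘ Spec (CommRingCat.of k))))
  haveI := hJ
  have hamp : CohB1.IsAmple ((Scheme.Modules.pullback J.subschemeι).obj L) :=
    Groth.Agent.Lib.Helper23.PB.isAmple_pullback_of_isAffineHom J.subschemeι L hL
  have h := (Groth.Agent.Lib.R2H1.CurveAmple.s1530 k J.subscheme hJd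
    ((Scheme.Modules.pullback J.subschemeι).obj L) hamp.1).1 hamp
  exact h.le

omit [IsProper (X ↘ (Spec (CommRingCat.of k)))] in
/-- `Γ(O) ⊗ Γ(L) → Γ(O ⊗ L)` is surjective -/
theorem span_zero {X : Scheme.{u}} (L : X.Modules) : spanT (Coh.structureModule X) L = ⊤ := by
  rw [eq_top_iff]
  intro z _
  let φ := (Groth.Agent.Lib.Helper23.TensorUnit.unitTensorIso L).hom.val.app (op ⊤)
  let ψ := (Groth.Agent.Lib.Helper23.TensorUnit.unitTensorIso L).inv.val.app (op ⊤)
  have hψφ : ∀ w, ψ.hom (φ.hom w) = w := by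
    intro w
    have h := congrArg (fun f : CohB1.tensorMod (Coh.structureModule X) L ⟶
        CohB1.tensorMod (Coh.structureModule X) L => (f.val.app (op ⊤)).hom w)
      (Groth.Agent.Lib.Helper23.TensorUnit.unitTensorIso L).hom_inv_id
    exact h
  have h1 := Groth.Agent.Lib.R2H4NormalGen.unitTensorIso_tmul L ⊤ (1 : X.ringCatSheaf.obj.obj (op ⊤))
    (φ.hom z)
  rw [one_smul] at h1
  have h2 : SecTwist.tmul (Coh.structureModule X) L ⊤
      ((1 : X.ringCatSheaf.obj.obj (op ⊤)) : (Coh.structureModule X).val.obj (op ⊤)) (φ.hom z) = z := by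
    have h3 := congrArg ψ.hom h1
    exact (hψφ _).symm.trans (h3.trans (hψφ z))
  rw [← h2]
  exact Submodule.subset_span ⟨(_, _), rfl⟩

include k in
theorem span_of_isAmple (hdim : topologicalKrullDim X ≤ 1)
    (h1 : Subsingleton (Coh.HH X (Coh.structureModule X) 1))
    (L : X.Modules) (hA : CohB1.IsAmple L) (n : ℕ) :
    spanT (CohB1.tensorPow L n) L = ⊤ := by
  obtain ⟨-, hgg⟩ := Groth.Agent.Lib.Helper8NefGZ.main k X hdim h1 L hA.1 (isNef_of_isAmple k X L hA)
  cases n with
  | zero => exact span_zero L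
  | succ j =>
    have hj := subsingleton_HH_tensorPow_of_le k X hdim L hA.1 hgg 0 h1 j (Nat.zero_le j)
    exact span_tensorPow_succ k X hdim L hA.1 hgg j hj

omit [IsProper (X ↘ (Spec (CommRingCat.of k)))] in
/-- from the span over `Γ(O)` to the additive closure -/
theorem closure_eq_top_of_spanT {X : Scheme.{u}} (M A : X.Modules) (h : spanT M A = ⊤) :
    AddSubgroup.closure {t | ∃ (m : M.val.obj (op ⊤)) (s : A.val.obj (op ⊤)),
      t = SecTwist.tmul M A ⊤ m s} = ⊤ := by
  have key : ∀ z : (CohB1.tensorMod M A).val.obj (op ⊤), z ∈ spanT M A →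
      z ∈ AddSubgroup.closure {t | ∃ (m : M.val.obj (op ⊤)) (s : A.val.obj (op ⊤)),
        t = SecTwist.tmul M A ⊤ m s} := by
    intro z hz
    unfold spanT at hz
    induction hz using Submodule.span_induction with
    | mem x hx =>
      obtain ⟨p, rfl⟩ := hx
      exact AddSubgroup.subset_closure ⟨p.1, p.2, rfl⟩
    | zero => exact AddSubgroup.zero_mem _
    | add x y _ _ hx hy => exact AddSubgroup.add_mem _ hx hy
    | smul r x hxs hx =>
      clear hxs
      induction hx using AddSubgroup.closure_induction with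
      | mem y hy =>
        obtain ⟨m, s, rfl⟩ := hy
        refine AddSubgroup.subset_closure ⟨r • m, s, ?_⟩
        exact (Groth.Agent.Lib.Helper23.SecTw.tmul_smul_left M A ⊤ r m s).symm
      | zero => rw [smul_zero]; exact AddSubgroup.zero_mem _
      | add x y _ _ hx hy => rw [smul_add]; exact AddSubgroup.add_mem _ hx hy
      | neg x _ hx => rw [smul_neg]; exact AddSubgroup.neg_mem _ hx
  rw [eq_top_iff]
  intro z _
  exact key z (by rw [h]; trivial)

open Groth.Agent.Lib.R2H2.ProjOver Groth.Agent.Lib.R2H3.VAmpleMain Groth.Agent.Lib.R2H3.QProj in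
include k in
/-- **an ample invertible module on a proper scheme of dimension `≤ 1` with `H¹(O) = 0` is very
ample** -/
theorem veryAmple_of_isAmple (hdim : topologicalKrullDim X ≤ 1)
    (h1 : Subsingleton (Coh.HH X (Coh.structureModule X) 1))
    (L : X.Modules) (hA : CohB1.IsAmple L) :
    ∃ (n : ℕ) (i : X ⟶ CohB1.ProjSpace n k), IsClosedImmersion i ∧
      i ≫ CohB1.ProjSpace.toSpec n k = X ↘ (Spec (CommRingCat.of k)) ∧
      Nonempty ((Scheme.Modules.pullback i).obj (Twist.twistProjSpace n k 1) ≅ L) := by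
  let f : X ⟶ Spec (CommRingCat.of k) := X ↘ Spec (CommRingCat.of k)
  have hng : ∀ n : ℕ, 1 ≤ n → AddSubgroup.closure {t | ∃ (m : (CohB1.tensorPow L n).val.obj (op ⊤))
      (s : L.val.obj (op ⊤)), t = SecTwist.tmul (CohB1.tensorPow L n) L ⊤ m s} = ⊤ := fun n _ =>
    closure_eq_top_of_spanT _ _ (span_of_isAmple k X hdim h1 L hA n)
  obtain ⟨r, j, hj, hjf, ⟨φ⟩⟩ := Groth.Agent.Lib.R2H4NormalGen.main f L hA hng
  have := hj
  have hjc : IsClosedImmersion j := isClosedImmersion_of_isProper f r j hjf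
  have hpb := isPullback_a r k (𝟙 (Spec (CommRingCat.of k)))
  have hiso : IsIso (a r k (𝟙 (Spec (CommRingCat.of k)))) := hpb.isIso_fst_of_isIso
  obtain ⟨e⟩ := nonempty_pullback_twistOver_iso r k (𝟙 (Spec (CommRingCat.of k))) 1
  refine ⟨r, j ≫ inv (a r k (𝟙 (Spec (CommRingCat.of k)))), inferInstance, ?_, ?_⟩
  · have h1 : inv (a r k (𝟙 (Spec (CommRingCat.of k)))) ≫ CohB1.ProjSpace.toSpec r k =
        CohB1.ProjSpaceOver.toBase r (Spec (CommRingCat.of k)) := by
      rw [IsIso.inv_comp_eq, a_toBase, Category.comp_id]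
    rw [Category.assoc, h1]
    exact hjf
  · let T := Twist.twistOver r (Spec (CommRingCat.of k)) 1
    let α := a r k (𝟙 (Spec (CommRingCat.of k)))
    have e1 : (Scheme.Modules.pullback (inv α)).obj ((Scheme.Modules.pullback α).obj T) ≅ T :=
      (Scheme.Modules.pullbackComp (inv α) α).app T ≪≫
        (Scheme.Modules.pullbackCongr (IsIso.inv_hom_id α)).app T ≪≫ (Scheme.Modules.pullbackId _).app T
    have e2 : (Scheme.Modules.pullback (inv α)).obj (Twist.twistProjSpace r k 1) ≅ T :=
      (Scheme.Modules.pullback (inv α)).mapIso e.symm ≪≫ e1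
    have e3 : (Scheme.Modules.pullback (j ≫ inv α)).obj (Twist.twistProjSpace r k 1) ≅
        (Scheme.Modules.pullback j).obj T :=
      ((Scheme.Modules.pullbackComp j (inv α)).app (Twist.twistProjSpace r k 1)).symm ≪≫
        (Scheme.Modules.pullback j).mapIso e2
    exact ⟨e3 ≪≫ φ.symm⟩

end Groth.Agent.Lib.Helper8NormGen
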