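import Mathlib
import Groth.Prelude
import Groth.Agent.Lib.Helper8NormGen2

/-!
# Normal generation under an abstract right-exactness hypothesis for `H¹` (helper8)

The arguments of `Helper8NormGen` (curves over a field) only use that `H¹` is right exact on
quasi-coherent modules.  Here they are redone under this hypothesis (`Rex X`), so that they apply to
proper schemes over an affine base with fibres of dimension `≤ 1`.
-/

set_option autoImplicit false
set_option linter.style.haveILetI false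
set_option linter.unusedSectionVars false
set_option linter.unusedVariables false
universe u

open CategoryTheory CategoryTheory.Limits AlgebraicGeometry TopologicalSpace Opposite

namespace Groth.Agent.Lib.Helper8RelNG

open Groth.Agent.Lib.Helper21.ModTensor3 Groth.Agent.Lib.Helper21.ModTensor5
  Groth.Agent.Lib.Helper21.ModTensor7
open Groth.Agent.Lib.R2H2.HHLin Groth.Agent.Lib.R2H2.PnLinRes Groth.Agent.Lib.R2H2.PnSerre
open Groth.Agent.Lib.Helper8KoszulAbs Groth.Agent.Lib.Helper8NormGen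

/-- `H¹` is right exact on quasi-coherent modules -/
def Rex (X : Scheme.{u}) : Prop :=
  ∀ (A B : X.Modules), A.IsQuasicoherent → B.IsQuasicoherent → ∀ (p : A ⟶ B), Epi p →
    Subsingleton (Coh.HH X A 1) → Subsingleton (Coh.HH X B 1)

theorem cls_injective {X : Scheme.{u}} (M : X.Modules) : Function.Injective (cls (M := M)) := by
  intro σ τ h
  apply Groth.Agent.Lib.Helper23.SecTw.hom_ext_of_sv
  have h1 := congrArg (Groth.Agent.Lib.Helper27PnSections.hh0Equiv X M) h
  unfold cls at h1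
  rw [AddEquiv.apply_symm_apply, AddEquiv.apply_symm_apply] at h1
  exact h1

section Curve

open Groth.Agent.Lib.R2H2.PnMulSurj Groth.Agent.Lib.Helper23.SecTw in
/-- finitely many generating sections from a cover by generating loci -/
theorem exists_generating_of_cover {X : Scheme.{u}} [CompactSpace X] (A : X.Modules)
    (hcov : ∀ x : X, ∃ t : Coh.structureModule X ⟶ A, x ∈ CohB1.genLocus A t) :
    ∃ (r : ℕ) (s : Fin r → (Coh.structureModule X ⟶ A)),
      Epi (Sigma.desc s : (∐ fun _ : Fin r => Coh.structureModule X) ⟶ A) := by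
  classical
  choose t ht using hcov
  obtain ⟨T, hT⟩ := isCompact_univ.elim_finite_subcover
    (fun x : X => ((CohB1.genLocus A (t x) : X.Opens) : Set X))
    (fun x => (CohB1.genLocus A (t x)).isOpen)
    (fun x _ => Set.mem_iUnion.2 ⟨x, ht x⟩)
  let e : {x // x ∈ T} ≃ Fin T.card := T.equivFin
  refine ⟨T.card, fun i => t (e.symm i).1, ?_⟩
  have h := Groth.Agent.Lib.Helper27EpiGen.epi_desc_secHom A
    (fun i : Fin T.card => sv (t (e.symm i).1) ⊤) (fun x => by
      have hx := hT (Set.mem_univ x)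
      rw [Set.mem_iUnion₂] at hx
      obtain ⟨y, hyT, hxy⟩ := hx
      refine ⟨e ⟨y, hyT⟩, CohB1.genLocus A (t y), hxy, ?_⟩
      rw [Equiv.symm_apply_apply, res_sv]
      exact isGen_sv_genLocus A (t y))
  have h2 : (fun i : Fin T.card => secHom A (sv (t (e.symm i).1) ⊤)) =
      fun i => t (e.symm i).1 := by
    funext i
    exact Groth.Agent.Lib.R2H3.VAmpleMor.secHom_sv _
  rw [h2] at h
  exact h


variable (X : Scheme.{u}) [IsNoetherian X]

/-- lifting sections along the action map when `H¹(E ⊗ E ⊗ N) = 0` -/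
theorem exists_lift (hrex : Rex X) {E N : X.Modules}
    (hE : Coh.IsQCoh E) (hN : Coh.IsQCoh N) (σ' : E ⟶ Coh.structureModule X) [Epi σ']
    (hvan : Subsingleton (Coh.HH X
      ((DCoh.tensorBi.obj E).obj ((DCoh.tensorBi.obj E).obj N)) 1))
    (τ : Coh.structureModule X ⟶ N) :
    ∃ τ' : Coh.structureModule X ⟶ (DCoh.tensorBi.obj E).obj N,
      τ' ≫ act DCoh.tensorBi lamX σ' N = τ := by
  haveI : E.IsQuasicoherent := hE
  haveI : N.IsQuasicoherent := hN
  obtain ⟨κ, hκ⟩ := exists_epi_to_kernel (DCoh.tensorBi (X := X)) lamX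
    (fun f hf K => epi_tensorBi_map_app f hf K) σ' N
  let a := act DCoh.tensorBi lamX σ' N
  haveI : Epi a := by
    change Epi ((DCoh.tensorBi.map σ').app N ≫ lamX.hom.app N)
    haveI := epi_tensorBi_map_app σ' inferInstance N
    exact epi_comp _ _
  have q1 : ((DCoh.tensorBi.obj E).obj N).IsQuasicoherent :=
    Groth.Agent.Lib.Helper23.TensorQCoh.isQuasicoherent_tensorMod E N
  haveI := q1
  have q2 : ((DCoh.tensorBi.obj E).obj ((DCoh.tensorBi.obj E).obj N)).IsQuasicoherent :=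
    Groth.Agent.Lib.Helper23.TensorQCoh.isQuasicoherent_tensorMod E _
  have qK : (kernel a).IsQuasicoherent :=
    Groth.Agent.Lib.Helper23.QCohLocal.isQuasicoherent_kernel a
  have hK1 : Subsingleton (Coh.HH X (kernel a) 1) :=
    hrex _ _ q2 qK κ inferInstance hvan
  let S : ShortComplex X.Modules := ShortComplex.mk (kernel.ι a) a (kernel.condition a)
  haveI : Mono S.f := by
    change Mono (kernel.ι a)
    infer_instance
  haveI : Epi S.g := by
    change Epi a
    infer_instance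
  have hS : S.ShortExact := { exact := ShortComplex.exact_of_f_is_kernel _ (kernelIsKernel a) }
  obtain ⟨y, hy⟩ := exact₃ S hS 0 (cls τ) (@Subsingleton.elim _ hK1 _ _)
  obtain ⟨τ', rfl⟩ := cls_surjective _ y
  refine ⟨τ', ?_⟩
  apply cls_injective N
  change cls (τ' ≫ a) = cls τ
  rw [← cls_comp]
  exact hy


open Groth.Agent.Lib.R2H2.PnMumford Groth.Agent.Lib.R2H2.PnMulSurj in
/-- every global section of `M ⊗ A` is a sum of sections `u_i ≫ (M ◁ s_i)`, when the `s_i` generate
the invertible module `A` and `H¹((O ⊗ A') ⊗ ((O ⊗ A') ⊗ (M ⊗ A))) = 0` -/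
theorem exists_sum_sections (hrex : Rex X) (A A' : X.Modules)
    (hA : PicF.IsInvertible A) (hA' : PicF.IsInvertible A')
    (e : (DCoh.tensorBi.obj A).obj A' ≅ Coh.structureModule X) (r : ℕ)
    (s : Fin r → (Coh.structureModule X ⟶ A))
    (hs : Epi (Sigma.desc s : (∐ fun _ : Fin r => Coh.structureModule X) ⟶ A))
    (M : X.Modules) (hM : Coh.IsQCoh M)
    (hvan : Subsingleton (Coh.HH X
      ((DCoh.tensorBi.obj ((DCoh.tensorBi.obj (Coh.structureModule X)).obj A')).obj
        ((DCoh.tensorBi.obj ((DCoh.tensorBi.obj (Coh.structureModule X)).obj A')).obj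
          ((DCoh.tensorBi.obj M).obj A))) 1))
    (x : Coh.structureModule X ⟶ (DCoh.tensorBi.obj M).obj A) :
    ∃ u : Fin r → (Coh.structureModule X ⟶ (DCoh.tensorBi.obj M).obj (Coh.structureModule X)),
      x = ∑ i, u i ≫ (DCoh.tensorBi.obj M).map (s i) := by
  let O := Coh.structureModule X
  let P : X.Modules := ∐ fun _ : Fin r => O
  let σ : P ⟶ A := Sigma.desc s
  let N : X.Modules := (DCoh.tensorBi.obj M).obj A
  let E : X.Modules := (DCoh.tensorBi.obj P).obj A'
  haveI hOq : O.IsQuasicoherent := inferInstance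
  haveI hPq : P.IsQuasicoherent := Groth.Agent.Lib.Helper23.Serre.isQuasicoherent_freeMod r
  haveI hAq : A.IsQuasicoherent := Groth.Agent.Lib.Helper23.SecTw.isQuasicoherent_of_isInvertible A hA
  haveI hA'q : A'.IsQuasicoherent :=
    Groth.Agent.Lib.Helper23.SecTw.isQuasicoherent_of_isInvertible A' hA'
  haveI hMq : M.IsQuasicoherent := hM
  have hEq : E.IsQuasicoherent := Groth.Agent.Lib.Helper23.TensorQCoh.isQuasicoherent_tensorMod P A'
  have hNq : N.IsQuasicoherent := Groth.Agent.Lib.Helper23.TensorQCoh.isQuasicoherent_tensorMod M A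
  -- the epimorphism `σ' : E ⟶ O`
  let σ₁ : E ⟶ (DCoh.tensorBi.obj A).obj A' := (DCoh.tensorBi.map σ).app A'
  have hσ1 : Epi σ₁ := epi_tensorBi_map_app σ hs A'
  let σ' : E ⟶ O := σ₁ ≫ e.hom
  haveI : Epi σ' := @epi_comp _ _ _ _ _ σ₁ hσ1 e.hom inferInstance
  -- vanishing of `H¹(E ⊗ (E ⊗ N))`
  have hvanE : Subsingleton (Coh.HH X ((DCoh.tensorBi.obj E).obj ((DCoh.tensorBi.obj E).obj N)) 1) := by
    let Φ₁ : X.Modules ⥤ X.Modules := twR A' ⋙ twR ((DCoh.tensorBi.obj E).obj N)
    let Φ₂ : X.Modules ⥤ X.Modules :=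
      twR A' ⋙ twR N ⋙ DCoh.tensorBi.obj ((DCoh.tensorBi.obj O).obj A')
    have h2 : Subsingleton (Coh.HH X (Φ₂.obj P) 1) := subsingleton_HH_map_free Φ₂ r 1 hvan
    exact subsingleton_HH_map_free Φ₁ r 1 h2
  -- the functor `F' = (- ⊗ A') ⊗ N` and the natural isomorphism `θ : F' ≅ M ⊗ -`
  let F' : X.Modules ⥤ X.Modules := twR A' ⋙ twR N
  let ψ : CohB1.tensorMod A' N ≅ M :=
    Groth.Agent.Lib.R2H3.NegTwist.braidMod A' N ≪≫ Groth.Agent.Lib.R2H2.AmpleRes.cancelIso M A A' e
  let θ : F' ≅ DCoh.tensorBi.obj M := thetaGen A' N ≪≫ twRIso ψ ≪≫ (twIso M).symm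
  let βI : F'.obj A ≅ N :=
    Iso.trans ((DCoh.tensorBi.mapIso e).app N) (lamX.app N)
  have hact : act DCoh.tensorBi lamX σ' N = F'.map σ ≫ βI.hom := by
    change (DCoh.tensorBi.map (σ₁ ≫ e.hom)).app N ≫ lamX.hom.app N = _
    rw [Functor.map_comp, NatTrans.comp_app, Category.assoc]
    rfl
  let γI : (DCoh.tensorBi.obj M).obj A ≅ N := Iso.trans (θ.app A).symm βI
  obtain ⟨π, hπ⟩ := exists_proj (X := X) r
  obtain ⟨τ', hτ'⟩ : ∃ τ' : O ⟶ F'.obj P, τ' ≫ F'.map σ ≫ βI.hom = x ≫ γI.hom := by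
    obtain ⟨t, ht⟩ := exists_lift X hrex hEq hNq σ' hvanE (x ≫ γI.hom)
    exact ⟨t, (congrArg (fun m => t ≫ m) hact.symm).trans ht⟩
  refine ⟨fun j => τ' ≫ F'.map (π j) ≫ θ.hom.app O, ?_⟩
  apply (cancel_mono γI.hom).1
  rw [← hτ', Preadditive.sum_comp]
  haveI : F'.Additive := inferInstanceAs ((twR A' ⋙ twR N).Additive)
  have hF : ∑ j, F'.map (π j) ≫ F'.map (Sigma.ι (fun _ : Fin r => O) j) = 𝟙 (F'.obj P) := by
    have h2 : ∀ j : Fin r, F'.map (π j) ≫ F'.map (Sigma.ι (fun _ : Fin r => O) j) =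
        F'.map (π j ≫ Sigma.ι (fun _ : Fin r => O) j) := fun j => (F'.map_comp _ _).symm
    rw [Finset.sum_congr rfl (fun j _ => h2 j), ← F'.map_sum, hπ, F'.map_id]
  have h1 : τ' = ∑ j, τ' ≫ F'.map (π j) ≫ F'.map (Sigma.ι (fun _ : Fin r => O) j) := by
    rw [← Preadditive.comp_sum, hF]
    exact (Category.comp_id τ').symm
  conv_lhs => rw [h1]
  rw [Preadditive.sum_comp]
  refine Finset.sum_congr rfl (fun j _ => ?_)
  have h3 : Sigma.ι (fun _ : Fin r => O) j ≫ σ = s j := Sigma.ι_desc _ _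
  have h4 : F'.map (s j) ≫ θ.hom.app A = θ.hom.app O ≫ (DCoh.tensorBi.obj M).map (s j) :=
    θ.hom.naturality (s j)
  have h5 : F'.map (s j) = θ.hom.app O ≫ (DCoh.tensorBi.obj M).map (s j) ≫ θ.inv.app A := by
    rw [← Category.assoc, ← h4, Category.assoc, Iso.hom_inv_id_app, Category.comp_id]
  have h6 : F'.map (Sigma.ι (fun _ : Fin r => O) j) ≫ F'.map σ = F'.map (s j) := by
    rw [← Functor.map_comp, h3]
  have h7 : γI.hom = θ.inv.app A ≫ βI.hom := rfl
  rw [h7]
  simp only [Category.assoc]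
  rw [← Category.assoc (F'.map (Sigma.ι (fun _ : Fin r => O) j)), h6, h5]
  simp only [Category.assoc]

open Groth.Agent.Lib.Helper23.SecTw in
theorem span_eq_top (hrex : Rex X) (A A' : X.Modules)
    (hA : PicF.IsInvertible A) (hA' : PicF.IsInvertible A')
    (e : (DCoh.tensorBi.obj A).obj A' ≅ Coh.structureModule X) (r : ℕ)
    (s : Fin r → (Coh.structureModule X ⟶ A))
    (hs : Epi (Sigma.desc s : (∐ fun _ : Fin r => Coh.structureModule X) ⟶ A))
    (M : X.Modules) (hM : Coh.IsQCoh M)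
    (hvan : Subsingleton (Coh.HH X
      ((DCoh.tensorBi.obj ((DCoh.tensorBi.obj (Coh.structureModule X)).obj A')).obj
        ((DCoh.tensorBi.obj ((DCoh.tensorBi.obj (Coh.structureModule X)).obj A')).obj
          ((DCoh.tensorBi.obj M).obj A))) 1)) :
    spanT M A = ⊤ := by
  rw [eq_top_iff]
  intro z _
  obtain ⟨u, hu⟩ := exists_sum_sections X hrex A A' hA hA' e r s hs M hM hvan
    (secHom (CohB1.tensorMod M A) z)
  have hz : z = sv (secHom (CohB1.tensorMod M A) z) ⊤ :=
    (Groth.Agent.Lib.R2H2.PnGG.sv_top_secHom' (CohB1.tensorMod M A) z).symm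
  have h1 : sv (secHom (CohB1.tensorMod M A) z) ⊤ =
      ∑ i, sv (u i ≫ (DCoh.tensorBi.obj M).map (s i)) ⊤ :=
    (congrArg (fun w : Coh.structureModule X ⟶ CohB1.tensorMod M A => sv w ⊤) hu).trans
      (sv_sum _ _)
  have h2 : (∑ i, sv (u i ≫ (DCoh.tensorBi.obj M).map (s i)) ⊤ :
      (CohB1.tensorMod M A).val.obj (op ⊤)) ∈ spanT M A :=
    Submodule.sum_mem _ (fun i _ => sv_whisker_mem M A (u i) (s i))
  exact (congrArg (fun w : (CohB1.tensorMod M A).val.obj (op ⊤) => w ∈ spanT M A)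
    (hz.trans h1)).mpr h2

theorem subsingleton_HH_tensorPow_succ (hrex : Rex X) (A : X.Modules)
    (hA : PicF.IsInvertible A) (r : ℕ) (s : Fin r → (Coh.structureModule X ⟶ A))
    (hs : Epi (Sigma.desc s : (∐ fun _ : Fin r => Coh.structureModule X) ⟶ A)) (j : ℕ)
    (h : Subsingleton (Coh.HH X (CohB1.tensorPow A j) 1)) :
    Subsingleton (Coh.HH X (CohB1.tensorPow A (j + 1)) 1) := by
  let B := CohB1.tensorPow A j
  let P : X.Modules := ∐ fun _ : Fin r => Coh.structureModule X
  haveI hBq : B.IsQuasicoherent :=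
    Groth.Agent.Lib.Helper23.SecTw.isQuasicoherent_of_isInvertible B
      (Groth.Agent.Lib.Helper23.SecTw.isInvertible_tensorPow hA j)
  haveI hAq : A.IsQuasicoherent := Groth.Agent.Lib.Helper23.SecTw.isQuasicoherent_of_isInvertible A hA
  haveI hPq : P.IsQuasicoherent := Groth.Agent.Lib.Helper23.Serre.isQuasicoherent_freeMod r
  have q1 : ((DCoh.tensorBi.obj B).obj P).IsQuasicoherent :=
    Groth.Agent.Lib.Helper23.TensorQCoh.isQuasicoherent_tensorMod B P
  have q2 : ((DCoh.tensorBi.obj B).obj A).IsQuasicoherent :=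
    Groth.Agent.Lib.Helper23.TensorQCoh.isQuasicoherent_tensorMod B A
  have h0 : Subsingleton (Coh.HH X ((DCoh.tensorBi.obj B).obj (Coh.structureModule X)) 1) :=
    subsingleton_HH_of_iso (Groth.Agent.Lib.Helper23.TensorUnit.tensorUnitIso B).symm 1 h
  have h1 : Subsingleton (Coh.HH X ((DCoh.tensorBi.obj B).obj P) 1) :=
    subsingleton_HH_map_free (DCoh.tensorBi.obj B) r 1 h0
  have hE : Epi ((DCoh.tensorBi.obj B).map (Sigma.desc s : P ⟶ A)) := epi_tensorBi_obj_map B _ hs
  exact hrex _ _ q1 q2 ((DCoh.tensorBi.obj B).map (Sigma.desc s : P ⟶ A)) hE h1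

/-- **normal generation step**: `A` invertible and globally generated, `H¹(A^m) = 0`; then
`Γ(A^{m+1}) ⊗ Γ(A) → Γ(A^{m+2})` is surjective. -/
theorem span_tensorPow_succ (hrex : Rex X) (A : X.Modules)
    (hA : PicF.IsInvertible A)
    (hcov : ∀ x : X, ∃ t : Coh.structureModule X ⟶ A, x ∈ CohB1.genLocus A t) (m : ℕ)
    (h : Subsingleton (Coh.HH X (CohB1.tensorPow A m) 1)) :
    spanT (CohB1.tensorPow A (m + 1)) A = ⊤ := by
  obtain ⟨r, s, hs⟩ := exists_generating_of_cover A hcov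
  obtain ⟨A', hA', ⟨e⟩⟩ := Groth.Agent.Lib.R2H4InvExists.exists_inverse A hA
  have hMq : Coh.IsQCoh (CohB1.tensorPow A (m + 1)) :=
    Groth.Agent.Lib.Helper23.SecTw.isQuasicoherent_of_isInvertible _
      (Groth.Agent.Lib.Helper23.SecTw.isInvertible_tensorPow hA (m + 1))
  exact span_eq_top X hrex A A' hA hA' e r s hs (CohB1.tensorPow A (m + 1)) hMq
    (hvan_of A A' e (CohB1.tensorPow A m) h)

theorem subsingleton_HH_tensorPow_of_le (hrex : Rex X) (A : X.Modules)
    (hA : PicF.IsInvertible A)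
    (hcov : ∀ x : X, ∃ t : Coh.structureModule X ⟶ A, x ∈ CohB1.genLocus A t) (m : ℕ)
    (h : Subsingleton (Coh.HH X (CohB1.tensorPow A m) 1)) (j : ℕ) (hj : m ≤ j) :
    Subsingleton (Coh.HH X (CohB1.tensorPow A j) 1) := by
  obtain ⟨r, s, hs⟩ := exists_generating_of_cover A hcov
  induction j, hj using Nat.le_induction with
  | base => exact h
  | succ j _ ih => exact subsingleton_HH_tensorPow_succ X hrex A hA r s hs j ih

end Curve

end Groth.Agent.Lib.Helper8RelNG
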