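import Mathlib
import Groth.Prelude.Def_ClSub2
import Groth.Agent.Lib.Helper21SheafHomFree
import Groth.Agent.Lib.Helper21Dual1
import Groth.Agent.Lib.Helper23Serre
import Groth.Agent.Lib.R2H2DevE

/-!
# Closed immersions: the unit `N → N ⊗ i_*O_X` (helper3, round 2)

For a closed immersion `i : X ⟶ P`, `B = i_* O_X` and `π : O_P ⟶ B`:

* `epi_unitToPush` : `π` is an epimorphism;
* `η i : 𝟭 ⟶ - ⊗ B`, an epimorphism on every object (`epi_η_app`);
* `mono_η_push` : `η` is a monomorphism (hence an isomorphism) on every `i_* F`.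
-/

set_option autoImplicit false
set_option linter.unusedSectionVars false
set_option linter.style.haveILetI false
universe u

namespace Groth.Agent.Lib.R2H3.ClosedTensor

open CategoryTheory CategoryTheory.Limits AlgebraicGeometry Opposite MonoidalCategory
open Groth.Agent.Lib.Helper21.ModTensor Groth.Agent.Lib.Helper21.ModTensor2
  Groth.Agent.Lib.Helper21.ModTensor3 Groth.Agent.Lib.Helper21.ModTensor5
  Groth.Agent.Lib.Helper21.ModTensor7 Groth.Agent.Lib.Helper21.SheafHomFree
  Groth.Agent.Lib.Helper21.Dual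

section Site

variable {C : Type u} [SmallCategory C] {J : GrothendieckTopology C} (O : Sheaf J CommRingCat.{u})

/-- the right unit isomorphism in terms of the right unitor of presheaves -/
theorem tRUnitIso_hom_app (A : ModSite.Mod O) :
    (tRUnitIso O).hom.app A =
      (shf O).map (ρ_ ((fgt O).obj A : PM O)).hom ≫ (adj O).counit.app A := by
  have h1 : (tRUnitIso O).hom.app A =
      (shf O).map (β_ ((fgt O).obj (ModSite.unit O) : PM O) ((fgt O).obj A)).inv ≫
        ((shf O).map (λ_ ((fgt O).obj A : PM O)).hom ≫ (adj O).counit.app A) := rfl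
  rw [h1, ← Category.assoc, ← Functor.map_comp]
  congr 2
  change (β_ (𝟙_ (PM O)) ((fgt O).obj A)).inv ≫ (λ_ ((fgt O).obj A : PM O)).hom = _
  rw [← braiding_rightUnitor, Iso.inv_hom_id_assoc]

/-- a map `K → O` whose composite with the action on `M` vanishes sectionwise is killed by
`M ⊗ -` followed by the unit isomorphism -/
theorem tL_map_comp_tRUnitIso_eq_zero (M K : ModSite.Mod O) (κ : K ⟶ ModSite.unit O)
    (h : ∀ (U : Cᵒᵖ) (a : K.val.obj U) (m : M.val.obj U),
      (show (ModSite.ringSh O).obj.obj U from (κ.val.app U) a) • m = 0) :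
    (tL O M).map κ ≫ (tRUnitIso O).hom.app M = 0 := by
  have h0 : ((fgt O).obj M ◁ (fgt O).map κ : ((fgt O).obj M ⊗ (fgt O).obj K : PM O) ⟶ _) ≫
      (ρ_ ((fgt O).obj M : PM O)).hom = 0 := by
    apply PresheafOfModules.hom_ext
    intro U
    apply ModuleCat.MonoidalCategory.tensor_ext
    intro m a
    exact h U a m
  have e1 : (tL O M).map κ ≫ (tRUnitIso O).hom.app M =
      (shf O).map (((fgt O).obj M ◁ (fgt O).map κ :
        ((fgt O).obj M ⊗ (fgt O).obj K : PM O) ⟶ _) ≫ (ρ_ ((fgt O).obj M : PM O)).hom) ≫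
        (adj O).counit.app M := by
    rw [tRUnitIso_hom_app, Functor.map_comp, Category.assoc]
    rfl
  rw [e1, h0, Functor.map_zero]
  exact zero_comp


/-- the unit `N ⟶ N ⊗ B` attached to a map `π : O ⟶ B` -/
noncomputable def ηOf {B : ModSite.Mod O} (π : ModSite.unit O ⟶ B) :
    𝟭 (ModSite.Mod O) ⟶ tR O B :=
  (tRUnitIso O).inv ≫ (ModSite.tensorBi O).flip.map π

theorem ηOf_app {B : ModSite.Mod O} (π : ModSite.unit O ⟶ B) (N : ModSite.Mod O) :
    (ηOf O π).app N = (tRUnitIso O).inv.app N ≫ (tL O N).map π := rfl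

instance epi_ηOf_app {B : ModSite.Mod O} (π : ModSite.unit O ⟶ B) [Epi π] (N : ModSite.Mod O) :
    Epi ((ηOf O π).app N) := by
  rw [ηOf_app]
  infer_instance

/-- if every local section of `O` killed by `π` acts as zero on `M`, then `M ⟶ M ⊗ B` is a
monomorphism -/
theorem mono_ηOf_app {B : ModSite.Mod O} (π : ModSite.unit O ⟶ B) [Epi π] (M : ModSite.Mod O)
    (h : ∀ (U : Cᵒᵖ) (a : (ModSite.unit O).val.obj U) (m : M.val.obj U),
      π.val.app U a = 0 → (show (ModSite.ringSh O).obj.obj U from a) • m = 0) :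
    Mono ((ηOf O π).app M) := by
  let S : ShortComplex (ModSite.Mod O) := ShortComplex.mk (kernel.ι π) π (kernel.condition π)
  have hS : S.Exact := ShortComplex.exact_kernel π
  haveI : Epi S.g := inferInstanceAs (Epi π)
  have hS' : (S.map (tL O M)).Exact := hS.map_of_epi_of_preservesCokernel (tL O M) inferInstance inferInstance
  have h0 : (S.map (tL O M)).f = 0 := by
    have h1 : (tL O M).map (kernel.ι π) ≫ (tRUnitIso O).hom.app M = 0 := by
      apply tL_map_comp_tRUnitIso_eq_zero
      intro U a m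
      apply h
      have h2 : kernel.ι π ≫ π = 0 := kernel.condition π
      have h3 := congrArg (fun φ : kernel π ⟶ B => φ.val.app U a) h2
      exact h3
    have h4 : (tL O M).map (kernel.ι π) =
        ((tL O M).map (kernel.ι π) ≫ (tRUnitIso O).hom.app M) ≫ (tRUnitIso O).inv.app M := by
      rw [Category.assoc, Iso.hom_inv_id_app]
      exact (Category.comp_id _).symm
    change (tL O M).map (kernel.ι π) = 0
    rw [h4, h1, zero_comp]
  haveI : Mono ((tL O M).map π) := hS'.mono_g h0
  rw [ηOf_app]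
  infer_instance

end Site

section Scheme

variable {X P : Scheme.{u}} (ι : X ⟶ P)

theorem unitToPush_app (W : P.Opens) (a : Γ(P, W)) :
    (ClSub.unitToPush ι).app W a = ι.app W a := rfl

instance epi_unitToPush [IsClosedImmersion ι] : Epi (ClSub.unitToPush ι) := by
  apply Groth.Agent.Lib.Helper23.Serre.epi_of_locally_surjective
  intro V t x hx
  obtain ⟨_, ⟨V', hV', rfl⟩, hxV', hle⟩ :=
    P.isBasis_affineOpens.exists_subset_of_mem_open hx V.isOpen
  refine ⟨V', hle, hxV', ?_⟩
  obtain ⟨a, ha⟩ := ι.app_surjective V' hV'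
    (((Scheme.Modules.pushforward ι).obj
      (Coh.structureModule X)).presheaf.map (homOfLE hle).op t)
  exact ⟨a, ha⟩

/-- `ι_* O_X` as a module on the site of `P` -/
noncomputable abbrev pushO : ModSite.Mod P.sheaf :=
  (Scheme.Modules.pushforward ι).obj (Coh.structureModule X)

/-- `O_P ⟶ ι_* O_X` in `ModSite.Mod P.sheaf` -/
noncomputable def πS : ModSite.unit P.sheaf ⟶ pushO ι := ClSub.unitToPush ι

instance epi_πS [IsClosedImmersion ι] : Epi (πS ι) := epi_unitToPush ι

/-- the unit `N ⟶ N ⊗ ι_* O_X` -/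
noncomputable def η : 𝟭 (ModSite.Mod P.sheaf) ⟶ (ModSite.tensorBi P.sheaf).flip.obj (pushO ι) :=
  ηOf P.sheaf (πS ι)

instance epi_η_app [IsClosedImmersion ι] (N : ModSite.Mod P.sheaf) : Epi ((η ι).app N) :=
  epi_ηOf_app P.sheaf (πS ι) N

theorem mono_η_push [IsClosedImmersion ι] (F : X.Modules) :
    Mono ((η ι).app ((Scheme.Modules.pushforward ι).obj F)) := by
  apply mono_ηOf_app
  intro U a m ha
  have h1 : ι.app U.unop a = 0 := ha
  change ((ι.app U.unop).hom a • (show Γ(F, ι ⁻¹ᵁ U.unop) from m) : Γ(F, ι ⁻¹ᵁ U.unop)) = 0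
  rw [h1, zero_smul]

end Scheme

end Groth.Agent.Lib.R2H3.ClosedTensor
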