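import Mathlib
import Groth.Agent.Lib.Helper4FibDimG
import Groth.Agent.Lib.Helper4FibDimH
import Groth.Agent.Lib.Helper4FibDimK
import Groth.Agent.Lib.Helper22FTIdeal
import Groth.Agent.Lib.Helper22FTLimit

/-!
# Fibre dimension of closed subschemes cut out by a directed family of ideal sheaves

(helper3, round 2)  Topological lemmas on the local dimension of fibres of subspaces, Noetherianity
of fibres of morphisms of finite type, stabilisation of a directed family of closed subschemes on a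
fibre, and the consequence: if the fibres of `V(sSup 𝓕) → S` have dimension `≤ d` then so do the
fibres of `V(J) → S` for some `J ∈ 𝓕` (X quasi-compact).
-/

set_option autoImplicit false
set_option linter.unusedSectionVars false
set_option linter.style.haveILetI false
universe u
open CategoryTheory CategoryTheory.Limits AlgebraicGeometry TopologicalSpace Topology

namespace Groth.Agent.Lib.R2H3.FibDimLimA

open Groth.Agent.Lib.Helper4.FibDim Groth.Agent.Lib.Helper7.TopDim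

section top

variable {A A' B Y : Type*} [TopologicalSpace A] [TopologicalSpace A'] [TopologicalSpace B]

/-- the local dimension of a subspace is at most that of the ambient space. -/
lemma localDim_le_of_isInducing (j : A → B) (hj : IsInducing j) (a : A) :
    FlatMor.localDim A a ≤ FlatMor.localDim B (j a) := by
  unfold FlatMor.localDim
  refine le_iInf fun U => ?_
  let V : Opens A := ⟨j ⁻¹' (U.1 : Set B), U.1.2.preimage hj.continuous⟩
  refine (iInf_le _ (⟨V, U.2⟩ : {V : Opens A // a ∈ V})).trans ?_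
  exact ((U.1 : Set B).restrictPreimage_isInducing hj).topologicalKrullDim_le

/-- fibrewise local dimension can only drop on a subspace. -/
lemma fibLD_comp_le (φ : B → Y) (j : A → B) (hj : IsInducing j) (z : A) :
    fibLD (φ ∘ j) z ≤ fibLD φ (j z) := by
  unfold fibLD
  have h : (φ ∘ j) ⁻¹' {(φ ∘ j) z} = j ⁻¹' (φ ⁻¹' {φ (j z)}) := rfl
  rw [localDim_congr_set h z rfl]
  exact localDim_le_of_isInducing _ ((φ ⁻¹' {φ (j z)}).restrictPreimage_isInducing hj) ⟨z, rfl⟩

/-- fibrewise local dimension through a homeomorphism. -/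
lemma fibLD_comp_homeomorph (φ : B → Y) (e : A ≃ₜ B) (z : A) :
    fibLD (φ ∘ e) z = fibLD φ (e z) :=
  fibLD_comp_isOpenEmbedding φ e e.isOpenEmbedding z

/-- the fibrewise local dimension of `φ` restricted to a subset `C`. -/
noncomputable def FD (φ : B → Y) (C : Set B) (x : B) (hx : x ∈ C) : WithBot ℕ∞ :=
  fibLD (φ ∘ (Subtype.val : C → B)) ⟨x, hx⟩

lemma FD_mono (φ : B → Y) {C C' : Set B} (h : C' ⊆ C) (x : B) (hx : x ∈ C') :
    FD φ C' x hx ≤ FD φ C x (h hx) := by
  unfold FD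
  exact fibLD_comp_le (φ ∘ (Subtype.val : C → B)) (Set.inclusion h)
    (IsInducing.of_comp (continuous_inclusion h) continuous_subtype_val
      (by
        have : (Subtype.val : C → B) ∘ Set.inclusion h = (Subtype.val : C' → B) := rfl
        rw [this]; exact IsInducing.subtypeVal)) ⟨x, hx⟩

lemma fibLD_comp_eq_FD (φ : B → Y) (j : A → B) (hj : IsEmbedding j) (z : A) :
    fibLD (φ ∘ j) z = FD φ (Set.range j) (j z) ⟨z, rfl⟩ := by
  unfold FD
  have h := fibLD_comp_homeomorph (φ ∘ (Subtype.val : Set.range j → B)) hj.toHomeomorph z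
  exact h

/-- the homeomorphism between the fibre of `φ` restricted to `C` and `C ∩ φ⁻¹{y}`. -/
lemma FD_eq_localDim (φ : B → Y) (C : Set B) (x : B) (hx : x ∈ C) :
    FD φ C x hx = FlatMor.localDim ↥(C ∩ φ ⁻¹' {φ x}) ⟨x, hx, rfl⟩ := by
  unfold FD fibLD
  let g : ↥((φ ∘ (Subtype.val : C → B)) ⁻¹' {(φ ∘ (Subtype.val : C → B)) ⟨x, hx⟩}) →
      ↥(C ∩ φ ⁻¹' {φ x}) := fun w => ⟨w.1.1, w.1.2, w.2⟩
  have hg : IsEmbedding g := by
    have h1 : IsEmbedding (fun w : ↥((φ ∘ (Subtype.val : C → B)) ⁻¹'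
        {(φ ∘ (Subtype.val : C → B)) ⟨x, hx⟩}) => (w.1.1 : B)) :=
      IsEmbedding.subtypeVal.comp IsEmbedding.subtypeVal
    exact IsEmbedding.of_comp (Continuous.subtype_mk h1.continuous _) continuous_subtype_val h1
  have hsurj : Function.Surjective g := by
    rintro ⟨y, hyC, hy⟩
    exact ⟨⟨⟨y, hyC⟩, hy⟩, rfl⟩
  exact localDim_eq_of_homeomorph (hg.toHomeomorphOfSurjective hsurj) ⟨⟨x, hx⟩, rfl⟩

lemma FD_congr (φ : B → Y) {C C' : Set B} (x : B) (hx : x ∈ C) (hx' : x ∈ C')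
    (h : C ∩ φ ⁻¹' {φ x} = C' ∩ φ ⁻¹' {φ x}) : FD φ C x hx = FD φ C' x hx' := by
  rw [FD_eq_localDim, FD_eq_localDim]
  exact localDim_congr_set h x ⟨hx, rfl⟩

end top

section scheme

variable {X S : Scheme.{u}} (f : X ⟶ S)

lemma coe_comp {Z : Scheme.{u}} (ι : Z ⟶ X) : (⇑(ι ≫ f) : Z → S) = ⇑f ∘ ⇑ι := by
  ext z
  simp

/-- the local fibre dimension of a subscheme, in terms of its range. -/
theorem fibreDimAt_comp_eq_FD {Z : Scheme.{u}} (ι : Z ⟶ X) [IsPreimmersion ι] (z : Z) :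
    FlatMor.fibreDimAt (ι ≫ f) z = FD f (Set.range ι) (ι z) ⟨z, rfl⟩ := by
  rw [fibreDimAt_eq_fibLD, coe_comp]
  exact fibLD_comp_eq_FD f ι ι.isEmbedding z

lemma FD_point_congr {B Y : Type*} [TopologicalSpace B] (φ : B → Y) (C : Set B) {x x' : B}
    (h : x = x') (hx : x ∈ C) : FD φ C x hx = FD φ C x' (h ▸ hx) := by
  subst h; rfl

/-- two subschemes with the same range have the same local fibre dimensions. -/
theorem fibreDimAt_comp_eq_of_range_eq {Z Z' : Scheme.{u}} (ι : Z ⟶ X) (ι' : Z' ⟶ X)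
    [IsPreimmersion ι] [IsPreimmersion ι'] (z : Z) (z' : Z') (hz : ι z = ι' z')
    (hr : Set.range ι = Set.range ι') :
    FlatMor.fibreDimAt (ι ≫ f) z = FlatMor.fibreDimAt (ι' ≫ f) z' := by
  rw [fibreDimAt_comp_eq_FD, fibreDimAt_comp_eq_FD]
  have h1 : FD f (Set.range ι) (ι z) ⟨z, rfl⟩ = FD f (Set.range ι') (ι z) (hr ▸ ⟨z, rfl⟩) := by
    apply FD_congr
    rw [hr]
  rw [h1]
  exact FD_point_congr f (Set.range ι') hz _

theorem fibreDimAt_comp_le {Z : Scheme.{u}} (ι : Z ⟶ X) [IsPreimmersion ι] (z : Z) :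
    FlatMor.fibreDimAt (ι ≫ f) z ≤ FlatMor.fibreDimAt f (ι z) := by
  rw [fibreDimAt_eq_fibLD, fibreDimAt_eq_fibLD, coe_comp]
  exact fibLD_comp_le f ι ι.isEmbedding.isInducing z

instance isNoetherian_fiber [LocallyOfFiniteType f] [QuasiCompact f] (s : S) :
    IsNoetherian (f.fiber s) := by
  haveI : LocallyOfFiniteType (f.fiberToSpecResidueField s) :=
    MorphismProperty.pullback_snd _ _ inferInstance
  haveI : IsLocallyNoetherian (f.fiber s) :=
    LocallyOfFiniteType.isLocallyNoetherian (f.fiberToSpecResidueField s)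
  exact {}

theorem noetherianSpace_fibre [LocallyOfFiniteType f] [QuasiCompact f] (s : S) :
    NoetherianSpace ↥((f : X → S) ⁻¹' {s}) :=
  noetherianSpace_of_surjective (f.fiberHomeo s) (f.fiberHomeo s).continuous
    (f.fiberHomeo s).surjective

/-- **Stabilisation on a fibre.** -/
theorem exists_support_inter_fibre_eq [LocallyOfFiniteType f] [QuasiCompact f]
    (𝓕 : Set X.IdealSheafData) (hne : 𝓕.Nonempty) (hdir : DirectedOn (· ≤ ·) 𝓕) (s : S) :
    ∃ J ∈ 𝓕, ((J.support : Set X) ∩ (f : X → S) ⁻¹' {s}) =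
      (((sSup 𝓕).support : Set X) ∩ (f : X → S) ⁻¹' {s}) := by
  haveI := noetherianSpace_fibre f s
  let O : X.IdealSheafData → Opens ↥((f : X → S) ⁻¹' {s}) := fun J =>
    ⟨Subtype.val ⁻¹' ((J.support : Set X)ᶜ),
      (J.support.isClosed.isOpen_compl).preimage continuous_subtype_val⟩
  have hO : ∀ {J J' : X.IdealSheafData}, J ≤ J' → O J ≤ O J' := by
    intro J J' h y hy
    exact fun hy' => hy (Scheme.IdealSheafData.support_antitone h hy')
  have hwf : WellFoundedGT (Opens ↥((f : X → S) ⁻¹' {s})) := ‹NoetherianSpace _›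
  obtain ⟨J₀, hJ₀⟩ := hne
  obtain ⟨U, ⟨J₁, hJ₁, rfl⟩, hmax⟩ := hwf.wf.has_min (O '' 𝓕) ⟨O J₀, J₀, hJ₀, rfl⟩
  refine ⟨J₁, hJ₁, ?_⟩
  apply Set.Subset.antisymm
  · rintro x ⟨hx, hxs⟩
    refine ⟨?_, hxs⟩
    by_contra hcon
    rw [Scheme.IdealSheafData.support_sSup] at hcon
    have hcon' : ¬ ∀ J ∈ 𝓕, x ∈ (J.support : Set X) := by
      intro h
      apply hcon
      simp only [Closeds.coe_iInf, Set.mem_iInter]
      intro J hJ
      exact h J hJ
    push Not at hcon'
    obtain ⟨J₂, hJ₂, hx₂⟩ := hcon'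
    obtain ⟨J₃, hJ₃, h13, h23⟩ := hdir J₁ hJ₁ J₂ hJ₂
    have hle : O J₁ ≤ O J₃ := hO h13
    have hnlt : ¬ O J₁ < O J₃ := fun hlt => hmax (O J₃) ⟨J₃, hJ₃, rfl⟩ hlt
    have heq : O J₁ = O J₃ := by
      by_contra hne'
      exact hnlt (lt_of_le_of_ne hle hne')
    have hx3 : (⟨x, hxs⟩ : ↥((f : X → S) ⁻¹' {s})) ∈ O J₃ :=
      fun h3 => hx₂ (Scheme.IdealSheafData.support_antitone h23 h3)
    rw [← heq] at hx3
    exact hx3 hx
  · rintro x ⟨hx, hxs⟩
    exact ⟨Scheme.IdealSheafData.support_antitone (le_sSup hJ₁) hx, hxs⟩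

/-- the closed set of points of `V(J)` at which the fibre of `V(J) → S` has local dimension
`≥ d + 1`, as a subset of `X`. -/
def bad (J : X.IdealSheafData) (d : ℕ) : Set X :=
  J.subschemeι '' {z | ((d + 1 : ℕ) : WithBot ℕ∞) ≤ FlatMor.fibreDimAt (J.subschemeι ≫ f) z}

theorem isClosed_bad [LocallyOfFiniteType f] (J : X.IdealSheafData) (d : ℕ) :
    IsClosed (bad f J d) := by
  haveI : LocallyOfFiniteType (J.subschemeι ≫ f) := inferInstance
  exact J.subschemeι.isClosedEmbedding.isClosedMap _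
    (isClosed_setOf_natCast_le_fibreDimAt (J.subschemeι ≫ f) (d + 1))

theorem mem_bad_iff (J : X.IdealSheafData) (d : ℕ) (x : X) :
    x ∈ bad f J d ↔ ∃ hx : x ∈ (J.support : Set X),
      ((d + 1 : ℕ) : WithBot ℕ∞) ≤ FD f (J.support : Set X) x hx := by
  constructor
  · rintro ⟨z, hz, rfl⟩
    have hr : Set.range J.subschemeι = (J.support : Set X) := J.range_subschemeι
    have hmem : J.subschemeι z ∈ (J.support : Set X) := hr ▸ ⟨z, rfl⟩
    refine ⟨hmem, ?_⟩
    have h1 := fibreDimAt_comp_eq_FD f J.subschemeι z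
    have h2 : FD f (Set.range J.subschemeι) (J.subschemeι z) ⟨z, rfl⟩ =
        FD f (J.support : Set X) (J.subschemeι z) hmem := by
      apply FD_congr
      rw [hr]
    have hz' : ((d + 1 : ℕ) : WithBot ℕ∞) ≤ FlatMor.fibreDimAt (J.subschemeι ≫ f) z := hz
    rw [h1, h2] at hz'
    exact hz'
  · rintro ⟨hx, h⟩
    have hr : Set.range J.subschemeι = (J.support : Set X) := J.range_subschemeι
    obtain ⟨z, rfl⟩ : x ∈ Set.range J.subschemeι := hr ▸ hx
    refine ⟨z, ?_, rfl⟩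
    show ((d + 1 : ℕ) : WithBot ℕ∞) ≤ FlatMor.fibreDimAt (J.subschemeι ≫ f) z
    rw [fibreDimAt_comp_eq_FD f J.subschemeι z]
    have h2 : FD f (Set.range J.subschemeι) (J.subschemeι z) ⟨z, rfl⟩ =
        FD f (J.support : Set X) (J.subschemeι z) hx := by
      apply FD_congr
      rw [hr]
    rw [h2]
    exact h

theorem bad_antitone {J J' : X.IdealSheafData} (h : J ≤ J') (d : ℕ) : bad f J' d ⊆ bad f J d := by
  intro x hx
  rw [mem_bad_iff] at hx ⊢
  obtain ⟨hx', hd⟩ := hx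
  exact ⟨Scheme.IdealSheafData.support_antitone h hx',
    hd.trans (FD_mono f (Scheme.IdealSheafData.support_antitone h) x hx')⟩

theorem iInter_bad_subset [LocallyOfFiniteType f] [QuasiCompact f]
    (𝓕 : Set X.IdealSheafData) (hne : 𝓕.Nonempty) (hdir : DirectedOn (· ≤ ·) 𝓕) (d : ℕ) :
    (⋂ J ∈ 𝓕, bad f J d) ⊆ bad f (sSup 𝓕) d := by
  intro x hx
  simp only [Set.mem_iInter] at hx
  obtain ⟨J₁, hJ₁, heq⟩ := exists_support_inter_fibre_eq f 𝓕 hne hdir (f x)
  have h1 := hx J₁ hJ₁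
  rw [mem_bad_iff] at h1 ⊢
  obtain ⟨hx₁, hd₁⟩ := h1
  have hxI : x ∈ ((sSup 𝓕).support : Set X) := by
    have : x ∈ ((J₁.support : Set X) ∩ (f : X → S) ⁻¹' {f x}) := ⟨hx₁, rfl⟩
    rw [heq] at this
    exact this.1
  refine ⟨hxI, ?_⟩
  rw [← FD_congr f x hx₁ hxI heq]
  exact hd₁

/-- **Key theorem.**  If the fibres of `V(sSup 𝓕) → S` have local dimension `≤ d` everywhere and `X`
is quasi-compact, then the same holds for `V(J) → S` for some `J ∈ 𝓕`. -/
theorem exists_forall_fibreDimAt_le [LocallyOfFiniteType f] [QuasiCompact f] [CompactSpace X]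
    (𝓕 : Set X.IdealSheafData) (hne : 𝓕.Nonempty) (hdir : DirectedOn (· ≤ ·) 𝓕) (d : ℕ)
    (hd : ∀ z : (sSup 𝓕).subscheme, FlatMor.fibreDimAt ((sSup 𝓕).subschemeι ≫ f) z ≤ d) :
    ∃ J ∈ 𝓕, ∀ z : J.subscheme, FlatMor.fibreDimAt (J.subschemeι ≫ f) z ≤ d := by
  have hempty : bad f (sSup 𝓕) d = ∅ := by
    rw [Set.eq_empty_iff_forall_notMem]
    rintro x ⟨z, hz, rfl⟩
    have h1 : ((d + 1 : ℕ) : WithBot ℕ∞) ≤ (d : WithBot ℕ∞) := hz.trans (hd z)
    have h2 : ((d : ℕ) : WithBot ℕ∞) < ((d + 1 : ℕ) : WithBot ℕ∞) := by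
      exact_mod_cast Nat.lt_succ_self d
    exact absurd h1 (not_le.mpr h2)
  haveI : Nonempty 𝓕 := hne.to_subtype
  have hdirected : Directed (· ⊇ ·) (fun J : 𝓕 => bad f J.1 d) := by
    intro J K
    obtain ⟨L, hL, hJL, hKL⟩ := hdir J.1 J.2 K.1 K.2
    exact ⟨⟨L, hL⟩, bad_antitone f hJL d, bad_antitone f hKL d⟩
  have hinter : Set.univ ∩ ⋂ J : 𝓕, bad f J.1 d = ∅ := by
    rw [Set.univ_inter, Set.eq_empty_iff_forall_notMem]
    intro x hx
    have hx' : x ∈ ⋂ J ∈ 𝓕, bad f J d := by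
      simp only [Set.mem_iInter] at hx ⊢
      intro J hJ
      exact hx ⟨J, hJ⟩
    have := iInter_bad_subset f 𝓕 hne hdir d hx'
    rw [hempty] at this
    exact this
  obtain ⟨J, hJ⟩ := isCompact_univ.elim_directed_family_closed (fun J : 𝓕 => bad f J.1 d)
    (fun J => isClosed_bad f J.1 d) hinter hdirected
  rw [Set.univ_inter] at hJ
  refine ⟨J.1, J.2, fun z => ?_⟩
  by_contra hcon
  have hlt : ((d : ℕ) : WithBot ℕ∞) < FlatMor.fibreDimAt (J.1.subschemeι ≫ f) z := not_le.mp hcon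
  have hge : ((d + 1 : ℕ) : WithBot ℕ∞) ≤ FlatMor.fibreDimAt (J.1.subschemeι ≫ f) z := by
    by_contra hcon2
    have := le_of_lt_natCast_succ _ d (not_le.mp hcon2)
    exact absurd this hcon
  have : J.1.subschemeι z ∈ bad f J.1 d := ⟨z, hge, rfl⟩
  rw [hJ] at this
  exact this

open Groth.Agent.Lib.Helper22.FTIdeal Groth.Agent.Lib.Helper22.FTLimit in
/-- **Stacks 0H3V-type statement** (= S9216): a closed subscheme with fibres of dimension `≤ d` of a
scheme of finite presentation over a qcqs base lies in a closed subscheme of finite presentation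
with fibres of dimension `≤ d`. -/
theorem exists_closedSubscheme_fp {Z : Scheme.{u}} [CompactSpace S] [QuasiSeparatedSpace S]
    [LocallyOfFiniteType f] [QuasiCompact f] [QuasiSeparated f]
    (d : ℕ) (ι : Z ⟶ X) [IsClosedImmersion ι]
    (hZ : ∀ s : S, topologicalKrullDim ↥((ι ≫ f).fiber s) ≤ d) :
    ∃ (Z' : Scheme.{u}) (ι' : Z' ⟶ X) (k : Z ⟶ Z'), IsClosedImmersion ι' ∧
      LocallyOfFinitePresentation ι' ∧ k ≫ ι' = ι ∧
      ∀ s : S, topologicalKrullDim ↥((ι' ≫ f).fiber s) ≤ d := by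
  haveI : CompactSpace X := QuasiCompact.compactSpace_of_compactSpace f
  haveI : QuasiSeparatedSpace X := quasiSeparatedSpace_of_quasiSeparated f
  have hfac : ι.toImage ≫ ι.ker.subschemeι = ι := ι.toImage_imageι
  haveI : IsIso ι.toImage := inferInstance
  have key : ∀ w : Z, ι w = ι.ker.subschemeι (ι.toImage w) := by
    intro w
    have h : ι w = (ι.toImage ≫ ι.ker.subschemeι) w := by rw [hfac]
    exact h.trans (Scheme.Hom.comp_apply _ _ _)
  have hinv : ∀ z : ι.ker.subscheme, ι.toImage ((inv ι.toImage) z) = z := by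
    intro z
    have h : (inv ι.toImage ≫ ι.toImage) z = z := by
      rw [IsIso.inv_hom_id]; rfl
    exact (Scheme.Hom.comp_apply _ _ _).symm.trans h
  have hr : Set.range ι = Set.range ι.ker.subschemeι := by
    ext x
    constructor
    · rintro ⟨w, rfl⟩
      exact ⟨ι.toImage w, (key w).symm⟩
    · rintro ⟨z, rfl⟩
      exact ⟨(inv ι.toImage) z, by rw [key, hinv]⟩
  have hd0 : ∀ z : ι.ker.subscheme, FlatMor.fibreDimAt (ι.ker.subschemeι ≫ f) z ≤ d := by
    intro z
    have hz : ι ((inv ι.toImage) z) = ι.ker.subschemeι z := by rw [key, hinv]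
    rw [← fibreDimAt_comp_eq_of_range_eq f ι ι.ker.subschemeι ((inv ι.toImage) z) z hz hr]
    exact (topologicalKrullDim_fiber_le_iff (ι ≫ f) _ d).mp (hZ _) _ rfl
  have hd : ∀ z : (sSup (ftSub ι.ker)).subscheme,
      FlatMor.fibreDimAt ((sSup (ftSub ι.ker)).subschemeι ≫ f) z ≤ d := by
    rw [sSup_ftSub ι.ker]
    exact hd0
  obtain ⟨J, hJ, hJd⟩ := exists_forall_fibreDimAt_le f (ftSub ι.ker) ⟨⊥, bot_mem_ftSub _⟩
    (directedOn_ftSub _) d hd
  refine ⟨J.subscheme, J.subschemeι, ι.toImage ≫ Scheme.IdealSheafData.inclusion hJ.1,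
    inferInstance, locallyOfFinitePresentation_subschemeι J hJ.2, ?_, fun s => ?_⟩
  · rw [Category.assoc, Scheme.IdealSheafData.inclusion_subschemeι, hfac]
  · exact (topologicalKrullDim_fiber_le_iff (J.subschemeι ≫ f) s d).mpr (fun z _ => hJd z)

end scheme

end Groth.Agent.Lib.R2H3.FibDimLimA
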