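import Groth.Agent.Lib.R2H3RpushQCohGen
import Groth.Agent.Lib.R2H3RpushAffVanish
import Groth.Agent.Lib.Helper20OmegaUnr
import Groth.Agent.S0032
import Groth.Agent.S0012

/-! Vanishing of higher direct images above a degree is stable under base change (helper3, round 2). -/

set_option autoImplicit false
set_option maxHeartbeats 400000
set_option backward.isDefEq.respectTransparency.types false
set_option linter.style.haveILetI false
set_option linter.unusedVariables false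
set_option linter.unusedSectionVars false
universe u
open CategoryTheory CategoryTheory.Limits AlgebraicGeometry Opposite TopologicalSpace

namespace Groth.Agent.Lib.R2H3.RpushBCVanish

open Groth.Agent.Lib.R2H3.RpushRestrict

attribute [local instance] hasInjectiveResolutions_modules

/-- the hypothesis: higher direct images of quasi-coherent modules vanish above degree `d`. -/
def VanishAbove {X Y : Scheme.{u}} (f : X ⟶ Y) (d : ℕ) : Prop :=
  ∀ (M : X.Modules) (i : ℕ), M.IsQuasicoherent → d < i → IsZero ((Coh.Rpush f i).obj M)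

lemma vanishAbove_of_ab {X Y : Scheme.{u}} (f : X ⟶ Y) (d : ℕ)
    (hvan : ∀ (M : X.Modules) (i : ℕ), Coh.IsQCoh M → d < i →
      IsZero ((Coh.RpushAb f i).obj (Coh.toAb M))) : VanishAbove f d := by
  intro M i hM hi
  apply Groth.Agent.Lib.Helper21.RelExtSS.isZero_of_isZero_toAb
  obtain ⟨e1⟩ := Groth.Agent.Lib.Helper23.ModAbBridge.nonempty_toAb_Rpush_iso f M i
  exact IsZero.of_iso (hvan M i hM hi) e1

/-- sections of a zero abelian sheaf vanish -/
lemma subsingleton_sections_of_isZero {Y : Scheme.{u}}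
    (G : Sheaf (Opens.grothendieckTopology Y) AddCommGrpCat.{u}) (hG : IsZero G) (U : (Opens Y)ᵒᵖ) :
    Subsingleton (G.obj.obj U) := by
  have h : 𝟙 G = 0 := hG.eq_of_src _ _
  refine ⟨fun s t => ?_⟩
  have key : ∀ z : G.obj.obj U, z = 0 := by
    intro z
    have h1 : ((𝟙 G : G ⟶ G).hom.app U) z = z := rfl
    rw [← h1, h]
    rfl
  rw [key s, key t]

/-- **Affine base change.**  `f₀ : X₀ → V` with `V` affine, `W` affine, cartesian square. -/
theorem subsingleton_sections_of_affine {X₀ V X₀' W : Scheme.{u}} (f₀ : X₀ ⟶ V) (g₀ : W ⟶ V)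
    (g₀' : X₀' ⟶ X₀) (f₀' : X₀' ⟶ W) (sq : IsPullback g₀' f₀' f₀ g₀) [IsAffine V] [IsAffine W]
    [QuasiCompact f₀] [QuasiSeparated f₀] (d : ℕ) (hvan : VanishAbove f₀ d)
    (M' : X₀'.Modules) [M'.IsQuasicoherent] (i : ℕ) (hi : d < i) :
    Subsingleton ↑(((Coh.RpushAb f₀' i).obj (Coh.toAb M')).obj.obj (op ⊤)) := by
  haveI : QuasiCompact f₀' := MorphismProperty.of_isPullback (P := @QuasiCompact) sq inferInstance
  haveI : QuasiSeparated f₀' :=
    MorphismProperty.of_isPullback (P := @QuasiSeparated) sq inferInstance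
  haveI : IsAffineHom g₀' :=
    MorphismProperty.of_isPullback (P := @IsAffineHom) sq.flip inferInstance
  haveI : ((Coh.push g₀').obj M').IsQuasicoherent :=
    Groth.Agent.Lib.Helper23.QCohLocal.isQuasicoherent_pushforward g₀' M'
  haveI : Coh.IsQCoh M' := ‹M'.IsQuasicoherent›
  haveI : Coh.IsQCoh ((Coh.push g₀').obj M') := ‹((Coh.push g₀').obj M').IsQuasicoherent›
  obtain ⟨e1⟩ := Groth.Agent.S0032.result f₀' M' i
  obtain ⟨e2⟩ := Groth.Agent.S0012.result g₀' M' i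
  obtain ⟨e3⟩ := Groth.Agent.S0032.result f₀ ((Coh.push g₀').obj M') i
  have hz : IsZero ((Coh.RpushAb f₀ i).obj (Coh.toAb ((Coh.push g₀').obj M'))) := by
    obtain ⟨e4⟩ := Groth.Agent.Lib.Helper23.ModAbBridge.nonempty_toAb_Rpush_iso f₀
      ((Coh.push g₀').obj M') i
    refine IsZero.of_iso ?_ e4.symm
    exact (SheafOfModules.toSheaf V.ringCatSheaf).map_isZero (hvan _ i inferInstance hi)
  haveI := subsingleton_sections_of_isZero _ hz (op ⊤)
  exact (e1.symm.trans (e2.trans e3)).toEquiv.subsingleton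

/-- restriction of `VanishAbove` to an open of the base with quasi-compact preimage -/
theorem vanishAbove_restrict {X Y : Scheme.{u}} (f : X ⟶ Y) [QuasiCompact f] [QuasiSeparatedSpace X]
    (d : ℕ) (hvan : VanishAbove f d) (V : Y.Opens) (hV : IsCompact (V : Set Y)) :
    VanishAbove (f ∣_ V) d := by
  intro N i hN hi
  haveI : CompactSpace ↥(f ⁻¹ᵁ V) :=
    isCompact_iff_compactSpace.mp (QuasiCompact.isCompact_preimage (f := f) _ V.isOpen hV)
  haveI : QuasiCompact (f ⁻¹ᵁ V).ι := @quasiCompact_of_compactSpace _ _ (f ⁻¹ᵁ V).ι ‹_› ‹_›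
  haveI : N.IsQuasicoherent := hN
  haveI : ((Scheme.Modules.pushforward (f ⁻¹ᵁ V).ι).obj N).IsQuasicoherent :=
    Groth.Agent.Lib.Helper23.QCohLocal.isQuasicoherent_pushforward (f ⁻¹ᵁ V).ι N
  have h0 := hvan ((Scheme.Modules.pushforward (f ⁻¹ᵁ V).ι).obj N) i inferInstance hi
  obtain ⟨e2⟩ := nonempty_Rpush_restrict_iso f V ((Scheme.Modules.pushforward (f ⁻¹ᵁ V).ι).obj N) i
  have h1 : IsZero (((Coh.Rpush f i).obj ((Scheme.Modules.pushforward (f ⁻¹ᵁ V).ι).obj N)).restrict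
      V.ι) := (Scheme.Modules.restrictFunctor V.ι).map_isZero h0
  have h2 := IsZero.of_iso h1 e2.symm
  let c : ((Scheme.Modules.pushforward (f ⁻¹ᵁ V).ι).obj N).restrict (f ⁻¹ᵁ V).ι ≅ N :=
    (Scheme.Modules.restrictFunctorAdjCounitIso (f ⁻¹ᵁ V).ι).app N
  exact IsZero.of_iso h2 ((Coh.Rpush (f ∣_ V) i).mapIso c.symm)

section Square

variable {X Y X' Y' : Scheme.{u}} {f : X ⟶ Y} {g : Y' ⟶ Y} {f' : X' ⟶ Y'} {g' : X' ⟶ X}
  (sq : IsPullback g' f' f g) (V : Y.Opens) (W : Y'.Opens) (hWV : W ≤ g ⁻¹ᵁ V)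

include sq hWV in
lemma preimage_le : f' ⁻¹ᵁ W ≤ g' ⁻¹ᵁ (f ⁻¹ᵁ V) := by
  intro x hx
  have h1 : f'.base x ∈ W := hx
  have h2 : g.base (f'.base x) ∈ V := hWV h1
  have h3 : f.base (g'.base x) = g.base (f'.base x) := by
    have := congrArg (fun φ => φ.base x) sq.w
    simpa using this
  change f.base (g'.base x) ∈ V
  rw [h3]
  exact h2

/-- the restricted square is cartesian -/
theorem isPullback_restrict :
    IsPullback (g'.resLE (f ⁻¹ᵁ V) (f' ⁻¹ᵁ W) (preimage_le sq V W hWV)) (f' ∣_ W) (f ∣_ V)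
      (g.resLE V W hWV) := by
  have hA : IsPullback (f' ⁻¹ᵁ W).ι (f' ∣_ W) f' W.ι := (isPullback_morphismRestrict f' W).flip
  have hB : IsPullback (f ⁻¹ᵁ V).ι (f ∣_ V) f V.ι := (isPullback_morphismRestrict f V).flip
  have hbig := hA.paste_horiz sq
  have e1 : (f' ⁻¹ᵁ W).ι ≫ g' =
      g'.resLE (f ⁻¹ᵁ V) (f' ⁻¹ᵁ W) (preimage_le sq V W hWV) ≫ (f ⁻¹ᵁ V).ι :=
    (Scheme.Hom.resLE_comp_ι _ _).symm
  have e2 : W.ι ≫ g = g.resLE V W hWV ≫ V.ι := (Scheme.Hom.resLE_comp_ι _ _).symm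
  rw [e1, e2] at hbig
  refine IsPullback.of_right hbig ?_ hB
  rw [← cancel_mono V.ι, Category.assoc, Category.assoc, Scheme.Hom.resLE_comp_ι,
    morphismRestrict_ι, ← Category.assoc, Scheme.Hom.resLE_comp_ι, Category.assoc, sq.w,
    ← Category.assoc, ← Category.assoc, morphismRestrict_ι]

end Square

/-- **Vanishing of higher direct images above degree `d` is stable under base change.** -/
theorem isZero_Rpush_baseChange {X Y X' Y' : Scheme.{u}} (f : X ⟶ Y) [CompactSpace X]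
    [QuasiSeparatedSpace X] [CompactSpace Y] [QuasiSeparatedSpace Y] (d : ℕ) (hvan : VanishAbove f d)
    (g : Y' ⟶ Y) (f' : X' ⟶ Y') (g' : X' ⟶ X) (sq : IsPullback g' f' f g) (M' : X'.Modules)
    [M'.IsQuasicoherent] (i : ℕ) (hi : d < i) : IsZero ((Coh.Rpush f' i).obj M') := by
  let B : Set Y'.Opens := {W | IsAffineOpen W ∧ ∃ V : Y.Opens, IsAffineOpen V ∧ W ≤ g ⁻¹ᵁ V}
  have hB : Opens.IsBasis B := by
    rw [Opens.isBasis_iff_nbhd]
    intro U y hy
    obtain ⟨V, hV, hyV, -⟩ := Opens.isBasis_iff_nbhd.mp Y.isBasis_affineOpens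
      (U := ⊤) (x := g.base y) trivial
    obtain ⟨W, hW, hyW, hWU⟩ := Opens.isBasis_iff_nbhd.mp Y'.isBasis_affineOpens
      (U := U ⊓ g ⁻¹ᵁ V) (x := y) ⟨hy, hyV⟩
    exact ⟨W, ⟨hW, V, hV, hWU.trans inf_le_right⟩, hyW, hWU.trans inf_le_left⟩
  refine Groth.Agent.Lib.Helper20.OmegaUnr.isZero_of_basis _ B hB ?_
  rintro W ⟨hW, V, hV, hWV⟩
  haveI : IsAffine V.toScheme := hV
  haveI : IsAffine W.toScheme := hW
  have sqr := isPullback_restrict sq V W hWV
  have hvanV := vanishAbove_restrict f d hvan V hV.isCompact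
  haveI : (M'.restrict (f' ⁻¹ᵁ W).ι).IsQuasicoherent :=
    Scheme.Modules.isQuasicoherent_restrictFunctor (f' ⁻¹ᵁ W).ι M'
  have hsub := subsingleton_sections_of_affine (f ∣_ V) (g.resLE V W hWV) _ (f' ∣_ W) sqr d hvanV
    (M'.restrict (f' ⁻¹ᵁ W).ι) i hi
  obtain ⟨e1⟩ := Groth.Agent.Lib.Helper23.ModAbBridge.nonempty_toAb_Rpush_iso (f' ∣_ W)
    (M'.restrict (f' ⁻¹ᵁ W).ι) i
  obtain ⟨e2⟩ := nonempty_Rpush_restrict_iso f' W M' i
  let E : W.toScheme.Modules ⥤ AddCommGrpCat.{u} :=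
    SheafOfModules.toSheaf W.toScheme.ringCatSheaf ⋙
      sheafToPresheaf (Opens.grothendieckTopology W.toScheme) AddCommGrpCat.{u} ⋙
      (evaluation _ _).obj (op ⊤)
  let E' : Sheaf (Opens.grothendieckTopology W.toScheme) AddCommGrpCat.{u} ⥤ AddCommGrpCat.{u} :=
    sheafToPresheaf (Opens.grothendieckTopology W.toScheme) AddCommGrpCat.{u} ⋙
      (evaluation _ _).obj (op ⊤)
  have h3 : Subsingleton (E.obj (((Coh.Rpush f' i).obj M').restrict W.ι)) := by
    have h4 : Subsingleton (E'.obj ((Coh.RpushAb (f' ∣_ W) i).obj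
        (Coh.toAb (M'.restrict (f' ⁻¹ᵁ W).ι)))) := hsub
    have h5 : Subsingleton (E.obj ((Coh.Rpush (f' ∣_ W) i).obj (M'.restrict (f' ⁻¹ᵁ W).ι))) :=
      ((E'.mapIso e1).addCommGroupIsoToAddEquiv).toEquiv.subsingleton
    exact ((E.mapIso e2).addCommGroupIsoToAddEquiv).toEquiv.subsingleton
  have h6 : Subsingleton Γ((Coh.Rpush f' i).obj M', W.ι ''ᵁ ⊤) := h3
  rwa [Scheme.Opens.ι_image_top] at h6

end Groth.Agent.Lib.R2H3.RpushBCVanish
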