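import Mathlib
import Groth.Prelude
import Groth.Agent.Lib.Helper16ClosedEmb
import Groth.Agent.Lib.R2H4GV
set_option backward.isDefEq.respectTransparency.types false

/-!
# Cohomology of sheaves supported on a closed subset of small dimension (helper2, round 2)

* `subsingleton_H_of_iso`: cohomology of isomorphic abelian sheaves.
* `subsingleton_H_of_SZ`: on a Noetherian quasi-sober space, a sheaf vanishing on all opens inside `U` has no cohomology
  above the dimension of the closed complement of `U`.
-/

set_option autoImplicit false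
set_option linter.unusedSectionVars false
universe u
open CategoryTheory CategoryTheory.Limits TopologicalSpace Opposite

noncomputable section

namespace Groth.Agent.Lib.R2H2.SuppVanish

open Groth.Agent.Lib.Helper16.ClosedEmb

/-- isomorphic sheaves have simultaneously vanishing cohomology -/
theorem subsingleton_H_of_iso {X : TopCat.{u}} {A B : CohTop.Ab X} (φ : A ≅ B) (p : ℕ)
    (h : Subsingleton (CohTop.H A p)) : Subsingleton (CohTop.H B p) := by
  refine subsingleton_of_forall_eq 0 (fun x => ?_)
  have h1 : x = Sheaf.H.map φ.hom p (Sheaf.H.map φ.inv p x) := by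
    rw [← Sheaf.H.map_comp_apply, φ.inv_hom_id, Sheaf.H.map_id_apply]
  rw [h1, Subsingleton.elim (Sheaf.H.map φ.inv p x) 0, map_zero]

/-- **Grothendieck vanishing with supports**: a sheaf vanishing on the opens contained in `U` has no cohomology above
the dimension of the closed complement of `U` -/
theorem subsingleton_H_of_SZ (X : TopCat.{u}) [NoetherianSpace X] [QuasiSober X] (U : Opens X)
    (H : CohTop.Ab X) (hH : SZ U H) (d : ℕ)
    (hd : topologicalKrullDim ((U : Set X)ᶜ : Set X) ≤ d) (p : ℕ) (hp : d < p) :
    Subsingleton (CohTop.H H p) := by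
  haveI : NoetherianSpace (TopCat.of ((U : Set X)ᶜ : Set X)) :=
    inferInstanceAs (NoetherianSpace ((U : Set X)ᶜ : Set X))
  haveI : QuasiSober (TopCat.of ((U : Set X)ᶜ : Set X)) := (hiZ U).quasiSober
  have h1 : Subsingleton (CohTop.H (toZ U H hH) p) :=
    Groth.Agent.Lib.R2H4GV.grothendieck_vanishing (TopCat.of ((U : Set X)ᶜ : Set X)) d hd
      (toZ U H hH) p hp
  obtain ⟨e⟩ := nonempty_H_push (iZ U) (hiZ U) (toZ U H hH) p
  have h2 : Subsingleton (CohTop.H ((CohTop.push (iZ U)).obj (toZ U H hH)) p) :=
    e.symm.injective.subsingleton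
  exact subsingleton_H_of_iso (asIso (θ U H hH)) p h2

end Groth.Agent.Lib.R2H2.SuppVanish
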