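import Mathlib
import Groth.Prelude
import Groth.Agent.Lib.R2H2SuppVanish
import Groth.Agent.Lib.H9ZarModPow
import Groth.Agent.Lib.Helper23ModAbBridge
import Groth.Agent.Lib.R2H3RpushRestrict
import Groth.Agent.S4467
set_option backward.isDefEq.respectTransparency.types false

/-!
# Stalks of higher direct images vanish above the fibre dimension (helper2, round 2; EGA III 4.2.2)

* `subsingleton_HH_modPow`: over a Noetherian local base, `H^p(X₁, F/𝔪^n F)` vanishes above the dimension of the closed
  fibre.
* `main`: for `f` proper over a locally Noetherian base and `F` coherent, `(R^p f_* F)_y = 0` for `p > dim X_y`.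
-/

set_option autoImplicit false
set_option linter.unusedSectionVars false
set_option linter.style.haveILetI false
universe u
open CategoryTheory CategoryTheory.Limits AlgebraicGeometry TopologicalSpace Opposite

noncomputable section

namespace Groth.Agent.Lib.R2H2.StalkVanish

open Groth.Agent.Lib.Helper16.ClosedEmb Groth.Agent.Lib.R2H2.SuppVanish

section Local

variable {A : Type u} [CommRing A] [IsLocalRing A] {X₁ : Scheme.{u}}
  [X₁.Over (Spec (CommRingCat.of A))]

/-- the open complement of the closed fibre -/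
def Uc : X₁.Opens where
  carrier := {x | ¬ IsLocalRing.maximalIdeal A ≤ ((X₁ ↘ Spec (CommRingCat.of A)).base x).asIdeal}
  is_open' := by
    have h1 : IsClosed ({IsLocalRing.closedPoint A} : Set (PrimeSpectrum A)) :=
      (PrimeSpectrum.isClosed_singleton_iff_isMaximal _).2
        (IsLocalRing.maximalIdeal.isMaximal A)
    have h2 : {x : X₁ | ¬ IsLocalRing.maximalIdeal A ≤
          ((X₁ ↘ Spec (CommRingCat.of A)).base x).asIdeal} =
        (X₁ ↘ Spec (CommRingCat.of A)).base ⁻¹' ({IsLocalRing.closedPoint A} : Set (PrimeSpectrum A))ᶜ := by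
      ext x
      simp only [Set.mem_ofPred_eq, Set.mem_preimage, Set.mem_compl_iff]
      constructor
      · intro h h'
        apply h
        rw [h']
        exact le_rfl
      · intro h h'
        apply h
        apply PrimeSpectrum.ext
        exact ((IsLocalRing.maximalIdeal.isMaximal A).eq_of_le
          ((X₁ ↘ Spec (CommRingCat.of A)).base x).isPrime.ne_top h').symm
    rw [h2]
    exact h1.isOpen_compl.preimage (X₁ ↘ Spec (CommRingCat.of A)).base.hom.2

lemma mem_Uc (x : X₁) : x ∈ (Uc (A := A) : X₁.Opens) ↔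
    ¬ IsLocalRing.maximalIdeal A ≤ ((X₁ ↘ Spec (CommRingCat.of A)).base x).asIdeal := Iff.rfl

lemma eq_closedPoint_of_not_mem (x : X₁) (hx : x ∉ (Uc (A := A) : X₁.Opens)) :
    (X₁ ↘ Spec (CommRingCat.of A)).base x = IsLocalRing.closedPoint A := by
  have h' : IsLocalRing.maximalIdeal A ≤ ((X₁ ↘ Spec (CommRingCat.of A)).base x).asIdeal :=
    not_not.mp hx
  apply PrimeSpectrum.ext
  exact ((IsLocalRing.maximalIdeal.isMaximal A).eq_of_le
    ((X₁ ↘ Spec (CommRingCat.of A)).base x).isPrime.ne_top h').symm

/-- `F/𝔪^n F` vanishes on the opens not meeting the closed fibre -/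
theorem sz_modPow (n : ℕ) (F : X₁.Modules) :
    SZ (X := X₁.toTopCat) (Uc (A := A))
      (Coh.toAb (Formal.modPow (IsLocalRing.maximalIdeal A) n F)) := by
  intro V hV
  refine subsingleton_of_forall_eq 0 (fun s => ?_)
  exact Groth.Agent.Lib.H9ZarModPow.modPow_eq_zero_of_disjoint (IsLocalRing.maximalIdeal A) n F V
    (fun x hx => hV hx) s

/-- **cohomology of `F/𝔪^n F` vanishes above the dimension of the closed fibre** -/
theorem subsingleton_HH_modPow [IsNoetherian X₁] (n : ℕ) (F : X₁.Modules) (d : ℕ)
    (hd : topologicalKrullDim (((Uc (A := A) : X₁.Opens) : Set X₁)ᶜ : Set X₁) ≤ d) (p : ℕ) (hp : d < p) :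
    Subsingleton (Coh.HH X₁ (Formal.modPow (IsLocalRing.maximalIdeal A) n F) p) := by
  have h1 : NoetherianSpace X₁.toTopCat := inferInstanceAs (NoetherianSpace X₁)
  have h2 : QuasiSober X₁.toTopCat := (inferInstance : QuasiSober X₁)
  exact subsingleton_H_of_SZ X₁.toTopCat (Uc (A := A))
    (Coh.toAb (Formal.modPow (IsLocalRing.maximalIdeal A) n F)) (sz_modPow n F) d hd p hp

end Local

section Main

variable {X Y : Scheme.{u}} (f : X ⟶ Y) [IsProper f] [IsLocallyNoetherian Y] (y : Y)

/-- **EGA III 4.2.2**: the stalk of `R^p f_* M` at `y` vanishes for `p` above the dimension of the fibre at `y` -/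
theorem main (d : ℕ) (hd : topologicalKrullDim ↥(f.fiber y) ≤ d)
    (M : X.Modules) (hM : Coh.IsCoh M) (p : ℕ) (hp : d < p) :
    Limits.IsZero (TopCat.Presheaf.stalk ((Coh.RpushAb f p).obj (Coh.toAb M)).obj y) := by
  haveI := Groth.Agent.Lib.R2H3.RpushRestrict.hasInjectiveResolutions_modules X
  let X₁ : Scheme.{u} := pullback f (Y.fromSpecStalk y)
  let g : X₁ ⟶ X := pullback.fst f (Y.fromSpecStalk y)
  let π : X₁ ⟶ Spec (CommRingCat.of (Y.presheaf.stalk y)) := pullback.snd f (Y.fromSpecStalk y)
  letI : X₁.Over (Spec (CommRingCat.of (Y.presheaf.stalk y))) := ⟨π⟩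
  have hsq : IsPullback g (X₁ ↘ Spec (CommRingCat.of (Y.presheaf.stalk y))) f (Y.fromSpecStalk y) :=
    IsPullback.of_hasPullback _ _
  obtain ⟨hfin, ⟨e⟩⟩ := Groth.Agent.S4467.result f M hM y p X₁ g hsq
  -- `X₁` is Noetherian
  haveI : IsProper π := inferInstanceAs (IsProper (pullback.snd f (Y.fromSpecStalk y)))
  haveI : IsNoetherian X₁ := by
    haveI : CompactSpace X₁ := QuasiCompact.compactSpace_of_compactSpace π
    haveI : IsLocallyNoetherian X₁ := LocallyOfFiniteType.isLocallyNoetherian π
    exact {}
  -- the dimension of the closed fibre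
  have hdim : topologicalKrullDim
      (((Uc (A := Y.presheaf.stalk y) : X₁.Opens) : Set X₁)ᶜ : Set X₁) ≤ d := by
    have hfy : ∀ x : (((Uc (A := Y.presheaf.stalk y) : X₁.Opens) : Set X₁)ᶜ : Set X₁),
        f.base (g.base x.1) = y := by
      intro x
      have h1 := eq_closedPoint_of_not_mem (A := Y.presheaf.stalk y) x.1 x.2
      have h2 : f.base (g.base x.1) = (Y.fromSpecStalk y).base (π.base x.1) := by
        have := congrArg (fun ψ : X₁ ⟶ Y => ψ.base x.1) hsq.w
        exact this
      rw [h2]
      have h3 : π.base x.1 = IsLocalRing.closedPoint (Y.presheaf.stalk y) := h1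
      rw [h3]
      exact Scheme.fromSpecStalk_closedPoint
    let φ : (((Uc (A := Y.presheaf.stalk y) : X₁.Opens) : Set X₁)ᶜ : Set X₁) →
        (f.base ⁻¹' {y} : Set X) := fun x => ⟨g.base x.1, hfy x⟩
    have hφ : Topology.IsInducing φ := by
      have h3 : Topology.IsInducing
          (fun x : (((Uc (A := Y.presheaf.stalk y) : X₁.Opens) : Set X₁)ᶜ : Set X₁) => g.base x.1) :=
        g.isEmbedding.isInducing.comp Topology.IsInducing.subtypeVal
      exact Topology.IsInducing.of_comp (continuous_induced_rng.2 h3.continuous)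
        continuous_subtype_val h3
    refine hφ.topologicalKrullDim_le.trans ?_
    rw [← (f.fiberHomeo y).isHomeomorph.topologicalKrullDim_eq]
    exact hd
  -- the limit vanishes
  have hsub : Subsingleton (Formal.HHlim (IsLocalRing.maximalIdeal (Y.presheaf.stalk y))
      ((Scheme.Modules.pullback g).obj M) p) := by
    refine ⟨fun a b => Subtype.ext (funext fun k => ?_)⟩
    haveI := subsingleton_HH_modPow (A := Y.presheaf.stalk y) (k + 1)
      ((Scheme.Modules.pullback g).obj M) d hdim p hp
    exact Subsingleton.elim _ _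
  -- so does the completion of the stalk, and the stalk
  haveI := hfin
  have hcomp : Subsingleton (AdicCompletion (IsLocalRing.maximalIdeal (Y.presheaf.stalk y))
      (((Coh.Rpush f p).obj M).presheaf.stalk y)) := e.injective.subsingleton
  have hN : Subsingleton (((Coh.Rpush f p).obj M).presheaf.stalk y) :=
    (AdicCompletion.of_injective (I := IsLocalRing.maximalIdeal (Y.presheaf.stalk y))
      (M := ((Coh.Rpush f p).obj M).presheaf.stalk y)).subsingleton
  obtain ⟨ι⟩ := Groth.Agent.Lib.Helper23.ModAbBridge.nonempty_toAb_Rpush_iso f M p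
  have hz : IsZero (TopCat.Presheaf.stalk (Coh.toAb ((Coh.Rpush f p).obj M)).obj y) :=
    @AddCommGrpCat.isZero_of_subsingleton _ hN
  exact hz.of_iso ((TopCat.Presheaf.stalkFunctor _ y).mapIso ((sheafToPresheaf _ _).mapIso ι.symm))

end Main

end Groth.Agent.Lib.R2H2.StalkVanish
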