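import Mathlib
import Groth.Agent.Lib.R2H3FibDimLimA
import Groth.Agent.Lib.R2H3RpushBCVanish
import Groth.Agent.Lib.R2H2ProperCoh
import Groth.Agent.Lib.Helper3LocDimBC
import Groth.Agent.S0042
import Groth.Agent.S10946
import Groth.Agent.S0032
import Groth.Agent.S0012

/-!
# Vanishing of higher direct images above the fibre dimension: Noetherian base, and locality

(helper3, round 2)
* `subsingleton_HH_of_noetherian_affine`: `Y` affine Noetherian, `f : X ⟶ Y` proper with fibres of
  local dimension `≤ d`: `H^i(X, N) = 0` for `N` quasi-coherent and `i > d`.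
* `vanishAbove_of_affine_opens`: `VanishAbove f d` may be checked on the affine opens of the base.
* `vanishAbove_of_noetherian`: `Y` Noetherian.
-/

set_option autoImplicit false
set_option linter.unusedSectionVars false
set_option linter.style.haveILetI false
universe u
open CategoryTheory CategoryTheory.Limits AlgebraicGeometry TopologicalSpace Topology Opposite

namespace Groth.Agent.Lib.R2H3.FibDimLimB

open Groth.Agent.Lib.Helper4.FibDim Groth.Agent.Lib.R2H3.RpushBCVanish
  Groth.Agent.Lib.R2H3.RpushRestrict Groth.Agent.Lib.Helper3.LocDimBC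

attribute [local instance] hasInjectiveResolutions_modules

/-- an abelian sheaf all of whose stalks vanish has no sections. -/
theorem subsingleton_sections_of_isZero_stalks {Y : Scheme.{u}}
    (G : Sheaf (Opens.grothendieckTopology Y) AddCommGrpCat.{u})
    (h : ∀ y : Y, IsZero (TopCat.Presheaf.stalk G.obj y)) (U : Opens Y) :
    Subsingleton (G.obj.obj (op U)) := by
  refine ⟨fun s t => ?_⟩
  refine TopCat.Presheaf.section_ext (C := AddCommGrpCat.{u}) (F := G) U s t fun x hx => ?_
  haveI := AddCommGrpCat.subsingleton_of_isZero (h x)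
  exact Subsingleton.elim _ _

/-- fibre dimension conditions: pointwise form from the fibrewise form. -/
theorem fibreDimAt_le_of_fiber {X Y : Scheme.{u}} (f : X ⟶ Y) (d : ℕ)
    (hd : ∀ y : Y, topologicalKrullDim ↥(f.fiber y) ≤ d) (x : X) :
    FlatMor.fibreDimAt f x ≤ d :=
  (topologicalKrullDim_fiber_le_iff f _ d).mp (hd _) x rfl

theorem fiber_le_of_fibreDimAt_le {X Y : Scheme.{u}} (f : X ⟶ Y) (d : ℕ)
    (hd : ∀ x : X, FlatMor.fibreDimAt f x ≤ d) (y : Y) :
    topologicalKrullDim ↥(f.fiber y) ≤ d :=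
  (topologicalKrullDim_fiber_le_iff f y d).mpr (fun x _ => hd x)

/-- the pointwise fibre dimension bound passes to restrictions over opens of the base. -/
theorem fibreDimAt_morphismRestrict_le {X Y : Scheme.{u}} (f : X ⟶ Y) [LocallyOfFiniteType f]
    (d : ℕ) (hd : ∀ x : X, FlatMor.fibreDimAt f x ≤ d) (V : Y.Opens) (x : ↥(f ⁻¹ᵁ V)) :
    FlatMor.fibreDimAt (f ∣_ V) x ≤ d := by
  rw [fibreDimAt_eq_of_isPullback f V.ι (f ⁻¹ᵁ V).ι (f ∣_ V)
    (isPullback_morphismRestrict f V).flip x]
  exact hd _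

/-- **Noetherian affine base.** -/
theorem subsingleton_HH_of_noetherian_affine {X Y : Scheme.{u}} (f : X ⟶ Y) [IsProper f]
    [IsAffine Y] [IsLocallyNoetherian Y] (d : ℕ) (hd : ∀ x : X, FlatMor.fibreDimAt f x ≤ d)
    (N : X.Modules) (hN : Coh.IsQCoh N) (i : ℕ) (hi : d < i) :
    Subsingleton (Coh.HH X N i) := by
  haveI : IsLocallyNoetherian X := LocallyOfFiniteType.isLocallyNoetherian f
  haveI : CompactSpace X := QuasiCompact.compactSpace_of_compactSpace f
  haveI : IsNoetherian X := {}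
  haveI : X.IsSeparated := by
    have e : terminal.from X = f ≫ terminal.from Y := Subsingleton.elim _ _
    constructor
    rw [e]
    infer_instance
  refine Groth.Agent.S10946.result X d (fun F hF j hj => ?_) N hN i hi
  haveI : Coh.IsQCoh F := hF.1
  obtain ⟨e1⟩ := Groth.Agent.S0032.result f F j
  haveI := subsingleton_sections_of_isZero_stalks ((Coh.RpushAb f j).obj (Coh.toAb F))
    (fun y => Groth.Agent.S0042.result f y d (fiber_le_of_fibreDimAt_le f d hd y) F hF j hj) ⊤
  exact e1.toEquiv.subsingleton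

/-- `VanishAbove` can be checked on the affine opens of the base. -/
theorem vanishAbove_of_affine_opens {X Y : Scheme.{u}} (f : X ⟶ Y) [QuasiCompact f]
    [QuasiSeparated f] (d : ℕ)
    (h : ∀ (V : Y.Opens), IsAffineOpen V → ∀ (N : (↑(f ⁻¹ᵁ V) : Scheme.{u}).Modules),
      N.IsQuasicoherent → ∀ i : ℕ, d < i → Subsingleton (Coh.HH (↑(f ⁻¹ᵁ V) : Scheme.{u}) N i)) :
    VanishAbove f d := by
  intro M i hM hi
  haveI : M.IsQuasicoherent := hM
  refine Groth.Agent.Lib.Helper20.OmegaUnr.isZero_of_basis _ {V | IsAffineOpen V}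
    Y.isBasis_affineOpens ?_
  intro V hV
  haveI : IsAffine V.toScheme := hV
  haveI : (M.restrict (f ⁻¹ᵁ V).ι).IsQuasicoherent :=
    Scheme.Modules.isQuasicoherent_restrictFunctor (f ⁻¹ᵁ V).ι M
  have hz : IsZero ((Coh.Rpush (f ∣_ V) i).obj (M.restrict (f ⁻¹ᵁ V).ι)) :=
    Groth.Agent.Lib.R2H2.ProperCoh.isZero_Rpush_of_subsingleton_HH (f ∣_ V)
      (M.restrict (f ⁻¹ᵁ V).ι) i (h V hV _ inferInstance i hi)
  obtain ⟨e2⟩ := nonempty_Rpush_restrict_iso f V M i
  have hz2 : IsZero (((Coh.Rpush f i).obj M).restrict V.ι) := IsZero.of_iso hz e2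
  have h3 : Subsingleton Γ(((Coh.Rpush f i).obj M).restrict V.ι, ⊤) := by
    refine ⟨fun s t => ?_⟩
    rw [Groth.Agent.Lib.R2H3.RpushAffVanish.eq_zero_of_isZero _ hz2 ⊤ s,
      Groth.Agent.Lib.R2H3.RpushAffVanish.eq_zero_of_isZero _ hz2 ⊤ t]
  have h6 : Subsingleton Γ((Coh.Rpush f i).obj M, V.ι ''ᵁ ⊤) := h3
  rwa [Scheme.Opens.ι_image_top] at h6

/-- **Noetherian base.** -/
theorem vanishAbove_of_noetherian {X Y : Scheme.{u}} (f : X ⟶ Y) [IsProper f]
    [IsLocallyNoetherian Y] (d : ℕ) (hd : ∀ x : X, FlatMor.fibreDimAt f x ≤ d) :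
    VanishAbove f d := by
  refine vanishAbove_of_affine_opens f d fun V hV N hN i hi => ?_
  haveI : IsAffine V.toScheme := hV
  haveI : IsProper (f ∣_ V) := inferInstance
  exact subsingleton_HH_of_noetherian_affine (f ∣_ V) d
    (fibreDimAt_morphismRestrict_le f d hd V) N hN i hi

end Groth.Agent.Lib.R2H3.FibDimLimB
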