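import Mathlib
import Groth.Agent.Lib.R2H3FibDimLimB
import Groth.Agent.Lib.Helper2PairCons5
import Groth.Agent.Lib.R2H3ProperLim
import Groth.Agent.Lib.R2H3ProperDesc
import Groth.Agent.S0590
import Groth.Agent.S0591
import Groth.Agent.S9195

/-!
# Vanishing of higher direct images above the fibre dimension: general base

(helper3, round 2)
* `vanishAbove_of_fp`: `f` proper of finite presentation over a qcqs base (Noetherian approximation).
* `subsingleton_HH_of_affine`: `Y` affine, `f : X ⟶ Y` proper with fibres of dimension `≤ d`: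
  `H^i(X, N) = 0` for quasi-coherent `N` and `i > d` (Stacks 0E7B-type).
* `exists_affine_nhd_vanishAbove` (= S12458), `isZero_stalk_RpushAb` (= S7411).
-/

set_option autoImplicit false
set_option linter.unusedSectionVars false
set_option linter.style.haveILetI false
universe u
open CategoryTheory CategoryTheory.Limits AlgebraicGeometry TopologicalSpace Topology Opposite

namespace Groth.Agent.Lib.R2H3.FibDimLimC

open Groth.Agent.Lib.Helper4.FibDim Groth.Agent.Lib.R2H3.RpushBCVanish
  Groth.Agent.Lib.R2H3.RpushRestrict Groth.Agent.Lib.Helper3.LocDimBC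
  Groth.Agent.Lib.R2H3.FibDimLimA Groth.Agent.Lib.R2H3.FibDimLimB
  Groth.Agent.Lib.Helper3.IndCons Groth.Agent.Lib.Helper3.BaseMap Groth.Agent.Lib.Helper2.PairCons5

attribute [local instance] hasInjectiveResolutions_modules

/-- locally of finite type with all local fibre dimensions `≤ d`. -/
def FDLE (d : ℕ) : MorphismProperty Scheme.{u} :=
  fun _ _ f => LocallyOfFiniteType f ∧ ∀ x, FlatMor.fibreDimAt f x ≤ d

instance (d : ℕ) : (FDLE.{u} d).IsStableUnderBaseChange where
  of_isPullback {X Y Y' S f g f' g'} sq hg := by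
    obtain ⟨h1, h2⟩ := hg
    haveI := h1
    refine ⟨MorphismProperty.of_isPullback (P := @LocallyOfFiniteType) sq h1, fun x' => ?_⟩
    rw [fibreDimAt_eq_of_isPullback g f f' g' sq x']
    exact h2 _

theorem limDescends_isProper :
    LimDescends (@IsProper : MorphismProperty Scheme.{u}) := by
  intro I _ _ D c hc _ i₀ _ _ X₀ Y₀ f₀ g₀ _ _ _ _ _ _ X Y f g qY qX hY hX hf
  haveI : IsProper f := hf
  haveI : CompactSpace Y₀ := QuasiCompact.compactSpace_of_compactSpace g₀
  haveI : QuasiSeparatedSpace Y₀ := quasiSeparatedSpace_of_quasiSeparated g₀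
  haveI : CompactSpace X₀ := QuasiCompact.compactSpace_of_compactSpace (f₀ ≫ g₀)
  haveI : QuasiSeparatedSpace X₀ := quasiSeparatedSpace_of_quasiSeparated (f₀ ≫ g₀)
  haveI : LocallyOfFiniteType (f₀ ≫ g₀) := inferInstance
  haveI : LocallyOfFiniteType f₀ := locallyOfFiniteType_of_comp f₀ g₀
  exact Groth.Agent.Lib.R2H3.ProperDesc.proper_descend D c hc i₀ f₀ g₀ f g qY qX hY hX

theorem limDescends_FDLE (d : ℕ) : LimDescends (FDLE.{u} d) := by
  intro I _ _ D c hc _ i₀ _ _ X₀ Y₀ f₀ g₀ _ _ _ _ _ _ X Y f g qY qX hY hX hf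
  haveI : CompactSpace Y₀ := QuasiCompact.compactSpace_of_compactSpace g₀
  haveI : QuasiSeparatedSpace Y₀ := quasiSeparatedSpace_of_quasiSeparated g₀
  haveI : CompactSpace X₀ := QuasiCompact.compactSpace_of_compactSpace (f₀ ≫ g₀)
  haveI : QuasiSeparatedSpace X₀ := quasiSeparatedSpace_of_quasiSeparated (f₀ ≫ g₀)
  haveI : LocallyOfFiniteType (f₀ ≫ g₀) := inferInstance
  haveI : LocallyOfFiniteType f₀ := locallyOfFiniteType_of_comp f₀ g₀
  obtain ⟨i, φ, Xi, Yi, fi, gi, pY, pX, h1, h2, h3⟩ :=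
    Groth.Agent.S9195.result D c hc i₀ f₀ g₀ d f g qY qX hY hX hf.2
  exact ⟨i, φ, Xi, Yi, fi, gi, pY, pX, h1, h2,
    MorphismProperty.of_isPullback (P := @LocallyOfFiniteType) h2 inferInstance, h3⟩

/-- **Finite presentation over a qcqs base.** -/
theorem vanishAbove_of_fp {X Y : Scheme.{u}} (f : X ⟶ Y) [IsProper f]
    [LocallyOfFinitePresentation f] [CompactSpace Y] [QuasiSeparatedSpace Y] (d : ℕ)
    (hd : ∀ x : X, FlatMor.fibreDimAt f x ≤ d) : VanishAbove f d := by
  obtain ⟨I, _, _, _, D, c, hc, haff, hD, ⟨e⟩⟩ := Groth.Agent.S0590.result Y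
  haveI : ∀ (i j : Iᵒᵖ) (a : i ⟶ j), IsAffineHom (D.map a) := haff
  haveI : ∀ i, CompactSpace (D.obj i) := fun i => (hD i).1
  haveI hZ : IsNoetherianRing (ULift.{u} ℤ) := isNoetherianRing_of_ringEquiv ℤ ULift.ringEquiv.symm
  have hnoeth : ∀ i, IsLocallyNoetherian (D.obj i) := fun i => by
    haveI := (hD i).2
    exact LocallyOfFiniteType.isLocallyNoetherian (IsTerminal.from specULiftZIsTerminal (D.obj i))
  haveI : ∀ i, QuasiSeparatedSpace (D.obj i) := fun i => by
    haveI := hnoeth i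
    infer_instance
  let f' : X ⟶ c.pt := f ≫ e.inv
  haveI : LocallyOfFinitePresentation f' := inferInstance
  haveI : IsProper f' := inferInstance
  obtain ⟨i₀, X₀, f₀, g, hf₀, hqc, hqs, hpb⟩ := Groth.Agent.S0591.result D c hc X f'
  haveI := hf₀
  haveI := hqc
  haveI := hqs
  haveI : LocallyOfFiniteType f' := inferInstance
  have hY : IsPullback (c.π.app i₀) (𝟙 c.pt) (𝟙 (D.obj i₀)) (c.π.app i₀) :=
    IsPullback.id_vert (c.π.app i₀)
  haveI : LocallyOfFinitePresentation (f₀ ≫ 𝟙 (D.obj i₀)) := by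
    rw [Category.comp_id]; infer_instance
  haveI : QuasiCompact (f₀ ≫ 𝟙 (D.obj i₀)) := by rw [Category.comp_id]; infer_instance
  haveI : QuasiSeparated (f₀ ≫ 𝟙 (D.obj i₀)) := by rw [Category.comp_id]; infer_instance
  have hP : (@IsProper ⊓ FDLE.{u} d : MorphismProperty Scheme.{u}) f' := by
    refine ⟨inferInstance, inferInstance, fun x => ?_⟩
    have h1 : IsPullback (𝟙 X) f' f e.hom := IsPullback.of_horiz_isIso ⟨by simp [f']⟩
    rw [fibreDimAt_eq_of_isPullback f e.hom (𝟙 X) f' h1 x]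
    exact hd _
  obtain ⟨i, φ, Xi, Yi, fi, gi, pY, pX, h1, h2, hfi, hfi2⟩ :=
    limDescends_inf (@IsProper) (FDLE.{u} d) limDescends_isProper (limDescends_FDLE d)
      D c hc i₀ f₀ (𝟙 _) f' (𝟙 _) (c.π.app i₀) g hY hpb hP
  haveI : IsProper fi := hfi
  -- `gi` is an isomorphism
  haveI : IsIso gi := by
    have : IsIso (𝟙 (D.obj i₀)) := inferInstance
    exact MorphismProperty.of_isPullback (P := MorphismProperty.isomorphisms Scheme.{u}) h1
      (MorphismProperty.isomorphisms.infer_property _)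
  haveI : IsLocallyNoetherian Yi := by
    haveI := hnoeth i
    haveI : LocallyOfFiniteType gi := inferInstance
    exact LocallyOfFiniteType.isLocallyNoetherian gi
  haveI : CompactSpace Yi := QuasiCompact.compactSpace_of_compactSpace gi
  haveI : QuasiSeparatedSpace Yi := inferInstance
  haveI : CompactSpace Xi := QuasiCompact.compactSpace_of_compactSpace fi
  haveI : QuasiSeparatedSpace Xi := quasiSeparatedSpace_of_quasiSeparated fi
  have hvan : VanishAbove fi d := vanishAbove_of_noetherian fi d hfi2.2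
  -- the map from the limit to the stage
  let h : c.pt ⟶ Yi := h1.lift (c.π.app i₀) (c.π.app i) (by rw [Category.comp_id, c.w])
  have hh1 : h ≫ pY = c.π.app i₀ := h1.lift_fst _ _ _
  have hsq' : IsPullback g f' f₀ (h ≫ pY) := by rw [hh1]; exact hpb
  have hsq : IsPullback (h2.lift g (f' ≫ h) (by rw [Category.assoc, hh1, hpb.w])) f' fi h :=
    IsPullback.of_right (by rw [h2.lift_fst]; exact hsq') (h2.lift_snd _ _ _) h2
  have hsq2 : IsPullback (h2.lift g (f' ≫ h) (by rw [Category.assoc, hh1, hpb.w])) f fi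
      (e.inv ≫ h) := by
    have h3 : IsPullback (𝟙 X) f f' e.inv := IsPullback.of_horiz_isIso ⟨by simp [f']⟩
    have := h3.paste_horiz hsq
    simpa using this
  intro M i' hM hi'
  haveI : M.IsQuasicoherent := hM
  exact isZero_Rpush_baseChange fi d hvan (e.inv ≫ h) f _ hsq2 M i' hi'

end Groth.Agent.Lib.R2H3.FibDimLimC
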