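import Mathlib
import Groth.Agent.Lib.R2H3FibDimLimC
import Groth.Agent.Lib.R2H2LerayAff
import Groth.Agent.Lib.R2H3RpushAffVanish

/-!
# Vanishing of higher direct images above the fibre dimension: arbitrary base

(helper3, round 2)
* `subsingleton_HH_of_affine`: `Y` affine, `f : X ⟶ Y` proper with fibres of dimension `≤ d`:
  `H^i(X, N) = 0` for quasi-coherent `N` and `i > d`.
* `vanishAbove_of_isProper`: `f` proper with all fibres of dimension `≤ d` (any base).
* `exists_affine_nhd_vanish` (= S12458), `isZero_stalk_RpushAb` (= S7411).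
-/

set_option autoImplicit false
set_option linter.unusedSectionVars false
set_option linter.style.haveILetI false
universe u
open CategoryTheory CategoryTheory.Limits AlgebraicGeometry TopologicalSpace Topology Opposite

namespace Groth.Agent.Lib.R2H3.FibDimLimD

open Groth.Agent.Lib.Helper4.FibDim Groth.Agent.Lib.R2H3.RpushBCVanish
  Groth.Agent.Lib.R2H3.RpushRestrict Groth.Agent.Lib.Helper3.LocDimBC
  Groth.Agent.Lib.R2H3.FibDimLimA Groth.Agent.Lib.R2H3.FibDimLimB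
  Groth.Agent.Lib.R2H3.FibDimLimC

attribute [local instance] hasInjectiveResolutions_modules

/-- **Affine base.** -/
theorem subsingleton_HH_of_affine {X Y : Scheme.{u}} (f : X ⟶ Y) [IsProper f]
    [IsAffine Y] (d : ℕ) (hd : ∀ x : X, FlatMor.fibreDimAt f x ≤ d)
    (N : X.Modules) (hN : Coh.IsQCoh N) (i : ℕ) (hi : d < i) :
    Subsingleton (Coh.HH X N i) := by
  obtain ⟨Z₁, f₁, ι₁, h1, h2, h3, h4⟩ :=
    Groth.Agent.Lib.R2H3.ProperLim.exists_closedImmersion_proper_fp f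
  haveI := h1
  haveI := h2
  haveI := h3
  haveI : LocallyOfFiniteType f₁ := inferInstance
  obtain ⟨Z', ι', k, h5, h6, h7, h8⟩ := exists_closedSubscheme_fp (f := f₁) d ι₁
    (by rw [h4]; exact fiber_le_of_fibreDimAt_le f d hd)
  haveI := h5
  haveI := h6
  haveI : IsClosedImmersion (k ≫ ι') := by rw [h7]; infer_instance
  haveI : IsClosedImmersion k := IsClosedImmersion.of_comp k ι'
  haveI : IsProper (ι' ≫ f₁) := inferInstance
  haveI : LocallyOfFinitePresentation (ι' ≫ f₁) := inferInstance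
  have hv : VanishAbove (ι' ≫ f₁) d :=
    vanishAbove_of_fp (ι' ≫ f₁) d (fibreDimAt_le_of_fiber (ι' ≫ f₁) d h8)
  haveI : Coh.IsQCoh N := hN
  haveI : N.IsQuasicoherent := hN
  obtain ⟨e0⟩ := Groth.Agent.S0012.result k N i
  haveI : ((Scheme.Modules.pushforward k).obj N).IsQuasicoherent :=
    Groth.Agent.Lib.Helper23.QCohLocal.isQuasicoherent_pushforward k N
  haveI : Coh.IsQCoh ((Coh.push k).obj N) :=
    Groth.Agent.Lib.Helper23.QCohLocal.isQuasicoherent_pushforward k N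
  obtain ⟨e1⟩ := Groth.Agent.S0032.result (ι' ≫ f₁) ((Coh.push k).obj N) i
  obtain ⟨e2⟩ := Groth.Agent.Lib.Helper23.ModAbBridge.nonempty_toAb_Rpush_iso (ι' ≫ f₁)
    ((Coh.push k).obj N) i
  have hz : IsZero ((Coh.RpushAb (ι' ≫ f₁) i).obj (Coh.toAb ((Coh.push k).obj N))) :=
    IsZero.of_iso (Groth.Agent.Lib.R2H2.LerayAff.isZero_toAb_of_isZero _
      (hv _ i inferInstance hi)) e2.symm
  haveI := subsingleton_sections_of_isZero _ hz (op ⊤)
  exact (e0.trans e1).toEquiv.subsingleton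

/-- **Arbitrary base**: a proper morphism all of whose fibres have dimension `≤ d` has vanishing
higher direct images of quasi-coherent modules above `d`. -/
theorem vanishAbove_of_isProper {X Y : Scheme.{u}} (f : X ⟶ Y) [IsProper f] (d : ℕ)
    (hd : ∀ x : X, FlatMor.fibreDimAt f x ≤ d) : VanishAbove f d := by
  refine vanishAbove_of_affine_opens f d fun V hV N hN i hi => ?_
  haveI : IsAffine V.toScheme := hV
  haveI : IsProper (f ∣_ V) := inferInstance
  exact subsingleton_HH_of_affine (f ∣_ V) d (fibreDimAt_morphismRestrict_le f d hd V) N hN i hi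

/-- the open locus of the base over which the fibres have dimension `≤ d`, as an `Opens`. -/
def goodLocus {X Y : Scheme.{u}} (f : X ⟶ Y) [IsProper f] (d : ℕ) : Y.Opens :=
  ⟨{s : Y | topologicalKrullDim ↥(f.fiber s) ≤ d},
    isOpen_setOf_dim_fiber_le f f.isClosedMap d⟩

theorem fibreDimAt_restrict_goodLocus_le {X Y : Scheme.{u}} (f : X ⟶ Y) [IsProper f] (d : ℕ)
    (V : Y.Opens) (hV : V ≤ goodLocus f d) (x : ↥(f ⁻¹ᵁ V)) :
    FlatMor.fibreDimAt (f ∣_ V) x ≤ d := by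
  rw [fibreDimAt_eq_of_isPullback f V.ι (f ⁻¹ᵁ V).ι (f ∣_ V)
    (isPullback_morphismRestrict f V).flip x]
  have hx : f ((f ⁻¹ᵁ V).ι x) ∈ goodLocus f d := hV x.2
  exact (topologicalKrullDim_fiber_le_iff f _ d).mp hx _ rfl

/-- **= S12458.** -/
theorem exists_affine_nhd_vanish {X Y : Scheme.{u}} (f : X ⟶ Y) [IsProper f]
    (y : Y) (d : ℕ) (hd : topologicalKrullDim ↥(f.fiber y) ≤ d) :
    ∃ V : Y.Opens, y ∈ V ∧ IsAffineOpen V ∧ V ≤ goodLocus f d ∧
      ∀ (M : (↑(f ⁻¹ᵁ V) : Scheme.{u}).Modules) (i : ℕ), Coh.IsQCoh M → d < i →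
        IsZero ((Coh.RpushAb (f ∣_ V) i).obj (Coh.toAb M)) := by
  have hy : y ∈ goodLocus f d := hd
  obtain ⟨(V : Y.Opens), hV, hyV, hVU⟩ := (Opens.isBasis_iff_nbhd.mp Y.isBasis_affineOpens) hy
  refine ⟨V, hyV, hV, hVU, fun M i hM hi => ?_⟩
  haveI : IsAffine V.toScheme := hV
  haveI : IsProper (f ∣_ V) := inferInstance
  haveI : M.IsQuasicoherent := hM
  have h1 : Subsingleton (Coh.HH _ M i) :=
    subsingleton_HH_of_affine (f ∣_ V) d (fibreDimAt_restrict_goodLocus_le f d V hVU) M hM i hi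
  have h2 : IsZero ((Coh.Rpush (f ∣_ V) i).obj M) :=
    Groth.Agent.Lib.R2H2.ProperCoh.isZero_Rpush_of_subsingleton_HH (f ∣_ V) M i h1
  obtain ⟨e2⟩ := Groth.Agent.Lib.Helper23.ModAbBridge.nonempty_toAb_Rpush_iso (f ∣_ V) M i
  exact IsZero.of_iso (Groth.Agent.Lib.R2H2.LerayAff.isZero_toAb_of_isZero _ h2) e2.symm

/-- **= S7411.** -/
theorem isZero_stalk_RpushAb {X Y : Scheme.{u}} (f : X ⟶ Y) [IsProper f]
    (y : Y) (d : ℕ) (hd : topologicalKrullDim ↥(f.fiber y) ≤ d) (M : X.Modules) [Coh.IsQCoh M]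
    (i : ℕ) (hi : d < i) :
    IsZero (TopCat.Presheaf.stalk ((Coh.RpushAb f i).obj (Coh.toAb M)).obj y) := by
  obtain ⟨V, hyV, hV, hVU, -⟩ := exists_affine_nhd_vanish f y d hd
  haveI : IsAffine V.toScheme := hV
  haveI : IsProper (f ∣_ V) := inferInstance
  haveI : M.IsQuasicoherent := ‹Coh.IsQCoh M›
  obtain ⟨e1⟩ := Groth.Agent.Lib.Helper23.ModAbBridge.nonempty_toAb_Rpush_iso f M i
  obtain ⟨e2⟩ := nonempty_Rpush_restrict_iso f V M i
  haveI : (M.restrict (f ⁻¹ᵁ V).ι).IsQuasicoherent :=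
    Scheme.Modules.isQuasicoherent_restrictFunctor (f ⁻¹ᵁ V).ι M
  have h1 : Subsingleton (Coh.HH _ (M.restrict (f ⁻¹ᵁ V).ι) i) :=
    subsingleton_HH_of_affine (f ∣_ V) d (fibreDimAt_restrict_goodLocus_le f d V hVU) _
      inferInstance i hi
  have h2 : IsZero ((Coh.Rpush (f ∣_ V) i).obj (M.restrict (f ⁻¹ᵁ V).ι)) :=
    Groth.Agent.Lib.R2H2.ProperCoh.isZero_Rpush_of_subsingleton_HH (f ∣_ V) _ i h1
  have h0 : IsZero (((Coh.Rpush f i).obj M).restrict V.ι) := IsZero.of_iso h2 e2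
  have h3 := Groth.Agent.Lib.R2H3.RpushAffVanish.isZero_stalk_of_isZero_restrict
    ((Coh.Rpush f i).obj M) V h0 y hyV
  let E : Sheaf (Opens.grothendieckTopology Y) AddCommGrpCat.{u} ⥤ AddCommGrpCat.{u} :=
    sheafToPresheaf (Opens.grothendieckTopology Y) AddCommGrpCat.{u} ⋙
      TopCat.Presheaf.stalkFunctor AddCommGrpCat.{u} y
  exact IsZero.of_iso h3 (E.mapIso e1.symm)

end Groth.Agent.Lib.R2H3.FibDimLimD
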