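import Mathlib
import Groth.Agent.Lib.R2H3FibDimLimD

/-!
# Noetherian affine models of proper finitely presented morphisms with fibres of dimension `≤ d`

(helper3, round 2)
* `exists_stage_model`: a proper f.p. morphism with fibres of dimension `≤ d` over a limit of
  Noetherian schemes descends to a proper morphism with fibres of dimension `≤ d` over a stage.
* `exists_noetherian_affine_model`: over an affine base, the stage can be taken affine.
-/

set_option autoImplicit false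
set_option linter.unusedSectionVars false
set_option linter.style.haveILetI false
universe u
open CategoryTheory CategoryTheory.Limits AlgebraicGeometry TopologicalSpace Topology Opposite

namespace Groth.Agent.Lib.R2H3.FibDimLimE

open Groth.Agent.Lib.Helper4.FibDim Groth.Agent.Lib.R2H3.RpushBCVanish
  Groth.Agent.Lib.R2H3.RpushRestrict Groth.Agent.Lib.Helper3.LocDimBC
  Groth.Agent.Lib.R2H3.FibDimLimA Groth.Agent.Lib.R2H3.FibDimLimB
  Groth.Agent.Lib.R2H3.FibDimLimC
  Groth.Agent.Lib.Helper3.IndCons Groth.Agent.Lib.Helper3.BaseMap Groth.Agent.Lib.Helper2.PairCons5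

/-- descent to a stage of a limit presentation of the base -/
theorem exists_stage_model {X Y : Scheme.{u}} (f : X ⟶ Y) [IsProper f]
    [LocallyOfFinitePresentation f] (d : ℕ)
    (hd : ∀ x : X, FlatMor.fibreDimAt f x ≤ d)
    {I : Type u} [Preorder I] [IsDirected I (fun a b => a ≤ b)] [Nonempty I]
    (D : Iᵒᵖ ⥤ Scheme.{u}) (c : Cone D) (hc : IsLimit c)
    (haff : ∀ (i j : Iᵒᵖ) (a : i ⟶ j), IsAffineHom (D.map a))
    (hD : ∀ i, CompactSpace (D.obj i) ∧
      LocallyOfFiniteType (IsTerminal.from specULiftZIsTerminal (D.obj i)))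
    (e : c.pt ≅ Y) :
    ∃ (i : Iᵒᵖ) (Xi : Scheme.{u}) (fi : Xi ⟶ D.obj i) (g' : X ⟶ Xi),
      IsPullback g' f fi (e.inv ≫ c.π.app i) ∧ IsProper fi ∧
        ∀ x, FlatMor.fibreDimAt fi x ≤ d := by
  haveI : ∀ (i j : Iᵒᵖ) (a : i ⟶ j), IsAffineHom (D.map a) := haff
  haveI : ∀ i, CompactSpace (D.obj i) := fun i => (hD i).1
  haveI hZ : IsNoetherianRing (ULift.{u} ℤ) := isNoetherianRing_of_ringEquiv ℤ ULift.ringEquiv.symm
  have hnoeth : ∀ i, IsLocallyNoetherian (D.obj i) := fun i => by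
    haveI := (hD i).2
    exact LocallyOfFiniteType.isLocallyNoetherian (IsTerminal.from specULiftZIsTerminal (D.obj i))
  haveI : ∀ i, QuasiSeparatedSpace (D.obj i) := fun i => by
    haveI := hnoeth i
    infer_instance
  let f' : X ⟶ c.pt := f ≫ e.inv
  haveI : LocallyOfFinitePresentation f' := inferInstanceAs (LocallyOfFinitePresentation (f ≫ e.inv))
  haveI : IsProper f' := inferInstanceAs (IsProper (f ≫ e.inv))
  obtain ⟨i₀, X₀, f₀, g, hf₀, hqc, hqs, hpb⟩ := Groth.Agent.S0591.result D c hc X f'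
  haveI := hf₀
  haveI := hqc
  haveI := hqs
  haveI : LocallyOfFiniteType f' := inferInstance
  have hY : IsPullback (c.π.app i₀) (𝟙 c.pt) (𝟙 (D.obj i₀)) (c.π.app i₀) :=
    IsPullback.id_vert (c.π.app i₀)
  haveI : LocallyOfFinitePresentation (f₀ ≫ 𝟙 (D.obj i₀)) := by
    rw [Category.comp_id]; infer_instance
  haveI : QuasiCompact (f₀ ≫ 𝟙 (D.obj i₀)) := by rw [Category.comp_id]; infer_instance
  haveI : QuasiSeparated (f₀ ≫ 𝟙 (D.obj i₀)) := by rw [Category.comp_id]; infer_instance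
  have hP : (@IsProper ⊓ FDLE.{u} d : MorphismProperty Scheme.{u}) f' := by
    refine ⟨inferInstance, inferInstance, fun x => ?_⟩
    have h1 : IsPullback (𝟙 X) f' f e.hom := IsPullback.of_horiz_isIso ⟨by simp [f']⟩
    rw [fibreDimAt_eq_of_isPullback f e.hom (𝟙 X) f' h1 x]
    exact hd _
  obtain ⟨i, φ, Xi, Yi, fi, gi, pY, pX, h1, h2, hfi, hfi2⟩ :=
    limDescends_inf (@IsProper) (FDLE.{u} d) limDescends_isProper (limDescends_FDLE d)
      D c hc i₀ f₀ (𝟙 _) f' (𝟙 _) (c.π.app i₀) g hY hpb hP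
  haveI : IsProper fi := hfi
  haveI := hfi2.1
  -- `gi` is an isomorphism
  haveI : IsIso gi := by
    have : IsIso (𝟙 (D.obj i₀)) := inferInstance
    exact MorphismProperty.of_isPullback (P := MorphismProperty.isomorphisms Scheme.{u}) h1
      (MorphismProperty.isomorphisms.infer_property _)
  -- the map from the limit to the stage
  let h : c.pt ⟶ Yi := h1.lift (c.π.app i₀) (c.π.app i) (by rw [Category.comp_id, c.w])
  have hh1 : h ≫ pY = c.π.app i₀ := h1.lift_fst _ _ _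
  have hh2 : h ≫ gi = c.π.app i := h1.lift_snd _ _ _
  have hsq' : IsPullback g f' f₀ (h ≫ pY) := by rw [hh1]; exact hpb
  have hsq : IsPullback (h2.lift g (f' ≫ h) (by rw [Category.assoc, hh1, hpb.w])) f' fi h :=
    IsPullback.of_right (by rw [h2.lift_fst]; exact hsq') (h2.lift_snd _ _ _) h2
  have hsq2 : IsPullback (h2.lift g (f' ≫ h) (by rw [Category.assoc, hh1, hpb.w])) f fi
      (e.inv ≫ h) := by
    have h3 : IsPullback (𝟙 X) f f' e.inv := IsPullback.of_horiz_isIso ⟨by simp [f']⟩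
    have := h3.paste_horiz hsq
    simpa using this
  have hsq3 : IsPullback (𝟙 Xi) fi (fi ≫ gi) gi := IsPullback.of_horiz_isIso ⟨by simp⟩
  obtain ⟨q, hq⟩ : ∃ q : X ⟶ Xi, IsPullback q f fi (e.inv ≫ h) := ⟨_, hsq2⟩
  have hsq4 := hq.paste_horiz hsq3
  rw [Category.comp_id, Category.assoc, hh2] at hsq4
  refine ⟨i, Xi, fi ≫ gi, q, hsq4, inferInstance, fun x => ?_⟩
  have h5 := fibreDimAt_eq_of_isPullback (fi ≫ gi) gi (𝟙 Xi) fi hsq3 x
  have h6 : (𝟙 Xi : Xi ⟶ Xi) x = x := rfl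
  rw [h6] at h5
  rw [← h5]
  exact hfi2.2 x

/-- **Noetherian affine model** of a proper finitely presented morphism with fibres of
dimension `≤ d` over an affine base. -/
theorem exists_noetherian_affine_model {X Y : Scheme.{u}} (f : X ⟶ Y) [IsProper f]
    [LocallyOfFinitePresentation f] [IsAffine Y] (d : ℕ)
    (hd : ∀ x : X, FlatMor.fibreDimAt f x ≤ d) :
    ∃ (X₀ Y₀ : Scheme.{u}) (f₀ : X₀ ⟶ Y₀) (g : Y ⟶ Y₀) (g' : X ⟶ X₀),
      IsPullback g' f f₀ g ∧ IsAffine Y₀ ∧ IsLocallyNoetherian Y₀ ∧ IsProper f₀ ∧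
        ∀ x, FlatMor.fibreDimAt f₀ x ≤ d := by
  obtain ⟨I, _, _, _, D, c, hc, hAff, hD, ⟨e⟩⟩ := Groth.Agent.S0590.result Y
  obtain ⟨k, X₀, f₀, g', sq, hP, hfd⟩ := exists_stage_model f d hd D c hc hAff hD e
  haveI := hP
  haveI hAff' : ∀ {i j : Iᵒᵖ} (a : i ⟶ j), IsAffineHom (D.map a) := fun a => hAff _ _ a
  haveI : ∀ i, CompactSpace (D.obj i) := fun i => (hD i).1
  haveI hZ : IsNoetherianRing (ULift.{u} ℤ) := isNoetherianRing_of_ringEquiv ℤ ULift.ringEquiv.symm
  have hnoeth : ∀ i, IsLocallyNoetherian (D.obj i) := fun i => by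
    haveI := (hD i).2
    exact LocallyOfFiniteType.isLocallyNoetherian (IsTerminal.from specULiftZIsTerminal (D.obj i))
  haveI : ∀ i, QuasiSeparatedSpace (D.obj i) := fun i => by
    haveI := hnoeth i
    infer_instance
  haveI : IsCofiltered Iᵒᵖ := inferInstance
  haveI : IsAffine c.pt := IsAffine.of_isIso e.hom
  obtain ⟨ia, hia⟩ := Scheme.exists_isAffine_of_isLimit D c hc
  obtain ⟨k', ψ, ψa, -⟩ := IsCofilteredOrEmpty.cone_objs k ia
  haveI : IsAffine (D.obj k') := isAffine_of_isAffineHom (D.map ψa)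
  have hg : (e.inv ≫ c.π.app k') ≫ D.map ψ = e.inv ≫ c.π.app k := by
    rw [Category.assoc, c.w]
  have hR := IsPullback.of_hasPullback f₀ (D.map ψ)
  have big : IsPullback g' f f₀ ((e.inv ≫ c.π.app k') ≫ D.map ψ) := by rw [hg]; exact sq
  let l : X ⟶ pullback f₀ (D.map ψ) :=
    hR.lift g' (f ≫ e.inv ≫ c.π.app k') (by rw [Category.assoc]; exact big.w)
  have hl1 : l ≫ pullback.fst f₀ (D.map ψ) = g' := hR.lift_fst _ _ _
  have t : IsPullback (l ≫ pullback.fst f₀ (D.map ψ)) f f₀ ((e.inv ≫ c.π.app k') ≫ D.map ψ) := by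
    rw [hl1]; exact big
  have sq1 : IsPullback l f (pullback.snd f₀ (D.map ψ)) (e.inv ≫ c.π.app k') :=
    IsPullback.of_right t (hR.lift_snd _ _ _) hR
  haveI : LocallyOfFiniteType f₀ := inferInstance
  refine ⟨pullback f₀ (D.map ψ), D.obj k', pullback.snd f₀ (D.map ψ), e.inv ≫ c.π.app k', l, sq1,
    inferInstance, hnoeth k', inferInstance, fun x => ?_⟩
  rw [fibreDimAt_eq_of_isPullback f₀ (D.map ψ) (pullback.fst f₀ (D.map ψ))
    (pullback.snd f₀ (D.map ψ)) hR x]
  exact hfd _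

end Groth.Agent.Lib.R2H3.FibDimLimE
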