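import Mathlib
import Groth.Agent.Lib.R2H3FibDimLimE
import Groth.Agent.Lib.R2H3LimFPDesc
import Groth.Agent.Lib.R2H2AffPushLin
import Groth.Agent.Lib.R2H2HHLin
import Groth.Agent.Lib.R2H2GammaDer
import Groth.Agent.Lib.R2H2ClosedPn
import Groth.Agent.Lib.R2H2ProperFin
import Groth.Agent.Lib.Helper23FinType2
import Groth.Agent.Lib.Helper23QCohAbelian
import Groth.Agent.S0034
import Groth.Agent.S0002

/-!
# Finiteness of the top cohomology of a proper scheme with fibres of dimension `≤ d` over any ring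

(helper3, round 2)
* `finite_HH_top`: `X` proper over `Spec A` (any ring `A`) with fibres of dimension `≤ d`, `M`
  quasi-coherent of finite type: `H^d(X, M)` is a finite `A`-module.
-/

set_option autoImplicit false
set_option linter.unusedSectionVars false
set_option linter.style.haveILetI false
universe u
open CategoryTheory CategoryTheory.Limits AlgebraicGeometry TopologicalSpace Topology Opposite

namespace Groth.Agent.Lib.R2H3.FibDimLimF

open Groth.Agent.Lib.Helper4.FibDim Groth.Agent.Lib.Helper3.LocDimBC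
  Groth.Agent.Lib.R2H3.FibDimLimA Groth.Agent.Lib.R2H3.FibDimLimB
  Groth.Agent.Lib.R2H3.FibDimLimC Groth.Agent.Lib.R2H3.FibDimLimD Groth.Agent.Lib.R2H3.FibDimLimE

/-- `toGlobal` of a composite with `Spec.map`. -/
theorem toGlobal_comp_specMap {X : Scheme.{u}} {A B : Type u} [CommRing A] [CommRing B]
    (h : X ⟶ Spec (CommRingCat.of A)) (ψ : B →+* A) (r : B) :
    Coh.toGlobal (h ≫ Spec.map (CommRingCat.ofHom ψ)) r = Coh.toGlobal h (ψ r) := by
  have h1 := Scheme.ΓSpecIso_inv_naturality (CommRingCat.ofHom ψ)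
  have h2 : (Spec.map (CommRingCat.ofHom ψ)).appTop.hom
      ((Scheme.ΓSpecIso (CommRingCat.of B)).inv.hom r) =
      (Scheme.ΓSpecIso (CommRingCat.of A)).inv.hom (ψ r) :=
    (ConcreteCategory.congr_hom h1 r).symm
  change h.appTop.hom ((Spec.map (CommRingCat.ofHom ψ)).appTop.hom
      ((Scheme.ΓSpecIso (CommRingCat.of B)).inv.hom r)) = _
  rw [h2]
  rfl

/-- transfer of finiteness between two module structures with the same scalar endomorphisms. -/
theorem finite_of_smul {P A M : Type*} [Semiring P] [Semiring A] [AddCommMonoid M]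
    (mP : Module P M) (mA : Module A M)
    (h : ∀ p : P, ∃ a : A, ∀ x : M, mA.smul a x = mP.smul p x)
    (hfin : @Module.Finite P M _ _ mP) : @Module.Finite A M _ _ mA := by
  obtain ⟨S, hS⟩ := hfin.fg_top
  refine @Module.Finite.of_fg_top A M _ _ mA ⟨S, ?_⟩
  rw [eq_top_iff]
  intro x _
  have hx : x ∈ @Submodule.span P M _ _ mP (S : Set M) := by rw [hS]; trivial
  refine @Submodule.span_induction P M _ _ mP (S : Set M)
    (fun y _ => y ∈ @Submodule.span A M _ _ mA (S : Set M)) ?_ ?_ ?_ ?_ x hx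
  · intro y hy
    exact @Submodule.subset_span A M _ _ mA _ y hy
  · exact Submodule.zero_mem _
  · intro y z _ _ hy hz
    exact Submodule.add_mem _ hy hz
  · intro p y _ hy
    obtain ⟨a, ha⟩ := h p
    have h3 : mP.smul p y = mA.smul a y := (ha y).symm
    change mP.smul p y ∈ _
    rw [h3]
    exact @Submodule.smul_mem A M _ _ mA _ y a hy

attribute [local instance] Groth.Agent.Lib.R2H3.RpushRestrict.hasInjectiveResolutions_modules

/-- **Core**: finiteness from a Noetherian model, via a polynomial ring. -/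
theorem finite_HH_of_model (A₀ A : Type u) [CommRing A₀] [CommRing A] [IsNoetherianRing A₀]
    (ψ : A₀ →+* A) {X Z Z₀ : Scheme.{u}} (f₀ : Z₀ ⟶ Spec (CommRingCat.of A₀)) [IsProper f₀]
    (d : ℕ) (hfd₀ : ∀ x, FlatMor.fibreDimAt f₀ x ≤ d)
    (fZ : Z ⟶ Spec (CommRingCat.of A)) (g' : Z ⟶ Z₀)
    (sq : IsPullback g' fZ f₀ (Spec.map (CommRingCat.ofHom ψ)))
    (k : X ⟶ Z) [IsClosedImmersion k] (M : X.Modules) (hM : Coh.IsCoh M) :
    @Module.Finite A (Coh.HH X M d) _ _ (Module.compHom _ (Coh.toGlobal (k ≫ fZ))) := by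
  classical
  let P := MvPolynomial A A₀
  let π : P →+* A := MvPolynomial.eval₂Hom ψ id
  have hπ : Function.Surjective π := fun a => ⟨MvPolynomial.X a, by
    change MvPolynomial.eval₂ ψ id (MvPolynomial.X a) = a
    rw [MvPolynomial.eval₂_X]; rfl⟩
  have hπC : π.comp (algebraMap A₀ P) = ψ := by
    ext a
    change MvPolynomial.eval₂ ψ id (MvPolynomial.C a) = ψ a
    rw [MvPolynomial.eval₂_C]
  -- the base change to the polynomial ring
  let cP : Spec (CommRingCat.of P) ⟶ Spec (CommRingCat.of A₀) :=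
    Spec.map (CommRingCat.ofHom (algebraMap A₀ P))
  let ZP := pullback f₀ cP
  let uP : ZP ⟶ Z₀ := pullback.fst f₀ cP
  let fP : ZP ⟶ Spec (CommRingCat.of P) := pullback.snd f₀ cP
  have hR : IsPullback uP fP f₀ cP := IsPullback.of_hasPullback f₀ cP
  haveI : IsProper fP := inferInstanceAs (IsProper (pullback.snd f₀ cP))
  haveI : LocallyOfFiniteType f₀ := inferInstance
  have hfdP : ∀ x, FlatMor.fibreDimAt fP x ≤ d := fun x => by
    rw [fibreDimAt_eq_of_isPullback f₀ cP uP fP hR x]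
    exact hfd₀ _
  -- the closed immersion of `Z`
  let sπ : Spec (CommRingCat.of A) ⟶ Spec (CommRingCat.of P) := Spec.map (CommRingCat.ofHom π)
  have hsπ : sπ ≫ cP = Spec.map (CommRingCat.ofHom ψ) := by
    rw [← Spec.map_comp, ← CommRingCat.ofHom_comp, hπC]
  haveI : IsClosedImmersion sπ := IsClosedImmersion.spec_of_surjective _ hπ
  let κ : Z ⟶ ZP := hR.lift g' (fZ ≫ sπ) (by rw [Category.assoc, hsπ]; exact sq.w)
  have hκ1 : κ ≫ uP = g' := hR.lift_fst _ _ _
  have hκ2 : κ ≫ fP = fZ ≫ sπ := hR.lift_snd _ _ _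
  have sqκ : IsPullback κ fZ fP sπ :=
    IsPullback.of_right (by rw [hκ1, hsπ]; exact sq) hκ2 hR
  haveI : IsClosedImmersion κ :=
    MorphismProperty.of_isPullback (P := @IsClosedImmersion) sqκ.flip inferInstance
  let k' : X ⟶ ZP := k ≫ κ
  haveI : IsClosedImmersion k' := inferInstanceAs (IsClosedImmersion (k ≫ κ))
  have hk' : k' ≫ fP = (k ≫ fZ) ≫ sπ := by
    simp only [k', Category.assoc, hκ2]
  -- the module `N = k'_* M`
  haveI : M.IsQuasicoherent := hM.1
  have hN : Coh.IsCoh ((Scheme.Modules.pushforward k').obj M) :=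
    Groth.Agent.Lib.R2H2.ClosedPn.isCoh_push k' M hM
  haveI := hN.1
  haveI := hN.2
  haveI : IsAffineHom cP := inferInstance
  haveI : IsAffineHom uP :=
    MorphismProperty.of_isPullback (P := @IsAffineHom) hR.flip inferInstance
  haveI : CompactSpace Z₀ := QuasiCompact.compactSpace_of_compactSpace f₀
  haveI : QuasiSeparatedSpace Z₀ := quasiSeparatedSpace_of_quasiSeparated f₀
  obtain ⟨H, p, hHq, hHfp, hp⟩ := Groth.Agent.Lib.R2H3.LimFPDesc.exists_fp_pullback_epi uP
    ((Scheme.Modules.pushforward k').obj M)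
  haveI := hHq
  haveI := hHfp
  haveI := hp
  -- flat base change and Noetherian finiteness
  letI : Z₀.Over (Spec (CommRingCat.of A₀)) := ⟨f₀⟩
  letI : ZP.Over (Spec (CommRingCat.of P)) := ⟨fP⟩
  haveI : IsProper (Z₀ ↘ Spec (CommRingCat.of A₀)) := ‹IsProper f₀›
  haveI : Coh.IsQCoh H := hHq
  obtain ⟨e34⟩ := Groth.Agent.S0034.result A₀ P Z₀ ZP uP hR H d
  haveI : Module.Finite A₀ (Coh.HH Z₀ H d) :=
    Groth.Agent.S0002.result A₀ Z₀ H ⟨hHq, inferInstance⟩ d
  haveI : Module.Finite P (Coh.HH ZP ((Scheme.Modules.pullback uP).obj H) d) :=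
    Module.Finite.equiv e34
  -- right exactness in degree `d`
  haveI : ((Scheme.Modules.pullback uP).obj H).IsQuasicoherent :=
    Groth.Agent.Lib.Helper2.PullbackSec.isQuasicoherent_pullback uP H
  haveI hKq : (kernel p).IsQuasicoherent :=
    Groth.Agent.Lib.Helper23.QCohLocal.isQuasicoherent_kernel p
  let S : ShortComplex ZP.Modules := ShortComplex.mk (kernel.ι p) p (kernel.condition p)
  have hS : S.ShortExact :=
    { exact := ShortComplex.exact_kernel p
      mono_f := by dsimp [S]; infer_instance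
      epi_g := by dsimp [S]; infer_instance }
  have hvan : Subsingleton (Coh.HH ZP (kernel p) (d + 1)) :=
    subsingleton_HH_of_affine fP d hfdP (kernel p) hKq (d + 1) (Nat.lt_succ_self d)
  have hsurj : Function.Surjective (Groth.Agent.Lib.R2H2.HHLin.HmapA P p d) := by
    intro x₃
    obtain ⟨x₂, hx₂⟩ := Groth.Agent.Lib.R2H2.HHLin.exact₃ S hS d x₃ (Subsingleton.elim _ _)
    exact ⟨x₂, hx₂⟩
  haveI : Module.Finite P (Coh.HH ZP ((Scheme.Modules.pushforward k').obj M) d) :=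
    Module.Finite.of_surjective (Groth.Agent.Lib.R2H2.HHLin.HmapA P p d) hsurj
  -- back to `X`
  haveI : CompactSpace ZP := QuasiCompact.compactSpace_of_compactSpace fP
  haveI : IsAffine (Spec (CommRingCat.of P)) := inferInstance
  obtain ⟨ι, _, V, hcov, -, hV⟩ :=
    Groth.Agent.Lib.R2H2.ProperFin.exists_affine_cover_of_isSeparated fP
  letI : X.Over (Spec (CommRingCat.of P)) := ⟨(k ≫ fZ) ≫ sπ⟩
  obtain ⟨E⟩ := Groth.Agent.Lib.R2H2.AffPushLin.exists_push_linear k' V P hk' hcov hV M hM.1 d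
  haveI : Module.Finite P (Coh.HH X M d) := Module.Finite.equiv E.symm
  -- transfer to `A`
  refine finite_of_smul (Coh.moduleOver P X M d) (Module.compHom _ (Coh.toGlobal (k ≫ fZ)))
    (fun r => ⟨π r, fun x => ?_⟩) inferInstance
  change Sheaf.H.map (Coh.smulAb M (Coh.toGlobal (k ≫ fZ) (π r))) d x =
    Sheaf.H.map (Coh.smulAb M (Coh.toGlobal ((k ≫ fZ) ≫ sπ) r)) d x
  rw [toGlobal_comp_specMap]

/-- **Finiteness of the top cohomology** over an arbitrary ring. -/
theorem finite_HH_top (A : Type u) [CommRing A] {X : Scheme.{u}}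
    (f : X ⟶ Spec (CommRingCat.of A)) [IsProper f] (d : ℕ)
    (hd : ∀ x : X, FlatMor.fibreDimAt f x ≤ d) (M : X.Modules) (hM : Coh.IsCoh M) :
    @Module.Finite A (Coh.HH X M d) _ _ (Module.compHom _ (Coh.toGlobal f)) := by
  obtain ⟨Z₁, f₁, ι₁, h1, h2, h3, h4⟩ :=
    Groth.Agent.Lib.R2H3.ProperLim.exists_closedImmersion_proper_fp f
  haveI := h1
  haveI := h2
  haveI := h3
  haveI : LocallyOfFiniteType f₁ := inferInstance
  obtain ⟨Z', ι', k, h5, h6, h7, h8⟩ := exists_closedSubscheme_fp (f := f₁) d ι₁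
    (by rw [h4]; exact fiber_le_of_fibreDimAt_le f d hd)
  haveI := h5
  haveI := h6
  haveI : IsClosedImmersion (k ≫ ι') := by rw [h7]; infer_instance
  haveI : IsClosedImmersion k := IsClosedImmersion.of_comp k ι'
  have hkf : k ≫ (ι' ≫ f₁) = f := by rw [← Category.assoc, h7, h4]
  haveI : IsProper (ι' ≫ f₁) := inferInstance
  haveI : LocallyOfFinitePresentation (ι' ≫ f₁) := inferInstance
  obtain ⟨Z₀, Y₀, f₀, g, g', sq, hY₀a, hY₀n, hf₀, hfd₀⟩ :=
    exists_noetherian_affine_model (ι' ≫ f₁) d (fibreDimAt_le_of_fiber _ d h8)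
  haveI := hY₀a
  haveI := hY₀n
  haveI := hf₀
  let R₀ : CommRingCat.{u} := Γ(Y₀, ⊤)
  haveI : IsNoetherianRing R₀ :=
    IsLocallyNoetherian.component_noetherian ⟨⊤, isAffineOpen_top Y₀⟩
  let e₀ : Y₀ ≅ Spec R₀ := Y₀.isoSpec
  let f₀' : Z₀ ⟶ Spec (CommRingCat.of R₀) := f₀ ≫ e₀.hom
  haveI : IsProper f₀' := inferInstanceAs (IsProper (f₀ ≫ e₀.hom))
  let ψ' : R₀ ⟶ CommRingCat.of A := Spec.preimage (g ≫ e₀.hom)
  have hψ' : Spec.map ψ' = g ≫ e₀.hom := Spec.map_preimage _
  have h9 : IsPullback (𝟙 Z₀) f₀ f₀' e₀.hom := IsPullback.of_horiz_isIso ⟨by simp [f₀']⟩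
  have sq' : IsPullback g' (ι' ≫ f₁) f₀' (Spec.map (CommRingCat.ofHom ψ'.hom)) := by
    have h10 := sq.paste_horiz h9
    rw [Category.comp_id] at h10
    have h11 : Spec.map (CommRingCat.ofHom ψ'.hom) = g ≫ e₀.hom := hψ'
    rw [h11]
    exact h10
  haveI : LocallyOfFiniteType f₀ := inferInstance
  have hfd₀' : ∀ x, FlatMor.fibreDimAt f₀' x ≤ d := fun x => by
    have h5 := fibreDimAt_eq_of_isPullback f₀' e₀.hom (𝟙 Z₀) f₀ h9 x
    have h6 : (𝟙 Z₀ : Z₀ ⟶ Z₀) x = x := rfl
    rw [h6] at h5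
    rw [← h5]
    exact hfd₀ x
  have key := finite_HH_of_model R₀ A ψ'.hom f₀' d hfd₀' (ι' ≫ f₁) g' sq' k M hM
  rwa [hkf] at key

end Groth.Agent.Lib.R2H3.FibDimLimF
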