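import Mathlib

/-!
# Algebra for top-degree base change (helper3, round 2)

* `exists_smul_eq_zero_of_subsingleton_tensor`: `M` finite over `A`, `B` a field over `A` with
  `B ⊗[A] M = 0`: some `s` not in the kernel of `A → B` kills `M`.
* `subsingleton_tensor_of_smul_top`: `N = J N` and `J` dies in `B` implies `B ⊗[P] N = 0`.
* `subsingleton_tensor_of_tower`.
-/

set_option autoImplicit false
set_option linter.style.haveILetI false
universe u
open TensorProduct

namespace Groth.Agent.Lib.R2H3.TopBCA

/-- a finite module whose fibre at a field-valued point vanishes is killed by an element which is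
nonzero at that point -/
theorem exists_smul_eq_zero_of_subsingleton_tensor {A B M : Type u} [CommRing A] [Field B]
    [Algebra A B] [AddCommGroup M] [Module A M] [Module.Finite A M]
    (h : Subsingleton (B ⊗[A] M)) : ∃ s : A, algebraMap A B s ≠ 0 ∧ ∀ m : M, s • m = 0 := by
  let p : Ideal A := RingHom.ker (algebraMap A B)
  haveI hp : p.IsPrime := RingHom.ker_isPrime (algebraMap A B)
  let pt : PrimeSpectrum A := ⟨p, hp⟩
  have hns : pt ∉ Module.support A M := by
    intro hmem
    rw [Module.mem_support_iff_nontrivial_residueField_tensorProduct] at hmem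
    -- the residue field maps to `B`
    let φ : p.ResidueField →+* B := Ideal.ResidueField.lift p (algebraMap A B) le_rfl (by
      intro a ha
      change IsUnit (algebraMap A B a)
      rw [isUnit_iff_ne_zero]
      exact fun h0 => ha h0)
    letI : Algebra p.ResidueField B := φ.toAlgebra
    haveI : IsScalarTower A p.ResidueField B := IsScalarTower.of_algebraMap_eq (fun a => by
      change algebraMap A B a = φ (algebraMap A p.ResidueField a)
      exact (Ideal.ResidueField.lift_algebraMap _ _ _ _ a).symm)
    let e := AlgebraTensorModule.cancelBaseChange A p.ResidueField p.ResidueField B M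
    haveI : Subsingleton (B ⊗[p.ResidueField] (p.ResidueField ⊗[A] M)) :=
      e.toEquiv.subsingleton
    have h2 : Subsingleton (p.ResidueField ⊗[A] M) :=
      Module.FaithfullyFlat.lTensor_reflects_triviality p.ResidueField B _
    exact not_subsingleton _ h2
  rw [Module.mem_support_iff_of_finite] at hns
  obtain ⟨s, hs1, hs2⟩ := SetLike.not_le_iff_exists.mp hns
  refine ⟨s, fun h0 => hs2 h0, fun m => ?_⟩
  exact Module.mem_annihilator.mp hs1 m

/-- if `N = J N` and `J` maps to zero in `B` then `B ⊗[P] N = 0` -/
theorem subsingleton_tensor_of_smul_top {P B N : Type u} [CommRing P] [CommRing B] [Algebra P B]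
    [AddCommGroup N] [Module P N] (J : Ideal P) (hJ : ∀ j ∈ J, algebraMap P B j = 0)
    (h : ∀ n : N, n ∈ J • (⊤ : Submodule P N)) : Subsingleton (B ⊗[P] N) := by
  have key : ∀ (b : B) (n : N), b ⊗ₜ[P] n = 0 := by
    intro b n
    refine Submodule.smul_induction_on (p := fun n => b ⊗ₜ[P] n = 0) (h n) ?_ ?_
    · intro j hj m _
      change b ⊗ₜ[P] (j • m) = 0
      rw [← TensorProduct.smul_tmul, Algebra.smul_def, hJ j hj, zero_mul,
        TensorProduct.zero_tmul]
    · intro x y hx hy
      rw [TensorProduct.tmul_add, hx, hy, add_zero]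
  refine ⟨fun x y => ?_⟩
  have h0 : ∀ z : B ⊗[P] N, z = 0 := by
    intro z
    induction z using TensorProduct.induction_on with
    | zero => rfl
    | tmul b n => exact key b n
    | add x y hx hy => rw [hx, hy, add_zero]
  rw [h0 x, h0 y]

/-- cancellation in a tower -/
theorem subsingleton_tensor_of_tower {A P B M : Type u} [CommRing A] [CommRing P] [CommRing B]
    [Algebra A P] [Algebra P B] [Algebra A B] [IsScalarTower A P B] [AddCommGroup M] [Module A M]
    (h : Subsingleton (B ⊗[P] (P ⊗[A] M))) : Subsingleton (B ⊗[A] M) :=
  (AlgebraTensorModule.cancelBaseChange A P P B M).symm.toEquiv.subsingleton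

end Groth.Agent.Lib.R2H3.TopBCA
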