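import Mathlib
import Groth.Agent.Lib.R2H3FibDimLimF
import Groth.Agent.Lib.R2H3TopBCA
import Groth.Agent.Lib.R2H2CoprodCoh
import Groth.Agent.Lib.R2H4BCGlue
import Groth.Agent.Lib.H9RegImmFlatBC
import Groth.Agent.Lib.R2H3ClosedTensor
import Groth.Agent.Lib.Helper23PB
import Groth.Agent.Lib.Helper23Serre
import Groth.Agent.Lib.Helper20StalkExact
import Groth.Agent.Lib.Helper26ModLim
import Groth.Agent.Lib.R2H2ProperFin

/-!
# Top-degree base change for the structure sheaf along a closed immersion of the base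

(helper3, round 2)

`XP` proper over `Spec P` with fibres of dimension `≤ d`, `π : P → B` surjective, `X' = XP ×_P B`.
* `subsingleton_HH_of_closed`: `H^d(XP, O) = 0` implies `H^d(X', O) = 0`;
* `mem_smul_top_of_closed`: `H^d(X', O) = 0` implies `H^d(XP, O) = (ker π) H^d(XP, O)`.
-/

set_option autoImplicit false
set_option linter.unusedSectionVars false
set_option linter.style.haveILetI false
universe u
open CategoryTheory CategoryTheory.Limits AlgebraicGeometry TopologicalSpace Topology Opposite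

namespace Groth.Agent.Lib.R2H3.TopBCB

open Groth.Agent.Lib.Helper4.FibDim Groth.Agent.Lib.Helper3.LocDimBC
  Groth.Agent.Lib.R2H3.FibDimLimB Groth.Agent.Lib.R2H3.FibDimLimD
  Groth.Agent.Lib.R2H3.FibDimLimF Groth.Agent.Lib.R2H2.HHLin

attribute [local instance] Groth.Agent.Lib.R2H3.RpushRestrict.hasInjectiveResolutions_modules

theorem isQCoh_structureModule (W : Scheme.{u}) : (Coh.structureModule W).IsQuasicoherent :=
  (Groth.Agent.Lib.R2H4BCGlue.isCoh_structureModule W).1

section Smul

variable {X : Scheme.{u}}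

theorem smulEnd_aux (M : X.Modules) (r : Coh.Γtop X) (U : (Opens X)ᵒᵖ)
    (a : X.ringCatSheaf.obj.obj U) (m : M.val.obj U) :
    Coh.resTop X U r • (a • m) = a • (Coh.resTop X U r • m) := by
  rw [smul_smul, smul_smul]
  congr 1
  exact (X.presheaf.obj U).commRing.mul_comm _ _

/-- multiplication by a global function, as an endomorphism of a module -/
noncomputable def smulEnd (M : X.Modules) (r : Coh.Γtop X) : M ⟶ M :=
  ⟨PresheafOfModules.homMk
    { app := fun U => AddCommGrpCat.ofHom
        (DistribSMul.toAddMonoidHom (M.val.obj U) (Coh.resTop X U r))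
      naturality := fun U V f => by
        ext m
        change Coh.resTop X V r • (M.val.map f).hom m =
          (M.val.map f).hom (@HSMul.hSMul (X.ringCatSheaf.obj.obj U) (M.val.obj U) (M.val.obj U) _
            (Coh.resTop X U r) m)
        rw [← Coh.resTop_comp U V f r]
        exact (M.val.map_smul f (Coh.resTop X U r) m).symm }
    (fun U a m => smulEnd_aux M r U a m)⟩

theorem abMap_smulEnd (M : X.Modules) (r : Coh.Γtop X) : abMap (smulEnd M r) = Coh.smulAb M r := by
  apply Sheaf.hom_ext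
  apply NatTrans.ext
  funext U
  ext m
  rfl

theorem HmapL_smulEnd (M : X.Modules) (r : Coh.Γtop X) (i : ℕ) (x : Coh.HH X M i) :
    HmapL (smulEnd M r) i x = r • x := by
  rw [HmapL_apply, abMap_smulEnd]
  rfl

theorem smulEnd_comp {M N : X.Modules} (φ : M ⟶ N) (r : Coh.Γtop X) :
    smulEnd M r ≫ φ = φ ≫ smulEnd N r := by
  haveI hF : (Groth.Agent.Lib.Helper23.QCohLocal.toAbF X).Faithful :=
    inferInstanceAs (SheafOfModules.toSheaf X.ringCatSheaf).Faithful
  apply (Groth.Agent.Lib.Helper23.QCohLocal.toAbF X).map_injective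
  rw [Functor.map_comp, Functor.map_comp]
  have h := smulAb_naturality φ r
  rw [← abMap_smulEnd, ← abMap_smulEnd] at h
  exact h

/-- multiplication by a function dying on `X'` is zero on every `κ_* M'` -/
theorem smulEnd_push_eq_zero {X' : Scheme.{u}} (κ : X' ⟶ X) [IsAffineHom κ] (M' : X'.Modules)
    (r : Coh.Γtop X) (hr : (κ.appTop).hom r = 0) :
    smulEnd ((Scheme.Modules.pushforward κ).obj M') r = 0 := by
  haveI hF : (Groth.Agent.Lib.Helper23.QCohLocal.toAbF X).Faithful :=
    inferInstanceAs (SheafOfModules.toSheaf X.ringCatSheaf).Faithful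
  apply (Groth.Agent.Lib.Helper23.QCohLocal.toAbF X).map_injective
  have h1 : abMap (smulEnd ((Scheme.Modules.pushforward κ).obj M') r) =
      Coh.smulAb ((Scheme.Modules.pushforward κ).obj M') r := abMap_smulEnd _ r
  have h2 := Groth.Agent.Lib.R2H2.AffPushLin.smulAb_push κ M' r
  have h3 : Coh.smulAb M' ((κ.appTop).hom r) = 0 := by
    have h4 : ((κ.appTop).hom r : Coh.Γtop X') = (0 : Coh.Γtop X') := hr
    rw [h4]
    exact Coh.smulAb_zero M'
  rw [h3, Functor.map_zero] at h2
  rw [Functor.map_zero]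
  exact h1.trans h2

end Smul

section Closed

variable (P B : Type u) [CommRing P] [CommRing B] (π : P →+* B) (hπ : Function.Surjective π)
  {XP X' : Scheme.{u}} (fP : XP ⟶ Spec (CommRingCat.of P)) [IsProper fP] (d : ℕ)
  (hfd : ∀ x, FlatMor.fibreDimAt fP x ≤ d)
  (f' : X' ⟶ Spec (CommRingCat.of B)) (κ : X' ⟶ XP)
  (sq : IsPullback κ f' fP (Spec.map (CommRingCat.ofHom π)))

include hπ sq in
theorem isClosedImmersion_of_sq : IsClosedImmersion κ := by
  haveI : IsClosedImmersion (Spec.map (CommRingCat.ofHom π)) :=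
    IsClosedImmersion.spec_of_surjective _ hπ
  exact MorphismProperty.of_isPullback (P := @IsClosedImmersion) sq.flip inferInstance

include hπ sq hfd in
/-- the restriction map `H^d(XP, O) → H^d(XP, κ_* O)` is surjective -/
theorem surjective_HmapL_unitToPush :
    Function.Surjective (HmapL (ClSub.unitToPush κ) d) := by
  haveI := isClosedImmersion_of_sq P B π hπ fP f' κ sq
  haveI : Epi (ClSub.unitToPush κ) := Groth.Agent.Lib.R2H3.ClosedTensor.epi_unitToPush κ
  haveI := isQCoh_structureModule XP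
  haveI := isQCoh_structureModule X'
  haveI : ((Scheme.Modules.pushforward κ).obj (Coh.structureModule X')).IsQuasicoherent :=
    Groth.Agent.Lib.Helper23.QCohLocal.isQuasicoherent_pushforward κ _
  haveI hKq : (kernel (ClSub.unitToPush κ)).IsQuasicoherent :=
    Groth.Agent.Lib.Helper23.QCohLocal.isQuasicoherent_kernel _
  let S : ShortComplex XP.Modules := ShortComplex.mk (kernel.ι (ClSub.unitToPush κ))
    (ClSub.unitToPush κ) (kernel.condition _)
  have hS : S.ShortExact :=
    { exact := ShortComplex.exact_kernel _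
      mono_f := by dsimp [S]; infer_instance
      epi_g := by dsimp [S]; infer_instance }
  haveI : IsAffine (Spec (CommRingCat.of P)) := inferInstance
  have hvan : Subsingleton (Coh.HH XP (kernel (ClSub.unitToPush κ)) (d + 1)) :=
    subsingleton_HH_of_affine fP d hfd _ hKq (d + 1) (Nat.lt_succ_self d)
  intro x₃
  obtain ⟨x₂, hx₂⟩ := exact₃ S hS d x₃ (Subsingleton.elim _ _)
  exact ⟨x₂, hx₂⟩

include hπ sq hfd in
/-- **easy direction** -/
theorem subsingleton_HH_of_closed
    (h0 : Subsingleton (Coh.HH XP (Coh.structureModule XP) d)) :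
    Subsingleton (Coh.HH X' (Coh.structureModule X') d) := by
  haveI := isClosedImmersion_of_sq P B π hπ fP f' κ sq
  haveI : Coh.IsQCoh (Coh.structureModule X') := isQCoh_structureModule X'
  obtain ⟨e0⟩ := Groth.Agent.S0012.result κ (Coh.structureModule X') d
  have hs := surjective_HmapL_unitToPush P B π hπ fP d hfd f' κ sq
  haveI : Subsingleton (Coh.HH XP ((Coh.push κ).obj (Coh.structureModule X')) d) :=
    hs.subsingleton
  exact e0.toEquiv.subsingleton

include hπ sq in
/-- local description of the ideal of `X'` in `XP` -/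
theorem exists_rep_of_app_eq_zero (W : XP.Opens) (hW : IsAffineOpen W) (a : Γ(XP, W))
    (ha : (κ.app W).hom a = 0) :
    a ∈ Ideal.span {b : Γ(XP, W) | ∃ j : P, π j = 0 ∧
      b = Coh.resTop XP (op W) (Coh.toGlobal fP j)} := by
  haveI hcl0 : IsClosedImmersion (Spec.map (CommRingCat.ofHom π)) :=
    IsClosedImmersion.spec_of_surjective _ hπ
  have hcl : IsClosedImmersion ((Spec.map (CommRingCat.ofHom π)) ∣_ (⊤ : (Spec (CommRingCat.of P)).Opens)) :=
    inferInstance
  have hle : W ≤ fP ⁻¹ᵁ (⊤ : (Spec (CommRingCat.of P)).Opens) := le_top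
  obtain ⟨-, hk⟩ := Groth.Agent.Lib.H9RegImmFlatBC.isClosedImmersion_and_ker
    (Spec.map (CommRingCat.ofHom π)) fP κ f' sq.flip ⊤ (isAffineOpen_top _) hcl W hW hle
  have ha' : a ∈ RingHom.ker (κ.app W).hom := ha
  rw [hk, Ideal.map] at ha'
  refine Ideal.span_mono ?_ ha'
  rintro b ⟨t, ht, rfl⟩
  refine ⟨(Scheme.ΓSpecIso (CommRingCat.of P)).hom.hom t, ?_, ?_⟩
  · have h1 := Scheme.ΓSpecIso_naturality (CommRingCat.ofHom π)
    have h2 := ConcreteCategory.congr_hom h1 t
    have ht' : ((Spec.map (CommRingCat.ofHom π)).appTop).hom t = 0 := ht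
    have h2' : (Scheme.ΓSpecIso (CommRingCat.of B)).hom.hom
        (((Spec.map (CommRingCat.ofHom π)).appTop).hom t) =
        π ((Scheme.ΓSpecIso (CommRingCat.of P)).hom.hom t) := h2
    rw [← h2', ht', map_zero]
  · have h3 : (Scheme.ΓSpecIso (CommRingCat.of P)).inv.hom
        ((Scheme.ΓSpecIso (CommRingCat.of P)).hom.hom t) = t := by
      rw [← CommRingCat.comp_apply, Iso.hom_inv_id]; rfl
    change (fP.appLE ⊤ W hle).hom t = Coh.resTop XP (op W) ((fP.appTop).hom
      ((Scheme.ΓSpecIso (CommRingCat.of P)).inv.hom _))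
    rw [h3]
    rfl

end Closed


section Q2

variable (P B : Type u) [CommRing P] [CommRing B] (π : P →+* B) (hπ : Function.Surjective π)
  {XP X' : Scheme.{u}} (fP : XP ⟶ Spec (CommRingCat.of P)) [IsProper fP] (d : ℕ)
  (hfd : ∀ x, FlatMor.fibreDimAt fP x ≤ d)
  (f' : X' ⟶ Spec (CommRingCat.of B)) (κ : X' ⟶ XP)
  (sq : IsPullback κ f' fP (Spec.map (CommRingCat.ofHom π)))

include sq in
theorem appTop_toGlobal_eq_zero (j : P) (hj : π j = 0) :
    (κ.appTop).hom (Coh.toGlobal fP j) = 0 := by
  have h1 : (κ.appTop).hom (Coh.toGlobal fP j) = Coh.toGlobal (κ ≫ fP) j := rfl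
  rw [h1, sq.w, toGlobal_comp_specMap, hj, map_zero]
  rfl

/-- copies of `O` indexed by the kernel of `π` -/
noncomputable abbrev EO : {j : P // π j = 0} → XP.Modules := fun _ => Coh.structureModule XP

/-- `∐_{j ∈ ker π} O → O`, multiplication by `j` on the `j`-th summand -/
noncomputable def sigmaMap : (∐ (EO P B π (XP := XP))) ⟶ Coh.structureModule XP :=
  Sigma.desc (fun j => smulEnd (Coh.structureModule XP) (Coh.toGlobal fP j.1))

theorem ι_sigmaMap (j : {j : P // π j = 0}) :
    Sigma.ι (EO P B π (XP := XP)) j ≫ sigmaMap P B π fP =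
      smulEnd (Coh.structureModule XP) (Coh.toGlobal fP j.1) := by
  rw [sigmaMap]
  exact Sigma.ι_desc _ _

include hπ sq in
theorem sigmaMap_comp : sigmaMap P B π fP ≫ ClSub.unitToPush κ = 0 := by
  haveI := isClosedImmersion_of_sq P B π hπ fP f' κ sq
  apply Sigma.hom_ext
  intro j
  rw [← Category.assoc, ι_sigmaMap, smulEnd_comp,
    smulEnd_push_eq_zero κ _ _ (appTop_toGlobal_eq_zero P B π fP f' κ sq j.1 j.2), comp_zero,
    comp_zero]

/-- `∐_{j ∈ ker π} O → ker(O → κ_* O)` -/
noncomputable def epsMap : (∐ (EO P B π (XP := XP))) ⟶ kernel (ClSub.unitToPush κ) :=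
  kernel.lift _ (sigmaMap P B π fP) (sigmaMap_comp P B π hπ fP f' κ sq)

theorem epsMap_ι : epsMap P B π hπ fP f' κ sq ≫ kernel.ι (ClSub.unitToPush κ) =
    sigmaMap P B π fP := kernel.lift_ι _ _ _

theorem smulEnd_app_one (r : Coh.Γtop XP) (W : XP.Opens) :
    (smulEnd (Coh.structureModule XP) r).app W (1 : Γ(XP, W)) = Coh.resTop XP (op W) r := by
  exact mul_one (show Γ(XP, W) from Coh.resTop XP (op W) r)

theorem epi_epsMap : Epi (epsMap P B π hπ fP f' κ sq) := by
  apply Groth.Agent.Lib.Helper23.Serre.epi_of_locally_surjective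
  intro V t x hx
  obtain ⟨_, ⟨W, hW, rfl⟩, hxW, hle⟩ :=
    XP.isBasis_affineOpens.exists_subset_of_mem_open hx V.isOpen
  refine ⟨W, hle, hxW, ?_⟩
  set t' := (kernel (ClSub.unitToPush κ)).presheaf.map (homOfLE hle).op t with ht'
  have ha : (κ.app W).hom ((kernel.ι (ClSub.unitToPush κ)).app W t') = 0 := by
    have h1 := kernel.condition (ClSub.unitToPush κ)
    have h2 := congrArg (fun φ => Scheme.Modules.Hom.app φ W t') h1
    exact h2
  have hmem := exists_rep_of_app_eq_zero P B π hπ fP f' κ sq W hW _ ha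
  have key : ∀ a ∈ Ideal.span {b : Γ(XP, W) | ∃ j : P, π j = 0 ∧
      b = Coh.resTop XP (op W) (Coh.toGlobal fP j)},
      ∃ s : Γ(∐ (EO P B π (XP := XP)), W), (sigmaMap P B π fP).app W s = a := by
    intro a ha
    induction ha using Submodule.span_induction with
    | mem b hb =>
      obtain ⟨j, hj, rfl⟩ := hb
      refine ⟨(Sigma.ι (EO P B π (XP := XP)) ⟨j, hj⟩).app W (1 : Γ(XP, W)), ?_⟩
      have h1 := congrArg (fun φ => Scheme.Modules.Hom.app φ W (1 : Γ(XP, W)))
        (ι_sigmaMap P B π fP ⟨j, hj⟩)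
      exact h1.trans (smulEnd_app_one _ W)
    | zero => exact ⟨0, map_zero _⟩
    | add a b _ _ ha hb =>
      obtain ⟨s, hs⟩ := ha
      obtain ⟨s', hs'⟩ := hb
      exact ⟨s + s', by rw [map_add, hs, hs']; rfl⟩
    | smul c a _ ha =>
      obtain ⟨s, hs⟩ := ha
      exact ⟨c • s, by rw [Scheme.Modules.Hom.app_smul, hs]; rfl⟩
  obtain ⟨s, hs⟩ := key _ hmem
  refine ⟨s, ?_⟩
  apply Groth.Agent.Lib.Helper20.StalkExact.injective_app_of_mono (kernel.ι (ClSub.unitToPush κ)) W
  have h3 := congrArg (fun φ => Scheme.Modules.Hom.app φ W s) (epsMap_ι P B π hπ fP f' κ sq)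
  exact h3.trans hs

include hπ sq hfd in
/-- **hard direction over a closed immersion**: if `H^d(X', O) = 0` then every class of
`H^d(XP, O)` is a finite combination of classes with coefficients in `ker π`. -/
theorem exists_sum_of_HmapL_eq_zero
    (x : Coh.HH XP (Coh.structureModule XP) d) (hx : HmapL (ClSub.unitToPush κ) d x = 0) :
    ∃ (S : Finset {j : P // π j = 0})
      (y : {j : P // π j = 0} → Coh.HH XP (Coh.structureModule XP) d),
      x = ∑ j ∈ S, Coh.toGlobal fP j.1 • y j := by
  classical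
  haveI := isClosedImmersion_of_sq P B π hπ fP f' κ sq
  haveI : Coh.IsQCoh (Coh.structureModule X') := isQCoh_structureModule X'
  haveI := isQCoh_structureModule XP
  haveI := isQCoh_structureModule X'
  haveI : Epi (ClSub.unitToPush κ) := Groth.Agent.Lib.R2H3.ClosedTensor.epi_unitToPush κ
  haveI : ((Scheme.Modules.pushforward κ).obj (Coh.structureModule X')).IsQuasicoherent :=
    Groth.Agent.Lib.Helper23.QCohLocal.isQuasicoherent_pushforward κ _
  haveI hKq : (kernel (ClSub.unitToPush κ)).IsQuasicoherent :=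
    Groth.Agent.Lib.Helper23.QCohLocal.isQuasicoherent_kernel _
  haveI hEq : (∐ (EO P B π (XP := XP))).IsQuasicoherent :=
    Groth.Agent.Lib.R2H2.CoprodCoh.isQuasicoherent_sigma _ (fun _ => isQCoh_structureModule XP)
  haveI : IsAffine (Spec (CommRingCat.of P)) := inferInstance
  -- step 1: `x` comes from the kernel
  let S1 : ShortComplex XP.Modules := ShortComplex.mk (kernel.ι (ClSub.unitToPush κ))
    (ClSub.unitToPush κ) (kernel.condition _)
  have hS1 : S1.ShortExact :=
    { exact := ShortComplex.exact_kernel _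
      mono_f := by dsimp [S1]; infer_instance
      epi_g := by dsimp [S1]; infer_instance }
  obtain ⟨x₁, hx₁⟩ := exact₂ S1 hS1 d x hx
  -- step 2: `x₁` comes from the coproduct
  haveI := epi_epsMap P B π hπ fP f' κ sq
  haveI hK2 : (kernel (epsMap P B π hπ fP f' κ sq)).IsQuasicoherent :=
    Groth.Agent.Lib.Helper23.QCohLocal.isQuasicoherent_kernel _
  let S2 : ShortComplex XP.Modules := ShortComplex.mk (kernel.ι (epsMap P B π hπ fP f' κ sq))
    (epsMap P B π hπ fP f' κ sq) (kernel.condition _)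
  have hS2 : S2.ShortExact :=
    { exact := ShortComplex.exact_kernel _
      mono_f := by dsimp [S2]; infer_instance
      epi_g := by dsimp [S2]; infer_instance }
  have hvan : Subsingleton (Coh.HH XP (kernel (epsMap P B π hπ fP f' κ sq)) (d + 1)) :=
    subsingleton_HH_of_affine fP d hfd _ hK2 (d + 1) (Nat.lt_succ_self d)
  obtain ⟨e, he⟩ := exact₃ S2 hS2 d x₁ (Subsingleton.elim _ _)
  -- step 3: `e` is a finite sum
  haveI : CompactSpace XP := by
    haveI : QuasiCompact fP := inferInstance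
    exact QuasiCompact.compactSpace_of_compactSpace fP
  haveI := Groth.Agent.Lib.R2H2.ProperFin.isAffineHom_diagonal_of_isSeparated fP
  obtain ⟨s, hs⟩ := Groth.Agent.Lib.Helper26.ModLim.exists_finite_affine_cover XP
  have hU : ∀ t : Finset s, t.Nonempty → IsAffineOpen (⨅ i ∈ t, ((i.1 : XP.affineOpens) : XP.Opens)) := by
    intro t ht
    exact IsAffineOpen.biInf (t : Set s) t.finite_toSet (Finset.coe_nonempty.2 ht)
      (fun i _ => i.1.2)
  obtain ⟨T, hT⟩ := Groth.Agent.Lib.R2H2.CoprodCoh.exists_sum_HH (EO P B π (XP := XP))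
    (fun k : s => ((k.1 : XP.affineOpens) : XP.Opens)) hs.iSup_eq_top hU
    (fun _ => isQCoh_structureModule XP) d e
  refine ⟨T, fun j => HmapL (Sigma.π (EO P B π (XP := XP)) j) d e, ?_⟩
  have h1 : x = HmapL (sigmaMap P B π fP) d e := by
    rw [← hx₁, ← he, ← epsMap_ι P B π hπ fP f' κ sq, HmapL_comp]
  rw [h1]
  conv_lhs => rw [hT]
  rw [map_sum]
  refine Finset.sum_congr rfl (fun j _ => ?_)
  rw [← HmapL_comp, ι_sigmaMap, HmapL_smulEnd]

include hπ sq hfd in
theorem exists_sum_of_closed (h0 : Subsingleton (Coh.HH X' (Coh.structureModule X') d))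
    (x : Coh.HH XP (Coh.structureModule XP) d) :
    ∃ (S : Finset {j : P // π j = 0})
      (y : {j : P // π j = 0} → Coh.HH XP (Coh.structureModule XP) d),
      x = ∑ j ∈ S, Coh.toGlobal fP j.1 • y j := by
  haveI := isClosedImmersion_of_sq P B π hπ fP f' κ sq
  haveI : Coh.IsQCoh (Coh.structureModule X') := isQCoh_structureModule X'
  obtain ⟨e0⟩ := Groth.Agent.S0012.result κ (Coh.structureModule X') d
  haveI : Subsingleton (Coh.HH XP ((Coh.push κ).obj (Coh.structureModule X')) d) :=
    e0.symm.toEquiv.subsingleton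
  exact exists_sum_of_HmapL_eq_zero P B π hπ fP d hfd f' κ sq x (Subsingleton.elim _ _)

include hπ sq in
/-- classes with a coefficient in `ker π` die on `X'` -/
theorem HmapL_unitToPush_smul (j : P) (hj : π j = 0)
    (y : Coh.HH XP (Coh.structureModule XP) d) :
    HmapL (ClSub.unitToPush κ) d (Coh.toGlobal fP j • y) = 0 := by
  haveI := isClosedImmersion_of_sq P B π hπ fP f' κ sq
  rw [map_smul, ← HmapL_smulEnd,
    smulEnd_push_eq_zero κ _ _ (appTop_toGlobal_eq_zero P B π fP f' κ sq j hj), HmapL_zero]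

include hπ sq hfd in
theorem subsingleton_HH_of_forall_HmapL_eq_zero
    (h : ∀ x : Coh.HH XP (Coh.structureModule XP) d, HmapL (ClSub.unitToPush κ) d x = 0) :
    Subsingleton (Coh.HH X' (Coh.structureModule X') d) := by
  haveI := isClosedImmersion_of_sq P B π hπ fP f' κ sq
  haveI : Coh.IsQCoh (Coh.structureModule X') := isQCoh_structureModule X'
  obtain ⟨e0⟩ := Groth.Agent.S0012.result κ (Coh.structureModule X') d
  have hs := surjective_HmapL_unitToPush P B π hπ fP d hfd f' κ sq
  haveI : Subsingleton (Coh.HH XP ((Coh.push κ).obj (Coh.structureModule X')) d) := by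
    refine ⟨fun a b => ?_⟩
    obtain ⟨a', rfl⟩ := hs a
    obtain ⟨b', rfl⟩ := hs b
    rw [h a', h b']
  exact e0.toEquiv.subsingleton

end Q2

end Groth.Agent.Lib.R2H3.TopBCB
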