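import Mathlib
import Groth.Prelude
import Groth.Agent.Lib.R2H3TopBCB
import Groth.Agent.Lib.Helper21ModTensor7

/-!
# Tensoring is linear over the global functions (helper8)

For `r ∈ Γ(X, O_X)` and `O_X`-modules `M`, `N`: `M ⊗ (r · id_N) = r · id_{M ⊗ N}`
(`tensorBi_obj_map_smulEnd`).
-/

set_option autoImplicit false
set_option linter.style.haveILetI false
set_option linter.unusedSectionVars false
set_option linter.unusedVariables false
universe u

open CategoryTheory CategoryTheory.Limits AlgebraicGeometry TopologicalSpace Opposite MonoidalCategory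

namespace Groth.Agent.Lib.Helper8TensorSmul

open Groth.Agent.Lib.Helper21.ModTensor Groth.Agent.Lib.Helper21.ModTensor2
  Groth.Agent.Lib.Helper21.ModTensor3 Groth.Agent.Lib.R2H3.TopBCB

variable {X : Scheme.{u}}

theorem smulPre_aux (Q : X.PresheafOfModules) (r : Coh.Γtop X) (U : (Opens X)ᵒᵖ)
    (a : X.ringCatSheaf.obj.obj U) (m : Q.obj U) :
    Coh.resTop X U r • (a • m) = a • (Coh.resTop X U r • m) := by
  rw [smul_smul, smul_smul]
  congr 1
  exact (X.presheaf.obj U).commRing.mul_comm _ _

/-- multiplication by a global function on a presheaf of modules -/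
noncomputable def smulPre (Q : X.PresheafOfModules) (r : Coh.Γtop X) : Q ⟶ Q :=
  PresheafOfModules.homMk
    { app := fun U => AddCommGrpCat.ofHom
        (DistribSMul.toAddMonoidHom (Q.obj U) (Coh.resTop X U r))
      naturality := fun U V f => by
        ext m
        change Coh.resTop X V r • (Q.map f).hom m =
          (Q.map f).hom (@HSMul.hSMul (X.ringCatSheaf.obj.obj U) (Q.obj U) (Q.obj U) _
            (Coh.resTop X U r) m)
        rw [← Coh.resTop_comp U V f r]
        exact (Q.map_smul f (Coh.resTop X U r) m).symm }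
    (fun U a m => smulPre_aux Q r U a m)

theorem smulPre_app (Q : X.PresheafOfModules) (r : Coh.Γtop X) (U : (Opens X)ᵒᵖ) (m : Q.obj U) :
    ((smulPre Q r).app U).hom m = Coh.resTop X U r • m := rfl

theorem fgt_map_smulEnd (M : X.Modules) (r : Coh.Γtop X) :
    (fgt X.sheaf).map (smulEnd M r) = smulPre (show X.PresheafOfModules from M.val) r := rfl

theorem smulPre_naturality {P Q : X.PresheafOfModules} (φ : P ⟶ Q) (r : Coh.Γtop X) :
    smulPre P r ≫ φ = φ ≫ smulPre Q r := by
  apply PresheafOfModules.hom_ext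
  intro U
  ext m
  change (φ.app U).hom (Coh.resTop X U r • m) = Coh.resTop X U r • (φ.app U).hom m
  exact (φ.app U).hom.map_smul _ _

theorem shf_map_smulPre (Q : PM X.sheaf) (r : Coh.Γtop X) :
    (shf X.sheaf).map (show Q ⟶ Q from smulPre (show X.PresheafOfModules from Q) r) =
      smulEnd ((shf X.sheaf).obj Q) r := by
  apply ((adj X.sheaf).homEquiv Q _).injective
  rw [Adjunction.homEquiv_unit, Adjunction.homEquiv_unit]
  have h1 := (adj X.sheaf).unit.naturality
    (show Q ⟶ Q from smulPre (show X.PresheafOfModules from Q) r)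
  have h2 := smulPre_naturality (P := (show X.PresheafOfModules from Q))
    (Q := (show X.PresheafOfModules from (fgt X.sheaf).obj ((shf X.sheaf).obj Q)))
    ((adj X.sheaf).unit.app Q) r
  rw [fgt_map_smulEnd]
  exact h1.symm.trans h2

theorem whiskerLeft_smulPre (P Q : PM X.sheaf) (r : Coh.Γtop X) :
    P ◁ (show Q ⟶ Q from smulPre (show X.PresheafOfModules from Q) r) =
      (show (P ⊗ Q : PM X.sheaf) ⟶ (P ⊗ Q : PM X.sheaf) from
        smulPre (show X.PresheafOfModules from (P ⊗ Q : PM X.sheaf)) r) := by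
  apply PresheafOfModules.hom_ext
  intro U
  apply ModuleCat.MonoidalCategory.tensor_ext
  intro m n
  let ρ : ((X.sheaf.obj ⋙ forget₂ CommRingCat RingCat).obj U) := Coh.resTop X U r
  change m ⊗ₜ[((X.sheaf.obj ⋙ forget₂ CommRingCat RingCat).obj U)] (ρ • n) =
    ρ • (m ⊗ₜ[((X.sheaf.obj ⋙ forget₂ CommRingCat RingCat).obj U)] n)
  exact TensorProduct.tmul_smul ρ m n

/-- `M ⊗ (r · id_N) = r · id_{M ⊗ N}` -/
theorem tensorBi_obj_map_smulEnd (M N : X.Modules) (r : Coh.Γtop X) :
    (DCoh.tensorBi.obj M).map (smulEnd N r) = smulEnd ((DCoh.tensorBi.obj M).obj N) r := by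
  have h1 : (DCoh.tensorBi.obj M).map (smulEnd N r) =
      (shf X.sheaf).map ((fgt X.sheaf).obj M ◁ (fgt X.sheaf).map (smulEnd N r)) :=
    tL_map X.sheaf M (smulEnd N r)
  have h2 := whiskerLeft_smulPre ((fgt X.sheaf).obj M) ((fgt X.sheaf).obj N) r
  have h3 := shf_map_smulPre ((fgt X.sheaf).obj M ⊗ (fgt X.sheaf).obj N : PM X.sheaf) r
  exact h1.trans ((congrArg (fun g => (shf X.sheaf).map g) h2).trans h3)

end Groth.Agent.Lib.Helper8TensorSmul
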