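import Mathlib
import Groth.Prelude
import Groth.Agent.Lib.Helper8TensorSmul
import Groth.Agent.Lib.Helper8RelNG
import Groth.Agent.Lib.R2H3ClosedTensor
import Groth.Agent.Lib.R2H2ClosedPn
import Groth.Agent.Lib.R2LeadTensorExact

/-!
# Twisted top-degree base change along a closed immersion of the base (helper8)

`f : X ⟶ Spec A` proper with fibres of dimension `≤ 1`, `π : A → B` surjective with kernel generated
by `a₁, …, a_r`, `X' = X ×_A B`, `κ : X' ⟶ X`; `L` an invertible module on `X`, `T = L ⊗ -`.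

* `epi_epsFin` : `O^r ⟶ ker(O → κ_* O)` (multiplication by the `a_j`) is an epimorphism;
* `exists_sum_smul` : if `H¹(X, L ⊗ κ_* O) = 0` then every class of `H¹(X, L ⊗ O)` is a combination
  `∑ a_j • y_j`;
* `exists_lift_section` : if `H¹(X, L ⊗ O) = 0`, sections of `L ⊗ κ_* O` lift to sections of `L ⊗ O`.
-/

set_option autoImplicit false
set_option linter.style.haveILetI false
set_option linter.unusedSectionVars false
set_option linter.unusedVariables false
universe u

open CategoryTheory CategoryTheory.Limits AlgebraicGeometry TopologicalSpace Opposite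

namespace Groth.Agent.Lib.Helper8RelGZ1

open Groth.Agent.Lib.R2H2.HHLin Groth.Agent.Lib.R2H2.PnLinRes Groth.Agent.Lib.R2H2.PnSerre
open Groth.Agent.Lib.R2H3.TopBCB Groth.Agent.Lib.R2H3.FibDimLimD
open Groth.Agent.Lib.Helper8NormGen Groth.Agent.Lib.Helper8RelNG Groth.Agent.Lib.Helper8TensorSmul

attribute [local instance] Groth.Agent.Lib.R2H3.RpushRestrict.hasInjectiveResolutions_modules

section Closed

variable (A B : Type u) [CommRing A] [CommRing B] (π : A →+* B) (hπ : Function.Surjective π)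
  {X X' : Scheme.{u}} (f : X ⟶ Spec (CommRingCat.of A)) [IsProper f]
  (hfd : ∀ x, FlatMor.fibreDimAt f x ≤ 1)
  (f' : X' ⟶ Spec (CommRingCat.of B)) (κ : X' ⟶ X)
  (sq : IsPullback κ f' f (Spec.map (CommRingCat.ofHom π)))
  (r : ℕ) (a : Fin r → A) (ha : Ideal.span (Set.range a) = RingHom.ker π)

/-- `O^r → O`, multiplication by `a_j` on the `j`-th summand -/
noncomputable def sigmaFin : (∐ fun _ : Fin r => Coh.structureModule X) ⟶ Coh.structureModule X :=
  Sigma.desc (fun j => smulEnd (Coh.structureModule X) (Coh.toGlobal f (a j)))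

theorem ι_sigmaFin (j : Fin r) :
    Sigma.ι (fun _ : Fin r => Coh.structureModule X) j ≫ sigmaFin A f r a =
      smulEnd (Coh.structureModule X) (Coh.toGlobal f (a j)) := by
  rw [sigmaFin]
  exact Sigma.ι_desc _ _

include hπ sq ha in
theorem sigmaFin_comp : sigmaFin A f r a ≫ ClSub.unitToPush κ = 0 := by
  haveI := isClosedImmersion_of_sq A B π hπ f f' κ sq
  apply Sigma.hom_ext
  intro j
  have hj : π (a j) = 0 := by
    have : a j ∈ RingHom.ker π := by
      rw [← ha]
      exact Ideal.subset_span ⟨j, rfl⟩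
    exact this
  rw [← Category.assoc, ι_sigmaFin, smulEnd_comp,
    smulEnd_push_eq_zero κ _ _ (appTop_toGlobal_eq_zero A B π f f' κ sq (a j) hj), comp_zero,
    comp_zero]

/-- `O^r → ker(O → κ_* O)` -/
noncomputable def epsFin : (∐ fun _ : Fin r => Coh.structureModule X) ⟶ kernel (ClSub.unitToPush κ) :=
  kernel.lift _ (sigmaFin A f r a) (sigmaFin_comp A B π hπ f f' κ sq r a ha)

theorem epsFin_ι : epsFin A B π hπ f f' κ sq r a ha ≫ kernel.ι (ClSub.unitToPush κ) =
    sigmaFin A f r a := kernel.lift_ι _ _ _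

theorem epi_epsFin : Epi (epsFin A B π hπ f f' κ sq r a ha) := by
  apply Groth.Agent.Lib.Helper23.Serre.epi_of_locally_surjective
  intro V t x hx
  obtain ⟨_, ⟨W, hW, rfl⟩, hxW, hle⟩ :=
    X.isBasis_affineOpens.exists_subset_of_mem_open hx V.isOpen
  refine ⟨W, hle, hxW, ?_⟩
  set t' := (kernel (ClSub.unitToPush κ)).presheaf.map (homOfLE hle).op t with ht'
  have hat : (κ.app W).hom ((kernel.ι (ClSub.unitToPush κ)).app W t') = 0 := by
    have h1 := kernel.condition (ClSub.unitToPush κ)
    have h2 := congrArg (fun φ => Scheme.Modules.Hom.app φ W t') h1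
    exact h2
  have hmem := exists_rep_of_app_eq_zero A B π hπ f f' κ sq W hW _ hat
  let φ : A →+* Γ(X, W) := (Coh.resTop X (op W)).comp (Coh.toGlobal f)
  have hle2 : Ideal.span {b : Γ(X, W) | ∃ j : A, π j = 0 ∧
      b = Coh.resTop X (op W) (Coh.toGlobal f j)} ≤
      Ideal.span (Set.range fun l : Fin r => φ (a l)) := by
    rw [Ideal.span_le]
    rintro b ⟨j, hj, rfl⟩
    have hj' : j ∈ Ideal.span (Set.range a) := by rw [ha]; exact hj
    have h1 : φ j ∈ Ideal.map φ (Ideal.span (Set.range a)) := Ideal.mem_map_of_mem φ hj'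
    rw [Ideal.map_span] at h1
    have h2 : (φ '' Set.range a) = Set.range fun l : Fin r => φ (a l) := by
      ext z
      constructor
      · rintro ⟨_, ⟨l, rfl⟩, rfl⟩
        exact ⟨l, rfl⟩
      · rintro ⟨l, rfl⟩
        exact ⟨a l, ⟨l, rfl⟩, rfl⟩
    rw [h2] at h1
    exact h1
  have key : ∀ c ∈ Ideal.span (Set.range fun l : Fin r => φ (a l)),
      ∃ s : Γ(∐ fun _ : Fin r => Coh.structureModule X, W), (sigmaFin A f r a).app W s = c := by
    intro c hc
    induction hc using Submodule.span_induction with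
    | mem b hb =>
      obtain ⟨l, rfl⟩ := hb
      refine ⟨(Sigma.ι (fun _ : Fin r => Coh.structureModule X) l).app W (1 : Γ(X, W)), ?_⟩
      have h1 := congrArg (fun ψ => Scheme.Modules.Hom.app ψ W (1 : Γ(X, W)))
        (ι_sigmaFin A f r a l)
      exact h1.trans (smulEnd_app_one _ W)
    | zero => exact ⟨0, map_zero _⟩
    | add c d _ _ hc hd =>
      obtain ⟨s, hs⟩ := hc
      obtain ⟨s', hs'⟩ := hd
      exact ⟨s + s', by rw [map_add, hs, hs']; rfl⟩
    | smul c d _ hd =>
      obtain ⟨s, hs⟩ := hd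
      exact ⟨c • s, by rw [Scheme.Modules.Hom.app_smul, hs]; rfl⟩
  obtain ⟨s, hs⟩ := key _ (hle2 hmem)
  refine ⟨s, ?_⟩
  apply Groth.Agent.Lib.Helper20.StalkExact.injective_app_of_mono (kernel.ι (ClSub.unitToPush κ)) W
  have h3 := congrArg (fun ψ => Scheme.Modules.Hom.app ψ W s) (epsFin_ι A B π hπ f f' κ sq r a ha)
  exact h3.trans hs

end Closed

section Rex

theorem rex_of_affine {X Y : Scheme.{u}} (f : X ⟶ Y) [IsProper f] [IsAffine Y]
    (hfd : ∀ x, FlatMor.fibreDimAt f x ≤ 1) : Rex X := by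
  intro A B hA hB p hp h1
  haveI : A.IsQuasicoherent := hA
  haveI : B.IsQuasicoherent := hB
  let S : ShortComplex X.Modules := ShortComplex.mk (kernel.ι p) p (kernel.condition p)
  haveI : Mono S.f := by
    change Mono (kernel.ι p)
    infer_instance
  haveI : Epi S.g := by
    change Epi p
    infer_instance
  have hS : S.ShortExact := { exact := ShortComplex.exact_of_f_is_kernel _ (kernelIsKernel p) }
  have hK : Coh.IsQCoh (kernel p) := Groth.Agent.Lib.Helper23.QCohLocal.isQuasicoherent_kernel p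
  have hK2 : Subsingleton (Coh.HH X (kernel p) 2) :=
    subsingleton_HH_of_affine f 1 hfd _ hK 2 (by norm_num)
  have key : ∀ c : Coh.HH X B 1, c = 0 := by
    intro c
    obtain ⟨y, hy⟩ := exact₃ S hS 1 c (@Subsingleton.elim _ hK2 _ _)
    rw [← hy, @Subsingleton.elim _ h1 y 0, map_zero]
  exact ⟨fun a b => (key a).trans (key b).symm⟩

end Rex

section Twist

variable (A B : Type u) [CommRing A] [CommRing B] (π : A →+* B) (hπ : Function.Surjective π)
  {X X' : Scheme.{u}} (f : X ⟶ Spec (CommRingCat.of A)) [IsProper f]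
  (hfd : ∀ x, FlatMor.fibreDimAt f x ≤ 1)
  (f' : X' ⟶ Spec (CommRingCat.of B)) (κ : X' ⟶ X)
  (sq : IsPullback κ f' f (Spec.map (CommRingCat.ofHom π)))
  (r : ℕ) (a : Fin r → A) (ha : Ideal.span (Set.range a) = RingHom.ker π)
  (L : X.Modules) (hL : PicF.IsInvertible L)

/-- the kernel sequence of `O → κ_* O` -/
noncomputable def SO : ShortComplex X.Modules :=
  ShortComplex.mk (kernel.ι (ClSub.unitToPush κ)) (ClSub.unitToPush κ) (kernel.condition _)

theorem shortExact_SO [IsClosedImmersion κ] : (SO κ).ShortExact := by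
  haveI : Epi (ClSub.unitToPush κ) := Groth.Agent.Lib.R2H3.ClosedTensor.epi_unitToPush κ
  exact
    { exact := ShortComplex.exact_kernel _
      mono_f := by dsimp [SO]; infer_instance
      epi_g := by dsimp [SO]; infer_instance }

include hπ sq hfd ha hL in
/-- **Nakayama step**: if `H¹(X, L ⊗ κ_* O) = 0`, every class of `H¹(X, L ⊗ O)` is a combination of
classes with coefficients `a_j`. -/
theorem exists_sum_smul
    (h0 : Subsingleton (Coh.HH X ((DCoh.tensorBi.obj L).obj
      ((Scheme.Modules.pushforward κ).obj (Coh.structureModule X'))) 1))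
    (x : Coh.HH X ((DCoh.tensorBi.obj L).obj (Coh.structureModule X)) 1) :
    ∃ y : Fin r → Coh.HH X ((DCoh.tensorBi.obj L).obj (Coh.structureModule X)) 1,
      x = ∑ j, Coh.toGlobal f (a j) • y j := by
  classical
  haveI := isClosedImmersion_of_sq A B π hπ f f' κ sq
  let T : X.Modules ⥤ X.Modules := DCoh.tensorBi.obj L
  let O := Coh.structureModule X
  let P : X.Modules := ∐ fun _ : Fin r => O
  haveI hLq : L.IsQuasicoherent := Groth.Agent.Lib.Helper23.SecTw.isQuasicoherent_of_isInvertible L hL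
  haveI hOq : O.IsQuasicoherent := isQCoh_structureModule X
  haveI := isQCoh_structureModule X'
  haveI : Epi (ClSub.unitToPush κ) := Groth.Agent.Lib.R2H3.ClosedTensor.epi_unitToPush κ
  haveI : ((Scheme.Modules.pushforward κ).obj (Coh.structureModule X')).IsQuasicoherent :=
    Groth.Agent.Lib.Helper23.QCohLocal.isQuasicoherent_pushforward κ _
  haveI hKq : (kernel (ClSub.unitToPush κ)).IsQuasicoherent :=
    Groth.Agent.Lib.Helper23.QCohLocal.isQuasicoherent_kernel _
  haveI hPq : P.IsQuasicoherent := Groth.Agent.Lib.Helper23.Serre.isQuasicoherent_freeMod r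
  -- step 1
  have hTS1 : ((SO κ).map T).ShortExact :=
    Groth.Agent.Lib.R2Lead.TensorExact.shortExact_map_tensorBi_of_isInvertible L hL (SO κ)
      (shortExact_SO κ)
  have hx : HmapL (T.map (ClSub.unitToPush κ)) 1 x = 0 := @Subsingleton.elim _ h0 _ _
  obtain ⟨x₁, hx₁⟩ := exact₂ ((SO κ).map T) hTS1 1 x hx
  -- step 2
  let ε := epsFin A B π hπ f f' κ sq r a ha
  have hε : Epi ε := epi_epsFin A B π hπ f f' κ sq r a ha
  have hTε : Epi (T.map ε) := epi_tensorBi_obj_map L ε hε
  have qTP : (T.obj P).IsQuasicoherent :=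
    Groth.Agent.Lib.Helper23.TensorQCoh.isQuasicoherent_tensorMod L P
  have qTK : (T.obj (kernel (ClSub.unitToPush κ))).IsQuasicoherent :=
    Groth.Agent.Lib.Helper23.TensorQCoh.isQuasicoherent_tensorMod L _
  haveI := qTP
  haveI := qTK
  haveI hK2 : (kernel (T.map ε)).IsQuasicoherent :=
    Groth.Agent.Lib.Helper23.QCohLocal.isQuasicoherent_kernel _
  let S2 : ShortComplex X.Modules := ShortComplex.mk (kernel.ι (T.map ε)) (T.map ε)
    (kernel.condition _)
  haveI : Mono S2.f := by
    change Mono (kernel.ι (T.map ε))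
    infer_instance
  haveI : Epi S2.g := by
    change Epi (T.map ε)
    exact hTε
  have hS2 : S2.ShortExact :=
    { exact := ShortComplex.exact_of_f_is_kernel _ (kernelIsKernel (T.map ε)) }
  haveI : IsAffine (Spec (CommRingCat.of A)) := inferInstance
  have hvan : Subsingleton (Coh.HH X (kernel (T.map ε)) 2) :=
    subsingleton_HH_of_affine f 1 hfd _ hK2 2 (by norm_num)
  obtain ⟨e, he⟩ := exact₃ S2 hS2 1 x₁ (@Subsingleton.elim _ hvan _ _)
  -- step 3
  obtain ⟨pr, hpr⟩ := exists_proj (X := X) r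
  haveI : T.Additive := inferInstanceAs ((DCoh.tensorBi.obj L).Additive)
  refine ⟨fun j => HmapL (T.map (pr j)) 1 e, ?_⟩
  have h1 : x = HmapL (T.map (sigmaFin A f r a)) 1 e := by
    have h3 : T.map (sigmaFin A f r a) = T.map ε ≫ T.map (kernel.ι (ClSub.unitToPush κ)) := by
      rw [← Functor.map_comp]
      congr 1
      exact (epsFin_ι A B π hπ f f' κ sq r a ha).symm
    rw [h3, HmapL_comp]
    exact (hx₁.symm.trans (congrArg _ he.symm))
  have hF : ∑ j, T.map (pr j) ≫ T.map (Sigma.ι (fun _ : Fin r => O) j) = 𝟙 (T.obj P) := by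
    have h2 : ∀ j : Fin r, T.map (pr j) ≫ T.map (Sigma.ι (fun _ : Fin r => O) j) =
        T.map (pr j ≫ Sigma.ι (fun _ : Fin r => O) j) := fun j => (T.map_comp _ _).symm
    rw [Finset.sum_congr rfl (fun j _ => h2 j), ← T.map_sum, hpr, T.map_id]
  have h2 : e = ∑ j, HmapL (T.map (pr j) ≫ T.map (Sigma.ι (fun _ : Fin r => O) j)) 1 e := by
    rw [← HmapL_sum, hF, HmapL_id]
  rw [h1]
  conv_lhs => rw [h2]
  rw [map_sum]
  refine Finset.sum_congr rfl (fun j _ => ?_)
  rw [HmapL_comp, ← HmapL_comp (T.map (Sigma.ι (fun _ : Fin r => O) j)), ← Functor.map_comp,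
    ι_sigmaFin, tensorBi_obj_map_smulEnd, HmapL_smulEnd]

include hπ sq hfd ha hL in
/-- sections of `L ⊗ κ_* O` lift to sections of `L ⊗ O` when `H¹(X, L ⊗ O) = 0` -/
theorem exists_lift_section
    (h1 : Subsingleton (Coh.HH X ((DCoh.tensorBi.obj L).obj (Coh.structureModule X)) 1))
    (v : Coh.structureModule X ⟶ (DCoh.tensorBi.obj L).obj
      ((Scheme.Modules.pushforward κ).obj (Coh.structureModule X'))) :
    ∃ w : Coh.structureModule X ⟶ (DCoh.tensorBi.obj L).obj (Coh.structureModule X),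
      w ≫ (DCoh.tensorBi.obj L).map (ClSub.unitToPush κ) = v := by
  classical
  haveI := isClosedImmersion_of_sq A B π hπ f f' κ sq
  let T : X.Modules ⥤ X.Modules := DCoh.tensorBi.obj L
  let O := Coh.structureModule X
  let P : X.Modules := ∐ fun _ : Fin r => O
  haveI hLq : L.IsQuasicoherent := Groth.Agent.Lib.Helper23.SecTw.isQuasicoherent_of_isInvertible L hL
  haveI hOq : O.IsQuasicoherent := isQCoh_structureModule X
  haveI := isQCoh_structureModule X'
  haveI : ((Scheme.Modules.pushforward κ).obj (Coh.structureModule X')).IsQuasicoherent :=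
    Groth.Agent.Lib.Helper23.QCohLocal.isQuasicoherent_pushforward κ _
  haveI hKq : (kernel (ClSub.unitToPush κ)).IsQuasicoherent :=
    Groth.Agent.Lib.Helper23.QCohLocal.isQuasicoherent_kernel _
  haveI hPq : P.IsQuasicoherent := Groth.Agent.Lib.Helper23.Serre.isQuasicoherent_freeMod r
  haveI : IsAffine (Spec (CommRingCat.of A)) := inferInstance
  have hrex : Rex X := rex_of_affine f hfd
  have hTS1 : ((SO κ).map T).ShortExact :=
    Groth.Agent.Lib.R2Lead.TensorExact.shortExact_map_tensorBi_of_isInvertible L hL (SO κ)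
      (shortExact_SO κ)
  let ε := epsFin A B π hπ f f' κ sq r a ha
  have hε : Epi ε := epi_epsFin A B π hπ f f' κ sq r a ha
  have hTε : Epi (T.map ε) := epi_tensorBi_obj_map L ε hε
  have qTP : (T.obj P).IsQuasicoherent :=
    Groth.Agent.Lib.Helper23.TensorQCoh.isQuasicoherent_tensorMod L P
  have qTK : (T.obj (kernel (ClSub.unitToPush κ))).IsQuasicoherent :=
    Groth.Agent.Lib.Helper23.TensorQCoh.isQuasicoherent_tensorMod L _
  haveI : T.Additive := inferInstanceAs ((DCoh.tensorBi.obj L).Additive)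
  have h1P : Subsingleton (Coh.HH X (T.obj P) 1) := subsingleton_HH_map_free T r 1 h1
  have hK1 : Subsingleton (Coh.HH X (T.obj (kernel (ClSub.unitToPush κ))) 1) :=
    hrex _ _ qTP qTK (T.map ε) hTε h1P
  obtain ⟨y, hy⟩ := exact₃ ((SO κ).map T) hTS1 0 (cls v) (@Subsingleton.elim _ hK1 _ _)
  obtain ⟨w, rfl⟩ := cls_surjective _ y
  refine ⟨w, ?_⟩
  apply cls_injective
  exact (cls_comp w ((DCoh.tensorBi.obj L).map (ClSub.unitToPush κ))).symm.trans hy

end Twist


end Groth.Agent.Lib.Helper8RelGZ1
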