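import Mathlib
import Groth.Prelude
import Groth.Agent.Lib.R2H3ClosedTensor
import Groth.Agent.Lib.R2H3ClosedPush
import Groth.Agent.Lib.R2H2ClosedPn
import Groth.Agent.Lib.Helper23PB
import Groth.Agent.Lib.Helper23QCohLocal
import Groth.Agent.Lib.Helper20PullbackAff
import Groth.Agent.Lib.Helper8AdjAbs

/-!
# Restricting sections of an invertible module to a closed subscheme (helper8)

`κ : X' ⟶ X` a closed immersion, `L` an invertible module on `X`.  The two "reflections" of `L` into
modules on `X'`, namely `L ⟶ L ⊗ κ_* O_{X'}` and the adjunction unit `L ⟶ κ_* κ^* L`, are compared: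
if sections of `L ⊗ κ_* O` lift to `L ⊗ O`, then every section of `κ^* L` is the restriction of a
section of `L` (`exists_section_restrict`).
-/

set_option autoImplicit false
set_option linter.style.haveILetI false
set_option linter.unusedSectionVars false
set_option linter.unusedVariables false
universe u

open CategoryTheory CategoryTheory.Limits AlgebraicGeometry TopologicalSpace Opposite

namespace Groth.Agent.Lib.Helper8RelGZ2

open Groth.Agent.Lib.R2H3.ClosedTensor Groth.Agent.Lib.R2H3.ClosedPush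
open Groth.Agent.Lib.Helper21.ModTensor Groth.Agent.Lib.Helper21.ModTensor2
  Groth.Agent.Lib.Helper21.ModTensor3 Groth.Agent.Lib.Helper21.ModTensor5
  Groth.Agent.Lib.Helper21.ModTensor7 Groth.Agent.Lib.Helper21.SheafHomFree

variable {X X' : Scheme.{u}} (κ : X' ⟶ X) [IsClosedImmersion κ]
  (L L' : X.Modules) (hL : PicF.IsInvertible L)
  (e : (DCoh.tensorBi.obj L).obj L' ≅ Coh.structureModule X)
  (e' : (DCoh.tensorBi.obj L').obj L ≅ Coh.structureModule X)

include hL e e' in
theorem exists_section_unit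
    (hlift : ∀ v : Coh.structureModule X ⟶ (DCoh.tensorBi.obj L).obj
      ((Scheme.Modules.pushforward κ).obj (Coh.structureModule X')),
      ∃ w : Coh.structureModule X ⟶ (DCoh.tensorBi.obj L).obj (Coh.structureModule X),
        w ≫ (DCoh.tensorBi.obj L).map (ClSub.unitToPush κ) = v)
    (v : Coh.structureModule X ⟶
      (Scheme.Modules.pushforward κ).obj ((Scheme.Modules.pullback κ).obj L)) :
    ∃ s : Coh.structureModule X ⟶ L,
      s ≫ (Scheme.Modules.pullbackPushforwardAdjunction κ).unit.app L = v := by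
  let adj := Scheme.Modules.pullbackPushforwardAdjunction κ
  let G : X'.Modules := (Scheme.Modules.pullback κ).obj L
  haveI hLq : L.IsQuasicoherent := Groth.Agent.Lib.Helper23.SecTw.isQuasicoherent_of_isInvertible L hL
  haveI hGq : G.IsQuasicoherent := Groth.Agent.Lib.Helper20.PullbackAff.isQuasicoherent_pullback κ L
  let R : X.Modules := (DCoh.tensorBi.obj L).obj
    ((Scheme.Modules.pushforward κ).obj (Coh.structureModule X'))
  let M : X.Modules ⥤ X.Modules := (ModSite.tensorBi X.sheaf).flip.obj (pushO κ)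
  let ηη : 𝟭 X.Modules ⟶ M := η κ
  let u : L ⟶ (Scheme.Modules.pushforward κ).obj G := adj.unit.app L
  haveI hmono : Mono (ηη.app ((Scheme.Modules.pushforward κ).obj G)) := mono_η_push κ G
  haveI hepi : Epi (ηη.app ((Scheme.Modules.pushforward κ).obj G)) := epi_η_app κ _
  haveI hiso : IsIso (ηη.app ((Scheme.Modules.pushforward κ).obj G)) :=
    isIso_of_mono_of_epi _
  let rr : L ⟶ R := ηη.app L
  let aa : R ⟶ (Scheme.Modules.pushforward κ).obj G :=
    M.map u ≫ inv (ηη.app ((Scheme.Modules.pushforward κ).obj G))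
  have ha : rr ≫ aa = adj.unit.app L :=
    Groth.Agent.Lib.Helper8AdjAbs.comp_map_inv M ηη u
  let G' : X'.Modules := (DCoh.tensorBi.obj G).obj (Coh.structureModule X')
  let ψ : (Scheme.Modules.pushforward κ).obj G' ≅ R :=
    (Groth.Agent.Lib.R2H2.ClosedPn.projIso κ L L' e e').app (Coh.structureModule X')
  have hfull : ∀ p : (Scheme.Modules.pushforward κ).obj G ⟶ (Scheme.Modules.pushforward κ).obj G,
      ∃ φ : G ⟶ G, (Scheme.Modules.pushforward κ).map φ = p :=
    fun p => ⟨pushPreimage κ p, map_pushPreimage κ p⟩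
  have hlift' : ∀ v' : Coh.structureModule X ⟶ R, ∃ s : Coh.structureModule X ⟶ L, s ≫ rr = v' := by
    intro v'
    obtain ⟨w, hw⟩ := hlift v'
    refine ⟨w ≫ (tRUnitIso X.sheaf).hom.app L, ?_⟩
    have h1 : rr = (tRUnitIso X.sheaf).inv.app L ≫ (DCoh.tensorBi.obj L).map (ClSub.unitToPush κ) :=
      ηOf_app X.sheaf (πS κ) L
    rw [h1]
    exact (Groth.Agent.Lib.Helper8AdjAbs.cancel_hom_inv (C := X.Modules) w
      ((tRUnitIso X.sheaf).hom.app L) ((tRUnitIso X.sheaf).inv.app L)
      ((DCoh.tensorBi.obj L).map (ClSub.unitToPush κ))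
      (Iso.hom_inv_id_app (tRUnitIso X.sheaf) L)).trans hw
  exact Groth.Agent.Lib.Helper8AdjAbs.exists_section_unit (Scheme.Modules.pullback κ)
    (Scheme.Modules.pushforward κ) adj (Coh.structureModule X) L R rr aa ha G' ψ hfull hlift' v

include hL e e' in
/-- every section of `κ^* L` is the restriction of a section of `L`, when sections of `L ⊗ κ_* O`
lift to `L ⊗ O` -/
theorem exists_section_restrict
    (hlift : ∀ v : Coh.structureModule X ⟶ (DCoh.tensorBi.obj L).obj
      ((Scheme.Modules.pushforward κ).obj (Coh.structureModule X')),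
      ∃ w : Coh.structureModule X ⟶ (DCoh.tensorBi.obj L).obj (Coh.structureModule X),
        w ≫ (DCoh.tensorBi.obj L).map (ClSub.unitToPush κ) = v)
    (t' : Coh.structureModule X' ⟶ (Scheme.Modules.pullback κ).obj L) :
    ∃ s : Coh.structureModule X ⟶ L,
      CohB1.genLocus ((Scheme.Modules.pullback κ).obj L) t' = κ ⁻¹ᵁ CohB1.genLocus L s := by
  let adj := Scheme.Modules.pullbackPushforwardAdjunction κ
  let e0 := Groth.Agent.Lib.Helper23.PB.pullbackUnitIso κ
  obtain ⟨s, hs⟩ := exists_section_unit κ L L' hL e e' hlift (adj.homEquiv _ _ (e0.hom ≫ t'))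
  have h1 : (Scheme.Modules.pullback κ).map s = e0.hom ≫ t' :=
    Groth.Agent.Lib.Helper8AdjAbs.map_eq_of_comp_unit _ _ adj s _ hs
  refine ⟨s, ?_⟩
  have h2 := Groth.Agent.Lib.Helper23.PB.genLocus_pullback (f := κ) L hL s e0.symm
  rw [← h2]
  congr 1
  rw [h1]
  exact (Iso.inv_hom_id_assoc e0 t').symm

end Groth.Agent.Lib.Helper8RelGZ2
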