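import Mathlib
import Groth.Agent.Lib.R2H3TopBCB
import Groth.Agent.S0034

/-!
# Top-degree base change for the structure sheaf (helper3, round 2)

`f : X ⟶ Spec A` proper with fibres of dimension `≤ d`, `A → B` any ring map, `X' = X ×_A B`.
* `subsingleton_HH_iff_tensor` : `H^d(X', O) = 0` iff `B ⊗[A] H^d(X, O) = 0`.

The proof factors `A → B` as `A → P = A[x_b : b ∈ B] → B` (flat followed by surjective), uses flat
base change (`S0034`) for the first map and the closed-immersion results of `R2H3TopBCB` for the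
second one.
-/

set_option autoImplicit false
set_option linter.unusedSectionVars false
set_option linter.style.haveILetI false
universe u
open CategoryTheory CategoryTheory.Limits AlgebraicGeometry TopologicalSpace Topology Opposite
open TensorProduct

namespace Groth.Agent.Lib.R2H3.TopBCC

open Groth.Agent.Lib.Helper4.FibDim Groth.Agent.Lib.Helper3.LocDimBC
  Groth.Agent.Lib.R2H3.FibDimLimB Groth.Agent.Lib.R2H3.FibDimLimD
  Groth.Agent.Lib.R2H3.FibDimLimF Groth.Agent.Lib.R2H2.HHLin Groth.Agent.Lib.R2H3.TopBCA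
  Groth.Agent.Lib.R2H3.TopBCB

attribute [local instance] Groth.Agent.Lib.R2H3.RpushRestrict.hasInjectiveResolutions_modules

/-- `B ⊗[P] N = 0` with `P → B` surjective means `N = (ker) N`. -/
theorem mem_smul_top_of_subsingleton_tensor {P B N : Type u} [CommRing P] [CommRing B]
    [Algebra P B] [AddCommGroup N] [Module P N]
    (hsurj : Function.Surjective (algebraMap P B)) (h : Subsingleton (B ⊗[P] N)) (n : N) :
    n ∈ (RingHom.ker (algebraMap P B)) • (⊤ : Submodule P N) := by
  let J : Ideal P := RingHom.ker (Algebra.ofId P B)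
  have hJ : J = RingHom.ker (algebraMap P B) := Ideal.ext (fun _ => Iff.rfl)
  let e0 : (P ⧸ J) ≃ₐ[P] B :=
    Ideal.quotientKerAlgEquivOfSurjective (f := Algebra.ofId P B) hsurj
  let e1 : (P ⧸ J) ⊗[P] N ≃ₗ[P] B ⊗[P] N :=
    TensorProduct.congr e0.toLinearEquiv (LinearEquiv.refl P N)
  let e2 : (P ⧸ J) ⊗[P] N ≃ₗ[P] N ⧸ (J • (⊤ : Submodule P N)) :=
    TensorProduct.quotTensorEquivQuotSMul N J
  haveI : Subsingleton (N ⧸ (J • (⊤ : Submodule P N))) :=
    (e2.symm.trans e1).toEquiv.subsingleton
  have h1 : J • (⊤ : Submodule P N) = ⊤ :=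
    Submodule.Quotient.subsingleton_iff.mp inferInstance
  rw [← hJ, h1]
  trivial

section Poly

variable (A B : Type u) [CommRing A] [CommRing B] [Algebra A B]
  (X X' : Scheme.{u}) [X.Over (Spec (CommRingCat.of A))] [X'.Over (Spec (CommRingCat.of B))]
  [IsProper (X ↘ Spec (CommRingCat.of A))] (d : ℕ)
  (hfd : ∀ x, FlatMor.fibreDimAt (X ↘ Spec (CommRingCat.of A)) x ≤ d) (g' : X' ⟶ X)
  (h : IsPullback g' (X' ↘ Spec (CommRingCat.of B)) (X ↘ Spec (CommRingCat.of A))
    (Spec.map (CommRingCat.ofHom (algebraMap A B))))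

include hfd h in
/-- **top-degree base change for `O`**, vanishing form. -/
theorem subsingleton_HH_iff_tensor :
    Subsingleton (Coh.HH X' (Coh.structureModule X') d) ↔
      Subsingleton (B ⊗[A] Coh.HH X (Coh.structureModule X) d) := by
  classical
  let f := X ↘ Spec (CommRingCat.of A)
  let f' := X' ↘ Spec (CommRingCat.of B)
  let P := MvPolynomial B A
  let πa : P →ₐ[A] B := MvPolynomial.aeval id
  let π : P →+* B := πa.toRingHom
  have hπ : Function.Surjective π := fun b => ⟨MvPolynomial.X b, by
    change MvPolynomial.aeval id (MvPolynomial.X b) = b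
    rw [MvPolynomial.aeval_X]; rfl⟩
  have hπC : π.comp (algebraMap A P) = algebraMap A B := πa.comp_algebraMap
  letI : Algebra P B := π.toAlgebra
  haveI : IsScalarTower A P B := IsScalarTower.of_algebraMap_eq (fun a => by
    have := congrArg (fun φ : A →+* B => φ a) hπC
    exact this.symm)
  -- the base change to the polynomial ring
  let cP : Spec (CommRingCat.of P) ⟶ Spec (CommRingCat.of A) :=
    Spec.map (CommRingCat.ofHom (algebraMap A P))
  let XP := pullback f cP
  let uP : XP ⟶ X := pullback.fst f cP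
  let fP : XP ⟶ Spec (CommRingCat.of P) := pullback.snd f cP
  have hR : IsPullback uP fP f cP := IsPullback.of_hasPullback f cP
  haveI : IsProper fP := inferInstanceAs (IsProper (pullback.snd f cP))
  haveI : LocallyOfFiniteType f := inferInstance
  have hfdP : ∀ x, FlatMor.fibreDimAt fP x ≤ d := fun x => by
    rw [fibreDimAt_eq_of_isPullback f cP uP fP hR x]
    exact hfd _
  let sπ : Spec (CommRingCat.of B) ⟶ Spec (CommRingCat.of P) := Spec.map (CommRingCat.ofHom π)
  have hsπ : sπ ≫ cP = Spec.map (CommRingCat.ofHom (algebraMap A B)) := by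
    rw [← Spec.map_comp, ← CommRingCat.ofHom_comp, hπC]
  let κ : X' ⟶ XP := hR.lift g' (f' ≫ sπ) (by rw [Category.assoc, hsπ]; exact h.w)
  have hκ1 : κ ≫ uP = g' := hR.lift_fst _ _ _
  have hκ2 : κ ≫ fP = f' ≫ sπ := hR.lift_snd _ _ _
  have sqκ : IsPullback κ f' fP sπ :=
    IsPullback.of_right (by rw [hκ1, hsπ]; exact h) hκ2 hR
  -- flat base change
  letI : XP.Over (Spec (CommRingCat.of P)) := ⟨fP⟩
  haveI : CompactSpace X := QuasiCompact.compactSpace_of_compactSpace f
  haveI : QuasiSeparatedSpace X := quasiSeparatedSpace_of_quasiSeparated f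
  haveI : Coh.IsQCoh (Coh.structureModule X) := isQCoh_structureModule X
  obtain ⟨e34⟩ := Groth.Agent.S0034.result A P X XP uP hR (Coh.structureModule X) d
  let φ := Groth.Agent.Lib.Helper23.PB.pullbackUnitIso uP
  let eφ : Coh.HH XP ((Scheme.Modules.pullback uP).obj (Coh.structureModule X)) d ≃ₗ[P]
      Coh.HH XP (Coh.structureModule XP) d :=
    LinearEquiv.ofLinearMap (HmapA P φ.hom d) (HmapA P φ.inv d)
      (by
        ext x
        change HmapL φ.hom d (HmapL φ.inv d x) = x
        rw [← HmapL_comp, Iso.inv_hom_id, HmapL_id])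
      (by
        ext x
        change HmapL φ.inv d (HmapL φ.hom d x) = x
        rw [← HmapL_comp, Iso.hom_inv_id, HmapL_id])
  let eN : P ⊗[A] Coh.HH X (Coh.structureModule X) d ≃ₗ[P]
      Coh.HH XP (Coh.structureModule XP) d := e34.trans eφ
  let e1 : B ⊗[P] Coh.HH XP (Coh.structureModule XP) d ≃ₗ[P]
      B ⊗[P] (P ⊗[A] Coh.HH X (Coh.structureModule X) d) :=
    TensorProduct.congr (LinearEquiv.refl P B) eN.symm
  have hiff1 : Subsingleton (B ⊗[A] Coh.HH X (Coh.structureModule X) d) ↔
      Subsingleton (B ⊗[P] Coh.HH XP (Coh.structureModule XP) d) := by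
    constructor
    · intro hs
      haveI : Subsingleton (B ⊗[P] (P ⊗[A] Coh.HH X (Coh.structureModule X) d)) :=
        (AlgebraTensorModule.cancelBaseChange A P P B
          (Coh.HH X (Coh.structureModule X) d)).toEquiv.subsingleton
      exact e1.toEquiv.subsingleton
    · intro hs
      haveI : Subsingleton (B ⊗[P] (P ⊗[A] Coh.HH X (Coh.structureModule X) d)) :=
        e1.symm.toEquiv.subsingleton
      exact subsingleton_tensor_of_tower (A := A) (P := P) (B := B) inferInstance
  rw [hiff1]
  constructor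
  · intro h0
    refine subsingleton_tensor_of_smul_top (RingHom.ker π) (fun j hj => hj) (fun n => ?_)
    obtain ⟨S, y, hy⟩ := exists_sum_of_closed P B π hπ fP d hfdP f' κ sqκ h0 n
    rw [hy]
    refine Submodule.sum_mem _ (fun j _ => ?_)
    exact Submodule.smul_mem_smul (show j.1 ∈ RingHom.ker π from j.2) trivial
  · intro hs
    apply subsingleton_HH_of_forall_HmapL_eq_zero P B π hπ fP d hfdP f' κ sqκ
    intro x
    have hx := mem_smul_top_of_subsingleton_tensor (P := P) (B := B) hπ hs x
    refine Submodule.smul_induction_on hx ?_ ?_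
    · intro j hj m _
      exact HmapL_unitToPush_smul P B π hπ fP d f' κ sqκ j hj m
    · intro a b ha hb
      rw [map_add, ha, hb, add_zero]

end Poly

end Groth.Agent.Lib.R2H3.TopBCC
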