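import Mathlib
import Groth.Agent.Lib.R2H3TopBCC

/-!
# Top-degree base change for the structure sheaf: the family over an affine open (helper3, round 2)

`f : X ⟶ Y` proper, `V ⊆ Y` an affine open over which all fibres have dimension `≤ d`,
`A = Γ(Y, V)`, `X_A = X ×_Y Spec A`, `M = H^d(X_A, O)` (a finite `A`-module).
For every `t : Spec B ⟶ Y` with image in `V` and every base change `X_T` of `f` along `t`:
`H^d(X_T, O) = 0` iff `B ⊗[A] M = 0` (`subsingleton_HH_iff_TV`), where `A → B` is `psi hV t ht`.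
-/

set_option autoImplicit false
set_option linter.unusedSectionVars false
set_option linter.style.haveILetI false
universe u
open CategoryTheory CategoryTheory.Limits AlgebraicGeometry TopologicalSpace Topology Opposite
open TensorProduct

namespace Groth.Agent.Lib.R2H3.TopBCD

open Groth.Agent.Lib.Helper4.FibDim Groth.Agent.Lib.Helper3.LocDimBC
  Groth.Agent.Lib.R2H3.FibDimLimB Groth.Agent.Lib.R2H3.FibDimLimD
  Groth.Agent.Lib.R2H3.FibDimLimF Groth.Agent.Lib.R2H2.HHLin Groth.Agent.Lib.R2H3.TopBCA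
  Groth.Agent.Lib.R2H3.TopBCB Groth.Agent.Lib.R2H3.TopBCC

attribute [local instance] Groth.Agent.Lib.R2H3.RpushRestrict.hasInjectiveResolutions_modules

section Alg

/-- the base change of `M` along `ψ` vanishes -/
def TV {A B : Type u} [CommRing A] [CommRing B] (ψ : A →+* B) (M : Type u) [AddCommGroup M]
    [Module A M] : Prop :=
  letI := ψ.toAlgebra
  Subsingleton (B ⊗[A] M)

variable {A B C M : Type u} [CommRing A] [CommRing B] [CommRing C] [AddCommGroup M] [Module A M]

theorem TV.comp (ψ : A →+* B) (χ : B →+* C) (h : TV ψ M) : TV (χ.comp ψ) M := by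
  letI := ψ.toAlgebra
  letI := χ.toAlgebra
  letI := (χ.comp ψ).toAlgebra
  haveI : IsScalarTower A B C := IsScalarTower.of_algebraMap_eq (fun _ => rfl)
  haveI : Subsingleton (B ⊗[A] M) := h
  exact (AlgebraTensorModule.cancelBaseChange A B B C M).symm.toEquiv.subsingleton

theorem TV.of_field_comp {K K' : Type u} [Field K] [Field K'] (ψ : A →+* K) (χ : K →+* K')
    (h : TV (χ.comp ψ) M) : TV ψ M := by
  letI := ψ.toAlgebra
  letI := χ.toAlgebra
  letI := (χ.comp ψ).toAlgebra
  haveI : IsScalarTower A K K' := IsScalarTower.of_algebraMap_eq (fun _ => rfl)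
  haveI : Subsingleton (K' ⊗[A] M) := h
  haveI : Subsingleton (K' ⊗[K] (K ⊗[A] M)) :=
    (AlgebraTensorModule.cancelBaseChange A K K K' M).toEquiv.subsingleton
  exact Module.FaithfullyFlat.lTensor_reflects_triviality K K' _

theorem TV.exists_smul_eq_zero {K : Type u} [Field K] [Module.Finite A M] (ψ : A →+* K)
    (h : TV ψ M) : ∃ s : A, ψ s ≠ 0 ∧ ∀ m : M, s • m = 0 := by
  letI := ψ.toAlgebra
  exact exists_smul_eq_zero_of_subsingleton_tensor (A := A) (B := K) (M := M) h

theorem TV.of_isUnit (ψ : A →+* B) (s : A) (hs : IsUnit (ψ s)) (h : ∀ m : M, s • m = 0) :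
    TV ψ M := by
  letI := ψ.toAlgebra
  obtain ⟨u, hu⟩ := hs
  have key : ∀ (b : B) (m : M), b ⊗ₜ[A] m = 0 := by
    intro b m
    have h1 : b = s • (b * (↑u⁻¹ : B)) := by
      rw [Algebra.smul_def]
      change b = ψ s * (b * ↑u⁻¹)
      rw [← hu, mul_comm b, ← mul_assoc, Units.mul_inv, one_mul]
    rw [h1, TensorProduct.smul_tmul, h m, TensorProduct.tmul_zero]
  refine ⟨fun x y => ?_⟩
  have h0 : ∀ z : B ⊗[A] M, z = 0 := by
    intro z
    induction z using TensorProduct.induction_on with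
    | zero => rfl
    | tmul b n => exact key b n
    | add x y hx hy => rw [hx, hy, add_zero]
  rw [h0 x, h0 y]

theorem TV.of_subsingleton (ψ : A →+* B) [Subsingleton M] : TV ψ M := by
  letI := ψ.toAlgebra
  change Subsingleton (B ⊗[A] M)
  infer_instance

theorem isUnit_of_basicOpen_eq_top (r : A) (h : PrimeSpectrum.basicOpen r = ⊤) : IsUnit r := by
  by_contra hr
  obtain ⟨m, hm, hrm⟩ := exists_max_ideal_of_mem_nonunits (mem_nonunits_iff.mpr hr)
  have h1 : (⟨m, hm.isPrime⟩ : PrimeSpectrum A) ∈ PrimeSpectrum.basicOpen r := by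
    rw [h]; trivial
  exact h1 hrm

theorem basicOpen_eq_top_of_isUnit (r : A) (h : IsUnit r) : PrimeSpectrum.basicOpen r = ⊤ := by
  rw [eq_top_iff]
  intro x _
  rw [PrimeSpectrum.mem_basicOpen]
  intro hx
  exact x.2.ne_top (Ideal.eq_top_of_isUnit_mem _ hx h)

end Alg

section Geo

variable {X Y : Scheme.{u}} (f : X ⟶ Y) [IsProper f] (d : ℕ) {V : Y.Opens} (hV : IsAffineOpen V)

/-- the family over `Spec Γ(Y, V)` -/
noncomputable abbrev XA : Scheme.{u} := pullback f hV.fromSpec

/-- the structure morphism of the family -/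
noncomputable abbrev fA : XA f hV ⟶ Spec (CommRingCat.of Γ(Y, V)) := pullback.snd f hV.fromSpec

instance : IsProper (fA f hV) := inferInstanceAs (IsProper (pullback.snd f hV.fromSpec))

/-- `M = H^d(X_A, O)` -/
noncomputable def MA : Type u := Coh.HH (XA f hV) (Coh.structureModule (XA f hV)) d

noncomputable instance : AddCommGroup (MA f d hV) :=
  inferInstanceAs (AddCommGroup (Coh.HH (XA f hV) (Coh.structureModule (XA f hV)) d))

noncomputable instance instModuleMA : Module Γ(Y, V) (MA f d hV) :=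
  Module.compHom (Coh.HH (XA f hV) (Coh.structureModule (XA f hV)) d) (Coh.toGlobal (fA f hV))

theorem fibreDimAt_fA_le (hVg : V ≤ goodLocus f d) (x : XA f hV) :
    FlatMor.fibreDimAt (fA f hV) x ≤ d := by
  haveI : LocallyOfFiniteType f := inferInstance
  rw [fibreDimAt_eq_of_isPullback f hV.fromSpec (pullback.fst f hV.fromSpec) (fA f hV)
    (IsPullback.of_hasPullback _ _) x]
  have hx : f (pullback.fst f hV.fromSpec x) ∈ goodLocus f d := by
    apply hVg
    have h1 : f (pullback.fst f hV.fromSpec x) = hV.fromSpec (pullback.snd f hV.fromSpec x) := by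
      rw [← Scheme.Hom.comp_apply, pullback.condition, Scheme.Hom.comp_apply]
    rw [h1]
    have h2 : hV.fromSpec (pullback.snd f hV.fromSpec x) ∈ Set.range hV.fromSpec := ⟨_, rfl⟩
    rw [hV.range_fromSpec] at h2
    exact h2
  exact (topologicalKrullDim_fiber_le_iff f _ d).mp hx _ rfl

theorem finite_MA (hVg : V ≤ goodLocus f d) : Module.Finite Γ(Y, V) (MA f d hV) :=
  finite_HH_top Γ(Y, V) (fA f hV) d (fibreDimAt_fA_le f d hV hVg) _
    (Groth.Agent.Lib.R2H4BCGlue.isCoh_structureModule _)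

section Psi

variable {B : Type u} [CommRing B] (t : Spec (CommRingCat.of B) ⟶ Y)
  (ht : Set.range t ⊆ (V : Set Y))

/-- the factorization of `t` through `Spec Γ(Y, V)` -/
noncomputable def tA : Spec (CommRingCat.of B) ⟶ Spec (CommRingCat.of Γ(Y, V)) :=
  IsOpenImmersion.lift hV.fromSpec t (by rw [hV.range_fromSpec]; exact ht)

theorem tA_fromSpec : tA hV t ht ≫ hV.fromSpec = t := IsOpenImmersion.lift_fac _ _ _

/-- the ring map `Γ(Y, V) → B` of `t` -/
noncomputable def psi : Γ(Y, V) →+* B := (Spec.preimage (tA hV t ht)).hom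

theorem specMap_psi : Spec.map (CommRingCat.ofHom (psi hV t ht)) = tA hV t ht :=
  Spec.map_preimage _

theorem psi_comp {C : Type u} [CommRing C] (χ : B →+* C)
    (ht' : Set.range (Spec.map (CommRingCat.ofHom χ) ≫ t) ⊆ (V : Set Y)) :
    psi hV (Spec.map (CommRingCat.ofHom χ) ≫ t) ht' = χ.comp (psi hV t ht) := by
  have h1 : tA hV (Spec.map (CommRingCat.ofHom χ) ≫ t) ht' =
      Spec.map (CommRingCat.ofHom χ) ≫ tA hV t ht := by
    rw [← cancel_mono hV.fromSpec, tA_fromSpec, Category.assoc, tA_fromSpec]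
  have h2 : Spec.map (CommRingCat.ofHom (psi hV _ ht')) =
      Spec.map (CommRingCat.ofHom (χ.comp (psi hV t ht))) := by
    rw [specMap_psi, h1, CommRingCat.ofHom_comp, Spec.map_comp, specMap_psi]
  have h3 := Spec.map_injective h2
  exact congrArg CommRingCat.Hom.hom h3

theorem preimage_basicOpen (s : Γ(Y, V)) :
    t ⁻¹ᵁ (Y.basicOpen s) = PrimeSpectrum.basicOpen (psi hV t ht s) := by
  have h1 : t ⁻¹ᵁ (Y.basicOpen s) = (tA hV t ht) ⁻¹ᵁ (hV.fromSpec ⁻¹ᵁ (Y.basicOpen s)) := by
    conv_lhs => rw [← tA_fromSpec hV t ht]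
    rfl
  rw [h1, hV.fromSpec_preimage_basicOpen, ← specMap_psi]
  rfl

/-- **top-degree base change over an affine open of the base** -/
theorem subsingleton_HH_iff_TV (hVg : V ≤ goodLocus f d) {XT : Scheme.{u}} (g' : XT ⟶ X)
    (fT : XT ⟶ Spec (CommRingCat.of B)) (sq : IsPullback g' fT f t) :
    Subsingleton (Coh.HH XT (Coh.structureModule XT) d) ↔ TV (psi hV t ht) (MA f d hV) := by
  letI : Algebra Γ(Y, V) B := (psi hV t ht).toAlgebra
  letI : (XA f hV).Over (Spec (CommRingCat.of Γ(Y, V))) := ⟨fA f hV⟩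
  letI : XT.Over (Spec (CommRingCat.of B)) := ⟨fT⟩
  haveI : IsProper (XA f hV ↘ Spec (CommRingCat.of Γ(Y, V))) :=
    inferInstanceAs (IsProper (fA f hV))
  have hR := IsPullback.of_hasPullback f hV.fromSpec
  have hψ : Spec.map (CommRingCat.ofHom (algebraMap Γ(Y, V) B)) ≫ hV.fromSpec = t := by
    change Spec.map (CommRingCat.ofHom (psi hV t ht)) ≫ _ = _
    rw [specMap_psi, tA_fromSpec]
  let k : XT ⟶ XA f hV := hR.lift g' (fT ≫ Spec.map (CommRingCat.ofHom (algebraMap Γ(Y, V) B)))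
    (by rw [Category.assoc, hψ]; exact sq.w)
  have hk1 : k ≫ pullback.fst f hV.fromSpec = g' := hR.lift_fst _ _ _
  have hk2 : k ≫ fA f hV = fT ≫ Spec.map (CommRingCat.ofHom (algebraMap Γ(Y, V) B)) :=
    hR.lift_snd _ _ _
  have sqk : IsPullback k fT (fA f hV) (Spec.map (CommRingCat.ofHom (algebraMap Γ(Y, V) B))) :=
    IsPullback.of_right (by rw [hk1, hψ]; exact sq) hk2 hR
  exact subsingleton_HH_iff_tensor Γ(Y, V) B (XA f hV) XT d (fibreDimAt_fA_le f d hV hVg) k sqk

end Psi

end Geo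

section Apps

variable {X Y : Scheme.{u}} (f : X ⟶ Y) [IsProper f] (d : ℕ) {V : Y.Opens} (hV : IsAffineOpen V)

theorem subsingleton_HH_congr {W : Scheme.{u}} {M N : W.Modules} (φ : M ≅ N) (i : ℕ) :
    Subsingleton (Coh.HH W M i) ↔ Subsingleton (Coh.HH W N i) := by
  have h1 : ∀ x, HmapL φ.inv i (HmapL φ.hom i x) = x := fun x => by
    rw [← HmapL_comp, Iso.hom_inv_id, HmapL_id]
  have h2 : ∀ x, HmapL φ.hom i (HmapL φ.inv i x) = x := fun x => by
    rw [← HmapL_comp, Iso.inv_hom_id, HmapL_id]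
  constructor
  · intro h
    refine ⟨fun a b => ?_⟩
    rw [← h2 a, ← h2 b, Subsingleton.elim (HmapL φ.inv i a) (HmapL φ.inv i b)]
  · intro h
    refine ⟨fun a b => ?_⟩
    rw [← h1 a, ← h1 b, Subsingleton.elim (HmapL φ.hom i a) (HmapL φ.hom i b)]

theorem range_fromSpecResidueField_subset (y : Y) (hy : y ∈ V) :
    Set.range (Y.fromSpecResidueField y) ⊆ (V : Set Y) := by
  rw [Scheme.range_fromSpecResidueField]
  exact Set.singleton_subset_iff.2 hy

/-- the fibre at a point of `V` -/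
theorem fiber_iff (hVg : V ≤ goodLocus f d) (y : Y) (hy : y ∈ V) :
    Subsingleton (Coh.HH (f.fiber y) (Coh.structureModule (f.fiber y)) d) ↔
      TV (psi hV (Y.fromSpecResidueField y) (range_fromSpecResidueField_subset y hy))
        (MA f d hV) :=
  subsingleton_HH_iff_TV f d hV (Y.fromSpecResidueField y) _ hVg (f.fiberι y)
    (f.fiberToSpecResidueField y) (IsPullback.of_hasPullback f (Y.fromSpecResidueField y))

theorem range_fromSpec_comp_subset {Y' : Scheme.{u}} (g : Y' ⟶ Y) {U : Y'.Opens}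
    (hU : IsAffineOpen U) (hUV : U ≤ g ⁻¹ᵁ V) :
    Set.range (hU.fromSpec ≫ g) ⊆ (V : Set Y) := by
  rintro _ ⟨z, rfl⟩
  have h1 : hU.fromSpec z ∈ (U : Set Y') := by
    rw [← hU.range_fromSpec]; exact ⟨z, rfl⟩
  exact hUV h1

/-- the preimage of an affine open of a base change -/
theorem HHon_iff (hVg : V ≤ goodLocus f d) {Y' : Scheme.{u}} (g : Y' ⟶ Y) (U : Y'.Opens)
    (hU : IsAffineOpen U) (hUV : U ≤ g ⁻¹ᵁ V) :
    Subsingleton (Coh.HHon (pullback f g) (Coh.structureModule (pullback f g))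
      (pullback.snd f g ⁻¹ᵁ U) d) ↔
      TV (psi hV (hU.fromSpec ≫ g) (range_fromSpec_comp_subset g hU hUV)) (MA f d hV) := by
  let f' := pullback.snd f g
  let W := f' ⁻¹ᵁ U
  have h0 : Subsingleton (Coh.HHon (pullback f g) (Coh.structureModule (pullback f g)) W d) ↔
      Subsingleton (Coh.HH W (Coh.structureModule W) d) :=
    subsingleton_HH_congr (Scheme.Modules.restrictUnitIso W.ι) d
  refine h0.trans ?_
  have h1 : IsPullback W.ι (f' ∣_ U) f' U.ι := (isPullback_morphismRestrict f' U).flip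
  have h2 : IsPullback (W.ι ≫ pullback.fst f g) (f' ∣_ U) f (U.ι ≫ g) :=
    h1.paste_horiz (IsPullback.of_hasPullback f g)
  have h3 : IsPullback (W.ι ≫ pullback.fst f g) (f' ∣_ U ≫ hU.isoSpec.hom) f
      (hU.fromSpec ≫ g) := by
    refine h2.of_iso (Iso.refl _) (Iso.refl _) hU.isoSpec (Iso.refl _) ?_ ?_ ?_ ?_
    · simp
    · simp
    · simp
    · simp
  exact subsingleton_HH_iff_TV f d hV (hU.fromSpec ≫ g) _ hVg (W.ι ≫ pullback.fst f g)
    (f' ∣_ U ≫ hU.isoSpec.hom) h3

end Apps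

section Pts

variable {Y : Scheme.{u}} {V : Y.Opens} (hV : IsAffineOpen V)
  {B : Type u} [CommRing B] (t : Spec (CommRingCat.of B) ⟶ Y) (ht : Set.range t ⊆ (V : Set Y))

theorem psi_congr {t t' : Spec (CommRingCat.of B) ⟶ Y} (h : t = t')
    (ht : Set.range t ⊆ (V : Set Y)) (ht' : Set.range t' ⊆ (V : Set Y)) :
    psi hV t ht = psi hV t' ht' := by
  subst h
  rfl

theorem specMap_psi_fromSpec :
    Spec.map (CommRingCat.ofHom (psi hV t ht)) ≫ hV.fromSpec = t := by
  rw [specMap_psi, tA_fromSpec]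

/-- if `t` lands in `D(s)` then `s` becomes a unit -/
theorem isUnit_psi_of_range_subset (s : Γ(Y, V))
    (h : Set.range t ⊆ (Y.basicOpen s : Set Y)) : IsUnit (psi hV t ht s) := by
  apply isUnit_of_basicOpen_eq_top
  rw [← preimage_basicOpen hV t ht s, eq_top_iff]
  intro z _
  exact h ⟨z, rfl⟩

/-- if `s` does not vanish at the field-valued point `t` then `t` lands in `D(s)` -/
theorem range_subset_basicOpen_of_isUnit (s : Γ(Y, V)) (h : IsUnit (psi hV t ht s)) :
    Set.range t ⊆ (Y.basicOpen s : Set Y) := by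
  have h1 := preimage_basicOpen hV t ht s
  rw [basicOpen_eq_top_of_isUnit _ h] at h1
  rintro _ ⟨z, rfl⟩
  have h2 : z ∈ t ⁻¹ᵁ (Y.basicOpen s) := by rw [h1]; trivial
  exact h2

theorem mem_basicOpen_of_psi_ne_zero (y : Y) (hy : y ∈ V) (s : Γ(Y, V))
    (h : psi hV (Y.fromSpecResidueField y) (range_fromSpecResidueField_subset y hy) s ≠ 0) :
    y ∈ Y.basicOpen s := by
  have h1 := range_subset_basicOpen_of_isUnit hV (Y.fromSpecResidueField y)
    (range_fromSpecResidueField_subset y hy) s (isUnit_iff_ne_zero.mpr h)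
  let z : Spec (Y.residueField y) := IsLocalRing.closedPoint (Y.residueField y)
  have h2 : (Y.fromSpecResidueField y) z ∈ (Y.basicOpen s : Set Y) := h1 ⟨z, rfl⟩
  have h3 : (Y.fromSpecResidueField y) z = y := Scheme.fromSpecResidueField_apply y z
  rw [h3] at h2
  exact h2

end Pts

section Sigma

theorem subsingleton_HH_sigma {X Y : Scheme.{u}} (f : X ⟶ Y) [IsProper f] [IsAffine Y]
    {J : Type u} (E : J → X.Modules) (hE : ∀ j, (E j).IsQuasicoherent) (i : ℕ)
    (h : ∀ j, Subsingleton (Coh.HH X (E j) i)) : Subsingleton (Coh.HH X (∐ E) i) := by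
  classical
  haveI : CompactSpace X := QuasiCompact.compactSpace_of_compactSpace f
  haveI := Groth.Agent.Lib.R2H2.ProperFin.isAffineHom_diagonal_of_isSeparated f
  obtain ⟨s, hs⟩ := Groth.Agent.Lib.Helper26.ModLim.exists_finite_affine_cover X
  have hU : ∀ t : Finset s, t.Nonempty →
      IsAffineOpen (⨅ i ∈ t, ((i.1 : X.affineOpens) : X.Opens)) := by
    intro t ht
    exact IsAffineOpen.biInf (t : Set s) t.finite_toSet (Finset.coe_nonempty.2 ht)
      (fun i _ => i.1.2)
  have key : ∀ x : Coh.HH X (∐ E) i, x = 0 := by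
    intro x
    obtain ⟨T, hT⟩ := Groth.Agent.Lib.R2H2.CoprodCoh.exists_sum_HH E
      (fun k : s => ((k.1 : X.affineOpens) : X.Opens)) hs.iSup_eq_top hU hE i x
    rw [hT]
    refine Finset.sum_eq_zero (fun j _ => ?_)
    haveI := h j
    rw [Subsingleton.elim (HmapL (Sigma.π E j) i x) 0, map_zero]
  exact ⟨fun a b => by rw [key a, key b]⟩

end Sigma

end Groth.Agent.Lib.R2H3.TopBCD
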