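import Mathlib
import Groth.Agent.Lib.R2H3TopBCD

/-!
# Top-degree vanishing from the fibres (helper3, round 2)

`f : X ⟶ Y` proper, fibres of dimension `≤ d`, `H^d(X_y, O) = 0` for all `y`.
* `subsingleton_MA_of_fibres` : `H^d(X_A, O) = 0` over an affine open;
* `subsingleton_HH_of_fibres` : `Y` affine: `H^d(X, O) = 0`;
* `subsingleton_HH_of_epi_sigma` : `Y` affine: `H^d(X, F) = 0` for quasi-coherent quotients of `∐ O`.
-/

set_option autoImplicit false
set_option linter.unusedSectionVars false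
set_option linter.style.haveILetI false
universe u
open CategoryTheory CategoryTheory.Limits AlgebraicGeometry TopologicalSpace Topology Opposite
open TensorProduct

namespace Groth.Agent.Lib.R2H3.TopBCE

open Groth.Agent.Lib.Helper4.FibDim Groth.Agent.Lib.Helper3.LocDimBC
  Groth.Agent.Lib.R2H3.FibDimLimB Groth.Agent.Lib.R2H3.FibDimLimD
  Groth.Agent.Lib.R2H3.FibDimLimF Groth.Agent.Lib.R2H2.HHLin Groth.Agent.Lib.R2H3.TopBCA
  Groth.Agent.Lib.R2H3.TopBCB Groth.Agent.Lib.R2H3.TopBCC Groth.Agent.Lib.R2H3.TopBCD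

attribute [local instance] Groth.Agent.Lib.R2H3.RpushRestrict.hasInjectiveResolutions_modules

variable {X Y : Scheme.{u}} (f : X ⟶ Y) [IsProper f] (d : ℕ)

theorem subsingleton_MA_of_fibres {V : Y.Opens} (hV : IsAffineOpen V)
    (hVg : V ≤ goodLocus f d)
    (h : ∀ y ∈ V, Subsingleton (Coh.HH (f.fiber y) (Coh.structureModule (f.fiber y)) d)) :
    Subsingleton (MA f d hV) := by
  haveI := finite_MA f d hV hVg
  have h1 : ∀ y ∈ V, ∃ s : Γ(Y, V), s ∈ Module.annihilator Γ(Y, V) (MA f d hV) ∧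
      y ∈ Y.basicOpen s := by
    intro y hy
    have h2 := (fiber_iff f d hV hVg y hy).mp (h y hy)
    obtain ⟨s, hs1, hs2⟩ := TV.exists_smul_eq_zero _ h2
    exact ⟨s, Module.mem_annihilator.mpr hs2, mem_basicOpen_of_psi_ne_zero hV y hy s hs1⟩
  have h3 : Ideal.span ((Module.annihilator Γ(Y, V) (MA f d hV) : Ideal Γ(Y, V)) : Set Γ(Y, V)) =
      ⊤ := by
    rw [← hV.self_le_iSup_basicOpen_iff]
    intro y hy
    obtain ⟨s, hs, hys⟩ := h1 y hy
    exact Opens.mem_iSup.mpr ⟨⟨s, hs⟩, hys⟩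
  rw [Ideal.span_eq] at h3
  have h4 : (1 : Γ(Y, V)) ∈ Module.annihilator Γ(Y, V) (MA f d hV) := by rw [h3]; trivial
  refine ⟨fun a b => ?_⟩
  have h5 : ∀ m : MA f d hV, m = 0 := fun m => by
    have := Module.mem_annihilator.mp h4 m
    rwa [one_smul] at this
  rw [h5 a, h5 b]

theorem subsingleton_HH_of_fibres [IsAffine Y]
    (hdim : ∀ y : Y, topologicalKrullDim ↥(f.fiber y) ≤ d)
    (h : ∀ y : Y, Subsingleton (Coh.HH (f.fiber y) (Coh.structureModule (f.fiber y)) d)) :
    Subsingleton (Coh.HH X (Coh.structureModule X) d) := by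
  have hV : IsAffineOpen (⊤ : Y.Opens) := isAffineOpen_top Y
  have hVg : (⊤ : Y.Opens) ≤ goodLocus f d := fun y _ => hdim y
  haveI := subsingleton_MA_of_fibres f d hV hVg (fun y _ => h y)
  have ht : Set.range hV.fromSpec ⊆ ((⊤ : Y.Opens) : Set Y) := fun _ _ => trivial
  haveI : IsIso hV.fromSpec := by
    rw [IsAffineOpen.fromSpec_top]; infer_instance
  have sq : IsPullback (𝟙 X) (f ≫ inv hV.fromSpec) f hV.fromSpec :=
    IsPullback.of_horiz_isIso ⟨by simp⟩
  exact (subsingleton_HH_iff_TV f d hV hV.fromSpec ht hVg (𝟙 X) (f ≫ inv hV.fromSpec) sq).mpr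
    (TV.of_subsingleton _)

theorem subsingleton_HH_of_epi_sigma [IsAffine Y]
    (hdim : ∀ y : Y, topologicalKrullDim ↥(f.fiber y) ≤ d)
    (h : ∀ y : Y, Subsingleton (Coh.HH (f.fiber y) (Coh.structureModule (f.fiber y)) d))
    (F : X.Modules) (hF : Coh.IsQCoh F) (ι : Type u)
    (e : (∐ fun _ : ι => Coh.structureModule X) ⟶ F) [Epi e] :
    Subsingleton (Coh.HH X F d) := by
  haveI := subsingleton_HH_of_fibres f d hdim h
  haveI hE : (∐ fun _ : ι => Coh.structureModule X).IsQuasicoherent := by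
    classical
    exact Groth.Agent.Lib.R2H2.CoprodCoh.isQuasicoherent_sigma _
      (fun _ => isQCoh_structureModule X)
  haveI : F.IsQuasicoherent := hF
  haveI hK : (kernel e).IsQuasicoherent :=
    Groth.Agent.Lib.Helper23.QCohLocal.isQuasicoherent_kernel _
  haveI h0 : Subsingleton (Coh.HH X (∐ fun _ : ι => Coh.structureModule X) d) :=
    subsingleton_HH_sigma f _ (fun _ => isQCoh_structureModule X) d (fun _ => inferInstance)
  let S : ShortComplex X.Modules := ShortComplex.mk (kernel.ι e) e (kernel.condition e)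
  have hS : S.ShortExact :=
    { exact := ShortComplex.exact_kernel e
      mono_f := by dsimp [S]; infer_instance
      epi_g := by dsimp [S]; infer_instance }
  have hfd : ∀ x : X, FlatMor.fibreDimAt f x ≤ d := fibreDimAt_le_of_fiber f d hdim
  have hvan : Subsingleton (Coh.HH X (kernel e) (d + 1)) :=
    subsingleton_HH_of_affine f d hfd (kernel e) hK (d + 1) (Nat.lt_succ_self d)
  refine ⟨fun a b => ?_⟩
  obtain ⟨a', rfl⟩ := exact₃ S hS d a (Subsingleton.elim _ _)
  obtain ⟨b', rfl⟩ := exact₃ S hS d b (Subsingleton.elim _ _)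
  rw [Subsingleton.elim a' b']

end Groth.Agent.Lib.R2H3.TopBCE
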