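import Mathlib
import Groth.Prelude
import Groth.Agent.Lib.Helper8RelGZ1
import Groth.Agent.Lib.Helper8RelGZ2
import Groth.Agent.Lib.R2H3TopBCE
import Groth.Agent.Lib.R2H1EulerAdd
import Groth.Agent.Lib.R2H4InvExists

/-!
# Proper morphisms to a Noetherian affine scheme with fibres of dimension `≤ 1` and `H¹(O) = 0` (helper8)

`f : X ⟶ Spec A` proper, `A` Noetherian, fibres of dimension `≤ 1`, `H¹(X, O_X) = 0`, `L` ample on `X`.
Then `H¹(X, L) = 0`, `L` is globally generated, normally generated and very ample relative to `f`.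
-/

set_option autoImplicit false
set_option linter.style.haveILetI false
set_option linter.unusedSectionVars false
set_option linter.unusedVariables false
universe u

open CategoryTheory CategoryTheory.Limits AlgebraicGeometry TopologicalSpace Opposite

namespace Groth.Agent.Lib.Helper8RelGZ3

open Groth.Agent.Lib.R2H2.HHLin Groth.Agent.Lib.R2H2.PnLinRes Groth.Agent.Lib.R2H2.PnSerre
open Groth.Agent.Lib.R2H3.TopBCB Groth.Agent.Lib.R2H3.FibDimLimD
open Groth.Agent.Lib.Helper8NormGen Groth.Agent.Lib.Helper8RelNG Groth.Agent.Lib.Helper8RelGZ1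
  Groth.Agent.Lib.Helper8RelGZ2

attribute [local instance] Groth.Agent.Lib.R2H3.RpushRestrict.hasInjectiveResolutions_modules

/-- Nakayama over all maximal ideals -/
theorem subsingleton_of_forall_maximal {A M : Type*} [CommRing A] [AddCommGroup M] [Module A M]
    [Module.Finite A M]
    (h : ∀ m : Ideal A, m.IsMaximal → ∀ x : M, x ∈ m • (⊤ : Submodule A M)) : Subsingleton M := by
  by_contra hM
  rw [not_subsingleton_iff_nontrivial] at hM
  let I : Ideal A := Module.annihilator A M
  have hI : I ≠ ⊤ := by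
    intro hI
    have h1 : (1 : A) ∈ I := by rw [hI]; trivial
    obtain ⟨x, y, hxy⟩ := hM
    apply hxy
    have hx := Module.mem_annihilator.mp h1 x
    have hy := Module.mem_annihilator.mp h1 y
    rw [one_smul] at hx hy
    rw [hx, hy]
  obtain ⟨m, hm, hIm⟩ := Ideal.exists_le_maximal I hI
  obtain ⟨r, hr1, hr2⟩ := Submodule.exists_sub_one_mem_and_smul_eq_zero_of_fg_of_le_smul m
    (⊤ : Submodule A M) Module.Finite.fg_top (fun x _ => h m hm x)
  have hrI : r ∈ I := Module.mem_annihilator.mpr (fun x => hr2 x trivial)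
  have hrm : r ∈ m := hIm hrI
  have h1m : (1 : A) ∈ m := by
    have := m.sub_mem hrm hr1
    simpa using this
  exact hm.ne_top ((Ideal.eq_top_iff_one m).mpr h1m)

section Fibre

variable (A k : Type u) [CommRing A] [Field k] (π : A →+* k) (hπ : Function.Surjective π)
  {X X' : Scheme.{u}} (f : X ⟶ Spec (CommRingCat.of A)) [IsProper f]
  (hfd : ∀ x, FlatMor.fibreDimAt f x ≤ 1)
  (f' : X' ⟶ Spec (CommRingCat.of k)) (κ : X' ⟶ X)
  (sq : IsPullback κ f' f (Spec.map (CommRingCat.ofHom π)))

include sq in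
theorem dim_fibre_le (hfib : ∀ y, topologicalKrullDim ↥(f.fiber y) ≤ 1)
    [IsClosedImmersion κ] : topologicalKrullDim X' ≤ 1 := by
  let z₀ : Spec (CommRingCat.of k) := (default : PrimeSpectrum k)
  let y : Spec (CommRingCat.of A) := (Spec.map (CommRingCat.ofHom π)) z₀
  have hmem : ∀ x' : X', κ x' ∈ (f : X → _) ⁻¹' {y} := by
    intro x'
    have h1 : f (κ x') = (Spec.map (CommRingCat.ofHom π)) (f' x') := by
      rw [← Scheme.Hom.comp_apply, sq.w, Scheme.Hom.comp_apply]
    have h2 : f' x' = z₀ := Subsingleton.elim (α := PrimeSpectrum k) _ _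
    change f (κ x') = y
    rw [h1, h2]
  have hind : Topology.IsInducing (Set.codRestrict (κ : X' → X) _ hmem) :=
    κ.isClosedEmbedding.isEmbedding.isInducing.codRestrict hmem
  have h1 : topologicalKrullDim X' ≤ topologicalKrullDim ↥((f : X → _) ⁻¹' {y}) :=
    hind.topologicalKrullDim_le
  have h2 : topologicalKrullDim ↥(f.fiber y) = topologicalKrullDim ↥((f : X → _) ⁻¹' {y}) :=
    IsHomeomorph.topologicalKrullDim_eq _ (f.fiberHomeo y).isHomeomorph
  exact h1.trans (h2 ▸ hfib y)

include hπ sq hfd in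
/-- the closed fibre: vanishing of `H¹` and global generation of the restriction of an ample module -/
theorem fibre_main (hfib : ∀ y, topologicalKrullDim ↥(f.fiber y) ≤ 1)
    (h1 : Subsingleton (Coh.HH X (Coh.structureModule X) 1))
    (L : X.Modules) (hLa : CohB1.IsAmple L) :
    Subsingleton (Coh.HH X' ((Scheme.Modules.pullback κ).obj L) 1) ∧
      Curv2.IsGloballyGenerated ((Scheme.Modules.pullback κ).obj L) := by
  haveI := isClosedImmersion_of_sq A k π hπ f f' κ sq
  letI : X'.Over (Spec (CommRingCat.of k)) := ⟨f'⟩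
  haveI : IsProper (X' ↘ Spec (CommRingCat.of k)) := by
    change IsProper f'
    exact MorphismProperty.of_isPullback (P := @IsProper) sq inferInstance
  have hdim' : topologicalKrullDim X' ≤ 1 := dim_fibre_le A k π f f' κ sq hfib
  have h1' : Subsingleton (Coh.HH X' (Coh.structureModule X') 1) :=
    subsingleton_HH_of_closed A k π hπ f 1 hfd f' κ sq h1
  have hamp : CohB1.IsAmple ((Scheme.Modules.pullback κ).obj L) :=
    Groth.Agent.Lib.Helper23.PB.isAmple_pullback_of_isAffineHom κ L hLa
  exact Groth.Agent.Lib.Helper8NefGZ.main k X' hdim' h1' _ hamp.1 (isNef_of_isAmple k X' _ hamp)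

end Fibre

section Main

variable (A : Type u) [CommRing A] [IsNoetherianRing A] {X : Scheme.{u}}
  (f : X ⟶ Spec (CommRingCat.of A)) [IsProper f]

include A f in
theorem isNoetherian_of_proper : IsNoetherian X := by
  haveI : CompactSpace X := QuasiCompact.compactSpace_of_compactSpace f
  haveI : IsLocallyNoetherian X := LocallyOfFiniteType.isLocallyNoetherian f
  exact {}

theorem exists_gens (m : Ideal A) :
    ∃ (r : ℕ) (a : Fin r → A), Ideal.span (Set.range a) = m :=
  Submodule.fg_iff_exists_fin_generating_family.mp (IsNoetherian.noetherian m)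

variable (h1 : Subsingleton (Coh.HH X (Coh.structureModule X) 1))
  (hfib : ∀ y : ↥(Spec (CommRingCat.of A)), topologicalKrullDim ↥(f.fiber y) ≤ 1)
  (L : X.Modules) (hLa : CohB1.IsAmple L)

include h1 hfib hLa in
/-- `H¹(X, L) = 0` for `L` ample -/
theorem subsingleton_HH_ample : Subsingleton (Coh.HH X L 1) := by
  haveI := isNoetherian_of_proper A f
  have hfd : ∀ x, FlatMor.fibreDimAt f x ≤ 1 :=
    Groth.Agent.Lib.R2H3.FibDimLimB.fibreDimAt_le_of_fiber f 1 (by simpa using hfib)
  obtain ⟨L', hL', ⟨e⟩⟩ := Groth.Agent.Lib.R2H4InvExists.exists_inverse L hLa.1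
  let e' : (DCoh.tensorBi.obj L').obj L ≅ Coh.structureModule X :=
    Iso.trans (Groth.Agent.Lib.R2H3.NegTwist.braidMod L' L) e
  letI : X.Over (Spec (CommRingCat.of A)) := ⟨f⟩
  haveI : IsProper (X ↘ Spec (CommRingCat.of A)) := ‹IsProper f›
  have hLc : Coh.IsCoh L := Groth.Agent.Lib.R2H1.CurveDegSec.isCoh_of_isInvertible L hLa.1
  haveI := Groth.Agent.Lib.R2H1.EulerAdd.finite_HH A X L hLc 1
  apply subsingleton_of_forall_maximal (A := A)
  intro m hm x
  letI := Ideal.Quotient.field m
  let π : A →+* A ⧸ m := Ideal.Quotient.mk m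
  have hπ : Function.Surjective π := Ideal.Quotient.mk_surjective
  let g := Spec.map (CommRingCat.ofHom π)
  let X' := pullback f g
  let κ : X' ⟶ X := pullback.fst f g
  let f' : X' ⟶ Spec (CommRingCat.of (A ⧸ m)) := pullback.snd f g
  have sq : IsPullback κ f' f g := IsPullback.of_hasPullback f g
  haveI := isClosedImmersion_of_sq A (A ⧸ m) π hπ f f' κ sq
  obtain ⟨h0', -⟩ := fibre_main A (A ⧸ m) π hπ f hfd f' κ sq hfib h1 L hLa
  -- transfer to `H¹(X, L ⊗ κ_* O)`
  have hGq : ((Scheme.Modules.pullback κ).obj L).IsQuasicoherent := by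
    haveI : L.IsQuasicoherent := hLc.1
    exact Groth.Agent.Lib.Helper20.PullbackAff.isQuasicoherent_pullback κ L
  have hOq' : (Coh.structureModule X').IsQuasicoherent := isQCoh_structureModule X'
  have hq : Coh.IsQCoh ((DCoh.tensorBi.obj ((Scheme.Modules.pullback κ).obj L)).obj
      (Coh.structureModule X')) :=
    @Groth.Agent.Lib.Helper23.TensorQCoh.isQuasicoherent_tensorMod _ _ _ hGq hOq'
  have h0a : Subsingleton (Coh.HH X' ((DCoh.tensorBi.obj ((Scheme.Modules.pullback κ).obj L)).obj
      (Coh.structureModule X')) 1) :=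
    subsingleton_HH_of_iso
      (Groth.Agent.Lib.Helper23.TensorUnit.tensorUnitIso ((Scheme.Modules.pullback κ).obj L)).symm 1 h0'
  have h0b := (Groth.Agent.Lib.R2H2.ClosedPn.subsingleton_HH_push_iff κ _ hq 1).mp h0a
  have h0 : Subsingleton (Coh.HH X ((DCoh.tensorBi.obj L).obj
      ((Scheme.Modules.pushforward κ).obj (Coh.structureModule X'))) 1) :=
    subsingleton_HH_of_iso
      ((Groth.Agent.Lib.R2H2.ClosedPn.projIso κ L L' e e').app (Coh.structureModule X')) 1 h0b
  obtain ⟨r, a, ha⟩ := exists_gens A m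
  have ha' : Ideal.span (Set.range a) = RingHom.ker π := by
    rw [ha]
    exact (Ideal.mk_ker).symm
  let iso := Groth.Agent.Lib.Helper23.TensorUnit.tensorUnitIso L
  obtain ⟨y, hy⟩ := exists_sum_smul A (A ⧸ m) π hπ f hfd f' κ sq r a ha' L hLa.1 h0
    (HmapL iso.inv 1 x)
  have hx : x = ∑ j, a j • HmapL iso.hom 1 (y j) := by
    have h2 : x = HmapL iso.hom 1 (HmapL iso.inv 1 x) := by
      rw [← HmapL_comp, Iso.inv_hom_id, HmapL_id]
    have h3 : HmapL iso.hom 1 (∑ j, Coh.toGlobal f (a j) • y j) =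
        ∑ j, HmapL iso.hom 1 (Coh.toGlobal f (a j) • y j) := map_sum (HmapL iso.hom 1) _ _
    have h4 : ∀ j, HmapL iso.hom 1 (Coh.toGlobal f (a j) • y j) = a j • HmapL iso.hom 1 (y j) :=
      fun j => (HmapL iso.hom 1).map_smul _ _
    exact h2.trans ((congrArg (HmapL iso.hom 1) hy).trans
      (h3.trans (Finset.sum_congr rfl (fun j _ => h4 j))))
  rw [hx]
  refine Submodule.sum_mem _ (fun j _ => Submodule.smul_mem_smul ?_ trivial)
  rw [← ha]
  exact Ideal.subset_span ⟨j, rfl⟩

include h1 hfib hLa in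
/-- at a closed point some global section generates `L` -/
theorem exists_section_closed (x : X) (hx : IsClosed ({x} : Set X)) :
    ∃ s : Coh.structureModule X ⟶ L, x ∈ CohB1.genLocus L s := by
  haveI := isNoetherian_of_proper A f
  have hfd : ∀ x, FlatMor.fibreDimAt f x ≤ 1 :=
    Groth.Agent.Lib.R2H3.FibDimLimB.fibreDimAt_le_of_fiber f 1 (by simpa using hfib)
  obtain ⟨L', hL', ⟨e⟩⟩ := Groth.Agent.Lib.R2H4InvExists.exists_inverse L hLa.1
  let e' : (DCoh.tensorBi.obj L').obj L ≅ Coh.structureModule X :=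
    Iso.trans (Groth.Agent.Lib.R2H3.NegTwist.braidMod L' L) e
  have hL1 : Subsingleton (Coh.HH X L 1) := subsingleton_HH_ample A f h1 hfib L hLa
  let y : PrimeSpectrum A := f x
  have hy : IsClosed ({y} : Set (PrimeSpectrum A)) := by
    have h2 := f.isClosedMap _ hx
    rwa [Set.image_singleton] at h2
  let m : Ideal A := y.asIdeal
  have hm : m.IsMaximal := (PrimeSpectrum.isClosed_singleton_iff_isMaximal _).mp hy
  letI := Ideal.Quotient.field m
  let π : A →+* A ⧸ m := Ideal.Quotient.mk m
  have hπ : Function.Surjective π := Ideal.Quotient.mk_surjective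
  let g := Spec.map (CommRingCat.ofHom π)
  let X' := pullback f g
  let κ : X' ⟶ X := pullback.fst f g
  let f' : X' ⟶ Spec (CommRingCat.of (A ⧸ m)) := pullback.snd f g
  have sq : IsPullback κ f' f g := IsPullback.of_hasPullback f g
  haveI := isClosedImmersion_of_sq A (A ⧸ m) π hπ f f' κ sq
  obtain ⟨-, hgg⟩ := fibre_main A (A ⧸ m) π hπ f hfd f' κ sq hfib h1 L hLa
  have hxr : x ∈ Set.range κ := by
    rw [Scheme.Pullback.range_fst]
    change y ∈ Set.range (PrimeSpectrum.comap π)
    rw [_root_.range_comap_of_surjective _ π hπ, PrimeSpectrum.mem_zeroLocus]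
    intro z hz
    have : z ∈ m := by
      have h3 : RingHom.ker π = m := Ideal.mk_ker
      rw [← h3]
      exact hz
    exact this
  obtain ⟨x', hx'⟩ := hxr
  have hinv : PicF.IsInvertible ((Scheme.Modules.pullback κ).obj L) :=
    (Groth.Agent.Lib.Helper23.PB.isAmple_pullback_of_isAffineHom κ L hLa).1
  obtain ⟨t', ht'⟩ := Groth.Agent.Lib.Helper23.GG.exists_section_mem_genLocus _ hinv hgg x'
  have h1T : Subsingleton (Coh.HH X ((DCoh.tensorBi.obj L).obj (Coh.structureModule X)) 1) :=
    subsingleton_HH_of_iso (Groth.Agent.Lib.Helper23.TensorUnit.tensorUnitIso L).symm 1 hL1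
  obtain ⟨r, a, ha⟩ := exists_gens A m
  have ha' : Ideal.span (Set.range a) = RingHom.ker π := by
    rw [ha]
    exact (Ideal.mk_ker).symm
  have hlift := fun v =>
    exists_lift_section A (A ⧸ m) π hπ f hfd f' κ sq r a ha' L hLa.1 h1T v
  obtain ⟨s, hs⟩ := exists_section_restrict κ L L' hLa.1 e e' hlift t'
  refine ⟨s, ?_⟩
  rw [hs] at ht'
  rw [← hx']
  exact ht'

include h1 hfib hLa in
/-- `L` is generated by global sections -/
theorem exists_section (x : X) : ∃ s : Coh.structureModule X ⟶ L, x ∈ CohB1.genLocus L s := by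
  haveI : CompactSpace X := QuasiCompact.compactSpace_of_compactSpace f
  by_contra hcon
  push Not at hcon
  let U : X.Opens := ⨆ s : Coh.structureModule X ⟶ L, CohB1.genLocus L s
  have hxU : x ∉ U := by
    intro hx
    obtain ⟨s, hs⟩ := Opens.mem_iSup.mp hx
    exact hcon s hs
  have hc : IsClosed ((U : Set X)ᶜ) := U.isOpen.isClosed_compl
  obtain ⟨z, hz, hzc⟩ := hc.exists_closed_singleton ⟨x, hxU⟩
  obtain ⟨s, hs⟩ := exists_section_closed A f h1 hfib L hLa z hzc
  exact hz (Opens.mem_iSup.mpr ⟨s, hs⟩)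

include A h1 hfib hLa in
/-- **ample ⇒ very ample** for proper morphisms to a Noetherian affine scheme with fibres of
dimension `≤ 1` and `H¹(X, O_X) = 0` -/
theorem veryAmple : RelAmple.IsRelVeryAmplePn f L := by
  haveI := isNoetherian_of_proper A f
  have hfd : ∀ x, FlatMor.fibreDimAt f x ≤ 1 :=
    Groth.Agent.Lib.R2H3.FibDimLimB.fibreDimAt_le_of_fiber f 1 (by simpa using hfib)
  haveI : IsAffine (Spec (CommRingCat.of A)) := inferInstance
  have hrex : Rex X := rex_of_affine f hfd
  have hcov := exists_section A f h1 hfib L hLa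
  have hng : ∀ n : ℕ, 1 ≤ n → AddSubgroup.closure {t | ∃ (m : (CohB1.tensorPow L n).val.obj (op ⊤))
      (s : L.val.obj (op ⊤)), t = SecTwist.tmul (CohB1.tensorPow L n) L ⊤ m s} = ⊤ := by
    intro n hn
    obtain ⟨j, rfl⟩ : ∃ j, n = j + 1 := ⟨n - 1, by omega⟩
    have hj := subsingleton_HH_tensorPow_of_le X hrex L hLa.1 hcov 0 h1 j (Nat.zero_le j)
    exact closure_eq_top_of_spanT _ _ (span_tensorPow_succ X hrex L hLa.1 hcov j hj)
  exact Groth.Agent.Lib.R2H4NormalGen.main f L hLa hng

end Main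

end Groth.Agent.Lib.Helper8RelGZ3
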