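import Mathlib
import Groth.Agent.Lib.R2H3VAmpleMain
import Groth.Agent.Lib.R2H3GenLocAffine
import Groth.Agent.Lib.Helper23LocGen
import Groth.Agent.Lib.Helper23Restr2

/-!
# Ample and normally generated implies very ample (helper4, round 2)

* `unitTensorIso_tm` : section formula `r ⊗ t ↦ r • t` for the left unit isomorphism `O ⊗ F ≅ F`.
* `cf L he n a` : the coefficient over `W` of a global section `a` of `L^n` with respect to `e^n`, `e` a generator of `L`
  over `W`; `cf_tmul` : multiplicativity.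
* `cf_mem` : for normally generated `L`, the coefficients of all sections of all powers `L^n`, `n ≥ 1`, lie in any
  multiplicatively closed additive subgroup containing the coefficients of the sections of `L^1`.
* `exists_section_pow_one` : a section of `L^(n+1)` not vanishing at `x` gives a section of `L^1` not vanishing at `x`.
* `mem_polyRatios` : on a qcqs scheme every function on `X_s` is a polynomial in finitely many ratios `a / s`.
* `main` : `f : X ⟶ S` universally closed, locally of finite type, `S` affine, `L` ample and normally generated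
  ⇒ `L` is very ample relative to `f`.
-/

set_option autoImplicit false
universe u
open CategoryTheory CategoryTheory.Limits AlgebraicGeometry TopologicalSpace Opposite MonoidalCategory TensorProduct

namespace Groth.Agent.Lib.R2H4NormalGen

open Groth.Agent.Lib.Helper23.SecTw Groth.Agent.Lib.Helper23.GenLocus Groth.Agent.Lib.Helper6
  Groth.Agent.Lib.Helper23.AmpleIso Groth.Agent.Lib.Helper23.Extend Groth.Agent.Lib.Helper23.TensorUnit

variable {X : Scheme.{u}}

theorem lam_hom_tmul (F : X.Modules) (U : X.Opens) (r : X.ringCatSheaf.obj.obj (op U)) (t : F.val.obj (op U)) :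
    ((lam F).hom.app (op U)).hom
        (((r : (Coh.structureModule X).val.obj (op U)) ⊗ₜ t :
          ↥((CohB1.tensorPre (Coh.structureModule X) F).obj (op U)))) = r • t := by
  change ((λ_ (CohB1.toPMod F)).hom.app (op U)).hom _ = _
  simp [PresheafOfModules.leftUnitor_hom_app]
  rfl

/-- Section formula for `unitTensorIso`: `r ⊗ t ↦ r • t`. -/
theorem unitTensorIso_tmul (F : X.Modules) (U : X.Opens) (r : X.ringCatSheaf.obj.obj (op U)) (t : F.val.obj (op U)) :
    ((unitTensorIso F).hom.val.app (op U)).hom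
        (SecTwist.tmul (Coh.structureModule X) F U (r : (Coh.structureModule X).val.obj (op U)) t) = r • t := by
  let adj := PresheafOfModules.sheafificationAdjunction.{u, u, u, u}
    (J := Opens.grothendieckTopology X) (𝟙 X.ringCatSheaf.obj)
  let P : X.PresheafOfModules := CohB1.tensorPre (Coh.structureModule X) F
  let lamF : P ≅ (show X.PresheafOfModules from F.val) := lam F
  let x : ↥((CohB1.tensorPre (Coh.structureModule X) F).obj (op U)) :=
    (r : (Coh.structureModule X).val.obj (op U)) ⊗ₜ t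
  have natU : ((adj.unit.app F.val).app (op U)).hom ((lamF.hom.app (op U)).hom x) =
      ((((CohB1.sheafifyMod X).map lamF.hom).val.app (op U)).hom
        (((adj.unit.app P).app (op U)).hom x)) :=
    congrArg (fun φ => (PresheafOfModules.Hom.app φ (op U)).hom x) (adj.unit.naturality lamF.hom)
  have hl : (lamF.hom.app (op U)).hom x = r • t := lam_hom_tmul F U r t
  rw [hl] at natU
  have triU : (((adj.counit.app F).val.app (op U)).hom
      (((adj.unit.app F.val).app (op U)).hom (r • t))) = r • t :=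
    congrArg (fun φ => (PresheafOfModules.Hom.app φ (op U)).hom (r • t)) (adj.right_triangle_components F)
  change ((((CohB1.sheafifyMod X).map lamF.hom ≫ adj.counit.app F).val.app (op U)).hom
      (((adj.unit.app P).app (op U)).hom x)) = r • t
  rw [← triU, natU]
  rfl

theorem unitTensorIso_tm (F : X.Modules) (U : X.Opens) (r : Γ(X, U)) (t : Γ(F, U)) :
    (unitTensorIso F).hom.app U (tm (Coh.structureModule X) F U (toS U r) t) = r • t :=
  unitTensorIso_tmul F U r t

section coefs

variable (L : X.Modules) {W : X.Opens} {e : Γ(L, W)} (he : IsGen L W e)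

/-- the coefficient on `W` of a global section of `L^n` with respect to `e^n` -/
noncomputable def cf (n : ℕ) (a : Γ(CohB1.tensorPow L n, ⊤)) : Γ(X, W) :=
  coef (isGen_pw L W e he n) le_rfl (res (CohB1.tensorPow L n) le_top a)

theorem cf_spec (n : ℕ) (a : Γ(CohB1.tensorPow L n, ⊤)) :
    cf L he n a • pw L W e n = res (CohB1.tensorPow L n) le_top a := by
  have h := coef_spec (isGen_pw L W e he n) le_rfl (res (CohB1.tensorPow L n) le_top a)
  rwa [res_self] at h

theorem cf_unique (n : ℕ) (a : Γ(CohB1.tensorPow L n, ⊤)) (c : Γ(X, W))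
    (h : c • pw L W e n = res (CohB1.tensorPow L n) le_top a) : c = cf L he n a :=
  coef_unique (isGen_pw L W e he n) le_rfl _ c (by rw [res_self]; exact h)

theorem cf_add (n : ℕ) (a b : Γ(CohB1.tensorPow L n, ⊤)) :
    cf L he n (a + b) = cf L he n a + cf L he n b :=
  (cf_unique L he n _ _ (by rw [add_smul, cf_spec, cf_spec, res_add'])).symm

theorem cf_zero (n : ℕ) : cf L he n 0 = 0 :=
  (cf_unique L he n _ _ (by rw [zero_smul, res_zero])).symm

theorem cf_neg (n : ℕ) (a : Γ(CohB1.tensorPow L n, ⊤)) : cf L he n (-a) = - cf L he n a := by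
  have h := cf_add L he n a (-a)
  rw [add_neg_cancel, cf_zero] at h
  exact (neg_eq_of_add_eq_zero_right h.symm).symm

theorem tm_smul_smul' (M N : X.Modules) (a : Γ(M, W)) (b : Γ(N, W)) (c d : Γ(X, W)) :
    tm M N W (c • a) (d • b) = (c * d) • tm M N W a b := by
  rw [tm_smul_left, tm_smul_right, mul_smul]

theorem cf_tmul (n : ℕ) (m : (CohB1.tensorPow L n).val.obj (op ⊤)) (s : L.val.obj (op ⊤)) :
    cf L he (n + 1) (SecTwist.tmul (CohB1.tensorPow L n) L ⊤ m s) =
      cf L he n m * coef he le_rfl (res L le_top s) := by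
  have h1 := tm_smul_smul' (CohB1.tensorPow L n) L (pw L W e n) e (cf L he n m)
    (coef he le_rfl (res L le_top s))
  have h2 : cf L he n m • pw L W e n = res (CohB1.tensorPow L n) le_top m := cf_spec L he n m
  have h3 : coef he le_rfl (res L le_top s) • e = res L le_top s := by
    have h := coef_spec he le_rfl (res L le_top s)
    rwa [res_self] at h
  rw [h2, h3] at h1
  have h4 := res_tm (CohB1.tensorPow L n) L (le_top : W ≤ ⊤) m s
  exact (cf_unique L he (n + 1) _ _ (h1.symm.trans h4.symm)).symm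

theorem cf_zero_one : cf L he 0 (toS ⊤ 1) = 1 := by
  have h : (1 : Γ(X, W)) • pw L W e 0 = res (CohB1.tensorPow L 0) le_top (toS ⊤ 1) := by
    rw [one_smul]
    have h' := map_toS (homOfLE (le_top : W ≤ ⊤)) (1 : Γ(X, ⊤))
    rw [map_one] at h'
    exact h'.symm
  exact (cf_unique L he 0 _ _ h).symm

/-- **Closure lemma.** -/
theorem cf_mem
    (hng : ∀ n : ℕ, 1 ≤ n → AddSubgroup.closure {t | ∃ (m : (CohB1.tensorPow L n).val.obj (op ⊤))
      (s : L.val.obj (op ⊤)), t = SecTwist.tmul (CohB1.tensorPow L n) L ⊤ m s} = ⊤)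
    (T : AddSubgroup Γ(X, W)) (hmul : ∀ a b, a ∈ T → b ∈ T → a * b ∈ T)
    (h1 : ∀ a : Γ(CohB1.tensorPow L 1, ⊤), cf L he 1 a ∈ T) :
    ∀ n, 1 ≤ n → ∀ a : Γ(CohB1.tensorPow L n, ⊤), cf L he n a ∈ T := by
  have hs : ∀ s : L.val.obj (op ⊤), coef he le_rfl (res L le_top s) ∈ T := by
    intro s
    have h := cf_tmul L he 0 (toS ⊤ 1) s
    rw [cf_zero_one, one_mul] at h
    rw [← h]
    exact h1 _
  intro n hn
  induction n, hn using Nat.le_induction with
  | base => exact h1
  | succ n hn ih =>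
    intro a
    have ha : a ∈ AddSubgroup.closure {t | ∃ (m : (CohB1.tensorPow L n).val.obj (op ⊤))
      (s : L.val.obj (op ⊤)), t = SecTwist.tmul (CohB1.tensorPow L n) L ⊤ m s} := by
      rw [hng n hn]; trivial
    induction ha using AddSubgroup.closure_induction with
    | mem x hx =>
      obtain ⟨m, s, rfl⟩ := hx
      rw [cf_tmul]
      exact hmul _ _ (ih m) (hs s)
    | zero =>
      change cf L he (n + 1) (0 : Γ(CohB1.tensorPow L (n + 1), ⊤)) ∈ T
      rw [cf_zero]
      exact T.zero_mem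
    | add x y _ _ hx hy =>
      change cf L he (n + 1) ((x : Γ(CohB1.tensorPow L (n + 1), ⊤)) + (y : Γ(CohB1.tensorPow L (n + 1), ⊤))) ∈ T
      rw [cf_add]
      exact T.add_mem hx hy
    | neg x _ hx =>
      change cf L he (n + 1) (-(x : Γ(CohB1.tensorPow L (n + 1), ⊤))) ∈ T
      rw [cf_neg]
      exact T.neg_mem hx

end coefs

section stepA

variable (L : X.Modules)

/-- relation between generating locus and coefficient -/
theorem genLocus_secHom_inf {W : X.Opens} {e : Γ(L, W)} (he : IsGen L W e) (n : ℕ)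
    (a : Γ(CohB1.tensorPow L n, ⊤)) :
    CohB1.genLocus _ (secHom (CohB1.tensorPow L n) a) ⊓ W = X.basicOpen (cf L he n a) :=
  genLocus_inf_eq_of_isGen _ (secHom _ a) W (pw L W e n) (cf L he n a) (isGen_pw L W e he n)
    (by rw [sv_secHom, cf_spec])

/-- the functions on `W` vanishing at `x` -/
def nonunitsAt (W : X.Opens) (x : X) (hx : x ∈ W) : AddSubgroup Γ(X, W) where
  carrier := {g | ¬ IsUnit (X.presheaf.germ W x hx g)}
  zero_mem' := by
    change ¬ IsUnit (X.presheaf.germ W x hx 0)
    rw [map_zero]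
    exact not_isUnit_zero
  add_mem' := fun {a b} ha hb => by
    change ¬ IsUnit (X.presheaf.germ W x hx (a + b))
    rw [map_add]
    exact IsLocalRing.nonunits_add ha hb
  neg_mem' := fun {a} ha => by
    change ¬ IsUnit (X.presheaf.germ W x hx (-a))
    rw [map_neg, IsUnit.neg_iff]
    exact ha

theorem nonunitsAt_mul (W : X.Opens) (x : X) (hx : x ∈ W) (a b : Γ(X, W)) (ha : a ∈ nonunitsAt W x hx)
    (_ : b ∈ nonunitsAt W x hx) : a * b ∈ nonunitsAt W x hx := by
  change ¬ IsUnit (X.presheaf.germ W x hx (a * b))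
  rw [map_mul, IsUnit.mul_iff]
  exact fun h => ha h.1

/-- **Step A**: a normally generated module with a section of a positive power not vanishing at `x` has
a section (of `L^1`) not vanishing at `x`. -/
theorem exists_section_pow_one (hL : PicF.IsInvertible L)
    (hng : ∀ n : ℕ, 1 ≤ n → AddSubgroup.closure {t | ∃ (m : (CohB1.tensorPow L n).val.obj (op ⊤))
      (s : L.val.obj (op ⊤)), t = SecTwist.tmul (CohB1.tensorPow L n) L ⊤ m s} = ⊤)
    (x : X) (n : ℕ) (σ : Coh.structureModule X ⟶ CohB1.tensorPow L (n + 1))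
    (hx : x ∈ CohB1.genLocus _ σ) :
    ∃ t : Coh.structureModule X ⟶ CohB1.tensorPow L 1, x ∈ CohB1.genLocus _ t := by
  obtain ⟨W, e, hxW, he⟩ := exists_gen L hL x
  by_contra hcon
  push Not at hcon
  have hmem : ∀ (k : ℕ) (a : Γ(CohB1.tensorPow L k, ⊤)),
      cf L he k a ∈ nonunitsAt W x hxW ↔ x ∉ CohB1.genLocus _ (secHom _ a) := by
    intro k a
    change ¬ IsUnit _ ↔ _
    rw [← Scheme.mem_basicOpen, ← genLocus_secHom_inf L he k a]
    constructor
    · intro h h'
      exact h ⟨h', hxW⟩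
    · intro h h'
      exact h h'.1
  have h1 : ∀ a : Γ(CohB1.tensorPow L 1, ⊤), cf L he 1 a ∈ nonunitsAt W x hxW :=
    fun a => (hmem 1 a).2 (hcon _)
  have h2 := cf_mem L he hng (nonunitsAt W x hxW) (nonunitsAt_mul W x hxW) h1 (n + 1)
    (Nat.succ_le_succ (Nat.zero_le n)) (sv σ ⊤)
  rw [hmem, Groth.Agent.Lib.R2H3.VAmpleMor.secHom_sv] at h2
  exact h2 hx

end stepA

section stepC

variable (L : X.Modules) (s : Coh.structureModule X ⟶ L)

/-- the functions on `X_s` which are polynomials in finitely many ratios `a / s` -/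
def polyRatios : AddSubgroup Γ(X, CohB1.genLocus L s) where
  carrier := {g | ∃ F : Finset Γ(CohB1.tensorPow L 1, ⊤), ∀ T' : Subring Γ(X, CohB1.genLocus L s),
      (∀ a ∈ F, cf L (isGen_sv_genLocus L s) 1 a ∈ T') → g ∈ T'}
  zero_mem' := ⟨∅, fun T' _ => T'.zero_mem⟩
  add_mem' := by
    classical
    rintro a b ⟨F, hF⟩ ⟨G, hG⟩
    exact ⟨F ∪ G, fun T' h => T'.add_mem (hF T' fun a ha => h a (Finset.mem_union_left _ ha))
      (hG T' fun a ha => h a (Finset.mem_union_right _ ha))⟩
  neg_mem' := by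
    rintro a ⟨F, hF⟩
    exact ⟨F, fun T' h => T'.neg_mem (hF T' h)⟩

theorem polyRatios_mul (a b : Γ(X, CohB1.genLocus L s)) (ha : a ∈ polyRatios L s) (hb : b ∈ polyRatios L s) :
    a * b ∈ polyRatios L s := by
  classical
  obtain ⟨F, hF⟩ := ha
  obtain ⟨G, hG⟩ := hb
  exact ⟨F ∪ G, fun T' h => T'.mul_mem (hF T' fun a ha => h a (Finset.mem_union_left _ ha))
    (hG T' fun a ha => h a (Finset.mem_union_right _ ha))⟩

/-- **Step C**: every function on `X_s` is a polynomial in finitely many ratios. -/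
theorem mem_polyRatios [CompactSpace X] [QuasiSeparatedSpace X] (hL : PicF.IsInvertible L)
    (hng : ∀ n : ℕ, 1 ≤ n → AddSubgroup.closure {t | ∃ (m : (CohB1.tensorPow L n).val.obj (op ⊤))
      (s : L.val.obj (op ⊤)), t = SecTwist.tmul (CohB1.tensorPow L n) L ⊤ m s} = ⊤)
    (g : Γ(X, CohB1.genLocus L s)) : g ∈ polyRatios L s := by
  have : (Coh.structureModule X).IsQuasicoherent :=
    Groth.Agent.Lib.Helper23.Serre.isQuasicoherent_structureModule' X
  obtain ⟨n₀, hn₀⟩ := Groth.Agent.Lib.Helper23.LocGen.main_eventually X L hL s (Coh.structureModule X)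
    (toS _ g)
  obtain ⟨t', ht'⟩ := hn₀ (max n₀ 1) (le_max_left _ _)
  have hn : 1 ≤ max n₀ 1 := le_max_right _ _
  generalize max n₀ 1 = n at t' ht' hn
  have he := isGen_sv_genLocus L s
  let a : Γ(CohB1.tensorPow L n, ⊤) := (unitTensorIso (CohB1.tensorPow L n)).hom.app ⊤ t'
  have ha : g = cf L he n a := by
    apply cf_unique
    have h1 := app_map (unitTensorIso (CohB1.tensorPow L n)).hom
      (homOfLE (le_top : CohB1.genLocus L s ≤ ⊤)) t'
    refine Eq.trans ?_ h1
    change _ = (unitTensorIso (CohB1.tensorPow L n)).hom.app (CohB1.genLocus L s)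
      (res _ (le_top : CohB1.genLocus L s ≤ ⊤) t')
    rw [ht']
    exact (unitTensorIso_tm _ _ g _).symm
  rw [ha]
  refine cf_mem L he hng (polyRatios L s) (polyRatios_mul L s) (fun a => ?_) n hn a
  classical
  exact ⟨{a}, fun T' h => h a (Finset.mem_singleton_self a)⟩

end stepC

section main

open Groth.Agent.Lib.R2H3.VAmpleMain Groth.Agent.Lib.R2H3.VAmpleSec Groth.Agent.Lib.R2H3.VAmpleImm
  Groth.Agent.Lib.R2H3.GenLocAffine

/-- **Ample + normally generated ⇒ very ample**, over an affine base. -/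
theorem main {S : Scheme.{u}} [IsAffine S] {X : Scheme.{u}} (f : X ⟶ S) [UniversallyClosed f]
    [LocallyOfFiniteType f] (L : X.Modules) (hLa : CohB1.IsAmple L)
    (hng : ∀ n : ℕ, 1 ≤ n → AddSubgroup.closure {t | ∃ (m : (CohB1.tensorPow L n).val.obj (op ⊤))
      (s : L.val.obj (op ⊤)), t = SecTwist.tmul (CohB1.tensorPow L n) L ⊤ m s} = ⊤) :
    RelAmple.IsRelVeryAmplePn f L := by
  classical
  have hL := hLa.1
  have : CompactSpace X := hLa.2.1
  have : QuasiSeparatedSpace X := quasiSeparatedSpace_of_isAmple L hLa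
  have hMinv : PicF.IsInvertible (CohB1.tensorPow L 1) := isInvertible_tensorPow hL 1
  -- local data
  have hloc : ∀ x : X, ∃ (s : Coh.structureModule X ⟶ L) (hUV : CohB1.genLocus L s ≤ f ⁻¹ᵁ ⊤)
      (_ : x ∈ CohB1.genLocus L s) (_ : IsAffineOpen (CohB1.genLocus L s))
      (m : ℕ) (b : Fin m → Γ(X, CohB1.genLocus L s)),
      (∀ T : Subring Γ(X, CohB1.genLocus L s), (∀ a, (f.appLE ⊤ (CohB1.genLocus L s) hUV).hom a ∈ T) →
        (∀ j, b j ∈ T) → T = ⊤) ∧ Good (CohB1.genLocus L s) b (CohB1.tensorPow L 1) := by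
    intro x
    obtain ⟨n, σ, hxσ, -⟩ := hLa.2.2 x
    obtain ⟨t, hxt⟩ := exists_section_pow_one L hL hng x n σ hxσ
    let s : Coh.structureModule X ⟶ L := t ≫ (unitTensorIso L).hom
    have hst : CohB1.genLocus L s = CohB1.genLocus _ t := genLocus_comp_iso (unitTensorIso L) t
    have hxs : x ∈ CohB1.genLocus L s := hst ▸ hxt
    have haff : IsAffineOpen (CohB1.genLocus L s) := isAffine_genLocus_of_universallyClosed f L hLa s
    have hUV : CohB1.genLocus L s ≤ f ⁻¹ᵁ ⊤ := le_top
    have hft : RingHom.FiniteType (f.appLE ⊤ _ hUV).hom :=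
      HasRingHomProperty.appLE (P := @LocallyOfFiniteType) f inferInstance ⟨⊤, isAffineOpen_top S⟩ ⟨_, haff⟩ hUV
    obtain ⟨m₀, b₀, hb₀⟩ := exists_gens _ hft
    have hF : ∀ j : Fin m₀, b₀ j ∈ polyRatios L s := fun j => mem_polyRatios L s hL hng (b₀ j)
    choose F hF using hF
    let G : Finset Γ(CohB1.tensorPow L 1, ⊤) := Finset.univ.biUnion F
    have he := isGen_sv_genLocus L s
    refine ⟨s, hUV, hxs, haff, G.card, fun j => cf L he 1 (G.equivFin.symm j : Γ(CohB1.tensorPow L 1, ⊤)), ?_, ?_⟩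
    · intro T hT hb
      refine hb₀ T hT (fun j => hF j T (fun a ha => ?_))
      have haG : a ∈ G := Finset.mem_biUnion.2 ⟨j, Finset.mem_univ j, ha⟩
      have h2 : cf L he 1 (G.equivFin.symm (G.equivFin ⟨a, haG⟩) : Γ(CohB1.tensorPow L 1, ⊤)) ∈ T :=
        hb (G.equivFin ⟨a, haG⟩)
      rwa [Equiv.symm_apply_apply] at h2
    · refine ⟨SecTwist.powHom s 1, genLocus_powHom hL s 1 one_pos, fun j => ?_⟩
      refine ⟨secHom _ (G.equivFin.symm j : Γ(CohB1.tensorPow L 1, ⊤)), ?_⟩
      rw [sv_secHom, sv_powHom, cf_spec]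
  choose s hUV hxU haff m b hb hgood using hloc
  -- finite subcover
  obtain ⟨T, hT⟩ : ∃ T : Finset X, ∀ y : X, ∃ x ∈ T, y ∈ CohB1.genLocus L (s x) := by
    obtain ⟨T, hT⟩ := isCompact_univ.elim_finite_subcover (fun x : X => ((CohB1.genLocus L (s x) : X.Opens) : Set X))
      (fun x => (CohB1.genLocus L (s x)).2) (fun x _ => Set.mem_iUnion.2 ⟨x, hxU x⟩)
    refine ⟨T, fun y => ?_⟩
    have := hT (Set.mem_univ y)
    simp only [Set.mem_iUnion] at this
    obtain ⟨x, hx, hy⟩ := this
    exact ⟨x, hx, hy⟩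
  have h1 : RelAmple.IsRelVeryAmplePn f (CohB1.tensorPow L 1) :=
    isRelVeryAmplePn_of_charts f _ hMinv T (fun _ => ⊤) (fun _ => isAffineOpen_top S)
      (fun x => CohB1.genLocus L (s x)) hUV haff hT m b hb (fun x _ => hgood x)
  exact isRelVeryAmplePn_of_iso f (unitTensorIso L) h1

end main

end Groth.Agent.Lib.R2H4NormalGen
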