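import Mathlib
import Groth.Prelude
import Groth.Agent.Lib.Helper8CLS1
import Groth.Agent.Lib.Helper8RelGZ3
import Groth.Agent.Lib.R2H4NormalGen
import Groth.Agent.Lib.R2H2PnBeilinson

/-!
# The complete linear system of an ample module on a curve with `H¹(O) = 0` over a field (helper8)

* `normallyGenerated` : in the setting of `Helper8RelGZ3` an ample module is normally generated.
* `main` : `X` proper over a field `k`, `dim X ≤ 1`, `H¹(X, O_X) = 0`, `L` ample with `dim_k Hom(O, L) = n + 1`.
  Then a basis of the sections defines a closed immersion `X ⟶ P^n_k` over `k` pulling `O(1)` back to `L`.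
-/

set_option autoImplicit false
set_option linter.style.haveILetI false
set_option linter.unusedSectionVars false
set_option linter.unusedVariables false
universe u

open CategoryTheory CategoryTheory.Limits AlgebraicGeometry TopologicalSpace Opposite

namespace Groth.Agent.Lib.Helper8CLS2

open Groth.Agent.Lib.R2H2.HHLin Groth.Agent.Lib.R2H2.PnLinRes Groth.Agent.Lib.R2H2.PnSerre
open Groth.Agent.Lib.R2H3.TopBCB Groth.Agent.Lib.R2H3.FibDimLimD
open Groth.Agent.Lib.Helper8NormGen Groth.Agent.Lib.Helper8RelNG Groth.Agent.Lib.Helper8RelGZ1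
  Groth.Agent.Lib.Helper8RelGZ2 Groth.Agent.Lib.Helper8RelGZ3

attribute [local instance] Groth.Agent.Lib.R2H3.RpushRestrict.hasInjectiveResolutions_modules

section NG

variable (A : Type u) [CommRing A] [IsNoetherianRing A] {X : Scheme.{u}}
  (f : X ⟶ Spec (CommRingCat.of A)) [IsProper f]
  (h1 : Subsingleton (Coh.HH X (Coh.structureModule X) 1))
  (hfib : ∀ y : ↥(Spec (CommRingCat.of A)), topologicalKrullDim ↥(f.fiber y) ≤ 1)
  (L : X.Modules) (hLa : CohB1.IsAmple L)

include h1 hfib hLa in
theorem normallyGenerated : ∀ n : ℕ, 1 ≤ n →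
    AddSubgroup.closure {t | ∃ (m : (CohB1.tensorPow L n).val.obj (op ⊤))
      (s : L.val.obj (op ⊤)), t = SecTwist.tmul (CohB1.tensorPow L n) L ⊤ m s} = ⊤ := by
  haveI := isNoetherian_of_proper A f
  have hfd : ∀ x, FlatMor.fibreDimAt f x ≤ 1 :=
    Groth.Agent.Lib.R2H3.FibDimLimB.fibreDimAt_le_of_fiber f 1 (by simpa using hfib)
  haveI : IsAffine (Spec (CommRingCat.of A)) := inferInstance
  have hrex : Rex X := rex_of_affine f hfd
  have hcov := exists_section A f h1 hfib L hLa
  intro n hn
  obtain ⟨j, rfl⟩ : ∃ j, n = j + 1 := ⟨n - 1, by omega⟩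
  have hj := subsingleton_HH_tensorPow_of_le X hrex L hLa.1 hcov 0 h1 j (Nat.zero_le j)
  exact closure_eq_top_of_spanT _ _ (span_tensorPow_succ X hrex L hLa.1 hcov j hj)

end NG


section Lin

open Groth.Agent.Lib.Helper23.SecTw Groth.Agent.Lib.Helper23.GenLocus Groth.Agent.Lib.Helper6
  Groth.Agent.Lib.Helper23.AmpleIso Groth.Agent.Lib.Helper23.Extend Groth.Agent.Lib.Helper23.TensorUnit
  Groth.Agent.Lib.R2H4NormalGen Groth.Agent.Lib.R2H3.VAmpleMor

variable (k : Type u) [Field k] (X : Scheme.{u}) [X.Over (Spec (CommRingCat.of k))]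

/-- the image of a scalar in the functions on an open -/
noncomputable def strV (V : X.Opens) (c : k) : Γ(X, V) :=
  X.presheaf.map (homOfLE (le_top : V ≤ ⊤)).op (Coh.toGlobal (X ↘ Spec (CommRingCat.of k)) c)

variable {X}

theorem sv_smul_U {M : X.Modules} (a : k) (σ : Coh.structureModule X ⟶ M) (V : X.Opens) :
    sv (a • σ) V = strV k X V a • sv σ V := by
  rw [Groth.Agent.Lib.R2H2.PnBeilinson.smul_eq_comp_smulMod, Groth.Agent.Lib.Helper23.SecTw.sv_comp]
  unfold Formal.smulMod
  rw [KLin.smulModΓ_app_apply]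
  rfl

theorem sv_sum_U {M : X.Modules} {ι : Type*} (t : Finset ι) (σ : ι → (Coh.structureModule X ⟶ M))
    (V : X.Opens) : sv (∑ i ∈ t, σ i) V = ∑ i ∈ t, sv (σ i) V := by
  classical
  induction t using Finset.induction_on with
  | empty => simp only [Finset.sum_empty]; exact sv_zero V
  | insert a t ha ih => rw [Finset.sum_insert ha, Finset.sum_insert ha, sv_add, ih]

theorem sv_eq_sum {M : X.Modules} {n : ℕ} (b : Module.Basis (Fin (n + 1)) k (Coh.structureModule X ⟶ M))
    (s : Coh.structureModule X ⟶ M) (V : X.Opens) :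
    sv s V = ∑ j, strV k X V (b.repr s j) • sv (b j) V := by
  conv_lhs => rw [← b.sum_repr s]
  rw [sv_sum_U]
  exact Finset.sum_congr rfl (fun j _ => sv_smul_U k _ _ V)

end Lin


section Main

open Groth.Agent.Lib.Helper23.SecTw Groth.Agent.Lib.Helper23.GenLocus Groth.Agent.Lib.Helper6
  Groth.Agent.Lib.Helper23.AmpleIso Groth.Agent.Lib.Helper23.Extend Groth.Agent.Lib.Helper23.TensorUnit
  Groth.Agent.Lib.R2H4NormalGen Groth.Agent.Lib.R2H3.VAmpleMor Groth.Agent.Lib.R2H3.GenLocAffine

variable (k : Type u) [Field k] (X : Scheme.{u}) [X.Over (Spec (CommRingCat.of k))]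
  [IsProper (X ↘ Spec (CommRingCat.of k))]

theorem strV_eq (V : X.Opens) (c : k) :
    strV k X V c = ((X ↘ Spec (CommRingCat.of k)).appLE ⊤ V le_top).hom
      ((Scheme.ΓSpecIso (CommRingCat.of k)).inv.hom c) := rfl

theorem main (h1 : Subsingleton (Coh.HH X (Coh.structureModule X) 1))
    (hdim : topologicalKrullDim X ≤ 1) (L : X.Modules) (hLa : CohB1.IsAmple L) (n : ℕ)
    (hn : Module.finrank k (Coh.structureModule X ⟶ L) = n + 1) :
    ∃ i : X ⟶ CohB1.ProjSpace n k, IsClosedImmersion i ∧
      i ≫ CohB1.ProjSpace.toSpec n k = X ↘ Spec (CommRingCat.of k) ∧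
      Nonempty ((Scheme.Modules.pullback i).obj (Twist.twistProjSpace n k 1) ≅ L) := by
  classical
  have hL := hLa.1
  haveI : CompactSpace X := hLa.2.1
  haveI : QuasiSeparatedSpace X := quasiSeparatedSpace_of_isAmple L hLa
  have hfib : ∀ y : ↥(Spec (CommRingCat.of k)),
      topologicalKrullDim ↥((X ↘ Spec (CommRingCat.of k)).fiber y) ≤ 1 := fun y =>
    (((X ↘ Spec (CommRingCat.of k)).fiberι y).isEmbedding.isInducing.topologicalKrullDim_le).trans hdim
  have hng := normallyGenerated k (X ↘ Spec (CommRingCat.of k)) h1 hfib L hLa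
  have hsec := Groth.Agent.Lib.Helper8RelGZ3.exists_section k (X ↘ Spec (CommRingCat.of k)) h1 hfib L hLa
  haveI : Module.Finite k (Coh.structureModule X ⟶ L) := Module.finite_of_finrank_pos (by omega)
  let b : Module.Basis (Fin (n + 1)) k (Coh.structureModule X ⟶ L) := Module.finBasisOfFinrankEq k _ hn
  let u := unitTensorIso L
  have hM : PicF.IsInvertible (CohB1.tensorPow L 1) := isInvertible_tensorPow hL 1
  let t : Fin (n + 1) → (Coh.structureModule X ⟶ CohB1.tensorPow L 1) := fun j => b j ≫ u.inv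
  let w : Fin (n + 1) → ProjUP.Γm (CohB1.tensorPow L 1) := fun j => sv (t j) ⊤
  let U : Fin (n + 1) → X.Opens := fun j => CohB1.genLocus L (b j)
  have hU : ∀ j, CohB1.genLocus (CohB1.tensorPow L 1) (secHom (CohB1.tensorPow L 1) (w j)) = U j := by
    intro j
    change CohB1.genLocus _ (secHom _ (sv (t j) ⊤)) = _
    rw [secHom_sv]
    exact genLocus_comp_iso u.symm (b j)
  -- the loci cover
  have hcov : ∀ y : X, ∃ j, y ∈ U j := by
    intro y
    by_contra hcon
    push Not at hcon
    obtain ⟨s, hs⟩ := hsec y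
    obtain ⟨W, e, hyW, he⟩ := exists_gen L hL y
    have hmem : ∀ σ : Coh.structureModule X ⟶ L,
        coef he le_rfl (sv σ W) ∈ nonunitsAt W y hyW ↔ y ∉ CohB1.genLocus L σ := by
      intro σ
      change ¬ IsUnit _ ↔ _
      rw [← Scheme.mem_basicOpen, ← genLocus_inf_eq_coef σ he]
      constructor
      · intro h h'
        exact h ⟨h', hyW⟩
      · intro h h'
        exact h h'.1
    have hc : coef he le_rfl (sv s W) =
        ∑ j, coef he le_rfl (sv (b j) W) * strV k X W (b.repr s j) := by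
      symm
      apply coef_unique
      rw [Groth.Agent.Lib.Helper23.SecTw.res_self, Finset.sum_smul, sv_eq_sum k b s W]
      refine Finset.sum_congr rfl (fun j _ => ?_)
      rw [mul_comm, mul_smul]
      congr 1
      exact (sv_eq_coef_smul (b j) he).symm
    have : coef he le_rfl (sv s W) ∈ nonunitsAt W y hyW := by
      rw [hc]
      refine AddSubgroup.sum_mem _ (fun j _ => ?_)
      have ha := (hmem (b j)).2 (hcon j)
      change ¬ IsUnit (X.presheaf.germ W y hyW (_ * _))
      rw [map_mul, IsUnit.mul_iff]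
      exact fun h => ha h.1
    exact (hmem s).1 this hs
  have haff : ∀ j, IsAffineOpen (U j) := fun j =>
    isAffine_genLocus_of_universallyClosed (X ↘ Spec (CommRingCat.of k)) L hLa (b j)
  have hb : ∀ j (T' : Subring Γ(X, U j)),
      (∀ a, ((X ↘ Spec (CommRingCat.of k)).appLE ⊤ (U j) le_top).hom a ∈ T') →
      (∀ l (c : Γ(X, U j)), res (CohB1.tensorPow L 1) (le_top : U j ≤ ⊤) (w l) =
          c • res (CohB1.tensorPow L 1) (le_top : U j ≤ ⊤) (w j) → c ∈ T') → T' = ⊤ := by
    intro j T' hT1 hT2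
    rw [eq_top_iff]
    intro g _
    have he := isGen_sv_genLocus L (b j)
    obtain ⟨F, hF⟩ := mem_polyRatios L (b j) hL hng g
    refine hF T' (fun a _ => ?_)
    have hw : ∀ l, res (CohB1.tensorPow L 1) (le_top : U j ≤ ⊤) (w l) = sv (t l) (U j) :=
      fun l => res_sv (t l) le_top
    have hpw : pw L (U j) (sv (b j) (U j)) 1 = sv (t j) (U j) := by
      rw [show sv (t j) (U j) = u.inv.app (U j) (sv (b j) (U j)) from sv_comp (b j) u.inv (U j)]
      have h2 : u.hom.app (U j) (pw L (U j) (sv (b j) (U j)) 1) = sv (b j) (U j) := by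
        have h := unitTensorIso_tm L (U j) 1 (sv (b j) (U j))
        rw [one_smul] at h
        exact h
      have h5 : u.hom.app (U j) ≫ u.inv.app (U j) = 𝟙 _ := by
        rw [← Scheme.Modules.Hom.comp_app, u.hom_inv_id]; rfl
      have h6 := congr($h5 (pw L (U j) (sv (b j) (U j)) 1))
      calc pw L (U j) (sv (b j) (U j)) 1
          = u.inv.app (U j) (u.hom.app (U j) (pw L (U j) (sv (b j) (U j)) 1)) := h6.symm
        _ = u.inv.app (U j) (sv (b j) (U j)) := by rw [h2]
    have hγ : ∀ l, cf L he 1 (w l) ∈ T' := by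
      intro l
      apply hT2 l
      rw [hw l, hw j, ← hpw]
      have h := cf_spec L he 1 (w l)
      rw [hw l] at h
      exact h.symm
    let a' : Coh.structureModule X ⟶ L := secHom _ a ≫ u.hom
    have ha : secHom _ a = ∑ l, (b.repr a' l) • t l := by
      have h0 : secHom _ a = a' ≫ u.inv := ((Iso.comp_inv_eq u).2 rfl).symm
      rw [h0]
      conv_lhs => rw [← b.sum_repr a']
      rw [Preadditive.sum_comp]
      refine Finset.sum_congr rfl (fun l _ => ?_)
      rw [Linear.smul_comp]
      rfl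
    have hres : res (CohB1.tensorPow L 1) (le_top : U j ≤ ⊤) a =
        ∑ l, strV k X (U j) (b.repr a' l) • sv (t l) (U j) := by
      rw [← sv_secHom, ha, sv_sum_U]
      exact Finset.sum_congr rfl (fun l _ => sv_smul_U k _ _ _)
    have hcf : cf L he 1 a = ∑ l, strV k X (U j) (b.repr a' l) * cf L he 1 (w l) := by
      symm
      apply cf_unique
      rw [hres, Finset.sum_smul]
      refine Finset.sum_congr rfl (fun l _ => ?_)
      rw [mul_smul]
      congr 1
      have h := cf_spec L he 1 (w l)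
      rw [hw l] at h
      exact h
    rw [hcf]
    refine Subring.sum_mem _ (fun l _ => Subring.mul_mem _ ?_ (hγ l))
    rw [strV_eq]
    exact hT1 _
  obtain ⟨i, hi1, hi2, ⟨hi3⟩⟩ := Groth.Agent.Lib.Helper8CLS1.exists_closedImmersion_of_sections
    (X ↘ Spec (CommRingCat.of k)) (CohB1.tensorPow L 1) hM n w U hU hcov haff hb
  exact ⟨i, hi1, hi2, ⟨hi3 ≪≫ u⟩⟩

end Main

end Groth.Agent.Lib.Helper8CLS2
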