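import Mathlib
import Groth.Agent.Lib.Helper8CLS1
import Groth.Agent.Lib.Helper8CLS2

/-!
# Closed immersions into `P^n` from sections, with charts on a covering subfamily; the square of a globally generated
ample module with `H¹ = 0` on a curve is very ample (helper8)

* `exists_closedImmersion_of_charts` : as `Helper8CLS1.exists_closedImmersion_of_sections`, but the chart condition is
  only required for a subfamily `c : κ → Fin (n + 1)` of the sections whose loci cover `X`.
* `cf_mem2`, `mem_polyRatios2` : variants of `R2H4NormalGen.cf_mem`, `mem_polyRatios` when `Γ(L^n) ⊗ Γ(L) → Γ(L^{n+1})` is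
  only known to be surjective for `n ≥ 2`.
* `veryAmple_sq` : `X` proper over a field, `dim X ≤ 1`, `L` invertible, globally generated, ample, `H¹(X, L) = 0`.  Then
  `L^{⊗ 2}` is very ample.
-/

set_option autoImplicit false
set_option linter.style.haveILetI false
set_option linter.unusedSectionVars false
set_option linter.unusedVariables false
universe u
open CategoryTheory CategoryTheory.Limits AlgebraicGeometry TopologicalSpace Opposite

namespace Groth.Agent.Lib.Helper8CLS3

section Charts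

open Groth.Agent.Lib.Helper23.SecTw Groth.Agent.Lib.Helper23.GenLocus Groth.Agent.Lib.Helper6
  Groth.Agent.Lib.Helper23.AmpleIso Groth.Agent.Lib.Helper23.Extend Groth.Agent.Lib.Helper27GrTildeSect
  Groth.Agent.Lib.R2H3.VAmpleMor Groth.Agent.Lib.R2H3.VAmpleSec Groth.Agent.Lib.R2H3.VAmpleImm
  Groth.Agent.Lib.R2H3.VAmpleMain Groth.Agent.Lib.Helper8CLS1

theorem exists_closedImmersion_of_charts {R : Type u} [CommRing R] {X : Scheme.{u}}
    (q : X ⟶ Spec (CommRingCat.of R)) [IsProper q] (M : X.Modules) (hM : PicF.IsInvertible M) (n : ℕ)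
    (w : Fin (n + 1) → ProjUP.Γm M) {κ : Type*} (c : κ → Fin (n + 1))
    (U : κ → X.Opens) (hU : ∀ x, CohB1.genLocus M (secHom M (w (c x))) = U x)
    (hcov : ∀ y : X, ∃ x, y ∈ U x)
    (haff : ∀ x, IsAffineOpen (U x))
    (hb : ∀ x (T' : Subring Γ(X, U x)),
      (∀ a, (q.appLE ⊤ (U x) le_top).hom a ∈ T') →
      (∀ j (d : Γ(X, U x)),
        res M (le_top : U x ≤ ⊤) (w j) = d • res M (le_top : U x ≤ ⊤) (w (c x)) → d ∈ T') → T' = ⊤) :
    ∃ i : X ⟶ CohB1.ProjSpace n R, IsClosedImmersion i ∧ i ≫ CohB1.ProjSpace.toSpec n R = q ∧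
      Nonempty ((Scheme.Modules.pullback i).obj (Twist.twistProjSpace n R 1) ≅ M) := by
  classical
  have hcov' : ∀ y : X, ∃ k, y ∈ CohB1.genLocus M (secHom M (w k)) := by
    intro y
    obtain ⟨x, hx⟩ := hcov y
    exact ⟨c x, by rw [hU x]; exact hx⟩
  have hgenw := generatedBy_of_cover M w hcov'
  obtain ⟨r, hrq, τ, hτ⟩ := exists_mor_data (R := R) n q M hM w hgenw
  have hpre := fun k => preimage_eq (CohB1.polyGrading n R)
    (fun i : Fin (n + 1) => (MvPolynomial.X i : MvPolynomial (Fin (n + 1)) R)) (hX n) (hcovX n) r M τ w hτ k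
  let i : X ⟶ CohB1.ProjSpace n R := r
  have hiq : i ≫ CohB1.ProjSpace.toSpec n R = q := hrq
  let D : κ → (CohB1.ProjSpace n R).Opens := fun x =>
    Proj.basicOpen (CohB1.polyGrading n R) (MvPolynomial.X (c x) : MvPolynomial (Fin (n + 1)) R)
  have hDU : ∀ x, i ⁻¹ᵁ D x = U x := fun x => (hpre (c x)).trans (hU x)
  have himm : IsImmersion i := by
    refine isImmersion_of_charts' i (κ := κ) D U
      (fun x => Proj.isAffineOpen_basicOpen _ _ (hX n _) Nat.one_pos) haff hDU ?_ (fun x => ?_)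
    · rw [eq_top_iff]
      intro y _
      obtain ⟨x, hx⟩ := hcov y
      exact Opens.mem_iSup.2 ⟨x, hx⟩
    · have hgen : IsGen M (U x) (res M (le_top : U x ≤ ⊤) (w (c x))) := by
        have h1 := isGen_sv_genLocus M (secHom M (w (c x)))
        rw [sv_secHom] at h1
        have key : ∀ (V : X.Opens), CohB1.genLocus M (secHom M (w (c x))) = V →
            IsGen M V (res M (le_top : V ≤ ⊤) (w (c x))) := by
          rintro V rfl
          exact h1
        exact key _ (hU x)
      have hT := hb x (i.appLE (D x) (U x) (hDU x).ge).hom.range ?_ ?_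
      · intro z
        have : z ∈ (i.appLE (D x) (U x) (hDU x).ge).hom.range := by
          rw [hT]; trivial
        exact this
      · intro a
        have h1 : q.appLE ⊤ (U x) le_top =
            (CohB1.ProjSpace.toSpec n R).appLE ⊤ (D x) le_top ≫
              i.appLE (D x) (U x) (hDU x).ge := by
          rw [Scheme.Hom.appLE_comp_appLE]
          exact appLE_congr hiq.symm le_top
        rw [h1]
        exact ⟨_, rfl⟩
      · intro j d hd
        have h3 := appLE_ratio_eq (CohB1.polyGrading n R)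
          (fun i : Fin (n + 1) => (MvPolynomial.X i : MvPolynomial (Fin (n + 1)) R)) (hX n) r M τ w hτ
          j (c x) (U := U x) (hDU x).ge hgen d hd
        rw [← h3]
        exact ⟨_, rfl⟩
  haveI : UniversallyClosed (i ≫ CohB1.ProjSpace.toSpec n R) := by rw [hiq]; infer_instance
  haveI : UniversallyClosed i := UniversallyClosed.of_comp_of_isSeparated i (CohB1.ProjSpace.toSpec n R)
  have hcl : IsClosed (Set.range i) := (i.isClosedMap).isClosed_range
  have hci : IsClosedImmersion i := IsClosedImmersion.of_isPreimmersion i hcl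
  refine ⟨i, hci, hiq, ?_⟩
  have e3 := (Scheme.Modules.pullback r).mapIso (eqToIso (twist_eq R n ((1 : ℕ) : ℤ)))
  exact ⟨e3 ≪≫ τ⟩

end Charts


section Coefs

open Groth.Agent.Lib.Helper23.SecTw Groth.Agent.Lib.Helper23.GenLocus Groth.Agent.Lib.Helper6
  Groth.Agent.Lib.Helper23.AmpleIso Groth.Agent.Lib.Helper23.Extend Groth.Agent.Lib.Helper23.TensorUnit
  Groth.Agent.Lib.R2H4NormalGen Groth.Agent.Lib.R2H3.VAmpleMor

variable {X : Scheme.{u}} (L : X.Modules) {W : X.Opens} {e : Γ(L, W)} (he : IsGen L W e)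

/-- **Closure lemma**, when the multiplication maps are only known to be surjective from degree two on. -/
theorem cf_mem2
    (hng : ∀ n : ℕ, 2 ≤ n → AddSubgroup.closure {t | ∃ (m : (CohB1.tensorPow L n).val.obj (op ⊤))
      (s : L.val.obj (op ⊤)), t = SecTwist.tmul (CohB1.tensorPow L n) L ⊤ m s} = ⊤)
    (T : AddSubgroup Γ(X, W)) (hmul : ∀ a b, a ∈ T → b ∈ T → a * b ∈ T)
    (h1 : ∀ a : Γ(CohB1.tensorPow L 1, ⊤), cf L he 1 a ∈ T)
    (h2 : ∀ a : Γ(CohB1.tensorPow L 2, ⊤), cf L he 2 a ∈ T) :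
    ∀ n, 1 ≤ n → ∀ a : Γ(CohB1.tensorPow L n, ⊤), cf L he n a ∈ T := by
  have hs : ∀ s : L.val.obj (op ⊤), coef he le_rfl (res L le_top s) ∈ T := by
    intro s
    have h := cf_tmul L he 0 (toS ⊤ 1) s
    rw [cf_zero_one, one_mul] at h
    rw [← h]
    exact h1 _
  have key : ∀ n, 2 ≤ n → ∀ a : Γ(CohB1.tensorPow L n, ⊤), cf L he n a ∈ T := by
    intro n hn
    induction n, hn using Nat.le_induction with
    | base => exact h2
    | succ n hn ih =>
      intro a
      have ha : a ∈ AddSubgroup.closure {t | ∃ (m : (CohB1.tensorPow L n).val.obj (op ⊤))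
        (s : L.val.obj (op ⊤)), t = SecTwist.tmul (CohB1.tensorPow L n) L ⊤ m s} := by
        rw [hng n hn]; trivial
      induction ha using AddSubgroup.closure_induction with
      | mem x hx =>
        obtain ⟨m, s, rfl⟩ := hx
        rw [cf_tmul]
        exact hmul _ _ (ih m) (hs s)
      | zero =>
        change cf L he (n + 1) (0 : Γ(CohB1.tensorPow L (n + 1), ⊤)) ∈ T
        rw [cf_zero]
        exact T.zero_mem
      | add x y _ _ hx hy =>
        change cf L he (n + 1) ((x : Γ(CohB1.tensorPow L (n + 1), ⊤)) + (y : Γ(CohB1.tensorPow L (n + 1), ⊤))) ∈ T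
        rw [cf_add]
        exact T.add_mem hx hy
      | neg x _ hx =>
        change cf L he (n + 1) (-(x : Γ(CohB1.tensorPow L (n + 1), ⊤))) ∈ T
        rw [cf_neg]
        exact T.neg_mem hx
  intro n hn a
  rcases Nat.lt_or_ge n 2 with h | h
  · obtain rfl : n = 1 := by omega
    exact h1 a
  · exact key n h a

variable (s : Coh.structureModule X ⟶ L)

/-- the functions on `X_s` which are polynomials in finitely many ratios `a / s`, `q / s²` -/
def polyRatios2 : AddSubgroup Γ(X, CohB1.genLocus L s) where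
  carrier := {g | ∃ (F : Finset Γ(CohB1.tensorPow L 1, ⊤)) (G : Finset Γ(CohB1.tensorPow L 2, ⊤)),
    ∀ T' : Subring Γ(X, CohB1.genLocus L s),
      (∀ a ∈ F, cf L (isGen_sv_genLocus L s) 1 a ∈ T') →
      (∀ a ∈ G, cf L (isGen_sv_genLocus L s) 2 a ∈ T') → g ∈ T'}
  zero_mem' := ⟨∅, ∅, fun T' _ _ => T'.zero_mem⟩
  add_mem' := by
    classical
    rintro a b ⟨F, G, hF⟩ ⟨F', G', hF'⟩
    exact ⟨F ∪ F', G ∪ G', fun T' h h' => T'.add_mem
      (hF T' (fun a ha => h a (Finset.mem_union_left _ ha)) (fun a ha => h' a (Finset.mem_union_left _ ha)))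
      (hF' T' (fun a ha => h a (Finset.mem_union_right _ ha)) (fun a ha => h' a (Finset.mem_union_right _ ha)))⟩
  neg_mem' := by
    rintro a ⟨F, G, hF⟩
    exact ⟨F, G, fun T' h h' => T'.neg_mem (hF T' h h')⟩

theorem polyRatios2_mul (a b : Γ(X, CohB1.genLocus L s)) (ha : a ∈ polyRatios2 L s)
    (hb : b ∈ polyRatios2 L s) : a * b ∈ polyRatios2 L s := by
  classical
  obtain ⟨F, G, hF⟩ := ha
  obtain ⟨F', G', hF'⟩ := hb
  exact ⟨F ∪ F', G ∪ G', fun T' h h' => T'.mul_mem
    (hF T' (fun a ha => h a (Finset.mem_union_left _ ha)) (fun a ha => h' a (Finset.mem_union_left _ ha)))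
    (hF' T' (fun a ha => h a (Finset.mem_union_right _ ha)) (fun a ha => h' a (Finset.mem_union_right _ ha)))⟩

/-- every function on `X_s` is a polynomial in finitely many ratios `a / s`, `q / s²` -/
theorem mem_polyRatios2 [CompactSpace X] [QuasiSeparatedSpace X] (hL : PicF.IsInvertible L)
    (hng : ∀ n : ℕ, 2 ≤ n → AddSubgroup.closure {t | ∃ (m : (CohB1.tensorPow L n).val.obj (op ⊤))
      (s : L.val.obj (op ⊤)), t = SecTwist.tmul (CohB1.tensorPow L n) L ⊤ m s} = ⊤)
    (g : Γ(X, CohB1.genLocus L s)) : g ∈ polyRatios2 L s := by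
  have : (Coh.structureModule X).IsQuasicoherent :=
    Groth.Agent.Lib.Helper23.Serre.isQuasicoherent_structureModule' X
  obtain ⟨n₀, hn₀⟩ := Groth.Agent.Lib.Helper23.LocGen.main_eventually X L hL s (Coh.structureModule X)
    (toS _ g)
  obtain ⟨t', ht'⟩ := hn₀ (max n₀ 1) (le_max_left _ _)
  have hn : 1 ≤ max n₀ 1 := le_max_right _ _
  generalize max n₀ 1 = n at t' ht' hn
  have he := isGen_sv_genLocus L s
  let a : Γ(CohB1.tensorPow L n, ⊤) := (unitTensorIso (CohB1.tensorPow L n)).hom.app ⊤ t'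
  have ha : g = cf L he n a := by
    apply cf_unique
    have h1 := app_map (unitTensorIso (CohB1.tensorPow L n)).hom
      (homOfLE (le_top : CohB1.genLocus L s ≤ ⊤)) t'
    refine Eq.trans ?_ h1
    change _ = (unitTensorIso (CohB1.tensorPow L n)).hom.app (CohB1.genLocus L s)
      (res _ (le_top : CohB1.genLocus L s ≤ ⊤) t')
    rw [ht']
    exact (unitTensorIso_tm _ _ g _).symm
  rw [ha]
  classical
  refine cf_mem2 L he hng (polyRatios2 L s) (polyRatios2_mul L s) (fun a => ?_) (fun a => ?_) n hn a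
  · exact ⟨{a}, ∅, fun T' h _ => h a (Finset.mem_singleton_self a)⟩
  · exact ⟨∅, {a}, fun T' _ h => h a (Finset.mem_singleton_self a)⟩

end Coefs


section Main

open Groth.Agent.Lib.Helper23.SecTw Groth.Agent.Lib.Helper23.GenLocus Groth.Agent.Lib.Helper6
  Groth.Agent.Lib.Helper23.AmpleIso Groth.Agent.Lib.Helper23.Extend Groth.Agent.Lib.Helper23.TensorUnit
  Groth.Agent.Lib.R2H4NormalGen Groth.Agent.Lib.R2H3.VAmpleMor Groth.Agent.Lib.R2H3.GenLocAffine
  Groth.Agent.Lib.Helper8CLS2 Groth.Agent.Lib.Helper8NormGen Groth.Agent.Lib.Helper8RelNG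
  Groth.Agent.Lib.Helper8RelGZ1 Groth.Agent.Lib.Helper8RelGZ3

attribute [local instance] Groth.Agent.Lib.R2H3.RpushRestrict.hasInjectiveResolutions_modules

variable (k : Type u) [Field k] (X : Scheme.{u}) [X.Over (Spec (CommRingCat.of k))]
  [IsProper (X ↘ Spec (CommRingCat.of k))]

include k in
/-- the multiplication maps `Γ(L^n) ⊗ Γ(L) → Γ(L^{n+1})` are surjective for `n ≥ 2` -/
theorem normallyGenerated_from_two (hdim : topologicalKrullDim X ≤ 1) (L : X.Modules)
    (hL : PicF.IsInvertible L)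
    (hcov : ∀ x : X, ∃ t : Coh.structureModule X ⟶ L, x ∈ CohB1.genLocus L t)
    (h1 : Subsingleton (Coh.HH X L 1)) :
    ∀ n : ℕ, 2 ≤ n → AddSubgroup.closure {t | ∃ (m : (CohB1.tensorPow L n).val.obj (op ⊤))
      (s : L.val.obj (op ⊤)), t = SecTwist.tmul (CohB1.tensorPow L n) L ⊤ m s} = ⊤ := by
  haveI := isNoetherian_of_proper k (X ↘ Spec (CommRingCat.of k))
  have hfib : ∀ y : ↥(Spec (CommRingCat.of k)),
      topologicalKrullDim ↥((X ↘ Spec (CommRingCat.of k)).fiber y) ≤ 1 := fun y =>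
    (((X ↘ Spec (CommRingCat.of k)).fiberι y).isEmbedding.isInducing.topologicalKrullDim_le).trans hdim
  have hfd : ∀ x, FlatMor.fibreDimAt (X ↘ Spec (CommRingCat.of k)) x ≤ 1 :=
    Groth.Agent.Lib.R2H3.FibDimLimB.fibreDimAt_le_of_fiber _ 1 (by simpa using hfib)
  haveI : IsAffine (Spec (CommRingCat.of k)) := inferInstance
  have hrex : Rex X := rex_of_affine (X ↘ Spec (CommRingCat.of k)) hfd
  have h1' : Subsingleton (Coh.HH X (CohB1.tensorPow L 1) 1) :=
    (Groth.Agent.Lib.R2H3.TopBCD.subsingleton_HH_congr (unitTensorIso L) 1).2 h1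
  intro n hn
  obtain ⟨j, rfl⟩ : ∃ j, n = j + 1 := ⟨n - 1, by omega⟩
  have hj := subsingleton_HH_tensorPow_of_le X hrex L hL hcov 1 h1' j (by omega)
  exact closure_eq_top_of_spanT _ _ (span_tensorPow_succ X hrex L hL hcov j hj)


variable {X} in
theorem sv_eq_sum' {M : X.Modules} {ι : Type*} [Fintype ι] (b : Module.Basis ι k (Coh.structureModule X ⟶ M))
    (s : Coh.structureModule X ⟶ M) (V : X.Opens) :
    sv s V = ∑ j, strV k X V (b.repr s j) • sv (b j) V := by
  conv_lhs => rw [← b.sum_repr s]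
  rw [sv_sum_U]
  exact Finset.sum_congr rfl (fun j _ => sv_smul_U k _ _ V)

theorem coef_self {L : X.Modules} {W : X.Opens} {e : Γ(L, W)} (he : IsGen L W e) :
    coef he le_rfl e = 1 :=
  (coef_unique he le_rfl e 1 (by rw [one_smul, Groth.Agent.Lib.Helper23.SecTw.res_self])).symm

/-- **The square of a globally generated ample invertible module with `H¹ = 0` on a curve is very ample.** -/
theorem veryAmple_sq [Nonempty X] (hdim : topologicalKrullDim X ≤ 1) (L : X.Modules)
    (hLa : CohB1.IsAmple L)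
    (hcov : ∀ x : X, ∃ t : Coh.structureModule X ⟶ L, x ∈ CohB1.genLocus L t)
    (h1 : Subsingleton (Coh.HH X L 1)) :
    ∃ (n : ℕ) (i : X ⟶ CohB1.ProjSpace n k), IsClosedImmersion i ∧
      i ≫ CohB1.ProjSpace.toSpec n k = X ↘ Spec (CommRingCat.of k) ∧
      Nonempty ((Scheme.Modules.pullback i).obj (Twist.twistProjSpace n k 1) ≅ CohB1.tensorPow L 2) := by
  classical
  have hL := hLa.1
  haveI : CompactSpace X := hLa.2.1
  haveI : QuasiSeparatedSpace X := quasiSeparatedSpace_of_isAmple L hLa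
  have hng := normallyGenerated_from_two k X hdim L hL hcov h1
  have hM : PicF.IsInvertible (CohB1.tensorPow L 2) := isInvertible_tensorPow hL 2
  -- finite dimensionality of the sections of `L²`
  have hMc : Coh.IsCoh (CohB1.tensorPow L 2) :=
    Groth.Agent.Lib.R2H1.CurveDegSec.isCoh_of_isInvertible _ hM
  haveI : Module.Finite k (Coh.HH X (CohB1.tensorPow L 2) 0) :=
    Groth.Agent.Lib.R2H1.EulerAdd.finite_HH k X _ hMc 0
  haveI : Module.Finite k (Coh.structureModule X ⟶ CohB1.tensorPow L 2) :=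
    Module.Finite.equiv (Groth.Agent.Lib.R2H2.PnBeilinson.clsEquiv (CohB1.tensorPow L 2)).symm
  let N := Module.finrank k (Coh.structureModule X ⟶ CohB1.tensorPow L 2)
  let b : Module.Basis (Fin N) k (Coh.structureModule X ⟶ CohB1.tensorPow L 2) := Module.finBasis k _
  -- finitely many sections of `L` whose loci cover
  choose t ht using hcov
  obtain ⟨T, hT⟩ : ∃ T : Finset X, ∀ y : X, ∃ x ∈ T, y ∈ CohB1.genLocus L (t x) := by
    obtain ⟨T, hT⟩ := isCompact_univ.elim_finite_subcover (fun x : X => ((CohB1.genLocus L (t x) : X.Opens) : Set X))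
      (fun x => (CohB1.genLocus L (t x)).2) (fun x _ => Set.mem_iUnion.2 ⟨x, ht x⟩)
    refine ⟨T, fun y => ?_⟩
    have := hT (Set.mem_univ y)
    simp only [Set.mem_iUnion] at this
    obtain ⟨x, hx, hy⟩ := this
    exact ⟨x, hx, hy⟩
  haveI : Nonempty (Fin N ⊕ T) := by
    obtain ⟨y⟩ := (inferInstance : Nonempty X)
    obtain ⟨x, hx, -⟩ := hT y
    exact ⟨Sum.inr ⟨x, hx⟩⟩
  obtain ⟨n, ⟨e⟩⟩ : ∃ n : ℕ, Nonempty (Fin N ⊕ T ≃ Fin (n + 1)) := by
    have hpos : 0 < Fintype.card (Fin N ⊕ T) := Fintype.card_pos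
    refine ⟨Fintype.card (Fin N ⊕ T) - 1, ⟨(Fintype.equivFin _).trans (finCongr (by omega))⟩⟩
  let v : Fin N ⊕ T → ProjUP.Γm (CohB1.tensorPow L 2) := fun a =>
    match a with
    | Sum.inl j => sv (b j) ⊤
    | Sum.inr x => sv (SecTwist.powHom (t x.1) 2) ⊤
  let w : Fin (n + 1) → ProjUP.Γm (CohB1.tensorPow L 2) := fun j => v (e.symm j)
  have hw0 : ∀ j : Fin N, w (e (Sum.inl j)) = sv (b j) ⊤ := by
    intro j
    change v (e.symm (e _)) = _
    rw [Equiv.symm_apply_apply]
  have hw1 : ∀ x : T, w (e (Sum.inr x)) = sv (SecTwist.powHom (t x.1) 2) ⊤ := by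
    intro x
    change v (e.symm (e _)) = _
    rw [Equiv.symm_apply_apply]
  let c : T → Fin (n + 1) := fun x => e (Sum.inr x)
  let U : T → X.Opens := fun x => CohB1.genLocus L (t x.1)
  have hU : ∀ x : T, CohB1.genLocus (CohB1.tensorPow L 2) (secHom (CohB1.tensorPow L 2) (w (c x))) = U x := by
    intro x
    rw [hw1, secHom_sv]
    exact genLocus_powHom hL (t x.1) 2 (by norm_num)
  have hcovU : ∀ y : X, ∃ x : T, y ∈ U x := by
    intro y
    obtain ⟨x, hx, hy⟩ := hT y
    exact ⟨⟨x, hx⟩, hy⟩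
  have haff : ∀ x : T, IsAffineOpen (U x) := fun x =>
    isAffine_genLocus_of_universallyClosed (X ↘ Spec (CommRingCat.of k)) L hLa (t x.1)
  have hb : ∀ (x : T) (T' : Subring Γ(X, U x)),
      (∀ a, ((X ↘ Spec (CommRingCat.of k)).appLE ⊤ (U x) le_top).hom a ∈ T') →
      (∀ j (d : Γ(X, U x)), res (CohB1.tensorPow L 2) (le_top : U x ≤ ⊤) (w j) =
          d • res (CohB1.tensorPow L 2) (le_top : U x ≤ ⊤) (w (c x)) → d ∈ T') → T' = ⊤ := by
    intro x T' hT1 hT2
    rw [eq_top_iff]
    intro g _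
    have he := isGen_sv_genLocus L (t x.1)
    obtain ⟨F, G, hFG⟩ := mem_polyRatios2 L (t x.1) hL hng g
    -- the chart section restricts to `e²`
    have hwc : res (CohB1.tensorPow L 2) (le_top : U x ≤ ⊤) (w (c x)) =
        pw L (U x) (sv (t x.1) (U x)) 2 := by
      change res _ _ (w (e (Sum.inr x))) = _
      rw [hw1, res_sv, sv_powHom]
    -- coefficients of the basis sections
    have hγ : ∀ j : Fin N, cf L he 2 (sv (b j) ⊤) ∈ T' := by
      intro j
      apply hT2 (e (Sum.inl j))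
      rw [hwc, hw0]
      exact (cf_spec L he 2 (sv (b j) ⊤)).symm
    -- coefficients of all sections of `L²`
    have h2 : ∀ a : Γ(CohB1.tensorPow L 2, ⊤), cf L he 2 a ∈ T' := by
      intro a
      have hres : res (CohB1.tensorPow L 2) (le_top : U x ≤ ⊤) a =
          ∑ l, strV k X (U x) (b.repr (secHom _ a) l) • sv (b l) (U x) := by
        rw [← sv_secHom]
        exact sv_eq_sum' k b (secHom _ a) (U x)
      have hcf : cf L he 2 a = ∑ l, strV k X (U x) (b.repr (secHom _ a) l) * cf L he 2 (sv (b l) ⊤) := by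
        symm
        apply cf_unique
        rw [hres, Finset.sum_smul]
        refine Finset.sum_congr rfl (fun l _ => ?_)
        rw [mul_smul]
        congr 1
        have h := cf_spec L he 2 (sv (b l) ⊤)
        rw [res_sv] at h
        exact h
      rw [hcf]
      refine Subring.sum_mem _ (fun l _ => Subring.mul_mem _ ?_ (hγ l))
      rw [strV_eq]
      exact hT1 _
    -- coefficients of the sections of `L¹`
    have h1' : ∀ a : Γ(CohB1.tensorPow L 1, ⊤), cf L he 1 a ∈ T' := by
      intro a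
      have h := cf_tmul L he 1 a (sv (t x.1) ⊤)
      rw [res_sv, coef_self, mul_one] at h
      rw [← h]
      exact h2 _
    exact hFG T' (fun a _ => h1' a) (fun a _ => h2 a)
  obtain ⟨i, hi1, hi2, hi3⟩ := exists_closedImmersion_of_charts
    (X ↘ Spec (CommRingCat.of k)) (CohB1.tensorPow L 2) hM n w c U hU hcovU haff hb
  exact ⟨n, i, hi1, hi2, hi3⟩

end Main

end Groth.Agent.Lib.Helper8CLS3
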