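import Mathlib
import Groth.Agent.Lib.Helper8CLS3
import Groth.Agent.Lib.R2H1CurveAmple
import Groth.Agent.Lib.R2H3ZeroConn
import Groth.Agent.Lib.R2H3GradedFam
import Groth.Agent.Lib.R2H3TowerGG
import Groth.Agent.Lib.R2LeadTensorExact
import Groth.Agent.Lib.Helper23Support
import Groth.Agent.Lib.Helper4ModEpi
import Groth.Agent.Lib.R2H1GenusLe
import Groth.Agent.Lib.R2H1ZeroDimCoh
import Groth.Agent.Lib.R2H1BirDeg
import Groth.Agent.Lib.Helper23Restr2
import Groth.Agent.Lib.R2H3AmpleSV
import Groth.Agent.Lib.R2H4TensorPows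
import Groth.Agent.Lib.Helper23GG
import Groth.Agent.Lib.Helper23LocGen
set_option backward.isDefEq.respectTransparency.types false

/-!
# Curves: an ample invertible module with a regular section and `H¹ = 0` has very ample sixth power

(helper8) For `X` proper of dimension one over a field, `L` invertible with a regular section `s`,
`H¹(L) = 0`: the powers `L^m` (`m ≥ 1`) have `H¹ = 0`, and `L^m` (`m ≥ 2`) is generated by global
sections. Hence, if `L` is ample, `(L³)²` is very ample by `Helper8CLS3.veryAmple_sq`.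
-/

set_option autoImplicit false
set_option linter.style.haveILetI false
set_option linter.unusedSectionVars false
universe u v

open CategoryTheory CategoryTheory.Limits AlgebraicGeometry TopologicalSpace Opposite

namespace Groth.Agent.Lib.Helper8CLS4

section Part1

open Groth.Agent.Lib.Helper23.SecTw Groth.Agent.Lib.Helper23.GenLocus Groth.Agent.Lib.Helper6
open Groth.Agent.Lib.R2H1.CurveAmple

variable {X : Scheme.{u}}

/-- the generating locus of a regular section of an invertible module is dense -/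
theorem dense_genLocus_of_mono (L : X.Modules) (hL : PicF.IsInvertible L)
    (s : Coh.structureModule X ⟶ L) [Mono s] :
    Dense ((CohB1.genLocus L s : X.Opens) : Set X) := by
  rw [dense_iff_inter_open]
  rintro U hU ⟨x, hxU⟩
  obtain ⟨W, e, hxW, he⟩ := exists_gen L hL x
  obtain ⟨W', hW', hxW', hW'le⟩ : ∃ W' : X.Opens, W' ∈ X.affineOpens ∧ x ∈ W' ∧
      W' ≤ W ⊓ ⟨U, hU⟩ :=
    (Opens.isBasis_iff_nbhd.1 X.isBasis_affineOpens) (show x ∈ (W ⊓ ⟨U, hU⟩ : X.Opens) from
      ⟨hxW, hxU⟩)
  have hW'aff : IsAffineOpen W' := hW'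
  have he' : IsGen L W' (res L (hW'le.trans inf_le_left) e) := he.mono (hW'le.trans inf_le_left)
  have hgl := genLocus_inf_eq_coef s he'
  by_contra hempty
  have hbot : X.basicOpen (coef he' le_rfl (sv s W')) = ⊥ := by
    rw [← hgl, eq_bot_iff]
    intro y hy
    exfalso
    exact hempty ⟨y, (hW'le hy.2).2, hy.1⟩
  obtain ⟨n, hn⟩ :=
    (Scheme.isNilpotent_iff_basicOpen_eq_bot_of_isCompact hW'aff.isCompact _).2 hbot
  have hsv : sv s W' = coef he' le_rfl (sv s W') • res L (hW'le.trans inf_le_left) e := by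
    have h3 := coef_spec he' le_rfl (sv s W')
    rw [res_self] at h3
    exact h3.symm
  have hnz := Groth.Agent.Lib.R2H3.ZeroConn.nz_of_mono s
  have h3 : ∀ (j : ℕ) (g : Γ(X, W')), g * coef he' le_rfl (sv s W') ^ j = 0 → g = 0 := by
    intro j
    induction j with
    | zero => intro g hg; simpa using hg
    | succ j ih =>
      intro g hg
      apply ih
      apply Groth.Agent.Lib.R2H3.ZeroConn.nzd_frame s hnz _ _ _ hsv
      rw [mul_assoc, ← pow_succ]
      exact hg
  have h10 : (1 : Γ(X, W')) = 0 := h3 n 1 (by rw [one_mul, hn])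
  have hW'bot : W' = ⊥ := by
    rw [← X.basicOpen_of_isUnit (isUnit_one : IsUnit (1 : Γ(X, W'))), h10, Scheme.basicOpen_zero]
  rw [hW'bot] at hxW'
  exact hxW'

/-- multiplication by a regular section on an invertible module is a monomorphism -/
theorem mono_mulSec (F : X.Modules) (hF : PicF.IsInvertible F) {M : X.Modules}
    (s : Coh.structureModule X ⟶ M) [Mono s] : Mono (mulSec F s) := by
  let S₀ : ShortComplex X.Modules := ShortComplex.mk s (cokernel.π s) (cokernel.condition s)
  have hS₀ : S₀.ShortExact :=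
    { exact := ShortComplex.exact_cokernel s
      mono_f := inferInstanceAs (Mono s)
      epi_g := inferInstanceAs (Epi (cokernel.π s)) }
  have h := Groth.Agent.Lib.R2Lead.TensorExact.shortExact_map_tensorBi_of_isInvertible F hF S₀ hS₀
  have hm : Mono ((DCoh.tensorBi.obj F).map s) := h.mono_f
  exact @mono_comp _ _ _ _ _ (SecTwist.unitorR F).inv inferInstance _ hm

/-- the cokernel of multiplication by `s` has vanishing stalks where `s` generates -/
theorem subsingleton_stalk_cokernel_mulSec (F M : X.Modules) (hF : PicF.IsInvertible F)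
    (s : Coh.structureModule X ⟶ M) (y : X) (hy : y ∈ CohB1.genLocus M s) :
    Subsingleton ((cokernel (mulSec F s)).presheaf.stalk y) := by
  apply Groth.Agent.Lib.Helper23.Support.subsingleton_stalk_of_forall_res_eq_zero
  intro W hyW c
  obtain ⟨V, hVW, hyV, g, hg⟩ := Groth.Agent.Lib.Helper4.ModEpi.exists_app_eq_of_epi
    (cokernel.π (mulSec F s)) W c y hyW
  obtain ⟨W₁, a, hyW₁, ha⟩ := exists_gen F hF y
  have hle : V ⊓ W₁ ⊓ CohB1.genLocus M s ≤ V := inf_le_left.trans inf_le_left
  have hle₁ : V ⊓ W₁ ⊓ CohB1.genLocus M s ≤ W₁ := inf_le_left.trans inf_le_right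
  have hle₂ : V ⊓ W₁ ⊓ CohB1.genLocus M s ≤ CohB1.genLocus M s := inf_le_right
  refine ⟨V ⊓ W₁ ⊓ CohB1.genLocus M s, hle.trans hVW, ⟨⟨hyV, hyW₁⟩, hy⟩, ?_⟩
  have ha' := ha.mono hle₁
  have hs' := (isGen_sv_genLocus M s).mono hle₂
  have hgen := isGen_tm F M _ _ _ ha' hs'
  obtain ⟨r, hr⟩ := (hgen _ le_rfl).2 (res (CohB1.tensorMod F M) hle g)
  replace hr : r • res (CohB1.tensorMod F M) le_rfl (tm F M _ (res F hle₁ a)
      (res M hle₂ (sv s (CohB1.genLocus M s)))) = res (CohB1.tensorMod F M) hle g := hr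
  rw [res_self, res_sv, ← tm_smul_left, ← mulSec_app] at hr
  have h1 : (cokernel (mulSec F s)).presheaf.map (homOfLE (hle.trans hVW)).op c =
      res (cokernel (mulSec F s)) hle (res (cokernel (mulSec F s)) hVW c) := by
    rw [res_res]
  rw [h1]
  have h2 : res (cokernel (mulSec F s)) hVW c = (cokernel.π (mulSec F s)).app V g := hg.symm
  rw [h2, ← app_res', ← hr]
  have h4 : (mulSec F s ≫ cokernel.π (mulSec F s)).app _ (r • res F hle₁ a) = 0 := by
    rw [cokernel.condition]
    rfl
  exact h4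

end Part1

section Part2

open Groth.Agent.Lib.Helper23.SecTw Groth.Agent.Lib.Helper23.GenLocus Groth.Agent.Lib.Helper6
  Groth.Agent.Lib.Helper23.LocGen
open Groth.Agent.Lib.R2H1.CurveAmple Groth.Agent.Lib.R2H1.GenusLe Groth.Agent.Lib.R2H1.BirDeg
  Groth.Agent.Lib.R2H1.ZeroDimCoh Groth.Agent.Lib.R2H1.CurveDegSec

variable (k : Type u) [Field k] (X : Scheme.{u}) [X.Over (Spec (CommRingCat.of k))]
    [IsProper (X ↘ (Spec (CommRingCat.of k)))]

include k in
/-- the inductive step: if `H¹(F) = 0` then `H¹(F ⊗ L) = 0` and `F ⊗ L` is generated by global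
sections near the points where the regular section `s` of `L` does not generate -/
theorem step (hdim : topologicalKrullDim X ≤ 1) (F L : X.Modules) (hF : PicF.IsInvertible F)
    (hL : PicF.IsInvertible L) (s : Coh.structureModule X ⟶ L) [Mono s]
    (h1 : Subsingleton (Coh.HH X F 1)) :
    Subsingleton (Coh.HH X (CohB1.tensorMod F L) 1) ∧
      ∀ x : X, x ∉ CohB1.genLocus L s →
        ∃ V : X.Opens, x ∈ V ∧ LocGen (CohB1.tensorMod F L) V := by
  haveI := Groth.Agent.Lib.R2H1.CurveEuler.isNoetherian_of_proper k X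
  have hP : PicF.IsInvertible (CohB1.tensorMod F L) := isInvertible_tensorMod hF hL
  haveI hmono : Mono (mulSec F s) := mono_mulSec F hF s
  have hdense := dense_genLocus_of_mono L hL s
  have hZdim := dim_compl_le_zero_of_dense X hdim (CohB1.genLocus L s) hdense
  have hZcl : IsClosed (((CohB1.genLocus L s : X.Opens) : Set X)ᶜ) :=
    (CohB1.genLocus L s).isOpen.isClosed_compl
  have hZ : ∀ T : Set X, T ⊆ ((CohB1.genLocus L s : X.Opens) : Set X)ᶜ → IsClosed T :=
    fun T hT => isClosed_of_subset_of_dim_le_zero _ hZcl hZdim T hT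
  have hC : ∀ y, y ∉ ((CohB1.genLocus L s : X.Opens) : Set X)ᶜ →
      Subsingleton ((cokernel (mulSec F s)).presheaf.stalk y) :=
    fun y hy => subsingleton_stalk_cokernel_mulSec F L hF s y (not_not.mp hy)
  have cF := isCoh_of_isInvertible _ hF
  have cP := isCoh_of_isInvertible _ hP
  have cC : Coh.IsCoh (cokernel (mulSec F s)) :=
    Groth.Agent.Lib.R2H2.NilFilt.isCoh_cokernel cF cP _
  have hsupp := dim_support_le_zero_of_stalks hdim (CohB1.genLocus L s) hdense
    (cokernel (mulSec F s)) (fun y hy => subsingleton_stalk_cokernel_mulSec F L hF s y hy)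
  have h3 : Subsingleton (Coh.HH X (cokernel (mulSec F s)) 1) :=
    s1526 k X _ cC hsupp 1 le_rfl
  let S : ShortComplex X.Modules := ShortComplex.mk (mulSec F s)
    (cokernel.π (mulSec F s)) (cokernel.condition _)
  have hS : S.ShortExact :=
    { exact := ShortComplex.exact_cokernel _
      mono_f := hmono
      epi_g := inferInstanceAs (Epi (cokernel.π (mulSec F s))) }
  have hlift : ∀ c : Coh.structureModule X ⟶ cokernel (mulSec F s),
      ∃ t : Coh.structureModule X ⟶ CohB1.tensorMod F L, t ≫ cokernel.π (mulSec F s) = c :=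
    fun c => Groth.Agent.Lib.R2H3.TowerGG.exists_lift_of_subsingleton S hS h1 c
  refine ⟨Groth.Agent.Lib.R2H3.GradedFam.subsingleton_X₂ S hS 1 h1 h3, fun x hx => ?_⟩
  exact exists_locGen_nhd F L hF hL s hmono _ hZ hC hlift x hx

end Part2

section Part3

open Groth.Agent.Lib.Helper23.SecTw Groth.Agent.Lib.Helper23.GenLocus Groth.Agent.Lib.Helper6
  Groth.Agent.Lib.Helper23.LocGen

variable (k : Type u) [Field k] (X : Scheme.{u}) [X.Over (Spec (CommRingCat.of k))]
    [IsProper (X ↘ (Spec (CommRingCat.of k)))]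

/-- an ample invertible module with a regular section and `H¹ = 0` on a proper scheme of
dimension `≤ 1` over a field has very ample sixth power -/
theorem main [Nonempty X] (hdim : topologicalKrullDim X ≤ 1) (L : X.Modules)
    (hL : PicF.IsInvertible L) (s : Coh.structureModule X ⟶ L) [Mono s]
    (h1 : Subsingleton (Coh.HH X L 1)) (hample : CohB1.IsAmple L) :
    ∃ (n : ℕ) (i : X ⟶ CohB1.ProjSpace n k), IsClosedImmersion i ∧
      i ≫ CohB1.ProjSpace.toSpec n k = X ↘ Spec (CommRingCat.of k) ∧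
      Nonempty ((Scheme.Modules.pullback i).obj (Twist.twistProjSpace n k 1) ≅
        CohB1.tensorPow L 6) := by
  have hP1 : PicF.IsInvertible (CohB1.tensorPow L 1) := isInvertible_tensorPow hL 1
  have hP2 : PicF.IsInvertible (CohB1.tensorPow L 2) := isInvertible_tensorPow hL 2
  have hP3 : PicF.IsInvertible (CohB1.tensorPow L 3) := isInvertible_tensorPow hL 3
  have h11 : Subsingleton (Coh.HH X (CohB1.tensorPow L 1) 1) :=
    (Groth.Agent.Lib.R2H3.TopBCD.subsingleton_HH_congr
      (Groth.Agent.Lib.Helper23.TensorUnit.unitTensorIso L) 1).2 h1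
  obtain ⟨h12, -⟩ := step k X hdim (CohB1.tensorPow L 1) L hP1 hL s h11
  obtain ⟨h13, hloc⟩ := step k X hdim (CohB1.tensorPow L 2) L hP2 hL s h12
  have hgen : ∀ x : X, ∃ V : X.Opens, x ∈ V ∧ LocGen (CohB1.tensorPow L 3) V := by
    intro x
    by_cases hx : x ∈ CohB1.genLocus L s
    · refine ⟨CohB1.genLocus (CohB1.tensorPow L 3) (SecTwist.powHom s 3), ?_,
        locGen_genLocus _ _⟩
      rw [genLocus_powHom hL s 3 (by norm_num)]
      exact hx
    · exact hloc x hx
  have hgg : Curv2.IsGloballyGenerated (CohB1.tensorPow L 3) :=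
    isGloballyGenerated_of_locGen _ hgen
  have hcov := fun x => Groth.Agent.Lib.Helper23.GG.exists_section_mem_genLocus
    (CohB1.tensorPow L 3) hP3 hgg x
  have hPa : CohB1.IsAmple (CohB1.tensorPow L 3) :=
    (Groth.Agent.Lib.Helper23.SecTw.isAmple_tensorPow_iff L hL 3 (by norm_num)).1 hample
  obtain ⟨n, i, hi1, hi2, ⟨e⟩⟩ :=
    Groth.Agent.Lib.Helper8CLS3.veryAmple_sq k X hdim (CohB1.tensorPow L 3) hPa hcov h13
  refine ⟨n, i, hi1, hi2, ⟨e ≪≫ ?_⟩⟩
  exact Groth.Agent.Lib.R2H4TensorPows.tIso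
      (Groth.Agent.Lib.Helper23.TensorUnit.unitTensorIso (CohB1.tensorPow L 3)) (Iso.refl _) ≪≫
    Groth.Agent.Lib.R2H3.AmpleSV.tensorPowAdd L 3 3

end Part3

end Groth.Agent.Lib.Helper8CLS4
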