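import Mathlib
import Groth.Agent.Lib.Helper28Unmixed
import Groth.Agent.Lib.Helper5Depth

/-!
# No embedded primes in a CM local ring modulo a regular sequence (helper8)
-/

set_option autoImplicit false
universe u

namespace Groth.Agent.Lib.Helper8CMAss

open RingTheory.Sequence

theorem ringKrullDim_eq_zero_of_isAssociatedPrime
    {R T : Type u} [CommRing R] [hR : LocCoh.IsCohenMacaulayLocalRing R] [CommRing T]
    [IsLocalRing T]
    (φ : R →+* T) [IsLocalHom φ] (hφ : Function.Surjective φ) (ys : List R)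
    (hys : IsRegular R ys) (hker : RingHom.ker φ = Ideal.ofList ys)
    (hz : IsAssociatedPrime (IsLocalRing.maximalIdeal T) T) : ringKrullDim T = 0 := by
  haveI : IsNoetherianRing R := inferInstance
  haveI : IsLocalRing R := inferInstance
  haveI : IsNoetherianRing T := isNoetherianRing_of_surjective R T φ hφ
  have hCM : LocCoh.IsCohenMacaulayModule R R := hR.supportDim_eq_depth
  have hmem : ∀ y ∈ ys, y ∈ IsLocalRing.maximalIdeal R := by
    intro y hy
    have h1 : y ∈ RingHom.ker φ := by rw [hker]; exact Ideal.subset_span hy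
    rw [RingHom.mem_ker] at h1
    by_contra hnot
    have hu : IsUnit y := by
      rwa [IsLocalRing.mem_maximalIdeal, mem_nonunits_iff, not_not] at hnot
    have := hu.map φ
    rw [h1] at this
    exact not_isUnit_zero this
  have hq := Groth.Agent.Lib.Helper28.isCohenMacaulayModule_quot_ofList hCM ys hmem
    hys.toIsWeaklyRegular
  obtain ⟨hprime, t, ht⟩ := isAssociatedPrime_iff.mp hz
  obtain ⟨r, rfl⟩ := hφ t
  have hass : IsLocalRing.maximalIdeal R ∈
      associatedPrimes R (R ⧸ (Ideal.ofList ys • ⊤ : Submodule R R)) := by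
    refine isAssociatedPrime_iff.mpr ⟨inferInstance, Submodule.Quotient.mk r, ?_⟩
    ext a
    rw [Submodule.mem_colon_singleton, Submodule.mem_bot, ← Submodule.Quotient.mk_smul,
      Submodule.Quotient.mk_eq_zero, smul_eq_mul, smul_eq_mul, Ideal.mul_top, ← hker,
      RingHom.mem_ker, map_mul]
    have h2 : φ a * φ r = 0 ↔ φ a ∈ IsLocalRing.maximalIdeal T := by
      rw [ht, Submodule.mem_colon_singleton, Submodule.mem_bot, smul_eq_mul]
    rw [h2, IsLocalRing.mem_maximalIdeal, IsLocalRing.mem_maximalIdeal, map_mem_nonunits_iff]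
  have hd0 : LocCoh.depth R (R ⧸ (Ideal.ofList ys • ⊤ : Submodule R R)) = 0 :=
    Groth.Agent.Lib.Helper5.depth_eq_zero_iff_maximalIdeal_mem_associatedPrimes.mpr hass
  unfold LocCoh.IsCohenMacaulayModule at hq
  rw [hd0] at hq
  have e : (R ⧸ (Ideal.ofList ys • ⊤ : Submodule R R)) ≃ₗ[R] (R ⧸ Ideal.ofList ys) :=
    Submodule.quotEquivOfEq _ _ (by rw [smul_eq_mul, Ideal.mul_top])
  rw [Module.supportDim_eq_of_equiv e, Module.supportDim_quotient_eq_ringKrullDim] at hq
  have e2 : (R ⧸ RingHom.ker φ) ≃+* T := RingHom.quotientKerEquivOfSurjective hφ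
  rw [← ringKrullDim_eq_of_ringEquiv e2, hker, hq]
  rfl

end Groth.Agent.Lib.Helper8CMAss
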