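import Mathlib
import Groth.Prelude
import Groth.Agent.S9705
import Groth.Agent.Lib.H9Models
import Groth.Agent.Lib.H9SteinSm
import Groth.Agent.Lib.H9FibOne

/-!
# Locally projective morphisms are proper; global functions on the fibres of smooth proper
geometrically connected morphisms (helper8)
-/

set_option autoImplicit false
set_option linter.style.haveILetI false
set_option linter.unusedSectionVars false
universe u

open CategoryTheory CategoryTheory.Limits AlgebraicGeometry TopologicalSpace Opposite

namespace Groth.Agent.Lib.Helper8CanonFib1

/-- a locally projective morphism is proper -/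
theorem isProper_of_isLocallyProjective {X S : Scheme.{u}} (f : X ⟶ S)
    (hproj : RedSub.IsLocallyProjective (Over.mk f)) : IsProper f := by
  choose V hsV n e he1 he2 using hproj
  refine IsZariskiLocalAtTarget.of_iSup_eq_top (P := @IsProper) V ?_ (fun s => ?_)
  · rw [eq_top_iff]
    intro s _
    exact Opens.mem_iSup.mpr ⟨s, hsV s⟩
  · haveI := he1 s
    haveI : IsProper (CohB1.ProjSpaceOver.toBase (n s) ((V s : S.Opens) : Scheme.{u})) :=
      Groth.Agent.S9705.isProper_toBase (n s) _
    have h1 : IsProper (pullback.snd f (V s).ι) := by
      have h2 : e s ≫ CohB1.ProjSpaceOver.toBase (n s) ((V s : S.Opens) : Scheme.{u}) =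
          pullback.snd f (V s).ι := he2 s
      rw [← h2]
      infer_instance
    have h3 : f ∣_ (V s) = (pullbackRestrictIsoRestrict f (V s)).inv ≫ pullback.snd f (V s).ι := rfl
    rw [h3]
    infer_instance

/-- global functions on the fibres of a proper, geometrically reduced and geometrically connected
morphism are the residue fields -/
theorem isIso_fiber_appTop {X S : Scheme.{u}} (f : X ⟶ S) [IsProper f] [GeometricallyReduced f]
    [GeometricallyConnected f] (s : S) : IsIso (f.fiberToSpecResidueField s).appTop := by
  haveI : IsProper (f.fiberToSpecResidueField s) := by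
    unfold Scheme.Hom.fiberToSpecResidueField
    exact MorphismProperty.pullback_snd (P := @IsProper) _ _ inferInstance
  exact Groth.Agent.Lib.H9Models.isIso_appTop_of_geometricallyConnected (S.residueField s)
    (f.fiberToSpecResidueField s)

theorem finrank_fiber_eq_one {X S : Scheme.{u}} (f : X ⟶ S) [IsProper f] [GeometricallyReduced f]
    [GeometricallyConnected f] (s : S) :
    Module.finrank (S.residueField s) Γ(f.fiber s, ⊤) = 1 :=
  (Groth.Agent.Lib.H9FibOne.isIso_appTop_iff_finrank f s).1 (isIso_fiber_appTop f s)

end Groth.Agent.Lib.Helper8CanonFib1
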