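import Mathlib
import Groth.Prelude
import Groth.Agent.Lib.Helper20OmegaQCoh
import Groth.Agent.Lib.Helper20LocFree

/-!
# The sheaf of relative differentials of a smooth morphism of relative dimension `n` is finite
locally free of rank `n` (helper8)
-/

set_option autoImplicit false
set_option linter.style.haveILetI false
set_option linter.unusedSectionVars false
universe u

open CategoryTheory CategoryTheory.Limits AlgebraicGeometry TopologicalSpace Opposite

namespace Groth.Agent.Lib.Helper8CanonFib2

open Groth.Agent.Lib.Helper20.LocFree Groth.Agent.Lib.Helper20.OmegaQCoh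

/-- a free module of rank `n` has a basis indexed by `Fin n` -/
theorem nonempty_basis_of_rank_eq {R M : Type u} [CommRing R] [Nontrivial R] [AddCommGroup M]
    [Module R M] [Module.Free R M] (n : ℕ) (h : Module.rank R M = n) :
    Nonempty (Module.Basis (Fin n) R M) := by
  haveI : Module.Finite R M := Module.finite_of_rank_eq_nat h
  exact ⟨Module.finBasisOfFinrankEq R M (Module.finrank_eq_of_rank_eq h)⟩

theorem isFinLocFreeOfRank_omega {X S : Scheme.{u}} (f : X ⟶ S) (n : ℕ)
    [SmoothOfRelativeDimension n f] [QuasiSeparated f] :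
    FlatMod.IsFinLocFreeOfRank n (Omega.sheaf f) := by
  intro x
  obtain ⟨V, hV, U, hU, hxU, e, hsm⟩ :=
    SmoothOfRelativeDimension.exists_isStandardSmoothOfRelativeDimension (n := n) (f := f) x
  letI := (f.appLE V U e).hom.toAlgebra
  haveI : Algebra.IsStandardSmoothOfRelativeDimension n Γ(S, V) Γ(X, U) := hsm
  haveI : Algebra.IsStandardSmooth Γ(S, V) Γ(X, U) :=
    Algebra.IsStandardSmoothOfRelativeDimension.isStandardSmooth n
  haveI : Nonempty U := ⟨⟨x, hxU⟩⟩
  haveI : Nontrivial Γ(X, U) := inferInstance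
  have hrank := Algebra.IsStandardSmoothOfRelativeDimension.rank_kaehlerDifferential
    (R := Γ(S, V)) (S := Γ(X, U)) n
  obtain ⟨b⟩ := nonempty_basis_of_rank_eq n hrank
  haveI := isQuasicoherent_omega f
  refine ⟨U, hxU, ⟨?_⟩⟩
  exact restrictιIso (Omega.sheaf f) hU ≪≫
    (Scheme.Modules.restrictFunctor hU.isoSpec.hom).mapIso
      (omegaRestrictIso' f hU hV e ≪≫
        tildeFreeMod (ModuleCat.of Γ(X, U) (Ω[Γ(X, U)⁄Γ(S, V)])) b) ≪≫
    restrictFreeMod hU.isoSpec.hom n

end Groth.Agent.Lib.Helper8CanonFib2
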