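import Mathlib
import Groth.Agent.Lib.Helper23Extend2

set_option autoImplicit false
set_option linter.style.haveILetI false
universe u
open CategoryTheory CategoryTheory.Limits AlgebraicGeometry TopologicalSpace Opposite

noncomputable section

namespace Groth.Agent.Lib.R2H2.SubFam

open Groth.Agent.Lib.Helper2.Push Groth.Agent.Lib.Helper23.QCohLocal
  Groth.Agent.Lib.Helper23.Extend

variable {X : Scheme.{u}} (H : X.Modules)

/-- restriction of sections of `H` -/
noncomputable abbrev rs {T' T : X.Opens} (h : T' ≤ T) (t : Γ(H, T)) : Γ(H, T') :=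
  H.presheaf.map (homOfLE h).op t

/-- restriction of functions -/
noncomputable abbrev rO {T' T : X.Opens} (h : T' ≤ T) : Γ(X, T) →+* Γ(X, T') :=
  (X.presheaf.map (homOfLE h).op).hom

variable {H}

theorem rs_rs {T'' T' T : X.Opens} (h₁ : T'' ≤ T') (h₂ : T' ≤ T) (t : Γ(H, T)) :
    rs H h₁ (rs H h₂ t) = rs H (h₁.trans h₂) t := by
  change (H.presheaf.map (homOfLE h₂).op ≫ H.presheaf.map (homOfLE h₁).op) t = _
  rw [← Functor.map_comp]; rfl

theorem rs_self {T : X.Opens} (h : T ≤ T) (t : Γ(H, T)) : rs H h t = t := by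
  have : (homOfLE h).op = 𝟙 (op T) := rfl
  change H.presheaf.map (homOfLE h).op t = t
  rw [this, H.presheaf.map_id]; rfl

theorem rs_add {T' T : X.Opens} (h : T' ≤ T) (t t' : Γ(H, T)) :
    rs H h (t + t') = rs H h t + rs H h t' := map_add _ _ _

theorem rs_zero {T' T : X.Opens} (h : T' ≤ T) : rs H h (0 : Γ(H, T)) = 0 := map_zero _

theorem rs_smul {T' T : X.Opens} (h : T' ≤ T) (r : Γ(X, T)) (t : Γ(H, T)) :
    rs H h (r • t) = rO h r • rs H h t := Scheme.Modules.map_smul H (homOfLE h) r t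

theorem rO_rO {T'' T' T : X.Opens} (h₁ : T'' ≤ T') (h₂ : T' ≤ T) (r : Γ(X, T)) :
    rO h₁ (rO h₂ r) = rO (h₁.trans h₂) r := by
  change (X.presheaf.map (homOfLE h₂).op ≫ X.presheaf.map (homOfLE h₁).op).hom r = _
  rw [← Functor.map_comp]; rfl

/-- sections of `H` are determined locally -/
theorem eq_of_locally_eq {T : X.Opens} (t t' : Γ(H, T))
    (h : ∀ x ∈ T, ∃ (T' : X.Opens) (hT' : T' ≤ T), x ∈ T' ∧ rs H hT' t = rs H hT' t') : t = t' := by
  choose! W hW hxW hWeq using h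
  refine TopCat.Sheaf.eq_of_locally_eq' ⟨H.presheaf, H.isSheaf⟩ (fun x : T => W x.1) T
    (fun x => homOfLE (hW x.1 x.2)) ?_ t t' ?_
  · intro x hx
    exact Opens.mem_iSup.mpr ⟨⟨x, hx⟩, hxW x hx⟩
  · intro x
    exact hWeq x.1 x.2

variable (H) in
/-- a family of submodules of the sections of `H`, stable under restriction and local: a
sub-`O_X`-module of `H`, given sectionwise. -/
structure Fam where
  obj : ∀ T : X.Opens, Submodule Γ(X, T) Γ(H, T)
  res_mem : ∀ {T' T : X.Opens} (h : T' ≤ T) {t : Γ(H, T)}, t ∈ obj T → rs H h t ∈ obj T'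
  loc : ∀ {T : X.Opens} (t : Γ(H, T)),
    (∀ x ∈ T, ∃ (T' : X.Opens) (h : T' ≤ T), x ∈ T' ∧ rs H h t ∈ obj T') → t ∈ obj T

namespace Fam

instance : Top (Fam H) := ⟨⟨fun _ => ⊤, fun _ _ _ => trivial, fun _ _ => trivial⟩⟩

@[simp] theorem top_obj (T : X.Opens) : (⊤ : Fam H).obj T = ⊤ := rfl

/-- the intersection of a family of sub-modules. -/
def iInf {ι : Type*} (N : ι → Fam H) : Fam H where
  obj T := ⨅ i, (N i).obj T
  res_mem h t ht := by
    rw [Submodule.mem_iInf] at ht ⊢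
    exact fun i => (N i).res_mem h (ht i)
  loc t ht := by
    rw [Submodule.mem_iInf]
    intro i
    refine (N i).loc t (fun x hx => ?_)
    obtain ⟨T', h, hx', hmem⟩ := ht x hx
    exact ⟨T', h, hx', (Submodule.mem_iInf _).mp hmem i⟩

theorem mem_iInf {ι : Type*} (N : ι → Fam H) {T : X.Opens} (t : Γ(H, T)) :
    t ∈ (iInf N).obj T ↔ ∀ i, t ∈ (N i).obj T := Submodule.mem_iInf _

/-- two families agree on the open `W`. -/
def EqOn (N N' : Fam H) (W : X.Opens) : Prop := ∀ T : X.Opens, T ≤ W → N.obj T = N'.obj T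

theorem EqOn.symm {N N' : Fam H} {W : X.Opens} (h : EqOn N N' W) : EqOn N' N W :=
  fun T hT => (h T hT).symm

theorem EqOn.trans {N N' N'' : Fam H} {W : X.Opens} (h : EqOn N N' W) (h' : EqOn N' N'' W) :
    EqOn N N'' W := fun T hT => (h T hT).trans (h' T hT)

theorem EqOn.mono {N N' : Fam H} {W W' : X.Opens} (h : EqOn N N' W) (hW : W' ≤ W) :
    EqOn N N' W' := fun T hT => h T (hT.trans hW)

theorem EqOn.refl (N : Fam H) (W : X.Opens) : EqOn N N W := fun _ _ => rfl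

/-- `N` is saturated with respect to `W`: it is the largest family with the same restriction to
`W`. -/
def Sat (N : Fam H) (W : X.Opens) : Prop :=
  ∀ (T : X.Opens) (t : Γ(H, T)), rs H (inf_le_left : T ⊓ W ≤ T) t ∈ N.obj (T ⊓ W) → t ∈ N.obj T

theorem Sat.mono {N : Fam H} {W W' : X.Opens} (h : Sat N W) (hW : W ≤ W') : Sat N W' := by
  intro T t ht
  refine h T t ?_
  have := N.res_mem (inf_le_inf_left T hW : T ⊓ W ≤ T ⊓ W') ht
  rwa [rs_rs] at this

theorem sat_top (W : X.Opens) : Sat (⊤ : Fam H) W := fun _ _ _ => trivial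

theorem sat_iInf {ι : Type*} (N : ι → Fam H) (W : X.Opens) (h : ∀ i, Sat (N i) W) :
    Sat (iInf N) W := by
  intro T t ht
  rw [mem_iInf] at ht ⊢
  exact fun i => h i T t (ht i)

/-- if `N` and `N'` agree on `W` and `N'` is `W`-saturated then `N ≤ N'`. -/
theorem le_of_eqOn_of_sat {N N' : Fam H} {W : X.Opens} (h : EqOn N N' W) (hs : Sat N' W)
    {T : X.Opens} {t : Γ(H, T)} (ht : t ∈ N.obj T) : t ∈ N'.obj T := by
  refine hs T t ?_
  rw [← h _ inf_le_right]
  exact N.res_mem _ ht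

/-- membership can be checked after restriction to an equal open. -/
theorem mem_of_rs_mem_of_le (N : Fam H) {T T' : X.Opens} (h : T' ≤ T) (h' : T ≤ T') {t : Γ(H, T)}
    (ht : rs H h t ∈ N.obj T') : t ∈ N.obj T :=
  N.loc t (fun x hx => ⟨T', h, h' hx, ht⟩)

/-- `N` is quasi-coherent of finite type on the affine open `T`, in terms of sections. -/
def GoodAff (N : Fam H) (T : X.Opens) : Prop :=
  (∀ (f : Γ(X, T)) (s : Γ(H, X.basicOpen f)), s ∈ N.obj (X.basicOpen f) →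
    ∃ (n : ℕ) (t : Γ(H, T)), t ∈ N.obj T ∧
      rs H (X.basicOpen_le f) t = (rO (X.basicOpen_le f) f) ^ n • s) ∧
  (N.obj T).FG

/-- `N` is quasi-coherent of finite type on the open `W`. -/
def QF (N : Fam H) (W : X.Opens) : Prop :=
  ∀ x ∈ W, ∃ T : X.Opens, IsAffineOpen T ∧ T ≤ W ∧ x ∈ T ∧
    ∀ T' : X.Opens, T' ≤ T → IsAffineOpen T' → GoodAff N T'

theorem GoodAff.congr {N N' : Fam H} {T : X.Opens} (h : EqOn N N' T) (hN : GoodAff N T) :
    GoodAff N' T := by
  refine ⟨fun f s hs => ?_, ?_⟩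
  · rw [← h _ (X.basicOpen_le f)] at hs
    obtain ⟨n, t, ht, he⟩ := hN.1 f s hs
    exact ⟨n, t, by rwa [← h _ le_rfl], he⟩
  · rw [← h _ le_rfl]; exact hN.2

theorem QF.congr {N N' : Fam H} {W : X.Opens} (h : EqOn N N' W) (hN : QF N W) : QF N' W := by
  intro x hx
  obtain ⟨T, hT, hTW, hxT, hg⟩ := hN x hx
  exact ⟨T, hT, hTW, hxT, fun T' hT' hT'a => (hg T' hT' hT'a).congr (h.mono (hT'.trans hTW))⟩

theorem QF.iSup {N : Fam H} {ι : Type*} {W : ι → X.Opens} (h : ∀ i, QF N (W i)) :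
    QF N (⨆ i, W i) := by
  intro x hx
  obtain ⟨i, hi⟩ := Opens.mem_iSup.mp hx
  obtain ⟨T, hT, hTW, hxT, hg⟩ := h i x hi
  exact ⟨T, hT, hTW.trans (le_iSup W i), hxT, hg⟩

theorem QF.sup {N : Fam H} {W W' : X.Opens} (h : QF N W) (h' : QF N W') : QF N (W ⊔ W') := by
  intro x hx
  rcases hx with hx | hx
  · obtain ⟨T, hT, hTW, hxT, hg⟩ := h x hx
    exact ⟨T, hT, hTW.trans le_sup_left, hxT, hg⟩
  · obtain ⟨T, hT, hTW, hxT, hg⟩ := h' x hx
    exact ⟨T, hT, hTW.trans le_sup_right, hxT, hg⟩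

/-- a quasi-coherent module which is of finite type on `U` gives a good family on `U`. -/
theorem qf_top [H.IsQuasicoherent] {U : X.Opens} (hU : FTOn H U) : QF (⊤ : Fam H) U := by
  intro x hx
  obtain ⟨_, ⟨T, hT, rfl⟩, hxT, hTU⟩ :=
    X.isBasis_affineOpens.exists_subset_of_mem_open hx U.isOpen
  refine ⟨T, hT, hTU, hxT, fun T' hT' hT'a => ⟨fun f s _ => ?_, ?_⟩⟩
  · obtain ⟨n, t, ht⟩ := (IsLocOn.of_isQuasicoherent hT'a H).exists_extension f s
    exact ⟨n, t, trivial, ht⟩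
  · haveI := hU T' hT'a (hT'.trans hTU)
    exact Module.finite_def.mp inferInstance

end Fam

end Groth.Agent.Lib.R2H2.SubFam
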