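import Mathlib
import Groth.Prelude.Def_FlatMod2
import Groth.Agent.Lib.Helper18FinFlat3
import Groth.Agent.Lib.Helper1FLF1
import Groth.Agent.Lib.R2H2SubFam
import Groth.Agent.Lib.Helper23GenLocus
import Groth.Agent.Lib.Helper2QCoh
import Groth.Agent.Lib.R2H2PullLF

set_option autoImplicit false
set_option backward.isDefEq.respectTransparency.types false
set_option linter.style.haveILetI false
universe u
open CategoryTheory CategoryTheory.Limits AlgebraicGeometry TopologicalSpace Opposite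

namespace Groth.Agent.Lib.R2H2.LocFreeTF

open Groth.Agent.Lib.R2H2.SubFam

section alg

theorem eq_zero_of_basis {A M ι : Type*} [CommRing A] [IsDomain A] [AddCommGroup M] [Module A M]
    (b : Module.Basis ι A M) (a : A) (ha : a ≠ 0) (m : M) (h : a • m = 0) : m = 0 := by
  have h1 : b.repr (a • m) = 0 := by rw [h, map_zero]
  rw [map_smul] at h1
  have h2 : b.repr m = 0 := by
    ext i
    have := congrArg (fun v => v i) h1
    simp only [Finsupp.smul_apply, smul_eq_mul, Finsupp.zero_apply] at this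
    exact (mul_eq_zero.mp this).resolve_left ha
  exact b.repr.map_eq_zero_iff.mp h2

theorem not_cyclic_of_basis {A M : Type*} [CommRing A] [Nontrivial A] [AddCommGroup M] [Module A M]
    {r : ℕ} (b : Module.Basis (Fin r) A M) (hr : 1 < r) (σ₀ : M)
    (h : ∀ m : M, ∃ a : A, m = a • σ₀) : False := by
  have hs : Submodule.span A ({σ₀} : Set M) = ⊤ := by
    rw [eq_top_iff]
    intro m _
    obtain ⟨a, rfl⟩ := h m
    exact Submodule.smul_mem _ _ (Submodule.subset_span rfl)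
  have := _root_.Basis.le_span'' b hs
  simp at this
  omega

end alg

variable {X : Scheme.{u}}

open Groth.Agent.Lib.Helper2.RankLoc in
attribute [local instance] RingHomInvPair.of_ringEquiv RingHomInvPair.of_ringEquiv_symm in
/-- version of helper18's `exists_affine_basis_of_restrict_iso_freeMod'` exposing the affine open
as an image. -/
theorem exists_affine_basis_image (M : X.Modules) {Y : Scheme.{u}} (f : Y ⟶ X)
    [IsOpenImmersion f]
    {n : ℕ} (e : M.restrict f ≅ FlatMod.freeMod Y n) (y : Y) :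
    ∃ (V : Y.Opens), IsAffineOpen V ∧ y ∈ V ∧
      Nonempty (Module.Basis (Fin n) Γ(X, f ''ᵁ V) Γ(M, f ''ᵁ V)) := by
  obtain ⟨V, hV, hyV, -⟩ := exists_isAffineOpen_mem_and_subset (x := y) (U := ⊤) trivial
  obtain ⟨E⟩ := nonempty_sections_equiv_of_iso_freeMod (M.restrict f) e hV
  haveI : Nonempty V := ⟨⟨y, hyV⟩⟩
  haveI : Nontrivial Γ(Y, V) := inferInstance
  have hxD : f y ∈ f ''ᵁ V := ⟨y, hyV, rfl⟩
  haveI hfreeY : Module.Free Γ(Y, V) Γ(M.restrict f, V) := Module.Free.of_equiv E.symm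
  have hrkY : Module.finrank Γ(Y, V) Γ(M.restrict f, V) = n := by
    rw [E.finrank_eq, Module.finrank_finsupp_self, Fintype.card_fin]
  let σ : Γ(Y, V) ≃+* Γ(X, f ''ᵁ V) := (f.appIso V).symm.commRingCatIsoToRingEquiv
  let j : Γ(M.restrict f, V) ≃+ Γ(M, f ''ᵁ V) := (M.restrictAppIso f V).addCommGroupIsoToAddEquiv
  have hc : ∀ (r : Γ(Y, V)) (m : Γ(M.restrict f, V)), j (r • m) = σ r • j m :=
    fun r m => Scheme.Modules.smul_restrictAppIso_hom_apply f M V r m
  haveI hfreeX : Module.Free Γ(X, f ''ᵁ V) Γ(M, f ''ᵁ V) := by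
    refine (Module.Free.iff_of_equiv (σ := (σ : Γ(Y, V) →+* Γ(X, f ''ᵁ V)))
      (σ' := (σ.symm : Γ(X, f ''ᵁ V) →+* Γ(Y, V))) ?_).1 hfreeY
    exact { j with map_smul' := hc }
  have hrkX : Module.finrank Γ(X, f ''ᵁ V) Γ(M, f ''ᵁ V) = n := by
    rw [← hrkY]
    exact (congrArg Cardinal.toNat (rank_eq_of_equiv_equiv σ j σ.bijective hc)).symm
  haveI : Nonempty (f ''ᵁ V : X.Opens) := ⟨⟨f y, hxD⟩⟩
  haveI : Nontrivial Γ(X, f ''ᵁ V) := inferInstance
  haveI : Module.Finite Γ(Y, V) Γ(M.restrict f, V) := Module.Finite.equiv E.symm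
  haveI : Module.Finite Γ(X, f ''ᵁ V) Γ(M, f ''ᵁ V) := by
    let J : Γ(M.restrict f, V) →ₛₗ[(σ : Γ(Y, V) →+* Γ(X, f ''ᵁ V))] Γ(M, f ''ᵁ V) :=
      { j with map_smul' := hc }
    exact Module.Finite.of_surjective J j.surjective
  exact ⟨V, hV, hyV, ⟨Module.finBasisOfFinrankEq _ _ hrkX⟩⟩

/-- around every point of an open `W₀` there is an affine open inside `W₀` over which a finite
locally free module of rank `r` has a basis. -/
theorem exists_affine_basis_le (E : X.Modules) {r : ℕ} (hE : FlatMod.IsFinLocFreeOfRank r E)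
    (W₀ : X.Opens) (y : X) (hy : y ∈ W₀) :
    ∃ W : X.Opens, IsAffineOpen W ∧ y ∈ W ∧ W ≤ W₀ ∧
      Nonempty (Module.Basis (Fin r) Γ(X, W) Γ(E, W)) := by
  obtain ⟨T, hyT, ⟨ε⟩⟩ := hE y
  obtain ⟨ε'⟩ := Groth.Agent.Lib.Helper1.FLF.nonempty_restrict_iso_freeMod_of_le E
    (inf_le_left : T ⊓ W₀ ≤ T) ε
  obtain ⟨V, hV, hyV, hb⟩ := exists_affine_basis_image E (T ⊓ W₀).ι ε' ⟨y, hyT, hy⟩
  refine ⟨(T ⊓ W₀).ι ''ᵁ V, hV.image_of_isOpenImmersion _, ⟨⟨y, hyT, hy⟩, hyV, rfl⟩, ?_, hb⟩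
  exact ((T ⊓ W₀).ι_image_le V).trans inf_le_right

theorem isFinLocFree_of_rank (E : X.Modules) {r : ℕ} (hE : FlatMod.IsFinLocFreeOfRank r E) :
    FlatMod.IsFinLocFree E := fun x => by
  obtain ⟨U, hx, h⟩ := hE x
  exact ⟨U, r, hx, h⟩

section integral

variable [IsIntegral X]

/-- finite locally free modules on an integral scheme are torsion-free -/
theorem eq_zero_of_smul_eq_zero (E : X.Modules) {r : ℕ} (hE : FlatMod.IsFinLocFreeOfRank r E)
    {W₀ : X.Opens} (f : Γ(X, W₀)) (hf : f ≠ 0) (σ : Γ(E, W₀)) (h : f • σ = 0) : σ = 0 := by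
  refine eq_of_locally_eq σ 0 (fun x hx => ?_)
  obtain ⟨W, hW, hxW, hle, ⟨b⟩⟩ := exists_affine_basis_le E hE W₀ x hx
  refine ⟨W, hle, hxW, ?_⟩
  rw [rs_zero]
  haveI : Nonempty W := ⟨⟨x, hxW⟩⟩
  have hf' : rO hle f ≠ 0 := by
    intro h0
    apply hf
    apply map_injective_of_isIntegral X (homOfLE hle)
    rw [map_zero]
    exact h0
  have h1 : rO hle f • rs E hle σ = 0 := by
    rw [← rs_smul, h, rs_zero]
  exact eq_zero_of_basis b _ hf' _ h1

/-- sections of a finite locally free module on an integral scheme vanishing on a nonempty open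
vanish -/
theorem eq_zero_of_res_eq_zero (E : X.Modules) {r : ℕ} (hE : FlatMod.IsFinLocFreeOfRank r E)
    {W₀ W' : X.Opens} (hle' : W' ≤ W₀) (hne : (W' : Set X).Nonempty) (σ : Γ(E, W₀))
    (h : rs E hle' σ = 0) : σ = 0 := by
  haveI : E.IsQuasicoherent :=
    Groth.Agent.Lib.R2H2.PullLF.isQuasicoherent_of_isFinLocFree E (isFinLocFree_of_rank E hE)
  refine eq_of_locally_eq σ 0 (fun x hx => ?_)
  obtain ⟨W, hW, hxW, hle, ⟨b⟩⟩ := exists_affine_basis_le E hE W₀ x hx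
  refine ⟨W, hle, hxW, ?_⟩
  rw [rs_zero]
  haveI : Nonempty W := ⟨⟨x, hxW⟩⟩
  obtain ⟨z, hzW, hzW'⟩ : ((W : Set X) ∩ (W' : Set X)).Nonempty :=
    nonempty_preirreducible_inter W.isOpen W'.isOpen ⟨x, hxW⟩ hne
  obtain ⟨g, hgle, hzg⟩ := hW.exists_basicOpen_le (V := W ⊓ W') ⟨z, hzW, hzW'⟩ hzW
  have hres : E.presheaf.map (homOfLE (X.basicOpen_le g)).op (rs E hle σ) = 0 := by
    have h1 : rs E (X.basicOpen_le g) (rs E hle σ) =
        rs E (hgle.trans inf_le_right) (rs E hle' σ) := by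
      rw [rs_rs, rs_rs]
    change rs E (X.basicOpen_le g) (rs E hle σ) = 0
    rw [h1, h, rs_zero]
  obtain ⟨n, hn⟩ := Groth.Agent.Lib.Helper2.QCoh.exists_pow_smul_eq_zero hW E g _ hres
  have hg : g ≠ 0 := by
    rintro rfl
    rw [Scheme.basicOpen_zero] at hzg
    exact hzg
  exact eq_zero_of_basis b _ (pow_ne_zero n hg) _ hn

end integral

end Groth.Agent.Lib.R2H2.LocFreeTF
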