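import Groth.Agent.Lib.Helper23Serre2
import Groth.Agent.Lib.R2H2LocFreeTF
import Groth.Agent.Lib.Helper13ModBasis
import Groth.Agent.Lib.Helper13AffBC
import Groth.Prelude.Def_ExtPow2

/-!
# Frames of a locally free module from a trivialisation of its determinant (helper2, round 2)

`E` finite locally free of rank `r` with an `r`-th exterior power `L`; morphisms `s j : O ⟶ E`
(`j : Fin r`) have a wedge `wedge s : O ⟶ L`; if the wedge is an isomorphism then
`Sigma.desc s : O^r ⟶ E` is an isomorphism; if `O^N ⟶ E` is an epimorphism then some `r` of its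
coordinates have a nonzero wedge.
-/

set_option backward.isDefEq.respectTransparency.types false
set_option autoImplicit false
set_option linter.unusedSectionVars false
universe u

namespace Groth.Agent.Lib.R2H2.DetTriv

open CategoryTheory CategoryTheory.Limits AlgebraicGeometry TopologicalSpace Opposite
open Groth.Agent.Lib.Helper23.GenLocus Groth.Agent.Lib.Helper23.Extend Groth.Agent.Lib.Helper23.Serre

variable {X : Scheme.{u}}

section Decomp

attribute [local instance] Abelian.hasFiniteBiproducts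

/-- the coordinate morphisms `O ⟶ O^n` -/
noncomputable abbrev inj (n : ℕ) (k : Fin n) : Coh.structureModule X ⟶ FlatMod.freeMod X n :=
  Sigma.ι (fun _ : Fin n => Coh.structureModule X) k

/-- every section of `O^n` is a sum of coordinate sections -/
theorem freeMod_decomp (n : ℕ) (W : X.Opens) (t : Γ(FlatMod.freeMod X n, W)) :
    ∃ a : Fin n → Γ(Coh.structureModule X, W), t = ∑ k, (inj n k).app W (a k) := by
  let O : X.Modules := Coh.structureModule X
  let e : (⨁ fun _ : Fin n => O) ≅ ∐ fun _ : Fin n => O := biproduct.isoCoproduct _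
  have hι : ∀ k, biproduct.ι (fun _ : Fin n => O) k ≫ e.hom = inj n k := by
    intro k
    change biproduct.ι (fun _ : Fin n => O) k ≫ (biproduct.isoCoproduct _).hom = _
    rw [biproduct.isoCoproduct_hom, biproduct.ι_desc]
  have h1 : 𝟙 (∐ fun _ : Fin n => O) =
      ∑ k, (e.inv ≫ biproduct.π (fun _ : Fin n => O) k) ≫ inj n k := by
    have h2 : 𝟙 (∐ fun _ : Fin n => O) = e.inv ≫
        (∑ k, biproduct.π (fun _ : Fin n => O) k ≫ biproduct.ι (fun _ : Fin n => O) k) ≫ e.hom := by
      rw [biproduct.total, Category.id_comp, Iso.inv_hom_id]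
    rw [h2, Preadditive.sum_comp, Preadditive.comp_sum]
    refine Finset.sum_congr rfl (fun k _ => ?_)
    rw [Category.assoc, Category.assoc, hι]
  refine ⟨fun k => (e.inv ≫ biproduct.π (fun _ : Fin n => O) k).app W t, ?_⟩
  have h3 := congrArg (evalHom (N := ∐ fun _ : Fin n => O) W t) h1
  rw [map_sum] at h3
  exact h3

end Decomp

section Alg

variable {A M : Type*} [CommRing A] [AddCommGroup M] [Module A M] {r : ℕ}

/-- if a linear functional on `⋀^r M` takes the value `1` at `v_1 ∧ … ∧ v_r`, then `v` is a basis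
of the free module `M` of rank `r` -/
theorem isBasis_of_wedge (b : Module.Basis (Fin r) A M) (F : ⋀[A]^r M →ₗ[A] A) (v : Fin r → M)
    (hv : F (exteriorPower.ιMulti A r v) = 1) :
    LinearIndependent A v ∧ Submodule.span A (Set.range v) = ⊤ := by
  rw [b.is_basis_iff_det]
  let g : M [⋀^Fin r]→ₗ[A] A := F.compAlternatingMap (exteriorPower.ιMulti A r)
  have h1 := AlternatingMap.eq_smul_basis_det b g
  have h2 : g v = 1 := hv
  rw [h1] at h2
  have h3 : g b * b.det v = 1 := h2
  exact IsUnit.of_mul_eq_one (g b) (by rw [mul_comm]; exact h3)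

/-- if `u` spans the free module `M` of rank `r` then some `r`-tuple of the `u`'s has a nonzero
wedge -/
theorem exists_wedge_ne_zero [Nontrivial A] (b : Module.Basis (Fin r) A M) {N : ℕ} (u : Fin N → M)
    (hu : Submodule.span A (Set.range u) = ⊤) :
    ∃ f : Fin r → Fin N, exteriorPower.ιMulti A r (u ∘ f) ≠ 0 := by
  by_contra hcon
  push Not at hcon
  have h0 : ∀ f : Fin r → Fin N, b.det (u ∘ f) = 0 := fun f => by
    have := exteriorPower.alternatingMapLinearEquiv_apply_ιMulti b.det (u ∘ f)
    rw [hcon f, map_zero] at this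
    exact this.symm
  have hex : ∀ j, ∃ cj : Fin N → A, b j = ∑ i, cj i • u i := fun j => by
    have hj : b j ∈ Submodule.span A (Set.range u) := by rw [hu]; trivial
    obtain ⟨cj, hcj⟩ := (Submodule.mem_span_range_iff_exists_fun A).1 hj
    exact ⟨cj, hcj.symm⟩
  choose c hc using hex
  have h1 : b.det b = 1 := b.det_self
  have h2 : b.det (fun j => ∑ i, c j i • u i) = 0 := by
    have h3 : b.det (fun j => ∑ i, c j i • u i) =
        ∑ f : Fin r → Fin N, b.det (fun j => c j (f j) • u (f j)) :=
      MultilinearMap.map_sum b.det.toMultilinearMap (fun j i => c j i • u i)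
    rw [h3]
    refine Finset.sum_eq_zero (fun f _ => ?_)
    have h4 : b.det (fun j => c j (f j) • u (f j)) = (∏ j, c j (f j)) • b.det (fun j => u (f j)) :=
      MultilinearMap.map_smul_univ b.det.toMultilinearMap (fun j => c j (f j)) (fun j => u (f j))
    rw [h4]
    have h5 : b.det (fun j => u (f j)) = 0 := h0 f
    rw [h5, smul_zero]
  have h6 : (fun j => ∑ i, c j i • u i) = b := funext fun j => (hc j).symm
  rw [h6, h1] at h2
  exact one_ne_zero h2

end Alg

section Wedge

variable {E L : X.Modules} {r : ℕ}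

/-- the data of an exterior power (as in `ExtPow.IsExtPow`) -/
structure EPData (r : ℕ) (E L : X.Modules) where
  φ : ∀ U : X.affineOpens, (L.val.obj (op U.1)) ≃ₗ[Γ(X, U.1)]
    ↥(⋀[Γ(X, U.1)]^r (E.val.obj (op U.1)))
  compat : ∀ (U V : X.affineOpens) (h : V.1 ≤ U.1) (e : Fin r → E.val.obj (op U.1)),
      L.val.map (homOfLE h).op ((φ U).symm (exteriorPower.ιMulti _ r e)) =
        (φ V).symm (exteriorPower.ιMulti _ r (fun j => E.val.map (homOfLE h).op (e j)))

lemma nonempty_EPData (hL : ExtPow.IsExtPow r E L) : Nonempty (EPData r E L) := by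
  obtain ⟨φ, hφ⟩ := hL
  exact ⟨⟨φ, hφ⟩⟩

lemma isBasis_affine : Opens.IsBasis (Set.range fun U : X.affineOpens => U.1) := by
  rw [Subtype.range_coe]
  exact X.isBasis_affineOpens

variable (D : EPData r E L) (s : Fin r → (Coh.structureModule X ⟶ E))

/-- the sections `s_j(1)` over `U` -/
noncomputable def secs (U : X.Opens) : Fin r → E.val.obj (op U) :=
  fun j => (s j).app U (toS U 1)

lemma secs_map {U V : X.Opens} (h : V ≤ U) (j : Fin r) :
    E.val.map (homOfLE h).op (secs s U j) = secs s V j := by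
  have h1 := app_map (s j) (homOfLE h) (toS U 1)
  rw [map_toS, map_one] at h1
  exact h1.symm

/-- the local wedge of the sections -/
noncomputable def wloc (U : X.affineOpens) : L.val.obj (op U.1) :=
  (D.φ U).symm (exteriorPower.ιMulti _ r (secs s U.1))

lemma wloc_map (U V : X.affineOpens) (h : V.1 ≤ U.1) :
    L.val.map (homOfLE h).op (wloc D s U) = wloc D s V := by
  unfold wloc
  rw [D.compat U V h]
  congr 2
  funext j
  exact secs_map s h j

/-- the local map `a ↦ a • wloc` -/
noncomputable def wLin (U : X.affineOpens) :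
    Γ(Coh.structureModule X, U.1) →ₗ[Γ(X, U.1)] (L.val.obj (op U.1)) where
  toFun a := ofS U.1 a • wloc D s U
  map_add' a b := add_smul (ofS U.1 a) (ofS U.1 b) (wloc D s U)
  map_smul' c a := mul_smul c (ofS U.1 a) (wloc D s U)

/-- the wedge `s_1 ∧ … ∧ s_r : O ⟶ L` -/
noncomputable def wedge : Coh.structureModule X ⟶ L :=
  Groth.Agent.Helper13ModBasis.homOfBasis
    (fun U : X.affineOpens => U.1) isBasis_affine
    (fun U => AddCommGrpCat.ofHom (wLin D s U).toAddMonoidHom)
    (fun U V h => by
      ext a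
      change ofS V.1 ((Coh.structureModule X).presheaf.map (homOfLE h).op a) • wloc D s V =
        L.presheaf.map (homOfLE h).op (ofS U.1 a • wloc D s U)
      have h1 : L.presheaf.map (homOfLE h).op (ofS U.1 a • wloc D s U) =
          X.presheaf.map (homOfLE h).op (ofS U.1 a) • L.presheaf.map (homOfLE h).op (wloc D s U) :=
        Scheme.Modules.map_smul L (homOfLE h) (ofS U.1 a) (wloc D s U)
      refine Eq.trans ?_ h1.symm
      exact congrArg (fun z => X.presheaf.map (homOfLE h).op (ofS U.1 a) • z)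
        (wloc_map D s U V h).symm)
    (fun U a ℓ => (wLin D s U).map_smul a ℓ)

lemma wedge_app (U : X.affineOpens) (a : Γ(Coh.structureModule X, U.1)) :
    (wedge D s).app U.1 a = ofS U.1 a • wloc D s U := by
  unfold wedge
  rw [Groth.Agent.Helper13ModBasis.homOfBasis_app]
  rfl

lemma wLin_one (U : X.affineOpens) : wLin D s U (toS U.1 1) = wloc D s U :=
  one_smul _ _

/-- `ofS` as a linear map -/
noncomputable def ofSLin (W : X.Opens) : Γ(Coh.structureModule X, W) →ₗ[Γ(X, W)] Γ(X, W) where
  toFun := ofS W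
  map_add' _ _ := rfl
  map_smul' _ _ := rfl

lemma bijective_wLin [IsIso (wedge D s)] (U : X.affineOpens) : Function.Bijective (wLin D s U) := by
  have h1 : Function.Bijective ((wedge D s).app U.1) := by
    have : IsIso ((wedge D s).app U.1) := by
      change IsIso ((Scheme.Modules.toPresheaf X).map (wedge D s) |>.app (op U.1))
      infer_instance
    exact (ConcreteCategory.isIso_iff_bijective _).1 this
  have h2 : ∀ a, wLin D s U a = (wedge D s).app U.1 a := fun a => (wedge_app D s U a).symm
  constructor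
  · intro a b hab
    exact h1.1 ((h2 a).symm.trans (hab.trans (h2 b)))
  · intro ℓ
    obtain ⟨a, ha⟩ := h1.2 ℓ
    exact ⟨a, (h2 a).trans ha⟩

/-- if the wedge is an isomorphism, the sections form a basis over every affine open on which
`E` is free of rank `r` -/
theorem secs_isBasis [IsIso (wedge D s)] (U : X.affineOpens)
    (b : Module.Basis (Fin r) Γ(X, U.1) (E.val.obj (op U.1))) :
    LinearIndependent Γ(X, U.1) (secs s U.1) ∧
      Submodule.span Γ(X, U.1) (Set.range (secs s U.1)) = ⊤ := by
  let κ : Γ(Coh.structureModule X, U.1) ≃ₗ[Γ(X, U.1)] (L.val.obj (op U.1)) :=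
    LinearEquiv.ofBijective (wLin D s U) (bijective_wLin D s U)
  let F : ⋀[Γ(X, U.1)]^r (E.val.obj (op U.1)) →ₗ[Γ(X, U.1)] Γ(X, U.1) :=
    (ofSLin U.1).comp (κ.symm.toLinearMap.comp (D.φ U).symm.toLinearMap)
  refine isBasis_of_wedge b F (secs s U.1) ?_
  change ofS U.1 (κ.symm ((D.φ U).symm (exteriorPower.ιMulti _ r (secs s U.1)))) = 1
  have h1 : (D.φ U).symm (exteriorPower.ιMulti _ r (secs s U.1)) = κ (toS U.1 1) :=
    (wLin_one D s U).symm
  rw [h1, LinearEquiv.symm_apply_apply]
  rfl

end Wedge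

section Iso

variable {E L : X.Modules} {r : ℕ} (hE : FlatMod.IsFinLocFreeOfRank r E)
  (D : EPData r E L) (s : Fin r → (Coh.structureModule X ⟶ E))

/-- the morphism `O^r ⟶ E` given by `r` morphisms `O ⟶ E` -/
noncomputable abbrev frame {n : ℕ} (s : Fin n → (Coh.structureModule X ⟶ E)) :
    FlatMod.freeMod X n ⟶ E := Sigma.desc s

lemma inj_frame {n : ℕ} (s : Fin n → (Coh.structureModule X ⟶ E)) (j : Fin n) :
    inj n j ≫ frame s = s j := Sigma.ι_desc _ _

lemma frame_app_inj {n : ℕ} (s : Fin n → (Coh.structureModule X ⟶ E)) (W : X.Opens) (j : Fin n)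
    (a : Γ(Coh.structureModule X, W)) :
    (frame s).app W ((inj n j).app W a) = ofS W a • (s j).app W (toS W 1) := by
  have h1 : (frame s).app W ((inj n j).app W a) = (s j).app W a :=
    congrArg (fun φ : Coh.structureModule X ⟶ E => φ.app W a) (inj_frame s j)
  rw [h1]
  have h2 : a = ofS W a • toS W 1 := by rw [smul_toS, mul_one]; rfl
  conv_lhs => rw [h2]
  exact Scheme.Modules.Hom.app_smul (s j) (ofS W a) (toS W 1)

include hE in
/-- if the wedge of `s` is an isomorphism then `s` is a frame of `E` -/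
theorem isIso_frame [IsIso (wedge D s)] : IsIso (frame s) := by
  let ι : Type u := {W : X.affineOpens // Nonempty (Module.Basis (Fin r) Γ(X, W.1) Γ(E, W.1))}
  refine Groth.Agent.Helper13AffBC.isIso_of_bijective_on_basis (frame s)
    (fun W : ι => W.1.1) ?_ ?_
  · rw [Opens.isBasis_iff_nbhd]
    intro W₀ y hy
    obtain ⟨W, hW, hyW, hle, hb⟩ :=
      Groth.Agent.Lib.R2H2.LocFreeTF.exists_affine_basis_le E hE W₀ y hy
    exact ⟨W, ⟨⟨⟨W, hW⟩, hb⟩, rfl⟩, hyW, hle⟩
  · rintro ⟨W, ⟨b⟩⟩
    obtain ⟨hli, hsp⟩ := secs_isBasis D s W b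
    change Function.Bijective ((frame s).app W.1)
    constructor
    · rw [injective_iff_map_eq_zero]
      intro t ht
      obtain ⟨a, rfl⟩ := freeMod_decomp r W.1 t
      rw [map_sum] at ht
      simp only [frame_app_inj] at ht
      have h0 := (Fintype.linearIndependent_iff.1 hli) (fun k => ofS W.1 (a k)) ht
      refine Finset.sum_eq_zero (fun k _ => ?_)
      have hk : a k = 0 := h0 k
      rw [hk, map_zero]
    · intro t
      have ht : (show E.val.obj (op W.1) from t) ∈
          Submodule.span Γ(X, W.1) (Set.range (secs s W.1)) := by rw [hsp]; trivial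
      obtain ⟨c, hc⟩ := (Submodule.mem_span_range_iff_exists_fun _).1 ht
      refine ⟨∑ j, (inj r j).app W.1 (toS W.1 (c j)), ?_⟩
      rw [map_sum]
      simp only [frame_app_inj]
      exact hc

end Iso

section Exists

variable {E L : X.Modules} {r : ℕ} (hE : FlatMod.IsFinLocFreeOfRank r E) (D : EPData r E L)

lemma app_eq_smul (σ : Coh.structureModule X ⟶ E) (W : X.Opens) (a : Γ(Coh.structureModule X, W)) :
    σ.app W a = ofS W a • σ.app W (toS W 1) := by
  have h2 : a = ofS W a • toS W 1 := by rw [smul_toS, mul_one]; rfl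
  conv_lhs => rw [h2]
  exact Scheme.Modules.Hom.app_smul σ (ofS W a) (toS W 1)

include hE in
/-- if `O^N ⟶ E` is an epimorphism then some `r` of its coordinates have a nonzero wedge -/
theorem exists_wedge_ne_zero_of_epi [Nonempty X] {N : ℕ} (ψ : FlatMod.freeMod X N ⟶ E) [Epi ψ] :
    ∃ f : Fin r → Fin N, wedge D (fun j => inj N (f j) ≫ ψ) ≠ 0 := by
  obtain ⟨x⟩ := (inferInstance : Nonempty X)
  obtain ⟨W, hW, hxW, -, ⟨b⟩⟩ :=
    Groth.Agent.Lib.R2H2.LocFreeTF.exists_affine_basis_le E hE ⊤ x trivial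
  haveI : Nonempty W := ⟨⟨x, hxW⟩⟩
  haveI : Nontrivial Γ(X, W) := inferInstance
  haveI : E.IsQuasicoherent := Groth.Agent.Lib.R2H2.PullLF.isQuasicoherent_of_isFinLocFree E
    (Groth.Agent.Lib.R2H2.LocFreeTF.isFinLocFree_of_rank E hE)
  haveI : (FlatMod.freeMod X N).IsQuasicoherent := isQuasicoherent_freeMod N
  have hsurj := Groth.Agent.Lib.Helper23.FinType.surjective_app_of_epi ψ hW
  let u : Fin N → E.val.obj (op W) := fun i => (inj N i ≫ ψ).app W (toS W 1)
  have hu : Submodule.span Γ(X, W) (Set.range u) = ⊤ := by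
    rw [eq_top_iff]
    intro t _
    obtain ⟨t', rfl⟩ := hsurj t
    obtain ⟨a, rfl⟩ := freeMod_decomp N W t'
    rw [map_sum]
    refine Submodule.sum_mem _ (fun k _ => ?_)
    have h1 : ψ.app W ((inj N k).app W (a k)) = ofS W (a k) • u k :=
      app_eq_smul (inj N k ≫ ψ) W (a k)
    rw [h1]
    exact Submodule.smul_mem _ _ (Submodule.subset_span ⟨k, rfl⟩)
  obtain ⟨f, hf⟩ := exists_wedge_ne_zero b u hu
  refine ⟨f, fun h0 => hf ?_⟩
  have h1 : (wedge D (fun j => inj N (f j) ≫ ψ)).app W (toS W 1) = 0 := by rw [h0]; rfl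
  rw [wedge_app D _ ⟨W, hW⟩] at h1
  have h2 : wloc D (fun j => inj N (f j) ≫ ψ) ⟨W, hW⟩ = 0 :=
    (one_smul _ _).symm.trans h1
  unfold wloc at h2
  exact (D.φ ⟨W, hW⟩).symm.map_eq_zero_iff.1 h2

end Exists

end Groth.Agent.Lib.R2H2.DetTriv
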