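import Mathlib
import Groth.Prelude
import Groth.Agent.Lib.R2H2DetTriv

/-!
# The top exterior power of a free module of rank `r` is trivial (helper8)

* `bijective_smul_wedge`: for a basis `b : Fin n → M`, `a ↦ a • (b 0 ∧ ⋯ ∧ b (n-1))` is bijective;
* `isIso_wedge_of_isIso_frame`: if `s : O^r ⟶ E` is an isomorphism and `L` is an `r`-th exterior
  power of `E`, then the wedge of `s` is an isomorphism `O ⟶ L`.
-/

set_option backward.isDefEq.respectTransparency.types false
set_option autoImplicit false
set_option linter.style.haveILetI false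
set_option linter.unusedSectionVars false
universe u

open CategoryTheory CategoryTheory.Limits AlgebraicGeometry TopologicalSpace Opposite

namespace Groth.Agent.Lib.Helper8CanonFib3

section Alg

theorem bijective_smul_wedge {R M : Type*} [CommRing R] [AddCommGroup M] [Module R M] (n : ℕ)
    (b : Module.Basis (Fin n) R M) :
    Function.Bijective (fun a : R => a • exteriorPower.ιMulti R n b) := by
  classical
  haveI : Subsingleton (Fin n ↪o Fin n) := ⟨fun f g => by
    rw [Finset.orderEmbOfFin_unique' (s := Finset.univ) (by simp) (f := f)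
        (fun x => Finset.mem_univ _),
      Finset.orderEmbOfFin_unique' (s := Finset.univ) (by simp) (f := g)
        (fun x => Finset.mem_univ _)]⟩
  let s₀ : Set.powersetCard (Fin n) n := Set.powersetCard.ofFinEmbEquiv (RelEmbedding.refl _)
  haveI : Unique (Set.powersetCard (Fin n) n) :=
    { default := s₀
      uniq := fun s => Set.powersetCard.ofFinEmbEquiv.symm.injective (Subsingleton.elim _ _) }
  let B := b.exteriorPower n
  have hB : B s₀ = exteriorPower.ιMulti R n b := by
    rw [exteriorPower.basis_apply]
    unfold exteriorPower.ιMulti_family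
    rw [Equiv.symm_apply_apply]
    rfl
  have h1 : (fun a : R => a • exteriorPower.ιMulti R n b) =
      fun a => B.repr.symm (Finsupp.single s₀ a) := by
    funext a
    rw [Module.Basis.repr_symm_single, hB]
  rw [h1]
  have h2 : Function.Bijective (fun a : R => (Finsupp.single s₀ a : Set.powersetCard (Fin n) n →₀ R)) := by
    refine ⟨Finsupp.single_injective s₀, fun v => ⟨v s₀, ?_⟩⟩
    have h4 := (Finsupp.unique_single v).symm
    have h3 : (default : Set.powersetCard (Fin n) n) = s₀ := Subsingleton.elim _ _
    rw [h3] at h4
    exact h4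
  exact B.repr.symm.bijective.comp h2

end Alg

section Sheaf

open Groth.Agent.Lib.R2H2.DetTriv
open Groth.Agent.Lib.Helper23.GenLocus Groth.Agent.Lib.Helper23.Extend Groth.Agent.Lib.Helper23.Serre

variable {X : Scheme.{u}} {E L : X.Modules} {r : ℕ} (D : EPData r E L)
  (s : Fin r → (Coh.structureModule X ⟶ E))

/-- the coordinate projections `O^n ⟶ O` -/
noncomputable def prj (n : ℕ) (j : Fin n) : FlatMod.freeMod X n ⟶ Coh.structureModule X := by
  classical
  exact Sigma.desc (fun k => if k = j then 𝟙 _ else 0)

theorem inj_prj (n : ℕ) (k j : Fin n) :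
    inj n k ≫ prj (X := X) n j = if k = j then 𝟙 _ else 0 := by
  classical
  unfold prj
  exact Sigma.ι_desc _ _

/-- if `s` is a frame of `E`, its sections form a basis over every open -/
theorem secs_isBasis_of_isIso_frame [IsIso (frame s)] (U : X.Opens) :
    LinearIndependent Γ(X, U) (secs s U) ∧
      Submodule.span Γ(X, U) (Set.range (secs s U)) = ⊤ := by
  classical
  have hbij : Function.Bijective ((frame s).app U) := by
    have : IsIso ((frame s).app U) := by
      change IsIso ((Scheme.Modules.toPresheaf X).map (frame s) |>.app (op U))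
      infer_instance
    exact (ConcreteCategory.isIso_iff_bijective _).1 this
  constructor
  · rw [Fintype.linearIndependent_iff]
    intro c hc j
    have h1 : (frame s).app U (∑ k, (inj r k).app U (toS U (c k))) = 0 := by
      rw [map_sum]
      simp only [frame_app_inj]
      exact hc
    have h2 : (∑ k, (inj r k).app U (toS U (c k))) = 0 := by
      apply hbij.1
      rw [h1, map_zero]
    have h3 := congrArg ((prj r j).app U) h2
    rw [map_sum, map_zero] at h3
    have h4 : ∀ k, (prj r j).app U ((inj r k).app U (toS U (c k))) =
        if k = j then toS U (c k) else 0 := by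
      intro k
      have h5 : (prj r j).app U ((inj r k).app U (toS U (c k))) =
          (inj r k ≫ prj r j).app U (toS U (c k)) := rfl
      rw [h5, inj_prj]
      split_ifs with hkj
      · rfl
      · rfl
    simp only [h4, Finset.sum_ite_eq', Finset.mem_univ, if_true] at h3
    exact h3
  · rw [eq_top_iff]
    intro t _
    obtain ⟨t', ht'⟩ := hbij.2 t
    obtain ⟨a, rfl⟩ := freeMod_decomp r U t'
    rw [map_sum] at ht'
    simp only [frame_app_inj] at ht'
    rw [← ht']
    exact Submodule.sum_mem _ (fun k _ => Submodule.smul_mem _ _ (Submodule.subset_span ⟨k, rfl⟩))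

/-- if `s` is a frame of `E` then its wedge trivialises any `r`-th exterior power of `E` -/
theorem isIso_wedge_of_isIso_frame [IsIso (frame s)] : IsIso (wedge D s) := by
  refine Groth.Agent.Helper13AffBC.isIso_of_bijective_on_basis (wedge D s)
    (fun U : X.affineOpens => U.1) isBasis_affine (fun U => ?_)
  obtain ⟨hli, hsp⟩ := secs_isBasis_of_isIso_frame s U.1
  let b : Module.Basis (Fin r) Γ(X, U.1) (E.val.obj (op U.1)) :=
    Module.Basis.mk hli (le_of_eq hsp.symm)
  have hb : ⇑b = secs s U.1 := Module.Basis.coe_mk hli _
  have h1 := bijective_smul_wedge r b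
  rw [hb] at h1
  have h2 : Function.Bijective (fun a : Γ(X, U.1) => a • wloc D s U) := by
    have h3 : (fun a : Γ(X, U.1) => a • wloc D s U) =
        (D.φ U).symm ∘ (fun a : Γ(X, U.1) => a • exteriorPower.ιMulti Γ(X, U.1) r (secs s U.1)) := by
      funext a
      change a • wloc D s U = (D.φ U).symm (a • _)
      rw [map_smul]
      rfl
    rw [h3]
    exact (D.φ U).symm.bijective.comp h1
  constructor
  · intro a a' h
    rw [wedge_app, wedge_app] at h
    exact h2.1 h
  · intro ℓ
    obtain ⟨a, ha⟩ := h2.2 ℓ
    refine ⟨toS U.1 a, ?_⟩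
    rw [wedge_app]
    exact ha

end Sheaf

end Groth.Agent.Lib.Helper8CanonFib3
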