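import Mathlib
import Groth.Prelude
import Groth.Agent.Lib.Helper8CanonFib3
import Groth.Agent.Lib.Helper1FLF1
import Groth.Agent.Lib.Helper23PB
import Groth.Agent.Lib.Helper23SecTw6

/-!
# The top exterior power of a finite locally free module of rank `n` is invertible (helper8)
-/

set_option backward.isDefEq.respectTransparency.types false
set_option autoImplicit false
set_option linter.style.haveILetI false
set_option linter.unusedSectionVars false
universe u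

open CategoryTheory CategoryTheory.Limits AlgebraicGeometry TopologicalSpace Opposite

namespace Groth.Agent.Lib.Helper8CanonFib4

open Groth.Agent.Lib.R2H2.DetTriv Groth.Agent.Lib.Helper8CanonFib3
open Groth.Agent.Lib.Helper23.SecTw Groth.Agent.Lib.Helper23.GenLocus Groth.Agent.Lib.Helper6
  Groth.Agent.Lib.Helper23.Extend

variable {X : Scheme.{u}}

/-- the module structure on the sections of a restricted module is the original one -/
theorem secModule_restrict_eq (M : X.Modules) (U : X.Opens) (V : (↑U : Scheme.{u}).Opens) :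
    (ExtPow.secModule (M.restrict U.ι) V :
      Module Γ(X, U.ι ''ᵁ V) (M.val.obj (op (U.ι ''ᵁ V)))) = ExtPow.secModule M (U.ι ''ᵁ V) := by
  refine Module.ext' _ _ (fun r m => ?_)
  exact smul_restrict_eq M U V r m

/-- the top exterior power of a finite locally free module of rank `n` is invertible -/
theorem isInvertible_of_isExtPow (E ω : X.Modules) (n : ℕ) (hE : FlatMod.IsFinLocFreeOfRank n E)
    (hω : ExtPow.IsExtPow n E ω) : PicF.IsInvertible ω := by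
  obtain ⟨D⟩ := nonempty_EPData hω
  refine isInvertible_of_isGen ω (fun x => ?_)
  obtain ⟨T, hxT, ⟨ε⟩⟩ := hE x
  obtain ⟨W, hW', hxW, hWT⟩ : ∃ W : X.Opens, W ∈ X.affineOpens ∧ x ∈ W ∧ W ≤ T :=
    (Opens.isBasis_iff_nbhd.1 X.isBasis_affineOpens) hxT
  have hW : IsAffineOpen W := hW'
  obtain ⟨ε'⟩ := Groth.Agent.Lib.Helper1.FLF.nonempty_restrict_iso_freeMod_of_le E hWT ε
  let s : Fin n → (Coh.structureModule (↑W : Scheme.{u}) ⟶ E.restrict W.ι) :=
    fun j => inj n j ≫ ε'.inv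
  have hfr : frame s = ε'.inv := by
    apply Sigma.hom_ext
    intro j
    rw [inj_frame]
  haveI : IsIso (frame s) := by rw [hfr]; infer_instance
  have hW₀ : IsAffineOpen (W.ι ''ᵁ ⊤) := by
    have : W.ι ''ᵁ ⊤ = W := by simp
    rw [this]; exact hW
  let b₀ : Fin n → E.val.obj (op (W.ι ''ᵁ ⊤)) := fun j => secs s ⊤ j
  let σ : Γ(ω, W.ι ''ᵁ ⊤) := (D.φ ⟨W.ι ''ᵁ ⊤, hW₀⟩).symm (exteriorPower.ιMulti _ n b₀)
  refine ⟨W.ι ''ᵁ ⊤, σ, ⟨⟨x, hxW⟩, trivial, rfl⟩,
    Groth.Agent.Lib.Helper23.PB.isGen_of_affine ω _ σ (fun A hA hAaff => ?_)⟩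
  obtain ⟨A', rfl⟩ : ∃ A' : (↑W : Scheme.{u}).Opens, A = W.ι ''ᵁ A' :=
    ⟨W.ι ⁻¹ᵁ A, (Groth.Agent.Lib.Helper23.RestrJ.image_preimage_of_le W.ι
      (hA.trans (by simp))).symm⟩
  let bA : Fin n → E.val.obj (op (W.ι ''ᵁ A')) := fun j => secs s A' j
  have h1 : res ω hA σ = (D.φ ⟨W.ι ''ᵁ A', hAaff⟩).symm (exteriorPower.ιMulti _ n bA) := by
    have h2 := D.compat ⟨W.ι ''ᵁ ⊤, hW₀⟩ ⟨W.ι ''ᵁ A', hAaff⟩ hA b₀
    refine h2.trans ?_
    congr 2
    funext j
    exact secs_map s (le_top : A' ≤ ⊤) j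
  obtain ⟨hli, hsp⟩ := secs_isBasis_of_isIso_frame s A'
  have hli' : @LinearIndependent (Fin n) Γ(X, W.ι ''ᵁ A') (E.val.obj (op (W.ι ''ᵁ A'))) bA _ _
      (ExtPow.secModule E (W.ι ''ᵁ A')) := by
    rw [← secModule_restrict_eq E W A']
    exact hli
  have hsp' : @Submodule.span Γ(X, W.ι ''ᵁ A') (E.val.obj (op (W.ι ''ᵁ A'))) _ _
      (ExtPow.secModule E (W.ι ''ᵁ A')) (Set.range bA) = ⊤ := by
    rw [← secModule_restrict_eq E W A']
    exact hsp
  let b : Module.Basis (Fin n) Γ(X, W.ι ''ᵁ A') (E.val.obj (op (W.ι ''ᵁ A'))) :=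
    Module.Basis.mk hli' (le_of_eq hsp'.symm)
  have hb : ⇑b = bA := Module.Basis.coe_mk hli' _
  have h3 := bijective_smul_wedge n b
  rw [hb] at h3
  have h4 : (fun r : Γ(X, W.ι ''ᵁ A') => r • res ω hA σ) =
      (D.φ ⟨W.ι ''ᵁ A', hAaff⟩).symm ∘
        (fun r : Γ(X, W.ι ''ᵁ A') => r • exteriorPower.ιMulti Γ(X, W.ι ''ᵁ A') n bA) := by
    funext r
    rw [h1]
    exact ((D.φ ⟨W.ι ''ᵁ A', hAaff⟩).symm.map_smul r _).symm
  rw [h4]
  exact (D.φ ⟨W.ι ''ᵁ A', hAaff⟩).symm.bijective.comp h3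

end Groth.Agent.Lib.Helper8CanonFib4
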