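import Mathlib
import Groth.Prelude
import Groth.Agent.Lib.Helper8CanonFib1
import Groth.Agent.Lib.Helper8CanonFib2
import Groth.Agent.Lib.Helper8CanonFib4
import Groth.Agent.Lib.H9SteinSm
import Groth.Agent.Lib.H9CbH
import Groth.Agent.Lib.R2H4FibTriv
import Groth.Agent.Lib.R2H4TrivInt
import Groth.Agent.Lib.R2H4NearFibre
import Groth.Agent.Lib.R2H3TopBCD
import Groth.Agent.Lib.Helper23SecTw10

/-!
# Pluricanonical sheaves trivial on fibres: the evaluation map is an isomorphism (helper8)
-/

set_option backward.isDefEq.respectTransparency.types false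
set_option autoImplicit false
set_option linter.style.haveILetI false
set_option linter.unusedSectionVars false
universe u

open CategoryTheory CategoryTheory.Limits AlgebraicGeometry TopologicalSpace Opposite

namespace Groth.Agent.Lib.Helper8CanonFib5

open Groth.Agent.Lib.Helper8CanonFib1 Groth.Agent.Lib.Helper8CanonFib2
  Groth.Agent.Lib.Helper8CanonFib4

/-- the relative canonical sheaf of a smooth quasi-separated morphism of relative dimension `n`
is invertible -/
theorem isInvertible_canon {X S : Scheme.{u}} (f : X ⟶ S) (n : ℕ)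
    [SmoothOfRelativeDimension n f] [QuasiSeparated f]
    (ω : X.Modules) (hω : Canon.IsTopDiff f n ω) : PicF.IsInvertible ω :=
  isInvertible_of_isExtPow (Omega.sheaf f) ω n (isFinLocFreeOfRank_omega f n) hω

/-- pluricanonical sheaves are invertible -/
theorem isInvertible_pluricanon {X S : Scheme.{u}} (f : X ⟶ S) (n : ℕ)
    [SmoothOfRelativeDimension n f] [QuasiSeparated f]
    (ω : X.Modules) (hω : Canon.IsTopDiff f n ω) (m : ℕ) :
    PicF.IsInvertible (CohB1.tensorPow ω m) :=
  Groth.Agent.Lib.Helper23.SecTw.isInvertible_tensorPow (isInvertible_canon f n ω hω) m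

section Main

variable {X S : Scheme.{u}} (f : X ⟶ S)

/-- common set-up: locally projective smooth morphisms with geometrically connected fibres -/
theorem setup (hproj : RedSub.IsLocallyProjective (Over.mk f))
    (n : ℕ) [SmoothOfRelativeDimension n f] [GeometricallyConnected f] :
    IsProper f ∧ Smooth f ∧ GeometricallyReduced f := by
  haveI : Smooth f := SmoothOfRelativeDimension.smooth (n := n) (f := f)
  exact ⟨isProper_of_isLocallyProjective f hproj, inferInstance,
    Groth.Agent.Lib.H9SteinSm.geometricallyReduced_of_smooth f⟩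

/-- **S19497**: reduced base -/
theorem main_reduced (hproj : RedSub.IsLocallyProjective (Over.mk f))
    (n : ℕ) [SmoothOfRelativeDimension n f] [GeometricallyConnected f]
    (ω : X.Modules) (hω : Canon.IsTopDiff f n ω) (m : ℕ)
    (htriv : ∀ s : ↥S, Nonempty ((Scheme.Modules.pullback (f.fiberι s)).obj (CohB1.tensorPow ω m) ≅
      Coh.structureModule (f.fiber s))) [AlgebraicGeometry.IsReduced S] :
    PicF.IsInvertible ((Scheme.Modules.pushforward f).obj (CohB1.tensorPow ω m)) ∧
    IsIso ((Scheme.Modules.pullbackPushforwardAdjunction f).counit.app (CohB1.tensorPow ω m)) := by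
  obtain ⟨h1, h2, h3⟩ := setup f hproj n
  haveI := h1
  haveI := h2
  haveI := h3
  have hN := isInvertible_pluricanon f n ω hω m
  exact Groth.Agent.Lib.R2H4FibTriv.main f (finrank_fiber_eq_one f) _ hN htriv

/-- **S19498**: `H¹(X_s, O) = 0` on all fibres -/
theorem main_h1 (hproj : RedSub.IsLocallyProjective (Over.mk f))
    (n : ℕ) [SmoothOfRelativeDimension n f] [GeometricallyConnected f]
    (ω : X.Modules) (hω : Canon.IsTopDiff f n ω) (m : ℕ)
    (htriv : ∀ s : ↥S, Nonempty ((Scheme.Modules.pullback (f.fiberι s)).obj (CohB1.tensorPow ω m) ≅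
      Coh.structureModule (f.fiber s)))
    (hH1 : ∀ s : ↥S, Subsingleton (Coh.HH (f.fiber s) (Coh.structureModule (f.fiber s)) 1)) :
    PicF.IsInvertible ((Scheme.Modules.pushforward f).obj (CohB1.tensorPow ω m)) ∧
    IsIso ((Scheme.Modules.pullbackPushforwardAdjunction f).counit.app (CohB1.tensorPow ω m)) := by
  obtain ⟨h1, h2, h3⟩ := setup f hproj n
  haveI := h1
  haveI := h2
  haveI := h3
  have hN := isInvertible_pluricanon f n ω hω m
  have hfV : ∀ V : S.Opens, IsIso (f.app V) := fun V =>
    Groth.Agent.Lib.H9CbH.main f (fun s => isIso_fiber_appTop f s) V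
  have hfl := Groth.Agent.Lib.R2H4TrivInt.isFlatOver_of_isInvertible f _ hN
  refine Groth.Agent.Lib.R2H4FibTriv.push_invertible_of_local_gen f hfV _ (fun y => ?_)
  obtain ⟨ε⟩ := htriv y
  have h1' : Subsingleton (CohIII.fiberH f (CohB1.tensorPow ω m) y 1) :=
    (Groth.Agent.Lib.R2H3.TopBCD.subsingleton_HH_congr ε 1).2 (hH1 y)
  obtain ⟨U, hyU, hU⟩ := Groth.Agent.Lib.R2H4NearFibre.exists_nhd_trivial f _ hN hfl y h1' ⟨ε⟩
  obtain ⟨t, ht⟩ := Groth.Agent.Lib.Helper23.SecTw.exists_isGen_of_iso _ (f ⁻¹ᵁ U) hU
  exact ⟨U, hyU, t, ht⟩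

end Main

end Groth.Agent.Lib.Helper8CanonFib5
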