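import Mathlib
import Groth.Prelude
import Groth.Agent.Lib.Helper20EffCartier
import Groth.Agent.Lib.Helper2Div
import Groth.Agent.Lib.Helper2QCoh

set_option autoImplicit false
universe u
open CategoryTheory CategoryTheory.Limits AlgebraicGeometry TopologicalSpace
open nonZeroDivisors

namespace Groth.Agent.Lib.Helper8CartierDescent

/-- if the extension of `J` along `φ` is generated by a nonzerodivisor `b`, then near any prime
`𝔮` some element of `J` generates the extension. -/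
theorem exists_gen {A B : Type*} [CommRing A] [CommRing B] (φ : A →+* B) (J : Ideal A) (b : B)
    (hb : b ∈ B⁰) (hJ : J.map φ = Ideal.span {b}) (𝔮 : Ideal B) [h𝔮 : 𝔮.IsPrime] :
    ∃ a ∈ J, ∃ d : B, d ∉ 𝔮 ∧ φ a = d * b := by
  classical
  let T : Set B := {d | ∃ a ∈ J, φ a = d * b}
  have key : ∀ x ∈ J.map φ, ∃ k ∈ Ideal.span T, x = k * b := by
    intro x hx
    refine Submodule.span_induction (p := fun x _ => ∃ k ∈ Ideal.span T, x = k * b)
      ?_ ?_ ?_ ?_ hx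
    · rintro _ ⟨a, ha, rfl⟩
      have h1 : φ a ∈ Ideal.span {b} := hJ ▸ Ideal.mem_map_of_mem φ ha
      obtain ⟨d, hd⟩ := Ideal.mem_span_singleton'.1 h1
      exact ⟨d, Ideal.subset_span ⟨a, ha, hd.symm⟩, hd.symm⟩
    · exact ⟨0, Ideal.zero_mem _, by rw [zero_mul]⟩
    · rintro x y _ _ ⟨k, hk, rfl⟩ ⟨l, hl, rfl⟩
      exact ⟨k + l, Ideal.add_mem _ hk hl, by ring⟩
    · rintro c x _ ⟨k, hk, rfl⟩
      exact ⟨c * k, Ideal.mul_mem_left _ c hk, by rw [smul_eq_mul, mul_assoc]⟩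
  obtain ⟨k, hk, hkb⟩ := key b (hJ ▸ Ideal.mem_span_singleton_self b)
  have hk1 : k = 1 := by
    have h0 : (k - 1) * b = 0 := by rw [sub_mul, one_mul, ← hkb, sub_self]
    exact sub_eq_zero.1 ((mem_nonZeroDivisors_iff_right.1 hb) _ h0)
  by_contra hcon
  push Not at hcon
  have hT : Ideal.span T ≤ 𝔮 := by
    rw [Ideal.span_le]
    rintro d ⟨a, ha, hd⟩
    by_contra hd𝔮
    exact hcon a ha d hd𝔮 hd
  exact h𝔮.ne_top ((Ideal.eq_top_iff_one _).2 (hT (hk1 ▸ hk)))

/-- ring-level descent: if `ψ` is faithfully flat, `a ∈ J` and `ψ a` is a nonzerodivisor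
generating the extension of `J`, then `a` is a nonzerodivisor generating `J`. -/
theorem gen_of_faithfullyFlat {A B : Type u} [CommRing A] [CommRing B] (ψ : A →+* B)
    (hψ : ψ.FaithfullyFlat) (J : Ideal A) (a : A) (hnzd : ψ a ∈ B⁰)
    (hJ : J.map ψ = Ideal.span {ψ a}) : a ∈ A⁰ ∧ J = Ideal.span {a} := by
  constructor
  · rw [mem_nonZeroDivisors_iff_right]
    intro x hx
    apply hψ.injective
    rw [map_zero]
    apply (mem_nonZeroDivisors_iff_right.1 hnzd)
    rw [← map_mul, hx, map_zero]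
  · algebraize [ψ]
    haveI : Module.FaithfullyFlat A B := hψ
    have h1 : (Ideal.span {a}).map (algebraMap A B) = J.map (algebraMap A B) := by
      rw [Ideal.map_span, Set.image_singleton]
      exact hJ.symm
    rw [← Ideal.comap_map_eq_self_of_faithfullyFlat (B := B) J,
      ← Ideal.comap_map_eq_self_of_faithfullyFlat (B := B) (Ideal.span {a}), h1]

/-- effective Cartier ideals descend along flat, locally finitely presented morphisms, at the
points of the image. -/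
theorem exists_gen_of_comap {U' U : Scheme.{u}} (g : U' ⟶ U) [Flat g]
    [LocallyOfFinitePresentation g] (I : U.IdealSheafData)
    (h : BlowUp.IsEffCartierIdeal (I.comap g)) (x' : U') :
    ∃ U₁ : U.affineOpens, g x' ∈ U₁.1 ∧
      ∃ f : Γ(U, U₁.1), f ∈ Γ(U, U₁.1)⁰ ∧ I.ideal U₁ = Ideal.span {f} := by
  obtain ⟨N₀, hN₀, hxN₀, -⟩ : ∃ N₀ : U.Opens, N₀ ∈ U.affineOpens ∧ g x' ∈ N₀ ∧ N₀ ≤ ⊤ :=
    (Opens.isBasis_iff_nbhd.1 U.isBasis_affineOpens) (show g x' ∈ (⊤ : U.Opens) from trivial)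
  have hN₀' : IsAffineOpen N₀ := hN₀
  obtain ⟨N', hN', hx'N', hN'le, b, hb, hIb⟩ :=
    Groth.Agent.Lib.Helper20.EffCartier.exists_le_of_isEffCartierIdeal h x' (g ⁻¹ᵁ N₀) hxN₀
  have key1 := Groth.Agent.Lib.Helper20.EffCartier.ideal_comap_eq_map g I hN' hN₀' hN'le
  have hJ : (I.ideal ⟨N₀, hN₀'⟩).map (g.appLE N₀ N' hN'le).hom = Ideal.span {b} :=
    key1.symm.trans hIb
  obtain ⟨a, ha, d, hd, hφa⟩ := exists_gen (g.appLE N₀ N' hN'le).hom (I.ideal ⟨N₀, hN₀'⟩) b hb hJ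
    (hN'.primeIdealOf ⟨x', hx'N'⟩).asIdeal
  have hx'd : x' ∈ U'.basicOpen d :=
    (Groth.Agent.Lib.Helper2.mem_basicOpen_iff_notMem_primeIdealOf hN' x' hx'N' d).2 hd
  have hopen : IsOpen (g '' (U'.basicOpen d : Set U')) :=
    g.isOpenMap _ (U'.basicOpen d).isOpen
  let W : U.Opens := ⟨g '' (U'.basicOpen d : Set U'), hopen⟩
  have hxW : g x' ∈ W := ⟨x', hx'd, rfl⟩
  obtain ⟨s, hsW, hxs⟩ := hN₀'.exists_basicOpen_le ⟨g x', hxW⟩ hxN₀
  have hN : IsAffineOpen (U.basicOpen s) := hN₀'.basicOpen s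
  have hφs : U'.basicOpen ((g.appLE N₀ N' hN'le).hom s) = N' ⊓ g ⁻¹ᵁ U.basicOpen s := by
    rw [Scheme.preimage_basicOpen]
    exact Scheme.basicOpen_res U' ((g.app N₀).hom s) (homOfLE hN'le).op
  have hN'' : IsAffineOpen (U'.basicOpen (d * (g.appLE N₀ N' hN'le).hom s)) := hN'.basicOpen _
  have hbt : U'.basicOpen (d * (g.appLE N₀ N' hN'le).hom s) =
      U'.basicOpen d ⊓ (N' ⊓ g ⁻¹ᵁ U.basicOpen s) := by
    rw [Scheme.basicOpen_mul, hφs]
  have e : U'.basicOpen (d * (g.appLE N₀ N' hN'le).hom s) ≤ g ⁻¹ᵁ U.basicOpen s := by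
    rw [hbt]; exact inf_le_right.trans inf_le_right
  have hle' : U'.basicOpen (d * (g.appLE N₀ N' hN'le).hom s) ≤ N' := U'.basicOpen_le _
  have hled : U'.basicOpen (d * (g.appLE N₀ N' hN'le).hom s) ≤ U'.basicOpen d := by
    rw [hbt]; exact inf_le_left
  -- the faithfully flat ring map
  have hflat : (g.appLE (U.basicOpen s) (U'.basicOpen (d * (g.appLE N₀ N' hN'le).hom s)) e).hom.Flat :=
    HasRingHomProperty.appLE (P := @Flat) g inferInstance ⟨_, hN⟩ ⟨_, hN''⟩ e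
  have hsurj : Function.Surjective (PrimeSpectrum.comap
      (g.appLE (U.basicOpen s) (U'.basicOpen (d * (g.appLE N₀ N' hN'le).hom s)) e).hom) := by
    intro 𝔭
    have hy : hN.fromSpec 𝔭 ∈ U.basicOpen s := Groth.Agent.Lib.Helper2.QCoh.fromSpec_mem hN 𝔭
    obtain ⟨z, hzd, hzy⟩ := hsW hy
    have hzd' : z ∈ U'.basicOpen d := hzd
    have hz : z ∈ U'.basicOpen (d * (g.appLE N₀ N' hN'le).hom s) := by
      rw [hbt]
      refine ⟨hzd', U'.basicOpen_le d hzd', ?_⟩
      change g z ∈ U.basicOpen s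
      rw [hzy]; exact hy
    refine ⟨hN''.primeIdealOf ⟨z, hz⟩, ?_⟩
    apply hN.fromSpec.isOpenEmbedding.injective
    have h1 : hN.fromSpec ((Spec.map (g.appLE (U.basicOpen s)
        (U'.basicOpen (d * (g.appLE N₀ N' hN'le).hom s)) e)) (hN''.primeIdealOf ⟨z, hz⟩)) =
        g (hN''.fromSpec (hN''.primeIdealOf ⟨z, hz⟩)) := by
      have h0 := IsAffineOpen.SpecMap_appLE_fromSpec g hN hN'' e
      exact (Scheme.Hom.comp_apply _ _ _).symm.trans
        ((congrArg (fun m : Spec Γ(U', U'.basicOpen (d * (g.appLE N₀ N' hN'le).hom s)) ⟶ U =>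
          m (hN''.primeIdealOf ⟨z, hz⟩)) h0).trans (Scheme.Hom.comp_apply _ _ _))
    rw [hN''.fromSpec_primeIdealOf ⟨z, hz⟩] at h1
    exact h1.trans hzy
  have hff : (g.appLE (U.basicOpen s) (U'.basicOpen (d * (g.appLE N₀ N' hN'le).hom s)) e).hom.FaithfullyFlat :=
    RingHom.FaithfullyFlat.iff_flat_and_comap_surjective.2 ⟨hflat, hsurj⟩
  -- restriction maps
  let r := U.presheaf.map (homOfLE (U.basicOpen_le s)).op
  let r' := U'.presheaf.map (homOfLE hle').op
  have hcomm : r ≫ g.appLE (U.basicOpen s) (U'.basicOpen (d * (g.appLE N₀ N' hN'le).hom s)) e =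
      g.appLE N₀ N' hN'le ≫ r' :=
    (Scheme.Hom.map_appLE g e (homOfLE (U.basicOpen_le s)).op).trans
      (Scheme.Hom.appLE_map g hN'le (homOfLE hle').op).symm
  have hcomm_a : (g.appLE (U.basicOpen s) (U'.basicOpen (d * (g.appLE N₀ N' hN'le).hom s)) e).hom
      (r.hom a) = r'.hom d * r'.hom b := by
    have h2 := congrArg (fun m => m.hom a) hcomm
    simp only [CommRingCat.hom_comp, RingHom.comp_apply] at h2
    rw [h2, hφa, map_mul]
  -- the unit
  have hunit : IsUnit (r'.hom d) := by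
    have h3 := U'.toRingedSpace.isUnit_res_basicOpen d
    have h4 : r'.hom d = (U'.presheaf.map (homOfLE hled).op).hom
        ((U'.presheaf.map (homOfLE (U'.basicOpen_le d)).op).hom d) := by
      rw [← RingHom.comp_apply, ← CommRingCat.hom_comp, ← Functor.map_comp]
      rfl
    rw [h4]
    exact h3.map _
  -- nonzerodivisor upstairs
  have hnzd' : r'.hom b ∈ Γ(U', U'.basicOpen (d * (g.appLE N₀ N' hN'le).hom s))⁰ := by
    have inst := hN'.isLocalization_basicOpen (d * (g.appLE N₀ N' hN'le).hom s)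
    have h1 : r'.hom = algebraMap _ _ := rfl
    rw [h1]
    exact IsLocalization.map_nonZeroDivisors_le (.powers (d * (g.appLE N₀ N' hN'le).hom s)) _
      (Submonoid.mem_map_of_mem _ hb)
  have hnzd : (g.appLE (U.basicOpen s) (U'.basicOpen (d * (g.appLE N₀ N' hN'le).hom s)) e).hom
      (r.hom a) ∈ Γ(U', U'.basicOpen (d * (g.appLE N₀ N' hN'le).hom s))⁰ := by
    rw [hcomm_a]
    exact mul_mem (IsUnit.mem_nonZeroDivisors hunit) hnzd'
  -- the ideal upstairs
  have hI1 : (I.ideal ⟨U.basicOpen s, hN⟩).map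
      (g.appLE (U.basicOpen s) (U'.basicOpen (d * (g.appLE N₀ N' hN'le).hom s)) e).hom =
      Ideal.span {(g.appLE (U.basicOpen s) (U'.basicOpen (d * (g.appLE N₀ N' hN'le).hom s)) e).hom
        (r.hom a)} := by
    rw [← Groth.Agent.Lib.Helper20.EffCartier.ideal_comap_eq_map g I hN'' hN e]
    have h5 := (I.comap g).map_ideal_basicOpen ⟨N', hN'⟩ (d * (g.appLE N₀ N' hN'le).hom s)
    rw [hIb, Ideal.map_span, Set.image_singleton] at h5
    rw [hcomm_a]
    refine (h5.symm).trans ?_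
    exact (Ideal.span_singleton_mul_left_unit hunit _).symm
  obtain ⟨h6, h7⟩ := gen_of_faithfullyFlat _ hff (I.ideal ⟨U.basicOpen s, hN⟩) (r.hom a) hnzd hI1
  exact ⟨⟨U.basicOpen s, hN⟩, hxs, r.hom a, h6, h7⟩

/-- effective Cartier ideals descend along flat, locally finitely presented, surjective
morphisms. -/
theorem isEffCartierIdeal_of_comap {U' U : Scheme.{u}} (g : U' ⟶ U) [Flat g]
    [LocallyOfFinitePresentation g] [Surjective g] (I : U.IdealSheafData)
    (h : BlowUp.IsEffCartierIdeal (I.comap g)) : BlowUp.IsEffCartierIdeal I := by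
  intro x
  obtain ⟨x', rfl⟩ := g.surjective x
  exact exists_gen_of_comap g I h x'

/-- an ideal sheaf is locally the unit ideal away from its support. -/
theorem exists_gen_of_notMem_support {X : Scheme.{u}} (I : X.IdealSheafData) (x : X)
    (hx : x ∉ I.support) :
    ∃ U₁ : X.affineOpens, x ∈ U₁.1 ∧
      ∃ f : Γ(X, U₁.1), f ∈ Γ(X, U₁.1)⁰ ∧ I.ideal U₁ = Ideal.span {f} := by
  obtain ⟨U₀, hU₀, hxU₀, -⟩ : ∃ U₀ : X.Opens, U₀ ∈ X.affineOpens ∧ x ∈ U₀ ∧ U₀ ≤ ⊤ :=
    (Opens.isBasis_iff_nbhd.1 X.isBasis_affineOpens) (show x ∈ (⊤ : X.Opens) from trivial)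
  have hU₀' : IsAffineOpen U₀ := hU₀
  rw [Scheme.IdealSheafData.mem_support_iff_of_mem (U := ⟨U₀, hU₀'⟩) hxU₀,
    Scheme.mem_zeroLocus_iff] at hx
  push Not at hx
  obtain ⟨r, hr, hxr⟩ := hx
  refine ⟨⟨X.basicOpen r, hU₀'.basicOpen r⟩, hxr, 1, one_mem _, ?_⟩
  have h2 := I.map_ideal_basicOpen ⟨U₀, hU₀'⟩ r
  have h3 : (X.presheaf.map (homOfLE (X.basicOpen_le r)).op).hom r ∈
      I.ideal (X.affineBasicOpen r) := by
    rw [← h2]; exact Ideal.mem_map_of_mem _ hr
  have h4 : IsUnit ((X.presheaf.map (homOfLE (X.basicOpen_le r)).op).hom r) :=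
    X.toRingedSpace.isUnit_res_basicOpen r
  have h5 : I.ideal (X.affineBasicOpen r) = ⊤ := Ideal.eq_top_of_isUnit_mem _ h3 h4
  rw [Ideal.span_singleton_one]
  exact h5

/-- on an affine scheme, an ideal sheaf whose global ideal is generated by a nonzerodivisor is
effective Cartier. -/
theorem isEffCartierIdeal_of_top {X : Scheme.{u}} [IsAffine X] (I : X.IdealSheafData)
    (f : Γ(X, ⊤)) (hf : f ∈ Γ(X, ⊤)⁰) (hI : I.ideal ⟨⊤, isAffineOpen_top X⟩ = Ideal.span {f}) :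
    BlowUp.IsEffCartierIdeal I :=
  fun _ => ⟨⟨⊤, isAffineOpen_top X⟩, trivial, f, hf, hI⟩

end Groth.Agent.Lib.Helper8CartierDescent
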