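import Mathlib
import Groth.Prelude
import Groth.Agent.Lib.H5bFibCrit

set_option autoImplicit false
universe u
open CategoryTheory CategoryTheory.Limits AlgebraicGeometry Topology TopologicalSpace
open AlgSp

namespace Groth.Agent.Lib.Helper8EffCartier

variable {S : Scheme.{u}}

/-- the scheme-level map `Z(h⁻¹ I) ⟶ Z(I)`. -/
noncomputable def comapMapSch {V W : Scheme.{u}} (I : V.IdealSheafData) (h : W ⟶ V) :
    (I.comap h).subscheme ⟶ I.subscheme :=
  (I.comapIso h).hom ≫ pullback.snd h I.subschemeι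

lemma comapMapSch_comm {V W : Scheme.{u}} (I : V.IdealSheafData) (h : W ⟶ V) :
    (I.comap h).subschemeι ≫ h = comapMapSch I h ≫ I.subschemeι := by
  change _ = ((I.comapIso h).hom ≫ pullback.snd h I.subschemeι) ≫ I.subschemeι
  rw [Category.assoc, ← pullback.condition, ← Category.assoc,
    Scheme.IdealSheafData.comapIso_hom_fst]

lemma isPullback_comapMapSch {V W : Scheme.{u}} (I : V.IdealSheafData) (h : W ⟶ V) :
    IsPullback (I.comap h).subschemeι (comapMapSch I h) h I.subschemeι :=
  AlgebraicGeometry.isPullback_of_isClosedImmersion _ _ (comapMapSch I h) h (comapMapSch_comm I h)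
    (by rw [Scheme.IdealSheafData.ker_subschemeι, Scheme.IdealSheafData.ker_subschemeι])

instance etale_comapMapSch {V W : Scheme.{u}} (I : V.IdealSheafData) (h : W ⟶ V) [Etale h] :
    Etale (comapMapSch I h) := by
  unfold comapMapSch
  infer_instance

/-- the map `Z(h⁻¹ I) ⟶ Z(I)` over `S`. -/
noncomputable def comapMap {V W : Over S} (I : V.left.IdealSheafData) (h : W ⟶ V) :
    Over.mk ((I.comap h.left).subschemeι ≫ W.hom) ⟶ Over.mk (I.subschemeι ≫ V.hom) :=
  Over.homMk (comapMapSch I h.left) (by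
    change comapMapSch I h.left ≫ I.subschemeι ≫ V.hom = (I.comap h.left).subschemeι ≫ W.hom
    rw [← Category.assoc, ← comapMapSch_comm, Category.assoc, Over.w h])

lemma comapMap_comm {V W : Over S} (I : V.left.IdealSheafData) (h : W ⟶ V) :
    (Over.homMk (I.comap h.left).subschemeι rfl :
      Over.mk ((I.comap h.left).subschemeι ≫ W.hom) ⟶ W) ≫ h =
      comapMap I h ≫ (Over.homMk I.subschemeι rfl : Over.mk (I.subschemeι ≫ V.hom) ⟶ V) := by
  ext
  exact comapMapSch_comm I h.left

lemma isPullback_comapMap {V W : Over S} (I : V.left.IdealSheafData) (h : W ⟶ V) :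
    IsPullback ((yon S).map (Over.homMk (I.comap h.left).subschemeι rfl :
        Over.mk ((I.comap h.left).subschemeι ≫ W.hom) ⟶ W))
      ((yon S).map (comapMap I h)) ((yon S).map h)
      ((yon S).map (Over.homMk I.subschemeι rfl : Over.mk (I.subschemeι ≫ V.hom) ⟶ V)) :=
  Groth.Agent.Lib.H5bFibCrit.isPullback_yon_of_left _ (comapMap I h) h _ (comapMap_comm I h)
    (isPullback_comapMapSch I h.left)

/-- the closed subscheme of a chart cutting out `D`, pulled back along a morphism of charts, cuts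
out the pulled back closed subspace. -/
theorem exists_isPullback_comap {X' X D D' : Sp S} {g' : X' ⟶ X} {i : D ⟶ X} {k : D' ⟶ D}
    {i' : D' ⟶ X'} (hD' : IsPullback k i' i g') {V : Over S} {φ : (yon S).obj V ⟶ X}
    (I : V.left.IdealSheafData)
    {fstD : (yon S).obj (Over.mk (I.subschemeι ≫ V.hom)) ⟶ D}
    (sqD : IsPullback fstD
      ((yon S).map (Over.homMk I.subschemeι rfl : Over.mk (I.subschemeι ≫ V.hom) ⟶ V)) i φ)
    {W : Over S} (φ' : (yon S).obj W ⟶ X') (h : W ⟶ V)
    (hcomm : φ' ≫ g' = (yon S).map h ≫ φ) :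
    ∃ fst'' : (yon S).obj (Over.mk ((I.comap h.left).subschemeι ≫ W.hom)) ⟶ D',
      IsPullback fst'' ((yon S).map (Over.homMk (I.comap h.left).subschemeι rfl :
        Over.mk ((I.comap h.left).subschemeι ≫ W.hom) ⟶ W)) i' φ' ∧
      fst'' ≫ k = (yon S).map (comapMap I h) ≫ fstD := by
  have big := (isPullback_comapMap I h).flip.paste_horiz sqD
  have hlift : ((yon S).map (comapMap I h) ≫ fstD) ≫ i =
      ((yon S).map (Over.homMk (I.comap h.left).subschemeι rfl :
        Over.mk ((I.comap h.left).subschemeι ≫ W.hom) ⟶ W) ≫ φ') ≫ g' := by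
    rw [big.w, Category.assoc, hcomm]
  have h1 : hD'.lift _ _ hlift ≫ k = (yon S).map (comapMap I h) ≫ fstD := hD'.lift_fst _ _ _
  have h2 : hD'.lift _ _ hlift ≫ i' = (yon S).map (Over.homMk (I.comap h.left).subschemeι rfl :
        Over.mk ((I.comap h.left).subschemeι ≫ W.hom) ⟶ W) ≫ φ' := hD'.lift_snd _ _ _
  have big' : IsPullback (hD'.lift _ _ hlift ≫ k)
      ((yon S).map (Over.homMk (I.comap h.left).subschemeι rfl :
        Over.mk ((I.comap h.left).subschemeι ≫ W.hom) ⟶ W)) i (φ' ≫ g') := by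
    rw [h1, hcomm]; exact big
  exact ⟨hD'.lift _ _ hlift, IsPullback.of_right big' h2 hD', h1⟩

end Groth.Agent.Lib.Helper8EffCartier
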