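import Mathlib
import Groth.Prelude
import Groth.Agent.Lib.Helper8CartierDescent
import Groth.Agent.Lib.Helper8EffCartier
import Groth.Agent.Lib.Helper8CutOut
import Groth.Agent.S10855

set_option autoImplicit false
universe u
open CategoryTheory CategoryTheory.Limits AlgebraicGeometry Topology TopologicalSpace
open AlgSp

namespace Groth.Agent.Lib.Helper8CartierChart

open Groth.Agent.Lib.Helper8EffCartier Groth.Agent.Lib.Helper8CutOut

variable {S : Scheme.{u}}

/-- two ideal sheaves on a chart cutting out the inverse image of the same closed subspace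
agree. -/
theorem ideal_eq_of_isPullback {X D : Sp S} {i : D ⟶ X} {V : Over S} {φ : (yon S).obj V ⟶ X}
    (I₁ I₂ : V.left.IdealSheafData)
    {f₁ : (yon S).obj (Over.mk (I₁.subschemeι ≫ V.hom)) ⟶ D}
    {f₂ : (yon S).obj (Over.mk (I₂.subschemeι ≫ V.hom)) ⟶ D}
    (sq₁ : IsPullback f₁ ((yon S).map (Over.homMk I₁.subschemeι rfl :
      Over.mk (I₁.subschemeι ≫ V.hom) ⟶ V)) i φ)
    (sq₂ : IsPullback f₂ ((yon S).map (Over.homMk I₂.subschemeι rfl :
      Over.mk (I₂.subschemeι ≫ V.hom) ⟶ V)) i φ) : I₁ = I₂ := by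
  have h1 : (sq₁.isoIsPullback _ _ sq₂).hom ≫ (yon S).map (Over.homMk I₂.subschemeι rfl :
      Over.mk (I₂.subschemeι ≫ V.hom) ⟶ V) = (yon S).map (Over.homMk I₁.subschemeι rfl :
      Over.mk (I₁.subschemeι ≫ V.hom) ⟶ V) := sq₁.isoIsPullback_hom_snd _ _ sq₂
  let ε : Over.mk (I₁.subschemeι ≫ V.hom) ≅ Over.mk (I₂.subschemeι ≫ V.hom) :=
    (yon S).preimageIso (sq₁.isoIsPullback _ _ sq₂)
  have hε : (yon S).map ε.hom = (sq₁.isoIsPullback _ _ sq₂).hom := by
    simp [ε]
  have h2 : ε.hom ≫ (Over.homMk I₂.subschemeι rfl : Over.mk (I₂.subschemeι ≫ V.hom) ⟶ V) =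
      (Over.homMk I₁.subschemeι rfl : Over.mk (I₁.subschemeι ≫ V.hom) ⟶ V) := by
    apply (yon S).map_injective
    rw [Functor.map_comp, hε, h1]
  have h3 : ε.hom.left ≫ I₂.subschemeι = I₁.subschemeι := by
    have := congrArg (fun m => m.left) h2
    exact this
  haveI : IsIso ε.hom.left := inferInstanceAs (IsIso ((Over.forget S).map ε.hom))
  rw [← I₁.ker_subschemeι, ← h3, Scheme.Hom.ker_comp_of_isIso, I₂.ker_subschemeι]

/-- an effective Cartier divisor (one-chart sense) is cut out by an effective Cartier ideal on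
every étale chart. -/
theorem isEffCartierIdeal_of_chart {X D : Sp S} {i : D ⟶ X} (hD : IsEffCartierSub i)
    {U : Over S} (φ : (yon S).obj U ⟶ X) (hφ : RepWith @Etale φ) (I : U.left.IdealSheafData)
    (fst : (yon S).obj (Over.mk (I.subschemeι ≫ U.hom)) ⟶ D)
    (sq : IsPullback fst ((yon S).map (Over.homMk I.subschemeι rfl :
      Over.mk (I.subschemeι ≫ U.hom) ⟶ U)) i φ) : BlowUp.IsEffCartierIdeal I := by
  obtain ⟨hcl, V, φV, IV, fstD, hφe, hφs, sqD, hIV⟩ := hD
  obtain ⟨W, sndW, fst', sqW⟩ := hφe.1 φ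
  obtain ⟨hh, rfl⟩ := (yon S).map_surjective fst'
  haveI hsE : Etale sndW.left := hφe.2 _ _ sndW sqW
  haveI hsS : Surjective sndW.left := hφs.2 _ _ sndW sqW
  haveI hhE : Etale hh.left := hφ.2 _ _ hh sqW.flip
  have hid := IsPullback.id_horiz i
  have hc1 : ((yon S).map sndW ≫ φ) ≫ 𝟙 X = (yon S).map hh ≫ φV := by
    rw [Category.comp_id]; exact sqW.w.symm
  have hc2 : ((yon S).map sndW ≫ φ) ≫ 𝟙 X = (yon S).map sndW ≫ φ := Category.comp_id _
  obtain ⟨g1, sq1, -⟩ := exists_isPullback_comap hid IV sqD ((yon S).map sndW ≫ φ) hh hc1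
  obtain ⟨g2, sq2, -⟩ := exists_isPullback_comap hid I sq ((yon S).map sndW ≫ φ) sndW hc2
  have heq : IV.comap hh.left = I.comap sndW.left := ideal_eq_of_isPullback _ _ sq1 sq2
  have h1 : BlowUp.IsEffCartierIdeal (IV.comap hh.left) := Groth.Agent.S10855.result hh.left IV hIV
  rw [heq] at h1
  exact Groth.Agent.Lib.Helper8CartierDescent.isEffCartierIdeal_of_comap sndW.left I h1

/-- a closed subspace cut out by an effective Cartier ideal on the kernel chart of an atlas is
an effective Cartier divisor. -/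
theorem isEffCartierSub_of_forall {X D : Sp S} (hX : IsAlgSpace X) {i : D ⟶ X}
    (hi : RepWith @IsClosedImmersion i)
    (h : ∀ (U : Over S) (φ : (yon S).obj U ⟶ X), RepWith @Etale φ →
        ∀ (I : U.left.IdealSheafData)
          (fst : (yon S).obj (Over.mk (I.subschemeι ≫ U.hom)) ⟶ D),
          IsPullback fst ((yon S).map (Over.homMk I.subschemeι rfl :
            Over.mk (I.subschemeι ≫ U.hom) ⟶ U)) i φ → BlowUp.IsEffCartierIdeal I) :
    IsEffCartierSub i := by
  obtain ⟨V, p, hpe, hps⟩ := hX.atlas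
  obtain ⟨ZV, sndV, fstV, sqV⟩ := hi.1 p
  haveI : IsClosedImmersion sndV.left := hi.2 _ _ sndV sqV
  obtain ⟨fst, sq⟩ := exists_isPullback_ker sqV
  exact ⟨hi, V, p, sndV.left.ker, fst, hpe, hps, sq, h V p hpe _ fst sq⟩

end Groth.Agent.Lib.Helper8CartierChart
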