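import Mathlib
import Groth.Prelude.Def_EtCech
import Groth.Agent.Lib.Helper21CechFree
import Groth.Agent.Lib.Helper9CechDelta

/-!
# Evaluation of Čech cochains at tuples of points, in the over category (helper8)

For a family `Y : ι → Over W` and a presheaf `P` on `C` (general universes): a *point* with values
in `Z : Over W` is an index `i` and a morphism `Z ⟶ Y i`; a tuple `e` of `n+1` points gives
`ev Y P e : Č^n(Y, P) ⟶ P(Z)`.  `d_ev` computes the differential, `ev_pre` the restriction,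
`ev_map` the naturality in `P`, and `ext_ev` says that cochains are determined by their evaluations.
-/

set_option autoImplicit false
set_option linter.unusedSectionVars false
universe w v₁ u₁
open CategoryTheory CategoryTheory.Limits Opposite

namespace Groth.Agent.Lib.Helper8CechEv
open Groth.Agent.Lib.Helper21.CechFree

variable {C : Type u₁} [Category.{v₁} C] {W : C} [HasFiniteProducts (Over W)] {ι : Type w}
  (Y : ι → Over W)

/-- a point of the family with values in `Z : Over W` -/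
structure Pt (Z : Over W) where
  /-- the index -/
  idx : ι
  /-- the morphism -/
  map : Z ⟶ Y idx

variable {Y}

/-- precomposition -/
def Pt.pre {Z Z' : Over W} (t : Z' ⟶ Z) (x : Pt Y Z) : Pt Y Z' := ⟨x.idx, t ≫ x.map⟩

variable (Y)

/-- the morphism to the fibre product determined by a tuple of points -/
noncomputable def tup {Z : Over W} {n : ℕ} (e : Fin (n + 1) → Pt Y Z) :
    Z ⟶ fp Y (fun a => (e a).idx) :=
  Pi.lift (f := Y ∘ fun a => (e a).idx) (fun a => (e a).map)

theorem tup_π {Z : Over W} {n : ℕ} (e : Fin (n + 1) → Pt Y Z) (a : Fin (n + 1)) :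
    tup Y e ≫ Pi.π (Y ∘ fun a => (e a).idx) a = (e a).map :=
  Pi.lift_π _ _

theorem tup_dmap {Z : Over W} {n : ℕ} (e : Fin (n + 2) → Pt Y Z) (j : Fin (n + 2)) :
    tup Y e ≫ dmap Y j (fun a => (e a).idx) = tup Y (e ∘ Fin.succAbove j) := by
  refine Pi.hom_ext (f := Y ∘ fun a => ((e ∘ Fin.succAbove j) a).idx) _ _ (fun a => ?_)
  have h1 : dmap Y j (fun a => (e a).idx) ≫ Pi.π (Y ∘ fun a => ((e ∘ Fin.succAbove j) a).idx) a =
      Pi.π (Y ∘ fun a => (e a).idx) (Fin.succAbove j a) := dmap_π Y j _ a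
  rw [Category.assoc, h1, tup_π]
  exact (tup_π Y (e ∘ Fin.succAbove j) a).symm

theorem tup_pre {Z Z' : Over W} (t : Z' ⟶ Z) {n : ℕ} (e : Fin (n + 1) → Pt Y Z) :
    t ≫ tup Y e = tup Y (fun a => (e a).pre t) := by
  refine Pi.hom_ext (f := Y ∘ fun a => (e a).idx) _ _ (fun a => ?_)
  rw [Category.assoc, tup_π]
  exact (tup_π Y (fun a => (e a).pre t) a).symm

variable (P : Cᵒᵖ ⥤ AddCommGrpCat.{w})

/-- evaluation of Čech cochains at a tuple of points -/
noncomputable def ev {Z : Over W} {n : ℕ} (e : Fin (n + 1) → Pt Y Z) :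
    (EtCech.cechComplex Y P).X n ⟶ P.obj (op Z.left) :=
  proj Y P n (fun a => (e a).idx) ≫ P.map (tup Y e).left.op

theorem ev_pre {Z Z' : Over W} (t : Z' ⟶ Z) {n : ℕ} (e : Fin (n + 1) → Pt Y Z) :
    ev Y P e ≫ P.map t.left.op = ev Y P (fun a => (e a).pre t) := by
  have h1 : P.map (tup Y e).left.op ≫ P.map t.left.op = P.map (t ≫ tup Y e).left.op := by
    rw [← P.map_comp]
    rfl
  rw [ev, Category.assoc, h1, tup_pre]
  rfl

theorem face_ev {Z : Over W} {n : ℕ} (e : Fin (n + 2) → Pt Y Z) (j : Fin (n + 2)) :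
    face Y P n j ≫ ev Y P e = ev Y P (e ∘ Fin.succAbove j) := by
  rw [ev, ← Category.assoc, face_π, Category.assoc]
  have h1 : P.map (dmap Y j (fun a => (e a).idx)).left.op ≫ P.map (tup Y e).left.op =
      P.map (tup Y e ≫ dmap Y j (fun a => (e a).idx)).left.op := by
    rw [← P.map_comp]
    rfl
  rw [h1, tup_dmap]
  rfl

theorem d_ev {Z : Over W} {n : ℕ} (e : Fin (n + 2) → Pt Y Z) :
    (EtCech.cechComplex Y P).d n (n + 1) ≫ ev Y P e =
      ∑ j : Fin (n + 2), (-1 : ℤ) ^ (j : ℕ) • ev Y P (e ∘ Fin.succAbove j) := by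
  rw [cx_d, Preadditive.sum_comp]
  refine Finset.sum_congr rfl (fun j _ => ?_)
  rw [Preadditive.zsmul_comp, face_ev]

/-- the canonical tuple of points of the fibre product -/
noncomputable def canPt {n : ℕ} (i : Fin (n + 1) → ι) : Fin (n + 1) → Pt Y (fp Y i) :=
  fun a => ⟨i a, Pi.π (Y ∘ i) a⟩

theorem tup_canPt {n : ℕ} (i : Fin (n + 1) → ι) : tup Y (canPt Y i) = 𝟙 (fp Y i) := by
  refine Pi.hom_ext (f := Y ∘ i) _ _ (fun a => ?_)
  rw [Category.id_comp]
  exact tup_π Y (canPt Y i) a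

theorem proj_eq_ev {n : ℕ} (i : Fin (n + 1) → ι) : proj Y P n i = ev Y P (canPt Y i) := by
  have h2 : P.map (tup Y (canPt Y i)).left.op = 𝟙 (P.obj (op (fp Y i).left)) := by
    have := congrArg (fun s : fp Y i ⟶ fp Y i => P.map s.left.op) (tup_canPt Y i)
    exact this.trans (P.map_id _)
  change proj Y P n i = proj Y P n i ≫ P.map (tup Y (canPt Y i)).left.op
  exact ((congrArg (fun s => proj Y P n i ≫ s) h2).trans (Category.comp_id _)).symm

theorem ext_ev {n : ℕ} (c c' : (EtCech.cechComplex Y P).X n)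
    (h : ∀ (Z : Over W) (e : Fin (n + 1) → Pt Y Z), (ev Y P e).hom c = (ev Y P e).hom c') :
    c = c' := by
  apply X_ext
  intro i
  rw [proj_eq_ev]
  exact h _ _

open Groth.Agent.Lib.Helper9.CechDelta in
theorem ev_map {P Q : Cᵒᵖ ⥤ AddCommGrpCat.{w}} (φ : P ⟶ Q) {Z : Over W} {n : ℕ}
    (e : Fin (n + 1) → Pt Y Z) :
    ((G Y).map φ).f n ≫ ev Y Q e = ev Y P e ≫ φ.app (op Z.left) := by
  rw [ev, ← Category.assoc, cxMap_proj, Category.assoc, ev, Category.assoc]
  congr 1
  exact (φ.naturality _).symm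

end Groth.Agent.Lib.Helper8CechEv
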