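import Mathlib
import Groth.Prelude.Def_EtCech
import Groth.Agent.Lib.Helper8CechEv
import Groth.Agent.Lib.Helper16CechLow

/-!
# Vanishing of Čech `Ȟ¹` of the kernel gives surjectivity on sections (helper8)

Site `C : Type (u+1)` with `Category.{u}` (e.g. `X.Etale`), sheaves valued in `AddCommGrpCat.{u+1}`.
`sections_surjective`: for a short exact sequence of abelian sheaves `0 → F' → F → F'' → 0` and an
object `W` such that `Ȟ¹(𝒰, F') = 0` for every covering family `𝒰` of `W`, the map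
`F(W) → F''(W)` is surjective.
-/

set_option autoImplicit false
set_option linter.unusedSectionVars false
universe u
open CategoryTheory CategoryTheory.Limits Opposite

namespace Groth.Agent.Lib.Helper8CechSurj
open Groth.Agent.Lib.Helper21.CechFree Groth.Agent.Lib.Helper8CechEv
  Groth.Agent.Lib.Helper9.CechDelta

section elementwise

universe w v₁ u₁
variable {C : Type u₁} [Category.{v₁} C] {W : C} [HasFiniteProducts (Over W)] {ι : Type w}
  (Y : ι → Over W) (P : Cᵒᵖ ⥤ AddCommGrpCat.{w})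

theorem hom_sum_apply' {M N : AddCommGrpCat.{w}} {κ : Type*} (s : Finset κ) (f : κ → (M ⟶ N))
    (x : M) : (∑ j ∈ s, f j).hom x = ∑ j ∈ s, (f j).hom x := by
  classical
  induction s using Finset.induction_on with
  | empty => simp
  | insert a s ha ih =>
    rw [Finset.sum_insert ha, Finset.sum_insert ha, ← ih]
    rfl

theorem ev_map_apply {P Q : Cᵒᵖ ⥤ AddCommGrpCat.{w}} (φ : P ⟶ Q) {Z : Over W} {n : ℕ}
    (e : Fin (n + 1) → Pt Y Z) (c : (EtCech.cechComplex Y P).X n) :
    (ev Y Q e).hom ((((G Y).map φ).f n).hom c) = (φ.app (op Z.left)).hom ((ev Y P e).hom c) :=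
  ConcreteCategory.congr_hom (ev_map Y φ e) c

theorem ev_pre_apply {Z Z' : Over W} (t : Z' ⟶ Z) {n : ℕ} (e : Fin (n + 1) → Pt Y Z)
    (c : (EtCech.cechComplex Y P).X n) :
    (P.map t.left.op).hom ((ev Y P e).hom c) = (ev Y P (fun a => (e a).pre t)).hom c :=
  ConcreteCategory.congr_hom (ev_pre Y P t e) c

/-- the differential in degree `0`, evaluated at a pair of points -/
theorem d_ev_one {Z : Over W} (e : Fin 2 → Pt Y Z) (c : (EtCech.cechComplex Y P).X 0) :
    (ev Y P e).hom (((EtCech.cechComplex Y P).d 0 1).hom c) =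
      (ev Y P (e ∘ Fin.succAbove 0)).hom c - (ev Y P (e ∘ Fin.succAbove 1)).hom c := by
  have h := ConcreteCategory.congr_hom (d_ev Y P e) c
  rw [ConcreteCategory.comp_apply] at h
  refine h.trans ?_
  rw [hom_sum_apply', Fin.sum_univ_two]
  change (1 : ℤ) • (ev Y P (e ∘ Fin.succAbove 0)).hom c +
    ((-1 : ℤ) ^ 1) • (ev Y P (e ∘ Fin.succAbove 1)).hom c = _
  rw [one_smul, pow_one, neg_one_smul, sub_eq_add_neg]

/-- the `0`-cochain attached to a family of sections -/
noncomputable def mk0 (t : ∀ i, P.obj (op (Y i).left)) : (EtCech.cechComplex Y P).X 0 :=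
  mkX Y P (fun i : Fin 1 → ι => (P.map (Pi.π (Y ∘ i) 0).left.op).hom (t (i 0)))

theorem ev_mk0 (t : ∀ i, P.obj (op (Y i).left)) {Z : Over W} (e : Fin 1 → Pt Y Z) :
    (ev Y P e).hom (mk0 Y P t) = (P.map (e 0).map.left.op).hom (t (e 0).idx) := by
  have h0 : (ev Y P e).hom (mk0 Y P t) =
      (P.map (tup Y e).left.op).hom ((proj Y P 0 (fun a => (e a).idx)).hom (mk0 Y P t)) := rfl
  rw [h0, mk0, proj_mkX]
  have h1 : P.map (Pi.π (Y ∘ fun a => (e a).idx) 0).left.op ≫ P.map (tup Y e).left.op =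
      P.map (tup Y e ≫ Pi.π (Y ∘ fun a => (e a).idx) 0).left.op := by
    rw [← P.map_comp]
    rfl
  have h2 := ConcreteCategory.congr_hom h1 (t (e 0).idx)
  rw [ConcreteCategory.comp_apply] at h2
  refine h2.trans ?_
  rw [tup_π]

end elementwise

variable {C : Type (u + 1)} [Category.{u} C] (J : GrothendieckTopology C)
  (S : ShortComplex (Sheaf J AddCommGrpCat.{u + 1})) (hS : S.ShortExact)

include hS in
lemma sec_exact (T : C) (x : S.X₂.obj.obj (op T)) (hx : (S.g.hom.app (op T)).hom x = 0) :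
    ∃ y : S.X₁.obj.obj (op T), (S.f.hom.app (op T)).hom y = x := by
  have h1 : (S.map (sheafToPresheaf J AddCommGrpCat.{u + 1})).Exact :=
    hS.exact.map_of_mono_of_preservesKernel _ hS.mono_f inferInstance
  have h2 : ((S.map (sheafToPresheaf J AddCommGrpCat.{u + 1})).map
      ((evaluation _ _).obj (op T))).Exact := h1.map _
  exact (ShortComplex.ab_exact_iff _).1 h2 x hx

include hS in
lemma sec_inj (T : C) : Function.Injective (S.f.hom.app (op T)).hom := by
  haveI := hS.mono_f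
  haveI : Mono ((sheafToPresheaf J AddCommGrpCat.{u + 1}).map S.f) := inferInstance
  haveI : Mono (((sheafToPresheaf J AddCommGrpCat.{u + 1}).map S.f).app (op T)) := inferInstance
  exact (AddCommGrpCat.mono_iff_injective _).1
    (inferInstanceAs (Mono (((sheafToPresheaf J AddCommGrpCat.{u + 1}).map S.f).app (op T))))

lemma sec_zero (T : C) (y : S.X₁.obj.obj (op T)) :
    (S.g.hom.app (op T)).hom ((S.f.hom.app (op T)).hom y) = 0 := by
  have h : S.f.hom ≫ S.g.hom = 0 := by
    have := congrArg (fun φ => φ.hom) S.zero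
    exact this
  have h2 := congrArg (fun φ => (φ.app (op T)).hom y) h
  exact h2

section main

variable {J S}

/-- sections of a sheaf agreeing on a covering family are equal -/
lemma ext_of_family (P : Cᵒᵖ ⥤ AddCommGrpCat.{u + 1}) (hP : Presheaf.IsSheaf J P) {W : C}
    {ι : Type (u + 1)} (Yf : ι → Over W)
    (hY : Sieve.ofArrows (fun i => (Yf i).left) (fun i => (Yf i).hom) ∈ J W)
    (x x' : P.obj (op W))
    (h : ∀ i, (P.map (Yf i).hom.op).hom x = (P.map (Yf i).hom.op).hom x') : x = x' := by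
  have hsh'' : Presieve.IsSheaf J (P ⋙ forget AddCommGrpCat.{u + 1}) :=
    (isSheaf_iff_isSheaf_of_type J _).1
      ((Presheaf.isSheaf_iff_isSheaf_forget J P (forget _)).1 hP)
  have hsep : (Presieve.ofArrows (fun i => (Yf i).left) (fun i => (Yf i).hom)).IsSheafFor
      (P ⋙ forget AddCommGrpCat.{u + 1}) :=
    (Presieve.isSheafFor_iff_generate _).2 (hsh'' _ hY)
  refine hsep.isSeparatedFor.ext ?_
  intro T f hf
  obtain ⟨i⟩ := hf
  exact h i
variable {W : C} [HasFiniteProducts (Over W)] {ι : Type (u + 1)} (Y : ι → Over W)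

include hS in
lemma exists_cochain_lift (n : ℕ) (c : (EtCech.cechComplex Y S.X₂.obj).X n)
    (hc : (((G Y).map S.g.hom).f n).hom c = 0) :
    ∃ c' : (EtCech.cechComplex Y S.X₁.obj).X n, (((G Y).map S.f.hom).f n).hom c' = c := by
  have h1 : ∀ i : Fin (n + 1) → ι, ∃ y : S.X₁.obj.obj (op (fp Y i).left),
      (S.f.hom.app (op (fp Y i).left)).hom y = (proj Y S.X₂.obj n i).hom c := by
    intro i
    apply sec_exact J S hS
    have h := ConcreteCategory.congr_hom (cxMap_proj Y S.g.hom n i) c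
    rw [ConcreteCategory.comp_apply, ConcreteCategory.comp_apply] at h
    rw [← h, hc, map_zero]
  choose y hy using h1
  refine ⟨mkX Y S.X₁.obj y, ?_⟩
  apply X_ext
  intro i
  have h := ConcreteCategory.congr_hom (cxMap_proj Y S.f.hom n i) (mkX Y S.X₁.obj y)
  rw [ConcreteCategory.comp_apply, ConcreteCategory.comp_apply] at h
  rw [h, proj_mkX, hy]

include hS in
lemma cochain_inj (n : ℕ) : Function.Injective (((G Y).map S.f.hom).f n).hom := by
  intro c c' hcc
  apply X_ext
  intro i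
  apply sec_inj J S hS
  have h := ConcreteCategory.congr_hom (cxMap_proj Y S.f.hom n i) c
  have h' := ConcreteCategory.congr_hom (cxMap_proj Y S.f.hom n i) c'
  rw [ConcreteCategory.comp_apply, ConcreteCategory.comp_apply] at h h'
  rw [← h, ← h', hcc]

lemma cochain_zero (n : ℕ) (c : (EtCech.cechComplex Y S.X₁.obj).X n) :
    (((G Y).map S.g.hom).f n).hom ((((G Y).map S.f.hom).f n).hom c) = 0 := by
  apply ext_ev
  intro Z e
  rw [ev_map_apply, ev_map_apply, sec_zero, map_zero]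

lemma succAbove_zero_eq {α : Type*} (e : Fin 2 → α) :
    e ∘ Fin.succAbove 0 = fun _ : Fin 1 => e 1 := by
  funext a
  fin_cases a
  rfl

lemma succAbove_one_eq {α : Type*} (e : Fin 2 → α) :
    e ∘ Fin.succAbove 1 = fun _ : Fin 1 => e 0 := by
  funext a
  fin_cases a
  rfl

variable (s : S.X₃.obj.obj (op W)) (t : ∀ i, S.X₂.obj.obj (op (Y i).left))
  (ht : ∀ i, (S.g.hom.app (op (Y i).left)).hom (t i) = (S.X₃.obj.map (Y i).hom.op).hom s)

include ht in
lemma g_restrict {Z : Over W} (x : Pt Y Z) :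
    (S.g.hom.app (op Z.left)).hom ((S.X₂.obj.map x.map.left.op).hom (t x.idx)) =
      (S.X₃.obj.map Z.hom.op).hom s := by
  have h1 := ConcreteCategory.congr_hom (S.g.hom.naturality x.map.left.op) (t x.idx)
  rw [ConcreteCategory.comp_apply, ConcreteCategory.comp_apply] at h1
  rw [h1, ht]
  have h2 : S.X₃.obj.map (Y x.idx).hom.op ≫ S.X₃.obj.map x.map.left.op =
      S.X₃.obj.map Z.hom.op := by
    rw [← S.X₃.obj.map_comp, ← op_comp, Over.w x.map]
  have h3 := ConcreteCategory.congr_hom h2 s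
  rw [ConcreteCategory.comp_apply] at h3
  exact h3

include hS ht in
/-- lifting a section of the quotient which lifts locally on a covering family with vanishing
`Ȟ¹` of the kernel -/
theorem exists_lift_of_family
    (hY : Sieve.ofArrows (fun i => (Y i).left) (fun i => (Y i).hom) ∈ J W)
    (hH : IsZero (EtCech.cechH Y S.X₁.obj 1)) :
    ∃ t₀ : S.X₂.obj.obj (op W), (S.g.hom.app (op W)).hom t₀ = s := by
  -- the cochains
  let c0 : (EtCech.cechComplex Y S.X₂.obj).X 0 := mk0 Y S.X₂.obj t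
  let c1 : (EtCech.cechComplex Y S.X₂.obj).X 1 := ((EtCech.cechComplex Y S.X₂.obj).d 0 1).hom c0
  have hbc1 : (((G Y).map S.g.hom).f 1).hom c1 = 0 := by
    apply ext_ev
    intro Z e
    rw [ev_map_apply, d_ev_one, ev_mk0, ev_mk0, map_sub, map_zero]
    have e1 := g_restrict Y s t ht ((e ∘ Fin.succAbove 0) 0)
    have e2 := g_restrict Y s t ht ((e ∘ Fin.succAbove 1) 0)
    rw [e1, e2, sub_self]
  obtain ⟨c1', hc1'⟩ := exists_cochain_lift hS Y 1 c1 hbc1
  have hd1 : ((EtCech.cechComplex Y S.X₁.obj).d 1 2).hom c1' = 0 := by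
    apply cochain_inj hS Y 2
    rw [map_zero]
    have hcomm := ConcreteCategory.congr_hom (((G Y).map S.f.hom).comm 1 2) c1'
    rw [ConcreteCategory.comp_apply, ConcreteCategory.comp_apply] at hcomm
    have hcomm' : (((G Y).map S.f.hom).f 2).hom (((EtCech.cechComplex Y S.X₁.obj).d 1 2).hom c1') =
        ((EtCech.cechComplex Y S.X₂.obj).d 1 2).hom ((((G Y).map S.f.hom).f 1).hom c1') :=
      hcomm.symm
    rw [hcomm', hc1']
    have hdd := ConcreteCategory.congr_hom ((EtCech.cechComplex Y S.X₂.obj).d_comp_d 0 1 2) c0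
    rw [ConcreteCategory.comp_apply] at hdd
    exact hdd
  obtain ⟨b0, hb0⟩ := Groth.Agent.Lib.Helper16.CechLow.exists_of_isZero_homology Y
    ((Over.forget W).op ⋙ S.X₁.obj) 0 hH c1' hd1
  let ab0 : (EtCech.cechComplex Y S.X₂.obj).X 0 := (((G Y).map S.f.hom).f 0).hom b0
  let c0' : (EtCech.cechComplex Y S.X₂.obj).X 0 := c0 - ab0
  have hd0 : ((EtCech.cechComplex Y S.X₂.obj).d 0 1).hom c0' = 0 := by
    have hcomm := ConcreteCategory.congr_hom (((G Y).map S.f.hom).comm 0 1) b0
    rw [ConcreteCategory.comp_apply, ConcreteCategory.comp_apply] at hcomm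
    have h1 : ((EtCech.cechComplex Y S.X₂.obj).d 0 1).hom ((((G Y).map S.f.hom).f 0).hom b0) =
        (((G Y).map S.f.hom).f 1).hom (((EtCech.cechComplex Y S.X₁.obj).d 0 1).hom b0) := hcomm
    have h2 : ((EtCech.cechComplex Y S.X₁.obj).d 0 1).hom b0 = c1' := hb0
    change ((EtCech.cechComplex Y S.X₂.obj).d 0 1).hom (c0 - ab0) = 0
    rw [map_sub]
    change c1 - ((EtCech.cechComplex Y S.X₂.obj).d 0 1).hom ((((G Y).map S.f.hom).f 0).hom b0) = 0
    rw [h1, h2, hc1']
    exact sub_self _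
  -- the local sections
  let uu : ∀ i, S.X₂.obj.obj (op (Y i).left) :=
    fun i => (ev Y S.X₂.obj (fun _ : Fin 1 => (⟨i, 𝟙 (Y i)⟩ : Pt Y (Y i)))).hom c0'
  have key : ∀ (Z : Over W) (x : Pt Y Z),
      (ev Y S.X₂.obj (fun _ : Fin 1 => x)).hom c0' = (S.X₂.obj.map x.map.left.op).hom (uu x.idx) := by
    intro Z x
    have h := ev_pre_apply Y S.X₂.obj x.map (fun _ : Fin 1 => (⟨x.idx, 𝟙 (Y x.idx)⟩ : Pt Y _)) c0'
    refine Eq.trans ?_ h.symm
    have hx : (fun _ : Fin 1 => (⟨x.idx, 𝟙 (Y x.idx)⟩ : Pt Y (Y x.idx)).pre x.map) =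
        fun _ : Fin 1 => x := by
      funext _
      cases x
      simp [Pt.pre]
    rw [hx]
  have hpair : ∀ (Z : Over W) (e : Fin 2 → Pt Y Z),
      (S.X₂.obj.map (e 1).map.left.op).hom (uu (e 1).idx) =
        (S.X₂.obj.map (e 0).map.left.op).hom (uu (e 0).idx) := by
    intro Z e
    have h := d_ev_one Y S.X₂.obj e c0'
    rw [hd0, map_zero, succAbove_zero_eq, succAbove_one_eq, key, key] at h
    exact (sub_eq_zero.1 h.symm)
  -- gluing
  have hsh : Presieve.IsSheaf J (S.X₂.obj ⋙ forget AddCommGrpCat.{u + 1}) :=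
    (isSheaf_iff_isSheaf_of_type J _).1
      ((Presheaf.isSheaf_iff_isSheaf_forget J S.X₂.obj (forget _)).1 S.X₂.property)
  have hsh2 : (Presieve.ofArrows (fun i => (Y i).left) (fun i => (Y i).hom)).IsSheafFor
      (S.X₂.obj ⋙ forget AddCommGrpCat.{u + 1}) :=
    (Presieve.isSheafFor_iff_generate _).2 (hsh _ hY)
  rw [Presieve.isSheafFor_arrows_iff] at hsh2
  have hcompat : Presieve.Arrows.Compatible (S.X₂.obj ⋙ forget AddCommGrpCat.{u + 1})
      (fun i => (Y i).hom) uu := by
    intro i j Z gi gj hij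
    let Z' : Over W := Over.mk (gi ≫ (Y i).hom)
    let Gi : Z' ⟶ Y i := Over.homMk gi rfl
    let Gj : Z' ⟶ Y j := Over.homMk gj hij.symm
    exact (hpair Z' ![⟨i, Gi⟩, ⟨j, Gj⟩]).symm
  obtain ⟨t₀, ht₀, -⟩ := hsh2 uu hcompat
  refine ⟨t₀, ?_⟩
  -- uniqueness for the quotient
  refine ext_of_family S.X₃.obj S.X₃.property Y hY _ _ (fun i => ?_)
  have hn := ConcreteCategory.congr_hom (S.g.hom.naturality (Y i).hom.op) t₀
  rw [ConcreteCategory.comp_apply, ConcreteCategory.comp_apply] at hn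
  rw [← hn]
  have ht₀i : (S.X₂.obj.map (Y i).hom.op).hom t₀ = uu i := ht₀ i
  rw [ht₀i]
  -- g (uu i) = s|_{Y i}
  change (S.g.hom.app (op (Y i).left)).hom
    ((ev Y S.X₂.obj (fun _ : Fin 1 => (⟨i, 𝟙 (Y i)⟩ : Pt Y (Y i)))).hom (c0 - ab0)) = _
  rw [← ev_map_apply, map_sub]
  have hz : (((G Y).map S.g.hom).f 0).hom ab0 = 0 := cochain_zero Y 0 b0
  rw [hz, sub_zero, ev_map_apply, ev_mk0]
  have := g_restrict Y s t ht (⟨i, 𝟙 (Y i)⟩ : Pt Y (Y i))
  exact this

end main

variable {J S} in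
include hS in
/-- **Surjectivity on sections**: if `Ȟ¹(𝒰, F') = 0` for all covering families `𝒰` of `W`, then
`F(W) → F''(W)` is surjective. -/
theorem sections_surjective (W : C) [HasFiniteProducts (Over W)]
    (h1 : ∀ (ι : Type (u + 1)) (Y : ι → Over W),
      Sieve.ofArrows (fun i => (Y i).left) (fun i => (Y i).hom) ∈ J W →
      IsZero (EtCech.cechH Y S.X₁.obj 1)) :
    Function.Surjective (S.g.hom.app (op W)).hom := by
  intro s
  haveI : Epi S.g := hS.epi_g
  haveI : Sheaf.IsLocallySurjective S.g :=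
    (Sheaf.isLocallySurjective_iff_epi' _ S.g).2 inferInstance
  have hcov := Presheaf.imageSieve_mem J S.g.hom (U := op W) s
  let ι : Type (u + 1) := Σ T : C, {g : T ⟶ W // Presheaf.imageSieve S.g.hom s g}
  let Y : ι → Over W := fun i => Over.mk i.2.1
  have hY : Sieve.ofArrows (fun i => (Y i).left) (fun i => (Y i).hom) ∈ J W := by
    refine J.superset_covering ?_ hcov
    intro T g hg
    exact Sieve.ofArrows_mk (fun i => (Y i).left) (fun i => (Y i).hom) (⟨T, g, hg⟩ : ι)
  have ht : ∀ i : ι, ∃ t : S.X₂.obj.obj (op (Y i).left),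
      (S.g.hom.app (op (Y i).left)).hom t = (S.X₃.obj.map (Y i).hom.op).hom s := fun i => i.2.2
  choose t ht using ht
  exact exists_lift_of_family hS Y s t ht hY (h1 ι Y hY)

end Groth.Agent.Lib.Helper8CechSurj
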