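import Mathlib
import Groth.Prelude.Def_EtCech
import Groth.Agent.Lib.Helper8CechSurj

/-!
# The augmentation of the Čech complex and gluing of `0`-cocycles (helper8)

`aug Y P s`: the `0`-cochain of restrictions of a section `s ∈ P(W)`; `ev_aug`, `d_aug`, `map_aug`;
`exists_section_of_cocycle`: for a sheaf and a covering family, every `0`-cocycle is `aug` of a
section; `isZero_homology_of_exists`: criterion for vanishing of homology of a cochain complex of
abelian groups.
-/

set_option autoImplicit false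
set_option linter.unusedSectionVars false
universe u
open CategoryTheory CategoryTheory.Limits Opposite

namespace Groth.Agent.Lib.Helper8CechAug
open Groth.Agent.Lib.Helper21.CechFree Groth.Agent.Lib.Helper8CechEv
  Groth.Agent.Lib.Helper9.CechDelta Groth.Agent.Lib.Helper8CechSurj

section general

universe w v₁ u₁
variable {C : Type u₁} [Category.{v₁} C] {W : C} [HasFiniteProducts (Over W)] {ι : Type w}
  (Y : ι → Over W) (P : Cᵒᵖ ⥤ AddCommGrpCat.{w})

/-- the augmentation -/
noncomputable def aug (s : P.obj (op W)) : (EtCech.cechComplex Y P).X 0 :=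
  mk0 Y P (fun i => (P.map (Y i).hom.op).hom s)

theorem ev_aug (s : P.obj (op W)) {Z : Over W} (e : Fin 1 → Pt Y Z) :
    (ev Y P e).hom (aug Y P s) = (P.map Z.hom.op).hom s := by
  rw [aug, ev_mk0]
  have h2 : P.map (Y (e 0).idx).hom.op ≫ P.map (e 0).map.left.op = P.map Z.hom.op := by
    rw [← P.map_comp, ← op_comp, Over.w (e 0).map]
  have h3 := ConcreteCategory.congr_hom h2 s
  rw [ConcreteCategory.comp_apply] at h3
  exact h3

theorem d_aug (s : P.obj (op W)) :
    ((EtCech.cechComplex Y P).d 0 1).hom (aug Y P s) = 0 := by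
  apply ext_ev
  intro Z e
  rw [d_ev_one, ev_aug, ev_aug, sub_self, map_zero]

theorem map_aug {P Q : Cᵒᵖ ⥤ AddCommGrpCat.{w}} (φ : P ⟶ Q) (s : P.obj (op W)) :
    (((G Y).map φ).f 0).hom (aug Y P s) = aug Y Q ((φ.app (op W)).hom s) := by
  apply ext_ev
  intro Z e
  rw [ev_map_apply, ev_aug, ev_aug]
  have h := ConcreteCategory.congr_hom (φ.naturality Z.hom.op) s
  rw [ConcreteCategory.comp_apply, ConcreteCategory.comp_apply] at h
  exact h

/-- vanishing of homology from "cocycles are coboundaries" -/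
theorem isZero_homology_of_exists (K : CochainComplex AddCommGrpCat.{w} ℕ) (n : ℕ)
    (h : ∀ c : K.X (n + 1), (K.d (n + 1) (n + 2)).hom c = 0 →
      ∃ b : K.X n, (K.d n (n + 1)).hom b = c) :
    IsZero (K.homology (n + 1)) := by
  rw [← HomologicalComplex.exactAt_iff_isZero_homology,
    HomologicalComplex.exactAt_iff' K n (n + 1) (n + 2) (by simp) (by simp),
    ShortComplex.ab_exact_iff]
  exact h

end general

variable {C : Type (u + 1)} [Category.{u} C] {J : GrothendieckTopology C}

/-- for a sheaf and a covering family, every `0`-cocycle comes from a section -/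
theorem exists_section_of_cocycle (P : Cᵒᵖ ⥤ AddCommGrpCat.{u + 1}) (hP : Presheaf.IsSheaf J P)
    {W : C} [HasFiniteProducts (Over W)] {ι : Type (u + 1)} (Y : ι → Over W)
    (hY : Sieve.ofArrows (fun i => (Y i).left) (fun i => (Y i).hom) ∈ J W)
    (c : (EtCech.cechComplex Y P).X 0) (hd : ((EtCech.cechComplex Y P).d 0 1).hom c = 0) :
    ∃ t₀ : P.obj (op W), aug Y P t₀ = c := by
  let uu : ∀ i, P.obj (op (Y i).left) :=
    fun i => (ev Y P (fun _ : Fin 1 => (⟨i, 𝟙 (Y i)⟩ : Pt Y (Y i)))).hom c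
  have key : ∀ (Z : Over W) (x : Pt Y Z),
      (ev Y P (fun _ : Fin 1 => x)).hom c = (P.map x.map.left.op).hom (uu x.idx) := by
    intro Z x
    have h := ev_pre_apply Y P x.map (fun _ : Fin 1 => (⟨x.idx, 𝟙 (Y x.idx)⟩ : Pt Y _)) c
    refine Eq.trans ?_ h.symm
    have hx : (fun _ : Fin 1 => (⟨x.idx, 𝟙 (Y x.idx)⟩ : Pt Y (Y x.idx)).pre x.map) =
        fun _ : Fin 1 => x := by
      funext _
      cases x
      simp [Pt.pre]
    rw [hx]
  have hpair : ∀ (Z : Over W) (e : Fin 2 → Pt Y Z),
      (P.map (e 1).map.left.op).hom (uu (e 1).idx) =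
        (P.map (e 0).map.left.op).hom (uu (e 0).idx) := by
    intro Z e
    have h := d_ev_one Y P e c
    rw [hd, map_zero, succAbove_zero_eq, succAbove_one_eq, key, key] at h
    exact (sub_eq_zero.1 h.symm)
  have hsh : Presieve.IsSheaf J (P ⋙ forget AddCommGrpCat.{u + 1}) :=
    (isSheaf_iff_isSheaf_of_type J _).1
      ((Presheaf.isSheaf_iff_isSheaf_forget J P (forget _)).1 hP)
  have hsh2 : (Presieve.ofArrows (fun i => (Y i).left) (fun i => (Y i).hom)).IsSheafFor
      (P ⋙ forget AddCommGrpCat.{u + 1}) :=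
    (Presieve.isSheafFor_iff_generate _).2 (hsh _ hY)
  rw [Presieve.isSheafFor_arrows_iff] at hsh2
  have hcompat : Presieve.Arrows.Compatible (P ⋙ forget AddCommGrpCat.{u + 1})
      (fun i => (Y i).hom) uu := by
    intro i j Z gi gj hij
    let Z' : Over W := Over.mk (gi ≫ (Y i).hom)
    let Gi : Z' ⟶ Y i := Over.homMk gi rfl
    let Gj : Z' ⟶ Y j := Over.homMk gj hij.symm
    exact (hpair Z' ![⟨i, Gi⟩, ⟨j, Gj⟩]).symm
  obtain ⟨t₀, ht₀, -⟩ := hsh2 uu hcompat
  refine ⟨t₀, ?_⟩
  apply ext_ev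
  intro Z e
  rw [ev_aug]
  have he : e = fun _ : Fin 1 => e 0 := by
    funext a
    fin_cases a
    rfl
  rw [he, key]
  have ht₀i : (P.map (Y (e 0).idx).hom.op).hom t₀ = uu (e 0).idx := ht₀ (e 0).idx
  rw [← ht₀i]
  have h2 : P.map (Y (e 0).idx).hom.op ≫ P.map (e 0).map.left.op = P.map Z.hom.op := by
    rw [← P.map_comp, ← op_comp, Over.w (e 0).map]
  have h3 := ConcreteCategory.congr_hom h2 t₀
  rw [ConcreteCategory.comp_apply] at h3
  exact h3.symm

end Groth.Agent.Lib.Helper8CechAug
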