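import Mathlib
import Groth.Agent.Lib.Helper16CechLow

/-!
# Čech complexes: replacing a family by its "disjoint union", large-site version (helper8)

Same as `Helper8CechDisj` but for a category `C : Type (u+1)` with `Category.{u}` (e.g. `X.Etale`),
presheaves valued in `AddCommGrpCat.{u+1}`, index types in `Type (u+1)` and only
`HasFiniteProducts (Over U)` assumed.

Let `F` be an abelian sheaf on a small site `C` with pullbacks, `Y : ι → Over U` a family and
`V : Over U` an object with maps `incl i : Y i ⟶ V` which exhibit `V` as a "disjoint union" of the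
`Y i` in the sense of the topology: the `incl i` form a covering family of `V`, they are
monomorphisms, and an object mapping compatibly to `Y i` and `Y j` (`i ≠ j`) is covered by the
empty sieve.  Then the refinement map from the Čech complex of the single morphism `V ⟶ U` to the
Čech complex of the family is an isomorphism (`refine_isIso`), so that Čech cohomology vanishing for
`V ⟶ U` implies it for the family (`isZero_cechH_of_single`).
-/

set_option autoImplicit false
set_option linter.unusedSectionVars false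
universe u
open CategoryTheory CategoryTheory.Limits Opposite

namespace Groth.Agent.Lib.Helper8CechDisjGen
open Groth.Agent.Lib.Helper16.CechLow

variable {C : Type (u + 1)} [Category.{u} C] (J : GrothendieckTopology C)

section sheaf

variable (F : Cᵒᵖ ⥤ AddCommGrpCat.{u + 1}) (hF : Presheaf.IsSheaf J F)

include hF in
/-- sections over an object covered by the empty sieve are unique -/
theorem eq_of_bot_mem {T : C} (hT : (⊥ : Sieve T) ∈ J T) (s t : F.obj (op T)) : s = t := by
  have h1 : Presieve.IsSheaf J (F ⋙ forget AddCommGrpCat.{u + 1}) :=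
    (isSheaf_iff_isSheaf_of_type J _).1 ((Presheaf.isSheaf_iff_isSheaf_forget J F (forget _)).1 hF)
  exact (h1 _ hT).isSeparatedFor.ext (fun Y f hf => hf.elim)

include hF in
/-- a sheaf turns a "disjoint" covering family into a product -/
theorem bijective_of_disjoint_cover {W : C} {I : Type (u + 1)} (X : I → C) (m : ∀ i, X i ⟶ W)
    (hcov : Sieve.ofArrows X m ∈ J W) (hmono : ∀ i, Mono (m i))
    (hdisj : ∀ i j, i ≠ j → ∀ (T : C) (a : T ⟶ X i) (b : T ⟶ X j), a ≫ m i = b ≫ m j →
      (⊥ : Sieve T) ∈ J T) :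
    Function.Bijective (fun (s : F.obj (op W)) (i : I) => (F.map (m i).op).hom s) := by
  have h1 : Presieve.IsSheaf J (F ⋙ forget AddCommGrpCat.{u + 1}) :=
    (isSheaf_iff_isSheaf_of_type J _).1 ((Presheaf.isSheaf_iff_isSheaf_forget J F (forget _)).1 hF)
  have h2 : (Presieve.ofArrows X m).IsSheafFor (F ⋙ forget AddCommGrpCat.{u + 1}) :=
    (Presieve.isSheafFor_iff_generate _).2 (h1 _ hcov)
  rw [Presieve.isSheafFor_arrows_iff] at h2
  have hcompat : ∀ x : (∀ i, F.obj (op (X i))),
      Presieve.Arrows.Compatible (F ⋙ forget AddCommGrpCat.{u + 1}) m x := by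
    intro x i j Z gi gj hij
    by_cases h : i = j
    · subst h
      have : gi = gj := (cancel_mono (m i)).1 hij
      rw [this]
    · exact eq_of_bot_mem J F hF (hdisj i j h Z gi gj hij) _ _
  constructor
  · intro s t hst
    obtain ⟨w, -, hw⟩ := h2 (fun i => (F.map (m i).op).hom s) (hcompat _)
    have hs : s = w := hw s (fun i => rfl)
    have ht : t = w := hw t (fun i => (congrFun hst i).symm)
    exact hs.trans ht.symm
  · intro x
    obtain ⟨w, hw, -⟩ := h2 x (hcompat x)
    exact ⟨w, funext hw⟩

end sheaf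

section prod

variable {U : C} [HasFiniteProducts (Over U)] {ι : Type (u + 1)} (Y : ι → Over U) (V : Over U)
  (incl : ∀ i, Y i ⟶ V)

/-- the product of `n+1` copies of `V` -/
noncomputable abbrev Vn (n : ℕ) : Over U := ∏ᶜ (fun _ : Fin (n + 1) => V)

/-- the product of the `Y (i a)` -/
noncomputable abbrev Yn {n : ℕ} (i : Fin (n + 1) → ι) : Over U := ∏ᶜ (Y ∘ i)

/-- the map `∏ Y (i a) ⟶ ∏ V` -/
noncomputable abbrev mn {n : ℕ} (i : Fin (n + 1) → ι) : Yn Y i ⟶ Vn V n :=
  Limits.Pi.map (fun a => incl (i a))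

lemma mn_π {n : ℕ} (i : Fin (n + 1) → ι) (a : Fin (n + 1)) :
    mn Y V incl i ≫ Pi.π (fun _ : Fin (n + 1) => V) a = Pi.π (Y ∘ i) a ≫ incl (i a) :=
  Limits.Pi.map_π _ _

variable {J}

/-- finite intersections of pullbacks of a covering sieve along the projections are covering -/
lemma inter_mem (hcov : Sieve.ofArrows (fun i => (Y i).left) (fun i => (incl i).left) ∈ J V.left)
    (n : ℕ) (k : ℕ) :
    ∃ R ∈ J (Vn V n).left, ∀ (T : C) (g : T ⟶ (Vn V n).left), R g →
      ∀ a : Fin (n + 1), (a : ℕ) < k →
        Sieve.ofArrows (fun i => (Y i).left) (fun i => (incl i).left)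
          (g ≫ (Pi.π (fun _ : Fin (n + 1) => V) a).left) := by
  induction k with
  | zero => exact ⟨⊤, J.top_mem _, fun T g _ a ha => absurd ha (Nat.not_lt_zero _)⟩
  | succ k ih =>
    obtain ⟨R, hR, h⟩ := ih
    by_cases hk : k < n + 1
    · refine ⟨R ⊓ Sieve.pullback (Pi.π (fun _ : Fin (n + 1) => V) ⟨k, hk⟩).left
        (Sieve.ofArrows (fun i => (Y i).left) (fun i => (incl i).left)),
        J.intersection_covering hR (J.pullback_stable _ hcov), ?_⟩
      intro T g hg a ha
      rcases Nat.lt_succ_iff_lt_or_eq.1 ha with h' | h'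
      · exact h T g hg.1 a h'
      · have : a = ⟨k, hk⟩ := Fin.ext h'
        subst this
        exact hg.2
    · refine ⟨R, hR, fun T g hg a ha => h T g hg a ?_⟩
      have := a.2
      omega

/-- the products of the `Y i` cover the product of copies of `V` -/
theorem prod_cover (hcov : Sieve.ofArrows (fun i => (Y i).left) (fun i => (incl i).left) ∈ J V.left)
    (n : ℕ) :
    Sieve.ofArrows (fun i : Fin (n + 1) → ι => (Yn Y i).left) (fun i => (mn Y V incl i).left) ∈
      J (Vn V n).left := by
  obtain ⟨R, hR, h⟩ := inter_mem Y V incl hcov n (n + 1)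
  refine J.superset_covering ?_ hR
  intro T g hg
  have h1 : ∀ a : Fin (n + 1), ∃ (i : ι) (b : T ⟶ (Y i).left),
      g ≫ (Pi.π (fun _ : Fin (n + 1) => V) a).left = b ≫ (incl i).left := by
    intro a
    have := h T g hg a a.2
    rw [Sieve.mem_ofArrows_iff] at this
    exact this
  choose i b hb using h1
  let T' : Over U := Over.mk (g ≫ (Vn V n).hom)
  let gO : T' ⟶ Vn V n := Over.homMk g rfl
  have hbw : ∀ a, b a ≫ (Y (i a)).hom = g ≫ (Vn V n).hom := by
    intro a
    have e1 : (incl (i a)).left ≫ V.hom = (Y (i a)).hom := Over.w (incl (i a))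
    have e2 : (Pi.π (fun _ : Fin (n + 1) => V) a).left ≫ V.hom = (Vn V n).hom :=
      Over.w (Pi.π (fun _ : Fin (n + 1) => V) a)
    rw [← e1, ← Category.assoc, ← hb a, Category.assoc, e2]
  let bO : ∀ a, T' ⟶ (Y ∘ i) a := fun a => Over.homMk (b a) (hbw a)
  let l : T' ⟶ Yn Y i := Pi.lift bO
  have hl : l ≫ mn Y V incl i = gO := by
    apply Pi.hom_ext
    intro a
    rw [Category.assoc, mn_π, ← Category.assoc, Pi.lift_π]
    apply Over.OverMorphism.ext
    exact (hb a).symm
  rw [Sieve.mem_ofArrows_iff]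
  refine ⟨i, l.left, ?_⟩
  have := congrArg (fun f => f.left) hl
  exact this.symm

/-- distinct multi-indices give disjoint products -/
theorem prod_disj
    (hdisj : ∀ i j, i ≠ j → ∀ (T : C) (a : T ⟶ (Y i).left) (b : T ⟶ (Y j).left),
      a ≫ (incl i).left = b ≫ (incl j).left → (⊥ : Sieve T) ∈ J T)
    (n : ℕ) (i j : Fin (n + 1) → ι) (hij : i ≠ j) (T : C) (a : T ⟶ (Yn Y i).left)
    (b : T ⟶ (Yn Y j).left) (hab : a ≫ (mn Y V incl i).left = b ≫ (mn Y V incl j).left) :
    (⊥ : Sieve T) ∈ J T := by
  obtain ⟨k, hk⟩ : ∃ k, i k ≠ j k := by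
    by_contra h
    exact hij (funext fun k => by_contra fun hk => h ⟨k, hk⟩)
  refine hdisj (i k) (j k) hk T (a ≫ (Pi.π (Y ∘ i) k).left) (b ≫ (Pi.π (Y ∘ j) k).left) ?_
  have e1 := congrArg (fun f => f.left) (mn_π Y V incl i k)
  have e2 := congrArg (fun f => f.left) (mn_π Y V incl j k)
  simp only [Over.comp_left] at e1 e2
  rw [Category.assoc, Category.assoc, ← e1, ← e2, ← Category.assoc, hab, Category.assoc]

end prod

section refine

variable (P : Cᵒᵖ ⥤ AddCommGrpCat.{u + 1}) {U : C} [HasFiniteProducts (Over U)]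
  {ι : Type (u + 1)} (Y : ι → Over U) (V : Over U) (incl : ∀ i, Y i ⟶ V)

/-- the restricted presheaf on `Over U` -/
abbrev PU : (Over U)ᵒᵖ ⥤ AddCommGrpCat.{u + 1} := (Over.forget U).op ⋙ P

/-- the refinement morphism of formal coproducts `(Y i)_i ⟶ (V)` -/
def refHom : FormalCoproduct.mk ι Y ⟶ FormalCoproduct.mk PUnit.{u + 2} (fun _ => V) where
  f := fun _ => PUnit.unit
  φ := incl

/-- The map of Cech complexes induced by a refinement morphism (general universes). -/
noncomputable abbrev cechRefine' {𝒰 𝒰' : FormalCoproduct.{u + 1} (Over U)} (f : 𝒰 ⟶ 𝒰') :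
    (FormalCoproduct.cochainComplexFunctor 𝒰'.cech).obj ((Over.forget U).op ⋙ P) ⟶
      (FormalCoproduct.cochainComplexFunctor 𝒰.cech).obj ((Over.forget U).op ⋙ P) :=
  (AlgebraicTopology.alternatingCofaceMapComplex AddCommGrpCat.{u + 1}).map
    (((Functor.whiskeringLeft _ _ _).map (NatTrans.rightOp (FormalCoproduct.cechFunctor.map f))).app
      ((FormalCoproduct.evalOp.{u + 1} (Over U) AddCommGrpCat.{u + 1}).obj ((Over.forget U).op ⋙ P)))

/-- the refinement map of Čech complexes -/
noncomputable def refMap : CK (fun _ : PUnit.{u + 2} => V) (PU P (U := U)) ⟶ CK Y (PU P (U := U)) :=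
  cechRefine' P (refHom Y V incl)

lemma refMap_pr (n : ℕ) (i : Fin (n + 1) → ι) :
    (refMap P Y V incl).f n ≫ pr Y (PU P) n i =
      pr (fun _ : PUnit.{u + 2} => V) (PU P) n (fun _ => PUnit.unit) ≫
        P.map (mn Y V incl i).left.op := by
  exact limit.lift_π _ _

lemma refMap_pr_apply (n : ℕ) (i : Fin (n + 1) → ι)
    (c : (CK (fun _ : PUnit.{u + 2} => V) (PU P (U := U))).X n) :
    (pr Y (PU P) n i).hom (((refMap P Y V incl).f n).hom c) =
      (P.map (mn Y V incl i).left.op).hom
        ((pr (fun _ : PUnit.{u + 2} => V) (PU P) n (fun _ => PUnit.unit)).hom c) :=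
  ConcreteCategory.congr_hom (refMap_pr P Y V incl n i) c

variable {J}

/-- the refinement map is bijective in each degree when `V` is the "disjoint union" of the `Y i`
and `P` is a sheaf. -/
theorem refMap_bijective (hP : Presheaf.IsSheaf J P)
    (hcov : Sieve.ofArrows (fun i => (Y i).left) (fun i => (incl i).left) ∈ J V.left)
    (hmono : ∀ i, Mono (incl i))
    (hdisj : ∀ i j, i ≠ j → ∀ (T : C) (a : T ⟶ (Y i).left) (b : T ⟶ (Y j).left),
      a ≫ (incl i).left = b ≫ (incl j).left → (⊥ : Sieve T) ∈ J T) (n : ℕ) :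
    Function.Bijective ((refMap P Y V incl).f n).hom := by
  have hb := bijective_of_disjoint_cover J P hP
    (fun i : Fin (n + 1) → ι => (Yn Y i).left) (fun i => (mn Y V incl i).left)
    (prod_cover Y V incl hcov n)
    (fun i => by
      haveI : ∀ a, Mono (incl (i a)) := fun a => hmono _
      haveI : Mono (mn Y V incl i) := Limits.Pi.map_mono _
      exact Over.mono_left_of_mono _)
    (prod_disj Y V incl hdisj n)
  constructor
  · intro c c' hcc
    apply elt_ext
    intro x
    apply hb.1
    funext i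
    have h1 := refMap_pr_apply P Y V incl n i c
    have h2 := refMap_pr_apply P Y V incl n i c'
    rw [hcc] at h1
    exact h1.symm.trans h2
  · intro d
    obtain ⟨s, hs⟩ := hb.2 (fun i => (pr Y (PU P) n i).hom d)
    refine ⟨mkElt (fun _ : PUnit.{u + 2} => V) (PU P (U := U)) n (fun _ => s), ?_⟩
    apply elt_ext
    intro i
    refine (refMap_pr_apply P Y V incl n i _).trans ?_
    rw [pr_mkElt]
    exact congrFun hs i

/-- the refinement map is an isomorphism of complexes -/
theorem refMap_isIso (hP : Presheaf.IsSheaf J P)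
    (hcov : Sieve.ofArrows (fun i => (Y i).left) (fun i => (incl i).left) ∈ J V.left)
    (hmono : ∀ i, Mono (incl i))
    (hdisj : ∀ i j, i ≠ j → ∀ (T : C) (a : T ⟶ (Y i).left) (b : T ⟶ (Y j).left),
      a ≫ (incl i).left = b ≫ (incl j).left → (⊥ : Sieve T) ∈ J T) :
    IsIso (refMap P Y V incl) := by
  haveI : ∀ n, IsIso ((refMap P Y V incl).f n) := fun n =>
    (ConcreteCategory.isIso_iff_bijective _).2 (refMap_bijective P Y V incl hP hcov hmono hdisj n)
  exact HomologicalComplex.Hom.isIso_of_components _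

/-- Čech cohomology vanishing for the single morphism `V ⟶ U` implies it for the family. -/
theorem isZero_cechH_of_single (hP : Presheaf.IsSheaf J P)
    (hcov : Sieve.ofArrows (fun i => (Y i).left) (fun i => (incl i).left) ∈ J V.left)
    (hmono : ∀ i, Mono (incl i))
    (hdisj : ∀ i j, i ≠ j → ∀ (T : C) (a : T ⟶ (Y i).left) (b : T ⟶ (Y j).left),
      a ≫ (incl i).left = b ≫ (incl j).left → (⊥ : Sieve T) ∈ J T) (p : ℕ)
    (h : IsZero ((CK (fun _ : PUnit.{u + 2} => V) (PU P (U := U))).homology p)) :
    IsZero ((CK Y (PU P (U := U))).homology p) := by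
  haveI := refMap_isIso P Y V incl hP hcov hmono hdisj
  exact h.of_iso ((HomologicalComplex.homologyFunctor _ _ p).mapIso (asIso (refMap P Y V incl))).symm

end refine

end Groth.Agent.Lib.Helper8CechDisjGen
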