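import Mathlib
import Groth.Prelude.Def_EtCech
import Groth.Agent.Lib.Helper21CechFree

/-!
# Čech complexes and "pushforward" along a functor preserving fibre products, general universes
(helper8; port of `Helper21CechPush` to `EtCech.cechComplex`)

For `u : C ⥤ D` with `Over.post u` preserving finite products, a family `Y : ι → Over U` and a
presheaf `Q` on `D`, the Čech complex of `u.op ⋙ Q` for `Y` is isomorphic to the Čech complex of
`Q` for the image family `uY u Y : ι → Over (u.obj U)` (`ΨCx`, `isIso_ΨCx`, `isZero_cechH_push`).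
-/

set_option autoImplicit false
set_option linter.unusedSectionVars false
universe w v₁ u₁ v₂ u₂
open CategoryTheory CategoryTheory.Limits Opposite

namespace Groth.Agent.Lib.Helper8CechPushGen
open Groth.Agent.Lib.Helper21.CechFree

variable {C : Type u₁} [Category.{v₁} C] {D : Type u₂} [Category.{v₂} D]
variable (u : C ⥤ D) {U : C} [HasFiniteProducts (Over U)] [HasFiniteProducts (Over (u.obj U))]
  [PreservesFiniteProducts (Over.post (X := U) u)] {ι : Type w} (Y : ι → Over U)

/-- the image family -/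
abbrev uY : ι → Over (u.obj U) := fun k => (Over.post (X := U) u).obj (Y k)

instance preservesFin (n : ℕ) :
    PreservesLimitsOfShape (Discrete (Fin n)) (Over.post (X := U) u) :=
  PreservesFiniteProducts.preserves n

/-- the comparison to the fibre product of the images -/
noncomputable def can {n : ℕ} (i : Fin (n + 1) → ι) :
    (Over.post (X := U) u).obj (fp Y i) ⟶ fp (uY u Y) i :=
  piComparison (Over.post (X := U) u) (Y ∘ i)

instance isIso_can {n : ℕ} (i : Fin (n + 1) → ι) : IsIso (can u Y i) := by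
  unfold can
  infer_instance

theorem can_π {n : ℕ} (i : Fin (n + 1) → ι) (a : Fin (n + 1)) :
    can u Y i ≫ Pi.π (uY u Y ∘ i) a = (Over.post (X := U) u).map (Pi.π (Y ∘ i) a) :=
  piComparison_comp_π _ _ _

theorem can_dmap {n : ℕ} (j : Fin (n + 2)) (i : Fin (n + 2) → ι) :
    (Over.post (X := U) u).map (dmap Y j i) ≫ can u Y (i ∘ Fin.succAbove j) =
      can u Y i ≫ dmap (uY u Y) j i := by
  apply Pi.hom_ext
  intro a
  rw [Category.assoc, Category.assoc, can_π, ← Functor.map_comp]
  erw [Pi.lift_π, Pi.lift_π]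
  exact (can_π u Y i _).symm

variable (Q : Dᵒᵖ ⥤ AddCommGrpCat.{w})

/-- the comparison of Čech complexes in each degree -/
noncomputable def Ψ (n : ℕ) :
    (EtCech.cechComplex (uY u Y) Q).X n ⟶ (EtCech.cechComplex Y (u.op ⋙ Q)).X n :=
  Limits.Pi.map (f := fun i : Fin (n + 1) → ι => Q.obj (op (fp (uY u Y) i).left))
    (g := fun i : Fin (n + 1) → ι => (u.op ⋙ Q).obj (op (fp Y i).left))
    (fun i : Fin (n + 1) → ι => Q.map (can u Y i).left.op)

theorem Ψ_proj (n : ℕ) (i : Fin (n + 1) → ι) :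
    Ψ u Y Q n ≫ proj Y (u.op ⋙ Q) n i = proj (uY u Y) Q n i ≫ Q.map (can u Y i).left.op :=
  Limits.Pi.map_π _ _

instance isIso_Ψ (n : ℕ) : IsIso (Ψ u Y Q n) := by
  have h : ∀ i : Fin (n + 1) → ι, IsIso (Q.map (can u Y i).left.op) := by
    intro i
    have h1 : IsIso (can u Y i).left := (Over.forget _).map_isIso (can u Y i)
    infer_instance
  unfold Ψ
  exact @Limits.Pi.map_isIso _ _ _ (fun i : Fin (n + 1) → ι => Q.obj (op (fp (uY u Y) i).left))
    (fun i : Fin (n + 1) → ι => (u.op ⋙ Q).obj (op (fp Y i).left)) _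
    (fun i : Fin (n + 1) → ι => Q.map (can u Y i).left.op) h

theorem Ψ_face (n : ℕ) (j : Fin (n + 2)) :
    Ψ u Y Q n ≫ face Y (u.op ⋙ Q) n j = face (uY u Y) Q n j ≫ Ψ u Y Q (n + 1) := by
  apply Pi.hom_ext
  intro (i : Fin (n + 2) → ι)
  have h1 := face_π Y (u.op ⋙ Q) n j i
  have h2 := face_π (uY u Y) Q n j i
  have h3 := Ψ_proj u Y Q (n + 1) i
  have h4 := Ψ_proj u Y Q n (i ∘ Fin.succAbove j)
  have h6 : u.map (dmap Y j i).left ≫ (can u Y (i ∘ Fin.succAbove j)).left =
      (can u Y i).left ≫ (dmap (uY u Y) j i).left :=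
    congrArg (fun t => t.left) (can_dmap u Y j i)
  have h5 : Q.map (can u Y (i ∘ Fin.succAbove j)).left.op ≫
      Q.map (u.map (dmap Y j i).left).op =
      Q.map (dmap (uY u Y) j i).left.op ≫ Q.map (can u Y i).left.op := by
    rw [← Q.map_comp, ← Q.map_comp]
    exact congrArg (fun t => Q.map t.op) h6
  have e1 : (Ψ u Y Q n ≫ face Y (u.op ⋙ Q) n j) ≫ proj Y (u.op ⋙ Q) (n + 1) i =
      proj (uY u Y) Q n (i ∘ Fin.succAbove j) ≫ Q.map (dmap (uY u Y) j i).left.op ≫
          Q.map (can u Y i).left.op := by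
    refine (Category.assoc _ _ _).trans ((congrArg (fun t => Ψ u Y Q n ≫ t) h1).trans ?_)
    refine (Category.assoc _ _ _).symm.trans ?_
    refine (congrArg (fun t => t ≫ (u.op ⋙ Q).map (dmap Y j i).left.op) h4).trans ?_
    refine (Category.assoc _ _ _).trans ?_
    exact congrArg (fun t => proj (uY u Y) Q n (i ∘ Fin.succAbove j) ≫ t) h5
  have e2 : (face (uY u Y) Q n j ≫ Ψ u Y Q (n + 1)) ≫ proj Y (u.op ⋙ Q) (n + 1) i =
      proj (uY u Y) Q n (i ∘ Fin.succAbove j) ≫ Q.map (dmap (uY u Y) j i).left.op ≫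
          Q.map (can u Y i).left.op := by
    refine (Category.assoc _ _ _).trans ((congrArg (fun t => face (uY u Y) Q n j ≫ t) h3).trans ?_)
    refine (Category.assoc _ _ _).symm.trans ?_
    refine (congrArg (fun t => t ≫ Q.map (can u Y i).left.op) h2).trans ?_
    exact Category.assoc _ _ _
  exact e1.trans e2.symm

/-- the comparison of Čech complexes -/
noncomputable def ΨCx : EtCech.cechComplex (uY u Y) Q ⟶ EtCech.cechComplex Y (u.op ⋙ Q) where
  f n := Ψ u Y Q n
  comm' := by
    intro n m hnm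
    obtain rfl : n + 1 = m := hnm
    rw [cx_d, cx_d, Preadditive.comp_sum, Preadditive.sum_comp]
    refine Finset.sum_congr rfl (fun j _ => ?_)
    rw [Preadditive.comp_zsmul, Preadditive.zsmul_comp, Ψ_face]

instance isIso_ΨCx : IsIso (ΨCx u Y Q) := by
  have : ∀ n, IsIso ((ΨCx u Y Q).f n) := fun n => isIso_Ψ u Y Q n
  exact HomologicalComplex.Hom.isIso_of_components _

theorem isZero_cechH_push (p : ℕ) (h : IsZero (EtCech.cechH (uY u Y) Q p)) :
    IsZero (EtCech.cechH Y (u.op ⋙ Q) p) := by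
  have h2 : IsIso (HomologicalComplex.homologyMap (ΨCx u Y Q) p) := inferInstance
  exact IsZero.of_iso h (asIso (HomologicalComplex.homologyMap (ΨCx u Y Q) p)).symm

end Groth.Agent.Lib.Helper8CechPushGen
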