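import Mathlib
import Groth.Prelude
import Groth.Agent.Lib.Helper8ExactSeq

set_option autoImplicit false

/-!
# Extensions by a commutative group: centrality, commutativity, multiplicativity of bitorsor maps
-/

universe u

open CategoryTheory CategoryTheory.Limits MonoidalCategory CartesianMonoidalCategory MonObj GrpObj
  AlgebraicGeometry

namespace Groth.Agent.Lib.Helper8CentralExt

open Groth.Agent.Lib.Helper8ExactSeq

section Grp

variable {Γ : Type*} [Group Γ]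

theorem grp1 (a b c : Γ) (h : b * c = c * b) :
    a * b * c * (a * b)⁻¹ * c⁻¹ = a * c * a⁻¹ * c⁻¹ := by
  have h' : b * c * b⁻¹ = c := by rw [h, mul_inv_cancel_right]
  calc a * b * c * (a * b)⁻¹ * c⁻¹ = a * (b * c * b⁻¹) * a⁻¹ * c⁻¹ := by group
    _ = a * c * a⁻¹ * c⁻¹ := by rw [h']

theorem grp2 (a b c : Γ) (h : b * a = a * b) :
    a * (c * b) * a⁻¹ * (c * b)⁻¹ = a * c * a⁻¹ * c⁻¹ := by
  have h' : b * a⁻¹ * b⁻¹ = a⁻¹ := by
    have : a⁻¹ * b = b * a⁻¹ := by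
      rw [inv_mul_eq_iff_eq_mul, ← _root_.mul_assoc, ← h, _root_.mul_assoc,
        _root_.mul_inv_cancel, _root_.mul_one]
    rw [← this, mul_inv_cancel_right]
  calc a * (c * b) * a⁻¹ * (c * b)⁻¹ = a * c * (b * a⁻¹ * b⁻¹) * c⁻¹ := by group
    _ = a * c * a⁻¹ * c⁻¹ := by rw [h']

theorem grp3 (A b X c Y : Γ) (h : c * Y = Y * b) :
    A * b * (X * c * Y)⁻¹ = A * (X * Y)⁻¹ := by
  rw [_root_.mul_assoc X c Y, h]
  group

theorem grp4 (A c X Y : Γ) : A * c * (X * (Y * c))⁻¹ = A * (X * Y)⁻¹ := by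
  group

theorem comm_of_commutator (a b : Γ) (h : a * b * a⁻¹ * b⁻¹ = 1) : a * b = b * a := by
  have h1 : a * b * a⁻¹ = b := mul_inv_eq_one.mp h
  exact mul_inv_eq_iff_eq_mul.mp h1

end Grp

section Desc

variable {S : Scheme.{u}} {K : Precoverage Scheme.{u}} [K.toGrothendieck.Subcanonical]
  [K.IsStableUnderBaseChange] [K.IsStableUnderComposition]
  {G' G G'' H' H H'' : Over S} [GrpObj G'] [GrpObj G] [GrpObj G''] [GrpObj H'] [GrpObj H]
  [GrpObj H''] {u : G' ⟶ G} {v : G ⟶ G''} {u₂ : H' ⟶ H} {v₂ : H ⟶ H''}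

theorem loc_v_tensor (hex : NonAbH1.IsExactSeq K u v) (hex₂ : NonAbH1.IsExactSeq K u₂ v₂) :
    Loc K (v ⊗ₘ v₂).left := by
  rw [MonoidalCategory.tensorHom_def]
  exact Loc.compO (Loc.whiskerRight (loc_v hex) H) (Loc.whiskerLeft (loc_v hex₂) G'')

/-- descent along `v ⊗ₘ v₂`. -/
theorem exists_desc_v_tensor (hex : NonAbH1.IsExactSeq K u v)
    (hex₂ : NonAbH1.IsExactSeq K u₂ v₂) {W : Over S} (c : G ⊗ H ⟶ W)
    (hc₁ : ∀ (T : Over S) (x : T ⟶ G) (g : T ⟶ G') (y : T ⟶ H),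
      lift (x * (g ≫ u)) y ≫ c = lift x y ≫ c)
    (hc₂ : ∀ (T : Over S) (x : T ⟶ G) (y : T ⟶ H) (h : T ⟶ H'),
      lift x (y * (h ≫ u₂)) ≫ c = lift x y ≫ c) :
    ∃ c' : G'' ⊗ H'' ⟶ W, (v ⊗ₘ v₂) ≫ c' = c := by
  refine Loc.exists_desc (loc_v_tensor hex hex₂) c ?_
  intro T p₁ p₂ h
  have e1 : (p₁ ≫ fst G H) ≫ v = (p₂ ≫ fst G H) ≫ v := by
    have := congrArg (· ≫ fst G'' H'') h
    simpa only [Category.assoc, tensorHom_fst] using this
  have e2 : (p₁ ≫ snd G H) ≫ v₂ = (p₂ ≫ snd G H) ≫ v₂ := by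
    have := congrArg (· ≫ snd G'' H'') h
    simpa only [Category.assoc, tensorHom_snd] using this
  obtain ⟨g, hg, -⟩ := existsUnique_of_comp_v_eq hex _ _ e1
  have hg' : (p₁ ≫ fst G H) * (g ≫ u) = p₂ ≫ fst G H := hg
  obtain ⟨k, hk, -⟩ := existsUnique_of_comp_v_eq hex₂ _ _ e2
  have hk' : (p₁ ≫ snd G H) * (k ≫ u₂) = p₂ ≫ snd G H := hk
  calc p₁ ≫ c = lift (p₁ ≫ fst G H) (p₁ ≫ snd G H) ≫ c := by
        rw [← comp_lift, lift_fst_snd, Category.comp_id]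
    _ = lift ((p₁ ≫ fst G H) * (g ≫ u)) (p₁ ≫ snd G H) ≫ c := (hc₁ _ _ _ _).symm
    _ = lift ((p₁ ≫ fst G H) * (g ≫ u)) ((p₁ ≫ snd G H) * (k ≫ u₂)) ≫ c := (hc₂ _ _ _ _).symm
    _ = lift (p₂ ≫ fst G H) (p₂ ≫ snd G H) ≫ c := by rw [hg', hk']
    _ = p₂ ≫ c := by rw [← comp_lift, lift_fst_snd, Category.comp_id]

end Desc

section Main

variable {S : Scheme.{u}} {K : Precoverage Scheme.{u}} [K.toGrothendieck.Subcanonical]
  [K.IsStableUnderBaseChange] [K.IsStableUnderComposition]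

/-- points `(x, 1)` pushed along `v ⊗ₘ v₂`. -/
theorem comp_lift_id_one {P E P₂ E₂ : Over S} [GrpObj P₂] [GrpObj E₂] (v : E ⟶ P) (v₂ : E₂ ⟶ P₂)
    [IsMonHom v₂] :
    v ≫ lift (𝟙 P) (toUnit P ≫ η[P₂]) = lift (𝟙 E) (1 : E ⟶ E₂) ≫ (v ⊗ₘ v₂) := by
  apply CartesianMonoidalCategory.hom_ext
  · rw [Category.assoc, lift_fst, Category.comp_id, Category.assoc, tensorHom_fst,
      lift_fst_assoc, Category.id_comp]
  · rw [Category.assoc, lift_snd, Category.assoc, tensorHom_snd, lift_snd_assoc,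
      MonObj.one_comp, Hom.one_def, ← Category.assoc]
    congr 1
    exact toUnit_unique _ _

theorem comp_lift_one_id {P E P₂ E₂ : Over S} [GrpObj P] [GrpObj E] (v : E ⟶ P) (v₂ : E₂ ⟶ P₂)
    [IsMonHom v] :
    v₂ ≫ lift (toUnit P₂ ≫ η[P]) (𝟙 P₂) = lift (1 : E₂ ⟶ E) (𝟙 E₂) ≫ (v ⊗ₘ v₂) := by
  apply CartesianMonoidalCategory.hom_ext
  · rw [Category.assoc, lift_fst, Category.assoc, tensorHom_fst, lift_fst_assoc,
      MonObj.one_comp, Hom.one_def, ← Category.assoc]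
    congr 1
    exact toUnit_unique _ _
  · rw [Category.assoc, lift_snd, Category.comp_id, Category.assoc, tensorHom_snd,
      lift_snd_assoc, Category.id_comp]

/-- S8718, first part. -/
theorem central_of_exact {P G E : Over S} [GrpObj P] [GrpObj G] [GrpObj E] [IsCommMonObj G]
    (u : G ⟶ E) (v : E ⟶ P) (hex : NonAbH1.IsExactSeq K u v)
    (hPG : ∀ f : P ⊗ G ⟶ G, lift (𝟙 P) (toUnit P ≫ η[G]) ≫ f = 1 →
      lift (toUnit G ≫ η[P]) (𝟙 G) ≫ f = 1 → f = 1) :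
    ∀ (T : Over S) (g : T ⟶ G) (x : T ⟶ E), (g ≫ u) * x = x * (g ≫ u) := by
  haveI := hex.1
  haveI := hex.2.1
  have hcomm : ∀ (T : Over S) (a b : T ⟶ G), a * b = b * a := fun T a b => mul_comm a b
  obtain ⟨d, hd⟩ : ∃ d : E ⊗ G ⟶ E, d = fst E G * (snd E G ≫ u) * (fst E G)⁻¹ *
      (snd E G ≫ u)⁻¹ := ⟨_, rfl⟩
  have hdv : d ≫ v = 1 := by
    rw [hd, MonObj.mul_comp, MonObj.mul_comp, MonObj.mul_comp, GrpObj.inv_comp, GrpObj.inv_comp,
      comp_u_comp_v hex]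
    group
  obtain ⟨ct, hct, -⟩ := existsUnique_of_comp_v_eq_one hex d hdv
  have hct' : ct ≫ u = d := hct
  have hD : ∀ (T : Over S) (x : T ⟶ E) (g : T ⟶ G),
      (lift x g ≫ ct) ≫ u = x * (g ≫ u) * x⁻¹ * (g ≫ u)⁻¹ := by
    intro T x g
    rw [Category.assoc, hct', hd, MonObj.comp_mul, MonObj.comp_mul, MonObj.comp_mul,
      GrpObj.comp_inv, GrpObj.comp_inv, lift_fst, ← Category.assoc, lift_snd]
  have hinv : ∀ (T : Over S) (x : T ⟶ E) (h : T ⟶ G) (g : T ⟶ G),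
      lift (x * (h ≫ u)) g ≫ ct = lift x g ≫ ct := by
    intro T x h g
    apply u_injective hex
    rw [hD, hD]
    apply grp1
    rw [← MonObj.mul_comp, ← MonObj.mul_comp, hcomm]
  obtain ⟨c, hc⟩ := exists_desc_v_whiskerRight hex G ct hinv
  haveI : Epi v := (loc_v hex).epi
  have key1 : lift (𝟙 E) (1 : E ⟶ G) ≫ ct = 1 := by
    apply u_injective hex
    rw [hD, MonObj.one_comp]
    group
  have key2 : lift (1 : G ⟶ E) (𝟙 G) ≫ ct = 1 := by
    apply u_injective hex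
    rw [hD, MonObj.one_comp]
    group
  have hc1 : c = 1 := by
    apply hPG
    · rw [← cancel_epi v, MonObj.comp_one, ← Category.assoc]
      have e := comp_lift_id_one (E₂ := G) (P₂ := G) v (𝟙 G)
      rw [tensorHom_id] at e
      rw [e, Category.assoc, hc, key1]
    · have e := comp_lift_one_id (E₂ := G) (P₂ := G) v (𝟙 G)
      rw [tensorHom_id, Category.id_comp] at e
      rw [e, Category.assoc, hc, key2]
  have hct1 : ct = 1 := by rw [← hc, hc1, MonObj.comp_one]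
  intro T g x
  have h1 := hD T x g
  rw [hct1, MonObj.comp_one, MonObj.one_comp] at h1
  exact (comm_of_commutator _ _ h1.symm).symm

/-- S8718, second part. -/
theorem comm_of_exact {P G E : Over S} [GrpObj P] [GrpObj G] [GrpObj E] [IsCommMonObj G]
    (u : G ⟶ E) (v : E ⟶ P) (hex : NonAbH1.IsExactSeq K u v)
    (hcent : ∀ (T : Over S) (g : T ⟶ G) (x : T ⟶ E), (g ≫ u) * x = x * (g ≫ u))
    [IsCommMonObj P]
    (hPP : ∀ f : P ⊗ P ⟶ G, lift (𝟙 P) (toUnit P ≫ η[P]) ≫ f = 1 →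
      lift (toUnit P ≫ η[P]) (𝟙 P) ≫ f = 1 → f = 1) :
    IsCommMonObj E := by
  haveI := hex.1
  haveI := hex.2.1
  have hcommP : ∀ (T : Over S) (a b : T ⟶ P), a * b = b * a := fun T a b => mul_comm a b
  obtain ⟨d, hd⟩ : ∃ d : E ⊗ E ⟶ E, d = fst E E * snd E E * (fst E E)⁻¹ *
      (snd E E)⁻¹ := ⟨_, rfl⟩
  have hdv : d ≫ v = 1 := by
    rw [hd, MonObj.mul_comp, MonObj.mul_comp, MonObj.mul_comp, GrpObj.inv_comp, GrpObj.inv_comp,
      hcommP _ (fst E E ≫ v) (snd E E ≫ v)]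
    group
  obtain ⟨ct, hct, -⟩ := existsUnique_of_comp_v_eq_one hex d hdv
  have hct' : ct ≫ u = d := hct
  have hD : ∀ (T : Over S) (x y : T ⟶ E),
      (lift x y ≫ ct) ≫ u = x * y * x⁻¹ * y⁻¹ := by
    intro T x y
    rw [Category.assoc, hct', hd, MonObj.comp_mul, MonObj.comp_mul, MonObj.comp_mul,
      GrpObj.comp_inv, GrpObj.comp_inv, lift_fst, lift_snd]
  have hinv1 : ∀ (T : Over S) (x : T ⟶ E) (h : T ⟶ G) (y : T ⟶ E),
      lift (x * (h ≫ u)) y ≫ ct = lift x y ≫ ct := by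
    intro T x h y
    apply u_injective hex
    rw [hD, hD]
    exact grp1 _ _ _ (hcent T h y)
  have hinv2 : ∀ (T : Over S) (x : T ⟶ E) (y : T ⟶ E) (h : T ⟶ G),
      lift x (y * (h ≫ u)) ≫ ct = lift x y ≫ ct := by
    intro T x y h
    apply u_injective hex
    rw [hD, hD]
    exact grp2 _ _ _ (hcent T h x)
  obtain ⟨c, hc⟩ := exists_desc_v_tensor hex hex ct hinv1 hinv2
  haveI : Epi v := (loc_v hex).epi
  have key1 : lift (𝟙 E) (1 : E ⟶ E) ≫ ct = 1 := by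
    apply u_injective hex
    rw [hD, MonObj.one_comp]
    group
  have key2 : lift (1 : E ⟶ E) (𝟙 E) ≫ ct = 1 := by
    apply u_injective hex
    rw [hD, MonObj.one_comp]
    group
  have hc1 : c = 1 := by
    apply hPP
    · rw [← cancel_epi v, MonObj.comp_one, ← Category.assoc, comp_lift_id_one v v, Category.assoc,
        hc, key1]
    · rw [← cancel_epi v, MonObj.comp_one, ← Category.assoc, comp_lift_one_id v v, Category.assoc,
        hc, key2]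
  have hct1 : ct = 1 := by rw [← hc, hc1, MonObj.comp_one]
  have hxy : ∀ (T : Over S) (x y : T ⟶ E), x * y = y * x := by
    intro T x y
    have h1 := hD T x y
    rw [hct1, MonObj.comp_one, MonObj.one_comp] at h1
    exact comm_of_commutator _ _ h1.symm
  refine ⟨?_⟩
  have hβ : (β_ E E).hom = lift (snd E E) (fst E E) := by
    apply CartesianMonoidalCategory.hom_ext
    · rw [braiding_hom_fst, lift_fst]
    · rw [braiding_hom_snd, lift_snd]
  have h2 := hxy (E ⊗ E) (snd E E) (fst E E)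
  rw [Hom.mul_def, Hom.mul_def, lift_fst_snd, Category.id_comp] at h2
  rw [hβ, h2]

/-- S12113. -/
theorem isMonHom_of_bitorsor {P G E E' : Over S} [GrpObj P] [GrpObj G] [GrpObj E] [GrpObj E']
    [IsCommMonObj G]
    (u : G ⟶ E) (v : E ⟶ P) (hex : NonAbH1.IsExactSeq K u v)
    (u' : G ⟶ E') (v' : E' ⟶ P) (hex' : NonAbH1.IsExactSeq K u' v')
    (hPP : ∀ c : P ⊗ P ⟶ G, lift (𝟙 P) (toUnit P ≫ η[P]) ≫ c = 1 →
      lift (toUnit P ≫ η[P]) (𝟙 P) ≫ c = 1 → c = 1)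
    (f : E ⟶ E') (hv : f ≫ v' = v) (hu : u ≫ f = u') (h1 : η[E] ≫ f = η[E'])
    (hl : ∀ (T : Over S) (g : T ⟶ G) (x : T ⟶ E), ((g ≫ u) * x) ≫ f = (g ≫ u') * (x ≫ f))
    (hr : ∀ (T : Over S) (g : T ⟶ G) (x : T ⟶ E), (x * (g ≫ u)) ≫ f = (x ≫ f) * (g ≫ u')) :
    IsMonHom f := by
  haveI := hex.1
  haveI := hex.2.1
  haveI := hex'.1
  haveI := hex'.2.1
  have hf1 : ∀ (T : Over S), (1 : T ⟶ E) ≫ f = 1 := by
    intro T
    rw [Hom.one_def, Category.assoc, h1, ← Hom.one_def]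
  -- the key invariances
  have key1 : ∀ (T : Over S) (x y : T ⟶ E) (g : T ⟶ G),
      (((x * (g ≫ u)) * y) ≫ f) * (((x * (g ≫ u)) ≫ f) * (y ≫ f))⁻¹ =
        ((x * y) ≫ f) * ((x ≫ f) * (y ≫ f))⁻¹ := by
    intro T x y g
    have hyv : (y⁻¹ * (g ≫ u) * y) ≫ v = 1 := by
      rw [MonObj.mul_comp, MonObj.mul_comp, GrpObj.inv_comp, comp_u_comp_v hex]
      group
    obtain ⟨gy, hgy, -⟩ := existsUnique_of_comp_v_eq_one hex _ hyv
    have hgy' : gy ≫ u = y⁻¹ * (g ≫ u) * y := hgy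
    have e1 : x * (g ≫ u) * y = (x * y) * (gy ≫ u) := by rw [hgy']; group
    have e2 : (g ≫ u) * y = y * (gy ≫ u) := by rw [hgy']; group
    have e3 : (g ≫ u') * (y ≫ f) = (y ≫ f) * (gy ≫ u') := by
      rw [← hl, e2, hr]
    rw [e1, hr, hr]
    exact grp3 _ _ _ _ _ e3
  have key2 : ∀ (T : Over S) (x y : T ⟶ E) (g : T ⟶ G),
      ((x * (y * (g ≫ u))) ≫ f) * ((x ≫ f) * ((y * (g ≫ u)) ≫ f))⁻¹ =
        ((x * y) ≫ f) * ((x ≫ f) * (y ≫ f))⁻¹ := by
    intro T x y g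
    rw [← _root_.mul_assoc, hr, hr]
    exact grp4 _ _ _ _
  obtain ⟨d, hd⟩ : ∃ d : E ⊗ E ⟶ E', d = ((fst E E * snd E E) ≫ f) *
      ((fst E E ≫ f) * (snd E E ≫ f))⁻¹ := ⟨_, rfl⟩
  have hdv : d ≫ v' = 1 := by
    rw [hd, MonObj.mul_comp _ _ v', GrpObj.inv_comp _ v', MonObj.mul_comp _ _ v', Category.assoc,
      Category.assoc, Category.assoc, hv, MonObj.mul_comp _ _ v]
    group
  obtain ⟨ct, hct, -⟩ := existsUnique_of_comp_v_eq_one hex' d hdv
  have hct' : ct ≫ u' = d := hct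
  have hD : ∀ (T : Over S) (x y : T ⟶ E),
      (lift x y ≫ ct) ≫ u' = ((x * y) ≫ f) * ((x ≫ f) * (y ≫ f))⁻¹ := by
    intro T x y
    rw [Category.assoc, hct', hd, MonObj.comp_mul, GrpObj.comp_inv, MonObj.comp_mul,
      ← Category.assoc, ← Category.assoc, ← Category.assoc, MonObj.comp_mul, lift_fst, lift_snd]
  have hinv1 : ∀ (T : Over S) (x : T ⟶ E) (h : T ⟶ G) (y : T ⟶ E),
      lift (x * (h ≫ u)) y ≫ ct = lift x y ≫ ct := by
    intro T x h y
    apply u_injective hex'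
    rw [hD, hD]
    exact key1 T x y h
  have hinv2 : ∀ (T : Over S) (x : T ⟶ E) (y : T ⟶ E) (h : T ⟶ G),
      lift x (y * (h ≫ u)) ≫ ct = lift x y ≫ ct := by
    intro T x y h
    apply u_injective hex'
    rw [hD, hD]
    exact key2 T x y h
  obtain ⟨c, hc⟩ := exists_desc_v_tensor hex hex ct hinv1 hinv2
  haveI : Epi v := (loc_v hex).epi
  have k1 : lift (𝟙 E) (1 : E ⟶ E) ≫ ct = 1 := by
    apply u_injective hex'
    rw [hD, hf1, MonObj.one_comp u', _root_.mul_one, _root_.mul_one, Category.id_comp,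
      _root_.mul_inv_cancel]
  have k2 : lift (1 : E ⟶ E) (𝟙 E) ≫ ct = 1 := by
    apply u_injective hex'
    rw [hD, hf1, MonObj.one_comp u', _root_.one_mul, _root_.one_mul, Category.id_comp,
      _root_.mul_inv_cancel]
  have hc1 : c = 1 := by
    apply hPP
    · rw [← cancel_epi v, MonObj.comp_one, ← Category.assoc, comp_lift_id_one v v, Category.assoc,
        hc, k1]
    · rw [← cancel_epi v, MonObj.comp_one, ← Category.assoc, comp_lift_one_id v v, Category.assoc,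
        hc, k2]
  have hct1 : ct = 1 := by rw [← hc, hc1, MonObj.comp_one]
  have hmul : ∀ (T : Over S) (x y : T ⟶ E), (x * y) ≫ f = (x ≫ f) * (y ≫ f) := by
    intro T x y
    have h2 := hD T x y
    rw [hct1, MonObj.comp_one, MonObj.one_comp] at h2
    exact mul_inv_eq_one.mp h2.symm
  refine ⟨h1, ?_⟩
  have h3 := hmul (E ⊗ E) (fst E E) (snd E E)
  rw [Hom.mul_def, Hom.mul_def, lift_fst_snd, Category.id_comp, ← lift_map, lift_fst_snd,
    Category.id_comp] at h3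
  exact h3

end Main

end Groth.Agent.Lib.Helper8CentralExt
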