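import Mathlib

/-!
# Closed points in fibres, part A: commutative algebra preliminaries

* `isIntegrallyClosed_mvPolynomial_fin` : polynomial rings in finitely many variables over an
  integrally closed domain are integrally closed.
* `exists_eval_ne_zero` : a nonzero polynomial over a domain does not vanish identically on a box
  with infinite sides.
* `injective_aeval_of_minimalPrimes` : a system of parameters of a Noetherian algebra over a field
  at a prime of the right height is algebraically independent.
-/

set_option autoImplicit false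
universe u v

namespace Groth.Agent.Lib.Helper8ClFibA

open MvPolynomial

/-- polynomial rings in finitely many variables over an integrally closed domain are integrally
closed -/
theorem isIntegrallyClosed_mvPolynomial_fin (R : Type u) [CommRing R] [IsDomain R]
    [IsIntegrallyClosed R] (n : ℕ) : IsIntegrallyClosed (MvPolynomial (Fin n) R) := by
  induction n with
  | zero => exact IsIntegrallyClosed.of_equiv (MvPolynomial.isEmptyRingEquiv R (Fin 0)).symm
  | succ n ih =>
    haveI := ih
    exact IsIntegrallyClosed.of_equiv (MvPolynomial.finSuccEquiv R n).symm.toRingEquiv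

/-- a nonzero polynomial does not vanish identically on a box with infinite sides -/
theorem exists_eval_ne_zero {R : Type u} [CommRing R] [IsDomain R] {σ : Type v}
    (s : Set R) (hs : s.Infinite) (p : MvPolynomial σ R) (hp : p ≠ 0) :
    ∃ x : σ → R, (∀ i, x i ∈ s) ∧ MvPolynomial.eval x p ≠ 0 := by
  by_contra hcon
  push Not at hcon
  apply hp
  refine MvPolynomial.funext_set (fun _ => s) (fun _ => hs) ?_
  intro x hx
  rw [map_zero]
  exact hcon x (fun i => hx i (Set.mem_univ i))

/-- the image in `R ⧸ I` of a minimal prime over `I` has height zero -/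
theorem height_map_mk_eq_zero {R : Type u} [CommRing R] (I P : Ideal R)
    (hP : P ∈ I.minimalPrimes) : (P.map (Ideal.Quotient.mk I)).height = 0 := by
  haveI := hP.1.1
  have hle : I ≤ P := hP.1.2
  haveI : (P.map (Ideal.Quotient.mk I)).IsPrime :=
    Ideal.map_isPrime_of_surjective Ideal.Quotient.mk_surjective (by rwa [Ideal.mk_ker])
  rw [Ideal.height_eq_zero_iff]
  have h := Ideal.minimalPrimes_map_of_surjective (f := Ideal.Quotient.mk I)
    Ideal.Quotient.mk_surjective I
  rw [Ideal.mk_ker, sup_idem, Ideal.map_quotient_self] at h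
  show P.map (Ideal.Quotient.mk I) ∈ (⊥ : Ideal (R ⧸ I)).minimalPrimes
  rw [h]
  exact ⟨P, hP, rfl⟩

/-- a system of parameters at a prime of the right height in a Noetherian algebra over a field is
algebraically independent -/
theorem injective_aeval_of_minimalPrimes (κ : Type u) [Field κ] (C : Type u) [CommRing C]
    [Algebra κ C] [IsNoetherianRing C] (n : Ideal C) [n.IsPrime] (h : ℕ) (t : Fin h → C)
    (hmin : n ∈ (Ideal.span (Set.range t)).minimalPrimes) (hht : n.height = h) :
    Function.Injective (MvPolynomial.aeval t : MvPolynomial (Fin h) κ →ₐ[κ] C) := by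
  classical
  rw [injective_iff_map_eq_zero]
  intro r hr
  by_contra hr0
  -- the image ring
  let ψ : MvPolynomial (Fin h) κ →ₐ[κ] C := MvPolynomial.aeval t
  let K : Ideal (MvPolynomial (Fin h) κ) := RingHom.ker ψ.toRingHom
  let D := MvPolynomial (Fin h) κ ⧸ K
  let ψ' : D →+* C := Ideal.Quotient.lift K ψ.toRingHom (fun a ha => ha)
  letI : Algebra D C := ψ'.toAlgebra
  have hD : ringKrullDim D + 1 ≤ (h : WithBot ℕ∞) := by
    have h1 := ringKrullDim_succ_le_of_surjective (Ideal.Quotient.mk K)
      Ideal.Quotient.mk_surjective (r := r) (mem_nonZeroDivisors_of_ne_zero hr0)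
      (by rw [Ideal.Quotient.eq_zero_iff_mem]; exact hr)
    rw [MvPolynomial.ringKrullDim_of_isNoetherianRing, ringKrullDim_eq_zero_of_field] at h1
    simpa using h1
  -- the prime of `D` below `n`
  let p : Ideal D := n.comap ψ'
  haveI : p.IsPrime := Ideal.comap_isPrime ψ' n
  haveI : n.LiesOver p := ⟨rfl⟩
  have hineq := Ideal.height_le_height_add_of_liesOver p n
  -- the fibre part has height zero
  have hpmap : Ideal.span (Set.range t) ≤ p.map (algebraMap D C) := by
    rw [Ideal.span_le]
    rintro _ ⟨i, rfl⟩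
    have h1 : (Ideal.Quotient.mk K (MvPolynomial.X i)) ∈ p := by
      show ψ' (Ideal.Quotient.mk K (MvPolynomial.X i)) ∈ n
      have : ψ' (Ideal.Quotient.mk K (MvPolynomial.X i)) = t i := by
        show ψ.toRingHom (MvPolynomial.X i) = t i
        simp [ψ]
      rw [this]
      exact hmin.1.2 (Ideal.subset_span ⟨i, rfl⟩)
    have h2 := Ideal.mem_map_of_mem (algebraMap D C) h1
    have : algebraMap D C (Ideal.Quotient.mk K (MvPolynomial.X i)) = t i := by
      show ψ.toRingHom (MvPolynomial.X i) = t i
      simp [ψ]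
    rwa [this] at h2
  have hpmap' : p.map (algebraMap D C) ≤ n := Ideal.map_le_iff_le_comap.2 le_rfl
  have hmin' : n ∈ (p.map (algebraMap D C)).minimalPrimes := by
    refine ⟨⟨inferInstance, hpmap'⟩, ?_⟩
    rintro Q ⟨hQ, hQle⟩ hQn
    exact hmin.2 ⟨hQ, hpmap.trans hQle⟩ hQn
  have h0 := height_map_mk_eq_zero _ _ hmin'
  rw [h0, add_zero] at hineq
  have hp : (p.height : WithBot ℕ∞) ≤ ringKrullDim D :=
    Ideal.height_le_ringKrullDim_of_ne_top Ideal.IsPrime.ne_top'
  rw [hht] at hineq
  have h3 : ((h : ℕ∞) : WithBot ℕ∞) + 1 ≤ (h : WithBot ℕ∞) := by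
    calc ((h : ℕ∞) : WithBot ℕ∞) + 1 ≤ (p.height : WithBot ℕ∞) + 1 := by
          gcongr
          exact_mod_cast hineq
      _ ≤ ringKrullDim D + 1 := by gcongr
      _ ≤ (h : WithBot ℕ∞) := hD
  have h4 : ((h : ℕ∞) + 1 : ℕ∞) ≤ (h : ℕ∞) := by exact_mod_cast h3
  have h5 : (h : ℕ∞) + 1 ≤ (h : ℕ∞) := h4
  have : ((h + 1 : ℕ) : ℕ∞) ≤ (h : ℕ∞) := by exact_mod_cast h5
  have : h + 1 ≤ h := by exact_mod_cast this
  omega

end Groth.Agent.Lib.Helper8ClFibA
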