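import Mathlib

/-!
# Closed points in fibres, part B: valuation rings

* `exists_dvd_all` : among finitely many elements of a valuation ring one divides all others.
* `exists_primitive` : a nonzero polynomial over a valuation ring is a nonzero constant times a
  polynomial with a coefficient equal to one.
* `injective_aeval_of_injective_residue` : elements of a torsion-free algebra over a valuation ring
  which are algebraically independent modulo the maximal ideal are algebraically independent.
-/

set_option autoImplicit false
universe u v

namespace Groth.Agent.Lib.Helper8ClFibB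

open MvPolynomial IsLocalRing

variable (O : Type u) [CommRing O] [IsDomain O] [ValuationRing O]

theorem exists_dvd_all {ι : Type v} (s : Finset ι) (hs : s.Nonempty) (f : ι → O) :
    ∃ i ∈ s, ∀ j ∈ s, f i ∣ f j := by
  classical
  induction hs using Finset.Nonempty.cons_induction with
  | singleton a => exact ⟨a, Finset.mem_singleton_self a, fun j hj => by
      rw [Finset.mem_singleton] at hj; rw [hj]⟩
  | cons a s ha hs ih =>
    obtain ⟨i, his, hi⟩ := ih
    rcases ValuationRing.dvd_total (f a) (f i) with h | h
    · refine ⟨a, Finset.mem_cons_self a s, fun j hj => ?_⟩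
      rw [Finset.mem_cons] at hj
      rcases hj with rfl | hj
      · exact dvd_rfl
      · exact h.trans (hi j hj)
    · refine ⟨i, Finset.mem_cons.2 (Or.inr his), fun j hj => ?_⟩
      rw [Finset.mem_cons] at hj
      rcases hj with rfl | hj
      · exact h
      · exact hi j hj

theorem exists_primitive {σ : Type v} (P : MvPolynomial σ O) (hP : P ≠ 0) :
    ∃ (c : O) (P' : MvPolynomial σ O) (m : σ →₀ ℕ), c ≠ 0 ∧ P = MvPolynomial.C c * P' ∧
      MvPolynomial.coeff m P' = 1 := by
  classical
  have hne : P.support.Nonempty := by
    rw [Finset.nonempty_iff_ne_empty, Ne, MvPolynomial.support_eq_empty]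
    exact hP
  obtain ⟨m, hm, hdvd⟩ := exists_dvd_all O P.support hne (fun i => MvPolynomial.coeff i P)
  have hc : MvPolynomial.coeff m P ≠ 0 := MvPolynomial.mem_support_iff.1 hm
  have hall : ∀ j, MvPolynomial.coeff m P ∣ MvPolynomial.coeff j P := by
    intro j
    by_cases hj : j ∈ P.support
    · exact hdvd j hj
    · rw [MvPolynomial.notMem_support_iff.1 hj]
      exact dvd_zero _
  choose q hq using hall
  let P' : MvPolynomial σ O := ∑ j ∈ P.support, MvPolynomial.monomial j (q j)
  have hcoeff : ∀ j, MvPolynomial.coeff j P' = q j := by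
    intro j
    simp only [P', MvPolynomial.coeff_sum, MvPolynomial.coeff_monomial]
    rw [Finset.sum_ite_eq']
    split_ifs with hj
    · rfl
    · have h0 : MvPolynomial.coeff j P = 0 := MvPolynomial.notMem_support_iff.1 hj
      have := hq j
      rw [h0] at this
      rcases mul_eq_zero.1 this.symm with h | h
      · exact absurd h hc
      · exact h.symm
  refine ⟨MvPolynomial.coeff m P, P', m, hc, ?_, ?_⟩
  · ext j
    rw [MvPolynomial.coeff_C_mul, hcoeff, ← hq j]
  · rw [hcoeff]
    have := hq m
    have h2 : MvPolynomial.coeff m P * 1 = MvPolynomial.coeff m P * q m := by rw [mul_one]; exact this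
    exact (mul_left_cancel₀ hc h2).symm

variable {O}

theorem injective_aeval_of_injective_residue (B : Type u) [CommRing B] [IsDomain B] [Algebra O B]
    (hinj : Function.Injective (algebraMap O B)) (h : ℕ) (t : Fin h → B)
    (hres : Function.Injective
      (MvPolynomial.aeval (fun i => Ideal.Quotient.mk ((maximalIdeal O).map (algebraMap O B)) (t i)) :
        MvPolynomial (Fin h) (O ⧸ maximalIdeal O) →ₐ[O ⧸ maximalIdeal O]
          (B ⧸ (maximalIdeal O).map (algebraMap O B)))) :
    Function.Injective (MvPolynomial.aeval t : MvPolynomial (Fin h) O →ₐ[O] B) := by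
  rw [injective_iff_map_eq_zero]
  intro P hP
  by_contra hP0
  obtain ⟨c, P', m, hc, hPeq, hm⟩ := exists_primitive O P hP0
  rw [hPeq, map_mul, MvPolynomial.aeval_C] at hP
  have hc' : algebraMap O B c ≠ 0 := fun h0 => hc (hinj (by rw [h0, map_zero]))
  have hP' : MvPolynomial.aeval t P' = 0 := by
    rcases mul_eq_zero.1 hP with h0 | h0
    · exact absurd h0 hc'
    · exact h0
  -- reduce modulo the maximal ideal
  have hred : MvPolynomial.aeval
      (fun i => Ideal.Quotient.mk ((maximalIdeal O).map (algebraMap O B)) (t i))
      (MvPolynomial.map (Ideal.Quotient.mk (maximalIdeal O)) P') = 0 := by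
    have h1 : Ideal.Quotient.mk ((maximalIdeal O).map (algebraMap O B))
        (MvPolynomial.aeval t P') = 0 := by rw [hP', map_zero]
    rw [MvPolynomial.aeval_def, MvPolynomial.eval₂_comp_left] at h1
    rw [MvPolynomial.aeval_def, MvPolynomial.eval₂_map]
    exact h1
  have hzero : MvPolynomial.map (Ideal.Quotient.mk (maximalIdeal O)) P' = 0 :=
    hres (hred.trans (map_zero _).symm)
  have hcoef : MvPolynomial.coeff m (MvPolynomial.map (Ideal.Quotient.mk (maximalIdeal O)) P')
      = 0 := by rw [hzero, MvPolynomial.coeff_zero]
  rw [MvPolynomial.coeff_map, hm, map_one] at hcoef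
  exact one_ne_zero hcoef

end Groth.Agent.Lib.Helper8ClFibB
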