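import Mathlib
import Groth.Agent.Lib.Helper8ClFibA
import Groth.Agent.Lib.Helper8ClFibB

/-!
# Closed points in fibres, part C: parameters over a valuation ring

For a finitely generated torsion-free domain `B` over a valuation ring `O` and a prime `q'` of `B`
over the maximal ideal which is maximal among the primes over it, there are algebraically
independent elements `t₁, …, t_h ∈ q'` such that `q'` is isolated in its fibre over `O[t₁, …, t_h]`.
-/

set_option autoImplicit false
universe u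

namespace Groth.Agent.Lib.Helper8ClFibC

open MvPolynomial IsLocalRing

variable {O : Type u} [CommRing O] [IsDomain O] [ValuationRing O]
  {B : Type u} [CommRing B] [IsDomain B] [Algebra O B] [Algebra.FiniteType O B]

theorem exists_parameters (hinj : Function.Injective (algebraMap O B))
    (q' : Ideal B) [q'.IsPrime] (hq' : q'.comap (algebraMap O B) = maximalIdeal O)
    (hmax : ∀ Q : Ideal B, Q.IsPrime → q' ≤ Q → Q.comap (algebraMap O B) = maximalIdeal O →
      Q = q') :
    ∃ (h : ℕ) (t : Fin h → B) (f : B), (∀ i, t i ∈ q') ∧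
      Function.Injective (MvPolynomial.aeval t : MvPolynomial (Fin h) O →ₐ[O] B) ∧ f ∉ q' ∧
      ∀ Q : Ideal B, Q.IsPrime → (maximalIdeal O).map (algebraMap O B) ≤ Q → (∀ i, t i ∈ Q) →
        f ∉ Q → Q = q' := by
  classical
  letI : Field (O ⧸ maximalIdeal O) := Ideal.Quotient.field _
  set I₀ : Ideal B := (maximalIdeal O).map (algebraMap O B) with hI₀
  have hI₀q : I₀ ≤ q' := by
    rw [hI₀, Ideal.map_le_iff_le_comap, hq']
  haveI : Algebra.FiniteType O (B ⧸ I₀) :=
    Algebra.FiniteType.of_surjective (Ideal.Quotient.mkₐ O I₀) Ideal.Quotient.mk_surjective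
  haveI : Algebra.FiniteType (O ⧸ maximalIdeal O) (B ⧸ I₀) :=
    Algebra.FiniteType.of_restrictScalars_finiteType O (O ⧸ maximalIdeal O) (B ⧸ I₀)
  haveI : IsNoetherianRing (B ⧸ I₀) :=
    Algebra.FiniteType.isNoetherianRing (O ⧸ maximalIdeal O) (B ⧸ I₀)
  let n : Ideal (B ⧸ I₀) := q'.map (Ideal.Quotient.mk I₀)
  haveI hnprime : n.IsPrime :=
    Ideal.map_isPrime_of_surjective Ideal.Quotient.mk_surjective (by rwa [Ideal.mk_ker])
  have hmem : ∀ x : B, Ideal.Quotient.mk I₀ x ∈ n ↔ x ∈ q' := fun x =>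
    Ideal.mem_quotient_iff_mem hI₀q
  obtain ⟨s, hs, hcard⟩ := Ideal.exists_finset_card_eq_height_of_isNoetherianRing n
  obtain ⟨h, hh⟩ : ∃ h : ℕ, s.card = h := ⟨_, rfl⟩
  have hht : n.height = h := by rw [← hcard, hh]
  let e : s ≃ Fin h := s.equivFinOfCardEq hh
  let tb : Fin h → B ⧸ I₀ := fun i => (e.symm i).1
  have hrange : Set.range tb = (s : Set (B ⧸ I₀)) := by
    ext x
    constructor
    · rintro ⟨i, rfl⟩
      exact (e.symm i).2
    · intro hx
      exact ⟨e ⟨x, hx⟩, by simp [tb]⟩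
  have hs' : n ∈ (Ideal.span (Set.range tb)).minimalPrimes := by rw [hrange]; exact hs
  have hlift : ∀ i, ∃ b : B, Ideal.Quotient.mk I₀ b = tb i := fun i =>
    Ideal.Quotient.mk_surjective (tb i)
  choose t ht using hlift
  have htq : ∀ i, t i ∈ q' := by
    intro i
    rw [← hmem, ht]
    exact hs'.1.2 (Ideal.subset_span ⟨i, rfl⟩)
  -- independence
  have hind0 := Groth.Agent.Lib.Helper8ClFibA.injective_aeval_of_minimalPrimes
    (O ⧸ maximalIdeal O) (B ⧸ I₀) n h tb hs' hht
  have hind : Function.Injective (MvPolynomial.aeval t : MvPolynomial (Fin h) O →ₐ[O] B) := by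
    apply Groth.Agent.Lib.Helper8ClFibB.injective_aeval_of_injective_residue B hinj h t
    have : (fun i => Ideal.Quotient.mk ((maximalIdeal O).map (algebraMap O B)) (t i)) = tb := by
      funext i
      exact ht i
    rw [this]
    exact hind0
  -- the isolating element
  have hfin : (Ideal.span (Set.range tb)).minimalPrimes.Finite :=
    Ideal.finite_minimalPrimes_of_isNoetherianRing _ _
  let M : Finset (Ideal (B ⧸ I₀)) := hfin.toFinset.erase n
  have hM : ∀ P ∈ M, ∃ x : B ⧸ I₀, x ∈ P ∧ x ∉ n := by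
    intro P hP
    rw [Finset.mem_erase, Set.Finite.mem_toFinset] at hP
    by_contra hcon
    push Not at hcon
    have hPn : P ≤ n := fun x hx => hcon x hx
    exact hP.1 (le_antisymm hPn (hs'.2 hP.2.1 hPn))
  choose! x hxP hxn using hM
  let fb : B ⧸ I₀ := ∏ P ∈ M, x P
  have hfbn : fb ∉ n := by
    intro hmem'
    obtain ⟨P, hPM, hP⟩ := (Ideal.IsPrime.prod_mem_iff).1 hmem'
    exact hxn P hPM hP
  have hfbP : ∀ P ∈ M, fb ∈ P := fun P hP =>
    Ideal.prod_mem _ hP (hxP P hP)
  obtain ⟨f, hf⟩ := Ideal.Quotient.mk_surjective fb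
  refine ⟨h, t, f, htq, hind, ?_, ?_⟩
  · rw [← hmem, hf]; exact hfbn
  · intro Q hQ hIQ htQ hfQ
    haveI := hQ
    let Qb : Ideal (B ⧸ I₀) := Q.map (Ideal.Quotient.mk I₀)
    haveI hQbprime : Qb.IsPrime :=
      Ideal.map_isPrime_of_surjective Ideal.Quotient.mk_surjective (by rwa [Ideal.mk_ker])
    have hmemQ : ∀ x : B, Ideal.Quotient.mk I₀ x ∈ Qb ↔ x ∈ Q := fun x =>
      Ideal.mem_quotient_iff_mem hIQ
    have hspan : Ideal.span (Set.range tb) ≤ Qb := by
      rw [Ideal.span_le]
      rintro _ ⟨i, rfl⟩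
      rw [← ht i]
      exact (hmemQ _).2 (htQ i)
    obtain ⟨P, hPmin, hPQ⟩ := Ideal.exists_minimalPrimes_le hspan
    have hPn : P = n := by
      by_contra hne
      have hPM : P ∈ M := by
        rw [Finset.mem_erase, Set.Finite.mem_toFinset]
        exact ⟨hne, hPmin⟩
      have : fb ∈ Qb := hPQ (hfbP P hPM)
      rw [← hf, hmemQ] at this
      exact hfQ this
    have hqQ : q' ≤ Q := by
      intro y hy
      rw [← hmemQ]
      apply hPQ
      rw [hPn]
      exact (hmem y).2 hy
    refine hmax Q hQ hqQ ?_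
    apply le_antisymm
    · exact IsLocalRing.le_maximalIdeal (Ideal.comap_ne_top _ hQ.ne_top)
    · rw [← Ideal.map_le_iff_le_comap]
      exact hIQ

end Groth.Agent.Lib.Helper8ClFibC
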