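import Mathlib
import Groth.Agent.Lib.Helper8ClFibA
import Groth.Agent.Lib.Helper8ClFibB
import Groth.Agent.Lib.Helper8ClFibC
import Groth.Agent.Lib.Helper6UniA

/-!
# Closed points in fibres, part D: generic points of curves through a point of the closed fibre
over a valuation ring

* `exists_prime_le_of_quasiFiniteAt_of_isIntegrallyClosed` : going-down for an injective finite type
  extension `R₀ → B` of domains, `R₀` integrally closed, at a prime where it is quasi-finite
  (Zariski's main theorem + going-down for integral extensions).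
* `exists_prime_val` : for a finitely generated torsion-free domain `B` over a valuation ring `O`
  which is not a field, a prime `q'` over the maximal ideal, maximal among such, and `g ≠ 0`, there
  is a prime `q₁ ≤ q'` over `(0)` avoiding `g` with `B ⧸ q₁` algebraic over `O`.
-/

set_option autoImplicit false
universe u

namespace Groth.Agent.Lib.Helper8ClFibD

open MvPolynomial IsLocalRing

/-- going-down at a quasi-finite prime over an integrally closed domain -/
theorem exists_prime_le_of_quasiFiniteAt_of_isIntegrallyClosed {R₀ B : Type u} [CommRing R₀]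
    [IsDomain R₀] [IsIntegrallyClosed R₀] [CommRing B] [IsDomain B] [Algebra R₀ B]
    [Algebra.FiniteType R₀ B] (hinj : Function.Injective (algebraMap R₀ B))
    (q' : Ideal B) [q'.IsPrime] [Algebra.QuasiFiniteAt R₀ q'] :
    ∃ r : B, r ∉ q' ∧ IsIntegral R₀ r ∧ (∀ x : B, ∃ k : ℕ, IsIntegral R₀ (r ^ k * x)) ∧
      ∀ 𝔠 : Ideal R₀, 𝔠.IsPrime → 𝔠 ≤ q'.comap (algebraMap R₀ B) →
        ∃ q₁ : Ideal B, q₁.IsPrime ∧ q₁ ≤ q' ∧ q₁.comap (algebraMap R₀ B) = 𝔠 := by
  obtain ⟨r, hrP, hr, hZ⟩ := Algebra.zariskisMainProperty_iff.mp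
    (Algebra.ZariskisMainProperty.of_finiteType (R := R₀) q')
  refine ⟨r, hrP, hr, hZ, ?_⟩
  intro 𝔠 h𝔠 hle
  haveI := h𝔠
  haveI : FaithfulSMul R₀ (integralClosure R₀ B) := by
    rw [faithfulSMul_iff_algebraMap_injective]
    intro x y hxy
    apply hinj
    have := congrArg (algebraMap (integralClosure R₀ B) B) hxy
    rwa [← IsScalarTower.algebraMap_apply, ← IsScalarTower.algebraMap_apply] at this
  let n : Ideal (integralClosure R₀ B) := q'.comap (algebraMap (integralClosure R₀ B) B)
  haveI : n.IsPrime := Ideal.comap_isPrime _ _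
  let o : Ideal R₀ := q'.comap (algebraMap R₀ B)
  haveI : o.IsPrime := Ideal.comap_isPrime _ _
  haveI : n.LiesOver o := by
    refine ⟨?_⟩
    rw [Ideal.under_def]
    show q'.comap (algebraMap R₀ B) = (q'.comap _).comap _
    rw [Ideal.comap_comap, ← IsScalarTower.algebraMap_eq]
  obtain ⟨Q₁, hQ₁le, hQ₁p, hQ₁o⟩ := Ideal.exists_ideal_le_liesOver_of_le (p := 𝔠) (q := o) n hle
  haveI := hQ₁p
  obtain ⟨Q, hQp, hQle, hQc⟩ :=
    Groth.Agent.Lib.Helper6.Uni.exists_prime_le_of_zariski q' r hrP hr hZ Q₁ hQ₁le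
  refine ⟨Q, hQp, hQle, ?_⟩
  rw [IsScalarTower.algebraMap_eq R₀ (integralClosure R₀ B) B, ← Ideal.comap_comap, hQc]
  exact (hQ₁o.over).symm

/-- the polynomial-ring form of the main step -/
theorem exists_prime_of_quasiFiniteAt_mvPolynomial {O : Type u} [CommRing O] [IsDomain O]
    [IsIntegrallyClosed O] (h : ℕ) {B : Type u} [CommRing B] [IsDomain B] [Algebra O B]
    [Algebra (MvPolynomial (Fin h) O) B] [IsScalarTower O (MvPolynomial (Fin h) O) B]
    [Algebra.FiniteType (MvPolynomial (Fin h) O) B]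
    (hinj : Function.Injective (algebraMap (MvPolynomial (Fin h) O) B))
    (q' : Ideal B) [q'.IsPrime] [Algebra.QuasiFiniteAt (MvPolynomial (Fin h) O) q']
    (hX : ∀ i, algebraMap (MvPolynomial (Fin h) O) B (X i) ∈ q')
    (s : Set O) (hs : s.Infinite) (hsq : ∀ x ∈ s, algebraMap O B x ∈ q')
    (g : B) (hg : g ≠ 0) :
    ∃ q₁ : Ideal B, q₁.IsPrime ∧ q₁ ≤ q' ∧ q₁.comap (algebraMap O B) = ⊥ ∧ g ∉ q₁ ∧
      ∀ b : B, IsAlgebraic O (Ideal.Quotient.mk q₁ b) := by
  classical
  haveI : IsIntegrallyClosed (MvPolynomial (Fin h) O) :=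
    Groth.Agent.Lib.Helper8ClFibA.isIntegrallyClosed_mvPolynomial_fin O h
  obtain ⟨r, hrq, hr, hZ, hgd⟩ := exists_prime_le_of_quasiFiniteAt_of_isIntegrallyClosed hinj q'
  obtain ⟨k, hk⟩ := hZ g
  have hr0 : r ≠ 0 := fun h0 => hrq (h0 ▸ q'.zero_mem)
  have hG0 : r ^ k * g ≠ 0 := mul_ne_zero (pow_ne_zero _ hr0) hg
  obtain ⟨a, ha0, hadvd⟩ :=
    hk.isAlgebraic.exists_nonzero_dvd (mem_nonZeroDivisors_of_ne_zero hG0)
  obtain ⟨c, hcs, hca⟩ := Groth.Agent.Lib.Helper8ClFibA.exists_eval_ne_zero s hs a ha0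
  let 𝔠 : Ideal (MvPolynomial (Fin h) O) := RingHom.ker (MvPolynomial.eval c)
  haveI h𝔠 : 𝔠.IsPrime := RingHom.ker_isPrime _
  have hmem𝔠 : ∀ P, P ∈ 𝔠 ↔ MvPolynomial.eval c P = 0 := fun P => RingHom.mem_ker
  have hle : 𝔠 ≤ q'.comap (algebraMap (MvPolynomial (Fin h) O) B) := by
    have heq : (Ideal.Quotient.mk q').comp (algebraMap (MvPolynomial (Fin h) O) B) =
        (Ideal.Quotient.mk q').comp ((algebraMap O B).comp (MvPolynomial.eval c)) := by
      apply MvPolynomial.ringHom_ext
      · intro x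
        simp only [RingHom.comp_apply, MvPolynomial.eval_C]
        rw [← MvPolynomial.algebraMap_eq, ← IsScalarTower.algebraMap_apply]
      · intro i
        simp only [RingHom.comp_apply, MvPolynomial.eval_X]
        rw [Ideal.Quotient.eq_zero_iff_mem.2 (hX i),
          Ideal.Quotient.eq_zero_iff_mem.2 (hsq _ (hcs i))]
    intro P hP
    rw [Ideal.mem_comap, ← Ideal.Quotient.eq_zero_iff_mem]
    have h1 := RingHom.congr_fun heq P
    simp only [RingHom.comp_apply] at h1
    rw [h1, (hmem𝔠 P).1 hP, map_zero, map_zero]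
  obtain ⟨q₁, hq₁p, hq₁le, hq₁c⟩ := hgd 𝔠 h𝔠 hle
  haveI := hq₁p
  have hmemq₁ : ∀ P : MvPolynomial (Fin h) O,
      algebraMap (MvPolynomial (Fin h) O) B P ∈ q₁ ↔ MvPolynomial.eval c P = 0 := by
    intro P
    rw [← hmem𝔠, ← hq₁c, Ideal.mem_comap]
  refine ⟨q₁, hq₁p, hq₁le, ?_, ?_, ?_⟩
  · rw [eq_bot_iff]
    intro x hx
    rw [Ideal.mem_comap, IsScalarTower.algebraMap_apply O (MvPolynomial (Fin h) O) B,
      hmemq₁, MvPolynomial.algebraMap_eq, MvPolynomial.eval_C] at hx
    exact hx
  · intro hgq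
    apply hca
    rw [← hmemq₁]
    exact Ideal.mem_of_dvd _ hadvd (Ideal.mul_mem_left _ _ hgq)
  · -- algebraicity
    have hsq' : (algebraMap O (B ⧸ q₁)).comp (MvPolynomial.eval c) =
        (Ideal.Quotient.mk q₁).comp (algebraMap (MvPolynomial (Fin h) O) B) := by
      apply MvPolynomial.ringHom_ext
      · intro x
        simp only [RingHom.comp_apply, MvPolynomial.eval_C]
        rw [← MvPolynomial.algebraMap_eq, ← IsScalarTower.algebraMap_apply]
        rfl
      · intro i
        simp only [RingHom.comp_apply, MvPolynomial.eval_X]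
        have h1 : algebraMap (MvPolynomial (Fin h) O) B (X i - C (c i)) ∈ q₁ := by
          rw [hmemq₁]
          simp
        rw [map_sub, ← MvPolynomial.algebraMap_eq,
          ← IsScalarTower.algebraMap_apply O (MvPolynomial (Fin h) O) B] at h1
        have h2 := Ideal.Quotient.eq.2 h1
        rw [h2]
        rfl
    have hint : ∀ x : B, IsIntegral (MvPolynomial (Fin h) O) x →
        IsIntegral O (Ideal.Quotient.mk q₁ x) := fun x hx =>
      IsIntegral.map_of_comp_eq (MvPolynomial.eval c) (Ideal.Quotient.mk q₁) hsq' hx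
    intro b
    obtain ⟨j, hj⟩ := hZ b
    have hrb : Ideal.Quotient.mk q₁ r ≠ 0 := by
      rw [Ne, Ideal.Quotient.eq_zero_iff_mem]
      exact fun hmem => hrq (hq₁le hmem)
    have h1 : IsAlgebraic O ((Ideal.Quotient.mk q₁ r) ^ j) := ((hint r hr).pow j).isAlgebraic
    have h2 : IsAlgebraic O ((Ideal.Quotient.mk q₁ r) ^ j * Ideal.Quotient.mk q₁ b) := by
      have := (hint _ hj).isAlgebraic
      rwa [map_mul, map_pow] at this
    exact IsAlgebraic.of_mul (mem_nonZeroDivisors_of_ne_zero (pow_ne_zero _ hrb)) h1 h2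

variable {O : Type u} [CommRing O] [IsDomain O] [ValuationRing O]
  {B : Type u} [CommRing B] [IsDomain B] [Algebra O B] [Algebra.FiniteType O B]

/-- the maximal ideal of a local domain which is not a field is infinite -/
theorem infinite_maximalIdeal (hO : maximalIdeal O ≠ ⊥) :
    ((maximalIdeal O : Ideal O) : Set O).Infinite := by
  obtain ⟨π, hπm, hπ0⟩ := Submodule.exists_mem_ne_zero_of_ne_bot hO
  haveI : Infinite O := by
    by_contra hfin
    rw [not_infinite_iff_finite] at hfin
    haveI := hfin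
    have hfield : IsField O := Finite.isField_of_domain O
    exact hO (IsLocalRing.isField_iff_maximalIdeal_eq.1 hfield)
  exact Set.infinite_of_injective_forall_mem (f := fun x : O => π * x) (mul_right_injective₀ hπ0)
    (fun x => Ideal.mul_mem_right _ _ hπm)

/-- **Curves through a point of the closed fibre over a valuation ring.** -/
theorem exists_prime_val (hO : maximalIdeal O ≠ ⊥)
    (hinj : Function.Injective (algebraMap O B))
    (q' : Ideal B) [q'.IsPrime] (hq' : q'.comap (algebraMap O B) = maximalIdeal O)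
    (hmax : ∀ Q : Ideal B, Q.IsPrime → q' ≤ Q → Q.comap (algebraMap O B) = maximalIdeal O →
      Q = q')
    (g : B) (hg : g ≠ 0) :
    ∃ q₁ : Ideal B, q₁.IsPrime ∧ q₁ ≤ q' ∧ q₁.comap (algebraMap O B) = ⊥ ∧ g ∉ q₁ ∧
      ∀ b : B, IsAlgebraic O (Ideal.Quotient.mk q₁ b) := by
  classical
  obtain ⟨h, t, f, htq, hind, hfq, hiso⟩ :=
    Groth.Agent.Lib.Helper8ClFibC.exists_parameters hinj q' hq' hmax
  letI algR : Algebra (MvPolynomial (Fin h) O) B :=
    (MvPolynomial.aeval t : MvPolynomial (Fin h) O →ₐ[O] B).toRingHom.toAlgebra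
  have halg : ∀ P, algebraMap (MvPolynomial (Fin h) O) B P = MvPolynomial.aeval t P :=
    fun P => rfl
  haveI tower : IsScalarTower O (MvPolynomial (Fin h) O) B :=
    IsScalarTower.of_algebraMap_eq (fun x => by
      rw [halg, MvPolynomial.algebraMap_eq, MvPolynomial.aeval_C])
  haveI : Algebra.FiniteType (MvPolynomial (Fin h) O) B :=
    Algebra.FiniteType.of_restrictScalars_finiteType O _ B
  haveI : IsIntegrallyClosed O := by
    letI := IsBezout.toGCDDomain O
    exact GCDMonoid.toIsIntegrallyClosed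
  have hmO : ∀ x ∈ maximalIdeal O, algebraMap O B x ∈ q' := by
    intro x hx
    rw [← hq'] at hx
    exact hx
  -- quasi-finiteness
  haveI : Algebra.QuasiFiniteAt (MvPolynomial (Fin h) O) q' := by
    let qs : PrimeSpectrum B := ⟨q', inferInstance⟩
    apply Algebra.QuasiFiniteAt.of_isOpen_singleton_fiber qs
    have hset : ({⟨qs, rfl⟩} : Set (PrimeSpectrum.comap (algebraMap (MvPolynomial (Fin h) O) B) ⁻¹'
        {qs.comap (algebraMap (MvPolynomial (Fin h) O) B)})) =
        Subtype.val ⁻¹' (PrimeSpectrum.basicOpen f : Set (PrimeSpectrum B)) := by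
      ext ⟨Q, hQ⟩
      simp only [Set.mem_singleton_iff, Set.mem_preimage, Subtype.mk.injEq]
      constructor
      · intro h
        rw [h]
        exact hfq
      · intro hfQ
        have hQ' : Q.asIdeal.comap (algebraMap (MvPolynomial (Fin h) O) B) =
            q'.comap (algebraMap (MvPolynomial (Fin h) O) B) :=
          congrArg PrimeSpectrum.asIdeal hQ
        apply PrimeSpectrum.ext
        apply hiso Q.asIdeal Q.2 ?_ ?_ hfQ
        · rw [Ideal.map_le_iff_le_comap]
          intro x hx
          have h1 : (C x : MvPolynomial (Fin h) O) ∈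
              q'.comap (algebraMap (MvPolynomial (Fin h) O) B) := by
            rw [Ideal.mem_comap, halg, MvPolynomial.aeval_C]
            exact hmO x hx
          rw [← hQ', Ideal.mem_comap, halg, MvPolynomial.aeval_C] at h1
          exact h1
        · intro i
          have h1 : (X i : MvPolynomial (Fin h) O) ∈
              q'.comap (algebraMap (MvPolynomial (Fin h) O) B) := by
            rw [Ideal.mem_comap, halg, MvPolynomial.aeval_X]
            exact htq i
          rw [← hQ', Ideal.mem_comap, halg, MvPolynomial.aeval_X] at h1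
          exact h1
    rw [hset]
    exact (PrimeSpectrum.basicOpen f).2.preimage continuous_subtype_val
  exact exists_prime_of_quasiFiniteAt_mvPolynomial h (fun x y hxy => hind hxy) q'
    (fun i => by rw [halg, MvPolynomial.aeval_X]; exact htq i)
    ((maximalIdeal O : Ideal O) : Set O) (infinite_maximalIdeal hO) hmO g hg

end Groth.Agent.Lib.Helper8ClFibD
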