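import Mathlib
import Groth.Agent.Lib.Helper8ClFibD

/-!
# Closed points in fibres, part E: curves through a point of a special fibre (ring form)

`exists_prime_alg` : for an injective finite type extension `A → B` of domains, a prime `q'` of `B`
over a nonzero prime `p'` of `A`, maximal among the primes over `p'`, and `g ≠ 0`, there is a prime
`q₁ ≤ q'` over `(0)`, avoiding `g`, with `B ⧸ q₁` algebraic over `A` (EGA IV 10.5.9-like).
-/

set_option autoImplicit false
universe u

namespace Groth.Agent.Lib.Helper8ClFibE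

open IsLocalRing

/-- abstract form: `O` a valuation ring algebraic over `A`, `B₀` a finitely generated `O`-domain
receiving `B`, everything mapping to a local ring `W` dominating `O` and `B_{q'}`. -/
theorem exists_prime_of_dominating_aux {A B O B₀ W : Type u} [CommRing A] [IsDomain A] [CommRing B]
    [IsDomain B] [Algebra A B]
    [CommRing O] [IsDomain O] [ValuationRing O] [Algebra A O] [Algebra.IsAlgebraic A O]
    [CommRing B₀] [IsDomain B₀] [Algebra O B₀] [Algebra.FiniteType O B₀]
    [CommRing W] [IsLocalRing W]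
    (ψ : B →+* B₀) (ι : B₀ →+* W)
    (hAO : Function.Injective (algebraMap A O))
    (hOB₀ : Function.Injective (algebraMap O B₀))
    (hψ : Function.Injective ψ)
    (hcomm : ∀ a : A, ψ (algebraMap A B a) = algebraMap O B₀ (algebraMap A O a))
    (hOloc : (maximalIdeal W).comap (ι.comp (algebraMap O B₀)) = maximalIdeal O)
    (q' : Ideal B) [q'.IsPrime] (hq' : (maximalIdeal W).comap (ι.comp ψ) = q')
    (hne : q'.comap (algebraMap A B) ≠ ⊥)
    (hmax : ∀ Q : Ideal B, Q.IsPrime → q' ≤ Q →
      Q.comap (algebraMap A B) = q'.comap (algebraMap A B) → Q = q')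
    (g : B) (hg : g ≠ 0) :
    ∃ q₁ : Ideal B, q₁.IsPrime ∧ q₁ ≤ q' ∧ q₁.comap (algebraMap A B) = ⊥ ∧ g ∉ q₁ ∧
      ∀ b : B, IsAlgebraic A (Ideal.Quotient.mk q₁ b) := by
  classical
  -- a maximal ideal of `B₀` containing the trace of the maximal ideal of `W`
  have hI₀ : (maximalIdeal W).comap ι ≠ ⊤ := Ideal.comap_ne_top _ (maximalIdeal.isMaximal W).ne_top
  obtain ⟨M, hMmax, hIM⟩ := Ideal.exists_le_maximal _ hI₀
  haveI := hMmax
  haveI hMprime : M.IsPrime := hMmax.isPrime
  have hMO : M.comap (algebraMap O B₀) = maximalIdeal O := by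
    apply le_antisymm
    · exact IsLocalRing.le_maximalIdeal (Ideal.comap_ne_top _ hMprime.ne_top)
    · intro x hx
      rw [← hOloc] at hx
      exact hIM hx
  -- `A ∩ m_O = p'`
  have hAm : ∀ a : A, algebraMap A O a ∈ maximalIdeal O ↔ algebraMap A B a ∈ q' := by
    intro a
    rw [← hOloc, ← hq', Ideal.mem_comap, Ideal.mem_comap, RingHom.comp_apply, RingHom.comp_apply,
      hcomm]
  have hO : maximalIdeal O ≠ ⊥ := by
    intro hbot
    apply hne
    rw [eq_bot_iff]
    intro a ha
    rw [Ideal.mem_comap, ← hAm, hbot, Ideal.mem_bot] at ha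
    rw [Ideal.mem_bot]
    exact hAO (by rw [ha, map_zero])
  have hgψ : ψ g ≠ 0 := fun h0 => hg (hψ (by rw [h0, map_zero]))
  obtain ⟨q₀, hq₀p, hq₀le, hq₀c, hq₀g, hq₀alg⟩ :=
    Groth.Agent.Lib.Helper8ClFibD.exists_prime_val hO hOB₀ M hMO
      (fun Q hQ hle _ => (hMmax.eq_of_le hQ.ne_top hle).symm) (ψ g) hgψ
  haveI := hq₀p
  refine ⟨q₀.comap ψ, Ideal.comap_isPrime _ _, ?_, ?_, hq₀g, ?_⟩
  · -- `q₁ ≤ q'`
    have hQ : M.comap ψ = q' := by
      apply hmax _ (Ideal.comap_isPrime _ _)
      · intro b hb
        rw [← hq'] at hb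
        exact hIM hb
      · ext a
        rw [Ideal.mem_comap, Ideal.mem_comap, Ideal.mem_comap, hcomm, ← hAm, ← hMO,
          Ideal.mem_comap]
    rw [← hQ]
    exact Ideal.comap_mono hq₀le
  · rw [eq_bot_iff]
    intro a ha
    rw [Ideal.mem_comap, Ideal.mem_comap, hcomm] at ha
    have h1 : algebraMap A O a ∈ q₀.comap (algebraMap O B₀) := ha
    rw [hq₀c, Ideal.mem_bot] at h1
    rw [Ideal.mem_bot]
    exact hAO (by rw [h1, map_zero])
  · intro b
    letI algAD : Algebra A (B₀ ⧸ q₀) :=
      ((algebraMap O (B₀ ⧸ q₀)).comp (algebraMap A O)).toAlgebra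
    haveI : IsScalarTower A O (B₀ ⧸ q₀) := IsScalarTower.of_algebraMap_eq (fun _ => rfl)
    have h2 : IsAlgebraic A (Ideal.Quotient.mk q₀ (ψ b)) := (hq₀alg (ψ b)).restrictScalars A
    let χ : B ⧸ q₀.comap ψ →+* B₀ ⧸ q₀ := Ideal.quotientMap q₀ ψ le_rfl
    have hχ : Function.Injective χ := Ideal.quotientMap_injective
    have heq : (algebraMap A (B₀ ⧸ q₀)).comp (RingHom.id A) =
        χ.comp (algebraMap A (B ⧸ q₀.comap ψ)) := by
      ext a
      show Ideal.Quotient.mk q₀ (algebraMap O B₀ (algebraMap A O a)) =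
        χ (Ideal.Quotient.mk _ (algebraMap A B a))
      rw [Ideal.quotientMap_mk, hcomm]
    have h3 : IsAlgebraic A (χ (Ideal.Quotient.mk _ b)) := by
      rw [Ideal.quotientMap_mk]
      exact h2
    exact IsAlgebraic.of_ringHom_of_comp_eq (RingHom.id A) χ h3 Function.surjective_id hχ heq

open TensorProduct in
/-- form with a local domain `W` containing `O` and `B`: the ring `B₀` is the `O`-subalgebra of `W`
generated by `B`. -/
theorem exists_prime_of_dominating {A B O W : Type u} [CommRing A] [IsDomain A] [CommRing B]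
    [IsDomain B] [Algebra A B] [Algebra.FiniteType A B]
    [CommRing O] [IsDomain O] [ValuationRing O] [Algebra A O] [Algebra.IsAlgebraic A O]
    [CommRing W] [IsDomain W] [IsLocalRing W] [Algebra A W] [Algebra O W] [Algebra B W]
    [IsScalarTower A O W] [IsScalarTower A B W]
    (hAB : Function.Injective (algebraMap A B))
    (hBW : Function.Injective (algebraMap B W)) (hOW : Function.Injective (algebraMap O W))
    (hOloc : (maximalIdeal W).comap (algebraMap O W) = maximalIdeal O)
    (q' : Ideal B) [q'.IsPrime] (hq' : (maximalIdeal W).comap (algebraMap B W) = q')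
    (hne : q'.comap (algebraMap A B) ≠ ⊥)
    (hmax : ∀ Q : Ideal B, Q.IsPrime → q' ≤ Q →
      Q.comap (algebraMap A B) = q'.comap (algebraMap A B) → Q = q')
    (g : B) (hg : g ≠ 0) :
    ∃ q₁ : Ideal B, q₁.IsPrime ∧ q₁ ≤ q' ∧ q₁.comap (algebraMap A B) = ⊥ ∧ g ∉ q₁ ∧
      ∀ b : B, IsAlgebraic A (Ideal.Quotient.mk q₁ b) := by
  classical
  let φ : O ⊗[A] B →ₐ[O] W := Algebra.TensorProduct.lift (Algebra.ofId O W)
    (IsScalarTower.toAlgHom A B W) (fun _ _ => Commute.all _ _)
  let ψ : B →+* φ.range := (φ.rangeRestrict.toRingHom).comp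
    (Algebra.TensorProduct.includeRight : B →ₐ[A] O ⊗[A] B).toRingHom
  have hψval : ∀ b, ((ψ b : φ.range) : W) = algebraMap B W b := by
    intro b
    simp [ψ, φ]
  haveI : Algebra.FiniteType O φ.range :=
    Algebra.FiniteType.of_surjective φ.rangeRestrict φ.rangeRestrict_surjective
  have hAO : Function.Injective (algebraMap A O) := by
    intro x y hxy
    apply hAB
    apply hBW
    rw [← IsScalarTower.algebraMap_apply A B W, ← IsScalarTower.algebraMap_apply A B W,
      IsScalarTower.algebraMap_apply A O W, IsScalarTower.algebraMap_apply A O W, hxy]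
  have hι1 : (φ.range.val.toRingHom).comp (algebraMap O φ.range) = algebraMap O W := by
    ext x
    rfl
  have hι2 : (φ.range.val.toRingHom).comp ψ = algebraMap B W := by
    ext b
    exact hψval b
  refine exists_prime_of_dominating_aux (B₀ := φ.range) (W := W) ψ φ.range.val.toRingHom hAO
    ?_ ?_ ?_ ?_ q' ?_ hne hmax g hg
  · intro x y hxy
    apply hOW
    have := congrArg (fun z : φ.range => (z : W)) hxy
    exact this
  · intro x y hxy
    apply hBW
    rw [← hψval, ← hψval, hxy]
  · intro a
    apply Subtype.ext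
    rw [hψval, ← IsScalarTower.algebraMap_apply A B W, IsScalarTower.algebraMap_apply A O W]
    rfl
  · rw [hι1, hOloc]
  · rw [hι2, hq']

/-- **Curves through a point of a special fibre (ring form).** -/
theorem exists_prime_alg {A B : Type u} [CommRing A] [IsDomain A] [CommRing B] [IsDomain B]
    [Algebra A B] [Algebra.FiniteType A B]
    (hAB : Function.Injective (algebraMap A B)) (q' : Ideal B) [q'.IsPrime]
    (hne : q'.comap (algebraMap A B) ≠ ⊥)
    (hmax : ∀ Q : Ideal B, Q.IsPrime → q' ≤ Q →
      Q.comap (algebraMap A B) = q'.comap (algebraMap A B) → Q = q')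
    (g : B) (hg : g ≠ 0) :
    ∃ q₁ : Ideal B, q₁.IsPrime ∧ q₁ ≤ q' ∧ q₁.comap (algebraMap A B) = ⊥ ∧ g ∉ q₁ ∧
      ∀ b : B, IsAlgebraic A (Ideal.Quotient.mk q₁ b) := by
  classical
  have hAL : Function.Injective ((algebraMap B (FractionRing B)).comp (algebraMap A B)) :=
    (IsFractionRing.injective B (FractionRing B)).comp hAB
  let κ : FractionRing A →+* FractionRing B := IsFractionRing.lift hAL
  have hκ : ∀ a, κ (algebraMap A (FractionRing A) a) =
      algebraMap B (FractionRing B) (algebraMap A B a) := fun a =>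
    IsFractionRing.lift_algebraMap hAL a
  -- the local ring at `q'` and its map to `L`
  let f : Localization.AtPrime q' →+* FractionRing B :=
    IsLocalization.lift (M := q'.primeCompl) (g := algebraMap B (FractionRing B)) (fun y => by
      apply IsUnit.mk0
      rw [Ne, map_eq_zero_iff _ (IsFractionRing.injective B (FractionRing B))]
      rintro h0
      exact y.2 (h0 ▸ q'.zero_mem))
  have hf : ∀ b, f (algebraMap B _ b) = algebraMap B (FractionRing B) b := fun b =>
    IsLocalization.lift_eq _ b
  obtain ⟨V, hV, hloc⟩ := IsLocalRing.exists_factor_valuationRing f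
  have hBV : ∀ b : B, algebraMap B (FractionRing B) b ∈ V := fun b => by
    rw [← hf]
    exact hV _
  let jBV : B →+* V := RingHom.codRestrict (algebraMap B (FractionRing B)) V hBV
  let jOV : (V.comap κ) →+* V := RingHom.codRestrict (κ.comp (V.comap κ).subtype) V (fun x => x.2)
  let jAO : A →+* (V.comap κ) := RingHom.codRestrict (algebraMap A (FractionRing A)) (V.comap κ)
    (fun a => by
      show κ (algebraMap A (FractionRing A) a) ∈ V
      rw [hκ]
      exact hBV _)
  letI : Algebra A (V.comap κ) := jAO.toAlgebra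
  letI : Algebra (V.comap κ) V := jOV.toAlgebra
  letI : Algebra B V := jBV.toAlgebra
  letI : Algebra A V := (jBV.comp (algebraMap A B)).toAlgebra
  haveI : IsScalarTower A B V := IsScalarTower.of_algebraMap_eq (fun _ => rfl)
  haveI : IsScalarTower A (V.comap κ) V :=
    IsScalarTower.of_algebraMap_eq (fun a => Subtype.ext (hκ a).symm)
  haveI : Algebra.IsAlgebraic A (FractionRing A) :=
    IsLocalization.isAlgebraic (FractionRing A) (nonZeroDivisors A)
  haveI : Algebra.IsAlgebraic A (V.comap κ) := by
    let e : (V.comap κ) →ₐ[A] FractionRing A :=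
      { (V.comap κ).subtype with commutes' := fun _ => rfl }
    exact Algebra.IsAlgebraic.of_injective e Subtype.val_injective
  have hBVinj : Function.Injective (algebraMap B V) := by
    intro x y hxy
    apply IsFractionRing.injective B (FractionRing B)
    exact congrArg Subtype.val hxy
  have hOVinj : Function.Injective (algebraMap (V.comap κ) V) := by
    intro x y hxy
    apply Subtype.ext
    apply κ.injective
    exact congrArg Subtype.val hxy
  have hOloc : (maximalIdeal V).comap (algebraMap (V.comap κ) V) = maximalIdeal (V.comap κ) := by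
    apply le_antisymm
    · intro x hx
      rw [Ideal.mem_comap, IsLocalRing.mem_maximalIdeal, mem_nonunits_iff] at hx
      rw [IsLocalRing.mem_maximalIdeal, mem_nonunits_iff]
      exact fun hu => hx (hu.map _)
    · intro x hx
      rw [IsLocalRing.mem_maximalIdeal, mem_nonunits_iff] at hx
      rw [Ideal.mem_comap, IsLocalRing.mem_maximalIdeal, mem_nonunits_iff]
      intro hu
      apply hx
      obtain ⟨y, hy⟩ := isUnit_iff_exists_inv.1 hu
      have hy' : κ x.1 * y.1 = 1 := congrArg Subtype.val hy
      have hx0 : κ x.1 ≠ 0 := fun h0 => by rw [h0, zero_mul] at hy'; exact zero_ne_one hy'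
      have hyinv : y.1 = κ (x.1⁻¹) := by
        rw [map_inv₀]
        exact eq_inv_of_mul_eq_one_right hy'
      have hmem : x.1⁻¹ ∈ V.comap κ := by
        show κ (x.1⁻¹) ∈ V
        rw [← hyinv]
        exact y.2
      have hx0' : x.1 ≠ 0 := fun h0 => hx0 (by rw [h0, map_zero])
      exact isUnit_iff_exists_inv.2 ⟨⟨x.1⁻¹, hmem⟩, Subtype.ext (mul_inv_cancel₀ hx0')⟩
  have hq' : (maximalIdeal V).comap (algebraMap B V) = q' := by
    ext b
    rw [Ideal.mem_comap, IsLocalRing.mem_maximalIdeal, mem_nonunits_iff]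
    have key : IsUnit (algebraMap B V b) ↔ IsUnit (algebraMap B (Localization.AtPrime q') b) := by
      constructor
      · intro hu
        apply hloc.map_nonunit
        have : (f.codRestrict V.toSubring hV) (algebraMap B (Localization.AtPrime q') b) =
            (algebraMap B V b : V) := Subtype.ext (hf b)
        rw [this]
        exact hu
      · intro hu
        have h1 := hu.map (f.codRestrict V.toSubring hV)
        have : (f.codRestrict V.toSubring hV) (algebraMap B (Localization.AtPrime q') b) =
            (algebraMap B V b : V) := Subtype.ext (hf b)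
        rw [this] at h1
        exact h1
    rw [key, IsLocalization.AtPrime.isUnit_to_map_iff (Localization.AtPrime q') q']
    simp [Ideal.primeCompl]
  exact exists_prime_of_dominating (O := V.comap κ) (W := V) hAB hBVinj hOVinj hOloc q' hq' hne hmax
    g hg

/-- if `B ⧸ q₁` is algebraic over the domain `A`, then `q₁` is maximal among the primes of `B`
over `(0)`. -/
theorem eq_of_le_of_comap_eq_bot_of_isAlgebraic {A B : Type u} [CommRing A] [IsDomain A]
    [CommRing B] [Algebra A B] (q₁ : Ideal B) [q₁.IsPrime]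
    (halg : ∀ b : B, IsAlgebraic A (Ideal.Quotient.mk q₁ b)) (Q : Ideal B) [Q.IsPrime]
    (hle : q₁ ≤ Q) (hQ : Q.comap (algebraMap A B) = ⊥) : Q = q₁ := by
  by_contra hne
  have hnle : ¬ Q ≤ q₁ := fun h => hne (le_antisymm h hle)
  obtain ⟨y, hyQ, hyq⟩ := Set.not_subset.1 hnle
  have hy0 : Ideal.Quotient.mk q₁ y ≠ 0 := by
    rw [Ne, Ideal.Quotient.eq_zero_iff_mem]
    exact hyq
  obtain ⟨a, ha0, hadvd⟩ := (halg y).exists_nonzero_dvd (mem_nonZeroDivisors_of_ne_zero hy0)
  obtain ⟨z, hz⟩ := hadvd
  obtain ⟨z, rfl⟩ := Ideal.Quotient.mk_surjective z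
  have h1 : algebraMap A B a - y * z ∈ q₁ := by
    rw [← Ideal.Quotient.eq, map_mul]
    exact hz
  have h2 : algebraMap A B a ∈ Q := by
    have := Q.add_mem (hle h1) (Q.mul_mem_right z hyQ)
    rwa [sub_add_cancel] at this
  have h3 : a ∈ Q.comap (algebraMap A B) := h2
  rw [hQ, Ideal.mem_bot] at h3
  exact ha0 h3

end Groth.Agent.Lib.Helper8ClFibE
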