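import Mathlib
import Groth.Agent.Lib.Helper8ClFibE

/-!
# Closed points in fibres, part F: general rings and schemes

* `exists_prime_between` : the ring form for arbitrary finite type algebras `R → T` and primes
  `P ≤ P'` of `T` over different primes of `R`.
-/

set_option autoImplicit false
universe u

namespace Groth.Agent.Lib.Helper8ClFibF

/-- **Curves through a point of a special fibre**, for general finite type algebras. -/
theorem exists_prime_between {R T : Type u} [CommRing R] [CommRing T] [Algebra R T]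
    [Algebra.FiniteType R T] (P P' : Ideal T) [P.IsPrime] [P'.IsPrime] (hle : P ≤ P')
    (hne : P.comap (algebraMap R T) ≠ P'.comap (algebraMap R T))
    (hmax : ∀ Q : Ideal T, Q.IsPrime → P' ≤ Q →
      Q.comap (algebraMap R T) = P'.comap (algebraMap R T) → Q = P')
    (g₀ : T) (hg₀ : g₀ ∉ P) :
    ∃ Q₁ : Ideal T, Q₁.IsPrime ∧ P ≤ Q₁ ∧ Q₁ ≤ P' ∧
      Q₁.comap (algebraMap R T) = P.comap (algebraMap R T) ∧ g₀ ∉ Q₁ ∧
      ∀ Q : Ideal T, Q.IsPrime → Q₁ ≤ Q →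
        Q.comap (algebraMap R T) = P.comap (algebraMap R T) → Q = Q₁ := by
  classical
  haveI : Algebra.FiniteType R (T ⧸ P) :=
    Algebra.FiniteType.of_surjective (Ideal.Quotient.mkₐ R P) Ideal.Quotient.mk_surjective
  haveI : Algebra.FiniteType (R ⧸ P.comap (algebraMap R T)) (T ⧸ P) :=
    Algebra.FiniteType.of_restrictScalars_finiteType R _ _
  have hAB : Function.Injective (algebraMap (R ⧸ P.comap (algebraMap R T)) (T ⧸ P)) :=
    Ideal.algebraMap_quotient_injective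
  have hmapA : ∀ a : R, algebraMap (R ⧸ P.comap (algebraMap R T)) (T ⧸ P)
      (Ideal.Quotient.mk _ a) = Ideal.Quotient.mk P (algebraMap R T a) := fun a => rfl
  have hkerP' : RingHom.ker (Ideal.Quotient.mk P) ≤ P' := by rwa [Ideal.mk_ker]
  haveI hq'prime : (P'.map (Ideal.Quotient.mk P)).IsPrime :=
    Ideal.map_isPrime_of_surjective Ideal.Quotient.mk_surjective hkerP'
  have hmemq' : ∀ x : T, Ideal.Quotient.mk P x ∈ P'.map (Ideal.Quotient.mk P) ↔ x ∈ P' :=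
    fun x => Ideal.mem_quotient_iff_mem hle
  -- the contraction of `q'` is nonzero
  have hne' : (P'.map (Ideal.Quotient.mk P)).comap
      (algebraMap (R ⧸ P.comap (algebraMap R T)) (T ⧸ P)) ≠ ⊥ := by
    intro hbot
    apply hne
    apply le_antisymm (Ideal.comap_mono hle)
    intro a ha
    have h1 : Ideal.Quotient.mk (P.comap (algebraMap R T)) a ∈
        (P'.map (Ideal.Quotient.mk P)).comap
          (algebraMap (R ⧸ P.comap (algebraMap R T)) (T ⧸ P)) := by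
      rw [Ideal.mem_comap, hmapA, hmemq']
      exact ha
    rw [hbot, Ideal.mem_bot, Ideal.Quotient.eq_zero_iff_mem] at h1
    exact h1
  -- maximality of `q'`
  have hmax' : ∀ Q : Ideal (T ⧸ P), Q.IsPrime → P'.map (Ideal.Quotient.mk P) ≤ Q →
      Q.comap (algebraMap (R ⧸ P.comap (algebraMap R T)) (T ⧸ P)) =
        (P'.map (Ideal.Quotient.mk P)).comap
          (algebraMap (R ⧸ P.comap (algebraMap R T)) (T ⧸ P)) →
      Q = P'.map (Ideal.Quotient.mk P) := by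
    intro Q hQ hQle hQc
    haveI := hQ
    have h1 : Q.comap (Ideal.Quotient.mk P) = P' := by
      apply hmax _ (Ideal.comap_isPrime _ _)
      · intro x hx
        exact hQle ((hmemq' x).2 hx)
      · ext a
        have h2 := Ideal.ext_iff.1 hQc (Ideal.Quotient.mk _ a)
        rw [Ideal.mem_comap, Ideal.mem_comap, hmapA, hmemq'] at h2
        exact h2
    rw [← h1, Ideal.map_comap_of_surjective _ Ideal.Quotient.mk_surjective]
  have hg : Ideal.Quotient.mk P g₀ ≠ 0 := by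
    rw [Ne, Ideal.Quotient.eq_zero_iff_mem]
    exact hg₀
  obtain ⟨q₁, hq₁p, hq₁le, hq₁c, hq₁g, hq₁alg⟩ :=
    Groth.Agent.Lib.Helper8ClFibE.exists_prime_alg hAB (P'.map (Ideal.Quotient.mk P)) hne' hmax'
      (Ideal.Quotient.mk P g₀) hg
  haveI := hq₁p
  have hPQ₁ : P ≤ q₁.comap (Ideal.Quotient.mk P) := by
    intro x hx
    rw [Ideal.mem_comap, Ideal.Quotient.eq_zero_iff_mem.2 hx]
    exact q₁.zero_mem
  refine ⟨q₁.comap (Ideal.Quotient.mk P), Ideal.comap_isPrime _ _, hPQ₁, ?_, ?_, hq₁g, ?_⟩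
  · intro x hx
    exact (hmemq' x).1 (hq₁le hx)
  · ext a
    have h2 := Ideal.ext_iff.1 hq₁c (Ideal.Quotient.mk _ a)
    rw [Ideal.mem_comap, hmapA, Ideal.mem_bot, Ideal.Quotient.eq_zero_iff_mem] at h2
    exact h2
  · intro Q hQ hQle hQc
    haveI := hQ
    have hPQ : P ≤ Q := hPQ₁.trans hQle
    have hkerQ : RingHom.ker (Ideal.Quotient.mk P) ≤ Q := by rwa [Ideal.mk_ker]
    haveI : (Q.map (Ideal.Quotient.mk P)).IsPrime :=
      Ideal.map_isPrime_of_surjective Ideal.Quotient.mk_surjective hkerQ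
    have hmemQ : ∀ x : T, Ideal.Quotient.mk P x ∈ Q.map (Ideal.Quotient.mk P) ↔ x ∈ Q :=
      fun x => Ideal.mem_quotient_iff_mem hPQ
    have h1 : Q.map (Ideal.Quotient.mk P) = q₁ := by
      apply Groth.Agent.Lib.Helper8ClFibE.eq_of_le_of_comap_eq_bot_of_isAlgebraic q₁ hq₁alg
      · intro y hy
        obtain ⟨x, rfl⟩ := Ideal.Quotient.mk_surjective y
        exact (hmemQ x).2 (hQle hy)
      · rw [eq_bot_iff]
        intro a ha
        obtain ⟨a, rfl⟩ := Ideal.Quotient.mk_surjective a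
        rw [Ideal.mem_comap, hmapA, hmemQ] at ha
        have h3 : a ∈ Q.comap (algebraMap R T) := ha
        rw [hQc] at h3
        rw [Ideal.mem_bot, Ideal.Quotient.eq_zero_iff_mem]
        exact h3
    rw [← h1, Ideal.comap_map_of_surjective _ Ideal.Quotient.mk_surjective,
      ← RingHom.ker_eq_comap_bot, Ideal.mk_ker, sup_eq_left.2 hPQ]

section Topology

variable {α : Type*} [TopologicalSpace α]

/-- a point closed in a subspace has no proper specialization inside that subspace -/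
theorem eq_of_specializes_of_isClosed_preimage (F : Set α) (a : α) (ha : a ∈ F)
    (hcl : IsClosed (Subtype.val ⁻¹' {a} : Set ↑F)) (z : α) (hz : z ∈ F) (h : a ⤳ z) : z = a := by
  have h1 : (⟨a, ha⟩ : ↑F) ⤳ ⟨z, hz⟩ := Topology.IsInducing.subtypeVal.specializes_iff.1 h
  have h2 : (⟨z, hz⟩ : ↑F) ∈ (Subtype.val ⁻¹' {a} : Set ↑F) := h1.mem_closed hcl rfl
  exact h2

/-- in a Jacobson subspace, a point which has no proper specialization inside an open
neighbourhood is closed -/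
theorem isClosed_preimage_of_forall_specializes (F : Set α) [JacobsonSpace ↑F] (a : α) (ha : a ∈ F)
    (O : Set α) (hO : IsOpen O) (haO : a ∈ O)
    (h : ∀ z ∈ F, z ∈ O → a ⤳ z → z = a) : IsClosed (Subtype.val ⁻¹' {a} : Set ↑F) := by
  have hset : (Subtype.val ⁻¹' {a} : Set ↑F) = {⟨a, ha⟩} := by
    ext w
    simp only [Set.mem_preimage, Set.mem_singleton_iff]
    exact ⟨fun hw => Subtype.ext hw, fun hw => congrArg Subtype.val hw⟩
  rw [hset]
  apply isClosed_singleton_of_isLocallyClosed_singleton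
  refine ⟨Subtype.val ⁻¹' O, closure {⟨a, ha⟩}, hO.preimage continuous_subtype_val,
    isClosed_closure, ?_⟩
  ext w
  simp only [Set.mem_singleton_iff, Set.mem_inter_iff, Set.mem_preimage]
  constructor
  · rintro rfl
    exact ⟨haO, subset_closure rfl⟩
  · rintro ⟨hwO, hwc⟩
    have h1 : (⟨a, ha⟩ : ↑F) ⤳ w := specializes_iff_mem_closure.2 hwc
    have h2 : a ⤳ w.1 := h1.map continuous_subtype_val
    exact Subtype.ext (h w.1 w.2 hwO h2)

end Topology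

open AlgebraicGeometry CategoryTheory TopologicalSpace

/-- **EGA IV 10.5.9-like**: for `f` locally of finite type, `x ⤳ x'` with `x'` closed in its fibre
and `f x ≠ f x'`, every neighbourhood of `x` contains a point `x₁` of the fibre of `x`, closed in
that fibre, with `x ⤳ x₁ ⤳ x'`. -/
theorem exists_point_between {X S : Scheme.{u}} (f : X ⟶ S) [LocallyOfFiniteType f] (x x' : X)
    (hsp : x ⤳ x') (hne : f x ≠ f x')
    (hcl : IsClosed (Subtype.val ⁻¹' {x'} : Set ↑(f ⁻¹' {f x'}))) (W : X.Opens) (hxW : x ∈ W) :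
    ∃ x₁ : X, x₁ ∈ W ∧ f x₁ = f x ∧
      IsClosed (Subtype.val ⁻¹' {x₁} : Set ↑(f ⁻¹' {f x})) ∧ x ⤳ x₁ ∧ x₁ ⤳ x' := by
  classical
  obtain ⟨V, hV, hfxV⟩ : ∃ V : S.Opens, IsAffineOpen V ∧ f x' ∈ V := by
    obtain ⟨_, ⟨V, hV : IsAffineOpen V, rfl⟩, hx, -⟩ :=
      S.isBasis_affineOpens.exists_subset_of_mem_open (Set.mem_univ (f x')) isOpen_univ
    exact ⟨V, hV, hx⟩
  obtain ⟨U, hU, hx'U, hUV⟩ : ∃ U : X.Opens, IsAffineOpen U ∧ x' ∈ U ∧ U ≤ f ⁻¹ᵁ V := by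
    obtain ⟨_, ⟨U, hU : IsAffineOpen U, rfl⟩, hx, hle⟩ :=
      X.isBasis_affineOpens.exists_subset_of_mem_open
        (show x' ∈ ((f ⁻¹ᵁ V : X.Opens) : Set X) from hfxV) (f ⁻¹ᵁ V).isOpen
    exact ⟨U, hU, hx, hle⟩
  have hxU : x ∈ U := hsp.mem_open U.isOpen hx'U
  obtain ⟨g₀, hg₀le, hxg₀⟩ := hU.exists_basicOpen_le (V := W) ⟨x, hxW⟩ hxU
  letI alg : Algebra Γ(S, V) Γ(X, U) := (f.appLE V U hUV).hom.toAlgebra
  haveI : Algebra.FiniteType Γ(S, V) Γ(X, U) := LocallyOfFiniteType.finiteType_appLE f hV hU hUV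
  have hemb := hU.fromSpec.isOpenEmbedding
  have hspec : ∀ Q Q' : PrimeSpectrum Γ(X, U),
      hU.fromSpec Q ⤳ hU.fromSpec Q' ↔ Q.asIdeal ≤ Q'.asIdeal := by
    intro Q Q'
    rw [hemb.isInducing.specializes_iff]
    exact (PrimeSpectrum.le_iff_specializes Q Q').symm
  have hfmap : ∀ Q : PrimeSpectrum Γ(X, U), f (hU.fromSpec Q) =
      hV.fromSpec (PrimeSpectrum.comap (algebraMap Γ(S, V) Γ(X, U)) Q) := by
    intro Q
    have := congr($(IsAffineOpen.SpecMap_appLE_fromSpec f hV hU hUV) Q)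
    simp only [Scheme.Hom.comp_apply] at this
    exact this.symm
  have hfeq : ∀ Q Q' : PrimeSpectrum Γ(X, U), f (hU.fromSpec Q) = f (hU.fromSpec Q') ↔
      Q.asIdeal.comap (algebraMap Γ(S, V) Γ(X, U)) =
        Q'.asIdeal.comap (algebraMap Γ(S, V) Γ(X, U)) := by
    intro Q Q'
    rw [hfmap, hfmap, hV.fromSpec.isOpenEmbedding.injective.eq_iff]
    exact PrimeSpectrum.ext_iff
  have hmemU : ∀ z : X, z ∈ U → ∃ Q : PrimeSpectrum Γ(X, U), hU.fromSpec Q = z := fun z hz =>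
    ⟨hU.primeIdealOf ⟨z, hz⟩, hU.fromSpec_primeIdealOf _⟩
  have hbasic : ∀ Q : PrimeSpectrum Γ(X, U), hU.fromSpec Q ∈ X.basicOpen g₀ ↔ g₀ ∉ Q.asIdeal := by
    intro Q
    have : Q ∈ hU.fromSpec ⁻¹ᵁ X.basicOpen g₀ ↔ g₀ ∉ Q.asIdeal := by
      rw [hU.fromSpec_preimage_basicOpen]
      rfl
    exact this
  obtain ⟨P, rfl⟩ := hmemU x hxU
  obtain ⟨P', rfl⟩ := hmemU x' hx'U
  haveI := P.isPrime
  haveI := P'.isPrime
  have hle : P.asIdeal ≤ P'.asIdeal := (hspec P P').1 hsp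
  have hne' : P.asIdeal.comap (algebraMap Γ(S, V) Γ(X, U)) ≠
      P'.asIdeal.comap (algebraMap Γ(S, V) Γ(X, U)) := fun h => hne ((hfeq P P').2 h)
  have hmax : ∀ Q : Ideal Γ(X, U), Q.IsPrime → P'.asIdeal ≤ Q →
      Q.comap (algebraMap Γ(S, V) Γ(X, U)) = P'.asIdeal.comap (algebraMap Γ(S, V) Γ(X, U)) →
      Q = P'.asIdeal := by
    intro Q hQ hle' hc
    have h1 : hU.fromSpec P' ⤳ hU.fromSpec ⟨Q, hQ⟩ := (hspec P' ⟨Q, hQ⟩).2 hle'
    have h2 : f (hU.fromSpec ⟨Q, hQ⟩) = f (hU.fromSpec P') := (hfeq ⟨Q, hQ⟩ P').2 hc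
    have h3 : hU.fromSpec ⟨Q, hQ⟩ = hU.fromSpec P' :=
      eq_of_specializes_of_isClosed_preimage (f ⁻¹' {f (hU.fromSpec P')}) (hU.fromSpec P') rfl hcl
        _ h2 h1
    exact congrArg PrimeSpectrum.asIdeal (hemb.injective h3)
  have hg₀P : g₀ ∉ P.asIdeal := (hbasic P).1 hxg₀
  obtain ⟨Q₁, hQ₁p, hPQ₁, hQ₁P', hQ₁c, hQ₁g, hQ₁max⟩ :=
    exists_prime_between P.asIdeal P'.asIdeal hle hne' hmax g₀ hg₀P
  haveI : JacobsonSpace ↑(f ⁻¹' {f (hU.fromSpec P)}) :=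
    JacobsonSpace.of_isOpenEmbedding (f.fiberHomeo (f (hU.fromSpec P))).symm.isOpenEmbedding
  refine ⟨hU.fromSpec ⟨Q₁, hQ₁p⟩, hg₀le ((hbasic ⟨Q₁, hQ₁p⟩).2 hQ₁g), (hfeq ⟨Q₁, hQ₁p⟩ P).2 hQ₁c,
    ?_, (hspec P ⟨Q₁, hQ₁p⟩).2 hPQ₁, (hspec ⟨Q₁, hQ₁p⟩ P').2 hQ₁P'⟩
  refine isClosed_preimage_of_forall_specializes (f ⁻¹' {f (hU.fromSpec P)}) _
    ((hfeq ⟨Q₁, hQ₁p⟩ P).2 hQ₁c) (U : Set X)
    U.isOpen (by rw [← hU.range_fromSpec]; exact ⟨_, rfl⟩) ?_
  intro z hzF hzU hsp'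
  obtain ⟨Q, rfl⟩ := hmemU z hzU
  have h1 := (hspec ⟨Q₁, hQ₁p⟩ Q).1 hsp'
  have h2 := (hfeq Q P).1 hzF
  have h3 := hQ₁max Q.asIdeal Q.isPrime h1 h2
  have h4 : Q = ⟨Q₁, hQ₁p⟩ := PrimeSpectrum.ext h3
  rw [h4]

end Groth.Agent.Lib.Helper8ClFibF
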