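import Mathlib
import Groth.Prelude

set_option autoImplicit false
universe u
open CategoryTheory CategoryTheory.Limits AlgebraicGeometry TopologicalSpace

namespace Groth.Agent.Lib.Helper8ClosedLfp

/-- a closed immersion whose ideal sheaf is finitely generated on every affine open is locally of
finite presentation. -/
theorem locallyOfFinitePresentation_of_ker_fg {X Y : Scheme.{u}} (f : X ⟶ Y) [IsClosedImmersion f]
    (h : ∀ U : Y.affineOpens, (f.ker.ideal U).FG) : LocallyOfFinitePresentation f := by
  rw [HasRingHomProperty.iff_appLE (P := @LocallyOfFinitePresentation)]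
  intro U V e
  have hU' : IsAffineOpen (f ⁻¹ᵁ U.1) := U.2.preimage f
  have h1 : (f.app U.1).hom.FinitePresentation := by
    apply RingHom.FinitePresentation.of_surjective
    · exact f.app_surjective U.1 U.2
    · rw [← Scheme.Hom.ker_apply]; exact h U
  have h2 : (X.presheaf.map (homOfLE e).op).hom.FinitePresentation := by
    have h3 := HasRingHomProperty.appLE (P := @LocallyOfFinitePresentation) (𝟙 X) inferInstance
      ⟨f ⁻¹ᵁ U.1, hU'⟩ V e
    have h5 : (𝟙 X : X ⟶ X).appLE (f ⁻¹ᵁ U.1) V.1 e = X.presheaf.map (homOfLE e).op := by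
      change (𝟙 X : X ⟶ X).app (f ⁻¹ᵁ U.1) ≫ X.presheaf.map (homOfLE e).op = _
      rw [Scheme.Hom.id_app]
      exact Category.id_comp _
    rw [← h5]
    exact h3
  have h4 : f.appLE U.1 V.1 e = f.app U.1 ≫ X.presheaf.map (homOfLE e).op := rfl
  rw [h4, CommRingCat.hom_comp]
  exact h2.comp h1

/-- the ideal of a closed immersion locally of finite presentation is finitely generated on
affine opens (affine case, global sections). -/
theorem ker_appTop_fg {X Y : Scheme.{u}} (f : X ⟶ Y) [IsClosedImmersion f] [IsAffine Y]
    [LocallyOfFinitePresentation f] : (RingHom.ker f.appTop.hom).FG := by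
  haveI : IsAffine X := isAffine_of_isAffineHom f
  have h1 : f.appTop.hom.FinitePresentation :=
    HasRingHomProperty.appTop (P := @LocallyOfFinitePresentation) f inferInstance
  have h2 : Function.Surjective f.appTop.hom := f.app_surjective ⊤ (isAffineOpen_top Y)
  algebraize [f.appTop.hom]
  exact Algebra.FinitePresentation.ker_fG_of_surjective (Algebra.ofId Γ(Y, ⊤) Γ(X, ⊤)) h2

end Groth.Agent.Lib.Helper8ClosedLfp
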