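import Mathlib
import Groth.Prelude
import Groth.Agent.Lib.Helper8GeomQuotSep
import Groth.Agent.Lib.Helper11Orbit

set_option autoImplicit false

/-!
# Good quotients: orbit closures meet iff the images agree
-/

universe u

open CategoryTheory CategoryTheory.Limits MonoidalCategory CartesianMonoidalCategory MonObj
  AlgebraicGeometry

namespace Groth.Agent.Lib.Helper8GoodQuot

open Groth.Agent.Lib.Helper8GeomQuotClosed Groth.Agent.Lib.Helper8GeomQuotSep

section Sections

/-- for a one-point scheme with a field of global sections, a section vanishes under `s` iff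
the image point is not in its basic open. -/
theorem appTop_eq_zero_iff {A T : Scheme.{u}} (t₀ : T)
    (hfield : ∀ b : Γ(T, ⊤), b ≠ 0 → IsUnit b) (s : T ⟶ A) (r : Γ(A, ⊤)) :
    s.appTop r = 0 ↔ s t₀ ∉ A.basicOpen r := by
  have h1 : s ⁻¹ᵁ A.basicOpen r = T.basicOpen (s.appTop r) := Scheme.preimage_basicOpen s r
  have h2 : s t₀ ∈ A.basicOpen r ↔ t₀ ∈ T.basicOpen (s.appTop r) := by
    rw [← h1]
    exact Iff.rfl
  rw [h2]
  constructor
  · intro h0
    rw [h0, Scheme.basicOpen_zero]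
    exact fun h => h
  · intro hn
    by_contra hne
    apply hn
    rw [T.basicOpen_of_isUnit (hfield _ hne)]
    trivial

/-- two sections of `π : Z ⟶ T` over a one-point affine scheme `T` with a field of functions,
which have the same image point, are equal. -/
theorem section_ext {Z T : Scheme.{u}} [IsAffine T] (t₀ : T) (hT : ∀ t : T, t = t₀)
    (hfield : ∀ b : Γ(T, ⊤), b ≠ 0 → IsUnit b)
    (s₁ s₂ : T ⟶ Z) (π : Z ⟶ T) (h₁ : s₁ ≫ π = 𝟙 T) (h₂ : s₂ ≫ π = 𝟙 T)
    (hpt : s₁ t₀ = s₂ t₀) : s₁ = s₂ := by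
  obtain ⟨U, hU, hzU, -⟩ :=
    exists_isAffineOpen_mem_and_subset (X := Z) (x := s₁ t₀) (U := ⊤) trivial
  have hr₁ : Set.range s₁ ⊆ Set.range U.ι := by
    rw [Scheme.Opens.range_ι]
    rintro _ ⟨t, rfl⟩
    rw [hT t]
    exact hzU
  have hr₂ : Set.range s₂ ⊆ Set.range U.ι := by
    rw [Scheme.Opens.range_ι]
    rintro _ ⟨t, rfl⟩
    rw [hT t, ← hpt]
    exact hzU
  obtain ⟨l₁, hl₁⟩ : ∃ l₁ : T ⟶ U.toScheme, l₁ ≫ U.ι = s₁ :=
    ⟨IsOpenImmersion.lift U.ι s₁ hr₁, IsOpenImmersion.lift_fac _ _ _⟩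
  obtain ⟨l₂, hl₂⟩ : ∃ l₂ : T ⟶ U.toScheme, l₂ ≫ U.ι = s₂ :=
    ⟨IsOpenImmersion.lift U.ι s₂ hr₂, IsOpenImmersion.lift_fac _ _ _⟩
  haveI : IsAffine U.toScheme := hU
  have hlpt : l₁ t₀ = l₂ t₀ := by
    apply U.ι.isOpenEmbedding.injective
    rw [← Scheme.Hom.comp_apply, ← Scheme.Hom.comp_apply, hl₁, hl₂]
    exact hpt
  have hc₁ : (U.ι ≫ π).appTop ≫ l₁.appTop = 𝟙 _ := by
    rw [← Scheme.Hom.comp_appTop, ← Category.assoc, hl₁, h₁]
    rfl
  have hc₂ : (U.ι ≫ π).appTop ≫ l₂.appTop = 𝟙 _ := by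
    rw [← Scheme.Hom.comp_appTop, ← Category.assoc, hl₂, h₂]
    rfl
  have hzero : ∀ r : Γ(U.toScheme, ⊤), l₁.appTop r = 0 → l₂.appTop r = 0 := by
    intro r hr
    rw [appTop_eq_zero_iff t₀ hfield] at hr ⊢
    rwa [← hlpt]
  have happ : l₁.appTop = l₂.appTop := by
    apply ConcreteCategory.hom_ext
    intro r
    have e1 : l₁.appTop ((U.ι ≫ π).appTop (l₁.appTop r)) = l₁.appTop r :=
      congrArg (fun ψ => ψ.hom (l₁.appTop r)) hc₁
    have e2 : l₂.appTop ((U.ι ≫ π).appTop (l₁.appTop r)) = l₁.appTop r :=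
      congrArg (fun ψ => ψ.hom (l₁.appTop r)) hc₂
    have h0 : l₁.appTop (r - (U.ι ≫ π).appTop (l₁.appTop r)) = 0 := by
      rw [map_sub, e1, sub_self]
    have h0' := hzero _ h0
    rw [map_sub, e2, sub_eq_zero] at h0'
    exact h0'.symm
  rw [← hl₁, ← hl₂, ext_of_isAffine happ]

end Sections

section Invariant

variable {S : Scheme.{u}} {G X : Over S} [GrpObj G]

theorem unit_orbitMap (a : AlgGrp.Action G X) (x : 𝟙_ (Over S) ⟶ X) :
    η[G] ≫ a.orbitMap x = x := by
  unfold AlgGrp.Action.orbitMap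
  rw [← Category.assoc, comp_lift, Category.comp_id]
  have h1 : η[G] ≫ toUnit G ≫ x = x := by
    rw [← Category.assoc, toUnit_unique (η[G] ≫ toUnit G) (𝟙 _), Category.id_comp]
  have h2 : (η[G] : 𝟙_ (Over S) ⟶ G) = 1 := by
    rw [Hom.one_def, toUnit_unique (toUnit (𝟙_ (Over S))) (𝟙 _), Category.id_comp]
  rw [h1, h2]
  exact a.lift_one_act x

theorem isInvariantSet_range_orbitMap (a : AlgGrp.Action G X) (x : 𝟙_ (Over S) ⟶ X) :
    NRQuot.IsInvariantSet a (Set.range (a.orbitMap x).left.base) := by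
  rintro q ⟨g₀, hg₀⟩
  obtain ⟨w, hw1, hw2⟩ := Groth.Agent.Lib.Helper11Orbit.exists_of_isPullback
    (isPullback_whiskerLeft G (a.orbitMap x)) q g₀ hg₀.symm
  refine ⟨(μ[G]).left w, ?_⟩
  show ((μ[G]).left ≫ (a.orbitMap x).left) w = a.act.left q
  rw [← Over.comp_left, ← Groth.Agent.Lib.Helper11Orbit.whiskerLeft_orbitMap_act a x,
    Over.comp_left, Scheme.Hom.comp_apply, hw1]

theorem isInvariantSet_closure (a : AlgGrp.Action G X) (W : Set X.left)
    (hW : NRQuot.IsInvariantSet a W) (hopen : IsOpenMap (snd G X).left) :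
    NRQuot.IsInvariantSet a (closure W) := by
  intro q hq
  rw [mem_closure_iff] at hq ⊢
  intro O hO hqO
  have hN : IsOpen ((a.act.left : _ → X.left) ⁻¹' O) := hO.preimage a.act.left.continuous
  obtain ⟨_, ⟨q', hq'N, rfl⟩, hq'W⟩ := hq _ (hopen _ hN) ⟨q, hqO, rfl⟩
  exact ⟨a.act.left q', hq'N, hW q' hq'W⟩

end Invariant

section Main

/-- S19424. -/
theorem main19424 (k : Type u) [Field k]
    (G X Y : Over (Spec (CommRingCat.of k))) [GrpObj G] [LocallyOfFiniteType G.hom]
    (a : AlgGrp.Action G X) (φ : X ⟶ Y) (h : NRQuot.IsGoodQuot a φ)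
    (x₁ x₂ : 𝟙_ (Over (Spec (CommRingCat.of k))) ⟶ X) :
    (closure (Set.range (a.orbitMap x₁).left.base) ∩
      closure (Set.range (a.orbitMap x₂).left.base)).Nonempty ↔ x₁ ≫ φ = x₂ ≫ φ := by
  -- the projection is open
  haveI : LocallyOfFinitePresentation G.hom :=
    LocallyOfFinitePresentation.iff_locallyOfFiniteType.mpr inferInstance
  haveI : Flat G.hom := inferInstance
  haveI : UniversallyOpen G.hom := inferInstance
  haveI : UniversallyOpen (snd G X).left := by
    show UniversallyOpen (pullback.snd G.hom X.hom)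
    infer_instance
  have hopen : IsOpenMap (snd G X).left := (snd G X).left.isOpenMap
  -- the base point
  obtain ⟨pt⟩ : Nonempty ↥(Spec (CommRingCat.of k)) := inferInstance
  have hT : ∀ t : ↥(Spec (CommRingCat.of k)), t = pt :=
    fun t => Subsingleton.elim (α := PrimeSpectrum k) _ _
  have hfield : ∀ b : Γ(Spec (CommRingCat.of k), ⊤), b ≠ 0 → IsUnit b := by
    intro b hb
    have hb' : (Scheme.ΓSpecIso (CommRingCat.of k)).hom b ≠ 0 := by
      intro h0
      apply hb
      have h1 : (Scheme.ΓSpecIso (CommRingCat.of k)).inv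
          ((Scheme.ΓSpecIso (CommRingCat.of k)).hom b) = b :=
        congrArg (fun ψ => ψ.hom b) (Scheme.ΓSpecIso (CommRingCat.of k)).hom_inv_id
      rw [← h1, h0, map_zero]
    have hu : IsUnit ((Scheme.ΓSpecIso (CommRingCat.of k)).hom b) :=
      (isUnit_iff_ne_zero (G₀ := k)).mpr hb'
    have h1 : (Scheme.ΓSpecIso (CommRingCat.of k)).inv
        ((Scheme.ΓSpecIso (CommRingCat.of k)).hom b) = b :=
      congrArg (fun ψ => ψ.hom b) (Scheme.ΓSpecIso (CommRingCat.of k)).hom_inv_id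
    rw [← h1]
    exact hu.map (Scheme.ΓSpecIso (CommRingCat.of k)).inv.hom
  -- the orbit maps to the point
  have horb : ∀ x : 𝟙_ (Over (Spec (CommRingCat.of k))) ⟶ X,
      a.orbitMap x ≫ φ = toUnit G ≫ x ≫ φ := by
    intro x
    have hinv : a.act ≫ φ = snd G X ≫ φ := h.inv
    unfold AlgGrp.Action.orbitMap
    rw [Category.assoc, hinv, ← Category.assoc, lift_snd, Category.assoc]
  have himage : ∀ x : 𝟙_ (Over (Spec (CommRingCat.of k))) ⟶ X,
      (φ.left : X.left → Y.left) '' Set.range (a.orbitMap x).left.base ⊆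
        {(x ≫ φ).left pt} := by
    rintro x _ ⟨_, ⟨g, rfl⟩, rfl⟩
    rw [Set.mem_singleton_iff]
    show ((a.orbitMap x).left ≫ φ.left) g = (x ≫ φ).left pt
    rw [← Over.comp_left, horb x, Over.comp_left, Scheme.Hom.comp_apply]
    exact congrArg _ (hT _)
  have hsec : ∀ x : 𝟙_ (Over (Spec (CommRingCat.of k))) ⟶ X,
      (x ≫ φ).left ≫ Y.hom = 𝟙 (Spec (CommRingCat.of k)) := fun x => Over.w (x ≫ φ)
  have hclosedpt : ∀ x : 𝟙_ (Over (Spec (CommRingCat.of k))) ⟶ X,
      IsClosed ({(x ≫ φ).left pt} : Set Y.left) := by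
    intro x
    have := isClosed_range_of_section (T := Spec (CommRingCat.of k)) pt hT (x ≫ φ).left Y.hom
      (hsec x)
    have hr : Set.range (x ≫ φ).left = {(x ≫ φ).left pt} := by
      ext y
      constructor
      · rintro ⟨t, rfl⟩
        rw [hT t]
        rfl
      · rintro rfl
        exact ⟨pt, rfl⟩
    rwa [hr] at this
  have hmem : ∀ x : 𝟙_ (Over (Spec (CommRingCat.of k))) ⟶ X,
      x.left pt ∈ Set.range (a.orbitMap x).left.base := by
    intro x
    refine ⟨(η[G]).left pt, ?_⟩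
    show ((η[G]).left ≫ (a.orbitMap x).left) pt = x.left pt
    rw [← Over.comp_left, unit_orbitMap]
  have hinvcl : ∀ x : 𝟙_ (Over (Spec (CommRingCat.of k))) ⟶ X,
      NRQuot.IsInvariantSet a (closure (Set.range (a.orbitMap x).left.base)) :=
    fun x => isInvariantSet_closure a _ (isInvariantSet_range_orbitMap a x) hopen
  constructor
  · rintro ⟨z, hz₁, hz₂⟩
    have hφz : ∀ x : 𝟙_ (Over (Spec (CommRingCat.of k))) ⟶ X,
        z ∈ closure (Set.range (a.orbitMap x).left.base) → φ.left z = (x ≫ φ).left pt := by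
      intro x hz
      have h1 : φ.left z ∈ closure ((φ.left : X.left → Y.left) ''
          Set.range (a.orbitMap x).left.base) :=
        image_closure_subset_closure_image φ.left.continuous ⟨z, hz, rfl⟩
      have h2 := closure_minimal (himage x) (hclosedpt x) h1
      exact h2
    have hpt : (x₁ ≫ φ).left pt = (x₂ ≫ φ).left pt := (hφz x₁ hz₁).symm.trans (hφz x₂ hz₂)
    apply Over.OverMorphism.ext
    exact section_ext (T := Spec (CommRingCat.of k)) pt hT hfield _ _ Y.hom (hsec x₁) (hsec x₂) hpt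
  · intro heq
    by_contra hne
    rw [Set.not_nonempty_iff_eq_empty] at hne
    let W : ULift.{u} Bool → Set X.left := fun j =>
      if j.down then closure (Set.range (a.orbitMap x₁).left.base)
      else closure (Set.range (a.orbitMap x₂).left.base)
    have hWc : ∀ j, IsClosed (W j) := by
      rintro ⟨j⟩
      cases j
      · exact isClosed_closure
      · exact isClosed_closure
    have hWi : ∀ j, NRQuot.IsInvariantSet a (W j) := by
      rintro ⟨j⟩
      cases j
      · exact hinvcl x₂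
      · exact hinvcl x₁
    have hinter := h.inter (ULift.{u} Bool) W hWc hWi
    have hempty : (⋂ j, W j) = ∅ := by
      rw [Set.eq_empty_iff_forall_notMem]
      intro z hz
      rw [Set.mem_iInter] at hz
      have : z ∈ closure (Set.range (a.orbitMap x₁).left.base) ∩
          closure (Set.range (a.orbitMap x₂).left.base) := ⟨hz ⟨true⟩, hz ⟨false⟩⟩
      rw [hne] at this
      exact this
    rw [hempty, Set.image_empty] at hinter
    have hy : (x₁ ≫ φ).left pt ∈ ⋂ j, φ.left.base '' W j := by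
      rw [Set.mem_iInter]
      rintro ⟨j⟩
      cases j
      · refine ⟨x₂.left pt, subset_closure (hmem x₂), ?_⟩
        rw [heq]
        rfl
      · exact ⟨x₁.left pt, subset_closure (hmem x₁), rfl⟩
    rw [← hinter] at hy
    exact hy

end Main

end Groth.Agent.Lib.Helper8GoodQuot
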