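import Mathlib
import Groth.Prelude
import Groth.Agent.Lib.Helper8GoodQuot

set_option autoImplicit false

/-!
# Good quotients with closed orbits: fibres are orbits on `k`-points
-/

universe u

open CategoryTheory CategoryTheory.Limits MonoidalCategory CartesianMonoidalCategory MonObj
  AlgebraicGeometry

namespace Groth.Agent.Lib.Helper8GoodQuot2

open Groth.Agent.Lib.Helper8GoodQuot

/-- two `k`-points whose orbits meet are translates of each other. -/
theorem exists_translate_of_orbits_meet (k : Type u) [Field k] [IsAlgClosed k]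
    (G X : Over (Spec (CommRingCat.of k))) [GrpObj G] [LocallyOfFiniteType G.hom]
    (a : AlgGrp.Action G X) (x₁ x₂ : 𝟙_ (Over (Spec (CommRingCat.of k))) ⟶ X)
    (hne : (Set.range (a.orbitMap x₁).left.base ∩ Set.range (a.orbitMap x₂).left.base).Nonempty) :
    ∃ g : 𝟙_ (Over (Spec (CommRingCat.of k))) ⟶ G, lift g x₁ ≫ a.act = x₂ := by
  obtain ⟨z, ⟨g₁', hg₁'⟩, ⟨g₂', hg₂'⟩⟩ := hne
  obtain ⟨e₀, -, -⟩ := Scheme.Pullback.exists_preimage_pullback (f := (a.orbitMap x₁).left)
    (g := (a.orbitMap x₂).left) g₁' g₂' (hg₁'.trans hg₂'.symm)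
  haveI : LocallyOfFiniteType (a.orbitMap x₂).left := by
    haveI : LocallyOfFiniteType ((a.orbitMap x₂).left ≫ X.hom) := by
      rw [Over.w (a.orbitMap x₂)]
      infer_instance
    exact locallyOfFiniteType_of_comp (a.orbitMap x₂).left X.hom
  haveI : LocallyOfFiniteType
      (pullback.fst (a.orbitMap x₁).left (a.orbitMap x₂).left ≫ G.hom) := inferInstance
  haveI : JacobsonSpace ↥(pullback (a.orbitMap x₁).left (a.orbitMap x₂).left) :=
    LocallyOfFiniteType.jacobsonSpace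
      (pullback.fst (a.orbitMap x₁).left (a.orbitMap x₂).left ≫ G.hom)
  obtain ⟨e, he⟩ : ∃ e : ↥(pullback (a.orbitMap x₁).left (a.orbitMap x₂).left), IsClosed {e} := by
    by_contra hcon
    push Not at hcon
    have h1 := closure_closedPoints (X := ↥(pullback (a.orbitMap x₁).left (a.orbitMap x₂).left))
    have h2 : closedPoints ↥(pullback (a.orbitMap x₁).left (a.orbitMap x₂).left) = ∅ :=
      Set.eq_empty_iff_forall_notMem.mpr (fun e he => hcon e he)
    rw [h2, closure_empty] at h1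
    have : e₀ ∈ (∅ : Set ↥(pullback (a.orbitMap x₁).left (a.orbitMap x₂).left)) := by
      rw [h1]
      trivial
    exact this
  have hp : pointOfClosedPoint
      (pullback.fst (a.orbitMap x₁).left (a.orbitMap x₂).left ≫ G.hom) e he ≫
      (pullback.fst (a.orbitMap x₁).left (a.orbitMap x₂).left ≫ G.hom) = 𝟙 _ :=
    pointOfClosedPoint_comp _ e he
  obtain ⟨p, hp'⟩ : ∃ p : Spec (CommRingCat.of k) ⟶
      pullback (a.orbitMap x₁).left (a.orbitMap x₂).left,
      p ≫ pullback.fst (a.orbitMap x₁).left (a.orbitMap x₂).left ≫ G.hom = 𝟙 _ := ⟨_, hp⟩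
  have hcond : pullback.fst (a.orbitMap x₁).left (a.orbitMap x₂).left ≫ (a.orbitMap x₁).left =
      pullback.snd (a.orbitMap x₁).left (a.orbitMap x₂).left ≫ (a.orbitMap x₂).left :=
    pullback.condition
  have hw₁ : (p ≫ pullback.fst (a.orbitMap x₁).left (a.orbitMap x₂).left) ≫ G.hom =
      (𝟙_ (Over (Spec (CommRingCat.of k)))).hom := by
    rw [Category.assoc]
    exact hp'
  have hw₂ : (p ≫ pullback.snd (a.orbitMap x₁).left (a.orbitMap x₂).left) ≫ G.hom =
      (𝟙_ (Over (Spec (CommRingCat.of k)))).hom := by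
    rw [Category.assoc, ← Over.w (a.orbitMap x₂), ← Category.assoc
      (pullback.snd (a.orbitMap x₁).left (a.orbitMap x₂).left), ← hcond, Category.assoc,
      Over.w (a.orbitMap x₁)]
    exact hp'
  let g₁ : 𝟙_ (Over (Spec (CommRingCat.of k))) ⟶ G := Over.homMk _ hw₁
  let g₂ : 𝟙_ (Over (Spec (CommRingCat.of k))) ⟶ G := Over.homMk _ hw₂
  have heq : g₁ ≫ a.orbitMap x₁ = g₂ ≫ a.orbitMap x₂ := by
    apply Over.OverMorphism.ext
    show (p ≫ pullback.fst (a.orbitMap x₁).left (a.orbitMap x₂).left) ≫ (a.orbitMap x₁).left =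
      (p ≫ pullback.snd (a.orbitMap x₁).left (a.orbitMap x₂).left) ≫ (a.orbitMap x₂).left
    rw [Category.assoc, Category.assoc, hcond]
  have hunit : ∀ x : 𝟙_ (Over (Spec (CommRingCat.of k))) ⟶ X,
      toUnit (𝟙_ (Over (Spec (CommRingCat.of k)))) ≫ x = x := by
    intro x
    rw [toUnit_unique (toUnit (𝟙_ (Over (Spec (CommRingCat.of k))))) (𝟙 _), Category.id_comp]
  have hA : lift g₁ x₁ ≫ a.act = lift g₂ x₂ ≫ a.act := by
    have := heq
    rw [a.comp_orbitMap, a.comp_orbitMap, hunit, hunit] at this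
    exact this
  refine ⟨g₂⁻¹ * g₁, ?_⟩
  rw [a.lift_mul_act, hA, ← a.lift_mul_act, inv_mul_cancel, a.lift_one_act]

/-- S18981. -/
theorem main18981 (k : Type u) [Field k] [IsAlgClosed k]
    (G X Y : Over (Spec (CommRingCat.of k))) [GrpObj G] [LocallyOfFiniteType G.hom]
    (a : AlgGrp.Action G X) (φ : X ⟶ Y) (h : NRQuot.IsGoodQuot a φ)
    (hcl : ∀ x : 𝟙_ (Over (Spec (CommRingCat.of k))) ⟶ X,
      IsClosed (Set.range (a.orbitMap x).left.base))
    (x₁ x₂ : 𝟙_ (Over (Spec (CommRingCat.of k))) ⟶ X) (hφ : x₁ ≫ φ = x₂ ≫ φ) :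
    ∃ g : 𝟙_ (Over (Spec (CommRingCat.of k))) ⟶ G, lift g x₁ ≫ a.act = x₂ := by
  have hne := (main19424 k G X Y a φ h x₁ x₂).mpr hφ
  rw [(hcl x₁).closure_eq, (hcl x₂).closure_eq] at hne
  exact exists_translate_of_orbits_meet k G X a x₁ x₂ hne

end Groth.Agent.Lib.Helper8GoodQuot2
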