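import Mathlib
import Groth.Prelude
import Groth.Agent.Lib.Helper8GoodQuot2

set_option autoImplicit false

/-!
# Every fibre of a good quotient over a rational point contains a unique closed orbit (S19409)
-/

universe u

open CategoryTheory CategoryTheory.Limits MonoidalCategory CartesianMonoidalCategory MonObj GrpObj
  AlgebraicGeometry

namespace Groth.Agent.Lib.Helper8ClosedOrbit

open Groth.Agent.Lib.Helper8GoodQuot Groth.Agent.Lib.Helper8GoodQuot2
  Groth.Agent.Lib.Helper8GeomQuotClosed Groth.Agent.Lib.Helper8GeomQuotSep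

section Top

variable {α : Type*} [TopologicalSpace α]

/-- finite unions of locally closed sets. -/
inductive FinLC : Set α → Prop
  | lc (U F : Set α) (hU : IsOpen U) (hF : IsClosed F) : FinLC (U ∩ F)
  | union (s t : Set α) : FinLC s → FinLC t → FinLC (s ∪ t)

theorem FinLC.of_isOpen {U : Set α} (hU : IsOpen U) : FinLC U := by
  have := FinLC.lc U Set.univ hU isClosed_univ
  rwa [Set.inter_univ] at this

theorem FinLC.of_isClosed {F : Set α} (hF : IsClosed F) : FinLC F := by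
  have := FinLC.lc Set.univ F isOpen_univ hF
  rwa [Set.univ_inter] at this

theorem FinLC.inter {s t : Set α} (hs : FinLC s) (ht : FinLC t) : FinLC (s ∩ t) := by
  induction hs with
  | lc U F hU hF =>
    induction ht with
    | lc U' F' hU' hF' =>
      have : U ∩ F ∩ (U' ∩ F') = (U ∩ U') ∩ (F ∩ F') := by
        ext z
        simp only [Set.mem_inter_iff]
        tauto
      rw [this]
      exact FinLC.lc _ _ (hU.inter hU') (hF.inter hF')
    | union s t _ _ ihs iht =>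
      rw [Set.inter_union_distrib_left]
      exact FinLC.union _ _ ihs iht
  | union s₁ s₂ _ _ ih₁ ih₂ =>
    rw [Set.union_inter_distrib_right]
    exact FinLC.union _ _ ih₁ ih₂

theorem FinLC.compl {s : Set α} (hs : FinLC s) : FinLC sᶜ := by
  induction hs with
  | lc U F hU hF =>
    rw [Set.compl_inter]
    exact FinLC.union _ _ (FinLC.of_isClosed hU.isClosed_compl) (FinLC.of_isOpen hF.isOpen_compl)
  | union s t _ _ ihs iht =>
    rw [Set.compl_union]
    exact ihs.inter iht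

theorem FinLC.of_isConstructible {s : Set α} (hs : Topology.IsConstructible s) : FinLC s := by
  refine Topology.IsConstructible.empty_union_induction (p := fun s _ => FinLC s) ?_ ?_ ?_ hs
  · intro U hU _
    exact FinLC.of_isOpen hU
  · intro s _ t _ ihs iht
    exact FinLC.union _ _ ihs iht
  · intro s _ ih
    exact ih.compl

/-- a finite union of locally closed sets contains a dense open subset of its closure. -/
theorem FinLC.exists_open {C : Set α} (hC : FinLC C) :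
    ∀ W : Set α, IsOpen W → (W ∩ C).Nonempty →
      ∃ O : Set α, IsOpen O ∧ O ⊆ W ∧ (O ∩ closure C).Nonempty ∧ O ∩ closure C ⊆ C := by
  induction hC with
  | lc U F hU hF =>
    intro W hW hne
    refine ⟨W ∩ U, hW.inter hU, Set.inter_subset_left, ?_, ?_⟩
    · obtain ⟨z, hzW, hzU, hzF⟩ := hne
      exact ⟨z, ⟨hzW, hzU⟩, subset_closure ⟨hzU, hzF⟩⟩
    · rintro z ⟨⟨_, hzU⟩, hzc⟩
      have h1 : closure (U ∩ F) ⊆ F := closure_minimal Set.inter_subset_right hF
      exact ⟨hzU, h1 hzc⟩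
  | union s t _ _ ihs iht =>
    intro W hW hne
    have key : ∀ (s t : Set α)
        (ihs : ∀ W : Set α, IsOpen W → (W ∩ s).Nonempty →
          ∃ O : Set α, IsOpen O ∧ O ⊆ W ∧ (O ∩ closure s).Nonempty ∧ O ∩ closure s ⊆ s),
        ((W ∩ s) \ closure t).Nonempty →
        ∃ O : Set α, IsOpen O ∧ O ⊆ W ∧ (O ∩ closure (s ∪ t)).Nonempty ∧
          O ∩ closure (s ∪ t) ⊆ s ∪ t := by
      intro s t ihs hA
      obtain ⟨O, hO, hOW, hOne, hOsub⟩ := ihs (W ∩ (closure t)ᶜ)
        (hW.inter isClosed_closure.isOpen_compl) (by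
          obtain ⟨z, ⟨hzW, hzs⟩, hzt⟩ := hA
          exact ⟨z, ⟨hzW, hzt⟩, hzs⟩)
      refine ⟨O, hO, fun z hz => (hOW hz).1, ?_, ?_⟩
      · obtain ⟨z, hzO, hzc⟩ := hOne
        exact ⟨z, hzO, closure_mono Set.subset_union_left hzc⟩
      · rintro z ⟨hzO, hzc⟩
        rw [closure_union] at hzc
        rcases hzc with hzc | hzc
        · exact Or.inl (hOsub ⟨hzO, hzc⟩)
        · exact absurd hzc (hOW hzO).2
    by_cases hA : ((W ∩ s) \ closure t).Nonempty
    · exact key s t ihs hA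
    by_cases hB : ((W ∩ t) \ closure s).Nonempty
    · have := key t s iht hB
      rwa [Set.union_comm t s] at this
    have h1 : W ∩ s ⊆ closure t := by
      intro z hz
      by_contra hzt
      exact hA ⟨z, hz, hzt⟩
    have h2 : W ∩ t ⊆ closure s := by
      intro z hz
      by_contra hzs
      exact hB ⟨z, hz, hzs⟩
    have h3 : W ∩ closure s ⊆ closure t :=
      (hW.inter_closure).trans (closure_minimal h1 isClosed_closure)
    have h4 : W ∩ closure t ⊆ closure s :=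
      (hW.inter_closure).trans (closure_minimal h2 isClosed_closure)
    obtain ⟨z, hzW, hzs | hzt⟩ := hne
    · obtain ⟨O, hO, hOW, hOne, hOsub⟩ := ihs W hW ⟨z, hzW, hzs⟩
      refine ⟨O, hO, hOW, ?_, ?_⟩
      · obtain ⟨w, hwO, hwc⟩ := hOne
        exact ⟨w, hwO, closure_mono Set.subset_union_left hwc⟩
      · rintro w ⟨hwO, hwc⟩
        rw [closure_union] at hwc
        rcases hwc with hwc | hwc
        · exact Or.inl (hOsub ⟨hwO, hwc⟩)
        · exact Or.inl (hOsub ⟨hwO, h4 ⟨hOW hwO, hwc⟩⟩)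
    · obtain ⟨O, hO, hOW, hOne, hOsub⟩ := iht W hW ⟨z, hzW, hzt⟩
      refine ⟨O, hO, hOW, ?_, ?_⟩
      · obtain ⟨w, hwO, hwc⟩ := hOne
        exact ⟨w, hwO, closure_mono Set.subset_union_right hwc⟩
      · rintro w ⟨hwO, hwc⟩
        rw [closure_union] at hwc
        rcases hwc with hwc | hwc
        · exact Or.inr (hOsub ⟨hwO, h3 ⟨hOW hwO, hwc⟩⟩)
        · exact Or.inr (hOsub ⟨hwO, hwc⟩)

end Top

section Act

variable {S : Scheme.{u}} {G X : Over S} [GrpObj G] (a : AlgGrp.Action G X)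

theorem comp_pt {A B C : Over S} (f : A ⟶ B) (g : B ⟶ C) (p : A.left) :
    (f ≫ g).left.base p = g.left.base (f.left.base p) := rfl

/-- the involution `(g, x) ↦ (g⁻¹, g x)` of `G × X`. -/
theorem exists_tau : ∃ τ : G ⊗ X ⟶ G ⊗ X,
    τ ≫ snd G X = a.act ∧ τ ≫ a.act = snd G X ∧ τ ≫ τ = 𝟙 _ := by
  have h2 : lift (fst G X)⁻¹ a.act ≫ a.act = snd G X := by
    have e : lift (fst G X)⁻¹ (lift (fst G X) (snd G X) ≫ a.act) ≫ a.act = snd G X := by
      rw [← AlgGrp.Action.lift_mul_act, inv_mul_cancel, AlgGrp.Action.lift_one_act]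
    rw [lift_fst_snd, Category.id_comp] at e
    exact e
  refine ⟨lift (fst G X)⁻¹ a.act, lift_snd _ _, h2, ?_⟩
  apply CartesianMonoidalCategory.hom_ext
  · rw [Category.assoc, lift_fst, GrpObj.comp_inv, lift_fst, _root_.inv_inv, Category.id_comp]
  · rw [Category.assoc, lift_snd, h2, Category.id_comp]

theorem rev_invariant {W : Set X.left} (hW : NRQuot.IsInvariantSet a W) (p : (G ⊗ X).left)
    (hp : a.act.left.base p ∈ W) : (snd G X).left.base p ∈ W := by
  obtain ⟨τ, hτ1, hτ2, -⟩ := exists_tau a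
  have h1 : (snd G X).left.base (τ.left.base p) ∈ W := by
    rw [← comp_pt, hτ1]
    exact hp
  have h2 := hW _ h1
  rw [← comp_pt, hτ2] at h2
  exact h2

theorem sat_invariant (U : Set X.left) :
    NRQuot.IsInvariantSet a (a.act.left.base '' ((snd G X).left.base ⁻¹' U)) := by
  rintro p ⟨q, hqU, hq⟩
  obtain ⟨w, hw1, hw2⟩ := Groth.Agent.Lib.Helper11Orbit.exists_of_isPullback
    (isPullback_whiskerLeft G a.act) p q hq.symm
  have hw1' : (G ◁ a.act).left.base w = p := hw1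
  have hw2' : (snd G (G ⊗ X)).left.base w = q := hw2
  have e1 : ((α_ G G X).inv ≫ (μ[G] ▷ X)) ≫ snd G X = snd G (G ⊗ X) ≫ snd G X := by
    rw [Category.assoc, whiskerRight_snd, associator_inv_snd]
  have e2 : ((α_ G G X).inv ≫ (μ[G] ▷ X)) ≫ a.act = (G ◁ a.act) ≫ a.act := by
    rw [Category.assoc, a.mul_act, Iso.inv_hom_id_assoc]
  refine ⟨((α_ G G X).inv ≫ (μ[G] ▷ X)).left.base w, ?_, ?_⟩
  · show (snd G X).left.base _ ∈ U
    rw [← comp_pt, e1, comp_pt, hw2']
    exact hqU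
  · rw [← comp_pt, e2, comp_pt, hw1']

theorem subset_sat (U : Set X.left) :
    U ⊆ a.act.left.base '' ((snd G X).left.base ⁻¹' U) := by
  intro z hz
  have e1 : lift (1 : X ⟶ G) (𝟙 X) ≫ a.act = 𝟙 X := AlgGrp.Action.lift_one_act a (𝟙 X)
  have e2 : lift (1 : X ⟶ G) (𝟙 X) ≫ snd G X = 𝟙 X := lift_snd _ _
  refine ⟨(lift (1 : X ⟶ G) (𝟙 X)).left.base z, ?_, ?_⟩
  · show (snd G X).left.base _ ∈ U
    rw [← comp_pt, e2]
    exact hz
  · rw [← comp_pt, e1]
    rfl

end Act

section Surj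

variable {S : Scheme.{u}} {G X Y : Over S} [GrpObj G]

/-- a good quotient is surjective. -/
theorem surjective_of_isGoodQuot (a : AlgGrp.Action G X) (φ : X ⟶ Y)
    (h : NRQuot.IsGoodQuot a φ) (y : Y.left) : ∃ x : X.left, φ.left.base x = y := by
  have hcl : IsClosed (φ.left.base '' Set.univ) :=
    h.closed Set.univ isClosed_univ (fun _ _ => trivial)
  obtain ⟨V, hV⟩ : ∃ V : Y.left.Opens, (V : Set Y.left) = (φ.left.base '' Set.univ)ᶜ :=
    ⟨⟨_, hcl.isOpen_compl⟩, rfl⟩
  have hbot : φ.left ⁻¹ᵁ V = ⊥ := by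
    apply le_antisymm _ bot_le
    intro x hx
    have h1 : φ.left.base x ∈ (V : Set Y.left) := hx
    rw [hV] at h1
    exact h1 ⟨x, trivial, rfl⟩
  have hsub : Subsingleton Γ(X.left, φ.left ⁻¹ᵁ V) := by
    rw [hbot]
    infer_instance
  have h10 : (1 : Γ(Y.left, V)) = 0 := (h.sections V).1 (Subsingleton.elim _ _)
  have hVbot : V = ⊥ := by
    have h1 : Y.left.basicOpen (1 : Γ(Y.left, V)) = V := Y.left.basicOpen_of_isUnit isUnit_one
    rw [h10, Scheme.basicOpen_zero] at h1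
    exact h1.symm
  by_contra hy
  have h1 : y ∈ (V : Set Y.left) := by
    rw [hV]
    rintro ⟨x, -, hx⟩
    exact hy ⟨x, hx⟩
  rw [hVbot] at h1
  exact h1

end Surj

section Main

/-- S19409. -/
theorem main19409 (k : Type u) [Field k] [IsAlgClosed k]
    (G X Y : Over (Spec (CommRingCat.of k))) [GrpObj G] [IsAffine G.left]
    [LocallyOfFiniteType G.hom] [LocallyOfFiniteType X.hom]
    (a : AlgGrp.Action G X) (φ : X ⟶ Y) (h : NRQuot.IsGoodQuot a φ)
    (y : 𝟙_ (Over (Spec (CommRingCat.of k))) ⟶ Y) :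
    ∃ x : 𝟙_ (Over (Spec (CommRingCat.of k))) ⟶ X, x ≫ φ = y ∧
      IsClosed (Set.range (a.orbitMap x).left.base) ∧
      ∀ x' : 𝟙_ (Over (Spec (CommRingCat.of k))) ⟶ X, x' ≫ φ = y →
        IsClosed (Set.range (a.orbitMap x').left.base) →
        ∃ g : 𝟙_ (Over (Spec (CommRingCat.of k))) ⟶ G, lift g x ≫ a.act = x' := by
  haveI : LocallyOfFinitePresentation G.hom :=
    LocallyOfFinitePresentation.iff_locallyOfFiniteType.mpr inferInstance
  haveI : Flat G.hom := inferInstance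
  haveI : UniversallyOpen G.hom := inferInstance
  haveI : UniversallyOpen (snd G X).left := by
    show UniversallyOpen (pullback.snd G.hom X.hom)
    infer_instance
  have hopen : IsOpenMap (snd G X).left := (snd G X).left.isOpenMap
  haveI : IsAffineHom φ.left := h.affine
  have hinv : a.act ≫ φ = snd G X ≫ φ := h.inv
  -- the base point
  obtain ⟨pt⟩ : Nonempty ↥(Spec (CommRingCat.of k)) := inferInstance
  have hT : ∀ t : ↥(Spec (CommRingCat.of k)), t = pt :=
    fun t => Subsingleton.elim (α := PrimeSpectrum k) _ _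
  have hfield : ∀ b : Γ(Spec (CommRingCat.of k), ⊤), b ≠ 0 → IsUnit b := by
    intro b hb
    have h1 : (Scheme.ΓSpecIso (CommRingCat.of k)).inv
        ((Scheme.ΓSpecIso (CommRingCat.of k)).hom b) = b :=
      congrArg (fun ψ => ψ.hom b) (Scheme.ΓSpecIso (CommRingCat.of k)).hom_inv_id
    have hb' : (Scheme.ΓSpecIso (CommRingCat.of k)).hom b ≠ 0 := by
      intro h0
      apply hb
      rw [← h1, h0, map_zero]
    have hu : IsUnit ((Scheme.ΓSpecIso (CommRingCat.of k)).hom b) :=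
      (isUnit_iff_ne_zero (G₀ := k)).mpr hb'
    rw [← h1]
    exact hu.map (Scheme.ΓSpecIso (CommRingCat.of k)).inv.hom
  -- the action map is open
  obtain ⟨τ, hτ1, hτ2, hτ3⟩ := exists_tau a
  have hττ : ∀ p : (G ⊗ X).left, τ.left.base (τ.left.base p) = p := by
    intro p
    rw [← comp_pt, hτ3]
    rfl
  have hopen_act : IsOpenMap a.act.left.base := by
    intro S hS
    have e : a.act.left.base '' S = (snd G X).left.base '' (τ.left.base ⁻¹' S) := by
      ext z
      constructor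
      · rintro ⟨p, hp, rfl⟩
        refine ⟨τ.left.base p, ?_, ?_⟩
        · show τ.left.base (τ.left.base p) ∈ S
          rw [hττ]
          exact hp
        · rw [← comp_pt, hτ1]
      · rintro ⟨q, hq, rfl⟩
        refine ⟨τ.left.base q, hq, ?_⟩
        rw [← comp_pt, hτ2]
    rw [e]
    exact hopen _ (hS.preimage τ.left.continuous)
  -- the fibre
  obtain ⟨y₀, hy₀⟩ : ∃ y₀ : Y.left, y₀ = y.left.base pt := ⟨_, rfl⟩
  have hsecy : y.left ≫ Y.hom = 𝟙 (Spec (CommRingCat.of k)) := Over.w y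
  have hy₀cl : IsClosed ({y₀} : Set Y.left) := by
    have h1 := isClosed_range_of_section (T := Spec (CommRingCat.of k)) pt hT y.left Y.hom hsecy
    have hr : Set.range y.left = {y₀} := by
      ext z
      constructor
      · rintro ⟨t, rfl⟩
        rw [hT t, hy₀]
        rfl
      · rintro rfl
        exact ⟨pt, hy₀.symm⟩
    rwa [hr] at h1
  have hFcl : IsClosed (φ.left.base ⁻¹' {y₀}) := hy₀cl.preimage φ.left.continuous
  have hFinv : NRQuot.IsInvariantSet a (φ.left.base ⁻¹' {y₀}) := by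
    intro p hp
    show φ.left.base (a.act.left.base p) ∈ ({y₀} : Set Y.left)
    rw [← comp_pt, hinv]
    exact hp
  obtain ⟨xF, hxF⟩ := surjective_of_isGoodQuot a φ h y₀
  -- the minimal closed invariant nonempty subset of the fibre
  obtain ⟨𝒮, h𝒮⟩ : ∃ 𝒮 : Set (Set X.left), 𝒮 = {N | IsClosed N ∧ NRQuot.IsInvariantSet a N ∧
      N.Nonempty ∧ N ⊆ φ.left.base ⁻¹' {y₀}} := ⟨_, rfl⟩
  have h𝒮mem : ∀ N : Set X.left, N ∈ 𝒮 ↔ (IsClosed N ∧ NRQuot.IsInvariantSet a N ∧
      N.Nonempty ∧ N ⊆ φ.left.base ⁻¹' {y₀}) := by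
    intro N
    rw [h𝒮]
    exact Iff.rfl
  have hF𝒮 : (φ.left.base ⁻¹' {y₀}) ∈ 𝒮 :=
    (h𝒮mem _).mpr ⟨hFcl, hFinv, ⟨xF, hxF⟩, subset_rfl⟩
  obtain ⟨M, hM⟩ : ∃ M : Set X.left, M = ⋂ j : ↥𝒮, (j : Set X.left) := ⟨_, rfl⟩
  have hMle : ∀ N : Set X.left, N ∈ 𝒮 → M ⊆ N := by
    intro N hN
    rw [hM]
    exact Set.iInter_subset (fun j : ↥𝒮 => (j : Set X.left)) ⟨N, hN⟩
  have hMcl : IsClosed M := by
    rw [hM]
    exact isClosed_iInter (fun j => ((h𝒮mem _).mp j.2).1)
  have hMinv : NRQuot.IsInvariantSet a M := by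
    intro p hp
    rw [hM, Set.mem_iInter] at hp ⊢
    intro j
    exact ((h𝒮mem _).mp j.2).2.1 p (hp j)
  have hMF : M ⊆ φ.left.base ⁻¹' {y₀} := hMle _ hF𝒮
  have hMne : M.Nonempty := by
    have h1 := h.inter ↥𝒮 (fun j => (j : Set X.left)) (fun j => ((h𝒮mem _).mp j.2).1)
      (fun j => ((h𝒮mem _).mp j.2).2.1)
    have h2 : y₀ ∈ ⋂ j : ↥𝒮, φ.left.base '' (j : Set X.left) := by
      rw [Set.mem_iInter]
      intro j
      obtain ⟨z, hz⟩ := ((h𝒮mem _).mp j.2).2.2.1
      exact ⟨z, hz, ((h𝒮mem _).mp j.2).2.2.2 hz⟩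
    rw [← h1] at h2
    obtain ⟨z, hz, -⟩ := h2
    exact ⟨z, hM ▸ hz⟩
  have hMmin : ∀ N : Set X.left, IsClosed N → NRQuot.IsInvariantSet a N → N.Nonempty →
      N ⊆ M → M ⊆ N := by
    intro N h1 h2 h3 h4
    exact hMle N ((h𝒮mem _).mpr ⟨h1, h2, h3, h4.trans hMF⟩)
  -- a closed point of `M`
  haveI : JacobsonSpace ↥X.left := LocallyOfFiniteType.jacobsonSpace X.hom
  obtain ⟨x₀, hx₀M, hx₀cl⟩ := nonempty_inter_closedPoints hMne hMcl.isLocallyClosed
  have hx₀cl' : IsClosed ({x₀} : Set X.left) := hx₀cl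
  have hxs : pointOfClosedPoint X.hom x₀ hx₀cl' ≫ X.hom =
      (𝟙_ (Over (Spec (CommRingCat.of k)))).hom := pointOfClosedPoint_comp X.hom x₀ hx₀cl'
  obtain ⟨x, hx⟩ : ∃ x : 𝟙_ (Over (Spec (CommRingCat.of k))) ⟶ X,
      x.left = pointOfClosedPoint X.hom x₀ hx₀cl' := ⟨Over.homMk _ hxs, rfl⟩
  have hxpt : x.left.base pt = x₀ := by
    rw [hx]
    exact pointOfClosedPoint_apply X.hom x₀ hx₀cl' pt
  have hxφ : x ≫ φ = y := by
    apply Over.OverMorphism.ext
    refine section_ext (T := Spec (CommRingCat.of k)) pt hT hfield _ _ Y.hom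
      (Over.w (x ≫ φ)) hsecy ?_
    show φ.left.base (x.left.base pt) = y.left.base pt
    rw [hxpt, ← hy₀]
    exact hMF hx₀M
  -- the orbit
  have hxO : x₀ ∈ Set.range (a.orbitMap x).left.base := by
    refine ⟨(η[G]).left.base pt, ?_⟩
    rw [← comp_pt, unit_orbitMap, hxpt]
  have hOinv : NRQuot.IsInvariantSet a (Set.range (a.orbitMap x).left.base) :=
    isInvariantSet_range_orbitMap a x
  have hOM : Set.range (a.orbitMap x).left.base ⊆ M := by
    rintro _ ⟨g₀, rfl⟩
    have e1 : a.orbitMap x = lift (𝟙 G) (toUnit G ≫ x) ≫ a.act := rfl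
    rw [e1, comp_pt]
    apply hMinv
    rw [← comp_pt, lift_snd, comp_pt, hT ((toUnit G).left.base g₀), hxpt]
    exact hx₀M
  have hclO : closure (Set.range (a.orbitMap x).left.base) = M := by
    apply le_antisymm (closure_minimal hOM hMcl)
    exact hMmin _ isClosed_closure (isInvariantSet_closure a _ hOinv hopen)
      ⟨x₀, subset_closure hxO⟩ (closure_minimal hOM hMcl)
  -- an affine neighbourhood
  obtain ⟨V, hV, hy₀V, -⟩ :=
    exists_isAffineOpen_mem_and_subset (X := Y.left) (x := y₀) (U := ⊤) trivial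
  have hX' : IsAffineOpen (φ.left ⁻¹ᵁ V) := hV.preimage φ.left
  obtain ⟨X', hX'eq⟩ : ∃ X' : X.left.Opens, X' = φ.left ⁻¹ᵁ V := ⟨_, rfl⟩
  rw [← hX'eq] at hX'
  haveI : IsAffine X'.toScheme := hX'
  have hMX' : M ⊆ (X' : Set X.left) := by
    intro z hz
    rw [hX'eq]
    show φ.left.base z ∈ (V : Set Y.left)
    have h1 : φ.left.base z = y₀ := hMF hz
    rw [h1]
    exact hy₀V
  have hrange : Set.range (a.orbitMap x).left ⊆ Set.range X'.ι := by
    rw [Scheme.Opens.range_ι]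
    exact hOM.trans hMX'
  obtain ⟨f', hf'⟩ : ∃ f' : G.left ⟶ X'.toScheme, f' ≫ X'.ι = (a.orbitMap x).left :=
    ⟨IsOpenImmersion.lift X'.ι (a.orbitMap x).left hrange, IsOpenImmersion.lift_fac _ _ _⟩
  haveI : LocallyOfFiniteType (a.orbitMap x).left := by
    haveI : LocallyOfFiniteType ((a.orbitMap x).left ≫ X.hom) := by
      rw [Over.w (a.orbitMap x)]
      infer_instance
    exact locallyOfFiniteType_of_comp (a.orbitMap x).left X.hom
  haveI : LocallyOfFiniteType f' := by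
    haveI : LocallyOfFiniteType (f' ≫ X'.ι) := by
      rw [hf']
      infer_instance
    exact locallyOfFiniteType_of_comp f' X'.ι
  haveI : IsLocallyNoetherian X.left := LocallyOfFiniteType.isLocallyNoetherian X.hom
  haveI : IsLocallyNoetherian X'.toScheme := inferInstance
  haveI : LocallyOfFinitePresentation f' :=
    LocallyOfFinitePresentation.iff_locallyOfFiniteType.mpr inferInstance
  haveI : QuasiCompact f' := quasiCompact_of_compactSpace f'
  have hCcons : Topology.IsConstructible (f'.base '' Set.univ) :=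
    f'.isConstructible_image Topology.IsConstructible.univ
  have hf'pt : ∀ g₀ : G.left, X'.ι.base (f'.base g₀) = (a.orbitMap x).left.base g₀ := by
    intro g₀
    rw [← hf']
    rfl
  have hιinj : Function.Injective X'.ι.base := X'.ι.isOpenEmbedding.injective
  have hCimage : X'.ι.base '' (f'.base '' Set.univ) = Set.range (a.orbitMap x).left.base := by
    ext z
    constructor
    · rintro ⟨_, ⟨g₀, -, rfl⟩, rfl⟩
      exact ⟨g₀, (hf'pt g₀).symm⟩
    · rintro ⟨g₀, rfl⟩
      exact ⟨f'.base g₀, ⟨g₀, trivial, rfl⟩, hf'pt g₀⟩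
  have hclC : closure (f'.base '' Set.univ) = X'.ι.base ⁻¹' M := by
    rw [X'.ι.isOpenEmbedding.isInducing.closure_eq_preimage_closure_image, hCimage, hclO]
  obtain ⟨O₁, hO₁, -, hO₁ne, hO₁sub⟩ := (FinLC.of_isConstructible hCcons).exists_open Set.univ
    isOpen_univ ⟨f'.base ((η[G]).left.base pt), trivial, _, trivial, rfl⟩
  rw [hclC] at hO₁ne hO₁sub
  -- transfer to `X`
  have hU'open : IsOpen (X'.ι.base '' O₁) := X'.ι.isOpenEmbedding.isOpenMap _ hO₁
  have hU'ne : ((X'.ι.base '' O₁) ∩ M).Nonempty := by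
    obtain ⟨w, hwO, hwM⟩ := hO₁ne
    exact ⟨X'.ι.base w, ⟨w, hwO, rfl⟩, hwM⟩
  have hU'sub : (X'.ι.base '' O₁) ∩ M ⊆ Set.range (a.orbitMap x).left.base := by
    rintro _ ⟨⟨w, hwO, rfl⟩, hwM⟩
    obtain ⟨g₀, -, hg₀⟩ := hO₁sub ⟨hwO, hwM⟩
    exact ⟨g₀, by rw [← hf'pt, hg₀]⟩
  -- saturate
  obtain ⟨A, hA⟩ : ∃ A : Set X.left,
      A = a.act.left.base '' ((snd G X).left.base ⁻¹' (X'.ι.base '' O₁)) := ⟨_, rfl⟩
  have hAopen : IsOpen A := by
    rw [hA]
    exact hopen_act _ (hU'open.preimage (snd G X).left.continuous)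
  have hAinv : NRQuot.IsInvariantSet a A := by
    rw [hA]
    exact sat_invariant a _
  have hU'A : X'.ι.base '' O₁ ⊆ A := by
    rw [hA]
    exact subset_sat a _
  have hAM : A ∩ M ⊆ Set.range (a.orbitMap x).left.base := by
    rintro z ⟨hzA, hzM⟩
    rw [hA] at hzA
    obtain ⟨p, hp, rfl⟩ := hzA
    have h1 : (snd G X).left.base p ∈ M := rev_invariant a hMinv p hzM
    exact hOinv p (hU'sub ⟨hp, h1⟩)
  have hMA : M ⊆ A := by
    by_contra hcon
    have hne : (M ∩ Aᶜ).Nonempty := by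
      rw [Set.not_subset] at hcon
      obtain ⟨z, hzM, hzA⟩ := hcon
      exact ⟨z, hzM, hzA⟩
    have hinvMA : NRQuot.IsInvariantSet a (M ∩ Aᶜ) := by
      rintro p ⟨hpM, hpA⟩
      refine ⟨hMinv p hpM, fun hcon' => hpA (rev_invariant a hAinv p hcon')⟩
    have h1 := hMmin (M ∩ Aᶜ) (hMcl.inter hAopen.isClosed_compl) hinvMA hne Set.inter_subset_left
    obtain ⟨z, hzU, hzM⟩ := hU'ne
    exact (h1 hzM).2 (hU'A hzU)
  have hOeq : Set.range (a.orbitMap x).left.base = M :=
    le_antisymm hOM (fun z hz => hAM ⟨hMA hz, hz⟩)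
  refine ⟨x, hxφ, ?_, ?_⟩
  · rw [hOeq]
    exact hMcl
  · intro x' hx'φ hx'cl
    have hne := (main19424 k G X Y a φ h x x').mpr (hxφ.trans hx'φ.symm)
    rw [hx'cl.closure_eq, hclO, ← hOeq] at hne
    exact exists_translate_of_orbits_meet k G X a x x' hne

end Main

end Groth.Agent.Lib.Helper8ClosedOrbit
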