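import Groth.Agent.S0660
import Groth.Agent.Lib.Helper8EtLift
import Groth.Agent.Lib.Helper16SmallEtale

/-!
# Pushforward of étale sheaves along a closed immersion is fully faithful (helper8)

For a closed immersion `i : Z ⟶ X` the base change functor `X.Etale ⥤ Z.Etale` is cover dense
(étale `Z`-schemes lift locally) and locally full (S0660), hence Mathlib's comparison lemma gives
that `i_*` is full and faithful (for sheaves with values in any category).
-/

set_option autoImplicit false
universe u
open CategoryTheory CategoryTheory.Limits AlgebraicGeometry Opposite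

namespace Groth.Agent.Lib.Helper8ClosedPush

open Groth.Agent.Lib.Helper16.SmallEtale

variable {Z X : Scheme.{u}} (i : Z ⟶ X) [IsClosedImmersion i]

set_option backward.isDefEq.respectTransparency.types false in
instance isCoverDense_bc : (EtCoh.bc i).IsCoverDense Z.smallEtaleTopology where
  is_cover V := by
    rw [mem_smallEtale_iff]
    intro x
    haveI : Etale V.hom := V.prop
    obtain ⟨B, B₀, c, k, r, -, hc, -, sq, ⟨b₀, hb₀⟩⟩ :=
      Groth.Agent.Lib.Helper8EtLift.exists_etale_lift_closed i V.hom x
    haveI := hc
    let Bo : X.Etale := Scheme.Etale.mk c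
    let e : B₀ ≅ pullback c i := sq.isoPullback
    let g : (EtCoh.bc i).obj Bo ⟶ V := MorphismProperty.Over.homMk (e.inv ≫ r) (by
      change (e.inv ≫ r) ≫ V.hom = pullback.snd c i
      rw [Category.assoc]
      exact sq.isoPullback_inv_snd)
    refine ⟨(EtCoh.bc i).obj Bo, g, e.hom b₀, Presieve.in_coverByImage _ g, ?_⟩
    change (e.inv ≫ r) (e.hom b₀) = x
    rw [← Scheme.Hom.comp_apply, ← Category.assoc, Iso.hom_inv_id, Category.id_comp, hb₀]

instance isLocallyFull_bc : (EtCoh.bc i).IsLocallyFull Z.smallEtaleTopology where
  functorPushforward_imageSieve_mem {U U'} h := by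
    obtain ⟨W, a, b, ha, hab⟩ := Groth.Agent.S0660.result i U U' h
    haveI := ha
    have hmem : ((EtCoh.bc i).imageSieve h).functorPushforward (EtCoh.bc i) ((EtCoh.bc i).map a) :=
      Sieve.image_mem_functorPushforward _ _ ⟨b, hab.symm⟩
    have htop : ((EtCoh.bc i).imageSieve h).functorPushforward (EtCoh.bc i) = ⊤ := by
      rw [← Sieve.id_mem_iff_eq_top]
      have := (((EtCoh.bc i).imageSieve h).functorPushforward (EtCoh.bc i)).downward_closed hmem
        (inv ((EtCoh.bc i).map a))
      rwa [IsIso.inv_hom_id] at this
    rw [htop]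
    exact Z.smallEtaleTopology.top_mem _

theorem full_push : (EtCoh.push i).Full :=
  Functor.IsCoverDense.full_sheafPushforwardContinuous (G := EtCoh.bc i)
    (J := X.smallEtaleTopology) (K := Z.smallEtaleTopology) (A := AddCommGrpCat.{u + 1})

theorem faithful_push : (EtCoh.push i).Faithful :=
  Functor.IsCoverDense.faithful_sheafPushforwardContinuous (G := EtCoh.bc i)
    (J := X.smallEtaleTopology) (K := Z.smallEtaleTopology) (A := AddCommGrpCat.{u + 1})

end Groth.Agent.Lib.Helper8ClosedPush
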