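import Mathlib
import Groth.Prelude.Def_MeroSh
import Groth.Agent.Lib.Helper23SecTw2
import Groth.Agent.Lib.Helper6QCohQcqs

/-!
# The invertible module attached to a unit cocycle on an open cover (helper8)

Given opens `W x ∋ x` of a scheme `X` indexed by the points and functions `g x y` on `W x ⊓ W y` with
`g x x = 1` and `g x y * g y z = g x z` on triple overlaps, we construct an `O_X`-module `L` with
generators `e x` over `W x` such that `e x = g x y • e y` on `W x ⊓ W y`
(`exists_module_of_cocycle`).  The module is built with the prelude's `Mero.modOf`: its sections are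
the families of germs `(f y)`, `f y` being the coordinate of the section in the frame `e y`.
-/

set_option autoImplicit false
universe u
open CategoryTheory Limits AlgebraicGeometry TopologicalSpace Opposite

namespace Groth.Agent.Lib.Helper8CocMod

open Groth.Agent.Lib.Helper6 Groth.Agent.Lib.Helper23.SecTw

variable {X : Scheme.{u}} (W : X → X.Opens) (hW : ∀ x, x ∈ W x)
  (g : ∀ x y, Γ(X, W x ⊓ W y))

/-- the germ map as a ring homomorphism -/
noncomputable def gm (U : X.Opens) (y : X) (hy : y ∈ U) : Γ(X, U) →+* X.presheaf.stalk y :=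
  (X.presheaf.germ U y hy).hom

lemma gm_resf {U V : X.Opens} (h : V ≤ U) (y : X) (hy : y ∈ V) (s : Γ(X, U)) :
    gm V y hy (resf h s) = gm U y (h hy) s :=
  TopCat.Presheaf.germ_res_apply X.presheaf (homOfLE h) y hy s

/-- the germs of the cocycle -/
noncomputable def γ (y a b : X) (ha : y ∈ W a) (hb : y ∈ W b) : X.presheaf.stalk y :=
  gm (W a ⊓ W b) y ⟨ha, hb⟩ (g a b)

variable (h1 : ∀ x, g x x = 1)
  (hc : ∀ x y z, resf (inf_le_left : W x ⊓ W y ⊓ W z ≤ W x ⊓ W y) (g x y) *
      resf (le_inf (inf_le_left.trans inf_le_right) inf_le_right : W x ⊓ W y ⊓ W z ≤ W y ⊓ W z) (g y z) =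
    resf (le_inf (inf_le_left.trans inf_le_left) inf_le_right : W x ⊓ W y ⊓ W z ≤ W x ⊓ W z) (g x z))

include h1 in
lemma γ_self (y a : X) (ha : y ∈ W a) : γ W g y a a ha ha = 1 := by
  unfold γ
  rw [h1, map_one]

include hc in
lemma γ_mul (y a b c : X) (ha : y ∈ W a) (hb : y ∈ W b) (hc' : y ∈ W c) :
    γ W g y a b ha hb * γ W g y b c hb hc' = γ W g y a c ha hc' := by
  have h := congrArg (gm (W a ⊓ W b ⊓ W c) y ⟨⟨ha, hb⟩, hc'⟩) (hc a b c)
  rw [map_mul, gm_resf, gm_resf, gm_resf] at h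
  exact h

include h1 hc in
lemma γ_inv (y a b : X) (ha : y ∈ W a) (hb : y ∈ W b) :
    γ W g y a b ha hb * γ W g y b a hb ha = 1 := by
  rw [γ_mul W g hc, γ_self W g h1]

/-- the family of stalks -/
abbrev Tst (X : Scheme.{u}) : X → Type u := fun y => X.presheaf.stalk y

/-- the defining predicate: locally of the form `s • e a` -/
def IsLoc {U : X.Opens} (f : ∀ y : U, Tst X y.1) : Prop :=
  ∀ x : U, ∃ (a : X) (V : X.Opens) (_ : x.1 ∈ V) (hVU : V ≤ U) (hVa : V ≤ W a) (s : Γ(X, V)),
    ∀ (y : X) (hy : y ∈ V), f ⟨y, hVU hy⟩ = gm V y hy s * γ W g y a y (hVa hy) (hW y)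

/-- the local predicate -/
def locPred : TopCat.LocalPredicate (Tst X) where
  pred {U} f := IsLoc W hW g f
  res {U' U} i f hf := by
    intro x
    obtain ⟨a, V, hxV, hVU, hVa, s, hs⟩ := hf ⟨x.1, i.le x.2⟩
    refine ⟨a, V ⊓ U', ⟨hxV, x.2⟩, inf_le_right, inf_le_left.trans hVa, resf inf_le_left s, ?_⟩
    intro y hy
    rw [gm_resf]
    exact hs y hy.1
  locality {U} f hf := by
    intro x
    obtain ⟨V', hxV', i, hV'⟩ := hf x
    obtain ⟨a, V, hxV, hVU, hVa, s, hs⟩ := hV' ⟨x.1, hxV'⟩
    exact ⟨a, V, hxV, hVU.trans i.le, hVa, s, fun y hy => hs y hy⟩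

lemma gm_resf_g {V : X.Opens} (a b : X) (hV : V ≤ W a ⊓ W b) (y : X) (hy : y ∈ V) :
    gm V y hy (resf hV (g a b)) = γ W g y a b (hV hy).1 (hV hy).2 := by
  rw [gm_resf]
  rfl

include hc in
theorem isModPred : Mero.IsModPred (locPred W hW g) where
  zero U := by
    intro x
    refine ⟨x.1, U ⊓ W x.1, ⟨x.2, hW x.1⟩, inf_le_left, inf_le_right, 0, ?_⟩
    intro y hy
    rw [map_zero, zero_mul]
    rfl
  add U f f' hf hf' := by
    intro x
    obtain ⟨a, V, hxV, hVU, hVa, s, hs⟩ := hf x
    obtain ⟨a', V', hxV', hVU', hVa', s', hs'⟩ := hf' x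
    refine ⟨a, V ⊓ V', ⟨hxV, hxV'⟩, inf_le_left.trans hVU, inf_le_left.trans hVa,
      resf inf_le_left s + resf inf_le_right s' *
        resf (le_inf (inf_le_right.trans hVa') (inf_le_left.trans hVa)) (g a' a), ?_⟩
    intro y hy
    rw [map_add, map_mul, gm_resf, gm_resf, gm_resf_g, add_mul, mul_assoc, γ_mul W g hc]
    change f _ + f' _ = _
    rw [hs y hy.1, hs' y hy.2]
  smul U r f hf := by
    intro x
    obtain ⟨a, V, hxV, hVU, hVa, s, hs⟩ := hf x
    refine ⟨a, V, hxV, hVU, hVa, resf hVU r * s, ?_⟩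
    intro y hy
    rw [map_mul, gm_resf, mul_assoc, ← hs y hy]
    rfl

/-- the module attached to the cocycle -/
noncomputable def cocMod : X.Modules :=
  @Mero.modOf X (Tst X) _ _ (locPred W hW g) (isModPred W hW g hc)

/-- sections of the module from functions satisfying the predicate -/
noncomputable def mkSecM {U : X.Opens} (f : ∀ y : U, Tst X y.1) (hf : IsLoc W hW g f) :
    Γ(cocMod W hW g hc, U) :=
  (⟨f, hf⟩ : (TopCat.subpresheafToTypes (locPred W hW g).toPrelocalPredicate).obj (op U))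

/-- the value of a section at a point -/
noncomputable def valM {U : X.Opens} (m : Γ(cocMod W hW g hc, U)) (y : U) : X.presheaf.stalk y.1 :=
  (m : (TopCat.subpresheafToTypes (locPred W hW g).toPrelocalPredicate).obj (op U)).1 y

lemma valM_mkSecM {U : X.Opens} (f : ∀ y : U, Tst X y.1) (hf : IsLoc W hW g f) (y : U) :
    valM W hW g hc (mkSecM W hW g hc f hf) y = f y := rfl

lemma valM_prop {U : X.Opens} (m : Γ(cocMod W hW g hc, U)) :
    IsLoc W hW g (valM W hW g hc m) :=
  (m : (TopCat.subpresheafToTypes (locPred W hW g).toPrelocalPredicate).obj (op U)).2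

lemma valM_ext {U : X.Opens} (m m' : Γ(cocMod W hW g hc, U))
    (h : ∀ y, valM W hW g hc m y = valM W hW g hc m' y) : m = m' :=
  Subtype.ext (funext h)

lemma valM_smul {U : X.Opens} (r : Γ(X, U)) (m : Γ(cocMod W hW g hc, U)) (y : U) :
    valM W hW g hc (r • m) y = gm U y.1 y.2 r * valM W hW g hc m y := rfl

lemma valM_res {U V : X.Opens} (h : V ≤ U) (m : Γ(cocMod W hW g hc, U)) (y : V) :
    valM W hW g hc (res (cocMod W hW g hc) h m) y = valM W hW g hc m ⟨y.1, h y.2⟩ := rfl

/-- the generator over `W a` -/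
noncomputable def gen (a : X) : Γ(cocMod W hW g hc, W a) :=
  mkSecM W hW g hc (fun y => γ W g y.1 a y.1 y.2 (hW y.1)) (by
    intro x
    refine ⟨a, W a, x.2, le_rfl, le_rfl, 1, ?_⟩
    intro y hy
    rw [map_one, one_mul])

lemma valM_gen (a : X) (y : W a) :
    valM W hW g hc (gen W hW g hc a) y = γ W g y.1 a y.1 y.2 (hW y.1) := rfl

lemma eq_of_gm_eq {U : X.Opens} (s t : Γ(X, U)) (h : ∀ (y : X) (hy : y ∈ U), gm U y hy s = gm U y hy t) :
    s = t :=
  TopCat.Presheaf.section_ext X.sheaf U s t h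

include h1 in
theorem isGen_gen (a : X) : IsGen (cocMod W hW g hc) (W a) (gen W hW g hc a) := by
  intro W' hW'
  constructor
  · intro r r' hrr
    apply eq_of_gm_eq
    intro y hy
    have h2 := congrArg (fun m => valM W hW g hc m ⟨y, hy⟩) hrr
    simp only [valM_smul, valM_res, valM_gen] at h2
    have h3 := congrArg (fun t => t * γ W g y y a (hW y) (hW' hy)) h2
    simp only [mul_assoc, γ_inv W g h1 hc, mul_one] at h3
    exact h3
  · intro m
    have hm := valM_prop W hW g hc m
    choose b V hxV hVU hVb s hs using hm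
    -- local coefficients
    let r : ∀ x : W', Γ(X, V x) := fun x =>
      s x * resf (le_inf (hVb x) ((hVU x).trans hW')) (g (b x) a)
    have hr : ∀ (x : W') (y : X) (hy : y ∈ V x),
        gm (V x) y hy (r x) = valM W hW g hc m ⟨y, hVU x hy⟩ * γ W g y y a (hW y) (hW' (hVU x hy)) := by
      intro x y hy
      change gm (V x) y hy (s x * resf _ (g (b x) a)) = _
      rw [map_mul, gm_resf_g, hs x y hy, mul_assoc, γ_mul W g hc]
    have hcov : W' ≤ iSup V := fun y hy => Opens.mem_iSup.2 ⟨⟨y, hy⟩, hxV ⟨y, hy⟩⟩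
    have hcompat : TopCat.Presheaf.IsCompatible X.sheaf.1 V r := by
      intro x x'
      apply eq_of_gm_eq
      intro y hy
      change gm _ y hy (resf inf_le_left (r x)) = gm _ y hy (resf inf_le_right (r x'))
      rw [gm_resf, gm_resf, hr, hr]
    obtain ⟨ρ, hρ, -⟩ := X.sheaf.existsUnique_gluing' V W' (fun x => homOfLE (hVU x)) hcov r hcompat
    refine ⟨ρ, ?_⟩
    apply valM_ext
    intro y
    rw [valM_smul, valM_res, valM_gen]
    have h4 : gm W' y.1 y.2 ρ = gm (V y) y.1 (hxV y) (r y) := by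
      rw [← hρ y]
      exact (gm_resf (hVU y) y.1 (hxV y) ρ).symm
    rw [h4, hr, mul_assoc, γ_inv W g h1 hc, mul_one]

include hc in
theorem gen_transition (a b : X) :
    res (cocMod W hW g hc) inf_le_left (gen W hW g hc a) =
      g a b • res (cocMod W hW g hc) inf_le_right (gen W hW g hc b) := by
  apply valM_ext
  intro y
  rw [valM_smul, valM_res, valM_res, valM_gen, valM_gen]
  exact (γ_mul W g hc y.1 a b y.1 y.2.1 y.2.2 (hW y.1)).symm

include hW h1 hc in
/-- **the module of a cocycle** -/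
theorem exists_module_of_cocycle :
    ∃ (L : X.Modules) (e : ∀ x, Γ(L, W x)), (∀ x, IsGen L (W x) (e x)) ∧
      ∀ x y, res L inf_le_left (e x) = g x y • res L inf_le_right (e y) :=
  ⟨cocMod W hW g hc, gen W hW g hc, isGen_gen W hW g h1 hc, gen_transition W hW g hc⟩

end Groth.Agent.Lib.Helper8CocMod
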