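import Mathlib
import Groth.Agent.Lib.Helper8CocMod
import Groth.Agent.Lib.Helper20UFDPic
import Groth.Agent.Lib.Helper23SecTw6

/-!
# The invertible module attached to a unit cocycle on an arbitrary indexed open cover (helper8)

`exists_module_of_unit_cocycle`: for an open cover `(U i)` of a scheme and units `η i j` on
`U i ⊓ U j` with `η i k = η i j * η j k` on triple overlaps there is an invertible module `L` with
generators `s i` over `U i` such that `s i = η i j • s j` on `U i ⊓ U j`.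
-/

set_option autoImplicit false
universe u
open CategoryTheory Limits AlgebraicGeometry TopologicalSpace Opposite

namespace Groth.Agent.Lib.Helper8CocModIdx

open Groth.Agent.Lib.Helper6 Groth.Agent.Lib.Helper23.SecTw Groth.Agent.Lib.Helper8CocMod

variable {X : Scheme.{u}} {ι : Type*} (U : ι → X.Opens) (idx : X → ι) (hidx : ∀ x, x ∈ U (idx x))
  (η : ∀ i j, Γ(X, U i ⊓ U j))
  (hu : ∀ i j, IsUnit (η i j))
  (hη : ∀ i j k : ι,
      resf (inf_le_inf_right (U k) inf_le_left : U i ⊓ U j ⊓ U k ≤ U i ⊓ U k) (η i k) =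
        resf (inf_le_left : U i ⊓ U j ⊓ U k ≤ U i ⊓ U j) (η i j) *
          resf (inf_le_inf_right (U k) inf_le_right : U i ⊓ U j ⊓ U k ≤ U j ⊓ U k) (η j k))

include hη in
/-- germ-level cocycle -/
lemma germ_coc (y : X) (i j k : ι) (hi : y ∈ U i) (hj : y ∈ U j) (hk : y ∈ U k) :
    gm (U i ⊓ U j) y ⟨hi, hj⟩ (η i j) * gm (U j ⊓ U k) y ⟨hj, hk⟩ (η j k) =
      gm (U i ⊓ U k) y ⟨hi, hk⟩ (η i k) := by
  have h := congrArg (gm (U i ⊓ U j ⊓ U k) y ⟨⟨hi, hj⟩, hk⟩) (hη i j k)
  rw [map_mul, gm_resf, gm_resf, gm_resf] at h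
  exact h.symm

include hu hη in
lemma eta_self (i : ι) : η i i = 1 := by
  apply eq_of_gm_eq
  intro y hy
  have h := germ_coc U η hη y i i i hy.1 hy.1 hy.1
  have hu' : IsUnit (gm (U i ⊓ U i) y hy (η i i)) := (hu i i).map _
  rw [map_one]
  exact hu'.mul_left_cancel (by rw [mul_one]; exact h)

/-- the cover indexed by the points -/
abbrev Wx : X → X.Opens := fun x => U (idx x)

/-- the cocycle indexed by the points -/
abbrev gx : ∀ x y : X, Γ(X, Wx U idx x ⊓ Wx U idx y) := fun x y => η (idx x) (idx y)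

include hη in
lemma hcx : ∀ x y z : X, resf (inf_le_left : Wx U idx x ⊓ Wx U idx y ⊓ Wx U idx z ≤ Wx U idx x ⊓ Wx U idx y)
      (gx U idx η x y) *
      resf (le_inf (inf_le_left.trans inf_le_right) inf_le_right :
        Wx U idx x ⊓ Wx U idx y ⊓ Wx U idx z ≤ Wx U idx y ⊓ Wx U idx z) (gx U idx η y z) =
    resf (le_inf (inf_le_left.trans inf_le_left) inf_le_right :
      Wx U idx x ⊓ Wx U idx y ⊓ Wx U idx z ≤ Wx U idx x ⊓ Wx U idx z) (gx U idx η x z) :=
  fun x y z => (hη (idx x) (idx y) (idx z)).symm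

/-- the module -/
noncomputable abbrev modIdx : X.Modules :=
  cocMod (Wx U idx) hidx (gx U idx η) (hcx U idx η hη)

/-- the sections over the `U i` -/
noncomputable def secIdx (i : ι) : Γ(modIdx U idx hidx η hη, U i) :=
  mkSecM (Wx U idx) hidx (gx U idx η) (hcx U idx η hη)
    (fun y => gm (U i ⊓ U (idx y.1)) y.1 ⟨y.2, hidx y.1⟩ (η i (idx y.1))) (by
    intro x
    refine ⟨x.1, U i ⊓ U (idx x.1), ⟨x.2, hidx x.1⟩, inf_le_left, inf_le_right, η i (idx x.1), ?_⟩
    intro y hy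
    exact (germ_coc U η hη y i (idx x.1) (idx y) hy.1 hy.2 (hidx y)).symm)

lemma valM_secIdx (i : ι) (y : U i) :
    valM (Wx U idx) hidx (gx U idx η) (hcx U idx η hη) (secIdx U idx hidx η hη i) y =
      gm (U i ⊓ U (idx y.1)) y.1 ⟨y.2, hidx y.1⟩ (η i (idx y.1)) := rfl

theorem secIdx_transition (i j : ι) :
    res (modIdx U idx hidx η hη) inf_le_left (secIdx U idx hidx η hη i) =
      η i j • res (modIdx U idx hidx η hη) inf_le_right (secIdx U idx hidx η hη j) := by
  apply valM_ext (Wx U idx) hidx (gx U idx η) (hcx U idx η hη)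
  intro y
  rw [valM_smul, valM_res, valM_res, valM_secIdx, valM_secIdx]
  exact (germ_coc U η hη y.1 i j (idx y.1) y.2.1 y.2.2 (hidx y.1)).symm

theorem secIdx_gen (i : ι) (x : X) :
    res (modIdx U idx hidx η hη) (inf_le_left : U i ⊓ U (idx x) ≤ U i) (secIdx U idx hidx η hη i) =
      η i (idx x) • res (modIdx U idx hidx η hη) (inf_le_right : U i ⊓ U (idx x) ≤ U (idx x))
        (gen (Wx U idx) hidx (gx U idx η) (hcx U idx η hη) x) := by
  apply valM_ext (Wx U idx) hidx (gx U idx η) (hcx U idx η hη)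
  intro y
  rw [valM_smul, valM_res, valM_res, valM_secIdx, valM_gen]
  exact (germ_coc U η hη y.1 i (idx x) (idx y.1) y.2.1 y.2.2 (hidx y.1)).symm

include hu in
theorem isGen_secIdx (i : ι) :
    IsGen (modIdx U idx hidx η hη) (U i) (secIdx U idx hidx η hη i) := by
  apply Groth.Agent.Lib.Helper20.UFDPic.isGen_of_local
  intro x hx
  refine ⟨U i ⊓ U (idx x), inf_le_left, ⟨hx, hidx x⟩, ?_⟩
  rw [secIdx_gen]
  apply Groth.Agent.Lib.Helper20.UFDPic.isGen_unit_smul _ _ (hu i (idx x))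
  exact (isGen_gen (Wx U idx) hidx (gx U idx η)
    (fun y => eta_self U η hu hη (idx y)) (hcx U idx η hη) x).mono inf_le_right

omit idx hidx η hu hη in
/-- **the invertible module of a unit cocycle on an indexed cover** -/
theorem exists_module_of_unit_cocycle (hU : iSup U = ⊤) (η : ∀ i j, (Γ(X, U i ⊓ U j))ˣ)
    (hη : ∀ i j k : ι,
      resf (inf_le_inf_right (U k) inf_le_left : U i ⊓ U j ⊓ U k ≤ U i ⊓ U k)
          (η i k : Γ(X, U i ⊓ U k)) =
        resf (inf_le_left : U i ⊓ U j ⊓ U k ≤ U i ⊓ U j) (η i j : Γ(X, U i ⊓ U j)) *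
          resf (inf_le_inf_right (U k) inf_le_right : U i ⊓ U j ⊓ U k ≤ U j ⊓ U k)
            (η j k : Γ(X, U j ⊓ U k))) :
    ∃ (L : X.Modules) (s : ∀ i : ι, Γ(L, U i)), PicF.IsInvertible L ∧
      (∀ i, IsGen L (U i) (s i)) ∧
      ∀ i j : ι, res L inf_le_left (s i) = (η i j : Γ(X, U i ⊓ U j)) • res L inf_le_right (s j) := by
  have hcov : ∀ x : X, ∃ i, x ∈ U i := by
    intro x
    have hx : x ∈ iSup U := by rw [hU]; trivial
    exact Opens.mem_iSup.1 hx
  choose idx hidx using hcov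
  have hu : ∀ i j, IsUnit ((η i j : Γ(X, U i ⊓ U j))) := fun i j => (η i j).isUnit
  refine ⟨modIdx U idx hidx (fun i j => (η i j : Γ(X, U i ⊓ U j))) hη,
    secIdx U idx hidx (fun i j => (η i j : Γ(X, U i ⊓ U j))) hη, ?_, ?_, ?_⟩
  · apply isInvertible_of_isGen
    intro x
    exact ⟨U (idx x), _, hidx x, isGen_secIdx U idx hidx _ hu hη (idx x)⟩
  · exact isGen_secIdx U idx hidx _ hu hη
  · exact secIdx_transition U idx hidx _ hη

end Groth.Agent.Lib.Helper8CocModIdx
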