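/-
Helper library (helper8): a local subalgebra `D` of a strict henselization `S` of `A`, dominated by
`S`, essentially of finite type over `A` and with `m_A D = m_D`, is essentially étale over `A`.
-/
import Mathlib
import Groth.Prelude.Def_EssEt
import Groth.Prelude.Def_Hensel
import Groth.Agent.Lib.Helper3ShN

set_option autoImplicit false
universe u

namespace Groth.Agent.Lib.Helper8EssEtSub

open IsLocalRing Groth.Agent.Lib.Helper3.Sh Groth.Agent.Lib.Helper3.EssEt

variable {R : Type u} [CommRing R] [IsLocalRing R] {Ω : Type u} [Field Ω] [Algebra R Ω]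
  [Algebra (ResidueField R) Ω] [IsScalarTower R (ResidueField R) Ω]

theorem ofL_injective [IsSepClosure (ResidueField R) Ω] (i : Idx R Ω) :
    Function.Injective (ofL i) := by
  letI := (ofL i).toAlgebra
  haveI : IsLocalHom (algebraMap i.L (Rsh R Ω)) := inferInstanceAs (IsLocalHom (ofL i))
  haveI := flat_over_L i
  haveI : Module.FaithfullyFlat i.L (Rsh R Ω) := Module.FaithfullyFlat.of_flat_of_isLocalHom
  exact FaithfulSMul.algebraMap_injective i.L (Rsh R Ω)

/-- A local `R`-algebra map from an essentially étale local algebra `E'` (presented as `C_q`) to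
`Rsh R Ω` is injective. -/
theorem injective_of_isLocalHom [IsSepClosure (ResidueField R) Ω]
    (C : Type u) [CommRing C] [Algebra R C] [Algebra.Etale R C] (q : Ideal C) [q.IsPrime]
    (hq : q.comap (algebraMap R C) = maximalIdeal R)
    (χ : Localization.AtPrime q →ₐ[R] Rsh R Ω) [IsLocalHom χ.toRingHom] :
    Function.Injective χ := by
  have hEt : EGA4loc.IsEssentiallyEtale R (Localization.AtPrime q) :=
    ⟨C, inferInstance, inferInstance, q, inferInstance, inferInstance, hq, ⟨AlgEquiv.refl⟩⟩
  let β : ResidueField (Localization.AtPrime q) →ₐ[R] Ω := (embΩ (R := R) (Ω := Ω)).comp (resMap χ)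
  obtain ⟨i, e', he'⟩ := exists_idx (R := R) (Ω := Ω) (Localization.AtPrime q) C q hq
    AlgEquiv.refl β
  let χ' : Localization.AtPrime q →ₐ[R] Rsh R Ω := (ofLₐ i).comp e'.toAlgHom
  have hχ : χ = χ' := by
    apply algHom_ext_of_residue R (Localization.AtPrime q) (Rsh R Ω) hEt
    intro x
    have h1 : toΩ (χ' x) = toΩ (χ x) := by
      change toΩ (ofL i (e' x)) = _
      rw [toΩ_ofL, he']
      change embΩ (resMap χ (residue _ x)) = _
      rw [resMap_residue, embΩ_residue]
    have h2 : χ x - χ' x ∈ maximalIdeal (Rsh R Ω) := by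
      rw [← toΩ_eq_zero_iff, map_sub, h1, sub_self]
    rw [← residue_eq_zero_iff, map_sub, sub_eq_zero] at h2
    exact h2
  rw [hχ]
  exact (ofL_injective i).comp e'.injective

section Main

variable (A S : Type u) [CommRing A] [IsLocalRing A]
    [CommRing S] [IsLocalRing S] [Algebra A S] [IsLocalHom (algebraMap A S)]
    [hS : Hensel.IsStrictHenselization A S] (D : Subalgebra A S) [IsLocalRing D]
    [IsLocalHom (algebraMap D S)] [Algebra.EssFiniteType A D]

include hS in
theorem isEssentiallyEtale_of_map_maximalIdeal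
    (hm : Ideal.map (algebraMap A D) (maximalIdeal A) = maximalIdeal D) :
    EGA4loc.IsEssentiallyEtale A D := by
  classical
  let Ω := SeparableClosure (IsLocalRing.ResidueField A)
  letI : Algebra A Ω :=
    ((algebraMap (IsLocalRing.ResidueField A) Ω).comp (IsLocalRing.residue A)).toAlgebra
  haveI : IsScalarTower A (IsLocalRing.ResidueField A) Ω :=
    IsScalarTower.of_algebraMap_eq (fun _ => rfl)
  obtain ⟨σ⟩ := nonempty_algEquiv (R := A) (Ω := Ω) S
  -- (1) `A → D` is local
  haveI hAD : IsLocalHom (algebraMap A D) := by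
    constructor
    intro a ha
    have h1 : IsUnit (algebraMap D S (algebraMap A D a)) := ha.map _
    rw [← IsScalarTower.algebraMap_apply A D S] at h1
    exact isUnit_of_map_unit (algebraMap A S) a h1
  -- (2) separable residue field extension
  haveI hsepS : Algebra.IsSeparable (ResidueField A) (ResidueField S) :=
    (hS.isSepClosure).separable
  haveI : Algebra.IsSeparable (ResidueField A) (ResidueField D) :=
    Algebra.isSeparable_tower_bot_of_isSeparable (ResidueField A) (ResidueField D) (ResidueField S)
  -- (3) unramified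
  haveI hunr : Algebra.FormallyUnramified A D := Algebra.FormallyUnramified.of_map_maximalIdeal hm
  -- (4) a finite type model
  let B : Subalgebra A D := Algebra.EssFiniteType.subalgebra A D
  let Q : Ideal B := (maximalIdeal D).comap (algebraMap B D)
  haveI hQ : Q.IsPrime := Ideal.comap_isPrime _ _
  have hMQ : Algebra.EssFiniteType.submonoid A D = Q.primeCompl := by
    ext b
    change IsUnit (algebraMap B D b) ↔ ¬ (algebraMap B D b ∈ maximalIdeal D)
    rw [mem_maximalIdeal, mem_nonunits_iff, not_not]
  haveI hlocD : IsLocalization Q.primeCompl D := by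
    rw [← hMQ]; exact Algebra.EssFiniteType.isLocalization A D
  let eQ : Localization.AtPrime Q ≃ₐ[B] D := IsLocalization.algEquiv Q.primeCompl _ _
  haveI : Algebra.IsUnramifiedAt A Q :=
    Algebra.FormallyUnramified.of_equiv (eQ.restrictScalars A).symm
  -- (5) local structure of unramified algebras
  obtain ⟨f, hfQ, P, φ, hφ⟩ :=
    Algebra.IsUnramifiedAt.exists_hasStandardEtaleSurjectionOn (R := A) Q
  have hfu : IsUnit (algebraMap B D f) := by
    by_contra h
    exact hfQ (show algebraMap B D f ∈ maximalIdeal D from h)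
  -- (6) the maps
  let θ : Localization.Away f →ₐ[A] D :=
    IsLocalization.liftAlgHom (M := Submonoid.powers f) (f := IsScalarTower.toAlgHom A B D)
      (fun y => by
        obtain ⟨n, hn⟩ := y.2
        change IsUnit (algebraMap B D y)
        rw [← hn, map_pow]
        exact hfu.pow n)
  have hθ : ∀ b : B, θ (algebraMap B (Localization.Away f) b) = algebraMap B D b := fun b =>
    IsLocalization.lift_eq _ b
  let ρ : P.Ring →ₐ[A] D := θ.comp φ
  have hρ : ∀ b : B, ∃ p : P.Ring, ρ p = algebraMap B D b := by
    intro b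
    obtain ⟨p, hp⟩ := hφ (algebraMap B _ b)
    exact ⟨p, by change θ (φ p) = _; rw [hp, hθ]⟩
  let q' : Ideal P.Ring := (maximalIdeal D).comap ρ.toRingHom
  haveI hq' : q'.IsPrime := Ideal.comap_isPrime _ _
  have hq'mem : ∀ p : P.Ring, p ∈ q' ↔ ¬ IsUnit (ρ p) := fun p => Iff.rfl
  let ψ : Localization.AtPrime q' →ₐ[A] D :=
    IsLocalization.liftAlgHom (M := q'.primeCompl) (f := ρ)
      (fun y => by
        have := y.2
        by_contra h
        exact this ((hq'mem _).mpr h))
  have hψ : ∀ p : P.Ring, ψ (algebraMap P.Ring (Localization.AtPrime q') p) = ρ p := fun p =>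
    IsLocalization.lift_eq _ p
  have hψsurj : Function.Surjective ψ := by
    intro d
    obtain ⟨⟨b, u⟩, hbu⟩ := IsLocalization.surj Q.primeCompl d
    dsimp only at hbu
    obtain ⟨pb, hpb⟩ := hρ b
    obtain ⟨pu, hpu⟩ := hρ u
    have huu : IsUnit (algebraMap B D u) := by
      by_contra h
      exact u.2 (show algebraMap B D u ∈ maximalIdeal D from h)
    have hpu' : pu ∈ q'.primeCompl := by
      intro h
      have h' := (hq'mem pu).mp h
      rw [hpu] at h'
      exact h' huu
    refine ⟨IsLocalization.mk' _ pb ⟨pu, hpu'⟩, ?_⟩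
    have h1 : ψ (IsLocalization.mk' (Localization.AtPrime q') pb ⟨pu, hpu'⟩) * ρ pu = ρ pb := by
      rw [← hψ pu, ← map_mul]
      have := IsLocalization.mk'_spec (Localization.AtPrime q') pb ⟨pu, hpu'⟩
      rw [this, hψ]
    rw [hpu, hpb, ← hbu] at h1
    exact huu.mul_left_injective h1
  -- (7) `q'` lies over the maximal ideal of `A`
  have hcomap : q'.comap (algebraMap A P.Ring) = maximalIdeal A := by
    ext a
    rw [Ideal.mem_comap, hq'mem, AlgHom.commutes, mem_maximalIdeal, mem_nonunits_iff]
    constructor
    · intro h h'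
      exact h (h'.map _)
    · intro h h'
      exact h (isUnit_of_map_unit (algebraMap A D) a h')
  haveI hψloc : IsLocalHom ψ.toRingHom := IsLocalHom.of_surjective ψ.toRingHom hψsurj
  let χ : Localization.AtPrime q' →ₐ[A] Rsh A Ω := (σ : S →ₐ[A] Rsh A Ω).comp (D.val.comp ψ)
  haveI hχloc : IsLocalHom χ.toRingHom := by
    constructor
    intro x hx
    have h1 : IsUnit (σ.symm (χ x)) := hx.map σ.symm
    have h2 : σ.symm (χ x) = algebraMap D S (ψ x) := σ.symm_apply_apply _
    rw [h2] at h1
    have h3 : IsUnit (ψ x) := isUnit_of_map_unit (algebraMap D S) _ h1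
    exact isUnit_of_map_unit ψ.toRingHom x h3
  have hχinj : Function.Injective χ := injective_of_isLocalHom (R := A) (Ω := Ω) P.Ring q' hcomap χ
  have hψinj : Function.Injective ψ := by
    intro x y hxy
    apply hχinj
    change σ (D.val (ψ x)) = σ (D.val (ψ y))
    rw [hxy]
  let eD : Localization.AtPrime q' ≃ₐ[A] D := AlgEquiv.ofBijective ψ ⟨hψinj, hψsurj⟩
  exact ⟨P.Ring, inferInstance, inferInstance, q', inferInstance, inferInstance, hcomap, ⟨eD.symm⟩⟩

end Main

end Groth.Agent.Lib.Helper8EssEtSub
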