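/-
Helper library (helper8): essentially étale local algebras over a complete local ring `A` come from
finite étale algebras over a henselian "coefficient" ring `R → A` with the same residue field.
-/
import Mathlib
import Groth.Prelude.Def_EssEt
import Groth.Agent.S0505
import Groth.Agent.Lib.Helper24LocEt
import Groth.Agent.Lib.Helper3HenselK
import Groth.Agent.Lib.Helper8EssEtSub

set_option autoImplicit false
universe u

namespace Groth.Agent.Lib.Helper8CoefEt

open IsLocalRing TensorProduct

section LocalTensor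

variable (R A S : Type u) [CommRing R] [IsLocalRing R] [CommRing A] [IsLocalRing A] [Algebra R A]
  [IsLocalHom (algebraMap R A)]
  [CommRing S] [IsLocalRing S] [Algebra R S] [IsLocalHom (algebraMap R S)]

/-- every element of `A ⊗ S` is congruent to some `1 ⊗ s` modulo `m_A` -/
theorem exists_one_tmul (hres : Function.Surjective (ResidueField.map (algebraMap R A)))
    (b : A ⊗[R] S) :
    ∃ s : S, b - 1 ⊗ₜ s ∈ (maximalIdeal A).map (algebraMap A (A ⊗[R] S)) := by
  induction b using TensorProduct.induction_on with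
  | zero => exact ⟨0, by simp⟩
  | tmul a s =>
    obtain ⟨y, hy⟩ := hres (residue A a)
    obtain ⟨r, rfl⟩ := residue_surjective y
    rw [ResidueField.map_residue] at hy
    have hmem : a - algebraMap R A r ∈ maximalIdeal A := by
      rw [← residue_eq_zero_iff, map_sub, hy, sub_self]
    refine ⟨r • s, ?_⟩
    have h1 : a ⊗ₜ[R] s - (1 : A) ⊗ₜ[R] (r • s) =
        algebraMap A (A ⊗[R] S) (a - algebraMap R A r) * ((1 : A) ⊗ₜ[R] s) := by
      rw [Algebra.TensorProduct.algebraMap_apply, Algebra.TensorProduct.tmul_mul_tmul, one_mul,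
        Algebra.algebraMap_self, RingHom.id_apply, mul_one, TensorProduct.sub_tmul,
        ← TensorProduct.smul_tmul, Algebra.smul_def, mul_one]
    rw [h1]
    exact Ideal.mul_mem_right _ _ (Ideal.mem_map_of_mem _ hmem)
  | add x y hx hy =>
    obtain ⟨s, hs⟩ := hx
    obtain ⟨t, ht⟩ := hy
    refine ⟨s + t, ?_⟩
    have : x + y - (1 : A) ⊗ₜ[R] (s + t) = (x - 1 ⊗ₜ s) + (y - 1 ⊗ₜ t) := by
      rw [TensorProduct.tmul_add]; ring
    rw [this]
    exact Ideal.add_mem _ hs ht

variable [Module.Finite R S] [Module.Flat R S]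

/-- `A ⊗_R S` is local with maximal ideal `m_A (A ⊗_R S)` when `S` is finite flat local over `R`
with `m_R S = m_S` and `κ(R) → κ(A)` is surjective. -/
theorem tensor_local (hres : Function.Surjective (ResidueField.map (algebraMap R A)))
    (hmS : (maximalIdeal R).map (algebraMap R S) = maximalIdeal S) :
    ∃ _ : IsLocalRing (A ⊗[R] S),
      (maximalIdeal A).map (algebraMap A (A ⊗[R] S)) = maximalIdeal (A ⊗[R] S) ∧
        ∀ s ∈ maximalIdeal S, (1 : A) ⊗ₜ[R] s ∈ maximalIdeal (A ⊗[R] S) := by
  haveI : Module.FaithfullyFlat R S := Module.FaithfullyFlat.of_flat_of_isLocalHom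
  haveI : Nontrivial (A ⊗[R] S) := Module.FaithfullyFlat.rTensor_nontrivial R S A
  haveI : Algebra.IsIntegral A (A ⊗[R] S) := Algebra.IsIntegral.of_finite A _
  set M : Ideal (A ⊗[R] S) := (maximalIdeal A).map (algebraMap A (A ⊗[R] S)) with hM
  have hle : ∀ N : Ideal (A ⊗[R] S), N.IsMaximal → M ≤ N := by
    intro N hN
    have h1 : (N.comap (algebraMap A (A ⊗[R] S))).IsMaximal :=
      Ideal.isMaximal_comap_of_isIntegral_of_isMaximal N
    have h2 : N.comap (algebraMap A (A ⊗[R] S)) = maximalIdeal A := IsLocalRing.eq_maximalIdeal h1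
    rw [hM, Ideal.map_le_iff_le_comap, h2]
  have hMtop : M ≠ ⊤ := by
    obtain ⟨N, hN⟩ := Ideal.exists_maximal (A ⊗[R] S)
    exact fun h => hN.ne_top (top_le_iff.mp (h ▸ hle N hN))
  -- `1 ⊗ m_S ⊆ M`
  have hmSM : ∀ s ∈ maximalIdeal S, (1 : A) ⊗ₜ[R] s ∈ M := by
    intro s hs
    rw [← hmS] at hs
    have h1 : (Algebra.TensorProduct.includeRight : S →ₐ[R] A ⊗[R] S) s ∈
        ((maximalIdeal R).map (algebraMap R S)).map
          (Algebra.TensorProduct.includeRight : S →ₐ[R] A ⊗[R] S).toRingHom :=
      Ideal.mem_map_of_mem _ hs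
    rw [Ideal.map_map] at h1
    have h2 : (Algebra.TensorProduct.includeRight : S →ₐ[R] A ⊗[R] S).toRingHom.comp
        (algebraMap R S) = (algebraMap A (A ⊗[R] S)).comp (algebraMap R A) := by
      ext r
      simp [Algebra.TensorProduct.algebraMap_apply]
    rw [h2, ← Ideal.map_map] at h1
    have h3 : (maximalIdeal R).map (algebraMap R A) ≤ maximalIdeal A :=
      ((local_hom_TFAE (algebraMap R A)).out 0 2 rfl rfl).mp inferInstance
    exact Ideal.map_mono h3 h1
  have hfield : IsField ((A ⊗[R] S) ⧸ M) := by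
    refine ⟨⟨0, 1, ?_⟩, mul_comm, ?_⟩
    · intro h
      exact hMtop ((Ideal.eq_top_iff_one M).mpr (Ideal.Quotient.eq_zero_iff_mem.mp h.symm))
    · intro x hx
      obtain ⟨b, rfl⟩ := Ideal.Quotient.mk_surjective x
      obtain ⟨s, hs⟩ := exists_one_tmul R A S hres b
      have hbs : Ideal.Quotient.mk M b = Ideal.Quotient.mk M ((1 : A) ⊗ₜ[R] s) :=
        Ideal.Quotient.eq.mpr hs
      have hsu : IsUnit s := by
        by_contra hns
        apply hx
        rw [hbs]
        exact Ideal.Quotient.eq_zero_iff_mem.mpr (hmSM s hns)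
      obtain ⟨s', hs'⟩ := isUnit_iff_exists_inv.mp hsu
      refine ⟨Ideal.Quotient.mk M ((1 : A) ⊗ₜ[R] s'), ?_⟩
      rw [hbs, ← map_mul, Algebra.TensorProduct.tmul_mul_tmul, one_mul, hs']
      rfl
  have hMmax : M.IsMaximal := Ideal.Quotient.maximal_of_isField M hfield
  have huniq : ∀ N : Ideal (A ⊗[R] S), N.IsMaximal → N = M := fun N hN =>
    (hMmax.eq_of_le hN.ne_top (hle N hN)).symm
  haveI hloc : IsLocalRing (A ⊗[R] S) := IsLocalRing.of_unique_max_ideal ⟨M, hMmax, huniq⟩
  have hMeq : M = maximalIdeal (A ⊗[R] S) := IsLocalRing.eq_maximalIdeal hMmax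
  exact ⟨hloc, hMeq, fun s hs => hMeq ▸ hmSM s hs⟩

end LocalTensor

section Main

open Groth.Agent.Lib.Helper3.Sh Groth.Agent.Lib.Helper3.EssEt

variable (R A E : Type u) [CommRing R] [HenselianLocalRing R]
    [CommRing A] [IsLocalRing A] [IsAdicComplete (maximalIdeal A) A]
    [Algebra R A] [IsLocalHom (algebraMap R A)]
    [CommRing E] [IsLocalRing E] [Algebra A E] [IsLocalHom (algebraMap A E)]

set_option maxHeartbeats 1000000 in
theorem main (hres : Function.Bijective (ResidueField.map (algebraMap R A)))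
    (hE : EGA4loc.IsEssentiallyEtale A E) :
    ∃ (S : Type u) (_ : CommRing S) (_ : IsLocalRing S) (_ : Algebra R S),
      Module.Finite R S ∧ Algebra.Etale R S ∧ Nonempty (E ≃ₐ[A] A ⊗[R] S) := by
  classical
  haveI hAhens : HenselianLocalRing A :=
    { is_henselian := fun f hf a₀ h₁ h₂ =>
        (inferInstance : HenselianRing A (maximalIdeal A)).is_henselian f hf a₀ h₁
          (h₂.map (Ideal.Quotient.mk (maximalIdeal A))) }
  letI algRE : Algebra R E := ((algebraMap A E).comp (algebraMap R A)).toAlgebra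
  haveI : IsScalarTower R A E := IsScalarTower.of_algebraMap_eq (fun _ => rfl)
  haveI : IsLocalHom (algebraMap R E) :=
    RingHom.isLocalHom_comp (algebraMap A E) (algebraMap R A)
  haveI : Algebra.EssFiniteType A E := essFiniteType_of_isEssentiallyEtale A E hE
  haveI : Algebra.FormallyEtale A E := formallyEtale_of_isEssentiallyEtale A E hE
  -- residue field extension
  have hsurjRA : Function.Surjective (algebraMap (ResidueField R) (ResidueField A)) := by
    intro x
    obtain ⟨y, hy⟩ := hres.2 x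
    obtain ⟨r, rfl⟩ := residue_surjective y
    exact ⟨residue R r, by rw [← hy, ResidueField.map_residue]; rfl⟩
  haveI : Module.Finite (ResidueField R) (ResidueField A) :=
    Module.Finite.of_surjective (Algebra.linearMap _ _) hsurjRA
  haveI : Module.Finite (ResidueField A) (ResidueField E) := inferInstance
  haveI : Module.Finite (ResidueField R) (ResidueField E) :=
    Module.Finite.trans (ResidueField A) _
  haveI : Algebra.IsSeparable (ResidueField R) (ResidueField A) :=
    ⟨fun x => by obtain ⟨y, rfl⟩ := hsurjRA x; exact isSeparable_algebraMap y⟩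
  haveI : Algebra.IsSeparable (ResidueField A) (ResidueField E) := inferInstance
  haveI : Algebra.IsSeparable (ResidueField R) (ResidueField E) :=
    Algebra.IsSeparable.trans (ResidueField R) (ResidueField A) (ResidueField E)
  obtain ⟨S, hS1, hS2, hS3, hSloc, hSfin, hSet, ⟨eS⟩⟩ :=
    Groth.Agent.Lib.Helper24LocEt.exists_local_finite_etale R (ResidueField E)
  refine ⟨S, hS1, hS2, hS3, hSfin, hSet, ?_⟩
  haveI := hSloc
  haveI := hSfin
  haveI := hSet
  haveI : Module.Flat R S := inferInstance
  have hmS : (maximalIdeal R).map (algebraMap R S) = maximalIdeal S :=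
    Algebra.FormallyUnramified.map_maximalIdeal
  obtain ⟨hBloc, hmB, hmSB⟩ := tensor_local R A S hres.2 hmS
  haveI := hBloc
  haveI : Module.Finite A (A ⊗[R] S) := inferInstance
  haveI : HenselianLocalRing (A ⊗[R] S) := Groth.Agent.S0505.result A (A ⊗[R] S)
  haveI : IsLocalHom (algebraMap A (A ⊗[R] S)) := Groth.Agent.Lib.Helper3.Hensel.isLocalHom_of_finite
  -- the map `S → A ⊗ S` is local
  let ιS : S →+* A ⊗[R] S := (Algebra.TensorProduct.includeRight : S →ₐ[R] A ⊗[R] S).toRingHom
  have hιS : ∀ s : S, ιS s = (1 : A) ⊗ₜ[R] s := fun s => rfl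
  haveI hιSloc : IsLocalHom ιS := by
    constructor
    intro s hs
    by_contra hns
    have : ιS s ∈ maximalIdeal (A ⊗[R] S) := hmSB s hns
    exact this hs
  let α : ResidueField E →+* ResidueField (A ⊗[R] S) :=
    (ResidueField.map ιS).comp (eS.symm : ResidueField E →+* ResidueField S)
  have hα : α.comp (ResidueField.map (algebraMap A E)) =
      ResidueField.map (algebraMap A (A ⊗[R] S)) := by
    ext x
    obtain ⟨a, rfl⟩ := residue_surjective x
    obtain ⟨y, hy⟩ := hres.2 (residue A a)
    obtain ⟨r, rfl⟩ := residue_surjective y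
    rw [ResidueField.map_residue] at hy
    rw [← hy, RingHom.comp_apply, ResidueField.map_residue, ResidueField.map_residue]
    have h1 : residue E (algebraMap A E (algebraMap R A r)) =
        algebraMap (ResidueField R) (ResidueField E) (residue R r) := rfl
    rw [h1]
    change ResidueField.map ιS (eS.symm (algebraMap (ResidueField R) (ResidueField E)
      (residue R r))) = _
    rw [eS.symm.commutes]
    have h2 : algebraMap (ResidueField R) (ResidueField S) (residue R r) =
        residue S (algebraMap R S r) := rfl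
    have h3 : (1 : A) ⊗ₜ[R] (algebraMap R S r) =
        algebraMap A (A ⊗[R] S) (algebraMap R A r) := by
      rw [← IsScalarTower.algebraMap_apply R A (A ⊗[R] S)]
      exact (Algebra.TensorProduct.includeRight : S →ₐ[R] A ⊗[R] S).commutes r
    rw [h2, ResidueField.map_residue, hιS, h3]
  obtain ⟨ψ', ⟨hψloc, hψcomp, hψres⟩, -⟩ :=
    existsUnique_lift A E hE (A ⊗[R] S) (algebraMap A (A ⊗[R] S)) α hα
  let ψ : E →ₐ[A] A ⊗[R] S := { ψ' with commutes' := fun a => congrArg (fun f => f a) hψcomp }
  have hψ : ∀ x, ψ x = ψ' x := fun x => rfl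
  -- surjectivity by Nakayama
  have hψsurj : Function.Surjective ψ := by
    have hNak : (⊤ : Submodule A (A ⊗[R] S)) ≤ LinearMap.range ψ.toLinearMap := by
      apply Submodule.le_of_le_smul_of_le_jacobson_bot (I := maximalIdeal A)
        (Module.Finite.fg_top) (IsLocalRing.maximalIdeal_le_jacobson _)
      intro b _
      obtain ⟨s, hs⟩ := exists_one_tmul R A S hres.2 b
      obtain ⟨e₀, he₀⟩ := residue_surjective (eS (residue S s))
      have h1 : residue (A ⊗[R] S) (ψ e₀) = residue (A ⊗[R] S) ((1 : A) ⊗ₜ[R] s) := by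
        rw [hψ, hψres, he₀]
        change ResidueField.map ιS (eS.symm (eS (residue S s))) = _
        rw [eS.symm_apply_apply, ResidueField.map_residue, hιS]
      have h2 : (1 : A) ⊗ₜ[R] s - ψ e₀ ∈ maximalIdeal (A ⊗[R] S) := by
        rw [← residue_eq_zero_iff, map_sub, h1, sub_self]
      have h3 : b - ψ e₀ ∈ maximalIdeal (A ⊗[R] S) := by
        have : b - ψ e₀ = (b - 1 ⊗ₜ s) + ((1 : A) ⊗ₜ[R] s - ψ e₀) := by ring
        rw [this]
        exact Ideal.add_mem _ (hmB ▸ hs) h2
      rw [← hmB] at h3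
      have h4 : b - ψ e₀ ∈ (maximalIdeal A • ⊤ : Submodule A (A ⊗[R] S)) := by
        rw [Ideal.smul_top_eq_map]
        exact h3
      have : b = ψ e₀ + (b - ψ e₀) := by ring
      rw [this]
      exact Submodule.add_mem_sup (LinearMap.mem_range_self _ e₀) h4
    intro b
    exact hNak (Submodule.mem_top (x := b))
  -- injectivity via the strict henselization
  have hψinj : Function.Injective ψ := by
    let Ω := SeparableClosure (IsLocalRing.ResidueField A)
    letI : Algebra A Ω :=
      ((algebraMap (IsLocalRing.ResidueField A) Ω).comp (IsLocalRing.residue A)).toAlgebra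
    haveI : IsScalarTower A (IsLocalRing.ResidueField A) Ω :=
      IsScalarTower.of_algebraMap_eq (fun _ => rfl)
    haveI : Algebra.IsSeparable (ResidueField A) (ResidueField (A ⊗[R] S)) := inferInstance
    haveI : IsSepClosed Ω := IsSepClosure.sep_closed (ResidueField A)
    let β₀ : ResidueField (A ⊗[R] S) →ₐ[ResidueField A] Ω := IsSepClosed.lift
    let β : ResidueField (A ⊗[R] S) →ₐ[A] Ω := β₀.restrictScalars A
    have hunits : (maximalIdeal (A ⊗[R] S)).primeCompl ≤ IsUnit.submonoid (A ⊗[R] S) := by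
      intro x hx
      by_contra hx'
      exact hx hx'
    let eB₀ : (A ⊗[R] S) ≃ₐ[A ⊗[R] S] Localization.AtPrime (maximalIdeal (A ⊗[R] S)) :=
      IsLocalization.atUnits (A ⊗[R] S) (maximalIdeal (A ⊗[R] S)).primeCompl hunits
    let eB : (A ⊗[R] S) ≃ₐ[A] Localization.AtPrime (maximalIdeal (A ⊗[R] S)) :=
      eB₀.restrictScalars A
    have hcomapB : (maximalIdeal (A ⊗[R] S)).comap (algebraMap A (A ⊗[R] S)) = maximalIdeal A :=
      ((local_hom_TFAE (algebraMap A (A ⊗[R] S))).out 0 4 rfl rfl).mp inferInstance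
    obtain ⟨i, e', -⟩ := exists_idx (R := A) (Ω := Ω) (A ⊗[R] S) (A ⊗[R] S)
      (maximalIdeal (A ⊗[R] S)) hcomapB eB β
    obtain ⟨C, _, _, q, _, hC, hq, ⟨e⟩⟩ := hE
    haveI := hC
    let χ : Localization.AtPrime q →ₐ[A] Rsh A Ω :=
      (ofLₐ i).comp (e'.toAlgHom.comp (ψ.comp e.symm.toAlgHom))
    have hχ : ∀ x, χ x = ofL i (e' (ψ (e.symm x))) := fun x => rfl
    haveI : IsLocalHom χ.toRingHom := by
      constructor
      intro x hx
      have h1 : IsUnit (ofL i (e' (ψ (e.symm x)))) := hx
      have h2 : IsUnit (e' (ψ (e.symm x))) := isUnit_ofL_iff.mp h1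
      have h3 : IsUnit (ψ (e.symm x)) := by
        have := h2.map e'.symm
        rwa [AlgEquiv.symm_apply_apply] at this
      have h4 : IsUnit (e.symm x) := by
        have : IsUnit (ψ' (e.symm x)) := h3
        exact isUnit_of_map_unit ψ' _ this
      have := h4.map e
      rwa [AlgEquiv.apply_symm_apply] at this
    have hχinj := Groth.Agent.Lib.Helper8EssEtSub.injective_of_isLocalHom (R := A) (Ω := Ω) C q hq χ
    intro y₁ y₂ hy
    have : χ (e y₁) = χ (e y₂) := by
      rw [hχ, hχ, AlgEquiv.symm_apply_apply, AlgEquiv.symm_apply_apply, hy]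
    exact e.injective (hχinj this)
  exact ⟨AlgEquiv.ofBijective ψ ⟨hψinj, hψsurj⟩⟩

end Main

end Groth.Agent.Lib.Helper8CoefEt
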