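import Mathlib
import Groth.Prelude
import Groth.Agent.Lib.H6xFtCohB

/-!
# Cohomological dimension from the vanishing of negative twists (helper8)

* `subsingleton_HH_of_neg_vanishing`: if `L` is ample with inverse `L'` and `H^p(X, L'^n) = 0` for all `p > r`
  and `n ≥ n₀`, then `H^p(X, G) = 0` for every quasi-coherent `G` and every `p > r`.
  (The case `r = 0` is `H6xFtCoh.isAffine_of_vanishing`.)
-/

set_option autoImplicit false
universe u
open CategoryTheory CategoryTheory.Limits AlgebraicGeometry TopologicalSpace Opposite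

namespace Groth.Agent.Lib.Helper8CohDimNeg

open Groth.Agent.Lib.R2H2.HHLin Groth.Agent.Lib.R2H2.PnSerre Groth.Agent.Lib.H6xFtCoh

theorem subsingleton_HH_of_neg_vanishing (X : Scheme.{u}) (L L' : X.Modules) (hL : CohB1.IsAmple L)
    (hinv : Nonempty (CohB1.tensorMod L L' ≅ Coh.structureModule X)) (r n₀ : ℕ)
    (h : ∀ n : ℕ, n₀ ≤ n → ∀ p : ℕ, r < p → Subsingleton (Coh.HH X (CohB1.tensorPow L' n) p))
    (G : X.Modules) (hG : G.IsQuasicoherent) (p : ℕ) (hp : r < p) :
    Subsingleton (Coh.HH X G p) := by
  obtain ⟨e⟩ := hinv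
  haveI : CompactSpace X := hL.2.1
  haveI : X.IsSeparated := Groth.Agent.Lib.Helper23.SecTw.isSeparated_of_isAmple L hL
  haveI : QuasiSeparatedSpace X := Groth.Agent.Lib.Helper23.SecTw.quasiSeparatedSpace_of_isAmple L hL
  obtain ⟨ι, hfin, U, hcov, hU⟩ := exists_cover X
  haveI := hfin
  obtain ⟨d, hd⟩ := Groth.Agent.S0016.result X
  have hL' : PicF.IsInvertible L' := isInvertible_of_inverse L L' e
  have key : ∀ (k p : ℕ), r < p → d ≤ p + k → ∀ G : X.Modules, G.IsQuasicoherent →
      Subsingleton (Coh.HH X G p) := by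
    intro k
    induction k with
    | zero =>
      intro p _ hp G hG
      exact hd G hG p (by omega)
    | succ k ih =>
      intro p hp0 hp G hG
      refine subsingleton_HH_of_ft U hcov hU p (fun F hFq hFf => ?_) G hG
      obtain ⟨n, s, π, hn, hπ⟩ := exists_epi_twR_freeMod L L' hL e n₀ F hFq hFf
      haveI := hπ
      have hN : PicF.IsInvertible (CohB1.tensorPow L' n) :=
        Groth.Agent.Lib.Helper23.SecTw.isInvertible_tensorPow hL' _
      haveI : ((twR (CohB1.tensorPow L' n)).obj (FlatMod.freeMod X s)).IsQuasicoherent :=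
        isQuasicoherent_twR_freeMod _ hN s
      haveI := hFq
      let S : ShortComplex X.Modules := ShortComplex.mk (kernel.ι π) π (kernel.condition π)
      have hS : S.ShortExact := Groth.Agent.Lib.Helper17.Res.kernel_shortExact π
      have hK : (kernel π).IsQuasicoherent :=
        Groth.Agent.Lib.Helper23.QCohLocal.isQuasicoherent_kernel π
      have h1 : Subsingleton (Coh.HH X S.X₁ (p + 1)) := ih (p + 1) (by omega) (by omega) _ hK
      have h2 : Subsingleton (Coh.HH X S.X₂ p) :=
        subsingleton_HH_twR_freeMod _ s p (h n hn p hp0)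
      refine subsingleton_of_forall_eq 0 fun x => ?_
      obtain ⟨y, hy⟩ := exact₃ S hS p x (Subsingleton.elim _ _)
      rw [← hy, Subsingleton.elim y 0, map_zero]
  exact key d p hp (by omega) G hG

end Groth.Agent.Lib.Helper8CohDimNeg
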