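import Mathlib

/-!
# The connecting map `Hom(Z, X₃) → Ext¹(Z, X₁)` of a short exact sequence with injective middle term
(helper8)

`δhom S hS Z : (Z ⟶ S.X₃) →+ Ext Z S.X₁ 1` is surjective when `S.X₂` is injective, and its kernel
consists of the maps that lift to `S.X₂`.  `exists_delta` transports this along identifications of
the Hom groups (for instance with groups of global sections).
-/

set_option autoImplicit false
universe w' v u
open CategoryTheory Abelian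

namespace Groth.Agent.Lib.Helper8ExtDelta

variable {C : Type u} [Category.{v} C] [Abelian C] [HasExt.{w'} C]
  (S : ShortComplex C) (hS : S.ShortExact) (Z : C)

/-- the connecting homomorphism -/
noncomputable def δhom : (Z ⟶ S.X₃) →+ Ext.{w'} Z S.X₁ 1 :=
  (hS.extClass.postcomp Z (zero_add 1)).comp
    (Ext.addEquiv₀ (X := Z) (Y := S.X₃)).symm.toAddMonoidHom

lemma δhom_apply (b : Z ⟶ S.X₃) :
    δhom S hS Z b = (Ext.mk₀ b).comp hS.extClass (zero_add 1) := rfl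

theorem δhom_surjective [Injective S.X₂] : Function.Surjective (δhom S hS Z) := by
  intro x₁
  have h0 : x₁.comp (Ext.mk₀ S.f) (add_zero 1) = 0 := Ext.eq_zero_of_injective _
  obtain ⟨x₃, hx₃⟩ := Ext.covariant_sequence_exact₁ Z hS x₁ h0 (zero_add 1)
  obtain ⟨b, rfl⟩ := (Ext.mk₀_bijective _ _).2 x₃
  exact ⟨b, hx₃⟩

theorem δhom_eq_zero_iff (b : Z ⟶ S.X₃) :
    δhom S hS Z b = 0 ↔ ∃ a : Z ⟶ S.X₂, a ≫ S.g = b := by
  constructor
  · intro h
    obtain ⟨x₂, hx₂⟩ := Ext.covariant_sequence_exact₃ Z hS (Ext.mk₀ b) (zero_add 1) h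
    obtain ⟨a, rfl⟩ := (Ext.mk₀_bijective _ _).2 x₂
    rw [Ext.mk₀_comp_mk₀] at hx₂
    exact ⟨a, (Ext.mk₀_bijective _ _).1 hx₂⟩
  · rintro ⟨a, rfl⟩
    rw [δhom_apply, ← Ext.mk₀_comp_mk₀, Ext.comp_assoc_of_second_deg_zero, hS.comp_extClass,
      Ext.comp_zero]

include hS in
/-- the connecting map in terms of identifications of the Hom groups -/
theorem exists_delta [Injective S.X₂] {A₂ A₃ : Type*} [AddCommGroup A₃]
    (g' : A₂ → A₃) (s₂ : (Z ⟶ S.X₂) ≃ A₂) (s₃ : (Z ⟶ S.X₃) ≃+ A₃)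
    (hnat : ∀ a, s₃ (a ≫ S.g) = g' (s₂ a)) :
    ∃ δ : A₃ →+ Ext.{w'} Z S.X₁ 1, Function.Surjective δ ∧ ∀ q, δ q = 0 ↔ ∃ e, g' e = q := by
  refine ⟨(δhom S hS Z).comp s₃.symm.toAddMonoidHom, ?_, ?_⟩
  · exact (δhom_surjective S hS Z).comp s₃.symm.surjective
  · intro q
    change δhom S hS Z (s₃.symm q) = 0 ↔ _
    rw [δhom_eq_zero_iff]
    constructor
    · rintro ⟨a, ha⟩
      refine ⟨s₂ a, ?_⟩
      rw [← hnat, ha, AddEquiv.apply_symm_apply]
    · rintro ⟨e, rfl⟩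
      refine ⟨s₂.symm e, ?_⟩
      apply s₃.injective
      rw [hnat, Equiv.apply_symm_apply, AddEquiv.apply_symm_apply]

end Groth.Agent.Lib.Helper8ExtDelta
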