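import Mathlib

/-!
# Čech-type arguments for abelian sheaves on a topological space, universe generic (helper8)

Universe-generic version of `Helper8ZarCech` (values in `AddCommGrpCat.{max u w}`), with the two
halves of the argument separated:
* `exists_cochain`: for `f : G ⟶ I` with `I` injective, every Čech 1-cocycle `c` of `G` on a cover
  indexed by points is `f (c x y) = t x - t y` for a 0-cochain `t` of `I`;
* `exists_section_of_cochain`: the images of such `t x` in `Q` glue to a global section;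
* `exists_global_lift_of_coboundary`: local lifts of a global section of `Q` whose difference cocycle
  is a coboundary of `G` can be corrected to a global lift.
-/

set_option autoImplicit false
universe u w
open CategoryTheory CategoryTheory.Limits TopologicalSpace Opposite TopCat

namespace Groth.Agent.Lib.Helper8ZarCech2

variable {T : TopCat.{u}}

/-- abelian sheaves on `T` with values in `AddCommGrpCat.{max u w}` -/
abbrev Sh (T : TopCat.{u}) := TopCat.Sheaf AddCommGrpCat.{max u w} T

/-- restriction of sections -/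
noncomputable abbrev rs (F : Sh.{u, w} T) {U V : Opens T} (h : V ≤ U) (s : F.1.obj (op U)) : F.1.obj (op V) :=
  F.1.map (homOfLE h).op s

lemma rs_rs (F : Sh.{u, w} T) {U V V' : Opens T} (h : V ≤ U) (h' : V' ≤ V) (s : F.1.obj (op U)) :
    rs F h' (rs F h s) = rs F (h'.trans h) s := by
  change (F.1.map (homOfLE h).op ≫ F.1.map (homOfLE h').op) s = _
  rw [← F.1.map_comp]
  rfl

lemma rs_self (F : Sh.{u, w} T) {U : Opens T} (s : F.1.obj (op U)) : rs F (le_refl U) s = s := by
  change F.1.map (𝟙 (op U)) s = s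
  rw [F.1.map_id]
  rfl

lemma rs_add (F : Sh.{u, w} T) {U V : Opens T} (h : V ≤ U) (s t : F.1.obj (op U)) :
    rs F h (s + t) = rs F h s + rs F h t := map_add _ _ _

lemma rs_sub (F : Sh.{u, w} T) {U V : Opens T} (h : V ≤ U) (s t : F.1.obj (op U)) :
    rs F h (s - t) = rs F h s - rs F h t := map_sub _ _ _

lemma rs_neg (F : Sh.{u, w} T) {U V : Opens T} (h : V ≤ U) (s : F.1.obj (op U)) :
    rs F h (-s) = -rs F h s := map_neg _ _

lemma rs_zero (F : Sh.{u, w} T) {U V : Opens T} (h : V ≤ U) : rs F h (0 : F.1.obj (op U)) = 0 := map_zero _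

lemma app_rs {F F' : Sh.{u, w} T} (φ : F ⟶ F') {U V : Opens T} (h : V ≤ U) (s : F.1.obj (op U)) :
    φ.hom.app (op V) (rs F h s) = rs F' h (φ.hom.app (op U) s) := by
  have := φ.hom.naturality (homOfLE h).op
  exact congrArg (fun m => m s) this

section Cech

variable (G : Sh.{u, w} T) (W : T → Opens T)

/-- the presheaf `U ↦ ∏_x G(W x ⊓ U)` -/
noncomputable def cechPre : (Opens T)ᵒᵖ ⥤ AddCommGrpCat.{max u w} where
  obj U := AddCommGrpCat.of (∀ x : T, G.1.obj (op (W x ⊓ U.unop)))
  map {U V} i := AddCommGrpCat.ofHom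
    { toFun := fun s x => rs G (inf_le_inf_left (W x) i.unop.le) (s x)
      map_zero' := by funext x; exact map_zero _
      map_add' := fun s t => by funext x; exact map_add _ _ _ }
  map_id U := by
    ext s x
    exact rs_self G (s x)
  map_comp {U V V'} i j := by
    ext s x
    exact (rs_rs G _ _ (s x)).symm

lemma cechPre_map_apply {U V : (Opens T)ᵒᵖ} (i : U ⟶ V) (s : (cechPre G W).obj U) (x : T) :
    ((cechPre G W).map i s) x = rs G (inf_le_inf_left (W x) i.unop.le) (s x) := rfl

theorem cechPre_isSheaf : TopCat.Presheaf.IsSheaf (X := T) (cechPre G W) := by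
  rw [TopCat.Presheaf.isSheaf_iff_isSheafUniqueGluing]
  intro ι U sf hsf
  have hx : ∀ x : T, ∃! t : G.1.obj (op (W x ⊓ iSup U)),
      ∀ i, rs G (inf_le_inf_left (W x) (le_iSup U i)) t = sf i x := by
    intro x
    have hcompat : TopCat.Presheaf.IsCompatible G.1 (fun i => W x ⊓ U i) (fun i => sf i x) := by
      intro i j
      have h := congrFun (hsf i j) x
      have h' := congrArg (rs G (le_inf (inf_le_left.trans inf_le_left)
        (le_inf (inf_le_left.trans inf_le_right) (inf_le_right.trans inf_le_right)) :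
          (W x ⊓ U i) ⊓ (W x ⊓ U j) ≤ W x ⊓ (U i ⊓ U j))) h
      rw [cechPre_map_apply, cechPre_map_apply, rs_rs, rs_rs] at h'
      exact h'
    exact G.existsUnique_gluing' (fun i => W x ⊓ U i) (W x ⊓ iSup U)
      (fun i => homOfLE (inf_le_inf_left (W x) (le_iSup U i))) (inf_iSup_eq _ _).le
      (fun i => sf i x) hcompat
  refine ⟨fun x => (hx x).choose, ?_, ?_⟩
  · intro i
    funext x
    exact (hx x).choose_spec.1 i
  · intro s' hs'
    funext x
    apply (hx x).choose_spec.2
    intro i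
    exact congrFun (hs' i) x

/-- the sheaf `U ↦ ∏_x G(W x ⊓ U)` -/
noncomputable def cechSh : Sh.{u, w} T := ⟨cechPre G W, cechPre_isSheaf G W⟩

/-- the diagonal map `G ⟶ ∏_x G(W x ⊓ -)` -/
noncomputable def diag : G ⟶ cechSh G W :=
  ⟨{ app := fun U => AddCommGrpCat.ofHom
        { toFun := fun γ x => rs G (inf_le_right : W x ⊓ U.unop ≤ U.unop) γ
          map_zero' := by funext x; exact map_zero _
          map_add' := fun s t => by funext x; exact map_add _ _ _ }
     naturality := fun U V i => by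
      ext γ
      funext x
      change rs G _ (G.1.map i γ) = rs G _ (rs G _ γ)
      have e : G.1.map i γ = rs G i.unop.le γ := rfl
      rw [e, rs_rs, rs_rs] }⟩

lemma diag_apply (U : Opens T) (γ : G.1.obj (op U)) (x : T) :
    ((diag G W).hom.app (op U) γ : ∀ x : T, G.1.obj (op (W x ⊓ U))) x = rs G inf_le_right γ := rfl

lemma diag_injective (hW : ∀ x, x ∈ W x) (U : Opens T) :
    Function.Injective ((diag G W).hom.app (op U)) := by
  intro γ γ' h
  apply G.eq_of_locally_eq' (fun x : T => W x ⊓ U) U (fun x => homOfLE inf_le_right)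
    (fun y hy => Opens.mem_iSup.2 ⟨y, hW y, hy⟩)
  intro x
  exact congrFun h x

theorem diag_mono (hW : ∀ x, x ∈ W x) : Mono (diag G W) := by
  haveI : Mono (diag G W).hom := by
    haveI : ∀ U, Mono ((diag G W).hom.app U) := fun U => by
      rw [AddCommGrpCat.mono_iff_injective]
      exact diag_injective G W hW U.unop
    exact NatTrans.mono_of_mono_app _
  exact Sheaf.Hom.mono_of_presheaf_mono _ _ _

end Cech

section Main

variable {G I Q : Sh.{u, w} T} (f : G ⟶ I) (g : I ⟶ Q)
  (hf : ∀ U : Opens T, Function.Injective (f.hom.app (op U)))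
  (hgf : ∀ (U : Opens T) (γ : G.1.obj (op U)), g.hom.app (op U) (f.hom.app (op U) γ) = 0)
  (hex : ∀ (U : Opens T) (e : I.1.obj (op U)), g.hom.app (op U) e = 0 →
    ∃ γ : G.1.obj (op U), f.hom.app (op U) γ = e)
  (W : T → Opens T) (hW : ∀ x, x ∈ W x)

include hW in
/-- if `I` is injective, every Čech 1-cocycle of `G` becomes a coboundary in `I` -/
theorem exists_cochain [Injective I]
    (c : ∀ x y, G.1.obj (op (W x ⊓ W y)))
    (hc : ∀ x y z, rs G (inf_le_left : W x ⊓ W y ⊓ W z ≤ W x ⊓ W y) (c x y) +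
        rs G (le_inf (inf_le_left.trans inf_le_right) inf_le_right :
          W x ⊓ W y ⊓ W z ≤ W y ⊓ W z) (c y z) =
        rs G (le_inf (inf_le_left.trans inf_le_left) inf_le_right :
          W x ⊓ W y ⊓ W z ≤ W x ⊓ W z) (c x z)) :
    ∃ t : ∀ x, I.1.obj (op (W x)), ∀ y z,
      rs I (inf_le_left : W y ⊓ W z ≤ W y) (t y) - rs I (inf_le_right : W y ⊓ W z ≤ W z) (t z) =
        f.hom.app (op (W y ⊓ W z)) (c y z) := by
  haveI := diag_mono G W hW
  let φ : cechSh G W ⟶ I := Injective.factorThru f (diag G W)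
  have hφ : ∀ (U : Opens T) (γ : G.1.obj (op U)),
      φ.hom.app (op U) ((diag G W).hom.app (op U) γ) = f.hom.app (op U) γ := by
    intro U γ
    have h := Injective.comp_factorThru f (diag G W)
    exact congrArg (fun m : G ⟶ I => m.hom.app (op U) γ) h
  let ε : ∀ y, (cechSh G W).1.obj (op (W y)) := fun y x => c x y
  let e : ∀ y, I.1.obj (op (W y)) := fun y => φ.hom.app (op (W y)) (ε y)
  -- differences of the `ε`
  have hε : ∀ y z, rs (cechSh G W) (inf_le_left : W y ⊓ W z ≤ W y) (ε y) -
      rs (cechSh G W) (inf_le_right : W y ⊓ W z ≤ W z) (ε z) =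
        -(diag G W).hom.app (op (W y ⊓ W z)) (c y z) := by
    intro y z
    funext x
    have h := congrArg (rs G (le_inf (le_inf inf_le_left (inf_le_right.trans inf_le_left))
      (inf_le_right.trans inf_le_right) : W x ⊓ (W y ⊓ W z) ≤ W x ⊓ W y ⊓ W z)) (hc x y z)
    rw [rs_add, rs_rs, rs_rs, rs_rs] at h
    change rs G _ (c x y) - rs G _ (c x z) = -rs G _ (c y z)
    rw [← h]
    abel
  have he : ∀ y z, rs I (inf_le_left : W y ⊓ W z ≤ W y) (e y) -
      rs I (inf_le_right : W y ⊓ W z ≤ W z) (e z) = -f.hom.app (op (W y ⊓ W z)) (c y z) := by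
    intro y z
    change rs I _ (φ.hom.app _ (ε y)) - rs I _ (φ.hom.app _ (ε z)) = _
    rw [← app_rs, ← app_rs, ← map_sub, hε, map_neg, hφ]
  refine ⟨fun y => -e y, fun y z => ?_⟩
  rw [rs_neg, rs_neg, ← neg_sub', he, neg_neg]

include hgf hW in
/-- the images in `Q` of a 0-cochain of `I` whose coboundary comes from `G` glue -/
theorem exists_section_of_cochain (c : ∀ x y, G.1.obj (op (W x ⊓ W y)))
    (t : ∀ x, I.1.obj (op (W x)))
    (ht : ∀ y z, rs I (inf_le_left : W y ⊓ W z ≤ W y) (t y) -
      rs I (inf_le_right : W y ⊓ W z ≤ W z) (t z) = f.hom.app (op (W y ⊓ W z)) (c y z)) :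
    ∃ q : Q.1.obj (op ⊤), ∀ x, g.hom.app (op (W x)) (t x) = rs Q le_top q := by
  let q : ∀ y, Q.1.obj (op (W y)) := fun y => g.hom.app (op (W y)) (t y)
  have hq : TopCat.Presheaf.IsCompatible Q.1 W q := by
    intro y z
    change rs Q inf_le_left (g.hom.app _ (t y)) = rs Q inf_le_right (g.hom.app _ (t z))
    rw [← app_rs, ← app_rs, ← sub_eq_zero, ← map_sub, ht, hgf]
  obtain ⟨q₀, hq₀, -⟩ := Q.existsUnique_gluing' W ⊤ (fun y => homOfLE le_top)
    (fun y _ => Opens.mem_iSup.2 ⟨y, hW y⟩) q hq
  exact ⟨q₀, fun x => (hq₀ x).symm⟩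

include hgf hW in
/-- local lifts whose difference cocycle is a coboundary can be corrected to a global lift -/
theorem exists_global_lift_of_coboundary (q : Q.1.obj (op ⊤))
    (t : ∀ x, I.1.obj (op (W x))) (ht : ∀ x, g.hom.app (op (W x)) (t x) = rs Q le_top q)
    (b : ∀ x, G.1.obj (op (W x)))
    (hb : ∀ x y, f.hom.app (op (W x ⊓ W y)) (rs G inf_le_left (b x) - rs G inf_le_right (b y)) =
      rs I inf_le_left (t x) - rs I inf_le_right (t y)) :
    ∃ e : I.1.obj (op ⊤), g.hom.app (op ⊤) e = q := by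
  let t' : ∀ x, I.1.obj (op (W x)) := fun x => t x - f.hom.app (op (W x)) (b x)
  have ht' : TopCat.Presheaf.IsCompatible I.1 W t' := by
    intro x y
    change rs I inf_le_left (t x - f.hom.app _ (b x)) = rs I inf_le_right (t y - f.hom.app _ (b y))
    rw [rs_sub, rs_sub, ← app_rs, ← app_rs, ← sub_eq_zero]
    have h1 := hb x y
    rw [map_sub] at h1
    have h2 : rs I inf_le_left (t x) - f.hom.app (op (W x ⊓ W y)) (rs G inf_le_left (b x)) -
        (rs I inf_le_right (t y) - f.hom.app (op (W x ⊓ W y)) (rs G inf_le_right (b y))) =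
        (rs I inf_le_left (t x) - rs I inf_le_right (t y)) -
        (f.hom.app (op (W x ⊓ W y)) (rs G inf_le_left (b x)) -
          f.hom.app (op (W x ⊓ W y)) (rs G inf_le_right (b y))) := by abel
    rw [h2, h1, sub_self]
  obtain ⟨e, he, -⟩ := I.existsUnique_gluing' W ⊤ (fun y => homOfLE le_top)
    (fun y _ => Opens.mem_iSup.2 ⟨y, hW y⟩) t' ht'
  refine ⟨e, ?_⟩
  apply Q.eq_of_locally_eq' W ⊤ (fun y => homOfLE le_top)
    (fun y _ => Opens.mem_iSup.2 ⟨y, hW y⟩)
  intro x
  change rs Q le_top (g.hom.app _ e) = rs Q le_top q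
  rw [← app_rs]
  have h3 : rs I le_top e = t' x := he x
  rw [h3]
  change g.hom.app _ (t x - f.hom.app _ (b x)) = _
  rw [map_sub, hgf, sub_zero, ht]

end Main

end Groth.Agent.Lib.Helper8ZarCech2
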