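import Mathlib
import Groth.Prelude.Def_CohTop
import Groth.Agent.Lib.Helper8ExtDelta
import Groth.Agent.Lib.Helper8ZarULift
import Groth.Agent.Lib.Helper8ZarCech2

/-!
# The embedding of an abelian sheaf on a space into an injective sheaf, and `H¹` (helper8)

For `F : CohTop.Ab T`: the short exact sequence `injSeq F : 0 → F → I → Q → 0` with `I` injective, its
properties on sections, the surjection `dl F : Q(T) → H¹(T, F)` with kernel the image of `I(T)`, and
its naturality for morphisms of such sequences.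
-/

set_option autoImplicit false
universe u
open CategoryTheory CategoryTheory.Limits Opposite TopologicalSpace Abelian

namespace Groth.Agent.Lib.Helper8InjSeq

open Groth.Agent.Lib.Helper8ZarCech2 Groth.Agent.Lib.Helper8ZarULift Groth.Agent.Lib.Helper8ExtDelta

variable {T : TopCat.{u}} (F : CohTop.Ab T)

/-- the embedding of `F` into an injective sheaf, with its cokernel -/
noncomputable def injSeq : ShortComplex (CohTop.Ab T) :=
  ShortComplex.mk (Injective.ι F) (cokernel.π (Injective.ι F)) (cokernel.condition _)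

lemma injSeq_shortExact : (injSeq F).ShortExact :=
  { exact := ShortComplex.exact_cokernel _
    mono_f := inferInstanceAs (Mono (Injective.ι F))
    epi_g := inferInstanceAs (Epi (cokernel.π (Injective.ι F))) }

instance : Injective (injSeq F).X₂ := inferInstanceAs (Injective (Injective.under F))

/-- the maps of the sequence, in `Sh` -/
noncomputable abbrev fI : (show Sh.{u, u} T from F) ⟶ (show Sh.{u, u} T from (injSeq F).X₂) := (injSeq F).f

/-- the maps of the sequence, in `Sh` -/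
noncomputable abbrev gI : (show Sh.{u, u} T from (injSeq F).X₂) ⟶
    (show Sh.{u, u} T from (injSeq F).X₃) := (injSeq F).g

instance : Injective (show Sh.{u, u} T from (injSeq F).X₂) :=
  inferInstanceAs (Injective (injSeq F).X₂)

variable {F}

lemma hf_I (U : Opens T) : Function.Injective ((fI F).hom.app (op U)) := by
  haveI : Mono (injSeq F).f := (injSeq_shortExact F).mono_f
  haveI : Mono (injSeq F).f.hom := (Sheaf.Hom.mono_iff_presheaf_mono _ _ _).1 inferInstance
  have h : Mono ((injSeq F).f.hom.app (op U)) := inferInstance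
  exact (AddCommGrpCat.mono_iff_injective _).1 h

lemma hgf_I (U : Opens T) (γ : F.obj.obj (op U)) :
    (gI F).hom.app (op U) ((fI F).hom.app (op U) γ) = 0 := by
  have := congrArg (fun m : (injSeq F).X₁ ⟶ (injSeq F).X₃ => m.hom.app (op U) γ) (injSeq F).zero
  exact this

lemma hex_I (U : Opens T) (e : (injSeq F).X₂.obj.obj (op U))
    (he : (gI F).hom.app (op U) e = 0) :
    ∃ γ : F.obj.obj (op U), (fI F).hom.app (op U) γ = e :=
  TopCat.Sheaf.sections_exact_of_left_exact (S := injSeq F) (injSeq_shortExact F).exact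
    (injSeq_shortExact F).mono_f e he

lemma hloc_I (q : (injSeq F).X₃.obj.obj (op (⊤ : Opens T))) (x : T) :
    ∃ (Wx : Opens T) (_ : x ∈ Wx) (t : (injSeq F).X₂.obj.obj (op Wx)),
      (gI F).hom.app (op Wx) t = rs.{u, u} (show Sh.{u, u} T from (injSeq F).X₃) le_top q := by
  have h0 : Epi (injSeq F).g := (injSeq_shortExact F).epi_g
  have h1 : TopCat.Presheaf.IsLocallySurjective (injSeq F).g.hom :=
    (TopCat.Sheaf.isLocallySurjective_iff_epi (injSeq F).g).mpr h0
  rw [TopCat.Presheaf.isLocallySurjective_iff] at h1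
  obtain ⟨V, hV, ⟨s, hs⟩, hxV⟩ := h1 ⊤ q x trivial
  exact ⟨V, hxV, s, hs⟩

variable (T)

lemma secLo_comp {F F' : CohTop.Ab T} (a : ZLo T ⟶ F) (φ : F ⟶ F') :
    secLo T F' (a ≫ φ) = φ.hom.app (op ⊤) (secLo T F a) := by
  unfold secLo
  simp only [Equiv.trans_apply]
  rw [Adjunction.homEquiv_naturality_right]
  rfl

lemma secLo_add (F : CohTop.Ab T) (a a' : ZLo T ⟶ F) :
    secLo T F (a + a') = secLo T F a + secLo T F a' := by
  have h : ∀ b : ZLo T ⟶ F, secLo T F b =
      b.hom.app (op ⊤) (secLo T (ZLo T) (𝟙 _)) := fun b => by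
    have := secLo_comp T (𝟙 (ZLo T)) b
    rwa [Category.id_comp] at this
  rw [h, h a, h a']
  rfl

/-- maps out of the constant sheaf `ℤ` as global sections, additively -/
noncomputable def secLoAdd (F : CohTop.Ab T) :
    (ZLo T ⟶ F) ≃+ F.obj.obj (op (⊤ : Opens T)) :=
  { secLo T F with map_add' := secLo_add T F }

lemma secLoAdd_comp {F F' : CohTop.Ab T} (a : ZLo T ⟶ F) (φ : F ⟶ F') :
    secLoAdd T F' (a ≫ φ) = φ.hom.app (op ⊤) (secLoAdd T F a) := secLo_comp T a φ

variable {T}

section General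

variable (S : ShortComplex (CohTop.Ab T)) (hS : S.ShortExact)

/-- the connecting map `X₃(T) → Ext¹(ℤ, X₁)` of a short exact sequence of abelian sheaves -/
noncomputable def dlS : S.X₃.obj.obj (op (⊤ : Opens T)) →+ Ext.{u} (ZLo T) S.X₁ 1 :=
  (δhom.{u, u, u + 1} (C := CohTop.Ab T) S hS (ZLo T)).comp (secLoAdd T S.X₃).symm.toAddMonoidHom

lemma dlS_apply (b : ZLo T ⟶ S.X₃) :
    dlS S hS (secLoAdd T S.X₃ b) = (Ext.mk₀ b).comp hS.extClass (zero_add 1) := by
  change δhom.{u, u, u + 1} (C := CohTop.Ab T) S hS (ZLo T)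
    ((secLoAdd T S.X₃).symm (secLoAdd T S.X₃ b)) = _
  rw [AddEquiv.symm_apply_apply]
  rfl

lemma dlS_surjective [Injective S.X₂] : Function.Surjective (dlS S hS) :=
  (δhom_surjective.{u, u, u + 1} (C := CohTop.Ab T) S hS (ZLo T)).comp
    (secLoAdd T S.X₃).symm.surjective

lemma dlS_eq_zero_iff (q : S.X₃.obj.obj (op (⊤ : Opens T))) :
    dlS S hS q = 0 ↔ ∃ e₀ : S.X₂.obj.obj (op (⊤ : Opens T)), S.g.hom.app (op ⊤) e₀ = q := by
  obtain ⟨b, rfl⟩ := (secLoAdd T S.X₃).surjective q
  have key : dlS S hS (secLoAdd T S.X₃ b) = 0 ↔ ∃ a : ZLo T ⟶ S.X₂, a ≫ S.g = b := by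
    rw [dlS_apply]
    exact δhom_eq_zero_iff.{u, u, u + 1} (C := CohTop.Ab T) S hS (ZLo T) b
  rw [key]
  constructor
  · rintro ⟨a, ha⟩
    refine ⟨secLoAdd T S.X₂ a, ?_⟩
    rw [← ha]
    exact (secLoAdd_comp T a S.g).symm
  · rintro ⟨e₀, he₀⟩
    refine ⟨(secLoAdd T S.X₂).symm e₀, ?_⟩
    apply (secLoAdd T S.X₃).injective
    rw [secLoAdd_comp, AddEquiv.apply_symm_apply]
    exact he₀

variable {S}

/-- naturality of `dlS` -/
lemma dlS_naturality {S' : ShortComplex (CohTop.Ab T)} (hS' : S'.ShortExact) (τ : S ⟶ S')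
    (q : S.X₃.obj.obj (op (⊤ : Opens T))) :
    (dlS S hS q).comp (Ext.mk₀ τ.τ₁) (add_zero 1) = dlS S' hS' (τ.τ₃.hom.app (op ⊤) q) := by
  obtain ⟨b, rfl⟩ := (secLoAdd T S.X₃).surjective q
  rw [← secLoAdd_comp, dlS_apply, dlS_apply, Ext.comp_assoc_of_third_deg_zero,
    ShortComplex.ShortExact.extClass_naturality hS hS' τ,
    ← Ext.comp_assoc_of_second_deg_zero, Ext.mk₀_comp_mk₀]

end General

end Groth.Agent.Lib.Helper8InjSeq
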