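import Mathlib
import Groth.Agent.Lib.Helper23SecTw6
import Groth.Agent.Lib.Helper23PB
import Groth.Agent.Lib.Helper20UFDPic

/-!
# Modules with frames on a cover are isomorphic iff their cocycles are cohomologous (helper8)
-/

set_option autoImplicit false
universe u
open CategoryTheory Limits AlgebraicGeometry TopologicalSpace Opposite

namespace Groth.Agent.Lib.Helper8FrameIso

open Groth.Agent.Lib.Helper6 Groth.Agent.Lib.Helper23.SecTw Groth.Agent.Lib.Helper23.GenLocus

variable {X : Scheme.{u}}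

/-- two generators over the same open differ by a unit -/
theorem exists_unit_of_isGen {M : X.Modules} {W : X.Opens} {a b : Γ(M, W)} (ha : IsGen M W a)
    (hb : IsGen M W b) : ∃ c : (Γ(X, W))ˣ, b = (c : Γ(X, W)) • a := by
  obtain ⟨c, hc⟩ := (ha W le_rfl).2 b
  obtain ⟨d, hd⟩ := (hb W le_rfl).2 a
  simp only [res_self] at hc hd
  have h1 : (c * d) • b = (1 : Γ(X, W)) • b := by
    rw [mul_smul, hd, hc, one_smul]
  have h2 : c * d = 1 := by
    apply (hb W le_rfl).1
    simp only [res_self]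
    exact h1
  exact ⟨⟨c, d, h2, by rw [mul_comm]; exact h2⟩, hc.symm⟩

theorem iso_iff_cohomologous {ι : Type*} (U : ι → X.Opens) (hU : iSup U = ⊤) (L L' : X.Modules)
    (s : ∀ i : ι, Γ(L, U i)) (s' : ∀ i : ι, Γ(L', U i))
    (hs : ∀ i, IsGen L (U i) (s i)) (hs' : ∀ i, IsGen L' (U i) (s' i))
    (η η' : ∀ i j : ι, Γ(X, U i ⊓ U j))
    (hη : ∀ i j, res L inf_le_left (s i) = η i j • res L inf_le_right (s j))
    (hη' : ∀ i j, res L' inf_le_left (s' i) = η' i j • res L' inf_le_right (s' j)) :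
    Nonempty (L ≅ L') ↔ ∃ u : ∀ i : ι, (Γ(X, U i))ˣ, ∀ i j : ι,
      η' i j * resf inf_le_left (u i : Γ(X, U i)) = resf inf_le_right (u j : Γ(X, U j)) * η i j := by
  have hcov : ∀ x : X, ∃ i, x ∈ U i := by
    intro x
    have hx : x ∈ iSup U := by rw [hU]; trivial
    exact Opens.mem_iSup.1 hx
  constructor
  · rintro ⟨Φ⟩
    have hm : ∀ i, IsGen L' (U i) (Φ.hom.app (U i) (s i)) := fun i =>
      Groth.Agent.Lib.Helper23.PB.isGen_of_iso Φ (hs i)
    have hu := fun i => exists_unit_of_isGen (hs' i) (hm i)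
    choose u hu using hu
    refine ⟨u, fun i j => ?_⟩
    apply ((hs' j).mono (inf_le_right : U i ⊓ U j ≤ U j) _ le_rfl).1
    simp only [res_self]
    have h1 := congrArg (Φ.hom.app (U i ⊓ U j)) (hη i j)
    rw [Scheme.Modules.Hom.app_smul] at h1
    have h2 : Φ.hom.app (U i ⊓ U j) (res L inf_le_left (s i)) =
        res L' inf_le_left (Φ.hom.app (U i) (s i)) :=
      Groth.Agent.Lib.Helper23.Extend.app_map Φ.hom (homOfLE inf_le_left) (s i)
    have h3 : Φ.hom.app (U i ⊓ U j) (res L inf_le_right (s j)) =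
        res L' inf_le_right (Φ.hom.app (U j) (s j)) :=
      Groth.Agent.Lib.Helper23.Extend.app_map Φ.hom (homOfLE inf_le_right) (s j)
    rw [h2, h3, hu i, hu j, res_smul, res_smul, hη' i j, ← mul_smul, ← mul_smul] at h1
    rw [mul_comm (η' i j), h1, mul_comm]
  · rintro ⟨u, hu⟩
    obtain ⟨Φ, -⟩ := exists_iso_of_frames L L' U hcov s
      (fun i => (u i : Γ(X, U i)) • s' i) hs
      (fun i => Groth.Agent.Lib.Helper20.UFDPic.isGen_unit_smul (hs' i) _ (u i).isUnit)
      (fun i j => cocycle_of_transition (hs j) (η i j) (hη i j) (by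
        rw [res_smul, res_smul, hη' i j, ← mul_smul, ← mul_smul, mul_comm _ (η' i j), hu i j,
          mul_comm]))
    exact ⟨Φ⟩

end Groth.Agent.Lib.Helper8FrameIso
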