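import Mathlib
import Groth.Agent.Lib.Helper8CocMod
import Groth.Agent.Lib.Helper23SecTw6
import Groth.Agent.Lib.Helper23PB
import Groth.Agent.Lib.Helper20UFDPic

/-!
# Triviality of unit cocycles and triviality of invertible modules (helper8)

`CocTriv X`: every unit cocycle on an open cover of `X` indexed by the points is a coboundary.
`cocTriv_iff`: this holds iff every invertible `O_X`-module is trivial.
-/

set_option autoImplicit false
universe u
open CategoryTheory Limits AlgebraicGeometry TopologicalSpace Opposite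

namespace Groth.Agent.Lib.Helper8PicCoc

open Groth.Agent.Lib.Helper6 Groth.Agent.Lib.Helper23.SecTw Groth.Agent.Lib.Helper23.GenLocus
  Groth.Agent.Lib.Helper8CocMod

variable (X : Scheme.{u})

/-- the cocycle condition -/
def IsCoc (W : X → X.Opens) (g : ∀ x y, Γ(X, W x ⊓ W y)) : Prop :=
  (∀ x, g x x = 1) ∧
  ∀ x y z, resf (inf_le_left : W x ⊓ W y ⊓ W z ≤ W x ⊓ W y) (g x y) *
      resf (le_inf (inf_le_left.trans inf_le_right) inf_le_right : W x ⊓ W y ⊓ W z ≤ W y ⊓ W z) (g y z) =
    resf (le_inf (inf_le_left.trans inf_le_left) inf_le_right : W x ⊓ W y ⊓ W z ≤ W x ⊓ W z) (g x z)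

/-- every unit cocycle on a cover indexed by the points is a coboundary -/
def CocTriv : Prop :=
  ∀ (W : X → X.Opens) (_ : ∀ x, x ∈ W x) (g : ∀ x y, Γ(X, W x ⊓ W y)), IsCoc X W g →
    ∃ c : ∀ x, Γ(X, W x), (∀ x, IsUnit (c x)) ∧
      ∀ x y, resf inf_le_left (c x) = g x y * resf inf_le_right (c y)

variable {X}

/-- the functions of a cocycle are units -/
theorem isUnit_of_isCoc {W : X → X.Opens} {g : ∀ x y, Γ(X, W x ⊓ W y)} (hg : IsCoc X W g) (x y : X) :
    IsUnit (g x y) := by
  apply RingedSpace.isUnit_of_isUnit_germ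
  intro p hp
  have h := γ_inv W g hg.1 hg.2 p x y hp.1 hp.2
  exact IsUnit.of_mul_eq_one _ h

/-- a generator of the structure module is a unit -/
theorem isUnit_of_isGen_structure (W : X.Opens) (u : Γ(Coh.structureModule X, W))
    (h : IsGen (Coh.structureModule X) W u) : IsUnit (ofS W u) := by
  obtain ⟨r, hr⟩ := (h W le_rfl).2 (toS W 1)
  have hr' : r • u = toS W 1 := by
    have h2 : r • res (Coh.structureModule X) (le_refl W) u = toS W 1 := hr
    rwa [res_self] at h2
  have h3 : ofS W u * r = 1 := by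
    rw [mul_comm]
    exact congrArg (ofS W) hr'
  exact IsUnit.of_mul_eq_one _ h3

/-- if all invertible modules are trivial, unit cocycles are coboundaries -/
theorem cocTriv_of_trivial
    (h : ∀ L : X.Modules, PicF.IsInvertible L → Nonempty (L ≅ Coh.structureModule X)) :
    CocTriv X := by
  intro W hW g hg
  obtain ⟨L, e, hgen, htr⟩ := exists_module_of_cocycle W hW g hg.1 hg.2
  have hL : PicF.IsInvertible L := isInvertible_of_isGen L (fun x => ⟨W x, e x, hW x, hgen x⟩)
  obtain ⟨Φ⟩ := h L hL
  refine ⟨fun x => ofS (W x) (Φ.hom.app (W x) (e x)), fun x => ?_, fun x y => ?_⟩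
  · exact isUnit_of_isGen_structure _ _ (Groth.Agent.Lib.Helper23.PB.isGen_of_iso Φ (hgen x))
  · have h1 := congrArg (Φ.hom.app (W x ⊓ W y)) (htr x y)
    rw [Scheme.Modules.Hom.app_smul] at h1
    have h2 : Φ.hom.app (W x ⊓ W y) (res L inf_le_left (e x)) =
        res (Coh.structureModule X) inf_le_left (Φ.hom.app (W x) (e x)) :=
      Groth.Agent.Lib.Helper23.Extend.app_map Φ.hom (homOfLE inf_le_left) (e x)
    have h3 : Φ.hom.app (W x ⊓ W y) (res L inf_le_right (e y)) =
        res (Coh.structureModule X) inf_le_right (Φ.hom.app (W y) (e y)) :=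
      Groth.Agent.Lib.Helper23.Extend.app_map Φ.hom (homOfLE inf_le_right) (e y)
    rw [h2, h3] at h1
    exact congrArg (ofS (W x ⊓ W y)) h1

/-- if unit cocycles are coboundaries, all invertible modules are trivial -/
theorem trivial_of_cocTriv (h : CocTriv X) (L : X.Modules) (hL : PicF.IsInvertible L) :
    Nonempty (L ≅ Coh.structureModule X) := by
  have hex := fun x => exists_gen L hL x
  choose W e hW hgen using hex
  have htr := fun x y => exists_transition' (e x) (hgen y)
  choose g hg using htr
  have hcoc : IsCoc X W g := by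
    refine ⟨fun x => ?_, fun x y z => ?_⟩
    · apply ((hgen x).mono (inf_le_right : W x ⊓ W x ≤ W x) _ le_rfl).1
      change g x x • res L le_rfl (res L inf_le_right (e x)) = (1 : Γ(X, W x ⊓ W x)) • res L le_rfl (res L inf_le_right (e x))
      rw [res_self, one_smul]
      exact (hg x x).symm
    · apply ((hgen z).mono (inf_le_right : W x ⊓ W y ⊓ W z ≤ W z) _ le_rfl).1
      change _ • res L le_rfl (res L inf_le_right (e z)) = _ • res L le_rfl (res L inf_le_right (e z))
      rw [res_self]
      have hx := congrArg (res L (inf_le_left : W x ⊓ W y ⊓ W z ≤ W x ⊓ W y)) (hg x y)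
      have hy := congrArg (res L (le_inf (inf_le_left.trans inf_le_right) inf_le_right :
        W x ⊓ W y ⊓ W z ≤ W y ⊓ W z)) (hg y z)
      have hz := congrArg (res L (le_inf (inf_le_left.trans inf_le_left) inf_le_right :
        W x ⊓ W y ⊓ W z ≤ W x ⊓ W z)) (hg x z)
      rw [res_smul, res_res, res_res] at hx hy hz
      rw [mul_smul, ← hy, ← hx, ← hz]
  obtain ⟨c, hcu, hc⟩ := h W hW g hcoc
  obtain ⟨Φ, -⟩ := exists_iso_of_frames L (Coh.structureModule X) W (fun x => ⟨x, hW x⟩) e
    (fun x => toS (W x) (c x)) hgen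
    (fun x => by
      have h1 := Groth.Agent.Lib.Helper20.UFDPic.isGen_unit_smul (isGen_one (W x)) (c x) (hcu x)
      rwa [smul_toS, mul_one] at h1)
    (fun x y => cocycle_of_transition (hgen y) (g x y) (hg x y) (by
      rw [res, res, map_toS, map_toS, smul_toS]
      exact congrArg (toS _) (hc x y)))
  exact ⟨Φ⟩

/-- unit cocycles are coboundaries iff invertible modules are trivial -/
theorem cocTriv_iff :
    CocTriv X ↔ ∀ L : X.Modules, PicF.IsInvertible L → Nonempty (L ≅ Coh.structureModule X) :=
  ⟨trivial_of_cocTriv, cocTriv_of_trivial⟩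

end Groth.Agent.Lib.Helper8PicCoc
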