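import Mathlib
import Groth.Prelude.Def_PicGrp
import Groth.Agent.Lib.Helper8ZarCech2
import Groth.Agent.Lib.Helper8CocMod
import Groth.Agent.Lib.Helper8PicCoc
import Groth.Agent.Lib.Helper23SecTw6
import Groth.Agent.Lib.Helper23PB
import Groth.Agent.Lib.Helper20UFDPic

/-!
# The Picard group as a quotient of the global sections of `I / O^×` (helper8)

Let `0 → G → I → Q` be a left exact sequence of abelian sheaves on the space of a scheme `X` with
`I` injective and `I → Q` locally surjective, together with an identification `UnitsId G` of `G`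
with the sheaf of units of `X`.  We relate global sections `q` of `Q` and `O_X`-modules `L`
(`Rel q L`: on some cover `W` by opens indexed by the points there are lifts `t x` of `q` to `I` and
generators `e x` of `L` whose transition functions are the units `c x y` with
`f (c x y) = t x - t y`), and prove that this relation induces an isomorphism of groups
`Pic X ≃ Q(X) / im I(X)`:  `nonempty_pic_addEquiv`.
-/

set_option autoImplicit false
universe u w
open CategoryTheory CategoryTheory.Limits AlgebraicGeometry TopologicalSpace Opposite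

namespace Groth.Agent.Lib.Helper8PicRel

open Groth.Agent.Lib.Helper6 Groth.Agent.Lib.Helper23.SecTw Groth.Agent.Lib.Helper23.GenLocus
  Groth.Agent.Lib.Helper8ZarCech2 Groth.Agent.Lib.Helper8PicCoc Groth.Agent.Lib.Helper8CocMod

variable {X : Scheme.{u}}

/-- an identification of an abelian sheaf with the sheaf of units of `X` -/
structure UnitsId (G : Sh.{u, w} X.toTopCat) where
  /-- the unit of a section -/
  fn : ∀ U : X.Opens, G.1.obj (op U) → Γ(X, U)
  fn_add : ∀ (U : X.Opens) (a b : G.1.obj (op U)), fn U (a + b) = fn U a * fn U b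
  fn_rs : ∀ {U V : X.Opens} (h : V ≤ U) (a : G.1.obj (op U)), fn V (rs G h a) = resf h (fn U a)
  fn_inj : ∀ U : X.Opens, Function.Injective (fn U)
  fn_unit : ∀ (U : X.Opens) (a : G.1.obj (op U)), IsUnit (fn U a)
  fn_surj : ∀ (U : X.Opens) (r : Γ(X, U)), IsUnit r → ∃ a : G.1.obj (op U), fn U a = r

lemma UnitsId.fn_zero {G : Sh.{u, w} X.toTopCat} (ud : UnitsId G) (U : X.Opens) :
    ud.fn U 0 = 1 := by
  have h := ud.fn_add U 0 0
  rw [add_zero] at h
  exact (ud.fn_unit U 0).mul_left_cancel (by rw [mul_one]; exact h.symm)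

/-- an invertible module has frames on a cover indexed by the points whose transition functions
form a cocycle -/
theorem exists_frames_isCoc (L : X.Modules) (hL : PicF.IsInvertible L) :
    ∃ (W : X → X.Opens) (e : ∀ x, Γ(L, W x)) (γ : ∀ x y, Γ(X, W x ⊓ W y)),
      (∀ x, x ∈ W x) ∧ (∀ x, IsGen L (W x) (e x)) ∧ IsCoc X W γ ∧
      ∀ x y, res L inf_le_left (e x) = γ x y • res L inf_le_right (e y) := by
  have hex := fun x => exists_gen L hL x
  choose W e hW hgen using hex
  have htr := fun x y => exists_transition' (e x) (hgen y)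
  choose g hg using htr
  refine ⟨W, e, g, hW, hgen, ⟨fun x => ?_, fun x y z => ?_⟩, hg⟩
  · apply ((hgen x).mono (inf_le_right : W x ⊓ W x ≤ W x) _ le_rfl).1
    change g x x • res L le_rfl (res L inf_le_right (e x)) =
      (1 : Γ(X, W x ⊓ W x)) • res L le_rfl (res L inf_le_right (e x))
    rw [res_self, one_smul]
    exact (hg x x).symm
  · apply ((hgen z).mono (inf_le_right : W x ⊓ W y ⊓ W z ≤ W z) _ le_rfl).1
    change _ • res L le_rfl (res L inf_le_right (e z)) = _ • res L le_rfl (res L inf_le_right (e z))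
    rw [res_self]
    have hx := congrArg (res L (inf_le_left : W x ⊓ W y ⊓ W z ≤ W x ⊓ W y)) (hg x y)
    have hy := congrArg (res L (le_inf (inf_le_left.trans inf_le_right) inf_le_right :
      W x ⊓ W y ⊓ W z ≤ W y ⊓ W z)) (hg y z)
    have hz := congrArg (res L (le_inf (inf_le_left.trans inf_le_left) inf_le_right :
      W x ⊓ W y ⊓ W z ≤ W x ⊓ W z)) (hg x z)
    rw [res_smul, res_res, res_res] at hx hy hz
    rw [mul_smul, ← hy, ← hx, ← hz]

section Dat

variable {G I Q : Sh.{u, w} X.toTopCat} (f : G ⟶ I) (g : I ⟶ Q) (ud : UnitsId G)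

/-- data relating a global section `q` of `Q` and a module `L` on the cover `W` -/
def IsDat (q : Q.1.obj (op (⊤ : Opens X.toTopCat))) (L : X.Modules) (W : X → X.Opens) : Prop :=
  ∃ (t : ∀ x, I.1.obj (op (W x))) (c : ∀ x y, G.1.obj (op (W x ⊓ W y))) (e : ∀ x, Γ(L, W x)),
    (∀ x, g.hom.app (op (W x)) (t x) = rs Q le_top q) ∧
    (∀ x y, f.hom.app (op (W x ⊓ W y)) (c x y) =
      rs I inf_le_left (t x) - rs I inf_le_right (t y)) ∧
    (∀ x, IsGen L (W x) (e x)) ∧
    ∀ x y, res L inf_le_left (e x) = ud.fn (W x ⊓ W y) (c x y) • res L inf_le_right (e y)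

variable {f g ud}

theorem IsDat.refine {q : Q.1.obj (op (⊤ : Opens X.toTopCat))} {L : X.Modules} {W : X → X.Opens}
    (h : IsDat f g ud q L W) (W' : X → X.Opens) (hW' : ∀ x, W' x ≤ W x) : IsDat f g ud q L W' := by
  obtain ⟨t, c, e, ht, hc, he, htr⟩ := h
  refine ⟨fun x => rs I (hW' x) (t x), fun x y => rs G (inf_le_inf (hW' x) (hW' y)) (c x y),
    fun x => res L (hW' x) (e x), ?_, ?_, ?_, ?_⟩
  · intro x
    rw [app_rs, ht, rs_rs]
  · intro x y
    rw [app_rs, hc, rs_sub, rs_rs, rs_rs, rs_rs, rs_rs]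
  · exact fun x => (he x).mono (hW' x)
  · intro x y
    rw [ud.fn_rs, res_res, res_res]
    have h1 := congrArg (res L (inf_le_inf (hW' x) (hW' y))) (htr x y)
    rw [res_smul, res_res, res_res] at h1
    exact h1

theorem IsDat.add {q q' : Q.1.obj (op (⊤ : Opens X.toTopCat))} {L L' : X.Modules} {W : X → X.Opens}
    (h : IsDat f g ud q L W) (h' : IsDat f g ud q' L' W) :
    IsDat f g ud (q + q') (CohB1.tensorMod L L') W := by
  obtain ⟨t, c, e, ht, hc, he, htr⟩ := h
  obtain ⟨t', c', e', ht', hc', he', htr'⟩ := h'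
  refine ⟨fun x => t x + t' x, fun x y => c x y + c' x y,
    fun x => tm L L' (W x) (e x) (e' x), ?_, ?_, ?_, ?_⟩
  · intro x
    rw [map_add, ht, ht', rs_add]
  · intro x y
    rw [map_add, hc, hc', rs_add, rs_add]
    abel
  · exact fun x => isGen_tm L L' (W x) (e x) (e' x) (he x) (he' x)
  · intro x y
    rw [res_tm, res_tm, htr, htr', tm_smul_left, tm_smul_right, ← mul_smul, ud.fn_add]

variable (f g ud)

theorem isDat_structure (e₀ : I.1.obj (op (⊤ : Opens X.toTopCat))) :
    IsDat f g ud (g.hom.app (op ⊤) e₀) (Coh.structureModule X) (fun _ => ⊤) := by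
  refine ⟨fun _ => e₀, fun _ _ => 0, fun _ => toS ⊤ 1, ?_, ?_, ?_, ?_⟩
  · intro x
    exact (rs_self Q _).symm
  · intro x y
    rw [map_zero]
    exact (sub_self _).symm
  · exact fun _ => isGen_one ⊤
  · intro x y
    rw [ud.fn_zero, one_smul]

variable {f g ud}
variable (hf : ∀ U : X.Opens, Function.Injective (f.hom.app (op U)))
  (hgf : ∀ (U : X.Opens) (γ : G.1.obj (op U)), g.hom.app (op U) (f.hom.app (op U) γ) = 0)
  (hex : ∀ (U : X.Opens) (e : I.1.obj (op U)), g.hom.app (op U) e = 0 →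
    ∃ γ : G.1.obj (op U), f.hom.app (op U) γ = e)

include hf hex in
theorem IsDat.iso {q : Q.1.obj (op (⊤ : Opens X.toTopCat))} {L L' : X.Modules} {W : X → X.Opens}
    (hW : ∀ x, x ∈ W x) (h : IsDat f g ud q L W) (h' : IsDat f g ud q L' W) :
    Nonempty (L ≅ L') := by
  obtain ⟨t, c, e, ht, hc, he, htr⟩ := h
  obtain ⟨t', c', e', ht', hc', he', htr'⟩ := h'
  have hb : ∀ x, ∃ b : G.1.obj (op (W x)), f.hom.app (op (W x)) b = t x - t' x := by
    intro x
    apply hex
    rw [map_sub, ht, ht', sub_self]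
  choose b hb using hb
  have hrel : ∀ x y, c x y + rs G inf_le_right (b y) = rs G inf_le_left (b x) + c' x y := by
    intro x y
    apply hf
    rw [map_add, map_add, hc, hc', app_rs, app_rs, hb, hb, rs_sub, rs_sub]
    abel
  obtain ⟨Φ, -⟩ := exists_iso_of_frames L L' W (fun x => ⟨x, hW x⟩) e
    (fun x => ud.fn (W x) (b x) • e' x) he
    (fun x => Groth.Agent.Lib.Helper20.UFDPic.isGen_unit_smul (he' x) _ (ud.fn_unit _ _))
    (fun x y => cocycle_of_transition (he y) (ud.fn _ (c x y)) (htr x y) (by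
      rw [res_smul, res_smul, htr' x y, ← mul_smul, ← mul_smul, ← ud.fn_rs, ← ud.fn_rs,
        ← ud.fn_add, ← ud.fn_add, hrel x y]))
  exact ⟨Φ⟩

include hgf in
theorem IsDat.exists_lift_of_iso {q : Q.1.obj (op (⊤ : Opens X.toTopCat))} {L : X.Modules}
    {W : X → X.Opens} (hW : ∀ x, x ∈ W x) (h : IsDat f g ud q L W)
    (Φ : L ≅ Coh.structureModule X) :
    ∃ e₀ : I.1.obj (op (⊤ : Opens X.toTopCat)), g.hom.app (op ⊤) e₀ = q := by
  obtain ⟨t, c, e, ht, hc, he, htr⟩ := h
  have hu : ∀ x, IsUnit (ofS (W x) (Φ.hom.app (W x) (e x))) := fun x =>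
    isUnit_of_isGen_structure _ _ (Groth.Agent.Lib.Helper23.PB.isGen_of_iso Φ (he x))
  have hrel : ∀ x y, resf inf_le_left (ofS (W x) (Φ.hom.app (W x) (e x))) =
      ud.fn _ (c x y) * resf inf_le_right (ofS (W y) (Φ.hom.app (W y) (e y))) := by
    intro x y
    have h1 := congrArg (Φ.hom.app (W x ⊓ W y)) (htr x y)
    rw [Scheme.Modules.Hom.app_smul] at h1
    have h2 : Φ.hom.app (W x ⊓ W y) (res L inf_le_left (e x)) =
        res (Coh.structureModule X) inf_le_left (Φ.hom.app (W x) (e x)) :=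
      Groth.Agent.Lib.Helper23.Extend.app_map Φ.hom (homOfLE inf_le_left) (e x)
    have h3 : Φ.hom.app (W x ⊓ W y) (res L inf_le_right (e y)) =
        res (Coh.structureModule X) inf_le_right (Φ.hom.app (W y) (e y)) :=
      Groth.Agent.Lib.Helper23.Extend.app_map Φ.hom (homOfLE inf_le_right) (e y)
    rw [h2, h3] at h1
    exact congrArg (ofS (W x ⊓ W y)) h1
  have hb : ∀ x, ∃ b : G.1.obj (op (W x)), ud.fn (W x) b = ofS (W x) (Φ.hom.app (W x) (e x)) :=
    fun x => ud.fn_surj _ _ (hu x)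
  choose b hb using hb
  have hbc : ∀ x y, rs G inf_le_left (b x) - rs G inf_le_right (b y) = c x y := by
    intro x y
    rw [sub_eq_iff_eq_add]
    apply ud.fn_inj
    rw [ud.fn_add, ud.fn_rs, ud.fn_rs, hb, hb]
    exact hrel x y
  exact exists_global_lift_of_coboundary f g hgf W hW q t ht b (fun x y => by rw [hbc, hc])

include hf hex in
theorem exists_isDat_of_section
    (hloc : ∀ (q : Q.1.obj (op (⊤ : Opens X.toTopCat))) (x : X),
      ∃ (Wx : X.Opens) (_ : x ∈ Wx) (t : I.1.obj (op Wx)), g.hom.app (op Wx) t = rs Q le_top q)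
    (q : Q.1.obj (op (⊤ : Opens X.toTopCat))) :
    ∃ (L : X.Modules) (W : X → X.Opens), PicF.IsInvertible L ∧ (∀ x, x ∈ W x) ∧
      IsDat f g ud q L W := by
  choose W hW t ht using hloc q
  have hc : ∀ x y, ∃ γ : G.1.obj (op (W x ⊓ W y)), f.hom.app (op (W x ⊓ W y)) γ =
      rs I inf_le_left (t x) - rs I inf_le_right (t y) := by
    intro x y
    apply hex
    rw [map_sub, app_rs, app_rs, ht, ht, rs_rs, rs_rs, sub_self]
  choose c hc using hc
  have h0 : ∀ x, c x x = 0 := fun x => by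
    apply hf
    rw [hc, map_zero]
    exact sub_self _
  have hcoc : ∀ x y z, rs G (inf_le_left : W x ⊓ W y ⊓ W z ≤ W x ⊓ W y) (c x y) +
      rs G (le_inf (inf_le_left.trans inf_le_right) inf_le_right :
        W x ⊓ W y ⊓ W z ≤ W y ⊓ W z) (c y z) =
      rs G (le_inf (inf_le_left.trans inf_le_left) inf_le_right :
        W x ⊓ W y ⊓ W z ≤ W x ⊓ W z) (c x z) := by
    intro x y z
    apply hf
    rw [map_add, app_rs, app_rs, app_rs, hc, hc, hc, rs_sub, rs_sub, rs_sub, rs_rs, rs_rs, rs_rs,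
      rs_rs, rs_rs, rs_rs]
    abel
  obtain ⟨L, e, he, htr⟩ := exists_module_of_cocycle W hW (fun x y => ud.fn _ (c x y))
    (fun x => by rw [h0]; exact ud.fn_zero _)
    (fun x y z => by rw [← ud.fn_rs, ← ud.fn_rs, ← ud.fn_rs, ← ud.fn_add, hcoc])
  exact ⟨L, W, isInvertible_of_isGen L (fun x => ⟨W x, e x, hW x, he x⟩), hW, t, c, e, ht, hc,
    he, htr⟩

include hgf in
theorem exists_isDat_of_module [Injective I] (L : X.Modules) (hL : PicF.IsInvertible L) :
    ∃ (q : Q.1.obj (op (⊤ : Opens X.toTopCat))) (W : X → X.Opens), (∀ x, x ∈ W x) ∧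
      IsDat f g ud q L W := by
  obtain ⟨W, e, γ, hW, hgen, hcoc, hγ⟩ := exists_frames_isCoc L hL
  have hc : ∀ x y, ∃ c : G.1.obj (op (W x ⊓ W y)), ud.fn _ c = γ x y :=
    fun x y => ud.fn_surj _ _ (isUnit_of_isCoc hcoc x y)
  choose c hc using hc
  obtain ⟨t, ht⟩ := exists_cochain f W hW c (by
    intro x y z
    apply ud.fn_inj
    rw [ud.fn_add, ud.fn_rs, ud.fn_rs, ud.fn_rs, hc, hc, hc]
    exact hcoc.2 x y z)
  obtain ⟨q, hq⟩ := exists_section_of_cochain f g hgf W hW c t ht
  exact ⟨q, W, hW, t, c, e, hq, fun x y => (ht x y).symm, hgen, fun x y => by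
    rw [hc]; exact hγ x y⟩

end Dat

section Rel

variable {G I Q : Sh.{u, w} X.toTopCat} (f : G ⟶ I) (g : I ⟶ Q) (ud : UnitsId G)

/-- the relation between global sections of `Q` and modules -/
def Rel (q : Q.1.obj (op (⊤ : Opens X.toTopCat))) (L : X.Modules) : Prop :=
  ∃ W : X → X.Opens, (∀ x, x ∈ W x) ∧ IsDat f g ud q L W

variable {f g ud}
variable (hf : ∀ U : X.Opens, Function.Injective (f.hom.app (op U)))
  (hgf : ∀ (U : X.Opens) (γ : G.1.obj (op U)), g.hom.app (op U) (f.hom.app (op U) γ) = 0)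
  (hex : ∀ (U : X.Opens) (e : I.1.obj (op U)), g.hom.app (op U) e = 0 →
    ∃ γ : G.1.obj (op U), f.hom.app (op U) γ = e)

include hf hex in
theorem Rel.iso {q : Q.1.obj (op (⊤ : Opens X.toTopCat))} {L L' : X.Modules}
    (h : Rel f g ud q L) (h' : Rel f g ud q L') : Nonempty (L ≅ L') := by
  obtain ⟨W, hW, hd⟩ := h
  obtain ⟨W', hW', hd'⟩ := h'
  exact IsDat.iso hf hex (W := fun x => W x ⊓ W' x) (fun x => ⟨hW x, hW' x⟩)
    (hd.refine _ (fun x => inf_le_left)) (hd'.refine _ (fun x => inf_le_right))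

theorem Rel.add {q q' : Q.1.obj (op (⊤ : Opens X.toTopCat))} {L L' : X.Modules}
    (h : Rel f g ud q L) (h' : Rel f g ud q' L') :
    Rel f g ud (q + q') (CohB1.tensorMod L L') := by
  obtain ⟨W, hW, hd⟩ := h
  obtain ⟨W', hW', hd'⟩ := h'
  exact ⟨fun x => W x ⊓ W' x, fun x => ⟨hW x, hW' x⟩,
    (hd.refine _ (fun x => inf_le_left)).add (hd'.refine _ (fun x => inf_le_right))⟩

end Rel

/-- two quotients of the same group by the same subgroup are isomorphic -/
theorem nonempty_addEquiv_of_ker_eq {M P A : Type*} [AddCommGroup M] [AddCommGroup P]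
    [AddCommGroup A] (ψ : M →+ P) (δ : M →+ A) (hψ : Function.Surjective ψ)
    (hδ : Function.Surjective δ) (h : ψ.ker = δ.ker) : Nonempty (P ≃+ A) :=
  ⟨(QuotientAddGroup.quotientKerEquivOfSurjective ψ hψ).symm.trans
    ((QuotientAddGroup.quotientAddEquivOfEq h).trans
      (QuotientAddGroup.quotientKerEquivOfSurjective δ hδ))⟩

section Main

variable {G I Q : Sh.{u, w} X.toTopCat} {f : G ⟶ I} {g : I ⟶ Q} (ud : UnitsId G)
variable (hf : ∀ U : X.Opens, Function.Injective (f.hom.app (op U)))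
  (hgf : ∀ (U : X.Opens) (γ : G.1.obj (op U)), g.hom.app (op U) (f.hom.app (op U) γ) = 0)
  (hex : ∀ (U : X.Opens) (e : I.1.obj (op U)), g.hom.app (op U) e = 0 →
    ∃ γ : G.1.obj (op U), f.hom.app (op U) γ = e)
  (hloc : ∀ (q : Q.1.obj (op (⊤ : Opens X.toTopCat))) (x : X),
      ∃ (Wx : X.Opens) (_ : x ∈ Wx) (t : I.1.obj (op Wx)), g.hom.app (op Wx) t = rs Q le_top q)

include ud hf hgf hex hloc in
/-- **the Picard group is the cokernel of `I(X) → Q(X)`** -/
theorem nonempty_pic_addEquiv [PicGrp.Law X] [Injective I] {A : Type*} [AddCommGroup A]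
    (δ : Q.1.obj (op (⊤ : Opens X.toTopCat)) →+ A) (hδ : Function.Surjective δ)
    (hker : ∀ q, δ q = 0 ↔ ∃ e₀ : I.1.obj (op (⊤ : Opens X.toTopCat)), g.hom.app (op ⊤) e₀ = q) :
    Nonempty (Additive (PicLoc.PicSet X) ≃+ A) := by
  have hP1 := exists_isDat_of_section (ud := ud) hf hex hloc
  choose Lq Wq hinv hWq hdat using hP1
  have hrel : ∀ q, Rel f g ud q (Lq q) := fun q => ⟨Wq q, hWq q, hdat q⟩
  let ψ : Q.1.obj (op (⊤ : Opens X.toTopCat)) →+ Additive (PicLoc.PicSet X) :=
    AddMonoidHom.mk' (fun q => Additive.ofMul (PicGrp.cls (Lq q) (hinv q))) (by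
      intro q q'
      change Additive.ofMul (PicGrp.cls (Lq (q + q')) (hinv (q + q'))) =
        Additive.ofMul (PicGrp.cls (Lq q) (hinv q) * PicGrp.cls (Lq q') (hinv q'))
      apply congrArg Additive.ofMul
      apply Subtype.ext
      rw [PicGrp.mul_val, PicGrp.cls_val, PicGrp.cls_val, PicGrp.cls_val, PicGrp.mulCl_cl,
        PicGrp.cl_eq_cl_iff]
      exact Rel.iso hf hex (hrel (q + q')) ((hrel q).add (hrel q')))
  have hψ : ∀ q, ψ q = Additive.ofMul (PicGrp.cls (Lq q) (hinv q)) := fun q => rfl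
  have hψsurj : Function.Surjective ψ := by
    intro a
    obtain ⟨L, hL, ha⟩ := PicGrp.exists_eq_cls (Additive.toMul a)
    obtain ⟨q, W, hW, hd⟩ := exists_isDat_of_module (ud := ud) hgf L hL
    refine ⟨q, ?_⟩
    rw [hψ]
    have h1 : PicGrp.cls (Lq q) (hinv q) = PicGrp.cls L hL :=
      (PicGrp.cls_eq_cls_iff _ _).2 (Rel.iso hf hex (hrel q) ⟨W, hW, hd⟩)
    rw [h1, ← ha]
    rfl
  refine nonempty_addEquiv_of_ker_eq ψ δ hψsurj hδ ?_
  ext q
  rw [AddMonoidHom.mem_ker, AddMonoidHom.mem_ker, hker, hψ]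
  have h0 : (0 : Additive (PicLoc.PicSet X)) = Additive.ofMul (PicGrp.cls (Coh.structureModule X)
      (PicLoc.isInvertible_structureModule X)) := by
    change Additive.ofMul (1 : PicLoc.PicSet X) = _
    rw [PicGrp.one_eq_unitPicSet, PicGrp.unitPicSet_eq_cls]
  rw [h0]
  constructor
  · intro h
    have h1 : PicGrp.cls (Lq q) (hinv q) = PicGrp.cls (Coh.structureModule X)
        (PicLoc.isInvertible_structureModule X) := Additive.ofMul.injective h
    obtain ⟨Φ⟩ := (PicGrp.cls_eq_cls_iff _ _).1 h1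
    exact (hdat q).exists_lift_of_iso hgf (hWq q) Φ
  · rintro ⟨e₀, rfl⟩
    apply congrArg Additive.ofMul
    exact (PicGrp.cls_eq_cls_iff _ _).2 (Rel.iso hf hex (hrel _)
      ⟨fun _ => ⊤, fun _ => trivial, isDat_structure f g ud e₀⟩)

end Main

end Groth.Agent.Lib.Helper8PicRel
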