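import Mathlib
import Groth.Prelude.Def_PicGrp
import Groth.Agent.Lib.Helper8PicRel
import Groth.Agent.Lib.Helper8CocModIdx
import Groth.Agent.Lib.Helper8FrameIso

/-!
# The Picard group of `Y` as a quotient of global sections of a sheaf on `X`, for `p : Y ⟶ X` (helper8)

Relative version of `Helper8PicRel`: `p : Y ⟶ X` is a morphism of schemes, `0 → G → I → Q` is a left
exact sequence of abelian sheaves on the space of `X` with `I` injective and `I → Q` locally
surjective, and `G` is identified (`UnitsIdP p G`) with `p_* O_Y^×`.  If every invertible module on `Y`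
is trivial on the preimages of the members of an open cover of `X` (e.g. `p` a homeomorphism), then
`Pic Y ≃ Q(X) / im I(X)`, and the isomorphism is characterised by the relation `RelP`.
For `p = 𝟙 X` this refines `Helper8PicRel.nonempty_pic_addEquiv`.
-/

set_option autoImplicit false
universe u w
open CategoryTheory CategoryTheory.Limits AlgebraicGeometry TopologicalSpace Opposite

namespace Groth.Agent.Lib.Helper8PicRelP

open Groth.Agent.Lib.Helper6 Groth.Agent.Lib.Helper23.SecTw Groth.Agent.Lib.Helper23.GenLocus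
  Groth.Agent.Lib.Helper8ZarCech2 Groth.Agent.Lib.Helper8PicCoc Groth.Agent.Lib.Helper8CocMod

variable {X Y : Scheme.{u}} (p : Y ⟶ X)

/-- an identification of an abelian sheaf on `X` with the direct image of the sheaf of units of `Y` -/
structure UnitsIdP (G : Sh.{u, w} X.toTopCat) where
  /-- the unit of a section -/
  fn : ∀ U : X.Opens, G.1.obj (op U) → Γ(Y, p ⁻¹ᵁ U)
  fn_add : ∀ (U : X.Opens) (a b : G.1.obj (op U)), fn U (a + b) = fn U a * fn U b
  fn_rs : ∀ {U V : X.Opens} (h : V ≤ U) (a : G.1.obj (op U)),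
    fn V (rs G h a) = resf (p.preimage_mono h) (fn U a)
  fn_inj : ∀ U : X.Opens, Function.Injective (fn U)
  fn_unit : ∀ (U : X.Opens) (a : G.1.obj (op U)), IsUnit (fn U a)
  fn_surj : ∀ (U : X.Opens) (r : Γ(Y, p ⁻¹ᵁ U)), IsUnit r → ∃ a : G.1.obj (op U), fn U a = r

variable {p}

lemma UnitsIdP.fn_zero {G : Sh.{u, w} X.toTopCat} (ud : UnitsIdP p G) (U : X.Opens) :
    ud.fn U 0 = 1 := by
  have h := ud.fn_add U 0 0
  rw [add_zero] at h
  exact (ud.fn_unit U 0).mul_left_cancel (by rw [mul_one]; exact h.symm)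

section Dat

variable {G I Q : Sh.{u, w} X.toTopCat} (f : G ⟶ I) (g : I ⟶ Q) (ud : UnitsIdP p G)

/-- data relating a global section `q` of `Q` and a module `M` on `Y`, on the cover `W` of `X` -/
def IsDatP (q : Q.1.obj (op (⊤ : Opens X.toTopCat))) (M : Y.Modules) (W : X → X.Opens) : Prop :=
  ∃ (t : ∀ x, I.1.obj (op (W x))) (c : ∀ x y, G.1.obj (op (W x ⊓ W y)))
    (e : ∀ x, Γ(M, p ⁻¹ᵁ W x)),
    (∀ x, g.hom.app (op (W x)) (t x) = rs Q le_top q) ∧
    (∀ x y, f.hom.app (op (W x ⊓ W y)) (c x y) =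
      rs I inf_le_left (t x) - rs I inf_le_right (t y)) ∧
    (∀ x, IsGen M (p ⁻¹ᵁ W x) (e x)) ∧
    ∀ x y, res M (p.preimage_mono (inf_le_left : W x ⊓ W y ≤ W x)) (e x) =
      ud.fn (W x ⊓ W y) (c x y) • res M (p.preimage_mono (inf_le_right : W x ⊓ W y ≤ W y)) (e y)

variable {f g ud}

theorem IsDatP.refine {q : Q.1.obj (op (⊤ : Opens X.toTopCat))} {M : Y.Modules} {W : X → X.Opens}
    (h : IsDatP f g ud q M W) (W' : X → X.Opens) (hW' : ∀ x, W' x ≤ W x) :
    IsDatP f g ud q M W' := by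
  obtain ⟨t, c, e, ht, hc, he, htr⟩ := h
  refine ⟨fun x => rs I (hW' x) (t x), fun x y => rs G (inf_le_inf (hW' x) (hW' y)) (c x y),
    fun x => res M (p.preimage_mono (hW' x)) (e x), ?_, ?_, ?_, ?_⟩
  · intro x
    rw [app_rs, ht, rs_rs]
  · intro x y
    rw [app_rs, hc, rs_sub, rs_rs, rs_rs, rs_rs, rs_rs]
  · exact fun x => (he x).mono (p.preimage_mono (hW' x))
  · intro x y
    rw [ud.fn_rs, res_res, res_res]
    have h1 := congrArg (res M (p.preimage_mono (inf_le_inf (hW' x) (hW' y)))) (htr x y)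
    rw [res_smul, res_res, res_res] at h1
    exact h1

theorem IsDatP.add {q q' : Q.1.obj (op (⊤ : Opens X.toTopCat))} {M M' : Y.Modules}
    {W : X → X.Opens} (h : IsDatP f g ud q M W) (h' : IsDatP f g ud q' M' W) :
    IsDatP f g ud (q + q') (CohB1.tensorMod M M') W := by
  obtain ⟨t, c, e, ht, hc, he, htr⟩ := h
  obtain ⟨t', c', e', ht', hc', he', htr'⟩ := h'
  refine ⟨fun x => t x + t' x, fun x y => c x y + c' x y,
    fun x => tm M M' (p ⁻¹ᵁ W x) (e x) (e' x), ?_, ?_, ?_, ?_⟩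
  · intro x
    rw [map_add, ht, ht', rs_add]
  · intro x y
    rw [map_add, hc, hc', rs_add, rs_add]
    abel
  · exact fun x => isGen_tm M M' (p ⁻¹ᵁ W x) (e x) (e' x) (he x) (he' x)
  · intro x y
    rw [res_tm, res_tm, htr, htr', tm_smul_left, tm_smul_right, ← mul_smul, ud.fn_add]

variable (f g ud)

theorem isDatP_structure (e₀ : I.1.obj (op (⊤ : Opens X.toTopCat))) :
    IsDatP f g ud (g.hom.app (op ⊤) e₀) (Coh.structureModule Y) (fun _ => ⊤) := by
  refine ⟨fun _ => e₀, fun _ _ => 0, fun _ => toS (p ⁻¹ᵁ ⊤) 1, ?_, ?_, ?_, ?_⟩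
  · intro x
    exact (rs_self Q _).symm
  · intro x y
    rw [map_zero]
    exact (sub_self _).symm
  · exact fun _ => isGen_one (p ⁻¹ᵁ ⊤)
  · intro x y
    rw [ud.fn_zero, one_smul]


variable {f g ud}
variable (hf : ∀ U : X.Opens, Function.Injective (f.hom.app (op U)))
  (hgf : ∀ (U : X.Opens) (γ : G.1.obj (op U)), g.hom.app (op U) (f.hom.app (op U) γ) = 0)
  (hex : ∀ (U : X.Opens) (e : I.1.obj (op U)), g.hom.app (op U) e = 0 →
    ∃ γ : G.1.obj (op U), f.hom.app (op U) γ = e)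

omit ud in
lemma iSup_preimage {W : X → X.Opens} (hW : ∀ x, x ∈ W x) : (⨆ x : X, p ⁻¹ᵁ W x) = ⊤ := by
  apply top_le_iff.1
  intro y _
  exact Opens.mem_iSup.2 ⟨p.base y, hW (p.base y)⟩

include hf hex in
theorem IsDatP.iso {q : Q.1.obj (op (⊤ : Opens X.toTopCat))} {M M' : Y.Modules} {W : X → X.Opens}
    (hW : ∀ x, x ∈ W x) (h : IsDatP f g ud q M W) (h' : IsDatP f g ud q M' W) :
    Nonempty (M ≅ M') := by
  obtain ⟨t, c, e, ht, hc, he, htr⟩ := h
  obtain ⟨t', c', e', ht', hc', he', htr'⟩ := h'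
  have hb : ∀ x, ∃ b : G.1.obj (op (W x)), f.hom.app (op (W x)) b = t x - t' x := by
    intro x
    apply hex
    rw [map_sub, ht, ht', sub_self]
  choose b hb using hb
  have hrel : ∀ x y, c' x y + rs G inf_le_left (b x) = rs G inf_le_right (b y) + c x y := by
    intro x y
    apply hf
    rw [map_add, map_add, hc, hc', app_rs, app_rs, hb, hb, rs_sub, rs_sub]
    abel
  rw [Groth.Agent.Lib.Helper8FrameIso.iso_iff_cohomologous (fun x : X => p ⁻¹ᵁ W x)
    (iSup_preimage hW) M M' e e' he he'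
    (fun x y => (ud.fn (W x ⊓ W y) (c x y) : Γ(Y, p ⁻¹ᵁ W x ⊓ p ⁻¹ᵁ W y)))
    (fun x y => (ud.fn (W x ⊓ W y) (c' x y) : Γ(Y, p ⁻¹ᵁ W x ⊓ p ⁻¹ᵁ W y)))
    (fun x y => htr x y) (fun x y => htr' x y)]
  refine ⟨fun x => (ud.fn_unit (W x) (b x)).unit, fun x y => ?_⟩
  have h1 := congrArg (ud.fn (W x ⊓ W y)) (hrel x y)
  rw [ud.fn_add, ud.fn_add, ud.fn_rs, ud.fn_rs] at h1
  exact h1


include hgf in
theorem IsDatP.exists_lift_of_iso {q : Q.1.obj (op (⊤ : Opens X.toTopCat))} {M : Y.Modules}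
    {W : X → X.Opens} (hW : ∀ x, x ∈ W x) (h : IsDatP f g ud q M W)
    (Φ : M ≅ Coh.structureModule Y) :
    ∃ e₀ : I.1.obj (op (⊤ : Opens X.toTopCat)), g.hom.app (op ⊤) e₀ = q := by
  obtain ⟨t, c, e, ht, hc, he, htr⟩ := h
  have hu : ∀ x, IsUnit (ofS (p ⁻¹ᵁ W x) (Φ.hom.app (p ⁻¹ᵁ W x) (e x))) := fun x =>
    isUnit_of_isGen_structure _ _ (Groth.Agent.Lib.Helper23.PB.isGen_of_iso Φ (he x))
  have hrel : ∀ x y, resf (p.preimage_mono (inf_le_left : W x ⊓ W y ≤ W x))
        (ofS (p ⁻¹ᵁ W x) (Φ.hom.app (p ⁻¹ᵁ W x) (e x))) =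
      ud.fn _ (c x y) * resf (p.preimage_mono (inf_le_right : W x ⊓ W y ≤ W y))
        (ofS (p ⁻¹ᵁ W y) (Φ.hom.app (p ⁻¹ᵁ W y) (e y))) := by
    intro x y
    have h1 := congrArg (Φ.hom.app (p ⁻¹ᵁ (W x ⊓ W y))) (htr x y)
    rw [Scheme.Modules.Hom.app_smul] at h1
    have h2 : Φ.hom.app (p ⁻¹ᵁ (W x ⊓ W y)) (res M (p.preimage_mono inf_le_left) (e x)) =
        res (Coh.structureModule Y) (p.preimage_mono inf_le_left) (Φ.hom.app (p ⁻¹ᵁ W x) (e x)) :=
      Groth.Agent.Lib.Helper23.Extend.app_map Φ.hom (homOfLE (p.preimage_mono inf_le_left)) (e x)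
    have h3 : Φ.hom.app (p ⁻¹ᵁ (W x ⊓ W y)) (res M (p.preimage_mono inf_le_right) (e y)) =
        res (Coh.structureModule Y) (p.preimage_mono inf_le_right) (Φ.hom.app (p ⁻¹ᵁ W y) (e y)) :=
      Groth.Agent.Lib.Helper23.Extend.app_map Φ.hom (homOfLE (p.preimage_mono inf_le_right)) (e y)
    rw [h2, h3] at h1
    exact congrArg (ofS (p ⁻¹ᵁ (W x ⊓ W y))) h1
  have hb : ∀ x, ∃ b : G.1.obj (op (W x)),
      ud.fn (W x) b = ofS (p ⁻¹ᵁ W x) (Φ.hom.app (p ⁻¹ᵁ W x) (e x)) :=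
    fun x => ud.fn_surj _ _ (hu x)
  choose b hb using hb
  have hbc : ∀ x y, rs G inf_le_left (b x) - rs G inf_le_right (b y) = c x y := by
    intro x y
    rw [sub_eq_iff_eq_add]
    apply ud.fn_inj
    rw [ud.fn_add, ud.fn_rs, ud.fn_rs, hb, hb]
    exact hrel x y
  exact exists_global_lift_of_coboundary f g hgf W hW q t ht b (fun x y => by rw [hbc, hc])

include hf hex in
theorem exists_isDatP_of_section
    (hloc : ∀ (q : Q.1.obj (op (⊤ : Opens X.toTopCat))) (x : X),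
      ∃ (Wx : X.Opens) (_ : x ∈ Wx) (t : I.1.obj (op Wx)), g.hom.app (op Wx) t = rs Q le_top q)
    (q : Q.1.obj (op (⊤ : Opens X.toTopCat))) :
    ∃ (M : Y.Modules) (W : X → X.Opens), PicF.IsInvertible M ∧ (∀ x, x ∈ W x) ∧
      IsDatP f g ud q M W := by
  choose W hW t ht using hloc q
  have hc : ∀ x y, ∃ γ : G.1.obj (op (W x ⊓ W y)), f.hom.app (op (W x ⊓ W y)) γ =
      rs I inf_le_left (t x) - rs I inf_le_right (t y) := by
    intro x y
    apply hex
    rw [map_sub, app_rs, app_rs, ht, ht, rs_rs, rs_rs, sub_self]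
  choose c hc using hc
  have hcoc : ∀ x y z, rs G (inf_le_left : W x ⊓ W y ⊓ W z ≤ W x ⊓ W y) (c x y) +
      rs G (le_inf (inf_le_left.trans inf_le_right) inf_le_right :
        W x ⊓ W y ⊓ W z ≤ W y ⊓ W z) (c y z) =
      rs G (le_inf (inf_le_left.trans inf_le_left) inf_le_right :
        W x ⊓ W y ⊓ W z ≤ W x ⊓ W z) (c x z) := by
    intro x y z
    apply hf
    rw [map_add, app_rs, app_rs, app_rs, hc, hc, hc, rs_sub, rs_sub, rs_sub, rs_rs, rs_rs, rs_rs,
      rs_rs, rs_rs, rs_rs]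
    abel
  obtain ⟨M, e, hM, he, htr⟩ := Groth.Agent.Lib.Helper8CocModIdx.exists_module_of_unit_cocycle
    (fun x : X => p ⁻¹ᵁ W x) (iSup_preimage hW)
    (fun x y => ((ud.fn_unit (W x ⊓ W y) (c x y)).unit : (Γ(Y, p ⁻¹ᵁ W x ⊓ p ⁻¹ᵁ W y))ˣ))
    (fun x y z => by
      have h1 := congrArg (ud.fn (W x ⊓ W y ⊓ W z)) (hcoc x y z)
      rw [ud.fn_add, ud.fn_rs, ud.fn_rs, ud.fn_rs] at h1
      exact h1.symm)
  exact ⟨M, W, hM, hW, t, c, e, ht, hc, he, fun x y => htr x y⟩


include hgf in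
theorem exists_isDatP_of_module [Injective I] (M : Y.Modules)
    (hfr : ∀ x : X, ∃ (W : X.Opens) (e : Γ(M, p ⁻¹ᵁ W)), x ∈ W ∧ IsGen M (p ⁻¹ᵁ W) e) :
    ∃ (q : Q.1.obj (op (⊤ : Opens X.toTopCat))) (W : X → X.Opens), (∀ x, x ∈ W x) ∧
      IsDatP f g ud q M W := by
  choose W e hW hgen using hfr
  have hγ : ∀ x y, ∃ γ : (Γ(Y, p ⁻¹ᵁ (W x ⊓ W y)))ˣ,
      res M (p.preimage_mono (inf_le_left : W x ⊓ W y ≤ W x)) (e x) =
        (γ : Γ(Y, p ⁻¹ᵁ (W x ⊓ W y))) • res M (p.preimage_mono (inf_le_right : W x ⊓ W y ≤ W y)) (e y) :=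
    fun x y => Groth.Agent.Lib.Helper8FrameIso.exists_unit_of_isGen
      ((hgen y).mono (p.preimage_mono inf_le_right)) ((hgen x).mono (p.preimage_mono inf_le_left))
  choose γ hγ using hγ
  have hc : ∀ x y, ∃ c : G.1.obj (op (W x ⊓ W y)), ud.fn _ c = (γ x y : Γ(Y, p ⁻¹ᵁ (W x ⊓ W y))) :=
    fun x y => ud.fn_surj _ _ (γ x y).isUnit
  choose c hc using hc
  obtain ⟨t, ht⟩ := exists_cochain f W hW c (by
    intro x y z
    apply ud.fn_inj
    rw [ud.fn_add, ud.fn_rs, ud.fn_rs, ud.fn_rs, hc, hc, hc]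
    apply ((hgen z).mono (p.preimage_mono (inf_le_right : W x ⊓ W y ⊓ W z ≤ W z)) _ le_rfl).1
    change _ • res M le_rfl (res M _ (e z)) = _ • res M le_rfl (res M _ (e z))
    rw [res_self]
    have hx := congrArg (res M (p.preimage_mono (inf_le_left : W x ⊓ W y ⊓ W z ≤ W x ⊓ W y))) (hγ x y)
    have hy := congrArg (res M (p.preimage_mono (le_inf (inf_le_left.trans inf_le_right) inf_le_right :
      W x ⊓ W y ⊓ W z ≤ W y ⊓ W z))) (hγ y z)
    have hz := congrArg (res M (p.preimage_mono (le_inf (inf_le_left.trans inf_le_left) inf_le_right :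
      W x ⊓ W y ⊓ W z ≤ W x ⊓ W z))) (hγ x z)
    rw [res_smul, res_res, res_res] at hx hy hz
    rw [mul_smul, ← hy, ← hx, ← hz])
  obtain ⟨q, hq⟩ := exists_section_of_cochain f g hgf W hW c t ht
  exact ⟨q, W, hW, t, c, e, hq, fun x y => (ht x y).symm, hgen, fun x y => by
    rw [hc]; exact hγ x y⟩

end Dat

section Rel

variable {G I Q : Sh.{u, w} X.toTopCat} (f : G ⟶ I) (g : I ⟶ Q) (ud : UnitsIdP p G)

/-- the relation between global sections of `Q` and modules on `Y` -/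
def RelP (q : Q.1.obj (op (⊤ : Opens X.toTopCat))) (M : Y.Modules) : Prop :=
  ∃ W : X → X.Opens, (∀ x, x ∈ W x) ∧ IsDatP f g ud q M W

variable {f g ud}
variable (hf : ∀ U : X.Opens, Function.Injective (f.hom.app (op U)))
  (hex : ∀ (U : X.Opens) (e : I.1.obj (op U)), g.hom.app (op U) e = 0 →
    ∃ γ : G.1.obj (op U), f.hom.app (op U) γ = e)

include hf hex in
theorem RelP.iso {q : Q.1.obj (op (⊤ : Opens X.toTopCat))} {M M' : Y.Modules}
    (h : RelP f g ud q M) (h' : RelP f g ud q M') : Nonempty (M ≅ M') := by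
  obtain ⟨W, hW, hd⟩ := h
  obtain ⟨W', hW', hd'⟩ := h'
  exact IsDatP.iso hf hex (W := fun x => W x ⊓ W' x) (fun x => ⟨hW x, hW' x⟩)
    (hd.refine _ (fun x => inf_le_left)) (hd'.refine _ (fun x => inf_le_right))

theorem RelP.add {q q' : Q.1.obj (op (⊤ : Opens X.toTopCat))} {M M' : Y.Modules}
    (h : RelP f g ud q M) (h' : RelP f g ud q' M') :
    RelP f g ud (q + q') (CohB1.tensorMod M M') := by
  obtain ⟨W, hW, hd⟩ := h
  obtain ⟨W', hW', hd'⟩ := h'
  exact ⟨fun x => W x ⊓ W' x, fun x => ⟨hW x, hW' x⟩,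
    (hd.refine _ (fun x => inf_le_left)).add (hd'.refine _ (fun x => inf_le_right))⟩

end Rel

/-- two quotients of the same group by the same subgroup are isomorphic, compatibly -/
theorem exists_addEquiv_of_ker_eq {M₀ P A : Type*} [AddCommGroup M₀] [AddCommGroup P]
    [AddCommGroup A] (ψ : M₀ →+ P) (δ : M₀ →+ A) (hψ : Function.Surjective ψ)
    (hδ : Function.Surjective δ) (h : ψ.ker = δ.ker) : ∃ e : P ≃+ A, ∀ m, e (ψ m) = δ m := by
  have key : ∀ m m', ψ m = ψ m' → δ m = δ m' := by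
    intro m m' hm
    have h1 : m - m' ∈ ψ.ker := by rw [AddMonoidHom.mem_ker, map_sub, hm, sub_self]
    rw [h, AddMonoidHom.mem_ker, map_sub, sub_eq_zero] at h1
    exact h1
  have key' : ∀ m m', δ m = δ m' → ψ m = ψ m' := by
    intro m m' hm
    have h1 : m - m' ∈ δ.ker := by rw [AddMonoidHom.mem_ker, map_sub, hm, sub_self]
    rw [← h, AddMonoidHom.mem_ker, map_sub, sub_eq_zero] at h1
    exact h1
  have h1 : ∀ x, ψ (Function.surjInv hψ x) = x := Function.surjInv_eq hψ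
  have h2 : ∀ a, δ (Function.surjInv hδ a) = a := Function.surjInv_eq hδ
  refine ⟨{ toFun := fun x => δ (Function.surjInv hψ x)
            invFun := fun a => ψ (Function.surjInv hδ a)
            left_inv := fun x => by
              change ψ (Function.surjInv hδ (δ (Function.surjInv hψ x))) = x
              rw [← key' _ _ (h2 (δ (Function.surjInv hψ x))).symm, h1]
            right_inv := fun a => by
              change δ (Function.surjInv hψ (ψ (Function.surjInv hδ a))) = a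
              rw [← key _ _ (h1 (ψ (Function.surjInv hδ a))).symm, h2]
            map_add' := fun x y => by
              rw [← map_add]
              apply key
              rw [map_add, h1, h1, h1] }, fun m => ?_⟩
  exact key _ _ (h1 (ψ m))

section Main

variable {G I Q : Sh.{u, w} X.toTopCat} {f : G ⟶ I} {g : I ⟶ Q} (ud : UnitsIdP p G)
variable (hf : ∀ U : X.Opens, Function.Injective (f.hom.app (op U)))
  (hgf : ∀ (U : X.Opens) (γ : G.1.obj (op U)), g.hom.app (op U) (f.hom.app (op U) γ) = 0)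
  (hex : ∀ (U : X.Opens) (e : I.1.obj (op U)), g.hom.app (op U) e = 0 →
    ∃ γ : G.1.obj (op U), f.hom.app (op U) γ = e)
  (hloc : ∀ (q : Q.1.obj (op (⊤ : Opens X.toTopCat))) (x : X),
      ∃ (Wx : X.Opens) (_ : x ∈ Wx) (t : I.1.obj (op Wx)), g.hom.app (op Wx) t = rs Q le_top q)
  (hfr : ∀ (M : Y.Modules), PicF.IsInvertible M → ∀ x : X,
      ∃ (W : X.Opens) (e : Γ(M, p ⁻¹ᵁ W)), x ∈ W ∧ IsGen M (p ⁻¹ᵁ W) e)

include ud hf hgf hex hloc hfr in
/-- **the Picard group of `Y` is the cokernel of `I(X) → Q(X)`**, with the isomorphism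
characterised by `RelP` -/
theorem exists_pic_addEquiv [PicGrp.Law Y] [Injective I] {A : Type*} [AddCommGroup A]
    (δ : Q.1.obj (op (⊤ : Opens X.toTopCat)) →+ A) (hδ : Function.Surjective δ)
    (hker : ∀ q, δ q = 0 ↔ ∃ e₀ : I.1.obj (op (⊤ : Opens X.toTopCat)), g.hom.app (op ⊤) e₀ = q) :
    ∃ e : Additive (PicLoc.PicSet Y) ≃+ A, ∀ (q : Q.1.obj (op (⊤ : Opens X.toTopCat)))
      (M : Y.Modules) (hM : PicF.IsInvertible M), RelP f g ud q M →
        e (Additive.ofMul (PicGrp.cls M hM)) = δ q := by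
  have hP1 := exists_isDatP_of_section (ud := ud) hf hex hloc
  choose Lq Wq hinv hWq hdat using hP1
  have hrel : ∀ q, RelP f g ud q (Lq q) := fun q => ⟨Wq q, hWq q, hdat q⟩
  let ψ : Q.1.obj (op (⊤ : Opens X.toTopCat)) →+ Additive (PicLoc.PicSet Y) :=
    AddMonoidHom.mk' (fun q => Additive.ofMul (PicGrp.cls (Lq q) (hinv q))) (by
      intro q q'
      change Additive.ofMul (PicGrp.cls (Lq (q + q')) (hinv (q + q'))) =
        Additive.ofMul (PicGrp.cls (Lq q) (hinv q) * PicGrp.cls (Lq q') (hinv q'))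
      apply congrArg Additive.ofMul
      apply Subtype.ext
      rw [PicGrp.mul_val, PicGrp.cls_val, PicGrp.cls_val, PicGrp.cls_val, PicGrp.mulCl_cl,
        PicGrp.cl_eq_cl_iff]
      exact RelP.iso hf hex (hrel (q + q')) ((hrel q).add (hrel q')))
  have hψ : ∀ q, ψ q = Additive.ofMul (PicGrp.cls (Lq q) (hinv q)) := fun q => rfl
  have hψrel : ∀ (q : Q.1.obj (op (⊤ : Opens X.toTopCat))) (M : Y.Modules)
      (hM : PicF.IsInvertible M), RelP f g ud q M → ψ q = Additive.ofMul (PicGrp.cls M hM) := by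
    intro q M hM hr
    rw [hψ]
    exact congrArg Additive.ofMul ((PicGrp.cls_eq_cls_iff _ _).2 (RelP.iso hf hex (hrel q) hr))
  have hψsurj : Function.Surjective ψ := by
    intro a
    obtain ⟨L, hL, ha⟩ := PicGrp.exists_eq_cls (Additive.toMul a)
    obtain ⟨q, W, hW, hd⟩ := exists_isDatP_of_module (ud := ud) hgf L (hfr L hL)
    refine ⟨q, ?_⟩
    rw [hψrel q L hL ⟨W, hW, hd⟩, ← ha]
    rfl
  have hkereq : ψ.ker = δ.ker := by
    ext q
    rw [AddMonoidHom.mem_ker, AddMonoidHom.mem_ker, hker, hψ]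
    have h0 : (0 : Additive (PicLoc.PicSet Y)) = Additive.ofMul (PicGrp.cls (Coh.structureModule Y)
        (PicLoc.isInvertible_structureModule Y)) := by
      change Additive.ofMul (1 : PicLoc.PicSet Y) = _
      rw [PicGrp.one_eq_unitPicSet, PicGrp.unitPicSet_eq_cls]
    rw [h0]
    constructor
    · intro h
      have h1 : PicGrp.cls (Lq q) (hinv q) = PicGrp.cls (Coh.structureModule Y)
          (PicLoc.isInvertible_structureModule Y) := Additive.ofMul.injective h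
      obtain ⟨Φ⟩ := (PicGrp.cls_eq_cls_iff _ _).1 h1
      exact (hdat q).exists_lift_of_iso hgf (hWq q) Φ
    · rintro ⟨e₀, rfl⟩
      apply congrArg Additive.ofMul
      exact (PicGrp.cls_eq_cls_iff _ _).2 (RelP.iso hf hex (hrel _)
        ⟨fun _ => ⊤, fun _ => trivial, isDatP_structure f g ud e₀⟩)
  obtain ⟨e, he⟩ := exists_addEquiv_of_ker_eq ψ δ hψsurj hδ hkereq
  refine ⟨e, fun q M hM hr => ?_⟩
  rw [← hψrel q M hM hr, he]

include ud hgf hfr in
/-- every invertible module on `Y` is related to a global section of `Q` -/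
theorem exists_relP [Injective I] (M : Y.Modules) (hM : PicF.IsInvertible M) :
    ∃ q : Q.1.obj (op (⊤ : Opens X.toTopCat)), RelP f g ud q M := by
  obtain ⟨q, W, hW, hd⟩ := exists_isDatP_of_module (ud := ud) hgf M (hfr M hM)
  exact ⟨q, W, hW, hd⟩

end Main

end Groth.Agent.Lib.Helper8PicRelP
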