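import Mathlib
import Groth.Agent.Lib.Helper8PicRelP
import Groth.Agent.Lib.Helper23PB

/-!
# Pullback of invertible modules and the relation `RelP` (helper8)

If `(G, I, Q)` on `X` computes `Pic X` (`UnitsIdP (𝟙 X) G`), `(G₁, I₁, Q₁)` on `X` computes `Pic Y`
(`UnitsIdP p G₁`) and `(α, β, γ)` is a morphism between them inducing `p^♯` on units, then
`RelP q L` implies `RelP (γ q) (p^* L)`.
-/

set_option autoImplicit false
universe u w
open CategoryTheory CategoryTheory.Limits AlgebraicGeometry TopologicalSpace Opposite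

namespace Groth.Agent.Lib.Helper8PicPull

open Groth.Agent.Lib.Helper6 Groth.Agent.Lib.Helper23.SecTw Groth.Agent.Lib.Helper23.GenLocus
  Groth.Agent.Lib.Helper8ZarCech2 Groth.Agent.Lib.Helper8PicRelP Groth.Agent.Lib.Helper23.PB
  Groth.Agent.Helper13PullbackUnit

variable {X Y : Scheme.{u}} (p : Y ⟶ X)
variable {G I Q G₁ I₁ Q₁ : Sh.{u, w} X.toTopCat} {f : G ⟶ I} {g : I ⟶ Q} {f₁ : G₁ ⟶ I₁} {g₁ : I₁ ⟶ Q₁}
  (ud : UnitsIdP (𝟙 X) G) (ud₁ : UnitsIdP p G₁)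
  (α : G ⟶ G₁) (β : I ⟶ I₁) (γ : Q ⟶ Q₁)
  (hfβ : f ≫ β = α ≫ f₁) (hgγ : g ≫ γ = β ≫ g₁)
  (hα : ∀ (U : X.Opens) (a : G.1.obj (op U)),
    ud₁.fn U (α.hom.app (op U) a) = (p.app U).hom (ud.fn U a))

include hfβ hgγ hα in
theorem relP_pullback {q : Q.1.obj (op (⊤ : Opens X.toTopCat))} {L : X.Modules}
    (hL : PicF.IsInvertible L) (h : RelP f g ud q L) :
    RelP f₁ g₁ ud₁ (γ.hom.app (op ⊤) q) ((Scheme.Modules.pullback p).obj L) := by
  haveI : L.IsQuasicoherent := isQuasicoherent_of_isInvertible L hL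
  obtain ⟨W₀, hW₀, hd₀⟩ := h
  have haff : ∀ x : X, ∃ W : X.Opens, IsAffineOpen W ∧ x ∈ W ∧ W ≤ W₀ x := fun x =>
    exists_isAffineOpen_mem_and_subset (X := X) (x := x) (U := W₀ x) (hW₀ x)
  choose W hWaff hW hWW₀ using haff
  obtain ⟨t, c, e, ht, hc, he, htr⟩ := hd₀.refine W hWW₀
  refine ⟨W, hW, fun x => β.hom.app (op (W x)) (t x), fun x y => α.hom.app (op (W x ⊓ W y)) (c x y),
    fun x => unitSec p L le_rfl (e x), ?_, ?_, ?_, ?_⟩
  · intro x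
    have h1 : g₁.hom.app (op (W x)) (β.hom.app (op (W x)) (t x)) =
        γ.hom.app (op (W x)) (g.hom.app (op (W x)) (t x)) :=
      (congrArg (fun m : I ⟶ Q₁ => m.hom.app (op (W x)) (t x)) hgγ).symm
    rw [h1, ht, app_rs]
  · intro x y
    have h1 : f₁.hom.app (op (W x ⊓ W y)) (α.hom.app (op (W x ⊓ W y)) (c x y)) =
        β.hom.app (op (W x ⊓ W y)) (f.hom.app (op (W x ⊓ W y)) (c x y)) :=
      (congrArg (fun m : G ⟶ I₁ => m.hom.app (op (W x ⊓ W y)) (c x y)) hfβ).symm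
    rw [h1, hc, map_sub, app_rs, app_rs]
  · intro x
    exact isGen_unitSec p L (hWaff x) (e x) (he x)
  · intro x y
    rw [hα]
    have h2 := res_unitSec_of_transition p L (e x) (e y) (ud.fn (W x ⊓ W y) (c x y)) (htr x y)
    have h3 : (p.appLE (W x ⊓ W y) (p ⁻¹ᵁ (W x ⊓ W y)) le_rfl).hom (ud.fn (W x ⊓ W y) (c x y)) =
        (p.app (W x ⊓ W y)).hom (ud.fn (W x ⊓ W y) (c x y)) := by
      rw [Scheme.Hom.appLE_eq_app]
    rw [← h3]
    exact h2

end Groth.Agent.Lib.Helper8PicPull
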