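import Mathlib
import Groth.Prelude.Def_CohTop

/-!
# Short exactness of a complex of abelian sheaves on a space from conditions on sections (helper8)

`shortExact_of_sections_loc`: a short complex of abelian sheaves on a topological space whose first map is
injective on sections, which is exact in the middle on sections, and whose second map is locally
surjective on sections, is short exact.
-/

set_option autoImplicit false
universe u
open CategoryTheory CategoryTheory.Limits TopologicalSpace Opposite

namespace Groth.Agent.Lib.Helper8TopSES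

variable {Y : TopCat.{u}}

theorem shortExact_of_sections_loc (S : ShortComplex (CohTop.Ab Y))
    (hinj : ∀ W : (Opens Y)ᵒᵖ, Function.Injective (S.f.hom.app W))
    (hex : ∀ (W : (Opens Y)ᵒᵖ) (b : S.X₂.obj.obj W), S.g.hom.app W b = 0 →
      ∃ a : S.X₁.obj.obj W, S.f.hom.app W a = b)
    (hloc : ∀ (W : Opens Y) (c : S.X₃.obj.obj (op W)) (y : Y), y ∈ W →
      ∃ (V : Opens Y) (hV : V ≤ W), y ∈ V ∧
        ∃ b : S.X₂.obj.obj (op V), S.g.hom.app (op V) b = S.X₃.obj.map (homOfLE hV).op c) :
    S.ShortExact := by
  let J := Opens.grothendieckTopology Y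
  let P := S.map (sheafToPresheaf J AddCommGrpCat.{u})
  have hP : P.Exact := by
    rw [ShortComplex.exact_iff_isZero_homology]
    apply Functor.isZero
    intro W
    have e := P.mapHomologyIso ((evaluation _ _).obj W)
    have hW : (P.map ((evaluation _ _).obj W)).Exact := by
      rw [ShortComplex.ab_exact_iff]
      intro b hb
      exact hex W b hb
    rw [ShortComplex.exact_iff_isZero_homology] at hW
    exact hW.of_iso e.symm
  have hS : ((P.map (presheafToSheaf J AddCommGrpCat.{u}))).Exact := hP.map _
  have e : P.map (presheafToSheaf J AddCommGrpCat.{u}) ≅ S :=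
    (S.mapNatIso (sheafificationNatIso J AddCommGrpCat.{u})).symm
  refine ShortComplex.ShortExact.mk' (ShortComplex.exact_of_iso e hS) ?_ ?_
  · haveI : ∀ W, Mono (S.f.hom.app W) := fun W => (AddCommGrpCat.mono_iff_injective _).2 (hinj W)
    haveI : Mono S.f.hom := NatTrans.mono_of_mono_app _
    exact Sheaf.Hom.mono_of_presheaf_mono _ _ _
  · haveI : Sheaf.IsLocallySurjective S.g := ⟨fun {U} s => by
      intro y hy
      obtain ⟨V, hV, hyV, b, hb⟩ := hloc U s y hy
      exact ⟨V, homOfLE hV, ⟨b, hb⟩, hyV⟩⟩
    infer_instance

end Groth.Agent.Lib.Helper8TopSES
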