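import Mathlib
import Groth.Prelude.Def_UnitsSh
import Groth.Prelude.Def_ClSub2
import Groth.Agent.Lib.Helper23IdealSec
import Groth.Agent.Lib.Helper23PB
import Groth.Agent.Lib.H6xOshSurj
import Groth.Agent.Lib.Helper8TopSES

/-!
# The units sequence of a square-zero thickening (helper8)

For a quasi-coherent ideal `J` with `J * J = ⊥` on a scheme `X`, cutting out `i : X₀ ⟶ X`:
the morphism of abelian sheaves `J ⟶ O_X^×`, `f ↦ 1 + f`, and the short exact sequence
`0 ⟶ J ⟶ O_X^× ⟶ i_* O_{X₀}^× ⟶ 0`.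
-/

set_option autoImplicit false
universe u
open CategoryTheory CategoryTheory.Limits AlgebraicGeometry TopologicalSpace Opposite

namespace Groth.Agent.Lib.Helper8SqZeroSeq

open Groth.Agent.Lib.Helper6 Groth.Agent.Lib.Helper23.GenLocus Groth.Agent.Lib.Helper23.PB
  Groth.Agent.Lib.Helper20.IdealModSec Groth.Agent.Lib.Helper23.IdealSec
  Groth.Agent.Lib.Helper23.SecTw Groth.Agent.Lib.Helper23.Extend

variable {X : Scheme.{u}} (J : X.IdealSheafData)

/-- the function of a section of the ideal module -/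
noncomputable def fnJ (U : X.Opens) (a : Γ(ClSub.idealMod J, U)) : Γ(X, U) :=
  ofS U ((ClSub.idealModι J).app U a)

lemma fnJ_add (U : X.Opens) (a b : Γ(ClSub.idealMod J, U)) :
    fnJ J U (a + b) = fnJ J U a + fnJ J U b :=
  map_add ((ClSub.idealModι J).app U).hom a b

lemma fnJ_zero (U : X.Opens) : fnJ J U 0 = 0 :=
  map_zero ((ClSub.idealModι J).app U).hom

lemma fnJ_injective (U : X.Opens) : Function.Injective (fnJ J U) :=
  ι_injective J U

lemma fnJ_res {U V : X.Opens} (h : V ≤ U) (a : Γ(ClSub.idealMod J, U)) :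
    fnJ J V (res (ClSub.idealMod J) h a) = resf h (fnJ J U a) :=
  app_map (ClSub.idealModι J) (homOfLE h) a

lemma app_fnJ (U : X.Opens) (a : Γ(ClSub.idealMod J, U)) :
    (J.subschemeι.app U).hom (fnJ J U a) = 0 :=
  ι_toSubscheme J U a

lemma exists_fnJ_eq (U : X.Opens) (r : Γ(X, U)) (hr : (J.subschemeι.app U).hom r = 0) :
    ∃ a : Γ(ClSub.idealMod J, U), fnJ J U a = r :=
  exists_eq_ι J U (toS U r) hr


variable {J}

lemma fnJ_mul (hJ : J * J = ⊥) (U : X.Opens) (a b : Γ(ClSub.idealMod J, U)) :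
    fnJ J U a * fnJ J U b = 0 := by
  apply resf_ext_affine
  intro A hA hAaff
  have ha : resf hA (fnJ J U a) ∈ J.ideal ⟨A, hAaff⟩ := by
    rw [← fnJ_res]
    exact ι_mem_ideal J ⟨A, hAaff⟩ _
  have hb : resf hA (fnJ J U b) ∈ J.ideal ⟨A, hAaff⟩ := by
    rw [← fnJ_res]
    exact ι_mem_ideal J ⟨A, hAaff⟩ _
  have h : resf hA (fnJ J U a) * resf hA (fnJ J U b) ∈ (J * J).ideal ⟨A, hAaff⟩ := by
    rw [Scheme.IdealSheafData.ideal_mul]
    exact Ideal.mul_mem_mul ha hb
  rw [hJ] at h
  have h0 : resf hA (fnJ J U a) * resf hA (fnJ J U b) = 0 := h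
  have e1 : resf hA (fnJ J U a * fnJ J U b) = resf hA (fnJ J U a) * resf hA (fnJ J U b) :=
    map_mul (X.presheaf.map (homOfLE hA).op).hom _ _
  have e2 : resf hA (0 : Γ(X, U)) = 0 := map_zero (X.presheaf.map (homOfLE hA).op).hom
  rw [e1, h0, e2]

/-- the unit `1 + f` attached to a section `f` of the square-zero ideal -/
noncomputable def unitJ (hJ : J * J = ⊥) (U : X.Opens) (a : Γ(ClSub.idealMod J, U)) : (Γ(X, U))ˣ where
  val := 1 + fnJ J U a
  inv := 1 - fnJ J U a
  val_inv := by
    have h := fnJ_mul hJ U a a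
    linear_combination (-1 : Γ(X, U)) * h
  inv_val := by
    have h := fnJ_mul hJ U a a
    linear_combination (-1 : Γ(X, U)) * h

lemma unitJ_val (hJ : J * J = ⊥) (U : X.Opens) (a : Γ(ClSub.idealMod J, U)) :
    (unitJ hJ U a).val = 1 + fnJ J U a := rfl

lemma unitJ_add (hJ : J * J = ⊥) (U : X.Opens) (a b : Γ(ClSub.idealMod J, U)) :
    unitJ hJ U (a + b) = unitJ hJ U a * unitJ hJ U b := by
  apply Units.ext
  rw [Units.val_mul, unitJ_val, unitJ_val, unitJ_val, fnJ_add]
  have h := fnJ_mul hJ U a b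
  linear_combination (-1 : Γ(X, U)) * h

lemma unitJ_res (hJ : J * J = ⊥) {U V : X.Opens} (h : V ≤ U) (a : Γ(ClSub.idealMod J, U)) :
    unitJ hJ V (res (ClSub.idealMod J) h a) =
      Units.map (X.presheaf.map (homOfLE h).op).hom.toMonoidHom (unitJ hJ U a) := by
  apply Units.ext
  rw [unitJ_val, fnJ_res]
  change 1 + resf h (fnJ J U a) = resf h (1 + fnJ J U a)
  have e1 : resf h (1 + fnJ J U a) = resf h 1 + resf h (fnJ J U a) :=
    map_add (X.presheaf.map (homOfLE h).op).hom _ _
  have e2 : resf h (1 : Γ(X, U)) = 1 := map_one (X.presheaf.map (homOfLE h).op).hom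
  rw [e1, e2]

lemma unitJ_injective (hJ : J * J = ⊥) (U : X.Opens) : Function.Injective (unitJ hJ U) := by
  intro a b hab
  apply fnJ_injective J U
  have h := congrArg Units.val hab
  rw [unitJ_val, unitJ_val] at h
  exact add_left_cancel h


/-- the morphism of abelian sheaves `J ⟶ O_X^×`, `f ↦ 1 + f` -/
noncomputable def phi (hJ : J * J = ⊥) : Coh.toAb (ClSub.idealMod J) ⟶ UnitsSh.unitsAb X :=
  ⟨{ app := fun U => AddCommGrpCat.ofHom (AddMonoidHom.mk'
        (fun a : Γ(ClSub.idealMod J, U.unop) =>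
          (UnitsSh.sectOfUnit (X := X.toTopCat) (O := X.presheaf) (U := U) (unitJ hJ U.unop a) :
            (UnitsSh.unitsAb X).obj.obj U))
        (fun a b => by
          exact congrArg (fun v => (UnitsSh.sectOfUnit (X := X.toTopCat) (O := X.presheaf) (U := U) v :
            (UnitsSh.unitsAb X).obj.obj U)) (unitJ_add hJ U.unop a b)))
     naturality := fun U V f => by
      ext a
      have hle : V.unop ≤ U.unop := leOfHom f.unop
      obtain rfl : f = (homOfLE hle).op := Quiver.Hom.unop_inj (Subsingleton.elim _ _)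
      have h := unitJ_res hJ hle a
      exact congrArg (fun v => (UnitsSh.sectOfUnit (X := X.toTopCat) (O := X.presheaf) (U := V) v :
        (UnitsSh.unitsAb X).obj.obj V)) h }⟩


lemma unitOfSect_phi (hJ : J * J = ⊥) (U : X.Opens) (a : Γ(ClSub.idealMod J, U)) :
    UnitsSh.unitOfSect (X := X.toTopCat) (O := X.presheaf) ((phi hJ).hom.app (op U) a) = unitJ hJ U a := rfl

lemma phi_val (hJ : J * J = ⊥) (U : X.Opens) (f : (ClSub.idealMod J).val.obj (op U)) :
    (UnitsSh.unitOfSect ((phi hJ).hom.app (op U) f)).val =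
      1 + (show X.sheaf.obj.obj (op U) from (ClSub.idealModι J).val.app (op U) f) := rfl

lemma phi_comap (hJ : J * J = ⊥) : phi hJ ≫ UnitsSh.comap J.subschemeι = 0 := by
  apply Sheaf.hom_ext
  ext U a
  change UnitsSh.sectOfUnit (Units.map (J.subschemeι.app U.unop).hom.toMonoidHom (unitJ hJ U.unop a)) = 0
  have h : Units.map (J.subschemeι.app U.unop).hom.toMonoidHom (unitJ hJ U.unop a) = 1 := by
    apply Units.ext
    change (J.subschemeι.app U.unop).hom (1 + fnJ J U.unop a) = 1
    rw [map_add, map_one, app_fnJ, add_zero]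
  rw [h]
  rfl


/-- a unit of `O_X(U)` mapping to `1` on the closed subscheme is of the form `1 + f` -/
lemma exists_unitJ_eq (hJ : J * J = ⊥) (U : X.Opens) (b : (Γ(X, U))ˣ)
    (hb : Units.map (J.subschemeι.app U).hom.toMonoidHom b = 1) : ∃ a, unitJ hJ U a = b := by
  have h1 : (J.subschemeι.app U).hom b.val = 1 := congrArg Units.val hb
  have h : (J.subschemeι.app U).hom (b.val - 1) = 0 := by
    rw [map_sub, map_one, h1, sub_self]
  obtain ⟨a, ha⟩ := exists_fnJ_eq J U _ h
  refine ⟨a, Units.ext ?_⟩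
  rw [unitJ_val, ha]
  ring

/-- functions lift along the closed immersion over affine opens -/
lemma app_surjective (V : X.Opens) (hV : IsAffineOpen V) :
    Function.Surjective (J.subschemeι.app V).hom := by
  have h := Groth.Agent.Lib.H6xOshSurj.appLE_surjective J.subschemeι V hV (J.subschemeι ⁻¹ᵁ V)
    le_rfl le_rfl
  rw [Scheme.Hom.appLE_eq_app] at h
  exact h

/-- units lift along the closed immersion over affine opens -/
lemma exists_unit_lift (hJ : J * J = ⊥) (V : X.Opens) (hV : IsAffineOpen V)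
    (c : (Γ(J.subscheme, J.subschemeι ⁻¹ᵁ V))ˣ) :
    ∃ b : (Γ(X, V))ˣ, Units.map (J.subschemeι.app V).hom.toMonoidHom b = c := by
  obtain ⟨r, hr⟩ := app_surjective (J := J) V hV c.val
  obtain ⟨r', hr'⟩ := app_surjective (J := J) V hV c.inv
  have h : (J.subschemeι.app V).hom (r * r' - 1) = 0 := by
    rw [map_sub, map_mul, map_one, hr, hr', c.val_inv, sub_self]
  obtain ⟨a, ha⟩ := exists_fnJ_eq J V _ h
  have hu : IsUnit (r * r') := by
    have : r * r' = (unitJ hJ V a).val := by rw [unitJ_val, ha]; ring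
    rw [this]
    exact (unitJ hJ V a).isUnit
  have hr1 : IsUnit r := isUnit_of_mul_isUnit_left hu
  refine ⟨hr1.unit, Units.ext ?_⟩
  exact hr


/-- **the units sequence of a square-zero thickening is short exact** -/
theorem shortExact (hJ : J * J = ⊥) :
    (ShortComplex.mk (phi hJ) (UnitsSh.comap J.subschemeι) (phi_comap hJ)).ShortExact := by
  apply Groth.Agent.Lib.Helper8TopSES.shortExact_of_sections_loc
  · intro W a b hab
    apply unitJ_injective hJ W.unop
    exact hab
  · intro W b hb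
    obtain ⟨a, ha⟩ := exists_unitJ_eq hJ W.unop (UnitsSh.unitOfSect (X := X.toTopCat) (O := X.presheaf) b) hb
    exact ⟨a, ha⟩
  · intro W c y hy
    obtain ⟨V, hVaff, hyV, hVW⟩ := exists_isAffineOpen_mem_and_subset (X := X) (x := y) (U := W) hy
    refine ⟨V, hVW, hyV, ?_⟩
    obtain ⟨b, hb⟩ := exists_unit_lift hJ V hVaff
      (UnitsSh.unitOfSect (X := J.subscheme.toTopCat) (O := J.subscheme.presheaf)
        (((CohTop.push J.subschemeι.base).obj (UnitsSh.unitsAb J.subscheme)).obj.map (homOfLE hVW).op c))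
    exact ⟨UnitsSh.sectOfUnit (X := X.toTopCat) (O := X.presheaf) b, hb⟩

end Groth.Agent.Lib.Helper8SqZeroSeq
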