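import Mathlib
import Groth.Agent.Lib.Helper8SqZeroSeq
import Groth.Agent.Lib.Helper8PicRelP
import Groth.Agent.Lib.Helper8PicPull
import Groth.Agent.Lib.Helper8InjSeq

/-!
# Picard groups of a square-zero thickening (helper8)
-/

set_option autoImplicit false
universe u
open CategoryTheory CategoryTheory.Limits AlgebraicGeometry TopologicalSpace Opposite Abelian

namespace Groth.Agent.Lib.Helper8SqZeroPic

open Groth.Agent.Lib.Helper6 Groth.Agent.Lib.Helper23.SecTw Groth.Agent.Lib.Helper23.GenLocus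
  Groth.Agent.Lib.Helper8ZarCech2 Groth.Agent.Lib.Helper8PicRelP Groth.Agent.Lib.Helper8InjSeq
  Groth.Agent.Lib.Helper8ZarULift Groth.Agent.Lib.Helper8SqZeroSeq

section Gen

variable {X Y : Scheme.{u}} (p : Y ⟶ X)

/-- the direct image of the sheaf of units of `Y` -/
noncomputable abbrev GP : CohTop.Ab X.toTopCat := (CohTop.push p.base).obj (UnitsSh.unitsAb Y)

/-- the direct image of the sheaf of units is the direct image of the sheaf of units -/
noncomputable def udP : UnitsIdP.{u, u} p (show Sh.{u, u} X.toTopCat from GP p) where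
  fn := fun U s => ((UnitsSh.unitOfSect (X := Y.toTopCat) (O := Y.presheaf) (U := op (p ⁻¹ᵁ U)) s :
    (Γ(Y, p ⁻¹ᵁ U))ˣ) : Γ(Y, p ⁻¹ᵁ U))
  fn_add := fun U a b => rfl
  fn_rs := fun h a => rfl
  fn_inj := fun U a b h => by
    have h1 : UnitsSh.unitOfSect (X := Y.toTopCat) (O := Y.presheaf) (U := op (p ⁻¹ᵁ U)) a =
        UnitsSh.unitOfSect (X := Y.toTopCat) (O := Y.presheaf) (U := op (p ⁻¹ᵁ U)) b := Units.ext h
    exact h1
  fn_unit := fun U a => Units.isUnit _
  fn_surj := fun U r hr =>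
    ⟨UnitsSh.sectOfUnit (X := Y.toTopCat) (O := Y.presheaf) (U := op (p ⁻¹ᵁ U)) hr.unit, hr.unit_spec⟩


variable (X) in
/-- the sheaf of units is the sheaf of units -/
noncomputable def udX : UnitsIdP.{u, u} (𝟙 X) (show Sh.{u, u} X.toTopCat from UnitsSh.unitsAb X) where
  fn := fun U s => ((UnitsSh.unitOfSect (X := X.toTopCat) (O := X.presheaf) (U := op U) s :
    (Γ(X, U))ˣ) : Γ(X, U))
  fn_add := fun U a b => rfl
  fn_rs := fun h a => rfl
  fn_inj := fun U a b h => by
    have h1 : UnitsSh.unitOfSect (X := X.toTopCat) (O := X.presheaf) (U := op U) a =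
        UnitsSh.unitOfSect (X := X.toTopCat) (O := X.presheaf) (U := op U) b := Units.ext h
    exact h1
  fn_unit := fun U a => Units.isUnit _
  fn_surj := fun U r hr =>
    ⟨UnitsSh.sectOfUnit (X := X.toTopCat) (O := X.presheaf) (U := op U) hr.unit, hr.unit_spec⟩

/-- frames for the identity -/
lemma hfr_id (M : X.Modules) (hM : PicF.IsInvertible M) (x : X) :
    ∃ (W : X.Opens) (e : Γ(M, (𝟙 X) ⁻¹ᵁ W)), x ∈ W ∧ IsGen M ((𝟙 X) ⁻¹ᵁ W) e := by
  obtain ⟨W, e, hx, he⟩ := exists_gen M hM x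
  exact ⟨W, e, hx, he⟩

/-- frames for a surjective closed immersion -/
lemma hfr_of_closedImmersion [IsClosedImmersion p] (hp : Function.Surjective p.base)
    (M : Y.Modules) (hM : PicF.IsInvertible M) (x : X) :
    ∃ (W : X.Opens) (e : Γ(M, p ⁻¹ᵁ W)), x ∈ W ∧ IsGen M (p ⁻¹ᵁ W) e := by
  obtain ⟨y, rfl⟩ := hp x
  obtain ⟨V, e, hy, he⟩ := exists_gen M hM y
  obtain ⟨W', hW', hW'V⟩ := (p.isEmbedding.isInducing.isOpen_iff).1 V.isOpen
  have hV : p ⁻¹ᵁ (⟨W', hW'⟩ : X.Opens) = V := Opens.ext hW'V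
  refine ⟨⟨W', hW'⟩, ?_⟩
  rw [hV]
  refine ⟨e, ?_, he⟩
  change p.base y ∈ W'
  have : y ∈ p.base ⁻¹' W' := by rw [hW'V]; exact hy
  exact this


/-- the comparison morphism between the injective sequences of `O_X^×` and `p_* O_Y^×` -/
noncomputable def betaP : Injective.under (UnitsSh.unitsAb X) ⟶ Injective.under (GP p) :=
  Injective.factorThru (UnitsSh.comap p ≫ Injective.ι (GP p)) (Injective.ι (UnitsSh.unitsAb X))

lemma f_betaP : Injective.ι (UnitsSh.unitsAb X) ≫ betaP p = UnitsSh.comap p ≫ Injective.ι (GP p) :=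
  Injective.comp_factorThru _ _

/-- the comparison morphism between the injective sequences of `O_X^×` and `p_* O_Y^×` -/
noncomputable def gammaP : cokernel (Injective.ι (UnitsSh.unitsAb X)) ⟶ cokernel (Injective.ι (GP p)) :=
  cokernel.desc (Injective.ι (UnitsSh.unitsAb X)) (betaP p ≫ cokernel.π (Injective.ι (GP p))) (by
    rw [← Category.assoc, f_betaP, Category.assoc, cokernel.condition, comp_zero])

lemma g_gammaP : cokernel.π (Injective.ι (UnitsSh.unitsAb X)) ≫ gammaP p =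
    betaP p ≫ cokernel.π (Injective.ι (GP p)) :=
  cokernel.π_desc _ _ _

/-- the comparison morphism between the injective sequences of `O_X^×` and `p_* O_Y^×` -/
noncomputable def tauP : injSeq (UnitsSh.unitsAb X) ⟶ injSeq (GP p) where
  τ₁ := UnitsSh.comap p
  τ₂ := betaP p
  τ₃ := gammaP p
  comm₁₂ := (f_betaP p).symm
  comm₂₃ := (g_gammaP p).symm


/-- **compatible isomorphisms `Pic X ≃ H¹(X, O_X^×)` and `Pic Y ≃ H¹(X, p_* O_Y^×)`** for a surjective
closed immersion `p : Y ⟶ X` -/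
theorem exists_pic_equivs [IsClosedImmersion p] (hp : Function.Surjective p.base)
    [PicGrp.Law X] [PicGrp.Law Y] (hi : PicGrp.PullMul p) :
    ∃ (e : Additive (PicLoc.PicSet X) ≃+ Ext.{u} (ZLo X.toTopCat) (UnitsSh.unitsAb X) 1)
      (e₁ : Additive (PicLoc.PicSet Y) ≃+ Ext.{u} (ZLo X.toTopCat) (GP p) 1),
      ∀ a : PicLoc.PicSet X, e₁ (Additive.ofMul (PicGrp.pullHom p hi a)) =
        (e (Additive.ofMul a)).comp (Ext.mk₀ (UnitsSh.comap p)) (add_zero 1) := by
  have hS := injSeq_shortExact (UnitsSh.unitsAb X)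
  have hS₁ := injSeq_shortExact (GP p)
  have E : ∃ e : Additive (PicLoc.PicSet X) ≃+ Ext.{u} (ZLo X.toTopCat) (UnitsSh.unitsAb X) 1,
      ∀ (q : (injSeq (UnitsSh.unitsAb X)).X₃.obj.obj (op (⊤ : Opens X.toTopCat))) (M : X.Modules)
        (hM : PicF.IsInvertible M), RelP (fI (UnitsSh.unitsAb X)) (gI (UnitsSh.unitsAb X)) (udX X) q M →
        e (Additive.ofMul (PicGrp.cls M hM)) =
          (dlS (injSeq (UnitsSh.unitsAb X)) hS q : Ext.{u} (ZLo X.toTopCat) (UnitsSh.unitsAb X) 1) :=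
    exists_pic_addEquiv (p := 𝟙 X) (f := fI (UnitsSh.unitsAb X))
      (g := gI (UnitsSh.unitsAb X)) (udX X) hf_I hgf_I hex_I hloc_I hfr_id
      (dlS (injSeq (UnitsSh.unitsAb X)) hS) (dlS_surjective _ hS) (dlS_eq_zero_iff _ hS)
  obtain ⟨e, he⟩ := E
  have E₁ : ∃ e₁ : Additive (PicLoc.PicSet Y) ≃+ Ext.{u} (ZLo X.toTopCat) (GP p) 1,
      ∀ (q : (injSeq (GP p)).X₃.obj.obj (op (⊤ : Opens X.toTopCat))) (M : Y.Modules)
        (hM : PicF.IsInvertible M), RelP (fI (GP p)) (gI (GP p)) (udP p) q M →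
        e₁ (Additive.ofMul (PicGrp.cls M hM)) =
          (dlS (injSeq (GP p)) hS₁ q : Ext.{u} (ZLo X.toTopCat) (GP p) 1) :=
    exists_pic_addEquiv (p := p) (f := fI (GP p))
      (g := gI (GP p)) (udP p) hf_I hgf_I hex_I hloc_I (hfr_of_closedImmersion p hp)
      (dlS (injSeq (GP p)) hS₁) (dlS_surjective _ hS₁) (dlS_eq_zero_iff _ hS₁)
  obtain ⟨e₁, he₁⟩ := E₁
  refine ⟨e, e₁, fun a => ?_⟩
  obtain ⟨L, hL, rfl⟩ := PicGrp.exists_eq_cls a
  obtain ⟨q, hq⟩ := exists_relP (p := 𝟙 X) (f := fI (UnitsSh.unitsAb X))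
    (g := gI (UnitsSh.unitsAb X)) (udX X) hgf_I hfr_id L hL
  rw [he q L hL hq, PicGrp.pullHom_cls]
  have hq₁ := Groth.Agent.Lib.Helper8PicPull.relP_pullback p (udX X) (udP p)
    (α := UnitsSh.comap p) (β := betaP p) (γ := gammaP p) (f_betaP p) (g_gammaP p)
    (fun U a => rfl) hL hq
  rw [he₁ _ _ _ hq₁]
  exact (dlS_naturality hS hS₁ (tauP p) q).symm

end Gen


section SqZero

variable {X : Scheme.{u}} {J : X.IdealSheafData} (hJ : J * J = ⊥)

include hJ in
lemma surjective_subschemeι : Function.Surjective J.subschemeι.base := by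
  intro x
  have h1 : Set.range J.subschemeι = J.support := J.range_subschemeι
  have h2 : (J * J).support = J.support ⊔ J.support := Scheme.IdealSheafData.support_mul J J
  rw [hJ, Scheme.IdealSheafData.support_bot, sup_idem] at h2
  have hx : x ∈ Set.range J.subschemeι := by
    rw [h1, ← h2]
    trivial
  exact hx

/-- the units sequence -/
noncomputable abbrev SJ : ShortComplex (CohTop.Ab X.toTopCat) :=
  ShortComplex.mk (phi hJ) (UnitsSh.comap J.subschemeι) (phi_comap hJ)

include hJ in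
/-- units lift along the closed immersion over opens where functions lift -/
lemma exists_unit_lift_of_surjective (V : X.Opens)
    (hV : Function.Surjective (J.subschemeι.app V).hom)
    (c : (Γ(J.subscheme, J.subschemeι ⁻¹ᵁ V))ˣ) :
    ∃ b : (Γ(X, V))ˣ, Units.map (J.subschemeι.app V).hom.toMonoidHom b = c := by
  obtain ⟨r, hr⟩ := hV c.val
  obtain ⟨r', hr'⟩ := hV c.inv
  have h : (J.subschemeι.app V).hom (r * r' - 1) = 0 := by
    rw [map_sub, map_mul, map_one, hr, hr', c.val_inv, sub_self]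
  obtain ⟨a, ha⟩ := exists_fnJ_eq J V _ h
  have hu : IsUnit (r * r') := by
    have : r * r' = (unitJ hJ V a).val := by rw [unitJ_val, ha]; ring
    rw [this]
    exact (unitJ hJ V a).isUnit
  have hr1 : IsUnit r := isUnit_of_mul_isUnit_left hu
  refine ⟨hr1.unit, Units.ext ?_⟩
  exact hr

include hJ in
/-- global sections of `p_* O^×` lift when global functions lift -/
lemma exists_lift_hom (hsurj : Function.Surjective J.subschemeι.appTop.hom)
    (b : ZLo X.toTopCat ⟶ GP J.subschemeι) :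
    ∃ a : ZLo X.toTopCat ⟶ UnitsSh.unitsAb X, a ≫ UnitsSh.comap J.subschemeι = b := by
  obtain ⟨u, hu⟩ := exists_unit_lift_of_surjective hJ ⊤ hsurj
    (UnitsSh.unitOfSect (X := J.subscheme.toTopCat) (O := J.subscheme.presheaf)
      (secLoAdd X.toTopCat (GP J.subschemeι) b))
  refine ⟨(secLoAdd X.toTopCat (UnitsSh.unitsAb X)).symm
    (UnitsSh.sectOfUnit (X := X.toTopCat) (O := X.presheaf) u), ?_⟩
  apply (secLoAdd X.toTopCat (GP J.subschemeι)).injective
  rw [secLoAdd_comp, AddEquiv.apply_symm_apply]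
  exact hu


include hJ in
/-- **the kernel of `Pic X → Pic X₀` is `H¹(X, J)`** when global functions lift -/
theorem nonempty_ker_pullHom_mulEquiv [PicGrp.Law X] [PicGrp.Law J.subscheme]
    (hi : PicGrp.PullMul J.subschemeι) (hsurj : Function.Surjective J.subschemeι.appTop.hom) :
    Nonempty ((PicGrp.pullHom J.subschemeι hi).ker ≃*
      Multiplicative (Coh.HH X (ClSub.idealMod J) 1)) := by
  obtain ⟨e, e₁, hc⟩ := exists_pic_equivs J.subschemeι (surjective_subschemeι hJ) hi
  have hS : (SJ hJ).ShortExact := shortExact hJ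
  let Ψ : Ext.{u} (ZLo X.toTopCat) (Coh.toAb (ClSub.idealMod J)) 1 →+ Additive (PicLoc.PicSet X) :=
    e.symm.toAddMonoidHom.comp ((Ext.mk₀ (phi hJ)).postcomp (ZLo X.toTopCat) (add_zero 1))
  have hΨ : ∀ x, e (Ψ x) = x.comp (Ext.mk₀ (phi hJ)) (add_zero 1) := fun x =>
    e.apply_symm_apply _
  have hΨinj : Function.Injective Ψ := by
    rw [injective_iff_map_eq_zero]
    intro x hx
    have hx' : x.comp (Ext.mk₀ (phi hJ)) (add_zero 1) = 0 := by
      rw [← hΨ, hx, map_zero]
    obtain ⟨x₃, rfl⟩ := Ext.covariant_sequence_exact₁ (ZLo X.toTopCat) hS x hx' (zero_add 1)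
    obtain ⟨b, rfl⟩ := (Ext.mk₀_bijective _ _).2 x₃
    obtain ⟨a, rfl⟩ := exists_lift_hom hJ hsurj b
    rw [← Ext.mk₀_comp_mk₀, Ext.comp_assoc_of_second_deg_zero, hS.comp_extClass, Ext.comp_zero]
  let Θ : Multiplicative (Ext.{u} (ZLo X.toTopCat) (Coh.toAb (ClSub.idealMod J)) 1) →*
      PicLoc.PicSet X := AddMonoidHom.toMultiplicativeLeft Ψ
  have hΘinj : Function.Injective Θ := fun x y h => hΨinj h
  have hrange : Θ.range = (PicGrp.pullHom J.subschemeι hi).ker := by
    ext a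
    rw [MonoidHom.mem_range, MonoidHom.mem_ker]
    have key : PicGrp.pullHom J.subschemeι hi a = 1 ↔
        (e (Additive.ofMul a)).comp (Ext.mk₀ (UnitsSh.comap J.subschemeι)) (add_zero 1) = 0 := by
      rw [← hc a]
      constructor
      · intro h
        rw [h]
        exact map_zero e₁
      · intro h
        have h2 : Additive.ofMul (PicGrp.pullHom J.subschemeι hi a) = 0 :=
          e₁.injective (h.trans (map_zero e₁).symm)
        exact h2
    rw [key]
    constructor
    · rintro ⟨x, rfl⟩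
      have h1 : e (Additive.ofMul (Θ x)) = (Multiplicative.toAdd x).comp (Ext.mk₀ (phi hJ)) (add_zero 1) :=
        hΨ _
      rw [h1, Ext.comp_assoc_of_third_deg_zero, Ext.mk₀_comp_mk₀, phi_comap hJ, Ext.mk₀_zero,
        Ext.comp_zero]
    · intro h
      obtain ⟨x, hx⟩ := Ext.covariant_sequence_exact₂ (ZLo X.toTopCat) hS _ h
      refine ⟨Multiplicative.ofAdd x, ?_⟩
      apply Additive.ofMul.injective
      apply e.injective
      exact (hΨ x).trans hx
  exact ⟨((MonoidHom.ofInjective hΘinj).trans (MulEquiv.subgroupCongr hrange)).symm⟩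

end SqZero

end Groth.Agent.Lib.Helper8SqZeroPic
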