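import Mathlib
import Groth.Agent.Lib.Helper8SqZeroPic

/-!
# Lifting invertible modules along a square-zero thickening when `H²(X, J) = 0` (helper8)

No group law on the Picard sets is assumed.
-/

set_option autoImplicit false
universe u w
open CategoryTheory CategoryTheory.Limits AlgebraicGeometry TopologicalSpace Opposite Abelian

namespace Groth.Agent.Lib.Helper8SqZeroPic3

open Groth.Agent.Lib.Helper6 Groth.Agent.Lib.Helper23.SecTw Groth.Agent.Lib.Helper23.GenLocus
  Groth.Agent.Lib.Helper8ZarCech2 Groth.Agent.Lib.Helper8PicRelP Groth.Agent.Lib.Helper8InjSeq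
  Groth.Agent.Lib.Helper8ZarULift Groth.Agent.Lib.Helper8SqZeroSeq Groth.Agent.Lib.Helper8SqZeroPic

section Dat

variable {X Y : Scheme.{u}} {p : Y ⟶ X}
variable {G I Q : Sh.{u, w} X.toTopCat} {f : G ⟶ I} {g : I ⟶ Q} {ud : UnitsIdP p G}

/-- changing the section by the image of a global section of `I` does not change the module -/
theorem IsDatP.add_lift {q : Q.1.obj (op (⊤ : Opens X.toTopCat))} {M : Y.Modules} {W : X → X.Opens}
    (h : IsDatP f g ud q M W) (e₀ : I.1.obj (op (⊤ : Opens X.toTopCat))) :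
    IsDatP f g ud (q + g.hom.app (op ⊤) e₀) M W := by
  obtain ⟨t, c, e, ht, hc, he, htr⟩ := h
  refine ⟨fun x => t x + rs I le_top e₀, c, e, ?_, ?_, he, htr⟩
  · intro x
    rw [map_add, ht, app_rs, rs_add]
  · intro x y
    rw [hc, rs_add, rs_add, rs_rs, rs_rs]
    abel

theorem RelP.add_lift {q : Q.1.obj (op (⊤ : Opens X.toTopCat))} {M : Y.Modules}
    (h : RelP f g ud q M) (e₀ : I.1.obj (op (⊤ : Opens X.toTopCat))) :
    RelP f g ud (q + g.hom.app (op ⊤) e₀) M := by
  obtain ⟨W, hW, hd⟩ := h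
  exact ⟨W, hW, IsDatP.add_lift hd e₀⟩

end Dat

section SqZero

variable {X : Scheme.{u}} {J : X.IdealSheafData} (hJ : J * J = ⊥)

include hJ in
/-- **invertible modules lift along a square-zero thickening when `H²(X, J) = 0`** -/
theorem exists_invertible_lift (h2 : Subsingleton (Coh.HH X (ClSub.idealMod J) 2))
    (L₀ : J.subscheme.Modules) (hL₀ : PicF.IsInvertible L₀) :
    ∃ L : X.Modules, PicF.IsInvertible L ∧
      Nonempty ((Scheme.Modules.pullback J.subschemeι).obj L ≅ L₀) := by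
  have hSJ : (SJ hJ).ShortExact := shortExact hJ
  have hS := injSeq_shortExact (UnitsSh.unitsAb X)
  have hS₁ := injSeq_shortExact (GP J.subschemeι)
  -- the class of `L₀`
  have E₁ : ∃ q₁ : (injSeq (GP J.subschemeι)).X₃.obj.obj (op (⊤ : Opens X.toTopCat)),
      RelP (fI (GP J.subschemeι)) (gI (GP J.subschemeι)) (udP J.subschemeι) q₁ L₀ :=
    exists_relP (p := J.subschemeι) (f := fI (GP J.subschemeι))
      (g := gI (GP J.subschemeι)) (udP J.subschemeι) hgf_I
      (hfr_of_closedImmersion J.subschemeι (surjective_subschemeι hJ)) L₀ hL₀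
  obtain ⟨q₁, hq₁⟩ := E₁
  -- its obstruction vanishes
  have h0 : (dlS (injSeq (GP J.subschemeι)) hS₁ q₁).comp hSJ.extClass (show 1 + 1 = 2 from rfl) = 0 :=
    Subsingleton.elim (α := Coh.HH X (ClSub.idealMod J) 2) _ _
  obtain ⟨x₂, hx₂⟩ := Ext.covariant_sequence_exact₃ (ZLo X.toTopCat) hSJ _ rfl h0
  obtain ⟨q, hq⟩ := dlS_surjective (injSeq (UnitsSh.unitsAb X)) hS x₂
  -- the module of `q`
  obtain ⟨L, W, hL, hW, hd⟩ := exists_isDatP_of_section (p := 𝟙 X) (f := fI (UnitsSh.unitsAb X))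
    (g := gI (UnitsSh.unitsAb X)) (ud := udX X) hf_I hex_I hloc_I q
  have hrel : RelP (fI (UnitsSh.unitsAb X)) (gI (UnitsSh.unitsAb X)) (udX X) q L := ⟨W, hW, hd⟩
  have hrel₁ := Groth.Agent.Lib.Helper8PicPull.relP_pullback J.subschemeι (udX X)
    (udP J.subschemeι) (α := UnitsSh.comap J.subschemeι) (β := betaP J.subschemeι)
    (γ := gammaP J.subschemeι) (f_betaP J.subschemeι) (g_gammaP J.subschemeι)
    (fun U a => rfl) hL hrel
  -- compare the classes
  have hnat := dlS_naturality hS hS₁ (tauP J.subschemeι) q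
  have hdl : dlS (injSeq (GP J.subschemeι)) hS₁
      (((tauP J.subschemeι).τ₃.hom.app (op ⊤) q :
        (injSeq (GP J.subschemeι)).X₃.obj.obj (op (⊤ : Opens X.toTopCat))) - q₁) = 0 := by
    rw [map_sub, sub_eq_zero]
    exact (hnat.symm.trans (by rw [hq]; exact hx₂))
  obtain ⟨e₀, he₀⟩ := (dlS_eq_zero_iff (injSeq (GP J.subschemeι)) hS₁ _).1 hdl
  have hrel₂ := RelP.add_lift hq₁ e₀
  have he₀' : (gI (GP J.subschemeι)).hom.app (op ⊤) e₀ =
      ((tauP J.subschemeι).τ₃.hom.app (op ⊤) q :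
        (injSeq (GP J.subschemeι)).X₃.obj.obj (op (⊤ : Opens X.toTopCat))) - q₁ := he₀
  rw [he₀', add_sub_cancel] at hrel₂
  exact ⟨L, hL, RelP.iso hf_I hex_I hrel₁ hrel₂⟩

end SqZero

end Groth.Agent.Lib.Helper8SqZeroPic3
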