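import Mathlib
import Groth.Agent.Lib.Helper8SqZeroPic3
import Groth.Agent.Lib.Helper13UnitSub
import Groth.Agent.Lib.Helper16ClosedEmb
import Groth.Agent.Lib.Helper20OmegaAff

/-!
# Lifting invertible modules along a square-zero thickening when `H²(X₀, i^* J) = 0` (helper8)
-/

set_option autoImplicit false
universe u w
open CategoryTheory CategoryTheory.Limits AlgebraicGeometry TopologicalSpace Opposite Abelian

namespace Groth.Agent.Lib.Helper8SqZeroPic4

open Groth.Agent.Lib.Helper6 Groth.Agent.Lib.Helper23.SecTw Groth.Agent.Lib.Helper23.GenLocus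
  Groth.Agent.Lib.Helper8ZarCech2 Groth.Agent.Lib.Helper8PicRelP Groth.Agent.Lib.Helper8InjSeq
  Groth.Agent.Lib.Helper8ZarULift Groth.Agent.Lib.Helper8SqZeroSeq Groth.Agent.Lib.Helper8SqZeroPic
  Groth.Agent.Lib.Helper23.IdealSec

variable {X : Scheme.{u}} {J : X.IdealSheafData} (hJ : J * J = ⊥)

include hJ in
/-- a square-zero ideal kills its own sections -/
lemma smul_eq_zero_of_mem (U : X.affineOpens) (r : Γ(X, U.1)) (hr : r ∈ J.ideal U)
    (m : Γ(ClSub.idealMod J, U.1)) : r • m = 0 := by
  apply fnJ_injective J U.1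
  have h1 : fnJ J U.1 (r • m) = r * fnJ J U.1 m :=
    Scheme.Modules.Hom.app_smul (ClSub.idealModι J) r m
  have h2 : fnJ J U.1 m ∈ J.ideal U := ι_mem_ideal J U m
  have h3 : r * fnJ J U.1 m ∈ (J * J).ideal U := by
    rw [Scheme.IdealSheafData.ideal_mul]
    exact Ideal.mul_mem_mul hr h2
  rw [hJ] at h3
  have h4 : r * fnJ J U.1 m = 0 := h3
  rw [h1, h4, fnJ_zero]

include hJ in
lemma isIso_unit_idealMod :
    IsIso ((Scheme.Modules.pullbackPushforwardAdjunction J.subschemeι).unit.app (ClSub.idealMod J)) :=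
  Groth.Agent.Helper13UnitSub.isIso_unit_subscheme (ClSub.idealMod J) J
    (fun U r hr m => smul_eq_zero_of_mem hJ U r hr m)

/-- subsingleton `Ext` groups are invariant under isomorphism of the target -/
lemma subsingleton_ext_of_iso {C : Type*} [Category C] [Abelian C] [HasExt.{w} C]
    {Z A A' : C} (φ : A ⟶ A') [IsIso φ] (q : ℕ) (h : Subsingleton (Ext.{w} Z A' q)) :
    Subsingleton (Ext.{w} Z A q) := by
  have key : ∀ z : Ext.{w} Z A q, z = 0 := by
    intro z
    have h1 : (z.comp (Ext.mk₀ φ) (add_zero q)).comp (Ext.mk₀ (inv φ)) (add_zero q) = z := by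
      rw [Ext.comp_assoc_of_third_deg_zero, Ext.mk₀_comp_mk₀, IsIso.hom_inv_id, Ext.comp_mk₀_id]
    rw [← h1, Subsingleton.elim (z.comp (Ext.mk₀ φ) (add_zero q)) 0, Ext.zero_comp]
  exact ⟨fun x y => (key x).trans (key y).symm⟩

include hJ in
/-- `H^q(X, J)` vanishes as soon as `H^q(X₀, i^* J)` does -/
theorem subsingleton_HH_of_pullback (q : ℕ)
    (h2 : Subsingleton (Coh.HH J.subscheme
      ((Scheme.Modules.pullback J.subschemeι).obj (ClSub.idealMod J)) q)) :
    Subsingleton (Coh.HH X (ClSub.idealMod J) q) := by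
  have hcl : Topology.IsClosedEmbedding J.subschemeι.base := J.subschemeι.isClosedEmbedding
  obtain ⟨e⟩ := Groth.Agent.Lib.Helper16.ClosedEmb.nonempty_H_push J.subschemeι.base hcl
    (Coh.toAb ((Scheme.Modules.pullback J.subschemeι).obj (ClSub.idealMod J))) q
  have h3 : Subsingleton (CohTop.H ((CohTop.push J.subschemeι.base).obj
      (Coh.toAb ((Scheme.Modules.pullback J.subschemeι).obj (ClSub.idealMod J)))) q) :=
    e.symm.injective.subsingleton
  let φ : Coh.toAb (ClSub.idealMod J) ⟶ (CohTop.push J.subschemeι.base).obj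
      (Coh.toAb ((Scheme.Modules.pullback J.subschemeι).obj (ClSub.idealMod J))) :=
    (SheafOfModules.toSheaf X.ringCatSheaf).map
      ((Scheme.Modules.pullbackPushforwardAdjunction J.subschemeι).unit.app (ClSub.idealMod J))
  have hiso := isIso_unit_idealMod hJ
  haveI : IsIso φ := by
    let ψ := @asIso _ _ _ _ _ hiso
    have : φ = ((SheafOfModules.toSheaf X.ringCatSheaf).mapIso ψ).hom := rfl
    rw [this]
    infer_instance
  exact subsingleton_ext_of_iso φ q h3

include hJ in
/-- **invertible modules lift along a square-zero thickening when `H²(X₀, i^* J) = 0`** -/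
theorem exists_invertible_lift' (h2 : Subsingleton (Coh.HH J.subscheme
      ((Scheme.Modules.pullback J.subschemeι).obj (ClSub.idealMod J)) 2))
    (L₀ : J.subscheme.Modules) (hL₀ : PicF.IsInvertible L₀) :
    ∃ L : X.Modules, PicF.IsInvertible L ∧
      Nonempty ((Scheme.Modules.pullback J.subschemeι).obj L ≅ L₀) :=
  Groth.Agent.Lib.Helper8SqZeroPic3.exists_invertible_lift hJ
    (subsingleton_HH_of_pullback hJ 2 h2) L₀ hL₀

end Groth.Agent.Lib.Helper8SqZeroPic4
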