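import Mathlib
import Groth.Agent.Lib.Helper8SqZeroPic4
import Groth.Agent.Lib.Helper23Serre
import Groth.Agent.Lib.Helper13AffBC

/-!
# Principal square-zero ideals `t·O_X` whose annihilator cuts out a closed subscheme `X₀` (helper8)

If `J ⊆ O_X` is an ideal sheaf with `J = t·O_X` on affine opens, and the closed immersion
`i₀ : X₀ ⟶ X` has ideal `Ann(t)` on affine opens, then `J ≅ i₀_* O_{X₀}` as `O_X`-modules.
-/

set_option autoImplicit false
universe u
open CategoryTheory CategoryTheory.Limits AlgebraicGeometry TopologicalSpace Opposite Abelian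

namespace Groth.Agent.Lib.Helper8UnitsThick1

open Groth.Agent.Lib.Helper6 Groth.Agent.Lib.Helper23.SecTw Groth.Agent.Lib.Helper23.GenLocus
  Groth.Agent.Lib.Helper8SqZeroSeq Groth.Agent.Lib.Helper23.IdealSec Groth.Agent.Lib.Helper23.Serre

variable {X X₀ : Scheme.{u}} (J : X.IdealSheafData) (i₀ : X₀ ⟶ X) (t : Γ(X, ⊤))

lemma resF_res {U V : X.Opens} (h : V ≤ U) : resf h (resF t U) = resF t V := by
  unfold resF
  change (X.presheaf.map (homOfLE h).op).hom ((X.presheaf.map (homOfLE le_top).op).hom t) = _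
  rw [← CommRingCat.comp_apply, ← Functor.map_comp]
  rfl

variable (hJt : J.subschemeι.appTop.hom t = 0)

include hJt in
lemma app_resF (U : X.Opens) : (J.subschemeι.app U).hom (resF t U) = 0 := by
  have h := J.subschemeι.naturality (homOfLE (le_top : U ≤ ⊤)).op
  have h2 := congrArg (fun φ => φ.hom t) h
  simp only [CommRingCat.comp_apply] at h2
  unfold resF
  erw [h2]
  have : (J.subschemeι.app ⊤).hom t = 0 := hJt
  rw [this, map_zero]

include hJt in
lemma mulBy_toSubscheme : mulBy t ≫ ClSub.toSubscheme J = 0 := by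
  refine Scheme.Modules.hom_ext _ _ fun U => ?_
  ext a
  change (J.subschemeι.app U).hom (ofS U ((mulBy t).app U (toS U (ofS U a)))) = 0
  rw [mulBy_app, ofS_toS, map_mul, app_resF J t hJt, mul_zero]

/-- multiplication by `t`, as a morphism `O_X ⟶ J` -/
noncomputable def mulJ : Coh.structureModule X ⟶ ClSub.idealMod J :=
  kernel.lift (ClSub.toSubscheme J) (mulBy t) (mulBy_toSubscheme J t hJt)

lemma mulJ_ι : mulJ J t hJt ≫ ClSub.idealModι J = mulBy t :=
  kernel.lift_ι _ _ _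

lemma fnJ_mulJ (U : X.Opens) (a : Γ(X, U)) :
    fnJ J U ((mulJ J t hJt).app U (toS U a)) = a * resF t U := by
  have h := congrArg (fun φ => φ.app U (toS U a)) (mulJ_ι J t hJt)
  simp only at h
  rw [mulBy_app] at h
  exact congrArg (ofS U) h

section Psi

variable [IsClosedImmersion i₀]

instance epi_unitToPush' : Epi (ClSub.unitToPush i₀) := by
  apply Groth.Agent.Lib.Helper23.Serre.epi_of_locally_surjective
  intro V s x hx
  obtain ⟨_, ⟨V', hV', rfl⟩, hxV', hle⟩ :=
    X.isBasis_affineOpens.exists_subset_of_mem_open hx V.isOpen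
  refine ⟨V', hle, hxV', ?_⟩
  obtain ⟨a, ha⟩ := i₀.app_surjective V' hV'
    (((Scheme.Modules.pushforward i₀).obj
      (Coh.structureModule X₀)).presheaf.map (homOfLE hle).op s)
  exact ⟨a, ha⟩

omit [IsClosedImmersion i₀] in
lemma app_resf_i₀ {U V : X.Opens} (h : V ≤ U) (x : Γ(X, U)) (hx : (i₀.app U).hom x = 0) :
    (i₀.app V).hom (resf h x) = 0 := by
  have h1 := i₀.naturality (homOfLE h).op
  have h2 := congrArg (fun φ => φ.hom x) h1
  simp only [CommRingCat.comp_apply] at h2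
  erw [h2]
  rw [hx, map_zero]

variable (h2 : ∀ (U : X.affineOpens) (x : Γ(X, U.1)), (i₀.app U.1).hom x = 0 ↔ x * resF t U.1 = 0)

omit [IsClosedImmersion i₀] in
include h2 in
lemma mul_resF_eq_zero (U : X.Opens) (x : Γ(X, U)) (hx : (i₀.app U).hom x = 0) :
    x * resF t U = 0 := by
  apply Groth.Agent.Lib.Helper23.PB.resf_ext_affine
  intro A hA hAaff
  have e1 : resf hA (x * resF t U) = resf hA x * resF t A := by
    rw [← resF_res t hA]
    exact map_mul (X.presheaf.map (homOfLE hA).op).hom _ _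
  have e2 : resf hA (0 : Γ(X, U)) = 0 := map_zero (X.presheaf.map (homOfLE hA).op).hom
  rw [e1, e2]
  exact (h2 ⟨A, hAaff⟩ _).1 (app_resf_i₀ i₀ hA x hx)

omit [IsClosedImmersion i₀] in
include h2 in
lemma kernel_ι_mulBy : kernel.ι (ClSub.unitToPush i₀) ≫ mulBy t = 0 := by
  refine Scheme.Modules.hom_ext _ _ fun U => ?_
  ext s
  have hc := congrArg (fun φ => φ.app U s) (kernel.condition (ClSub.unitToPush i₀))
  have hx : (i₀.app U).hom (ofS U ((kernel.ι (ClSub.unitToPush i₀)).app U s)) = 0 := hc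
  change (mulBy t).app U (toS U (ofS U ((kernel.ι (ClSub.unitToPush i₀)).app U s))) = 0
  rw [mulBy_app, mul_resF_eq_zero i₀ t h2 U _ hx]
  rfl

omit [IsClosedImmersion i₀] in
include h2 in
lemma kernel_ι_mulJ : kernel.ι (ClSub.unitToPush i₀) ≫ mulJ J t hJt = 0 := by
  haveI : Mono (ClSub.idealModι J) := inferInstanceAs (Mono (kernel.ι _))
  rw [← cancel_mono (ClSub.idealModι J), Category.assoc, mulJ_ι, zero_comp]
  exact kernel_ι_mulBy i₀ t h2

/-- the comparison map `i₀_* O_{X₀} ⟶ J` induced by multiplication by `t` -/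
noncomputable def psi : (Scheme.Modules.pushforward i₀).obj (Coh.structureModule X₀) ⟶
    ClSub.idealMod J :=
  Abelian.epiDesc (ClSub.unitToPush i₀) (mulJ J t hJt) (kernel_ι_mulJ J i₀ t hJt h2)

lemma unitToPush_psi : ClSub.unitToPush i₀ ≫ psi J i₀ t hJt h2 = mulJ J t hJt :=
  Abelian.comp_epiDesc _ _ _

lemma psi_app (U : X.Opens) (a : Γ(X, U)) :
    (psi J i₀ t hJt h2).app U ((i₀.app U).hom a) = (mulJ J t hJt).app U (toS U a) := by
  have h := congrArg (fun φ => φ.app U (toS U a)) (unitToPush_psi J i₀ t hJt h2)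
  exact h

variable (h1 : ∀ (U : X.affineOpens) (r : Γ(X, U.1)), r ∈ J.ideal U → ∃ a, r = a * resF t U.1)

include h1 in
lemma psi_app_bijective (U : X.affineOpens) :
    Function.Bijective ((psi J i₀ t hJt h2).app U.1) := by
  have hsurj := i₀.app_surjective U.1 U.2
  constructor
  · rw [injective_iff_map_eq_zero]
    intro y hy
    obtain ⟨a, rfl⟩ := hsurj y
    have hy' : (psi J i₀ t hJt h2).app U.1 ((i₀.app U.1).hom a) = 0 := hy
    rw [psi_app] at hy'
    have h3 := fnJ_mulJ J t hJt U.1 a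
    rw [hy', fnJ_zero] at h3
    exact (h2 U a).2 h3.symm
  · intro b
    obtain ⟨a, ha⟩ := h1 U (fnJ J U.1 b) (ι_mem_ideal J U b)
    refine ⟨(i₀.app U.1).hom a, ?_⟩
    have e : (psi J i₀ t hJt h2).app U.1 ((i₀.app U.1).hom a) = b := by
      rw [psi_app]
      apply fnJ_injective J U.1
      rw [fnJ_mulJ, ha]
    exact e

include h1 in
theorem isIso_psi : IsIso (psi J i₀ t hJt h2) := by
  refine Groth.Agent.Helper13AffBC.isIso_of_bijective_on_basis _
    (fun U : X.affineOpens => (U.1 : X.Opens)) ?_ (fun U => psi_app_bijective J i₀ t hJt h2 h1 U)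
  have := X.isBasis_affineOpens
  rwa [← Subtype.range_coe (s := X.affineOpens)] at this

end Psi

section Coh

universe w

/-- `Ext` groups of isomorphic targets -/
noncomputable def extAddEquivOfIso {C : Type*} [Category C] [Abelian C] [HasExt.{w} C]
    {Z A A' : C} (φ : A ≅ A') (q : ℕ) : Ext.{w} Z A q ≃+ Ext.{w} Z A' q where
  toFun x := x.comp (Ext.mk₀ φ.hom) (add_zero q)
  invFun y := y.comp (Ext.mk₀ φ.inv) (add_zero q)
  left_inv x := by
    change (x.comp (Ext.mk₀ φ.hom) (add_zero q)).comp (Ext.mk₀ φ.inv) (add_zero q) = x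
    rw [Ext.comp_assoc_of_third_deg_zero, Ext.mk₀_comp_mk₀, Iso.hom_inv_id, Ext.comp_mk₀_id]
  right_inv y := by
    change (y.comp (Ext.mk₀ φ.inv) (add_zero q)).comp (Ext.mk₀ φ.hom) (add_zero q) = y
    rw [Ext.comp_assoc_of_third_deg_zero, Ext.mk₀_comp_mk₀, Iso.inv_hom_id, Ext.comp_mk₀_id]
  map_add' x y := Ext.add_comp _ _ _ _

variable [IsClosedImmersion i₀]
  (h2 : ∀ (U : X.affineOpens) (x : Γ(X, U.1)), (i₀.app U.1).hom x = 0 ↔ x * resF t U.1 = 0)
  (h1 : ∀ (U : X.affineOpens) (r : Γ(X, U.1)), r ∈ J.ideal U → ∃ a, r = a * resF t U.1)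

include hJt h2 h1 in
/-- **`H^q(X, J) ≃ H^q(X₀, O_{X₀})`** -/
theorem nonempty_HH_addEquiv (q : ℕ) :
    Nonempty (Coh.HH X (ClSub.idealMod J) q ≃+ Coh.HH X₀ (Coh.structureModule X₀) q) := by
  have hiso := isIso_psi J i₀ t hJt h2 h1
  have hcl : Topology.IsClosedEmbedding i₀.base := i₀.isClosedEmbedding
  obtain ⟨e⟩ := Groth.Agent.Lib.Helper16.ClosedEmb.nonempty_H_push i₀.base hcl
    (Coh.toAb (Coh.structureModule X₀)) q
  let ψ := @asIso _ _ _ _ _ hiso
  let φ : (CohTop.push i₀.base).obj (Coh.toAb (Coh.structureModule X₀)) ≅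
      Coh.toAb (ClSub.idealMod J) := (SheafOfModules.toSheaf X.ringCatSheaf).mapIso ψ
  exact ⟨((e.trans (extAddEquivOfIso φ q))).symm⟩

end Coh

section Surj

open Groth.Agent.Lib.Helper8ZarULift Groth.Agent.Lib.Helper8SqZeroPic

theorem surjective_H_map_comap (hJ : J * J = ⊥) (q : ℕ)
    (hv : Subsingleton (Coh.HH X (ClSub.idealMod J) (q + 1))) :
    Function.Surjective (Sheaf.H.map (UnitsSh.comap J.subschemeι) q) := by
  intro y
  have hS : (SJ hJ).ShortExact := shortExact hJ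
  obtain ⟨x₂, hx₂⟩ := Ext.covariant_sequence_exact₃ (ZLo X.toTopCat) hS y rfl
    (Subsingleton.elim (α := Coh.HH X (ClSub.idealMod J) (q + 1)) _ _)
  exact ⟨x₂, hx₂⟩

variable {Y : Scheme.{u}}

lemma comap_comp (e : Y ⟶ J.subscheme) :
    UnitsSh.comap (e ≫ J.subschemeι) =
      (UnitsSh.comap J.subschemeι ≫ (CohTop.push J.subschemeι.base).map (UnitsSh.comap e) :
        UnitsSh.unitsAb X ⟶ (CohTop.push (e ≫ J.subschemeι).base).obj (UnitsSh.unitsAb Y)) := by
  apply Sheaf.hom_ext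
  ext U s
  rfl

lemma isIso_comap {Z : Scheme.{u}} (e : Y ⟶ Z) [IsIso e] : IsIso (UnitsSh.comap e) := by
  haveI : IsIso (UnitsSh.comap e).hom := by
    haveI : ∀ U, IsIso ((UnitsSh.comap e).hom.app U) := by
      intro U
      haveI : IsIso (e.app U.unop) := inferInstance
      exact inferInstanceAs (IsIso (UnitsSh.unitsFunctor.map (e.app U.unop)))
    exact NatIso.isIso_of_isIso_app _
  haveI : IsIso ((sheafToPresheaf (Opens.grothendieckTopology Z.toTopCat) AddCommGrpCat).map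
      (UnitsSh.comap e)) := ‹IsIso (UnitsSh.comap e).hom›
  exact isIso_of_reflects_iso _ (sheafToPresheaf _ _)

theorem surjective_H_map_comap_of_iso (e : Y ⟶ J.subscheme) [IsIso e] (q : ℕ)
    (h : Function.Surjective (Sheaf.H.map (UnitsSh.comap J.subschemeι) q)) :
    Function.Surjective (Sheaf.H.map (UnitsSh.comap (e ≫ J.subschemeι)) q) := by
  haveI := isIso_comap e
  intro y
  let ψ : (CohTop.push J.subschemeι.base).obj (UnitsSh.unitsAb J.subscheme) ⟶
      (CohTop.push (e ≫ J.subschemeι).base).obj (UnitsSh.unitsAb Y) :=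
    (CohTop.push J.subschemeι.base).map (UnitsSh.comap e)
  haveI : IsIso ψ := Functor.map_isIso _ _
  obtain ⟨x, hx⟩ := h (y.comp (Ext.mk₀ (inv ψ)) (add_zero q))
  refine ⟨x, ?_⟩
  have h1 : Sheaf.H.map (UnitsSh.comap (e ≫ J.subschemeι)) q x =
      (x.comp (Ext.mk₀ (UnitsSh.comap J.subschemeι)) (add_zero q)).comp (Ext.mk₀ ψ) (add_zero q) := by
    rw [Ext.comp_assoc_of_third_deg_zero, Ext.mk₀_comp_mk₀, comap_comp]
    rfl
  have hx' : x.comp (Ext.mk₀ (UnitsSh.comap J.subschemeι)) (add_zero q) =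
      y.comp (Ext.mk₀ (inv ψ)) (add_zero q) := hx
  rw [h1, hx', Ext.comp_assoc_of_third_deg_zero, Ext.mk₀_comp_mk₀, IsIso.inv_hom_id,
    Ext.comp_mk₀_id]

end Surj

section Main

variable {Y : Scheme.{u}} (i : Y ⟶ X) [IsClosedImmersion i] [IsClosedImmersion i₀]
  (hit : i.appTop.hom t = 0) (hi₀t : i₀.appTop.hom t = 0)
  (h1 : ∀ (U : X.affineOpens) (r : Γ(X, U.1)), (i.app U.1).hom r = 0 → ∃ a, r = a * resF t U.1)
  (h2 : ∀ (U : X.affineOpens) (x : Γ(X, U.1)), (i₀.app U.1).hom x = 0 ↔ x * resF t U.1 = 0)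

omit [IsClosedImmersion i₀] in
lemma surjective_of_eq {i i' : Y ⟶ X} (h : i' = i) (q : ℕ)
    (hs : Function.Surjective (Sheaf.H.map (UnitsSh.comap i') q)) :
    Function.Surjective (Sheaf.H.map (UnitsSh.comap i) q) := by
  subst h
  exact hs

include hit in
omit [IsClosedImmersion i₀] in
lemma ker_appTop : i.ker.subschemeι.appTop.hom t = 0 := by
  have h0 : (i.toImage ≫ i.ker.subschemeι).appTop.hom t = 0 := by
    rw [i.toImage_imageι]
    exact hit
  rw [Scheme.Hom.comp_appTop] at h0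
  have h3 : i.toImage.appTop.hom (i.ker.subschemeι.appTop.hom t) = 0 := h0
  haveI : IsIso i.toImage.appTop := inferInstanceAs (IsIso (i.toImage.app ⊤))
  have hinj : Function.Injective i.toImage.appTop.hom :=
    ((ConcreteCategory.isIso_iff_bijective i.toImage.appTop).1 inferInstance).1
  exact hinj (h3.trans (map_zero _).symm)

omit [IsClosedImmersion i₀] in
include hi₀t h2 in
lemma resF_mul_self (U : X.affineOpens) : resF t U.1 * resF t U.1 = 0 := by
  apply (h2 U _).1
  have h := i₀.naturality (homOfLE (le_top : U.1 ≤ ⊤)).op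
  have h3 := congrArg (fun φ => φ.hom t) h
  simp only [CommRingCat.comp_apply] at h3
  unfold resF
  erw [h3]
  have : (i₀.app ⊤).hom t = 0 := hi₀t
  rw [this, map_zero]

omit [IsClosedImmersion i₀] in
include hi₀t h1 h2 in
lemma ker_mul_ker : i.ker * i.ker = ⊥ := by
  apply Scheme.IdealSheafData.ext
  funext U
  rw [Scheme.IdealSheafData.ideal_mul, Scheme.IdealSheafData.ideal_bot, Pi.bot_apply,
    eq_bot_iff]
  change i.ker.ideal U * i.ker.ideal U ≤ ⊥
  rw [Ideal.mul_le]
  intro r hr r' hr'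
  rw [Scheme.Hom.ker_apply, RingHom.mem_ker] at hr hr'
  obtain ⟨a, rfl⟩ := h1 U r hr
  obtain ⟨a', rfl⟩ := h1 U r' hr'
  have : a * resF t U.1 * (a' * resF t U.1) = a * a' * (resF t U.1 * resF t U.1) := by ring
  rw [this, resF_mul_self i₀ t hi₀t h2 U, mul_zero]
  exact Submodule.zero_mem _

include hit hi₀t h1 h2 in
/-- **surjectivity of `H^q(X, O_X^×) → H^q(X, i_* O_Y^×)`** when `H^{q+1}(X₀, O_{X₀}) = 0` -/
theorem surjective_H_map_comap' (q : ℕ)
    (hv : Subsingleton (Coh.HH X₀ (Coh.structureModule X₀) (q + 1))) :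
    Function.Surjective (Sheaf.H.map (UnitsSh.comap i) q) := by
  have hJ := ker_mul_ker i₀ t i hi₀t h1 h2
  have hJt := ker_appTop t i hit
  have h1' : ∀ (U : X.affineOpens) (r : Γ(X, U.1)), r ∈ i.ker.ideal U →
      ∃ a, r = a * resF t U.1 := by
    intro U r hr
    rw [Scheme.Hom.ker_apply, RingHom.mem_ker] at hr
    exact h1 U r hr
  obtain ⟨e⟩ := nonempty_HH_addEquiv i.ker i₀ t hJt h2 h1' (q + 1)
  haveI : Subsingleton (Coh.HH X (ClSub.idealMod i.ker) (q + 1)) := e.injective.subsingleton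
  have hs := surjective_H_map_comap i.ker hJ q inferInstance
  exact surjective_of_eq i.toImage_imageι q
    (surjective_H_map_comap_of_iso i.ker i.toImage q hs)

end Main

end Groth.Agent.Lib.Helper8UnitsThick1
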