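import Mathlib
import Groth.Prelude
import Groth.Agent.Lib.Helper8UnitsThick1
import Groth.Agent.Lib.R2H1SpecialFibreProd
import Groth.Agent.Lib.Helper23QCohExt
import Groth.Agent.Lib.Helper8VBLift2

/-!
# Cohomological flatness in dimension zero over a discrete valuation ring (helper8)

* `isIso_mulJ`: if `J = t·O_X` on affine opens with `t` a nonzerodivisor there, multiplication by `t`
  is an isomorphism `O_X ≅ J`.
* `shortExact_mulBy`: `0 → O_X --t--> O_X → O_X/J → 0`.
* `surjective_iff_injective`: for a short exact sequence of modules, `H⁰(g)` is surjective iff `H¹(f)` is injective.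
* `main15136`.
-/

set_option autoImplicit false
universe u
open CategoryTheory CategoryTheory.Limits AlgebraicGeometry TopologicalSpace Opposite Abelian

namespace Groth.Agent.Lib.Helper8CohFlat1

open Groth.Agent.Lib.Helper6 Groth.Agent.Lib.Helper23.SecTw Groth.Agent.Lib.Helper23.GenLocus
  Groth.Agent.Lib.Helper8SqZeroSeq Groth.Agent.Lib.Helper23.IdealSec Groth.Agent.Lib.Helper23.Serre
  Groth.Agent.Lib.Helper8UnitsThick1

section General

variable {X : Scheme.{u}} (J : X.IdealSheafData) (t : Γ(X, ⊤))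

/-- a global function whose restrictions to affine opens lie in the ideal vanishes on the closed subscheme -/
lemma appTop_eq_zero (h : ∀ U : X.affineOpens, resF t U.1 ∈ J.ideal U) :
    J.subschemeι.appTop.hom t = 0 := by
  refine J.subscheme.sheaf.eq_of_locally_eq'
    (fun U : X.affineOpens => J.subschemeι ⁻¹ᵁ U.1) ⊤ (fun U => homOfLE le_top) ?_ _ 0 ?_
  · intro z _
    obtain ⟨V, hV, hzV, -⟩ := exists_isAffineOpen_mem_and_subset (x := J.subschemeι z) (U := ⊤) trivial
    exact Opens.mem_iSup.mpr ⟨⟨V, hV⟩, hzV⟩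
  · intro U
    show (J.subscheme.presheaf.map (homOfLE le_top).op).hom (J.subschemeι.appTop.hom t) =
      (J.subscheme.presheaf.map (homOfLE le_top).op).hom 0
    rw [map_zero]
    have h1 := J.subschemeι.naturality (homOfLE (le_top : U.1 ≤ ⊤)).op
    have h2 := congrArg (fun φ => φ.hom t) h1
    simp only [CommRingCat.comp_apply] at h2
    have h3 : (J.subschemeι.app U.1).hom (resF t U.1) = 0 := by
      rw [← RingHom.mem_ker, Scheme.IdealSheafData.ker_subschemeι_app]
      exact h U
    unfold resF at h3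
    erw [h2] at h3
    exact h3

variable (h1 : ∀ U : X.affineOpens, J.ideal U = Ideal.span {resF t U.1})
variable (h2 : ∀ (U : X.affineOpens) (a : Γ(X, U.1)), a * resF t U.1 = 0 → a = 0)

include h1 in
lemma hJt : J.subschemeι.appTop.hom t = 0 :=
  appTop_eq_zero J t fun U => by
    rw [h1 U]; exact Ideal.subset_span rfl

include h1 h2 in
lemma mulJ_app_bijective (U : X.affineOpens) :
    Function.Bijective ((mulJ J t (hJt J t h1)).app U.1) := by
  constructor
  · rw [injective_iff_map_eq_zero]
    intro y hy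
    have h3 := fnJ_mulJ J t (hJt J t h1) U.1 (ofS U.1 y)
    rw [toS_ofS, hy, fnJ_zero] at h3
    have h4 := h2 U _ h3.symm
    calc y = toS U.1 (ofS U.1 y) := rfl
      _ = toS U.1 0 := by rw [h4]
      _ = 0 := rfl
  · intro b
    have hb : fnJ J U.1 b ∈ J.ideal U := ι_mem_ideal J U b
    rw [h1 U, Ideal.mem_span_singleton'] at hb
    obtain ⟨a, ha⟩ := hb
    refine ⟨toS U.1 a, ?_⟩
    apply fnJ_injective J U.1
    rw [fnJ_mulJ, ha]

include h1 h2 in
theorem isIso_mulJ : IsIso (mulJ J t (hJt J t h1)) := by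
  refine Groth.Agent.Helper13AffBC.isIso_of_bijective_on_basis _
    (fun U : X.affineOpens => (U.1 : X.Opens)) ?_ (fun U => mulJ_app_bijective J t h1 h2 U)
  have := X.isBasis_affineOpens
  rwa [← Subtype.range_coe (s := X.affineOpens)] at this

end General



open Groth.Agent.Lib.Helper6 Groth.Agent.Lib.Helper23.SecTw Groth.Agent.Lib.Helper23.GenLocus
  Groth.Agent.Lib.Helper8SqZeroSeq Groth.Agent.Lib.Helper23.IdealSec Groth.Agent.Lib.Helper23.Serre
  Groth.Agent.Lib.Helper8UnitsThick1

section SES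

variable {X : Scheme.{u}} (J : X.IdealSheafData) (t : Γ(X, ⊤))
variable (h1 : ∀ U : X.affineOpens, J.ideal U = Ideal.span {resF t U.1})
variable (h2 : ∀ (U : X.affineOpens) (a : Γ(X, U.1)), a * resF t U.1 = 0 → a = 0)

/-- the kernel sequence `0 → J → O_X → O_X / J → 0` -/
noncomputable def KC : ShortComplex X.Modules :=
  ShortComplex.mk (ClSub.idealModι J) (ClSub.toSubscheme J) (kernel.condition _)

theorem shortExact_KC : (KC J).ShortExact := by
  haveI : Mono (KC J).f := by
    change Mono (kernel.ι (ClSub.toSubscheme J))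
    infer_instance
  haveI : Epi (KC J).g := Groth.Agent.Lib.Helper8.VBLift2.epi_toSubscheme J
  exact { exact := ShortComplex.exact_of_f_is_kernel _ (kernelIsKernel (ClSub.toSubscheme J)) }

/-- the short complex `O_X --t--> O_X → O_X / J` -/
noncomputable def SC : ShortComplex X.Modules :=
  ShortComplex.mk (mulBy t) (ClSub.toSubscheme J) (mulBy_toSubscheme J t (hJt J t h1))

include h2 in
theorem shortExact_SC : (SC J t h1).ShortExact := by
  haveI := isIso_mulJ J t h1 h2
  let e : SC J t h1 ≅ KC J :=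
    ShortComplex.isoMk (@asIso _ _ _ _ (mulJ J t (hJt J t h1)) (isIso_mulJ J t h1 h2)) (Iso.refl _) (Iso.refl _)
      (by
        change mulJ J t (hJt J t h1) ≫ ClSub.idealModι J = mulBy t ≫ 𝟙 _
        rw [mulJ_ι, Category.comp_id])
      (by
        change 𝟙 _ ≫ ClSub.toSubscheme J = ClSub.toSubscheme J ≫ 𝟙 _
        rw [Category.id_comp, Category.comp_id])
  exact ShortComplex.shortExact_of_iso e.symm (shortExact_KC J)

end SES

section LES

variable {X : Scheme.{u}}

/-- for a short exact sequence of modules, `H⁰(g)` is surjective iff `H¹(f)` is injective -/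
theorem surjective_iff_injective (S : ShortComplex X.Modules) (hS : S.ShortExact) :
    Function.Surjective (Sheaf.H.map ((SheafOfModules.toSheaf X.ringCatSheaf).map S.g) 0) ↔
      Function.Injective (Sheaf.H.map ((SheafOfModules.toSheaf X.ringCatSheaf).map S.f) 1) := by
  have hS' := Groth.Agent.Lib.Helper23.QCohLocal.shortExact_toAbF S hS
  constructor
  · intro hsurj
    rw [injective_iff_map_eq_zero]
    intro x hx
    obtain ⟨x₃, rfl⟩ := Ext.covariant_sequence_exact₁ _ hS' x hx (zero_add 1)
    obtain ⟨x₂, rfl⟩ := hsurj x₃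
    rw [Sheaf.H.map_apply]
    erw [Ext.comp_assoc_of_second_deg_zero, hS'.comp_extClass, Ext.comp_zero]
    rfl
  · intro hinj x₃
    have h00 : Sheaf.H.map ((SheafOfModules.toSheaf X.ringCatSheaf).map S.f) 1
        (x₃.comp hS'.extClass (zero_add 1)) = 0 := by
      rw [Sheaf.H.map_apply]
      erw [Ext.comp_assoc_of_third_deg_zero, hS'.extClass_comp, Ext.comp_zero]
    have h0 : x₃.comp hS'.extClass (zero_add 1) = 0 :=
      hinj (h00.trans (map_zero _).symm)
    obtain ⟨x₂, hx₂⟩ := Ext.covariant_sequence_exact₃ _ hS' x₃ rfl h0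
    exact ⟨x₂, hx₂⟩

end LES

section Main

open IsLocalRing Groth.Agent.Lib.R2H1.SpecialFibreProd

lemma toSheaf_mulBy {X : Scheme.{u}} (t : Γ(X, ⊤)) :
    (SheafOfModules.toSheaf X.ringCatSheaf).map (mulBy t) = Coh.smulAb (Coh.structureModule X) t := by
  ext U a
  refine Eq.trans ?_ (Coh.smulAb_app (Coh.structureModule X) t U a).symm
  have h := mulBy_app t U.unop (ofS U.unop a)
  refine Eq.trans h ?_
  exact mul_comm (G := Γ(X, U.unop)) _ _

variable (R : Type u) [CommRing R] [IsDomain R] [IsDiscreteValuationRing R]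
variable (X : Scheme.{u}) (p : X ⟶ Spec (CommRingCat.of R))

omit [IsDomain R] [IsDiscreteValuationRing R] in
lemma resF_toGlobal (r : R) (U : X.Opens) :
    resF (Coh.toGlobal p r : Γ(X, ⊤)) U = R2H1.SpecialFibreProd.secHom R X p U r := by
  unfold resF Coh.toGlobal R2H1.SpecialFibreProd.secHom
  simp only [RingHom.comp_apply]
  have : p.appLE ⊤ U le_top = p.appTop ≫ X.presheaf.map (homOfLE (le_top : U ≤ ⊤)).op := by
    rw [Scheme.Hom.appLE]
    rfl
  rw [this, CommRingCat.comp_apply]
  rfl

variable {R} (ϖ : R) (hϖ : Irreducible ϖ)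

include hϖ in
lemma ideal_eq_span (U : X.affineOpens) :
    (Models.specialFibreIdeal R (Over.mk p)).ideal U =
      Ideal.span {resF (Coh.toGlobal p ϖ : Γ(X, ⊤)) U.1} := by
  have hm : maximalIdeal R = Ideal.span {ϖ} :=
    (IsDiscreteValuationRing.irreducible_iff_uniformizer ϖ).mp hϖ
  rw [specialFibreIdeal_ideal, hm, Ideal.map_span, Set.image_singleton, resF_toGlobal]

omit [IsDiscreteValuationRing R] in
include hϖ in
lemma eq_zero_of_mul_resF [Flat p] (U : X.affineOpens) (a : Γ(X, U.1))
    (ha : a * resF (Coh.toGlobal p ϖ : Γ(X, ⊤)) U.1 = 0) : a = 0 := by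
  rw [resF_toGlobal] at ha
  have hflat : (p.appLE ⊤ U.1 le_top).hom.Flat :=
    Scheme.Hom.flat_appLE p (isAffineOpen_top _) U.2 le_top
  have hflat2 : (R2H1.SpecialFibreProd.secHom R X p U.1).Flat := by
    unfold R2H1.SpecialFibreProd.secHom
    refine RingHom.Flat.comp ?_ hflat
    exact RingHom.Flat.of_bijective
      (Scheme.ΓSpecIso (CommRingCat.of R)).symm.commRingCatIsoToRingEquiv.bijective
  letI := (R2H1.SpecialFibreProd.secHom R X p U.1).toAlgebra
  haveI : Module.Flat R Γ(X, U.1) := hflat2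
  have hreg : IsSMulRegular R ϖ := (IsRegular.of_ne_zero hϖ.ne_zero).left.isSMulRegular
  have h2 := IsSMulRegular.of_flat (S := Γ(X, U.1)) hreg
  have h3 : IsLeftRegular (R2H1.SpecialFibreProd.secHom R X p U.1 ϖ) := fun a b hab => h2 hab
  apply h3
  show R2H1.SpecialFibreProd.secHom R X p U.1 ϖ * a = R2H1.SpecialFibreProd.secHom R X p U.1 ϖ * 0
  rw [mul_zero, mul_comm]
  exact ha

include hϖ in
lemma noZeroSMulDivisors_iff {M : Type*} [AddCommGroup M] [Module R M] :
    NoZeroSMulDivisors R M ↔ Function.Injective (fun x : M => ϖ • x) := by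
  constructor
  · intro h x y hxy
    have h0 : ϖ • (x - y) = 0 := by
      rw [smul_sub]
      exact sub_eq_zero.mpr hxy
    rcases h.eq_zero_or_eq_zero_of_smul_eq_zero h0 with h' | h'
    · exact absurd h' hϖ.ne_zero
    · exact sub_eq_zero.mp h'
  · intro hinj
    have hpow : ∀ (n : ℕ) (x : M), ϖ ^ n • x = 0 → x = 0 := by
      intro n
      induction n with
      | zero =>
        intro x hx
        simpa using hx
      | succ n ih =>
        intro x hx
        rw [pow_succ, mul_smul] at hx
        have h1 := ih _ hx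
        apply hinj
        show ϖ • x = ϖ • 0
        rw [h1, smul_zero]
    refine ⟨fun {c x} hcx => ?_⟩
    by_cases hc : c = 0
    · exact Or.inl hc
    · right
      obtain ⟨n, u, rfl⟩ := IsDiscreteValuationRing.eq_unit_mul_pow_irreducible hc hϖ
      rw [mul_smul] at hcx
      have h1 : ϖ ^ n • x = 0 := by
        have h2 : (u⁻¹ : Rˣ) • ((u : R) • ϖ ^ n • x) = (u⁻¹ : Rˣ) • (0 : M) := by rw [hcx]
        rw [smul_zero, Units.smul_def, ← mul_smul, Units.inv_mul, one_smul] at h2
        exact h2
      exact hpow n x h1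

variable (R) in
theorem main15136 [X.Over (Spec (CommRingCat.of R))] [Flat (X ↘ Spec (CommRingCat.of R))] :
    Function.Surjective (Sheaf.H.map ((SheafOfModules.toSheaf X.ringCatSheaf).map
      (ClSub.toSubscheme (Models.specialFibreIdeal R (Over.mk (X ↘ Spec (CommRingCat.of R)))))) 0) ↔
      NoZeroSMulDivisors R (Coh.HH X (Coh.structureModule X) 1) := by
  obtain ⟨ϖ, hϖ⟩ := IsDiscreteValuationRing.exists_irreducible R
  have hS := shortExact_SC (Models.specialFibreIdeal R (Over.mk (X ↘ Spec (CommRingCat.of R))))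
    (Coh.toGlobal (X ↘ Spec (CommRingCat.of R)) ϖ : Γ(X, ⊤))
    (ideal_eq_span X (X ↘ Spec (CommRingCat.of R)) ϖ hϖ)
    (eq_zero_of_mul_resF X (X ↘ Spec (CommRingCat.of R)) ϖ hϖ)
  rw [noZeroSMulDivisors_iff ϖ hϖ]
  refine (surjective_iff_injective _ hS).trans ?_
  have key : ∀ x : Coh.HH X (Coh.structureModule X) 1,
      Sheaf.H.map ((SheafOfModules.toSheaf X.ringCatSheaf).map
        (mulBy (Coh.toGlobal (X ↘ Spec (CommRingCat.of R)) ϖ : Γ(X, ⊤)))) 1 x = ϖ • x := by
    intro x
    rw [toSheaf_mulBy]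
    rfl
  constructor
  · intro h x y hxy
    apply h
    exact (key x).trans (hxy.trans (key y).symm)
  · intro h x y hxy
    apply h
    exact (key x).symm.trans (hxy.trans (key y))

end Main

end Groth.Agent.Lib.Helper8CohFlat1
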