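import Mathlib
import Groth.Prelude
import Groth.Agent.Lib.Helper8ExactSeq

set_option autoImplicit false

/-!
# The part of the global stabilizer over a conjugacy class is a balanced product (S19098)
-/

universe u

open CategoryTheory CategoryTheory.Limits MonoidalCategory CartesianMonoidalCategory MonObj GrpObj
  AlgebraicGeometry

namespace Groth.Agent.Lib.Helper8ConjClass

open Groth.Agent.Lib.Helper8ExactSeq

section Coset

variable {S : Scheme.{u}} {G H Q : Over S} [GrpObj G] [GrpObj H] {i : H ⟶ G} {q : G ⟶ Q}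

/-- points of `G` with the same image under `q` differ by a unique point of `H`, when the coset
square is cartesian. -/
theorem existsUnique_of_isPullback_mul (hpb : IsPullback (fst G H) ((G ◁ i) ≫ μ[G]) q q)
    {T : Over S} (x y : T ⟶ G) (h : x ≫ q = y ≫ q) : ∃! g : T ⟶ H, x * (g ≫ i) = y := by
  obtain ⟨l, hl1, hl2⟩ : ∃ l : T ⟶ G ⊗ H, l ≫ fst G H = x ∧ l ≫ (G ◁ i) ≫ μ[G] = y :=
    ⟨hpb.lift x y h, hpb.lift_fst _ _ _, hpb.lift_snd _ _ _⟩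
  have hl : lift x (l ≫ snd G H) = l := by
    apply CartesianMonoidalCategory.hom_ext
    · rw [lift_fst, hl1]
    · rw [lift_snd]
  refine ⟨l ≫ snd G H, ?_, ?_⟩
  · show x * ((l ≫ snd G H) ≫ i) = y
    rw [← lift_whiskerLeft_mul, hl, hl2]
  · intro g hg
    have h1 : lift x g = l := by
      apply hpb.hom_ext
      · rw [lift_fst, hl1]
      · rw [lift_whiskerLeft_mul, hl2]
        exact hg
    rw [← h1, lift_snd]

theorem mul_comp_of_isPullback_mul (hpb : IsPullback (fst G H) ((G ◁ i) ≫ μ[G]) q q)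
    {T : Over S} (x : T ⟶ G) (g : T ⟶ H) : (x * (g ≫ i)) ≫ q = x ≫ q := by
  have h1 : lift x g ≫ fst G H ≫ q = lift x g ≫ ((G ◁ i) ≫ μ[G]) ≫ q := by rw [hpb.w]
  rw [lift_fst_assoc, ← Category.assoc (lift x g), lift_whiskerLeft_mul] at h1
  exact h1.symm

end Coset

section Grp

variable {Γ : Type*} [Group Γ]

theorem grpA (g g₁ t : Γ) : g * g₁ * t * (g * g₁)⁻¹ = g * (g₁ * t * g₁⁻¹) * g⁻¹ := by group

theorem grpB (g z t : Γ) (h : z * t = t * z) : g * z⁻¹ * t * (g * z⁻¹)⁻¹ = g * t * g⁻¹ := by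
  have h' : z⁻¹ * t * z = t := by rw [_root_.mul_assoc, ← h, inv_mul_cancel_left]
  calc g * z⁻¹ * t * (g * z⁻¹)⁻¹ = g * (z⁻¹ * t * z) * g⁻¹ := by group
    _ = g * t * g⁻¹ := by rw [h']

theorem grpC (a t : Γ) (h : t = a * t * a⁻¹) : a * t = t * a := by
  have : a * t * a⁻¹ * a = t * a := by rw [← h]
  rw [inv_mul_cancel_right] at this
  exact this

theorem grpD (g t c : Γ) (h : c = g * t * g⁻¹) : t * g⁻¹ = g⁻¹ * c := by
  rw [h]; group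

end Grp

variable {S : Scheme.{u}} {K : Precoverage Scheme.{u}} [K.IsStableUnderBaseChange]

/-- S19098 (general form). -/
theorem main19098 {G X Z Ψ Xh SΨ : Over S} [GrpObj G] [GrpObj Z]
    (a : AlgGrp.Action G X) (h : 𝟙_ (Over S) ⟶ G)
    (i : Z ⟶ G) [IsMonHom i]
    (ψ : Ψ ⟶ G) [Mono ψ] (aΨ : AlgGrp.Action G Ψ)
    (hψ : aΨ.act ≫ ψ = fst G Ψ * (snd G Ψ ≫ ψ) * (fst G Ψ)⁻¹)
    (o : 𝟙_ (Over S) ⟶ Ψ) (ho : o ≫ ψ = h)
    (hhom : ChGrp.IsHomog K i aΨ o)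
    (incl : Xh ⟶ X) [Mono incl]
    (hXh : ∀ (T : Over S) (x : T ⟶ X),
      (∃ y : T ⟶ Xh, y ≫ incl = x) ↔ lift (toUnit T ≫ h) x ≫ a.act = x)
    (aXh : AlgGrp.Action Z Xh) (hincl : AlgGrp.Action.IsEquivariant aXh (a.restrict i) incl)
    (σ : SΨ ⟶ G ⊗ X) [Mono σ]
    (hSΨ : ∀ (T : Over S) (g : T ⟶ G) (x : T ⟶ X),
      (∃ q : T ⟶ SΨ, q ≫ σ = lift g x) ↔ ((∃ y : T ⟶ Ψ, y ≫ ψ = g) ∧ lift g x ≫ a.act = x))
    (aS : AlgGrp.Action G SΨ)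
    (hσ : aS.act ≫ σ = lift (fst G SΨ * (snd G SΨ ≫ σ ≫ fst G X) * (fst G SΨ)⁻¹)
      (lift (fst G SΨ) (snd G SΨ ≫ σ ≫ snd G X) ≫ a.act))
    (Φ : G ⊗ Xh ⟶ SΨ)
    (hΦ : Φ ≫ σ = lift (fst G Xh * (toUnit (G ⊗ Xh) ≫ h) * (fst G Xh)⁻¹)
      (lift (fst G Xh) (snd G Xh ≫ incl) ≫ a.act)) :
    ChGrp.IsBalProd K i aXh aS Φ := by
  obtain ⟨-, hpb, hloc⟩ := hhom
  -- points forms
  have hψ' : ∀ (T : Over S) (g : T ⟶ G) (c : T ⟶ Ψ),
      (lift g c ≫ aΨ.act) ≫ ψ = g * (c ≫ ψ) * g⁻¹ := by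
    intro T g c
    rw [Category.assoc, hψ, MonObj.comp_mul, MonObj.comp_mul, GrpObj.comp_inv, lift_fst,
      lift_snd_assoc]
  have horb : ∀ (T : Over S) (g : T ⟶ G),
      (g ≫ aΨ.orbitMap o) ≫ ψ = g * (toUnit T ≫ h) * g⁻¹ := by
    intro T g
    rw [AlgGrp.Action.comp_orbitMap, hψ', Category.assoc, ho]
  have hσ' : ∀ (T : Over S) (g : T ⟶ G) (s : T ⟶ SΨ),
      (lift g s ≫ aS.act) ≫ σ = lift (g * (s ≫ σ ≫ fst G X) * g⁻¹)
        (lift g (s ≫ σ ≫ snd G X) ≫ a.act) := by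
    intro T g s
    rw [Category.assoc, hσ, comp_lift, MonObj.comp_mul, MonObj.comp_mul, GrpObj.comp_inv,
      lift_fst, lift_snd_assoc, ← Category.assoc (lift g s), comp_lift, lift_fst, lift_snd_assoc]
  have hΦ' : ∀ (T : Over S) (g : T ⟶ G) (x : T ⟶ Xh),
      (lift g x ≫ Φ) ≫ σ = lift (g * (toUnit T ≫ h) * g⁻¹)
        (lift g (x ≫ incl) ≫ a.act) := by
    intro T g x
    have e : lift g x ≫ toUnit (G ⊗ Xh) ≫ h = toUnit T ≫ h := by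
      rw [← Category.assoc]
      congr 1
      exact toUnit_unique _ _
    rw [Category.assoc, hΦ, comp_lift, MonObj.comp_mul, MonObj.comp_mul, GrpObj.comp_inv,
      lift_fst, e, ← Category.assoc (lift g x), comp_lift, lift_fst, lift_snd_assoc]
  have hincl' : ∀ (T : Over S) (z : T ⟶ Z) (x : T ⟶ Xh),
      (lift z x ≫ aXh.act) ≫ incl = lift (z ≫ i) (x ≫ incl) ≫ a.act := by
    intro T z x
    have h1 : aXh.act ≫ incl = (Z ◁ incl) ≫ (a.restrict i).act := hincl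
    rw [Category.assoc, h1, ← Category.assoc, lift_whiskerLeft, AlgGrp.Action.lift_restrict_act]
  have hcoset : ∀ (T : Over S) (g : T ⟶ G) (z : T ⟶ Z),
      (g * (z ≫ i)) ≫ aΨ.orbitMap o = g ≫ aΨ.orbitMap o :=
    fun T g z => mul_comp_of_isPullback_mul hpb g z
  have hz : ∀ (T : Over S) (z : T ⟶ Z),
      (z ≫ i) * (toUnit T ≫ h) = (toUnit T ≫ h) * (z ≫ i) := by
    intro T z
    have h1 : ((1 * (z ≫ i)) ≫ aΨ.orbitMap o) ≫ ψ = ((1 : T ⟶ G) ≫ aΨ.orbitMap o) ≫ ψ := by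
      rw [hcoset T 1 z]
    rw [horb, horb, _root_.one_mul, _root_.one_mul, inv_one, _root_.mul_one] at h1
    exact grpC _ _ h1.symm
  have hp : ∀ (T : Over S) (p : T ⟶ G ⊗ Xh), p = lift (p ≫ fst G Xh) (p ≫ snd G Xh) := by
    intro T p
    rw [← comp_lift, lift_fst_snd, Category.comp_id]
  -- fibres of `Φ`
  have hfib : ∀ (T : Over S) (g₁ g₂ : T ⟶ G) (x₁ x₂ : T ⟶ Xh),
      lift g₁ x₁ ≫ Φ = lift g₂ x₂ ≫ Φ →
      ∃ z : T ⟶ Z, g₁ * (z ≫ i) = g₂ ∧ lift z x₂ ≫ aXh.act = x₁ ∧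
        ∀ z' : T ⟶ Z, g₁ * (z' ≫ i) = g₂ → z' = z := by
    intro T g₁ g₂ x₁ x₂ hΦeq
    have h1 : (lift g₁ x₁ ≫ Φ) ≫ σ = (lift g₂ x₂ ≫ Φ) ≫ σ := by rw [hΦeq]
    rw [hΦ', hΦ'] at h1
    have hA : g₁ * (toUnit T ≫ h) * g₁⁻¹ = g₂ * (toUnit T ≫ h) * g₂⁻¹ := by
      have := congrArg (fun f => f ≫ fst G X) h1
      simpa only [lift_fst] using this
    have hB : lift g₁ (x₁ ≫ incl) ≫ a.act = lift g₂ (x₂ ≫ incl) ≫ a.act := by
      have := congrArg (fun f => f ≫ snd G X) h1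
      simpa only [lift_snd] using this
    have horbeq : g₁ ≫ aΨ.orbitMap o = g₂ ≫ aΨ.orbitMap o := by
      rw [← cancel_mono ψ, horb, horb, hA]
    obtain ⟨z, hz1, hzuniq⟩ := existsUnique_of_isPullback_mul hpb g₁ g₂ horbeq
    have hz1' : g₁ * (z ≫ i) = g₂ := hz1
    refine ⟨z, hz1', ?_, fun z' hz' => hzuniq z' hz'⟩
    rw [← cancel_mono incl, hincl']
    have e1 : lift g₁⁻¹ (lift g₁ (x₁ ≫ incl) ≫ a.act) ≫ a.act = x₁ ≫ incl := by
      rw [← AlgGrp.Action.lift_mul_act, inv_mul_cancel, AlgGrp.Action.lift_one_act]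
    have e2 : lift g₁⁻¹ (lift g₂ (x₂ ≫ incl) ≫ a.act) ≫ a.act =
        lift (z ≫ i) (x₂ ≫ incl) ≫ a.act := by
      rw [← AlgGrp.Action.lift_mul_act, ← hz1', inv_mul_cancel_left]
    rw [← e1, ← e2, hB]
  refine ⟨?_, ?_, ?_⟩
  · -- equivariance
    show ((NonAbH1.trivialAction G).prod (AlgGrp.Action.trivial G Xh)).act ≫ Φ =
      (G ◁ Φ) ≫ aS.act
    rw [← cancel_mono σ]
    apply AlgGrp.Action.hom_ext_lift₂
    intro T g p
    obtain ⟨g₁, x, rfl⟩ : ∃ g₁ x, p = lift g₁ x := ⟨_, _, hp T p⟩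
    have hL : lift g (lift g₁ x) ≫
        ((NonAbH1.trivialAction G).prod (AlgGrp.Action.trivial G Xh)).act =
        lift (g * g₁) x := by
      rw [AlgGrp.Action.lift_prod_act, AlgGrp.Action.lift_trivial_act]
      congr 1
    have e1 : (lift g₁ x ≫ Φ) ≫ σ ≫ fst G X = g₁ * (toUnit T ≫ h) * g₁⁻¹ := by
      rw [← Category.assoc, hΦ', lift_fst]
    have e2 : (lift g₁ x ≫ Φ) ≫ σ ≫ snd G X = lift g₁ (x ≫ incl) ≫ a.act := by
      rw [← Category.assoc, hΦ', lift_snd]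
    have hLL : lift g (lift g₁ x) ≫
        (((NonAbH1.trivialAction G).prod (AlgGrp.Action.trivial G Xh)).act ≫ Φ) ≫ σ =
        lift (g * g₁ * (toUnit T ≫ h) * (g * g₁)⁻¹) (lift (g * g₁) (x ≫ incl) ≫ a.act) := by
      rw [Category.assoc, ← Category.assoc (lift g (lift g₁ x)), hL, ← Category.assoc, hΦ']
    have hRR : lift g (lift g₁ x) ≫ ((G ◁ Φ) ≫ aS.act) ≫ σ =
        lift (g * (g₁ * (toUnit T ≫ h) * g₁⁻¹) * g⁻¹)
          (lift g (lift g₁ (x ≫ incl) ≫ a.act) ≫ a.act) := by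
      rw [← Category.assoc, ← Category.assoc, lift_whiskerLeft, hσ', e1, e2]
    rw [hLL, hRR, grpA, AlgGrp.Action.lift_mul_act]
  · -- the cartesian square
    have hw : (ChGrp.twist i aXh).act ≫ Φ = snd Z (G ⊗ Xh) ≫ Φ := by
      rw [← cancel_mono σ]
      apply AlgGrp.Action.hom_ext_lift₂
      intro T z p
      obtain ⟨g, x, rfl⟩ : ∃ g x, p = lift g x := ⟨_, _, hp T p⟩
      have hLL : lift z (lift g x) ≫ ((ChGrp.twist i aXh).act ≫ Φ) ≫ σ =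
          lift (g * (toUnit T ≫ h) * g⁻¹) (lift g (x ≫ incl) ≫ a.act) := by
        rw [Category.assoc, ← Category.assoc (lift z (lift g x)), ChGrp.lift_twist_act,
          ← Category.assoc, hΦ', hincl', ← AlgGrp.Action.lift_mul_act, inv_mul_cancel_right,
          grpB _ _ _ (hz T z)]
      have hRR : lift z (lift g x) ≫ (snd Z (G ⊗ Xh) ≫ Φ) ≫ σ =
          lift (g * (toUnit T ≫ h) * g⁻¹) (lift g (x ≫ incl) ≫ a.act) := by
        rw [Category.assoc, lift_snd_assoc, ← Category.assoc, hΦ']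
      rw [hLL, hRR]
    refine isPullback_of_existsUnique hw ?_
    intro T p₁ p₂ hpp
    obtain ⟨g₁, x₁, rfl⟩ : ∃ g₁ x₁, p₁ = lift g₁ x₁ := ⟨_, _, hp T p₁⟩
    obtain ⟨g₂, x₂, rfl⟩ : ∃ g₂ x₂, p₂ = lift g₂ x₂ := ⟨_, _, hp T p₂⟩
    obtain ⟨z, hz1, hz2, hzuniq⟩ := hfib T _ _ _ _ hpp
    have hg₁ : g₁ = g₂ * (z ≫ i)⁻¹ := by
      rw [← hz1, mul_inv_cancel_right]
    refine ⟨lift z (lift g₂ x₂), ⟨?_, lift_snd _ _⟩, ?_⟩
    · rw [ChGrp.lift_twist_act, ← hg₁, hz2]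
    · rintro l ⟨hl1, hl2⟩
      have hl : l = lift (l ≫ fst Z (G ⊗ Xh)) (lift g₂ x₂) := by
        apply CartesianMonoidalCategory.hom_ext
        · rw [lift_fst]
        · rw [lift_snd, hl2]
      have h3 : lift (l ≫ fst Z (G ⊗ Xh)) (lift g₂ x₂) ≫
          (ChGrp.twist i aXh).act = lift g₁ x₁ := by
        rw [← hl, hl1]
      rw [ChGrp.lift_twist_act] at h3
      have h4 : g₂ * ((l ≫ fst Z (G ⊗ Xh)) ≫ i)⁻¹ = g₁ := by
        have := congrArg (fun f => f ≫ fst G Xh) h3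
        simpa only [lift_fst] using this
      have h5 : g₁ * ((l ≫ fst Z (G ⊗ Xh)) ≫ i) = g₂ := by
        rw [← h4, inv_mul_cancel_right]
      rw [hl, hzuniq _ h5]
  · -- local sections
    show Loc K Φ.left
    obtain ⟨⟨pΨ, hpΨ⟩, hfix⟩ := (hSΨ SΨ (σ ≫ fst G X) (σ ≫ snd G X)).mp
      ⟨𝟙 SΨ, by rw [Category.id_comp, ← comp_lift, lift_fst_snd, Category.comp_id]⟩
    obtain ⟨W, pr₁, pr₂, hW⟩ : ∃ (W : Over S) (pr₁ : W ⟶ SΨ) (pr₂ : W ⟶ G),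
        IsPullback pr₁ pr₂ pΨ (aΨ.orbitMap o) := ⟨_, _, _, IsPullback.of_hasPullback _ _⟩
    have hpr : Loc K pr₁.left := Loc.of_isPullbackO hW hloc
    have hc : pr₁ ≫ σ ≫ fst G X = pr₂ * (toUnit W ≫ h) * pr₂⁻¹ := by
      rw [← hpΨ, ← Category.assoc, hW.w, horb]
    have hcx : lift (pr₁ ≫ σ ≫ fst G X) (pr₁ ≫ σ ≫ snd G X) ≫ a.act = pr₁ ≫ σ ≫ snd G X := by
      rw [← comp_lift, Category.assoc, hfix]
    obtain ⟨y, hy⟩ := (hXh W (lift pr₂⁻¹ (pr₁ ≫ σ ≫ snd G X) ≫ a.act)).mpr (by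
      rw [← AlgGrp.Action.lift_mul_act, grpD _ _ _ hc, AlgGrp.Action.lift_mul_act, hcx])
    have hs : lift pr₂ y ≫ Φ = pr₁ := by
      rw [← cancel_mono σ, hΦ', hy, ← AlgGrp.Action.lift_mul_act, _root_.mul_inv_cancel,
        AlgGrp.Action.lift_one_act, ← hc, ← comp_lift, ← comp_lift, lift_fst_snd,
        Category.comp_id]
    rw [← hs] at hpr
    exact Loc.of_compO hpr

end Groth.Agent.Lib.Helper8ConjClass
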