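import Mathlib

/-!
# Faithfully flat descent of free generators of rank one (helper8)

Pure algebra: for `A → B` faithfully flat, an `A`-module `P`, a `B`-module `Q` and a `B`-linear bijection
`Φ : B ⊗[A] P → Q`, an element `p : P` freely generates `P` iff `Φ (1 ⊗ p)` freely generates `Q`; if `B` is local
and `Q` is free of rank one, then some `Φ (1 ⊗ p)` freely generates `Q`.
-/

set_option autoImplicit false
universe u

open TensorProduct

namespace Groth.Agent.Lib.Helper8CounitDesc1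

variable {A B : Type*} [CommRing A] [CommRing B] [Algebra A B]
  {P : Type*} [AddCommGroup P] [Module A P] {Q : Type*} [AddCommGroup Q] [Module B Q]

/-- `b • Φ (1 ⊗ p) = Φ (b ⊗ p)` -/
theorem smul_phi (Φ : B ⊗[A] P →ₗ[B] Q) (p : P) (b : B) :
    b • Φ ((1 : B) ⊗ₜ[A] p) = Φ (b ⊗ₜ[A] p) := by
  rw [← map_smul, TensorProduct.smul_tmul', smul_eq_mul, mul_one]

/-- the map `b ↦ b • Φ (1 ⊗ p)` is `Φ ∘ (B ⊗ (a ↦ a • p)) ∘ (B ≅ B ⊗ A)` -/
theorem smul_phi_eq (Φ : B ⊗[A] P →ₗ[B] Q) (p : P) :
    (fun b : B => b • Φ ((1 : B) ⊗ₜ[A] p)) =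
      Φ ∘ (LinearMap.lTensor B (LinearMap.toSpanSingleton A P p)) ∘
        (TensorProduct.rid A B).symm := by
  funext b
  simp only [Function.comp_apply, TensorProduct.rid_symm_apply, LinearMap.lTensor_tmul,
    LinearMap.toSpanSingleton_apply, one_smul]
  exact smul_phi Φ p b

/-- descent of free generators along a faithfully flat ring map -/
theorem bijective_smul_iff [Module.FaithfullyFlat A B] (Φ : B ⊗[A] P →ₗ[B] Q)
    (hΦ : Function.Bijective Φ) (p : P) :
    Function.Bijective (fun b : B => b • Φ ((1 : B) ⊗ₜ[A] p)) ↔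
      Function.Bijective (fun a : A => a • p) := by
  rw [smul_phi_eq]
  have h1 : Function.Bijective (Φ ∘ (LinearMap.lTensor B (LinearMap.toSpanSingleton A P p)) ∘
      (TensorProduct.rid A B).symm) ↔
      Function.Bijective (LinearMap.lTensor B (LinearMap.toSpanSingleton A P p)) := by
    constructor
    · intro h
      have h2 : Function.Bijective ((LinearMap.lTensor B (LinearMap.toSpanSingleton A P p)) ∘
          (TensorProduct.rid A B).symm) := (Function.Bijective.of_comp_iff' hΦ _).1 h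
      exact (Function.Bijective.of_comp_iff _ (TensorProduct.rid A B).symm.bijective).1 h2
    · intro h
      exact hΦ.comp (h.comp (TensorProduct.rid A B).symm.bijective)
  rw [h1]
  have h3 : (fun a : A => a • p) = LinearMap.toSpanSingleton A P p := by
    funext a
    rfl
  rw [h3]
  constructor
  · intro h
    exact ⟨(Module.FaithfullyFlat.lTensor_injective_iff_injective A B _).1 h.1,
      (Module.FaithfullyFlat.lTensor_surjective_iff_surjective A B _).1 h.2⟩
  · intro h
    exact ⟨(Module.FaithfullyFlat.lTensor_injective_iff_injective A B _).2 h.1,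
      (Module.FaithfullyFlat.lTensor_surjective_iff_surjective A B _).2 h.2⟩

/-- if `B` is local, `Q` is free of rank one and `Φ : B ⊗[A] P → Q` is surjective, then some
`Φ (1 ⊗ p)` freely generates `Q` -/
theorem exists_bijective_smul [IsLocalRing B] (Φ : B ⊗[A] P →ₗ[B] Q)
    (hΦ : Function.Surjective Φ) (q₀ : Q) (hq₀ : Function.Bijective (fun b : B => b • q₀)) :
    ∃ p : P, Function.Bijective (fun b : B => b • Φ ((1 : B) ⊗ₜ[A] p)) := by
  by_contra hcon
  push Not at hcon
  -- every `Φ (1 ⊗ p)` is a non-unit multiple of `q₀`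
  have h1 : ∀ p : P, ∃ c ∈ IsLocalRing.maximalIdeal B, Φ ((1 : B) ⊗ₜ[A] p) = c • q₀ := by
    intro p
    obtain ⟨c, hc⟩ := hq₀.2 (Φ ((1 : B) ⊗ₜ[A] p))
    refine ⟨c, ?_, hc.symm⟩
    rw [IsLocalRing.mem_maximalIdeal, mem_nonunits_iff]
    intro hu
    apply hcon p
    have hc' : c • q₀ = Φ ((1 : B) ⊗ₜ[A] p) := hc
    rw [← hc']
    obtain ⟨u, rfl⟩ := hu
    have h2 : (fun b : B => b • (u : B) • q₀) = (fun b : B => b • q₀) ∘ (fun b : B => b * u) := by
      funext b
      simp only [Function.comp_apply, mul_smul]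
    rw [h2]
    refine hq₀.comp ⟨fun a b hab => ?_, fun b => ⟨b * ((u⁻¹ : Bˣ) : B), ?_⟩⟩
    · exact (Units.mul_left_inj u).1 hab
    · simp
  have h3 : ∀ z : B ⊗[A] P, ∃ c ∈ IsLocalRing.maximalIdeal B, Φ z = c • q₀ := by
    intro z
    induction z using TensorProduct.induction_on with
    | zero => exact ⟨0, Ideal.zero_mem _, by simp⟩
    | tmul b p =>
      obtain ⟨c, hc, hcp⟩ := h1 p
      refine ⟨b * c, Ideal.mul_mem_left _ _ hc, ?_⟩
      rw [← smul_phi, hcp, mul_smul]
    | add z w hz hw =>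
      obtain ⟨c, hc, hcz⟩ := hz
      obtain ⟨d, hd, hdw⟩ := hw
      exact ⟨c + d, Ideal.add_mem _ hc hd, by rw [map_add, hcz, hdw, add_smul]⟩
  obtain ⟨z, hz⟩ := hΦ q₀
  obtain ⟨c, hc, hcz⟩ := h3 z
  have h4 : c • q₀ = (1 : B) • q₀ := by rw [← hcz, hz, one_smul]
  have h5 : c = 1 := hq₀.1 h4
  rw [h5] at hc
  exact (IsLocalRing.maximalIdeal.isMaximal B).ne_top ((Ideal.eq_top_iff_one _).2 hc)

end Groth.Agent.Lib.Helper8CounitDesc1
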