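import Mathlib
import Groth.Prelude
import Groth.Agent.Lib.Helper8CounitDesc1
import Groth.Agent.Lib.Helper1PT3
import Groth.Agent.Lib.Helper26FpqcMod
import Groth.Agent.Lib.Helper10FinTriv

/-!
# The evaluation map `f^* f_* N ⟶ N` on stalks (helper8)
-/

set_option backward.isDefEq.respectTransparency.types false
set_option autoImplicit false
set_option linter.style.haveILetI false
set_option linter.unusedSectionVars false
universe u

open CategoryTheory CategoryTheory.Limits AlgebraicGeometry TopologicalSpace Opposite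

noncomputable section

namespace Groth.Agent.Lib.Helper8CounitDesc2

open Groth.Agent.Lib.Helper1.Sky Groth.Agent.Lib.Helper1.StalkTensor Groth.Agent.Lib.Helper1.PT
  Groth.Agent.Lib.Helper8CounitDesc1

variable {X S : Scheme.{u}} (f : X ⟶ S) (N : X.Modules) (x : X)

/-- the evaluation map on stalks: `O_{X,x} ⊗ (f_* N)_{f x} ⟶ N_x` -/
def Phi : (extF f x).obj ((stalkFun (f x)).obj ((psh f).obj N)) ⟶ (stalkFun x).obj N :=
  (stalkPullbackIso f x).inv.app ((psh f).obj N) ≫ (stalkFun x).map ((ppAdj f).counit.app N)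

open ChangeOfRings in
/-- the evaluation map on stalks sends `1 ⊗ germ_{f x} m` to `germ_x m` -/
theorem Phi_tmul (V : S.Opens) (hy : f x ∈ V) (m : (toPM ((psh f).obj N)).obj (op V)) :
    (Phi f N x).hom ((1 : Ox x) ⊗ₜ[Ox (f x), (f.stalkMap x).hom]
      (gm (toPM ((psh f).obj N)) (f x) V hy m)) = gm (toPM N) x (f ⁻¹ᵁ V) hy m := by
  have h1 := sigma_inv_unit f x ((psh f).obj N) V hy m
  have h2 : (Phi f N x).hom ((1 : Ox x) ⊗ₜ[Ox (f x), (f.stalkMap x).hom]
      (gm (toPM ((psh f).obj N)) (f x) V hy m)) =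
      ((stalkFun x).map ((ppAdj f).counit.app N)).hom
        (((stalkPullbackIso f x).inv.app ((psh f).obj N)).hom
          ((1 : Ox x) ⊗ₜ[Ox (f x), (f.stalkMap x).hom]
            (gm (toPM ((psh f).obj N)) (f x) V hy m))) := rfl
  rw [h2, h1]
  have h3 : ((stalkFun x).map ((ppAdj f).counit.app N)).hom
      (gm (toPM ((plb f).obj ((psh f).obj N))) x (f ⁻¹ᵁ V) hy
        ((toPMMap (un f ((psh f).obj N))).app (op V) m)) =
      gm (toPM N) x (f ⁻¹ᵁ V) hy ((toPMMap ((ppAdj f).counit.app N)).app (op (f ⁻¹ᵁ V))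
        ((toPMMap (un f ((psh f).obj N))).app (op V) m)) :=
    sm_gm (toPMMap ((ppAdj f).counit.app N)) hy _
  rw [h3]
  congr 1
  have h4 := (ppAdj f).right_triangle_components N
  have h5 := congrArg (fun g => (toPMMap g).app (op V) m) h4
  exact h5

open Groth.Agent.Lib.Helper20.RegMero in
/-- the evaluation map on stalks is bijective when the evaluation map is an isomorphism -/
theorem bijective_Phi [IsIso ((ppAdj f).counit.app N)] : Function.Bijective (Phi f N x).hom := by
  haveI : IsIso (Phi f N x) := by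
    unfold Phi
    infer_instance
  exact ConcreteCategory.bijective_of_isIso (Phi f N x)

/-- the evaluation map on stalks is surjective when the evaluation map is an epimorphism -/
theorem surjective_Phi [Epi ((ppAdj f).counit.app N)] : Function.Surjective (Phi f N x).hom := by
  have h1 : Function.Surjective ((stalkFun x).map ((ppAdj f).counit.app N)).hom :=
    Groth.Agent.Lib.Helper26.FpqcMod.stalk_surjective_of_epi _ x
  have h2 : Function.Bijective ((stalkPullbackIso f x).inv.app ((psh f).obj N)).hom :=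
    ConcreteCategory.bijective_of_isIso ((stalkPullbackIso f x).inv.app ((psh f).obj N))
  exact h1.comp h2.2

open Groth.Agent.Lib.Helper20.RegMero ChangeOfRings in
/-- a section of `N` over `f⁻¹V` freely generates the stalk of `N` at `x` iff it freely generates the stalk of
`f_* N` at `f x` -/
theorem isGen_iff [Flat f] [IsIso ((ppAdj f).counit.app N)] (V : S.Opens) (hy : f x ∈ V)
    (t : Γ(N, f ⁻¹ᵁ V)) :
    IsGen N x (N.presheaf.germ (f ⁻¹ᵁ V) x hy t) ↔
      IsGen ((psh f).obj N) (f x) (((psh f).obj N).presheaf.germ V (f x) hy t) := by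
  letI := (f.stalkMap x).hom.toAlgebra
  haveI := Groth.Agent.Lib.Helper26.FpqcMod.faithfullyFlat_stalkMap f x
  have h := bijective_smul_iff (A := Ox (f x)) (B := Ox x) (Phi f N x).hom (bijective_Phi f N x)
    (gm (toPM ((psh f).obj N)) (f x) V hy t)
  have h2 := Phi_tmul f N x V hy t
  have h3 : (fun b : Ox x => b • (Phi f N x).hom ((1 : Ox x) ⊗ₜ[Ox (f x), (f.stalkMap x).hom]
      (gm (toPM ((psh f).obj N)) (f x) V hy t))) =
      fun b : Ox x => b • gm (toPM N) x (f ⁻¹ᵁ V) hy t :=
    funext (fun b => congrArg (fun q => b • q) h2)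
  have h4 : Function.Bijective (fun b : Ox x => b • (Phi f N x).hom
      ((1 : Ox x) ⊗ₜ[Ox (f x), (f.stalkMap x).hom] (gm (toPM ((psh f).obj N)) (f x) V hy t))) ↔
      Function.Bijective (fun b : Ox x => b • gm (toPM N) x (f ⁻¹ᵁ V) hy t) :=
    Iff.of_eq (congrArg Function.Bijective h3)
  exact h4.symm.trans h

open Groth.Agent.Lib.Helper20.RegMero ChangeOfRings in
/-- if the evaluation map of an invertible module `N` is an epimorphism, then near every point `x` some section of
`N` over the preimage of an open neighbourhood of `f x` freely generates the stalk at `x` -/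
theorem exists_isGen_germ [Epi ((ppAdj f).counit.app N)] (hN : PicF.IsInvertible N) :
    ∃ (V : S.Opens) (hy : f x ∈ V) (t : Γ(N, f ⁻¹ᵁ V)),
      IsGen N x (N.presheaf.germ (f ⁻¹ᵁ V) x hy t) := by
  letI := (f.stalkMap x).hom.toAlgebra
  obtain ⟨g₀, hg₀⟩ := exists_isGen N hN x
  obtain ⟨p, hp⟩ := exists_bijective_smul (A := Ox (f x)) (B := Ox x) (Phi f N x).hom
    (surjective_Phi f N x) g₀ hg₀
  obtain ⟨V, hy, m, rfl⟩ := exists_gm_eq p
  refine ⟨V, hy, m, ?_⟩
  have h2 := Phi_tmul f N x V hy m
  have h3 : (fun b : Ox x => b • (Phi f N x).hom ((1 : Ox x) ⊗ₜ[Ox (f x), (f.stalkMap x).hom]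
      (gm (toPM ((psh f).obj N)) (f x) V hy m))) =
      fun b : Ox x => b • gm (toPM N) x (f ⁻¹ᵁ V) hy m :=
    funext (fun b => congrArg (fun q => b • q) h2)
  have h4 : Function.Bijective (fun b : Ox x => b • (Phi f N x).hom
      ((1 : Ox x) ⊗ₜ[Ox (f x), (f.stalkMap x).hom] (gm (toPM ((psh f).obj N)) (f x) V hy m))) ↔
      Function.Bijective (fun b : Ox x => b • gm (toPM N) x (f ⁻¹ᵁ V) hy m) :=
    Iff.of_eq (congrArg Function.Bijective h3)
  exact h4.1 hp

end Groth.Agent.Lib.Helper8CounitDesc2
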