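import Mathlib
import Groth.Prelude
import Groth.Agent.Lib.Helper8CounitDesc2
import Groth.Agent.Lib.Helper23SecTw3
import Groth.Agent.Lib.R2H4FibTriv
import Groth.Agent.Lib.Helper23QAffSec

/-!
# If `f^* f_* N ⟶ N` is an isomorphism then `f_* N` is invertible (helper8)

`f` flat, closed and surjective with `O_S ≅ f_* O_X`, `N` invertible.
-/

set_option backward.isDefEq.respectTransparency.types false
set_option autoImplicit false
set_option linter.style.haveILetI false
set_option linter.unusedSectionVars false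
universe u

open CategoryTheory CategoryTheory.Limits AlgebraicGeometry TopologicalSpace Opposite

namespace Groth.Agent.Lib.Helper8CounitDesc3

open Groth.Agent.Lib.Helper1.PT Groth.Agent.Lib.Helper8CounitDesc2 Groth.Agent.Lib.Helper6

variable {X S : Scheme.{u}} (f : X ⟶ S) (N : X.Modules)

/-- local generators of `N` over preimages of opens of the base, from the evaluation isomorphism -/
theorem exists_local_gen [Flat f] [IsIso ((ppAdj f).counit.app N)] (hN : PicF.IsInvertible N)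
    (hcl : IsClosedMap f) (x : X) :
    ∃ (U : S.Opens) (_ : f x ∈ U) (t : Γ(N, f ⁻¹ᵁ U)),
      Groth.Agent.Lib.Helper23.SecTw.IsGen N (f ⁻¹ᵁ U) t := by
  obtain ⟨V, hxV, t, ht⟩ := exists_isGen_germ f N x hN
  -- the generating locus
  set G : Set X := {x' : X | ∃ hx' : x' ∈ f ⁻¹ᵁ V,
    Groth.Agent.Lib.Helper20.RegMero.IsGen N x' (N.presheaf.germ (f ⁻¹ᵁ V) x' hx' t)} with hG
  have hGo : IsOpen G := Groth.Agent.Lib.Helper10.FinTriv.isOpen_setOf_isGen N hN t
  -- the predicate on the base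
  have hbase : ∃ hy : f x ∈ V, Groth.Agent.Lib.Helper20.RegMero.IsGen ((psh f).obj N) (f x)
      (((psh f).obj N).presheaf.germ V (f x) hy t) := ⟨hxV, (isGen_iff f N x V hxV t).1 ht⟩
  have hfib : ∀ x' : X, f x' = f x → x' ∈ G := by
    intro x' hx'
    have h1 : ∃ hy : f x' ∈ V, Groth.Agent.Lib.Helper20.RegMero.IsGen ((psh f).obj N) (f x')
        (((psh f).obj N).presheaf.germ V (f x') hy t) := by
      rw [hx']
      exact hbase
    obtain ⟨hy', h2⟩ := h1
    exact ⟨hy', (isGen_iff f N x' V hy' t).2 h2⟩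
  have hZ : IsClosed (f '' Gᶜ) := hcl _ hGo.isClosed_compl
  let U : S.Opens := V ⊓ ⟨(f '' Gᶜ)ᶜ, hZ.isOpen_compl⟩
  have hxU : f x ∈ U := by
    refine ⟨hxV, ?_⟩
    rintro ⟨z, hz, hzx⟩
    exact hz (hfib z hzx)
  have hUV : f ⁻¹ᵁ U ≤ f ⁻¹ᵁ V := f.preimage_mono inf_le_left
  have hUG : ∀ x' : X, x' ∈ f ⁻¹ᵁ U → x' ∈ G := by
    intro x' hx'
    by_contra hcon
    exact hx'.2 ⟨x', hcon, rfl⟩
  refine ⟨U, hxU, res N hUV t, ?_⟩
  intro W' hW'
  refine Groth.Agent.Lib.Helper10.FinTriv.bijective_of_isGen N (res N hUV t) (fun x' hx' => ?_) W' hW'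
  obtain ⟨hx'V, h3⟩ := hUG x' hx'
  have h4 : N.presheaf.germ (f ⁻¹ᵁ U) x' hx' (res N hUV t) =
      N.presheaf.germ (f ⁻¹ᵁ V) x' hx'V t :=
    TopCat.Presheaf.germ_res_apply N.presheaf (homOfLE hUV) x' hx' t
  rw [h4]
  exact h3

/-- **if the evaluation map `f^* f_* N ⟶ N` of an invertible module is an isomorphism, `f` is flat, closed and
surjective and `O_S ≅ f_* O_X`, then `f_* N` is invertible** -/
theorem push_invertible_of_counit_iso [Flat f] [IsIso ((ppAdj f).counit.app N)]
    (hN : PicF.IsInvertible N) (hcl : IsClosedMap f) (hsurj : Function.Surjective f)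
    (hfV : ∀ V : S.Opens, IsIso (f.app V)) :
    PicF.IsInvertible ((Scheme.Modules.pushforward f).obj N) := by
  refine (Groth.Agent.Lib.R2H4FibTriv.push_invertible_of_local_gen f hfV N (fun y => ?_)).1
  obtain ⟨x, rfl⟩ := hsurj y
  exact exists_local_gen f N hN hcl x

end Groth.Agent.Lib.Helper8CounitDesc3
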