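import Mathlib
import Groth.Prelude.Def_W4c3severiratdpLat
import Groth.Agent.Lib.Helper24DPConic

/-!
# Weyl group orbits in the Picard lattice of a del Pezzo surface (helper8)

Reflections in roots, chains of exceptional classes, and kernel-checked enumerations.
-/

set_option autoImplicit false

namespace Groth.Agent.Lib.Helper8DP

open W4c3severiratdp
open Groth.Agent.Lib.Helper24DPConic (rng mem_rng cs_bound)

variable {δ : ℕ}

/-! ### Bilinearity of the form -/

theorem form_add_left (u v w : DP δ) : form (u + v) w = form u w + form v w := by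
  simp only [form, Pi.add_apply, add_mul, Finset.sum_add_distrib]
  ring

theorem form_smul_left (c : ℤ) (v w : DP δ) : form (c • v) w = c * form v w := by
  simp only [form, Pi.smul_apply, smul_eq_mul, mul_sub, Finset.mul_sum, mul_assoc]

theorem form_comm (v w : DP δ) : form v w = form w v := by
  simp only [form, mul_comm]

theorem form_add_right (u v w : DP δ) : form u (v + w) = form u v + form u w := by
  rw [form_comm, form_add_left, form_comm v, form_comm w]

theorem form_smul_right (c : ℤ) (v w : DP δ) : form v (c • w) = c * form v w := by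
  rw [form_comm, form_smul_left, form_comm]

theorem form_sub_right (u v w : DP δ) : form u (v - w) = form u v - form u w := by
  have : v - w = v + (-1 : ℤ) • w := by simp [sub_eq_add_neg]
  rw [this, form_add_right, form_smul_right]
  ring

theorem form_sub_left (u v w : DP δ) : form (u - v) w = form u w - form v w := by
  rw [form_comm, form_sub_right, form_comm u, form_comm v]

/-! ### Reflections -/

/-- The reflection `v ↦ v + (v · ρ) ρ` in a root `ρ` (a class with `ρ · ρ = -2`). -/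
def refl (ρ : DP δ) : DP δ →ₗ[ℤ] DP δ where
  toFun v := v + form v ρ • ρ
  map_add' u v := by
    rw [form_add_left, add_smul]
    abel
  map_smul' c v := by
    rw [form_smul_left, RingHom.id_apply, smul_add, mul_smul]

theorem refl_apply (ρ v : DP δ) : refl ρ v = v + form v ρ • ρ := rfl

theorem refl_refl (ρ : DP δ) (hρ : form ρ ρ = -2) (v : DP δ) : refl ρ (refl ρ v) = v := by
  rw [refl_apply, refl_apply, form_add_left, form_smul_left, hρ, add_assoc, ← add_smul]
  have : form v ρ + (form v ρ + form v ρ * -2) = 0 := by ring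
  rw [this, zero_smul, add_zero]

/-- The reflection as a linear automorphism. -/
def reflEquiv (ρ : DP δ) (hρ : form ρ ρ = -2) : DP δ ≃ₗ[ℤ] DP δ :=
  LinearEquiv.ofInvolutive (refl ρ) (refl_refl ρ hρ)

theorem reflEquiv_apply (ρ : DP δ) (hρ : form ρ ρ = -2) (v : DP δ) :
    reflEquiv ρ hρ v = v + form v ρ • ρ := rfl

theorem form_refl (ρ : DP δ) (hρ : form ρ ρ = -2) (v w : DP δ) :
    form (refl ρ v) (refl ρ w) = form v w := by
  simp only [refl_apply, form_add_left, form_add_right, form_smul_left, form_smul_right, hρ]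
  rw [form_comm ρ w]
  ring

theorem isWeyl_reflEquiv (ρ : DP δ) (hρ : form ρ ρ = -2) (hK : form (canon δ) ρ = 0) :
    IsWeyl (reflEquiv ρ hρ) := by
  refine ⟨fun v w => form_refl ρ hρ v w, ?_⟩
  rw [reflEquiv_apply, hK, zero_smul, add_zero]

theorem isWeyl_refl_id : IsWeyl (LinearEquiv.refl ℤ (DP δ)) :=
  ⟨fun _ _ => rfl, rfl⟩

theorem isWeyl_trans {g h : DP δ ≃ₗ[ℤ] DP δ} (hg : IsWeyl g) (hh : IsWeyl h) :
    IsWeyl (g.trans h) := by
  refine ⟨fun v w => ?_, ?_⟩
  · rw [LinearEquiv.trans_apply, LinearEquiv.trans_apply, hh.1, hg.1]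
  · rw [LinearEquiv.trans_apply, hg.2, hh.2]

theorem isWeyl_symm {g : DP δ ≃ₗ[ℤ] DP δ} (hg : IsWeyl g) : IsWeyl g.symm := by
  refine ⟨fun v w => ?_, ?_⟩
  · have := hg.1 (g.symm v) (g.symm w)
    rw [LinearEquiv.apply_symm_apply, LinearEquiv.apply_symm_apply] at this
    exact this.symm
  · rw [LinearEquiv.symm_apply_eq, hg.2]

/-! ### Conjugacy under the stabilizer of a set of classes -/

/-- `M` and `M'` are conjugate under the subgroup of the Weyl group fixing `F` pointwise. -/
def Conj (F : Set (DP δ)) (M M' : DP δ) : Prop :=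
  ∃ g : DP δ ≃ₗ[ℤ] DP δ, IsWeyl g ∧ g M = M' ∧ ∀ v ∈ F, g v = v

theorem Conj.refl (F : Set (DP δ)) (M : DP δ) : Conj F M M :=
  ⟨LinearEquiv.refl ℤ _, isWeyl_refl_id, rfl, fun _ _ => rfl⟩

theorem Conj.symm {F : Set (DP δ)} {M M' : DP δ} (h : Conj F M M') : Conj F M' M := by
  obtain ⟨g, hg, hM, hF⟩ := h
  refine ⟨g.symm, isWeyl_symm hg, ?_, fun v hv => ?_⟩
  · rw [LinearEquiv.symm_apply_eq, hM]
  · rw [LinearEquiv.symm_apply_eq, hF v hv]

theorem Conj.trans {F : Set (DP δ)} {M M' M'' : DP δ} (h : Conj F M M') (h' : Conj F M' M'') :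
    Conj F M M'' := by
  obtain ⟨g, hg, hM, hF⟩ := h
  obtain ⟨g', hg', hM', hF'⟩ := h'
  refine ⟨g.trans g', isWeyl_trans hg hg', ?_, fun v hv => ?_⟩
  · rw [LinearEquiv.trans_apply, hM, hM']
  · rw [LinearEquiv.trans_apply, hF v hv, hF' v hv]

/-- Two exceptional classes with `M · M' = 0` are exchanged by the reflection in `M - M'`, which
fixes every class having the same product with `M` and `M'`. -/
theorem conj_of_form_eq_zero {F : Set (DP δ)} {M M' : DP δ} (hM : IsExc M) (hM' : IsExc M')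
    (h0 : form M M' = 0) (hF : ∀ v ∈ F, form v M = form v M') : Conj F M M' := by
  have hρ : form (M - M') (M - M') = -2 := by
    rw [form_sub_left, form_sub_right, form_sub_right, hM.1, hM'.1, h0, form_comm M' M, h0]
    ring
  have hK : form (canon δ) (M - M') = 0 := by
    rw [form_sub_right, hM.2, hM'.2]
    ring
  refine ⟨reflEquiv (M - M') hρ, isWeyl_reflEquiv _ hρ hK, ?_, fun v hv => ?_⟩
  · rw [reflEquiv_apply, form_sub_right, hM.1, h0]
    ext i
    simp only [Pi.add_apply, Pi.smul_apply, Pi.sub_apply, smul_eq_mul]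
    ring
  · rw [reflEquiv_apply, form_sub_right, hF v hv, sub_self, zero_smul, add_zero]


/-! ### Enumeration of integer vectors with given sum and sum of squares -/

/-- All integer lists of length `d` with sum `s` and sum of squares `t` (for `t ≤ 121`). -/
def solAll : ℕ → ℤ → ℤ → List (List ℤ)
  | 0, s, t => if s = 0 ∧ t = 0 then [[]] else []
  | d + 1, s, t =>
    (rng.filter fun b => b * b ≤ t ∧ (s - b) * (s - b) ≤ (d : ℤ) * (t - b * b)).flatMap
      fun b => (solAll d (s - b) (t - b * b)).map (b :: ·)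

theorem mem_solAll (d : ℕ) : ∀ (y : Fin d → ℤ) (s t : ℤ), t ≤ 121 →
    ∑ i, y i = s → ∑ i, y i * y i = t → List.ofFn y ∈ solAll d s t := by
  induction d with
  | zero =>
    intro y s t _ h1 h2
    simp only [Finset.univ_eq_empty, Finset.sum_empty] at h1 h2
    simp [solAll, ← h1, ← h2]
  | succ d ih =>
    intro x s t ht h1 h2
    rw [Fin.sum_univ_succ] at h1 h2
    set b := x 0 with hb
    set y : Fin d → ℤ := Fin.tail x with hy
    have hy1 : ∑ i, y i = s - b := by
      have : ∑ i : Fin d, x i.succ = ∑ i, y i := rfl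
      linarith
    have hy2 : ∑ i, y i * y i = t - b * b := by
      have : ∑ i : Fin d, x i.succ * x i.succ = ∑ i, y i * y i := rfl
      linarith
    have hnn : 0 ≤ ∑ i, y i * y i := Finset.sum_nonneg fun i _ => mul_self_nonneg _
    have hbt : b * b ≤ t := by linarith
    have hcs := cs_bound y
    rw [hy1, hy2] at hcs
    have hb1 : -11 ≤ b := by nlinarith
    have hb2 : b ≤ 11 := by nlinarith
    have hle : t - b * b ≤ 121 := by nlinarith [mul_self_nonneg b]
    have := ih y (s - b) (t - b * b) hle hy1 hy2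
    rw [List.ofFn_succ]
    simp only [solAll, List.mem_flatMap, List.mem_filter, List.mem_map, decide_eq_true_eq]
    exact ⟨b, ⟨mem_rng.2 ⟨hb1, hb2⟩, hbt, hcs⟩, List.ofFn y, this, rfl⟩

/-! ### Lists as classes for `δ = 8` -/

/-- The class with the given list of coordinates (missing coordinates are zero). -/
def toDP (l : List ℤ) : DP 8 := fun i => l.getD i 0

theorem toDP_ofFn (v : DP 8) : toDP (List.ofFn v) = v := by
  funext i
  unfold toDP
  rw [List.getD_eq_getElem?_getD, List.getElem?_ofFn]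
  simp

/-- The form, computed on lists of coordinates. -/
def lform (l l' : List ℤ) : ℤ :=
  l.getD 0 0 * l'.getD 0 0 - (l.getD 1 0 * l'.getD 1 0 + l.getD 2 0 * l'.getD 2 0 +
    l.getD 3 0 * l'.getD 3 0 + l.getD 4 0 * l'.getD 4 0 + l.getD 5 0 * l'.getD 5 0 +
    l.getD 6 0 * l'.getD 6 0 + l.getD 7 0 * l'.getD 7 0 + l.getD 8 0 * l'.getD 8 0)

theorem form_toDP (l l' : List ℤ) : form (toDP l) (toDP l') = lform l l' := by
  simp only [form, toDP, lform, Fin.sum_univ_succ, Finset.univ_eq_empty, Finset.sum_empty]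
  simp only [Fin.val_zero, Fin.val_succ]
  ring

/-- Coordinates of the canonical class. -/
def canonL : List ℤ := [-3, -1, -1, -1, -1, -1, -1, -1, -1]

theorem toDP_canonL : toDP canonL = canon 8 := by
  funext i
  fin_cases i <;> rfl

/-- Decidable form of "exceptional class". -/
def IsExcL (l : List ℤ) : Prop := lform l l = -1 ∧ lform canonL l = -1

instance (l : List ℤ) : Decidable (IsExcL l) := by unfold IsExcL; infer_instance

theorem isExc_toDP {l : List ℤ} (h : IsExcL l) : IsExc (toDP l) := by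
  refine ⟨?_, ?_⟩
  · rw [form_toDP]; exact h.1
  · rw [← toDP_canonL, form_toDP]; exact h.2

/-- The possible values of the first coordinate of an exceptional class. -/
def arng : List ℤ := [-1, 0, 1, 2, 3, 4, 5, 6, 7]

/-- All exceptional classes for `δ = 8`. -/
def excList : List (List ℤ) :=
  arng.flatMap fun a => (solAll 8 (3 * a - 1) (a * a + 1)).map (a :: ·)

theorem exc_iff (v : DP 8) : IsExc v ↔
    (∑ i : Fin 8, v i.succ = 3 * v 0 - 1 ∧ ∑ i : Fin 8, v i.succ * v i.succ = v 0 * v 0 + 1) := by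
  unfold IsExc form canon
  simp only [Fin.cases_zero, Fin.cases_succ, neg_mul, one_mul, Finset.sum_neg_distrib]
  constructor
  · rintro ⟨h1, h2⟩
    constructor <;> linarith
  · rintro ⟨h1, h2⟩
    constructor <;> linarith

theorem mem_excList (v : DP 8) (h : IsExc v) : List.ofFn v ∈ excList := by
  obtain ⟨h1, h2⟩ := (exc_iff v).1 h
  have hcs := cs_bound (fun i : Fin 8 => v i.succ)
  rw [h1, h2] at hcs
  have h8 : ((8 : ℕ) : ℤ) = 8 := by norm_num
  rw [h8] at hcs
  have ha1 : -1 ≤ v 0 := by nlinarith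
  have ha2 : v 0 ≤ 7 := by nlinarith
  have hle : v 0 * v 0 + 1 ≤ 121 := by nlinarith
  have hmem := mem_solAll 8 (fun i : Fin 8 => v i.succ) _ _ hle h1 h2
  rw [excList, List.mem_flatMap]
  refine ⟨v 0, ?_, ?_⟩
  · have : v 0 = -1 ∨ v 0 = 0 ∨ v 0 = 1 ∨ v 0 = 2 ∨ v 0 = 3 ∨ v 0 = 4 ∨ v 0 = 5 ∨ v 0 = 6 ∨
        v 0 = 7 := by omega
    simp only [arng, List.mem_cons, List.not_mem_nil, or_false]
    exact this
  · rw [List.mem_map]
    exact ⟨_, hmem, (List.ofFn_succ (f := v)).symm⟩

theorem excList_length : excList.length = 240 := by decide +kernel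


theorem excList_isExc : ∀ l ∈ excList, IsExcL l := by decide +kernel

/-! ### Chains of exceptional classes -/

/-- The class `e₈`. -/
def e8L : List ℤ := [0, 0, 0, 0, 0, 0, 0, 0, -1]

/-- One step of a chain: equal or orthogonal classes. -/
def Step (u v : List ℤ) : Prop := u = v ∨ lform u v = 0

instance (u v : List ℤ) : Decidable (Step u v) := by unfold Step; infer_instance

theorem conj_of_step {F : Set (DP 8)} {u v : List ℤ} (hu : IsExcL u) (hv : IsExcL v)
    (h : Step u v) (hF : ∀ w ∈ F, form w (toDP u) = form w (toDP v)) :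
    Conj F (toDP u) (toDP v) := by
  rcases h with h | h
  · rw [h]
    exact Conj.refl _ _
  · exact conj_of_form_eq_zero (isExc_toDP hu) (isExc_toDP hv) (by rw [form_toDP]; exact h) hF

theorem isExc_of_isWeyl {δ : ℕ} {g : DP δ ≃ₗ[ℤ] DP δ} (hg : IsWeyl g) {v : DP δ} (hv : IsExc v) :
    IsExc (g v) := by
  refine ⟨by rw [hg.1]; exact hv.1, ?_⟩
  have := hg.1 (canon δ) v
  rw [hg.2] at this
  rw [this]
  exact hv.2

/-- Certificates: for each exceptional class (by position in `excList`) the positions of the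
two intermediate members of a chain of length three to `e₈`. -/
def table1 : List (ℕ × ℕ) :=
  [(7, 7), (7, 7), (7, 7), (7, 7), (7, 7), (7, 7), (7, 7), (7, 7), (0, 7), (0, 7), (7, 7), (0, 7),
   (7, 7), (7, 7), (0, 7), (7, 7), (7, 7), (7, 7), (0, 7), (7, 7), (7, 7), (7, 7), (7, 7), (0, 7),
   (7, 7), (7, 7), (7, 7), (7, 7), (7, 7), (1, 7), (7, 7), (7, 7), (7, 7), (7, 7), (7, 7), (7, 7),
   (0, 7), (0, 7), (0, 7), (0, 7), (0, 7), (7, 7), (0, 7), (0, 7), (0, 7), (0, 7), (7, 7), (0, 7),
   (0, 7), (0, 7), (7, 7), (0, 7), (0, 7), (7, 7), (0, 7), (7, 7), (7, 7), (1, 7), (1, 7), (1, 7),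
   (1, 7), (7, 7), (1, 7), (1, 7), (1, 7), (7, 7), (1, 7), (1, 7), (7, 7), (1, 7), (7, 7), (7, 7),
   (2, 7), (2, 7), (2, 7), (7, 7), (2, 7), (2, 7), (7, 7), (2, 7), (7, 7), (7, 7), (3, 7), (3, 7),
   (7, 7), (3, 7), (7, 7), (7, 7), (4, 7), (7, 7), (7, 7), (7, 7), (0, 7), (0, 7), (0, 7), (0, 7),
   (0, 7), (0, 7), (0, 7), (1, 7), (1, 7), (1, 7), (1, 7), (1, 7), (1, 7), (2, 7), (2, 7), (2, 7),
   (2, 7), (2, 7), (3, 7), (3, 7), (3, 7), (3, 7), (4, 7), (4, 7), (4, 7), (5, 7), (5, 7), (6, 7),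
   (7, 7), (6, 7), (7, 7), (5, 7), (6, 7), (7, 7), (4, 7), (5, 7), (6, 7), (7, 7), (3, 7), (4, 7),
   (5, 7), (6, 7), (7, 7), (2, 7), (3, 7), (4, 7), (5, 7), (6, 7), (7, 7), (1, 7), (2, 7), (3, 7),
   (4, 7), (5, 7), (6, 7), (7, 7), (10, 7), (12, 7), (13, 7), (10, 7), (15, 7), (16, 7), (10, 7), (17, 7),
   (12, 7), (13, 7), (19, 7), (20, 7), (10, 7), (21, 7), (12, 7), (13, 7), (22, 7), (15, 7), (16, 7), (17, 7),
   (24, 7), (25, 7), (10, 7), (26, 7), (12, 7), (13, 7), (27, 7), (15, 7), (16, 7), (17, 7), (28, 7), (19, 7),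
   (20, 7), (21, 7), (22, 7), (30, 7), (31, 7), (10, 7), (32, 7), (12, 7), (13, 7), (33, 7), (15, 7), (16, 7),
   (17, 7), (34, 7), (19, 7), (20, 7), (21, 7), (22, 7), (35, 7), (24, 7), (25, 7), (26, 7), (27, 7), (28, 7),
   (41, 7), (46, 7), (50, 7), (53, 7), (55, 7), (56, 7), (41, 7), (61, 7), (65, 7), (68, 7), (70, 7), (71, 7),
   (41, 7), (75, 7), (78, 7), (80, 7), (81, 7), (46, 7), (84, 7), (86, 7), (87, 7), (50, 7), (89, 7), (90, 7),
   (53, 7), (91, 7), (55, 7), (56, 7), (92, 0), (120, 7), (122, 7), (125, 7), (129, 7), (134, 7), (140, 7), (147, 7)]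

/-- The `n`-th exceptional class. -/
def exc (n : ℕ) : List ℤ := excList.getD n []

theorem exists_exc {l : List ℤ} (h : l ∈ excList) : ∃ n ∈ List.range 240, exc n = l := by
  obtain ⟨n, hn, rfl⟩ := List.mem_iff_getElem.1 h
  refine ⟨n, ?_, ?_⟩
  · rw [List.mem_range, ← excList_length]
    exact hn
  · rw [exc, List.getD_eq_getElem _ _ hn]

set_option maxRecDepth 100000 in
theorem chain1 : ∀ n ∈ List.range 240,
    IsExcL (exc (table1.getD n (0, 0)).1) ∧ IsExcL (exc (table1.getD n (0, 0)).2) ∧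
    Step (exc n) (exc (table1.getD n (0, 0)).1) ∧
    Step (exc (table1.getD n (0, 0)).1) (exc (table1.getD n (0, 0)).2) ∧
    Step (exc (table1.getD n (0, 0)).2) e8L := by
  decide +kernel

/-- Every exceptional class is conjugate to `e₈` under the Weyl group. -/
theorem conj_e8 (L : DP 8) (hL : IsExc L) : Conj ∅ L (toDP e8L) := by
  obtain ⟨n, hn, hnl⟩ := exists_exc (mem_excList L hL)
  obtain ⟨hx', hy', h1, h2, h3⟩ := chain1 n hn
  rw [hnl] at h1
  have hl := excList_isExc _ (mem_excList L hL)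
  have he : IsExcL e8L := by decide
  have c1 := conj_of_step (F := ∅) hl hx' h1 (fun _ h => absurd h (Set.notMem_empty _))
  have c2 := conj_of_step (F := ∅) hx' hy' h2 (fun _ h => absurd h (Set.notMem_empty _))
  have c3 := conj_of_step (F := ∅) hy' he h3 (fun _ h => absurd h (Set.notMem_empty _))
  rw [toDP_ofFn] at c1
  exact (c1.trans c2).trans c3

/-- Representatives of the orbits of the stabilizer of `e₈` on exceptional classes, indexed by
the product with `e₈`. -/
def base (c : ℤ) : List ℤ :=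
  if c = -1 then e8L else if c = 0 then [0, 0, 0, 0, 0, 0, 0, -1, 0]
  else if c = 1 then [1, 0, 0, 0, 0, 0, 0, 1, 1] else if c = 2 then [3, 1, 1, 1, 1, 1, 1, 0, 2]
  else [6, 2, 2, 2, 2, 2, 2, 2, 3]

/-- Certificates: for each exceptional class the positions of the two intermediate members of a
chain of length three to the representative, all members having the same product with `e₈`. -/
def table2 : List (ℕ × ℕ) :=
  [(6, 6), (6, 6), (6, 6), (6, 6), (6, 6), (6, 6), (6, 6), (7, 7), (8, 8), (8, 8), (0, 6), (8, 8),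
   (0, 6), (6, 6), (8, 8), (0, 6), (6, 6), (6, 6), (8, 8), (0, 6), (6, 6), (6, 6), (6, 6), (8, 8),
   (0, 6), (6, 6), (6, 6), (6, 6), (6, 6), (8, 8), (1, 6), (6, 6), (6, 6), (6, 6), (6, 6), (6, 6),
   (8, 8), (8, 8), (8, 8), (8, 8), (9, 8), (0, 6), (8, 8), (8, 8), (8, 8), (9, 8), (0, 6), (8, 8),
   (8, 8), (9, 8), (0, 6), (8, 8), (9, 8), (0, 6), (11, 8), (0, 6), (6, 6), (8, 8), (8, 8), (8, 8),
   (9, 8), (1, 6), (8, 8), (8, 8), (9, 8), (1, 6), (8, 8), (9, 8), (1, 6), (11, 8), (1, 6), (6, 6),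
   (8, 8), (8, 8), (9, 8), (2, 6), (8, 8), (9, 8), (2, 6), (11, 8), (2, 6), (6, 6), (8, 8), (9, 8),
   (3, 6), (11, 8), (3, 6), (6, 6), (14, 8), (4, 6), (6, 6), (6, 6), (119, 119), (8, 8), (9, 8), (11, 8),
   (14, 8), (18, 8), (23, 8), (119, 119), (8, 8), (9, 8), (11, 8), (14, 8), (18, 8), (119, 119), (8, 8), (9, 8),
   (11, 8), (14, 8), (119, 119), (8, 8), (9, 8), (11, 8), (119, 119), (8, 8), (9, 8), (119, 119), (8, 8), (119, 119),
   (10, 0), (9, 8), (13, 6), (11, 8), (11, 8), (13, 6), (14, 8), (14, 8), (14, 8), (16, 6), (18, 8), (18, 8),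
   (18, 8), (18, 8), (20, 6), (23, 8), (23, 8), (23, 8), (23, 8), (23, 8), (25, 6), (29, 8), (29, 8), (29, 8),
   (29, 8), (29, 8), (29, 8), (31, 6), (92, 119), (92, 119), (119, 119), (36, 8), (92, 119), (119, 119), (36, 8), (119, 119),
   (36, 8), (36, 8), (92, 119), (119, 119), (37, 8), (119, 119), (37, 8), (37, 8), (119, 119), (38, 8), (38, 8), (39, 8),
   (92, 119), (119, 119), (42, 8), (119, 119), (42, 8), (42, 8), (119, 119), (43, 8), (43, 8), (44, 8), (119, 119), (47, 8),
   (47, 8), (48, 8), (51, 8), (99, 119), (119, 119), (57, 8), (119, 119), (57, 8), (57, 8), (119, 119), (58, 8), (58, 8),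
   (59, 8), (119, 119), (62, 8), (62, 8), (63, 8), (66, 8), (119, 119), (72, 8), (72, 8), (73, 8), (76, 8), (82, 8),
   (92, 119), (92, 119), (92, 119), (92, 119), (92, 119), (119, 119), (93, 8), (99, 119), (99, 119), (99, 119), (99, 119), (119, 119),
   (100, 8), (105, 119), (105, 119), (105, 119), (119, 119), (106, 8), (110, 119), (110, 119), (119, 119), (111, 8), (114, 119), (119, 119),
   (115, 8), (119, 119), (118, 8), (121, 9), (232, 232), (148, 92), (150, 119), (150, 119), (153, 119), (159, 119), (169, 119), (184, 119)]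

set_option maxRecDepth 100000 in
theorem chain2 : ∀ n ∈ List.range 240,
    IsExcL (exc (table2.getD n (0, 0)).1) ∧ IsExcL (exc (table2.getD n (0, 0)).2) ∧
    lform e8L (exc n) = lform e8L (exc (table2.getD n (0, 0)).1) ∧
    lform e8L (exc (table2.getD n (0, 0)).1) = lform e8L (exc (table2.getD n (0, 0)).2) ∧
    lform e8L (exc (table2.getD n (0, 0)).2) = lform e8L (base (lform e8L (exc n))) ∧
    IsExcL (base (lform e8L (exc n))) ∧
    Step (exc n) (exc (table2.getD n (0, 0)).1) ∧
    Step (exc (table2.getD n (0, 0)).1) (exc (table2.getD n (0, 0)).2) ∧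
    Step (exc (table2.getD n (0, 0)).2) (base (lform e8L (exc n))) := by
  decide +kernel

/-- Every exceptional class is conjugate, under the stabilizer of `e₈`, to the representative
determined by its product with `e₈`. -/
theorem conj_base (M : DP 8) (hM : IsExc M) :
    Conj {toDP e8L} M (toDP (base (form (toDP e8L) M))) := by
  obtain ⟨n, hn, hnl⟩ := exists_exc (mem_excList M hM)
  obtain ⟨hx', hy', e1, e2, e3, hb, h1, h2, h3⟩ := chain2 n hn
  rw [hnl] at e1 e3 hb h1 h3
  have hl := excList_isExc _ (mem_excList M hM)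
  have hc : form (toDP e8L) M = lform e8L (List.ofFn M) := by
    rw [← form_toDP, toDP_ofFn]
  rw [hc]
  have c1 := conj_of_step (F := {toDP e8L}) hl hx' h1 (by
    intro w hw
    rw [Set.mem_singleton_iff] at hw
    rw [hw, form_toDP, form_toDP, e1])
  have c2 := conj_of_step (F := {toDP e8L}) hx' hy' h2 (by
    intro w hw
    rw [Set.mem_singleton_iff] at hw
    rw [hw, form_toDP, form_toDP, e2])
  have c3 := conj_of_step (F := {toDP e8L}) hy' hb h3 (by
    intro w hw
    rw [Set.mem_singleton_iff] at hw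
    rw [hw, form_toDP, form_toDP, e3])
  rw [toDP_ofFn] at c1
  exact (c1.trans c2).trans c3

/-- Transport of conjugacy along a Weyl group element. -/
theorem conj_of_conj_image {δ : ℕ} {g : DP δ ≃ₗ[ℤ] DP δ} (hg : IsWeyl g) {F : Set (DP δ)}
    {M M' : DP δ} (h : Conj (g '' F) (g M) (g M')) : Conj F M M' := by
  obtain ⟨k, hk, hM, hF⟩ := h
  refine ⟨(g.trans k).trans g.symm, isWeyl_trans (isWeyl_trans hg hk) (isWeyl_symm hg), ?_, ?_⟩
  · simp only [LinearEquiv.trans_apply]
    rw [hM, LinearEquiv.symm_apply_apply]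
  · intro v hv
    simp only [LinearEquiv.trans_apply]
    rw [hF (g v) ⟨v, hv, rfl⟩, LinearEquiv.symm_apply_apply]

/-- The stabilizer of an exceptional class `L` acts transitively on the exceptional classes with
a given product with `L`. -/
theorem conj_of_form_eq (L L₁ L₂ : DP 8) (hL : IsExc L) (hL₁ : IsExc L₁) (hL₂ : IsExc L₂)
    (h : form L₁ L = form L₂ L) : Conj {L} L₁ L₂ := by
  obtain ⟨g, hg, hgL, -⟩ := conj_e8 L hL
  apply conj_of_conj_image hg
  rw [Set.image_singleton, hgL]
  have h1 := conj_base (g L₁) (isExc_of_isWeyl hg hL₁)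
  have h2 := conj_base (g L₂) (isExc_of_isWeyl hg hL₂)
  have e : form (toDP e8L) (g L₁) = form (toDP e8L) (g L₂) := by
    rw [← hgL, hg.1, hg.1, form_comm L L₁, form_comm L L₂, h]
  rw [e] at h1
  exact h1.trans h2.symm

end Groth.Agent.Lib.Helper8DP
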