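import Groth.Agent.Lib.Helper8DP

/-!
# Weyl group orbits on pairs of conic classes (helper8)

Generic (in `δ ≤ 8`) chain machinery for conic classes, with kernel-checked certificate tables.
-/

set_option autoImplicit false

namespace Groth.Agent.Lib.Helper8DP

open W4c3severiratdp
open Groth.Agent.Lib.Helper24DPConic (conic_iff conic_bounds)

/-! ### Lists as classes, any `δ ≤ 8` -/

/-- The class in `DP δ` with the given list of coordinates (missing coordinates are zero). -/
def toDPn (δ : ℕ) (l : List ℤ) : DP δ := fun i => l.getD i 0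

theorem toDPn_ofFn {δ : ℕ} (v : DP δ) : toDPn δ (List.ofFn v) = v := by
  funext i
  unfold toDPn
  rw [List.getD_eq_getElem?_getD, List.getElem?_ofFn]
  rw [dif_pos i.2]
  rfl

theorem form_toDPn {δ : ℕ} (hδ : δ ≤ 8) {l l' : List ℤ} (hl : l.length ≤ δ + 1) :
    form (toDPn δ l) (toDPn δ l') = lform l l' := by
  have z : ∀ i : ℕ, δ + 1 ≤ i → l.getD i 0 = 0 :=
    fun i hi => List.getD_eq_default _ _ (by omega)
  interval_cases δ
  all_goals
    simp only [form, toDPn, lform, Fin.sum_univ_succ, Finset.univ_eq_empty, Finset.sum_empty,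
      Fin.val_zero, Fin.val_succ]
    try rw [z 1 (by omega)]
    try rw [z 2 (by omega)]
    try rw [z 3 (by omega)]
    try rw [z 4 (by omega)]
    try rw [z 5 (by omega)]
    try rw [z 6 (by omega)]
    try rw [z 7 (by omega)]
    try rw [z 8 (by omega)]
    ring

/-- Coordinates of the canonical class. -/
def canonLn (δ : ℕ) : List ℤ := -3 :: List.replicate δ (-1)

theorem toDPn_canonLn (δ : ℕ) : toDPn δ (canonLn δ) = canon δ := by
  funext i
  unfold toDPn canonLn canon
  refine Fin.cases ?_ (fun j => ?_) i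
  · rfl
  · simp only [Fin.val_succ, List.getD_cons_succ, Fin.cases_succ]
    rw [List.getD_eq_getElem _ _ (by simp)]
    simp

/-- Decidable form of "conic class in `DP δ`". -/
def IsConicL (δ : ℕ) (l : List ℤ) : Prop :=
  l.length ≤ δ + 1 ∧ lform l l = 0 ∧ lform (canonLn δ) l = -2

instance (δ : ℕ) (l : List ℤ) : Decidable (IsConicL δ l) := by unfold IsConicL; infer_instance

theorem isConic_toDPn {δ : ℕ} (hδ : δ ≤ 8) {l : List ℤ} (h : IsConicL δ l) :
    IsConic (toDPn δ l) := by
  refine ⟨?_, ?_⟩
  · rw [form_toDPn hδ h.1]; exact h.2.1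
  · rw [← toDPn_canonLn, form_comm, form_toDPn hδ h.1]
    have : lform l (canonLn δ) = lform (canonLn δ) l := by
      unfold lform; ring
    rw [this]; exact h.2.2

/-! ### Reflections exchanging conic classes -/

theorem conj_of_form_eq_one {δ : ℕ} {F : Set (DP δ)} {M M' : DP δ} (hM : IsConic M)
    (hM' : IsConic M') (h1 : form M M' = 1) (hF : ∀ v ∈ F, form v M = form v M') :
    Conj F M M' := by
  have hρ : form (M - M') (M - M') = -2 := by
    rw [form_sub_left, form_sub_right, form_sub_right, hM.1, hM'.1, h1, form_comm M' M, h1]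
    ring
  have hK : form (canon δ) (M - M') = 0 := by
    rw [form_sub_right, hM.2, hM'.2]
    ring
  refine ⟨reflEquiv (M - M') hρ, isWeyl_reflEquiv _ hρ hK, ?_, fun v hv => ?_⟩
  · rw [reflEquiv_apply, form_sub_right, hM.1, h1]
    ext i
    simp only [Pi.add_apply, Pi.smul_apply, Pi.sub_apply, smul_eq_mul]
    ring
  · rw [reflEquiv_apply, form_sub_right, hF v hv, sub_self, zero_smul, add_zero]

/-- One step of a chain of conic classes: equal, or with product one. -/
def StepC (u v : List ℤ) : Prop := u = v ∨ lform u v = 1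

instance (u v : List ℤ) : Decidable (StepC u v) := by unfold StepC; infer_instance

/-- A chain of conic classes from `u` through the members of the list, ending at `t`, all of whose
members have the same products with the classes in `fs`. -/
def ChainOK (δ : ℕ) (fs : List (List ℤ)) : List ℤ → List (List ℤ) → List ℤ → Prop
  | u, [], t => u = t
  | u, x :: xs, t => IsConicL δ x ∧ (∀ f ∈ fs, lform f u = lform f x) ∧ StepC u x ∧
      ChainOK δ fs x xs t

instance ChainOK.decidable (δ : ℕ) (fs : List (List ℤ)) :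
    ∀ (u : List ℤ) (xs : List (List ℤ)) (t : List ℤ), Decidable (ChainOK δ fs u xs t)
  | u, [], t => by unfold ChainOK; infer_instance
  | u, x :: xs, t => by
    unfold ChainOK
    haveI := ChainOK.decidable δ fs x xs t
    infer_instance

theorem conj_of_chainOK {δ : ℕ} (hδ : δ ≤ 8) (fs : List (List ℤ))
    (hfs : ∀ f ∈ fs, f.length ≤ δ + 1) :
    ∀ (xs : List (List ℤ)) (u t : List ℤ), IsConicL δ u → ChainOK δ fs u xs t →
      Conj {w | ∃ f ∈ fs, w = toDPn δ f} (toDPn δ u) (toDPn δ t) := by
  intro xs
  induction xs with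
  | nil =>
    intro u t _ h
    have : u = t := h
    rw [this]
    exact Conj.refl _ _
  | cons x xs ih =>
    intro u t hu h
    obtain ⟨hx, hf, hstep, hrest⟩ := h
    have c2 := ih x t hx hrest
    have c1 : Conj {w | ∃ f ∈ fs, w = toDPn δ f} (toDPn δ u) (toDPn δ x) := by
      rcases hstep with hs | hs
      · rw [hs]; exact Conj.refl _ _
      · refine conj_of_form_eq_one (isConic_toDPn hδ hu) (isConic_toDPn hδ hx)
          (by rw [form_toDPn hδ hu.1]; exact hs) ?_
        rintro w ⟨f, hfmem, rfl⟩
        rw [form_toDPn hδ (hfs f hfmem), form_toDPn hδ (hfs f hfmem), hf f hfmem]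
    exact c1.trans c2

/-! ### Enumeration of conic classes -/

/-- All conic classes of `DP δ`, as coordinate lists. -/
def conicList (δ : ℕ) : List (List ℤ) :=
  Helper24DPConic.arng.flatMap fun a => (solAll δ (3 * a - 2) (a * a)).map (a :: ·)

theorem mem_conicList {δ : ℕ} (hδ : δ ≤ 8) (v : DP δ) (h : IsConic v) :
    List.ofFn v ∈ conicList δ := by
  obtain ⟨ha1, ha2⟩ := conic_bounds hδ v h
  obtain ⟨h1, h2⟩ := (conic_iff v).1 h
  have hle : v 0 * v 0 ≤ 121 := by nlinarith
  have hmem := mem_solAll δ (fun i : Fin δ => v i.succ) _ _ hle h1 h2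
  rw [conicList, List.mem_flatMap]
  refine ⟨v 0, Helper24DPConic.mem_arng.2 ⟨ha1, ha2⟩, ?_⟩
  rw [List.mem_map]
  exact ⟨_, hmem, (List.ofFn_succ (f := v)).symm⟩

/-- Decoding a coordinate list from a natural number (base 16 digits). -/
def dec (δ : ℕ) (n : ℕ) : List ℤ :=
  (List.range (δ + 1)).map fun i => ((n / 16 ^ i % 16 : ℕ) : ℤ)

end Groth.Agent.Lib.Helper8DP
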