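import Groth.Agent.Lib.Helper8DPOk

/-!
# Pairs of conic classes with product four on a del Pezzo surface of degree one (helper8)
-/

set_option autoImplicit false
set_option Elab.async false

namespace Groth.Agent.Lib.Helper8DP

open W4c3severiratdp

/-- The reflection of a class in a root fixing the classes of `F` is conjugate to the class under
the stabilizer of `F`. -/
theorem conj_of_root {δ : ℕ} {F : Set (DP δ)} {ρ : DP δ} (M : DP δ) (hρ : form ρ ρ = -2)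
    (hK : form (canon δ) ρ = 0) (hF : ∀ v ∈ F, form v ρ = 0) :
    Conj F M (M + form M ρ • ρ) := by
  refine ⟨reflEquiv ρ hρ, isWeyl_reflEquiv ρ hρ hK, rfl, fun v hv => ?_⟩
  rw [reflEquiv_apply, hF v hv, zero_smul, add_zero]

/-- The reflection, on coordinate lists. -/
def lrefl (ρ u : List ℤ) : List ℤ :=
  (List.range 9).map fun i => u.getD i 0 + lform u ρ * ρ.getD i 0

theorem length_lrefl (ρ u : List ℤ) : (lrefl ρ u).length = 9 := by simp [lrefl]

theorem toDPn_lrefl (ρ u : List ℤ) (hu : u.length ≤ 9) :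
    toDPn 8 (lrefl ρ u) = toDPn 8 u + form (toDPn 8 u) (toDPn 8 ρ) • toDPn 8 ρ := by
  funext i
  rw [form_toDPn (le_refl 8) hu]
  simp only [toDPn, lrefl, Pi.add_apply, Pi.smul_apply, smul_eq_mul]
  rw [List.getD_eq_getElem _ _ (by simp)]
  simp

/-- A chain of reflections in roots orthogonal to `ℓ - e₁`, from `u` to `t`. -/
def RootChainOK : List ℤ → List (List ℤ) → List ℤ → Prop
  | u, [], t => u = t
  | u, ρ :: ρs, t => ρ.length ≤ 9 ∧ lform ρ ρ = -2 ∧ lform (canonLn 8) ρ = 0 ∧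
      lform (q0 8) ρ = 0 ∧ RootChainOK (lrefl ρ u) ρs t

instance RootChainOK.decidable :
    ∀ (u : List ℤ) (ρs : List (List ℤ)) (t : List ℤ), Decidable (RootChainOK u ρs t)
  | u, [], t => by unfold RootChainOK; infer_instance
  | u, ρ :: ρs, t => by
    unfold RootChainOK
    haveI := RootChainOK.decidable (lrefl ρ u) ρs t
    infer_instance

theorem conj_of_rootChainOK : ∀ (ρs : List (List ℤ)) (u t : List ℤ), u.length ≤ 9 →
    RootChainOK u ρs t → Conj {toDPn 8 (q0 8)} (toDPn 8 u) (toDPn 8 t) := by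
  intro ρs
  induction ρs with
  | nil =>
    intro u t _ h
    have : u = t := h
    rw [this]
    exact Conj.refl _ _
  | cons ρ ρs ih =>
    intro u t hu h
    obtain ⟨hl, h1, h2, h3, h4⟩ := h
    have c2 := ih (lrefl ρ u) t (by rw [length_lrefl]) h4
    rw [toDPn_lrefl ρ u hu] at c2
    refine (conj_of_root (toDPn 8 u) ?_ ?_ ?_).trans c2
    · rw [form_toDPn (le_refl 8) hl]; exact h1
    · rw [← toDPn_canonLn, form_toDPn (le_refl 8) (by simp [canonLn])]; exact h2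
    · intro v hv
      rw [Set.mem_singleton_iff] at hv
      rw [hv, form_toDPn (le_refl 8) (by rw [q0, length_dec])]; exact h3

/-- The second standard conic class for the small orbit. -/
def q2L : List ℤ := dec 8 9162596373

/-- Certificates for the fourteen conic classes of the small orbit. -/
def spec : List (ℕ × List (List ℤ)) :=
  [(9162596373, []),
   (9162588693, [[0, 0, 1, -1, 0, 0, 0, 0, 0]]),
   (9162465813, [[0, 0, 1, 0, -1, 0, 0, 0, 0]]),
   (9160499733, [[0, 0, 1, 0, 0, -1, 0, 0, 0]]),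
   (9129042453, [[0, 0, 1, 0, 0, 0, -1, 0, 0]]),
   (8625725973, [[0, 0, 1, 0, 0, 0, 0, -1, 0]]),
   (572662293, [[0, 0, 1, 0, 0, 0, 0, 0, -1]]),
   (17752531511, [[1, 1, 1, 0, 0, 0, 0, 0, 1]]),
   (9699467831, [[1, 1, 1, 0, 0, 0, 0, 1, 0]]),
   (9196151351, [[1, 1, 1, 0, 0, 0, 1, 0, 0]]),
   (9164694071, [[1, 1, 1, 0, 0, 1, 0, 0, 0]]),
   (9162727991, [[1, 1, 1, 0, 1, 0, 0, 0, 0]]),
   (9162605111, [[1, 1, 1, 1, 0, 0, 0, 0, 0]]),
   (9162597431, [[1, 1, 1, 1, 0, 0, 0, 0, 0], [0, 0, 1, -1, 0, 0, 0, 0, 0]])]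

/-- Validity, for a row with product four, of one of the two certificates. -/
def Row4OK (r : ℕ × List ℕ × List ℕ) : Prop :=
  lform (q0 8) (dec 8 r.1) = 4 →
    (ChainOK 8 [q0 8] (dec 8 r.1) (r.2.2.map (dec 8)) (baseB 8 bases8 4) ∨
      ∃ s ∈ spec, s.1 = r.1 ∧ RootChainOK (dec 8 r.1) s.2 q2L)

instance (r : ℕ × List ℕ × List ℕ) : Decidable (Row4OK r) := by unfold Row4OK; infer_instance

set_option maxRecDepth 1000000 in
theorem d4_ok : ∀ r ∈ rows8, Row4OK r := by decide +kernel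


/-- The standard pairs. -/
def p2L : List ℤ := baseB 8 bases8 4

theorem p2L_isConic : IsConicL 8 p2L := by decide +kernel
theorem q2L_isConic : IsConicL 8 q2L := by decide +kernel
theorem q0_isConic : IsConicL 8 (q0 8) := by decide +kernel

/-- Every pair of conic classes with product four is carried by a Weyl group element to one of
the two standard pairs. -/
theorem four_cover (v₁ v₂ : DP 8) (h₁ : IsConic v₁) (h₂ : IsConic v₂) (h4 : form v₁ v₂ = 4) :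
    ∃ g : DP 8 ≃ₗ[ℤ] DP 8, IsWeyl g ∧
      ((g v₁ = toDPn 8 (q0 8) ∧ g v₂ = toDPn 8 p2L) ∨
        (g v₁ = toDPn 8 (q0 8) ∧ g v₂ = toDPn 8 q2L)) := by
  have hδ : 8 ≤ 8 := le_refl 8
  obtain ⟨r, hr, hrv⟩ := exists_row hδ ok8 v₁ h₁
  obtain ⟨hc, hA, -⟩ := ok8.2 r hr
  obtain ⟨g₁, hg₁, hM₁, -⟩ := conj_of_chainOK hδ [] (by simp) _ _ _ hc hA
  rw [hrv] at hM₁
  have h₂' : IsConic (g₁ v₂) := isConic_of_isWeyl hg₁ h₂
  obtain ⟨r', hr', hrv'⟩ := exists_row hδ ok8 (g₁ v₂) h₂'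
  obtain ⟨hc', -, -⟩ := ok8.2 r' hr'
  have hd : lform (q0 8) (dec 8 r'.1) = 4 := by
    rw [← form_toDPn hδ (by rw [q0, length_dec]), hrv', ← hM₁, hg₁.1, h4]
  rcases d4_ok r' hr' hd with hB | ⟨s, -, -, hs⟩
  · obtain ⟨g₂, hg₂, hM₂, hF₂⟩ := conj_of_chainOK hδ [q0 8]
      (by intro f hf; rw [List.mem_singleton] at hf; rw [hf, q0, length_dec]) _ _ _ hc' hB
    rw [hrv'] at hM₂
    have hq := hF₂ (toDPn 8 (q0 8)) ⟨q0 8, List.mem_singleton_self _, rfl⟩
    refine ⟨g₁.trans g₂, isWeyl_trans hg₁ hg₂, Or.inl ⟨?_, ?_⟩⟩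
    · rw [LinearEquiv.trans_apply, hM₁, hq]
    · rw [LinearEquiv.trans_apply, hM₂]; rfl
  · obtain ⟨g₂, hg₂, hM₂, hF₂⟩ := conj_of_rootChainOK _ _ _ (by rw [length_dec]) hs
    rw [hrv'] at hM₂
    have hq := hF₂ (toDPn 8 (q0 8)) rfl
    refine ⟨g₁.trans g₂, isWeyl_trans hg₁ hg₂, Or.inr ⟨?_, ?_⟩⟩
    · rw [LinearEquiv.trans_apply, hM₁, hq]
    · rw [LinearEquiv.trans_apply, hM₂]

/-- The two standard pairs are not conjugate: `q₀ + q₂ + 4K` is divisible by two and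
`q₀ + p₂ + 4K` is not. -/
theorem four_not_conj :
    ¬ ∃ g : DP 8 ≃ₗ[ℤ] DP 8, IsWeyl g ∧ g (toDPn 8 (q0 8)) = toDPn 8 (q0 8) ∧
      g (toDPn 8 p2L) = toDPn 8 q2L := by
  rintro ⟨g, hg, h1, h2⟩
  -- `q₀ + q₂ + 4K = 2 ρ`
  let ρ : DP 8 := toDPn 8 [-3, -1, -2, -1, -1, -1, -1, -1, -1]
  have hq : toDPn 8 (q0 8) + toDPn 8 q2L + 4 • canon 8 = 2 • ρ := by
    funext i
    fin_cases i <;> rfl
  have hp : g (toDPn 8 (q0 8) + toDPn 8 p2L + 4 • canon 8) = 2 • ρ := by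
    rw [map_add, map_add, map_nsmul, h1, h2, hg.2, hq]
  have hp' : toDPn 8 (q0 8) + toDPn 8 p2L + 4 • canon 8 = 2 • g.symm ρ := by
    rw [← map_nsmul, ← hp, LinearEquiv.symm_apply_apply]
  have h0 := congrFun hp' 0
  have e0 : (toDPn 8 (q0 8) + toDPn 8 p2L + 4 • canon 8) 0 = -7 := by rfl
  rw [e0] at h0
  simp only [Pi.smul_apply, nsmul_eq_mul, Nat.cast_ofNat] at h0
  omega

end Groth.Agent.Lib.Helper8DP
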