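import Groth.Agent.Lib.Helper8DPPairs

/-!
# Kernel-checked validity of the certificate tables for conic classes (helper8)
-/

set_option autoImplicit false
set_option Elab.async false

namespace Groth.Agent.Lib.Helper8DP

set_option maxRecDepth 100000 in
theorem ok2 : TableOK 2 rows2 bases2 := by decide +kernel
set_option maxRecDepth 100000 in
theorem ok3 : TableOK 3 rows3 bases3 := by decide +kernel
set_option maxRecDepth 100000 in
theorem ok4 : TableOK 4 rows4 bases4 := by decide +kernel
set_option maxRecDepth 100000 in
theorem ok5 : TableOK 5 rows5 bases5 := by decide +kernel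
set_option maxRecDepth 100000 in
theorem ok6 : TableOK 6 rows6 bases6 := by decide +kernel
set_option maxRecDepth 100000 in
theorem ok7 : TableOK 7 rows7 bases7 := by decide +kernel

/-- The conic classes of `DP 8` with first coordinate `a`. -/
def piece (a : ℤ) : List (List ℤ) := (solAll 8 (3 * a - 2) (a * a)).map (a :: ·)

theorem arng_eq : Helper24DPConic.arng = [1, 2, 3, 4, 5, 6, 7, 8, 9, 10, 11] := by decide

theorem conicList8_split : conicList 8 = piece 1 ++ (piece 2 ++ (piece 3 ++ (piece 4 ++ (piece 5 ++
    (piece 6 ++ (piece 7 ++ (piece 8 ++ (piece 9 ++ (piece 10 ++ piece 11))))))))) := by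
  rw [conicList, arng_eq]
  simp only [List.flatMap_cons, List.flatMap_nil, List.append_nil]
  rfl

set_option maxRecDepth 1000000 in
theorem p8_1 : piece 1 = rows8_1.map (fun r => dec 8 r.1) := by decide +kernel
set_option maxRecDepth 1000000 in
theorem c8_1 : ∀ r ∈ rows8_1, RowOK 8 bases8 r := by decide +kernel

set_option maxRecDepth 1000000 in
theorem p8_2 : piece 2 = rows8_2.map (fun r => dec 8 r.1) := by decide +kernel
set_option maxRecDepth 1000000 in
theorem c8_2 : ∀ r ∈ rows8_2, RowOK 8 bases8 r := by decide +kernel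

set_option maxRecDepth 1000000 in
theorem p8_3 : piece 3 = rows8_3.map (fun r => dec 8 r.1) := by decide +kernel
set_option maxRecDepth 1000000 in
theorem c8_3 : ∀ r ∈ rows8_3, RowOK 8 bases8 r := by decide +kernel

set_option maxRecDepth 1000000 in
theorem p8_4 : piece 4 = rows8_4.map (fun r => dec 8 r.1) := by decide +kernel
set_option maxRecDepth 1000000 in
theorem c8_4 : ∀ r ∈ rows8_4, RowOK 8 bases8 r := by decide +kernel

set_option maxRecDepth 1000000 in
theorem p8_5 : piece 5 = rows8_5.map (fun r => dec 8 r.1) := by decide +kernel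
set_option maxRecDepth 1000000 in
theorem c8_5 : ∀ r ∈ rows8_5, RowOK 8 bases8 r := by decide +kernel

set_option maxRecDepth 1000000 in
theorem p8_6 : piece 6 = rows8_6.map (fun r => dec 8 r.1) := by decide +kernel
set_option maxRecDepth 1000000 in
theorem c8_6 : ∀ r ∈ rows8_6, RowOK 8 bases8 r := by decide +kernel

set_option maxRecDepth 1000000 in
theorem p8_7 : piece 7 = rows8_7.map (fun r => dec 8 r.1) := by decide +kernel
set_option maxRecDepth 1000000 in
theorem c8_7 : ∀ r ∈ rows8_7, RowOK 8 bases8 r := by decide +kernel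

set_option maxRecDepth 1000000 in
theorem p8_8 : piece 8 = rows8_8.map (fun r => dec 8 r.1) := by decide +kernel
set_option maxRecDepth 1000000 in
theorem c8_8 : ∀ r ∈ rows8_8, RowOK 8 bases8 r := by decide +kernel

set_option maxRecDepth 1000000 in
theorem p8_9 : piece 9 = rows8_9.map (fun r => dec 8 r.1) := by decide +kernel
set_option maxRecDepth 1000000 in
theorem c8_9 : ∀ r ∈ rows8_9, RowOK 8 bases8 r := by decide +kernel

set_option maxRecDepth 1000000 in
theorem p8_10 : piece 10 = rows8_10.map (fun r => dec 8 r.1) := by decide +kernel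
set_option maxRecDepth 1000000 in
theorem c8_10 : ∀ r ∈ rows8_10, RowOK 8 bases8 r := by decide +kernel

set_option maxRecDepth 1000000 in
theorem p8_11 : piece 11 = rows8_11.map (fun r => dec 8 r.1) := by decide +kernel
set_option maxRecDepth 1000000 in
theorem c8_11 : ∀ r ∈ rows8_11, RowOK 8 bases8 r := by decide +kernel

theorem ok8 : TableOK 8 rows8 bases8 := by
  refine ⟨?_, ?_⟩
  · rw [conicList8_split, p8_1, p8_2, p8_3, p8_4, p8_5, p8_6, p8_7, p8_8, p8_9, p8_10, p8_11]
    simp only [rows8, List.map_append, List.append_assoc]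
  · intro r hr
    simp only [rows8, List.mem_append] at hr
    rcases hr with ((((((((((hr | hr) | hr) | hr) | hr) | hr) | hr) | hr) | hr) | hr) | hr)
    · exact c8_1 r hr
    · exact c8_2 r hr
    · exact c8_3 r hr
    · exact c8_4 r hr
    · exact c8_5 r hr
    · exact c8_6 r hr
    · exact c8_7 r hr
    · exact c8_8 r hr
    · exact c8_9 r hr
    · exact c8_10 r hr
    · exact c8_11 r hr

end Groth.Agent.Lib.Helper8DP
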