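import Groth.Agent.Lib.Helper8DPTables

/-!
# Weyl group orbits on pairs of conic classes: main lemma (helper8)
-/

set_option autoImplicit false

namespace Groth.Agent.Lib.Helper8DP

open W4c3severiratdp

/-- The class `ℓ - e₁`. -/
def q0 (δ : ℕ) : List ℤ := dec δ 17

/-- The representative of the conic classes having product `d` with `ℓ - e₁`. -/
def baseB (δ : ℕ) (bases : List ℕ) (d : ℤ) : List ℤ := dec δ (bases.getD d.toNat 0)

/-- Validity of a row of a certificate table. -/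
def RowOK (δ : ℕ) (bases : List ℕ) (r : ℕ × List ℕ × List ℕ) : Prop :=
  IsConicL δ (dec δ r.1) ∧
    ChainOK δ [] (dec δ r.1) (r.2.1.map (dec δ)) (q0 δ) ∧
    ((δ = 8 ∧ lform (q0 δ) (dec δ r.1) = 4) ∨
      ChainOK δ [q0 δ] (dec δ r.1) (r.2.2.map (dec δ))
        (baseB δ bases (lform (q0 δ) (dec δ r.1))))

instance (δ : ℕ) (bases : List ℕ) (r : ℕ × List ℕ × List ℕ) : Decidable (RowOK δ bases r) := by
  unfold RowOK; infer_instance

/-- Validity of a certificate table. -/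
def TableOK (δ : ℕ) (rows : List (ℕ × List ℕ × List ℕ)) (bases : List ℕ) : Prop :=
  conicList δ = rows.map (fun r => dec δ r.1) ∧ ∀ r ∈ rows, RowOK δ bases r

instance (δ : ℕ) (rows : List (ℕ × List ℕ × List ℕ)) (bases : List ℕ) :
    Decidable (TableOK δ rows bases) := by unfold TableOK; infer_instance

theorem isConic_of_isWeyl {δ : ℕ} {g : DP δ ≃ₗ[ℤ] DP δ} (hg : IsWeyl g) {v : DP δ}
    (hv : IsConic v) : IsConic (g v) := by
  refine ⟨by rw [hg.1]; exact hv.1, ?_⟩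
  have := hg.1 (canon δ) v
  rw [hg.2] at this
  rw [this]
  exact hv.2

theorem length_dec (δ n : ℕ) : (dec δ n).length = δ + 1 := by
  simp [dec]

theorem exists_row {δ : ℕ} (hδ : δ ≤ 8) {rows : List (ℕ × List ℕ × List ℕ)} {bases : List ℕ}
    (h : TableOK δ rows bases) (v : DP δ) (hv : IsConic v) :
    ∃ r ∈ rows, toDPn δ (dec δ r.1) = v := by
  have := mem_conicList hδ v hv
  rw [h.1, List.mem_map] at this
  obtain ⟨r, hr, hrv⟩ := this
  exact ⟨r, hr, by rw [hrv, toDPn_ofFn]⟩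

/-- A pair of conic classes is carried by a Weyl group element to the standard pair determined by
its product (except for product `4` when `δ = 8`). -/
theorem conj_pair {δ : ℕ} (hδ : δ ≤ 8) {rows : List (ℕ × List ℕ × List ℕ)} {bases : List ℕ}
    (h : TableOK δ rows bases) (v₁ v₂ : DP δ) (h₁ : IsConic v₁) (h₂ : IsConic v₂)
    (hne : ¬ (δ = 8 ∧ form v₁ v₂ = 4)) :
    ∃ g : DP δ ≃ₗ[ℤ] DP δ, IsWeyl g ∧ g v₁ = toDPn δ (q0 δ) ∧
      g v₂ = toDPn δ (baseB δ bases (form v₁ v₂)) := by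
  obtain ⟨r, hr, hrv⟩ := exists_row hδ h v₁ h₁
  obtain ⟨hc, hA, -⟩ := h.2 r hr
  obtain ⟨g₁, hg₁, hM₁, -⟩ := conj_of_chainOK hδ [] (by simp) _ _ _ hc hA
  rw [hrv] at hM₁
  have h₂' : IsConic (g₁ v₂) := isConic_of_isWeyl hg₁ h₂
  obtain ⟨r', hr', hrv'⟩ := exists_row hδ h (g₁ v₂) h₂'
  obtain ⟨hc', -, hB⟩ := h.2 r' hr'
  have hd : lform (q0 δ) (dec δ r'.1) = form v₁ v₂ := by
    rw [← form_toDPn hδ (by rw [q0, length_dec]), hrv', ← hM₁, hg₁.1]
  rw [hd] at hB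
  rcases hB with hB | hB
  · exact absurd hB hne
  · obtain ⟨g₂, hg₂, hM₂, hF₂⟩ := conj_of_chainOK hδ [q0 δ]
      (by intro f hf; rw [List.mem_singleton] at hf; rw [hf, q0, length_dec]) _ _ _ hc' hB
    rw [hrv'] at hM₂
    have hq := hF₂ (toDPn δ (q0 δ)) ⟨q0 δ, List.mem_singleton_self _, rfl⟩
    refine ⟨g₁.trans g₂, isWeyl_trans hg₁ hg₂, ?_, ?_⟩
    · rw [LinearEquiv.trans_apply, hM₁, hq]
    · rw [LinearEquiv.trans_apply, hM₂]

/-- The Weyl group acts transitively on pairs of conic classes with a given product (except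
for product `4` when `δ = 8`). -/
theorem conj_pairs {δ : ℕ} (hδ : δ ≤ 8) {rows : List (ℕ × List ℕ × List ℕ)} {bases : List ℕ}
    (h : TableOK δ rows bases) (v₁ v₂ w₁ w₂ : DP δ) (hv₁ : IsConic v₁) (hv₂ : IsConic v₂)
    (hw₁ : IsConic w₁) (hw₂ : IsConic w₂) (heq : form v₁ v₂ = form w₁ w₂)
    (hexc : ¬ (δ = 8 ∧ form v₁ v₂ = 4)) :
    ∃ g : DP δ ≃ₗ[ℤ] DP δ, IsWeyl g ∧ g v₁ = w₁ ∧ g v₂ = w₂ := by
  obtain ⟨g, hg, hg1, hg2⟩ := conj_pair hδ h v₁ v₂ hv₁ hv₂ hexc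
  obtain ⟨k, hk, hk1, hk2⟩ := conj_pair hδ h w₁ w₂ hw₁ hw₂ (by rw [← heq]; exact hexc)
  refine ⟨g.trans k.symm, isWeyl_trans hg (isWeyl_symm hk), ?_, ?_⟩
  · rw [LinearEquiv.trans_apply, hg1, ← hk1, LinearEquiv.symm_apply_apply]
  · rw [LinearEquiv.trans_apply, hg2, heq, ← hk2, LinearEquiv.symm_apply_apply]

end Groth.Agent.Lib.Helper8DP
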