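import Groth.Agent.Lib.Helper8DP

/-!
# Orbits of the stabilizer of an exceptional class on triples (helper8)
-/

set_option autoImplicit false

namespace Groth.Agent.Lib.Helper8DP

open W4c3severiratdp

def rho1L : List ℤ := [1, 0, 0, 1, 0, 0, 1, 0, 0]
def rho2L : List ℤ := [2, 1, 1, 1, 1, 1, 0, 0, 0]
def rho3L : List ℤ := [3, 1, 1, 0, 1, 1, 1, 2, 1]

/-- Certificates: chains inside the set of exceptional classes orthogonal to `e₈` and with
product one with `rho1L`, ending at `rho2L`. -/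
def table3 : List (ℕ × ℕ) :=
  [(0, 0), (0, 0), (5, 91), (0, 0), (0, 0), (91, 91), (0, 0), (0, 0), (0, 0), (0, 0), (0, 0), (0, 0),
   (5, 91), (0, 0), (0, 0), (5, 91), (0, 0), (91, 91), (0, 0), (0, 0), (0, 0), (0, 0), (0, 0), (0, 0),
   (5, 91), (0, 0), (91, 91), (91, 91), (0, 0), (0, 0), (5, 91), (0, 0), (91, 91), (91, 91), (0, 0), (91, 91),
   (0, 0), (0, 0), (0, 0), (0, 0), (0, 0), (0, 0), (0, 0), (0, 0), (0, 0), (0, 0), (17, 91), (0, 0),
   (0, 0), (0, 0), (0, 0), (0, 0), (0, 0), (0, 0), (0, 0), (91, 91), (0, 0), (0, 0), (0, 0), (0, 0),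
   (0, 0), (17, 91), (0, 0), (0, 0), (0, 0), (0, 0), (0, 0), (0, 0), (0, 0), (0, 0), (91, 91), (0, 0),
   (0, 0), (0, 0), (0, 0), (26, 91), (0, 0), (0, 0), (27, 91), (0, 0), (0, 0), (91, 91), (0, 0), (0, 0),
   (0, 0), (0, 0), (91, 91), (0, 0), (0, 0), (91, 91), (0, 0), (91, 91), (0, 0), (0, 0), (0, 0), (0, 0),
   (0, 0), (0, 0), (0, 0), (0, 0), (0, 0), (0, 0), (0, 0), (0, 0), (0, 0), (0, 0), (0, 0), (0, 0),
   (0, 0), (0, 0), (0, 0), (0, 0), (0, 0), (0, 0), (0, 0), (0, 0), (0, 0), (0, 0), (0, 0), (0, 0),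
   (55, 91), (0, 0), (0, 0), (0, 0), (0, 0), (91, 91), (0, 0), (0, 0), (0, 0), (91, 91), (0, 0), (0, 0),
   (0, 0), (0, 0), (0, 0), (0, 0), (0, 0), (0, 0), (0, 0), (0, 0), (91, 91), (0, 0), (0, 0), (0, 0),
   (0, 0), (0, 0), (0, 0), (91, 91), (0, 0), (0, 0), (0, 0), (0, 0), (0, 0), (0, 0), (0, 0), (0, 0),
   (0, 0), (0, 0), (0, 0), (0, 0), (0, 0), (0, 0), (0, 0), (0, 0), (0, 0), (0, 0), (0, 0), (0, 0),
   (0, 0), (0, 0), (0, 0), (0, 0), (0, 0), (0, 0), (0, 0), (0, 0), (0, 0), (0, 0), (0, 0), (0, 0),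
   (0, 0), (0, 0), (0, 0), (0, 0), (0, 0), (0, 0), (0, 0), (0, 0), (0, 0), (0, 0), (0, 0), (0, 0),
   (0, 0), (0, 0), (0, 0), (0, 0), (0, 0), (0, 0), (0, 0), (0, 0), (0, 0), (0, 0), (0, 0), (0, 0),
   (0, 0), (0, 0), (0, 0), (0, 0), (0, 0), (0, 0), (0, 0), (0, 0), (0, 0), (0, 0), (0, 0), (0, 0),
   (0, 0), (0, 0), (0, 0), (0, 0), (0, 0), (0, 0), (0, 0), (0, 0), (0, 0), (0, 0), (0, 0), (0, 0),
   (0, 0), (0, 0), (0, 0), (0, 0), (0, 0), (0, 0), (0, 0), (0, 0), (0, 0), (0, 0), (0, 0), (0, 0)]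

set_option maxRecDepth 100000 in
theorem chain3 : ∀ n ∈ List.range 240, lform e8L (exc n) = 0 → lform rho1L (exc n) = 1 →
    IsExcL (exc (table3.getD n (0, 0)).1) ∧ IsExcL (exc (table3.getD n (0, 0)).2) ∧
    lform e8L (exc (table3.getD n (0, 0)).1) = 0 ∧ lform e8L (exc (table3.getD n (0, 0)).2) = 0 ∧
    lform rho1L (exc (table3.getD n (0, 0)).1) = 1 ∧
    lform rho1L (exc (table3.getD n (0, 0)).2) = 1 ∧
    Step (exc n) (exc (table3.getD n (0, 0)).1) ∧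
    Step (exc (table3.getD n (0, 0)).1) (exc (table3.getD n (0, 0)).2) ∧
    Step (exc (table3.getD n (0, 0)).2) rho2L := by
  decide +kernel

theorem conj_rho2 (M : DP 8) (hM : IsExc M) (h0 : form (toDP e8L) M = 0)
    (h1 : form (toDP rho1L) M = 1) : Conj {toDP e8L, toDP rho1L} M (toDP rho2L) := by
  obtain ⟨n, hn, hnl⟩ := exists_exc (mem_excList M hM)
  have h0' : lform e8L (exc n) = 0 := by
    rw [hnl, ← form_toDP, toDP_ofFn]; exact h0
  have h1' : lform rho1L (exc n) = 1 := by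
    rw [hnl, ← form_toDP, toDP_ofFn]; exact h1
  obtain ⟨hx', hy', a1, a2, b1, b2, s1, s2, s3⟩ := chain3 n hn h0' h1'
  rw [hnl] at s1 h0' h1'
  have hl := excList_isExc _ (mem_excList M hM)
  have hr : IsExcL rho2L := by decide
  have r0 : lform e8L rho2L = 0 := by decide
  have r1 : lform rho1L rho2L = 1 := by decide
  have key : ∀ {u v : List ℤ}, lform e8L u = 0 → lform e8L v = 0 → lform rho1L u = 1 →
      lform rho1L v = 1 → ∀ w ∈ ({toDP e8L, toDP rho1L} : Set (DP 8)),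
        form w (toDP u) = form w (toDP v) := by
    intro u v hu0 hv0 hu1 hv1 w hw
    rcases hw with hw | hw
    · rw [hw, form_toDP, form_toDP, hu0, hv0]
    · rw [Set.mem_singleton_iff] at hw
      rw [hw, form_toDP, form_toDP, hu1, hv1]
  have c1 := conj_of_step (F := {toDP e8L, toDP rho1L}) hl hx' s1 (key h0' a1 h1' b1)
  have c2 := conj_of_step (F := {toDP e8L, toDP rho1L}) hx' hy' s2 (key a1 a2 b1 b2)
  have c3 := conj_of_step (F := {toDP e8L, toDP rho1L}) hy' hr s3 (key a2 r0 b2 r1)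
  rw [toDP_ofFn] at c1
  exact (c1.trans c2).trans c3

theorem eq_of_conj_self {δ : ℕ} {v M : DP δ} (h : Conj {v} M v) : M = v := by
  obtain ⟨g, -, hM, hF⟩ := h
  apply g.injective
  rw [hM, hF v rfl]

theorem lform_e8_range : ∀ l ∈ excList, -1 ≤ lform e8L l ∧ lform e8L l ≤ 3 := by decide +kernel

/-- The class `e₈ - 2K`. -/
def TL : List ℤ := [6, 2, 2, 2, 2, 2, 2, 2, 1]

/-- The four standard triples. -/
def R0 : Fin 4 → Fin 3 → List ℤ :=
  ![![e8L, e8L, [6, 2, 2, 2, 2, 2, 2, 2, 3]],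
    ![e8L, [0, 0, 0, 0, 0, 0, 0, -1, 0], [6, 2, 2, 2, 2, 2, 2, 3, 2]],
    ![e8L, [1, 0, 0, 0, 0, 0, 0, 1, 1], [5, 2, 2, 2, 2, 2, 2, 1, 1]],
    ![rho1L, rho2L, rho3L]]

theorem R0_isExc : ∀ j i, IsExcL (R0 j i) := by decide

theorem toDP_TL : toDP TL = toDP e8L - 2 • canon 8 := by
  funext i
  fin_cases i <;> rfl

theorem R0_sum : ∀ j, toDP (R0 j 0) + toDP (R0 j 1) + toDP (R0 j 2) = toDP TL := by
  intro j
  funext i
  fin_cases j <;> fin_cases i <;> rfl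

/-- The invariant separating the four standard triples. -/
def Inv (j : Fin 4) : ℤ := ∑ i : Fin 3, (lform (R0 j i) e8L) ^ 2

theorem Inv_injective : Function.Injective Inv := by decide

theorem map_TL {g : DP 8 ≃ₗ[ℤ] DP 8} (hg : IsWeyl g) (he : g (toDP e8L) = toDP e8L) :
    g (toDP TL) = toDP TL := by
  rw [toDP_TL, map_sub, map_nsmul, he, hg.2]


theorem form_TL {v : DP 8} (hv : IsExc v) : form v (toDP TL) = form (toDP e8L) v + 2 := by
  rw [toDP_TL, form_sub_right, two_nsmul, form_add_right, form_comm v (canon 8), hv.2,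
    form_comm v]
  ring

theorem third {g : DP 8 ≃ₗ[ℤ] DP 8} (hg : IsWeyl g) (he : g (toDP e8L) = toDP e8L)
    {s : Fin 3 → DP 8} (hsum : s 0 + s 1 + s 2 = toDP TL) (j : Fin 4)
    (h0 : g (s 0) = toDP (R0 j 0)) (h1 : g (s 1) = toDP (R0 j 1)) :
    g (s 2) = toDP (R0 j 2) := by
  have h2 : s 2 = toDP TL - s 0 - s 1 := by rw [← hsum]; abel
  rw [h2, map_sub, map_sub, map_TL hg he, h0, h1, ← R0_sum j]
  abel

theorem eq_e8_of_form {M : DP 8} (hM : IsExc M) (h : form (toDP e8L) M = -1) :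
    M = toDP e8L := by
  have := conj_base M hM
  rw [h] at this
  exact eq_of_conj_self this

/-- Every triple of exceptional classes with sum `e₈ - 2K` is carried to one of the four
standard triples by an element of the stabilizer of `e₈`, after reordering. -/
theorem triple_std (t : Fin 3 → DP 8) (ht : ∀ i, IsExc (t i))
    (hsum : t 0 + t 1 + t 2 = toDP TL) :
    ∃ j, ∃ g : DP 8 ≃ₗ[ℤ] DP 8, IsWeyl g ∧ g (toDP e8L) = toDP e8L ∧
      ∃ σ : Equiv.Perm (Fin 3), ∀ i, g (t (σ i)) = toDP (R0 j i) := by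
  classical
  let c : Fin 3 → ℤ := fun i => form (toDP e8L) (t i)
  have hrange : ∀ i, -1 ≤ c i ∧ c i ≤ 3 := by
    intro i
    have := lform_e8_range _ (mem_excList (t i) (ht i))
    rwa [← form_toDP, toDP_ofFn] at this
  have hcsum : c 0 + c 1 + c 2 = 1 := by
    have h1 : form (toDP e8L) (t 0 + t 1 + t 2) = 1 := by
      rw [hsum, form_toDP]
      decide
    rw [form_add_right, form_add_right] at h1
    exact h1
  let σ : Equiv.Perm (Fin 3) := Tuple.sort c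
  have hmono : Monotone (c ∘ σ) := Tuple.monotone_sort c
  have h01 : c (σ 0) ≤ c (σ 1) := hmono (by decide)
  have h12 : c (σ 1) ≤ c (σ 2) := hmono (by decide)
  have hs : c (σ 0) + c (σ 1) + c (σ 2) = 1 := by
    have := Equiv.sum_comp σ c
    rw [Fin.sum_univ_three, Fin.sum_univ_three] at this
    linarith
  let s : Fin 3 → DP 8 := fun i => t (σ i)
  have hssum : s 0 + s 1 + s 2 = toDP TL := by
    have := Equiv.sum_comp σ t
    rw [Fin.sum_univ_three, Fin.sum_univ_three] at this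
    rw [← hsum]
    exact this
  have hsE : ∀ i, IsExc (s i) := fun i => ht (σ i)
  have hcases : (c (σ 0) = -1 ∧ c (σ 1) = -1 ∧ c (σ 2) = 3) ∨
      (c (σ 0) = -1 ∧ c (σ 1) = 0 ∧ c (σ 2) = 2) ∨
      (c (σ 0) = -1 ∧ c (σ 1) = 1 ∧ c (σ 2) = 1) ∨
      (c (σ 0) = 0 ∧ c (σ 1) = 0 ∧ c (σ 2) = 1) := by
    have := hrange (σ 0)
    have := hrange (σ 1)
    have := hrange (σ 2)
    omega
  have finish : ∀ (j : Fin 4) (g : DP 8 ≃ₗ[ℤ] DP 8), IsWeyl g → g (toDP e8L) = toDP e8L →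
      g (s 0) = toDP (R0 j 0) → g (s 1) = toDP (R0 j 1) →
      ∃ j, ∃ g : DP 8 ≃ₗ[ℤ] DP 8, IsWeyl g ∧ g (toDP e8L) = toDP e8L ∧
        ∃ σ : Equiv.Perm (Fin 3), ∀ i, g (t (σ i)) = toDP (R0 j i) := by
    intro j g hg he h0 h1
    refine ⟨j, g, hg, he, σ, fun i => ?_⟩
    fin_cases i
    · exact h0
    · exact h1
    · exact third hg he hssum j h0 h1
  rcases hcases with ⟨c0, c1, c2⟩ | ⟨c0, c1, c2⟩ | ⟨c0, c1, c2⟩ | ⟨c0, c1, c2⟩
  · -- (-1, -1, 3)
    have e0 : s 0 = toDP e8L := eq_e8_of_form (hsE 0) c0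
    have e1 : s 1 = toDP e8L := eq_e8_of_form (hsE 1) c1
    exact finish 0 (LinearEquiv.refl ℤ _) isWeyl_refl_id rfl e0 e1
  · -- (-1, 0, 2)
    have e0 : s 0 = toDP e8L := eq_e8_of_form (hsE 0) c0
    have hc := conj_base (s 1) (hsE 1)
    have c1' : form (toDP e8L) (s 1) = 0 := c1
    rw [c1'] at hc
    obtain ⟨g, hg, hM, hF⟩ := hc
    have he := hF _ rfl
    exact finish 1 g hg he (by rw [e0, he]; rfl) (by rw [hM]; rfl)
  · -- (-1, 1, 1)
    have e0 : s 0 = toDP e8L := eq_e8_of_form (hsE 0) c0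
    have hc := conj_base (s 1) (hsE 1)
    have c1' : form (toDP e8L) (s 1) = 1 := c1
    rw [c1'] at hc
    obtain ⟨g, hg, hM, hF⟩ := hc
    have he := hF _ rfl
    exact finish 2 g hg he (by rw [e0, he]; rfl) (by rw [hM]; rfl)
  · -- (0, 0, 1)
    have c0' : form (toDP e8L) (s 0) = 0 := c0
    have c1' : form (toDP e8L) (s 1) = 0 := c1
    have c2' : form (toDP e8L) (s 2) = 1 := c2
    -- pairwise products
    have q0 := form_TL (hsE 0)
    have q1 := form_TL (hsE 1)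
    have q2 := form_TL (hsE 2)
    rw [← hssum, form_add_right, form_add_right, c0', (hsE 0).1] at q0
    rw [← hssum, form_add_right, form_add_right, c1', (hsE 1).1] at q1
    rw [← hssum, form_add_right, form_add_right, c2', (hsE 2).1] at q2
    rw [form_comm (s 1) (s 0)] at q1
    rw [form_comm (s 2) (s 0), form_comm (s 2) (s 1)] at q2
    have d01 : form (s 0) (s 1) = 1 := by linarith
    -- first move s 0 to rho1
    have hr1 : IsExc (toDP rho1L) := isExc_toDP (by decide)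
    have hE : IsExc (toDP e8L) := isExc_toDP (by decide)
    have hr1E : form (toDP rho1L) (toDP e8L) = 0 := by rw [form_toDP]; decide
    obtain ⟨g₁, hg₁, hM₁, hF₁⟩ := conj_of_form_eq (toDP e8L) (s 0) (toDP rho1L) hE (hsE 0) hr1
      (by rw [form_comm, c0', hr1E])
    have he₁ := hF₁ _ rfl
    -- then move g₁ (s 1) to rho2 fixing e8 and rho1
    have hx : IsExc (g₁ (s 1)) := isExc_of_isWeyl hg₁ (hsE 1)
    have hx0 : form (toDP e8L) (g₁ (s 1)) = 0 := by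
      rw [← he₁, hg₁.1, c1']
    have hx1 : form (toDP rho1L) (g₁ (s 1)) = 1 := by
      rw [← hM₁, hg₁.1, d01]
    obtain ⟨g₂, hg₂, hM₂, hF₂⟩ := conj_rho2 (g₁ (s 1)) hx hx0 hx1
    have he₂ := hF₂ (toDP e8L) (by simp)
    have hr₂ := hF₂ (toDP rho1L) (by simp)
    refine finish 3 (g₁.trans g₂) (isWeyl_trans hg₁ hg₂) ?_ ?_ ?_
    · rw [LinearEquiv.trans_apply, he₁, he₂]
    · rw [LinearEquiv.trans_apply, hM₁, hr₂]; rfl
    · rw [LinearEquiv.trans_apply, hM₂]; rfl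

end Groth.Agent.Lib.Helper8DP
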