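import Groth.Agent.Lib.Helper6Deligne
import Groth.Agent.Lib.Helper27GaGm
import Groth.Prelude.Def_CGrpSh

set_option autoImplicit false
universe w v' u' u
open CategoryTheory CategoryTheory.Limits MonoidalCategory CartesianMonoidalCategory MonObj GrpObj AlgebraicGeometry
open scoped TensorProduct

/-! Deligne's theorem for finite locally free commutative group schemes over an arbitrary base,
deduced from the Hopf-algebra form (`Helper6Deligne`). -/

namespace Groth.Agent.Lib.Helper8Deligne

section Alg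

variable {R : Type u} [CommRing R] {A : Type u} [CommRing A] [HopfAlgebra R A]

private theorem lift_lr (t : A ⊗[R] A) :
    Algebra.TensorProduct.lift (Algebra.TensorProduct.includeLeft : A →ₐ[R] A ⊗[R] A)
      Algebra.TensorProduct.includeRight (fun _ _ => .all ..) t = t := by
  induction t using TensorProduct.induction_on with
  | zero => simp
  | tmul a b => simp
  | add x y hx hy => rw [map_add, hx, hy]

private theorem lift_rl (t : A ⊗[R] A) :
    Algebra.TensorProduct.lift (Algebra.TensorProduct.includeRight : A →ₐ[R] A ⊗[R] A)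
      Algebra.TensorProduct.includeLeft (fun _ _ => .all ..) t = TensorProduct.comm R A A t := by
  induction t using TensorProduct.induction_on with
  | zero => simp
  | tmul a b => simp [Algebra.TensorProduct.lift_tmul]
  | add x y hx hy => rw [map_add, map_add, hx, hy]

/-- A Hopf algebra whose convolution monoid of points in `A ⊗ A` is commutative is cocommutative. -/
theorem isCocomm_of_conv_comm
    (h : ∀ f g : WithConv (A →ₐ[R] A ⊗[R] A), f * g = g * f) : Coalgebra.IsCocomm R A := by
  refine ⟨LinearMap.ext fun c => ?_⟩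
  have h1 := congrArg (fun F : WithConv (A →ₐ[R] A ⊗[R] A) => F c)
    (h (WithConv.toConv Algebra.TensorProduct.includeLeft)
       (WithConv.toConv Algebra.TensorProduct.includeRight))
  simp only [AlgHom.convMul_apply, lift_lr, lift_rl] at h1
  simpa using h1.symm

end Alg

section Sch

variable {R : Type u} [CommRing R]

theorem hopf_id_pow (A : Type u) [CommRing A] [HopfAlgebra R A]
    (hcomm : ∀ (B : Type u) [CommRing B] [Algebra R B]
      (a b : (Spec (CommRingCat.of B)).asOver (Spec (CommRingCat.of R)) ⟶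
        (Spec (CommRingCat.of A)).asOver (Spec (CommRingCat.of R))), a * b = b * a)
    [Module.Finite R A] [Module.Projective R A] (n : ℕ)
    (hn : ∀ p : PrimeSpectrum R, Module.rankAtStalk A p = n) :
    (𝟙 ((Spec (CommRingCat.of A)).asOver (Spec (CommRingCat.of R)))) ^ n = 1 := by
  haveI : Coalgebra.IsCocomm R A := isCocomm_of_conv_comm (fun f g => by
    apply (Spec.mapMulEquiv (R := R) (S := A) (T := A ⊗[R] A)).injective
    rw [map_mul, map_mul]
    exact hcomm _ _ _)
  have h := Groth.Agent.Lib.Helper6.Deligne.deligne R A n hn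
  have h2 := congrArg (Spec.mapMulEquiv (R := R) (S := A) (T := A)) h
  rw [map_pow, map_one] at h2
  have hφ : (Spec.mapMulEquiv (R := R) (S := A) (T := A)) (WithConv.toConv (AlgHom.id R A)) = 𝟙 _ := by
    apply Over.OverMorphism.ext
    exact Spec.map_id (CommRingCat.of A)
  rwa [hφ] at h2

theorem core_aux (A : Type u) [CommRing A] [HopfAlgebra R A]
    (G : Over (Spec (CommRingCat.of R))) [GrpObj G] [IsCommMonObj G]
    [IsFinite G.hom] [Flat G.hom] [LocallyOfFinitePresentation G.hom]
    (e : Grp.mk ((Spec (CommRingCat.of A)).asOver (Spec (CommRingCat.of R))) ≅ Grp.mk G)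
    (r : ℕ) (hr : ∀ s : ↥(Spec (CommRingCat.of R)), Scheme.Hom.finrank G.hom s = r)
    (T : Over (Spec (CommRingCat.of R))) (g : T ⟶ G) : g ^ r = 1 := by
  obtain ⟨u, hu⟩ : ∃ u : (Spec (CommRingCat.of A)).asOver (Spec (CommRingCat.of R)) ⟶ G,
    u = e.hom.hom.hom := ⟨_, rfl⟩
  obtain ⟨v, hv⟩ : ∃ v : G ⟶ (Spec (CommRingCat.of A)).asOver (Spec (CommRingCat.of R)),
    v = e.inv.hom.hom := ⟨_, rfl⟩
  haveI : IsMonHom u := by rw [hu]; infer_instance
  haveI : IsMonHom v := by rw [hv]; infer_instance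
  have huv : u ≫ v = 𝟙 _ := by
    rw [hu, hv, ← Grp.comp_hom_hom, e.hom_inv_id, Grp.id_hom_hom]
  have hvu : v ≫ u = 𝟙 G := by
    rw [hu, hv, ← Grp.comp_hom_hom, e.inv_hom_id, Grp.id_hom_hom]
  haveI : IsIso u := ⟨v, huv, hvu⟩
  obtain ⟨ul, hul⟩ : ∃ ul : Spec (CommRingCat.of A) ⟶ G.left, ul = u.left := ⟨_, rfl⟩
  haveI : IsIso ul := by rw [hul]; exact (Over.forget _).map_isIso u
  have hw : ul ≫ G.hom = Spec.map (CommRingCat.ofHom (algebraMap R A)) := by
    rw [hul]; exact Over.w u
  haveI hfin : IsFinite (Spec.map (CommRingCat.ofHom (algebraMap R A))) := by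
    rw [← hw]; infer_instance
  haveI hflat : Flat (Spec.map (CommRingCat.ofHom (algebraMap R A))) := by
    rw [← hw]; infer_instance
  haveI hlfp : LocallyOfFinitePresentation (Spec.map (CommRingCat.ofHom (algebraMap R A))) := by
    rw [← hw]; infer_instance
  haveI : Module.Finite R A := by
    have := (IsFinite.SpecMap_iff _).mp hfin
    exact RingHom.finite_algebraMap.mp this
  haveI : Module.Flat R A := by
    have := (Flat.SpecMap_iff).mp hflat
    exact RingHom.flat_algebraMap_iff.mp this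
  haveI : Algebra.FinitePresentation R A := by
    have := (LocallyOfFinitePresentation.SpecMap_iff _).mp hlfp
    exact RingHom.finitePresentation_algebraMap.mp this
  haveI : Module.FinitePresentation R A :=
    Module.FinitePresentation.of_finite_of_finitePresentation R A
  haveI : Module.Projective R A := Module.Flat.projective_of_finitePresentation
  have hn : ∀ p : PrimeSpectrum R, Module.rankAtStalk A p = r := by
    intro p
    rw [← Scheme.Hom.finrank_SpecMap_algebraMap R A p, ← hw,
      Scheme.Hom.finrank_comp_left_of_isIso]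
    exact hr p
  have hcomm : ∀ (B : Type u) [CommRing B] [Algebra R B]
      (a b : (Spec (CommRingCat.of B)).asOver (Spec (CommRingCat.of R)) ⟶
        (Spec (CommRingCat.of A)).asOver (Spec (CommRingCat.of R))), a * b = b * a := by
    intro B _ _ a b
    calc a * b = ((a ≫ u) * (b ≫ u)) ≫ v := by
          rw [MonObj.mul_comp, Category.assoc, Category.assoc, huv, Category.comp_id,
            Category.comp_id]
      _ = ((b ≫ u) * (a ≫ u)) ≫ v := by rw [mul_comm (a ≫ u) (b ≫ u)]
      _ = b * a := by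
          rw [MonObj.mul_comp, Category.assoc, Category.assoc, huv, Category.comp_id,
            Category.comp_id]
  have h1 := hopf_id_pow A hcomm r hn
  calc g ^ r = ((g ≫ v) ≫ u) ^ r := by rw [Category.assoc, hvu, Category.comp_id]
    _ = (((g ≫ v) ≫ 𝟙 _) ^ r) ≫ u := by rw [Category.comp_id, MonObj.pow_comp]
    _ = ((g ≫ v) ≫ ((𝟙 _) ^ r)) ≫ u := by rw [MonObj.comp_pow]
    _ = 1 := by rw [h1, MonObj.comp_one, MonObj.one_comp]

/-- **Deligne's theorem** over an affine base `Spec R`. -/
theorem core (G : Over (Spec (CommRingCat.of R))) [GrpObj G] [IsCommMonObj G]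
    [IsFinite G.hom] [Flat G.hom] [LocallyOfFinitePresentation G.hom]
    (r : ℕ) (hr : ∀ s : ↥(Spec (CommRingCat.of R)), Scheme.Hom.finrank G.hom s = r)
    (T : Over (Spec (CommRingCat.of R))) (g : T ⟶ G) : g ^ r = 1 := by
  haveI : IsAffine G.left := isAffine_of_isAffineHom G.hom
  obtain ⟨Y, ⟨e⟩⟩ := (essImage_hopfSpec (R := CommRingCat.of R) (G := Grp.mk G)).mpr
    ‹IsAffine G.left›
  exact @core_aux R _ (Y.unop : Type u) Y.unop.commRing Y.unop.hopfAlgebra G _ _ _ _ _ e r hr T g

theorem core' (R : CommRingCat.{u}) (G : Over (Spec R)) [GrpObj G] [IsCommMonObj G]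
    [IsFinite G.hom] [Flat G.hom] [LocallyOfFinitePresentation G.hom]
    (r : ℕ) (hr : ∀ s : ↥(Spec R), Scheme.Hom.finrank G.hom s = r)
    (T : Over (Spec R)) (g : T ⟶ G) : g ^ r = 1 :=
  core (R := R) G r hr T g

end Sch

section Loc

open Groth.Agent.Lib.Helper27.GaGm

variable {S : Scheme.{u}}

theorem adjEquiv_one {U : Scheme.{u}} (f : U ⟶ S) (G : Over S) [GrpObj G] (X : Over U) :
    adjEquiv f G X 1 = 1 := by
  have h := adjEquiv_mul f G X 1 1
  rw [_root_.mul_one] at h
  have h' : adjEquiv f G X 1 * adjEquiv f G X 1 = adjEquiv f G X 1 * 1 := by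
    rw [_root_.mul_one]; exact h.symm
  exact mul_left_cancel h'

theorem adjEquiv_pow {U : Scheme.{u}} (f : U ⟶ S) (G : Over S) [GrpObj G] (X : Over U)
    (x : X ⟶ Red.bc f G) (n : ℕ) :
    adjEquiv f G X (x ^ n) = (adjEquiv f G X x) ^ n := by
  induction n with
  | zero => rw [pow_zero, pow_zero, adjEquiv_one]
  | succ k ih => rw [pow_succ, pow_succ, adjEquiv_mul, ih]

theorem local_eq {R : CommRingCat.{u}} (f : Spec R ⟶ S) (G : Over S) [GrpObj G]
    [IsCommMonObj G] [IsFinite G.hom] [Flat G.hom] [LocallyOfFinitePresentation G.hom]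
    (r : ℕ) (hr : ∀ s : S, Scheme.Hom.finrank G.hom s = r) :
    pullback.fst G.hom f ≫ ((𝟙 G) ^ r).left = pullback.fst G.hom f ≫ (1 : G ⟶ G).left := by
  haveI : IsCommMonObj (Red.bc f G) := Functor.isCommMonObj_obj (F := Over.pullback f)
  haveI : IsFinite (Red.bc f G).hom := inferInstanceAs (IsFinite (pullback.snd G.hom f))
  haveI : Flat (Red.bc f G).hom := inferInstanceAs (Flat (pullback.snd G.hom f))
  haveI : LocallyOfFinitePresentation (Red.bc f G).hom :=
    inferInstanceAs (LocallyOfFinitePresentation (pullback.snd G.hom f))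
  have hr' : ∀ s : ↥(Spec R), Scheme.Hom.finrank (Red.bc f G).hom s = r := fun s =>
    (Scheme.Hom.finrank_pullback_snd G.hom f s).trans (hr _)
  have h1 : (𝟙 (Red.bc f G)) ^ r = 1 := core' R (Red.bc f G) r hr' _ _
  have h2 : (adjEquiv f G (Red.bc f G) (𝟙 _)) ^ r = 1 := by
    rw [← adjEquiv_pow, h1, adjEquiv_one]
  obtain ⟨j, hj⟩ : ∃ j, j = adjEquiv f G (Red.bc f G) (𝟙 _) := ⟨_, rfl⟩
  rw [← hj] at h2
  have hjl : j.left = pullback.fst G.hom f := by
    rw [hj, adjEquiv_left, Over.id_left, Category.id_comp]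
  have h3 : j ≫ ((𝟙 G) ^ r) = j ≫ 1 := by
    rw [MonObj.comp_pow, Category.comp_id, h2, MonObj.comp_one]
  have h4 : (j ≫ ((𝟙 G) ^ r)).left = (j ≫ 1).left := by rw [h3]
  rw [Over.comp_left, Over.comp_left, hjl] at h4
  exact h4

/-- **Deligne's theorem** over an arbitrary base. -/
theorem main (G : Over S) [GrpObj G] [IsCommMonObj G]
    [IsFinite G.hom] [Flat G.hom] [LocallyOfFinitePresentation G.hom]
    (r : ℕ) (hr : ∀ s : S, Scheme.Hom.finrank G.hom s = r)
    (T : Over S) (g : T ⟶ G) : g ^ r = 1 := by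
  have key : (𝟙 G) ^ r = 1 := by
    apply Over.OverMorphism.ext
    refine Scheme.Cover.hom_ext (S.affineOpenCover.openCover.pullback₁ G.hom) _ _ (fun i => ?_)
    exact local_eq (S.affineOpenCover.f i) G r hr
  calc g ^ r = (g ≫ 𝟙 G) ^ r := by rw [Category.comp_id]
    _ = g ≫ ((𝟙 G) ^ r) := (MonObj.comp_pow _ _ _).symm
    _ = 1 := by rw [key, MonObj.comp_one]

end Loc

section ExtKill

open CategoryTheory.Abelian

theorem ext_nsmul_eq_zero {C : Type u'} [Category.{v'} C] [Abelian C] [HasExt.{w} C] {X Y : C}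
    {n : ℕ} (x : Ext.{w} X Y n) (m : ℕ) (h : m • 𝟙 X = 0) : m • x = 0 := by
  have h1 : ∀ k : ℕ, (Ext.mk₀ (k • 𝟙 X)).comp x (zero_add n) = k • x := by
    intro k
    induction k with
    | zero => rw [zero_smul, zero_smul, Ext.mk₀_zero, Ext.zero_comp]
    | succ k ih => rw [succ_nsmul, Ext.mk₀_add, Ext.add_comp, ih, Ext.mk₀_id_comp, succ_nsmul]
  rw [← h1, h, Ext.mk₀_zero, Ext.zero_comp]

theorem nsmul_id_pts (K : Precoverage Scheme.{u}) {S : Scheme.{u}} [(QuotSh.J K S).Subcanonical]
    (G : Over S) [GrpObj G] [IsCommMonObj G] (m : ℕ)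
    (h : ∀ (T : Over S) (g : T ⟶ G), g ^ m = 1) : m • 𝟙 (CGrpSh.pts K G) = 0 := by
  have key : ∀ (T : (Over S)ᵒᵖ) (x : (CGrpSh.pts K G).obj.obj T), m • x = 0 := by
    intro T x
    apply ULift.ext
    change Additive.ofMul (Additive.toMul x.down ^ m) = 0
    rw [h]
    rfl
  apply Sheaf.hom_ext
  ext T x
  exact key T x

end ExtKill

end Groth.Agent.Lib.Helper8Deligne
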