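import Groth.Agent.Lib.Helper17ExactAdj
import Mathlib.Algebra.Homology.DerivedCategory.HomologySequence

/-!
# Exact adjoint functors with invertible counit: full faithfulness on derived categories (helper8)
-/

set_option autoImplicit false

universe w w' v v' u u'

open CategoryTheory CategoryTheory.Limits

namespace Groth.Agent.Lib.Helper8DerFF

open Groth.Agent.Lib.Helper17.SerreLoc Groth.Agent.Lib.Helper17.ExactAdj

variable {A : Type u} [Category.{v} A] [Abelian A] [HasDerivedCategory.{w} A]
  {B : Type u'} [Category.{v'} B] [Abelian B] [HasDerivedCategory.{w'} B]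
  (F : A ⥤ B) (G : B ⥤ A) (adj : F ⊣ G) [F.Additive] [G.Additive]
  [PreservesFiniteLimits F] [PreservesFiniteColimits F]
  [PreservesFiniteLimits G] [PreservesFiniteColimits G]

/-- the derived adjunction -/
noncomputable abbrev adjD : F.mapDerivedCategory ⊣ G.mapDerivedCategory :=
  mapDerivedCategoryAdjunction F G adj

theorem isIso_counit_Q [∀ Y, IsIso (adj.counit.app Y)] (L : CochainComplex B ℤ) :
    IsIso ((adjD F G adj).counit.app (DerivedCategory.Q.obj L)) := by
  have h : IsIso ((adjHC adj (ComplexShape.up ℤ)).counit.app L) := by
    haveI : ∀ i, IsIso (((adjHC adj (ComplexShape.up ℤ)).counit.app L).f i) := fun i => by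
      change IsIso (adj.counit.app (L.X i))
      infer_instance
    exact HomologicalComplex.Hom.isIso_of_components _
  unfold adjD mapDerivedCategoryAdjunction
  rw [Adjunction.localization_counit_app]
  infer_instance

theorem isIso_counit [∀ Y, IsIso (adj.counit.app Y)] (K : DerivedCategory B) :
    IsIso ((adjD F G adj).counit.app K) := by
  have h := isIso_counit_Q F G adj (DerivedCategory.Q.objPreimage K)
  exact (NatTrans.isIso_app_iff_of_iso (adjD F G adj).counit
    (DerivedCategory.Q.objObjPreimageIso K)).1 h

/-- the termwise unit induces on homology the unit at homology -/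
theorem isIso_homologyMap_unit_iff (L : CochainComplex A ℤ) (n : ℤ) :
    IsIso (HomologicalComplex.homologyMap ((adjHC adj (ComplexShape.up ℤ)).unit.app L) n) ↔
      IsIso (adj.unit.app (L.homology n)) := by
  haveI : PreservesFiniteLimits (F ⋙ G) := comp_preservesFiniteLimits F G
  haveI : PreservesFiniteColimits (F ⋙ G) := comp_preservesFiniteColimits F G
  haveI : (F ⋙ G).PreservesHomology := inferInstance
  have h := NatTrans.app_homology adj.unit (L.sc n)
  have h2 : HomologicalComplex.homologyMap ((adjHC adj (ComplexShape.up ℤ)).unit.app L) n =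
      ShortComplex.homologyMap ((L.sc n).mapNatTrans adj.unit) := rfl
  rw [h2]
  change _ ↔ IsIso (adj.unit.app (L.sc n).homology)
  rw [h, isIso_comp_left_iff, isIso_comp_right_iff]
  exact Iff.rfl

theorem isIso_unit_Q_iff (L : CochainComplex A ℤ) :
    IsIso ((adjD F G adj).unit.app (DerivedCategory.Q.obj L)) ↔
      ∀ n : ℤ, IsIso (adj.unit.app (L.homology n)) := by
  unfold adjD mapDerivedCategoryAdjunction
  rw [Adjunction.localization_unit_app, isIso_comp_right_iff,
    DerivedCategory.isIso_Q_map_iff_quasiIso, quasiIso_iff]
  refine forall_congr' (fun n => ?_)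
  rw [quasiIsoAt_iff_isIso_homologyMap]
  exact isIso_homologyMap_unit_iff F G adj L n

/-- the derived unit at `K` is invertible iff the unit is invertible at all cohomology objects -/
theorem isIso_unit_iff (K : DerivedCategory A) :
    IsIso ((adjD F G adj).unit.app K) ↔
      ∀ n : ℤ, IsIso (adj.unit.app ((DerivedCategory.homologyFunctor A n).obj K)) := by
  let L := DerivedCategory.Q.objPreimage K
  let e : DerivedCategory.Q.obj L ≅ K := DerivedCategory.Q.objObjPreimageIso K
  rw [← NatTrans.isIso_app_iff_of_iso (adjD F G adj).unit e, isIso_unit_Q_iff]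
  refine forall_congr' (fun n => ?_)
  let e' : L.homology n ≅ (DerivedCategory.homologyFunctor A n).obj K :=
    ((DerivedCategory.homologyFunctorFactors A n).app L).symm ≪≫
      (DerivedCategory.homologyFunctor A n).mapIso e
  exact NatTrans.isIso_app_iff_of_iso adj.unit e'

/-- **Main theorem**: for exact adjoint functors `F ⊣ G` with invertible counit, `G` is fully
faithful on derived categories, with essential image the objects all of whose cohomology objects
have invertible unit. -/
theorem main [∀ Y, IsIso (adj.counit.app Y)] :
    (G.mapDerivedCategory.Full ∧ G.mapDerivedCategory.Faithful) ∧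
      ∀ K : DerivedCategory A, G.mapDerivedCategory.essImage K ↔
        ∀ n : ℤ, IsIso (adj.unit.app ((DerivedCategory.homologyFunctor A n).obj K)) := by
  haveI : ∀ K, IsIso ((adjD F G adj).counit.app K) := fun K => isIso_counit F G adj K
  haveI : IsIso (adjD F G adj).counit := NatIso.isIso_of_isIso_app _
  have hff := (adjD F G adj).fullyFaithfulROfIsIsoCounit
  haveI : G.mapDerivedCategory.Full := hff.full
  haveI : G.mapDerivedCategory.Faithful := hff.faithful
  refine ⟨⟨inferInstance, inferInstance⟩, fun K => ?_⟩
  rw [← (adjD F G adj).isIso_unit_app_iff_mem_essImage, isIso_unit_iff]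

end Groth.Agent.Lib.Helper8DerFF
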