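import Mathlib
import Groth.Agent.Lib.Helper10RedProjU
import Groth.Agent.Lib.Helper10FibreRank

/-!
# A projectivity criterion for quotients of projective modules over reduced rings (helper8)

`projective_quotient_of_inf_smul_le`: if `R` is reduced, `N` finite projective, `A ≤ N` finitely
generated with `A ⊓ 𝔮N ≤ 𝔮A` for every prime `𝔮`, then `N ⧸ A` is projective.
-/

set_option autoImplicit false

namespace Groth.Agent.Lib.Helper8FibInj

open TensorProduct Module

universe u v

variable {R : Type u} [CommRing R] {N : Type v} [AddCommGroup N] [Module R N]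

/-- For `N` finite projective, the kernel of `N → κ(𝔮) ⊗ N` is `𝔮N`. -/
theorem mem_smul_top_of_one_tmul_eq_zero [Module.Finite R N] [Module.Projective R N]
    (q : Ideal R) [q.IsPrime] (n : N) (h : (1 : q.ResidueField) ⊗ₜ[R] n = 0) :
    n ∈ q • (⊤ : Submodule R N) := by
  obtain ⟨r, f, g, -, -, hfg⟩ := Module.Finite.exists_comp_eq_id_of_projective R N
  have hcoord : ∀ i, g n i ∈ q := by
    intro i
    have h1 := congrArg (LinearMap.baseChange q.ResidueField ((LinearMap.proj i : (Fin r → R) →ₗ[R] R) ∘ₗ g)) h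
    rw [LinearMap.baseChange_tmul, map_zero] at h1
    have h2 := congrArg (TensorProduct.rid R q.ResidueField) h1
    rw [map_zero] at h2
    simp only [LinearMap.coe_comp, LinearMap.coe_proj, Function.comp_apply, Function.eval,
      TensorProduct.rid_tmul] at h2
    rw [Algebra.smul_def, mul_one] at h2
    exact (Ideal.algebraMap_residueField_eq_zero).1 h2
  have hn : n = f (g n) := by
    have := congrArg (fun m => m n) hfg
    simpa using this.symm
  have hgn : g n = ∑ i, g n i • (Pi.single i (1 : R) : Fin r → R) := by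
    funext j
    simp [Finset.sum_apply, Pi.single_apply]
  rw [hn, hgn, map_sum]
  refine Submodule.sum_mem _ fun i _ => ?_
  rw [map_smul]
  exact Submodule.smul_mem_smul (hcoord i) Submodule.mem_top

/-- Elements of the residue field are fractions. -/
theorem exists_mul_eq_algebraMap (q : Ideal R) [q.IsPrime] (c : q.ResidueField) :
    ∃ (r s : R), s ∉ q ∧ algebraMap R q.ResidueField s * c = algebraMap R q.ResidueField r := by
  obtain ⟨x, rfl⟩ := IsLocalRing.residue_surjective (R := Localization.AtPrime q) c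
  obtain ⟨r, s, rfl⟩ := IsLocalization.exists_mk'_eq q.primeCompl x
  refine ⟨r, s.1, s.2, ?_⟩
  rw [IsScalarTower.algebraMap_apply R (Localization.AtPrime q) q.ResidueField,
    IsScalarTower.algebraMap_apply R (Localization.AtPrime q) q.ResidueField]
  change IsLocalRing.residue _ _ * IsLocalRing.residue _ _ = IsLocalRing.residue _ _
  rw [← map_mul, mul_comm, IsLocalization.mk'_spec]

theorem algebraMap_residueField_ne_zero (q : Ideal R) [q.IsPrime] {s : R} (hs : s ∉ q) :
    algebraMap R q.ResidueField s ≠ 0 := fun h =>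
  hs ((Ideal.algebraMap_residueField_eq_zero).1 h)

/-- Every element of `κ(𝔮) ⊗ A` becomes of the form `1 ⊗ a` after multiplying by a unit. -/
theorem exists_smul_eq_one_tmul (q : Ideal R) [q.IsPrime] (A : Type*) [AddCommGroup A] [Module R A]
    (z : q.ResidueField ⊗[R] A) :
    ∃ (s : R) (a : A), s ∉ q ∧ algebraMap R q.ResidueField s • z = 1 ⊗ₜ[R] a := by
  induction z using TensorProduct.induction_on with
  | zero => exact ⟨1, 0, fun h => (Ideal.IsPrime.ne_top inferInstance)
      ((Ideal.eq_top_iff_one q).2 h), by simp⟩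
  | tmul c a =>
    obtain ⟨r, s, hs, h⟩ := exists_mul_eq_algebraMap q c
    refine ⟨s, r • a, hs, ?_⟩
    rw [TensorProduct.smul_tmul', smul_eq_mul, h, TensorProduct.tmul_smul,
      Algebra.algebraMap_eq_smul_one, ← TensorProduct.smul_tmul']
  | add z₁ z₂ h₁ h₂ =>
    obtain ⟨s₁, a₁, hs₁, e₁⟩ := h₁
    obtain ⟨s₂, a₂, hs₂, e₂⟩ := h₂
    refine ⟨s₁ * s₂, s₂ • a₁ + s₁ • a₂, ?_, ?_⟩
    · intro h
      rcases Ideal.IsPrime.mem_or_mem inferInstance h with h | h
      · exact hs₁ h
      · exact hs₂ h
    · rw [map_mul, smul_add, mul_comm, mul_smul, e₁, mul_comm, mul_smul, e₂, TensorProduct.tmul_add,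
        TensorProduct.tmul_smul, TensorProduct.tmul_smul, algebraMap_smul, algebraMap_smul]

/-- Elements of `𝔮A` die in `κ(𝔮) ⊗ A`. -/
theorem one_tmul_eq_zero_of_mem_smul (q : Ideal R) [q.IsPrime] (A : Submodule R N) :
    ∀ x ∈ q • A, ∀ hx : x ∈ A, (1 : q.ResidueField) ⊗ₜ[R] (⟨x, hx⟩ : A) = 0 := by
  intro x hx
  induction hx using Submodule.smul_induction_on' with
  | smul r hr n hn =>
    intro hx
    have : (⟨r • n, hx⟩ : A) = r • ⟨n, hn⟩ := rfl
    rw [this, TensorProduct.tmul_smul, TensorProduct.smul_tmul', ← Algebra.algebraMap_eq_smul_one,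
      (Ideal.algebraMap_residueField_eq_zero).2 hr, TensorProduct.zero_tmul]
  | add x hx y hy ihx ihy =>
    intro hxy
    have hxA : x ∈ A := Submodule.smul_le_right hx
    have hyA : y ∈ A := Submodule.smul_le_right hy
    have : (⟨x + y, hxy⟩ : A) = ⟨x, hxA⟩ + ⟨y, hyA⟩ := rfl
    rw [this, TensorProduct.tmul_add, ihx hxA, ihy hyA, add_zero]

/-- Fibre injectivity from `A ⊓ 𝔮N ≤ 𝔮A`. -/
theorem baseChange_subtype_injective [Module.Finite R N] [Module.Projective R N]
    (A : Submodule R N) (q : Ideal R) [q.IsPrime]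
    (hA : A ⊓ q • (⊤ : Submodule R N) ≤ q • A) :
    Function.Injective (LinearMap.baseChange q.ResidueField A.subtype) := by
  rw [injective_iff_map_eq_zero]
  intro z hz
  obtain ⟨s, a, hs, e⟩ := exists_smul_eq_one_tmul q A z
  have h1 : (1 : q.ResidueField) ⊗ₜ[R] (a : N) = 0 := by
    have := congrArg (LinearMap.baseChange q.ResidueField A.subtype) e
    rw [map_smul, hz, smul_zero, LinearMap.baseChange_tmul] at this
    exact this.symm
  have h2 : (a : N) ∈ q • A :=
    hA ⟨a.2, mem_smul_top_of_one_tmul_eq_zero q _ h1⟩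
  have h3 := one_tmul_eq_zero_of_mem_smul q A _ h2 a.2
  rw [Subtype.coe_eta] at h3
  rw [h3] at e
  exact (smul_eq_zero.1 e).resolve_left (algebraMap_residueField_ne_zero q hs)

/-- If `φ : A → N` is injective on all fibres (`A` finite, `N` finite projective, `R` reduced)
then the cokernel of `φ` is projective. -/
theorem projective_quotient_range_of_fibre_injective [IsReduced R] [Module.Finite R N]
    [Module.Projective R N] {A : Type v} [AddCommGroup A] [Module R A] [Module.Finite R A]
    (φ : A →ₗ[R] N)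
    (hφ : ∀ y : PrimeSpectrum R, Function.Injective (φ.baseChange y.asIdeal.ResidueField)) :
    Module.Projective R (N ⧸ LinearMap.range φ) := by
  have : Module.FinitePresentation R N := Module.finitePresentation_of_projective R N
  apply Groth.Agent.Lib.Helper10.RedProjU.projective_of_isLocallyConstant
  rw [IsLocallyConstant.iff_exists_open]
  intro y
  obtain ⟨U₁, hU₁o, hyU₁, hU₁⟩ :=
    Groth.Agent.Lib.Helper10.FibreRank.exists_isOpen_finrank_le (B := R) (N ⧸ LinearMap.range φ) y
  obtain ⟨U₂, hU₂o, hyU₂, hU₂⟩ :=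
    Groth.Agent.Lib.Helper10.FibreRank.exists_isOpen_finrank_le (B := R) A y
  obtain ⟨U₃, hU₃o, hyU₃, hU₃⟩ := (IsLocallyConstant.iff_exists_open _).1
    (Module.isLocallyConstant_rankAtStalk (R := R) (M := N)) y
  have key : ∀ z : PrimeSpectrum R,
      finrank z.asIdeal.ResidueField (z.asIdeal.ResidueField ⊗[R] A) +
        finrank z.asIdeal.ResidueField (z.asIdeal.ResidueField ⊗[R] (N ⧸ LinearMap.range φ)) =
      finrank z.asIdeal.ResidueField (z.asIdeal.ResidueField ⊗[R] N) := by
    intro z
    have h := Groth.Agent.Lib.Helper10.FibreRank.finrank_range_baseChange_add φ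
      z.asIdeal.ResidueField
    rw [LinearMap.finrank_range_of_inj (hφ z)] at h
    exact h
  refine ⟨U₁ ∩ U₂ ∩ U₃, (hU₁o.inter hU₂o).inter hU₃o, ⟨⟨hyU₁, hyU₂⟩, hyU₃⟩, ?_⟩
  rintro z ⟨⟨hz₁, hz₂⟩, hz₃⟩
  have h1 := hU₁ z hz₁
  have h2 := hU₂ z hz₂
  have h3 := hU₃ z hz₃
  rw [Module.rankAtStalk_eq, Module.rankAtStalk_eq] at h3
  have h3' : finrank z.asIdeal.ResidueField (z.asIdeal.ResidueField ⊗[R] N) =
      finrank y.asIdeal.ResidueField (y.asIdeal.ResidueField ⊗[R] N) := h3
  have k1 := key z
  have k2 := key y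
  omega

/-- If `R` is reduced, `N` finite projective and `A ≤ N` finitely generated with
`A ⊓ 𝔮N ≤ 𝔮A` for all primes `𝔮`, then `N ⧸ A` is projective. -/
theorem projective_quotient_of_inf_smul_le [IsReduced R] [Module.Finite R N]
    [Module.Projective R N] (A : Submodule R N) (hfg : A.FG)
    (hA : ∀ (q : Ideal R) [q.IsPrime], A ⊓ q • (⊤ : Submodule R N) ≤ q • A) :
    Module.Projective R (N ⧸ A) := by
  have : Module.Finite R A := Module.Finite.iff_fg.2 hfg
  have h := projective_quotient_range_of_fibre_injective A.subtype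
    (fun y => baseChange_subtype_injective A y.asIdeal (hA y.asIdeal))
  exact Module.Projective.of_equiv (Submodule.quotEquivOfEq _ _ (Submodule.range_subtype A))

end Groth.Agent.Lib.Helper8FibInj
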