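import Mathlib
import Groth.Agent.Lib.Helper8FibInj
import Groth.Agent.Lib.Helper24Dieu

/-!
# Dieudonné modules over perfect rings: `M/VM` is projective (helper8)
-/

set_option autoImplicit false
set_option linter.unusedSectionVars false

namespace Groth.Agent.Lib.Helper8Dieu

universe u v

variable {p : ℕ} [Fact p.Prime] {k : Type u} [CommRing k] [CharP k p] [PerfectRing k p]

section WittIdeal

variable (p) in
/-- The ideal of Witt vectors all of whose coefficients lie in `q`. -/
noncomputable def J (q : Ideal k) : Ideal (WittVector p k) :=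
  RingHom.ker (WittVector.map (Ideal.Quotient.mk q))

theorem mem_J {q : Ideal k} {x : WittVector p k} : x ∈ J p q ↔ ∀ n, x.coeff n ∈ q := by
  rw [J, RingHom.mem_ker, WittVector.ext_iff]
  simp only [WittVector.map_coeff, WittVector.zero_coeff, Ideal.Quotient.eq_zero_iff_mem]

theorem frobenius_mem_J {q : Ideal k} {x : WittVector p k} (h : x ∈ J p q) :
    WittVector.frobenius x ∈ J p q := by
  rw [mem_J] at h ⊢
  intro n
  rw [WittVector.coeff_frobenius_charP]
  exact Ideal.pow_mem_of_mem _ (h n) _ (Fact.out : p.Prime).pos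

theorem mem_J_of_frobenius_mem_J {q : Ideal k} (hq : q.IsRadical) {x : WittVector p k}
    (h : WittVector.frobenius x ∈ J p q) : x ∈ J p q := by
  rw [mem_J] at h ⊢
  intro n
  have := h n
  rw [WittVector.coeff_frobenius_charP] at this
  exact hq ⟨p, this⟩

theorem frobeniusEquiv_symm_mem_J {q : Ideal k} (hq : q.IsRadical) {x : WittVector p k}
    (h : x ∈ J p q) : (WittVector.frobeniusEquiv p k).symm x ∈ J p q := by
  apply mem_J_of_frobenius_mem_J hq
  have : WittVector.frobenius ((WittVector.frobeniusEquiv p k).symm x) = x :=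
    (WittVector.frobeniusEquiv p k).apply_symm_apply x
  rw [this]
  exact h

theorem mem_J_of_p_mul_mem {q : Ideal k} (hq : q.IsRadical) {x : WittVector p k}
    (h : (p : WittVector p k) * x ∈ J p q) : x ∈ J p q := by
  rw [mem_J] at h ⊢
  intro n
  have := h (n + 1)
  rw [mul_comm, WittVector.mul_charP_coeff_succ] at this
  exact hq ⟨p, this⟩

theorem mem_span_p_of_coeff_zero {x : WittVector p k} (h : x.coeff 0 = 0) :
    x ∈ Ideal.span {(p : WittVector p k)} := by
  have h1 : WittVector.verschiebung (x.shift 1) = x := by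
    have := WittVector.verschiebung_shift x 0 (fun i hi => by
      have : i = 0 := by omega
      rw [this]; exact h)
    rw [this]
    ext n
    simp [WittVector.shift_coeff]
  obtain ⟨y, hy⟩ := (WittVector.frobenius_bijective p k).surjective (x.shift 1)
  rw [← hy, WittVector.verschiebung_frobenius, mul_comm] at h1
  rw [← h1]
  exact Ideal.mul_mem_right _ _ (Ideal.mem_span_singleton_self _)

theorem ker_constantCoeff :
    RingHom.ker (WittVector.constantCoeff : WittVector p k →+* k) =
      Ideal.span {(p : WittVector p k)} := by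
  apply le_antisymm
  · intro x hx
    exact mem_span_p_of_coeff_zero hx
  · rw [Ideal.span_le]
    rintro _ rfl
    rw [SetLike.mem_coe, RingHom.mem_ker, map_natCast]
    exact CharP.cast_eq_zero k p

theorem comap_constantCoeff_eq (q : Ideal k) :
    Ideal.comap (WittVector.constantCoeff : WittVector p k →+* k) q =
      J p q ⊔ Ideal.span {(p : WittVector p k)} := by
  apply le_antisymm
  · intro x hx
    rw [Ideal.mem_comap] at hx
    have h1 : WittVector.teichmuller p (x.coeff 0) ∈ J p q := by
      rw [mem_J]
      intro n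
      rcases Nat.eq_zero_or_pos n with rfl | hn
      · rw [WittVector.teichmuller_coeff_zero]; exact hx
      · rw [WittVector.teichmuller_coeff_pos p _ n hn]; exact q.zero_mem
    have h2 : x - WittVector.teichmuller p (x.coeff 0) ∈ Ideal.span {(p : WittVector p k)} := by
      apply mem_span_p_of_coeff_zero
      have : (WittVector.constantCoeff : WittVector p k →+* k)
          (x - WittVector.teichmuller p (x.coeff 0)) = 0 := by
        rw [map_sub]
        change x.coeff 0 - (WittVector.teichmuller p (x.coeff 0)).coeff 0 = 0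
        rw [WittVector.teichmuller_coeff_zero, sub_self]
      exact this
    have : x = WittVector.teichmuller p (x.coeff 0) + (x - WittVector.teichmuller p (x.coeff 0)) := by
      ring
    rw [this]
    exact Submodule.add_mem_sup h1 h2
  · apply sup_le
    · intro x hx
      rw [Ideal.mem_comap]
      exact (mem_J.1 hx) 0
    · rw [← ker_constantCoeff]
      intro x hx
      rw [Ideal.mem_comap, RingHom.mem_ker.1 hx]
      exact q.zero_mem

end WittIdeal

section Core

variable (p k) in
/-- `W(k)/p`. -/
abbrev Wp := WittVector p k ⧸ Ideal.span {(p : WittVector p k)}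

variable {M : Type v} [AddCommGroup M] [Module (WittVector p k) M]

variable (p k M) in
/-- `pM` -/
noncomputable abbrev pTop : Submodule (WittVector p k) M := Ideal.span {(p : WittVector p k)} • ⊤

variable (p k M) in
/-- `M/pM` -/
abbrev Nbar := M ⧸ pTop p k M

theorem mem_pTop_iff (x : M) : x ∈ pTop p k M ↔ ∃ y : M, x = (p : WittVector p k) • y := by
  rw [pTop, Submodule.ideal_span_singleton_smul, Submodule.mem_smul_pointwise_iff_exists]
  constructor
  · rintro ⟨y, -, rfl⟩; exact ⟨y, rfl⟩
  · rintro ⟨y, rfl⟩; exact ⟨y, Submodule.mem_top, rfl⟩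

theorem p_smul_mem_pTop (y : M) : (p : WittVector p k) • y ∈ pTop p k M :=
  (mem_pTop_iff _).2 ⟨y, rfl⟩

theorem comap_mk_eq (q' : Ideal (Wp p k)) [q'.IsPrime] :
    ∃ q : Ideal k, q.IsPrime ∧
      Ideal.comap (Ideal.Quotient.mk (Ideal.span {(p : WittVector p k)})) q' =
        J p q ⊔ Ideal.span {(p : WittVector p k)} := by
  set I := Ideal.comap (Ideal.Quotient.mk (Ideal.span {(p : WittVector p k)})) q' with hI
  have hpI : Ideal.span {(p : WittVector p k)} ≤ I := by
    intro x hx
    rw [hI, Ideal.mem_comap, Ideal.Quotient.eq_zero_iff_mem.2 hx]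
    exact q'.zero_mem
  have hsurj : Function.Surjective (WittVector.constantCoeff : WittVector p k →+* k) :=
    fun a => ⟨WittVector.teichmuller p a, WittVector.teichmuller_coeff_zero p a⟩
  have : I.IsPrime := Ideal.comap_isPrime _ _
  refine ⟨Ideal.map WittVector.constantCoeff I,
    Ideal.map_isPrime_of_surjective hsurj (by rw [ker_constantCoeff]; exact hpI), ?_⟩
  rw [← comap_constantCoeff_eq, Ideal.comap_map_of_surjective _ hsurj, ← RingHom.ker_eq_comap_bot,
    ker_constantCoeff]
  exact (sup_eq_left.2 hpI).symm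

theorem mem_smul_top_of_mk_mem (q' : Ideal (Wp p k)) (x : M)
    (h : (pTop p k M).mkQ x ∈ q' • (⊤ : Submodule (Wp p k) (Nbar p k M))) :
    x ∈ (Ideal.comap (Ideal.Quotient.mk (Ideal.span {(p : WittVector p k)})) q') •
      (⊤ : Submodule (WittVector p k) M) := by
  set I := Ideal.comap (Ideal.Quotient.mk (Ideal.span {(p : WittVector p k)})) q' with hI
  have hpI : Ideal.span {(p : WittVector p k)} ≤ I := by
    intro x hx
    rw [hI, Ideal.mem_comap, Ideal.Quotient.eq_zero_iff_mem.2 hx]
    exact q'.zero_mem
  have hpT : pTop p k M ≤ I • (⊤ : Submodule (WittVector p k) M) :=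
    Submodule.smul_mono_left hpI
  have key : ∀ n ∈ q' • (⊤ : Submodule (Wp p k) (Nbar p k M)), ∀ x : M,
      (pTop p k M).mkQ x = n → x ∈ I • (⊤ : Submodule (WittVector p k) M) := by
    intro n hn
    induction hn using Submodule.smul_induction_on' with
    | smul r hr n _ =>
      intro x hx
      obtain ⟨w, rfl⟩ := Ideal.Quotient.mk_surjective r
      obtain ⟨y, rfl⟩ := (pTop p k M).mkQ_surjective n
      have h1 : (pTop p k M).mkQ x = (pTop p k M).mkQ (w • y) := hx
      have h2 : x - w • y ∈ pTop p k M := by
        rw [← Submodule.Quotient.mk_eq_zero, Submodule.Quotient.mk_sub]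
        exact sub_eq_zero.2 h1
      have h3 : x = (x - w • y) + w • y := by abel
      rw [h3]
      exact add_mem (hpT h2) (Submodule.smul_mem_smul hr Submodule.mem_top)
    | add n₁ _ n₂ _ ih₁ ih₂ =>
      intro x hx
      obtain ⟨y₁, rfl⟩ := (pTop p k M).mkQ_surjective n₁
      obtain ⟨y₂, rfl⟩ := (pTop p k M).mkQ_surjective n₂
      have h1 : (pTop p k M).mkQ x = (pTop p k M).mkQ (y₁ + y₂) := by rw [hx, map_add]
      have h2 : x - (y₁ + y₂) ∈ pTop p k M := by
        rw [← Submodule.Quotient.mk_eq_zero, Submodule.Quotient.mk_sub]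
        exact sub_eq_zero.2 h1
      have h3 : x = (x - (y₁ + y₂)) + (y₁ + y₂) := by abel
      rw [h3]
      exact add_mem (hpT h2) (add_mem (ih₁ y₁ rfl) (ih₂ y₂ rfl))
  exact key _ h x rfl

variable (F : M →ₛₗ[(WittVector.frobenius : WittVector p k →+* WittVector p k)] M)
  (V : M →ₛₗ[((WittVector.frobeniusEquiv p k).symm : WittVector p k →+* WittVector p k)] M)

variable (p k) in
/-- The image of `V` in `M/pM`, as a `W/p`-submodule. -/
noncomputable abbrev imV : Submodule (Wp p k) (Nbar p k M) :=
  Submodule.span (Wp p k) (Set.range fun m : M => (pTop p k M).mkQ (V m))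

theorem exists_eq_mk_V (a : Nbar p k M) (ha : a ∈ imV p k V) :
    ∃ m : M, a = (pTop p k M).mkQ (V m) := by
  induction ha using Submodule.span_induction with
  | mem x hx => obtain ⟨m, rfl⟩ := hx; exact ⟨m, rfl⟩
  | zero => exact ⟨0, by simp⟩
  | add x y _ _ ihx ihy =>
    obtain ⟨m₁, rfl⟩ := ihx
    obtain ⟨m₂, rfl⟩ := ihy
    exact ⟨m₁ + m₂, by rw [map_add, map_add]⟩
  | smul c x _ ih =>
    obtain ⟨m, rfl⟩ := ih
    obtain ⟨w, rfl⟩ := Ideal.Quotient.mk_surjective c
    refine ⟨(WittVector.frobeniusEquiv p k) w • m, ?_⟩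
    rw [map_smulₛₗ]
    have : ((WittVector.frobeniusEquiv p k).symm : WittVector p k →+* WittVector p k)
        ((WittVector.frobeniusEquiv p k) w) = w := (WittVector.frobeniusEquiv p k).symm_apply_apply w
    rw [this]
    rfl

theorem F_mem_J_smul (q : Ideal k) {w : M} (hw : w ∈ J p q • (⊤ : Submodule (WittVector p k) M)) :
    F w ∈ J p q • (⊤ : Submodule (WittVector p k) M) := by
  induction hw using Submodule.smul_induction_on' with
  | smul r hr n _ =>
    rw [map_smulₛₗ]
    exact Submodule.smul_mem_smul (frobenius_mem_J hr) Submodule.mem_top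
  | add x _ y _ ihx ihy =>
    rw [map_add]
    exact add_mem ihx ihy

theorem mk_V_mem (q' : Ideal (Wp p k)) (q : Ideal k) (hq : q.IsRadical)
    (hJ : J p q ≤ Ideal.comap (Ideal.Quotient.mk (Ideal.span {(p : WittVector p k)})) q')
    {w : M} (hw : w ∈ J p q • (⊤ : Submodule (WittVector p k) M)) :
    (pTop p k M).mkQ (V w) ∈ q' • imV p k V := by
  induction hw using Submodule.smul_induction_on' with
  | smul r hr n _ =>
    rw [map_smulₛₗ]
    have h1 : ((WittVector.frobeniusEquiv p k).symm : WittVector p k →+* WittVector p k) r ∈ J p q :=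
      frobeniusEquiv_symm_mem_J hq hr
    have h2 : (pTop p k M).mkQ
        (((WittVector.frobeniusEquiv p k).symm : WittVector p k →+* WittVector p k) r • V n) =
        Ideal.Quotient.mk (Ideal.span {(p : WittVector p k)})
          (((WittVector.frobeniusEquiv p k).symm : WittVector p k →+* WittVector p k) r) •
          (pTop p k M).mkQ (V n) := rfl
    rw [h2]
    exact Submodule.smul_mem_smul (hJ h1) (Submodule.subset_span ⟨n, rfl⟩)
  | add x _ y _ ihx ihy =>
    rw [map_add, map_add]
    exact add_mem ihx ihy

/-- The key inclusion `V̄N ⊓ 𝔮N ≤ 𝔮 V̄N`. -/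
theorem inf_smul_le
    (hFV : ∀ m : M, F (V m) = (p : WittVector p k) • m)
    (hVF : ∀ m : M, V (F m) = (p : WittVector p k) • m)
    (hstar : ∀ q : Ideal k, q.IsPrime → ∀ m : M,
      (p : WittVector p k) • m ∈ J p q • (⊤ : Submodule (WittVector p k) M) →
        m ∈ J p q • (⊤ : Submodule (WittVector p k) M) ⊔ pTop p k M)
    (q' : Ideal (Wp p k)) [q'.IsPrime] :
    imV p k V ⊓ q' • (⊤ : Submodule (Wp p k) (Nbar p k M)) ≤ q' • imV p k V := by
  rintro a ⟨haA, haq⟩
  obtain ⟨m, rfl⟩ := exists_eq_mk_V V a haA
  obtain ⟨q, hqp, hI⟩ := comap_mk_eq (p := p) (k := k) q'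
  have h1 := mem_smul_top_of_mk_mem q' (V m) haq
  rw [hI, Submodule.sup_smul] at h1
  obtain ⟨w, hw, z, hz, hwz⟩ := Submodule.mem_sup.1 h1
  obtain ⟨m', rfl⟩ := (mem_pTop_iff z).1 hz
  have hVp : ∀ y : M, V ((p : WittVector p k) • y) = (p : WittVector p k) • V y := by
    intro y
    rw [map_smulₛₗ, map_natCast]
  have h2 : V (m - F m') = w := by
    rw [map_sub, hVF, ← hwz]
    abel
  have h3 : (p : WittVector p k) • (m - F m') ∈ J p q • (⊤ : Submodule (WittVector p k) M) := by
    rw [← hFV, h2]
    exact F_mem_J_smul F q hw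
  obtain ⟨w', hw', z', hz', e⟩ := Submodule.mem_sup.1 (hstar q hqp _ h3)
  obtain ⟨m'', rfl⟩ := (mem_pTop_iff z').1 hz'
  have hm : m = F m' + (w' + (p : WittVector p k) • m'') := by
    rw [e]
    abel
  have hV : V m = V w' + (p : WittVector p k) • (m' + V m'') := by
    rw [hm, map_add, map_add, hVF, hVp, smul_add]
    abel
  have h4 : (pTop p k M).mkQ (V m) = (pTop p k M).mkQ (V w') := by
    rw [hV, map_add]
    have : (pTop p k M).mkQ ((p : WittVector p k) • (m' + V m'')) = 0 := by
      rw [Submodule.mkQ_apply, Submodule.Quotient.mk_eq_zero]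
      exact p_smul_mem_pTop _
    rw [this, add_zero]
  rw [h4]
  exact mk_V_mem V q' q hqp.isRadical (by rw [hI]; exact le_sup_left) hw'

theorem imV_fg [Module.Finite (WittVector p k) M] : (imV p k V).FG := by
  obtain ⟨S, hS⟩ := (Module.Finite.fg_top : (⊤ : Submodule (WittVector p k) M).FG)
  classical
  refine ⟨S.image (fun m => (pTop p k M).mkQ (V m)), ?_⟩
  apply le_antisymm
  · apply Submodule.span_mono
    intro x hx
    rw [Finset.coe_image] at hx
    obtain ⟨m, -, rfl⟩ := hx
    exact ⟨m, rfl⟩
  · rw [Submodule.span_le]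
    rintro _ ⟨m, rfl⟩
    have hm : m ∈ Submodule.span (WittVector p k) (S : Set M) := hS ▸ Submodule.mem_top
    rw [SetLike.mem_coe]
    induction hm using Submodule.span_induction with
    | mem x hx =>
      apply Submodule.subset_span
      rw [Finset.coe_image]
      exact ⟨x, hx, rfl⟩
    | zero => simp
    | add x y _ _ ihx ihy =>
      simp only [map_add]
      exact add_mem ihx ihy
    | smul c x _ ih =>
      change (pTop p k M).mkQ (V (c • x)) ∈ _
      have ih' : (pTop p k M).mkQ (V x) ∈ Submodule.span (Wp p k)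
          (↑(Finset.image (fun m => (pTop p k M).mkQ (V m)) S) : Set (Nbar p k M)) := ih
      rw [map_smulₛₗ]
      have h2 : (pTop p k M).mkQ
          (((WittVector.frobeniusEquiv p k).symm : WittVector p k →+* WittVector p k) c • V x) =
          Ideal.Quotient.mk (Ideal.span {(p : WittVector p k)})
            (((WittVector.frobeniusEquiv p k).symm : WittVector p k →+* WittVector p k) c) •
            (pTop p k M).mkQ (V x) := rfl
      rw [h2]
      exact Submodule.smul_mem _ _ ih'

end Core

section Reduced

theorem isReduced_of_perfect (p : ℕ) [Fact p.Prime] (k : Type u) [CommRing k] [CharP k p]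
    [PerfectRing k p] : IsReduced k := by
  constructor
  rintro y ⟨n, hn⟩
  have h1 : y ^ p ^ n = 0 :=
    pow_eq_zero_of_le (Nat.lt_pow_self (Fact.out : p.Prime).one_lt).le hn
  apply (bijective_iterateFrobenius k p n).injective
  rw [iterateFrobenius_def, h1, map_zero]

instance isReduced_Wp : IsReduced (Wp p k) := by
  have := isReduced_of_perfect p k
  constructor
  intro x hx
  obtain ⟨w, rfl⟩ := Ideal.Quotient.mk_surjective x
  obtain ⟨n, hn⟩ := hx
  rw [← map_pow, Ideal.Quotient.eq_zero_iff_mem, ← ker_constantCoeff, RingHom.mem_ker, map_pow] at hn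
  have h0 : (WittVector.constantCoeff : WittVector p k →+* k) w = 0 := IsReduced.eq_zero _ ⟨n, hn⟩
  rw [Ideal.Quotient.eq_zero_iff_mem, ← ker_constantCoeff, RingHom.mem_ker]
  exact h0

end Reduced

section Abstract

variable {M : Type v} [AddCommGroup M] [Module (WittVector p k) M]
variable {Q : Type*} [CommRing Q] [Algebra (WittVector p k) Q] [Module Q M]
  [IsScalarTower (WittVector p k) Q M] [Module.Finite Q M] [Module.Projective Q M]

theorem finite_of_surjective (hsurj : Function.Surjective (algebraMap (WittVector p k) Q)) :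
    Module.Finite (WittVector p k) M := by
  have : Module.Finite (WittVector p k) Q :=
    Module.Finite.of_surjective (Algebra.linearMap (WittVector p k) Q) hsurj
  exact Module.Finite.trans Q M

theorem finite_Nbar (hsurj : Function.Surjective (algebraMap (WittVector p k) Q)) :
    Module.Finite (Wp p k) (Nbar p k M) := by
  have := finite_of_surjective (M := M) hsurj
  exact Module.Finite.of_restrictScalars_finite (WittVector p k) (Wp p k) (Nbar p k M)

theorem projective_Nbar (hsurj : Function.Surjective (algebraMap (WittVector p k) Q))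
    (red : Q →+* Wp p k)
    (hred : ∀ w, red (algebraMap (WittVector p k) Q w) = Ideal.Quotient.mk _ w) :
    Module.Projective (Wp p k) (Nbar p k M) := by
  obtain ⟨r, f, g, -, -, hfg⟩ := Module.Finite.exists_comp_eq_id_of_projective Q M
  have hgW : ∀ (w : WittVector p k) (m : M), g (w • m) = algebraMap (WittVector p k) Q w • g m := by
    intro w m
    rw [← map_smul, algebraMap_smul]
  let i₀ : M →ₗ[WittVector p k] (Fin r → Wp p k) :=
    { toFun := fun m j => red (g m j)
      map_add' := fun x y => by
        funext j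
        simp only [map_add, Pi.add_apply]
      map_smul' := fun w m => by
        funext j
        simp only [hgW, Pi.smul_apply, smul_eq_mul, map_mul, hred, RingHom.id_apply]
        rfl }
  have hi₀ : pTop p k M ≤ LinearMap.ker i₀ := by
    intro x hx
    obtain ⟨y, rfl⟩ := (mem_pTop_iff x).1 hx
    rw [LinearMap.mem_ker, map_smul]
    funext j
    change Ideal.Quotient.mk (Ideal.span {(p : WittVector p k)}) (p : WittVector p k) * _ = 0
    rw [Ideal.Quotient.eq_zero_iff_mem.2 (Ideal.mem_span_singleton_self _), zero_mul]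
  let i : Nbar p k M →ₗ[Wp p k] (Fin r → Wp p k) :=
    { toFun := (pTop p k M).liftQ i₀ hi₀
      map_add' := fun x y => map_add _ x y
      map_smul' := fun c x => by
        obtain ⟨w, rfl⟩ := Ideal.Quotient.mk_surjective c
        obtain ⟨m, rfl⟩ := (pTop p k M).mkQ_surjective x
        have h1 : Ideal.Quotient.mk (Ideal.span {(p : WittVector p k)}) w • (pTop p k M).mkQ m =
            (pTop p k M).mkQ (w • m) := rfl
        rw [h1]
        simp only [Submodule.mkQ_apply, Submodule.liftQ_apply, map_smul, RingHom.id_apply]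
        rfl }
  let s : (Fin r → Wp p k) →ₗ[Wp p k] Nbar p k M :=
    Fintype.linearCombination (Wp p k) (fun j => (pTop p k M).mkQ (f (Pi.single j 1)))
  have hsm : ∀ (y : Q) (x : M), red y • (pTop p k M).mkQ x = (pTop p k M).mkQ (y • x) := by
    intro y x
    obtain ⟨w, rfl⟩ := hsurj y
    rw [hred, algebraMap_smul]
    rfl
  have hsi : s ∘ₗ i = LinearMap.id := by
    apply LinearMap.ext
    intro x
    obtain ⟨m, rfl⟩ := (pTop p k M).mkQ_surjective x
    have h1 : i ((pTop p k M).mkQ m) = fun j => red (g m j) := rfl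
    rw [LinearMap.comp_apply, h1, LinearMap.id_apply, Fintype.linearCombination_apply]
    simp only [hsm]
    rw [← map_sum]
    congr 1
    have hm : m = f (g m) := by
      have := congrArg (fun φ => φ m) hfg
      simpa using this.symm
    have hgm : g m = ∑ j, g m j • (Pi.single j (1 : Q) : Fin r → Q) := by
      funext j
      simp [Finset.sum_apply, Pi.single_apply]
    conv_rhs => rw [hm, hgm, map_sum]
    simp only [map_smul]
  exact Module.Projective.of_split i s hsi

theorem hstar_of_retract (hsurj : Function.Surjective (algebraMap (WittVector p k) Q))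
    (hQ : ∀ q : Ideal k, q.IsPrime → ∀ x : WittVector p k, ∀ j ∈ J p q,
      algebraMap (WittVector p k) Q ((p : WittVector p k) * x) = algebraMap (WittVector p k) Q j →
        x ∈ J p q ⊔ Ideal.span {(p : WittVector p k)})
    (q : Ideal k) (hq : q.IsPrime) (m : M)
    (h : (p : WittVector p k) • m ∈ J p q • (⊤ : Submodule (WittVector p k) M)) :
    m ∈ J p q • (⊤ : Submodule (WittVector p k) M) ⊔ pTop p k M := by
  obtain ⟨r, f, g, -, -, hfg⟩ := Module.Finite.exists_comp_eq_id_of_projective Q M
  have hgW : ∀ (w : WittVector p k) (m : M), g (w • m) = algebraMap (WittVector p k) Q w • g m := by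
    intro w m
    rw [← map_smul, algebraMap_smul]
  have hcoord : ∀ x ∈ J p q • (⊤ : Submodule (WittVector p k) M), ∀ i,
      ∃ j ∈ J p q, g x i = algebraMap (WittVector p k) Q j := by
    intro x hx
    induction hx using Submodule.smul_induction_on' with
    | smul a ha n _ =>
      intro i
      obtain ⟨y, hy⟩ := hsurj (g n i)
      refine ⟨a * y, Ideal.mul_mem_right _ _ ha, ?_⟩
      rw [hgW, Pi.smul_apply, smul_eq_mul, ← hy, map_mul]
    | add x _ y _ ihx ihy =>
      intro i
      obtain ⟨j₁, hj₁, e₁⟩ := ihx i
      obtain ⟨j₂, hj₂, e₂⟩ := ihy i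
      exact ⟨j₁ + j₂, add_mem hj₁ hj₂, by rw [map_add, Pi.add_apply, e₁, e₂, map_add]⟩
  have hx : ∀ i, ∃ x ∈ J p q ⊔ Ideal.span {(p : WittVector p k)},
      g m i = algebraMap (WittVector p k) Q x := by
    intro i
    obtain ⟨x, hx⟩ := hsurj (g m i)
    obtain ⟨j, hj, e⟩ := hcoord _ h i
    refine ⟨x, hQ q hq x j hj ?_, hx.symm⟩
    rw [← e, hgW, Pi.smul_apply, smul_eq_mul, ← hx, map_mul]
  choose x hxmem hxe using hx
  have hm : m = f (g m) := by
    have := congrArg (fun φ => φ m) hfg
    simpa using this.symm
  have hgm : g m = ∑ j, g m j • (Pi.single j (1 : Q) : Fin r → Q) := by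
    funext j
    simp [Finset.sum_apply, Pi.single_apply]
  rw [hm, hgm, map_sum]
  refine Submodule.sum_mem _ fun i _ => ?_
  rw [map_smul, hxe i, algebraMap_smul]
  obtain ⟨j', hj', z, hz, e⟩ := Submodule.mem_sup.1 (hxmem i)
  rw [← e, add_smul]
  exact Submodule.add_mem_sup (Submodule.smul_mem_smul hj' Submodule.mem_top)
    (Submodule.smul_mem_smul hz Submodule.mem_top)

variable (F : M →ₛₗ[(WittVector.frobenius : WittVector p k →+* WittVector p k)] M)
  (V : M →ₛₗ[((WittVector.frobeniusEquiv p k).symm : WittVector p k →+* WittVector p k)] M)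

/-- The abstract main theorem: `M/VM` is projective over `W/p`. -/
theorem projective_quotient_imV
    (hsurj : Function.Surjective (algebraMap (WittVector p k) Q))
    (red : Q →+* Wp p k)
    (hred : ∀ w, red (algebraMap (WittVector p k) Q w) = Ideal.Quotient.mk _ w)
    (hQ : ∀ q : Ideal k, q.IsPrime → ∀ x : WittVector p k, ∀ j ∈ J p q,
      algebraMap (WittVector p k) Q ((p : WittVector p k) * x) = algebraMap (WittVector p k) Q j →
        x ∈ J p q ⊔ Ideal.span {(p : WittVector p k)})
    (hFV : ∀ m : M, F (V m) = (p : WittVector p k) • m)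
    (hVF : ∀ m : M, V (F m) = (p : WittVector p k) • m) :
    Module.Projective (Wp p k) (Nbar p k M ⧸ imV p k V) := by
  have h1 := finite_of_surjective (M := M) hsurj
  have h2 := finite_Nbar (M := M) hsurj
  have h3 := projective_Nbar (M := M) hsurj red hred
  exact Groth.Agent.Lib.Helper8FibInj.projective_quotient_of_inf_smul_le (imV p k V) (imV_fg V)
    (fun q' _ => inf_smul_le F V hFV hVF (hstar_of_retract hsurj hQ) q')

end Abstract

section Instances

variable {M : Type v} [AddCommGroup M] [Module (WittVector p k) M]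
variable (F : M →ₛₗ[(WittVector.frobenius : WittVector p k →+* WittVector p k)] M)
  (V : M →ₛₗ[((WittVector.frobeniusEquiv p k).symm : WittVector p k →+* WittVector p k)] M)

/-- Projective Dieudonné modules over `W(k)`: `M/VM` is projective over `W/p`. -/
theorem projective_quotient_imV_of_W [Module.Finite (WittVector p k) M]
    [Module.Projective (WittVector p k) M]
    (hFV : ∀ m : M, F (V m) = (p : WittVector p k) • m)
    (hVF : ∀ m : M, V (F m) = (p : WittVector p k) • m) :
    Module.Projective (Wp p k) (Nbar p k M ⧸ imV p k V) := by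
  refine projective_quotient_imV (Q := WittVector p k) F V Function.surjective_id
    (Ideal.Quotient.mk _) (fun w => rfl) ?_ hFV hVF
  intro q hq x j hj e
  rw [Algebra.algebraMap_self, RingHom.id_apply, RingHom.id_apply] at e
  apply Submodule.mem_sup_left
  apply mem_J_of_p_mul_mem hq.isRadical
  rw [e]
  exact hj

/-- Truncated Dieudonné modules of level `n ≥ 2`: `M/VM` is projective over `W/p`. -/
theorem projective_quotient_imV_of_Wn (n : ℕ) (hn : 2 ≤ n)
    [Module (WittVector p k ⧸ Ideal.span {(p : WittVector p k) ^ n}) M]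
    [IsScalarTower (WittVector p k) (WittVector p k ⧸ Ideal.span {(p : WittVector p k) ^ n}) M]
    [Module.Finite (WittVector p k ⧸ Ideal.span {(p : WittVector p k) ^ n}) M]
    [Module.Projective (WittVector p k ⧸ Ideal.span {(p : WittVector p k) ^ n}) M]
    (hFV : ∀ m : M, F (V m) = (p : WittVector p k) • m)
    (hVF : ∀ m : M, V (F m) = (p : WittVector p k) • m) :
    Module.Projective (Wp p k) (Nbar p k M ⧸ imV p k V) := by
  have hle : Ideal.span {(p : WittVector p k) ^ n} ≤ Ideal.span {(p : WittVector p k)} := by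
    rw [Ideal.span_singleton_le_iff_mem]
    exact Ideal.pow_mem_of_mem _ (Ideal.mem_span_singleton_self _) n (by omega)
  refine projective_quotient_imV (Q := WittVector p k ⧸ Ideal.span {(p : WittVector p k) ^ n}) F V
    ?_ (Ideal.Quotient.factor hle) (fun w => ?_) ?_ hFV hVF
  · rw [Ideal.Quotient.algebraMap_eq]
    exact Ideal.Quotient.mk_surjective
  · rw [Ideal.Quotient.algebraMap_eq, Ideal.Quotient.factor_mk]
  · intro q hq x j hj e
    rw [Ideal.Quotient.algebraMap_eq, Ideal.Quotient.eq, Ideal.mem_span_singleton'] at e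
    obtain ⟨c, hc⟩ := e
    have h1 : (p : WittVector p k) * (x - c * (p : WittVector p k) ^ (n - 1)) = j := by
      have h3 : (p : WittVector p k) ^ n = (p : WittVector p k) * (p : WittVector p k) ^ (n - 1) := by
        rw [← pow_succ']
        congr 1
        omega
      rw [h3] at hc
      linear_combination (-1 : WittVector p k) * hc
    have h2 : x - c * (p : WittVector p k) ^ (n - 1) ∈ J p q := by
      apply mem_J_of_p_mul_mem hq.isRadical
      rw [h1]
      exact hj
    have h4 : c * (p : WittVector p k) ^ (n - 1) ∈ Ideal.span {(p : WittVector p k)} :=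
      Ideal.mul_mem_left _ _
        (Ideal.pow_mem_of_mem _ (Ideal.mem_span_singleton_self _) (n - 1) (by omega))
    have h5 : x = (x - c * (p : WittVector p k) ^ (n - 1)) + c * (p : WittVector p k) ^ (n - 1) := by
      ring
    rw [h5]
    exact Submodule.add_mem_sup h2 h4

theorem eq_zero_of_p_smul_eq_zero [Module.Finite (WittVector p k) M]
    [Module.Projective (WittVector p k) M] (x : M) (h : (p : WittVector p k) • x = 0) : x = 0 := by
  obtain ⟨r, f, g, -, -, hfg⟩ :=
    Module.Finite.exists_comp_eq_id_of_projective (WittVector p k) M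
  have h1 : g x = 0 := by
    funext i
    have h2 := congrFun (congrArg g h) i
    rw [map_smul, map_zero, Pi.smul_apply, Pi.zero_apply, smul_eq_mul] at h2
    exact Groth.Agent.Lib.Helper24Dieu.p_mul_eq_zero _ h2
  have hx : x = f (g x) := by
    have := congrArg (fun φ => φ x) hfg
    simpa using this.symm
  rw [hx, h1, map_zero]

/-- Projective Dieudonné modules over `W(k)`: `Ker F = Im V` and `Ker V = Im F` modulo `p`. -/
theorem ker_im_of_W [Module.Finite (WittVector p k) M] [Module.Projective (WittVector p k) M]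
    (hFV : ∀ m : M, F (V m) = (p : WittVector p k) • m)
    (hVF : ∀ m : M, V (F m) = (p : WittVector p k) • m) :
    (pTop p k M).comap F = Submodule.span (WittVector p k) (Set.range V) ⊔ pTop p k M ∧
      (pTop p k M).comap V = Submodule.span (WittVector p k) (Set.range F) ⊔ pTop p k M := by
  have hFp : ∀ y : M, F ((p : WittVector p k) • y) = (p : WittVector p k) • F y := by
    intro y
    rw [map_smulₛₗ, map_natCast]
  have hVp : ∀ y : M, V ((p : WittVector p k) • y) = (p : WittVector p k) • V y := by
    intro y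
    rw [map_smulₛₗ, map_natCast]
  constructor
  · apply le_antisymm
    · intro x hx
      rw [Submodule.mem_comap, mem_pTop_iff] at hx
      obtain ⟨y, hy⟩ := hx
      have h1 : (p : WittVector p k) • (x - V y) = 0 := by
        rw [smul_sub, ← hVF x, hy, hVp, sub_self]
      have h2 := eq_zero_of_p_smul_eq_zero _ h1
      have h3 : x = V y := sub_eq_zero.1 h2
      rw [h3]
      exact Submodule.mem_sup_left (Submodule.subset_span ⟨y, rfl⟩)
    · apply sup_le
      · rw [Submodule.span_le]
        rintro _ ⟨y, rfl⟩
        rw [SetLike.mem_coe, Submodule.mem_comap, hFV]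
        exact p_smul_mem_pTop _
      · intro x hx
        rw [mem_pTop_iff] at hx
        obtain ⟨y, rfl⟩ := hx
        rw [Submodule.mem_comap, hFp]
        exact p_smul_mem_pTop _
  · apply le_antisymm
    · intro x hx
      rw [Submodule.mem_comap, mem_pTop_iff] at hx
      obtain ⟨y, hy⟩ := hx
      have h1 : (p : WittVector p k) • (x - F y) = 0 := by
        rw [smul_sub, ← hFV x, hy, hFp, sub_self]
      have h2 := eq_zero_of_p_smul_eq_zero _ h1
      have h3 : x = F y := sub_eq_zero.1 h2
      rw [h3]
      exact Submodule.mem_sup_left (Submodule.subset_span ⟨y, rfl⟩)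
    · apply sup_le
      · rw [Submodule.span_le]
        rintro _ ⟨y, rfl⟩
        rw [SetLike.mem_coe, Submodule.mem_comap, hVF]
        exact p_smul_mem_pTop _
      · intro x hx
        rw [mem_pTop_iff] at hx
        obtain ⟨y, rfl⟩ := hx
        rw [Submodule.mem_comap, hVp]
        exact p_smul_mem_pTop _

end Instances

end Groth.Agent.Lib.Helper8Dieu
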