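import Mathlib

/-!
# Algebra for one-dimensional Noetherian local rings (helper8)

`(B, m)` a Noetherian local ring, `b ∈ m` with `V(b) = {m}`, `K = B_b`.

* `exists_pow_eq_algebraMap` : an element `g ∈ K` which is congruent to an element of `m` modulo every prime
  of `K` has a positive power in the image of `m`.
* `exists_pow_mul_sub_eq_zero` : the version inside `B`.
* `exists_forall_pow_mul_eq` : for a ring map `ρ : B → κ` to a field (`dim B ≤ 1`), `β ∈ m`:
  `ρ β ^ n * (ρ c / ρ d)` lies in `ρ(m)` for all large `n`.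
-/

set_option autoImplicit false
open IsLocalRing

namespace Groth.Agent.Lib.Helper8Dim1AlgA

variable {B : Type*} [CommRing B] [IsNoetherianRing B] [IsLocalRing B]

theorem exists_pow_le_span (b : B)
    (hb : ∀ p : Ideal B, p.IsPrime → b ∈ p → p = maximalIdeal B) (k : ℕ) :
    ∃ t : ℕ, maximalIdeal B ^ t ≤ Ideal.span {b ^ (k + 1)} := by
  apply Ideal.exists_pow_le_of_le_radical_of_fg
  · rw [Ideal.radical_eq_sInf]
    apply le_sInf
    rintro p ⟨hle, hp⟩
    have h1 : b ∈ p := hp.mem_of_pow_mem (k + 1) (hle (Ideal.mem_span_singleton_self _))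
    rw [hb p hp h1]
  · exact IsNoetherian.noetherian _

theorem exists_pow_eq_algebraMap {K : Type*} [CommRing K] [Algebra B K] (b : B)
    [IsLocalization.Away b K] (hbm : b ∈ maximalIdeal B)
    (hb : ∀ p : Ideal B, p.IsPrime → b ∈ p → p = maximalIdeal B) (g : K)
    (hg : ∀ q : Ideal K, q.IsPrime → ∃ β ∈ maximalIdeal B, g - algebraMap B K β ∈ q) :
    ∃ n : ℕ, 0 < n ∧ ∃ β ∈ maximalIdeal B, g ^ n = algebraMap B K β := by
  classical
  haveI : IsNoetherianRing K :=
    IsLocalization.isNoetherianRing (Submonoid.powers b) K inferInstance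
  have hfin := minimalPrimes.finite_of_isNoetherianRing K
  have hch : ∀ q : Ideal K, ∃ β ∈ maximalIdeal B,
      q ∈ minimalPrimes K → g - algebraMap B K β ∈ q := by
    intro q
    by_cases hq : q ∈ minimalPrimes K
    · obtain ⟨β, hβ, h⟩ := hg q hq.1.1
      exact ⟨β, hβ, fun _ => h⟩
    · exact ⟨0, zero_mem _, fun h => absurd h hq⟩
  choose β hβ hβq using hch
  set s := hfin.toFinset with hs
  have hnil : IsNilpotent (∏ q ∈ s, (g - algebraMap B K (β q))) := by
    rw [← mem_nilradical, nilradical_eq_sInf, Ideal.mem_sInf]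
    intro J hJ
    haveI : J.IsPrime := hJ
    obtain ⟨q, hq, hqJ⟩ := Ideal.exists_minimalPrimes_le (I := ⊥) (J := J) bot_le
    have hqs : q ∈ s := by rw [hs, Set.Finite.mem_toFinset]; exact hq
    exact Ideal.mem_of_dvd _ (Finset.dvd_prod_of_mem _ hqs) (hqJ (hβq q hq))
  obtain ⟨e, he⟩ := hnil
  -- integrality
  have hint : IsIntegral B g := by
    refine ⟨(∏ q ∈ s, (Polynomial.X - Polynomial.C (β q))) ^ e, ?_, ?_⟩
    · exact (Polynomial.monic_prod_of_monic _ _ fun q _ => Polynomial.monic_X_sub_C _).pow e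
    · rw [Polynomial.eval₂_pow, Polynomial.eval₂_finsetProd]
      simpa [Polynomial.eval₂_sub] using he
  set C := Algebra.adjoin B {g} with hC
  have hfgC : C.toSubmodule.FG := hint.fg_adjoin_singleton
  let gh : C := ⟨g, Algebra.self_mem_adjoin_singleton B g⟩
  set J : Ideal C := Ideal.map (algebraMap B C) (maximalIdeal B) with hJ
  have hghJ : gh ^ (s.card * e) ∈ J := by
    have h0 : (∏ q ∈ s, (gh - algebraMap B C (β q))) ^ e = 0 := by
      apply Subtype.ext
      rw [SubmonoidClass.coe_pow, SubmonoidClass.coe_finsetProd]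
      simpa using he
    have h1 := congrArg (Ideal.Quotient.mk J) h0
    rw [map_pow, map_prod, map_zero] at h1
    have h2 : ∀ q ∈ s, Ideal.Quotient.mk J (gh - algebraMap B C (β q)) = Ideal.Quotient.mk J gh := by
      intro q _
      rw [map_sub, Ideal.Quotient.eq_zero_iff_mem.2 (Ideal.mem_map_of_mem _ (hβ q)), sub_zero]
    rw [Finset.prod_congr rfl h2, Finset.prod_const, ← pow_mul, ← map_pow] at h1
    exact Ideal.Quotient.eq_zero_iff_mem.1 h1
  -- a common denominator for `C`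
  have hden : ∃ k : ℕ, ∀ c ∈ C, ∃ β' : B, algebraMap B K β' = algebraMap B K (b ^ k) * c := by
    obtain ⟨T, hT⟩ := hfgC
    have hloc : ∀ t : K, ∃ (k : ℕ) (β' : B), algebraMap B K β' = algebraMap B K (b ^ k) * t := by
      intro t
      obtain ⟨⟨x, ⟨_, k, rfl⟩⟩, hx⟩ := IsLocalization.surj (Submonoid.powers b) t
      exact ⟨k, x, by rw [← hx, mul_comm]⟩
    choose kt βt hkt using hloc
    refine ⟨T.sup kt, ?_⟩
    have hle : C.toSubmodule ≤ (LinearMap.range (Algebra.linearMap B K)).comap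
        (LinearMap.lsmul B K (b ^ T.sup kt)) := by
      rw [← hT, Submodule.span_le]
      intro t ht
      have hk : kt t ≤ T.sup kt := Finset.le_sup ht
      refine ⟨b ^ (T.sup kt - kt t) * βt t, ?_⟩
      change algebraMap B K (b ^ (T.sup kt - kt t) * βt t) = (b ^ T.sup kt) • t
      rw [map_mul, hkt t, ← mul_assoc, ← map_mul, ← pow_add, Nat.sub_add_cancel hk,
        Algebra.smul_def]
    intro c hc
    obtain ⟨β', hβ'⟩ := hle hc
    refine ⟨β', ?_⟩
    change algebraMap B K β' = _ at hβ'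
    rw [hβ', LinearMap.lsmul_apply, Algebra.smul_def]
  obtain ⟨k, hk⟩ := hden
  obtain ⟨t, ht⟩ := exists_pow_le_span b hb k
  have h3 : gh ^ (s.card * e * t) ∈ Ideal.span {algebraMap B C (b ^ (k + 1))} := by
    have h4 : gh ^ (s.card * e * t) ∈ J ^ t := by
      rw [pow_mul]; exact Ideal.pow_mem_pow hghJ t
    rw [hJ, ← Ideal.map_pow] at h4
    have h5 := Ideal.map_mono (f := algebraMap B C) ht h4
    rwa [Ideal.map_span, Set.image_singleton] at h5
  obtain ⟨c, hc⟩ := Ideal.mem_span_singleton'.1 h3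
  obtain ⟨β', hβ'⟩ := hk (gh * c : C) (gh * c : C).2
  refine ⟨s.card * e * t + 1, Nat.succ_pos _, b * β', Ideal.mul_mem_right _ _ hbm, ?_⟩
  have hc' : (c : K) * algebraMap B K (b ^ (k + 1)) = g ^ (s.card * e * t) := by
    have := congrArg (Subtype.val) hc
    simpa using this
  rw [pow_succ, ← hc', map_mul, hβ', pow_succ, map_mul]
  change _ = algebraMap B K b * (algebraMap B K (b ^ k) * (g * (c : K)))
  ring

theorem exists_pow_mul_sub_eq_zero (b : B) (hbm : b ∈ maximalIdeal B)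
    (hb : ∀ p : Ideal B, p.IsPrime → b ∈ p → p = maximalIdeal B) (e : B) (j : ℕ)
    (h : ∀ p : Ideal B, p.IsPrime → b ∉ p → ∃ β ∈ maximalIdeal B, β * e - b ^ j ∈ p) :
    ∃ n : ℕ, 0 < n ∧ ∃ β ∈ maximalIdeal B, ∃ k : ℕ, b ^ k * (β * e ^ n - b ^ (j * n)) = 0 := by
  set K := Localization.Away b with hK
  have hbu : IsUnit (algebraMap B K b) := IsLocalization.Away.algebraMap_isUnit b
  have hbju : IsUnit (algebraMap B K (b ^ j)) := by rw [map_pow]; exact hbu.pow j
  obtain ⟨u, hu⟩ := hbju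
  set g₀ : K := algebraMap B K e * ↑u⁻¹ with hg₀
  have hg₀e : g₀ * algebraMap B K (b ^ j) = algebraMap B K e := by
    rw [hg₀, ← hu, mul_assoc, Units.inv_mul, mul_one]
  have hq : ∀ q : Ideal K, q.IsPrime → ∃ β ∈ maximalIdeal B, algebraMap B K β * g₀ - 1 ∈ q := by
    intro q hq
    have hbq : b ∉ q.comap (algebraMap B K) := by
      intro hbq
      exact hq.ne_top (Ideal.eq_top_of_isUnit_mem _ hbq hbu)
    obtain ⟨β, hβ, hβp⟩ := h _ (Ideal.comap_isPrime _ q) hbq
    refine ⟨β, hβ, ?_⟩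
    have h1 : algebraMap B K (β * e - b ^ j) ∈ q := hβp
    have h2 : algebraMap B K (β * e - b ^ j) =
        algebraMap B K (b ^ j) * (algebraMap B K β * g₀ - 1) := by
      rw [map_sub, map_mul, ← hg₀e]; ring
    rw [h2] at h1
    rcases hq.mem_or_mem h1 with h3 | h3
    · exact absurd (Ideal.eq_top_of_isUnit_mem _ h3 (hu ▸ u.isUnit)) hq.ne_top
    · exact h3
  have hg₀u : IsUnit g₀ := by
    by_contra hnu
    obtain ⟨q, hqmax, hgq⟩ := exists_max_ideal_of_mem_nonunits hnu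
    obtain ⟨β, -, hβq⟩ := hq q hqmax.isPrime
    have h1 : (1 : K) ∈ q := by
      have h2 : algebraMap B K β * g₀ ∈ q := Ideal.mul_mem_left _ _ hgq
      have := Ideal.sub_mem _ h2 hβq
      simpa using this
    exact hqmax.ne_top ((Ideal.eq_top_iff_one _).2 h1)
  obtain ⟨v, hv⟩ := hg₀u
  have hg : ∀ q : Ideal K, q.IsPrime →
      ∃ β ∈ maximalIdeal B, (↑v⁻¹ : K) - algebraMap B K β ∈ q := by
    intro q hqp
    obtain ⟨β, hβ, hβq⟩ := hq q hqp
    refine ⟨β, hβ, ?_⟩
    have h1 : (↑v⁻¹ : K) - algebraMap B K β = -(↑v⁻¹ : K) * (algebraMap B K β * g₀ - 1) := by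
      rw [← hv]
      have : (↑v⁻¹ : K) * (↑v : K) = 1 := Units.inv_mul v
      linear_combination (algebraMap B K β) * this
    rw [h1]
    exact Ideal.mul_mem_left _ _ hβq
  obtain ⟨n, hn, β, hβ, hgn⟩ := exists_pow_eq_algebraMap (K := K) b hbm hb _ hg
  refine ⟨n, hn, β, hβ, ?_⟩
  have h1 : algebraMap B K β * g₀ ^ n = 1 := by
    rw [← hgn, ← hv, ← mul_pow, Units.inv_mul, one_pow]
  have h2 : algebraMap B K (β * e ^ n - b ^ (j * n)) = 0 := by
    have e1 : algebraMap B K (e ^ n) = g₀ ^ n * algebraMap B K (b ^ (j * n)) := by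
      rw [map_pow, ← hg₀e, mul_pow, ← map_pow, ← pow_mul]
    rw [map_sub, map_mul, e1, ← mul_assoc, h1, one_mul, sub_self]
  obtain ⟨⟨_, k, rfl⟩, hk⟩ := (IsLocalization.map_eq_zero_iff (Submonoid.powers b) K _).1 h2
  exact ⟨k, hk⟩

theorem mem_minimalPrimes_of_ne_maximal (hA : ringKrullDim B ≤ 1) (p : Ideal B) [p.IsPrime]
    (hpm : p ≠ maximalIdeal B) : p ∈ minimalPrimes B := by
  have hm : (maximalIdeal B).height ≤ 1 := by
    have h1 := IsLocalRing.maximalIdeal_height_eq_ringKrullDim (R := B)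
    rw [← h1] at hA
    exact_mod_cast hA
  have hlt : p < maximalIdeal B :=
    lt_of_le_of_ne (IsLocalRing.le_maximalIdeal (Ideal.IsPrime.ne_top inferInstance)) hpm
  have h1 := (Ideal.height_add_one_le_of_lt_of_isPrime hlt).trans hm
  rw [← Ideal.height_eq_zero_iff]
  by_contra h0
  have h2 : 1 ≤ p.height := Order.one_le_iff_pos.mpr (pos_iff_ne_zero.mpr h0)
  have h3 : (1 : ℕ∞) + 1 ≤ 1 := (add_le_add h2 le_rfl).trans h1
  exact absurd h3 (by decide)

theorem exists_forall_pow_mul_eq {κ : Type*} [Field κ] (hdim : ringKrullDim B ≤ 1) (ρ : B →+* κ)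
    (β : B) (hβ : β ∈ maximalIdeal B) (c d : B) (hd : ρ d ≠ 0) :
    ∃ n₀ : ℕ, ∀ n, n₀ ≤ n → ∃ β' ∈ maximalIdeal B, ρ β' = ρ β ^ n * (ρ c / ρ d) := by
  have hle : maximalIdeal B ≤ (RingHom.ker ρ ⊔ Ideal.span {d}).radical := by
    rw [Ideal.radical_eq_sInf]
    apply le_sInf
    rintro q ⟨hle, hq⟩
    haveI := hq
    by_contra hqm
    have hqM : q ≠ maximalIdeal B := fun h => hqm (h ▸ le_rfl)
    have hmin := mem_minimalPrimes_of_ne_maximal hdim q hqM
    have hpq : RingHom.ker ρ ≤ q := le_sup_left.trans hle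
    have hqp : q ≤ RingHom.ker ρ := hmin.2 ⟨RingHom.ker_isPrime ρ, bot_le⟩ hpq
    have hdq : d ∈ q := hle (Ideal.mem_sup_right (Ideal.mem_span_singleton_self d))
    exact hd ((RingHom.mem_ker).1 (hqp hdq))
  obtain ⟨k, hk⟩ := Ideal.exists_pow_le_of_le_radical_of_fg hle (IsNoetherian.noetherian _)
  have hβk : β ^ k ∈ RingHom.ker ρ ⊔ Ideal.span {d} := hk (Ideal.pow_mem_pow hβ k)
  obtain ⟨π, hπ, y, hy, hsum⟩ := Submodule.mem_sup.1 hβk
  obtain ⟨c', rfl⟩ := Ideal.mem_span_singleton'.1 hy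
  have h1 : ρ β ^ k = ρ c' * ρ d := by
    rw [← map_pow, ← hsum, map_add, (RingHom.mem_ker).1 hπ, zero_add, map_mul]
  refine ⟨k + 1, fun n hn => ⟨β ^ (n - k) * c' * c, ?_, ?_⟩⟩
  · have h2 : β ^ (n - k) ∈ maximalIdeal B :=
      Ideal.pow_mem_of_mem _ hβ _ (by omega)
    exact Ideal.mul_mem_right _ _ (Ideal.mul_mem_right _ _ h2)
  · have h3 : ρ β ^ n = ρ β ^ (n - k) * ρ β ^ k := by
      rw [← pow_add]; congr 1; omega
    rw [map_mul, map_mul, map_pow, h3, h1]
    field_simp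

end Groth.Agent.Lib.Helper8Dim1AlgA
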