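import Mathlib

/-!
# The image of a one-dimensional local ring in a field (helper8)

For `ρ : R →+* K` with `R` local of dimension `≤ 1`, `K` a field and `ker ρ ≠ m`: the range of `ρ` is a local ring of
dimension one; it has fraction field `K` when every element of `K` is a fraction of values of `ρ`.
-/

set_option autoImplicit false
open IsLocalRing

namespace Groth.Agent.Lib.Helper8Dim1AlgB

variable {R K : Type*} [CommRing R] [Field K] (ρ : R →+* K)

/-- every element of `K` is a fraction of values of `ρ` -/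
def HasFrac : Prop := ∀ y : K, ∃ c d : R, ρ d ≠ 0 ∧ y * ρ d = ρ c

theorem isFractionRing_range (h : HasFrac ρ) : IsFractionRing ρ.range K := by
  apply IsFractionRing.of_field
  intro y
  obtain ⟨c, d, hd, hy⟩ := h y
  refine ⟨⟨ρ c, c, rfl⟩, ⟨ρ d, d, rfl⟩, ?_⟩
  change y = ρ c / ρ d
  rw [← hy, mul_div_cancel_right₀ _ hd]

variable [IsLocalRing R]

theorem isLocalRing_range : IsLocalRing ρ.range :=
  IsLocalRing.of_surjective' ρ.rangeRestrict ρ.rangeRestrict_surjective

theorem ker_le : RingHom.ker ρ ≤ maximalIdeal R :=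
  IsLocalRing.le_maximalIdeal (RingHom.ker_ne_top ρ)

theorem not_isField_range (hker : RingHom.ker ρ ≠ maximalIdeal R) : ¬ IsField ρ.range := by
  intro hF
  obtain ⟨m, hm, hmk⟩ := SetLike.exists_of_lt (lt_of_le_of_ne (ker_le ρ) hker)
  have hm0 : (⟨ρ m, m, rfl⟩ : ρ.range) ≠ 0 := by
    intro h0
    exact hmk ((RingHom.mem_ker).2 (congrArg Subtype.val h0))
  obtain ⟨⟨_, r', rfl⟩, hr'⟩ := hF.mul_inv_cancel hm0
  have h1 : ρ (m * r' - 1) = 0 := by
    rw [map_sub, map_mul, map_one]
    have := congrArg Subtype.val hr'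
    exact sub_eq_zero.2 this
  have h2 : m * r' - 1 ∈ maximalIdeal R := ker_le ρ ((RingHom.mem_ker).2 h1)
  have h3 : (1 : R) ∈ maximalIdeal R := by
    have := Ideal.sub_mem _ (Ideal.mul_mem_right r' _ hm) h2
    simpa using this
  exact (Ideal.ne_top_iff_one _).1 (IsLocalRing.maximalIdeal.isMaximal R).ne_top h3

theorem one_le_of_not_le_zero (x : WithBot ℕ∞) (h0 : 0 ≤ x) (h : ¬ x ≤ 0) : 1 ≤ x := by
  induction x with
  | bot => exact absurd h0 (by simp)
  | coe n =>
    rw [← WithBot.coe_one, WithBot.coe_le_coe]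
    rw [← WithBot.coe_zero, WithBot.coe_le_coe] at h
    exact Order.one_le_iff_pos.2 (pos_iff_ne_zero.2 fun h' => h (h' ▸ le_rfl))

theorem ringKrullDim_range_eq_one (hdim : ringKrullDim R ≤ 1)
    (hker : RingHom.ker ρ ≠ maximalIdeal R) : ringKrullDim ρ.range = 1 := by
  apply le_antisymm
  · exact (ringKrullDim_le_of_surjective ρ.rangeRestrict ρ.rangeRestrict_surjective).trans hdim
  · apply one_le_of_not_le_zero _ ringKrullDim_nonneg_of_nontrivial
    intro h0
    haveI : Ring.KrullDimLE 0 ρ.range := (Ring.krullDimLE_iff).2 h0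
    exact not_isField_range ρ hker Ring.KrullDimLE.isField_of_isDomain

theorem mem_maximalIdeal_of_mem_jacobson (β : R)
    (hj : (⟨ρ β, β, rfl⟩ : ρ.range) ∈ (⊥ : Ideal ρ.range).jacobson) : β ∈ maximalIdeal R := by
  rw [mem_maximalIdeal, mem_nonunits_iff]
  intro hu
  have h1 : IsUnit (ρ.rangeRestrict β) := hu.map _
  have h2 : (⊥ : Ideal ρ.range).jacobson = ⊤ := Ideal.eq_top_of_isUnit_mem _ hj h1
  rw [Ideal.jacobson_eq_top_iff] at h2
  exact bot_ne_top h2

end Groth.Agent.Lib.Helper8Dim1AlgB
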