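import Mathlib

/-!
# Commutative algebra around a prime whose localization is Noetherian of dimension ≤ 1 (helper4, round 2)

* `exists_mul_pow_mem` : if every prime `q ≤ p` containing `I` contains `a`, then `s * a ^ n ∈ I` for some `s ∉ p`.
* `prime_eq_or_minimal`, `exists_mem_maximalIdeal_forall_prime`, `finite_primeSpectrum` : a Noetherian local ring of
  dimension `≤ 1`.
* `exists_mem_forall_prime_le`, `finite_primes_le` : the same facts for the primes `q ≤ p` of `A` when `A_p` is such a ring.
-/

set_option autoImplicit false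

namespace Groth.Agent.Lib.R2H4DimOneAlg

section general

variable {A : Type*} [CommRing A]

/-- If every prime `q ≤ p` containing `I` contains `a`, then `s * a ^ n ∈ I` for some `s ∉ p`. -/
theorem exists_mul_pow_mem (p : Ideal A) [p.IsPrime] (I : Ideal A) (a : A)
    (h : ∀ q : Ideal A, q.IsPrime → q ≤ p → I ≤ q → a ∈ q) :
    ∃ s : A, s ∉ p ∧ ∃ n : ℕ, s * a ^ n ∈ I := by
  by_contra hcon
  push Not at hcon
  have hdisj : Disjoint (I : Set A) ((p.primeCompl ⊔ Submonoid.powers a : Submonoid A) : Set A) := by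
    rw [Set.disjoint_left]
    intro x hxI hxS
    obtain ⟨s, hs, z, ⟨n, rfl⟩, rfl⟩ := Submonoid.mem_sup.mp hxS
    exact hcon s hs n hxI
  obtain ⟨q, hq, hIq, hqS⟩ := Ideal.exists_le_prime_disjoint I _ hdisj
  have hqp : q ≤ p := by
    intro x hx
    by_contra hxp
    exact Set.disjoint_left.mp hqS hx
      ((le_sup_left : p.primeCompl ≤ p.primeCompl ⊔ Submonoid.powers a) hxp)
  have ha : a ∈ q := h q hq hqp hIq
  exact Set.disjoint_left.mp hqS ha
    ((le_sup_right : Submonoid.powers a ≤ p.primeCompl ⊔ Submonoid.powers a)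
      (Submonoid.mem_powers a))

end general

section loc

variable (R : Type*) [CommRing R] [IsLocalRing R]

theorem prime_eq_or_minimal (hd : ringKrullDim R ≤ 1) (P : Ideal R) (hP : P.IsPrime)
    (hne : P ≠ IsLocalRing.maximalIdeal R) : P ∈ minimalPrimes R := by
  have h1 : Ring.KrullDimLE 1 R := Ring.krullDimLE_iff.mpr (by exact_mod_cast hd)
  rcases Ring.krullDimLE_one_iff.mp h1 P hP with h | h
  · exact h
  · exact absurd (IsLocalRing.eq_maximalIdeal h) hne

variable [IsNoetherianRing R]

theorem exists_mem_maximalIdeal_forall_prime (hd : ringKrullDim R ≤ 1) :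
    ∃ f₀ ∈ IsLocalRing.maximalIdeal R, ∀ P : Ideal R, P.IsPrime → f₀ ∈ P →
      P = IsLocalRing.maximalIdeal R := by
  classical
  have hfin : (minimalPrimes R \ {IsLocalRing.maximalIdeal R}).Finite :=
    (minimalPrimes.finite_of_isNoetherianRing (R := R)).subset Set.sdiff_subset
  have hnot : ¬ ((IsLocalRing.maximalIdeal R : Set R) ⊆
      ⋃ q ∈ (hfin.toFinset : Set (Ideal R)), (q : Set R)) := by
    intro hsub
    have := (Ideal.subset_union_prime (s := hfin.toFinset) (f := fun q : Ideal R => q)
      (IsLocalRing.maximalIdeal R) (IsLocalRing.maximalIdeal R) (fun q hq _ _ => by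
        have : q ∈ minimalPrimes R := ((hfin.mem_toFinset).mp hq).1
        exact this.1.1)).mp hsub
    obtain ⟨q, hq, hmq⟩ := this
    have hq' := (hfin.mem_toFinset).mp hq
    have hqprime : q.IsPrime := hq'.1.1.1
    exact hq'.2 (le_antisymm (IsLocalRing.le_maximalIdeal hqprime.ne_top) hmq)
  obtain ⟨f₀, hf₀m, hf₀⟩ := Set.not_subset.mp hnot
  refine ⟨f₀, hf₀m, fun P hP hfP => ?_⟩
  by_contra hne
  have hmin := prime_eq_or_minimal R hd P hP hne
  apply hf₀
  simp only [Set.mem_iUnion]
  exact ⟨P, (hfin.mem_toFinset).mpr ⟨hmin, hne⟩, hfP⟩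

theorem finite_primeSpectrum (hd : ringKrullDim R ≤ 1) : Finite (PrimeSpectrum R) := by
  have hfin : (minimalPrimes R ∪ {IsLocalRing.maximalIdeal R}).Finite :=
    (minimalPrimes.finite_of_isNoetherianRing (R := R)).union (Set.finite_singleton _)
  have := hfin.to_subtype
  refine Finite.of_injective (fun P : PrimeSpectrum R =>
    (⟨P.asIdeal, ?_⟩ : ↥(minimalPrimes R ∪ {IsLocalRing.maximalIdeal R}))) ?_
  · by_cases h : P.asIdeal = IsLocalRing.maximalIdeal R
    · exact Or.inr h
    · exact Or.inl (prime_eq_or_minimal R hd P.asIdeal P.2 h)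
  · intro P Q h
    exact PrimeSpectrum.ext (congrArg Subtype.val h)

end loc

section atPrime

variable {A : Type*} [CommRing A] (p : Ideal A) [p.IsPrime] (R : Type*) [CommRing R] [Algebra A R]
  [IsLocalRing R] [IsLocalization.AtPrime R p] [IsNoetherianRing R]

include R in
theorem exists_mem_forall_prime_le (hd : ringKrullDim R ≤ 1) :
    ∃ f ∈ p, ∀ q : Ideal A, q.IsPrime → q ≤ p → f ∈ q → q = p := by
  obtain ⟨f₀, hf₀m, hf₀⟩ := exists_mem_maximalIdeal_forall_prime R hd
  obtain ⟨⟨f₁, s₁⟩, hfs⟩ := IsLocalization.mk'_surjective p.primeCompl f₀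
  have hspec : f₀ * algebraMap A R s₁ = algebraMap A R f₁ := by
    rw [← hfs]; exact IsLocalization.mk'_spec R f₁ s₁
  have hu : IsUnit (algebraMap A R s₁) := IsLocalization.map_units R s₁
  refine ⟨f₁, ?_, fun q hq hqp hfq => ?_⟩
  · rw [← IsLocalization.AtPrime.to_map_mem_maximal_iff R p, ← hspec]
    exact Ideal.mul_mem_right _ _ hf₀m
  · have hdisj : Disjoint (p.primeCompl : Set A) (q : Set A) := by
      rw [Set.disjoint_left]
      intro x hx hxq
      exact hx (hqp hxq)
    have hPprime : (Ideal.map (algebraMap A R) q).IsPrime :=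
      IsLocalization.isPrime_of_isPrime_disjoint p.primeCompl R q hq hdisj
    have hcomap : (Ideal.map (algebraMap A R) q).under A = q :=
      IsLocalization.under_map_of_isPrime_disjoint p.primeCompl R hq hdisj
    have hmem : f₀ ∈ Ideal.map (algebraMap A R) q := by
      have h1 : algebraMap A R f₁ ∈ Ideal.map (algebraMap A R) q := Ideal.mem_map_of_mem _ hfq
      rw [← hspec] at h1
      exact (Ideal.mul_unit_mem_iff_mem _ hu).mp h1
    have hPm := hf₀ _ hPprime hmem
    rw [← hcomap, hPm]
    exact IsLocalization.AtPrime.under_maximalIdeal R p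

include R in
theorem finite_primes_le (hd : ringKrullDim R ≤ 1) :
    {q : Ideal A | q.IsPrime ∧ q ≤ p}.Finite := by
  have := finite_primeSpectrum R hd
  rw [← Set.finite_coe_iff]
  refine Finite.of_injective (fun q : {q : Ideal A | q.IsPrime ∧ q ≤ p} =>
    (⟨Ideal.map (algebraMap A R) q.1, ?_⟩ : PrimeSpectrum R)) ?_
  · have hdisj : Disjoint (p.primeCompl : Set A) (q.1 : Set A) := by
      rw [Set.disjoint_left]
      intro x hx hxq
      exact hx (q.2.2 hxq)
    exact IsLocalization.isPrime_of_isPrime_disjoint p.primeCompl R q.1 q.2.1 hdisj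
  · intro q q' h
    have hdisj : ∀ q : {q : Ideal A | q.IsPrime ∧ q ≤ p},
        Disjoint (p.primeCompl : Set A) (q.1 : Set A) := by
      intro q
      rw [Set.disjoint_left]
      intro x hx hxq
      exact hx (q.2.2 hxq)
    have h1 := IsLocalization.under_map_of_isPrime_disjoint p.primeCompl R q.2.1 (hdisj q)
    have h2 := IsLocalization.under_map_of_isPrime_disjoint p.primeCompl R q'.2.1 (hdisj q')
    have h3 : Ideal.map (algebraMap A R) q.1 = Ideal.map (algebraMap A R) q'.1 :=
      congrArg PrimeSpectrum.asIdeal h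
    apply Subtype.ext
    rw [← h1, ← h2, h3]

end atPrime

end Groth.Agent.Lib.R2H4DimOneAlg
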