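import Mathlib
import Groth.Agent.Lib.R2H4DimOneAlg

/-!
# Points of an affine open and primes of its ring of sections (helper4, round 2)

* `pr hV y hy` : the prime of `Γ(X, V)` at `y ∈ V`; `mem_pr_iff`, `exists_pt`, `pr_le_iff`.
* `exists_finset_basicOpen` : a compact open inside an affine open is a finite union of basic opens.
* `isCompact_inf_of_quasiCompact`
* `exists_punctured_eq_basicOpen` : **Step A** – around an isolated point `x` of `X ∖ U` (`U` retrocompact) with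
  Noetherian local ring of dimension `≤ 1` there are an affine open `V ∋ x` and `f ∈ Γ(X, V)` with `V ∩ U = D(f)`.
* `exists_nhd_inf_le` : **spreading** – an open containing all proper generizations of `x` contains `V' ∩ U` for a
  smaller affine neighbourhood `V'`.
* `finite_generizations`
-/

set_option autoImplicit false
set_option linter.style.haveILetI false
universe u
open CategoryTheory AlgebraicGeometry TopologicalSpace Opposite

namespace Groth.Agent.Lib.R2H4AffPts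
open Groth.Agent.Lib.R2H4DimOneAlg

variable {X : Scheme.{u}} {V : X.Opens} (hV : IsAffineOpen V)

/-- the prime of `Γ(X, V)` at a point of `V` -/
noncomputable def pr (y : X) (hy : y ∈ V) : Ideal Γ(X, V) := (hV.primeIdealOf ⟨y, hy⟩).asIdeal

instance (y : X) (hy : y ∈ V) : (pr hV y hy).IsPrime := (hV.primeIdealOf ⟨y, hy⟩).2

theorem mem_pr_iff (y : X) (hy : y ∈ V) (a : Γ(X, V)) : a ∈ pr hV y hy ↔ y ∉ X.basicOpen a := by
  have h1 := hV.primeIdealOf_eq_map_closedPoint ⟨y, hy⟩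
  have h2 : a ∈ pr hV y hy ↔ X.presheaf.germ V y hy a ∈
      IsLocalRing.maximalIdeal (X.presheaf.stalk y) := by
    unfold pr
    rw [h1]
    rfl
  rw [h2, IsLocalRing.mem_maximalIdeal, mem_nonunits_iff, Scheme.mem_basicOpen _ _ y hy]

theorem exists_pt (q : Ideal Γ(X, V)) [hq : q.IsPrime] : ∃ (y : X) (hy : y ∈ V), pr hV y hy = q := by
  let y := hV.isoSpec.inv (⟨q, hq⟩ : PrimeSpectrum Γ(X, V))
  refine ⟨y.1, y.2, ?_⟩
  have : hV.primeIdealOf ⟨y.1, y.2⟩ = ⟨q, hq⟩ := by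
    change hV.isoSpec.hom (hV.isoSpec.inv _) = _
    rw [← Scheme.Hom.comp_apply, Iso.inv_hom_id]
    rfl
  unfold pr
  rw [this]

theorem pr_le_iff (x y : X) (hx : x ∈ V) (hy : y ∈ V) : pr hV y hy ≤ pr hV x hx ↔ y ⤳ x := by
  constructor
  · intro h
    rw [specializes_iff_forall_open]
    intro s hs hxs
    obtain ⟨a, ha, hxa⟩ := hV.exists_basicOpen_le (V := ⟨s, hs⟩) ⟨x, hxs⟩ hx
    have h1 : a ∉ pr hV x hx := fun h' => (mem_pr_iff hV x hx a).mp h' hxa
    have h2 : a ∉ pr hV y hy := fun h' => h1 (h h')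
    rw [mem_pr_iff, not_not] at h2
    exact ha h2
  · intro h a ha
    rw [mem_pr_iff] at ha ⊢
    intro hxa
    exact ha (h.mem_open (X.basicOpen a).isOpen hxa)

include hV in
/-- a compact open inside an affine open is a finite union of basic opens -/
theorem exists_finset_basicOpen (G : X.Opens) (hG : IsCompact (G : Set X)) (hGV : G ≤ V) :
    ∃ t : Finset Γ(X, V), (∀ a ∈ t, X.basicOpen a ≤ G) ∧ ∀ y ∈ G, ∃ a ∈ t, y ∈ X.basicOpen a := by
  classical
  have hex : ∀ y : G, ∃ a : Γ(X, V), X.basicOpen a ≤ G ∧ y.1 ∈ X.basicOpen a :=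
    fun y => hV.exists_basicOpen_le y (hGV y.2)
  choose a ha1 ha2 using hex
  obtain ⟨t, ht⟩ := hG.elim_finite_subcover (fun y : G => (X.basicOpen (a y) : Set X))
    (fun y => (X.basicOpen (a y)).isOpen)
    (fun y hy => Set.mem_iUnion.mpr ⟨⟨y, hy⟩, ha2 ⟨y, hy⟩⟩)
  refine ⟨t.image a, ?_, ?_⟩
  · intro b hb
    obtain ⟨y, -, rfl⟩ := Finset.mem_image.mp hb
    exact ha1 y
  · intro y hy
    obtain ⟨z, hz, hyz⟩ := Set.mem_iUnion₂.mp (ht hy)
    exact ⟨a z, Finset.mem_image_of_mem a hz, hyz⟩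

theorem isCompact_inf_of_quasiCompact (U : X.Opens) [QuasiCompact U.ι] (V : X.Opens)
    (hV : IsCompact (V : Set X)) : IsCompact ((V ⊓ U : X.Opens) : Set X) := by
  have h1 : IsCompact (U.ι ⁻¹' (V : Set X)) :=
    QuasiCompact.isCompact_preimage (f := U.ι) _ V.isOpen hV
  have h2 := h1.image U.ι.continuous
  rw [Set.image_preimage_eq_inter_range, Scheme.Opens.range_ι] at h2
  exact h2

/-- **Step A.** -/
theorem exists_punctured_eq_basicOpen (U : X.Opens) [QuasiCompact U.ι]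
    (hdisc : DiscreteTopology ↥((U : Set X)ᶜ)) (x : X) (hx : x ∉ U)
    (hN : IsNoetherianRing (X.presheaf.stalk x)) (hd : ringKrullDim (X.presheaf.stalk x) ≤ 1) :
    ∃ (V : X.Opens) (f : Γ(X, V)), IsAffineOpen V ∧ x ∈ V ∧ X.basicOpen f = V ⊓ U ∧
      ∀ y ∈ V, y ∉ U → y = x := by
  classical
  -- an open `O` with `O ∩ Uᶜ = {x}`
  obtain ⟨O, hO, hxO, hOx⟩ : ∃ O : Set X, IsOpen O ∧ x ∈ O ∧ ∀ y, y ∈ O → y ∉ U → y = x := by
    have h1 : IsOpen ({⟨x, hx⟩} : Set ↥((U : Set X)ᶜ)) := isOpen_discrete _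
    obtain ⟨O, hO, hOeq⟩ := isOpen_induced_iff.mp h1
    refine ⟨O, hO, ?_, fun y hyO hyU => ?_⟩
    · have : (⟨x, hx⟩ : ↥((U : Set X)ᶜ)) ∈ Subtype.val ⁻¹' O := by
        rw [hOeq]; exact Set.mem_singleton _
      exact this
    · have : (⟨y, hyU⟩ : ↥((U : Set X)ᶜ)) ∈ Subtype.val ⁻¹' O := hyO
      rw [hOeq] at this
      exact congrArg Subtype.val (Set.mem_singleton_iff.mp this)
  -- an affine neighbourhood inside `O`
  obtain ⟨V₀, hV₀, hxV₀, hV₀O⟩ := exists_isAffineOpen_mem_and_subset (x := x) (U := ⟨O, hO⟩) hxO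
  have hV₀aff : IsAffineOpen V₀ := hV₀
  set p := pr hV₀aff x hxV₀ with hp
  letI : Algebra Γ(X, V₀) (X.presheaf.stalk x) :=
    TopCat.Presheaf.algebra_section_stalk X.presheaf ⟨x, hxV₀⟩
  have hloc : IsLocalization.AtPrime (X.presheaf.stalk x) p :=
    hV₀aff.isLocalization_stalk ⟨x, hxV₀⟩
  obtain ⟨f, hfp, hf⟩ := exists_mem_forall_prime_le p (X.presheaf.stalk x) hd
  -- the compact open `V₀ ∩ U`
  have hcomp := isCompact_inf_of_quasiCompact U V₀ hV₀aff.isCompact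
  obtain ⟨t, ht1, ht2⟩ := exists_finset_basicOpen hV₀aff (V₀ ⊓ U) hcomp inf_le_left
  have hex : ∀ a ∈ t, ∃ s : Γ(X, V₀), s ∉ p ∧ ∃ n : ℕ, s * a ^ n ∈ Ideal.span {f} := by
    intro a ha
    refine exists_mul_pow_mem p (Ideal.span {f}) a (fun q hq hqp hfq => ?_)
    have hqe := hf q hq hqp (hfq (Ideal.subset_span (Set.mem_singleton f)))
    rw [hqe, hp, mem_pr_iff]
    intro hxa
    exact hx (ht1 a ha hxa).2
  choose! s hs1 hs2 using hex
  let σ : Γ(X, V₀) := ∏ a ∈ t, s a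
  have hσp : σ ∉ p := by
    intro h
    obtain ⟨a, ha, hsa⟩ := (Ideal.IsPrime.prod_mem_iff (hp := inferInstance)).mp h
    exact hs1 a ha hsa
  have hxσ : x ∈ X.basicOpen σ := by
    by_contra h
    exact hσp ((mem_pr_iff hV₀aff x hxV₀ σ).mpr h)
  have hle : X.basicOpen σ ≤ V₀ := X.basicOpen_le σ
  refine ⟨X.basicOpen σ, X.presheaf.map (homOfLE hle).op f, hV₀aff.basicOpen σ, hxσ, ?_,
    fun y hy hyU => hOx y (hV₀O (hle hy)) hyU⟩
  rw [Scheme.basicOpen_res]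
  apply le_antisymm
  · rintro y ⟨hyσ, hyf⟩
    refine ⟨hyσ, ?_⟩
    by_contra hyU
    have hyx := hOx y (hV₀O (hle hyσ)) hyU
    rw [hyx] at hyf
    exact (mem_pr_iff hV₀aff x hxV₀ f).mp hfp hyf
  · rintro y ⟨hyσ, hyU⟩
    refine ⟨hyσ, ?_⟩
    have hyV₀ : y ∈ V₀ := hle hyσ
    obtain ⟨a, ha, hya⟩ := ht2 y ⟨hyV₀, hyU⟩
    by_contra hyf
    have hfq : f ∈ pr hV₀aff y hyV₀ := (mem_pr_iff hV₀aff y hyV₀ f).mpr hyf
    obtain ⟨n, hn⟩ := hs2 a ha
    have h1 : s a * a ^ n ∈ pr hV₀aff y hyV₀ :=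
      (Ideal.span_le.mpr (Set.singleton_subset_iff.mpr hfq)) hn
    rcases Ideal.IsPrime.mem_or_mem inferInstance h1 with h2 | h2
    · have h3 : σ ∈ pr hV₀aff y hyV₀ := by
        change ∏ a ∈ t, s a ∈ _
        exact (Ideal.IsPrime.prod_mem_iff (hp := inferInstance)).mpr ⟨a, ha, h2⟩
      exact (mem_pr_iff hV₀aff y hyV₀ σ).mp h3 hyσ
    · have h3 := Ideal.IsPrime.mem_of_pow_mem inferInstance n h2
      exact (mem_pr_iff hV₀aff y hyV₀ a).mp h3 hya

include hV in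
/-- **Spreading.** -/
theorem exists_nhd_inf_le (U : X.Opens) (x : X) (hxV : x ∈ V) (hxU : x ∉ U) (f : Γ(X, V))
    (hf : X.basicOpen f = V ⊓ U) (G : X.Opens) (hGc : IsCompact (G : Set X)) (hGV : G ≤ V)
    (hZ : ∀ y : X, y ⤳ x → y ≠ x → y ∈ G) :
    ∃ V' : X.Opens, V' ≤ V ∧ IsAffineOpen V' ∧ x ∈ V' ∧ V' ⊓ U ≤ G := by
  classical
  obtain ⟨t, ht1, ht2⟩ := exists_finset_basicOpen hV G hGc hGV
  have hfp : f ∈ pr hV x hxV := by
    rw [mem_pr_iff, hf]
    exact fun h => hxU h.2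
  obtain ⟨s, hs, n, hn⟩ := exists_mul_pow_mem (pr hV x hxV) (Ideal.span (t : Set Γ(X, V))) f
    (fun q hq hqp hIq => by
      obtain ⟨y, hy, rfl⟩ := exists_pt hV q
      have hspec : y ⤳ x := (pr_le_iff hV x y hxV hy).mp hqp
      have hyG : y ∉ G := by
        intro hyG
        obtain ⟨a, ha, hya⟩ := ht2 y hyG
        exact (mem_pr_iff hV y hy a).mp (hIq (Ideal.subset_span ha)) hya
      have hyx : y = x := by
        by_contra hne
        exact hyG (hZ y hspec hne)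
      subst hyx
      exact hfp)
  have hxs : x ∈ X.basicOpen s := by
    by_contra h
    exact hs ((mem_pr_iff hV x hxV s).mpr h)
  refine ⟨X.basicOpen s, X.basicOpen_le s, hV.basicOpen s, hxs, ?_⟩
  rintro y ⟨hys, hyU⟩
  have hyV : y ∈ V := X.basicOpen_le s hys
  have hyf : y ∈ X.basicOpen f := by rw [hf]; exact ⟨hyV, hyU⟩
  have h1 : s * f ^ n ∉ pr hV y hyV := by
    intro h
    rcases Ideal.IsPrime.mem_or_mem inferInstance h with h2 | h2
    · exact (mem_pr_iff hV y hyV s).mp h2 hys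
    · exact (mem_pr_iff hV y hyV f).mp (Ideal.IsPrime.mem_of_pow_mem inferInstance n h2) hyf
  have h2 : ∃ a ∈ t, a ∉ pr hV y hyV := by
    by_contra hcon
    push Not at hcon
    exact h1 ((Ideal.span_le.mpr (fun a ha => hcon a ha)) hn)
  obtain ⟨a, ha, hay⟩ := h2
  rw [mem_pr_iff, not_not] at hay
  exact ht1 a ha hay

/-- a point with Noetherian local ring of dimension `≤ 1` has finitely many generizations -/
theorem finite_generizations (x : X) (hN : IsNoetherianRing (X.presheaf.stalk x))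
    (hd : ringKrullDim (X.presheaf.stalk x) ≤ 1) : {y : X | y ⤳ x}.Finite := by
  obtain ⟨V₀, hV₀, hxV₀, -⟩ := exists_isAffineOpen_mem_and_subset (x := x) (U := ⊤) trivial
  have hV₀aff : IsAffineOpen V₀ := hV₀
  letI : Algebra Γ(X, V₀) (X.presheaf.stalk x) :=
    TopCat.Presheaf.algebra_section_stalk X.presheaf ⟨x, hxV₀⟩
  have hloc : IsLocalization.AtPrime (X.presheaf.stalk x) (pr hV₀aff x hxV₀) :=
    hV₀aff.isLocalization_stalk ⟨x, hxV₀⟩
  have hfin := finite_primes_le (pr hV₀aff x hxV₀) (X.presheaf.stalk x) hd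
  have := hfin.to_subtype
  rw [← Set.finite_coe_iff]
  have hmem : ∀ y : {y : X | y ⤳ x}, y.1 ∈ V₀ := fun y => y.2.mem_open V₀.isOpen hxV₀
  refine Finite.of_injective (fun y : {y : X | y ⤳ x} =>
    (⟨pr hV₀aff y.1 (hmem y), inferInstance, (pr_le_iff hV₀aff x y.1 hxV₀ (hmem y)).mpr y.2⟩ :
      {q : Ideal Γ(X, V₀) | q.IsPrime ∧ q ≤ pr hV₀aff x hxV₀})) ?_
  intro y y' h
  have h1 : pr hV₀aff y.1 (hmem y) = pr hV₀aff y'.1 (hmem y') := congrArg Subtype.val h
  have h2 : y.1 ⤳ y'.1 := (pr_le_iff hV₀aff y'.1 y.1 (hmem y') (hmem y)).mp h1.le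
  have h3 : y'.1 ⤳ y.1 := (pr_le_iff hV₀aff y.1 y'.1 (hmem y) (hmem y')).mp h1.ge
  exact Subtype.ext (h2.antisymm h3).eq

end Groth.Agent.Lib.R2H4AffPts
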