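import Mathlib
import Groth.Prelude
import Groth.Agent.Lib.Helper23SecTw6

/-!
# Gluing an invertible module from a Čech 1-cocycle of units (helper4, round 2)

Given an open cover `W i` of a scheme `X` and units `c i j ∈ Γ(X, W i ⊓ W j)` with
`c i k = c i j * c j k` on triple overlaps, we construct an `O_X`-module `glue` with frames
`frame i ∈ Γ(glue, W i)` (`IsGen`) such that `frame j = c i j • frame i` on `W i ⊓ W j`.
The module is built with the prelude's `Mero.modOf` (sheaf of dependent functions with values in the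
stalks of `O_X` cut out by a local predicate).

* `IsCoc`, `isCoc_of_res`
* `glue`, `frame`, `isGen_frame`, `res_frame`, `isInvertible_glue`
* `exists_glue` : packaged existence statement
* `exists_section` : global section with prescribed coordinates
-/

set_option autoImplicit false
universe u
open CategoryTheory Limits AlgebraicGeometry TopologicalSpace Opposite

noncomputable section

namespace Groth.Agent.Lib.R2H4CocycleGlue
open Groth.Agent.Lib.Helper23.SecTw Groth.Agent.Lib.Helper6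

variable {X : Scheme.{u}} {ι : Type*} (W : ι → X.Opens)

/-- the family of stalks of the structure sheaf -/
abbrev St (X : Scheme.{u}) (x : X) : Type u := X.presheaf.stalk x

/-- germs of the cocycle -/
def gm (c : ∀ i j, Γ(X, W i ⊓ W j)) (i j : ι) (y : X) (hi : y ∈ W i) (hj : y ∈ W j) : St X y :=
  X.presheaf.germ (W i ⊓ W j) y ⟨hi, hj⟩ (c i j)

/-- the cocycle condition (at the level of germs) together with invertibility -/
structure IsCoc (c : ∀ i j, Γ(X, W i ⊓ W j)) : Prop where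
  unit : ∀ i j, IsUnit (c i j)
  mul : ∀ i j k (y : X) (hi : y ∈ W i) (hj : y ∈ W j) (hk : y ∈ W k),
    gm W c i k y hi hk = gm W c i j y hi hj * gm W c j k y hj hk

theorem isCoc_of_res (c : ∀ i j, Γ(X, W i ⊓ W j)) (hu : ∀ i j, IsUnit (c i j))
    (hm : ∀ i j k, resf (le_inf (inf_le_left.trans inf_le_left) inf_le_right :
        W i ⊓ W j ⊓ W k ≤ W i ⊓ W k) (c i k) =
      resf (inf_le_left : W i ⊓ W j ⊓ W k ≤ W i ⊓ W j) (c i j) *
        resf (le_inf (inf_le_left.trans inf_le_right) inf_le_right :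
          W i ⊓ W j ⊓ W k ≤ W j ⊓ W k) (c j k)) : IsCoc W c where
  unit := hu
  mul i j k y hi hj hk := by
    have h := congrArg (X.presheaf.germ (W i ⊓ W j ⊓ W k) y ⟨⟨hi, hj⟩, hk⟩) (hm i j k)
    rw [map_mul] at h
    simp only [resf] at h
    rw [TopCat.Presheaf.germ_res_apply, TopCat.Presheaf.germ_res_apply,
      TopCat.Presheaf.germ_res_apply] at h
    exact h

variable (c : ∀ i j, Γ(X, W i ⊓ W j)) (hcov : ∀ x : X, ∃ i, x ∈ W i)

/-- a chosen index at every point -/
def idx (x : X) : ι := (hcov x).choose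

theorem idx_mem (x : X) : x ∈ W (idx W hcov x) := (hcov x).choose_spec

theorem isUnit_gm {c : ∀ i j, Γ(X, W i ⊓ W j)} (hc : IsCoc W c) (i j : ι) (y : X)
    (hi : y ∈ W i) (hj : y ∈ W j) : IsUnit (gm W c i j y hi hj) :=
  (hc.unit i j).map (X.presheaf.germ (W i ⊓ W j) y ⟨hi, hj⟩).hom

/-- the prelocal predicate: being, in the coordinate of a fixed frame, a function -/
def pre : TopCat.PrelocalPredicate (St X) where
  pred {U} f := ∃ (i : ι) (hU : U ≤ W i) (a : Γ(X, U)), ∀ y : U,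
    f y = gm W c (idx W hcov y.1) i y.1 (idx_mem W hcov y.1) (hU y.2) * X.presheaf.germ U y.1 y.2 a
  res {U V} i f := by
    rintro ⟨j, hV, a, h⟩
    refine ⟨j, i.le.trans hV, X.presheaf.map i.op a, fun y => ?_⟩
    refine (h (i y)).trans ?_
    congr 1
    exact (X.presheaf.germ_res_apply i y.1 y.2 a).symm

/-- the local predicate -/
def P : TopCat.LocalPredicate (St X) := (pre W c hcov).sheafify

variable {W c}

/-- change of frame -/
theorem pre_change (hc : IsCoc W c) {U : X.Opens} (f : ∀ x : U, St X x.1) (i j : ι)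
    (hi : U ≤ W i) (hj : U ≤ W j) (a : Γ(X, U))
    (h : ∀ y : U, f y = gm W c (idx W hcov y.1) i y.1 (idx_mem W hcov y.1) (hi y.2) *
      X.presheaf.germ U y.1 y.2 a) (y : U) :
    f y = gm W c (idx W hcov y.1) j y.1 (idx_mem W hcov y.1) (hj y.2) *
      X.presheaf.germ U y.1 y.2 (resf (le_inf hj hi) (c j i) * a) := by
  rw [h y, hc.mul _ j i y.1 (idx_mem W hcov y.1) (hj y.2) (hi y.2), map_mul, mul_assoc]
  congr 2
  exact (X.presheaf.germ_res_apply (homOfLE (le_inf hj hi)) y.1 y.2 (c j i)).symm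

variable (W c)

theorem isModPred (hc : IsCoc W c) : Mero.IsModPred (P W c hcov) where
  zero U := by
    intro x
    refine ⟨U ⊓ W (idx W hcov x.1), ⟨x.2, idx_mem W hcov x.1⟩, homOfLE inf_le_left,
      idx W hcov x.1, inf_le_right, 0, fun y => ?_⟩
    rw [map_zero, mul_zero]
    rfl
  add U f g hf hg := by
    intro x
    obtain ⟨V₁, m₁, i₁, j₁, hV₁, a₁, h₁⟩ := hf x
    obtain ⟨V₂, m₂, i₂, j₂, hV₂, a₂, h₂⟩ := hg x
    have e₁ : V₁ ⊓ V₂ ≤ V₁ := inf_le_left
    have e₂ : V₁ ⊓ V₂ ≤ V₂ := inf_le_right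
    refine ⟨V₁ ⊓ V₂, ⟨m₁, m₂⟩, homOfLE (e₁.trans i₁.le), j₁, e₁.trans hV₁,
      resf e₁ a₁ + resf (le_inf (e₁.trans hV₁) (e₂.trans hV₂)) (c j₁ j₂) * resf e₂ a₂, fun y => ?_⟩
    have k₁ := h₁ ⟨y.1, e₁ y.2⟩
    have k₂ := pre_change hcov hc (fun z : (V₁ ⊓ V₂ : X.Opens) => g ⟨z.1, i₂.le (e₂ z.2)⟩) j₂ j₁
      (e₂.trans hV₂) (e₁.trans hV₁) (resf e₂ a₂) (fun z => by
        refine (h₂ ⟨z.1, e₂ z.2⟩).trans ?_
        congr 1
        exact (X.presheaf.germ_res_apply (homOfLE e₂) z.1 z.2 a₂).symm) y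
    change f ⟨y.1, _⟩ + g ⟨y.1, _⟩ = _
    rw [map_add, mul_add]
    congr 1
    refine k₁.trans ?_
    congr 1
    exact (X.presheaf.germ_res_apply (homOfLE e₁) y.1 y.2 a₁).symm
  smul U r f hf := by
    intro x
    obtain ⟨V₁, m₁, i₁, j₁, hV₁, a₁, h₁⟩ := hf x
    refine ⟨V₁, m₁, i₁, j₁, hV₁, X.presheaf.map i₁.op r * a₁, fun y => ?_⟩
    have k₁ : f (i₁ y) = _ := h₁ y
    change X.presheaf.germ U y.1 (i₁.le y.2) r • f (i₁ y) = _
    rw [k₁, map_mul, smul_eq_mul, X.presheaf.germ_res_apply i₁ y.1 y.2 r]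
    ring

/-- the glued module -/
def glue (hc : IsCoc W c) : X.Modules :=
  @Mero.modOf X (St X) _ _ (P W c hcov) (isModPred W c hcov hc)

variable {W c}

theorem smul_apply (hc : IsCoc W c) {U : X.Opens} (r : Γ(X, U)) (s : Γ(glue W c hcov hc, U))
    (y : U) : (r • s).1 y = X.presheaf.germ U y.1 y.2 r * s.1 y := rfl

theorem res_apply (hc : IsCoc W c) {U V : X.Opens} (h : V ≤ U) (s : Γ(glue W c hcov hc, U))
    (y : V) : (res (glue W c hcov hc) h s).1 y = s.1 ⟨y.1, h y.2⟩ := rfl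

theorem ext_sec (hc : IsCoc W c) {U : X.Opens} (s t : Γ(glue W c hcov hc, U))
    (h : ∀ y : U, s.1 y = t.1 y) : s = t := Subtype.ext (funext h)

/-- the frames -/
def frame (hc : IsCoc W c) (i : ι) : Γ(glue W c hcov hc, W i) :=
  ⟨fun y => gm W c (idx W hcov y.1) i y.1 (idx_mem W hcov y.1) y.2,
    TopCat.PrelocalPredicate.sheafifyOf ⟨i, le_rfl, 1, fun y => by rw [map_one, mul_one]⟩⟩

theorem frame_apply (hc : IsCoc W c) (i : ι) (y : W i) :
    (frame hcov hc i).1 y = gm W c (idx W hcov y.1) i y.1 (idx_mem W hcov y.1) y.2 := rfl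

theorem isGen_frame (hc : IsCoc W c) (i : ι) :
    IsGen (glue W c hcov hc) (W i) (frame hcov hc i) := by
  intro W' hW'
  constructor
  · intro r r' h
    refine TopCat.Presheaf.section_ext X.sheaf W' r r' (fun y hy => ?_)
    have h1 := congrArg (fun s : Γ(glue W c hcov hc, W') => s.1 ⟨y, hy⟩) h
    change X.presheaf.germ W' y hy r * gm W c (idx W hcov y) i y (idx_mem W hcov y) (hW' hy) =
      X.presheaf.germ W' y hy r' * gm W c (idx W hcov y) i y (idx_mem W hcov y) (hW' hy) at h1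
    exact (isUnit_gm W hc _ _ y _ _).mul_left_injective h1
  · intro t
    -- local coordinates in the frame `i`
    have hloc : ∀ x : W', ∃ (V : X.Opens) (_ : x.1 ∈ V) (hV : V ≤ W') (b : Γ(X, V)), ∀ y : V,
        t.1 ⟨y.1, hV y.2⟩ = gm W c (idx W hcov y.1) i y.1 (idx_mem W hcov y.1) (hW' (hV y.2)) *
          X.presheaf.germ V y.1 y.2 b := by
      intro x
      obtain ⟨V, m, iV, j, hVj, a, h⟩ := t.2 x
      exact ⟨V, m, iV.le, _, pre_change hcov hc (fun z : V => t.1 (iV z)) j i hVj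
        (iV.le.trans hW') a h⟩
    choose V mV hV b hb using hloc
    have hcompat : TopCat.Presheaf.IsCompatible X.presheaf V b := by
      intro x x'
      refine TopCat.Presheaf.section_ext X.sheaf _ _ _ (fun y hy => ?_)
      have e1 := X.presheaf.germ_res_apply (Opens.infLELeft (V x) (V x')) y hy (b x)
      have e2 := X.presheaf.germ_res_apply (Opens.infLERight (V x) (V x')) y hy (b x')
      refine e1.trans (Eq.trans ?_ e2.symm)
      have h1 := hb x ⟨y, hy.1⟩
      have h2 := hb x' ⟨y, hy.2⟩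
      exact (isUnit_gm W hc _ _ y _ _).mul_right_injective (h1.symm.trans h2)
    obtain ⟨r, hr, -⟩ := X.sheaf.existsUnique_gluing' V W' (fun x => homOfLE (hV x))
      (fun y hy => Opens.mem_iSup.mpr ⟨⟨y, hy⟩, mV ⟨y, hy⟩⟩) b hcompat
    refine ⟨r, ext_sec hcov hc _ _ (fun y => ?_)⟩
    change X.presheaf.germ W' y.1 y.2 r * gm W c (idx W hcov y.1) i y.1 (idx_mem W hcov y.1)
      (hW' y.2) = t.1 y
    have h1 := hb y ⟨y.1, mV y⟩
    rw [mul_comm]
    refine Eq.trans ?_ h1.symm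
    congr 1
    rw [← hr y]
    exact (X.presheaf.germ_res_apply (homOfLE (hV y)) y.1 (mV y) r).symm

theorem res_frame (hc : IsCoc W c) (i j : ι) :
    res (glue W c hcov hc) (inf_le_right : W i ⊓ W j ≤ W j) (frame hcov hc j) =
      c i j • res (glue W c hcov hc) (inf_le_left : W i ⊓ W j ≤ W i) (frame hcov hc i) := by
  refine ext_sec hcov hc _ _ (fun y => ?_)
  change gm W c (idx W hcov y.1) j y.1 (idx_mem W hcov y.1) y.2.2 =
    X.presheaf.germ (W i ⊓ W j) y.1 y.2 (c i j) *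
      gm W c (idx W hcov y.1) i y.1 (idx_mem W hcov y.1) y.2.1
  rw [hc.mul _ i j y.1 (idx_mem W hcov y.1) y.2.1 y.2.2, mul_comm]
  rfl

theorem isInvertible_glue (hc : IsCoc W c) : PicF.IsInvertible (glue W c hcov hc) :=
  isInvertible_of_isGen _ (fun x =>
    ⟨W (idx W hcov x), frame hcov hc _, idx_mem W hcov x, isGen_frame hcov hc _⟩)

/-- **Gluing an invertible module from a cocycle.** -/
theorem exists_glue (W : ι → X.Opens) (hcov : ∀ x : X, ∃ i, x ∈ W i)
    (c : ∀ i j, Γ(X, W i ⊓ W j)) (hc : IsCoc W c) :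
    ∃ (L : X.Modules) (ε : ∀ i, Γ(L, W i)), PicF.IsInvertible L ∧ (∀ i, IsGen L (W i) (ε i)) ∧
      ∀ i j, res L (inf_le_right : W i ⊓ W j ≤ W j) (ε j) =
        c i j • res L (inf_le_left : W i ⊓ W j ≤ W i) (ε i) :=
  ⟨glue W c hcov hc, frame hcov hc, isInvertible_glue hcov hc, isGen_frame hcov hc,
    res_frame hcov hc⟩

/-- a global section with prescribed coordinates in a family of frames with transition `c` -/
theorem exists_section (W : ι → X.Opens) (hcov : ∀ x : X, ∃ i, x ∈ W i)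
    (c : ∀ i j, Γ(X, W i ⊓ W j)) (L : X.Modules) (ε : ∀ i, Γ(L, W i))
    (htr : ∀ i j, res L (inf_le_right : W i ⊓ W j ≤ W j) (ε j) =
      c i j • res L (inf_le_left : W i ⊓ W j ≤ W i) (ε i))
    (a : ∀ i, Γ(X, W i))
    (ha : ∀ i j, resf (inf_le_left : W i ⊓ W j ≤ W i) (a i) =
      c i j * resf (inf_le_right : W i ⊓ W j ≤ W j) (a j)) :
    ∃ s : Coh.structureModule X ⟶ L, ∀ i, sv s (W i) = a i • ε i := by
  obtain ⟨σ, hσ, -⟩ := (modSheaf L).existsUnique_gluing' W ⊤ (fun i => homOfLE le_top)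
    (fun y _ => Opens.mem_iSup.mpr (hcov y)) (fun i => a i • ε i) (fun i j => by
      change res L (inf_le_left : W i ⊓ W j ≤ W i) (a i • ε i) =
        res L (inf_le_right : W i ⊓ W j ≤ W j) (a j • ε j)
      rw [res_smul, res_smul, htr i j, ha i j, smul_smul, mul_comm])
  refine ⟨secHom L σ, fun i => ?_⟩
  rw [sv_secHom]
  exact hσ i

end Groth.Agent.Lib.R2H4CocycleGlue
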