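import Mathlib
import Groth.Agent.Lib.R2H4CocycleGlue
import Groth.Agent.Lib.R2H4AffPts

/-!
# Invertible modules with a section from local equations (helper4, round 2)

* `exists_invertible_section` : for a cover `W i` whose pairwise intersections lie in an open `U` and functions
  `a i ∈ Γ(X, W i)` invertible on `W i ∩ U`, there are an invertible `L` and a section `s` with `X_s ∩ W i = D(a i)`.
* `exists_genLocus_eq` : (Stacks-type lemma) `U` retrocompact open with `X ∖ U` discrete and local rings at the points of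
  `X ∖ U` Noetherian of dimension `≤ 1` : `U = X_s` for a section `s` of an invertible module.
-/

set_option autoImplicit false
set_option linter.style.haveILetI false
universe u
open CategoryTheory Limits AlgebraicGeometry TopologicalSpace Opposite

namespace Groth.Agent.Lib.R2H4DivGlue
open Groth.Agent.Lib.Helper23.SecTw Groth.Agent.Lib.Helper6 Groth.Agent.Lib.R2H4CocycleGlue
  Groth.Agent.Lib.R2H4AffPts

variable {X : Scheme.{u}}

theorem resf_congr {A B : X.Opens} (h h' : A ≤ B) (r : Γ(X, B)) : resf h r = resf h' r := rfl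

theorem exists_invertible_section {ι : Type*} (W : ι → X.Opens) (hcov : ∀ x : X, ∃ i, x ∈ W i)
    (U : X.Opens) (hWU : ∀ i j, i ≠ j → W i ⊓ W j ≤ U) (a : ∀ i, Γ(X, W i))
    (ha : ∀ i, IsUnit (resf (inf_le_left : W i ⊓ U ≤ W i) (a i))) :
    ∃ (L : X.Modules) (s : Coh.structureModule X ⟶ L), PicF.IsInvertible L ∧
      ∀ i, CohB1.genLocus L s ⊓ W i = X.basicOpen (a i) := by
  classical
  have hb : ∀ i, ∃ b : Γ(X, W i ⊓ U), resf (inf_le_left : W i ⊓ U ≤ W i) (a i) * b = 1 :=
    fun i => (ha i).exists_right_inv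
  choose b hb using hb
  let c : ∀ i j, Γ(X, W i ⊓ W j) := fun i j =>
    if h : i = j then 1 else
      resf (inf_le_left : W i ⊓ W j ≤ W i) (a i) *
        resf (le_inf inf_le_right (hWU i j h) : W i ⊓ W j ≤ W j ⊓ U) (b j)
  have hc_eq : ∀ i, c i i = 1 := fun i => dif_pos rfl
  have hc_ne : ∀ i j (h : i ≠ j), c i j = resf (inf_le_left : W i ⊓ W j ≤ W i) (a i) *
        resf (le_inf inf_le_right (hWU i j h) : W i ⊓ W j ≤ W j ⊓ U) (b j) := fun i j h => dif_neg h
  -- germ-level description on `U`
  have hgm : ∀ i j (y : X) (hi : y ∈ W i) (hj : y ∈ W j) (hU : y ∈ U),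
      gm W c i j y hi hj = X.presheaf.germ (W i) y hi (a i) *
        X.presheaf.germ (W j ⊓ U) y ⟨hj, hU⟩ (b j) := by
    intro i j y hi hj hU
    by_cases h : i = j
    · subst h
      unfold gm
      rw [hc_eq, map_one]
      have h1 := congrArg (X.presheaf.germ (W i ⊓ U) y ⟨hi, hU⟩) (hb i)
      rw [map_mul, map_one] at h1
      rw [← h1]
      congr 1
      exact (X.presheaf.germ_res_apply (homOfLE inf_le_left) y ⟨hi, hU⟩ (a i))
    · unfold gm
      rw [hc_ne i j h, map_mul]
      congr 1
      · exact X.presheaf.germ_res_apply (homOfLE inf_le_left) y ⟨hi, hj⟩ (a i)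
      · exact X.presheaf.germ_res_apply (homOfLE (le_inf inf_le_right (hWU i j h))) y ⟨hi, hj⟩ (b j)
  have hgm1 : ∀ i (y : X) (hi : y ∈ W i), gm W c i i y hi hi = 1 := by
    intro i y hi
    unfold gm
    rw [hc_eq, map_one]
  have hba : ∀ j (y : X) (hj : y ∈ W j) (hU : y ∈ U),
      X.presheaf.germ (W j ⊓ U) y ⟨hj, hU⟩ (b j) * X.presheaf.germ (W j) y hj (a j) = 1 := by
    intro j y hj hU
    have h1 := congrArg (X.presheaf.germ (W j ⊓ U) y ⟨hj, hU⟩) (hb j)
    rw [map_mul, map_one, mul_comm] at h1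
    rw [← h1]
    congr 1
    exact (X.presheaf.germ_res_apply (homOfLE inf_le_left) y ⟨hj, hU⟩ (a j)).symm
  have hcoc : IsCoc W c := by
    refine ⟨fun i j => ?_, fun i j k y hi hj hk => ?_⟩
    · by_cases h : i = j
      · subst h; rw [hc_eq]; exact isUnit_one
      · rw [hc_ne i j h]
        refine IsUnit.mul ?_ ?_
        · have h1 : resf (inf_le_left : W i ⊓ W j ≤ W i) (a i) =
              resf (le_inf inf_le_left (hWU i j h) : W i ⊓ W j ≤ W i ⊓ U)
                (resf (inf_le_left : W i ⊓ U ≤ W i) (a i)) := by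
            rw [resf_resf]
          rw [h1]
          exact (ha i).map _
        · exact (IsUnit.of_mul_eq_one _ (by rw [mul_comm]; exact hb j)).map _
    · by_cases hU : y ∈ U
      · rw [hgm i k y hi hk hU, hgm i j y hi hj hU, hgm j k y hj hk hU, mul_assoc,
          ← mul_assoc (X.presheaf.germ (W j ⊓ U) y ⟨hj, hU⟩ (b j)), hba j y hj hU, one_mul]
      · have hij : i = j := by
          by_contra h; exact hU (hWU i j h ⟨hi, hj⟩)
        have hjk : j = k := by
          by_contra h; exact hU (hWU j k h ⟨hj, hk⟩)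
        subst hij; subst hjk
        rw [hgm1, one_mul]
  obtain ⟨L, ε, hL, hgen, htr⟩ := exists_glue W hcov c hcoc
  obtain ⟨s, hs⟩ := exists_section W hcov c L ε htr a (fun i j => by
    by_cases h : i = j
    · subst h; rw [hc_eq, one_mul]
    · rw [hc_ne i j h, mul_assoc]
      have h1 : resf (le_inf inf_le_right (hWU i j h) : W i ⊓ W j ≤ W j ⊓ U) (b j) *
          resf (inf_le_right : W i ⊓ W j ≤ W j) (a j) = 1 := by
        have h2 : resf (le_inf inf_le_right (hWU i j h) : W i ⊓ W j ≤ W j ⊓ U)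
            (resf (inf_le_left : W j ⊓ U ≤ W j) (a j)) *
            resf (le_inf inf_le_right (hWU i j h) : W i ⊓ W j ≤ W j ⊓ U) (b j) = 1 := by
          have := congrArg (resf (le_inf inf_le_right (hWU i j h) : W i ⊓ W j ≤ W j ⊓ U)) (hb j)
          simpa only [resf, map_mul, map_one] using this
        rw [resf_resf, mul_comm] at h2
        exact h2
      rw [h1, mul_one])
  exact ⟨L, s, hL, fun i => genLocus_inf_eq_of_isGen L s (W i) (ε i) (a i) (hgen i) (hs i)⟩

theorem isUnit_resf_of_le_basicOpen {V A : X.Opens} (f : Γ(X, V)) (hAV : A ≤ V)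
    (hA : A ≤ X.basicOpen f) : IsUnit (resf hAV f) := by
  have h1 : resf hAV f = resf hA (resf (X.basicOpen_le f) f) := by rw [resf_resf]
  rw [h1]
  exact (RingedSpace.isUnit_res_basicOpen (X := X.toRingedSpace) f).map _

/-- **Stacks-type lemma, part (1).** -/
theorem exists_genLocus_eq (U : X.Opens) [QuasiCompact U.ι]
    (hdisc : DiscreteTopology ↥((U : Set X)ᶜ))
    (hloc : ∀ x : X, x ∉ U → IsNoetherianRing (X.presheaf.stalk x) ∧
      ringKrullDim (X.presheaf.stalk x) ≤ 1) :
    ∃ (L : X.Modules) (s : Coh.structureModule X ⟶ L), PicF.IsInvertible L ∧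
      CohB1.genLocus L s = U := by
  classical
  have hA : ∀ x : {x : X // x ∉ U}, ∃ (V : X.Opens) (f : Γ(X, V)), IsAffineOpen V ∧ x.1 ∈ V ∧
      X.basicOpen f = V ⊓ U ∧ ∀ y ∈ V, y ∉ U → y = x.1 :=
    fun x => exists_punctured_eq_basicOpen U hdisc x.1 x.2 (hloc x.1 x.2).1 (hloc x.1 x.2).2
  choose V f hVaff hxV hf hV using hA
  let W : Option {x : X // x ∉ U} → X.Opens := fun i => i.elim U V
  let a : ∀ i, Γ(X, W i) := fun i => match i with
    | none => (1 : Γ(X, U))
    | some x => f x
  have hcov : ∀ y : X, ∃ i, y ∈ W i := by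
    intro y
    by_cases hy : y ∈ U
    · exact ⟨none, hy⟩
    · exact ⟨some ⟨y, hy⟩, hxV ⟨y, hy⟩⟩
  have hWU : ∀ i j, i ≠ j → W i ⊓ W j ≤ U := by
    intro i j hij
    match i, j with
    | none, none => exact absurd rfl hij
    | none, some x => exact inf_le_left
    | some x, none => exact inf_le_right
    | some x, some x' =>
      rintro y ⟨hy, hy'⟩
      by_contra hyU
      have h1 := hV x y hy hyU
      have h2 := hV x' y hy' hyU
      exact hij (congrArg some (Subtype.ext (h1.symm.trans h2)))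
  have ha : ∀ i, IsUnit (resf (inf_le_left : W i ⊓ U ≤ W i) (a i)) := by
    intro i
    match i with
    | none =>
      change IsUnit (resf (inf_le_left : U ⊓ U ≤ U) (1 : Γ(X, U)))
      rw [resf, map_one]; exact isUnit_one
    | some x =>
      change IsUnit (resf (inf_le_left : V x ⊓ U ≤ V x) (f x))
      exact isUnit_resf_of_le_basicOpen (f x) inf_le_left (hf x).ge
  obtain ⟨L, s, hL, hs⟩ := exists_invertible_section W hcov U hWU a ha
  refine ⟨L, s, hL, ?_⟩
  apply le_antisymm
  · intro y hy
    obtain ⟨i, hi⟩ := hcov y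
    match i, hi with
    | none, hi => exact hi
    | some x, hi =>
      have h1 : y ∈ CohB1.genLocus L s ⊓ W (some x) := ⟨hy, hi⟩
      rw [hs (some x)] at h1
      have h2 : y ∈ X.basicOpen (f x) := h1
      rw [hf x] at h2
      exact h2.2
  · intro y hy
    have h1 := hs none
    have h2 : X.basicOpen (a none) = U := Scheme.basicOpen_of_isUnit _ isUnit_one
    rw [h2] at h1
    have h3 : y ∈ CohB1.genLocus L s ⊓ W none := by rw [h1]; exact hy
    exact h3.1

end Groth.Agent.Lib.R2H4DivGlue
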