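import Mathlib
import Groth.Prelude
import Groth.Agent.Lib.Helper6QCohQcqs
set_option backward.isDefEq.respectTransparency.types false

/-!
# Separated schemes: sections over `U ⊓ V` are generated by those over `U` and `V` (helper4, round 2)

* `closure_range_of_isPushout` : a pushout of commutative rings is generated by the two images.
* `closure_range_inf_of_isSeparated` : for affine opens `U`, `V` of a separated scheme the ring
  `Γ(X, U ⊓ V)` is generated by the restrictions from `U` and from `V`.
-/

set_option autoImplicit false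
set_option linter.style.haveILetI false
set_option linter.unusedSectionVars false
universe u v

open CategoryTheory CategoryTheory.Limits AlgebraicGeometry TopologicalSpace Opposite

namespace Groth.Agent.Lib.R2H4SepGen

open Groth.Agent.Lib.Helper6

/-- a pushout of commutative rings is generated by the two images -/
theorem closure_range_of_isPushout {R A B P : CommRingCat.{u}} {f : R ⟶ A} {g : R ⟶ B}
    {a : A ⟶ P} {b : B ⟶ P} (h : IsPushout f g a b) :
    Subring.closure (Set.range a.hom ∪ Set.range b.hom) = ⊤ := by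
  set S : Subring P := Subring.closure (Set.range a.hom ∪ Set.range b.hom) with hS
  let a' : A ⟶ CommRingCat.of S := CommRingCat.ofHom
    (a.hom.codRestrict S (fun x => Subring.subset_closure (Or.inl ⟨x, rfl⟩)))
  let b' : B ⟶ CommRingCat.of S := CommRingCat.ofHom
    (b.hom.codRestrict S (fun x => Subring.subset_closure (Or.inr ⟨x, rfl⟩)))
  let incl : CommRingCat.of S ⟶ P := CommRingCat.ofHom S.subtype
  have ha : a' ≫ incl = a := by ext x; rfl
  have hb : b' ≫ incl = b := by ext x; rfl
  have hw : f ≫ a' = g ≫ b' := by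
    ext x
    exact congr($(h.w).hom x)
  let d := h.desc a' b' hw
  have hd : d ≫ incl = 𝟙 P := by
    apply h.hom_ext
    · rw [← Category.assoc, h.inl_desc, ha, Category.comp_id]
    · rw [← Category.assoc, h.inr_desc, hb, Category.comp_id]
  rw [eq_top_iff]
  intro p _
  have : p = (d.hom p : P) := by
    have := congr($(hd).hom p)
    exact this.symm
  rw [this]
  exact (d.hom p).2

variable {X : Scheme.{u}}

/-- for affine opens `U`, `V` of a separated scheme, `Γ(X, U ⊓ V)` is generated by the restrictions
from `U` and from `V` -/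
theorem closure_range_inf_of_isSeparated [X.IsSeparated] {U V : X.Opens} (hU : IsAffineOpen U)
    (hV : IsAffineOpen V) :
    Subring.closure (Set.range (X.presheaf.map (homOfLE (inf_le_left : U ⊓ V ≤ U)).op).hom ∪
      Set.range (X.presheaf.map (homOfLE (inf_le_right : U ⊓ V ≤ V)).op).hom) = ⊤ := by
  haveI : IsAffine (U : Scheme.{u}) := hU
  haveI : IsAffine (V : Scheme.{u}) := hV
  let i : X ⟶ ⊤_ Scheme.{u} := terminal.from X
  have hpb : IsPullback (X.homOfLE (inf_le_left : U ⊓ V ≤ U)) (X.homOfLE (inf_le_right : U ⊓ V ≤ V))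
      U.ι V.ι :=
    IsOpenImmersion.isPullback (X.homOfLE inf_le_left) (X.homOfLE inf_le_right)
      U.ι V.ι (by simp) (by ext; simp)
  let j : ((U ⊓ V : X.Opens) : Scheme.{u}) ⟶ pullback (U.ι ≫ i) (V.ι ≫ i) :=
    hpb.isoPullback.hom ≫ pullback.mapDesc U.ι V.ι i
  haveI : IsClosedImmersion j := by
    dsimp only [j]
    infer_instance
  have hj1 : j ≫ pullback.fst (U.ι ≫ i) (V.ι ≫ i) = X.homOfLE inf_le_left := by
    dsimp only [j, pullback.mapDesc, pullback.map]
    rw [Category.assoc, pullback.lift_fst, Category.comp_id, IsPullback.isoPullback_hom_fst]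
  have hj2 : j ≫ pullback.snd (U.ι ≫ i) (V.ι ≫ i) = X.homOfLE inf_le_right := by
    dsimp only [j, pullback.mapDesc, pullback.map]
    rw [Category.assoc, pullback.lift_snd, Category.comp_id, IsPullback.isoPullback_hom_snd]
  have hsurj := (IsClosedImmersion.isAffine_surjective_of_isAffine j).2
  have hpo := isPushout_appTop_of_isPullback (IsPullback.of_hasPullback (U.ι ≫ i) (V.ι ≫ i))
  have hcl := closure_range_of_isPushout hpo
  set T : Subring Γ(X, U ⊓ V) :=
    Subring.closure (Set.range (X.presheaf.map (homOfLE (inf_le_left : U ⊓ V ≤ U)).op).hom ∪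
      Set.range (X.presheaf.map (homOfLE (inf_le_right : U ⊓ V ≤ V)).op).hom) with hT
  -- the ring map `Γ(Q) → Γ(X, U ⊓ V)`
  let φ : Γ(pullback (U.ι ≫ i) (V.ι ≫ i), ⊤) →+* Γ(X, U ⊓ V) :=
    ((U ⊓ V).topIso.hom.hom).comp j.appTop.hom
  have hφsurj : Function.Surjective φ := by
    intro p
    obtain ⟨q, hq⟩ := hsurj ((U ⊓ V).topIso.inv.hom p)
    refine ⟨q, ?_⟩
    change (U ⊓ V).topIso.hom.hom (j.appTop.hom q) = p
    rw [hq]
    exact congr($((U ⊓ V).topIso.inv_hom_id).hom p)
  have hle : Subring.closure (Set.range (pullback.fst (U.ι ≫ i) (V.ι ≫ i)).appTop.hom ∪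
      Set.range (pullback.snd (U.ι ≫ i) (V.ι ≫ i)).appTop.hom) ≤ T.comap φ := by
    rw [Subring.closure_le]
    rintro _ (⟨a, rfl⟩ | ⟨b, rfl⟩)
    · apply Subring.subset_closure
      left
      refine ⟨U.topIso.hom.hom a, ?_⟩
      have h1 := congr($(Scheme.Hom.comp_appTop j (pullback.fst (U.ι ≫ i) (V.ι ≫ i))).hom a)
      rw [hj1] at h1
      change _ = (U ⊓ V).topIso.hom.hom (j.appTop.hom ((pullback.fst (U.ι ≫ i) (V.ι ≫ i)).appTop.hom a))
      simp only [CommRingCat.hom_comp, RingHom.coe_comp, Function.comp_apply] at h1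
      rw [← h1]
      simp only [Scheme.homOfLE_appTop, Scheme.Opens.topIso_hom]
      simp only [← ConcreteCategory.comp_apply]
      refine ConcreteCategory.congr_hom ?_ _
      exact (X.presheaf.map_comp _ _).symm.trans
        ((congrArg X.presheaf.map (Subsingleton.elim _ _)).trans (X.presheaf.map_comp _ _))
    · apply Subring.subset_closure
      right
      refine ⟨V.topIso.hom.hom b, ?_⟩
      have h1 := congr($(Scheme.Hom.comp_appTop j (pullback.snd (U.ι ≫ i) (V.ι ≫ i))).hom b)
      rw [hj2] at h1
      change _ = (U ⊓ V).topIso.hom.hom (j.appTop.hom ((pullback.snd (U.ι ≫ i) (V.ι ≫ i)).appTop.hom b))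
      simp only [CommRingCat.hom_comp, RingHom.coe_comp, Function.comp_apply] at h1
      rw [← h1]
      simp only [Scheme.homOfLE_appTop, Scheme.Opens.topIso_hom]
      simp only [← ConcreteCategory.comp_apply]
      refine ConcreteCategory.congr_hom ?_ _
      exact (X.presheaf.map_comp _ _).symm.trans
        ((congrArg X.presheaf.map (Subsingleton.elim _ _)).trans (X.presheaf.map_comp _ _))
  rw [hcl] at hle
  rw [eq_top_iff]
  intro p _
  obtain ⟨q, rfl⟩ := hφsurj p
  exact hle (Subring.mem_top q)

end Groth.Agent.Lib.R2H4SepGen
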