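import Mathlib
import Groth.Prelude
import Groth.Agent.Lib.R2H4SepGen
import Groth.Agent.Lib.Helper6QCohQcqs
import Groth.Agent.S1640
import Groth.Agent.Lib.R2H4DivGlue
import Groth.Agent.Lib.Helper23SecTw10
set_option backward.isDefEq.respectTransparency.types false

/-!
# Globally generated invertible modules cutting out an affine open (helper4, round 2)

Towards S1645: `X` integral separated, `U` affine open with finite complement of points whose local
rings are Noetherian of dimension one.
* `eq_genericPoint_of_specializes` : a proper generization of a point with one-dimensional local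
  ring is the generic point.
* `sup_range_eq_top` : the function field is generated by `Γ(X, U)` and `O_{X,x}` for `x ∉ U`.
-/

set_option autoImplicit false
set_option linter.style.haveILetI false
set_option linter.unusedSectionVars false
universe u v

open CategoryTheory CategoryTheory.Limits AlgebraicGeometry TopologicalSpace Opposite

namespace Groth.Agent.Lib.R2H4GGDivisor

open Groth.Agent.Lib.Helper6

variable {X : Scheme.{u}}

/-- a proper generization of a point whose local ring has dimension `≤ 1` is the generic point -/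
theorem eq_genericPoint_of_specializes [IsIntegral X] {x y : X}
    (hdim : ringKrullDim (X.presheaf.stalk x) ≤ 1) (h : y ⤳ x) (hne : y ≠ x) :
    y = genericPoint X := by
  haveI : Ring.KrullDimLE 1 (X.presheaf.stalk x) := Ring.krullDimLE_iff.2 hdim
  have hemb := (X.fromSpecStalk x).isEmbedding
  obtain ⟨p, rfl⟩ : y ∈ Set.range (X.fromSpecStalk x) := by
    rw [Scheme.range_fromSpecStalk]; exact h
  obtain ⟨p₀, hp₀⟩ : genericPoint X ∈ Set.range (X.fromSpecStalk x) := by
    rw [Scheme.range_fromSpecStalk]; exact genericPoint_specializes x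
  -- `p₀` is the zero ideal
  let bot : PrimeSpectrum (X.presheaf.stalk x) := ⟨⊥, Ideal.isPrime_bot⟩
  have h1 : p₀ ⤳ bot := by
    rw [← hemb.specializes_iff, hp₀]
    exact genericPoint_specializes _
  have h1' : p₀.asIdeal = ⊥ := le_bot_iff.1 ((PrimeSpectrum.le_iff_specializes _ _).2 h1)
  -- `p` is not the maximal ideal
  have h2 : p.asIdeal = ⊥ := by
    by_contra hp
    have hmax : p.asIdeal.IsMaximal := Ideal.IsPrime.isMaximal_of_ne_bot p.2 hp
    have h3 : p = IsLocalRing.closedPoint (X.presheaf.stalk x) := by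
      apply PrimeSpectrum.ext
      exact (IsLocalRing.eq_maximalIdeal hmax)
    apply hne
    rw [h3]
    exact Scheme.fromSpecStalk_closedPoint
  rw [← hp₀]
  congr 1
  exact PrimeSpectrum.ext (h2.trans h1'.symm)

/-- germs into the function field are compatible with restriction -/
theorem germToFunctionField_res [IsIntegral X] {U W : X.Opens} [Nonempty U] [Nonempty W]
    (h : W ≤ U) (a : Γ(X, U)) :
    X.germToFunctionField W (resf h a) = X.germToFunctionField U a :=
  X.presheaf.germ_res_apply (homOfLE h) (genericPoint X) _ a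

/-- the key algebraic step: a nonzero function on `U ⊓ V` divides (the restriction of) a function on
`V` not vanishing at `x` -/
theorem exists_dvd_res [IsIntegral X] {U V : X.Opens} (hUV : IsAffineOpen (U ⊓ V))
    (hV : IsAffineOpen V) (x : X) (hxV : x ∈ V) (hxU : x ∉ U)
    (hdim : ringKrullDim (X.presheaf.stalk x) ≤ 1) (q : Γ(X, U ⊓ V)) (hq : q ≠ 0) :
    ∃ (r : Γ(X, V)) (s' : Γ(X, U ⊓ V)), x ∈ X.basicOpen r ∧
      resf (inf_le_right : U ⊓ V ≤ V) r = s' * q := by
  classical
  by_contra hcon
  push Not at hcon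
  let M : Submonoid Γ(X, V) :=
    (IsUnit.submonoid (X.presheaf.stalk x)).comap (X.presheaf.germ V x hxV).hom
  have hM : ∀ r : Γ(X, V), r ∈ M ↔ x ∈ X.basicOpen r := fun r =>
    (Scheme.mem_basicOpen X r x hxV).symm
  let T : Submonoid Γ(X, U ⊓ V) :=
    M.map (X.presheaf.map (homOfLE (inf_le_right : U ⊓ V ≤ V)).op).hom
  have hdisj : Disjoint ((Ideal.span {q} : Ideal Γ(X, U ⊓ V)) : Set Γ(X, U ⊓ V)) T := by
    rw [Set.disjoint_left]
    rintro z hz ⟨r, hr, rfl⟩
    obtain ⟨s', hs'⟩ := Ideal.mem_span_singleton'.1 hz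
    exact hcon r s' ((hM r).1 hr) hs'.symm
  obtain ⟨p, hp, hqp, hpT⟩ := Ideal.exists_le_prime_disjoint _ T hdisj
  let P : PrimeSpectrum Γ(X, U ⊓ V) := ⟨p, hp⟩
  set y : X := hUV.fromSpec P with hy
  have hyW : y ∈ U ⊓ V := by
    have : y ∈ Set.range hUV.fromSpec := ⟨P, rfl⟩
    rw [hUV.range_fromSpec] at this
    exact this
  have hmem : ∀ f : Γ(X, U ⊓ V), y ∈ X.basicOpen f ↔ f ∉ p := by
    intro f
    have h1 : P ∈ hUV.fromSpec ⁻¹ᵁ X.basicOpen f ↔ P ∈ PrimeSpectrum.basicOpen f := by
      rw [hUV.fromSpec_preimage_basicOpen]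
      exact Iff.rfl
    exact h1
  have hspec : y ⤳ x := by
    rw [specializes_iff_forall_open]
    intro O hO hxO
    obtain ⟨r, hrO, hxr⟩ := hV.exists_basicOpen_le (V := ⟨O, hO⟩) ⟨x, hxO⟩ hxV
    have hrT : resf (inf_le_right : U ⊓ V ≤ V) r ∈ T := ⟨r, (hM r).2 hxr, rfl⟩
    have hrp : resf (inf_le_right : U ⊓ V ≤ V) r ∉ p := fun h' =>
      Set.disjoint_left.1 hpT h' hrT
    have h2 := (hmem _).2 hrp
    rw [Scheme.basicOpen_res] at h2
    exact hrO h2.2
  have hne : y ≠ x := fun h' => hxU (h' ▸ hyW.1)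
  have hgen := eq_genericPoint_of_specializes hdim hspec hne
  have hqy : y ∉ X.basicOpen q := by
    rw [hmem q, not_not]
    exact hqp (Ideal.subset_span rfl)
  apply hqy
  rw [Scheme.mem_basicOpen X q y hyW]
  have hinj : X.presheaf.germ (U ⊓ V) y hyW q ≠ 0 := by
    intro h0
    apply hq
    apply germ_injective_of_isIntegral X y hyW
    rw [h0, map_zero]
  have hfield : IsField (X.presheaf.stalk y) := by
    rw [hgen]
    exact (Field.toIsField X.functionField)
  letI := hfield.toField
  exact isUnit_iff_ne_zero.2 hinj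

/-- for `X` integral and separated, `U` affine open and `x ∉ U` with `dim O_{X,x} ≤ 1`, the function
field is generated by `Γ(X, U)` and `O_{X,x}` -/
theorem sup_range_eq_top [IsIntegral X] [X.IsSeparated] {U : X.Opens} (hU : IsAffineOpen U)
    [Nonempty U] (x : X) (hxU : x ∉ U) (hdim : ringKrullDim (X.presheaf.stalk x) ≤ 1) :
    (X.germToFunctionField U).hom.range ⊔
      (algebraMap (X.presheaf.stalk x) X.functionField).range = ⊤ := by
  obtain ⟨V, hV, hxV, -⟩ := Opens.isBasis_iff_nbhd.1 X.isBasis_affineOpens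
    (show x ∈ (⊤ : X.Opens) from trivial)
  have hW : IsAffineOpen (U ⊓ V) := hU.inf hV
  haveI : Nonempty V := ⟨⟨x, hxV⟩⟩
  have hηU : genericPoint X ∈ U :=
    ((genericPoint_spec X).mem_open_set_iff U.isOpen).mpr (by simpa using ‹Nonempty U›)
  have hηV : genericPoint X ∈ V :=
    ((genericPoint_spec X).mem_open_set_iff V.isOpen).mpr (by simpa using ‹Nonempty V›)
  haveI : Nonempty (U ⊓ V : X.Opens) := ⟨⟨genericPoint X, hηU, hηV⟩⟩
  set C : Subring X.functionField := (X.germToFunctionField U).hom.range ⊔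
      (algebraMap (X.presheaf.stalk x) X.functionField).range with hC
  have hA : ∀ a : Γ(X, U), X.germToFunctionField U a ∈ C := fun a =>
    (le_sup_left : _ ≤ C) ⟨a, rfl⟩
  have hB : ∀ b : X.presheaf.stalk x, algebraMap (X.presheaf.stalk x) X.functionField b ∈ C :=
    fun b => (le_sup_right : _ ≤ C) ⟨b, rfl⟩
  have hBV : ∀ r : Γ(X, V), X.germToFunctionField V r ∈ C := fun r => by
    rw [← Scheme.algebraMap_germ_eq_germToFunctionField (X := X) hxV r]
    exact hB _
  -- Step 1
  have h1 : ∀ p : Γ(X, U ⊓ V), X.germToFunctionField (U ⊓ V) p ∈ C := by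
    have hcl := Groth.Agent.Lib.R2H4SepGen.closure_range_inf_of_isSeparated hU hV
    have hle : Subring.closure (Set.range (X.presheaf.map (homOfLE (inf_le_left : U ⊓ V ≤ U)).op).hom ∪
      Set.range (X.presheaf.map (homOfLE (inf_le_right : U ⊓ V ≤ V)).op).hom) ≤
        C.comap (X.germToFunctionField (U ⊓ V)).hom := by
      rw [Subring.closure_le]
      rintro _ (⟨a, rfl⟩ | ⟨r, rfl⟩)
      · change X.germToFunctionField (U ⊓ V) (resf inf_le_left a) ∈ C
        rw [germToFunctionField_res]
        exact hA a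
      · change X.germToFunctionField (U ⊓ V) (resf inf_le_right r) ∈ C
        rw [germToFunctionField_res]
        exact hBV r
    rw [hcl] at hle
    exact fun p => hle (Subring.mem_top p)
  -- Step 3
  have h3 : ∀ q : Γ(X, U ⊓ V), q ≠ 0 → (X.germToFunctionField (U ⊓ V) q)⁻¹ ∈ C := by
    intro q hq
    obtain ⟨r, s', hxr, hrs⟩ := exists_dvd_res hW hV x hxV hxU hdim q hq
    have hu : IsUnit (X.presheaf.germ V x hxV r) := (Scheme.mem_basicOpen X r x hxV).1 hxr
    obtain ⟨v, hv⟩ := hu
    have e1 : X.germToFunctionField V r =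
        X.germToFunctionField (U ⊓ V) s' * X.germToFunctionField (U ⊓ V) q := by
      rw [← germToFunctionField_res (inf_le_right : U ⊓ V ≤ V) r, hrs, map_mul]
    have e2 : X.germToFunctionField V r *
        algebraMap (X.presheaf.stalk x) X.functionField (↑v⁻¹ : X.presheaf.stalk x) = 1 := by
      rw [← Scheme.algebraMap_germ_eq_germToFunctionField (X := X) hxV r, ← hv, ← map_mul,
        Units.mul_inv, map_one]
    have hq0 : X.germToFunctionField (U ⊓ V) q ≠ 0 := fun h0 =>
      hq (X.germToFunctionField_injective (U ⊓ V) (by rw [h0, map_zero]))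
    have e3 : (X.germToFunctionField (U ⊓ V) q)⁻¹ = X.germToFunctionField (U ⊓ V) s' *
        algebraMap (X.presheaf.stalk x) X.functionField (↑v⁻¹ : X.presheaf.stalk x) := by
      rw [e1] at e2
      field_simp
      rw [← e2]
      ring
    rw [e3]
    exact C.mul_mem (h1 s') (hB _)
  -- Step 2
  haveI := functionField_isFractionRing_of_isAffineOpen X (U ⊓ V) hW
  rw [eq_top_iff]
  intro z _
  obtain ⟨a, b, hb, rfl⟩ := IsFractionRing.div_surjective (A := Γ(X, U ⊓ V)) z
  have hb0 : b ≠ 0 := nonZeroDivisors.ne_zero hb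
  rw [div_eq_mul_inv]
  exact C.mul_mem (h1 a) (h3 b hb0)

section Algebra

variable {R K : Type u} [CommRing R] [Field K] [Algebra R K] [IsFractionRing R K]

/-- the range of `R → K` as a ring isomorphic to `R` -/
noncomputable def rangeEquiv : R ≃+* (algebraMap R K).range :=
  RingEquiv.ofBijective (algebraMap R K).rangeRestrict
    ⟨fun _ _ h => IsFractionRing.injective R K (congrArg Subtype.val h),
      (algebraMap R K).rangeRestrict_surjective⟩

theorem rangeEquiv_apply (a : R) : ((rangeEquiv (R := R) (K := K) a : (algebraMap R K).range) : K) =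
    algebraMap R K a := rfl

theorem isFractionRing_range : IsFractionRing (algebraMap R K).range K := by
  apply IsFractionRing.of_field
  intro z
  obtain ⟨a, b, hb, rfl⟩ := IsFractionRing.div_surjective (A := R) z
  exact ⟨⟨algebraMap R K a, a, rfl⟩, ⟨algebraMap R K b, b, rfl⟩, rfl⟩

theorem isNoetherianRing_range [IsNoetherianRing R] : IsNoetherianRing (algebraMap R K).range :=
  isNoetherianRing_of_ringEquiv R (rangeEquiv (R := R) (K := K))

theorem ringKrullDim_range : ringKrullDim (algebraMap R K).range = ringKrullDim R :=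
  (ringKrullDim_eq_of_ringEquiv (rangeEquiv (R := R) (K := K))).symm

theorem finite_maximalSpectrum_range [IsLocalRing R] :
    Finite (MaximalSpectrum (algebraMap R K).range) := by
  haveI : IsLocalRing (algebraMap R K).range := (rangeEquiv (R := R) (K := K)).isLocalRing
  infer_instance

theorem exists_mem_maximalIdeal_of_mem_jacobson [IsLocalRing R] (z : K)
    (hz : z ∈ (algebraMap R K).range)
    (hj : (⟨z, hz⟩ : (algebraMap R K).range) ∈ (⊥ : Ideal (algebraMap R K).range).jacobson) :
    ∃ b : R, b ∈ IsLocalRing.maximalIdeal R ∧ algebraMap R K b = z := by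
  haveI : IsLocalRing (algebraMap R K).range := (rangeEquiv (R := R) (K := K)).isLocalRing
  rw [IsLocalRing.jacobson_eq_maximalIdeal _ bot_ne_top] at hj
  obtain ⟨b, rfl⟩ := hz
  refine ⟨b, ?_, rfl⟩
  rw [IsLocalRing.mem_maximalIdeal, mem_nonunits_iff] at hj ⊢
  intro hb
  apply hj
  exact hb.map (rangeEquiv (R := R) (K := K))

end Algebra

/-- the function `f ∈ Γ(X, U)` whose inverse lies in the maximal ideals of the local rings at the
points outside `U` -/
theorem exists_function [IsIntegral X] [X.IsSeparated] {U : X.Opens} (hU : IsAffineOpen U)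
    [Nonempty U] (hfin : ((U : Set X)ᶜ).Finite)
    (hloc : ∀ x : X, x ∉ U → IsNoetherianRing (X.presheaf.stalk x) ∧
      ringKrullDim (X.presheaf.stalk x) = 1) :
    ∃ f : Γ(X, U), f ≠ 0 ∧ ∀ x : X, x ∉ U → ∃ b : X.presheaf.stalk x,
      b ∈ IsLocalRing.maximalIdeal (X.presheaf.stalk x) ∧
        algebraMap (X.presheaf.stalk x) X.functionField b * X.germToFunctionField U f = 1 := by
  classical
  haveI : Finite ↥((U : Set X)ᶜ) := hfin
  let r := Nat.card ↥((U : Set X)ᶜ)
  let e : ↥((U : Set X)ᶜ) ≃ Fin r := Finite.equivFin _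
  let x : Fin r → X := fun i => (e.symm i).1
  have hx : ∀ i, x i ∉ U := fun i => (e.symm i).2
  haveI := functionField_isFractionRing_of_isAffineOpen X U hU
  let A : Subring X.functionField := (algebraMap Γ(X, U) X.functionField).range
  let B : Fin r → Subring X.functionField := fun i =>
    (algebraMap (X.presheaf.stalk (x i)) X.functionField).range
  haveI : IsFractionRing A X.functionField := isFractionRing_range
  haveI : ∀ i, IsNoetherianRing (B i) := fun i => by
    haveI := (hloc (x i) (hx i)).1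
    exact isNoetherianRing_range
  haveI : ∀ i, IsFractionRing (B i) X.functionField := fun i => isFractionRing_range
  have hdim : ∀ i, ringKrullDim (B i) = 1 := fun i => by
    rw [ringKrullDim_range]; exact (hloc (x i) (hx i)).2
  have hsl : ∀ i, Finite (MaximalSpectrum (B i)) := fun i => finite_maximalSpectrum_range
  have hgen : ∀ i, A ⊔ B i = ⊤ := fun i =>
    sup_range_eq_top hU (x i) (hx i) (le_of_eq (hloc (x i) (hx i)).2)
  obtain ⟨z, ⟨f, rfl⟩, hz0, hz⟩ := Groth.Agent.S1640.result X.functionField A r B hdim hsl hgen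
  refine ⟨f, fun h0 => hz0 (by rw [h0, map_zero]), ?_⟩
  intro y hy
  obtain ⟨i, rfl⟩ : ∃ i, x i = y := ⟨e ⟨y, hy⟩, by simp [x]⟩
  obtain ⟨hzB, hj⟩ := hz i
  obtain ⟨b, hb, hbz⟩ := exists_mem_maximalIdeal_of_mem_jacobson _ hzB hj
  refine ⟨b, hb, ?_⟩
  rw [hbz]
  exact inv_mul_cancel₀ hz0

section Glue

open Groth.Agent.Lib.Helper23.SecTw Groth.Agent.Lib.R2H4CocycleGlue Groth.Agent.Lib.R2H4DivGlue

/-- two-section version of `R2H4DivGlue.exists_invertible_section` -/
theorem exists_invertible_sections {ι : Type*} (W : ι → X.Opens) (hcov : ∀ x : X, ∃ i, x ∈ W i)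
    (U : X.Opens) (hWU : ∀ i j, i ≠ j → W i ⊓ W j ≤ U) (a t : ∀ i, Γ(X, W i))
    (ha : ∀ i, IsUnit (resf (inf_le_left : W i ⊓ U ≤ W i) (a i)))
    (hat : ∀ i j, resf (inf_le_left : W i ⊓ W j ≤ W i) (t i) *
        resf (inf_le_right : W i ⊓ W j ≤ W j) (a j) =
      resf (inf_le_right : W i ⊓ W j ≤ W j) (t j) * resf (inf_le_left : W i ⊓ W j ≤ W i) (a i)) :
    ∃ (L : X.Modules) (s s' : Coh.structureModule X ⟶ L), PicF.IsInvertible L ∧
      (∀ i, CohB1.genLocus L s ⊓ W i = X.basicOpen (a i)) ∧
      (∀ i, CohB1.genLocus L s' ⊓ W i = X.basicOpen (t i)) := by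
  classical
  have hb : ∀ i, ∃ b : Γ(X, W i ⊓ U), resf (inf_le_left : W i ⊓ U ≤ W i) (a i) * b = 1 :=
    fun i => (ha i).exists_right_inv
  choose b hb using hb
  let c : ∀ i j, Γ(X, W i ⊓ W j) := fun i j =>
    if h : i = j then 1 else
      resf (inf_le_left : W i ⊓ W j ≤ W i) (a i) *
        resf (le_inf inf_le_right (hWU i j h) : W i ⊓ W j ≤ W j ⊓ U) (b j)
  have hc_eq : ∀ i, c i i = 1 := fun i => dif_pos rfl
  have hc_ne : ∀ i j (h : i ≠ j), c i j = resf (inf_le_left : W i ⊓ W j ≤ W i) (a i) *
        resf (le_inf inf_le_right (hWU i j h) : W i ⊓ W j ≤ W j ⊓ U) (b j) := fun i j h => dif_neg h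
  -- germ-level description on `U`
  have hgm : ∀ i j (y : X) (hi : y ∈ W i) (hj : y ∈ W j) (hU : y ∈ U),
      gm W c i j y hi hj = X.presheaf.germ (W i) y hi (a i) *
        X.presheaf.germ (W j ⊓ U) y ⟨hj, hU⟩ (b j) := by
    intro i j y hi hj hU
    by_cases h : i = j
    · subst h
      unfold gm
      rw [hc_eq, map_one]
      have h1 := congrArg (X.presheaf.germ (W i ⊓ U) y ⟨hi, hU⟩) (hb i)
      rw [map_mul, map_one] at h1
      rw [← h1]
      congr 1
      exact (X.presheaf.germ_res_apply (homOfLE inf_le_left) y ⟨hi, hU⟩ (a i))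
    · unfold gm
      rw [hc_ne i j h, map_mul]
      congr 1
      · exact X.presheaf.germ_res_apply (homOfLE inf_le_left) y ⟨hi, hj⟩ (a i)
      · exact X.presheaf.germ_res_apply (homOfLE (le_inf inf_le_right (hWU i j h))) y ⟨hi, hj⟩ (b j)
  have hgm1 : ∀ i (y : X) (hi : y ∈ W i), gm W c i i y hi hi = 1 := by
    intro i y hi
    unfold gm
    rw [hc_eq, map_one]
  have hba : ∀ j (y : X) (hj : y ∈ W j) (hU : y ∈ U),
      X.presheaf.germ (W j ⊓ U) y ⟨hj, hU⟩ (b j) * X.presheaf.germ (W j) y hj (a j) = 1 := by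
    intro j y hj hU
    have h1 := congrArg (X.presheaf.germ (W j ⊓ U) y ⟨hj, hU⟩) (hb j)
    rw [map_mul, map_one, mul_comm] at h1
    rw [← h1]
    congr 1
    exact (X.presheaf.germ_res_apply (homOfLE inf_le_left) y ⟨hj, hU⟩ (a j)).symm
  have hcoc : IsCoc W c := by
    refine ⟨fun i j => ?_, fun i j k y hi hj hk => ?_⟩
    · by_cases h : i = j
      · subst h; rw [hc_eq]; exact isUnit_one
      · rw [hc_ne i j h]
        refine IsUnit.mul ?_ ?_
        · have h1 : resf (inf_le_left : W i ⊓ W j ≤ W i) (a i) =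
              resf (le_inf inf_le_left (hWU i j h) : W i ⊓ W j ≤ W i ⊓ U)
                (resf (inf_le_left : W i ⊓ U ≤ W i) (a i)) := by
            rw [resf_resf]
          rw [h1]
          exact (ha i).map _
        · exact (IsUnit.of_mul_eq_one _ (by rw [mul_comm]; exact hb j)).map _
    · by_cases hU : y ∈ U
      · rw [hgm i k y hi hk hU, hgm i j y hi hj hU, hgm j k y hj hk hU, mul_assoc,
          ← mul_assoc (X.presheaf.germ (W j ⊓ U) y ⟨hj, hU⟩ (b j)), hba j y hj hU, one_mul]
      · have hij : i = j := by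
          by_contra h; exact hU (hWU i j h ⟨hi, hj⟩)
        have hjk : j = k := by
          by_contra h; exact hU (hWU j k h ⟨hj, hk⟩)
        subst hij; subst hjk
        rw [hgm1, one_mul]
  obtain ⟨L, ε, hL, hgen, htr⟩ := exists_glue W hcov c hcoc
  obtain ⟨s, hs⟩ := exists_section W hcov c L ε htr a (fun i j => by
    by_cases h : i = j
    · subst h; rw [hc_eq, one_mul]
    · rw [hc_ne i j h, mul_assoc]
      have h1 : resf (le_inf inf_le_right (hWU i j h) : W i ⊓ W j ≤ W j ⊓ U) (b j) *
          resf (inf_le_right : W i ⊓ W j ≤ W j) (a j) = 1 := by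
        have h2 : resf (le_inf inf_le_right (hWU i j h) : W i ⊓ W j ≤ W j ⊓ U)
            (resf (inf_le_left : W j ⊓ U ≤ W j) (a j)) *
            resf (le_inf inf_le_right (hWU i j h) : W i ⊓ W j ≤ W j ⊓ U) (b j) = 1 := by
          have := congrArg (resf (le_inf inf_le_right (hWU i j h) : W i ⊓ W j ≤ W j ⊓ U)) (hb j)
          simpa only [resf, map_mul, map_one] using this
        rw [resf_resf, mul_comm] at h2
        exact h2
      rw [h1, mul_one])
  obtain ⟨s', hs'⟩ := exists_section W hcov c L ε htr t (fun i j => by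
    by_cases h : i = j
    · subst h; rw [hc_eq, one_mul]
    · rw [hc_ne i j h]
      have h1 : resf (inf_le_right : W i ⊓ W j ≤ W j) (a j) *
          resf (le_inf inf_le_right (hWU i j h) : W i ⊓ W j ≤ W j ⊓ U) (b j) = 1 := by
        have h2 : resf (le_inf inf_le_right (hWU i j h) : W i ⊓ W j ≤ W j ⊓ U)
            (resf (inf_le_left : W j ⊓ U ≤ W j) (a j)) *
            resf (le_inf inf_le_right (hWU i j h) : W i ⊓ W j ≤ W j ⊓ U) (b j) = 1 := by
          have := congrArg (resf (le_inf inf_le_right (hWU i j h) : W i ⊓ W j ≤ W j ⊓ U)) (hb j)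
          simpa only [resf, map_mul, map_one] using this
        rw [resf_resf] at h2
        exact h2
      calc resf (inf_le_left : W i ⊓ W j ≤ W i) (t i)
          = resf (inf_le_left : W i ⊓ W j ≤ W i) (t i) *
              (resf (inf_le_right : W i ⊓ W j ≤ W j) (a j) *
                resf (le_inf inf_le_right (hWU i j h) : W i ⊓ W j ≤ W j ⊓ U) (b j)) := by
            rw [h1, mul_one]
        _ = (resf (inf_le_left : W i ⊓ W j ≤ W i) (t i) *
              resf (inf_le_right : W i ⊓ W j ≤ W j) (a j)) *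
                resf (le_inf inf_le_right (hWU i j h) : W i ⊓ W j ≤ W j ⊓ U) (b j) := by ring
        _ = _ := by rw [hat i j]; ring)
  exact ⟨L, s, s', hL, fun i => genLocus_inf_eq_of_isGen L s (W i) (ε i) (a i) (hgen i) (hs i),
    fun i => genLocus_inf_eq_of_isGen L s' (W i) (ε i) (t i) (hgen i) (hs' i)⟩

end Glue

section Main

open Groth.Agent.Lib.Helper23.SecTw

/-- S1645 -/
theorem main [IsIntegral X] [X.IsSeparated]
    (U : X.Opens) (hU : IsAffineOpen U) (hne : (U : Set X).Nonempty) (hfin : ((U : Set X)ᶜ).Finite)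
    (hloc : ∀ x : X, x ∉ U → IsNoetherianRing (X.presheaf.stalk x) ∧
      ringKrullDim (X.presheaf.stalk x) = 1) :
    ∃ (L : X.Modules) (s : Coh.structureModule X ⟶ L), PicF.IsInvertible L ∧
      Curv2.IsGloballyGenerated L ∧ CohB1.genLocus L s = U := by
  classical
  haveI : Nonempty U := ⟨⟨hne.some, hne.some_mem⟩⟩
  obtain ⟨f, hf0, hf⟩ := exists_function hU hfin hloc
  set φ : X.functionField := X.germToFunctionField U f with hφ
  have hη : ∀ O : X.Opens, (O : Set X).Nonempty → genericPoint X ∈ O := fun O hO =>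
    ((genericPoint_spec X).mem_open_set_iff O.isOpen).mpr (by simpa using hO)
  -- local data at the points outside `U`
  have hA : ∀ x : {x : X // x ∉ U}, ∃ (V : X.Opens) (g : Γ(X, V)) (hxV : x.1 ∈ V),
      (∀ y ∈ V, y ∉ U → y = x.1) ∧
      X.presheaf.germ V x.1 hxV g ∈ IsLocalRing.maximalIdeal (X.presheaf.stalk x.1) ∧
      algebraMap (X.presheaf.stalk x.1) X.functionField (X.presheaf.germ V x.1 hxV g) * φ = 1 := by
    rintro ⟨x, hx⟩
    obtain ⟨b, hb, hbφ⟩ := hf x hx
    obtain ⟨V₀, hxV₀, g₀, hg₀⟩ := X.presheaf.exists_germ_eq b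
    -- the open avoiding the other points outside `U`
    let T : Set X := (U : Set X)ᶜ \ {x}
    have hTfin : T.Finite := hfin.subset Set.sdiff_subset
    have hxT : x ∉ closure T := by
      have h1 : T = ⋃ t ∈ T, ({t} : Set X) := (Set.biUnion_of_singleton T).symm
      rw [h1, hTfin.closure_biUnion]
      simp only [Set.mem_iUnion, not_exists]
      intro t ht hxt
      have hspec : t ⤳ x := specializes_iff_mem_closure.2 hxt
      have hgen := eq_genericPoint_of_specializes (le_of_eq (hloc x hx).2) hspec ht.2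
      exact ht.1 (hgen ▸ hη U hne)
    let O : X.Opens := ⟨(closure T)ᶜ, isClosed_closure.isOpen_compl⟩
    have hxO : x ∈ O := hxT
    refine ⟨V₀ ⊓ O, resf inf_le_left g₀, ⟨hxV₀, hxO⟩, ?_, ?_, ?_⟩
    · intro y hy hyU
      by_contra hyx
      exact hy.2 (subset_closure ⟨hyU, hyx⟩)
    · have : X.presheaf.germ (V₀ ⊓ O) x ⟨hxV₀, hxO⟩ (resf inf_le_left g₀) = b := by
        rw [← hg₀]
        exact X.presheaf.germ_res_apply (homOfLE inf_le_left) x ⟨hxV₀, hxO⟩ g₀
      rw [this]; exact hb
    · have : X.presheaf.germ (V₀ ⊓ O) x ⟨hxV₀, hxO⟩ (resf inf_le_left g₀) = b := by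
        rw [← hg₀]
        exact X.presheaf.germ_res_apply (homOfLE inf_le_left) x ⟨hxV₀, hxO⟩ g₀
      rw [this]; exact hbφ
  choose V g hxV hV hgm hgφ using hA
  have hVne : ∀ x, (V x : Set X).Nonempty := fun x => ⟨x.1, hxV x⟩
  -- values in the function field
  have hgK : ∀ x (O : X.Opens) [Nonempty O] (h : O ≤ V x) [Nonempty (V x)],
      X.germToFunctionField O (resf h (g x)) * φ = 1 := by
    intro x O _ h _
    rw [germToFunctionField_res, ← Scheme.algebraMap_germ_eq_germToFunctionField (X := X) (hxV x)]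
    exact hgφ x
  have hfK : ∀ (O : X.Opens) [Nonempty O] (h : O ≤ U),
      X.germToFunctionField O (resf h f) = φ := fun O _ h => germToFunctionField_res h f
  -- equalities of functions can be checked in the function field
  have hinj : ∀ (O : X.Opens) [Nonempty O] (p q : Γ(X, O)),
      X.germToFunctionField O p = X.germToFunctionField O q → p = q :=
    fun O _ p q h => X.germToFunctionField_injective O h
  let W : Option {x : X // x ∉ U} → X.Opens := fun i => i.elim U V
  let a : ∀ i, Γ(X, W i) := fun i => match i with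
    | none => (1 : Γ(X, U))
    | some x => g x
  let t : ∀ i, Γ(X, W i) := fun i => match i with
    | none => f
    | some _ => (1 : Γ(X, V _))
  have hWne : ∀ i, (W i : Set X).Nonempty := fun i => match i with
    | none => hne
    | some x => hVne x
  have hcov : ∀ y : X, ∃ i, y ∈ W i := by
    intro y
    by_cases hy : y ∈ U
    · exact ⟨none, hy⟩
    · exact ⟨some ⟨y, hy⟩, hxV ⟨y, hy⟩⟩
  have hWU : ∀ i j, i ≠ j → W i ⊓ W j ≤ U := by
    intro i j hij
    match i, j with
    | none, none => exact absurd rfl hij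
    | none, some x => exact inf_le_left
    | some x, none => exact inf_le_right
    | some x, some x' =>
      rintro y ⟨hy, hy'⟩
      by_contra hyU
      have h1 := hV x y hy hyU
      have h2 := hV x' y hy' hyU
      exact hij (congrArg some (Subtype.ext (h1.symm.trans h2)))
  -- values of `a` and `t` in the function field
  have haK : ∀ i (O : X.Opens) [Nonempty O] (h : O ≤ W i),
      X.germToFunctionField O (resf h (a i)) * φ = match i with
        | none => φ
        | some _ => 1 := by
    intro i O _ h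
    match i with
    | none =>
      have h' : O ≤ U := h
      change X.germToFunctionField O (resf h' (1 : Γ(X, U))) * φ = φ
      have e1 : resf h' (1 : Γ(X, U)) = 1 := map_one _
      rw [e1, map_one, one_mul]
    | some x =>
      haveI : Nonempty (V x) := ⟨⟨x.1, hxV x⟩⟩
      exact hgK x O h
  have htK : ∀ i (O : X.Opens) [Nonempty O] (h : O ≤ W i),
      X.germToFunctionField O (resf h (t i)) = match i with
        | none => φ
        | some _ => 1 := by
    intro i O _ h
    match i with
    | none => exact hfK O h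
    | some x =>
      have h' : O ≤ V x := h
      change X.germToFunctionField O (resf h' (1 : Γ(X, V x))) = 1
      have e1 : resf h' (1 : Γ(X, V x)) = 1 := map_one _
      rw [e1, map_one]
  have hφ0 : φ ≠ 0 := fun h0 => hf0 (X.germToFunctionField_injective U (by rw [← hφ, h0, map_zero]))
  have hne2 : ∀ i j, Nonempty (W i ⊓ W j : X.Opens) := fun i j =>
    ⟨⟨genericPoint X, hη _ (hWne i), hη _ (hWne j)⟩⟩
  have ha : ∀ i, IsUnit (resf (inf_le_left : W i ⊓ U ≤ W i) (a i)) := by
    intro i
    haveI : Nonempty (W i ⊓ U : X.Opens) := ⟨⟨genericPoint X, hη _ (hWne i), hη _ hne⟩⟩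
    match i with
    | none =>
      change IsUnit (resf (inf_le_left : U ⊓ U ≤ U) (1 : Γ(X, U)))
      rw [resf, map_one]; exact isUnit_one
    | some x =>
      haveI : Nonempty (V x ⊓ U : X.Opens) := ⟨⟨genericPoint X, hη _ (hVne x), hη _ hne⟩⟩
      refine IsUnit.of_mul_eq_one (resf (inf_le_right : V x ⊓ U ≤ U) f) ?_
      apply hinj
      rw [map_mul, map_one, hfK]
      haveI : Nonempty (V x) := ⟨⟨x.1, hxV x⟩⟩
      exact hgK x _ inf_le_left
  have hat : ∀ i j, resf (inf_le_left : W i ⊓ W j ≤ W i) (t i) *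
        resf (inf_le_right : W i ⊓ W j ≤ W j) (a j) =
      resf (inf_le_right : W i ⊓ W j ≤ W j) (t j) * resf (inf_le_left : W i ⊓ W j ≤ W i) (a i) := by
    intro i j
    haveI := hne2 i j
    apply hinj
    apply mul_right_cancel₀ hφ0
    rw [map_mul, map_mul, mul_assoc, mul_assoc, haK j _ inf_le_right, haK i _ inf_le_left,
      htK i _ inf_le_left, htK j _ inf_le_right]
    match i, j with
    | none, none => rfl
    | none, some x => simp
    | some x, none => simp
    | some x, some x' => rfl
  obtain ⟨L, s, s', hL, hs, hs'⟩ := exists_invertible_sections W hcov U hWU a t ha hat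
  have hgl : CohB1.genLocus L s = U := by
    apply le_antisymm
    · intro y hy
      by_contra hyU
      have h1 : y ∈ CohB1.genLocus L s ⊓ W (some ⟨y, hyU⟩) := ⟨hy, hxV ⟨y, hyU⟩⟩
      rw [hs (some ⟨y, hyU⟩)] at h1
      have h2 : y ∈ X.basicOpen (g ⟨y, hyU⟩) := h1
      rw [Scheme.mem_basicOpen X _ y (hxV ⟨y, hyU⟩)] at h2
      exact (IsLocalRing.mem_maximalIdeal _).1 (hgm ⟨y, hyU⟩) h2
    · intro y hy
      have h1 := hs none
      have h2 : X.basicOpen (a none) = U := Scheme.basicOpen_of_isUnit _ isUnit_one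
      rw [h2] at h1
      have h3 : y ∈ CohB1.genLocus L s ⊓ W none := by rw [h1]; exact hy
      exact h3.1
  refine ⟨L, s, hL, ?_, hgl⟩
  apply isGloballyGenerated_of_forall_mem_genLocus
  intro y
  by_cases hy : y ∈ U
  · exact ⟨s, by rw [hgl]; exact hy⟩
  · refine ⟨s', ?_⟩
    have h1 := hs' (some ⟨y, hy⟩)
    have h2 : X.basicOpen (t (some ⟨y, hy⟩)) = V ⟨y, hy⟩ :=
      Scheme.basicOpen_of_isUnit _ isUnit_one
    rw [h2] at h1
    have h3 : y ∈ CohB1.genLocus L s' ⊓ W (some ⟨y, hy⟩) := by rw [h1]; exact hxV ⟨y, hy⟩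
    exact h3.1

end Main

end Groth.Agent.Lib.R2H4GGDivisor
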