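import Mathlib
import Groth.Prelude
import Groth.Agent.Lib.R2H4GGDivisor

/-!
# Assembling a globally generated invertible module from a function with poles (helper8)

`exists_invertible_gg` : `U ⊆ X` open, `F ∈ Γ(X, U)` such that every `z ∉ U` has an open neighbourhood `V`
meeting `Uᶜ` only in `z`, with `g ∈ Γ(X, V)` vanishing at `z` and `g * F = 1` on `V ∩ U`.  Then there are a
globally generated invertible module `L` and a section `s` with `X_s = U`.
-/

set_option autoImplicit false
set_option linter.style.haveILetI false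
universe u
open CategoryTheory CategoryTheory.Limits AlgebraicGeometry TopologicalSpace Opposite

namespace Groth.Agent.Lib.Helper8Dim1GeoA
open Groth.Agent.Lib.Helper6 Groth.Agent.Lib.Helper23.SecTw Groth.Agent.Lib.R2H4GGDivisor

variable {X : Scheme.{u}}

theorem exists_invertible_gg (U : X.Opens) (F : Γ(X, U))
    (h : ∀ z : {z : X // z ∉ U}, ∃ (V : X.Opens) (g : Γ(X, V)) (_ : z.1 ∈ V),
      (∀ y ∈ V, y ∉ U → y = z.1) ∧ z.1 ∉ X.basicOpen g ∧
      resf (inf_le_left : V ⊓ U ≤ V) g * resf (inf_le_right : V ⊓ U ≤ U) F = 1) :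
    ∃ (L : X.Modules) (s : Coh.structureModule X ⟶ L), PicF.IsInvertible L ∧
      Curv2.IsGloballyGenerated L ∧ CohB1.genLocus L s = U := by
  classical
  choose V g hzV hV hgz hgF using h
  let W : Option {x : X // x ∉ U} → X.Opens := fun i => i.elim U V
  let a : ∀ i, Γ(X, W i) := fun i => match i with
    | none => (1 : Γ(X, U))
    | some x => g x
  let t : ∀ i, Γ(X, W i) := fun i => match i with
    | none => F
    | some _ => (1 : Γ(X, V _))
  have hcov : ∀ y : X, ∃ i, y ∈ W i := by
    intro y
    by_cases hy : y ∈ U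
    · exact ⟨none, hy⟩
    · exact ⟨some ⟨y, hy⟩, hzV ⟨y, hy⟩⟩
  have hWU : ∀ i j, i ≠ j → W i ⊓ W j ≤ U := by
    intro i j hij
    match i, j with
    | none, none => exact absurd rfl hij
    | none, some x => exact inf_le_left
    | some x, none => exact inf_le_right
    | some x, some x' =>
      rintro y ⟨hy, hy'⟩
      by_contra hyU
      have h1 := hV x y hy hyU
      have h2 := hV x' y hy' hyU
      exact hij (congrArg some (Subtype.ext (h1.symm.trans h2)))
  -- `g x * F = 1` on every open inside `V x ⊓ U`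
  have hgF' : ∀ x (O : X.Opens) (h1 : O ≤ V x) (h2 : O ≤ U), resf h1 (g x) * resf h2 F = 1 := by
    intro x O h1 h2
    have h3 := congrArg (resf (le_inf h1 h2 : O ≤ V x ⊓ U)) (hgF x)
    rw [resf_mul, resf_resf, resf_resf] at h3
    rw [h3]; exact map_one _
  have ha : ∀ i, IsUnit (resf (inf_le_left : W i ⊓ U ≤ W i) (a i)) := by
    intro i
    match i with
    | none =>
      change IsUnit (resf (inf_le_left : U ⊓ U ≤ U) (1 : Γ(X, U)))
      rw [resf, map_one]; exact isUnit_one
    | some x =>
      exact IsUnit.of_mul_eq_one _ (hgF' x _ inf_le_left inf_le_right)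
  have hat : ∀ i j, resf (inf_le_left : W i ⊓ W j ≤ W i) (t i) *
        resf (inf_le_right : W i ⊓ W j ≤ W j) (a j) =
      resf (inf_le_right : W i ⊓ W j ≤ W j) (t j) * resf (inf_le_left : W i ⊓ W j ≤ W i) (a i) := by
    intro i j
    match i, j with
    | none, none => rfl
    | none, some x =>
      change resf (inf_le_left : U ⊓ V x ≤ U) F * resf (inf_le_right : U ⊓ V x ≤ V x) (g x) =
        resf (inf_le_right : U ⊓ V x ≤ V x) (1 : Γ(X, V x)) *
          resf (inf_le_left : U ⊓ V x ≤ U) (1 : Γ(X, U))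
      rw [mul_comm, hgF' x _ inf_le_right inf_le_left]
      simp
    | some x, none =>
      change resf (inf_le_left : V x ⊓ U ≤ V x) (1 : Γ(X, V x)) *
          resf (inf_le_right : V x ⊓ U ≤ U) (1 : Γ(X, U)) =
        resf (inf_le_right : V x ⊓ U ≤ U) F * resf (inf_le_left : V x ⊓ U ≤ V x) (g x)
      rw [mul_comm (resf _ F), hgF' x _ inf_le_left inf_le_right]
      simp
    | some x, some x' =>
      change resf (inf_le_left : V x ⊓ V x' ≤ V x) (1 : Γ(X, V x)) *
          resf (inf_le_right : V x ⊓ V x' ≤ V x') (g x') =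
        resf (inf_le_right : V x ⊓ V x' ≤ V x') (1 : Γ(X, V x')) *
          resf (inf_le_left : V x ⊓ V x' ≤ V x) (g x)
      by_cases hxx : x = x'
      · subst hxx
        rfl
      · have hle : V x ⊓ V x' ≤ U := hWU (some x) (some x') (fun h => hxx (Option.some.inj h))
        have e1 := hgF' x _ (inf_le_left : V x ⊓ V x' ≤ V x) hle
        have e2 := hgF' x' _ (inf_le_right : V x ⊓ V x' ≤ V x') hle
        have e3 : resf (inf_le_left : V x ⊓ V x' ≤ V x) (g x) =
            resf (inf_le_right : V x ⊓ V x' ≤ V x') (g x') := by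
          calc resf (inf_le_left : V x ⊓ V x' ≤ V x) (g x)
              = resf (inf_le_left : V x ⊓ V x' ≤ V x) (g x) *
                  (resf (inf_le_right : V x ⊓ V x' ≤ V x') (g x') * resf hle F) := by
                rw [e2, mul_one]
            _ = resf (inf_le_right : V x ⊓ V x' ≤ V x') (g x') *
                  (resf (inf_le_left : V x ⊓ V x' ≤ V x) (g x) * resf hle F) := by ring
            _ = _ := by rw [e1, mul_one]
        rw [e3]
        simp
  obtain ⟨L, s, s', hL, hs, hs'⟩ := exists_invertible_sections W hcov U hWU a t ha hat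
  have hgl : CohB1.genLocus L s = U := by
    apply le_antisymm
    · intro y hy
      by_contra hyU
      have h1 : y ∈ CohB1.genLocus L s ⊓ W (some ⟨y, hyU⟩) := ⟨hy, hzV ⟨y, hyU⟩⟩
      rw [hs (some ⟨y, hyU⟩)] at h1
      exact hgz ⟨y, hyU⟩ h1
    · intro y hy
      have h1 := hs none
      have h2 : X.basicOpen (a none) = U := Scheme.basicOpen_of_isUnit _ isUnit_one
      rw [h2] at h1
      have h3 : y ∈ CohB1.genLocus L s ⊓ W none := by rw [h1]; exact hy
      exact h3.1
  refine ⟨L, s, hL, ?_, hgl⟩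
  apply isGloballyGenerated_of_forall_mem_genLocus
  intro y
  by_cases hy : y ∈ U
  · exact ⟨s, by rw [hgl]; exact hy⟩
  · refine ⟨s', ?_⟩
    have h1 := hs' (some ⟨y, hy⟩)
    have h2 : X.basicOpen (t (some ⟨y, hy⟩)) = V ⟨y, hy⟩ :=
      Scheme.basicOpen_of_isUnit _ isUnit_one
    rw [h2] at h1
    have h3 : y ∈ CohB1.genLocus L s' ⊓ W (some ⟨y, hy⟩) := by rw [h1]; exact hzV ⟨y, hy⟩
    exact h3.1

end Groth.Agent.Lib.Helper8Dim1GeoA
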