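import Mathlib
import Groth.Prelude
import Groth.Agent.Lib.R2H1LocQuot
import Groth.Agent.Lib.Helper6QCohQcqs
import Groth.Agent.Lib.Helper8Dim1AlgA

/-!
# Local inverses of a function with poles along all branches (helper8)

`exists_local_inverse` : `z ∉ U` with Noetherian local ring, `V ∋ z` affine with `V ∩ U = D(b)` and `V ∖ U = {z}`.
If `f ∈ Γ(X, U)` has, at every generization `η ∈ U` of `z`, value the inverse of the value of an element of
`m_z`, then some positive power `f ^ n` is, on `V' ∩ U` for a neighbourhood `V'` of `z`, the inverse of a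
function on `V'` vanishing at `z`.
-/

set_option autoImplicit false
set_option linter.style.haveILetI false
universe u
open CategoryTheory CategoryTheory.Limits AlgebraicGeometry TopologicalSpace Opposite IsLocalRing

namespace Groth.Agent.Lib.Helper8Dim1GeoB
open Groth.Agent.Lib.Helper6

variable {X : Scheme.{u}}

theorem rmul {A B : X.Opens} (h : B ≤ A) (a b : Γ(X, A)) :
    resf h (a * b) = resf h a * resf h b := map_mul _ _ _

theorem rsub {A B : X.Opens} (h : B ≤ A) (a b : Γ(X, A)) :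
    resf h (a - b) = resf h a - resf h b := map_sub _ _ _

theorem rpow {A B : X.Opens} (h : B ≤ A) (a : Γ(X, A)) (n : ℕ) :
    resf h (a ^ n) = resf h a ^ n := map_pow _ _ _

theorem rzero {A B : X.Opens} (h : B ≤ A) : resf h (0 : Γ(X, A)) = 0 := map_zero _

/-- evaluation of a section at a point, as a ring homomorphism -/
noncomputable def ev (U : X.Opens) (η : X) (hη : η ∈ U) : Γ(X, U) →+* X.residueField η :=
  (X.presheaf.germ U η hη ≫ X.residue η).hom

theorem ev_resf {U V : X.Opens} (h : V ≤ U) (η : X) (hη : η ∈ V) (r : Γ(X, U)) :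
    ev V η hη (resf h r) = ev U η (h hη) r := by
  unfold ev
  rw [CommRingCat.hom_comp, RingHom.comp_apply, CommRingCat.hom_comp, RingHom.comp_apply]
  congr 1
  exact X.presheaf.germ_res_apply (homOfLE h) η hη r

theorem specMap_germ {V : X.Opens} (z η : X) (h : η ⤳ z) (hzV : z ∈ V) (r : Γ(X, V)) :
    Cyc.specMap z η h (X.presheaf.germ V z hzV r) = ev V η (h.mem_open V.2 hzV) r := by
  unfold Cyc.specMap ev
  rw [CommRingCat.hom_comp, RingHom.comp_apply, CommRingCat.hom_comp, RingHom.comp_apply]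
  congr 1
  exact TopCat.Presheaf.germ_stalkSpecializes_apply X.presheaf hzV h r

theorem ev_eq_zero_iff {V : X.Opens} (η : X) (hη : η ∈ V) (r : Γ(X, V)) :
    ev V η hη r = 0 ↔ η ∉ X.basicOpen r := by
  unfold ev
  rw [CommRingCat.hom_comp, RingHom.comp_apply, Scheme.mem_basicOpen X r η hη]
  exact IsLocalRing.residue_eq_zero_iff _ |>.trans (by rw [mem_maximalIdeal, mem_nonunits_iff])

theorem exists_local_inverse (U : X.Opens) (z : X) (hzU : z ∉ U)
    (hN : IsNoetherianRing (X.presheaf.stalk z))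
    (V : X.Opens) (hV : IsAffineOpen V) (b : Γ(X, V)) (hzV : z ∈ V) (hb : X.basicOpen b = V ⊓ U)
    (hVz : ∀ y ∈ V, y ∉ U → y = z) (f : Γ(X, U))
    (hf : ∀ (η : X) (h : η ⤳ z) (hηU : η ∈ U), ∃ β ∈ maximalIdeal (X.presheaf.stalk z),
      Cyc.specMap z η h β * ev U η hηU f = 1) :
    ∃ (n : ℕ) (_ : 0 < n) (V' : X.Opens) (g : Γ(X, V')) (_ : z ∈ V'), V' ≤ V ∧
      z ∉ X.basicOpen g ∧
      resf (inf_le_left : V' ⊓ U ≤ V') g * resf (inf_le_right : V' ⊓ U ≤ U) (f ^ n) = 1 := by
  haveI := hN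
  set bz := X.presheaf.germ V z hzV b with hbz
  have hzb : z ∉ X.basicOpen b := by rw [hb]; exact fun h => hzU h.2
  have hbm : bz ∈ maximalIdeal (X.presheaf.stalk z) := by
    rw [mem_maximalIdeal, mem_nonunits_iff]
    rwa [Scheme.mem_basicOpen X b z hzV] at hzb
  -- the dictionary between primes and generizations
  have hdict : ∀ (p : Ideal (X.presheaf.stalk z)) (hp : p.IsPrime),
      ∃ (η : X) (h : η ⤳ z), RingHom.ker (Cyc.specMap z η h) = p ∧
        (p ≠ maximalIdeal (X.presheaf.stalk z) → η ≠ z) := by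
    intro p hp
    have h : X.fromSpecStalk z ⟨p, hp⟩ ⤳ z := by
      have : X.fromSpecStalk z ⟨p, hp⟩ ∈ Set.range (X.fromSpecStalk z) := ⟨_, rfl⟩
      rwa [Scheme.range_fromSpecStalk] at this
    exact ⟨_, h, Groth.Agent.Lib.R2H1.LocQuot.ker_specMap_fromSpecStalk z p h, fun hpm =>
      Groth.Agent.Lib.R2H1.LocQuot.fromSpecStalk_ne_of_ne_maximal z ⟨p, hp⟩ hpm⟩
  have hmem : ∀ (η : X) (h : η ⤳ z), bz ∈ RingHom.ker (Cyc.specMap z η h) ↔ η ∉ X.basicOpen b := by
    intro η h
    rw [RingHom.mem_ker, hbz, specMap_germ z η h hzV b, ev_eq_zero_iff]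
  have hbp : ∀ p : Ideal (X.presheaf.stalk z), p.IsPrime → bz ∈ p →
      p = maximalIdeal (X.presheaf.stalk z) := by
    intro p hp hbp
    by_contra hpm
    obtain ⟨η, h, hker, hne⟩ := hdict p hp
    rw [← hker, hmem η h, hb] at hbp
    have hηV : η ∈ V := h.mem_open V.2 hzV
    exact hne hpm (hVz η hηV fun hηU => hbp ⟨hηV, hηU⟩)
  -- write `f` as a fraction on `D(b)`
  have hDU : X.basicOpen b ≤ U := hb.le.trans inf_le_right
  haveI := hV.isLocalization_basicOpen b
  obtain ⟨⟨e, ⟨_, j, rfl⟩⟩, hfe⟩ := IsLocalization.surj (Submonoid.powers b) (resf hDU f)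
  have hfe' : resf hDU f * resf (X.basicOpen_le b) b ^ j = resf (X.basicOpen_le b) e := by
    have : resf hDU f * algebraMap Γ(X, V) Γ(X, X.basicOpen b) (b ^ j) =
        algebraMap Γ(X, V) Γ(X, X.basicOpen b) e := hfe
    rw [map_pow] at this
    exact this
  set ez := X.presheaf.germ V z hzV e with hez
  -- the hypothesis of the algebraic lemma
  have hloc : ∀ p : Ideal (X.presheaf.stalk z), p.IsPrime → bz ∉ p →
      ∃ β ∈ maximalIdeal (X.presheaf.stalk z), β * ez - bz ^ j ∈ p := by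
    intro p hp hbp'
    obtain ⟨η, h, hker, -⟩ := hdict p hp
    rw [← hker, hmem η h, not_not] at hbp'
    have hηU : η ∈ U := hDU hbp'
    obtain ⟨β, hβ, hβf⟩ := hf η h hηU
    refine ⟨β, hβ, ?_⟩
    rw [← hker, RingHom.mem_ker, map_sub, map_mul, map_pow, hez, hbz, specMap_germ z η h hzV e,
      specMap_germ z η h hzV b]
    have h1 := congrArg (ev (X.basicOpen b) η hbp') hfe'
    rw [map_mul, map_pow, ev_resf, ev_resf, ev_resf] at h1
    rw [← h1, ← mul_assoc, hβf, one_mul, sub_self]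
  obtain ⟨n, hn, β, hβ, k, hk⟩ :=
    Groth.Agent.Lib.Helper8Dim1AlgA.exists_pow_mul_sub_eq_zero bz hbm hbp ez j hloc
  -- spreading out
  obtain ⟨V₁, hzV₁, β₀, hβ₀⟩ := X.presheaf.exists_germ_eq β
  set V₂ : X.Opens := V₁ ⊓ V with hV₂
  have hzV₂ : z ∈ V₂ := ⟨hzV₁, hzV⟩
  set σ : Γ(X, V₂) := resf (inf_le_right : V₂ ≤ V) b ^ k *
    (resf (inf_le_left : V₂ ≤ V₁) β₀ * resf (inf_le_right : V₂ ≤ V) e ^ n -
      resf (inf_le_right : V₂ ≤ V) b ^ (j * n)) with hσ
  have hσz : X.presheaf.germ V₂ z hzV₂ σ = X.presheaf.germ V₂ z hzV₂ 0 := by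
    have g1 : ∀ r : Γ(X, V), X.presheaf.germ V₂ z hzV₂ (resf (inf_le_right : V₂ ≤ V) r) =
        X.presheaf.germ V z hzV r :=
      fun r => X.presheaf.germ_res_apply (homOfLE (inf_le_right : V₂ ≤ V)) z hzV₂ r
    have g2 : X.presheaf.germ V₂ z hzV₂ (resf (inf_le_left : V₂ ≤ V₁) β₀) = β := by
      rw [← hβ₀]
      exact X.presheaf.germ_res_apply (homOfLE (inf_le_left : V₂ ≤ V₁)) z hzV₂ β₀
    rw [hσ, map_mul, map_sub, map_mul, map_pow, map_pow, map_pow, g1, g1, g2, map_zero]
    exact hk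
  obtain ⟨V', hzV', i₁, i₂, hi⟩ := X.presheaf.germ_eq z hzV₂ hzV₂ σ 0 hσz
  have hV'₂ : V' ≤ V₂ := leOfHom i₁
  have hV'V : V' ≤ V := hV'₂.trans inf_le_right
  have hσ0 : resf hV'₂ σ = 0 := by
    have : X.presheaf.map i₁.op σ = X.presheaf.map i₂.op 0 := hi
    rw [map_zero] at this
    exact this
  refine ⟨n, hn, V', resf (hV'₂.trans inf_le_left) β₀, hzV', hV'V, ?_, ?_⟩
  · rw [Scheme.mem_basicOpen X _ z hzV']
    have : X.presheaf.germ V' z hzV' (resf (hV'₂.trans inf_le_left) β₀) = β := by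
      rw [← hβ₀]
      exact X.presheaf.germ_res_apply (homOfLE (hV'₂.trans inf_le_left)) z hzV' β₀
    rw [this]
    exact (mem_maximalIdeal _).1 hβ
  · -- work on `O = V' ⊓ U`
    set O : X.Opens := V' ⊓ U with hO
    have hOD : O ≤ X.basicOpen b := by
      rw [hb]; exact inf_le_inf_right U hV'V
    have hOV : O ≤ V := inf_le_left.trans hV'V
    set bO := resf hOV b with hbO
    set eO := resf hOV e with heO
    set fO := resf (inf_le_right : O ≤ U) f with hfO
    set gO := resf (inf_le_left : O ≤ V') (resf (hV'₂.trans inf_le_left) β₀) with hgO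
    have hbu : IsUnit bO := by
      have h1 : bO = resf hOD (resf (X.basicOpen_le b) b) := by rw [resf_resf]
      rw [h1]
      exact (RingedSpace.isUnit_res_basicOpen (X := X.toRingedSpace) b).map _
    have e1 : fO * bO ^ j = eO := by
      have := congrArg (resf hOD) hfe'
      rw [rmul, rpow, resf_resf, resf_resf, resf_resf] at this
      exact this
    have e2 : bO ^ k * (gO * eO ^ n - bO ^ (j * n)) = 0 := by
      have := congrArg (resf (inf_le_left : O ≤ V')) hσ0
      rw [rzero, resf_resf, hσ, rmul, rsub, rmul, rpow, rpow, rpow, resf_resf,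
        resf_resf, resf_resf] at this
      rw [hgO, resf_resf]
      exact this
    have e3 : gO * eO ^ n = bO ^ (j * n) := by
      have := (hbu.pow k).mul_right_eq_zero.1 e2
      exact sub_eq_zero.1 this
    rw [rpow]
    change gO * fO ^ n = 1
    have e4 : (gO * fO ^ n - 1) * bO ^ (j * n) = 0 := by
      rw [sub_mul, one_mul, mul_assoc, pow_mul, ← mul_pow, e1, ← pow_mul, e3, sub_self]
    have := (hbu.pow (j * n)).mul_left_eq_zero.1 e4
    exact sub_eq_zero.1 this

end Groth.Agent.Lib.Helper8Dim1GeoB
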