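import Mathlib
import Groth.Prelude
import Groth.Agent.S1640
import Groth.Agent.Lib.R2H4SepGen
import Groth.Agent.Lib.R2H4AffPts
import Groth.Agent.Lib.Helper8Dim1GeoB
import Groth.Agent.Lib.Helper8Dim1AlgB

/-!
# A function with poles along all branches at the points outside an affine open (helper8)

`X` locally Noetherian and separated, `U` an affine open whose complement is a finite set of closed points with
local rings of dimension `≤ 1`.

* `exists_pole_at_generic` : for `η ∈ U` there is `f ∈ Γ(X, U)` not vanishing at `η` whose value at `η` is the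
  inverse of the value of an element of `m_z`, for every `z ∉ U` with `η ⤳ z`.
* `exists_function` : one `f` which works for all `η` at once.
-/

set_option autoImplicit false
set_option linter.style.haveILetI false
universe u
open CategoryTheory CategoryTheory.Limits AlgebraicGeometry TopologicalSpace Opposite IsLocalRing

namespace Groth.Agent.Lib.Helper8Dim1GeoC
open Groth.Agent.Lib.Helper6 Groth.Agent.Lib.Helper8Dim1GeoB Groth.Agent.Lib.Helper8Dim1AlgB

variable {X : Scheme.{u}}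

theorem hasFrac_ev {U : X.Opens} (hU : IsAffineOpen U) (η : X) (hη : η ∈ U) :
    HasFrac (ev U η hη) := by
  intro y
  obtain ⟨t, rfl⟩ := X.residue_surjective η y
  letI := X.presheaf.algebra_section_stalk (U := U) ⟨η, hη⟩
  haveI := hU.isLocalization_stalk ⟨η, hη⟩
  obtain ⟨⟨a, s⟩, hts⟩ := IsLocalization.surj (hU.primeIdealOf ⟨η, hη⟩).asIdeal.primeCompl t
  have hu : IsUnit (X.presheaf.germ U η hη s.1) :=
    IsLocalization.map_units (X.presheaf.stalk η) s
  refine ⟨a, s.1, ?_, ?_⟩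
  · unfold ev
    rw [CommRingCat.hom_comp, RingHom.comp_apply]
    exact (IsLocalRing.residue_ne_zero_iff_isUnit _).2 hu
  · unfold ev
    rw [CommRingCat.hom_comp, RingHom.comp_apply, RingHom.comp_apply]
    have : t * X.presheaf.germ U η hη s.1 = X.presheaf.germ U η hη a := hts
    rw [← this, map_mul]

theorem hasFrac_specMap (z η : X) (h : η ⤳ z) : HasFrac (Cyc.specMap z η h) := by
  intro y
  obtain ⟨t, rfl⟩ := X.residue_surjective η y
  letI := (X.presheaf.stalkSpecializes h).hom.toAlgebra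
  haveI := Groth.Agent.Lib.R2H1.LocQuot.isLocalization_stalkSpecializes z η h
  obtain ⟨⟨c, d⟩, htd⟩ := IsLocalization.surj (RingHom.ker (Cyc.specMap z η h)).primeCompl t
  refine ⟨c, d.1, ?_, ?_⟩
  · intro h0
    exact d.2 ((RingHom.mem_ker).2 h0)
  · have : t * (X.presheaf.stalkSpecializes h).hom d.1 = (X.presheaf.stalkSpecializes h).hom c := htd
    change X.residue η t * X.residue η ((X.presheaf.stalkSpecializes h).hom d.1) =
      X.residue η ((X.presheaf.stalkSpecializes h).hom c)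
    rw [← this, map_mul]

theorem ker_specMap_ne (z η : X) (h : η ⤳ z) (hne : η ≠ z) :
    RingHom.ker (Cyc.specMap z η h) ≠ maximalIdeal (X.presheaf.stalk z) := by
  intro hk
  apply hne
  have h1 := Groth.Agent.Lib.R2H1.LocQuot.fromSpecStalk_ker_specMap z η h
  have h2 : (⟨RingHom.ker (Cyc.specMap z η h), inferInstance⟩ : PrimeSpectrum (X.presheaf.stalk z)) =
      closedPoint (X.presheaf.stalk z) := PrimeSpectrum.ext hk
  rw [← h1]
  exact (congrArg (X.fromSpecStalk z) h2).trans (Scheme.fromSpecStalk_closedPoint (x := z))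

/-- for `X` separated, `U` affine open and `z ∉ U` with `dim O_{X,z} ≤ 1`, the residue field at a
generization `η ∈ U` of `z` is generated by the values of `Γ(X, U)` and of `O_{X,z}`. -/
theorem sup_range_eq_top [IsLocallyNoetherian X] [X.IsSeparated] {U : X.Opens}
    (hU : IsAffineOpen U) (z : X) (hzU : z ∉ U) (hd : ringKrullDim (X.presheaf.stalk z) ≤ 1)
    {V : X.Opens} (hV : IsAffineOpen V) (b : Γ(X, V)) (hzV : z ∈ V) (hb : X.basicOpen b = V ⊓ U)
    (η : X) (h : η ⤳ z) (hη : η ∈ U) :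
    (ev U η hη).range ⊔ (Cyc.specMap z η h).range = ⊤ := by
  have hηV : η ∈ V := h.mem_open V.2 hzV
  set C : Subring (X.residueField η) := (ev U η hη).range ⊔ (Cyc.specMap z η h).range with hC
  have hA : ∀ a : Γ(X, U), ev U η hη a ∈ C := fun a => (le_sup_left : _ ≤ C) ⟨a, rfl⟩
  have hB : ∀ β : X.presheaf.stalk z, Cyc.specMap z η h β ∈ C := fun β =>
    (le_sup_right : _ ≤ C) ⟨β, rfl⟩
  have hBV : ∀ r : Γ(X, V), ev V η hηV r ∈ C := fun r => by
    rw [← specMap_germ z η h hzV r]; exact hB _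
  have h1 : ∀ p : Γ(X, U ⊓ V), ev (U ⊓ V) η ⟨hη, hηV⟩ p ∈ C := by
    have hcl := Groth.Agent.Lib.R2H4SepGen.closure_range_inf_of_isSeparated hU hV
    have hle : Subring.closure
        (Set.range (X.presheaf.map (homOfLE (inf_le_left : U ⊓ V ≤ U)).op).hom ∪
          Set.range (X.presheaf.map (homOfLE (inf_le_right : U ⊓ V ≤ V)).op).hom) ≤
        C.comap (ev (U ⊓ V) η ⟨hη, hηV⟩) := by
      rw [Subring.closure_le]
      rintro _ (⟨a, rfl⟩ | ⟨r, rfl⟩)
      · change ev (U ⊓ V) η ⟨hη, hηV⟩ (resf inf_le_left a) ∈ C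
        rw [ev_resf]; exact hA a
      · change ev (U ⊓ V) η ⟨hη, hηV⟩ (resf inf_le_right r) ∈ C
        rw [ev_resf]; exact hBV r
    rw [hcl] at hle
    exact fun p => hle (Subring.mem_top p)
  -- the inverse of the value of `b`
  have hηb : η ∈ X.basicOpen b := by rw [hb]; exact ⟨hηV, hη⟩
  have hbinv : (ev V η hηV b)⁻¹ ∈ C := by
    have hle : U ⊓ V ≤ X.basicOpen b := by rw [hb, inf_comm]
    have hu : IsUnit (resf (hle.trans (X.basicOpen_le b)) b) := by
      have h1 : resf (hle.trans (X.basicOpen_le b)) b = resf hle (resf (X.basicOpen_le b) b) := by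
        rw [resf_resf]
      rw [h1]
      exact (RingedSpace.isUnit_res_basicOpen (X := X.toRingedSpace) b).map _
    obtain ⟨v, hv⟩ := hu
    have h2 : ev (U ⊓ V) η ⟨hη, hηV⟩ (↑v⁻¹ : Γ(X, U ⊓ V)) * ev V η hηV b = 1 := by
      rw [← ev_resf (hle.trans (X.basicOpen_le b)) η ⟨hη, hηV⟩ b, ← hv, ← map_mul, Units.inv_mul,
        map_one]
    rw [← eq_inv_of_mul_eq_one_left h2]
    exact h1 _
  have hb0 : ev V η hηV b ≠ 0 := by
    rw [ne_eq, ev_eq_zero_iff, not_not]; exact hηb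
  have hzb : X.presheaf.germ V z hzV b ∈ maximalIdeal (X.presheaf.stalk z) := by
    rw [mem_maximalIdeal, mem_nonunits_iff, ← Scheme.mem_basicOpen X b z hzV, hb]
    exact fun h => hzU h.2
  rw [eq_top_iff]
  intro y _
  obtain ⟨c, d, hd0, hy⟩ := hasFrac_specMap z η h y
  obtain ⟨n₀, hn₀⟩ := Groth.Agent.Lib.Helper8Dim1AlgA.exists_forall_pow_mul_eq hd (Cyc.specMap z η h)
    (X.presheaf.germ V z hzV b) hzb 1 d hd0
  obtain ⟨β', -, hβ'⟩ := hn₀ n₀ le_rfl
  rw [specMap_germ z η h hzV b, map_one] at hβ'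
  have e1 : (Cyc.specMap z η h d)⁻¹ = Cyc.specMap z η h β' * ((ev V η hηV b)⁻¹) ^ n₀ := by
    rw [hβ', inv_pow]
    field_simp
  have hy' : y = Cyc.specMap z η h c * (Cyc.specMap z η h β' * ((ev V η hηV b)⁻¹) ^ n₀) := by
    rw [← e1, ← hy]
    field_simp
  rw [hy']
  exact C.mul_mem (hB c) (C.mul_mem (hB β') (C.pow_mem hbinv n₀))

theorem discreteTopology_compl (U : X.Opens) (hfin : ((U : Set X)ᶜ).Finite)
    (hcl : ∀ z : X, z ∉ U → IsClosed ({z} : Set X)) : DiscreteTopology ↥((U : Set X)ᶜ) := by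
  haveI : Finite ↥((U : Set X)ᶜ) := hfin
  haveI : T1Space ↥((U : Set X)ᶜ) := ⟨fun x => by
    have : ({x} : Set ↥((U : Set X)ᶜ)) = Subtype.val ⁻¹' {x.1} := by
      ext y; simp [Subtype.ext_iff]
    rw [this]
    exact (hcl x.1 x.2).preimage continuous_subtype_val⟩
  infer_instance

theorem exists_pole_at_generic [IsLocallyNoetherian X] [X.IsSeparated] (U : X.Opens)
    (hU : IsAffineOpen U) (hfin : ((U : Set X)ᶜ).Finite)
    (hcl : ∀ z : X, z ∉ U → IsClosed ({z} : Set X))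
    (hdim : ∀ z : X, z ∉ U → ringKrullDim (X.presheaf.stalk z) ≤ 1) (η : X) (hη : η ∈ U) :
    ∃ f : Γ(X, U), ev U η hη f ≠ 0 ∧ ∀ (z : X) (_ : z ∉ U) (h : η ⤳ z),
      ∃ β ∈ maximalIdeal (X.presheaf.stalk z), Cyc.specMap z η h β * ev U η hη f = 1 := by
  classical
  have hdisc := discreteTopology_compl U hfin hcl
  let T : Set X := {z | z ∉ U ∧ η ⤳ z}
  have hT : T.Finite := hfin.subset fun z hz => hz.1
  haveI : Finite T := hT
  let r := Nat.card T
  let e : T ≃ Fin r := Finite.equivFin _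
  let zz : Fin r → X := fun i => (e.symm i).1
  have hz : ∀ i, zz i ∉ U := fun i => (e.symm i).2.1
  have hs : ∀ i, η ⤳ zz i := fun i => (e.symm i).2.2
  have hne : ∀ i, η ≠ zz i := fun i h => hz i (h ▸ hη)
  let A : Subring (X.residueField η) := (ev U η hη).range
  let B : Fin r → Subring (X.residueField η) := fun i => (Cyc.specMap (zz i) η (hs i)).range
  haveI : IsFractionRing A (X.residueField η) := isFractionRing_range _ (hasFrac_ev hU η hη)
  haveI : ∀ i, IsNoetherianRing (B i) := fun i => isNoetherianRing_range _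
  haveI : ∀ i, IsFractionRing (B i) (X.residueField η) := fun i =>
    isFractionRing_range _ (hasFrac_specMap (zz i) η (hs i))
  have hdimB : ∀ i, ringKrullDim (B i) = 1 := fun i =>
    ringKrullDim_range_eq_one _ (hdim _ (hz i)) (ker_specMap_ne (zz i) η (hs i) (hne i))
  have hsl : ∀ i, Finite (MaximalSpectrum (B i)) := fun i => by
    haveI : IsLocalRing (B i) := isLocalRing_range _
    infer_instance
  have hgen : ∀ i, A ⊔ B i = ⊤ := fun i => by
    obtain ⟨V, b, hV, hzV, hb, -⟩ := Groth.Agent.Lib.R2H4AffPts.exists_punctured_eq_basicOpen U hdisc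
      (zz i) (hz i) inferInstance (hdim _ (hz i))
    exact sup_range_eq_top hU (zz i) (hz i) (hdim _ (hz i)) hV b hzV hb η (hs i) hη
  obtain ⟨x, ⟨f, rfl⟩, hx0, hx⟩ := Groth.Agent.S1640.result (X.residueField η) A r B hdimB hsl hgen
  refine ⟨f, hx0, ?_⟩
  intro z hzU h
  obtain ⟨i, rfl⟩ : ∃ i, zz i = z := ⟨e ⟨z, hzU, h⟩, by simp [zz]⟩
  obtain ⟨⟨β, hβ⟩, hj⟩ := hx i
  have hβ' : Cyc.specMap (zz i) η (hs i) β = (ev U η hη f)⁻¹ := hβ
  refine ⟨β, ?_, ?_⟩
  · apply mem_maximalIdeal_of_mem_jacobson (Cyc.specMap (zz i) η (hs i))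
    convert hj using 1
    exact Subtype.ext hβ'
  · rw [hβ']
    exact inv_mul_cancel₀ hx0

/-- generizations of a point with one-dimensional local ring, other than the point, are pairwise
incomparable -/
theorem eq_of_specializes_of_specializes [IsLocallyNoetherian X] (z : X)
    (hd : ringKrullDim (X.presheaf.stalk z) ≤ 1) (ξ η : X) (hξη : ξ ⤳ η) (h : η ⤳ z) (hne : η ≠ z) :
    ξ = η := by
  have hξ : ξ ⤳ z := hξη.trans h
  have e1 := Groth.Agent.Lib.R2H1.LocQuot.fromSpecStalk_ker_specMap z ξ hξ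
  have e2 := Groth.Agent.Lib.R2H1.LocQuot.fromSpecStalk_ker_specMap z η h
  have hle : RingHom.ker (Cyc.specMap z ξ hξ) ≤ RingHom.ker (Cyc.specMap z η h) := by
    rw [← Groth.Agent.Lib.Helper4.DimFormula.fromSpecStalk_specializes_iff z, e1, e2]
    exact hξη
  have hmin := Groth.Agent.Lib.Helper8Dim1AlgA.mem_minimalPrimes_of_ne_maximal hd
    (RingHom.ker (Cyc.specMap z η h)) (ker_specMap_ne z η h hne)
  have hge : RingHom.ker (Cyc.specMap z η h) ≤ RingHom.ker (Cyc.specMap z ξ hξ) :=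
    hmin.2 ⟨inferInstance, bot_le⟩ hle
  have heq : RingHom.ker (Cyc.specMap z ξ hξ) = RingHom.ker (Cyc.specMap z η h) :=
    le_antisymm hle hge
  rw [← e1, ← e2]
  congr 1
  exact PrimeSpectrum.ext heq

theorem exists_function [IsLocallyNoetherian X] [X.IsSeparated] (U : X.Opens)
    (hU : IsAffineOpen U) (hfin : ((U : Set X)ᶜ).Finite)
    (hcl : ∀ z : X, z ∉ U → IsClosed ({z} : Set X))
    (hdim : ∀ z : X, z ∉ U → ringKrullDim (X.presheaf.stalk z) ≤ 1) :
    ∃ f : Γ(X, U), ∀ (z : X) (_ : z ∉ U) (η : X) (h : η ⤳ z) (hηU : η ∈ U),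
      ∃ β ∈ maximalIdeal (X.presheaf.stalk z), Cyc.specMap z η h β * ev U η hηU f = 1 := by
  classical
  let G : Set X := {η | η ∈ U ∧ ∃ z, z ∉ U ∧ η ⤳ z}
  have hG : G.Finite := by
    have h1 : (⋃ z ∈ (U : Set X)ᶜ, {η : X | η ⤳ z}).Finite :=
      hfin.biUnion fun z hz =>
        Groth.Agent.Lib.R2H4AffPts.finite_generizations z inferInstance (hdim z hz)
    refine h1.subset ?_
    rintro η ⟨-, z, hz, h⟩
    exact Set.mem_biUnion (show z ∈ (U : Set X)ᶜ from hz) h
  haveI : Finite G := hG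
  letI : Fintype G := Fintype.ofFinite G
  haveI : Finite {z : X // z ∉ U} := hfin
  letI : Fintype {z : X // z ∉ U} := Fintype.ofFinite _
  have hGU : ∀ η : G, η.1 ∈ U := fun η => η.2.1
  -- incomparability
  have hinc : ∀ ξ η : G, ξ.1 ⤳ η.1 → ξ = η := by
    intro ξ η hξη
    obtain ⟨z, hz, h⟩ := η.2.2
    exact Subtype.ext (eq_of_specializes_of_specializes z (hdim z hz) ξ.1 η.1 hξη h
      (fun h' => hz (h' ▸ η.2.1)))
  -- separating functions
  have hsep : ∀ η : G, ∃ a : Γ(X, U), ev U η.1 (hGU η) a ≠ 0 ∧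
      ∀ ξ : G, ξ ≠ η → ev U ξ.1 (hGU ξ) a = 0 := by
    intro η
    let s : Finset G := Finset.univ.erase η
    have hnot : ¬ s.inf (fun ξ : G => Groth.Agent.Lib.R2H4AffPts.pr hU ξ.1 (hGU ξ)) ≤
        Groth.Agent.Lib.R2H4AffPts.pr hU η.1 (hGU η) := by
      intro hle
      obtain ⟨ξ, hξs, hξ⟩ := (Ideal.IsPrime.inf_le' inferInstance).1 hle
      have h1 : ξ.1 ⤳ η.1 := (Groth.Agent.Lib.R2H4AffPts.pr_le_iff hU η.1 ξ.1 (hGU η) (hGU ξ)).1 hξ
      exact (Finset.ne_of_mem_erase hξs) (hinc ξ η h1)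
    obtain ⟨a, haI, haη⟩ := SetLike.not_le_iff_exists.1 hnot
    refine ⟨a, ?_, ?_⟩
    · rw [ne_eq, ev_eq_zero_iff, ← Groth.Agent.Lib.R2H4AffPts.mem_pr_iff hU]
      exact haη
    · intro ξ hξ
      rw [ev_eq_zero_iff, ← Groth.Agent.Lib.R2H4AffPts.mem_pr_iff hU]
      exact (Finset.inf_le (Finset.mem_erase.2 ⟨hξ, Finset.mem_univ ξ⟩) :
        s.inf (fun ξ : G => Groth.Agent.Lib.R2H4AffPts.pr hU ξ.1 (hGU ξ)) ≤ _) haI
  choose a ha0 haξ using hsep
  -- functions with poles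
  have hpole := fun η : G => exists_pole_at_generic U hU hfin hcl hdim η.1 (hGU η)
  choose f hf0 hf using hpole
  -- the exponent
  have hexp : ∀ (η : G) (z : {z : X // z ∉ U}), ∃ n₀ : ℕ, ∀ (h : η.1 ⤳ z.1) (n : ℕ), n₀ ≤ n →
      ∃ β' ∈ maximalIdeal (X.presheaf.stalk z.1), Cyc.specMap z.1 η.1 h β' *
        (ev U η.1 (hGU η) (a η) * ev U η.1 (hGU η) (f η) ^ n) = 1 := by
    intro η z
    by_cases h : η.1 ⤳ z.1
    · obtain ⟨β, hβ, hβf⟩ := hf η z.1 z.2 h
      obtain ⟨c, d, hd0, hcd⟩ := hasFrac_specMap z.1 η.1 h (ev U η.1 (hGU η) (a η))⁻¹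
      obtain ⟨n₀, hn₀⟩ := Groth.Agent.Lib.Helper8Dim1AlgA.exists_forall_pow_mul_eq (hdim z.1 z.2)
        (Cyc.specMap z.1 η.1 h) β hβ c d hd0
      refine ⟨n₀, fun _ n hn => ?_⟩
      obtain ⟨β', hβ', hβ'e⟩ := hn₀ n hn
      refine ⟨β', hβ', ?_⟩
      have e1 : Cyc.specMap z.1 η.1 h c / Cyc.specMap z.1 η.1 h d =
          (ev U η.1 (hGU η) (a η))⁻¹ := by
        rw [← hcd, mul_div_cancel_right₀ _ hd0]
      rw [hβ'e, e1]
      calc Cyc.specMap z.1 η.1 h β ^ n * (ev U η.1 (hGU η) (a η))⁻¹ *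
            (ev U η.1 (hGU η) (a η) * ev U η.1 (hGU η) (f η) ^ n)
          = (Cyc.specMap z.1 η.1 h β * ev U η.1 (hGU η) (f η)) ^ n *
            ((ev U η.1 (hGU η) (a η))⁻¹ * ev U η.1 (hGU η) (a η)) := by ring
        _ = 1 := by rw [hβf, one_pow, inv_mul_cancel₀ (ha0 η), mul_one]
    · exact ⟨0, fun h' => absurd h' h⟩
  choose n₀ hn₀ using hexp
  let N : ℕ := Finset.univ.sup fun p : G × {z : X // z ∉ U} => n₀ p.1 p.2
  refine ⟨∑ η : G, a η * f η ^ N, ?_⟩
  intro z hz η h hηU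
  let η' : G := ⟨η, hηU, z, hz, h⟩
  have hsum : ev U η hηU (∑ ξ : G, a ξ * f ξ ^ N) =
      ev U η hηU (a η') * ev U η hηU (f η') ^ N := by
    rw [map_sum, Finset.sum_eq_single η']
    · rw [map_mul, map_pow]
    · intro ξ _ hξ
      rw [map_mul]
      have := haξ ξ η' (Ne.symm hξ)
      change ev U η hηU (a ξ) = 0 at this
      rw [this, zero_mul]
    · intro h'; exact absurd (Finset.mem_univ η') h'
  rw [hsum]
  have hN : n₀ η' ⟨z, hz⟩ ≤ N :=
    Finset.le_sup (f := fun p : G × {z : X // z ∉ U} => n₀ p.1 p.2)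
      (Finset.mem_univ (η', (⟨z, hz⟩ : {z : X // z ∉ U})))
  exact hn₀ η' ⟨z, hz⟩ h N hN

end Groth.Agent.Lib.Helper8Dim1GeoC
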