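import Mathlib
import Groth.Prelude
import Groth.Agent.S1664
import Groth.Agent.Lib.Helper4CurveTop
import Groth.Agent.Lib.Helper11Generic
import Groth.Agent.Lib.Helper4FibDimL
import Groth.Agent.Lib.Helper8Dim1GeoA
import Groth.Agent.Lib.Helper8Dim1GeoC

/-!
# A Noetherian separated scheme of dimension one has an ample invertible module (helper8)

* `exists_affine_nhd` : every point has an affine open neighbourhood containing all the non-closed points.
* `exists_gg_pair` : every point lies in `X_s`, affine, for a section `s` of a globally generated invertible module.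
* `main` : S1551.
-/

set_option autoImplicit false
set_option linter.style.haveILetI false
universe u
open CategoryTheory CategoryTheory.Limits AlgebraicGeometry TopologicalSpace Opposite IsLocalRing

namespace Groth.Agent.Lib.Helper8Dim1GeoD
open Groth.Agent.Lib.Helper6 Groth.Agent.Lib.Helper8Dim1GeoB Groth.Agent.Lib.Helper8Dim1GeoC

variable {X : Scheme.{u}}

/-- non-closed points are maximal -/
theorem eq_of_specializes_of_not_isClosed [IsLocallyNoetherian X] [CompactSpace X]
    (hd : ∀ z : X, ringKrullDim (X.presheaf.stalk z) ≤ 1) (y : X)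
    (hy : ¬ IsClosed ({y} : Set X)) (ξ : X) (h : ξ ⤳ y) : ξ = y := by
  obtain ⟨w, hw, hwcl⟩ := (isClosed_closure (s := ({y} : Set X))).exists_closed_singleton
    ⟨y, subset_closure rfl⟩
  have hyw : y ⤳ w := specializes_iff_mem_closure.2 hw
  have hne : y ≠ w := fun h => hy (h ▸ hwcl)
  exact eq_of_specializes_of_specializes w (hd w) ξ y h hyw hne

theorem exists_affine_nhd [IsNoetherian X] (hd : ∀ z : X, ringKrullDim (X.presheaf.stalk z) ≤ 1)
    (x : X) : ∃ U : X.Opens, IsAffineOpen U ∧ x ∈ U ∧ ∀ y : X, y ∉ U → IsClosed ({y} : Set X) := by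
  classical
  obtain ⟨V, hV, hxV, -⟩ := Opens.isBasis_iff_nbhd.1 X.isBasis_affineOpens
    (show x ∈ (⊤ : X.Opens) from trivial)
  let S : Set X := {y | ¬ IsClosed ({y} : Set X) ∧ y ∉ V}
  have hgen : ∀ y ∈ S, closure ({y} : Set X) ∈ irreducibleComponents X := fun y hy =>
    (Groth.Agent.Lib.Helper14.closure_mem_irreducibleComponents_iff y).2
      (eq_of_specializes_of_not_isClosed hd y hy.1)
  have hSfin : S.Finite := by
    apply Set.Finite.of_finite_image (f := fun y : X => closure ({y} : Set X))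
    · refine (NoetherianSpace.finite_irreducibleComponents (α := X)).subset ?_
      rintro _ ⟨y, hy, rfl⟩
      exact hgen y hy
    · intro y _ y' _ h
      exact ((inseparable_iff_closure_eq).2 h).eq
  obtain ⟨W, hW, hWd⟩ := Groth.Agent.Lib.Helper11.exists_disjoint_affine_nhds S hSfin hgen V
    hV.isCompact (fun y hy => hy.2)
  have hU₁ : IsAffineOpen (⨆ y ∈ S, W y) := by
    apply IsAffineOpen.biSup_of_disjoint hSfin (fun y hy => (hW y hy).1)
    intro y hy y' hy' hne
    exact hWd y hy y' hy' hne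
  have hdisj : Disjoint V (⨆ y ∈ S, W y) := by
    rw [disjoint_iSup₂_iff]
    intro y hy
    exact (hW y hy).2.2.symm
  refine ⟨V ⊔ ⨆ y ∈ S, W y, hV.sup_of_disjoint hU₁ hdisj, Or.inl hxV, ?_⟩
  intro y hy
  by_contra hycl
  have hyV : y ∉ V := fun h => hy (Or.inl h)
  have hyS : y ∈ S := ⟨hycl, hyV⟩
  apply hy
  refine Or.inr ?_
  have : W y ≤ ⨆ y ∈ S, W y := le_iSup₂ (f := fun y (_ : y ∈ S) => W y) y hyS
  exact this (hW y hyS).2.1

theorem exists_gg_pair [IsNoetherian X] [X.IsSeparated]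
    (hd : ∀ z : X, ringKrullDim (X.presheaf.stalk z) ≤ 1) (x : X) :
    ∃ (L : X.Modules) (s : Coh.structureModule X ⟶ L), PicF.IsInvertible L ∧
      Curv2.IsGloballyGenerated L ∧ x ∈ CohB1.genLocus L s ∧ IsAffineOpen (CohB1.genLocus L s) := by
  classical
  obtain ⟨U, hU, hxU, hcl⟩ := exists_affine_nhd hd x
  have hfin : ((U : Set X)ᶜ).Finite :=
    Groth.Agent.Lib.Helper4.CurveTop.finite_of_forall_isClosed_singleton
      U.isOpen.isClosed_compl (fun y hy => hcl y hy)
  have hdisc := discreteTopology_compl U hfin hcl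
  obtain ⟨f, hf⟩ := exists_function U hU hfin hcl (fun z _ => hd z)
  haveI : Finite {z : X // z ∉ U} := hfin
  letI : Fintype {z : X // z ∉ U} := Fintype.ofFinite _
  have hloc : ∀ z : {z : X // z ∉ U}, ∃ (n : ℕ) (_ : 0 < n) (V' : X.Opens) (g : Γ(X, V'))
      (_ : z.1 ∈ V'), (∀ y ∈ V', y ∉ U → y = z.1) ∧ z.1 ∉ X.basicOpen g ∧
      resf (inf_le_left : V' ⊓ U ≤ V') g * resf (inf_le_right : V' ⊓ U ≤ U) (f ^ n) = 1 := by
    intro z
    obtain ⟨V, b, hV, hzV, hb, hVz⟩ := Groth.Agent.Lib.R2H4AffPts.exists_punctured_eq_basicOpen U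
      hdisc z.1 z.2 inferInstance (hd z.1)
    obtain ⟨n, hn, V', g, hzV', hV'V, hgz, hgf⟩ := exists_local_inverse U z.1 z.2 inferInstance V hV b
      hzV hb hVz f (fun η h hηU => hf z.1 z.2 η h hηU)
    exact ⟨n, hn, V', g, hzV', fun y hy hyU => hVz y (hV'V hy) hyU, hgz, hgf⟩
  choose n hn V' g hzV' hV' hgz hgf using hloc
  let N : ℕ := ∏ z, n z
  have hNpos : 0 < N := Finset.prod_pos fun z _ => hn z
  have hdvd : ∀ z, n z ∣ N := fun z => Finset.dvd_prod_of_mem n (Finset.mem_univ z)
  obtain ⟨L, s, hL, hgg, hgl⟩ := Groth.Agent.Lib.Helper8Dim1GeoA.exists_invertible_gg U (f ^ N) (by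
    intro z
    obtain ⟨m, hm⟩ := hdvd z
    have hmpos : 0 < m := by
      rcases Nat.eq_zero_or_pos m with h0 | h0
      · rw [h0, mul_zero] at hm; omega
      · exact h0
    refine ⟨V' z, g z ^ m, hzV' z, hV' z, ?_, ?_⟩
    · rw [Scheme.basicOpen_pow X (g z) hmpos]; exact hgz z
    · rw [hm, pow_mul, rpow, rpow, ← mul_pow, hgf z, one_pow])
  exact ⟨L, s, hL, hgg, by rw [hgl]; exact hxU, by rw [hgl]; exact hU⟩

/-- S1551 -/
theorem main (X : Scheme.{u}) [IsNoetherian X] [X.IsSeparated] (hdim : topologicalKrullDim X = 1) :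
    ∃ L : X.Modules, CohB1.IsAmple L := by
  have hd : ∀ z : X, ringKrullDim (X.presheaf.stalk z) ≤ 1 := fun z =>
    (Groth.Agent.Lib.Helper4.FibDim.ringKrullDim_stalk_le_topologicalKrullDim X z).trans hdim.le
  exact Groth.Agent.S1664.result X (fun x => exists_gg_pair hd x)

end Groth.Agent.Lib.Helper8Dim1GeoD
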