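import Mathlib
import Groth.Prelude
import Groth.Agent.Lib.R2H3QProj
import Groth.Agent.Lib.R2H2ProjOver
import Groth.Agent.Lib.Helper8Dim1GeoD

/-!
# Separated schemes of finite type and dimension `≤ 1` over a field are quasi-projective (helper8)
-/

set_option autoImplicit false
set_option linter.style.haveILetI false
universe u
open CategoryTheory CategoryTheory.Limits AlgebraicGeometry TopologicalSpace Opposite

namespace Groth.Agent.Lib.Helper8Dim1QProj

/-- S1667 -/
theorem main (k : Type u) [Field k] (X : Scheme.{u}) [X.Over (Spec (CommRingCat.of k))]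
    [IsSeparated (X ↘ (Spec (CommRingCat.of k)))]
    [LocallyOfFiniteType (X ↘ (Spec (CommRingCat.of k)))]
    [QuasiCompact (X ↘ (Spec (CommRingCat.of k)))] (hdim : topologicalKrullDim X ≤ 1) :
    ∃ (n : ℕ) (i : X ⟶ CohB1.ProjSpace n k), IsImmersion i ∧
      i ≫ CohB1.ProjSpace.toSpec n k = X ↘ (Spec (CommRingCat.of k)) := by
  haveI : IsLocallyNoetherian X :=
    LocallyOfFiniteType.isLocallyNoetherian (X ↘ (Spec (CommRingCat.of k)))
  haveI : CompactSpace X := QuasiCompact.compactSpace_of_compactSpace (X ↘ (Spec (CommRingCat.of k)))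
  haveI : IsNoetherian X := {}
  haveI : X.IsSeparated :=
    (HasAffineProperty.iff_of_isAffine (P := @IsSeparated) (f := X ↘ (Spec (CommRingCat.of k)))).1
      inferInstance
  have hd : ∀ z : X, ringKrullDim (X.presheaf.stalk z) ≤ 1 := fun z =>
    (Groth.Agent.Lib.Helper4.FibDim.ringKrullDim_stalk_le_topologicalKrullDim X z).trans hdim
  obtain ⟨L, hL⟩ := Groth.Agent.S1664.result X
    (fun x => Groth.Agent.Lib.Helper8Dim1GeoD.exists_gg_pair hd x)
  obtain ⟨n, i, hi, hif⟩ := Groth.Agent.Lib.R2H3.QProj.exists_immersion_of_isAmple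
    (X ↘ (Spec (CommRingCat.of k))) L hL
  have hpb := Groth.Agent.Lib.R2H2.ProjOver.isPullback_a n k (𝟙 (Spec (CommRingCat.of k)))
  haveI : IsIso (Groth.Agent.Lib.R2H2.ProjOver.a n k (𝟙 (Spec (CommRingCat.of k)))) :=
    hpb.isIso_fst_of_isIso
  refine ⟨n, i ≫ inv (Groth.Agent.Lib.R2H2.ProjOver.a n k (𝟙 (Spec (CommRingCat.of k)))), inferInstance, ?_⟩
  have h1 := Groth.Agent.Lib.R2H2.ProjOver.a_toBase n k (𝟙 (Spec (CommRingCat.of k)))
  rw [Category.comp_id] at h1
  rw [Category.assoc, ← h1, IsIso.inv_hom_id_assoc]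
  exact hif

end Groth.Agent.Lib.Helper8Dim1QProj
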