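import Mathlib
import Groth.Prelude
import Groth.Agent.S9705
import Groth.Agent.Lib.Helper6DimAff
import Groth.Agent.Lib.Helper8Dim1QProj

/-!
# Projective completion of a separated scheme of finite type and dimension `≤ 1` over a field (helper8)
-/

set_option autoImplicit false
set_option linter.style.haveILetI false
universe u
open CategoryTheory CategoryTheory.Limits AlgebraicGeometry TopologicalSpace Opposite

namespace Groth.Agent.Lib.Helper8Dim1Compl

theorem isSchemeTheoreticallyDominant_of_app_injective {X Y : Scheme.{u}} (f : X ⟶ Y)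
    (hinj : ∀ V : Y.Opens, Function.Injective (f.app V)) : IsSchemeTheoreticallyDominant f := by
  refine ⟨Scheme.IdealSheafData.ext ?_⟩
  funext U
  rw [Scheme.IdealSheafData.ideal_bot, Pi.bot_apply, ← le_bot_iff]
  refine (Scheme.Hom.ideal_ker_le f U).trans ?_
  rw [le_bot_iff]
  exact (RingHom.injective_iff_ker_eq_bot _).mp (hinj U.1)

theorem isSchemeTheoreticallyDominant_toImage {X Y : Scheme.{u}} (f : X ⟶ Y) [QuasiCompact f] :
    IsSchemeTheoreticallyDominant f.toImage := by
  apply isSchemeTheoreticallyDominant_of_app_injective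
  intro V
  rw [injective_iff_map_eq_zero]
  intro s hs
  apply TopCat.Presheaf.section_ext f.image.sheaf V
  intro x hx
  apply Scheme.Hom.stalkFunctor_toImage_injective f x
  have h1 := TopCat.Presheaf.stalkFunctor_map_germ_apply V x hx f.toImage.c s
  have h2 := TopCat.Presheaf.stalkFunctor_map_germ_apply V x hx f.toImage.c 0
  have h3 : f.toImage.c.app (op V) s = f.toImage.c.app (op V) 0 := by
    rw [map_zero]; exact hs
  exact h1.trans ((congrArg _ h3).trans h2.symm)

theorem mem_of_dense_of_component {T : Type*} [TopologicalSpace T] [NoetherianSpace T]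
    (O : Opens T) (hO : Dense (O : Set T)) (η : T)
    (hη : closure ({η} : Set T) ∈ irreducibleComponents T) : η ∈ O := by
  obtain ⟨o, ho, hne, hsub⟩ :=
    NoetherianSpace.exists_isOpen_nonempty_subset_irreducibleComponent _ hη
  obtain ⟨z, hzo, hzU⟩ := hO.inter_open_nonempty o ho hne
  have hsp : η ⤳ z := specializes_iff_mem_closure.mpr (hsub hzo)
  exact hsp.mem_open O.isOpen hzU

/-- S1625 -/
theorem main (k : Type u) [Field k] (X : Scheme.{u}) [X.Over (Spec (CommRingCat.of k))]
    [IsSeparated (X ↘ (Spec (CommRingCat.of k)))]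
    [LocallyOfFiniteType (X ↘ (Spec (CommRingCat.of k)))]
    [QuasiCompact (X ↘ (Spec (CommRingCat.of k)))] (hdim : topologicalKrullDim X ≤ 1) :
    ∃ (d : ℕ) (Y : Scheme.{u}) (c : Y ⟶ CohB1.ProjSpace d k) (j : X ⟶ Y), IsClosedImmersion c ∧
      IsOpenImmersion j ∧
      j ≫ c ≫ CohB1.ProjSpace.toSpec d k = X ↘ (Spec (CommRingCat.of k)) ∧
      Dense (Set.range j.base) ∧ IsSchemeTheoreticallyDominant j ∧
      (Set.range j.base)ᶜ.Finite ∧ ∀ y ∈ (Set.range j.base)ᶜ, IsClosed ({y} : Set Y) := by
  obtain ⟨d, i, hi, hik⟩ := Groth.Agent.Lib.Helper8Dim1QProj.main k X hdim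
  haveI := hi
  haveI : IsProper (CohB1.ProjSpace.toSpec d k) := Groth.Agent.S9705.isProper_projSpace_toSpec d k
  haveI : QuasiCompact (i ≫ CohB1.ProjSpace.toSpec d k) := by rw [hik]; infer_instance
  haveI : QuasiCompact i := QuasiCompact.of_comp i (CohB1.ProjSpace.toSpec d k)
  haveI : CompactSpace (CohB1.ProjSpace d k) :=
    QuasiCompact.compactSpace_of_compactSpace (CohB1.ProjSpace.toSpec d k)
  haveI : CompactSpace i.image := QuasiCompact.compactSpace_of_compactSpace i.imageι
  haveI : LocallyOfFiniteType (i.imageι ≫ CohB1.ProjSpace.toSpec d k) := inferInstance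
  haveI : IsLocallyNoetherian i.image :=
    LocallyOfFiniteType.isLocallyNoetherian (i.imageι ≫ CohB1.ProjSpace.toSpec d k)
  haveI : IsNoetherian i.image := {}
  have hdense : Dense (Set.range i.toImage.base) := i.toImage.denseRange
  have hdimY : topologicalKrullDim i.image ≤ 1 := by
    rw [Groth.Agent.Lib.Helper6.DimAff.topologicalKrullDim_eq_of_dense k
      (i.imageι ≫ CohB1.ProjSpace.toSpec d k) i.toImage.opensRange hdense]
    have h1 : IsHomeomorph (fun x : X => (⟨i.toImage.base x, ⟨x, rfl⟩⟩ : i.toImage.opensRange)) :=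
      (i.toImage.isOpenEmbedding.isEmbedding.toHomeomorph).isHomeomorph
    have h2 := h1.topologicalKrullDim_eq
    exact h2.symm.le.trans hdim
  have hd : ∀ z : i.image, ringKrullDim (i.image.presheaf.stalk z) ≤ 1 := fun z =>
    (Groth.Agent.Lib.Helper4.FibDim.ringKrullDim_stalk_le_topologicalKrullDim _ z).trans hdimY
  have hcl : ∀ y ∈ (Set.range i.toImage.base)ᶜ, IsClosed ({y} : Set i.image) := by
    intro y hy
    by_contra hycl
    apply hy
    have hmax := Groth.Agent.Lib.Helper8Dim1GeoD.eq_of_specializes_of_not_isClosed hd y hycl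
    have hcomp := (Groth.Agent.Lib.Helper14.closure_mem_irreducibleComponents_iff y).2 hmax
    exact mem_of_dense_of_component i.toImage.opensRange hdense y hcomp
  refine ⟨d, i.image, i.imageι, i.toImage, inferInstance, inferInstance, ?_, hdense,
    isSchemeTheoreticallyDominant_toImage i, ?_, hcl⟩
  · rw [← Category.assoc, i.toImage_imageι]; exact hik
  · exact Groth.Agent.Lib.Helper4.CurveTop.finite_of_forall_isClosed_singleton
      i.toImage.isOpenEmbedding.isOpen_range.isClosed_compl hcl

end Groth.Agent.Lib.Helper8Dim1Compl
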