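/-
Helper library (helper8): projective completion of a reduced separated scheme of finite type and
dimension ≤ 1 over a field, with discrete valuation rings at the points at infinity (S1626).
-/
import Groth.Agent.Lib.Helper8Dim1Compl
import Groth.Agent.Lib.Helper8NormDvrGeo
import Groth.Agent.Lib.Helper4FieldJapanese

set_option autoImplicit false
set_option linter.style.haveILetI false
universe u
open CategoryTheory CategoryTheory.Limits AlgebraicGeometry TopologicalSpace Opposite

namespace Groth.Agent.Lib.Helper8Dim1ComplRed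

theorem isNagata_sections (k : Type u) [Field k] {Y : Scheme.{u}}
    (s : Y ⟶ Spec (CommRingCat.of k)) [LocallyOfFiniteType s] (U : Y.Opens)
    (hU : IsAffineOpen U) : CAlg.IsNagata Γ(Y, U) := by
  have h1 : (s.appLE ⊤ U le_top).hom.FiniteType :=
    HasRingHomProperty.appLE (P := @LocallyOfFiniteType) _ ‹_›
      ⟨⊤, isAffineOpen_top (Spec (CommRingCat.of k))⟩ ⟨U, hU⟩ le_top
  have h2 : ((Scheme.ΓSpecIso (CommRingCat.of k)).inv ≫ s.appLE ⊤ U le_top).hom.FiniteType := by
    rw [CommRingCat.hom_comp]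
    refine RingHom.FiniteType.comp h1 (RingHom.FiniteType.of_surjective _ ?_)
    exact (ConcreteCategory.bijective_of_isIso (Scheme.ΓSpecIso (CommRingCat.of k)).inv).surjective
  letI : Algebra k Γ(Y, U) :=
    ((Scheme.ΓSpecIso (CommRingCat.of k)).inv ≫ s.appLE ⊤ U le_top).hom.toAlgebra
  haveI : Algebra.FiniteType k Γ(Y, U) := h2
  exact Groth.Agent.Lib.Helper4.FieldJapanese.isNagata_of_finiteType_field k Γ(Y, U)

theorem isOpenImmersion_toNormalization {X Y : Scheme.{u}} (j : X ⟶ Y) [IsOpenImmersion j]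
    [QuasiCompact j] [QuasiSeparated j] : IsOpenImmersion j.toNormalization := by
  have key := j.toNormalization_normalizationPullback_fst j
  have h : j.toNormalization = inv (pullback.fst j j) ≫ (pullback.snd j j).toNormalization ≫
      j.normalizationPullback j ≫ pullback.fst j.fromNormalization j := by
    rw [key, IsIso.inv_hom_id_assoc]
  rw [h]
  infer_instance


theorem le_zero_of_not_one_le (d : WithBot ℕ∞) (h : ¬ (1 : WithBot ℕ∞) ≤ d) : d ≤ 0 := by
  induction d with
  | bot => exact bot_le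
  | coe c =>
    induction c with
    | top => exact absurd le_top h
    | coe k =>
      have : ¬ (1 : ℕ) ≤ k := fun hk =>
        h (WithBot.coe_le_coe.2 (by exact_mod_cast hk : (1 : ℕ∞) ≤ (k : ℕ∞)))
      have hk : k ≤ 0 := by omega
      exact WithBot.coe_le_coe.2 (by exact_mod_cast hk : (k : ℕ∞) ≤ 0)

/-- a point of a dense open's complement in a Noetherian scheme has local dimension `≥ 1`. -/
theorem one_le_stalk_dim_of_notMem_dense {N : Scheme.{u}} [IsNoetherian N] (O : N.Opens)
    (hO : Dense (O : Set N)) (y : N) (hy : y ∉ O) :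
    (1 : WithBot ℕ∞) ≤ ringKrullDim (N.presheaf.stalk y) := by
  by_contra hcon
  have h0 := le_zero_of_not_one_le _ hcon
  rw [ringKrullDim_stalk_eq_coheight] at h0
  have hc : Order.coheight y = 0 := by
    have h1 : ((Order.coheight y : ℕ∞) : WithBot ℕ∞) ≤ ((0 : ℕ∞) : WithBot ℕ∞) := h0
    exact le_zero_iff.mp (WithBot.coe_le_coe.mp h1)
  have hmax : IsMax y := Order.coheight_eq_zero.mp hc
  have hgen : ∀ y' : N, y' ⤳ y → y' = y := by
    intro y' h
    have hle : y ≤ y' := Scheme.le_iff_specializes.mpr h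
    have hle' : y' ≤ y := hmax hle
    exact (h.antisymm (Scheme.le_iff_specializes.mp hle')).eq
  have hcomp := (Groth.Agent.Lib.Helper14.closure_mem_irreducibleComponents_iff y).2 hgen
  exact hy (Groth.Agent.Lib.Helper8Dim1Compl.mem_of_dense_of_component O hO y hcomp)

set_option maxHeartbeats 1600000 in
/-- S1626 -/
theorem main (k : Type u) [Field k] (X : Scheme.{u}) [X.Over (Spec (CommRingCat.of k))]
    [IsReduced X] [IsSeparated (X ↘ (Spec (CommRingCat.of k)))]
    [LocallyOfFiniteType (X ↘ (Spec (CommRingCat.of k)))]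
    [QuasiCompact (X ↘ (Spec (CommRingCat.of k)))] (hdim : topologicalKrullDim X ≤ 1) :
    ∃ (d : ℕ) (Y : Scheme.{u}) (c : Y ⟶ CohB1.ProjSpace d k) (j : X ⟶ Y), IsClosedImmersion c ∧
      IsOpenImmersion j ∧
      j ≫ c ≫ CohB1.ProjSpace.toSpec d k = X ↘ (Spec (CommRingCat.of k)) ∧
      Dense (Set.range j.base) ∧ IsSchemeTheoreticallyDominant j ∧
      (Set.range j.base)ᶜ.Finite ∧ ∀ y ∈ (Set.range j.base)ᶜ, IsClosed ({y} : Set Y) ∧
        ∃ _ : IsDomain (Y.presheaf.stalk y), IsDiscreteValuationRing (Y.presheaf.stalk y) := by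
  obtain ⟨d₀, Y₀, c₀, j₀, hc₀, hj₀, hcomp₀, -, -, -, -⟩ :=
    Groth.Agent.Lib.Helper8Dim1Compl.main k X hdim
  haveI := hc₀
  haveI := hj₀
  haveI : IsProper (CohB1.ProjSpace.toSpec d₀ k) :=
    Groth.Agent.S9705.isProper_projSpace_toSpec d₀ k
  let sY₀ : Y₀ ⟶ Spec (CommRingCat.of k) := c₀ ≫ CohB1.ProjSpace.toSpec d₀ k
  haveI : IsProper sY₀ := inferInstance
  haveI : QuasiCompact (j₀ ≫ sY₀) := by rw [hcomp₀]; infer_instance
  haveI : QuasiCompact j₀ := QuasiCompact.of_comp j₀ sY₀
  haveI : LocallyOfFiniteType sY₀ := inferInstance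
  have hNag : ∀ U : Y₀.affineOpens, CAlg.IsNagata Γ(Y₀, U) := fun U =>
    isNagata_sections k sY₀ U.1 U.2
  -- the relative normalization
  let N := j₀.normalization
  let ν : N ⟶ Y₀ := j₀.fromNormalization
  let j' : X ⟶ N := j₀.toNormalization
  haveI : IsFinite ν :=
    Groth.Agent.Lib.Helper4.NormFinite.isFinite_fromNormalization_of_finite j₀
      (fun U hU => Groth.Agent.Lib.Helper4.NormFinite.finite_integralClosure_sections j₀ U hU
        (hNag ⟨U, hU⟩))
  haveI : IsOpenImmersion j' := isOpenImmersion_toNormalization j₀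
  let sN : N ⟶ Spec (CommRingCat.of k) := ν ≫ sY₀
  letI : N.Over (Spec (CommRingCat.of k)) := ⟨sN⟩
  haveI : IsProper (N ↘ Spec (CommRingCat.of k)) := by
    change IsProper (ν ≫ sY₀); infer_instance
  have hjs : j' ≫ sN = X ↘ Spec (CommRingCat.of k) := by
    change j₀.toNormalization ≫ j₀.fromNormalization ≫ sY₀ = _
    rw [Scheme.Hom.toNormalization_fromNormalization_assoc]
    exact hcomp₀
  haveI : LocallyOfFiniteType (N ↘ Spec (CommRingCat.of k)) := inferInstance
  haveI : IsLocallyNoetherian N :=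
    LocallyOfFiniteType.isLocallyNoetherian (N ↘ Spec (CommRingCat.of k))
  haveI : CompactSpace N :=
    QuasiCompact.compactSpace_of_compactSpace (N ↘ Spec (CommRingCat.of k))
  haveI : IsNoetherian N := {}
  have hdense : Dense (Set.range j'.base) := j'.denseRange
  have hdimN : topologicalKrullDim N ≤ 1 := by
    rw [Groth.Agent.Lib.Helper6.DimAff.topologicalKrullDim_eq_of_dense k
      (N ↘ Spec (CommRingCat.of k)) j'.opensRange hdense]
    have h1 : IsHomeomorph (fun x : X => (⟨j'.base x, ⟨x, rfl⟩⟩ : j'.opensRange)) :=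
      (j'.isOpenEmbedding.isEmbedding.toHomeomorph).isHomeomorph
    have h2 := h1.topologicalKrullDim_eq
    exact h2.symm.le.trans hdim
  have hd : ∀ z : N, ringKrullDim (N.presheaf.stalk z) ≤ 1 := fun z =>
    (Groth.Agent.Lib.Helper4.FibDim.ringKrullDim_stalk_le_topologicalKrullDim _ z).trans hdimN
  have hcl : ∀ y ∈ (Set.range j'.base)ᶜ, IsClosed ({y} : Set N) := by
    intro y hy
    by_contra hycl
    apply hy
    have hmax := Groth.Agent.Lib.Helper8Dim1GeoD.eq_of_specializes_of_not_isClosed hd y hycl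
    have hcomp := (Groth.Agent.Lib.Helper14.closure_mem_irreducibleComponents_iff y).2 hmax
    exact Groth.Agent.Lib.Helper8Dim1Compl.mem_of_dense_of_component j'.opensRange hdense y hcomp
  -- projectivity
  obtain ⟨d, i, hi, hik⟩ := Groth.Agent.Lib.Helper8Dim1QProj.main k N hdimN
  haveI := hi
  haveI : IsProper (CohB1.ProjSpace.toSpec d k) := Groth.Agent.S9705.isProper_projSpace_toSpec d k
  haveI : IsProper (i ≫ CohB1.ProjSpace.toSpec d k) := by rw [hik]; infer_instance
  haveI : IsProper i := IsProper.of_comp i (CohB1.ProjSpace.toSpec d k)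
  haveI : IsClosedImmersion i := IsClosedImmersion.of_isPreimmersion i i.isClosedMap.isClosed_range
  refine ⟨d, N, i, j', inferInstance, inferInstance, ?_, hdense, ⟨j₀.ker_toNormalization⟩, ?_, ?_⟩
  · rw [hik]; exact hjs
  · exact Groth.Agent.Lib.Helper4.CurveTop.finite_of_forall_isClosed_singleton
      j'.isOpenEmbedding.isOpen_range.isClosed_compl hcl
  · intro y hy
    refine ⟨hcl y hy, ?_⟩
    have h1 : (1 : WithBot ℕ∞) ≤ ringKrullDim (N.presheaf.stalk y) :=
      one_le_stalk_dim_of_notMem_dense j'.opensRange hdense y hy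
    exact Groth.Agent.Lib.Helper8NormDvrGeo.main j₀ hNag y (le_antisymm (hd y) h1) hy

end Groth.Agent.Lib.Helper8Dim1ComplRed
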