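import Mathlib
import Groth.Prelude
import Groth.Agent.Lib.H5bCodimOne
import Groth.Agent.Lib.H5bDimIneq
import Groth.Agent.Lib.Helper3GrpHomQF
import Groth.Agent.Lib.Helper4DimFormulaAD
import Groth.Agent.Lib.Helper4DimFormulaT
import Groth.Agent.Lib.Helper4FibDimL
import Groth.Agent.Lib.Helper4NormIso
import Groth.Agent.Lib.Helper4NormFinite
import Groth.Agent.Lib.Helper28Catenary
import Groth.Agent.Lib.Helper28Normal
import Groth.Agent.Lib.Helper5RLR
import Groth.Agent.Lib.Helper27BMCohNorm

/-!
# Integral Noetherian schemes of dimension one: regular alterations, resolutions and finiteness of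
the normalization (helper8)
-/

set_option autoImplicit false
set_option linter.style.haveILetI false
set_option linter.unusedSectionVars false
universe u
open CategoryTheory CategoryTheory.Limits AlgebraicGeometry TopologicalSpace Opposite

namespace Groth.Agent.Lib.Helper8Dim1Resolve

open Groth.Agent.Lib.Helper4.DimFormula

section Algebra

/-- If a Noetherian domain `A` has a finite injective extension `B` which is an integrally closed
domain, then the integral closure of `A` in its fraction field is a finite `A`-module. -/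
theorem finite_integralClosure_of_finite_normal_aux (A K B L : Type*) [CommRing A] [IsDomain A]
    [IsNoetherianRing A] [Field K] [Algebra A K] [IsFractionRing A K]
    [CommRing B] [IsDomain B] [IsIntegrallyClosed B] [Algebra A B] [Module.Finite A B]
    [Field L] [Algebra B L] [IsFractionRing B L] [Algebra A L] [IsScalarTower A B L]
    (hinj : Function.Injective (algebraMap A B)) :
    Module.Finite A (integralClosure A K) := by
  have hinjL : Function.Injective (algebraMap A L) := by
    rw [IsScalarTower.algebraMap_eq A B L]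
    exact (IsFractionRing.injective B L).comp hinj
  have hg0 : Function.Injective (Algebra.ofId A L) := hinjL
  let φ : K →ₐ[A] L := IsFractionRing.liftAlgHom (K := K) hg0
  have hφ : Function.Injective φ := φ.toRingHom.injective
  haveI : IsNoetherian A B := isNoetherian_of_isNoetherianRing_of_finite A B
  -- the image of `B` in `L`, as an `A`-submodule
  let N : Submodule A L := LinearMap.range (IsScalarTower.toAlgHom A B L).toLinearMap
  haveI : IsNoetherian A N := isNoetherian_of_surjective
    (IsScalarTower.toAlgHom A B L).toLinearMap.rangeRestrict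
    (LinearMap.range_rangeRestrict _)
  have hmem : ∀ x : integralClosure A K, φ x ∈ N := by
    intro x
    have hx : IsIntegral A (φ (x : K)) := x.2.map φ
    have hxB : IsIntegral B (φ (x : K)) := hx.tower_top
    obtain ⟨b, hb⟩ := (IsIntegrallyClosed.isIntegral_iff (R := B) (K := L)).mp hxB
    exact ⟨b, hb⟩
  let ψ : integralClosure A K →ₗ[A] N :=
    LinearMap.codRestrict N (φ.toLinearMap.comp (integralClosure A K).val.toLinearMap) hmem
  have hψ : Function.Injective ψ := by
    intro x y hxy
    have h1 : φ (x : K) = φ (y : K) := congrArg Subtype.val hxy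
    exact Subtype.ext (hφ h1)
  exact Module.Finite.of_injective ψ hψ

theorem finite_integralClosure_of_finite_normal (A K B : Type*) [CommRing A] [IsDomain A]
    [IsNoetherianRing A] [Field K] [Algebra A K] [IsFractionRing A K]
    [CommRing B] [IsDomain B] [IsIntegrallyClosed B] [Algebra A B] [Module.Finite A B]
    (hinj : Function.Injective (algebraMap A B)) :
    Module.Finite A (integralClosure A K) :=
  finite_integralClosure_of_finite_normal_aux A K B (FractionRing B) hinj

end Algebra

section QF

variable {X Y : Scheme.{u}} (g : X ⟶ Y)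

/-- a morphism which is finite over an open `V` is quasi-finite at the points over `V`. -/
theorem quasiFiniteAt_of_isFinite_restrict (V : Y.Opens) [IsFinite (g ∣_ V)] (x : X)
    (hx : x ∈ g ⁻¹ᵁ V) : g.QuasiFiniteAt x := by
  let x' : (g ⁻¹ᵁ V : Scheme.{u}) := ⟨x, hx⟩
  have h0 : (g ∣_ V).QuasiFiniteAt x' := (g ∣_ V).quasiFiniteAt x'
  have h1 : ((g ∣_ V) ≫ V.ι).QuasiFiniteAt x' :=
    Scheme.Hom.quasiFiniteAt_comp_iff.mpr h0
  rw [morphismRestrict_ι] at h1
  exact Scheme.Hom.quasiFiniteAt_comp_iff_of_isOpenImmersion.mp h1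

theorem ptTrdeg_eq_zero_of_quasiFiniteAt [LocallyOfFiniteType g] (x : X)
    (hx : g.QuasiFiniteAt x) : ptTrdeg g x = 0 := by
  rw [Helper3.GrpHomQF.quasiFiniteAt_iff_fibreDimAt_le_zero, fibreDimAt_eq_stalk_add_ptTrdeg] at hx
  have h0 : (0 : WithBot ℕ∞) ≤
      ringKrullDim ((g.fiber (g.base x)).presheaf.stalk (g.asFiber x)) :=
    ringKrullDim_nonneg_of_nontrivial
  have h1 : ((ptTrdeg g x : ℕ) : WithBot ℕ∞) ≤ 0 :=
    le_trans (le_add_of_nonneg_left h0) hx
  have h2 : (ptTrdeg g x : ℕ) ≤ 0 := by exact_mod_cast h1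
  omega

/-- for a finite morphism to a locally Noetherian scheme, local dimensions do not go up. -/
theorem ringKrullDim_stalk_le_of_locallyQuasiFinite [IsLocallyNoetherian Y]
    [LocallyOfFiniteType g] [LocallyQuasiFinite g] (x : X) :
    ringKrullDim (X.presheaf.stalk x) ≤ ringKrullDim (Y.presheaf.stalk (g.base x)) := by
  have h := H5bDimIneq.stalkDim_add_ptTrdeg_le g x 0 (fun ξ _ _ => by
    rw [ptTrdeg_eq_zero_of_quasiFiniteAt g ξ (g.quasiFiniteAt ξ)]; rfl)
  rw [ptTrdeg_eq_zero_of_quasiFiniteAt g x (g.quasiFiniteAt x)] at h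
  simpa using h

end QF

section Alteration

/-- an alteration of an integral locally Noetherian scheme of dimension `≤ 1` is finite. -/
theorem isFinite_of_isAlteration {X Y : Scheme.{u}} [IsIntegral Y] [IsLocallyNoetherian Y]
    (hdim : topologicalKrullDim Y ≤ 1) (g : X ⟶ Y) (hg : Curv2.IsAlteration g) : IsFinite g := by
  obtain ⟨hprop, hXint, -, hdom, V, hVne, hVfin⟩ := hg
  haveI := hprop
  haveI := hXint
  haveI := hdom
  haveI := hVfin
  have hgen : g.base (genericPoint X) = genericPoint Y :=
    Helper4.NormCurve.apply_genericPoint_of_isDominant g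
  have hgenV : genericPoint Y ∈ V :=
    ((genericPoint_spec Y).mem_open_set_iff V.isOpen).mpr (by simpa using hVne)
  have hqfgen : g.QuasiFiniteAt (genericPoint X) :=
    quasiFiniteAt_of_isFinite_restrict g V _ (by
      show g.base (genericPoint X) ∈ V
      rw [hgen]; exact hgenV)
  have hall : ∀ x : X, g.QuasiFiniteAt x := by
    intro x
    rw [Helper3.GrpHomQF.quasiFiniteAt_iff_fibreDimAt_le_zero]
    refine H5bCodimOne.fibreDimAt_le_zero_of_codim_le_one g x ?_ ?_
    · exact (Helper4.FibDim.ringKrullDim_stalk_le_topologicalKrullDim Y _).trans hdim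
    · intro u₀ hmax _
      have hu : u₀ = genericPoint X :=
        (hmax _ ((genericPoint_spec X).specializes trivial)).symm
      rw [hu]
      exact ptTrdeg_eq_zero_of_quasiFiniteAt g _ hqfgen
  haveI : LocallyQuasiFinite g := by
    rw [← Scheme.Hom.quasiFiniteLocus_eq_top_iff]
    exact top_le_iff.mp (fun x _ => hall x)
  exact IsFinite.of_isProper_of_locallyQuasiFinite g

end Alteration

section Normalization

open Groth.Agent.Lib.Helper4.NormCurve

/-- A dominant morphism into a reduced scheme is injective on sections. -/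
theorem app_injective_of_dense {U X : Scheme.{u}} [IsReduced X] (j : U ⟶ X)
    (hj : DenseRange j) (V : X.Opens) : Function.Injective (j.app V).hom := by
  rw [injective_iff_map_eq_zero]
  intro t ht
  rw [← AlgebraicGeometry.basicOpen_eq_bot_iff]
  by_contra hne
  obtain ⟨x, hx⟩ : ((X.basicOpen t : X.Opens) : Set X).Nonempty := by
    rw [Set.nonempty_iff_ne_empty]
    intro he
    exact hne (Opens.ext he)
  obtain ⟨_, hy, ⟨y, rfl⟩⟩ := hj.inter_open_nonempty _ (X.basicOpen t).2 ⟨x, hx⟩
  have : y ∈ j ⁻¹ᵁ X.basicOpen t := hy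
  rw [Scheme.preimage_basicOpen, ht] at this
  simp at this

theorem finite_integralClosure_gen_of_finite_normal {X Y : Scheme.{u}} [IsIntegral Y]
    [IsLocallyNoetherian Y] [IsIntegral X]
    (g : X ⟶ Y) [IsFinite g] [IsDominant g] (hX : Pi1.IsNormalScheme X) (U : Y.Opens) (hU : IsAffineOpen U)
    [hne : Nonempty U] :
    letI := ((gen Y Y.functionField (RingHom.id _)).app U).hom.toAlgebra
    Module.Finite Γ(Y, U) (integralClosure Γ(Y, U)
      Γ(Spec (CommRingCat.of Y.functionField), (gen Y Y.functionField (RingHom.id _)) ⁻¹ᵁ U)) := by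
  letI := ((gen Y Y.functionField (RingHom.id _)).app U).hom.toAlgebra
  letI algAK : Algebra Γ(Y, U) Y.functionField :=
    ((RingHom.id Y.functionField).comp (Y.germToFunctionField U).hom).toAlgebra
  haveI : IsDomain Γ(Y, U) := IsIntegral.component_integral (X := Y) U
  haveI : IsNoetherianRing Γ(Y, U) := IsLocallyNoetherian.component_noetherian ⟨U, hU⟩
  haveI hfr : IsFractionRing Γ(Y, U) Y.functionField :=
    functionField_isFractionRing_of_isAffineOpen Y U hU
  -- the finite normal extension
  letI algAB : Algebra Γ(Y, U) Γ(X, g ⁻¹ᵁ U) := (g.app U).hom.toAlgebra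
  haveI : Nonempty (g ⁻¹ᵁ U : X.Opens) := by
    obtain ⟨_, hy, ⟨x, rfl⟩⟩ := g.denseRange.inter_open_nonempty _ U.isOpen
      ⟨hne.some.1, hne.some.2⟩
    exact ⟨⟨x, hy⟩⟩
  haveI : IsDomain Γ(X, g ⁻¹ᵁ U) := IsIntegral.component_integral (X := X) (g ⁻¹ᵁ U)
  haveI : IsIntegrallyClosed Γ(X, g ⁻¹ᵁ U) :=
    Helper4.NormIso.isIntegrallyClosed_sections hX (g ⁻¹ᵁ U) (hU.preimage g)
  haveI : Module.Finite Γ(Y, U) Γ(X, g ⁻¹ᵁ U) := IsFinite.finite_app g U hU
  have hinj : Function.Injective (algebraMap Γ(Y, U) Γ(X, g ⁻¹ᵁ U)) :=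
    app_injective_of_dense g g.denseRange U
  haveI hfin : Module.Finite Γ(Y, U) (integralClosure Γ(Y, U) Y.functionField) :=
    finite_integralClosure_of_finite_normal Γ(Y, U) Y.functionField Γ(X, g ⁻¹ᵁ U) hinj
  obtain ⟨ψ⟩ := exists_sectionsAlgEquiv Y.functionField (RingHom.id _) U
  exact Module.Finite.equiv ψ.mapIntegralClosure.toLinearEquiv

theorem isFinite_fromNormalization_gen_of_finite_normal {X Y : Scheme.{u}} [IsIntegral Y]
    [IsLocallyNoetherian Y] [IsIntegral X]
    (g : X ⟶ Y) [IsFinite g] [IsDominant g] (hX : Pi1.IsNormalScheme X)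
    (f : Spec (CommRingCat.of Y.functionField) ⟶ Y)
    (hf : f = gen Y Y.functionField (RingHom.id _)) [QuasiCompact f] [QuasiSeparated f] :
    IsFinite f.fromNormalization := by
  subst hf
  refine Groth.Agent.Lib.Helper4.NormFinite.isFinite_fromNormalization_of_finite _ (fun U hU => ?_)
  letI := ((gen Y Y.functionField (RingHom.id _)).app U).hom.toAlgebra
  by_cases hne : Nonempty U
  · exact finite_integralClosure_gen_of_finite_normal g hX U hU
  · have hU0 : U = ⊥ := by
      ext x
      simp only [TopologicalSpace.Opens.coe_bot, Set.mem_empty_iff_false, iff_false]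
      exact fun hx => hne ⟨⟨x, hx⟩⟩
    subst hU0
    haveI : Subsingleton (integralClosure Γ(Y, (⊥ : Y.Opens))
        Γ(Spec (CommRingCat.of Y.functionField),
          (gen Y Y.functionField (RingHom.id _)) ⁻¹ᵁ ⊥)) :=
      Module.subsingleton Γ(Y, (⊥ : Y.Opens)) _
    exact Module.Finite.of_finite

/-- if an integral locally Noetherian scheme admits a finite dominant morphism from a normal
integral scheme, its normalization is finite. -/
theorem isFinite_normalizationι_of_finite_normal {X Y : Scheme.{u}} [IsIntegral Y]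
    [IsLocallyNoetherian Y] [IsIntegral X]
    (g : X ⟶ Y) [IsFinite g] [IsDominant g] (hX : Pi1.IsNormalScheme X)
    [QuasiCompact (Y.fromSpecStalk (genericPoint Y))]
    [QuasiSeparated (Y.fromSpecStalk (genericPoint Y))] :
    IsFinite (Curv2.normalizationι Y) :=
  isFinite_fromNormalization_gen_of_finite_normal g hX (Y.fromSpecStalk (genericPoint Y))
    fromSpecStalk_eq_gen

end Normalization

section Main

open Groth.Agent.Lib.Helper4.NormCurve

/-- a resolution of an integral scheme is an alteration. -/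
theorem isAlteration_of_resolution {X Y : Scheme.{u}} [IsIntegral Y] (g : X ⟶ Y) [IsProper g]
    [IsIntegral X] (V : Y.Opens) (hV : (V : Set Y).Nonempty) [IsIso (g ∣_ V)] :
    Curv2.IsAlteration g := by
  refine ⟨inferInstance, inferInstance, inferInstance, ⟨?_⟩, V, hV, inferInstance⟩
  have hsub : (V : Set Y) ⊆ Set.range g.base := by
    intro y hy
    obtain ⟨x', hx'⟩ := (ConcreteCategory.bijective_of_isIso (g ∣_ V).base).2 ⟨y, hy⟩
    refine ⟨x'.1, ?_⟩
    have h1 := congrArg (fun φ => φ.base x') (morphismRestrict_ι g V)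
    have h2 : (V.ι.base ((g ∣_ V).base x')) = g.base ((g ⁻¹ᵁ V).ι.base x') := h1
    rw [hx'] at h2
    exact h2.symm
  exact (V.isOpen.dense hV).mono hsub

/-- regular schemes are normal. -/
theorem isNormalScheme_of_regular {X : Scheme.{u}}
    (hreg : ∀ x : X, IsRegularLocalRing (X.presheaf.stalk x)) : Pi1.IsNormalScheme X := by
  intro x
  haveI := hreg x
  exact ⟨Helper5.isDomain_of_isRegularLocalRing _,
    Helper28.isIntegrallyClosed_of_isRegularLocalRing _⟩

variable (Y : Scheme.{u}) [IsIntegral Y] [IsLocallyNoetherian Y]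
  [QuasiCompact (Y.fromSpecStalk (genericPoint Y))]
  [QuasiSeparated (Y.fromSpecStalk (genericPoint Y))]

/-- a regular alteration of a one-dimensional integral locally Noetherian scheme forces the
normalization to be finite. -/
theorem isFinite_normalizationι_of_alteration (hdim : topologicalKrullDim Y ≤ 1)
    {X : Scheme.{u}} (g : X ⟶ Y) (hg : Curv2.IsAlteration g)
    (hreg : ∀ x : X, IsRegularLocalRing (X.presheaf.stalk x)) :
    IsFinite (Curv2.normalizationι Y) := by
  haveI := isFinite_of_isAlteration hdim g hg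
  haveI : IsIntegral X := hg.2.1
  haveI : IsDominant g := hg.2.2.2.1
  exact isFinite_normalizationι_of_finite_normal g (isNormalScheme_of_regular hreg)

/-- finite normalization gives a resolution in dimension one. -/
theorem resolution_of_isFinite_normalizationι (hdim : topologicalKrullDim Y ≤ 1)
    [hfin : IsFinite (Curv2.normalizationι Y)] :
    IsProper (Curv2.normalizationι Y) ∧ IsIntegral (Curv2.normalization Y) ∧
      (∃ V : Y.Opens, (V : Set Y).Nonempty ∧ IsIso (Curv2.normalizationι Y ∣_ V)) ∧
      ∀ x : Curv2.normalization Y,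
        IsRegularLocalRing ((Curv2.normalization Y).presheaf.stalk x) := by
  haveI : IsProper (Curv2.normalizationι Y) := inferInstance
  haveI hint : IsIntegral (Curv2.normalization Y) :=
    inferInstanceAs (IsIntegral (Y.fromSpecStalk (genericPoint Y)).normalization)
  refine ⟨inferInstance, hint, ?_, ?_⟩
  · obtain ⟨U, hU, hiso⟩ := Helper27BMCoh.exists_isIso_restrict_normalization Y
    exact ⟨U, ⟨_, hU⟩, hiso⟩
  · intro x
    have hN : Pi1.IsNormalScheme (Curv2.normalization Y) :=
      isNormalScheme_normalization_of_eq Y.functionField (RingHom.id _)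
        (Y.fromSpecStalk (genericPoint Y)) fromSpecStalk_eq_gen
    obtain ⟨h1, h2⟩ := hN x
    haveI := h1
    haveI := h2
    haveI : LocallyOfFiniteType (Curv2.normalizationι Y) := inferInstance
    haveI : IsLocallyNoetherian (Curv2.normalization Y) :=
      LocallyOfFiniteType.isLocallyNoetherian (Curv2.normalizationι Y)
    haveI : LocallyQuasiFinite (Curv2.normalizationι Y) := inferInstance
    have hd : ringKrullDim ((Curv2.normalization Y).presheaf.stalk x) ≤ 1 :=
      (ringKrullDim_stalk_le_of_locallyQuasiFinite (Curv2.normalizationι Y) x).trans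
        ((Helper4.FibDim.ringKrullDim_stalk_le_topologicalKrullDim Y _).trans hdim)
    exact Helper28.isRegularLocalRing_of_isIntegrallyClosed_of_dim_le_one hd

theorem main (hdim : topologicalKrullDim Y = 1) :
    ((∃ (X : Scheme.{u}) (g : X ⟶ Y), Curv2.IsAlteration g ∧
        ∀ x : X, IsRegularLocalRing (X.presheaf.stalk x)) ↔
      (∃ (X : Scheme.{u}) (g : X ⟶ Y), IsProper g ∧ IsIntegral X ∧
        (∃ V : Y.Opens, (V : Set Y).Nonempty ∧ IsIso (g ∣_ V)) ∧
        ∀ x : X, IsRegularLocalRing (X.presheaf.stalk x))) ∧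
    ((∃ (X : Scheme.{u}) (g : X ⟶ Y), IsProper g ∧ IsIntegral X ∧
        (∃ V : Y.Opens, (V : Set Y).Nonempty ∧ IsIso (g ∣_ V)) ∧
        ∀ x : X, IsRegularLocalRing (X.presheaf.stalk x)) ↔
      IsFinite (Curv2.normalizationι Y)) := by
  have h21 : (∃ (X : Scheme.{u}) (g : X ⟶ Y), IsProper g ∧ IsIntegral X ∧
        (∃ V : Y.Opens, (V : Set Y).Nonempty ∧ IsIso (g ∣_ V)) ∧
        ∀ x : X, IsRegularLocalRing (X.presheaf.stalk x)) →
      (∃ (X : Scheme.{u}) (g : X ⟶ Y), Curv2.IsAlteration g ∧
        ∀ x : X, IsRegularLocalRing (X.presheaf.stalk x)) := by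
    rintro ⟨X, g, hp, hi, ⟨V, hV, hiso⟩, hreg⟩
    haveI := hp
    haveI := hi
    haveI := hiso
    exact ⟨X, g, isAlteration_of_resolution g V hV, hreg⟩
  have h14 : (∃ (X : Scheme.{u}) (g : X ⟶ Y), Curv2.IsAlteration g ∧
        ∀ x : X, IsRegularLocalRing (X.presheaf.stalk x)) →
      IsFinite (Curv2.normalizationι Y) := by
    rintro ⟨X, g, hg, hreg⟩
    exact isFinite_normalizationι_of_alteration Y hdim.le g hg hreg
  have h42 : IsFinite (Curv2.normalizationι Y) →
      (∃ (X : Scheme.{u}) (g : X ⟶ Y), IsProper g ∧ IsIntegral X ∧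
        (∃ V : Y.Opens, (V : Set Y).Nonempty ∧ IsIso (g ∣_ V)) ∧
        ∀ x : X, IsRegularLocalRing (X.presheaf.stalk x)) := by
    intro hfin
    haveI := hfin
    exact ⟨_, Curv2.normalizationι Y, resolution_of_isFinite_normalizationι Y hdim.le⟩
  exact ⟨⟨fun h => h42 (h14 h), h21⟩, ⟨fun h => h14 (h21 h), h42⟩⟩

end Main

end Groth.Agent.Lib.Helper8Dim1Resolve
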