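import Mathlib
import Groth.Prelude.Def_RelSpec2
import Groth.Agent.Lib.Helper8ModCoprodSectR

/-!
# Direct image along a quasi-compact quasi-separated morphism commutes with direct sums, as
modules over the direct image algebra (helper8)
-/

set_option autoImplicit false
universe u
open CategoryTheory CategoryTheory.Limits AlgebraicGeometry Opposite TopologicalSpace

namespace Groth.Agent.Lib.Helper8DirImgCoprod

open Groth.Agent.Lib.Helper8CoprodCut Groth.Agent.Lib.Helper8ModCoprodSectR

variable {X S : Scheme.{u}} (f : X ⟶ S) [QuasiCompact f] [QuasiSeparated f]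

instance : (AMod.dirImg f).Additive where
  map_add := rfl

lemma ev_dirImg {M N : X.Modules} (φ : M ⟶ N) (V : S.Opens)
    (s : ((AMod.dirImg f).obj M).val.obj (op V)) :
    ev (AMod.ringSheaf (RelSpec.QCAlg.directImage f)) V ((AMod.dirImg f).map φ) s =
      ev X.ringCatSheaf (f ⁻¹ᵁ V) φ s := rfl

variable {ι : Type u} (F : ι → X.Modules)

open Classical in
theorem eq_zero_of_map_cut_comp {Q : AMod (RelSpec.QCAlg.directImage f)}
    (q : (AMod.dirImg f).obj (∐ F) ⟶ Q)
    (hq : ∀ T : Finset ι, (AMod.dirImg f).map (cut F T) ≫ q = q) : q = 0 := by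
  apply hom_eq_zero_of_ev
  intro V x
  apply section_eq_zero_of_locally
  intro y hy
  obtain ⟨V', hV'aff, hyV', hV'V⟩ := exists_isAffineOpen_mem_and_subset (x := y) (U := V) hy
  refine ⟨V', hV'V, hyV', ?_⟩
  have hc : IsCompact ((f ⁻¹ᵁ V' : X.Opens) : Set X) :=
    QuasiCompact.isCompact_preimage (f := f) _ V'.isOpen hV'aff.isCompact
  rw [ev_map]
  obtain ⟨T, hT⟩ := exists_cut_eq_zero_of_compact X.ringCatSheaf F (f ⁻¹ᵁ V') hc
    ((abPre _ ((AMod.dirImg f).obj (∐ F))).map (homOfLE hV'V).op x)
  conv_lhs => rw [← hq T]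
  rw [ev_comp, ev_dirImg]
  exact (congrArg _ hT).trans (map_zero _)

open Classical in
theorem isIso_sigmaComparison : IsIso (sigmaComparison (AMod.dirImg f) F) := by
  have hmono : Mono (sigmaComparison (AMod.dirImg f) F) := by
    apply Abelian.mono_of_kernel_ι_eq_zero
    apply eq_zero_of_comp_cut _ (fun i => (AMod.dirImg f).obj (F i))
    intro T
    have hp : ∀ i, sigmaComparison (AMod.dirImg f) F ≫ (AMod.dirImg f).map (Sigma.π F i) =
          Sigma.π (fun i => (AMod.dirImg f).obj (F i)) i := by
      intro i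
      apply Sigma.hom_ext
      intro j
      rw [ι_comp_sigmaComparison_assoc, ← Functor.map_comp]
      by_cases h : j = i
      · subst h
        rw [Sigma.ι_π_eq_id, Sigma.ι_π_eq_id, CategoryTheory.Functor.map_id]
      · rw [Sigma.ι_π_of_ne _ h, Sigma.ι_π_of_ne _ h, Functor.map_zero]
    have hk : ∀ i, kernel.ι (sigmaComparison (AMod.dirImg f) F) ≫
        Sigma.π (fun i => (AMod.dirImg f).obj (F i)) i = 0 := by
      intro i
      rw [← hp i, kernel.condition_assoc, zero_comp]
    unfold cut
    rw [Preadditive.comp_sub, Category.comp_id, Preadditive.comp_sum, sub_eq_self]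
    apply Finset.sum_eq_zero
    intro i _
    rw [← Category.assoc, hk i, zero_comp]
  have hepi : Epi (sigmaComparison (AMod.dirImg f) F) := by
    apply Abelian.epi_of_cokernel_π_eq_zero
    apply eq_zero_of_map_cut_comp f F
    intro T
    have hι : ∀ i, (AMod.dirImg f).map (Sigma.ι F i) ≫
        cokernel.π (sigmaComparison (AMod.dirImg f) F) = 0 := by
      intro i
      rw [← ι_comp_sigmaComparison, Category.assoc, cokernel.condition, comp_zero]
    unfold cut
    rw [Functor.map_sub, CategoryTheory.Functor.map_id, Functor.map_sum, Preadditive.sub_comp,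
      Category.id_comp, Preadditive.sum_comp, sub_eq_self]
    apply Finset.sum_eq_zero
    intro i _
    rw [Functor.map_comp, Category.assoc, hι i, comp_zero]
  exact isIso_of_mono_of_epi _

end Groth.Agent.Lib.Helper8DirImgCoprod
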