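import Mathlib

/-!
# Finite intersections of valuation subrings

For finitely many valuation subrings `O i` of a field `L` and a subfield `K`, the ring
`S = K ∩ ⋂ O i` is a semilocal Prüfer domain with fraction field `K`.
-/

set_option autoImplicit false

namespace Groth.Agent.Lib.R2H7.ValInter

variable {L : Type*} [Field L]

/-- geometric sums -/
noncomputable def gs (x : L) (s : ℕ) : L := ∑ j ∈ Finset.range s, x ^ j

lemma gs_one (x : L) : gs x 1 = 1 := by simp [gs]

lemma gs_succ (x : L) (s : ℕ) : gs x (s + 1) = gs x s + x ^ s := by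
  simp [gs, Finset.sum_range_succ]

lemma gs_add (x : L) (a b : ℕ) : gs x (a + b) = gs x a + x ^ a * gs x b := by
  simp only [gs, Finset.sum_range_add, Finset.mul_sum, pow_add]

lemma gs_mul_sub_one (x : L) (n : ℕ) : gs x n * (x - 1) = x ^ n - 1 := geom_sum_mul x n

section One

variable (A : ValuationSubring L)

lemma val_pow_le_one {x : L} (hx : x ∈ A) (k : ℕ) : A.valuation (x ^ k) ≤ 1 :=
  (A.valuation_le_one_iff _).mpr (pow_mem hx k)

lemma val_gs_le_one {x : L} (hx : x ∈ A) (s : ℕ) : A.valuation (gs x s) ≤ 1 :=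
  (A.valuation_le_one_iff _).mpr (sum_mem fun j _ => pow_mem hx j)

/-- if some geometric sum is a non-unit, the geometric sums are periodic modulo the maximal
ideal -/
lemma val_gs_eq_one_of_period {x : L} (hx : x ∈ A) (n : ℕ) (hn : A.valuation (gs x n) < 1)
    (m : ℕ) : A.valuation (gs x (1 + n * m)) = 1 := by
  induction m with
  | zero => simp [gs_one]
  | succ m ih =>
    have h1 : 1 + n * (m + 1) = (1 + n * m) + n := by ring
    rw [h1, gs_add]
    have h2 : A.valuation (x ^ (1 + n * m) * gs x n) < 1 := by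
      rw [map_mul]
      calc A.valuation (x ^ (1 + n * m)) * A.valuation (gs x n)
          ≤ 1 * A.valuation (gs x n) := mul_le_mul_left (val_pow_le_one A hx _) _
        _ = A.valuation (gs x n) := one_mul _
        _ < 1 := hn
    rw [Valuation.map_add_eq_of_lt_left _ (by rw [ih]; exact h2), ih]

/-- outside of the valuation ring the top term dominates -/
lemma val_gs_of_notMem {x : L} (hx : x ∉ A) (s : ℕ) :
    A.valuation (gs x (s + 1)) = A.valuation x ^ s := by
  have hx1 : 1 < A.valuation x := by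
    rw [← not_le, A.valuation_le_one_iff]
    exact hx
  induction s with
  | zero => simp [gs_one]
  | succ s ih =>
    rw [gs_succ]
    have h2 : A.valuation (gs x (s + 1)) < A.valuation (x ^ (s + 1)) := by
      rw [ih, map_pow]
      exact pow_lt_pow_right₀ hx1 (Nat.lt_succ_self s)
    rw [Valuation.map_add_eq_of_lt_right _ h2, map_pow]

end One

section Family

variable {ι : Type*} (O : ι → ValuationSubring L)

open Classical in
/-- the period attached to `i` -/
noncomputable def period (x : L) (i : ι) : ℕ :=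
  if h : ∃ n, 1 ≤ n ∧ (O i).valuation (gs x n) < 1 then h.choose else 1

lemma period_pos (x : L) (i : ι) : 1 ≤ period O x i := by
  unfold period
  split_ifs with h
  · exact h.choose_spec.1
  · exact le_rfl

lemma val_gs_period {x : L} {i : ι} (hx : x ∈ O i) (m : ℕ) :
    (O i).valuation (gs x (1 + period O x i * m)) = 1 := by
  unfold period
  split_ifs with h
  · exact val_gs_eq_one_of_period (O i) hx _ h.choose_spec.2 m
  · have h' : ¬ (O i).valuation (gs x (1 + 1 * m)) < 1 := fun hlt =>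
      h ⟨1 + 1 * m, by omega, hlt⟩
    exact le_antisymm (val_gs_le_one (O i) hx _) (not_lt.mp h')

variable [Finite ι]

/-- **Key lemma**: a common denominator `gs x s` for `x` with respect to all `O i`. -/
theorem exists_gs [Nonempty ι] (x : L) :
    ∃ s : ℕ, 2 ≤ s ∧ gs x s ≠ 0 ∧ (∀ i, x ∈ O i → (O i).valuation (gs x s) = 1) ∧
      (∀ i, x ∉ O i → (gs x s)⁻¹ ∈ O i ∧ x * (gs x s)⁻¹ ∈ O i) := by
  classical
  haveI := Fintype.ofFinite ι
  set N : ℕ := ∏ i, period O x i with hN
  have hNpos : 1 ≤ N := Nat.one_le_iff_ne_zero.mpr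
    (Finset.prod_ne_zero_iff.mpr fun i _ => Nat.one_le_iff_ne_zero.mp (period_pos O x i))
  have h1 : ∀ i, x ∈ O i → (O i).valuation (gs x (1 + N)) = 1 := by
    intro i hx
    have : N = period O x i * ∏ j ∈ Finset.univ.erase i, period O x j :=
      (Finset.mul_prod_erase Finset.univ _ (Finset.mem_univ i)).symm
    rw [this]
    exact val_gs_period O hx _
  have h2 : ∀ i, x ∉ O i → (O i).valuation (gs x (1 + N)) = (O i).valuation x ^ N ∧
      1 < (O i).valuation x := by
    intro i hx
    refine ⟨by rw [add_comm]; exact val_gs_of_notMem (O i) hx N, ?_⟩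
    rw [← not_le, (O i).valuation_le_one_iff]
    exact hx
  refine ⟨1 + N, by omega, ?_, h1, ?_⟩
  · obtain ⟨i₀⟩ := ‹Nonempty ι›
    intro h0
    by_cases hx : x ∈ O i₀
    · have := h1 i₀ hx
      rw [h0, map_zero] at this
      exact zero_ne_one this
    · obtain ⟨h3, h4⟩ := h2 i₀ hx
      rw [h0, map_zero] at h3
      have : (O i₀).valuation x ^ N ≠ 0 := pow_ne_zero _ (ne_of_gt (lt_trans zero_lt_one h4))
      exact this h3.symm
  · intro i hx
    obtain ⟨h3, h4⟩ := h2 i hx
    have h5 : 1 ≤ (O i).valuation x ^ N := one_le_pow₀ h4.le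
    constructor
    · rw [← (O i).valuation_le_one_iff, map_inv₀, h3]
      exact inv_le_one_of_one_le₀ h5
    · rw [← (O i).valuation_le_one_iff, map_mul, map_inv₀, h3]
      have h6 : (O i).valuation x ≤ (O i).valuation x ^ N := le_self_pow₀ h4.le (by omega)
      have hpos : 0 < (O i).valuation x ^ N := lt_of_lt_of_le zero_lt_one h5
      rw [← div_eq_mul_inv]
      exact (div_le_one₀ hpos).mpr h6

end Family

section Inter

variable {ι : Type*} (O : ι → ValuationSubring L) (K : Subfield L) (S : Subring L)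

/-- the prime ideal of `S` cut out by the maximal ideal of `O i` -/
def nIdeal (hS : ∀ x, x ∈ S → ∀ i, x ∈ O i) (i : ι) : Ideal S where
  carrier := {a | (O i).valuation (a : L) < 1}
  add_mem' := by
    intro a b ha hb
    have ha' : (O i).valuation (a : L) < 1 := ha
    have hb' : (O i).valuation (b : L) < 1 := hb
    change (O i).valuation ((a : L) + (b : L)) < 1
    exact lt_of_le_of_lt (Valuation.map_add _ _ _) (max_lt ha' hb')
  zero_mem' := by simp
  smul_mem' := by
    intro c a ha
    change (O i).valuation ((c : L) * (a : L)) < 1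
    rw [map_mul]
    calc (O i).valuation (c : L) * (O i).valuation (a : L)
        ≤ 1 * (O i).valuation (a : L) :=
          mul_le_mul_left (((O i).valuation_le_one_iff _).mpr (hS c c.2 i)) _
      _ = (O i).valuation (a : L) := one_mul _
      _ < 1 := ha

lemma mem_nIdeal (hS : ∀ x, x ∈ S → ∀ i, x ∈ O i) (i : ι) (a : S) :
    a ∈ nIdeal O S hS i ↔ (O i).valuation (a : L) < 1 := Iff.rfl

lemma notMem_nIdeal (hS : ∀ x, x ∈ S → ∀ i, x ∈ O i) (i : ι) (a : S) :
    a ∉ nIdeal O S hS i ↔ (O i).valuation (a : L) = 1 := by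
  rw [mem_nIdeal, not_lt]
  exact ⟨fun h => le_antisymm (((O i).valuation_le_one_iff _).mpr (hS a a.2 i)) h, fun h => h.ge⟩

instance nIdeal_isPrime (hS : ∀ x, x ∈ S → ∀ i, x ∈ O i) (i : ι) :
    (nIdeal O S hS i).IsPrime where
  ne_top' := by
    intro h
    have : (1 : S) ∈ nIdeal O S hS i := by rw [h]; trivial
    rw [mem_nIdeal] at this
    simp at this
  mem_or_mem' := by
    intro a b hab
    by_contra hcon
    rw [not_or, notMem_nIdeal, notMem_nIdeal] at hcon
    rw [mem_nIdeal] at hab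
    have : (O i).valuation ((a * b : S) : L) = 1 := by
      rw [Subring.coe_mul, map_mul, hcon.1, hcon.2, one_mul]
    rw [this] at hab
    exact lt_irrefl _ hab

variable [Finite ι] [Nonempty ι] (hS : ∀ x, x ∈ S ↔ x ∈ K ∧ ∀ i, x ∈ O i)

include hS in
/-- common denominators in `S` -/
theorem exists_denominator (x : L) (hx : x ∈ K) :
    ∃ y : L, y ∈ S ∧ y ≠ 0 ∧ x * y ∈ S ∧ ∀ i, x ∈ O i → (O i).valuation y = 1 := by
  obtain ⟨s, _, h0, h1, h2⟩ := exists_gs O x
  have hgK : gs x s ∈ K := sum_mem fun j _ => pow_mem hx j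
  refine ⟨(gs x s)⁻¹, ?_, inv_ne_zero h0, ?_, ?_⟩
  · rw [hS]
    refine ⟨inv_mem hgK, fun i => ?_⟩
    by_cases hxi : x ∈ O i
    · rw [← (O i).valuation_le_one_iff, map_inv₀, h1 i hxi, inv_one]
    · exact (h2 i hxi).1
  · rw [hS]
    refine ⟨mul_mem hx (inv_mem hgK), fun i => ?_⟩
    by_cases hxi : x ∈ O i
    · refine mul_mem hxi ?_
      rw [← (O i).valuation_le_one_iff, map_inv₀, h1 i hxi, inv_one]
    · exact (h2 i hxi).2
  · intro i hxi
    rw [map_inv₀, h1 i hxi, inv_one]

include hS in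
/-- `K` is the fraction field of `S` -/
theorem exists_eq_div (x : L) (hx : x ∈ K) :
    ∃ a b : L, a ∈ S ∧ b ∈ S ∧ b ≠ 0 ∧ x = a / b := by
  obtain ⟨y, hy, hy0, hxy, _⟩ := exists_denominator O K S hS x hx
  exact ⟨x * y, y, hxy, hy, hy0, by field_simp⟩

omit [Finite ι] in
include hS in
/-- an element of `S` outside all the `nIdeal i` is a unit -/
theorem isUnit_of_forall_notMem (a : S)
    (ha : ∀ i, a ∉ nIdeal O S (fun x hx => ((hS x).mp hx).2) i) : IsUnit a := by
  have hv : ∀ i, (O i).valuation (a : L) = 1 := fun i =>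
    (notMem_nIdeal O S (fun x hx => ((hS x).mp hx).2) i a).mp (ha i)
  obtain ⟨i₀⟩ := ‹Nonempty ι›
  have ha0 : (a : L) ≠ 0 := by
    intro h
    have := hv i₀
    rw [h, map_zero] at this
    exact zero_ne_one this
  have hinv : (a : L)⁻¹ ∈ S := by
    rw [hS]
    refine ⟨inv_mem ((hS a).mp a.2).1, fun i => ?_⟩
    rw [← (O i).valuation_le_one_iff, map_inv₀, hv i, inv_one]
  refine IsUnit.of_mul_eq_one (⟨(a : L)⁻¹, hinv⟩ : S) ?_
  apply Subtype.ext
  simp [ha0]

include hS in
/-- every proper ideal of `S` is contained in some `nIdeal i` -/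
theorem exists_le_nIdeal (I : Ideal S) (hI : I ≠ ⊤) :
    ∃ i, I ≤ nIdeal O S (fun x hx => ((hS x).mp hx).2) i := by
  classical
  haveI := Fintype.ofFinite ι
  by_contra hcon
  rw [not_exists] at hcon
  have h1 : ¬ ((I : Set S) ⊆ ⋃ i ∈ ((Finset.univ : Finset ι) : Set ι),
      (nIdeal O S (fun x hx => ((hS x).mp hx).2) i : Set S)) := by
    obtain ⟨i₀⟩ := ‹Nonempty ι›
    rw [Ideal.subset_union_prime i₀ i₀ (fun i _ _ _ => inferInstance)]
    rintro ⟨i, _, hi⟩
    exact hcon i hi
  rw [Set.not_subset] at h1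
  obtain ⟨a, haI, ha⟩ := h1
  simp only [Finset.coe_univ, Set.mem_univ, Set.iUnion_true, Set.mem_iUnion, SetLike.mem_coe,
    not_exists] at ha
  exact hI (Ideal.eq_top_of_isUnit_mem I haI (isUnit_of_forall_notMem O K S hS a ha))

include hS in
/-- `S` is semilocal -/
theorem finite_maximalSpectrum : Finite (MaximalSpectrum S) := by
  have h : ∀ M : MaximalSpectrum S, ∃ i,
      M.asIdeal = nIdeal O S (fun x hx => ((hS x).mp hx).2) i := by
    intro M
    obtain ⟨i, hi⟩ := exists_le_nIdeal O K S hS M.asIdeal M.isMaximal.ne_top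
    exact ⟨i, M.isMaximal.eq_of_le (nIdeal_isPrime O S _ i).ne_top hi⟩
  choose f hf using h
  refine Finite.of_injective f ?_
  intro M M' hMM'
  ext1
  rw [hf M, hf M', hMM']

include hS in
/-- the localizations of `S` at primes are valuation rings -/
theorem valuationRing_localization (p : Ideal S) [hp : p.IsPrime] :
    ValuationRing (Localization.AtPrime p) := by
  obtain ⟨i, hi⟩ := exists_le_nIdeal O K S hS p hp.ne_top
  suffices PreValuationRing (Localization.AtPrime p) from ValuationRing.mk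
  constructor
  intro a b
  obtain ⟨a₁, s, rfl⟩ := IsLocalization.exists_mk'_eq p.primeCompl a
  obtain ⟨b₁, t, rfl⟩ := IsLocalization.exists_mk'_eq p.primeCompl b
  by_cases ha : a₁ = 0
  · subst ha
    exact ⟨0, Or.inr (by simp)⟩
  by_cases hb : b₁ = 0
  · subst hb
    exact ⟨0, Or.inl (by simp)⟩
  have ha' : (a₁ : L) ≠ 0 := fun h => ha (Subtype.ext h)
  have hb' : (b₁ : L) ≠ 0 := fun h => hb (Subtype.ext h)
  have hs' : ((s : S) : L) ≠ 0 := fun h => s.2 (by
    have : (s : S) = 0 := Subtype.ext h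
    rw [this]; exact p.zero_mem)
  have ht' : ((t : S) : L) ≠ 0 := fun h => t.2 (by
    have : (t : S) = 0 := Subtype.ext h
    rw [this]; exact p.zero_mem)
  have hK : ∀ c : S, (c : L) ∈ K := fun c => ((hS c).mp c.2).1
  set x : L := ((b₁ : L) * ((s : S) : L)) / ((a₁ : L) * ((t : S) : L)) with hx
  have hxK : x ∈ K := div_mem (mul_mem (hK _) (hK _)) (mul_mem (hK _) (hK _))
  have hcompl : ∀ (y : L) (hyS : y ∈ S), (O i).valuation y = 1 →
      (⟨y, hyS⟩ : S) ∈ p.primeCompl := by
    intro y hyS hyv hmem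
    have := hi hmem
    rw [mem_nIdeal] at this
    change (O i).valuation y < 1 at this
    rw [hyv] at this
    exact lt_irrefl _ this
  rcases (O i).mem_or_inv_mem x with hxi | hxi
  · obtain ⟨y, hyS, hy0, hxyS, hyv⟩ := exists_denominator O K S hS x hxK
    refine ⟨IsLocalization.mk' _ (⟨x * y, hxyS⟩ : S) ⟨⟨y, hyS⟩, hcompl y hyS (hyv i hxi)⟩,
      Or.inl ?_⟩
    rw [← IsLocalization.mk'_mul, IsLocalization.mk'_eq_iff_eq]
    congr 1
    apply Subtype.ext
    simp only [Subring.coe_mul, Submonoid.coe_mul]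
    rw [hx]
    field_simp
  · have hxK' : x⁻¹ ∈ K := inv_mem hxK
    obtain ⟨y, hyS, hy0, hxyS, hyv⟩ := exists_denominator O K S hS x⁻¹ hxK'
    refine ⟨IsLocalization.mk' _ (⟨x⁻¹ * y, hxyS⟩ : S) ⟨⟨y, hyS⟩, hcompl y hyS (hyv i hxi)⟩,
      Or.inr ?_⟩
    rw [← IsLocalization.mk'_mul, IsLocalization.mk'_eq_iff_eq]
    congr 1
    apply Subtype.ext
    simp only [Subring.coe_mul, Submonoid.coe_mul]
    rw [hx]
    field_simp

end Inter

end Groth.Agent.Lib.R2H7.ValInter
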