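import Mathlib
import Groth.Agent.Lib.R2H7ValInter

/-!
# Approximation theorem for finitely many distinct discrete valuation subrings of a field
-/

set_option autoImplicit false

namespace Groth.Agent.Lib.R2H7.DvrApprox

open Groth.Agent.Lib.R2H7.ValInter IsLocalRing

variable {K : Type*} [Field K]

theorem coe_inv_unit (A : ValuationSubring K) (u : Aˣ) :
    (((u⁻¹ : Aˣ) : A) : K) = ((u : A) : K)⁻¹ := by
  have h : (((u⁻¹ : Aˣ) : A) : K) * ((u : A) : K) = 1 := congrArg Subtype.val (Units.inv_mul u)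
  exact eq_inv_of_mul_eq_one_left h

/-- a discrete valuation subring is maximal among the proper valuation subrings -/
theorem eq_of_le_of_dvr (A B : ValuationSubring K) [IsDiscreteValuationRing A] (hAB : A ≤ B)
    (hB : ∃ z : K, z ∉ B) : A = B := by
  refine le_antisymm hAB ?_
  intro x hxB
  by_contra hxA
  exfalso
  obtain ⟨ϖ, hϖ⟩ := IsDiscreteValuationRing.exists_irreducible A
  have hϖ0 : (ϖ : K) ≠ 0 := fun h => hϖ.ne_zero (Subtype.ext h)
  have hx0 : x ≠ 0 := fun h => hxA (h ▸ A.zero_mem)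
  have hxinv : x⁻¹ ∈ A := (A.mem_or_inv_mem x).resolve_left hxA
  have hmem : (⟨x⁻¹, hxinv⟩ : A) ∈ maximalIdeal A := by
    rw [ValuationSubring.valuation_lt_one_iff]
    show A.valuation x⁻¹ < 1
    rw [map_inv₀]
    have h1 : 1 < A.valuation x := by
      rw [← not_le, ValuationSubring.valuation_le_one_iff]; exact hxA
    exact inv_lt_one_of_one_lt₀ h1
  rw [hϖ.maximalIdeal_eq, Ideal.mem_span_singleton'] at hmem
  obtain ⟨a, ha⟩ := hmem
  have ha' : (a : K) * (ϖ : K) = x⁻¹ := congrArg Subtype.val ha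
  have hϖinv : (ϖ : K)⁻¹ ∈ B := by
    have h1 : (ϖ : K)⁻¹ = (a : K) * x := by
      field_simp
      have : (a : K) * (ϖ : K) * x = 1 := by rw [ha']; exact inv_mul_cancel₀ hx0
      linear_combination -this
    rw [h1]
    exact mul_mem (hAB a.2) hxB
  obtain ⟨z, hz⟩ := hB
  apply hz
  by_cases hzA : z ∈ A
  · exact hAB hzA
  have hz0 : z ≠ 0 := fun h => hzA (h ▸ A.zero_mem)
  have hzinv : z⁻¹ ∈ A := (A.mem_or_inv_mem z).resolve_left hzA
  have hzinv0 : (⟨z⁻¹, hzinv⟩ : A) ≠ 0 := fun h => inv_ne_zero hz0 (congrArg Subtype.val h)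
  obtain ⟨l, u, hlu⟩ := IsDiscreteValuationRing.eq_unit_mul_pow_irreducible hzinv0 hϖ
  have hlu' : z⁻¹ = ((u : A) : K) * (ϖ : K) ^ l := congrArg Subtype.val hlu
  have hz' : z = (((u⁻¹ : Aˣ) : A) : K) * ((ϖ : K)⁻¹) ^ l := by
    rw [coe_inv_unit, inv_pow, ← mul_inv, ← hlu', inv_inv]
  rw [hz']
  exact mul_mem (hAB (Subtype.mem _)) (pow_mem hϖinv l)

theorem top_not_dvr (A : ValuationSubring K) [IsDiscreteValuationRing A] : ∃ z : K, z ∉ A := by
  by_contra hcon
  push Not at hcon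
  apply IsDiscreteValuationRing.not_isField A
  refine ⟨⟨0, 1, zero_ne_one⟩, mul_comm, ?_⟩
  intro a ha
  refine ⟨⟨(a : K)⁻¹, hcon _⟩, ?_⟩
  apply Subtype.ext
  show (a : K) * (a : K)⁻¹ = 1
  exact mul_inv_cancel₀ (fun h => ha (Subtype.ext h))

/-- **Approximation theorem** for pairwise distinct discrete valuation subrings. -/
theorem approx {r : ℕ} (O : Fin r → ValuationSubring K)
    (hO : ∀ i, IsDiscreteValuationRing (O i)) (hinj : Function.Injective O)
    (fs : Fin r → K) (n : Fin r → ℤ) :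
    ∃ f : K, ∀ i : Fin r, ∃ (ϖ : O i) (_ : Irreducible ϖ) (w : (O i)ˣ),
      f - fs i = ((w : O i) : K) * ((ϖ : K) ^ (n i)) := by
  classical
  rcases Nat.eq_zero_or_pos r with hr | hr
  · subst hr; exact ⟨0, fun i => i.elim0⟩
  haveI : Nonempty (Fin r) := ⟨⟨0, hr⟩⟩
  obtain ⟨S, hSdef⟩ : ∃ S : Subring K, S = ⨅ i, (O i).toSubring := ⟨_, rfl⟩
  have hS : ∀ x, x ∈ S ↔ x ∈ (⊤ : Subfield K) ∧ ∀ i, x ∈ O i := by
    intro x
    rw [hSdef, Subring.mem_iInf]
    exact ⟨fun h => ⟨Subfield.mem_top x, fun i => h i⟩, fun h i => h.2 i⟩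
  have hS' : ∀ x, x ∈ S → ∀ i, x ∈ O i := fun x hx => ((hS x).mp hx).2
  -- uniformizers
  have hex : ∀ i, ∃ ϖ : O i, Irreducible ϖ := fun i =>
    haveI := hO i
    IsDiscreteValuationRing.exists_irreducible (O i)
  choose ϖ hϖ using hex
  have hϖ0 : ∀ i, ((ϖ i : O i) : K) ≠ 0 := fun i h => (hϖ i).ne_zero (Subtype.ext h)
  have hvϖ : ∀ i, (O i).valuation ((ϖ i : O i) : K) < 1 := fun i => by
    rw [← ValuationSubring.valuation_lt_one_iff, mem_maximalIdeal]
    exact (hϖ i).not_isUnit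
  have hvϖ0 : ∀ i, (0 : (O i).ValueGroup) < (O i).valuation ((ϖ i : O i) : K) := fun i =>
    zero_lt_iff.mpr ((Valuation.ne_zero_iff _).mpr (hϖ0 i))
  -- nonunits are divisible by the uniformizer
  have hvle : ∀ i (x : K), (O i).valuation x < 1 →
      (O i).valuation x ≤ (O i).valuation ((ϖ i : O i) : K) := by
    intro i x hx
    haveI := hO i
    have hxO : x ∈ O i := (ValuationSubring.valuation_le_one_iff _ _).mp hx.le
    have hmem : (⟨x, hxO⟩ : O i) ∈ maximalIdeal (O i) := by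
      rw [ValuationSubring.valuation_lt_one_iff]; exact hx
    rw [(hϖ i).maximalIdeal_eq, Ideal.mem_span_singleton'] at hmem
    obtain ⟨a, ha⟩ := hmem
    have ha' : (a : K) * ((ϖ i : O i) : K) = x := congrArg Subtype.val ha
    rw [← ha', map_mul]
    calc (O i).valuation (a : K) * (O i).valuation ((ϖ i : O i) : K)
        ≤ 1 * (O i).valuation ((ϖ i : O i) : K) :=
          mul_le_mul' ((O i).valuation_le_one a) le_rfl
      _ = _ := one_mul _
  -- powers of the ideals
  have hpow : ∀ i (N : ℕ) (a : S), a ∈ nIdeal O S hS' i ^ N →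
      (O i).valuation (a : K) ≤ (O i).valuation ((ϖ i : O i) : K) ^ N := by
    intro i N
    induction N with
    | zero =>
      intro a _
      rw [pow_zero]
      exact (ValuationSubring.valuation_le_one_iff _ _).mpr (hS' a a.2 i)
    | succ N ih =>
      intro a ha
      rw [pow_succ] at ha
      refine Submodule.mul_induction_on ha ?_ ?_
      · intro x hx y hy
        have h1 := ih x hx
        have h2 := hvle i (y : K) ((mem_nIdeal O S hS' i y).mp hy)
        show (O i).valuation ((x : K) * (y : K)) ≤ _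
        rw [map_mul, pow_succ]
        exact mul_le_mul' h1 h2
      · intro x y hx hy
        show (O i).valuation ((x : K) + (y : K)) ≤ _
        exact (Valuation.map_add _ _ _).trans (max_le hx hy)
  -- archimedean property
  have harch : ∀ i (c : K), c ≠ 0 →
      ∃ N : ℕ, (O i).valuation ((ϖ i : O i) : K) ^ N < (O i).valuation c := by
    intro i c hc
    haveI := hO i
    by_cases hcO : c ∈ O i
    · have hc0 : (⟨c, hcO⟩ : O i) ≠ 0 := fun h => hc (congrArg Subtype.val h)
      obtain ⟨k, u, hku⟩ := IsDiscreteValuationRing.eq_unit_mul_pow_irreducible hc0 (hϖ i)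
      have hku' : c = ((u : O i) : K) * ((ϖ i : O i) : K) ^ k := congrArg Subtype.val hku
      refine ⟨k + 1, ?_⟩
      rw [hku', map_mul, ValuationSubring.valuation_unit, one_mul, map_pow]
      exact pow_lt_pow_right_of_lt_one₀ (hvϖ0 i) (hvϖ i) (Nat.lt_succ_self k)
    · refine ⟨0, ?_⟩
      rw [pow_zero, ← not_le, ValuationSubring.valuation_le_one_iff]
      exact hcO
  -- the ideals are maximal and pairwise distinct
  have hnle : ∀ i j, nIdeal O S hS' i ≤ nIdeal O S hS' j → i = j := by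
    intro i j hij
    apply hinj
    haveI := hO j
    symm
    refine eq_of_le_of_dvr (O j) (O i) ?_ (haveI := hO i; top_not_dvr (O i))
    intro x hx
    obtain ⟨y, hyS, hy0, hxy, hval⟩ := exists_denominator O ⊤ S hS x (Subfield.mem_top x)
    have hvj : (O j).valuation y = 1 := hval j hx
    have hyj : (⟨y, hyS⟩ : S) ∉ nIdeal O S hS' j := by
      rw [mem_nIdeal]; exact fun h => (ne_of_lt h) hvj
    have hyi : (⟨y, hyS⟩ : S) ∉ nIdeal O S hS' i := fun h => hyj (hij h)
    have hvi : (O i).valuation y = 1 := (notMem_nIdeal O S hS' i ⟨y, hyS⟩).mp hyi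
    have h1 : (O i).valuation (x * y) ≤ 1 :=
      (ValuationSubring.valuation_le_one_iff _ _).mpr (hS' _ hxy i)
    rw [map_mul, hvi, mul_one] at h1
    exact (ValuationSubring.valuation_le_one_iff _ _).mp h1
  have hmax : ∀ i, (nIdeal O S hS' i).IsMaximal := by
    intro i
    obtain ⟨M, hM, hiM⟩ := Ideal.exists_le_maximal _ (nIdeal_isPrime O S hS' i).ne_top
    obtain ⟨j, hj⟩ := exists_le_nIdeal O ⊤ S hS M hM.ne_top
    have hij := hnle i j (hiM.trans hj)
    subst hij
    have h1 : nIdeal O S hS' i = M := le_antisymm hiM hj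
    rw [h1]; exact hM
  -- targets
  obtain ⟨t, ht⟩ : ∃ t : Fin r → K, ∀ i, t i = fs i + ((ϖ i : O i) : K) ^ (n i) := ⟨_, fun _ => rfl⟩
  have hq0 : ∀ i, ((ϖ i : O i) : K) ^ (n i) ≠ 0 := fun i => zpow_ne_zero _ (hϖ0 i)
  -- common denominator
  have hden : ∀ s : Finset (Fin r), ∃ y : K, y ∈ S ∧ y ≠ 0 ∧ ∀ i ∈ s, y * t i ∈ S := by
    intro s
    induction s using Finset.induction_on with
    | empty => exact ⟨1, S.one_mem, one_ne_zero, fun i hi => absurd hi (Finset.notMem_empty i)⟩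
    | insert i s _ ih =>
      obtain ⟨y, hyS, hy0, hy⟩ := ih
      obtain ⟨z, hzS, hz0, hz, -⟩ := exists_denominator O ⊤ S hS (t i) (Subfield.mem_top _)
      refine ⟨y * z, S.mul_mem hyS hzS, mul_ne_zero hy0 hz0, ?_⟩
      intro j hj
      rcases Finset.mem_insert.mp hj with h | h
      · rw [h, mul_assoc, mul_comm z (t i)]
        exact S.mul_mem hyS hz
      · have : y * z * t j = z * (y * t j) := by ring
        rw [this]
        exact S.mul_mem hzS (hy j h)
  obtain ⟨y, hyS, hy0, hy⟩ := hden Finset.univ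
  -- the precision
  have hN : ∀ i, ∃ N : ℕ, (O i).valuation ((ϖ i : O i) : K) ^ N <
      (O i).valuation (y * ((ϖ i : O i) : K) ^ (n i)) :=
    fun i => harch i _ (mul_ne_zero hy0 (hq0 i))
  choose Ni hNi using hN
  obtain ⟨N, hNdef⟩ : ∃ N : ℕ, N = Finset.univ.sup Ni := ⟨_, rfl⟩
  have hNle : ∀ i, Ni i ≤ N := fun i => by rw [hNdef]; exact Finset.le_sup (Finset.mem_univ i)
  have hcop : Pairwise (Function.onFun IsCoprime fun i => nIdeal O S hS' i ^ N) := by
    intro i j hij
    haveI := hmax i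
    haveI := hmax j
    exact (Ideal.isCoprime_of_isMaximal (fun h => hij (hnle i j h.le))).pow
  obtain ⟨F, hF⟩ := Ideal.exists_forall_sub_mem_ideal hcop
    (fun i => (⟨y * t i, hy i (Finset.mem_univ i)⟩ : S))
  refine ⟨(F : K) / y, fun i => ?_⟩
  have hv1 : (O i).valuation ((F : K) - y * t i) <
      (O i).valuation (y * ((ϖ i : O i) : K) ^ (n i)) := by
    have h1 := hpow i N _ (hF i)
    have h2 : (O i).valuation ((ϖ i : O i) : K) ^ N ≤ (O i).valuation ((ϖ i : O i) : K) ^ Ni i :=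
      pow_le_pow_right_of_le_one' (hvϖ i).le (hNle i)
    exact lt_of_le_of_lt (h1.trans h2) (hNi i)
  have hε : (O i).valuation (((F : K) - y * t i) / (y * ((ϖ i : O i) : K) ^ (n i))) < 1 := by
    rw [map_div₀]
    have hpos : (0 : (O i).ValueGroup) < (O i).valuation (y * ((ϖ i : O i) : K) ^ (n i)) :=
      zero_lt_iff.mpr ((Valuation.ne_zero_iff _).mpr (mul_ne_zero hy0 (hq0 i)))
    exact (div_lt_one₀ hpos).mpr hv1
  have hw1 : (O i).valuation (1 + ((F : K) - y * t i) / (y * ((ϖ i : O i) : K) ^ (n i))) = 1 :=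
    Valuation.map_one_add_of_lt _ hε
  have hwO : 1 + ((F : K) - y * t i) / (y * ((ϖ i : O i) : K) ^ (n i)) ∈ O i :=
    (ValuationSubring.valuation_le_one_iff _ _).mp hw1.le
  have hunit : IsUnit (⟨_, hwO⟩ : O i) := (ValuationSubring.valuation_eq_one_iff _ _).mpr hw1
  refine ⟨ϖ i, hϖ i, hunit.unit, ?_⟩
  rw [IsUnit.unit_spec]
  show (F : K) / y - fs i =
    (1 + ((F : K) - y * t i) / (y * ((ϖ i : O i) : K) ^ (n i))) * ((ϖ i : O i) : K) ^ (n i)
  rw [ht i]
  have hq := hq0 i
  field_simp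
  ring

end Groth.Agent.Lib.R2H7.DvrApprox
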