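/-
R2H7PrescribedOrders: on a Noetherian normal integral separated scheme, rational functions with
prescribed orders at finitely many codimension-one points (S7938).
-/
import Mathlib
import Groth.Agent.Lib.R2H7DvrApprox
import Groth.Agent.Lib.Helper4CurveValRings

set_option autoImplicit false
set_option linter.style.haveILetI false
set_option linter.unusedVariables false
universe u

open AlgebraicGeometry CategoryTheory CategoryTheory.Limits

namespace Groth.Agent.Lib.R2H7.PrescribedOrders

open Groth.Agent.Lib.Helper4.RatMapExt Groth.Agent.Lib.R2H7.DvrApprox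

/-- A Noetherian integrally closed local domain of Krull dimension one is a DVR. -/
theorem isDVR_of_dim_one (R : Type*) [CommRing R] [IsDomain R] [IsLocalRing R]
    [IsNoetherianRing R] [IsIntegrallyClosed R] (h : ringKrullDim R = 1) :
    IsDiscreteValuationRing R := by
  have hnf : ¬ IsField R := by
    intro hf
    have := ringKrullDim_eq_zero_of_isField hf
    rw [h] at this
    exact one_ne_zero this
  have hle : Ring.KrullDimLE 1 R := Ring.krullDimLE_iff.mpr (by rw [h]; rfl)
  have hmax := Ring.krullDimLE_one_iff_of_noZeroDivisors.mp hle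
  have htfae := (IsDiscreteValuationRing.TFAE R hnf).out 0 3
  rw [htfae]
  refine ⟨inferInstance, IsLocalRing.maximalIdeal R, ⟨?_, inferInstance⟩, ?_⟩
  · exact IsLocalRing.isField_iff_maximalIdeal_eq.not.mp hnf
  · rintro P ⟨hP0, hP⟩
    exact IsLocalRing.eq_maximalIdeal (hmax P hP0 hP)

variable {X : Scheme.{u}} [IsIntegral X]

/-- The ring isomorphism from the stalk to its image in the function field. -/
noncomputable def stalkEquiv (x : X) [ValuationRing (X.presheaf.stalk x)] :
    X.presheaf.stalk x ≃+* stalkValuationSubring x :=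
  RingEquiv.ofBijective
    ((algebraMap (X.presheaf.stalk x) X.functionField).codRestrict
      (stalkValuationSubring x).toSubring (fun a => ⟨a, rfl⟩))
    ⟨fun a b hab => IsFractionRing.injective (X.presheaf.stalk x) X.functionField
        (congrArg Subtype.val hab),
      fun ⟨z, a, ha⟩ => ⟨a, Subtype.ext ha⟩⟩

theorem coe_stalkEquiv (x : X) [ValuationRing (X.presheaf.stalk x)] (a : X.presheaf.stalk x) :
    ((stalkEquiv x a : stalkValuationSubring x) : X.functionField) =
      algebraMap (X.presheaf.stalk x) X.functionField a := rfl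

theorem coe_stalkEquiv_symm (x : X) [ValuationRing (X.presheaf.stalk x)]
    (z : stalkValuationSubring x) :
    algebraMap (X.presheaf.stalk x) X.functionField ((stalkEquiv x).symm z) =
      (z : X.functionField) := by
  rw [← coe_stalkEquiv, RingEquiv.apply_symm_apply]

theorem main [IsNoetherian X] [X.IsSeparated]
    (hnor : ∀ x : X, IsIntegrallyClosed (X.presheaf.stalk x))
    {r : ℕ} (ξ : Fin r → X) (hξ : Function.Injective ξ)
    (hcodim : ∀ i, ringKrullDim (X.presheaf.stalk (ξ i)) = 1) (n : Fin r → ℤ) :
    ∃ f : X.functionField, f ≠ 0 ∧ ∀ i : Fin r,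
      ∃ (ϖ : X.presheaf.stalk (ξ i)) (_ : Irreducible ϖ) (w : (X.presheaf.stalk (ξ i))ˣ),
        f = algebraMap (X.presheaf.stalk (ξ i)) X.functionField (w : X.presheaf.stalk (ξ i)) *
          algebraMap (X.presheaf.stalk (ξ i)) X.functionField ϖ ^ (n i) := by
  have hdvr : ∀ i, IsDiscreteValuationRing (X.presheaf.stalk (ξ i)) := fun i =>
    haveI := hnor (ξ i)
    isDVR_of_dim_one _ (hcodim i)
  haveI hval : ∀ i, ValuationRing (X.presheaf.stalk (ξ i)) := fun i =>
    haveI := hdvr i
    inferInstance
  let O : Fin r → ValuationSubring X.functionField := fun i => stalkValuationSubring (ξ i)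
  have hO : ∀ i, IsDiscreteValuationRing (O i) := fun i =>
    haveI := hdvr i
    IsDiscreteValuationRing.RingEquivClass.isDiscreteValuationRing (stalkEquiv (ξ i))
  have hinj : Function.Injective O := by
    intro i j hij
    apply hξ
    haveI : (⊤_ Scheme.{u}).IsSeparated := ⟨inferInstance⟩
    refine center_unique (terminal.from X) (ξ i) (ξ j) ?_
    have := congrArg (fun A : ValuationSubring X.functionField => (A : Set X.functionField)) hij
    simpa only [O, coe_stalkValuationSubring] using this
  obtain ⟨f, hf⟩ := approx O hO hinj (fun _ => 0) n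
  -- transfer
  have key : ∀ i : Fin r,
      ∃ (ϖ : X.presheaf.stalk (ξ i)) (_ : Irreducible ϖ) (w : (X.presheaf.stalk (ξ i))ˣ),
        f = algebraMap (X.presheaf.stalk (ξ i)) X.functionField (w : X.presheaf.stalk (ξ i)) *
          algebraMap (X.presheaf.stalk (ξ i)) X.functionField ϖ ^ (n i) := by
    intro i
    obtain ⟨ϖ, hϖ, w, hw⟩ := hf i
    rw [sub_zero] at hw
    refine ⟨(stalkEquiv (ξ i)).symm ϖ, ?_, Units.map (stalkEquiv (ξ i)).symm.toRingHom.toMonoidHom w,
      ?_⟩
    · exact (MulEquiv.irreducible_iff (stalkEquiv (ξ i)).symm.toMulEquiv).mpr hϖ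
    · rw [hw]
      have h1 : algebraMap (X.presheaf.stalk (ξ i)) X.functionField
          ((Units.map (stalkEquiv (ξ i)).symm.toRingHom.toMonoidHom w :
            (X.presheaf.stalk (ξ i))ˣ) : X.presheaf.stalk (ξ i)) = ((w : O i) : X.functionField) :=
        coe_stalkEquiv_symm (ξ i) (w : O i)
      rw [h1, coe_stalkEquiv_symm]
  by_cases hf0 : f = 0
  · refine ⟨1, one_ne_zero, fun i => ?_⟩
    exfalso
    obtain ⟨ϖ, hϖ, w, hw⟩ := key i
    rw [hf0] at hw
    have hinj' := IsFractionRing.injective (X.presheaf.stalk (ξ i)) X.functionField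
    have h1 : algebraMap (X.presheaf.stalk (ξ i)) X.functionField (w : X.presheaf.stalk (ξ i)) ≠ 0 :=
      fun h => w.ne_zero (hinj' (by rw [h, map_zero]))
    have h2 : algebraMap (X.presheaf.stalk (ξ i)) X.functionField ϖ ≠ 0 :=
      fun h => hϖ.ne_zero (hinj' (by rw [h, map_zero]))
    exact mul_ne_zero h1 (zpow_ne_zero _ h2) hw.symm
  · exact ⟨f, hf0, key⟩

end Groth.Agent.Lib.R2H7.PrescribedOrders
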