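/-
Gysin pullback of the cycle of a coherent sheaf (helper1, round 2; S1942). Algebra: length_of_isLocalizedModule, mem_support_iff_of_isLocalizedModule, finite_support_ne_maximal, length_quot_smul_eq_sum' (Z-valued S1833 for modules with support of dimension at most one), length_tensor_of_ker_eq_span. Geometry: moduleStalkGen, spl (stalkSpecializes as a linear map), isLocalizedModule_stalkSpecializes (for quasi-coherent F the stalk at a generization is the localization of the stalk), length_stalk_generization, mem_support_stalk_iff_nontrivial, supportDim_stalk_le_one, length_module_eq_finsum (length F_x/aF_x = sum over codim-one generizations of length(F_xi) * ordAt), isUnit_of_injective_smul_of_isFiniteLength, length_stalk_pullback_closedImmersion, gysin_sheafFun_point, main1942.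
-/
import Mathlib
import Groth.Prelude.Def_Cyc
import Groth.Prelude.Def_C1
import Groth.Agent.S1833
import Groth.Agent.S8871
import Groth.Agent.S4637
import Groth.Agent.Lib.Helper1Sky3
import Groth.Agent.Lib.Helper2FlatOver
import Groth.Agent.Lib.Helper5SuppDim
import Groth.Agent.Lib.R2H1LocQuot
import Groth.Agent.Lib.R2H1SecDiv
import Groth.Agent.Lib.R2H1Gysin
import Groth.Agent.Lib.R2H1RelCartier

set_option autoImplicit false
set_option linter.style.haveILetI false
set_option linter.unusedSectionVars false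
universe u v

namespace Groth.Agent.Lib.R2H1.SheafGysin

section Part1

open IsLocalRing Pointwise Groth.Agent.Lib.Helper5 Groth.Agent.Lib.R2H1.LocQuot

section Loc

variable {B : Type u} [CommRing B]

/-- the length of a localized module, computed with any model of the localization. -/
theorem length_of_isLocalizedModule (q : Ideal B) [q.IsPrime] (T : Type u) [CommRing T]
    [Algebra B T] [IsLocalization.AtPrime T q] (M : Type u) [AddCommGroup M] [Module B M]
    (M' : Type u) [AddCommGroup M'] [Module B M'] [Module T M'] [IsScalarTower B T M']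
    (f : M →ₗ[B] M') [IsLocalizedModule q.primeCompl f] :
    Module.length T M' =
      Module.length (Localization.AtPrime q) (LocalizedModule q.primeCompl M) := by
  let σ : Localization.AtPrime q ≃ₐ[B] T :=
    IsLocalization.algEquiv q.primeCompl (Localization.AtPrime q) T
  letI : Algebra (Localization.AtPrime q) T := (σ : Localization.AtPrime q →+* T).toAlgebra
  letI : Module (Localization.AtPrime q) M' :=
    Module.compHom M' (σ : Localization.AtPrime q →+* T)
  haveI : IsScalarTower (Localization.AtPrime q) T M' :=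
    ⟨fun a t m => by
      change (σ a * t) • m = σ a • (t • m)
      rw [mul_smul]⟩
  haveI : IsScalarTower B (Localization.AtPrime q) M' :=
    ⟨fun b a m => by
      change σ (b • a) • m = b • (σ a • m)
      rw [map_smul, smul_assoc]⟩
  have h1 : Module.length (Localization.AtPrime q) M' = Module.length T M' :=
    Module.length_eq_of_surjective (M := M') (S := Localization.AtPrime q) (R := T) σ.surjective
  rw [← h1]
  let e : LocalizedModule q.primeCompl M ≃ₗ[B] M' := IsLocalizedModule.iso q.primeCompl f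
  exact ((e.extendScalarsOfIsLocalization q.primeCompl (Localization.AtPrime q)).length_eq).symm

/-- membership in the support in terms of any model of the localization. -/
theorem mem_support_iff_of_isLocalizedModule (q : PrimeSpectrum B) (M : Type u) [AddCommGroup M]
    [Module B M] (M' : Type u) [AddCommGroup M'] [Module B M'] (f : M →ₗ[B] M')
    [IsLocalizedModule q.asIdeal.primeCompl f] :
    q ∈ Module.support B M ↔ Nontrivial M' := by
  rw [Module.mem_support_iff]
  exact (IsLocalizedModule.iso q.asIdeal.primeCompl f).toEquiv.nontrivial_congr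

end Loc

section Sum

variable {A : Type u} [CommRing A] [IsNoetherianRing A] [IsLocalRing A]

/-- the non-maximal primes in the support of a module with support of dimension at most one are
finite in number. -/
theorem finite_support_ne_maximal {M : Type u} [AddCommGroup M] [Module A M] [Module.Finite A M]
    (h1 : Module.supportDim A M ≤ 1) :
    {p : PrimeSpectrum A | p ∈ Module.support A M ∧ p.asIdeal ≠ maximalIdeal A}.Finite := by
  set I := Module.annihilator A M with hI
  by_cases htop : I = ⊤
  · convert Set.finite_empty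
    ext p
    simp only [Set.mem_setOf_eq, Set.mem_empty_iff_false, iff_false]
    rintro ⟨hp, -⟩
    have := Module.annihilator_le_of_mem_support hp
    rw [← hI, htop] at this
    exact p.2.ne_top (top_le_iff.mp this)
  haveI : Nontrivial (A ⧸ I) := Ideal.Quotient.nontrivial_iff.mpr htop
  haveI : IsLocalRing (A ⧸ I) :=
    IsLocalRing.of_surjective' (Ideal.Quotient.mk I) Ideal.Quotient.mk_surjective
  have hA' : ringKrullDim (A ⧸ I) ≤ 1 := by
    rw [← Module.supportDim_eq_ringKrullDim_quotient_annihilator]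
    exact h1
  have hfin := finite_ne_maximal hA'
  refine (hfin.image (PrimeSpectrum.comap (Ideal.Quotient.mk I))).subset ?_
  rintro p ⟨hp, hpm⟩
  have hIp : I ≤ p.asIdeal := Module.annihilator_le_of_mem_support hp
  have hmem : p ∈ Set.range (PrimeSpectrum.comap (Ideal.Quotient.mk I)) := by
    rw [range_comap_of_surjective _ (Ideal.Quotient.mk I) Ideal.Quotient.mk_surjective,
      Ideal.mk_ker]
    exact hIp
  obtain ⟨p', rfl⟩ := hmem
  refine ⟨p', ?_, rfl⟩
  intro hp'
  apply hpm
  have : (PrimeSpectrum.comap (Ideal.Quotient.mk I) p').asIdeal =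
      (maximalIdeal (A ⧸ I)).comap (Ideal.Quotient.mk I) := by
    rw [PrimeSpectrum.comap_asIdeal, hp']
  rw [this]
  haveI : IsLocalHom (Ideal.Quotient.mk I) :=
    IsLocalHom.of_surjective _ Ideal.Quotient.mk_surjective
  exact IsLocalRing.maximalIdeal_comap (Ideal.Quotient.mk I)

open Classical in
/-- `length (M / aM)` as a sum over the non-maximal primes of the support (from `S1833`), for a
module with support of dimension at most one and `a` regular on `M` and outside all non-maximal
primes of the support. -/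
theorem length_quot_smul_eq_sum' {M : Type u} [AddCommGroup M]
    [Module A M] [Module.Finite A M] (h1 : Module.supportDim A M ≤ 1) (a : A)
    (hreg : IsSMulRegular M a)
    (ha : ∀ p : PrimeSpectrum A, p ∈ Module.support A M → p.asIdeal ≠ maximalIdeal A →
      a ∉ p.asIdeal)
    (F : Finset (PrimeSpectrum A))
    (hF : ∀ p, p ∈ F ↔ p ∈ Module.support A M ∧ p.asIdeal ≠ maximalIdeal A) :
    ((Module.length A (M ⧸ a • (⊤ : Submodule A M))).toNat : ℤ) =
      ∑ p ∈ F,
        ((Module.length (Localization.AtPrime p.asIdeal)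
          (LocalizedModule p.asIdeal.primeCompl M)).toNat : ℤ) *
          ((Ring.ord (A ⧸ p.asIdeal) (Ideal.Quotient.mk p.asIdeal a)).toNat : ℤ) := by
  classical
  have h0 : Module.supportDim A (M ⧸ a • (⊤ : Submodule A M)) ≤ 0 := by
    apply supportDim_le_zero_of_forall_isMaximal
    intro p hp
    have hpM : p ∈ Module.support A M :=
      Module.support_subset_of_surjective (a • (⊤ : Submodule A M)).mkQ
        (Submodule.mkQ_surjective _) hp
    have hap : a ∈ p.asIdeal := by
      apply Module.annihilator_le_of_mem_support hp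
      rw [Module.mem_annihilator]
      intro x
      obtain ⟨y, rfl⟩ := Submodule.Quotient.mk_surjective _ x
      rw [← Submodule.Quotient.mk_smul, Submodule.Quotient.mk_eq_zero]
      exact Submodule.smul_mem_pointwise_smul y a ⊤ trivial
    have hpm : p.asIdeal = maximalIdeal A := by
      by_contra hne
      exact ha p hpM hne hap
    rw [hpm]
    infer_instance
  have res := Groth.Agent.S1833.result A M a h1 h0
  have hker : LinearMap.ker (LinearMap.lsmul A M a) = ⊥ := LinearMap.ker_eq_bot.mpr hreg
  rw [hker, Module.length_bot, zero_add] at res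
  have hsum : (∑ᶠ (p : PrimeSpectrum A) (_ : p ∈ Module.support A M ∧
      p.asIdeal ≠ maximalIdeal A),
        Ring.ord (A ⧸ p.asIdeal) (Ideal.Quotient.mk p.asIdeal a) *
          Module.length (Localization.AtPrime p.asIdeal)
            (LocalizedModule p.asIdeal.primeCompl M)) =
      ∑ p ∈ F,
        Ring.ord (A ⧸ p.asIdeal) (Ideal.Quotient.mk p.asIdeal a) *
          Module.length (Localization.AtPrime p.asIdeal)
            (LocalizedModule p.asIdeal.primeCompl M) := by
    rw [finsum_eq_sum_of_support_subset (s := F)]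
    · refine Finset.sum_congr rfl fun p hp => ?_
      rw [finsum_eq_if, if_pos ((hF p).mp hp)]
    · intro p hp
      rw [Function.mem_support] at hp
      rw [Finset.mem_coe, hF]
      by_contra hpm
      apply hp
      rw [finsum_eq_if, if_neg hpm]
  rw [hsum] at res
  have hfl : Module.length A (M ⧸ a • (⊤ : Submodule A M)) ≠ ⊤ :=
    Module.length_ne_top_iff.mpr (isFiniteLength_of_supportDim_le_zero h0)
  have hterm : ∀ p ∈ F,
      Ring.ord (A ⧸ p.asIdeal) (Ideal.Quotient.mk p.asIdeal a) *
      Module.length (Localization.AtPrime p.asIdeal)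
        (LocalizedModule p.asIdeal.primeCompl M) ≠ ⊤ := by
    intro p hp htop
    apply hfl
    rw [res]
    exact (WithTop.sum_eq_top).mpr ⟨p, hp, htop⟩
  rw [res, ENat.toNat_sum hterm]
  push_cast
  refine Finset.sum_congr rfl fun p _ => ?_
  rw [ENat.toNat_mul]
  push_cast
  ring

end Sum

section Tensor

open TensorProduct

/-- the length of the base change of a module along a surjection with principal kernel. -/
theorem length_tensor_of_ker_eq_span {A B : Type u} [CommRing A] [CommRing B] (φ : A →+* B)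
    (hφ : Function.Surjective φ) (a : A) (hker : RingHom.ker φ = Ideal.span {a})
    (M : Type u) [AddCommGroup M] [Module A M] :
    letI := φ.toAlgebra
    Module.length B (B ⊗[A] M) = Module.length A (M ⧸ a • (⊤ : Submodule A M)) := by
  letI := φ.toAlgebra
  have h1 : Module.length A (B ⊗[A] M) = Module.length B (B ⊗[A] M) :=
    Module.length_eq_of_surjective (M := B ⊗[A] M) (S := A) (R := B) hφ
  rw [← h1]
  -- `B ≃ A ⧸ span {a}` as `A`-algebras
  have hsurj : Function.Surjective (Algebra.ofId A B) := hφ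
  have hker' : Ideal.span {a} = RingHom.ker (Algebra.ofId A B) := by
    rw [← hker]
    ext x
    rw [RingHom.mem_ker, RingHom.mem_ker]
    rfl
  let eB : (A ⧸ Ideal.span {a}) ≃ₗ[A] B :=
    ((Ideal.quotientEquivAlgOfEq A hker').trans
      (Ideal.quotientKerAlgEquivOfSurjective hsurj)).toLinearEquiv
  let e1 : B ⊗[A] M ≃ₗ[A] (A ⧸ Ideal.span {a}) ⊗[A] M :=
    TensorProduct.congr eB.symm (LinearEquiv.refl A M)
  let e2 : (A ⧸ Ideal.span {a}) ⊗[A] M ≃ₗ[A] M ⧸ (Ideal.span {a} • (⊤ : Submodule A M)) :=
    TensorProduct.quotTensorEquivQuotSMul M (Ideal.span {a})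
  have h3 : Ideal.span {a} • (⊤ : Submodule A M) = a • (⊤ : Submodule A M) :=
    Submodule.ideal_span_singleton_smul a ⊤
  rw [(e1.trans e2).length_eq]
  exact (Submodule.quotEquivOfEq _ _ h3).length_eq

end Tensor

end Part1

section Part2

open AlgebraicGeometry CategoryTheory TopologicalSpace IsLocalRing
  Groth.Agent.Lib.Helper2.FlatOver Groth.Agent.Lib.Helper2.QCoh
  Groth.Agent.Lib.R2H1.LocQuot Groth.Agent.Lib.R2H1.SecDiv

variable {X : Scheme.{u}}

/-- `O_{X,x}`-module structure on the stalk at a generization. -/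
noncomputable abbrev moduleStalkGen (F : X.Modules) (x ξ : X) (h : ξ ⤳ x) :
    Module (X.presheaf.stalk x) (F.presheaf.stalk ξ) :=
  Module.compHom (F.presheaf.stalk ξ) (X.presheaf.stalkSpecializes h).hom

/-- the specialization map of stalks as a linear map over the local ring of the specialization. -/
noncomputable def spₗ (F : X.Modules) (x ξ : X) (h : ξ ⤳ x) :
    letI := moduleStalkGen F x ξ h
    F.presheaf.stalk x →ₗ[X.presheaf.stalk x] F.presheaf.stalk ξ :=
  letI := moduleStalkGen F x ξ h
  { toFun := fun m => F.presheaf.stalkSpecializes h m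
    map_add' := fun a b => map_add _ a b
    map_smul' := fun c m => stalkSpecializes_smul F h c m }

theorem spₗ_apply (F : X.Modules) (x ξ : X) (h : ξ ⤳ x) (m : F.presheaf.stalk x) :
    spₗ F x ξ h m = F.presheaf.stalkSpecializes h m := rfl

theorem mem_primeCompl_ker_specMap_iff (x ξ : X) (h : ξ ⤳ x) (t : X.presheaf.stalk x) :
    t ∈ (RingHom.ker (Cyc.specMap x ξ h)).primeCompl ↔
      IsUnit ((X.presheaf.stalkSpecializes h).hom t) := by
  rw [Ideal.mem_primeCompl_iff, RingHom.mem_ker]
  change ¬ (X.residue ξ ((X.presheaf.stalkSpecializes h).hom t) = 0) ↔ _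
  rw [← ne_eq]
  exact IsLocalRing.residue_ne_zero_iff_isUnit _

/-- for a quasi-coherent module, the stalk at a generization is the localization of the stalk
at the specialization. -/
theorem isLocalizedModule_stalkSpecializes (F : X.Modules) [F.IsQuasicoherent] (x ξ : X)
    (h : ξ ⤳ x) :
    letI := moduleStalkGen F x ξ h
    IsLocalizedModule (RingHom.ker (Cyc.specMap x ξ h)).primeCompl (spₗ F x ξ h) := by
  letI := moduleStalkGen F x ξ h
  obtain ⟨V, hV, hxV, -⟩ := exists_isAffineOpen_mem_and_subset (U := ⊤) (x := x) (by simp)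
  have hξV : ξ ∈ V := h.mem_open V.2 hxV
  have hsmul : ∀ (t : X.presheaf.stalk x) (y : F.presheaf.stalk ξ),
      t • y = (X.presheaf.stalkSpecializes h).hom t • y := fun _ _ => rfl
  have hgO : ∀ s : Γ(X, V), (X.presheaf.stalkSpecializes h).hom (X.presheaf.germ V x hxV s) =
      X.presheaf.germ V ξ hξV s := fun s =>
    ConcreteCategory.congr_hom (TopCat.Presheaf.germ_stalkSpecializes X.presheaf hxV h) s
  have hgF : ∀ n : Γ(F, V), (F.presheaf.stalkSpecializes h) (F.presheaf.germ V x hxV n) =
      F.presheaf.germ V ξ hξV n := fun n =>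
    ConcreteCategory.congr_hom (TopCat.Presheaf.germ_stalkSpecializes F.presheaf hxV h) n
  -- units
  have hunitξ : ∀ s : Γ(X, V), s ∈ (hV.primeIdealOf ⟨ξ, hξV⟩).asIdeal.primeCompl →
      IsUnit (X.presheaf.germ V ξ hξV s) := by
    intro s hs
    letI := TopCat.Presheaf.algebra_section_stalk X.presheaf (⟨ξ, hξV⟩ : V)
    haveI := hV.isLocalization_stalk ⟨ξ, hξV⟩
    exact (IsLocalization.AtPrime.isUnit_to_map_iff (X.presheaf.stalk ξ)
      (hV.primeIdealOf ⟨ξ, hξV⟩).asIdeal s).mpr hs
  have hunitx : ∀ s : Γ(X, V), s ∈ (hV.primeIdealOf ⟨x, hxV⟩).asIdeal.primeCompl →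
      IsUnit (X.presheaf.germ V x hxV s) := by
    intro s hs
    letI := TopCat.Presheaf.algebra_section_stalk X.presheaf (⟨x, hxV⟩ : V)
    haveI := hV.isLocalization_stalk ⟨x, hxV⟩
    exact (IsLocalization.AtPrime.isUnit_to_map_iff (X.presheaf.stalk x)
      (hV.primeIdealOf ⟨x, hxV⟩).asIdeal s).mpr hs
  have hLx := isLocalizedModule_germ hV F x hxV
  have hLξ := isLocalizedModule_germ hV F ξ hξV
  refine ⟨?_, ?_, ?_⟩
  · rintro ⟨t, ht⟩
    have hu : IsUnit ((X.presheaf.stalkSpecializes h).hom t) :=
      (mem_primeCompl_ker_specMap_iff x ξ h t).mp ht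
    obtain ⟨u, hu⟩ := hu
    rw [Module.End.isUnit_iff]
    constructor
    · intro y y' hyy
      have h' : (u : X.presheaf.stalk ξ) • y = (u : X.presheaf.stalk ξ) • y' := by
        rw [hu]
        exact hyy
      have := congrArg (fun z => (u⁻¹ : (X.presheaf.stalk ξ)ˣ).1 • z) h'
      simpa [smul_smul] using this
    · intro y
      refine ⟨(u⁻¹ : (X.presheaf.stalk ξ)ˣ).1 • y, ?_⟩
      change (X.presheaf.stalkSpecializes h).hom t • ((u⁻¹ : (X.presheaf.stalk ξ)ˣ).1 • y) = y
      rw [← hu, smul_smul, Units.mul_inv, one_smul]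
  · intro y
    letI := moduleStalkSections F V ξ hξV
    obtain ⟨⟨n, s⟩, hns⟩ := hLξ.surj y
    have hns' : X.presheaf.germ V ξ hξV s.1 • y = F.presheaf.germ V ξ hξV n := hns
    have htT : X.presheaf.germ V x hxV s.1 ∈ (RingHom.ker (Cyc.specMap x ξ h)).primeCompl := by
      rw [mem_primeCompl_ker_specMap_iff, hgO]
      exact hunitξ s.1 s.2
    refine ⟨(F.presheaf.germ V x hxV n, ⟨X.presheaf.germ V x hxV s.1, htT⟩), ?_⟩
    change X.presheaf.germ V x hxV s.1 • y = spₗ F x ξ h (F.presheaf.germ V x hxV n)
    rw [hsmul, hgO, hns', spₗ_apply, hgF]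
  · intro m₁ m₂ hm
    have hm0 : F.presheaf.stalkSpecializes h (m₁ - m₂) = 0 := by
      rw [map_sub, sub_eq_zero]
      exact hm
    obtain ⟨⟨n, s⟩, hns⟩ :=
      (letI := moduleStalkSections F V x hxV; hLx.surj (m₁ - m₂))
    have hns' : X.presheaf.germ V x hxV s.1 • (m₁ - m₂) = F.presheaf.germ V x hxV n := hns
    have h1 : F.presheaf.germ V ξ hξV n = 0 := by
      rw [← hgF, ← hns', stalkSpecializes_smul, hm0, smul_zero]
    obtain ⟨s', hs'⟩ := (letI := moduleStalkSections F V ξ hξV;
      hLξ.exists_of_eq (x₁ := n) (x₂ := 0) (by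
        change F.presheaf.germ V ξ hξV n = F.presheaf.germ V ξ hξV 0
        rw [h1, map_zero]))
    have hs'' : s'.1 • n = 0 := by
      have : s' • n = s' • (0 : Γ(F, V)) := hs'
      rw [smul_zero] at this
      exact this
    have h2 : X.presheaf.germ V x hxV s'.1 • F.presheaf.germ V x hxV n = 0 := by
      rw [← Groth.Agent.Lib.Helper2.QCoh.germ_smul, hs'', map_zero]
    have htT : X.presheaf.germ V x hxV s'.1 * X.presheaf.germ V x hxV s.1 ∈
        (RingHom.ker (Cyc.specMap x ξ h)).primeCompl := by
      rw [mem_primeCompl_ker_specMap_iff, map_mul, hgO, hgO]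
      refine (hunitξ s'.1 s'.2).mul ?_
      rw [← hgO]
      exact (hunitx s.1 s.2).map (X.presheaf.stalkSpecializes h).hom
    refine ⟨⟨_, htT⟩, ?_⟩
    change (X.presheaf.germ V x hxV s'.1 * X.presheaf.germ V x hxV s.1) • m₁ =
      (X.presheaf.germ V x hxV s'.1 * X.presheaf.germ V x hxV s.1) • m₂
    rw [← sub_eq_zero, ← smul_sub, mul_smul, hns', h2]

end Part2

section Part3

open AlgebraicGeometry CategoryTheory TopologicalSpace IsLocalRing Pointwise
  Groth.Agent.Lib.Helper4.DimFormula
  Groth.Agent.Lib.Helper2.FlatOver Groth.Agent.Lib.Helper2.QCoh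
  Groth.Agent.Lib.R2H1.LocQuot Groth.Agent.Lib.R2H1.SecDiv

theorem length_localizedModule_congr' {B : Type u} [CommRing B] {I J : Ideal B} [I.IsPrime]
    [J.IsPrime] (e : I = J) (M : Type u) [AddCommGroup M] [Module B M] :
    Module.length (Localization.AtPrime I) (LocalizedModule I.primeCompl M) =
      Module.length (Localization.AtPrime J) (LocalizedModule J.primeCompl M) := by
  subst e
  rfl

theorem isLocalizedModule_congr_prime {B : Type u} [CommRing B] {I J : Ideal B} [I.IsPrime]
    [J.IsPrime] (e : I = J) {M M' : Type u} [AddCommGroup M] [Module B M] [AddCommGroup M']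
    [Module B M'] (f : M →ₗ[B] M') (h : IsLocalizedModule I.primeCompl f) :
    IsLocalizedModule J.primeCompl f := by
  subst e
  exact h

variable {X : Scheme.{u}}

/-- the length of the stalk at a generization as the length of the localization of the stalk. -/
theorem length_stalk_generization (F : X.Modules) [F.IsQuasicoherent] (x ξ : X) (h : ξ ⤳ x) :
    Module.length (X.presheaf.stalk ξ) (F.presheaf.stalk ξ) =
      Module.length (Localization.AtPrime (RingHom.ker (Cyc.specMap x ξ h)))
        (LocalizedModule (RingHom.ker (Cyc.specMap x ξ h)).primeCompl (F.presheaf.stalk x)) := by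
  letI := (X.presheaf.stalkSpecializes h).hom.toAlgebra
  haveI := isLocalization_stalkSpecializes x ξ h
  letI := moduleStalkGen F x ξ h
  haveI : IsScalarTower (X.presheaf.stalk x) (X.presheaf.stalk ξ) (F.presheaf.stalk ξ) :=
    ⟨fun b t m => by
      change ((X.presheaf.stalkSpecializes h).hom b * t) • m =
        (X.presheaf.stalkSpecializes h).hom b • (t • m)
      rw [mul_smul]⟩
  haveI := isLocalizedModule_stalkSpecializes F x ξ h
  exact length_of_isLocalizedModule (RingHom.ker (Cyc.specMap x ξ h)) (X.presheaf.stalk ξ)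
    (F.presheaf.stalk x) (F.presheaf.stalk ξ) (spₗ F x ξ h)

/-- the support of the stalk in terms of the stalks at generizations. -/
theorem mem_support_stalk_iff_nontrivial (F : X.Modules) [F.IsQuasicoherent] (x : X)
    (p : PrimeSpectrum (X.presheaf.stalk x)) :
    p ∈ Module.support (X.presheaf.stalk x) (F.presheaf.stalk x) ↔
      Nontrivial (F.presheaf.stalk (X.fromSpecStalk x p)) := by
  have hsp : X.fromSpecStalk x p ⤳ x := fromSpecStalk_specializes x p
  haveI := p.2
  have hker : RingHom.ker (Cyc.specMap x (X.fromSpecStalk x p) hsp) = p.asIdeal :=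
    ker_specMap_fromSpecStalk x p.asIdeal hsp
  letI := moduleStalkGen F x (X.fromSpecStalk x p) hsp
  have hloc := isLocalizedModule_stalkSpecializes F x (X.fromSpecStalk x p) hsp
  haveI := isLocalizedModule_congr_prime hker _ hloc
  exact mem_support_iff_of_isLocalizedModule p (F.presheaf.stalk x)
    (F.presheaf.stalk (X.fromSpecStalk x p)) (spₗ F x (X.fromSpecStalk x p) hsp)

/-- the support of the stalk has dimension at most one if the dimension function is bounded on
the generizations in the support. -/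
theorem supportDim_stalk_le_one {δ : X → ℤ} (hδ : Cyc.IsDimFun X δ) (F : X.Modules)
    [F.IsQuasicoherent] (x : X)
    (hdim : ∀ ξ : X, ξ ⤳ x → Nontrivial (F.presheaf.stalk ξ) → δ ξ ≤ δ x + 1) :
    Module.supportDim (X.presheaf.stalk x) (F.presheaf.stalk x) ≤ 1 := by
  unfold Module.supportDim
  rw [Order.krullDim_le_one_iff]
  rintro ⟨p, hp⟩
  by_cases hpm : p.asIdeal = maximalIdeal (X.presheaf.stalk x)
  · right
    rintro ⟨q, hq⟩ hpq
    change q ≤ p
    change p ≤ q at hpq
    intro a ha
    change a ∈ p.asIdeal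
    rw [hpm]
    exact IsLocalRing.le_maximalIdeal q.2.ne_top ha
  · left
    rintro ⟨q, hq⟩ hqp
    change p ≤ q
    change q ≤ p at hqp
    by_contra hne
    have hlt : q < p := lt_of_le_of_ne hqp (fun h => hne (h ▸ le_rfl))
    have hsp1 : X.fromSpecStalk x q ⤳ X.fromSpecStalk x p :=
      (X.fromSpecStalk x).base.hom.map_specializes
        ((PrimeSpectrum.le_iff_specializes q p).mp hqp)
    have hne1 : X.fromSpecStalk x q ≠ X.fromSpecStalk x p := fun h =>
      hlt.ne ((X.fromSpecStalk x).isEmbedding.injective h)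
    have hsp2 : X.fromSpecStalk x p ⤳ x := fromSpecStalk_specializes x p
    have hne2 : X.fromSpecStalk x p ≠ x := fromSpecStalk_ne_of_ne_maximal x p hpm
    have h1 := (hδ _ _ hsp1 hne1).1
    have h2 := (hδ _ _ hsp2 hne2).1
    have h3 := hdim _ (hsp1.trans hsp2) ((mem_support_stalk_iff_nontrivial F x q).mp hq)
    omega

open Classical in
/-- the length of `F_x/aF_x` as a sum over the generizations of `x` of codimension one. -/
theorem length_module_eq_finsum [IsLocallyNoetherian X] {δ : X → ℤ} (hδ : Cyc.IsDimFun X δ)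
    (F : X.Modules) [F.IsQuasicoherent] (x : X)
    [Module.Finite (X.presheaf.stalk x) (F.presheaf.stalk x)]
    (hdim : ∀ ξ : X, ξ ⤳ x → Nontrivial (F.presheaf.stalk ξ) → δ ξ ≤ δ x + 1)
    (a : X.presheaf.stalk x) (hreg : IsSMulRegular (F.presheaf.stalk x) a)
    (haξ : ∀ (ξ : X) (h : ξ ⤳ x), ξ ≠ x → Nontrivial (F.presheaf.stalk ξ) →
      Cyc.specMap x ξ h a ≠ 0) :
    ((Module.length (X.presheaf.stalk x) (F.presheaf.stalk x ⧸
        a • (⊤ : Submodule (X.presheaf.stalk x) (F.presheaf.stalk x)))).toNat : ℤ) =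
      ∑ᶠ ξ : X, if h : ξ ⤳ x ∧ δ x + 1 = δ ξ then
        ((Module.length (X.presheaf.stalk ξ) (F.presheaf.stalk ξ)).toNat : ℤ) *
          Cyc.ordAt x ξ h.1 (Cyc.specMap x ξ h.1 a) else 0 := by
  haveI : IsNoetherianRing (X.presheaf.stalk x) := inferInstance
  have h1 := supportDim_stalk_le_one hδ F x hdim
  set Fs := (finite_support_ne_maximal h1).toFinset with hFsdef
  have hFs : ∀ p : PrimeSpectrum (X.presheaf.stalk x),
      p ∈ Fs ↔ p ∈ Module.support (X.presheaf.stalk x) (F.presheaf.stalk x) ∧
        p.asIdeal ≠ maximalIdeal (X.presheaf.stalk x) := by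
    intro p
    rw [hFsdef, Set.Finite.mem_toFinset]
    rfl
  have hφspec : ∀ p : PrimeSpectrum (X.presheaf.stalk x), X.fromSpecStalk x p ⤳ x :=
    fun p => fromSpecStalk_specializes x p
  have hkerφ : ∀ p : PrimeSpectrum (X.presheaf.stalk x),
      RingHom.ker (Cyc.specMap x (X.fromSpecStalk x p) (hφspec p)) = p.asIdeal := by
    intro p
    haveI := p.2
    exact ker_specMap_fromSpecStalk x p.asIdeal (hφspec p)
  have hnt : ∀ p ∈ Fs, Nontrivial (F.presheaf.stalk (X.fromSpecStalk x p)) := fun p hp =>
    (mem_support_stalk_iff_nontrivial F x p).mp ((hFs p).mp hp).1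
  have ha : ∀ p : PrimeSpectrum (X.presheaf.stalk x),
      p ∈ Module.support (X.presheaf.stalk x) (F.presheaf.stalk x) →
      p.asIdeal ≠ maximalIdeal (X.presheaf.stalk x) → a ∉ p.asIdeal := by
    intro p hps hp hap
    have h1 := haξ _ (hφspec p) (fromSpecStalk_ne_of_ne_maximal x p hp)
      ((mem_support_stalk_iff_nontrivial F x p).mp hps)
    apply h1
    rw [← RingHom.mem_ker, hkerφ]
    exact hap
  have hd : ∀ p ∈ Fs, δ x + 1 = δ (X.fromSpecStalk x p) := by
    intro p hp
    have hne := fromSpecStalk_ne_of_ne_maximal x p ((hFs p).mp hp).2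
    have h1 := (hδ _ _ (hφspec p) hne).1
    have h2 := hdim _ (hφspec p) (hnt p hp)
    omega
  rw [length_quot_smul_eq_sum' h1 a hreg ha Fs hFs]
  rw [finsum_eq_sum_of_support_subset (s := Fs.image (fun p => X.fromSpecStalk x p))]
  · rw [Finset.sum_image]
    · refine Finset.sum_congr rfl fun p hp => ?_
      rw [dif_pos ⟨hφspec p, hd p hp⟩]
      have hane : Cyc.specMap x (X.fromSpecStalk x p) (hφspec p) a ≠ 0 :=
        haξ _ (hφspec p) (fromSpecStalk_ne_of_ne_maximal x p ((hFs p).mp hp).2) (hnt p hp)
      rw [ordAt_specMap hδ x _ (hφspec p) (hd p hp) a hane]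
      haveI := p.2
      congr 2
      · rw [length_stalk_generization F x _ (hφspec p)]
        exact congrArg ENat.toNat
          (length_localizedModule_congr' (hkerφ p) (F.presheaf.stalk x)).symm
      · exact congrArg ENat.toNat (ord_quotient_congr (hkerφ p) a).symm
    · intro p _ q _ hpq
      exact (X.fromSpecStalk x).isEmbedding.injective hpq
  · intro ξ hξ
    rw [Function.mem_support] at hξ
    by_cases hc : ξ ⤳ x ∧ δ x + 1 = δ ξ
    · rw [dif_pos hc] at hξ
      obtain ⟨p, hp, hpξ⟩ := exists_prime_fromSpecStalk_eq hc.1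
      rw [Finset.mem_coe, Finset.mem_image]
      refine ⟨(⟨p, hp⟩ : PrimeSpectrum (X.presheaf.stalk x)), ?_, hpξ⟩
      refine (hFs ⟨p, hp⟩).mpr ⟨?_, ?_⟩
      · rw [mem_support_stalk_iff_nontrivial, hpξ]
        by_contra hnt'
        rw [not_nontrivial_iff_subsingleton] at hnt'
        apply hξ
        rw [Module.length_eq_zero, ENat.toNat_zero, Nat.cast_zero, zero_mul]
      · intro hpm
        have : ξ = x := by
          rw [← hpξ]
          have : (⟨p, hp⟩ : PrimeSpectrum (X.presheaf.stalk x)) = closedPoint _ :=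
            PrimeSpectrum.ext hpm
          rw [this, Scheme.fromSpecStalk_closedPoint]
        rw [this] at hc
        omega
    · rw [dif_neg hc] at hξ
      exact absurd rfl hξ

end Part3

section Part4

open AlgebraicGeometry CategoryTheory TopologicalSpace IsLocalRing Pointwise TensorProduct
  Groth.Agent.Lib.Helper4.DimFormula
  Groth.Agent.Lib.Helper2.FlatOver Groth.Agent.Lib.Helper2.QCoh
  Groth.Agent.Lib.R2H1.LocQuot Groth.Agent.Lib.R2H1.SecDiv
  Groth.Agent.Lib.R2H1.C1Comm Groth.Agent.Lib.R2H1.Gysin Groth.Agent.Lib.R2H1.RelCartier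
  Groth.Agent.Lib.Helper1.Sky

/-- an element of a local ring acting injectively on a nonzero module of finite length is a
unit. -/
theorem isUnit_of_injective_smul_of_isFiniteLength {R : Type*} [CommRing R] [IsLocalRing R]
    {M : Type*} [AddCommGroup M] [Module R M] [Nontrivial M] (hfl : IsFiniteLength R M) (r : R)
    (hinj : Function.Injective (fun m : M => r • m)) : IsUnit r := by
  obtain ⟨hN, hA⟩ := isFiniteLength_iff_isNoetherian_isArtinian.mp hfl
  by_contra hnu
  have hm : r ∈ maximalIdeal R := (mem_maximalIdeal r).mpr hnu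
  have hsurj : Function.Surjective (LinearMap.lsmul R M r) :=
    IsArtinian.surjective_of_injective_endomorphism (LinearMap.lsmul R M r) hinj
  have hle : (⊤ : Submodule R M) ≤ maximalIdeal R • (⊤ : Submodule R M) := by
    intro m _
    obtain ⟨m', rfl⟩ := hsurj m
    exact Submodule.smul_mem_smul hm trivial
  have hbot : (⊤ : Submodule R M) = ⊥ :=
    Submodule.eq_bot_of_le_smul_of_le_jacobson_bot (maximalIdeal R) ⊤
      (Module.finite_def.mp inferInstance) hle (IsLocalRing.maximalIdeal_le_jacobson ⊥)
  obtain ⟨m, hm0⟩ := exists_ne (0 : M)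
  have : m ∈ (⊥ : Submodule R M) := hbot ▸ (trivial : m ∈ (⊤ : Submodule R M))
  exact hm0 ((Submodule.mem_bot R).mp this)

variable {X D : Scheme.{u}}

/-- the length of the stalk of the pullback of a module to a closed subscheme with principal
ideal. -/
theorem length_stalk_pullback_closedImmersion (i : D ⟶ X) [IsClosedImmersion i] (F : X.Modules)
    (d : D) (a : X.presheaf.stalk (i d))
    (hker : RingHom.ker (i.stalkMap d).hom = Ideal.span {a}) :
    Module.length (D.presheaf.stalk d)
        (((Scheme.Modules.pullback i).obj F).presheaf.stalk d) =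
      Module.length (X.presheaf.stalk (i d)) (F.presheaf.stalk (i d) ⧸
        a • (⊤ : Submodule (X.presheaf.stalk (i d)) (F.presheaf.stalk (i d)))) := by
  letI : Algebra (X.presheaf.stalk (i d)) (D.presheaf.stalk d) := (i.stalkMap d).hom.toAlgebra
  let E1 : (((Scheme.Modules.pullback i).obj F).presheaf.stalk d) ≃ₗ[D.presheaf.stalk d]
      (D.presheaf.stalk d) ⊗[X.presheaf.stalk (i d)] (F.presheaf.stalk (i d)) :=
    ((stalkPullbackIso i d).app F).toLinearEquiv
  rw [E1.length_eq]
  exact length_tensor_of_ker_eq_span (i.stalkMap d).hom (i.stalkMap_surjective d) a hker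
    (F.presheaf.stalk (i d))

end Part4

section Part5

open AlgebraicGeometry CategoryTheory TopologicalSpace IsLocalRing Pointwise TensorProduct
  Groth.Agent.Lib.Helper4.DimFormula
  Groth.Agent.Lib.Helper2.FlatOver Groth.Agent.Lib.Helper2.QCoh
  Groth.Agent.Lib.R2H1.LocQuot Groth.Agent.Lib.R2H1.SecDiv
  Groth.Agent.Lib.R2H1.C1Comm Groth.Agent.Lib.R2H1.Gysin Groth.Agent.Lib.R2H1.RelCartier
  Groth.Agent.Lib.Helper1.Sky

variable {X D : Scheme.{u}}

/-- pointwise form of `i^*[F]_{k+1} = [i^*F]_k`. -/
theorem gysin_sheafFun_point (δ : X → ℤ) (hX : Cyc.IsSetup X δ) (L : X.Modules)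
    (hL : PicF.IsInvertible L) (s : L.presheaf.obj (Opposite.op ⊤)) (i : D ⟶ X)
    [IsClosedImmersion i] (hD : Cyc.IsZeroSchemeOf i L s) (k : ℤ) (F : X.Modules)
    (hF : Coh.IsCoh F) (hdim : ∀ x : X, Nontrivial (F.presheaf.stalk x) → δ x ≤ k + 1)
    (hreg : ∀ (x : X) (t : L.presheaf.stalk x) (f : X.presheaf.stalk x),
      Submodule.span (X.presheaf.stalk x) {t} = ⊤ → (L.presheaf.germ ⊤ x trivial) s = f • t →
        Function.Injective (fun m : F.presheaf.stalk x => f • m))
    (w : (ξ : X) → Cyc.secFibre L ξ) (d : D) :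
    Cyc.c1CapFun δ L (Cyc.sheafFun δ (k + 1) F) (Cyc.gysinChoice L s w) (i d) =
      Cyc.sheafFun (fun d => δ (i d)) k ((Scheme.Modules.pullback i).obj F) d := by
  classical
  haveI : IsLocallyNoetherian X := hX.1
  have hδ := hX.2.2
  obtain ⟨hqc, hft⟩ := hF
  haveI : F.IsQuasicoherent := hqc
  haveI : SheafOfModules.IsFiniteType (R := X.ringCatSheaf) F := hft
  unfold Cyc.c1CapFun
  by_cases hk : δ (i d) = k
  swap
  · have hz : Cyc.sheafFun (fun d => δ (i d)) k ((Scheme.Modules.pullback i).obj F) d = 0 := by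
      unfold Cyc.sheafFun
      rw [if_neg hk]
    rw [hz]
    apply finsum_eq_zero_of_forall_eq_zero
    intro ξ
    unfold Cyc.sheafFun Cyc.secDivFun
    by_cases h1 : δ ξ = k + 1
    · rw [dif_neg (by rintro ⟨-, h2⟩; omega), mul_zero]
    · rw [if_neg h1, zero_mul]
  -- the generator and the coordinate of the section
  obtain ⟨G, hxG⟩ := Groth.Agent.Lib.R2H1.C1Comm.exists_gen L hL (i d)
  obtain ⟨a, ha0⟩ := (G.g_bij (i d) hxG).2 ((L.presheaf.germ ⊤ (i d) trivial) s)
  have ha : (L.presheaf.germ ⊤ (i d) trivial) s = a • G.g (i d) hxG := ha0.symm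
  have hker := ker_stalkMap_eq_span i s hD d G hxG a ha
  have hspan : ∀ (y : X) (hy : y ∈ G.W), Submodule.span (X.presheaf.stalk y) {G.g y hy} = ⊤ := by
    intro y hy
    rw [eq_top_iff]
    intro m _
    obtain ⟨c, hc⟩ := (G.g_bij y hy).2 m
    exact Submodule.mem_span_singleton.mpr ⟨c, hc⟩
  -- finiteness of the stalk
  obtain ⟨U, hU, hxU, -⟩ :=
    (TopologicalSpace.Opens.isBasis_iff_nbhd.mp X.isBasis_affineOpens) (Opens.mem_top (i d))
  haveI : IsNoetherianRing Γ(X, U) := IsLocallyNoetherian.component_noetherian ⟨U, hU⟩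
  haveI : Module.Finite Γ(X, U) Γ(F, U) :=
    Groth.Agent.Lib.Helper23.FinType.finite_of_isFiniteType F hU
  haveI : Module.Finite (X.presheaf.stalk (i d)) (F.presheaf.stalk (i d)) :=
    Groth.Agent.S8871.finite_stalk hU F (i d) hxU
  -- the hypotheses of the length formula
  have hdim' : ∀ ξ : X, ξ ⤳ i d → Nontrivial (F.presheaf.stalk ξ) → δ ξ ≤ δ (i d) + 1 := by
    intro ξ _ hnt
    have := hdim ξ hnt
    omega
  have hreg' : IsSMulRegular (F.presheaf.stalk (i d)) a :=
    hreg (i d) (G.g (i d) hxG) a (hspan _ hxG) ha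
  have haξ : ∀ (ξ : X) (h : ξ ⤳ i d), ξ ≠ i d → Nontrivial (F.presheaf.stalk ξ) →
      Cyc.specMap (i d) ξ h a ≠ 0 := by
    intro ξ h hne hnt
    have hξG : ξ ∈ G.W := h.mem_open G.W.isOpen hxG
    have hgen : ∀ y : X, Nontrivial (F.presheaf.stalk y) → y ⤳ ξ → y = ξ := by
      intro y hynt hy
      by_contra hyne
      have h1 := (hδ y ξ hy hyne).1
      have h2 := (hδ ξ (i d) h hne).1
      have h3 := hdim y hynt
      omega
    have hfl := ((Groth.Agent.S4637.result F ⟨hqc, hft⟩ ξ).mp ⟨hnt, hgen⟩).2
    have hgerm := germ_top_generization s G (i d) ξ h hxG a ha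
    have hinj := hreg ξ (G.g ξ hξG) ((X.presheaf.stalkSpecializes h).hom a) (hspan _ hξG) hgerm
    have hu := isUnit_of_injective_smul_of_isFiniteLength hfl _ hinj
    exact (IsLocalRing.residue_ne_zero_iff_isUnit _).mpr hu
  have hmain := length_module_eq_finsum hδ F (i d) hdim' a hreg' haξ
  have hz : Cyc.sheafFun (fun d => δ (i d)) k ((Scheme.Modules.pullback i).obj F) d =
      ((Module.length (D.presheaf.stalk d)
        (((Scheme.Modules.pullback i).obj F).presheaf.stalk d)).toNat : ℤ) := by
    unfold Cyc.sheafFun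
    rw [if_pos hk]
  rw [hz, length_stalk_pullback_closedImmersion i F d a hker, hmain]
  refine finsum_congr (fun ξ => ?_)
  unfold Cyc.secDivFun
  by_cases hc : ξ ⤳ i d ∧ δ (i d) + 1 = δ ξ
  · rw [dif_pos hc, dif_pos hc]
    have hξk : δ ξ = k + 1 := by omega
    have hs : Cyc.sheafFun δ (k + 1) F ξ =
        ((Module.length (X.presheaf.stalk ξ) (F.presheaf.stalk ξ)).toNat : ℤ) := by
      unfold Cyc.sheafFun
      rw [if_pos hξk]
    rw [hs]
    by_cases hnt : Nontrivial (F.presheaf.stalk ξ)
    · have hne : ξ ≠ i d := by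
        intro h0
        rw [h0] at hξk
        omega
      have hane := haξ ξ hc.1 hne hnt
      rw [G.secOrdAt_eq hδ ξ (i d) hc.1 hc.2 hxG (Cyc.gysinChoice L s w ξ),
        fib_gysinChoice_of_ne s G w (i d) ξ hc.1 hxG a ha hane]
    · rw [not_nontrivial_iff_subsingleton] at hnt
      rw [Module.length_eq_zero, ENat.toNat_zero, Nat.cast_zero, zero_mul, zero_mul]
  · rw [dif_neg hc, dif_neg hc, mul_zero]

/-- S1942: `i^*[F]_{k+1} ∼ [i^*F]_k`. -/
theorem main1942 (X D : Scheme.{u}) (δ : X → ℤ) (hX : Cyc.IsSetup X δ) (L : X.Modules)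
    (hL : PicF.IsInvertible L) (s : L.presheaf.obj (Opposite.op ⊤)) (i : D ⟶ X)
    [IsClosedImmersion i] (hD : Cyc.IsZeroSchemeOf i L s) (k : ℤ) (F : X.Modules)
    (hF : Coh.IsCoh F) (hdim : ∀ x : X, Nontrivial (F.presheaf.stalk x) → δ x ≤ k + 1)
    (hreg : ∀ (x : X) (t : L.presheaf.stalk x) (f : X.presheaf.stalk x),
      Submodule.span (X.presheaf.stalk x) {t} = ⊤ → (L.presheaf.germ ⊤ x trivial) s = f • t →
        Function.Injective (fun m : F.presheaf.stalk x => f • m))
    (w : (ξ : X) → Cyc.secFibre L ξ) (hw : ∀ ξ, w ξ ≠ 0) (γ : AlgebraicCycle D ℤ)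
    (hγ : ∀ d, γ d = Cyc.c1CapFun δ L (Cyc.sheafFun δ (k + 1) F) (Cyc.gysinChoice L s w) (i d))
    (ζ : AlgebraicCycle D ℤ)
    (hζ : ⇑ζ = Cyc.sheafFun (fun d => δ (i d)) k ((Scheme.Modules.pullback i).obj F)) :
    Cyc.RatEquiv (fun d => δ (i d)) k γ ζ := by
  unfold Cyc.RatEquiv
  refine ⟨PEmpty, PEmpty.elim, fun j => j.elim, fun j => j.elim, fun j => j.elim,
    fun x => ⟨Set.univ, isOpen_univ, trivial, Set.toFinite _⟩, ?_⟩
  intro d
  have hsub : (γ - ζ) d = γ d - ζ d := by
    rw [Function.locallyFinsuppWithin.coe_sub]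
    rfl
  rw [hsub, hγ d, hζ, gysin_sheafFun_point δ hX L hL s i hD k F hF hdim hreg w d, sub_self,
    finsum_of_isEmpty]

end Part5

end Groth.Agent.Lib.R2H1.SheafGysin
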