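import Mathlib

set_option autoImplicit false
universe u

namespace Groth.Agent.Lib.R2LeadHartA

open IsLocalRing

section Algebra

variable {R N : Type*} [CommRing R] [IsDomain R] [IsNoetherianRing R] [IsLocalRing R]
  [IsIntegrallyClosed R] [AddCommGroup N] [Module R N]

/-- key step: if `m • c ⊆ R n₀` then `c ∈ R n₀` (normal local domain of dimension at least two,
torsion free module). -/
theorem mem_span_of_maximalIdeal_smul
    (htf : ∀ (a : R) (v : N), a • v = 0 → a = 0 ∨ v = 0)
    (n₀ : N) (hn₀ : n₀ ≠ 0) (hdim : ¬ ringKrullDim R ≤ 1) (c : N)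
    (hc : ∀ a ∈ maximalIdeal R, a • c ∈ Submodule.span R {n₀}) :
    c ∈ Submodule.span R {n₀} := by
  classical
  -- the maximal ideal is nonzero
  have hm : maximalIdeal R ≠ ⊥ := by
    intro h
    apply hdim
    rw [← IsLocalRing.maximalIdeal_height_eq_ringKrullDim, h]
    have : (⊥ : Ideal R).height = 0 := by
      rw [Ideal.height_bot]
    rw [this]
    exact zero_le_one
  obtain ⟨a₀, ha₀m, ha₀⟩ := Submodule.exists_mem_ne_zero_of_ne_bot hm
  have hex : ∀ a : R, ∃ r : R, a ∈ maximalIdeal R → a • c = r • n₀ := by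
    intro a
    by_cases ha : a ∈ maximalIdeal R
    · obtain ⟨r, hr⟩ := Submodule.mem_span_singleton.1 (hc a ha)
      exact ⟨r, fun _ => hr.symm⟩
    · exact ⟨0, fun h => absurd h ha⟩
  choose r hr using hex
  have hinj : ∀ x y : R, x • n₀ = y • n₀ → x = y := by
    intro x y hxy
    have h1 : (x - y) • n₀ = 0 := by rw [sub_smul, hxy, sub_self]
    rcases htf _ _ h1 with h | h
    · exact sub_eq_zero.1 h
    · exact absurd h hn₀
  have hrel : ∀ a ∈ maximalIdeal R, ∀ b ∈ maximalIdeal R, a * r b = b * r a := by
    intro a ha b hb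
    apply hinj
    rw [mul_smul, ← hr b hb, mul_smul, ← hr a ha, smul_comm]
  by_cases hcase : ∀ a ∈ maximalIdeal R, r a ∈ maximalIdeal R
  · -- integrality
    let K := FractionRing R
    let x : K := algebraMap R K (r a₀) / algebraMap R K a₀
    have ha₀K : algebraMap R K a₀ ≠ 0 := by
      intro h
      exact ha₀ ((IsFractionRing.injective R K) (h.trans (map_zero _).symm))
    have hx : ∀ a ∈ maximalIdeal R, x * algebraMap R K a = algebraMap R K (r a) := by
      intro a ha
      have h1 := hrel a ha a₀ ha₀m
      have h2 : algebraMap R K a * algebraMap R K (r a₀) =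
          algebraMap R K a₀ * algebraMap R K (r a) := by
        rw [← map_mul, ← map_mul, h1]
      change algebraMap R K (r a₀) / algebraMap R K a₀ * algebraMap R K a = _
      rw [div_mul_eq_mul_div, div_eq_iff ha₀K, mul_comm, h2, mul_comm]
    let N' : Submodule R K := Submodule.map (Algebra.linearMap R K) (maximalIdeal R)
    have hN' : N' ≠ ⊥ := by
      intro h
      have h1 : algebraMap R K a₀ ∈ N' := ⟨a₀, ha₀m, rfl⟩
      rw [h] at h1
      exact ha₀K ((Submodule.mem_bot R).1 h1)
    have hfg : N'.FG := Submodule.FG.map _ (IsNoetherian.noetherian (maximalIdeal R))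
    have hstab : ∀ n ∈ N', x • n ∈ N' := by
      rintro n ⟨a, ha, rfl⟩
      refine ⟨r a, hcase a ha, ?_⟩
      change algebraMap R K (r a) = x * algebraMap R K a
      exact (hx a ha).symm
    have hint : IsIntegral R x := isIntegral_of_smul_mem_submodule N' hN' hfg x hstab
    obtain ⟨y, hy⟩ := IsIntegrallyClosed.isIntegral_iff.1 hint
    have h1 : r a₀ = y * a₀ := by
      apply IsFractionRing.injective R K
      rw [map_mul, hy]
      change _ = algebraMap R K (r a₀) / algebraMap R K a₀ * algebraMap R K a₀
      rw [div_mul_cancel₀ _ ha₀K]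
    have h2 : a₀ • (c - y • n₀) = 0 := by
      rw [smul_sub, hr a₀ ha₀m, h1, smul_smul, mul_comm, sub_self]
    rcases htf _ _ h2 with h | h
    · exact absurd h ha₀
    · rw [sub_eq_zero.1 h]
      exact Submodule.smul_mem _ _ (Submodule.mem_span_singleton_self n₀)
  · -- the maximal ideal is principal
    exfalso
    push Not at hcase
    obtain ⟨a₁, ha₁, hra₁⟩ := hcase
    have hu : IsUnit (r a₁) := by
      by_contra h
      exact hra₁ ((IsLocalRing.mem_maximalIdeal _).2 h)
    have heq : maximalIdeal R = Ideal.span {a₁} := by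
      apply le_antisymm
      · intro b hb
        have h1 := hrel a₁ ha₁ b hb
        obtain ⟨u, hu'⟩ := hu
        rw [Ideal.mem_span_singleton']
        refine ⟨r b * ↑u⁻¹, ?_⟩
        have h2 : b = a₁ * r b * ↑u⁻¹ := by
          rw [h1, ← hu', mul_assoc, Units.mul_inv, mul_one]
        rw [show r b * ↑u⁻¹ * a₁ = a₁ * r b * ↑u⁻¹ by ring]
        exact h2.symm
      · rw [Ideal.span_le]
        intro y hy
        rw [Set.mem_singleton_iff.1 hy]
        exact ha₁
    apply hdim
    rw [← IsLocalRing.maximalIdeal_height_eq_ringKrullDim]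
    haveI : (Ideal.span {a₁} : Ideal R).IsPrincipal := ⟨⟨a₁, rfl⟩⟩
    have h3 : maximalIdeal R ∈ (Ideal.span {a₁} : Ideal R).minimalPrimes := by
      rw [← heq, Ideal.minimalPrimes_eq_subsingleton_self]
      exact Set.mem_singleton _
    have h4 := Ideal.height_le_one_of_isPrincipal_of_mem_minimalPrimes (Ideal.span {a₁})
      (maximalIdeal R) h3
    exact_mod_cast h4

/-- algebraic Hartogs for a cyclic submodule. -/
theorem mem_span_of_codim_two
    (htf : ∀ (a : R) (v : N), a • v = 0 → a = 0 ∨ v = 0)
    (n₀ : N) (hn₀ : n₀ ≠ 0) (hdim : ¬ ringKrullDim R ≤ 1)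
    (H : ∀ (c : N) (p : Ideal R), p.IsPrime → p ≠ maximalIdeal R →
        ∃ a : R, a ∉ p ∧ a • c ∈ Submodule.span R {n₀}) (c : N) :
    c ∈ Submodule.span R {n₀} := by
  -- powers
  have hpow : ∀ k : ℕ, ∀ c : N, (∀ a ∈ maximalIdeal R ^ k, a • c ∈ Submodule.span R {n₀}) →
      c ∈ Submodule.span R {n₀} := by
    intro k
    induction k with
    | zero =>
      intro c hc
      have := hc 1 (by rw [pow_zero, Ideal.one_eq_top]; exact Submodule.mem_top)
      rwa [one_smul] at this
    | succ k ih =>
      intro c hc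
      apply ih
      intro b hb
      apply mem_span_of_maximalIdeal_smul htf n₀ hn₀ hdim
      intro a ha
      rw [smul_smul]
      apply hc
      rw [pow_succ']
      exact Ideal.mul_mem_mul ha hb
  let I : Ideal R :=
    { carrier := {a | a • c ∈ Submodule.span R {n₀}}
      add_mem' := fun {a b} ha hb => by
        simp only [Set.mem_setOf_eq] at ha hb ⊢
        rw [add_smul]
        exact Submodule.add_mem _ ha hb
      zero_mem' := by
        simp only [Set.mem_setOf_eq]
        rw [zero_smul]
        exact Submodule.zero_mem _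
      smul_mem' := fun t a ha => by
        simp only [Set.mem_setOf_eq] at ha ⊢
        rw [smul_eq_mul, mul_smul]
        exact Submodule.smul_mem _ _ ha }
  by_cases hI : I = ⊤
  · have : (1 : R) ∈ I := by rw [hI]; exact Submodule.mem_top
    have h1 : (1 : R) • c ∈ Submodule.span R {n₀} := this
    rwa [one_smul] at h1
  · have hrad : maximalIdeal R ≤ I.radical := by
      rw [Ideal.radical_eq_sInf]
      apply le_sInf
      rintro p ⟨hIp, hp⟩
      by_cases hpm : p = maximalIdeal R
      · rw [hpm]
      · obtain ⟨a, hap, hac⟩ := H c p hp hpm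
        exact absurd (hIp hac) hap
    obtain ⟨k, hk⟩ := Ideal.exists_pow_le_of_le_radical_of_fg hrad
      (IsNoetherian.noetherian (maximalIdeal R))
    exact hpow k c (fun a ha => hk ha)

end Algebra

end Groth.Agent.Lib.R2LeadHartA
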