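import Mathlib
import Groth.Agent.Lib.Helper14FtPts

/-!
# Closed points of locally Noetherian schemes (lead)

* `isMaximal_of_ne_bot`: a Noetherian domain in which some nonzero `g` lies in every nonzero prime
  has all nonzero primes maximal.
* `eq_of_lt_of_le`: relative version in a Noetherian ring.
* `exists_isClosed_specializes`: every point of a locally Noetherian scheme specializes to a closed
  point.
-/

set_option autoImplicit false
set_option linter.style.haveILetI false
universe u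

open AlgebraicGeometry CategoryTheory TopologicalSpace

namespace Groth.Agent.Lib.R2Lead.ReflA

section Algebra

theorem isMaximal_of_ne_bot {D : Type*} [CommRing D] [IsDomain D] [IsNoetherianRing D] (g : D)
    (hg : g ≠ 0) (h : ∀ q : Ideal D, q.IsPrime → q ≠ ⊥ → g ∈ q) (Q : Ideal D) [hQp : Q.IsPrime]
    (hQ : Q ≠ ⊥) : Q.IsMaximal := by
  classical
  obtain ⟨m, hm, hQm⟩ := Ideal.exists_le_maximal Q hQp.ne_top
  haveI : m.IsPrime := hm.isPrime
  by_contra hcon
  have hlt : Q < m := lt_of_le_of_ne hQm (fun e => hcon (e ▸ hm))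
  -- height of m at least two
  have hbot : (⊥ : Ideal D) < Q := bot_lt_iff_ne_bot.mpr hQ
  haveI : (⊥ : Ideal D).IsPrime := Ideal.isPrime_bot
  have h1 : (1 : ℕ∞) ≤ Q.height := by
    have := Ideal.height_add_one_le_of_lt_of_isPrime hbot
    exact le_trans (by simp) this
  have h2 : (2 : ℕ∞) ≤ m.height := by
    have := Ideal.height_add_one_le_of_lt_of_isPrime hlt
    calc (2 : ℕ∞) = 1 + 1 := by norm_num
      _ ≤ Q.height + 1 := by gcongr
      _ ≤ m.height := this
  -- minimal primes over g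
  have hgQ : g ∈ Q := h Q hQp hQ
  have hfin : (Ideal.span {g}).minimalPrimes.Finite :=
    Ideal.finite_minimalPrimes_of_isNoetherianRing D _
  have hht : ∀ P ∈ (Ideal.span {g}).minimalPrimes, P.height ≤ 1 := fun P hP =>
    Ideal.height_le_one_of_isPrincipal_of_mem_minimalPrimes _ P hP
  -- prime avoidance
  have hav : ¬ ((m : Set D) ⊆ ⋃ P ∈ hfin.toFinset, (P : Set D)) := by
    intro hsub
    have hpr : ∀ P ∈ hfin.toFinset, P.IsPrime := fun P hP => by
      rw [Set.Finite.mem_toFinset] at hP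
      exact hP.1.1
    obtain ⟨P, hP, hmP⟩ := (Ideal.subset_union_prime (s := hfin.toFinset) (f := fun P => P) ⊥ ⊥
      (fun P hP _ _ => hpr P hP)).1 hsub
    rw [Set.Finite.mem_toFinset] at hP
    have := (Ideal.height_mono hmP).trans (hht P hP)
    exact absurd (h2.trans this) (by norm_num)
  obtain ⟨a, ham, haP⟩ := Set.not_subset.1 hav
  have haP' : ∀ P ∈ (Ideal.span {g}).minimalPrimes, a ∉ P := by
    intro P hP haP''
    apply haP
    simp only [Set.mem_iUnion, SetLike.mem_coe]
    exact ⟨P, (Set.Finite.mem_toFinset hfin).2 hP, haP''⟩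
  -- a minimal prime over a inside m
  obtain ⟨P, hP, hPm⟩ := Ideal.exists_minimalPrimes_le (I := Ideal.span {a}) (J := m)
    ((Ideal.span_singleton_le_iff_mem _).2 ham)
  haveI hPp : P.IsPrime := hP.1.1
  have haPin : a ∈ P := (Ideal.span_singleton_le_iff_mem _).1 hP.1.2
  obtain ⟨P₀, hP₀, hP₀Q⟩ := Ideal.exists_minimalPrimes_le (I := Ideal.span {g}) (J := Q)
    ((Ideal.span_singleton_le_iff_mem _).2 hgQ)
  have ha0 : a ≠ 0 := by
    intro e
    exact haP' P₀ hP₀ (e ▸ P₀.zero_mem)
  have hPbot : P ≠ ⊥ := by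
    intro e
    rw [e, Ideal.mem_bot] at haPin
    exact ha0 haPin
  have hgP : g ∈ P := h P hPp hPbot
  obtain ⟨P₁, hP₁, hP₁P⟩ := Ideal.exists_minimalPrimes_le (I := Ideal.span {g}) (J := P)
    ((Ideal.span_singleton_le_iff_mem _).2 hgP)
  haveI hP₁p : P₁.IsPrime := hP₁.1.1
  have hgP₁ : g ∈ P₁ := (Ideal.span_singleton_le_iff_mem _).1 hP₁.1.2
  have hP₁bot : P₁ ≠ ⊥ := by
    intro e
    rw [e, Ideal.mem_bot] at hgP₁
    exact hg hgP₁
  have hPht : P.height ≤ 1 := Ideal.height_le_one_of_isPrincipal_of_mem_minimalPrimes _ P hP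
  have hP₁eq : P₁ = P := by
    by_contra hne
    have hlt' : P₁ < P := lt_of_le_of_ne hP₁P hne
    have hb : (⊥ : Ideal D) < P₁ := bot_lt_iff_ne_bot.mpr hP₁bot
    have e1 : (1 : ℕ∞) ≤ P₁.height :=
      le_trans (by simp) (Ideal.height_add_one_le_of_lt_of_isPrime hb)
    have e2 : (2 : ℕ∞) ≤ P.height := by
      calc (2 : ℕ∞) = 1 + 1 := by norm_num
        _ ≤ P₁.height + 1 := by gcongr
        _ ≤ P.height := Ideal.height_add_one_le_of_lt_of_isPrime hlt'
    exact absurd (e2.trans hPht) (by norm_num)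
  exact haP' P₁ hP₁ (hP₁eq ▸ haPin)

theorem eq_of_lt_of_le {B : Type*} [CommRing B] [IsNoetherianRing B] (P Q Z : Ideal B)
    [hP : P.IsPrime] [hQ : Q.IsPrime] [hZ : Z.IsPrime] (g : B) (hg : g ∉ P)
    (h : ∀ q : Ideal B, q.IsPrime → P ≤ q → g ∉ q → q = P) (hPQ : P < Q) (hQZ : Q ≤ Z) :
    Q = Z := by
  let π := Ideal.Quotient.mk P
  have hπ : Function.Surjective π := Ideal.Quotient.mk_surjective
  have hker : RingHom.ker π = P := Ideal.mk_ker
  haveI : IsDomain (B ⧸ P) := Ideal.Quotient.isDomain P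
  have hQ' : (Q.map π).IsPrime :=
    Ideal.map_isPrime_of_surjective hπ (by rw [hker]; exact hPQ.le)
  have hZ' : (Z.map π).IsPrime :=
    Ideal.map_isPrime_of_surjective hπ (by rw [hker]; exact hPQ.le.trans hQZ)
  have hcQ : (Q.map π).comap π = Q := by
    rw [Ideal.comap_map_of_surjective π hπ, ← RingHom.ker_eq_comap_bot, hker]
    exact sup_eq_left.2 hPQ.le
  have hcZ : (Z.map π).comap π = Z := by
    rw [Ideal.comap_map_of_surjective π hπ, ← RingHom.ker_eq_comap_bot, hker]
    exact sup_eq_left.2 (hPQ.le.trans hQZ)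
  have hg' : π g ≠ 0 := by
    intro e
    exact hg (Ideal.Quotient.eq_zero_iff_mem.1 e)
  have hall : ∀ q : Ideal (B ⧸ P), q.IsPrime → q ≠ ⊥ → π g ∈ q := by
    intro q hq hqb
    by_contra hgq
    have hq' : (q.comap π).IsPrime := Ideal.comap_isPrime π q
    have hPq : P ≤ q.comap π := by
      intro x hx
      rw [Ideal.mem_comap, Ideal.Quotient.eq_zero_iff_mem.2 hx]
      exact q.zero_mem
    have := h (q.comap π) hq' hPq (fun hh => hgq (Ideal.mem_comap.1 hh))
    apply hqb
    have hmap : (q.comap π).map π = q := Ideal.map_comap_of_surjective π hπ q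
    rw [← hmap, this]
    exact Ideal.map_quotient_self P
  have hQb : Q.map π ≠ ⊥ := by
    intro e
    have : Q ≤ P := by
      have h1 := (Ideal.map_eq_bot_iff_le_ker π).1 e
      rwa [hker] at h1
    exact absurd hPQ (not_lt_of_ge this)
  have hmax := isMaximal_of_ne_bot (π g) hg' hall (Q.map π) hQb
  have heq : Q.map π = Z.map π :=
    hmax.eq_of_le hZ'.ne_top (Ideal.map_mono hQZ)
  rw [← hcQ, ← hcZ, heq]

end Algebra

section Geometry

variable {X : Scheme.{u}}

/-- Every point of a locally Noetherian scheme specializes to a closed point. -/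
theorem exists_isClosed_specializes [IsLocallyNoetherian X] (y : X) :
    ∃ x : X, IsClosed ({x} : Set X) ∧ y ⤳ x := by
  -- an affine open around y
  obtain ⟨_, ⟨U, hU', rfl⟩, hyU, -⟩ := X.isBasis_affineOpens.exists_subset_of_mem_open
    (Set.mem_univ y) isOpen_univ
  have hU : IsAffineOpen U := hU'
  -- a point x' of U, closed in U, specializing y
  obtain ⟨m, hm, hle⟩ := Ideal.exists_le_maximal (hU.primeIdealOf ⟨y, hyU⟩).asIdeal
    (hU.primeIdealOf ⟨y, hyU⟩).isPrime.ne_top
  let pm : Spec Γ(X, U) := ⟨m, hm.isPrime⟩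
  let x' : X := hU.fromSpec pm
  have hx'U : x' ∈ U := by
    have : x' ∈ Set.range hU.fromSpec := ⟨pm, rfl⟩
    rw [hU.range_fromSpec] at this
    exact this
  have hyx' : y ⤳ x' := by
    have h1 : hU.primeIdealOf ⟨y, hyU⟩ ⤳ pm := (PrimeSpectrum.le_iff_specializes _ _).1 hle
    have h2 := h1.map hU.fromSpec.continuous
    rwa [hU.fromSpec_primeIdealOf] at h2
  have hprime : hU.primeIdealOf ⟨x', hx'U⟩ = pm := by
    apply hU.fromSpec.isOpenEmbedding.injective
    rw [hU.fromSpec_primeIdealOf]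
  have hclU : ∀ w ∈ U, x' ⤳ w → w = x' := by
    intro w hw hsp
    have h1 := Groth.Agent.Lib.Helper14.primeIdealOf_le_of_specializes hU x' w hx'U hw hsp
    rw [hprime] at h1
    have h2 : m = (hU.primeIdealOf ⟨w, hw⟩).asIdeal :=
      hm.eq_of_le (hU.primeIdealOf ⟨w, hw⟩).isPrime.ne_top h1
    have h3 : hU.primeIdealOf ⟨w, hw⟩ = pm := PrimeSpectrum.ext h2.symm
    exact (hU.fromSpec_primeIdealOf ⟨w, hw⟩).symm.trans (by rw [h3])
  by_cases hcl : IsClosed ({x'} : Set X)
  · exact ⟨x', hcl, hyx'⟩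
  · -- a proper specialization t of x'
    have hex : ∃ t : X, x' ⤳ t ∧ t ≠ x' := by
      by_contra hno
      push Not at hno
      apply hcl
      rw [← closure_eq_iff_isClosed]
      apply Set.Subset.antisymm _ subset_closure
      intro t ht
      rw [Set.mem_singleton_iff]
      exact hno t (specializes_iff_mem_closure.2 ht)
    obtain ⟨t, hx't, htne⟩ := hex
    refine ⟨t, ?_, hyx'.trans hx't⟩
    rw [← closure_eq_iff_isClosed]
    apply Set.Subset.antisymm _ subset_closure
    intro z hz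
    rw [Set.mem_singleton_iff]
    have htz : t ⤳ z := specializes_iff_mem_closure.2 hz
    -- affine open around z
    obtain ⟨_, ⟨V, hV', rfl⟩, hzV, -⟩ := X.isBasis_affineOpens.exists_subset_of_mem_open
      (Set.mem_univ z) isOpen_univ
    have hV : IsAffineOpen V := hV'
    have htV : t ∈ V := htz.mem_open V.isOpen hzV
    have hx'V : x' ∈ V := hx't.mem_open V.isOpen htV
    haveI : IsNoetherianRing Γ(X, V) := IsLocallyNoetherian.component_noetherian ⟨V, hV⟩
    -- a basic open of V around x' inside U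
    obtain ⟨g, hgW, hx'g⟩ := hV.exists_basicOpen_le (V := U ⊓ V) ⟨x', ⟨hx'U, hx'V⟩⟩ hx'V
    have hPQ := Groth.Agent.Lib.Helper14.primeIdealOf_le_of_specializes hV x' t hx'V htV hx't
    have hQZ := Groth.Agent.Lib.Helper14.primeIdealOf_le_of_specializes hV t z htV hzV htz
    have hgP : g ∉ (hV.primeIdealOf ⟨x', hx'V⟩).asIdeal :=
      (Groth.Agent.Lib.Helper14.mem_basicOpen_iff_notMem_primeIdealOf hV x' hx'V g).1 hx'g
    have hne : (hV.primeIdealOf ⟨x', hx'V⟩).asIdeal ≠ (hV.primeIdealOf ⟨t, htV⟩).asIdeal := by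
      intro e
      apply htne
      have e' : hV.primeIdealOf ⟨x', hx'V⟩ = hV.primeIdealOf ⟨t, htV⟩ := PrimeSpectrum.ext e
      exact (hV.fromSpec_primeIdealOf ⟨t, htV⟩).symm.trans
        ((congrArg (fun p => (hV.fromSpec p : X)) e'.symm).trans (hV.fromSpec_primeIdealOf ⟨x', hx'V⟩))
    have hkey : ∀ q : Ideal Γ(X, V), q.IsPrime → (hV.primeIdealOf ⟨x', hx'V⟩).asIdeal ≤ q → g ∉ q →
        q = (hV.primeIdealOf ⟨x', hx'V⟩).asIdeal := by
      intro q hq hPq hgq
      let pq : Spec Γ(X, V) := ⟨q, hq⟩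
      let w : X := hV.fromSpec pq
      have hwV : w ∈ V := by
        have : w ∈ Set.range hV.fromSpec := ⟨pq, rfl⟩
        rw [hV.range_fromSpec] at this
        exact this
      have hpw : hV.primeIdealOf ⟨w, hwV⟩ = pq := by
        apply hV.fromSpec.isOpenEmbedding.injective
        rw [hV.fromSpec_primeIdealOf]
      have hwg : w ∈ X.basicOpen g := by
        rw [Groth.Agent.Lib.Helper14.mem_basicOpen_iff_notMem_primeIdealOf hV w hwV g, hpw]
        exact hgq
      have hwU : w ∈ U := (hgW hwg).1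
      have hsp : x' ⤳ w := by
        have h1 : hV.primeIdealOf ⟨x', hx'V⟩ ⤳ pq := (PrimeSpectrum.le_iff_specializes _ _).1 hPq
        have h2 := h1.map hV.fromSpec.continuous
        rwa [hV.fromSpec_primeIdealOf] at h2
      have hwx : w = x' := hclU w hwU hsp
      have : hV.primeIdealOf ⟨w, hwV⟩ = hV.primeIdealOf ⟨x', hx'V⟩ := by
        congr 1
        exact Subtype.ext hwx
      rw [hpw] at this
      exact congrArg PrimeSpectrum.asIdeal this
    have heq := eq_of_lt_of_le (hV.primeIdealOf ⟨x', hx'V⟩).asIdeal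
      (hV.primeIdealOf ⟨t, htV⟩).asIdeal (hV.primeIdealOf ⟨z, hzV⟩).asIdeal g hgP hkey
      (lt_of_le_of_ne hPQ hne) hQZ
    have e' : hV.primeIdealOf ⟨t, htV⟩ = hV.primeIdealOf ⟨z, hzV⟩ := PrimeSpectrum.ext heq
    exact (hV.fromSpec_primeIdealOf ⟨z, hzV⟩).symm.trans
      ((congrArg (fun p => (hV.fromSpec p : X)) e'.symm).trans (hV.fromSpec_primeIdealOf ⟨t, htV⟩))

end Geometry

end Groth.Agent.Lib.R2Lead.ReflA
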