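import Mathlib
import Groth.Prelude.Def_RefHull
import Groth.Agent.Lib.Helper8RefHullFP
import Groth.Agent.Lib.R2H2HomShC
import Groth.Agent.Lib.Helper20ZClos
import Groth.Agent.Lib.Helper23UnitStalk
import Groth.Agent.Lib.Helper23FinPres
import Groth.Agent.Lib.Helper23Serre
import Groth.Agent.Lib.R2H2PnFinite
import Groth.Agent.Lib.Helper2FlatOver
import Groth.Agent.Lib.Helper14FtPts
import Groth.Agent.Lib.R2LeadReflA

/-!
# Reflexive modules and stalks (lead)
-/

set_option autoImplicit false
set_option linter.style.haveILetI false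
universe u

open AlgebraicGeometry CategoryTheory TopologicalSpace Opposite RefHull

namespace Groth.Agent.Lib.R2Lead.ReflB

section Algebra

/-- linear algebra: reflexivity through a `Q`-valued duality with `Q ≃ R`. -/
theorem bijective_iff_isReflexive {R P Q D : Type*} [CommRing R] [AddCommGroup P] [Module R P]
    [AddCommGroup Q] [Module R Q] [AddCommGroup D] [Module R D] (ι : R ≃ₗ[R] Q)
    (e : D →ₗ[R] (P →ₗ[R] Q)) (he : Function.Bijective e) (β : P →ₗ[R] (D →ₗ[R] Q))
    (hβ : ∀ v θ, β v θ = e θ v) : Function.Bijective β ↔ Module.IsReflexive R P := by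
  let E : D ≃ₗ[R] (P →ₗ[R] Q) := LinearEquiv.ofBijective e he
  let c : (P →ₗ[R] Q) ≃ₗ[R] (P →ₗ[R] R) := LinearEquiv.congrRight ι.symm
  let T : D ≃ₗ[R] Module.Dual R P := E.trans c
  let A : (Module.Dual R P →ₗ[R] R) ≃ₗ[R] (D →ₗ[R] Q) := LinearEquiv.arrowCongr T.symm ι
  have hcomp : ∀ v, β v = A (Module.Dual.eval R P v) := by
    intro v
    apply LinearMap.ext
    intro θ
    rw [hβ]
    change e θ v = ι (Module.Dual.eval R P v (T θ))
    change e θ v = ι (ι.symm (e θ v))
    rw [LinearEquiv.apply_symm_apply]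
  have hfun : (β : P → (D →ₗ[R] Q)) = A ∘ (Module.Dual.eval R P) := funext hcomp
  constructor
  · intro h
    refine ⟨?_⟩
    rw [hfun] at h
    exact (Function.Bijective.of_comp_iff' A.bijective _).1 h
  · intro h
    rw [hfun]
    exact A.bijective.comp h.bijective_dual_eval'

/-- bijectivity of a localized map passes to further localizations -/
theorem bijective_of_le {R M N MS NS MT NT : Type*} [CommRing R] [AddCommGroup M] [Module R M]
    [AddCommGroup N] [Module R N] [AddCommGroup MS] [Module R MS] [AddCommGroup NS] [Module R NS]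
    [AddCommGroup MT] [Module R MT] [AddCommGroup NT] [Module R NT]
    (S T : Submonoid R) (hST : S ≤ T) (f : M →ₗ[R] N)
    (a : M →ₗ[R] MS) (b : N →ₗ[R] NS) (a' : M →ₗ[R] MT) (b' : N →ₗ[R] NT)
    [IsLocalizedModule S a] [IsLocalizedModule S b] [IsLocalizedModule T a'] [IsLocalizedModule T b']
    (fS : MS →ₗ[R] NS) (fT : MT →ₗ[R] NT) (hS : ∀ m, fS (a m) = b (f m))
    (hT : ∀ m, fT (a' m) = b' (f m)) (h : Function.Bijective fS) : Function.Bijective fT := by
  constructor
  · rw [injective_iff_map_eq_zero]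
    intro z hz
    obtain ⟨⟨m, t⟩, hmt⟩ := IsLocalizedModule.surj T a' z
    have hmt' : (t : R) • z = a' m := hmt
    have h1 : b' (f m) = 0 := by
      rw [← hT, ← hmt', map_smul, hz, smul_zero]
    obtain ⟨t', ht'⟩ := (IsLocalizedModule.eq_zero_iff T b').1 h1
    have ht'' : (t' : R) • f m = 0 := ht'
    have h2 : fS (a ((t' : R) • m)) = 0 := by
      rw [hS, map_smul, ht'', map_zero]
    have h3 : a ((t' : R) • m) = 0 := by
      apply h.1
      rw [h2, map_zero]
    obtain ⟨s, hs⟩ := (IsLocalizedModule.eq_zero_iff S a).1 h3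
    have hs' : (s : R) • (t' : R) • m = 0 := hs
    have h4 : a' m = 0 := by
      rw [IsLocalizedModule.eq_zero_iff T a']
      refine ⟨⟨(s : R) * (t' : R), T.mul_mem (hST s.2) t'.2⟩, ?_⟩
      change ((s : R) * (t' : R)) • m = 0
      rw [mul_smul]
      exact hs'
    have h5 : t • z = t • (0 : MT) := by
      rw [smul_zero]
      exact hmt.trans h4
    exact IsLocalizedModule.smul_injective a' t h5
  · intro w
    obtain ⟨⟨n, t⟩, hnt⟩ := IsLocalizedModule.surj T b' w
    have hnt' : (t : R) • w = b' n := hnt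
    obtain ⟨v, hv⟩ := h.2 (b n)
    obtain ⟨⟨m, s⟩, hms⟩ := IsLocalizedModule.surj S a v
    have hms' : (s : R) • v = a m := hms
    have h1 : b (f m) = b ((s : R) • n) := by
      rw [← hS, ← hms', map_smul, hv, map_smul]
    obtain ⟨s', hs'⟩ := (IsLocalizedModule.eq_iff_exists S b).1 h1
    have hs'' : (s' : R) • f m = (s' : R) • (s : R) • n := hs'
    have h2 : b' (f ((s' : R) • m)) = ((s' : R) * (s : R)) • b' n := by
      rw [map_smul, hs'', ← mul_smul, map_smul]
    let tt : T := ⟨((s' : R) * (s : R)) * (t : R),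
      T.mul_mem (T.mul_mem (hST s'.2) (hST s.2)) t.2⟩
    refine ⟨IsLocalizedModule.mk' a' ((s' : R) • m) tt, ?_⟩
    apply IsLocalizedModule.smul_injective b' tt
    change (tt : R) • fT (IsLocalizedModule.mk' a' ((s' : R) • m) tt) = (tt : R) • w
    rw [← map_smul]
    have h3 : (tt : R) • IsLocalizedModule.mk' a' ((s' : R) • m) tt = a' ((s' : R) • m) :=
      IsLocalizedModule.mk'_cancel' a' ((s' : R) • m) tt
    rw [h3, hT, h2]
    change ((s' : R) * (s : R)) • b' n = (((s' : R) * (s : R)) * (t : R)) • w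
    rw [mul_smul ((s' : R) * (s : R)) (t : R) w, hnt']

end Algebra

variable {X : Scheme.{u}}

section Stalk

theorem evalStalk_stalkMap_bidualMap (F : X.Modules) (x : X) (v : F.presheaf.stalk x) :
    evalStalk (dual F) (Coh.structureModule X) x (stalkMapₗ (bidualMap F) x v) = bidualAt F x v := by
  obtain ⟨U, hx, s, rfl⟩ := TopCat.Presheaf.exists_germ_eq F.presheaf v
  rw [stalkMapₗ_germ, evalStalk_germ]
  exact bidualMap_app_apply F s ⟨x, hx⟩

theorem isCoh_structureModule (X : Scheme.{u}) : Coh.IsCoh (Coh.structureModule X) :=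
  ⟨Groth.Agent.Lib.Helper23.Serre.isQuasicoherent_structureModule' X,
    Groth.Agent.Lib.R2H2.PnFinite.isFiniteType_structureModule X⟩

theorem isFP_of_isCoh [IsLocallyNoetherian X] (F : X.Modules) (hF : Coh.IsCoh F) : CohB1.IsFP F := by
  haveI := hF.1
  haveI := hF.2
  exact Groth.Agent.Lib.Helper23.FinType.isFinitePresentation_of_isFiniteType F

theorem isCoh_dual [IsLocallyNoetherian X] (F : X.Modules) (hF : Coh.IsCoh F) : Coh.IsCoh (dual F) :=
  Groth.Agent.Lib.R2H2.HomShC.isCoh_homSh hF (isCoh_structureModule X)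

/-- the stalkwise criterion -/
theorem isReflexiveAt_iff [IsLocallyNoetherian X] (F : X.Modules) (hF : Coh.IsCoh F) (x : X) :
    IsReflexiveAt F x ↔ Function.Bijective (stalkMapₗ (bidualMap F) x) := by
  have he := Groth.Agent.Lib.Helper8RefHullFP.evalStalk_bijective_of_isFP F (Coh.structureModule X)
    (isFP_of_isCoh F hF) x
  have he' := Groth.Agent.Lib.Helper8RefHullFP.evalStalk_bijective_of_isFP (dual F)
    (Coh.structureModule X) (isFP_of_isCoh (dual F) (isCoh_dual F hF)) x
  have h1 := bijective_iff_isReflexive (Groth.Agent.Lib.Helper23.UnitStalk.unitStalkEquiv x)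
    (evalStalk F (Coh.structureModule X) x) he (bidualAt F x) (fun v θ => bidualAt_apply F x v θ)
  unfold IsReflexiveAt
  rw [← h1]
  have hfun : (bidualAt F x : F.presheaf.stalk x → _) =
      (evalStalk (dual F) (Coh.structureModule X) x) ∘ (stalkMapₗ (bidualMap F) x) :=
    funext fun v => (evalStalk_stalkMap_bidualMap F x v).symm
  rw [hfun]
  exact Function.Bijective.of_comp_iff' he' _

theorem isReflexive_iff (F : X.Modules) :
    IsReflexive F ↔ ∀ x : X, Function.Bijective (stalkMapₗ (bidualMap F) x) := by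
  unfold IsReflexive
  rw [Groth.Agent.Lib.Helper20.ZClosLib.isIso_iff_stalk_bijective]
  rfl

end Stalk

section Generization

open Groth.Agent.Lib.Helper2.FlatOver

/-- bijectivity of a stalk map passes to generizations (quasi-coherent modules) -/
theorem bijective_stalkMap_of_specializes {F G : X.Modules} [F.IsQuasicoherent] [G.IsQuasicoherent]
    (φ : F ⟶ G) {x y : X} (hyx : y ⤳ x) (h : Function.Bijective (stalkMapₗ φ x)) :
    Function.Bijective (stalkMapₗ φ y) := by
  obtain ⟨_, ⟨U, hU', rfl⟩, hxU, -⟩ := X.isBasis_affineOpens.exists_subset_of_mem_open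
    (Set.mem_univ x) isOpen_univ
  have hU : IsAffineOpen U := hU'
  have hyU : y ∈ U := hyx.mem_open U.isOpen hxU
  letI := moduleStalkSections F U x hxU
  letI := moduleStalkSections G U x hxU
  letI := moduleStalkSections F U y hyU
  letI := moduleStalkSections G U y hyU
  haveI := isLocalizedModule_germ hU F x hxU
  haveI := isLocalizedModule_germ hU G x hxU
  haveI := isLocalizedModule_germ hU F y hyU
  haveI := isLocalizedModule_germ hU G y hyU
  let f : Γ(F, U) →ₗ[Γ(X, U)] Γ(G, U) :=
    { toFun := fun m => φ.app U m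
      map_add' := fun a b => map_add _ a b
      map_smul' := fun r m => Scheme.Modules.Hom.app_smul φ r m }
  let fx : F.presheaf.stalk x →ₗ[Γ(X, U)] G.presheaf.stalk x :=
    { toFun := fun v => stalkMapₗ φ x v
      map_add' := fun a b => map_add _ a b
      map_smul' := fun r v => map_smul (stalkMapₗ φ x) (X.presheaf.germ U x hxU r) v }
  let fy : F.presheaf.stalk y →ₗ[Γ(X, U)] G.presheaf.stalk y :=
    { toFun := fun v => stalkMapₗ φ y v
      map_add' := fun a b => map_add _ a b
      map_smul' := fun r v => map_smul (stalkMapₗ φ y) (X.presheaf.germ U y hyU r) v }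
  have hle : (hU.primeIdealOf ⟨x, hxU⟩).asIdeal.primeCompl ≤
      (hU.primeIdealOf ⟨y, hyU⟩).asIdeal.primeCompl := by
    intro r hr hry
    exact hr (Groth.Agent.Lib.Helper14.primeIdealOf_le_of_specializes hU y x hyU hxU hyx hry)
  exact bijective_of_le (hU.primeIdealOf ⟨x, hxU⟩).asIdeal.primeCompl
    (hU.primeIdealOf ⟨y, hyU⟩).asIdeal.primeCompl hle f (germₗ F U x hxU) (germₗ G U x hxU)
    (germₗ F U y hyU) (germₗ G U y hyU) fx fy
    (fun m => stalkMapₗ_germ φ x hxU m) (fun m => stalkMapₗ_germ φ y hyU m) h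

end Generization

section Main

theorem tfae [IsIntegral X] [IsLocallyNoetherian X] (F : X.Modules) (hF : Coh.IsCoh F) :
    [RefHull.IsReflexive F, ∀ x : ↥X, RefHull.IsReflexiveAt F x,
      ∀ x : ↥X, IsClosed ({x} : Set ↥X) → RefHull.IsReflexiveAt F x].TFAE := by
  tfae_have 1 → 2 := by
    intro h x
    rw [isReflexiveAt_iff F hF x]
    exact (isReflexive_iff F).1 h x
  tfae_have 2 → 3 := fun h x _ => h x
  tfae_have 3 → 1 := by
    intro h
    rw [isReflexive_iff]
    intro y
    obtain ⟨x, hx, hyx⟩ := Groth.Agent.Lib.R2Lead.ReflA.exists_isClosed_specializes y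
    have h1 := (isReflexiveAt_iff F hF x).1 (h x hx)
    haveI := hF.1
    haveI := (isCoh_dual (dual F) (isCoh_dual F hF)).1
    exact bijective_stalkMap_of_specializes (bidualMap F) hyx h1
  tfae_finish

end Main

end Groth.Agent.Lib.R2Lead.ReflB
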