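import Mathlib
import Groth.Prelude.Def_RefHull
import Groth.Prelude.Def_Pi1
import Groth.Agent.Lib.R2LeadReflB
import Groth.Agent.Lib.R2H1SheafGysin
import Groth.Agent.Lib.Helper20InvGen
import Groth.Agent.Lib.R2LeadHartA

set_option autoImplicit false
set_option linter.style.haveILetI false
universe u

open AlgebraicGeometry CategoryTheory TopologicalSpace Opposite RefHull IsLocalRing

namespace Groth.Agent.Lib.R2LeadHartB

variable {X : Scheme.{u}}

section Restrict

open Groth.Agent.Lib.Helper20.InvGen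

/-- a section generating the stalk of the restriction generates the stalk. -/
theorem surjective_smul_germ_of_restrict (L : X.Modules) (U : X.Opens)
    (W : (↑U : Scheme.{u}).Opens) (t : Γ(L.restrict U.ι, W)) (y : ↥U) (hy : y ∈ W)
    (h : Function.Surjective (fun c : (↑U : Scheme.{u}).presheaf.stalk y =>
      c • (L.restrict U.ι).presheaf.germ W y hy t)) :
    Function.Surjective (fun c : X.presheaf.stalk (U.ι y) =>
      c • L.presheaf.germ (U.ι ''ᵁ W) (U.ι y) ⟨y, hy, rfl⟩ (t : Γ(L, U.ι ''ᵁ W))) := by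
  intro m
  let α := (Scheme.Modules.restrictStalkNatIso U.ι y).hom.app L
  let β := (Scheme.Modules.restrictStalkNatIso U.ι y).inv.app L
  have hαβ : ∀ v, α (β v) = v := fun v => by
    have := (Scheme.Modules.restrictStalkNatIso U.ι y).inv_hom_id_app L
    exact ConcreteCategory.congr_hom this v
  have hα : ∀ (V : (↑U : Scheme.{u}).Opens) (hyV : y ∈ V) (t' : Γ(L.restrict U.ι, V)),
      α ((L.restrict U.ι).presheaf.germ V y hyV t') =
        L.presheaf.germ (U.ι ''ᵁ V) (U.ι y) ⟨y, hyV, rfl⟩ (t' : Γ(L, U.ι ''ᵁ V)) := by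
    intro V hyV t'
    exact ConcreteCategory.congr_hom
      (Scheme.Modules.germ_restrictStalkNatIso_hom_app U.ι y L hyV) t'
  obtain ⟨c, hc⟩ := h (β m)
  obtain ⟨V₁, hyV₁, r, rfl⟩ := (↑U : Scheme.{u}).presheaf.exists_germ_eq c
  have hyV₂ : y ∈ V₁ ⊓ W := ⟨hyV₁, hy⟩
  let r₂ : Γ(↑U, V₁ ⊓ W) := (↑U : Scheme.{u}).presheaf.map (homOfLE inf_le_left).op r
  let t₂ : Γ(L.restrict U.ι, V₁ ⊓ W) := (L.restrict U.ι).presheaf.map (homOfLE inf_le_right).op t
  have hr₂ : (↑U : Scheme.{u}).presheaf.germ (V₁ ⊓ W) y hyV₂ r₂ =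
      (↑U : Scheme.{u}).presheaf.germ V₁ y hyV₁ r :=
    TopCat.Presheaf.germ_res_apply (↑U : Scheme.{u}).presheaf (homOfLE inf_le_left) y hyV₂ r
  have ht₂ : (L.restrict U.ι).presheaf.germ (V₁ ⊓ W) y hyV₂ t₂ =
      (L.restrict U.ι).presheaf.germ W y hy t :=
    TopCat.Presheaf.germ_res_apply (L.restrict U.ι).presheaf (homOfLE inf_le_right) y hyV₂ t
  have h1 : (L.restrict U.ι).presheaf.germ (V₁ ⊓ W) y hyV₂ (r₂ • t₂) = β m := by
    rw [Groth.Agent.Lib.Helper2.QCoh.germ_smul, hr₂, ht₂]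
    exact hc
  let t₂' : Γ(L, U.ι ''ᵁ (V₁ ⊓ W)) := t₂
  let t' : Γ(L, U.ι ''ᵁ W) := t
  let rt : Γ(L, U.ι ''ᵁ (V₁ ⊓ W)) := (r₂ • t₂ : Γ(L.restrict U.ι, V₁ ⊓ W))
  have h2 : L.presheaf.germ (U.ι ''ᵁ (V₁ ⊓ W)) (U.ι y) ⟨y, hyV₂, rfl⟩ rt = m := by
    have h := hα (V₁ ⊓ W) hyV₂ (r₂ • t₂)
    rw [h1, hαβ] at h
    exact h.symm
  have h3 : rt = ((U.ι.appIso (V₁ ⊓ W)).inv r₂ • t₂') := rfl
  have h4 : L.presheaf.germ (U.ι ''ᵁ (V₁ ⊓ W)) (U.ι y) ⟨y, hyV₂, rfl⟩ t₂' =
      L.presheaf.germ (U.ι ''ᵁ W) (U.ι y) ⟨y, hy, rfl⟩ t' :=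
    TopCat.Presheaf.germ_res_apply L.presheaf (homOfLE (U.ι.image_mono inf_le_right))
      (U.ι y) ⟨y, hyV₂, rfl⟩ t'
  refine ⟨X.presheaf.germ (U.ι ''ᵁ (V₁ ⊓ W)) (U.ι y) ⟨y, hyV₂, rfl⟩
    ((U.ι.appIso (V₁ ⊓ W)).inv r₂), ?_⟩
  change _ • L.presheaf.germ (U.ι ''ᵁ W) (U.ι y) ⟨y, hy, rfl⟩ t' = m
  rw [← h2, h3, Groth.Agent.Lib.Helper2.QCoh.germ_smul, h4]

end Restrict

section Main

open Groth.Agent.Lib.R2H1.SheafGysin Groth.Agent.Lib.R2H1.LocQuot

variable [IsIntegral X] [IsLocallyNoetherian X]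

/-- stalks of a coherent reflexive module are torsion free. -/
theorem torsionFree_stalk (F : X.Modules) (hF : Coh.IsCoh F) (hrefl : IsReflexive F) (x : X)
    (a : X.presheaf.stalk x) (v : F.presheaf.stalk x) (h : a • v = 0) : a = 0 ∨ v = 0 := by
  have h01 : RefHull.IsReflexive F ↔ ∀ x : ↥X, RefHull.IsReflexiveAt F x :=
    (Groth.Agent.Lib.R2Lead.ReflB.tfae F hF).out 0 1
  have hR : Module.IsReflexive (X.presheaf.stalk x) (F.presheaf.stalk x) := h01.1 hrefl x
  by_cases ha : a = 0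
  · exact Or.inl ha
  · right
    apply (Module.bijective_dual_eval (X.presheaf.stalk x) (F.presheaf.stalk x)).1
    rw [map_zero]
    ext φ
    have h1 : a * φ v = 0 := by
      rw [← smul_eq_mul, ← map_smul, h, map_zero]
    rcases mul_eq_zero.1 h1 with h2 | h2
    · exact absurd h2 ha
    · exact h2

omit [IsIntegral X] [IsLocallyNoetherian X] in
/-- for a quasi-coherent module with torsion free stalks the specialization maps are injective. -/
theorem stalkSpecializes_injective (F : X.Modules) [F.IsQuasicoherent]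
    (htf : ∀ (x : X) (a : X.presheaf.stalk x) (v : F.presheaf.stalk x), a • v = 0 → a = 0 ∨ v = 0)
    {x ξ : X} (h : ξ ⤳ x) (v : F.presheaf.stalk x)
    (hv : F.presheaf.stalkSpecializes h v = 0) : v = 0 := by
  letI := moduleStalkGen F x ξ h
  haveI hloc := isLocalizedModule_stalkSpecializes F x ξ h
  have h1 : spₗ F x ξ h v = 0 := hv
  obtain ⟨t, ht⟩ := (IsLocalizedModule.eq_zero_iff (RingHom.ker (Cyc.specMap x ξ h)).primeCompl
    (spₗ F x ξ h)).1 h1
  have ht' : (t : X.presheaf.stalk x) • v = 0 := ht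
  rcases htf x _ _ ht' with h2 | h2
  · exfalso
    apply t.2
    rw [h2]
    exact Submodule.zero_mem _
  · exact h2

omit [IsIntegral X] [IsLocallyNoetherian X] in
/-- the hypothesis of the algebraic lemma from maximality in the non-iso locus. -/
theorem exists_smul_mem_span (F : X.Modules) [F.IsQuasicoherent] (s : Γ(F, ⊤)) (z : X)
    (hmax : ∀ y : ↥X, ¬ Function.Bijective
      (fun a : ↑(X.presheaf.stalk y) => a • F.presheaf.germ ⊤ y trivial s) → y ⤳ z → y = z)
    (c : F.presheaf.stalk z) (p : Ideal (X.presheaf.stalk z)) (hp : p.IsPrime)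
    (hpm : p ≠ maximalIdeal (X.presheaf.stalk z)) :
    ∃ a : X.presheaf.stalk z, a ∉ p ∧
      a • c ∈ Submodule.span (X.presheaf.stalk z) {F.presheaf.germ ⊤ z trivial s} := by
  set ξ := X.fromSpecStalk z ⟨p, hp⟩ with hξ
  have hξz : ξ ⤳ z := Groth.Agent.Lib.Helper14.fromSpecStalk_specializes X z ⟨p, hp⟩
  have hξne : ξ ≠ z := fromSpecStalk_ne_of_ne_maximal z ⟨p, hp⟩ hpm
  have hbij : Function.Bijective
      (fun a : X.presheaf.stalk ξ => a • F.presheaf.germ ⊤ ξ trivial s) := by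
    by_contra hnb
    exact hξne (hmax ξ hnb hξz)
  have hker : RingHom.ker (Cyc.specMap z ξ hξz) = p := ker_specMap_fromSpecStalk z p hξz
  letI := moduleStalkGen F z ξ hξz
  haveI hloc := isLocalizedModule_stalkSpecializes F z ξ hξz
  letI := (X.presheaf.stalkSpecializes hξz).hom.toAlgebra
  haveI hlocR := isLocalization_stalkSpecializes z ξ hξz
  obtain ⟨b, hb⟩ := hbij.2 (spₗ F z ξ hξz c)
  have hb' : b • F.presheaf.germ ⊤ ξ trivial s = spₗ F z ξ hξz c := hb
  obtain ⟨⟨b₁, u⟩, hbu⟩ := IsLocalization.surj (RingHom.ker (Cyc.specMap z ξ hξz)).primeCompl b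
  have hbu' : b * (X.presheaf.stalkSpecializes hξz).hom (u : X.presheaf.stalk z) =
      (X.presheaf.stalkSpecializes hξz).hom b₁ := hbu
  have hspn : spₗ F z ξ hξz (F.presheaf.germ ⊤ z trivial s) = F.presheaf.germ ⊤ ξ trivial s :=
    ConcreteCategory.congr_hom
      (TopCat.Presheaf.germ_stalkSpecializes F.presheaf (U := ⊤) (trivial : z ∈ (⊤ : X.Opens)) hξz) s
  have hsm : ∀ (a : X.presheaf.stalk z) (w : F.presheaf.stalk ξ),
      a • w = (X.presheaf.stalkSpecializes hξz).hom a • w := fun _ _ => rfl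
  have h1 : spₗ F z ξ hξz ((u : X.presheaf.stalk z) • c) =
      spₗ F z ξ hξz (b₁ • F.presheaf.germ ⊤ z trivial s) := by
    rw [map_smul, map_smul, hspn, ← hb', hsm, hsm, smul_smul, mul_comm, hbu']
  obtain ⟨u', hu'⟩ := (IsLocalizedModule.eq_iff_exists
    (RingHom.ker (Cyc.specMap z ξ hξz)).primeCompl (spₗ F z ξ hξz)).1 h1
  have hu'' : (u' : X.presheaf.stalk z) • ((u : X.presheaf.stalk z) • c) =
      (u' : X.presheaf.stalk z) • (b₁ • F.presheaf.germ ⊤ z trivial s) := hu'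
  refine ⟨(u' : X.presheaf.stalk z) * (u : X.presheaf.stalk z), ?_, ?_⟩
  · intro hmem
    rcases hp.mem_or_mem hmem with h | h
    · exact u'.2 (hker.ge h)
    · exact u.2 (hker.ge h)
  · rw [mul_smul, hu'', smul_smul]
    exact Submodule.smul_mem _ _ (Submodule.mem_span_singleton_self _)

theorem main (hX : Pi1.IsNormalScheme X) (F : X.Modules) (hF : RefHull.IsRef1 F) (s : Γ(F, ⊤))
    (hs : s ≠ 0) (z : ↥X)
    (hz : ¬ Function.Bijective fun a : ↑(X.presheaf.stalk z) => a • F.presheaf.germ ⊤ z trivial s)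
    (hmax : ∀ y : ↥X, ¬ Function.Bijective
      (fun a : ↑(X.presheaf.stalk y) => a • F.presheaf.germ ⊤ y trivial s) → y ⤳ z → y = z) :
    ringKrullDim ↑(X.presheaf.stalk z) = 1 := by
  obtain ⟨hcoh, hrefl, U, hUd, hinv⟩ := hF
  haveI : F.IsQuasicoherent := hcoh.1
  have hηsp : ∀ x : X, genericPoint X ⤳ x := fun x => genericPoint_specializes x
  have htf := torsionFree_stalk F hcoh hrefl
  have hsp : ∀ x : X, F.presheaf.stalkSpecializes (hηsp x) (F.presheaf.germ ⊤ x trivial s) =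
      F.presheaf.germ ⊤ (genericPoint X) trivial s := fun x =>
    ConcreteCategory.congr_hom
      (TopCat.Presheaf.germ_stalkSpecializes F.presheaf (U := ⊤) (trivial : x ∈ (⊤ : X.Opens))
        (hηsp x)) s
  -- the germ at the generic point is nonzero
  have hgη : F.presheaf.germ ⊤ (genericPoint X) trivial s ≠ 0 := by
    intro h0
    apply hs
    refine TopCat.Presheaf.section_ext ⟨F.presheaf, F.isSheaf⟩ ⊤ s 0 (fun x hx => ?_)
    rw [map_zero]
    apply stalkSpecializes_injective F htf (hηsp x)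
    rw [hsp, h0]
  have hg : ∀ x : X, F.presheaf.germ ⊤ x trivial s ≠ 0 := by
    intro x h0
    apply hgη
    rw [← hsp x, h0, map_zero]
  have hinj : ∀ x : X, Function.Injective
      (fun a : ↑(X.presheaf.stalk x) => a • F.presheaf.germ ⊤ x trivial s) := by
    intro x a a' haa'
    have h1 : (a - a') • F.presheaf.germ ⊤ x trivial s = 0 := by
      rw [sub_smul]
      exact sub_eq_zero.2 haa'
    rcases htf x _ _ h1 with h | h
    · exact sub_eq_zero.1 h
    · exact absurd h (hg x)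
  -- bijectivity at the generic point
  have hbijη : Function.Bijective
      (fun a : ↑(X.presheaf.stalk (genericPoint X)) =>
        a • F.presheaf.germ ⊤ (genericPoint X) trivial s) := by
    refine ⟨hinj _, ?_⟩
    have hηU : genericPoint X ∈ U := by
      obtain ⟨w, hw⟩ := hUd.nonempty
      exact ((genericPoint_spec X).mem_open_set_iff U.isOpen).2 ⟨w, trivial, hw⟩
    obtain ⟨W, t, hηW, ht⟩ := Groth.Agent.Lib.Helper20.InvGen.exists_local_generator
      (F.restrict U.ι) hinv ⟨genericPoint X, hηU⟩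
    have hsurj := surjective_smul_germ_of_restrict F U W t ⟨genericPoint X, hηU⟩ hηW
      (ht _ hηW).2
    let t' : Γ(F, U.ι ''ᵁ W) := t
    have hmem : genericPoint X ∈ U.ι ''ᵁ W := ⟨⟨genericPoint X, hηU⟩, hηW, rfl⟩
    have hsurj' : Function.Surjective (fun c : X.presheaf.stalk (genericPoint X) =>
        c • F.presheaf.germ (U.ι ''ᵁ W) (genericPoint X) hmem t') := hsurj
    have hfield : IsField (X.presheaf.stalk (genericPoint X)) := Field.toIsField X.functionField
    intro v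
    obtain ⟨a₀, ha₀⟩ := hsurj' (F.presheaf.germ ⊤ (genericPoint X) trivial s)
    have ha₀' : a₀ • F.presheaf.germ (U.ι ''ᵁ W) (genericPoint X) hmem t' =
        F.presheaf.germ ⊤ (genericPoint X) trivial s := ha₀
    have ha₀ne : a₀ ≠ 0 := by
      intro h
      apply hgη
      rw [← ha₀', h, zero_smul]
    obtain ⟨b₀, hb₀⟩ := hfield.mul_inv_cancel ha₀ne
    obtain ⟨a, ha⟩ := hsurj' v
    have ha' : a • F.presheaf.germ (U.ι ''ᵁ W) (genericPoint X) hmem t' = v := ha
    refine ⟨a * b₀, ?_⟩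
    change (a * b₀) • F.presheaf.germ ⊤ (genericPoint X) trivial s = v
    rw [← ha₀', smul_smul, mul_assoc, mul_comm b₀ a₀, hb₀, mul_one, ha']
  have hzη : z ≠ genericPoint X := by
    intro h
    subst h
    exact hz hbijη
  haveI : IsDomain (X.presheaf.stalk z) := (hX z).1
  haveI : IsIntegrallyClosed (X.presheaf.stalk z) := (hX z).2
  -- dimension at most one
  have hle : ringKrullDim (X.presheaf.stalk z) ≤ 1 := by
    by_contra hdim
    apply hz
    refine ⟨hinj z, fun c => ?_⟩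
    have hmem := Groth.Agent.Lib.R2LeadHartA.mem_span_of_codim_two (htf z)
      (F.presheaf.germ ⊤ z trivial s) (hg z) hdim
      (fun c p hp hpm => exists_smul_mem_span F s z hmax c p hp hpm) c
    obtain ⟨a, ha⟩ := Submodule.mem_span_singleton.1 hmem
    exact ⟨a, ha⟩
  -- dimension not zero
  have hne0 : ringKrullDim (X.presheaf.stalk z) ≠ 0 := by
    intro h0
    apply hzη
    haveI : Ring.KrullDimLE 0 (X.presheaf.stalk z) := Ring.krullDimLE_iff.mpr (by rw [h0]; rfl)
    have hpmax : (RingHom.ker (Cyc.specMap z (genericPoint X) (hηsp z))).IsMaximal :=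
      Ideal.isMaximal_of_isPrime _
    have hpeq : RingHom.ker (Cyc.specMap z (genericPoint X) (hηsp z)) =
        maximalIdeal (X.presheaf.stalk z) := IsLocalRing.eq_maximalIdeal hpmax
    have h1 := fromSpecStalk_ker_specMap z (genericPoint X) (hηsp z)
    have h2 : (⟨RingHom.ker (Cyc.specMap z (genericPoint X) (hηsp z)), inferInstance⟩ :
        PrimeSpectrum (X.presheaf.stalk z)) = closedPoint (X.presheaf.stalk z) :=
      PrimeSpectrum.ext hpeq
    rw [h2, Scheme.fromSpecStalk_closedPoint] at h1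
    exact h1
  have hnn : 0 ≤ ringKrullDim (X.presheaf.stalk z) := ringKrullDim_nonneg_of_nontrivial
  obtain ⟨n, hn⟩ : ∃ n : ℕ∞, ringKrullDim (X.presheaf.stalk z) = n := by
    cases h : ringKrullDim (X.presheaf.stalk z) with
    | bot => rw [h] at hnn; exact absurd hnn (by simp)
    | coe n => exact ⟨n, rfl⟩
  rw [hn] at hle hne0 ⊢
  have h1 : n ≤ 1 := by exact_mod_cast hle
  have h2 : n ≠ 0 := by exact_mod_cast hne0
  have h3 : n = 1 := le_antisymm h1 (Order.one_le_iff_ne_zero.2 h2)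
  rw [h3]
  rfl

end Main

end Groth.Agent.Lib.R2LeadHartB
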