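import Mathlib
import Groth.Agent.Lib.R2LeadReflB
import Groth.Agent.Lib.Helper2FibreCrit2
import Groth.Agent.S6875

set_option autoImplicit false
set_option linter.style.haveILetI false
universe u

open AlgebraicGeometry CategoryTheory TopologicalSpace Opposite RefHull

namespace Groth.Agent.Lib.R2Lead.ReflC

variable {X : Scheme.{u}}

theorem finite_stalk (F : X.Modules) (hF : Coh.IsCoh F) (x : X) :
    Module.Finite (X.presheaf.stalk x) (F.presheaf.stalk x) := by
  haveI := hF.1
  haveI := hF.2
  exact Groth.Agent.Lib.Helper2.FibreCrit.finite_stalk F x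

theorem isReflexive_homSh [IsIntegral X] [IsLocallyNoetherian X] (F G : X.Modules)
    (hF : Coh.IsCoh F) (hG : Coh.IsCoh G) (hGr : RefHull.IsReflexive G) :
    RefHull.IsReflexive (RefHull.homSh F G) := by
  have hH : Coh.IsCoh (homSh F G) := Groth.Agent.Lib.R2H2.HomShC.isCoh_homSh hF hG
  have hGx : ∀ x : X, IsReflexiveAt G x :=
    ((Groth.Agent.Lib.R2Lead.ReflB.tfae G hG).out 0 1).1 hGr
  refine ((Groth.Agent.Lib.R2Lead.ReflB.tfae (homSh F G) hH).out 0 1).2 ?_
  intro x
  haveI : Module.Finite (X.presheaf.stalk x) (F.presheaf.stalk x) := finite_stalk F hF x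
  haveI : Module.Finite (X.presheaf.stalk x) (G.presheaf.stalk x) := finite_stalk G hG x
  haveI : Module.IsReflexive (X.presheaf.stalk x) (G.presheaf.stalk x) := hGx x
  haveI : Module.IsReflexive (X.presheaf.stalk x)
      (F.presheaf.stalk x →ₗ[X.presheaf.stalk x] G.presheaf.stalk x) :=
    Groth.Agent.S6875.result (X.presheaf.stalk x) (F.presheaf.stalk x) (G.presheaf.stalk x)
  have he := Groth.Agent.Lib.Helper8RefHullFP.evalStalk_bijective_of_isFP F G
    (Groth.Agent.Lib.R2Lead.ReflB.isFP_of_isCoh F hF) x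
  exact Module.equiv (LinearEquiv.ofBijective (evalStalk F G x) he).symm

end Groth.Agent.Lib.R2Lead.ReflC
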