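import Mathlib

set_option autoImplicit false
universe u

namespace Groth.Agent.Lib.R2LeadRk1A

section Algebra

variable {R M : Type*} [CommRing R] [IsDomain R] [UniqueFactorizationMonoid R]
  [AddCommGroup M] [Module R M] [Module.Finite R M] [Module.IsReflexive R M]

omit [UniqueFactorizationMonoid R] [Module.Finite R M] in
theorem torsionFree_of_isReflexive (a : R) (v : M) (h : a • v = 0) : a = 0 ∨ v = 0 := by
  by_cases ha : a = 0
  · exact Or.inl ha
  · right
    apply (Module.bijective_dual_eval R M).1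
    rw [map_zero]
    ext φ
    have h1 : a * φ v = 0 := by
      rw [← smul_eq_mul, ← map_smul, h, map_zero]
    rcases mul_eq_zero.1 h1 with h2 | h2
    · exact absurd h2 ha
    · exact h2

/-- a finitely generated reflexive module of rank one over a UFD is cyclic. -/
theorem exists_generator_of_ufd (m₁ : M) (hrk : ∀ m : M, ∃ a b : R, b ≠ 0 ∧ b • m = a • m₁) :
    ∃ n₀ : M, ∀ m : M, ∃ a : R, m = a • n₀ := by
  classical
  have htf : ∀ (a : R) (v : M), a • v = 0 → a = 0 ∨ v = 0 := torsionFree_of_isReflexive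
  by_cases hm₁ : m₁ = 0
  · refine ⟨0, fun m => ⟨0, ?_⟩⟩
    obtain ⟨a, b, hb, hab⟩ := hrk m
    rw [hm₁, smul_zero] at hab
    rcases htf _ _ hab with h | h
    · exact absurd h hb
    · rw [h, smul_zero]
  -- generators
  obtain ⟨n, e, he⟩ := Module.Finite.exists_fin (R := R) (M := M)
  choose a b hb hab using fun i => hrk (e i)
  set B : R := ∏ i, b i with hB
  have hB0 : B ≠ 0 := Finset.prod_ne_zero_iff.2 (fun i _ => hb i)
  have hinj₁ : ∀ c c' : R, c • m₁ = c' • m₁ → c = c' := by
    intro c c' h
    have h1 : (c - c') • m₁ = 0 := by rw [sub_smul, h, sub_self]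
    rcases htf _ _ h1 with h2 | h2
    · exact sub_eq_zero.1 h2
    · exact absurd h2 hm₁
  have hex : ∀ m : M, ∃ c : R, B • m = c • m₁ := by
    intro m
    have hm : m ∈ Submodule.span R (Set.range e) := by rw [he]; exact Submodule.mem_top
    induction hm using Submodule.span_induction with
    | mem x hx =>
      obtain ⟨i, rfl⟩ := hx
      refine ⟨(∏ j ∈ Finset.univ.erase i, b j) * a i, ?_⟩
      rw [mul_smul, ← hab i, ← mul_smul, hB, ← Finset.prod_erase_mul _ _ (Finset.mem_univ i)]
    | zero => exact ⟨0, by rw [smul_zero, zero_smul]⟩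
    | add x y _ _ hx hy =>
      obtain ⟨c, hc⟩ := hx
      obtain ⟨c', hc'⟩ := hy
      exact ⟨c + c', by rw [smul_add, hc, hc', add_smul]⟩
    | smul r x _ hx =>
      obtain ⟨c, hc⟩ := hx
      exact ⟨r * c, by rw [smul_comm, hc, mul_smul]⟩
  choose φf hφf using hex
  let φ : M →ₗ[R] R :=
    { toFun := φf
      map_add' := fun x y => by
        apply hinj₁
        rw [← hφf, smul_add, hφf, hφf, add_smul]
      map_smul' := fun r x => by
        apply hinj₁
        rw [← hφf, smul_comm, hφf, RingHom.id_apply, smul_eq_mul, mul_smul] }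
  have hφ : ∀ m, B • m = φ m • m₁ := hφf
  have hφinj : ∀ m, φ m = 0 → m = 0 := by
    intro m hm
    have h1 := hφ m
    rw [hm, zero_smul] at h1
    rcases htf _ _ h1 with h | h
    · exact absurd h hB0
    · exact h
  -- gcd
  letI : StrongNormalizationMonoid R := UniqueFactorizationMonoid.strongNormalizationMonoid
  letI : NormalizedGCDMonoid R := UniqueFactorizationMonoid.toNormalizedGCDMonoid R
  have hne : ∃ i, e i ≠ 0 := by
    by_contra hcon
    push Not at hcon
    apply hm₁
    have : m₁ ∈ Submodule.span R (Set.range e) := by rw [he]; exact Submodule.mem_top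
    have hbot : Submodule.span R (Set.range e) = ⊥ := by
      rw [Submodule.span_eq_bot]
      rintro _ ⟨i, rfl⟩
      exact hcon i
    rw [hbot] at this
    exact (Submodule.mem_bot R).1 this
  obtain ⟨i₀, hi₀⟩ := hne
  obtain ⟨y, hy, hgcd⟩ := Finset.extract_gcd (fun i => φ (e i)) ⟨i₀, Finset.mem_univ _⟩
  set g := Finset.univ.gcd (fun i => φ (e i)) with hg
  have hy' : ∀ i, φ (e i) = g * y i := fun i => hy i (Finset.mem_univ _)
  have hg0 : g ≠ 0 := by
    intro h0
    apply hi₀
    apply hφinj
    rw [hy', h0, zero_mul]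
  have hy0 : y i₀ ≠ 0 := by
    intro h0
    apply hi₀
    apply hφinj
    rw [hy', h0, mul_zero]
  have hdvd : ∀ m : M, ∃ c : R, φ m = g * c := by
    intro m
    have hm : m ∈ Submodule.span R (Set.range e) := by rw [he]; exact Submodule.mem_top
    induction hm using Submodule.span_induction with
    | mem x hx =>
      obtain ⟨i, rfl⟩ := hx
      exact ⟨y i, hy' i⟩
    | zero => exact ⟨0, by rw [map_zero, mul_zero]⟩
    | add x x' _ _ hx hx' =>
      obtain ⟨c, hc⟩ := hx
      obtain ⟨c', hc'⟩ := hx'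
      exact ⟨c + c', by rw [map_add, hc, hc', mul_add]⟩
    | smul r x _ hx =>
      obtain ⟨c, hc⟩ := hx
      exact ⟨r * c, by rw [map_smul, hc, smul_eq_mul]; ring⟩
  choose ιf hιf using hdvd
  let ι' : M →ₗ[R] R :=
    { toFun := ιf
      map_add' := fun x x' => by
        apply mul_left_cancel₀ hg0
        rw [← hιf, map_add, hιf, hιf, mul_add]
      map_smul' := fun r x => by
        apply mul_left_cancel₀ hg0
        rw [← hιf, map_smul, hιf, RingHom.id_apply, smul_eq_mul, smul_eq_mul]
        ring }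
  have hι : ∀ m, φ m = g * ι' m := hιf
  have hιinj : ∀ m, ι' m = 0 → m = 0 := by
    intro m hm
    apply hφinj
    rw [hι, hm, mul_zero]
  have hιe : ∀ i, ι' (e i) = y i := by
    intro i
    apply mul_left_cancel₀ hg0
    rw [← hι, hy']
  have hcross : ∀ m m' : M, ι' m' • m = ι' m • m' := by
    intro m m'
    have h1 : ι' (ι' m' • m - ι' m • m') = 0 := by
      rw [map_sub, map_smul, map_smul, smul_eq_mul, smul_eq_mul, mul_comm, sub_self]
    exact sub_eq_zero.1 (hιinj _ h1)
  -- the dual is generated by ι'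
  have hdual : ∀ f : Module.Dual R M, ∃ q : R, ∀ m, f m = q * ι' m := by
    intro f
    have hrel : ∀ m m' : M, ι' m' * f m = ι' m * f m' := by
      intro m m'
      rw [← smul_eq_mul, ← map_smul, hcross, map_smul, smul_eq_mul]
    have h1 : y i₀ ∣ Finset.univ.gcd (fun j => f (e i₀) * y j) := by
      apply Finset.dvd_gcd
      intro j _
      refine ⟨f (e j), ?_⟩
      rw [← hιe, ← hιe, mul_comm, hrel, mul_comm]
    have h2 := Finset.gcd_mul_left' Finset.univ y (f (e i₀))
    have h3 : y i₀ ∣ f (e i₀) * Finset.univ.gcd y := h1.trans h2.dvd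
    rw [hgcd, mul_one] at h3
    obtain ⟨q, hq⟩ := h3
    refine ⟨q, fun m => ?_⟩
    apply mul_left_cancel₀ hy0
    rw [← hιe, hrel, hq, hιe]
    ring
  choose qf hqf using hdual
  have hqinj : ∀ c c' : R, c * y i₀ = c' * y i₀ → c = c' := fun c c' h =>
    mul_right_cancel₀ hy0 h
  have hqe : ∀ f : Module.Dual R M, qf f * y i₀ = f (e i₀) := fun f => by
    rw [← hιe]
    exact (hqf f (e i₀)).symm
  let ψ₀ : Module.Dual R (Module.Dual R M) :=
    { toFun := qf
      map_add' := fun f f' => by
        apply hqinj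
        rw [hqe, add_mul, hqe, hqe]
        rfl
      map_smul' := fun r f => by
        apply hqinj
        rw [hqe, RingHom.id_apply, smul_eq_mul, mul_assoc, hqe]
        rfl }
  obtain ⟨n₀, hn₀⟩ := (Module.bijective_dual_eval R M).2 ψ₀
  have hn₀' : ∀ f : Module.Dual R M, f n₀ = qf f := by
    intro f
    have := congrArg (fun ψ : Module.Dual R (Module.Dual R M) => ψ f) hn₀
    exact this
  have hone : ι' n₀ = 1 := by
    rw [hn₀']
    apply hqinj
    rw [hqe, one_mul, hιe]
  refine ⟨n₀, fun m => ⟨ι' m, ?_⟩⟩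
  have h1 : ι' (m - ι' m • n₀) = 0 := by
    rw [map_sub, map_smul, hone, smul_eq_mul, mul_one, sub_self]
  exact sub_eq_zero.1 (hιinj _ h1)

end Algebra

end Groth.Agent.Lib.R2LeadRk1A
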