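import Mathlib
import Groth.Prelude.Def_RefHull
import Groth.Agent.S2821
import Groth.Agent.Lib.R2LeadHartB
import Groth.Agent.Lib.R2LeadReflC
import Groth.Agent.Lib.Helper23Restr
import Groth.Agent.Lib.R2H2FibreFree
import Groth.Agent.Lib.R2LeadRk1A

set_option autoImplicit false
set_option linter.style.haveILetI false
universe u

open AlgebraicGeometry CategoryTheory TopologicalSpace Opposite RefHull IsLocalRing

namespace Groth.Agent.Lib.R2LeadRk1B

variable {X : Scheme.{u}}

section Gen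

open Groth.Agent.Lib.Helper23.SecTw

/-- a generically invertible module on an integral scheme has a free generator of the generic
stalk. -/
theorem exists_gen_stalk_genericPoint [IsIntegral X] (F : X.Modules) (hrk : GenInvertible F) :
    ∃ g : F.presheaf.stalk (genericPoint X), Function.Bijective
      (fun c : X.presheaf.stalk (genericPoint X) => c • g) := by
  obtain ⟨U, hUd, hinv⟩ := hrk
  have hηU : genericPoint X ∈ U := by
    obtain ⟨w, hw⟩ := hUd.nonempty
    exact ((genericPoint_spec X).mem_open_set_iff U.isOpen).2 ⟨w, trivial, hw⟩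
  obtain ⟨V, e, hηV, he⟩ := exists_gen (F.restrict U.ι) hinv ⟨genericPoint X, hηU⟩
  have he' := isGen_of_isGen_restrict F U V e he
  obtain ⟨ψ⟩ := nonempty_restrict_iso_of_isGen F (U.ι ''ᵁ V) e he'
  have hmem : genericPoint X ∈ U.ι ''ᵁ V := ⟨⟨genericPoint X, hηU⟩, hηV, rfl⟩
  have hmem' : genericPoint X ∈ (U.ι ''ᵁ V).ι ''ᵁ ⊤ := by
    rw [Scheme.Hom.image_top_eq_opensRange, Scheme.Opens.opensRange_ι]
    exact hmem
  exact ⟨_, Groth.Agent.Lib.Helper20.InvGen.bijective_smul_germ F (U.ι ''ᵁ V) ψ.inv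
    (genericPoint X) hmem'⟩

end Gen

section Main

open Groth.Agent.Lib.R2H1.SheafGysin Groth.Agent.Lib.R2H1.LocQuot Groth.Agent.Lib.R2LeadHartB

variable [IsIntegral X] [IsLocallyNoetherian X]

/-- the rank one property of the stalks -/
theorem exists_rank_one (F : X.Modules) (hF : Coh.IsCoh F) (hrefl : RefHull.IsReflexive F)
    (hrk : RefHull.GenInvertible F) (x : X) :
    ∃ m₁ : F.presheaf.stalk x, m₁ ≠ 0 ∧ ∀ m : F.presheaf.stalk x,
      ∃ a b : X.presheaf.stalk x, b ≠ 0 ∧ b • m = a • m₁ := by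
  haveI : F.IsQuasicoherent := hF.1
  have htf := torsionFree_stalk F hF hrefl
  obtain ⟨g, hg⟩ := exists_gen_stalk_genericPoint F hrk
  have hg0 : g ≠ 0 := by
    intro h0
    have h1 : (1 : X.presheaf.stalk (genericPoint X)) • g = (0 : X.presheaf.stalk (genericPoint X)) • g := by
      rw [h0, smul_zero, smul_zero]
    exact one_ne_zero (hg.1 h1)
  have hηx : genericPoint X ⤳ x := genericPoint_specializes x
  letI := moduleStalkGen F x (genericPoint X) hηx
  haveI hloc := isLocalizedModule_stalkSpecializes F x (genericPoint X) hηx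
  letI := (X.presheaf.stalkSpecializes hηx).hom.toAlgebra
  haveI hlocR := isLocalization_stalkSpecializes x (genericPoint X) hηx
  have hsm : ∀ (a : X.presheaf.stalk x) (w : F.presheaf.stalk (genericPoint X)),
      a • w = (X.presheaf.stalkSpecializes hηx).hom a • w := fun _ _ => rfl
  have hspinj : ∀ v w : F.presheaf.stalk x,
      spₗ F x (genericPoint X) hηx v = spₗ F x (genericPoint X) hηx w → v = w := by
    intro v w hvw
    have h1 : F.presheaf.stalkSpecializes hηx (v - w) = 0 := by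
      have : spₗ F x (genericPoint X) hηx (v - w) = 0 := by rw [map_sub, hvw, sub_self]
      exact this
    exact sub_eq_zero.1 (stalkSpecializes_injective F htf hηx _ h1)
  obtain ⟨⟨m₁, t⟩, hm₁⟩ := IsLocalizedModule.surj
    (RingHom.ker (Cyc.specMap x (genericPoint X) hηx)).primeCompl
    (spₗ F x (genericPoint X) hηx) g
  have hm₁' : (X.presheaf.stalkSpecializes hηx).hom (t : X.presheaf.stalk x) • g =
      spₗ F x (genericPoint X) hηx m₁ := hm₁
  have htu : IsUnit ((X.presheaf.stalkSpecializes hηx).hom (t : X.presheaf.stalk x)) :=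
    (mem_primeCompl_ker_specMap_iff x (genericPoint X) hηx _).1 t.2
  have hm₁0 : m₁ ≠ 0 := by
    intro h0
    rw [h0, map_zero] at hm₁'
    apply hg0
    obtain ⟨v, hv⟩ := htu
    rw [← hv] at hm₁'
    have : (↑v⁻¹ : X.presheaf.stalk (genericPoint X)) • ((v : X.presheaf.stalk (genericPoint X)) • g) = g := by
      rw [smul_smul, Units.inv_mul, one_smul]
    rw [← this, hm₁', smul_zero]
  refine ⟨m₁, hm₁0, fun m => ?_⟩
  obtain ⟨α, hα⟩ := hg.2 (spₗ F x (genericPoint X) hηx m)
  have hα' : α • g = spₗ F x (genericPoint X) hηx m := hα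
  obtain ⟨v, hv⟩ := htu
  -- β with sp m = β • sp m₁
  set β : X.presheaf.stalk (genericPoint X) := α * ↑v⁻¹ with hβ
  have hβ' : β • spₗ F x (genericPoint X) hηx m₁ = spₗ F x (genericPoint X) hηx m := by
    rw [← hm₁', ← hv, smul_smul, hβ, mul_assoc, Units.inv_mul, mul_one, hα']
  obtain ⟨⟨a, u⟩, hau⟩ := IsLocalization.surj
    (RingHom.ker (Cyc.specMap x (genericPoint X) hηx)).primeCompl β
  have hau' : β * (X.presheaf.stalkSpecializes hηx).hom (u : X.presheaf.stalk x) =
      (X.presheaf.stalkSpecializes hηx).hom a := hau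
  refine ⟨a, (u : X.presheaf.stalk x), ?_, ?_⟩
  · intro h0
    apply u.2
    rw [h0]
    exact Submodule.zero_mem _
  · apply hspinj
    rw [map_smul, map_smul, ← hβ', hsm, hsm, smul_smul, mul_comm, hau']

theorem main (hreg : ∀ x : X, IsRegularLocalRing (X.presheaf.stalk x)) (F : X.Modules)
    (hF : Coh.IsCoh F) (hrefl : RefHull.IsReflexive F) (hrk : RefHull.GenInvertible F) :
    PicF.IsInvertible F := by
  intro x
  haveI := hreg x
  haveI : UniqueFactorizationMonoid (X.presheaf.stalk x) :=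
    (Groth.Agent.S2821.result (X.presheaf.stalk x)).2
  haveI : Module.Finite (X.presheaf.stalk x) (F.presheaf.stalk x) :=
    Groth.Agent.Lib.R2Lead.ReflC.finite_stalk F hF x
  have h01 : RefHull.IsReflexive F ↔ ∀ x : ↥X, RefHull.IsReflexiveAt F x :=
    (Groth.Agent.Lib.R2Lead.ReflB.tfae F hF).out 0 1
  haveI : Module.IsReflexive (X.presheaf.stalk x) (F.presheaf.stalk x) := h01.1 hrefl x
  have htf := torsionFree_stalk F hF hrefl x
  obtain ⟨m₁, hm₁0, hm₁⟩ := exists_rank_one F hF hrefl hrk x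
  obtain ⟨n₀, hn₀⟩ := Groth.Agent.Lib.R2LeadRk1A.exists_generator_of_ufd m₁ hm₁
  have hn₀0 : n₀ ≠ 0 := by
    intro h0
    obtain ⟨a, ha⟩ := hn₀ m₁
    rw [h0, smul_zero] at ha
    exact hm₁0 ha
  have hbij : Function.Bijective
      (LinearMap.toSpanSingleton (X.presheaf.stalk x) (F.presheaf.stalk x) n₀) := by
    constructor
    · intro a a' haa'
      have h1 : (a - a') • n₀ = 0 := by
        rw [sub_smul]
        exact sub_eq_zero.2 haa'
      rcases htf _ _ h1 with h | h
      · exact sub_eq_zero.1 h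
      · exact absurd h hn₀0
    · intro m
      obtain ⟨a, ha⟩ := hn₀ m
      exact ⟨a, ha.symm⟩
  let e : X.presheaf.stalk x ≃ₗ[X.presheaf.stalk x] F.presheaf.stalk x :=
    LinearEquiv.ofBijective _ hbij
  let b : Module.Basis (Fin 1) (X.presheaf.stalk x) (F.presheaf.stalk x) :=
    Module.Basis.ofEquivFun (e.symm ≪≫ₗ
      (LinearEquiv.funUnique (Fin 1) (X.presheaf.stalk x) (X.presheaf.stalk x)).symm)
  obtain ⟨U, hxU, ⟨ψ⟩⟩ :=
    Groth.Agent.Lib.R2H2.FibreFree.exists_restrict_iso_freeMod_of_stalk_basis F hF x 1 b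
  exact ⟨U, hxU, ⟨ψ ≪≫ Limits.coproductUniqueIso (fun _ : Fin 1 => Coh.structureModule (↑U))⟩⟩

end Main

end Groth.Agent.Lib.R2LeadRk1B
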