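import Mathlib
import Groth.Agent.Lib.R2H2SubFam

set_option autoImplicit false
set_option linter.style.haveILetI false
universe u
open CategoryTheory CategoryTheory.Limits AlgebraicGeometry TopologicalSpace Opposite

noncomputable section

namespace Groth.Agent.Lib.R2H2.SubFam

open Groth.Agent.Lib.Helper2.Push Groth.Agent.Lib.Helper23.QCohLocal
  Groth.Agent.Lib.Helper23.Extend

variable {X : Scheme.{u}} {H : X.Modules}

namespace Fam

/-- the associated submodule of the underlying presheaf of modules. -/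
def toSub (N : Fam H) : PresheafOfModules.Submodule H.val where
  obj T := N.obj T.unop
  map f := fun _ ht => N.res_mem (leOfHom f.unop) ht

theorem toSub_isSheaf (N : Fam H) :
    Presheaf.IsSheaf (Opens.grothendieckTopology X) N.toSub.toPresheafOfModules.presheaf := by
  change TopCat.Presheaf.IsSheaf _
  rw [TopCat.Presheaf.isSheaf_iff_isSheafUniqueGluing]
  intro ι U sf hsf
  have hcomp : TopCat.Presheaf.IsCompatible H.presheaf U
      (fun i => ((sf i : N.obj (U i)).1 : Γ(H, U i))) := by
    intro i k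
    have := congrArg Subtype.val (hsf i k)
    exact this
  obtain ⟨s, hs, hs'⟩ := TopCat.Sheaf.existsUnique_gluing ⟨H.presheaf, H.isSheaf⟩ U _ hcomp
  have hsmem : s ∈ N.obj (iSup U) := by
    refine N.loc s (fun x hx => ?_)
    obtain ⟨i, hi⟩ := Opens.mem_iSup.mp hx
    refine ⟨U i, le_iSup U i, hi, ?_⟩
    have h1 : rs H (le_iSup U i) s = (sf i : N.obj (U i)).1 := hs i
    rw [h1]
    exact (sf i : N.obj (U i)).2
  refine ⟨⟨s, hsmem⟩, ?_, ?_⟩
  · intro i
    apply Subtype.ext
    exact hs i
  · intro t ht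
    apply Subtype.ext
    refine hs' _ ?_
    intro i
    exact congrArg Subtype.val (ht i)

/-- the `O_X`-module associated to a family. -/
def toMod (N : Fam H) : X.Modules where
  val := N.toSub.toPresheafOfModules
  isSheaf := N.toSub_isSheaf

/-- the inclusion into `H`. -/
def ι (N : Fam H) : N.toMod ⟶ H := ⟨N.toSub.ι⟩

instance (N : Fam H) : Mono N.ι := by
  have : Mono ((SheafOfModules.forget _).map N.ι) := inferInstanceAs (Mono N.toSub.ι)
  exact (SheafOfModules.forget _).mono_of_mono_map this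

/-- sections of the associated module. -/
def sec (N : Fam H) {T : X.Opens} (t : Γ(H, T)) (ht : t ∈ N.obj T) : Γ(N.toMod, T) :=
  (⟨t, ht⟩ : N.obj T)

theorem ι_app_sec (N : Fam H) {T : X.Opens} (t : Γ(H, T)) (ht : t ∈ N.obj T) :
    N.ι.app T (N.sec t ht) = t := rfl

theorem ι_app_mem (N : Fam H) {T : X.Opens} (s : Γ(N.toMod, T)) : N.ι.app T s ∈ N.obj T :=
  (s : N.obj T).2

theorem sec_ι_app (N : Fam H) {T : X.Opens} (s : Γ(N.toMod, T)) :
    N.sec (N.ι.app T s) (N.ι_app_mem s) = s := rfl

theorem ι_app_injective (N : Fam H) (T : X.Opens) : Function.Injective (N.ι.app T) :=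
  fun _ _ h => Subtype.ext h

theorem ι_app_rs (N : Fam H) {T' T : X.Opens} (h : T' ≤ T) (s : Γ(N.toMod, T)) :
    N.ι.app T' (N.toMod.presheaf.map (homOfLE h).op s) = rs H h (N.ι.app T s) :=
  app_map N.ι (homOfLE h) s

theorem isLocOn_toMod [H.IsQuasicoherent] (N : Fam H) {T : X.Opens} (hT : IsAffineOpen T)
    (hg : GoodAff N T) : IsLocOn N.toMod T := by
  constructor
  · intro f s
    obtain ⟨n, t, ht, he⟩ := hg.1 f (N.ι.app _ s) (N.ι_app_mem s)
    refine ⟨n, N.sec t ht, ?_⟩
    apply N.ι_app_injective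
    rw [ι_app_rs, Scheme.Modules.Hom.app_smul]
    exact he
  · intro f t ht
    have h1 : rs H (X.basicOpen_le f) (N.ι.app T t) = 0 := by
      rw [← ι_app_rs, ht, map_zero]
    obtain ⟨n, hn⟩ := (IsLocOn.of_isQuasicoherent hT H).exists_pow_smul_eq_zero f _ h1
    refine ⟨n, ?_⟩
    apply N.ι_app_injective
    rw [Scheme.Modules.Hom.app_smul, hn, map_zero]

theorem finite_toMod (N : Fam H) {T : X.Opens} (hg : GoodAff N T) :
    Module.Finite Γ(X, T) Γ(N.toMod, T) := by
  have : Module.Finite Γ(X, T) (N.obj T) := Module.Finite.iff_fg.mpr hg.2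
  exact this

/-- a family which is quasi-coherent of finite type everywhere gives a quasi-coherent module of
finite type. -/
theorem isQuasicoherent_toMod [H.IsQuasicoherent] (N : Fam H) (h : QF N ⊤) :
    N.toMod.IsQuasicoherent ∧ SheafOfModules.IsFiniteType (R := X.ringCatSheaf) N.toMod := by
  have h' : ∀ x : X, ∃ T : X.Opens, IsAffineOpen T ∧ x ∈ T ∧ GoodAff N T := by
    intro x
    obtain ⟨T, hT, -, hxT, hg⟩ := h x trivial
    exact ⟨T, hT, hxT, hg T le_rfl hT⟩
  choose T hT hxT hg using h'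
  have hcov : IsOpenCover T := by
    rw [IsOpenCover, eq_top_iff]
    intro x _
    exact Opens.mem_iSup.mpr ⟨x, hxT x⟩
  have hq : N.toMod.IsQuasicoherent :=
    isQuasicoherent_of_affine_cover N.toMod T hcov hT
      (fun x => isQuasicoherent_restrict_fromSpec_of_isLocOn (hT x) N.toMod
        (N.isLocOn_toMod (hT x) (hg x)))
  haveI := hq
  exact ⟨hq, Groth.Agent.Lib.Helper23.FinType.isFiniteType_of_finite N.toMod T hcov hT
    (fun x => N.finite_toMod (hg x))⟩

/-- if `N = ⊤` on `U` then the inclusion is an isomorphism on `U`. -/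
theorem isoOn_ι (N : Fam H) {U : X.Opens} (h : EqOn N ⊤ U) : IsoOn N.ι U := by
  intro T hT
  rw [ConcreteCategory.isIso_iff_bijective]
  refine ⟨N.ι_app_injective T, fun t => ⟨N.sec t (by rw [h T hT]; trivial), rfl⟩⟩

end Fam

end Groth.Agent.Lib.R2H2.SubFam
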