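import Mathlib
import Groth.Agent.Lib.R2H2SubFam

set_option autoImplicit false
set_option linter.style.haveILetI false
universe u
open CategoryTheory CategoryTheory.Limits AlgebraicGeometry TopologicalSpace Opposite

noncomputable section

namespace Groth.Agent.Lib.R2H2.SubFam

open Groth.Agent.Lib.Helper2.Push Groth.Agent.Lib.Helper23.QCohLocal
  Groth.Agent.Lib.Helper23.Extend

variable {X : Scheme.{u}} {H : X.Modules}

theorem rO_self {T : X.Opens} (h : T ≤ T) (r : Γ(X, T)) : rO h r = r := by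
  have : (homOfLE h).op = 𝟙 (op T) := rfl
  change (X.presheaf.map (homOfLE h).op).hom r = r
  rw [this, X.presheaf.map_id]; rfl

theorem rs_sub {T' T : X.Opens} (h : T' ≤ T) (t t' : Γ(H, T)) :
    rs H h (t - t') = rs H h t - rs H h t' := map_sub (H.presheaf.map (homOfLE h).op).hom t t'

/-- the submodule of `H(T')` spanned by the restrictions of the elements of `M ⊆ H(T)`. -/
def spanRes {T : X.Opens} (M : Submodule Γ(X, T) Γ(H, T)) {T' : X.Opens} (h : T' ≤ T) :
    Submodule Γ(X, T') Γ(H, T') :=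
  Submodule.span Γ(X, T') (rs H h '' (M : Set Γ(H, T)))

theorem rs_mem_spanRes {T : X.Opens} (M : Submodule Γ(X, T) Γ(H, T)) {T' : X.Opens} (h : T' ≤ T)
    {m : Γ(H, T)} (hm : m ∈ M) : rs H h m ∈ spanRes M h :=
  Submodule.subset_span ⟨m, hm, rfl⟩

theorem rs_spanRes {T : X.Opens} (M : Submodule Γ(X, T) Γ(H, T)) {T' T'' : X.Opens} (h : T' ≤ T)
    (h' : T'' ≤ T') {t : Γ(H, T')} (ht : t ∈ spanRes M h) : rs H h' t ∈ spanRes M (h'.trans h) := by
  induction ht using Submodule.span_induction with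
  | mem x hx =>
    obtain ⟨m, hm, rfl⟩ := hx
    rw [rs_rs]; exact rs_mem_spanRes M _ hm
  | zero => rw [rs_zero]; exact Submodule.zero_mem _
  | add x y _ _ hx hy => rw [rs_add]; exact Submodule.add_mem _ hx hy
  | smul r x _ hx => rw [rs_smul]; exact Submodule.smul_mem _ _ hx

theorem spanRes_self {T : X.Opens} (M : Submodule Γ(X, T) Γ(H, T)) (h : T ≤ T) :
    spanRes M h = M := by
  apply le_antisymm
  · rw [spanRes, Submodule.span_le]
    rintro _ ⟨m, hm, rfl⟩
    rw [rs_self]; exact hm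
  · intro m hm
    have := rs_mem_spanRes M h hm
    rwa [rs_self] at this

theorem spanRes_spanRes {T : X.Opens} (M : Submodule Γ(X, T) Γ(H, T)) {T' T'' : X.Opens}
    (h : T' ≤ T) (h' : T'' ≤ T') : spanRes (spanRes M h) h' = spanRes M (h'.trans h) := by
  apply le_antisymm
  · rw [spanRes, Submodule.span_le]
    rintro _ ⟨t, ht, rfl⟩
    exact rs_spanRes M h h' ht
  · rw [spanRes, Submodule.span_le]
    rintro _ ⟨m, hm, rfl⟩
    rw [← rs_rs h' h]
    exact rs_mem_spanRes _ h' (rs_mem_spanRes M h hm)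

theorem spanRes_mono {T : X.Opens} {M M' : Submodule Γ(X, T) Γ(H, T)} (hM : M ≤ M')
    {T' : X.Opens} (h : T' ≤ T) : spanRes M h ≤ spanRes M' h :=
  Submodule.span_mono (Set.image_mono hM)

theorem spanRes_fg {T : X.Opens} {M : Submodule Γ(X, T) Γ(H, T)} (hM : M.FG)
    {T' : X.Opens} (h : T' ≤ T) : (spanRes M h).FG := by
  classical
  obtain ⟨S, hS⟩ := hM
  refine ⟨S.image (rs H h), le_antisymm ?_ ?_⟩
  · rw [Submodule.span_le]
    intro x hx
    obtain ⟨m, hm, rfl⟩ := Finset.mem_image.mp (Finset.mem_coe.mp hx)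
    exact rs_mem_spanRes M h (by rw [← hS]; exact Submodule.subset_span hm)
  · rw [spanRes, Submodule.span_le]
    rintro _ ⟨m, hm, rfl⟩
    rw [← hS] at hm
    induction hm using Submodule.span_induction with
    | mem x hx =>
      exact Submodule.subset_span (Finset.mem_coe.mpr (Finset.mem_image_of_mem _ hx))
    | zero => rw [rs_zero]; exact Submodule.zero_mem _
    | add x y _ _ hx hy => rw [rs_add]; exact Submodule.add_mem _ hx hy
    | smul r x _ hx => rw [rs_smul]; exact Submodule.smul_mem _ _ hx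

section affine

variable [H.IsQuasicoherent] {T : X.Opens} (hT : IsAffineOpen T)

/-- the restriction of `f` to `D(f)` -/
abbrev fr (f : Γ(X, T)) : Γ(X, X.basicOpen f) := rO (X.basicOpen_le f) f

theorem isUnit_fr (f : Γ(X, T)) : IsUnit (fr f) := RingedSpace.isUnit_res_basicOpen _ f

omit [H.IsQuasicoherent] in
include hT in
/-- clearing denominators in the span of restrictions. -/
theorem exists_of_mem_spanRes (M : Submodule Γ(X, T) Γ(H, T)) (f : Γ(X, T))
    {σ : Γ(H, X.basicOpen f)} (hσ : σ ∈ spanRes M (X.basicOpen_le f)) :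
    ∃ (n : ℕ) (m : Γ(H, T)), m ∈ M ∧ rs H (X.basicOpen_le f) m = (fr f) ^ n • σ := by
  induction hσ using Submodule.span_induction with
  | mem x hx =>
    obtain ⟨m, hm, rfl⟩ := hx
    exact ⟨0, m, hm, by simp⟩
  | zero => exact ⟨0, 0, Submodule.zero_mem _, by simp⟩
  | add x y _ _ hx hy =>
    obtain ⟨n, m, hm, he⟩ := hx
    obtain ⟨n', m', hm', he'⟩ := hy
    refine ⟨n + n', f ^ n' • m + f ^ n • m',
      Submodule.add_mem _ (Submodule.smul_mem _ _ hm) (Submodule.smul_mem _ _ hm'), ?_⟩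
    rw [rs_add, rs_smul, rs_smul, he, he', map_pow, map_pow, smul_add, smul_smul, smul_smul,
      ← pow_add, ← pow_add, add_comm n' n]
  | smul r x _ hx =>
    obtain ⟨n, m, hm, he⟩ := hx
    haveI := hT.isLocalization_basicOpen f
    obtain ⟨⟨a, c⟩, hc⟩ := IsLocalization.surj (Submonoid.powers f) r
    obtain ⟨k, hk⟩ := c.2
    have h1 : r * (fr f) ^ k = rO (X.basicOpen_le f) a := by
      have h2 : (algebraMap Γ(X, T) Γ(X, X.basicOpen f)) (c : Γ(X, T)) =
          rO (X.basicOpen_le f) (c : Γ(X, T)) := rfl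
      rw [h2, ← hk, map_pow] at hc
      exact hc
    refine ⟨n + k, a • m, Submodule.smul_mem _ _ hm, ?_⟩
    rw [rs_smul, he, ← h1, smul_smul, smul_smul]
    congr 1
    ring

include hT in
theorem exists_pow_smul_mem (M : Submodule Γ(X, T) Γ(H, T)) (f : Γ(X, T)) {t : Γ(H, T)}
    (ht : rs H (X.basicOpen_le f) t ∈ spanRes M (X.basicOpen_le f)) : ∃ n : ℕ, f ^ n • t ∈ M := by
  obtain ⟨n, m, hm, he⟩ := exists_of_mem_spanRes hT M f ht
  have h0 : rs H (X.basicOpen_le f) (m - f ^ n • t) = 0 := by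
    rw [rs_sub, rs_smul, he, map_pow, sub_self]
  obtain ⟨k, hk⟩ := (IsLocOn.of_isQuasicoherent hT H).exists_pow_smul_eq_zero f _ h0
  refine ⟨k + n, ?_⟩
  rw [smul_sub, sub_eq_zero] at hk
  rw [pow_add, mul_smul, ← hk]
  exact Submodule.smul_mem _ _ hm

include hT in
/-- local membership in the span of restrictions implies membership. -/
theorem mem_of_locally_mem_spanRes (M : Submodule Γ(X, T) Γ(H, T)) {t : Γ(H, T)}
    (ht : ∀ x ∈ T, ∃ (T' : X.Opens) (h : T' ≤ T), x ∈ T' ∧ rs H h t ∈ spanRes M h) : t ∈ M := by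
  have h1 : ∀ x : T, ∃ f : Γ(X, T), (x : X) ∈ X.basicOpen f ∧ ∃ n : ℕ, f ^ n • t ∈ M := by
    intro x
    obtain ⟨T', h, hxT', hmem⟩ := ht x x.2
    obtain ⟨f, hfT', hxf⟩ := hT.exists_basicOpen_le ⟨x, hxT'⟩ x.2
    refine ⟨f, hxf, exists_pow_smul_mem hT M f ?_⟩
    have := rs_spanRes M h hfT' hmem
    rwa [rs_rs] at this
  choose F hxF n hn using h1
  let I : Ideal Γ(X, T) :=
    { carrier := {a | a • t ∈ M}
      add_mem' := fun {a b} ha hb => by
        show (a + b) • t ∈ M
        rw [add_smul]; exact Submodule.add_mem _ ha hb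
      zero_mem' := by
        show (0 : Γ(X, T)) • t ∈ M
        rw [zero_smul]; exact Submodule.zero_mem _
      smul_mem' := fun c a ha => by
        show (c • a) • t ∈ M
        rw [smul_eq_mul, mul_smul]; exact Submodule.smul_mem _ _ ha }
  have hcov : ⨆ f : Set.range (fun x : T => F x ^ n x), X.basicOpen (f : Γ(X, T)) = T := by
    apply le_antisymm
    · exact iSup_le fun f => X.basicOpen_le _
    · intro x hx
      refine Opens.mem_iSup.mpr ⟨⟨F ⟨x, hx⟩ ^ n ⟨x, hx⟩, ⟨_, rfl⟩⟩, ?_⟩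
      by_cases h0 : n ⟨x, hx⟩ = 0
      · simp only [h0, pow_zero]
        rw [Scheme.basicOpen_of_isUnit _ isUnit_one]; exact hx
      · rw [Scheme.basicOpen_pow _ _ (Nat.pos_of_ne_zero h0)]
        exact hxF ⟨x, hx⟩
  rw [hT.iSup_basicOpen_eq_self_iff] at hcov
  have hI : Ideal.span (Set.range (fun x : T => F x ^ n x)) ≤ I := by
    rw [Ideal.span_le]
    rintro _ ⟨x, rfl⟩
    exact hn x
  rw [hcov] at hI
  have h1 : (1 : Γ(X, T)) ∈ I := hI Submodule.mem_top
  have h2 : (1 : Γ(X, T)) • t ∈ M := h1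
  rwa [one_smul] at h2

end affine

end Groth.Agent.Lib.R2H2.SubFam
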