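import Mathlib
import Groth.Agent.Lib.R2H2SubFamSpan

set_option autoImplicit false
set_option linter.style.haveILetI false
universe u
open CategoryTheory CategoryTheory.Limits AlgebraicGeometry TopologicalSpace Opposite

noncomputable section

namespace Groth.Agent.Lib.R2H2.SubFam

open Groth.Agent.Lib.Helper2.Push Groth.Agent.Lib.Helper23.QCohLocal
  Groth.Agent.Lib.Helper23.Extend

variable {X : Scheme.{u}} {H : X.Modules} [H.IsQuasicoherent]

namespace Fam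

/-- a section whose restriction to `D(f)` lies in `N` lies in `N` after multiplication by a power
of `f`. -/
theorem exists_pow_smul_mem_of_rs_mem (N : Fam H) {T : X.Opens} (hT : IsAffineOpen T)
    (hg : GoodAff N T) (f : Γ(X, T)) (τ : Γ(H, T))
    (hτ : rs H (X.basicOpen_le f) τ ∈ N.obj (X.basicOpen f)) : ∃ m : ℕ, f ^ m • τ ∈ N.obj T := by
  obtain ⟨n, τ₁, hτ₁, he⟩ := hg.1 f _ hτ
  have h0 : rs H (X.basicOpen_le f) (τ₁ - f ^ n • τ) = 0 := by
    rw [rs_sub, rs_smul, he, map_pow, sub_self]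
  obtain ⟨k, hk⟩ := (IsLocOn.of_isQuasicoherent hT H).exists_pow_smul_eq_zero f _ h0
  refine ⟨k + n, ?_⟩
  rw [smul_sub, sub_eq_zero] at hk
  rw [pow_add, mul_smul, ← hk]
  exact Submodule.smul_mem _ _ hτ₁

/-- lifting sections of a saturated family from a basic open inside `W` to the affine open `V`. -/
theorem exists_lift (N : Fam H) {W V : X.Opens} (hV : IsAffineOpen V) (hSat : Sat N W)
    (s : Finset Γ(X, V)) (hcov : ∀ x ∈ V ⊓ W, ∃ g ∈ s, x ∈ X.basicOpen g)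
    (hle : ∀ g ∈ s, X.basicOpen g ≤ W) (hgood : ∀ g ∈ s, GoodAff N (X.basicOpen g))
    (g₀ : Γ(X, V)) (σ : Γ(H, X.basicOpen g₀)) (hσ : σ ∈ N.obj (X.basicOpen g₀)) :
    ∃ (n : ℕ) (t : Γ(H, V)), t ∈ N.obj V ∧ rs H (X.basicOpen_le g₀) t = (fr g₀) ^ n • σ := by
  obtain ⟨n₀, t₀, ht₀⟩ := (IsLocOn.of_isQuasicoherent hV H).exists_extension g₀ σ
  have ht₀' : rs H (X.basicOpen_le g₀) t₀ = (fr g₀) ^ n₀ • σ := ht₀
  have key : ∀ g' ∈ s, ∃ m : ℕ, (rO (X.basicOpen_le g') g₀) ^ m • rs H (X.basicOpen_le g') t₀ ∈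
      N.obj (X.basicOpen g') := by
    intro g' hg'
    refine exists_pow_smul_mem_of_rs_mem N (hV.basicOpen g') (hgood g' hg') _ _ ?_
    have hI : X.basicOpen (rO (X.basicOpen_le g') g₀) ≤ X.basicOpen g₀ := by
      have := Scheme.basicOpen_res X g₀ (homOfLE (X.basicOpen_le g')).op
      exact (le_of_eq this).trans inf_le_right
    rw [rs_rs, ← rs_rs hI (X.basicOpen_le g₀), ht₀', rs_smul]
    exact Submodule.smul_mem _ _ (N.res_mem hI hσ)
  choose! m hm using key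
  let M := s.sup m
  refine ⟨M + n₀, g₀ ^ M • t₀, ?_, ?_⟩
  · refine hSat V _ (N.loc _ (fun x hx => ?_))
    obtain ⟨g', hg', hxg'⟩ := hcov x hx
    refine ⟨X.basicOpen g', le_inf (X.basicOpen_le g') (hle g' hg'), hxg', ?_⟩
    rw [rs_rs, rs_smul, map_pow]
    have hle' : m g' ≤ M := Finset.le_sup (f := m) hg'
    obtain ⟨k, hk⟩ := Nat.exists_eq_add_of_le hle'
    rw [hk, add_comm, pow_add, mul_smul]
    exact Submodule.smul_mem _ _ (hm g' hg')
  · rw [rs_smul, ht₀', map_pow, smul_smul, ← pow_add]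

/-- a finitely generated submodule of `N(V)` generating `N` on finitely many basic opens. -/
theorem exists_generators (N : Fam H) {W V : X.Opens} (hV : IsAffineOpen V) (hSat : Sat N W)
    (s : Finset Γ(X, V)) (hcov : ∀ x ∈ V ⊓ W, ∃ g ∈ s, x ∈ X.basicOpen g)
    (hle : ∀ g ∈ s, X.basicOpen g ≤ W) (hgood : ∀ g ∈ s, GoodAff N (X.basicOpen g)) :
    ∃ M : Submodule Γ(X, V) Γ(H, V), M.FG ∧ M ≤ N.obj V ∧
      ∀ g ∈ s, N.obj (X.basicOpen g) ≤ spanRes M (X.basicOpen_le g) := by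
  classical
  -- generators on each basic open
  have h1 : ∀ g ∈ s, ∃ S : Finset Γ(H, X.basicOpen g),
      Submodule.span Γ(X, X.basicOpen g) (S : Set Γ(H, X.basicOpen g)) = N.obj (X.basicOpen g) :=
    fun g hg => (hgood g hg).2
  choose! S hS using h1
  have h2 : ∀ g ∈ s, ∀ σ ∈ S g, ∃ (n : ℕ) (t : Γ(H, V)), t ∈ N.obj V ∧
      rs H (X.basicOpen_le g) t = (fr g) ^ n • σ := by
    intro g hg σ hσ
    refine exists_lift N hV hSat s hcov hle hgood g σ ?_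
    rw [← hS g hg]; exact Submodule.subset_span hσ
  choose! n t ht hte using h2
  let G : Finset Γ(H, V) := s.biUnion (fun g => (S g).image (t g))
  refine ⟨Submodule.span Γ(X, V) (G : Set Γ(H, V)), ⟨G, rfl⟩, ?_, ?_⟩
  · rw [Submodule.span_le]
    intro x hx
    obtain ⟨g, hg, hx'⟩ := Finset.mem_biUnion.mp (Finset.mem_coe.mp hx)
    obtain ⟨σ, hσ, rfl⟩ := Finset.mem_image.mp hx'
    exact ht g hg σ hσ
  · intro g hg
    rw [← hS g hg, Submodule.span_le]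
    intro σ hσ
    have hmem : t g σ ∈ Submodule.span Γ(X, V) (G : Set Γ(H, V)) :=
      Submodule.subset_span (Finset.mem_coe.mpr (Finset.mem_biUnion.mpr
        ⟨g, hg, Finset.mem_image_of_mem _ hσ⟩))
    have h3 := rs_mem_spanRes _ (X.basicOpen_le g) hmem
    rw [hte g hg σ hσ] at h3
    obtain ⟨u, hu⟩ := (isUnit_fr g).exists_left_inv
    have h4 : σ = u ^ n g σ • ((fr g) ^ n g σ • σ) := by
      rw [smul_smul, ← mul_pow, hu, one_pow, one_smul]
    show σ ∈ spanRes _ _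
    rw [h4]
    exact Submodule.smul_mem _ _ h3

omit [H.IsQuasicoherent] in
theorem spanRes_le (N : Fam H) {V : X.Opens} {M : Submodule Γ(X, V) Γ(H, V)} (hM : M ≤ N.obj V)
    {T : X.Opens} (h : T ≤ V) : spanRes M h ≤ N.obj T := by
  rw [spanRes, Submodule.span_le]
  rintro _ ⟨m, hm, rfl⟩
  exact N.res_mem h (hM hm)

/-- the family equal to `N` on `W` and generated by `M` on `V`, saturated with respect to
`W ⊔ V`. -/
def step (N : Fam H) (W V : X.Opens) (M : Submodule Γ(X, V) Γ(H, V)) : Fam H where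
  obj T :=
    { carrier := {t | rs H (inf_le_left : T ⊓ W ≤ T) t ∈ N.obj (T ⊓ W) ∧
        ∀ x ∈ T ⊓ V, ∃ (T' : X.Opens) (h₁ : T' ≤ T) (h₂ : T' ≤ V),
          x ∈ T' ∧ rs H h₁ t ∈ spanRes M h₂}
      add_mem' := by
        rintro a b ⟨ha, ha'⟩ ⟨hb, hb'⟩
        refine ⟨by rw [rs_add]; exact Submodule.add_mem _ ha hb, fun x hx => ?_⟩
        obtain ⟨T₁, h₁, h₂, hx₁, hm₁⟩ := ha' x hx
        obtain ⟨T₂, k₁, k₂, hx₂, hm₂⟩ := hb' x hx
        refine ⟨T₁ ⊓ T₂, inf_le_left.trans h₁, inf_le_left.trans h₂, ⟨hx₁, hx₂⟩, ?_⟩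
        rw [rs_add]
        refine Submodule.add_mem _ ?_ ?_
        · have := rs_spanRes M h₂ (inf_le_left : T₁ ⊓ T₂ ≤ T₁) hm₁
          rwa [rs_rs] at this
        · have := rs_spanRes M k₂ (inf_le_right : T₁ ⊓ T₂ ≤ T₂) hm₂
          rwa [rs_rs] at this
      zero_mem' := by
        refine ⟨by rw [rs_zero]; exact Submodule.zero_mem _, fun x hx => ?_⟩
        exact ⟨T ⊓ V, inf_le_left, inf_le_right, hx, by rw [rs_zero]; exact Submodule.zero_mem _⟩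
      smul_mem' := by
        rintro r a ⟨ha, ha'⟩
        refine ⟨by rw [rs_smul]; exact Submodule.smul_mem _ _ ha, fun x hx => ?_⟩
        obtain ⟨T₁, h₁, h₂, hx₁, hm₁⟩ := ha' x hx
        exact ⟨T₁, h₁, h₂, hx₁, by rw [rs_smul]; exact Submodule.smul_mem _ _ hm₁⟩ }
  res_mem := by
    rintro T' T h t ⟨ht, ht'⟩
    refine ⟨?_, fun x hx => ?_⟩
    · have := N.res_mem (inf_le_inf_right W h : T' ⊓ W ≤ T ⊓ W) ht
      rw [rs_rs] at this
      rw [rs_rs]; exact this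
    · obtain ⟨T₁, h₁, h₂, hx₁, hm₁⟩ := ht' x ⟨h hx.1, hx.2⟩
      refine ⟨T₁ ⊓ T', inf_le_right, inf_le_left.trans h₂, ⟨hx₁, hx.1⟩, ?_⟩
      have := rs_spanRes M h₂ (inf_le_left : T₁ ⊓ T' ≤ T₁) hm₁
      rw [rs_rs] at this
      rw [rs_rs]; exact this
  loc := by
    intro T t ht
    refine ⟨N.loc _ (fun x hx => ?_), fun x hx => ?_⟩
    · obtain ⟨T', h, hxT', hmem, -⟩ := ht x hx.1
      refine ⟨T' ⊓ W, inf_le_inf_right W h, ⟨hxT', hx.2⟩, ?_⟩
      rw [rs_rs]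
      rw [rs_rs] at hmem
      exact hmem
    · obtain ⟨T', h, hxT', -, hmem⟩ := ht x hx.1
      obtain ⟨T₁, h₁, h₂, hx₁, hm₁⟩ := hmem x ⟨hxT', hx.2⟩
      refine ⟨T₁, h₁.trans h, h₂, hx₁, ?_⟩
      rw [rs_rs] at hm₁
      exact hm₁

omit [H.IsQuasicoherent] in
theorem mem_step_iff (N : Fam H) (W V : X.Opens) (M : Submodule Γ(X, V) Γ(H, V)) {T : X.Opens}
    (t : Γ(H, T)) : t ∈ (step N W V M).obj T ↔
      rs H (inf_le_left : T ⊓ W ≤ T) t ∈ N.obj (T ⊓ W) ∧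
        ∀ x ∈ T ⊓ V, ∃ (T' : X.Opens) (h₁ : T' ≤ T) (h₂ : T' ≤ V),
          x ∈ T' ∧ rs H h₁ t ∈ spanRes M h₂ := Iff.rfl

omit [H.IsQuasicoherent] in
theorem mem_step_of_le (N : Fam H) (W V : X.Opens) (M : Submodule Γ(X, V) Γ(H, V))
    (hM : M ≤ N.obj V) {T : X.Opens} (hT : T ≤ V) (t : Γ(H, T)) :
    t ∈ (step N W V M).obj T ↔
      ∀ x ∈ T, ∃ (T' : X.Opens) (h₁ : T' ≤ T) (h₂ : T' ≤ V), x ∈ T' ∧ rs H h₁ t ∈ spanRes M h₂ := by
  rw [mem_step_iff]
  constructor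
  · rintro ⟨-, h⟩ x hx
    exact h x ⟨hx, hT hx⟩
  · intro h
    refine ⟨N.loc _ (fun x hx => ?_), fun x hx => h x hx.1⟩
    obtain ⟨T', h₁, h₂, hxT', hmem⟩ := h x hx.1
    refine ⟨T' ⊓ (T ⊓ W), inf_le_right, ⟨hxT', hx⟩, ?_⟩
    rw [rs_rs, ← rs_rs (inf_le_left : T' ⊓ (T ⊓ W) ≤ T') h₁]
    exact N.res_mem _ (spanRes_le N hM h₂ hmem)

omit [H.IsQuasicoherent] in
theorem sat_step (N : Fam H) (W V : X.Opens) (M : Submodule Γ(X, V) Γ(H, V)) :
    Sat (step N W V M) (W ⊔ V) := by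
  intro T t ht
  rw [mem_step_iff] at ht ⊢
  obtain ⟨h1, h2⟩ := ht
  refine ⟨?_, fun x hx => ?_⟩
  · rw [rs_rs] at h1
    have hle₁ : T ⊓ (W ⊔ V) ⊓ W ≤ T ⊓ W := inf_le_inf_right W inf_le_left
    have hle₂ : T ⊓ W ≤ T ⊓ (W ⊔ V) ⊓ W :=
      le_inf (le_inf inf_le_left (inf_le_right.trans (le_sup_left : W ≤ W ⊔ V))) inf_le_right
    refine N.mem_of_rs_mem_of_le hle₁ hle₂ ?_
    rw [rs_rs]; exact h1
  · obtain ⟨T', h₁, h₂, hxT', hmem⟩ := h2 x ⟨⟨hx.1, Or.inr hx.2⟩, hx.2⟩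
    refine ⟨T', h₁.trans inf_le_left, h₂, hxT', ?_⟩
    rw [rs_rs] at hmem
    exact hmem

omit [H.IsQuasicoherent] in
theorem eqOn_step (N : Fam H) {W V : X.Opens} (hV : IsAffineOpen V)
    (M : Submodule Γ(X, V) Γ(H, V)) (s : Finset Γ(X, V))
    (hcov : ∀ x ∈ V ⊓ W, ∃ g ∈ s, x ∈ X.basicOpen g)
    (hgood : ∀ g ∈ s, GoodAff N (X.basicOpen g))
    (hgen : ∀ g ∈ s, N.obj (X.basicOpen g) ≤ spanRes M (X.basicOpen_le g)) :
    EqOn (step N W V M) N W := by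
  intro T hT
  ext t
  rw [mem_step_iff]
  constructor
  · rintro ⟨h1, -⟩
    exact N.mem_of_rs_mem_of_le inf_le_left (le_inf le_rfl hT) h1
  · intro ht
    refine ⟨N.res_mem _ ht, fun x hx => ?_⟩
    obtain ⟨g, hg, hxg⟩ := hcov x ⟨hx.2, hT hx.1⟩
    obtain ⟨f, hfT, hxf⟩ := (hV.basicOpen g).exists_basicOpen_le ⟨x, hx.1⟩ hxg
    have hfV : X.basicOpen f ≤ V := (X.basicOpen_le f).trans (X.basicOpen_le g)
    refine ⟨X.basicOpen f, hfT, hfV, hxf, ?_⟩
    obtain ⟨n, t', ht', he⟩ := (hgood g hg).1 f _ (N.res_mem hfT ht)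
    have h3 := rs_spanRes M (X.basicOpen_le g) (X.basicOpen_le f) (hgen g hg ht')
    rw [he] at h3
    obtain ⟨u, hu⟩ := (isUnit_fr f).exists_left_inv
    have h4 : rs H hfT t = u ^ n • ((fr f) ^ n • rs H hfT t) := by
      rw [smul_smul, ← mul_pow, hu, one_pow, one_smul]
    rw [h4]
    exact Submodule.smul_mem _ _ h3

theorem step_obj_eq (N : Fam H) (W : X.Opens) {V : X.Opens} (M : Submodule Γ(X, V) Γ(H, V))
    (hM : M ≤ N.obj V) {T : X.Opens} (hT : IsAffineOpen T) (hTV : T ≤ V) :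
    (step N W V M).obj T = spanRes M hTV := by
  ext t
  rw [mem_step_of_le N W V M hM hTV]
  constructor
  · intro h
    refine mem_of_locally_mem_spanRes hT (spanRes M hTV) (fun x hx => ?_)
    obtain ⟨T', h₁, h₂, hxT', hmem⟩ := h x hx
    refine ⟨T', h₁, hxT', ?_⟩
    rw [spanRes_spanRes]; exact hmem
  · intro h x hx
    exact ⟨T, le_rfl, hTV, hx, by rw [rs_self]; exact h⟩

theorem goodAff_step (N : Fam H) (W : X.Opens) {V : X.Opens} (M : Submodule Γ(X, V) Γ(H, V))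
    (hM : M ≤ N.obj V) (hfg : M.FG) {T : X.Opens} (hT : IsAffineOpen T) (hTV : T ≤ V) :
    GoodAff (step N W V M) T := by
  refine ⟨fun f σ hσ => ?_, ?_⟩
  · rw [step_obj_eq N W M hM (hT.basicOpen f) ((X.basicOpen_le f).trans hTV),
      ← spanRes_spanRes M hTV (X.basicOpen_le f)] at hσ
    obtain ⟨n, m, hm, he⟩ := exists_of_mem_spanRes hT (spanRes M hTV) f hσ
    exact ⟨n, m, by rw [step_obj_eq N W M hM hT hTV]; exact hm, he⟩
  · rw [step_obj_eq N W M hM hT hTV]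
    exact spanRes_fg hfg hTV

/-- one step of the extension: enlarge the open on which a saturated family is quasi-coherent of
finite type by an affine open. -/
theorem exists_step (N : Fam H) {W V : X.Opens} (hV : IsAffineOpen V)
    (hΩ : IsCompact ((V ⊓ W : X.Opens) : Set X)) (hSat : Sat N W) (hQF : QF N W) :
    ∃ N' : Fam H, EqOn N' N W ∧ Sat N' (W ⊔ V) ∧ QF N' (W ⊔ V) := by
  classical
  -- a finite cover of `V ⊓ W` by good basic opens of `V`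
  have h1 : ∀ x : (V ⊓ W : X.Opens), ∃ g : Γ(X, V), (x : X) ∈ X.basicOpen g ∧ X.basicOpen g ≤ W ∧
      ∀ T' : X.Opens, T' ≤ X.basicOpen g → IsAffineOpen T' → GoodAff N T' := by
    intro x
    obtain ⟨T, hT, hTW, hxT, hg⟩ := hQF x x.2.2
    obtain ⟨g, h, hgh, hxg⟩ := exists_basicOpen_le_affine_inter hV hT x ⟨x.2.1, hxT⟩
    have hgT : X.basicOpen g ≤ T := by rw [hgh]; exact X.basicOpen_le h
    exact ⟨g, hxg, hgT.trans hTW, fun T' hT' hT'a => hg T' (hT'.trans hgT) hT'a⟩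
  choose G hxG hGW hGgood using h1
  obtain ⟨p, hp⟩ := hΩ.elim_finite_subcover (fun x : (V ⊓ W : X.Opens) => (X.basicOpen (G x) : Set X))
    (fun x => (X.basicOpen (G x)).isOpen)
    (fun x hx => Set.mem_iUnion.mpr ⟨⟨x, hx⟩, hxG ⟨x, hx⟩⟩)
  let s : Finset Γ(X, V) := p.image G
  have hcov : ∀ x ∈ V ⊓ W, ∃ g ∈ s, x ∈ X.basicOpen g := by
    intro x hx
    have := hp hx
    simp only [Set.mem_iUnion] at this
    obtain ⟨y, hy, hxy⟩ := this
    exact ⟨G y, Finset.mem_image_of_mem _ hy, hxy⟩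
  have hle : ∀ g ∈ s, X.basicOpen g ≤ W := by
    intro g hg
    obtain ⟨y, -, rfl⟩ := Finset.mem_image.mp hg
    exact hGW y
  have hgood' : ∀ g ∈ s, ∀ T' : X.Opens, T' ≤ X.basicOpen g → IsAffineOpen T' → GoodAff N T' := by
    intro g hg
    obtain ⟨y, -, rfl⟩ := Finset.mem_image.mp hg
    exact hGgood y
  have hgood : ∀ g ∈ s, GoodAff N (X.basicOpen g) :=
    fun g hg => hgood' g hg _ le_rfl (hV.basicOpen g)
  obtain ⟨M, hfg, hMN, hgen⟩ := exists_generators N hV hSat s hcov hle hgood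
  have heq : EqOn (step N W V M) N W := eqOn_step N hV M s hcov hgood hgen
  refine ⟨step N W V M, heq, sat_step N W V M, ?_⟩
  refine QF.sup (hQF.congr heq.symm) ?_
  intro x hx
  exact ⟨V, hV, le_rfl, hx, fun T' hT' hT'a => goodAff_step N W M hMN hfg hT'a hT'⟩

end Fam

end Groth.Agent.Lib.R2H2.SubFam
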