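import Mathlib
import Groth.Agent.Lib.R2H2SubFamStep
import Groth.Agent.Lib.R2H2SubFamMod

set_option autoImplicit false
set_option linter.style.haveILetI false
universe u v
open CategoryTheory CategoryTheory.Limits AlgebraicGeometry TopologicalSpace Opposite

noncomputable section

namespace Groth.Agent.Lib.R2H2.SubFam

open Groth.Agent.Lib.Helper2.Push Groth.Agent.Lib.Helper23.QCohLocal
  Groth.Agent.Lib.Helper23.Extend

variable {X : Scheme.{u}} {H : X.Modules} [H.IsQuasicoherent]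
variable {L : Type v} (V : L → X.Opens) (U : X.Opens)

/-- the open `⋃_{m ∈ S} V_m`. -/
def WS1 (S : Set L) : X.Opens := ⨆ m : S, V m

/-- the open `U ∪ ⋃_{m ∈ S} V_m`. -/
def WS (S : Set L) : X.Opens := U ⊔ WS1 V S

theorem WS1_mono {S S' : Set L} (h : S ⊆ S') : WS1 V S ≤ WS1 V S' :=
  iSup_le fun m => le_iSup (fun m : S' => V m) ⟨m.1, h m.2⟩

theorem WS_mono {S S' : Set L} (h : S ⊆ S') : WS V U S ≤ WS V U S' :=
  sup_le_sup_left (WS1_mono V h) U

theorem le_WS (S : Set L) : U ≤ WS V U S := le_sup_left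

theorem mem_WS {S : Set L} {x : X} : x ∈ WS V U S ↔ x ∈ U ∨ ∃ m ∈ S, x ∈ V m := by
  constructor
  · rintro (h | h)
    · exact Or.inl h
    · obtain ⟨m, hm⟩ := Opens.mem_iSup.mp (show x ∈ ⨆ m : S, V m from h)
      exact Or.inr ⟨m.1, m.2, hm⟩
  · rintro (h | ⟨m, hm, hx⟩)
    · exact Or.inl h
    · exact Or.inr (show x ∈ ⨆ m : S, V m from Opens.mem_iSup.mpr ⟨⟨m, hm⟩, hx⟩)

variable [LinearOrder L]

variable (H) in
/-- a stage of the transfinite construction. -/
structure Stage where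
  S : Set L
  lower : ∀ a b : L, b ≤ a → a ∈ S → b ∈ S
  N : Fam H
  sat : Fam.Sat N (WS V U S)
  qf : Fam.QF N (WS V U S)
  eqU : Fam.EqOn N ⊤ U

variable {V U}

/-- the order on stages. -/
def Stage.le (a b : Stage H V U) : Prop := a.S ⊆ b.S ∧ Fam.EqOn b.N a.N (WS V U a.S)

omit [H.IsQuasicoherent] in
theorem Stage.le_trans {a b c : Stage H V U} (h₁ : a.le b) (h₂ : b.le c) : a.le c :=
  ⟨h₁.1.trans h₂.1, (h₂.2.mono (WS_mono V U h₁.1)).trans h₁.2⟩

omit [H.IsQuasicoherent] in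
theorem Stage.le_refl (a : Stage H V U) : a.le a := ⟨subset_rfl, Fam.EqOn.refl _ _⟩

theorem exists_chain_bound (hU : FTOn H U) (c : Set (Stage H V U))
    (hc : IsChain Stage.le c) : ∃ ub : Stage H V U, ∀ a ∈ c, a.le ub := by
  rcases c.eq_empty_or_nonempty with rfl | ⟨a₀, ha₀⟩
  · refine ⟨⟨∅, fun _ _ _ h => h.elim, ⊤, Fam.sat_top _, ?_, Fam.EqOn.refl _ _⟩, fun a ha => ha.elim⟩
    intro x hx
    rw [mem_WS] at hx
    rcases hx with hx | ⟨m, hm, -⟩
    · obtain ⟨T, hT, hTU, hxT, hg⟩ := Fam.qf_top hU x hx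
      exact ⟨T, hT, hTU.trans (le_WS V U _), hxT, hg⟩
    · exact hm.elim
  · let N' : Fam H := Fam.iInf (fun a : c => a.1.N)
    have key : ∀ a ∈ c, Fam.EqOn N' a.N (WS V U a.S) := by
      intro a ha T hT
      apply le_antisymm
      · intro t ht
        exact (Fam.mem_iInf _ t).mp ht ⟨a, ha⟩
      · intro t ht
        rw [Fam.mem_iInf]
        rintro ⟨b, hb⟩
        by_cases hab : a = b
        · subst hab; exact ht
        · rcases hc ha hb hab with h | h
          · rw [h.2 T hT]; exact ht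
          · exact Fam.le_of_eqOn_of_sat h.2 b.sat ht
    refine ⟨⟨⋃ a ∈ c, a.S, ?_, N', ?_, ?_, ?_⟩, ?_⟩
    · intro x y hyx hx
      simp only [Set.mem_iUnion] at hx ⊢
      obtain ⟨a, ha, hxa⟩ := hx
      exact ⟨a, ha, a.lower x y hyx hxa⟩
    · refine Fam.sat_iInf _ _ (fun a => ?_)
      exact a.1.sat.mono (WS_mono V U (Set.subset_biUnion_of_mem a.2))
    · intro x hx
      have : ∃ a ∈ c, x ∈ WS V U a.S := by
        rw [mem_WS] at hx
        rcases hx with hx | ⟨m, hm, hxm⟩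
        · exact ⟨a₀, ha₀, le_WS V U _ hx⟩
        · simp only [Set.mem_iUnion] at hm
          obtain ⟨a, ha, hma⟩ := hm
          exact ⟨a, ha, (mem_WS V U).mpr (Or.inr ⟨m, hma, hxm⟩)⟩
      obtain ⟨a, ha, hxa⟩ := this
      obtain ⟨T, hT, hTW, hxT, hg⟩ := (a.qf.congr (key a ha).symm) x hxa
      exact ⟨T, hT, hTW.trans (WS_mono V U (Set.subset_biUnion_of_mem ha)), hxT, hg⟩
    · exact ((key a₀ ha₀).mono (le_WS V U _)).trans a₀.eqU
    · intro a ha
      exact ⟨Set.subset_biUnion_of_mem ha, key a ha⟩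

/-- a stage which does not use all indices can be enlarged. -/
theorem exists_larger_stage [WellFoundedLT L] (hVa : ∀ l, IsAffineOpen (V l))
    (hW : ∀ l, IsCompact ((V l : Set X) ∩ ⋃ m ∈ Set.Iio l, (V m : Set X)))
    (hUV : ∀ l, IsCompact ((U : Set X) ∩ (V l : Set X)))
    (a : Stage H V U) (ha : a.S ≠ Set.univ) :
    ∃ b : Stage H V U, a.le b ∧ ¬ b.S ⊆ a.S := by
  have hne : (a.Sᶜ).Nonempty := Set.nonempty_compl.mpr ha
  let l₀ := WellFounded.min (wellFounded_lt (α := L)) _ hne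
  have hl₀ : l₀ ∉ a.S := WellFounded.min_mem (wellFounded_lt (α := L)) _ hne
  have hS : a.S = Set.Iio l₀ := by
    ext b
    constructor
    · intro hb
      by_contra hlt
      exact hl₀ (a.lower b l₀ (not_lt.mp hlt) hb)
    · intro hb
      by_contra hnb
      exact WellFounded.not_lt_min (wellFounded_lt (α := L)) _ (x := b) hnb hb
  have hcpt : IsCompact ((V l₀ ⊓ WS V U a.S : X.Opens) : Set X) := by
    have : ((V l₀ ⊓ WS V U a.S : X.Opens) : Set X) =
        ((U : Set X) ∩ (V l₀ : Set X)) ∪ ((V l₀ : Set X) ∩ ⋃ m ∈ Set.Iio l₀, (V m : Set X)) := by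
      ext x
      simp only [Opens.coe_inf, Set.mem_inter_iff, SetLike.mem_coe, Set.mem_union, Set.mem_iUnion,
        exists_prop]
      rw [mem_WS, hS]
      tauto
    rw [this]
    exact (hUV l₀).union (hW l₀)
  obtain ⟨N', heq, hsat, hqf⟩ := Fam.exists_step a.N (hVa l₀) hcpt a.sat a.qf
  have hWS : WS V U (insert l₀ a.S) = WS V U a.S ⊔ V l₀ := by
    ext x
    simp only [Opens.coe_sup, Set.mem_union, SetLike.mem_coe]
    rw [mem_WS, mem_WS]
    constructor
    · rintro (h | ⟨m, hm, hx⟩)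
      · exact Or.inl (Or.inl h)
      · rcases Set.mem_insert_iff.mp hm with rfl | hm
        · exact Or.inr hx
        · exact Or.inl (Or.inr ⟨m, hm, hx⟩)
    · rintro ((h | ⟨m, hm, hx⟩) | h)
      · exact Or.inl h
      · exact Or.inr ⟨m, Set.mem_insert_of_mem _ hm, hx⟩
      · exact Or.inr ⟨l₀, Set.mem_insert _ _, h⟩
  refine ⟨⟨insert l₀ a.S, ?_, N', by rw [hWS]; exact hsat, by rw [hWS]; exact hqf,
    (heq.mono (le_WS V U _)).trans a.eqU⟩, ⟨Set.subset_insert _ _, heq⟩, ?_⟩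
  · intro x y hyx hx
    rcases Set.mem_insert_iff.mp hx with rfl | hx
    · rcases hyx.eq_or_lt with rfl | hlt
      · exact Set.mem_insert _ _
      · exact Set.mem_insert_of_mem _ (by rw [hS]; exact hlt)
    · exact Set.mem_insert_of_mem _ (a.lower x y hyx hx)
  · intro h
    exact hl₀ (h (Set.mem_insert _ _))

/-- **Extension of finite type quasi-coherent submodules** for a scheme with a well-ordered
affine cover (EGA I 9.4.7-type statement): if `H` is quasi-coherent and of finite type on the open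
`U`, then `H` has a quasi-coherent submodule of finite type agreeing with `H` on `U`. -/
theorem exists_sub_isFiniteType_wellOrdered [WellFoundedLT L] (hVa : ∀ l, IsAffineOpen (V l))
    (hcov : ⨆ l, V l = ⊤)
    (hW : ∀ l, IsCompact ((V l : Set X) ∩ ⋃ m ∈ Set.Iio l, (V m : Set X)))
    (hUV : ∀ l, IsCompact ((U : Set X) ∩ (V l : Set X))) (hU : FTOn H U) :
    ∃ (F : X.Modules) (ψ : F ⟶ H), Mono ψ ∧ F.IsQuasicoherent ∧
      SheafOfModules.IsFiniteType (R := X.ringCatSheaf) F ∧ IsoOn ψ U := by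
  obtain ⟨m, hm⟩ := exists_maximal_of_chains_bounded (r := Stage.le (H := H) (V := V) (U := U))
    (fun c hc => exists_chain_bound hU c hc) (fun h₁ h₂ => Stage.le_trans h₁ h₂)
  have hS : m.S = Set.univ := by
    by_contra hne
    obtain ⟨b, hab, hnb⟩ := exists_larger_stage hVa hW hUV m hne
    exact hnb (hm b hab).1
  have htop : WS V U m.S = ⊤ := by
    rw [eq_top_iff]
    intro x _
    have hx : x ∈ ⨆ l, V l := by rw [hcov]; trivial
    obtain ⟨l, hl⟩ := Opens.mem_iSup.mp hx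
    exact (mem_WS V U).mpr (Or.inr ⟨l, by rw [hS]; trivial, hl⟩)
  have hqf : Fam.QF m.N ⊤ := by rw [← htop]; exact m.qf
  obtain ⟨hq, hf⟩ := m.N.isQuasicoherent_toMod hqf
  exact ⟨m.N.toMod, m.N.ι, inferInstance, hq, hf, m.N.isoOn_ι m.eqU⟩

end Groth.Agent.Lib.R2H2.SubFam
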