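import Mathlib
import Groth.Agent.Lib.R2H2SubFamZorn

set_option autoImplicit false
set_option linter.style.haveILetI false
universe u v
open CategoryTheory CategoryTheory.Limits AlgebraicGeometry TopologicalSpace Opposite

namespace Groth.Agent.Lib.R2H2.SubFam

open Groth.Agent.Lib.Helper2.Push Groth.Agent.Lib.Helper23.QCohLocal
  Groth.Agent.Lib.Helper23.Extend Groth.Agent.Lib.Helper23.FinType Groth.Agent.Lib.Helper2.QCoh
  Groth.Agent.Lib.Helper23.ModLocal

/-- **EGA I 9.4.7**: extension of quasi-coherent subsheaves of finite type along a quasi-compact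
open immersion, for a scheme with a well-ordered affine open cover `(V_l)` such that
`V_l ∩ ⋃_{m<l} V_m` is quasi-compact. -/
theorem exists_extension_isFiniteType {X Y : Scheme.{u}} {L : Type v} [LinearOrder L]
    [WellFoundedLT L] (V : L → X.Opens) (hV : ∀ l, IsAffineOpen (V l)) (hcov : ⨆ l, V l = ⊤)
    (hW : ∀ l, IsCompact ((V l : Set X) ∩ ⋃ m ∈ Set.Iio l, (V m : Set X)))
    (j : Y ⟶ X) [IsOpenImmersion j] [QuasiCompact j] (F : X.Modules) [F.IsQuasicoherent]
    (G : Y.Modules) [G.IsQuasicoherent] [SheafOfModules.IsFiniteType (R := Y.ringCatSheaf) G]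
    (φ : G ⟶ F.restrict j) [Mono φ] :
    ∃ (G' : X.Modules) (i' : G' ⟶ F) (e : G'.restrict j ≅ G), Mono i' ∧ G'.IsQuasicoherent ∧
      SheafOfModules.IsFiniteType (R := X.ringCatSheaf) G' ∧
      e.hom ≫ φ = (Scheme.Modules.restrictFunctor j).map i' := by
  obtain ⟨H, ψ₀, e₀, hHq, hcompat, hmono, -⟩ := exists_extension' j F G φ
  haveI := hHq
  haveI : Mono ψ₀ := hmono inferInstance
  haveI : SheafOfModules.IsFiniteType (R := Y.ringCatSheaf) (H.restrict j) :=
    isFiniteType_of_iso e₀.symm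
  have hH : FTOn H j.opensRange := ftOn_of_isFiniteType_restrict j H
  have hUV : ∀ l, IsCompact ((j.opensRange : Set X) ∩ (V l : Set X)) := by
    intro l
    have h1 : IsCompact ((j ⁻¹ᵁ V l : Y.Opens) : Set Y) :=
      QuasiCompact.isCompact_preimage (f := j) _ (V l).isOpen (hV l).isCompact
    have h2 := h1.image j.continuous
    have h3 : j '' ((j ⁻¹ᵁ V l : Y.Opens) : Set Y) = (j.opensRange : Set X) ∩ (V l : Set X) := by
      change j '' (j ⁻¹' (V l : Set X)) = _
      rw [Set.image_preimage_eq_inter_range, Set.inter_comm]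
      rfl
    rwa [h3] at h2
  obtain ⟨F', ψ, hm, hq, hft, hiso⟩ :=
    exists_sub_isFiniteType_wellOrdered (H := H) (V := V) (U := j.opensRange) hV hcov hW hUV hH
  haveI := hm
  haveI : IsIso ((Scheme.Modules.restrictFunctor j).map ψ) := by
    rw [isIso_restrict_iff]; exact hiso
  refine ⟨F', ψ ≫ ψ₀, asIso ((Scheme.Modules.restrictFunctor j).map ψ) ≪≫ e₀, mono_comp _ _, hq,
    hft, ?_⟩
  rw [Iso.trans_hom, Category.assoc, hcompat, asIso_hom, ← Functor.map_comp]

end Groth.Agent.Lib.R2H2.SubFam
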