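import Mathlib
import Groth.Prelude.Def_RefHull
import Groth.Agent.S2252
import Groth.Agent.S2821
import Groth.Agent.Lib.R2LeadRk1B
import Groth.Agent.Lib.Helper11SmInt
import Groth.Agent.Lib.Helper23AmpleIso

set_option autoImplicit false
set_option linter.style.haveILetI false
universe u

open AlgebraicGeometry CategoryTheory TopologicalSpace Opposite RefHull IsLocalRing

namespace Groth.Agent.Lib.R2LeadExtReg

variable {X : Scheme.{u}}

section Gen

open Groth.Agent.Lib.Helper23.SecTw Groth.Agent.Lib.Helper20.ZClosLib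

/-- if `F|_U` is invertible then the stalks of `F` at the points of `U` are free of rank one. -/
theorem exists_gen_stalk_of_restrict (F : X.Modules) (U : X.Opens)
    (hinv : PicF.IsInvertible (F.restrict U.ι)) (x : X) (hx : x ∈ U) :
    ∃ g : F.presheaf.stalk x, Function.Bijective (fun c : X.presheaf.stalk x => c • g) := by
  obtain ⟨V, e, hxV, he⟩ := exists_gen (F.restrict U.ι) hinv ⟨x, hx⟩
  have he' := isGen_of_isGen_restrict F U V e he
  obtain ⟨ψ⟩ := nonempty_restrict_iso_of_isGen F (U.ι ''ᵁ V) e he'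
  have hmem : x ∈ U.ι ''ᵁ V := ⟨⟨x, hx⟩, hxV, rfl⟩
  have hmem' : x ∈ (U.ι ''ᵁ V).ι ''ᵁ ⊤ := by
    rw [Scheme.Hom.image_top_eq_opensRange, Scheme.Opens.opensRange_ι]
    exact hmem
  exact ⟨_, Groth.Agent.Lib.Helper20.InvGen.bijective_smul_germ F (U.ι ''ᵁ V) ψ.inv x hmem'⟩

/-- a morphism of modules which is bijective on the stalks at the points of `U` restricts to an
isomorphism over `U`. -/
theorem isIso_restrict_map_of_stalk_bijective {F G : X.Modules} (φ : F ⟶ G) (U : X.Opens)
    (h : ∀ x ∈ U, Function.Bijective ((stalkF x).map φ)) :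
    IsIso ((Scheme.Modules.restrictFunctor U.ι).map φ) := by
  rw [isIso_iff_stalk_bijective]
  intro y
  have h1 : IsIso ((stalkF (U.ι y)).map φ) :=
    (ConcreteCategory.isIso_iff_bijective _).2 (h (U.ι y) y.2)
  have h2 : IsIso ((Scheme.Modules.restrictFunctor U.ι ⋙ stalkF y).map φ) :=
    (NatIso.isIso_map_iff (Scheme.Modules.restrictStalkNatIso U.ι y) φ).2 h1
  exact (ConcreteCategory.isIso_iff_bijective _).1 h2

end Gen

section Main

open Groth.Agent.Lib.Helper20.ZClosLib Groth.Agent.Lib.R2Lead.ReflB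

theorem isReflexive_structureModule [IsIntegral X] [IsLocallyNoetherian X] :
    RefHull.IsReflexive (Coh.structureModule X) := by
  have h10 : (∀ x : ↥X, RefHull.IsReflexiveAt (Coh.structureModule X) x) →
      RefHull.IsReflexive (Coh.structureModule X) :=
    ((tfae (Coh.structureModule X) (isCoh_structureModule X)).out 1 0).1
  apply h10
  intro x
  exact Module.equiv (Groth.Agent.Lib.Helper23.UnitStalk.unitStalkEquiv x)

theorem main (X : Scheme.{u}) [IsNoetherian X] [ConnectedSpace X]
    (hreg : ∀ x : X, IsRegularLocalRing (X.presheaf.stalk x)) (U : X.Opens)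
    (M : (U : Scheme.{u}).Modules) (hM : PicF.IsInvertible M) :
    ∃ L : X.Modules, PicF.IsInvertible L ∧ Nonempty (L.restrict U.ι ≅ M) := by
  have hdom : ∀ x : X, IsDomain (X.presheaf.stalk x) := fun x => by
    haveI := hreg x
    exact (Groth.Agent.S2821.result (X.presheaf.stalk x)).1
  haveI : IsIntegral X := Groth.Agent.Lib.Helper11SmInt.isIntegral_of_connected_of_isDomain_stalk hdom
  by_cases hU : (U : Set X).Nonempty
  · have hXloc : ∀ x : X, ∃ W : X.Opens, x ∈ W ∧ TopologicalSpace.NoetherianSpace (W : Set X) :=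
      fun x => ⟨⊤, trivial, inferInstance⟩
    haveI : Coh.IsQCoh M := Groth.Agent.Lib.Helper23.SecTw.isQuasicoherent_of_isInvertible M hM
    have hMft : CohB1.IsFT M := Groth.Agent.Lib.R2H2.PnFinite.isFiniteType_of_isInvertible M hM
    obtain ⟨G', hq, hft, ⟨e⟩⟩ := Groth.Agent.S2252.result hXloc U M hMft
    have hG' : Coh.IsCoh G' := ⟨hq, hft⟩
    have hFcoh : Coh.IsCoh (RefHull.ddual G') := isCoh_dual (dual G') (isCoh_dual G' hG')
    have hFrefl : RefHull.IsReflexive (RefHull.ddual G') :=
      Groth.Agent.Lib.R2Lead.ReflC.isReflexive_homSh (dual G') (Coh.structureModule X)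
        (isCoh_dual G' hG') (isCoh_structureModule X) isReflexive_structureModule
    have hinvG : PicF.IsInvertible (G'.restrict U.ι) :=
      Groth.Agent.Lib.Helper23.AmpleIso.isInvertible_of_iso e.symm hM
    have hbij : ∀ x ∈ U, Function.Bijective ((stalkF x).map (bidualMap G')) := by
      intro x hx
      obtain ⟨g, hg⟩ := exists_gen_stalk_of_restrict G' U hinvG x hx
      let eg : X.presheaf.stalk x ≃ₗ[X.presheaf.stalk x] G'.presheaf.stalk x :=
        LinearEquiv.ofBijective (LinearMap.toSpanSingleton _ _ g) hg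
      have hr : RefHull.IsReflexiveAt G' x := Module.equiv eg
      exact (isReflexiveAt_iff G' hG' x).1 hr
    haveI := isIso_restrict_map_of_stalk_bijective (bidualMap G') U hbij
    let ε : G'.restrict U.ι ≅ (RefHull.ddual G').restrict U.ι :=
      asIso ((Scheme.Modules.restrictFunctor U.ι).map (bidualMap G'))
    have hgen : RefHull.GenInvertible (RefHull.ddual G') :=
      ⟨U, U.isOpen.dense hU, Groth.Agent.Lib.Helper23.AmpleIso.isInvertible_of_iso ε hinvG⟩
    exact ⟨RefHull.ddual G', Groth.Agent.Lib.R2LeadRk1B.main hreg _ hFcoh hFrefl hgen,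
      ⟨ε.symm ≪≫ e⟩⟩
  · refine ⟨Coh.structureModule X,
      Groth.Agent.Lib.Helper23.TensorUnit.isInvertible_structureModule X, ?_⟩
    haveI : IsIso (0 : (Coh.structureModule X).restrict U.ι ⟶ M) :=
      (isIso_iff_stalk_bijective _).2 (fun y => absurd ⟨y.1, y.2⟩ hU)
    exact ⟨asIso (0 : (Coh.structureModule X).restrict U.ι ⟶ M)⟩

end Main

end Groth.Agent.Lib.R2LeadExtReg
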