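import Mathlib
import Groth.Agent.Lib.R2LeadHartA

set_option autoImplicit false
universe u

namespace Groth.Agent.Lib.R2LeadHartC

open IsLocalRing

section Algebra

variable {R M : Type*} [CommRing R] [IsDomain R] [IsNoetherianRing R] [IsLocalRing R]
  [IsIntegrallyClosed R] [AddCommGroup M] [Module R M] [Module.IsReflexive R M]

/-- one step: `m • c ⊆ a₀ M` implies `c ∈ a₀ M` for a reflexive module over a normal Noetherian
local domain of dimension at least two. -/
theorem exists_eq_smul_of_maximalIdeal_smul (hdim : ¬ ringKrullDim R ≤ 1) (a₀ : R) (ha₀ : a₀ ≠ 0)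
    (c : M) (hc : ∀ a ∈ maximalIdeal R, ∃ m' : M, a • c = a₀ • m') : ∃ c' : M, c = a₀ • c' := by
  have hφ : ∀ φ : Module.Dual R M, ∃ r : R, φ c = a₀ * r := by
    intro φ
    have h1 : φ c ∈ Submodule.span R {a₀} := by
      refine Groth.Agent.Lib.R2LeadHartA.mem_span_of_maximalIdeal_smul (R := R) (N := R)
        (fun a v h => mul_eq_zero.1 h) a₀ ha₀ hdim (φ c) ?_
      intro a ha
      obtain ⟨m', hm'⟩ := hc a ha
      rw [← map_smul, hm', map_smul]
      exact Submodule.mem_span_singleton.2 ⟨φ m', by rw [smul_eq_mul, smul_eq_mul, mul_comm]⟩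
    obtain ⟨r, hr⟩ := Submodule.mem_span_singleton.1 h1
    exact ⟨r, by rw [← hr, smul_eq_mul, mul_comm]⟩
  choose r hr using hφ
  let ψ : Module.Dual R (Module.Dual R M) :=
    { toFun := r
      map_add' := fun φ₁ φ₂ => by
        apply mul_left_cancel₀ ha₀
        rw [← hr, mul_add, ← hr, ← hr, LinearMap.add_apply]
      map_smul' := fun b φ => by
        apply mul_left_cancel₀ ha₀
        rw [← hr, RingHom.id_apply, smul_eq_mul, mul_left_comm, ← hr, LinearMap.smul_apply,
          smul_eq_mul] }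
  obtain ⟨c', hc'⟩ := (Module.bijective_dual_eval R M).2 ψ
  refine ⟨c', ?_⟩
  apply (Module.bijective_dual_eval R M).1
  ext φ
  have h1 : φ c' = r φ := by
    have := LinearMap.congr_fun hc' φ
    rw [Module.Dual.eval_apply] at this
    exact this
  rw [Module.Dual.eval_apply, Module.Dual.eval_apply, map_smul, h1, hr, smul_eq_mul]

/-- if for every non-maximal prime `p` some `a ∉ p` has `a • m₀ ∈ a₀ M`, then `m₀ ∈ a₀ M`. -/
theorem exists_eq_smul_of_forall_prime (hdim : ¬ ringKrullDim R ≤ 1) (a₀ : R) (ha₀ : a₀ ≠ 0)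
    (m₀ : M)
    (h : ∀ p : Ideal R, p.IsPrime → p ≠ maximalIdeal R → ∃ a : R, a ∉ p ∧ ∃ m' : M, a • m₀ = a₀ • m') :
    ∃ c' : M, m₀ = a₀ • c' := by
  -- the colon ideal
  let I : Ideal R :=
    { carrier := {a | ∃ m' : M, a • m₀ = a₀ • m'}
      zero_mem' := ⟨0, by rw [zero_smul, smul_zero]⟩
      add_mem' := by
        rintro a b ⟨m₁, h₁⟩ ⟨m₂, h₂⟩
        exact ⟨m₁ + m₂, by rw [add_smul, h₁, h₂, smul_add]⟩
      smul_mem' := by
        rintro b a ⟨m₁, h₁⟩
        exact ⟨b • m₁, by rw [smul_eq_mul, mul_smul, h₁, smul_comm]⟩ }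
  have hI : ∀ a, a ∈ I ↔ ∃ m' : M, a • m₀ = a₀ • m' := fun a => Iff.rfl
  have hpow : ∃ k : ℕ, maximalIdeal R ^ k ≤ I := by
    by_cases htop : I = ⊤
    · exact ⟨0, by rw [htop]; exact le_top⟩
    · have hrad : maximalIdeal R ≤ I.radical := by
        rw [Ideal.radical_eq_sInf]
        refine le_sInf ?_
        rintro p ⟨hIp, hp⟩
        by_cases hpm : p = maximalIdeal R
        · rw [hpm]
        · exfalso
          obtain ⟨a, hap, ha⟩ := h p hp hpm
          exact hap (hIp ((hI a).2 ha))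
      exact Ideal.exists_pow_le_of_le_radical_of_fg hrad
        (IsNoetherian.noetherian (maximalIdeal R))
  obtain ⟨k, hk⟩ := hpow
  have key : ∀ (k : ℕ) (c : M), (∀ a ∈ maximalIdeal R ^ k, ∃ m' : M, a • c = a₀ • m') →
      ∃ c' : M, c = a₀ • c' := by
    intro k
    induction k with
    | zero =>
      intro c hc
      obtain ⟨m', hm'⟩ := hc 1 (by rw [pow_zero, Ideal.one_eq_top]; trivial)
      exact ⟨m', by rw [← hm', one_smul]⟩
    | succ k ih =>
      intro c hc
      apply ih
      intro b hb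
      apply exists_eq_smul_of_maximalIdeal_smul hdim a₀ ha₀
      intro a ha
      obtain ⟨m', hm'⟩ := hc (a * b) (by rw [pow_succ']; exact Ideal.mul_mem_mul ha hb)
      exact ⟨m', by rw [← hm', mul_smul]⟩
  exact key k m₀ fun a ha => (hI a).1 (hk ha)

end Algebra

end Groth.Agent.Lib.R2LeadHartC
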