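import Mathlib
import Groth.Prelude.Def_RefHull
import Groth.Prelude.Def_Pi1
import Groth.Agent.Lib.R2LeadHartB
import Groth.Agent.Lib.Helper8LocFact
import Groth.Agent.Lib.R2LeadHartC
import Groth.Agent.Lib.R2LeadRk1A

set_option autoImplicit false
set_option linter.style.haveILetI false
universe u

open AlgebraicGeometry CategoryTheory TopologicalSpace IsLocalRing Opposite

namespace Groth.Agent.Lib.R2LeadHartD

open Groth.Agent.Lib.R2H1.SheafGysin Groth.Agent.Lib.R2H1.LocQuot

variable {X : Scheme.{u}} [IsIntegral X]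

section Generic

variable (E : X.Modules)

/-- the map from the stalk at `x` to the generic stalk. -/
noncomputable abbrev gen (x : X) :
    E.presheaf.stalk x ⟶ E.presheaf.stalk (genericPoint X) :=
  E.presheaf.stalkSpecializes (genericPoint_specializes x)

theorem gen_germ (W : X.Opens) (x : X) (hx : x ∈ W) (s : Γ(E, W)) :
    gen E x (E.presheaf.germ W x hx s) =
      E.presheaf.germ W (genericPoint X) ((genericPoint_specializes x).mem_open W.2 hx) s :=
  ConcreteCategory.congr_hom
    (TopCat.Presheaf.germ_stalkSpecializes E.presheaf hx (genericPoint_specializes x)) s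

variable [E.IsQuasicoherent]
  (htf : ∀ (x : X) (a : X.presheaf.stalk x) (v : E.presheaf.stalk x), a • v = 0 → a = 0 ∨ v = 0)

include htf in
theorem gen_injective (x : X) : Function.Injective (gen E x) := by
  intro v w hvw
  have h0 : gen E x (v - w) = 0 := by rw [map_sub, hvw, sub_self]
  exact sub_eq_zero.1
    (Groth.Agent.Lib.R2LeadHartB.stalkSpecializes_injective E htf (genericPoint_specializes x) _ h0)

include htf in
/-- sections are determined by their generic germs. -/
theorem section_ext_gen (W : X.Opens) (s s' : Γ(E, W))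
    (h : ∀ (x : X) (hx : x ∈ W), gen E x (E.presheaf.germ W x hx s) =
      gen E x (E.presheaf.germ W x hx s')) : s = s' :=
  TopCat.Presheaf.section_ext ⟨E.presheaf, E.isSheaf⟩ W s s'
    (fun x hx => gen_injective E htf x (h x hx))

include htf in
/-- glueing: an element of the generic stalk lying in the image of all stalks at points of `U`
is the generic germ of a section over `U`. -/
theorem exists_section_of_forall_mem_range (U : X.Opens) (τ : E.presheaf.stalk (genericPoint X))
    (h : ∀ x ∈ U, ∃ σ : E.presheaf.stalk x, gen E x σ = τ) :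
    ∃ s : Γ(E, U), ∀ (x : X) (hx : x ∈ U), gen E x (E.presheaf.germ U x hx s) = τ := by
  have hloc : ∀ x : U, ∃ (W : X.Opens) (_ : x.1 ∈ W) (_ : W ≤ U) (s : Γ(E, W)),
      ∀ (y : X) (hy : y ∈ W), gen E y (E.presheaf.germ W y hy s) = τ := by
    intro x
    obtain ⟨σ, hσ⟩ := h x.1 x.2
    obtain ⟨W, hxW, s, hs⟩ := E.presheaf.exists_germ_eq (x := x.1) σ
    refine ⟨W ⊓ U, ⟨hxW, x.2⟩, inf_le_right,
      E.presheaf.map (homOfLE (inf_le_left : W ⊓ U ≤ W)).op s, ?_⟩
    intro y hy
    rw [TopCat.Presheaf.germ_res_apply, gen_germ, ← gen_germ E W x.1 hxW s, hs, hσ]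
  choose W hxW hWU s hs using hloc
  have hcompat : TopCat.Presheaf.IsCompatible E.presheaf W s := by
    intro a b
    refine section_ext_gen E htf _ _ _ (fun y hy => ?_)
    rw [TopCat.Presheaf.germ_res_apply, TopCat.Presheaf.germ_res_apply, hs a y _, hs b y _]
  obtain ⟨g, hg, -⟩ := TopCat.Sheaf.existsUnique_gluing' ⟨E.presheaf, E.isSheaf⟩ W U
    (fun a => homOfLE (hWU a))
    (fun x hx => Opens.mem_iSup.2 ⟨⟨x, hx⟩, hxW ⟨x, hx⟩⟩) s hcompat
  refine ⟨g, fun x hx => ?_⟩
  have h1 := hg ⟨x, hx⟩
  have h2 := hs ⟨x, hx⟩ x (hxW ⟨x, hx⟩)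
  rw [← h1] at h2
  rw [← h2]
  congr 1
  exact (TopCat.Presheaf.germ_res_apply E.presheaf (homOfLE (hWU ⟨x, hx⟩)) x (hxW ⟨x, hx⟩) g).symm

include htf in
/-- restriction to an open containing the generic point is injective. -/
theorem res_injective_of_torsionFree (U V : X.Opens) (hVU : V ≤ U)
    (hη : ∀ x ∈ U, genericPoint X ∈ V) :
    Function.Injective (E.presheaf.map (homOfLE hVU).op) := by
  intro s s' hss'
  refine section_ext_gen E htf U s s' (fun x hx => ?_)
  have hηV' := hη x hx
  rw [gen_germ, gen_germ,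
    ← TopCat.Presheaf.germ_res_apply E.presheaf (homOfLE hVU) (genericPoint X) hηV' s,
    ← TopCat.Presheaf.germ_res_apply E.presheaf (homOfLE hVU) (genericPoint X) hηV' s']
  exact congrArg _ hss'

omit [E.IsQuasicoherent] in
/-- the generic point lies in `V` as soon as `U` is nonempty, if `U \ V` has codimension two. -/
theorem genericPoint_mem_of_codim (U V : X.Opens)
    (hcodim : ∀ x : X, x ∈ U → x ∉ V → (2 : WithBot ℕ∞) ≤ ringKrullDim (X.presheaf.stalk x)) :
    ∀ x ∈ U, genericPoint X ∈ V := by
  intro x hx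
  have h02 : ¬ (2 : WithBot ℕ∞) ≤ 0 := by
    rw [not_le]
    exact_mod_cast (by norm_num : (0 : ℕ) < 2)
  have hηU : genericPoint X ∈ U := (genericPoint_specializes x).mem_open U.2 hx
  by_contra hn
  have h2 := hcodim _ hηU hn
  have hfield : IsField (X.presheaf.stalk (genericPoint X)) := Field.toIsField X.functionField
  have h0 : ringKrullDim (X.presheaf.stalk (genericPoint X)) = 0 :=
    ringKrullDim_eq_zero_of_isField hfield
  rw [h0] at h2
  exact h02 h2

end Generic

section Hartogs

variable [IsLocallyNoetherian X]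

/-- the dimension drops at a proper generization. -/
theorem ringKrullDim_fromSpecStalk_lt (x : X) (p : Ideal (X.presheaf.stalk x)) [hp : p.IsPrime]
    (hpm : p ≠ maximalIdeal (X.presheaf.stalk x)) :
    ringKrullDim (X.presheaf.stalk (X.fromSpecStalk x ⟨p, hp⟩)) <
      ringKrullDim (X.presheaf.stalk x) := by
  have hy : X.fromSpecStalk x ⟨p, hp⟩ ⤳ x :=
    Groth.Agent.Lib.Helper14.fromSpecStalk_specializes X x ⟨p, hp⟩
  have hker : RingHom.ker (Cyc.specMap x _ hy) = p := ker_specMap_fromSpecStalk x p hy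
  rw [Groth.Agent.Lib.Helper8.LocFact.ringKrullDim_stalk_eq_height_comap X hy,
    ← IsLocalRing.maximalIdeal_height_eq_ringKrullDim]
  have hcomap : (maximalIdeal (X.presheaf.stalk (X.fromSpecStalk x ⟨p, hp⟩))).comap
      (X.presheaf.stalkSpecializes hy).hom = p := by
    refine Eq.trans ?_ hker
    ext a
    rw [Ideal.mem_comap, RingHom.mem_ker]
    unfold Cyc.specMap
    rw [CommRingCat.hom_comp, RingHom.comp_apply]
    exact (IsLocalRing.residue_eq_zero_iff _).symm
  rw [hcomap]
  have hlt : p < maximalIdeal (X.presheaf.stalk x) :=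
    lt_of_le_of_ne (IsLocalRing.le_maximalIdeal hp.ne_top) hpm
  exact_mod_cast Ideal.height_strict_mono_of_isPrime hlt

variable (hX : Pi1.IsNormalScheme X) (E : X.Modules) (hE : Coh.IsCoh E)
  (hrefl : ∀ x : X, Module.IsReflexive (X.presheaf.stalk x) (E.presheaf.stalk x))

include hX hrefl in
theorem torsionFree_of_reflexive_stalks (x : X) (a : X.presheaf.stalk x)
    (v : E.presheaf.stalk x) (h : a • v = 0) : a = 0 ∨ v = 0 := by
  haveI := (hX x).1
  haveI := hrefl x
  exact Groth.Agent.Lib.R2LeadRk1A.torsionFree_of_isReflexive a v h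

include hX hE hrefl in
/-- key step: if `τ` comes from the stalks at all proper generizations of `x` and `dim O_x ≥ 2`,
then `τ` comes from the stalk at `x`. -/
theorem mem_range_gen_of_generizations (x : X) (hdim : ¬ ringKrullDim (X.presheaf.stalk x) ≤ 1)
    (τ : E.presheaf.stalk (genericPoint X))
    (h : ∀ y : X, y ⤳ x → y ≠ x → ∃ σ : E.presheaf.stalk y, gen E y σ = τ) :
    ∃ σ : E.presheaf.stalk x, gen E x σ = τ := by
  haveI := (hX x).1
  haveI := (hX x).2
  haveI := hrefl x
  haveI : E.IsQuasicoherent := hE.1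
  have htf := torsionFree_of_reflexive_stalks hX E hrefl
  have hη : genericPoint X ⤳ x := genericPoint_specializes x
  letI := moduleStalkGen E x (genericPoint X) hη
  haveI hloc := isLocalizedModule_stalkSpecializes E x (genericPoint X) hη
  obtain ⟨⟨m₀, s⟩, hs⟩ := IsLocalizedModule.surj
    (RingHom.ker (Cyc.specMap x (genericPoint X) hη)).primeCompl (spₗ E x (genericPoint X) hη) τ
  have hs' : (X.presheaf.stalkSpecializes hη).hom (s : X.presheaf.stalk x) • τ = gen E x m₀ := hs
  have hsm : ∀ (c : X.presheaf.stalk x) (v : E.presheaf.stalk x),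
      gen E x (c • v) = (X.presheaf.stalkSpecializes hη).hom c • gen E x v := fun c v =>
    Groth.Agent.Lib.R2H1.SecDiv.stalkSpecializes_smul E hη c v
  have ha₀ : (s : X.presheaf.stalk x) ≠ 0 := fun h0 => s.2 (by rw [h0]; exact Submodule.zero_mem _)
  have hprime : ∀ p : Ideal (X.presheaf.stalk x), p.IsPrime → p ≠ maximalIdeal (X.presheaf.stalk x) →
      ∃ a : X.presheaf.stalk x, a ∉ p ∧ ∃ m' : E.presheaf.stalk x,
        a • m₀ = (s : X.presheaf.stalk x) • m' := by
    intro p hp hpm
    have hy : X.fromSpecStalk x ⟨p, hp⟩ ⤳ x :=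
      Groth.Agent.Lib.Helper14.fromSpecStalk_specializes X x ⟨p, hp⟩
    have hne : X.fromSpecStalk x ⟨p, hp⟩ ≠ x := fromSpecStalk_ne_of_ne_maximal x ⟨p, hp⟩ hpm
    obtain ⟨σ, hσ⟩ := h _ hy hne
    have hker : RingHom.ker (Cyc.specMap x _ hy) = p := ker_specMap_fromSpecStalk x p hy
    letI := moduleStalkGen E x (X.fromSpecStalk x ⟨p, hp⟩) hy
    haveI hloc' := isLocalizedModule_stalkSpecializes E x (X.fromSpecStalk x ⟨p, hp⟩) hy
    obtain ⟨⟨n, u⟩, hu⟩ := IsLocalizedModule.surj
      (RingHom.ker (Cyc.specMap x (X.fromSpecStalk x ⟨p, hp⟩) hy)).primeCompl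
      (spₗ E x (X.fromSpecStalk x ⟨p, hp⟩) hy) σ
    have hu' : (X.presheaf.stalkSpecializes hy).hom (u : X.presheaf.stalk x) • σ =
        E.presheaf.stalkSpecializes hy n := hu
    refine ⟨(u : X.presheaf.stalk x), fun hmem => u.2 (hker.ge hmem), n, ?_⟩
    apply gen_injective E htf x
    have hcompE : gen E x n = gen E _ (E.presheaf.stalkSpecializes hy n) :=
      (TopCat.Presheaf.stalkSpecializes_comp_apply E.presheaf
        (genericPoint_specializes (X.fromSpecStalk x ⟨p, hp⟩)) hy n).symm
    have hcompO : (X.presheaf.stalkSpecializes hη).hom (u : X.presheaf.stalk x) =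
        (X.presheaf.stalkSpecializes (genericPoint_specializes (X.fromSpecStalk x ⟨p, hp⟩))).hom
          ((X.presheaf.stalkSpecializes hy).hom (u : X.presheaf.stalk x)) :=
      (TopCat.Presheaf.stalkSpecializes_comp_apply X.presheaf
        (genericPoint_specializes (X.fromSpecStalk x ⟨p, hp⟩)) hy _).symm
    rw [hsm, hsm, ← hs', hcompE, ← hu',
      Groth.Agent.Lib.R2H1.SecDiv.stalkSpecializes_smul E
        (genericPoint_specializes (X.fromSpecStalk x ⟨p, hp⟩)), hσ, ← hcompO, smul_smul, smul_smul,
      mul_comm]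
  obtain ⟨c', hc'⟩ := Groth.Agent.Lib.R2LeadHartC.exists_eq_smul_of_forall_prime hdim
    (s : X.presheaf.stalk x) ha₀ m₀ hprime
  refine ⟨c', ?_⟩
  have h1 : (fun m : E.presheaf.stalk (genericPoint X) => s • m) (gen E x c') =
      (fun m : E.presheaf.stalk (genericPoint X) => s • m) τ := by
    change (X.presheaf.stalkSpecializes hη).hom (s : X.presheaf.stalk x) • gen E x c' =
      (X.presheaf.stalkSpecializes hη).hom (s : X.presheaf.stalk x) • τ
    rw [hs', hc', hsm]
  exact IsLocalizedModule.smul_injective (spₗ E x (genericPoint X) hη) s h1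

include hX hE hrefl in
/-- **Hartogs for reflexive modules**: on a normal integral locally Noetherian scheme, sections of
a coherent module with reflexive stalks extend uniquely over closed subsets all of whose points
have local rings of dimension at least two. -/
theorem hartogs (U V : X.Opens) (hVU : V ≤ U)
    (hcodim : ∀ x : X, x ∈ U → x ∉ V → (2 : WithBot ℕ∞) ≤ ringKrullDim (X.presheaf.stalk x)) :
    Function.Bijective (E.presheaf.map (homOfLE hVU).op) := by
  haveI : E.IsQuasicoherent := hE.1
  have htf := torsionFree_of_reflexive_stalks hX E hrefl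
  have h12 : ¬ (2 : WithBot ℕ∞) ≤ 1 := by
    rw [not_le]
    exact_mod_cast (by norm_num : (1 : ℕ) < 2)
  have hηV := genericPoint_mem_of_codim U V hcodim
  refine ⟨res_injective_of_torsionFree E htf U V hVU hηV, ?_⟩
  · intro t
    by_cases hne : ∃ x, x ∈ U
    · obtain ⟨x₀, hx₀⟩ := hne
      have hηV' := hηV x₀ hx₀
      set τ := E.presheaf.germ V (genericPoint X) hηV' t with hτ
      have hP : ∀ x ∈ U, ∃ σ : E.presheaf.stalk x, gen E x σ = τ := by
        have wf := InvImage.wf (fun x : X => ringKrullDim (X.presheaf.stalk x))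
          (wellFounded_lt (α := WithBot ℕ∞))
        intro x
        refine wf.induction (C := fun x => x ∈ U → ∃ σ : E.presheaf.stalk x, gen E x σ = τ) x ?_
        intro x ih hxU
        by_cases hxV : x ∈ V
        · exact ⟨E.presheaf.germ V x hxV t, gen_germ E V x hxV t⟩
        · have h2 := hcodim x hxU hxV
          have hdim : ¬ ringKrullDim (X.presheaf.stalk x) ≤ 1 := fun h1 => h12 (h2.trans h1)
          apply mem_range_gen_of_generizations hX E hE hrefl x hdim τ
          intro y hy hyne
          obtain ⟨z, rfl⟩ := Groth.Agent.Lib.Helper14.exists_fromSpecStalk_eq X x y hy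
          have hzm : z.asIdeal ≠ maximalIdeal (X.presheaf.stalk x) := by
            intro hzm
            apply hyne
            have hz : z = closedPoint (X.presheaf.stalk x) := PrimeSpectrum.ext hzm
            rw [hz, Scheme.fromSpecStalk_closedPoint]
          haveI := z.2
          have hlt := ringKrullDim_fromSpecStalk_lt x z.asIdeal hzm
          exact ih _ hlt (hy.mem_open U.2 hxU)
      obtain ⟨s, hs⟩ := exists_section_of_forall_mem_range E htf U τ hP
      refine ⟨s, ?_⟩
      refine section_ext_gen E htf V _ t (fun x hx => ?_)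
      rw [TopCat.Presheaf.germ_res_apply, hs x (hVU hx), gen_germ]
    · exact ⟨0, section_ext_gen E htf V _ t (fun x hx => absurd ⟨x, hVU hx⟩ hne)⟩

end Hartogs

end Groth.Agent.Lib.R2LeadHartD
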