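import Mathlib
import Groth.Prelude.Def_RefHull
import Groth.Prelude.Def_TorSh
import Groth.Agent.S2821
import Groth.Agent.Lib.R2LeadHartD
import Groth.Agent.Lib.Helper20StalkExact

set_option autoImplicit false
set_option linter.style.haveILetI false
universe u

open AlgebraicGeometry CategoryTheory TopologicalSpace IsLocalRing Opposite

namespace Groth.Agent.Lib.R2LeadHartE

open Groth.Agent.Lib.R2LeadHartD

variable {X : Scheme.{u}} [IsIntegral X] [IsLocallyNoetherian X]

/-- regular schemes are normal. -/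
theorem isNormalScheme_of_regular (hreg : ∀ x : X, IsRegularLocalRing (X.presheaf.stalk x)) :
    Pi1.IsNormalScheme X := by
  intro x
  haveI := hreg x
  obtain ⟨h1, h2⟩ := Groth.Agent.S2821.result (X.presheaf.stalk x)
  haveI := h1
  haveI := h2
  exact ⟨h1, inferInstance⟩

/-- stalks of a coherent reflexive module are reflexive. -/
theorem reflexive_stalks (F : X.Modules) (hF : Coh.IsCoh F) (hrefl : RefHull.IsReflexive F) (x : X) :
    Module.IsReflexive (X.presheaf.stalk x) (F.presheaf.stalk x) := by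
  have h01 : RefHull.IsReflexive F ↔ ∀ x : ↥X, RefHull.IsReflexiveAt F x :=
    (Groth.Agent.Lib.R2Lead.ReflB.tfae F hF).out 0 1
  exact h01.1 hrefl x

theorem app_res {M N : X.Modules} (φ : M ⟶ N) {U V : X.Opens} (hVU : V ≤ U) (s : Γ(M, U)) :
    Scheme.Modules.Hom.app φ V (M.presheaf.map (homOfLE hVU).op s) =
      N.presheaf.map (homOfLE hVU).op (Scheme.Modules.Hom.app φ U s) :=
  congr($((Scheme.Modules.Hom.mapPresheaf φ).naturality (homOfLE hVU).op) s)

/-- a subsheaf of a "normal" module with torsion-free quotient is "normal". -/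
theorem main (hX : Pi1.IsNormalScheme X) (S : ShortComplex X.Modules) (hS : S.ShortExact)
    (hE : Coh.IsCoh S.X₂) (hQ : Coh.IsCoh S.X₃)
    (hErefl : ∀ x : X, Module.IsReflexive (X.presheaf.stalk x) (S.X₂.presheaf.stalk x))
    (hQtf : ∀ (x : X) (a : X.presheaf.stalk x) (v : S.X₃.presheaf.stalk x),
      a • v = 0 → a = 0 ∨ v = 0)
    (U V : X.Opens) (hVU : V ≤ U)
    (hcodim : ∀ x : X, x ∈ U → x ∉ V → (2 : WithBot ℕ∞) ≤ ringKrullDim (X.presheaf.stalk x)) :
    Function.Bijective (S.X₁.presheaf.map (homOfLE hVU).op) := by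
  haveI := hS.mono_f
  haveI : S.X₃.IsQuasicoherent := hQ.1
  have hH := hartogs hX S.X₂ hE hErefl U V hVU hcodim
  have hηV := genericPoint_mem_of_codim U V hcodim
  constructor
  · intro s s' hss'
    apply Groth.Agent.Lib.Helper20.StalkExact.injective_app_of_mono S.f U
    apply hH.1
    rw [← app_res, ← app_res, hss']
  · intro t
    obtain ⟨e, he⟩ := hH.2 (Scheme.Modules.Hom.app S.f V t)
    have hge : Scheme.Modules.Hom.app S.g U e = 0 := by
      apply res_injective_of_torsionFree S.X₃ hQtf U V hVU hηV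
      rw [← app_res, he, map_zero]
      have h0 : S.f ≫ S.g = 0 := S.zero
      have h1 : Scheme.Modules.Hom.app (S.f ≫ S.g) V t = 0 := by rw [h0]; rfl
      exact h1
    obtain ⟨r, hr⟩ := Groth.Agent.Lib.Helper20.StalkExact.exists_app_eq_of_exact S hS U e hge
    refine ⟨r, ?_⟩
    apply Groth.Agent.Lib.Helper20.StalkExact.injective_app_of_mono S.f V
    rw [app_res, hr, he]

end Groth.Agent.Lib.R2LeadHartE
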