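import Mathlib
import Groth.Prelude.Def_RefHull
import Groth.Prelude.Def_TorSh
import Groth.Agent.Lib.R2LeadHartE
import Groth.Agent.Lib.R2LeadExtReg
import Groth.Agent.Lib.R2H7PrescribedOrders

set_option autoImplicit false
set_option linter.style.haveILetI false
universe u

open AlgebraicGeometry CategoryTheory TopologicalSpace IsLocalRing Opposite RefHull

namespace Groth.Agent.Lib.R2LeadHartF

open Groth.Agent.Lib.R2LeadHartD Groth.Agent.Lib.R2LeadHartE Groth.Agent.Lib.R2Lead.ReflB

section Algebra

/-- a finite torsion-free module over a normal Noetherian local domain of dimension at most one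
is free. -/
theorem free_of_dim_le_one (R : Type*) [CommRing R] [IsDomain R] [IsLocalRing R]
    [IsNoetherianRing R] [IsIntegrallyClosed R] (h : ringKrullDim R ≤ 1)
    (M : Type*) [AddCommGroup M] [Module R M] [Module.Finite R M] [Module.IsTorsionFree R M] :
    Module.Free R M := by
  by_cases h0 : ringKrullDim R ≤ 0
  · haveI : Ring.KrullDimLE 0 R := Ring.krullDimLE_iff.mpr h0
    have hf : IsField R := Ring.KrullDimLE.isField_of_isDomain
    letI := hf.toField
    exact Module.Free.of_divisionRing R M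
  · have h1 : ringKrullDim R = 1 := by
      refine le_antisymm h ?_
      cases hd : ringKrullDim R with
      | bot => rw [hd] at h0; exact absurd bot_le h0
      | coe m =>
        rw [hd] at h0
        have hm : ¬ m ≤ 0 := fun hm => h0 (by exact_mod_cast hm)
        have : (1 : ℕ∞) ≤ m := Order.one_le_iff_pos.2 (lt_of_not_ge hm)
        exact_mod_cast this
    haveI := Groth.Agent.Lib.R2H7.PrescribedOrders.isDVR_of_dim_one R h1
    infer_instance

theorem le_one_of_not_two_le (d : WithBot ℕ∞) (h : ¬ (2 : WithBot ℕ∞) ≤ d) : d ≤ 1 := by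
  cases d with
  | bot => exact bot_le
  | coe m =>
    have h2 : ¬ (2 : ℕ∞) ≤ m := fun h2 =>
      h (show ((2 : ℕ∞) : WithBot ℕ∞) ≤ (m : WithBot ℕ∞) from WithBot.coe_le_coe.2 h2)
    rw [not_le] at h2
    have : m ≤ 1 := by
      lift m to ℕ using (ne_top_of_lt h2)
      have : m < 2 := by exact_mod_cast h2
      have : m ≤ 1 := by omega
      exact_mod_cast this
    exact (show (m : WithBot ℕ∞) ≤ ((1 : ℕ∞) : WithBot ℕ∞) from WithBot.coe_le_coe.2 this)

end Algebra

variable {X : Scheme.{u}} [IsIntegral X] [IsLocallyNoetherian X]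

theorem gen_stalkMapₗ {M N : X.Modules} (φ : M ⟶ N) (x : X) (v : M.presheaf.stalk x) :
    gen N x (stalkMapₗ φ x v) = stalkMapₗ φ (genericPoint X) (gen M x v) :=
  (ConcreteCategory.congr_hom (TopCat.Presheaf.stalkSpecializes_stalkFunctor_map φ.mapPresheaf
    (genericPoint_specializes x)) v).symm

/-- a coherent torsion-free "normal" module on a normal scheme is reflexive. -/
theorem isReflexive_of_normal (hX : Pi1.IsNormalScheme X) (F : X.Modules) (hF : Coh.IsCoh F)
    (htf : ∀ (x : X) (a : X.presheaf.stalk x) (v : F.presheaf.stalk x), a • v = 0 → a = 0 ∨ v = 0)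
    (hnorm : ∀ (U V : X.Opens) (hVU : V ≤ U),
      (∀ x : X, x ∈ U → x ∉ V → (2 : WithBot ℕ∞) ≤ ringKrullDim (X.presheaf.stalk x)) →
        Function.Bijective (F.presheaf.map (homOfLE hVU).op)) :
    RefHull.IsReflexive F := by
  haveI : F.IsQuasicoherent := hF.1
  have hGcoh : Coh.IsCoh (ddual F) := isCoh_dual (dual F) (isCoh_dual F hF)
  haveI : (ddual F).IsQuasicoherent := hGcoh.1
  have hGrefl : RefHull.IsReflexive (ddual F) :=
    Groth.Agent.Lib.R2Lead.ReflC.isReflexive_homSh (dual F) (Coh.structureModule X)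
      (isCoh_dual F hF) (isCoh_structureModule X)
      Groth.Agent.Lib.R2LeadExtReg.isReflexive_structureModule
  have hGx := reflexive_stalks (ddual F) hGcoh hGrefl
  have hGtf := torsionFree_of_reflexive_stalks hX (ddual F) hGx
  -- bijectivity at points of dimension at most one
  have h1 : ∀ x : X, ringKrullDim (X.presheaf.stalk x) ≤ 1 →
      Function.Bijective (stalkMapₗ (bidualMap F) x) := by
    intro x hx
    haveI := (hX x).1
    haveI := (hX x).2
    haveI : Module.Finite (X.presheaf.stalk x) (F.presheaf.stalk x) :=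
      Groth.Agent.Lib.R2Lead.ReflC.finite_stalk F hF x
    haveI : Module.IsTorsionFree (X.presheaf.stalk x) (F.presheaf.stalk x) :=
      Module.isTorsionFree_iff_smul_eq_zero.2 (htf x)
    haveI : Module.Free (X.presheaf.stalk x) (F.presheaf.stalk x) :=
      free_of_dim_le_one (X.presheaf.stalk x) hx (F.presheaf.stalk x)
    have hr : RefHull.IsReflexiveAt F x := by
      unfold RefHull.IsReflexiveAt
      infer_instance
    exact (isReflexiveAt_iff F hF x).1 hr
  have hη : Function.Bijective (stalkMapₗ (bidualMap F) (genericPoint X)) := by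
    apply h1
    have hfield : IsField (X.presheaf.stalk (genericPoint X)) := Field.toIsField X.functionField
    rw [ringKrullDim_eq_zero_of_isField hfield]
    exact zero_le_one
  -- injectivity on all stalks
  have hinj : ∀ x : X, Function.Injective (stalkMapₗ (bidualMap F) x) := by
    intro x v w hvw
    apply gen_injective F htf x
    apply hη.1
    rw [← gen_stalkMapₗ, ← gen_stalkMapₗ, hvw]
  -- surjectivity on sections
  have hsurj : ∀ (W : X.Opens) (g : Γ(ddual F, W)), ∃ f : Γ(F, W), (bidualMap F).app W f = g := by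
    intro W g
    by_cases hne : ∃ x, x ∈ W
    · obtain ⟨x₀, hx₀⟩ := hne
      have hηW : genericPoint X ∈ W := (genericPoint_specializes x₀).mem_open W.2 hx₀
      obtain ⟨τ, hτ⟩ := hη.2 ((ddual F).presheaf.germ W (genericPoint X) hηW g)
      let Vs : Set X := {y | ∃ hy : y ∈ W, (ddual F).presheaf.germ W y hy g ∈
        Set.range (stalkMapₗ (bidualMap F) y)}
      have hVopen : IsOpen Vs := by
        rw [isOpen_iff_forall_mem_open]
        rintro y ⟨hy, v, hv⟩
        obtain ⟨W₁, hyW₁, f, rfl⟩ := F.presheaf.exists_germ_eq (x := y) v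
        rw [stalkMapₗ_germ] at hv
        obtain ⟨W₂, hyW₂, i₁, i₂, he⟩ := (ddual F).presheaf.germ_eq y hyW₁ hy _ _ hv
        refine ⟨W₂, ?_, W₂.2, hyW₂⟩
        intro z hz
        refine ⟨i₂.le hz, F.presheaf.germ W₁ z (i₁.le hz) f, ?_⟩
        rw [stalkMapₗ_germ, ← TopCat.Presheaf.germ_res_apply (ddual F).presheaf i₁ z hz,
          ← TopCat.Presheaf.germ_res_apply (ddual F).presheaf i₂ z hz, he]
      let V : X.Opens := ⟨Vs, hVopen⟩
      have hVW : V ≤ W := fun y hy => hy.1
      have hcodim : ∀ x : X, x ∈ W → x ∉ V →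
          (2 : WithBot ℕ∞) ≤ ringKrullDim (X.presheaf.stalk x) := by
        intro x hxW hxV
        by_contra h2
        apply hxV
        exact ⟨hxW, (h1 x (le_one_of_not_two_le _ h2)).2 _⟩
      -- the section over `V`
      have hP : ∀ y ∈ V, ∃ σ : F.presheaf.stalk y, gen F y σ = τ := by
        rintro y ⟨hy, v, hv⟩
        refine ⟨v, ?_⟩
        apply hη.1
        rw [← gen_stalkMapₗ, hv, gen_germ, hτ]
      obtain ⟨f, hf⟩ := exists_section_of_forall_mem_range F htf V τ hP
      obtain ⟨f', hf'⟩ := (hnorm W V hVW hcodim).2 f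
      refine ⟨f', ?_⟩
      have hηV : genericPoint X ∈ V :=
        genericPoint_mem_of_codim W V hcodim x₀ hx₀
      refine section_ext_gen (ddual F) hGtf W _ g (fun x hx => ?_)
      rw [← stalkMapₗ_germ, gen_stalkMapₗ, gen_germ, gen_germ, ← hτ]
      congr 1
      rw [← hf (genericPoint X) hηV, ← hf']
      rw [TopCat.Presheaf.germ_res_apply]
      exact (gen_germ F W (genericPoint X) hηW f').symm
    · exact ⟨0, section_ext_gen (ddual F) hGtf W _ g (fun x hx => absurd ⟨x, hx⟩ hne)⟩
  rw [isReflexive_iff]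
  intro x
  refine ⟨hinj x, fun v => ?_⟩
  obtain ⟨W, hxW, g, rfl⟩ := (ddual F).presheaf.exists_germ_eq (x := x) v
  obtain ⟨f, hf⟩ := hsurj W g
  exact ⟨F.presheaf.germ W x hxW f, by rw [stalkMapₗ_germ, hf]⟩

end Groth.Agent.Lib.R2LeadHartF
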