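import Mathlib
import Groth.Prelude.Def_RefHull
import Groth.Agent.Lib.R2LeadHartF
import Groth.Agent.Lib.R2LeadReflC
import Groth.Agent.Lib.Helper8RefHullFP
import Groth.Agent.Lib.R2H2HomShC

/-!
# Extending generic homomorphisms to reflexive modules (helper8)

On an integral normal locally Noetherian scheme, a linear map `T : F_η → G_η` of generic stalks
(`F`, `G` coherent, `G` reflexive) which is induced by linear maps `F_x → G_x` at all points `x` with
`dim O_x ≤ 1` is the generic stalk map of a morphism `F ⟶ G` (`exists_hom_of_local`).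
-/

set_option autoImplicit false
set_option linter.style.haveILetI false
set_option linter.unusedSectionVars false
universe u

namespace Groth.Agent.Lib.Helper8RefExt

open AlgebraicGeometry CategoryTheory TopologicalSpace IsLocalRing Opposite RefHull
  Groth.Agent.Lib.R2LeadHartD Groth.Agent.Lib.R2LeadHartE Groth.Agent.Lib.R2LeadHartF
  Groth.Agent.Lib.R2H2.HomShA Groth.Agent.Lib.R2H1.SheafGysin Groth.Agent.Lib.R2H1.LocQuot

variable {X : Scheme.{u}} [IsIntegral X] [IsLocallyNoetherian X]

/-- compatibility of `evalStalk` with the maps to the generic stalks. -/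
theorem gen_evalStalk (F G : X.Modules) (x : X) (σ : (homSh F G).presheaf.stalk x)
    (v : F.presheaf.stalk x) :
    evalStalk F G (genericPoint X) (gen (homSh F G) x σ) (gen F x v) =
      gen G x (evalStalk F G x σ v) := by
  obtain ⟨U, hxU, g, rfl⟩ := TopCat.Presheaf.exists_germ_eq (homSh F G).presheaf σ
  obtain ⟨V, hxV, m, rfl⟩ := TopCat.Presheaf.exists_germ_eq F.presheaf v
  have hxW : x ∈ U ⊓ V := ⟨hxU, hxV⟩
  obtain ⟨W', hxW', j, n, hn⟩ := isLocSect_of_mem g (U ⊓ V) (homOfLE inf_le_left)
    (F.presheaf.map (homOfLE (inf_le_right : U ⊓ V ≤ V)).op m) ⟨x, hxW⟩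
  have hηW' : genericPoint X ∈ W' := (genericPoint_specializes x).mem_open W'.2 hxW'
  have hη := hn ⟨genericPoint X, hηW'⟩
  have hx := hn ⟨x, hxW'⟩
  simp only [] at hη hx
  rw [TopCat.Presheaf.germ_res_apply] at hη hx
  rw [gen_germ, gen_germ, evalStalk_germ, evalStalk_germ, hη, hx, gen_germ]

/-- linear maps out of the generic stalk are determined on the image of a stalk. -/
theorem linearMap_ext_gen (F G : X.Modules) [F.IsQuasicoherent] (x : X)
    (A B : F.presheaf.stalk (genericPoint X) →ₗ[X.presheaf.stalk (genericPoint X)]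
      G.presheaf.stalk (genericPoint X))
    (h : ∀ v : F.presheaf.stalk x, A (gen F x v) = B (gen F x v)) : A = B := by
  have hηx : genericPoint X ⤳ x := genericPoint_specializes x
  letI := moduleStalkGen F x (genericPoint X) hηx
  haveI hloc := isLocalizedModule_stalkSpecializes F x (genericPoint X) hηx
  apply LinearMap.ext
  intro w
  obtain ⟨⟨v, t⟩, hvt⟩ := IsLocalizedModule.surj
    (RingHom.ker (Cyc.specMap x (genericPoint X) hηx)).primeCompl
    (spₗ F x (genericPoint X) hηx) w
  have hvt' : (X.presheaf.stalkSpecializes hηx).hom (t : X.presheaf.stalk x) • w = gen F x v := hvt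
  have htu : IsUnit ((X.presheaf.stalkSpecializes hηx).hom (t : X.presheaf.stalk x)) :=
    (mem_primeCompl_ker_specMap_iff x (genericPoint X) hηx _).1 t.2
  have h1 := h v
  rw [← hvt', map_smul, map_smul] at h1
  exact htu.smul_left_cancel.1 h1

/-- **extension of generic homomorphisms**. -/
theorem exists_hom_of_local (hX : Pi1.IsNormalScheme X) (F G : X.Modules) (hF : Coh.IsCoh F)
    (hG : Coh.IsCoh G) (hGr : RefHull.IsReflexive G)
    (T : F.presheaf.stalk (genericPoint X) →ₗ[X.presheaf.stalk (genericPoint X)]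
      G.presheaf.stalk (genericPoint X))
    (hloc : ∀ x : X, ringKrullDim (X.presheaf.stalk x) ≤ 1 →
      ∃ θ : F.presheaf.stalk x →ₗ[X.presheaf.stalk x] G.presheaf.stalk x,
        ∀ v, gen G x (θ v) = T (gen F x v)) :
    ∃ φ : F ⟶ G, stalkMapₗ φ (genericPoint X) = T := by
  haveI : F.IsQuasicoherent := hF.1
  set E := homSh F G with hEdef
  have hE : Coh.IsCoh E := Groth.Agent.Lib.R2H2.HomShC.isCoh_homSh hF hG
  have hEr : RefHull.IsReflexive E :=
    Groth.Agent.Lib.R2Lead.ReflC.isReflexive_homSh F G hF hG hGr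
  have hrefl := reflexive_stalks E hE hEr
  haveI : E.IsQuasicoherent := hE.1
  have htf := torsionFree_of_reflexive_stalks hX E hrefl
  have hFP : CohB1.IsFP F := Groth.Agent.Lib.R2Lead.ReflB.isFP_of_isCoh F hF
  have hbij := fun x => Groth.Agent.Lib.Helper8RefHullFP.evalStalk_bijective_of_isFP F G hFP x
  obtain ⟨τ, hτ⟩ := (hbij (genericPoint X)).2 T
  have hP : ∀ x : X, ∃ σ : E.presheaf.stalk x, gen E x σ = τ := by
    have wf := InvImage.wf (fun x : X => ringKrullDim (X.presheaf.stalk x))
      (wellFounded_lt (α := WithBot ℕ∞))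
    intro x
    refine wf.induction (C := fun x => ∃ σ : E.presheaf.stalk x, gen E x σ = τ) x ?_
    intro x ih
    by_cases hdim : ringKrullDim (X.presheaf.stalk x) ≤ 1
    · obtain ⟨θ, hθ⟩ := hloc x hdim
      obtain ⟨σ, hσ⟩ := (hbij x).2 θ
      refine ⟨σ, (hbij (genericPoint X)).1 ?_⟩
      rw [hτ]
      apply linearMap_ext_gen F G x
      intro v
      rw [gen_evalStalk, hσ, hθ]
    · apply mem_range_gen_of_generizations hX E hE hrefl x hdim τ
      intro y hy hyne
      obtain ⟨z, rfl⟩ := Groth.Agent.Lib.Helper14.exists_fromSpecStalk_eq X x y hy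
      have hzm : z.asIdeal ≠ maximalIdeal (X.presheaf.stalk x) := by
        intro hzm
        apply hyne
        have hz : z = closedPoint (X.presheaf.stalk x) := PrimeSpectrum.ext hzm
        rw [hz, Scheme.fromSpecStalk_closedPoint]
      haveI := z.2
      have hlt := ringKrullDim_fromSpecStalk_lt x z.asIdeal hzm
      exact ih _ hlt
  obtain ⟨s, hs⟩ := exists_section_of_forall_mem_range E htf ⊤ τ (fun x _ => hP x)
  refine ⟨toHom s, ?_⟩
  have h1 : stalkMapₗ (toHom s) (genericPoint X) = (ofHom (toHom s) ⊤).1 ⟨genericPoint X, trivial⟩ :=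
    rfl
  have h2 : E.presheaf.germ ⊤ (genericPoint X) trivial s = τ := by
    have := hs (genericPoint X) trivial
    rwa [gen_germ] at this
  have h3 : evalStalk F G (genericPoint X) (E.presheaf.germ ⊤ (genericPoint X) trivial s) =
      s.1 ⟨genericPoint X, trivial⟩ :=
    evalStalk_germ F G (U := ⊤) (genericPoint X) trivial s
  rw [h1, ofHom_toHom, ← h3, h2, hτ]

end Groth.Agent.Lib.Helper8RefExt
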