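import Mathlib
import Groth.Prelude.Def_Cyc
import Groth.Prelude.Def_C1
import Groth.Agent.Lib.R2H1C1Comm

/-!
# Comparison of Mathlib's order of vanishing with the order along a specialization (helper8)

On an integral locally Noetherian scheme `X` with generic point `η`, for a point `x` of coheight one
and a rational function `f`: `Scheme.ord f x = Cyc.ordAt x η h (X.residue η f)`.
-/

set_option autoImplicit false
set_option linter.style.haveILetI false
set_option linter.unusedSectionVars false
universe u

namespace Groth.Agent.Lib.Helper8OrdCompare

open AlgebraicGeometry CategoryTheory TopologicalSpace IsLocalRing CycAlg Opposite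
  Groth.Agent.Lib.R2H1.C1Comm Groth.Agent.Lib.R2H1.LocQuot Groth.Agent.Lib.R2H1.RatEquivOpen

variable {X : Scheme.{u}} [IsIntegral X] [IsLocallyNoetherian X]

/-- Mathlib's order of vanishing in terms of `CycAlg.ordFrac`. -/
theorem scheme_ord_eq_ordFrac (x : X) (hx : Order.coheight x = 1) (f : X.functionField) :
    Scheme.ord f x = CycAlg.ordFrac (X.presheaf.stalk x) X.functionField f := by
  haveI : Ring.KrullDimLE 1 (X.presheaf.stalk x) := krullDimLE_of_coheight_le hx.le
  have hc : IsNoetherianRing (X.presheaf.stalk x) ∧ Ring.KrullDimLE 1 (X.presheaf.stalk x) ∧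
      Nontrivial (X.presheaf.stalk x) ∧ IsFractionRing (X.presheaf.stalk x) X.functionField :=
    ⟨inferInstance, inferInstance, inferInstance, inferInstance⟩
  unfold CycAlg.ordFrac
  rw [dif_pos hc, Scheme.ord_eq_ordHom_of_coheight_eq_one hx]
  unfold Scheme.ordHom
  generalize Ring.ordFrac (X.presheaf.stalk x) f = v
  cases v using WithZero.recZeroCoe with
  | zero => rfl
  | coe z => rfl

/-- the local ring at `x` as the quotient by the prime of the generic point. -/
noncomputable def eLoc (x : X) (h : genericPoint X ⤳ x) :
    X.presheaf.stalk x ≃+* Cyc.LocQuot x (genericPoint X) h :=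
  RingEquiv.ofBijective (Ideal.Quotient.mk (RingHom.ker (Cyc.specMap x (genericPoint X) h)))
    ⟨by
      rw [injective_iff_map_eq_zero]
      intro a ha
      rw [Ideal.Quotient.eq_zero_iff_mem, RingHom.mem_ker] at ha
      exact (injective_iff_map_eq_zero _).1 (specMap_generic_injective x h) a ha,
     Ideal.Quotient.mk_surjective⟩

/-- the function field as the residue field of the generic point. -/
noncomputable def eK : X.functionField ≃+* X.residueField (genericPoint X) :=
  RingEquiv.ofBijective (X.residue (genericPoint X)).hom
    ⟨RingHom.injective ((X.residue (genericPoint X)).hom :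
      X.functionField →+* X.residueField (genericPoint X)),
     X.residue_surjective (genericPoint X)⟩

theorem eK_apply (f : X.functionField) :
    eK (X := X) f = X.residue (genericPoint X) f := rfl

/-- **comparison**: Mathlib's order of vanishing at a point of coheight one is the order along the
specialization from the generic point. -/
theorem scheme_ord_eq_ordAt (x : X) (hx : Order.coheight x = 1) (h : genericPoint X ⤳ x)
    (f : X.functionField) :
    Scheme.ord f x = Cyc.ordAt x (genericPoint X) h (X.residue (genericPoint X) f) := by
  rw [scheme_ord_eq_ordFrac x hx f]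
  unfold Cyc.ordAt
  rw [ordFrac_congr (eLoc x h) (eK (X := X)) ?_ f]
  · rfl
  · intro r
    change X.residue (genericPoint X) (algebraMap (X.presheaf.stalk x) X.functionField r) =
      algebraMap (Cyc.LocQuot x (genericPoint X) h) (X.residueField (genericPoint X))
        (Ideal.Quotient.mk _ r)
    rw [algebraMap_locQuot_mk]
    rfl

end Groth.Agent.Lib.Helper8OrdCompare
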