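import Mathlib
import Groth.Prelude.Def_Cyc
import Groth.Prelude.Def_C1
import Groth.Agent.Lib.R2H1C1Tensor

/-!
# Orders of rational sections of a tensor product of invertible modules (helper8)

Versions of `R2H1.LocQuot.ordAt_mul`, `R2H1.LocQuot.secOrdAt_eq` and `R2H1.C1Comm.Gen.secOrdAt_eq`
under the direct hypothesis that `O_{X,x}/𝔭_ξ` has dimension at most one (instead of a dimension
function), and the additivity `ord (s ⊗ t) = ord s + ord t` on an integral locally Noetherian scheme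
at points of codimension one (`main`).
-/

set_option autoImplicit false
set_option linter.style.haveILetI false
set_option linter.unusedSectionVars false
universe u v

namespace Groth.Agent.Lib.Helper8OrdTensor

open AlgebraicGeometry CategoryTheory TopologicalSpace IsLocalRing CycAlg Opposite
  Groth.Agent.Lib.R2H1.C1Comm Groth.Agent.Lib.R2H1.C1Rel Groth.Agent.Lib.R2H1.C1Tensor
  Groth.Agent.Lib.Helper23.SecTw Groth.Agent.Lib.Helper6
  Groth.Agent.Lib.R2H1.LocQuot Groth.Agent.Lib.R2H1.RatEquivOpen Groth.Agent.Lib.R2H1.KeyLemma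
  Groth.Agent.Lib.R2H1.SecDiv

variable {X : Scheme.{u}}

theorem ordAt_mul' [IsLocallyNoetherian X] (x ξ : X) (h : ξ ⤳ x)
    (hK : Ring.KrullDimLE 1 (Cyc.LocQuot x ξ h)) {f g : X.residueField ξ} (hf : f ≠ 0)
    (hg : g ≠ 0) : Cyc.ordAt x ξ h (f * g) = Cyc.ordAt x ξ h f + Cyc.ordAt x ξ h g := by
  haveI : IsDomain (Cyc.LocQuot x ξ h) := (algebraMap_locQuot_injective x ξ h).isDomain
  haveI := hK
  exact ordFrac_mul _ _ hf hg

/-- computation of `Cyc.secOrdAt` in terms of a local free generator. -/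
theorem secOrdAt_eq' [IsLocallyNoetherian X] (L : X.Modules)
    (ξ x : X) (h : ξ ⤳ x) (hK : Ring.KrullDimLE 1 (Cyc.LocQuot x ξ h))
    (W : X.Opens) (t₀ : Γ(L, W)) (hxW : x ∈ W)
    (ht₀ : ∀ (y : X) (hy : y ∈ W),
      Function.Bijective (fun c : X.presheaf.stalk y => c • L.presheaf.germ W y hy t₀))
    (φ : X.presheaf.stalk ξ) :
    Cyc.secOrdAt L ξ x h (φ • (Submodule.Quotient.mk
      (L.presheaf.germ W ξ (h.mem_open W.isOpen hxW) t₀) : Cyc.secFibre L ξ)) =
      Cyc.ordAt x ξ h (X.residue ξ φ) := by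
  classical
  have hξW : ξ ∈ W := h.mem_open W.isOpen hxW
  set tx := L.presheaf.germ W x hxW t₀ with htxdef
  set gξ := L.presheaf.germ W ξ hξW t₀ with hgξdef
  have htx := ht₀ x hxW
  have hgξ := ht₀ ξ hξW
  have hspt : L.presheaf.stalkSpecializes h tx = gξ :=
    ConcreteCategory.congr_hom (TopCat.Presheaf.germ_stalkSpecializes L.presheaf hxW h) t₀
  have ht : ∃ t : L.presheaf.stalk x, Submodule.span (X.presheaf.stalk x) {t} = ⊤ := by
    refine ⟨tx, ?_⟩
    rw [eq_top_iff]
    intro m _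
    obtain ⟨c, hc⟩ := htx.2 m
    exact Submodule.mem_span_singleton.mpr ⟨c, hc⟩
  unfold Cyc.secOrdAt
  rw [dif_pos ht]
  have ht' := Classical.choose_spec ht
  set t := Classical.choose ht with htdef
  obtain ⟨u, hu⟩ := htx.2 t
  have hu' : u • tx = t := hu
  have hmem : tx ∈ Submodule.span (X.presheaf.stalk x) {t} := by rw [ht']; trivial
  obtain ⟨v, hv⟩ := Submodule.mem_span_singleton.1 hmem
  have hvu : v * u = 1 := by
    apply htx.1
    change (v * u) • tx = (1 : X.presheaf.stalk x) • tx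
    rw [mul_smul, one_smul, hu', hv]
  have huu : IsUnit u := IsUnit.of_mul_eq_one_right v hvu
  set uξ := X.presheaf.stalkSpecializes h u with huξdef
  have huξ : IsUnit uξ := huu.map _
  have htξ_eq : L.presheaf.stalkSpecializes h t = uξ • gξ := by
    rw [← hu', stalkSpecializes_smul, hspt]
  obtain ⟨w, hw⟩ := huξ.exists_left_inv
  have hφ : ∃ φ' : X.presheaf.stalk ξ,
      φ • (Submodule.Quotient.mk gξ : Cyc.secFibre L ξ) =
      φ' • (Submodule.Quotient.mk (L.presheaf.stalkSpecializes h t) : Cyc.secFibre L ξ) := by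
    refine ⟨φ * w, ?_⟩
    rw [htξ_eq, Submodule.Quotient.mk_smul, ← mul_smul, mul_assoc, hw, mul_one]
  rw [dif_pos hφ]
  have hφ' := Classical.choose_spec hφ
  set φ₀ := Classical.choose hφ with hφ₀def
  rw [htξ_eq, Submodule.Quotient.mk_smul, ← mul_smul] at hφ'
  have hres : X.residue ξ φ = X.residue ξ φ₀ * X.residue ξ uξ := by
    have h0 : (φ - φ₀ * uξ) • (Submodule.Quotient.mk gξ : Cyc.secFibre L ξ) = 0 := by
      rw [sub_smul, hφ', sub_self]
    have h1 := residue_eq_zero_of_smul_mk_eq_zero L ξ gξ hgξ _ h0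
    rw [map_sub, map_mul, sub_eq_zero] at h1
    exact h1
  have hune : X.residue ξ uξ ≠ 0 := by
    intro h0
    have := (IsLocalRing.residue_eq_zero_iff _).mp h0
    exact (IsLocalRing.mem_maximalIdeal _).mp this huξ
  have hunit0 : Cyc.ordAt x ξ h (X.residue ξ uξ) = 0 := ordAt_unit x ξ h u huu
  by_cases hφ0 : X.residue ξ φ₀ = 0
  · rw [hres, hφ0, zero_mul]
  · rw [hres, ordAt_mul' x ξ h hK hφ0 hune, hunit0, add_zero]

theorem gen_secOrdAt_eq' [IsLocallyNoetherian X] {L : X.Modules} (G : Gen L)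
    (ξ x : X) (h : ξ ⤳ x) (hK : Ring.KrullDimLE 1 (Cyc.LocQuot x ξ h)) (hx : x ∈ G.W)
    (σ : Cyc.secFibre L ξ) :
    Cyc.secOrdAt L ξ x h σ = Cyc.ordAt x ξ h (G.fib ξ (h.mem_open G.W.isOpen hx) σ) := by
  obtain ⟨φ, hφ⟩ := G.exists_rep ξ (h.mem_open G.W.isOpen hx) σ
  rw [hφ, Gen.fib_smul]
  exact secOrdAt_eq' L ξ x h hK G.W G.t hx G.bij φ

theorem krullDimLE_locQuot (x ξ : X) (h : ξ ⤳ x) (hx : ringKrullDim (X.presheaf.stalk x) = 1) :
    Ring.KrullDimLE 1 (Cyc.LocQuot x ξ h) := by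
  rw [Ring.krullDimLE_iff]
  refine (ringKrullDim_quotient_le _).trans ?_
  rw [hx]
  rfl

/-- **additivity of orders for a tensor product of invertible modules**, at any point `η`. -/
theorem main' (X : Scheme.{u}) [IsLocallyNoetherian X] (L N : X.Modules)
    (hL : PicF.IsInvertible L) (hN : PicF.IsInvertible N) (η : X)
    (s : Cyc.secFibre L η) (hs : s ≠ 0) (t : Cyc.secFibre N η) (ht : t ≠ 0) :
    ∃ w : Cyc.secFibre (CohB1.tensorMod L N) η, w ≠ 0 ∧
      ∀ (x : ↥X) (h : η ⤳ x), Ring.KrullDimLE 1 (Cyc.LocQuot x η h) →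
        Cyc.secOrdAt (CohB1.tensorMod L N) η x h w =
          Cyc.secOrdAt L η x h s + Cyc.secOrdAt N η x h t := by
  classical
  choose WL eL hzL hgenL using Groth.Agent.Lib.Helper23.SecTw.exists_gen L hL
  choose WN eN hzN hgenN using Groth.Agent.Lib.Helper23.SecTw.exists_gen N hN
  set W : X → X.Opens := fun z => WL z ⊓ WN z with hWdef
  have hg : ∀ z, z ∈ W z := fun z => ⟨hzL z, hzN z⟩
  set aL : ∀ z, Γ(L, W z) := fun z => res L (inf_le_left : W z ≤ WL z) (eL z) with haLdef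
  set aN : ∀ z, Γ(N, W z) := fun z => res N (inf_le_right : W z ≤ WN z) (eN z) with haNdef
  have haL : ∀ z, IsGen L (W z) (aL z) := fun z => isGen_res L inf_le_left (eL z) (hgenL z)
  have haN : ∀ z, IsGen N (W z) (aN z) := fun z => isGen_res N inf_le_right (eN z) (hgenN z)
  set gL : X → Gen L := fun z => genOfIsGen L (W z) (aL z) (haL z) with hgL
  set gN : X → Gen N := fun z => genOfIsGen N (W z) (aN z) (haN z) with hgN
  set gT : X → Gen (CohB1.tensorMod L N) := fun z =>
    genOfIsGen (CohB1.tensorMod L N) (W z) (tm L N (W z) (aL z) (aN z))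
      (isGen_tm L N (W z) (aL z) (aN z) (haL z) (haN z)) with hgT
  set lamL : X.residueField η := (gL η).fib η (hg η) s with hlamL
  set lamN : X.residueField η := (gN η).fib η (hg η) t with hlamN
  have hlamL0 : lamL ≠ 0 := (gL η).fib_ne_zero η (hg η) s hs
  have hlamN0 : lamN ≠ 0 := (gN η).fib_ne_zero η (hg η) t ht
  obtain ⟨φ, hφ⟩ := X.residue_surjective η (lamL * lamN)
  set w : Cyc.secFibre (CohB1.tensorMod L N) η :=
    φ • (Submodule.Quotient.mk ((gT η).g η (hg η)) : Cyc.secFibre (CohB1.tensorMod L N) η) with hw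
  have hwfib : (gT η).fib η (hg η) w = lamL * lamN := by
    rw [hw, Gen.fib_smul]
    exact hφ
  have hw0 : w ≠ 0 := by
    intro h0
    have h1 : (gT η).fib η (hg η) w = 0 := by
      rw [h0]
      have := (gT η).fib_smul η (hg η) 0
      rw [zero_smul, map_zero] at this
      exact this
    rw [hwfib] at h1
    exact mul_ne_zero hlamL0 hlamN0 h1
  refine ⟨w, hw0, fun x h hK => ?_⟩
  have hm : η ∈ W x := h.mem_open (W x).isOpen (hg x)
  rw [gen_secOrdAt_eq' (gT x) η x h hK (hg x) w, gen_secOrdAt_eq' (gL x) η x h hK (hg x) s,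
    gen_secOrdAt_eq' (gN x) η x h hK (hg x) t]
  have eT := (gT x).fib_change (gT η) η hm (hg η) w
  have eL' := (gL x).fib_change (gL η) η hm (hg η) s
  have eN' := (gN x).fib_change (gN η) η hm (hg η) t
  have ecc : (gT x).cc (gT η) η hm (hg η) =
      (gL x).cc (gL η) η hm (hg η) * (gN x).cc (gN η) η hm (hg η) :=
    cc_tm L N (aL x) (haL x) (aN x) (haN x) (aL η) (haL η) (aN η) (haN η) η hm (hg η)
  have hLx : (gL x).fib η hm s ≠ 0 := (gL x).fib_ne_zero η hm s hs
  have hNx : (gN x).fib η hm t ≠ 0 := (gN x).fib_ne_zero η hm t ht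
  have hprod : (gT x).fib η hm w = (gL x).fib η hm s * (gN x).fib η hm t := by
    rw [eT, eL', eN', ecc, map_mul, hwfib]
    ring
  rw [hprod, ordAt_mul' x η h hK hLx hNx]

/-- **additivity of orders for a tensor product of invertible modules** on an integral scheme, at
points of codimension one. -/
theorem main (X : Scheme.{u}) [IsIntegral X] [IsLocallyNoetherian X] (L N : X.Modules)
    (hL : PicF.IsInvertible L) (hN : PicF.IsInvertible N)
    (s : Cyc.secFibre L (genericPoint ↥X)) (hs : s ≠ 0)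
    (t : Cyc.secFibre N (genericPoint ↥X)) (ht : t ≠ 0) :
    ∃ w : Cyc.secFibre (CohB1.tensorMod L N) (genericPoint ↥X), w ≠ 0 ∧
      ∀ (x : ↥X) (h : genericPoint ↥X ⤳ x), ringKrullDim ↑(X.presheaf.stalk x) = 1 →
        Cyc.secOrdAt (CohB1.tensorMod L N) (genericPoint ↥X) x h w =
          Cyc.secOrdAt L (genericPoint ↥X) x h s + Cyc.secOrdAt N (genericPoint ↥X) x h t := by
  obtain ⟨w, hw0, hw⟩ := main' X L N hL hN (genericPoint ↥X) s hs t ht
  exact ⟨w, hw0, fun x h hx => hw x h (krullDimLE_locQuot x _ h hx)⟩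

end Groth.Agent.Lib.Helper8OrdTensor
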