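import Mathlib
import Groth.Prelude.Def_RefHull
import Groth.Prelude.Def_Cyc
import Groth.Prelude.Def_C1
import Groth.Agent.Lib.R2LeadHartF
import Groth.Agent.Lib.R2LeadRk1B
import Groth.Agent.Lib.R2H2FibreFree
import Groth.Agent.Lib.Helper23QAffSec
import Groth.Agent.Lib.Helper23TensorQCoh
import Groth.Agent.Lib.Helper8OrdTensor

/-!
# Orders of rational sections of rank one reflexive modules (helper8)

* `exists_isGen_of_dim_le_one`: a rank one coherent reflexive module on an integral normal locally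
  Noetherian scheme has a free generator on a neighbourhood of every point of dimension at most one;
* `mapGen`, `cc_mapGen`: transport of local free generators (`R2H1.C1Comm.Gen`) along a morphism of
  modules which is bijective on the stalks over the open of the generator;
* `bijective_stalkMapₗ_bidualMap_of_gen`: `M ⟶ M^**` is bijective on the stalks over an open where
  `M` has a free generator;
* `main`: additivity of orders for the reflexive hull of the tensor product of two rank one
  coherent reflexive modules (S16090).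
-/

set_option autoImplicit false
set_option linter.style.haveILetI false
set_option linter.unusedSectionVars false
universe u v

namespace Groth.Agent.Lib.Helper8RefOrd

open AlgebraicGeometry CategoryTheory TopologicalSpace IsLocalRing CycAlg Opposite RefHull
  Groth.Agent.Lib.R2H1.C1Comm Groth.Agent.Lib.R2H1.C1Rel Groth.Agent.Lib.R2H1.C1Tensor
  Groth.Agent.Lib.Helper23.SecTw Groth.Agent.Lib.Helper6
  Groth.Agent.Lib.R2H1.LocQuot Groth.Agent.Lib.R2H1.RatEquivOpen Groth.Agent.Lib.R2H1.KeyLemma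
  Groth.Agent.Lib.R2H1.SecDiv Groth.Agent.Lib.Helper8OrdTensor

variable {X : Scheme.{u}}

section Algebra

/-- a Noetherian normal local domain of dimension at most one is a principal ideal ring. -/
theorem isPrincipalIdealRing_of_dim_le_one (R : Type*) [CommRing R] [IsDomain R] [IsLocalRing R]
    [IsNoetherianRing R] [IsIntegrallyClosed R] (h : ringKrullDim R ≤ 1) :
    IsPrincipalIdealRing R := by
  by_cases h0 : ringKrullDim R ≤ 0
  · haveI : Ring.KrullDimLE 0 R := Ring.krullDimLE_iff.mpr h0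
    have hf : IsField R := Ring.KrullDimLE.isField_of_isDomain
    exact hf.isPrincipalIdealRing
  · have h1 : ringKrullDim R = 1 := by
      refine le_antisymm h ?_
      cases hd : ringKrullDim R with
      | bot => rw [hd] at h0; exact absurd bot_le h0
      | coe m =>
        rw [hd] at h0
        have hm : ¬ m ≤ 0 := fun hm => h0 (by exact_mod_cast hm)
        have : (1 : ℕ∞) ≤ m := Order.one_le_iff_pos.2 (lt_of_not_ge hm)
        exact_mod_cast this
    haveI := Groth.Agent.Lib.R2H7.PrescribedOrders.isDVR_of_dim_one R h1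
    infer_instance

end Algebra

section Gen

variable [IsIntegral X] [IsLocallyNoetherian X]

/-- a rank one coherent reflexive module on a normal scheme has a free generator near every
point of dimension at most one. -/
theorem exists_isGen_of_dim_le_one (hX : Pi1.IsNormalScheme X) (F : X.Modules)
    (hF : RefHull.IsRef1 F) (x : X) (hx : ringKrullDim (X.presheaf.stalk x) ≤ 1) :
    ∃ (W : X.Opens) (e : Γ(F, W)), x ∈ W ∧ IsGen F W e := by
  obtain ⟨hcoh, hrefl, hrk⟩ := hF
  haveI := (hX x).1
  haveI := (hX x).2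
  haveI : IsPrincipalIdealRing (X.presheaf.stalk x) :=
    isPrincipalIdealRing_of_dim_le_one _ hx
  haveI : Module.Finite (X.presheaf.stalk x) (F.presheaf.stalk x) :=
    Groth.Agent.Lib.R2Lead.ReflC.finite_stalk F hcoh x
  have h01 : RefHull.IsReflexive F ↔ ∀ x : ↥X, RefHull.IsReflexiveAt F x :=
    (Groth.Agent.Lib.R2Lead.ReflB.tfae F hcoh).out 0 1
  haveI : Module.IsReflexive (X.presheaf.stalk x) (F.presheaf.stalk x) := h01.1 hrefl x
  have htf := Groth.Agent.Lib.R2LeadHartB.torsionFree_stalk F hcoh hrefl x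
  obtain ⟨m₁, hm₁0, hm₁⟩ := Groth.Agent.Lib.R2LeadRk1B.exists_rank_one F hcoh hrefl hrk x
  obtain ⟨n₀, hn₀⟩ := Groth.Agent.Lib.R2LeadRk1A.exists_generator_of_ufd m₁ hm₁
  have hn₀0 : n₀ ≠ 0 := by
    intro h0
    obtain ⟨a, ha⟩ := hn₀ m₁
    rw [h0, smul_zero] at ha
    exact hm₁0 ha
  have hbij : Function.Bijective
      (LinearMap.toSpanSingleton (X.presheaf.stalk x) (F.presheaf.stalk x) n₀) := by
    constructor
    · intro a a' haa'
      have h1 : (a - a') • n₀ = 0 := by
        rw [sub_smul]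
        exact sub_eq_zero.2 haa'
      rcases htf _ _ h1 with h | h
      · exact sub_eq_zero.1 h
      · exact absurd h hn₀0
    · intro m
      obtain ⟨a, ha⟩ := hn₀ m
      exact ⟨a, ha.symm⟩
  let e : X.presheaf.stalk x ≃ₗ[X.presheaf.stalk x] F.presheaf.stalk x :=
    LinearEquiv.ofBijective _ hbij
  let b : Module.Basis (Fin 1) (X.presheaf.stalk x) (F.presheaf.stalk x) :=
    Module.Basis.ofEquivFun (e.symm ≪≫ₗ
      (LinearEquiv.funUnique (Fin 1) (X.presheaf.stalk x) (X.presheaf.stalk x)).symm)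
  obtain ⟨U, hxU, hψ⟩ :=
    Groth.Agent.Lib.R2H2.FibreFree.exists_restrict_iso_freeMod_of_stalk_basis F hcoh x 1 b
  obtain ⟨e', he'⟩ := exists_isGen_of_iso_freeMod F U hψ
  exact ⟨U, e', hxU, he'⟩

/-- transport of a free generator along a morphism bijective on the stalks over its open. -/
noncomputable def mapGen {M M' : X.Modules} (φ : M ⟶ M') (G : Gen M)
    (hφ : ∀ y ∈ G.W, Function.Bijective (stalkMapₗ φ y)) : Gen M' where
  W := G.W
  t := φ.app G.W G.t
  bij y hy := by
    have h1 := G.bij y hy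
    have h2 : (fun c : X.presheaf.stalk y => c • M'.presheaf.germ G.W y hy (φ.app G.W G.t)) =
        (stalkMapₗ φ y) ∘ (fun c : X.presheaf.stalk y => c • M.presheaf.germ G.W y hy G.t) := by
      funext c
      simp only [Function.comp]
      rw [map_smul, stalkMapₗ_germ]
    rw [h2]
    exact (hφ y hy).comp h1

theorem mapGen_W {M M' : X.Modules} (φ : M ⟶ M') (G : Gen M)
    (hφ : ∀ y ∈ G.W, Function.Bijective (stalkMapₗ φ y)) : (mapGen φ G hφ).W = G.W := rfl

theorem mapGen_g {M M' : X.Modules} (φ : M ⟶ M') (G : Gen M)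
    (hφ : ∀ y ∈ G.W, Function.Bijective (stalkMapₗ φ y)) (y : X) (hy : y ∈ G.W) :
    (mapGen φ G hφ).g y hy = stalkMapₗ φ y (G.g y hy) :=
  (stalkMapₗ_germ φ y hy G.t).symm

theorem cc_mapGen {M M' : X.Modules} (φ : M ⟶ M') (G₁ G₂ : Gen M)
    (h₁ : ∀ y ∈ G₁.W, Function.Bijective (stalkMapₗ φ y))
    (h₂ : ∀ y ∈ G₂.W, Function.Bijective (stalkMapₗ φ y))
    (y : X) (hy : y ∈ G₁.W) (hy' : y ∈ G₂.W) :
    (mapGen φ G₁ h₁).cc (mapGen φ G₂ h₂) y hy hy' = G₁.cc G₂ y hy hy' := by
  apply ((mapGen φ G₁ h₁).g_bij y hy).1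
  change (mapGen φ G₁ h₁).cc (mapGen φ G₂ h₂) y hy hy' • (mapGen φ G₁ h₁).g y hy =
    G₁.cc G₂ y hy hy' • (mapGen φ G₁ h₁).g y hy
  rw [Gen.cc_spec, mapGen_g, mapGen_g, ← map_smul, Gen.cc_spec]

/-- the canonical map to the double dual is bijective on the stalks over an open where the
module has a free generator. -/
theorem bijective_stalkMapₗ_bidualMap_of_gen (M : X.Modules) (hM : Coh.IsCoh M) (G : Gen M)
    (y : X) (hy : y ∈ G.W) : Function.Bijective (stalkMapₗ (bidualMap M) y) := by
  have hb := G.bij y hy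
  let e : X.presheaf.stalk y ≃ₗ[X.presheaf.stalk y] M.presheaf.stalk y :=
    LinearEquiv.ofBijective
      (LinearMap.toSpanSingleton (X.presheaf.stalk y) (M.presheaf.stalk y)
        (M.presheaf.germ G.W y hy G.t)) hb
  haveI : Module.Free (X.presheaf.stalk y) (M.presheaf.stalk y) :=
    Module.Free.of_equiv e
  haveI : Module.Finite (X.presheaf.stalk y) (M.presheaf.stalk y) :=
    Module.Finite.equiv e
  have hr : RefHull.IsReflexiveAt M y := by
    unfold RefHull.IsReflexiveAt
    infer_instance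
  exact (Groth.Agent.Lib.R2Lead.ReflB.isReflexiveAt_iff M hM y).1 hr

end Gen

section Main

variable [IsIntegral X] [IsLocallyNoetherian X]

theorem isCoh_tensorMod' {F G : X.Modules} (hF : Coh.IsCoh F) (hG : Coh.IsCoh G) :
    Coh.IsCoh (CohB1.tensorMod F G) := by
  haveI : F.IsQuasicoherent := hF.1
  haveI : G.IsQuasicoherent := hG.1
  haveI : SheafOfModules.IsFiniteType (R := X.ringCatSheaf) F := hF.2
  haveI : SheafOfModules.IsFiniteType (R := X.ringCatSheaf) G := hG.2
  exact ⟨Groth.Agent.Lib.Helper23.TensorQCoh.isQuasicoherent_tensorMod F G,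
    Groth.Agent.Lib.Helper23.TensorQCoh.isFiniteType_tensorMod F G⟩

theorem ringKrullDim_stalk_genericPoint_le_one :
    ringKrullDim (X.presheaf.stalk (genericPoint X)) ≤ 1 := by
  have hfield : IsField (X.presheaf.stalk (genericPoint X)) := Field.toIsField X.functionField
  rw [ringKrullDim_eq_zero_of_isField hfield]
  exact zero_le_one

theorem krullDimLE_locQuot' (x ξ : X) (h : ξ ⤳ x) (hx : ringKrullDim (X.presheaf.stalk x) ≤ 1) :
    Ring.KrullDimLE 1 (Cyc.LocQuot x ξ h) := by
  rw [Ring.krullDimLE_iff]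
  refine (ringKrullDim_quotient_le _).trans ?_
  exact_mod_cast hx

/-- **additivity of orders for the reflexive hull of a tensor product** of rank one coherent
reflexive modules on an integral normal locally Noetherian scheme, at a point `η` of dimension at
most one. -/
theorem main' (hX : Pi1.IsNormalScheme X) (F G : X.Modules) (hF : RefHull.IsRef1 F)
    (hG : RefHull.IsRef1 G) (η : X) (hdimη : ringKrullDim (X.presheaf.stalk η) ≤ 1)
    (s : Cyc.secFibre F η) (hs : s ≠ 0)
    (t : Cyc.secFibre G η) (ht : t ≠ 0) :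
    ∃ w : Cyc.secFibre (RefHull.ddual (CohB1.tensorMod F G)) η, w ≠ 0 ∧
      ∀ (x : X) (h : η ⤳ x), ringKrullDim (X.presheaf.stalk x) ≤ 1 →
        Cyc.secOrdAt (RefHull.ddual (CohB1.tensorMod F G)) η x h w =
          Cyc.secOrdAt F η x h s + Cyc.secOrdAt G η x h t := by
  classical
  set M := CohB1.tensorMod F G with hMdef
  have hM : Coh.IsCoh M := isCoh_tensorMod' hF.1 hG.1
  have key : ∀ z : X, ringKrullDim (X.presheaf.stalk z) ≤ 1 →
      ∃ (W : X.Opens) (aF : Γ(F, W)) (aG : Γ(G, W)), z ∈ W ∧ IsGen F W aF ∧ IsGen G W aG := by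
    intro z hz
    obtain ⟨WF, eF, hzF, hgF⟩ := exists_isGen_of_dim_le_one hX F hF z hz
    obtain ⟨WG, eG, hzG, hgG⟩ := exists_isGen_of_dim_le_one hX G hG z hz
    exact ⟨WF ⊓ WG, res F inf_le_left eF, res G inf_le_right eG, ⟨hzF, hzG⟩,
      isGen_res F inf_le_left eF hgF, isGen_res G inf_le_right eG hgG⟩
  obtain ⟨Wη, aFη, aGη, hηW, haFη, haGη⟩ := key η hdimη
  set gFη : Gen F := genOfIsGen F Wη aFη haFη with hgFη
  set gGη : Gen G := genOfIsGen G Wη aGη haGη with hgGη
  set gTη : Gen M := genOfIsGen M Wη (tm F G Wη aFη aGη)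
    (isGen_tm F G Wη aFη aGη haFη haGη) with hgTη
  have hβη : ∀ y ∈ gTη.W, Function.Bijective (stalkMapₗ (bidualMap M) y) :=
    fun y hy => bijective_stalkMapₗ_bidualMap_of_gen M hM gTη y hy
  set gTη' : Gen (ddual M) := mapGen (bidualMap M) gTη hβη with hgTη'
  set lamF : X.residueField η := gFη.fib η hηW s with hlamF
  set lamG : X.residueField η := gGη.fib η hηW t with hlamG
  have hlamF0 : lamF ≠ 0 := gFη.fib_ne_zero η hηW s hs
  have hlamG0 : lamG ≠ 0 := gGη.fib_ne_zero η hηW t ht
  obtain ⟨φ, hφ⟩ := X.residue_surjective η (lamF * lamG)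
  set w : Cyc.secFibre (ddual M) η :=
    φ • (Submodule.Quotient.mk (gTη'.g η hηW) : Cyc.secFibre (ddual M) η) with hw
  have hwfib : gTη'.fib η hηW w = lamF * lamG := by
    rw [hw, Gen.fib_smul]
    exact hφ
  have hw0 : w ≠ 0 := by
    intro h0
    have h1 : gTη'.fib η hηW w = 0 := by
      rw [h0]
      have := gTη'.fib_smul η hηW 0
      rw [zero_smul, map_zero] at this
      exact this
    rw [hwfib] at h1
    exact mul_ne_zero hlamF0 hlamG0 h1
  refine ⟨w, hw0, fun x h hx => ?_⟩
  obtain ⟨Wx, aFx, aGx, hxW, haFx, haGx⟩ := key x hx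
  set gFx : Gen F := genOfIsGen F Wx aFx haFx with hgFx
  set gGx : Gen G := genOfIsGen G Wx aGx haGx with hgGx
  set gTx : Gen M := genOfIsGen M Wx (tm F G Wx aFx aGx)
    (isGen_tm F G Wx aFx aGx haFx haGx) with hgTx
  have hβx : ∀ y ∈ gTx.W, Function.Bijective (stalkMapₗ (bidualMap M) y) :=
    fun y hy => bijective_stalkMapₗ_bidualMap_of_gen M hM gTx y hy
  set gTx' : Gen (ddual M) := mapGen (bidualMap M) gTx hβx with hgTx'
  have hK : Ring.KrullDimLE 1 (Cyc.LocQuot x η h) := krullDimLE_locQuot' x η h hx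
  have hm : η ∈ Wx := h.mem_open Wx.isOpen hxW
  rw [gen_secOrdAt_eq' gTx' η x h hK hxW w, gen_secOrdAt_eq' gFx η x h hK hxW s,
    gen_secOrdAt_eq' gGx η x h hK hxW t]
  have eT := gTx'.fib_change gTη' η hm hηW w
  have eL' := gFx.fib_change gFη η hm hηW s
  have eN' := gGx.fib_change gGη η hm hηW t
  have ecc : gTx'.cc gTη' η hm hηW = gFx.cc gFη η hm hηW * gGx.cc gGη η hm hηW := by
    refine (cc_mapGen (bidualMap M) gTx gTη hβx hβη η hm hηW).trans ?_
    exact cc_tm F G aFx haFx aGx haGx aFη haFη aGη haGη η hm hηW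
  have hLx : gFx.fib η hm s ≠ 0 := gFx.fib_ne_zero η hm s hs
  have hNx : gGx.fib η hm t ≠ 0 := gGx.fib_ne_zero η hm t ht
  have hprod : gTx'.fib η hm w = gFx.fib η hm s * gGx.fib η hm t := by
    rw [eT, eL', eN', ecc, map_mul, hwfib]
    ring
  rw [hprod, ordAt_mul' x η h hK hLx hNx]

/-- **additivity of orders for the reflexive hull of a tensor product** of rank one coherent
reflexive modules on an integral normal locally Noetherian scheme (rational sections at the generic
point). -/
theorem main (hX : Pi1.IsNormalScheme X) (F G : X.Modules) (hF : RefHull.IsRef1 F)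
    (hG : RefHull.IsRef1 G)
    (s : Cyc.secFibre F (genericPoint X)) (hs : s ≠ 0)
    (t : Cyc.secFibre G (genericPoint X)) (ht : t ≠ 0) :
    ∃ w : Cyc.secFibre (RefHull.ddual (CohB1.tensorMod F G)) (genericPoint X), w ≠ 0 ∧
      ∀ (x : X) (h : genericPoint X ⤳ x), ringKrullDim (X.presheaf.stalk x) ≤ 1 →
        Cyc.secOrdAt (RefHull.ddual (CohB1.tensorMod F G)) (genericPoint X) x h w =
          Cyc.secOrdAt F (genericPoint X) x h s + Cyc.secOrdAt G (genericPoint X) x h t :=
  main' hX F G hF hG (genericPoint X) ringKrullDim_stalk_genericPoint_le_one s hs t ht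

end Main

end Groth.Agent.Lib.Helper8RefOrd
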