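import Mathlib
import Groth.Prelude
import Groth.Agent.Lib.R2H2HomShB
import Groth.Agent.Lib.Helper13AffBC
import Groth.Agent.Lib.Helper18Cart1
import Groth.Agent.Lib.Helper18Tens1
import Groth.Agent.Lib.Helper23PB
import Groth.Agent.Lib.Helper23RestrTensor
import Groth.Agent.Lib.Helper27TmLeft
import Groth.Agent.Lib.Helper23SecTw6
import Groth.Agent.Lib.R2H4TensorPows
import Groth.Agent.Lib.Helper23Serre
set_option backward.isDefEq.respectTransparency.types false

/-!
# The dual of an invertible module is its inverse (helper4, round 2)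

For the prelude's sheaf Hom `RefHull.dual N = 𝓗om(N, O_X)`:
* `evDual N : N ⊗ dual N ⟶ O_X`, the evaluation; `isIso_evDual` for `N` invertible.
* `nonempty_iso_of_inverses` : inverses for the tensor product are unique up to isomorphism.
* `nonempty_dual_pullback_iso` : `dual (f^* M) ≅ f^* (dual M)` for `M` invertible.
* `s16088` : the normal sheaf of an effective Cartier divisor `D` is `O(D)|_D`.
-/

set_option autoImplicit false
set_option linter.style.haveILetI false
set_option linter.unusedSectionVars false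
universe u v

open CategoryTheory CategoryTheory.Limits AlgebraicGeometry TopologicalSpace Opposite

noncomputable section

namespace Groth.Agent.Lib.R2H4DualInv

open Groth.Agent.Lib.Helper23.SecTw Groth.Agent.Lib.Helper6 Groth.Agent.Lib.R2H2.HomShA
  Groth.Agent.Lib.R2H2.HomShB Groth.Agent.Lib.R2H4TensorPows

variable {X : Scheme.{u}}

/-- the evaluation pairing on sections -/
def evβ (N : X.Modules) (Z : (Opens X)ᵒᵖ) (m : N.val.obj Z) (h : (RefHull.dual N).val.obj Z) :
    (Coh.structureModule X).val.obj Z :=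
  actSec (F := N) (G := Coh.structureModule X) (U := Z.unop) h le_rfl m

theorem evβ_add_left (N : X.Modules) (Z : (Opens X)ᵒᵖ) (m₁ m₂ : N.val.obj Z)
    (h : (RefHull.dual N).val.obj Z) : evβ N Z (m₁ + m₂) h = evβ N Z m₁ h + evβ N Z m₂ h :=
  actSec_add h le_rfl m₁ m₂

theorem evβ_smul_left (N : X.Modules) (Z : (Opens X)ᵒᵖ) (a : X.ringCatSheaf.obj.obj Z)
    (m : N.val.obj Z) (h : (RefHull.dual N).val.obj Z) : evβ N Z (a • m) h = a • evβ N Z m h :=
  actSec_smul h le_rfl a m

theorem evβ_add_right (N : X.Modules) (Z : (Opens X)ᵒᵖ) (m : N.val.obj Z)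
    (h₁ h₂ : (RefHull.dual N).val.obj Z) : evβ N Z m (h₁ + h₂) = evβ N Z m h₁ + evβ N Z m h₂ :=
  actSec_add_left h₁ h₂ le_rfl m

theorem evβ_smul_right (N : X.Modules) (Z : (Opens X)ᵒᵖ) (a : X.ringCatSheaf.obj.obj Z)
    (m : N.val.obj Z) (h : (RefHull.dual N).val.obj Z) : evβ N Z m (a • h) = a • evβ N Z m h := by
  have := actSec_smul_left (F := N) (G := Coh.structureModule X) (U := Z.unop) h le_rfl a m
  rw [Groth.Agent.Helper13ModGlue.resf_self] at this
  exact this

theorem evβ_nat (N : X.Modules) {Z W : (Opens X)ᵒᵖ} (f : Z ⟶ W) (m : N.val.obj Z)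
    (h : (RefHull.dual N).val.obj Z) :
    (Coh.structureModule X).val.map f (evβ N Z m h) =
      evβ N W (N.val.map f m) ((RefHull.dual N).val.map f h) := by
  have hle : W.unop ≤ Z.unop := f.unop.le
  have := secLin_res (F := N) (G := Coh.structureModule X) hle h m
  rw [secLin_apply, secLin_apply] at this
  exact this.symm

/-- the evaluation pairing `N ⊗ 𝓗om(N, O) ⟶ O` -/
def evDual (N : X.Modules) :
    CohB1.tensorMod N (RefHull.dual N) ⟶ Coh.structureModule X :=
  Groth.Agent.Helper18Tens.ofBilinSch N (RefHull.dual N) (Coh.structureModule X)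
    (evβ N) (evβ_add_left N) (evβ_smul_left N) (evβ_add_right N) (evβ_smul_right N)
    (fun {_ _} f m h => evβ_nat N f m h)

theorem evDual_tm (N : X.Modules) (U : X.Opens) (m : Γ(N, U)) (h : Γ(RefHull.dual N, U)) :
    (evDual N).app U (tm N (RefHull.dual N) U m h) = actSec h le_rfl m :=
  Groth.Agent.Helper18Tens.ofBilinSch_tmul N (RefHull.dual N) (Coh.structureModule X)
    (evβ N) (evβ_add_left N) (evβ_smul_left N) (evβ_add_right N) (evβ_smul_right N)
    (fun {_ _} f m h => evβ_nat N f m h) U m h

/-- evaluation at a generator identifies sections of the dual with functions (over affine opens) -/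
theorem bijective_eval_gen (N : X.Modules) [N.IsQuasicoherent] {V : X.Opens} (hV : IsAffineOpen V)
    (e : Γ(N, V)) (hgen : IsGen N V e) :
    Function.Bijective (fun h : Γ(RefHull.dual N, V) =>
      actSec (F := N) (G := Coh.structureModule X) h le_rfl e) := by
  have hb := hgen V le_rfl
  rw [res_self] at hb
  constructor
  · intro h h' hh
    apply (affEquiv (F := N) (G := Coh.structureModule X) hV).injective
    apply LinearMap.ext
    intro m
    obtain ⟨r, rfl⟩ := hb.2 m
    simp only [] at hh ⊢
    rw [affEquiv_apply, affEquiv_apply, map_smul, map_smul, secLin_apply, secLin_apply, hh]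
  · intro c
    let E : Γ(X, V) ≃ₗ[Γ(X, V)] Γ(N, V) := LinearEquiv.ofBijective
      { toFun := fun r => r • e
        map_add' := fun a b => add_smul a b e
        map_smul' := fun a b => by
          change (a • b) • e = a • (b • e)
          rw [smul_eq_mul, mul_smul] } hb
    let ℓ : Γ(N, V) →ₗ[Γ(X, V)] Γ(Coh.structureModule X, V) :=
      (LinearMap.toSpanSingleton Γ(X, V) Γ(Coh.structureModule X, V) c).comp E.symm.toLinearMap
    refine ⟨(affEquiv (F := N) (G := Coh.structureModule X) hV).symm ℓ, ?_⟩
    have h1 : affEquiv (F := N) (G := Coh.structureModule X) hV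
        ((affEquiv (F := N) (G := Coh.structureModule X) hV).symm ℓ) = ℓ :=
      LinearEquiv.apply_symm_apply _ _
    have h2 := congrArg (fun L : Γ(N, V) →ₗ[Γ(X, V)] Γ(Coh.structureModule X, V) => L e) h1
    beta_reduce at h2
    rw [affEquiv_apply, secLin_apply] at h2
    change actSec ((affEquiv (F := N) (G := Coh.structureModule X) hV).symm ℓ) le_rfl e = c
    rw [h2]
    have h3 : E.symm e = 1 := by
      apply E.injective
      rw [LinearEquiv.apply_symm_apply]
      change e = (1 : Γ(X, V)) • e
      rw [one_smul]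
    change (LinearMap.toSpanSingleton Γ(X, V) Γ(Coh.structureModule X, V) c) (E.symm e) = c
    rw [h3, LinearMap.toSpanSingleton_apply, one_smul]

/-- for invertible `N` the evaluation `N ⊗ 𝓗om(N, O) ⟶ O` is an isomorphism -/
theorem isIso_evDual (N : X.Modules) (hN : PicF.IsInvertible N) : IsIso (evDual N) := by
  haveI : N.IsQuasicoherent := isQuasicoherent_of_isInvertible N hN
  let ι := {V : X.Opens // IsAffineOpen V ∧ ∃ e : Γ(N, V), IsGen N V e}
  refine Groth.Agent.Helper13AffBC.isIso_of_bijective_on_basis (evDual N)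
    (fun i : ι => i.1) ?_ ?_
  · rw [Opens.isBasis_iff_nbhd]
    intro U x hxU
    obtain ⟨W, e₀, hxW, hgen⟩ := exists_gen N hN x
    obtain ⟨V, hV, hxV, hle⟩ := Opens.isBasis_iff_nbhd.1 X.isBasis_affineOpens
      (show x ∈ W ⊓ U from ⟨hxW, hxU⟩)
    exact ⟨V, ⟨⟨V, hV, res N (hle.trans inf_le_left) e₀, hgen.mono _⟩, rfl⟩, hxV,
      hle.trans inf_le_right⟩
  · rintro ⟨V, hV, e, hgen⟩
    have hb1 := Groth.Agent.Lib.Helper27TmLeft.bijective_tm_of_isGen_left N (RefHull.dual N) V e
      hgen V le_rfl
    rw [res_self] at hb1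
    have hb2 := bijective_eval_gen N hV e hgen
    have hcomp : (fun h : Γ(RefHull.dual N, V) => actSec (F := N) (G := Coh.structureModule X)
        h le_rfl e) = (evDual N).app V ∘ (fun t => tm N (RefHull.dual N) V e t) := by
      funext h
      exact (evDual_tm N V e h).symm
    rw [hcomp] at hb2
    exact (Function.Bijective.of_comp_iff _ hb1).1 hb2

/-- the dual of an invertible module is an inverse -/
def dualInvIso (N : X.Modules) (hN : PicF.IsInvertible N) :
    CohB1.tensorMod N (RefHull.dual N) ≅ Coh.structureModule X :=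
  haveI := isIso_evDual N hN
  asIso (evDual N)

/-- inverses for the tensor product are unique up to isomorphism -/
def isoOfInverses {M A B : X.Modules} (eA : CohB1.tensorMod M A ≅ Coh.structureModule X)
    (eB : CohB1.tensorMod M B ≅ Coh.structureModule X) : A ≅ B :=
  (lUnit A).symm ≪≫ tIso eB.symm (Iso.refl A) ≪≫ tIso (tComm M B) (Iso.refl A) ≪≫
    tAssoc B M A ≪≫ tIso (Iso.refl B) eA ≪≫ rUnit B

/-- the dual of an invertible module commutes with pullback -/
theorem nonempty_dual_pullback_iso {Y : Scheme.{u}} (f : Y ⟶ X) (M : X.Modules)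
    (hM : PicF.IsInvertible M) :
    Nonempty (RefHull.dual ((Scheme.Modules.pullback f).obj M) ≅
      (Scheme.Modules.pullback f).obj (RefHull.dual M)) := by
  have hfM := Groth.Agent.Lib.Helper23.PB.isInvertible_pullback f M hM
  have e1 := dualInvIso _ hfM
  have e2 : CohB1.tensorMod ((Scheme.Modules.pullback f).obj M)
      ((Scheme.Modules.pullback f).obj (RefHull.dual M)) ≅ Coh.structureModule Y :=
    (Groth.Agent.Lib.Helper23.RestrTensor.pullbackTensorIso M (RefHull.dual M) f).symm ≪≫
      (Scheme.Modules.pullback f).mapIso (dualInvIso M hM) ≪≫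
      Groth.Agent.Lib.Helper23.PB.pullbackUnitIso f
  exact ⟨isoOfInverses e1 e2⟩

/-- S16088 -/
theorem s16088 (S : Scheme.{u}) (𝓓 : S.IdealSheafData) (hD : BlowUp.IsEffCartierIdeal 𝓓) :
    Nonempty (RefHull.dual (Omega.conormal 𝓓.subschemeι) ≅
      (Scheme.Modules.pullback 𝓓.subschemeι).obj (RefHull.dual (ClSub.idealMod 𝓓))) := by
  have hinv : PicF.IsInvertible (ClSub.idealMod 𝓓) :=
    (Groth.Agent.Helper18Cart.main_S8914 𝓓).2 hD
  have hker : 𝓓.subschemeι.ker = 𝓓 := Scheme.IdealSheafData.ker_subschemeι 𝓓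
  unfold Omega.conormal
  rw [hker]
  exact nonempty_dual_pullback_iso 𝓓.subschemeι (ClSub.idealMod 𝓓) hinv

end Groth.Agent.Lib.R2H4DualInv
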