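import Mathlib
import Groth.Prelude.Def_RefHull
import Groth.Prelude.Def_Cyc
import Groth.Prelude.Def_C1
import Groth.Agent.Lib.Helper8RefOrd
import Groth.Agent.Lib.R2H4DualInv
import Groth.Agent.Lib.R2LeadExtReg
import Groth.Agent.Lib.Helper23AmpleIso

/-!
# The group law on classes of rank one reflexive modules (helper8)

Orders of rational sections of the dual and of the structure module, stability of `RefHull.IsRef1`
under reflexive tensor product and duals, and the group structure on the set of classes of rank one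
coherent reflexive modules transported from divisor classes (S16085, assuming the statement of
S16086 as a hypothesis).
-/

set_option autoImplicit false
set_option linter.style.haveILetI false
set_option linter.unusedSectionVars false
universe u v

namespace Groth.Agent.Lib.Helper8RefGrp

open AlgebraicGeometry CategoryTheory TopologicalSpace IsLocalRing CycAlg Opposite RefHull
  Groth.Agent.Lib.R2H1.C1Comm Groth.Agent.Lib.R2H1.C1Rel Groth.Agent.Lib.R2H1.C1Tensor
  Groth.Agent.Lib.Helper23.SecTw Groth.Agent.Lib.Helper6 Groth.Agent.Lib.Helper23.GenLocus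
  Groth.Agent.Lib.R2H1.LocQuot Groth.Agent.Lib.R2H1.RatEquivOpen Groth.Agent.Lib.R2H1.KeyLemma
  Groth.Agent.Lib.R2H1.SecDiv Groth.Agent.Lib.Helper8OrdTensor Groth.Agent.Lib.Helper8RefOrd
  Groth.Agent.Lib.R2H2.HomShA Groth.Agent.Lib.R2H2.HomShB Groth.Agent.Lib.R2H4DualInv

variable {X : Scheme.{u}}

section DualGen

/-- a dual generator: over an affine open on which `F` has a free generator `e`, the dual has a
free generator `e'` with `e'(e) = 1`. -/
theorem exists_dual_gen (F : X.Modules) [F.IsQuasicoherent] {V : X.Opens} (hV : IsAffineOpen V)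
    (e : Γ(F, V)) (hgen : IsGen F V e) :
    ∃ e' : Γ(RefHull.dual F, V), IsGen (RefHull.dual F) V e' ∧
      actSec (F := F) (G := Coh.structureModule X) e' le_rfl e = toS V 1 := by
  obtain ⟨e', he'⟩ := (bijective_eval_gen F hV e hgen).2 (toS V 1)
  simp only [] at he'
  refine ⟨e', Groth.Agent.Lib.Helper23.PB.isGen_of_affine _ V e' (fun A hA hAaff => ?_), he'⟩
  have hb := bijective_eval_gen F hAaff (res F hA e) (hgen.mono hA)
  have hcomp : (fun h : Γ(RefHull.dual F, A) =>
      actSec (F := F) (G := Coh.structureModule X) h le_rfl (res F hA e)) ∘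
      (fun r : Γ(X, A) => r • res (RefHull.dual F) hA e') = fun r : Γ(X, A) => toS A r := by
    funext r
    simp only [Function.comp]
    rw [actSec_smul_left, actSec_res_left, ← actSec_res e' (le_refl V) hA e, he']
    change resf le_rfl r • toS A (resf hA 1) = toS A r
    rw [smul_toS]
    congr 1
    have h1 : resf hA (1 : Γ(X, V)) = 1 := map_one _
    have h2 : resf (le_refl A) r = r := by
      change X.presheaf.map (𝟙 _) r = r
      rw [X.presheaf.map_id]; rfl
    rw [h1, h2, mul_one]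
  have hbij : Function.Bijective (fun r : Γ(X, A) => toS A r) := Function.bijective_id
  rw [← hcomp] at hbij
  exact (Function.Bijective.of_comp_iff' hb _).1 hbij


theorem resf_self' {A : X.Opens} (r : Γ(X, A)) : resf (le_refl A) r = r := by
  change X.presheaf.map (𝟙 _) r = r
  rw [X.presheaf.map_id]; rfl

/-- the pairing of restricted dual generators. -/
theorem actSec_res_pair (F : X.Modules) {V O : X.Opens} (hO : O ≤ V) (e : Γ(F, V))
    (e' : Γ(RefHull.dual F, V))
    (hp : actSec (F := F) (G := Coh.structureModule X) e' le_rfl e = toS V 1) :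
    actSec (F := F) (G := Coh.structureModule X) (res (RefHull.dual F) hO e') le_rfl
      (res F hO e) = toS O 1 := by
  rw [actSec_res_left, ← actSec_res e' (le_refl V) hO e, hp]
  change toS O (resf hO 1) = toS O 1
  congr 1
  exact map_one _

/-- the transition units of dual generators are inverse to those of the generators. -/
theorem cc_dual (F : X.Modules) {V V' : X.Opens} (e : Γ(F, V)) (he : IsGen F V e)
    (e' : Γ(RefHull.dual F, V)) (he' : IsGen (RefHull.dual F) V e')
    (hp : actSec (F := F) (G := Coh.structureModule X) e' le_rfl e = toS V 1)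
    (a : Γ(F, V')) (ha : IsGen F V' a)
    (a' : Γ(RefHull.dual F, V')) (ha' : IsGen (RefHull.dual F) V' a')
    (hq : actSec (F := F) (G := Coh.structureModule X) a' le_rfl a = toS V' 1)
    (y : X) (hy : y ∈ V) (hy' : y ∈ V') :
    (genOfIsGen (RefHull.dual F) V e' he').cc (genOfIsGen (RefHull.dual F) V' a' ha') y hy hy' *
      (genOfIsGen F V e he).cc (genOfIsGen F V' a ha) y hy hy' = 1 := by
  have hO : V ⊓ V' ≤ V := inf_le_left
  have hO' : V ⊓ V' ≤ V' := inf_le_right
  have hyO : y ∈ V ⊓ V' := ⟨hy, hy'⟩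
  obtain ⟨r, hr⟩ := (he (V ⊓ V') hO).2 (res F hO' a)
  obtain ⟨q, hq'⟩ := (he' (V ⊓ V') hO).2 (res (RefHull.dual F) hO' a')
  simp only [] at hr hq'
  rw [cc_eq_germ F e he a ha hO hO' r hr y hyO,
    cc_eq_germ (RefHull.dual F) e' he' a' ha' hO hO' q hq' y hyO, ← map_mul]
  suffices h : q * r = 1 by rw [h, map_one]
  have h1 := actSec_res_pair F hO' a a' hq
  rw [← hq', ← hr, actSec_smul_left, actSec_smul, actSec_res_pair F hO e e' hp, resf_self',
    smul_toS, smul_toS, mul_one] at h1
  exact congrArg (ofS (V ⊓ V')) h1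

end DualGen

section Ord

variable [IsIntegral X] [IsLocallyNoetherian X]

/-- local dual frames of a rank one reflexive module at points of dimension at most one. -/
theorem exists_dual_frame (hX : Pi1.IsNormalScheme X) (F : X.Modules) (hF : RefHull.IsRef1 F)
    (z : X) (hz : ringKrullDim (X.presheaf.stalk z) ≤ 1) :
    ∃ (V : X.Opens) (e : Γ(F, V)) (e' : Γ(RefHull.dual F, V)), z ∈ V ∧ IsGen F V e ∧
      IsGen (RefHull.dual F) V e' ∧
      actSec (F := F) (G := Coh.structureModule X) e' le_rfl e = toS V 1 := by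
  obtain ⟨W, e₀, hzW, hgen⟩ := exists_isGen_of_dim_le_one hX F hF z hz
  obtain ⟨V, hV, hzV, hle⟩ := Opens.isBasis_iff_nbhd.1 X.isBasis_affineOpens hzW
  haveI : F.IsQuasicoherent := hF.1.1
  obtain ⟨e', he', hp⟩ := exists_dual_gen F hV (res F hle e₀) (hgen.mono hle)
  exact ⟨V, res F hle e₀, e', hzV, hgen.mono hle, he', hp⟩

/-- **orders of rational sections of the dual**: a nonzero rational section of a rank one
reflexive module has a dual rational section with the opposite orders. -/
theorem ord_dual (hX : Pi1.IsNormalScheme X) (F : X.Modules) (hF : RefHull.IsRef1 F)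
    (η : X) (hdimη : ringKrullDim (X.presheaf.stalk η) ≤ 1)
    (s : Cyc.secFibre F η) (hs : s ≠ 0) :
    ∃ s' : Cyc.secFibre (RefHull.dual F) η, s' ≠ 0 ∧
      ∀ (x : X) (h : η ⤳ x), ringKrullDim (X.presheaf.stalk x) ≤ 1 →
        Cyc.secOrdAt (RefHull.dual F) η x h s' = - Cyc.secOrdAt F η x h s := by
  classical
  obtain ⟨Vη, aη, aη', hηV, haη, haη', hpη⟩ := exists_dual_frame hX F hF η hdimη
  set gFη : Gen F := genOfIsGen F Vη aη haη with hgFη
  set gDη : Gen (RefHull.dual F) := genOfIsGen (RefHull.dual F) Vη aη' haη' with hgDη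
  set lamF : X.residueField η := gFη.fib η hηV s with hlamF
  have hlamF0 : lamF ≠ 0 := gFη.fib_ne_zero η hηV s hs
  obtain ⟨φ, hφ⟩ := X.residue_surjective η lamF⁻¹
  set s' : Cyc.secFibre (RefHull.dual F) η :=
    φ • (Submodule.Quotient.mk (gDη.g η hηV) : Cyc.secFibre (RefHull.dual F) η) with hs'
  have hs'fib : gDη.fib η hηV s' = lamF⁻¹ := by
    rw [hs', Gen.fib_smul]
    exact hφ
  have hs'0 : s' ≠ 0 := by
    intro h0
    have h1 : gDη.fib η hηV s' = 0 := by
      rw [h0]
      have := gDη.fib_smul η hηV 0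
      rw [zero_smul, map_zero] at this
      exact this
    rw [hs'fib] at h1
    exact inv_ne_zero hlamF0 h1
  refine ⟨s', hs'0, fun x h hx => ?_⟩
  obtain ⟨Vx, ex, ex', hxV, hex, hex', hpx⟩ := exists_dual_frame hX F hF x hx
  set gFx : Gen F := genOfIsGen F Vx ex hex with hgFx
  set gDx : Gen (RefHull.dual F) := genOfIsGen (RefHull.dual F) Vx ex' hex' with hgDx
  have hK : Ring.KrullDimLE 1 (Cyc.LocQuot x η h) := krullDimLE_locQuot' x η h hx
  have hm : η ∈ Vx := h.mem_open Vx.isOpen hxV
  rw [gen_secOrdAt_eq' gDx η x h hK hxV s', gen_secOrdAt_eq' gFx η x h hK hxV s]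
  have eD := gDx.fib_change gDη η hm hηV s'
  have eF := gFx.fib_change gFη η hm hηV s
  have ecc : gDx.cc gDη η hm hηV * gFx.cc gFη η hm hηV = 1 :=
    cc_dual F ex hex ex' hex' hpx aη haη aη' haη' hpη η hm hηV
  have hFx : gFx.fib η hm s ≠ 0 := gFx.fib_ne_zero η hm s hs
  have hDx : gDx.fib η hm s' ≠ 0 := gDx.fib_ne_zero η hm s' hs'0
  have hprod : gDx.fib η hm s' * gFx.fib η hm s = 1 := by
    rw [eD, eF, hs'fib]
    have h1 : X.residue η (gDx.cc gDη η hm hηV) * X.residue η (gFx.cc gFη η hm hηV) = 1 := by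
      rw [← map_mul, ecc, map_one]
    calc lamF⁻¹ * X.residue η (gDx.cc gDη η hm hηV) *
          (gFη.fib η hηV s * X.residue η (gFx.cc gFη η hm hηV))
        = (lamF⁻¹ * lamF) * (X.residue η (gDx.cc gDη η hm hηV) *
            X.residue η (gFx.cc gFη η hm hηV)) := by ring
      _ = 1 := by rw [h1, inv_mul_cancel₀ hlamF0, mul_one]
  have hsum := ordAt_mul' x η h hK hDx hFx
  rw [hprod, ordAt_one] at hsum
  omega

/-- the order of the rational section `1` of the structure module vanishes. -/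
theorem ord_one (η : X) :
    ∃ s₁ : Cyc.secFibre (Coh.structureModule X) η, s₁ ≠ 0 ∧
      ∀ (x : X) (h : η ⤳ x), ringKrullDim (X.presheaf.stalk x) ≤ 1 →
        Cyc.secOrdAt (Coh.structureModule X) η x h s₁ = 0 := by
  classical
  set G₀ : Gen (Coh.structureModule X) :=
    genOfIsGen (Coh.structureModule X) ⊤ (toS ⊤ 1) (isGen_one ⊤) with hG₀
  have hη : η ∈ G₀.W := trivial
  set s₁ : Cyc.secFibre (Coh.structureModule X) η :=
    (1 : X.presheaf.stalk η) • (Submodule.Quotient.mk (G₀.g η hη) :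
      Cyc.secFibre (Coh.structureModule X) η) with hs₁
  have hfib : G₀.fib η hη s₁ = 1 := by
    rw [hs₁, Gen.fib_smul, map_one]
  have hs₁0 : s₁ ≠ 0 := by
    intro h0
    have h1 : G₀.fib η hη s₁ = 0 := by
      rw [h0]
      have := G₀.fib_smul η hη 0
      rw [zero_smul, map_zero] at this
      exact this
    rw [hfib] at h1
    exact one_ne_zero h1
  refine ⟨s₁, hs₁0, fun x h hx => ?_⟩
  have hK : Ring.KrullDimLE 1 (Cyc.LocQuot x η h) := krullDimLE_locQuot' x η h hx
  have hxW : x ∈ G₀.W := trivial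
  rw [gen_secOrdAt_eq' G₀ η x h hK hxW s₁, hfib, ordAt_one]

end Ord

section Ref1

variable [IsIntegral X] [IsLocallyNoetherian X]

/-- a coherent module with a local free generator is generically invertible. -/
theorem genInvertible_of_gen (N : X.Modules) (hN : Coh.IsCoh N) (G : Gen N) (y : X)
    (hy : y ∈ G.W) : RefHull.GenInvertible N := by
  have hbij := G.bij y hy
  let e : X.presheaf.stalk y ≃ₗ[X.presheaf.stalk y] N.presheaf.stalk y :=
    LinearEquiv.ofBijective
      (LinearMap.toSpanSingleton (X.presheaf.stalk y) (N.presheaf.stalk y)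
        (N.presheaf.germ G.W y hy G.t)) hbij
  let b : Module.Basis (Fin 1) (X.presheaf.stalk y) (N.presheaf.stalk y) :=
    Module.Basis.ofEquivFun (e.symm ≪≫ₗ
      (LinearEquiv.funUnique (Fin 1) (X.presheaf.stalk y) (X.presheaf.stalk y)).symm)
  obtain ⟨U, hyU, ⟨ψ⟩⟩ :=
    Groth.Agent.Lib.R2H2.FibreFree.exists_restrict_iso_freeMod_of_stalk_basis N hN y 1 b
  refine ⟨U, IsOpen.dense U.isOpen ⟨y, hyU⟩, ?_⟩
  exact Groth.Agent.Lib.Helper23.AmpleIso.isInvertible_of_iso
    (ψ ≪≫ Limits.coproductUniqueIso (fun _ : Fin 1 => Coh.structureModule (↑U))).symm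
    (Groth.Agent.Lib.Helper23.TensorUnit.isInvertible_structureModule (↑U))

/-- nonzero rational sections exist for modules with a local free generator. -/
theorem exists_sec_ne_zero_of_gen (N : X.Modules) (G : Gen N) (y : X) (hy : y ∈ G.W) :
    ∃ s : Cyc.secFibre N y, s ≠ 0 := by
  set s₁ : Cyc.secFibre N y :=
    (1 : X.presheaf.stalk y) • (Submodule.Quotient.mk (G.g y hy) : Cyc.secFibre N y) with hs₁
  have hfib : G.fib y hy s₁ = 1 := by
    rw [hs₁, Gen.fib_smul, map_one]
  refine ⟨s₁, fun h0 => ?_⟩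
  have h1 : G.fib y hy s₁ = 0 := by
    rw [h0]
    have := G.fib_smul y hy 0
    rw [zero_smul, map_zero] at this
    exact this
  rw [hfib] at h1
  exact one_ne_zero h1

theorem exists_sec_ne_zero (hX : Pi1.IsNormalScheme X) (F : X.Modules) (hF : RefHull.IsRef1 F)
    (η : X) (hdimη : ringKrullDim (X.presheaf.stalk η) ≤ 1) :
    ∃ s : Cyc.secFibre F η, s ≠ 0 := by
  obtain ⟨W, e, hηW, hgen⟩ := exists_isGen_of_dim_le_one hX F hF η hdimη
  exact exists_sec_ne_zero_of_gen F (genOfIsGen F W e hgen) η hηW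

theorem isRef1_structureModule : RefHull.IsRef1 (Coh.structureModule X) := by
  refine ⟨Groth.Agent.Lib.R2Lead.ReflB.isCoh_structureModule X,
    Groth.Agent.Lib.R2LeadExtReg.isReflexive_structureModule, ?_⟩
  exact genInvertible_of_gen _ (Groth.Agent.Lib.R2Lead.ReflB.isCoh_structureModule X)
    (genOfIsGen (Coh.structureModule X) ⊤ (toS ⊤ 1) (isGen_one ⊤)) (genericPoint X) trivial

theorem isRef1_dual (hX : Pi1.IsNormalScheme X) (F : X.Modules) (hF : RefHull.IsRef1 F) :
    RefHull.IsRef1 (RefHull.dual F) := by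
  have hD : Coh.IsCoh (RefHull.dual F) := Groth.Agent.Lib.R2Lead.ReflB.isCoh_dual F hF.1
  refine ⟨hD, Groth.Agent.Lib.R2Lead.ReflC.isReflexive_homSh F (Coh.structureModule X) hF.1
    (Groth.Agent.Lib.R2Lead.ReflB.isCoh_structureModule X)
    Groth.Agent.Lib.R2LeadExtReg.isReflexive_structureModule, ?_⟩
  obtain ⟨V, e, e', hηV, he, he', hp⟩ := exists_dual_frame hX F hF (genericPoint X)
    ringKrullDim_stalk_genericPoint_le_one
  exact genInvertible_of_gen _ hD (genOfIsGen (RefHull.dual F) V e' he') (genericPoint X) hηV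

theorem isRef1_ddual_tensor (hX : Pi1.IsNormalScheme X) (F G : X.Modules)
    (hF : RefHull.IsRef1 F) (hG : RefHull.IsRef1 G) :
    RefHull.IsRef1 (RefHull.ddual (CohB1.tensorMod F G)) := by
  set M := CohB1.tensorMod F G with hMdef
  have hM : Coh.IsCoh M := isCoh_tensorMod' hF.1 hG.1
  have hD : Coh.IsCoh (RefHull.dual M) := Groth.Agent.Lib.R2Lead.ReflB.isCoh_dual M hM
  have hDD : Coh.IsCoh (RefHull.ddual M) := Groth.Agent.Lib.R2Lead.ReflB.isCoh_dual _ hD
  refine ⟨hDD, Groth.Agent.Lib.R2Lead.ReflC.isReflexive_homSh (RefHull.dual M)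
    (Coh.structureModule X) hD (Groth.Agent.Lib.R2Lead.ReflB.isCoh_structureModule X)
    Groth.Agent.Lib.R2LeadExtReg.isReflexive_structureModule, ?_⟩
  obtain ⟨WF, eF, hηF, hgF⟩ := exists_isGen_of_dim_le_one hX F hF (genericPoint X)
    ringKrullDim_stalk_genericPoint_le_one
  obtain ⟨WG, eG, hηG, hgG⟩ := exists_isGen_of_dim_le_one hX G hG (genericPoint X)
    ringKrullDim_stalk_genericPoint_le_one
  set W := WF ⊓ WG with hW
  have haF := isGen_res F (inf_le_left : W ≤ WF) eF hgF
  have haG := isGen_res G (inf_le_right : W ≤ WG) eG hgG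
  set gT : Gen M := genOfIsGen M W (tm F G W _ _) (isGen_tm F G W _ _ haF haG) with hgT
  have hβ : ∀ y ∈ gT.W, Function.Bijective (stalkMapₗ (bidualMap M) y) :=
    fun y hy => bijective_stalkMapₗ_bidualMap_of_gen M hM gT y hy
  exact genInvertible_of_gen _ hDD (mapGen (bidualMap M) gT hβ) (genericPoint X) ⟨hηF, hηG⟩

end Ref1

section Group

open Classical

theorem nonempty_iso_of_cl_eq {L L' : X.Modules} (h : PicF.cl L = PicF.cl L') :
    Nonempty (L ≅ L') := by
  have h' := Quot.eqvGen_exact h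
  clear h
  induction h' with
  | rel _ _ h => exact h
  | refl _ => exact ⟨Iso.refl _⟩
  | symm _ _ _ ih => exact ⟨ih.some.symm⟩
  | trans _ _ _ _ _ ih1 ih2 => exact ⟨ih1.some ≪≫ ih2.some⟩

/-- transport of commutative group axioms along an injective map to a commutative group. -/
theorem transport {T Q : Type*} [AddCommGroup Q] (κ : T → Q) (hκ : Function.Injective κ)
    (mul : T → T → T) (one : T) (inv : T → T)
    (hmul : ∀ a b, κ (mul a b) = κ a + κ b) (hone : κ one = 0) (hinv : ∀ a, κ (inv a) = - κ a) :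
    (∀ a b, mul a b = mul b a) ∧ (∀ a b c, mul (mul a b) c = mul a (mul b c)) ∧
      (∀ a, mul one a = a) ∧ (∀ a, mul (inv a) a = one) := by
  refine ⟨fun a b => hκ ?_, fun a b c => hκ ?_, fun a => hκ ?_, fun a => hκ ?_⟩
  · rw [hmul, hmul, add_comm]
  · rw [hmul, hmul, hmul, hmul, add_assoc]
  · rw [hmul, hone, zero_add]
  · rw [hmul, hinv, hone, neg_add_cancel]

variable (X) [IsIntegral X] [IsLocallyNoetherian X]

theorem ord_one_ff (x : X) : Scheme.ord (1 : X.functionField) x = 0 := by
  have h := Scheme.ord_mul (X := X) (x := x) (one_ne_zero : (1 : X.functionField) ≠ 0)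
    (one_ne_zero : (1 : X.functionField) ≠ 0)
  rw [mul_one] at h
  omega

theorem ord_inv_ff {f : X.functionField} (hf : f ≠ 0) (x : X) :
    Scheme.ord f⁻¹ x = - Scheme.ord f x := by
  have h := Scheme.ord_mul (X := X) (x := x) hf (inv_ne_zero hf)
  rw [mul_inv_cancel₀ hf, ord_one_ff] at h
  omega

/-- principal divisors (as functions on the points). -/
def Prin : AddSubgroup (X → ℤ) where
  carrier := {d | ∃ f : X.functionField, f ≠ 0 ∧ d = fun x => Scheme.ord f x}
  zero_mem' := ⟨1, one_ne_zero, funext fun x => (ord_one_ff X x).symm⟩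
  add_mem' := by
    rintro _ _ ⟨f, hf, rfl⟩ ⟨g, hg, rfl⟩
    exact ⟨f * g, mul_ne_zero hf hg, funext fun x => (Scheme.ord_mul hf hg).symm⟩
  neg_mem' := by
    rintro _ ⟨f, hf, rfl⟩
    exact ⟨f⁻¹, inv_ne_zero hf, funext fun x => (ord_inv_ff X hf x).symm⟩

variable {X}

/-- the divisor of a rational section, as a function on the points. -/
noncomputable def divfun (F : X.Modules) (s : Cyc.secFibre F (genericPoint X)) : X → ℤ :=
  fun x => if Order.coheight x = 1 then
    Cyc.secOrdAt F (genericPoint X) x ((genericPoint_spec X).specializes (Set.mem_univ x)) s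
  else 0

variable (X)

/-- the statement of S16086. -/
def H86 : Prop :=
  ∀ (F G : X.Modules) (_ : RefHull.IsRef1 F) (_ : RefHull.IsRef1 G)
    (s : Cyc.secFibre F (genericPoint ↥X)) (_ : s ≠ 0)
    (t : Cyc.secFibre G (genericPoint ↥X)) (_ : t ≠ 0),
    Nonempty (F ≅ G) ↔
      ∃ f : ↑X.functionField, f ≠ 0 ∧
        ∀ (x : ↥X), Order.coheight x = 1 →
          Cyc.secOrdAt F (genericPoint ↥X) x
              ((genericPoint_spec ↥X).specializes (Set.mem_univ x)) s =
            Cyc.secOrdAt G (genericPoint ↥X) x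
                ((genericPoint_spec ↥X).specializes (Set.mem_univ x)) t +
              Scheme.ord f x

variable {X}

theorem kappa_eq_iff (h86 : H86 X) (F G : X.Modules) (hF : RefHull.IsRef1 F)
    (hG : RefHull.IsRef1 G) (s : Cyc.secFibre F (genericPoint X)) (hs : s ≠ 0)
    (t : Cyc.secFibre G (genericPoint X)) (ht : t ≠ 0) :
    (QuotientAddGroup.mk (divfun F s) : (X → ℤ) ⧸ Prin X) = QuotientAddGroup.mk (divfun G t) ↔
      Nonempty (F ≅ G) := by
  rw [h86 F G hF hG s hs t ht, QuotientAddGroup.eq]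
  constructor
  · rintro ⟨g, hg, hEq⟩
    refine ⟨g⁻¹, inv_ne_zero hg, fun x hx => ?_⟩
    have h1 := congrFun hEq x
    simp only [Pi.add_apply, Pi.neg_apply, divfun, if_pos hx] at h1
    rw [ord_inv_ff X hg x]
    omega
  · rintro ⟨f, hf, h⟩
    refine ⟨f⁻¹, inv_ne_zero hf, funext fun x => ?_⟩
    by_cases hx : Order.coheight x = 1
    · simp only [Pi.add_apply, Pi.neg_apply, divfun, if_pos hx]
      rw [ord_inv_ff X hf x, h x hx]
      omega
    · simp only [Pi.add_apply, Pi.neg_apply, divfun, if_neg hx]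
      rw [Scheme.ord_eq_zero_of_coheight_neq_one hx]
      omega

end Group

section Main16085

open Classical

variable [IsIntegral X] [IsLocallyNoetherian X]

/-- classes of rank one coherent reflexive modules. -/
abbrev RT (X : Scheme.{u}) : Type (u + 1) :=
  {c : PicF.Cl X // ∃ F : X.Modules, PicF.cl F = c ∧ RefHull.IsRef1 F}

noncomputable def rep (a : RT X) : X.Modules := a.2.choose

theorem rep_cl (a : RT X) : PicF.cl (rep a) = a.1 := a.2.choose_spec.1

theorem rep_ref1 (a : RT X) : RefHull.IsRef1 (rep a) := a.2.choose_spec.2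

abbrev mk' (F : X.Modules) (hF : RefHull.IsRef1 F) : RT X := ⟨PicF.cl F, F, rfl, hF⟩

theorem dim_le_one_of_coheight (x : X) (hx : Order.coheight x = 1) :
    ringKrullDim (X.presheaf.stalk x) ≤ 1 := by
  rw [AlgebraicGeometry.ringKrullDim_stalk_eq_coheight x, hx]
  rfl

noncomputable def sec (hX : Pi1.IsNormalScheme X) (F : X.Modules) (hF : RefHull.IsRef1 F) :
    Cyc.secFibre F (genericPoint X) :=
  (exists_sec_ne_zero hX F hF (genericPoint X) ringKrullDim_stalk_genericPoint_le_one).choose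

theorem sec_ne (hX : Pi1.IsNormalScheme X) (F : X.Modules) (hF : RefHull.IsRef1 F) :
    sec hX F hF ≠ 0 :=
  (exists_sec_ne_zero hX F hF (genericPoint X) ringKrullDim_stalk_genericPoint_le_one).choose_spec

/-- the divisor class of a rank one reflexive module. -/
noncomputable def kap (hX : Pi1.IsNormalScheme X) (F : X.Modules) (hF : RefHull.IsRef1 F) :
    (X → ℤ) ⧸ Prin X :=
  QuotientAddGroup.mk (divfun F (sec hX F hF))

theorem kap_eq (h86 : H86 X) (hX : Pi1.IsNormalScheme X) (F : X.Modules)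
    (hF : RefHull.IsRef1 F) (s : Cyc.secFibre F (genericPoint X)) (hs : s ≠ 0) :
    kap hX F hF = QuotientAddGroup.mk (divfun F s) :=
  (kappa_eq_iff h86 F F hF hF _ (sec_ne hX F hF) s hs).2 ⟨Iso.refl F⟩

theorem kap_eq_iff (h86 : H86 X) (hX : Pi1.IsNormalScheme X) (F G : X.Modules)
    (hF : RefHull.IsRef1 F) (hG : RefHull.IsRef1 G) :
    kap hX F hF = kap hX G hG ↔ Nonempty (F ≅ G) :=
  kappa_eq_iff h86 F G hF hG _ (sec_ne hX F hF) _ (sec_ne hX G hG)

theorem kap_tensor (h86 : H86 X) (hX : Pi1.IsNormalScheme X) (F G : X.Modules)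
    (hF : RefHull.IsRef1 F) (hG : RefHull.IsRef1 G) :
    kap hX (RefHull.ddual (CohB1.tensorMod F G)) (isRef1_ddual_tensor hX F G hF hG) =
      kap hX F hF + kap hX G hG := by
  obtain ⟨w, hw0, hw⟩ := Groth.Agent.Lib.Helper8RefOrd.main hX F G hF hG (sec hX F hF)
    (sec_ne hX F hF) (sec hX G hG) (sec_ne hX G hG)
  rw [kap_eq h86 hX _ _ w hw0]
  unfold kap
  rw [← QuotientAddGroup.mk_add]
  congr 1
  funext x
  simp only [divfun, Pi.add_apply]
  split_ifs with hx
  · exact hw x _ (dim_le_one_of_coheight x hx)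
  · rfl

theorem kap_one (h86 : H86 X) (hX : Pi1.IsNormalScheme X) :
    kap hX (Coh.structureModule X) isRef1_structureModule = 0 := by
  obtain ⟨s₁, hs₁, h⟩ := ord_one (X := X) (genericPoint X)
  rw [kap_eq h86 hX _ _ s₁ hs₁]
  have h0 : divfun (Coh.structureModule X) s₁ = 0 := by
    funext x
    simp only [divfun, Pi.zero_apply]
    split_ifs with hx
    · exact h x _ (dim_le_one_of_coheight x hx)
    · rfl
  rw [h0]
  rfl

theorem kap_dual (h86 : H86 X) (hX : Pi1.IsNormalScheme X) (F : X.Modules)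
    (hF : RefHull.IsRef1 F) :
    kap hX (RefHull.dual F) (isRef1_dual hX F hF) = - kap hX F hF := by
  obtain ⟨s', hs', h⟩ := ord_dual hX F hF (genericPoint X)
    ringKrullDim_stalk_genericPoint_le_one (sec hX F hF) (sec_ne hX F hF)
  rw [kap_eq h86 hX _ _ s' hs']
  unfold kap
  rw [← QuotientAddGroup.mk_neg]
  congr 1
  funext x
  simp only [divfun, Pi.neg_apply]
  split_ifs with hx
  · exact h x _ (dim_le_one_of_coheight x hx)
  · rfl

/-- **S16085**, given the statement of S16086. -/
theorem main16085 (hX : Pi1.IsNormalScheme X) (h86 : H86 X) :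
    ∃ (mul : RT X → RT X → RT X) (one : RT X) (inv : RT X → RT X),
      (∀ a b, mul a b = mul b a) ∧ (∀ a b c, mul (mul a b) c = mul a (mul b c)) ∧
        (∀ a, mul one a = a) ∧ (∀ a, mul (inv a) a = one) ∧
        (∀ (F G : X.Modules) (hF : RefHull.IsRef1 F) (hG : RefHull.IsRef1 G),
          (mul ⟨PicF.cl F, F, rfl, hF⟩ ⟨PicF.cl G, G, rfl, hG⟩).1 =
            PicF.cl (RefHull.ddual (CohB1.tensorMod F G))) ∧
        one.1 = PicF.cl (Coh.structureModule X) ∧
        (∀ (F : X.Modules) (hF : RefHull.IsRef1 F),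
          (inv ⟨PicF.cl F, F, rfl, hF⟩).1 = PicF.cl (RefHull.dual F)) := by
  let κ : RT X → (X → ℤ) ⧸ Prin X := fun a => kap hX (rep a) (rep_ref1 a)
  have hκ : Function.Injective κ := fun a b hab => by
    have h1 := (kap_eq_iff h86 hX _ _ (rep_ref1 a) (rep_ref1 b)).1 hab
    apply Subtype.ext
    rw [← rep_cl a, ← rep_cl b]
    exact Quot.sound h1
  have hκmk : ∀ (F : X.Modules) (hF : RefHull.IsRef1 F), κ (mk' F hF) = kap hX F hF :=
    fun F hF => (kap_eq_iff h86 hX _ _ _ hF).2 (nonempty_iso_of_cl_eq (rep_cl (mk' F hF)))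
  let mul : RT X → RT X → RT X := fun a b =>
    mk' (RefHull.ddual (CohB1.tensorMod (rep a) (rep b)))
      (isRef1_ddual_tensor hX _ _ (rep_ref1 a) (rep_ref1 b))
  let one : RT X := mk' (Coh.structureModule X) isRef1_structureModule
  let inv : RT X → RT X := fun a => mk' (RefHull.dual (rep a)) (isRef1_dual hX _ (rep_ref1 a))
  have hmul : ∀ a b, κ (mul a b) = κ a + κ b := fun a b => by
    change κ (mk' _ _) = _
    rw [hκmk]
    exact kap_tensor h86 hX _ _ (rep_ref1 a) (rep_ref1 b)
  have hone : κ one = 0 := by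
    change κ (mk' _ _) = _
    rw [hκmk]
    exact kap_one h86 hX
  have hinv : ∀ a, κ (inv a) = - κ a := fun a => by
    change κ (mk' _ _) = _
    rw [hκmk]
    exact kap_dual h86 hX _ (rep_ref1 a)
  obtain ⟨h1, h2, h3, h4⟩ := transport κ hκ mul one inv hmul hone hinv
  refine ⟨mul, one, inv, h1, h2, h3, h4, ?_, rfl, ?_⟩
  · intro F G hF hG
    have h5 : mul (mk' F hF) (mk' G hG) =
        mk' (RefHull.ddual (CohB1.tensorMod F G)) (isRef1_ddual_tensor hX F G hF hG) := by
      apply hκ
      rw [hmul, hκmk, hκmk, hκmk, kap_tensor h86 hX F G hF hG]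
    exact congrArg Subtype.val h5
  · intro F hF
    have h5 : inv (mk' F hF) = mk' (RefHull.dual F) (isRef1_dual hX F hF) := by
      apply hκ
      rw [hinv, hκmk, hκmk, kap_dual h86 hX F hF]
    exact congrArg Subtype.val h5

end Main16085





end Groth.Agent.Lib.Helper8RefGrp
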