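import Mathlib
import Groth.Prelude.Def_RefHull
import Groth.Prelude.Def_Cyc
import Groth.Prelude.Def_C1
import Groth.Agent.Lib.Helper8RefGrp
import Groth.Agent.Lib.Helper8OrdCompare
import Groth.Agent.Lib.H9CDivUFD

/-!
# Isomorphic rank one reflexive modules have linearly equivalent divisors (helper8)

The direction (⟹) of S16086.
-/

set_option autoImplicit false
set_option linter.style.haveILetI false
set_option linter.unusedSectionVars false
universe u v

namespace Groth.Agent.Lib.Helper8RefIso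

open AlgebraicGeometry CategoryTheory TopologicalSpace IsLocalRing CycAlg Opposite RefHull
  Groth.Agent.Lib.R2H1.C1Comm Groth.Agent.Lib.R2H1.C1Rel Groth.Agent.Lib.R2H1.C1Tensor
  Groth.Agent.Lib.Helper23.SecTw Groth.Agent.Lib.Helper6 Groth.Agent.Lib.Helper23.GenLocus
  Groth.Agent.Lib.R2H1.LocQuot Groth.Agent.Lib.R2H1.RatEquivOpen Groth.Agent.Lib.R2H1.KeyLemma
  Groth.Agent.Lib.R2H1.SecDiv Groth.Agent.Lib.Helper8OrdTensor Groth.Agent.Lib.Helper8RefOrd
  Groth.Agent.Lib.Helper8RefGrp Groth.Agent.Lib.Helper8OrdCompare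

variable {X : Scheme.{u}} [IsIntegral X] [IsLocallyNoetherian X]

theorem bijective_stalkMapₗ_of_iso {F G : X.Modules} (α : F ≅ G) (y : X) :
    Function.Bijective (stalkMapₗ α.hom y) :=
  (Groth.Agent.Lib.Helper20.ZClosLib.isIso_iff_stalk_bijective α.hom).1 inferInstance y

/-- **S16086 (⟹)**: isomorphic rank one reflexive modules have linearly equivalent divisors of
rational sections. -/
theorem ord_of_iso (hX : Pi1.IsNormalScheme X) (F G : X.Modules) (hF : RefHull.IsRef1 F)
    (α : F ≅ G)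
    (s : Cyc.secFibre F (genericPoint X)) (hs : s ≠ 0)
    (t : Cyc.secFibre G (genericPoint X)) (ht : t ≠ 0) :
    ∃ f : X.functionField, f ≠ 0 ∧
      ∀ (x : X), Order.coheight x = 1 →
        Cyc.secOrdAt F (genericPoint X) x ((genericPoint_spec X).specializes (Set.mem_univ x)) s =
          Cyc.secOrdAt G (genericPoint X) x
              ((genericPoint_spec X).specializes (Set.mem_univ x)) t + Scheme.ord f x := by
  classical
  have hdimη := ringKrullDim_stalk_genericPoint_le_one (X := X)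
  have hα : ∀ (Gn : Gen F), ∀ y ∈ Gn.W, Function.Bijective (stalkMapₗ α.hom y) :=
    fun _ y _ => bijective_stalkMapₗ_of_iso α y
  obtain ⟨Wη, eη, hηW, hgη⟩ := exists_isGen_of_dim_le_one hX F hF (genericPoint X) hdimη
  set gFη : Gen F := genOfIsGen F Wη eη hgη with hgFη
  set gGη : Gen G := mapGen α.hom gFη (hα gFη) with hgGη
  set a : X.residueField (genericPoint X) := gFη.fib _ hηW s with ha
  set b : X.residueField (genericPoint X) := gGη.fib _ hηW t with hb
  have ha0 : a ≠ 0 := gFη.fib_ne_zero _ hηW s hs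
  have hb0 : b ≠ 0 := gGη.fib_ne_zero _ hηW t ht
  set f : X.functionField := (eK (X := X)).symm (a / b) with hf
  have hres : X.residue (genericPoint X) f = a / b := by
    rw [← eK_apply, hf, RingEquiv.apply_symm_apply]
  have hf0 : f ≠ 0 := by
    intro h0
    rw [h0, map_zero] at hres
    exact div_ne_zero ha0 hb0 hres.symm
  refine ⟨f, hf0, fun x hx => ?_⟩
  have hdx := dim_le_one_of_coheight x hx
  set h := (genericPoint_spec X).specializes (Set.mem_univ x) with hh
  obtain ⟨Wx, ex, hxW, hgx⟩ := exists_isGen_of_dim_le_one hX F hF x hdx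
  set gFx : Gen F := genOfIsGen F Wx ex hgx with hgFx
  set gGx : Gen G := mapGen α.hom gFx (hα gFx) with hgGx
  have hK : Ring.KrullDimLE 1 (Cyc.LocQuot x (genericPoint X) h) :=
    krullDimLE_locQuot' x _ h hdx
  have hm : genericPoint X ∈ Wx := h.mem_open Wx.isOpen hxW
  rw [gen_secOrdAt_eq' gFx _ x h hK hxW s, gen_secOrdAt_eq' gGx _ x h hK hxW t,
    scheme_ord_eq_ordAt x hx h f, hres]
  have eF := gFx.fib_change gFη _ hm hηW s
  have eG := gGx.fib_change gGη _ hm hηW t
  have ecc : gGx.cc gGη _ hm hηW = gFx.cc gFη _ hm hηW :=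
    cc_mapGen α.hom gFx gFη (hα gFx) (hα gFη) _ hm hηW
  set c : X.residueField (genericPoint X) := X.residue _ (gFx.cc gFη _ hm hηW) with hc
  have hFx : gFx.fib _ hm s ≠ 0 := gFx.fib_ne_zero _ hm s hs
  have hGx : gGx.fib _ hm t ≠ 0 := gGx.fib_ne_zero _ hm t ht
  have hprod : gFx.fib _ hm s = gGx.fib _ hm t * (a / b) := by
    rw [eF, eG, ecc]
    change a * c = b * c * (a / b)
    field_simp
  rw [hprod, ordAt_mul' x _ h hK hGx (div_ne_zero ha0 hb0)]


section Hom

open Groth.Agent.Lib.R2H2.HomShA Groth.Agent.Lib.R2LeadHartD Groth.Agent.Lib.R2LeadHartF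

theorem stalkMapₗ_comp {M N P : X.Modules} (φ : M ⟶ N) (ψ : N ⟶ P) (x : X)
    (v : M.presheaf.stalk x) :
    stalkMapₗ (φ ≫ ψ) x v = stalkMapₗ ψ x (stalkMapₗ φ x v) := by
  obtain ⟨U, hxU, m, rfl⟩ := TopCat.Presheaf.exists_germ_eq M.presheaf v
  rw [stalkMapₗ_germ, stalkMapₗ_germ, stalkMapₗ_germ]
  rfl

theorem stalkMapₗ_id (M : X.Modules) (x : X) (v : M.presheaf.stalk x) :
    stalkMapₗ (𝟙 M) x v = v := by
  obtain ⟨U, hxU, m, rfl⟩ := TopCat.Presheaf.exists_germ_eq M.presheaf v
  rw [stalkMapₗ_germ]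
  rfl

theorem hom_ext_stalk {M N : X.Modules} (φ₁ φ₂ : M ⟶ N)
    (h : ∀ x, stalkMapₗ φ₁ x = stalkMapₗ φ₂ x) : φ₁ = φ₂ := by
  have h1 : ofHom φ₁ ⊤ = ofHom φ₂ ⊤ := Subtype.ext (funext fun x => h x.1)
  rw [← toHom_ofHom φ₁, h1, toHom_ofHom]

/-- morphisms to a torsion-free quasi-coherent module are determined by their generic stalk map. -/
theorem hom_ext_generic {M N : X.Modules} [N.IsQuasicoherent]
    (htf : ∀ (x : X) (a : X.presheaf.stalk x) (v : N.presheaf.stalk x), a • v = 0 → a = 0 ∨ v = 0)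
    (φ₁ φ₂ : M ⟶ N)
    (h : stalkMapₗ φ₁ (genericPoint X) = stalkMapₗ φ₂ (genericPoint X)) : φ₁ = φ₂ := by
  apply hom_ext_stalk
  intro x
  apply LinearMap.ext
  intro v
  apply gen_injective N htf x
  rw [gen_stalkMapₗ, gen_stalkMapₗ, h]

end Hom


section DVR

/-- a nonzero rational function of order zero at a point of coheight one of a normal scheme is
(the image of) an element of the local ring. -/
theorem exists_algebraMap_eq_of_ord_eq_zero (hX : Pi1.IsNormalScheme X) (x : X)
    (hx : Order.coheight x = 1) (z : X.functionField) (hz : z ≠ 0)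
    (h0 : Scheme.ord z x = 0) :
    ∃ w₀ : X.presheaf.stalk x, algebraMap (X.presheaf.stalk x) X.functionField w₀ = z := by
  haveI := (hX x).1
  haveI := Groth.Agent.Lib.H9CDivUFD.isDVR_of_coheight_one hX x hx
  rcases ValuationRing.isInteger_or_isInteger (X.presheaf.stalk x) z with ⟨w₀, hw₀⟩ | ⟨c, hc⟩
  · exact ⟨w₀, hw₀⟩
  · have hinv : Scheme.ord z⁻¹ x = 0 := by
      rw [Groth.Agent.Lib.H9CDivUFD.ord_inv x z hz, h0, neg_zero]
    by_cases hcu : IsUnit c
    · obtain ⟨cu, rfl⟩ := hcu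
      refine ⟨((cu⁻¹ : (X.presheaf.stalk x)ˣ) : X.presheaf.stalk x), ?_⟩
      have h1 : algebraMap (X.presheaf.stalk x) X.functionField
          (((cu⁻¹ : (X.presheaf.stalk x)ˣ) : X.presheaf.stalk x)) * z⁻¹ = 1 := by
        rw [← hc, ← map_mul, Units.inv_mul, map_one]
      exact (eq_inv_of_mul_eq_one_left h1).trans (inv_inv z)
    · exfalso
      have hcm : c ∈ IsLocalRing.maximalIdeal (X.presheaf.stalk x) :=
        (IsLocalRing.mem_maximalIdeal c).2 hcu
      have hc0 : c ≠ 0 := by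
        intro h
        rw [h, map_zero] at hc
        exact inv_ne_zero hz hc.symm
      have h1 := Groth.Agent.Lib.H9CDivUFD.ord_algebraMap_pos x hx c hcm hc0
      rw [hc, hinv] at h1
      omega

end DVR


section Coord

/-- a generic linear map given in coordinates by multiplication by `u` maps the stalk at `x` into
the stalk at `x` when the transition element is (the image of) an element of the local ring. -/
theorem mapsTo_of_coord {F G : X.Modules} (gFη : Gen F) (gGη : Gen G) (gFx : Gen F) (gGx : Gen G)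
    (η x : X) (h : η ⤳ x) (hxF : x ∈ gFx.W) (hxG : x ∈ gGx.W) (hηF : η ∈ gFη.W) (hηG : η ∈ gGη.W)
    (u : X.presheaf.stalk η)
    (T : F.presheaf.stalk η →ₗ[X.presheaf.stalk η] G.presheaf.stalk η)
    (hT : ∀ c : X.presheaf.stalk η, T (c • gFη.g η hηF) = (c * u) • gGη.g η hηG)
    (w₀ : X.presheaf.stalk x)
    (hw : X.presheaf.stalkSpecializes h w₀ =
      gFη.cc gFx η hηF (h.mem_open gFx.W.isOpen hxF) * u *
        gGx.cc gGη η (h.mem_open gGx.W.isOpen hxG) hηG) :
    Set.MapsTo ⇑T (Set.range ⇑(F.presheaf.stalkSpecializes h).hom)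
      (Set.range ⇑(G.presheaf.stalkSpecializes h).hom) := by
  rintro _ ⟨v, rfl⟩
  obtain ⟨r, hr⟩ := (gFx.g_bij x hxF).2 v
  simp only [] at hr
  refine ⟨(r * w₀) • gGx.g x hxG, ?_⟩
  change G.presheaf.stalkSpecializes h ((r * w₀) • gGx.g x hxG) =
    T (F.presheaf.stalkSpecializes h v)
  rw [← hr, stalkSpecializes_smul, stalkSpecializes_smul, Gen.g_specializes, Gen.g_specializes,
    ← Gen.cc_spec gFη gFx η hηF (h.mem_open gFx.W.isOpen hxF), smul_smul, hT,
    ← Gen.cc_spec gGx gGη η (h.mem_open gGx.W.isOpen hxG) hηG, smul_smul, map_mul, hw]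
  congr 1
  ring

end Coord


section Main

open Groth.Agent.Lib.R2H2.HomShA Groth.Agent.Lib.R2LeadHartD Groth.Agent.Lib.R2LeadHartF

/-- the order of a rational section in terms of Mathlib's order of vanishing, a coordinate at the
generic point and a transition unit. -/
theorem secOrdAt_eq_ord {F : X.Modules} (gFη gFx : Gen F) (x : X)
    (hx : Order.coheight x = 1) (h : genericPoint X ⤳ x)
    (hxW : x ∈ gFx.W) (hηW : genericPoint X ∈ gFη.W)
    (s : Cyc.secFibre F (genericPoint X)) (hs : s ≠ 0) :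
    Cyc.secOrdAt F (genericPoint X) x h s =
      Scheme.ord ((eK (X := X)).symm (gFη.fib _ hηW s)) x +
        Scheme.ord (gFx.cc gFη (genericPoint X) (h.mem_open gFx.W.isOpen hxW) hηW :
          X.functionField) x := by
  have hK : Ring.KrullDimLE 1 (Cyc.LocQuot x (genericPoint X) h) :=
    krullDimLE_locQuot' x _ h (dim_le_one_of_coheight x hx)
  have hm : genericPoint X ∈ gFx.W := h.mem_open gFx.W.isOpen hxW
  have ha0 : gFη.fib _ hηW s ≠ 0 := gFη.fib_ne_zero _ hηW s hs
  have ha0' : (eK (X := X)).symm (gFη.fib _ hηW s) ≠ 0 := by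
    intro h0
    apply ha0
    have := congrArg (eK (X := X)) h0
    rwa [RingEquiv.apply_symm_apply, map_zero] at this
  have hz0 : (gFx.cc gFη (genericPoint X) hm hηW : X.functionField) ≠ 0 :=
    (gFx.cc_isUnit gFη _ hm hηW).ne_zero
  have hres : X.residue (genericPoint X) ((eK (X := X)).symm (gFη.fib _ hηW s)) =
      gFη.fib _ hηW s := by
    rw [← eK_apply, RingEquiv.apply_symm_apply]
  rw [gen_secOrdAt_eq' gFx _ x h hK hxW s, gFx.fib_change gFη _ hm hηW s,
    ← Scheme.ord_mul ha0' hz0, scheme_ord_eq_ordAt x hx h, map_mul, hres]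

/-- the statement of S16083. -/
def H83 (X : Scheme.{u}) [IsIntegral X] [IsLocallyNoetherian X] : Prop :=
  ∀ (F G : X.Modules) (_ : Coh.IsCoh F) (_ : Coh.IsCoh G)
    (T : ↑(G.presheaf.stalk (genericPoint ↥X)) →ₗ[↑(X.presheaf.stalk (genericPoint ↥X))]
      ↑(F.presheaf.stalk (genericPoint ↥X))),
    (∃ ψ : G ⟶ RefHull.ddual F, RefHull.stalkMapₗ ψ (genericPoint ↥X) =
        (RefHull.stalkMapₗ (RefHull.bidualMap F) (genericPoint ↥X)).comp T) ↔
      ∀ x : ↥X, ringKrullDim ↑(X.presheaf.stalk x) = 1 →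
        Set.MapsTo ⇑T
          (Set.range ⇑(G.presheaf.stalkSpecializes
            ((genericPoint_spec ↥X).specializes (Set.mem_univ x))).hom)
          (Set.range ⇑(F.presheaf.stalkSpecializes
            ((genericPoint_spec ↥X).specializes (Set.mem_univ x))).hom)

/-- a morphism between rank one reflexive modules with prescribed generic coordinate. -/
theorem exists_hom_of_ord (hX : Pi1.IsNormalScheme X) (h83 : H83 X) (F G : X.Modules)
    (hF : RefHull.IsRef1 F) (hG : RefHull.IsRef1 G)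
    (gFη : Gen F) (gGη : Gen G) (hηF : genericPoint X ∈ gFη.W) (hηG : genericPoint X ∈ gGη.W)
    (u : X.functionField) (hu : u ≠ 0)
    (hord : ∀ (x : X), Order.coheight x = 1 → ∀ (gFx : Gen F) (gGx : Gen G) (hxF : x ∈ gFx.W)
      (hxG : x ∈ gGx.W) (h : genericPoint X ⤳ x),
      Scheme.ord (gFη.cc gFx (genericPoint X) hηF (h.mem_open gFx.W.isOpen hxF) * u *
        gGx.cc gGη (genericPoint X) (h.mem_open gGx.W.isOpen hxG) hηG : X.functionField) x = 0) :
    ∃ φ : F ⟶ G, ∀ c : X.functionField,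
      stalkMapₗ φ (genericPoint X) (c • gFη.g _ hηF) = (c * u) • gGη.g _ hηG := by
  classical
  let EF : X.presheaf.stalk (genericPoint X) ≃ₗ[X.presheaf.stalk (genericPoint X)]
      F.presheaf.stalk (genericPoint X) :=
    LinearEquiv.ofBijective (LinearMap.toSpanSingleton _ _ (gFη.g _ hηF)) (gFη.g_bij _ hηF)
  let EG : X.presheaf.stalk (genericPoint X) ≃ₗ[X.presheaf.stalk (genericPoint X)]
      G.presheaf.stalk (genericPoint X) :=
    LinearEquiv.ofBijective (LinearMap.toSpanSingleton _ _ (gGη.g _ hηG)) (gGη.g_bij _ hηG)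
  let T : F.presheaf.stalk (genericPoint X) →ₗ[X.presheaf.stalk (genericPoint X)]
      G.presheaf.stalk (genericPoint X) :=
    EG.toLinearMap ∘ₗ (u • LinearMap.id) ∘ₗ EF.symm.toLinearMap
  have hEF : ∀ c, EF c = c • gFη.g _ hηF := fun c => rfl
  have hEG : ∀ c, EG c = c • gGη.g _ hηG := fun c => rfl
  have hT : ∀ c : X.presheaf.stalk (genericPoint X),
      T (c • gFη.g _ hηF) = (c * u) • gGη.g _ hηG := by
    intro c
    change EG (u • EF.symm (c • gFη.g _ hηF)) = _
    rw [← hEF, LinearEquiv.symm_apply_apply, hEG, smul_eq_mul, mul_comm]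
  have hmaps : ∀ x : X, ringKrullDim (X.presheaf.stalk x) = 1 →
      Set.MapsTo ⇑T
        (Set.range ⇑(F.presheaf.stalkSpecializes
          ((genericPoint_spec X).specializes (Set.mem_univ x))).hom)
        (Set.range ⇑(G.presheaf.stalkSpecializes
          ((genericPoint_spec X).specializes (Set.mem_univ x))).hom) := by
    intro x hdx
    have hx : Order.coheight x = 1 := by
      rw [AlgebraicGeometry.ringKrullDim_stalk_eq_coheight x] at hdx
      exact_mod_cast hdx
    have hdx' := dim_le_one_of_coheight x hx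
    set h := (genericPoint_spec X).specializes (Set.mem_univ x) with hh
    obtain ⟨WF, eF, hxWF, hgF⟩ := exists_isGen_of_dim_le_one hX F hF x hdx'
    obtain ⟨WG, eG, hxWG, hgG⟩ := exists_isGen_of_dim_le_one hX G hG x hdx'
    set gFx : Gen F := genOfIsGen F WF eF hgF with hgFx
    set gGx : Gen G := genOfIsGen G WG eG hgG with hgGx
    have h0 := hord x hx gFx gGx hxWF hxWG h
    have hne : (gFη.cc gFx (genericPoint X) hηF (h.mem_open gFx.W.isOpen hxWF) * u *
        gGx.cc gGη (genericPoint X) (h.mem_open gGx.W.isOpen hxWG) hηG : X.functionField) ≠ 0 :=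
      mul_ne_zero (mul_ne_zero (gFη.cc_isUnit gFx _ _ _).ne_zero hu)
        (gGx.cc_isUnit gGη _ _ _).ne_zero
    obtain ⟨w₀, hw₀⟩ := exists_algebraMap_eq_of_ord_eq_zero hX x hx _ hne h0
    exact mapsTo_of_coord gFη gGη gFx gGx (genericPoint X) x h hxWF hxWG hηF hηG u T hT w₀ hw₀
  obtain ⟨ψ, hψ⟩ := (h83 G F hG.1 hF.1 T).2 hmaps
  haveI : IsIso (bidualMap G) := hG.2.1
  refine ⟨ψ ≫ inv (bidualMap G), fun c => ?_⟩
  rw [stalkMapₗ_comp, hψ, LinearMap.comp_apply, ← stalkMapₗ_comp, IsIso.hom_inv_id, stalkMapₗ_id,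
    hT]

end Main


section Final

open Groth.Agent.Lib.R2H2.HomShA Groth.Agent.Lib.R2LeadHartD Groth.Agent.Lib.R2LeadHartF

theorem ord_eq_neg_of_mul_eq_one (x : X) (z₁ z₂ : X.functionField) (h : z₁ * z₂ = 1) :
    Scheme.ord z₁ x = - Scheme.ord z₂ x := by
  have h1 : z₁ ≠ 0 := left_ne_zero_of_mul_eq_one h
  have h2 : z₂ ≠ 0 := right_ne_zero_of_mul_eq_one h
  have h3 := Scheme.ord_mul (X := X) (x := x) h1 h2
  rw [h, ord_one_ff] at h3
  omega

/-- **S16086 (⟸)**, given the statement of S16083: rank one reflexive modules with linearly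
equivalent divisors of rational sections are isomorphic. -/
theorem iso_of_ord (hX : Pi1.IsNormalScheme X) (h83 : H83 X) (F G : X.Modules)
    (hF : RefHull.IsRef1 F) (hG : RefHull.IsRef1 G)
    (s : Cyc.secFibre F (genericPoint X)) (hs : s ≠ 0)
    (t : Cyc.secFibre G (genericPoint X)) (ht : t ≠ 0)
    (f : X.functionField) (hf : f ≠ 0)
    (hord : ∀ (x : X), Order.coheight x = 1 →
      Cyc.secOrdAt F (genericPoint X) x ((genericPoint_spec X).specializes (Set.mem_univ x)) s =
        Cyc.secOrdAt G (genericPoint X) x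
            ((genericPoint_spec X).specializes (Set.mem_univ x)) t + Scheme.ord f x) :
    Nonempty (F ≅ G) := by
  classical
  have hdimη := ringKrullDim_stalk_genericPoint_le_one (X := X)
  obtain ⟨WFη, eFη, hηF, hgFη⟩ := exists_isGen_of_dim_le_one hX F hF (genericPoint X) hdimη
  obtain ⟨WGη, eGη, hηG, hgGη⟩ := exists_isGen_of_dim_le_one hX G hG (genericPoint X) hdimη
  set gFη : Gen F := genOfIsGen F WFη eFη hgFη with hgFηdef
  set gGη : Gen G := genOfIsGen G WGη eGη hgGη with hgGηdef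
  set a : X.functionField := (eK (X := X)).symm (gFη.fib _ hηF s) with hadef
  set b : X.functionField := (eK (X := X)).symm (gGη.fib _ hηG t) with hbdef
  have ha0 : a ≠ 0 := by
    intro h0
    apply gFη.fib_ne_zero _ hηF s hs
    have := congrArg (eK (X := X)) h0
    rwa [RingEquiv.apply_symm_apply, map_zero] at this
  have hb0 : b ≠ 0 := by
    intro h0
    apply gGη.fib_ne_zero _ hηG t ht
    have := congrArg (eK (X := X)) h0
    rwa [RingEquiv.apply_symm_apply, map_zero] at this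
  set u : X.functionField := b * f * a⁻¹ with hudef
  have hu : u ≠ 0 := mul_ne_zero (mul_ne_zero hb0 hf) (inv_ne_zero ha0)
  have hou : ∀ x : X, Scheme.ord u x = Scheme.ord b x + Scheme.ord f x - Scheme.ord a x := by
    intro x
    rw [hudef, Scheme.ord_mul (mul_ne_zero hb0 hf) (inv_ne_zero ha0), Scheme.ord_mul hb0 hf,
      ord_inv_ff X ha0 x]
    ring
  -- the two order conditions
  have key : ∀ (x : X), Order.coheight x = 1 → ∀ (gFx : Gen F) (gGx : Gen G) (hxF : x ∈ gFx.W)
      (hxG : x ∈ gGx.W) (h : genericPoint X ⤳ x),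
      Scheme.ord (gFx.cc gFη (genericPoint X) (h.mem_open gFx.W.isOpen hxF) hηF :
          X.functionField) x + Scheme.ord a x =
        Scheme.ord (gGx.cc gGη (genericPoint X) (h.mem_open gGx.W.isOpen hxG) hηG :
          X.functionField) x + Scheme.ord b x + Scheme.ord f x := by
    intro x hx gFx gGx hxF hxG h
    have h1 : Cyc.secOrdAt F (genericPoint X) x h s = Scheme.ord a x +
        Scheme.ord (gFx.cc gFη (genericPoint X) (h.mem_open gFx.W.isOpen hxF) hηF :
          X.functionField) x := secOrdAt_eq_ord gFη gFx x hx h hxF hηF s hs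
    have h2 : Cyc.secOrdAt G (genericPoint X) x h t = Scheme.ord b x +
        Scheme.ord (gGx.cc gGη (genericPoint X) (h.mem_open gGx.W.isOpen hxG) hηG :
          X.functionField) x := secOrdAt_eq_ord gGη gGx x hx h hxG hηG t ht
    have h3 : Cyc.secOrdAt F (genericPoint X) x h s =
        Cyc.secOrdAt G (genericPoint X) x h t + Scheme.ord f x := hord x hx
    rw [h1, h2] at h3
    omega
  have cond1 : ∀ (x : X), Order.coheight x = 1 → ∀ (gFx : Gen F) (gGx : Gen G) (hxF : x ∈ gFx.W)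
      (hxG : x ∈ gGx.W) (h : genericPoint X ⤳ x),
      Scheme.ord (gFη.cc gFx (genericPoint X) hηF (h.mem_open gFx.W.isOpen hxF) * u *
        gGx.cc gGη (genericPoint X) (h.mem_open gGx.W.isOpen hxG) hηG : X.functionField) x = 0 := by
    intro x hx gFx gGx hxF hxG h
    have hk := key x hx gFx gGx hxF hxG h
    have hcF := ord_eq_neg_of_mul_eq_one x _ _
      (Gen.cc_mul_cc gFx gFη (genericPoint X) (h.mem_open gFx.W.isOpen hxF) hηF)
    rw [Scheme.ord_mul (mul_ne_zero (gFη.cc_isUnit gFx _ _ _).ne_zero hu)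
      (gGx.cc_isUnit gGη _ _ _).ne_zero, Scheme.ord_mul (gFη.cc_isUnit gFx _ _ _).ne_zero hu,
      hou x, hcF]
    omega
  have cond2 : ∀ (x : X), Order.coheight x = 1 → ∀ (gGx : Gen G) (gFx : Gen F) (hxG : x ∈ gGx.W)
      (hxF : x ∈ gFx.W) (h : genericPoint X ⤳ x),
      Scheme.ord (gGη.cc gGx (genericPoint X) hηG (h.mem_open gGx.W.isOpen hxG) * u⁻¹ *
        gFx.cc gFη (genericPoint X) (h.mem_open gFx.W.isOpen hxF) hηF : X.functionField) x = 0 := by
    intro x hx gGx gFx hxG hxF h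
    have hk := key x hx gFx gGx hxF hxG h
    have hcG := ord_eq_neg_of_mul_eq_one x _ _
      (Gen.cc_mul_cc gGx gGη (genericPoint X) (h.mem_open gGx.W.isOpen hxG) hηG)
    rw [Scheme.ord_mul (mul_ne_zero (gGη.cc_isUnit gGx _ _ _).ne_zero (inv_ne_zero hu))
      (gFx.cc_isUnit gFη _ _ _).ne_zero,
      Scheme.ord_mul (gGη.cc_isUnit gGx _ _ _).ne_zero (inv_ne_zero hu),
      ord_inv_ff X hu x, hou x, hcG]
    omega
  obtain ⟨φ, hφ⟩ := exists_hom_of_ord hX h83 F G hF hG gFη gGη hηF hηG u hu cond1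
  obtain ⟨φ', hφ'⟩ := exists_hom_of_ord hX h83 G F hG hF gGη gFη hηG hηF u⁻¹ (inv_ne_zero hu) cond2
  haveI : F.IsQuasicoherent := hF.1.1
  haveI : G.IsQuasicoherent := hG.1.1
  have htfF := Groth.Agent.Lib.R2LeadHartB.torsionFree_stalk F hF.1 hF.2.1
  have htfG := Groth.Agent.Lib.R2LeadHartB.torsionFree_stalk G hG.1 hG.2.1
  refine ⟨⟨φ, φ', ?_, ?_⟩⟩
  · apply hom_ext_generic htfF
    apply LinearMap.ext
    intro v
    obtain ⟨c, hc⟩ := (gFη.g_bij _ hηF).2 v
    simp only [] at hc
    rw [← hc, stalkMapₗ_comp, hφ, hφ', stalkMapₗ_id, mul_assoc, mul_inv_cancel₀ hu, mul_one]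
  · apply hom_ext_generic htfG
    apply LinearMap.ext
    intro v
    obtain ⟨c, hc⟩ := (gGη.g_bij _ hηG).2 v
    simp only [] at hc
    rw [← hc, stalkMapₗ_comp, hφ', hφ, stalkMapₗ_id, mul_assoc, inv_mul_cancel₀ hu, mul_one]

/-- **S16086**, given the statement of S16083. -/
theorem main16086 (hX : Pi1.IsNormalScheme X) (h83 : H83 X) (F G : X.Modules)
    (hF : RefHull.IsRef1 F) (hG : RefHull.IsRef1 G)
    (s : Cyc.secFibre F (genericPoint X)) (hs : s ≠ 0)
    (t : Cyc.secFibre G (genericPoint X)) (ht : t ≠ 0) :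
    Nonempty (F ≅ G) ↔
      ∃ f : X.functionField, f ≠ 0 ∧
        ∀ (x : X), Order.coheight x = 1 →
          Cyc.secOrdAt F (genericPoint X) x
              ((genericPoint_spec X).specializes (Set.mem_univ x)) s =
            Cyc.secOrdAt G (genericPoint X) x
                ((genericPoint_spec X).specializes (Set.mem_univ x)) t + Scheme.ord f x := by
  constructor
  · rintro ⟨α⟩
    exact ord_of_iso hX F G hF α s hs t ht
  · rintro ⟨f, hf, hord⟩
    exact iso_of_ord hX h83 F G hF hG s hs t ht f hf hord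

end Final

end Groth.Agent.Lib.Helper8RefIso
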