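import Mathlib
import Groth.Prelude.Def_RefHull
import Groth.Prelude.Def_Cyc
import Groth.Prelude.Def_C1
import Groth.Agent.Lib.Helper8RefIso
import Groth.Agent.Lib.Helper8RefExt

/-!
# Rank one reflexive modules are classified by their divisor classes (helper8)

`main16086'`: S16086 unconditionally (the version `Helper8RefIso.main16086` assumes the statement of
S16083; here the extension of generic homomorphisms comes from `Helper8RefExt.exists_hom_of_local`).
-/

set_option autoImplicit false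
set_option linter.style.haveILetI false
set_option linter.unusedSectionVars false
universe u v

namespace Groth.Agent.Lib.Helper8RefIso2

open AlgebraicGeometry CategoryTheory TopologicalSpace IsLocalRing CycAlg Opposite RefHull
  Groth.Agent.Lib.R2H1.C1Comm Groth.Agent.Lib.R2H1.C1Rel Groth.Agent.Lib.R2H1.C1Tensor
  Groth.Agent.Lib.Helper23.SecTw Groth.Agent.Lib.Helper6 Groth.Agent.Lib.Helper23.GenLocus
  Groth.Agent.Lib.R2H1.LocQuot Groth.Agent.Lib.R2H1.RatEquivOpen Groth.Agent.Lib.R2H1.KeyLemma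
  Groth.Agent.Lib.R2H1.SecDiv Groth.Agent.Lib.Helper8OrdTensor Groth.Agent.Lib.Helper8RefOrd
  Groth.Agent.Lib.Helper8RefGrp Groth.Agent.Lib.Helper8OrdCompare Groth.Agent.Lib.Helper8RefIso
  Groth.Agent.Lib.Helper8RefExt
  Groth.Agent.Lib.R2H2.HomShA Groth.Agent.Lib.R2LeadHartD Groth.Agent.Lib.R2LeadHartF

variable {X : Scheme.{u}} [IsIntegral X] [IsLocallyNoetherian X]

theorem eq_genericPoint_of_coheight_eq_zero (x : X) (h : Order.coheight x = 0) :
    x = genericPoint X := by
  have hmax : IsMax x := Order.coheight_eq_zero.1 h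
  have h1 : genericPoint X ⤳ x := genericPoint_specializes x
  have h2 : x ⤳ genericPoint X := hmax (show x ≤ genericPoint X from h1)
  exact (h2.antisymm h1).eq

theorem gen_self (E : X.Modules) (v : E.presheaf.stalk (genericPoint X)) :
    gen E (genericPoint X) v = v := by
  change E.presheaf.stalkSpecializes (genericPoint_specializes (genericPoint X)) v = v
  have h := TopCat.Presheaf.stalkSpecializes_refl E.presheaf (genericPoint X)
  exact ConcreteCategory.congr_hom h v

theorem coheight_cases (x : X) (h : ringKrullDim (X.presheaf.stalk x) ≤ 1) :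
    Order.coheight x = 0 ∨ Order.coheight x = 1 := by
  rw [AlgebraicGeometry.ringKrullDim_stalk_eq_coheight x] at h
  have h' : Order.coheight x ≤ 1 := by exact_mod_cast h
  exact Order.le_one_iff.1 h'

/-- the coordinate computation: the map given at the generic point by multiplication by `u` in
coordinates is given at `x` by multiplication by `w₀`. -/
theorem coord_eq {F G : X.Modules} (gFη : Gen F) (gGη : Gen G) (gFx : Gen F) (gGx : Gen G)
    (η x : X) (h : η ⤳ x) (hxF : x ∈ gFx.W) (hxG : x ∈ gGx.W) (hηF : η ∈ gFη.W) (hηG : η ∈ gGη.W)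
    (u : X.presheaf.stalk η)
    (T : F.presheaf.stalk η →ₗ[X.presheaf.stalk η] G.presheaf.stalk η)
    (hT : ∀ c : X.presheaf.stalk η, T (c • gFη.g η hηF) = (c * u) • gGη.g η hηG)
    (w₀ : X.presheaf.stalk x)
    (hw : X.presheaf.stalkSpecializes h w₀ =
      gFη.cc gFx η hηF (h.mem_open gFx.W.isOpen hxF) * u *
        gGx.cc gGη η (h.mem_open gGx.W.isOpen hxG) hηG)
    (r : X.presheaf.stalk x) :
    G.presheaf.stalkSpecializes h ((r * w₀) • gGx.g x hxG) =
      T (F.presheaf.stalkSpecializes h (r • gFx.g x hxF)) := by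
  rw [stalkSpecializes_smul, stalkSpecializes_smul, Gen.g_specializes, Gen.g_specializes,
    ← Gen.cc_spec gFη gFx η hηF (h.mem_open gFx.W.isOpen hxF), smul_smul, hT,
    ← Gen.cc_spec gGx gGη η (h.mem_open gGx.W.isOpen hxG) hηG, smul_smul, map_mul, hw]
  congr 1
  ring

/-- a morphism between rank one reflexive modules with prescribed generic coordinate. -/
theorem exists_hom_of_ord' (hX : Pi1.IsNormalScheme X) (F G : X.Modules)
    (hF : RefHull.IsRef1 F) (hG : RefHull.IsRef1 G)
    (gFη : Gen F) (gGη : Gen G) (hηF : genericPoint X ∈ gFη.W) (hηG : genericPoint X ∈ gGη.W)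
    (u : X.functionField) (hu : u ≠ 0)
    (hord : ∀ (x : X), Order.coheight x = 1 → ∀ (gFx : Gen F) (gGx : Gen G) (hxF : x ∈ gFx.W)
      (hxG : x ∈ gGx.W) (h : genericPoint X ⤳ x),
      Scheme.ord (gFη.cc gFx (genericPoint X) hηF (h.mem_open gFx.W.isOpen hxF) * u *
        gGx.cc gGη (genericPoint X) (h.mem_open gGx.W.isOpen hxG) hηG : X.functionField) x = 0) :
    ∃ φ : F ⟶ G, ∀ c : X.functionField,
      stalkMapₗ φ (genericPoint X) (c • gFη.g _ hηF) = (c * u) • gGη.g _ hηG := by
  classical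
  let EF : X.presheaf.stalk (genericPoint X) ≃ₗ[X.presheaf.stalk (genericPoint X)]
      F.presheaf.stalk (genericPoint X) :=
    LinearEquiv.ofBijective (LinearMap.toSpanSingleton _ _ (gFη.g _ hηF)) (gFη.g_bij _ hηF)
  let EG : X.presheaf.stalk (genericPoint X) ≃ₗ[X.presheaf.stalk (genericPoint X)]
      G.presheaf.stalk (genericPoint X) :=
    LinearEquiv.ofBijective (LinearMap.toSpanSingleton _ _ (gGη.g _ hηG)) (gGη.g_bij _ hηG)
  let T : F.presheaf.stalk (genericPoint X) →ₗ[X.presheaf.stalk (genericPoint X)]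
      G.presheaf.stalk (genericPoint X) :=
    EG.toLinearMap ∘ₗ (u • LinearMap.id) ∘ₗ EF.symm.toLinearMap
  have hEF : ∀ c, EF c = c • gFη.g _ hηF := fun c => rfl
  have hEG : ∀ c, EG c = c • gGη.g _ hηG := fun c => rfl
  have hT : ∀ c : X.presheaf.stalk (genericPoint X),
      T (c • gFη.g _ hηF) = (c * u) • gGη.g _ hηG := by
    intro c
    change EG (u • EF.symm (c • gFη.g _ hηF)) = _
    rw [← hEF, LinearEquiv.symm_apply_apply, hEG, smul_eq_mul, mul_comm]
  have hloc : ∀ x : X, ringKrullDim (X.presheaf.stalk x) ≤ 1 →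
      ∃ θ : F.presheaf.stalk x →ₗ[X.presheaf.stalk x] G.presheaf.stalk x,
        ∀ v, gen G x (θ v) = T (gen F x v) := by
    intro x hdx
    rcases coheight_cases x hdx with hx0 | hx
    · obtain rfl := eq_genericPoint_of_coheight_eq_zero x hx0
      exact ⟨T, fun v => by rw [gen_self, gen_self]⟩
    · set h := genericPoint_specializes x with hh
      obtain ⟨WF, eF, hxWF, hgF⟩ := exists_isGen_of_dim_le_one hX F hF x hdx
      obtain ⟨WG, eG, hxWG, hgG⟩ := exists_isGen_of_dim_le_one hX G hG x hdx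
      set gFx : Gen F := genOfIsGen F WF eF hgF with hgFx
      set gGx : Gen G := genOfIsGen G WG eG hgG with hgGx
      have h0 := hord x hx gFx gGx hxWF hxWG h
      have hne : (gFη.cc gFx (genericPoint X) hηF (h.mem_open gFx.W.isOpen hxWF) * u *
          gGx.cc gGη (genericPoint X) (h.mem_open gGx.W.isOpen hxWG) hηG : X.functionField) ≠ 0 :=
        mul_ne_zero (mul_ne_zero (gFη.cc_isUnit gFx _ _ _).ne_zero hu)
          (gGx.cc_isUnit gGη _ _ _).ne_zero
      obtain ⟨w₀, hw₀⟩ := exists_algebraMap_eq_of_ord_eq_zero hX x hx _ hne h0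
      let EFx : X.presheaf.stalk x ≃ₗ[X.presheaf.stalk x] F.presheaf.stalk x :=
        LinearEquiv.ofBijective (LinearMap.toSpanSingleton _ _ (gFx.g x hxWF)) (gFx.g_bij x hxWF)
      let EGx : X.presheaf.stalk x ≃ₗ[X.presheaf.stalk x] G.presheaf.stalk x :=
        LinearEquiv.ofBijective (LinearMap.toSpanSingleton _ _ (gGx.g x hxWG)) (gGx.g_bij x hxWG)
      have hEFx : ∀ c, EFx c = c • gFx.g x hxWF := fun c => rfl
      have hEGx : ∀ c, EGx c = c • gGx.g x hxWG := fun c => rfl
      refine ⟨EGx.toLinearMap ∘ₗ (w₀ • LinearMap.id) ∘ₗ EFx.symm.toLinearMap, fun v => ?_⟩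
      obtain ⟨r, hr⟩ := (gFx.g_bij x hxWF).2 v
      simp only [] at hr
      change G.presheaf.stalkSpecializes h (EGx (w₀ • EFx.symm v)) =
        T (F.presheaf.stalkSpecializes h v)
      rw [← hr, ← hEFx, LinearEquiv.symm_apply_apply, hEGx, hEFx, smul_eq_mul, mul_comm w₀ r]
      exact coord_eq gFη gGη gFx gGx (genericPoint X) x h hxWF hxWG hηF hηG u T hT w₀ hw₀ r
  obtain ⟨φ, hφ⟩ := exists_hom_of_local hX F G hF.1 hG.1 hG.2.1 T hloc
  exact ⟨φ, fun c => by rw [hφ]; exact hT c⟩

section Final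

/-- **S16086 (⟸)**, rank one reflexive modules with linearly
equivalent divisors of rational sections are isomorphic. -/
theorem iso_of_ord' (hX : Pi1.IsNormalScheme X) (F G : X.Modules)
    (hF : RefHull.IsRef1 F) (hG : RefHull.IsRef1 G)
    (s : Cyc.secFibre F (genericPoint X)) (hs : s ≠ 0)
    (t : Cyc.secFibre G (genericPoint X)) (ht : t ≠ 0)
    (f : X.functionField) (hf : f ≠ 0)
    (hord : ∀ (x : X), Order.coheight x = 1 →
      Cyc.secOrdAt F (genericPoint X) x ((genericPoint_spec X).specializes (Set.mem_univ x)) s =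
        Cyc.secOrdAt G (genericPoint X) x
            ((genericPoint_spec X).specializes (Set.mem_univ x)) t + Scheme.ord f x) :
    Nonempty (F ≅ G) := by
  classical
  have hdimη := ringKrullDim_stalk_genericPoint_le_one (X := X)
  obtain ⟨WFη, eFη, hηF, hgFη⟩ := exists_isGen_of_dim_le_one hX F hF (genericPoint X) hdimη
  obtain ⟨WGη, eGη, hηG, hgGη⟩ := exists_isGen_of_dim_le_one hX G hG (genericPoint X) hdimη
  set gFη : Gen F := genOfIsGen F WFη eFη hgFη with hgFηdef
  set gGη : Gen G := genOfIsGen G WGη eGη hgGη with hgGηdef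
  set a : X.functionField := (eK (X := X)).symm (gFη.fib _ hηF s) with hadef
  set b : X.functionField := (eK (X := X)).symm (gGη.fib _ hηG t) with hbdef
  have ha0 : a ≠ 0 := by
    intro h0
    apply gFη.fib_ne_zero _ hηF s hs
    have := congrArg (eK (X := X)) h0
    rwa [RingEquiv.apply_symm_apply, map_zero] at this
  have hb0 : b ≠ 0 := by
    intro h0
    apply gGη.fib_ne_zero _ hηG t ht
    have := congrArg (eK (X := X)) h0
    rwa [RingEquiv.apply_symm_apply, map_zero] at this
  set u : X.functionField := b * f * a⁻¹ with hudef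
  have hu : u ≠ 0 := mul_ne_zero (mul_ne_zero hb0 hf) (inv_ne_zero ha0)
  have hou : ∀ x : X, Scheme.ord u x = Scheme.ord b x + Scheme.ord f x - Scheme.ord a x := by
    intro x
    rw [hudef, Scheme.ord_mul (mul_ne_zero hb0 hf) (inv_ne_zero ha0), Scheme.ord_mul hb0 hf,
      ord_inv_ff X ha0 x]
    ring
  -- the two order conditions
  have key : ∀ (x : X), Order.coheight x = 1 → ∀ (gFx : Gen F) (gGx : Gen G) (hxF : x ∈ gFx.W)
      (hxG : x ∈ gGx.W) (h : genericPoint X ⤳ x),
      Scheme.ord (gFx.cc gFη (genericPoint X) (h.mem_open gFx.W.isOpen hxF) hηF :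
          X.functionField) x + Scheme.ord a x =
        Scheme.ord (gGx.cc gGη (genericPoint X) (h.mem_open gGx.W.isOpen hxG) hηG :
          X.functionField) x + Scheme.ord b x + Scheme.ord f x := by
    intro x hx gFx gGx hxF hxG h
    have h1 : Cyc.secOrdAt F (genericPoint X) x h s = Scheme.ord a x +
        Scheme.ord (gFx.cc gFη (genericPoint X) (h.mem_open gFx.W.isOpen hxF) hηF :
          X.functionField) x := secOrdAt_eq_ord gFη gFx x hx h hxF hηF s hs
    have h2 : Cyc.secOrdAt G (genericPoint X) x h t = Scheme.ord b x +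
        Scheme.ord (gGx.cc gGη (genericPoint X) (h.mem_open gGx.W.isOpen hxG) hηG :
          X.functionField) x := secOrdAt_eq_ord gGη gGx x hx h hxG hηG t ht
    have h3 : Cyc.secOrdAt F (genericPoint X) x h s =
        Cyc.secOrdAt G (genericPoint X) x h t + Scheme.ord f x := hord x hx
    rw [h1, h2] at h3
    omega
  have cond1 : ∀ (x : X), Order.coheight x = 1 → ∀ (gFx : Gen F) (gGx : Gen G) (hxF : x ∈ gFx.W)
      (hxG : x ∈ gGx.W) (h : genericPoint X ⤳ x),
      Scheme.ord (gFη.cc gFx (genericPoint X) hηF (h.mem_open gFx.W.isOpen hxF) * u *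
        gGx.cc gGη (genericPoint X) (h.mem_open gGx.W.isOpen hxG) hηG : X.functionField) x = 0 := by
    intro x hx gFx gGx hxF hxG h
    have hk := key x hx gFx gGx hxF hxG h
    have hcF := ord_eq_neg_of_mul_eq_one x _ _
      (Gen.cc_mul_cc gFx gFη (genericPoint X) (h.mem_open gFx.W.isOpen hxF) hηF)
    rw [Scheme.ord_mul (mul_ne_zero (gFη.cc_isUnit gFx _ _ _).ne_zero hu)
      (gGx.cc_isUnit gGη _ _ _).ne_zero, Scheme.ord_mul (gFη.cc_isUnit gFx _ _ _).ne_zero hu,
      hou x, hcF]
    omega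
  have cond2 : ∀ (x : X), Order.coheight x = 1 → ∀ (gGx : Gen G) (gFx : Gen F) (hxG : x ∈ gGx.W)
      (hxF : x ∈ gFx.W) (h : genericPoint X ⤳ x),
      Scheme.ord (gGη.cc gGx (genericPoint X) hηG (h.mem_open gGx.W.isOpen hxG) * u⁻¹ *
        gFx.cc gFη (genericPoint X) (h.mem_open gFx.W.isOpen hxF) hηF : X.functionField) x = 0 := by
    intro x hx gGx gFx hxG hxF h
    have hk := key x hx gFx gGx hxF hxG h
    have hcG := ord_eq_neg_of_mul_eq_one x _ _
      (Gen.cc_mul_cc gGx gGη (genericPoint X) (h.mem_open gGx.W.isOpen hxG) hηG)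
    rw [Scheme.ord_mul (mul_ne_zero (gGη.cc_isUnit gGx _ _ _).ne_zero (inv_ne_zero hu))
      (gFx.cc_isUnit gFη _ _ _).ne_zero,
      Scheme.ord_mul (gGη.cc_isUnit gGx _ _ _).ne_zero (inv_ne_zero hu),
      ord_inv_ff X hu x, hou x, hcG]
    omega
  obtain ⟨φ, hφ⟩ := exists_hom_of_ord' hX F G hF hG gFη gGη hηF hηG u hu cond1
  obtain ⟨φ', hφ'⟩ := exists_hom_of_ord' hX G F hG hF gGη gFη hηG hηF u⁻¹ (inv_ne_zero hu) cond2
  haveI : F.IsQuasicoherent := hF.1.1
  haveI : G.IsQuasicoherent := hG.1.1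
  have htfF := Groth.Agent.Lib.R2LeadHartB.torsionFree_stalk F hF.1 hF.2.1
  have htfG := Groth.Agent.Lib.R2LeadHartB.torsionFree_stalk G hG.1 hG.2.1
  refine ⟨⟨φ, φ', ?_, ?_⟩⟩
  · apply hom_ext_generic htfF
    apply LinearMap.ext
    intro v
    obtain ⟨c, hc⟩ := (gFη.g_bij _ hηF).2 v
    simp only [] at hc
    rw [← hc, stalkMapₗ_comp, hφ, hφ', stalkMapₗ_id, mul_assoc, mul_inv_cancel₀ hu, mul_one]
  · apply hom_ext_generic htfG
    apply LinearMap.ext
    intro v
    obtain ⟨c, hc⟩ := (gGη.g_bij _ hηG).2 v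
    simp only [] at hc
    rw [← hc, stalkMapₗ_comp, hφ', hφ, stalkMapₗ_id, mul_assoc, inv_mul_cancel₀ hu, mul_one]

/-- **S16086**. -/
theorem main16086' (hX : Pi1.IsNormalScheme X) (F G : X.Modules)
    (hF : RefHull.IsRef1 F) (hG : RefHull.IsRef1 G)
    (s : Cyc.secFibre F (genericPoint X)) (hs : s ≠ 0)
    (t : Cyc.secFibre G (genericPoint X)) (ht : t ≠ 0) :
    Nonempty (F ≅ G) ↔
      ∃ f : X.functionField, f ≠ 0 ∧
        ∀ (x : X), Order.coheight x = 1 →
          Cyc.secOrdAt F (genericPoint X) x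
              ((genericPoint_spec X).specializes (Set.mem_univ x)) s =
            Cyc.secOrdAt G (genericPoint X) x
                ((genericPoint_spec X).specializes (Set.mem_univ x)) t + Scheme.ord f x := by
  constructor
  · rintro ⟨α⟩
    exact ord_of_iso hX F G hF α s hs t ht
  · rintro ⟨f, hf, hord⟩
    exact iso_of_ord' hX F G hF hG s hs t ht f hf hord

end Final

end Groth.Agent.Lib.Helper8RefIso2
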