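import Mathlib
import Groth.Prelude
import Groth.Agent.Lib.Helper8AffPushNat
import Groth.Agent.Lib.R2H2ClosedPnLin

/-!
# Dualizing pairs along a finite morphism (helper8)
-/

set_option autoImplicit false
set_option linter.unusedSectionVars false
set_option linter.style.haveILetI false
universe u

open CategoryTheory CategoryTheory.Limits AlgebraicGeometry TopologicalSpace Opposite

namespace Groth.Agent.Lib.Helper8DualFinite

open Groth.Agent.Lib.R2H2.LocPsh Groth.Agent.Lib.R2H2.ProjSec Groth.Agent.Lib.R2H2.PnCoh Groth.Agent.Lib.R2H2.KoszulPoly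
  Groth.Agent.Lib.Helper8AffPushNat

section Cover

variable (n : ℕ) (A : Type u) [CommRing A] {Z : Scheme.{u}}
  (ι : Z ⟶ CohB1.ProjSpace n A) [IsAffineHom ι]

/-- the pulled back standard cover -/
noncomputable def cov : Idx (vars A n) → Z.Opens :=
  fun j => ι ⁻¹ᵁ (Wp (CohB1.polyGrading n A) (vars A n) j)

theorem iSup_cov : ⨆ j, cov n A ι j = ⊤ := by
  have h1 := iSup_Wp_vars A n
  apply top_le_iff.1
  intro z _
  have h2 : ι z ∈ ⨆ j, Wp (CohB1.polyGrading n A) (vars A n) j := by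
    rw [h1]
    trivial
  obtain ⟨j, hj⟩ := Opens.mem_iSup.1 h2
  exact Opens.mem_iSup.2 ⟨j, hj⟩

theorem isAffineOpen_iInf_cov (p : ℕ) (a : Fin (p + 1) → Idx (vars A n)) :
    IsAffineOpen (iInf fun k => cov n A ι (a k)) := by
  have hV : IsAffineOpen (X := CohB1.ProjSpace n A)
      (iInf fun k => Wp (CohB1.polyGrading n A) (vars A n) (a k)) :=
    Groth.Agent.Lib.R2H2.AffPushLin.isAffineOpen_iInf_of_finset
      (Y := Proj (CohB1.polyGrading n A)) (Wp (CohB1.polyGrading n A) (vars A n))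
      (isAffineOpen_biInf_Wp (CohB1.polyGrading n A) (vars A n) (hfs_vars A n)) p a
  have e : (iInf fun k => cov n A ι (a k)) =
      ι ⁻¹ᵁ (iInf fun k => Wp (CohB1.polyGrading n A) (vars A n) (a k)) := by
    apply le_antisymm
    · intro z hz
      have hz' : z ∈ ((iInf fun k => cov n A ι (a k) : Z.Opens) : Set Z) := hz
      rw [Opens.coe_iInf] at hz'
      have h1 : (show ↥(Proj (CohB1.polyGrading n A)) from ι z) ∈
          ((iInf fun k => Wp (CohB1.polyGrading n A) (vars A n) (a k) :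
          (Proj (CohB1.polyGrading n A)).Opens) : Set ↥(Proj (CohB1.polyGrading n A))) := by
        rw [Opens.coe_iInf]
        exact Set.mem_iInter.2 (fun k => Set.mem_iInter.1 hz' k)
      exact h1
    · refine le_iInf (fun k => ?_)
      exact ι.preimage_mono (iInf_le _ k)
  rw [e]
  exact hV.preimage ι

end Cover

section Main

variable (A : Type u) [CommRing A] (n r : ℕ) (X Z : Scheme.{u})
  [X.Over (Spec (CommRingCat.of A))] [Z.Over (Spec (CommRingCat.of A))]
  (ι : Z ⟶ CohB1.ProjSpace n A) [IsAffineHom ι]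
  (π : X ⟶ Z) [IsAffineHom π]
  (hπ : π ≫ (Z ↘ Spec (CommRingCat.of A)) = X ↘ Spec (CommRingCat.of A))

theorem HHlin_comp {W : Scheme.{u}} [W.Over (Spec (CommRingCat.of A))] {F G H : W.Modules}
    (a : F ⟶ G) (b : G ⟶ H) (z : Coh.HH W F r) :
    Canon.HHlin A (a ≫ b) r z = Canon.HHlin A b r (Canon.HHlin A a r z) := by
  change Sheaf.H.map ((SheafOfModules.toSheaf W.ringCatSheaf).map (a ≫ b)) r z =
    Sheaf.H.map ((SheafOfModules.toSheaf W.ringCatSheaf).map b) r
      (Sheaf.H.map ((SheafOfModules.toSheaf W.ringCatSheaf).map a) r z)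
  rw [Functor.map_comp, Sheaf.H.map_comp_apply]

include hπ ι in
/-- **dualizing pairs along an affine morphism**: if `(ω_Z, tr_Z)` is an `r`-dualizing pair for `Z` and `ω_X`
represents `F ↦ Hom(π_* F, ω_Z)` through `τ : π_* ω_X ⟶ ω_Z`, then `ω_X` carries a trace making it an `r`-dualizing
pair for `X` -/
theorem main (ωZ : Z.Modules) (trZ : Coh.HH Z ωZ r →ₗ[A] A) (hZ : Canon.IsRDualOver A Z r ωZ trZ)
    (ωX : X.Modules) (hωX : Coh.IsQCoh ωX) (τ : (Coh.push π).obj ωX ⟶ ωZ)
    (huniv : ∀ F : X.Modules, Coh.IsQCoh F →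
      Function.Bijective (fun φ : F ⟶ ωX => (Coh.push π).map φ ≫ τ)) :
    ∃ trX : Coh.HH X ωX r →ₗ[A] A, Canon.IsRDualOver A X r ωX trX := by
  obtain ⟨E, hE⟩ := exists_push_linear_natural π (cov n A ι) A hπ (iSup_cov n A ι)
    (isAffineOpen_iInf_cov n A ι) r
  refine ⟨trZ ∘ₗ Canon.HHlin A τ r ∘ₗ (E ωX hωX).toLinearMap, hωX, fun F hF => ?_⟩
  have hpq : Coh.IsQCoh ((Coh.push π).obj F) := by
    haveI : F.IsQuasicoherent := hF
    exact Groth.Agent.Lib.Helper23.QCohLocal.isQuasicoherent_pushforward π F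
  have key : Canon.dualityMap A X r ωX (trZ ∘ₗ Canon.HHlin A τ r ∘ₗ (E ωX hωX).toLinearMap) F =
      (fun ℓ : Coh.HH Z ((Coh.push π).obj F) r →ₗ[A] A => ℓ ∘ₗ (E F hF).toLinearMap) ∘
        Canon.dualityMap A Z r ωZ trZ ((Coh.push π).obj F) ∘
          (fun φ : F ⟶ ωX => (Coh.push π).map φ ≫ τ) := by
    funext φ
    apply LinearMap.ext
    intro z
    change trZ (Canon.HHlin A τ r (E ωX hωX (Canon.HHlin A φ r z))) =
      trZ (Canon.HHlin A ((Coh.push π).map φ ≫ τ) r (E F hF z))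
    rw [hE F ωX hF hωX φ z, HHlin_comp]
  rw [key]
  refine Function.Bijective.comp ?_ (Function.Bijective.comp (hZ.2 _ hpq) (huniv F hF))
  refine Function.bijective_iff_has_inverse.2
    ⟨fun ℓ => ℓ ∘ₗ (E F hF).symm.toLinearMap, fun ℓ => ?_, fun ℓ => ?_⟩
  · apply LinearMap.ext
    intro z
    simp
  · apply LinearMap.ext
    intro z
    simp

end Main

end Groth.Agent.Lib.Helper8DualFinite
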