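import Mathlib
import Groth.Prelude.Def_BigSite
import Groth.Agent.Lib.Helper20EtSplitClopen
import Groth.Agent.Lib.Helper20OnePtIso
import Groth.Agent.Lib.Helper20EtSections2

/-!
# Condition (A) for separated locally quasi-finite morphisms (helper8)
-/

set_option autoImplicit false
set_option linter.unusedSectionVars false
universe u

open CategoryTheory CategoryTheory.Limits AlgebraicGeometry
open Groth.Agent.Lib.Helper20.ResFld Groth.Agent.Lib.Helper20.EtSections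

namespace Groth.Agent.Lib.Helper8EtPropA

/-- a morphism out of an affine scheme is separated -/
theorem isSeparated_of_isAffine {E Y : Scheme.{u}} [IsAffine E] (F : E ⟶ Y) : IsSeparated F := by
  haveI : IsSeparated (F ≫ terminal.from Y) := by
    rw [Subsingleton.elim (F ≫ terminal.from Y) (terminal.from E)]
    infer_instance
  exact IsSeparated.of_comp F (terminal.from Y)

/-- purely inseparable and separable implies surjective -/
theorem surjective_of_pInsep_of_isSeparable {K L : Type*} [Field K] [Field L] (φ : K →+* L)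
    (h1 : PInsep φ) (h2 : letI := φ.toAlgebra; Algebra.IsSeparable K L) :
    Function.Surjective φ := by
  letI := φ.toAlgebra
  haveI : IsPurelyInseparable K L := (pInsep_iff φ).mp h1
  haveI : Algebra.IsSeparable K L := h2
  exact IsPurelyInseparable.surjective_algebraMap_of_isSeparable K L


/-- the core of condition (A): a finite-over-the-base étale piece with a single point over `v₀`
whose residue field is purely inseparable over that of `v₀` maps isomorphically onto an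
open-closed piece of the target over a neighbourhood of `v₀`. -/
theorem core {P V A : Scheme.{u}} (p : P ⟶ V) [IsSeparated p] (φ : A ⟶ P) [Etale φ]
    [IsFinite (φ ≫ p)] (a₀ : A)
    (huniq : ∀ a : A, (φ ≫ p) a = (φ ≫ p) a₀ → a = a₀)
    (hpi : PInsep ((φ ≫ p).residueFieldMap a₀).hom) :
    ∃ (V' : V.Opens) (C : P.Opens), (φ ≫ p) a₀ ∈ V' ∧ IsClosed (C : Set P) ∧ φ a₀ ∈ C ∧
      ∃ σ : ((C ⊓ p ⁻¹ᵁ V' : P.Opens) : Scheme.{u}) ⟶ A, σ ≫ φ = (C ⊓ p ⁻¹ᵁ V').ι := by
  haveI : IsFinite φ := IsFinite.of_comp φ p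
  have hfib : φ ⁻¹' {φ a₀} = {a₀} := by
    ext a
    constructor
    · intro ha
      apply huniq
      rw [Scheme.Hom.comp_apply, Scheme.Hom.comp_apply]
      exact congrArg p ha
    · rintro rfl
      rfl
  have hκ : Function.Surjective (φ.residueFieldMap a₀) := by
    apply surjective_of_pInsep_of_isSeparable (φ.residueFieldMap a₀).hom
    · refine PInsep.of_comm (p.residueFieldMap (φ a₀)).hom (RingHom.id _)
        Function.surjective_id ?_ hpi
      rw [RingHom.id_comp, Scheme.residueFieldMap_comp]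
      rfl
    · infer_instance
  obtain ⟨N, hN, hiso⟩ := Groth.Agent.Lib.Helper20.OnePt.exists_isIso_morphismRestrict φ a₀ hfib hκ
  -- the closed set of the base over which `A` is not inside `φ⁻¹ N`
  have hZ : IsClosed ((φ ≫ p) '' ((φ ⁻¹ᵁ N : A.Opens) : Set A)ᶜ) :=
    (φ ≫ p).isClosedMap _ (φ ⁻¹ᵁ N).isOpen.isClosed_compl
  let V' : V.Opens := ⟨((φ ≫ p) '' ((φ ⁻¹ᵁ N : A.Opens) : Set A)ᶜ)ᶜ, hZ.isOpen_compl⟩
  have hv₀ : (φ ≫ p) a₀ ∈ V' := by
    rintro ⟨a, ha, hav⟩
    have := huniq a hav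
    subst this
    exact ha hN
  have hCopen : IsOpen (Set.range φ) := φ.isOpenMap.isOpen_range
  have hCclosed : IsClosed (Set.range φ) := φ.isClosedMap.isClosed_range
  let C : P.Opens := ⟨Set.range φ, hCopen⟩
  have hsub : (C ⊓ p ⁻¹ᵁ V' : P.Opens) ≤ N := by
    rintro z ⟨⟨a, rfl⟩, hz2⟩
    by_contra hzN
    apply hz2
    exact ⟨a, hzN, rfl⟩
  refine ⟨V', C, hv₀, hCclosed, ⟨a₀, rfl⟩, ?_⟩
  refine ⟨P.homOfLE hsub ≫ inv (φ ∣_ N) ≫ (φ ⁻¹ᵁ N).ι, ?_⟩
  rw [Category.assoc, Category.assoc, ← morphismRestrict_ι, IsIso.inv_hom_id_assoc,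
    Scheme.homOfLE_ι]


theorem pInsep_comp_ι {Y V : Scheme.{u}} (q : Y ⟶ V) (A : Y.Opens) (a₀ : A) (w : Y)
    (h : A.ι a₀ = w) (hpi : PInsep (q.residueFieldMap w).hom) :
    PInsep ((A.ι ≫ q).residueFieldMap a₀).hom := by
  subst h
  refine PInsep.of_comm (RingHom.id _) (A.ι.residueFieldMap a₀).hom ?_ ?_ hpi
  · exact (ConcreteCategory.bijective_of_isIso (A.ι.residueFieldMap a₀)).2
  · rw [RingHom.comp_id, Scheme.residueFieldMap_comp]
    rfl

theorem pInsep_congr {A V : Scheme.{u}} {q q' : A ⟶ V} (e : q = q') (a : A)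
    (h : PInsep (q.residueFieldMap a).hom) : PInsep (q'.residueFieldMap a).hom := by
  subst e
  exact h

/-- **Condition (A)** for separated, locally quasi-finite morphisms locally of finite type. -/
theorem propA {X Y : Scheme.{u}} (f : X ⟶ Y) [IsSeparated f] [LocallyQuasiFinite f]
    [LocallyOfFiniteType f] : BigSite.PropA f := by
  intro U g _ u
  obtain ⟨E₀, hE₀, huE₀⟩ : ∃ E₀ : U.Opens, IsAffineOpen E₀ ∧ u ∈ E₀ := by
    obtain ⟨_, ⟨E₀, hE₀, rfl⟩, huE₀, -⟩ :=
      U.isBasis_affineOpens.exists_subset_of_mem_open (Set.mem_univ u) isOpen_univ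
    exact ⟨E₀, hE₀, huE₀⟩
  haveI : IsAffine (E₀ : Scheme.{u}) := hE₀
  let j : (E₀ : Scheme.{u}) ⟶ X := E₀.ι ≫ g
  haveI : Etale j := inferInstance
  let F : (E₀ : Scheme.{u}) ⟶ Y := j ≫ f
  haveI : IsSeparated F := isSeparated_of_isAffine F
  haveI : LocallyQuasiFinite j := locallyQuasiFinite_of_etale j
  haveI : LocallyQuasiFinite F := inferInstance
  haveI : LocallyOfFiniteType F := inferInstance
  obtain ⟨u₀, hu₀⟩ : ∃ u₀ : (E₀ : Scheme.{u}), E₀.ι u₀ = u := by
    have : u ∈ Set.range E₀.ι := by rw [Scheme.Opens.range_ι]; exact huE₀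
    exact this
  obtain ⟨V, v, v₀, hv, hv₀, -, Vw, -, hVw⟩ := exists_etale_split_clopen F (F u₀) {u₀}
    (Set.finite_singleton _) (by rintro t rfl; exact ⟨rfl, F.quasiFiniteAt t⟩)
  obtain ⟨w, hw1, hw2⟩ :=
    Scheme.Pullback.exists_preimage_pullback (f := F) (g := v) u₀ v₀ hv₀.symm
  obtain ⟨hwA, -, hfin, huniq, hpi, -⟩ := hVw w hw2 (by rw [hw1]; rfl)
  let m : pullback F v ⟶ pullback f v :=
    pullback.map F v f v j (𝟙 V) (𝟙 Y) (by simp [F]) (by simp)
  have hm1 : m ≫ pullback.fst f v = pullback.fst F v ≫ j := pullback.lift_fst _ _ _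
  have hm2 : m ≫ pullback.snd f v = pullback.snd F v :=
    (pullback.lift_snd _ _ _).trans (Category.comp_id _)
  have hm : IsPullback m (pullback.fst F v) (pullback.fst f v) j := by
    refine IsPullback.of_right ?_ hm1 (IsPullback.of_hasPullback f v).flip
    rw [hm2]
    exact (IsPullback.of_hasPullback F v).flip
  haveI : Etale m := MorphismProperty.of_isPullback (P := @Etale) hm.flip inferInstance
  let φ : ((Vw w : (pullback F v).Opens) : Scheme.{u}) ⟶ pullback f v := (Vw w).ι ≫ m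
  have hφp : φ ≫ pullback.snd f v = (Vw w).ι ≫ pullback.snd F v := by
    change ((Vw w).ι ≫ m) ≫ pullback.snd f v = _
    rw [Category.assoc, hm2]
  haveI : IsFinite (φ ≫ pullback.snd f v) := by rw [hφp]; exact hfin
  obtain ⟨a₀, ha₀⟩ : ∃ a₀ : ((Vw w : (pullback F v).Opens) : Scheme.{u}), (Vw w).ι a₀ = w := by
    have : w ∈ Set.range (Vw w).ι := by rw [Scheme.Opens.range_ι]; exact hwA
    exact this
  have hsnd : ∀ a : ((Vw w : (pullback F v).Opens) : Scheme.{u}),
      (φ ≫ pullback.snd f v) a = pullback.snd F v ((Vw w).ι a) := by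
    intro a
    rw [hφp, Scheme.Hom.comp_apply]
  have huniq' : ∀ a, (φ ≫ pullback.snd f v) a = (φ ≫ pullback.snd f v) a₀ → a = a₀ := by
    intro a ha
    rw [hsnd, hsnd, ha₀, hw2] at ha
    apply (Vw w).ι.isOpenEmbedding.injective
    rw [ha₀]
    refine huniq ((Vw w).ι a) ?_ ha
    have : (Vw w).ι a ∈ Set.range (Vw w).ι := ⟨a, rfl⟩
    rwa [Scheme.Opens.range_ι] at this
  have hpi' : PInsep ((φ ≫ pullback.snd f v).residueFieldMap a₀).hom := by
    exact pInsep_congr hφp.symm a₀ (pInsep_comp_ι (pullback.snd F v) (Vw w) a₀ w ha₀ hpi)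
  obtain ⟨V', C, hv₀', hCcl, hφC, σ, hσ⟩ := core (pullback.snd f v) φ a₀ huniq' hpi'
  let b : pullback f (V'.ι ≫ v) ⟶ pullback f v := bcMap f v V'.ι
  let W : (pullback f (V'.ι ≫ v)).Opens := b ⁻¹ᵁ C
  have hWcl : IsClosed (W : Set ↥(pullback f (V'.ι ≫ v))) := hCcl.preimage b.continuous
  let T : (pullback f v).Opens := C ⊓ (pullback.snd f v) ⁻¹ᵁ V'
  have hbW : ∀ z : ↥(pullback f (V'.ι ≫ v)), z ∈ W → b z ∈ T := by
    intro z hz
    refine ⟨hz, ?_⟩
    change pullback.snd f v (b z) ∈ V'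
    rw [bcMap_snd_apply]
    have : V'.ι (pullback.snd f (V'.ι ≫ v) z) ∈ Set.range V'.ι := ⟨_, rfl⟩
    rwa [Scheme.Opens.range_ι] at this
  have hr : Set.range (W.ι ≫ b).base ⊆ Set.range T.ι.base := by
    rintro _ ⟨z, rfl⟩
    rw [Scheme.Opens.range_ι]
    rw [Scheme.Hom.comp_apply]
    apply hbW
    have : W.ι z ∈ Set.range W.ι := ⟨z, rfl⟩
    rwa [Scheme.Opens.range_ι] at this
  let l : (W : Scheme.{u}) ⟶ (T : Scheme.{u}) := IsOpenImmersion.lift T.ι (W.ι ≫ b) hr
  have hl : l ≫ T.ι = W.ι ≫ b := IsOpenImmersion.lift_fac _ _ _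
  have h1 : (Vw w).ι ≫ pullback.fst F v ≫ E₀.ι ≫ g = φ ≫ pullback.fst f v := by
    change _ = ((Vw w).ι ≫ m) ≫ pullback.fst f v
    rw [Category.assoc, hm1]
  refine ⟨V', V'.ι ≫ v, inferInstance, W, hWcl,
    l ≫ σ ≫ (Vw w).ι ≫ pullback.fst F v ≫ E₀.ι, ?_, ?_⟩
  · calc (l ≫ σ ≫ (Vw w).ι ≫ pullback.fst F v ≫ E₀.ι) ≫ g
        = l ≫ σ ≫ ((Vw w).ι ≫ pullback.fst F v ≫ E₀.ι ≫ g) := by simp only [Category.assoc]
      _ = l ≫ (σ ≫ φ) ≫ pullback.fst f v := by rw [h1, ← Category.assoc σ φ]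
      _ = (l ≫ T.ι) ≫ pullback.fst f v := by rw [hσ, Category.assoc]
      _ = W.ι ≫ b ≫ pullback.fst f v := by rw [hl, Category.assoc]
      _ = W.ι ≫ pullback.fst f (V'.ι ≫ v) := by rw [bcMap_fst]
  · obtain ⟨v₀', hv₀''⟩ : ∃ v₀' : (V' : Scheme.{u}), V'.ι v₀' = (φ ≫ pullback.snd f v) a₀ := by
      have : (φ ≫ pullback.snd f v) a₀ ∈ Set.range V'.ι := by
        rw [Scheme.Opens.range_ι]; exact hv₀'
      exact this
    obtain ⟨z₀, hz1, hz2⟩ := Scheme.exists_preimage_of_isPullback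
      (isPullback_bcMap f v V'.ι) (φ a₀) v₀' (by rw [hv₀'']; rfl)
    have hz₀W : z₀ ∈ W := by
      change b z₀ ∈ C
      rw [hz1]
      exact hφC
    obtain ⟨z₀', hz₀'⟩ : ∃ z₀' : (W : Scheme.{u}), W.ι z₀' = z₀ := by
      have : z₀ ∈ Set.range W.ι := by rw [Scheme.Opens.range_ι]; exact hz₀W
      exact this
    refine ⟨z₀', ?_⟩
    have e1 : φ (σ (l z₀')) = φ a₀ := by
      have := congrArg (fun k : (W : Scheme.{u}) ⟶ pullback f v => k z₀') (show
        l ≫ σ ≫ φ = W.ι ≫ b by rw [hσ, hl])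
      simp only [Scheme.Hom.comp_apply] at this
      rw [this, hz₀', hz1]
    have e2 : σ (l z₀') = a₀ := by
      apply huniq'
      exact congrArg (pullback.snd f v) e1
    change (l ≫ σ ≫ (Vw w).ι ≫ pullback.fst F v ≫ E₀.ι) z₀' = u
    simp only [Scheme.Hom.comp_apply]
    rw [e2, ha₀, hw1, hu₀]

end Groth.Agent.Lib.Helper8EtPropA
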