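import Mathlib
import Groth.Prelude.Def_BigSite
import Groth.Agent.Lib.Helper8EtPropA

/-!
# Condition (A) for integral morphisms (helper8)

Reduction to the finite case by descending étale algebras to finite subalgebras
(`Algebra.Etale.exists_subalgebra_fg`).
-/

set_option autoImplicit false
set_option linter.unusedSectionVars false
universe u

open CategoryTheory CategoryTheory.Limits AlgebraicGeometry TensorProduct

namespace Groth.Agent.Lib.Helper8EtPropAIntegral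

/-- condition (A) at a point `u` of an étale `g : U ⟶ X`, phrased for an arbitrary pullback
square. -/
def PA {X Y U : Scheme.{u}} (f : X ⟶ Y) (g : U ⟶ X) (u : U) : Prop :=
  ∃ (V : Scheme.{u}) (v : V ⟶ Y) (_ : Etale v),
    ∀ (Q : Scheme.{u}) (a : Q ⟶ X) (b : Q ⟶ V), IsPullback a b f v →
      ∃ W : Q.Opens, IsClosed (W : Set Q) ∧
        ∃ h : (W : Scheme.{u}) ⟶ U, h ≫ g = W.ι ≫ a ∧ u ∈ Set.range h

/-- the finite case -/
theorem pa_of_finite {X Y U : Scheme.{u}} (f : X ⟶ Y) [IsFinite f] (g : U ⟶ X) [Etale g]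
    (u : U) : PA f g u := by
  obtain ⟨V, v, hv, W, hWcl, h, hh, w, hw⟩ :=
    Groth.Agent.Lib.Helper8EtPropA.propA f U g u
  refine ⟨V, v, hv, ?_⟩
  intro Q a b sq
  let c : Q ⟶ pullback f v := pullback.lift a b sq.w
  have hc : c ≫ pullback.fst f v = a := pullback.lift_fst _ _ _
  haveI : IsIso c := by
    have : c = (sq.isoPullback).hom := by
      apply pullback.hom_ext
      · rw [IsPullback.isoPullback_hom_fst]; exact pullback.lift_fst _ _ _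
      · rw [IsPullback.isoPullback_hom_snd]; exact pullback.lift_snd _ _ _
    rw [this]
    infer_instance
  refine ⟨c ⁻¹ᵁ W, hWcl.preimage c.continuous, (c ∣_ W) ≫ h, ?_, ?_⟩
  · rw [Category.assoc, hh, morphismRestrict_ι_assoc, hc]
  · obtain ⟨q, hq⟩ := (ConcreteCategory.bijective_of_isIso c.base).2 (W.ι w)
    have hqW : q ∈ c ⁻¹ᵁ W := by
      change c q ∈ W
      have e : c q = W.ι w := hq
      rw [e]
      have : W.ι w ∈ Set.range W.ι := ⟨w, rfl⟩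
      rwa [Scheme.Opens.range_ι] at this
    obtain ⟨q', hq'⟩ : ∃ q' : ((c ⁻¹ᵁ W : Q.Opens) : Scheme.{u}), (c ⁻¹ᵁ W).ι q' = q := by
      have : q ∈ Set.range (c ⁻¹ᵁ W).ι := by rw [Scheme.Opens.range_ι]; exact hqW
      exact this
    refine ⟨q', ?_⟩
    rw [Scheme.Hom.comp_apply, ← hw]
    congr 1
    apply W.ι.isOpenEmbedding.injective
    rw [← Scheme.Hom.comp_apply, morphismRestrict_ι, Scheme.Hom.comp_apply, hq']
    exact hq


/-- descent of an étale algebra over an integral algebra to a finite subalgebra, in scheme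
form. -/
theorem exists_descent_data (Λ A B : Type u) [CommRing Λ] [CommRing A] [CommRing B]
    [Algebra Λ A] [Algebra A B] [Algebra.IsIntegral Λ A] [Algebra.Etale A B] :
    ∃ (X₀ U₀ : Scheme.{u}) (p₀ : X₀ ⟶ Spec (CommRingCat.of Λ))
      (π : Spec (CommRingCat.of A) ⟶ X₀) (G₀ : U₀ ⟶ X₀) (ρ : Spec (CommRingCat.of B) ⟶ U₀),
      IsFinite p₀ ∧ Etale G₀ ∧ π ≫ p₀ = Spec.map (CommRingCat.ofHom (algebraMap Λ A)) ∧
      Function.Surjective π ∧
      IsPullback (Spec.map (CommRingCat.ofHom (algebraMap A B))) ρ π G₀ := by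
  obtain ⟨A₀, B₀, _, _, hfg, hEt, ⟨e⟩⟩ := Algebra.Etale.exists_subalgebra_fg Λ A B
  haveI : Algebra.FiniteType Λ A₀ := (Subalgebra.fg_iff_finiteType A₀).mp hfg
  haveI : Algebra.IsIntegral Λ A₀ := by
    constructor
    intro a₀
    have h1 : IsIntegral Λ (A₀.val a₀) := Algebra.IsIntegral.isIntegral _
    exact (isIntegral_algHom_iff A₀.val Subtype.val_injective).mp h1
  haveI : Module.Finite Λ A₀ := Algebra.IsIntegral.finite
  haveI : Algebra.IsIntegral A₀ A := Algebra.IsIntegral.tower_top (R := Λ)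
  let p₀ : Spec (CommRingCat.of A₀) ⟶ Spec (CommRingCat.of Λ) :=
    Spec.map (CommRingCat.ofHom (algebraMap Λ A₀))
  let π : Spec (CommRingCat.of A) ⟶ Spec (CommRingCat.of A₀) :=
    Spec.map (CommRingCat.ofHom (algebraMap A₀ A))
  let G₀ : Spec (CommRingCat.of B₀) ⟶ Spec (CommRingCat.of A₀) :=
    Spec.map (CommRingCat.ofHom (algebraMap A₀ B₀))
  let r : B₀ →+* B := (e.symm : A ⊗[A₀] B₀ →+* B).comp
    (Algebra.TensorProduct.includeRight : B₀ →ₐ[A₀] A ⊗[A₀] B₀).toRingHom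
  let ρ : Spec (CommRingCat.of B) ⟶ Spec (CommRingCat.of B₀) := Spec.map (CommRingCat.ofHom r)
  have h1 : IsFinite p₀ := by
    rw [IsFinite.SpecMap_iff]
    exact RingHom.finite_algebraMap.mpr inferInstance
  have h2 : Etale G₀ := by
    rw [HasRingHomProperty.Spec_iff (P := @Etale)]
    exact RingHom.etale_algebraMap.2 hEt
  have hπp : π ≫ p₀ = Spec.map (CommRingCat.ofHom (algebraMap Λ A)) := by
    rw [← Spec.map_comp, ← CommRingCat.ofHom_comp, ← IsScalarTower.algebraMap_eq]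
  have hπsurj : Function.Surjective π := by
    intro x₀
    haveI : FaithfulSMul A₀ A :=
      (faithfulSMul_iff_algebraMap_injective A₀ A).mpr Subtype.val_injective
    exact Algebra.IsIntegral.comap_surjective A₀ A x₀
  have sq : IsPullback (Spec.map (CommRingCat.ofHom (algebraMap A B))) ρ π G₀ := by
    have h0 := isPullback_SpecMap_of_isPushout _ _ _ _
      (CommRingCat.isPushout_tensorProduct A₀ A B₀)
    let ε : Spec (CommRingCat.of B) ≅ Spec (CommRingCat.of (A ⊗[A₀] B₀)) :=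
      Scheme.Spec.mapIso (e.symm.toRingEquiv.toCommRingCatIso).op
    refine IsPullback.of_iso h0 ε.symm (Iso.refl _) (Iso.refl _) (Iso.refl _) ?_ ?_ ?_ ?_
    · change Spec.map _ ≫ 𝟙 _ = Spec.map _ ≫ Spec.map _
      rw [Category.comp_id, ← Spec.map_comp]
      congr 1
      ext a
      exact (e.commutes a).symm
    · change Spec.map _ ≫ 𝟙 _ = Spec.map _ ≫ Spec.map _
      rw [Category.comp_id, ← Spec.map_comp]
      congr 1
      ext b
      change _ = e (e.symm _)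
      rw [AlgEquiv.apply_symm_apply]
      rfl
    · exact (Category.comp_id _).trans (Category.id_comp _).symm
    · exact (Category.comp_id _).trans (Category.id_comp _).symm
  exact ⟨_, _, p₀, π, G₀, ρ, h1, h2, hπp, hπsurj, sq⟩

/-- the case of spectra -/
theorem pa_spec (Λ A B : Type u) [CommRing Λ] [CommRing A] [CommRing B] [Algebra Λ A]
    [Algebra A B] [Algebra.IsIntegral Λ A] [Algebra.Etale A B] (u : Spec (CommRingCat.of B)) :
    PA (Spec.map (CommRingCat.ofHom (algebraMap Λ A)))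
      (Spec.map (CommRingCat.ofHom (algebraMap A B))) u := by
  obtain ⟨X₀, U₀, p₀, π, G₀, ρ, hp₀, hG₀, hπp, -, sq⟩ := exists_descent_data Λ A B
  haveI := hp₀
  haveI := hG₀
  obtain ⟨V, v, hv, H⟩ := pa_of_finite p₀ G₀ (ρ u)
  refine ⟨V, v, hv, ?_⟩
  intro Q a b sqQ
  have hw : (a ≫ π) ≫ p₀ = b ≫ v := by rw [Category.assoc, hπp, sqQ.w]
  let c : Q ⟶ pullback p₀ v := pullback.lift (a ≫ π) b hw
  have hc1 : c ≫ pullback.fst p₀ v = a ≫ π := pullback.lift_fst _ _ _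
  have hc2 : c ≫ pullback.snd p₀ v = b := pullback.lift_snd _ _ _
  obtain ⟨W₀, hW₀cl, h₀, hh₀, w₀, hw₀⟩ := H (pullback p₀ v) (pullback.fst p₀ v)
    (pullback.snd p₀ v) (IsPullback.of_hasPullback p₀ v)
  -- `Q` is the pullback of `π` and `pullback.fst p₀ v`
  have sq1 : IsPullback a c π (pullback.fst p₀ v) := by
    refine (IsPullback.of_right ?_ hc1.symm.symm (IsPullback.of_hasPullback p₀ v).flip).flip
    rw [hc2, hπp]
    exact sqQ.flip
  have sq2 : IsPullback ((c ⁻¹ᵁ W₀).ι ≫ a) (c ∣_ W₀) π (W₀.ι ≫ pullback.fst p₀ v) :=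
    (isPullback_morphismRestrict c W₀).flip.paste_horiz sq1
  have hcomp : ((c ⁻¹ᵁ W₀).ι ≫ a) ≫ π = ((c ∣_ W₀) ≫ h₀) ≫ G₀ := by
    rw [Category.assoc, Category.assoc, hh₀, ← hc1, morphismRestrict_ι_assoc]
  let h : ((c ⁻¹ᵁ W₀ : Q.Opens) : Scheme.{u}) ⟶ Spec (CommRingCat.of B) :=
    sq.lift ((c ⁻¹ᵁ W₀).ι ≫ a) ((c ∣_ W₀) ≫ h₀) hcomp
  have hh1 : h ≫ Spec.map (CommRingCat.ofHom (algebraMap A B)) = (c ⁻¹ᵁ W₀).ι ≫ a :=
    sq.lift_fst _ _ _
  have hh2 : h ≫ ρ = (c ∣_ W₀) ≫ h₀ := sq.lift_snd _ _ _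
  have sq3 : IsPullback h (c ∣_ W₀) ρ h₀ := by
    refine IsPullback.of_right ?_ hh2 sq
    rw [hh1, hh₀]
    exact sq2
  refine ⟨c ⁻¹ᵁ W₀, hW₀cl.preimage c.continuous, h, hh1, ?_⟩
  obtain ⟨w, hw1, -⟩ := Scheme.exists_preimage_of_isPullback sq3 u w₀ hw₀.symm
  exact ⟨w, hw1⟩


/-- the affine case -/
theorem pa_affine {X Y U : Scheme.{u}} [IsAffine X] [IsAffine Y] [IsAffine U] (f : X ⟶ Y)
    [IsIntegralHom f] (g : U ⟶ X) [Etale g] (u : U) : PA f g u := by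
  have hφ : f.appTop.hom.IsIntegral :=
    ((HasAffineProperty.iff_of_isAffine (P := @IsIntegralHom)).1 ‹IsIntegralHom f›).2
  have hγ : g.appTop.hom.Etale := (HasRingHomProperty.iff_of_isAffine (P := @Etale)).1 ‹Etale g›
  algebraize [f.appTop.hom, g.appTop.hom]
  have e1 : CommRingCat.ofHom (algebraMap Γ(Y, ⊤) Γ(X, ⊤)) = f.appTop := rfl
  have e2 : CommRingCat.ofHom (algebraMap Γ(X, ⊤) Γ(U, ⊤)) = g.appTop := rfl
  obtain ⟨V, v', hv, H⟩ := pa_spec Γ(Y, ⊤) Γ(X, ⊤) Γ(U, ⊤) (U.isoSpec.hom u)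
  rw [e1, e2] at H
  haveI := hv
  refine ⟨V, v' ≫ Y.isoSpec.inv, inferInstance, ?_⟩
  intro Q a b sq
  have sq' : IsPullback (a ≫ X.isoSpec.hom) b (Spec.map f.appTop) v' := by
    refine IsPullback.of_iso sq (Iso.refl Q) X.isoSpec (Iso.refl V) Y.isoSpec ?_ ?_ ?_ ?_
    · simp
    · simp
    · exact (Scheme.isoSpec_hom_naturality f).symm
    · simp
  obtain ⟨W, hWcl, h', hh', w, hw⟩ := H Q (a ≫ X.isoSpec.hom) b sq'
  refine ⟨W, hWcl, h' ≫ U.isoSpec.inv, ?_, w, ?_⟩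
  · rw [Category.assoc, ← Scheme.isoSpec_inv_naturality, ← Category.assoc, hh']
    simp
  · rw [Scheme.Hom.comp_apply, hw, ← Scheme.Hom.comp_apply, Iso.hom_inv_id]
    rfl

/-- the general case -/
theorem pa_integral {X Y U : Scheme.{u}} (f : X ⟶ Y) [IsIntegralHom f] (g : U ⟶ X) [Etale g]
    (u : U) : PA f g u := by
  obtain ⟨Y₁, hY₁, hyY₁⟩ : ∃ Y₁ : Y.Opens, IsAffineOpen Y₁ ∧ f (g u) ∈ Y₁ := by
    obtain ⟨_, ⟨Y₁, hY₁, rfl⟩, hy, -⟩ :=
      Y.isBasis_affineOpens.exists_subset_of_mem_open (Set.mem_univ (f (g u))) isOpen_univ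
    exact ⟨Y₁, hY₁, hy⟩
  haveI : IsAffine (Y₁ : Scheme.{u}) := hY₁
  have hX₁ : IsAffineOpen (f ⁻¹ᵁ Y₁) := hY₁.preimage f
  haveI : IsAffine ((f ⁻¹ᵁ Y₁ : X.Opens) : Scheme.{u}) := hX₁
  have huX : u ∈ g ⁻¹ᵁ (f ⁻¹ᵁ Y₁) := hyY₁
  obtain ⟨U₁, hU₁, huU₁, hU₁le⟩ : ∃ U₁ : U.Opens, IsAffineOpen U₁ ∧ u ∈ U₁ ∧
      U₁ ≤ g ⁻¹ᵁ (f ⁻¹ᵁ Y₁) := by
    obtain ⟨_, ⟨U₁, hU₁, rfl⟩, hu, hsub⟩ :=
      U.isBasis_affineOpens.exists_subset_of_mem_open huX (g ⁻¹ᵁ (f ⁻¹ᵁ Y₁)).isOpen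
    exact ⟨U₁, hU₁, hu, hsub⟩
  haveI : IsAffine (U₁ : Scheme.{u}) := hU₁
  let g₁ : (U₁ : Scheme.{u}) ⟶ ((f ⁻¹ᵁ Y₁ : X.Opens) : Scheme.{u}) :=
    U.homOfLE hU₁le ≫ (g ∣_ (f ⁻¹ᵁ Y₁))
  haveI : Etale g₁ := by
    dsimp only [g₁]
    infer_instance
  have hg₁ : g₁ ≫ (f ⁻¹ᵁ Y₁).ι = U₁.ι ≫ g := by
    dsimp only [g₁]
    rw [Category.assoc, morphismRestrict_ι, Scheme.homOfLE_ι_assoc]
  obtain ⟨u₁, hu₁⟩ : ∃ u₁ : (U₁ : Scheme.{u}), U₁.ι u₁ = u := by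
    have : u ∈ Set.range U₁.ι := by rw [Scheme.Opens.range_ι]; exact huU₁
    exact this
  have hf₁ : (f ∣_ Y₁) ≫ Y₁.ι = (f ⁻¹ᵁ Y₁).ι ≫ f := morphismRestrict_ι f Y₁
  obtain ⟨V, v, hv, H⟩ := pa_affine (f ∣_ Y₁) g₁ u₁
  haveI := hv
  refine ⟨V, v ≫ Y₁.ι, inferInstance, ?_⟩
  intro Q a b sq
  have hr : Set.range a.base ⊆ Set.range (f ⁻¹ᵁ Y₁).ι.base := by
    rintro _ ⟨q, rfl⟩
    rw [Scheme.Opens.range_ι]
    change f (a q) ∈ Y₁
    rw [← Scheme.Hom.comp_apply, sq.w, Scheme.Hom.comp_apply, Scheme.Hom.comp_apply]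
    have : Y₁.ι (v (b q)) ∈ Set.range Y₁.ι := ⟨_, rfl⟩
    rwa [Scheme.Opens.range_ι] at this
  let a' : Q ⟶ ((f ⁻¹ᵁ Y₁ : X.Opens) : Scheme.{u}) := IsOpenImmersion.lift (f ⁻¹ᵁ Y₁).ι a hr
  have ha' : a' ≫ (f ⁻¹ᵁ Y₁).ι = a := IsOpenImmersion.lift_fac _ _ _
  have hw' : a' ≫ (f ∣_ Y₁) = b ≫ v := by
    rw [← cancel_mono Y₁.ι, Category.assoc, hf₁, ← Category.assoc, ha', sq.w, Category.assoc]
  have sq' : IsPullback a' b (f ∣_ Y₁) v := by
    refine IsPullback.of_right ?_ hw' (isPullback_morphismRestrict f Y₁).flip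
    rw [ha']
    exact sq
  obtain ⟨W, hWcl, h₁, hh₁, w, hw⟩ := H Q a' b sq'
  refine ⟨W, hWcl, h₁ ≫ U₁.ι, ?_, w, ?_⟩
  · rw [Category.assoc, ← hg₁, ← Category.assoc, hh₁, Category.assoc, ha']
  · rw [Scheme.Hom.comp_apply, hw, hu₁]

/-- **Condition (A)** for integral morphisms. -/
theorem propA {X Y : Scheme.{u}} (f : X ⟶ Y) [IsIntegralHom f] : BigSite.PropA f := by
  intro U g _ u
  obtain ⟨V, v, hv, H⟩ := pa_integral f g u
  obtain ⟨W, hWcl, h, hh, hu⟩ := H (pullback f v) (pullback.fst f v) (pullback.snd f v)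
    (IsPullback.of_hasPullback f v)
  exact ⟨V, v, hv, W, hWcl, h, hh, hu⟩

end Groth.Agent.Lib.Helper8EtPropAIntegral
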