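import Mathlib
import Groth.Agent.Lib.Helper8EtPropAIntegral

/-!
# Integral universally injective morphisms: geometric core for full faithfulness of `f_*`
(helper8)

* `isClosedEmbedding_of_integral_univInj`
* `exists_open_of_section`: the graph trick in intrinsic form.
* `exists_lift_nbhd`: étale `X`-schemes lift, locally, to étale `Y`-schemes.
-/

set_option autoImplicit false
universe u
open CategoryTheory CategoryTheory.Limits AlgebraicGeometry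

namespace Groth.Agent.Lib.Helper8EtUnivInj

theorem isClosedEmbedding_of_integral_univInj {X Y : Scheme.{u}} (f : X ⟶ Y) [IsIntegralHom f]
    [UniversallyInjective f] : Topology.IsClosedEmbedding f :=
  Topology.IsClosedEmbedding.of_continuous_injective_isClosedMap f.continuous f.injective
    f.isClosedMap

/-- the graph trick: a section `Γ` of the base change `prZ` of an étale `pr` along a closed
topological embedding `iP` is cut out by an open `W₀` of `P`, and the base change of `W₀` is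
identified with the source of `Γ`. -/
theorem exists_open_of_section {P U PZ UZ : Scheme.{u}} (pr : P ⟶ U) [Etale pr] (iP : PZ ⟶ P)
    (iU : UZ ⟶ U) (prZ : PZ ⟶ UZ) (sq : IsPullback prZ iP iU pr)
    (hcl : Topology.IsClosedEmbedding iP) (Γ : UZ ⟶ PZ) (hΓ : Γ ≫ prZ = 𝟙 _) :
    ∃ W₀ : P.Opens, ∀ (WZ : Scheme.{u}) (jW : WZ ⟶ PZ) (pW : WZ ⟶ (W₀ : Scheme.{u})),
      IsPullback jW pW iP W₀.ι → IsIso (jW ≫ prZ) ∧ jW = (jW ≫ prZ) ≫ Γ := by
  haveI : Etale prZ := MorphismProperty.of_isPullback (P := @Etale) sq.flip inferInstance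
  haveI : Etale (Γ ≫ prZ) := by rw [hΓ]; infer_instance
  haveI : Etale Γ := Etale.of_comp Γ prZ
  haveI : Mono Γ := by
    haveI : Mono (Γ ≫ prZ) := by rw [hΓ]; infer_instance
    exact mono_of_mono Γ prZ
  haveI : IsOpenImmersion Γ := IsOpenImmersion.of_flat_of_mono Γ
  obtain ⟨W₀, hF⟩ : ∃ W₀ : P.Opens, ∀ t : ↥PZ, iP t ∈ W₀ ↔ t ∈ Set.range Γ := by
    refine ⟨⟨(iP '' ((Set.range Γ)ᶜ))ᶜ,
      (hcl.isClosedMap _ Γ.isOpenEmbedding.isOpen_range.isClosed_compl).isOpen_compl⟩, ?_⟩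
    intro t
    constructor
    · intro ht
      by_contra hn
      exact ht ⟨t, hn, rfl⟩
    · rintro ht ⟨t', ht', he⟩
      exact ht' (hcl.injective he ▸ ht)
  refine ⟨W₀, ?_⟩
  intro WZ jW pW sqW
  have hjr : Set.range jW ⊆ Set.range Γ := by
    rintro _ ⟨z, rfl⟩
    rw [← hF]
    change (jW ≫ iP) z ∈ W₀
    rw [sqW.w]
    exact (pW z).2
  obtain ⟨ρ, hρ⟩ : ∃ ρ : WZ ⟶ UZ, ρ ≫ Γ = jW :=
    ⟨IsOpenImmersion.lift Γ jW hjr, IsOpenImmersion.lift_fac _ _ _⟩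
  have hρ' : jW ≫ prZ = ρ := by rw [← hρ, Category.assoc, hΓ, Category.comp_id]
  rw [hρ']
  refine ⟨?_, hρ.symm⟩
  have hγr : Set.range (Γ ≫ iP) ⊆ Set.range W₀.ι := by
    rintro _ ⟨y, rfl⟩
    rw [Scheme.Opens.range_ι]
    exact (hF _).mpr ⟨y, rfl⟩
  obtain ⟨γ', hγ'⟩ : ∃ γ' : UZ ⟶ (W₀ : Scheme.{u}), γ' ≫ W₀.ι = Γ ≫ iP :=
    ⟨IsOpenImmersion.lift W₀.ι (Γ ≫ iP) hγr, IsOpenImmersion.lift_fac _ _ _⟩
  obtain ⟨σ, hσ1, hσ2⟩ : ∃ σ : UZ ⟶ WZ, σ ≫ jW = Γ ∧ σ ≫ pW = γ' :=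
    ⟨sqW.lift Γ γ' hγ'.symm, sqW.lift_fst _ _ _, sqW.lift_snd _ _ _⟩
  refine ⟨σ, ?_, ?_⟩
  · apply sqW.hom_ext
    · rw [Category.assoc, hσ1, hρ, Category.id_comp]
    · rw [← cancel_mono W₀.ι]
      calc ((ρ ≫ σ) ≫ pW) ≫ W₀.ι = ρ ≫ (σ ≫ pW) ≫ W₀.ι := by simp only [Category.assoc]
        _ = ρ ≫ Γ ≫ iP := by rw [hσ2, hγ']
        _ = jW ≫ iP := by rw [← Category.assoc, hρ]
        _ = (𝟙 _ ≫ pW) ≫ W₀.ι := by rw [Category.id_comp, sqW.w]
  · rw [← hρ', ← Category.assoc, hσ1, hΓ]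

/-- étale `X`-schemes lift locally along an integral universally injective morphism. -/
theorem exists_lift_nbhd {X Y U : Scheme.{u}} (f : X ⟶ Y) [IsIntegralHom f]
    [UniversallyInjective f] (g : U ⟶ X) [Etale g] (u : U) :
    ∃ (V : Scheme.{u}) (v : V ⟶ Y) (_ : Etale v),
      ∀ (Q : Scheme.{u}) (a : Q ⟶ X) (b : Q ⟶ V), IsPullback a b f v →
        ∃ h : Q ⟶ U, h ≫ g = a ∧ u ∈ Set.range h := by
  obtain ⟨V₁, v₁, hv₁, H⟩ := Groth.Agent.Lib.Helper8EtPropAIntegral.pa_integral f g u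
  haveI := hv₁
  obtain ⟨W₁, hW₁cl, h₁, hh₁, w, hw⟩ := H (pullback f v₁) (pullback.fst f v₁) (pullback.snd f v₁)
    (IsPullback.of_hasPullback f v₁)
  haveI : UniversallyInjective (pullback.snd f v₁) :=
    MorphismProperty.pullback_snd (P := @UniversallyInjective) f v₁ inferInstance
  have hcl : Topology.IsClosedEmbedding (pullback.snd f v₁) :=
    isClosedEmbedding_of_integral_univInj _
  let V : V₁.Opens := ⟨(pullback.snd f v₁ '' ((W₁ : Set ↥(pullback f v₁))ᶜ))ᶜ,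
    (hcl.isClosedMap _ W₁.2.isClosed_compl).isOpen_compl⟩
  have hV : ∀ t : ↥(pullback f v₁), pullback.snd f v₁ t ∈ V ↔ t ∈ W₁ := by
    intro t
    constructor
    · intro ht
      by_contra hn
      exact ht ⟨t, hn, rfl⟩
    · rintro ht ⟨t', ht', he⟩
      exact ht' (hcl.injective he ▸ ht)
  refine ⟨V, V.ι ≫ v₁, inferInstance, ?_⟩
  intro Q a b sq
  obtain ⟨c, hc1, hc2⟩ : ∃ c : Q ⟶ pullback f v₁, c ≫ pullback.fst f v₁ = a ∧
      c ≫ pullback.snd f v₁ = b ≫ V.ι :=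
    ⟨pullback.lift a (b ≫ V.ι) (by rw [sq.w, Category.assoc]), pullback.lift_fst _ _ _,
      pullback.lift_snd _ _ _⟩
  have sqc : IsPullback c b (pullback.snd f v₁) V.ι := by
    refine IsPullback.of_right ?_ hc2 (IsPullback.of_hasPullback f v₁)
    rw [hc1]
    exact sq
  have hcr : Set.range c ⊆ Set.range W₁.ι := by
    rintro _ ⟨q, rfl⟩
    rw [Scheme.Opens.range_ι]
    refine (hV _).1 ?_
    change (c ≫ pullback.snd f v₁) q ∈ V
    rw [hc2]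
    exact (b q).2
  obtain ⟨c', hc'⟩ : ∃ c' : Q ⟶ (W₁ : Scheme.{u}), c' ≫ W₁.ι = c :=
    ⟨IsOpenImmersion.lift W₁.ι c hcr, IsOpenImmersion.lift_fac _ _ _⟩
  refine ⟨c' ≫ h₁, ?_, ?_⟩
  · rw [Category.assoc, hh₁, ← Category.assoc, hc', hc1]
  · have hwV : pullback.snd f v₁ (W₁.ι w) ∈ V := (hV _).2 w.2
    obtain ⟨q, hq1, hq2⟩ := Scheme.exists_preimage_of_isPullback sqc (W₁.ι w) ⟨_, hwV⟩ rfl
    refine ⟨q, ?_⟩
    rw [Scheme.Hom.comp_apply, ← hw]
    congr 1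
    apply W₁.ι.isOpenEmbedding.injective
    rw [← Scheme.Hom.comp_apply, hc', hq1]

end Groth.Agent.Lib.Helper8EtUnivInj
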