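import Mathlib
import Groth.Prelude.Def_EtBase
import Groth.Agent.Lib.Helper8EtUnivInj
import Groth.Agent.Lib.Helper16SmallEtale

/-!
# Pushforward of étale sheaves along an integral universally injective morphism is fully faithful
(helper8)
-/

set_option autoImplicit false
universe u
open CategoryTheory CategoryTheory.Limits AlgebraicGeometry Opposite

namespace Groth.Agent.Lib.Helper8UnivInjPush

open Groth.Agent.Lib.Helper16.SmallEtale Groth.Agent.Lib.Helper8EtUnivInj

variable {X Y : Scheme.{u}} (f : X ⟶ Y) [IsIntegralHom f] [UniversallyInjective f]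

set_option backward.isDefEq.respectTransparency.types false in
instance isCoverDense_bc : (EtCoh.bc f).IsCoverDense X.smallEtaleTopology where
  is_cover V := by
    rw [mem_smallEtale_iff]
    intro x
    haveI : Etale V.hom := V.prop
    obtain ⟨V', v', hv', H⟩ := exists_lift_nbhd f V.hom x
    haveI := hv'
    obtain ⟨h, hh, hx⟩ := H (pullback v' f) (pullback.snd v' f) (pullback.fst v' f)
      (IsPullback.of_hasPullback v' f).flip
    let Bo : Y.Etale := Scheme.Etale.mk v'
    let g : (EtCoh.bc f).obj Bo ⟶ V := MorphismProperty.Over.homMk h hh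
    obtain ⟨q, hq⟩ := hx
    exact ⟨(EtCoh.bc f).obj Bo, g, q, Presieve.in_coverByImage _ g, hq⟩

set_option backward.isDefEq.respectTransparency false in
/-- generalization of S0660 to integral universally injective morphisms -/
theorem exists_almost_full (U U' : Y.Etale) (h : (EtCoh.bc f).obj U ⟶ (EtCoh.bc f).obj U') :
    ∃ (W : Y.Etale) (a : W ⟶ U) (b : W ⟶ U'),
      IsIso ((EtCoh.bc f).map a) ∧ (EtCoh.bc f).map a ≫ h = (EtCoh.bc f).map b := by
  haveI : Etale U.hom := U.prop
  haveI : Etale U'.hom := U'.prop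
  let Pe : Y.Etale := Scheme.Etale.mk (pullback.fst U.hom U'.hom ≫ U.hom)
  let pr1 : Pe ⟶ U := MorphismProperty.Over.homMk (pullback.fst U.hom U'.hom) rfl
  let pr2 : Pe ⟶ U' := MorphismProperty.Over.homMk (pullback.snd U.hom U'.hom)
    (by
      change pullback.snd U.hom U'.hom ≫ U'.hom = pullback.fst U.hom U'.hom ≫ U.hom
      exact pullback.condition.symm)
  have hhw : h.left ≫ pullback.snd U'.hom f = pullback.snd U.hom f := Over.w h.hom
  -- the graph
  obtain ⟨γ, hγ1, hγ2⟩ : ∃ γ : pullback U.hom f ⟶ pullback U.hom U'.hom,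
      γ ≫ pullback.fst U.hom U'.hom = pullback.fst U.hom f ∧
      γ ≫ pullback.snd U.hom U'.hom = h.left ≫ pullback.fst U'.hom f :=
    ⟨pullback.lift (pullback.fst U.hom f) (h.left ≫ pullback.fst U'.hom f) (by
      rw [pullback.condition, Category.assoc, pullback.condition, reassoc_of% hhw]),
      pullback.lift_fst _ _ _, pullback.lift_snd _ _ _⟩
  obtain ⟨Γ, hΓ1, hΓ2⟩ : ∃ Γ : pullback U.hom f ⟶ pullback Pe.hom f,
      Γ ≫ pullback.fst Pe.hom f = γ ∧ Γ ≫ pullback.snd Pe.hom f = pullback.snd U.hom f :=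
    ⟨pullback.lift γ (pullback.snd U.hom f) (by
      change γ ≫ pullback.fst U.hom U'.hom ≫ U.hom = _
      rw [reassoc_of% hγ1, pullback.condition]),
      pullback.lift_fst _ _ _, pullback.lift_snd _ _ _⟩
  have hΓpr1 : Γ ≫ ((EtCoh.bc f).map pr1).left = 𝟙 _ := by
    apply pullback.hom_ext
    · rw [Category.assoc, bc_map_left_fst, reassoc_of% hΓ1, Category.id_comp]
      exact hγ1
    · rw [Category.assoc, bc_map_left_snd, hΓ2, Category.id_comp]
  have hΓpr2 : Γ ≫ ((EtCoh.bc f).map pr2).left = h.left := by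
    apply pullback.hom_ext
    · rw [Category.assoc, bc_map_left_fst, reassoc_of% hΓ1]
      exact hγ2
    · rw [Category.assoc, bc_map_left_snd, hΓ2, hhw]
  haveI : IsIntegralHom (pullback.fst Pe.hom f) :=
    MorphismProperty.pullback_fst (P := @IsIntegralHom) Pe.hom f inferInstance
  haveI : UniversallyInjective (pullback.fst Pe.hom f) :=
    MorphismProperty.pullback_fst (P := @UniversallyInjective) Pe.hom f inferInstance
  obtain ⟨W₀, hW⟩ := exists_open_of_section (pullback.fst U.hom U'.hom) (pullback.fst Pe.hom f)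
    (pullback.fst U.hom f) ((EtCoh.bc f).map pr1).left (EtCoh.isPullback_bc_map f pr1)
    (isClosedEmbedding_of_integral_univInj _) Γ hΓpr1
  let W : Y.Etale := Scheme.Etale.mk (W₀.ι ≫ Pe.hom)
  let jW : W ⟶ Pe := MorphismProperty.Over.homMk W₀.ι rfl
  obtain ⟨hiso, heq⟩ := hW _ ((EtCoh.bc f).map jW).left (pullback.fst W.hom f)
    (EtCoh.isPullback_bc_map f jW)
  refine ⟨W, jW ≫ pr1, jW ≫ pr2, ?_, ?_⟩
  · haveI : IsIso ((Scheme.Etale.forget X ⋙ Over.forget X).map ((EtCoh.bc f).map (jW ≫ pr1))) := by
      rw [Functor.map_comp, Functor.map_comp]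
      exact hiso
    exact isIso_of_reflects_iso _ (Scheme.Etale.forget X ⋙ Over.forget X)
  · apply (Scheme.Etale.forget X).map_injective
    apply Over.OverMorphism.ext
    change ((EtCoh.bc f).map (jW ≫ pr1)).left ≫ h.left = ((EtCoh.bc f).map (jW ≫ pr2)).left
    rw [Functor.map_comp, Functor.map_comp]
    change (((EtCoh.bc f).map jW).left ≫ ((EtCoh.bc f).map pr1).left) ≫ h.left =
      ((EtCoh.bc f).map jW).left ≫ ((EtCoh.bc f).map pr2).left
    rw [← hΓpr2, ← Category.assoc, ← heq]

instance isLocallyFull_bc : (EtCoh.bc f).IsLocallyFull X.smallEtaleTopology where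
  functorPushforward_imageSieve_mem {U U'} h := by
    obtain ⟨W, a, b, ha, hab⟩ := exists_almost_full f U U' h
    haveI := ha
    have hmem : ((EtCoh.bc f).imageSieve h).functorPushforward (EtCoh.bc f) ((EtCoh.bc f).map a) :=
      Sieve.image_mem_functorPushforward _ _ ⟨b, hab.symm⟩
    have htop : ((EtCoh.bc f).imageSieve h).functorPushforward (EtCoh.bc f) = ⊤ := by
      rw [← Sieve.id_mem_iff_eq_top]
      have := (((EtCoh.bc f).imageSieve h).functorPushforward (EtCoh.bc f)).downward_closed hmem
        (inv ((EtCoh.bc f).map a))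
      rwa [IsIso.inv_hom_id] at this
    rw [htop]
    exact X.smallEtaleTopology.top_mem _

theorem full_push : (EtCoh.push f).Full :=
  Functor.IsCoverDense.full_sheafPushforwardContinuous (G := EtCoh.bc f)
    (J := Y.smallEtaleTopology) (K := X.smallEtaleTopology) (A := AddCommGrpCat.{u + 1})

theorem faithful_push : (EtCoh.push f).Faithful :=
  Functor.IsCoverDense.faithful_sheafPushforwardContinuous (G := EtCoh.bc f)
    (J := Y.smallEtaleTopology) (K := X.smallEtaleTopology) (A := AddCommGrpCat.{u + 1})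

theorem isIso_counit (F : EtCoh.Ab X) : IsIso ((EtCoh.pullPushAdj f).counit.app F) := by
  haveI := full_push f
  haveI := faithful_push f
  infer_instance

end Groth.Agent.Lib.Helper8UnivInjPush
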