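import Mathlib
import Groth.Prelude.Def_EtBase
import Groth.Prelude.Def_PBC
import Groth.Agent.Lib.Helper8UnivInjPush
import Groth.Agent.Lib.Helper16EtGlue
import Groth.Agent.Lib.Helper16EtStalk
import Groth.Agent.S0101

/-!
# Essential image of the direct image along an integral universally injective morphism (helper8)
-/

set_option autoImplicit false
universe u
open CategoryTheory CategoryTheory.Limits AlgebraicGeometry Opposite

namespace Groth.Agent.Lib.Helper8UnivInjEssImage

open Groth.Agent.Lib.Helper16.SmallEtale Groth.Agent.Lib.Helper16.EtGlue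
  Groth.Agent.Lib.Helper16.EtStalk

/-- shrink a neighbourhood of a point outside a closed image so that it misses it -/
lemma exists_open_missing {Z X Vl T : Scheme.{u}} (i : Z ⟶ X) (hcl : IsClosed (Set.range i))
    (v : Vl ⟶ X) (xl : T ⟶ Vl) (h : Disjoint (Set.range (xl ≫ v)) (Set.range i)) :
    ∃ (O : Vl.Opens) (l : T ⟶ (O : Scheme.{u})), l ≫ O.ι = xl ∧ IsEmpty ↥(pullback (O.ι ≫ v) i) := by
  let Oc : X.Opens := ⟨(Set.range i)ᶜ, hcl.isOpen_compl⟩
  let O : Vl.Opens := v ⁻¹ᵁ Oc
  have hrange : Set.range xl ⊆ Set.range O.ι := by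
    rintro _ ⟨a, rfl⟩
    rw [Scheme.Opens.range_ι]
    change v (xl a) ∈ (Set.range i)ᶜ
    intro h2
    exact (Set.disjoint_left.mp h) ⟨a, rfl⟩ h2
  refine ⟨O, IsOpenImmersion.lift O.ι xl hrange, IsOpenImmersion.lift_fac _ _ _, ⟨fun t => ?_⟩⟩
  have e := congrArg (fun m => m t) (pullback.condition (f := O.ι ≫ v) (g := i))
  simp only [Scheme.Hom.comp_apply] at e
  have h1 : v (O.ι (pullback.fst (O.ι ≫ v) i t)) ∈ (Set.range i)ᶜ :=
    (pullback.fst (O.ι ≫ v) i t).2
  exact h1 ⟨_, e.symm⟩

set_option backward.isDefEq.respectTransparency.types false in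
/-- the pushforward along a morphism with closed image has zero stalk at geometric points outside
the image. -/
theorem isZero_stalk_push_of_disjoint {Z X : Scheme.{u}} (i : Z ⟶ X) (hcl : IsClosed (Set.range i))
    (G : EtCoh.Ab Z) {Ω : Type u} [Field Ω] [IsSepClosed Ω] (ξ : Spec (CommRingCat.of Ω) ⟶ X)
    (hξ : Disjoint (Set.range ξ) (Set.range i)) :
    IsZero ((EtCoh.stalk ξ).obj ((EtCoh.push i).obj G)) := by
  let Φ := Scheme.pointSmallEtale ξ
  let P : X.Etaleᵒᵖ ⥤ AddCommGrpCat.{u + 1} := ((EtCoh.push i).obj G).obj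
  change IsZero (Φ.presheafFiber.obj P)
  have hGs : Presieve.IsSheaf Z.smallEtaleTopology (G.obj ⋙ forget AddCommGrpCat) :=
    (isSheaf_iff_isSheaf_of_type _ _).mp
      ((Presheaf.isSheaf_iff_isSheaf_forget _ _ (forget AddCommGrpCat)).mp G.property)
  have hsub : Subsingleton (Φ.presheafFiber.obj P : AddCommGrpCat.{u + 1}) := by
    suffices h : ∀ p : (Φ.presheafFiber.obj P : AddCommGrpCat.{u + 1}), p = 0 by
      exact ⟨fun a b => (h a).trans (h b).symm⟩
    intro p
    obtain ⟨V, x, z, rfl⟩ := Φ.toPresheafFiber_jointly_surjective (P := P) p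
    obtain ⟨xl, hxl, hxw⟩ : ∃ xl : Spec (CommRingCat.of Ω) ⟶ V.left,
        xl = x.left ∧ xl ≫ V.hom = ξ := ⟨x.left, rfl, Over.w x⟩
    obtain ⟨O, l, hl, hempty⟩ := exists_open_missing i hcl V.hom xl (by rw [hxw]; exact hξ)
    let V' : X.Etale := Scheme.Etale.mk (O.ι ≫ V.hom)
    let k : V' ⟶ V := MorphismProperty.Over.homMk O.ι rfl
    have hlw : l ≫ O.ι ≫ V.hom = ξ :=
      (Category.assoc _ _ _).symm.trans ((congrArg (fun m => m ≫ V.hom) hl).trans hxw)
    let x' : Φ.fiber.obj V' := Over.homMk l hlw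
    have hx' : Φ.fiber.map k x' = x := by
      apply Over.OverMorphism.ext
      exact hl.trans hxl
    have hE : IsEmpty ((EtCoh.bc i).obj V').left := hempty
    have hss : Subsingleton ((G.obj ⋙ forget AddCommGrpCat).obj (op ((EtCoh.bc i).obj V'))) :=
      subsingleton_of_isEmpty _ hGs _
    have hz : P.map k.op z = 0 := hss.elim _ _
    rw [← hx', ← Φ.toPresheafFiber_w_apply, hz, map_zero]
  exact AddCommGrpCat.isZero_of_subsingleton _

set_option backward.isDefEq.respectTransparency.types false in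
/-- an abelian étale sheaf is zero as soon as every point of every étale scheme is the centre of
some geometric point at which the stalk vanishes. -/
lemma isZero_of_exists_stalks {X : Scheme.{u}} (H : EtCoh.Ab X)
    (h : ∀ (U : X.Etale) (p : U.left), ∃ (Ω : Type u) (_ : Field Ω) (_ : IsSepClosed Ω)
      (ξ : Spec (CommRingCat.of Ω) ⟶ X) (x : (Scheme.pointSmallEtale ξ).fiber.obj U),
      (x.left : Spec (CommRingCat.of Ω) ⟶ U.left) (default : Spec (CommRingCat.of Ω)) = p ∧
        IsZero ((EtCoh.stalk ξ).obj H)) : IsZero H := by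
  have hli : Sheaf.IsLocallyInjective (0 : H ⟶ H) := by
    constructor
    intro U x y _
    induction U using Opposite.rec with | _ U => ?_
    rw [mem_smallEtale_iff]
    intro p
    obtain ⟨Ω, _, _, ξ, x₀, hx₀, hz⟩ := h U p
    let Φ := Scheme.pointSmallEtale ξ
    have hs := AddCommGrpCat.isZero_iff_subsingleton.mp hz
    have e2 : Φ.toPresheafFiber U x₀ H.obj x = Φ.toPresheafFiber U x₀ H.obj y :=
      Subsingleton.elim (α := ((EtCoh.stalk ξ).obj H : AddCommGrpCat.{u + 1})) _ _
    obtain ⟨W, g, w, hw, hg⟩ := (Φ.toPresheafFiber_eq_iff' U x₀ x y).mp e2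
    refine ⟨W, g, (w.left : Spec (CommRingCat.of Ω) ⟶ W.left) (default : Spec (CommRingCat.of Ω)),
      hg, ?_⟩
    have e3 : w.left ≫ g.left = x₀.left := congrArg (fun m => m.left) hw
    rw [← hx₀]
    exact congrArg (fun m : Spec (CommRingCat.of Ω) ⟶ U.left => m default) e3
  have hm : Mono (0 : H ⟶ H) := Sheaf.mono_of_isLocallyInjective _
  rw [IsZero.iff_id_eq_zero]
  exact (cancel_mono (0 : H ⟶ H)).mp (by simp)


section Main

variable {X Y : Scheme.{u}} (f : X ⟶ Y) [IsIntegralHom f] [UniversallyInjective f]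

open Groth.Agent.Lib.Helper8UnivInjPush

/-- `f⁻¹` inverts the unit of the adjunction -/
lemma isIso_pull_map_unit (G : EtCoh.Ab Y) :
    IsIso ((EtCoh.pull f).map ((EtCoh.pullPushAdj f).unit.app G)) := by
  haveI := isIso_counit f ((EtCoh.pull f).obj G)
  have h := (EtCoh.pullPushAdj f).left_triangle_components G
  haveI : IsIso ((EtCoh.pull f).map ((EtCoh.pullPushAdj f).unit.app G) ≫
      (EtCoh.pullPushAdj f).counit.app ((EtCoh.pull f).obj G)) := by
    rw [h]; exact IsIso.id _
  exact IsIso.of_isIso_comp_right _ ((EtCoh.pullPushAdj f).counit.app ((EtCoh.pull f).obj G))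

/-- a geometric point centred at a given point -/
lemma exists_point_at {Ul : Scheme.{u}} (p : Ul) :
    ∃ (Ω : Type u) (_ : Field Ω) (_ : IsSepClosed Ω) (l : Spec (CommRingCat.of Ω) ⟶ Ul),
      l (default : Spec (CommRingCat.of Ω)) = p := by
  let Ω := SeparableClosure (Ul.residueField p)
  let l : Spec (CommRingCat.of Ω) ⟶ Ul :=
    Spec.map (CommRingCat.ofHom (algebraMap (Ul.residueField p) Ω)) ≫ Ul.fromSpecResidueField p
  refine ⟨Ω, inferInstance, inferInstance, l, ?_⟩
  dsimp only [l]
  rw [Scheme.Hom.comp_apply]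
  exact Scheme.fromSpecResidueField_apply _ _

lemma range_of_point {Ul : Scheme.{u}} {Ω : Type u} [Field Ω] (l : Spec (CommRingCat.of Ω) ⟶ Ul)
    (uh : Ul ⟶ Y) : Set.range (l ≫ uh) = {uh (l (default : Spec (CommRingCat.of Ω)))} := by
  ext y
  simp only [Set.mem_range, Set.mem_singleton_iff]
  constructor
  · rintro ⟨t, rfl⟩
    rw [Scheme.Hom.comp_apply]
    exact congrArg _ (congrArg _ (Subsingleton.elim _ _))
  · rintro rfl
    exact ⟨default, by rw [Scheme.Hom.comp_apply]⟩

/-- choice of geometric points: over the image of `f` they come from `X`. -/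
lemma exists_good_point {Ul : Scheme.{u}} (uh : Ul ⟶ Y) (p : Ul) :
    ∃ (Ω : Type u) (_ : Field Ω) (_ : IsSepClosed Ω) (l : Spec (CommRingCat.of Ω) ⟶ Ul),
      l (default : Spec (CommRingCat.of Ω)) = p ∧
      (uh p ∈ Set.range f → ∃ ζ : Spec (CommRingCat.of Ω) ⟶ X, ζ ≫ f = l ≫ uh) := by
  by_cases hy : uh p ∈ Set.range f
  · obtain ⟨x, hx⟩ := hy
    obtain ⟨x', hx'1, hx'2⟩ := Scheme.Pullback.exists_preimage_pullback p x hx.symm
    obtain ⟨Ω, _, _, l', hl'⟩ := exists_point_at x'
    refine ⟨Ω, inferInstance, inferInstance, l' ≫ pullback.fst uh f, ?_,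
      fun _ => ⟨l' ≫ pullback.snd uh f, ?_⟩⟩
    · rw [Scheme.Hom.comp_apply, hl', hx'1]
    · rw [Category.assoc, Category.assoc, pullback.condition]
  · obtain ⟨Ω, _, _, l, hl⟩ := exists_point_at p
    exact ⟨Ω, inferInstance, inferInstance, l, hl, fun h => (hy h).elim⟩

set_option backward.isDefEq.respectTransparency.types false in
theorem essImage_iff (G : EtCoh.Ab Y) :
    (EtCoh.push f).essImage G ↔ EtPBC.supp G ⊆ Set.range f := by
  have hcl : IsClosed (Set.range f) := (Groth.Agent.Lib.Helper8EtUnivInj.isClosedEmbedding_of_integral_univInj f).isClosed_range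
  constructor
  · rintro ⟨F, ⟨e⟩⟩ y ⟨Ω, _, _, ξ, hr, hnz⟩
    by_contra hy
    apply hnz
    have hz := isZero_stalk_push_of_disjoint f hcl F ξ (by
      rw [hr]
      exact Set.disjoint_singleton_left.mpr hy)
    exact hz.of_iso ((EtCoh.stalk ξ).mapIso e.symm)
  · intro hsupp
    haveI := Groth.Agent.S0101.result f
    haveI : (EtCoh.pull f).PreservesEpimorphisms :=
      Functor.preservesEpimorphisms_of_adjunction (EtCoh.pullPushAdj f)
    let η := (EtCoh.pullPushAdj f).unit.app G
    haveI hη' : IsIso ((EtCoh.pull f).map η) := isIso_pull_map_unit f G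
    have hG0 : ∀ {Ω : Type u} [Field Ω] [IsSepClosed Ω] (ξ : Spec (CommRingCat.of Ω) ⟶ Y) (y : Y),
        Set.range ξ = {y} → y ∉ Set.range f → IsZero ((EtCoh.stalk ξ).obj G) := by
      intro Ω _ _ ξ y hr hy
      by_contra hnz
      exact hy (hsupp ⟨Ω, inferInstance, inferInstance, ξ, hr, hnz⟩)
    have hK : IsZero (kernel η) := by
      apply isZero_of_exists_stalks
      intro U p
      obtain ⟨Ω, _, _, l, hl, hlift⟩ := exists_good_point f U.hom p
      have hr : Set.range (l ≫ U.hom) = {U.hom p} := by rw [range_of_point, hl]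
      refine ⟨Ω, inferInstance, inferInstance, l ≫ U.hom, Over.homMk l rfl, hl, ?_⟩
      by_cases hy : U.hom p ∈ Set.range f
      · obtain ⟨ζ, hζ⟩ := hlift hy
        rw [← hζ]
        have h0 : (EtCoh.pull f).map (kernel.ι η) = 0 := by
          have h1 : (EtCoh.pull f).map (kernel.ι η) ≫ (EtCoh.pull f).map η = 0 := by
            rw [← Functor.map_comp, kernel.condition, Functor.map_zero]
          exact (cancel_mono ((EtCoh.pull f).map η)).mp (h1.trans zero_comp.symm)
        have hpK : IsZero ((EtCoh.pull f).obj (kernel η)) :=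
          IsZero.of_mono_eq_zero _ h0
        exact ((EtCoh.stalk ζ).map_isZero hpK).of_iso
          ((Groth.Agent.S0101.stalkPullIso f ζ).app (kernel η))
      · exact IsZero.of_mono ((EtCoh.stalk (l ≫ U.hom)).map (kernel.ι η)) (hG0 (l ≫ U.hom) _ hr hy)
    have hC : IsZero (cokernel η) := by
      apply isZero_of_exists_stalks
      intro U p
      obtain ⟨Ω, _, _, l, hl, hlift⟩ := exists_good_point f U.hom p
      have hr : Set.range (l ≫ U.hom) = {U.hom p} := by rw [range_of_point, hl]
      refine ⟨Ω, inferInstance, inferInstance, l ≫ U.hom, Over.homMk l rfl, hl, ?_⟩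
      by_cases hy : U.hom p ∈ Set.range f
      · obtain ⟨ζ, hζ⟩ := hlift hy
        rw [← hζ]
        have h0 : (EtCoh.pull f).map (cokernel.π η) = 0 := by
          have h1 : (EtCoh.pull f).map η ≫ (EtCoh.pull f).map (cokernel.π η) = 0 := by
            rw [← Functor.map_comp, cokernel.condition, Functor.map_zero]
          exact (cancel_epi ((EtCoh.pull f).map η)).mp (h1.trans comp_zero.symm)
        have hpC : IsZero ((EtCoh.pull f).obj (cokernel η)) :=
          IsZero.of_epi_eq_zero _ h0
        exact ((EtCoh.stalk ζ).map_isZero hpC).of_iso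
          ((Groth.Agent.S0101.stalkPullIso f ζ).app (cokernel η))
      · have hz := isZero_stalk_push_of_disjoint f hcl ((EtCoh.pull f).obj G) (l ≫ U.hom) (by
          rw [hr]
          exact Set.disjoint_singleton_left.mpr hy)
        exact IsZero.of_epi ((EtCoh.stalk (l ≫ U.hom)).map (cokernel.π η)) hz
    haveI : Mono η := Preadditive.mono_of_isZero_kernel η hK
    haveI : Epi η := Preadditive.epi_of_isZero_cokernel η hC
    haveI : IsIso η := isIso_of_mono_of_epi η
    exact ⟨(EtCoh.pull f).obj G, ⟨(asIso η).symm⟩⟩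

end Main

end Groth.Agent.Lib.Helper8UnivInjEssImage
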