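import Mathlib

/-!
# Fibres of constant sheaves and of restrictions to `Over` sites (helper8)

* `sheafFiberConstIso` : the fibre of the constant sheaf with value `M` at any point is `M`.
* `overFiberIso` : the fibre of `F.over X` at the point `Φ.over x` is the fibre of `F` at `Φ`.
-/

set_option autoImplicit false
open CategoryTheory CategoryTheory.Limits Opposite GrothendieckTopology

universe w' w v v' u u'

namespace Groth.Agent.Lib.Helper8SiteStalkConst

variable {C : Type u} [Category.{v} C] {J : GrothendieckTopology C} (Φ : Point.{w} J)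
  {A : Type u'} [Category.{v'} A] [HasColimitsOfSize.{w, w} A]

/-- the fibre of a constant presheaf -/
noncomputable def presheafFiberConstIso (M : A) :
    Φ.presheafFiber.obj ((Functor.const Cᵒᵖ).obj M) ≅ M :=
  (colimit.isColimit ((CategoryOfElements.π Φ.fiber).op ⋙ (Functor.const Cᵒᵖ).obj M)).coconePointUniqueUpToIso
    (isColimitConstCocone Φ.fiber.Elementsᵒᵖ M)

/-- the fibre of a constant sheaf -/
noncomputable def sheafFiberConstIso [HasProducts.{w} A] [HasWeakSheafify J A] (M : A) :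
    Φ.sheafFiber.obj ((constantSheaf J A).obj M) ≅ M :=
  (Φ.presheafToSheafCompSheafFiberIso A).app ((Functor.const Cᵒᵖ).obj M) ≪≫
    presheafFiberConstIso Φ M


section Over

variable [LocallySmall.{w} C] {X : C} (x : Φ.fiber.obj X)

/-- comparison map from the fibre of the restriction to `Over X` -/
noncomputable def overFiberMap (P : Cᵒᵖ ⥤ A) :
    (Φ.over x).presheafFiber.obj ((Over.forget X).op ⋙ P) ⟶ Φ.presheafFiber.obj P :=
  (Φ.over x).presheafFiberDesc (P := (Over.forget X).op ⋙ P)
    (fun Y y => Φ.toPresheafFiber Y.left y.1 P) (by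
      intro Y Z f y
      exact Φ.toPresheafFiber_w f.left y.1 P)

@[reassoc (attr := simp)]
lemma toPresheafFiber_overFiberMap (P : Cᵒᵖ ⥤ A) (Y : Over X) (y : (Φ.over x).fiber.obj Y) :
    (Φ.over x).toPresheafFiber Y y ((Over.forget X).op ⋙ P) ≫ overFiberMap Φ x P =
      Φ.toPresheafFiber Y.left y.1 P :=
  (Φ.over x).toPresheafFiber_presheafFiberDesc _ _ Y y

variable {FC : A → A → Type*} {CC : A → Type w'}
  [∀ (X Y : A), FunLike (FC X Y) (CC X) (CC Y)]
  [ConcreteCategory.{w'} A FC] [PreservesFilteredColimitsOfSize.{w, w} (forget A)]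

lemma overFiberMap_apply (P : Cᵒᵖ ⥤ A) (Y : Over X) (y : (Φ.over x).fiber.obj Y)
    (z : ToType (P.obj (op Y.left))) :
    overFiberMap Φ x P ((Φ.over x).toPresheafFiber Y y ((Over.forget X).op ⋙ P) z) =
      Φ.toPresheafFiber Y.left y.1 P z := by
  exact (ConcreteCategory.comp_apply _ _ z).symm.trans
    (ConcreteCategory.congr_hom (toPresheafFiber_overFiberMap Φ x P Y y) z)

theorem bijective_overFiberMap (P : Cᵒᵖ ⥤ A) : Function.Bijective (overFiberMap Φ x P) := by
  constructor
  · intro p₁ p₂ h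
    obtain ⟨Y, y, z₁, z₂, rfl, rfl⟩ := (Φ.over x).toPresheafFiber_jointly_surjective₂ p₁ p₂
    rw [overFiberMap_apply, overFiberMap_apply, Φ.toPresheafFiber_eq_iff'] at h
    obtain ⟨W, f, w, hw, hz⟩ := h
    rw [(Φ.over x).toPresheafFiber_eq_iff']
    have hwx : Φ.fiber.map (f ≫ Y.hom) w = x := by
      rw [Φ.fiber.map_comp]
      change Φ.fiber.map Y.hom (Φ.fiber.map f w) = x
      rw [hw]
      exact y.2
    refine ⟨Over.mk (f ≫ Y.hom), Over.homMk f rfl, ⟨w, hwx⟩, ?_, hz⟩
    exact Subtype.ext hw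
  · intro p
    obtain ⟨Y, y, z, rfl⟩ := Φ.toPresheafFiber_jointly_surjective p
    let e : Φ.fiber.Elements := IsCofiltered.min (Φ.fiber.elementsMk Y y) (Φ.fiber.elementsMk X x)
    let a : e ⟶ Φ.fiber.elementsMk Y y := IsCofiltered.minToLeft _ _
    let b : e ⟶ Φ.fiber.elementsMk X x := IsCofiltered.minToRight _ _
    refine ⟨(Φ.over x).toPresheafFiber (Over.mk b.1) ⟨e.2, b.2⟩ ((Over.forget X).op ⋙ P)
      (P.map a.1.op z), ?_⟩
    rw [overFiberMap_apply]
    refine (Φ.toPresheafFiber_w_apply a.1 e.2 P z).trans ?_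
    have ha : Φ.fiber.map a.1 e.2 = y := a.2
    rw [ha]

/-- the fibre of `F.over X` at `Φ.over x` is the fibre of `F` at `Φ` -/
noncomputable def overFiberIso [(forget A).ReflectsIsomorphisms] (F : Sheaf J A) :
    (Φ.over x).sheafFiber.obj (F.over X) ≅ Φ.sheafFiber.obj F :=
  @asIso _ _ _ _ (overFiberMap Φ x F.obj)
    ((ConcreteCategory.isIso_iff_bijective _).2 (bijective_overFiberMap Φ x F.obj))

end Over

end Groth.Agent.Lib.Helper8SiteStalkConst
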