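import Mathlib
import Groth.Agent.Lib.Helper8SiteStalkConst
import Groth.Agent.Lib.Helper16EtStalk

/-!
# Sites with a family of points satisfying the covering criterion (helper8)

* `sheafFiberConstIso_germ` : the germ of the "constant section" `m` of a constant sheaf is `m`.
* `Crit Ψ` : a sieve is covering as soon as every element of every fibre lifts to it.
* `isIso_of_crit` : for such families, morphisms of sheaves of abelian groups bijective on
  fibres are isomorphisms (proved by hand; the universe of the coefficient category is one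
  above that of the points, which is not covered by Mathlib's conservativity results).
-/

set_option autoImplicit false
open CategoryTheory CategoryTheory.Limits Opposite GrothendieckTopology

universe w' w v v' u u'

namespace Groth.Agent.Lib.Helper8SiteCrit

open Groth.Agent.Lib.Helper8SiteStalkConst

section Const

variable {C : Type u} [Category.{v} C] {J : GrothendieckTopology C} (Φ : Point.{w} J)
  {A : Type u'} [Category.{v'} A] [HasColimitsOfSize.{w, w} A]

lemma toPresheafFiber_presheafFiberConstIso (M : A) (Y : C) (y : Φ.fiber.obj Y) :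
    Φ.toPresheafFiber Y y ((Functor.const Cᵒᵖ).obj M) ≫ (presheafFiberConstIso Φ M).hom = 𝟙 M := by
  unfold presheafFiberConstIso
  exact (colimit.isColimit ((CategoryOfElements.π Φ.fiber).op ⋙
    (Functor.const Cᵒᵖ).obj M)).comp_coconePointUniqueUpToIso_hom
      (isColimitConstCocone Φ.fiber.Elementsᵒᵖ M) (op ⟨Y, y⟩)

/-- the germ of the constant section with value `m` is `m` -/
lemma sheafFiberConstIso_germ [HasProducts.{w} A] [HasWeakSheafify J A] (M : A) (Y : C)
    (y : Φ.fiber.obj Y) :
    (toSheafify J ((Functor.const Cᵒᵖ).obj M)).app (op Y) ≫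
      Φ.toPresheafFiber Y y ((constantSheaf J A).obj M).obj ≫ (sheafFiberConstIso Φ M).hom =
      𝟙 M := by
  have h1 := Φ.toPresheafFiber_naturality (toSheafify J ((Functor.const Cᵒᵖ).obj M)) Y y
  have h2 : Φ.presheafFiber.map (toSheafify J ((Functor.const Cᵒᵖ).obj M)) ≫
      ((Φ.presheafToSheafCompSheafFiberIso A).app ((Functor.const Cᵒᵖ).obj M)).hom = 𝟙 _ := by
    simp only [Point.presheafToSheafCompSheafFiberIso, Iso.symm_hom, Iso.app_hom, Iso.symm_inv,
      NatIso.ofComponents_inv_app, asIso_inv]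
    exact IsIso.hom_inv_id _
  unfold sheafFiberConstIso
  rw [Iso.trans_hom]
  calc _ = (Φ.toPresheafFiber Y y ((Functor.const Cᵒᵖ).obj M) ≫
        Φ.presheafFiber.map (toSheafify J ((Functor.const Cᵒᵖ).obj M))) ≫
        ((Φ.presheafToSheafCompSheafFiberIso A).app ((Functor.const Cᵒᵖ).obj M)).hom ≫
        (presheafFiberConstIso Φ M).hom := by
        rw [h1]; simp only [Category.assoc]; rfl
    _ = Φ.toPresheafFiber Y y ((Functor.const Cᵒᵖ).obj M) ≫ (presheafFiberConstIso Φ M).hom := by
        rw [Category.assoc, reassoc_of% h2]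
    _ = 𝟙 M := toPresheafFiber_presheafFiberConstIso Φ M Y y

end Const

section CritSec

open Groth.Agent.Lib.Helper16.EtStalk

universe t

variable {C : Type (t + 1)} [Category.{t} C] {J : GrothendieckTopology C}

/-- covering criterion for a family of points: a sieve is covering as soon as every element of
every fibre lifts to it. -/
def Crit {I : Type*} (Ψ : I → Point.{t} J) : Prop :=
  ∀ (Y : C) (R : Sieve Y),
    (∀ (i : I) (y : (Ψ i).fiber.obj Y), ∃ (W : C) (g : W ⟶ Y) (w : (Ψ i).fiber.obj W),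
      R g ∧ (Ψ i).fiber.map g w = y) → R ∈ J Y

variable {I : Type*} (Ψ : I → Point.{t} J) (hΨ : Crit Ψ)
  {F G : Sheaf J AddCommGrpCat.{t + 1}} (a : F ⟶ G)

include hΨ in
lemma isLocallyInjective_of_crit
    (h : ∀ i, Function.Injective ((Ψ i).sheafFiber.map a)) : Sheaf.IsLocallyInjective a := by
  constructor
  intro U x y hxy
  induction U using Opposite.rec with | _ U => ?_
  apply hΨ
  intro i x₀
  have e1 : (Ψ i).sheafFiber.map a ((Ψ i).toPresheafFiber U x₀ F.obj x) =
      (Ψ i).sheafFiber.map a ((Ψ i).toPresheafFiber U x₀ F.obj y) := by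
    have n1 := (Ψ i).toPresheafFiber_naturality_apply a.hom U x₀ x
    have n2 := (Ψ i).toPresheafFiber_naturality_apply a.hom U x₀ y
    exact n1.trans ((congrArg _ hxy).trans n2.symm)
  have e2 := h i e1
  obtain ⟨W, g, w, hw, hg⟩ := ((Ψ i).toPresheafFiber_eq_iff' U x₀ x y).mp e2
  exact ⟨W, g, w, hg, hw⟩

include hΨ in
lemma isLocallySurjective_of_crit
    (h : ∀ i, Function.Surjective ((Ψ i).sheafFiber.map a)) : Sheaf.IsLocallySurjective a := by
  constructor
  intro U s
  apply hΨ
  intro i x₀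
  let Φ := Ψ i
  obtain ⟨σ, hσ⟩ := h i (Φ.toPresheafFiber U x₀ G.obj s)
  obtain ⟨V, v, r, rfl⟩ := Φ.toPresheafFiber_jointly_surjective (P := F.obj) σ
  have n1 : Φ.sheafFiber.map a (Φ.toPresheafFiber V v F.obj r) =
      Φ.toPresheafFiber V v G.obj (a.hom.app (op V) r) :=
    Φ.toPresheafFiber_naturality_apply a.hom V v r
  let m : Φ.fiber.Elements := IsCofiltered.min (⟨V, v⟩ : Φ.fiber.Elements) ⟨U, x₀⟩
  let gV : m ⟶ ⟨V, v⟩ := IsCofiltered.minToLeft _ _
  let gU : m ⟶ ⟨U, x₀⟩ := IsCofiltered.minToRight _ _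
  have hgV : Φ.fiber.map gV.1 m.2 = v := gV.2
  have hgU : Φ.fiber.map gU.1 m.2 = x₀ := gU.2
  have e1 : Φ.toPresheafFiber m.1 m.2 G.obj (G.obj.map gU.1.op s) =
      Φ.toPresheafFiber m.1 m.2 G.obj (G.obj.map gV.1.op (a.hom.app (op V) r)) := by
    rw [Φ.toPresheafFiber_w_apply, Φ.toPresheafFiber_w_apply, hgV, hgU, ← hσ, n1]
  obtain ⟨W', g, w', hw', hg⟩ := (Φ.toPresheafFiber_eq_iff' m.1 m.2 _ _).mp e1
  refine ⟨W', g ≫ gU.1, w', ⟨F.obj.map (g ≫ gV.1).op r, ?_⟩, ?_⟩
  · have n2 := NatTrans.naturality_apply a.hom (g ≫ gV.1).op r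
    rw [n2]
    rw [op_comp, Functor.map_comp, ConcreteCategory.comp_apply, ← hg,
      ← ConcreteCategory.comp_apply, ← Functor.map_comp, ← op_comp]
  · rw [Functor.map_comp]
    change Φ.fiber.map gU.1 (Φ.fiber.map g w') = x₀
    rw [hw', hgU]

include hΨ in
theorem isIso_of_crit
    (h : ∀ i, Function.Bijective ((Ψ i).sheafFiber.map a)) : IsIso a := by
  haveI := isLocallyInjective_of_crit Ψ hΨ a (fun i => (h i).1)
  haveI := isLocallySurjective_of_crit Ψ hΨ a (fun i => (h i).2)
  haveI : Mono a := Sheaf.mono_of_isLocallyInjective a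
  haveI : Epi a := Sheaf.epi_of_isLocallySurjective a
  exact isIso_of_mono_of_epi a

end CritSec

end Groth.Agent.Lib.Helper8SiteCrit
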