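import Mathlib
import Groth.Prelude.Def_EtBase
import Groth.Agent.Lib.Helper8SiteCrit
import Groth.Agent.Lib.Helper16StalkPull

/-!
# Finite locally constant étale sheaves via sections with bijective germs (helper8)

* `GermBij F U M φ` : `φ : M →+ F(U)` induces bijections `M → F_ξ` for all geometric points
  `ξ` lifting to `U`.
* `nonempty_iso_iff` : `F|_U ≅ M_U` (on the over-site) iff there is such a `φ`.
* `FLC F` and `flc_iff : EtCoh.IsFiniteLocallyConstant F ↔ FLC F`.
-/

set_option autoImplicit false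
open CategoryTheory CategoryTheory.Limits AlgebraicGeometry Opposite GrothendieckTopology
universe u

namespace Groth.Agent.Lib.Helper8EtFLCCrit

open Groth.Agent.Lib.Helper16.EtStalk Groth.Agent.Lib.Helper16.SmallEtale
  Groth.Agent.Lib.Helper16.StalkPull Groth.Agent.Lib.Helper8SiteStalkConst
  Groth.Agent.Lib.Helper8SiteCrit

variable {X : Scheme.{u}}

/-- geometric points, bundled -/
structure GeomPt (X : Scheme.{u}) where
  Ω : Type u
  [field : Field Ω]
  [sep : IsSepClosed Ω]
  ξ : Spec (CommRingCat.of Ω) ⟶ X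

attribute [instance] GeomPt.field GeomPt.sep

/-- the points of the over-site of `U` coming from geometric points with a lift to `U` -/
noncomputable def overPt (U : X.Etale)
    (i : Σ p : GeomPt X, (Scheme.pointSmallEtale p.ξ).fiber.obj U) :
    Point.{u} (X.smallEtaleTopology.over U) :=
  (Scheme.pointSmallEtale i.1.ξ).over i.2

set_option backward.isDefEq.respectTransparency.types false in
theorem crit_overPt (U : X.Etale) : Crit (overPt U) := by
  intro Y R h
  rw [GrothendieckTopology.mem_over_iff, mem_smallEtale_iff]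
  intro p
  obtain ⟨Ω, _, _, ξ, x₀, hx₀⟩ := exists_geometric_point Y.left p
  let Φ := Scheme.pointSmallEtale ξ
  obtain ⟨W, g, w, hRg, hw⟩ := h ⟨⟨Ω, ξ⟩, Φ.fiber.map Y.hom x₀⟩ ⟨x₀, rfl⟩
  refine ⟨W.left, g.left, (w.1.left : Spec (CommRingCat.of Ω) ⟶ W.left.left)
    (default : Spec (CommRingCat.of Ω)), ?_, ?_⟩
  · rw [Sieve.overEquiv_iff]
    have e : (Over.homMk g.left : Over.mk (g.left ≫ Y.hom) ⟶ Y) =
        (Over.isoMk (Iso.refl _) (by simp) : Over.mk (g.left ≫ Y.hom) ≅ W).hom ≫ g := by
      ext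
      simp
    rw [e]
    exact R.downward_closed hRg _
  · have h1 : (overPt U ⟨⟨Ω, ξ⟩, Φ.fiber.map Y.hom x₀⟩).fiber.map g w = ⟨x₀, rfl⟩ := hw
    have h2 : Φ.fiber.map g.left w.1 = x₀ := congrArg Subtype.val h1
    have e3 : w.1.left ≫ g.left.left = x₀.left := congrArg (fun m => m.left) h2
    rw [← hx₀]
    exact congrArg (fun m : Spec (CommRingCat.of Ω) ⟶ Y.left.left => m default) e3

/-- `φ : M →+ F(U)` induces bijections onto all geometric stalks over `U`. -/
def GermBij (F : EtCoh.Ab X) (U : X.Etale) (M : Type) [AddCommGroup M]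
    (φ : M →+ F.obj.obj (op U)) : Prop :=
  ∀ (Ω : Type u) [Field Ω] [IsSepClosed Ω] (ξ : Spec (CommRingCat.of Ω) ⟶ X)
    (t : (Scheme.pointSmallEtale ξ).fiber.obj U),
    Function.Bijective (fun m : M => germ ξ F U t (φ m))

/-- the constant sheaf on the over site -/
noncomputable abbrev constOver (U : X.Etale) (M : Type) [AddCommGroup M] :
    Sheaf (X.smallEtaleTopology.over U) AddCommGrpCat.{u + 1} :=
  (constantSheaf (X.smallEtaleTopology.over U) AddCommGrpCat.{u + 1}).obj
    (AddCommGrpCat.of (ULift.{u + 1} M))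

section

variable (F : EtCoh.Ab X) (U : X.Etale) (M : Type) [AddCommGroup M]

/-- canonical constant sections of the constant sheaf on the over-site -/
noncomputable def cst (Y : Over U) :
    AddCommGrpCat.of (ULift.{u + 1} M) ⟶ (constOver U M).obj.obj (op Y) :=
  (CategoryTheory.toSheafify (X.smallEtaleTopology.over U)
    ((Functor.const (Over U)ᵒᵖ).obj (AddCommGrpCat.of (ULift.{u + 1} M)))).app (op Y)

variable {Ω : Type u} [Field Ω] [IsSepClosed Ω] (ξ : Spec (CommRingCat.of Ω) ⟶ X)
  (t : (Scheme.pointSmallEtale ξ).fiber.obj U)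

/-- the tautological element of the fibre of the over-point at the terminal object -/
noncomputable def tt : ((Scheme.pointSmallEtale ξ).over t).fiber.obj (Over.mk (𝟙 U)) :=
  ⟨t, by
    change (Scheme.pointSmallEtale ξ).fiber.map (𝟙 U) t = t
    rw [CategoryTheory.Functor.map_id]
    rfl⟩

set_option backward.isDefEq.respectTransparency.types false in
lemma germ_cst (m : ULift.{u + 1} M) :
    ((Scheme.pointSmallEtale ξ).over t).toPresheafFiber (Over.mk (𝟙 U)) (tt U ξ t)
        (constOver U M).obj (cst U M (Over.mk (𝟙 U)) m) =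
      (sheafFiberConstIso ((Scheme.pointSmallEtale ξ).over t)
        (AddCommGrpCat.of (ULift.{u + 1} M))).inv m := by
  have h := sheafFiberConstIso_germ ((Scheme.pointSmallEtale ξ).over t)
    (AddCommGrpCat.of (ULift.{u + 1} M)) (Over.mk (𝟙 U)) (tt U ξ t)
  have h2 := ConcreteCategory.congr_hom h m
  have h3 : (sheafFiberConstIso ((Scheme.pointSmallEtale ξ).over t)
      (AddCommGrpCat.of (ULift.{u + 1} M))).hom
      (((Scheme.pointSmallEtale ξ).over t).toPresheafFiber (Over.mk (𝟙 U)) (tt U ξ t)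
        (constOver U M).obj (cst U M (Over.mk (𝟙 U)) m)) = m := h2
  have h4 := congrArg (sheafFiberConstIso ((Scheme.pointSmallEtale ξ).over t)
      (AddCommGrpCat.of (ULift.{u + 1} M))).inv h3
  refine Eq.trans ?_ h4
  exact (ConcreteCategory.congr_hom (sheafFiberConstIso ((Scheme.pointSmallEtale ξ).over t)
      (AddCommGrpCat.of (ULift.{u + 1} M))).hom_inv_id _).symm

set_option backward.isDefEq.respectTransparency.types false in
/-- germs at `ξ` of sections of `F` over `U` computed through the over-site -/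
lemma germ_eq_overFiberMap (z : F.obj.obj (op U)) :
    germ ξ F U t z = overFiberMap (Scheme.pointSmallEtale ξ) t F.obj
      (((Scheme.pointSmallEtale ξ).over t).toPresheafFiber (Over.mk (𝟙 U)) (tt U ξ t)
        ((Over.forget U).op ⋙ F.obj) z) :=
  (overFiberMap_apply (Scheme.pointSmallEtale ξ) t F.obj (Over.mk (𝟙 U)) (tt U ξ t) z).symm

end

section

variable (F : EtCoh.Ab X) (U : X.Etale) (M : Type) [AddCommGroup M]

lemma bijective_of_iso {A B : AddCommGrpCat.{u + 1}} (e : A ≅ B) : Function.Bijective e.hom :=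
  (ConcreteCategory.isIso_iff_bijective e.hom).mp inferInstance

lemma bijective_of_iso_inv {A B : AddCommGrpCat.{u + 1}} (e : A ≅ B) : Function.Bijective e.inv :=
  (ConcreteCategory.isIso_iff_bijective e.inv).mp inferInstance

set_option backward.isDefEq.respectTransparency.types false in
/-- from an isomorphism with a constant sheaf on the over-site to sections with bijective germs -/
theorem exists_germBij_of_iso (e : EtCoh.restr F U ≅ constOver U M) :
    ∃ φ : M →+ F.obj.obj (op U), GermBij F U M φ := by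
  let φ' : AddCommGrpCat.of (ULift.{u + 1} M) ⟶ F.obj.obj (op U) :=
    cst U M (Over.mk (𝟙 U)) ≫ e.inv.hom.app (op (Over.mk (𝟙 U)))
  refine ⟨φ'.hom.comp (AddEquiv.ulift.symm : M ≃+ ULift.{u + 1} M).toAddMonoidHom, ?_⟩
  intro Ω _ _ ξ t
  let Ψ := (Scheme.pointSmallEtale ξ).over t
  have key : ∀ m' : ULift.{u + 1} M, germ ξ F U t (φ' m') =
      overFiberMap (Scheme.pointSmallEtale ξ) t F.obj (Ψ.sheafFiber.map e.inv
        ((sheafFiberConstIso Ψ (AddCommGrpCat.of (ULift.{u + 1} M))).inv m')) := by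
    intro m'
    rw [germ_eq_overFiberMap, ← germ_cst]
    congr 1
    exact (Ψ.toPresheafFiber_naturality_apply e.inv.hom (Over.mk (𝟙 U)) (tt U ξ t)
      (cst U M (Over.mk (𝟙 U)) m')).symm
  have hb : Function.Bijective (fun m' : ULift.{u + 1} M => germ ξ F U t (φ' m')) := by
    have : (fun m' : ULift.{u + 1} M => germ ξ F U t (φ' m')) =
        (overFiberMap (Scheme.pointSmallEtale ξ) t F.obj) ∘ (Ψ.sheafFiber.map e.inv) ∘
          ((sheafFiberConstIso Ψ (AddCommGrpCat.of (ULift.{u + 1} M))).inv) := by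
      funext m'
      exact key m'
    rw [this]
    refine (bijective_overFiberMap (Scheme.pointSmallEtale ξ) t F.obj).comp
      (Function.Bijective.comp ?_ (bijective_of_iso_inv _))
    exact bijective_of_iso (Ψ.sheafFiber.mapIso e.symm)
  exact hb.comp (AddEquiv.ulift.symm : M ≃+ ULift.{u + 1} M).bijective

variable {F U M}

/-- the presheaf map from the constant presheaf induced by sections over `U` -/
noncomputable def kap (φ' : AddCommGrpCat.of (ULift.{u + 1} M) ⟶ F.obj.obj (op U)) :
    (Functor.const (Over U)ᵒᵖ).obj (AddCommGrpCat.of (ULift.{u + 1} M)) ⟶ (EtCoh.restr F U).obj where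
  app Y := φ' ≫ F.obj.map Y.unop.hom.op
  naturality := by
    intro Y Y' g
    dsimp
    rw [Category.id_comp, Category.assoc]
    congr 1
    change _ = F.obj.map Y.unop.hom.op ≫ F.obj.map g.unop.left.op
    rw [← Functor.map_comp, ← op_comp, Over.w]

/-- the morphism from the constant sheaf induced by sections over `U` -/
noncomputable def psi (φ' : AddCommGrpCat.of (ULift.{u + 1} M) ⟶ F.obj.obj (op U)) :
    constOver U M ⟶ EtCoh.restr F U :=
  ⟨CategoryTheory.sheafifyLift (X.smallEtaleTopology.over U) (kap φ') (EtCoh.restr F U).property⟩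

lemma cst_psi (φ' : AddCommGrpCat.of (ULift.{u + 1} M) ⟶ F.obj.obj (op U)) (Y : Over U) :
    cst U M Y ≫ (psi φ').hom.app (op Y) = φ' ≫ F.obj.map Y.hom.op := by
  have h := CategoryTheory.toSheafify_sheafifyLift (X.smallEtaleTopology.over U) (kap φ')
    (EtCoh.restr F U).property
  exact congrArg (fun k => k.app (op Y)) h

set_option backward.isDefEq.respectTransparency.types false in
/-- the lift of `φ` to `ULift` -/
noncomputable def liftHom (φ : M →+ F.obj.obj (op U)) :
    AddCommGrpCat.of (ULift.{u + 1} M) ⟶ F.obj.obj (op U) :=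
  AddCommGrpCat.ofHom (φ.comp (AddEquiv.ulift : ULift.{u + 1} M ≃+ M).toAddMonoidHom)

set_option backward.isDefEq.respectTransparency.types false in
/-- sections with bijective germs give an isomorphism from the constant sheaf on the over-site -/
theorem isIso_psi (φ : M →+ F.obj.obj (op U)) (hφ : GermBij F U M φ) :
    IsIso (psi (liftHom φ)) := by
  obtain ⟨φ', hφ'⟩ : ∃ φ', φ' = liftHom φ := ⟨_, rfl⟩
  rw [← hφ']
  have hiso : IsIso (psi φ') := by
    apply isIso_of_crit (overPt U) (crit_overPt U)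
    rintro ⟨⟨Ω, ξ⟩, t⟩
    let Ψ := (Scheme.pointSmallEtale ξ).over t
    change Function.Bijective (Ψ.sheafFiber.map (psi φ'))
    have key : ∀ m' : ULift.{u + 1} M,
        overFiberMap (Scheme.pointSmallEtale ξ) t F.obj (Ψ.sheafFiber.map (psi φ')
          ((sheafFiberConstIso Ψ (AddCommGrpCat.of (ULift.{u + 1} M))).inv m')) =
        germ ξ F U t (φ m'.down) := by
      intro m'
      rw [germ_eq_overFiberMap, ← germ_cst]
      congr 1
      refine (Ψ.toPresheafFiber_naturality_apply (psi φ').hom (Over.mk (𝟙 U)) (tt U ξ t)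
        (cst U M (Over.mk (𝟙 U)) m')).trans ?_
      congr 1
      have h1 := ConcreteCategory.congr_hom (cst_psi φ' (Over.mk (𝟙 U))) m'
      refine h1.trans ?_
      rw [hφ']
      change F.obj.map (𝟙 U).op (φ m'.down) = φ m'.down
      rw [op_id, CategoryTheory.Functor.map_id]
      rfl
    have hb : Function.Bijective ((overFiberMap (Scheme.pointSmallEtale ξ) t F.obj) ∘
        (Ψ.sheafFiber.map (psi φ')) ∘
        ((sheafFiberConstIso Ψ (AddCommGrpCat.of (ULift.{u + 1} M))).inv)) := by
      have : ((overFiberMap (Scheme.pointSmallEtale ξ) t F.obj) ∘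
          (Ψ.sheafFiber.map (psi φ')) ∘
          ((sheafFiberConstIso Ψ (AddCommGrpCat.of (ULift.{u + 1} M))).inv)) =
          (fun m : M => germ ξ F U t (φ m)) ∘ (AddEquiv.ulift : ULift.{u + 1} M ≃+ M) := by
        funext m'
        exact key m'
      rw [this]
      exact (hφ Ω ξ t).comp (AddEquiv.ulift : ULift.{u + 1} M ≃+ M).bijective
    have hb2 := (Function.Bijective.of_comp_iff' (bijective_overFiberMap
      (Scheme.pointSmallEtale ξ) t F.obj) _).mp hb
    exact (Function.Bijective.of_comp_iff _ (bijective_of_iso_inv _)).mp hb2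
  exact hiso

/-- sections with bijective germs give an isomorphism with the constant sheaf on the over-site -/
theorem nonempty_iso_of_germBij (φ : M →+ F.obj.obj (op U)) (hφ : GermBij F U M φ) :
    Nonempty (EtCoh.restr F U ≅ constOver U M) := by
  haveI := isIso_psi φ hφ
  exact ⟨(asIso (psi (liftHom φ))).symm⟩

theorem nonempty_iso_iff (F : EtCoh.Ab X) (U : X.Etale) (M : Type) [AddCommGroup M] :
    Nonempty (EtCoh.restr F U ≅ constOver U M) ↔ ∃ φ : M →+ F.obj.obj (op U), GermBij F U M φ :=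
  ⟨fun ⟨e⟩ => exists_germBij_of_iso F U M e, fun ⟨φ, hφ⟩ => nonempty_iso_of_germBij φ hφ⟩

end

/-- finite locally constant, in terms of sections with bijective germs -/
def FLC (F : EtCoh.Ab X) : Prop :=
  ∃ (ι : Type u) (U : ι → X.Etale), EtCoh.Covers U ∧ ∀ i, ∃ (M : Type) (_ : AddCommGroup M)
    (_ : Finite M) (φ : M →+ F.obj.obj (op (U i))), GermBij F (U i) M φ

theorem flc_iff (F : EtCoh.Ab X) : EtCoh.IsFiniteLocallyConstant F ↔ FLC F := by
  constructor
  · rintro ⟨ι, U, hU, h⟩
    refine ⟨ι, U, hU, fun i => ?_⟩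
    obtain ⟨M, _, _, ⟨e⟩⟩ := h i
    obtain ⟨φ, hφ⟩ := exists_germBij_of_iso F (U i) M e
    exact ⟨M, inferInstance, inferInstance, φ, hφ⟩
  · rintro ⟨ι, U, hU, h⟩
    refine ⟨ι, U, hU, fun i => ?_⟩
    obtain ⟨M, _, _, φ, hφ⟩ := h i
    exact ⟨M, inferInstance, inferInstance, nonempty_iso_of_germBij φ hφ⟩

set_option backward.isDefEq.respectTransparency.types false in
theorem GermBij.of_iso {F F' : EtCoh.Ab X} (α : F ≅ F') {U : X.Etale} {M : Type} [AddCommGroup M]
    {φ : M →+ F.obj.obj (op U)} (hφ : GermBij F U M φ) :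
    GermBij F' U M ((α.hom.hom.app (op U)).hom.comp φ) := by
  intro Ω _ _ ξ t
  have key : (fun m : M => germ ξ F' U t (((α.hom.hom.app (op U)).hom.comp φ) m)) =
      ((EtCoh.stalk ξ).map α.hom) ∘ (fun m : M => germ ξ F U t (φ m)) := by
    funext m
    exact ((Scheme.pointSmallEtale ξ).toPresheafFiber_naturality_apply α.hom.hom U t (φ m)).symm
  rw [key]
  exact (bijective_of_iso ((EtCoh.stalk ξ).mapIso α)).comp (hφ Ω ξ t)

set_option backward.isDefEq.respectTransparency.types false in
theorem GermBij.restrict {F : EtCoh.Ab X} {U W : X.Etale} (g : W ⟶ U) {M : Type} [AddCommGroup M]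
    {φ : M →+ F.obj.obj (op U)} (hφ : GermBij F U M φ) :
    GermBij F W M ((F.obj.map g.op).hom.comp φ) := by
  intro Ω _ _ ξ t
  have key : (fun m : M => germ ξ F W t (((F.obj.map g.op).hom.comp φ) m)) =
      (fun m : M => germ ξ F U ((Scheme.pointSmallEtale ξ).fiber.map g t) (φ m)) := by
    funext m
    exact (Scheme.pointSmallEtale ξ).toPresheafFiber_w_apply g t F.obj (φ m)
  rw [key]
  exact hφ Ω ξ _

theorem FLC.of_iso {F F' : EtCoh.Ab X} (α : F ≅ F') (h : FLC F) : FLC F' := by
  obtain ⟨ι, U, hU, h⟩ := h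
  refine ⟨ι, U, hU, fun i => ?_⟩
  obtain ⟨M, _, _, φ, hφ⟩ := h i
  exact ⟨M, inferInstance, inferInstance, _, hφ.of_iso α⟩

lemma inv_hom_app_apply {C : Type*} [Category C] {P Q : C ⥤ Type u} (e : P ≅ Q) (U : C)
    (t : P.obj U) : ∃ u : Q.obj U, e.inv.app U u = t :=
  ⟨e.hom.app U t, Iso.hom_inv_id_app_apply e U t⟩

set_option backward.isDefEq.respectTransparency.types false in
theorem GermBij.pull {X' : Scheme.{u}} (f : X' ⟶ X) {F : EtCoh.Ab X} {U : X.Etale} {M : Type}
    [AddCommGroup M] {φ : M →+ F.obj.obj (op U)} (hφ : GermBij F U M φ) :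
    GermBij ((EtCoh.pull f).obj F) ((EtCoh.bc f).obj U) M
      ((((EtCoh.pullPushAdj f).unit.app F).hom.app (op U)).hom.comp φ) := by
  intro Ω _ _ ξ t'
  obtain ⟨u, ht'⟩ := inv_hom_app_apply (Groth.Agent.S0100.fiberIso f ξ) U t'
  have key : (fun m : M => germ ξ ((EtCoh.pull f).obj F) ((EtCoh.bc f).obj U) t'
      (((((EtCoh.pullPushAdj f).unit.app F).hom.app (op U)).hom.comp φ) m)) =
      ((Groth.Agent.S0101.stalkPullIso f ξ).hom.app F) ∘
        (fun m : M => germ (ξ ≫ f) F U u (φ m)) := by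
    funext m
    have := germ_compat f ξ F U u (φ m)
    rw [ht'] at this
    exact this.symm
  refine (congrArg Function.Bijective key).mpr ?_
  exact (bijective_of_iso ((Groth.Agent.S0101.stalkPullIso f ξ).app F)).comp (hφ Ω (ξ ≫ f) u)

set_option backward.isDefEq.respectTransparency.types false in
theorem covers_bc {X' : Scheme.{u}} (f : X' ⟶ X) {ι : Type u} {U : ι → X.Etale}
    (hU : EtCoh.Covers U) : EtCoh.Covers (fun i => (EtCoh.bc f).obj (U i)) := by
  intro x'
  obtain ⟨i, y, hy⟩ := hU (f.base x')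
  obtain ⟨z, hz1, hz2⟩ := Scheme.Pullback.exists_preimage_pullback
    (f := (U i).hom) (g := f) y x' hy
  exact ⟨i, z, hz2⟩

theorem FLC.pull {X' : Scheme.{u}} (f : X' ⟶ X) {F : EtCoh.Ab X} (h : FLC F) :
    FLC ((EtCoh.pull f).obj F) := by
  obtain ⟨ι, U, hU, h⟩ := h
  refine ⟨ι, fun i => (EtCoh.bc f).obj (U i), covers_bc f hU, fun i => ?_⟩
  obtain ⟨M, _, _, φ, hφ⟩ := h i
  exact ⟨M, inferInstance, inferInstance, _, hφ.pull f⟩

end Groth.Agent.Lib.Helper8EtFLCCrit
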