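import Mathlib
import Groth.Prelude.Def_PBC
import Groth.Prelude.Def_EtCore
import Groth.Agent.Lib.Helper8EtFLCCrit

/-!
# Constructible abelian étale sheaves: manipulation of adapted stratifications (helper8)

* `Strat F S` : flexible version of `EtPBC.AdaptedStrata F S` (any finite index type, `FLC`).
* `adaptedStrata_iff`.
* `Strat.transfer` : moving a stratification along an immersion.
* `Strat.glue` : gluing stratifications along a finite open cover.
-/

set_option autoImplicit false
open CategoryTheory CategoryTheory.Limits AlgebraicGeometry Opposite Topology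
universe u

namespace Groth.Agent.Lib.Helper8EtConstr

open Groth.Agent.Lib.Helper8EtFLCCrit

variable {X : Scheme.{u}}

/-- flexible adapted stratifications -/
def Strat (F : EtCoh.Ab X) (S : Set X) : Prop :=
  ∃ (ι : Type) (_ : Finite ι) (T : ι → Scheme.{u}) (g : ∀ i, T i ⟶ X),
    (∀ i, IsImmersion (g i)) ∧
    (∀ i, IsConstructible ((Subtype.val : S → X) ⁻¹' Set.range (g i))) ∧
    Pairwise (fun i j => Disjoint (Set.range (g i)) (Set.range (g j))) ∧
    (⋃ i, Set.range (g i)) = S ∧
    ∀ i, FLC ((EtCoh.pull (g i)).obj F)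

theorem adaptedStrata_iff (F : EtCoh.Ab X) (S : Set X) : EtPBC.AdaptedStrata F S ↔ Strat F S := by
  constructor
  · rintro ⟨n, T, g, h1, h2, h3, h4, h5⟩
    exact ⟨Fin n, inferInstance, T, g, h1, h2, h3, h4, fun i => (flc_iff _).mp (h5 i)⟩
  · rintro ⟨ι, _, T, g, h1, h2, h3, h4, h5⟩
    obtain ⟨n, ⟨e⟩⟩ := Finite.exists_equiv_fin ι
    refine ⟨n, fun k => T (e.symm k), fun k => g (e.symm k), fun k => h1 _, fun k => h2 _, ?_, ?_, ?_⟩
    · intro a b hab
      exact h3 (fun h => hab (e.symm.injective h))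
    · rw [← h4]
      exact e.symm.surjective.iUnion_comp (fun i => Set.range (g i))
    · intro k _
      exact (flc_iff _).mpr (h5 _)

lemma range_comp' {A B C : Scheme.{u}} (f : A ⟶ B) (g : B ⟶ C) :
    Set.range (f ≫ g) = g '' Set.range f := by
  rw [Scheme.Hom.comp_base]
  simp [Set.range_comp]

/-- the pullback of `F` along a composite -/
noncomputable def pullCompIso {A B C : Scheme.{u}} (f : A ⟶ B) (g : B ⟶ C) (F : EtCoh.Ab C) :
    (EtCoh.pull (f ≫ g)).obj F ≅ (EtCoh.pull f).obj ((EtCoh.pull g).obj F) :=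
  (EtCore.pullComp f g).app F

/-- moving a stratification along an immersion -/
theorem Strat.transfer {X X' W : Scheme.{u}} (F : EtCoh.Ab X) (F' : EtCoh.Ab X') (q : W ⟶ X)
    (j : W ⟶ X') [IsImmersion j] (e : (EtCoh.pull j).obj F' ≅ (EtCoh.pull q).obj F) (S : Set X)
    (hq : Set.range q ⊆ S)
    (htop : ∀ Z : Set X, IsConstructible ((Subtype.val : S → X) ⁻¹' Z) →
      IsConstructible ((Subtype.val : Set.range j → X') ⁻¹' (j '' (q ⁻¹' Z))))
    (h : Strat F S) : Strat F' (Set.range j) := by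
  obtain ⟨ι, _, T, g, h1, h2, h3, h4, h5⟩ := h
  have hr : ∀ i, Set.range (pullback.snd (g i) q ≫ j) = j '' (q ⁻¹' Set.range (g i)) := by
    intro i
    rw [range_comp', Scheme.Pullback.range_snd]
  refine ⟨ι, inferInstance, fun i => pullback (g i) q, fun i => pullback.snd (g i) q ≫ j,
    fun i => inferInstance, ?_, ?_, ?_, ?_⟩
  · intro i
    rw [hr]
    exact htop _ (h2 i)
  · intro a b hab
    rw [hr, hr]
    exact (Set.disjoint_image_iff j.isEmbedding.injective).mpr
      ((h3 hab).preimage q)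
  · simp_rw [hr]
    rw [← Set.image_iUnion, ← Set.preimage_iUnion, h4]
    have : q ⁻¹' S = Set.univ := by
      ext x
      simpa using hq ⟨x, rfl⟩
    rw [this, Set.image_univ]
  · intro i
    have w : (pullback.snd (g i) q ≫ j) = pullback.snd (g i) q ≫ j := rfl
    -- pull (snd ≫ j) F' ≅ pull snd (pull j F') ≅ pull snd (pull q F) ≅ pull (snd ≫ q) F
    --   = pull (fst ≫ g) F ≅ pull fst (pull g F)
    have i1 := pullCompIso (pullback.snd (g i) q) j F'
    have i2 := (EtCoh.pull (pullback.snd (g i) q)).mapIso e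
    have i3 := (pullCompIso (pullback.snd (g i) q) q F).symm
    have i4 := (EtCore.pullCongr (pullback.condition (f := g i) (g := q)).symm).app F
    have i5 := pullCompIso (pullback.fst (g i) q) (g i) F
    exact FLC.of_iso (i1 ≪≫ i2 ≪≫ i3 ≪≫ i4 ≪≫ i5).symm (FLC.pull _ (h5 i))

/-- the closed complement of the union of the earlier members of a finite family of opens -/
def Zc {m : ℕ} (V : Fin m → X.Opens) (k : Fin m) : TopologicalSpace.Closeds X :=
  ⟨(⋃ j ∈ {j : Fin m | j < k}, (V j : Set X))ᶜ,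
    (isOpen_biUnion (fun j _ => (V j).isOpen)).isClosed_compl⟩

lemma range_zeta {m : ℕ} (V : Fin m → X.Opens) (k : Fin m) :
    Set.range (Scheme.IdealSheafData.vanishingIdeal (Zc V k)).subschemeι =
      (⋃ j ∈ {j : Fin m | j < k}, (V j : Set X))ᶜ := by
  rw [Scheme.IdealSheafData.range_subschemeι, Scheme.IdealSheafData.coe_support_vanishingIdeal]
  rfl

lemma isConstructible_val_preimage_of_subset {α : Type*} [TopologicalSpace α] {A S Z : Set α}
    (hAS : A ⊆ S) (hA : IsOpen A) (hret : IsRetrocompact ((Subtype.val : S → α) ⁻¹' A))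
    (hZA : Z ⊆ A) (hZ : IsConstructible ((Subtype.val : A → α) ⁻¹' Z)) :
    IsConstructible ((Subtype.val : S → α) ⁻¹' Z) := by
  have hemb : IsOpenEmbedding (Set.inclusion hAS) := by
    refine ⟨IsEmbedding.inclusion hAS, ?_⟩
    rw [Set.range_inclusion]
    exact hA.preimage continuous_subtype_val
  have himg : (Subtype.val : S → α) ⁻¹' Z =
      Set.inclusion hAS '' ((Subtype.val : A → α) ⁻¹' Z) := by
    ext ⟨x, hx⟩
    constructor
    · intro hxZ
      exact ⟨⟨x, hZA hxZ⟩, hxZ, rfl⟩
    · rintro ⟨⟨y, hy⟩, hyZ, hxy⟩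
      have : y = x := congrArg Subtype.val hxy
      subst this
      exact hyZ
  rw [himg]
  refine hZ.image_of_isOpenEmbedding hemb ?_
  rw [Set.range_inclusion]
  exact hret

/-- gluing stratifications along a finite open cover -/
theorem Strat.glue (F : EtCoh.Ab X) {m : ℕ} (V : Fin m → X.Opens) (S : Set X)
    (hS : S = ⋃ k, (V k : Set X))
    (hret : ∀ k, IsRetrocompact ((Subtype.val : S → X) ⁻¹' (V k : Set X)))
    (h : ∀ k, Strat F (V k : Set X)) : Strat F S := by
  classical
  choose ι hfin T g h1 h2 h3 h4 h5 using h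
  haveI : ∀ k, Finite (ι k) := hfin
  have hVS : ∀ k, (V k : Set X) ⊆ S := fun k => by
    rw [hS]
    exact Set.subset_iUnion (fun k => (V k : Set X)) k
  have hgV : ∀ k i, Set.range (g k i) ⊆ (V k : Set X) := fun k i => by
    rw [← h4 k]
    exact Set.subset_iUnion (fun i => Set.range (g k i)) i
  let ζ : ∀ k, (Scheme.IdealSheafData.vanishingIdeal (Zc V k)).subscheme ⟶ X :=
    fun k => (Scheme.IdealSheafData.vanishingIdeal (Zc V k)).subschemeι
  have hr : ∀ (k : Fin m) (i : ι k), Set.range (pullback.fst (g k i) (ζ k) ≫ g k i) =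
      (⋃ j ∈ {j : Fin m | j < k}, (V j : Set X))ᶜ ∩ Set.range (g k i) := by
    intro k i
    rw [range_comp', Scheme.Pullback.range_fst, Set.image_preimage_eq_inter_range, range_zeta]
  refine ⟨Σ k, ι k, inferInstance, fun p => pullback (g p.1 p.2) (ζ p.1),
    fun p => pullback.fst (g p.1 p.2) (ζ p.1) ≫ g p.1 p.2, fun p => inferInstance, ?_, ?_, ?_, ?_⟩
  · rintro ⟨k, i⟩
    rw [hr, Set.preimage_inter, Set.preimage_compl]
    refine IsConstructible.inter (IsConstructible.compl ?_) ?_
    · rw [Set.preimage_iUnion₂]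
      refine IsConstructible.biUnion (Set.toFinite _) (fun j _ => ?_)
      exact (hret j).isConstructible ((V j).isOpen.preimage continuous_subtype_val)
    · exact isConstructible_val_preimage_of_subset (hVS k) (V k).isOpen (hret k) (hgV k i) (h2 k i)
  · rintro ⟨k, i⟩ ⟨k', i'⟩ hne
    rw [hr, hr]
    rcases lt_trichotomy k k' with hlt | heq | hgt
    · refine Set.disjoint_left.mpr (fun x hx hx' => hx'.1 ?_)
      exact Set.mem_biUnion (show k ∈ {j : Fin m | j < k'} from hlt) (hgV k i hx.2)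
    · subst heq
      have : i ≠ i' := fun hii => hne (by rw [hii])
      exact (h3 k this).mono Set.inter_subset_right Set.inter_subset_right
    · refine Set.disjoint_left.mpr (fun x hx hx' => hx.1 ?_)
      exact Set.mem_biUnion (show k' ∈ {j : Fin m | j < k} from hgt) (hgV k' i' hx'.2)
  · apply Set.Subset.antisymm
    · refine Set.iUnion_subset ?_
      rintro ⟨k, i⟩
      rw [hr]
      exact fun x hx => hVS k (hgV k i hx.2)
    · intro x hx
      rw [hS] at hx
      obtain ⟨k₀, hk₀⟩ := Set.mem_iUnion.mp hx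
      -- minimal index
      let P : Fin m → Prop := fun k => x ∈ (V k : Set X)
      obtain ⟨k, hk, hmin⟩ : ∃ k, P k ∧ ∀ j, j < k → ¬ P j := by
        have hne : ({k | P k} : Set (Fin m)).Nonempty := ⟨k₀, hk₀⟩
        refine ⟨wellFounded_lt.min {k | P k} hne, wellFounded_lt.min_mem {k | P k} hne,
          fun j hj hPj => ?_⟩
        exact wellFounded_lt.not_lt_min {k | P k} (x := j) hPj hj
      have hxk : x ∈ ⋃ i, Set.range (g k i) := by
        rw [h4 k]
        exact hk
      obtain ⟨i, hi⟩ := Set.mem_iUnion.mp hxk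
      refine Set.mem_iUnion.mpr ⟨⟨k, i⟩, ?_⟩
      change x ∈ Set.range (pullback.fst (g k i) (ζ k) ≫ g k i)
      rw [hr]
      refine ⟨?_, hi⟩
      intro hx'
      obtain ⟨j, hj, hxj⟩ := Set.mem_iUnion₂.mp hx'
      exact hmin j hj hxj
  · rintro ⟨k, i⟩
    exact FLC.of_iso (pullCompIso (pullback.fst (g k i) (ζ k)) (g k i) F).symm (FLC.pull _ (h5 k i))

lemma isConstructible_val_preimage_of_open {α : Type*} [TopologicalSpace α] {A S Z : Set α}
    (hAS : A ⊆ S) (hA : IsOpen A) (hZ : IsConstructible ((Subtype.val : S → α) ⁻¹' Z)) :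
    IsConstructible ((Subtype.val : A → α) ⁻¹' Z) := by
  have hemb : IsOpenEmbedding (Set.inclusion hAS) := by
    refine ⟨IsEmbedding.inclusion hAS, ?_⟩
    rw [Set.range_inclusion]
    exact hA.preimage continuous_subtype_val
  have h := hZ.preimage_of_isOpenEmbedding hemb
  exact h

lemma isRetrocompact_val_preimage {α : Type*} [TopologicalSpace α] {S V : Set α}
    [QuasiSeparatedSpace S] (hV : IsOpen V) (hVc : IsCompact V) (hVS : V ⊆ S) :
    IsRetrocompact ((Subtype.val : S → α) ⁻¹' V) := by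
  refine IsCompact.isRetrocompact ?_ (hV.preimage continuous_subtype_val)
  rw [Subtype.isCompact_iff, Subtype.image_preimage_coe, Set.inter_eq_right.mpr hVS]
  exact hVc

/-- finite covers of a quasi-compact open by affine opens with a local property -/
theorem exists_finite_affine_cover (U : X.Opens) (hU : IsCompact (U : Set X))
    (P : X.Opens → Prop)
    (hP : ∀ x ∈ U, ∃ W : X.Opens, IsAffineOpen W ∧ x ∈ W ∧ W ≤ U ∧ P W) :
    ∃ (m : ℕ) (V : Fin m → X.Opens), (∀ k, IsAffineOpen (V k) ∧ V k ≤ U ∧ P (V k)) ∧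
      (U : Set X) = ⋃ k, (V k : Set X) := by
  classical
  choose W hW1 hW2 hW3 hW4 using hP
  obtain ⟨t, ht⟩ := hU.elim_finite_subcover (fun x : U => ((W x.1 x.2 : X.Opens) : Set X))
    (fun x => (W x.1 x.2).isOpen) (fun x hx => Set.mem_iUnion.mpr ⟨⟨x, hx⟩, hW2 x hx⟩)
  refine ⟨t.card, fun k => W (t.equivFin.symm k).1.1 (t.equivFin.symm k).1.2,
    fun k => ⟨hW1 _ _, hW3 _ _, hW4 _ _⟩, ?_⟩
  apply Set.Subset.antisymm
  · intro x hx
    obtain ⟨y, hy⟩ := Set.mem_iUnion.mp (ht hx)
    obtain ⟨hyt, hxy⟩ := Set.mem_iUnion.mp hy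
    refine Set.mem_iUnion.mpr ⟨t.equivFin ⟨y, hyt⟩, ?_⟩
    simpa using hxy
  · exact Set.iUnion_subset (fun k => hW3 _ _)

theorem isConstructible_iff (F : EtCoh.Ab X) :
    EtPBC.IsConstructible F ↔ ∀ U : X.Opens, IsAffineOpen U → Strat F (U : Set X) :=
  forall₂_congr (fun U _ => adaptedStrata_iff F (U : Set X))

/-- restricting a stratification to an open subset -/
theorem Strat.restrictOpen (F : EtCoh.Ab X) (S : Set X) (U : X.Opens) (hUS : (U : Set X) ⊆ S)
    (h : Strat F S) : Strat F (U : Set X) := by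
  have hr : Set.range U.ι = (U : Set X) := by simp
  have key := Strat.transfer F F U.ι U.ι (Iso.refl _) S (by rw [hr]; exact hUS) ?_ h
  · rw [hr] at key
    exact key
  · intro Z hZ
    rw [Set.image_preimage_eq_inter_range]
    have h1 := isConstructible_val_preimage_of_open (A := Set.range U.ι) (S := S) (Z := Z)
      (by rw [hr]; exact hUS) (by rw [hr]; exact U.isOpen) hZ
    have h2 : (Subtype.val : Set.range U.ι → X) ⁻¹' (Z ∩ Set.range U.ι) =
        (Subtype.val : Set.range U.ι → X) ⁻¹' Z := by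
      ext ⟨x, hx⟩
      exact ⟨fun hh => hh.1, fun hh => ⟨hh, hx⟩⟩
    rw [h2]
    exact h1

/-- a constructible sheaf has a stratification over every quasi-compact open whose underlying
space is quasi-separated -/
theorem strat_of_isConstructible (F : EtCoh.Ab X) (hF : EtPBC.IsConstructible F) (U : X.Opens)
    (hU : IsCompact (U : Set X)) [QuasiSeparatedSpace (U : Set X)] : Strat F (U : Set X) := by
  obtain ⟨m, V, hV, hUV⟩ := exists_finite_affine_cover U hU (fun _ => True) (fun x hx => by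
    obtain ⟨W, ⟨W', hW', rfl⟩, hxW, hWU⟩ :=
      (X.isBasis_affineOpens).exists_subset_of_mem_open hx U.isOpen
    exact ⟨W', hW', hxW, hWU, trivial⟩)
  refine Strat.glue F V (U : Set X) hUV (fun k => ?_) (fun k => ?_)
  · exact isRetrocompact_val_preimage (V k).isOpen (hV k).1.isCompact (hV k).2.1
  · exact (isConstructible_iff F).mp hF (V k) (hV k).1

lemma isConstructible_preimage_affine {X Y : Scheme.{u}} (f : X ⟶ Y) (W : X.Opens) (V : Y.Opens)
    (hW : IsAffineOpen W) (hV : IsAffineOpen V) (hWV : W ≤ f ⁻¹ᵁ V) (Z : Set Y)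
    (hZ : IsConstructible ((Subtype.val : ↥(V : Set Y) → Y) ⁻¹' Z)) :
    IsConstructible ((Subtype.val : ↥(W : Set X) → X) ⁻¹' (f ⁻¹' Z)) := by
  haveI : IsAffine (W : Scheme.{u}) := hW
  haveI : IsAffine (V : Scheme.{u}) := hV
  let ρ : (W : Scheme.{u}) ⟶ (V : Scheme.{u}) := f.resLE V W hWV
  have hρ : ∀ x : (W : Scheme.{u}), V.ι (ρ x) = f (W.ι x) := by
    intro x
    have h1 := congrArg (fun (g : (W : Scheme.{u}) ⟶ Y) => g x) (f.resLE_comp_ι hWV)
    simpa only [Scheme.Hom.comp_apply] using h1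
  have hset : ((Subtype.val : ↥(W : Set X) → X) ⁻¹' (f ⁻¹' Z)) =
      ρ ⁻¹' ((Subtype.val : ↥(V : Set Y) → Y) ⁻¹' Z) := by
    ext x
    change f (W.ι x) ∈ Z ↔ V.ι (ρ x) ∈ Z
    rw [hρ]
  rw [hset]
  refine hZ.preimage ρ.continuous (fun s hs hsr => ?_)
  haveI : CompactSpace (V : Scheme.{u}) := inferInstance
  have hsc : IsCompact s := hsr.isCompact
  have h1 : IsCompact (ρ ⁻¹' s) := QuasiCompact.isCompact_preimage (f := ρ) s hs hsc
  exact h1.isRetrocompact (hs.preimage ρ.continuous)

/-- pulling back a stratification along a morphism, between affine opens -/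
theorem Strat.pullback {X Y : Scheme.{u}} (f : X ⟶ Y) (F : EtCoh.Ab Y) (W : X.Opens) (V : Y.Opens)
    (hW : IsAffineOpen W) (hV : IsAffineOpen V) (hWV : W ≤ f ⁻¹ᵁ V) (h : Strat F (V : Set Y)) :
    Strat ((EtCoh.pull f).obj F) (W : Set X) := by
  have hr : Set.range W.ι = (W : Set X) := by simp
  have key := Strat.transfer F ((EtCoh.pull f).obj F) (W.ι ≫ f) W.ι
    (pullCompIso W.ι f F).symm (V : Set Y) ?_ ?_ h
  · rw [hr] at key
    exact key
  · rintro _ ⟨x, rfl⟩
    rw [Scheme.Hom.comp_apply]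
    exact hWV x.2
  · intro Z hZ
    suffices h' : ∀ (A : Set X), A = (W : Set X) →
        IsConstructible ((Subtype.val : A → X) ⁻¹' (W.ι '' ((W.ι ≫ f) ⁻¹' Z))) from h' _ hr
    intro A hA
    subst hA
    have h1 := isConstructible_preimage_affine f W V hW hV hWV Z hZ
    have h2 : (Subtype.val : ↥(W : Set X) → X) ⁻¹' (W.ι '' ((W.ι ≫ f) ⁻¹' Z)) =
        (Subtype.val : ↥(W : Set X) → X) ⁻¹' (f ⁻¹' Z) := by
      ext x
      constructor
      · rintro ⟨y, hy, hyx⟩
        have : y = x := Subtype.ext hyx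
        subst this
        have hy' : f (W.ι y) ∈ Z := by
          simpa only [Set.mem_preimage, Scheme.Hom.comp_apply] using hy
        exact hy'
      · intro hx
        have hx' : f (W.ι x) ∈ Z := hx
        exact ⟨x, by simpa only [Set.mem_preimage, Scheme.Hom.comp_apply] using hx', rfl⟩
    rw [h2]
    exact h1

lemma isConstructible_range_image {α β : Type*} [TopologicalSpace α] [TopologicalSpace β]
    (j : β → α) (hj : IsOpenEmbedding j) (Z' : Set β) (h : IsConstructible Z') :
    IsConstructible ((Subtype.val : Set.range j → α) ⁻¹' (j '' Z')) := by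
  let e : β ≃ₜ Set.range j := hj.isEmbedding.toHomeomorph
  have he : (Subtype.val : Set.range j → α) ⁻¹' (j '' Z') = e.symm ⁻¹' Z' := by
    ext y
    constructor
    · rintro ⟨x, hx, hxy⟩
      have : e x = y := Subtype.ext hxy
      rw [← this]
      simpa using hx
    · intro hy
      refine ⟨e.symm y, hy, ?_⟩
      exact congrArg Subtype.val (e.apply_symm_apply y)
  rw [he]
  exact h.preimage_of_isOpenEmbedding e.symm.isOpenEmbedding

/-- pushing a stratification on an open subscheme forward to the ambient scheme -/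
theorem Strat.pushOpen (F : EtCoh.Ab X) (U : X.Opens) (W' : (U : Scheme.{u}).Opens)
    (h : Strat ((EtCoh.pull U.ι).obj F) (W' : Set (U : Scheme.{u}))) :
    Strat F (Set.range (W'.ι ≫ U.ι)) := by
  refine Strat.transfer ((EtCoh.pull U.ι).obj F) F W'.ι (W'.ι ≫ U.ι) (pullCompIso W'.ι U.ι F)
    (W' : Set (U : Scheme.{u})) (by simp) ?_ h
  intro Z hZ
  have hZ' : IsConstructible (W'.ι ⁻¹' Z) := hZ
  exact isConstructible_range_image (W'.ι ≫ U.ι) (W'.ι ≫ U.ι).isOpenEmbedding _ hZ'

/-- a common refinement of two stratifications -/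
theorem Strat.common (F G : EtCoh.Ab X) (S : Set X) (hF : Strat F S) (hG : Strat G S) :
    ∃ (ι : Type) (_ : Finite ι) (T : ι → Scheme.{u}) (g : ∀ i, T i ⟶ X),
      (∀ i, IsImmersion (g i)) ∧
      (∀ i, IsConstructible ((Subtype.val : S → X) ⁻¹' Set.range (g i))) ∧
      Pairwise (fun i j => Disjoint (Set.range (g i)) (Set.range (g j))) ∧
      (⋃ i, Set.range (g i)) = S ∧
      ∀ i, FLC ((EtCoh.pull (g i)).obj F) ∧ FLC ((EtCoh.pull (g i)).obj G) := by
  obtain ⟨ι, _, T, g, h1, h2, h3, h4, h5⟩ := hF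
  obtain ⟨ι', _, T', g', h1', h2', h3', h4', h5'⟩ := hG
  have hr : ∀ (p : ι × ι'), Set.range (pullback.fst (g p.1) (g' p.2) ≫ g p.1) =
      Set.range (g' p.2) ∩ Set.range (g p.1) := by
    intro p
    rw [range_comp', Scheme.Pullback.range_fst, Set.image_preimage_eq_inter_range]
  refine ⟨ι × ι', inferInstance, fun p => Limits.pullback (g p.1) (g' p.2),
    fun p => pullback.fst (g p.1) (g' p.2) ≫ g p.1, fun p => inferInstance, ?_, ?_, ?_, ?_⟩
  · intro p
    rw [hr, Set.preimage_inter]
    exact (h2' p.2).inter (h2 p.1)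
  · intro p p' hne
    rw [hr, hr]
    by_cases h : p.1 = p'.1
    · have h' : p.2 ≠ p'.2 := fun h'' => hne (Prod.ext h h'')
      exact (h3' h').mono Set.inter_subset_left Set.inter_subset_left
    · exact (h3 h).mono Set.inter_subset_right Set.inter_subset_right
  · apply Set.Subset.antisymm
    · refine Set.iUnion_subset (fun p => ?_)
      rw [hr, ← h4]
      exact fun x hx => Set.mem_iUnion.mpr ⟨p.1, hx.2⟩
    · intro x hx
      have hx1 := hx
      rw [← h4] at hx1
      rw [← h4'] at hx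
      obtain ⟨i, hi⟩ := Set.mem_iUnion.mp hx1
      obtain ⟨j, hj⟩ := Set.mem_iUnion.mp hx
      refine Set.mem_iUnion.mpr ⟨(i, j), ?_⟩
      change x ∈ Set.range (pullback.fst (g i) (g' j) ≫ g i)
      rw [hr (i, j)]
      exact ⟨hj, hi⟩
  · intro p
    refine ⟨FLC.of_iso (pullCompIso (pullback.fst (g p.1) (g' p.2)) (g p.1) F).symm
      (FLC.pull _ (h5 p.1)), ?_⟩
    have i1 := (EtCore.pullCongr (pullback.condition (f := g p.1) (g := g' p.2))).app G
    have i2 := pullCompIso (pullback.snd (g p.1) (g' p.2)) (g' p.2) G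
    exact FLC.of_iso (i1 ≪≫ i2).symm (FLC.pull _ (h5' p.2))

end Groth.Agent.Lib.Helper8EtConstr
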