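import Mathlib
import Groth.Prelude.Def_PBC
import Groth.Agent.Lib.Helper8EtFLCCrit

/-!
# Kernels and cokernels of maps of finite locally constant étale sheaves (helper8)
-/

set_option autoImplicit false
open CategoryTheory CategoryTheory.Limits AlgebraicGeometry Opposite GrothendieckTopology
universe u

namespace Groth.Agent.Lib.Helper8EtFLCKer

open Groth.Agent.Lib.Helper16.EtStalk Groth.Agent.Lib.Helper16.SmallEtale
  Groth.Agent.Lib.Helper16.StalkPull Groth.Agent.Lib.Helper8EtFLCCrit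

variable {X : Scheme.{u}}

set_option backward.isDefEq.respectTransparency.types false in
/-- a finite family of sections with equal germs agree on a common étale neighbourhood -/
lemma exists_common_nbhd {B : EtCoh.Ab X} {Ω : Type u} [Field Ω] [IsSepClosed Ω]
    (ξ : Spec (CommRingCat.of Ω) ⟶ X) (W₀ : X.Etale)
    (w₀ : (Scheme.pointSmallEtale ξ).fiber.obj W₀) {M : Type} [Finite M]
    (s s' : M → B.obj.obj (op W₀))
    (h : ∀ m, germ ξ B W₀ w₀ (s m) = germ ξ B W₀ w₀ (s' m)) :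
    ∃ (W : X.Etale) (g : W ⟶ W₀) (w : (Scheme.pointSmallEtale ξ).fiber.obj W),
      (Scheme.pointSmallEtale ξ).fiber.map g w = w₀ ∧
        ∀ m, B.obj.map g.op (s m) = B.obj.map g.op (s' m) := by
  classical
  haveI := Fintype.ofFinite M
  let Φ := Scheme.pointSmallEtale ξ
  suffices H : ∀ S : Finset M, ∃ (W : X.Etale) (g : W ⟶ W₀) (w : Φ.fiber.obj W),
      Φ.fiber.map g w = w₀ ∧ ∀ m ∈ S, B.obj.map g.op (s m) = B.obj.map g.op (s' m) by
    obtain ⟨W, g, w, hw, hS⟩ := H Finset.univ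
    exact ⟨W, g, w, hw, fun m => hS m (Finset.mem_univ m)⟩
  intro S
  induction S using Finset.induction_on with
  | empty =>
    refine ⟨W₀, 𝟙 W₀, w₀, ?_, fun m hm => absurd hm (Finset.notMem_empty m)⟩
    rw [CategoryTheory.Functor.map_id]
    rfl
  | insert m₀ S _ ih =>
    obtain ⟨W, g, w, hw, hS⟩ := ih
    have e1 : Φ.toPresheafFiber W w B.obj (B.obj.map g.op (s m₀)) =
        Φ.toPresheafFiber W w B.obj (B.obj.map g.op (s' m₀)) := by
      rw [Φ.toPresheafFiber_w_apply, Φ.toPresheafFiber_w_apply, hw]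
      exact h m₀
    obtain ⟨W', g', w', hw', hg'⟩ := (Φ.toPresheafFiber_eq_iff' W w _ _).mp e1
    refine ⟨W', g' ≫ g, w', ?_, ?_⟩
    · rw [Functor.map_comp]
      change Φ.fiber.map g (Φ.fiber.map g' w') = w₀
      rw [hw', hw]
    · intro m hm
      rw [op_comp, Functor.map_comp, ConcreteCategory.comp_apply, ConcreteCategory.comp_apply]
      rcases Finset.mem_insert.mp hm with rfl | hm
      · exact hg'
      · rw [hS m hm]

set_option backward.isDefEq.respectTransparency.types false in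
/-- a map between finite locally constant sheaves is, étale locally, given by a homomorphism of
the value groups -/
theorem exists_local_hom {A B : EtCoh.Ab X} (α : A ⟶ B) (hA : FLC A) (hB : FLC B) (x : X) :
    ∃ (W : X.Etale) (w : W.left), W.hom.base w = x ∧
      ∃ (MA : Type) (_ : AddCommGroup MA) (_ : Finite MA) (MB : Type) (_ : AddCommGroup MB)
        (_ : Finite MB) (φA : MA →+ A.obj.obj (op W)) (φB : MB →+ B.obj.obj (op W))
        (a : MA →+ MB), GermBij A W MA φA ∧ GermBij B W MB φB ∧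
          ∀ m, α.hom.app (op W) (φA m) = φB (a m) := by
  classical
  obtain ⟨ιA, UA, hUA, hA⟩ := hA
  obtain ⟨ιB, UB, hUB, hB⟩ := hB
  obtain ⟨i, y, hy⟩ := hUA x
  obtain ⟨j, y', hy'⟩ := hUB x
  obtain ⟨MA, _, _, φA, hφA⟩ := hA i
  obtain ⟨MB, _, _, φB, hφB⟩ := hB j
  obtain ⟨Ω, _, _, ξ, tA, htA⟩ := exists_geometric_point (UA i) y
  have hξ : ξ (default : Spec (CommRingCat.of Ω)) = x := by
    rw [← hy, ← htA]
    obtain ⟨tl, htl, hw⟩ : ∃ tl : Spec (CommRingCat.of Ω) ⟶ (UA i).left,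
        tl = tA.left ∧ tl ≫ (UA i).hom = ξ := ⟨tA.left, rfl, Over.w tA⟩
    rw [← htl, ← hw, Scheme.Hom.comp_apply]
    rfl
  obtain ⟨tB, -⟩ := Scheme.pointSmallEtaleFiberObjToPreimage_surjective ξ (hξ.trans hy'.symm)
    (UB j) ⟨y', rfl⟩
  let Φ := Scheme.pointSmallEtale ξ
  obtain ⟨W₀, w₀, gA, gB⟩ : ∃ (W₀ : X.Etale) (_ : Φ.fiber.obj W₀) (_ : W₀ ⟶ UA i),
      Nonempty (W₀ ⟶ UB j) := by
    let eA : Φ.fiber.Elements := ⟨UA i, tA⟩
    let eB : Φ.fiber.Elements := ⟨UB j, tB⟩
    let e₀ : Φ.fiber.Elements := IsCofiltered.min eA eB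
    let gA : e₀ ⟶ eA := IsCofiltered.minToLeft eA eB
    let gB : e₀ ⟶ eB := IsCofiltered.minToRight eA eB
    exact ⟨e₀.1, e₀.2, gA.1, ⟨gB.1⟩⟩
  obtain ⟨gB⟩ := gB
  have hφA₀ := hφA.restrict gA
  have hφB₀ := hφB.restrict gB
  obtain ⟨φA₀, hφA₀e⟩ : ∃ φ, φ = (A.obj.map gA.op).hom.comp φA := ⟨_, rfl⟩
  obtain ⟨φB₀, hφB₀e⟩ : ∃ φ, φ = (B.obj.map gB.op).hom.comp φB := ⟨_, rfl⟩
  rw [← hφA₀e] at hφA₀
  rw [← hφB₀e] at hφB₀
  -- the function `a`
  have hex : ∀ m : MA, ∃ n : MB, germ ξ B W₀ w₀ (φB₀ n) =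
      germ ξ B W₀ w₀ (α.hom.app (op W₀) (φA₀ m)) := fun m => (hφB₀ Ω ξ w₀).2 _
  choose a ha using hex
  have hinj := (hφB₀ Ω ξ w₀).1
  have hadd : ∀ m m', a (m + m') = a m + a m' := by
    intro m m'
    apply hinj
    change germ ξ B W₀ w₀ (φB₀ (a (m + m'))) = germ ξ B W₀ w₀ (φB₀ (a m + a m'))
    simp only [map_add, ha]
  obtain ⟨W, g, w, hw, hW⟩ := exists_common_nbhd (B := B) ξ W₀ w₀
    (fun m : MA => α.hom.app (op W₀) (φA₀ m)) (fun m => φB₀ (a m)) (fun m => (ha m).symm)
  refine ⟨W, (w.left : Spec (CommRingCat.of Ω) ⟶ W.left) (default : Spec (CommRingCat.of Ω)),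
    ?_, MA, inferInstance, inferInstance, MB, inferInstance, inferInstance,
    (A.obj.map g.op).hom.comp φA₀, (B.obj.map g.op).hom.comp φB₀, AddMonoidHom.mk' a hadd,
    hφA₀.restrict g, hφB₀.restrict g, ?_⟩
  · rw [← hξ]
    obtain ⟨tl, htl, hw'⟩ : ∃ tl : Spec (CommRingCat.of Ω) ⟶ W.left,
        tl = w.left ∧ tl ≫ W.hom = ξ := ⟨w.left, rfl, Over.w w⟩
    rw [← htl, ← hw', Scheme.Hom.comp_apply]
    rfl
  · intro m
    have n1 := NatTrans.naturality_apply α.hom g.op (φA₀ m)
    exact n1.trans (hW m)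

section Step2

variable {A B : EtCoh.Ab X} (α : A ⟶ B) (W : X.Etale) {MA MB : Type} [AddCommGroup MA]
  [AddCommGroup MB] (φA : MA →+ A.obj.obj (op W)) (φB : MB →+ B.obj.obj (op W)) (a : MA →+ MB)

/-- `a` lifted to `ULift` -/
noncomputable def aL : AddCommGrpCat.of (ULift.{u + 1} MA) ⟶ AddCommGrpCat.of (ULift.{u + 1} MB) :=
  AddCommGrpCat.ofHom (((AddEquiv.ulift : ULift.{u + 1} MB ≃+ MB).symm.toAddMonoidHom).comp
    (a.comp (AddEquiv.ulift : ULift.{u + 1} MA ≃+ MA).toAddMonoidHom))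

/-- restriction to the over-site, as a functor -/
noncomputable abbrev R : EtCoh.Ab X ⥤ Sheaf (X.smallEtaleTopology.over W) AddCommGrpCat.{u + 1} :=
  X.smallEtaleTopology.overPullback AddCommGrpCat.{u + 1} W

/-- the constant sheaf functor on the over-site -/
noncomputable abbrev K : AddCommGrpCat.{u + 1} ⥤
    Sheaf (X.smallEtaleTopology.over W) AddCommGrpCat.{u + 1} :=
  constantSheaf (X.smallEtaleTopology.over W) AddCommGrpCat.{u + 1}

set_option backward.isDefEq.respectTransparency.types false in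
lemma comm_sq (hcomm : ∀ m, α.hom.app (op W) (φA m) = φB (a m)) :
    psi (liftHom φA) ≫ (R W).map α = (K W).map (aL.{u} a) ≫ psi (liftHom φB) := by
  apply Sheaf.hom_ext
  refine CategoryTheory.sheafify_hom_ext _ _ _ (EtCoh.restr B W).property ?_
  have h1 : CategoryTheory.toSheafify (X.smallEtaleTopology.over W) _ ≫
      (psi (liftHom φA)).hom = kap (liftHom φA) :=
    CategoryTheory.toSheafify_sheafifyLift _ _ _
  have h2 : CategoryTheory.toSheafify (X.smallEtaleTopology.over W) _ ≫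
      (psi (liftHom φB)).hom = kap (liftHom φB) :=
    CategoryTheory.toSheafify_sheafifyLift _ _ _
  have h3 : CategoryTheory.toSheafify (X.smallEtaleTopology.over W) _ ≫
      ((K W).map (aL.{u} a)).hom = (Functor.const (Over W)ᵒᵖ).map (aL.{u} a) ≫
        CategoryTheory.toSheafify (X.smallEtaleTopology.over W) _ :=
    (CategoryTheory.toSheafify_naturality _ _).symm
  have hL : CategoryTheory.toSheafify (X.smallEtaleTopology.over W) _ ≫
      (psi (liftHom φA) ≫ (R W).map α).hom = kap (liftHom φA) ≫ ((R W).map α).hom :=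
    (Category.assoc _ _ _).symm.trans (congrArg (· ≫ ((R W).map α).hom) h1)
  have hR : CategoryTheory.toSheafify (X.smallEtaleTopology.over W) _ ≫
      ((K W).map (aL.{u} a) ≫ psi (liftHom φB)).hom =
      (Functor.const (Over W)ᵒᵖ).map (aL.{u} a) ≫ kap (liftHom φB) :=
    (Category.assoc _ _ _).symm.trans ((congrArg (· ≫ (psi (liftHom φB)).hom) h3).trans
      ((Category.assoc _ _ _).trans (congrArg ((Functor.const (Over W)ᵒᵖ).map (aL.{u} a) ≫ ·) h2)))
  refine hL.trans (Eq.trans ?_ hR.symm)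
  ext Y m
  obtain ⟨m⟩ := m
  change α.hom.app (op Y.unop.left) (A.obj.map Y.unop.hom.op (φA m)) =
    B.obj.map Y.unop.hom.op (φB (a m))
  rw [← hcomm]
  exact NatTrans.naturality_apply α.hom Y.unop.hom.op (φA m)

noncomputable instance : PreservesLimitsOfSize.{0, 0} (R (X := X) W) :=
  (EtPBC.extZeroAdj W).rightAdjoint_preservesLimits

noncomputable instance : PreservesColimitsOfSize.{0, 0} (R (X := X) W) :=
  ((Over.forget W).sheafAdjunctionCocontinuous AddCommGrpCat.{u + 1}
    (X.smallEtaleTopology.over W) X.smallEtaleTopology).leftAdjoint_preservesColimits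

instance : (R (X := X) W).PreservesZeroMorphisms :=
  haveI : (R (X := X) W).IsRightAdjoint := (EtPBC.extZeroAdj W).isRightAdjoint
  inferInstance

noncomputable instance : PreservesFiniteLimits (K (X := X) W) := by
  unfold K constantSheaf
  infer_instance

noncomputable instance : PreservesColimitsOfSize.{0, 0} (K (X := X) W) :=
  (constantSheafAdj (X.smallEtaleTopology.over W) AddCommGrpCat.{u + 1}
    (Over.mkIdTerminal (X := W))).leftAdjoint_preservesColimits

instance : (K (X := X) W).PreservesZeroMorphisms :=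
  haveI : (K (X := X) W).IsLeftAdjoint := (constantSheafAdj (X.smallEtaleTopology.over W)
    AddCommGrpCat.{u + 1} (Over.mkIdTerminal (X := W))).isLeftAdjoint
  inferInstance

/-- the kernel of `aL a` -/
noncomputable def kerIso : kernel (aL.{u} a) ≅ AddCommGrpCat.of (ULift.{u + 1} a.ker) :=
  AddCommGrpCat.kernelIsoKer (aL.{u} a) ≪≫
    (AddEquiv.toAddCommGrpIso
      { toFun := fun x => ⟨⟨x.1.down, by
          have := x.2
          rw [AddMonoidHom.mem_ker] at this ⊢
          exact congrArg ULift.down this⟩⟩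
        invFun := fun y => ⟨⟨y.down.1⟩, by
          rw [AddMonoidHom.mem_ker]
          exact congrArg ULift.up y.down.2⟩
        left_inv := fun x => rfl
        right_inv := fun y => rfl
        map_add' := fun x y => rfl })

/-- the cokernel of `aL a` -/
noncomputable def cokerIso :
    cokernel (aL.{u} a) ≅ AddCommGrpCat.of (ULift.{u + 1} (MB ⧸ a.range)) :=
  AddCommGrpCat.cokernelIsoQuotient (aL.{u} a) ≪≫
    (AddEquiv.toAddCommGrpIso
      ((QuotientAddGroup.congr (aL.{u} a).hom.range a.range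
        (AddEquiv.ulift : ULift.{u + 1} MB ≃+ MB) (by
          ext y
          constructor
          · rintro ⟨x, ⟨z, rfl⟩, rfl⟩
            exact ⟨z.down, rfl⟩
          · rintro ⟨z, rfl⟩
            exact ⟨⟨a z⟩, ⟨⟨z⟩, rfl⟩, rfl⟩)).trans
        (AddEquiv.ulift : ULift.{u + 1} (MB ⧸ a.range) ≃+ (MB ⧸ a.range)).symm))

variable {α W φA φB a}

set_option backward.isDefEq.respectTransparency.types false in
theorem kernel_iso (hA : GermBij A W MA φA) (hB : GermBij B W MB φB)
    (hcomm : ∀ m, α.hom.app (op W) (φA m) = φB (a m)) :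
    Nonempty (EtCoh.restr (kernel α) W ≅ constOver W a.ker) := by
  haveI := isIso_psi φA hA
  haveI := isIso_psi φB hB
  have sq := comm_sq α W φA φB a hcomm
  let i1 : (R W).obj (kernel α) ≅ kernel ((R W).map α) := PreservesKernel.iso (R W) α
  let i2 : kernel ((R W).map α) ≅ kernel ((K W).map (aL.{u} a)) :=
    kernel.mapIso ((R W).map α) ((K W).map (aL.{u} a)) (asIso (psi (liftHom φA))).symm
      (asIso (psi (liftHom φB))).symm (by
        rw [Iso.symm_hom, Iso.symm_hom, asIso_inv, asIso_inv, IsIso.comp_inv_eq, Category.assoc,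
          IsIso.eq_inv_comp]
        exact sq)
  let i3 : kernel ((K W).map (aL.{u} a)) ≅ (K W).obj (kernel (aL.{u} a)) :=
    (PreservesKernel.iso (K W) (aL.{u} a)).symm
  let i4 : (K W).obj (kernel (aL.{u} a)) ≅ constOver W a.ker := (K W).mapIso (kerIso a)
  exact ⟨i1 ≪≫ i2 ≪≫ i3 ≪≫ i4⟩

set_option backward.isDefEq.respectTransparency.types false in
theorem cokernel_iso (hA : GermBij A W MA φA) (hB : GermBij B W MB φB)
    (hcomm : ∀ m, α.hom.app (op W) (φA m) = φB (a m)) :
    Nonempty (EtCoh.restr (cokernel α) W ≅ constOver W (MB ⧸ a.range)) := by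
  haveI := isIso_psi φA hA
  haveI := isIso_psi φB hB
  have sq := comm_sq α W φA φB a hcomm
  let i1 : (R W).obj (cokernel α) ≅ cokernel ((R W).map α) := PreservesCokernel.iso (R W) α
  let i2 : cokernel ((R W).map α) ≅ cokernel ((K W).map (aL.{u} a)) :=
    cokernel.mapIso ((R W).map α) ((K W).map (aL.{u} a)) (asIso (psi (liftHom φA))).symm
      (asIso (psi (liftHom φB))).symm (by
        rw [Iso.symm_hom, Iso.symm_hom, asIso_inv, asIso_inv, IsIso.comp_inv_eq, Category.assoc,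
          IsIso.eq_inv_comp]
        exact sq)
  let i3 : cokernel ((K W).map (aL.{u} a)) ≅ (K W).obj (cokernel (aL.{u} a)) :=
    (PreservesCokernel.iso (K W) (aL.{u} a)).symm
  let i4 : (K W).obj (cokernel (aL.{u} a)) ≅ constOver W (MB ⧸ a.range) :=
    (K W).mapIso (cokerIso a)
  exact ⟨i1 ≪≫ i2 ≪≫ i3 ≪≫ i4⟩

end Step2

theorem FLC.kernel {A B : EtCoh.Ab X} (α : A ⟶ B) (hA : FLC A) (hB : FLC B) :
    FLC (kernel α) := by
  rw [← flc_iff]
  choose W w hw MA iA fA MB iB fB φA φB a hφA hφB hcomm using exists_local_hom α hA hB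
  refine ⟨X, W, fun x => ⟨x, w x, hw x⟩, fun x => ?_⟩
  exact ⟨(a x).ker, inferInstance, inferInstance, kernel_iso (hφA x) (hφB x) (hcomm x)⟩

theorem FLC.cokernel {A B : EtCoh.Ab X} (α : A ⟶ B) (hA : FLC A) (hB : FLC B) :
    FLC (cokernel α) := by
  rw [← flc_iff]
  choose W w hw MA iA fA MB iB fB φA φB a hφA hφB hcomm using exists_local_hom α hA hB
  refine ⟨X, W, fun x => ⟨x, w x, hw x⟩, fun x => ?_⟩
  exact ⟨MB x ⧸ (a x).range, inferInstance, inferInstance,
    cokernel_iso (hφA x) (hφB x) (hcomm x)⟩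

end Groth.Agent.Lib.Helper8EtFLCKer
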