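import Mathlib
import Groth.Prelude.Def_PBC
import Groth.Agent.Lib.Helper8EtFLCKer

/-!
# Extensions of finite locally constant étale sheaves (helper8)

`FLC.extension`: in a short exact sequence `0 → A → B → C → 0` of abelian étale sheaves with
`A`, `C` finite locally constant, `B` is finite locally constant.
-/

set_option autoImplicit false
open CategoryTheory CategoryTheory.Limits AlgebraicGeometry Opposite GrothendieckTopology
universe u v

namespace Groth.Agent.Lib.Helper8EtFLCExt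

open Groth.Agent.Lib.Helper16.EtStalk Groth.Agent.Lib.Helper16.SmallEtale
  Groth.Agent.Lib.Helper16.StalkPull Groth.Agent.Lib.Helper8EtFLCCrit
  Groth.Agent.Lib.Helper8EtFLCKer

/-- an elementwise five lemma -/
lemma five_bij {MA M MC : Type*} [AddCommGroup MA] [AddCommGroup M] [AddCommGroup MC]
    {A B C : AddCommGrpCat.{v}} (a : MA → M) (c : M → MC) (f : A ⟶ B) (g : B ⟶ C)
    (α : MA →+ A) (β : M →+ B) (γ : MC →+ C) (ha0 : a 0 = 0)
    (h1 : ∀ x, f (α x) = β (a x)) (h2 : ∀ x, g (β x) = γ (c x))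
    (hc : Function.Surjective c) (hac : ∀ m, c m = 0 → ∃ x, a x = m)
    (hf : Function.Injective f) (hfg : ∀ b, g b = 0 → ∃ x, f x = b)
    (hα : Function.Bijective α) (hγ : Function.Bijective γ) : Function.Bijective β := by
  constructor
  · rw [injective_iff_map_eq_zero]
    intro d hd
    have e1 : γ (c d) = 0 := by rw [← h2, hd, map_zero]
    have e2 : c d = 0 := hγ.1 (e1.trans (map_zero γ).symm)
    obtain ⟨x, rfl⟩ := hac d e2
    have e3 : f (α x) = 0 := (h1 x).trans hd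
    have e4 : α x = 0 := hf (e3.trans (map_zero f.hom).symm)
    have e5 : x = 0 := hα.1 (e4.trans (map_zero α).symm)
    rw [e5, ha0]
  · intro b
    obtain ⟨y, hy⟩ := hγ.2 (g b)
    obtain ⟨m, rfl⟩ := hc y
    have e1 : g (b - β m) = 0 := by
      rw [map_sub, h2, hy, sub_self]
    obtain ⟨z, hz⟩ := hfg _ e1
    obtain ⟨x, rfl⟩ := hα.2 z
    refine ⟨m + a x, ?_⟩
    rw [map_add, ← h1, hz]
    abel

variable {X : Scheme.{u}}

set_option backward.isDefEq.respectTransparency.types false in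
/-- a finite family of germs lifts to sections over a common étale neighbourhood -/
lemma exists_common_lift {B : EtCoh.Ab X} {Ω : Type u} [Field Ω] [IsSepClosed Ω]
    (ξ : Spec (CommRingCat.of Ω) ⟶ X) (W₀ : X.Etale)
    (w₀ : (Scheme.pointSmallEtale ξ).fiber.obj W₀) {M : Type} [Finite M]
    (t : M → ToType ((EtCoh.stalk ξ).obj B)) :
    ∃ (W : X.Etale) (g : W ⟶ W₀) (w : (Scheme.pointSmallEtale ξ).fiber.obj W),
      (Scheme.pointSmallEtale ξ).fiber.map g w = w₀ ∧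
        ∃ σ : M → B.obj.obj (op W), ∀ m, germ ξ B W w (σ m) = t m := by
  classical
  haveI := Fintype.ofFinite M
  let Φ := Scheme.pointSmallEtale ξ
  suffices H : ∀ S : Finset M, ∃ (W : X.Etale) (g : W ⟶ W₀) (w : Φ.fiber.obj W),
      Φ.fiber.map g w = w₀ ∧ ∃ σ : M → B.obj.obj (op W), ∀ m ∈ S, germ ξ B W w (σ m) = t m by
    obtain ⟨W, g, w, hw, σ, hσ⟩ := H Finset.univ
    exact ⟨W, g, w, hw, σ, fun m => hσ m (Finset.mem_univ m)⟩
  intro S
  induction S using Finset.induction_on with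
  | empty =>
    refine ⟨W₀, 𝟙 W₀, w₀, ?_, fun _ => 0, fun m hm => absurd hm (Finset.notMem_empty m)⟩
    rw [CategoryTheory.Functor.map_id]
    rfl
  | insert m₀ S _ ih =>
    obtain ⟨W, g, w, hw, σ, hσ⟩ := ih
    obtain ⟨V, v, s, hs⟩ := Φ.toPresheafFiber_jointly_surjective (P := B.obj) (t m₀)
    obtain ⟨W', w', gW, gV, hgW, hgV⟩ : ∃ (W' : X.Etale) (w' : Φ.fiber.obj W') (gW : W' ⟶ W)
        (gV : W' ⟶ V), Φ.fiber.map gW w' = w ∧ Φ.fiber.map gV w' = v := by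
      let eW : Φ.fiber.Elements := ⟨W, w⟩
      let eV : Φ.fiber.Elements := ⟨V, v⟩
      let e₀ : Φ.fiber.Elements := IsCofiltered.min eW eV
      let gW : e₀ ⟶ eW := IsCofiltered.minToLeft eW eV
      let gV : e₀ ⟶ eV := IsCofiltered.minToRight eW eV
      exact ⟨e₀.1, e₀.2, gW.1, gV.1, gW.2, gV.2⟩
    refine ⟨W', gW ≫ g, w', ?_,
      fun m => if m = m₀ then B.obj.map gV.op s else B.obj.map gW.op (σ m), ?_⟩
    · rw [Functor.map_comp]
      change Φ.fiber.map g (Φ.fiber.map gW w') = w₀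
      rw [hgW, hw]
    · intro m hm
      by_cases hmm : m = m₀
      · have e1 : (if m = m₀ then B.obj.map gV.op s else B.obj.map gW.op (σ m)) =
            B.obj.map gV.op s := if_pos hmm
        refine (congrArg (germ ξ B W' w') e1).trans ?_
        refine (Φ.toPresheafFiber_w_apply gV w' B.obj s).trans ?_
        rw [hgV, hmm]
        exact hs
      · have e1 : (if m = m₀ then B.obj.map gV.op s else B.obj.map gW.op (σ m)) =
            B.obj.map gW.op (σ m) := if_neg hmm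
        refine (congrArg (germ ξ B W' w') e1).trans ?_
        refine (Φ.toPresheafFiber_w_apply gW w' B.obj (σ m)).trans ?_
        rw [hgW]
        exact hσ m ((Finset.mem_insert.mp hm).resolve_left hmm)

section GermLemmas

variable {Ω : Type u} [Field Ω] [IsSepClosed Ω] (ξ : Spec (CommRingCat.of Ω) ⟶ X)

set_option backward.isDefEq.respectTransparency.types false in
lemma germ_map (F : EtCoh.Ab X) {U W : X.Etale} (g : W ⟶ U)
    (t : (Scheme.pointSmallEtale ξ).fiber.obj W) (t₀ : (Scheme.pointSmallEtale ξ).fiber.obj U)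
    (h : (Scheme.pointSmallEtale ξ).fiber.map g t = t₀) (z : F.obj.obj (op U)) :
    germ ξ F W t (F.obj.map g.op z) = germ ξ F U t₀ z := by
  subst h
  exact (Scheme.pointSmallEtale ξ).toPresheafFiber_w_apply g t F.obj z

set_option backward.isDefEq.respectTransparency.types false in
lemma germ_nat {F G : EtCoh.Ab X} (α : F ⟶ G) (U : X.Etale)
    (t : (Scheme.pointSmallEtale ξ).fiber.obj U) (z : F.obj.obj (op U)) :
    germ ξ G U t (α.hom.app (op U) z) = (EtCoh.stalk ξ).map α (germ ξ F U t z) :=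
  ((Scheme.pointSmallEtale ξ).toPresheafFiber_naturality_apply α.hom U t z).symm

set_option backward.isDefEq.respectTransparency.types false in
lemma hom_base_fiber (W : X.Etale) (w : (Scheme.pointSmallEtale ξ).fiber.obj W) :
    W.hom.base ((w.left : Spec (CommRingCat.of Ω) ⟶ W.left) (default : Spec (CommRingCat.of Ω))) =
      ξ (default : Spec (CommRingCat.of Ω)) := by
  obtain ⟨tl, htl, hw'⟩ : ∃ tl : Spec (CommRingCat.of Ω) ⟶ W.left,
      tl = w.left ∧ tl ≫ W.hom = ξ := ⟨w.left, rfl, Over.w w⟩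
  rw [← htl, ← hw', Scheme.Hom.comp_apply]
  rfl

end GermLemmas

set_option backward.isDefEq.respectTransparency.types false in
/-- exactness of a short exact sequence on geometric stalks, elementwise -/
lemma stalk_exact (S : ShortComplex (EtCoh.Ab X)) (hS : S.ShortExact)
    {Ω : Type u} [Field Ω] [IsSepClosed Ω] (ξ : Spec (CommRingCat.of Ω) ⟶ X) :
    Function.Injective ((EtCoh.stalk ξ).map S.f) ∧
      Function.Surjective ((EtCoh.stalk ξ).map S.g) ∧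
      ∀ b, (EtCoh.stalk ξ).map S.g b = 0 → ∃ a, (EtCoh.stalk ξ).map S.f a = b := by
  have hst := hS.map_of_exact (EtCoh.stalk ξ)
  exact ⟨(AddCommGrpCat.mono_iff_injective _).mp hst.mono_f,
    (AddCommGrpCat.epi_iff_surjective _).mp hst.epi_g,
    fun y hy => (ShortComplex.ab_exact_iff _).mp hst.exact y hy⟩

set_option backward.isDefEq.respectTransparency.types false in
set_option maxHeartbeats 1600000 in
/-- the middle term of a short exact sequence with finite locally constant outer terms has,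
étale locally, a chart with bijective germs -/
theorem exists_local_chart (S : ShortComplex (EtCoh.Ab X)) (hS : S.ShortExact)
    (hA : FLC S.X₁) (hC : FLC S.X₃) (x : X) :
    ∃ (W : X.Etale) (w : W.left), W.hom.base w = x ∧
      ∃ (M : Type) (_ : AddCommGroup M) (_ : Finite M) (φ : M →+ S.X₂.obj.obj (op W)),
        GermBij S.X₂ W M φ := by
  classical
  obtain ⟨W₀, w₀, hw₀, MA, _, _, MC, _, _, φA, φC, -, hφA, hφC, -⟩ :=
    exists_local_hom (0 : S.X₁ ⟶ S.X₃) hA hC x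
  obtain ⟨Ω, _, _, ξ, t₀, ht₀⟩ := exists_geometric_point W₀ w₀
  obtain ⟨hfinj, hgsurj, hfg⟩ := stalk_exact S hS ξ
  have hα₀ := hφA Ω ξ t₀
  have hγ₀ := hφC Ω ξ t₀
  have hγ₀s : ∀ z, ∃ mC, germ ξ S.X₃ W₀ t₀ (φC mC) = z := hγ₀.2
  have hα₀s : ∀ z, ∃ mA, germ ξ S.X₁ W₀ t₀ (φA mA) = z := hα₀.2
  -- finiteness of the stalk
  choose τ hτ using fun mC : MC => hgsurj (germ ξ S.X₃ W₀ t₀ (φC mC))
  have hsurj : Function.Surjective (fun p : MA × MC =>
      (EtCoh.stalk ξ).map S.f (germ ξ S.X₁ W₀ t₀ (φA p.1)) + τ p.2) := by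
    intro b
    obtain ⟨mC, hmC⟩ := hγ₀s ((EtCoh.stalk ξ).map S.g b)
    have e1 : (EtCoh.stalk ξ).map S.g (b - τ mC) = 0 := by
      rw [map_sub, hτ, hmC, sub_self]
    obtain ⟨z, hz⟩ := hfg _ e1
    obtain ⟨mA, hmA⟩ := hα₀s z
    refine ⟨(mA, mC), ?_⟩
    change (EtCoh.stalk ξ).map S.f (germ ξ S.X₁ W₀ t₀ (φA mA)) + τ mC = b
    rw [hmA, hz]
    abel
  haveI : Finite ((EtCoh.stalk ξ).obj S.X₂ : Type (u + 1)) := Finite.of_surjective _ hsurj
  obtain ⟨M, _, _, ⟨e⟩⟩ : ∃ (M : Type) (_ : AddCommGroup M) (_ : Finite M),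
      Nonempty (M ≃+ ((EtCoh.stalk ξ).obj S.X₂ : Type (u + 1))) := by
    haveI : Small.{0} ((EtCoh.stalk ξ).obj S.X₂ : Type (u + 1)) := inferInstance
    exact ⟨Shrink.{0} ((EtCoh.stalk ξ).obj S.X₂ : Type (u + 1)), inferInstance,
      Finite.of_equiv _ (equivShrink _), ⟨Shrink.addEquiv⟩⟩
  obtain ⟨W₁, g₁, w₁, hw₁, σ, hσ⟩ := exists_common_lift (B := S.X₂) ξ W₀ t₀ (fun m : M => e m)
  have hσ' : ∀ m, germ ξ S.X₂ W₁ w₁ (σ m) = e m := hσ
  -- the maps `a` and `c`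
  obtain ⟨a, ha⟩ : ∃ a : MA → M, ∀ mA, e (a mA) =
      (EtCoh.stalk ξ).map S.f (germ ξ S.X₁ W₀ t₀ (φA mA)) :=
    ⟨fun mA => e.symm _, fun mA => e.apply_symm_apply _⟩
  choose c hc using fun m : M => hγ₀s ((EtCoh.stalk ξ).map S.g (e m))
  have ha0 : a 0 = 0 := by
    apply e.injective
    rw [ha, map_zero, map_zero, map_zero, map_zero]
  have hcsurj : Function.Surjective c := by
    intro mC
    obtain ⟨b, hb⟩ := hgsurj (germ ξ S.X₃ W₀ t₀ (φC mC))
    obtain ⟨m, rfl⟩ := e.surjective b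
    exact ⟨m, hγ₀.1 ((hc m).trans hb)⟩
  have hac : ∀ m, c m = 0 → ∃ mA, a mA = m := by
    intro m hm
    have e1 : (EtCoh.stalk ξ).map S.g (e m) = 0 := by
      rw [← hc m, hm, map_zero, map_zero]
    obtain ⟨z, hz⟩ := hfg _ e1
    obtain ⟨mA, hmA⟩ := hα₀s z
    refine ⟨mA, e.injective ?_⟩
    rw [ha, hmA, hz]
  -- relations in `B`
  have hR12g : ∀ i : (M × M) ⊕ MA,
      germ ξ S.X₂ W₁ w₁ (Sum.elim (fun p : M × M => σ (p.1 + p.2)) (fun mA : MA => σ (a mA)) i) =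
      germ ξ S.X₂ W₁ w₁ (Sum.elim (fun p : M × M => σ p.1 + σ p.2)
        (fun mA : MA => S.f.hom.app (op W₁) (S.X₁.obj.map g₁.op (φA mA))) i) := by
    rintro (⟨m, m'⟩ | mA)
    · change germ ξ S.X₂ W₁ w₁ (σ (m + m')) = germ ξ S.X₂ W₁ w₁ (σ m + σ m')
      rw [map_add, hσ', hσ', hσ', map_add]
    · change germ ξ S.X₂ W₁ w₁ (σ (a mA)) =
        germ ξ S.X₂ W₁ w₁ (S.f.hom.app (op W₁) (S.X₁.obj.map g₁.op (φA mA)))
      rw [hσ', ha, germ_nat, germ_map ξ S.X₁ g₁ w₁ t₀ hw₁]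
  obtain ⟨W₂, g₂, w₂, hw₂, hR12⟩ := exists_common_nbhd (B := S.X₂) ξ W₁ w₁ _ _ hR12g
  -- relations in `C`
  have hR3g : ∀ m : M, germ ξ S.X₃ W₂ w₂ (S.X₃.obj.map g₂.op (S.g.hom.app (op W₁) (σ m))) =
      germ ξ S.X₃ W₂ w₂ (S.X₃.obj.map g₂.op (S.X₃.obj.map g₁.op (φC (c m)))) := by
    intro m
    rw [germ_map ξ S.X₃ g₂ w₂ w₁ hw₂, germ_map ξ S.X₃ g₂ w₂ w₁ hw₂,
      germ_map ξ S.X₃ g₁ w₁ t₀ hw₁, germ_nat, hσ', hc]
  obtain ⟨W₃, g₃, w₃, hw₃, hR3⟩ := exists_common_nbhd (B := S.X₃) ξ W₂ w₂ _ _ hR3g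
  have hR1 : ∀ m m' : M, S.X₂.obj.map g₂.op (σ (m + m')) = S.X₂.obj.map g₂.op (σ m + σ m') :=
    fun m m' => hR12 (Sum.inl (m, m'))
  have hR2 : ∀ mA : MA, S.X₂.obj.map g₂.op (σ (a mA)) =
      S.X₂.obj.map g₂.op (S.f.hom.app (op W₁) (S.X₁.obj.map g₁.op (φA mA))) :=
    fun mA => hR12 (Sum.inr mA)
  have hadd : ∀ m m' : M, S.X₂.obj.map g₃.op (S.X₂.obj.map g₂.op (σ (m + m'))) =
      S.X₂.obj.map g₃.op (S.X₂.obj.map g₂.op (σ m)) +
        S.X₂.obj.map g₃.op (S.X₂.obj.map g₂.op (σ m')) := by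
    intro m m'
    rw [hR1, map_add, map_add]
  refine ⟨W₃, (w₃.left : Spec (CommRingCat.of Ω) ⟶ W₃.left) (default : Spec (CommRingCat.of Ω)),
    ?_, M, inferInstance, inferInstance,
    AddMonoidHom.mk' (fun m => S.X₂.obj.map g₃.op (S.X₂.obj.map g₂.op (σ m))) hadd, ?_⟩
  · rw [hom_base_fiber ξ W₃ w₃, ← hom_base_fiber ξ W₀ t₀, ht₀, hw₀]
  · intro Ω' _ _ ξ' t'
    obtain ⟨hfinj', hgsurj', hfg'⟩ := stalk_exact S hS ξ'
    obtain ⟨t₂', ht₂'⟩ : ∃ t₂', (Scheme.pointSmallEtale ξ').fiber.map g₃ t' = t₂' := ⟨_, rfl⟩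
    obtain ⟨t₁', ht₁'⟩ : ∃ t₁', (Scheme.pointSmallEtale ξ').fiber.map g₂ t₂' = t₁' := ⟨_, rfl⟩
    obtain ⟨t₀', ht₀'⟩ : ∃ t₀', (Scheme.pointSmallEtale ξ').fiber.map g₁ t₁' = t₀' := ⟨_, rfl⟩
    refine five_bij a c ((EtCoh.stalk ξ').map S.f) ((EtCoh.stalk ξ').map S.g)
      ((germ ξ' S.X₁ W₀ t₀').hom.comp φA)
      ((germ ξ' S.X₂ W₃ t').hom.comp
        (AddMonoidHom.mk' (fun m => S.X₂.obj.map g₃.op (S.X₂.obj.map g₂.op (σ m))) hadd))
      ((germ ξ' S.X₃ W₀ t₀').hom.comp φC) ha0 ?_ ?_ hcsurj hac hfinj' hfg'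
      (hφA Ω' ξ' t₀') (hφC Ω' ξ' t₀')
    · intro mA
      change (EtCoh.stalk ξ').map S.f (germ ξ' S.X₁ W₀ t₀' (φA mA)) =
        germ ξ' S.X₂ W₃ t' (S.X₂.obj.map g₃.op (S.X₂.obj.map g₂.op (σ (a mA))))
      rw [hR2, germ_map ξ' S.X₂ g₃ t' t₂' ht₂', germ_map ξ' S.X₂ g₂ t₂' t₁' ht₁', germ_nat,
        germ_map ξ' S.X₁ g₁ t₁' t₀' ht₀']
    · intro m
      change (EtCoh.stalk ξ').map S.g
          (germ ξ' S.X₂ W₃ t' (S.X₂.obj.map g₃.op (S.X₂.obj.map g₂.op (σ m)))) =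
        germ ξ' S.X₃ W₀ t₀' (φC (c m))
      rw [germ_map ξ' S.X₂ g₃ t' t₂' ht₂', germ_map ξ' S.X₂ g₂ t₂' t₁' ht₁', ← germ_nat,
        ← germ_map ξ' S.X₃ g₂ t₂' t₁' ht₁', ← germ_map ξ' S.X₃ g₃ t' t₂' ht₂', hR3,
        germ_map ξ' S.X₃ g₃ t' t₂' ht₂', germ_map ξ' S.X₃ g₂ t₂' t₁' ht₁',
        germ_map ξ' S.X₃ g₁ t₁' t₀' ht₀']

/-- an extension of finite locally constant sheaves is finite locally constant -/
theorem FLC.extension (S : ShortComplex (EtCoh.Ab X)) (hS : S.ShortExact)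
    (hA : FLC S.X₁) (hC : FLC S.X₃) : FLC S.X₂ := by
  choose W w hw M iM fM φ hφ using exists_local_chart S hS hA hC
  exact ⟨X, W, fun x => ⟨x, w x, hw x⟩, fun x => ⟨M x, iM x, fM x, φ x, hφ x⟩⟩

end Groth.Agent.Lib.Helper8EtFLCExt
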