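import Mathlib
import Groth.Prelude.Def_PBC
import Groth.Agent.Lib.Helper8EtConstr
import Groth.Agent.Lib.Helper5Cons
import Groth.Agent.Lib.Helper10Spectral

/-!
# Constructibility from a covering by constructible locally closed pieces (helper8)
-/

set_option autoImplicit false
open CategoryTheory CategoryTheory.Limits AlgebraicGeometry Opposite Topology
universe u

namespace Groth.Agent.Lib.Helper8EtConstrCover

open Groth.Agent.Lib.Helper8EtFLCCrit Groth.Agent.Lib.Helper8EtConstr

section Top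

variable {α : Type*} [TopologicalSpace α] [CompactSpace α] [QuasiSeparatedSpace α] [QuasiSober α]
  [PrespectralSpace α]

/-- constructible subsets of a spectral space are quasi-compact -/
lemma isCompact_of_isConstructible {s : Set α} (hs : IsConstructible s) : IsCompact s := by
  apply Groth.Agent.Lib.Helper10.Spectral.isCompact_of_isClosed_constr
  rw [← @isOpen_compl_iff _ _ (constructibleTopology α)]
  exact (Groth.Agent.Lib.Helper5.isOpen_constructibleTopology_and_compl hs).2

/-- finite subcovers of coverings by constructible sets -/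
lemma exists_finite_subcover {ι : Type*} (Z : ι → Set α) (hZ : ∀ i, IsConstructible (Z i))
    (hcov : (⋃ i, Z i) = Set.univ) : ∃ t : Finset ι, (⋃ i ∈ t, Z i) = Set.univ := by
  classical
  rcases isEmpty_or_nonempty ι with hι | hι
  · refine ⟨∅, ?_⟩
    rw [← hcov]
    simp
  obtain ⟨𝒟', h𝒟', 𝒞', h𝒞', -, hf𝒞, hsub⟩ :=
    Groth.Agent.Lib.Helper5.exists_finite_sInter_subset_sUnion (X := α) ∅ (Set.range Z)
      (fun s hs => absurd hs (Set.notMem_empty s)) (by rintro _ ⟨i, rfl⟩; exact hZ i)
      (by rw [Set.sInter_empty, Set.sUnion_range, hcov])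
  have h𝒟'e : 𝒟' = ∅ := Set.subset_empty_iff.mp h𝒟'
  rw [h𝒟'e, Set.sInter_empty] at hsub
  have hch : ∀ s ∈ 𝒞', ∃ i, Z i = s := fun s hs => h𝒞' hs
  choose! idx hidx using hch
  refine ⟨hf𝒞.toFinset.image idx, Set.eq_univ_of_univ_subset ?_⟩
  intro x hx
  obtain ⟨s, hs, hxs⟩ := Set.mem_sUnion.mp (hsub hx)
  refine Set.mem_iUnion₂.mpr ⟨idx s, ?_, ?_⟩
  · exact Finset.mem_image.mpr ⟨s, hf𝒞.mem_toFinset.mpr hs, rfl⟩
  · rw [hidx s hs]
    exact hxs

/-- the image of a constructible set under an embedding with constructible range -/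
lemma isConstructible_image_of_isEmbedding {β : Type*} [TopologicalSpace β] {f : β → α}
    (hf : IsEmbedding f) (hr : IsConstructible (Set.range f)) {s : Set β}
    (hs : IsConstructible s) : IsConstructible (f '' s) := by
  haveI : CompactSpace β := by
    rw [← isCompact_univ_iff, hf.isCompact_iff, Set.image_univ]
    exact isCompact_of_isConstructible hr
  induction hs using IsConstructible.empty_union_induction with
  | open_retrocompact U hUopen hUcomp =>
    obtain ⟨O, hO, rfl⟩ := hf.isOpen_iff.mp hUopen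
    have hK : IsCompact (f '' (f ⁻¹' O)) := hUcomp.isCompact.image hf.continuous
    obtain ⟨W, hWc, hWo, hKW, hWO⟩ :=
      PrespectralSpace.exists_isCompact_and_isOpen_between hK hO (Set.image_preimage_subset f O)
    have e : f '' (f ⁻¹' O) = Set.range f ∩ W := by
      apply Set.Subset.antisymm
      · exact Set.subset_inter (Set.image_subset_range _ _) hKW
      · rintro _ ⟨⟨t, rfl⟩, hW⟩
        exact ⟨t, hWO hW, rfl⟩
    rw [e]
    exact hr.inter (hWc.isConstructible hWo)
  | union s hs t ht hs' ht' =>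
    rw [Set.image_union]
    exact hs'.union ht'
  | compl s hs hs' =>
    rw [← Set.range_sdiff_image hf.injective]
    exact hr.sdiff hs'

/-- a locally closed constructible set is the difference of two compact opens -/
lemma exists_compact_opens_of_isLocallyClosed {E : Set α} (hE : IsConstructible E)
    (hlc : IsLocallyClosed E) :
    ∃ O V : Set α, IsOpen O ∧ IsCompact O ∧ IsOpen V ∧ IsCompact V ∧ E = O \ V := by
  obtain ⟨O₀, C₀, hO₀, hC₀, rfl⟩ := hlc
  obtain ⟨O, hOc, hOo, hEO, hOO₀⟩ := PrespectralSpace.exists_isCompact_and_isOpen_between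
    (isCompact_of_isConstructible hE) hO₀ Set.inter_subset_left
  have hV : IsConstructible (O \ (O₀ ∩ C₀)) := (hOc.isConstructible hOo).sdiff hE
  have hVo : IsOpen (O \ (O₀ ∩ C₀)) := by
    have : O \ (O₀ ∩ C₀) = O ∩ C₀ᶜ := by
      ext x
      constructor
      · rintro ⟨hx, hx'⟩
        exact ⟨hx, fun hc => hx' ⟨hOO₀ hx, hc⟩⟩
      · rintro ⟨hx, hx'⟩
        exact ⟨hx, fun hc => hx' hc.2⟩
    rw [this]
    exact hOo.inter hC₀.isOpen_compl
  refine ⟨O, O \ (O₀ ∩ C₀), hOo, hOc, hVo, isCompact_of_isConstructible hV, ?_⟩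
  rw [Set.sdiff_sdiff_right_self]
  exact (Set.inter_eq_right.mpr hEO).symm

end Top

variable {X : Scheme.{u}}

/-- stratifications with strata constructible in the ambient scheme -/
def GStrat (F : EtCoh.Ab X) (S : Set X) : Prop :=
  ∃ (ι : Type) (_ : Finite ι) (T : ι → Scheme.{u}) (g : ∀ i, T i ⟶ X),
    (∀ i, IsImmersion (g i)) ∧ (∀ i, IsConstructible (Set.range (g i))) ∧
    Pairwise (fun i j => Disjoint (Set.range (g i)) (Set.range (g j))) ∧
    (⋃ i, Set.range (g i)) = S ∧ ∀ i, FLC ((EtCoh.pull (g i)).obj F)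

lemma GStrat.empty (F : EtCoh.Ab X) : GStrat F (∅ : Set X) :=
  ⟨Empty, inferInstance, fun i => i.elim, fun i => i.elim, fun i => i.elim, fun i => i.elim,
    fun i => i.elim, by simp, fun i => i.elim⟩

lemma GStrat.single (F : EtCoh.Ab X) {T : Scheme.{u}} (g : T ⟶ X) [IsImmersion g]
    (hc : IsConstructible (Set.range g)) (hF : FLC ((EtCoh.pull g).obj F)) :
    GStrat F (Set.range g) :=
  ⟨Unit, inferInstance, fun _ => T, fun _ => g, fun _ => inferInstance, fun _ => hc,
    fun i j hij => absurd (Subsingleton.elim i j) hij, Set.iUnion_const _, fun _ => hF⟩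

lemma GStrat.union {F : EtCoh.Ab X} {S₁ S₂ : Set X} (h₁ : GStrat F S₁) (h₂ : GStrat F S₂)
    (hd : Disjoint S₁ S₂) : GStrat F (S₁ ∪ S₂) := by
  obtain ⟨ι₁, _, T₁, g₁, a1, a2, a3, a4, a5⟩ := h₁
  obtain ⟨ι₂, _, T₂, g₂, b1, b2, b3, b4, b5⟩ := h₂
  have hsub₁ : ∀ i, Set.range (g₁ i) ⊆ S₁ := fun i => by
    rw [← a4]
    exact Set.subset_iUnion (fun i => Set.range (g₁ i)) i
  have hsub₂ : ∀ i, Set.range (g₂ i) ⊆ S₂ := fun i => by
    rw [← b4]
    exact Set.subset_iUnion (fun i => Set.range (g₂ i)) i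
  refine ⟨ι₁ ⊕ ι₂, inferInstance, Sum.elim T₁ T₂, fun i => Sum.rec g₁ g₂ i, ?_, ?_, ?_, ?_, ?_⟩
  · rintro (i | i)
    · exact a1 i
    · exact b1 i
  · rintro (i | i)
    · exact a2 i
    · exact b2 i
  · rintro (i | i) (j | j) hij
    · exact a3 (fun h => hij (congrArg Sum.inl h))
    · exact hd.mono (hsub₁ i) (hsub₂ j)
    · exact hd.symm.mono (hsub₂ i) (hsub₁ j)
    · exact b3 (fun h => hij (congrArg Sum.inr h))
  · rw [Set.iUnion_sum, ← a4, ← b4]
    rfl
  · rintro (i | i)
    · exact a5 i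
    · exact b5 i

/-- an immersion with range the intersection of an open and a closed subset -/
lemma exists_immersion_range (O : X.Opens) (C : TopologicalSpace.Closeds X) :
    ∃ (W : Scheme.{u}) (j : W ⟶ X), IsImmersion j ∧ Set.range j = (O : Set X) ∩ (C : Set X) := by
  refine ⟨_, pullback.fst (Scheme.IdealSheafData.vanishingIdeal C).subschemeι O.ι ≫
    (Scheme.IdealSheafData.vanishingIdeal C).subschemeι, inferInstance, ?_⟩
  rw [range_comp', Scheme.Pullback.range_fst, Set.image_preimage_eq_inter_range,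
    Scheme.IdealSheafData.range_subschemeι, Scheme.IdealSheafData.coe_support_vanishingIdeal]
  simp

/-- restricting a stratum to the range of an immersion -/
lemma exists_restrict (F : EtCoh.Ab X) {S : Scheme.{u}} (h : S ⟶ X) [IsImmersion h]
    (hF : FLC ((EtCoh.pull h).obj F)) {W : Scheme.{u}} (j : W ⟶ X) [IsImmersion j] :
    ∃ (S' : Scheme.{u}) (h' : S' ⟶ X), IsImmersion h' ∧
      Set.range h' = Set.range j ∩ Set.range h ∧ FLC ((EtCoh.pull h').obj F) := by
  refine ⟨_, pullback.fst h j ≫ h, inferInstance, ?_, ?_⟩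
  · rw [range_comp', Scheme.Pullback.range_fst, Set.image_preimage_eq_inter_range]
  · exact FLC.of_iso (pullCompIso (pullback.fst h j) h F).symm (FLC.pull _ hF)

/-- refining a finite covering by constructible locally closed strata to a stratification -/
theorem gstrat_of_cover [CompactSpace X] [QuasiSeparatedSpace X] (F : EtCoh.Ab X) {A : Type*}
    (T : A → Scheme.{u}) (h : ∀ a, T a ⟶ X) [∀ a, IsImmersion (h a)]
    (hc : ∀ a, IsConstructible (Set.range (h a)))
    (hF : ∀ a, FLC ((EtCoh.pull (h a)).obj F)) (s : Finset A) :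
    ∀ (O V : Set X), IsOpen O → IsCompact O → IsOpen V → IsCompact V →
      O \ V ⊆ ⋃ a ∈ s, Set.range (h a) → GStrat F (O \ V) := by
  classical
  induction s using Finset.induction_on with
  | empty =>
    intro O V _ _ _ _ hsub
    have : O \ V = ∅ := by
      apply Set.subset_empty_iff.mp
      intro x hx
      simpa using hsub hx
    rw [this]
    exact GStrat.empty F
  | insert a s ha ih =>
    intro O V hOo hOc hVo hVc hsub
    obtain ⟨Oa, Va, hOao, hOac, hVao, hVac, hE⟩ :=
      exists_compact_opens_of_isLocallyClosed (hc a) (h a).isLocallyClosed_range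
    -- piece 1
    obtain ⟨W, j, hj, hjr⟩ := exists_immersion_range (X := X) ⟨O, hOo⟩ ⟨Vᶜ, hVo.isClosed_compl⟩
    obtain ⟨S', h', hh', hr', hF'⟩ := exists_restrict F (h a) (hF a) j
    have hr'' : Set.range h' = (O \ V) ∩ Set.range (h a) := by
      rw [hr', hjr]
      rfl
    have hcO : IsConstructible O := hOc.isConstructible hOo
    have hcV : IsConstructible V := hVc.isConstructible hVo
    have p1 : GStrat F ((O \ V) ∩ Set.range (h a)) := by
      rw [← hr'']
      refine GStrat.single F h' ?_ hF'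
      rw [hr'']
      exact (hcO.sdiff hcV).inter (hc a)
    -- piece 2
    have p2 : GStrat F (O \ (V ∪ Oa)) := by
      refine ih O (V ∪ Oa) hOo hOc (hVo.union hOao) (hVc.union hOac) ?_
      intro x hx
      have hx' : x ∈ O \ V := ⟨hx.1, fun hv => hx.2 (Or.inl hv)⟩
      obtain ⟨b, hb, hxb⟩ := Set.mem_iUnion₂.mp (hsub hx')
      rcases Finset.mem_insert.mp hb with rfl | hb
      · rw [hE] at hxb
        exact absurd (Or.inr hxb.1) hx.2
      · exact Set.mem_iUnion₂.mpr ⟨b, hb, hxb⟩
    -- piece 3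
    have p3 : GStrat F ((O ∩ (Oa ∩ Va)) \ V) := by
      refine ih (O ∩ (Oa ∩ Va)) V (hOo.inter (hOao.inter hVao)) ?_ hVo hVc ?_
      · exact QuasiSeparatedSpace.inter_isCompact _ _ hOo hOc (hOao.inter hVao)
          (QuasiSeparatedSpace.inter_isCompact _ _ hOao hOac hVao hVac)
      · intro x hx
        have hx' : x ∈ O \ V := ⟨hx.1.1, hx.2⟩
        obtain ⟨b, hb, hxb⟩ := Set.mem_iUnion₂.mp (hsub hx')
        rcases Finset.mem_insert.mp hb with rfl | hb
        · rw [hE] at hxb
          exact absurd hx.1.2.2 hxb.2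
        · exact Set.mem_iUnion₂.mpr ⟨b, hb, hxb⟩
    have d12 : Disjoint ((O \ V) ∩ Set.range (h a)) (O \ (V ∪ Oa)) := by
      rw [Set.disjoint_left]
      rintro x ⟨-, hx⟩ hx2
      rw [hE] at hx
      exact hx2.2 (Or.inr hx.1)
    have d123 : Disjoint (((O \ V) ∩ Set.range (h a)) ∪ (O \ (V ∪ Oa)))
        ((O ∩ (Oa ∩ Va)) \ V) := by
      rw [Set.disjoint_left]
      rintro x (⟨-, hx⟩ | hx) hx3
      · rw [hE] at hx
        exact hx.2 hx3.1.2.2
      · exact hx.2 (Or.inr hx3.1.2.1)
    have key := (p1.union p2 d12).union p3 d123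
    have e : ((O \ V) ∩ Set.range (h a)) ∪ (O \ (V ∪ Oa)) ∪ ((O ∩ (Oa ∩ Va)) \ V) = O \ V := by
      ext x
      constructor
      · rintro ((hx | hx) | hx)
        · exact hx.1
        · exact ⟨hx.1, fun hv => hx.2 (Or.inl hv)⟩
        · exact ⟨hx.1.1, hx.2⟩
      · intro hx
        by_cases h1 : x ∈ Oa
        · by_cases h2 : x ∈ Va
          · exact Or.inr ⟨⟨hx.1, h1, h2⟩, hx.2⟩
          · refine Or.inl (Or.inl ⟨hx, ?_⟩)
            rw [hE]
            exact ⟨h1, h2⟩
        · exact Or.inl (Or.inr ⟨hx.1, fun hv => hv.elim hx.2 h1⟩)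
    rw [← e]
    exact key

/-- from a global stratification with strata constructible in `X` to `Strat` -/
theorem GStrat.strat {F : EtCoh.Ab X} (h : GStrat F (Set.univ : Set X)) :
    Strat F (Set.univ : Set X) := by
  obtain ⟨ι, hι, T, g, a1, a2, a3, a4, a5⟩ := h
  refine ⟨ι, hι, T, g, a1, fun i => ?_, a3, a4, a5⟩
  exact (a2 i).preimage_of_isOpenEmbedding isOpen_univ.isOpenEmbedding_subtypeVal

/-- a global stratification of a constructible sheaf on a qcqs scheme -/
theorem strat_univ_of_isConstructible {T : Scheme.{u}} [CompactSpace T] [QuasiSeparatedSpace T]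
    (G : EtCoh.Ab T) (hG : EtPBC.IsConstructible G) : Strat G (Set.univ : Set T) := by
  haveI : QuasiSeparatedSpace ↥((⊤ : T.Opens) : Set T) :=
    QuasiSeparatedSpace.of_isOpenEmbedding (⊤ : T.Opens).isOpen.isOpenEmbedding_subtypeVal
  have h := strat_of_isConstructible G hG ⊤ (by
    rw [TopologicalSpace.Opens.coe_top]
    exact isCompact_univ)
  rwa [TopologicalSpace.Opens.coe_top] at h

/-- **Constructibility from a covering by constructible locally closed pieces.** -/
theorem isConstructible_of_cover (X : Scheme.{u}) [CompactSpace X] [QuasiSeparatedSpace X]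
    (F : EtCoh.Ab X) {ι : Type u} (T : ι → Scheme.{u}) (g : ∀ i, T i ⟶ X)
    [∀ i, IsImmersion (g i)] (hc : ∀ i, IsConstructible (Set.range (g i)))
    (hcov : (⋃ i, Set.range (g i)) = Set.univ)
    (h : ∀ i, EtPBC.IsConstructible ((EtCoh.pull (g i)).obj F)) :
    EtPBC.IsConstructible F := by
  classical
  have hcomp : ∀ i, CompactSpace (T i) := fun i => by
    rw [← isCompact_univ_iff, (g i).isEmbedding.isCompact_iff, Set.image_univ]
    exact isCompact_of_isConstructible (hc i)
  have hqs : ∀ i, QuasiSeparatedSpace (T i) := fun i =>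
    quasiSeparatedSpace_of_quasiSeparated (g i)
  have hst : ∀ i, Strat ((EtCoh.pull (g i)).obj F) (Set.univ : Set (T i)) := fun i =>
    haveI := hcomp i
    haveI := hqs i
    strat_univ_of_isConstructible _ (h i)
  choose κ hκ S s b1 b2 b3 b4 b5 using hst
  haveI : ∀ (a : Σ i, κ i), IsImmersion (s a.1 a.2 ≫ g a.1) := fun a =>
    haveI := b1 a.1 a.2
    inferInstance
  have hrange : ∀ (a : Σ i, κ i), Set.range (s a.1 a.2 ≫ g a.1) =
      g a.1 '' Set.range (s a.1 a.2) := fun a => range_comp' _ _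
  have hcA : ∀ (a : Σ i, κ i), IsConstructible (Set.range (s a.1 a.2 ≫ g a.1)) := by
    intro a
    rw [hrange]
    haveI := hcomp a.1
    haveI := hqs a.1
    refine isConstructible_image_of_isEmbedding (g a.1).isEmbedding (hc a.1) ?_
    have h1 := (b2 a.1 a.2).image_of_isOpenEmbedding
      (isOpen_univ (X := T a.1)).isOpenEmbedding_subtypeVal (by
        rw [Subtype.range_coe]
        exact IsRetrocompact.univ)
    rwa [Subtype.image_preimage_coe, Set.univ_inter] at h1
  have hFA : ∀ (a : Σ i, κ i), FLC ((EtCoh.pull (s a.1 a.2 ≫ g a.1)).obj F) := fun a =>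
    FLC.of_iso (pullCompIso (s a.1 a.2) (g a.1) F).symm (b5 a.1 a.2)
  have hcovA : (⋃ a : Σ i, κ i, Set.range (s a.1 a.2 ≫ g a.1)) = Set.univ := by
    apply Set.eq_univ_of_univ_subset
    intro x _
    have hx : x ∈ ⋃ i, Set.range (g i) := by
      rw [hcov]
      trivial
    obtain ⟨i, t, rfl⟩ := Set.mem_iUnion.mp hx
    have ht : t ∈ ⋃ l, Set.range (s i l) := by
      rw [b4 i]
      trivial
    obtain ⟨l, hl⟩ := Set.mem_iUnion.mp ht
    refine Set.mem_iUnion.mpr ⟨⟨i, l⟩, ?_⟩
    rw [hrange]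
    exact ⟨t, hl, rfl⟩
  obtain ⟨t, ht⟩ := exists_finite_subcover (fun a : Σ i, κ i => Set.range (s a.1 a.2 ≫ g a.1))
    hcA hcovA
  have key := gstrat_of_cover F (fun a : Σ i, κ i => S a.1 a.2)
    (fun a : Σ i, κ i => s a.1 a.2 ≫ g a.1) hcA hFA t Set.univ ∅ isOpen_univ isCompact_univ
    isOpen_empty isCompact_empty (by
      rw [ht]
      exact Set.subset_univ _)
  rw [Set.sdiff_empty] at key
  have hS := key.strat
  rw [isConstructible_iff]
  intro U _
  exact Strat.restrictOpen F Set.univ U (Set.subset_univ _) hS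

end Groth.Agent.Lib.Helper8EtConstrCover
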