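import Mathlib
import Groth.Prelude.Def_PBC
import Groth.Agent.Lib.Helper8EtConstrCover
import Groth.Agent.S0129

/-!
# Pointwise criterion for constructibility on locally Noetherian schemes (helper8)
-/

set_option autoImplicit false
open CategoryTheory CategoryTheory.Limits AlgebraicGeometry Opposite Topology
universe u

namespace Groth.Agent.Lib.Helper8EtConstrNoeth

open Groth.Agent.Lib.Helper8EtFLCCrit Groth.Agent.Lib.Helper8EtConstr
  Groth.Agent.Lib.Helper8EtConstrCover

variable {X : Scheme.{u}}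

/-- a finite locally constant sheaf is constructible -/
lemma isConstructible_of_flc (G : EtCoh.Ab X) (hG : FLC G) : EtPBC.IsConstructible G := by
  rw [isConstructible_iff]
  intro U _
  have hr : Set.range U.ι = (U : Set X) := by simp
  refine ⟨Unit, inferInstance, fun _ => U, fun _ => U.ι, fun _ => inferInstance, fun _ => ?_,
    fun i j hij => absurd (Subsingleton.elim i j) hij, ?_, fun _ => FLC.pull U.ι hG⟩
  · rw [hr]
    have : (Subtype.val : ↥(U : Set X) → X) ⁻¹' (U : Set X) = Set.univ := by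
      ext ⟨x, hx⟩
      simpa using hx
    rw [this]
    exact IsConstructible.univ
  · rw [Set.iUnion_const, hr]

/-- in a Noetherian space locally closed subsets are constructible -/
lemma isConstructible_of_isLocallyClosed {α : Type*} [TopologicalSpace α]
    [TopologicalSpace.NoetherianSpace α] {s : Set α} (hs : IsLocallyClosed s) :
    IsConstructible s := by
  obtain ⟨O, C, hO, hC, rfl⟩ := hs
  have hopen : ∀ O' : Set α, IsOpen O' → IsConstructible O' := fun O' hO' =>
    IsRetrocompact.isConstructible hO'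
      (fun K _ _ => TopologicalSpace.NoetherianSpace.isCompact _)
  exact (hopen O hO).inter (hopen Cᶜ hC.isOpen_compl).of_compl

/-- the forward direction of the pointwise criterion (no Noetherian hypothesis needed) -/
theorem exists_of_isConstructible (F : EtCoh.Ab X) (hF : EtPBC.IsConstructible F) (x : X) :
    ∃ (V : X.Opens) (T : Scheme.{u}) (g : T ⟶ X), IsImmersion g ∧ x ∈ V ∧
      Set.range g = (V : Set X) ∩ closure {x} ∧ FLC ((EtCoh.pull g).obj F) := by
  obtain ⟨U, hU, hxU⟩ : ∃ U : X.Opens, IsAffineOpen U ∧ x ∈ U := by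
    obtain ⟨_, ⟨U, hU, rfl⟩, hxU, -⟩ :=
      (X.isBasis_affineOpens).exists_subset_of_mem_open (Set.mem_univ x) isOpen_univ
    exact ⟨U, hU, hxU⟩
  rw [isConstructible_iff] at hF
  obtain ⟨ι, _, T, g, h1, -, -, h4, h5⟩ := hF U hU
  have hx : x ∈ ⋃ i, Set.range (g i) := by
    rw [h4]
    exact hxU
  obtain ⟨i, hi⟩ := Set.mem_iUnion.mp hx
  haveI := h1 i
  obtain ⟨O, C, hO, hC, hOC⟩ := (g i).isLocallyClosed_range
  have hxOC : x ∈ O ∩ C := hOC ▸ hi
  have hcl : closure {x} ⊆ C := hC.closure_subset_iff.mpr (Set.singleton_subset_iff.mpr hxOC.2)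
  obtain ⟨W, j, hj, hjr⟩ := exists_immersion_range (X := X) ⟨O, hO⟩
    ⟨closure {x}, isClosed_closure⟩
  obtain ⟨S', h', hh', hr', hF'⟩ := exists_restrict F (g i) (h5 i) j
  refine ⟨⟨O, hO⟩, S', h', hh', hxOC.1, ?_, hF'⟩
  rw [hr', hjr]
  apply Set.inter_eq_left.mpr
  rw [hOC]
  exact fun y hy => ⟨hy.1, hcl hy.2⟩

/-- the converse direction of the pointwise criterion on locally Noetherian schemes -/
theorem isConstructible_of_pointwise [IsLocallyNoetherian X] (F : EtCoh.Ab X)
    (h : ∀ x : X, ∃ (V : X.Opens) (T : Scheme.{u}) (g : T ⟶ X), IsImmersion g ∧ x ∈ V ∧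
      Set.range g = (V : Set X) ∩ closure {x} ∧ FLC ((EtCoh.pull g).obj F)) :
    EtPBC.IsConstructible F := by
  choose V T g hg hxV hr hF using h
  refine Groth.Agent.S0129.result F (fun U : X.affineOpens => (U : X.Opens))
    (iSup_affineOpens_eq_top X) (fun U => ?_)
  haveI : IsAffine ((U : X.Opens) : Scheme.{u}) := U.2
  haveI : IsNoetherianRing Γ(X, U.1) := IsLocallyNoetherian.component_noetherian U
  haveI : TopologicalSpace.NoetherianSpace ((U : X.Opens) : Scheme.{u}) :=
    noetherianSpace_of_isAffineOpen U.1 U.2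
  haveI : ∀ x : ((U : X.Opens) : Scheme.{u}),
      IsImmersion (pullback.snd (g (U.1.ι x)) U.1.ι) := fun x =>
    haveI := hg (U.1.ι x)
    inferInstance
  refine isConstructible_of_cover ((U : X.Opens) : Scheme.{u}) ((EtCoh.pull U.1.ι).obj F)
    (fun x : ((U : X.Opens) : Scheme.{u}) => Limits.pullback (g (U.1.ι x)) U.1.ι)
    (fun x => pullback.snd (g (U.1.ι x)) U.1.ι) (fun x => ?_) ?_ (fun x => ?_)
  · exact isConstructible_of_isLocallyClosed
      (pullback.snd (g (U.1.ι x)) U.1.ι).isLocallyClosed_range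
  · apply Set.eq_univ_of_univ_subset
    intro x _
    refine Set.mem_iUnion.mpr ⟨x, ?_⟩
    rw [Scheme.Pullback.range_snd, Set.mem_preimage, hr]
    exact ⟨hxV _, subset_closure rfl⟩
  · apply isConstructible_of_flc
    have a := FLC.pull (pullback.fst (g (U.1.ι x)) U.1.ι) (hF (U.1.ι x))
    have b := pullCompIso (pullback.fst (g (U.1.ι x)) U.1.ι) (g (U.1.ι x)) F
    have c := (EtCore.pullCongr (pullback.condition (f := g (U.1.ι x)) (g := U.1.ι))).app F
    have d := pullCompIso (pullback.snd (g (U.1.ι x)) U.1.ι) U.1.ι F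
    exact FLC.of_iso (b.symm ≪≫ c ≪≫ d) a

end Groth.Agent.Lib.Helper8EtConstrNoeth
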