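import Mathlib
import Groth.Prelude.Def_PBC
import Groth.Agent.Lib.Helper8EtFLCExt
import Groth.Agent.S0102

/-!
# A subsheaf of a finite locally constant sheaf is generically finite locally constant (helper8)
-/

set_option autoImplicit false
open CategoryTheory CategoryTheory.Limits AlgebraicGeometry Opposite Topology
universe u

namespace Groth.Agent.Lib.Helper8EtSubFLC

open Groth.Agent.Lib.Helper16.EtStalk Groth.Agent.Lib.Helper16.SmallEtale
  Groth.Agent.Lib.Helper16.StalkPull Groth.Agent.Lib.Helper8EtFLCCrit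
  Groth.Agent.Lib.Helper8EtFLCKer Groth.Agent.Lib.Helper8EtFLCExt

/-- in a Noetherian quasi-sober space every point is a specialization of a point having an open
neighbourhood consisting of specializations -/
lemma exists_generic_nbhd {α : Type*} [TopologicalSpace α] [TopologicalSpace.NoetherianSpace α]
    [QuasiSober α] (p₀ : α) :
    ∃ p : α, p ⤳ p₀ ∧ ∃ o : Set α, IsOpen o ∧ p ∈ o ∧ ∀ v ∈ o, p ⤳ v := by
  have hZ := irreducibleComponent_mem_irreducibleComponents p₀
  have hirr : IsIrreducible (irreducibleComponent p₀) := isIrreducible_irreducibleComponent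
  have hcl : IsClosed (irreducibleComponent p₀) := isClosed_irreducibleComponent
  have hgen := hirr.isGenericPoint_genericPoint hcl
  obtain ⟨o, ho, ⟨y, hy⟩, hoZ⟩ :=
    TopologicalSpace.NoetherianSpace.exists_isOpen_nonempty_subset_irreducibleComponent _ hZ
  refine ⟨hirr.genericPoint, hgen.specializes mem_irreducibleComponent, o, ho, ?_,
    fun v hv => hgen.specializes (hoZ hv)⟩
  exact (hgen.specializes (hoZ hy)).mem_open ho hy

/-- scheme version -/
lemma exists_generic_nbhd_scheme (Y : Scheme.{u}) [IsLocallyNoetherian Y] (y₀ : Y) :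
    ∃ y : Y, y ⤳ y₀ ∧ ∃ O : Y.Opens, y ∈ O ∧ ∀ v ∈ O, y ⤳ v := by
  obtain ⟨U, hU, hyU⟩ : ∃ U : Y.Opens, IsAffineOpen U ∧ y₀ ∈ U := by
    obtain ⟨_, ⟨U, hU, rfl⟩, hxU, -⟩ :=
      (Y.isBasis_affineOpens).exists_subset_of_mem_open (Set.mem_univ y₀) isOpen_univ
    exact ⟨U, hU, hxU⟩
  haveI : IsNoetherianRing Γ(Y, U) := IsLocallyNoetherian.component_noetherian ⟨U, hU⟩
  haveI : TopologicalSpace.NoetherianSpace (U : Scheme.{u}) := noetherianSpace_of_isAffineOpen U hU
  obtain ⟨p₀, hp₀⟩ : ∃ p₀ : (U : Scheme.{u}), U.ι p₀ = y₀ := by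
    have : y₀ ∈ Set.range U.ι := by rw [Scheme.Opens.range_ι]; exact hyU
    exact this
  obtain ⟨p, hp, o, ho, hpo, hov⟩ := exists_generic_nbhd p₀
  refine ⟨U.ι p, ?_, ⟨U.ι '' o, U.ι.isOpenEmbedding.isOpenMap o ho⟩, ⟨p, hpo, rfl⟩, ?_⟩
  · rw [← hp₀]
    exact hp.map U.ι.continuous
  · rintro _ ⟨v, hv, rfl⟩
    exact (hov v hv).map U.ι.continuous

variable {T : Scheme.{u}}

/-- a monomorphism of sheaves is injective on sections -/
lemma injective_app_of_mono {G A : EtCoh.Ab T} (ι : G ⟶ A) [Mono ι] (V : T.Etale) :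
    Function.Injective (ι.hom.app (op V)) := by
  let F : EtCoh.Ab T ⥤ AddCommGrpCat.{u + 1} :=
    sheafToPresheaf T.smallEtaleTopology _ ⋙ (evaluation _ _).obj (op V)
  haveI : Mono (F.map ι) := inferInstance
  exact (AddCommGrpCat.mono_iff_injective (F.map ι)).mp inferInstance

/-- the short exact sequence `0 → G → A → A/G → 0` -/
lemma shortExact_cokernel {G A : EtCoh.Ab T} (ι : G ⟶ A) [Mono ι] :
    (ShortComplex.mk ι (cokernel.π ι) (cokernel.condition ι)).ShortExact :=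
  { exact := ShortComplex.exact_cokernel ι }

lemma exact_sections {S : ShortComplex (EtCoh.Ab T)} (hS : S.ShortExact)
    (V : T.Etale) (e : S.X₂.obj.obj (op V)) (he : S.g.hom.app (op V) e = 0) :
    ∃ b : S.X₁.obj.obj (op V), S.f.hom.app (op V) b = e := by
  let F : EtCoh.Ab T ⥤ AddCommGrpCat.{u + 1} :=
    sheafToPresheaf T.smallEtaleTopology _ ⋙ (evaluation _ _).obj (op V)
  haveI := hS.mono_f
  haveI : F.PreservesZeroMorphisms := ⟨fun _ _ => rfl⟩
  have h : (S.map F).Exact := hS.exact.map_of_mono_of_preservesKernel F inferInstance inferInstance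
  rw [ShortComplex.ab_exact_iff] at h
  exact h e he

lemma zero_sections {S : ShortComplex (EtCoh.Ab T)}
    (V : T.Etale) (b : S.X₁.obj.obj (op V)) : S.g.hom.app (op V) (S.f.hom.app (op V) b) = 0 := by
  have h : (S.f ≫ S.g).hom.app (op V) b = 0 := by rw [S.zero]; rfl
  exact h

set_option backward.isDefEq.respectTransparency.types false in
/-- membership in a subsheaf, in terms of vanishing in the quotient -/
lemma exists_section_iff {G A : EtCoh.Ab T} (ι : G ⟶ A) [Mono ι] {W V : T.Etale} (φ : V ⟶ W)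
    (a : A.obj.obj (op W)) :
    (cokernel ι).obj.map φ.op ((cokernel.π ι).hom.app (op W) a) = 0 ↔
      ∃ s : G.obj.obj (op V), ι.hom.app (op V) s = A.obj.map φ.op a := by
  have nat : (cokernel ι).obj.map φ.op ((cokernel.π ι).hom.app (op W) a) =
      (cokernel.π ι).hom.app (op V) (A.obj.map φ.op a) :=
    (NatTrans.naturality_apply (cokernel.π ι).hom φ.op a).symm
  rw [nat]
  constructor
  · intro h
    exact exact_sections (shortExact_cokernel ι) V _ h
  · rintro ⟨s, hs⟩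
    rw [← hs]
    exact zero_sections (S := ShortComplex.mk ι (cokernel.π ι) (cokernel.condition ι)) V s

set_option backward.isDefEq.respectTransparency.types false in
set_option maxHeartbeats 1600000 in
/-- a subsheaf of a finite locally constant sheaf has a chart near a maximal point -/
theorem exists_chart_of_mono [IsLocallyNoetherian T] (t₀ : T)
    (hmax : ∀ t' : T, t' ⤳ t₀ → t' = t₀) {G A : EtCoh.Ab T} (ι : G ⟶ A) [Mono ι] (hA : FLC A) :
    ∃ (W₃ : T.Etale) (w₃ : W₃.left), W₃.hom.base w₃ = t₀ ∧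
      ∃ (N : Type) (_ : AddCommGroup N) (_ : Finite N) (φN : N →+ G.obj.obj (op W₃)),
        GermBij G W₃ N φN := by
  classical
  obtain ⟨ιA, UA, hUA, hch⟩ := hA
  obtain ⟨i, w₀, hw₀⟩ := hUA t₀
  obtain ⟨M, _, _, φA, hφA⟩ := hch i
  generalize UA i = W at w₀ hw₀ φA hφA
  haveI : Etale W.hom := W.prop
  haveI : IsLocallyNoetherian W.left :=
    @LocallyOfFiniteType.isLocallyNoetherian W.left T W.hom _ _
  obtain ⟨w, hww₀, O, hwO, hOv⟩ := exists_generic_nbhd_scheme W.left w₀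
  have hwt : W.hom.base w = t₀ := hmax _ (by
    rw [← hw₀]
    exact hww₀.map W.hom.continuous)
  choose D hD using fun m : M =>
    Groth.Agent.S0102.result (cokernel ι) W ((cokernel.π ι).hom.app (op W) (φA m))
  let O₃ : W.left.Opens := ⟨(O : Set W.left) ∩ ⋂ m ∈ {m : M | w ∈ D m}, (D m : Set W.left),
    O.isOpen.inter ((Set.toFinite _).isOpen_biInter (fun m _ => (D m).isOpen))⟩
  have hwO₃ : w ∈ O₃ := ⟨hwO, Set.mem_iInter₂.mpr (fun m hm => hm)⟩
  let W₃ : T.Etale := Scheme.Etale.mk (O₃.ι ≫ W.hom)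
  let k : W₃ ⟶ W := MorphismProperty.Over.homMk O₃.ι rfl
  have hk : Set.range k.left = (O₃ : Set W.left) := Scheme.Opens.range_ι O₃
  -- the subgroup
  let N : AddSubgroup M := AddSubgroup.comap ((A.obj.map k.op).hom.comp φA)
    (ι.hom.app (op W₃)).hom.range
  have hex : ∀ n : N, ∃ s : G.obj.obj (op W₃),
      ι.hom.app (op W₃) s = A.obj.map k.op (φA n.1) := fun n => n.2
  choose f hf using hex
  have hinj := injective_app_of_mono ι W₃
  have hadd : ∀ n n' : N, f (n + n') = f n + f n' := by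
    intro n n'
    apply hinj
    rw [map_add, hf, hf, hf, AddSubgroup.coe_add, map_add, map_add]
  have hmem : ∀ m : M, w ∈ D m → m ∈ N := by
    intro m hm
    have hsub : Set.range k.left.base ⊆ (D m : Set W.left) := by
      rw [hk]
      exact fun v hv => Set.mem_iInter₂.mp hv.2 m hm
    exact (exists_section_iff ι k (φA m)).mp ((hD m W₃ k).mpr hsub)
  obtain ⟨w₃, hw₃⟩ : ∃ w₃ : (O₃ : Scheme.{u}), O₃.ι w₃ = w := by
    have : w ∈ Set.range O₃.ι := by rw [Scheme.Opens.range_ι]; exact hwO₃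
    exact this
  refine ⟨W₃, w₃, ?_, N, inferInstance, inferInstance, AddMonoidHom.mk' f hadd, ?_⟩
  · change (O₃.ι ≫ W.hom).base w₃ = t₀
    rw [Scheme.Hom.comp_base, TopCat.coe_comp, Function.comp_apply]
    exact (congrArg W.hom.base hw₃).trans hwt
  · intro Ω _ _ ξ t
    let Φ := Scheme.pointSmallEtale ξ
    obtain ⟨tW, htW⟩ : ∃ tW, Φ.fiber.map k t = tW := ⟨_, rfl⟩
    have hιinj : Function.Injective ((EtCoh.stalk ξ).map ι) :=
      (AddCommGrpCat.mono_iff_injective _).mp inferInstance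
    have key : ∀ n : N, (EtCoh.stalk ξ).map ι (germ ξ G W₃ t (f n)) =
        germ ξ A W tW (φA n.1) := by
      intro n
      rw [← germ_nat, hf, germ_map ξ A k t tW htW]
    constructor
    · intro a b hab
      have h1 : germ ξ G W₃ t (f a) = germ ξ G W₃ t (f b) := hab
      have h2 := congrArg ((EtCoh.stalk ξ).map ι) h1
      rw [key, key] at h2
      exact Subtype.ext ((hφA Ω ξ tW).1 h2)
    · intro γ
      obtain ⟨m, hm⟩ := (hφA Ω ξ tW).2 ((EtCoh.stalk ξ).map ι γ)
      have hm' : germ ξ A W tW (φA m) = (EtCoh.stalk ξ).map ι γ := hm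
      obtain ⟨Y, y, s, hs⟩ := Φ.toPresheafFiber_jointly_surjective (P := G.obj) γ
      obtain ⟨Y', y', gY, g₃, hgY, hg₃⟩ : ∃ (Y' : T.Etale) (y' : Φ.fiber.obj Y') (gY : Y' ⟶ Y)
          (g₃ : Y' ⟶ W₃), Φ.fiber.map gY y' = y ∧ Φ.fiber.map g₃ y' = t := by
        let eY : Φ.fiber.Elements := ⟨Y, y⟩
        let e₃ : Φ.fiber.Elements := ⟨W₃, t⟩
        let e₀ : Φ.fiber.Elements := IsCofiltered.min eY e₃
        let gY : e₀ ⟶ eY := IsCofiltered.minToLeft eY e₃
        let g₃ : e₀ ⟶ e₃ := IsCofiltered.minToRight eY e₃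
        exact ⟨e₀.1, e₀.2, gY.1, g₃.1, gY.2, g₃.2⟩
      have h1 : germ ξ G Y' y' (G.obj.map gY.op s) = γ :=
        (germ_map ξ G gY y' y hgY s).trans hs
      have hg₃k : Φ.fiber.map (g₃ ≫ k) y' = tW := by
        rw [Functor.map_comp]
        change Φ.fiber.map k (Φ.fiber.map g₃ y') = tW
        rw [hg₃, htW]
      have e1 : germ ξ A Y' y' (ι.hom.app (op Y') (G.obj.map gY.op s)) =
          germ ξ A Y' y' (A.obj.map (g₃ ≫ k).op (φA m)) := by
        rw [germ_nat, h1, germ_map ξ A (g₃ ≫ k) y' tW hg₃k, hm']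
      obtain ⟨Y'', g'', y'', hy'', hg''⟩ := (Φ.toPresheafFiber_eq_iff' Y' y' _ _).mp e1
      have hsec : ∃ s'' : G.obj.obj (op Y''), ι.hom.app (op Y'') s'' =
          A.obj.map (g'' ≫ g₃ ≫ k).op (φA m) := by
        refine ⟨G.obj.map g''.op (G.obj.map gY.op s), ?_⟩
        refine (NatTrans.naturality_apply ι.hom g''.op (G.obj.map gY.op s)).trans ?_
        refine hg''.trans ?_
        rw [← ConcreteCategory.comp_apply, ← Functor.map_comp, ← op_comp]
      have hsub := (hD m Y'' (g'' ≫ g₃ ≫ k)).mp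
        ((exists_section_iff ι (g'' ≫ g₃ ≫ k) (φA m)).mpr hsec)
      obtain ⟨v, hv⟩ : ∃ v : W.left, v = (g'' ≫ g₃ ≫ k).left
          ((y''.left : Spec (CommRingCat.of Ω) ⟶ Y''.left) (default : Spec (CommRingCat.of Ω))) := ⟨_, rfl⟩
      have hvD : v ∈ D m := hsub ⟨_, hv.symm⟩
      have hvO : v ∈ O := by
        have : v ∈ Set.range k.left := by
          rw [hv]
          exact ⟨(g'' ≫ g₃).left ((y''.left : Spec (CommRingCat.of Ω) ⟶ Y''.left) (default : Spec (CommRingCat.of Ω))), rfl⟩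
        rw [hk] at this
        exact this.1
      have hwD : w ∈ D m := (hOv v hvO).mem_open (D m).isOpen hvD
      refine ⟨⟨m, hmem m hwD⟩, hιinj ?_⟩
      exact (key ⟨m, hmem m hwD⟩).trans hm'

/-- a subsheaf of a finite locally constant sheaf is finite locally constant near a maximal
point -/
theorem exists_open_flc_of_mono [IsLocallyNoetherian T] (t₀ : T)
    (hmax : ∀ t' : T, t' ⤳ t₀ → t' = t₀) {G A : EtCoh.Ab T} (ι : G ⟶ A) [Mono ι] (hA : FLC A) :
    ∃ V₁ : T.Opens, t₀ ∈ V₁ ∧ FLC ((EtCoh.pull V₁.ι).obj G) := by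
  obtain ⟨W₃, w₃, hw₃, N, _, _, φN, hφN⟩ := exists_chart_of_mono t₀ hmax ι hA
  haveI : Etale W₃.hom := W₃.prop
  obtain ⟨V₁, hV₁⟩ : ∃ V₁ : T.Opens, (V₁ : Set T) = Set.range W₃.hom :=
    ⟨⟨Set.range W₃.hom, W₃.hom.isOpenMap.isOpen_range⟩, rfl⟩
  refine ⟨V₁, ?_, PUnit, fun _ => (EtCoh.bc V₁.ι).obj W₃, ?_,
    fun _ => ⟨N, inferInstance, inferInstance, _, hφN.pull V₁.ι⟩⟩
  · change t₀ ∈ (V₁ : Set T)
    rw [hV₁]
    exact ⟨w₃, hw₃⟩
  · intro v₁
    have hv : V₁.ι v₁ ∈ Set.range W₃.hom := by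
      rw [← hV₁]
      have : V₁.ι v₁ ∈ Set.range V₁.ι := ⟨v₁, rfl⟩
      rwa [Scheme.Opens.range_ι] at this
    obtain ⟨y₃, hy₃⟩ := hv
    obtain ⟨z, hz1, hz2⟩ := Scheme.Pullback.exists_preimage_pullback
      (f := W₃.hom) (g := V₁.ι) y₃ v₁ hy₃
    exact ⟨PUnit.unit, z, hz2⟩

end Groth.Agent.Lib.Helper8EtSubFLC
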