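import Mathlib
import Groth.Prelude.Def_PBC
import Groth.Agent.Lib.Helper8EtConstrCover
import Groth.Agent.Lib.Helper8EtFLCExt
import Groth.Agent.Lib.Helper11KPts

/-!
# The locus where a map of constructible étale sheaves is surjective on stalks (helper8)
-/

set_option autoImplicit false
open CategoryTheory CategoryTheory.Limits AlgebraicGeometry Opposite Topology
universe u

namespace Groth.Agent.Lib.Helper8EtSurjLocus

open Groth.Agent.Lib.Helper16.EtStalk Groth.Agent.Lib.Helper16.SmallEtale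
  Groth.Agent.Lib.Helper16.StalkPull Groth.Agent.Lib.Helper8EtFLCCrit
  Groth.Agent.Lib.Helper8EtFLCKer Groth.Agent.Lib.Helper8EtFLCExt
  Groth.Agent.Lib.Helper8EtConstr Groth.Agent.Lib.Helper8EtConstrCover

/-- a morphism from a reduced scheme factors through an immersion containing its image -/
theorem exists_lift_immersion {T O X : Scheme.{u}} [IsReduced T] (f : T ⟶ X) (i : O ⟶ X)
    [IsImmersion i] (h : Set.range f ⊆ Set.range i) : ∃ l : T ⟶ O, l ≫ i = f := by
  have h1 : Set.range f ⊆ Set.range i.coborderRange.ι := by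
    refine h.trans ?_
    rintro _ ⟨o, rfl⟩
    refine ⟨i.liftCoborder o, ?_⟩
    rw [← Scheme.Hom.comp_apply, i.liftCoborder_ι]
  obtain ⟨f', hf'⟩ : ∃ f' : T ⟶ i.coborderRange, f' ≫ i.coborderRange.ι = f :=
    ⟨IsOpenImmersion.lift i.coborderRange.ι f h1, IsOpenImmersion.lift_fac _ _ _⟩
  have h2 : Set.range f' ⊆ Set.range i.liftCoborder := by
    rintro _ ⟨t, rfl⟩
    obtain ⟨o, ho⟩ := h ⟨t, rfl⟩
    refine ⟨o, ?_⟩
    apply i.coborderRange.ι.isOpenEmbedding.injective
    rw [← Scheme.Hom.comp_apply, ← Scheme.Hom.comp_apply, i.liftCoborder_ι, hf']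
    exact ho
  obtain ⟨l, hl⟩ := Groth.Agent.Lib.Helper11KPts.exists_lift_closedImmersion f' i.liftCoborder h2
  exact ⟨l, by rw [← i.liftCoborder_ι, reassoc_of% hl, hf']⟩

variable {X : Scheme.{u}}

/-- the locus of points over which a map of sheaves is surjective on all geometric stalks -/
def surjLocus {F G : EtCoh.Ab X} (φ : F ⟶ G) : Set X :=
  {x : X | ∀ (Ω : Type u) [Field Ω] [IsSepClosed Ω] (ξ : Spec (CommRingCat.of Ω) ⟶ X),
    Set.range ξ = {x} → Function.Surjective ((EtCoh.stalk ξ).map φ)}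

lemma range_geomPt {Ω : Type u} [Field Ω] (ξ : Spec (CommRingCat.of Ω) ⟶ X) :
    Set.range ξ = {ξ (default : Spec (CommRingCat.of Ω))} :=
  Set.range_unique

set_option backward.isDefEq.respectTransparency.types false in
/-- on a chart, stalkwise surjectivity is surjectivity of the map of value groups -/
lemma surj_iff_of_chart {A B : EtCoh.Ab X} (α : A ⟶ B) (W : X.Etale) {MA MB : Type}
    [AddCommGroup MA] [AddCommGroup MB] (φA : MA →+ A.obj.obj (op W))
    (φB : MB →+ B.obj.obj (op W)) (a : MA →+ MB) (hA : GermBij A W MA φA)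
    (hB : GermBij B W MB φB) (hcomm : ∀ m, α.hom.app (op W) (φA m) = φB (a m))
    {Ω : Type u} [Field Ω] [IsSepClosed Ω] (ξ : Spec (CommRingCat.of Ω) ⟶ X)
    (t : (Scheme.pointSmallEtale ξ).fiber.obj W) :
    Function.Surjective ((EtCoh.stalk ξ).map α) ↔ Function.Surjective a := by
  have key : ∀ m, (EtCoh.stalk ξ).map α (germ ξ A W t (φA m)) = germ ξ B W t (φB (a m)) := by
    intro m
    rw [← germ_nat, hcomm]
  constructor
  · intro hs mB
    obtain ⟨z, hz⟩ := hs (germ ξ B W t (φB mB))
    obtain ⟨m, hm⟩ := (hA Ω ξ t).2 z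
    have hm' : germ ξ A W t (φA m) = z := hm
    refine ⟨m, (hB Ω ξ t).1 ?_⟩
    change germ ξ B W t (φB (a m)) = germ ξ B W t (φB mB)
    rw [← key, hm', hz]
  · intro hs z
    obtain ⟨mB, hmB⟩ := (hB Ω ξ t).2 z
    have hmB' : germ ξ B W t (φB mB) = z := hmB
    obtain ⟨m, rfl⟩ := hs mB
    exact ⟨germ ξ A W t (φA m), (key m).trans hmB'⟩

set_option backward.isDefEq.respectTransparency.types false in
/-- the surjectivity locus of a map of finite locally constant sheaves is locally constant: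
each point has an open neighbourhood contained in the locus or in its complement -/
lemma exists_nbhd {A B : EtCoh.Ab X} (α : A ⟶ B) (hA : FLC A) (hB : FLC B) (x : X) :
    ∃ N : Set X, IsOpen N ∧ x ∈ N ∧ (N ⊆ surjLocus α ∨ N ⊆ (surjLocus α)ᶜ) := by
  obtain ⟨W, w, hw, MA, _, _, MB, _, _, φA, φB, a, hφA, hφB, hcomm⟩ :=
    exists_local_hom α hA hB x
  haveI : Etale W.hom := W.prop
  refine ⟨Set.range W.hom, W.hom.isOpenMap.isOpen_range, ⟨w, hw⟩, ?_⟩
  by_cases hs : Function.Surjective a
  · left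
    rintro _ ⟨y, rfl⟩ Ω _ _ ξ hξ
    have h0 : ξ (default : Spec (CommRingCat.of Ω)) = W.hom y := by
      have := range_geomPt ξ
      rw [hξ] at this
      exact (Set.singleton_eq_singleton_iff.mp this).symm
    obtain ⟨t, -⟩ := Scheme.pointSmallEtaleFiberObjToPreimage_surjective ξ h0 W ⟨y, rfl⟩
    exact (surj_iff_of_chart α W φA φB a hφA hφB hcomm ξ t).mpr hs
  · right
    rintro _ ⟨y, rfl⟩ hmem
    obtain ⟨Ω, _, _, ξ, t, ht⟩ := exists_geometric_point W y
    have h0 : ξ (default : Spec (CommRingCat.of Ω)) = W.hom y := by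
      rw [← hom_base_fiber ξ W t, ht]
    have h1 : Set.range ξ = {W.hom y} := by rw [range_geomPt, h0]
    exact hs ((surj_iff_of_chart α W φA φB a hφA hφB hcomm ξ t).mp (hmem Ω ξ h1))

lemma isClopen_surjLocus {A B : EtCoh.Ab X} (α : A ⟶ B) (hA : FLC A) (hB : FLC B) :
    IsClopen (surjLocus α) := by
  constructor
  · rw [← isOpen_compl_iff, isOpen_iff_forall_mem_open]
    intro x hx
    obtain ⟨N, hN, hxN, h | h⟩ := exists_nbhd α hA hB x
    · exact absurd (h hxN) hx
    · exact ⟨N, h, hN, hxN⟩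
  · rw [isOpen_iff_forall_mem_open]
    intro x hx
    obtain ⟨N, hN, hxN, h | h⟩ := exists_nbhd α hA hB x
    · exact ⟨N, h, hN, hxN⟩
    · exact absurd hx (h hxN)

set_option backward.isDefEq.respectTransparency.types false in
lemma surj_pull_iff {T : Scheme.{u}} (g : T ⟶ X) {F G : EtCoh.Ab X} (φ : F ⟶ G)
    {Ω : Type u} [Field Ω] [IsSepClosed Ω] (ξ' : Spec (CommRingCat.of Ω) ⟶ T) :
    Function.Surjective ((EtCoh.stalk ξ').map ((EtCoh.pull g).map φ)) ↔
      Function.Surjective ((EtCoh.stalk (ξ' ≫ g)).map φ) := by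
  let e := Groth.Agent.S0101.stalkPullIso g ξ'
  have nat : ∀ z, (e.hom.app G) ((EtCoh.stalk (ξ' ≫ g)).map φ z) =
      (EtCoh.stalk ξ').map ((EtCoh.pull g).map φ) (e.hom.app F z) := fun z =>
    ConcreteCategory.congr_hom (e.hom.naturality φ) z
  have bF := bijective_of_iso (e.app F)
  have bG := bijective_of_iso (e.app G)
  constructor
  · intro hs z
    obtain ⟨y, hy⟩ := hs (e.hom.app G z)
    obtain ⟨y', rfl⟩ := bF.2 y
    refine ⟨y', bG.1 ?_⟩
    exact (nat y').trans hy
  · intro hs z
    obtain ⟨z', rfl⟩ := bG.2 z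
    obtain ⟨y, rfl⟩ := hs z'
    exact ⟨e.hom.app F y, (nat y).symm⟩

set_option backward.isDefEq.respectTransparency.types false in
lemma mem_surjLocus_pull_iff {T : Scheme.{u}} (g : T ⟶ X) [IsImmersion g] {F G : EtCoh.Ab X}
    (φ : F ⟶ G) (t : T) :
    t ∈ surjLocus ((EtCoh.pull g).map φ) ↔ g t ∈ surjLocus φ := by
  constructor
  · intro h Ω _ _ ξ hξ
    obtain ⟨ξ', rfl⟩ := exists_lift_immersion ξ g (by
      rw [hξ]
      exact Set.singleton_subset_iff.mpr ⟨t, rfl⟩)
    have h0 : g (ξ' (default : Spec (CommRingCat.of Ω))) = g t := by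
      have := range_geomPt (ξ' ≫ g)
      rw [hξ] at this
      have h1 := (Set.singleton_eq_singleton_iff.mp this).symm
      rwa [Scheme.Hom.comp_apply] at h1
    have h1 : Set.range ξ' = {t} := by
      rw [range_geomPt, g.isEmbedding.injective h0]
    exact (surj_pull_iff g φ ξ').mp (h Ω ξ' h1)
  · intro h Ω _ _ ξ' hξ'
    have h0 : ξ' (default : Spec (CommRingCat.of Ω)) = t := by
      have := range_geomPt ξ'
      rw [hξ'] at this
      exact (Set.singleton_eq_singleton_iff.mp this).symm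
    have h1 : Set.range (ξ' ≫ g) = {g t} := by
      rw [range_geomPt, Scheme.Hom.comp_apply, h0]
    exact (surj_pull_iff g φ ξ').mpr (h Ω (ξ' ≫ g) h1)

/-- **The surjectivity locus of a map of constructible sheaves is constructible.** -/
theorem isConstructible_surjLocus [CompactSpace X] [QuasiSeparatedSpace X] {F G : EtCoh.Ab X}
    (φ : F ⟶ G) (hF : EtPBC.IsConstructible F) (hG : EtPBC.IsConstructible G) :
    IsConstructible (surjLocus φ) := by
  obtain ⟨ι, _, T, g, h1, h2, -, h4, h5⟩ := Strat.common F G Set.univ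
    (strat_univ_of_isConstructible F hF) (strat_univ_of_isConstructible G hG)
  haveI := h1
  have hc : ∀ i, IsConstructible (Set.range (g i)) := by
    intro i
    have k := (h2 i).image_of_isOpenEmbedding
      (isOpen_univ (X := X)).isOpenEmbedding_subtypeVal (by
        rw [Subtype.range_coe]
        exact IsRetrocompact.univ)
    rwa [Subtype.image_preimage_coe, Set.univ_inter] at k
  have hcomp : ∀ i, CompactSpace (T i) := fun i => by
    rw [← isCompact_univ_iff, (g i).isEmbedding.isCompact_iff, Set.image_univ]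
    exact isCompact_of_isConstructible (hc i)
  have hqs : ∀ i, QuasiSeparatedSpace (T i) := fun i =>
    quasiSeparatedSpace_of_quasiSeparated (g i)
  have hE : ∀ i, IsConstructible (g i '' surjLocus ((EtCoh.pull (g i)).map φ)) := by
    intro i
    haveI := hcomp i
    haveI := hqs i
    have hcl := isClopen_surjLocus ((EtCoh.pull (g i)).map φ) (h5 i).1 (h5 i).2
    exact isConstructible_image_of_isEmbedding (g i).isEmbedding (hc i)
      (hcl.1.isCompact.isConstructible hcl.2)
  have e : surjLocus φ = ⋃ i, g i '' surjLocus ((EtCoh.pull (g i)).map φ) := by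
    ext x
    constructor
    · intro hx
      have hx' : x ∈ ⋃ i, Set.range (g i) := by
        rw [h4]
        trivial
      obtain ⟨i, t, rfl⟩ := Set.mem_iUnion.mp hx'
      exact Set.mem_iUnion.mpr ⟨i, t, (mem_surjLocus_pull_iff (g i) φ t).mpr hx, rfl⟩
    · intro hx
      obtain ⟨i, t, ht, rfl⟩ := Set.mem_iUnion.mp hx
      exact (mem_surjLocus_pull_iff (g i) φ t).mp ht
  rw [e]
  exact IsConstructible.iUnion hE

end Groth.Agent.Lib.Helper8EtSurjLocus
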