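import Mathlib
import Groth.Prelude.Def_PBC
import Groth.Agent.Lib.Helper8EtFLCCrit

/-!
# Specialization arrows between geometric points of the small étale site (helper8)

* `sheafFiber_germ`: the cospecialization map attached to a morphism of points, on germs.
* `exists_arrow`: existence of a morphism of points `pt(ξ') ⟶ pt(ξ)` compatible with chosen lifts
  to an étale neighbourhood, as soon as the centre of the lift of `ξ'` generizes that of `ξ`.
-/

set_option autoImplicit false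
open CategoryTheory CategoryTheory.Limits AlgebraicGeometry Opposite GrothendieckTopology
universe u

namespace Groth.Agent.Lib.Helper8EtSpecArrow

open Groth.Agent.Lib.Helper16.EtStalk Groth.Agent.Lib.Helper16.SmallEtale
  Groth.Agent.Lib.Helper16.StalkPull Groth.Agent.Lib.Helper8EtFLCCrit

variable {X : Scheme.{u}} {Ω Ω' : Type u} [Field Ω] [IsSepClosed Ω] [Field Ω'] [IsSepClosed Ω']
  (ξ : Spec (CommRingCat.of Ω) ⟶ X) (ξ' : Spec (CommRingCat.of Ω') ⟶ X)

set_option backward.isDefEq.respectTransparency.types false in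
/-- the cospecialization map on germs -/
lemma sheafFiber_germ (φ : Scheme.pointSmallEtale ξ' ⟶ Scheme.pointSmallEtale ξ) (F : EtCoh.Ab X)
    (U : X.Etale) (s : (Scheme.pointSmallEtale ξ).fiber.obj U) (z : F.obj.obj (op U)) :
    (GrothendieckTopology.Point.Hom.sheafFiber (A := AddCommGrpCat.{u + 1}) φ).app F
        (germ ξ F U s z) = germ ξ' F U (φ.hom.app U s) z := by
  have h : (Scheme.pointSmallEtale ξ).toPresheafFiber U s F.obj ≫
      (GrothendieckTopology.Point.Hom.presheafFiber (A := AddCommGrpCat.{u + 1}) φ).app F.obj =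
      (Scheme.pointSmallEtale ξ').toPresheafFiber U (φ.hom.app U s) F.obj := by
    simp [GrothendieckTopology.Point.Hom.presheafFiber]
  exact congrArg (fun m => m z) h

section Finiteness

open TensorProduct

lemma finite_ringHom_of_etale {B₁ B K : Type u} [CommRing B₁] [CommRing B] [Field K]
    (f : B₁ →+* B) (hf : f.Etale) (ψ₀ : B₁ →+* K) :
    Finite {ψ : B →+* K // ψ.comp f = ψ₀} := by
  algebraize [f, ψ₀]
  haveI : Module.Finite K (K ⊗[B₁] B) := Algebra.FormallyUnramified.finite_of_free K (K ⊗[B₁] B)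
  haveI : Finite (K ⊗[B₁] B →ₐ[K] K) := Finite.algHom K (K ⊗[B₁] B) K
  haveI : Finite (B →ₐ[B₁] K) := .of_equiv _ (Algebra.TensorProduct.liftEquivRight B₁ K B K).symm
  have hc : ∀ (ψ : {ψ : B →+* K // ψ.comp f = ψ₀}) (x : B₁),
      ψ.1 (algebraMap B₁ B x) = algebraMap B₁ K x := by
    intro ψ x
    exact congrArg (fun g : B₁ →+* K => g x) ψ.2
  refine Finite.of_injective (fun ψ : {ψ : B →+* K // ψ.comp f = ψ₀} =>
    ({ toRingHom := ψ.1, commutes' := hc ψ } : B →ₐ[B₁] K)) ?_
  intro ψ ψ' h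
  apply Subtype.ext
  ext x
  exact congrArg (fun g : B →ₐ[B₁] K => g x) h

/-- lifts of a field-valued point along an étale morphism from an affine scheme landing in an
affine open are finite in number -/
lemma finite_lifts {Ω' : Type u} [Field Ω'] {V U : Scheme.{u}} (a : V ⟶ U) [Etale a] [IsAffine V]
    (U₁ : U.Opens) (hU₁ : IsAffineOpen U₁) (ha : Set.range a ⊆ (U₁ : Set U))
    (t : Spec (CommRingCat.of Ω') ⟶ U) :
    Finite {l : Spec (CommRingCat.of Ω') ⟶ V // l ≫ a = t} := by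
  by_cases hne : Nonempty {l : Spec (CommRingCat.of Ω') ⟶ V // l ≫ a = t}
  swap
  · haveI : IsEmpty {l : Spec (CommRingCat.of Ω') ⟶ V // l ≫ a = t} := not_nonempty_iff.mp hne
    infer_instance
  obtain ⟨l₀, hl₀⟩ := hne
  haveI : IsAffine (U₁ : Scheme.{u}) := hU₁
  have hr : Set.range a ⊆ Set.range U₁.ι := by rwa [Scheme.Opens.range_ι]
  obtain ⟨a₁, ha₁⟩ : ∃ a₁ : V ⟶ (U₁ : Scheme.{u}), a₁ ≫ U₁.ι = a :=
    ⟨IsOpenImmersion.lift U₁.ι a hr, IsOpenImmersion.lift_fac _ _ _⟩
  haveI : Etale (a₁ ≫ U₁.ι) := by rw [ha₁]; infer_instance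
  haveI : Etale a₁ := Etale.of_comp a₁ U₁.ι
  have hEt : (a₁.appTop).hom.Etale := (HasRingHomProperty.iff_of_isAffine (P := @Etale)).mp ‹_›
  let γ : Γ(Spec (CommRingCat.of Ω'), ⊤) →+* Ω' := (Scheme.ΓSpecIso (CommRingCat.of Ω')).hom.hom
  have hγ : Function.Injective γ :=
    ((Scheme.ΓSpecIso (CommRingCat.of Ω')).commRingCatIsoToRingEquiv).injective
  haveI := finite_ringHom_of_etale (a₁.appTop).hom hEt (γ.comp (l₀ ≫ a₁).appTop.hom)
  refine Finite.of_injective (fun l : {l : Spec (CommRingCat.of Ω') ⟶ V // l ≫ a = t} =>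
    (⟨γ.comp l.1.appTop.hom, ?_⟩ : {ψ : Γ(V, ⊤) →+* Ω' //
      ψ.comp (a₁.appTop).hom = γ.comp (l₀ ≫ a₁).appTop.hom})) ?_
  · have e : l.1 ≫ a₁ = l₀ ≫ a₁ := by
      rw [← cancel_mono U₁.ι, Category.assoc, Category.assoc, ha₁, l.2, hl₀]
    rw [← e, Scheme.Hom.comp_appTop, CommRingCat.hom_comp, RingHom.comp_assoc]
  · intro l l' h
    apply Subtype.ext
    apply ext_of_isAffine
    have h1 : γ.comp l.1.appTop.hom = γ.comp l'.1.appTop.hom := congrArg Subtype.val h
    ext x
    apply hγ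
    exact congrArg (fun g : Γ(V, ⊤) →+* Ω' => g x) h1

end Finiteness

/-- centre of a lift -/
noncomputable abbrev ctr {U : X.Etale} (s : (Scheme.pointSmallEtale ξ).fiber.obj U) : U.left :=
  (s.left : Spec (CommRingCat.of Ω) ⟶ U.left) (default : Spec (CommRingCat.of Ω))

set_option backward.isDefEq.respectTransparency.types false in
/-- refinement of an étale neighbourhood over `(U, s)` by an affine one landing in `U₁` -/
lemma exists_refine (U : X.Etale) (s : (Scheme.pointSmallEtale ξ).fiber.obj U)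
    (U₁ : U.left.Opens) (hs : ctr ξ s ∈ U₁)
    (o : Over ((Scheme.pointSmallEtale ξ).fiber.elementsMk U s)) :
    ∃ (o' : Over ((Scheme.pointSmallEtale ξ).fiber.elementsMk U s)),
      (IsAffine o'.left.1.left ∧ Set.range o'.hom.1.left ⊆ (U₁ : Set U.left)) ∧
        Nonempty (o' ⟶ o) := by
  obtain ⟨V, r, a, har, rfl⟩ : ∃ (V : X.Etale) (r : (Scheme.pointSmallEtale ξ).fiber.obj V)
      (a : V ⟶ U) (har : (Scheme.pointSmallEtale ξ).fiber.map a r = s),
      o = Over.mk (CategoryOfElements.homMk ((Scheme.pointSmallEtale ξ).fiber.elementsMk V r)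
        ((Scheme.pointSmallEtale ξ).fiber.elementsMk U s) a har) := by
    obtain ⟨⟨V, r⟩, ⟨⟩, ⟨a, har⟩⟩ := o
    exact ⟨V, r, a, har, rfl⟩
  -- the centre of `r` maps to the centre of `s`
  have hc : a.left (ctr ξ r) = ctr ξ s := by
    have h1 : (r.left : Spec (CommRingCat.of Ω) ⟶ V.left) ≫ a.left = s.left :=
      congrArg CommaMorphism.left har
    exact congrArg (fun m : Spec (CommRingCat.of Ω) ⟶ U.left =>
      m (default : Spec (CommRingCat.of Ω))) h1
  have hmem : ctr ξ r ∈ a.left ⁻¹ᵁ U₁ := by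
    change a.left (ctr ξ r) ∈ U₁
    rw [hc]
    exact hs
  obtain ⟨R, j, hj, hcj, hjsub⟩ := Scheme.exists_affine_mem_range_and_range_subset
    (x := ctr ξ r) (U := a.left ⁻¹ᵁ U₁) hmem
  haveI := hj
  -- the lift of `r` to `Spec R`
  have hrange : Set.range (r.left : Spec (CommRingCat.of Ω) ⟶ V.left) ⊆ Set.range j := by
    rintro _ ⟨p, rfl⟩
    obtain ⟨p', hp'⟩ : ∃ p' : Spec (CommRingCat.of Ω), p' = p := ⟨p, rfl⟩
    have hp : p' = (default : Spec (CommRingCat.of Ω)) := Subsingleton.elim _ _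
    rw [← hp', hp]
    exact hcj
  obtain ⟨r'l, hr'l⟩ : ∃ r'l : Spec (CommRingCat.of Ω) ⟶ Spec R, r'l ≫ j = r.left :=
    ⟨IsOpenImmersion.lift j r.left hrange, IsOpenImmersion.lift_fac _ _ _⟩
  let V' : X.Etale := Scheme.Etale.mk (j ≫ V.hom)
  let m : V' ⟶ V := MorphismProperty.Over.homMk j rfl (by simp)
  have hw : r'l ≫ (j ≫ V.hom) = ξ := by
    rw [← Category.assoc, hr'l]
    exact Over.w r
  let r' : (Scheme.pointSmallEtale ξ).fiber.obj V' := Over.homMk r'l hw
  have hmr : (Scheme.pointSmallEtale ξ).fiber.map m r' = r := by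
    apply Over.OverMorphism.ext
    exact hr'l
  have hmar : (Scheme.pointSmallEtale ξ).fiber.map (m ≫ a) r' = s := by
    rw [Functor.map_comp]
    change (Scheme.pointSmallEtale ξ).fiber.map a ((Scheme.pointSmallEtale ξ).fiber.map m r') = s
    rw [hmr, har]
  refine ⟨Over.mk (CategoryOfElements.homMk ((Scheme.pointSmallEtale ξ).fiber.elementsMk V' r')
    ((Scheme.pointSmallEtale ξ).fiber.elementsMk U s) (m ≫ a) hmar), ⟨?_, ?_⟩, ⟨?_⟩⟩
  · change IsAffine (Spec R)
    infer_instance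
  · rintro _ ⟨p, rfl⟩
    have hp : j p ∈ a.left ⁻¹ᵁ U₁ := hjsub ⟨p, rfl⟩
    exact hp
  · refine Over.homMk (CategoryOfElements.homMk _ _ m hmr) ?_
    apply CategoryOfElements.ext
    rfl

set_option backward.isDefEq.respectTransparency.types false in
/-- lifting `t` along `a : V ⟶ U` when the centre of `t` generizes the centre of `s` -/
lemma exists_lift_of_specializes {U V : X.Etale} (a : V ⟶ U)
    (r : (Scheme.pointSmallEtale ξ).fiber.obj V) (s : (Scheme.pointSmallEtale ξ).fiber.obj U)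
    (har : (Scheme.pointSmallEtale ξ).fiber.map a r = s)
    (t : (Scheme.pointSmallEtale ξ').fiber.obj U) (h : ctr ξ' t ⤳ ctr ξ s) :
    ∃ q : (Scheme.pointSmallEtale ξ').fiber.obj V,
      (Scheme.pointSmallEtale ξ').fiber.map a q = t := by
  have hc : a.left (ctr ξ r) = ctr ξ s := by
    have h1 : (r.left : Spec (CommRingCat.of Ω) ⟶ V.left) ≫ a.left = s.left :=
      congrArg CommaMorphism.left har
    exact congrArg (fun m : Spec (CommRingCat.of Ω) ⟶ U.left =>
      m (default : Spec (CommRingCat.of Ω))) h1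
  have hopen : IsOpen (Set.range a.left) := a.left.isOpenMap.isOpen_range
  have hmem : ctr ξ' t ∈ Set.range a.left := h.mem_open hopen ⟨ctr ξ r, hc⟩
  obtain ⟨v, hv⟩ := hmem
  obtain ⟨l, hl, -⟩ := Scheme.exists_fac_of_etale_of_isSepClosed a.left
    (t.left : Spec (CommRingCat.of Ω') ⟶ U.left) v hv
  have hw : l ≫ V.hom = ξ' := by
    have h2 : a.left ≫ U.hom = V.hom := by rw [CategoryTheory.Over.w]
    rw [← h2, ← Category.assoc, hl]
    exact Over.w t
  refine ⟨Over.homMk l hw, ?_⟩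
  apply Over.OverMorphism.ext
  exact hl

set_option backward.isDefEq.respectTransparency.types false in
set_option maxHeartbeats 1600000 in
/-- **Existence of specialization arrows.** -/
theorem exists_arrow (U : X.Etale) (s : (Scheme.pointSmallEtale ξ).fiber.obj U)
    (t : (Scheme.pointSmallEtale ξ').fiber.obj U) (h : ctr ξ' t ⤳ ctr ξ s) :
    ∃ φ : Scheme.pointSmallEtale ξ' ⟶ Scheme.pointSmallEtale ξ, φ.hom.app U s = t := by
  obtain ⟨U₁, hU₁, hsU₁⟩ : ∃ U₁ : U.left.Opens, IsAffineOpen U₁ ∧ ctr ξ s ∈ U₁ := by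
    obtain ⟨_, ⟨U₁, hU₁, rfl⟩, hx, -⟩ :=
      (U.left.isBasis_affineOpens).exists_subset_of_mem_open (Set.mem_univ (ctr ξ s)) isOpen_univ
    exact ⟨U₁, hU₁, hx⟩
  let Φ := Scheme.pointSmallEtale ξ
  let Φ' := Scheme.pointSmallEtale ξ'
  let e₀ : Φ.fiber.Elements := Φ.fiber.elementsMk U s
  let good : ObjectProperty (Over e₀) := fun o =>
    IsAffine o.left.1.left ∧ Set.range o.hom.1.left ⊆ (U₁ : Set U.left)
  have hrefine : ∀ o : Over e₀, ∃ j : good.FullSubcategory, Nonempty (good.ι.obj j ⟶ o) := by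
    intro o
    obtain ⟨o', ho', ⟨f⟩⟩ := exists_refine ξ U s U₁ hsU₁ o
    exact ⟨⟨o', ho'⟩, ⟨f⟩⟩
  haveI : IsCofiltered good.FullSubcategory :=
    IsCofiltered.of_exists_of_isCofiltered_of_fullyFaithful good.ι hrefine
  haveI : good.ι.Initial :=
    Functor.initial_of_exists_of_isCofiltered_of_fullyFaithful good.ι hrefine
  let Fn : good.FullSubcategory ⥤ Φ.fiber.Elements := good.ι ⋙ Over.forget e₀
  haveI : Fn.Initial := inferInstance
  let P : Φ.fiber.Elements ⥤ Type u := CategoryOfElements.π Φ.fiber ⋙ Φ'.fiber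
  -- the constrained lifts
  let P₀ : good.FullSubcategory ⥤ Type u :=
    { obj := fun j => {q : Φ'.fiber.obj j.obj.left.1 // Φ'.fiber.map j.obj.hom.1 q = t}
      map := fun {j j'} f => TypeCat.ofHom (fun q => ⟨Φ'.fiber.map f.hom.left.1 q.1, by
        have hw : f.hom.left ≫ j'.obj.hom = j.obj.hom := Over.w f.hom
        have hw1 : f.hom.left.1 ≫ j'.obj.hom.1 = j.obj.hom.1 := congrArg Subtype.val hw
        obtain ⟨q1, hq1⟩ := q
        change Φ'.fiber.map j'.obj.hom.1 (Φ'.fiber.map f.hom.left.1 q1) = t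
        rw [← hq1, ← hw1, Functor.map_comp]
        rfl⟩)
      map_id := fun j => by
        ext q
        change Φ'.fiber.map (𝟙 _) q.1 = q.1
        rw [CategoryTheory.Functor.map_id]
        rfl
      map_comp := fun {j j' j''} f g => by
        ext q
        change Φ'.fiber.map (f.hom.left.1 ≫ g.hom.left.1) q.1 =
          Φ'.fiber.map g.hom.left.1 (Φ'.fiber.map f.hom.left.1 q.1)
        rw [Functor.map_comp]
        rfl }
  haveI hne : ∀ j, Nonempty (P₀.obj j) := by
    intro j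
    obtain ⟨q, hq⟩ := exists_lift_of_specializes ξ ξ' j.obj.hom.1 j.obj.left.2 s j.obj.hom.2 t h
    exact ⟨⟨q, hq⟩⟩
  haveI hfin : ∀ j, Finite (P₀.obj j) := by
    intro j
    haveI : IsAffine j.obj.left.1.left := j.property.1
    haveI := finite_lifts (Ω' := Ω') j.obj.hom.1.left U₁ hU₁ j.property.2
      (t.left : Spec (CommRingCat.of Ω') ⟶ U.left)
    refine Finite.of_injective (fun q : P₀.obj j =>
      (⟨q.1.left, congrArg CommaMorphism.left q.2⟩ :
        {l : Spec (CommRingCat.of Ω') ⟶ j.obj.left.1.left // l ≫ j.obj.hom.1.left = t.left})) ?_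
    intro q q' hqq
    apply Subtype.ext
    apply Over.OverMorphism.ext
    exact congrArg Subtype.val hqq
  obtain ⟨y, hy⟩ := nonempty_sections_of_finite_cofiltered_system P₀
  -- the induced section of `P` over the good neighbourhoods
  let z : (Fn ⋙ P).sections := ⟨fun j => (y j).1, fun {j j'} f => congrArg Subtype.val (hy f)⟩
  obtain ⟨x, hx⟩ := (Functor.bijective_sectionsPrecomp Fn P).2 z
  have hxz : ∀ j, x.1 (Fn.obj j) = (y j).1 := fun j =>
    congrArg (fun w : (Fn ⋙ P).sections => w.1 j) hx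
  -- the natural transformation
  let τ : Φ.fiber ⟶ Φ'.fiber :=
    { app := fun V => TypeCat.ofHom (fun r => x.1 (Φ.fiber.elementsMk V r))
      naturality := fun {V V'} m => by
        ext r
        have := x.2 (CategoryOfElements.homMk (Φ.fiber.elementsMk V r)
          (Φ.fiber.elementsMk V' (Φ.fiber.map m r)) m rfl)
        exact this.symm }
  refine ⟨⟨τ⟩, ?_⟩
  obtain ⟨j₀, -⟩ := hrefine (Over.mk (𝟙 e₀))
  have h1 := x.2 j₀.obj.hom
  have h2 : x.1 (Fn.obj j₀) = (y j₀).1 := hxz j₀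
  change x.1 e₀ = t
  rw [← h1]
  change Φ'.fiber.map j₀.obj.hom.1 (x.1 (Fn.obj j₀)) = t
  rw [h2]
  exact (y j₀).2

end Groth.Agent.Lib.Helper8EtSpecArrow
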