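import Mathlib
import Groth.Prelude.Def_PBC
import Groth.Agent.Lib.Helper8EtSpecArrow
import Groth.Agent.Lib.Helper8EtSubFLC
import Groth.Agent.Lib.Helper8EtConstrNoeth
import Groth.Agent.Lib.Helper8EtConstrCover

/-!
# Cospecialization maps and constructibility / local constancy (helper8)
-/

set_option autoImplicit false
open CategoryTheory CategoryTheory.Limits AlgebraicGeometry Opposite GrothendieckTopology Topology
universe u

namespace Groth.Agent.Lib.Helper8EtCospec

open Groth.Agent.Lib.Helper16.EtStalk Groth.Agent.Lib.Helper16.SmallEtale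
  Groth.Agent.Lib.Helper16.StalkPull Groth.Agent.Lib.Helper8EtFLCCrit
  Groth.Agent.Lib.Helper8EtFLCKer Groth.Agent.Lib.Helper8EtFLCExt
  Groth.Agent.Lib.Helper8EtSpecArrow

variable {X : Scheme.{u}}

set_option backward.isDefEq.respectTransparency.types false in
/-- a chart at a geometric point with finite stalk: a finite group `M` and a homomorphism to the
sections over an étale neighbourhood inducing a bijection onto the stalk -/
theorem exists_chart_of_finite_stalk (F : EtCoh.Ab X) {Ω : Type u} [Field Ω] [IsSepClosed Ω]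
    (ξ : Spec (CommRingCat.of Ω) ⟶ X) (W₀ : X.Etale)
    (w₀ : (Scheme.pointSmallEtale ξ).fiber.obj W₀)
    (hfin : Finite ((EtCoh.stalk ξ).obj F : Type (u + 1))) :
    ∃ (M : Type) (_ : AddCommGroup M) (_ : Finite M) (W : X.Etale) (g : W ⟶ W₀)
      (w : (Scheme.pointSmallEtale ξ).fiber.obj W) (φ : M →+ F.obj.obj (op W)),
      (Scheme.pointSmallEtale ξ).fiber.map g w = w₀ ∧
        Function.Bijective (fun m : M => germ ξ F W w (φ m)) := by
  classical
  obtain ⟨M, _, _, ⟨e⟩⟩ : ∃ (M : Type) (_ : AddCommGroup M) (_ : Finite M),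
      Nonempty (M ≃+ ((EtCoh.stalk ξ).obj F : Type (u + 1))) := by
    haveI : Small.{0} ((EtCoh.stalk ξ).obj F : Type (u + 1)) := inferInstance
    exact ⟨Shrink.{0} ((EtCoh.stalk ξ).obj F : Type (u + 1)), inferInstance,
      Finite.of_equiv _ (equivShrink _), ⟨Shrink.addEquiv⟩⟩
  obtain ⟨W₁, g₁, w₁, hw₁, σ, hσ⟩ := exists_common_lift (B := F) ξ W₀ w₀ (fun m : M => e m)
  have hσ' : ∀ m, germ ξ F W₁ w₁ (σ m) = e m := hσ
  have hRg : ∀ p : M × M, germ ξ F W₁ w₁ (σ (p.1 + p.2)) = germ ξ F W₁ w₁ (σ p.1 + σ p.2) := by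
    rintro ⟨m, m'⟩
    change germ ξ F W₁ w₁ (σ (m + m')) = germ ξ F W₁ w₁ (σ m + σ m')
    rw [map_add, hσ', hσ', hσ', map_add]
  obtain ⟨W₂, g₂, w₂, hw₂, hR⟩ := exists_common_nbhd (B := F) ξ W₁ w₁
    (fun p : M × M => σ (p.1 + p.2)) (fun p : M × M => σ p.1 + σ p.2) hRg
  have hadd : ∀ m m' : M, F.obj.map g₂.op (σ (m + m')) =
      F.obj.map g₂.op (σ m) + F.obj.map g₂.op (σ m') := by
    intro m m'
    have := hR (m, m')
    rw [this, map_add]
  refine ⟨M, inferInstance, inferInstance, W₂, g₂ ≫ g₁, w₂,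
    AddMonoidHom.mk' (fun m => F.obj.map g₂.op (σ m)) hadd, ?_, ?_⟩
  · rw [Functor.map_comp]
    change (Scheme.pointSmallEtale ξ).fiber.map g₁ ((Scheme.pointSmallEtale ξ).fiber.map g₂ w₂) = w₀
    rw [hw₂, hw₁]
  · have key : (fun m : M => germ ξ F W₂ w₂
        ((AddMonoidHom.mk' (fun m => F.obj.map g₂.op (σ m)) hadd) m)) = fun m => e m := by
      funext m
      change germ ξ F W₂ w₂ (F.obj.map g₂.op (σ m)) = e m
      rw [germ_map ξ F g₂ w₂ w₁ hw₂, hσ']
    rw [key]
    exact e.bijective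

variable {Ω Ω' : Type u} [Field Ω] [IsSepClosed Ω] [Field Ω'] [IsSepClosed Ω']
  (ξ : Spec (CommRingCat.of Ω) ⟶ X) (ξ' : Spec (CommRingCat.of Ω') ⟶ X)

set_option backward.isDefEq.respectTransparency.types false in
/-- transfer of bijectivity of a chart from a generic geometric point to a special one, when the
cospecialization map is injective -/
theorem bijective_of_arrow_injective (F : EtCoh.Ab X) (W : X.Etale) {M : Type} [AddCommGroup M]
    (φ : M →+ F.obj.obj (op W)) (s : (Scheme.pointSmallEtale ξ).fiber.obj W)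
    (t : (Scheme.pointSmallEtale ξ').fiber.obj W)
    (ψ : Scheme.pointSmallEtale ξ' ⟶ Scheme.pointSmallEtale ξ) (hψ : ψ.hom.app W s = t)
    (hinj : Function.Injective
      ((GrothendieckTopology.Point.Hom.sheafFiber (A := AddCommGrpCat.{u + 1}) ψ).app F))
    (hb : Function.Bijective (fun m : M => germ ξ' F W t (φ m))) :
    Function.Bijective (fun m : M => germ ξ F W s (φ m)) := by
  have key : ∀ m, (GrothendieckTopology.Point.Hom.sheafFiber (A := AddCommGrpCat.{u + 1}) ψ).app F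
      (germ ξ F W s (φ m)) = germ ξ' F W t (φ m) := by
    intro m
    rw [sheafFiber_germ, hψ]
  constructor
  · intro m m' hmm
    apply hb.1
    change germ ξ' F W t (φ m) = germ ξ' F W t (φ m')
    rw [← key, ← key]
    exact congrArg _ hmm
  · intro y
    obtain ⟨m, hm⟩ := hb.2
      ((GrothendieckTopology.Point.Hom.sheafFiber (A := AddCommGrpCat.{u + 1}) ψ).app F y)
    refine ⟨m, hinj ?_⟩
    rw [key]
    exact hm

set_option backward.isDefEq.respectTransparency.types false in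
/-- transfer of bijectivity of a chart from a special geometric point to a generic one, when the
cospecialization map is bijective -/
theorem bijective_of_arrow_bijective (F : EtCoh.Ab X) (W : X.Etale) {M : Type} [AddCommGroup M]
    (φ : M →+ F.obj.obj (op W)) (s : (Scheme.pointSmallEtale ξ).fiber.obj W)
    (t : (Scheme.pointSmallEtale ξ').fiber.obj W)
    (ψ : Scheme.pointSmallEtale ξ' ⟶ Scheme.pointSmallEtale ξ) (hψ : ψ.hom.app W s = t)
    (hbij : Function.Bijective
      ((GrothendieckTopology.Point.Hom.sheafFiber (A := AddCommGrpCat.{u + 1}) ψ).app F))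
    (hb : Function.Bijective (fun m : M => germ ξ F W s (φ m))) :
    Function.Bijective (fun m : M => germ ξ' F W t (φ m)) := by
  have key : (fun m : M => germ ξ' F W t (φ m)) =
      ((GrothendieckTopology.Point.Hom.sheafFiber (A := AddCommGrpCat.{u + 1}) ψ).app F) ∘
        (fun m : M => germ ξ F W s (φ m)) := by
    funext m
    change _ = (GrothendieckTopology.Point.Hom.sheafFiber (A := AddCommGrpCat.{u + 1}) ψ).app F
      (germ ξ F W s (φ m))
    rw [sheafFiber_germ, hψ]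
  rw [key]
  exact hbij.comp hb

section Topology

lemma locallyQuasiFinite_of_etale {Z T : Scheme.{u}} (g : Z ⟶ T) [Etale g] :
    LocallyQuasiFinite g where
  quasiFinite_appLE {U} hU {V} hV e := by
    have h := g.etale_appLE hU hV e
    algebraize [(g.appLE _ _ e).hom]
    exact inferInstanceAs (Algebra.QuasiFinite _ _)

/-- in a fibre of an étale morphism there are no nontrivial specializations -/
lemma eq_of_specializes_of_etale {W Y : Scheme.{u}} (f : W ⟶ Y) [Etale f] {p u : W}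
    (h : p ⤳ u) (hf : f p = f u) : p = u := by
  haveI := locallyQuasiFinite_of_etale f
  have hd : _root_.IsDiscrete (f ⁻¹' {f u}) := f.isDiscrete_preimage_singleton (f u)
  haveI := hd.to_subtype
  have ho : IsOpen ({⟨u, rfl⟩} : Set ↥(f ⁻¹' {f u})) := isOpen_discrete _
  obtain ⟨O', hO', hO'eq⟩ := isOpen_induced_iff.mp ho
  have hu : u ∈ O' := by
    have : (⟨u, rfl⟩ : ↥(f ⁻¹' {f u})) ∈ Subtype.val ⁻¹' O' := by rw [hO'eq]; rfl
    exact this
  have hp : p ∈ O' := h.mem_open hO' hu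
  have : (⟨p, hf⟩ : ↥(f ⁻¹' {f u})) ∈ Subtype.val ⁻¹' O' := hp
  rw [hO'eq] at this
  exact congrArg Subtype.val this

/-- every point `u` of the source of an étale morphism `f` from a locally Noetherian scheme has an
open neighbourhood in which the points lying over specializations of `f u` are specializations
of `u`. -/
lemma exists_open_specializes {W Y : Scheme.{u}} (f : W ⟶ Y) [Etale f] [IsLocallyNoetherian W]
    (u : W) : ∃ O : W.Opens, u ∈ O ∧ ∀ v ∈ O, f u ⤳ f v → u ⤳ v := by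
  obtain ⟨A, hA, huA⟩ : ∃ A : W.Opens, IsAffineOpen A ∧ u ∈ A := by
    obtain ⟨_, ⟨A, hA, rfl⟩, hx, -⟩ :=
      (W.isBasis_affineOpens).exists_subset_of_mem_open (Set.mem_univ u) isOpen_univ
    exact ⟨A, hA, hx⟩
  haveI : IsNoetherianRing Γ(W, A) := IsLocallyNoetherian.component_noetherian ⟨A, hA⟩
  haveI : TopologicalSpace.NoetherianSpace ↥(A : Set W) := noetherianSpace_of_isAffineOpen A hA
  haveI : QuasiSober ↥(A : Set W) := A.isOpen.isOpenEmbedding_subtypeVal.quasiSober
  let S : Set ↥(A : Set W) := {a | f u ⤳ f a.1}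
  have hS : IsClosed S := by
    have : S = (fun a : ↥(A : Set W) => f a.1) ⁻¹' closure {f u} := by
      ext a
      exact specializes_iff_mem_closure
    rw [this]
    exact isClosed_closure.preimage (f.continuous.comp continuous_subtype_val)
  haveI : QuasiSober ↥S := hS.isClosedEmbedding_subtypeVal.quasiSober
  let p₀ : ↥S := ⟨⟨u, huA⟩, specializes_rfl⟩
  obtain ⟨p, hp, o, ho, hpo, hov⟩ := Groth.Agent.Lib.Helper8EtSubFLC.exists_generic_nbhd p₀
  have h1 : p.1.1 ⤳ u := (hp.map continuous_subtype_val).map continuous_subtype_val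
  have h2 : f u ⤳ f p.1.1 := p.2
  have h3 : f p.1.1 ⤳ f u := h1.map f.continuous
  have h4 : f p.1.1 = f u := (h3.antisymm h2).eq
  have hpu : p.1.1 = u := eq_of_specializes_of_etale f h1 h4
  obtain ⟨O₁, hO₁, hO₁eq⟩ := isOpen_induced_iff.mp ho
  obtain ⟨O₂, hO₂, hO₂eq⟩ := isOpen_induced_iff.mp hO₁
  refine ⟨⟨O₂ ∩ A, hO₂.inter A.isOpen⟩, ⟨?_, huA⟩, ?_⟩
  · rw [← hpu]
    have : p ∈ Subtype.val ⁻¹' O₁ := by rw [hO₁eq]; exact hpo
    have : p.1 ∈ Subtype.val ⁻¹' O₂ := by rw [hO₂eq]; exact this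
    exact this
  · rintro v ⟨hv2, hvA⟩ hfv
    let v' : ↥S := ⟨⟨v, hvA⟩, hfv⟩
    have hv' : v' ∈ o := by
      rw [← hO₁eq]
      change v'.1 ∈ O₁
      rw [← hO₂eq]
      exact hv2
    have := ((hov v' hv').map continuous_subtype_val).map continuous_subtype_val
    rw [← hpu]
    exact this

end Topology

set_option backward.isDefEq.respectTransparency.types false in
/-- pointwise version of `GermBij.pull` -/
theorem germBij_pull_of_pointwise {X' : Scheme.{u}} (f : X' ⟶ X) {F : EtCoh.Ab X} {U : X.Etale}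
    {M : Type} [AddCommGroup M] {φ : M →+ F.obj.obj (op U)}
    (hφ : ∀ (Ω : Type u) [Field Ω] [IsSepClosed Ω] (ξ : Spec (CommRingCat.of Ω) ⟶ X')
      (u : (Scheme.pointSmallEtale (ξ ≫ f)).fiber.obj U),
      Function.Bijective (fun m : M => germ (ξ ≫ f) F U u (φ m))) :
    GermBij ((EtCoh.pull f).obj F) ((EtCoh.bc f).obj U) M
      ((((EtCoh.pullPushAdj f).unit.app F).hom.app (op U)).hom.comp φ) := by
  intro Ω _ _ ξ t'
  obtain ⟨u, ht'⟩ := inv_hom_app_apply (Groth.Agent.S0100.fiberIso f ξ) U t'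
  have key : (fun m : M => germ ξ ((EtCoh.pull f).obj F) ((EtCoh.bc f).obj U) t'
      (((((EtCoh.pullPushAdj f).unit.app F).hom.app (op U)).hom.comp φ) m)) =
      ((Groth.Agent.S0101.stalkPullIso f ξ).hom.app F) ∘
        (fun m : M => germ (ξ ≫ f) F U u (φ m)) := by
    funext m
    have := germ_compat f ξ F U u (φ m)
    rw [ht'] at this
    exact this.symm
  refine (congrArg Function.Bijective key).mpr ?_
  exact (bijective_of_iso ((Groth.Agent.S0101.stalkPullIso f ξ).app F)).comp (hφ Ω ξ u)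

set_option backward.isDefEq.respectTransparency.types false in
set_option maxHeartbeats 1600000 in
/-- **Constructibility from injective cospecialization maps** (locally Noetherian base, finite
stalks). -/
theorem isConstructible_of_cospec_injective [IsLocallyNoetherian X] (F : EtCoh.Ab X)
    (hfin : ∀ (Ω : Type u) [Field Ω] [IsSepClosed Ω] (ξ : Spec (CommRingCat.of Ω) ⟶ X),
      Finite ((EtCoh.stalk ξ).obj F : Type (u + 1)))
    (hinj : ∀ (Ω Ω' : Type u) [Field Ω] [IsSepClosed Ω] [Field Ω'] [IsSepClosed Ω']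
        (ξ : Spec (CommRingCat.of Ω) ⟶ X) (ξ' : Spec (CommRingCat.of Ω') ⟶ X)
        (ψ : Scheme.pointSmallEtale ξ' ⟶ Scheme.pointSmallEtale ξ),
        Function.Injective
          ((GrothendieckTopology.Point.Hom.sheafFiber (A := AddCommGrpCat.{u + 1}) ψ).app F)) :
    EtPBC.IsConstructible F := by
  apply Groth.Agent.Lib.Helper8EtConstrNoeth.isConstructible_of_pointwise F
  intro x
  obtain ⟨Ω₀, _, _, ξ₀, t₀, ht₀⟩ := exists_geometric_point (Scheme.Etale.mk (𝟙 X)) x
  have hξ₀ : ξ₀ (default : Spec (CommRingCat.of Ω₀)) = x := by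
    rw [← hom_base_fiber ξ₀ (Scheme.Etale.mk (𝟙 X)) t₀, ht₀]
    rfl
  obtain ⟨M, _, _, W, g, w, φ, hw, hb⟩ :=
    exists_chart_of_finite_stalk F ξ₀ (Scheme.Etale.mk (𝟙 X)) t₀ (hfin Ω₀ ξ₀)
  haveI : Etale W.hom := W.prop
  haveI : IsLocallyNoetherian W.left :=
    @LocallyOfFiniteType.isLocallyNoetherian W.left X W.hom _ _
  have hWu : W.hom (ctr ξ₀ w) = x := by
    rw [← hξ₀]
    exact hom_base_fiber ξ₀ W w
  obtain ⟨O, huO, hO⟩ : ∃ O : W.left.Opens, ctr ξ₀ w ∈ O ∧
      ∀ v ∈ O, W.hom (ctr ξ₀ w) ⤳ W.hom v → ctr ξ₀ w ⤳ v := by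
    obtain ⟨f, hf⟩ : ∃ f : W.left ⟶ X, f = W.hom := ⟨_, rfl⟩
    haveI : Etale f := by rw [hf]; infer_instance
    rw [← hf]
    exact exists_open_specializes f (ctr ξ₀ w)
  obtain ⟨V, hV⟩ : ∃ V : X.Opens, (V : Set X) = W.hom '' (O : Set W.left) :=
    ⟨⟨W.hom '' (O : Set W.left), W.hom.isOpenMap _ O.isOpen⟩, rfl⟩
  obtain ⟨T, g', hg', hr⟩ := Groth.Agent.Lib.Helper8EtConstrCover.exists_immersion_range V
    ⟨closure {x}, isClosed_closure⟩
  haveI := hg'
  have hxV : x ∈ V := by
    change x ∈ (V : Set X)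
    rw [hV]
    exact ⟨ctr ξ₀ w, huO, hWu⟩
  refine ⟨V, T, g', hg', hxV, hr, ?_⟩
  let W' : X.Etale := Scheme.Etale.mk (O.ι ≫ W.hom)
  let jO : W' ⟶ W := MorphismProperty.Over.homMk O.ι rfl (by simp)
  refine ⟨PUnit, fun _ => (EtCoh.bc g').obj W', ?_, fun _ => ⟨M, inferInstance, inferInstance, _,
    germBij_pull_of_pointwise g' (φ := (F.obj.map jO.op).hom.comp φ) ?_⟩⟩
  · -- covering
    intro t'
    have ht' : g' t' ∈ Set.range g' := ⟨t', rfl⟩
    rw [hr] at ht'
    have h1 : g' t' ∈ W.hom '' (O : Set W.left) := by rw [← hV]; exact ht'.1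
    obtain ⟨v, hvO, hv⟩ := h1
    obtain ⟨v', hv'⟩ : ∃ v' : (O : Scheme.{u}), O.ι v' = v := by
      have : v ∈ Set.range O.ι := by rw [Scheme.Opens.range_ι]; exact hvO
      exact this
    have hy : W'.hom v' = g' t' := by
      change (O.ι ≫ W.hom) v' = g' t'
      rw [Scheme.Hom.comp_apply, hv', hv]
    obtain ⟨z, hz1, hz2⟩ := Scheme.Pullback.exists_preimage_pullback
      (f := W'.hom) (g := g') v' t' hy
    exact ⟨PUnit.unit, z, hz2⟩
  · -- bijectivity of germs
    intro Ω _ _ ξ' u'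
    obtain ⟨s, hs⟩ : ∃ s, (Scheme.pointSmallEtale (ξ' ≫ g')).fiber.map jO u' = s := ⟨_, rfl⟩
    have hgerm : (fun m : M => germ (ξ' ≫ g') F W' u' (((F.obj.map jO.op).hom.comp φ) m)) =
        fun m : M => germ (ξ' ≫ g') F W s (φ m) := by
      funext m
      exact germ_map (ξ' ≫ g') F jO u' s hs (φ m)
    rw [hgerm]
    -- the centre of `s` lies in `O` over a specialization of `x`
    have hsO : ctr (ξ' ≫ g') s ∈ O := by
      rw [← hs]
      change O.ι (ctr (ξ' ≫ g') u') ∈ O
      have : O.ι (ctr (ξ' ≫ g') u') ∈ Set.range O.ι := ⟨_, rfl⟩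
      rwa [Scheme.Opens.range_ι] at this
    have hsx : x ⤳ W.hom (ctr (ξ' ≫ g') s) := by
      rw [hom_base_fiber (ξ' ≫ g') W s, Scheme.Hom.comp_apply]
      have : g' (ξ' (default : Spec (CommRingCat.of Ω))) ∈ Set.range g' := ⟨_, rfl⟩
      rw [hr] at this
      exact specializes_iff_mem_closure.mpr this.2
    have hspec : ctr ξ₀ w ⤳ ctr (ξ' ≫ g') s := hO _ hsO (by rw [hWu]; exact hsx)
    obtain ⟨ψ, hψ⟩ := exists_arrow (ξ' ≫ g') ξ₀ W s w hspec
    exact bijective_of_arrow_injective (ξ' ≫ g') ξ₀ F W φ s w ψ hψ (hinj _ _ _ _ ψ) hb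

end Groth.Agent.Lib.Helper8EtCospec
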