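import Mathlib
import Groth.Prelude.Def_PBC
import Groth.Agent.Lib.Helper8EtCospec

/-!
# Local constancy and bijective cospecialization maps (helper8)
-/

set_option autoImplicit false
open CategoryTheory CategoryTheory.Limits AlgebraicGeometry Opposite GrothendieckTopology Topology
universe u

namespace Groth.Agent.Lib.Helper8EtCospecFLC

open Groth.Agent.Lib.Helper16.EtStalk Groth.Agent.Lib.Helper16.SmallEtale
  Groth.Agent.Lib.Helper16.StalkPull Groth.Agent.Lib.Helper8EtFLCCrit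
  Groth.Agent.Lib.Helper8EtFLCKer Groth.Agent.Lib.Helper8EtFLCExt
  Groth.Agent.Lib.Helper8EtSpecArrow Groth.Agent.Lib.Helper8EtCospec

variable {X : Scheme.{u}}

/-- in a Noetherian quasi-sober space every point has an open neighbourhood all of whose points
have a common generization with it -/
lemma exists_open_common_gen_top {α : Type*} [TopologicalSpace α]
    [TopologicalSpace.NoetherianSpace α] [QuasiSober α] (a₀ : α) :
    ∃ o : Set α, IsOpen o ∧ a₀ ∈ o ∧ ∀ a ∈ o, ∃ g : α, g ⤳ a₀ ∧ g ⤳ a := by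
  have hfin : (irreducibleComponents α).Finite :=
    TopologicalSpace.NoetherianSpace.finite_irreducibleComponents
  let bad : Set (Set α) := {Z | Z ∈ irreducibleComponents α ∧ a₀ ∉ Z}
  have hbadfin : bad.Finite := hfin.subset (fun Z hZ => hZ.1)
  have hclosed : IsClosed (⋃₀ bad) := by
    rw [Set.sUnion_eq_biUnion]
    exact hbadfin.isClosed_biUnion (fun Z hZ => isClosed_of_mem_irreducibleComponents Z hZ.1)
  refine ⟨(⋃₀ bad)ᶜ, hclosed.isOpen_compl, ?_, ?_⟩
  · rintro ⟨Z, hZ, haZ⟩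
    exact hZ.2 haZ
  · intro a ha
    have hZ := irreducibleComponent_mem_irreducibleComponents a
    have ha₀ : a₀ ∈ irreducibleComponent a := by
      by_contra hcon
      exact ha ⟨irreducibleComponent a, ⟨hZ, hcon⟩, mem_irreducibleComponent⟩
    have hirr : IsIrreducible (irreducibleComponent a) := isIrreducible_irreducibleComponent
    have hcl : IsClosed (irreducibleComponent a) := isClosed_irreducibleComponent
    have hgen := hirr.isGenericPoint_genericPoint hcl
    exact ⟨hirr.genericPoint, hgen.specializes ha₀, hgen.specializes mem_irreducibleComponent⟩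

/-- scheme version -/
lemma exists_open_common_gen (W : Scheme.{u}) [IsLocallyNoetherian W] (u : W) :
    ∃ O : W.Opens, u ∈ O ∧ ∀ v ∈ O, ∃ w' : W, w' ⤳ u ∧ w' ⤳ v := by
  obtain ⟨A, hA, huA⟩ : ∃ A : W.Opens, IsAffineOpen A ∧ u ∈ A := by
    obtain ⟨_, ⟨A, hA, rfl⟩, hx, -⟩ :=
      (W.isBasis_affineOpens).exists_subset_of_mem_open (Set.mem_univ u) isOpen_univ
    exact ⟨A, hA, hx⟩
  haveI : IsNoetherianRing Γ(W, A) := IsLocallyNoetherian.component_noetherian ⟨A, hA⟩
  haveI : TopologicalSpace.NoetherianSpace ↥(A : Set W) := noetherianSpace_of_isAffineOpen A hA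
  haveI : QuasiSober ↥(A : Set W) := A.isOpen.isOpenEmbedding_subtypeVal.quasiSober
  obtain ⟨o, ho, hao, hog⟩ := exists_open_common_gen_top (⟨u, huA⟩ : ↥(A : Set W))
  refine ⟨⟨Subtype.val '' o, A.isOpen.isOpenMap_subtype_val o ho⟩, ⟨⟨u, huA⟩, hao, rfl⟩, ?_⟩
  rintro _ ⟨a, ha, rfl⟩
  obtain ⟨g, hg1, hg2⟩ := hog a ha
  exact ⟨g.1, hg1.map continuous_subtype_val, hg2.map continuous_subtype_val⟩

set_option backward.isDefEq.respectTransparency.types false in
set_option maxHeartbeats 1600000 in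
/-- **Local constancy from bijective cospecialization maps** (locally Noetherian base, finite
stalks). -/
theorem flc_of_cospec_bijective [IsLocallyNoetherian X] (F : EtCoh.Ab X)
    (hfin : ∀ (Ω : Type u) [Field Ω] [IsSepClosed Ω] (ξ : Spec (CommRingCat.of Ω) ⟶ X),
      Finite ((EtCoh.stalk ξ).obj F : Type (u + 1)))
    (hbij : ∀ (Ω Ω' : Type u) [Field Ω] [IsSepClosed Ω] [Field Ω'] [IsSepClosed Ω']
        (ξ : Spec (CommRingCat.of Ω) ⟶ X) (ξ' : Spec (CommRingCat.of Ω') ⟶ X)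
        (ψ : Scheme.pointSmallEtale ξ' ⟶ Scheme.pointSmallEtale ξ),
        Function.Bijective
          ((GrothendieckTopology.Point.Hom.sheafFiber (A := AddCommGrpCat.{u + 1}) ψ).app F)) :
    FLC F := by
  have key : ∀ x : X, ∃ (W' : X.Etale) (y : W'.left), W'.hom.base y = x ∧
      ∃ (M : Type) (_ : AddCommGroup M) (_ : Finite M) (φ : M →+ F.obj.obj (op W')),
        GermBij F W' M φ := by
    intro x
    obtain ⟨Ω₀, _, _, ξ₀, t₀, ht₀⟩ := exists_geometric_point (Scheme.Etale.mk (𝟙 X)) x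
    have hξ₀ : ξ₀ (default : Spec (CommRingCat.of Ω₀)) = x := by
      rw [← hom_base_fiber ξ₀ (Scheme.Etale.mk (𝟙 X)) t₀, ht₀]
      rfl
    obtain ⟨M, _, _, W, g, w, φ, hw, hb⟩ :=
      exists_chart_of_finite_stalk F ξ₀ (Scheme.Etale.mk (𝟙 X)) t₀ (hfin Ω₀ ξ₀)
    haveI : Etale W.hom := W.prop
    haveI : IsLocallyNoetherian W.left :=
      @LocallyOfFiniteType.isLocallyNoetherian W.left X W.hom _ _
    have hWu : W.hom (ctr ξ₀ w) = x := by
      rw [← hξ₀]
      exact hom_base_fiber ξ₀ W w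
    obtain ⟨O, huO, hO⟩ := exists_open_common_gen W.left (ctr ξ₀ w)
    let W' : X.Etale := Scheme.Etale.mk (O.ι ≫ W.hom)
    let jO : W' ⟶ W := MorphismProperty.Over.homMk O.ι rfl (by simp)
    obtain ⟨y, hy⟩ : ∃ y : (O : Scheme.{u}), O.ι y = ctr ξ₀ w := by
      have : ctr ξ₀ w ∈ Set.range O.ι := by rw [Scheme.Opens.range_ι]; exact huO
      exact this
    refine ⟨W', y, ?_, M, inferInstance, inferInstance, (F.obj.map jO.op).hom.comp φ, ?_⟩
    · change (O.ι ≫ W.hom) y = x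
      rw [Scheme.Hom.comp_apply, hy, hWu]
    · intro Ω _ _ ζ r
      obtain ⟨s, hs⟩ : ∃ s, (Scheme.pointSmallEtale ζ).fiber.map jO r = s := ⟨_, rfl⟩
      have hgerm : (fun m : M => germ ζ F W' r (((F.obj.map jO.op).hom.comp φ) m)) =
          fun m : M => germ ζ F W s (φ m) := by
        funext m
        exact germ_map ζ F jO r s hs (φ m)
      rw [hgerm]
      have hsO : ctr ζ s ∈ O := by
        rw [← hs]
        change O.ι (ctr ζ r) ∈ O
        have : O.ι (ctr ζ r) ∈ Set.range O.ι := ⟨_, rfl⟩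
        rwa [Scheme.Opens.range_ι] at this
      obtain ⟨w', hw'u, hw'v⟩ := hO _ hsO
      obtain ⟨Ω₁, _, _, ξ₁, r₁, hr₁⟩ := exists_geometric_point W w'
      have h1 : ctr ξ₁ r₁ ⤳ ctr ξ₀ w := by
        rw [show ctr ξ₁ r₁ = w' from hr₁]; exact hw'u
      have h2 : ctr ξ₁ r₁ ⤳ ctr ζ s := by
        rw [show ctr ξ₁ r₁ = w' from hr₁]; exact hw'v
      obtain ⟨ψ₁, hψ₁⟩ := exists_arrow ξ₀ ξ₁ W w r₁ h1
      have hb₁ := bijective_of_arrow_bijective ξ₀ ξ₁ F W φ w r₁ ψ₁ hψ₁ (hbij _ _ _ _ ψ₁) hb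
      obtain ⟨ψ₂, hψ₂⟩ := exists_arrow ζ ξ₁ W s r₁ h2
      exact bijective_of_arrow_injective ζ ξ₁ F W φ s r₁ ψ₂ hψ₂ (hbij _ _ _ _ ψ₂).1 hb₁
  choose W' y hy hch using key
  exact ⟨↥X, W', fun x => ⟨x, y x, hy x⟩, hch⟩

variable {Ω Ω' : Type u} [Field Ω] [IsSepClosed Ω] [Field Ω'] [IsSepClosed Ω']
  (ξ : Spec (CommRingCat.of Ω) ⟶ X) (ξ' : Spec (CommRingCat.of Ω') ⟶ X)

set_option backward.isDefEq.respectTransparency.types false in
/-- on a finite locally constant sheaf all cospecialization maps are bijective -/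
theorem cospec_bijective_of_flc (F : EtCoh.Ab X) (h : FLC F)
    (ψ : Scheme.pointSmallEtale ξ' ⟶ Scheme.pointSmallEtale ξ) :
    Function.Bijective
      ((GrothendieckTopology.Point.Hom.sheafFiber (A := AddCommGrpCat.{u + 1}) ψ).app F) := by
  obtain ⟨ι, U, hU, hch⟩ := h
  obtain ⟨i, y, hy⟩ := hU (ξ (default : Spec (CommRingCat.of Ω)))
  obtain ⟨M, _, _, φ, hφ⟩ := hch i
  obtain ⟨s, -⟩ := Scheme.pointSmallEtaleFiberObjToPreimage_surjective ξ rfl (U i) ⟨y, hy⟩
  have h1 := hφ Ω ξ s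
  have h2 := hφ Ω' ξ' (ψ.hom.app (U i) s)
  have key : (fun m : M => germ ξ' F (U i) (ψ.hom.app (U i) s) (φ m)) =
      ((GrothendieckTopology.Point.Hom.sheafFiber (A := AddCommGrpCat.{u + 1}) ψ).app F) ∘
        (fun m : M => germ ξ F (U i) s (φ m)) := by
    funext m
    change _ = (GrothendieckTopology.Point.Hom.sheafFiber (A := AddCommGrpCat.{u + 1}) ψ).app F
      (germ ξ F (U i) s (φ m))
    rw [sheafFiber_germ]
  rw [key] at h2
  constructor
  · intro a b hab
    obtain ⟨m, rfl⟩ := h1.2 a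
    obtain ⟨m', rfl⟩ := h1.2 b
    have : m = m' := h2.1 hab
    rw [this]
  · exact (Function.Surjective.of_comp h2.2)

end Groth.Agent.Lib.Helper8EtCospecFLC
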