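import Mathlib
import Groth.Prelude.Def_PBC
import Groth.Agent.Lib.Helper8EtCospecFLC

/-!
# More on specialization arrows (helper8)

* `arrow_specializes`: an arrow of points moves centres to generizations.
* `sheafFiber_injective_of_same_center`: cospecialization maps between geometric points with the
  same centre are injective.
* `card_stalk_eq_of_same_center`.
-/

set_option autoImplicit false
open CategoryTheory CategoryTheory.Limits AlgebraicGeometry Opposite GrothendieckTopology Topology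
universe u

namespace Groth.Agent.Lib.Helper8EtArrowSpec

open Groth.Agent.Lib.Helper16.EtStalk Groth.Agent.Lib.Helper16.SmallEtale
  Groth.Agent.Lib.Helper16.StalkPull Groth.Agent.Lib.Helper8EtFLCCrit
  Groth.Agent.Lib.Helper8EtFLCKer Groth.Agent.Lib.Helper8EtFLCExt
  Groth.Agent.Lib.Helper8EtSpecArrow Groth.Agent.Lib.Helper8EtCospec

variable {X : Scheme.{u}} {Ω Ω' : Type u} [Field Ω] [IsSepClosed Ω] [Field Ω'] [IsSepClosed Ω']
  (ξ : Spec (CommRingCat.of Ω) ⟶ X) (ξ' : Spec (CommRingCat.of Ω') ⟶ X)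

/-- the tautological lift of a geometric point to the terminal object -/
noncomputable def baseLift : (Scheme.pointSmallEtale ξ).fiber.obj (Scheme.Etale.mk (𝟙 X)) :=
  Over.homMk ξ (by simp)

lemma ctr_baseLift : ctr ξ (baseLift ξ) = ξ (default : Spec (CommRingCat.of Ω)) := rfl

set_option backward.isDefEq.respectTransparency.types false in
/-- restriction of a lift to an open neighbourhood of its centre -/
lemma exists_lift_open (U : X.Etale) (s : (Scheme.pointSmallEtale ξ).fiber.obj U)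
    (O : U.left.Opens) (hs : ctr ξ s ∈ O) :
    ∃ (s' : (Scheme.pointSmallEtale ξ).fiber.obj (Scheme.Etale.mk (O.ι ≫ U.hom))),
      (Scheme.pointSmallEtale ξ).fiber.map
        (MorphismProperty.Over.homMk O.ι rfl (by simp) :
          Scheme.Etale.mk (O.ι ≫ U.hom) ⟶ U) s' = s := by
  have hmem : ctr ξ s ∈ Set.range O.ι := by rw [Scheme.Opens.range_ι]; exact hs
  have hr : Set.range (s.left : Spec (CommRingCat.of Ω) ⟶ U.left) ⊆ Set.range O.ι := by
    rintro _ ⟨a, rfl⟩
    have ha : (a : Spec (CommRingCat.of Ω)) = (default : Spec (CommRingCat.of Ω)) :=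
      @Subsingleton.elim ↥(Spec (CommRingCat.of Ω)) inferInstance a default
    exact (congrArg (fun a : Spec (CommRingCat.of Ω) =>
      (s.left : Spec (CommRingCat.of Ω) ⟶ U.left) a ∈ Set.range O.ι) ha).mpr hmem
  obtain ⟨l, hl⟩ : ∃ l : Spec (CommRingCat.of Ω) ⟶ (O : Scheme.{u}), l ≫ O.ι = s.left :=
    ⟨IsOpenImmersion.lift O.ι s.left hr, IsOpenImmersion.lift_fac _ _ _⟩
  have hw : l ≫ (O.ι ≫ U.hom) = ξ := by
    rw [← Category.assoc, hl]
    exact Over.w s
  refine ⟨Over.homMk l hw, ?_⟩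
  apply Over.OverMorphism.ext
  exact hl

set_option backward.isDefEq.respectTransparency.types false in
/-- an arrow of points moves the centre of a lift to a generization -/
theorem arrow_specializes (φ : Scheme.pointSmallEtale ξ' ⟶ Scheme.pointSmallEtale ξ) (U : X.Etale)
    (s : (Scheme.pointSmallEtale ξ).fiber.obj U) :
    ctr ξ' (φ.hom.app U s) ⤳ ctr ξ s := by
  rw [specializes_iff_forall_open]
  intro O hO hs
  obtain ⟨O', rfl⟩ : ∃ O' : U.left.Opens, (O' : Set U.left) = O := ⟨⟨O, hO⟩, rfl⟩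
  obtain ⟨s', hs'⟩ := exists_lift_open ξ U s O' hs
  obtain ⟨j, hj⟩ : ∃ j : Scheme.Etale.mk (O'.ι ≫ U.hom) ⟶ U,
      j = MorphismProperty.Over.homMk O'.ι rfl (by simp) := ⟨_, rfl⟩
  rw [← hj] at hs'
  have nat := NatTrans.naturality_apply φ.hom j s'
  rw [hs'] at nat
  rw [nat]
  subst hj
  change O'.ι (ctr ξ' (φ.hom.app _ s')) ∈ O'
  have : O'.ι (ctr ξ' (φ.hom.app _ s')) ∈ Set.range O'.ι := ⟨_, rfl⟩
  rwa [Scheme.Opens.range_ι] at this

set_option backward.isDefEq.respectTransparency.types false in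
/-- cospecialization maps between geometric points with the same centre are injective -/
theorem sheafFiber_injective_of_same_center (F : EtCoh.Ab X)
    (ψ : Scheme.pointSmallEtale ξ' ⟶ Scheme.pointSmallEtale ξ)
    (h : ξ (default : Spec (CommRingCat.of Ω)) = ξ' (default : Spec (CommRingCat.of Ω'))) :
    Function.Injective
      ((GrothendieckTopology.Point.Hom.sheafFiber (A := AddCommGrpCat.{u + 1}) ψ).app F) := by
  intro b₁ b₂ hb
  obtain ⟨W, s, z₁, z₂, rfl, rfl⟩ :=
    (Scheme.pointSmallEtale ξ).toPresheafFiber_jointly_surjective₂ b₁ b₂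
  change (GrothendieckTopology.Point.Hom.sheafFiber (A := AddCommGrpCat.{u + 1}) ψ).app F
    (germ ξ F W s z₁) = (GrothendieckTopology.Point.Hom.sheafFiber
      (A := AddCommGrpCat.{u + 1}) ψ).app F (germ ξ F W s z₂) at hb
  rw [sheafFiber_germ, sheafFiber_germ] at hb
  obtain ⟨W₃, a, s₃, hs₃, hz⟩ :=
    ((Scheme.pointSmallEtale ξ').toPresheafFiber_eq_iff' _ _ _ _).mp hb
  have hc : ctr ξ' (ψ.hom.app W s) = ctr ξ s := by
    obtain ⟨f, hf⟩ : ∃ f : W.left ⟶ X, f = W.hom := ⟨_, rfl⟩
    haveI : Etale f := by rw [hf]; exact W.prop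
    refine eq_of_specializes_of_etale f (arrow_specializes ξ ξ' ψ W s) ?_
    rw [hf]
    exact (hom_base_fiber ξ' W _).trans (h.symm.trans (hom_base_fiber ξ W s).symm)
  obtain ⟨q, hq⟩ := exists_lift_of_specializes ξ' ξ a s₃ (ψ.hom.app W s) hs₃ s (by rw [hc])
  change germ ξ F W s z₁ = germ ξ F W s z₂
  rw [← germ_map ξ F a q s hq z₁, ← germ_map ξ F a q s hq z₂, hz]

set_option backward.isDefEq.respectTransparency.types false in
/-- stalks at geometric points with the same centre have the same cardinality -/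
theorem card_stalk_eq_of_same_center (F : EtCoh.Ab X)
    (h : ξ (default : Spec (CommRingCat.of Ω)) = ξ' (default : Spec (CommRingCat.of Ω'))) :
    Nat.card ((EtCoh.stalk ξ).obj F : Type (u + 1)) =
      Nat.card ((EtCoh.stalk ξ').obj F : Type (u + 1)) := by
  obtain ⟨ψ, -⟩ := exists_arrow ξ ξ' (Scheme.Etale.mk (𝟙 X)) (baseLift ξ) (baseLift ξ') (by
    rw [ctr_baseLift, ctr_baseLift, h])
  obtain ⟨ψ', -⟩ := exists_arrow ξ' ξ (Scheme.Etale.mk (𝟙 X)) (baseLift ξ') (baseLift ξ) (by
    rw [ctr_baseLift, ctr_baseLift, h])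
  have i1 := sheafFiber_injective_of_same_center ξ ξ' F ψ h
  have i2 := sheafFiber_injective_of_same_center ξ' ξ F ψ' h.symm
  obtain ⟨e⟩ := Function.Embedding.antisymm ⟨_, i1⟩ ⟨_, i2⟩
  exact Nat.card_congr e

end Groth.Agent.Lib.Helper8EtArrowSpec
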