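import Mathlib
import Groth.Prelude.Def_PBC
import Groth.Agent.Lib.Helper8EtSurjLocus
import Groth.Agent.S0127

/-!
# The support of a constructible étale sheaf is locally constructible (helper8)
-/

set_option autoImplicit false
open CategoryTheory CategoryTheory.Limits AlgebraicGeometry Opposite Topology ZeroObject
universe u

namespace Groth.Agent.Lib.Helper8EtSuppConstr

open Groth.Agent.Lib.Helper16.EtStalk Groth.Agent.Lib.Helper16.SmallEtale
  Groth.Agent.Lib.Helper16.StalkPull Groth.Agent.Lib.Helper8EtFLCCrit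
  Groth.Agent.Lib.Helper8EtConstr Groth.Agent.Lib.Helper8EtConstrCover
  Groth.Agent.Lib.Helper8EtSurjLocus

variable {X : Scheme.{u}}

instance pullPreservesZero {Y : Scheme.{u}} (f : Y ⟶ X) :
    (EtCoh.pull f).PreservesZeroMorphisms :=
  haveI : (EtCoh.pull f).IsLeftAdjoint := (EtCoh.pullPushAdj f).isLeftAdjoint
  inferInstance

set_option backward.isDefEq.respectTransparency.types false in
/-- a zero sheaf is finite locally constant -/
lemma flc_of_isZero (Z : EtCoh.Ab X) (hZ : IsZero Z) : FLC Z := by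
  refine ⟨PUnit, fun _ => Scheme.Etale.mk (𝟙 X), fun x => ⟨PUnit.unit, x, rfl⟩, fun _ => ?_⟩
  refine ⟨PUnit, inferInstance, inferInstance, 0, ?_⟩
  intro Ω _ _ ξ t
  have hz : IsZero ((EtCoh.stalk ξ).obj Z) := Functor.map_isZero (EtCoh.stalk ξ) hZ
  haveI := AddCommGrpCat.isZero_iff_subsingleton.mp hz
  constructor
  · intro a b _
    exact Subsingleton.elim a b
  · intro b
    exact ⟨PUnit.unit, Subsingleton.elim _ _⟩

/-- a zero sheaf is constructible -/
lemma isConstructible_of_isZero (Z : EtCoh.Ab X) (hZ : IsZero Z) : EtPBC.IsConstructible Z := by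
  rw [isConstructible_iff]
  intro U _
  have hr : Set.range U.ι = (U : Set X) := by simp
  refine ⟨Unit, inferInstance, fun _ => U, fun _ => U.ι, fun _ => inferInstance, fun _ => ?_,
    fun i j hij => absurd (Subsingleton.elim i j) hij, ?_,
    fun _ => flc_of_isZero _ (Functor.map_isZero (EtCoh.pull U.ι) hZ)⟩
  · rw [hr]
    have : (Subtype.val : ↥(U : Set X) → X) ⁻¹' (U : Set X) = Set.univ := by
      ext ⟨x, hx⟩
      simpa using hx
    rw [this]
    exact IsConstructible.univ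
  · rw [Set.iUnion_const, hr]

set_option backward.isDefEq.respectTransparency.types false in
lemma mem_supp_iff (F : EtCoh.Ab X) {Z : EtCoh.Ab X} (hZ : IsZero Z) (φ : Z ⟶ F) (x : X) :
    x ∈ EtPBC.supp F ↔ x ∉ surjLocus φ := by
  have hφ : ∀ {Ω : Type u} [Field Ω] [IsSepClosed Ω] (ξ : Spec (CommRingCat.of Ω) ⟶ X),
      Function.Surjective ((EtCoh.stalk ξ).map φ) ↔ IsZero ((EtCoh.stalk ξ).obj F) := by
    intro Ω _ _ ξ
    have hz : IsZero ((EtCoh.stalk ξ).obj Z) := Functor.map_isZero (EtCoh.stalk ξ) hZ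
    haveI := AddCommGrpCat.isZero_iff_subsingleton.mp hz
    constructor
    · intro hs
      rw [AddCommGrpCat.isZero_iff_subsingleton]
      constructor
      intro a b
      obtain ⟨a', rfl⟩ := hs a
      obtain ⟨b', rfl⟩ := hs b
      rw [Subsingleton.elim a' b']
    · intro h b
      haveI := AddCommGrpCat.isZero_iff_subsingleton.mp h
      exact ⟨0, Subsingleton.elim _ _⟩
  constructor
  · rintro ⟨Ω, _, _, ξ, hξ, hne⟩ hmem
    exact hne ((hφ ξ).mp (hmem Ω ξ hξ))
  · intro hx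
    simp only [surjLocus, Set.mem_ofPred_eq, not_forall] at hx
    obtain ⟨Ω, _, _, ξ, hξ, hns⟩ := hx
    exact ⟨Ω, inferInstance, inferInstance, ξ, hξ, fun h => hns ((hφ ξ).mpr h)⟩

/-- **The support of a constructible sheaf is locally constructible.** -/
theorem isLocallyConstructible_supp (F : EtCoh.Ab X) (hF : EtPBC.IsConstructible F) :
    IsLocallyConstructible (EtPBC.supp F) := by
  intro x
  obtain ⟨U, hU, hxU⟩ : ∃ U : X.Opens, IsAffineOpen U ∧ x ∈ U := by
    obtain ⟨_, ⟨U, hU, rfl⟩, hxU, -⟩ :=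
      (X.isBasis_affineOpens).exists_subset_of_mem_open (Set.mem_univ x) isOpen_univ
    exact ⟨U, hU, hxU⟩
  refine ⟨(U : Set X), U.isOpen.mem_nhds hxU, U.isOpen, ?_⟩
  haveI : IsAffine (U : Scheme.{u}) := hU
  have hZ : IsZero ((EtCoh.pull U.ι).obj (0 : EtCoh.Ab X)) :=
    Functor.map_isZero (EtCoh.pull U.ι) (isZero_zero _)
  have hc := isConstructible_surjLocus ((EtCoh.pull U.ι).map (0 : (0 : EtCoh.Ab X) ⟶ F))
    (isConstructible_of_isZero _ hZ) (Groth.Agent.S0127.result U.ι F hF)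
  have e : ∀ t : (U : Scheme.{u}), (U.ι t ∈ EtPBC.supp F ↔
      t ∈ (surjLocus ((EtCoh.pull U.ι).map (0 : (0 : EtCoh.Ab X) ⟶ F)))ᶜ) := by
    intro t
    rw [mem_supp_iff F (isZero_zero _) (0 : (0 : EtCoh.Ab X) ⟶ F), Set.mem_compl_iff,
      mem_surjLocus_pull_iff U.ι]
  have e' : ((Subtype.val : ↥(U : Set X) → X) ⁻¹' EtPBC.supp F) =
      (surjLocus ((EtCoh.pull U.ι).map (0 : (0 : EtCoh.Ab X) ⟶ F)))ᶜ :=
    Set.ext (fun t => e t)
  rw [e']
  exact hc.compl

end Groth.Agent.Lib.Helper8EtSuppConstr
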