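import Mathlib
import Groth.Prelude.Def_PBC
import Groth.Agent.Lib.Helper8EtArrowSpec
import Groth.Agent.Lib.Helper8EtSuppConstr

/-!
# The loci where the geometric stalks of an étale sheaf have a given cardinality (helper8)

* `isLocallyConstructible_cardLocus`: for a constructible sheaf they are locally constructible.
* `isConstructible_of_cardLocus`: on a locally Noetherian scheme a sheaf with finite stalks whose
  cardinality loci are locally constructible is constructible.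
-/

set_option autoImplicit false
open CategoryTheory CategoryTheory.Limits AlgebraicGeometry Opposite Topology
universe u

namespace Groth.Agent.Lib.Helper8EtCardLocus

open Groth.Agent.Lib.Helper16.EtStalk Groth.Agent.Lib.Helper16.SmallEtale
  Groth.Agent.Lib.Helper16.StalkPull Groth.Agent.Lib.Helper8EtFLCCrit
  Groth.Agent.Lib.Helper8EtFLCKer Groth.Agent.Lib.Helper8EtFLCExt
  Groth.Agent.Lib.Helper8EtConstr Groth.Agent.Lib.Helper8EtConstrCover
  Groth.Agent.Lib.Helper8EtSurjLocus Groth.Agent.Lib.Helper8EtSpecArrow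
  Groth.Agent.Lib.Helper8EtCospec Groth.Agent.Lib.Helper8EtArrowSpec

variable {X : Scheme.{u}}

/-- the locus where some geometric stalk has exactly `n` elements -/
def cardLocus (F : EtCoh.Ab X) (n : ℕ) : Set X :=
  {x : X | ∃ (Ω : Type u) (_ : Field Ω) (_ : IsSepClosed Ω) (ξ : Spec (CommRingCat.of Ω) ⟶ X),
    Set.range ξ = {x} ∧ Nat.card ((EtCoh.stalk ξ).obj F) = n}

lemma geomPt_default {Ω : Type u} [Field Ω] (ξ : Spec (CommRingCat.of Ω) ⟶ X) {x : X}
    (hξ : Set.range ξ = {x}) : ξ (default : Spec (CommRingCat.of Ω)) = x := by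
  have := range_geomPt ξ
  rw [hξ] at this
  exact (Set.singleton_eq_singleton_iff.mp this).symm

set_option backward.isDefEq.respectTransparency.types false in
lemma card_pull {T : Scheme.{u}} (g : T ⟶ X) (F : EtCoh.Ab X)
    {Ω : Type u} [Field Ω] [IsSepClosed Ω] (ξ' : Spec (CommRingCat.of Ω) ⟶ T) :
    Nat.card ((EtCoh.stalk ξ').obj ((EtCoh.pull g).obj F) : Type (u + 1)) =
      Nat.card ((EtCoh.stalk (ξ' ≫ g)).obj F : Type (u + 1)) :=
  (Nat.card_congr (Equiv.ofBijective _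
    (bijective_of_iso ((Groth.Agent.S0101.stalkPullIso g ξ').app F)))).symm

set_option backward.isDefEq.respectTransparency.types false in
lemma mem_cardLocus_pull_iff {T : Scheme.{u}} (g : T ⟶ X) [IsImmersion g] (F : EtCoh.Ab X)
    (n : ℕ) (t : T) : t ∈ cardLocus ((EtCoh.pull g).obj F) n ↔ g t ∈ cardLocus F n := by
  constructor
  · rintro ⟨Ω, _, _, ξ', hξ', hc⟩
    have h0 := geomPt_default ξ' hξ'
    refine ⟨Ω, inferInstance, inferInstance, ξ' ≫ g, ?_, ?_⟩
    · rw [range_geomPt, Scheme.Hom.comp_apply, h0]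
    · rw [← card_pull g F ξ']
      exact hc
  · rintro ⟨Ω, _, _, ξ, hξ, hc⟩
    obtain ⟨ξ', rfl⟩ := exists_lift_immersion ξ g (by
      rw [hξ]
      exact Set.singleton_subset_iff.mpr ⟨t, rfl⟩)
    have h0 : g (ξ' (default : Spec (CommRingCat.of Ω))) = g t := by
      have h1 := geomPt_default (ξ' ≫ g) hξ
      rwa [Scheme.Hom.comp_apply] at h1
    refine ⟨Ω, inferInstance, inferInstance, ξ', ?_, ?_⟩
    · rw [range_geomPt, g.isEmbedding.injective h0]
    · rw [card_pull g F ξ']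
      exact hc

set_option backward.isDefEq.respectTransparency.types false in
/-- the cardinality of a stalk computed on a chart -/
lemma card_of_chart {G : EtCoh.Ab X} {W : X.Etale} {M : Type} [AddCommGroup M]
    {φ : M →+ G.obj.obj (op W)} (hφ : GermBij G W M φ)
    {Ω : Type u} [Field Ω] [IsSepClosed Ω] (ξ : Spec (CommRingCat.of Ω) ⟶ X)
    (t : (Scheme.pointSmallEtale ξ).fiber.obj W) :
    Nat.card ((EtCoh.stalk ξ).obj G : Type (u + 1)) = Nat.card M :=
  (Nat.card_congr (Equiv.ofBijective _ (hφ Ω ξ t))).symm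

set_option backward.isDefEq.respectTransparency.types false in
lemma exists_nbhd_card (G : EtCoh.Ab X) (hG : FLC G) (n : ℕ) (x : X) :
    ∃ N : Set X, IsOpen N ∧ x ∈ N ∧ (N ⊆ cardLocus G n ∨ N ⊆ (cardLocus G n)ᶜ) := by
  obtain ⟨ι, U, hU, hch⟩ := hG
  obtain ⟨i, y, hy⟩ := hU x
  obtain ⟨M, _, _, φ, hφ⟩ := hch i
  haveI : Etale (U i).hom := (U i).prop
  refine ⟨Set.range (U i).hom, (U i).hom.isOpenMap.isOpen_range, ⟨y, hy⟩, ?_⟩
  by_cases hn : Nat.card M = n
  · left
    rintro _ ⟨y', rfl⟩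
    obtain ⟨Ω, _, _, ξ, t, ht⟩ := exists_geometric_point (U i) y'
    have h0 : ξ (default : Spec (CommRingCat.of Ω)) = (U i).hom y' := by
      rw [← hom_base_fiber ξ (U i) t, ht]
    refine ⟨Ω, inferInstance, inferInstance, ξ, ?_, ?_⟩
    · rw [range_geomPt, h0]
    · rw [card_of_chart hφ ξ t, hn]
  · right
    rintro _ ⟨y', rfl⟩ ⟨Ω, _, _, ξ, hξ, hc⟩
    have h0 := geomPt_default ξ hξ
    obtain ⟨t, -⟩ := Scheme.pointSmallEtaleFiberObjToPreimage_surjective ξ h0 (U i) ⟨y', rfl⟩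
    rw [card_of_chart hφ ξ t] at hc
    exact hn hc

lemma isClopen_cardLocus (G : EtCoh.Ab X) (hG : FLC G) (n : ℕ) : IsClopen (cardLocus G n) := by
  constructor
  · rw [← isOpen_compl_iff, isOpen_iff_forall_mem_open]
    intro x hx
    obtain ⟨N, hN, hxN, h | h⟩ := exists_nbhd_card G hG n x
    · exact absurd (h hxN) hx
    · exact ⟨N, h, hN, hxN⟩
  · rw [isOpen_iff_forall_mem_open]
    intro x hx
    obtain ⟨N, hN, hxN, h | h⟩ := exists_nbhd_card G hG n x
    · exact ⟨N, h, hN, hxN⟩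
    · exact absurd hx (h hxN)

/-- **The cardinality loci of a constructible sheaf are constructible** (qcqs case). -/
theorem isConstructible_cardLocus [CompactSpace X] [QuasiSeparatedSpace X] (F : EtCoh.Ab X)
    (hF : EtPBC.IsConstructible F) (n : ℕ) : IsConstructible (cardLocus F n) := by
  obtain ⟨ι, _, T, g, h1, h2, -, h4, h5⟩ := strat_univ_of_isConstructible F hF
  haveI := h1
  have hc : ∀ i, IsConstructible (Set.range (g i)) := by
    intro i
    have k := (h2 i).image_of_isOpenEmbedding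
      (isOpen_univ (X := X)).isOpenEmbedding_subtypeVal (by
        rw [Subtype.range_coe]
        exact IsRetrocompact.univ)
    rwa [Subtype.image_preimage_coe, Set.univ_inter] at k
  have hcomp : ∀ i, CompactSpace (T i) := fun i => by
    rw [← isCompact_univ_iff, (g i).isEmbedding.isCompact_iff, Set.image_univ]
    exact isCompact_of_isConstructible (hc i)
  have hqs : ∀ i, QuasiSeparatedSpace (T i) := fun i =>
    quasiSeparatedSpace_of_quasiSeparated (g i)
  have hE : ∀ i, IsConstructible (g i '' cardLocus ((EtCoh.pull (g i)).obj F) n) := by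
    intro i
    haveI := hcomp i
    haveI := hqs i
    have hcl := isClopen_cardLocus ((EtCoh.pull (g i)).obj F) (h5 i) n
    exact isConstructible_image_of_isEmbedding (g i).isEmbedding (hc i)
      (hcl.1.isCompact.isConstructible hcl.2)
  have e : cardLocus F n = ⋃ i, g i '' cardLocus ((EtCoh.pull (g i)).obj F) n := by
    ext x
    constructor
    · intro hx
      have hx' : x ∈ ⋃ i, Set.range (g i) := by
        rw [h4]
        trivial
      obtain ⟨i, t, rfl⟩ := Set.mem_iUnion.mp hx'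
      exact Set.mem_iUnion.mpr ⟨i, t, (mem_cardLocus_pull_iff (g i) F n t).mpr hx, rfl⟩
    · intro hx
      obtain ⟨i, t, ht, rfl⟩ := Set.mem_iUnion.mp hx
      exact (mem_cardLocus_pull_iff (g i) F n t).mp ht
  rw [e]
  exact IsConstructible.iUnion hE

/-- **The cardinality loci of a constructible sheaf are locally constructible.** -/
theorem isLocallyConstructible_cardLocus (F : EtCoh.Ab X) (hF : EtPBC.IsConstructible F) (n : ℕ) :
    IsLocallyConstructible (cardLocus F n) := by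
  intro x
  obtain ⟨U, hU, hxU⟩ : ∃ U : X.Opens, IsAffineOpen U ∧ x ∈ U := by
    obtain ⟨_, ⟨U, hU, rfl⟩, hxU, -⟩ :=
      (X.isBasis_affineOpens).exists_subset_of_mem_open (Set.mem_univ x) isOpen_univ
    exact ⟨U, hU, hxU⟩
  refine ⟨(U : Set X), U.isOpen.mem_nhds hxU, U.isOpen, ?_⟩
  haveI : IsAffine (U : Scheme.{u}) := hU
  have hc := isConstructible_cardLocus ((EtCoh.pull U.ι).obj F)
    (Groth.Agent.S0127.result U.ι F hF) n
  have e' : ((Subtype.val : ↥(U : Set X) → X) ⁻¹' cardLocus F n) =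
      cardLocus ((EtCoh.pull U.ι).obj F) n :=
    Set.ext (fun t => (mem_cardLocus_pull_iff U.ι F n t).symm)
  rw [e']
  exact hc

section Topology

/-- a constructible set contains, with each of its points `y`, a neighbourhood of `y` in the
closure of `y` -/
lemma exists_open_inter_closure_subset_top {α : Type*} [TopologicalSpace α] [CompactSpace α]
    [QuasiSeparatedSpace α] {ι : Type*} [Nonempty ι] (b : ι → Set α)
    (basis : TopologicalSpace.IsTopologicalBasis (Set.range b)) (hb : ∀ i, IsCompact (b i))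
    {s : Set α} (hs : IsConstructible s) :
    ∀ y ∈ s, ∃ V : Set α, IsOpen V ∧ y ∈ V ∧ V ∩ closure {y} ⊆ s := by
  induction s, hs using IsConstructible.induction_of_isTopologicalBasis b basis hb with
  | sdiff i t ht =>
    rintro y ⟨hy1, hy2⟩
    refine ⟨b i, basis.isOpen ⟨i, rfl⟩, hy1, ?_⟩
    rintro z ⟨hz1, hz2⟩
    refine ⟨hz1, fun hz3 => hy2 ?_⟩
    obtain ⟨j, hj, hzj⟩ := Set.mem_iUnion₂.mp hz3
    have hspec : y ⤳ z := specializes_iff_mem_closure.mpr hz2
    exact Set.mem_iUnion₂.mpr ⟨j, hj, hspec.mem_open (basis.isOpen ⟨j, rfl⟩) hzj⟩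
  | union s hs t ht ihs iht =>
    rintro y (hy | hy)
    · obtain ⟨V, hV, hyV, hsub⟩ := ihs y hy
      exact ⟨V, hV, hyV, hsub.trans Set.subset_union_left⟩
    · obtain ⟨V, hV, hyV, hsub⟩ := iht y hy
      exact ⟨V, hV, hyV, hsub.trans Set.subset_union_right⟩

/-- scheme version, for locally constructible sets -/
lemma exists_open_inter_closure_subset (S : Set X) (hS : IsLocallyConstructible S) (x : X)
    (hx : x ∈ S) : ∃ V : X.Opens, x ∈ V ∧ (V : Set X) ∩ closure {x} ⊆ S := by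
  obtain ⟨U, hU, hUo, hUc⟩ := hS x
  obtain ⟨A, hA, hxA, hAU⟩ : ∃ A : X.Opens, IsAffineOpen A ∧ x ∈ A ∧ (A : Set X) ⊆ U := by
    obtain ⟨_, ⟨A, hA, rfl⟩, hxA, hAU⟩ :=
      (X.isBasis_affineOpens).exists_subset_of_mem_open (mem_of_mem_nhds hU) hUo
    exact ⟨A, hA, hxA, hAU⟩
  have hSA : IsConstructible ((Subtype.val : ↥(A : Set X) → X) ⁻¹' S) :=
    isConstructible_val_preimage_of_open hAU A.isOpen hUc
  haveI : IsAffine (A : Scheme.{u}) := hA
  have hbasis := (A : Scheme.{u}).isBasis_affineOpens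
  haveI : Nonempty (A : Scheme.{u}).affineOpens := ⟨⟨⊥, isAffineOpen_bot _⟩⟩
  have hSA' : IsConstructible (show Set (A : Scheme.{u}) from
      (Subtype.val : ↥(A : Set X) → X) ⁻¹' S) := hSA
  obtain ⟨V', hV', hxV', hsub⟩ := exists_open_inter_closure_subset_top
    (α := (A : Scheme.{u})) (fun B : (A : Scheme.{u}).affineOpens => ((B : (A : Scheme.{u}).Opens) :
      Set (A : Scheme.{u})))
    (by
      have := hbasis
      rw [TopologicalSpace.Opens.IsBasis, Set.image_eq_range] at this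
      exact this)
    (fun B => B.2.isCompact) hSA' ⟨x, hxA⟩ hx
  refine ⟨⟨Subtype.val '' V', A.isOpen.isOpenMap_subtype_val V' hV'⟩, ⟨⟨x, hxA⟩, hxV', rfl⟩, ?_⟩
  rintro _ ⟨⟨z, hz, rfl⟩, hz2⟩
  have : z ∈ closure ({⟨x, hxA⟩} : Set ↥(A : Set X)) := by
    rw [closure_subtype, Set.image_singleton]
    exact hz2
  exact hsub ⟨hz, this⟩

end Topology

set_option backward.isDefEq.respectTransparency.types false in
set_option maxHeartbeats 1600000 in
/-- **Constructibility from locally constructible cardinality loci** (locally Noetherian base,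
finite stalks). -/
theorem isConstructible_of_cardLocus [IsLocallyNoetherian X] (F : EtCoh.Ab X)
    (hfin : ∀ (Ω : Type u) [Field Ω] [IsSepClosed Ω] (ξ : Spec (CommRingCat.of Ω) ⟶ X),
      Finite ((EtCoh.stalk ξ).obj F : Type (u + 1)))
    (hE : ∀ n : ℕ, IsLocallyConstructible (cardLocus F n)) :
    EtPBC.IsConstructible F := by
  apply Groth.Agent.Lib.Helper8EtConstrNoeth.isConstructible_of_pointwise F
  intro x
  obtain ⟨Ω₀, _, _, ξ₀, t₀, ht₀⟩ := exists_geometric_point (Scheme.Etale.mk (𝟙 X)) x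
  have hξ₀ : ξ₀ (default : Spec (CommRingCat.of Ω₀)) = x := by
    rw [← hom_base_fiber ξ₀ (Scheme.Etale.mk (𝟙 X)) t₀, ht₀]
    rfl
  obtain ⟨M, _, _, W, g, w, φ, hw, hb⟩ :=
    exists_chart_of_finite_stalk F ξ₀ (Scheme.Etale.mk (𝟙 X)) t₀ (hfin Ω₀ ξ₀)
  obtain ⟨n, hn⟩ : ∃ n : ℕ, Nat.card M = n := ⟨_, rfl⟩
  have hn₀ : Nat.card ((EtCoh.stalk ξ₀).obj F : Type (u + 1)) = n := by
    rw [← hn]
    exact (Nat.card_congr (Equiv.ofBijective _ hb)).symm
  have hxE : x ∈ cardLocus F n :=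
    ⟨Ω₀, inferInstance, inferInstance, ξ₀, by rw [range_geomPt, hξ₀], hn₀⟩
  obtain ⟨V₂, hxV₂, hV₂⟩ := exists_open_inter_closure_subset (cardLocus F n) (hE n) x hxE
  haveI : Etale W.hom := W.prop
  haveI : IsLocallyNoetherian W.left :=
    @LocallyOfFiniteType.isLocallyNoetherian W.left X W.hom _ _
  have hWu : W.hom (ctr ξ₀ w) = x := by
    rw [← hξ₀]
    exact hom_base_fiber ξ₀ W w
  obtain ⟨f, hf⟩ : ∃ f : W.left ⟶ X, f = W.hom := ⟨_, rfl⟩
  haveI : Etale f := by rw [hf]; infer_instance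
  obtain ⟨O₁, huO₁, hO₁⟩ := exists_open_specializes f (ctr ξ₀ w)
  obtain ⟨O, hOeq⟩ : ∃ O : W.left.Opens, O = O₁ ⊓ f ⁻¹ᵁ V₂ := ⟨_, rfl⟩
  have huO : ctr ξ₀ w ∈ O := by
    rw [hOeq]
    refine ⟨huO₁, ?_⟩
    change f (ctr ξ₀ w) ∈ V₂
    rw [hf, hWu]
    exact hxV₂
  obtain ⟨V, hV⟩ : ∃ V : X.Opens, (V : Set X) = W.hom '' (O : Set W.left) :=
    ⟨⟨W.hom '' (O : Set W.left), W.hom.isOpenMap _ O.isOpen⟩, rfl⟩
  obtain ⟨T, g', hg', hr⟩ := Groth.Agent.Lib.Helper8EtConstrCover.exists_immersion_range V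
    ⟨closure {x}, isClosed_closure⟩
  haveI := hg'
  have hxV : x ∈ V := by
    change x ∈ (V : Set X)
    rw [hV]
    exact ⟨ctr ξ₀ w, huO, hWu⟩
  refine ⟨V, T, g', hg', hxV, hr, ?_⟩
  let W' : X.Etale := Scheme.Etale.mk (O.ι ≫ W.hom)
  let jO : W' ⟶ W := MorphismProperty.Over.homMk O.ι rfl (by simp)
  refine ⟨PUnit, fun _ => (EtCoh.bc g').obj W', ?_, fun _ => ⟨M, inferInstance, inferInstance, _,
    germBij_pull_of_pointwise g' (φ := (F.obj.map jO.op).hom.comp φ) ?_⟩⟩
  · -- covering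
    intro t'
    have ht' : g' t' ∈ Set.range g' := ⟨t', rfl⟩
    rw [hr] at ht'
    have h1 : g' t' ∈ W.hom '' (O : Set W.left) := by rw [← hV]; exact ht'.1
    obtain ⟨v, hvO, hv⟩ := h1
    obtain ⟨v', hv'⟩ : ∃ v' : (O : Scheme.{u}), O.ι v' = v := by
      have : v ∈ Set.range O.ι := by rw [Scheme.Opens.range_ι]; exact hvO
      exact this
    have hy : W'.hom v' = g' t' := by
      change (O.ι ≫ W.hom) v' = g' t'
      rw [Scheme.Hom.comp_apply, hv', hv]
    obtain ⟨z, hz1, hz2⟩ := Scheme.Pullback.exists_preimage_pullback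
      (f := W'.hom) (g := g') v' t' hy
    exact ⟨PUnit.unit, z, hz2⟩
  · -- bijectivity of germs
    intro Ω _ _ ξ' u'
    obtain ⟨s, hs⟩ : ∃ s, (Scheme.pointSmallEtale (ξ' ≫ g')).fiber.map jO u' = s := ⟨_, rfl⟩
    have hgerm : (fun m : M => germ (ξ' ≫ g') F W' u' (((F.obj.map jO.op).hom.comp φ) m)) =
        fun m : M => germ (ξ' ≫ g') F W s (φ m) := by
      funext m
      exact germ_map (ξ' ≫ g') F jO u' s hs (φ m)
    rw [hgerm]
    have hsO : ctr (ξ' ≫ g') s ∈ O := by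
      rw [← hs]
      change O.ι (ctr (ξ' ≫ g') u') ∈ O
      have : O.ι (ctr (ξ' ≫ g') u') ∈ Set.range O.ι := ⟨_, rfl⟩
      rwa [Scheme.Opens.range_ι] at this
    have hbase : W.hom (ctr (ξ' ≫ g') s) =
        (ξ' ≫ g') (default : Spec (CommRingCat.of Ω)) := hom_base_fiber (ξ' ≫ g') W s
    have hcl : (ξ' ≫ g') (default : Spec (CommRingCat.of Ω)) ∈ closure {x} := by
      rw [Scheme.Hom.comp_apply]
      have : g' (ξ' (default : Spec (CommRingCat.of Ω))) ∈ Set.range g' := ⟨_, rfl⟩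
      rw [hr] at this
      exact this.2
    have hsx : x ⤳ W.hom (ctr (ξ' ≫ g') s) := by
      rw [hbase]
      exact specializes_iff_mem_closure.mpr hcl
    rw [hOeq] at hsO
    have hspec : ctr ξ₀ w ⤳ ctr (ξ' ≫ g') s := hO₁ _ hsO.1 (by rw [hf, hWu]; exact hsx)
    obtain ⟨ψ, hψ⟩ := exists_arrow (ξ' ≫ g') ξ₀ W s w hspec
    -- injectivity
    have hinj : Function.Injective (fun m : M => germ (ξ' ≫ g') F W s (φ m)) := by
      intro m m' hmm
      apply hb.1
      change germ ξ₀ F W w (φ m) = germ ξ₀ F W w (φ m')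
      rw [← hψ, ← sheafFiber_germ, ← sheafFiber_germ]
      exact congrArg _ hmm
    -- cardinality
    have hmemV₂ : (ξ' ≫ g') (default : Spec (CommRingCat.of Ω)) ∈ (V₂ : Set X) := by
      rw [← hbase, ← hf]
      exact hsO.2
    obtain ⟨Ω₂, _, _, ζ, hζ, hcζ⟩ := hV₂ ⟨hmemV₂, hcl⟩
    have hζ0 := geomPt_default ζ hζ
    have hcard : Nat.card ((EtCoh.stalk (ξ' ≫ g')).obj F : Type (u + 1)) = Nat.card M := by
      rw [hn, ← hcζ]
      exact card_stalk_eq_of_same_center (ξ' ≫ g') ζ F hζ0.symm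
    haveI := hfin Ω (ξ' ≫ g')
    exact hinj.bijective_of_nat_card_le hcard.le

end Groth.Agent.Lib.Helper8EtCardLocus
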