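import Mathlib
import Groth.Prelude.Def_EtCech
import Groth.Agent.Lib.Helper8CechPushGen
import Groth.Agent.Lib.Helper16SmallEtale

/-!
# Čech cohomology of a direct image on the small étale site (helper8)

`surj_bc`: base change of a jointly surjective family is jointly surjective;
`isZero_cechH_push`: `Ȟ^p(Vf, f_*F) = 0` as soon as `Ȟ^p` of `F` vanishes for the base-changed family.
-/

set_option autoImplicit false
set_option linter.unusedSectionVars false
universe u
open CategoryTheory CategoryTheory.Limits AlgebraicGeometry Opposite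

namespace Groth.Agent.Lib.Helper8EtCechPush
open Groth.Agent.Lib.Helper16.SmallEtale Groth.Agent.Lib.Helper8CechPushGen

variable {X Y : Scheme.{u}} (f : X ⟶ Y)

/-- a jointly surjective family gives a covering sieve -/
lemma ofArrows_mem {V : Y.Etale} {ι : Type (u + 1)} (Vf : ι → Over V)
    (hV : ∀ x : ↥(V.left), ∃ (i : ι) (y : ↥((Vf i).left.left)), (Vf i).hom.left.base y = x) :
    Sieve.ofArrows (fun i => (Vf i).left) (fun i => (Vf i).hom) ∈ Y.smallEtaleTopology V := by
  rw [mem_smallEtale_iff]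
  intro x
  obtain ⟨i, y, hy⟩ := hV x
  exact ⟨(Vf i).left, (Vf i).hom, y, Sieve.ofArrows_mk _ _ i, hy⟩

/-- a covering family is jointly surjective -/
lemma surj_of_mem {V : Y.Etale} {ι : Type (u + 1)} (Vf : ι → Over V)
    (h : Sieve.ofArrows (fun i => (Vf i).left) (fun i => (Vf i).hom) ∈ Y.smallEtaleTopology V) :
    ∀ x : ↥(V.left), ∃ (i : ι) (y : ↥((Vf i).left.left)), (Vf i).hom.left.base y = x := by
  rw [mem_smallEtale_iff] at h
  intro x
  obtain ⟨W, g, y, hg, hy⟩ := h x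
  rw [Sieve.mem_ofArrows_iff] at hg
  obtain ⟨i, a, rfl⟩ := hg
  exact ⟨i, a.left.base y, hy⟩

/-- base change of a jointly surjective family is jointly surjective -/
lemma surj_bc {V : Y.Etale} {ι : Type (u + 1)} (Vf : ι → Over V)
    (hV : ∀ x : ↥(V.left), ∃ (i : ι) (y : ↥((Vf i).left.left)), (Vf i).hom.left.base y = x) :
    ∀ x : ↥(((EtCoh.bc f).obj V).left), ∃ (i : ι) (y : ↥((uY (EtCoh.bc f) Vf i).left.left)),
      (uY (EtCoh.bc f) Vf i).hom.left.base y = x := by
  have h2 := (EtCoh.coverPreserving_bc f).cover_preserve (ofArrows_mem Vf hV)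
  rw [mem_smallEtale_iff] at h2
  intro x
  obtain ⟨W, g, y, hg, hy⟩ := h2 x
  obtain ⟨Z, a, b, ha, rfl⟩ := hg
  rw [Sieve.mem_ofArrows_iff] at ha
  obtain ⟨i, c, rfl⟩ := ha
  refine ⟨i, (b ≫ (EtCoh.bc f).map c).left.base y, ?_⟩
  have e : b ≫ (EtCoh.bc f).map (c ≫ (Vf i).hom) =
      (b ≫ (EtCoh.bc f).map c) ≫ (EtCoh.bc f).map (Vf i).hom := by
    rw [Functor.map_comp, Category.assoc]
  rw [e] at hy
  exact hy

/-- Čech cohomology of a direct image -/
theorem isZero_cechH_push [∀ U : X.Etale, HasFiniteProducts (Over U)]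
    [∀ V : Y.Etale, HasFiniteProducts (Over V)] (F : EtCoh.Ab X)
    (hF : ∀ (U : X.Etale) (ι : Type (u + 1)) (Uf : ι → Over U),
      (∀ x : ↥(U.left), ∃ (i : ι) (y : ↥((Uf i).left.left)), (Uf i).hom.left.base y = x) →
      ∀ p : ℕ, 0 < p → IsZero (EtCech.cechH Uf F.obj p))
    (V : Y.Etale) (ι : Type (u + 1)) (Vf : ι → Over V)
    (hV : ∀ x : ↥(V.left), ∃ (i : ι) (y : ↥((Vf i).left.left)), (Vf i).hom.left.base y = x)
    (p : ℕ) (hp : 0 < p) :
    IsZero (EtCech.cechH Vf ((EtCoh.push f).obj F).obj p) := by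
  haveI : PreservesFiniteProducts (Over.post (X := V) (EtCoh.bc f)) := inferInstance
  have h := hF ((EtCoh.bc f).obj V) ι (uY (EtCoh.bc f) Vf) (surj_bc f Vf hV) p hp
  exact Groth.Agent.Lib.Helper8CechPushGen.isZero_cechH_push (EtCoh.bc f) Vf F.obj p h

end Groth.Agent.Lib.Helper8EtCechPush
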