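import Mathlib
import Groth.Prelude.Def_EtCech
import Groth.Agent.Lib.Helper8CechSurj
import Groth.Agent.Lib.Helper8EtCechPush

/-!
# Čech-flasque étale sheaves and short exact sequences (helper8)

`IsCechFlasque F`: all positive-degree Čech cohomology of `F` for all jointly surjective families
vanishes.  `sections_surjective_of_flasque`, `presheaf_shortExact`, `cechFlasque_X3`.
-/

set_option autoImplicit false
set_option linter.unusedSectionVars false
universe u
open CategoryTheory CategoryTheory.Limits AlgebraicGeometry Opposite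

namespace Groth.Agent.Lib.Helper8EtCechSES
open Groth.Agent.Lib.Helper8EtCechPush Groth.Agent.Lib.Helper9.CechDelta

variable {X : Scheme.{u}} [∀ U : X.Etale, HasFiniteProducts (Over U)]

/-- flasque in the Čech sense -/
def IsCechFlasque (F : EtCoh.Ab X) : Prop :=
  ∀ (U : X.Etale) (ι : Type (u + 1)) (Uf : ι → Over U),
    (∀ x : ↥(U.left), ∃ (i : ι) (y : ↥((Uf i).left.left)), (Uf i).hom.left.base y = x) →
    ∀ p : ℕ, 0 < p → IsZero (EtCech.cechH Uf F.obj p)

variable (S : ShortComplex (EtCoh.Ab X)) (hS : S.ShortExact)

include hS in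
/-- sections of the quotient by a Čech-flasque sheaf lift -/
theorem sections_surjective_of_flasque (h1 : IsCechFlasque S.X₁) (W : X.Etale) :
    Function.Surjective (S.g.hom.app (op W)).hom :=
  Groth.Agent.Lib.Helper8CechSurj.sections_surjective (J := X.smallEtaleTopology) hS W
    (fun ι Y hY => h1 W ι Y (surj_of_mem Y hY) 1 Nat.one_pos)

include hS in
/-- the sequence is exact as a sequence of presheaves -/
theorem presheaf_shortExact (h1 : IsCechFlasque S.X₁) :
    (S.map (sheafToPresheaf X.smallEtaleTopology AddCommGrpCat.{u + 1})).ShortExact where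
  exact := hS.exact.map_of_mono_of_preservesKernel _ hS.mono_f inferInstance
  mono_f := by
    haveI := hS.mono_f
    exact (sheafToPresheaf X.smallEtaleTopology AddCommGrpCat.{u + 1}).map_mono S.f
  epi_g := by
    haveI : ∀ V : X.Etaleᵒᵖ,
        Epi ((S.map (sheafToPresheaf X.smallEtaleTopology AddCommGrpCat.{u + 1})).g.app V) :=
      fun V => (AddCommGrpCat.epi_iff_surjective _).2
        (sections_surjective_of_flasque S hS h1 V.unop)
    exact NatTrans.epi_of_epi_app _

include hS in
/-- 2-out-of-3: the quotient of a Čech-flasque sheaf by a Čech-flasque subsheaf is Čech-flasque -/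
theorem cechFlasque_X3 (h1 : IsCechFlasque S.X₁) (h2 : IsCechFlasque S.X₂) :
    IsCechFlasque S.X₃ := by
  intro U ι Uf hU p hp
  have hG := shortExact_G Uf _ (presheaf_shortExact S hS h1)
  have hex := hG.homology_exact₃ p (p + 1) rfl
  exact hex.isZero_of_both_zeros ((h2 U ι Uf hU p hp).eq_of_src _ _)
    ((h1 U ι Uf hU (p + 1) (Nat.succ_pos p)).eq_of_tgt _ _)

end Groth.Agent.Lib.Helper8EtCechSES
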