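import Mathlib
import Groth.Agent.Lib.Helper8CechAug
import Groth.Agent.Lib.Helper8EtCechSES
import Groth.Agent.Lib.Helper8EtZarAcyc
import Groth.Agent.Lib.Helper16Flasque
import Groth.Agent.S0665

/-!
# Cartan's criterion on the small étale site: Čech-flasque ⟺ acyclic on all étale schemes (helper8)

`IsAcyc F`: `Ext^{n+1}(ℤ[h_W], F) = 0` for all étale `W` and all `n`.
`acyc_of_cechFlasque`, `cechFlasque_of_acyc`, `isAcyc_of_H`, `subsingleton_H_of_isAcyc`,
and `subsingleton_H_push`: the direct image of a sheaf acyclic on all étale schemes is again such.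
-/

set_option autoImplicit false
set_option linter.unusedSectionVars false
set_option linter.style.haveILetI false
universe u
open CategoryTheory CategoryTheory.Limits AlgebraicGeometry Opposite Abelian

namespace Groth.Agent.Lib.Helper8EtCechAcyc
open Groth.Agent.Lib.Helper8EtCechSES Groth.Agent.Lib.Helper8EtCechPush
  Groth.Agent.Lib.Helper9.CechDelta Groth.Agent.Lib.Helper8CechSurj Groth.Agent.Lib.Helper8CechAug
  Groth.Agent.Lib.Helper9.EtMV Groth.Agent.Lib.Helper9.EtPull

variable {X : Scheme.{u}}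

/-- acyclic on all étale `X`-schemes -/
def IsAcyc (F : EtCoh.Ab X) : Prop :=
  ∀ (W : X.Etale) (n : ℕ) (x : Ext.{u + 1} (Zh W) F (n + 1)), x = 0

/-- an injective sheaf is an injective presheaf. -/
lemma injective_presheaf (I : EtCoh.Ab X) [Injective I] : Injective I.obj :=
  Injective.injective_of_adjoint
    (sheafificationAdjunction X.smallEtaleTopology AddCommGrpCat.{u + 1}) I

theorem cechFlasque_of_injective (I : EtCoh.Ab X) [Injective I] : IsCechFlasque I := by
  intro U ι Uf hU p hp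
  haveI : LocallySmall.{u + 1} X.Etale := ⟨fun _ _ => inferInstance⟩
  haveI := injective_presheaf I
  obtain ⟨p, rfl⟩ : ∃ k, p = k + 1 := ⟨p - 1, by omega⟩
  exact Groth.Agent.S0665.result Uf I.obj p

/-- Čech-flasque sheaves are acyclic on all étale schemes -/
theorem acyc_of_cechFlasque (F : EtCoh.Ab X) (hF : IsCechFlasque F) : IsAcyc F := by
  intro W n
  refine Groth.Agent.Lib.Helper16.Flasque.ext_vanish (fun G : EtCoh.Ab X => IsCechFlasque G) (Zh W)
    (fun I _ => cechFlasque_of_injective I) (fun S hS h1 h2 => cechFlasque_X3 S hS h1 h2)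
    (fun S hS h1 x => ?_) n F hF
  obtain ⟨y0, hy0⟩ := sections_surjective_of_flasque S hS h1 W (zhEquiv W S.X₃ x)
  refine ⟨(zhEquiv W S.X₂).symm y0, ?_⟩
  apply (zhEquiv W S.X₃).injective
  rw [zhEquiv_comp, Equiv.apply_symm_apply, hy0]

section acyc

variable (S : ShortComplex (EtCoh.Ab X)) (hS : S.ShortExact)

include hS in
theorem acyc_X3 [Injective S.X₂] (h1 : IsAcyc S.X₁) : IsAcyc S.X₃ := by
  intro W n x
  obtain ⟨x₂, hx₂⟩ := Ext.covariant_sequence_exact₃ (Zh W) hS x rfl (h1 W (n + 1) _)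
  rw [← hx₂, Ext.eq_zero_of_injective x₂, Ext.zero_comp]

include hS in
theorem sections_surjective_of_acyc (h1 : IsAcyc S.X₁) (W : X.Etale) :
    Function.Surjective (S.g.hom.app (op W)).hom := by
  intro s
  obtain ⟨x₂, hx₂⟩ := Ext.covariant_sequence_exact₃ (Zh W) hS
    (Ext.mk₀ ((zhEquiv W S.X₃).symm s)) (zero_add 1) (h1 W 0 _)
  obtain ⟨y, rfl⟩ := (Ext.mk₀_bijective _ _).2 x₂
  rw [Ext.mk₀_comp_mk₀] at hx₂
  have h := (Ext.mk₀_bijective _ _).1 hx₂
  refine ⟨zhEquiv W S.X₂ y, ?_⟩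
  rw [← zhEquiv_comp, h, Equiv.apply_symm_apply]

include hS in
theorem presheaf_shortExact_of_acyc (h1 : IsAcyc S.X₁) :
    (S.map (sheafToPresheaf X.smallEtaleTopology AddCommGrpCat.{u + 1})).ShortExact where
  exact := hS.exact.map_of_mono_of_preservesKernel _ hS.mono_f inferInstance
  mono_f := by
    haveI := hS.mono_f
    exact (sheafToPresheaf X.smallEtaleTopology AddCommGrpCat.{u + 1}).map_mono S.f
  epi_g := by
    haveI : ∀ V : X.Etaleᵒᵖ,
        Epi ((S.map (sheafToPresheaf X.smallEtaleTopology AddCommGrpCat.{u + 1})).g.app V) :=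
      fun V => (AddCommGrpCat.epi_iff_surjective _).2
        (sections_surjective_of_acyc S hS h1 V.unop)
    exact NatTrans.epi_of_epi_app _

include hS in
/-- the degree-one case, by a diagram chase -/
theorem cechH1_X1 [Injective S.X₂] (h1 : IsAcyc S.X₁) (U : X.Etale) (ι : Type (u + 1))
    (Uf : ι → Over U)
    (hU : ∀ x : ↥(U.left), ∃ (i : ι) (y : ↥((Uf i).left.left)), (Uf i).hom.left.base y = x) :
    IsZero (EtCech.cechH Uf S.X₁.obj 1) := by
  refine isZero_homology_of_exists (EtCech.cechComplex Uf S.X₁.obj) 0 (fun c1' hc => ?_)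
  have hcov := ofArrows_mem Uf hU
  -- step 1
  let ac : (EtCech.cechComplex Uf S.X₂.obj).X 1 := (((G Uf).map S.f.hom).f 1).hom c1'
  have hdac : ((EtCech.cechComplex Uf S.X₂.obj).d 1 2).hom ac = 0 := by
    have hcomm := ConcreteCategory.congr_hom (((G Uf).map S.f.hom).comm 1 2) c1'
    rw [ConcreteCategory.comp_apply, ConcreteCategory.comp_apply] at hcomm
    have h1 : ((EtCech.cechComplex Uf S.X₂.obj).d 1 2).hom ((((G Uf).map S.f.hom).f 1).hom c1') =
        (((G Uf).map S.f.hom).f 2).hom (((EtCech.cechComplex Uf S.X₁.obj).d 1 2).hom c1') := hcomm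
    change ((EtCech.cechComplex Uf S.X₂.obj).d 1 2).hom ((((G Uf).map S.f.hom).f 1).hom c1') = 0
    rw [h1, hc, map_zero]
  -- step 2
  have hH := cechFlasque_of_injective S.X₂ U ι Uf hU 1 Nat.one_pos
  obtain ⟨c0, hc0⟩ := Groth.Agent.Lib.Helper16.CechLow.exists_of_isZero_homology Uf
    ((Over.forget U).op ⋙ S.X₂.obj) 0 hH ac hdac
  have hc0' : ((EtCech.cechComplex Uf S.X₂.obj).d 0 1).hom c0 = ac := hc0
  -- step 3
  let bc0 : (EtCech.cechComplex Uf S.X₃.obj).X 0 := (((G Uf).map S.g.hom).f 0).hom c0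
  have hdbc0 : ((EtCech.cechComplex Uf S.X₃.obj).d 0 1).hom bc0 = 0 := by
    have hcomm := ConcreteCategory.congr_hom (((G Uf).map S.g.hom).comm 0 1) c0
    rw [ConcreteCategory.comp_apply, ConcreteCategory.comp_apply] at hcomm
    have h1 : ((EtCech.cechComplex Uf S.X₃.obj).d 0 1).hom ((((G Uf).map S.g.hom).f 0).hom c0) =
        (((G Uf).map S.g.hom).f 1).hom (((EtCech.cechComplex Uf S.X₂.obj).d 0 1).hom c0) := hcomm
    change ((EtCech.cechComplex Uf S.X₃.obj).d 0 1).hom ((((G Uf).map S.g.hom).f 0).hom c0) = 0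
    rw [h1, hc0']
    exact cochain_zero Uf 1 c1'
  -- step 4
  obtain ⟨q, hq⟩ := exists_section_of_cocycle (J := X.smallEtaleTopology) S.X₃.obj S.X₃.property
    Uf hcov bc0 hdbc0
  -- step 5
  obtain ⟨i0, hi0⟩ := sections_surjective_of_acyc S hS h1 U q
  -- step 6
  let c0'' : (EtCech.cechComplex Uf S.X₂.obj).X 0 := c0 - aug Uf S.X₂.obj i0
  have hb : (((G Uf).map S.g.hom).f 0).hom c0'' = 0 := by
    change (((G Uf).map S.g.hom).f 0).hom (c0 - aug Uf S.X₂.obj i0) = 0
    rw [map_sub, map_aug, hi0, hq]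
    exact sub_self _
  obtain ⟨b0, hb0⟩ := exists_cochain_lift hS Uf 0 c0'' hb
  -- step 7
  refine ⟨b0, ?_⟩
  apply cochain_inj hS Uf 1
  have hcomm := ConcreteCategory.congr_hom (((G Uf).map S.f.hom).comm 0 1) b0
  rw [ConcreteCategory.comp_apply, ConcreteCategory.comp_apply] at hcomm
  have h2 : (((G Uf).map S.f.hom).f 1).hom (((EtCech.cechComplex Uf S.X₁.obj).d 0 1).hom b0) =
      ((EtCech.cechComplex Uf S.X₂.obj).d 0 1).hom ((((G Uf).map S.f.hom).f 0).hom b0) := hcomm.symm
  rw [h2, hb0]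
  change ((EtCech.cechComplex Uf S.X₂.obj).d 0 1).hom (c0 - aug Uf S.X₂.obj i0) = ac
  rw [map_sub, d_aug, sub_zero, hc0']

end acyc

/-- sheaves acyclic on all étale schemes are Čech-flasque -/
theorem cech_succ_of_acyc : ∀ (p : ℕ) (F : EtCoh.Ab X), IsAcyc F → ∀ (U : X.Etale)
    (ι : Type (u + 1)) (Uf : ι → Over U),
    (∀ x : ↥(U.left), ∃ (i : ι) (y : ↥((Uf i).left.left)), (Uf i).hom.left.base y = x) →
    IsZero (EtCech.cechH Uf F.obj (p + 1)) := by
  intro p
  induction p with
  | zero =>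
    intro F hF U ι Uf hU
    let S : ShortComplex (EtCoh.Ab X) := ShortComplex.mk (Injective.ι F)
      (cokernel.π (Injective.ι F)) (cokernel.condition _)
    have hS : S.ShortExact :=
      { exact := ShortComplex.exact_of_g_is_cokernel _ (cokernelIsCokernel _)
        mono_f := by dsimp [S]; infer_instance
        epi_g := by dsimp [S]; infer_instance }
    haveI : Injective S.X₂ := by dsimp [S]; infer_instance
    exact cechH1_X1 S hS hF U ι Uf hU
  | succ p ih =>
    intro F hF U ι Uf hU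
    let S : ShortComplex (EtCoh.Ab X) := ShortComplex.mk (Injective.ι F)
      (cokernel.π (Injective.ι F)) (cokernel.condition _)
    have hS : S.ShortExact :=
      { exact := ShortComplex.exact_of_g_is_cokernel _ (cokernelIsCokernel _)
        mono_f := by dsimp [S]; infer_instance
        epi_g := by dsimp [S]; infer_instance }
    haveI : Injective S.X₂ := by dsimp [S]; infer_instance
    have hQ : IsAcyc S.X₃ := acyc_X3 S hS hF
    have hG := shortExact_G Uf _ (presheaf_shortExact_of_acyc S hS hF)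
    have hex := hG.homology_exact₁ (p + 1) (p + 1 + 1) rfl
    exact hex.isZero_of_both_zeros ((ih S.X₃ hQ U ι Uf hU).eq_of_src _ _)
      ((cechFlasque_of_injective S.X₂ U ι Uf hU (p + 1 + 1) (Nat.succ_pos _)).eq_of_tgt _ _)

theorem cechFlasque_of_acyc (F : EtCoh.Ab X) (hF : IsAcyc F) : IsCechFlasque F := by
  intro U ι Uf hU p hp
  obtain ⟨p, rfl⟩ : ∃ k, p = k + 1 := ⟨p - 1, by omega⟩
  exact cech_succ_of_acyc p F hF U ι Uf hU

/-- vanishing of the cohomology of all étale schemes gives `IsAcyc` -/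
theorem isAcyc_of_H (F : EtCoh.Ab X)
    (hF : ∀ (W : X.Etale) (q : ℕ), 0 < q →
      Subsingleton (EtCoh.H W.left ((EtCoh.pull W.hom).obj F) q)) : IsAcyc F := by
  intro W n x
  haveI := Groth.Agent.Lib.Helper8EtZarAcyc.subsingleton_ext_Zh W F (n + 1)
    (hF W (n + 1) (Nat.succ_pos n))
  exact Subsingleton.elim _ _

/-- `IsAcyc` gives vanishing of the cohomology of all étale schemes -/
theorem subsingleton_H_of_isAcyc (F : EtCoh.Ab X) (hF : IsAcyc F) (W : X.Etale) (q : ℕ)
    (hq : 0 < q) : Subsingleton (EtCoh.H W.left ((EtCoh.pull W.hom).obj F) q) := by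
  haveI : Etale W.hom := W.prop
  haveI : EtShriek.JCont W.hom := Groth.Agent.Lib.Helper9.JContAll.jCont W.hom
  haveI : PreservesFiniteLimits (EtCoh.pull W.hom) := Groth.Agent.S0101.result W.hom
  obtain ⟨n, rfl⟩ : ∃ k, q = k + 1 := ⟨q - 1, by omega⟩
  haveI : Subsingleton (Ext.{u + 1} (Zh (obj W.hom)) F (n + 1)) :=
    ⟨fun x y => (hF (obj W.hom) n x).trans (hF (obj W.hom) n y).symm⟩
  exact (Phi W.hom F (n + 1)).symm.subsingleton

/-- the direct image of a sheaf acyclic on all étale schemes is acyclic on all étale schemes -/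
theorem subsingleton_H_push {Y : Scheme.{u}} (f : X ⟶ Y) (F : EtCoh.Ab X)
    (hF : ∀ (W : X.Etale) (q : ℕ), 0 < q →
      Subsingleton (EtCoh.H W.left ((EtCoh.pull W.hom).obj F) q))
    (W' : Y.Etale) (q : ℕ) (hq : 0 < q) :
    Subsingleton (EtCoh.H W'.left ((EtCoh.pull W'.hom).obj ((EtCoh.push f).obj F)) q) := by
  have h1 : IsCechFlasque F := cechFlasque_of_acyc F (isAcyc_of_H F hF)
  have h2 : IsCechFlasque ((EtCoh.push f).obj F) :=
    fun V ι Vf hV p hp => isZero_cechH_push f F h1 V ι Vf hV p hp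
  exact subsingleton_H_of_isAcyc _ (acyc_of_cechFlasque _ h2) W' q hq

end Groth.Agent.Lib.Helper8EtCechAcyc
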