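import Mathlib
import Groth.Prelude.Def_EtCech
import Groth.Agent.Lib.Helper8CechDisjGen
import Groth.Agent.Lib.Helper16SmallEtale

/-!
# Čech complex of a finite disjoint union on the small étale site (helper8)

`cechIso`: if the underlying scheme of `V : Over U` (`U : X.Etale`) is the coproduct of the
underlying schemes of a finite family `Uf i` over `U`, via `U`-morphisms `incl i : Uf i ⟶ V`, then
for every abelian étale sheaf `F` the Čech complex of the family is isomorphic to the Čech complex
of the single object `V`.
-/

set_option autoImplicit false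
set_option linter.unusedSectionVars false
universe u
open CategoryTheory CategoryTheory.Limits AlgebraicGeometry Opposite

namespace Groth.Agent.Lib.Helper8EtCechDisj
open Groth.Agent.Lib.Helper16.CechLow Groth.Agent.Lib.Helper16.SmallEtale

variable {X : Scheme.{u}} {U : X.Etale} {ι : Type (u + 1)} [Finite ι]
  (Uf : ι → Over U) (V : Over U) (incl : ∀ i, Uf i ⟶ V)
  (hV : IsColimit (Cofan.mk V.left.left fun i => (incl i).left.left))

/-- the underlying schemes of the family -/
abbrev gS : ι → Scheme.{u} := fun i => (Uf i).left.left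

/-- the comparison of `V` with the coproduct -/
noncomputable def eV : ∐ (gS Uf) ≅ V.left.left :=
  (colimit.isColimit (Discrete.functor (gS Uf))).coconePointUniqueUpToIso hV

lemma ι_eV (i : ι) : Sigma.ι (gS Uf) i ≫ (eV Uf V incl hV).hom = (incl i).left.left :=
  IsColimit.comp_coconePointUniqueUpToIso_hom (colimit.isColimit (Discrete.functor (gS Uf))) hV ⟨i⟩

include hV in
lemma isOpenImmersion_incl (i : ι) : IsOpenImmersion (incl i).left.left := by
  haveI : IsOpenImmersion (Sigma.ι (gS Uf) i) := (sigmaOpenCover (gS Uf)).map_prop i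
  rw [← ι_eV Uf V incl hV i]
  infer_instance

include hV in
lemma mono_incl (i : ι) : Mono (incl i) := by
  haveI : IsOpenImmersion (incl i).left.left := isOpenImmersion_incl Uf V incl hV i
  haveI : Mono (incl i).left.left := inferInstance
  haveI : Mono (incl i).left := by
    constructor
    intro Z a b hab
    apply MorphismProperty.Over.Hom.ext
    have h1 : (a ≫ (incl i).left).left = (b ≫ (incl i).left).left := congrArg (fun f => f.left) hab
    have h2 : a.left ≫ (incl i).left.left = b.left ≫ (incl i).left.left := h1
    exact (cancel_mono (incl i).left.left).1 h2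
  exact (Over.forget U).mono_of_mono_map (inferInstanceAs (Mono (incl i).left))

include hV in
lemma cov_incl : Sieve.ofArrows (fun i => (Uf i).left) (fun i => (incl i).left) ∈
    X.smallEtaleTopology V.left := by
  rw [mem_smallEtale_iff]
  intro x
  obtain ⟨i, y, hy⟩ := (sigmaOpenCover (gS Uf)).exists_eq ((eV Uf V incl hV).inv x)
  refine ⟨(Uf i).left, (incl i).left, y, Sieve.ofArrows_mk _ _ i, ?_⟩
  have h := ι_eV Uf V incl hV i
  have h2 : (incl i).left.left y = (eV Uf V incl hV).hom ((Sigma.ι (gS Uf) i) y) :=
    (congrArg (fun f => f.base y) h).symm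
  refine h2.trans ?_
  have h3 : (eV Uf V incl hV).hom ((Sigma.ι (gS Uf) i) y) =
      (eV Uf V incl hV).hom ((eV Uf V incl hV).inv x) := congrArg _ hy
  refine h3.trans ?_
  have h4 := congrArg (fun f => f.base x) (eV Uf V incl hV).inv_hom_id
  exact h4

include hV in
lemma disj_incl (i j : ι) (hij : i ≠ j) (T : X.Etale) (a : T ⟶ (Uf i).left) (b : T ⟶ (Uf j).left)
    (hab : a ≫ (incl i).left = b ≫ (incl j).left) : (⊥ : Sieve T) ∈ X.smallEtaleTopology T := by
  have h0 : a.left ≫ (incl i).left.left = b.left ≫ (incl j).left.left := by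
    have h1 : (a ≫ (incl i).left).left = (b ≫ (incl j).left).left := congrArg (fun f => f.left) hab
    exact h1
  have h1 : a.left ≫ Sigma.ι (gS Uf) i = b.left ≫ Sigma.ι (gS Uf) j := by
    rw [← cancel_mono (eV Uf V incl hV).hom, Category.assoc, Category.assoc,
      ι_eV Uf V incl hV i, ι_eV Uf V incl hV j]
    exact h0
  haveI : IsEmpty T.left := isEmpty_of_commSq_sigmaι_of_ne ⟨h1⟩ hij
  rw [mem_smallEtale_iff]
  intro x
  exact (IsEmpty.false (α := T.left) x).elim

include hV in
/-- the Čech complex of a finite disjoint union -/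
theorem cechIso [HasFiniteProducts (Over U)] (F : EtCoh.Ab X) :
    Nonempty (EtCech.cechComplex Uf F.obj ≅
      EtCech.cechComplex (fun _ : PUnit.{u + 2} => V) F.obj) := by
  haveI := Groth.Agent.Lib.Helper8CechDisjGen.refMap_isIso (J := X.smallEtaleTopology)
    F.obj Uf V incl F.property (cov_incl Uf V incl hV) (mono_incl Uf V incl hV)
    (disj_incl Uf V incl hV)
  exact ⟨(asIso (Groth.Agent.Lib.Helper8CechDisjGen.refMap F.obj Uf V incl)).symm⟩

end Groth.Agent.Lib.Helper8EtCechDisj
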