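import Groth.Agent.Lib.Helper9EtFpH

/-!
# Étale cohomology of coproducts on quasi-compact quasi-separated schemes (helper8)

`subsingleton_H_of_isColimit_cofan`: if `H^q(X, G i) = 0` for all `i` then `H^q(X, ∐ G) = 0`.
-/

set_option autoImplicit false
universe u
open CategoryTheory CategoryTheory.Limits AlgebraicGeometry Opposite

namespace Groth.Agent.Lib.Helper8EtCoprodH

variable (X : Scheme.{u})

instance additive_HF (n : ℕ) : (EtCoh.HF X n).Additive := by
  unfold EtCoh.HF
  infer_instance

/-- the colimit of a diagram of zero objects is zero -/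
theorem isZero_pt_of_isColimit {J C : Type*} [Category J] [Category C] [HasZeroMorphisms C]
    {D : J ⥤ C} (c : Cocone D) (hc : IsColimit c) (h : ∀ j, IsZero (D.obj j)) : IsZero c.pt := by
  rw [IsZero.iff_id_eq_zero]
  apply hc.hom_ext
  intro j
  exact (h j).eq_of_src _ _

/-- finite coproducts -/
theorem isZero_HF_finite_coprod {J : Type u} [Finite J] (G : J → EtCoh.Ab X) (q : ℕ)
    (hG : ∀ j, IsZero ((EtCoh.HF X q).obj (G j))) : IsZero ((EtCoh.HF X q).obj (∐ G)) := by
  haveI : PreservesColimit (Discrete.functor G) (EtCoh.HF X q) := inferInstance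
  have hc := isColimitOfPreserves (EtCoh.HF X q) (colimit.isColimit (Discrete.functor G))
  refine isZero_pt_of_isColimit _ hc ?_
  rintro ⟨j⟩
  exact hG j

open CoproductsFromFiniteFiltered in
/-- arbitrary coproducts on a quasi-compact quasi-separated scheme -/
theorem isZero_HF_coprod [CompactSpace X] [QuasiSeparatedSpace X] {I : Type u}
    (G : I → EtCoh.Ab X) (q : ℕ) (hG : ∀ i, IsZero ((EtCoh.HF X q).obj (G i))) :
    IsZero ((EtCoh.HF X q).obj (∐ G)) := by
  have hcol := isColimitFiniteSubproductsCocone G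
  haveI := Groth.Agent.Lib.Helper9.EtFp.preservesColimitsOfShape_HF' X q (Finset (Discrete I))
  have hcol2 := isColimitOfPreserves (EtCoh.HF X q) hcol
  refine isZero_pt_of_isColimit _ hcol2 ?_
  intro S
  exact isZero_HF_finite_coprod X (fun x : S => G x.1.as) q (fun x => hG _)

theorem subsingleton_H_of_isColimit_cofan [CompactSpace X] [QuasiSeparatedSpace X] {I : Type u}
    (G : I → EtCoh.Ab X) (q : ℕ) (hG : ∀ i, Subsingleton (EtCoh.H X (G i) q))
    (c : Cofan G) (hc : IsColimit c) : Subsingleton (EtCoh.H X c.pt q) := by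
  have h1 : IsZero ((EtCoh.HF X q).obj (∐ G)) :=
    isZero_HF_coprod X G q (fun i => by
      haveI := hG i
      exact AddCommGrpCat.isZero_of_subsingleton (AddCommGrpCat.of (EtCoh.H X (G i) q)))
  have e : (∐ G) ≅ c.pt := (colimit.isColimit _).coconePointUniqueUpToIso hc
  have h2 : IsZero ((EtCoh.HF X q).obj c.pt) := h1.of_iso ((EtCoh.HF X q).mapIso e.symm)
  exact AddCommGrpCat.subsingleton_of_isZero h2

end Groth.Agent.Lib.Helper8EtCoprodH
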