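import Mathlib
import Groth.Prelude.Def_EtBase
import Groth.Agent.S0101
import Groth.Agent.Lib.Helper16EtStalk
import Groth.Agent.Lib.Helper16StalkPull
import Groth.Agent.Lib.Helper22Thick2
import Groth.Agent.Lib.Helper8ClosedPush
import Groth.Agent.Lib.Helper9EtPull
import Groth.Agent.S0647
import Groth.Agent.S0651
import Groth.Agent.Lib.Helper16EtSupp

/-!
# Closed immersions and the small étale site: sheaves supported on a closed subscheme (helper8)

* `isZero_obj_of_isEmpty`: an abelian étale sheaf vanishes on empty étale schemes.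
* `isZero_push_obj`: `i_* G` vanishes on étale schemes missing the closed subscheme.
* `isZero_stalk_of_vanishing`: a sheaf vanishing on all étale schemes mapping into an open `W` has
  zero stalks at the geometric points of `W`.
* `exists_lift_geometric`: geometric points with image in a closed subscheme factor through it.
* `isIso_unit_of_vanishing`: if `F` vanishes on étale schemes missing `Z`, then `F ≅ i_* i^* F`.
-/

set_option autoImplicit false
set_option linter.style.haveILetI false
universe u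
open CategoryTheory CategoryTheory.Limits AlgebraicGeometry Opposite

namespace Groth.Agent.Lib.Helper8EtRecoll

open Groth.Agent.Lib.Helper16.EtStalk Groth.Agent.Lib.Helper16.SmallEtale

set_option backward.isDefEq.respectTransparency.types false in
/-- an abelian étale sheaf vanishes on empty étale schemes. -/
theorem isZero_obj_of_isEmpty {Z : Scheme.{u}} (G : EtCoh.Ab Z) (V : Z.Etale) [IsEmpty V.left] :
    IsZero (G.obj.obj (op V)) := by
  have hbot : (⊥ : Sieve V) ∈ Z.smallEtaleTopology V := by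
    rw [mem_smallEtale_iff]
    intro x
    exact (IsEmpty.false x).elim
  exact (Sheaf.isTerminalOfBotCover G V hbot).isZero

set_option backward.isDefEq.respectTransparency.types false in
/-- `i_* G` vanishes on étale schemes missing the closed subscheme. -/
theorem isZero_push_obj {Z X : Scheme.{u}} (i : Z ⟶ X) (G : EtCoh.Ab Z) (U : X.Etale)
    (h : Disjoint (Set.range U.hom.base) (Set.range i.base)) :
    IsZero (((EtCoh.push i).obj G).obj.obj (op U)) := by
  haveI : IsEmpty ((EtCoh.bc i).obj U).left := by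
    constructor
    intro x
    have h1 : U.hom ((pullback.fst U.hom i : ((EtCoh.bc i).obj U).left ⟶ U.left) x) =
        i ((pullback.snd U.hom i : ((EtCoh.bc i).obj U).left ⟶ Z) x) := by
      rw [← Scheme.Hom.comp_apply, ← Scheme.Hom.comp_apply, pullback.condition]
    exact Set.disjoint_left.mp h ⟨_, rfl⟩ ⟨_, h1.symm⟩
  exact isZero_obj_of_isEmpty G ((EtCoh.bc i).obj U)

set_option backward.isDefEq.respectTransparency.types false in
/-- a sheaf vanishing on all étale schemes mapping into an open `W` has zero stalks at the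
geometric points of `W`. -/
theorem isZero_stalk_of_vanishing {X : Scheme.{u}} (F : EtCoh.Ab X) (W : X.Opens)
    (hF : ∀ U : X.Etale, Set.range U.hom.base ⊆ (W : Set X) → IsZero (F.obj.obj (op U)))
    {Ω : Type u} [Field Ω] [IsSepClosed Ω] (ξ : Spec (CommRingCat.of Ω) ⟶ X)
    (hξ : ξ (default : Spec (CommRingCat.of Ω)) ∈ W) :
    IsZero ((EtCoh.stalk ξ).obj F) := by
  rw [AddCommGrpCat.isZero_iff_subsingleton]
  let Φ := Scheme.pointSmallEtale ξ
  suffices h : ∀ p : (EtCoh.stalk ξ).obj F, p = 0 from ⟨fun a b => (h a).trans (h b).symm⟩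
  intro p
  obtain ⟨V, v, s, rfl⟩ := Φ.toPresheafFiber_jointly_surjective (P := F.obj) p
  -- restrict `V` to the preimage of `W`
  let V' : X.Etale := Scheme.Etale.mk ((V.hom ⁻¹ᵁ W).ι ≫ V.hom)
  let g : V' ⟶ V := MorphismProperty.Over.homMk (V.hom ⁻¹ᵁ W).ι rfl
  have hv : (v.left : Spec (CommRingCat.of Ω) ⟶ V.left) ≫ V.hom = ξ := Over.w v
  have hrange : Set.range (v.left : Spec (CommRingCat.of Ω) ⟶ V.left).base ⊆
      Set.range (V.hom ⁻¹ᵁ W).ι.base := by
    rintro _ ⟨(a : Spec (CommRingCat.of Ω)), rfl⟩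
    have h0 : V.hom ((v.left : Spec (CommRingCat.of Ω) ⟶ V.left) a) ∈ W := by
      have e : V.hom ((v.left : Spec (CommRingCat.of Ω) ⟶ V.left) a) = ξ a :=
        congrArg (fun m : Spec (CommRingCat.of Ω) ⟶ X => m a) hv
      have e3 : ξ a = ξ default := congrArg _ (Subsingleton.elim a default)
      exact (e.trans e3) ▸ hξ
    have h2 : (v.left : Spec (CommRingCat.of Ω) ⟶ V.left) a ∈ ((V.hom ⁻¹ᵁ W : V.left.Opens) : Set V.left) := h0
    rw [← Scheme.Opens.range_ι] at h2
    exact h2
  let l : Spec (CommRingCat.of Ω) ⟶ (V.hom ⁻¹ᵁ W : V.left.Opens) :=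
    IsOpenImmersion.lift (V.hom ⁻¹ᵁ W).ι v.left hrange
  have hl : l ≫ (V.hom ⁻¹ᵁ W).ι = v.left := IsOpenImmersion.lift_fac _ _ _
  let v' : Φ.fiber.obj V' := Over.homMk l (by
    change l ≫ (V.hom ⁻¹ᵁ W).ι ≫ V.hom = ξ
    rw [← Category.assoc, hl]
    exact hv)
  have hvv : Φ.fiber.map g v' = v := by
    apply Over.OverMorphism.ext
    exact hl
  have hz : IsZero (F.obj.obj (op V')) := by
    apply hF
    rintro _ ⟨a, rfl⟩
    change V.hom ((V.hom ⁻¹ᵁ W).ι a) ∈ W
    exact a.2
  have h1 := Φ.toPresheafFiber_w_apply g v' F.obj s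
  rw [hvv] at h1
  rw [← h1]
  have : F.obj.map g.op s = 0 := by
    haveI := AddCommGrpCat.isZero_iff_subsingleton.mp hz
    exact Subsingleton.elim _ _
  rw [this]
  exact map_zero _

set_option backward.isDefEq.respectTransparency.types false in
/-- geometric points with image in a closed subscheme factor through it. -/
theorem exists_lift_geometric {Z X : Scheme.{u}} (i : Z ⟶ X) [IsClosedImmersion i]
    {Ω : Type u} [Field Ω] (ξ : Spec (CommRingCat.of Ω) ⟶ X)
    (hξ : ξ (default : Spec (CommRingCat.of Ω)) ∈ Set.range i.base) :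
    ∃ ζ : Spec (CommRingCat.of Ω) ⟶ Z, ζ ≫ i = ξ := by
  haveI : Surjective (pullback.snd i ξ) := by
    constructor
    intro a
    obtain ⟨z, hz⟩ := hξ
    obtain ⟨w, -, hw⟩ := Scheme.Pullback.exists_preimage_pullback (f := i) (g := ξ) z default hz
    exact ⟨w, hw.trans (Subsingleton.elim _ _)⟩
  obtain ⟨t₀, ht₀⟩ := Groth.Agent.Lib.Helper22.Thick.exists_lift_of_isReduced
    (𝟙 (Spec (CommRingCat.of Ω))) (pullback.snd i ξ)
  refine ⟨t₀ ≫ pullback.fst i ξ, ?_⟩
  rw [Category.assoc, pullback.condition, ← Category.assoc, ht₀, Category.id_comp]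

/-- the complement of a closed immersion as an open. -/
noncomputable def compl {Z X : Scheme.{u}} (i : Z ⟶ X) [IsClosedImmersion i] : X.Opens :=
  ⟨(Set.range i.base)ᶜ, i.isClosedEmbedding.isClosed_range.isOpen_compl⟩

theorem mem_compl {Z X : Scheme.{u}} (i : Z ⟶ X) [IsClosedImmersion i] (x : X) :
    x ∈ compl i ↔ x ∉ Set.range i.base := Iff.rfl

set_option backward.isDefEq.respectTransparency.types false in
/-- `i^*` of the unit `F ⟶ i_* i^* F` is an isomorphism, for a closed immersion `i`. -/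
theorem isIso_pull_map_unit {Z X : Scheme.{u}} (i : Z ⟶ X) [IsClosedImmersion i] (F : EtCoh.Ab X) :
    IsIso ((EtCoh.pull i).map ((EtCoh.pullPushAdj i).unit.app F)) := by
  haveI : (EtCoh.push i).Full := Groth.Agent.Lib.Helper8ClosedPush.full_push i
  haveI : (EtCoh.push i).Faithful := Groth.Agent.Lib.Helper8ClosedPush.faithful_push i
  haveI : IsIso ((EtCoh.pullPushAdj i).counit) := inferInstance
  have h := (EtCoh.pullPushAdj i).left_triangle_components F
  have e : (EtCoh.pull i).map ((EtCoh.pullPushAdj i).unit.app F) =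
      inv ((EtCoh.pullPushAdj i).counit.app ((EtCoh.pull i).obj F)) :=
    (IsIso.eq_inv_of_inv_hom_id h)
  rw [e]
  infer_instance

set_option backward.isDefEq.respectTransparency.types false in
/-- the stalk of the unit `F ⟶ i_* i^* F` at a geometric point of `Z` is bijective. -/
theorem bijective_stalk_unit {Z X : Scheme.{u}} (i : Z ⟶ X) [IsClosedImmersion i] (F : EtCoh.Ab X)
    {Ω : Type u} [Field Ω] [IsSepClosed Ω] (ζ : Spec (CommRingCat.of Ω) ⟶ Z) :
    Function.Bijective ((EtCoh.stalk (ζ ≫ i)).map ((EtCoh.pullPushAdj i).unit.app F)) := by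
  haveI := isIso_pull_map_unit i F
  have nat := (Groth.Agent.S0101.stalkPullIso i ζ).hom.naturality ((EtCoh.pullPushAdj i).unit.app F)
  haveI : IsIso ((EtCoh.pull i ⋙ EtCoh.stalk ζ).map ((EtCoh.pullPushAdj i).unit.app F)) := by
    change IsIso ((EtCoh.stalk ζ).map ((EtCoh.pull i).map ((EtCoh.pullPushAdj i).unit.app F)))
    infer_instance
  haveI : IsIso ((EtCoh.stalk (ζ ≫ i)).map ((EtCoh.pullPushAdj i).unit.app F)) := by
    have e : (EtCoh.stalk (ζ ≫ i)).map ((EtCoh.pullPushAdj i).unit.app F) =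
        (Groth.Agent.S0101.stalkPullIso i ζ).hom.app _ ≫
          (EtCoh.pull i ⋙ EtCoh.stalk ζ).map ((EtCoh.pullPushAdj i).unit.app F) ≫
          (Groth.Agent.S0101.stalkPullIso i ζ).inv.app _ := by
      rw [← Category.assoc, ← nat, Category.assoc, Iso.hom_inv_id_app, Category.comp_id]
    rw [e]
    infer_instance
  exact ConcreteCategory.bijective_of_isIso _

set_option backward.isDefEq.respectTransparency.types false in
/-- if `F` vanishes on all étale schemes missing the closed subscheme `Z`, the unit `F ⟶ i_* i^* F`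
is an isomorphism. -/
theorem isIso_unit_of_vanishing {Z X : Scheme.{u}} (i : Z ⟶ X) [IsClosedImmersion i]
    (F : EtCoh.Ab X)
    (hF : ∀ U : X.Etale, Disjoint (Set.range U.hom.base) (Set.range i.base) →
      IsZero (F.obj.obj (op U))) :
    IsIso ((EtCoh.pullPushAdj i).unit.app F) := by
  have hdisj : ∀ U : X.Etale, Set.range U.hom.base ⊆ (compl i : Set X) →
      Disjoint (Set.range U.hom.base) (Set.range i.base) := by
    intro U hU
    rw [Set.disjoint_left]
    intro x hx hx'
    exact hU hx hx'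
  have key : ∀ (Ω : Type u) [Field Ω] [IsSepClosed Ω] (ξ : Spec (CommRingCat.of Ω) ⟶ X),
      Function.Bijective ((EtCoh.stalk ξ).map ((EtCoh.pullPushAdj i).unit.app F)) := by
    intro Ω _ _ ξ
    by_cases hξ : ξ (default : Spec (CommRingCat.of Ω)) ∈ Set.range i.base
    · obtain ⟨ζ, rfl⟩ := exists_lift_geometric i ξ hξ
      exact bijective_stalk_unit i F ζ
    · have h1 : IsZero ((EtCoh.stalk ξ).obj F) :=
        isZero_stalk_of_vanishing F (compl i) (fun U hU => hF U (hdisj U hU)) ξ hξ
      have h2 : IsZero ((EtCoh.stalk ξ).obj ((EtCoh.push i).obj ((EtCoh.pull i).obj F))) :=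
        isZero_stalk_of_vanishing _ (compl i)
          (fun U hU => isZero_push_obj i _ U (hdisj U hU)) ξ hξ
      have s1 := AddCommGrpCat.isZero_iff_subsingleton.mp h1
      have s2 := AddCommGrpCat.isZero_iff_subsingleton.mp h2
      exact ⟨fun a b _ => s1.elim _ _, fun b => ⟨0, s2.elim _ _⟩⟩
  haveI : Mono ((EtCoh.pullPushAdj i).unit.app F) :=
    mono_of_stalks _ (fun Ω _ _ ξ => (key Ω ξ).1)
  haveI : Epi ((EtCoh.pullPushAdj i).unit.app F) :=
    epi_of_stalks _ (fun Ω _ _ ξ => (key Ω ξ).2)
  exact isIso_of_mono_of_epi _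

/-- exactness of a complex of abelian étale sheaves can be checked on geometric stalks. -/
theorem exact_of_stalks {X : Scheme.{u}} (S : ShortComplex (EtCoh.Ab X))
    (h : ∀ (Ω : Type u) [Field Ω] [IsSepClosed Ω] (ξ : Spec (CommRingCat.of Ω) ⟶ X),
      (S.map (EtCoh.stalk ξ)).Exact) : S.Exact := by
  rw [ShortComplex.exact_iff_isZero_homology]
  apply isZero_of_stalks
  intro Ω _ _ ξ
  have h1 := h Ω ξ
  rw [ShortComplex.exact_iff_isZero_homology] at h1
  exact h1.of_iso (S.mapHomologyIso (EtCoh.stalk ξ)).symm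

section Open

variable {U X : Scheme.{u}} (j : U ⟶ X) [IsOpenImmersion j] [AlgebraicGeometry.Etale j]
  [EtShriek.JCont j]

set_option backward.isDefEq.respectTransparency.types false in
/-- `j^*` of the counit `j_! j^* F ⟶ F` is an isomorphism, for an open immersion `j`. -/
theorem isIso_restr_map_counit (F : EtCoh.Ab X) :
    IsIso ((EtShriek.restrAlong j).map ((EtShriek.extZeroAdj j).counit.app F)) := by
  haveI : IsIso ((EtShriek.extZeroAdj j).unit.app ((EtShriek.restrAlong j).obj F)) :=
    (Groth.Agent.S0651.result j ((EtShriek.restrAlong j).obj F)).2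
  have h := (EtShriek.extZeroAdj j).right_triangle_components F
  have e : (EtShriek.restrAlong j).map ((EtShriek.extZeroAdj j).counit.app F) =
      inv ((EtShriek.extZeroAdj j).unit.app ((EtShriek.restrAlong j).obj F)) :=
    (IsIso.eq_inv_of_hom_inv_id h)
  rw [e]
  infer_instance

set_option backward.isDefEq.respectTransparency.types false in
/-- the stalk of the counit `j_! j^* F ⟶ F` at a geometric point of `U` is bijective. -/
theorem bijective_stalk_counit (F : EtCoh.Ab X)
    {Ω : Type u} [Field Ω] [IsSepClosed Ω] (ξ' : Spec (CommRingCat.of Ω) ⟶ U) :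
    Function.Bijective ((EtCoh.stalk (ξ' ≫ j)).map ((EtShriek.extZeroAdj j).counit.app F)) := by
  haveI := isIso_restr_map_counit j F
  have natρ := (Groth.Agent.Lib.Helper9.EtPull.rho j).hom.naturality
    ((EtShriek.extZeroAdj j).counit.app F)
  haveI : IsIso ((EtCoh.pull j).map ((EtShriek.extZeroAdj j).counit.app F)) := by
    have e : (EtCoh.pull j).map ((EtShriek.extZeroAdj j).counit.app F) =
        (Groth.Agent.Lib.Helper9.EtPull.rho j).hom.app _ ≫
          (EtShriek.restrAlong j).map ((EtShriek.extZeroAdj j).counit.app F) ≫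
          (Groth.Agent.Lib.Helper9.EtPull.rho j).inv.app _ := by
      rw [← Category.assoc, ← natρ, Category.assoc, Iso.hom_inv_id_app, Category.comp_id]
    rw [e]
    infer_instance
  have nat := (Groth.Agent.S0101.stalkPullIso j ξ').hom.naturality
    ((EtShriek.extZeroAdj j).counit.app F)
  haveI : IsIso ((EtCoh.pull j ⋙ EtCoh.stalk ξ').map ((EtShriek.extZeroAdj j).counit.app F)) := by
    change IsIso ((EtCoh.stalk ξ').map ((EtCoh.pull j).map ((EtShriek.extZeroAdj j).counit.app F)))
    infer_instance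
  haveI : IsIso ((EtCoh.stalk (ξ' ≫ j)).map ((EtShriek.extZeroAdj j).counit.app F)) := by
    have e : (EtCoh.stalk (ξ' ≫ j)).map ((EtShriek.extZeroAdj j).counit.app F) =
        (Groth.Agent.S0101.stalkPullIso j ξ').hom.app _ ≫
          (EtCoh.pull j ⋙ EtCoh.stalk ξ').map ((EtShriek.extZeroAdj j).counit.app F) ≫
          (Groth.Agent.S0101.stalkPullIso j ξ').inv.app _ := by
      rw [← Category.assoc, ← nat, Category.assoc, Iso.hom_inv_id_app, Category.comp_id]
    rw [e]
    infer_instance
  exact ConcreteCategory.bijective_of_isIso _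

set_option backward.isDefEq.respectTransparency.types false in
/-- the stalk of `j_! G` vanishes at geometric points outside `U`. -/
theorem isZero_stalk_extZero (G : EtCoh.Ab U)
    {Ω : Type u} [Field Ω] [IsSepClosed Ω] (ξ : Spec (CommRingCat.of Ω) ⟶ X)
    (hξ : ξ (default : Spec (CommRingCat.of Ω)) ∉ Set.range j.base) :
    IsZero ((EtCoh.stalk ξ).obj ((EtShriek.extZero j).obj G)) := by
  obtain ⟨e⟩ := Groth.Agent.S0647.result j G ξ
  refine IsZero.of_iso ?_ e
  haveI : IsEmpty {u : Spec (CommRingCat.of Ω) ⟶ U // u ≫ j = ξ} := by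
    constructor
    rintro ⟨u, hu⟩
    apply hξ
    refine ⟨u default, ?_⟩
    rw [← hu]
    rfl
  rw [IsZero.iff_id_eq_zero]
  apply Sigma.hom_ext
  intro b
  exact (IsEmpty.false b).elim

end Open

/-- an abelian étale sheaf all of whose groups of sections vanish is zero. -/
theorem isZero_of_sections {X : Scheme.{u}} (T : EtCoh.Ab X)
    (h : ∀ V : X.Etale, IsZero (T.obj.obj (op V))) : IsZero T := by
  rw [IsZero.iff_id_eq_zero]
  apply ObjectProperty.hom_ext
  apply NatTrans.ext
  funext V
  exact (h V.unop).eq_of_src _ _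

set_option backward.isDefEq.respectTransparency.types false in
/-- **recollement sequence**: `0 → j_! j^* F → F → i_* i^* F → 0` is short exact for a closed
immersion `i` with open complement `j`. -/
theorem recoll_shortExact {Z X : Scheme.{u}} (i : Z ⟶ X) [IsClosedImmersion i]
    (U : X.Opens) (hU : (U : Set X) = (Set.range i.base)ᶜ) [AlgebraicGeometry.Etale U.ι]
    [EtShriek.JCont U.ι] (F : EtCoh.Ab X) :
    ∃ w : (EtShriek.extZeroAdj U.ι).counit.app F ≫ (EtCoh.pullPushAdj i).unit.app F = 0,
      (ShortComplex.mk _ _ w).ShortExact := by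
  have hrange : Set.range U.ι.base = (Set.range i.base)ᶜ := by
    rw [Scheme.Opens.range_ι]; exact hU
  have hT : IsZero ((EtShriek.restrAlong U.ι).obj
      ((EtCoh.push i).obj ((EtCoh.pull i).obj F))) := by
    apply isZero_of_sections
    intro V
    refine isZero_push_obj i _ ((EtShriek.compEtale U.ι).obj V) ?_
    rw [Set.disjoint_left]
    rintro x ⟨v, rfl⟩ hx
    have h1 : ((EtShriek.compEtale U.ι).obj V).hom v ∈ Set.range U.ι.base :=
      ⟨V.hom v, rfl⟩
    rw [hrange] at h1
    exact h1 hx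
  have w : (EtShriek.extZeroAdj U.ι).counit.app F ≫ (EtCoh.pullPushAdj i).unit.app F = 0 := by
    apply ((EtShriek.extZeroAdj U.ι).homEquiv _ _).injective
    exact hT.eq_of_tgt _ _
  refine ⟨w, ?_⟩
  -- geometric points of `X` lie in `U` or in `Z`
  have hcase : ∀ (Ω : Type u) [Field Ω] [IsSepClosed Ω] (ξ : Spec (CommRingCat.of Ω) ⟶ X),
      (∃ ξ' : Spec (CommRingCat.of Ω) ⟶ U, ξ' ≫ U.ι = ξ) ∨
      (∃ ζ : Spec (CommRingCat.of Ω) ⟶ Z, ζ ≫ i = ξ) := by
    intro Ω _ _ ξ
    by_cases hξ : ξ (default : Spec (CommRingCat.of Ω)) ∈ Set.range i.base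
    · exact Or.inr (exists_lift_geometric i ξ hξ)
    · left
      have hr : Set.range ξ.base ⊆ Set.range U.ι.base := by
        rintro _ ⟨a, rfl⟩
        rw [hrange, Subsingleton.elim a default]
        exact hξ
      exact ⟨IsOpenImmersion.lift U.ι ξ hr, IsOpenImmersion.lift_fac _ _ _⟩
  -- stalks of the outer terms
  have hz1 : ∀ (Ω : Type u) [Field Ω] [IsSepClosed Ω] (ζ : Spec (CommRingCat.of Ω) ⟶ Z),
      IsZero ((EtCoh.stalk (ζ ≫ i)).obj
        ((EtShriek.extZero U.ι).obj ((EtShriek.restrAlong U.ι).obj F))) := by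
    intro Ω _ _ ζ
    apply isZero_stalk_extZero
    rw [hrange]
    intro h
    exact h ⟨ζ default, rfl⟩
  have hz3 : ∀ (Ω : Type u) [Field Ω] [IsSepClosed Ω] (ξ' : Spec (CommRingCat.of Ω) ⟶ U),
      IsZero ((EtCoh.stalk (ξ' ≫ U.ι)).obj ((EtCoh.push i).obj ((EtCoh.pull i).obj F))) := by
    intro Ω _ _ ξ'
    refine isZero_stalk_of_vanishing _ (compl i) (fun V hV => isZero_push_obj i _ V ?_) _ ?_
    · rw [Set.disjoint_left]
      intro x hx hx'
      exact hV hx hx'
    · have h1 : (ξ' ≫ U.ι) default ∈ Set.range U.ι.base := ⟨ξ' default, rfl⟩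
      rw [hrange] at h1
      exact h1
  have hmono : Mono ((EtShriek.extZeroAdj U.ι).counit.app F) := by
    apply mono_of_stalks
    intro Ω _ _ ξ
    rcases hcase Ω ξ with ⟨ξ', rfl⟩ | ⟨ζ, rfl⟩
    · exact (bijective_stalk_counit U.ι F ξ').1
    · have s1 := AddCommGrpCat.isZero_iff_subsingleton.mp (hz1 Ω ζ)
      exact fun a b _ => s1.elim _ _
  have hepi : Epi ((EtCoh.pullPushAdj i).unit.app F) := by
    apply epi_of_stalks
    intro Ω _ _ ξ
    rcases hcase Ω ξ with ⟨ξ', rfl⟩ | ⟨ζ, rfl⟩
    · have s3 := AddCommGrpCat.isZero_iff_subsingleton.mp (hz3 Ω ξ')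
      exact fun b => ⟨0, s3.elim _ _⟩
    · exact (bijective_stalk_unit i F ζ).2
  have hex : (ShortComplex.mk _ _ w).Exact := by
    apply exact_of_stalks
    intro Ω _ _ ξ
    rw [ShortComplex.ab_exact_iff]
    intro x₂ hx₂
    rcases hcase Ω ξ with ⟨ξ', rfl⟩ | ⟨ζ, rfl⟩
    · exact (bijective_stalk_counit U.ι F ξ').2 x₂
    · refine ⟨0, ?_⟩
      have h0 : x₂ = 0 := by
        apply (bijective_stalk_unit i F ζ).1
        exact hx₂.trans (map_zero _).symm
      rw [h0]
      exact map_zero _
  exact { exact := hex, mono_f := hmono, epi_g := hepi }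

section Supp

variable {Z X U : Scheme.{u}} (i : Z ⟶ X) [IsClosedImmersion i]
  (j : U ⟶ X) [IsOpenImmersion j]

set_option backward.isDefEq.respectTransparency.types false in
/-- `j^*` of the unit `F ⟶ j_* j^* F` is an isomorphism, for an open immersion `j`. -/
theorem isIso_pull_map_unit_open (F : EtCoh.Ab X) :
    IsIso ((EtCoh.pull j).map ((EtCoh.pullPushAdj j).unit.app F)) := by
  haveI : IsIso ((EtCoh.pullPushAdj j).counit.app ((EtCoh.pull j).obj F)) :=
    (Groth.Agent.S0651.result j ((EtCoh.pull j).obj F)).1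
  have h := (EtCoh.pullPushAdj j).left_triangle_components F
  have e : (EtCoh.pull j).map ((EtCoh.pullPushAdj j).unit.app F) =
      inv ((EtCoh.pullPushAdj j).counit.app ((EtCoh.pull j).obj F)) :=
    (IsIso.eq_inv_of_inv_hom_id h)
  rw [e]
  infer_instance

set_option backward.isDefEq.respectTransparency.types false in
/-- the stalk of the unit `F ⟶ j_* j^* F` at a geometric point of `U` is bijective. -/
theorem bijective_stalk_unit_open (F : EtCoh.Ab X)
    {Ω : Type u} [Field Ω] [IsSepClosed Ω] (ξ' : Spec (CommRingCat.of Ω) ⟶ U) :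
    Function.Bijective ((EtCoh.stalk (ξ' ≫ j)).map ((EtCoh.pullPushAdj j).unit.app F)) := by
  haveI := isIso_pull_map_unit_open j F
  have nat := (Groth.Agent.S0101.stalkPullIso j ξ').hom.naturality ((EtCoh.pullPushAdj j).unit.app F)
  haveI : IsIso ((EtCoh.pull j ⋙ EtCoh.stalk ξ').map ((EtCoh.pullPushAdj j).unit.app F)) := by
    change IsIso ((EtCoh.stalk ξ').map ((EtCoh.pull j).map ((EtCoh.pullPushAdj j).unit.app F)))
    infer_instance
  haveI : IsIso ((EtCoh.stalk (ξ' ≫ j)).map ((EtCoh.pullPushAdj j).unit.app F)) := by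
    have e : (EtCoh.stalk (ξ' ≫ j)).map ((EtCoh.pullPushAdj j).unit.app F) =
        (Groth.Agent.S0101.stalkPullIso j ξ').hom.app _ ≫
          (EtCoh.pull j ⋙ EtCoh.stalk ξ').map ((EtCoh.pullPushAdj j).unit.app F) ≫
          (Groth.Agent.S0101.stalkPullIso j ξ').inv.app _ := by
      rw [← Category.assoc, ← nat, Category.assoc, Iso.hom_inv_id_app, Category.comp_id]
    rw [e]
    infer_instance
  exact ConcreteCategory.bijective_of_isIso _

set_option backward.isDefEq.respectTransparency.types false in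
/-- the sheaf `H_Z(F) = ker (F ⟶ j_* j^* F)` of sections supported on the closed complement of `U`
has zero stalks at the geometric points of `U`. -/
theorem isZero_stalk_kernel_unit (F : EtCoh.Ab X)
    {Ω : Type u} [Field Ω] [IsSepClosed Ω] (ξ' : Spec (CommRingCat.of Ω) ⟶ U) :
    IsZero ((EtCoh.stalk (ξ' ≫ j)).obj (kernel ((EtCoh.pullPushAdj j).unit.app F))) := by
  rw [AddCommGrpCat.isZero_iff_subsingleton]
  have hinj : Function.Injective ((EtCoh.stalk (ξ' ≫ j)).map
      (kernel.ι ((EtCoh.pullPushAdj j).unit.app F))) := by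
    rw [← AddCommGrpCat.mono_iff_injective]
    infer_instance
  refine ⟨fun a b => hinj ?_⟩
  apply (bijective_stalk_unit_open j F ξ').1
  have hz : (EtCoh.stalk (ξ' ≫ j)).map (kernel.ι ((EtCoh.pullPushAdj j).unit.app F)) ≫
      (EtCoh.stalk (ξ' ≫ j)).map ((EtCoh.pullPushAdj j).unit.app F) = 0 := by
    rw [← Functor.map_comp, kernel.condition, Functor.map_zero]
  have ha := ConcreteCategory.congr_hom hz a
  have hb := ConcreteCategory.congr_hom hz b
  rw [ConcreteCategory.comp_apply] at ha hb
  exact ha.trans hb.symm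

set_option backward.isDefEq.respectTransparency.types false in
/-- `H_Z(F) = ker (F ⟶ j_* j^* F)` vanishes on étale schemes missing `Z`. -/
theorem isZero_kernel_unit_obj (hZU : Set.range j.base = (Set.range i.base)ᶜ) (F : EtCoh.Ab X)
    (V : X.Etale) (hV : Disjoint (Set.range V.hom.base) (Set.range i.base)) :
    IsZero ((kernel ((EtCoh.pullPushAdj j).unit.app F)).obj.obj (op V)) := by
  rw [AddCommGrpCat.isZero_iff_subsingleton]
  suffices h : ∀ τ : (kernel ((EtCoh.pullPushAdj j).unit.app F)).obj.obj (op V), τ = 0 from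
    ⟨fun a b => (h a).trans (h b).symm⟩
  intro τ
  apply Groth.Agent.Lib.Helper16.EtSupp.section_eq_zero_of_germs
  intro Ω _ _ ζ x
  have hx : (x.left : Spec (CommRingCat.of Ω) ⟶ V.left) ≫ V.hom = ζ := Over.w x
  have hr : Set.range ζ.base ⊆ Set.range j.base := by
    rintro _ ⟨a, rfl⟩
    rw [hZU]
    intro ha
    refine Set.disjoint_left.mp hV ⟨(x.left : Spec (CommRingCat.of Ω) ⟶ V.left) a, ?_⟩ ha
    exact congrArg (fun m : Spec (CommRingCat.of Ω) ⟶ X => m a) hx
  obtain ⟨ξ', rfl⟩ : ∃ ξ' : Spec (CommRingCat.of Ω) ⟶ U, ξ' ≫ j = ζ :=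
    ⟨IsOpenImmersion.lift j ζ hr, IsOpenImmersion.lift_fac _ _ _⟩
  have s1 := AddCommGrpCat.isZero_iff_subsingleton.mp (isZero_stalk_kernel_unit j F ξ')
  exact s1.elim _ _

set_option backward.isDefEq.respectTransparency.types false in
/-- `j^* i_* G = 0` when the images of `i` and `j` are disjoint. -/
theorem isZero_pull_push (hZU : Set.range j.base = (Set.range i.base)ᶜ) (G : EtCoh.Ab Z) :
    IsZero ((EtCoh.pull j).obj ((EtCoh.push i).obj G)) := by
  have hT : IsZero ((EtShriek.restrAlong j).obj ((EtCoh.push i).obj G)) := by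
    apply isZero_of_sections
    intro V
    refine isZero_push_obj i _ ((EtShriek.compEtale j).obj V) ?_
    rw [Set.disjoint_left]
    rintro x ⟨v, rfl⟩ hx
    have h1 : ((EtShriek.compEtale j).obj V).hom v ∈ Set.range j.base := ⟨V.hom v, rfl⟩
    rw [hZU] at h1
    exact h1 hx
  exact hT.of_iso ((Groth.Agent.Lib.Helper9.EtPull.rho j).app _)

set_option backward.isDefEq.respectTransparency.types false in
/-- **`i^* H_Z(I)` is injective** for an injective abelian étale sheaf `I`. -/
theorem injective_pull_kernel_unit (hZU : Set.range j.base = (Set.range i.base)ᶜ)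
    (I : EtCoh.Ab X) [Injective I] :
    Injective ((EtCoh.pull i).obj (kernel ((EtCoh.pullPushAdj j).unit.app I))) := by
  haveI : (EtCoh.push i).Full := Groth.Agent.Lib.Helper8ClosedPush.full_push i
  haveI : (EtCoh.push i).Faithful := Groth.Agent.Lib.Helper8ClosedPush.faithful_push i
  haveI hu : IsIso ((EtCoh.pullPushAdj i).unit.app (kernel ((EtCoh.pullPushAdj j).unit.app I))) :=
    isIso_unit_of_vanishing i _ (fun V hV => isZero_kernel_unit_obj i j hZU I V hV)
  constructor
  intro A B g f hf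
  -- `g : A ⟶ i^* K`, `f : A ⟶ B` mono
  haveI : Mono ((EtCoh.push i).map f) := inferInstance
  obtain ⟨h', hh'⟩ : ∃ h' : (EtCoh.push i).obj B ⟶ I, (EtCoh.push i).map f ≫ h' =
      (EtCoh.push i).map g ≫
        inv ((EtCoh.pullPushAdj i).unit.app (kernel ((EtCoh.pullPushAdj j).unit.app I))) ≫
        kernel.ι ((EtCoh.pullPushAdj j).unit.app I) :=
    ⟨Injective.factorThru _ ((EtCoh.push i).map f), Injective.comp_factorThru _ _⟩
  have hz : h' ≫ (EtCoh.pullPushAdj j).unit.app I = 0 := by
    apply ((EtCoh.pullPushAdj j).homEquiv _ _).symm.injective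
    exact (isZero_pull_push i j hZU B).eq_of_src _ _
  let h'' : (EtCoh.push i).obj B ⟶ kernel ((EtCoh.pullPushAdj j).unit.app I) :=
    kernel.lift _ h' hz
  have hh'' : h'' ≫ kernel.ι ((EtCoh.pullPushAdj j).unit.app I) = h' := kernel.lift_ι _ _ _
  obtain ⟨h, hh⟩ := (EtCoh.push i).map_surjective
    (h'' ≫ (EtCoh.pullPushAdj i).unit.app (kernel ((EtCoh.pullPushAdj j).unit.app I)))
  refine ⟨h, ?_⟩
  apply (EtCoh.push i).map_injective
  rw [Functor.map_comp, hh, ← Category.assoc]
  have e1 : (EtCoh.push i).map f ≫ h'' = (EtCoh.push i).map g ≫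
      inv ((EtCoh.pullPushAdj i).unit.app (kernel ((EtCoh.pullPushAdj j).unit.app I))) := by
    rw [← cancel_mono (kernel.ι ((EtCoh.pullPushAdj j).unit.app I)), Category.assoc, hh'', hh',
      Category.assoc]
  rw [e1, Category.assoc, IsIso.inv_hom_id, Category.comp_id]

end Supp

end Groth.Agent.Lib.Helper8EtRecoll
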