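import Mathlib
import Groth.Agent.Lib.Helper8EtRecoll
import Groth.Agent.Lib.Helper9ExtZeroBC
import Groth.Agent.S0652

/-!
# Stalks of direct images along finite morphisms vanish where the sheaf does (helper8)

* `isClosed_sectSupp`: the support of a section of an abelian étale sheaf is closed.
* `exists_restrict_nbhd`: shrinking an étale neighbourhood of a geometric point to an open.
* `isZero_stalk_push_of_finite`: for finite `f : X ⟶ Y`, if the geometric stalks of `H` vanish over
  the complement of `V₀ ⊆ Y`, so do those of `f_* H`.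
* `push_extZero_iso`: `f_* j'_! F ≅ j_! g_* F` for a cartesian square with `f` finite and `j` an open
  immersion.
-/

set_option autoImplicit false
set_option linter.style.haveILetI false
universe u
open CategoryTheory CategoryTheory.Limits AlgebraicGeometry Opposite

namespace Groth.Agent.Lib.Helper8EtFinPush

open Groth.Agent.Lib.Helper16.EtStalk Groth.Agent.Lib.Helper16.SmallEtale
open Groth.Agent.Lib.Helper16.StalkPull Groth.Agent.Lib.Helper16.EtSupp

set_option backward.isDefEq.respectTransparency.types false in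
/-- the support of a section of an abelian étale sheaf is closed. -/
theorem isClosed_sectSupp {X : Scheme.{u}} (F : EtCoh.Ab X) (U : X.Etale)
    (s : F.obj.obj (op U)) : IsClosed (EtShriek.sectSupp F U s) := by
  rw [← isOpen_compl_iff, isOpen_iff_forall_mem_open]
  intro x hx
  simp only [EtShriek.sectSupp, Set.mem_compl_iff, Set.mem_ofPred_eq, not_forall, not_not] at hx
  obtain ⟨N, g, ⟨n, hn⟩, hg⟩ := hx
  refine ⟨Set.range g.left.base, ?_, g.left.isOpenMap.isOpen_range, ⟨n, hn⟩⟩
  rintro _ ⟨n', rfl⟩ hmem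
  exact hmem N g ⟨n', rfl⟩ hg

set_option backward.isDefEq.respectTransparency.types false in
/-- shrinking an étale neighbourhood of a geometric point to an open subscheme. -/
theorem exists_restrict_nbhd {Y : Scheme.{u}} {Ω : Type u} [Field Ω] [IsSepClosed Ω]
    (ξ : Spec (CommRingCat.of Ω) ⟶ Y) (W : Y.Etale) (w : (Scheme.pointSmallEtale ξ).fiber.obj W)
    (T : W.left.Opens)
    (hw : (w.left : Spec (CommRingCat.of Ω) ⟶ W.left) (default : Spec (CommRingCat.of Ω)) ∈ T) :
    ∃ (W' : Y.Etale) (g : W' ⟶ W) (w' : (Scheme.pointSmallEtale ξ).fiber.obj W'),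
      (Scheme.pointSmallEtale ξ).fiber.map g w' = w ∧ ∀ a : W'.left, g.left a ∈ T := by
  let W' : Y.Etale := Scheme.Etale.mk (T.ι ≫ W.hom)
  let g : W' ⟶ W := MorphismProperty.Over.homMk T.ι rfl
  have hv : (w.left : Spec (CommRingCat.of Ω) ⟶ W.left) ≫ W.hom = ξ := Over.w w
  have hrange : Set.range (w.left : Spec (CommRingCat.of Ω) ⟶ W.left).base ⊆
      Set.range T.ι.base := by
    rintro _ ⟨(a : Spec (CommRingCat.of Ω)), rfl⟩
    have h2 : (w.left : Spec (CommRingCat.of Ω) ⟶ W.left) a ∈ (T : Set W.left) := by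
      rw [Subsingleton.elim a default]; exact hw
    rw [← Scheme.Opens.range_ι] at h2
    exact h2
  let l : Spec (CommRingCat.of Ω) ⟶ (T : W.left.Opens) :=
    IsOpenImmersion.lift T.ι w.left hrange
  have hl : l ≫ T.ι = w.left := IsOpenImmersion.lift_fac _ _ _
  let w' : (Scheme.pointSmallEtale ξ).fiber.obj W' := Over.homMk l (by
    change l ≫ T.ι ≫ W.hom = ξ
    rw [← Category.assoc, hl]
    exact hv)
  refine ⟨W', g, w', ?_, ?_⟩
  · apply Over.OverMorphism.ext
    exact hl
  · intro a
    exact a.2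

set_option backward.isDefEq.respectTransparency.types false in
/-- for a finite morphism `f : X ⟶ Y`, if the geometric stalks of `H` vanish at the points over the
complement of `V₀ ⊆ Y`, then the geometric stalks of `f_* H` vanish over the complement of `V₀`. -/
theorem isZero_stalk_push_of_finite {X Y : Scheme.{u}} (f : X ⟶ Y) [IsFinite f] (H : EtCoh.Ab X)
    (V₀ : Set Y)
    (hH : ∀ (Ω' : Type u) [Field Ω'] [IsSepClosed Ω'] (ζ : Spec (CommRingCat.of Ω') ⟶ X),
      f (ζ (default : Spec (CommRingCat.of Ω'))) ∉ V₀ → IsZero ((EtCoh.stalk ζ).obj H))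
    {Ω : Type u} [Field Ω] [IsSepClosed Ω] (ξ : Spec (CommRingCat.of Ω) ⟶ Y)
    (hξ : ξ (default : Spec (CommRingCat.of Ω)) ∉ V₀) :
    IsZero ((EtCoh.stalk ξ).obj ((EtCoh.push f).obj H)) := by
  rw [AddCommGrpCat.isZero_iff_subsingleton]
  let Φ := Scheme.pointSmallEtale ξ
  suffices h : ∀ p : (EtCoh.stalk ξ).obj ((EtCoh.push f).obj H), p = 0 from
    ⟨fun a b => (h a).trans (h b).symm⟩
  intro p
  obtain ⟨W, w, s, rfl⟩ := Φ.toPresheafFiber_jointly_surjective
    (P := ((EtCoh.push f).obj H).obj) p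
  let s' : H.obj.obj (op ((EtCoh.bc f).obj W)) := s
  have hS : IsClosed (EtShriek.sectSupp H ((EtCoh.bc f).obj W) s') := isClosed_sectSupp H _ s'
  have hT : IsClosed ((pullback.fst W.hom f).base '' (EtShriek.sectSupp H ((EtCoh.bc f).obj W) s')) :=
    (pullback.fst W.hom f).isClosedMap _ hS
  let T : W.left.Opens := ⟨_, hT.isOpen_compl⟩
  have hwξ : (w.left : Spec (CommRingCat.of Ω) ⟶ W.left) ≫ W.hom = ξ := Over.w w
  have hwT : (w.left : Spec (CommRingCat.of Ω) ⟶ W.left) (default : Spec (CommRingCat.of Ω)) ∈ T := by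
    rintro ⟨x, hxS, hx⟩
    obtain ⟨Ω', _, _, ζ, x₀, hx₀⟩ := exists_geometric_point ((EtCoh.bc f).obj W) x
    have hζ : (x₀.left : Spec (CommRingCat.of Ω') ⟶ ((EtCoh.bc f).obj W).left) ≫
        ((EtCoh.bc f).obj W).hom = ζ := Over.w x₀
    have h1 : f (ζ (default : Spec (CommRingCat.of Ω'))) ∉ V₀ := by
      have e1 : ζ (default : Spec (CommRingCat.of Ω')) = ((EtCoh.bc f).obj W).hom x := by
        rw [← hx₀]
        exact (congrArg (fun m : Spec (CommRingCat.of Ω') ⟶ X => m default) hζ).symm
      have e2 : f (((EtCoh.bc f).obj W).hom x) = W.hom ((pullback.fst W.hom f) x) :=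
        (congrArg (fun m : ((EtCoh.bc f).obj W).left ⟶ Y => m x)
          (pullback.condition (f := W.hom) (g := f))).symm
      have e3 : W.hom ((w.left : Spec (CommRingCat.of Ω) ⟶ W.left)
          (default : Spec (CommRingCat.of Ω))) = ξ (default : Spec (CommRingCat.of Ω)) :=
        congrArg (fun m : Spec (CommRingCat.of Ω) ⟶ Y => m (default : Spec (CommRingCat.of Ω))) hwξ
      rw [e1, e2, hx, e3]
      exact hξ
    have s1 := AddCommGrpCat.isZero_iff_subsingleton.mp (hH Ω' ζ h1)
    exact (germ_eq_zero_iff H ζ ((EtCoh.bc f).obj W) x₀ s' x hx₀).mp (s1.elim _ _) hxS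
  obtain ⟨W', g, w', hw', hgT⟩ := exists_restrict_nbhd ξ W w T hwT
  have h1 := Φ.toPresheafFiber_w_apply g w' ((EtCoh.push f).obj H).obj s
  rw [hw'] at h1
  rw [← h1]
  have hz : ((EtCoh.push f).obj H).obj.map g.op s = 0 := by
    change H.obj.map ((EtCoh.bc f).map g).op s' = 0
    apply section_eq_zero_of_germs
    intro Ω'' _ _ ζ x'
    have h2 := (Scheme.pointSmallEtale ζ).toPresheafFiber_w_apply ((EtCoh.bc f).map g) x' H.obj s'
    refine h2.trans ?_
    refine (germ_eq_zero_iff H ζ ((EtCoh.bc f).obj W)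
      ((Scheme.pointSmallEtale ζ).fiber.map ((EtCoh.bc f).map g) x') s' _ rfl).mpr ?_
    intro hmem
    have h3 : (pullback.fst W.hom f)
        ((((Scheme.pointSmallEtale ζ).fiber.map ((EtCoh.bc f).map g) x').left :
          Spec (CommRingCat.of Ω'') ⟶ ((EtCoh.bc f).obj W).left)
            (default : Spec (CommRingCat.of Ω''))) ∈ T := by
      have e4 := bc_map_left_fst f g
      have e5 : (pullback.fst W.hom f)
          ((((Scheme.pointSmallEtale ζ).fiber.map ((EtCoh.bc f).map g) x').left :
            Spec (CommRingCat.of Ω'') ⟶ ((EtCoh.bc f).obj W).left)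
              (default : Spec (CommRingCat.of Ω''))) =
          g.left ((pullback.fst W'.hom f)
            ((x'.left : Spec (CommRingCat.of Ω'') ⟶ ((EtCoh.bc f).obj W').left)
              (default : Spec (CommRingCat.of Ω'')))) :=
        congrArg (fun m : ((EtCoh.bc f).obj W').left ⟶ W.left =>
          m ((x'.left : Spec (CommRingCat.of Ω'') ⟶ ((EtCoh.bc f).obj W').left)
            (default : Spec (CommRingCat.of Ω'')))) e4
      rw [e5]
      exact hgT _
    exact h3 ⟨_, hmem, rfl⟩
  rw [hz]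
  exact map_zero _

set_option backward.isDefEq.respectTransparency.types false in
/-- `f_* j'_! F ≅ j_! g_* F` for a cartesian square with `f` finite and `j` an open immersion. -/
theorem push_extZero_iso {U X V Y : Scheme.{u}} (f : X ⟶ Y) [IsFinite f] (j : V ⟶ Y)
    [IsOpenImmersion j] [AlgebraicGeometry.Etale j] [EtShriek.JCont j] (j' : U ⟶ X)
    [IsOpenImmersion j'] [AlgebraicGeometry.Etale j'] [EtShriek.JCont j'] (g : U ⟶ V)
    (h : IsPullback j' g f j) (F : EtCoh.Ab U) :
    Nonempty ((EtCoh.push f).obj ((EtShriek.extZero j').obj F) ≅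
      (EtShriek.extZero j).obj ((EtCoh.push g).obj F)) := by
  apply Groth.Agent.S0652.result j ((EtCoh.push g).obj F)
    ((EtCoh.push f).obj ((EtShriek.extZero j').obj F))
  · haveI : IsIso ((EtShriek.extZeroAdj j').unit.app F) := (Groth.Agent.S0651.result j' F).2
    exact ⟨(Groth.Agent.Lib.Helper9.ExtZeroBC.pushRestrIso j f j' g h).app _ ≪≫
      (EtCoh.push g).mapIso (asIso ((EtShriek.extZeroAdj j').unit.app F)).symm⟩
  · intro Ω _ _ ξ hξ
    apply isZero_stalk_push_of_finite f _ (Set.range j.base)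
    · intro Ω' _ _ ζ hζ
      apply Groth.Agent.Lib.Helper8EtRecoll.isZero_stalk_extZero j' F ζ
      rintro ⟨u, hu⟩
      apply hζ
      refine ⟨g u, ?_⟩
      rw [← hu]
      exact congrArg (fun m : U ⟶ Y => m u) h.w.symm
    · exact hξ ⟨(default : Spec (CommRingCat.of Ω)), rfl⟩

end Groth.Agent.Lib.Helper8EtFinPush
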