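import Mathlib
import Groth.Agent.Lib.Helper8EtFinPush

/-!
# Excision for sections with support of abelian étale sheaves (helper8)

* `sectSupp_map`: `supp (φ^* s) = φ⁻¹ (supp s)`.
* `eq_of_comp_eq`: geometric points with the same image point are determined by their composite
  with a morphism inducing an isomorphism of residue fields there.
* `eq_zero_of_sectSupp_subset_empty`: a section with empty support is zero.
* `bijOn_map_sectSupp`: excision.
-/

set_option autoImplicit false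
set_option linter.style.haveILetI false
universe u
open CategoryTheory CategoryTheory.Limits AlgebraicGeometry Opposite

namespace Groth.Agent.Lib.Helper8EtExcision

open Groth.Agent.Lib.Helper16.EtStalk Groth.Agent.Lib.Helper16.SmallEtale
open Groth.Agent.Lib.Helper16.StalkPull Groth.Agent.Lib.Helper16.EtSupp

set_option backward.isDefEq.respectTransparency.types false in
/-- `supp (φ^* s) = φ⁻¹ (supp s)`. -/
theorem sectSupp_map {X : Scheme.{u}} (F : EtCoh.Ab X) {U U' : X.Etale} (φ : U' ⟶ U)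
    (s : F.obj.obj (op U)) :
    EtShriek.sectSupp F U' (F.obj.map φ.op s) = φ.left.base ⁻¹' EtShriek.sectSupp F U s := by
  ext x'
  obtain ⟨Ω, _, _, ζ, x₀, hx₀⟩ := exists_geometric_point U' x'
  have h1 := (Scheme.pointSmallEtale ζ).toPresheafFiber_w_apply φ x₀ F.obj s
  have hp : (((Scheme.pointSmallEtale ζ).fiber.map φ x₀).left :
      Spec (CommRingCat.of Ω) ⟶ U.left) (default : Spec (CommRingCat.of Ω)) = φ.left x' := by
    rw [← hx₀]; rfl
  have e1 := germ_eq_zero_iff F ζ U' x₀ (F.obj.map φ.op s) x' hx₀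
  have e2 := germ_eq_zero_iff F ζ U ((Scheme.pointSmallEtale ζ).fiber.map φ x₀) s (φ.left x') hp
  change x' ∈ EtShriek.sectSupp F U' (F.obj.map φ.op s) ↔ φ.left x' ∈ EtShriek.sectSupp F U s
  rw [← not_iff_not, ← e1, ← e2]
  exact ⟨fun h => h1.symm.trans h, fun h => h1.trans h⟩

set_option backward.isDefEq.respectTransparency.types false in
/-- a section with empty support is zero. -/
theorem eq_zero_of_sectSupp_eq_empty {X : Scheme.{u}} (F : EtCoh.Ab X) (U : X.Etale)
    (s : F.obj.obj (op U)) (h : ∀ x : U.left, x ∉ EtShriek.sectSupp F U s) : s = 0 := by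
  apply Groth.Agent.S0102.section_eq_zero_of_locally
  intro v
  have h0 := h v
  simp only [EtShriek.sectSupp, Set.mem_ofPred_eq, not_forall, not_not] at h0
  obtain ⟨W', g, ⟨w, hw⟩, hg⟩ := h0
  exact ⟨W', g, w, hw, hg⟩

set_option backward.isDefEq.respectTransparency.types false in
/-- the support of a difference is contained in the union of the supports. -/
theorem sectSupp_sub_subset {X : Scheme.{u}} (F : EtCoh.Ab X) (U : X.Etale)
    (s t : F.obj.obj (op U)) :
    EtShriek.sectSupp F U (s - t) ⊆ EtShriek.sectSupp F U s ∪ EtShriek.sectSupp F U t := by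
  intro x hx
  by_contra hcon
  rw [Set.mem_union, not_or] at hcon
  obtain ⟨hs, ht⟩ := hcon
  obtain ⟨Ω, _, _, ζ, x₀, hx₀⟩ := exists_geometric_point U x
  have e1 := (germ_eq_zero_iff F ζ U x₀ s x hx₀).mpr hs
  have e2 := (germ_eq_zero_iff F ζ U x₀ t x hx₀).mpr ht
  have e3 : germ ζ F U x₀ (s - t) = 0 := by
    rw [map_sub, e1, e2, sub_zero]
  exact (germ_eq_zero_iff F ζ U x₀ (s - t) x hx₀).mp e3 hx

set_option backward.isDefEq.respectTransparency.types false in
/-- two geometric points with the same image point `z'` and the same composite with `φ` agree when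
`φ` induces a surjection on residue fields at `z'`. -/
theorem eq_of_comp_eq {U' U : Scheme.{u}} (φ : U' ⟶ U) {Ω : Type u} [Field Ω]
    (β₁ β₂ : Spec (CommRingCat.of Ω) ⟶ U')
    (hpt : β₁ (default : Spec (CommRingCat.of Ω)) = β₂ (default : Spec (CommRingCat.of Ω)))
    (hres : Function.Surjective (φ.residueFieldMap (β₁ (default : Spec (CommRingCat.of Ω)))))
    (hcomp : β₁ ≫ φ = β₂ ≫ φ) : β₁ = β₂ := by
  obtain ⟨⟨t₁, a₁⟩, rfl⟩ := (Scheme.SpecToEquivOfField Ω U').symm.surjective β₁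
  obtain ⟨⟨t₂, a₂⟩, rfl⟩ := (Scheme.SpecToEquivOfField Ω U').symm.surjective β₂
  have ht₁ : (Scheme.SpecToEquivOfField Ω U').symm ⟨t₁, a₁⟩
      (default : Spec (CommRingCat.of Ω)) = t₁ := by simp [Scheme.SpecToEquivOfField]
  have ht₂ : (Scheme.SpecToEquivOfField Ω U').symm ⟨t₂, a₂⟩
      (default : Spec (CommRingCat.of Ω)) = t₂ := by simp [Scheme.SpecToEquivOfField]
  obtain rfl : t₁ = t₂ := by rw [← ht₁, ← ht₂]; exact hpt
  rw [ht₁] at hres
  have e1 : ∀ a : U'.residueField t₁ ⟶ CommRingCat.of Ω,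
      (Scheme.SpecToEquivOfField Ω U').symm ⟨t₁, a⟩ ≫ φ =
        Spec.map (φ.residueFieldMap t₁ ≫ a) ≫ U.fromSpecResidueField (φ t₁) := by
    intro a
    simp [Scheme.SpecToEquivOfField]
  rw [e1, e1] at hcomp
  have e2 : Spec.map (φ.residueFieldMap t₁ ≫ a₁) = Spec.map (φ.residueFieldMap t₁ ≫ a₂) :=
    (cancel_mono (U.fromSpecResidueField (φ t₁))).mp hcomp
  have e3 : φ.residueFieldMap t₁ ≫ a₁ = φ.residueFieldMap t₁ ≫ a₂ := Spec.map_injective e2
  haveI : Epi (φ.residueFieldMap t₁) := ConcreteCategory.epi_of_surjective _ hres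
  rw [(cancel_epi _).mp e3]

section Excision

variable {X : Scheme.{u}} (F : EtCoh.Ab X) {U U' : X.Etale} (φ : U' ⟶ U) (Z : Set ↥U.left)
  (hbij : Set.BijOn φ.left.base (φ.left.base ⁻¹' Z) Z)
  (hres : ∀ x ∈ φ.left.base ⁻¹' Z, Function.Bijective (φ.left.residueFieldMap x))
  (s' : F.obj.obj (op U')) (hs' : EtShriek.sectSupp F U' s' ⊆ φ.left.base ⁻¹' Z)

include hbij hres hs' in
set_option backward.isDefEq.respectTransparency.types false in
/-- two pullbacks of a section supported on `Z'` along maps with the same composite to `U` agree. -/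
theorem map_eq_map_of_comp_eq {W : X.Etale} (b₁ b₂ : W ⟶ U') (hb : b₁ ≫ φ = b₂ ≫ φ) :
    F.obj.map b₁.op s' = F.obj.map b₂.op s' := by
  rw [← sub_eq_zero]
  apply eq_zero_of_sectSupp_eq_empty
  intro w hw
  have hφw : φ.left (b₁.left w) = φ.left (b₂.left w) :=
    congrArg (fun m : W ⟶ U => m.left w) hb
  have hZ1 : b₁.left w ∈ φ.left.base ⁻¹' Z ∧ b₂.left w ∈ φ.left.base ⁻¹' Z := by
    rcases sectSupp_sub_subset F W _ _ hw with h | h
    · rw [sectSupp_map] at h
      have h1 : b₁.left w ∈ φ.left.base ⁻¹' Z := hs' h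
      refine ⟨h1, ?_⟩
      change φ.left (b₂.left w) ∈ Z
      rw [← hφw]; exact h1
    · rw [sectSupp_map] at h
      have h1 : b₂.left w ∈ φ.left.base ⁻¹' Z := hs' h
      refine ⟨?_, h1⟩
      change φ.left (b₁.left w) ∈ Z
      rw [hφw]; exact h1
  have heq : b₁.left w = b₂.left w := hbij.injOn hZ1.1 hZ1.2 hφw
  obtain ⟨Ω, _, _, ζ, w₀, hw₀⟩ := exists_geometric_point W w
  have hfib : (Scheme.pointSmallEtale ζ).fiber.map b₁ w₀ = (Scheme.pointSmallEtale ζ).fiber.map b₂ w₀ := by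
    apply Over.OverMorphism.ext
    change (w₀.left : Spec (CommRingCat.of Ω) ⟶ W.left) ≫ b₁.left =
      (w₀.left : Spec (CommRingCat.of Ω) ⟶ W.left) ≫ b₂.left
    have hp1 : ((w₀.left : Spec (CommRingCat.of Ω) ⟶ W.left) ≫ b₁.left)
        (default : Spec (CommRingCat.of Ω)) = b₁.left w := by rw [← hw₀]; rfl
    have hp2 : ((w₀.left : Spec (CommRingCat.of Ω) ⟶ W.left) ≫ b₂.left)
        (default : Spec (CommRingCat.of Ω)) = b₂.left w := by rw [← hw₀]; rfl
    refine eq_of_comp_eq φ.left _ _ (hp1.trans (heq.trans hp2.symm)) ?_ ?_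
    · rw [hp1]; exact (hres _ hZ1.1).2
    · rw [Category.assoc, Category.assoc]
      exact congrArg (fun m : W ⟶ U => (w₀.left : Spec (CommRingCat.of Ω) ⟶ W.left) ≫ m.left) hb
  have e1 := (Scheme.pointSmallEtale ζ).toPresheafFiber_w_apply b₁ w₀ F.obj s'
  have e2 := (Scheme.pointSmallEtale ζ).toPresheafFiber_w_apply b₂ w₀ F.obj s'
  rw [hfib] at e1
  have e3 : germ ζ F W w₀ (F.obj.map b₁.op s' - F.obj.map b₂.op s') = 0 := by
    rw [map_sub]
    exact sub_eq_zero.mpr (e1.trans e2.symm)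
  exact (germ_eq_zero_iff F ζ W w₀ _ w hw₀).mp e3 hw

include hs' in
set_option backward.isDefEq.respectTransparency.types false in
/-- the pullback of a section supported on `Z'` along a map whose composite to `U` misses `Z`
vanishes. -/
theorem map_eq_zero_of_disjoint {W : X.Etale} (b : W ⟶ U')
    (hb : ∀ w : W.left, φ.left (b.left w) ∉ Z) : F.obj.map b.op s' = 0 := by
  apply eq_zero_of_sectSupp_eq_empty
  intro w hw
  rw [sectSupp_map] at hw
  exact hb w (hs' hw)

end Excision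

set_option backward.isDefEq.respectTransparency.types false in
/-- **Excision** for sections with support. -/
theorem bijOn_map_sectSupp {X : Scheme.{u}} (F : EtCoh.Ab X) {U U' : X.Etale}
    (φ : U' ⟶ U) (Z : Set ↥U.left) (hZ : IsClosed Z)
    (hbij : Set.BijOn φ.left.base (φ.left.base ⁻¹' Z) Z)
    (hres : ∀ x ∈ φ.left.base ⁻¹' Z, Function.Bijective (φ.left.residueFieldMap x)) :
    Set.BijOn (F.obj.map φ.op) {s | EtShriek.sectSupp F U s ⊆ Z}
      {s' | EtShriek.sectSupp F U' s' ⊆ φ.left.base ⁻¹' Z} := by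
  refine ⟨?_, ?_, ?_⟩
  · intro s hs
    change EtShriek.sectSupp F U' (F.obj.map φ.op s) ⊆ _
    rw [sectSupp_map]
    exact Set.preimage_mono hs
  · intro s₁ hs₁ s₂ hs₂ h
    have ht : EtShriek.sectSupp F U (s₁ - s₂) ⊆ Z :=
      (sectSupp_sub_subset F U s₁ s₂).trans (Set.union_subset hs₁ hs₂)
    have h0 : s₁ - s₂ = 0 := by
      apply eq_zero_of_sectSupp_eq_empty
      intro x hx
      obtain ⟨x', -, rfl⟩ := hbij.surjOn (ht hx)
      have h1 : x' ∈ EtShriek.sectSupp F U' (F.obj.map φ.op (s₁ - s₂)) := by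
        rw [sectSupp_map]; exact hx
      have h2 : F.obj.map φ.op (s₁ - s₂) = 0 := by
        rw [map_sub]; exact sub_eq_zero.mpr h
      rw [h2] at h1
      exact h1 U' (𝟙 U') ⟨x', rfl⟩ (map_zero _)
    exact sub_eq_zero.mp h0
  · intro s' (hs' : EtShriek.sectSupp F U' s' ⊆ φ.left.base ⁻¹' Z)
    -- the open complement of `Z`
    let U₀ : U.left.Opens := ⟨Zᶜ, hZ.isOpen_compl⟩
    let U₀o : X.Etale := Scheme.Etale.mk (U₀.ι ≫ U.hom)
    let ι₀ : U₀o ⟶ U := MorphismProperty.Over.homMk U₀.ι rfl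
    have hι₀ : ∀ a : U₀o.left, ι₀.left a ∉ Z := fun a => a.2
    -- the covering sieve
    let S : Sieve U :=
      { arrows := fun W a => (∃ b : W ⟶ U', b ≫ φ = a) ∨ (∃ c : W ⟶ U₀o, c ≫ ι₀ = a)
        downward_closed := by
          rintro W W' a (⟨b, rfl⟩ | ⟨c, rfl⟩) h
          · exact Or.inl ⟨h ≫ b, Category.assoc _ _ _⟩
          · exact Or.inr ⟨h ≫ c, Category.assoc _ _ _⟩ }
    have hS : S ∈ X.smallEtaleTopology U := by
      rw [mem_smallEtale_iff]
      intro x
      by_cases hx : x ∈ Z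
      · obtain ⟨x', -, rfl⟩ := hbij.surjOn hx
        exact ⟨U', φ, x', Or.inl ⟨𝟙 _, Category.id_comp _⟩, rfl⟩
      · exact ⟨U₀o, ι₀, ⟨x, hx⟩, Or.inr ⟨𝟙 _, Category.id_comp _⟩, rfl⟩
    have hsh : Presieve.IsSheaf X.smallEtaleTopology (F.obj ⋙ forget AddCommGrpCat.{u + 1}) :=
      (isSheaf_iff_isSheaf_of_type _ _).1
        ((Presheaf.isSheaf_iff_isSheaf_forget _ F.obj (forget AddCommGrpCat.{u + 1})).1 F.2)
    have hsf : Presieve.IsSheafFor (F.obj ⋙ forget AddCommGrpCat.{u + 1}) S.arrows := hsh S hS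
    classical
    -- the family
    let x : Presieve.FamilyOfElements (F.obj ⋙ forget AddCommGrpCat.{u + 1}) S.arrows :=
      fun W a _ => if h : ∃ b : W ⟶ U', b ≫ φ = a then F.obj.map (Classical.choose h).op s' else
        (0 : F.obj.obj (op W))
    have hx1 : ∀ {W : X.Etale} (a : W ⟶ U) (ha : S a) (b : W ⟶ U') (hb : b ≫ φ = a),
        x a ha = F.obj.map b.op s' := by
      intro W a ha b hb
      have h : ∃ b : W ⟶ U', b ≫ φ = a := ⟨b, hb⟩
      change (if h : ∃ b : W ⟶ U', b ≫ φ = a then F.obj.map (Classical.choose h).op s' else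
        (0 : F.obj.obj (op W))) = _
      rw [dif_pos h]
      exact map_eq_map_of_comp_eq F φ Z hbij hres s' hs' _ _
        ((Classical.choose_spec h).trans hb.symm)
    have hx2 : ∀ {W : X.Etale} (a : W ⟶ U) (ha : S a) (c : W ⟶ U₀o) (hc : c ≫ ι₀ = a),
        x a ha = (0 : F.obj.obj (op W)) := by
      intro W a ha c hc
      by_cases h : ∃ b : W ⟶ U', b ≫ φ = a
      · obtain ⟨b, hb⟩ := h
        rw [hx1 a ha b hb]
        apply map_eq_zero_of_disjoint F φ Z s' hs' b
        intro w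
        have e : φ.left (b.left w) = ι₀.left (c.left w) :=
          congrArg (fun m : W ⟶ U => m.left w) (hb.trans hc.symm)
        rw [e]
        exact hι₀ _
      · change (if h : ∃ b : W ⟶ U', b ≫ φ = a then F.obj.map (Classical.choose h).op s' else
          (0 : F.obj.obj (op W))) = _
        rw [dif_neg h]
    have hcompat : x.Compatible := by
      intro W₁ W₂ W₀ g₁ g₂ a₁ a₂ ha₁ ha₂ hg
      change F.obj.map g₁.op (x a₁ ha₁) = F.obj.map g₂.op (x a₂ ha₂)
      rcases (id ha₁ : (∃ b : W₁ ⟶ U', b ≫ φ = a₁) ∨ (∃ c : W₁ ⟶ U₀o, c ≫ ι₀ = a₁)) with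
        ⟨b₁, hb₁⟩ | ⟨c₁, hc₁⟩
      · rw [hx1 a₁ ha₁ b₁ hb₁]
        rcases (id ha₂ : (∃ b : W₂ ⟶ U', b ≫ φ = a₂) ∨ (∃ c : W₂ ⟶ U₀o, c ≫ ι₀ = a₂)) with
          ⟨b₂, hb₂⟩ | ⟨c₂, hc₂⟩
        · rw [hx1 a₂ ha₂ b₂ hb₂]
          have e1 : F.obj.map g₁.op (F.obj.map b₁.op s') = F.obj.map (g₁ ≫ b₁).op s' := by
            rw [op_comp, Functor.map_comp]; rfl
          have e2 : F.obj.map g₂.op (F.obj.map b₂.op s') = F.obj.map (g₂ ≫ b₂).op s' := by
            rw [op_comp, Functor.map_comp]; rfl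
          rw [e1, e2]
          apply map_eq_map_of_comp_eq F φ Z hbij hres s' hs'
          rw [Category.assoc, Category.assoc, hb₁, hb₂, hg]
        · rw [hx2 a₂ ha₂ c₂ hc₂, map_zero]
          have e1 : F.obj.map g₁.op (F.obj.map b₁.op s') = F.obj.map (g₁ ≫ b₁).op s' := by
            rw [op_comp, Functor.map_comp]; rfl
          rw [e1]
          apply map_eq_zero_of_disjoint F φ Z s' hs'
          intro w
          have e : φ.left ((g₁ ≫ b₁).left w) = ι₀.left ((g₂ ≫ c₂).left w) :=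
            congrArg (fun m : W₀ ⟶ U => m.left w)
              ((Category.assoc _ _ _).trans ((congrArg (fun m => g₁ ≫ m) hb₁).trans
                (hg.trans ((congrArg (fun m => g₂ ≫ m) hc₂.symm).trans
                  (Category.assoc _ _ _).symm))))
          rw [e]
          exact hι₀ _
      · rw [hx2 a₁ ha₁ c₁ hc₁, map_zero]
        rcases (id ha₂ : (∃ b : W₂ ⟶ U', b ≫ φ = a₂) ∨ (∃ c : W₂ ⟶ U₀o, c ≫ ι₀ = a₂)) with
          ⟨b₂, hb₂⟩ | ⟨c₂, hc₂⟩
        · rw [hx1 a₂ ha₂ b₂ hb₂]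
          have e2 : F.obj.map g₂.op (F.obj.map b₂.op s') = F.obj.map (g₂ ≫ b₂).op s' := by
            rw [op_comp, Functor.map_comp]; rfl
          rw [e2]
          symm
          apply map_eq_zero_of_disjoint F φ Z s' hs'
          intro w
          have e : φ.left ((g₂ ≫ b₂).left w) = ι₀.left ((g₁ ≫ c₁).left w) :=
            congrArg (fun m : W₀ ⟶ U => m.left w)
              ((Category.assoc _ _ _).trans ((congrArg (fun m => g₂ ≫ m) hb₂).trans
                (hg.symm.trans ((congrArg (fun m => g₁ ≫ m) hc₁.symm).trans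
                  (Category.assoc _ _ _).symm))))
          rw [e]
          exact hι₀ _
        · rw [hx2 a₂ ha₂ c₂ hc₂, map_zero]
    let s : F.obj.obj (op U) := hsf.amalgamate x hcompat
    have hSφ : S φ := Or.inl ⟨𝟙 _, Category.id_comp _⟩
    have hSι : S ι₀ := Or.inr ⟨𝟙 _, Category.id_comp _⟩
    have hsφ : F.obj.map φ.op s = s' := by
      have h1 := hsf.valid_glue hcompat φ hSφ
      refine (h1 : F.obj.map φ.op s = x φ hSφ).trans ?_
      rw [hx1 φ hSφ (𝟙 _) (Category.id_comp _)]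
      simp
    have hsι : F.obj.map ι₀.op s = 0 := by
      have h1 := hsf.valid_glue hcompat ι₀ hSι
      refine (h1 : F.obj.map ι₀.op s = x ι₀ hSι).trans ?_
      exact hx2 ι₀ hSι (𝟙 _) (Category.id_comp _)
    refine ⟨s, ?_, hsφ⟩
    intro y hy
    by_contra hyZ
    exact hy U₀o ι₀ ⟨⟨y, hyZ⟩, rfl⟩ hsι

end Groth.Agent.Lib.Helper8EtExcision
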