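import Groth.Agent.Lib.Helper8EtPropBPush
import Groth.Agent.Lib.Helper16BigSmallCoh

/-!
# Direct image along a morphism from the spectrum of a separably closed field is exact (helper8)

For `h : T ⟶ Z` with `T ≅ Spec Ω`, `Ω` a separably closed field: condition (B) holds, `h_*` is exact
on abelian étale sheaves and `R^q h_* = 0` for `q ≥ 1`.
-/

set_option autoImplicit false
set_option linter.style.haveILetI false
universe u
open CategoryTheory CategoryTheory.Limits AlgebraicGeometry Opposite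

namespace Groth.Agent.Lib.Helper8EtGeomPtPush

theorem locallyQuasiFinite_of_etale {X S : Scheme.{u}} (f : X ⟶ S) [Etale f] :
    LocallyQuasiFinite f := by
  constructor
  intro U hU V hV e
  have h1 := f.etale_appLE hU hV e
  algebraize [(f.appLE U V e).hom]
  have : Algebra.Etale Γ(S, U) Γ(X, V) := h1
  exact RingHom.quasiFinite_algebraMap.mpr inferInstance

variable {T Z : Scheme.{u}} {Ω : Type u} [Field Ω] [IsSepClosed Ω]

omit [IsSepClosed Ω] in
/-- a scheme étale over the spectrum of a field is discrete -/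
theorem isOpen_singleton_of_etale (e : Spec (CommRingCat.of Ω) ≅ T) {P : Scheme.{u}} (f : P ⟶ T)
    [Etale f] (w : P) : IsOpen ({w} : Set P) := by
  haveI := locallyQuasiFinite_of_etale f
  have h1 := Scheme.Hom.isDiscrete_preimage_singleton f (e.hom default)
  have h2 : f ⁻¹' {e.hom default} = Set.univ := by
    ext p
    simp only [Set.mem_preimage, Set.mem_singleton_iff, Set.mem_univ, iff_true]
    have h3 : e.inv (f p) = default := Subsingleton.elim _ _
    have h4 : e.hom (e.inv (f p)) = f p := by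
      rw [← Scheme.Hom.comp_apply, e.inv_hom_id]
      rfl
    rw [← h4, h3]
  rw [h2, isDiscrete_univ_iff] at h1
  exact isOpen_discrete _

set_option backward.isDefEq.respectTransparency.types false in
/-- a one-point open of a scheme étale over `Spec Ω` lifts through étale maps -/
theorem exists_lift_of_singleton (e : Spec (CommRingCat.of Ω) ≅ T) {P P' : Scheme.{u}} (f : P ⟶ T)
    [Etale f] (W : P.Opens) (w : P) (hW : (W : Set P) = {w}) {U : Scheme.{u}} (g : U ⟶ P')
    [Etale g] (φ : P ⟶ P') (u : U) (hu : g u = φ w) :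
    ∃ hm : (W : Scheme.{u}) ⟶ U, hm ≫ g = W.ι ≫ φ := by
  obtain ⟨x₀, hx₀⟩ : ∃ x₀ : (W : Scheme.{u}), W.ι x₀ = w := by
    have : w ∈ Set.range W.ι := by
      rw [Scheme.Opens.range_ι, hW]
      rfl
    exact this
  have huniq : ∀ y : (W : Scheme.{u}), y = x₀ := by
    intro y
    apply W.ι.isOpenEmbedding.injective
    rw [hx₀]
    have : W.ι y ∈ Set.range W.ι := ⟨y, rfl⟩
    rw [Scheme.Opens.range_ι, hW] at this
    exact this
  haveI : Etale (W.ι ≫ f ≫ e.inv) := inferInstance
  obtain ⟨l₀, hl₀, hl₀x⟩ := AlgebraicGeometry.Scheme.exists_fac_of_etale_of_isSepClosed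
    (W.ι ≫ f ≫ e.inv) (𝟙 (Spec (CommRingCat.of Ω))) x₀ (Subsingleton.elim _ _)
  haveI : Etale (l₀ ≫ W.ι ≫ f ≫ e.inv) := by rw [hl₀]; infer_instance
  haveI : Etale l₀ := Etale.of_comp l₀ (W.ι ≫ f ≫ e.inv)
  haveI : Mono l₀ := by
    haveI : IsSplitMono l₀ := IsSplitMono.mk' ⟨_, hl₀⟩
    infer_instance
  haveI : IsOpenImmersion l₀ := IsOpenImmersion.of_flat_of_mono l₀
  haveI : IsIso l₀ := by
    apply isIso_of_isOpenImmersion_of_opensRange_eq_top
    rw [eq_top_iff]
    intro y _
    rw [huniq y, ← hl₀x]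
    exact ⟨default, rfl⟩
  obtain ⟨lu, hlu, -⟩ := AlgebraicGeometry.Scheme.exists_fac_of_etale_of_isSepClosed g
    (l₀ ≫ W.ι ≫ φ) u (by
      rw [hu, Scheme.Hom.comp_apply, Scheme.Hom.comp_apply, hl₀x, hx₀])
  refine ⟨inv l₀ ≫ lu, ?_⟩
  rw [Category.assoc, hlu, IsIso.inv_hom_id_assoc]

set_option backward.isDefEq.respectTransparency.types false in
/-- condition (B) for a morphism from the spectrum of a separably closed field -/
theorem propB (e : Spec (CommRingCat.of Ω) ≅ T) (h : T ⟶ Z) : BigSite.PropB h := by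
  intro V v _ ι U g hg hcov
  refine ⟨PUnit, fun _ => V, fun _ => 𝟙 V, fun _ => inferInstance, fun y => ⟨⟨⟩, y, rfl⟩, ?_⟩
  intro _
  haveI : Etale (𝟙 V ≫ v) := inferInstance
  haveI : Etale (pullback.fst h (𝟙 V ≫ v)) := inferInstance
  have hdisc : ∀ w : ↥(pullback h (𝟙 V ≫ v)), IsOpen ({w} : Set ↥(pullback h (𝟙 V ≫ v))) :=
    fun w => isOpen_singleton_of_etale e (pullback.fst h (𝟙 V ≫ v)) w
  refine ⟨↥(pullback h (𝟙 V ≫ v)), fun w => ⟨{w}, hdisc w⟩, ?_, ?_, ?_⟩
  · intro a b hab
    rw [disjoint_iff]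
    ext x
    constructor
    · rintro ⟨h1, h2⟩
      exact (hab ((Set.mem_singleton_iff.1 h1).symm.trans (Set.mem_singleton_iff.1 h2))).elim
    · intro hx
      exact hx.elim
  · rw [eq_top_iff]
    intro x _
    rw [TopologicalSpace.Opens.mem_iSup]
    exact ⟨x, rfl⟩
  · intro w
    obtain ⟨i, u, hu⟩ := hcov (pullback.map h (𝟙 V ≫ v) h v (𝟙 T) (𝟙 V) (𝟙 Z) (by simp) (by simp) w)
    haveI := hg i
    obtain ⟨hm, hhm⟩ := exists_lift_of_singleton e (pullback.fst h (𝟙 V ≫ v))
      (⟨{w}, hdisc w⟩ : (pullback h (𝟙 V ≫ v)).Opens) w rfl (g i)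
      (pullback.map h (𝟙 V ≫ v) h v (𝟙 T) (𝟙 V) (𝟙 Z) (by simp) (by simp)) u hu
    exact ⟨i, hm, hhm⟩

theorem preservesEpimorphisms_push (e : Spec (CommRingCat.of Ω) ≅ T) (h : T ⟶ Z) :
    (EtCoh.push h).PreservesEpimorphisms :=
  Groth.Agent.Lib.Helper8EtPropBPush.preservesEpimorphisms_of_propB h (propB e h)

theorem preservesHomology_push (e : Spec (CommRingCat.of Ω) ≅ T) (h : T ⟶ Z) :
    (EtCoh.push h).PreservesHomology := by
  haveI := preservesEpimorphisms_push e h
  haveI : (EtCoh.push h).IsRightAdjoint := (EtCoh.pullPushAdj h).isRightAdjoint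
  exact Functor.preservesHomology_of_preservesEpis_and_kernels (EtCoh.push h)

/-- higher direct images along a morphism from the spectrum of a separably closed field vanish -/
theorem isZero_Rpush (e : Spec (CommRingCat.of Ω) ≅ T) (h : T ⟶ Z) (F : EtCoh.Ab T) (q : ℕ)
    (hq : 1 ≤ q) : IsZero ((EtCoh.Rpush h q).obj F) := by
  haveI := preservesHomology_push e h
  obtain ⟨n, rfl⟩ : ∃ n, q = n + 1 := ⟨q - 1, by omega⟩
  exact Groth.Agent.Lib.Helper16.BigSmallCoh.isZero_rightDerived_succ_of_preservesHomology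
    (EtCoh.push h) F n

end Groth.Agent.Lib.Helper8EtGeomPtPush
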