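import Mathlib
import Groth.Prelude.Def_BigSite
import Groth.Agent.Lib.Helper8EtPropA

/-!
# Condition (B) for finite morphisms (helper8)
-/

set_option autoImplicit false
set_option linter.unusedSectionVars false
universe u

open CategoryTheory CategoryTheory.Limits AlgebraicGeometry
open Groth.Agent.Lib.Helper20.ResFld Groth.Agent.Lib.Helper20.EtSections
open Groth.Agent.Lib.Helper8EtPropA

namespace Groth.Agent.Lib.Helper8EtPropBFinite

/-- the range of a coproduct inclusion of schemes is closed -/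
theorem isClosed_range_sigmaι {σ : Type u} (g : σ → Scheme.{u}) (i : σ) :
    IsClosed (Set.range (Sigma.ι g i)) := by
  have h : Set.range (Sigma.ι g i) = (sigmaMk g) '' (Set.range (Sigma.mk i)) := by
    ext z
    constructor
    · rintro ⟨x, rfl⟩
      exact ⟨⟨i, x⟩, ⟨x, rfl⟩, sigmaMk_mk g i x⟩
    · rintro ⟨_, ⟨x, rfl⟩, rfl⟩
      exact ⟨x, (sigmaMk_mk g i x).symm⟩
  rw [h]
  exact (sigmaMk g).isClosedMap _ isClosed_range_sigmaMk

/-- an open subscheme that is closed in a bigger open subscheme finite over a base is finite over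
the base -/
theorem isFinite_of_le_of_isClosed {Q V : Scheme.{u}} (q : Q ⟶ V) (A A' : Q.Opens) (hle : A' ≤ A)
    (hcl : IsClosed (A' : Set Q)) [IsFinite (A.ι ≫ q)] : IsFinite (A'.ι ≫ q) := by
  have e : A'.ι = Q.homOfLE hle ≫ A.ι := (Scheme.homOfLE_ι _ hle).symm
  haveI : IsClosedImmersion (Q.homOfLE hle) := by
    apply IsClosedImmersion.of_isPreimmersion
    have hr : Set.range (Q.homOfLE hle) = A.ι ⁻¹' (A' : Set Q) := by
      ext z
      constructor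
      · rintro ⟨a, rfl⟩
        change A.ι (Q.homOfLE hle a) ∈ A'
        rw [← Scheme.Hom.comp_apply, Scheme.homOfLE_ι]
        exact a.2
      · intro hz
        refine ⟨⟨A.ι z, hz⟩, ?_⟩
        apply A.ι.isOpenEmbedding.injective
        rw [← Scheme.Hom.comp_apply, Scheme.homOfLE_ι]
        rfl
    rw [hr]
    exact hcl.preimage A.ι.continuous
  rw [e, Category.assoc]
  infer_instance


/-- one piece of the decomposition -/
theorem piece {Q P₁ V₁ : Scheme.{u}} (q : Q ⟶ V₁) (p₁ : P₁ ⟶ V₁) [IsSeparated p₁] (m : Q ⟶ P₁)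
    [Etale m] (hm : m ≫ p₁ = q) (A A' : Q.Opens) (hle : A' ≤ A)
    (hcl : IsClosed (A' : Set Q)) [IsFinite (A.ι ≫ q)] (w : Q) (hwA' : w ∈ A') (y₁ : V₁)
    (hw : q w = y₁) (huniq : ∀ w' : Q, w' ∈ A → q w' = y₁ → w' = w)
    (hpi : PInsep (q.residueFieldMap w).hom) :
    ∃ (V' : V₁.Opens) (C : P₁.Opens), y₁ ∈ V' ∧ IsClosed (C : Set P₁) ∧ m w ∈ C ∧
      ∃ σ : ((C ⊓ p₁ ⁻¹ᵁ V' : P₁.Opens) : Scheme.{u}) ⟶ (A' : Scheme.{u}),
        σ ≫ A'.ι ≫ m = (C ⊓ p₁ ⁻¹ᵁ V').ι := by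
  let φ : (A' : Scheme.{u}) ⟶ P₁ := A'.ι ≫ m
  have hφp : φ ≫ p₁ = A'.ι ≫ q := by
    change (A'.ι ≫ m) ≫ p₁ = _
    rw [Category.assoc, hm]
  haveI : IsFinite (A'.ι ≫ q) := isFinite_of_le_of_isClosed q A A' hle hcl
  haveI : IsFinite (φ ≫ p₁) := by rw [hφp]; infer_instance
  obtain ⟨a₀, ha₀⟩ : ∃ a₀ : (A' : Scheme.{u}), A'.ι a₀ = w := by
    have : w ∈ Set.range A'.ι := by rw [Scheme.Opens.range_ι]; exact hwA'
    exact this
  have hsnd : ∀ a : (A' : Scheme.{u}), (φ ≫ p₁) a = q (A'.ι a) := by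
    intro a
    rw [hφp, Scheme.Hom.comp_apply]
  have huniq' : ∀ a, (φ ≫ p₁) a = (φ ≫ p₁) a₀ → a = a₀ := by
    intro a ha
    rw [hsnd, hsnd, ha₀, hw] at ha
    apply A'.ι.isOpenEmbedding.injective
    rw [ha₀]
    refine huniq (A'.ι a) (hle ?_) ha
    have : A'.ι a ∈ Set.range A'.ι := ⟨a, rfl⟩
    rwa [Scheme.Opens.range_ι] at this
  have hpi' : PInsep ((φ ≫ p₁).residueFieldMap a₀).hom :=
    pInsep_congr hφp.symm a₀ (pInsep_comp_ι q A' a₀ w ha₀ hpi)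
  obtain ⟨V', C, hv₀', hCcl, hφC, σ, hσ⟩ := core p₁ φ a₀ huniq' hpi'
  refine ⟨V', C, ?_, hCcl, ?_, σ, hσ⟩
  · rw [hsnd, ha₀, hw] at hv₀'
    exact hv₀'
  · have : φ a₀ = m w := by
      change (A'.ι ≫ m) a₀ = m w
      rw [Scheme.Hom.comp_apply, ha₀]
    rw [← this]
    exact hφC


open TopologicalSpace in
/-- disjointification of finitely many open-closed pieces covering a fibre of a finite morphism -/
theorem assemble {P₁ V₁ : Scheme.{u}} (p₁ : P₁ ⟶ V₁) [IsFinite p₁] (y₁ : V₁) (n : ℕ)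
    (V' : Fin n → V₁.Opens) (C : Fin n → P₁.Opens) (hy : ∀ k, y₁ ∈ V' k)
    (hcl : ∀ k, IsClosed (C k : Set P₁)) (hcov : ∀ z : P₁, p₁ z = y₁ → ∃ k, z ∈ C k) :
    ∃ (V'' : V₁.Opens) (W : Fin n → P₁.Opens), y₁ ∈ V'' ∧
      (∀ k, W k ≤ C k ⊓ p₁ ⁻¹ᵁ V' k) ∧ (∀ a b, a ≠ b → Disjoint (W a) (W b)) ∧
      (⨆ k, W k) = p₁ ⁻¹ᵁ V'' := by
  classical
  let D : Set P₁ := ⋃ k, (C k : Set P₁)
  have hDopen : IsOpen D := isOpen_iUnion fun k => (C k).isOpen
  have hZ : IsClosed (p₁ '' Dᶜ) := p₁.isClosedMap _ hDopen.isClosed_compl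
  have hyZ : y₁ ∉ p₁ '' Dᶜ := by
    rintro ⟨z, hz, hzy⟩
    obtain ⟨k, hk⟩ := hcov z hzy
    exact hz (Set.mem_iUnion.mpr ⟨k, hk⟩)
  let V₀ : V₁.Opens := Finset.univ.inf V'
  have hV₀ : ∀ k, V₀ ≤ V' k := fun k => Finset.inf_le (Finset.mem_univ k)
  have hyV₀ : y₁ ∈ V₀ := by
    change y₁ ∈ ((Finset.univ.inf V' : V₁.Opens) : Set V₁)
    rw [Opens.coe_finset_inf, Finset.inf_set_eq_iInter]
    simp only [Set.mem_iInter]
    intro k _
    exact hy k
  let V'' : V₁.Opens := V₀ ⊓ ⟨(p₁ '' Dᶜ)ᶜ, hZ.isOpen_compl⟩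
  have hprev : ∀ k : Fin n, IsClosed (⋃ k' : {k' : Fin n // k' < k}, (C k'.1 : Set P₁)) :=
    fun k => isClosed_iUnion_of_finite fun k' => hcl k'.1
  let W : Fin n → P₁.Opens := fun k =>
    (C k ⊓ ⟨(⋃ k' : {k' : Fin n // k' < k}, (C k'.1 : Set P₁))ᶜ, (hprev k).isOpen_compl⟩) ⊓
      p₁ ⁻¹ᵁ V''
  refine ⟨V'', W, ⟨hyV₀, hyZ⟩, ?_, ?_, ?_⟩
  · intro k z hz
    exact ⟨hz.1.1, hV₀ k hz.2.1⟩
  · have key : ∀ a b : Fin n, a < b → Disjoint (W a) (W b) := by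
      intro a b hab
      rw [disjoint_iff]
      ext z
      simp only [Opens.coe_inf, Opens.coe_bot, Set.mem_inter_iff, Set.mem_empty_iff_false,
        iff_false]
      rintro ⟨hza, hzb⟩
      exact hzb.1.2 (Set.mem_iUnion.mpr ⟨⟨a, hab⟩, hza.1.1⟩)
    intro a b hab
    rcases lt_or_gt_of_ne hab with h | h
    · exact key a b h
    · exact (key b a h).symm
  · apply le_antisymm
    · exact iSup_le fun k z hz => hz.2
    · intro z hz
      have hzD : z ∈ D := by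
        by_contra hzD
        exact hz.2 ⟨z, hzD, rfl⟩
      have hex : ∃ k : Fin n, z ∈ C k := Set.mem_iUnion.mp hzD
      let k₀ : Fin n := WellFounded.min (wellFounded_lt (α := Fin n)) {k | z ∈ C k} hex
      have hk₀ : z ∈ C k₀ := WellFounded.min_mem (wellFounded_lt (α := Fin n)) {k | z ∈ C k} hex
      refine Opens.mem_iSup.mpr ⟨k₀, ⟨hk₀, ?_⟩, hz⟩
      intro hmem
      obtain ⟨⟨k', hk'⟩, hzk'⟩ := Set.mem_iUnion.mp hmem
      exact WellFounded.not_lt_min (wellFounded_lt (α := Fin n)) {k | z ∈ C k} hzk' hk'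


/-- local form of condition (B) for a finite morphism: étale locally on the base around `y₀`, the
source decomposes into finitely many disjoint open pieces each factoring through a member of a
given étale family covering the fibre. -/
theorem localDecomp {P V : Scheme.{u}} (p : P ⟶ V) [IsFinite p] (y₀ : V) {ι : Type u}
    (U : ι → Scheme.{u}) (g : ∀ i, U i ⟶ P) (hg : ∀ i, Etale (g i))
    (hcov : ∀ x : P, p x = y₀ → ∃ i, x ∈ Set.range (g i)) :
    ∃ (V₂ : Scheme.{u}) (v₂ : V₂ ⟶ V) (_ : Etale v₂) (y₂ : V₂), v₂ y₂ = y₀ ∧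
      ∃ (n : ℕ) (W : Fin n → (pullback p v₂).Opens), (∀ a b, a ≠ b → Disjoint (W a) (W b)) ∧
        (⨆ k, W k) = ⊤ ∧
        ∀ k, ∃ (i : ι) (h : ((W k : (pullback p v₂).Opens) : Scheme.{u}) ⟶ U i),
          h ≫ g i = (W k).ι ≫ pullback.fst p v₂ := by
  classical
  have hTfin : (p ⁻¹' {y₀}).Finite := p.finite_preimage_singleton y₀
  let T : Set P := p ⁻¹' {y₀}
  haveI : Finite T := hTfin.to_subtype
  have hch : ∀ x : T, ∃ (i : ι) (E₀ : (U i).Opens) (u : U i),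
      IsAffineOpen E₀ ∧ u ∈ E₀ ∧ g i u = x.1 := by
    intro x
    obtain ⟨i, u, hu⟩ := hcov x.1 x.2
    obtain ⟨_, ⟨E₀, hE₀, rfl⟩, huE₀, -⟩ :=
      (U i).isBasis_affineOpens.exists_subset_of_mem_open (Set.mem_univ u) isOpen_univ
    exact ⟨i, E₀, u, hE₀, huE₀, hu⟩
  choose ix E₀ ux hE₀ huE₀ hgu using hch
  haveI : ∀ x, IsAffine ((E₀ x : (U (ix x)).Opens) : Scheme.{u}) := hE₀
  let Ex : T → Scheme.{u} := fun x => ((E₀ x : (U (ix x)).Opens) : Scheme.{u})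
  haveI : ∀ x, IsAffine (Ex x) := hE₀
  let jx : ∀ x : T, Ex x ⟶ P := fun x => (E₀ x).ι ≫ g (ix x)
  haveI : ∀ x, Etale (jx x) := fun x => by
    have := hg (ix x)
    infer_instance
  let E : Scheme.{u} := ∐ Ex
  let G : E ⟶ P := Sigma.desc jx
  haveI : Etale G := IsZariskiLocalAtSource.sigmaDesc (P := @Etale) (fun x => inferInstance)
  haveI : IsAffine E := inferInstance
  let F : E ⟶ V := G ≫ p
  haveI : IsSeparated F := isSeparated_of_isAffine F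
  haveI : LocallyQuasiFinite G := locallyQuasiFinite_of_etale G
  haveI : LocallyQuasiFinite F := inferInstance
  haveI : LocallyOfFiniteType F := inferInstance
  have hux : ∀ x : T, ∃ u₀ : Ex x, (E₀ x).ι u₀ = ux x := by
    intro x
    have : ux x ∈ Set.range (E₀ x).ι := by rw [Scheme.Opens.range_ι]; exact huE₀ x
    exact this
  choose u₀ hu₀ using hux
  let ex : T → E := fun x => (Sigma.ι Ex x) (u₀ x)
  have hGι : ∀ x : T, Sigma.ι Ex x ≫ G = jx x := fun x => Sigma.ι_desc _ _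
  have hGex : ∀ x : T, G (ex x) = x.1 := by
    intro x
    change (Sigma.ι Ex x ≫ G) (u₀ x) = x.1
    rw [hGι]
    change g (ix x) ((E₀ x).ι (u₀ x)) = x.1
    rw [hu₀, hgu]
  let TE : Set E := Set.range ex
  have hTE : TE.Finite := Set.finite_range ex
  obtain ⟨V₁, v₁, y₁, hv₁, hy₁, hΞ, A, -, hA⟩ := exists_etale_split_clopen F y₀ TE hTE (by
    rintro _ ⟨x, rfl⟩
    refine ⟨?_, F.quasiFiniteAt _⟩
    change p (G (ex x)) = y₀
    rw [hGex]
    exact x.2)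
  let Ξ : Set ↥(pullback F v₁) :=
    {w | pullback.snd F v₁ w = y₁ ∧ pullback.fst F v₁ w ∈ TE}
  haveI : Finite Ξ := hΞ.to_subtype
  let m : pullback F v₁ ⟶ pullback p v₁ :=
    pullback.map F v₁ p v₁ G (𝟙 V₁) (𝟙 V) (by simp [F]) (by simp)
  have hm1 : m ≫ pullback.fst p v₁ = pullback.fst F v₁ ≫ G := pullback.lift_fst _ _ _
  have hm2 : m ≫ pullback.snd p v₁ = pullback.snd F v₁ :=
    (pullback.lift_snd _ _ _).trans (Category.comp_id _)
  have hm : IsPullback m (pullback.fst F v₁) (pullback.fst p v₁) G := by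
    refine IsPullback.of_right ?_ hm1 (IsPullback.of_hasPullback p v₁).flip
    rw [hm2]
    exact (IsPullback.of_hasPullback F v₁).flip
  haveI : Etale m := MorphismProperty.of_isPullback (P := @Etale) hm.flip inferInstance
  -- the pieces
  have hpiece : ∀ w : Ξ, ∃ (i : ι) (V' : V₁.Opens) (C : (pullback p v₁).Opens), y₁ ∈ V' ∧
      IsClosed (C : Set ↥(pullback p v₁)) ∧ m w.1 ∈ C ∧
      ∃ h : ((C ⊓ (pullback.snd p v₁) ⁻¹ᵁ V' : (pullback p v₁).Opens) : Scheme.{u}) ⟶ U i,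
        h ≫ g i = (C ⊓ (pullback.snd p v₁) ⁻¹ᵁ V').ι ≫ pullback.fst p v₁ := by
    rintro ⟨w, hw2, x, hx⟩
    obtain ⟨hwA, hclopen, hfin, huniq, hpi, -⟩ := hA w hw2 ⟨x, hx⟩
    let R : E.Opens := (Sigma.ι Ex x).opensRange
    have hRcl : IsClosed (R : Set E) := isClosed_range_sigmaι Ex x
    let A' : (pullback F v₁).Opens := A w ⊓ (pullback.fst F v₁) ⁻¹ᵁ R
    have hwA' : w ∈ A' := ⟨hwA, by
      change pullback.fst F v₁ w ∈ R
      rw [← hx]
      exact ⟨u₀ x, rfl⟩⟩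
    have hA'cl : IsClosed (A' : Set ↥(pullback F v₁)) :=
      hclopen.1.inter (hRcl.preimage (pullback.fst F v₁).continuous)
    obtain ⟨V', C, hyV', hCcl, hmC, σ, hσ⟩ := piece (pullback.snd F v₁) (pullback.snd p v₁) m hm2
      (A w) A' inf_le_left hA'cl w hwA' y₁ hw2 huniq hpi
    have hr : Set.range (A'.ι ≫ pullback.fst F v₁).base ⊆ Set.range (Sigma.ι Ex x).base := by
      rintro _ ⟨a, rfl⟩
      have : A'.ι a ∈ A' := by
        have : A'.ι a ∈ Set.range A'.ι := ⟨a, rfl⟩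
        rwa [Scheme.Opens.range_ι] at this
      exact this.2
    let lam : (A' : Scheme.{u}) ⟶ Ex x :=
      IsOpenImmersion.lift (Sigma.ι Ex x) (A'.ι ≫ pullback.fst F v₁) hr
    have hlam : lam ≫ Sigma.ι Ex x = A'.ι ≫ pullback.fst F v₁ := IsOpenImmersion.lift_fac _ _ _
    refine ⟨ix x, V', C, hyV', hCcl, hmC, σ ≫ lam ≫ (E₀ x).ι, ?_⟩
    calc (σ ≫ lam ≫ (E₀ x).ι) ≫ g (ix x) = σ ≫ lam ≫ jx x := by simp only [Category.assoc]; rfl
      _ = σ ≫ (lam ≫ Sigma.ι Ex x) ≫ G := by rw [Category.assoc, hGι]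
      _ = σ ≫ A'.ι ≫ (pullback.fst F v₁ ≫ G) := by rw [hlam, Category.assoc]
      _ = (σ ≫ A'.ι ≫ m) ≫ pullback.fst p v₁ := by rw [← hm1]; simp only [Category.assoc]
      _ = _ := by rw [hσ]
  choose iw V'w Cw hyw hclw hmw hw hhw using hpiece
  let n := Nat.card Ξ
  let e : Ξ ≃ Fin n := Finite.equivFin Ξ
  have hcovΞ : ∀ z : ↥(pullback p v₁), pullback.snd p v₁ z = y₁ →
      ∃ k : Fin n, z ∈ Cw (e.symm k) := by
    intro z hz
    have hxT : pullback.fst p v₁ z ∈ T := by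
      change p (pullback.fst p v₁ z) = y₀
      rw [← Scheme.Hom.comp_apply, pullback.condition, Scheme.Hom.comp_apply, hz, hy₁]
    obtain ⟨w, hw1, hw2⟩ := Scheme.exists_preimage_of_isPullback hm z (ex ⟨_, hxT⟩)
      (by rw [hGex])
    have hwΞ : w ∈ Ξ := by
      refine ⟨?_, ⟨_, hw2.symm⟩⟩
      rw [← hm2, Scheme.Hom.comp_apply]
      exact (congrArg (pullback.snd p v₁) hw1).trans hz
    refine ⟨e ⟨w, hwΞ⟩, ?_⟩
    rw [Equiv.symm_apply_apply]
    have := hmw ⟨w, hwΞ⟩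
    rwa [show m w = z from hw1] at this
  obtain ⟨V'', W, hyV'', hWle, hWdisj, hWsup⟩ := assemble (pullback.snd p v₁) y₁ n
    (fun k => V'w (e.symm k)) (fun k => Cw (e.symm k)) (fun k => hyw _) (fun k => hclw _) hcovΞ
  let b : pullback p (V''.ι ≫ v₁) ⟶ pullback p v₁ := bcMap p v₁ V''.ι
  obtain ⟨y₂, hy₂⟩ : ∃ y₂ : (V'' : Scheme.{u}), V''.ι y₂ = y₁ := by
    have : y₁ ∈ Set.range V''.ι := by rw [Scheme.Opens.range_ι]; exact hyV''
    exact this
  refine ⟨V'', V''.ι ≫ v₁, inferInstance, y₂, by rw [Scheme.Hom.comp_apply, hy₂, hy₁], n,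
    fun k => b ⁻¹ᵁ W k, ?_, ?_, ?_⟩
  · intro a c hac
    rw [disjoint_iff]
    ext z
    simp only [TopologicalSpace.Opens.coe_inf, TopologicalSpace.Opens.coe_bot,
      Set.mem_inter_iff, Set.mem_empty_iff_false, iff_false]
    rintro ⟨hza, hzc⟩
    exact (hWdisj a c hac).le_bot ⟨hza, hzc⟩
  · rw [eq_top_iff]
    intro z _
    have hbz : b z ∈ (pullback.snd p v₁) ⁻¹ᵁ V'' := by
      change pullback.snd p v₁ (b z) ∈ V''
      rw [bcMap_snd_apply]
      have : V''.ι (pullback.snd p (V''.ι ≫ v₁) z) ∈ Set.range V''.ι := ⟨_, rfl⟩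
      rwa [Scheme.Opens.range_ι] at this
    rw [← hWsup] at hbz
    obtain ⟨k, hk⟩ := TopologicalSpace.Opens.mem_iSup.mp hbz
    exact TopologicalSpace.Opens.mem_iSup.mpr ⟨k, hk⟩
  · intro k
    refine ⟨iw (e.symm k),
      (b ∣_ W k) ≫ (pullback p v₁).homOfLE (hWle k) ≫ hw (e.symm k), ?_⟩
    rw [Category.assoc, Category.assoc, hhw, Scheme.homOfLE_ι_assoc, morphismRestrict_ι_assoc,
      bcMap_fst]


/-- **Condition (B)** for finite morphisms. -/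
theorem propB {X Y : Scheme.{u}} (f : X ⟶ Y) [IsFinite f] : BigSite.PropB f := by
  intro V v _ ι U g hg hcov
  have hloc : ∀ y₀ : V, ∃ (V₂ : Scheme.{u}) (v₂ : V₂ ⟶ V) (_ : Etale v₂) (y₂ : V₂), v₂ y₂ = y₀ ∧
      ∃ (n : ℕ) (W : Fin n → (pullback (pullback.snd f v) v₂).Opens),
        (∀ a b, a ≠ b → Disjoint (W a) (W b)) ∧ (⨆ k, W k) = ⊤ ∧
        ∀ k, ∃ (i : ι) (h : ((W k : (pullback (pullback.snd f v) v₂).Opens) : Scheme.{u}) ⟶ U i),
          h ≫ g i = (W k).ι ≫ pullback.fst (pullback.snd f v) v₂ :=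
    fun y₀ => localDecomp (pullback.snd f v) y₀ U g hg (fun x _ => hcov x)
  choose V₂ v₂ hv₂ y₂ hy₂ n W hdisj hsup hfac using hloc
  refine ⟨V, V₂, v₂, hv₂, fun y => ⟨y, y₂ y, hy₂ y⟩, ?_⟩
  intro j
  let β : pullback f (v₂ j ≫ v) ⟶ pullback (pullback.snd f v) (v₂ j) :=
    pullback.lift (pullback.map f (v₂ j ≫ v) f v (𝟙 X) (v₂ j) (𝟙 Y) (by simp) (by simp))
      (pullback.snd f (v₂ j ≫ v)) (pullback.lift_snd _ _ _)
  have hβ : β ≫ pullback.fst (pullback.snd f v) (v₂ j) =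
      pullback.map f (v₂ j ≫ v) f v (𝟙 X) (v₂ j) (𝟙 Y) (by simp) (by simp) :=
    pullback.lift_fst _ _ _
  refine ⟨ULift.{u} (Fin (n j)), fun a => β ⁻¹ᵁ W j a.down, ?_, ?_, ?_⟩
  · intro a c hac
    have hac' : a.down ≠ c.down := fun h => hac (ULift.ext _ _ h)
    rw [disjoint_iff]
    ext z
    simp only [TopologicalSpace.Opens.coe_inf, TopologicalSpace.Opens.coe_bot,
      Set.mem_inter_iff, Set.mem_empty_iff_false, iff_false]
    rintro ⟨hza, hzc⟩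
    exact (hdisj j a.down c.down hac').le_bot ⟨hza, hzc⟩
  · rw [eq_top_iff]
    intro z _
    have hbz : β z ∈ (⨆ k, W j k) := by rw [hsup j]; trivial
    obtain ⟨k, hk⟩ := TopologicalSpace.Opens.mem_iSup.mp hbz
    exact TopologicalSpace.Opens.mem_iSup.mpr ⟨⟨k⟩, hk⟩
  · intro a
    obtain ⟨i, h, hh⟩ := hfac j a.down
    refine ⟨i, (β ∣_ W j a.down) ≫ h, ?_⟩
    rw [Category.assoc, hh, morphismRestrict_ι_assoc, hβ]

end Groth.Agent.Lib.Helper8EtPropBFinite
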