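import Mathlib
import Groth.Prelude.Def_BigSite
import Groth.Agent.Lib.Helper8EtPropBFinite

/-!
# Condition (B) for integral morphisms (helper8)

Reduction to the finite case by descending étale algebras to finite subalgebras
(`Algebra.Etale.exists_subalgebra_fg`).
-/

set_option autoImplicit false
set_option linter.unusedSectionVars false
universe u

open CategoryTheory CategoryTheory.Limits AlgebraicGeometry TensorProduct

namespace Groth.Agent.Lib.Helper8EtPropBIntegral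

/-- local decomposition over an étale neighbourhood of `y₀`, for a single étale `G : E ⟶ P`,
phrased for an arbitrary pullback square. -/
def Decomp {P V E : Scheme.{u}} (p : P ⟶ V) (G : E ⟶ P) (y₀ : V) : Prop :=
  ∃ (V₂ : Scheme.{u}) (v₂ : V₂ ⟶ V) (_ : Etale v₂) (y₂ : V₂), v₂ y₂ = y₀ ∧
    ∀ (Q : Scheme.{u}) (a : Q ⟶ P) (b : Q ⟶ V₂), IsPullback a b p v₂ →
      ∃ (n : ℕ) (W : Fin n → Q.Opens), (∀ k l, k ≠ l → Disjoint (W k) (W l)) ∧
        (⨆ k, W k) = ⊤ ∧ ∀ k, ∃ h : ((W k : Q.Opens) : Scheme.{u}) ⟶ E, h ≫ G = (W k).ι ≫ a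

/-- pulling back a finite disjoint open cover with factorizations along a morphism -/
theorem pull_cover {Q Q' P E : Scheme.{u}} (c : Q ⟶ Q') (a' : Q' ⟶ P) (G : E ⟶ P) {n : ℕ}
    (W : Fin n → Q'.Opens) (hdisj : ∀ k l, k ≠ l → Disjoint (W k) (W l)) (hsup : (⨆ k, W k) = ⊤)
    (hW : ∀ k, ∃ h : ((W k : Q'.Opens) : Scheme.{u}) ⟶ E, h ≫ G = (W k).ι ≫ a') :
    (∀ k l, k ≠ l → Disjoint (c ⁻¹ᵁ W k) (c ⁻¹ᵁ W l)) ∧ (⨆ k, c ⁻¹ᵁ W k) = ⊤ ∧
      ∀ k, ∃ h : ((c ⁻¹ᵁ W k : Q.Opens) : Scheme.{u}) ⟶ E, h ≫ G = (c ⁻¹ᵁ W k).ι ≫ c ≫ a' := by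
  refine ⟨?_, ?_, ?_⟩
  · intro k l hkl
    rw [disjoint_iff]
    ext z
    simp only [TopologicalSpace.Opens.coe_inf, TopologicalSpace.Opens.coe_bot,
      Set.mem_inter_iff, Set.mem_empty_iff_false, iff_false]
    rintro ⟨hza, hzc⟩
    exact (hdisj k l hkl).le_bot ⟨hza, hzc⟩
  · rw [eq_top_iff]
    intro z _
    have hz : c z ∈ (⊤ : Q'.Opens) := trivial
    rw [← hsup] at hz
    obtain ⟨k, hk⟩ := TopologicalSpace.Opens.mem_iSup.mp hz
    exact TopologicalSpace.Opens.mem_iSup.mpr ⟨k, hk⟩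
  · intro k
    obtain ⟨h, hh⟩ := hW k
    refine ⟨(c ∣_ W k) ≫ h, ?_⟩
    rw [Category.assoc, hh, morphismRestrict_ι_assoc]

/-- the finite case -/
theorem decomp_of_finite {P V E : Scheme.{u}} (p : P ⟶ V) [IsFinite p] (G : E ⟶ P) [Etale G]
    (y₀ : V) (hcov : ∀ x : P, p x = y₀ → x ∈ Set.range G) : Decomp p G y₀ := by
  obtain ⟨V₂, v₂, hv₂, y₂, hy₂, n, W, hdisj, hsup, hW⟩ :=
    Groth.Agent.Lib.Helper8EtPropBFinite.localDecomp p y₀ (ι := PUnit.{u + 1}) (fun _ => E)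
      (fun _ => G) (fun _ => inferInstance) (fun x hx => ⟨PUnit.unit, hcov x hx⟩)
  refine ⟨V₂, v₂, hv₂, y₂, hy₂, ?_⟩
  intro Q a b sq
  let c : Q ⟶ pullback p v₂ := pullback.lift a b sq.w
  have hc : c ≫ pullback.fst p v₂ = a := pullback.lift_fst _ _ _
  obtain ⟨h1, h2, h3⟩ := pull_cover c (pullback.fst p v₂) G W hdisj hsup
    (fun k => by obtain ⟨_, h, hh⟩ := hW k; exact ⟨h, hh⟩)
  refine ⟨n, fun k => c ⁻¹ᵁ W k, h1, h2, fun k => ?_⟩
  obtain ⟨h, hh⟩ := h3 k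
  exact ⟨h, by rw [hh, hc]⟩


/-- the case of spectra: an integral algebra and an étale algebra over it. -/
theorem decomp_spec (Λ A B : Type u) [CommRing Λ] [CommRing A] [CommRing B] [Algebra Λ A]
    [Algebra A B] [Algebra.IsIntegral Λ A] [Algebra.Etale A B] (y₀ : Spec (CommRingCat.of Λ))
    (hcov : ∀ x : Spec (CommRingCat.of A),
      Spec.map (CommRingCat.ofHom (algebraMap Λ A)) x = y₀ →
        x ∈ Set.range (Spec.map (CommRingCat.ofHom (algebraMap A B)))) :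
    Decomp (Spec.map (CommRingCat.ofHom (algebraMap Λ A)))
      (Spec.map (CommRingCat.ofHom (algebraMap A B))) y₀ := by
  obtain ⟨A₀, B₀, _, _, hfg, hEt, ⟨e⟩⟩ := Algebra.Etale.exists_subalgebra_fg Λ A B
  haveI : Algebra.FiniteType Λ A₀ := (Subalgebra.fg_iff_finiteType A₀).mp hfg
  haveI : Algebra.IsIntegral Λ A₀ := by
    constructor
    intro a₀
    have h1 : IsIntegral Λ (A₀.val a₀) := Algebra.IsIntegral.isIntegral _
    exact (isIntegral_algHom_iff A₀.val Subtype.val_injective).mp h1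
  haveI : Module.Finite Λ A₀ := Algebra.IsIntegral.finite
  haveI : Algebra.IsIntegral A₀ A := Algebra.IsIntegral.tower_top (R := Λ)
  -- the schemes
  let p₀ : Spec (CommRingCat.of A₀) ⟶ Spec (CommRingCat.of Λ) :=
    Spec.map (CommRingCat.ofHom (algebraMap Λ A₀))
  let π : Spec (CommRingCat.of A) ⟶ Spec (CommRingCat.of A₀) :=
    Spec.map (CommRingCat.ofHom (algebraMap A₀ A))
  let G₀ : Spec (CommRingCat.of B₀) ⟶ Spec (CommRingCat.of A₀) :=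
    Spec.map (CommRingCat.ofHom (algebraMap A₀ B₀))
  let r : B₀ →+* B := (e.symm : A ⊗[A₀] B₀ →+* B).comp
    (Algebra.TensorProduct.includeRight : B₀ →ₐ[A₀] A ⊗[A₀] B₀).toRingHom
  let ρ : Spec (CommRingCat.of B) ⟶ Spec (CommRingCat.of B₀) := Spec.map (CommRingCat.ofHom r)
  haveI : IsFinite p₀ := by
    rw [IsFinite.SpecMap_iff]
    exact RingHom.finite_algebraMap.mpr inferInstance
  haveI : Etale G₀ := by
    rw [HasRingHomProperty.Spec_iff (P := @Etale)]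
    exact RingHom.etale_algebraMap.2 hEt
  have hπp : π ≫ p₀ = Spec.map (CommRingCat.ofHom (algebraMap Λ A)) := by
    rw [← Spec.map_comp, ← CommRingCat.ofHom_comp, ← IsScalarTower.algebraMap_eq]
  have hπsurj : Function.Surjective π := by
    intro x₀
    haveI : FaithfulSMul A₀ A :=
      (faithfulSMul_iff_algebraMap_injective A₀ A).mpr Subtype.val_injective
    exact Algebra.IsIntegral.comap_surjective A₀ A x₀
  -- the pullback square
  have sq : IsPullback (Spec.map (CommRingCat.ofHom (algebraMap A B))) ρ π G₀ := by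
    have h0 := isPullback_SpecMap_of_isPushout _ _ _ _
      (CommRingCat.isPushout_tensorProduct A₀ A B₀)
    let ε : Spec (CommRingCat.of B) ≅ Spec (CommRingCat.of (A ⊗[A₀] B₀)) :=
      Scheme.Spec.mapIso (e.symm.toRingEquiv.toCommRingCatIso).op
    refine IsPullback.of_iso h0 ε.symm (Iso.refl _) (Iso.refl _) (Iso.refl _) ?_ ?_ ?_ ?_
    · change Spec.map _ ≫ 𝟙 _ = Spec.map _ ≫ Spec.map _
      rw [Category.comp_id, ← Spec.map_comp]
      congr 1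
      ext a
      exact (e.commutes a).symm
    · change Spec.map _ ≫ 𝟙 _ = Spec.map _ ≫ Spec.map _
      rw [Category.comp_id, ← Spec.map_comp]
      congr 1
      ext b
      change _ = e (e.symm _)
      rw [AlgEquiv.apply_symm_apply]
      rfl
    · exact (Category.comp_id _).trans (Category.id_comp _).symm
    · exact (Category.comp_id _).trans (Category.id_comp _).symm
  have hcov₀ : ∀ x₀ : Spec (CommRingCat.of A₀), p₀ x₀ = y₀ → x₀ ∈ Set.range G₀ := by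
    intro x₀ hx₀
    obtain ⟨x, rfl⟩ := hπsurj x₀
    have hx : Spec.map (CommRingCat.ofHom (algebraMap Λ A)) x = y₀ := by
      rw [← hπp, Scheme.Hom.comp_apply]
      exact hx₀
    obtain ⟨z, rfl⟩ := hcov x hx
    refine ⟨ρ z, ?_⟩
    rw [← Scheme.Hom.comp_apply, ← sq.w, Scheme.Hom.comp_apply]
  obtain ⟨V₂, v₂, hv₂, y₂, hy₂, H⟩ := decomp_of_finite p₀ G₀ y₀ hcov₀
  refine ⟨V₂, v₂, hv₂, y₂, hy₂, ?_⟩
  intro Q a b sqQ
  have hw : (a ≫ π) ≫ p₀ = b ≫ v₂ := by rw [Category.assoc, hπp, sqQ.w]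
  let c : Q ⟶ pullback p₀ v₂ := pullback.lift (a ≫ π) b hw
  have hc1 : c ≫ pullback.fst p₀ v₂ = a ≫ π := pullback.lift_fst _ _ _
  obtain ⟨n, W, hdisj, hsup, hW⟩ := H (pullback p₀ v₂) (pullback.fst p₀ v₂) (pullback.snd p₀ v₂)
    (IsPullback.of_hasPullback p₀ v₂)
  obtain ⟨h1, h2, h3⟩ := pull_cover c (pullback.fst p₀ v₂) G₀ W hdisj hsup hW
  refine ⟨n, fun k => c ⁻¹ᵁ W k, h1, h2, fun k => ?_⟩
  obtain ⟨h, hh⟩ := h3 k
  have hcomp : ((c ⁻¹ᵁ W k).ι ≫ a) ≫ π = h ≫ G₀ := by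
    rw [hh, Category.assoc, hc1]
  exact ⟨sq.lift ((c ⁻¹ᵁ W k).ι ≫ a) h hcomp, sq.lift_fst _ _ _⟩


/-- the affine case -/
theorem decomp_affine {P V E : Scheme.{u}} [IsAffine P] [IsAffine V] [IsAffine E] (p : P ⟶ V)
    [IsIntegralHom p] (G : E ⟶ P) [Etale G] (y₀ : V)
    (hcov : ∀ x : P, p x = y₀ → x ∈ Set.range G) : Decomp p G y₀ := by
  have hφ : p.appTop.hom.IsIntegral :=
    ((HasAffineProperty.iff_of_isAffine (P := @IsIntegralHom)).1 ‹IsIntegralHom p›).2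
  have hγ : G.appTop.hom.Etale := (HasRingHomProperty.iff_of_isAffine (P := @Etale)).1 ‹Etale G›
  algebraize [p.appTop.hom, G.appTop.hom]
  have e1 : CommRingCat.ofHom (algebraMap Γ(V, ⊤) Γ(P, ⊤)) = p.appTop := rfl
  have e2 : CommRingCat.ofHom (algebraMap Γ(P, ⊤) Γ(E, ⊤)) = G.appTop := rfl
  have hcov' : ∀ x : Spec (CommRingCat.of Γ(P, ⊤)),
      Spec.map (CommRingCat.ofHom (algebraMap Γ(V, ⊤) Γ(P, ⊤))) x = V.isoSpec.hom y₀ →
        x ∈ Set.range (Spec.map (CommRingCat.ofHom (algebraMap Γ(P, ⊤) Γ(E, ⊤)))) := by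
    intro x hx
    rw [e1] at hx
    rw [e2]
    obtain ⟨x', rfl⟩ : ∃ x' : P, P.isoSpec.hom x' = x :=
      ⟨P.isoSpec.inv x, by rw [← Scheme.Hom.comp_apply, Iso.inv_hom_id]; rfl⟩
    have h1 : V.isoSpec.hom (p x') = V.isoSpec.hom y₀ := by
      rw [← hx, ← Scheme.Hom.comp_apply, ← Scheme.Hom.comp_apply, Scheme.isoSpec_hom_naturality]
    have h2 : p x' = y₀ := by
      have key : ∀ z : V, V.isoSpec.inv (V.isoSpec.hom z) = z := fun z => by
        rw [← Scheme.Hom.comp_apply, Iso.hom_inv_id]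
        rfl
      have h3 := congrArg V.isoSpec.inv h1
      rw [key, key] at h3
      exact h3
    obtain ⟨z, rfl⟩ := hcov x' h2
    refine ⟨E.isoSpec.hom z, ?_⟩
    rw [← Scheme.Hom.comp_apply, ← Scheme.Hom.comp_apply, Scheme.isoSpec_hom_naturality]
  obtain ⟨V₂, v₂', hv₂, y₂, hy₂, H⟩ :=
    decomp_spec Γ(V, ⊤) Γ(P, ⊤) Γ(E, ⊤) (V.isoSpec.hom y₀) hcov'
  rw [e1, e2] at H
  haveI := hv₂
  refine ⟨V₂, v₂' ≫ V.isoSpec.inv, inferInstance, y₂, ?_, ?_⟩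
  · rw [Scheme.Hom.comp_apply, hy₂, ← Scheme.Hom.comp_apply, Iso.hom_inv_id]
    rfl
  · intro Q a b sq
    have sq' : IsPullback (a ≫ P.isoSpec.hom) b (Spec.map p.appTop) v₂' := by
      refine IsPullback.of_iso sq (Iso.refl Q) P.isoSpec (Iso.refl V₂) V.isoSpec ?_ ?_ ?_ ?_
      · simp
      · simp
      · exact (Scheme.isoSpec_hom_naturality p).symm
      · simp
    obtain ⟨n, W, hdisj, hsup, hW⟩ := H Q (a ≫ P.isoSpec.hom) b sq'
    refine ⟨n, W, hdisj, hsup, fun k => ?_⟩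
    obtain ⟨h', hh'⟩ := hW k
    refine ⟨h' ≫ E.isoSpec.inv, ?_⟩
    rw [Category.assoc, ← Scheme.isoSpec_inv_naturality, ← Category.assoc, hh']
    simp


/-- the general case: integral `p`, a single étale `G` covering the fibre over `y₀`. -/
theorem decomp_integral {P V E : Scheme.{u}} (p : P ⟶ V) [IsIntegralHom p] (G : E ⟶ P) [Etale G]
    (y₀ : V) (hcov : ∀ x : P, p x = y₀ → x ∈ Set.range G) : Decomp p G y₀ := by
  classical
  obtain ⟨V₁, hV₁, hyV₁⟩ : ∃ V₁ : V.Opens, IsAffineOpen V₁ ∧ y₀ ∈ V₁ := by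
    obtain ⟨_, ⟨V₁, hV₁, rfl⟩, hy, -⟩ :=
      V.isBasis_affineOpens.exists_subset_of_mem_open (Set.mem_univ y₀) isOpen_univ
    exact ⟨V₁, hV₁, hy⟩
  haveI : IsAffine (V₁ : Scheme.{u}) := hV₁
  have hP₁ : IsAffineOpen (p ⁻¹ᵁ V₁) := hV₁.preimage p
  haveI : IsAffine ((p ⁻¹ᵁ V₁ : P.Opens) : Scheme.{u}) := hP₁
  -- the fibre is compact
  have hcomp : IsCompact (p ⁻¹' {y₀}) := p.isCompact_preimage_singleton y₀
  -- affine pieces
  have hch : ∀ x : ↥(p ⁻¹' {y₀}), ∃ (z : E) (D : E.Opens), IsAffineOpen D ∧ z ∈ D ∧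
      D ≤ G ⁻¹ᵁ (p ⁻¹ᵁ V₁) ∧ G z = x.1 := by
    intro x
    obtain ⟨z, hz⟩ := hcov x.1 x.2
    have hzP : z ∈ G ⁻¹ᵁ (p ⁻¹ᵁ V₁) := by
      change p (G z) ∈ V₁
      rw [hz, x.2]
      exact hyV₁
    obtain ⟨_, ⟨D, hD, rfl⟩, hzD, hDsub⟩ :=
      E.isBasis_affineOpens.exists_subset_of_mem_open hzP (G ⁻¹ᵁ (p ⁻¹ᵁ V₁)).isOpen
    exact ⟨z, D, hD, hzD, hDsub, hz⟩
  choose z D hD hzD hDle hGz using hch
  have hopen : ∀ x, IsOpen (G '' (D x : Set E)) := fun x => G.isOpenMap _ (D x).isOpen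
  obtain ⟨t, ht⟩ := hcomp.elim_finite_subcover (fun x => G '' (D x : Set E)) hopen (by
    intro x hx
    exact Set.mem_iUnion.mpr ⟨⟨x, hx⟩, z ⟨x, hx⟩, hzD _, hGz _⟩)
  -- the affine étale scheme
  let Dx : ↥t → Scheme.{u} := fun x => ((D x.1 : E.Opens) : Scheme.{u})
  haveI : ∀ x, IsAffine (Dx x) := fun x => hD x.1
  let G'x : ∀ x : ↥t, Dx x ⟶ ((p ⁻¹ᵁ V₁ : P.Opens) : Scheme.{u}) := fun x =>
    E.homOfLE (hDle x.1) ≫ (G ∣_ (p ⁻¹ᵁ V₁))
  haveI : ∀ x, Etale (G'x x) := fun x => by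
    dsimp only [G'x]
    infer_instance
  have hG'x : ∀ x, G'x x ≫ (p ⁻¹ᵁ V₁).ι = (D x.1).ι ≫ G := by
    intro x
    dsimp only [G'x]
    rw [Category.assoc, morphismRestrict_ι, Scheme.homOfLE_ι_assoc]
  let E' : Scheme.{u} := ∐ Dx
  haveI : IsAffine E' := inferInstance
  let G' : E' ⟶ ((p ⁻¹ᵁ V₁ : P.Opens) : Scheme.{u}) := Sigma.desc G'x
  haveI : Etale G' := IsZariskiLocalAtSource.sigmaDesc (P := @Etale) (fun x => inferInstance)
  let κ : E' ⟶ E := Sigma.desc (fun x : ↥t => (D x.1).ι)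
  have hκ : G' ≫ (p ⁻¹ᵁ V₁).ι = κ ≫ G := by
    apply Sigma.hom_ext
    intro x
    rw [Sigma.ι_desc_assoc, Sigma.ι_desc_assoc, hG'x]
  obtain ⟨y₁, hy₁⟩ : ∃ y₁ : (V₁ : Scheme.{u}), V₁.ι y₁ = y₀ := by
    have : y₀ ∈ Set.range V₁.ι := by rw [Scheme.Opens.range_ι]; exact hyV₁
    exact this
  have hp₁ : (p ∣_ V₁) ≫ V₁.ι = (p ⁻¹ᵁ V₁).ι ≫ p := morphismRestrict_ι p V₁
  have hcov₁ : ∀ x₁ : ((p ⁻¹ᵁ V₁ : P.Opens) : Scheme.{u}), (p ∣_ V₁) x₁ = y₁ →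
      x₁ ∈ Set.range G' := by
    intro x₁ hx₁
    have hx : p ((p ⁻¹ᵁ V₁).ι x₁) = y₀ := by
      rw [← Scheme.Hom.comp_apply, ← hp₁, Scheme.Hom.comp_apply, hx₁, hy₁]
    obtain ⟨x', hx't, d, hd, hdx⟩ : ∃ x' ∈ t, ∃ d ∈ (D x' : Set E), G d = (p ⁻¹ᵁ V₁).ι x₁ := by
      have := ht hx
      simp only [Set.mem_iUnion] at this
      obtain ⟨x', hx't, d, hd, hdx⟩ := this
      exact ⟨x', hx't, d, hd, hdx⟩
    obtain ⟨d', hd'⟩ : ∃ d' : ((D x' : E.Opens) : Scheme.{u}), (D x').ι d' = d := by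
      have : d ∈ Set.range (D x').ι := by rw [Scheme.Opens.range_ι]; exact hd
      exact this
    refine ⟨(Sigma.ι Dx ⟨x', hx't⟩) d', ?_⟩
    apply (p ⁻¹ᵁ V₁).ι.isOpenEmbedding.injective
    rw [← hdx, ← hd', ← Scheme.Hom.comp_apply, ← Scheme.Hom.comp_apply, ← Scheme.Hom.comp_apply,
      hκ, Sigma.ι_desc_assoc]
  obtain ⟨V₂, v₂, hv₂, y₂, hy₂, H⟩ := decomp_affine (p ∣_ V₁) G' y₁ hcov₁
  haveI := hv₂
  refine ⟨V₂, v₂ ≫ V₁.ι, inferInstance, y₂, by rw [Scheme.Hom.comp_apply, hy₂, hy₁], ?_⟩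
  intro Q a b sq
  have hr : Set.range a.base ⊆ Set.range (p ⁻¹ᵁ V₁).ι.base := by
    rintro _ ⟨q, rfl⟩
    rw [Scheme.Opens.range_ι]
    change p (a q) ∈ V₁
    rw [← Scheme.Hom.comp_apply, sq.w, Scheme.Hom.comp_apply, Scheme.Hom.comp_apply]
    have : V₁.ι (v₂ (b q)) ∈ Set.range V₁.ι := ⟨_, rfl⟩
    rwa [Scheme.Opens.range_ι] at this
  let a' : Q ⟶ ((p ⁻¹ᵁ V₁ : P.Opens) : Scheme.{u}) := IsOpenImmersion.lift (p ⁻¹ᵁ V₁).ι a hr
  have ha' : a' ≫ (p ⁻¹ᵁ V₁).ι = a := IsOpenImmersion.lift_fac _ _ _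
  have hw' : a' ≫ (p ∣_ V₁) = b ≫ v₂ := by
    rw [← cancel_mono V₁.ι, Category.assoc, hp₁, ← Category.assoc, ha', sq.w, Category.assoc]
  have sq' : IsPullback a' b (p ∣_ V₁) v₂ := by
    refine IsPullback.of_right ?_ hw' (isPullback_morphismRestrict p V₁).flip
    rw [ha']
    exact sq
  obtain ⟨n, W, hdisj, hsup, hW⟩ := H Q a' b sq'
  refine ⟨n, W, hdisj, hsup, fun k => ?_⟩
  obtain ⟨h', hh'⟩ := hW k
  refine ⟨h' ≫ κ, ?_⟩
  rw [Category.assoc, ← hκ, ← Category.assoc, hh', Category.assoc, ha']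


/-- refining a finite disjoint open cover mapping to a coproduct into one mapping to the
summands. -/
theorem refine_cover {Q P : Scheme.{u}} {ι : Type u} (U : ι → Scheme.{u}) (g : ∀ i, U i ⟶ P)
    (a : Q ⟶ P) {n : ℕ} (W : Fin n → Q.Opens) (hdisj : ∀ k l, k ≠ l → Disjoint (W k) (W l))
    (hsup : (⨆ k, W k) = ⊤)
    (hW : ∀ k, ∃ h : ((W k : Q.Opens) : Scheme.{u}) ⟶ ∐ U, h ≫ Sigma.desc g = (W k).ι ≫ a) :
    ∃ (μ : Type u) (W' : μ → Q.Opens), (∀ m m', m ≠ m' → Disjoint (W' m) (W' m')) ∧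
      (⨆ m, W' m) = ⊤ ∧
      ∀ m, ∃ (i : ι) (h : ((W' m : Q.Opens) : Scheme.{u}) ⟶ U i), h ≫ g i = (W' m).ι ≫ a := by
  choose h hh using hW
  let R : ι → (∐ U : Scheme.{u}).Opens := fun i => (Sigma.ι U i).opensRange
  let O : ∀ (k : Fin n) (i : ι), ((W k : Q.Opens) : Scheme.{u}).Opens := fun k i => h k ⁻¹ᵁ R i
  let W' : Fin n × ι → Q.Opens := fun m => (W m.1).ι ''ᵁ O m.1 m.2
  have hW'le : ∀ m, W' m ≤ W m.1 := fun m => (W m.1).ι_image_le _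
  have hmem : ∀ (m : Fin n × ι) (q : Q), q ∈ W' m ↔
      ∃ q' : ((W m.1 : Q.Opens) : Scheme.{u}), (W m.1).ι q' = q ∧ h m.1 q' ∈ R m.2 := by
    intro m q
    constructor
    · rintro ⟨q', hq', rfl⟩
      exact ⟨q', rfl, hq'⟩
    · rintro ⟨q', rfl, hq'⟩
      exact ⟨q', hq', rfl⟩
  refine ⟨Fin n × ι, W', ?_, ?_, ?_⟩
  · rintro ⟨k, i⟩ ⟨l, j⟩ hne
    rw [disjoint_iff]
    ext q
    simp only [TopologicalSpace.Opens.coe_inf, TopologicalSpace.Opens.coe_bot,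
      Set.mem_inter_iff, Set.mem_empty_iff_false, iff_false]
    rintro ⟨h1, h2⟩
    by_cases hkl : k = l
    · subst hkl
      have hij : i ≠ j := fun e => hne (by rw [e])
      obtain ⟨q₁, hq₁, hR₁⟩ := (hmem (k, i) q).1 h1
      obtain ⟨q₂, hq₂, hR₂⟩ := (hmem (k, j) q).1 h2
      have : q₁ = q₂ := (W k).ι.isOpenEmbedding.injective (hq₁.trans hq₂.symm)
      subst this
      exact (disjoint_opensRange_sigmaι U i j hij).le_bot ⟨hR₁, hR₂⟩
    · exact (hdisj k l hkl).le_bot ⟨hW'le (k, i) h1, hW'le (l, j) h2⟩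
  · rw [eq_top_iff]
    intro q _
    have hq : q ∈ (⊤ : Q.Opens) := trivial
    rw [← hsup] at hq
    obtain ⟨k, hk⟩ := TopologicalSpace.Opens.mem_iSup.mp hq
    obtain ⟨q', hq'⟩ : ∃ q' : ((W k : Q.Opens) : Scheme.{u}), (W k).ι q' = q := by
      have : q ∈ Set.range (W k).ι := by rw [Scheme.Opens.range_ι]; exact hk
      exact this
    obtain ⟨⟨i, x⟩, hx⟩ := (sigmaMk U).surjective (h k q')
    refine TopologicalSpace.Opens.mem_iSup.mpr ⟨(k, i), (hmem (k, i) q).2 ⟨q', hq', ?_⟩⟩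
    rw [← hx, sigmaMk_mk]
    exact ⟨x, rfl⟩
  · rintro ⟨k, i⟩
    refine ⟨i, ((W k).ι.isoImage (O k i)).inv ≫ (h k ∣_ R i) ≫
      (Sigma.ι U i).isoOpensRange.inv, ?_⟩
    have e1 : g i = Sigma.ι U i ≫ Sigma.desc g := (Sigma.ι_desc _ _).symm
    calc (((W k).ι.isoImage (O k i)).inv ≫ (h k ∣_ R i) ≫ (Sigma.ι U i).isoOpensRange.inv) ≫ g i
        = ((W k).ι.isoImage (O k i)).inv ≫ (h k ∣_ R i) ≫
            ((Sigma.ι U i).isoOpensRange.inv ≫ Sigma.ι U i) ≫ Sigma.desc g := by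
          rw [e1]; simp only [Category.assoc]
      _ = ((W k).ι.isoImage (O k i)).inv ≫ ((h k ∣_ R i) ≫ (R i).ι) ≫ Sigma.desc g := by
          rw [Scheme.Hom.isoOpensRange_inv_comp]; simp only [Category.assoc]; rfl
      _ = ((W k).ι.isoImage (O k i)).inv ≫ (O k i).ι ≫ (h k ≫ Sigma.desc g) := by
          rw [morphismRestrict_ι]; simp only [Category.assoc]; rfl
      _ = (((W k).ι.isoImage (O k i)).inv ≫ (O k i).ι ≫ (W k).ι) ≫ a := by
          rw [hh]; simp only [Category.assoc]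
      _ = _ := by rw [Scheme.Hom.isoImage_inv_ι]

/-- **Condition (B)** for integral morphisms. -/
theorem propB {X Y : Scheme.{u}} (f : X ⟶ Y) [IsIntegralHom f] : BigSite.PropB f := by
  intro V v _ ι U g hg hcov
  haveI : ∀ i, Etale (g i) := hg
  let E : Scheme.{u} := ∐ U
  let G : E ⟶ pullback f v := Sigma.desc g
  haveI : Etale G := IsZariskiLocalAtSource.sigmaDesc (P := @Etale) (fun i => inferInstance)
  have hcovG : ∀ x : ↥(pullback f v), x ∈ Set.range G := by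
    intro x
    obtain ⟨i, u, rfl⟩ := hcov x
    refine ⟨Sigma.ι U i u, ?_⟩
    rw [← Scheme.Hom.comp_apply, Sigma.ι_desc]
  have hloc : ∀ y₀ : V, Decomp (pullback.snd f v) G y₀ :=
    fun y₀ => decomp_integral (pullback.snd f v) G y₀ (fun x _ => hcovG x)
  choose V₂ v₂ hv₂ y₂ hy₂ H using hloc
  refine ⟨V, V₂, v₂, hv₂, fun y => ⟨y, y₂ y, hy₂ y⟩, ?_⟩
  intro j
  let a : pullback f (v₂ j ≫ v) ⟶ pullback f v :=
    pullback.map f (v₂ j ≫ v) f v (𝟙 X) (v₂ j) (𝟙 Y) (by simp) (by simp)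
  have ha1 : a ≫ pullback.fst f v = pullback.fst f (v₂ j ≫ v) :=
    (pullback.lift_fst _ _ _).trans (Category.comp_id _)
  have ha2 : a ≫ pullback.snd f v = pullback.snd f (v₂ j ≫ v) ≫ v₂ j := pullback.lift_snd _ _ _
  have sq : IsPullback a (pullback.snd f (v₂ j ≫ v)) (pullback.snd f v) (v₂ j) := by
    refine IsPullback.of_right ?_ ha2 (IsPullback.of_hasPullback f v)
    rw [ha1]
    exact IsPullback.of_hasPullback f (v₂ j ≫ v)
  obtain ⟨n, W, hdisj, hsup, hW⟩ := H j _ a _ sq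
  exact refine_cover U g a W hdisj hsup hW

end Groth.Agent.Lib.Helper8EtPropBIntegral
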