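import Mathlib
import Groth.Prelude.Def_BigSite
import Groth.Prelude.Def_EtBase
import Groth.Agent.Lib.Helper16EtGlue

/-!
# Condition (B) implies that the direct image of abelian étale sheaves preserves epimorphisms
(helper8; port to abelian sheaves of the proof of S6629 for sheaves of sets)
-/

set_option autoImplicit false
open CategoryTheory CategoryTheory.Limits AlgebraicGeometry Opposite
universe u

namespace Groth.Agent.Lib.Helper8EtPropBPush

open Groth.Agent.Lib.Helper16.SmallEtale Groth.Agent.Lib.Helper16.EtGlue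

lemma key_eq {X Y : Scheme.{u}} (f : X ⟶ Y) {V V' : Scheme.{u}} (v : V ⟶ Y) (v' : V' ⟶ V)
    {Z : Scheme.{u}} (w : Z ⟶ pullback f (v' ≫ v)) (m : pullback (v' ≫ v) f ⟶ pullback v f)
    (hm1 : m ≫ pullback.fst v f = pullback.fst (v' ≫ v) f ≫ v')
    (hm2 : m ≫ pullback.snd v f = pullback.snd (v' ≫ v) f) :
    ((w ≫ (pullbackSymmetry f (v' ≫ v)).hom) ≫ m) ≫ (pullbackSymmetry v f).hom =
      w ≫ pullback.map f (v' ≫ v) f v (𝟙 X) v' (𝟙 Y) (by simp) (by simp) := by
  apply pullback.hom_ext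
  · simp only [Category.assoc, pullbackSymmetry_hom_comp_fst, hm2, pullbackSymmetry_hom_comp_snd,
      pullback.lift_fst, Category.comp_id]
  · simp only [Category.assoc, pullbackSymmetry_hom_comp_snd, hm1, pullback.lift_snd]
    rw [← Category.assoc (pullbackSymmetry f (v' ≫ v)).hom, pullbackSymmetry_hom_comp_fst]

set_option backward.isDefEq.respectTransparency.types false in
/-- condition (B) implies that `f_*` on abelian étale sheaves preserves epimorphisms -/
theorem preservesEpimorphisms_of_propB {X Y : Scheme.{u}} (f : X ⟶ Y) [EtCoh.BCCont f]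
    (hB : BigSite.PropB f) : (EtCoh.push f).PreservesEpimorphisms := by
  constructor
  intro F G φ hφ
  rw [← Sheaf.isLocallySurjective_iff_epi'] at hφ ⊢
  constructor
  intro V s
  let Ft : X.Etaleᵒᵖ ⥤ Type (u + 1) := F.obj ⋙ forget AddCommGrpCat.{u + 1}
  let Gt : X.Etaleᵒᵖ ⥤ Type (u + 1) := G.obj ⋙ forget AddCommGrpCat.{u + 1}
  have hFs : Presieve.IsSheaf X.smallEtaleTopology Ft :=
    (isSheaf_iff_isSheaf_of_type _ _).1
      ((Presheaf.isSheaf_iff_isSheaf_forget _ F.obj (forget AddCommGrpCat.{u + 1})).1 F.2)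
  have hGs : Presieve.IsSheaf X.smallEtaleTopology Gt :=
    (isSheaf_iff_isSheaf_of_type _ _).1
      ((Presheaf.isSheaf_iff_isSheaf_forget _ G.obj (forget AddCommGrpCat.{u + 1})).1 G.2)
  let P : X.Etale := (EtCoh.bc f).obj V
  have hcov : Presheaf.imageSieve φ.hom (U := P) s ∈ X.smallEtaleTopology P :=
    Presheaf.imageSieve_mem X.smallEtaleTopology φ.hom (U := op P) s
  rw [mem_smallEtale_iff] at hcov
  choose U g y ht hy using hcov
  choose t ht using ht
  let σ : pullback V.hom f ≅ pullback f V.hom := pullbackSymmetry V.hom f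
  have hσ1 : σ.hom ≫ pullback.fst f V.hom = pullback.snd V.hom f := pullbackSymmetry_hom_comp_fst _ _
  have hσ2 : σ.hom ≫ pullback.snd f V.hom = pullback.fst V.hom f := pullbackSymmetry_hom_comp_snd _ _
  have hUhom : ∀ x, (g x).left ≫ pullback.snd V.hom f = (U x).hom := fun x => Over.w (g x).hom
  obtain ⟨κ, V', v', hv', hcovV, hW⟩ := hB V.left V.hom P.left (fun x => (U x).left)
    (fun x => (g x).left ≫ σ.hom) (fun x => inferInstance)
    (by
      intro z
      refine ⟨σ.inv z, y (σ.inv z), ?_⟩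
      change ((g (σ.inv z)).left ≫ σ.hom) (y (σ.inv z)) = z
      rw [Scheme.Hom.comp_apply, hy]
      exact congrArg (fun m : pullback f V.hom ⟶ pullback f V.hom => m z) σ.inv_hom_id)
  rw [mem_smallEtale_iff]
  intro y₀
  obtain ⟨j, y', hy'⟩ := hcovV y₀
  have := hv' j
  let Vj : Y.Etale := Scheme.Etale.mk (v' j ≫ V.hom)
  let kj : Vj ⟶ V := MorphismProperty.Over.homMk (v' j) rfl
  refine ⟨Vj, kj, y', ?_, hy'⟩
  obtain ⟨μ, W, hdisj, htop, hfac⟩ := hW j
  choose i h hh using hfac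
  let Pj : X.Etale := (EtCoh.bc f).obj Vj
  let τ : pullback f (v' j ≫ V.hom) ≅ pullback (v' j ≫ V.hom) f := pullbackSymmetry f (v' j ≫ V.hom)
  have hτ1 : τ.hom ≫ pullback.fst (v' j ≫ V.hom) f = pullback.snd f (v' j ≫ V.hom) :=
    pullbackSymmetry_hom_comp_fst _ _
  have hτ2 : τ.hom ≫ pullback.snd (v' j ≫ V.hom) f = pullback.fst f (v' j ≫ V.hom) :=
    pullbackSymmetry_hom_comp_snd _ _
  let Wobj : μ → X.Etale := fun a => Scheme.Etale.mk ((W a).ι ≫ pullback.fst f (v' j ≫ V.hom))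
  have hja : ∀ a, ((W a).ι ≫ τ.hom) ≫ Pj.hom = (Wobj a).hom := by
    intro a
    rw [Category.assoc]
    congr 1
  let ja : ∀ a, Wobj a ⟶ Pj := fun a => MorphismProperty.Over.homMk ((W a).ι ≫ τ.hom) (hja a)
  have hjal : ∀ a, (ja a).left = (W a).ι ≫ τ.hom := fun a => rfl
  have hha : ∀ a, h a ≫ (U (i a)).hom = (Wobj a).hom := by
    intro a
    have e1 : h a ≫ (U (i a)).hom = (h a ≫ (g (i a)).left ≫ σ.hom) ≫ pullback.fst f V.hom := by
      rw [← hUhom, ← hσ1]
      simp only [Category.assoc]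
      rfl
    rw [e1, hh a, Category.assoc]
    congr 1
    exact (pullback.lift_fst _ _ _).trans (Category.comp_id _)
  let ha : ∀ a, Wobj a ⟶ U (i a) := fun a => MorphismProperty.Over.homMk (h a) (hha a)
  have hhal : ∀ a, (ha a).left = h a := fun a => rfl
  have hkey : ∀ a, ja a ≫ (EtCoh.bc f).map kj = ha a ≫ g (i a) := by
    intro a
    apply MorphismProperty.Over.Hom.ext
    have hiso : ∀ {Z : Scheme.{u}} (m1 m2 : Z ⟶ pullback V.hom f), m1 ≫ σ.hom = m2 ≫ σ.hom → m1 = m2 :=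
      fun m1 m2 hm => (cancel_mono σ.hom).1 hm
    apply hiso
    change (((W a).ι ≫ τ.hom) ≫ ((EtCoh.bc f).map kj).left) ≫ σ.hom = (h a ≫ (g (i a)).left) ≫ σ.hom
    refine Eq.trans ?_ ((hh a).symm.trans (Category.assoc _ _ _).symm)
    exact key_eq f V.hom (v' j) (W a).ι ((EtCoh.bc f).map kj).left (bc_map_left_fst f kj)
      (bc_map_left_snd f kj)
  let ta : ∀ a, Ft.obj (op (Wobj a)) := fun a => Ft.map (ha a).op (t (i a))
  have hmono : ∀ a, Mono (ja a).left := fun a => by
    rw [hjal]; exact @mono_comp _ _ _ _ _ (W a).ι inferInstance _ inferInstance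
  have hdisj' : ∀ a b, a ≠ b → ∀ (x : (Wobj a).left) (y : (Wobj b).left),
      (ja a).left x ≠ (ja b).left y := by
    intro a b hab x y hxy
    have h1 : ((W a).ι ≫ τ.hom) x = ((W b).ι ≫ τ.hom) y := hxy
    simp only [Scheme.Hom.comp_apply] at h1
    have h2 : (W a).ι x = (W b).ι y := τ.hom.isOpenEmbedding.injective h1
    have hx : (W a).ι x ∈ W a := x.2
    have hy : (W b).ι y ∈ W b := y.2
    rw [← h2] at hy
    exact (hdisj a b hab).le_bot ⟨hx, hy⟩
  have hcov' : ∀ p : Pj.left, ∃ a, ∃ x : (Wobj a).left, (ja a).left x = p := by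
    intro p
    have hp : τ.hom (τ.inv p) = p :=
      congrArg (fun m : pullback (v' j ≫ V.hom) f ⟶ pullback (v' j ≫ V.hom) f => m p) τ.inv_hom_id
    have hmem : τ.inv p ∈ (⨆ a, W a) := by rw [htop]; trivial
    obtain ⟨a, ha'⟩ := TopologicalSpace.Opens.mem_iSup.mp hmem
    exact ⟨a, ⟨_, ha'⟩, hp⟩
  obtain ⟨tt, htt, -⟩ := exists_unique_glue Ft hFs Wobj ja hmono hdisj' hcov' ta
  refine ⟨tt, ?_⟩
  change φ.hom.app (op Pj) tt = G.obj.map ((EtCoh.bc f).map kj).op s
  refine (exists_unique_glue Gt hGs Wobj ja hmono hdisj' hcov'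
    (fun a => Gt.map (ja a).op (Gt.map ((EtCoh.bc f).map kj).op s))).unique ?_ ?_
  · intro a
    have n1 := NatTrans.naturality_apply φ.hom (ja a).op tt
    have n2 := NatTrans.naturality_apply φ.hom (ha a).op (t (i a))
    change G.obj.map (ja a).op (φ.hom.app (op Pj) tt) = _
    rw [← n1]
    have htt' : F.obj.map (ja a).op tt = F.obj.map (ha a).op (t (i a)) := htt a
    rw [htt', n2, ht (i a)]
    change _ = G.obj.map (ja a).op (G.obj.map ((EtCoh.bc f).map kj).op s)
    rw [← ConcreteCategory.comp_apply, ← Functor.map_comp, ← op_comp, ← ConcreteCategory.comp_apply,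
      ← Functor.map_comp, ← op_comp, hkey a]
  · intro a
    rfl

end Groth.Agent.Lib.Helper8EtPropBPush
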