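import Mathlib
import Groth.Prelude.Def_SGA4b
import Groth.Agent.S0100
import Groth.Agent.Lib.Helper9SpPoint2

/-!
# Stalks of étale sheaves of sets: pullback, detection by families of geometric points (helper8)
-/

set_option autoImplicit false
open CategoryTheory CategoryTheory.Limits AlgebraicGeometry Opposite
universe u

namespace Groth.Agent.Lib.Helper8EtSetStalk

/-- the stalk functor on sheaves of sets at a geometric point -/
noncomputable abbrev stalkSet {X : Scheme.{u}} {Ω : Type u} [Field Ω] [IsSepClosed Ω]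
    (ξ : Spec (CommRingCat.of Ω) ⟶ X) : EtDesc.Sh X ⥤ Type (u + 1) :=
  (Scheme.pointSmallEtale ξ).sheafFiber (A := Type (u + 1))

set_option backward.isDefEq.respectTransparency.types false in
/-- the key isomorphism of right adjoints, for sheaves of sets -/
noncomputable def skySheafIso {X Y : Scheme.{u}} (f : X ⟶ Y) {Ω : Type u} [Field Ω] [IsSepClosed Ω]
    (ξ : Spec (CommRingCat.of Ω) ⟶ X) :
    (Scheme.pointSmallEtale ξ).skyscraperSheafFunctor (A := Type (u + 1)) ⋙ EtDesc.pushSh f ≅
      (Scheme.pointSmallEtale (ξ ≫ f)).skyscraperSheafFunctor :=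
  NatIso.ofComponents
    (fun M => (fullyFaithfulSheafToPresheaf _ _).preimageIso
      ((Groth.Agent.S0100.skyIso (Groth.Agent.S0100.fiberIso f ξ)).app M))
    (by
      intro M N g
      apply Sheaf.hom_ext
      exact (Groth.Agent.S0100.skyIso (A := Type (u + 1))
        (Groth.Agent.S0100.fiberIso f ξ)).hom.naturality g)

set_option backward.isDefEq.respectTransparency.types false in
/-- inverse image commutes with stalks, for sheaves of sets -/
noncomputable def stalkPullIso {X Y : Scheme.{u}} (f : X ⟶ Y)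
    {Ω : Type u} [Field Ω] [IsSepClosed Ω] (ξ : Spec (CommRingCat.of Ω) ⟶ X) :
    stalkSet (ξ ≫ f) ≅ EtDesc.pullSh f ⋙ stalkSet ξ :=
  let adj₁ := (EtDesc.adjSh f).comp
    ((Scheme.pointSmallEtale ξ).skyscraperSheafAdjunction (A := Type (u + 1)))
  let adj₂ := (Scheme.pointSmallEtale (ξ ≫ f)).skyscraperSheafAdjunction (A := Type (u + 1))
  (conjugateIsoEquiv adj₁ adj₂).symm (skySheafIso f ξ)


section Detect

variable {X : Scheme.{u}} {ι : Type*} (Z : ι → Scheme.{u}) (g : ∀ i, Z i ⟶ X)

/-- the geometric points of `X` factoring through one of the `g i`. -/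
def ptsVia : Set (GrothendieckTopology.Point.{u} X.smallEtaleTopology) :=
  {Φ | ∃ (i : ι) (Ω : Type u) (_ : Field Ω) (_ : IsSepClosed Ω)
    (ζ : Spec (CommRingCat.of Ω) ⟶ Z i), Φ = Scheme.pointSmallEtale (ζ ≫ g i)}

/-- a geometric point centred at a given point -/
lemma exists_point_at {Ul : Scheme.{u}} (p : Ul) :
    ∃ (Ω : Type u) (_ : Field Ω) (_ : IsSepClosed Ω) (l : Spec (CommRingCat.of Ω) ⟶ Ul),
      l (default : Spec (CommRingCat.of Ω)) = p := by
  let Ω := SeparableClosure (Ul.residueField p)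
  let l : Spec (CommRingCat.of Ω) ⟶ Ul :=
    Spec.map (CommRingCat.ofHom (algebraMap (Ul.residueField p) Ω)) ≫ Ul.fromSpecResidueField p
  refine ⟨Ω, inferInstance, inferInstance, l, ?_⟩
  dsimp only [l]
  rw [Scheme.Hom.comp_apply]
  exact Scheme.fromSpecResidueField_apply _ _

/-- every point of a scheme `Wl` over `X` is the centre of a geometric point whose image in `X`
factors through one of the `g i`, if these are jointly surjective. -/
lemma exists_point_via (hsurj : ∀ x : X, ∃ i, x ∈ Set.range (g i)) {Wl : Scheme.{u}}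
    (wh : Wl ⟶ X) (w : Wl) :
    ∃ (i : ι) (Ω : Type u) (_ : Field Ω) (_ : IsSepClosed Ω)
      (ζ : Spec (CommRingCat.of Ω) ⟶ Z i) (l : Spec (CommRingCat.of Ω) ⟶ Wl),
      l ≫ wh = ζ ≫ g i ∧ l (default : Spec (CommRingCat.of Ω)) = w := by
  obtain ⟨i, z, hz⟩ := hsurj (wh w)
  obtain ⟨w', hw'1, hw'2⟩ := Scheme.Pullback.exists_preimage_pullback w z hz.symm
  obtain ⟨Ω, _, _, l', hl'⟩ := exists_point_at w'
  refine ⟨i, Ω, inferInstance, inferInstance, l' ≫ pullback.snd wh (g i),
    l' ≫ pullback.fst wh (g i), ?_, ?_⟩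
  · rw [Category.assoc, Category.assoc, pullback.condition]
  · rw [Scheme.Hom.comp_apply, hl', hw'1]

set_option backward.isDefEq.respectTransparency false in
lemma ptsVia_detect (hsurj : ∀ x : X, ∃ i, x ∈ Set.range (g i)) ⦃W : X.Etale⦄ (T : Sieve W)
    (h : ∀ Φ ∈ ptsVia Z g, ∀ x : Φ.fiber.obj W,
      ∃ (Y : X.Etale) (g' : Y ⟶ W) (_ : T g') (y : Φ.fiber.obj Y), Φ.fiber.map g' y = x) :
    T ∈ X.smallEtaleTopology W := by
  obtain ⟨α, Z', f, rfl⟩ := T.exists_eq_ofArrows
  rw [Scheme.ofArrows_mem_smallEtaleTopology_iff]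
  ext w
  simp only [Set.mem_iUnion, Set.mem_range, Set.mem_univ, iff_true]
  obtain ⟨i, Ω, _, _, ζ, l, hl, hw⟩ := exists_point_via Z g hsurj W.hom w
  obtain ⟨Y, g', hg', y, hy⟩ := h (Scheme.pointSmallEtale (ζ ≫ g i)) ⟨i, Ω, _, _, ζ, rfl⟩
    (Over.homMk l hl)
  obtain ⟨Z'', p, _, ⟨j⟩, rfl⟩ := hg'
  refine ⟨j, p.left (y.left (default : Spec (CommRingCat.of Ω))), ?_⟩
  rw [← hw]
  have := congrArg (fun m => m.left (default : Spec (CommRingCat.of Ω))) hy
  exact this

end Detect


section Iso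

variable {X : Scheme.{u}} {ι : Type*} (Z : ι → Scheme.{u}) (g : ∀ i, Z i ⟶ X)

instance pfcType : PreservesFilteredColimitsOfSize.{u, u} (forget (Type (u + 1))) :=
  preservesFilteredColimitsOfSize_shrink.{u, u + 1, u, u + 1} _

set_option backward.isDefEq.respectTransparency false in
/-- isomorphisms of sheaves of sets are detected on the stalks at a jointly surjective family -/
theorem isIso_of_stalks (hsurj : ∀ x : X, ∃ i, x ∈ Set.range (g i)) {F G : EtDesc.Sh X} (a : F ⟶ G)
    (h : ∀ (i : ι) (Ω : Type u) [Field Ω] [IsSepClosed Ω] (ζ : Spec (CommRingCat.of Ω) ⟶ Z i),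
      Function.Bijective ((stalkSet (ζ ≫ g i)).map a)) : IsIso a := by
  haveI : Presheaf.IsLocallyInjective X.smallEtaleTopology a.hom :=
    Groth.Agent.Lib.Helper9.SpPoint.isLocallyInjective_of_points.{u} (ptsVia Z g)
      (ptsVia_detect Z g hsurj) a.hom (by
        rintro Φ ⟨i, Ω, _, _, ζ, rfl⟩
        exact (h i Ω ζ).1)
  haveI : Presheaf.IsLocallySurjective X.smallEtaleTopology a.hom :=
    Groth.Agent.Lib.Helper9.SpPoint.isLocallySurjective_of_points.{u} (ptsVia Z g)
      (ptsVia_detect Z g hsurj) a.hom (by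
        rintro Φ ⟨i, Ω, _, _, ζ, rfl⟩
        exact (h i Ω ζ).2)
  haveI : Mono a := Sheaf.mono_of_isLocallyInjective a
  haveI : Epi a := Sheaf.epi_of_isLocallySurjective' a
  exact isIso_of_mono_of_epi a

set_option backward.isDefEq.respectTransparency false in
/-- two sections with the same germs at a jointly surjective family are equal -/
theorem section_ext_of_germs (hsurj : ∀ x : X, ∃ i, x ∈ Set.range (g i)) (G : EtDesc.Sh X)
    (U : X.Etale) (s t : G.obj.obj (op U))
    (h : ∀ Φ ∈ ptsVia Z g, ∀ x : Φ.fiber.obj U,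
      Φ.toPresheafFiber U x G.obj s = Φ.toPresheafFiber U x G.obj t) : s = t := by
  have hGs : Presieve.IsSheaf X.smallEtaleTopology G.obj := (isSheaf_iff_isSheaf_of_type _ _).1 G.2
  let T : Sieve U :=
    { arrows := fun Y g' => G.obj.map g'.op s = G.obj.map g'.op t
      downward_closed := by
        intro Y Y' g' hg' k
        change G.obj.map (k ≫ g').op s = G.obj.map (k ≫ g').op t
        rw [op_comp, Functor.map_comp]
        exact congrArg (G.obj.map k.op) hg' }
  have hT : T ∈ X.smallEtaleTopology U := ptsVia_detect Z g hsurj T (by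
    intro Φ hΦ x
    obtain ⟨Y, g', y, hy, hg⟩ := (Φ.toPresheafFiber_eq_iff' (P := G.obj) U x s t).mp (h Φ hΦ x)
    exact ⟨Y, g', hg, y, hy⟩)
  exact (hGs _ hT).isSeparatedFor.ext (fun Y g' hg' => hg')

end Iso


section Surj

variable {X' X : Scheme.{u}} (f : X' ⟶ X)

/-- the stalk of a morphism at `ζ ≫ f` in terms of the stalk of its inverse image at `ζ` -/
lemma stalk_map_eq {F G : EtDesc.Sh X} (a : F ⟶ G) {Ω : Type u} [Field Ω] [IsSepClosed Ω]
    (ζ : Spec (CommRingCat.of Ω) ⟶ X') :
    (stalkSet (ζ ≫ f)).map a = (stalkPullIso f ζ).hom.app F ≫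
      (stalkSet ζ).map ((EtDesc.pullSh f).map a) ≫ (stalkPullIso f ζ).inv.app G := by
  have nat := (stalkPullIso f ζ).hom.naturality a
  have h : (stalkSet (ζ ≫ f)).map a = ((stalkPullIso f ζ).hom.app F ≫
      (EtDesc.pullSh f ⋙ stalkSet ζ).map a) ≫ (stalkPullIso f ζ).inv.app G := by
    rw [← nat, Category.assoc, Iso.hom_inv_id_app, Category.comp_id]
  rw [h, Category.assoc]
  rfl

variable [Surjective f]

theorem reflectsIsomorphisms_pullSh : (EtDesc.pullSh f).ReflectsIsomorphisms := by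
  constructor
  intro F G a ha
  refine isIso_of_stalks (fun _ : Unit => X') (fun _ => f)
    (fun x => ⟨(), Surjective.surj (f := f) x⟩) a ?_
  intro _ Ω _ _ ζ
  rw [← isIso_iff_bijective, stalk_map_eq f a ζ]
  infer_instance

set_option backward.isDefEq.respectTransparency false in
theorem faithful_pullSh : (EtDesc.pullSh f).Faithful := by
  constructor
  intro F G a b hab
  apply Sheaf.hom_ext
  ext U s
  induction U using Opposite.rec with | _ U => ?_
  refine section_ext_of_germs (fun _ : Unit => X') (fun _ => f)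
    (fun x => ⟨(), Surjective.surj (f := f) x⟩) G U _ _ ?_
  rintro Φ ⟨_, Ω, _, _, ζ, rfl⟩ x
  have e : (stalkSet (ζ ≫ f)).map a = (stalkSet (ζ ≫ f)).map b := by
    rw [stalk_map_eq f a ζ, stalk_map_eq f b ζ, hab]
  have n1 := (Scheme.pointSmallEtale (ζ ≫ f)).toPresheafFiber_naturality_apply a.hom U x s
  have n2 := (Scheme.pointSmallEtale (ζ ≫ f)).toPresheafFiber_naturality_apply b.hom U x s
  refine n1.symm.trans (Eq.trans ?_ n2)
  have e' : (Scheme.pointSmallEtale (ζ ≫ f)).presheafFiber.map a.hom =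
      (Scheme.pointSmallEtale (ζ ≫ f)).presheafFiber.map b.hom := e
  rw [e']

end Surj

end Groth.Agent.Lib.Helper8EtSetStalk
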