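import Mathlib
import Groth.Prelude.Def_SGA4b
import Groth.Prelude.Def_EtCore
import Groth.Agent.Lib.R2H3TwConstF
import Groth.Agent.Lib.Helper8EtSetStalk
import Groth.Prelude.Def_Hens2

/-!
# Global sections on the spectrum of a strictly henselian local ring are the closed stalk (helper8)
-/

set_option autoImplicit false
open CategoryTheory CategoryTheory.Limits AlgebraicGeometry Opposite
universe u

namespace Groth.Agent.Lib.Helper8EtStrictHensSec

variable (R : Type u) [CommRing R] [HenselianLocalRing R]
  [IsSepClosed (IsLocalRing.ResidueField R)]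

/-- the closed geometric point -/
noncomputable abbrev xbar : Spec (CommRingCat.of (IsLocalRing.ResidueField R)) ⟶
    Spec (CommRingCat.of R) :=
  Spec.map (CommRingCat.ofHom (IsLocalRing.residue R))

/-- the tautological lift of the closed geometric point to the terminal object -/
noncomputable abbrev x0 : (Scheme.pointSmallEtale (xbar R)).fiber.obj
    (EtCoh.top (Spec (CommRingCat.of R))) :=
  Over.homMk (xbar R) (Category.comp_id _)

set_option backward.isDefEq.respectTransparency.types false in
/-- every pointed étale neighbourhood of the closed geometric point has a pointed section -/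
theorem exists_section (V : (Spec (CommRingCat.of R)).Etale)
    (v : (Scheme.pointSmallEtale (xbar R)).fiber.obj V) :
    ∃ u : EtCoh.top (Spec (CommRingCat.of R)) ⟶ V,
      (Scheme.pointSmallEtale (xbar R)).fiber.map u (x0 R) = v := by
  haveI : Etale V.hom := V.prop
  obtain ⟨vl, hvl, hvw⟩ : ∃ vl : Spec (CommRingCat.of (IsLocalRing.ResidueField R)) ⟶ V.left,
      vl = v.left ∧ vl ≫ V.hom = xbar R := ⟨v.left, rfl, Over.w v⟩
  obtain ⟨σ, hσ1, hσ2⟩ := Groth.Agent.Lib.R2H3.TwConst.exists_section_lift R V.hom vl hvw
  refine ⟨MorphismProperty.Over.homMk σ hσ1, ?_⟩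
  apply Over.OverMorphism.ext
  rw [← hvl, ← hσ2]
  rfl

theorem bijective_toPresheafFiber (P : (Spec (CommRingCat.of R)).Etaleᵒᵖ ⥤ Type (u + 1)) :
    Function.Bijective ((Scheme.pointSmallEtale (xbar R)).toPresheafFiber (A := Type (u + 1))
      (EtCoh.top (Spec (CommRingCat.of R))) (x0 R) P) := by
  constructor
  · intro s t hst
    obtain ⟨V, f, v, hv, h⟩ :=
      ((Scheme.pointSmallEtale (xbar R)).toPresheafFiber_eq_iff' (P := P) _ _ s t).mp hst
    obtain ⟨u, hu⟩ := exists_section R V v
    have huf : u ≫ f = 𝟙 _ := (EtCore.topIsTerminal _).hom_ext _ _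
    have h2 := congrArg (P.map u.op) h
    have e : ∀ z, P.map u.op (P.map f.op z) = z := by
      intro z
      rw [← FunctorToTypes.map_comp_apply, ← op_comp, huf, op_id, FunctorToTypes.map_id_apply]
    rwa [e, e] at h2
  · intro p
    obtain ⟨V, v, z, rfl⟩ :=
      (Scheme.pointSmallEtale (xbar R)).toPresheafFiber_jointly_surjective (P := P) p
    obtain ⟨u, hu⟩ := exists_section R V v
    refine ⟨P.map u.op z, ?_⟩
    rw [← hu]
    exact (Scheme.pointSmallEtale (xbar R)).toPresheafFiber_w_apply u (x0 R) P z

instance isIso_toPresheafFiber (F : EtDesc.Sh (Spec (CommRingCat.of R))) :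
    IsIso ((Scheme.pointSmallEtale (xbar R)).toPresheafFiber (A := Type (u + 1))
      (EtCoh.top (Spec (CommRingCat.of R))) (x0 R) F.obj) :=
  (isIso_iff_bijective _).2 (bijective_toPresheafFiber R F.obj)

/-- global sections on a strictly henselian local scheme are the stalk at the closed geometric
point -/
noncomputable def sectionsIsoStalk :
    (sheafSections (Spec (CommRingCat.of R)).smallEtaleTopology (Type (u + 1))).obj
      (op (EtCoh.top (Spec (CommRingCat.of R)))) ≅
      (Scheme.pointSmallEtale (xbar R)).sheafFiber (A := Type (u + 1)) :=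
  NatIso.ofComponents
    (fun F => @asIso _ _ _ _ ((Scheme.pointSmallEtale (xbar R)).toPresheafFiber (A := Type (u + 1))
        (EtCoh.top (Spec (CommRingCat.of R))) (x0 R) F.obj) (isIso_toPresheafFiber R F))
    (fun {F G} a => ((Scheme.pointSmallEtale (xbar R)).toPresheafFiber_naturality a.hom
        (EtCoh.top (Spec (CommRingCat.of R))) (x0 R)).symm)

end Groth.Agent.Lib.Helper8EtStrictHensSec

namespace Groth.Agent.Lib.Helper8EtStrictHensSec

open Groth.Agent.Lib.Helper8EtSetStalk

theorem stalk_iso_pull_sections (X : Scheme.{u}) (x : X)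
    (R : Type u) [CommRing R] [IsLocalRing R] [Algebra (X.presheaf.stalk x) R]
    [IsLocalHom (algebraMap (X.presheaf.stalk x) R)]
    [Hensel.IsStrictHenselization (X.presheaf.stalk x) R]
    [IsSepClosed (IsLocalRing.ResidueField R)] :
    Nonempty ((Scheme.pointSmallEtale (Hens2.geomPt X x R)).sheafFiber (A := Type (u + 1)) ≅
      EtDesc.pullSh (Hens2.specOf X x R) ⋙
        (sheafSections (Spec (CommRingCat.of R)).smallEtaleTopology (Type (u + 1))).obj
          (op (EtCoh.top (Spec (CommRingCat.of R))))) := by
  haveI : HenselianLocalRing R :=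
    Hensel.IsStrictHenselization.henselian (R := X.presheaf.stalk x)
  exact ⟨stalkPullIso (Hens2.specOf X x R) (xbar R) ≪≫
    Functor.isoWhiskerLeft _ (sectionsIsoStalk R).symm⟩

end Groth.Agent.Lib.Helper8EtStrictHensSec
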