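import Mathlib
import Groth.Prelude.Def_EtBase
import Groth.Prelude.Def_EtCore
import Groth.Prelude.Def_EtLim
import Groth.Agent.Lib.Helper8EtStrictHensSec
import Groth.Agent.Lib.Helper8EtIntPushExact
import Groth.Agent.Lib.Helper9HofPush
import Groth.Agent.S0101

/-!
# Vanishing of higher étale cohomology on schemes finite over a strictly henselian local ring
(helper8)
-/

set_option autoImplicit false
open CategoryTheory CategoryTheory.Limits AlgebraicGeometry Opposite
universe u

namespace Groth.Agent.Lib.Helper8EtStrictHensCoh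

open Groth.Agent.Lib.Helper8EtStrictHensSec

variable (R : Type u) [CommRing R] [HenselianLocalRing R]
  [IsSepClosed (IsLocalRing.ResidueField R)]

/-- every covering sieve of the terminal object of the small étale site of a strictly henselian
local scheme is the maximal sieve -/
theorem covering_top (S : Sieve (EtCoh.top (Spec (CommRingCat.of R))))
    (hS : S ∈ (Spec (CommRingCat.of R)).smallEtaleTopology (EtCoh.top (Spec (CommRingCat.of R)))) :
    S = ⊤ := by
  obtain ⟨V, f, hf, v, -⟩ := (Scheme.pointSmallEtale (xbar R)).jointly_surjective S hS (x0 R)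
  obtain ⟨u, -⟩ := exists_section R V v
  rw [← Sieve.id_mem_iff_eq_top]
  have huf : u ≫ f = 𝟙 _ := (EtCore.topIsTerminal _).hom_ext _ _
  rw [← huf]
  exact S.downward_closed hf u

theorem gsec_map_surjective {G G' : EtCoh.Ab (Spec (CommRingCat.of R))} (φ : G ⟶ G') [Epi φ] :
    Function.Surjective ((EtCore.gsec (Spec (CommRingCat.of R))).map φ) := by
  haveI : Sheaf.IsLocallySurjective φ := (Sheaf.isLocallySurjective_iff_epi' _ φ).2 inferInstance
  intro t
  have hcov := Presheaf.imageSieve_mem (Spec (CommRingCat.of R)).smallEtaleTopology φ.hom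
    (U := op (EtCoh.top (Spec (CommRingCat.of R)))) t
  have h1 := covering_top R _ hcov
  have h2 : (Presheaf.imageSieve φ.hom t) (𝟙 _) := by rw [h1]; trivial
  obtain ⟨s, hs⟩ := h2
  refine ⟨s, ?_⟩
  rw [op_id, G'.obj.map_id] at hs
  exact hs

instance preservesEpimorphisms_gsec :
    (EtCore.gsec (Spec (CommRingCat.of R))).PreservesEpimorphisms where
  preserves φ _ := (AddCommGrpCat.epi_iff_surjective _).2 (gsec_map_surjective R φ)

theorem projective_ulift_int : Projective (AddCommGrpCat.of (ULift.{u + 1} ℤ)) where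
  factors {E X} f e _ := by
    have he : Function.Surjective e := (AddCommGrpCat.epi_iff_surjective e).1 inferInstance
    obtain ⟨a, ha⟩ := he (f ⟨1⟩)
    let g : ULift.{u + 1} ℤ →+ E :=
      ((zmultiplesHom E) a).comp (AddEquiv.ulift (α := ℤ)).toAddMonoidHom
    refine ⟨AddCommGrpCat.ofHom g, ?_⟩
    ext x
    change e (x.down • a) = f x
    rw [map_zsmul, ha, ← map_zsmul]
    congr 1
    apply ULift.ext
    simp

theorem projective_const :
    Projective ((constantSheaf (Spec (CommRingCat.of R)).smallEtaleTopology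
      AddCommGrpCat.{u + 1}).obj (AddCommGrpCat.of (ULift.{u + 1} ℤ))) :=
  (EtCore.constAdj (Spec (CommRingCat.of R))).map_projective _ projective_ulift_int

theorem subsingleton_H (G : EtCoh.Ab (Spec (CommRingCat.of R))) (j : ℕ) (hj : 1 ≤ j) :
    Subsingleton (EtCoh.H (Spec (CommRingCat.of R)) G j) := by
  obtain ⟨n, rfl⟩ : ∃ n, j = n + 1 := ⟨j - 1, by omega⟩
  haveI := projective_const R
  constructor
  intro a b
  rw [Abelian.Ext.eq_zero_of_projective a, Abelian.Ext.eq_zero_of_projective b]

theorem subsingleton_H_of_finite (X : Scheme.{u}) (f : X ⟶ Spec (CommRingCat.of R))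
    [IsFinite f] (F : EtCoh.Ab X) (j : ℕ) (hj : 1 ≤ j) : Subsingleton (EtCoh.H X F j) := by
  haveI := subsingleton_H R ((EtCoh.push f).obj F) j hj
  haveI : PreservesFiniteLimits (EtCoh.pull f) := Groth.Agent.S0101.result f
  have hb := Groth.Agent.Lib.Helper9.HofPush.HofPush_bijective f F
    (fun q hq => Groth.Agent.Lib.Helper8EtIntPushExact.isZero_Rpush f F q hq) j
  exact hb.surjective.subsingleton

end Groth.Agent.Lib.Helper8EtStrictHensCoh
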