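import Groth.Agent.S0101
import Groth.Agent.Lib.Helper8EtGeomPtPush
import Groth.Agent.Lib.Helper9HofPush
import Groth.Agent.Lib.Helper8EtStrictHensCoh
import Groth.Agent.Lib.Helper8EtCoprodH

/-!
# Cohomology of direct images from spectra of separably closed fields (helper8)

* `subsingleton_H_push_of_sepClosed`: `H^q(Z, h_* G) = 0` for `q ≥ 1`, `h : Spec K ⟶ Z`, `K`
  separably closed.
* `isSepClosed_residueField_of_isClosed`: residue fields at closed points of schemes locally of
  finite type over an algebraically closed field are separably closed.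
* `subsingleton_H_coprod_closedPts`: the coproduct of the `(i_x)_* G_x` over closed points has no
  higher cohomology on a quasi-compact quasi-separated scheme locally of finite type over an
  algebraically closed field.
-/

set_option autoImplicit false
universe u
open CategoryTheory CategoryTheory.Limits AlgebraicGeometry Opposite

namespace Groth.Agent.Lib.Helper8EtFieldPtCoh

theorem isSepClosed_of_ringEquiv {K K' : Type*} [Field K] [Field K'] [IsSepClosed K]
    (e : K ≃+* K') : IsSepClosed K' := by
  refine ⟨fun p hp => ?_⟩
  have h1 : (p.map (e.symm : K' →+* K)).Separable := hp.map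
  have h2 := IsSepClosed.splits_of_separable _ h1
  have h3 := h2.map (e : K →+* K')
  rw [Polynomial.map_map] at h3
  have h4 : (e : K →+* K').comp (e.symm : K' →+* K) = RingHom.id K' := by
    ext x; simp
  rwa [h4, Polynomial.map_id] at h3

theorem isSepClosed_residueField (K : Type u) [Field K] [IsSepClosed K] :
    IsSepClosed (IsLocalRing.ResidueField K) :=
  isSepClosed_of_ringEquiv (RingEquiv.ofBijective (IsLocalRing.residue K)
    ⟨RingHom.injective _, IsLocalRing.residue_surjective⟩)

theorem subsingleton_H_push_of_sepClosed (K : Type u) [Field K] [IsSepClosed K] {Z : Scheme.{u}}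
    (h : Spec (CommRingCat.of K) ⟶ Z) (G : EtCoh.Ab (Spec (CommRingCat.of K))) (q : ℕ)
    (hq : 1 ≤ q) : Subsingleton (EtCoh.H Z ((EtCoh.push h).obj G) q) := by
  haveI : PreservesFiniteLimits (EtCoh.pull h) := Groth.Agent.S0101.result h
  have hR : ∀ n : ℕ, 0 < n → IsZero ((EtCoh.Rpush h n).obj G) := fun n hn =>
    Groth.Agent.Lib.Helper8EtGeomPtPush.isZero_Rpush (Iso.refl _) h G n hn
  have hbij := Groth.Agent.Lib.Helper9.HofPush.HofPush_bijective h G hR q
  haveI := isSepClosed_residueField K
  have hsub : Subsingleton (EtCoh.H (Spec (CommRingCat.of K)) G q) :=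
    Groth.Agent.Lib.Helper8EtStrictHensCoh.subsingleton_H K G q hq
  exact hbij.injective.subsingleton

theorem isSepClosed_residueField_of_isClosed (k : Type u) [Field k] [IsAlgClosed k]
    {X : Scheme.{u}} (f : X ⟶ Spec (CommRingCat.of k)) [LocallyOfFiniteType f] (x : X)
    (hx : IsClosed ({x} : Set X)) : IsSepClosed (X.residueField x) := by
  haveI : JacobsonSpace X := LocallyOfFiniteType.jacobsonSpace f
  haveI h1 : LocallyOfFiniteType (X.fromSpecResidueField x) :=
    isClosed_singleton_iff_locallyOfFiniteType.mp hx
  have h2 : LocallyOfFiniteType (X.fromSpecResidueField x ≫ f) := inferInstance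
  obtain ⟨φ, hφ⟩ := Spec.map_surjective (X.fromSpecResidueField x ≫ f)
  rw [← hφ, HasRingHomProperty.Spec_iff (P := @LocallyOfFiniteType)] at h2
  algebraize [φ.hom]
  haveI : Algebra.FiniteType k (X.residueField x) := h2
  haveI : Module.Finite k (X.residueField x) := finite_of_finite_type_of_isJacobsonRing k _
  have hb : Function.Bijective (algebraMap k (X.residueField x)) :=
    IsAlgClosed.algebraMap_bijective_of_isIntegral
  exact isSepClosed_of_ringEquiv (RingEquiv.ofBijective _ hb)

/-- the coproduct over the closed points of direct images from the residue fields has no higher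
étale cohomology -/
theorem subsingleton_H_coprod_closedPts (k : Type u) [Field k] [IsAlgClosed k]
    {X : Scheme.{u}} (f : X ⟶ Spec (CommRingCat.of k)) [LocallyOfFiniteType f]
    [CompactSpace X] [QuasiSeparatedSpace X]
    (G : ∀ x : {x : X // IsClosed ({x} : Set X)}, EtCoh.Ab (Spec (X.residueField x.1)))
    (c : Cofan fun x : {x : X // IsClosed ({x} : Set X)} =>
      (EtCoh.push (X.fromSpecResidueField x.1)).obj (G x))
    (hc : IsColimit c) (q : ℕ) (hq : 1 ≤ q) : Subsingleton (EtCoh.H X c.pt q) := by
  refine Groth.Agent.Lib.Helper8EtCoprodH.subsingleton_H_of_isColimit_cofan X _ q ?_ c hc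
  intro x
  haveI := isSepClosed_residueField_of_isClosed k f x.1 x.2
  exact subsingleton_H_push_of_sepClosed (X.residueField x.1) (X.fromSpecResidueField x.1) (G x) q hq

end Groth.Agent.Lib.Helper8EtFieldPtCoh
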