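import Groth.Agent.Lib.Helper8EtExcision
import Groth.Agent.Lib.Helper9EtPull
import Groth.Agent.Lib.Helper9JContAll
import Groth.Agent.Lib.Helper23DerComp
import Groth.Agent.S0648
import Groth.Agent.S0102
import Groth.Prelude.Def_EtDual

/-!
# Étale excision for local cohomology groups (helper8)
-/

set_option autoImplicit false
universe u
open CategoryTheory CategoryTheory.Limits AlgebraicGeometry Opposite

namespace Groth.Agent.Lib.Helper8EtHYExc

open Groth.Agent.S0651 Groth.Agent.Lib.Helper9.EtPull

section KerSec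

variable {X : Scheme.{u}}

/-- sections over `V`, as a functor -/
noncomputable abbrev secF (V : X.Etale) : EtCoh.Ab X ⥤ AddCommGrpCat.{u + 1} :=
  sheafToPresheaf X.smallEtaleTopology AddCommGrpCat.{u + 1} ⋙
    (evaluation X.Etaleᵒᵖ AddCommGrpCat.{u + 1}).obj (op V)

theorem kernel_ι_injective {F G : EtCoh.Ab X} (φ : F ⟶ G) (V : X.Etale) :
    Function.Injective ((kernel.ι φ).hom.app (op V)) := by
  have h : Mono ((secF V).map (kernel.ι φ)) := inferInstance
  exact (AddCommGrpCat.mono_iff_injective _).1 h

theorem exists_kernel_ι_iff {F G : EtCoh.Ab X} (φ : F ⟶ G) (V : X.Etale)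
    (s : F.obj.obj (op V)) :
    (∃ t : (kernel φ).obj.obj (op V), (kernel.ι φ).hom.app (op V) t = s) ↔
      φ.hom.app (op V) s = 0 := by
  constructor
  · rintro ⟨t, rfl⟩
    have hc : kernel.ι φ ≫ φ = 0 := kernel.condition _
    exact congrArg (fun m : kernel φ ⟶ G => m.hom.app (op V) t) hc
  · intro hs
    let S : ShortComplex (EtCoh.Ab X) := ShortComplex.mk (kernel.ι φ) φ (kernel.condition φ)
    have hS : S.Exact := ShortComplex.exact_of_f_is_kernel S (kernelIsKernel φ)
    have hm : Mono S.f := by dsimp [S]; infer_instance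
    have hS' : (S.map (secF V)).Exact :=
      hS.map_of_mono_of_preservesKernel (secF V) hm inferInstance
    rw [ShortComplex.ab_exact_iff] at hS'
    obtain ⟨t, ht⟩ := hS' s hs
    exact ⟨t, ht⟩

end KerSec

section UnitSec

variable {U X : Scheme.{u}} (j : U ⟶ X) [AlgebraicGeometry.Etale j] [EtShriek.JCont j]

set_option backward.isDefEq.respectTransparency.types false in
/-- a section is killed by the unit `G ⟶ j_* j^* G` iff its restriction along the counit
`V ×_X U ⟶ V` vanishes -/
theorem unit_eq_zero_iff (G : EtCoh.Ab X) (V : X.Etale) (s : G.obj.obj (op V)) :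
    (EtDual.unitApp j G).hom.app (op V) s = 0 ↔
      G.obj.map ((compBcAdj j).counit.app V).op s = 0 := by
  have h1 := unit_rho j G
  have h2 := restrPushAdj_unit_app_hom_app j G V
  have h3 : ((EtCoh.push j).map ((rho j).hom.app G)).hom.app (op V)
      ((EtDual.unitApp j G).hom.app (op V) s) = G.obj.map ((compBcAdj j).counit.app V).op s := by
    rw [← h2, ← h1]
    rfl
  have hiso : IsIso ((secF V).map ((EtCoh.push j).map ((rho j).hom.app G))) := inferInstance
  have hinj : Function.Injective (((EtCoh.push j).map ((rho j).hom.app G)).hom.app (op V)) :=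
    (AddCommGrpCat.mono_iff_injective _).1 (by
      change Mono ((secF V).map ((EtCoh.push j).map ((rho j).hom.app G)))
      infer_instance)
  rw [← h3]
  constructor
  · intro h
    exact (congrArg _ h).trans (map_zero _)
  · intro h
    exact hinj (h.trans (map_zero _).symm)

end UnitSec

section Char

open Groth.Agent.Lib.Helper16.EtStalk Groth.Agent.Lib.Helper16.SmallEtale

set_option backward.isDefEq.respectTransparency.types false in
/-- a section restricts to zero along `φ : V ⟶ U` iff its support misses the image of `φ` -/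
theorem map_eq_zero_iff_sectSupp {S : Scheme.{u}} (F : EtCoh.Ab S) {U V : S.Etale} (φ : V ⟶ U)
    (σ : F.obj.obj (op U)) :
    F.obj.map φ.op σ = 0 ↔ EtShriek.sectSupp F U σ ⊆ (Set.range φ.left.base)ᶜ := by
  constructor
  · rintro h0 x hx ⟨v, rfl⟩
    exact hx V φ ⟨v, rfl⟩ h0
  · intro hsub
    apply Groth.Agent.S0102.section_eq_zero_of_locally
    intro v
    have hv : φ.left v ∉ EtShriek.sectSupp F U σ := fun h => hsub h ⟨v, rfl⟩
    simp only [EtShriek.sectSupp, Set.mem_ofPred_eq, not_forall, not_not] at hv
    obtain ⟨W', g, ⟨w, hw⟩, hg⟩ := hv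
    obtain ⟨Ω, _, _, ξ, x₀, hx₀⟩ := exists_geometric_point V v
    let Φ := Scheme.pointSmallEtale ξ
    obtain ⟨xl, hxl, hxw, hxv⟩ : ∃ xl : Spec (CommRingCat.of Ω) ⟶ V.left,
        xl = x₀.left ∧ xl ≫ V.hom = ξ ∧ xl default = v := ⟨x₀.left, rfl, Over.w x₀, hx₀⟩
    have hw' : g.left w = (xl ≫ φ.left) default := by
      rw [hw, Scheme.Hom.comp_apply, hxv]
    obtain ⟨l, hl1, hl2⟩ := Scheme.exists_fac_of_etale_of_isSepClosed g.left (xl ≫ φ.left) w hw'
    let w' : Φ.fiber.obj W' := Over.homMk l (by
      change l ≫ W'.hom = ξ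
      have e1 : g.left ≫ U.hom = W'.hom := MorphismProperty.Over.w g
      have e2 : φ.left ≫ U.hom = V.hom := MorphismProperty.Over.w φ
      rw [← e1, ← Category.assoc, hl1, Category.assoc, e2, hxw])
    have hmap : Φ.fiber.map g w' = Φ.fiber.map φ x₀ := by
      apply Over.OverMorphism.ext
      change l ≫ g.left = x₀.left ≫ φ.left
      rw [hl1, hxl]
      rfl
    have e1 : Φ.toPresheafFiber V x₀ F.obj (F.obj.map φ.op σ) =
        Φ.toPresheafFiber V x₀ F.obj 0 := by
      rw [Φ.toPresheafFiber_w_apply, ← hmap, ← Φ.toPresheafFiber_w_apply, hg, map_zero, map_zero]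
    obtain ⟨Y, h, y, hy, hh⟩ := (Φ.toPresheafFiber_eq_iff' V x₀ _ _).mp e1
    rw [map_zero] at hh
    refine ⟨Y, h, (y.left : Spec (CommRingCat.of Ω) ⟶ Y.left) (default : Spec (CommRingCat.of Ω)),
      ?_, hh⟩
    have e3 : y.left ≫ h.left = x₀.left := congrArg (fun m => m.left) hy
    rw [← hx₀]
    exact congrArg (fun m : Spec (CommRingCat.of Ω) ⟶ V.left => m default) e3

end Char

section NatIso

universe w v' u'

variable {C : Type u'} [Category.{v'} C] {G1 G2 A1 A2 : C ⥤ AddCommGrpCat.{w}}

/-- two subfunctors which correspond bijectively under a natural map are isomorphic -/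
theorem nonempty_natIso_of_bijOn (ι1 : G1 ⟶ A1) (ι2 : G2 ⟶ A2) (c : A1 ⟶ A2)
    (h1 : ∀ F, Function.Injective (ι1.app F)) (h2 : ∀ F, Function.Injective (ι2.app F))
    (hb : ∀ F, Set.BijOn (c.app F) (Set.range (ι1.app F)) (Set.range (ι2.app F))) :
    Nonempty (G1 ≅ G2) := by
  have hex : ∀ F (t : G1.obj F), ∃ t' : G2.obj F, ι2.app F t' = c.app F (ι1.app F t) := by
    intro F t
    obtain ⟨t', ht'⟩ := (hb F).mapsTo ⟨t, rfl⟩
    exact ⟨t', ht'⟩
  choose θ hθ using hex
  have hadd : ∀ F (a b : G1.obj F), θ F (a + b) = θ F a + θ F b := by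
    intro F a b
    apply h2 F
    rw [map_add, hθ, hθ, hθ, map_add, map_add]
  let Θ : G1 ⟶ G2 :=
    { app := fun F => AddCommGrpCat.ofHom (AddMonoidHom.mk' (θ F) (hadd F))
      naturality := by
        intro F F' a
        ext t
        apply h2 F'
        change ι2.app F' (θ F' (G1.map a t)) = ι2.app F' (G2.map a (θ F t))
        rw [hθ, NatTrans.naturality_apply, NatTrans.naturality_apply,
          NatTrans.naturality_apply, hθ] }
  have hiso : ∀ F, IsIso (Θ.app F) := by
    intro F
    rw [ConcreteCategory.isIso_iff_bijective]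
    constructor
    · intro a b hab
      have hab' : θ F a = θ F b := hab
      apply h1 F
      apply (hb F).injOn ⟨a, rfl⟩ ⟨b, rfl⟩
      rw [← hθ, ← hθ, hab']
    · intro t'
      obtain ⟨_, ⟨t, rfl⟩, ht⟩ := (hb F).surjOn ⟨t', rfl⟩
      refine ⟨t, ?_⟩
      apply h2 F
      change ι2.app F (θ F t) = _
      rw [hθ, ht]
  have := NatIso.isIso_of_isIso_app Θ
  exact ⟨asIso Θ⟩

end NatIso

section Range

variable {U Y : Scheme.{u}} (j : U ⟶ Y) [AlgebraicGeometry.Etale j] [EtShriek.JCont j]

set_option backward.isDefEq.respectTransparency.types false in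
theorem range_counit_left (V : Y.Etale) :
    Set.range ((compBcAdj j).counit.app V).left.base = V.hom.base ⁻¹' Set.range j.base := by
  have h : ((compBcAdj j).counit.app V).left = pullback.fst V.hom j := rfl
  rw [h]
  exact Scheme.Pullback.range_fst V.hom j

set_option backward.isDefEq.respectTransparency.types false in
theorem range_kernel_ι_unit' (G : EtCoh.Ab Y) (V : Y.Etale) :
    Set.range ((kernel.ι (EtDual.unitApp j G)).hom.app (op V)) =
      {s | G.obj.map ((compBcAdj j).counit.app V).op s = 0} := by
  ext s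
  rw [Set.mem_range, exists_kernel_ι_iff, unit_eq_zero_iff]
  rfl

set_option backward.isDefEq.respectTransparency.types false in
/-- the sections of `ker (G ⟶ j_* j^* G)` over `V`, inside the sections of `G` -/
theorem range_kernel_ι_unit (G : EtCoh.Ab Y) (V : Y.Etale) :
    Set.range ((kernel.ι (EtDual.unitApp j G)).hom.app (op V)) =
      {s | EtShriek.sectSupp G V s ⊆ (V.hom.base ⁻¹' Set.range j.base)ᶜ} := by
  rw [range_kernel_ι_unit']
  ext s
  have h := map_eq_zero_iff_sectSupp G ((compBcAdj j).counit.app V) s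
  rw [range_counit_left] at h
  exact h

end Range

section Main

/-- the inclusion `Γ_Z(Y, -) ⟶ Γ(Y, -)` -/
noncomputable def ιNat {U Y : Scheme.{u}} (j : U ⟶ Y) :
    EtDual.gammaSupp j ⟶ secF (EtCoh.top Y) where
  app F := (kernel.ι (EtDual.unitApp j F)).hom.app (op (EtCoh.top Y))
  naturality F G a := by
    have h : (EtDual.secSupp j).map a ≫ kernel.ι (EtDual.unitApp j G) =
        kernel.ι (EtDual.unitApp j F) ≫ a := by simp
    exact congrArg (fun m => m.hom.app (op (EtCoh.top Y))) h

variable {X X' U U' : Scheme.{u}} (f : X' ⟶ X) [AlgebraicGeometry.Etale f] [EtShriek.JCont f]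

set_option backward.isDefEq.respectTransparency.types false in
/-- the canonical map from `X'` to `X` in the small étale site of `X` -/
noncomputable def toTop : obj f ⟶ EtCoh.top X := MorphismProperty.Over.homMk f
  ((Category.comp_id f).trans (Category.id_comp f).symm)

set_option backward.isDefEq.respectTransparency.types false in
/-- restriction of global sections along `f` -/
noncomputable def cNat : secF (EtCoh.top X) ⟶ EtShriek.restrAlong f ⋙ secF (EtCoh.top X') where
  app F := F.obj.map (toTop f).op
  naturality F G a := (a.hom.naturality (toTop f).op).symm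

variable (j : U ⟶ X) [IsOpenImmersion j] (j' : U' ⟶ X') [IsOpenImmersion j']

set_option backward.isDefEq.respectTransparency.types false in
theorem range_ιNat (F : EtCoh.Ab X) :
    Set.range ((ιNat j).app F) =
      {s | EtShriek.sectSupp F (EtCoh.top X) s ⊆ (Set.range j.base)ᶜ} := by
  have h := range_kernel_ι_unit j F (EtCoh.top X)
  exact h

set_option backward.isDefEq.respectTransparency.types false in
theorem range_ιNat' (F : EtCoh.Ab X) :
    Set.range ((ιNat j').app ((EtShriek.restrAlong f).obj F)) =
      {s | EtShriek.sectSupp F (obj f) s ⊆ (Set.range j'.base)ᶜ} := by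
  have h := range_kernel_ι_unit' j' ((EtShriek.restrAlong f).obj F) (EtCoh.top X')
  refine h.trans ?_
  ext s
  have h2 := map_eq_zero_iff_sectSupp F
    ((EtShriek.compEtale f).map ((compBcAdj j').counit.app (EtCoh.top X'))) s
  have h3 : Set.range ((EtShriek.compEtale f).map
      ((compBcAdj j').counit.app (EtCoh.top X'))).left.base = Set.range j'.base :=
    range_counit_left j' (EtCoh.top X')
  rw [h3] at h2
  exact h2

set_option backward.isDefEq.respectTransparency.types false in
/-- **Étale excision on the level of sections with support.** -/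
theorem nonempty_gammaSupp_iso
    (hU' : Set.range j'.base = f.base ⁻¹' Set.range j.base)
    (hZ : Set.BijOn f.base (Set.range j'.base)ᶜ (Set.range j.base)ᶜ)
    (hκ : ∀ x' : ↥X', x' ∉ Set.range j'.base → Function.Surjective (f.residueFieldMap x')) :
    Nonempty (EtDual.gammaSupp j ≅ EtShriek.restrAlong f ⋙ EtDual.gammaSupp j') := by
  refine nonempty_natIso_of_bijOn (ιNat j) (Functor.whiskerLeft (EtShriek.restrAlong f) (ιNat j'))
    (cNat f) (fun F => kernel_ι_injective _ _) (fun F => kernel_ι_injective _ _) (fun F => ?_)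
  have e1 := range_ιNat j F
  have e2 : Set.range ((Functor.whiskerLeft (EtShriek.restrAlong f) (ιNat j')).app F) =
      {s | EtShriek.sectSupp F (obj f) s ⊆ (Set.range j'.base)ᶜ} := range_ιNat' f j' F
  rw [e1, e2]
  have hpre : (toTop f).left.base ⁻¹' (Set.range j.base)ᶜ = (Set.range j'.base)ᶜ := by
    change f.base ⁻¹' (Set.range j.base)ᶜ = (Set.range j'.base)ᶜ
    rw [hU', Set.preimage_compl]
  have hcl : IsClosed ((Set.range j.base)ᶜ : Set ↥(EtCoh.top X).left) :=
    j.isOpenEmbedding.isOpen_range.isClosed_compl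
  have hb := Groth.Agent.Lib.Helper8EtExcision.bijOn_map_sectSupp F (toTop f)
    ((Set.range j.base)ᶜ) hcl (by
      rw [hpre]
      exact hZ) (by
      intro x hx
      rw [hpre] at hx
      exact ⟨(f.residueFieldMap x).hom.injective, hκ x hx⟩)
  rw [hpre] at hb
  exact hb

/-- right derived functors of isomorphic functors -/
noncomputable def rdIso {C D : Type*} [Category C] [Category D] [Abelian C] [Abelian D]
    [HasInjectiveResolutions C] {F G : C ⥤ D} [F.Additive] [G.Additive] (e : F ≅ G) (n : ℕ) :
    F.rightDerived n ≅ G.rightDerived n where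
  hom := NatTrans.rightDerived e.hom n
  inv := NatTrans.rightDerived e.inv n
  hom_inv_id := by rw [← NatTrans.rightDerived_comp, e.hom_inv_id, NatTrans.rightDerived_id]
  inv_hom_id := by rw [← NatTrans.rightDerived_comp, e.inv_hom_id, NatTrans.rightDerived_id]

instance restrAlong_additive : (EtShriek.restrAlong f).Additive :=
  (restrPushAdj f).left_adjoint_additive

instance restrAlong_preservesInjectiveObjects :
    (EtShriek.restrAlong f).PreservesInjectiveObjects := by
  haveI : PreservesFiniteLimits (EtShriek.extZero f) := Groth.Agent.S0648.result f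
  haveI : (EtShriek.extZero f).PreservesMonomorphisms := inferInstance
  exact Functor.preservesInjectiveObjects_of_adjunction_of_preservesMonomorphisms
    (EtShriek.extZeroAdj f)

instance restrAlong_preservesHomology : (EtShriek.restrAlong f).PreservesHomology := by
  haveI := (restrPushAdj f).leftAdjoint_preservesColimits
  haveI := (EtShriek.extZeroAdj f).rightAdjoint_preservesLimits
  infer_instance

set_option backward.isDefEq.respectTransparency.types false in
/-- **Étale excision for local cohomology groups.** -/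
theorem nonempty_HY_iso
    (hU' : Set.range j'.base = f.base ⁻¹' Set.range j.base)
    (hZ : Set.BijOn f.base (Set.range j'.base)ᶜ (Set.range j.base)ᶜ)
    (hκ : ∀ x' : ↥X', x' ∉ Set.range j'.base → Function.Surjective (f.residueFieldMap x'))
    (F : EtCoh.Ab X) (r : ℕ) :
    Nonempty ((EtDual.HY j r).obj F ≅ (EtDual.HY j' r).obj ((EtCoh.pull f).obj F)) := by
  obtain ⟨θ⟩ := nonempty_gammaSupp_iso f j j' hU' hZ hκ
  haveI : (EtShriek.restrAlong f ⋙ EtDual.gammaSupp j').Additive := inferInstance
  let e1 : (EtDual.gammaSupp j).rightDerived r ≅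
      (EtShriek.restrAlong f ⋙ EtDual.gammaSupp j').rightDerived r := rdIso θ r
  let e2 : (EtShriek.restrAlong f ⋙ EtDual.gammaSupp j').rightDerived r ≅
      EtShriek.restrAlong f ⋙ (EtDual.gammaSupp j').rightDerived r :=
    Groth.Agent.Lib.Helper23DerComp.compIso (EtShriek.restrAlong f) (EtDual.gammaSupp j') r
  exact ⟨e1.app F ≪≫ e2.app F ≪≫ (EtDual.HY j' r).mapIso ((rho f).symm.app F)⟩

end Main

end Groth.Agent.Lib.Helper8EtHYExc
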