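import Mathlib
import Groth.Agent.Lib.Helper16PointSum

/-!
# Recognising the fibre of a left Kan extended sheaf (helper8)

In the setting of `Helper16PointSum` (a continuous functor `G : C ⥤ D`, a point `Φ` of `D` whose
fibre over `G.obj V` is the disjoint union of the fibres of points `Ψ u` of `C`): if `B` is a sheaf
on `D` with a map `u : F ⟶ G^* B` whose fibre at `Φ` is the coproduct of the fibres of `F` at the
`Ψ u`, compatibly with germs, then the adjoint map `G_! F ⟶ B` is an isomorphism on fibres at `Φ`.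
-/

set_option autoImplicit false
set_option linter.unusedSectionVars false
open CategoryTheory CategoryTheory.Limits Opposite

universe w v' v u' u v₂ u₂

namespace Groth.Agent.Lib.Helper8PointSumIso

open GrothendieckTopology Groth.Agent.Lib.Helper16.PointSum

variable {C : Type u} [Category.{v} C] {J : GrothendieckTopology C}
  {D : Type u₂} [Category.{v₂} D] {K : GrothendieckTopology D}
  (G : C ⥤ D) (Φ : Point.{w} K) {ι : Type w} (Ψ : ι → Point.{w} J)
  (d : ∀ V : C, (Σ u, (Ψ u).fiber.obj V) ≃ Φ.fiber.obj (G.obj V))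
  (hd : ∀ {V V' : C} (g : V ⟶ V') (u : ι) (t : (Ψ u).fiber.obj V),
     d V' ⟨u, (Ψ u).fiber.map g t⟩ = Φ.fiber.map (G.map g) (d V ⟨u, t⟩))
  {A : Type u'} [Category.{v'} A] [HasProducts.{w} A] [HasColimitsOfSize.{w, w} A]
  [G.IsContinuous J K] [(G.sheafPushforwardContinuous A J K).IsRightAdjoint]

lemma sheafEquiv_naturality (F : Sheaf J A) (M N : A) (g : M ⟶ N)
    (h : (∐ fun u => (Ψ u).sheafFiber.obj F) ⟶ M) :
    sheafEquiv G Φ Ψ d hd F N (h ≫ g) = sheafEquiv G Φ Ψ d hd F M h ≫ (R G Φ).map g := by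
  apply Sheaf.hom_ext
  exact presheafEquiv_naturality G Φ Ψ d hd F.obj h g

lemma unit_app_π (B : Sheaf K A) (W : D) (s : Φ.fiber.obj W) :
    (Φ.skyscraperSheafAdjunction.unit.app B).hom.app (op W) ≫ skyπ Φ _ W s =
      Φ.toPresheafFiber W s B.obj := by
  have h := Φ.skyscraperSheafAdjunction_homEquiv_apply_hom (A := A) (F := B) (𝟙 _)
  have e : (Φ.skyscraperSheafAdjunction (A := A)).unit.app B =
      (Φ.skyscraperSheafAdjunction (A := A)).homEquiv B _ (𝟙 _) := (Adjunction.homEquiv_id _ _).symm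
  rw [e]
  refine (congrArg (fun m => m.app (op W) ≫ skyπ Φ _ W s) h).trans ?_
  exact (Φ.skyscraperPresheafHomEquiv_app_π _ W s).trans (Category.comp_id _)

include d hd in
theorem isIso_sheafFiber_map (F : Sheaf J A) (B : Sheaf K A)
    (u : F ⟶ (G.sheafPushforwardContinuous A J K).obj B)
    (ι' : ∀ i, (Ψ i).sheafFiber.obj F ⟶ Φ.sheafFiber.obj B)
    (hc : IsColimit (Cofan.mk (Φ.sheafFiber.obj B) ι'))
    (compat : ∀ (V : C) (i : ι) (t : (Ψ i).fiber.obj V),
       u.hom.app (op V) ≫ Φ.toPresheafFiber (G.obj V) (d V ⟨i, t⟩) B.obj =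
         (Ψ i).toPresheafFiber V t F.obj ≫ ι' i) :
    IsIso (Φ.sheafFiber.map (((G.sheafAdjunctionContinuous A J K).homEquiv F B).symm u)) := by
  let adj0 := G.sheafAdjunctionContinuous A J K
  let adj1 : G.sheafPullback A J K ⋙ Φ.sheafFiber ⊣ R G Φ :=
    adj0.comp Φ.skyscraperSheafAdjunction
  let adj2 := Adjunction.adjunctionOfEquivLeft (sheafEquiv (A := A) G Φ Ψ d hd)
    (fun F M N g h => sheafEquiv_naturality (A := A) G Φ Ψ d hd F M N g h)
  let e := (adj1.leftAdjointUniq adj2).app F
  have hL : adj1.homEquiv F (Φ.sheafFiber.obj B)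
      (Φ.sheafFiber.map ((adj0.homEquiv F B).symm u)) =
      u ≫ (G.sheafPushforwardContinuous A J K).map
        ((Φ.skyscraperSheafAdjunction (A := A)).unit.app B) := by
    have h1 : adj1.homEquiv F (Φ.sheafFiber.obj B)
        (Φ.sheafFiber.map ((adj0.homEquiv F B).symm u)) =
        adj0.homEquiv F _ (Φ.skyscraperSheafAdjunction.homEquiv _ _
          (Φ.sheafFiber.map ((adj0.homEquiv F B).symm u))) := by
      change (adj0.comp Φ.skyscraperSheafAdjunction).homEquiv _ _ _ = _
      rw [Adjunction.comp_homEquiv]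
      rfl
    have h2 : Φ.skyscraperSheafAdjunction.homEquiv _ _
        (Φ.sheafFiber.map ((adj0.homEquiv F B).symm u)) =
        (adj0.homEquiv F B).symm u ≫ Φ.skyscraperSheafAdjunction.unit.app B := by
      have := (Φ.skyscraperSheafAdjunction (A := A)).homEquiv_naturality_left
        ((adj0.homEquiv F B).symm u) (𝟙 (Φ.sheafFiber.obj B))
      rw [Category.comp_id] at this
      rw [this, Adjunction.homEquiv_id]
    rw [h1, h2, Adjunction.homEquiv_naturality_right, Equiv.apply_symm_apply]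
  have hR : adj1.homEquiv F (Φ.sheafFiber.obj B) (e.hom ≫ Sigma.desc ι') =
      sheafEquiv G Φ Ψ d hd F _ (Sigma.desc ι') := by
    rw [Adjunction.homEquiv_naturality_right]
    have h1 : adj1.homEquiv F _ e.hom = adj2.unit.app F :=
      Adjunction.homEquiv_leftAdjointUniq_hom_app adj1 adj2 F
    rw [h1]
    have h2 : adj2.homEquiv F _ (Sigma.desc ι') =
        adj2.unit.app F ≫ (R G Φ).map (Sigma.desc ι') :=
      Adjunction.homEquiv_unit adj2 F _ (Sigma.desc ι')
    rw [← h2]
    change (Adjunction.adjunctionOfEquivLeft (sheafEquiv (A := A) G Φ Ψ d hd) _).homEquiv F _ _ = _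
    rw [Adjunction.adjunctionOfEquivLeft, Adjunction.mkOfHomEquiv_homEquiv]
  have key : Φ.sheafFiber.map ((adj0.homEquiv F B).symm u) = e.hom ≫ Sigma.desc ι' := by
    apply (adj1.homEquiv F (Φ.sheafFiber.obj B)).injective
    rw [hL, hR]
    apply Sheaf.hom_ext
    ext V : 2
    induction V using Opposite.rec with | _ V => ?_
    apply sky_hom_ext
    intro s
    obtain ⟨⟨i, t⟩, rfl⟩ := (d V).surjective s
    have hr : ((sheafEquiv G Φ Ψ d hd F (Φ.sheafFiber.obj B)) (Sigma.desc ι')).hom.app (op V) ≫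
        skyπ Φ _ (G.obj V) (d V ⟨i, t⟩) = (Ψ i).toPresheafFiber V t F.obj ≫ ι' i := by
      refine (presheafEquiv_app_π G Φ Ψ d hd F.obj (Sigma.desc ι') V (d V ⟨i, t⟩)).trans ?_
      rw [Equiv.symm_apply_apply]
      dsimp only [theta]
      rw [Sigma.ι_desc]
    have hl : (u ≫ (G.sheafPushforwardContinuous A J K).map
        (Φ.skyscraperSheafAdjunction.unit.app B)).hom.app (op V) ≫
        skyπ Φ _ (G.obj V) (d V ⟨i, t⟩) =
        u.hom.app (op V) ≫ Φ.toPresheafFiber (G.obj V) (d V ⟨i, t⟩) B.obj := by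
      have := unit_app_π Φ B (G.obj V) (d V ⟨i, t⟩)
      rw [← this]
      exact (Category.assoc (u.hom.app (op V))
        ((Φ.skyscraperSheafAdjunction.unit.app B).hom.app (op (G.obj V))) _)
    exact hl.trans ((compat V i t).trans hr.symm)
  rw [key]
  haveI : IsIso (Sigma.desc ι') := by
    have e2 : (IsColimit.coconePointUniqueUpToIso
        (colimit.isColimit (Discrete.functor fun b => (Ψ b).sheafFiber.obj F)) hc).hom =
        Sigma.desc ι' := by
      apply Sigma.hom_ext
      intro b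
      rw [Sigma.ι_desc]
      exact IsColimit.comp_coconePointUniqueUpToIso_hom (colimit.isColimit _) hc ⟨b⟩
    rw [← e2]
    infer_instance
  infer_instance

end Groth.Agent.Lib.Helper8PointSumIso
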