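import Mathlib
import Groth.Agent.Lib.Helper20EtSplitClopen
import Groth.Agent.Lib.Helper20OnePtIso
import Groth.Agent.Lib.Helper20ResMap
import Groth.Agent.Lib.Helper20EtSections2
import Groth.Agent.Lib.Helper8EtPropA

/-!
# Geometric points and finite morphisms

* `exists_lift_of_finite`: lifting geometric points (alg. closed) along maps with finite residue
  field extension.
* `geomPt_ext_of_pInsep`: uniqueness for purely inseparable residue extensions.
-/

set_option autoImplicit false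
universe u

open CategoryTheory CategoryTheory.Limits AlgebraicGeometry
open Groth.Agent.Lib.Helper20.ResFld Groth.Agent.Lib.Helper20.EtSections
open Groth.Agent.Lib.Helper8EtPropA

namespace Groth.Agent.Lib.Helper8FinGeomPt

variable {Ω : Type u} [Field Ω]

set_option backward.isDefEq.respectTransparency.types false in
/-- lifting a geometric point with algebraically closed field through a point with finite residue
field extension. -/
theorem exists_lift_of_finite [IsAlgClosed Ω] {X S : Scheme.{u}} (f : X ⟶ S)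
    (s : Spec (.of Ω) ⟶ S) (x : X) (hx : f x = s default)
    (hfin : (f.residueFieldMap x).hom.Finite) :
    ∃ l : Spec (.of Ω) ⟶ X, l ≫ f = s ∧ l default = x := by
  obtain ⟨⟨s, a⟩, rfl⟩ := (Scheme.SpecToEquivOfField Ω S).symm.surjective s
  obtain rfl : f x = s := by simp [hx, Scheme.SpecToEquivOfField]
  let m := (f.residueFieldMap x).hom
  dsimp at m
  algebraize [m, a.hom]
  haveI : Module.Finite (S.residueField (f x)) (X.residueField x) := hfin
  haveI : Algebra.IsAlgebraic (S.residueField (f x)) (X.residueField x) :=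
    Algebra.IsAlgebraic.of_finite _ _
  let b : X.residueField x →ₐ[S.residueField (f x)] Ω := IsAlgClosed.lift
  have : f.residueFieldMap x ≫ CommRingCat.ofHom b.toRingHom = a := by
    ext1; exact b.comp_algebraMap
  refine ⟨Spec.map (CommRingCat.ofHom b.toRingHom) ≫ X.fromSpecResidueField x, ?_, ?_⟩
  · simp [Scheme.SpecToEquivOfField, ← this]
    rfl
  · dsimp
    apply Scheme.fromSpecResidueField_apply

set_option backward.isDefEq.respectTransparency.types false in
/-- two geometric points with the same centre `z` and the same image under `g` agree if the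
residue field extension at `z` is purely inseparable. -/
theorem geomPt_ext_of_pInsep {Z U : Scheme.{u}} (g : Z ⟶ U) (z : Z)
    (hz : PInsep (g.residueFieldMap z).hom) (a b : Spec (.of Ω) ⟶ Z)
    (ha : a default = z) (hb : b default = z) (hab : a ≫ g = b ≫ g) : a = b := by
  obtain ⟨⟨za, φa⟩, rfl⟩ := (Scheme.SpecToEquivOfField Ω Z).symm.surjective a
  obtain ⟨⟨zb, φb⟩, rfl⟩ := (Scheme.SpecToEquivOfField Ω Z).symm.surjective b
  obtain rfl : za = z := by simpa [Scheme.SpecToEquivOfField] using ha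
  obtain rfl : zb = za := by simpa [Scheme.SpecToEquivOfField] using hb
  suffices h : φa = φb by rw [h]
  have h1 : g.residueFieldMap zb ≫ φa = g.residueFieldMap zb ≫ φb := by
    have ea : (Scheme.SpecToEquivOfField Ω Z).symm ⟨zb, φa⟩ ≫ g =
        (Scheme.SpecToEquivOfField Ω U).symm ⟨g zb, g.residueFieldMap zb ≫ φa⟩ := by
      change (Spec.map φa ≫ Z.fromSpecResidueField zb) ≫ g =
        Spec.map (g.residueFieldMap zb ≫ φa) ≫ U.fromSpecResidueField (g zb)
      rw [Spec.map_comp, Category.assoc, Category.assoc,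
        Scheme.Hom.SpecMap_residueFieldMap_fromSpecResidueField]
    have eb : (Scheme.SpecToEquivOfField Ω Z).symm ⟨zb, φb⟩ ≫ g =
        (Scheme.SpecToEquivOfField Ω U).symm ⟨g zb, g.residueFieldMap zb ≫ φb⟩ := by
      change (Spec.map φb ≫ Z.fromSpecResidueField zb) ≫ g =
        Spec.map (g.residueFieldMap zb ≫ φb) ≫ U.fromSpecResidueField (g zb)
      rw [Spec.map_comp, Category.assoc, Category.assoc,
        Scheme.Hom.SpecMap_residueFieldMap_fromSpecResidueField]
    rw [ea, eb] at hab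
    have e := (Scheme.SpecToEquivOfField Ω U).symm.injective hab
    exact eq_of_heq (Sigma.mk.inj e).2
  letI : Algebra (U.residueField (g zb)) (Z.residueField zb) :=
    (g.residueFieldMap zb).hom.toAlgebra
  haveI : IsPurelyInseparable (U.residueField (g zb)) (Z.residueField zb) :=
    (pInsep_iff _).mp hz
  have h2 := IsPurelyInseparable.injective_comp_algebraMap (U.residueField (g zb))
    (Z.residueField zb) Ω (a₁ := φa.hom) (a₂ := φb.hom)
    (congrArg CommRingCat.Hom.hom h1)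
  exact CommRingCat.hom_ext h2

theorem pInsep_of_comp {K L M : Type*} [Field K] [Field L] [Field M] (φ : K →+* L) (ψ : L →+* M)
    (H : PInsep (ψ.comp φ)) : PInsep φ := by
  intro y
  obtain ⟨n, c, hc⟩ := H (ψ y)
  refine ⟨n, c, ψ.injective ?_⟩
  rw [map_pow]
  exact hc

/-- lifting a geometric point through an open subscheme containing its centre -/
theorem exists_lift_opens {Z : Scheme.{u}} (A : Z.Opens) (a : Spec (.of Ω) ⟶ Z)
    (ha : a default ∈ A) : ∃ l : Spec (.of Ω) ⟶ A, l ≫ A.ι = a := by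
  have hr : Set.range a.base ⊆ Set.range A.ι.base := by
    rintro _ ⟨(t : Spec (CommRingCat.of Ω)), rfl⟩
    rw [Subsingleton.elim t default]
    have : a default ∈ (A : Set Z) := ha
    rw [← Scheme.Opens.range_ι] at this
    exact this
  exact ⟨IsOpenImmersion.lift A.ι a hr, IsOpenImmersion.lift_fac _ _ _⟩

set_option backward.isDefEq.respectTransparency.types false in
/-- **Pointed sections.** For a separated locally quasi-finite morphism `f`, a geometric point
`ξ` of `X` over `η` and an étale neighbourhood `(N, n)` of `ξ`, there is an étale neighbourhood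
`(V, v₀)` of `η` and a closed open `W ⊆ X ×_Y V` containing `(ξ, v₀)` and no other geometric
point over `η`, with a pointed `X`-morphism `W ⟶ N`. -/
theorem exists_pointed_section [IsAlgClosed Ω] {X Y N : Scheme.{u}} (f : X ⟶ Y) [IsSeparated f]
    [LocallyQuasiFinite f] [LocallyOfFiniteType f] (η : Spec (.of Ω) ⟶ Y)
    (ξ : Spec (.of Ω) ⟶ X) (hξ : ξ ≫ f = η) (p : N ⟶ X) [Etale p] (n : Spec (.of Ω) ⟶ N)
    (hn : n ≫ p = ξ) :
    ∃ (V : Scheme.{u}) (v : V ⟶ Y) (v₀ : Spec (.of Ω) ⟶ V) (_ : Etale v) (hv₀ : v₀ ≫ v = η)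
      (W : (pullback f v).Opens), IsClosed (W : Set ↥(pullback f v)) ∧
      (∀ (ξ' : Spec (.of Ω) ⟶ X) (h' : ξ' ≫ f = η),
        (pullback.lift ξ' v₀ (h'.trans hv₀.symm)) default ∈ W → ξ' = ξ) ∧
      ∃ (h : (W : Scheme.{u}) ⟶ N) (l : Spec (.of Ω) ⟶ W), h ≫ p = W.ι ≫ pullback.fst f v ∧
        l ≫ W.ι = pullback.lift ξ v₀ (hξ.trans hv₀.symm) ∧ l ≫ h = n := by
  obtain ⟨E₀, hE₀, huE₀⟩ : ∃ E₀ : N.Opens, IsAffineOpen E₀ ∧ n default ∈ E₀ := by
    obtain ⟨_, ⟨E₀, hE₀, rfl⟩, huE₀, -⟩ :=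
      N.isBasis_affineOpens.exists_subset_of_mem_open (Set.mem_univ (n default)) isOpen_univ
    exact ⟨E₀, hE₀, huE₀⟩
  haveI : IsAffine (E₀ : Scheme.{u}) := hE₀
  obtain ⟨n', hn'⟩ := exists_lift_opens E₀ n huE₀
  let j : (E₀ : Scheme.{u}) ⟶ X := E₀.ι ≫ p
  haveI : Etale j := inferInstance
  let F : (E₀ : Scheme.{u}) ⟶ Y := j ≫ f
  haveI : IsSeparated F := isSeparated_of_isAffine F
  haveI : LocallyQuasiFinite j := locallyQuasiFinite_of_etale j
  haveI : LocallyQuasiFinite F := inferInstance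
  haveI : LocallyOfFiniteType F := inferInstance
  let u₀ : (E₀ : Scheme.{u}) := n' default
  have hn'F : n' ≫ F = η := by
    change n' ≫ (E₀.ι ≫ p) ≫ f = η
    rw [← Category.assoc, ← Category.assoc, hn', hn, hξ]
  obtain ⟨V, v, v₁, hv, hv₁, -, Vw, -, hVw⟩ := exists_etale_split_clopen F (F u₀) {u₀}
    (Set.finite_singleton _) (by rintro t rfl; exact ⟨rfl, F.quasiFiniteAt _⟩)
  obtain ⟨w, hw1, hw2⟩ :=
    Scheme.Pullback.exists_preimage_pullback (f := F) (g := v) u₀ v₁ hv₁.symm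
  obtain ⟨hwA, -, hfin, huniq, hpi, -⟩ := hVw w hw2 (by rw [hw1]; rfl)
  -- the geometric point of `pullback F v`
  obtain ⟨wt, hwt1, hwt2⟩ := Scheme.exists_fac_of_etale_of_isSepClosed (pullback.fst F v) n' w hw1
  let v₀ : Spec (.of Ω) ⟶ V := wt ≫ pullback.snd F v
  have hv₀ : v₀ ≫ v = η := by
    change (wt ≫ pullback.snd F v) ≫ v = η
    rw [Category.assoc, ← pullback.condition, ← Category.assoc, hwt1, hn'F]
  have hv₀pt : v₀ default = v₁ := by
    change (wt ≫ pullback.snd F v) default = v₁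
    rw [Scheme.Hom.comp_apply, hwt2, hw2]
  let m : pullback F v ⟶ pullback f v :=
    pullback.map F v f v j (𝟙 V) (𝟙 Y) (by simp [F]) (by simp)
  have hm1 : m ≫ pullback.fst f v = pullback.fst F v ≫ j := pullback.lift_fst _ _ _
  have hm2 : m ≫ pullback.snd f v = pullback.snd F v :=
    (pullback.lift_snd _ _ _).trans (Category.comp_id _)
  have hm : IsPullback m (pullback.fst F v) (pullback.fst f v) j := by
    refine IsPullback.of_right ?_ hm1 (IsPullback.of_hasPullback f v).flip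
    rw [hm2]
    exact (IsPullback.of_hasPullback F v).flip
  haveI : Etale m := MorphismProperty.of_isPullback (P := @Etale) hm.flip inferInstance
  let φ : ((Vw w : (pullback F v).Opens) : Scheme.{u}) ⟶ pullback f v := (Vw w).ι ≫ m
  have hφp : φ ≫ pullback.snd f v = (Vw w).ι ≫ pullback.snd F v := by
    change ((Vw w).ι ≫ m) ≫ pullback.snd f v = _
    rw [Category.assoc, hm2]
  haveI : IsFinite (φ ≫ pullback.snd f v) := by rw [hφp]; exact hfin
  obtain ⟨a₀, ha₀⟩ : ∃ a₀ : ((Vw w : (pullback F v).Opens) : Scheme.{u}), (Vw w).ι a₀ = w := by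
    have : w ∈ Set.range (Vw w).ι := by rw [Scheme.Opens.range_ι]; exact hwA
    exact this
  obtain ⟨at', hat'⟩ := exists_lift_opens (Vw w) wt (by rw [hwt2]; exact hwA)
  have hat'pt : at' default = a₀ := by
    apply (Vw w).ι.isOpenEmbedding.injective
    rw [ha₀]
    have e := congrArg (fun k : Spec (CommRingCat.of Ω) ⟶ pullback F v => k default) hat'
    exact e.trans hwt2
  have hsnd : ∀ a : ((Vw w : (pullback F v).Opens) : Scheme.{u}),
      (φ ≫ pullback.snd f v) a = pullback.snd F v ((Vw w).ι a) := by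
    intro a
    rw [hφp, Scheme.Hom.comp_apply]
  have huniq' : ∀ a, (φ ≫ pullback.snd f v) a = (φ ≫ pullback.snd f v) a₀ → a = a₀ := by
    intro a ha
    rw [hsnd, hsnd, ha₀, hw2] at ha
    apply (Vw w).ι.isOpenEmbedding.injective
    rw [ha₀]
    refine huniq ((Vw w).ι a) ?_ ha
    have : (Vw w).ι a ∈ Set.range (Vw w).ι := ⟨a, rfl⟩
    rwa [Scheme.Opens.range_ι] at this
  have hpi' : PInsep ((φ ≫ pullback.snd f v).residueFieldMap a₀).hom := by
    exact pInsep_congr hφp.symm a₀ (pInsep_comp_ι (pullback.snd F v) (Vw w) a₀ w ha₀ hpi)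
  have hφa₀ : (φ ≫ pullback.snd f v) a₀ = v₁ := by rw [hsnd, ha₀, hw2]
  obtain ⟨V', C, hv₀', hCcl, hφC, σ, hσ⟩ := core (pullback.snd f v) φ a₀ huniq' hpi'
  -- the geometric point of `pullback f v`
  have hpt₀ : at' ≫ φ = pullback.lift ξ v₀ (hξ.trans hv₀.symm) := by
    apply pullback.hom_ext
    · rw [pullback.lift_fst]
      change (at' ≫ (Vw w).ι ≫ m) ≫ pullback.fst f v = ξ
      rw [Category.assoc, Category.assoc, hm1, ← Category.assoc, ← Category.assoc, hat', hwt1]
      change n' ≫ E₀.ι ≫ p = ξ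
      rw [← Category.assoc, hn', hn]
    · rw [pullback.lift_snd, Category.assoc, hφp, ← Category.assoc, hat']
  obtain ⟨v₀', hv₀''⟩ := exists_lift_opens V' v₀ (by rw [hv₀pt, ← hφa₀]; exact hv₀')
  have hv₀f : v₀' ≫ V'.ι ≫ v = η := by rw [← Category.assoc, hv₀'', hv₀]
  let b : pullback f (V'.ι ≫ v) ⟶ pullback f v := bcMap f v V'.ι
  let W : (pullback f (V'.ι ≫ v)).Opens := b ⁻¹ᵁ C
  have hWcl : IsClosed (W : Set ↥(pullback f (V'.ι ≫ v))) := hCcl.preimage b.continuous
  let T : (pullback f v).Opens := C ⊓ (pullback.snd f v) ⁻¹ᵁ V'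
  have hbW : ∀ z : ↥(pullback f (V'.ι ≫ v)), z ∈ W → b z ∈ T := by
    intro z hz
    refine ⟨hz, ?_⟩
    change pullback.snd f v (b z) ∈ V'
    rw [bcMap_snd_apply]
    have : V'.ι (pullback.snd f (V'.ι ≫ v) z) ∈ Set.range V'.ι := ⟨_, rfl⟩
    rwa [Scheme.Opens.range_ι] at this
  have hr : Set.range (W.ι ≫ b).base ⊆ Set.range T.ι.base := by
    rintro _ ⟨z, rfl⟩
    rw [Scheme.Opens.range_ι]
    rw [Scheme.Hom.comp_apply]
    apply hbW
    have : W.ι z ∈ Set.range W.ι := ⟨z, rfl⟩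
    rwa [Scheme.Opens.range_ι] at this
  let l : (W : Scheme.{u}) ⟶ (T : Scheme.{u}) := IsOpenImmersion.lift T.ι (W.ι ≫ b) hr
  have hl : l ≫ T.ι = W.ι ≫ b := IsOpenImmersion.lift_fac _ _ _
  have h1 : (Vw w).ι ≫ pullback.fst F v ≫ E₀.ι ≫ p = φ ≫ pullback.fst f v := by
    change _ = ((Vw w).ι ≫ m) ≫ pullback.fst f v
    rw [Category.assoc, hm1]
  -- the geometric points upstairs
  have hptb : ∀ (ξ' : Spec (.of Ω) ⟶ X) (h' : ξ' ≫ f = η),
      pullback.lift ξ' v₀' (h'.trans hv₀f.symm) ≫ b = pullback.lift ξ' v₀ (h'.trans hv₀.symm) := by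
    intro ξ' h'
    apply pullback.hom_ext
    · rw [Category.assoc, bcMap_fst, pullback.lift_fst, pullback.lift_fst]
    · rw [Category.assoc, bcMap_snd, pullback.lift_snd, ← Category.assoc, pullback.lift_snd, hv₀'']
  have hptW : (pullback.lift ξ v₀' (hξ.trans hv₀f.symm)) default ∈ W := by
    change b ((pullback.lift ξ v₀' (hξ.trans hv₀f.symm)) default) ∈ C
    rw [← Scheme.Hom.comp_apply, hptb ξ hξ, ← hpt₀, Scheme.Hom.comp_apply, hat'pt]
    exact hφC
  obtain ⟨lpt, hlpt⟩ := exists_lift_opens W _ hptW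
  refine ⟨V', V'.ι ≫ v, v₀', inferInstance, hv₀f, W, hWcl, ?_,
    l ≫ σ ≫ (Vw w).ι ≫ pullback.fst F v ≫ E₀.ι, lpt, ?_, hlpt, ?_⟩
  · -- uniqueness
    intro ξ' h' hmem
    have hC : b ((pullback.lift ξ' v₀' (h'.trans hv₀f.symm)) default) ∈ C := hmem
    rw [← Scheme.Hom.comp_apply, hptb ξ' h'] at hC
    obtain ⟨a, ha⟩ : ∃ a, φ a = (pullback.lift ξ' v₀ (h'.trans hv₀.symm)) default := by
      have hT : (pullback.lift ξ' v₀ (h'.trans hv₀.symm)) default ∈ T := by
        refine ⟨hC, ?_⟩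
        change pullback.snd f v ((pullback.lift ξ' v₀ (h'.trans hv₀.symm)) default) ∈ V'
        rw [← Scheme.Hom.comp_apply, pullback.lift_snd, hv₀pt, ← hφa₀]
        exact hv₀'
      obtain ⟨t'', ht''⟩ : ∃ t'' : (T : Scheme.{u}),
          T.ι t'' = (pullback.lift ξ' v₀ (h'.trans hv₀.symm)) default := by
        have : (pullback.lift ξ' v₀ (h'.trans hv₀.symm)) default ∈ Set.range T.ι := by
          rw [Scheme.Opens.range_ι]; exact hT
        exact this
      refine ⟨σ t'', ?_⟩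
      rw [← Scheme.Hom.comp_apply, hσ, ht'']
    have haa : a = a₀ := by
      apply huniq'
      rw [Scheme.Hom.comp_apply, ha, hφa₀, ← Scheme.Hom.comp_apply, pullback.lift_snd, hv₀pt]
    subst haa
    have hpi2 : PInsep ((pullback.snd f v).residueFieldMap (φ a)).hom := by
      apply pInsep_of_comp _ (φ.residueFieldMap a).hom
      have := hpi'
      rw [Scheme.residueFieldMap_comp] at this
      exact this
    have e := geomPt_ext_of_pInsep (pullback.snd f v) (φ a) hpi2
      (pullback.lift ξ' v₀ (h'.trans hv₀.symm)) (pullback.lift ξ v₀ (hξ.trans hv₀.symm))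
      ha.symm (by rw [← hpt₀, Scheme.Hom.comp_apply, hat'pt])
      (by rw [pullback.lift_snd, pullback.lift_snd])
    have e' : pullback.lift ξ' v₀ (h'.trans hv₀.symm) ≫ pullback.fst f v =
        pullback.lift ξ v₀ (hξ.trans hv₀.symm) ≫ pullback.fst f v := by rw [e]
    rw [pullback.lift_fst, pullback.lift_fst] at e'
    exact e'
  · calc (l ≫ σ ≫ (Vw w).ι ≫ pullback.fst F v ≫ E₀.ι) ≫ p
        = l ≫ σ ≫ ((Vw w).ι ≫ pullback.fst F v ≫ E₀.ι ≫ p) := by simp only [Category.assoc]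
      _ = l ≫ (σ ≫ φ) ≫ pullback.fst f v := by rw [h1, ← Category.assoc σ φ]
      _ = (l ≫ T.ι) ≫ pullback.fst f v := by rw [hσ, Category.assoc]
      _ = W.ι ≫ b ≫ pullback.fst f v := by rw [hl, Category.assoc]
      _ = W.ι ≫ pullback.fst f (V'.ι ≫ v) := by rw [bcMap_fst]
  · -- pointedness
    have e1 : (lpt ≫ l ≫ σ) ≫ φ = at' ≫ φ := by
      rw [Category.assoc, Category.assoc, hσ, hl, ← Category.assoc, hlpt, hptb ξ hξ, hpt₀]
    have e2 : (lpt ≫ l ≫ σ) default = a₀ := by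
      apply huniq'
      have e0 : ((lpt ≫ l ≫ σ) ≫ φ ≫ pullback.snd f v) default =
          (at' ≫ φ ≫ pullback.snd f v) default := by
        rw [← Category.assoc, e1, Category.assoc]
      rw [Scheme.Hom.comp_apply, Scheme.Hom.comp_apply (f := at'), hat'pt] at e0
      exact e0
    have e3 : lpt ≫ l ≫ σ = at' :=
      geomPt_ext_of_pInsep (φ ≫ pullback.snd f v) a₀ hpi' _ _ e2 hat'pt
        (by rw [← Category.assoc, e1, Category.assoc])
    calc lpt ≫ l ≫ σ ≫ (Vw w).ι ≫ pullback.fst F v ≫ E₀.ι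
        = (lpt ≫ l ≫ σ) ≫ (Vw w).ι ≫ pullback.fst F v ≫ E₀.ι := by simp only [Category.assoc]
      _ = n := by
        rw [e3, ← Category.assoc, hat', ← Category.assoc, hwt1, hn']

set_option backward.isDefEq.respectTransparency.types false in
/-- finitely many geometric points over a geometric point, for a quasi-compact separated locally
quasi-finite morphism. -/
theorem finite_geomPts [IsSepClosed Ω] {X Y : Scheme.{u}} (f : X ⟶ Y) [IsSeparated f]
    [LocallyQuasiFinite f] [LocallyOfFiniteType f] [QuasiCompact f] (η : Spec (.of Ω) ⟶ Y) :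
    Finite {ξ : Spec (.of Ω) ⟶ X // ξ ≫ f = η} := by
  have hT : (f ⁻¹' {η default}).Finite := f.finite_preimage_singleton (η default)
  obtain ⟨U, g, u, hg, hu, hFfin, Vw, -, hVw⟩ := exists_etale_split_clopen f (η default)
    (f ⁻¹' {η default}) hT (fun t ht => ⟨ht, f.quasiFiniteAt t⟩)
  obtain ⟨ηU, hηU1, hηU2⟩ := Scheme.exists_fac_of_etale_of_isSepClosed g η u hu
  haveI : Finite ↥{w : ↥(pullback f g) | pullback.snd f g w = u ∧
      pullback.fst f g w ∈ f ⁻¹' {η default}} := hFfin.to_subtype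
  have hmem : ∀ ξ : {ξ : Spec (.of Ω) ⟶ X // ξ ≫ f = η},
      (pullback.lift ξ.1 ηU (ξ.2.trans hηU1.symm)) default ∈
        {w : ↥(pullback f g) | pullback.snd f g w = u ∧
          pullback.fst f g w ∈ f ⁻¹' {η default}} := by
    intro ξ
    constructor
    · rw [← Scheme.Hom.comp_apply, pullback.lift_snd, hηU2]
    · change f (pullback.fst f g ((pullback.lift ξ.1 ηU (ξ.2.trans hηU1.symm)) default)) =
        η default
      rw [← Scheme.Hom.comp_apply, ← Scheme.Hom.comp_apply, ← Category.assoc, pullback.lift_fst,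
        ξ.2]
  refine Finite.of_injective (fun ξ => (⟨_, hmem ξ⟩ : ↥{w : ↥(pullback f g) |
    pullback.snd f g w = u ∧ pullback.fst f g w ∈ f ⁻¹' {η default}})) ?_
  intro ξ ξ' h
  have h0 : (pullback.lift ξ.1 ηU (ξ.2.trans hηU1.symm)) default =
      (pullback.lift ξ'.1 ηU (ξ'.2.trans hηU1.symm)) default := congrArg Subtype.val h
  obtain ⟨h1, h2⟩ := hmem ξ'
  obtain ⟨-, -, -, -, hpi, -⟩ := hVw _ h1 h2
  have e := geomPt_ext_of_pInsep (pullback.snd f g) _ hpi
    (pullback.lift ξ.1 ηU (ξ.2.trans hηU1.symm)) (pullback.lift ξ'.1 ηU (ξ'.2.trans hηU1.symm))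
    h0 rfl (by rw [pullback.lift_snd, pullback.lift_snd])
  apply Subtype.ext
  have e' : pullback.lift ξ.1 ηU (ξ.2.trans hηU1.symm) ≫ pullback.fst f g =
      pullback.lift ξ'.1 ηU (ξ'.2.trans hηU1.symm) ≫ pullback.fst f g := by rw [e]
  rw [pullback.lift_fst, pullback.lift_fst] at e'
  exact e'

set_option backward.isDefEq.respectTransparency.types false in
/-- `exists_pointed_section` for an arbitrary pullback square. -/
theorem exists_pointed_section' [IsAlgClosed Ω] {X Y N : Scheme.{u}} (f : X ⟶ Y) [IsSeparated f]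
    [LocallyQuasiFinite f] [LocallyOfFiniteType f] (η : Spec (.of Ω) ⟶ Y)
    (ξ : Spec (.of Ω) ⟶ X) (hξ : ξ ≫ f = η) (p : N ⟶ X) [Etale p] (n : Spec (.of Ω) ⟶ N)
    (hn : n ≫ p = ξ) :
    ∃ (V : Scheme.{u}) (v : V ⟶ Y) (v₀ : Spec (.of Ω) ⟶ V) (_ : Etale v) (hv₀ : v₀ ≫ v = η),
      ∀ (Q : Scheme.{u}) (α : Q ⟶ X) (β : Q ⟶ V) (sq : IsPullback α β f v),
      ∃ (W : Q.Opens), IsClosed (W : Set Q) ∧
      (∀ (ξ' : Spec (.of Ω) ⟶ X) (h' : ξ' ≫ f = η),
        (sq.lift ξ' v₀ (h'.trans hv₀.symm)) default ∈ W → ξ' = ξ) ∧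
      ∃ (h : (W : Scheme.{u}) ⟶ N) (l : Spec (.of Ω) ⟶ W), h ≫ p = W.ι ≫ α ∧
        l ≫ W.ι = sq.lift ξ v₀ (hξ.trans hv₀.symm) ∧ l ≫ h = n := by
  obtain ⟨V, v, v₀, hv, hv₀, W₀, hW₀, huniq, h₀, l₀, hh₀, hl₀, hln₀⟩ :=
    exists_pointed_section f η ξ hξ p n hn
  refine ⟨V, v, v₀, hv, hv₀, ?_⟩
  intro Q α β sq
  let e : Q ≅ pullback f v := sq.isoPullback
  have he1 : e.hom ≫ pullback.fst f v = α := sq.isoPullback_hom_fst
  have he2 : e.hom ≫ pullback.snd f v = β := sq.isoPullback_hom_snd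
  have hlift : ∀ (ξ' : Spec (.of Ω) ⟶ X) (h' : ξ' ≫ f = η),
      sq.lift ξ' v₀ (h'.trans hv₀.symm) ≫ e.hom = pullback.lift ξ' v₀ (h'.trans hv₀.symm) := by
    intro ξ' h'
    apply pullback.hom_ext
    · rw [Category.assoc, he1, sq.lift_fst, pullback.lift_fst]
    · rw [Category.assoc, he2, sq.lift_snd, pullback.lift_snd]
  let W : Q.Opens := e.hom ⁻¹ᵁ W₀
  have hmemW : (sq.lift ξ v₀ (hξ.trans hv₀.symm)) default ∈ W := by
    change e.hom ((sq.lift ξ v₀ (hξ.trans hv₀.symm)) default) ∈ W₀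
    rw [← Scheme.Hom.comp_apply, hlift ξ hξ, ← hl₀, Scheme.Hom.comp_apply]
    have : W₀.ι (l₀ default) ∈ Set.range W₀.ι := ⟨_, rfl⟩
    rwa [Scheme.Opens.range_ι] at this
  obtain ⟨l, hl⟩ := exists_lift_opens W _ hmemW
  refine ⟨W, hW₀.preimage e.hom.continuous, ?_, (e.hom ∣_ W₀) ≫ h₀, l, ?_, hl, ?_⟩
  · intro ξ' h' hmem
    apply huniq ξ' h'
    rw [← hlift ξ' h', Scheme.Hom.comp_apply]
    exact hmem
  · rw [Category.assoc, hh₀, ← Category.assoc, morphismRestrict_ι, Category.assoc, he1]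
  · have e1 : (l ≫ (e.hom ∣_ W₀)) ≫ W₀.ι = l₀ ≫ W₀.ι := by
      rw [Category.assoc, morphismRestrict_ι, ← Category.assoc, hl, hlift ξ hξ, hl₀]
    have e2 : l ≫ (e.hom ∣_ W₀) = l₀ := (cancel_mono W₀.ι).mp e1
    rw [← Category.assoc, e2, hln₀]

end Groth.Agent.Lib.Helper8FinGeomPt
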