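import Groth.Prelude
import Groth.Agent.Lib.Helper8FinGeomPt
import Groth.Agent.Lib.Helper16EtGlue
import Groth.Agent.Lib.Helper8EtFinPush

/-!
# Pointed clopen decompositions for finite morphisms (site-level)
-/

set_option autoImplicit false
universe u

open CategoryTheory CategoryTheory.Limits AlgebraicGeometry Opposite

namespace Groth.Agent.Lib.Helper8FinPushDecomp

variable {X Y : Scheme.{u}} (f : X ⟶ Y) {Ω : Type u} [Field Ω] [IsSepClosed Ω]
  (η : Spec (CommRingCat.of Ω) ⟶ Y)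

/-- geometric points of `X` over `η` -/
abbrev Pts : Type u := {ξ : Spec (CommRingCat.of Ω) ⟶ X // ξ ≫ f = η}

variable {f η}

set_option backward.isDefEq.respectTransparency.types false in
/-- the canonical lift of `v` to `X ×_Y V` over `ξ` -/
noncomputable def pt (ξ : Pts f η) (V : Y.Etale) (v : (Scheme.pointSmallEtale η).fiber.obj V) :
    (Scheme.pointSmallEtale ξ.1).fiber.obj ((EtCoh.bc f).obj V) :=
  Over.homMk (pullback.lift (v.left : Spec (CommRingCat.of Ω) ⟶ V.left) ξ.1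
    ((Over.w v).trans ξ.2.symm)) (pullback.lift_snd _ _ _)

set_option backward.isDefEq.respectTransparency.types false in
theorem pt_left_fst (ξ : Pts f η) (V : Y.Etale) (v : (Scheme.pointSmallEtale η).fiber.obj V) :
    ((pt ξ V v).left : Spec (CommRingCat.of Ω) ⟶ ((EtCoh.bc f).obj V).left) ≫
      pullback.fst V.hom f = v.left := pullback.lift_fst _ _ _

set_option backward.isDefEq.respectTransparency.types false in
theorem pt_left_snd (ξ : Pts f η) (V : Y.Etale) (v : (Scheme.pointSmallEtale η).fiber.obj V) :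
    ((pt ξ V v).left : Spec (CommRingCat.of Ω) ⟶ ((EtCoh.bc f).obj V).left) ≫
      pullback.snd V.hom f = ξ.1 := pullback.lift_snd _ _ _

set_option backward.isDefEq.respectTransparency.types false in
theorem pt_map (ξ : Pts f η) {V' V : Y.Etale} (φ : V' ⟶ V)
    (v' : (Scheme.pointSmallEtale η).fiber.obj V') :
    (Scheme.pointSmallEtale ξ.1).fiber.map ((EtCoh.bc f).map φ) (pt ξ V' v') =
      pt ξ V ((Scheme.pointSmallEtale η).fiber.map φ v') := by
  apply Over.OverMorphism.ext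
  have key : ∀ (β : pullback V'.hom f ⟶ pullback V.hom f)
      (a' : Spec (CommRingCat.of Ω) ⟶ pullback V'.hom f)
      (a : Spec (CommRingCat.of Ω) ⟶ pullback V.hom f) (φl : V'.left ⟶ V.left)
      (vl : Spec (CommRingCat.of Ω) ⟶ V'.left),
      β ≫ pullback.fst V.hom f = pullback.fst V'.hom f ≫ φl →
      β ≫ pullback.snd V.hom f = pullback.snd V'.hom f →
      a' ≫ pullback.fst V'.hom f = vl → a' ≫ pullback.snd V'.hom f = ξ.1 →
      a ≫ pullback.fst V.hom f = vl ≫ φl → a ≫ pullback.snd V.hom f = ξ.1 → a' ≫ β = a := by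
    intro β a' a φl vl e1 e2 e3 e4 e5 e6
    apply pullback.hom_ext
    · rw [Category.assoc, e1, ← Category.assoc, e3, e5]
    · rw [Category.assoc, e2, e4, e6]
  exact key ((EtCoh.bc f).map φ).left (pt ξ V' v').left
    (pt ξ V ((Scheme.pointSmallEtale η).fiber.map φ v')).left φ.left v'.left
    (EtCoh.isPullback_bc_map f φ).w (MorphismProperty.Over.w ((EtCoh.bc f).map φ))
    (pt_left_fst ξ V' v') (pt_left_snd ξ V' v') (pt_left_fst ξ V _) (pt_left_snd ξ V _)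

/-- pointed closed-open piece data at level `(V₁, φ₁, v₁)` for the étale neighbourhood
`(N, a, n)` of the canonical point of `X ×_Y V` over `ξ`. -/
structure PData (ξ : Pts f η) {V : Y.Etale} (N : X.Etale) (a : N ⟶ (EtCoh.bc f).obj V)
    (n : (Scheme.pointSmallEtale ξ.1).fiber.obj N)
    {V₁ : Y.Etale} (φ₁ : V₁ ⟶ V) (v₁ : (Scheme.pointSmallEtale η).fiber.obj V₁) where
  W : (pullback V₁.hom f).Opens
  closed : IsClosed (W : Set ↥(pullback V₁.hom f))
  uniq : ∀ ξ' : Pts f η,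
    ((pt ξ' V₁ v₁).left : Spec (CommRingCat.of Ω) ⟶ pullback V₁.hom f)
      (default : Spec (CommRingCat.of Ω)) ∈ W → ξ' = ξ
  h : (W : Scheme.{u}) ⟶ N.left
  hh : h ≫ (a.left : N.left ⟶ pullback V.hom f) =
    W.ι ≫ (((EtCoh.bc f).map φ₁).left : pullback V₁.hom f ⟶ pullback V.hom f)
  l : Spec (CommRingCat.of Ω) ⟶ (W : Scheme.{u})
  hl : l ≫ W.ι = ((pt ξ V₁ v₁).left : Spec (CommRingCat.of Ω) ⟶ pullback V₁.hom f)
  hln : l ≫ h = (n.left : Spec (CommRingCat.of Ω) ⟶ N.left)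

set_option backward.isDefEq.respectTransparency.types false in
theorem bc_map_comp_left {V₂ V₁ V : Y.Etale} (ψ : V₂ ⟶ V₁) (φ₁ : V₁ ⟶ V) :
    (((EtCoh.bc f).map (ψ ≫ φ₁)).left : pullback V₂.hom f ⟶ pullback V.hom f) =
      (((EtCoh.bc f).map ψ).left : pullback V₂.hom f ⟶ pullback V₁.hom f) ≫
        (((EtCoh.bc f).map φ₁).left : pullback V₁.hom f ⟶ pullback V.hom f) := by
  rw [Functor.map_comp]
  rfl

/-- scheme-level part of `PData.pull` -/
theorem pull_aux {P₂ P₁ P N : Scheme.{u}} (β : P₂ ⟶ P₁) (b₁ : P₁ ⟶ P) (b₂ : P₂ ⟶ P)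
    (hb : b₂ = β ≫ b₁) (W₁ : P₁.Opens) (h₁ : (W₁ : Scheme.{u}) ⟶ N) (a : N ⟶ P)
    (hh : h₁ ≫ a = W₁.ι ≫ b₁) (pt₂ : Spec (CommRingCat.of Ω) ⟶ P₂)
    (pt₁ : Spec (CommRingCat.of Ω) ⟶ P₁) (hpt : pt₂ ≫ β = pt₁)
    (l₁ : Spec (CommRingCat.of Ω) ⟶ (W₁ : Scheme.{u})) (hl₁ : l₁ ≫ W₁.ι = pt₁)
    (n : Spec (CommRingCat.of Ω) ⟶ N) (hln : l₁ ≫ h₁ = n) :
    ((β ∣_ W₁) ≫ h₁) ≫ a = (β ⁻¹ᵁ W₁).ι ≫ b₂ ∧
      ∃ l₂ : Spec (CommRingCat.of Ω) ⟶ ((β ⁻¹ᵁ W₁ : P₂.Opens) : Scheme.{u}),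
        l₂ ≫ (β ⁻¹ᵁ W₁).ι = pt₂ ∧ l₂ ≫ (β ∣_ W₁) ≫ h₁ = n := by
  constructor
  · rw [Category.assoc, hh, ← Category.assoc, morphismRestrict_ι, Category.assoc, hb]
  · have hmem : pt₂ (default : Spec (CommRingCat.of Ω)) ∈ β ⁻¹ᵁ W₁ := by
      change β (pt₂ (default : Spec (CommRingCat.of Ω))) ∈ W₁
      rw [← Scheme.Hom.comp_apply, hpt, ← hl₁, Scheme.Hom.comp_apply]
      have : W₁.ι (l₁ (default : Spec (CommRingCat.of Ω))) ∈ Set.range W₁.ι := ⟨_, rfl⟩
      rwa [Scheme.Opens.range_ι] at this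
    obtain ⟨l₂, hl₂⟩ := Groth.Agent.Lib.Helper8FinGeomPt.exists_lift_opens (β ⁻¹ᵁ W₁) pt₂ hmem
    refine ⟨l₂, hl₂, ?_⟩
    have e2 : l₂ ≫ (β ∣_ W₁) = l₁ := by
      apply (cancel_mono W₁.ι).mp
      rw [Category.assoc, morphismRestrict_ι, ← Category.assoc, hl₂, hpt, hl₁]
    rw [← Category.assoc, e2, hln]

set_option backward.isDefEq.respectTransparency.types false in
theorem pt_left_map (ξ : Pts f η) {V₂ V₁ : Y.Etale} (ψ : V₂ ⟶ V₁)
    (v₂ : (Scheme.pointSmallEtale η).fiber.obj V₂) (v₁ : (Scheme.pointSmallEtale η).fiber.obj V₁)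
    (hv : (Scheme.pointSmallEtale η).fiber.map ψ v₂ = v₁) :
    ((pt ξ V₂ v₂).left : Spec (CommRingCat.of Ω) ⟶ pullback V₂.hom f) ≫
      (((EtCoh.bc f).map ψ).left : pullback V₂.hom f ⟶ pullback V₁.hom f) =
        ((pt ξ V₁ v₁).left : Spec (CommRingCat.of Ω) ⟶ pullback V₁.hom f) := by
  subst hv
  exact congrArg (fun m => (m.left : Spec (CommRingCat.of Ω) ⟶ pullback V₁.hom f))
    (pt_map ξ ψ v₂)

set_option backward.isDefEq.respectTransparency.types false in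
/-- pulling back the data along a pointed morphism -/
noncomputable def PData.pull {ξ : Pts f η} {V : Y.Etale} {N : X.Etale}
    {a : N ⟶ (EtCoh.bc f).obj V} {n : (Scheme.pointSmallEtale ξ.1).fiber.obj N}
    {V₁ : Y.Etale} {φ₁ : V₁ ⟶ V} {v₁ : (Scheme.pointSmallEtale η).fiber.obj V₁}
    (D : PData ξ N a n φ₁ v₁) {V₂ : Y.Etale} (ψ : V₂ ⟶ V₁)
    (v₂ : (Scheme.pointSmallEtale η).fiber.obj V₂)
    (hv : (Scheme.pointSmallEtale η).fiber.map ψ v₂ = v₁) :
    PData ξ N a n (ψ ≫ φ₁) v₂ :=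
  have aux := pull_aux (((EtCoh.bc f).map ψ).left : pullback V₂.hom f ⟶ pullback V₁.hom f)
    (((EtCoh.bc f).map φ₁).left : pullback V₁.hom f ⟶ pullback V.hom f)
    (((EtCoh.bc f).map (ψ ≫ φ₁)).left : pullback V₂.hom f ⟶ pullback V.hom f)
    (bc_map_comp_left ψ φ₁) D.W D.h (a.left : N.left ⟶ pullback V.hom f) D.hh
    ((pt ξ V₂ v₂).left : Spec (CommRingCat.of Ω) ⟶ pullback V₂.hom f)
    ((pt ξ V₁ v₁).left : Spec (CommRingCat.of Ω) ⟶ pullback V₁.hom f)
    (pt_left_map ξ ψ v₂ v₁ hv) D.l D.hl (n.left : Spec (CommRingCat.of Ω) ⟶ N.left) D.hln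
  { W := (((EtCoh.bc f).map ψ).left : pullback V₂.hom f ⟶ pullback V₁.hom f) ⁻¹ᵁ D.W
    closed := D.closed.preimage
      (((EtCoh.bc f).map ψ).left : pullback V₂.hom f ⟶ pullback V₁.hom f).continuous
    uniq := fun ξ' hξ' => D.uniq ξ' (by
      rw [← pt_left_map ξ' ψ v₂ v₁ hv]
      exact hξ')
    h := ((((EtCoh.bc f).map ψ).left : pullback V₂.hom f ⟶ pullback V₁.hom f) ∣_ D.W) ≫ D.h
    hh := aux.1
    l := Classical.choose aux.2
    hl := (Classical.choose_spec aux.2).1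
    hln := (Classical.choose_spec aux.2).2 }

theorem PData.pull_W {ξ : Pts f η} {V : Y.Etale} {N : X.Etale}
    {a : N ⟶ (EtCoh.bc f).obj V} {n : (Scheme.pointSmallEtale ξ.1).fiber.obj N}
    {V₁ : Y.Etale} {φ₁ : V₁ ⟶ V} {v₁ : (Scheme.pointSmallEtale η).fiber.obj V₁}
    (D : PData ξ N a n φ₁ v₁) {V₂ : Y.Etale} (ψ : V₂ ⟶ V₁)
    (v₂ : (Scheme.pointSmallEtale η).fiber.obj V₂)
    (hv : (Scheme.pointSmallEtale η).fiber.map ψ v₂ = v₁) :
    (D.pull ψ v₂ hv).W =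
      (((EtCoh.bc f).map ψ).left : pullback V₂.hom f ⟶ pullback V₁.hom f) ⁻¹ᵁ D.W := rfl

/-- transport along an equality of structure morphisms -/
def PData.congr {ξ : Pts f η} {V : Y.Etale} {N : X.Etale}
    {a : N ⟶ (EtCoh.bc f).obj V} {n : (Scheme.pointSmallEtale ξ.1).fiber.obj N}
    {V₁ : Y.Etale} {φ₁ φ₁' : V₁ ⟶ V} {v₁ : (Scheme.pointSmallEtale η).fiber.obj V₁}
    (D : PData ξ N a n φ₁ v₁) (e : φ₁ = φ₁') : PData ξ N a n φ₁' v₁ := e ▸ D

theorem PData.congr_W {ξ : Pts f η} {V : Y.Etale} {N : X.Etale}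
    {a : N ⟶ (EtCoh.bc f).obj V} {n : (Scheme.pointSmallEtale ξ.1).fiber.obj N}
    {V₁ : Y.Etale} {φ₁ φ₁' : V₁ ⟶ V} {v₁ : (Scheme.pointSmallEtale η).fiber.obj V₁}
    (D : PData ξ N a n φ₁ v₁) (e : φ₁ = φ₁') : (D.congr e).W = D.W := by
  subst e
  rfl

section Up

variable (V : Y.Etale)

set_option backward.isDefEq.respectTransparency.types false in
/-- an étale `V.left`-scheme as an étale `Y`-scheme -/
noncomputable def up (V₁ : V.left.Etale) : Y.Etale := Scheme.Etale.mk (V₁.hom ≫ V.hom)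

set_option backward.isDefEq.respectTransparency.types false in
noncomputable def upHom (V₁ : V.left.Etale) : up V V₁ ⟶ V :=
  MorphismProperty.Over.homMk V₁.hom rfl

set_option backward.isDefEq.respectTransparency.types false in
noncomputable def upMap {V₂ V₁ : V.left.Etale} (ψ : V₂ ⟶ V₁) : up V V₂ ⟶ up V V₁ :=
  MorphismProperty.Over.homMk ψ.left (by
    change ψ.left ≫ V₁.hom ≫ V.hom = V₂.hom ≫ V.hom
    rw [← Category.assoc, MorphismProperty.Over.w ψ])

set_option backward.isDefEq.respectTransparency.types false in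
theorem upMap_upHom {V₂ V₁ : V.left.Etale} (ψ : V₂ ⟶ V₁) :
    upMap V ψ ≫ upHom V V₁ = upHom V V₂ := by
  apply MorphismProperty.Over.Hom.ext
  exact MorphismProperty.Over.w ψ

variable {V}

set_option backward.isDefEq.respectTransparency.types false in
noncomputable def upPt (v : (Scheme.pointSmallEtale η).fiber.obj V) (V₁ : V.left.Etale)
    (v₁ : (Scheme.pointSmallEtale
      (v.left : Spec (CommRingCat.of Ω) ⟶ V.left)).fiber.obj V₁) :
    (Scheme.pointSmallEtale η).fiber.obj (up V V₁) :=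
  Over.homMk (v₁.left : Spec (CommRingCat.of Ω) ⟶ V₁.left) (by
    have key : ∀ (a : Spec (CommRingCat.of Ω) ⟶ V₁.left) (b : V₁.left ⟶ V.left)
        (c : V.left ⟶ Y) (d : Spec (CommRingCat.of Ω) ⟶ V.left), a ≫ b = d → d ≫ c = η →
        a ≫ b ≫ c = η := by
      intro a b c d h1 h2
      rw [← Category.assoc, h1, h2]
    exact key _ _ _ _ (Over.w v₁) (Over.w v))

set_option backward.isDefEq.respectTransparency.types false in
theorem upPt_upHom (v : (Scheme.pointSmallEtale η).fiber.obj V) (V₁ : V.left.Etale)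
    (v₁ : (Scheme.pointSmallEtale
      (v.left : Spec (CommRingCat.of Ω) ⟶ V.left)).fiber.obj V₁) :
    (Scheme.pointSmallEtale η).fiber.map (upHom V V₁) (upPt v V₁ v₁) = v := by
  apply Over.OverMorphism.ext
  exact Over.w v₁

set_option backward.isDefEq.respectTransparency.types false in
theorem upPt_upMap (v : (Scheme.pointSmallEtale η).fiber.obj V) {V₂ V₁ : V.left.Etale}
    (ψ : V₂ ⟶ V₁)
    (v₂ : (Scheme.pointSmallEtale
      (v.left : Spec (CommRingCat.of Ω) ⟶ V.left)).fiber.obj V₂) :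
    (Scheme.pointSmallEtale η).fiber.map (upMap V ψ) (upPt v V₂ v₂) =
      upPt v V₁ ((Scheme.pointSmallEtale
        (v.left : Spec (CommRingCat.of Ω) ⟶ V.left)).fiber.map ψ v₂) := by
  apply Over.OverMorphism.ext
  rfl

end Up

set_option backward.isDefEq.respectTransparency.types false in
/-- existence of pointed data for a single geometric point. -/
theorem exists_pdata [IsAlgClosed Ω] [IsFinite f] (ξ : Pts f η) (V : Y.Etale)
    (v : (Scheme.pointSmallEtale η).fiber.obj V) (N : X.Etale) (a : N ⟶ (EtCoh.bc f).obj V)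
    (n : (Scheme.pointSmallEtale ξ.1).fiber.obj N)
    (hn : (Scheme.pointSmallEtale ξ.1).fiber.map a n = pt ξ V v) :
    ∃ (V₁ : V.left.Etale) (v₁ : (Scheme.pointSmallEtale
      (v.left : Spec (CommRingCat.of Ω) ⟶ V.left)).fiber.obj V₁),
      Nonempty (PData ξ N a n (upHom V V₁) (upPt v V₁ v₁)) := by
  have hn' : (n.left : Spec (CommRingCat.of Ω) ⟶ N.left) ≫
      (a.left : N.left ⟶ pullback V.hom f) =
      ((pt ξ V v).left : Spec (CommRingCat.of Ω) ⟶ pullback V.hom f) :=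
    congrArg (fun m => (m.left : Spec (CommRingCat.of Ω) ⟶ pullback V.hom f)) hn
  obtain ⟨p, hp⟩ : ∃ p : N.left ⟶ pullback V.hom f, p = a.left := ⟨_, rfl⟩
  haveI : Etale p := by
    have h0 : Etale a.left := inferInstance
    rw [hp]
    exact h0
  rw [← hp] at hn'
  obtain ⟨V₁s, v₁', v₀, hv, hv₀, H⟩ :=
    Groth.Agent.Lib.Helper8FinGeomPt.exists_pointed_section' (pullback.fst V.hom f)
      (v.left : Spec (CommRingCat.of Ω) ⟶ V.left)
      ((pt ξ V v).left : Spec (CommRingCat.of Ω) ⟶ pullback V.hom f) (pt_left_fst ξ V v)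
      p (n.left : Spec (CommRingCat.of Ω) ⟶ N.left) hn'
  haveI := hv
  let V₁ : V.left.Etale := Scheme.Etale.mk v₁'
  let v₁ : (Scheme.pointSmallEtale
      (v.left : Spec (CommRingCat.of Ω) ⟶ V.left)).fiber.obj V₁ := Over.homMk v₀ hv₀
  have sq : IsPullback
      (((EtCoh.bc f).map (upHom V V₁)).left : pullback (up V V₁).hom f ⟶ pullback V.hom f)
      (pullback.fst (up V V₁).hom f) (pullback.fst V.hom f) v₁' :=
    EtCoh.isPullback_bc_map f (upHom V V₁)
  obtain ⟨W, hW, huniq, h, l, hh, hl, hln⟩ := H _ _ _ sq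
  rw [hp] at hh
  have hlift : ∀ ξ' : Pts f η,
      sq.lift ((pt ξ' V v).left : Spec (CommRingCat.of Ω) ⟶ pullback V.hom f) v₀
        ((pt_left_fst ξ' V v).trans hv₀.symm) =
      ((pt ξ' (up V V₁) (upPt v V₁ v₁)).left :
        Spec (CommRingCat.of Ω) ⟶ pullback (up V V₁).hom f) := by
    intro ξ'
    apply sq.hom_ext
    · rw [sq.lift_fst]
      exact (pt_left_map ξ' (upHom V V₁) (upPt v V₁ v₁) v (upPt_upHom v V₁ v₁)).symm
    · rw [sq.lift_snd]
      exact (pt_left_fst ξ' (up V V₁) (upPt v V₁ v₁)).symm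
  refine ⟨V₁, v₁, ⟨PData.mk W hW ?_ h hh l ?_ hln⟩⟩
  · intro ξ' hmem
    rw [← hlift ξ'] at hmem
    have e := huniq _ (pt_left_fst ξ' V v) hmem
    apply Subtype.ext
    rw [← pt_left_snd ξ' V v, e, pt_left_snd ξ V v]
  · exact hl.trans (hlift ξ)

theorem mem_of_lift {P : Scheme.{u}} (W : P.Opens)
    (l : Spec (CommRingCat.of Ω) ⟶ (W : Scheme.{u})) (p : Spec (CommRingCat.of Ω) ⟶ P)
    (h : l ≫ W.ι = p) : p (default : Spec (CommRingCat.of Ω)) ∈ W := by
  rw [← h, Scheme.Hom.comp_apply]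
  have : W.ι (l (default : Spec (CommRingCat.of Ω))) ∈ Set.range W.ι := ⟨_, rfl⟩
  rwa [Scheme.Opens.range_ι] at this

set_option backward.isDefEq.respectTransparency.types false in
theorem mem_W_pt {ξ : Pts f η} {V : Y.Etale} {N : X.Etale}
    {a : N ⟶ (EtCoh.bc f).obj V} {n : (Scheme.pointSmallEtale ξ.1).fiber.obj N}
    {V₁ : Y.Etale} {φ₁ : V₁ ⟶ V} {v₁ : (Scheme.pointSmallEtale η).fiber.obj V₁}
    (D : PData ξ N a n φ₁ v₁) :
    ((pt ξ V₁ v₁).left : Spec (CommRingCat.of Ω) ⟶ pullback V₁.hom f)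
      (default : Spec (CommRingCat.of Ω)) ∈ D.W :=
  mem_of_lift D.W D.l _ D.hl

theorem apply_comm {A B C D : Scheme.{u}} (a : A ⟶ B) (b : B ⟶ D) (c : A ⟶ C) (d : C ⟶ D)
    (h : a ≫ b = c ≫ d) (z : A) : b (a z) = d (c z) := by
  rw [← Scheme.Hom.comp_apply, h, Scheme.Hom.comp_apply]

theorem lift_snd_comp {A : Scheme.{u}} (g : A ⟶ Y) (l : Spec (CommRingCat.of Ω) ⟶ pullback g f)
    (vl : Spec (CommRingCat.of Ω) ⟶ A) (h1 : l ≫ pullback.fst g f = vl) (h2 : vl ≫ g = η) :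
    (l ≫ pullback.snd g f) ≫ f = η := by
  rw [Category.assoc, ← pullback.condition, ← Category.assoc, h1, h2]

set_option backward.isDefEq.respectTransparency.types false in
/-- every point of `X ×_Y V` over the centre of `v` is the centre of a canonical point. -/
theorem exists_pt_eq [IsAlgClosed Ω] [IsFinite f] (V : Y.Etale)
    (v : (Scheme.pointSmallEtale η).fiber.obj V) (z : ↥(pullback V.hom f))
    (hz : pullback.fst V.hom f z =
      (v.left : Spec (CommRingCat.of Ω) ⟶ V.left) (default : Spec (CommRingCat.of Ω))) :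
    ∃ ξ : Pts f η, ((pt ξ V v).left : Spec (CommRingCat.of Ω) ⟶ pullback V.hom f)
      (default : Spec (CommRingCat.of Ω)) = z := by
  obtain ⟨l, hl1, hl2⟩ := Groth.Agent.Lib.Helper8FinGeomPt.exists_lift_of_finite
    (pullback.fst V.hom f) (v.left : Spec (CommRingCat.of Ω) ⟶ V.left) z hz
    (Groth.Agent.Lib.Helper20.ResFld.finite_residueFieldMap_of_quasiFiniteAt _ z
      ((pullback.fst V.hom f).quasiFiniteAt z))
  have hη : (l ≫ pullback.snd V.hom f) ≫ f = η := lift_snd_comp V.hom l _ hl1 (Over.w v)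
  refine ⟨⟨l ≫ pullback.snd V.hom f, hη⟩, ?_⟩
  have e : ((pt ⟨l ≫ pullback.snd V.hom f, hη⟩ V v).left :
      Spec (CommRingCat.of Ω) ⟶ pullback V.hom f) = l := by
    apply pullback.hom_ext
    · rw [hl1]; exact pt_left_fst _ V v
    · exact pt_left_snd _ V v
  exact (congrArg (fun m : Spec (CommRingCat.of Ω) ⟶ pullback V.hom f =>
    m (default : Spec (CommRingCat.of Ω))) e).trans hl2

set_option backward.isDefEq.respectTransparency.types false in
/-- **Pointed clopen decomposition** of `X ×_Y V'` over an étale neighbourhood `V'` of `η`,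
refining given étale neighbourhoods of the geometric points over `η`. -/
theorem exists_decomp [IsAlgClosed Ω] [IsFinite f] (V : Y.Etale)
    (v : (Scheme.pointSmallEtale η).fiber.obj V) (N : Pts f η → X.Etale)
    (a : ∀ ξ, N ξ ⟶ (EtCoh.bc f).obj V)
    (n : ∀ ξ : Pts f η, (Scheme.pointSmallEtale ξ.1).fiber.obj (N ξ))
    (hn : ∀ ξ : Pts f η, (Scheme.pointSmallEtale ξ.1).fiber.map (a ξ) (n ξ) = pt ξ V v) :
    ∃ (V' : Y.Etale) (φ : V' ⟶ V) (v' : (Scheme.pointSmallEtale η).fiber.obj V'),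
      (Scheme.pointSmallEtale η).fiber.map φ v' = v ∧
      ∃ D : ∀ ξ : Pts f η, PData ξ (N ξ) (a ξ) (n ξ) φ v',
        (∀ (ξ ξ' : Pts f η) (z : ↥(pullback V'.hom f)), z ∈ (D ξ).W → z ∈ (D ξ').W → ξ = ξ') ∧
        ∀ z : ↥(pullback V'.hom f), ∃ ξ, z ∈ (D ξ).W := by
  classical
  haveI : Finite (Pts f η) := Groth.Agent.Lib.Helper8FinGeomPt.finite_geomPts f η
  haveI : Fintype (Pts f η) := Fintype.ofFinite _
  choose V₁ v₁ hD using fun ξ => exists_pdata ξ V v (N ξ) (a ξ) (n ξ) (hn ξ)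
  obtain ⟨S, hS⟩ := IsCofiltered.inf_objs_exists
    (C := (Scheme.pointSmallEtale
      (v.left : Spec (CommRingCat.of Ω) ⟶ V.left)).fiber.Elements)
    (Finset.univ.image (fun ξ : Pts f η =>
      ((Scheme.pointSmallEtale
        (v.left : Spec (CommRingCat.of Ω) ⟶ V.left)).fiber.elementsMk (V₁ ξ) (v₁ ξ))))
  have hψ : ∀ ξ : Pts f η, ∃ ψ : S.1 ⟶ V₁ ξ, (Scheme.pointSmallEtale
      (v.left : Spec (CommRingCat.of Ω) ⟶ V.left)).fiber.map ψ S.2 = v₁ ξ := by
    intro ξ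
    obtain ⟨m⟩ := hS (Finset.mem_image_of_mem _ (Finset.mem_univ ξ))
    exact ⟨m.1, m.2⟩
  choose ψ hψ' using hψ
  let V₂ : Y.Etale := up V S.1
  let φ₂ : V₂ ⟶ V := upHom V S.1
  let v₂ : (Scheme.pointSmallEtale η).fiber.obj V₂ := upPt v S.1 S.2
  have hv₂ : ∀ ξ, (Scheme.pointSmallEtale η).fiber.map (upMap V (ψ ξ)) v₂ =
      upPt v (V₁ ξ) (v₁ ξ) := by
    intro ξ
    rw [← hψ' ξ]
    exact upPt_upMap v (ψ ξ) S.2
  let D₂ : ∀ ξ : Pts f η, PData ξ (N ξ) (a ξ) (n ξ) φ₂ v₂ := fun ξ =>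
    ((hD ξ).some.pull (upMap V (ψ ξ)) v₂ (hv₂ ξ)).congr (upMap_upHom V (ψ ξ))
  -- the bad closed set
  let C : Set ↥(pullback V₂.hom f) :=
    (⋃ ξ, ((D₂ ξ).W : Set ↥(pullback V₂.hom f)))ᶜ ∪
      ⋃ (ξ : Pts f η) (ξ' : Pts f η) (_ : ξ ≠ ξ'),
        ((D₂ ξ).W : Set ↥(pullback V₂.hom f)) ∩ (D₂ ξ').W
  have hC : IsClosed C := by
    apply IsClosed.union
    · exact (isOpen_iUnion fun ξ => (D₂ ξ).W.isOpen).isClosed_compl
    · refine isClosed_iUnion_of_finite fun ξ => isClosed_iUnion_of_finite fun ξ' => ?_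
      by_cases hne : ξ ≠ ξ'
      · simp only [hne, ne_eq, not_false_eq_true, Set.iUnion_true]
        exact (D₂ ξ).closed.inter (D₂ ξ').closed
      · simp only [hne, Set.iUnion_false, isClosed_empty]
  have hZ : IsClosed ((pullback.fst V₂.hom f) '' C) := (pullback.fst V₂.hom f).isClosedMap _ hC
  let O : V₂.left.Opens := ⟨((pullback.fst V₂.hom f) '' C)ᶜ, hZ.isOpen_compl⟩
  have hvO : (v₂.left : Spec (CommRingCat.of Ω) ⟶ V₂.left)
      (default : Spec (CommRingCat.of Ω)) ∈ O := by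
    rintro ⟨z, hzC, hz⟩
    obtain ⟨ξ₀, hξ₀⟩ := exists_pt_eq V₂ v₂ z hz
    have hzW : z ∈ (D₂ ξ₀).W := by rw [← hξ₀]; exact mem_W_pt (D₂ ξ₀)
    rcases hzC with hzC | hzC
    · exact hzC (Set.mem_iUnion.mpr ⟨ξ₀, hzW⟩)
    · simp only [Set.mem_iUnion] at hzC
      obtain ⟨ξ, ξ', hne, hz1, hz2⟩ := hzC
      have e1 : ξ₀ = ξ := (D₂ ξ).uniq ξ₀ (by rw [hξ₀]; exact hz1)
      have e2 : ξ₀ = ξ' := (D₂ ξ').uniq ξ₀ (by rw [hξ₀]; exact hz2)
      exact hne (e1.symm.trans e2)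
  obtain ⟨V₃, ι₃, v₃, hv₃, hι₃⟩ :=
    Groth.Agent.Lib.Helper8EtFinPush.exists_restrict_nbhd η V₂ v₂ O hvO
  refine ⟨V₃, ι₃ ≫ φ₂, v₃, ?_, fun ξ => (D₂ ξ).pull ι₃ v₃ hv₃, ?_, ?_⟩
  · rw [Functor.map_comp]
    change (Scheme.pointSmallEtale η).fiber.map φ₂
      ((Scheme.pointSmallEtale η).fiber.map ι₃ v₃) = v
    rw [hv₃]
    exact upPt_upHom v S.1 S.2
  all_goals
    have hnotC : ∀ z : ↥(pullback V₃.hom f),
        (((EtCoh.bc f).map ι₃).left : pullback V₃.hom f ⟶ pullback V₂.hom f) z ∉ C := by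
      intro z hzC
      have h1 : pullback.fst V₂.hom f
          ((((EtCoh.bc f).map ι₃).left : pullback V₃.hom f ⟶ pullback V₂.hom f) z) =
          ι₃.left (pullback.fst V₃.hom f z) :=
        apply_comm _ _ _ _ (EtCoh.isPullback_bc_map f ι₃).w z
      have h2 := hι₃ (pullback.fst V₃.hom f z)
      rw [← h1] at h2
      exact h2 ⟨_, hzC, rfl⟩
  · intro ξ ξ' z hz hz'
    by_contra hne
    apply hnotC z
    right
    simp only [Set.mem_iUnion]
    exact ⟨ξ, ξ', hne, hz, hz'⟩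
  · intro z
    by_contra hno
    apply hnotC z
    left
    intro hmem
    obtain ⟨ξ, hξ⟩ := Set.mem_iUnion.mp hmem
    exact hno ⟨ξ, hξ⟩

section EtObj

variable {ξ : Pts f η} {V : Y.Etale} {N : X.Etale}
  {a : N ⟶ (EtCoh.bc f).obj V} {n : (Scheme.pointSmallEtale ξ.1).fiber.obj N}
  {V₁ : Y.Etale} {φ₁ : V₁ ⟶ V} {v₁ : (Scheme.pointSmallEtale η).fiber.obj V₁}
  (D : PData ξ N a n φ₁ v₁)

set_option backward.isDefEq.respectTransparency.types false in
/-- the piece `W` as an object of the small étale site of `X` -/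
noncomputable def PData.Wet : X.Etale :=
  haveI : Etale (pullback.snd V₁.hom f) := by
    have : Etale V₁.hom := inferInstance
    infer_instance
  Scheme.Etale.mk (D.W.ι ≫ pullback.snd V₁.hom f)

set_option backward.isDefEq.respectTransparency.types false in
noncomputable def PData.jet : D.Wet ⟶ (EtCoh.bc f).obj V₁ :=
  MorphismProperty.Over.homMk D.W.ι rfl

theorem hk_aux {P₁ P N' : Scheme.{u}} {W : P₁.Opens} (h : (W : Scheme.{u}) ⟶ N') (a' : N' ⟶ P)
    (b : P₁ ⟶ P) (s : P ⟶ X) (s₁ : P₁ ⟶ X) (nh : N' ⟶ X) (hh : h ≫ a' = W.ι ≫ b)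
    (ha : a' ≫ s = nh) (hb : b ≫ s = s₁) : h ≫ nh = W.ι ≫ s₁ := by
  rw [← ha, ← Category.assoc, hh, Category.assoc, hb]

set_option backward.isDefEq.respectTransparency.types false in
noncomputable def PData.ket : D.Wet ⟶ N :=
  MorphismProperty.Over.homMk D.h
    (hk_aux D.h (a.left : N.left ⟶ pullback V.hom f)
      (((EtCoh.bc f).map φ₁).left : pullback V₁.hom f ⟶ pullback V.hom f)
      (pullback.snd V.hom f) (pullback.snd V₁.hom f) N.hom D.hh
      (MorphismProperty.Over.w a) (MorphismProperty.Over.w ((EtCoh.bc f).map φ₁)))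

theorem hw_aux {P₁ : Scheme.{u}} {W : P₁.Opens} (l : Spec (CommRingCat.of Ω) ⟶ (W : Scheme.{u}))
    (p : Spec (CommRingCat.of Ω) ⟶ P₁) (s₁ : P₁ ⟶ X) (x : Spec (CommRingCat.of Ω) ⟶ X)
    (hl : l ≫ W.ι = p) (hp : p ≫ s₁ = x) : l ≫ W.ι ≫ s₁ = x := by
  rw [← Category.assoc, hl, hp]

set_option backward.isDefEq.respectTransparency.types false in
noncomputable def PData.wet : (Scheme.pointSmallEtale ξ.1).fiber.obj D.Wet :=
  Over.homMk D.l (hw_aux D.l _ (pullback.snd V₁.hom f) ξ.1 D.hl (pt_left_snd ξ V₁ v₁))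

set_option backward.isDefEq.respectTransparency.types false in
theorem PData.map_jet_wet :
    (Scheme.pointSmallEtale ξ.1).fiber.map D.jet D.wet = pt ξ V₁ v₁ := by
  apply Over.OverMorphism.ext
  exact D.hl

set_option backward.isDefEq.respectTransparency.types false in
theorem PData.map_ket_wet :
    (Scheme.pointSmallEtale ξ.1).fiber.map D.ket D.wet = n := by
  apply Over.OverMorphism.ext
  exact D.hln

set_option backward.isDefEq.respectTransparency.types false in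
theorem PData.ket_comp : D.ket ≫ a = D.jet ≫ (EtCoh.bc f).map φ₁ := by
  apply MorphismProperty.Over.Hom.ext
  exact D.hh

set_option backward.isDefEq.respectTransparency.types false in
theorem PData.jet_left : (D.jet.left : D.Wet.left ⟶ pullback V₁.hom f) = D.W.ι := rfl

end EtObj

end Groth.Agent.Lib.Helper8FinPushDecomp
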