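import Groth.Prelude
import Groth.Agent.Lib.Helper8FinPushDecomp
import Groth.Agent.Lib.Helper16EtStalk

/-!
# Stalks of the direct image along a finite morphism (helper8)

For `f : X ⟶ Y` finite, `Ω` algebraically closed and `η : Spec Ω ⟶ Y`, the stalk at `η` of
`f_* P` is the product of the stalks of `P` at the geometric points of `X` over `η`.  The
statement is proved for presheaves `P` with values in a concrete category `A` whose underlying
presheaf of types is a sheaf, so that it applies to abelian sheaves and to sheaves of sets.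
-/

set_option autoImplicit false
universe u

open CategoryTheory CategoryTheory.Limits AlgebraicGeometry Opposite

namespace Groth.Agent.Lib.Helper8FinPushStalk

open Groth.Agent.Lib.Helper8FinPushDecomp

variable {X Y : Scheme.{u}} {f : X ⟶ Y} {Ω : Type u} [Field Ω] [IsSepClosed Ω]
  {η : Spec (CommRingCat.of Ω) ⟶ Y}

section Generic

variable {A : Type (u + 2)} [Category.{u + 1} A] [HasColimitsOfSize.{u, u} A]

set_option backward.isDefEq.respectTransparency.types false in
/-- the comparison map `(f_* P)_η ⟶ P_ξ` for a geometric point `ξ` over `η`. -/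
noncomputable def cmp (ξ : Pts f η) (P : X.Etaleᵒᵖ ⥤ A) :
    (Scheme.pointSmallEtale η).presheafFiber.obj ((EtCoh.bc f).op ⋙ P) ⟶
      (Scheme.pointSmallEtale ξ.1).presheafFiber.obj P :=
  (Scheme.pointSmallEtale η).presheafFiberDesc
    (fun V v => (Scheme.pointSmallEtale ξ.1).toPresheafFiber ((EtCoh.bc f).obj V) (pt ξ V v) P)
    (by
      intro V' V φ v'
      have h := (Scheme.pointSmallEtale ξ.1).toPresheafFiber_w ((EtCoh.bc f).map φ)
        (pt ξ V' v') P
      rw [pt_map] at h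
      exact h)

set_option backward.isDefEq.respectTransparency.types false in
theorem toPresheafFiber_cmp (ξ : Pts f η) (P : X.Etaleᵒᵖ ⥤ A) (V : Y.Etale)
    (v : (Scheme.pointSmallEtale η).fiber.obj V) :
    (Scheme.pointSmallEtale η).toPresheafFiber V v ((EtCoh.bc f).op ⋙ P) ≫ cmp ξ P =
      (Scheme.pointSmallEtale ξ.1).toPresheafFiber ((EtCoh.bc f).obj V) (pt ξ V v) P :=
  (Scheme.pointSmallEtale η).toPresheafFiber_presheafFiberDesc _ _ V v

set_option backward.isDefEq.respectTransparency.types false in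
theorem cmp_naturality (ξ : Pts f η) {P Q : X.Etaleᵒᵖ ⥤ A} (g : P ⟶ Q) :
    (Scheme.pointSmallEtale η).presheafFiber.map (Functor.whiskerLeft (EtCoh.bc f).op g) ≫
      cmp ξ Q = cmp ξ P ≫ (Scheme.pointSmallEtale ξ.1).presheafFiber.map g := by
  apply (Scheme.pointSmallEtale η).presheafFiber_hom_ext
  intro V v
  rw [GrothendieckTopology.Point.toPresheafFiber_naturality_assoc, toPresheafFiber_cmp,
    reassoc_of% (toPresheafFiber_cmp ξ P V v),
    GrothendieckTopology.Point.toPresheafFiber_naturality]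
  rfl

end Generic

section Concrete

variable {A : Type (u + 2)} [Category.{u + 1} A] [HasColimitsOfSize.{u, u} A]
  {FC : A → A → Type*} {CC : A → Type (u + 1)} [∀ X Y : A, FunLike (FC X Y) (CC X) (CC Y)]
  [ConcreteCategory.{u + 1} A FC] [PreservesFilteredColimitsOfSize.{u, u} (forget A)]

set_option backward.isDefEq.respectTransparency.types false in
/-- gluing along a pointed clopen decomposition -/
theorem glue_unique (P : X.Etaleᵒᵖ ⥤ A)
    (hP : Presieve.IsSheaf X.smallEtaleTopology (P ⋙ forget A))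
    {V V' : Y.Etale} {φ : V' ⟶ V} {v' : (Scheme.pointSmallEtale η).fiber.obj V'}
    {N : Pts f η → X.Etale} {a : ∀ ξ, N ξ ⟶ (EtCoh.bc f).obj V}
    {n : ∀ ξ : Pts f η, (Scheme.pointSmallEtale ξ.1).fiber.obj (N ξ)}
    (D : ∀ ξ : Pts f η, PData ξ (N ξ) (a ξ) (n ξ) φ v')
    (hdisj : ∀ (ξ ξ' : Pts f η) (z : ↥(pullback V'.hom f)),
      z ∈ (D ξ).W → z ∈ (D ξ').W → ξ = ξ')
    (hcov : ∀ z : ↥(pullback V'.hom f), ∃ ξ, z ∈ (D ξ).W)
    (t : ∀ ξ, ToType (P.obj (op (D ξ).Wet))) :
    ∃! σ : ToType (P.obj (op ((EtCoh.bc f).obj V'))), ∀ ξ, P.map (D ξ).jet.op σ = t ξ := by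
  have hmem : ∀ (ξ : Pts f η) (x : ↥((D ξ).W : Scheme.{u})), (D ξ).W.ι x ∈ (D ξ).W := by
    intro ξ x
    have : (D ξ).W.ι x ∈ Set.range (D ξ).W.ι := ⟨x, rfl⟩
    rwa [Scheme.Opens.range_ι] at this
  exact Groth.Agent.Lib.Helper16.EtGlue.exists_unique_glue (P ⋙ forget A) hP
    (fun ξ => (D ξ).Wet) (fun ξ => (D ξ).jet)
    (fun ξ => by
      have : Mono (D ξ).W.ι := inferInstance
      exact this)
    (fun ξ ξ' hne x y hxy => hne (hdisj ξ ξ' ((D ξ).W.ι x) (hmem ξ x) (by
      have h2 : (D ξ).W.ι x = (D ξ').W.ι y := hxy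
      rw [h2]
      exact hmem ξ' y)))
    (fun z => by
      obtain ⟨ξ, hξ⟩ := hcov z
      have : z ∈ Set.range (D ξ).W.ι := by rwa [Scheme.Opens.range_ι]
      obtain ⟨x, hx⟩ := this
      exact ⟨ξ, x, hx⟩) t

set_option backward.isDefEq.respectTransparency.types false in
/-- germs along a piece -/
theorem germ_piece (P : X.Etaleᵒᵖ ⥤ A)
    {V V' : Y.Etale} {φ : V' ⟶ V} {v' : (Scheme.pointSmallEtale η).fiber.obj V'}
    {ξ : Pts f η} {N : X.Etale} {a : N ⟶ (EtCoh.bc f).obj V}
    {n : (Scheme.pointSmallEtale ξ.1).fiber.obj N} (D : PData ξ N a n φ v')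
    (σ : ToType (P.obj (op ((EtCoh.bc f).obj V')))) (s : ToType (P.obj (op N)))
    (h : P.map D.jet.op σ = P.map D.ket.op s) :
    (Scheme.pointSmallEtale ξ.1).toPresheafFiber ((EtCoh.bc f).obj V') (pt ξ V' v') P σ =
      (Scheme.pointSmallEtale ξ.1).toPresheafFiber N n P s := by
  have h1 := (Scheme.pointSmallEtale ξ.1).toPresheafFiber_w_apply D.jet D.wet P σ
  have h2 := (Scheme.pointSmallEtale ξ.1).toPresheafFiber_w_apply D.ket D.wet P s
  rw [D.map_jet_wet] at h1
  rw [D.map_ket_wet] at h2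
  rw [← h1, ← h2, h]

set_option backward.isDefEq.respectTransparency.types false in
/-- gluing germs at the geometric points over `η` to a section over an étale neighbourhood
of `η`. -/
theorem exists_glued [IsAlgClosed Ω] [IsFinite f] (P : X.Etaleᵒᵖ ⥤ A)
    (hP : Presieve.IsSheaf X.smallEtaleTopology (P ⋙ forget A))
    (V : Y.Etale) (v : (Scheme.pointSmallEtale η).fiber.obj V) (N : Pts f η → X.Etale)
    (a : ∀ ξ, N ξ ⟶ (EtCoh.bc f).obj V)
    (n : ∀ ξ : Pts f η, (Scheme.pointSmallEtale ξ.1).fiber.obj (N ξ))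
    (hn : ∀ ξ : Pts f η, (Scheme.pointSmallEtale ξ.1).fiber.map (a ξ) (n ξ) = pt ξ V v)
    (s : ∀ ξ, ToType (P.obj (op (N ξ)))) :
    ∃ (V' : Y.Etale) (φ : V' ⟶ V) (v' : (Scheme.pointSmallEtale η).fiber.obj V'),
      (Scheme.pointSmallEtale η).fiber.map φ v' = v ∧
      ∃ σ : ToType (P.obj (op ((EtCoh.bc f).obj V'))), ∀ ξ : Pts f η,
        (Scheme.pointSmallEtale ξ.1).toPresheafFiber ((EtCoh.bc f).obj V') (pt ξ V' v') P σ =
          (Scheme.pointSmallEtale ξ.1).toPresheafFiber (N ξ) (n ξ) P (s ξ) := by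
  obtain ⟨V', φ, v', hv', D, hdisj, hcov⟩ := exists_decomp V v N a n hn
  obtain ⟨σ, hσ, -⟩ := glue_unique P hP D hdisj hcov (fun ξ => P.map (D ξ).ket.op (s ξ))
  exact ⟨V', φ, v', hv', σ, fun ξ => germ_piece P (D ξ) σ (s ξ) (hσ ξ)⟩

set_option backward.isDefEq.respectTransparency.types false in
/-- two sections of `f_* P` over `V` whose germs agree at all geometric points over `η` agree
on an étale neighbourhood of `η`. -/
theorem exists_eq_of_germs_eq [IsAlgClosed Ω] [IsFinite f] (P : X.Etaleᵒᵖ ⥤ A)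
    (hP : Presieve.IsSheaf X.smallEtaleTopology (P ⋙ forget A))
    (V : Y.Etale) (v : (Scheme.pointSmallEtale η).fiber.obj V)
    (s₁ s₂ : ToType (P.obj (op ((EtCoh.bc f).obj V))))
    (h : ∀ ξ : Pts f η,
      (Scheme.pointSmallEtale ξ.1).toPresheafFiber ((EtCoh.bc f).obj V) (pt ξ V v) P s₁ =
        (Scheme.pointSmallEtale ξ.1).toPresheafFiber ((EtCoh.bc f).obj V) (pt ξ V v) P s₂) :
    ∃ (V' : Y.Etale) (φ : V' ⟶ V) (v' : (Scheme.pointSmallEtale η).fiber.obj V'),
      (Scheme.pointSmallEtale η).fiber.map φ v' = v ∧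
      P.map ((EtCoh.bc f).map φ).op s₁ = P.map ((EtCoh.bc f).map φ).op s₂ := by
  have h' := fun ξ : Pts f η =>
    ((Scheme.pointSmallEtale ξ.1).toPresheafFiber_eq_iff' ((EtCoh.bc f).obj V) (pt ξ V v)
      s₁ s₂).mp (h ξ)
  choose N a n hn hs using h'
  obtain ⟨V', φ, v', hv', D, hdisj, hcov⟩ := exists_decomp V v N a n hn
  refine ⟨V', φ, v', hv', ?_⟩
  obtain ⟨σ, -, huniq⟩ := glue_unique P hP D hdisj hcov
    (fun ξ => P.map (D ξ).jet.op (P.map ((EtCoh.bc f).map φ).op s₁))
  have e1 := huniq (P.map ((EtCoh.bc f).map φ).op s₁) (fun ξ => rfl)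
  have e2 := huniq (P.map ((EtCoh.bc f).map φ).op s₂) (fun ξ => by
    have k : ∀ s : ToType (P.obj (op ((EtCoh.bc f).obj V))),
        P.map (D ξ).jet.op (P.map ((EtCoh.bc f).map φ).op s) =
          P.map (D ξ).ket.op (P.map (a ξ).op s) := by
      intro s
      rw [← ConcreteCategory.comp_apply, ← ConcreteCategory.comp_apply, ← Functor.map_comp,
        ← Functor.map_comp, ← op_comp, ← op_comp, (D ξ).ket_comp]
    rw [k, k, hs ξ])
  rw [e1, e2]

set_option backward.isDefEq.respectTransparency.types false in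
theorem cmp_apply (ξ : Pts f η) (P : X.Etaleᵒᵖ ⥤ A) (V : Y.Etale)
    (v : (Scheme.pointSmallEtale η).fiber.obj V)
    (s : ToType (P.obj (op ((EtCoh.bc f).obj V)))) :
    cmp ξ P ((Scheme.pointSmallEtale η).toPresheafFiber V v ((EtCoh.bc f).op ⋙ P) s) =
      (Scheme.pointSmallEtale ξ.1).toPresheafFiber ((EtCoh.bc f).obj V) (pt ξ V v) P s := by
  rw [← ConcreteCategory.comp_apply, toPresheafFiber_cmp]

set_option backward.isDefEq.respectTransparency.types false in
/-- the comparison maps are jointly injective -/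
theorem cmp_jointly_injective [IsAlgClosed Ω] [IsFinite f] (P : X.Etaleᵒᵖ ⥤ A)
    (hP : Presieve.IsSheaf X.smallEtaleTopology (P ⋙ forget A))
    (x y : ToType ((Scheme.pointSmallEtale η).presheafFiber.obj ((EtCoh.bc f).op ⋙ P)))
    (h : ∀ ξ : Pts f η, cmp ξ P x = cmp ξ P y) : x = y := by
  obtain ⟨V, v, s₁, s₂, rfl, rfl⟩ :=
    (Scheme.pointSmallEtale η).toPresheafFiber_jointly_surjective₂ x y
  obtain ⟨V', φ, v', hv', heq⟩ := exists_eq_of_germs_eq P hP V v s₁ s₂ (fun ξ => by
    have := h ξ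
    rwa [cmp_apply, cmp_apply] at this)
  have h1 := (Scheme.pointSmallEtale η).toPresheafFiber_w_apply φ v' ((EtCoh.bc f).op ⋙ P) s₁
  have h2 := (Scheme.pointSmallEtale η).toPresheafFiber_w_apply φ v' ((EtCoh.bc f).op ⋙ P) s₂
  rw [hv'] at h1 h2
  rw [← h1, ← h2]
  exact congrArg _ heq

set_option backward.isDefEq.respectTransparency.types false in
/-- the comparison maps are jointly surjective -/
theorem cmp_jointly_surjective [IsAlgClosed Ω] [IsFinite f] (P : X.Etaleᵒᵖ ⥤ A)
    (hP : Presieve.IsSheaf X.smallEtaleTopology (P ⋙ forget A))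
    (t : ∀ ξ : Pts f η, ToType ((Scheme.pointSmallEtale ξ.1).presheafFiber.obj P)) :
    ∃ x : ToType ((Scheme.pointSmallEtale η).presheafFiber.obj ((EtCoh.bc f).op ⋙ P)),
      ∀ ξ : Pts f η, cmp ξ P x = t ξ := by
  have h' := fun ξ : Pts f η =>
    (Scheme.pointSmallEtale ξ.1).toPresheafFiber_jointly_surjective (P := P) (t ξ)
  choose N n s hs using h'
  have hT : IsTerminal ((EtCoh.bc f).obj (EtCoh.top Y)) :=
    IsTerminal.isTerminalObj (EtCoh.bc f) _ (EtCore.topIsTerminal Y)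
  let v : (Scheme.pointSmallEtale η).fiber.obj (EtCoh.top Y) :=
    ((Scheme.pointSmallEtale η).uniqueFiberObj _ (EtCore.topIsTerminal Y)).default
  obtain ⟨V', φ, v', -, σ, hσ⟩ := exists_glued P hP (EtCoh.top Y) v N
    (fun ξ => hT.from (N ξ)) n (fun ξ => by
      haveI := (Scheme.pointSmallEtale ξ.1).uniqueFiberObj _ hT
      exact Subsingleton.elim _ _) s
  refine ⟨(Scheme.pointSmallEtale η).toPresheafFiber V' v' ((EtCoh.bc f).op ⋙ P) σ, fun ξ => ?_⟩
  rw [cmp_apply, hσ ξ, hs ξ]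

set_option backward.isDefEq.respectTransparency.types false in
/-- the stalk of `f_* P` at `η` is the product of the stalks of `P` at the points over `η`. -/
theorem isIso_lift_cmp [IsAlgClosed Ω] [IsFinite f]
    [HasLimitsOfShape (Discrete (Pts f η)) A]
    [PreservesLimitsOfShape (Discrete (Pts f η)) (forget A)] [(forget A).ReflectsIsomorphisms]
    (P : X.Etaleᵒᵖ ⥤ A) (hP : Presieve.IsSheaf X.smallEtaleTopology (P ⋙ forget A)) :
    IsIso (Pi.lift (fun ξ : Pts f η => cmp ξ P)) := by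
  rw [ConcreteCategory.isIso_iff_bijective]
  constructor
  · intro x y hxy
    apply cmp_jointly_injective P hP x y
    intro ξ
    have h1 := congrArg (Pi.π (fun ξ : Pts f η =>
      (Scheme.pointSmallEtale ξ.1).presheafFiber.obj P) ξ) hxy
    rw [← ConcreteCategory.comp_apply, ← ConcreteCategory.comp_apply, Pi.lift_π] at h1
    exact h1
  · intro z
    obtain ⟨x, hx⟩ := cmp_jointly_surjective P hP
      (fun ξ => Pi.π (fun ξ : Pts f η =>
        (Scheme.pointSmallEtale ξ.1).presheafFiber.obj P) ξ z)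
    refine ⟨x, ?_⟩
    apply Concrete.limit_ext
    rintro ⟨ξ⟩
    have h1 := hx ξ
    rw [← h1, ← ConcreteCategory.comp_apply]
    exact congrArg (fun m => m x) (Pi.lift_π (fun ξ : Pts f η => cmp ξ P) ξ)

end Concrete

end Groth.Agent.Lib.Helper8FinPushStalk
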