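import Groth.Prelude
import Groth.Agent.Lib.Helper8FinPushStalk
import Groth.Agent.Lib.Helper16StalkPull
import Groth.Agent.S14622
import Groth.Agent.Lib.Helper8EtStalkAlg

/-!
# Base change for finite morphisms, degree zero (helper8)
-/

set_option autoImplicit false
universe u

open CategoryTheory CategoryTheory.Limits AlgebraicGeometry Opposite

namespace Groth.Agent.Lib.Helper8FinBC

open Groth.Agent.Lib.Helper8FinPushDecomp Groth.Agent.Lib.Helper8FinPushStalk
open Groth.Agent.S0100 Groth.Agent.S0101 Groth.Agent.Lib.Helper16.StalkPull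

section Formulas

variable {X Y Z : Scheme.{u}}

lemma pushComp_hom_app_hom_app (f : X ⟶ Y) (g : Z ⟶ X) (H : EtCoh.Ab Z) (V : Y.Etale) :
    ((EtCoh.pushComp f g).hom.app H).hom.app (op V) =
      H.obj.map ((MorphismProperty.Over.pullbackComp (P := EtCoh.etaleMP.{u}) (Q := ⊤) g f).hom.app
        V).op := by
  simp [EtCoh.pushComp]
  rfl

lemma pushComp_inv_app_hom_app (f : X ⟶ Y) (g : Z ⟶ X) (H : EtCoh.Ab Z) (V : Y.Etale) :
    ((EtCoh.pushComp f g).inv.app H).hom.app (op V) =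
      H.obj.map ((MorphismProperty.Over.pullbackComp (P := EtCoh.etaleMP.{u}) (Q := ⊤) g f).inv.app
        V).op := by
  simp [EtCoh.pushComp]
  rfl

lemma pushCongr_hom_app_hom_app {f f' : X ⟶ Y} (h : f = f') (H : EtCoh.Ab X) (V : Y.Etale) :
    ((EtCoh.pushCongr h).hom.app H).hom.app (op V) =
      H.obj.map ((MorphismProperty.Over.pullbackCongr (P := EtCoh.etaleMP.{u}) (Q := ⊤) h).inv.app
        V).op := by
  simp [EtCoh.pushCongr]
  rfl

end Formulas

section FiberIso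

variable {X Y : Scheme.{u}} (f : X ⟶ Y) {Ω : Type u} [Field Ω] [IsSepClosed Ω]
  (ξ : Spec (CommRingCat.of Ω) ⟶ X)

set_option backward.isDefEq.respectTransparency.types false in
lemma fiberIso_inv_eq_pt (V : Y.Etale) (u : (Scheme.pointSmallEtale (ξ ≫ f)).fiber.obj V) :
    (fiberIso f ξ).inv.app V u = pt (f := f) (η := ξ ≫ f) ⟨ξ, rfl⟩ V u := by
  have h1 : (fiberIso f ξ).hom.app V (pt (f := f) (η := ξ ≫ f) ⟨ξ, rfl⟩ V u) = u := by
    apply Over.OverMorphism.ext
    exact (Groth.Agent.S14622.fiberIso_hom_left f ξ V _).trans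
      (pt_left_fst (f := f) (η := ξ ≫ f) ⟨ξ, rfl⟩ V u)
  exact (congrArg (fun z => (fiberIso f ξ).inv.app V z) h1.symm).trans
    (Groth.Agent.S0634.iso_inv_hom_apply (fiberIso f ξ) V _)

end FiberIso


section Square

variable {X Y X' Y' : Scheme.{u}} {f : X ⟶ Y} {g : Y' ⟶ Y} {f' : X' ⟶ Y'} {g' : X' ⟶ X}

/-- the canonical comparison `X' ×_{Y'} (Y' ×_Y V) ⟶ X' ×_X (X ×_Y V)` -/
noncomputable def theta (w : g' ≫ f = f' ≫ g) (V : Y.Etale) :
    (EtCoh.bc f').obj ((EtCoh.bc g).obj V) ⟶ (EtCoh.bc g').obj ((EtCoh.bc f).obj V) :=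
  (MorphismProperty.Over.pullbackComp (P := EtCoh.etaleMP.{u}) (Q := ⊤) f' g).inv.app V ≫
    (MorphismProperty.Over.pullbackCongr (P := EtCoh.etaleMP.{u}) (Q := ⊤) w).inv.app V ≫
    (MorphismProperty.Over.pullbackComp (P := EtCoh.etaleMP.{u}) (Q := ⊤) g' f).hom.app V

/-- the morphism adjoint to the base change map -/
noncomputable def phi (w : g' ≫ f = f' ≫ g) (F : EtCoh.Ab X) :
    (EtCoh.push f).obj F ⟶ (EtCoh.push g).obj ((EtCoh.push f').obj ((EtCoh.pull g').obj F)) :=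
  (EtCoh.push f).map ((EtCoh.pullPushAdj g').unit.app F) ≫ (EtCoh.pushComp f g').hom.app _ ≫
      (EtCoh.pushCongr w).hom.app _ ≫ (EtCoh.pushComp g f').inv.app _

lemma map_op_comp3 {C : Type*} [Category C] {A : Type*} [Category A] (H : Cᵒᵖ ⥤ A)
    {a b c d : C} (x : a ⟶ b) (y : b ⟶ c) (z : c ⟶ d) :
    H.map z.op ≫ H.map y.op ≫ H.map x.op = H.map (x ≫ y ≫ z).op := by
  simp only [op_comp, Functor.map_comp, Category.assoc]

set_option backward.isDefEq.respectTransparency.types false in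
lemma phi_app (w : g' ≫ f = f' ≫ g) (F : EtCoh.Ab X) (V : Y.Etale) :
    (phi w F).hom.app (op V) =
      ((EtCoh.pullPushAdj g').unit.app F).hom.app (op ((EtCoh.bc f).obj V)) ≫
        ((EtCoh.pull g').obj F).obj.map (theta w V).op := by
  have e1 := pushComp_hom_app_hom_app f g' ((EtCoh.pull g').obj F) V
  have e2 := pushCongr_hom_app_hom_app w ((EtCoh.pull g').obj F) V
  have e3 := pushComp_inv_app_hom_app g f' ((EtCoh.pull g').obj F) V
  have e : ((EtCoh.pushComp f g').hom.app ((EtCoh.pull g').obj F)).hom.app (op V) ≫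
      ((EtCoh.pushCongr w).hom.app ((EtCoh.pull g').obj F)).hom.app (op V) ≫
      ((EtCoh.pushComp g f').inv.app ((EtCoh.pull g').obj F)).hom.app (op V) =
      ((EtCoh.pull g').obj F).obj.map (theta w V).op := by
    rw [e1, e2, e3]
    exact map_op_comp3 _ _ _ _
  exact congrArg (fun m => ((EtCoh.pullPushAdj g').unit.app F).hom.app
    (op ((EtCoh.bc f).obj V)) ≫ m) e

lemma theta_key {P1 P2 P3 P4 Vl : Scheme.{u}} (ci : P1 ⟶ P2) (ch : P2 ⟶ P1) (bi : P2 ⟶ P3)
    (bh : P3 ⟶ P2) (a : P3 ⟶ P4) (q4 : P4 ⟶ Vl) (q3 : P3 ⟶ Vl) (q2 : P2 ⟶ Vl) (q1 : P1 ⟶ Vl)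
    (h1 : ci ≫ ch = 𝟙 _) (h2 : bi ≫ bh = 𝟙 _) (h3 : a ≫ q4 = q3) (h4 : bh ≫ q2 = q3)
    (h5 : ch ≫ q1 = q2) : (ci ≫ bi ≫ a) ≫ q4 = q1 := by
  rw [Category.assoc, Category.assoc, h3, ← h4, ← Category.assoc bi, h2, Category.id_comp, ← h5,
    ← Category.assoc, h1, Category.id_comp]

set_option backward.isDefEq.respectTransparency.types false in
lemma theta_left_fst_fst (w : g' ≫ f = f' ≫ g) (V : Y.Etale) :
    ((theta w V).left : pullback (pullback.snd V.hom g) f' ⟶ pullback (pullback.snd V.hom f) g') ≫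
      pullback.fst (pullback.snd V.hom f) g' ≫ pullback.fst V.hom f =
    pullback.fst (pullback.snd V.hom g) f' ≫ pullback.fst V.hom g := by
  have ha := MorphismProperty.Over.pullbackComp_left_fst_fst (P := EtCoh.etaleMP.{u}) (Q := ⊤)
    g' f V
  have hb := MorphismProperty.Over.pullbackCongr_hom_app_left_fst (P := EtCoh.etaleMP.{u})
    (Q := ⊤) w V
  have hc := MorphismProperty.Over.pullbackComp_left_fst_fst (P := EtCoh.etaleMP.{u}) (Q := ⊤)
    f' g V
  have h1 : ((MorphismProperty.Over.pullbackComp (P := EtCoh.etaleMP.{u}) (Q := ⊤) f' g).inv.app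
      V).left ≫ ((MorphismProperty.Over.pullbackComp (P := EtCoh.etaleMP.{u}) (Q := ⊤)
        f' g).hom.app V).left = 𝟙 _ := by
    rw [← MorphismProperty.Comma.comp_left, Iso.inv_hom_id_app]
    rfl
  have h2 : ((MorphismProperty.Over.pullbackCongr (P := EtCoh.etaleMP.{u}) (Q := ⊤) w).inv.app
      V).left ≫ ((MorphismProperty.Over.pullbackCongr (P := EtCoh.etaleMP.{u}) (Q := ⊤)
        w).hom.app V).left = 𝟙 _ := by
    rw [← MorphismProperty.Comma.comp_left, Iso.inv_hom_id_app]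
    rfl
  exact theta_key _ _ _ _ _ (pullback.fst (pullback.snd V.hom f) g' ≫ pullback.fst V.hom f) _ _
    (pullback.fst (pullback.snd V.hom g) f' ≫ pullback.fst V.hom g) h1 h2 ha hb hc

lemma pt_theta_key {S Vl : Scheme.{u}} (vh : Vl ⟶ Y)
    (A B : S ⟶ pullback (pullback.snd vh f) g')
    (h1 : A ≫ pullback.fst (pullback.snd vh f) g' ≫ pullback.fst vh f =
      B ≫ pullback.fst (pullback.snd vh f) g' ≫ pullback.fst vh f)
    (h2 : A ≫ pullback.snd (pullback.snd vh f) g' = B ≫ pullback.snd (pullback.snd vh f) g') :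
    A = B := by
  apply pullback.hom_ext
  · apply pullback.hom_ext
    · rw [Category.assoc, Category.assoc]
      exact h1
    · rw [Category.assoc, Category.assoc, pullback.condition, ← Category.assoc, ← Category.assoc,
        h2]
  · exact h2

lemma pt_theta_aux {S P1 P2 P3 Vl : Scheme.{u}} (p : S ⟶ P1) (th : P1 ⟶ P2) (q2 : P2 ⟶ Vl)
    (q1 : P1 ⟶ P3) (q3 : P3 ⟶ Vl) (p3 : S ⟶ P3) (vl : S ⟶ Vl)
    (h1 : th ≫ q2 = q1 ≫ q3) (h2 : p ≫ q1 = p3) (h3 : p3 ≫ q3 = vl) :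
    (p ≫ th) ≫ q2 = vl := by
  rw [Category.assoc, h1, ← Category.assoc, h2, h3]

lemma pt_theta_aux2 {S P1 P2 X'' : Scheme.{u}} (p : S ⟶ P1) (th : P1 ⟶ P2) (s2 : P2 ⟶ X'')
    (s1 : P1 ⟶ X'') (x : S ⟶ X'') (h1 : th ≫ s2 = s1) (h2 : p ≫ s1 = x) :
    (p ≫ th) ≫ s2 = x := by
  rw [Category.assoc, h1, h2]

set_option backward.isDefEq.respectTransparency.types false in
lemma pt_theta (w : g' ≫ f = f' ≫ g) {Ω : Type u} [Field Ω] [IsSepClosed Ω]
    {η' : Spec (CommRingCat.of Ω) ⟶ Y'} (ξ' : Pts f' η')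
    (hξ : (ξ'.1 ≫ g') ≫ f = η' ≫ g) (V : Y.Etale)
    (v : (Scheme.pointSmallEtale (η' ≫ g)).fiber.obj V) :
    (Scheme.pointSmallEtale ξ'.1).fiber.map (theta w V)
      (pt ξ' ((EtCoh.bc g).obj V) (pt (f := g) (η := η' ≫ g) ⟨η', rfl⟩ V v)) =
    pt (f := g') (η := ξ'.1 ≫ g') ⟨ξ'.1, rfl⟩ ((EtCoh.bc f).obj V)
      (pt (f := f) (η := η' ≫ g) ⟨ξ'.1 ≫ g', hξ⟩ V v) := by
  apply Over.OverMorphism.ext
  apply pt_theta_key (f := f) (g' := g') V.hom
  · refine Eq.trans (pt_theta_aux _ _ (pullback.fst (pullback.snd V.hom f) g' ≫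
      pullback.fst V.hom f) (pullback.fst (pullback.snd V.hom g) f') (pullback.fst V.hom g)
      _ (v.left : Spec (CommRingCat.of Ω) ⟶ V.left) (theta_left_fst_fst w V)
      (pt_left_fst ξ' ((EtCoh.bc g).obj V) _)
      (pt_left_fst (f := g) (η := η' ≫ g) ⟨η', rfl⟩ V v)) ?_
    symm
    rw [← Category.assoc]
    refine Eq.trans (congrArg (fun m => m ≫ pullback.fst V.hom f)
      (pt_left_fst (f := g') (η := ξ'.1 ≫ g') ⟨ξ'.1, rfl⟩ ((EtCoh.bc f).obj V) _)) ?_
    exact pt_left_fst (f := f) (η := η' ≫ g) ⟨ξ'.1 ≫ g', hξ⟩ V v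
  · refine Eq.trans (pt_theta_aux2 _ _ (pullback.snd (pullback.snd V.hom f) g')
      (pullback.snd (pullback.snd V.hom g) f') ξ'.1 (MorphismProperty.Over.w (theta w V))
      (pt_left_snd ξ' ((EtCoh.bc g).obj V) _)) ?_
    exact (pt_left_snd (f := g') (η := ξ'.1 ≫ g') ⟨ξ'.1, rfl⟩ ((EtCoh.bc f).obj V) _).symm

lemma unit_baseChange0 (w : g' ≫ f = f' ≫ g) (F : EtCoh.Ab X) :
    (EtCoh.pullPushAdj g).unit.app ((EtCoh.push f).obj F) ≫
      (EtCoh.push g).map (EtCoh.baseChange0 f g f' g' w F) = phi w F := by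
  refine ((EtCoh.pullPushAdj g).homEquiv_unit
    (f := EtCoh.baseChange0 f g f' g' w F)).symm.trans ?_
  exact Equiv.apply_symm_apply _ _

set_option backward.isDefEq.respectTransparency.types false in
lemma unit_baseChange0_app (w : g' ≫ f = f' ≫ g) (F : EtCoh.Ab X) (V : Y.Etale)
    (s : F.obj.obj (op ((EtCoh.bc f).obj V))) :
    (EtCoh.baseChange0 f g f' g' w F).hom.app (op ((EtCoh.bc g).obj V))
      (((EtCoh.pullPushAdj g).unit.app ((EtCoh.push f).obj F)).hom.app (op V) s) =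
    ((EtCoh.pull g').obj F).obj.map (theta w V).op
      (((EtCoh.pullPushAdj g').unit.app F).hom.app (op ((EtCoh.bc f).obj V)) s) := by
  have h1 := congrArg (fun m => m.hom.app (op V) s) (unit_baseChange0 w F)
  have h2 := congrArg (fun m => m s) (phi_app w F V)
  exact h1.trans h2

set_option backward.isDefEq.respectTransparency.types false in
/-- compatibility of the comparison maps with the base change map, on germs -/
theorem compat_germ (w : g' ≫ f = f' ≫ g) (F : EtCoh.Ab X) {Ω : Type u} [Field Ω]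
    [IsSepClosed Ω] {η' : Spec (CommRingCat.of Ω) ⟶ Y'} (ξ' : Pts f' η')
    (hξ : (ξ'.1 ≫ g') ≫ f = η' ≫ g) (V : Y.Etale)
    (v : (Scheme.pointSmallEtale (η' ≫ g)).fiber.obj V)
    (s : F.obj.obj (op ((EtCoh.bc f).obj V))) :
    cmp ξ' ((EtCoh.pull g').obj F).obj
      ((EtCoh.stalk η').map (EtCoh.baseChange0 f g f' g' w F)
        ((stalkPullIso g η').hom.app ((EtCoh.push f).obj F)
          (germ (η' ≫ g) ((EtCoh.push f).obj F) V v s))) =
    (stalkPullIso g' ξ'.1).hom.app F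
      (cmp (f := f) (η := η' ≫ g) ⟨ξ'.1 ≫ g', hξ⟩ F.obj
        (germ (η' ≫ g) ((EtCoh.push f).obj F) V v s)) := by
  -- left hand side
  have e1 := germ_compat g η' ((EtCoh.push f).obj F) V v s
  rw [fiberIso_inv_eq_pt] at e1
  have e2 := (Scheme.pointSmallEtale η').toPresheafFiber_naturality_apply
    (EtCoh.baseChange0 f g f' g' w F).hom ((EtCoh.bc g).obj V)
    (pt (f := g) (η := η' ≫ g) ⟨η', rfl⟩ V v)
    (((EtCoh.pullPushAdj g).unit.app ((EtCoh.push f).obj F)).hom.app (op V) s)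
  rw [unit_baseChange0_app] at e2
  have e3 := cmp_apply ξ' ((EtCoh.pull g').obj F).obj ((EtCoh.bc g).obj V)
    (pt (f := g) (η := η' ≫ g) ⟨η', rfl⟩ V v)
    (((EtCoh.pull g').obj F).obj.map (theta w V).op
      (((EtCoh.pullPushAdj g').unit.app F).hom.app (op ((EtCoh.bc f).obj V)) s))
  have e4 := (Scheme.pointSmallEtale ξ'.1).toPresheafFiber_w_apply (theta w V)
    (pt ξ' ((EtCoh.bc g).obj V) (pt (f := g) (η := η' ≫ g) ⟨η', rfl⟩ V v))
    ((EtCoh.pull g').obj F).obj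
    (((EtCoh.pullPushAdj g').unit.app F).hom.app (op ((EtCoh.bc f).obj V)) s)
  rw [pt_theta w ξ' hξ V v] at e4
  -- right hand side
  have e5 := cmp_apply (f := f) (η := η' ≫ g) ⟨ξ'.1 ≫ g', hξ⟩ F.obj V v s
  have e6 := germ_compat g' ξ'.1 F ((EtCoh.bc f).obj V)
    (pt (f := f) (η := η' ≫ g) ⟨ξ'.1 ≫ g', hξ⟩ V v) s
  rw [fiberIso_inv_eq_pt] at e6
  refine Eq.trans ?_ (Eq.trans e6.symm ?_)
  · refine Eq.trans ?_ (Eq.trans e3 e4)
    refine congrArg (fun z => cmp ξ' ((EtCoh.pull g').obj F).obj z) ?_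
    refine Eq.trans ?_ e2
    exact congrArg (fun z => (EtCoh.stalk η').map (EtCoh.baseChange0 f g f' g' w F) z) e1
  · exact congrArg (fun z => (stalkPullIso g' ξ'.1).hom.app F z) e5.symm

set_option backward.isDefEq.respectTransparency.types false in
/-- compatibility of the comparison maps with the base change map -/
theorem compat (w : g' ≫ f = f' ≫ g) (F : EtCoh.Ab X) {Ω : Type u} [Field Ω]
    [IsSepClosed Ω] {η' : Spec (CommRingCat.of Ω) ⟶ Y'} (ξ' : Pts f' η')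
    (hξ : (ξ'.1 ≫ g') ≫ f = η' ≫ g)
    (x : (EtCoh.stalk (η' ≫ g)).obj ((EtCoh.push f).obj F)) :
    cmp ξ' ((EtCoh.pull g').obj F).obj
      ((EtCoh.stalk η').map (EtCoh.baseChange0 f g f' g' w F)
        ((stalkPullIso g η').hom.app ((EtCoh.push f).obj F) x)) =
    (stalkPullIso g' ξ'.1).hom.app F
      (cmp (f := f) (η := η' ≫ g) ⟨ξ'.1 ≫ g', hξ⟩ F.obj x) := by
  obtain ⟨V, v, s, rfl⟩ := (Scheme.pointSmallEtale (η' ≫ g)).toPresheafFiber_jointly_surjective
    (P := ((EtCoh.push f).obj F).obj) x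
  exact compat_germ w F ξ' hξ V v s

lemma exists_family {I J : Type*} (e : I → J) (he : Function.Bijective e) (T : J → Type*)
    (t : ∀ i, T (e i)) : ∃ t' : ∀ j, T j, ∀ i, t' (e i) = t i := by
  obtain ⟨e', rfl⟩ : ∃ e' : I ≃ J, ⇑e' = e := ⟨Equiv.ofBijective e he, rfl⟩
  refine ⟨fun j => cast (congrArg T (e'.apply_symm_apply j)) (t (e'.symm j)), fun i => ?_⟩
  have key : ∀ (k : I) (_ : k = i) (hp : T (e' k) = T (e' i)), cast hp (t k) = t i := by
    intro k hk hp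
    subst hk
    rfl
  exact key _ (e'.symm_apply_apply i) _

/-- points of the base change -/
lemma bijective_pts (h : IsPullback g' f' f g) {Ω : Type u} [Field Ω] [IsSepClosed Ω]
    (η' : Spec (CommRingCat.of Ω) ⟶ Y')
    (hξ : ∀ ξ' : Pts f' η', (ξ'.1 ≫ g') ≫ f = η' ≫ g) :
    Function.Bijective (fun ξ' : Pts f' η' => (⟨ξ'.1 ≫ g', hξ ξ'⟩ : Pts f (η' ≫ g))) := by
  constructor
  · intro ξ₁ ξ₂ h12
    apply Subtype.ext
    apply h.hom_ext
    · exact congrArg Subtype.val h12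
    · exact ξ₁.2.trans ξ₂.2.symm
  · intro ξ
    exact ⟨⟨h.lift ξ.1 η' ξ.2, h.lift_snd _ _ _⟩, Subtype.ext (h.lift_fst _ _ _)⟩

set_option backward.isDefEq.respectTransparency.types false in
/-- the base change map is bijective on stalks at algebraically closed geometric points. -/
theorem bijective_stalk_baseChange0 [IsFinite f] (h : IsPullback g' f' f g) (F : EtCoh.Ab X)
    {Ω : Type u} [Field Ω] [IsAlgClosed Ω] (η' : Spec (CommRingCat.of Ω) ⟶ Y') :
    Function.Bijective ((EtCoh.stalk η').map (EtCoh.baseChange0 f g f' g' h.w F)) := by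
  haveI : IsFinite f' := MorphismProperty.of_isPullback (P := @IsFinite) h inferInstance
  have hξ : ∀ ξ' : Pts f' η', (ξ'.1 ≫ g') ≫ f = η' ≫ g := by
    intro ξ'
    rw [Category.assoc, h.w, ← Category.assoc, ξ'.2]
  have hbij := bijective_pts h η' hξ
  have hFs : Presieve.IsSheaf X.smallEtaleTopology (F.obj ⋙ forget AddCommGrpCat) :=
    (isSheaf_iff_isSheaf_of_type _ _).mp
      ((Presheaf.isSheaf_iff_isSheaf_forget _ _ (forget AddCommGrpCat)).mp F.property)
  have hFs' : Presieve.IsSheaf X'.smallEtaleTopology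
      (((EtCoh.pull g').obj F).obj ⋙ forget AddCommGrpCat) :=
    (isSheaf_iff_isSheaf_of_type _ _).mp
      ((Presheaf.isSheaf_iff_isSheaf_forget _ _ (forget AddCommGrpCat)).mp
        ((EtCoh.pull g').obj F).property)
  have hiso1 : Function.Bijective ((stalkPullIso g η').hom.app ((EtCoh.push f).obj F)) :=
    (ConcreteCategory.isIso_iff_bijective _).mp inferInstance
  have hiso2 : ∀ ξ' : Pts f' η', Function.Bijective ((stalkPullIso g' ξ'.1).hom.app F) :=
    fun ξ' => (ConcreteCategory.isIso_iff_bijective _).mp inferInstance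
  constructor
  · intro x y hxy
    obtain ⟨x₀, rfl⟩ := hiso1.2 x
    obtain ⟨y₀, rfl⟩ := hiso1.2 y
    refine congrArg _ (cmp_jointly_injective (f := f) (η := η' ≫ g) F.obj hFs x₀ y₀ ?_)
    intro ξ
    obtain ⟨ξ', rfl⟩ := hbij.2 ξ
    apply (hiso2 ξ').1
    rw [← compat h.w F ξ' (hξ ξ') x₀, ← compat h.w F ξ' (hξ ξ') y₀, hxy]
  · intro z
    obtain ⟨t', ht'⟩ := exists_family _ hbij
      (fun ξ : Pts f (η' ≫ g) => ((EtCoh.stalk ξ.1).obj F : Type (u + 1)))
      (fun ξ' => (hiso2 ξ').2 (cmp ξ' ((EtCoh.pull g').obj F).obj z) |>.choose)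
    obtain ⟨x₀, hx₀⟩ := cmp_jointly_surjective (f := f) (η := η' ≫ g) F.obj hFs t'
    refine ⟨(stalkPullIso g η').hom.app ((EtCoh.push f).obj F) x₀, ?_⟩
    apply cmp_jointly_injective (f := f') (η := η') ((EtCoh.pull g').obj F).obj hFs'
    intro ξ'
    rw [compat h.w F ξ' (hξ ξ') x₀, hx₀, ht']
    exact ((hiso2 ξ').2 (cmp ξ' ((EtCoh.pull g').obj F).obj z)).choose_spec

/-- **Finite base change in degree zero.** -/
theorem isIso_baseChange0 [IsFinite f] (h : IsPullback g' f' f g) (F : EtCoh.Ab X) :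
    IsIso (EtCoh.baseChange0 f g f' g' h.w F) :=
  Groth.Agent.Lib.Helper8EtStalkAlg.isIso_of_stalks _
    (fun _ _ _ η' => bijective_stalk_baseChange0 h F η')

end Square

end Groth.Agent.Lib.Helper8FinBC
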