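import Groth.Prelude
import Groth.Agent.Lib.Helper1ProperOver
import Groth.Agent.S0793
import Groth.Agent.S1153

/-!
# `ClSub.IsProperOver` is local on the base for the Zariski and étale topologies (helper8)
-/

set_option autoImplicit false
universe u
open CategoryTheory CategoryTheory.Limits AlgebraicGeometry Opposite

namespace Groth.Agent.Lib.Helper8ProperOverLocal

open Groth.Agent.Lib.Helper1

/-- a closed subset of a closed subset proper over the base is proper over the base. -/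
theorem isProperOver_of_subset {X S : Scheme.{u}} (f : X ⟶ S) (Z Z' : Set X)
    (hZ : ClSub.IsProperOver f Z) (hcl : IsClosed Z') (hsub : Z' ⊆ Z) :
    ClSub.IsProperOver f Z' := by
  obtain ⟨h, hp⟩ := hZ
  refine ⟨hcl, ?_⟩
  have hr : Z' ⊆ Set.range (redι Z h) := by rw [range_redι]; exact hsub
  have e : (Scheme.IdealSheafData.vanishingIdeal ⟨Z', hcl⟩).subschemeι ≫ f =
      redLift (redι Z h) Z' hcl hr ≫ (redι Z h ≫ f) := by
    rw [redLift_fac_assoc]
  rw [e]
  haveI : IsProper (redι Z h ≫ f) := hp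
  infer_instance

/-- `IsProperOver` is Zariski local on the base. -/
theorem isProperOver_of_zariski_local {P V : Scheme.{u}} (g₀ : P ⟶ V) [LocallyOfFiniteType g₀]
    (Z : Set P) (hZ : IsClosed Z) {ι : Type u} (W : ι → V.Opens) (hW : iSup W = ⊤)
    (H : ∀ i, ClSub.IsProperOver (pullback.snd g₀ (W i).ι) ((pullback.fst g₀ (W i).ι) ⁻¹' Z)) :
    ClSub.IsProperOver g₀ Z := by
  refine ⟨hZ, ?_⟩
  apply IsZariskiLocalAtTarget.of_iSup_eq_top (P := @IsProper) W hW
  intro i
  have hr : Set.range (pullback.snd (redι Z hZ) (pullback.fst g₀ (W i).ι)) =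
      (pullback.fst g₀ (W i).ι) ⁻¹' Z := by
    rw [Scheme.Pullback.range_snd, range_redι]
  haveI : LocallyOfFiniteType (pullback.snd g₀ (W i).ι) :=
    MorphismProperty.pullback_snd (P := @LocallyOfFiniteType) g₀ (W i).ι inferInstance
  have h := (isProperOver_iff_isProper_comp (pullback.snd g₀ (W i).ι)
    (pullback.snd (redι Z hZ) (pullback.fst g₀ (W i).ι)) _ hr).mp (H i)
  have big : IsPullback (pullback.fst (redι Z hZ) (pullback.fst g₀ (W i).ι))
      (pullback.snd (redι Z hZ) (pullback.fst g₀ (W i).ι) ≫ pullback.snd g₀ (W i).ι)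
      (redι Z hZ ≫ g₀) (W i).ι :=
    (IsPullback.of_hasPullback (redι Z hZ) (pullback.fst g₀ (W i).ι)).paste_vert
      (IsPullback.of_hasPullback g₀ (W i).ι)
  have sq2 := isPullback_morphismRestrict (redι Z hZ ≫ g₀) (W i)
  have e : (redι Z hZ ≫ g₀) ∣_ W i =
      (sq2.isoIsPullback _ _ big.flip).hom ≫
        (pullback.snd (redι Z hZ) (pullback.fst g₀ (W i).ι) ≫ pullback.snd g₀ (W i).ι) :=
    (IsPullback.isoIsPullback_hom_fst _ _ sq2 big.flip).symm
  rw [e]
  infer_instance

set_option backward.isDefEq.respectTransparency.types false in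
/-- `IsProperOver` is étale local on the base. -/
theorem isProperOver_of_etale_local {P V : Scheme.{u}} (g₀ : P ⟶ V) [LocallyOfFiniteType g₀]
    (Z : Set P) (hZ : IsClosed Z)
    (H : ∀ v : V, ∃ (V' : Scheme.{u}) (φ : V' ⟶ V) (_ : Etale φ) (v' : V') (P' : Scheme.{u})
      (b : P' ⟶ P) (g' : P' ⟶ V') (_ : IsPullback b g' g₀ φ),
      φ v' = v ∧ ClSub.IsProperOver g' (b ⁻¹' Z)) :
    ClSub.IsProperOver g₀ Z := by
  have key : ∀ v : V, ∃ W : V.Opens, v ∈ W ∧
      ClSub.IsProperOver (pullback.snd g₀ W.ι) ((pullback.fst g₀ W.ι) ⁻¹' Z) := by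
    intro v
    obtain ⟨V', φ, hφ, v', P', b, g', sq, hv, hprop⟩ := H v
    haveI := hφ
    -- affine neighbourhoods
    obtain ⟨O, hO, hvO⟩ : ∃ O : V.Opens, IsAffineOpen O ∧ v ∈ O := by
      obtain ⟨_, ⟨O, hO, rfl⟩, hvO, -⟩ :=
        V.isBasis_affineOpens.exists_subset_of_mem_open (Set.mem_univ v) isOpen_univ
      exact ⟨O, hO, hvO⟩
    have hv'O : v' ∈ φ ⁻¹ᵁ O := by
      change φ v' ∈ O
      rw [hv]; exact hvO
    obtain ⟨O', hO', hvO', hO'sub⟩ : ∃ O' : V'.Opens, IsAffineOpen O' ∧ v' ∈ O' ∧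
        (O' : Set V') ⊆ φ ⁻¹ᵁ O := by
      obtain ⟨_, ⟨O', hO', rfl⟩, hvO', hO'sub⟩ :=
        V'.isBasis_affineOpens.exists_subset_of_mem_open hv'O (φ ⁻¹ᵁ O).isOpen
      exact ⟨O', hO', hvO', hO'sub⟩
    let W : V.Opens := ⟨φ '' (O' : Set V'), φ.isOpenMap _ O'.isOpen⟩
    have hWO : W ≤ O := by
      rintro _ ⟨o, ho, rfl⟩
      exact hO'sub ho
    have hvW : v ∈ W := ⟨v', hvO', hv⟩
    have hrange : Set.range (O'.ι ≫ φ).base ⊆ Set.range W.ι.base := by
      rintro _ ⟨o, rfl⟩
      rw [Scheme.Opens.range_ι]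
      refine ⟨O'.ι o, ?_, (Scheme.Hom.comp_apply _ _ _).symm⟩
      have : O'.ι o ∈ Set.range O'.ι := ⟨o, rfl⟩
      rwa [Scheme.Opens.range_ι] at this
    let a : (O' : Scheme.{u}) ⟶ (W : Scheme.{u}) := IsOpenImmersion.lift W.ι (O'.ι ≫ φ) hrange
    have ha : a ≫ W.ι = O'.ι ≫ φ := IsOpenImmersion.lift_fac _ _ _
    haveI : Surjective a := by
      constructor
      intro w
      have hw : W.ι w ∈ (W : Set V) := by
        have : W.ι w ∈ Set.range W.ι := ⟨w, rfl⟩
        rwa [Scheme.Opens.range_ι] at this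
      obtain ⟨o, ho, hoe⟩ := hw
      have ho' : o ∈ Set.range O'.ι := by rw [Scheme.Opens.range_ι]; exact ho
      obtain ⟨o', rfl⟩ := ho'
      refine ⟨o', W.ι.isOpenEmbedding.injective ?_⟩
      rw [← Scheme.Hom.comp_apply, ha, Scheme.Hom.comp_apply]
      exact hoe
    haveI : Flat a := by
      have sqa : IsPullback (𝟙 (O' : Scheme.{u})) a (O'.ι ≫ φ) W.ι :=
        IsPullback.of_horiz_isIso_mono ⟨by rw [Category.id_comp, ha]⟩
      exact MorphismProperty.of_isPullback (P := @Flat) sqa inferInstance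
    haveI : IsAffine (O : Scheme.{u}) := hO
    haveI : IsAffine (O' : Scheme.{u}) := hO'
    haveI : QuasiCompact a := by
      haveI : QuasiCompact (a ≫ V.homOfLE hWO) := inferInstance
      exact QuasiCompact.of_comp a (V.homOfLE hWO)
    haveI : LocallyOfFiniteType (pullback.snd g₀ W.ι) :=
      MorphismProperty.pullback_snd (P := @LocallyOfFiniteType) g₀ W.ι inferInstance
    refine ⟨W, hvW, ?_⟩
    apply Groth.Agent.S1153.result (pullback.snd g₀ W.ι) _
      (hZ.preimage (pullback.fst g₀ W.ι).continuous) a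
    -- the base change to `O'`
    have hcomm : (pullback.fst (pullback.snd g₀ W.ι) a ≫ pullback.fst g₀ W.ι) ≫ g₀ =
        (pullback.snd (pullback.snd g₀ W.ι) a ≫ O'.ι) ≫ φ := by
      rw [Category.assoc, pullback.condition, ← Category.assoc, pullback.condition,
        Category.assoc, ha, Category.assoc]
    let top : pullback (pullback.snd g₀ W.ι) a ⟶ P' :=
      sq.lift (pullback.fst (pullback.snd g₀ W.ι) a ≫ pullback.fst g₀ W.ι)
        (pullback.snd (pullback.snd g₀ W.ι) a ≫ O'.ι) hcomm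
    have htop1 : top ≫ b = pullback.fst (pullback.snd g₀ W.ι) a ≫ pullback.fst g₀ W.ι :=
      sq.lift_fst _ _ _
    have htop2 : top ≫ g' = pullback.snd (pullback.snd g₀ W.ι) a ≫ O'.ι := sq.lift_snd _ _ _
    have big' : IsPullback (top ≫ b) (pullback.snd (pullback.snd g₀ W.ι) a) g₀ (O'.ι ≫ φ) := by
      rw [htop1, ← ha]
      exact (IsPullback.of_hasPullback (pullback.snd g₀ W.ι) a).paste_horiz
        (IsPullback.of_hasPullback g₀ W.ι)
    have sqD : IsPullback top (pullback.snd (pullback.snd g₀ W.ι) a) g' O'.ι :=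
      IsPullback.of_right big' htop2 sq
    haveI : LocallyOfFiniteType g' :=
      MorphismProperty.of_isPullback (P := @LocallyOfFiniteType) sq inferInstance
    have h1 := Groth.Agent.S0793.result g' O'.ι top (pullback.snd (pullback.snd g₀ W.ι) a) sqD
      (b ⁻¹' Z) hprop
    have eset : top ⁻¹' (b ⁻¹' Z) = (pullback.fst (pullback.snd g₀ W.ι) a).base ⁻¹'
        ((pullback.fst g₀ W.ι) ⁻¹' Z) := by
      ext q
      simp only [Set.mem_preimage]
      have e1 : b (top q) = pullback.fst g₀ W.ι (pullback.fst (pullback.snd g₀ W.ι) a q) := by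
        rw [← Scheme.Hom.comp_apply, htop1, Scheme.Hom.comp_apply]
      rw [e1]
    rw [← eset]
    exact h1
  choose W hvW hWp using key
  refine isProperOver_of_zariski_local g₀ Z hZ W ?_ hWp
  rw [eq_top_iff]
  intro v _
  exact TopologicalSpace.Opens.mem_iSup.mpr ⟨v, hvW v⟩

end Groth.Agent.Lib.Helper8ProperOverLocal
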