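import Mathlib
import Groth.Agent.Lib.Helper8FinGeomPt

/-!
# Pointed sections with finiteness (helper8)

Strengthened forms of `Helper8EtPropA.core` and `Helper8FinGeomPt.exists_pointed_section`: the
closed open piece is the surjective image of a scheme finite over the base neighbourhood.
-/

set_option autoImplicit false
set_option linter.unusedSectionVars false
universe u

open CategoryTheory CategoryTheory.Limits AlgebraicGeometry
open Groth.Agent.Lib.Helper20.ResFld Groth.Agent.Lib.Helper20.EtSections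
open Groth.Agent.Lib.Helper8EtPropA Groth.Agent.Lib.Helper8FinGeomPt

namespace Groth.Agent.Lib.Helper8FinGeomPt2

/-- the core of condition (A): a finite-over-the-base étale piece with a single point over `v₀`
whose residue field is purely inseparable over that of `v₀` maps isomorphically onto an
open-closed piece of the target over a neighbourhood of `v₀`. -/
theorem core_fin {P V A : Scheme.{u}} (p : P ⟶ V) [IsSeparated p] (φ : A ⟶ P) [Etale φ]
    [IsFinite (φ ≫ p)] (a₀ : A)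
    (huniq : ∀ a : A, (φ ≫ p) a = (φ ≫ p) a₀ → a = a₀)
    (hpi : PInsep ((φ ≫ p).residueFieldMap a₀).hom) :
    ∃ (V' : V.Opens) (C : P.Opens), (φ ≫ p) a₀ ∈ V' ∧ IsClosed (C : Set P) ∧ φ a₀ ∈ C ∧
      ∃ σ : ((C ⊓ p ⁻¹ᵁ V' : P.Opens) : Scheme.{u}) ⟶ A, σ ≫ φ = (C ⊓ p ⁻¹ᵁ V').ι ∧
      ∃ (B : Scheme.{u}) (β : B ⟶ ((C ⊓ p ⁻¹ᵁ V' : P.Opens) : Scheme.{u}))
        (q : B ⟶ (V' : Scheme.{u})), Surjective β ∧ IsFinite q ∧
          β ≫ (C ⊓ p ⁻¹ᵁ V').ι ≫ p = q ≫ V'.ι := by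
  haveI : IsFinite φ := IsFinite.of_comp φ p
  have hfib : φ ⁻¹' {φ a₀} = {a₀} := by
    ext a
    constructor
    · intro ha
      apply huniq
      rw [Scheme.Hom.comp_apply, Scheme.Hom.comp_apply]
      exact congrArg p ha
    · rintro rfl
      rfl
  have hκ : Function.Surjective (φ.residueFieldMap a₀) := by
    apply surjective_of_pInsep_of_isSeparable (φ.residueFieldMap a₀).hom
    · refine PInsep.of_comm (p.residueFieldMap (φ a₀)).hom (RingHom.id _)
        Function.surjective_id ?_ hpi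
      rw [RingHom.id_comp, Scheme.residueFieldMap_comp]
      rfl
    · infer_instance
  obtain ⟨N, hN, hiso⟩ := Groth.Agent.Lib.Helper20.OnePt.exists_isIso_morphismRestrict φ a₀ hfib hκ
  -- the closed set of the base over which `A` is not inside `φ⁻¹ N`
  have hZ : IsClosed ((φ ≫ p) '' ((φ ⁻¹ᵁ N : A.Opens) : Set A)ᶜ) :=
    (φ ≫ p).isClosedMap _ (φ ⁻¹ᵁ N).isOpen.isClosed_compl
  let V' : V.Opens := ⟨((φ ≫ p) '' ((φ ⁻¹ᵁ N : A.Opens) : Set A)ᶜ)ᶜ, hZ.isOpen_compl⟩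
  have hv₀ : (φ ≫ p) a₀ ∈ V' := by
    rintro ⟨a, ha, hav⟩
    have := huniq a hav
    subst this
    exact ha hN
  have hCopen : IsOpen (Set.range φ) := φ.isOpenMap.isOpen_range
  have hCclosed : IsClosed (Set.range φ) := φ.isClosedMap.isClosed_range
  let C : P.Opens := ⟨Set.range φ, hCopen⟩
  have hsub : (C ⊓ p ⁻¹ᵁ V' : P.Opens) ≤ N := by
    rintro z ⟨⟨a, rfl⟩, hz2⟩
    by_contra hzN
    apply hz2
    exact ⟨a, hzN, rfl⟩
  refine ⟨V', C, hv₀, hCclosed, ⟨a₀, rfl⟩, ?_⟩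
  refine ⟨P.homOfLE hsub ≫ inv (φ ∣_ N) ≫ (φ ⁻¹ᵁ N).ι, ?_, ?_⟩
  · rw [Category.assoc, Category.assoc, ← morphismRestrict_ι, IsIso.inv_hom_id_assoc,
      Scheme.homOfLE_ι]
  · have heq : φ ⁻¹ᵁ (C ⊓ p ⁻¹ᵁ V') = (φ ≫ p) ⁻¹ᵁ V' := by
      ext a
      constructor
      · rintro ⟨-, h2⟩
        exact h2
      · intro h
        exact ⟨⟨a, rfl⟩, h⟩
    refine ⟨_, φ ∣_ (C ⊓ p ⁻¹ᵁ V'), (A.isoOfEq heq).hom ≫ ((φ ≫ p) ∣_ V'), ?_, inferInstance, ?_⟩
    · constructor
      rintro ⟨z, hz⟩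
      obtain ⟨a, ha⟩ := hz.1
      have haT : a ∈ φ ⁻¹ᵁ (C ⊓ p ⁻¹ᵁ V') := by
        change φ a ∈ (C ⊓ p ⁻¹ᵁ V' : P.Opens)
        rw [ha]
        exact hz
      refine ⟨⟨a, haT⟩, ?_⟩
      apply (C ⊓ p ⁻¹ᵁ V').ι.isOpenEmbedding.injective
      rw [← Scheme.Hom.comp_apply, morphismRestrict_ι, Scheme.Hom.comp_apply]
      exact ha
    · rw [← Category.assoc, morphismRestrict_ι, Category.assoc, Category.assoc,
        morphismRestrict_ι, ← Category.assoc (A.isoOfEq heq).hom, Scheme.isoOfEq_hom_ι]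



variable {Ω : Type u} [Field Ω]

set_option backward.isDefEq.respectTransparency.types false in
/-- **Pointed sections.** For a separated locally quasi-finite morphism `f`, a geometric point
`ξ` of `X` over `η` and an étale neighbourhood `(N, n)` of `ξ`, there is an étale neighbourhood
`(V, v₀)` of `η` and a closed open `W ⊆ X ×_Y V` containing `(ξ, v₀)` and no other geometric
point over `η`, with a pointed `X`-morphism `W ⟶ N`. -/
theorem exists_pointed_section_fin [IsAlgClosed Ω] {X Y N : Scheme.{u}} (f : X ⟶ Y) [IsSeparated f]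
    [LocallyQuasiFinite f] [LocallyOfFiniteType f] (η : Spec (.of Ω) ⟶ Y)
    (ξ : Spec (.of Ω) ⟶ X) (hξ : ξ ≫ f = η) (p : N ⟶ X) [Etale p] (n : Spec (.of Ω) ⟶ N)
    (hn : n ≫ p = ξ) :
    ∃ (V : Scheme.{u}) (v : V ⟶ Y) (v₀ : Spec (.of Ω) ⟶ V) (_ : Etale v) (hv₀ : v₀ ≫ v = η)
      (W : (pullback f v).Opens), IsClosed (W : Set ↥(pullback f v)) ∧
      (∀ (ξ' : Spec (.of Ω) ⟶ X) (h' : ξ' ≫ f = η),
        (pullback.lift ξ' v₀ (h'.trans hv₀.symm)) default ∈ W → ξ' = ξ) ∧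
      ∃ (h : (W : Scheme.{u}) ⟶ N) (l : Spec (.of Ω) ⟶ W), h ≫ p = W.ι ≫ pullback.fst f v ∧
        l ≫ W.ι = pullback.lift ξ v₀ (hξ.trans hv₀.symm) ∧ l ≫ h = n ∧
        ∃ (B : Scheme.{u}) (β' : B ⟶ (W : Scheme.{u})), Surjective β' ∧
          IsFinite (β' ≫ W.ι ≫ pullback.snd f v) := by
  obtain ⟨E₀, hE₀, huE₀⟩ : ∃ E₀ : N.Opens, IsAffineOpen E₀ ∧ n default ∈ E₀ := by
    obtain ⟨_, ⟨E₀, hE₀, rfl⟩, huE₀, -⟩ :=
      N.isBasis_affineOpens.exists_subset_of_mem_open (Set.mem_univ (n default)) isOpen_univ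
    exact ⟨E₀, hE₀, huE₀⟩
  haveI : IsAffine (E₀ : Scheme.{u}) := hE₀
  obtain ⟨n', hn'⟩ := exists_lift_opens E₀ n huE₀
  let j : (E₀ : Scheme.{u}) ⟶ X := E₀.ι ≫ p
  haveI : Etale j := inferInstance
  let F : (E₀ : Scheme.{u}) ⟶ Y := j ≫ f
  haveI : IsSeparated F := isSeparated_of_isAffine F
  haveI : LocallyQuasiFinite j := locallyQuasiFinite_of_etale j
  haveI : LocallyQuasiFinite F := inferInstance
  haveI : LocallyOfFiniteType F := inferInstance
  let u₀ : (E₀ : Scheme.{u}) := n' default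
  have hn'F : n' ≫ F = η := by
    change n' ≫ (E₀.ι ≫ p) ≫ f = η
    rw [← Category.assoc, ← Category.assoc, hn', hn, hξ]
  obtain ⟨V, v, v₁, hv, hv₁, -, Vw, -, hVw⟩ := exists_etale_split_clopen F (F u₀) {u₀}
    (Set.finite_singleton _) (by rintro t rfl; exact ⟨rfl, F.quasiFiniteAt _⟩)
  obtain ⟨w, hw1, hw2⟩ :=
    Scheme.Pullback.exists_preimage_pullback (f := F) (g := v) u₀ v₁ hv₁.symm
  obtain ⟨hwA, -, hfin, huniq, hpi, -⟩ := hVw w hw2 (by rw [hw1]; rfl)
  -- the geometric point of `pullback F v`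
  obtain ⟨wt, hwt1, hwt2⟩ := Scheme.exists_fac_of_etale_of_isSepClosed (pullback.fst F v) n' w hw1
  let v₀ : Spec (.of Ω) ⟶ V := wt ≫ pullback.snd F v
  have hv₀ : v₀ ≫ v = η := by
    change (wt ≫ pullback.snd F v) ≫ v = η
    rw [Category.assoc, ← pullback.condition, ← Category.assoc, hwt1, hn'F]
  have hv₀pt : v₀ default = v₁ := by
    change (wt ≫ pullback.snd F v) default = v₁
    rw [Scheme.Hom.comp_apply, hwt2, hw2]
  let m : pullback F v ⟶ pullback f v :=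
    pullback.map F v f v j (𝟙 V) (𝟙 Y) (by simp [F]) (by simp)
  have hm1 : m ≫ pullback.fst f v = pullback.fst F v ≫ j := pullback.lift_fst _ _ _
  have hm2 : m ≫ pullback.snd f v = pullback.snd F v :=
    (pullback.lift_snd _ _ _).trans (Category.comp_id _)
  have hm : IsPullback m (pullback.fst F v) (pullback.fst f v) j := by
    refine IsPullback.of_right ?_ hm1 (IsPullback.of_hasPullback f v).flip
    rw [hm2]
    exact (IsPullback.of_hasPullback F v).flip
  haveI : Etale m := MorphismProperty.of_isPullback (P := @Etale) hm.flip inferInstance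
  let φ : ((Vw w : (pullback F v).Opens) : Scheme.{u}) ⟶ pullback f v := (Vw w).ι ≫ m
  have hφp : φ ≫ pullback.snd f v = (Vw w).ι ≫ pullback.snd F v := by
    change ((Vw w).ι ≫ m) ≫ pullback.snd f v = _
    rw [Category.assoc, hm2]
  haveI : IsFinite (φ ≫ pullback.snd f v) := by rw [hφp]; exact hfin
  obtain ⟨a₀, ha₀⟩ : ∃ a₀ : ((Vw w : (pullback F v).Opens) : Scheme.{u}), (Vw w).ι a₀ = w := by
    have : w ∈ Set.range (Vw w).ι := by rw [Scheme.Opens.range_ι]; exact hwA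
    exact this
  obtain ⟨at', hat'⟩ := exists_lift_opens (Vw w) wt (by rw [hwt2]; exact hwA)
  have hat'pt : at' default = a₀ := by
    apply (Vw w).ι.isOpenEmbedding.injective
    rw [ha₀]
    have e := congrArg (fun k : Spec (CommRingCat.of Ω) ⟶ pullback F v => k default) hat'
    exact e.trans hwt2
  have hsnd : ∀ a : ((Vw w : (pullback F v).Opens) : Scheme.{u}),
      (φ ≫ pullback.snd f v) a = pullback.snd F v ((Vw w).ι a) := by
    intro a
    rw [hφp, Scheme.Hom.comp_apply]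
  have huniq' : ∀ a, (φ ≫ pullback.snd f v) a = (φ ≫ pullback.snd f v) a₀ → a = a₀ := by
    intro a ha
    rw [hsnd, hsnd, ha₀, hw2] at ha
    apply (Vw w).ι.isOpenEmbedding.injective
    rw [ha₀]
    refine huniq ((Vw w).ι a) ?_ ha
    have : (Vw w).ι a ∈ Set.range (Vw w).ι := ⟨a, rfl⟩
    rwa [Scheme.Opens.range_ι] at this
  have hpi' : PInsep ((φ ≫ pullback.snd f v).residueFieldMap a₀).hom := by
    exact pInsep_congr hφp.symm a₀ (pInsep_comp_ι (pullback.snd F v) (Vw w) a₀ w ha₀ hpi)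
  have hφa₀ : (φ ≫ pullback.snd f v) a₀ = v₁ := by rw [hsnd, ha₀, hw2]
  obtain ⟨V', C, hv₀', hCcl, hφC, σ, hσ, B, β, q, hβ, hq, hβq⟩ :=
    Groth.Agent.Lib.Helper8FinGeomPt2.core_fin (pullback.snd f v) φ a₀ huniq' hpi'
  -- the geometric point of `pullback f v`
  have hpt₀ : at' ≫ φ = pullback.lift ξ v₀ (hξ.trans hv₀.symm) := by
    apply pullback.hom_ext
    · rw [pullback.lift_fst]
      change (at' ≫ (Vw w).ι ≫ m) ≫ pullback.fst f v = ξ
      rw [Category.assoc, Category.assoc, hm1, ← Category.assoc, ← Category.assoc, hat', hwt1]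
      change n' ≫ E₀.ι ≫ p = ξ
      rw [← Category.assoc, hn', hn]
    · rw [pullback.lift_snd, Category.assoc, hφp, ← Category.assoc, hat']
  obtain ⟨v₀', hv₀''⟩ := exists_lift_opens V' v₀ (by rw [hv₀pt, ← hφa₀]; exact hv₀')
  have hv₀f : v₀' ≫ V'.ι ≫ v = η := by rw [← Category.assoc, hv₀'', hv₀]
  let b : pullback f (V'.ι ≫ v) ⟶ pullback f v := bcMap f v V'.ι
  let W : (pullback f (V'.ι ≫ v)).Opens := b ⁻¹ᵁ C
  have hWcl : IsClosed (W : Set ↥(pullback f (V'.ι ≫ v))) := hCcl.preimage b.continuous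
  let T : (pullback f v).Opens := C ⊓ (pullback.snd f v) ⁻¹ᵁ V'
  have hbW : ∀ z : ↥(pullback f (V'.ι ≫ v)), z ∈ W → b z ∈ T := by
    intro z hz
    refine ⟨hz, ?_⟩
    change pullback.snd f v (b z) ∈ V'
    rw [bcMap_snd_apply]
    have : V'.ι (pullback.snd f (V'.ι ≫ v) z) ∈ Set.range V'.ι := ⟨_, rfl⟩
    rwa [Scheme.Opens.range_ι] at this
  have hr : Set.range (W.ι ≫ b).base ⊆ Set.range T.ι.base := by
    rintro _ ⟨z, rfl⟩
    rw [Scheme.Opens.range_ι]
    rw [Scheme.Hom.comp_apply]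
    apply hbW
    have : W.ι z ∈ Set.range W.ι := ⟨z, rfl⟩
    rwa [Scheme.Opens.range_ι] at this
  let l : (W : Scheme.{u}) ⟶ (T : Scheme.{u}) := IsOpenImmersion.lift T.ι (W.ι ≫ b) hr
  have hl : l ≫ T.ι = W.ι ≫ b := IsOpenImmersion.lift_fac _ _ _
  have h1 : (Vw w).ι ≫ pullback.fst F v ≫ E₀.ι ≫ p = φ ≫ pullback.fst f v := by
    change _ = ((Vw w).ι ≫ m) ≫ pullback.fst f v
    rw [Category.assoc, hm1]
  -- the geometric points upstairs
  have hptb : ∀ (ξ' : Spec (.of Ω) ⟶ X) (h' : ξ' ≫ f = η),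
      pullback.lift ξ' v₀' (h'.trans hv₀f.symm) ≫ b = pullback.lift ξ' v₀ (h'.trans hv₀.symm) := by
    intro ξ' h'
    apply pullback.hom_ext
    · rw [Category.assoc, bcMap_fst, pullback.lift_fst, pullback.lift_fst]
    · rw [Category.assoc, bcMap_snd, pullback.lift_snd, ← Category.assoc, pullback.lift_snd, hv₀'']
  have hptW : (pullback.lift ξ v₀' (hξ.trans hv₀f.symm)) default ∈ W := by
    change b ((pullback.lift ξ v₀' (hξ.trans hv₀f.symm)) default) ∈ C
    rw [← Scheme.Hom.comp_apply, hptb ξ hξ, ← hpt₀, Scheme.Hom.comp_apply, hat'pt]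
    exact hφC
  obtain ⟨lpt, hlpt⟩ := exists_lift_opens W _ hptW
  refine ⟨V', V'.ι ≫ v, v₀', inferInstance, hv₀f, W, hWcl, ?_,
    l ≫ σ ≫ (Vw w).ι ≫ pullback.fst F v ≫ E₀.ι, lpt, ?_, hlpt, ?_, ?_⟩
  · -- uniqueness
    intro ξ' h' hmem
    have hC : b ((pullback.lift ξ' v₀' (h'.trans hv₀f.symm)) default) ∈ C := hmem
    rw [← Scheme.Hom.comp_apply, hptb ξ' h'] at hC
    obtain ⟨a, ha⟩ : ∃ a, φ a = (pullback.lift ξ' v₀ (h'.trans hv₀.symm)) default := by
      have hT : (pullback.lift ξ' v₀ (h'.trans hv₀.symm)) default ∈ T := by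
        refine ⟨hC, ?_⟩
        change pullback.snd f v ((pullback.lift ξ' v₀ (h'.trans hv₀.symm)) default) ∈ V'
        rw [← Scheme.Hom.comp_apply, pullback.lift_snd, hv₀pt, ← hφa₀]
        exact hv₀'
      obtain ⟨t'', ht''⟩ : ∃ t'' : (T : Scheme.{u}),
          T.ι t'' = (pullback.lift ξ' v₀ (h'.trans hv₀.symm)) default := by
        have : (pullback.lift ξ' v₀ (h'.trans hv₀.symm)) default ∈ Set.range T.ι := by
          rw [Scheme.Opens.range_ι]; exact hT
        exact this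
      refine ⟨σ t'', ?_⟩
      rw [← Scheme.Hom.comp_apply, hσ, ht'']
    have haa : a = a₀ := by
      apply huniq'
      rw [Scheme.Hom.comp_apply, ha, hφa₀, ← Scheme.Hom.comp_apply, pullback.lift_snd, hv₀pt]
    subst haa
    have hpi2 : PInsep ((pullback.snd f v).residueFieldMap (φ a)).hom := by
      apply pInsep_of_comp _ (φ.residueFieldMap a).hom
      have := hpi'
      rw [Scheme.residueFieldMap_comp] at this
      exact this
    have e := geomPt_ext_of_pInsep (pullback.snd f v) (φ a) hpi2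
      (pullback.lift ξ' v₀ (h'.trans hv₀.symm)) (pullback.lift ξ v₀ (hξ.trans hv₀.symm))
      ha.symm (by rw [← hpt₀, Scheme.Hom.comp_apply, hat'pt])
      (by rw [pullback.lift_snd, pullback.lift_snd])
    have e' : pullback.lift ξ' v₀ (h'.trans hv₀.symm) ≫ pullback.fst f v =
        pullback.lift ξ v₀ (hξ.trans hv₀.symm) ≫ pullback.fst f v := by rw [e]
    rw [pullback.lift_fst, pullback.lift_fst] at e'
    exact e'
  · calc (l ≫ σ ≫ (Vw w).ι ≫ pullback.fst F v ≫ E₀.ι) ≫ p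
        = l ≫ σ ≫ ((Vw w).ι ≫ pullback.fst F v ≫ E₀.ι ≫ p) := by simp only [Category.assoc]
      _ = l ≫ (σ ≫ φ) ≫ pullback.fst f v := by rw [h1, ← Category.assoc σ φ]
      _ = (l ≫ T.ι) ≫ pullback.fst f v := by rw [hσ, Category.assoc]
      _ = W.ι ≫ b ≫ pullback.fst f v := by rw [hl, Category.assoc]
      _ = W.ι ≫ pullback.fst f (V'.ι ≫ v) := by rw [bcMap_fst]
  · -- pointedness
    have e1 : (lpt ≫ l ≫ σ) ≫ φ = at' ≫ φ := by
      rw [Category.assoc, Category.assoc, hσ, hl, ← Category.assoc, hlpt, hptb ξ hξ, hpt₀]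
    have e2 : (lpt ≫ l ≫ σ) default = a₀ := by
      apply huniq'
      have e0 : ((lpt ≫ l ≫ σ) ≫ φ ≫ pullback.snd f v) default =
          (at' ≫ φ ≫ pullback.snd f v) default := by
        rw [← Category.assoc, e1, Category.assoc]
      rw [Scheme.Hom.comp_apply, Scheme.Hom.comp_apply (f := at'), hat'pt] at e0
      exact e0
    have e3 : lpt ≫ l ≫ σ = at' :=
      geomPt_ext_of_pInsep (φ ≫ pullback.snd f v) a₀ hpi' _ _ e2 hat'pt
        (by rw [← Category.assoc, e1, Category.assoc])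
    calc lpt ≫ l ≫ σ ≫ (Vw w).ι ≫ pullback.fst F v ≫ E₀.ι
        = (lpt ≫ l ≫ σ) ≫ (Vw w).ι ≫ pullback.fst F v ≫ E₀.ι := by simp only [Category.assoc]
      _ = n := by
        rw [e3, ← Category.assoc, hat', ← Category.assoc, hwt1, hn']
  · -- finiteness
    haveI : IsOpenImmersion b :=
      MorphismProperty.of_isPullback (P := @IsOpenImmersion) (isPullback_bcMap f v V'.ι).flip
        inferInstance
    let β₁ : B ⟶ pullback f (V'.ι ≫ v) :=
      (isPullback_bcMap f v V'.ι).lift (β ≫ T.ι) q (by rw [Category.assoc]; exact hβq)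
    have hβ₁b : β₁ ≫ b = β ≫ T.ι := (isPullback_bcMap f v V'.ι).lift_fst _ _ _
    have hβ₁s : β₁ ≫ pullback.snd f (V'.ι ≫ v) = q := (isPullback_bcMap f v V'.ι).lift_snd _ _ _
    have hrange : Set.range β₁.base ⊆ Set.range W.ι.base := by
      rintro _ ⟨x, rfl⟩
      rw [Scheme.Opens.range_ι]
      change b (β₁ x) ∈ C
      rw [← Scheme.Hom.comp_apply, hβ₁b, Scheme.Hom.comp_apply]
      have : T.ι (β x) ∈ Set.range T.ι := ⟨_, rfl⟩
      rw [Scheme.Opens.range_ι] at this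
      exact this.1
    let β' : B ⟶ (W : Scheme.{u}) := IsOpenImmersion.lift W.ι β₁ hrange
    have hβ' : β' ≫ W.ι = β₁ := IsOpenImmersion.lift_fac _ _ _
    refine ⟨B, β', ⟨?_⟩, ?_⟩
    · intro z
      have hzT : b (W.ι z) ∈ T := by
        apply hbW
        have : W.ι z ∈ Set.range W.ι := ⟨z, rfl⟩
        rwa [Scheme.Opens.range_ι] at this
      obtain ⟨t, ht⟩ : b (W.ι z) ∈ Set.range T.ι := by rw [Scheme.Opens.range_ι]; exact hzT
      obtain ⟨x, hx⟩ := hβ.surj t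
      refine ⟨x, ?_⟩
      apply W.ι.isOpenEmbedding.injective
      apply b.isOpenEmbedding.injective
      have e1 : W.ι (β' x) = β₁ x := by
        rw [← Scheme.Hom.comp_apply, hβ']
      have e2 : b (β₁ x) = T.ι (β x) := by
        rw [← Scheme.Hom.comp_apply, hβ₁b, Scheme.Hom.comp_apply]
      exact (congrArg (fun y => b y) e1).trans (e2.trans ((congrArg (fun y => T.ι y) hx).trans ht))
    · rw [← Category.assoc, hβ', hβ₁s]
      exact hq

set_option backward.isDefEq.respectTransparency.types false in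
/-- `exists_pointed_section_fin` for an arbitrary pullback square, with the closed open piece
proper over the base neighbourhood. -/
theorem exists_pointed_section_proper [IsAlgClosed Ω] {X Y N : Scheme.{u}} (f : X ⟶ Y)
    [IsSeparated f] [LocallyQuasiFinite f] [LocallyOfFiniteType f] (η : Spec (.of Ω) ⟶ Y)
    (ξ : Spec (.of Ω) ⟶ X) (hξ : ξ ≫ f = η) (p : N ⟶ X) [Etale p] (n : Spec (.of Ω) ⟶ N)
    (hn : n ≫ p = ξ) :
    ∃ (V : Scheme.{u}) (v : V ⟶ Y) (v₀ : Spec (.of Ω) ⟶ V) (_ : Etale v) (hv₀ : v₀ ≫ v = η),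
      ∀ (Q : Scheme.{u}) (α : Q ⟶ X) (β : Q ⟶ V) (sq : IsPullback α β f v),
      ∃ (W : Q.Opens), IsClosed (W : Set Q) ∧ IsProper (W.ι ≫ β) ∧
      (∀ (ξ' : Spec (.of Ω) ⟶ X) (h' : ξ' ≫ f = η),
        (sq.lift ξ' v₀ (h'.trans hv₀.symm)) default ∈ W → ξ' = ξ) ∧
      ∃ (h : (W : Scheme.{u}) ⟶ N) (l : Spec (.of Ω) ⟶ W), h ≫ p = W.ι ≫ α ∧
        l ≫ W.ι = sq.lift ξ v₀ (hξ.trans hv₀.symm) ∧ l ≫ h = n := by
  obtain ⟨V, v, v₀, hv, hv₀, W₀, hW₀, huniq, h₀, l₀, hh₀, hl₀, hln₀, B, β', hβ', hfin⟩ :=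
    exists_pointed_section_fin f η ξ hξ p n hn
  refine ⟨V, v, v₀, hv, hv₀, ?_⟩
  intro Q α β sq
  let e : Q ≅ pullback f v := sq.isoPullback
  have he1 : e.hom ≫ pullback.fst f v = α := sq.isoPullback_hom_fst
  have he2 : e.hom ≫ pullback.snd f v = β := sq.isoPullback_hom_snd
  have hlift : ∀ (ξ' : Spec (.of Ω) ⟶ X) (h' : ξ' ≫ f = η),
      sq.lift ξ' v₀ (h'.trans hv₀.symm) ≫ e.hom = pullback.lift ξ' v₀ (h'.trans hv₀.symm) := by
    intro ξ' h'
    apply pullback.hom_ext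
    · rw [Category.assoc, he1, sq.lift_fst, pullback.lift_fst]
    · rw [Category.assoc, he2, sq.lift_snd, pullback.lift_snd]
  let W : Q.Opens := e.hom ⁻¹ᵁ W₀
  have hmemW : (sq.lift ξ v₀ (hξ.trans hv₀.symm)) default ∈ W := by
    change e.hom ((sq.lift ξ v₀ (hξ.trans hv₀.symm)) default) ∈ W₀
    rw [← Scheme.Hom.comp_apply, hlift ξ hξ, ← hl₀, Scheme.Hom.comp_apply]
    have : W₀.ι (l₀ default) ∈ Set.range W₀.ι := ⟨_, rfl⟩
    rwa [Scheme.Opens.range_ι] at this
  obtain ⟨l, hl⟩ := exists_lift_opens W _ hmemW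
  -- properness of the piece over the base
  have hprop₀ : IsProper (W₀.ι ≫ pullback.snd f v) := by
    haveI : LocallyOfFiniteType (pullback.snd f v) :=
      MorphismProperty.pullback_snd (P := @LocallyOfFiniteType) f v inferInstance
    haveI : IsSeparated (pullback.snd f v) :=
      MorphismProperty.pullback_snd (P := @IsSeparated) f v inferInstance
    haveI := hβ'
    haveI := hfin
    haveI : UniversallyClosed (W₀.ι ≫ pullback.snd f v) :=
      UniversallyClosed.of_comp_surjective β' (W₀.ι ≫ pullback.snd f v)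
    exact { }
  have hprop : IsProper (W.ι ≫ β) := by
    have e0 : W.ι ≫ β = (e.hom ∣_ W₀) ≫ (W₀.ι ≫ pullback.snd f v) := by
      rw [← Category.assoc, morphismRestrict_ι, Category.assoc, he2]
    rw [e0]
    haveI := hprop₀
    infer_instance
  refine ⟨W, hW₀.preimage e.hom.continuous, hprop, ?_, (e.hom ∣_ W₀) ≫ h₀, l, ?_, hl, ?_⟩
  · intro ξ' h' hmem
    apply huniq ξ' h'
    rw [← hlift ξ' h', Scheme.Hom.comp_apply]
    exact hmem
  · rw [Category.assoc, hh₀, ← Category.assoc, morphismRestrict_ι, Category.assoc, he1]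
  · have e2 : l ≫ (e.hom ∣_ W₀) = l₀ := by
      apply (cancel_mono W₀.ι).mp
      rw [Category.assoc, morphismRestrict_ι, ← Category.assoc, hl, hlift ξ hξ, hl₀]
    rw [← Category.assoc, e2, hln₀]

end Groth.Agent.Lib.Helper8FinGeomPt2
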