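import Groth.Prelude
import Groth.Agent.Lib.Helper16EtSupp
import Groth.Agent.Lib.Helper1ProperOver
import Groth.Agent.Lib.Helper8FinGeomPt

/-!
# Supports of sections and sections with proper support (helper8)

* `sectSupp_zero`, `sectSupp_neg`, `sectSupp_add`, `sectSupp_map`, `eq_zero_of_sectSupp_empty`.
* `hasProperSupport_of_mem`: every element of `EtShriek.shriekSubgroup f F V` has proper support
  over `V` (for `f` locally of finite type).
* `finite_geomPts_at`: finitely many geometric points with given centre and given image, when the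
  residue field extension is finite.
-/

set_option autoImplicit false
universe u
open CategoryTheory CategoryTheory.Limits AlgebraicGeometry Opposite

namespace Groth.Agent.Lib.Helper8ShriekSupp

open Groth.Agent.Lib.Helper16.EtStalk Groth.Agent.Lib.Helper16.SmallEtale
open Groth.Agent.Lib.Helper16.StalkPull Groth.Agent.Lib.Helper16.EtSupp

variable {X Y : Scheme.{u}}

theorem sectSupp_zero (F : EtCoh.Ab X) (U : X.Etale) :
    EtShriek.sectSupp F U (0 : EtCoh.sect F U) = ∅ := by
  rw [Set.eq_empty_iff_forall_notMem]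
  intro x hx
  exact hx U (𝟙 U) ⟨x, rfl⟩ (map_zero _)

theorem sectSupp_neg_subset (F : EtCoh.Ab X) (U : X.Etale) (s : EtCoh.sect F U) :
    EtShriek.sectSupp F U (-s) ⊆ EtShriek.sectSupp F U s := by
  intro x hx W g hw h0
  apply hx W g hw
  rw [map_neg, h0, neg_zero]

set_option backward.isDefEq.respectTransparency.types false in
theorem sectSupp_add_subset (F : EtCoh.Ab X) (U : X.Etale) (s t : EtCoh.sect F U) :
    EtShriek.sectSupp F U (s + t) ⊆ EtShriek.sectSupp F U s ∪ EtShriek.sectSupp F U t := by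
  intro x hx
  by_contra hc
  rw [Set.mem_union, not_or] at hc
  obtain ⟨Ω, _, _, ξ, x₀, hx₀⟩ := exists_geometric_point U x
  have h1 := (germ_eq_zero_iff F ξ U x₀ s x hx₀).mpr hc.1
  have h2 := (germ_eq_zero_iff F ξ U x₀ t x hx₀).mpr hc.2
  have h3 : germ ξ F U x₀ (s + t) = 0 := by rw [map_add, h1, h2, add_zero]
  exact ((germ_eq_zero_iff F ξ U x₀ (s + t) x hx₀).mp h3) hx

set_option backward.isDefEq.respectTransparency.types false in
theorem sectSupp_map (F : EtCoh.Ab X) {U' U : X.Etale} (φ : U' ⟶ U) (s : EtCoh.sect F U) :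
    EtShriek.sectSupp F U' (F.obj.map φ.op s) ⊆ φ.left ⁻¹' EtShriek.sectSupp F U s := by
  intro y hy
  by_contra hc
  obtain ⟨Ω, _, _, ξ, y₀, hy₀⟩ := exists_geometric_point U' y
  have hpt : (((Scheme.pointSmallEtale ξ).fiber.map φ y₀).left :
      Spec (CommRingCat.of Ω) ⟶ U.left) (default : Spec (CommRingCat.of Ω)) = φ.left y := by
    change (y₀.left ≫ φ.left) (default : Spec (CommRingCat.of Ω)) = φ.left y
    rw [Scheme.Hom.comp_apply]
    exact congrArg (fun t => φ.left t) hy₀
  have h1 := (germ_eq_zero_iff F ξ U ((Scheme.pointSmallEtale ξ).fiber.map φ y₀) s (φ.left y)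
    hpt).mpr hc
  have h2 : germ ξ F U' y₀ (F.obj.map φ.op s) = 0 := by
    rw [← h1]
    exact (Scheme.pointSmallEtale ξ).toPresheafFiber_w_apply φ y₀ F.obj s
  exact ((germ_eq_zero_iff F ξ U' y₀ _ y hy₀).mp h2) hy

theorem eq_zero_of_sectSupp_empty (F : EtCoh.Ab X) (U : X.Etale) (s : EtCoh.sect F U)
    (h : EtShriek.sectSupp F U s = ∅) : s = 0 := by
  apply Groth.Agent.S0102.section_eq_zero_of_locally
  intro v
  have hv : v ∉ EtShriek.sectSupp F U s := by rw [h]; exact Set.notMem_empty v
  simp only [EtShriek.sectSupp, Set.mem_ofPred_eq, not_forall, not_not] at hv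
  obtain ⟨W', g, ⟨w, hw⟩, hg⟩ := hv
  exact ⟨W', g, w, hw, hg⟩

/-- a section vanishing on an étale `W → U` has support disjoint from the image of `W`. -/
theorem notMem_sectSupp_of_map_eq_zero (F : EtCoh.Ab X) {W U : X.Etale} (g : W ⟶ U)
    (s : EtCoh.sect F U) (h : F.obj.map g.op s = 0) (w : W.left) :
    g.left w ∉ EtShriek.sectSupp F U s :=
  fun hmem => hmem W g ⟨w, rfl⟩ h

section Proper

variable (f : X ⟶ Y) [LocallyOfFiniteType f] (F : EtCoh.Ab X)

instance locallyOfFiniteType_prV (V : Y.Etale) : LocallyOfFiniteType (EtShriek.prV f V) :=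
  MorphismProperty.pullback_fst (P := @LocallyOfFiniteType) V.hom f inferInstance

set_option backward.isDefEq.respectTransparency.types false in
theorem hasProperSupport_of_mem (V : Y.Etale) (s : EtCoh.sect F ((EtCoh.bc f).obj V))
    (hs : s ∈ EtShriek.shriekSubgroup f F V) :
    EtShriek.HasProperSupport F ((EtCoh.bc f).obj V) s (EtShriek.prV f V) := by
  induction hs using AddSubgroup.closure_induction with
  | mem x hx =>
    have h1 := hx V (𝟙 V)
    have e : F.obj.map ((EtCoh.bc f).map (𝟙 V)).op x = x := by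
      rw [(EtCoh.bc f).map_id, op_id, F.obj.map_id]
      rfl
    rwa [e] at h1
  | zero =>
    refine ⟨∅, ?_, ?_⟩
    · rw [sectSupp_zero]
    · have := Groth.Agent.Lib.Helper1.isProperOver_iUnion (EtShriek.prV f V)
        (fun i : PEmpty.{1} => (PEmpty.elim i : Set ((EtCoh.bc f).obj V).left))
        (fun i => PEmpty.elim i)
      rwa [Set.iUnion_of_empty] at this
  | add x y _ _ hx hy =>
    obtain ⟨Z₁, h₁, p₁⟩ := hx
    obtain ⟨Z₂, h₂, p₂⟩ := hy
    refine ⟨Z₁ ∪ Z₂, ?_, ?_⟩
    · exact (sectSupp_add_subset F _ x y).trans (Set.union_subset_union h₁ h₂)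
    · have := Groth.Agent.Lib.Helper1.isProperOver_iUnion (EtShriek.prV f V)
        (fun b : Bool => cond b Z₁ Z₂) (fun b => by cases b <;> assumption)
      rwa [← Set.union_eq_iUnion] at this
  | neg x _ hx =>
    obtain ⟨Z₁, h₁, p₁⟩ := hx
    exact ⟨Z₁, (sectSupp_neg_subset F _ x).trans h₁, p₁⟩

end Proper

section GeomPts

variable {Ω : Type u} [Field Ω]

set_option backward.isDefEq.respectTransparency.types false in
/-- finitely many geometric points with a given centre and a given image, when the residue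
field extension at the centre is finite. -/
theorem finite_geomPts_at {Z U : Scheme.{u}} (g : Z ⟶ U) (z : Z)
    (hfin : (g.residueFieldMap z).hom.Finite) (s : Spec (.of Ω) ⟶ U) :
    {a : Spec (.of Ω) ⟶ Z | a default = z ∧ a ≫ g = s}.Finite := by
  by_cases hne : ∃ a₀ : Spec (.of Ω) ⟶ Z, a₀ default = z ∧ a₀ ≫ g = s
  swap
  · convert Set.finite_empty
    rw [Set.eq_empty_iff_forall_notMem]
    rintro a ⟨h1, h2⟩
    exact hne ⟨a, h1, h2⟩
  obtain ⟨a₀, ha₀, rfl⟩ := hne
  obtain ⟨⟨z₀, φ₀⟩, rfl⟩ := (Scheme.SpecToEquivOfField Ω Z).symm.surjective a₀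
  obtain rfl : z₀ = z := by simpa [Scheme.SpecToEquivOfField] using ha₀
  letI : Algebra (U.residueField (g z₀)) (Z.residueField z₀) :=
    (g.residueFieldMap z₀).hom.toAlgebra
  letI : Algebra (U.residueField (g z₀)) Ω :=
    (φ₀.hom.comp (g.residueFieldMap z₀).hom).toAlgebra
  haveI : Module.Finite (U.residueField (g z₀)) (Z.residueField z₀) := hfin
  haveI : Finite (Z.residueField z₀ →ₐ[U.residueField (g z₀)] Ω) :=
    Finite.of_fintype _
  refine (Set.finite_range (fun ψ : Z.residueField z₀ →ₐ[U.residueField (g z₀)] Ω =>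
    (Scheme.SpecToEquivOfField Ω Z).symm ⟨z₀, CommRingCat.ofHom ψ.toRingHom⟩)).subset ?_
  rintro a ⟨ha1, ha2⟩
  obtain ⟨⟨za, φa⟩, rfl⟩ := (Scheme.SpecToEquivOfField Ω Z).symm.surjective a
  obtain rfl : za = z₀ := by simpa [Scheme.SpecToEquivOfField] using ha1
  have h1 : g.residueFieldMap za ≫ φa = g.residueFieldMap za ≫ φ₀ := by
    have ea : (Scheme.SpecToEquivOfField Ω Z).symm ⟨za, φa⟩ ≫ g =
        (Scheme.SpecToEquivOfField Ω U).symm ⟨g za, g.residueFieldMap za ≫ φa⟩ := by
      change (Spec.map φa ≫ Z.fromSpecResidueField za) ≫ g =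
        Spec.map (g.residueFieldMap za ≫ φa) ≫ U.fromSpecResidueField (g za)
      rw [Spec.map_comp, Category.assoc, Category.assoc,
        Scheme.Hom.SpecMap_residueFieldMap_fromSpecResidueField]
    have eb : (Scheme.SpecToEquivOfField Ω Z).symm ⟨za, φ₀⟩ ≫ g =
        (Scheme.SpecToEquivOfField Ω U).symm ⟨g za, g.residueFieldMap za ≫ φ₀⟩ := by
      change (Spec.map φ₀ ≫ Z.fromSpecResidueField za) ≫ g =
        Spec.map (g.residueFieldMap za ≫ φ₀) ≫ U.fromSpecResidueField (g za)
      rw [Spec.map_comp, Category.assoc, Category.assoc,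
        Scheme.Hom.SpecMap_residueFieldMap_fromSpecResidueField]
    rw [ea, eb] at ha2
    have e := (Scheme.SpecToEquivOfField Ω U).symm.injective ha2
    exact eq_of_heq (Sigma.mk.inj e).2
  refine ⟨{ toRingHom := φa.hom, commutes' := ?_ }, ?_⟩
  · intro r
    exact congrArg (fun m => m.hom r) h1
  · rfl

end GeomPts

end Groth.Agent.Lib.Helper8ShriekSupp
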