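import Groth.Prelude
import Groth.Agent.Lib.Helper8ShriekSupp
import Groth.Agent.Lib.Helper8FinGeomPt2
import Groth.Agent.Lib.Helper8FinPushStalk
import Groth.Agent.Lib.Helper8AbCoprod
import Groth.Agent.S0793

/-!
# The stalk of `f_!` for `f` separated and locally quasi-finite (helper8)

For `f : X ⟶ Y` separated, locally of finite type and locally quasi-finite, `Ω` algebraically
closed and `η : Spec Ω ⟶ Y`, the stalk of `f_! F` at `η` is the direct sum of the stalks of `F`
at the geometric points of `X` over `η`.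
-/

set_option autoImplicit false
universe u
open CategoryTheory CategoryTheory.Limits AlgebraicGeometry Opposite

namespace Groth.Agent.Lib.Helper8ShriekStalk

open Groth.Agent.Lib.Helper8FinPushDecomp Groth.Agent.Lib.Helper8FinPushStalk
open Groth.Agent.Lib.Helper8ShriekSupp Groth.Agent.Lib.Helper8FinGeomPt
open Groth.Agent.Lib.Helper16.StalkPull Groth.Agent.Lib.Helper16.EtSupp
open Groth.Agent.Lib.Helper20.ResFld

variable {X Y : Scheme.{u}} (f : X ⟶ Y) (F : EtCoh.Ab X) {Ω : Type u} [Field Ω] [IsAlgClosed Ω]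
  {η : Spec (CommRingCat.of Ω) ⟶ Y}

set_option backward.isDefEq.respectTransparency.types false in
/-- the comparison map from the presheaf stalk of sections with proper support to the stalk of
`F` at a geometric point over `η`. -/
noncomputable def c (ξ : Pts f η) :
    (Scheme.pointSmallEtale η).presheafFiber.obj (EtShriek.lowerShriekPre f F) ⟶
      (Scheme.pointSmallEtale ξ.1).presheafFiber.obj F.obj :=
  (Scheme.pointSmallEtale η).presheafFiber.map
    (show EtShriek.lowerShriekPre f F ⟶ (EtCoh.bc f).op ⋙ F.obj from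
      EtShriek.lowerShriekPreι f F) ≫ cmp ξ F.obj

set_option backward.isDefEq.respectTransparency.types false in
theorem c_apply (ξ : Pts f η) (V : Y.Etale) (v : (Scheme.pointSmallEtale η).fiber.obj V)
    (s : EtShriek.shriekSubgroup f F V) :
    c f F ξ ((Scheme.pointSmallEtale η).toPresheafFiber V v (EtShriek.lowerShriekPre f F) s) =
      germ ξ.1 F ((EtCoh.bc f).obj V) (pt ξ V v) s.1 := by
  unfold c
  rw [ConcreteCategory.comp_apply]
  have h1 := (Scheme.pointSmallEtale η).toPresheafFiber_naturality_apply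
    (show EtShriek.lowerShriekPre f F ⟶ (EtCoh.bc f).op ⋙ F.obj from
      EtShriek.lowerShriekPreι f F) V v s
  rw [h1]
  exact cmp_apply ξ F.obj V v s.1

theorem comp_apply_eq {A B C : Scheme.{u}} (a : A ⟶ B) (b : B ⟶ C) (c : A ⟶ C) (h : a ≫ b = c)
    (z : A) : b (a z) = c z := by
  rw [← h, Scheme.Hom.comp_apply]

set_option backward.isDefEq.respectTransparency.types false in
/-- the underlying scheme morphism of `pt ξ V v` -/
noncomputable def ptL (ξ : Pts f η) (V : Y.Etale) (v : (Scheme.pointSmallEtale η).fiber.obj V) :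
    Spec (CommRingCat.of Ω) ⟶ pullback V.hom f := (pt ξ V v).left

set_option backward.isDefEq.respectTransparency.types false in
theorem ptL_fst (ξ : Pts f η) (V : Y.Etale) (v : (Scheme.pointSmallEtale η).fiber.obj V) :
    ptL f ξ V v ≫ pullback.fst V.hom f = v.left := pt_left_fst ξ V v

set_option backward.isDefEq.respectTransparency.types false in
theorem ptL_snd (ξ : Pts f η) (V : Y.Etale) (v : (Scheme.pointSmallEtale η).fiber.obj V) :
    ptL f ξ V v ≫ pullback.snd V.hom f = ξ.1 := pt_left_snd ξ V v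

set_option backward.isDefEq.respectTransparency.types false in
theorem c_apply_eq_zero_iff (ξ : Pts f η) (V : Y.Etale)
    (v : (Scheme.pointSmallEtale η).fiber.obj V) (s : EtShriek.shriekSubgroup f F V) :
    c f F ξ ((Scheme.pointSmallEtale η).toPresheafFiber V v (EtShriek.lowerShriekPre f F) s) = 0 ↔
      ptL f ξ V v (default : Spec (CommRingCat.of Ω)) ∉
        EtShriek.sectSupp F ((EtCoh.bc f).obj V) s.1 := by
  rw [c_apply]
  exact germ_eq_zero_iff F ξ.1 ((EtCoh.bc f).obj V) (pt ξ V v) s.1 _ rfl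

set_option backward.isDefEq.respectTransparency.types false in
/-- extension by zero of a section from a closed open piece. -/
theorem exists_ext_by_zero (P : X.Etale) (W : P.left.Opens) (hW : IsClosed (W : Set P.left))
    (W1 : X.Etale) (j1 : W1 ⟶ P) (hj1 : IsOpenImmersion j1.left)
    (hr : Set.range j1.left = (W : Set P.left)) (t : F.obj.obj (op W1)) :
    ∃ s : F.obj.obj (op P), F.obj.map j1.op s = t ∧
      EtShriek.sectSupp F P s ⊆ (W : Set P.left) := by
  let Wc : P.left.Opens := ⟨(W : Set P.left)ᶜ, hW.isOpen_compl⟩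
  let W2 : X.Etale := Scheme.Etale.mk (Wc.ι ≫ P.hom)
  let j2 : W2 ⟶ P := MorphismProperty.Over.homMk Wc.ι rfl
  have hj2 : j2.left = Wc.ι := rfl
  have hFs : Presieve.IsSheaf X.smallEtaleTopology (F.obj ⋙ forget AddCommGrpCat) :=
    (isSheaf_iff_isSheaf_of_type _ _).mp
      ((Presheaf.isSheaf_iff_isSheaf_forget _ _ (forget AddCommGrpCat)).mp F.property)
  obtain ⟨s, hs1, hs2⟩ := Groth.Agent.Lib.Helper16.EtGlue.exists_glue_binary
    (F.obj ⋙ forget AddCommGrpCat) hFs j1 j2
    inferInstance (show Mono Wc.ι from inferInstance)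
    (by
      intro x y hxy
      have hx : j1.left x ∈ (W : Set P.left) := by rw [← hr]; exact ⟨x, rfl⟩
      have hy : Wc.ι y ∈ Wc := y.2
      rw [hxy] at hx
      exact hy hx)
    (by
      intro p
      by_cases hq : p ∈ (W : Set P.left)
      · rw [← hr] at hq
        exact Or.inl hq
      · exact Or.inr ⟨⟨p, hq⟩, rfl⟩) t (0 : F.obj.obj (op W2))
  have hs1' : F.obj.map j1.op s = t := hs1
  have hs2' : F.obj.map j2.op s = 0 := hs2
  refine ⟨s, hs1', ?_⟩
  intro x hx
  by_contra hxW
  exact notMem_sectSupp_of_map_eq_zero F j2 s hs2' ⟨x, hxW⟩ hx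

set_option backward.isDefEq.respectTransparency.types false in
/-- a section whose support lies in a closed subset proper over `V` satisfies the hereditary
predicate defining `f_!`. -/
theorem shriekPred_of_subset [LocallyOfFiniteType f] (V : Y.Etale)
    (s : EtCoh.sect F ((EtCoh.bc f).obj V)) (Z : Set ((EtCoh.bc f).obj V).left)
    (hs : EtShriek.sectSupp F ((EtCoh.bc f).obj V) s ⊆ Z)
    (hZ : ClSub.IsProperOver (EtShriek.prV f V) Z) : EtShriek.ShriekPred f F V s := by
  intro V' φ
  refine ⟨((EtCoh.bc f).map φ).left ⁻¹' Z,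
    (sectSupp_map F ((EtCoh.bc f).map φ) s).trans (Set.preimage_mono hs), ?_⟩
  exact Groth.Agent.S0793.result (EtShriek.prV f V) φ.left ((EtCoh.bc f).map φ).left
    (EtShriek.prV f V') (EtCoh.isPullback_bc_map f φ) Z hZ

section Main

variable [IsSeparated f] [LocallyOfFiniteType f] [LocallyQuasiFinite f]

instance locallyQuasiFinite_prV (V : Y.Etale) : LocallyQuasiFinite (EtShriek.prV f V) :=
  MorphismProperty.pullback_fst (P := @LocallyQuasiFinite) V.hom f inferInstance

instance isSeparated_prV (V : Y.Etale) : IsSeparated (EtShriek.prV f V) :=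
  MorphismProperty.pullback_fst (P := @IsSeparated) V.hom f inferInstance

set_option backward.isDefEq.respectTransparency.types false in
theorem ptL_injective (V : Y.Etale) (v : (Scheme.pointSmallEtale η).fiber.obj V) :
    Function.Injective (fun ξ : Pts f η => ptL f ξ V v) := by
  intro ξ ξ' h
  apply Subtype.ext
  rw [← ptL_snd f ξ V v, ← ptL_snd f ξ' V v]
  exact congrArg (fun m => m ≫ pullback.snd V.hom f) h

set_option backward.isDefEq.respectTransparency.types false in
/-- (I): every element has only finitely many nonzero components. -/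
theorem finite_c_ne_zero
    (x : ToType ((Scheme.pointSmallEtale η).presheafFiber.obj (EtShriek.lowerShriekPre f F))) :
    {ξ : Pts f η | c f F ξ x ≠ 0}.Finite := by
  obtain ⟨V, v, s, rfl⟩ := (Scheme.pointSmallEtale η).toPresheafFiber_jointly_surjective
    (P := EtShriek.lowerShriekPre f F) x
  obtain ⟨Z, hZ, hcl, hprop⟩ := hasProperSupport_of_mem f F V s.1 s.2
  obtain ⟨v₀, hv₀⟩ : ∃ v₀ : V.left, v₀ = (v.left : Spec (CommRingCat.of Ω) ⟶ V.left)
    (default : Spec (CommRingCat.of Ω)) := ⟨_, rfl⟩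
  have hT : ((Groth.Agent.Lib.Helper1.redι Z hcl ≫ EtShriek.prV f V) ⁻¹' {v₀}).Finite :=
    (Groth.Agent.Lib.Helper1.redι Z hcl ≫ EtShriek.prV f V).finite_preimage_singleton v₀
  have hfinA : ∀ z : ↥(pullback V.hom f), {a : Spec (CommRingCat.of Ω) ⟶ pullback V.hom f |
      a default = z ∧ a ≫ pullback.fst V.hom f = v.left}.Finite := fun z =>
    finite_geomPts_at (pullback.fst V.hom f) z
      (finite_residueFieldMap_of_quasiFiniteAt _ z ((EtShriek.prV f V).quasiFiniteAt z)) v.left
  have hU := Set.Finite.biUnion (hT.image (Groth.Agent.Lib.Helper1.redι Z hcl))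
    (fun z _ => hfinA z)
  refine Set.Finite.subset (Set.Finite.preimage (f := fun ξ : Pts f η => ptL f ξ V v)
      ((ptL_injective f V v).injOn) hU) ?_
  intro ξ hξ
  have hmem : ptL f ξ V v (default : Spec (CommRingCat.of Ω)) ∈
      EtShriek.sectSupp F ((EtCoh.bc f).obj V) s.1 := by
    by_contra hc
    exact hξ ((c_apply_eq_zero_iff f F ξ V v s).mpr hc)
  have hZmem := hZ hmem
  rw [← Groth.Agent.Lib.Helper1.range_redι Z hcl] at hZmem
  obtain ⟨z', hz'⟩ := hZmem
  simp only [Set.mem_preimage, Set.mem_iUnion, Set.mem_image, Set.mem_singleton_iff,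
    Set.mem_ofPred_eq, exists_prop]
  refine ⟨_, ⟨z', ?_, hz'⟩, rfl, ptL_fst f ξ V v⟩
  have e1 : (Groth.Agent.Lib.Helper1.redι Z hcl ≫ EtShriek.prV f V) z' =
      EtShriek.prV f V (Groth.Agent.Lib.Helper1.redι Z hcl z') := Scheme.Hom.comp_apply _ _ _
  refine e1.trans ((congrArg (fun t => EtShriek.prV f V t) hz').trans ?_)
  exact (comp_apply_eq _ _ _ (ptL_fst f ξ V v) _).trans hv₀.symm

set_option backward.isDefEq.respectTransparency.types false in
/-- (II): the comparison maps are jointly injective. -/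
theorem eq_zero_of_c_eq_zero
    (x : ToType ((Scheme.pointSmallEtale η).presheafFiber.obj (EtShriek.lowerShriekPre f F)))
    (h : ∀ ξ : Pts f η, c f F ξ x = 0) : x = 0 := by
  obtain ⟨V, v, s, rfl⟩ := (Scheme.pointSmallEtale η).toPresheafFiber_jointly_surjective
    (P := EtShriek.lowerShriekPre f F) x
  obtain ⟨Z, hZ, hcl, hprop⟩ := hasProperSupport_of_mem f F V s.1 s.2
  have hScl : IsClosed (EtShriek.sectSupp F ((EtCoh.bc f).obj V) s.1) :=
    Groth.Agent.Lib.Helper8EtFinPush.isClosed_sectSupp F _ s.1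
  have hC : IsClosed (EtShriek.prV f V '' EtShriek.sectSupp F ((EtCoh.bc f).obj V) s.1) := by
    have e : EtShriek.prV f V '' EtShriek.sectSupp F ((EtCoh.bc f).obj V) s.1 =
        (Groth.Agent.Lib.Helper1.redι Z hcl ≫ EtShriek.prV f V) ''
          (Groth.Agent.Lib.Helper1.redι Z hcl ⁻¹'
            EtShriek.sectSupp F ((EtCoh.bc f).obj V) s.1) := by
      ext y
      constructor
      · rintro ⟨z, hz, rfl⟩
        have hz2 := hZ hz
        rw [← Groth.Agent.Lib.Helper1.range_redι Z hcl] at hz2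
        obtain ⟨z', rfl⟩ := hz2
        exact ⟨z', hz, Scheme.Hom.comp_apply _ _ _⟩
      · rintro ⟨z', hz', rfl⟩
        exact ⟨Groth.Agent.Lib.Helper1.redι Z hcl z', hz', (Scheme.Hom.comp_apply _ _ _).symm⟩
    rw [e]
    haveI := hprop
    exact (Groth.Agent.Lib.Helper1.redι Z hcl ≫ EtShriek.prV f V).isClosedMap _
      (hScl.preimage (Groth.Agent.Lib.Helper1.redι Z hcl).continuous)
  have hv₀ : (v.left : Spec (CommRingCat.of Ω) ⟶ V.left) (default : Spec (CommRingCat.of Ω)) ∉
      EtShriek.prV f V '' EtShriek.sectSupp F ((EtCoh.bc f).obj V) s.1 := by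
    rintro ⟨z, hz, hzv⟩
    obtain ⟨l, hl1, hl2⟩ := exists_lift_of_finite (pullback.fst V.hom f)
      (v.left : Spec (CommRingCat.of Ω) ⟶ V.left) z hzv
      (finite_residueFieldMap_of_quasiFiniteAt _ z ((EtShriek.prV f V).quasiFiniteAt z))
    let ξ : Pts f η := ⟨l ≫ pullback.snd V.hom f, by
      rw [Category.assoc, ← pullback.condition, ← Category.assoc, hl1]
      exact Over.w v⟩
    have hpt : ptL f ξ V v = l := by
      apply pullback.hom_ext
      · rw [ptL_fst, hl1]
      · rw [ptL_snd]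
    have h0 := (c_apply_eq_zero_iff f F ξ V v s).mp (h ξ)
    rw [hpt, hl2] at h0
    exact h0 hz
  obtain ⟨V', g, v', hv', hg⟩ := Groth.Agent.Lib.Helper8EtFinPush.exists_restrict_nbhd η V v
    ⟨(EtShriek.prV f V '' EtShriek.sectSupp F ((EtCoh.bc f).obj V) s.1)ᶜ, hC.isOpen_compl⟩ hv₀
  have hw := (Scheme.pointSmallEtale η).toPresheafFiber_w_apply g v'
    (EtShriek.lowerShriekPre f F) s
  rw [hv'] at hw
  rw [← hw]
  have hs0 : (EtShriek.lowerShriekPre f F).map g.op s = 0 := by
    apply Subtype.ext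
    change F.obj.map ((EtCoh.bc f).map g).op s.1 = 0
    apply eq_zero_of_sectSupp_empty
    rw [Set.eq_empty_iff_forall_notMem]
    intro y hy
    have hy' := sectSupp_map F ((EtCoh.bc f).map g) s.1 hy
    apply hg (EtShriek.prV f V' y)
    refine ⟨_, hy', ?_⟩
    exact apply_comm _ _ _ _ (EtCoh.isPullback_bc_map f g).w y
  rw [hs0, map_zero]

set_option backward.isDefEq.respectTransparency.types false in
/-- the geometric input for (III): a closed open piece of `X ×_Y V`, proper over `V`, containing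
exactly one geometric point over `η` and mapping to a given étale neighbourhood of it. -/
theorem exists_piece (ξ : Pts f η) (N : X.Etale) (n : (Scheme.pointSmallEtale ξ.1).fiber.obj N) :
    ∃ (V : Y.Etale) (v : (Scheme.pointSmallEtale η).fiber.obj V) (W : (pullback V.hom f).Opens),
      IsClosed (W : Set ↥(pullback V.hom f)) ∧ IsProper (W.ι ≫ pullback.fst V.hom f) ∧
      (∀ ξ' : Pts f η, ptL f ξ' V v (default : Spec (CommRingCat.of Ω)) ∈ W → ξ' = ξ) ∧
      ∃ (h : (W : Scheme.{u}) ⟶ N.left) (l : Spec (CommRingCat.of Ω) ⟶ (W : Scheme.{u})),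
        h ≫ N.hom = W.ι ≫ pullback.snd V.hom f ∧ l ≫ W.ι = ptL f ξ V v ∧
        l ≫ h = (n.left : Spec (CommRingCat.of Ω) ⟶ N.left) := by
  obtain ⟨p, hp⟩ : ∃ p : N.left ⟶ X, p = N.hom := ⟨_, rfl⟩
  haveI : Etale p := by rw [hp]; exact N.prop
  have hn : (n.left : Spec (CommRingCat.of Ω) ⟶ N.left) ≫ p = ξ.1 := by
    rw [hp]; exact Over.w n
  obtain ⟨V₀, v₁, v₀, hv, hv₀, H⟩ := Groth.Agent.Lib.Helper8FinGeomPt2.exists_pointed_section_proper
    f η ξ.1 ξ.2 p (n.left : Spec (CommRingCat.of Ω) ⟶ N.left) hn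
  haveI := hv
  have sq : IsPullback (pullback.snd v₁ f) (pullback.fst v₁ f) f v₁ :=
    (IsPullback.of_hasPullback v₁ f).flip
  obtain ⟨W, hWcl, hWprop, huniq, h, l, hh, hl, hln⟩ := H _ _ _ sq
  have hlift : ∀ ξ' : Pts f η, sq.lift ξ'.1 v₀ (ξ'.2.trans hv₀.symm) =
      ptL f ξ' (Scheme.Etale.mk v₁) (Over.homMk v₀ hv₀) := by
    intro ξ'
    apply pullback.hom_ext
    · exact (sq.lift_snd _ _ _).trans (ptL_fst f ξ' (Scheme.Etale.mk v₁) (Over.homMk v₀ hv₀)).symm
    · exact (sq.lift_fst _ _ _).trans (ptL_snd f ξ' (Scheme.Etale.mk v₁) (Over.homMk v₀ hv₀)).symm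
  refine ⟨Scheme.Etale.mk v₁, Over.homMk v₀ hv₀, W, hWcl, hWprop, ?_, h, l, ?_, ?_, hln⟩
  · intro ξ' hmem
    apply Subtype.ext
    apply huniq ξ'.1 ξ'.2
    have e := hlift ξ'
    exact (congrArg (fun m : Spec (CommRingCat.of Ω) ⟶ pullback v₁ f => m default) e).symm ▸ hmem
  · rw [← hp]; exact hh
  · exact hl.trans (hlift ξ)

set_option backward.isDefEq.respectTransparency.types false in
/-- (III): delta elements. -/
theorem exists_delta (ξ : Pts f η)
    (t : ToType ((Scheme.pointSmallEtale ξ.1).presheafFiber.obj F.obj)) :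
    ∃ x : ToType ((Scheme.pointSmallEtale η).presheafFiber.obj (EtShriek.lowerShriekPre f F)),
      c f F ξ x = t ∧ ∀ ξ' : Pts f η, ξ' ≠ ξ → c f F ξ' x = 0 := by
  obtain ⟨N, n, σ, rfl⟩ := (Scheme.pointSmallEtale ξ.1).toPresheafFiber_jointly_surjective
    (P := F.obj) t
  obtain ⟨V, v, W, hWcl, hWprop, huniq, h, l, hh, hl, hln⟩ := exists_piece f ξ N n
  haveI : Etale (pullback.snd V.hom f) := ((EtCoh.bc f).obj V).prop
  let W1 : X.Etale := Scheme.Etale.mk (W.ι ≫ pullback.snd V.hom f)
  let j1 : W1 ⟶ (EtCoh.bc f).obj V := MorphismProperty.Over.homMk W.ι rfl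
  let hN : W1 ⟶ N := MorphismProperty.Over.homMk h hh
  have hoi : IsOpenImmersion j1.left := (inferInstance : IsOpenImmersion W.ι)
  obtain ⟨s, hs1, hs2⟩ := exists_ext_by_zero F ((EtCoh.bc f).obj V) W hWcl W1 j1 hoi
    (Scheme.Opens.range_ι W) (F.obj.map hN.op σ)
  haveI : IsClosedImmersion W.ι := IsClosedImmersion.of_isPreimmersion W.ι (by
    rw [Scheme.Opens.range_ι]; exact hWcl)
  haveI : LocallyOfFiniteType (pullback.fst V.hom f) := locallyOfFiniteType_prV f V
  have hWP : ClSub.IsProperOver (pullback.fst V.hom f) (W : Set ↥(pullback V.hom f)) :=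
    (Groth.Agent.Lib.Helper1.isProperOver_iff_isProper_comp (pullback.fst V.hom f) W.ι
      (W : Set ↥(pullback V.hom f)) (Scheme.Opens.range_ι W)).mpr hWprop
  have hsP : EtShriek.ShriekPred f F V s := shriekPred_of_subset f F V s _ hs2 hWP
  let s' : EtShriek.shriekSubgroup f F V := ⟨s, AddSubgroup.subset_closure hsP⟩
  refine ⟨(Scheme.pointSmallEtale η).toPresheafFiber V v (EtShriek.lowerShriekPre f F) s', ?_, ?_⟩
  · rw [c_apply]
    -- the lift `l` as a point of the fibre of `W1`
    let lW : (Scheme.pointSmallEtale ξ.1).fiber.obj W1 := Over.homMk l (by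
      change l ≫ W.ι ≫ pullback.snd V.hom f = ξ.1
      rw [← Category.assoc, hl, ptL_snd])
    have e1 : (Scheme.pointSmallEtale ξ.1).fiber.map j1 lW = pt ξ V v := by
      apply Over.OverMorphism.ext
      exact hl
    have e2 : (Scheme.pointSmallEtale ξ.1).fiber.map hN lW = n := by
      apply Over.OverMorphism.ext
      exact hln
    change (Scheme.pointSmallEtale ξ.1).toPresheafFiber ((EtCoh.bc f).obj V) (pt ξ V v) F.obj s =
      (Scheme.pointSmallEtale ξ.1).toPresheafFiber N n F.obj σ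
    rw [← e1, ← (Scheme.pointSmallEtale ξ.1).toPresheafFiber_w_apply j1 lW F.obj s, hs1,
      (Scheme.pointSmallEtale ξ.1).toPresheafFiber_w_apply hN lW F.obj σ, e2]
  · intro ξ' hne
    rw [c_apply_eq_zero_iff]
    intro hmem
    exact hne (huniq ξ' (hs2 hmem))

set_option backward.isDefEq.respectTransparency.types false in
/-- **The stalk of `f_!`** for `f` separated, locally of finite type and locally quasi-finite. -/
theorem nonempty_stalk_iso :
    Nonempty ((EtCoh.stalk η).obj ((EtShriek.lowerShriek f).obj F) ≅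
      ∐ fun ξ : {ξ : Spec (CommRingCat.of Ω) ⟶ X // ξ ≫ f = η} => (EtCoh.stalk ξ.1).obj F) := by
  obtain ⟨e⟩ := Groth.Agent.Lib.Helper8AbCoprod.nonempty_iso_sigma
    (fun ξ : Pts f η => (EtCoh.stalk ξ.1).obj F)
    ((Scheme.pointSmallEtale η).presheafFiber.obj (EtShriek.lowerShriekPre f F))
    (fun ξ => c f F ξ) (finite_c_ne_zero f F) (eq_zero_of_c_eq_zero f F) (exists_delta f F)
  exact ⟨((Scheme.pointSmallEtale η).presheafToSheafCompSheafFiberIso AddCommGrpCat.{u + 1}).app
    (EtShriek.lowerShriekPre f F) ≪≫ e⟩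

end Main

end Groth.Agent.Lib.Helper8ShriekStalk
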