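import Groth.Prelude
import Groth.Agent.Lib.Helper8ShriekStalk
import Groth.Agent.Lib.Helper8ProperOverLocal

/-!
# The presheaf of sections with proper support is a sheaf (helper8)
-/

set_option autoImplicit false
universe u
open CategoryTheory CategoryTheory.Limits AlgebraicGeometry Opposite

namespace Groth.Agent.Lib.Helper8ShriekSheaf

open Groth.Agent.Lib.Helper16.EtStalk Groth.Agent.Lib.Helper16.SmallEtale
open Groth.Agent.Lib.Helper16.StalkPull Groth.Agent.Lib.Helper16.EtSupp
open Groth.Agent.Lib.Helper8ShriekSupp Groth.Agent.Lib.Helper8ShriekStalk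
open Groth.Agent.Lib.Helper8ProperOverLocal

variable {X Y : Scheme.{u}}

set_option backward.isDefEq.respectTransparency.types false in
theorem preimage_sectSupp_subset (F : EtCoh.Ab X) {U' U : X.Etale} (φ : U' ⟶ U)
    (s : EtCoh.sect F U) :
    φ.left ⁻¹' EtShriek.sectSupp F U s ⊆ EtShriek.sectSupp F U' (F.obj.map φ.op s) := by
  intro y hy
  by_contra hc
  obtain ⟨Ω, _, _, ξ, y₀, hy₀⟩ := exists_geometric_point U' y
  have hpt : (((Scheme.pointSmallEtale ξ).fiber.map φ y₀).left :
      Spec (CommRingCat.of Ω) ⟶ U.left) (default : Spec (CommRingCat.of Ω)) = φ.left y := by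
    change (y₀.left ≫ φ.left) (default : Spec (CommRingCat.of Ω)) = φ.left y
    rw [Scheme.Hom.comp_apply]
    exact congrArg (fun t => φ.left t) hy₀
  have h2 := (germ_eq_zero_iff F ξ U' y₀ (F.obj.map φ.op s) y hy₀).mpr hc
  have h1 : germ ξ F U ((Scheme.pointSmallEtale ξ).fiber.map φ y₀) s = 0 := by
    rw [← h2]
    exact ((Scheme.pointSmallEtale ξ).toPresheafFiber_w_apply φ y₀ F.obj s).symm
  exact ((germ_eq_zero_iff F ξ U ((Scheme.pointSmallEtale ξ).fiber.map φ y₀) s (φ.left y)
    hpt).mp h1) hy

variable (f : X ⟶ Y) [LocallyOfFiniteType f] (F : EtCoh.Ab X)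

set_option backward.isDefEq.respectTransparency.types false in
/-- membership in `shriekSubgroup` is local for the étale topology. -/
theorem mem_shriekSubgroup_of_locally (V : Y.Etale) (s : EtCoh.sect F ((EtCoh.bc f).obj V))
    (h : ∀ v : V.left, ∃ (V' : Y.Etale) (φ : V' ⟶ V) (v' : V'.left), φ.left v' = v ∧
      F.obj.map ((EtCoh.bc f).map φ).op s ∈ EtShriek.shriekSubgroup f F V') :
    s ∈ EtShriek.shriekSubgroup f F V := by
  apply AddSubgroup.subset_closure
  have hcl : IsClosed (EtShriek.sectSupp F ((EtCoh.bc f).obj V) s) :=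
    Groth.Agent.Lib.Helper8EtFinPush.isClosed_sectSupp F _ s
  refine shriekPred_of_subset f F V s _ (le_refl _) ?_
  apply isProperOver_of_etale_local (EtShriek.prV f V) _ hcl
  intro v
  obtain ⟨V', φ, v', hv', hmem⟩ := h v
  obtain ⟨Z', hZ', hprop⟩ := hasProperSupport_of_mem f F V' _ hmem
  haveI : Etale φ.left := inferInstance
  refine ⟨V'.left, φ.left, inferInstance, v', ((EtCoh.bc f).obj V').left,
    ((EtCoh.bc f).map φ).left, EtShriek.prV f V', EtCoh.isPullback_bc_map f φ, hv', ?_⟩
  exact isProperOver_of_subset (EtShriek.prV f V') Z' _ hprop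
    (hcl.preimage ((EtCoh.bc f).map φ).left.continuous)
    ((preimage_sectSupp_subset F ((EtCoh.bc f).map φ) s).trans hZ')

set_option backward.isDefEq.respectTransparency.types false in
/-- **The presheaf of sections with proper support is a sheaf.** -/
theorem isSheaf_lowerShriekPre :
    Presheaf.IsSheaf Y.smallEtaleTopology (EtShriek.lowerShriekPre f F) := by
  rw [Presheaf.isSheaf_iff_isSheaf_forget _ _ (forget AddCommGrpCat.{u + 1}),
    isSheaf_iff_isSheaf_of_type]
  have hQ : Presieve.IsSheaf Y.smallEtaleTopology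
      (((EtCoh.push f).obj F).obj ⋙ forget AddCommGrpCat.{u + 1}) :=
    (isSheaf_iff_isSheaf_of_type _ _).mp
      ((Presheaf.isSheaf_iff_isSheaf_forget _ _ (forget AddCommGrpCat.{u + 1})).mp
        ((EtCoh.push f).obj F).property)
  let G : Subfunctor (((EtCoh.push f).obj F).obj ⋙ forget AddCommGrpCat.{u + 1}) :=
    { obj := fun V => {s | s ∈ EtShriek.shriekSubgroup f F V.unop}
      map := fun {V V'} φ s hs => EtShriek.shriekSubgroup_le_comap f F φ.unop hs }
  have hG : Presieve.IsSheaf Y.smallEtaleTopology G.toFunctor := by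
    rw [Subfunctor.isSheaf_iff _ hQ]
    intro V s hs
    induction V using Opposite.rec with | _ V => ?_
    rw [mem_smallEtale_iff] at hs
    apply mem_shriekSubgroup_of_locally f F V s
    intro v
    obtain ⟨V', φ, v', hφ, hv'⟩ := hs v
    exact ⟨V', φ, v', hv', hφ⟩
  exact Presieve.isSheaf_iso Y.smallEtaleTopology
    (NatIso.ofComponents (fun V => Iso.refl _) (by intros; rfl)) hG

end Groth.Agent.Lib.Helper8ShriekSheaf
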