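import Groth.Prelude
import Groth.Agent.Lib.Helper8ShriekSheaf
import Groth.Agent.S0788

/-!
# Sections of `f_!` (helper8)

For `f` locally of finite type the presheaf of sections with proper support is a sheaf, so the
sections of `f_! F` over `V` are the sections of `F` over `X ×_Y V` with proper support.
-/

set_option autoImplicit false
universe u
open CategoryTheory CategoryTheory.Limits AlgebraicGeometry Opposite

namespace Groth.Agent.Lib.Helper8ShriekSections

open Groth.Agent.Lib.Helper16.EtStalk Groth.Agent.Lib.Helper16.SmallEtale
open Groth.Agent.Lib.Helper8ShriekSupp Groth.Agent.Lib.Helper8ShriekStalk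
open Groth.Agent.Lib.Helper8ShriekSheaf Groth.Agent.Lib.Helper8ProperOverLocal
open Groth.Agent.Lib.Helper1

variable {X Y : Scheme.{u}} (f : X ⟶ Y) [LocallyOfFiniteType f] (F : EtCoh.Ab X)

/-- the canonical map from sections with proper support to sections of `f_! F` -/
noncomputable def sec (V : Y.Etale) :
    EtShriek.shriekSubgroup f F V → ((EtShriek.lowerShriek f).obj F).obj.obj (op V) :=
  fun r => (toSheafify Y.smallEtaleTopology (EtShriek.lowerShriekPre f F)).app (op V) r

theorem sec_bijective (V : Y.Etale) : Function.Bijective (sec f F V) := by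
  haveI := isIso_toSheafify Y.smallEtaleTopology (isSheaf_lowerShriekPre f F)
  haveI : IsIso ((toSheafify Y.smallEtaleTopology (EtShriek.lowerShriekPre f F)).app (op V)) :=
    inferInstance
  exact ConcreteCategory.bijective_of_isIso
    ((toSheafify Y.smallEtaleTopology (EtShriek.lowerShriekPre f F)).app (op V))

theorem sec_add (V : Y.Etale) (r r' : EtShriek.shriekSubgroup f F V) :
    sec f F V (r + r') = sec f F V r + sec f F V r' := map_add _ _ _

theorem sec_zero (V : Y.Etale) : sec f F V 0 = 0 := map_zero _

/-- `f_! F ⟶ f_* F` on sections -/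
theorem toPush_sec (V : Y.Etale) (r : EtShriek.shriekSubgroup f F V) :
    (EtShriek.lowerShriekToPush f F).hom.app (op V) (sec f F V r) = r.1 := by
  have h : toSheafify Y.smallEtaleTopology (EtShriek.lowerShriekPre f F) ≫
      (EtShriek.lowerShriekToPush f F).hom = EtShriek.lowerShriekPreι f F := by
    have h1 := (sheafificationAdjunction Y.smallEtaleTopology AddCommGrpCat.{u + 1}).homEquiv_unit
      (f := EtShriek.lowerShriekToPush f F)
    rw [← sheafificationAdjunction_unit_app]
    refine h1.symm.trans ?_
    exact Equiv.apply_symm_apply _ _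
  have h2 := congrArg (fun k => (k.app (op V)) r) h
  exact h2

/-- restriction of sections -/
theorem sec_map {V' V : Y.Etale} (φ : V' ⟶ V) (r : EtShriek.shriekSubgroup f F V) :
    ((EtShriek.lowerShriek f).obj F).obj.map φ.op (sec f F V r) =
      sec f F V' ((EtShriek.lowerShriekPre f F).map φ.op r) := by
  have h := (toSheafify Y.smallEtaleTopology (EtShriek.lowerShriekPre f F)).naturality φ.op
  exact (congrArg (fun k => k r) h).symm

/-- functoriality in `F` -/
theorem map_sec {F G : EtCoh.Ab X} (α : F ⟶ G) (V : Y.Etale)
    (r : EtShriek.shriekSubgroup f F V) :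
    ((EtShriek.lowerShriek f).map α).hom.app (op V) (sec f F V r) =
      sec f G V (((EtShriek.lowerShriekPreFunctor f).map α).app (op V) r) := by
  have h := toSheafify_naturality Y.smallEtaleTopology ((EtShriek.lowerShriekPreFunctor f).map α)
  exact (congrArg (fun k => (k.app (op V)) r) h).symm

end Groth.Agent.Lib.Helper8ShriekSections
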