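import Groth.Prelude
import Groth.Agent.Lib.Helper8ShriekSections
import Groth.Agent.Lib.Helper8FinBC

/-!
# Composition of direct images with proper support (helper8)
-/

set_option autoImplicit false
universe u
open CategoryTheory CategoryTheory.Limits AlgebraicGeometry Opposite

namespace Groth.Agent.Lib.Helper8ShriekComp

open Groth.Agent.Lib.Helper16.EtStalk Groth.Agent.Lib.Helper16.SmallEtale
open Groth.Agent.Lib.Helper8ShriekSupp Groth.Agent.Lib.Helper8ShriekStalk
open Groth.Agent.Lib.Helper8ShriekSheaf Groth.Agent.Lib.Helper8ProperOverLocal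
open Groth.Agent.Lib.Helper8ShriekSections
open Groth.Agent.Lib.Helper1

section Supp

variable {X Y : Scheme.{u}} (f : X ⟶ Y) [LocallyOfFiniteType f] (F : EtCoh.Ab X)

theorem isClosed_image_of_isProperOver {P S : Scheme.{u}} (p : P ⟶ S) (Z : Set P)
    (hZ : ClSub.IsProperOver p Z) : IsClosed (p '' Z) := by
  obtain ⟨hcl, hprop⟩ := hZ
  have e : p '' Z = Set.range (redι Z hcl ≫ p) := by
    rw [Scheme.Hom.comp_base, TopCat.coe_comp, Set.range_comp, range_redι]
  rw [e]
  haveI := hprop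
  exact (redι Z hcl ≫ p).isClosedMap.isClosed_range

set_option backward.isDefEq.respectTransparency.types false in
/-- the support of the section of `f_! F` attached to `r` lies in the image of the support. -/
theorem sectSupp_sec_subset (V : Y.Etale) (r : EtShriek.shriekSubgroup f F V)
    (Z : Set ((EtCoh.bc f).obj V).left)
    (hs : EtShriek.sectSupp F ((EtCoh.bc f).obj V) r.1 ⊆ Z)
    (hZ : ClSub.IsProperOver (EtShriek.prV f V) Z) :
    EtShriek.sectSupp ((EtShriek.lowerShriek f).obj F) V (sec f F V r) ⊆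
      EtShriek.prV f V '' Z := by
  have hC := isClosed_image_of_isProperOver (EtShriek.prV f V) Z hZ
  intro y hy
  by_contra hyT
  let O : V.left.Opens := ⟨(EtShriek.prV f V '' Z)ᶜ, hC.isOpen_compl⟩
  let V' : Y.Etale := Scheme.Etale.mk (O.ι ≫ V.hom)
  let j : V' ⟶ V := MorphismProperty.Over.homMk O.ι rfl
  have hj : j.left = O.ι := rfl
  apply hy V' j ⟨⟨y, hyT⟩, rfl⟩
  refine (sec_map f F j r).trans ?_
  have h0 : (EtShriek.lowerShriekPre f F).map j.op r = 0 := by
    apply Subtype.ext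
    change F.obj.map ((EtCoh.bc f).map j).op r.1 = 0
    apply eq_zero_of_sectSupp_empty
    rw [Set.eq_empty_iff_forall_notMem]
    intro x hx
    have hx' := hs (sectSupp_map F ((EtCoh.bc f).map j) r.1 hx)
    have hO : j.left (EtShriek.prV f V' x) ∈ O := by
      rw [hj]; exact (EtShriek.prV f V' x).2
    apply hO
    refine ⟨_, hx', ?_⟩
    exact Groth.Agent.Lib.Helper8FinPushDecomp.apply_comm _ _ _ _
      (EtCoh.isPullback_bc_map f j).w x
  rw [h0]
  exact sec_zero f F V'

set_option backward.isDefEq.respectTransparency.types false in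
/-- the image of the support lies in the support of the section of `f_! F`. -/
theorem image_sectSupp_subset (V : Y.Etale) (r : EtShriek.shriekSubgroup f F V) :
    EtShriek.prV f V '' EtShriek.sectSupp F ((EtCoh.bc f).obj V) r.1 ⊆
      EtShriek.sectSupp ((EtShriek.lowerShriek f).obj F) V (sec f F V r) := by
  rintro _ ⟨x, hx, rfl⟩
  intro V' φ ⟨v', hv'⟩ h0
  have h1 : sec f F V' ((EtShriek.lowerShriekPre f F).map φ.op r) = sec f F V' 0 :=
    ((sec_map f F φ r).symm.trans h0).trans (sec_zero f F V').symm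
  have h2 := (sec_bijective f F V').1 h1
  have h3 : F.obj.map ((EtCoh.bc f).map φ).op r.1 = 0 := congrArg Subtype.val h2
  obtain ⟨x', hx'1, -⟩ := Scheme.exists_preimage_of_isPullback (EtCoh.isPullback_bc_map f φ)
    x v' hv'.symm
  have := notMem_sectSupp_of_map_eq_zero F ((EtCoh.bc f).map φ) r.1 h3 x'
  rw [hx'1] at this
  exact this hx

end Supp

section ProperOver

/-- transitivity of "closed and proper over the base". -/
theorem isProperOver_comp {P Q S : Scheme.{u}} (p : P ⟶ Q) (q : Q ⟶ S) (Z : Set P) (T : Set Q)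
    (hZ : ClSub.IsProperOver p Z) (hT : ClSub.IsProperOver q T) (hsub : p '' Z ⊆ T) :
    ClSub.IsProperOver (p ≫ q) Z := by
  obtain ⟨hZc, hpZ⟩ := hZ
  obtain ⟨hTc, hqT⟩ := hT
  refine ⟨hZc, ?_⟩
  have hker : (redι T hTc).ker ≤ (redι Z hZc ≫ p).ker := by
    rw [redι, Scheme.IdealSheafData.ker_subschemeι]
    change _ ≤ (Scheme.IdealSheafData.vanishingIdeal ⟨Z, hZc⟩).map p
    rw [Scheme.IdealSheafData.map_vanishingIdeal]
    apply Scheme.IdealSheafData.vanishingIdeal_antimono
    change closure (⇑p '' Z) ⊆ T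
    exact closure_minimal hsub hTc
  let l := IsClosedImmersion.lift (redι T hTc) (redι Z hZc ≫ p) hker
  have hl : l ≫ redι T hTc = redι Z hZc ≫ p := IsClosedImmersion.lift_fac _ _ _
  haveI : IsProper (l ≫ redι T hTc) := by rw [hl]; exact hpZ
  haveI : IsProper l := IsProper.of_comp l (redι T hTc)
  haveI : IsProper (redι T hTc ≫ q) := hqT
  have e : (Scheme.IdealSheafData.vanishingIdeal ⟨Z, hZc⟩).subschemeι ≫ p ≫ q =
      l ≫ redι T hTc ≫ q := by
    rw [← Category.assoc, ← Category.assoc, hl]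
  rw [e]
  infer_instance

theorem isProperOver_of_comp {P Q S : Scheme.{u}} (p : P ⟶ Q) (q : Q ⟶ S) [IsSeparated q]
    (Z : Set P) (hZ : ClSub.IsProperOver (p ≫ q) Z) : ClSub.IsProperOver p Z := by
  obtain ⟨hZc, hpZ⟩ := hZ
  refine ⟨hZc, ?_⟩
  haveI : IsProper (((Scheme.IdealSheafData.vanishingIdeal ⟨Z, hZc⟩).subschemeι ≫ p) ≫ q) := by
    rw [Category.assoc]; exact hpZ
  exact IsProper.of_comp _ q

/-- transport along an isomorphism -/
theorem isProperOver_of_iso {P P' S : Scheme.{u}} (e : P' ⟶ P) [IsIso e] (p : P ⟶ S)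
    [LocallyOfFiniteType p] (p' : P' ⟶ S) (w : e ≫ p = p') (Z : Set P)
    (hZ : ClSub.IsProperOver p Z) : ClSub.IsProperOver p' (e ⁻¹' Z) := by
  have sq : IsPullback e p' p (𝟙 S) :=
    IsPullback.of_horiz_isIso ⟨by rw [Category.comp_id, w]⟩
  exact Groth.Agent.S0793.result p (𝟙 S) e p' sq Z hZ

end ProperOver

section Sections

variable {X Y Z : Scheme.{u}} (h : X ⟶ Y) (g : Y ⟶ Z) [IsSeparated h] [LocallyOfFiniteType h]
  [IsSeparated g] [LocallyOfFiniteType g] (F : EtCoh.Ab X)

/-- the canonical isomorphism `X ×_Z W ≅ X ×_Y (Y ×_Z W)` in the small étale site of `X`. -/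
noncomputable abbrev E (W : Z.Etale) :
    (EtCoh.bc (h ≫ g)).obj W ⟶ (EtCoh.bc h).obj ((EtCoh.bc g).obj W) :=
  (MorphismProperty.Over.pullbackComp (P := EtCoh.etaleMP.{u}) (Q := ⊤) h g).hom.app W

noncomputable abbrev Einv (W : Z.Etale) :
    (EtCoh.bc h).obj ((EtCoh.bc g).obj W) ⟶ (EtCoh.bc (h ≫ g)).obj W :=
  (MorphismProperty.Over.pullbackComp (P := EtCoh.etaleMP.{u}) (Q := ⊤) h g).inv.app W

theorem Einv_E (W : Z.Etale) : Einv h g W ≫ E h g W = 𝟙 _ :=
  (MorphismProperty.Over.pullbackComp (P := EtCoh.etaleMP.{u}) (Q := ⊤) h g).inv_hom_id_app W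

theorem E_Einv (W : Z.Etale) : E h g W ≫ Einv h g W = 𝟙 _ :=
  (MorphismProperty.Over.pullbackComp (P := EtCoh.etaleMP.{u}) (Q := ⊤) h g).hom_inv_id_app W

set_option backward.isDefEq.respectTransparency.types false in
theorem E_left_pr (W : Z.Etale) :
    (E h g W).left ≫ EtShriek.prV h ((EtCoh.bc g).obj W) ≫ EtShriek.prV g W =
      EtShriek.prV (h ≫ g) W :=
  MorphismProperty.Over.pullbackComp_left_fst_fst (P := EtCoh.etaleMP.{u}) (Q := ⊤) h g W

set_option backward.isDefEq.respectTransparency.types false in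
theorem Einv_left_pr (W : Z.Etale) :
    (Einv h g W).left ≫ EtShriek.prV (h ≫ g) W =
      EtShriek.prV h ((EtCoh.bc g).obj W) ≫ EtShriek.prV g W := by
  rw [← E_left_pr h g W, ← Category.assoc]
  have : (Einv h g W).left ≫ (E h g W).left = 𝟙 _ := by
    have := congrArg (fun k => k.left) (Einv_E h g W)
    exact this
  rw [this, Category.id_comp]

instance isIso_Einv_left (W : Z.Etale) : IsIso (Einv h g W).left := by
  refine ⟨(E h g W).left, ?_, ?_⟩
  · exact congrArg (fun k => k.left) (Einv_E h g W)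
  · exact congrArg (fun k => k.left) (E_Einv h g W)

instance isIso_E_left (W : Z.Etale) : IsIso (E h g W).left := by
  refine ⟨(Einv h g W).left, ?_, ?_⟩
  · exact congrArg (fun k => k.left) (E_Einv h g W)
  · exact congrArg (fun k => k.left) (Einv_E h g W)

set_option backward.isDefEq.respectTransparency.types false in
/-- a section of `(h ≫ g)_! F` gives a section of `g_! h_! F`. -/
theorem exists_q (W : Z.Etale) (p : EtShriek.shriekSubgroup (h ≫ g) F W) :
    ∃ q : EtShriek.shriekSubgroup g ((EtShriek.lowerShriek h).obj F) W,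
      (EtShriek.lowerShriekToPush h F).hom.app (op ((EtCoh.bc g).obj W)) q.1 =
        F.obj.map (Einv h g W).op p.1 := by
  obtain ⟨S0, hs0, hS0⟩ := hasProperSupport_of_mem (h ≫ g) F W p.1 p.2
  have hsupp : EtShriek.sectSupp F ((EtCoh.bc h).obj ((EtCoh.bc g).obj W))
      (F.obj.map (Einv h g W).op p.1) ⊆ (Einv h g W).left ⁻¹' S0 :=
    (sectSupp_map F (Einv h g W) p.1).trans (Set.preimage_mono hs0)
  have hS' : ClSub.IsProperOver (EtShriek.prV h ((EtCoh.bc g).obj W) ≫ EtShriek.prV g W)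
      ((Einv h g W).left ⁻¹' S0) :=
    isProperOver_of_iso (Einv h g W).left (EtShriek.prV (h ≫ g) W) _ (Einv_left_pr h g W) S0 hS0
  have hS'h : ClSub.IsProperOver (EtShriek.prV h ((EtCoh.bc g).obj W))
      ((Einv h g W).left ⁻¹' S0) :=
    isProperOver_of_comp _ (EtShriek.prV g W) _ hS'
  let r : EtShriek.shriekSubgroup h F ((EtCoh.bc g).obj W) :=
    ⟨F.obj.map (Einv h g W).op p.1, AddSubgroup.subset_closure
      (shriekPred_of_subset h F ((EtCoh.bc g).obj W) _ _ hsupp hS'h)⟩
  have hsuppt := sectSupp_sec_subset h F ((EtCoh.bc g).obj W) r _ hsupp hS'h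
  have hT : ClSub.IsProperOver (EtShriek.prV g W)
      (EtShriek.prV h ((EtCoh.bc g).obj W) '' ((Einv h g W).left ⁻¹' S0)) :=
    Groth.Agent.S0788.result (EtShriek.prV h ((EtCoh.bc g).obj W) ≫ EtShriek.prV g W)
      (EtShriek.prV g W) (EtShriek.prV h ((EtCoh.bc g).obj W)) rfl _ hS'
  refine ⟨⟨sec h F ((EtCoh.bc g).obj W) r, AddSubgroup.subset_closure
    (shriekPred_of_subset g ((EtShriek.lowerShriek h).obj F) W _ _ hsuppt hT)⟩, ?_⟩
  exact toPush_sec h F ((EtCoh.bc g).obj W) r

set_option backward.isDefEq.respectTransparency.types false in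
/-- a section of `g_! h_! F` gives a section of `(h ≫ g)_! F`. -/
theorem exists_p (W : Z.Etale)
    (q : EtShriek.shriekSubgroup g ((EtShriek.lowerShriek h).obj F) W) :
    ∃ p : EtShriek.shriekSubgroup (h ≫ g) F W,
      F.obj.map (Einv h g W).op p.1 =
        (EtShriek.lowerShriekToPush h F).hom.app (op ((EtCoh.bc g).obj W)) q.1 := by
  obtain ⟨r, hr⟩ := (sec_bijective h F ((EtCoh.bc g).obj W)).2 q.1
  obtain ⟨T, hqT, hT⟩ := hasProperSupport_of_mem g ((EtShriek.lowerShriek h).obj F) W q.1 q.2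
  obtain ⟨S, hrS, hS⟩ := hasProperSupport_of_mem h F ((EtCoh.bc g).obj W) r.1 r.2
  have hcl : IsClosed (S ∩ EtShriek.prV h ((EtCoh.bc g).obj W) ⁻¹' T) :=
    hS.1.inter (hT.1.preimage (EtShriek.prV h ((EtCoh.bc g).obj W)).continuous)
  have hS''h : ClSub.IsProperOver (EtShriek.prV h ((EtCoh.bc g).obj W))
      (S ∩ EtShriek.prV h ((EtCoh.bc g).obj W) ⁻¹' T) :=
    isProperOver_of_subset _ S _ hS hcl Set.inter_subset_left
  have hsupp : EtShriek.sectSupp F ((EtCoh.bc h).obj ((EtCoh.bc g).obj W)) r.1 ⊆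
      S ∩ EtShriek.prV h ((EtCoh.bc g).obj W) ⁻¹' T := by
    intro x hx
    refine ⟨hrS hx, ?_⟩
    have h1 := image_sectSupp_subset h F ((EtCoh.bc g).obj W) r ⟨x, hx, rfl⟩
    rw [hr] at h1
    exact hqT h1
  have hS''W : ClSub.IsProperOver (EtShriek.prV h ((EtCoh.bc g).obj W) ≫ EtShriek.prV g W)
      (S ∩ EtShriek.prV h ((EtCoh.bc g).obj W) ⁻¹' T) := by
    refine isProperOver_comp _ _ _ T hS''h hT ?_
    rintro _ ⟨x, hx, rfl⟩
    exact hx.2
  have hS0 : ClSub.IsProperOver (EtShriek.prV (h ≫ g) W)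
      ((E h g W).left ⁻¹' (S ∩ EtShriek.prV h ((EtCoh.bc g).obj W) ⁻¹' T)) :=
    isProperOver_of_iso (E h g W).left
      (EtShriek.prV h ((EtCoh.bc g).obj W) ≫ EtShriek.prV g W) _ (E_left_pr h g W) _ hS''W
  have hsupp0 : EtShriek.sectSupp F ((EtCoh.bc (h ≫ g)).obj W) (F.obj.map (E h g W).op r.1) ⊆
      (E h g W).left ⁻¹' (S ∩ EtShriek.prV h ((EtCoh.bc g).obj W) ⁻¹' T) :=
    (sectSupp_map F (E h g W) r.1).trans (Set.preimage_mono hsupp)
  refine ⟨⟨F.obj.map (E h g W).op r.1, AddSubgroup.subset_closure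
    (shriekPred_of_subset (h ≫ g) F W _ _ hsupp0 hS0)⟩, ?_⟩
  have e1 : F.obj.map (Einv h g W).op (F.obj.map (E h g W).op r.1) = r.1 := by
    have : F.obj.map (E h g W).op ≫ F.obj.map (Einv h g W).op = 𝟙 _ := by
      rw [← F.obj.map_comp, ← op_comp, Einv_E, op_id, F.obj.map_id]
    exact congrArg (fun k => k r.1) this
  refine e1.trans ?_
  rw [← hr]
  exact (toPush_sec h F ((EtCoh.bc g).obj W) r).symm

end Sections

section Generic

variable {Z : Scheme.{u}}

/-- a morphism of abelian étale sheaves all of whose sections lie in the image of a monomorphism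
factors through it. -/
theorem exists_lift {A B T : EtCoh.Ab Z} (mA : A ⟶ T) (mB : B ⟶ T) [Mono mB]
    (H : ∀ (W : Z.Etale) (a : A.obj.obj (op W)), ∃ b : B.obj.obj (op W),
      mB.hom.app (op W) b = mA.hom.app (op W) a) :
    ∃ φ : A ⟶ B, φ ≫ mB = mA := by
  have h0 : mA ≫ cokernel.π mB = 0 := by
    apply Sheaf.hom_ext
    apply NatTrans.ext
    funext W
    apply ConcreteCategory.hom_ext
    intro a
    obtain ⟨b, hb⟩ := H W.unop a
    have h1 : (mA ≫ cokernel.π mB).hom.app W a =
        (cokernel.π mB).hom.app W (mA.hom.app W a) := rfl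
    have h2 : (cokernel.π mB).hom.app W (mB.hom.app W b) =
        (mB ≫ cokernel.π mB).hom.app W b := rfl
    have hb' : mB.hom.app W b = mA.hom.app W a := hb
    rw [h1, ← hb', h2, cokernel.condition]
    rfl
  exact ⟨Abelian.monoLift mB mA h0, Abelian.monoLift_comp mB mA h0⟩

end Generic

section Main

variable {X Y Z : Scheme.{u}} (h : X ⟶ Y) (g : Y ⟶ Z) [IsSeparated h] [LocallyOfFiniteType h]
  [IsSeparated g] [LocallyOfFiniteType g] (F : EtCoh.Ab X)

/-- naturality of `f_! ⟶ f_*`. -/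
theorem toPush_naturality {X Y : Scheme.{u}} (f : X ⟶ Y) [LocallyOfFiniteType f]
    {F G : EtCoh.Ab X} (α : F ⟶ G) :
    (EtShriek.lowerShriek f).map α ≫ EtShriek.lowerShriekToPush f G =
      EtShriek.lowerShriekToPush f F ≫ (EtCoh.push f).map α := by
  apply Sheaf.hom_ext
  apply NatTrans.ext
  funext W
  apply ConcreteCategory.hom_ext
  intro a
  obtain ⟨r, rfl⟩ := (sec_bijective f F W.unop).2 a
  have h1 : ((EtShriek.lowerShriek f).map α ≫ EtShriek.lowerShriekToPush f G).hom.app W
      (sec f F W.unop r) = (EtShriek.lowerShriekToPush f G).hom.app (op W.unop)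
        (((EtShriek.lowerShriek f).map α).hom.app (op W.unop) (sec f F W.unop r)) := rfl
  have h2 : (EtShriek.lowerShriekToPush f F ≫ (EtCoh.push f).map α).hom.app W
      (sec f F W.unop r) = ((EtCoh.push f).map α).hom.app (op W.unop)
        ((EtShriek.lowerShriekToPush f F).hom.app (op W.unop) (sec f F W.unop r)) := rfl
  refine h1.trans (Eq.trans ?_ h2.symm)
  rw [map_sec, toPush_sec, toPush_sec]
  rfl

/-- the inclusion `(h ≫ g)_! F ⟶ g_* h_* F`. -/
noncomputable abbrev mA : (EtShriek.lowerShriek (h ≫ g)).obj F ⟶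
    (EtCoh.push g).obj ((EtCoh.push h).obj F) :=
  EtShriek.lowerShriekToPush (h ≫ g) F ≫ (EtCoh.pushComp g h).inv.app F

/-- the inclusion `g_! h_! F ⟶ g_* h_* F`. -/
noncomputable abbrev mB : (EtShriek.lowerShriek g).obj ((EtShriek.lowerShriek h).obj F) ⟶
    (EtCoh.push g).obj ((EtCoh.push h).obj F) :=
  (EtShriek.lowerShriek g).map (EtShriek.lowerShriekToPush h F) ≫
    EtShriek.lowerShriekToPush g ((EtCoh.push h).obj F)

set_option backward.isDefEq.respectTransparency.types false in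
theorem mA_sec (W : Z.Etale) (p : EtShriek.shriekSubgroup (h ≫ g) F W) :
    (mA h g F).hom.app (op W) (sec (h ≫ g) F W p) = F.obj.map (Einv h g W).op p.1 := by
  have h1 : (mA h g F).hom.app (op W) (sec (h ≫ g) F W p) =
      ((EtCoh.pushComp g h).inv.app F).hom.app (op W)
        ((EtShriek.lowerShriekToPush (h ≫ g) F).hom.app (op W) (sec (h ≫ g) F W p)) := rfl
  rw [h1, toPush_sec, Groth.Agent.Lib.Helper8FinBC.pushComp_inv_app_hom_app]
  rfl

set_option backward.isDefEq.respectTransparency.types false in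
theorem mB_sec (W : Z.Etale)
    (q : EtShriek.shriekSubgroup g ((EtShriek.lowerShriek h).obj F) W) :
    (mB h g F).hom.app (op W) (sec g ((EtShriek.lowerShriek h).obj F) W q) =
      (EtShriek.lowerShriekToPush h F).hom.app (op ((EtCoh.bc g).obj W)) q.1 := by
  have h1 : (mB h g F).hom.app (op W) (sec g ((EtShriek.lowerShriek h).obj F) W q) =
      (EtShriek.lowerShriekToPush g ((EtCoh.push h).obj F)).hom.app (op W)
        (((EtShriek.lowerShriek g).map (EtShriek.lowerShriekToPush h F)).hom.app (op W)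
          (sec g ((EtShriek.lowerShriek h).obj F) W q)) := rfl
  rw [h1, map_sec, toPush_sec]
  rfl

set_option backward.isDefEq.respectTransparency.types false in
instance mono_mA : Mono (mA h g F) := by
  apply Sheaf.mono_of_injective
  intro W
  refine (injective_iff_map_eq_zero ((mA h g F).hom.app W).hom).2 ?_
  intro a ha
  obtain ⟨p, rfl⟩ := (sec_bijective (h ≫ g) F W.unop).2 a
  have h1 : F.obj.map (Einv h g W.unop).op p.1 = 0 := (mA_sec h g F W.unop p).symm.trans ha
  have e1 : F.obj.map (E h g W.unop).op (F.obj.map (Einv h g W.unop).op p.1) = p.1 := by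
    have : F.obj.map (Einv h g W.unop).op ≫ F.obj.map (E h g W.unop).op = 𝟙 _ := by
      rw [← F.obj.map_comp, ← op_comp, E_Einv, op_id, F.obj.map_id]
    exact congrArg (fun k => k p.1) this
  have h2 : p.1 = 0 := by
    rw [← e1, h1, map_zero]
  have h3 : p = 0 := Subtype.ext h2
  rw [h3]
  exact sec_zero (h ≫ g) F W.unop

set_option backward.isDefEq.respectTransparency.types false in
instance mono_mB : Mono (mB h g F) := by
  apply Sheaf.mono_of_injective
  intro W
  refine (injective_iff_map_eq_zero ((mB h g F).hom.app W).hom).2 ?_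
  intro b hb
  obtain ⟨q, rfl⟩ := (sec_bijective g ((EtShriek.lowerShriek h).obj F) W.unop).2 b
  have h1 : (EtShriek.lowerShriekToPush h F).hom.app (op ((EtCoh.bc g).obj W.unop)) q.1 = 0 :=
    (mB_sec h g F W.unop q).symm.trans hb
  obtain ⟨r, hr⟩ := (sec_bijective h F ((EtCoh.bc g).obj W.unop)).2 q.1
  rw [← hr, toPush_sec] at h1
  have h2 : r = 0 := Subtype.ext h1
  have h3 : q.1 = 0 := by
    rw [← hr, h2]
    exact sec_zero h F _
  have h4 : q = 0 := Subtype.ext h3
  rw [h4]
  exact sec_zero g _ W.unop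

theorem mA_naturality {F G : EtCoh.Ab X} (α : F ⟶ G) :
    (EtShriek.lowerShriek (h ≫ g)).map α ≫ mA h g G =
      mA h g F ≫ (EtCoh.push g).map ((EtCoh.push h).map α) := by
  have h1 := toPush_naturality (h ≫ g) α
  have h2 := (EtCoh.pushComp g h).inv.naturality α
  calc (EtShriek.lowerShriek (h ≫ g)).map α ≫ mA h g G
      = ((EtShriek.lowerShriek (h ≫ g)).map α ≫ EtShriek.lowerShriekToPush (h ≫ g) G) ≫
          (EtCoh.pushComp g h).inv.app G := (Category.assoc _ _ _).symm
    _ = (EtShriek.lowerShriekToPush (h ≫ g) F ≫ (EtCoh.push (h ≫ g)).map α) ≫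
          (EtCoh.pushComp g h).inv.app G := by rw [h1]
    _ = EtShriek.lowerShriekToPush (h ≫ g) F ≫ (EtCoh.push (h ≫ g)).map α ≫
          (EtCoh.pushComp g h).inv.app G := Category.assoc _ _ _
    _ = EtShriek.lowerShriekToPush (h ≫ g) F ≫ (EtCoh.pushComp g h).inv.app F ≫
          (EtCoh.push g).map ((EtCoh.push h).map α) := by rw [h2]; rfl
    _ = mA h g F ≫ (EtCoh.push g).map ((EtCoh.push h).map α) := (Category.assoc _ _ _).symm

theorem mB_naturality {F G : EtCoh.Ab X} (α : F ⟶ G) :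
    (EtShriek.lowerShriek g).map ((EtShriek.lowerShriek h).map α) ≫ mB h g G =
      mB h g F ≫ (EtCoh.push g).map ((EtCoh.push h).map α) := by
  have h1 := toPush_naturality h α
  have h2 := toPush_naturality g ((EtCoh.push h).map α)
  calc (EtShriek.lowerShriek g).map ((EtShriek.lowerShriek h).map α) ≫ mB h g G
      = ((EtShriek.lowerShriek g).map ((EtShriek.lowerShriek h).map α) ≫
          (EtShriek.lowerShriek g).map (EtShriek.lowerShriekToPush h G)) ≫
          EtShriek.lowerShriekToPush g ((EtCoh.push h).obj G) := (Category.assoc _ _ _).symm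
    _ = ((EtShriek.lowerShriek g).map (EtShriek.lowerShriekToPush h F) ≫
          (EtShriek.lowerShriek g).map ((EtCoh.push h).map α)) ≫
          EtShriek.lowerShriekToPush g ((EtCoh.push h).obj G) := by
        rw [← (EtShriek.lowerShriek g).map_comp, h1, (EtShriek.lowerShriek g).map_comp]
    _ = (EtShriek.lowerShriek g).map (EtShriek.lowerShriekToPush h F) ≫
          (EtShriek.lowerShriek g).map ((EtCoh.push h).map α) ≫
          EtShriek.lowerShriekToPush g ((EtCoh.push h).obj G) := Category.assoc _ _ _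
    _ = (EtShriek.lowerShriek g).map (EtShriek.lowerShriekToPush h F) ≫
          EtShriek.lowerShriekToPush g ((EtCoh.push h).obj F) ≫
          (EtCoh.push g).map ((EtCoh.push h).map α) := by rw [h2]
    _ = mB h g F ≫ (EtCoh.push g).map ((EtCoh.push h).map α) := (Category.assoc _ _ _).symm

set_option backward.isDefEq.respectTransparency.types false in
theorem exists_hom : ∃ φ : (EtShriek.lowerShriek (h ≫ g)).obj F ⟶
    (EtShriek.lowerShriek g).obj ((EtShriek.lowerShriek h).obj F), φ ≫ mB h g F = mA h g F := by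
  apply exists_lift
  intro W a
  obtain ⟨p, rfl⟩ := (sec_bijective (h ≫ g) F W).2 a
  obtain ⟨q, hq⟩ := exists_q h g F W p
  refine ⟨sec g _ W q, ?_⟩
  rw [mB_sec, mA_sec, hq]

set_option backward.isDefEq.respectTransparency.types false in
theorem exists_inv : ∃ ψ : (EtShriek.lowerShriek g).obj ((EtShriek.lowerShriek h).obj F) ⟶
    (EtShriek.lowerShriek (h ≫ g)).obj F, ψ ≫ mA h g F = mB h g F := by
  apply exists_lift
  intro W b
  obtain ⟨q, rfl⟩ := (sec_bijective g ((EtShriek.lowerShriek h).obj F) W).2 b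
  obtain ⟨p, hp⟩ := exists_p h g F W q
  refine ⟨sec (h ≫ g) F W p, ?_⟩
  rw [mB_sec, mA_sec, hp]

theorem exists_iso : ∃ φ : (EtShriek.lowerShriek (h ≫ g)).obj F ≅
    (EtShriek.lowerShriek g).obj ((EtShriek.lowerShriek h).obj F),
    φ.hom ≫ mB h g F = mA h g F := by
  obtain ⟨φ, hφ⟩ := exists_hom h g F
  obtain ⟨ψ, hψ⟩ := exists_inv h g F
  refine ⟨⟨φ, ψ, ?_, ?_⟩, hφ⟩
  · rw [← cancel_mono (mA h g F), Category.assoc, hψ, hφ, Category.id_comp]
  · rw [← cancel_mono (mB h g F), Category.assoc, hφ, hψ, Category.id_comp]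

/-- the compatible isomorphism `(h ≫ g)_! ≅ h_! ⋙ g_!` and its uniqueness. -/
theorem main :
    ∃! φ : EtShriek.lowerShriek (h ≫ g) ≅ EtShriek.lowerShriek h ⋙ EtShriek.lowerShriek g,
      ∀ F : EtCoh.Ab X,
        φ.hom.app F ≫ (EtShriek.lowerShriek g).map (EtShriek.lowerShriekToPush h F) ≫
            EtShriek.lowerShriekToPush g ((EtCoh.push h).obj F) =
          EtShriek.lowerShriekToPush (h ≫ g) F ≫ (EtCoh.pushComp g h).inv.app F := by
  choose φ hφ using fun F => exists_iso h g F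
  refine ⟨NatIso.ofComponents φ ?_, ?_, ?_⟩
  · intro F G α
    have h1 := mB_naturality h g α
    have h2 := mA_naturality h g α
    apply (cancel_mono (mB h g G)).1
    calc ((EtShriek.lowerShriek (h ≫ g)).map α ≫ (φ G).hom) ≫ mB h g G
        = (EtShriek.lowerShriek (h ≫ g)).map α ≫ (φ G).hom ≫ mB h g G := Category.assoc _ _ _
      _ = (EtShriek.lowerShriek (h ≫ g)).map α ≫ mA h g G := by rw [hφ G]
      _ = mA h g F ≫ (EtCoh.push g).map ((EtCoh.push h).map α) := h2
      _ = ((φ F).hom ≫ mB h g F) ≫ (EtCoh.push g).map ((EtCoh.push h).map α) := by rw [hφ F]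
      _ = (φ F).hom ≫ mB h g F ≫ (EtCoh.push g).map ((EtCoh.push h).map α) :=
          Category.assoc _ _ _
      _ = (φ F).hom ≫ (EtShriek.lowerShriek g).map ((EtShriek.lowerShriek h).map α) ≫
            mB h g G := by rw [h1]
      _ = ((φ F).hom ≫ (EtShriek.lowerShriek g).map ((EtShriek.lowerShriek h).map α)) ≫
            mB h g G := (Category.assoc _ _ _).symm
  · intro F
    exact hφ F
  · intro φ' hφ'
    apply Iso.ext
    apply NatTrans.ext
    funext F
    rw [← cancel_mono (mB h g F)]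
    exact (hφ' F).trans (hφ F).symm

end Main

end Groth.Agent.Lib.Helper8ShriekComp
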