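import Groth.Prelude
import Groth.Agent.Lib.Helper8ShriekComp
import Groth.Agent.Lib.Helper8EtRecoll

/-!
# `f_!` for open immersions and proper morphisms (helper8)

* `properIso f : f_! ≅ f_*` for `f` proper.
* `openIso j : j_! (sections with proper support) ≅ extZero j` for an open immersion `j`.
* `compactificationIso`: `f_! ≅ j_! ⋙ fb_*` for `f = j ≫ fb`.
-/

set_option autoImplicit false
universe u
open CategoryTheory CategoryTheory.Limits AlgebraicGeometry Opposite

namespace Groth.Agent.Lib.Helper8ShriekOpen

open Groth.Agent.Lib.Helper16.EtStalk Groth.Agent.Lib.Helper16.SmallEtale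
open Groth.Agent.Lib.Helper8ShriekSupp Groth.Agent.Lib.Helper8ShriekStalk
open Groth.Agent.Lib.Helper8ShriekSheaf Groth.Agent.Lib.Helper8ProperOverLocal
open Groth.Agent.Lib.Helper8ShriekSections Groth.Agent.Lib.Helper8ShriekComp
open Groth.Agent.Lib.Helper1
open Groth.Agent.Lib.Helper16.StalkPull Groth.Agent.Lib.Helper16.EtSupp

section General

variable {X Y : Scheme.{u}} (f : X ⟶ Y) [LocallyOfFiniteType f] (F : EtCoh.Ab X)

theorem toPush_injective (V : Y.Etale) :
    Function.Injective ((EtShriek.lowerShriekToPush f F).hom.app (op V)) := by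
  refine (injective_iff_map_eq_zero ((EtShriek.lowerShriekToPush f F).hom.app (op V)).hom).2 ?_
  intro a ha
  obtain ⟨r, rfl⟩ := (sec_bijective f F V).2 a
  have h1 : r.1 = 0 := (toPush_sec f F V r).symm.trans ha
  have h2 : r = 0 := Subtype.ext h1
  rw [h2]
  exact sec_zero f F V

theorem isProperOver_univ {P S : Scheme.{u}} (p : P ⟶ S) [IsProper p] :
    ClSub.IsProperOver p Set.univ := by
  refine (isProperOver_iff_isProper_comp p (𝟙 P) Set.univ ?_).2 ?_
  · ext x
    simp
  · rw [Category.id_comp]
    infer_instance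

set_option backward.isDefEq.respectTransparency.types false in
theorem toPush_surjective_of_isProper (V : Y.Etale) [IsProper (EtShriek.prV f V)] :
    Function.Surjective ((EtShriek.lowerShriekToPush f F).hom.app (op V)) := by
  intro s
  refine ⟨sec f F V ⟨s, AddSubgroup.subset_closure
    (shriekPred_of_subset f F V s Set.univ (Set.subset_univ _)
      (isProperOver_univ (EtShriek.prV f V)))⟩, ?_⟩
  exact toPush_sec f F V _

set_option backward.isDefEq.respectTransparency.types false in
/-- the stalk of `f_! F` vanishes at geometric points outside the image of `f`. -/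
theorem isZero_stalk_lowerShriek {Ω : Type u} [Field Ω] [IsSepClosed Ω]
    (ξ : Spec (CommRingCat.of Ω) ⟶ Y)
    (hξ : ξ (default : Spec (CommRingCat.of Ω)) ∉ Set.range f.base) :
    IsZero ((EtCoh.stalk ξ).obj ((EtShriek.lowerShriek f).obj F)) := by
  rw [AddCommGrpCat.isZero_iff_subsingleton]
  suffices h : ∀ x : ToType ((EtCoh.stalk ξ).obj ((EtShriek.lowerShriek f).obj F)), x = 0 from
    ⟨fun a b => (h a).trans (h b).symm⟩
  intro x
  obtain ⟨V, v, s, rfl⟩ := (Scheme.pointSmallEtale ξ).toPresheafFiber_jointly_surjective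
    (P := ((EtShriek.lowerShriek f).obj F).obj) x
  obtain ⟨r, rfl⟩ := (sec_bijective f F V).2 s
  obtain ⟨Z, hZ, hprop⟩ := hasProperSupport_of_mem f F V r.1 r.2
  have hsub := sectSupp_sec_subset f F V r Z hZ hprop
  refine (germ_eq_zero_iff ((EtShriek.lowerShriek f).obj F) ξ V v (sec f F V r) _ rfl).2 ?_
  intro hmem
  obtain ⟨z, -, hz⟩ := hsub hmem
  apply hξ
  refine ⟨(pullback.snd V.hom f : pullback V.hom f ⟶ X) z, ?_⟩
  have h1 : f ((pullback.snd V.hom f : pullback V.hom f ⟶ X) z) =
      V.hom ((pullback.fst V.hom f : pullback V.hom f ⟶ V.left) z) :=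
    (Groth.Agent.Lib.Helper8FinPushDecomp.apply_comm _ _ _ _ pullback.condition z).symm
  have h2 : V.hom ((v.left : Spec (CommRingCat.of Ω) ⟶ V.left)
      (default : Spec (CommRingCat.of Ω))) = ξ (default : Spec (CommRingCat.of Ω)) :=
    comp_apply_eq _ _ _ (Over.w v) _
  refine h1.trans ?_
  rw [← h2]
  exact congrArg _ hz

end General

section Proper

variable {X Y : Scheme.{u}} (f : X ⟶ Y) [IsProper f] (F : EtCoh.Ab X)

instance isProper_prV (V : Y.Etale) : IsProper (EtShriek.prV f V) :=
  MorphismProperty.pullback_fst (P := @IsProper) V.hom f inferInstance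

theorem isIso_of_bijective_sections {Z : Scheme.{u}} {A B : EtCoh.Ab Z} (m : A ⟶ B)
    (h : ∀ W : Z.Etale, Function.Bijective (m.hom.app (op W))) : IsIso m := by
  have h1 : IsIso ((sheafToPresheaf _ _).map m) := by
    apply (config := { allowSynthFailures := true }) NatIso.isIso_of_isIso_app
    intro V
    exact (ConcreteCategory.isIso_iff_bijective _).2 (h V.unop)
  exact isIso_of_reflects_iso _ (sheafToPresheaf _ _)

instance isIso_toPush_of_isProper : IsIso (EtShriek.lowerShriekToPush f F) :=
  isIso_of_bijective_sections _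
    (fun W => ⟨toPush_injective f F W, toPush_surjective_of_isProper f F W⟩)

/-- `f_! ≅ f_*` for `f` proper. -/
noncomputable def properIso : EtShriek.lowerShriek f ≅ EtCoh.push f :=
  NatIso.ofComponents (fun F => asIso (EtShriek.lowerShriekToPush f F))
    (fun α => toPush_naturality f α)

end Proper

section Open

variable {U X : Scheme.{u}} (j : U ⟶ X) [IsOpenImmersion j] [AlgebraicGeometry.Etale j]
  [EtShriek.JCont j]

set_option backward.isDefEq.respectTransparency.types false in
/-- the counit `j_! j^{-1} G ⟶ G` is an isomorphism when the stalks of `G` vanish outside `U`. -/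
theorem isIso_counit_of_isZero_stalks (G : EtCoh.Ab X)
    (hzero : ∀ (Ω : Type u) [Field Ω] [IsSepClosed Ω] (ξ : Spec (CommRingCat.of Ω) ⟶ X),
      ξ (default : Spec (CommRingCat.of Ω)) ∉ Set.range j.base →
        IsZero ((EtCoh.stalk ξ).obj G)) :
    IsIso ((EtShriek.extZeroAdj j).counit.app G) := by
  have hbij : ∀ (Ω : Type u) [Field Ω] [IsSepClosed Ω] (ξ : Spec (CommRingCat.of Ω) ⟶ X),
      Function.Bijective ((EtCoh.stalk ξ).map ((EtShriek.extZeroAdj j).counit.app G)) := by
    intro Ω _ _ ξ
    by_cases hξ : ξ (default : Spec (CommRingCat.of Ω)) ∈ Set.range j.base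
    · obtain ⟨v, rfl⟩ : ∃ v : Spec (CommRingCat.of Ω) ⟶ U, v ≫ j = ξ := by
        refine ⟨IsOpenImmersion.lift j ξ ?_, IsOpenImmersion.lift_fac _ _ _⟩
        rw [Groth.Agent.S0652.range_spec_field]
        exact Set.singleton_subset_iff.mpr hξ
      exact Groth.Agent.Lib.Helper8EtRecoll.bijective_stalk_counit j G v
    · have hz1 := hzero Ω ξ hξ
      have hz2 := Groth.Agent.Lib.Helper8EtRecoll.isZero_stalk_extZero j
        ((EtShriek.restrAlong j).obj G) ξ hξ
      have s1 := AddCommGrpCat.isZero_iff_subsingleton.mp hz1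
      have s2 := AddCommGrpCat.isZero_iff_subsingleton.mp hz2
      constructor
      · intro a b _
        exact @Subsingleton.elim _ s2 a b
      · intro b
        exact ⟨0, @Subsingleton.elim _ s1 _ _⟩
  have hm : Mono ((EtShriek.extZeroAdj j).counit.app G) :=
    mono_of_stalks _ (fun Ω _ _ ξ => (hbij Ω ξ).1)
  have he : Epi ((EtShriek.extZeroAdj j).counit.app G) :=
    epi_of_stalks _ (fun Ω _ _ ξ => (hbij Ω ξ).2)
  exact isIso_of_mono_of_epi _

instance isIso_counit_lowerShriek (F : EtCoh.Ab U) :
    IsIso ((EtShriek.extZeroAdj j).counit.app ((EtShriek.lowerShriek j).obj F)) :=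
  isIso_counit_of_isZero_stalks j _ (fun Ω _ _ ξ hξ => isZero_stalk_lowerShriek j F ξ hξ)

set_option backward.isDefEq.respectTransparency.types false in
instance isProper_prV_compEtale (V : U.Etale) :
    IsProper (EtShriek.prV j ((EtShriek.compEtale j).obj V)) := by
  haveI : IsIso (EtShriek.prV j ((EtShriek.compEtale j).obj V)) :=
    pullback_snd_iso_of_left_factors_mono V.hom j
  infer_instance

set_option backward.isDefEq.respectTransparency.types false in
instance isIso_restr_toPush (F : EtCoh.Ab U) :
    IsIso ((EtShriek.restrAlong j).map (EtShriek.lowerShriekToPush j F)) := by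
  apply isIso_of_bijective_sections
  intro V
  exact ⟨toPush_injective j F ((EtShriek.compEtale j).obj V),
    toPush_surjective_of_isProper j F ((EtShriek.compEtale j).obj V)⟩

/-- `j^{-1} j_! F ≅ F`, naturally in `F`. -/
noncomputable def rho (F : EtCoh.Ab U) : (EtShriek.restrAlong j).obj ((EtShriek.lowerShriek j).obj F) ≅ F :=
  haveI := Groth.Agent.S0651.isIso_counit j F
  asIso ((EtShriek.restrAlong j).map (EtShriek.lowerShriekToPush j F)) ≪≫
    asIso ((Groth.Agent.S0651.restrPushAdj j).counit.app F)

theorem rho_naturality {F G : EtCoh.Ab U} (α : F ⟶ G) :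
    (EtShriek.restrAlong j).map ((EtShriek.lowerShriek j).map α) ≫ (rho j G).hom =
      (rho j F).hom ≫ α := by
  have h1 := toPush_naturality j α
  have h2 := (Groth.Agent.S0651.restrPushAdj j).counit.naturality α
  calc (EtShriek.restrAlong j).map ((EtShriek.lowerShriek j).map α) ≫ (rho j G).hom
      = ((EtShriek.restrAlong j).map ((EtShriek.lowerShriek j).map α) ≫
          (EtShriek.restrAlong j).map (EtShriek.lowerShriekToPush j G)) ≫
          (Groth.Agent.S0651.restrPushAdj j).counit.app G := (Category.assoc _ _ _).symm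
    _ = ((EtShriek.restrAlong j).map (EtShriek.lowerShriekToPush j F) ≫
          (EtShriek.restrAlong j).map ((EtCoh.push j).map α)) ≫
          (Groth.Agent.S0651.restrPushAdj j).counit.app G := by
        rw [← (EtShriek.restrAlong j).map_comp, h1, (EtShriek.restrAlong j).map_comp]
    _ = (EtShriek.restrAlong j).map (EtShriek.lowerShriekToPush j F) ≫
          (EtShriek.restrAlong j).map ((EtCoh.push j).map α) ≫
          (Groth.Agent.S0651.restrPushAdj j).counit.app G := Category.assoc _ _ _
    _ = (EtShriek.restrAlong j).map (EtShriek.lowerShriekToPush j F) ≫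
          (Groth.Agent.S0651.restrPushAdj j).counit.app F ≫ α := by
        congr 1
    _ = (rho j F).hom ≫ α := (Category.assoc _ _ _).symm

theorem openIso_naturality {F G : EtCoh.Ab U} (α : F ⟶ G) :
    (EtShriek.lowerShriek j).map α ≫
      (inv ((EtShriek.extZeroAdj j).counit.app ((EtShriek.lowerShriek j).obj G)) ≫
        (EtShriek.extZero j).map (rho j G).hom) =
    (inv ((EtShriek.extZeroAdj j).counit.app ((EtShriek.lowerShriek j).obj F)) ≫
        (EtShriek.extZero j).map (rho j F).hom) ≫ (EtShriek.extZero j).map α := by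
  have h1 : (EtShriek.extZero j).map ((EtShriek.restrAlong j).map ((EtShriek.lowerShriek j).map α)) ≫
      (EtShriek.extZeroAdj j).counit.app ((EtShriek.lowerShriek j).obj G) =
    (EtShriek.extZeroAdj j).counit.app ((EtShriek.lowerShriek j).obj F) ≫
      (EtShriek.lowerShriek j).map α :=
    (EtShriek.extZeroAdj j).counit.naturality ((EtShriek.lowerShriek j).map α)
  have h2 := rho_naturality j α
  have key1 : (EtShriek.lowerShriek j).map α ≫
      inv ((EtShriek.extZeroAdj j).counit.app ((EtShriek.lowerShriek j).obj G)) =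
      inv ((EtShriek.extZeroAdj j).counit.app ((EtShriek.lowerShriek j).obj F)) ≫
        (EtShriek.extZero j).map
          ((EtShriek.restrAlong j).map ((EtShriek.lowerShriek j).map α)) := by
    rw [IsIso.comp_inv_eq, Category.assoc, IsIso.eq_inv_comp]
    exact h1.symm
  calc (EtShriek.lowerShriek j).map α ≫
      (inv ((EtShriek.extZeroAdj j).counit.app ((EtShriek.lowerShriek j).obj G)) ≫
        (EtShriek.extZero j).map (rho j G).hom)
      = ((EtShriek.lowerShriek j).map α ≫
          inv ((EtShriek.extZeroAdj j).counit.app ((EtShriek.lowerShriek j).obj G))) ≫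
        (EtShriek.extZero j).map (rho j G).hom := (Category.assoc _ _ _).symm
    _ = (inv ((EtShriek.extZeroAdj j).counit.app ((EtShriek.lowerShriek j).obj F)) ≫
          (EtShriek.extZero j).map
            ((EtShriek.restrAlong j).map ((EtShriek.lowerShriek j).map α))) ≫
        (EtShriek.extZero j).map (rho j G).hom := by rw [key1]
    _ = inv ((EtShriek.extZeroAdj j).counit.app ((EtShriek.lowerShriek j).obj F)) ≫
          ((EtShriek.extZero j).map
            ((EtShriek.restrAlong j).map ((EtShriek.lowerShriek j).map α)) ≫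
        (EtShriek.extZero j).map (rho j G).hom) := Category.assoc _ _ _
    _ = inv ((EtShriek.extZeroAdj j).counit.app ((EtShriek.lowerShriek j).obj F)) ≫
          ((EtShriek.extZero j).map (rho j F).hom ≫ (EtShriek.extZero j).map α) := by
        rw [← (EtShriek.extZero j).map_comp, h2, (EtShriek.extZero j).map_comp]
    _ = _ := (Category.assoc _ _ _).symm

/-- for an open immersion, direct image with proper support is extension by zero. -/
noncomputable def openIso : EtShriek.lowerShriek j ≅ EtShriek.extZero j :=
  NatIso.ofComponents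
    (fun F => (asIso ((EtShriek.extZeroAdj j).counit.app ((EtShriek.lowerShriek j).obj F))).symm ≪≫
      (EtShriek.extZero j).mapIso (rho j F))
    (fun α => openIso_naturality j α)

end Open

end Groth.Agent.Lib.Helper8ShriekOpen
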