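import Groth.Prelude
import Groth.Agent.Lib.Helper8ShriekOpen
import Groth.Agent.Lib.Helper8PointSumIso
import Groth.Agent.Lib.Helper20FinHom
import Groth.Agent.S0647

/-!
# `j_!` for a separated étale morphism: extension by zero is direct image with proper support
(helper8)
-/

set_option autoImplicit false
universe u
open CategoryTheory CategoryTheory.Limits AlgebraicGeometry Opposite

namespace Groth.Agent.Lib.Helper8ShriekEtale

open Groth.Agent.Lib.Helper16.EtStalk Groth.Agent.Lib.Helper16.SmallEtale
open Groth.Agent.Lib.Helper8ShriekSupp Groth.Agent.Lib.Helper8ShriekStalk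
open Groth.Agent.Lib.Helper8ShriekSheaf Groth.Agent.Lib.Helper8ProperOverLocal
open Groth.Agent.Lib.Helper8ShriekSections Groth.Agent.Lib.Helper8ShriekComp
open Groth.Agent.Lib.Helper8ShriekOpen
open Groth.Agent.Lib.Helper1
open Groth.Agent.Lib.Helper16.StalkPull Groth.Agent.Lib.Helper16.EtSupp

section Graph

variable {U X : Scheme.{u}} (j : U ⟶ X) [AlgebraicGeometry.Etale j]

/-- the graph `V ⟶ U ×_X V` of an étale `U`-scheme `V`, as a morphism of the small étale site
of `U`. -/
noncomputable def gr (V : U.Etale) :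
    V ⟶ (EtCoh.bc j).obj ((EtShriek.compEtale j).obj V) :=
  (Groth.Agent.S0651.compBcAdj j).unit.app V

set_option backward.isDefEq.respectTransparency.types false in
theorem gr_left (V : U.Etale) :
    (gr j V).left = pullback.lift (𝟙 V.left) V.hom (by
      change 𝟙 V.left ≫ V.hom ≫ j = V.hom ≫ j
      exact Category.id_comp _) := rfl

set_option backward.isDefEq.respectTransparency.types false in
theorem gr_left_fst (V : U.Etale) :
    (gr j V).left ≫ EtShriek.prV j ((EtShriek.compEtale j).obj V) = 𝟙 V.left := by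
  rw [gr_left]
  exact pullback.lift_fst _ _ _

set_option backward.isDefEq.respectTransparency.types false in
theorem gr_left_snd (V : U.Etale) :
    (gr j V).left ≫ (pullback.snd (V.hom ≫ j) j) = V.hom := by
  rw [gr_left]
  exact pullback.lift_snd _ _ _

theorem gr_naturality {V' V : U.Etale} (a : V' ⟶ V) :
    a ≫ gr j V = gr j V' ≫ (EtCoh.bc j).map ((EtShriek.compEtale j).map a) :=
  (Groth.Agent.S0651.compBcAdj j).unit.naturality a

end Graph

section Ext

variable {U X : Scheme.{u}} (j : U ⟶ X) [AlgebraicGeometry.Etale j] [IsSeparated j]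
  (F : EtCoh.Ab U)

instance etale_prV (V : X.Etale) : AlgebraicGeometry.Etale (EtShriek.prV j V) :=
  MorphismProperty.pullback_fst (P := @AlgebraicGeometry.Etale) V.hom j inferInstance

instance isSeparated_prV' (V : X.Etale) : IsSeparated (EtShriek.prV j V) :=
  MorphismProperty.pullback_fst (P := @IsSeparated) V.hom j inferInstance

instance isOpenImmersion_gr (V : U.Etale) : IsOpenImmersion (gr j V).left :=
  Groth.Agent.Lib.Helper20.FinHom.isOpenImmersion_of_section
    (EtShriek.prV j ((EtShriek.compEtale j).obj V)) (gr j V).left (gr_left_fst j V)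

instance isClosedImmersion_gr (V : U.Etale) : IsClosedImmersion (gr j V).left :=
  Groth.Agent.Lib.Helper20.FinHom.isClosedImmersion_of_section
    (EtShriek.prV j ((EtShriek.compEtale j).obj V)) (gr j V).left (gr_left_fst j V)

theorem isProperOver_range_gr (V : U.Etale) :
    ClSub.IsProperOver (EtShriek.prV j ((EtShriek.compEtale j).obj V))
      (Set.range (gr j V).left) := by
  refine (isProperOver_iff_isProper_comp (EtShriek.prV j ((EtShriek.compEtale j).obj V))
    (gr j V).left _ rfl).2 ?_
  rw [gr_left_fst]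
  exact (inferInstance : IsProper (𝟙 (V.left : Scheme.{u})))

set_option backward.isDefEq.respectTransparency.types false in
theorem exists_ext (V : U.Etale) (s : F.obj.obj (op V)) :
    ∃ x : F.obj.obj (op ((EtCoh.bc j).obj ((EtShriek.compEtale j).obj V))),
      F.obj.map (gr j V).op x = s ∧
        EtShriek.sectSupp F _ x ⊆ Set.range (gr j V).left := by
  obtain ⟨x, h1, h2⟩ := exists_ext_by_zero F ((EtCoh.bc j).obj ((EtShriek.compEtale j).obj V))
    (gr j V).left.opensRange (gr j V).left.isClosedEmbedding.isClosed_range V (gr j V)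
    inferInstance rfl s
  exact ⟨x, h1, h2⟩

set_option backward.isDefEq.respectTransparency.types false in
theorem ext_unique (V : U.Etale)
    (x x' : F.obj.obj (op ((EtCoh.bc j).obj ((EtShriek.compEtale j).obj V))))
    (h : F.obj.map (gr j V).op x = F.obj.map (gr j V).op x')
    (hx : EtShriek.sectSupp F _ x ⊆ Set.range (gr j V).left)
    (hx' : EtShriek.sectSupp F _ x' ⊆ Set.range (gr j V).left) : x = x' := by
  rw [← sub_eq_zero]
  apply eq_zero_of_sectSupp_empty
  rw [Set.eq_empty_iff_forall_notMem]
  intro p hp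
  have h0 : F.obj.map (gr j V).op (x - x') = 0 := by
    rw [map_sub, h, sub_self]
  have hsub : EtShriek.sectSupp F _ (x - x') ⊆ Set.range (gr j V).left := by
    rw [sub_eq_add_neg]
    refine (sectSupp_add_subset F _ x (-x')).trans (Set.union_subset hx ?_)
    exact (sectSupp_neg_subset F _ x').trans hx'
  obtain ⟨v, rfl⟩ := hsub hp
  exact notMem_sectSupp_of_map_eq_zero F (gr j V) (x - x') h0 v hp

/-- extension by zero of a section along the graph. -/
noncomputable def gam (V : U.Etale) (s : F.obj.obj (op V)) :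
    F.obj.obj (op ((EtCoh.bc j).obj ((EtShriek.compEtale j).obj V))) :=
  (exists_ext j F V s).choose

theorem gam_restr (V : U.Etale) (s : F.obj.obj (op V)) :
    F.obj.map (gr j V).op (gam j F V s) = s := (exists_ext j F V s).choose_spec.1

theorem gam_supp (V : U.Etale) (s : F.obj.obj (op V)) :
    EtShriek.sectSupp F _ (gam j F V s) ⊆ Set.range (gr j V).left :=
  (exists_ext j F V s).choose_spec.2

theorem eq_gam (V : U.Etale) (s : F.obj.obj (op V))
    (x : F.obj.obj (op ((EtCoh.bc j).obj ((EtShriek.compEtale j).obj V))))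
    (h1 : F.obj.map (gr j V).op x = s)
    (h2 : EtShriek.sectSupp F _ x ⊆ Set.range (gr j V).left) : x = gam j F V s :=
  ext_unique j F V x _ (h1.trans (gam_restr j F V s).symm) h2 (gam_supp j F V s)

theorem gam_add (V : U.Etale) (s s' : F.obj.obj (op V)) :
    gam j F V (s + s') = gam j F V s + gam j F V s' := by
  symm
  apply eq_gam
  · rw [map_add, gam_restr, gam_restr]
  · exact (sectSupp_add_subset F _ _ _).trans
      (Set.union_subset (gam_supp j F V s) (gam_supp j F V s'))

theorem gam_mem (V : U.Etale) (s : F.obj.obj (op V)) :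
    gam j F V s ∈ EtShriek.shriekSubgroup j F ((EtShriek.compEtale j).obj V) :=
  AddSubgroup.subset_closure
    (shriekPred_of_subset j F _ _ _ (gam_supp j F V s) (isProperOver_range_gr j V))

end Ext

section Nat

variable {U X : Scheme.{u}} (j : U ⟶ X) [AlgebraicGeometry.Etale j] [IsSeparated j]
  (F : EtCoh.Ab U)

set_option backward.isDefEq.respectTransparency.types false in
theorem bc_map_left_snd {V' V : X.Etale} (φ : V' ⟶ V) :
    ((EtCoh.bc j).map φ).left ≫ pullback.snd V.hom j = pullback.snd V'.hom j :=
  MorphismProperty.Over.w ((EtCoh.bc j).map φ)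

/-- the graph square is cartesian on points (scheme-level statement). -/
theorem graph_preimage {V' V U' X' P' P : Scheme.{u}} (j : U' ⟶ X') (vh' : V' ⟶ U')
    (vh : V ⟶ U') (al : V' ⟶ V) (ha : al ≫ vh = vh')
    (fst' : P' ⟶ V') (snd' : P' ⟶ U') (hP' : IsPullback fst' snd' (vh' ≫ j) j)
    (fst : P ⟶ V) (snd : P ⟶ U')
    (b : P' ⟶ P) (hb1 : b ≫ fst = fst' ≫ al) (hb2 : b ≫ snd = snd')
    (g' : V' ⟶ P') (hg'1 : g' ≫ fst' = 𝟙 _) (hg'2 : g' ≫ snd' = vh')
    (g : V ⟶ P) [IsOpenImmersion g] (hg1 : g ≫ fst = 𝟙 _) (hg2 : g ≫ snd = vh) :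
    b ⁻¹' Set.range g ⊆ Set.range g' := by
  intro p' hp'
  let O' : P'.Opens := b ⁻¹ᵁ g.opensRange
  have hr : Set.range (O'.ι ≫ b) ⊆ Set.range g := by
    rintro _ ⟨z, rfl⟩
    exact z.2
  let q := IsOpenImmersion.lift g (O'.ι ≫ b) hr
  have hq : q ≫ g = O'.ι ≫ b := IsOpenImmersion.lift_fac _ _ _
  have hq1 : q = O'.ι ≫ fst' ≫ al := by
    calc q = q ≫ g ≫ fst := by rw [hg1, Category.comp_id]
      _ = (O'.ι ≫ b) ≫ fst := by rw [← Category.assoc, hq]
      _ = O'.ι ≫ fst' ≫ al := by rw [Category.assoc, hb1]
  have key : O'.ι = (O'.ι ≫ fst') ≫ g' := by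
    apply hP'.hom_ext
    · rw [Category.assoc, hg'1, Category.comp_id]
    · rw [Category.assoc, hg'2]
      calc O'.ι ≫ snd' = (O'.ι ≫ b) ≫ snd := by rw [Category.assoc, hb2]
        _ = q ≫ g ≫ snd := by rw [← hq, Category.assoc]
        _ = q ≫ vh := by rw [hg2]
        _ = (O'.ι ≫ fst') ≫ vh' := by rw [hq1, Category.assoc, Category.assoc, ha, Category.assoc]
  have hp'' : p' = O'.ι ⟨p', hp'⟩ := rfl
  rw [hp'']
  refine ⟨(O'.ι ≫ fst') ⟨p', hp'⟩, ?_⟩
  rw [← Scheme.Hom.comp_apply, ← key]

set_option backward.isDefEq.respectTransparency.types false in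
/-- the graph square is cartesian on points. -/
theorem preimage_range_gr {V' V : U.Etale} (a : V' ⟶ V) :
    ((EtCoh.bc j).map ((EtShriek.compEtale j).map a)).left ⁻¹' Set.range (gr j V).left ⊆
      Set.range (gr j V').left := by
  haveI : @IsOpenImmersion V.left (pullback (V.hom ≫ j) j) (gr j V).left :=
    isOpenImmersion_gr j V
  exact graph_preimage j V'.hom V.hom a.left (MorphismProperty.Over.w a)
    (pullback.fst (V'.hom ≫ j) j) (pullback.snd (V'.hom ≫ j) j)
    (IsPullback.of_hasPullback (V'.hom ≫ j) j)
    (pullback.fst (V.hom ≫ j) j) (pullback.snd (V.hom ≫ j) j)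
    ((EtCoh.bc j).map ((EtShriek.compEtale j).map a)).left
    (EtCoh.isPullback_bc_map j ((EtShriek.compEtale j).map a)).w
    (bc_map_left_snd j ((EtShriek.compEtale j).map a))
    (gr j V').left (gr_left_fst j V') (gr_left_snd j V')
    (gr j V).left (gr_left_fst j V) (gr_left_snd j V)

set_option backward.isDefEq.respectTransparency.types false in
theorem gam_map {V' V : U.Etale} (a : V' ⟶ V) (s : F.obj.obj (op V)) :
    F.obj.map ((EtCoh.bc j).map ((EtShriek.compEtale j).map a)).op (gam j F V s) =
      gam j F V' (F.obj.map a.op s) := by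
  apply eq_gam
  · have h1 : F.obj.map ((EtCoh.bc j).map ((EtShriek.compEtale j).map a)).op ≫
        F.obj.map (gr j V').op = F.obj.map (gr j V).op ≫ F.obj.map a.op := by
      rw [← F.obj.map_comp, ← F.obj.map_comp, ← op_comp, ← op_comp, gr_naturality]
    have h2 := congrArg (fun m => m (gam j F V s)) h1
    refine h2.trans ?_
    exact congrArg (fun y => F.obj.map a.op y) (gam_restr j F V s)
  · refine (sectSupp_map F _ _).trans ?_
    exact (Set.preimage_mono (gam_supp j F V s)).trans (preimage_range_gr j a)

theorem gam_app {F G : EtCoh.Ab U} (α : F ⟶ G) (V : U.Etale) (s : F.obj.obj (op V)) :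
    α.hom.app (op ((EtCoh.bc j).obj ((EtShriek.compEtale j).obj V))) (gam j F V s) =
      gam j G V (α.hom.app (op V) s) := by
  apply eq_gam
  · have h1 := α.hom.naturality (gr j V).op
    have h2 := congrArg (fun m => m (gam j F V s)) h1
    refine h2.symm.trans ?_
    exact congrArg (fun y => α.hom.app (op V) y) (gam_restr j F V s)
  · exact (EtShriek.sectSupp_map_subset α _ _).trans (gam_supp j F V s)

end Nat

section UnitMap

variable {U X : Scheme.{u}} (j : U ⟶ X) [AlgebraicGeometry.Etale j] [IsSeparated j]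
  [EtShriek.JCont j] (F : EtCoh.Ab U)

/-- extension by zero along the graph, as a section with proper support. -/
noncomputable def gamS (V : U.Etale) (s : F.obj.obj (op V)) :
    EtShriek.shriekSubgroup j F ((EtShriek.compEtale j).obj V) :=
  ⟨gam j F V s, gam_mem j F V s⟩

theorem gamS_add (V : U.Etale) (s s' : F.obj.obj (op V)) :
    gamS j F V (s + s') = gamS j F V s + gamS j F V s' :=
  Subtype.ext (gam_add j F V s s')

/-- the component of the unit `F ⟶ j^{-1} j_! F`. -/
noncomputable def uApp (V : U.Etale) :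
    F.obj.obj (op V) ⟶
      ((EtShriek.lowerShriek j).obj F).obj.obj (op ((EtShriek.compEtale j).obj V)) :=
  AddCommGrpCat.ofHom (AddMonoidHom.mk' (fun s => sec j F _ (gamS j F V s)) (by
    intro a b
    rw [gamS_add, sec_add]))

theorem uApp_apply (V : U.Etale) (s : F.obj.obj (op V)) :
    uApp j F V s = sec j F _ (gamS j F V s) := rfl

set_option backward.isDefEq.respectTransparency.types false in
/-- the unit `F ⟶ j^{-1} j_! F` (with `j_!` direct image with proper support). -/
noncomputable def uHom : F ⟶ (EtShriek.restrAlong j).obj ((EtShriek.lowerShriek j).obj F) :=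
  ⟨{ app := fun V => uApp j F V.unop
     naturality := by
      intro V V' φ
      apply ConcreteCategory.hom_ext
      intro s
      have h1 : (F.obj.map φ ≫ uApp j F V'.unop) s = uApp j F V'.unop (F.obj.map φ s) := rfl
      have h2 : (uApp j F V.unop ≫
          ((EtShriek.restrAlong j).obj ((EtShriek.lowerShriek j).obj F)).obj.map φ) s =
          ((EtShriek.lowerShriek j).obj F).obj.map ((EtShriek.compEtale j).map φ.unop).op
            (uApp j F V.unop s) := rfl
      refine h1.trans (Eq.trans ?_ h2.symm)
      rw [uApp_apply, uApp_apply, sec_map]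
      congr 1
      apply Subtype.ext
      exact (gam_map j F φ.unop s).symm }⟩

theorem uHom_app (V : U.Etale) (s : F.obj.obj (op V)) :
    (uHom j F).hom.app (op V) s = sec j F _ (gamS j F V s) := rfl

set_option backward.isDefEq.respectTransparency.types false in
theorem uHom_naturality {F G : EtCoh.Ab U} (α : F ⟶ G) :
    α ≫ uHom j G = uHom j F ≫
      (EtShriek.restrAlong j).map ((EtShriek.lowerShriek j).map α) := by
  apply Sheaf.hom_ext
  apply NatTrans.ext
  funext V
  apply ConcreteCategory.hom_ext
  intro s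
  have h1 : (α ≫ uHom j G).hom.app V s = (uHom j G).hom.app (op V.unop) (α.hom.app V s) := rfl
  have h2 : (uHom j F ≫ (EtShriek.restrAlong j).map ((EtShriek.lowerShriek j).map α)).hom.app V s =
      ((EtShriek.lowerShriek j).map α).hom.app (op ((EtShriek.compEtale j).obj V.unop))
        ((uHom j F).hom.app (op V.unop) s) := rfl
  refine h1.trans (Eq.trans ?_ h2.symm)
  rw [uHom_app, uHom_app, map_sec]
  congr 1
  apply Subtype.ext
  exact (gam_app j α V.unop s).symm

/-- the comparison `extZero j ⟶ lowerShriek j`. -/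
noncomputable def tau : EtShriek.extZero j ⟶ EtShriek.lowerShriek j where
  app F := ((EtShriek.extZeroAdj j).homEquiv F _).symm (uHom j F)
  naturality F G α := by
    rw [← Adjunction.homEquiv_naturality_left_symm, ← Adjunction.homEquiv_naturality_right_symm,
      uHom_naturality]

end UnitMap

end Groth.Agent.Lib.Helper8ShriekEtale
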