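import Groth.Prelude
import Groth.Agent.Lib.Helper8ShriekEtale
import Groth.Agent.Lib.Helper20EtSections2
import Groth.Agent.Lib.Helper8EtStalkAlg

/-!
# `j_!` for a separated étale morphism: the comparison is an isomorphism on stalks (helper8)
-/

set_option autoImplicit false
universe u
open CategoryTheory CategoryTheory.Limits AlgebraicGeometry Opposite

namespace Groth.Agent.Lib.Helper8ShriekEtaleStalk

open Groth.Agent.Lib.Helper16.EtStalk Groth.Agent.Lib.Helper16.SmallEtale
open Groth.Agent.Lib.Helper8ShriekSupp Groth.Agent.Lib.Helper8ShriekStalk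
open Groth.Agent.Lib.Helper8ShriekSheaf Groth.Agent.Lib.Helper8ProperOverLocal
open Groth.Agent.Lib.Helper8ShriekSections Groth.Agent.Lib.Helper8ShriekComp
open Groth.Agent.Lib.Helper8ShriekOpen Groth.Agent.Lib.Helper8ShriekEtale
open Groth.Agent.Lib.Helper1
open Groth.Agent.Lib.Helper16.StalkPull Groth.Agent.Lib.Helper16.EtSupp
open Groth.Agent.Lib.Helper8FinPushDecomp Groth.Agent.Lib.Helper8FinPushStalk

variable {U X : Scheme.{u}} (j : U ⟶ X) [AlgebraicGeometry.Etale j] [IsSeparated j]
  [EtShriek.JCont j] (F : EtCoh.Ab U) {Ω : Type u} [Field Ω] [IsAlgClosed Ω]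
  (η : Spec (CommRingCat.of Ω) ⟶ X)

instance lqf_of_etale : LocallyQuasiFinite j :=
  Groth.Agent.Lib.Helper20.EtSections.locallyQuasiFinite_of_etale j

/-- the stalk of the sheafification is the presheaf stalk. -/
noncomputable def sIso : (EtCoh.stalk η).obj ((EtShriek.lowerShriek j).obj F) ≅
    (Scheme.pointSmallEtale η).presheafFiber.obj (EtShriek.lowerShriekPre j F) :=
  ((Scheme.pointSmallEtale η).presheafToSheafCompSheafFiberIso AddCommGrpCat.{u + 1}).app
    (EtShriek.lowerShriekPre j F)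

theorem sIso_inv_apply (V : X.Etale) (v : (Scheme.pointSmallEtale η).fiber.obj V)
    (r : EtShriek.shriekSubgroup j F V) :
    (sIso j F η).inv ((Scheme.pointSmallEtale η).toPresheafFiber V v
      (EtShriek.lowerShriekPre j F) r) =
      germ η ((EtShriek.lowerShriek j).obj F) V v (sec j F V r) := by
  have h : (sIso j F η).inv = (Scheme.pointSmallEtale η).presheafFiber.map
      (toSheafify X.smallEtaleTopology (EtShriek.lowerShriekPre j F)) := rfl
  rw [h]
  exact (Scheme.pointSmallEtale η).toPresheafFiber_naturality_apply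
    (toSheafify X.smallEtaleTopology (EtShriek.lowerShriekPre j F)) V v r

theorem sIso_hom_germ (V : X.Etale) (v : (Scheme.pointSmallEtale η).fiber.obj V)
    (r : EtShriek.shriekSubgroup j F V) :
    (sIso j F η).hom (germ η ((EtShriek.lowerShriek j).obj F) V v (sec j F V r)) =
      (Scheme.pointSmallEtale η).toPresheafFiber V v (EtShriek.lowerShriekPre j F) r := by
  rw [← sIso_inv_apply]
  exact congrArg (fun m => m ((Scheme.pointSmallEtale η).toPresheafFiber V v
      (EtShriek.lowerShriekPre j F) r)) (sIso j F η).inv_hom_id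

/-- the comparison maps on the sheaf stalk. -/
noncomputable def c' (ξ : Pts j η) :
    (EtCoh.stalk η).obj ((EtShriek.lowerShriek j).obj F) ⟶ (EtCoh.stalk ξ.1).obj F :=
  (sIso j F η).hom ≫ c j F ξ

theorem c'_germ (ξ : Pts j η) (V : X.Etale) (v : (Scheme.pointSmallEtale η).fiber.obj V)
    (r : EtShriek.shriekSubgroup j F V) :
    c' j F η ξ (germ η ((EtShriek.lowerShriek j).obj F) V v (sec j F V r)) =
      germ ξ.1 F ((EtCoh.bc j).obj V) (pt ξ V v) r.1 := by
  have h : c' j F η ξ (germ η ((EtShriek.lowerShriek j).obj F) V v (sec j F V r)) =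
      c j F ξ ((sIso j F η).hom (germ η ((EtShriek.lowerShriek j).obj F) V v (sec j F V r))) := rfl
  rw [h, sIso_hom_germ, c_apply]

theorem finite_c'_ne_zero (x : ToType ((EtCoh.stalk η).obj ((EtShriek.lowerShriek j).obj F))) :
    {ξ : Pts j η | c' j F η ξ x ≠ 0}.Finite :=
  finite_c_ne_zero j F ((sIso j F η).hom x)

theorem eq_zero_of_c'_eq_zero (x : ToType ((EtCoh.stalk η).obj ((EtShriek.lowerShriek j).obj F)))
    (h : ∀ ξ : Pts j η, c' j F η ξ x = 0) : x = 0 := by
  have h1 := eq_zero_of_c_eq_zero j F ((sIso j F η).hom x) h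
  have h2 : (sIso j F η).inv ((sIso j F η).hom x) = x :=
    congrArg (fun m => m x) (sIso j F η).hom_inv_id
  rw [← h2, h1, map_zero]

theorem exists_delta' (ξ : Pts j η) (t : ToType ((EtCoh.stalk ξ.1).obj F)) :
    ∃ x : ToType ((EtCoh.stalk η).obj ((EtShriek.lowerShriek j).obj F)),
      c' j F η ξ x = t ∧ ∀ ξ' : Pts j η, ξ' ≠ ξ → c' j F η ξ' x = 0 := by
  obtain ⟨y, h1, h2⟩ := exists_delta j F ξ t
  have h3 : (sIso j F η).hom ((sIso j F η).inv y) = y :=
    congrArg (fun m => m y) (sIso j F η).inv_hom_id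
  refine ⟨(sIso j F η).inv y, ?_, ?_⟩
  · change c j F ξ ((sIso j F η).hom ((sIso j F η).inv y)) = t
    rw [h3, h1]
  · intro ξ' hne
    change c j F ξ' ((sIso j F η).hom ((sIso j F η).inv y)) = 0
    rw [h3, h2 ξ' hne]

/-- the coprojections. -/
noncomputable def iota (ξ : Pts j η) :
    (EtCoh.stalk ξ.1).obj F ⟶ (EtCoh.stalk η).obj ((EtShriek.lowerShriek j).obj F) :=
  Groth.Agent.Lib.Helper8AbCoprod.phi (fun ξ : Pts j η => (EtCoh.stalk ξ.1).obj F)
    ((EtCoh.stalk η).obj ((EtShriek.lowerShriek j).obj F)) (c' j F η)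
    (eq_zero_of_c'_eq_zero j F η) (exists_delta' j F η) ξ

theorem isColimit_iota : Nonempty (IsColimit
    (Cofan.mk ((EtCoh.stalk η).obj ((EtShriek.lowerShriek j).obj F)) (iota j F η))) :=
  Groth.Agent.Lib.Helper8AbCoprod.isColimit_cofan_of_retractions _ _ (c' j F η) (iota j F η)
    (Groth.Agent.Lib.Helper8AbCoprod.c_phi_self _ _ _ _ _)
    (Groth.Agent.Lib.Helper8AbCoprod.c_phi_ne _ _ _ _ _)
    (finite_c'_ne_zero j F η) (eq_zero_of_c'_eq_zero j F η)

theorem eq_iota (ξ : Pts j η) (t : ToType ((EtCoh.stalk ξ.1).obj F))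
    (x : ToType ((EtCoh.stalk η).obj ((EtShriek.lowerShriek j).obj F)))
    (h1 : c' j F η ξ x = t) (h2 : ∀ ξ' : Pts j η, ξ' ≠ ξ → c' j F η ξ' x = 0) :
    x = iota j F η ξ t :=
  Groth.Agent.Lib.Helper8AbCoprod.phiFun_unique _ _ _ (eq_zero_of_c'_eq_zero j F η)
    (exists_delta' j F η) ξ t x h1 h2

theorem comp3_eq {A B C D : Scheme.{u}} (a : A ⟶ B) (b : B ⟶ C) (c : C ⟶ D) (k : B ⟶ D)
    (h : b ≫ c = k) : (a ≫ b) ≫ c = a ≫ k := by
  rw [Category.assoc, h]

set_option backward.isDefEq.respectTransparency.types false in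
theorem pt_dEquiv (V : U.Etale) (ξ : Pts j η) (t : (Scheme.pointSmallEtale ξ.1).fiber.obj V) :
    pt ξ ((EtShriek.compEtale j).obj V) (Groth.Agent.S0647.dEquiv j η V ⟨ξ, t⟩) =
      (Scheme.pointSmallEtale ξ.1).fiber.map (gr j V) t := by
  apply Over.OverMorphism.ext
  apply pullback.hom_ext
  · refine (ptL_fst j ξ ((EtShriek.compEtale j).obj V) _).trans ?_
    have h1 := comp3_eq (t.left : Spec (CommRingCat.of Ω) ⟶ V.left) (gr j V).left _ _
      (gr_left_fst j V)
    exact (h1.trans (Category.comp_id _)).symm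
  · refine (ptL_snd j ξ ((EtShriek.compEtale j).obj V) _).trans ?_
    have h1 := comp3_eq (t.left : Spec (CommRingCat.of Ω) ⟶ V.left) (gr j V).left _ _
      (gr_left_snd j V)
    exact (h1.trans (Over.w t)).symm

set_option backward.isDefEq.respectTransparency.types false in
/-- compatibility of the unit with germs and coprojections. -/
theorem germ_uHom (V : U.Etale) (ξ : Pts j η) (t : (Scheme.pointSmallEtale ξ.1).fiber.obj V)
    (s : F.obj.obj (op V)) :
    germ η ((EtShriek.lowerShriek j).obj F) ((EtShriek.compEtale j).obj V)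
      (Groth.Agent.S0647.dEquiv j η V ⟨ξ, t⟩) ((uHom j F).hom.app (op V) s) =
      iota j F η ξ (germ ξ.1 F V t s) := by
  apply eq_iota
  · rw [uHom_app, c'_germ, pt_dEquiv]
    have h := (Scheme.pointSmallEtale ξ.1).toPresheafFiber_w_apply (gr j V) t F.obj
      (gamS j F V s).1
    refine h.symm.trans ?_
    exact congrArg (fun y => (Scheme.pointSmallEtale ξ.1).toPresheafFiber V t F.obj y)
      (gam_restr j F V s)
  · intro ξ' hne
    rw [uHom_app, c'_germ]
    refine (germ_eq_zero_iff F ξ'.1 _ _ _ _ rfl).2 ?_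
    intro hmem
    apply hne
    have hmem' := gam_supp j F V s hmem
    have hr : Set.range (ptL j ξ' ((EtShriek.compEtale j).obj V)
        (Groth.Agent.S0647.dEquiv j η V ⟨ξ, t⟩)) ⊆ Set.range (gr j V).left := by
      rw [Groth.Agent.S0652.range_spec_field]
      exact Set.singleton_subset_iff.mpr hmem'
    let q := IsOpenImmersion.lift (gr j V).left (ptL j ξ' ((EtShriek.compEtale j).obj V)
        (Groth.Agent.S0647.dEquiv j η V ⟨ξ, t⟩)) hr
    have hq : q ≫ (gr j V).left = ptL j ξ' ((EtShriek.compEtale j).obj V)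
        (Groth.Agent.S0647.dEquiv j η V ⟨ξ, t⟩) := IsOpenImmersion.lift_fac _ _ _
    have h1 : q = (t.left : Spec (CommRingCat.of Ω) ⟶ V.left) := by
      have e1 := ptL_fst j ξ' ((EtShriek.compEtale j).obj V)
        (Groth.Agent.S0647.dEquiv j η V ⟨ξ, t⟩)
      have e3 := (comp3_eq q (gr j V).left _ _ (gr_left_fst j V)).trans (Category.comp_id q)
      have e4 := congrArg (fun m => m ≫ pullback.fst ((EtShriek.compEtale j).obj V).hom j) hq
      exact e3.symm.trans (e4.trans e1)
    have h2 : ξ'.1 = q ≫ V.hom := by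
      have e1 := ptL_snd j ξ' ((EtShriek.compEtale j).obj V)
        (Groth.Agent.S0647.dEquiv j η V ⟨ξ, t⟩)
      have e3 := comp3_eq q (gr j V).left _ _ (gr_left_snd j V)
      have e4 := congrArg (fun m => m ≫ pullback.snd ((EtShriek.compEtale j).obj V).hom j) hq
      exact e1.symm.trans (e4.symm.trans e3)
    apply Subtype.ext
    rw [h2, h1]
    exact Over.w t

set_option backward.isDefEq.respectTransparency.types false in
/-- the comparison `extZero j F ⟶ j_! F` is an isomorphism on stalks. -/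
theorem isIso_stalk_tau : IsIso ((EtCoh.stalk η).map ((tau j).app F)) := by
  obtain ⟨hc⟩ := isColimit_iota j F η
  exact Groth.Agent.Lib.Helper8PointSumIso.isIso_sheafFiber_map (EtShriek.compEtale j)
    (Scheme.pointSmallEtale η)
    (fun u : Groth.Agent.S0647.Idx j η => Scheme.pointSmallEtale u.1)
    (Groth.Agent.S0647.dEquiv j η)
    (fun g u t => Groth.Agent.S0647.dEquiv_map j η g u t) F
    ((EtShriek.lowerShriek j).obj F) (uHom j F) (iota j F η) hc
    (by
      intro V i t
      apply ConcreteCategory.hom_ext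
      intro s
      exact germ_uHom j F η V i t s)

section Final

variable {U X : Scheme.{u}} (j : U ⟶ X) [AlgebraicGeometry.Etale j] [IsSeparated j]
  [EtShriek.JCont j]

instance isIso_tau_app (F : EtCoh.Ab U) : IsIso ((tau j).app F) := by
  apply Groth.Agent.Lib.Helper8EtStalkAlg.isIso_of_stalks
  intro Ω _ _ η
  haveI := isIso_stalk_tau j F η
  exact ConcreteCategory.bijective_of_isIso ((EtCoh.stalk η).map ((tau j).app F))

instance isIso_tau : IsIso (tau j) := NatIso.isIso_of_isIso_app _

/-- extension by zero along a separated étale morphism is direct image with proper support. -/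
noncomputable def extZeroIso : EtShriek.extZero j ≅ EtShriek.lowerShriek j := asIso (tau j)

/-- `f_! ⟶ f_*` as a natural transformation. -/
noncomputable def toPushNat {X Y : Scheme.{u}} (f : X ⟶ Y) [LocallyOfFiniteType f] :
    EtShriek.lowerShriek f ⟶ EtCoh.push f where
  app F := EtShriek.lowerShriekToPush f F
  naturality _ _ α := toPush_naturality f α

instance mono_toPush {X Y : Scheme.{u}} (f : X ⟶ Y) [LocallyOfFiniteType f] (F : EtCoh.Ab X) :
    Mono (EtShriek.lowerShriekToPush f F) := by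
  apply Sheaf.mono_of_injective
  intro W
  exact toPush_injective f F W.unop

theorem exists_mono_extZero_push :
    ∃ τ : EtShriek.extZero j ⟶ EtCoh.push j, ∀ F : EtCoh.Ab U, Mono (τ.app F) := by
  refine ⟨tau j ≫ toPushNat j, ?_⟩
  intro F
  have h : (tau j ≫ toPushNat j).app F = (tau j).app F ≫ EtShriek.lowerShriekToPush j F := rfl
  rw [h]
  infer_instance

end Final

end Groth.Agent.Lib.Helper8ShriekEtaleStalk
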