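import Groth.Prelude
import Groth.Agent.Lib.Helper8ShriekEtaleStalk
import Groth.Agent.Lib.H9FEtDeg
import Groth.Agent.Lib.Helper9JContAll

/-!
# The trace for a finite étale morphism (helper8)

* `adjS j : j_! ⊣ j^{-1}` for `j` separated étale (`j_!` direct image with proper support), with unit
  `uHom`.
* `adjF π : π_* ⊣ π^*` for `π` finite étale, and `unit_counit_adjF`: the composite
  `G ⟶ π_* π^* G ⟶ G` is multiplication by the degree.
-/

set_option autoImplicit false
universe u
open CategoryTheory CategoryTheory.Limits AlgebraicGeometry Opposite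

namespace Groth.Agent.Lib.Helper8FinEtTrace

open Groth.Agent.Lib.Helper16.EtStalk Groth.Agent.Lib.Helper16.SmallEtale
open Groth.Agent.Lib.Helper8ShriekSupp Groth.Agent.Lib.Helper8ShriekStalk
open Groth.Agent.Lib.Helper8ShriekSheaf Groth.Agent.Lib.Helper8ProperOverLocal
open Groth.Agent.Lib.Helper8ShriekSections Groth.Agent.Lib.Helper8ShriekComp
open Groth.Agent.Lib.Helper8ShriekOpen Groth.Agent.Lib.Helper8ShriekEtale
open Groth.Agent.Lib.Helper8ShriekEtaleStalk
open Groth.Agent.Lib.Helper1
open Groth.Agent.Lib.Helper16.StalkPull Groth.Agent.Lib.Helper16.EtSupp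
open Groth.Agent.Lib.Helper8FinPushDecomp Groth.Agent.Lib.Helper8FinPushStalk

section SepEtale

variable {U X : Scheme.{u}} (j : U ⟶ X) [AlgebraicGeometry.Etale j] [IsSeparated j]
  [EtShriek.JCont j]

/-- `j_! ⊣ j^{-1}` for separated étale `j`. -/
noncomputable def adjS : EtShriek.lowerShriek j ⊣ EtShriek.restrAlong j :=
  (EtShriek.extZeroAdj j).ofNatIsoLeft (extZeroIso j)

theorem adjS_unit (F : EtCoh.Ab U) : (adjS j).unit.app F = uHom j F := by
  have h1 : (adjS j).unit.app F =
      (EtShriek.extZeroAdj j).unit.app F ≫ (EtShriek.restrAlong j).map ((tau j).app F) := rfl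
  refine h1.trans (((EtShriek.extZeroAdj j).homEquiv_unit _ _ _).symm.trans ?_)
  exact ((EtShriek.extZeroAdj j).homEquiv F _).apply_symm_apply (uHom j F)

theorem uHom_counit (G : EtCoh.Ab X) :
    uHom j ((EtShriek.restrAlong j).obj G) ≫
      (EtShriek.restrAlong j).map ((adjS j).counit.app G) = 𝟙 _ := by
  rw [← adjS_unit]
  exact (adjS j).right_triangle_components G

variable {Ω : Type u} [Field Ω] [IsAlgClosed Ω] (η : Spec (CommRingCat.of Ω) ⟶ X)

theorem stalk_map_germ {Z : Scheme.{u}} {A B : EtCoh.Ab Z} (a : A ⟶ B)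
    (ζ : Spec (CommRingCat.of Ω) ⟶ Z) (W : Z.Etale)
    (w : (Scheme.pointSmallEtale ζ).fiber.obj W) (x : A.obj.obj (op W)) :
    (EtCoh.stalk ζ).map a (germ ζ A W w x) = germ ζ B W w (a.hom.app (op W) x) :=
  (Scheme.pointSmallEtale ζ).toPresheafFiber_naturality_apply a.hom W w x

set_option backward.isDefEq.respectTransparency.types false in
theorem counit_uHom_apply (G : EtCoh.Ab X) (V : U.Etale)
    (s : ((EtShriek.restrAlong j).obj G).obj.obj (op V)) :
    ((adjS j).counit.app G).hom.app (op ((EtShriek.compEtale j).obj V))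
      ((uHom j ((EtShriek.restrAlong j).obj G)).hom.app (op V) s) = s := by
  have h := uHom_counit j G
  have h2 := congrArg (fun m => m.hom.app (op V) s) h
  exact h2

set_option backward.isDefEq.respectTransparency.types false in
/-- the counit of `j_! ⊣ j^{-1}` on stalks. -/
theorem stalk_counit_iota (G : EtCoh.Ab X) (V : U.Etale) (ξ : Pts j η)
    (t : (Scheme.pointSmallEtale ξ.1).fiber.obj V)
    (s : ((EtShriek.restrAlong j).obj G).obj.obj (op V)) :
    (EtCoh.stalk η).map ((adjS j).counit.app G)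
      (iota j ((EtShriek.restrAlong j).obj G) η ξ
        (germ ξ.1 ((EtShriek.restrAlong j).obj G) V t s)) =
    germ η G ((EtShriek.compEtale j).obj V) (Groth.Agent.S0647.dEquiv j η V ⟨ξ, t⟩) s := by
  refine (congrArg (fun y => (EtCoh.stalk η).map ((adjS j).counit.app G) y)
    (germ_uHom j ((EtShriek.restrAlong j).obj G) η V ξ t s).symm).trans ?_
  refine (stalk_map_germ ((adjS j).counit.app G) η ((EtShriek.compEtale j).obj V)
    (Groth.Agent.S0647.dEquiv j η V ⟨ξ, t⟩) _).trans ?_
  exact congrArg (fun y => germ η G ((EtShriek.compEtale j).obj V)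
    (Groth.Agent.S0647.dEquiv j η V ⟨ξ, t⟩) y) (counit_uHom_apply j G V s)

theorem c'_iota_self (F : EtCoh.Ab U) (ξ : Pts j η) (t : ToType ((EtCoh.stalk ξ.1).obj F)) :
    c' j F η ξ (iota j F η ξ t) = t :=
  Groth.Agent.Lib.Helper8AbCoprod.c_phi_self (fun ξ : Pts j η => (EtCoh.stalk ξ.1).obj F)
    ((EtCoh.stalk η).obj ((EtShriek.lowerShriek j).obj F)) (c' j F η)
    (eq_zero_of_c'_eq_zero j F η) (exists_delta' j F η) ξ t

theorem c'_iota_ne (F : EtCoh.Ab U) (ξ ξ' : Pts j η) (h : ξ' ≠ ξ)
    (t : ToType ((EtCoh.stalk ξ.1).obj F)) :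
    c' j F η ξ' (iota j F η ξ t) = 0 :=
  Groth.Agent.Lib.Helper8AbCoprod.c_phi_ne (fun ξ : Pts j η => (EtCoh.stalk ξ.1).obj F)
    ((EtCoh.stalk η).obj ((EtShriek.lowerShriek j).obj F)) (c' j F η)
    (eq_zero_of_c'_eq_zero j F η) (exists_delta' j F η) ξ t ξ' h

theorem eq_sum_iota [Fintype (Pts j η)] (F : EtCoh.Ab U)
    (x : ToType ((EtCoh.stalk η).obj ((EtShriek.lowerShriek j).obj F))) :
    x = ∑ ξ : Pts j η, iota j F η ξ (c' j F η ξ x) := by
  classical
  rw [← sub_eq_zero]
  apply eq_zero_of_c'_eq_zero j F η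
  intro ξ'
  rw [map_sub, map_sum, sub_eq_zero]
  rw [Finset.sum_eq_single ξ']
  · exact (c'_iota_self j η F ξ' _).symm
  · intro ξ _ hne
    exact c'_iota_ne j η F ξ ξ' hne.symm _
  · intro h
    exact (h (Finset.mem_univ _)).elim

end SepEtale

section Finite

variable {X' X : Scheme.{u}} (π : X' ⟶ X) [IsFinite π] [AlgebraicGeometry.Etale π]
  [EtShriek.JCont π]

set_option backward.isDefEq.respectTransparency.types false in
theorem restrPushAdj_unit_app (G : EtCoh.Ab X) (V : X.Etale) (s : G.obj.obj (op V)) :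
    ((Groth.Agent.S0651.restrPushAdj π).unit.app G).hom.app (op V) s =
      G.obj.map ((Groth.Agent.S0651.compBcAdj π).counit.app V).op s := by
  rfl

set_option backward.isDefEq.respectTransparency.types false in
theorem counit_left (V : X.Etale) :
    ((Groth.Agent.S0651.compBcAdj π).counit.app V).left = pullback.fst V.hom π := rfl

/-- `π^{-1} ≅ π^*`. -/
noncomputable def eIso : EtShriek.restrAlong π ≅ EtCoh.pull π :=
  (Groth.Agent.S0651.restrPushAdj π).leftAdjointUniq (EtCoh.pullPushAdj π)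

/-- `π_* ⊣ π^*` for a finite étale morphism. -/
noncomputable def adjF : EtCoh.push π ⊣ EtCoh.pull π :=
  ((adjS π).ofNatIsoLeft (properIso π)).ofNatIsoRight (eIso π)

/-- the composite `G ⟶ π_* π^{-1} G ≅ π_! π^{-1} G ⟶ G`. -/
noncomputable def tot (G : EtCoh.Ab X) : G ⟶ G :=
  (Groth.Agent.S0651.restrPushAdj π).unit.app G ≫
    (properIso π).inv.app ((EtShriek.restrAlong π).obj G) ≫ (adjS π).counit.app G

theorem unit_counit_adjF (G : EtCoh.Ab X) :
    (EtCoh.pullPushAdj π).unit.app G ≫ (adjF π).counit.app G = tot π G := by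
  have h1 : (adjF π).counit.app G = (EtCoh.push π).map ((eIso π).inv.app G) ≫
      (properIso π).inv.app ((EtShriek.restrAlong π).obj G) ≫ (adjS π).counit.app G := rfl
  have h2 : (EtCoh.pullPushAdj π).unit.app G ≫ (EtCoh.push π).map ((eIso π).inv.app G) =
      (Groth.Agent.S0651.restrPushAdj π).unit.app G :=
    Adjunction.unit_leftAdjointUniq_hom_app (EtCoh.pullPushAdj π)
      (Groth.Agent.S0651.restrPushAdj π) G
  rw [h1, ← Category.assoc, h2]
  rfl

variable {Ω : Type u} [Field Ω] [IsAlgClosed Ω] (η : Spec (CommRingCat.of Ω) ⟶ X)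

set_option backward.isDefEq.respectTransparency.types false in
theorem fiber_map_counit (V : X.Etale) (v : (Scheme.pointSmallEtale η).fiber.obj V)
    (ξ : Pts π η) :
    (Scheme.pointSmallEtale η).fiber.map ((Groth.Agent.S0651.compBcAdj π).counit.app V)
      (Groth.Agent.S0647.dEquiv π η ((EtCoh.bc π).obj V) ⟨ξ, pt ξ V v⟩) = v := by
  apply Over.OverMorphism.ext
  exact pt_left_fst ξ V v

set_option backward.isDefEq.respectTransparency.types false in
theorem germ_summand (G : EtCoh.Ab X) (V : X.Etale)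
    (v : (Scheme.pointSmallEtale η).fiber.obj V) (s : G.obj.obj (op V)) (ξ : Pts π η) :
    (EtCoh.stalk η).map ((adjS π).counit.app G)
      (iota π ((EtShriek.restrAlong π).obj G) η ξ
        (germ ξ.1 ((EtShriek.restrAlong π).obj G) ((EtCoh.bc π).obj V) (pt ξ V v)
          (((Groth.Agent.S0651.restrPushAdj π).unit.app G).hom.app (op V) s))) =
      germ η G V v s := by
  refine (stalk_counit_iota π η G ((EtCoh.bc π).obj V) ξ (pt ξ V v) _).trans ?_
  have h := (Scheme.pointSmallEtale η).toPresheafFiber_w_apply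
    ((Groth.Agent.S0651.compBcAdj π).counit.app V)
    (Groth.Agent.S0647.dEquiv π η ((EtCoh.bc π).obj V) ⟨ξ, pt ξ V v⟩) G.obj s
  refine h.trans ?_
  rw [fiber_map_counit]
  rfl

set_option backward.isDefEq.respectTransparency.types false in
theorem germ_tot [Fintype (Pts π η)] (G : EtCoh.Ab X) (V : X.Etale)
    (v : (Scheme.pointSmallEtale η).fiber.obj V) (s : G.obj.obj (op V)) :
    germ η G V v ((tot π G).hom.app (op V) s) =
      Fintype.card (Pts π η) • germ η G V v s := by
  obtain ⟨r, hr⟩ := (sec_bijective π ((EtShriek.restrAlong π).obj G) V).2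
    (((properIso π).inv.app ((EtShriek.restrAlong π).obj G)).hom.app (op V)
      (((Groth.Agent.S0651.restrPushAdj π).unit.app G).hom.app (op V) s))
  have hz : (EtShriek.lowerShriekToPush π ((EtShriek.restrAlong π).obj G)).hom.app (op V)
      (((properIso π).inv.app ((EtShriek.restrAlong π).obj G)).hom.app (op V)
        (((Groth.Agent.S0651.restrPushAdj π).unit.app G).hom.app (op V) s)) =
      ((Groth.Agent.S0651.restrPushAdj π).unit.app G).hom.app (op V) s :=
    congrArg (fun m => m.hom.app (op V)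
      (((Groth.Agent.S0651.restrPushAdj π).unit.app G).hom.app (op V) s))
      ((properIso π).inv_hom_id_app ((EtShriek.restrAlong π).obj G))
  have hr1 : r.1 = ((Groth.Agent.S0651.restrPushAdj π).unit.app G).hom.app (op V) s := by
    rw [← toPush_sec π ((EtShriek.restrAlong π).obj G) V r, hr]
    exact hz
  have h1 : (tot π G).hom.app (op V) s =
      ((adjS π).counit.app G).hom.app (op V)
        (((properIso π).inv.app ((EtShriek.restrAlong π).obj G)).hom.app (op V)
          (((Groth.Agent.S0651.restrPushAdj π).unit.app G).hom.app (op V) s)) := rfl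
  have e1 : germ η G V v ((tot π G).hom.app (op V) s) =
      (EtCoh.stalk η).map ((adjS π).counit.app G)
        (germ η ((EtShriek.lowerShriek π).obj ((EtShriek.restrAlong π).obj G)) V v
          (sec π ((EtShriek.restrAlong π).obj G) V r)) := by
    rw [h1, ← hr]
    exact (stalk_map_germ ((adjS π).counit.app G) η V v
      (sec π ((EtShriek.restrAlong π).obj G) V r)).symm
  rw [e1, eq_sum_iota π η ((EtShriek.restrAlong π).obj G)
      (germ η ((EtShriek.lowerShriek π).obj ((EtShriek.restrAlong π).obj G)) V v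
        (sec π ((EtShriek.restrAlong π).obj G) V r)), map_sum]
  rw [Finset.sum_congr rfl (fun ξ _ => ?_), Finset.sum_const, Finset.card_univ]
  rw [c'_germ, hr1]
  exact germ_summand π η G V v s ξ

end Finite

section Conclude

set_option backward.isDefEq.respectTransparency.types false in
/-- a section all of whose germs at algebraically closed geometric points vanish is zero -/
theorem section_eq_zero_of_germs_alg {S : Scheme.{u}} (G : EtCoh.Ab S) (V : S.Etale)
    (τ : G.obj.obj (op V))
    (h : ∀ (Ω : Type u) [Field Ω] [IsAlgClosed Ω] (ζ : Spec (CommRingCat.of Ω) ⟶ S)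
      (x : (Scheme.pointSmallEtale ζ).fiber.obj V), germ ζ G V x τ = 0) : τ = 0 := by
  apply Groth.Agent.S0102.section_eq_zero_of_locally
  intro v
  obtain ⟨Ω, _, _, ζ, x₀, hx₀⟩ := Groth.Agent.Lib.Helper8EtStalkAlg.exists_geometric_point V v
  have h0 := (germ_eq_zero_iff G ζ V x₀ τ v hx₀).mp (h Ω ζ x₀)
  simp only [EtShriek.sectSupp, Set.mem_ofPred_eq, not_forall, not_not] at h0
  obtain ⟨W', g, ⟨w, hw⟩, hg⟩ := h0
  exact ⟨W', g, w, hw, hg⟩

/-- evaluation of endomorphisms at a section, as an additive map -/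
noncomputable def evalHom {S : Scheme.{u}} (G : EtCoh.Ab S) (V : S.Etale) (s : G.obj.obj (op V)) :
    (G ⟶ G) →+ G.obj.obj (op V) where
  toFun f := f.hom.app (op V) s
  map_zero' := rfl
  map_add' _ _ := rfl

theorem nsmul_id_app {S : Scheme.{u}} (G : EtCoh.Ab S) (V : S.Etale) (s : G.obj.obj (op V))
    (d : ℕ) : (d • 𝟙 G : G ⟶ G).hom.app (op V) s = d • s := by
  have h := map_nsmul (evalHom G V s) d (𝟙 G)
  exact h

variable {X' X : Scheme.{u}} (π : X' ⟶ X) [IsFinite π] [AlgebraicGeometry.Etale π]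
  [EtShriek.JCont π]

theorem tot_eq (d : ℕ) (hd : ∀ x : X, π.finrank x = d) (G : EtCoh.Ab X) :
    tot π G = d • 𝟙 G := by
  apply Sheaf.hom_ext
  apply NatTrans.ext
  funext V
  apply ConcreteCategory.hom_ext
  intro s
  refine Eq.trans ?_ (nsmul_id_app G V.unop s d).symm
  rw [← sub_eq_zero]
  apply section_eq_zero_of_germs_alg
  intro Ω _ _ ζ x
  haveI : Finite (Pts π ζ) := Groth.Agent.Lib.H9FEtDeg.finite_fib π ζ
  haveI := Fintype.ofFinite (Pts π ζ)
  rw [map_sub, map_nsmul, sub_eq_zero]
  refine (germ_tot π ζ G V.unop x s).trans ?_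
  congr 1
  rw [← Nat.card_eq_fintype_card]
  exact (Groth.Agent.Lib.H9FEtDeg.card_fib π ζ default).trans (hd _)

/-- the trace adjunction for a finite étale morphism of constant degree. -/
theorem exists_adj [EtCoh.BCCont π] (d : ℕ) (hd : ∀ x : X, π.finrank x = d) :
    ∃ adj : EtCoh.push π ⊣ EtCoh.pull π,
      ∀ F : EtCoh.Ab X, (EtCoh.pullPushAdj π).unit.app F ≫ adj.counit.app F = d • 𝟙 F :=
  ⟨adjF π, fun F => (unit_counit_adjF π F).trans (tot_eq π d hd F)⟩

end Conclude

end Groth.Agent.Lib.Helper8FinEtTrace
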