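import Mathlib
import Groth.Agent.Lib.Helper8EtRecoll
import Groth.Agent.Lib.Helper8EtFinPush
import Groth.Agent.Lib.Helper8EtHYExc
import Groth.Agent.Lib.Helper8EtExcision
import Groth.Agent.Lib.Helper8EtFieldPtCoh
import Groth.Agent.Lib.Helper8EtCoprodH
import Groth.Agent.Lib.Helper8EtStalkAlg
import Groth.Agent.Lib.Helper8FinEtTrace
import Groth.Agent.Lib.Helper9JContAll

/-!
# Abelian étale sheaves supported at closed points (helper8)

On a Noetherian scheme whose closed points have separably closed residue fields, an abelian étale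
sheaf whose geometric stalks vanish at all non-closed points is the direct sum of its subsheaves
of sections supported at the closed points, and has no higher cohomology.
-/

set_option autoImplicit false
set_option linter.style.haveILetI false
universe u
open CategoryTheory CategoryTheory.Limits AlgebraicGeometry Opposite TopologicalSpace

namespace Groth.Agent.Lib.Helper8EtClosedPtSupp

open Groth.Agent.Lib.Helper16.EtStalk Groth.Agent.Lib.Helper16.SmallEtale
open Groth.Agent.Lib.Helper16.StalkPull Groth.Agent.Lib.Helper16.EtSupp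

/-- a closed subset of a Noetherian quasi-sober space all of whose points are closed is finite. -/
theorem finite_of_forall_isClosed_singleton {Y : Type*} [TopologicalSpace Y] [QuasiSober Y]
    [NoetherianSpace Y] (Z : Set Y) (hZ : IsClosed Z) (h : ∀ z ∈ Z, IsClosed ({z} : Set Y)) :
    Z.Finite := by
  obtain ⟨S, hS, hirr, hSZ⟩ := NoetherianSpace.exists_finite_set_closeds_irreducible ⟨Z, hZ⟩
  have hZ' : Z = ⋃ t ∈ S, (t : Set Y) := by
    have := congrArg (fun c : Closeds Y => (c : Set Y)) hSZ
    have hcl : IsClosed (⋃ a ∈ S, (a : Set Y)) := hS.isClosed_biUnion (fun t _ => t.isClosed)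
    simpa [Closeds.coe_sSup, hcl.closure_eq] using this
  rw [hZ']
  refine hS.biUnion fun t ht => ?_
  obtain ⟨x, hx⟩ := QuasiSober.sober (hirr t ht) t.isClosed
  have hxt : x ∈ (t : Set Y) := hx.mem
  have hxZ : x ∈ Z := by
    rw [hZ']
    exact Set.mem_biUnion ht hxt
  have h1 : (t : Set Y) = {x} := by
    have h2 : closure ({x} : Set Y) = t := hx
    rw [← h2, (h x hxZ).closure_eq]
  rw [h1]
  exact Set.finite_singleton x

variable {X : Scheme.{u}}

/-- the support hypothesis: geometric stalks vanish over non-closed points. -/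
def ClosedPtSupp (F : EtCoh.Ab X) : Prop :=
  ∀ (Ω : Type u) [Field Ω] [IsSepClosed Ω] (ξ : Spec (CommRingCat.of Ω) ⟶ X),
    ¬ IsClosed ({ξ (default : Spec (CommRingCat.of Ω))} : Set X) →
      IsZero ((EtCoh.stalk ξ).obj F)

lemma locallyQuasiFinite_of_etale {Z T : Scheme.{u}} (g : Z ⟶ T) [Etale g] :
    LocallyQuasiFinite g where
  quasiFinite_appLE {U} hU {V} hV e := by
    have h := g.etale_appLE hU hV e
    algebraize [(g.appLE _ _ e).hom]
    exact inferInstanceAs (Algebra.QuasiFinite _ _)

set_option backward.isDefEq.respectTransparency.types false in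
/-- points of the support of a section of a sheaf with closed-point support are closed. -/
theorem isClosed_singleton_of_mem_sectSupp (F : EtCoh.Ab X) (hF : ClosedPtSupp F) (V : X.Etale)
    (s : F.obj.obj (op V)) (z : V.left) (hz : z ∈ EtShriek.sectSupp F V s) :
    IsClosed ({z} : Set V.left) := by
  obtain ⟨Ω, _, _, ζ, x₀, hx₀⟩ := exists_geometric_point V z
  have hne : germ ζ F V x₀ s ≠ 0 := fun h => ((germ_eq_zero_iff F ζ V x₀ s z hx₀).mp h) hz
  have hcl : IsClosed ({ζ (default : Spec (CommRingCat.of Ω))} : Set X) := by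
    by_contra hcon
    have h0 := hF Ω ζ hcon
    exact hne ((AddCommGrpCat.isZero_iff_subsingleton.mp h0).elim _ _)
  have hζ : ζ (default : Spec (CommRingCat.of Ω)) = V.hom z := by
    have hw : (x₀.left : Spec (CommRingCat.of Ω) ⟶ V.left) ≫ V.hom = ζ := Over.w x₀
    rw [← hw, ← hx₀]
    rfl
  rw [hζ] at hcl
  haveI := locallyQuasiFinite_of_etale V.hom
  have hdisc := V.hom.isDiscrete_preimage_singleton (V.hom z)
  have hclosed : IsClosed (V.hom ⁻¹' {V.hom z}) := hcl.preimage V.hom.continuous
  exact isClosed_of_subset_discrete_closed (by simp) hdisc hclosed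

/-- around any point, the support of a section of a sheaf with closed-point support is at most
that point. -/
theorem exists_opens_inter_sectSupp_subset [IsLocallyNoetherian X] (F : EtCoh.Ab X)
    (hF : ClosedPtSupp F) (V : X.Etale) (s : F.obj.obj (op V)) (v₀ : V.left) :
    ∃ T : V.left.Opens, v₀ ∈ T ∧ ∀ z ∈ T, z ∈ EtShriek.sectSupp F V s → z = v₀ := by
  haveI : IsLocallyNoetherian V.left :=
    LocallyOfFiniteType.isLocallyNoetherian (Y := X) V.hom
  obtain ⟨T₀, hT₀, hv₀⟩ : ∃ T₀ : V.left.Opens, IsAffineOpen T₀ ∧ v₀ ∈ T₀ := by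
    obtain ⟨_, ⟨T₀, hT₀, rfl⟩, hv, -⟩ :=
      (V.left.isBasis_affineOpens).exists_subset_of_mem_open (Set.mem_univ v₀) isOpen_univ
    exact ⟨T₀, hT₀, hv⟩
  haveI : IsNoetherianRing Γ(V.left, T₀) := IsLocallyNoetherian.component_noetherian ⟨T₀, hT₀⟩
  haveI : NoetherianSpace T₀ := noetherianSpace_of_isAffineOpen T₀ hT₀
  haveI : QuasiSober T₀ := inferInstanceAs (QuasiSober T₀.toScheme)
  have hZc : IsClosed (EtShriek.sectSupp F V s) := Groth.Agent.Lib.Helper8EtFinPush.isClosed_sectSupp F V s
  let Z' : Set T₀ := Subtype.val ⁻¹' (EtShriek.sectSupp F V s)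
  have hZ'fin : Z'.Finite :=
    finite_of_forall_isClosed_singleton Z' (hZc.preimage continuous_subtype_val) (fun z hz => by
      have h1 := isClosed_singleton_of_mem_sectSupp F hF V s z.1 hz
      have e : ({z} : Set T₀) = Subtype.val ⁻¹' {z.1} := by
        ext w
        exact ⟨fun h => congrArg Subtype.val h, fun h => Subtype.ext h⟩
      rw [e]
      exact h1.preimage continuous_subtype_val)
  let W : Set V.left := (Subtype.val '' Z') \ {v₀}
  have hWfin : W.Finite := (hZ'fin.image _).subset Set.sdiff_subset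
  have hWcl : IsClosed W := by
    have e : W = ⋃ w ∈ W, {w} := by simp
    rw [e]
    refine hWfin.isClosed_biUnion (fun w hw => ?_)
    obtain ⟨⟨z, hz, rfl⟩, -⟩ := hw
    exact isClosed_singleton_of_mem_sectSupp F hF V s z.1 hz
  refine ⟨T₀ ⊓ ⟨Wᶜ, hWcl.isOpen_compl⟩, ⟨hv₀, fun h => h.2 rfl⟩, ?_⟩
  rintro z ⟨hzT, hzW⟩ hzZ
  by_contra hne
  exact hzW ⟨⟨⟨z, hzT⟩, hzZ, rfl⟩, hne⟩

section Unit

variable {U : Scheme.{u}} (j : U ⟶ X) [IsOpenImmersion j]

set_option backward.isDefEq.respectTransparency.types false in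
/-- the unit `F ⟶ j_* j^* F` kills sections whose support misses the open `U`. -/
theorem pullPush_unit_app_eq_zero (F : EtCoh.Ab X) (V' : X.Etale) (s' : F.obj.obj (op V'))
    (h : ∀ z ∈ EtShriek.sectSupp F V' s', V'.hom z ∉ Set.range j.base) :
    ((EtCoh.pullPushAdj j).unit.app F).hom.app (op V') s' = 0 := by
  haveI : EtShriek.JCont j := Groth.Agent.Lib.Helper9.JContAll.jCont j
  have e := Adjunction.unit_leftAdjointUniq_hom_app (Groth.Agent.S0651.restrPushAdj j)
    (EtCoh.pullPushAdj j) F
  rw [← e]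
  have h0 : F.obj.map ((Groth.Agent.S0651.compBcAdj j).counit.app V').op s' = 0 := by
    refine (Groth.Agent.Lib.Helper8EtHYExc.map_eq_zero_iff_sectSupp F _ s').mpr (fun z hz => ?_)
    rintro ⟨w, rfl⟩
    apply h _ hz
    refine ⟨(pullback.snd V'.hom j) w, ?_⟩
    have := congrArg (fun m : pullback V'.hom j ⟶ X => m w) (pullback.condition (f := V'.hom) (g := j))
    exact this.symm
  have h1 : ((Groth.Agent.S0651.restrPushAdj j).unit.app F).hom.app (op V') s' = 0 := h0
  rw [ObjectProperty.FullSubcategory.comp_hom, NatTrans.comp_app, ConcreteCategory.comp_apply,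
    h1, map_zero]

set_option backward.isDefEq.respectTransparency.types false in
/-- for a sheaf with closed-point support, the unit `F ⟶ j_* j^* F` vanishes on the stalks at
the geometric points outside the open `U`. -/
theorem stalk_unit_eq_zero [IsLocallyNoetherian X] (F : EtCoh.Ab X) (hF : ClosedPtSupp F)
    {Ω : Type u} [Field Ω] [IsSepClosed Ω] (ξ : Spec (CommRingCat.of Ω) ⟶ X)
    (hξ : ξ (default : Spec (CommRingCat.of Ω)) ∉ Set.range j.base)
    (p : ToType ((EtCoh.stalk ξ).obj F)) :
    (EtCoh.stalk ξ).map ((EtCoh.pullPushAdj j).unit.app F) p = 0 := by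
  let Φ := Scheme.pointSmallEtale ξ
  obtain ⟨V, v, s, rfl⟩ := Φ.toPresheafFiber_jointly_surjective (P := F.obj) p
  obtain ⟨T, hvT, hT⟩ := exists_opens_inter_sectSupp_subset F hF V s
    ((v.left : Spec (CommRingCat.of Ω) ⟶ V.left) (default : Spec (CommRingCat.of Ω)))
  obtain ⟨V', g, v', hv', hg⟩ := Groth.Agent.Lib.Helper8EtFinPush.exists_restrict_nbhd ξ V v T hvT
  have h1 := Φ.toPresheafFiber_w_apply g v' F.obj s
  rw [hv'] at h1
  rw [← h1]
  have h2 := Φ.toPresheafFiber_naturality_apply ((EtCoh.pullPushAdj j).unit.app F).hom V' v'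
    (F.obj.map g.op s)
  have h3 : ((EtCoh.pullPushAdj j).unit.app F).hom.app (op V') (F.obj.map g.op s) = 0 := by
    apply pullPush_unit_app_eq_zero
    intro z hz
    rw [Groth.Agent.Lib.Helper8EtExcision.sectSupp_map] at hz
    have hz0 : g.left z = (v.left : Spec (CommRingCat.of Ω) ⟶ V.left)
        (default : Spec (CommRingCat.of Ω)) := hT _ (hg z) hz
    have e1 : V'.hom z = V.hom (g.left z) := by
      have hw : g.left ≫ V.hom = V'.hom := MorphismProperty.Over.w g
      rw [← hw]
      rfl
    have e2 : V.hom ((v.left : Spec (CommRingCat.of Ω) ⟶ V.left)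
        (default : Spec (CommRingCat.of Ω))) = ξ (default : Spec (CommRingCat.of Ω)) := by
      have hw : (v.left : Spec (CommRingCat.of Ω) ⟶ V.left) ≫ V.hom = ξ := Over.w v
      exact congrArg (fun m : Spec (CommRingCat.of Ω) ⟶ X =>
        m (default : Spec (CommRingCat.of Ω))) hw
    rw [e1, hz0, e2]
    exact hξ
  rw [h3, map_zero] at h2
  exact h2

set_option backward.isDefEq.respectTransparency.types false in
/-- for a sheaf with closed-point support, the subsheaf `H_Z(F) = ker (F ⟶ j_* j^* F)` of sections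
supported on the complement of `U` has the same stalks as `F` at the geometric points outside
`U`. -/
theorem bijective_stalk_kernel_ι [IsLocallyNoetherian X] (F : EtCoh.Ab X) (hF : ClosedPtSupp F)
    {Ω : Type u} [Field Ω] [IsSepClosed Ω] (ξ : Spec (CommRingCat.of Ω) ⟶ X)
    (hξ : ξ (default : Spec (CommRingCat.of Ω)) ∉ Set.range j.base) :
    Function.Bijective ((EtCoh.stalk ξ).map (kernel.ι ((EtCoh.pullPushAdj j).unit.app F))) := by
  constructor
  · rw [← AddCommGrpCat.mono_iff_injective]
    infer_instance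
  · let S : ShortComplex (EtCoh.Ab X) :=
      ShortComplex.mk (kernel.ι ((EtCoh.pullPushAdj j).unit.app F))
        ((EtCoh.pullPushAdj j).unit.app F) (kernel.condition _)
    have hS : S.Exact := S.exact_of_f_is_kernel (kernelIsKernel _)
    have hS' : (S.map (EtCoh.stalk ξ)).Exact := hS.map (EtCoh.stalk ξ)
    rw [ShortComplex.ab_exact_iff] at hS'
    intro p
    exact hS' p (stalk_unit_eq_zero j F hF ξ hξ p)

end Unit

section Cofan

variable {C : Type*} [Category C] [HasZeroMorphisms C] {I : Type*} {A : I → C}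

lemma isZero_pt_of_isZero (c : Cofan A) (hc : IsColimit c) (h : ∀ i, IsZero (A i)) :
    IsZero c.pt := by
  rw [IsZero.iff_id_eq_zero]
  refine Cofan.IsColimit.hom_ext hc _ _ (fun i => (h i).eq_of_src _ _)

lemma isIso_inj_of_isZero (c : Cofan A) (hc : IsColimit c) (i₀ : I)
    (h : ∀ i, i ≠ i₀ → IsZero (A i)) : IsIso (c.inj i₀) := by
  classical
  let r : c.pt ⟶ A i₀ := Cofan.IsColimit.desc hc
    (fun i => if e : i = i₀ then eqToHom (by rw [e]) else 0)
  have h1 : c.inj i₀ ≫ r = 𝟙 _ := by
    rw [Cofan.IsColimit.fac, dif_pos rfl, eqToHom_refl]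
  have h2 : r ≫ c.inj i₀ = 𝟙 _ := by
    refine Cofan.IsColimit.hom_ext hc _ _ (fun i => ?_)
    by_cases e : i = i₀
    · subst e
      rw [← Category.assoc, h1, Category.id_comp, Category.comp_id]
    · exact (h i e).eq_of_src _ _
  exact ⟨⟨r, h1, h2⟩⟩

end Cofan

section Decomp

/-- the closed points of a scheme. -/
abbrev ClPt (X : Scheme.{u}) : Type u := {x : X // IsClosed ({x} : Set X)}

/-- the open complement of a closed point. -/
def complOpen (x : ClPt X) : X.Opens := ⟨{x.1}ᶜ, x.2.isOpen_compl⟩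

lemma range_complOpen_ι (x : ClPt X) : Set.range (complOpen x).ι.base = {x.1}ᶜ :=
  Scheme.Opens.range_ι _

/-- the subsheaf of sections supported at the closed point `x`. -/
noncomputable def HPt (F : EtCoh.Ab X) (x : ClPt X) : EtCoh.Ab X :=
  kernel ((EtCoh.pullPushAdj (complOpen x).ι).unit.app F)

/-- the inclusion of the subsheaf of sections supported at `x`. -/
noncomputable def HPtι (F : EtCoh.Ab X) (x : ClPt X) : HPt F x ⟶ F := kernel.ι _

set_option backward.isDefEq.respectTransparency.types false in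
theorem isZero_stalk_HPt (F : EtCoh.Ab X) (x : ClPt X)
    {Ω : Type u} [Field Ω] [IsSepClosed Ω] (ξ : Spec (CommRingCat.of Ω) ⟶ X)
    (hξ : ξ (default : Spec (CommRingCat.of Ω)) ≠ x.1) :
    IsZero ((EtCoh.stalk ξ).obj (HPt F x)) := by
  have hr : Set.range ξ.base ⊆ Set.range (complOpen x).ι.base := by
    rintro _ ⟨a, rfl⟩
    rw [range_complOpen_ι]
    rw [Subsingleton.elim a default]
    exact hξ
  obtain ⟨ξ', rfl⟩ : ∃ ξ' : Spec (CommRingCat.of Ω) ⟶ (complOpen x), ξ' ≫ (complOpen x).ι = ξ :=
    ⟨IsOpenImmersion.lift (complOpen x).ι ξ hr, IsOpenImmersion.lift_fac _ _ _⟩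
  exact Groth.Agent.Lib.Helper8EtRecoll.isZero_stalk_kernel_unit (complOpen x).ι F ξ'

set_option backward.isDefEq.respectTransparency.types false in
/-- **decomposition**: a sheaf with closed-point support on a locally Noetherian scheme is the
direct sum of its subsheaves of sections supported at the closed points. -/
theorem isIso_desc [IsLocallyNoetherian X] (F : EtCoh.Ab X) (hF : ClosedPtSupp F) :
    IsIso (Sigma.desc (HPtι F)) := by
  apply Groth.Agent.Lib.Helper8EtStalkAlg.isIso_of_stalks
  intro Ω _ _ ξ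
  have hcol : IsColimit (Cofan.mk ((EtCoh.stalk ξ).obj (∐ HPt F))
      (fun x => (EtCoh.stalk ξ).map (Sigma.ι (HPt F) x))) :=
    (isColimitMapCoconeCofanMkEquiv (EtCoh.stalk ξ) _ _)
      (isColimitOfPreserves (EtCoh.stalk ξ) (coproductIsCoproduct (HPt F)))
  have hcomp : ∀ x, (EtCoh.stalk ξ).map (Sigma.ι (HPt F) x) ≫
      (EtCoh.stalk ξ).map (Sigma.desc (HPtι F)) = (EtCoh.stalk ξ).map (HPtι F x) := by
    intro x
    rw [← Functor.map_comp, Sigma.ι_desc]
  by_cases hcl : IsClosed ({ξ (default : Spec (CommRingCat.of Ω))} : Set X)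
  · let x₀ : ClPt X := ⟨ξ (default : Spec (CommRingCat.of Ω)), hcl⟩
    haveI h1 : IsIso ((EtCoh.stalk ξ).map (Sigma.ι (HPt F) x₀)) :=
      isIso_inj_of_isZero _ hcol x₀
        (fun x hx => isZero_stalk_HPt F x ξ (fun h => hx (Subtype.ext h.symm)))
    have hbij := bijective_stalk_kernel_ι (complOpen x₀).ι F hF ξ (by
      rw [range_complOpen_ι]
      exact fun h => h rfl)
    haveI : IsIso ((EtCoh.stalk ξ).map (HPtι F x₀)) :=
      (ConcreteCategory.isIso_iff_bijective _).mpr hbij
    have e : (EtCoh.stalk ξ).map (Sigma.desc (HPtι F)) =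
        inv ((EtCoh.stalk ξ).map (Sigma.ι (HPt F) x₀)) ≫ (EtCoh.stalk ξ).map (HPtι F x₀) := by
      rw [IsIso.eq_inv_comp, hcomp]
    rw [e]
    exact ConcreteCategory.bijective_of_isIso _
  · have h1 : IsZero ((EtCoh.stalk ξ).obj (∐ HPt F)) :=
      isZero_pt_of_isZero _ hcol (fun x => isZero_stalk_HPt F x ξ (fun h => hcl (h ▸ x.2)))
    have h2 : IsZero ((EtCoh.stalk ξ).obj F) := hF Ω ξ hcl
    have s1 := AddCommGrpCat.isZero_iff_subsingleton.mp h1
    have s2 := AddCommGrpCat.isZero_iff_subsingleton.mp h2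
    exact ⟨fun a b _ => Subsingleton.elim a b, fun b => ⟨0, Subsingleton.elim _ _⟩⟩

set_option backward.isDefEq.respectTransparency.types false in
/-- the sheaf of sections supported at a closed point with separably closed residue field has no
higher cohomology. -/
theorem subsingleton_H_HPt (F : EtCoh.Ab X) (x : ClPt X)
    [IsSepClosed (X.residueField x.1)] (q : ℕ) (hq : 1 ≤ q) :
    Subsingleton (EtCoh.H X (HPt F x) q) := by
  haveI : IsClosedImmersion (X.fromSpecResidueField x.1) :=
    isClosed_singleton_iff_isClosedImmersion.mp x.2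
  have hZU : Set.range (complOpen x).ι.base = (Set.range (X.fromSpecResidueField x.1).base)ᶜ := by
    rw [range_complOpen_ι, Scheme.range_fromSpecResidueField]
  haveI hu : IsIso ((EtCoh.pullPushAdj (X.fromSpecResidueField x.1)).unit.app (HPt F x)) :=
    Groth.Agent.Lib.Helper8EtRecoll.isIso_unit_of_vanishing (X.fromSpecResidueField x.1) _
      (fun V hV => Groth.Agent.Lib.Helper8EtRecoll.isZero_kernel_unit_obj
        (X.fromSpecResidueField x.1) (complOpen x).ι hZU F V hV)
  have h1 : Subsingleton (EtCoh.H X ((EtCoh.push (X.fromSpecResidueField x.1)).obj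
      ((EtCoh.pull (X.fromSpecResidueField x.1)).obj (HPt F x))) q) :=
    Groth.Agent.Lib.Helper8EtFieldPtCoh.subsingleton_H_push_of_sepClosed (X.residueField x.1)
      (X.fromSpecResidueField x.1) _ q hq
  haveI : Subsingleton ((EtCoh.HF X q).obj
      ((EtCoh.pull (X.fromSpecResidueField x.1) ⋙ EtCoh.push (X.fromSpecResidueField x.1)).obj
        (HPt F x))) := h1
  exact (((EtCoh.HF X q).mapIso (asIso ((EtCoh.pullPushAdj
    (X.fromSpecResidueField x.1)).unit.app (HPt F x)))).addCommGroupIsoToAddEquiv.toEquiv).subsingleton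

/-- **vanishing**: on a Noetherian scheme whose closed points have separably closed residue
fields, an abelian étale sheaf with closed-point support has no higher cohomology. -/
theorem subsingleton_H [IsLocallyNoetherian X] [CompactSpace X] (F : EtCoh.Ab X)
    (hF : ClosedPtSupp F) (hres : ∀ x : ClPt X, IsSepClosed (X.residueField x.1))
    (q : ℕ) (hq : 1 ≤ q) : Subsingleton (EtCoh.H X F q) := by
  have h1 : Subsingleton (EtCoh.H X (∐ HPt F) q) :=
    Groth.Agent.Lib.Helper8EtCoprodH.subsingleton_H_of_isColimit_cofan X (HPt F) q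
      (fun x => by
        haveI := hres x
        exact subsingleton_H_HPt F x q hq)
      (Cofan.mk _ (Sigma.ι (HPt F))) (coproductIsCoproduct _)
  haveI := isIso_desc F hF
  haveI : Subsingleton ((EtCoh.HF X q).obj (∐ HPt F)) := h1
  exact (((EtCoh.HF X q).mapIso
    (asIso (Sigma.desc (HPtι F))).symm).addCommGroupIsoToAddEquiv.toEquiv).subsingleton

end Decomp

end Groth.Agent.Lib.Helper8EtClosedPtSupp
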