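import Mathlib
import Groth.Prelude.Def_EtBase

/-!
# Isomorphisms on étale cohomology from acyclic kernel and cokernel (helper8)
-/

set_option autoImplicit false
set_option linter.style.haveILetI false
universe u
open CategoryTheory CategoryTheory.Limits AlgebraicGeometry Opposite Abelian

namespace Groth.Agent.Lib.Helper8EtLESIso

variable {X : Scheme.{u}}

lemma bijective_H_map_g (S : ShortComplex (EtCoh.Ab X)) (hS : S.ShortExact) (q : ℕ)
    (h1 : Subsingleton (EtCoh.H X S.X₁ q)) (h2 : Subsingleton (EtCoh.H X S.X₁ (q + 1))) :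
    Function.Bijective (Sheaf.H.map S.g q) := by
  constructor
  · rw [injective_iff_map_eq_zero]
    intro x hx
    rw [Sheaf.H.map_apply] at hx
    obtain ⟨x₁, hx₁⟩ := Ext.covariant_sequence_exact₂ _ hS x hx
    have : x₁ = 0 := h1.elim _ _
    rw [← hx₁, this, Ext.zero_comp]
  · intro x₃
    have h0 : x₃.comp hS.extClass rfl = 0 := h2.elim _ _
    obtain ⟨x₂, hx₂⟩ := Ext.covariant_sequence_exact₃ _ hS x₃ rfl h0
    refine ⟨x₂, ?_⟩
    rw [Sheaf.H.map_apply]
    exact hx₂

lemma bijective_H_map_f (S : ShortComplex (EtCoh.Ab X)) (hS : S.ShortExact) (n : ℕ)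
    (h1 : Subsingleton (EtCoh.H X S.X₃ n)) (h2 : Subsingleton (EtCoh.H X S.X₃ (n + 1))) :
    Function.Bijective (Sheaf.H.map S.f (n + 1)) := by
  constructor
  · rw [injective_iff_map_eq_zero]
    intro x hx
    rw [Sheaf.H.map_apply] at hx
    obtain ⟨x₃, hx₃⟩ := Ext.covariant_sequence_exact₁ _ hS x hx rfl
    have : x₃ = 0 := h1.elim _ _
    rw [← hx₃, this, Ext.zero_comp]
  · intro x₂
    have h0 : x₂.comp (Ext.mk₀ S.g) (add_zero (n + 1)) = 0 := h2.elim _ _
    obtain ⟨x₁, hx₁⟩ := Ext.covariant_sequence_exact₂ _ hS x₂ h0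
    refine ⟨x₁, ?_⟩
    rw [Sheaf.H.map_apply]
    exact hx₁

lemma subsingleton_H_of_isZero (Q : EtCoh.Ab X) (hQ : IsZero Q) (q : ℕ) :
    Subsingleton (EtCoh.H X Q q) := by
  refine ⟨fun a b => ?_⟩
  have h : ∀ x : EtCoh.H X Q q, x = 0 := by
    intro x
    have e : Sheaf.H.map (𝟙 Q) q x = x := by
      rw [Sheaf.H.map_apply, Ext.comp_mk₀_id]
    have e0 : (𝟙 Q : Q ⟶ Q) = 0 := hQ.eq_of_src _ _
    rw [← e, e0, Sheaf.H.map_apply, Ext.mk₀_zero, Ext.comp_zero]
  rw [h a, h b]

/-- a morphism of abelian étale sheaves with acyclic kernel and cokernel induces isomorphisms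
on cohomology in degrees `≥ 2`, and in degree `1` if it is an epimorphism. -/
theorem main (F G : EtCoh.Ab X) (φ : F ⟶ G)
    (hK : ∀ q : ℕ, 1 ≤ q → Subsingleton (EtCoh.H X (kernel φ) q))
    (hQ : ∀ q : ℕ, 1 ≤ q → Subsingleton (EtCoh.H X (cokernel φ) q)) :
    (∀ q : ℕ, 1 < q → Function.Bijective (Sheaf.H.map φ q)) ∧
      (Epi φ → Function.Bijective (Sheaf.H.map φ 1)) := by
  let S₁ : ShortComplex (EtCoh.Ab X) :=
    ShortComplex.mk (kernel.ι φ) (Abelian.coimage.π φ) (by simp [Abelian.coimage.π])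
  have hS₁ : S₁.ShortExact :=
    { exact := S₁.exact_of_g_is_cokernel (cokernelIsCokernel _)
      mono_f := inferInstanceAs (Mono (kernel.ι φ))
      epi_g := inferInstanceAs (Epi (Abelian.coimage.π φ)) }
  let S₂ : ShortComplex (EtCoh.Ab X) :=
    ShortComplex.mk (Abelian.image.ι φ) (cokernel.π φ) (by simp [Abelian.image.ι])
  have hS₂ : S₂.ShortExact :=
    { exact := S₂.exact_of_f_is_kernel (kernelIsKernel _)
      mono_f := inferInstanceAs (Mono (Abelian.image.ι φ))
      epi_g := inferInstanceAs (Epi (cokernel.π φ)) }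
  have hfac : Abelian.coimage.π φ ≫ Abelian.coimageImageComparison φ ≫ Abelian.image.ι φ = φ :=
    Abelian.coimage_image_factorisation φ
  have hcmp : ∀ q : ℕ, Function.Bijective (Sheaf.H.map (Abelian.coimageImageComparison φ) q) := by
    intro q
    have := (EtCoh.HF X q).map_isIso (Abelian.coimageImageComparison φ)
    exact ConcreteCategory.bijective_of_isIso ((EtCoh.HF X q).map (Abelian.coimageImageComparison φ))
  have hcomp : ∀ q : ℕ, Sheaf.H.map φ q = fun x =>
      Sheaf.H.map (Abelian.image.ι φ) q (Sheaf.H.map (Abelian.coimageImageComparison φ) q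
        (Sheaf.H.map (Abelian.coimage.π φ) q x)) := by
    intro q
    funext x
    rw [← Sheaf.H.map_comp_apply, ← Sheaf.H.map_comp_apply, hfac]
  have key : ∀ n : ℕ, (∀ q, 1 ≤ q → Subsingleton (EtCoh.H X (cokernel φ) q)) →
      Subsingleton (EtCoh.H X (cokernel φ) n) → Function.Bijective (Sheaf.H.map φ (n + 1)) := by
    intro n hQ' hQn
    have b1 : Function.Bijective (Sheaf.H.map S₁.g (n + 1)) :=
      bijective_H_map_g S₁ hS₁ (n + 1) (hK _ (by omega)) (hK _ (by omega))
    have b2 : Function.Bijective (Sheaf.H.map S₂.f (n + 1)) :=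
      bijective_H_map_f S₂ hS₂ n hQn (hQ' _ (by omega))
    rw [hcomp]
    exact b2.comp ((hcmp (n + 1)).comp b1)
  refine ⟨fun q hq => ?_, fun hepi => ?_⟩
  · obtain ⟨n, rfl⟩ : ∃ n, q = n + 1 := ⟨q - 1, by omega⟩
    exact key n hQ (hQ n (by omega))
  · have hz : IsZero (cokernel φ) := isZero_cokernel_of_epi φ
    exact key 0 (fun q _ => subsingleton_H_of_isZero _ hz q) (subsingleton_H_of_isZero _ hz 0)

end Groth.Agent.Lib.Helper8EtLESIso
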