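import Mathlib
import Groth.Agent.Lib.Helper8EtClosedPtSupp
import Groth.Agent.Lib.Helper8EtLESIso
import Groth.Agent.Lib.Helper10CurveFin

/-!
# Sheaves supported at closed points on schemes of finite type over a separably closed field
(helper8)
-/

set_option autoImplicit false
set_option linter.style.haveILetI false
universe u
open CategoryTheory CategoryTheory.Limits AlgebraicGeometry Opposite TopologicalSpace

namespace Groth.Agent.Lib.Helper8EtClosedPtSuppField

open Groth.Agent.Lib.Helper8EtClosedPtSupp

/-- an algebraic extension of a separably closed field is separably closed. -/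
theorem isSepClosed_of_isAlgebraic (K L : Type*) [Field K] [Field L] [Algebra K L]
    [IsSepClosed K] [Algebra.IsAlgebraic K L] : IsSepClosed L := by
  letI : Algebra K (SeparableClosure L) :=
    ((algebraMap L (SeparableClosure L)).comp (algebraMap K L)).toAlgebra
  haveI : IsScalarTower K L (SeparableClosure L) := IsScalarTower.of_algebraMap_eq (fun _ => rfl)
  haveI : Algebra.IsAlgebraic K (SeparableClosure L) := Algebra.IsAlgebraic.trans K L _
  have h1 : separableClosure K (SeparableClosure L) = ⊥ :=
    IntermediateField.eq_bot_of_isSepClosed_of_isSeparable _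
  haveI : IsPurelyInseparable K (SeparableClosure L) := (separableClosure.eq_bot_iff).mp h1
  haveI : IsPurelyInseparable L (SeparableClosure L) :=
    IsPurelyInseparable.tower_top K L (SeparableClosure L)
  have hb : Function.Bijective (algebraMap L (SeparableClosure L)) :=
    IsPurelyInseparable.bijective_algebraMap_of_isSeparable L (SeparableClosure L)
  exact Groth.Agent.Lib.Helper8EtFieldPtCoh.isSepClosed_of_ringEquiv
    (RingEquiv.ofBijective _ hb).symm

variable {K : Type u} [Field K] [IsSepClosed K] {X : Scheme.{u}}
  (a : X ⟶ Spec (CommRingCat.of K)) [LocallyOfFiniteType a]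

include a in
/-- residue fields at closed points of a scheme locally of finite type over a separably closed
field are separably closed. -/
theorem isSepClosed_residueField_of_isClosed (x : X) (hx : IsClosed ({x} : Set X)) :
    IsSepClosed (X.residueField x) := by
  haveI : JacobsonSpace X := LocallyOfFiniteType.jacobsonSpace a
  haveI h1 : LocallyOfFiniteType (X.fromSpecResidueField x) :=
    isClosed_singleton_iff_locallyOfFiniteType.mp hx
  have h2 : LocallyOfFiniteType (X.fromSpecResidueField x ≫ a) := inferInstance
  obtain ⟨φ, hφ⟩ := Spec.map_surjective (X.fromSpecResidueField x ≫ a)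
  rw [← hφ, HasRingHomProperty.Spec_iff (P := @LocallyOfFiniteType)] at h2
  algebraize [φ.hom]
  haveI : Algebra.FiniteType K (X.residueField x) := h2
  haveI : Module.Finite K (X.residueField x) := finite_of_finite_type_of_isJacobsonRing K _
  exact isSepClosed_of_isAlgebraic K (X.residueField x)

/-- **vanishing for sheaves supported at closed points** over a separably closed field. -/
theorem subsingleton_H [QuasiCompact a] (F : EtCoh.Ab X) (hF : ClosedPtSupp F) (q : ℕ)
    (hq : 1 ≤ q) : Subsingleton (EtCoh.H X F q) := by
  haveI : IsLocallyNoetherian X := LocallyOfFiniteType.isLocallyNoetherian a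
  haveI : CompactSpace X := QuasiCompact.compactSpace_of_compactSpace a
  exact Groth.Agent.Lib.Helper8EtClosedPtSupp.subsingleton_H F hF
    (fun x => isSepClosed_residueField_of_isClosed a x.1 x.2) q hq

/-- on a scheme of dimension at most one, a non-closed point has no proper generalization. -/
theorem generic_of_not_isClosed {C : Scheme.{u}} (hdim : topologicalKrullDim C ≤ 1)
    {Ω : Type u} [Field Ω] (ξ : Spec (CommRingCat.of Ω) ⟶ C)
    (hcl : ¬ IsClosed ({ξ (default : Spec (CommRingCat.of Ω))} : Set C)) :
    ∀ x ∈ Set.range ξ.base, ∀ y : C, y ⤳ x → y = x := by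
  rintro x ⟨a, rfl⟩ y hy
  have ha : ξ.base a = ξ (default : Spec (CommRingCat.of Ω)) := by
    rw [Subsingleton.elim a default]
  rw [ha] at hy ⊢
  rcases Groth.Agent.Lib.Helper10.CurveFin.forall_of_topologicalKrullDim_le_one hdim
    (ξ (default : Spec (CommRingCat.of Ω))) with h | h
  · exfalso
    apply hcl
    have e : closure ({ξ (default : Spec (CommRingCat.of Ω))} : Set C) =
        {ξ (default : Spec (CommRingCat.of Ω))} := by
      ext z
      rw [← specializes_iff_mem_closure, Set.mem_singleton_iff]
      exact ⟨fun hz => ((h z hz).antisymm hz).eq, fun hz => hz ▸ specializes_rfl⟩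
    rw [← e]
    exact isClosed_closure
  · exact (hy.antisymm (h y hy)).eq

/-- on a scheme of dimension at most one, a sheaf whose stalks at the geometric points over the
maximal points vanish has closed-point support. -/
theorem closedPtSupp_of_generic {C : Scheme.{u}} (hdim : topologicalKrullDim C ≤ 1)
    (F : EtCoh.Ab C)
    (hgen : ∀ (Ω : Type u) [Field Ω] [IsSepClosed Ω] (ξ : Spec (CommRingCat.of Ω) ⟶ C),
      (∀ x ∈ Set.range ξ.base, ∀ y : C, y ⤳ x → y = x) → IsZero ((EtCoh.stalk ξ).obj F)) :
    ClosedPtSupp F :=
  fun Ω _ _ ξ hcl => hgen Ω ξ (generic_of_not_isClosed hdim ξ hcl)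

/-- a morphism of sheaves whose kernel and cokernel have closed-point support induces
isomorphisms on cohomology in degrees `≥ 2`, and in degree `1` if it is an epimorphism. -/
theorem bijective_H_map [QuasiCompact a] {F G : EtCoh.Ab X} (φ : F ⟶ G)
    (hK : ClosedPtSupp (kernel φ)) (hQ : ClosedPtSupp (cokernel φ)) :
    (∀ q : ℕ, 1 < q → Function.Bijective (Sheaf.H.map φ q)) ∧
      (Epi φ → Function.Bijective (Sheaf.H.map φ 1)) :=
  Groth.Agent.Lib.Helper8EtLESIso.main F G φ (fun q hq => subsingleton_H a _ hK q hq)
    (fun q hq => subsingleton_H a _ hQ q hq)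

set_option backward.isDefEq.respectTransparency.types false in
/-- kernel and cokernel of a morphism inducing isomorphisms on the stalks where the stalks of a
closed-point-supported sheaf are allowed to be nonzero. -/
theorem closedPtSupp_kernel_cokernel {C : Scheme.{u}} {F G : EtCoh.Ab C} (φ : F ⟶ G)
    (h : ∀ (Ω : Type u) [Field Ω] [IsSepClosed Ω] (ξ : Spec (CommRingCat.of Ω) ⟶ C),
      ¬ IsClosed ({ξ (default : Spec (CommRingCat.of Ω))} : Set C) →
        IsIso ((EtCoh.stalk ξ).map φ)) :
    ClosedPtSupp (kernel φ) ∧ ClosedPtSupp (cokernel φ) := by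
  constructor
  · intro Ω _ _ ξ hcl
    haveI := h Ω ξ hcl
    exact (isZero_kernel_of_mono ((EtCoh.stalk ξ).map φ)).of_iso
      (PreservesKernel.iso (EtCoh.stalk ξ) φ)
  · intro Ω _ _ ξ hcl
    haveI := h Ω ξ hcl
    exact (isZero_cokernel_of_epi ((EtCoh.stalk ξ).map φ)).of_iso
      (PreservesCokernel.iso (EtCoh.stalk ξ) φ)

end Groth.Agent.Lib.Helper8EtClosedPtSuppField
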