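import Mathlib
import Groth.Prelude.Def_PBC
import Groth.Agent.Lib.Helper8EtCardLocus

/-!
# Cospecialization maps into a point near which the sheaf is locally constant (helper8)
-/

set_option autoImplicit false
open CategoryTheory CategoryTheory.Limits AlgebraicGeometry Opposite GrothendieckTopology Topology
universe u

namespace Groth.Agent.Lib.Helper8EtCospecNearA

open Groth.Agent.Lib.Helper16.EtStalk Groth.Agent.Lib.Helper16.SmallEtale
  Groth.Agent.Lib.Helper16.StalkPull Groth.Agent.Lib.Helper8EtFLCCrit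
  Groth.Agent.Lib.Helper8EtFLCKer Groth.Agent.Lib.Helper8EtFLCExt
  Groth.Agent.Lib.Helper8EtSpecArrow Groth.Agent.Lib.Helper8EtCospec
  Groth.Agent.Lib.Helper8EtCospecFLC Groth.Agent.Lib.Helper8EtArrowSpec
  Groth.Agent.Lib.Helper8EtCardLocus

variable {X X' : Scheme.{u}}

set_option backward.isDefEq.respectTransparency.types false in
/-- concrete description of the identification of fibre functors -/
lemma fiberIso_hom_left (f : X' ⟶ X) {Ω : Type u} [Field Ω] [IsSepClosed Ω]
    (ξ : Spec (CommRingCat.of Ω) ⟶ X') (W : X.Etale)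
    (t : (Scheme.pointSmallEtale ξ).fiber.obj ((EtCoh.bc f).obj W)) :
    (((Groth.Agent.S0100.fiberIso f ξ).hom.app W t).left : Spec (CommRingCat.of Ω) ⟶ W.left) =
      (t.left : Spec (CommRingCat.of Ω) ⟶ ((EtCoh.bc f).obj W).left) ≫ pullback.fst W.hom f :=
  rfl

lemma hom_inv_app_apply {C : Type*} [Category C] {P Q : C ⥤ Type u} (e : P ≅ Q) (U : C)
    (t : Q.obj U) : e.hom.app U (e.inv.app U t) = t :=
  Iso.inv_hom_id_app_apply e U t

set_option backward.isDefEq.respectTransparency.types false in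
/-- the centre of a lift to the base change maps to the centre of the corresponding lift -/
lemma fst_ctr_fiberIso_inv (f : X' ⟶ X) {Ω : Type u} [Field Ω] [IsSepClosed Ω]
    (ξ : Spec (CommRingCat.of Ω) ⟶ X') (W : X.Etale)
    (s : (Scheme.pointSmallEtale (ξ ≫ f)).fiber.obj W) :
    (pullback.fst W.hom f) (ctr ξ ((Groth.Agent.S0100.fiberIso f ξ).inv.app W s)) =
      ctr (ξ ≫ f) s := by
  obtain ⟨e, he⟩ : ∃ e, e = Groth.Agent.S0100.fiberIso f ξ := ⟨_, rfl⟩
  obtain ⟨t, ht⟩ : ∃ t, t = e.inv.app W s := ⟨_, rfl⟩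
  have h1 : e.hom.app W t = s := by rw [ht]; exact hom_inv_app_apply e W s
  have h2 := fiberIso_hom_left f ξ W t
  rw [← he, h1] at h2
  have h3 := congrArg (fun m : Spec (CommRingCat.of Ω) ⟶ W.left =>
    m (default : Spec (CommRingCat.of Ω))) h2
  rw [← he, ← ht]
  exact h3.symm

set_option backward.isDefEq.respectTransparency.types false in
/-- stalks of finite locally constant sheaves are finite -/
lemma finite_stalk_of_flc (G : EtCoh.Ab X) (hG : FLC G) {Ω : Type u} [Field Ω] [IsSepClosed Ω]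
    (ξ : Spec (CommRingCat.of Ω) ⟶ X) : Finite ((EtCoh.stalk ξ).obj G : Type (u + 1)) := by
  obtain ⟨ι, U, hU, hch⟩ := hG
  obtain ⟨i, y, hy⟩ := hU (ξ (default : Spec (CommRingCat.of Ω)))
  obtain ⟨M, _, _, φ, hφ⟩ := hch i
  obtain ⟨s, -⟩ := Scheme.pointSmallEtaleFiberObjToPreimage_surjective ξ rfl (U i) ⟨y, hy⟩
  exact Finite.of_equiv M (Equiv.ofBijective _ (hφ Ω ξ s))

variable {Ω Ω' : Type u} [Field Ω] [IsSepClosed Ω] [Field Ω'] [IsSepClosed Ω']

set_option backward.isDefEq.respectTransparency.types false in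
set_option maxHeartbeats 1600000 in
/-- if `j^* F` is finite locally constant for an open immersion `j`, the cospecialization maps of
`F` between geometric points factoring through `j` are bijective -/
theorem cospec_bijective_of_flc_pull {U : Scheme.{u}} (j : U ⟶ X) [IsOpenImmersion j]
    (F : EtCoh.Ab X) (hG : FLC ((EtCoh.pull j).obj F))
    (ξ : Spec (CommRingCat.of Ω) ⟶ U) (ξ' : Spec (CommRingCat.of Ω') ⟶ U)
    (φ : Scheme.pointSmallEtale (ξ' ≫ j) ⟶ Scheme.pointSmallEtale (ξ ≫ j)) :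
    Function.Bijective
      ((GrothendieckTopology.Point.Hom.sheafFiber (A := AddCommGrpCat.{u + 1}) φ).app F) := by
  -- arrows on `U` compatible with `φ` on a given étale neighbourhood
  have harrow : ∀ (W : X.Etale) (s : (Scheme.pointSmallEtale (ξ ≫ j)).fiber.obj W),
      ∃ φU : Scheme.pointSmallEtale ξ' ⟶ Scheme.pointSmallEtale ξ,
        φU.hom.app ((EtCoh.bc j).obj W) ((Groth.Agent.S0100.fiberIso j ξ).inv.app W s) =
          (Groth.Agent.S0100.fiberIso j ξ').inv.app W (φ.hom.app W s) := by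
    intro W s
    apply exists_arrow
    have h1 := arrow_specializes (ξ ≫ j) (ξ' ≫ j) φ W s
    rw [← fst_ctr_fiberIso_inv j ξ W s, ← fst_ctr_fiberIso_inv j ξ' W (φ.hom.app W s)] at h1
    exact (pullback.fst W.hom j).isOpenEmbedding.isInducing.specializes_iff.mp h1
  -- injectivity
  have hinj : Function.Injective
      ((GrothendieckTopology.Point.Hom.sheafFiber (A := AddCommGrpCat.{u + 1}) φ).app F) := by
    intro b₁ b₂ hb
    obtain ⟨W, s, z₁, z₂, rfl, rfl⟩ :=
      (Scheme.pointSmallEtale (ξ ≫ j)).toPresheafFiber_jointly_surjective₂ b₁ b₂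
    change (GrothendieckTopology.Point.Hom.sheafFiber (A := AddCommGrpCat.{u + 1}) φ).app F
      (germ (ξ ≫ j) F W s z₁) = (GrothendieckTopology.Point.Hom.sheafFiber
        (A := AddCommGrpCat.{u + 1}) φ).app F (germ (ξ ≫ j) F W s z₂) at hb
    rw [sheafFiber_germ, sheafFiber_germ] at hb
    obtain ⟨φU, hφU⟩ := harrow W s
    have hbU := cospec_bijective_of_flc ξ ξ' ((EtCoh.pull j).obj F) hG φU
    have h2 := congrArg ((Groth.Agent.S0101.stalkPullIso j ξ').hom.app F) hb
    rw [germ_compat, germ_compat, ← hφU, ← sheafFiber_germ, ← sheafFiber_germ] at h2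
    have h3 := hbU.1 h2
    rw [← germ_compat, ← germ_compat] at h3
    exact (bijective_of_iso ((Groth.Agent.S0101.stalkPullIso j ξ).app F)).1 h3
  -- cardinalities
  obtain ⟨φU, -⟩ := harrow (Scheme.Etale.mk (𝟙 X)) (baseLift (ξ ≫ j))
  have hbU := cospec_bijective_of_flc ξ ξ' ((EtCoh.pull j).obj F) hG φU
  have hcard : Nat.card ((EtCoh.stalk (ξ' ≫ j)).obj F : Type (u + 1)) =
      Nat.card ((EtCoh.stalk (ξ ≫ j)).obj F : Type (u + 1)) := by
    rw [← card_pull j F ξ', ← card_pull j F ξ]
    exact (Nat.card_congr (Equiv.ofBijective _ hbU)).symm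
  haveI : Finite ((EtCoh.stalk (ξ' ≫ j)).obj F : Type (u + 1)) := by
    haveI : Finite ((EtCoh.stalk ξ').obj ((EtCoh.pull j).obj F) : Type (u + 1)) :=
      finite_stalk_of_flc _ hG ξ'
    exact Finite.of_equiv ((EtCoh.stalk ξ').obj ((EtCoh.pull j).obj F) : Type (u + 1))
      (Equiv.ofBijective _
        (bijective_of_iso ((Groth.Agent.S0101.stalkPullIso j ξ').app F))).symm
  exact hinj.bijective_of_nat_card_le hcard.le

end Groth.Agent.Lib.Helper8EtCospecNearA
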