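import Mathlib
import Groth.Prelude.Def_PBC
import Groth.Agent.Lib.Helper8EtCospecNearA

/-!
# Maps out of constant sheaves given by global sections, and their stalks (helper8)
-/

set_option autoImplicit false
open CategoryTheory CategoryTheory.Limits AlgebraicGeometry Opposite GrothendieckTopology Topology
universe u

namespace Groth.Agent.Lib.Helper8EtConstMap

open Groth.Agent.Lib.Helper16.EtStalk Groth.Agent.Lib.Helper16.SmallEtale
  Groth.Agent.Lib.Helper16.StalkPull Groth.Agent.Lib.Helper8EtFLCCrit
  Groth.Agent.Lib.Helper8EtFLCKer Groth.Agent.Lib.Helper8EtFLCExt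
  Groth.Agent.Lib.Helper8EtSpecArrow Groth.Agent.Lib.Helper8EtCospec
  Groth.Agent.Lib.Helper8EtCospecFLC Groth.Agent.Lib.Helper8EtArrowSpec
  Groth.Agent.Lib.Helper8EtCardLocus Groth.Agent.Lib.Helper8SiteStalkConst
  Groth.Agent.Lib.Helper8SiteCrit

variable {Y : Scheme.{u}}

section ConstMap

variable (G : EtCoh.Ab Y) {M : Type} [AddCommGroup M]

/-- the morphism to the terminal object -/
noncomputable abbrev toTop (V : Y.Etale) : V ⟶ EtCoh.top Y := (EtCore.topIsTerminal Y).from V

/-- constant sections of the constant sheaf -/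
noncomputable def cst (V : Y.Etale) : M →+ (EtCoh.const Y M).obj.obj (op V) :=
  ((CategoryTheory.toSheafify Y.smallEtaleTopology
    ((Functor.const Y.Etaleᵒᵖ).obj (AddCommGrpCat.of (ULift.{u + 1} M)))).app (op V)).hom.comp
    (AddEquiv.ulift.symm : M ≃+ ULift.{u + 1} M).toAddMonoidHom

/-- the map of presheaves from the constant presheaf given by a family of global sections -/
noncomputable def constPre (γ : M →+ G.obj.obj (op (EtCoh.top Y))) :
    (Functor.const Y.Etaleᵒᵖ).obj (AddCommGrpCat.of (ULift.{u + 1} M)) ⟶ G.obj where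
  app V := AddCommGrpCat.ofHom (((G.obj.map (toTop V.unop).op).hom.comp γ).comp
    (AddEquiv.ulift : ULift.{u + 1} M ≃+ M).toAddMonoidHom)
  naturality V V' g := by
    ext m
    have h : toTop V'.unop = g.unop ≫ toTop V.unop := (EtCore.topIsTerminal Y).hom_ext _ _
    change G.obj.map (toTop V'.unop).op (γ m.down) =
      G.obj.map g (G.obj.map (toTop V.unop).op (γ m.down))
    rw [h, op_comp, Functor.map_comp]
    rfl

/-- the map of sheaves from the constant sheaf given by a family of global sections -/
noncomputable def constMap (γ : M →+ G.obj.obj (op (EtCoh.top Y))) : EtCoh.const Y M ⟶ G :=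
  ⟨CategoryTheory.sheafifyLift Y.smallEtaleTopology (constPre G γ) G.property⟩

lemma constMap_cst (γ : M →+ G.obj.obj (op (EtCoh.top Y))) (V : Y.Etale) (m : M) :
    (constMap G γ).hom.app (op V) (cst V m) = G.obj.map (toTop V).op (γ m) := by
  have h := CategoryTheory.toSheafify_sheafifyLift Y.smallEtaleTopology (constPre G γ) G.property
  have h2 := congrArg (fun k => k.app (op V)) h
  exact ConcreteCategory.congr_hom h2 (ULift.up m)

variable {Ω : Type u} [Field Ω] [IsSepClosed Ω] (ζ : Spec (CommRingCat.of Ω) ⟶ Y)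

set_option backward.isDefEq.respectTransparency.types false in
lemma stalk_constMap (γ : M →+ G.obj.obj (op (EtCoh.top Y))) (V : Y.Etale)
    (t : (Scheme.pointSmallEtale ζ).fiber.obj V) (m : M) :
    (EtCoh.stalk ζ).map (constMap G γ) (germ ζ (EtCoh.const Y M) V t (cst V m)) =
      germ ζ G (EtCoh.top Y) ((Scheme.pointSmallEtale ζ).fiber.map (toTop V) t) (γ m) := by
  rw [← germ_nat, constMap_cst]
  exact germ_map ζ G (toTop V) t _ rfl (γ m)

set_option backward.isDefEq.respectTransparency.types false in
/-- germs of constant sections identify the value group with the stalk of the constant sheaf -/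
lemma const_germ_bij (V : Y.Etale) (t : (Scheme.pointSmallEtale ζ).fiber.obj V) :
    Function.Bijective (fun m : M => germ ζ (EtCoh.const Y M) V t (cst V m)) := by
  have h := sheafFiberConstIso_germ (Scheme.pointSmallEtale ζ)
    (AddCommGrpCat.of (ULift.{u + 1} M)) V t
  have key : ∀ m : M, (sheafFiberConstIso (Scheme.pointSmallEtale ζ)
      (AddCommGrpCat.of (ULift.{u + 1} M))).hom
      (germ ζ (EtCoh.const Y M) V t (cst V m)) = ULift.up m := fun m =>
    ConcreteCategory.congr_hom h (ULift.up m)
  have hb := bijective_of_iso (sheafFiberConstIso (Scheme.pointSmallEtale ζ)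
      (AddCommGrpCat.of (ULift.{u + 1} M)))
  constructor
  · intro m m' hmm
    have := congrArg (sheafFiberConstIso (Scheme.pointSmallEtale ζ)
      (AddCommGrpCat.of (ULift.{u + 1} M))).hom hmm
    rw [key, key] at this
    exact ULift.up_injective this
  · intro b
    refine ⟨((sheafFiberConstIso (Scheme.pointSmallEtale ζ)
      (AddCommGrpCat.of (ULift.{u + 1} M))).hom b).down, hb.1 ?_⟩
    rw [key]

set_option backward.isDefEq.respectTransparency.types false in
/-- stalkwise surjectivity of `constMap` in terms of germs of the global sections -/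
lemma surj_constMap_iff (γ : M →+ G.obj.obj (op (EtCoh.top Y))) :
    Function.Surjective ((EtCoh.stalk ζ).map (constMap G γ)) ↔
      Function.Surjective (fun m : M => germ ζ G (EtCoh.top Y) (baseLift ζ) (γ m)) := by
  have hfib : ∀ t : (Scheme.pointSmallEtale ζ).fiber.obj (EtCoh.top Y), t = baseLift ζ := by
    intro t
    apply Over.OverMorphism.ext
    have h1 : (t.left : Spec (CommRingCat.of Ω) ⟶ Y) = ζ := by simpa using Over.w t
    exact h1
  have key : ∀ m : M, (EtCoh.stalk ζ).map (constMap G γ)
      (germ ζ (EtCoh.const Y M) (EtCoh.top Y) (baseLift ζ) (cst (EtCoh.top Y) m)) =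
      germ ζ G (EtCoh.top Y) (baseLift ζ) (γ m) := by
    intro m
    rw [stalk_constMap, hfib ((Scheme.pointSmallEtale ζ).fiber.map _ _)]
  constructor
  · intro hs b
    obtain ⟨c, rfl⟩ := hs b
    obtain ⟨m, rfl⟩ := (const_germ_bij (M := M) ζ (EtCoh.top Y) (baseLift ζ)).2 c
    exact ⟨m, (key m).symm⟩
  · intro hs b
    obtain ⟨m, rfl⟩ := hs b
    exact ⟨_, key m⟩

/-- the constant sheaf with finite value group is finite locally constant -/
lemma flc_const (M : Type) [AddCommGroup M] [Finite M] : FLC (EtCoh.const Y M) :=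
  ⟨PUnit, fun _ => EtCoh.top Y, fun y => ⟨PUnit.unit, y, rfl⟩, fun _ =>
    ⟨M, inferInstance, inferInstance, cst (EtCoh.top Y), fun _ _ _ ζ t =>
      const_germ_bij ζ (EtCoh.top Y) t⟩⟩

end ConstMap

section Diag

open Groth.Agent.Lib.Helper8EtCospecNearA

variable {X : Scheme.{u}} (f : Y ⟶ X) [Etale f] (F : EtCoh.Ab X) {M : Type} [AddCommGroup M]

/-- the diagonal section of the base change of `Y → X` to `Y` -/
noncomputable def diagSec : EtCoh.top Y ⟶ (EtCoh.bc f).obj (Scheme.Etale.mk f) :=
  MorphismProperty.Over.homMk (pullback.lift (𝟙 Y) (𝟙 Y) rfl)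
    (by exact pullback.lift_snd _ _ _) trivial

lemma diagSec_left_fst :
    ((diagSec f).left : Y ⟶ pullback f f) ≫ pullback.fst f f = 𝟙 Y :=
  pullback.lift_fst _ _ _

/-- the global sections of the pullback to `Y` determined by sections over `Y → X` -/
noncomputable def gsecHom (φ : M →+ F.obj.obj (op (Scheme.Etale.mk f))) :
    M →+ ((EtCoh.pull f).obj F).obj.obj (op (EtCoh.top Y)) :=
  ((((EtCoh.pull f).obj F).obj.map (diagSec f).op).hom.comp
    (((EtCoh.pullPushAdj f).unit.app F).hom.app (op (Scheme.Etale.mk f))).hom).comp φ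

variable {Ω : Type u} [Field Ω] [IsSepClosed Ω] (ζ : Spec (CommRingCat.of Ω) ⟶ Y)

/-- the tautological lift of `ζ ≫ f` to `Y → X` -/
noncomputable def taut : (Scheme.pointSmallEtale (ζ ≫ f)).fiber.obj (Scheme.Etale.mk f) :=
  Over.homMk ζ rfl

lemma inv_hom_app_apply' {C : Type*} [Category C] {P Q : C ⥤ Type u} (e : P ≅ Q) (U : C)
    (t : P.obj U) : e.inv.app U (e.hom.app U t) = t :=
  Iso.hom_inv_id_app_apply e U t

set_option backward.isDefEq.respectTransparency.types false in
lemma fiberIso_inv_taut :
    (Groth.Agent.S0100.fiberIso f ζ).inv.app (Scheme.Etale.mk f) (taut f ζ) =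
      (Scheme.pointSmallEtale ζ).fiber.map (diagSec f) (baseLift ζ) := by
  have h : (Groth.Agent.S0100.fiberIso f ζ).hom.app (Scheme.Etale.mk f)
      ((Scheme.pointSmallEtale ζ).fiber.map (diagSec f) (baseLift ζ)) = taut f ζ := by
    apply Over.OverMorphism.ext
    rw [fiberIso_hom_left]
    change (ζ ≫ (diagSec f).left) ≫ pullback.fst f f = ζ
    exact (Category.assoc _ _ _).trans
      ((congrArg (fun k => ζ ≫ k) (diagSec_left_fst f)).trans (Category.comp_id ζ))
  obtain ⟨e, he⟩ : ∃ e, e = Groth.Agent.S0100.fiberIso f ζ := ⟨_, rfl⟩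
  rw [← he] at h ⊢
  rw [← h]
  exact inv_hom_app_apply' e _ _

set_option backward.isDefEq.respectTransparency.types false in
/-- germs of `φ m` at the tautological lift correspond to germs of the global sections -/
lemma germ_gsec (φ : M →+ F.obj.obj (op (Scheme.Etale.mk f))) (m : M) :
    (Groth.Agent.S0101.stalkPullIso f ζ).hom.app F
        (germ (ζ ≫ f) F (Scheme.Etale.mk f) (taut f ζ) (φ m)) =
      germ ζ ((EtCoh.pull f).obj F) (EtCoh.top Y) (baseLift ζ) (gsecHom f F φ m) := by
  rw [germ_compat, fiberIso_inv_taut]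
  exact (germ_map ζ ((EtCoh.pull f).obj F) (diagSec f) (baseLift ζ) _ rfl _).symm

end Diag

end Groth.Agent.Lib.Helper8EtConstMap
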