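import Groth.Agent.Lib.Helper8EtRpushTors

/-!
# `L`-torsion sheaves and their higher direct images (helper8)

An `L`-torsion sheaf is a torsion sheaf on which every prime outside `L` acts invertibly, and
conversely; hence `R^q f_*` of an `L`-torsion sheaf is `L`-torsion for `f` qcqs.
-/

set_option autoImplicit false
universe u
open CategoryTheory CategoryTheory.Limits AlgebraicGeometry Opposite Abelian

namespace Groth.Agent.Lib.Helper8EtLTors

open Groth.Agent.Lib.Helper16.SmallEtale Groth.Agent.Lib.Helper8EtTorsion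
  Groth.Agent.Lib.Helper8EtRpushTors

variable {X : Scheme.{u}}

theorem isTorsion_of_isLTorsion (L : Set ℕ) (F : EtCoh.Ab X) (hF : EtAcyc.IsLTorsion L F) :
    EtCoh.IsTorsion F := by
  intro U s x
  obtain ⟨V, g, m, hv, hm, hms⟩ := hF U s x
  exact ⟨V, g, hv, isOfFinAddOrder_iff_nsmul_eq_zero.2 ⟨m, hm.1, hms⟩⟩

lemma nsmul_id_app (F : EtCoh.Ab X) (p : ℕ) (U : X.Etale) (s : EtCoh.sect F U) :
    ((p • 𝟙 F : F ⟶ F).hom.app (op U)).hom s = p • s := by
  induction p with
  | zero =>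
    rw [zero_nsmul, zero_nsmul]
    rfl
  | succ p ih =>
    rw [succ_nsmul, succ_nsmul, Sheaf.Hom.add_app, AddCommGrpCat.hom_add, AddMonoidHom.add_apply, ih]
    rfl

lemma map_comp_apply (F : EtCoh.Ab X) {U V W : X.Etale} (g : V ⟶ U) (k : W ⟶ V)
    (s : EtCoh.sect F U) :
    (F.obj.map (k ≫ g).op).hom s = (F.obj.map k.op).hom ((F.obj.map g.op).hom s) := by
  change _ = (F.obj.map g.op ≫ F.obj.map k.op).hom s
  rw [← F.obj.map_comp]
  rfl

/-- sections which agree étale locally agree. -/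
theorem eq_of_locally_eq (F : EtCoh.Ab X) (U : X.Etale) (s t : EtCoh.sect F U)
    (h : ∀ x : U.left, ∃ (V : X.Etale) (g : V ⟶ U), (∃ v : V.left, g.left.base v = x) ∧
      (F.obj.map g.op).hom s = (F.obj.map g.op).hom t) : s = t := by
  let Gt : X.Etaleᵒᵖ ⥤ Type (u + 1) := F.obj ⋙ forget AddCommGrpCat.{u + 1}
  have hG : Presieve.IsSheaf X.smallEtaleTopology Gt :=
    (isSheaf_iff_isSheaf_of_type _ _).1
      ((Presheaf.isSheaf_iff_isSheaf_forget X.smallEtaleTopology F.obj
        (forget AddCommGrpCat.{u + 1})).1 F.property)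
  let R : Sieve U :=
    { arrows := fun V g => (F.obj.map g.op).hom s = (F.obj.map g.op).hom t
      downward_closed := by
        intro V W g hg k
        change (F.obj.map (k ≫ g).op).hom s = (F.obj.map (k ≫ g).op).hom t
        rw [map_comp_apply, map_comp_apply, hg] }
  have hR : R ∈ X.smallEtaleTopology U := by
    rw [mem_smallEtale_iff]
    intro x
    obtain ⟨V, g, ⟨v, hv⟩, hg⟩ := h x
    exact ⟨V, g, v, hg, hv⟩
  exact (hG _ hR).isSeparatedFor.ext (fun V g hg => hg)

/-- a prime outside `L` acts injectively on the sections of an `L`-torsion sheaf. -/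
theorem eq_zero_of_nsmul_eq_zero (L : Set ℕ) (F : EtCoh.Ab X) (hF : EtAcyc.IsLTorsion L F)
    (p : ℕ) (hp : p.Prime) (hpL : p ∉ L) (U : X.Etale) (s : EtCoh.sect F U) (hs : p • s = 0) :
    s = 0 := by
  apply eq_of_locally_eq F U s 0
  intro x
  obtain ⟨V, g, m, hv, hm, hms⟩ := hF U s x
  refine ⟨V, g, hv, ?_⟩
  rw [map_zero]
  have hcop : Nat.Coprime p m := by
    rw [Nat.Prime.coprime_iff_not_dvd hp]
    intro hpm
    exact hpL (hm.2 p hp hpm)
  have hps : p • (F.obj.map g.op).hom s = 0 := by rw [← map_nsmul, hs, map_zero]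
  -- Bezout
  have hb := Nat.Coprime.gcd_eq_one hcop
  have h1 : ((p : ℤ).gcd (m : ℤ) : ℤ) = 1 := by
    rw [Int.gcd_natCast_natCast, hb]; rfl
  have h2 := Int.gcd_eq_gcd_ab (p : ℤ) (m : ℤ)
  rw [h1] at h2
  have h3 : (1 : ℤ) • (F.obj.map g.op).hom s = 0 := by
    rw [h2, add_smul, mul_comm, mul_smul, mul_comm, mul_smul, natCast_zsmul, natCast_zsmul, hps,
      hms, smul_zero, smul_zero, add_zero]
  rwa [one_smul] at h3

/-- a prime outside `L` acts invertibly on an `L`-torsion sheaf. -/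
theorem isIso_nsmul_id (L : Set ℕ) (F : EtCoh.Ab X) (hF : EtAcyc.IsLTorsion L F)
    (p : ℕ) (hp : p.Prime) (hpL : p ∉ L) : IsIso (p • 𝟙 F : F ⟶ F) := by
  haveI : Mono (p • 𝟙 F : F ⟶ F) := by
    rw [Sheaf.Hom.mono_iff_presheaf_mono, NatTrans.mono_iff_mono_app]
    intro U
    rw [AddCommGrpCat.mono_iff_injective, injective_iff_map_eq_zero]
    intro s hs
    have hs' : ((p • 𝟙 F : F ⟶ F).hom.app (op U.unop)).hom s = 0 := hs
    rw [nsmul_id_app] at hs'
    exact eq_zero_of_nsmul_eq_zero L F hF p hp hpL U.unop s hs'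
  haveI : Epi (p • 𝟙 F : F ⟶ F) := by
    rw [← Sheaf.isLocallySurjective_iff_epi' _ (p • 𝟙 F : F ⟶ F)]
    constructor
    intro U s
    rw [mem_smallEtale_iff]
    intro x
    obtain ⟨V, g, m, ⟨v, hv⟩, hm, hms⟩ := hF U s x
    have hcop : Nat.Coprime p m := by
      rw [Nat.Prime.coprime_iff_not_dvd hp]
      intro hpm
      exact hpL (hm.2 p hp hpm)
    have hb := Nat.Coprime.gcd_eq_one hcop
    have h1 : ((p : ℤ).gcd (m : ℤ) : ℤ) = 1 := by
      rw [Int.gcd_natCast_natCast, hb]; rfl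
    have h2 := Int.gcd_eq_gcd_ab (p : ℤ) (m : ℤ)
    rw [h1] at h2
    refine ⟨V, g, v, ⟨((p : ℤ).gcdA (m : ℤ)) • (F.obj.map g.op).hom s, ?_⟩, hv⟩
    change ((p • 𝟙 F : F ⟶ F).hom.app (op V)).hom _ = (F.obj.map g.op).hom s
    rw [nsmul_id_app]
    have h3 : (1 : ℤ) • (F.obj.map g.op).hom s =
        p • (((p : ℤ).gcdA (m : ℤ)) • (F.obj.map g.op).hom s) := by
      rw [h2, add_smul, mul_smul, mul_comm, mul_smul, natCast_zsmul, natCast_zsmul, hms, smul_zero,
        add_zero]
    rw [← h3, one_smul]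
  exact isIso_of_mono_of_epi _

/-- a torsion sheaf on which the primes outside `L` act invertibly is `L`-torsion. -/
theorem isLTorsion_of_isTorsion (L : Set ℕ) (F : EtCoh.Ab X) (hF : EtCoh.IsTorsion F)
    (hiso : ∀ p : ℕ, p.Prime → p ∉ L → IsIso (p • 𝟙 F : F ⟶ F)) : EtAcyc.IsLTorsion L F := by
  intro U s x
  obtain ⟨V, g, hv, hfin⟩ := hF U s x
  obtain ⟨m, hm, hms⟩ := isOfFinAddOrder_iff_nsmul_eq_zero.1 hfin
  refine ⟨V, g, ?_⟩
  -- strong induction on `m`
  have key : ∀ (m : ℕ), 0 < m → ∀ t : EtCoh.sect F V, m • t = 0 →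
      ∃ m' : ℕ, EtAcyc.PrimesIn L m' ∧ m' • t = 0 := by
    intro m
    induction m using Nat.strong_induction_on with
    | _ m ih =>
      intro hm t hmt
      by_cases hall : ∀ p : ℕ, p.Prime → p ∣ m → p ∈ L
      · exact ⟨m, ⟨hm, hall⟩, hmt⟩
      · push Not at hall
        obtain ⟨p, hp, hpm, hpL⟩ := hall
        obtain ⟨m'', rfl⟩ := hpm
        have hm''pos : 0 < m'' := Nat.pos_of_mul_pos_left hm
        have hlt : m'' < p * m'' := by
          have := hp.one_lt
          nlinarith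
        haveI := hiso p hp hpL
        have hinj : Function.Injective ((p • 𝟙 F : F ⟶ F).hom.app (op V)).hom := by
          haveI : IsIso ((p • 𝟙 F : F ⟶ F).hom.app (op V)) := inferInstance
          exact ((ConcreteCategory.isIso_iff_bijective _).1 inferInstance).1
        have h0 : m'' • t = 0 := by
          apply hinj
          rw [nsmul_id_app, map_zero, ← mul_nsmul', hmt]
        exact ih m'' hlt hm''pos t h0
  obtain ⟨m', hm', hm't⟩ := key m hm _ hms
  exact ⟨m', hv, hm', hm't⟩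

/-- **higher direct images of `L`-torsion sheaves along qcqs morphisms are `L`-torsion.** -/
theorem isLTorsion_Rpush {Y : Scheme.{u}} (f : X ⟶ Y) [QuasiCompact f] [QuasiSeparated f]
    (L : Set ℕ) (F : EtCoh.Ab X) (hF : EtAcyc.IsLTorsion L F) (q : ℕ) :
    EtAcyc.IsLTorsion L ((EtCoh.Rpush f q).obj F) := by
  apply isLTorsion_of_isTorsion L _
    (isTorsion_Rpush_of_isTorsion f F (isTorsion_of_isLTorsion L F hF) q)
  intro p hp hpL
  haveI := isIso_nsmul_id L F hF p hp hpL
  have h : (EtCoh.Rpush f q).map (p • 𝟙 F) = p • 𝟙 _ := by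
    rw [Functor.map_nsmul, CategoryTheory.Functor.map_id]
  rw [← h]
  infer_instance

end Groth.Agent.Lib.Helper8EtLTors
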