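import Groth.Agent.Lib.Helper9JContAll
import Groth.Prelude.Def_PBC
import Groth.Prelude.Def_EtCore
import Groth.Prelude.Def_EtShriek2

/-!
# Comparison of the two extensions by zero of constant sheaves (helper8)

`EtPBC.extZeroConst U M` (extension by zero from the over-site of `U : X.Etale`) is isomorphic to
`j_!` (along `j = U.hom`, from the small étale site of `U.left`) of the constant sheaf.
-/

set_option autoImplicit false
set_option linter.style.haveILetI false
universe u
open CategoryTheory CategoryTheory.Limits AlgebraicGeometry Opposite

namespace Groth.Agent.Lib.Helper8EtExtZeroOver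

variable {X : Scheme.{u}} (U : X.Etale)

instance : AlgebraicGeometry.Etale U.hom := U.prop

instance : EtShriek.JCont U.hom := Groth.Agent.Lib.Helper9.JContAll.jCont _

/-- the image of the terminal object of the small étale site of `U.left` is `U` -/
noncomputable def topIso : (EtShriek.compEtale U.hom).obj (EtCoh.top U.left) ≅ U :=
  MorphismProperty.Over.isoMk (Iso.refl _) (by
    show 𝟙 U.left ≫ U.hom = 𝟙 U.left ≫ U.hom
    rfl)

/-- the two "sections over `U`" functors agree -/
noncomputable def sectionsIso :
    EtShriek.restrAlong U.hom ⋙ EtCore.gsec U.left ≅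
      X.smallEtaleTopology.overPullback AddCommGrpCat.{u + 1} U ⋙
        (sheafSections (X.smallEtaleTopology.over U) AddCommGrpCat.{u + 1}).obj
          (op (Over.mk (𝟙 U))) :=
  NatIso.ofComponents (fun G => G.obj.mapIso (topIso U).symm.op) (by
    intro G G' φ
    exact (φ.hom.naturality (topIso U).inv.op).symm)

/-- **comparison of the extensions by zero of constant sheaves** -/
noncomputable def extZeroConstIso (M : Type) [AddCommGroup M] :
    EtPBC.extZeroConst U M ≅ (EtShriek.extZero U.hom).obj (EtCoh.const U.left M) :=
  (Adjunction.leftAdjointUniq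
    ((constantSheafAdj (X.smallEtaleTopology.over U) AddCommGrpCat.{u + 1}
      (Over.mkIdTerminal (X := U))).comp (EtPBC.extZeroAdj U))
    (((EtCore.constAdj U.left).comp (EtShriek.extZeroAdj U.hom)).ofNatIsoRight
      (sectionsIso U))).app (AddCommGrpCat.of (ULift.{u + 1} M))

end Groth.Agent.Lib.Helper8EtExtZeroOver
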