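import Groth.Agent.Lib.Helper8EtFLCCrit
import Groth.Agent.Lib.Helper8EtStalkAlg

/-!
# Finite local constancy from germs at algebraically closed geometric points (helper8)

`GermBijAlg F U M φ` is `GermBij` tested only at algebraically closed geometric points; it still
gives an isomorphism `F|_U ≅ M_U`.  `flc_of_alg` is the resulting criterion.
-/

set_option autoImplicit false
open CategoryTheory CategoryTheory.Limits AlgebraicGeometry Opposite GrothendieckTopology
universe u

namespace Groth.Agent.Lib.Helper8EtFLCAlg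

open Groth.Agent.Lib.Helper16.EtStalk Groth.Agent.Lib.Helper16.SmallEtale
  Groth.Agent.Lib.Helper16.StalkPull Groth.Agent.Lib.Helper8SiteStalkConst
  Groth.Agent.Lib.Helper8SiteCrit Groth.Agent.Lib.Helper8EtFLCCrit

variable {X : Scheme.{u}}

/-- `φ : M →+ F(U)` induces bijections onto all stalks at algebraically closed geometric points
over `U`. -/
def GermBijAlg (F : EtCoh.Ab X) (U : X.Etale) (M : Type) [AddCommGroup M]
    (φ : M →+ F.obj.obj (op U)) : Prop :=
  ∀ (Ω : Type u) [Field Ω] [IsAlgClosed Ω] (ξ : Spec (CommRingCat.of Ω) ⟶ X)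
    (t : (Scheme.pointSmallEtale ξ).fiber.obj U),
    Function.Bijective (fun m : M => germ ξ F U t (φ m))

/-- algebraically closed geometric points, bundled -/
structure GeomPtA (X : Scheme.{u}) where
  Ω : Type u
  [field : Field Ω]
  [alg : IsAlgClosed Ω]
  ξ : Spec (CommRingCat.of Ω) ⟶ X

attribute [instance] GeomPtA.field GeomPtA.alg

/-- the points of the over-site of `U` coming from algebraically closed geometric points -/
noncomputable def overPtA (U : X.Etale)
    (i : Σ p : GeomPtA X, (Scheme.pointSmallEtale p.ξ).fiber.obj U) :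
    Point.{u} (X.smallEtaleTopology.over U) :=
  (Scheme.pointSmallEtale i.1.ξ).over i.2

set_option backward.isDefEq.respectTransparency.types false in
theorem crit_overPtA (U : X.Etale) : Crit (overPtA U) := by
  intro Y R h
  rw [GrothendieckTopology.mem_over_iff, mem_smallEtale_iff]
  intro p
  obtain ⟨Ω, _, _, ξ, x₀, hx₀⟩ :=
    Groth.Agent.Lib.Helper8EtStalkAlg.exists_geometric_point Y.left p
  let Φ := Scheme.pointSmallEtale ξ
  obtain ⟨W, g, w, hRg, hw⟩ := h ⟨⟨Ω, ξ⟩, Φ.fiber.map Y.hom x₀⟩ ⟨x₀, rfl⟩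
  refine ⟨W.left, g.left, (w.1.left : Spec (CommRingCat.of Ω) ⟶ W.left.left)
    (default : Spec (CommRingCat.of Ω)), ?_, ?_⟩
  · rw [Sieve.overEquiv_iff]
    have e : (Over.homMk g.left : Over.mk (g.left ≫ Y.hom) ⟶ Y) =
        (Over.isoMk (Iso.refl _) (by simp) : Over.mk (g.left ≫ Y.hom) ≅ W).hom ≫ g := by
      ext
      simp
    rw [e]
    exact R.downward_closed hRg _
  · have h1 : (overPtA U ⟨⟨Ω, ξ⟩, Φ.fiber.map Y.hom x₀⟩).fiber.map g w = ⟨x₀, rfl⟩ := hw
    have h2 : Φ.fiber.map g.left w.1 = x₀ := congrArg Subtype.val h1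
    have e3 : w.1.left ≫ g.left.left = x₀.left := congrArg (fun m => m.left) h2
    rw [← hx₀]
    exact congrArg (fun m : Spec (CommRingCat.of Ω) ⟶ Y.left.left => m default) e3

variable {F : EtCoh.Ab X} {U : X.Etale} {M : Type} [AddCommGroup M]

set_option backward.isDefEq.respectTransparency.types false in
/-- sections with bijective germs at algebraically closed points give an isomorphism from the
constant sheaf on the over-site -/
theorem isIso_psi_alg (φ : M →+ F.obj.obj (op U)) (hφ : GermBijAlg F U M φ) :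
    IsIso (psi (liftHom φ)) := by
  obtain ⟨φ', hφ'⟩ : ∃ φ', φ' = liftHom φ := ⟨_, rfl⟩
  rw [← hφ']
  have hiso : IsIso (psi φ') := by
    apply isIso_of_crit (overPtA U) (crit_overPtA U)
    rintro ⟨⟨Ω, ξ⟩, t⟩
    let Ψ := (Scheme.pointSmallEtale ξ).over t
    change Function.Bijective (Ψ.sheafFiber.map (psi φ'))
    have key : ∀ m' : ULift.{u + 1} M,
        overFiberMap (Scheme.pointSmallEtale ξ) t F.obj (Ψ.sheafFiber.map (psi φ')
          ((sheafFiberConstIso Ψ (AddCommGrpCat.of (ULift.{u + 1} M))).inv m')) =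
        germ ξ F U t (φ m'.down) := by
      intro m'
      rw [germ_eq_overFiberMap, ← germ_cst]
      congr 1
      refine (Ψ.toPresheafFiber_naturality_apply (psi φ').hom (Over.mk (𝟙 U)) (tt U ξ t)
        (cst U M (Over.mk (𝟙 U)) m')).trans ?_
      congr 1
      have h1 := ConcreteCategory.congr_hom (cst_psi φ' (Over.mk (𝟙 U))) m'
      refine h1.trans ?_
      rw [hφ']
      change F.obj.map (𝟙 U).op (φ m'.down) = φ m'.down
      rw [op_id, CategoryTheory.Functor.map_id]
      rfl
    have hb : Function.Bijective ((overFiberMap (Scheme.pointSmallEtale ξ) t F.obj) ∘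
        (Ψ.sheafFiber.map (psi φ')) ∘
        ((sheafFiberConstIso Ψ (AddCommGrpCat.of (ULift.{u + 1} M))).inv)) := by
      have : ((overFiberMap (Scheme.pointSmallEtale ξ) t F.obj) ∘
          (Ψ.sheafFiber.map (psi φ')) ∘
          ((sheafFiberConstIso Ψ (AddCommGrpCat.of (ULift.{u + 1} M))).inv)) =
          (fun m : M => germ ξ F U t (φ m)) ∘ (AddEquiv.ulift : ULift.{u + 1} M ≃+ M) := by
        funext m'
        exact key m'
      rw [this]
      exact (hφ Ω ξ t).comp (AddEquiv.ulift : ULift.{u + 1} M ≃+ M).bijective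
    have hb2 := (Function.Bijective.of_comp_iff' (bijective_overFiberMap
      (Scheme.pointSmallEtale ξ) t F.obj) _).mp hb
    exact (Function.Bijective.of_comp_iff _ (bijective_of_iso_inv _)).mp hb2
  exact hiso

theorem nonempty_iso_of_germBijAlg (φ : M →+ F.obj.obj (op U)) (hφ : GermBijAlg F U M φ) :
    Nonempty (EtCoh.restr F U ≅ constOver U M) := by
  haveI := isIso_psi_alg φ hφ
  exact ⟨(asIso (psi (liftHom φ))).symm⟩

/-- the sections `φ` also have bijective germs at all separably closed geometric points -/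
theorem germBij_of_alg (φ : M →+ F.obj.obj (op U)) (hφ : GermBijAlg F U M φ) :
    ∃ φ' : M →+ F.obj.obj (op U), GermBij F U M φ' := by
  obtain ⟨e⟩ := nonempty_iso_of_germBijAlg φ hφ
  exact exists_germBij_of_iso F U M e

/-- **Finite local constancy from algebraically closed geometric points.** -/
theorem flc_of_alg (F : EtCoh.Ab X) (ι : Type u) (U : ι → X.Etale) (hU : EtCoh.Covers U)
    (h : ∀ i, ∃ (M : Type) (_ : AddCommGroup M) (_ : Finite M) (φ : M →+ F.obj.obj (op (U i))),
      GermBijAlg F (U i) M φ) : EtCoh.IsFiniteLocallyConstant F := by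
  refine ⟨ι, U, hU, fun i => ?_⟩
  obtain ⟨M, _, _, φ, hφ⟩ := h i
  exact ⟨M, inferInstance, inferInstance, nonempty_iso_of_germBijAlg φ hφ⟩

end Groth.Agent.Lib.Helper8EtFLCAlg
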