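import Groth.Agent.Lib.Helper8EtSplitSheets
import Groth.Agent.Lib.Helper8EtFLCAlg
import Groth.Agent.Lib.Helper8FinPushStalk

/-!
# Direct image of a finite locally constant sheaf along a split finite étale cover (helper8)
-/

set_option autoImplicit false
universe u

open CategoryTheory CategoryTheory.Limits AlgebraicGeometry Opposite

namespace Groth.Agent.Lib.Helper8EtFinEtFLC

open Groth.Agent.Lib.Helper8EtSplitSheets Groth.Agent.Lib.Helper8FinPushDecomp
  Groth.Agent.Lib.Helper8FinPushStalk Groth.Agent.Lib.Helper8EtFLCCrit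
  Groth.Agent.Lib.Helper8EtFLCAlg Groth.Agent.Lib.Helper16.StalkPull

variable {X Y V₀ V' : Scheme.{u}} {f : X ⟶ Y} (g : V₀ ⟶ Y) {n : ℕ}
  {top : (∐ fun _ : Fin n => V₀) ⟶ X}
  (hpb : IsPullback top (Sigma.desc fun _ : Fin n => 𝟙 V₀) f g) (ρ : V' ⟶ V₀)
  [Etale g] [Etale ρ]

include hpb in
theorem etale_top : Etale top :=
  MorphismProperty.of_isPullback (P := @Etale) hpb.flip inferInstance

include hpb in
theorem etale_sheet (k : Fin n) : Etale (sheet top k) := by
  haveI := etale_top g hpb
  unfold sheet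
  infer_instance

/-- the base `V'` as an object of the small étale site of `Y` -/
noncomputable def VY : Y.Etale := Scheme.Etale.mk (ρ ≫ g)

/-- the `k`-th sheet as an object of the small étale site of `X` -/
noncomputable def T (k : Fin n) : X.Etale :=
  haveI := etale_sheet g hpb k
  Scheme.Etale.mk (ρ ≫ sheet top k)

set_option backward.isDefEq.respectTransparency.types false in
/-- the `k`-th sheet as a morphism to `X ×_Y V'` -/
noncomputable def jT (k : Fin n) : T g hpb ρ k ⟶ (EtCoh.bc f).obj (VY g ρ) :=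
  MorphismProperty.Over.homMk (tau hpb ρ k) (tau_snd hpb ρ k)

variable (F : EtCoh.Ab X)

theorem isSheaf_forget : Presieve.IsSheaf X.smallEtaleTopology (F.obj ⋙ forget AddCommGrpCat) :=
  (isSheaf_iff_isSheaf_of_type _ _).mp
    ((Presheaf.isSheaf_iff_isSheaf_forget _ _ (forget AddCommGrpCat)).mp F.property)

set_option backward.isDefEq.respectTransparency.types false in
theorem glue (t : ∀ k, F.obj.obj (op (T g hpb ρ k))) :
    ∃! s : F.obj.obj (op ((EtCoh.bc f).obj (VY g ρ))),
      ∀ k, F.obj.map (jT g hpb ρ k).op s = t k :=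
  Groth.Agent.Lib.Helper16.EtGlue.exists_unique_glue (F.obj ⋙ forget AddCommGrpCat)
    (isSheaf_forget F) (fun k => T g hpb ρ k) (fun k => jT g hpb ρ k)
    (fun k => by
      have : Mono (tau hpb ρ k) := inferInstance
      exact this)
    (fun k l hne a b hab => hne (tau_disjoint hpb ρ k l a b hab))
    (fun z => tau_cover hpb ρ z) t

/-- restriction to the sheets -/
noncomputable def res : F.obj.obj (op ((EtCoh.bc f).obj (VY g ρ))) →+
    (∀ k, F.obj.obj (op (T g hpb ρ k))) :=
  AddMonoidHom.mk' (fun s k => F.obj.map (jT g hpb ρ k).op s)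
    (by intro a b; funext k; exact map_add _ a b)

theorem bijective_res : Function.Bijective (res g hpb ρ F) := by
  constructor
  · intro a b hab
    obtain ⟨s, -, huniq⟩ := glue g hpb ρ F (fun k => res g hpb ρ F a k)
    exact (huniq a (fun k => rfl)).trans (huniq b (fun k => (congrFun hab k).symm)).symm
  · intro t
    obtain ⟨s, hs, -⟩ := glue g hpb ρ F t
    exact ⟨s, funext hs⟩

/-- sections over `X ×_Y V'` are families of sections over the sheets -/
noncomputable def resEquiv : F.obj.obj (op ((EtCoh.bc f).obj (VY g ρ))) ≃+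
    (∀ k, F.obj.obj (op (T g hpb ρ k))) :=
  AddEquiv.ofBijective (res g hpb ρ F) (bijective_res g hpb ρ F)

variable (N : Fin n → X.Etale) (h : ∀ k, V' ⟶ (N k).left)
  (hh : ∀ k, h k ≫ (N k).hom = ρ ≫ sheet top k)

set_option backward.isDefEq.respectTransparency.types false in
/-- the sheets map to the charts -/
noncomputable def hT (k : Fin n) : T g hpb ρ k ⟶ N k :=
  MorphismProperty.Over.homMk (h k) (hh k)

variable (M : Fin n → Type) [∀ k, AddCommGroup (M k)] (φ : ∀ k, M k →+ F.obj.obj (op (N k)))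

/-- the sections of `f_* F` over `V'` glued from the constant sections on the charts -/
noncomputable def psiMap : (∀ k, M k) →+ F.obj.obj (op ((EtCoh.bc f).obj (VY g ρ))) :=
  (resEquiv g hpb ρ F).symm.toAddMonoidHom.comp
    (AddMonoidHom.mk' (fun m k => F.obj.map (hT g hpb ρ N h hh k).op (φ k (m k)))
      (by intro a b; funext k; simp [map_add]))

theorem res_psiMap (m : ∀ k, M k) (k : Fin n) :
    F.obj.map (jT g hpb ρ k).op (psiMap g hpb ρ F N h hh M φ m) =
      F.obj.map (hT g hpb ρ N h hh k).op (φ k (m k)) :=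
  congrFun ((resEquiv g hpb ρ F).apply_symm_apply _) k

section Germs

variable {Ω : Type u} [Field Ω] [IsAlgClosed Ω] {η : Spec (CommRingCat.of Ω) ⟶ Y}
  (t : (Scheme.pointSmallEtale η).fiber.obj (VY g ρ))

set_option backward.isDefEq.respectTransparency.types false in
/-- the geometric point of `X` over `η` on the `k`-th sheet -/
noncomputable def xi (k : Fin n) : Pts f η :=
  ⟨(t.left : Spec (CommRingCat.of Ω) ⟶ V') ≫ ρ ≫ sheet top k, by
    rw [Category.assoc, Category.assoc, sheet_comp hpb]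
    exact Over.w t⟩

set_option backward.isDefEq.respectTransparency.types false in
/-- the lift of `xi k` to the `k`-th sheet -/
noncomputable def tk (k : Fin n) :
    (Scheme.pointSmallEtale (xi g hpb ρ t k).1).fiber.obj (T g hpb ρ k) :=
  Over.homMk (t.left : Spec (CommRingCat.of Ω) ⟶ V') rfl

set_option backward.isDefEq.respectTransparency.types false in
theorem map_jT_tk (k : Fin n) :
    (Scheme.pointSmallEtale (xi g hpb ρ t k).1).fiber.map (jT g hpb ρ k) (tk g hpb ρ t k) =
      pt (xi g hpb ρ t k) (VY g ρ) t := by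
  apply Over.OverMorphism.ext
  have key : ∀ (tl : Spec (CommRingCat.of Ω) ⟶ V')
      (p : Spec (CommRingCat.of Ω) ⟶ pullback (ρ ≫ g) f),
      p ≫ pullback.fst (ρ ≫ g) f = tl → p ≫ pullback.snd (ρ ≫ g) f = tl ≫ ρ ≫ sheet top k →
      tl ≫ tau hpb ρ k = p := by
    intro tl p e1 e2
    apply pullback.hom_ext
    · rw [Category.assoc, tau_fst, Category.comp_id, e1]
    · rw [Category.assoc, tau_snd, e2]
  exact key _ _ (pt_left_fst (xi g hpb ρ t k) (VY g ρ) t) (pt_left_snd (xi g hpb ρ t k) (VY g ρ) t)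

set_option backward.isDefEq.respectTransparency.types false in
/-- every geometric point of `X` over `η` lies on a sheet -/
theorem exists_xi_eq (ξ : Pts f η) : ∃ k, ξ = xi g hpb ρ t k := by
  obtain ⟨q, hq⟩ : ∃ q : Spec (CommRingCat.of Ω) ⟶ pullback (ρ ≫ g) f,
      q = (pt ξ (VY g ρ) t).left := ⟨_, rfl⟩
  have hq1 : q ≫ pullback.fst (ρ ≫ g) f = t.left := by
    rw [hq]; exact pt_left_fst ξ (VY g ρ) t
  have hq2 : q ≫ pullback.snd (ρ ≫ g) f = ξ.1 := by
    rw [hq]; exact pt_left_snd ξ (VY g ρ) t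
  obtain ⟨k, l, hl⟩ := exists_factor_sigma (q ≫ beta hpb ρ)
  have hfac := factor hpb ρ q k l hl
  refine ⟨k, Subtype.ext ?_⟩
  rw [← hq2]
  conv_lhs => rw [hfac]
  rw [Category.assoc, tau_snd, hq1]
  rfl

variable (N : Fin n → X.Etale) (h : ∀ k, V' ⟶ (N k).left)
  (hh : ∀ k, h k ≫ (N k).hom = ρ ≫ sheet top k)
  (M : Fin n → Type) [∀ k, AddCommGroup (M k)] (φ : ∀ k, M k →+ F.obj.obj (op (N k)))

set_option backward.isDefEq.respectTransparency.types false in
/-- the component at `xi k` of the germ of a glued section -/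
theorem cmp_germ_psiMap [IsFinite f] (m : ∀ k, M k) (k : Fin n) :
    cmp (xi g hpb ρ t k) F.obj
      ((Scheme.pointSmallEtale η).toPresheafFiber (VY g ρ) t ((EtCoh.bc f).op ⋙ F.obj)
        (psiMap g hpb ρ F N h hh M φ m)) =
    germ (xi g hpb ρ t k).1 F (N k)
      ((Scheme.pointSmallEtale (xi g hpb ρ t k).1).fiber.map (hT g hpb ρ N h hh k)
        (tk g hpb ρ t k)) (φ k (m k)) := by
  rw [cmp_apply]
  have h1 := (Scheme.pointSmallEtale (xi g hpb ρ t k).1).toPresheafFiber_w_apply
    (jT g hpb ρ k) (tk g hpb ρ t k) F.obj (psiMap g hpb ρ F N h hh M φ m)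
  have h2 := (Scheme.pointSmallEtale (xi g hpb ρ t k).1).toPresheafFiber_w_apply
    (hT g hpb ρ N h hh k) (tk g hpb ρ t k) F.obj (φ k (m k))
  rw [map_jT_tk] at h1
  rw [← h1, res_psiMap]
  exact h2

set_option backward.isDefEq.respectTransparency.types false in
/-- **the glued sections have bijective germs at `η`** -/
theorem bijective_germ_psiMap [IsFinite f] [EtCoh.BCCont f]
    (hφ : ∀ k, GermBij F (N k) (M k) (φ k)) :
    Function.Bijective (fun m : ∀ k, M k =>
      germ η ((EtCoh.push f).obj F) (VY g ρ) t (psiMap g hpb ρ F N h hh M φ m)) := by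
  have hFs := isSheaf_forget F
  constructor
  · intro m m' hmm
    funext k
    have h1 := congrArg (cmp (xi g hpb ρ t k) F.obj) hmm
    have e1 := cmp_germ_psiMap g hpb ρ F t N h hh M φ m k
    have e2 := cmp_germ_psiMap g hpb ρ F t N h hh M φ m' k
    have h2 := (e1.symm.trans h1).trans e2
    exact (hφ k Ω (xi g hpb ρ t k).1 _).1 h2
  · intro z
    have hch : ∀ k, ∃ mk : M k, germ (xi g hpb ρ t k).1 F (N k)
        ((Scheme.pointSmallEtale (xi g hpb ρ t k).1).fiber.map (hT g hpb ρ N h hh k)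
          (tk g hpb ρ t k)) (φ k mk) = cmp (xi g hpb ρ t k) F.obj z :=
      fun k => (hφ k Ω (xi g hpb ρ t k).1 _).2 _
    choose m hm using hch
    refine ⟨m, ?_⟩
    apply cmp_jointly_injective F.obj hFs
    intro ξ
    obtain ⟨k, rfl⟩ := exists_xi_eq g hpb ρ t ξ
    exact (cmp_germ_psiMap g hpb ρ F t N h hh M φ m k).trans (hm k)

end Germs

section Refine

/-- a common étale neighbourhood of `u` on which finitely many étale maps `σ k : V₀ ⟶ X` lift to
given étale neighbourhoods `N k` of the points `σ k u`. -/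
theorem exists_refine {X V₀ : Scheme.{u}} {n : ℕ} (σ : Fin n → (V₀ ⟶ X)) (u : V₀)
    (N : Fin n → X.Etale) (p : ∀ k, (N k).left) (hp : ∀ k, (N k).hom.base (p k) = σ k u)
    (s : Finset (Fin n)) :
    ∃ (V' : Scheme.{u}) (ρ : V' ⟶ V₀) (_ : Etale ρ) (u' : V'), ρ u' = u ∧
      ∀ k ∈ s, ∃ h : V' ⟶ (N k).left, h ≫ (N k).hom = ρ ≫ σ k := by
  classical
  induction s using Finset.induction_on with
  | empty =>
    exact ⟨V₀, 𝟙 V₀, inferInstance, u, rfl, fun k hk => (Finset.notMem_empty k hk).elim⟩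
  | insert k₀ s hk₀ ih =>
    obtain ⟨V', ρ, hρ, u', hu', hex⟩ := ih
    haveI : Etale (N k₀).hom := (N k₀).prop
    have hpt : (ρ ≫ σ k₀) u' = (N k₀).hom (p k₀) := by
      rw [Scheme.Hom.comp_apply, hu']
      exact (hp k₀).symm
    obtain ⟨z, hz1, hz2⟩ := Scheme.Pullback.exists_preimage_pullback
      (f := ρ ≫ σ k₀) (g := (N k₀).hom) u' (p k₀) hpt
    refine ⟨pullback (ρ ≫ σ k₀) (N k₀).hom, pullback.fst _ _ ≫ ρ, inferInstance, z, ?_, ?_⟩
    · rw [Scheme.Hom.comp_apply, hz1, hu']
    · intro k hk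
      rcases Finset.mem_insert.mp hk with rfl | hk
      · exact ⟨pullback.snd _ _, by rw [← pullback.condition, Category.assoc]⟩
      · obtain ⟨h, hh⟩ := hex k hk
        exact ⟨pullback.fst _ _ ≫ h, by rw [Category.assoc, hh, Category.assoc]⟩

end Refine

section Main

set_option backward.isDefEq.respectTransparency.types false in
/-- **The direct image of a finite locally constant sheaf along a finite étale morphism is finite
locally constant.** -/
theorem flc_push {X Y : Scheme.{u}} (f : X ⟶ Y) [IsFinite f] [Etale f] [EtCoh.BCCont f]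
    (F : EtCoh.Ab X) (hF : EtCoh.IsFiniteLocallyConstant F) :
    EtCoh.IsFiniteLocallyConstant ((EtCoh.push f).obj F) := by
  obtain ⟨ι, U, hU, hch⟩ := (flc_iff F).mp hF
  have key : ∀ y : Y, ∃ (W : Y.Etale) (w : W.left), W.hom.base w = y ∧
      ∃ (M : Type) (_ : AddCommGroup M) (_ : Finite M)
        (φ : M →+ ((EtCoh.push f).obj F).obj.obj (op W)),
        GermBijAlg ((EtCoh.push f).obj F) W M φ := by
    intro y
    obtain ⟨R', g, hg, u, hu, n, top, hpb⟩ :=
      Groth.Agent.Lib.Helper20.EtSplit.exists_isPullback_sigma f y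
    have hc : ∀ k : Fin n, ∃ (i : ι) (p : (U i).left), (U i).hom.base p = sheet top k u :=
      fun k => hU (sheet top k u)
    choose i p hp using hc
    obtain ⟨V', ρ, hρ, u', hu', hex⟩ :=
      exists_refine (sheet top) u (fun k => U (i k)) p hp Finset.univ
    choose hk hhk using fun k => hex k (Finset.mem_univ k)
    choose M hM hfin φ hφ using fun k => hch (i k)
    refine ⟨VY g ρ, u', ?_, (∀ k, M k), inferInstance, inferInstance,
      psiMap g hpb ρ F (fun k => U (i k)) hk hhk M φ, ?_⟩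
    · change (ρ ≫ g) u' = y
      rw [Scheme.Hom.comp_apply, hu', hu]
    · intro Ω _ _ η t
      exact bijective_germ_psiMap g hpb ρ F t (fun k => U (i k)) hk hhk M φ hφ
  choose W w hw M hM hfin φ hφ using key
  exact flc_of_alg _ Y W (fun y => ⟨y, w y, hw y⟩)
    (fun y => ⟨M y, hM y, hfin y, φ y, hφ y⟩)

end Main

end Groth.Agent.Lib.Helper8EtFinEtFLC
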