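import Groth.Agent.Lib.Helper8EtStratFin
import Groth.Agent.Lib.Helper9ExtZeroBC
import Groth.Agent.Lib.Helper9JContAll
import Groth.Agent.Lib.Helper8ShriekEtaleStalk
import Groth.Agent.Lib.Helper8ShriekOpen
import Groth.Agent.Lib.Helper8EtFinEtFLC
import Groth.Agent.Lib.Helper8EtConstrCover
import Groth.Agent.Lib.Helper8EtConstMap
import Groth.Agent.Lib.Helper8EtExtZeroOver

/-!
# Extension by zero of finite locally constant sheaves along étale morphisms is constructible
(helper8)
-/

set_option autoImplicit false
set_option linter.style.haveILetI false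
universe u
open CategoryTheory CategoryTheory.Limits AlgebraicGeometry Opposite TopologicalSpace

namespace Groth.Agent.Lib.Helper8EtShriekConstr

open Groth.Agent.Lib.Helper8EtFLCCrit Groth.Agent.Lib.Helper8EtConstr
  Groth.Agent.Lib.Helper8EtConstrCover Groth.Agent.Lib.Helper8EtStratFin

/-- finite locally constant sheaves are constructible -/
theorem isConstructible_of_flc {X : Scheme.{u}} (F : EtCoh.Ab X) (hF : FLC F) :
    EtPBC.IsConstructible F := by
  rw [isConstructible_iff]
  intro U _
  refine ⟨Unit, inferInstance, fun _ => U.toScheme, fun _ => U.ι, fun _ => inferInstance,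
    fun _ => ?_, fun i j hij => absurd (Subsingleton.elim i j) hij, ?_, fun _ => FLC.pull _ hF⟩
  · have : (Subtype.val : ((U : Set X) : Type u) → X) ⁻¹' Set.range U.ι = Set.univ := by
      ext x
      simp only [Set.mem_preimage, Set.mem_univ, iff_true]
      rw [Scheme.Opens.range_ι]
      exact x.2
    rw [this]
    exact Topology.IsConstructible.univ
  · rw [Set.iUnion_const, Scheme.Opens.range_ι]

/-- constructibility is invariant under isomorphism -/
theorem isConstructible_of_iso {X : Scheme.{u}} {F F' : EtCoh.Ab X} (e : F ≅ F')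
    (h : EtPBC.IsConstructible F) : EtPBC.IsConstructible F' := by
  rw [isConstructible_iff] at h ⊢
  intro U hU
  obtain ⟨ι, hι, T, g, b1, b2, b3, b4, b5⟩ := h U hU
  exact ⟨ι, hι, T, g, b1, b2, b3, b4, fun i => FLC.of_iso ((EtCoh.pull (g i)).mapIso e) (b5 i)⟩

set_option backward.isDefEq.respectTransparency.types false in
/-- `f_! F` is constructible for `f` étale between quasi-compact quasi-separated schemes and `F`
finite locally constant. -/
theorem isConstructible_extZero {U X : Scheme.{u}} [CompactSpace X] [QuasiSeparatedSpace X]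
    [CompactSpace U] [QuasiSeparatedSpace U] (f : U ⟶ X) [Etale f] [EtShriek.JCont f]
    (F : EtCoh.Ab U) (hF : EtCoh.IsFiniteLocallyConstant F) :
    EtPBC.IsConstructible ((EtShriek.extZero f).obj F) := by
  obtain ⟨κ, hκ, T, g, a1, a2, a3, a4, a5⟩ := exists_strat_etale f
  haveI : ∀ i : ULift.{u} κ, IsImmersion (g i.down) := fun i => a1 _
  refine isConstructible_of_cover X _ (fun i : ULift.{u} κ => T i.down) (fun i => g i.down)
    (fun i => a2 _) ?_ (fun i => ?_)
  · rw [← a4]
    exact (Equiv.ulift (α := κ)).surjective.iUnion_comp (fun k => Set.range (g k))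
  · haveI : IsFinite (pullback.snd f (g i.down)) := a5 _
    haveI : EtShriek.JCont (pullback.snd f (g i.down)) :=
      Groth.Agent.Lib.Helper9.JContAll.jCont _
    have e1 := (Groth.Agent.Lib.Helper9.ExtZeroBC.extZeroBaseChange f (g i.down)
      (pullback.snd f (g i.down)) (pullback.fst f (g i.down))
      (IsPullback.of_hasPullback f (g i.down)).flip).app F
    have e2 := (Groth.Agent.Lib.Helper8ShriekEtaleStalk.extZeroIso
      (pullback.snd f (g i.down))).app ((EtCoh.pull (pullback.fst f (g i.down))).obj F)
    have e3 := (Groth.Agent.Lib.Helper8ShriekOpen.properIso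
      (pullback.snd f (g i.down))).app ((EtCoh.pull (pullback.fst f (g i.down))).obj F)
    have hflc : FLC ((EtCoh.push (pullback.snd f (g i.down))).obj
        ((EtCoh.pull (pullback.fst f (g i.down))).obj F)) :=
      (flc_iff _).mp (Groth.Agent.Lib.Helper8EtFinEtFLC.flc_push _ _
        ((flc_iff _).mpr (FLC.pull _ ((flc_iff _).mp hF))))
    exact isConstructible_of_flc _ (FLC.of_iso (e3.symm ≪≫ e2.symm ≪≫ e1) hflc)

/-- `j_! M` is constructible for `U` étale over `X`, both quasi-compact quasi-separated, and `M`
a finite abelian group (over-site version of extension by zero). -/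
theorem isConstructible_extZeroConst (X : Scheme.{u}) [CompactSpace X] [QuasiSeparatedSpace X]
    (U : X.Etale) [CompactSpace U.left] [QuasiSeparatedSpace U.left]
    (M : Type) [AddCommGroup M] [Finite M] :
    EtPBC.IsConstructible (EtPBC.extZeroConst U M) := by
  haveI hE : AlgebraicGeometry.Etale (X := U.left) (Y := X) U.hom := U.prop
  haveI : EtShriek.JCont (U := U.left) (X := X) U.hom :=
    Groth.Agent.Lib.Helper9.JContAll.jCont _
  have h1 := isConstructible_extZero (X := X) (U := U.left) U.hom _
      ((flc_iff _).mpr (Groth.Agent.Lib.Helper8EtConstMap.flc_const (Y := U.left) M))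
  exact isConstructible_of_iso (Groth.Agent.Lib.Helper8EtExtZeroOver.extZeroConstIso U M).symm h1

end Groth.Agent.Lib.Helper8EtShriekConstr
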