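import Groth.Agent.S0131
import Groth.Agent.S0132
import Groth.Agent.Lib.Helper8EtShriekConstr
import Groth.Agent.Lib.Helper8EtSuppConstr
import Groth.Agent.Lib.Helper8EtLTors

/-!
# Constructible sheaves of bounded torsion are closed under finite colimits (helper8)
-/

set_option autoImplicit false
set_option linter.style.haveILetI false
universe u
open CategoryTheory CategoryTheory.Limits AlgebraicGeometry Opposite

namespace Groth.Agent.Lib.Helper8EtConstrColim

open Groth.Agent.Lib.Helper8EtLTors Groth.Agent.Lib.Helper8EtShriekConstr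
open ZeroObject

variable {X : Scheme.{u}}

/-- constructible and killed by a positive integer -/
def BC : ObjectProperty (EtCoh.Ab X) :=
  fun A => EtPBC.IsConstructible A ∧ ∃ n : ℕ, 0 < n ∧ n • 𝟙 A = 0

lemma nsmul_eq_zero_of_left {A B : EtCoh.Ab X} (f : A ⟶ B) {n : ℕ} (h : n • 𝟙 A = 0) :
    n • f = 0 := by
  have : (n • 𝟙 A) ≫ f = n • f := by rw [Preadditive.nsmul_comp, Category.id_comp]
  rw [← this, h, zero_comp]

lemma nsmul_eq_zero_of_right {A B : EtCoh.Ab X} (f : A ⟶ B) {n : ℕ} (h : n • 𝟙 B = 0) :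
    n • f = 0 := by
  have : f ≫ (n • 𝟙 B) = n • f := by rw [Preadditive.comp_nsmul, Category.comp_id]
  rw [← this, h, comp_zero]

lemma killedBy_of_nsmul_id {A : EtCoh.Ab X} {n : ℕ} (h : n • 𝟙 A = 0) : EtCoh.KilledBy n A := by
  intro U s
  rw [← nsmul_id_app, h]
  rfl

lemma mul_nsmul_id_left {A : EtCoh.Ab X} {n : ℕ} (m : ℕ) (h : n • 𝟙 A = 0) :
    (n * m) • 𝟙 A = 0 := by
  rw [mul_nsmul, h, nsmul_zero]

lemma mul_nsmul_id_right {A : EtCoh.Ab X} {n : ℕ} (m : ℕ) (h : n • 𝟙 A = 0) :
    (m * n) • 𝟙 A = 0 := by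
  rw [mul_nsmul', h, nsmul_zero]

lemma BC_of_iso {A B : EtCoh.Ab X} (e : A ≅ B) (h : BC A) : BC B := by
  obtain ⟨hc, n, hn, h0⟩ := h
  refine ⟨isConstructible_of_iso e hc, n, hn, ?_⟩
  rw [← cancel_epi e.hom, Preadditive.comp_nsmul, Category.comp_id, comp_zero]
  exact nsmul_eq_zero_of_left e.hom h0

instance : (BC (X := X)).IsClosedUnderIsomorphisms where
  of_iso e h := BC_of_iso e h

lemma BC_of_isZero {A : EtCoh.Ab X} (h : IsZero A) : BC A :=
  ⟨Groth.Agent.Lib.Helper8EtSuppConstr.isConstructible_of_isZero A h, 1, Nat.one_pos,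
    h.eq_of_src _ _⟩

instance : (BC (X := X)).ContainsZero where
  exists_zero := ⟨0, isZero_zero _, BC_of_isZero (isZero_zero _)⟩

lemma BC_cokernel {A B : EtCoh.Ab X} (φ : A ⟶ B) (hA : BC A) (hB : BC B) : BC (cokernel φ) := by
  obtain ⟨hcA, n, hn, hn0⟩ := hA
  obtain ⟨hcB, m, hm, hm0⟩ := hB
  refine ⟨(Groth.Agent.S0131.result φ (n * m) (Nat.mul_pos hn hm)
    (killedBy_of_nsmul_id (mul_nsmul_id_left m hn0))
    (killedBy_of_nsmul_id (mul_nsmul_id_right n hm0)) hcA hcB).2, m, hm, ?_⟩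
  rw [← cancel_epi (cokernel.π φ), Preadditive.comp_nsmul, Category.comp_id, comp_zero]
  exact nsmul_eq_zero_of_left _ hm0

lemma BC_biprod {A B : EtCoh.Ab X} (hA : BC A) (hB : BC B) : BC (A ⊞ B) := by
  obtain ⟨hcA, n, hn, hn0⟩ := hA
  obtain ⟨hcB, m, hm, hm0⟩ := hB
  have h0 : (n * m) • 𝟙 (A ⊞ B) = 0 := by
    apply biprod.hom_ext'
    · rw [Preadditive.comp_nsmul, Category.comp_id, comp_zero]
      exact nsmul_eq_zero_of_left _ (mul_nsmul_id_left m hn0)
    · rw [Preadditive.comp_nsmul, Category.comp_id, comp_zero]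
      exact nsmul_eq_zero_of_left _ (mul_nsmul_id_right n hm0)
  refine ⟨?_, n * m, Nat.mul_pos hn hm, h0⟩
  let S : ShortComplex (EtCoh.Ab X) := ShortComplex.mk (biprod.inl : A ⟶ A ⊞ B) biprod.snd (by simp)
  have hS : S.ShortExact := (ShortComplex.Splitting.ofHasBinaryBiproduct A B).shortExact
  exact Groth.Agent.S0132.result S hS (n * m) (Nat.mul_pos hn hm) (killedBy_of_nsmul_id h0) hcA hcB

instance : (BC (X := X)).IsClosedUnderBinaryCoproducts where
  colimitsOfShape_le := by
    rintro Y ⟨p⟩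
    let A := p.diag.obj ⟨WalkingPair.left⟩
    let B := p.diag.obj ⟨WalkingPair.right⟩
    let c : Cocone p.diag :=
      { pt := A ⊞ B
        ι := Discrete.natTrans (fun j => match j with
          | ⟨WalkingPair.left⟩ => (biprod.inl : A ⟶ A ⊞ B)
          | ⟨WalkingPair.right⟩ => (biprod.inr : B ⟶ A ⊞ B)) }
    let g : Y ⟶ A ⊞ B := p.isColimit.desc c
    let f : A ⊞ B ⟶ Y := biprod.desc (p.ι.app ⟨WalkingPair.left⟩) (p.ι.app ⟨WalkingPair.right⟩)
    have hl : p.ι.app ⟨WalkingPair.left⟩ ≫ g = biprod.inl := p.isColimit.fac c ⟨WalkingPair.left⟩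
    have hr : p.ι.app ⟨WalkingPair.right⟩ ≫ g = biprod.inr := p.isColimit.fac c ⟨WalkingPair.right⟩
    have h1 : f ≫ g = 𝟙 _ := by
      apply biprod.hom_ext'
      · rw [biprod.inl_desc_assoc, hl, Category.comp_id]
      · rw [biprod.inr_desc_assoc, hr, Category.comp_id]
    have h2 : g ≫ f = 𝟙 _ := by
      apply p.isColimit.hom_ext
      rintro ⟨j⟩
      cases j
      · rw [reassoc_of% hl, biprod.inl_desc, Category.comp_id]
      · rw [reassoc_of% hr, biprod.inr_desc, Category.comp_id]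
    exact BC_of_iso ⟨f, g, h1, h2⟩ (BC_biprod (p.prop_diag_obj _) (p.prop_diag_obj _))

instance : (BC (X := X)).IsClosedUnderFiniteCoproducts :=
  ObjectProperty.IsClosedUnderFiniteCoproducts.mk'

lemma BC_coequalizer {A B : EtCoh.Ab X} (s t : A ⟶ B) (hA : BC A) (hB : BC B) :
    BC (coequalizer s t) := by
  have hc := Preadditive.isColimitCoforkOfCokernelCofork (f := s) (g := t)
    (cokernelIsCokernel (s - t))
  exact BC_of_iso (IsColimit.coconePointUniqueUpToIso hc (colimit.isColimit (parallelPair s t)))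
    (BC_cokernel (s - t) hA hB)

/-- closure under colimits of finite shape -/
theorem BC_isClosedUnderColimitsOfShape (J : Type (u + 1)) [SmallCategory J] [Finite (Arrow J)] :
    (BC (X := X)).IsClosedUnderColimitsOfShape J where
  colimitsOfShape_le := by
    rintro Y ⟨p⟩
    haveI : Finite J := Finite.of_injective (fun j : J => Arrow.mk (𝟙 j)) (by
      intro a b h
      exact congrArg (fun f : Arrow J => f.left) h)
    haveI : Finite (Σ q : J × J, q.1 ⟶ q.2) :=
      Finite.of_injective (fun f : (Σ q : J × J, q.1 ⟶ q.2) => Arrow.mk f.2) (by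
        rintro ⟨⟨a, b⟩, f⟩ ⟨⟨a', b'⟩, f'⟩ h
        have h1 : a = a' := congrArg (fun f : Arrow J => f.left) h
        have h2 : b = b' := congrArg (fun f : Arrow J => f.right) h
        subst h1 h2
        have h3 : f = f' := by
          have h4 := (Arrow.mk_eq_mk_iff f f').1 h
          simpa using h4.2.2
        subst h3
        rfl)
    let cc := colimitCoconeOfCoequalizerAndCoproduct p.diag
    have e : Y ≅ cc.cocone.pt := IsColimit.coconePointUniqueUpToIso p.isColimit cc.isColimit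
    refine BC_of_iso e.symm ?_
    apply BC_coequalizer
    · exact ObjectProperty.prop_coproduct _ (fun f => p.prop_diag_obj _)
    · exact ObjectProperty.prop_coproduct _ (fun j => p.prop_diag_obj _)

end Groth.Agent.Lib.Helper8EtConstrColim
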