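import Mathlib
import Groth.Prelude.Def_PBC
import Groth.Agent.Lib.Helper8EtConstMap

/-!
# Local constancy near a point from bijective cospecialization maps (helper8)
-/

set_option autoImplicit false
open CategoryTheory CategoryTheory.Limits AlgebraicGeometry Opposite GrothendieckTopology Topology
universe u

namespace Groth.Agent.Lib.Helper8EtCospecNearB

open Groth.Agent.Lib.Helper16.EtStalk Groth.Agent.Lib.Helper16.SmallEtale
  Groth.Agent.Lib.Helper16.StalkPull Groth.Agent.Lib.Helper8EtFLCCrit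
  Groth.Agent.Lib.Helper8EtFLCKer Groth.Agent.Lib.Helper8EtFLCExt
  Groth.Agent.Lib.Helper8EtSpecArrow Groth.Agent.Lib.Helper8EtCospec
  Groth.Agent.Lib.Helper8EtCospecFLC Groth.Agent.Lib.Helper8EtArrowSpec
  Groth.Agent.Lib.Helper8EtCardLocus Groth.Agent.Lib.Helper8EtConstMap
  Groth.Agent.Lib.Helper8EtCospecNearA Groth.Agent.Lib.Helper8EtSurjLocus
  Groth.Agent.Lib.Helper8EtConstr Groth.Agent.Lib.Helper8EtConstrCover

section Topology

/-- a constructible subset of a prime spectrum containing all generizations of a point is a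
neighbourhood of that point -/
lemma exists_open_of_generizations_spec {R : Type u} [CommRing R] {s : Set (PrimeSpectrum R)}
    (hs : IsConstructible s) (x : PrimeSpectrum R) (hx : ∀ q : PrimeSpectrum R, q ⤳ x → q ∈ s) :
    ∃ O : Set (PrimeSpectrum R), IsOpen O ∧ x ∈ O ∧ O ⊆ s := by
  obtain ⟨S, _, f, hf⟩ := PrimeSpectrum.exists_range_eq_of_isConstructible hs.compl
  refine ⟨(closure sᶜ)ᶜ, isClosed_closure.isOpen_compl, ?_, ?_⟩
  · intro hxc
    rw [← hf, PrimeSpectrum.closure_range_comap, PrimeSpectrum.mem_zeroLocus] at hxc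
    obtain ⟨Q, -, hQ, hQle⟩ := x.asIdeal.exists_ideal_comap_le_prime (f := f) (⊥ : Ideal S) (by
      rw [← RingHom.ker_eq_comap_bot]
      exact hxc)
    have hq : PrimeSpectrum.comap f ⟨Q, hQ⟩ ⤳ x :=
      (PrimeSpectrum.le_iff_specializes _ _).mp hQle
    have h1 : PrimeSpectrum.comap f ⟨Q, hQ⟩ ∈ sᶜ := by
      rw [← hf]
      exact ⟨_, rfl⟩
    exact h1 (hx _ hq)
  · intro y hy
    by_contra hys
    exact hy (subset_closure hys)

/-- scheme version -/
lemma exists_open_of_generizations (Y : Scheme.{u}) (S : Set Y) (hS : IsLocallyConstructible S)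
    (p₀ : Y) (hp : ∀ q : Y, q ⤳ p₀ → q ∈ S) : ∃ O : Y.Opens, p₀ ∈ O ∧ (O : Set Y) ⊆ S := by
  obtain ⟨A, hA, hpA⟩ : ∃ A : Y.Opens, IsAffineOpen A ∧ p₀ ∈ A := by
    obtain ⟨_, ⟨A, hA, rfl⟩, hx, -⟩ :=
      (Y.isBasis_affineOpens).exists_subset_of_mem_open (Set.mem_univ p₀) isOpen_univ
    exact ⟨A, hA, hx⟩
  have hj : IsOpenEmbedding hA.fromSpec := hA.fromSpec.isOpenEmbedding
  have hSR : IsConstructible (show Set (PrimeSpectrum Γ(Y, A)) from hA.fromSpec ⁻¹' S) :=
    (hS.preimage_of_isOpenEmbedding hj).isConstructible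
  obtain ⟨x, hx⟩ : ∃ x : PrimeSpectrum Γ(Y, A), hA.fromSpec x = p₀ := by
    have : p₀ ∈ Set.range hA.fromSpec := by rw [hA.range_fromSpec]; exact hpA
    exact this
  obtain ⟨O, hO, hxO, hOs⟩ := exists_open_of_generizations_spec hSR x (fun q hq => by
    change hA.fromSpec q ∈ S
    refine hp _ ?_
    rw [← hx]
    exact hq.map hA.fromSpec.continuous)
  refine ⟨⟨hA.fromSpec '' O, hj.isOpenMap O hO⟩, ⟨x, hxO, hx⟩, ?_⟩
  rintro _ ⟨y, hy, rfl⟩
  exact hOs hy

end Topology

variable {X : Scheme.{u}}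

set_option backward.isDefEq.respectTransparency.types false in
/-- stalks of a constructible sheaf are finite -/
lemma finite_stalk_of_isConstructible (F : EtCoh.Ab X) (hF : EtPBC.IsConstructible F)
    {Ω : Type u} [Field Ω] [IsSepClosed Ω] (ξ : Spec (CommRingCat.of Ω) ⟶ X) :
    Finite ((EtCoh.stalk ξ).obj F : Type (u + 1)) := by
  obtain ⟨V, T, g, hg, hxV, hr, hflc⟩ :=
    Groth.Agent.Lib.Helper8EtConstrNoeth.exists_of_isConstructible F hF
      (ξ (default : Spec (CommRingCat.of Ω)))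
  haveI := hg
  obtain ⟨ξ', rfl⟩ := exists_lift_immersion ξ g (by
    rw [range_geomPt, hr]
    exact Set.singleton_subset_iff.mpr ⟨hxV, subset_closure rfl⟩)
  haveI : Finite ((EtCoh.stalk ξ').obj ((EtCoh.pull g).obj F) : Type (u + 1)) :=
    finite_stalk_of_flc _ hflc ξ'
  exact Finite.of_equiv ((EtCoh.stalk ξ').obj ((EtCoh.pull g).obj F) : Type (u + 1))
    (Equiv.ofBijective _ (bijective_of_iso ((Groth.Agent.S0101.stalkPullIso g ξ').app F))).symm

/-- the surjectivity locus of a map of constructible sheaves is locally constructible -/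
theorem isLocallyConstructible_surjLocus {Y : Scheme.{u}} {A B : EtCoh.Ab Y} (α : A ⟶ B)
    (hA : EtPBC.IsConstructible A) (hB : EtPBC.IsConstructible B) :
    IsLocallyConstructible (surjLocus α) := by
  intro y
  obtain ⟨U, hU, hyU⟩ : ∃ U : Y.Opens, IsAffineOpen U ∧ y ∈ U := by
    obtain ⟨_, ⟨U, hU, rfl⟩, hyU, -⟩ :=
      (Y.isBasis_affineOpens).exists_subset_of_mem_open (Set.mem_univ y) isOpen_univ
    exact ⟨U, hU, hyU⟩
  refine ⟨(U : Set Y), U.isOpen.mem_nhds hyU, U.isOpen, ?_⟩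
  haveI : IsAffine (U : Scheme.{u}) := hU
  have hc := isConstructible_surjLocus ((EtCoh.pull U.ι).map α)
    (Groth.Agent.S0127.result U.ι A hA) (Groth.Agent.S0127.result U.ι B hB)
  have e' : ((Subtype.val : ↥(U : Set Y) → Y) ⁻¹' surjLocus α) =
      surjLocus ((EtCoh.pull U.ι).map α) :=
    Set.ext (fun t => (mem_surjLocus_pull_iff U.ι α t).symm)
  rw [e']
  exact hc

set_option backward.isDefEq.respectTransparency.types false in
set_option maxHeartbeats 1600000 in
/-- **Local constancy near a geometric point from bijective cospecialization maps into it**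
(constructible sheaf, arbitrary base). -/
theorem flc_near_of_cospec_bijective (F : EtCoh.Ab X) (hF : EtPBC.IsConstructible F)
    {Ω : Type u} [Field Ω] [IsSepClosed Ω] (ξ : Spec (CommRingCat.of Ω) ⟶ X)
    (H : ∀ (Ω' : Type u) [Field Ω'] [IsSepClosed Ω'] (ξ' : Spec (CommRingCat.of Ω') ⟶ X)
        (ψ : Scheme.pointSmallEtale ξ' ⟶ Scheme.pointSmallEtale ξ),
        Function.Bijective
          ((GrothendieckTopology.Point.Hom.sheafFiber (A := AddCommGrpCat.{u + 1}) ψ).app F)) :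
    ∃ U : X.Opens, ξ (default : Spec (CommRingCat.of Ω)) ∈ U ∧
      FLC ((EtCoh.pull U.ι).obj F) := by
  have hfin := finite_stalk_of_isConstructible F hF ξ
  obtain ⟨M, _, _, W, g, w, φ, hw, hb⟩ :=
    exists_chart_of_finite_stalk F ξ (EtCoh.top X) (baseLift ξ) hfin
  obtain ⟨Y, f, hf, rfl⟩ : ∃ (Y : Scheme.{u}) (f : Y ⟶ X) (_ : Etale f),
      W = Scheme.Etale.mk f := ⟨W.left, W.hom, W.prop, rfl⟩
  obtain ⟨G, hG⟩ : ∃ G, G = (EtCoh.pull f).obj F := ⟨_, rfl⟩
  obtain ⟨n, hn⟩ : ∃ n : ℕ, Nat.card M = n := ⟨_, rfl⟩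
  have hGc : EtPBC.IsConstructible ((EtCoh.pull f).obj F) := Groth.Agent.S0127.result f F hF
  have hCc : EtPBC.IsConstructible (EtCoh.const Y M) :=
    Groth.Agent.Lib.Helper8EtConstrNoeth.isConstructible_of_flc _ (flc_const M)
  have hB' : IsLocallyConstructible
      (surjLocus (constMap ((EtCoh.pull f).obj F) (gsecHom f F φ)) ∩
        cardLocus ((EtCoh.pull f).obj F) n) :=
    (isLocallyConstructible_surjLocus _ hCc hGc).inter
      (isLocallyConstructible_cardLocus _ hGc n)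
  -- comparison of the two families of germs
  have key1 : ∀ {K : Type u} [Field K] [IsSepClosed K] (ζ : Spec (CommRingCat.of K) ⟶ Y),
      (fun m : M => germ ζ ((EtCoh.pull f).obj F) (EtCoh.top Y) (baseLift ζ)
        (gsecHom f F φ m)) =
      ((Groth.Agent.S0101.stalkPullIso f ζ).hom.app F) ∘
        (fun m : M => germ (ζ ≫ f) F (Scheme.Etale.mk f) (taut f ζ) (φ m)) := by
    intro K _ _ ζ
    funext m
    exact (germ_gsec f F ζ φ m).symm
  have he : ∀ {K : Type u} [Field K] [IsSepClosed K] (ζ : Spec (CommRingCat.of K) ⟶ Y),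
      Function.Bijective ((Groth.Agent.S0101.stalkPullIso f ζ).hom.app F) := fun ζ =>
    bijective_of_iso ((Groth.Agent.S0101.stalkPullIso f ζ).app F)
  -- generizations of the centre are good
  have hgen : ∀ q : Y, q ⤳ ctr ξ w →
      q ∈ surjLocus (constMap ((EtCoh.pull f).obj F) (gsecHom f F φ)) ∩
        cardLocus ((EtCoh.pull f).obj F) n := by
    intro q hq
    have hbq : ∀ {K : Type u} [Field K] [IsSepClosed K] (ζ : Spec (CommRingCat.of K) ⟶ Y),
        ζ (default : Spec (CommRingCat.of K)) = q →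
        Function.Bijective (fun m : M => germ ζ ((EtCoh.pull f).obj F) (EtCoh.top Y)
          (baseLift ζ) (gsecHom f F φ m)) := by
      intro K _ _ ζ hζ
      obtain ⟨ψ, hψ⟩ := exists_arrow ξ (ζ ≫ f) (Scheme.Etale.mk f) w (taut f ζ) (by
        change ζ (default : Spec (CommRingCat.of K)) ⤳ _
        rw [hζ]
        exact hq)
      have h1 := bijective_of_arrow_bijective ξ (ζ ≫ f) F (Scheme.Etale.mk f) φ w (taut f ζ) ψ hψ
        (H K (ζ ≫ f) ψ) hb
      rw [key1 ζ]
      exact (he ζ).comp h1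
    constructor
    · intro K _ _ ζ hζ
      rw [surj_constMap_iff]
      exact (hbq ζ (geomPt_default ζ hζ)).2
    · obtain ⟨K, _, _, ζ, t, ht⟩ := exists_geometric_point (EtCoh.top Y) q
      have hζ : ζ (default : Spec (CommRingCat.of K)) = q := by
        rw [← hom_base_fiber ζ (EtCoh.top Y) t, ht]
        rfl
      refine ⟨K, inferInstance, inferInstance, ζ, by rw [range_geomPt, hζ], ?_⟩
      rw [← hn]
      exact (Nat.card_congr (Equiv.ofBijective _ (hbq ζ hζ))).symm
  obtain ⟨O, hwO, hOS⟩ := exists_open_of_generizations Y _ hB' (ctr ξ w) hgen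
  -- all geometric points centred in `O` are good
  have hgood : ∀ {K : Type u} [Field K] [IsSepClosed K] (ζ : Spec (CommRingCat.of K) ⟶ Y),
      ζ (default : Spec (CommRingCat.of K)) ∈ O →
      Function.Bijective (fun m : M => germ (ζ ≫ f) F (Scheme.Etale.mk f) (taut f ζ) (φ m)) := by
    intro K _ _ ζ hζ
    obtain ⟨h1, K₂, _, _, ζ₂, hζ₂, hc₂⟩ := hOS hζ
    have hs := (surj_constMap_iff ((EtCoh.pull f).obj F) ζ (gsecHom f F φ)).mp
      (h1 K ζ (range_geomPt ζ))
    have hcard : Nat.card ((EtCoh.stalk ζ).obj ((EtCoh.pull f).obj F) : Type (u + 1)) = n := by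
      rw [← hc₂]
      exact card_stalk_eq_of_same_center ζ ζ₂ _ (geomPt_default ζ₂ hζ₂).symm
    have hbG := hs.bijective_of_nat_card_le (by rw [hcard, hn])
    rw [key1 ζ] at hbG
    exact (Function.Bijective.of_comp_iff' (he ζ) _).mp hbG
  have hgood' : ∀ {K : Type u} [Field K] [IsSepClosed K] (η : Spec (CommRingCat.of K) ⟶ X)
      (s : (Scheme.pointSmallEtale η).fiber.obj (Scheme.Etale.mk f)), ctr η s ∈ O →
      Function.Bijective (fun m : M => germ η F (Scheme.Etale.mk f) s (φ m)) := by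
    intro K _ _ η s hs
    obtain ⟨ζ, hζ⟩ : ∃ ζ : Spec (CommRingCat.of K) ⟶ Y, ζ = s.left := ⟨_, rfl⟩
    have hη : ζ ≫ f = η := by
      rw [hζ]
      exact Over.w s
    subst hη
    have hs' : s = taut f ζ := by
      apply Over.OverMorphism.ext
      exact hζ.symm
    rw [hs'] at hs ⊢
    exact hgood ζ hs
  -- the open neighbourhood
  obtain ⟨U, hU⟩ : ∃ U : X.Opens, (U : Set X) = f '' (O : Set Y) :=
    ⟨⟨f '' (O : Set Y), f.isOpenMap _ O.isOpen⟩, rfl⟩
  have hxU : ξ (default : Spec (CommRingCat.of Ω)) ∈ U := by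
    change _ ∈ (U : Set X)
    rw [hU]
    exact ⟨ctr ξ w, hwO, hom_base_fiber ξ (Scheme.Etale.mk f) w⟩
  refine ⟨U, hxU, ?_⟩
  let W' : X.Etale := Scheme.Etale.mk (O.ι ≫ f)
  let jO : W' ⟶ Scheme.Etale.mk f := MorphismProperty.Over.homMk O.ι rfl (by simp)
  refine ⟨PUnit, fun _ => (EtCoh.bc U.ι).obj W', ?_, fun _ => ⟨M, inferInstance, inferInstance, _,
    germBij_pull_of_pointwise U.ι (φ := (F.obj.map jO.op).hom.comp φ) ?_⟩⟩
  · -- covering
    intro t'
    have h1 : U.ι t' ∈ f '' (O : Set Y) := by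
      rw [← hU]
      have : U.ι t' ∈ Set.range U.ι := ⟨t', rfl⟩
      rwa [Scheme.Opens.range_ι] at this
    obtain ⟨v, hvO, hv⟩ := h1
    obtain ⟨v', hv'⟩ : ∃ v' : (O : Scheme.{u}), O.ι v' = v := by
      have : v ∈ Set.range O.ι := by rw [Scheme.Opens.range_ι]; exact hvO
      exact this
    have hy : W'.hom v' = U.ι t' := by
      change (O.ι ≫ f) v' = U.ι t'
      rw [Scheme.Hom.comp_apply, hv', hv]
    obtain ⟨z, hz1, hz2⟩ := Scheme.Pullback.exists_preimage_pullback
      (f := W'.hom) (g := U.ι) v' t' hy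
    exact ⟨PUnit.unit, z, hz2⟩
  · -- bijectivity of germs
    intro K _ _ ξ' u'
    obtain ⟨s, hs⟩ : ∃ s, (Scheme.pointSmallEtale (ξ' ≫ U.ι)).fiber.map jO u' = s := ⟨_, rfl⟩
    have hgerm : (fun m : M => germ (ξ' ≫ U.ι) F W' u' (((F.obj.map jO.op).hom.comp φ) m)) =
        fun m : M => germ (ξ' ≫ U.ι) F (Scheme.Etale.mk f) s (φ m) := by
      funext m
      exact germ_map (ξ' ≫ U.ι) F jO u' s hs (φ m)
    rw [hgerm]
    have hsO : ctr (ξ' ≫ U.ι) s ∈ O := by
      rw [← hs]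
      change O.ι (ctr (ξ' ≫ U.ι) u') ∈ O
      have : O.ι (ctr (ξ' ≫ U.ι) u') ∈ Set.range O.ι := ⟨_, rfl⟩
      rwa [Scheme.Opens.range_ι] at this
    exact hgood' (ξ' ≫ U.ι) s hsO

set_option backward.isDefEq.respectTransparency.types false in
/-- if `F` is finite locally constant on an open neighbourhood of the centre of `ξ`, all
cospecialization maps into `ξ` are bijective -/
theorem cospec_bijective_of_flc_near (F : EtCoh.Ab X) (U : X.Opens)
    (hG : FLC ((EtCoh.pull U.ι).obj F))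
    {Ω Ω' : Type u} [Field Ω] [IsSepClosed Ω] [Field Ω'] [IsSepClosed Ω']
    (ξ : Spec (CommRingCat.of Ω) ⟶ X) (hξ : ξ (default : Spec (CommRingCat.of Ω)) ∈ U)
    (ξ' : Spec (CommRingCat.of Ω') ⟶ X)
    (φ : Scheme.pointSmallEtale ξ' ⟶ Scheme.pointSmallEtale ξ) :
    Function.Bijective
      ((GrothendieckTopology.Point.Hom.sheafFiber (A := AddCommGrpCat.{u + 1}) φ).app F) := by
  have h1 : ξ' (default : Spec (CommRingCat.of Ω')) ∈ U := by
    have h := arrow_specializes ξ ξ' φ (EtCoh.top X) (baseLift ξ)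
    have h2 : ctr ξ' (φ.hom.app (EtCoh.top X) (baseLift ξ)) =
        ξ' (default : Spec (CommRingCat.of Ω')) := hom_base_fiber ξ' (EtCoh.top X) _
    rw [h2] at h
    exact h.mem_open U.isOpen hξ
  obtain ⟨ξU, rfl⟩ : ∃ ξU : Spec (CommRingCat.of Ω) ⟶ (U : Scheme.{u}), ξU ≫ U.ι = ξ :=
    ⟨IsOpenImmersion.lift U.ι ξ (by
      rw [range_geomPt, Scheme.Opens.range_ι]
      exact Set.singleton_subset_iff.mpr hξ), IsOpenImmersion.lift_fac _ _ _⟩
  obtain ⟨ξU', rfl⟩ : ∃ ξU' : Spec (CommRingCat.of Ω') ⟶ (U : Scheme.{u}), ξU' ≫ U.ι = ξ' :=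
    ⟨IsOpenImmersion.lift U.ι ξ' (by
      rw [range_geomPt, Scheme.Opens.range_ι]
      exact Set.singleton_subset_iff.mpr h1), IsOpenImmersion.lift_fac _ _ _⟩
  exact cospec_bijective_of_flc_pull U.ι F hG ξU ξU' φ

end Groth.Agent.Lib.Helper8EtCospecNearB
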