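import Groth.Agent.Lib.Helper8EtTorsFilt
import Groth.Agent.Lib.Helper8EtCospecNearB
import Groth.Agent.Lib.Helper5Cons
import Groth.Agent.Lib.Helper4EtStalk

/-!
# Constructible sheaves on a qcqs scheme are finitely presentable objects (helper8)
-/

set_option autoImplicit false
set_option linter.style.haveILetI false
universe u
open CategoryTheory CategoryTheory.Limits AlgebraicGeometry Opposite Topology

namespace Groth.Agent.Lib.Helper8EtConstrFp

open Groth.Agent.Lib.Helper9.EtMV Groth.Agent.Lib.Helper9.EtFp Groth.Agent.Lib.Helper9.EtFlasque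
  Groth.Agent.Lib.Helper8EtLTors Groth.Agent.Lib.Helper8EtTorsion Groth.Agent.Lib.Helper8EtFpZh
  Groth.Agent.Lib.Helper8EtTorsGen Groth.Agent.Lib.Helper8EtConstrColim
  Groth.Agent.Lib.Helper8EtTorsFilt Groth.Agent.Lib.Helper16.EtStalk
  Groth.Agent.Lib.Helper16.StalkPull Groth.Agent.Lib.Helper8EtFLCExt
  Groth.Agent.Lib.Helper8EtArrowSpec Groth.Agent.Lib.Helper8EtSpecArrow
  Groth.Agent.Lib.Helper8EtSurjLocus Groth.Agent.Lib.Helper8EtCospecNearB

attribute [local instance] Cardinal.fact_isRegular_aleph0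

variable {X : Scheme.{u}}

section Fp

variable [CompactSpace X] [QuasiSeparatedSpace X]

/-- `j_! ℤ/n` is the cokernel of `n` on `ℤ[h_V]` -/
noncomputable def isColimitπn (V : X.Etale) (n : ℕ) :
    IsColimit (CokernelCofork.ofπ (f := n • 𝟙 (Zh V)) (πn V n)
      (by rw [Preadditive.nsmul_comp, Category.id_comp, nsmul_πn])) :=
  CokernelCofork.IsColimit.ofπ _ _
    (fun g' h => Classical.choose (exists_factor V n g' (by
      rwa [Preadditive.nsmul_comp, Category.id_comp] at h)))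
    (fun g' h => Classical.choose_spec (exists_factor V n g' (by
      rwa [Preadditive.nsmul_comp, Category.id_comp] at h)))
    (fun g' h m hm => by
      rw [← cancel_epi (πn V n), hm]
      exact (Classical.choose_spec (exists_factor V n g' (by
        rwa [Preadditive.nsmul_comp, Category.id_comp] at h))).symm)

theorem isFinitelyPresentable_Gn (V : X.Etale) (hV : fpProp X V) (n : ℕ) :
    IsFinitelyPresentable.{u + 1} (Gn V n) := by
  haveI : IsFinitelyPresentable.{u + 1} (Zh V) := isFinitelyPresentable_Zh V hV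
  haveI : ∀ k, IsCardinalPresentable ((parallelPair (n • 𝟙 (Zh V)) 0).obj k)
      (Cardinal.aleph0.{u + 1}) := by
    rintro (_ | _) <;> exact inferInstanceAs (IsFinitelyPresentable.{u + 1} (Zh V))
  exact isCardinalPresentable_of_isColimit _ (isColimitπn V n) (Cardinal.aleph0.{u + 1}) (by
    simp only [hasCardinalLT_aleph0_iff]
    infer_instance)

theorem R_le_fp : R X ≤ isCardinalPresentable (EtCoh.Ab X) (Cardinal.aleph0.{u + 1}) := by
  haveI : LocallySmall.{u + 1} (EtCoh.Ab X) := locallySmall_self _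
  refine (P X).colimitsCardinalClosure_le _
    (fun J _ hJ => isClosedUnderColimitsOfShape_isCardinalPresentable (EtCoh.Ab X) hJ) ?_
  rintro _ ⟨⟨⟨V, n⟩, hV, hn⟩⟩
  exact isFinitelyPresentable_Gn V hV n

end Fp

/-- constructible sheaves are torsion -/
theorem isTorsion_of_isConstructible (F : EtCoh.Ab X) (hF : EtPBC.IsConstructible F) :
    EtCoh.IsTorsion F := by
  apply isTorsion_of_isLTorsion Set.univ
  apply Groth.Agent.Lib.Helper4.EtStalk.isLTorsion_of_stalk Set.univ F
  intro Ω _ _ ξ t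
  haveI := finite_stalk_of_isConstructible F hF ξ
  haveI : Fintype ((EtCoh.stalk ξ).obj F : Type (u + 1)) := Fintype.ofFinite _
  refine ⟨Fintype.card ((EtCoh.stalk ξ).obj F : Type (u + 1)), ⟨Fintype.card_pos, fun _ _ _ => trivial⟩,
    card_nsmul_eq_zero⟩

section Epi

variable [CompactSpace X] [QuasiSeparatedSpace X] (F : EtCoh.Ab X)

set_option backward.isDefEq.respectTransparency.types false in
/-- every element of a stalk of a torsion sheaf comes from an object of `R` over `F` -/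
theorem exists_mem_range_stalk (hF : EtCoh.IsTorsion F) {Ω : Type u} [Field Ω] [IsSepClosed Ω]
    (ξ : Spec (CommRingCat.of Ω) ⟶ X) (t : (EtCoh.stalk ξ).obj F) :
    ∃ γ : CostructuredArrow (R X).ι F, t ∈ Set.range ((EtCoh.stalk ξ).map γ.hom) := by
  obtain ⟨W, s, z, rfl⟩ := (Scheme.pointSmallEtale ξ).toPresheafFiber_jointly_surjective t
  obtain ⟨O, hO, hsO⟩ : ∃ O : W.left.Opens, IsAffineOpen O ∧ ctr ξ s ∈ O := by
    obtain ⟨_, ⟨O, hO, rfl⟩, hx, -⟩ :=
      (W.left.isBasis_affineOpens).exists_subset_of_mem_open (Set.mem_univ (ctr ξ s)) isOpen_univ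
    exact ⟨O, hO, hx⟩
  obtain ⟨s', hs'⟩ := exists_lift_open ξ W s O hsO
  obtain ⟨W', hW'⟩ : ∃ W' : X.Etale, W' = Scheme.Etale.mk (O.ι ≫ W.hom) := ⟨_, rfl⟩
  obtain ⟨j, hj⟩ : ∃ j : Scheme.Etale.mk (O.ι ≫ W.hom) ⟶ W,
      j = MorphismProperty.Over.homMk O.ι rfl (by simp) := ⟨_, rfl⟩
  rw [← hj] at hs'
  subst hW'
  have hWaff : IsAffine (Scheme.Etale.mk (O.ι ≫ W.hom)).left := hO
  have hfp := fp_affine _ hWaff
  obtain ⟨z', hz'⟩ : ∃ z', z' = (F.obj.map j.op).hom z := ⟨_, rfl⟩
  have e1 : germ ξ F _ s' z' = germ ξ F W s z := by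
    rw [hz']
    exact germ_map ξ F j s' s hs' z
  obtain ⟨σ, hσ⟩ : ∃ σ, σ = (zhEquiv _ F).symm z' := ⟨_, rfl⟩
  obtain ⟨n, hn, h0⟩ := exists_nsmul_eq_zero F hF _ hfp σ
  obtain ⟨σ', hσ'⟩ := exists_factor _ n σ h0
  refine ⟨CostructuredArrow.mk (Y := ⟨Gn _ n, R_gen _ hfp n hn⟩) (by exact σ'),
    germ ξ (Gn _ n) _ s' (one _ n), ?_⟩
  have e2 : (σ'.hom.app (op _)).hom (one _ n) = z' := by
    rw [comp_eval, ← zhEquiv_πn_comp, hσ', hσ, Equiv.apply_symm_apply]
  refine ((germ_nat ξ σ' _ s' (one _ n)).symm.trans ?_).trans e1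
  exact congrArg (germ ξ F _ s') e2

omit [CompactSpace X] [QuasiSeparatedSpace X] in
set_option backward.isDefEq.respectTransparency.types false in
/-- surjectivity on stalks only depends on the centre of the geometric point, for maps of
constructible sheaves -/
lemma surjective_of_same_center {A B : EtCoh.Ab X} (φ : A ⟶ B) (hB : EtPBC.IsConstructible B)
    {Ω Ω' : Type u} [Field Ω] [IsSepClosed Ω] [Field Ω'] [IsSepClosed Ω']
    (ξ : Spec (CommRingCat.of Ω) ⟶ X) (ξ' : Spec (CommRingCat.of Ω') ⟶ X)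
    (h : ξ (default : Spec (CommRingCat.of Ω)) = ξ' (default : Spec (CommRingCat.of Ω')))
    (hs : Function.Surjective ((EtCoh.stalk ξ).map φ)) :
    Function.Surjective ((EtCoh.stalk ξ').map φ) := by
  obtain ⟨ψ, -⟩ := exists_arrow ξ ξ' (Scheme.Etale.mk (𝟙 X)) (baseLift ξ) (baseLift ξ') (by
    rw [ctr_baseLift, ctr_baseLift, h])
  have inj := sheafFiber_injective_of_same_center ξ ξ' B ψ h
  haveI := finite_stalk_of_isConstructible B hB ξ
  haveI := finite_stalk_of_isConstructible B hB ξ'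
  have hcard := card_stalk_eq_of_same_center ξ ξ' B h
  have bij : Function.Bijective
      ((GrothendieckTopology.Point.Hom.sheafFiber (A := AddCommGrpCat.{u + 1}) ψ).app B) :=
    inj.bijective_of_nat_card_le hcard.symm.le
  intro t
  obtain ⟨t₀, rfl⟩ := bij.2 t
  obtain ⟨y, rfl⟩ := hs t₀
  refine ⟨(GrothendieckTopology.Point.Hom.sheafFiber (A := AddCommGrpCat.{u + 1}) ψ).app A y, ?_⟩
  exact (ConcreteCategory.congr_hom
    ((GrothendieckTopology.Point.Hom.sheafFiber (A := AddCommGrpCat.{u + 1}) ψ).naturality φ) y).symm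

section Directed

/-! ### A directed family of maps from constructible sheaves which is jointly surjective on stalks
contains an epimorphism -/

variable {ι : Type*} (Q : ι → EtCoh.Ab X) (π : ∀ i, Q i ⟶ F)

omit [CompactSpace X] [QuasiSeparatedSpace X] in
/-- monotonicity of the surjectivity loci -/
lemma surjLocus_mono {i i' : ι} (f : Q i ⟶ Q i') (hf : f ≫ π i' = π i) :
    surjLocus (π i) ⊆ surjLocus (π i') := by
  intro x hx Ω _ _ ξ hξ t
  obtain ⟨y, hy⟩ := hx Ω ξ hξ t
  refine ⟨(EtCoh.stalk ξ).map f y, ?_⟩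
  rw [← hy, ← hf, Functor.map_comp]
  rfl

omit [CompactSpace X] [QuasiSeparatedSpace X] in
set_option backward.isDefEq.respectTransparency.types false in
theorem exists_mem_surjLocus_of_directed (hF : EtPBC.IsConstructible F)
    (hdir : ∀ S : Finset ι, ∃ j, ∀ s ∈ S, ∃ f : Q s ⟶ Q j, f ≫ π j = π s)
    (hgen : ∀ {Ω : Type u} [Field Ω] [IsSepClosed Ω] (ξ : Spec (CommRingCat.of Ω) ⟶ X)
      (t : (EtCoh.stalk ξ).obj F), ∃ i, t ∈ Set.range ((EtCoh.stalk ξ).map (π i)))
    (x : X) : ∃ j : ι, x ∈ surjLocus (π j) := by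
  classical
  obtain ⟨Ω₀, _, _, ξ₀, t₀, ht₀⟩ := exists_geometric_point (Scheme.Etale.mk (𝟙 X)) x
  have hx₀ : ξ₀ (default : Spec (CommRingCat.of Ω₀)) = x := by
    rw [← ht₀, ← hom_base_fiber ξ₀ (Scheme.Etale.mk (𝟙 X)) t₀]
    rfl
  haveI := finite_stalk_of_isConstructible F hF ξ₀
  haveI : Fintype ((EtCoh.stalk ξ₀).obj F : Type (u + 1)) := Fintype.ofFinite _
  choose γ hγ using fun t => hgen ξ₀ t
  obtain ⟨j, hj⟩ := hdir (Finset.univ.image γ)
  have hsurj₀ : Function.Surjective ((EtCoh.stalk ξ₀).map (π j)) := by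
    intro t
    obtain ⟨f, hf⟩ := hj _ (Finset.mem_image_of_mem γ (Finset.mem_univ t))
    obtain ⟨y, hy⟩ := hγ t
    refine ⟨(EtCoh.stalk ξ₀).map f y, ?_⟩
    have e : (EtCoh.stalk ξ₀).map (π (γ t)) y =
        (EtCoh.stalk ξ₀).map (π j) ((EtCoh.stalk ξ₀).map f y) := by
      rw [← hf, Functor.map_comp]
      rfl
    exact e.symm.trans hy
  refine ⟨j, ?_⟩
  intro Ω _ _ ξ hξ
  have hx : ξ (default : Spec (CommRingCat.of Ω)) = x := by
    have := range_geomPt ξ
    rw [hξ] at this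
    exact (Set.singleton_eq_singleton_iff.mp this).symm
  exact surjective_of_same_center (π j) hF ξ₀ ξ (hx₀.trans hx.symm) hsurj₀

theorem exists_epi_of_directed (hF : EtPBC.IsConstructible F)
    (hQ : ∀ i, EtPBC.IsConstructible (Q i))
    (hdir : ∀ S : Finset ι, ∃ j, ∀ s ∈ S, ∃ f : Q s ⟶ Q j, f ≫ π j = π s)
    (hgen : ∀ {Ω : Type u} [Field Ω] [IsSepClosed Ω] (ξ : Spec (CommRingCat.of Ω) ⟶ X)
      (t : (EtCoh.stalk ξ).obj F), ∃ i, t ∈ Set.range ((EtCoh.stalk ξ).map (π i))) :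
    ∃ j : ι, Epi (π j) := by
  classical
  have hS : ∀ j : ι, IsConstructible (surjLocus (π j)) := fun j =>
    isConstructible_surjLocus _ (hQ j) hF
  obtain ⟨𝒟', h𝒟', 𝒞', h𝒞', -, hfin, hsub⟩ :=
    Groth.Agent.Lib.Helper5.exists_finite_sInter_subset_sUnion (X := X) ∅
      (Set.range fun j : ι => surjLocus (π j)) (by simp)
      (by rintro _ ⟨j, rfl⟩; exact hS j) (by
        intro x _
        obtain ⟨j, hj⟩ := exists_mem_surjLocus_of_directed F Q π hF hdir hgen x
        exact ⟨_, ⟨j, rfl⟩, hj⟩)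
  have h𝒟'' : 𝒟' = ∅ := Set.subset_empty_iff.mp h𝒟'
  rw [h𝒟'', Set.sInter_empty] at hsub
  haveI : Nonempty ι := ⟨(hdir ∅).choose⟩
  have h𝒞'' : ∀ a : Set X, a ∈ 𝒞' → ∃ j : ι, surjLocus (π j) = a := fun a ha => h𝒞' ha
  choose! jj hjj using h𝒞''
  obtain ⟨j₀, hj₀⟩ := hdir (hfin.toFinset.image jj)
  refine ⟨j₀, ?_⟩
  apply epi_of_stalks
  intro Ω _ _ ξ
  obtain ⟨s, hs, hxs⟩ := hsub (Set.mem_univ (ξ (default : Spec (CommRingCat.of Ω))))
  obtain ⟨f, hf⟩ := hj₀ _ (Finset.mem_image_of_mem jj (hfin.mem_toFinset.mpr hs))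
  rw [← hjj s hs] at hxs
  exact surjLocus_mono F Q π f hf hxs Ω ξ (range_geomPt ξ)

end Directed

theorem exists_epi (hF : EtPBC.IsConstructible F) :
    ∃ j : CostructuredArrow (R X).ι F, Epi j.hom := by
  have hT := isTorsion_of_isConstructible F hF
  refine exists_epi_of_directed F (fun j : CostructuredArrow (R X).ι F => (R X).ι.obj j.left)
    (fun j => j.hom) hF (fun j => (R_le_BC _ j.left.2).1) (fun S => ?_)
    (fun ξ t => exists_mem_range_stalk F hT ξ t)
  obtain ⟨j, hj⟩ := IsFiltered.sup_objs_exists S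
  refine ⟨j, fun s hs => ?_⟩
  obtain ⟨f⟩ := hj hs
  exact ⟨(R X).ι.map f.left, CostructuredArrow.w f⟩

/-- a constructible sheaf is isomorphic to an object of `R` -/
theorem exists_iso_R (hF : EtPBC.IsConstructible F) : ∃ Q, R X Q ∧ Nonempty (Q ≅ F) := by
  obtain ⟨j, hj⟩ := exists_epi F hF
  obtain ⟨hjc, n, hn, hn0⟩ := R_le_BC _ j.left.2
  have hFn : n • 𝟙 F = 0 := by
    rw [← cancel_epi j.hom, Preadditive.comp_nsmul, Category.comp_id, comp_zero]
    exact nsmul_eq_zero_of_left _ hn0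
  have hK : EtPBC.IsConstructible (kernel j.hom) :=
    (Groth.Agent.S0131.result j.hom n hn (killedBy_of_nsmul_id hn0) (killedBy_of_nsmul_id hFn)
      hjc hF).1
  obtain ⟨k, hk⟩ := exists_epi (kernel j.hom) hK
  have hclosed : (R X).IsClosedUnderColimitsOfShape WalkingParallelPair := by
    apply ObjectProperty.isClosedUnderColimitsOfShape_colimitsCardinalClosure
    refine .of_le ?_ (Cardinal.IsRegular.aleph0_le Fact.out)
    simp only [hasCardinalLT_aleph0_iff]
    infer_instance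
  refine ⟨cokernel (k.hom ≫ kernel.ι j.hom), ?_, ⟨?_⟩⟩
  · apply (R X).prop_of_isColimit (cokernelIsCokernel (k.hom ≫ kernel.ι j.hom))
    rintro (_ | _)
    · exact k.left.2
    · exact j.left.2
  · exact cokernelEpiComp k.hom (kernel.ι j.hom) ≪≫
      IsColimit.coconePointUniqueUpToIso (colimit.isColimit _)
        (Abelian.epiIsCokernelOfKernel _ (limit.isLimit (parallelPair j.hom 0)))

/-- a constructible sheaf on a qcqs scheme has bounded torsion -/
theorem BC_of_isConstructible (hF : EtPBC.IsConstructible F) : BC F := by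
  obtain ⟨Q, hQ, ⟨e⟩⟩ := exists_iso_R F hF
  exact BC_of_iso e (R_le_BC _ hQ)

/-- constructible sheaves on a qcqs scheme are finitely presentable -/
theorem isFinitelyPresentable_of_isConstructible (hF : EtPBC.IsConstructible F) :
    IsFinitelyPresentable.{u + 1} F := by
  obtain ⟨Q, hQ, ⟨e⟩⟩ := exists_iso_R F hF
  haveI : IsCardinalPresentable Q (Cardinal.aleph0.{u + 1}) := R_le_fp _ hQ
  exact isCardinalPresentable_of_iso e _

/-- **Stacks 09YU**: constructible sheaves are compact -/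
theorem preservesColimitsOfShape_coyoneda (hF : EtPBC.IsConstructible F)
    (J : Type u) [SmallCategory J] [IsFiltered J] :
    PreservesColimitsOfShape J (coyoneda.obj (op F)) := by
  haveI := isFinitelyPresentable_of_isConstructible F hF
  exact preservesColimitsOfShape_of_small_up _ (fun I _ _ => inferInstance) J

end Epi

end Groth.Agent.Lib.Helper8EtConstrFp
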