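import Groth.Agent.Lib.Helper8EtConstrFp

/-!
# Finite presentations of constructible sheaves of `ℤ/n`-modules (helper8)

On a qcqs scheme, a constructible sheaf killed by `n` is the cokernel of a map between finite
direct sums of `j_{U!} ℤ/n` with `U` affine étale (Stacks 095N).
-/

set_option autoImplicit false
set_option linter.style.haveILetI false
universe u
open CategoryTheory CategoryTheory.Limits AlgebraicGeometry Opposite Topology

namespace Groth.Agent.Lib.Helper8EtConstrPres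

open Groth.Agent.Lib.Helper9.EtMV Groth.Agent.Lib.Helper9.EtFp Groth.Agent.Lib.Helper9.EtFlasque
  Groth.Agent.Lib.Helper8EtLTors Groth.Agent.Lib.Helper8EtTorsion Groth.Agent.Lib.Helper8EtFpZh
  Groth.Agent.Lib.Helper8EtTorsGen Groth.Agent.Lib.Helper8EtConstrColim
  Groth.Agent.Lib.Helper8EtTorsFilt Groth.Agent.Lib.Helper16.EtStalk
  Groth.Agent.Lib.Helper16.StalkPull Groth.Agent.Lib.Helper8EtFLCExt
  Groth.Agent.Lib.Helper8EtArrowSpec Groth.Agent.Lib.Helper8EtSpecArrow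
  Groth.Agent.Lib.Helper8EtSurjLocus Groth.Agent.Lib.Helper8EtCospecNearB
  Groth.Agent.Lib.Helper8EtConstrFp

variable {X : Scheme.{u}}

/-- a finite family of maps `j_{U!} ℤ/n ⟶ F` with affine `U` -/
structure Fam (n : ℕ) (F : EtCoh.Ab X) where
  /-- index type -/
  K : Type
  /-- finiteness -/
  fin : Finite K
  /-- the affine étale schemes -/
  U : K → X.Etale
  /-- affineness -/
  aff : ∀ k, IsAffine (U k).left
  /-- the maps -/
  σ : ∀ k, Gn (U k) n ⟶ F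

attribute [instance] Fam.fin

namespace Fam

variable {n : ℕ} {F : EtCoh.Ab X}

/-- the direct sum -/
noncomputable def obj (φ : Fam n F) : EtCoh.Ab X := ⨁ fun k => Gn (φ.U k) n

/-- the total map -/
noncomputable def π (φ : Fam n F) : φ.obj ⟶ F := biproduct.desc φ.σ

/-- the empty family -/
abbrev empty (n : ℕ) (F : EtCoh.Ab X) : Fam n F where
  K := PEmpty.{1}
  fin := inferInstance
  U := fun k => k.elim
  aff := fun k => k.elim
  σ := fun k => k.elim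

/-- a single map -/
abbrev single (V : X.Etale) (hV : IsAffine V.left) (σ : Gn V n ⟶ F) : Fam n F where
  K := PUnit.{1}
  fin := inferInstance
  U := fun _ => V
  aff := fun _ => hV
  σ := fun _ => σ

/-- union of two families -/
abbrev add (φ ψ : Fam n F) : Fam n F where
  K := φ.K ⊕ ψ.K
  fin := inferInstance
  U := Sum.elim φ.U ψ.U
  aff := by rintro (k | k); exacts [φ.aff k, ψ.aff k]
  σ := by rintro (k | k); exacts [φ.σ k, ψ.σ k]

/-- the order relation: factorisation over `F` -/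
def le (φ ψ : Fam n F) : Prop := ∃ f : φ.obj ⟶ ψ.obj, f ≫ ψ.π = φ.π

lemma le_refl (φ : Fam n F) : le φ φ := ⟨𝟙 _, Category.id_comp _⟩

lemma le_trans {φ ψ χ : Fam n F} (h₁ : le φ ψ) (h₂ : le ψ χ) : le φ χ := by
  obtain ⟨f, hf⟩ := h₁
  obtain ⟨g, hg⟩ := h₂
  exact ⟨f ≫ g, by rw [Category.assoc, hg, hf]⟩

lemma le_add_left (φ ψ : Fam n F) : le φ (add φ ψ) := by
  let f : ∀ k : φ.K, Gn (φ.U k) n ⟶ (add φ ψ).obj := fun k =>
    biproduct.ι (fun k' : φ.K ⊕ ψ.K => Gn (Sum.elim φ.U ψ.U k') n) (Sum.inl k)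
  refine ⟨biproduct.desc f, ?_⟩
  apply biproduct.hom_ext'
  intro k
  have h1 : biproduct.ι (fun k => Gn (φ.U k) n) k ≫ biproduct.desc f = f k :=
    biproduct.ι_desc f k
  have h2 : f k ≫ (add φ ψ).π = φ.σ k := biproduct.ι_desc (add φ ψ).σ (Sum.inl k)
  have h3 : biproduct.ι (fun k => Gn (φ.U k) n) k ≫ φ.π = φ.σ k := biproduct.ι_desc φ.σ k
  calc biproduct.ι (fun k => Gn (φ.U k) n) k ≫ biproduct.desc f ≫ (add φ ψ).π
      = (biproduct.ι (fun k => Gn (φ.U k) n) k ≫ biproduct.desc f) ≫ (add φ ψ).π :=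
        (Category.assoc _ _ _).symm
    _ = f k ≫ (add φ ψ).π := congrArg (· ≫ (add φ ψ).π) h1
    _ = φ.σ k := h2
    _ = _ := h3.symm

lemma le_add_right (φ ψ : Fam n F) : le ψ (add φ ψ) := by
  let f : ∀ k : ψ.K, Gn (ψ.U k) n ⟶ (add φ ψ).obj := fun k =>
    biproduct.ι (fun k' : φ.K ⊕ ψ.K => Gn (Sum.elim φ.U ψ.U k') n) (Sum.inr k)
  refine ⟨biproduct.desc f, ?_⟩
  apply biproduct.hom_ext'
  intro k
  have h1 : biproduct.ι (fun k => Gn (ψ.U k) n) k ≫ biproduct.desc f = f k :=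
    biproduct.ι_desc f k
  have h2 : f k ≫ (add φ ψ).π = ψ.σ k := biproduct.ι_desc (add φ ψ).σ (Sum.inr k)
  have h3 : biproduct.ι (fun k => Gn (ψ.U k) n) k ≫ ψ.π = ψ.σ k := biproduct.ι_desc ψ.σ k
  calc biproduct.ι (fun k => Gn (ψ.U k) n) k ≫ biproduct.desc f ≫ (add φ ψ).π
      = (biproduct.ι (fun k => Gn (ψ.U k) n) k ≫ biproduct.desc f) ≫ (add φ ψ).π :=
        (Category.assoc _ _ _).symm
    _ = f k ≫ (add φ ψ).π := congrArg (· ≫ (add φ ψ).π) h1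
    _ = ψ.σ k := h2
    _ = _ := h3.symm

lemma single_π (V : X.Etale) (hV : IsAffine V.left) (σ : Gn V n ⟶ F) :
    biproduct.ι (fun _ : PUnit.{1} => Gn V n) PUnit.unit ≫ (single V hV σ).π = σ :=
  biproduct.ι_desc (single V hV σ).σ PUnit.unit

/-- directedness -/
lemma exists_upper_bound (S : Finset (Fam n F)) : ∃ j : Fam n F, ∀ s ∈ S, le s j := by
  classical
  induction S using Finset.induction_on with
  | empty => exact ⟨empty n F, fun s hs => absurd hs (Finset.notMem_empty s)⟩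
  | insert a S _ ih =>
    obtain ⟨j, hj⟩ := ih
    refine ⟨add a j, fun s hs => ?_⟩
    rcases Finset.mem_insert.mp hs with rfl | hs
    · exact le_add_left _ _
    · exact le_trans (hj s hs) (le_add_right _ _)

end Fam

section Main

variable [CompactSpace X] [QuasiSeparatedSpace X]

instance : (BC (X := X)).IsClosedUnderFiniteCoproducts :=
  ObjectProperty.IsClosedUnderFiniteCoproducts.of_isClosedUnderColimitsOfShape.{u + 1}
    (fun J _ => BC_isClosedUnderColimitsOfShape (Discrete J))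

lemma BC_biproduct {K : Type} [Finite K] (f : K → EtCoh.Ab X) (h : ∀ k, BC (f k)) : BC (⨁ f) :=
  ObjectProperty.prop_of_isColimit_cofan (P := BC (X := X)) (biproduct.isColimit f) h

lemma nsmul_id_biproduct {K : Type} [Finite K] (f : K → EtCoh.Ab X) (n : ℕ)
    (h : ∀ k, n • 𝟙 (f k) = 0) : n • 𝟙 (⨁ f) = 0 := by
  apply biproduct.hom_ext'
  intro k
  rw [Preadditive.comp_nsmul, Category.comp_id, comp_zero]
  exact nsmul_eq_zero_of_left _ (h k)

lemma BC_Gn (V : X.Etale) (hV : IsAffine V.left) (n : ℕ) (hn : 0 < n) : BC (Gn V n) :=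
  R_le_BC _ (R_gen V (fp_affine V hV) n hn)

lemma Fam.BC_obj {n : ℕ} (hn : 0 < n) {F : EtCoh.Ab X} (φ : Fam n F) : BC φ.obj :=
  BC_biproduct _ (fun k => BC_Gn _ (φ.aff k) n hn)

lemma Fam.nsmul_id_obj {n : ℕ} {F : EtCoh.Ab X} (φ : Fam n F) : n • 𝟙 φ.obj = 0 :=
  nsmul_id_biproduct _ n (fun k => nsmul_id_Gn _ n)

omit [CompactSpace X] [QuasiSeparatedSpace X] in
lemma nsmul_id_of_killedBy {n : ℕ} {F : EtCoh.Ab X} (h : EtCoh.KilledBy n F) : n • 𝟙 F = 0 := by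
  apply Sheaf.hom_ext
  ext U s
  have h1 := nsmul_id_app F n (unop U) s
  exact h1.trans (h (unop U) s)

set_option backward.isDefEq.respectTransparency.types false in
/-- every element of a stalk of a sheaf killed by `n` comes from some `j_{V!} ℤ/n`, `V` affine -/
theorem exists_mem_range_stalk {n : ℕ} (F : EtCoh.Ab X) (hFn : n • 𝟙 F = 0)
    {Ω : Type u} [Field Ω] [IsSepClosed Ω]
    (ξ : Spec (CommRingCat.of Ω) ⟶ X) (t : (EtCoh.stalk ξ).obj F) :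
    ∃ γ : Fam n F, t ∈ Set.range ((EtCoh.stalk ξ).map γ.π) := by
  obtain ⟨W, s, z, rfl⟩ := (Scheme.pointSmallEtale ξ).toPresheafFiber_jointly_surjective t
  obtain ⟨O, hO, hsO⟩ : ∃ O : W.left.Opens, IsAffineOpen O ∧ ctr ξ s ∈ O := by
    obtain ⟨_, ⟨O, hO, rfl⟩, hx, -⟩ :=
      (W.left.isBasis_affineOpens).exists_subset_of_mem_open (Set.mem_univ (ctr ξ s)) isOpen_univ
    exact ⟨O, hO, hx⟩
  obtain ⟨s', hs'⟩ := exists_lift_open ξ W s O hsO
  obtain ⟨W', hW'⟩ : ∃ W' : X.Etale, W' = Scheme.Etale.mk (O.ι ≫ W.hom) := ⟨_, rfl⟩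
  obtain ⟨j, hj⟩ : ∃ j : Scheme.Etale.mk (O.ι ≫ W.hom) ⟶ W,
      j = MorphismProperty.Over.homMk O.ι rfl (by simp) := ⟨_, rfl⟩
  rw [← hj] at hs'
  subst hW'
  have hWaff : IsAffine (Scheme.Etale.mk (O.ι ≫ W.hom)).left := hO
  obtain ⟨z', hz'⟩ : ∃ z', z' = (F.obj.map j.op).hom z := ⟨_, rfl⟩
  have e1 : germ ξ F _ s' z' = germ ξ F W s z := by
    rw [hz']
    exact germ_map ξ F j s' s hs' z
  obtain ⟨σ, hσ⟩ : ∃ σ, σ = (zhEquiv _ F).symm z' := ⟨_, rfl⟩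
  obtain ⟨σ', hσ'⟩ := exists_factor _ n σ (nsmul_eq_zero_of_right σ hFn)
  obtain ⟨ι₁, hι₁⟩ : ∃ ι₁ : Gn (Scheme.Etale.mk (O.ι ≫ W.hom)) n ⟶
      (Fam.single (Scheme.Etale.mk (O.ι ≫ W.hom)) hWaff σ').obj,
      ι₁ ≫ (Fam.single (Scheme.Etale.mk (O.ι ≫ W.hom)) hWaff σ').π = σ' :=
    ⟨biproduct.ι (fun _ : PUnit.{1} => Gn (Scheme.Etale.mk (O.ι ≫ W.hom)) n) PUnit.unit,
      Fam.single_π _ hWaff σ'⟩
  refine ⟨Fam.single (Scheme.Etale.mk (O.ι ≫ W.hom)) hWaff σ',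
    (EtCoh.stalk ξ).map ι₁ (germ ξ (Gn (Scheme.Etale.mk (O.ι ≫ W.hom)) n) _ s'
      (one (Scheme.Etale.mk (O.ι ≫ W.hom)) n)), ?_⟩
  have e2 : (σ'.hom.app (op (Scheme.Etale.mk (O.ι ≫ W.hom)))).hom
      (one (Scheme.Etale.mk (O.ι ≫ W.hom)) n) = z' := by
    rw [comp_eval, ← zhEquiv_πn_comp, hσ', hσ, Equiv.apply_symm_apply]
  have e3 : (EtCoh.stalk ξ).map (Fam.single (Scheme.Etale.mk (O.ι ≫ W.hom)) hWaff σ').π
      ((EtCoh.stalk ξ).map ι₁ (germ ξ (Gn (Scheme.Etale.mk (O.ι ≫ W.hom)) n) _ s'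
        (one (Scheme.Etale.mk (O.ι ≫ W.hom)) n))) =
      (EtCoh.stalk ξ).map σ' (germ ξ (Gn (Scheme.Etale.mk (O.ι ≫ W.hom)) n) _ s'
        (one (Scheme.Etale.mk (O.ι ≫ W.hom)) n)) := by
    have h := ConcreteCategory.congr_hom ((EtCoh.stalk ξ).congr_map hι₁)
      (germ ξ (Gn (Scheme.Etale.mk (O.ι ≫ W.hom)) n) _ s'
        (one (Scheme.Etale.mk (O.ι ≫ W.hom)) n))
    rw [Functor.map_comp] at h
    exact h
  rw [e3]
  refine ((germ_nat ξ σ' _ s' (one (Scheme.Etale.mk (O.ι ≫ W.hom)) n)).symm.trans ?_).trans e1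
  exact congrArg (germ ξ F _ s') e2

/-- a constructible sheaf killed by `n` is a quotient of a finite sum of `j_{V!} ℤ/n` -/
theorem exists_fam_epi {n : ℕ} (hn : 0 < n) (F : EtCoh.Ab X) (hF : EtPBC.IsConstructible F)
    (hFn : n • 𝟙 F = 0) : ∃ γ : Fam n F, Epi γ.π :=
  exists_epi_of_directed F (fun γ : Fam n F => γ.obj) (fun γ => γ.π) hF
    (fun γ => (γ.BC_obj hn).1) Fam.exists_upper_bound
    (fun ξ t => exists_mem_range_stalk F hFn ξ t)

/-- reindexing a family by `Fin a` -/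
lemma Fam.exists_fin {n : ℕ} {F : EtCoh.Ab X} (γ : Fam n F) :
    ∃ (a : ℕ) (U : Fin a → X.Etale) (_ : ∀ i, IsAffine (U i).left),
      Nonempty ((⨁ fun i => EtPBC.extZeroConst (U i) (ZMod n)) ≅ γ.obj) := by
  classical
  obtain ⟨a, ⟨e⟩⟩ := Finite.exists_equiv_fin γ.K
  exact ⟨a, fun i => γ.U (e.symm i), fun i => γ.aff _,
    ⟨biproduct.reindex e.symm (fun k => Gn (γ.U k) n)⟩⟩

/-- **Stacks 095N** (presentation direction) -/
theorem exists_presentation (n : ℕ) (hn : 0 < n) (F : EtCoh.Ab X)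
    (hF : EtPBC.IsConstructible F) (hFn : EtCoh.KilledBy n F) :
    ∃ (a b : ℕ) (V : Fin a → X.Etale) (U : Fin b → X.Etale) (_ : ∀ j, IsAffine (V j).left)
      (_ : ∀ i, IsAffine (U i).left)
      (φ : (⨁ fun j => EtPBC.extZeroConst (V j) (ZMod n)) ⟶
        ⨁ fun i => EtPBC.extZeroConst (U i) (ZMod n)),
      Nonempty (F ≅ cokernel φ) := by
  have hFn0 := nsmul_id_of_killedBy hFn
  obtain ⟨γ₁, h₁⟩ := exists_fam_epi hn F hF hFn0
  have hKc : EtPBC.IsConstructible (kernel γ₁.π) :=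
    (Groth.Agent.S0131.result γ₁.π n hn (killedBy_of_nsmul_id γ₁.nsmul_id_obj) hFn
      (γ₁.BC_obj hn).1 hF).1
  have hKn : n • 𝟙 (kernel γ₁.π) = 0 := by
    rw [← cancel_mono (kernel.ι γ₁.π), zero_comp, Preadditive.nsmul_comp, Category.id_comp]
    exact nsmul_eq_zero_of_right _ γ₁.nsmul_id_obj
  obtain ⟨γ₂, h₂⟩ := exists_fam_epi hn (kernel γ₁.π) hKc hKn
  obtain ⟨b, U, hU, ⟨e₁⟩⟩ := γ₁.exists_fin
  obtain ⟨a, V, hV, ⟨e₂⟩⟩ := γ₂.exists_fin
  have e : cokernel (γ₂.π ≫ kernel.ι γ₁.π) ≅ F :=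
    cokernelEpiComp γ₂.π (kernel.ι γ₁.π) ≪≫
      IsColimit.coconePointUniqueUpToIso (colimit.isColimit _)
        (Abelian.epiIsCokernelOfKernel _ (limit.isLimit (parallelPair γ₁.π 0)))
  refine ⟨a, b, V, U, hV, hU, e₂.hom ≫ (γ₂.π ≫ kernel.ι γ₁.π) ≫ e₁.inv, ⟨e.symm ≪≫ ?_⟩⟩
  exact (cokernel.mapIso _ _ e₂ e₁ (by simp)).symm

/-- **Stacks 095N**: characterisation of constructible sheaves by finite presentations -/
theorem isConstructible_iff_presentation (F : EtCoh.Ab X) :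
    EtPBC.IsConstructible F ↔
      ∃ (a b : ℕ) (U : Fin a → X.Etale) (V : Fin b → X.Etale) (n : Fin a → ℕ) (m : Fin b → ℕ),
        (∀ i, 0 < n i ∧ IsAffine (U i).left) ∧ (∀ j, 0 < m j ∧ IsAffine (V j).left) ∧
        ∃ φ : (⨁ fun j => EtPBC.extZeroConst (V j) (ZMod (m j))) ⟶
            (⨁ fun i => EtPBC.extZeroConst (U i) (ZMod (n i))),
          Nonempty (F ≅ cokernel φ) := by
  constructor
  · intro hF
    obtain ⟨-, n, hn, hn0⟩ := BC_of_isConstructible F hF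
    obtain ⟨a, b, V, U, hV, hU, φ, ⟨e⟩⟩ :=
      exists_presentation n hn F hF (killedBy_of_nsmul_id hn0)
    exact ⟨b, a, U, V, fun _ => n, fun _ => n, fun i => ⟨hn, hU i⟩, fun j => ⟨hn, hV j⟩, φ, ⟨e⟩⟩
  · rintro ⟨a, b, U, V, n, m, hU, hV, φ, ⟨e⟩⟩
    exact (BC_of_iso e.symm (BC_cokernel φ
      (BC_biproduct _ fun j => BC_Gn _ (hV j).2 _ (hV j).1)
      (BC_biproduct _ fun i => BC_Gn _ (hU i).2 _ (hU i).1))).1

end Main

end Groth.Agent.Lib.Helper8EtConstrPres
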