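import Groth.Agent.Lib.Helper8EtRecoll
import Groth.Agent.Lib.Helper8DerFF
import Groth.Prelude.Def_DCoh2

/-!
# `i_*` on derived categories of abelian étale sheaves, for a closed immersion `i` (helper8)
-/

set_option autoImplicit false
set_option linter.style.haveILetI false
universe u
open CategoryTheory CategoryTheory.Limits AlgebraicGeometry Opposite

namespace Groth.Agent.Lib.Helper8EtDerClosed

open Groth.Agent.Lib.Helper16.EtStalk Groth.Agent.Lib.Helper16.SmallEtale
  Groth.Agent.Lib.Helper8EtRecoll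

variable {Z X U : Scheme.{u}} (i : Z ⟶ X) [IsClosedImmersion i]
  (j : U ⟶ X) [IsOpenImmersion j]

set_option backward.isDefEq.respectTransparency.types false in
/-- a sheaf with zero restriction to the open complement of `Z` vanishes on étale schemes
missing `Z`. -/
theorem isZero_obj_of_isZero_pull (hZU : Set.range j.base = (Set.range i.base)ᶜ) (F : EtCoh.Ab X)
    (hF : IsZero ((EtCoh.pull j).obj F))
    (V : X.Etale) (hV : Disjoint (Set.range V.hom.base) (Set.range i.base)) :
    IsZero (F.obj.obj (op V)) := by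
  rw [AddCommGrpCat.isZero_iff_subsingleton]
  suffices h : ∀ τ : F.obj.obj (op V), τ = 0 from
    ⟨fun a b => (h a).trans (h b).symm⟩
  intro τ
  apply Groth.Agent.Lib.Helper16.EtSupp.section_eq_zero_of_germs
  intro Ω _ _ ζ x
  have hx : (x.left : Spec (CommRingCat.of Ω) ⟶ V.left) ≫ V.hom = ζ := Over.w x
  have hr : Set.range ζ.base ⊆ Set.range j.base := by
    rintro _ ⟨a, rfl⟩
    rw [hZU]
    intro ha
    refine Set.disjoint_left.mp hV ⟨(x.left : Spec (CommRingCat.of Ω) ⟶ V.left) a, ?_⟩ ha
    exact congrArg (fun m : Spec (CommRingCat.of Ω) ⟶ X => m a) hx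
  obtain ⟨ξ', rfl⟩ : ∃ ξ' : Spec (CommRingCat.of Ω) ⟶ U, ξ' ≫ j = ζ :=
    ⟨IsOpenImmersion.lift j ζ hr, IsOpenImmersion.lift_fac _ _ _⟩
  have hz : IsZero ((EtCoh.stalk (ξ' ≫ j)).obj F) := by
    refine IsZero.of_iso ?_ ((Groth.Agent.S0101.stalkPullIso j ξ').app F)
    exact (EtCoh.stalk ξ').map_isZero hF
  have s1 := AddCommGrpCat.isZero_iff_subsingleton.mp hz
  exact s1.elim _ _

set_option backward.isDefEq.respectTransparency.types false in
/-- the unit `F ⟶ i_* i^* F` is an isomorphism iff `F` has zero restriction to the open complement -/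
theorem isIso_unit_iff (hZU : Set.range j.base = (Set.range i.base)ᶜ) (F : EtCoh.Ab X) :
    IsIso ((EtCoh.pullPushAdj i).unit.app F) ↔ IsZero ((EtCoh.pull j).obj F) := by
  constructor
  · intro h
    have h1 := isZero_pull_push i j hZU ((EtCoh.pull i).obj F)
    exact h1.of_iso ((EtCoh.pull j).mapIso (asIso ((EtCoh.pullPushAdj i).unit.app F)))
  · intro h
    exact isIso_unit_of_vanishing i F (fun V hV => isZero_obj_of_isZero_pull i j hZU F h V hV)

end Groth.Agent.Lib.Helper8EtDerClosed
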