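import Groth.Prelude
import Groth.Agent.Lib.Helper8ShriekStalk
import Groth.Agent.Lib.Helper8EtStalkAlg
import Groth.Agent.S0622

/-!
# Exactness of `f_!` for `f` separated and locally quasi-finite (helper8)
-/

set_option autoImplicit false
universe u
open CategoryTheory CategoryTheory.Limits AlgebraicGeometry Opposite

namespace Groth.Agent.Lib.Helper8ShriekExact

open Groth.Agent.Lib.Helper8FinPushDecomp Groth.Agent.Lib.Helper8FinPushStalk
open Groth.Agent.Lib.Helper8ShriekSupp Groth.Agent.Lib.Helper8ShriekStalk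
open Groth.Agent.Lib.Helper16.StalkPull Groth.Agent.Lib.Helper16.EtSupp
open Groth.Agent.Lib.Helper16.EtStalk Groth.Agent.Lib.Helper8EtStalkAlg

variable {X Y : Scheme.{u}} (f : X ⟶ Y)

instance additive_lowerShriekPreFunctor : (EtShriek.lowerShriekPreFunctor f).Additive where
  map_add := by
    intro F G α β
    ext V ⟨s, hs⟩
    apply Subtype.ext
    rfl

instance additive_lowerShriek : (EtShriek.lowerShriek f).Additive := by
  unfold EtShriek.lowerShriek
  infer_instance

/-- short exactness of abelian étale sheaves can be checked on stalks at geometric points with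
algebraically closed fields. -/
theorem shortExact_of_stalks_alg (T : ShortComplex (EtCoh.Ab Y))
    (h : ∀ (Ω : Type u) [Field Ω] [IsAlgClosed Ω] (η : Spec (CommRingCat.of Ω) ⟶ Y),
      (T.map (EtCoh.stalk η)).ShortExact) : T.ShortExact := by
  have hex : T.Exact := by
    rw [T.exact_iff_isZero_homology]
    apply Groth.Agent.Lib.Helper8EtStalkAlg.isZero_of_stalks
    intro Ω _ _ η
    have h1 := (h Ω η).exact
    rw [ShortComplex.exact_iff_isZero_homology] at h1
    exact h1.of_iso (T.mapHomologyIso (EtCoh.stalk η)).symm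
  have hm : Mono T.f := by
    apply Groth.Agent.Lib.Helper8EtStalkAlg.mono_of_stalks
    intro Ω _ _ η
    have := (h Ω η).mono_f
    exact (AddCommGrpCat.mono_iff_injective _).mp this
  have he : Epi T.g := by
    apply Groth.Agent.Lib.Helper8EtStalkAlg.epi_of_stalks
    intro Ω _ _ η
    have := (h Ω η).epi_g
    exact (AddCommGrpCat.epi_iff_surjective _).mp this
  exact { exact := hex }

variable {Ω : Type u} [Field Ω] [IsAlgClosed Ω] {η : Spec (CommRingCat.of Ω) ⟶ Y}

set_option backward.isDefEq.respectTransparency.types false in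
theorem c_naturality {F G : EtCoh.Ab X} (α : F ⟶ G) (ξ : Pts f η)
    (x : ToType ((Scheme.pointSmallEtale η).presheafFiber.obj (EtShriek.lowerShriekPre f F))) :
    c f G ξ ((Scheme.pointSmallEtale η).presheafFiber.map
      ((EtShriek.lowerShriekPreFunctor f).map α) x) =
      (Scheme.pointSmallEtale ξ.1).presheafFiber.map α.hom (c f F ξ x) := by
  obtain ⟨V, v, s, rfl⟩ := (Scheme.pointSmallEtale η).toPresheafFiber_jointly_surjective
    (P := EtShriek.lowerShriekPre f F) x
  have h1 := (Scheme.pointSmallEtale η).toPresheafFiber_naturality_apply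
    ((EtShriek.lowerShriekPreFunctor f).map α) V v s
  refine (congrArg (c f G ξ) h1).trans ?_
  refine (c_apply f G ξ V v (((EtShriek.lowerShriekPreFunctor f).map α).app (op V) s)).trans ?_
  refine Eq.trans ?_ (congrArg ((Scheme.pointSmallEtale ξ.1).presheafFiber.map α.hom)
    (c_apply f F ξ V v s)).symm
  exact ((Scheme.pointSmallEtale ξ.1).toPresheafFiber_naturality_apply α.hom
    ((EtCoh.bc f).obj V) (pt ξ V v) s.1).symm

section Main

variable [IsSeparated f] [LocallyOfFiniteType f] [LocallyQuasiFinite f]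

set_option backward.isDefEq.respectTransparency.types false in
/-- on presheaf stalks, `f_!` takes short exact sequences to short exact sequences. -/
theorem shortExact_presheafFiber (S : ShortComplex (EtCoh.Ab X)) (hS : S.ShortExact) :
    (S.map (EtShriek.lowerShriekPreFunctor f ⋙
      (Scheme.pointSmallEtale η).presheafFiber (A := AddCommGrpCat.{u + 1}))).ShortExact := by
  have hst : ∀ ξ : Pts f η, (S.map (EtCoh.stalk ξ.1)).ShortExact :=
    fun ξ => hS.map_of_exact (EtCoh.stalk ξ.1)
  have key := Groth.Agent.Lib.Helper8AbCoprod.shortExact_of_components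
    (fun ξ : Pts f η => (EtCoh.stalk ξ.1).obj S.X₁)
    (fun ξ : Pts f η => (EtCoh.stalk ξ.1).obj S.X₂)
    (fun ξ : Pts f η => (EtCoh.stalk ξ.1).obj S.X₃)
    ((Scheme.pointSmallEtale η).presheafFiber.obj (EtShriek.lowerShriekPre f S.X₁))
    ((Scheme.pointSmallEtale η).presheafFiber.obj (EtShriek.lowerShriekPre f S.X₂))
    ((Scheme.pointSmallEtale η).presheafFiber.obj (EtShriek.lowerShriekPre f S.X₃))
    (fun ξ => c f S.X₁ ξ) (fun ξ => c f S.X₂ ξ) (fun ξ => c f S.X₃ ξ)
    (finite_c_ne_zero f S.X₂) (finite_c_ne_zero f S.X₃)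
    (eq_zero_of_c_eq_zero f S.X₁) (eq_zero_of_c_eq_zero f S.X₂) (eq_zero_of_c_eq_zero f S.X₃)
    (exists_delta f S.X₁) (exists_delta f S.X₂)
    ((Scheme.pointSmallEtale η).presheafFiber.map ((EtShriek.lowerShriekPreFunctor f).map S.f))
    ((Scheme.pointSmallEtale η).presheafFiber.map ((EtShriek.lowerShriekPreFunctor f).map S.g))
    (fun ξ => (EtCoh.stalk ξ.1).map S.f) (fun ξ => (EtCoh.stalk ξ.1).map S.g)
    (fun ξ x => c_naturality f S.f ξ x) (fun ξ x => c_naturality f S.g ξ x)
    (fun ξ => (AddCommGrpCat.mono_iff_injective _).mp (hst ξ).mono_f)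
    (fun ξ => (AddCommGrpCat.epi_iff_surjective _).mp (hst ξ).epi_g)
    (fun ξ y hy => (ShortComplex.ab_exact_iff _).mp (hst ξ).exact y hy)
  obtain ⟨k1, k2, k3⟩ := key
  have hm : Mono ((S.map (EtShriek.lowerShriekPreFunctor f ⋙
      (Scheme.pointSmallEtale η).presheafFiber (A := AddCommGrpCat.{u + 1}))).f) :=
    (AddCommGrpCat.mono_iff_injective _).mpr k1
  have he : Epi ((S.map (EtShriek.lowerShriekPreFunctor f ⋙
      (Scheme.pointSmallEtale η).presheafFiber (A := AddCommGrpCat.{u + 1}))).g) :=
    (AddCommGrpCat.epi_iff_surjective _).mpr k2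
  exact { exact := (ShortComplex.ab_exact_iff _).mpr k3 }

end Main

set_option backward.isDefEq.respectTransparency.types false in
/-- `f_!` is exact for `f` separated, locally of finite type and locally quasi-finite. -/
theorem shortExact_map_lowerShriek [IsSeparated f] [LocallyOfFiniteType f] [LocallyQuasiFinite f]
    (S : ShortComplex (EtCoh.Ab X)) (hS : S.ShortExact) :
    (S.map (EtShriek.lowerShriek f)).ShortExact := by
  apply shortExact_of_stalks_alg
  intro Ω _ _ η
  let e : EtShriek.lowerShriek f ⋙ EtCoh.stalk η ≅ EtShriek.lowerShriekPreFunctor f ⋙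
      (Scheme.pointSmallEtale η).presheafFiber (A := AddCommGrpCat.{u + 1}) :=
    Functor.associator _ _ _ ≪≫ Functor.isoWhiskerLeft (EtShriek.lowerShriekPreFunctor f)
      ((Scheme.pointSmallEtale η).presheafToSheafCompSheafFiberIso AddCommGrpCat.{u + 1})
  have h1 := shortExact_presheafFiber f (η := η) S hS
  exact (ShortComplex.shortExact_iff_of_iso (S.mapNatIso e)).mpr h1

theorem preservesFiniteLimits_and_colimits [IsSeparated f] [LocallyOfFiniteType f]
    [LocallyQuasiFinite f] :
    PreservesFiniteLimits (EtShriek.lowerShriek f) ∧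
      PreservesFiniteColimits (EtShriek.lowerShriek f) :=
  ((Functor.exact_tfae (EtShriek.lowerShriek f)).out 0 3).mp
    (fun S hS => shortExact_map_lowerShriek f S hS)

end Groth.Agent.Lib.Helper8ShriekExact
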