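import Groth.Agent.Lib.Helper8EtRecoll
import Groth.Agent.Lib.Helper8ShriekEtaleStalk
import Groth.Agent.Lib.Helper8ShriekExact

/-!
# Extension by zero along open immersions: recollement, composition, exactness (helper8)

* `recoll'` : the recollement sequence `0 → j_! j^* F → F → i_* i^* F → 0` for an arbitrary open
  immersion `j` complementary to the closed immersion `i`.
* `restrComp`, `extZeroComp` : `(h ≫ c)^* ≅ c^* ⋙ h^*` and `(h ≫ c)_! ≅ h_! ⋙ c_!`.
* `shortExact_map_extZero` : `j_!` is exact for `j` étale and separated.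
-/

set_option autoImplicit false
set_option linter.style.haveILetI false
universe u
open CategoryTheory CategoryTheory.Limits AlgebraicGeometry Opposite

namespace Groth.Agent.Lib.Helper8EtDevA

open Groth.Agent.Lib.Helper16.EtStalk Groth.Agent.Lib.Helper16.SmallEtale
  Groth.Agent.Lib.Helper8EtRecoll

set_option backward.isDefEq.respectTransparency.types false in
/-- **recollement sequence** for a general open immersion `j` complementary to `i`. -/
theorem recoll' {Z X U : Scheme.{u}} (i : Z ⟶ X) [IsClosedImmersion i]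
    (j : U ⟶ X) [IsOpenImmersion j] [AlgebraicGeometry.Etale j] [EtShriek.JCont j]
    (hrange : Set.range j.base = (Set.range i.base)ᶜ) (F : EtCoh.Ab X) :
    ∃ w : (EtShriek.extZeroAdj j).counit.app F ≫ (EtCoh.pullPushAdj i).unit.app F = 0,
      (ShortComplex.mk _ _ w).ShortExact := by
  have hT : IsZero ((EtShriek.restrAlong j).obj
      ((EtCoh.push i).obj ((EtCoh.pull i).obj F))) := by
    apply isZero_of_sections
    intro V
    refine isZero_push_obj i _ ((EtShriek.compEtale j).obj V) ?_
    rw [Set.disjoint_left]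
    rintro x ⟨v, rfl⟩ hx
    have h1 : ((EtShriek.compEtale j).obj V).hom v ∈ Set.range j.base :=
      ⟨V.hom v, rfl⟩
    rw [hrange] at h1
    exact h1 hx
  have w : (EtShriek.extZeroAdj j).counit.app F ≫ (EtCoh.pullPushAdj i).unit.app F = 0 := by
    apply ((EtShriek.extZeroAdj j).homEquiv _ _).injective
    exact hT.eq_of_tgt _ _
  refine ⟨w, ?_⟩
  have hcase : ∀ (Ω : Type u) [Field Ω] [IsSepClosed Ω] (ξ : Spec (CommRingCat.of Ω) ⟶ X),
      (∃ ξ' : Spec (CommRingCat.of Ω) ⟶ U, ξ' ≫ j = ξ) ∨
      (∃ ζ : Spec (CommRingCat.of Ω) ⟶ Z, ζ ≫ i = ξ) := by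
    intro Ω _ _ ξ
    by_cases hξ : ξ (default : Spec (CommRingCat.of Ω)) ∈ Set.range i.base
    · exact Or.inr (exists_lift_geometric i ξ hξ)
    · left
      have hr : Set.range ξ.base ⊆ Set.range j.base := by
        rintro _ ⟨a, rfl⟩
        rw [hrange, Subsingleton.elim a default]
        exact hξ
      exact ⟨IsOpenImmersion.lift j ξ hr, IsOpenImmersion.lift_fac _ _ _⟩
  have hz1 : ∀ (Ω : Type u) [Field Ω] [IsSepClosed Ω] (ζ : Spec (CommRingCat.of Ω) ⟶ Z),
      IsZero ((EtCoh.stalk (ζ ≫ i)).obj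
        ((EtShriek.extZero j).obj ((EtShriek.restrAlong j).obj F))) := by
    intro Ω _ _ ζ
    apply isZero_stalk_extZero
    rw [hrange]
    intro h
    exact h ⟨ζ default, rfl⟩
  have hz3 : ∀ (Ω : Type u) [Field Ω] [IsSepClosed Ω] (ξ' : Spec (CommRingCat.of Ω) ⟶ U),
      IsZero ((EtCoh.stalk (ξ' ≫ j)).obj ((EtCoh.push i).obj ((EtCoh.pull i).obj F))) := by
    intro Ω _ _ ξ'
    refine isZero_stalk_of_vanishing _ (compl i) (fun V hV => isZero_push_obj i _ V ?_) _ ?_
    · rw [Set.disjoint_left]
      intro x hx hx'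
      exact hV hx hx'
    · have h1 : (ξ' ≫ j) default ∈ Set.range j.base := ⟨ξ' default, rfl⟩
      rw [hrange] at h1
      exact h1
  have hmono : Mono ((EtShriek.extZeroAdj j).counit.app F) := by
    apply mono_of_stalks
    intro Ω _ _ ξ
    rcases hcase Ω ξ with ⟨ξ', rfl⟩ | ⟨ζ, rfl⟩
    · exact (bijective_stalk_counit j F ξ').1
    · have s1 := AddCommGrpCat.isZero_iff_subsingleton.mp (hz1 Ω ζ)
      exact fun a b _ => s1.elim _ _
  have hepi : Epi ((EtCoh.pullPushAdj i).unit.app F) := by
    apply epi_of_stalks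
    intro Ω _ _ ξ
    rcases hcase Ω ξ with ⟨ξ', rfl⟩ | ⟨ζ, rfl⟩
    · have s3 := AddCommGrpCat.isZero_iff_subsingleton.mp (hz3 Ω ξ')
      exact fun b => ⟨0, s3.elim _ _⟩
    · exact (bijective_stalk_unit i F ζ).2
  have hex : (ShortComplex.mk _ _ w).Exact := by
    apply exact_of_stalks
    intro Ω _ _ ξ
    rw [ShortComplex.ab_exact_iff]
    intro x₂ hx₂
    rcases hcase Ω ξ with ⟨ξ', rfl⟩ | ⟨ζ, rfl⟩
    · exact (bijective_stalk_counit j F ξ').2 x₂
    · refine ⟨0, ?_⟩
      have h0 : x₂ = 0 := by
        apply (bijective_stalk_unit i F ζ).1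
        exact hx₂.trans (map_zero _).symm
      rw [h0]
      exact map_zero _
  exact { exact := hex, mono_f := hmono, epi_g := hepi }

section Comp

variable {A B X : Scheme.{u}} (h : A ⟶ B) (c : B ⟶ X) [hh : AlgebraicGeometry.Etale h]
  [hc : AlgebraicGeometry.Etale c] [EtShriek.JCont h] [EtShriek.JCont c] [EtShriek.JCont (h ≫ c)]

set_option backward.isDefEq.respectTransparency.types false in
/-- `compEtale` commutes with composition -/
noncomputable def compEtaleComp :
    EtShriek.compEtale h ⋙ EtShriek.compEtale c ≅ EtShriek.compEtale (h ≫ c) :=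
  (MorphismProperty.Over.mapComp (P := EtCoh.etaleMP.{u}) (Q := ⊤) hh hc).symm

set_option backward.isDefEq.respectTransparency.types false in
/-- restriction commutes with composition -/
noncomputable def restrComp :
    EtShriek.restrAlong c ⋙ EtShriek.restrAlong h ≅ EtShriek.restrAlong (h ≫ c) :=
  Functor.sheafPushforwardContinuousComp' (F := EtShriek.compEtale h) (G := EtShriek.compEtale c)
    (FG := EtShriek.compEtale (h ≫ c)) (compEtaleComp h c)
    AddCommGrpCat.{u + 1} A.smallEtaleTopology B.smallEtaleTopology X.smallEtaleTopology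

/-- extension by zero commutes with composition -/
noncomputable def extZeroComp :
    EtShriek.extZero h ⋙ EtShriek.extZero c ≅ EtShriek.extZero (h ≫ c) :=
  ((EtShriek.extZeroAdj h).comp (EtShriek.extZeroAdj c)).leftAdjointUniq
    ((EtShriek.extZeroAdj (h ≫ c)).ofNatIsoRight (restrComp h c).symm)

end Comp

section Exact

variable {U X : Scheme.{u}} (j : U ⟶ X) [AlgebraicGeometry.Etale j] [IsSeparated j]
  [EtShriek.JCont j]

/-- `j_!` is exact for `j` étale and separated. -/
theorem shortExact_map_extZero (S : ShortComplex (EtCoh.Ab U)) (hS : S.ShortExact) :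
    (S.map (EtShriek.extZero j)).ShortExact := by
  haveI := Groth.Agent.Lib.Helper8ShriekEtaleStalk.lqf_of_etale j
  have h1 := Groth.Agent.Lib.Helper8ShriekExact.shortExact_map_lowerShriek j S hS
  exact (ShortComplex.shortExact_iff_of_iso
    (S.mapNatIso (Groth.Agent.Lib.Helper8ShriekEtaleStalk.extZeroIso j))).mpr h1

end Exact

end Groth.Agent.Lib.Helper8EtDevA
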