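import Groth.Agent.Lib.Helper8EtDevA

/-!
# Dévissage of abelian étale sheaves by extensions by zero of finite locally constant sheaves
(helper8)

* `IsStep f` : `f : E ⟶ F` is a monomorphism with cokernel of the form `j_!(c_* G)`, `j` an open
  immersion, `c` a closed immersion with `c ≫ j` of constructible range, `G` finite locally
  constant.
* `Dev F` : `F` is obtained from `0` by finitely many steps.
* `Dev.exists_filtration` : the filtration indexed by `Fin (n + 1)`.
* `isStep_pair` : the step `(h ≫ c)_!(F|) ⟶ c_!(F|)` for composable open immersions.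
-/

set_option autoImplicit false
set_option linter.style.haveILetI false
universe u
open CategoryTheory CategoryTheory.Limits AlgebraicGeometry Opposite

namespace Groth.Agent.Lib.Helper8EtDevB

open Groth.Agent.Lib.Helper8EtDevA

variable {X : Scheme.{u}}

/-- `f` is a monomorphism whose cokernel is `j_!(c_* G)` with `G` finite locally constant. -/
def IsStep {E F : EtCoh.Ab X} (f : E ⟶ F) : Prop :=
  ∃ (U W : Scheme.{u}) (j : U ⟶ X) (_ : IsOpenImmersion j) (c : W ⟶ U)
    (_ : IsClosedImmersion c) (G : EtCoh.Ab W)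
    (π : F ⟶ (EtShriek.extZero j).obj ((EtCoh.push c).obj G)) (hz : f ≫ π = 0),
    Topology.IsConstructible (Set.range (c ≫ j)) ∧ EtCoh.IsFiniteLocallyConstant G ∧
    (ShortComplex.mk f π hz).ShortExact

/-- `F` has a finite filtration by steps. -/
inductive Dev : EtCoh.Ab X → Prop
  | zero (F : EtCoh.Ab X) : IsZero F → Dev F
  | step (E F : EtCoh.Ab X) (f : E ⟶ F) : IsStep f → Dev E → Dev F

theorem IsStep.comp_iso {E F F' : EtCoh.Ab X} {f : E ⟶ F} (hf : IsStep f) (e : F ≅ F') :
    IsStep (f ≫ e.hom) := by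
  obtain ⟨U, W, j, hj, c, hc, G, π, hz, h1, h2, h3⟩ := hf
  have hz' : (f ≫ e.hom) ≫ e.inv ≫ π = 0 := by rw [Category.assoc, e.hom_inv_id_assoc, hz]
  refine ⟨U, W, j, hj, c, hc, G, e.inv ≫ π, hz', h1, h2, ?_⟩
  have iso : ShortComplex.mk f π hz ≅ ShortComplex.mk (f ≫ e.hom) (e.inv ≫ π) hz' :=
    ShortComplex.isoMk (Iso.refl _) e (Iso.refl _)
      (by dsimp; rw [Category.id_comp])
      (by dsimp; rw [Category.comp_id, e.hom_inv_id_assoc])
  exact (ShortComplex.shortExact_iff_of_iso iso).mp h3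

theorem IsStep.iso_comp {E E' F : EtCoh.Ab X} {f : E ⟶ F} (hf : IsStep f) (e : E' ≅ E) :
    IsStep (e.hom ≫ f) := by
  obtain ⟨U, W, j, hj, c, hc, G, π, hz, h1, h2, h3⟩ := hf
  have hz' : (e.hom ≫ f) ≫ π = 0 := by rw [Category.assoc, hz, comp_zero]
  refine ⟨U, W, j, hj, c, hc, G, π, hz', h1, h2, ?_⟩
  have iso : ShortComplex.mk (e.hom ≫ f) π hz' ≅ ShortComplex.mk f π hz :=
    ShortComplex.isoMk e (Iso.refl _) (Iso.refl _)
      (by dsimp; rw [Category.comp_id])
      (by dsimp; rw [Category.comp_id, Category.id_comp])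
  exact (ShortComplex.shortExact_iff_of_iso iso).mpr h3

theorem Dev.of_iso {F F' : EtCoh.Ab X} (e : F ≅ F') (h : Dev F) : Dev F' := by
  cases h with
  | zero _ hz => exact Dev.zero _ (hz.of_iso e.symm)
  | step E _ f hf hE => exact Dev.step E F' (f ≫ e.hom) (hf.comp_iso e) hE

/-- filtrations indexed from the top -/
def QTop (F : EtCoh.Ab X) : Prop :=
  ∃ (n : ℕ) (D : ℕ → EtCoh.Ab X) (δ : ∀ k, D (k + 1) ⟶ D k),
    D 0 = F ∧ IsZero (D n) ∧ ∀ k, k < n → IsStep (δ k)

theorem Dev.qTop {F : EtCoh.Ab X} (h : Dev F) : QTop F := by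
  induction h with
  | zero F hz => exact ⟨0, fun _ => F, fun _ => 𝟙 F, rfl, hz, fun k hk => absurd hk (Nat.not_lt_zero k)⟩
  | step E F f hf _ ih =>
    obtain ⟨n, D, δ, hD0, hz, hs⟩ := ih
    subst hD0
    refine ⟨n + 1, fun k => match k with | 0 => F | k + 1 => D k,
      fun k => match k with | 0 => f | k + 1 => δ k, rfl, hz, ?_⟩
    intro k hk
    match k with
    | 0 => exact hf
    | k + 1 => exact hs k (Nat.lt_of_succ_lt_succ hk)

/-- **the filtration of a dévissable sheaf**, in the form of statement S8561. -/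
theorem Dev.exists_filtration {F : EtCoh.Ab X} (h : Dev F) :
    ∃ (n : ℕ) (E : Fin (n + 1) → EtCoh.Ab X) (ι : ∀ k : Fin n, E k.castSucc ⟶ E k.succ),
      IsZero (E 0) ∧ Nonempty (E (Fin.last n) ≅ F) ∧
      ∀ k : Fin n, ∃ (U W : Scheme.{u}) (j : U ⟶ X) (_ : IsOpenImmersion j) (c : W ⟶ U)
        (_ : IsClosedImmersion c) (G : EtCoh.Ab W)
        (π : E k.succ ⟶ (EtShriek.extZero j).obj ((EtCoh.push c).obj G)) (hz : ι k ≫ π = 0),
        Topology.IsConstructible (Set.range (c ≫ j)) ∧ EtCoh.IsFiniteLocallyConstant G ∧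
        (ShortComplex.mk (ι k) π hz).ShortExact := by
  obtain ⟨n, D, δ, hD0, hz, hs⟩ := h.qTop
  subst hD0
  have key : ∀ a b : ℕ, a = b + 1 → b < n → ∃ f : D a ⟶ D b, IsStep f := by
    intro a b hab hb
    subst hab
    exact ⟨δ b, hs b hb⟩
  have key2 : ∀ k : Fin n, ∃ f : D (n - k.castSucc.val) ⟶ D (n - k.succ.val), IsStep f := by
    intro k
    apply key
    · have := k.isLt
      simp only [Fin.val_castSucc, Fin.val_succ]
      omega
    · have := k.isLt
      simp only [Fin.val_succ]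
      omega
  choose ι hι using key2
  refine ⟨n, fun k => D (n - k.val), ι, ?_, ⟨eqToIso (by simp)⟩, fun k => hι k⟩
  simpa using hz

section Pair

variable {A C Z : Scheme.{u}} (h : A ⟶ C) (c : C ⟶ X) [IsOpenImmersion h] [IsOpenImmersion c]
  (i : Z ⟶ C) [IsClosedImmersion i]

set_option backward.isDefEq.respectTransparency.types false in
/-- the step from `(h ≫ c)_! (F|_A)` to `c_! (F|_C)`. -/
theorem isStep_pair (hrange : Set.range h.base = (Set.range i.base)ᶜ) (F : EtCoh.Ab X)
    (hcons : Topology.IsConstructible (Set.range (i ≫ c)))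
    (hflc : EtCoh.IsFiniteLocallyConstant
      ((EtCoh.pull i).obj ((EtShriek.restrAlong c).obj F))) :
    ∃ f : (EtShriek.extZero (h ≫ c)).obj ((EtShriek.restrAlong (h ≫ c)).obj F) ⟶
      (EtShriek.extZero c).obj ((EtShriek.restrAlong c).obj F), IsStep f := by
  obtain ⟨w, hS⟩ := recoll' i h hrange ((EtShriek.restrAlong c).obj F)
  have hS' := shortExact_map_extZero c _ hS
  let α : (EtShriek.extZero c).obj ((EtShriek.extZero h).obj
      ((EtShriek.restrAlong h).obj ((EtShriek.restrAlong c).obj F))) ≅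
      (EtShriek.extZero (h ≫ c)).obj ((EtShriek.restrAlong (h ≫ c)).obj F) :=
    (extZeroComp h c).app _ ≪≫ (EtShriek.extZero (h ≫ c)).mapIso ((restrComp h c).app F)
  have hstep : IsStep ((EtShriek.extZero c).map
      ((EtShriek.extZeroAdj h).counit.app ((EtShriek.restrAlong c).obj F))) :=
    ⟨C, Z, c, inferInstance, i, inferInstance, _, (EtShriek.extZero c).map
      ((EtCoh.pullPushAdj i).unit.app ((EtShriek.restrAlong c).obj F)), _, hcons, hflc, hS'⟩
  exact ⟨α.inv ≫ _, hstep.iso_comp α.symm⟩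

end Pair

end Groth.Agent.Lib.Helper8EtDevB
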