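import Groth.Agent.Lib.Helper8EtDevB
import Groth.Agent.Lib.Helper8EtConstrCover

/-!
# Dévissage of constructible étale sheaves on quasi-compact quasi-separated schemes (helper8)

* `Ch`, `chain_of_list` : chains of quasi-compact opens refining a finite family of quasi-compact
  opens.
* `exists_list_of_isConstructible` : constructible sets are saturated for a finite family of
  quasi-compact opens.
* `dev_of_isConstructible` : a constructible sheaf is dévissable.
-/

set_option autoImplicit false
set_option linter.style.haveILetI false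
universe u
open CategoryTheory CategoryTheory.Limits AlgebraicGeometry Opposite TopologicalSpace

namespace Groth.Agent.Lib.Helper8EtDevC

section Chain

variable {α : Type*} [TopologicalSpace α]

/-- chains of opens with quasi-compact members and successive pairs in relation `P` -/
inductive Ch (P : Opens α → Opens α → Prop) (B : Opens α) : Opens α → Prop
  | refl : Ch P B B
  | step (C D : Opens α) : Ch P B C → C ≤ D → IsCompact (D : Set α) → P C D → Ch P B D

theorem Ch.trans {P : Opens α → Opens α → Prop} {B C D : Opens α} (h1 : Ch P B C)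
    (h2 : Ch P C D) : Ch P B D := by
  induction h2 with
  | refl => exact h1
  | step C' D' _ hle hc hP ih => exact Ch.step _ _ ih hle hc hP

theorem Ch.map {P P' : Opens α → Opens α → Prop} (φ : Opens α → Opens α) (hmono : Monotone φ)
    (hc : ∀ D : Opens α, IsCompact (D : Set α) → IsCompact (φ D : Set α))
    (hP : ∀ C D, C ≤ D → P C D → P' (φ C) (φ D)) {B C : Opens α} (h : Ch P B C) :
    Ch P' (φ B) (φ C) := by
  induction h with
  | refl => exact Ch.refl
  | step C' D' _ hle hcD hPD ih => exact Ch.step _ _ ih (hmono hle) (hc _ hcD) (hP _ _ hle hPD)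

/-- `x` and `y` lie in the same members of `L` -/
def Same (L : List (Opens α)) (x y : α) : Prop := ∀ U ∈ L, x ∈ U ↔ y ∈ U

/-- all points of `D \ C` lie in the same members of `L` -/
def PL (L : List (Opens α)) (C D : Opens α) : Prop :=
  ∀ x y : α, x ∈ D → x ∉ C → y ∈ D → y ∉ C → Same L x y

theorem chain_of_list [CompactSpace α] [QuasiSeparatedSpace α] :
    ∀ L : List (Opens α), (∀ U ∈ L, IsCompact (U : Set α)) → Ch (PL L) ⊥ ⊤ := by
  intro L
  induction L with
  | nil =>
    intro _
    exact Ch.step ⊥ ⊤ Ch.refl bot_le isCompact_univ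
      (fun x y _ _ _ _ U hU => absurd hU List.not_mem_nil)
  | cons U L ih =>
    intro hL
    have hU : IsCompact (U : Set α) := hL U List.mem_cons_self
    have ih' := ih (fun V hV => hL V (List.mem_cons_of_mem _ hV))
    have h1 : Ch (PL (U :: L)) (⊥ ⊓ U) (⊤ ⊓ U) := by
      refine ih'.map (fun D => D ⊓ U) (fun C D h => inf_le_inf_right U h) ?_ ?_
      · intro D hD
        exact hD.inter_of_isOpen hU D.isOpen U.isOpen
      · intro C D _ hP x y hx hxC hy hyC V hV
        rcases List.mem_cons.mp hV with rfl | hV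
        · exact ⟨fun _ => hy.2, fun _ => hx.2⟩
        · exact hP x y hx.1 (fun h => hxC ⟨h, hx.2⟩) hy.1 (fun h => hyC ⟨h, hy.2⟩) V hV
    have h2 : Ch (PL (U :: L)) (U ⊔ ⊥) (U ⊔ ⊤) := by
      refine ih'.map (fun D => U ⊔ D) (fun C D h => sup_le_sup_left h U) ?_ ?_
      · intro D hD
        rw [Opens.coe_sup]
        exact hU.union hD
      · intro C D _ hP x y hx hxC hy hyC V hV
        have hxU : x ∉ U := fun h => hxC (Or.inl h)
        have hyU : y ∉ U := fun h => hyC (Or.inl h)
        rcases List.mem_cons.mp hV with rfl | hV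
        · exact ⟨fun h => absurd h hxU, fun h => absurd h hyU⟩
        · exact hP x y (hx.resolve_left hxU) (fun h => hxC (Or.inr h)) (hy.resolve_left hyU)
            (fun h => hyC (Or.inr h)) V hV
    rw [bot_inf_eq, top_inf_eq] at h1
    rw [sup_bot_eq, sup_top_eq] at h2
    exact h1.trans h2

theorem Same.of_append_left {L L' : List (Opens α)} {x y : α} (h : Same (L ++ L') x y) :
    Same L x y := fun U hU => h U (List.mem_append_left _ hU)

theorem Same.of_append_right {L L' : List (Opens α)} {x y : α} (h : Same (L ++ L') x y) :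
    Same L' x y := fun U hU => h U (List.mem_append_right _ hU)

theorem exists_list_of_isConstructible [CompactSpace α] {s : Set α}
    (hs : Topology.IsConstructible s) :
    ∃ L : List (Opens α), (∀ U ∈ L, IsCompact (U : Set α)) ∧
      ∀ x y, Same L x y → (x ∈ s ↔ y ∈ s) := by
  induction hs using Topology.IsConstructible.empty_union_induction with
  | open_retrocompact U hUopen hUcomp =>
    refine ⟨[⟨U, hUopen⟩], ?_, ?_⟩
    · intro V hV
      rw [List.mem_singleton] at hV
      subst hV
      exact hUcomp.isCompact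
    · intro x y h
      exact h ⟨U, hUopen⟩ (List.mem_singleton.mpr rfl)
  | union s hs t ht hs' ht' =>
    obtain ⟨L₁, h1, h1'⟩ := hs'
    obtain ⟨L₂, h2, h2'⟩ := ht'
    refine ⟨L₁ ++ L₂, ?_, ?_⟩
    · intro V hV
      rcases List.mem_append.mp hV with h | h
      · exact h1 V h
      · exact h2 V h
    · intro x y h
      exact or_congr (h1' x y h.of_append_left) (h2' x y h.of_append_right)
  | compl s hs hs' =>
    obtain ⟨L, h1, h1'⟩ := hs'
    exact ⟨L, h1, fun x y h => not_congr (h1' x y h)⟩

theorem exists_list_of_family [CompactSpace α] {ι : Type*} [Finite ι] (S : ι → Set α)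
    (hS : ∀ i, Topology.IsConstructible (S i)) :
    ∃ L : List (Opens α), (∀ U ∈ L, IsCompact (U : Set α)) ∧
      ∀ i x y, Same L x y → (x ∈ S i ↔ y ∈ S i) := by
  classical
  haveI := Fintype.ofFinite ι
  choose L h1 h2 using fun i => exists_list_of_isConstructible (hS i)
  refine ⟨(Finset.univ : Finset ι).toList.flatMap L, ?_, ?_⟩
  · intro U hU
    obtain ⟨i, _, hi⟩ := List.mem_flatMap.mp hU
    exact h1 i U hi
  · intro i x y h
    refine h2 i x y (fun U hU => h U ?_)
    exact List.mem_flatMap.mpr ⟨i, Finset.mem_toList.mpr (Finset.mem_univ i), hU⟩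

end Chain

open Groth.Agent.Lib.Helper8EtDevA Groth.Agent.Lib.Helper8EtDevB
  Groth.Agent.Lib.Helper8EtFLCCrit Groth.Agent.Lib.Helper8EtConstr
  Groth.Agent.Lib.Helper8EtConstrCover Groth.Agent.Lib.Helper8EtRecoll
  Groth.Agent.Lib.Helper16.EtStalk

variable {X : Scheme.{u}}

/-- `a_! a^* F` for an open immersion `a` -/
noncomputable abbrev EZ (F : EtCoh.Ab X) {A : Scheme.{u}} (a : A ⟶ X) [IsOpenImmersion a] :
    EtCoh.Ab X :=
  (EtShriek.extZero a).obj ((EtShriek.restrAlong a).obj F)

theorem dev_congr (F : EtCoh.Ab X) {A : Scheme.{u}} (a a' : A ⟶ X) [IsOpenImmersion a]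
    [IsOpenImmersion a'] (h : a = a') (hd : Dev (EZ F a)) : Dev (EZ F a') := by
  subst h
  exact hd

/-- the pullbacks along equal morphisms -/
noncomputable def pullEqIso {A B : Scheme.{u}} {f f' : A ⟶ B} (h : f = f') (F : EtCoh.Ab B) :
    (EtCoh.pull f).obj F ≅ (EtCoh.pull f').obj F :=
  eqToIso (by rw [h])

section StepGen

variable {A C Z T : Scheme.{u}} (h : A ⟶ C) (c : C ⟶ X) [IsOpenImmersion h] [IsOpenImmersion c]
  (z : Z ⟶ C) [IsClosedImmersion z] (g : T ⟶ X) [IsImmersion g]

set_option backward.isDefEq.respectTransparency.types false in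
/-- a step whose closed stratum lies in the range of an immersion along which `F` is finite
locally constant -/
theorem isStep_of_subset (hrange : Set.range h.base = (Set.range z.base)ᶜ) (F : EtCoh.Ab X)
    (hcons : Topology.IsConstructible (Set.range (z ≫ c)))
    (hsub : Set.range (z ≫ c) ⊆ Set.range g) (hg : FLC ((EtCoh.pull g).obj F)) :
    ∃ f : EZ F (h ≫ c) ⟶ EZ F c, IsStep f := by
  have hsurj : Set.range (pullback.snd g (z ≫ c)) = Set.univ := by
    rw [Scheme.Pullback.range_snd]
    ext x
    simp only [Set.mem_preimage, Set.mem_univ, iff_true]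
    exact hsub ⟨x, rfl⟩
  haveI : IsClosedImmersion (pullback.snd g (z ≫ c)) :=
    IsClosedImmersion.of_isPreimmersion _ (by rw [hsurj]; exact isClosed_univ)
  have hri : Set.range (pullback.snd g (z ≫ c) ≫ z).base = Set.range z.base := by
    have h1 := range_comp' (pullback.snd g (z ≫ c)) z
    rw [hsurj, Set.image_univ] at h1
    exact h1
  refine isStep_pair h c (pullback.snd g (z ≫ c) ≫ z) (by rw [hri]; exact hrange) F ?_ ?_
  · have h1 := range_comp' (pullback.snd g (z ≫ c)) (z ≫ c)
    rw [hsurj, Set.image_univ] at h1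
    rw [Category.assoc, h1]
    exact hcons
  · rw [flc_iff]
    have heq : pullback.fst g (z ≫ c) ≫ g = (pullback.snd g (z ≫ c) ≫ z) ≫ c := by
      rw [pullback.condition, Category.assoc]
    refine FLC.of_iso ?_ (FLC.pull (pullback.fst g (z ≫ c)) hg)
    exact (pullCompIso _ _ F).symm ≪≫ pullEqIso heq F ≪≫ pullCompIso _ _ F ≪≫
      (EtCoh.pull _).mapIso ((Groth.Agent.Lib.Helper9.EtPull.rho c).app F)

end StepGen

lemma image_compl_range_homOfLE {C D : X.Opens} (hCD : C ≤ D) :
    D.ι '' (Set.range (X.homOfLE hCD).base)ᶜ = (D : Set X) \ C := by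
  ext x
  constructor
  · rintro ⟨y, hy, rfl⟩
    refine ⟨y.2, fun hC => hy ⟨⟨y.1, hC⟩, ?_⟩⟩
    exact X.homOfLE_apply' hCD y.1 hC
  · rintro ⟨hxD, hxC⟩
    refine ⟨⟨x, hxD⟩, ?_, rfl⟩
    rintro ⟨a, ha⟩
    apply hxC
    have h1 := X.homOfLE_apply hCD a
    rw [ha] at h1
    change x = a.1 at h1
    rw [h1]
    exact a.2

set_option backward.isDefEq.respectTransparency.types false in
/-- enlarging the open along a difference contained in a stratum -/
theorem dev_step [QuasiSeparatedSpace X] (F : EtCoh.Ab X) {C D : X.Opens} (hCD : C ≤ D)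
    (hC : IsCompact (C : Set X)) (hD : IsCompact (D : Set X)) {T : Scheme.{u}} (g : T ⟶ X)
    [IsImmersion g] (hg : FLC ((EtCoh.pull g).obj F)) (hsub : (D : Set X) \ C ⊆ Set.range g)
    (hdev : Dev (EZ F C.ι)) : Dev (EZ F D.ι) := by
  obtain ⟨K, hK⟩ : ∃ K : TopologicalSpace.Closeds D.toScheme,
      (K : Set D.toScheme) = (Set.range (X.homOfLE hCD).base)ᶜ :=
    ⟨⟨_, (X.homOfLE hCD).isOpenEmbedding.isOpen_range.isClosed_compl⟩, rfl⟩
  have hz : Set.range (Scheme.IdealSheafData.vanishingIdeal K).subschemeι.base =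
      (Set.range (X.homOfLE hCD).base)ᶜ := by
    rw [Scheme.IdealSheafData.range_subschemeι, Scheme.IdealSheafData.coe_support_vanishingIdeal,
      hK]
  have hrz : Set.range ((Scheme.IdealSheafData.vanishingIdeal K).subschemeι ≫ D.ι) =
      (D : Set X) \ C := by
    rw [range_comp']
    erw [hz]
    exact image_compl_range_homOfLE hCD
  obtain ⟨f, hf⟩ := isStep_of_subset (X.homOfLE hCD) D.ι
    (Scheme.IdealSheafData.vanishingIdeal K).subschemeι g (by rw [hz, compl_compl]) F
    (by rw [hrz]; exact (hD.isConstructible D.isOpen).sdiff (hC.isConstructible C.isOpen))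
    (by rw [hrz]; exact hsub) hg
  exact Dev.step _ _ f hf (dev_congr F _ _ (X.homOfLE_ι hCD).symm hdev)

set_option backward.isDefEq.respectTransparency.types false in
theorem dev_bot (F : EtCoh.Ab X) : Dev (EZ F (⊥ : X.Opens).ι) := by
  apply Dev.zero
  apply Functor.map_isZero
  apply isZero_of_sections
  intro V
  haveI : IsEmpty V.left := ⟨fun v => (V.hom v).2.elim⟩
  exact isZero_obj_of_isEmpty _ V

set_option backward.isDefEq.respectTransparency.types false in
theorem isIso_counit_top (F : EtCoh.Ab X) :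
    IsIso ((EtShriek.extZeroAdj (⊤ : X.Opens).ι).counit.app F) := by
  have hlift : ∀ (Ω : Type u) [Field Ω] [IsSepClosed Ω] (ξ : Spec (CommRingCat.of Ω) ⟶ X),
      ∃ ξ' : Spec (CommRingCat.of Ω) ⟶ (⊤ : X.Opens).toScheme, ξ' ≫ (⊤ : X.Opens).ι = ξ := by
    intro Ω _ _ ξ
    exact ⟨ξ ≫ X.topIso.inv, by rw [Category.assoc, Scheme.toIso_inv_ι, Category.comp_id]⟩
  haveI : Mono ((EtShriek.extZeroAdj (⊤ : X.Opens).ι).counit.app F) := by
    apply mono_of_stalks
    intro Ω _ _ ξ
    obtain ⟨ξ', rfl⟩ := hlift Ω ξ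
    exact (bijective_stalk_counit _ F ξ').1
  haveI : Epi ((EtShriek.extZeroAdj (⊤ : X.Opens).ι).counit.app F) := by
    apply epi_of_stalks
    intro Ω _ _ ξ
    obtain ⟨ξ', rfl⟩ := hlift Ω ξ
    exact (bijective_stalk_counit _ F ξ').2
  exact isIso_of_mono_of_epi _

set_option backward.isDefEq.respectTransparency.types false in
/-- **dévissage**: a constructible abelian sheaf on a quasi-compact quasi-separated scheme has a
finite filtration with graded pieces `j_!(c_* G)`, `G` finite locally constant. -/
theorem dev_of_isConstructible [CompactSpace X] [QuasiSeparatedSpace X] (F : EtCoh.Ab X)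
    (hF : EtPBC.IsConstructible F) : Dev F := by
  obtain ⟨ι, hι, T, g, a1, a2, a3, a4, a5⟩ := strat_univ_of_isConstructible F hF
  have a2' : ∀ i, Topology.IsConstructible (Set.range (g i)) := by
    intro i
    refine (Topology.isConstructible_preimage_iff_of_isOpenEmbedding
      (isOpen_univ (X := X)).isOpenEmbedding_subtypeVal ?_ ?_).mp (a2 i)
    · rw [Subtype.range_coe]
      exact IsRetrocompact.univ
    · rw [Subtype.range_coe]
      exact Set.subset_univ _
  obtain ⟨L, hL1, hL2⟩ := exists_list_of_family (fun i => Set.range (g i)) a2'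
  have hch := chain_of_list L hL1
  have key : ∀ C : X.Opens, Ch (PL L) ⊥ C → IsCompact (C : Set X) ∧ Dev (EZ F C.ι) := by
    intro C hC
    induction hC with
    | refl => exact ⟨by simp, dev_bot F⟩
    | step C D _ hle hcD hP ih =>
      refine ⟨hcD, ?_⟩
      by_cases hne : ∃ x, x ∈ D ∧ x ∉ C
      · obtain ⟨x, hxD, hxC⟩ := hne
        obtain ⟨i, hi⟩ : ∃ i, x ∈ Set.range (g i) := by
          have : x ∈ ⋃ i, Set.range (g i) := by
            rw [a4]
            trivial
          exact Set.mem_iUnion.mp this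
        haveI := a1 i
        refine dev_step F hle ih.1 hcD (g i) (a5 i) ?_ ih.2
        rintro y ⟨hyD, hyC⟩
        exact (hL2 i x y (hP x y hxD hxC hyD hyC)).mp hi
      · have hDC : C = D :=
          le_antisymm hle (fun y hy => by_contra fun h => hne ⟨y, hy, h⟩)
        subst hDC
        exact ih.2
  have htop := (key ⊤ hch).2
  haveI := isIso_counit_top F
  exact Dev.of_iso (asIso ((EtShriek.extZeroAdj (⊤ : X.Opens).ι).counit.app F)) htop

end Groth.Agent.Lib.Helper8EtDevC
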