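import Groth.Agent.Lib.Helper8EtConstrFp
import Groth.Agent.Lib.Helper9EtFpH

/-!
# Effaceability of cohomology in constructible sheaves (helper8)

On a qcqs scheme, for a constructible sheaf `F`, `q > 0` and `α ∈ H^q(X, F)` there is a monomorphism
`F ⟶ G` into a constructible sheaf killing `α`.
-/

set_option autoImplicit false
set_option linter.style.haveILetI false
universe u
open CategoryTheory CategoryTheory.Limits AlgebraicGeometry Opposite Abelian

namespace Groth.Agent.Lib.Helper8EtEfface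

open Groth.Agent.Lib.Helper9.EtMV Groth.Agent.Lib.Helper9.EtFp Groth.Agent.Lib.Helper9.EtFlasque
  Groth.Agent.Lib.Helper8EtLTors Groth.Agent.Lib.Helper8EtTorsion Groth.Agent.Lib.Helper8EtFpZh
  Groth.Agent.Lib.Helper8EtTorsGen Groth.Agent.Lib.Helper8EtConstrColim
  Groth.Agent.Lib.Helper8EtTorsFilt Groth.Agent.Lib.Helper8EtConstrFp

variable {X : Scheme.{u}}

/-- the constant sheaf `ℤ` -/
noncomputable abbrev ZX (X : Scheme.{u}) : EtCoh.Ab X :=
  (constantSheaf X.smallEtaleTopology AddCommGrpCat.{u + 1}).obj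
    (AddCommGrpCat.of (ULift.{u + 1} ℤ))

/-- multiplication by `n` is a monomorphism on the sheafification of a presheaf with `n`-torsion-free
values -/
theorem mono_nsmul_sheafify (P : X.Etaleᵒᵖ ⥤ AddCommGrpCat.{u + 1}) (n : ℕ)
    (hP : ∀ U, Function.Injective (fun x : P.obj U => n • x)) :
    Mono (n • 𝟙 ((presheafToSheaf X.smallEtaleTopology AddCommGrpCat.{u + 1}).obj P)) := by
  have h1 : Mono (n • 𝟙 P) := by
    haveI : ∀ U, Mono ((n • 𝟙 P : P ⟶ P).app U) := by
      intro U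
      rw [AddCommGrpCat.mono_iff_injective]
      intro x y h
      apply hP U
      have e : ∀ z : P.obj U, ((n • 𝟙 P : P ⟶ P).app U) z = n • z := by
        intro z
        rw [NatTrans.app_nsmul, NatTrans.id_app]
        rfl
      rw [e, e] at h
      exact h
    exact NatTrans.mono_of_mono_app _
  have h2 : n • 𝟙 ((presheafToSheaf X.smallEtaleTopology AddCommGrpCat.{u + 1}).obj P) =
      (presheafToSheaf X.smallEtaleTopology AddCommGrpCat.{u + 1}).map (n • 𝟙 P) := by
    rw [Functor.map_nsmul, CategoryTheory.Functor.map_id]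
  rw [h2]
  infer_instance

lemma nsmul_injective_free (T : Type*) (n : ℕ) (hn : n ≠ 0) :
    Function.Injective (fun x : FreeAbelianGroup T => n • x) := by
  intro x y h
  apply (FreeAbelianGroup.equivFinsupp T).injective
  have := congrArg (FreeAbelianGroup.equivFinsupp T) h
  simp only [map_nsmul] at this
  exact nsmul_right_injective hn this

theorem mono_nsmul_Zh (V : X.Etale) (n : ℕ) (hn : 0 < n) : Mono (n • 𝟙 (Zh V)) := by
  apply mono_nsmul_sheafify
  intro U
  exact nsmul_injective_free _ n hn.ne'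

theorem mono_nsmul_ZX (n : ℕ) (hn : 0 < n) : Mono (n • 𝟙 (ZX X)) := by
  apply mono_nsmul_sheafify
  intro U x y h
  apply ULift.ext
  have := congrArg ULift.down h
  exact nsmul_right_injective hn.ne' this

/-- injective sheaves are divisible -/
theorem epi_nsmul_of_injective (I : EtCoh.Ab X) [Injective I] (n : ℕ) (hn : 0 < n) :
    Epi (n • 𝟙 I) := by
  apply Abelian.epi_of_cokernel_π_eq_zero
  apply hom_ext_affine
  intro V hV σ
  haveI := mono_nsmul_Zh V n hn
  obtain ⟨τ, hτ⟩ : ∃ τ : Zh V ⟶ I, (n • 𝟙 (Zh V)) ≫ τ = σ :=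
    ⟨Injective.factorThru σ (n • 𝟙 (Zh V)), Injective.comp_factorThru _ _⟩
  have h1 : σ = τ ≫ (n • 𝟙 I) := by
    rw [← hτ, Preadditive.nsmul_comp, Category.id_comp, Preadditive.comp_nsmul, Category.comp_id]
  rw [h1, Category.assoc, cokernel.condition, comp_zero, comp_zero]

/-- the `n`-torsion of an injective sheaf is acyclic -/
theorem H_tors_injective_eq_zero (I : EtCoh.Ab X) [Injective I] (n : ℕ) (hn : 0 < n) (q : ℕ)
    (x : EtCoh.H X (kernel (n • 𝟙 I)) (q + 1)) : x = 0 := by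
  haveI := epi_nsmul_of_injective I n hn
  obtain ⟨S, hS⟩ : ∃ S : ShortComplex (EtCoh.Ab X),
      S = ShortComplex.mk (kernel.ι (n • 𝟙 I)) (n • 𝟙 I) (kernel.condition _) := ⟨_, rfl⟩
  have hSe : S.ShortExact := by
    rw [hS]
    exact ShortComplex.ShortExact.mk' (ShortComplex.exact_kernel _) inferInstance inferInstance
  have hx₁ : x.comp (Ext.mk₀ (kernel.ι (n • 𝟙 I))) (add_zero (q + 1)) = 0 :=
    Ext.eq_zero_of_injective _
  subst hS
  obtain ⟨x₃, hx₃⟩ := Ext.covariant_sequence_exact₁ (ZX X) hSe x hx₁ (n₀ := q) rfl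
  obtain ⟨y, hy⟩ : ∃ y : Ext (ZX X) I q, y.comp (Ext.mk₀ (n • 𝟙 I)) (add_zero q) = x₃ := by
    rcases q with _ | q
    · obtain ⟨φ, rfl⟩ := (Ext.mk₀_bijective (ZX X) I).2 x₃
      haveI := mono_nsmul_ZX (X := X) n hn
      refine ⟨Ext.mk₀ (Injective.factorThru φ (n • 𝟙 (ZX X))), ?_⟩
      rw [Ext.mk₀_comp_mk₀]
      congr 1
      rw [Preadditive.comp_nsmul, Category.comp_id]
      have := Injective.comp_factorThru φ (n • 𝟙 (ZX X))
      rw [Preadditive.nsmul_comp, Category.id_comp] at this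
      exact this
    · exact ⟨0, by rw [Ext.zero_comp]; exact (Ext.eq_zero_of_injective _).symm⟩
  rw [← hx₃, ← hy, Ext.comp_assoc_of_second_deg_zero, hSe.comp_extClass, Ext.comp_zero]

section Main

variable [CompactSpace X] [QuasiSeparatedSpace X]

/-- **effaceability** -/
theorem exists_mono_kill (F : EtCoh.Ab X) (hF : EtPBC.IsConstructible F) (q : ℕ) (hq : 0 < q)
    (α : EtCoh.H X F q) :
    ∃ (G : EtCoh.Ab X) (u : F ⟶ G), EtPBC.IsConstructible G ∧ Mono u ∧
      (EtCoh.HF X q).map u α = 0 := by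
  obtain ⟨q, rfl⟩ : ∃ q', q = q' + 1 := ⟨q - 1, by omega⟩
  obtain ⟨-, n, hn, hn0⟩ := BC_of_isConstructible F hF
  -- embed into the `n`-torsion of an injective sheaf
  obtain ⟨I, hI, ι, hι⟩ : ∃ (I : EtCoh.Ab X) (_ : Injective I) (ι : F ⟶ I), Mono ι :=
    ⟨Injective.under F, inferInstance, Injective.ι F, inferInstance⟩
  obtain ⟨K, hK⟩ : ∃ K : EtCoh.Ab X, K = kernel (n • 𝟙 I) := ⟨_, rfl⟩
  have hιn : ι ≫ (n • 𝟙 I) = 0 := by
    rw [Preadditive.comp_nsmul, Category.comp_id]
    exact nsmul_eq_zero_of_left ι hn0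
  obtain ⟨v, hv⟩ : ∃ v : F ⟶ kernel (n • 𝟙 I), v ≫ kernel.ι _ = ι :=
    ⟨kernel.lift _ ι hιn, kernel.lift_ι _ _ _⟩
  haveI : Mono v := mono_of_mono_fac hv
  have hKn : n • 𝟙 (kernel (n • 𝟙 I)) = 0 := by
    rw [← cancel_mono (kernel.ι (n • 𝟙 I)), zero_comp, Preadditive.nsmul_comp, Category.id_comp]
    have := kernel.condition (n • 𝟙 I)
    rwa [Preadditive.comp_nsmul, Category.comp_id] at this
  have hKt : EtCoh.IsTorsion (kernel (n • 𝟙 I)) := by
    intro U s x
    refine ⟨U, 𝟙 U, ⟨x, rfl⟩, ?_⟩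
    rw [isOfFinAddOrder_iff_nsmul_eq_zero]
    refine ⟨n, hn, ?_⟩
    have h1 := nsmul_id_app (kernel (n • 𝟙 I)) n U ((kernel (n • 𝟙 I)).obj.map (𝟙 U).op s)
    rw [hKn] at h1
    exact h1.symm
  obtain ⟨J, _, _, D, c, hc, hD, ⟨e⟩⟩ := exists_filtered_colimit_BC (kernel (n • 𝟙 I)) hKt
  haveI := isFinitelyPresentable_of_isConstructible F hF
  obtain ⟨j, p, hp⟩ := IsFinitelyPresentable.exists_hom_of_isColimit hc (v ≫ e.inv)
  -- the class dies in the colimit
  haveI := preservesColimitsOfShape_HF X (q + 1) J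
  have hcH := isColimitOfPreserves (EtCoh.HF X (q + 1)) hc
  have hcT := isColimitOfPreserves (forget AddCommGrpCat.{u + 1}) hcH
  have hzero : (EtCoh.HF X (q + 1)).map (c.ι.app j) ((EtCoh.HF X (q + 1)).map p α) =
      (EtCoh.HF X (q + 1)).map (c.ι.app j) 0 := by
    rw [map_zero]
    have h1 : (EtCoh.HF X (q + 1)).map (c.ι.app j ≫ e.hom)
        ((EtCoh.HF X (q + 1)).map p α) = 0 := H_tors_injective_eq_zero I n hn q _
    have h2 : (EtCoh.HF X (q + 1)).map e.hom ((EtCoh.HF X (q + 1)).map (c.ι.app j)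
        ((EtCoh.HF X (q + 1)).map p α)) = 0 := by
      rw [← h1, Functor.map_comp]
      rfl
    have hinj : Function.Injective ((EtCoh.HF X (q + 1)).map e.hom) :=
      ((AddCommGrpCat.mono_iff_injective _).mp inferInstance)
    exact hinj (h2.trans (map_zero _).symm)
  obtain ⟨k, a, b, hab⟩ := (Types.FilteredColimit.isColimit_eq_iff _ hcT
    (xi := (EtCoh.HF X (q + 1)).map p α) (xj := (0 : (EtCoh.HF X (q + 1)).obj (D.obj j)))).1 hzero
  have hab' : (EtCoh.HF X (q + 1)).map (D.map a) ((EtCoh.HF X (q + 1)).map p α) =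
      (EtCoh.HF X (q + 1)).map (D.map b) 0 := hab
  rw [map_zero] at hab'
  refine ⟨D.obj k, p ≫ D.map a, (hD k).1, ?_, ?_⟩
  · have : (p ≫ D.map a) ≫ (c.ι.app k ≫ e.hom) = v := by
      rw [Category.assoc, ← Category.assoc (D.map a), c.w a, ← Category.assoc, hp,
        Category.assoc, e.inv_hom_id, Category.comp_id]
    exact mono_of_mono_fac this
  · rw [Functor.map_comp]
    exact hab'

end Main

end Groth.Agent.Lib.Helper8EtEfface
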