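import Groth.Agent.Lib.Helper8EtConstrFp

/-!
# A filtered system of constructible sheaves with constructible colimit is essentially constant
-/

universe u

open CategoryTheory CategoryTheory.Limits AlgebraicGeometry Opposite

namespace Groth.Agent.Lib.Helper8EtEssConst

open Groth.Agent.Lib.Helper8EtConstrFp

set_option backward.isDefEq.respectTransparency.types false in
theorem essentially_constant (X : Scheme.{u}) [CompactSpace X] [QuasiSeparatedSpace X]
    {J : Type u} [SmallCategory J] [IsFiltered J] (D : J ⥤ EtCoh.Ab X)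
    (c : Cocone D) (hc : IsColimit c)
    (hD : ∀ j, EtPBC.IsConstructible (D.obj j)) (hF : EtPBC.IsConstructible c.pt) :
    ∃ (i : J) (s : c.pt ⟶ D.obj i), s ≫ c.ι.app i = 𝟙 c.pt ∧
      ∀ j : J, ∃ (k : J) (a : i ⟶ k) (b : j ⟶ k), D.map b = c.ι.app j ≫ s ≫ D.map a := by
  haveI := preservesColimitsOfShape_coyoneda c.pt hF J
  have hc1 := isColimitOfPreserves (coyoneda.obj (op c.pt)) hc
  obtain ⟨i, s, hs⟩ := Types.jointly_surjective_of_isColimit hc1 (𝟙 c.pt)
  have hs' : s ≫ c.ι.app i = 𝟙 c.pt := hs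
  refine ⟨i, s, hs', ?_⟩
  intro j
  haveI := preservesColimitsOfShape_coyoneda (D.obj j) (hD j) J
  have hc2 := isColimitOfPreserves (coyoneda.obj (op (D.obj j))) hc
  have key : ((coyoneda.obj (op (D.obj j))).mapCocone c).ι.app j (𝟙 (D.obj j)) =
      ((coyoneda.obj (op (D.obj j))).mapCocone c).ι.app i (c.ι.app j ≫ s) := by
    change 𝟙 (D.obj j) ≫ c.ι.app j = (c.ι.app j ≫ s) ≫ c.ι.app i
    rw [Category.assoc, hs', Category.id_comp]
    exact (Category.comp_id _).symm
  obtain ⟨k, b, a, h⟩ := (Types.FilteredColimit.isColimit_eq_iff _ hc2).1 key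
  refine ⟨k, a, b, ?_⟩
  have h' : 𝟙 (D.obj j) ≫ D.map b = (c.ι.app j ≫ s) ≫ D.map a := h
  rw [Category.id_comp, Category.assoc] at h'
  exact h'

end Groth.Agent.Lib.Helper8EtEssConst
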