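import Mathlib
import Groth.Prelude.Def_EtBase
import Groth.Agent.Lib.Helper16EtStalk
import Groth.Agent.Lib.Helper8SiteStalkConst

/-!
# Finite locally constant étale sheaves: the value group is determined by any common point
(helper8)
-/

set_option autoImplicit false
open CategoryTheory CategoryTheory.Limits AlgebraicGeometry Opposite
universe u

namespace Groth.Agent.Lib.Helper8EtFLC

open Groth.Agent.Lib.Helper16.EtStalk Groth.Agent.Lib.Helper8SiteStalkConst

/-- the constant sheaf on the over site -/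
noncomputable abbrev constOver {X : Scheme.{u}} (U : X.Etale) (M : Type) [AddCommGroup M] :
    Sheaf (X.smallEtaleTopology.over U) AddCommGrpCat.{u + 1} :=
  (constantSheaf (X.smallEtaleTopology.over U) AddCommGrpCat.{u + 1}).obj
    (AddCommGrpCat.of (ULift.{u + 1} M))

set_option backward.isDefEq.respectTransparency.types false in
/-- if `F` is constant with value `M` over `U` and with value `M'` over `U'`, and `U`, `U'` have
points with the same image in `X`, then `M ≃+ M'`. -/
theorem addEquiv_of_common_point {X : Scheme.{u}} (F : EtCoh.Ab X) (U U' : X.Etale)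
    (M M' : Type) [AddCommGroup M] [AddCommGroup M']
    (e : EtCoh.restr F U ≅ constOver U M) (e' : EtCoh.restr F U' ≅ constOver U' M')
    (p : U.left) (p' : U'.left) (h : U.hom.base p = U'.hom.base p') : Nonempty (M ≃+ M') := by
  obtain ⟨Ω, _, _, ξ, t, ht⟩ := exists_geometric_point U p
  have hξ : ξ (default : Spec (CommRingCat.of Ω)) = U'.hom.base p' := by
    rw [← h, ← ht]
    obtain ⟨tl, htl, hw⟩ : ∃ tl : Spec (CommRingCat.of Ω) ⟶ U.left, tl = t.left ∧ tl ≫ U.hom = ξ :=
      ⟨t.left, rfl, Over.w t⟩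
    rw [← htl, ← hw, Scheme.Hom.comp_apply]
    rfl
  obtain ⟨t', ht'⟩ := Scheme.pointSmallEtaleFiberObjToPreimage_surjective ξ hξ U' ⟨p', rfl⟩
  let Φ := Scheme.pointSmallEtale ξ
  have i1 : AddCommGrpCat.of (ULift.{u + 1} M) ≅ Φ.sheafFiber.obj F :=
    (sheafFiberConstIso (Φ.over t) _).symm ≪≫ ((Φ.over t).sheafFiber.mapIso e).symm ≪≫
      overFiberIso Φ t F
  have i2 : AddCommGrpCat.of (ULift.{u + 1} M') ≅ Φ.sheafFiber.obj F :=
    (sheafFiberConstIso (Φ.over t') _).symm ≪≫ ((Φ.over t').sheafFiber.mapIso e').symm ≪≫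
      overFiberIso Φ t' F
  have i3 := (i1 ≪≫ i2.symm).addCommGroupIsoToAddEquiv
  exact ⟨AddEquiv.ulift.symm.trans (i3.trans AddEquiv.ulift)⟩

end Groth.Agent.Lib.Helper8EtFLC
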