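import Groth.Agent.Lib.Helper8EtSurjConstr
import Groth.Agent.Lib.Helper8ShriekEtaleStalk
import Groth.Agent.Lib.Helper9EtPull
import Groth.Agent.Lib.Helper9JContAll
import Groth.Agent.Lib.Helper8FinBC

/-!
# Direct image of a constructible sheaf along a finite étale morphism is constructible (helper8)

For `f` finite étale, `f_* ≅ f_!` is left adjoint to `f^*`, so `f_*` preserves finitely presentable
(= constructible, for torsion sheaves on qcqs schemes) objects.
-/

set_option autoImplicit false
set_option linter.style.haveILetI false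
universe u
open CategoryTheory CategoryTheory.Limits AlgebraicGeometry Opposite

namespace Groth.Agent.Lib.Helper8EtFinEtPush

open Groth.Agent.Lib.Helper8EtConstrColim Groth.Agent.Lib.Helper8EtTorsFilt
  Groth.Agent.Lib.Helper8EtConstrFp Groth.Agent.Lib.Helper8EtShriekConstr
  Groth.Agent.Lib.Helper8EtSurjConstr

attribute [local instance] Cardinal.fact_isRegular_aleph0

variable {X Y : Scheme.{u}} (f : X ⟶ Y) [IsFinite f] [Etale f]

/-- `f_* ⊣ f^*` for `f` finite étale -/
noncomputable def pushPullAdj : EtCoh.push f ⊣ EtCoh.pull f :=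
  haveI : EtShriek.JCont f := Groth.Agent.Lib.Helper9.JContAll.jCont f
  ((EtShriek.extZeroAdj f).ofNatIsoLeft
    (Groth.Agent.Lib.Helper8ShriekEtaleStalk.extZeroIso f ≪≫
      Groth.Agent.Lib.Helper8ShriekOpen.properIso f)).ofNatIsoRight
    (Groth.Agent.Lib.Helper9.EtPull.rho f).symm

/-- the case of a qcqs base -/
theorem isConstructible_push_qcqs [CompactSpace Y] [QuasiSeparatedSpace Y] (F : EtCoh.Ab X)
    (hF : EtPBC.IsConstructible F) : EtPBC.IsConstructible ((EtCoh.push f).obj F) := by
  haveI : CompactSpace X := QuasiCompact.compactSpace_of_compactSpace f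
  haveI : QuasiSeparatedSpace X := quasiSeparatedSpace_of_quasiSeparated f
  obtain ⟨-, n, hn, hn0⟩ := BC_of_isConstructible F hF
  apply isConstructible_of_compact
  · refine isTorsion_of_nsmul_id_eq_zero _ n hn ?_
    rw [← CategoryTheory.Functor.map_id, ← Functor.map_nsmul, hn0, Functor.map_zero]
  · intro J _ _
    haveI := isFinitelyPresentable_of_isConstructible F hF
    haveI : PreservesColimitsOfSize.{u + 1, u + 1} (EtCoh.pull f) :=
      (EtCoh.pullPushAdj f).leftAdjoint_preservesColimits
    haveI : IsFinitelyPresentable.{u + 1} ((EtCoh.push f).obj F) :=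
      (pushPullAdj f).isCardinalPresentable_leftAdjoint_obj (Cardinal.aleph0.{u + 1}) F
    infer_instance

/-- **Stacks 095Q**: `f_*` preserves constructible sheaves for `f` finite étale -/
theorem isConstructible_push (F : EtCoh.Ab X) (hF : EtPBC.IsConstructible F) :
    EtPBC.IsConstructible ((EtCoh.push f).obj F) := by
  refine Groth.Agent.S0129.result _ (ι := Y.affineOpens) (fun V => V.1)
    (by
      rw [eq_top_iff]
      intro y _
      obtain ⟨_, ⟨V, hV, rfl⟩, hy, -⟩ :=
        (Y.isBasis_affineOpens).exists_subset_of_mem_open (Set.mem_univ y) isOpen_univ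
      exact TopologicalSpace.Opens.mem_iSup.mpr ⟨⟨V, hV⟩, hy⟩) (fun V => ?_)
  haveI : IsAffine (V.1 : Scheme.{u}) := V.2
  have hpb : IsPullback (f ⁻¹ᵁ V.1).ι (f ∣_ V.1) f V.1.ι := (isPullback_morphismRestrict f V.1).flip
  haveI := Groth.Agent.Lib.Helper8FinBC.isIso_baseChange0 hpb F
  have e := asIso (EtCoh.baseChange0 f V.1.ι (f ∣_ V.1) (f ⁻¹ᵁ V.1).ι hpb.w F)
  exact isConstructible_of_iso e.symm
    (isConstructible_push_qcqs (f ∣_ V.1) _ (Groth.Agent.S0127.result _ F hF))

end Groth.Agent.Lib.Helper8EtFinEtPush
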