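import Mathlib
import Groth.Prelude.Def_EtBase
import Groth.Agent.Lib.Helper8EtPropBFinite
import Groth.Agent.Lib.Helper8EtPropBPush
import Groth.Agent.Lib.Helper16BigSmallCoh

/-!
# The direct image of abelian étale sheaves along a finite morphism is exact (helper8)
-/

set_option autoImplicit false
universe u
open CategoryTheory CategoryTheory.Limits AlgebraicGeometry

namespace Groth.Agent.Lib.Helper8EtFinPushExact

variable {X Y : Scheme.{u}} (f : X ⟶ Y) [IsFinite f] [EtCoh.BCCont f]

/-- finite direct images preserve epimorphisms of abelian étale sheaves -/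
theorem preservesEpimorphisms_push : (EtCoh.push f).PreservesEpimorphisms :=
  Groth.Agent.Lib.Helper8EtPropBPush.preservesEpimorphisms_of_propB f
    (Groth.Agent.Lib.Helper8EtPropBFinite.propB f)

/-- finite direct images are exact -/
theorem preservesHomology_push : (EtCoh.push f).PreservesHomology := by
  haveI := preservesEpimorphisms_push f
  haveI : (EtCoh.push f).IsRightAdjoint := (EtCoh.pullPushAdj f).isRightAdjoint
  exact Functor.preservesHomology_of_preservesEpis_and_kernels (EtCoh.push f)

theorem preservesFiniteColimits_push : PreservesFiniteColimits (EtCoh.push f) := by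
  haveI := preservesHomology_push f
  exact Functor.preservesFiniteColimits_of_preservesHomology (EtCoh.push f)

/-- higher direct images along a finite morphism vanish -/
theorem isZero_Rpush (F : EtCoh.Ab X) (q : ℕ) (hq : 1 ≤ q) :
    IsZero ((EtCoh.Rpush f q).obj F) := by
  haveI := preservesHomology_push f
  obtain ⟨n, rfl⟩ : ∃ n, q = n + 1 := ⟨q - 1, by omega⟩
  exact Groth.Agent.Lib.Helper16.BigSmallCoh.isZero_rightDerived_succ_of_preservesHomology
    (EtCoh.push f) F n

end Groth.Agent.Lib.Helper8EtFinPushExact
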