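-- helper8: atlases (for a general property) of 2-fibre products; fibre products of algebraic / DM
-- stacks for the etale topology (S19914, S17273).
import Mathlib
import Groth.Agent.Lib.Helper15Atlas
import Groth.Agent.Lib.Helper15DiagOfComp
import Groth.Agent.Lib.Helper17AlgStEquiv
import Groth.Agent.S10544

set_option autoImplicit false
set_option backward.isDefEq.respectTransparency false
set_option backward.isDefEq.respectTransparency.types false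
open CategoryTheory CategoryTheory.Functor CategoryTheory.Limits Opposite AlgebraicGeometry

universe u

namespace Groth.Agent.Lib.Helper8EtFp

open Groth.Agent.Lib.Helper17 Groth.Agent.Lib.Helper15PshFib Groth.Agent.Lib.Helper15RepComp
  Groth.Agent.Lib.Helper15RepPsh Groth.Agent.Lib.Helper15DiagBase Groth.Agent.Lib.Helper15DiagRepSp
  Groth.Agent.Lib.Helper15Descent Groth.Agent.Lib.Helper15DiagLft
  Groth.Agent.Lib.Helper15DiagDescent Groth.Agent.Lib.Helper15SpMapRep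
  Groth.Agent.Lib.Helper15SrcCancel Groth.Agent.Lib.Helper15ChartSp Groth.Agent.Lib.Helper15Atlas

variable {S : Scheme.{u}}

theorem compCond_isEtaleMor : CompCond (AlgSp.IsEtaleMor (S := S)) :=
  Groth.Agent.S12780.Aux.compCond_of_local _
    (fun _ _ _ _ _ _ a b ha hb U φ hφ => by
      rw [← Category.assoc]
      exact hb _ (ha φ hφ))
    (isLocalOnBase_fppf_of_fpqc _ (Groth.Agent.S10544.result S))

section Atlas

variable {𝒜 𝒲 𝒳 𝒴 𝒵 : AlgSt.Cat S}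

/-- A `Q` surjective functor from a category with a `Q` surjective chart gives a `Q` surjective
chart of the target. -/
theorem hasAtlas_of_cover' (Q : MorphismProperty (AlgSp.Sp S)) (hQ : CompCond Q)
    (h𝒜 : FibCat.IsFibGrpd 𝒜.p)
    (a : 𝒜 ⥤ᵇ 𝒲) (ha₁ : AlgSt.RepByAlgSpWith Q a)
    (ha₂ : AlgSt.RepByAlgSpWith AlgSp.IsSurjectiveMor a)
    (hA : AlgSt.HasAtlas Q 𝒜) : AlgSt.HasAtlas Q 𝒲 := by
  obtain ⟨U, x, hx₁, hx₂⟩ := hA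
  have hU : FibCat.IsFibGrpd (FibCat.overCat U).p := (isFibSet_overForget U).1
  exact ⟨U, BasedFunctor.comp x a,
    repByAlgSpWith_comp_of_compCond hU h𝒜 _ hQ x a hx₁ ha₁,
    repByAlgSpWith_comp_of_compCond hU h𝒜 _ compCond_isSurjectiveMor x a hx₂ ha₂⟩

/-- The source of a functor representable by algebraic spaces to a category with a `Q`-atlas has a
`Q`-atlas. -/
theorem hasAtlas_of_repByAlgSp1 (Q : MorphismProperty (AlgSp.Sp S)) (hQ : CompCond Q)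
    (hQ' : ∀ (X : AlgSp.Space S) (T : Over S) (s : X.obj ⟶ (AlgSp.yon S).obj T),
      AlgSp.RepWith @Etale s → AlgSp.RepWith @Surjective s → Q s)
    (h𝒳 : FibCat.IsFibGrpd 𝒳.p) (h𝒴 : FibCat.IsFibGrpd 𝒴.p) (hat : AlgSt.HasAtlas Q 𝒴)
    (j : 𝒳 ⥤ᵇ 𝒴) (hj : AlgSt.RepByAlgSp1 j) : AlgSt.HasAtlas Q 𝒳 := by
  obtain ⟨V, y, hy₁, hy₂⟩ := hat
  have hV : FibCat.IsFibGrpd (FibCat.overCat V).p := (isFibSet_overForget V).1
  have hA : AlgSt.RepByAlgSp (FibCat.fp y j) := hj V y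
  have hAt : AlgSt.HasAtlas Q (FibCat.fp y j) := hasAtlas_of_repByAlgSp _ hQ' hA
  exact hasAtlas_of_cover' Q hQ (isFibGrpd_fp y j hV h𝒳 h𝒴) (FibCat.fpSnd y j)
    (repByAlgSpWith_fpSnd _ y j hy₁) (repByAlgSpWith_fpSnd _ y j hy₂) hAt

/-- `Q`-atlases of 2-fibre products. -/
theorem hasAtlas_fp (Q : MorphismProperty (AlgSp.Sp S)) (hQ : CompCond Q)
    (hQ' : ∀ (X : AlgSp.Space S) (T : Over S) (s : X.obj ⟶ (AlgSp.yon S).obj T),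
      AlgSp.RepWith @Etale s → AlgSp.RepWith @Surjective s → Q s)
    (h𝒳 : FibCat.IsFibGrpd 𝒳.p) (h𝒴 : FibCat.IsFibGrpd 𝒴.p) (h𝒵 : FibCat.IsFibGrpd 𝒵.p)
    (hΔ : AlgSt.RepByAlgSp1 (FibCat.diag (FibCat.toSelf 𝒵)))
    (hX : AlgSt.HasAtlas Q 𝒳) (hY : AlgSt.HasAtlas Q 𝒴)
    (f : 𝒳 ⥤ᵇ 𝒵) (g : 𝒴 ⥤ᵇ 𝒵) : AlgSt.HasAtlas Q (FibCat.fp f g) := by
  obtain ⟨U, x, hx₁, hx₂⟩ := hX
  have hU : FibCat.IsFibGrpd (FibCat.overCat U).p := (isFibSet_overForget U).1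
  let pr : FibCat.fp f g ⥤ᵇ 𝒳 := FibCat.fpFst f g
  have ha₁ := repByAlgSpWith_fpSnd Q x pr hx₁
  have ha₂ := repByAlgSpWith_fpSnd AlgSp.IsSurjectiveMor x pr hx₂
  have hxf : AlgSt.RepByAlgSp1 (BasedFunctor.comp x f) :=
    repByAlgSp1_of_repByAlgSp1_diag hΔ U (BasedFunctor.comp x f)
  have hsnd : AlgSt.RepByAlgSp1 (FibCat.fpSnd (BasedFunctor.comp x f) g) :=
    Groth.Agent.Lib.Helper17.RepStack.repByAlgSp1_fpSnd (BasedFunctor.comp x f) g hxf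
  have hfB : FibCat.IsFibGrpd (FibCat.fp (BasedFunctor.comp x f) g).p :=
    isFibGrpd_fp _ g hU h𝒴 h𝒵
  have hB : AlgSt.HasAtlas Q (FibCat.fp (BasedFunctor.comp x f) g) :=
    hasAtlas_of_repByAlgSp1 Q hQ hQ' hfB h𝒴 hY _ hsnd
  obtain ⟨e', he', -, -⟩ := IsEquivOver.exists_inverse_isEquivOver' (pasteL g f x)
    (isEquivOver_pasteL g f x)
  have hA : AlgSt.HasAtlas Q (FibCat.fp x pr) := hasAtlas_of_isEquivOver Q e' he' hB
  have hfA : FibCat.IsFibGrpd (FibCat.fp x pr).p :=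
    isFibGrpd_fp x pr hU (isFibGrpd_fp f g h𝒳 h𝒴 h𝒵) h𝒳
  exact hasAtlas_of_cover' Q hQ hfA (FibCat.fpSnd x pr) ha₁ ha₂ hA

/-- Fibre products of algebraic stacks, for any topology. -/
theorem isAlgStack_fp' (K : Precoverage Scheme.{u})
    (h𝒳 : AlgSt.IsAlgStack K 𝒳) (h𝒴 : AlgSt.IsAlgStack K 𝒴) (h𝒵 : AlgSt.IsAlgStack K 𝒵)
    (f : 𝒳 ⥤ᵇ 𝒵) (g : 𝒴 ⥤ᵇ 𝒵) : AlgSt.IsAlgStack K (FibCat.fp f g) :=
  ⟨Groth.Agent.S12792.result _ f g h𝒳.isStack h𝒴.isStack (IsStack.isPrestack _ h𝒵.isStack),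
    Groth.Agent.Lib.Helper15DiagOfComp.repByAlgSp1_diag_toSelf_fp h𝒳.isStack.1 h𝒴.isStack.1
      h𝒵.isStack.1 h𝒳.diag h𝒴.diag h𝒵.diag f g,
    hasAtlas_fp _ compCond_smooth locP_smooth_of_etale_surjective h𝒳.isStack.1 h𝒴.isStack.1
      h𝒵.isStack.1 h𝒵.diag h𝒳.atlas h𝒴.atlas f g⟩

/-- Fibre products of Deligne-Mumford stacks, for any topology. -/
theorem isDM_fp' (K : Precoverage Scheme.{u})
    (h𝒳 : AlgSt.IsDM K 𝒳) (h𝒴 : AlgSt.IsDM K 𝒴) (h𝒵 : AlgSt.IsDM K 𝒵)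
    (f : 𝒳 ⥤ᵇ 𝒵) (g : 𝒴 ⥤ᵇ 𝒵) : AlgSt.IsDM K (FibCat.fp f g) :=
  ⟨isAlgStack_fp' K h𝒳.1 h𝒴.1 h𝒵.1 f g,
    hasAtlas_fp _ compCond_isEtaleMor isEtaleMor_of_etale_surjective h𝒳.1.isStack.1 h𝒴.1.isStack.1
      h𝒵.1.isStack.1 h𝒵.1.diag h𝒳.2 h𝒴.2 f g⟩

end Atlas

end Groth.Agent.Lib.Helper8EtFp
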