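import Groth.Agent.Lib.Helper9EtFpCech
import Groth.Agent.Lib.Helper9EtMV
import Groth.Agent.Lib.Helper9EtFlasque

/-!
# `Zh V` is finitely presentable for `V` qcqs étale over a qcqs scheme (helper8)
-/

set_option autoImplicit false
set_option linter.style.haveILetI false
universe u
open CategoryTheory CategoryTheory.Limits AlgebraicGeometry Opposite

namespace Groth.Agent.Lib.Helper8EtFpZh

open Groth.Agent.Lib.Helper9.EtMV Groth.Agent.Lib.Helper9.EtFp Groth.Agent.Lib.Helper9.EtFlasque
  Groth.Agent.Lib.Helper16.FiltColim

variable {X : Scheme.{u}}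

/-- sections over `V`, as a functor to types -/
noncomputable abbrev secType (V : X.Etale) : EtCoh.Ab X ⥤ Type (u + 1) :=
  (sheafToPresheaf X.smallEtaleTopology AddCommGrpCat.{u + 1} ⋙
    (evaluation X.Etaleᵒᵖ AddCommGrpCat.{u + 1}).obj (op V)) ⋙ forget AddCommGrpCat.{u + 1}

/-- `Hom(Zh V, -)` is the sections functor -/
noncomputable def coyonedaZhIso (V : X.Etale) : coyoneda.obj (op (Zh V)) ≅ secType V :=
  NatIso.ofComponents (fun F => (zhEquiv V F).toIso) (by
    intro F G g
    ext φ
    exact zhEquiv_comp V φ g)

theorem preservesColimitsOfShape_sections [CompactSpace X] [QuasiSeparatedSpace X]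
    (V : X.Etale) (hV : fpProp X V) (I : Type (u + 1)) [SmallCategory I] [IsFiltered I] :
    PreservesColimitsOfShape I
      (sheafToPresheaf X.smallEtaleTopology AddCommGrpCat.{u + 1} ⋙
        (evaluation X.Etaleᵒᵖ AddCommGrpCat.{u + 1}).obj (op V)) := by
  refine ⟨fun {D} => ?_⟩
  exact preservesColimit_of_preserves_colimit_cocone (colimit.isColimit D)
    (isColimitOfGood (good_sections_et X D _ (colimit.isColimit D) V hV))

attribute [local instance] Cardinal.fact_isRegular_aleph0

theorem isFinitelyPresentable_Zh [CompactSpace X] [QuasiSeparatedSpace X]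
    (V : X.Etale) (hV : fpProp X V) : IsFinitelyPresentable.{u + 1} (Zh V) := by
  rw [isFinitelyPresentable_iff_preservesFilteredColimitsOfSize]
  refine ⟨fun I _ _ => ?_⟩
  haveI := preservesColimitsOfShape_sections V hV I
  haveI : PreservesColimitsOfShape I (secType V) := by
    unfold secType
    infer_instance
  exact preservesColimitsOfShape_of_natIso (coyonedaZhIso V).symm

end Groth.Agent.Lib.Helper8EtFpZh
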