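import Groth.Prelude
import Groth.Agent.Lib.Helper8FinEtTrace
import Groth.Agent.Lib.Helper9HofPush
import Groth.Agent.S0071

/-!
# The transfer argument on étale cohomology (helper8)

For a finite étale morphism `π : X' ⟶ X` of constant degree `d`, a class `x ∈ H^n(X, G)` whose
pullback to `X'` vanishes is killed by `d`.
-/

set_option autoImplicit false
universe u
open CategoryTheory CategoryTheory.Limits AlgebraicGeometry Opposite Abelian

namespace Groth.Agent.Lib.Helper8TransferCoh

open Groth.Agent.Lib.Helper9.ExtNat Groth.Agent.Lib.Helper16.ExtCompare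
open Groth.Agent.Lib.Helper9.HofPush

section Ext

variable {C : Type*} [Category C] [Abelian C] [HasExt C]

/-- postcomposition with a degree-zero class, additively in the morphism. -/
noncomputable def postHom {A G G' : C} (n : ℕ) (x : Ext A G n) : (G ⟶ G') →+ Ext A G' n :=
  ((Ext.bilinearComp A G G' n 0 n (add_zero n)) x).comp
    (Ext.addEquiv₀ (X := G) (Y := G')).symm.toAddMonoidHom

theorem postHom_apply {A G G' : C} (n : ℕ) (x : Ext A G n) (φ : G ⟶ G') :
    postHom n x φ = x.comp (Ext.mk₀ φ) (add_zero n) := rfl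

theorem comp_mk₀_nsmul_id {A G : C} (n : ℕ) (x : Ext A G n) (d : ℕ) :
    x.comp (Ext.mk₀ (d • 𝟙 G)) (add_zero n) = d • x := by
  rw [← postHom_apply, map_nsmul, postHom_apply, Ext.comp_mk₀_id]

end Ext

variable {X' X : Scheme.{u}} (π : X' ⟶ X) [IsFinite π] [AlgebraicGeometry.Etale π]
  [PreservesFiniteLimits (EtCoh.pull π)]

/-- `HofPush ∘ H(unit) = Hpull`. -/
theorem HofPush_unit (G : EtCoh.Ab X) (n : ℕ) (x : EtCoh.H X G n) :
    EtLim.HofPush π ((EtCoh.pull π).obj G) n
      (x.comp (Ext.mk₀ ((EtCoh.pullPushAdj π).unit.app G)) (add_zero n)) =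
      EtCore.Hpull π G n x := by
  rw [HofPush_apply, cmp_postcomp, Ext.comp_assoc_of_third_deg_zero, Ext.mk₀_comp_mk₀,
    (EtCoh.pullPushAdj π).left_triangle_components, Ext.comp_mk₀_id]
  rfl

/-- the transfer argument. -/
theorem nsmul_eq_zero_of_Hpull_eq_zero (d : ℕ) (hd : ∀ x : X, π.finrank x = d)
    (G : EtCoh.Ab X) (n : ℕ) (x : EtCoh.H X G n) (hx : EtCore.Hpull π G n x = 0) :
    d • x = 0 := by
  haveI : EtShriek.JCont π := Groth.Agent.Lib.Helper9.JContAll.jCont π
  obtain ⟨adj, hadj⟩ := Groth.Agent.Lib.Helper8FinEtTrace.exists_adj π d hd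
  have hbij := HofPush_bijective π ((EtCoh.pull π).obj G)
    (fun q hq => Groth.Agent.S0071.result π _ q hq) n
  have h2 : x.comp (Ext.mk₀ ((EtCoh.pullPushAdj π).unit.app G)) (add_zero n) = 0 := by
    apply hbij.1
    rw [HofPush_unit, hx, map_zero]
  have h3 : x.comp (Ext.mk₀ ((EtCoh.pullPushAdj π).unit.app G ≫ adj.counit.app G))
      (add_zero n) = 0 := by
    rw [← Ext.mk₀_comp_mk₀, ← Ext.comp_assoc_of_third_deg_zero, h2, Ext.zero_comp]
  rw [hadj, comp_mk₀_nsmul_id] at h3
  exact h3

/-- if the cohomology of `X'` vanishes then the cohomology of `X` is killed by the degree. -/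
theorem nsmul_eq_zero_of_subsingleton (d : ℕ) (hd : ∀ x : X, π.finrank x = d)
    (G : EtCoh.Ab X) (n : ℕ) (h : Subsingleton (EtCoh.H X' ((EtCoh.pull π).obj G) n))
    (x : EtCoh.H X G n) : d • x = 0 :=
  nsmul_eq_zero_of_Hpull_eq_zero π d hd G n x (Subsingleton.elim _ _)

section Field

variable (K L : Type u) [Field K] [Field L] [Algebra K L] [FiniteDimensional K L]
  [Algebra.IsSeparable K L]

theorem etale_of_finite_separable : Algebra.Etale K L := by
  haveI : Algebra.FormallyEtale K L := Algebra.FormallyEtale.of_isSeparable K L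
  haveI : Algebra.FinitePresentation K L :=
    Algebra.FinitePresentation.of_finiteType.mp inferInstance
  exact ⟨inferInstance, inferInstance⟩

instance isFinite_specMap_field : IsFinite (Spec.map (CommRingCat.ofHom (algebraMap K L))) := by
  rw [IsFinite.SpecMap_iff]
  exact RingHom.finite_algebraMap.mpr inferInstance

instance etale_specMap_field :
    AlgebraicGeometry.Etale (Spec.map (CommRingCat.ofHom (algebraMap K L))) := by
  haveI : Algebra.Etale K L := etale_of_finite_separable K L
  rw [HasRingHomProperty.Spec_iff (P := @AlgebraicGeometry.Etale)]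
  exact RingHom.etale_algebraMap.mpr inferInstance

theorem finrank_specMap_field (x : Spec (CommRingCat.of K)) :
    (Spec.map (CommRingCat.ofHom (algebraMap K L))).finrank x = Module.finrank K L := by
  rw [Scheme.Hom.finrank_SpecMap_algebraMap, Module.rankAtStalk_eq_finrank_of_free]
  rfl

/-- a class killed by a finite separable extension `L/K` is killed by `[L : K]`. -/
theorem finrank_nsmul_eq_zero (F : EtCoh.Ab (Spec (CommRingCat.of K))) (i : ℕ)
    (α : EtCoh.H (Spec (CommRingCat.of K)) F i)
    [PreservesFiniteLimits (EtCoh.pull (Spec.map (CommRingCat.ofHom (algebraMap K L))))]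
    (hα : EtCore.Hpull (Spec.map (CommRingCat.ofHom (algebraMap K L))) F i α = 0) :
    Module.finrank K L • α = 0 :=
  nsmul_eq_zero_of_Hpull_eq_zero (Spec.map (CommRingCat.ofHom (algebraMap K L)))
    (Module.finrank K L) (finrank_specMap_field K L) F i α hα

end Field

end Groth.Agent.Lib.Helper8TransferCoh
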