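import Groth.Prelude
import Groth.Agent.Lib.Helper8GalCohTors
import Groth.Agent.Lib.Helper8EtAcycComp

/-!
# `H^i(Spec k, ℤ) ≃ H^{i-1}(Spec k, ℚ/ℤ)` (helper8)
-/

set_option autoImplicit false
universe u
open CategoryTheory CategoryTheory.Limits AlgebraicGeometry Opposite Abelian

namespace Groth.Agent.Lib.Helper8GalCohQZ

section Vanish

variable (k : Type u) [Field k]

/-- uniquely divisible sheaves on `Spec k` have no higher cohomology. -/
theorem subsingleton_of_divisible (F : EtCoh.Ab (Spec (CommRingCat.of k)))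
    (hdiv : ∀ n : ℕ, 0 < n → IsIso (n • 𝟙 F)) (i : ℕ) (hi : 0 < i) :
    Subsingleton (EtCoh.H (Spec (CommRingCat.of k)) F i) := by
  apply subsingleton_of_forall_eq 0
  intro x
  have hx := Groth.Agent.Lib.Helper8GalCohTors.isOfFinAddOrder k F i hi x
  rw [isOfFinAddOrder_iff_nsmul_eq_zero] at hx
  obtain ⟨d, hd, hdx⟩ := hx
  haveI := hdiv d hd
  have hb := Groth.Agent.Lib.Helper8EtAcycComp.bijective_postcomp
    (A := EtCoh.const (Spec (CommRingCat.of k)) ℤ) (asIso (d • 𝟙 F)) i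
  apply hb.1
  change x.comp (Ext.mk₀ (d • 𝟙 F)) (add_zero i) =
    (0 : EtCoh.H (Spec (CommRingCat.of k)) F i).comp (Ext.mk₀ (d • 𝟙 F)) (add_zero i)
  rw [Groth.Agent.Lib.Helper8TransferCoh.comp_mk₀_nsmul_id, hdx, Ext.zero_comp]

end Vanish

section Seq

/-- `ℤ → ℚ` lifted. -/
def fZQ : AddCommGrpCat.of (ULift.{u + 1} ℤ) ⟶ AddCommGrpCat.of (ULift.{u + 1} ℚ) :=
  AddCommGrpCat.ofHom (AddMonoidHom.mk' (fun a => ULift.up (a.down : ℚ)) (by
    intro a b
    apply ULift.ext
    simp))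

/-- `ℚ → ℚ/ℤ` lifted. -/
def gQQZ : AddCommGrpCat.of (ULift.{u + 1} ℚ) ⟶
    AddCommGrpCat.of (ULift.{u + 1} (ℚ ⧸ AddSubgroup.zmultiples (1 : ℚ))) :=
  AddCommGrpCat.ofHom (AddMonoidHom.mk' (fun a => ULift.up (QuotientAddGroup.mk a.down)) (by
    intro a b
    apply ULift.ext
    simp))

/-- the short complex `ℤ → ℚ → ℚ/ℤ`. -/
def sc : ShortComplex AddCommGrpCat.{u + 1} :=
  ShortComplex.mk fZQ.{u} gQQZ.{u} (by
    ext a
    change (QuotientAddGroup.mk ((a.down : ℤ) : ℚ) : ℚ ⧸ AddSubgroup.zmultiples (1 : ℚ)) = 0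
    rw [QuotientAddGroup.eq_zero_iff]
    exact ⟨a.down, by simp⟩)

theorem sc_shortExact : sc.{u}.ShortExact := by
  refine ShortComplex.ShortExact.mk' ?_ ?_ ?_
  · rw [ShortComplex.ab_exact_iff]
    intro x hx
    have h1 : (QuotientAddGroup.mk x.down : ℚ ⧸ AddSubgroup.zmultiples (1 : ℚ)) = 0 :=
      congrArg ULift.down hx
    rw [QuotientAddGroup.eq_zero_iff] at h1
    obtain ⟨n, hn⟩ := h1
    refine ⟨ULift.up n, ?_⟩
    apply ULift.ext
    change ((n : ℤ) : ℚ) = x.down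
    rw [← hn]
    simp
  · rw [AddCommGrpCat.mono_iff_injective]
    intro a b h
    apply ULift.ext
    have h1 : ((a.down : ℤ) : ℚ) = b.down := congrArg ULift.down h
    exact_mod_cast h1
  · rw [AddCommGrpCat.epi_iff_surjective]
    intro y
    obtain ⟨q, hq⟩ := QuotientAddGroup.mk_surjective y.down
    exact ⟨ULift.up q, ULift.ext _ _ hq⟩

end Seq

section Main

variable (X : Scheme.{u})

instance : PreservesFiniteLimits (constantSheaf X.smallEtaleTopology AddCommGrpCat.{u + 1}) := by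
  unfold constantSheaf
  infer_instance

instance : PreservesFiniteColimits (constantSheaf X.smallEtaleTopology AddCommGrpCat.{u + 1}) := by
  haveI := (EtCore.constAdj X).leftAdjoint_preservesColimits
  infer_instance

/-- the short exact sequence of constant sheaves `ℤ → ℚ → ℚ/ℤ`. -/
noncomputable def scX : ShortComplex (EtCoh.Ab X) :=
  sc.{u}.map (constantSheaf X.smallEtaleTopology AddCommGrpCat.{u + 1})

theorem scX_shortExact : (scX X).ShortExact :=
  sc_shortExact.map_of_exact _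

theorem isIso_nsmul_Q (n : ℕ) (hn : 0 < n) :
    IsIso (n • 𝟙 (AddCommGrpCat.of (ULift.{u + 1} ℚ))) := by
  rw [ConcreteCategory.isIso_iff_bijective]
  have h : ∀ a : ULift.{u + 1} ℚ,
      (n • 𝟙 (AddCommGrpCat.of (ULift.{u + 1} ℚ)) : _ ⟶ _) a = n • a := by
    intro a
    induction n with
    | zero => rw [zero_nsmul, zero_nsmul]; rfl
    | succ m ih =>
      rw [succ_nsmul, succ_nsmul]
      have : ((m • 𝟙 (AddCommGrpCat.of (ULift.{u + 1} ℚ)) + 𝟙 _ :
          AddCommGrpCat.of (ULift.{u + 1} ℚ) ⟶ AddCommGrpCat.of (ULift.{u + 1} ℚ)) :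
            ULift.{u + 1} ℚ → ULift.{u + 1} ℚ) a =
          ((m • 𝟙 (AddCommGrpCat.of (ULift.{u + 1} ℚ)) :
            AddCommGrpCat.of (ULift.{u + 1} ℚ) ⟶ AddCommGrpCat.of (ULift.{u + 1} ℚ)) :
              ULift.{u + 1} ℚ → ULift.{u + 1} ℚ) a + a := rfl
      rw [this]
      by_cases hm : 0 < m
      · rw [ih hm]
      · have : m = 0 := by omega
        subst this
        rw [zero_nsmul, zero_nsmul]
        rfl
  constructor
  · intro a b hab
    rw [h, h] at hab
    apply ULift.ext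
    have h2 : n • a.down = n • b.down := congrArg ULift.down hab
    rw [nsmul_eq_mul, nsmul_eq_mul] at h2
    exact mul_left_cancel₀ (by exact_mod_cast hn.ne') h2
  · intro b
    refine ⟨ULift.up (b.down / n), ?_⟩
    rw [h]
    apply ULift.ext
    change n • (b.down / n) = b.down
    rw [nsmul_eq_mul]
    field_simp

theorem isIso_nsmul_constQ (n : ℕ) (hn : 0 < n) : IsIso (n • 𝟙 (EtCoh.const X ℚ)) := by
  have h : n • 𝟙 (EtCoh.const X ℚ) =
      (constantSheaf X.smallEtaleTopology AddCommGrpCat.{u + 1}).map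
        (n • 𝟙 (AddCommGrpCat.of (ULift.{u + 1} ℚ))) := by
    rw [Functor.map_nsmul, CategoryTheory.Functor.map_id]
  rw [h]
  haveI := isIso_nsmul_Q.{u} n hn
  infer_instance

end Main

section Field

variable (k : Type u) [Field k]

theorem nonempty_addEquiv (j : ℕ) :
    Nonempty (EtCoh.H (Spec (CommRingCat.of k)) (EtCoh.const (Spec (CommRingCat.of k)) ℤ) (j + 2) ≃+
      EtCoh.H (Spec (CommRingCat.of k))
        (EtCoh.const (Spec (CommRingCat.of k)) (ℚ ⧸ AddSubgroup.zmultiples (1 : ℚ))) (j + 1)) := by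
  have hS := scX_shortExact (Spec (CommRingCat.of k))
  have hQ : ∀ i, 0 < i → Subsingleton (EtCoh.H (Spec (CommRingCat.of k))
      (EtCoh.const (Spec (CommRingCat.of k)) ℚ) i) := fun i hi =>
    subsingleton_of_divisible k _ (isIso_nsmul_constQ _) i hi
  let δ : EtCoh.H (Spec (CommRingCat.of k))
        (EtCoh.const (Spec (CommRingCat.of k)) (ℚ ⧸ AddSubgroup.zmultiples (1 : ℚ))) (j + 1) →+
      EtCoh.H (Spec (CommRingCat.of k)) (EtCoh.const (Spec (CommRingCat.of k)) ℤ) (j + 2) :=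
    hS.extClass.postcomp (EtCoh.const (Spec (CommRingCat.of k)) ℤ) (rfl : j + 1 + 1 = j + 2)
  have hδ : Function.Bijective δ := by
    constructor
    · rw [injective_iff_map_eq_zero]
      intro x₃ hx₃
      obtain ⟨x₂, hx₂⟩ := Ext.covariant_sequence_exact₃ _ hS x₃ (rfl : j + 1 + 1 = j + 2) hx₃
      haveI : Subsingleton (Ext.{u + 1} (EtCoh.const (Spec (CommRingCat.of k)) ℤ)
          (scX (Spec (CommRingCat.of k))).X₂ (j + 1)) := hQ (j + 1) (Nat.succ_pos j)
      rw [← hx₂, Subsingleton.elim x₂ 0, Ext.zero_comp]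
      rfl
    · intro x₁
      haveI : Subsingleton (Ext.{u + 1} (EtCoh.const (Spec (CommRingCat.of k)) ℤ)
          (scX (Spec (CommRingCat.of k))).X₂ (j + 2)) := hQ (j + 2) (Nat.succ_pos _)
      exact Ext.covariant_sequence_exact₁ _ hS x₁ (Subsingleton.elim _ _)
        (rfl : j + 1 + 1 = j + 2)
  exact ⟨(AddEquiv.ofBijective δ hδ).symm⟩

end Field

end Groth.Agent.Lib.Helper8GalCohQZ
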