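import Groth.Prelude
import Groth.Agent.Lib.Helper8GalCohQZ
import Groth.Agent.Lib.Helper8EtConstMap
import Groth.Agent.Lib.Helper16EtSupp
import Groth.Agent.S0102

/-!
# `H¹(Spec k, M) = 0` for a torsion-free abelian group `M` (helper8)
-/

set_option autoImplicit false
universe u
open CategoryTheory CategoryTheory.Limits AlgebraicGeometry Opposite Abelian

namespace Groth.Agent.Lib.Helper8EtH1Field

open Groth.Agent.Lib.Helper8EtConstMap Groth.Agent.Lib.Helper16.StalkPull
  Groth.Agent.Lib.Helper8EtArrowSpec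

section Ext

variable {Y : Scheme.{u}} {A : Type} [AddCommGroup A]

/-- maps out of a constant sheaf are determined by the images of the constant global sections -/
theorem const_hom_ext {G : EtCoh.Ab Y} (φ ψ : EtCoh.const Y A ⟶ G)
    (h : ∀ a : A, φ.hom.app (op (EtCoh.top Y)) (cst (EtCoh.top Y) a) =
      ψ.hom.app (op (EtCoh.top Y)) (cst (EtCoh.top Y) a)) : φ = ψ := by
  apply ObjectProperty.hom_ext
  refine CategoryTheory.sheafify_hom_ext _ _ _ G.property ?_
  ext V z
  have hnat : ∀ a : A, cst V.unop a =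
      (EtCoh.const Y A).obj.map (toTop V.unop).op (cst (EtCoh.top Y) a) := by
    intro a
    have h1 := (CategoryTheory.toSheafify Y.smallEtaleTopology
      ((Functor.const Y.Etaleᵒᵖ).obj (AddCommGrpCat.of (ULift.{u + 1} A)))).naturality
      (toTop V.unop).op
    exact ConcreteCategory.congr_hom h1 (ULift.up a)
  have key : ∀ (χ : EtCoh.const Y A ⟶ G) (a : A), χ.hom.app V (cst V.unop a) =
      G.obj.map (toTop V.unop).op (χ.hom.app (op (EtCoh.top Y)) (cst (EtCoh.top Y) a)) := by
    intro χ a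
    rw [hnat a]
    exact ConcreteCategory.congr_hom (χ.hom.naturality (toTop V.unop).op) _
  change φ.hom.app V (cst V.unop z.down) = ψ.hom.app V (cst V.unop z.down)
  rw [key φ, key ψ, h]

/-- the constant-sheaf functor on constant sections -/
theorem const_map_cst {B : Type} [AddCommGroup B] (g : A →+ B) (V : Y.Etale) (a : A) :
    ((constantSheaf Y.smallEtaleTopology AddCommGrpCat.{u + 1}).map
      (AddCommGrpCat.ofHom ((AddEquiv.ulift.symm : B ≃+ ULift.{u + 1} B).toAddMonoidHom.comp
        (g.comp (AddEquiv.ulift : ULift.{u + 1} A ≃+ A).toAddMonoidHom)))).hom.app (op V)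
      (cst V a) = cst V (g a) := by
  have h1 := CategoryTheory.toSheafify_naturality Y.smallEtaleTopology
    ((Functor.const Y.Etaleᵒᵖ).map (AddCommGrpCat.ofHom
      ((AddEquiv.ulift.symm : B ≃+ ULift.{u + 1} B).toAddMonoidHom.comp
        (g.comp (AddEquiv.ulift : ULift.{u + 1} A ≃+ A).toAddMonoidHom))))
  have h2 := congrArg (fun k => k.app (op V)) h1
  exact (ConcreteCategory.congr_hom h2 (ULift.up a)).symm

end Ext

section Sections

variable (k : Type u) [Field k] {N : Type} [AddCommGroup N]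

set_option backward.isDefEq.respectTransparency.types false in
/-- global sections of a constant sheaf over the spectrum of a field are constant -/
theorem exists_cst
    (s : (EtCoh.const (Spec (CommRingCat.of k)) N).obj.obj (op (EtCoh.top (Spec (CommRingCat.of k))))) :
    ∃ n : N, s = cst (EtCoh.top (Spec (CommRingCat.of k))) n := by
  let ζ : Spec (CommRingCat.of (SeparableClosure k)) ⟶ Spec (CommRingCat.of k) :=
    Spec.map (CommRingCat.ofHom (algebraMap k (SeparableClosure k)))
  obtain ⟨n, hn⟩ := (const_germ_bij (M := N) ζ (EtCoh.top (Spec (CommRingCat.of k)))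
    (baseLift ζ)).2 (germ ζ (EtCoh.const (Spec (CommRingCat.of k)) N)
      (EtCoh.top (Spec (CommRingCat.of k))) (baseLift ζ) s)
  refine ⟨n, ?_⟩
  have h0 : germ ζ (EtCoh.const (Spec (CommRingCat.of k)) N) (EtCoh.top (Spec (CommRingCat.of k)))
      (baseLift ζ) (s - cst (EtCoh.top (Spec (CommRingCat.of k))) n) = 0 := by
    have := (germ ζ (EtCoh.const (Spec (CommRingCat.of k)) N)
      (EtCoh.top (Spec (CommRingCat.of k))) (baseLift ζ)).hom.map_sub s
        (cst (EtCoh.top (Spec (CommRingCat.of k))) n)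
    refine this.trans ?_
    rw [sub_eq_zero]
    exact hn.symm
  have hp := (Groth.Agent.Lib.Helper16.EtSupp.germ_eq_zero_iff
    (EtCoh.const (Spec (CommRingCat.of k)) N) ζ (EtCoh.top (Spec (CommRingCat.of k)))
    (baseLift ζ) (s - cst (EtCoh.top (Spec (CommRingCat.of k))) n) _ rfl).mp h0
  simp only [EtShriek.sectSupp, Set.mem_ofPred_eq, not_forall, not_not] at hp
  obtain ⟨W, g, ⟨w, hw⟩, hg⟩ := hp
  rw [← sub_eq_zero]
  apply Groth.Agent.S0102.section_eq_zero_of_locally
  intro v
  refine ⟨W, g, w, ?_, hg⟩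
  exact Subsingleton.elim (α := PrimeSpectrum k) _ _

end Sections

section Seq

variable (M : Type) [AddCommGroup M] (d : ℕ)

/-- the quotient `M / dM` -/
abbrev Q : Type := M ⧸ (nsmulAddMonoidHom d : M →+ M).range

/-- `M → M / dM` lifted -/
def gq : AddCommGrpCat.of (ULift.{u + 1} M) ⟶ AddCommGrpCat.of (ULift.{u + 1} (Q M d)) :=
  AddCommGrpCat.ofHom ((AddEquiv.ulift.symm : Q M d ≃+ ULift.{u + 1} (Q M d)).toAddMonoidHom.comp
    ((QuotientAddGroup.mk' (nsmulAddMonoidHom d : M →+ M).range).comp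
      (AddEquiv.ulift : ULift.{u + 1} M ≃+ M).toAddMonoidHom))

lemma nsmul_id_apply (a : ULift.{u + 1} M) :
    (d • 𝟙 (AddCommGrpCat.of (ULift.{u + 1} M)) : _ ⟶ _) a = d • a := by
  induction d with
  | zero => rw [zero_nsmul, zero_nsmul]; rfl
  | succ m ih =>
    rw [succ_nsmul, succ_nsmul, ← ih]
    rfl

/-- the short complex `M → M → M / dM` -/
def sc : ShortComplex AddCommGrpCat.{u + 1} :=
  ShortComplex.mk (d • 𝟙 (AddCommGrpCat.of (ULift.{u + 1} M))) (gq.{u} M d) (by
    apply ConcreteCategory.hom_ext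
    intro a
    change (gq.{u} M d) ((d • 𝟙 (AddCommGrpCat.of (ULift.{u + 1} M)) : _ ⟶ _) a) = 0
    rw [nsmul_id_apply]
    apply ULift.ext
    change (QuotientAddGroup.mk (d • a).down : Q M d) = 0
    rw [QuotientAddGroup.eq_zero_iff]
    exact ⟨a.down, rfl⟩)

theorem sc_shortExact [IsAddTorsionFree M] (hd : 0 < d) : (sc.{u} M d).ShortExact := by
  refine ShortComplex.ShortExact.mk' ?_ ?_ ?_
  · rw [ShortComplex.ab_exact_iff]
    intro x hx
    have h1 : (QuotientAddGroup.mk x.down : Q M d) = 0 := congrArg ULift.down hx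
    rw [QuotientAddGroup.eq_zero_iff] at h1
    obtain ⟨m, hm⟩ := h1
    refine ⟨ULift.up m, ?_⟩
    change (d • 𝟙 (AddCommGrpCat.of (ULift.{u + 1} M)) : _ ⟶ _) (ULift.up m) = x
    rw [nsmul_id_apply]
    apply ULift.ext
    exact hm
  · rw [AddCommGrpCat.mono_iff_injective]
    intro a b h
    change (d • 𝟙 (AddCommGrpCat.of (ULift.{u + 1} M)) : _ ⟶ _) a =
      (d • 𝟙 (AddCommGrpCat.of (ULift.{u + 1} M)) : _ ⟶ _) b at h
    rw [nsmul_id_apply, nsmul_id_apply] at h
    apply ULift.ext
    have h1 : d • a.down = d • b.down := congrArg ULift.down h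
    exact nsmul_right_injective hd.ne' h1
  · rw [AddCommGrpCat.epi_iff_surjective]
    intro y
    obtain ⟨q, hq⟩ := QuotientAddGroup.mk_surjective y.down
    exact ⟨ULift.up q, ULift.ext _ _ hq⟩

end Seq

section Main

open Groth.Agent.Lib.Helper8GalCohQZ

variable (k : Type u) [Field k]

set_option backward.isDefEq.respectTransparency.types false in
/-- `H¹(Spec k, M) = 0` for torsion-free `M`. -/
theorem subsingleton_H1_const (M : Type) [AddCommGroup M] [IsAddTorsionFree M] :
    Subsingleton (EtCoh.H (Spec (CommRingCat.of k)) (EtCoh.const (Spec (CommRingCat.of k)) M) 1) := by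
  apply subsingleton_of_forall_eq 0
  intro x
  have hx := Groth.Agent.Lib.Helper8GalCohTors.isOfFinAddOrder k
    (EtCoh.const (Spec (CommRingCat.of k)) M) 1 Nat.one_pos x
  rw [isOfFinAddOrder_iff_nsmul_eq_zero] at hx
  obtain ⟨d, hd, hdx⟩ := hx
  let T : ShortComplex (EtCoh.Ab (Spec (CommRingCat.of k))) :=
    (sc.{u} M d).map (constantSheaf (Spec (CommRingCat.of k)).smallEtaleTopology AddCommGrpCat.{u + 1})
  have hT : T.ShortExact := (sc_shortExact.{u} M d hd).map_of_exact _
  have hf : T.f = d • 𝟙 T.X₁ := by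
    change (constantSheaf (Spec (CommRingCat.of k)).smallEtaleTopology AddCommGrpCat.{u + 1}).map
      (d • 𝟙 (AddCommGrpCat.of (ULift.{u + 1} M))) = _
    rw [Functor.map_nsmul, CategoryTheory.Functor.map_id]
    rfl
  change Ext.{u + 1} (EtCoh.const (Spec (CommRingCat.of k)) ℤ) T.X₁ 1 at x
  have h1 : x.comp (Ext.mk₀ T.f) (add_zero 1) = 0 := by
    have h3 := Groth.Agent.Lib.Helper8TransferCoh.comp_mk₀_nsmul_id 1 x d
    exact (congrArg (fun φ : T.X₁ ⟶ T.X₂ => x.comp (Ext.mk₀ φ) (add_zero 1)) hf).trans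
      (h3.trans hdx)
  obtain ⟨β, hβ⟩ := Ext.covariant_sequence_exact₁ _ hT x h1 (zero_add 1)
  obtain ⟨b, rfl⟩ := (Ext.mk₀_bijective _ _).2 β
  change EtCoh.const (Spec (CommRingCat.of k)) ℤ ⟶ EtCoh.const (Spec (CommRingCat.of k)) (Q M d) at b
  obtain ⟨nbar, hn⟩ := exists_cst k (b.hom.app (op (EtCoh.top (Spec (CommRingCat.of k))))
    (cst (EtCoh.top (Spec (CommRingCat.of k))) (1 : ℤ)))
  obtain ⟨m, rfl⟩ := QuotientAddGroup.mk_surjective nbar
  let γ : ℤ →+ (EtCoh.const (Spec (CommRingCat.of k)) M).obj.obj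
      (op (EtCoh.top (Spec (CommRingCat.of k)))) :=
    zmultiplesHom _ (cst (EtCoh.top (Spec (CommRingCat.of k))) m)
  let a : EtCoh.const (Spec (CommRingCat.of k)) ℤ ⟶ T.X₂ :=
    constMap (EtCoh.const (Spec (CommRingCat.of k)) M) γ
  have hab : a ≫ T.g = b := by
    apply const_hom_ext
    intro z
    have htop : toTop (EtCoh.top (Spec (CommRingCat.of k))) = 𝟙 _ :=
      (EtCore.topIsTerminal _).hom_ext _ _
    have ha : a.hom.app (op (EtCoh.top (Spec (CommRingCat.of k))))
        (cst (EtCoh.top (Spec (CommRingCat.of k))) z) =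
        z • cst (EtCoh.top (Spec (CommRingCat.of k))) m := by
      have h5 := constMap_cst (EtCoh.const (Spec (CommRingCat.of k)) M) γ
        (EtCoh.top (Spec (CommRingCat.of k))) z
      rw [htop, op_id, CategoryTheory.Functor.map_id] at h5
      exact h5
    refine (congrArg (fun t => T.g.hom.app (op (EtCoh.top (Spec (CommRingCat.of k)))) t) ha).trans ?_
    refine (map_zsmul (T.g.hom.app (op (EtCoh.top (Spec (CommRingCat.of k))))).hom z
      (cst (EtCoh.top (Spec (CommRingCat.of k))) m)).trans ?_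
    have hg := const_map_cst (Y := Spec (CommRingCat.of k))
      (QuotientAddGroup.mk' (nsmulAddMonoidHom d : M →+ M).range)
      (EtCoh.top (Spec (CommRingCat.of k))) m
    have hg' : T.g.hom.app (op (EtCoh.top (Spec (CommRingCat.of k))))
        (cst (EtCoh.top (Spec (CommRingCat.of k))) m) =
        cst (EtCoh.top (Spec (CommRingCat.of k))) (QuotientAddGroup.mk m : Q M d) := hg
    have hz : cst (EtCoh.top (Spec (CommRingCat.of k))) z =
        z • cst (EtCoh.top (Spec (CommRingCat.of k))) (1 : ℤ) := by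
      rw [← map_zsmul, smul_eq_mul, mul_one]
    rw [hz]
    refine Eq.trans ?_ (map_zsmul (b.hom.app (op (EtCoh.top (Spec (CommRingCat.of k))))).hom z
      (cst (EtCoh.top (Spec (CommRingCat.of k))) (1 : ℤ))).symm
    exact congrArg (z • ·) (hg'.trans hn.symm)
  have e2 : (Ext.mk₀ T.g).comp hT.extClass (zero_add 1) = 0 := hT.comp_extClass
  have e3 : (Ext.mk₀ (a ≫ T.g)).comp hT.extClass (zero_add 1) =
      (Ext.mk₀ a).comp ((Ext.mk₀ T.g).comp hT.extClass (zero_add 1)) (zero_add 1) := by
    rw [← Ext.mk₀_comp_mk₀, Ext.comp_assoc_of_second_deg_zero]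
  rw [← hβ, ← hab]
  refine e3.trans ?_
  exact (congrArg (fun e => (Ext.mk₀ a).comp e (zero_add 1)) e2).trans (Ext.comp_zero _ _ _ _ _)

end Main

end Groth.Agent.Lib.Helper8EtH1Field
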