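import Groth.Prelude
import Groth.Agent.S0101

/-!
# `H¹(Y, f_* G) = 0` when `H¹(X, G) = 0` (helper8)

The injectivity of the edge map `H¹(Y, f_* G) → H¹(X, G)` of the Leray spectral sequence, in
the form needed: vanishing of the target forces vanishing of the source.
-/

set_option autoImplicit false
universe u
open CategoryTheory CategoryTheory.Limits AlgebraicGeometry Opposite Abelian

namespace Groth.Agent.Lib.Helper8EtH1Push

variable {X Y : Scheme.{u}} (f : X ⟶ Y)

instance : PreservesFiniteLimits (EtCoh.pull f) := Groth.Agent.S0101.result f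

instance : (EtCoh.push f).PreservesInjectiveObjects :=
  Functor.preservesInjectiveObjects_of_adjunction_of_preservesMonomorphisms (EtCoh.pullPushAdj f)

instance : PreservesLimitsOfSize.{0, 0} (EtCoh.push f) :=
  (EtCoh.pullPushAdj f).rightAdjoint_preservesLimits

/-- if `H¹(X, G) = 0` then `H¹(Y, f_* G) = 0`. -/
theorem subsingleton_H1_push (G : EtCoh.Ab X) (h : Subsingleton (EtCoh.H X G 1)) :
    Subsingleton (EtCoh.H Y ((EtCoh.push f).obj G) 1) := by
  let P := EtCoh.push f
  let adj := EtCoh.pullPushAdj f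
  let ι : G ⟶ Injective.under G := Injective.ι G
  let S : ShortComplex (EtCoh.Ab X) := ShortComplex.mk ι (cokernel.π ι) (cokernel.condition ι)
  have hS : S.ShortExact := { exact := ShortComplex.exact_cokernel ι }
  have hz : P.map ι ≫ P.map (cokernel.π ι) = 0 := by
    rw [← P.map_comp, cokernel.condition, P.map_zero]
  haveI : Mono (P.map ι) := inferInstance
  let S' : ShortComplex (EtCoh.Ab Y) :=
    ShortComplex.mk (P.map ι) (cokernel.π (P.map ι)) (cokernel.condition _)
  have hS' : S'.ShortExact := { exact := ShortComplex.exact_cokernel (P.map ι) }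
  let m : cokernel (P.map ι) ⟶ P.obj (cokernel ι) :=
    cokernel.desc (P.map ι) (P.map (cokernel.π ι)) hz
  have hexact : (S.map P).Exact :=
    hS.exact.map_of_mono_of_preservesKernel P hS.mono_f inferInstance
  haveI : Mono m := hexact.mono_cokernelDesc
  haveI : Injective (P.obj (Injective.under G)) := P.injective_obj _
  apply subsingleton_of_forall_eq 0
  intro ξ
  change Ext.{u + 1} (EtCoh.const Y ℤ) (P.obj G) 1 at ξ
  have h1 : ξ.comp (Ext.mk₀ S'.f) (add_zero 1) = 0 := Ext.eq_zero_of_injective _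
  obtain ⟨β, hβ⟩ := Ext.covariant_sequence_exact₁ _ hS' ξ h1 (zero_add 1)
  obtain ⟨b, rfl⟩ := (Ext.mk₀_bijective _ _).2 β
  -- transport to `X`
  let b' : (EtCoh.pull f).obj (EtCoh.const Y ℤ) ⟶ cokernel ι := (adj.homEquiv _ _).symm (b ≫ m)
  let c : EtCoh.const X ℤ ⟶ cokernel ι := (EtCore.pullConst f ℤ).inv ≫ b'
  have h2 : (Ext.mk₀ c).comp hS.extClass (zero_add 1) = 0 := by
    haveI : Subsingleton (Ext.{u + 1} (EtCoh.const X ℤ) S.X₁ 1) := h
    exact Subsingleton.elim _ _
  obtain ⟨x₂, hx₂⟩ := Ext.covariant_sequence_exact₃ _ hS (Ext.mk₀ c) (zero_add 1) h2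
  obtain ⟨d, rfl⟩ := (Ext.mk₀_bijective _ _).2 x₂
  rw [Ext.mk₀_comp_mk₀] at hx₂
  have hd : d ≫ cokernel.π ι = c := (Ext.mk₀_bijective _ _).1 hx₂
  let d' : EtCoh.const Y ℤ ⟶ P.obj (Injective.under G) :=
    adj.homEquiv _ _ ((EtCore.pullConst f ℤ).hom ≫ d)
  have hd' : d' ≫ cokernel.π (P.map ι) = b := by
    rw [← cancel_mono m, Category.assoc, cokernel.π_desc]
    change adj.homEquiv _ _ ((EtCore.pullConst f ℤ).hom ≫ d) ≫ P.map (cokernel.π ι) = b ≫ m
    rw [← Adjunction.homEquiv_naturality_right, Category.assoc, hd]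
    change adj.homEquiv _ _ ((EtCore.pullConst f ℤ).hom ≫ (EtCore.pullConst f ℤ).inv ≫ b') = _
    rw [Iso.hom_inv_id_assoc]
    exact (adj.homEquiv _ _).apply_symm_apply _
  rw [← hβ, ← hd']
  change ((Ext.mk₀ (d' ≫ S'.g)).comp hS'.extClass (zero_add 1)) = 0
  rw [← Ext.mk₀_comp_mk₀, Ext.comp_assoc_of_second_deg_zero, hS'.comp_extClass, Ext.comp_zero]

end Groth.Agent.Lib.Helper8EtH1Push
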