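import Groth.Agent.Lib.Helper8EtUnitConstGen

/-!
# The unit `M → g_* g^* M` for a morphism with image the generic point of a normal integral
scheme (helper8)

Generalization of `Helper8EtUnitConstGen` to any `g : T ⟶ X` with `Set.range g = {η}` which is
universally injective against étale maps (e.g. `X.fromSpecResidueField η`).
-/

set_option autoImplicit false
universe u
open CategoryTheory CategoryTheory.Limits AlgebraicGeometry Opposite

namespace Groth.Agent.Lib.Helper8EtUnitConstGen2

open Groth.Agent.Lib.Helper8EtLocConst Groth.Agent.Lib.Helper8EtLcPull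
open Groth.Agent.Lib.Helper8LocConstDense Groth.Agent.Lib.Helper8EtLocIrr

theorem bijective_comap_fst_of_range {X P T' : Scheme.{u}} [IsIntegral X]
    (hN : Pi1.IsNormalScheme X) (T : Type*) (f : P ⟶ X) [Etale f] (g : T' ⟶ X)
    (hg : Set.range g = {genericPoint X}) (hinj : Function.Injective (pullback.fst f g)) :
    Function.Bijective (LocallyConstant.comap (pullback.fst f g).base.hom :
      LocallyConstant P T → LocallyConstant _ T) := by
  have hrange : Set.range (pullback.fst f g) = f ⁻¹' {genericPoint X} := by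
    rw [Scheme.Pullback.range_fst, hg]
  -- points over the generic point in nonempty opens
  have hex : ∀ O : Set P, IsOpen O → O.Nonempty → ∃ p ∈ O, f p = genericPoint X := by
    intro O hO hOne
    have h1 : IsOpen (f '' O) := f.isOpenMap O hO
    have h2 : genericPoint X ∈ f '' O :=
      ((genericPoint_spec X).mem_open_set_iff h1).2 (by
        rw [Set.univ_inter]
        exact hOne.image f)
    obtain ⟨p, hp, hpx⟩ := h2
    exact ⟨p, hp, hpx⟩
  haveI := locallyQuasiFinite_of_etale f
  have hdisc := Scheme.Hom.isDiscrete_preimage_singleton f (genericPoint X)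
  rw [isDiscrete_iff_forall_mem_exists_isOpen] at hdisc
  apply comap_bijective_of_denseRange'
  · rw [DenseRange, dense_iff_inter_open]
    intro O hO hOne
    obtain ⟨p, hp, hpx⟩ := hex O hO hOne
    refine ⟨p, hp, ?_⟩
    change p ∈ Set.range (pullback.fst f g)
    rw [hrange]
    exact hpx
  · intro p
    obtain ⟨O, hO, hpO, hirr⟩ := exists_irreducible_open_nhd hN f p
    refine ⟨O, hO, hpO, Set.Subsingleton.isPreconnected ?_⟩
    intro w hw w' hw'
    apply hinj
    have hq : ∀ v, pullback.fst f g v ∈ f ⁻¹' {genericPoint X} := by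
      intro v
      rw [← hrange]
      exact ⟨v, rfl⟩
    obtain ⟨N, hN1, hN2⟩ := hdisc _ (hq w)
    obtain ⟨N', hN1', hN2'⟩ := hdisc _ (hq w')
    have hwN : pullback.fst f g w ∈ N := by
      have : pullback.fst f g w ∈ N ∩ f ⁻¹' {genericPoint X} := by rw [hN2]; rfl
      exact this.1
    have hwN' : pullback.fst f g w' ∈ N' := by
      have : pullback.fst f g w' ∈ N' ∩ f ⁻¹' {genericPoint X} := by rw [hN2']; rfl
      exact this.1
    obtain ⟨q, hqO, hqN, hqN'⟩ := hirr N N' hN1 hN1' ⟨_, hw, hwN⟩ ⟨_, hw', hwN'⟩
    obtain ⟨r, hr, hrx⟩ := hex (O ∩ (N ∩ N')) (hO.inter (hN1.inter hN1')) ⟨q, hqO, hqN, hqN'⟩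
    have e1 : r ∈ N ∩ f ⁻¹' {genericPoint X} := ⟨hr.2.1, hrx⟩
    have e2 : r ∈ N' ∩ f ⁻¹' {genericPoint X} := ⟨hr.2.2, hrx⟩
    rw [hN2] at e1
    rw [hN2'] at e2
    exact e1.symm.trans e2

set_option backward.isDefEq.respectTransparency.types false in
/-- the unit `A → g_* g^* A` is an isomorphism for any preimmersion `g` with image the generic
point of a normal integral scheme -/
theorem isIso_unit_const_of_range {X T' : Scheme.{u}} [IsIntegral X] (hN : Pi1.IsNormalScheme X)
    (g : T' ⟶ X) [IsPreimmersion g] (hg : Set.range g = {genericPoint X})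
    (A : AddCommGrpCat.{u + 1}) :
    IsIso ((EtCoh.pullPushAdj g).unit.app
      ((constantSheaf X.smallEtaleTopology AddCommGrpCat.{u + 1}).obj A)) := by
  apply Groth.Agent.Lib.Helper8EtUnitConstGen.isIso_unit_of_bijective
  intro P
  haveI : Etale P.hom := P.prop
  exact bijective_comap_fst_of_range hN A P.hom g hg
    (pullback.fst P.hom g).isEmbedding.injective

/-- the residue field version -/
theorem isIso_unit_const_residueField {X : Scheme.{u}} [IsIntegral X]
    (hN : Pi1.IsNormalScheme X) (A : AddCommGrpCat.{u + 1}) :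
    IsIso ((EtCoh.pullPushAdj (X.fromSpecResidueField (genericPoint X))).unit.app
      ((constantSheaf X.smallEtaleTopology AddCommGrpCat.{u + 1}).obj A)) :=
  isIso_unit_const_of_range hN _ (Scheme.range_fromSpecResidueField _) A

end Groth.Agent.Lib.Helper8EtUnitConstGen2
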