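import Groth.Agent.Lib.Helper8EtGUIrr
import Groth.Agent.Lib.Helper8EtUnitConstGen2
import Groth.Agent.Lib.Helper8EtH1Push
import Groth.Agent.Lib.Helper8EtH1Field
import Groth.Agent.Lib.Helper8EtAcycComp

/-!
# `H¹(X, M) = 0` for `X` irreducible geometrically unibranch and `M` torsion-free (helper8)
-/

set_option autoImplicit false
universe u
open CategoryTheory CategoryTheory.Limits AlgebraicGeometry Opposite

namespace Groth.Agent.Lib.Helper8EtGUH1

open Groth.Agent.Lib.Helper8EtLocConst Groth.Agent.Lib.Helper8EtLcPull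
open Groth.Agent.Lib.Helper8LocConstDense Groth.Agent.Lib.Helper8EtLocIrr

theorem bijective_comap_fst_of_range {X P T' : Scheme.{u}} [IrreducibleSpace X]
    (T : Type*) (f : P ⟶ X) [Etale f]
    (hloc : ∀ p : P, ∃ O : Set P, IsOpen O ∧ p ∈ O ∧ IsPreirreducible O) (g : T' ⟶ X)
    (hg : Set.range g = {genericPoint X}) (hinj : Function.Injective (pullback.fst f g)) :
    Function.Bijective (LocallyConstant.comap (pullback.fst f g).base.hom :
      LocallyConstant P T → LocallyConstant _ T) := by
  have hrange : Set.range (pullback.fst f g) = f ⁻¹' {genericPoint X} := by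
    rw [Scheme.Pullback.range_fst, hg]
  -- points over the generic point in nonempty opens
  have hex : ∀ O : Set P, IsOpen O → O.Nonempty → ∃ p ∈ O, f p = genericPoint X := by
    intro O hO hOne
    have h1 : IsOpen (f '' O) := f.isOpenMap O hO
    have h2 : genericPoint X ∈ f '' O :=
      ((genericPoint_spec X).mem_open_set_iff h1).2 (by
        rw [Set.univ_inter]
        exact hOne.image f)
    obtain ⟨p, hp, hpx⟩ := h2
    exact ⟨p, hp, hpx⟩
  haveI := locallyQuasiFinite_of_etale f
  have hdisc := Scheme.Hom.isDiscrete_preimage_singleton f (genericPoint X)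
  rw [isDiscrete_iff_forall_mem_exists_isOpen] at hdisc
  apply comap_bijective_of_denseRange'
  · rw [DenseRange, dense_iff_inter_open]
    intro O hO hOne
    obtain ⟨p, hp, hpx⟩ := hex O hO hOne
    refine ⟨p, hp, ?_⟩
    change p ∈ Set.range (pullback.fst f g)
    rw [hrange]
    exact hpx
  · intro p
    obtain ⟨O, hO, hpO, hirr⟩ := hloc p
    refine ⟨O, hO, hpO, Set.Subsingleton.isPreconnected ?_⟩
    intro w hw w' hw'
    apply hinj
    have hq : ∀ v, pullback.fst f g v ∈ f ⁻¹' {genericPoint X} := by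
      intro v
      rw [← hrange]
      exact ⟨v, rfl⟩
    obtain ⟨N, hN1, hN2⟩ := hdisc _ (hq w)
    obtain ⟨N', hN1', hN2'⟩ := hdisc _ (hq w')
    have hwN : pullback.fst f g w ∈ N := by
      have : pullback.fst f g w ∈ N ∩ f ⁻¹' {genericPoint X} := by rw [hN2]; rfl
      exact this.1
    have hwN' : pullback.fst f g w' ∈ N' := by
      have : pullback.fst f g w' ∈ N' ∩ f ⁻¹' {genericPoint X} := by rw [hN2']; rfl
      exact this.1
    obtain ⟨q, hqO, hqN, hqN'⟩ := hirr N N' hN1 hN1' ⟨_, hw, hwN⟩ ⟨_, hw', hwN'⟩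
    obtain ⟨r, hr, hrx⟩ := hex (O ∩ (N ∩ N')) (hO.inter (hN1.inter hN1')) ⟨q, hqO, hqN, hqN'⟩
    have e1 : r ∈ N ∩ f ⁻¹' {genericPoint X} := ⟨hr.2.1, hrx⟩
    have e2 : r ∈ N' ∩ f ⁻¹' {genericPoint X} := ⟨hr.2.2, hrx⟩
    rw [hN2] at e1
    rw [hN2'] at e2
    exact e1.symm.trans e2

set_option backward.isDefEq.respectTransparency.types false in
/-- the unit `A → g_* g^* A` is an isomorphism for any preimmersion `g` with image the generic
point of an irreducible geometrically unibranch scheme -/
theorem isIso_unit_const_of_range {X T' : Scheme.{u}} [IrreducibleSpace X]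
    (hX : ∀ x : X, CAlg2.IsGeomUnibranch (X.presheaf.stalk x))
    (g : T' ⟶ X) [IsPreimmersion g] (hg : Set.range g = {genericPoint X})
    (A : AddCommGrpCat.{u + 1}) :
    IsIso ((EtCoh.pullPushAdj g).unit.app
      ((constantSheaf X.smallEtaleTopology AddCommGrpCat.{u + 1}).obj A)) := by
  apply Groth.Agent.Lib.Helper8EtUnitConstGen.isIso_unit_of_bijective
  intro P
  haveI : Etale P.hom := P.prop
  exact bijective_comap_fst_of_range (X := X) A P.hom
    (fun p => Groth.Agent.Lib.Helper8EtGUIrr.exists_irreducible_open_nhd hX P.hom p) g hg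
    (pullback.fst P.hom g).isEmbedding.injective

/-- the residue field version -/
theorem isIso_unit_const_residueField {X : Scheme.{u}} [IrreducibleSpace X]
    (hX : ∀ x : X, CAlg2.IsGeomUnibranch (X.presheaf.stalk x)) (A : AddCommGrpCat.{u + 1}) :
    IsIso ((EtCoh.pullPushAdj (X.fromSpecResidueField (genericPoint X))).unit.app
      ((constantSheaf X.smallEtaleTopology AddCommGrpCat.{u + 1}).obj A)) :=
  isIso_unit_const_of_range hX _ (Scheme.range_fromSpecResidueField _) A

/-- `H¹(X, M) = 0` for `X` irreducible and geometrically unibranch, `M` torsion-free -/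
theorem subsingleton_H1_const {X : Scheme.{u}} [IrreducibleSpace X]
    (hX : ∀ x : X, CAlg2.IsGeomUnibranch (X.presheaf.stalk x))
    (M : Type) [AddCommGroup M] [IsAddTorsionFree M] :
    Subsingleton (EtCoh.H X (EtCoh.const X M) 1) := by
  let g := X.fromSpecResidueField (genericPoint X)
  haveI := isIso_unit_const_residueField hX (AddCommGrpCat.of (ULift.{u + 1} M))
  let i1 : EtCoh.const X M ≅ (EtCoh.push g).obj ((EtCoh.pull g).obj (EtCoh.const X M)) :=
    asIso ((EtCoh.pullPushAdj g).unit.app (EtCoh.const X M))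
  let i2 : (EtCoh.push g).obj ((EtCoh.pull g).obj (EtCoh.const X M)) ≅
      (EtCoh.push g).obj (EtCoh.const _ M) := (EtCoh.push g).mapIso (EtCore.pullConst g M)
  have h0 : Subsingleton (EtCoh.H X ((EtCoh.push g).obj (EtCoh.const _ M)) 1) :=
    Groth.Agent.Lib.Helper8EtH1Push.subsingleton_H1_push g _
      (Groth.Agent.Lib.Helper8EtH1Field.subsingleton_H1_const (X.residueField (genericPoint X)) M)
  have hb := Groth.Agent.Lib.Helper8EtAcycComp.bijective_postcomp
    (A := EtCoh.const X ℤ) (i1 ≪≫ i2) 1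
  exact hb.1.subsingleton

end Groth.Agent.Lib.Helper8EtGUH1
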