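import Groth.Agent.Lib.H5bBranchMain
import Groth.Agent.Lib.Helper8EtLocIrr

/-!
# Schemes étale over an irreducible geometrically unibranch scheme are locally irreducible
(helper8)
-/

set_option autoImplicit false
universe u
open CategoryTheory CategoryTheory.Limits AlgebraicGeometry

namespace Groth.Agent.Lib.Helper8EtGUIrr

open Groth.Agent.Lib.Helper8EtLocIrr

/-- a local ring one (equivalently all) of whose strict henselizations has irreducible spectrum
is geometrically unibranch -/
theorem isGeomUnibranch_of_irreducible (A : Type u) [CommRing A] [IsLocalRing A]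
    (h : ∀ (R : Type u) [CommRing R] [IsLocalRing R] [Algebra A R]
      [IsLocalHom (algebraMap A R)] [Hensel.IsStrictHenselization A R],
      IrreducibleSpace (PrimeSpectrum R)) : CAlg2.IsGeomUnibranch A := by
  obtain ⟨S, _, _, _, _, hS⟩ := Groth.Agent.Lib.Helper3.Branch.exists_isStrictHenselization A
  rw [← Groth.Agent.S9236.result, ← Groth.Agent.S9238.result A S]
  have hirr : IrreducibleSpace (PrimeSpectrum S) := h S
  have hp : (nilradical S).IsPrime := PrimeSpectrum.irreducibleSpace_iff_isPrime_nilradical.mp hirr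
  have hmin : minimalPrimes S = {nilradical S} := by
    change (⊥ : Ideal S).minimalPrimes = _
    rw [← Ideal.radical_minimalPrimes]
    haveI : (⊥ : Ideal S).radical.IsPrime := hp
    exact Ideal.minimalPrimes_eq_subsingleton_self
  rw [hmin]
  simp

/-- in a space with finitely many irreducible components in which every point lies on a unique
component, the irreducible components are open and closed -/
theorem isClopen_irreducibleComponent' {T : Type*} [TopologicalSpace T]
    (huniq : ∀ (t : T) (Z Z' : Set T), Z ∈ irreducibleComponents T → Z' ∈ irreducibleComponents T →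
      t ∈ Z → t ∈ Z' → Z = Z')
    (hfin : (irreducibleComponents T).Finite) (t₀ : T) : IsClopen (irreducibleComponent t₀) := by
  set Z₀ := irreducibleComponent t₀ with hZ₀
  have hZ₀mem : Z₀ ∈ irreducibleComponents T := irreducibleComponent_mem_irreducibleComponents t₀
  have hcompl : Z₀ᶜ = ⋃ Z ∈ (irreducibleComponents T \ {Z₀}), Z := by
    ext t
    simp only [Set.mem_compl_iff, Set.mem_iUnion, Set.mem_sdiff, Set.mem_singleton_iff,
      exists_prop]
    constructor
    · intro ht
      refine ⟨irreducibleComponent t, ⟨irreducibleComponent_mem_irreducibleComponents t, ?_⟩,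
        mem_irreducibleComponent⟩
      intro h
      apply ht
      rw [← h]
      exact mem_irreducibleComponent
    · rintro ⟨Z, ⟨hZ, hne⟩, htZ⟩ ht
      exact hne (huniq t Z Z₀ hZ hZ₀mem htZ ht)
  have hclosed : IsClosed (Z₀ᶜ) := by
    rw [hcompl]
    exact (hfin.subset Set.sdiff_subset).isClosed_biUnion
      (fun Z hZ => isClosed_of_mem_irreducibleComponents Z hZ.1)
  exact ⟨isClosed_irreducibleComponent, isClosed_compl_iff.mp hclosed⟩

/-- every point of a scheme étale over an irreducible geometrically unibranch scheme has an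
irreducible open neighbourhood -/
theorem exists_irreducible_open_nhd {T X : Scheme.{u}} [IrreducibleSpace X]
    (hX : ∀ x : X, CAlg2.IsGeomUnibranch (X.presheaf.stalk x)) (f : T ⟶ X) [Etale f] (t : T) :
    ∃ O : Set T, IsOpen O ∧ t ∈ O ∧ IsPreirreducible O := by
  obtain ⟨_, ⟨V, hV, rfl⟩, htV, -⟩ := X.isBasis_affineOpens.exists_subset_of_mem_open
    (Set.mem_univ (f t)) isOpen_univ
  obtain ⟨_, ⟨N', hN, rfl⟩, htN, hNV⟩ := T.isBasis_affineOpens.exists_subset_of_mem_open
    (show t ∈ (f ⁻¹ᵁ V : Set T) from htV) (f ⁻¹ᵁ V).isOpen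
  obtain ⟨N, rfl⟩ : ∃ N : T.Opens, N = N' := ⟨N', rfl⟩
  haveI : Nonempty V := ⟨⟨f t, htV⟩⟩
  haveI : IrreducibleSpace (V : Scheme.{u}) :=
    (Scheme.Opens.ι (U := V)).isOpenEmbedding.irreducibleSpace
  haveI : IsAffine (V : Scheme.{u}) := hV
  haveI : IsAffine (N : Scheme.{u}) := hN
  have hle : N ≤ f ⁻¹ᵁ V := hNV
  haveI : Etale (f.resLE V N hle) := inferInstance
  haveI := locallyQuasiFinite_of_etale (f.resLE V N hle)
  have hfin : (irreducibleComponents (N : Scheme.{u})).Finite :=
    finite_irreducibleComponents_of_qf_flat (f.resLE V N hle)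
  haveI : Etale (N.ι ≫ f) := inferInstance
  obtain ⟨n, hn⟩ : ∃ n : (N : Scheme.{u}), N.ι n = t := by
    have : t ∈ Set.range N.ι := by rw [Scheme.Opens.range_ι]; exact htN
    exact this
  have huniq : ∀ (m : (N : Scheme.{u})) (Z Z' : Set (N : Scheme.{u})),
      Z ∈ irreducibleComponents (N : Scheme.{u}) → Z' ∈ irreducibleComponents (N : Scheme.{u}) →
      m ∈ Z → m ∈ Z' → Z = Z' := by
    intro m Z Z' hZ hZ' hmZ hmZ'
    have h1 := (Groth.Agent.Lib.H5bBranchMain.isGeomUnibranch_iff X ((N.ι ≫ f) m)).mp
      (hX _) (N : Scheme.{u}) (N.ι ≫ f) m inferInstance rfl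
    obtain ⟨W, hW⟩ := Set.encard_eq_one.mp h1
    have e1 : Z ∈ ({W} : Set (Set (N : Scheme.{u}))) := by rw [← hW]; exact ⟨hZ, hmZ⟩
    have e2 : Z' ∈ ({W} : Set (Set (N : Scheme.{u}))) := by rw [← hW]; exact ⟨hZ', hmZ'⟩
    exact e1.trans e2.symm
  have hclopen := isClopen_irreducibleComponent' huniq hfin n
  refine ⟨N.ι '' irreducibleComponent n, N.ι.isOpenEmbedding.isOpenMap _ hclopen.2,
    ⟨n, mem_irreducibleComponent, hn⟩, ?_⟩
  exact (isIrreducible_irreducibleComponent.image _ N.ι.continuous.continuousOn).2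

end Groth.Agent.Lib.Helper8EtGUIrr
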