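import Mathlib
import Groth.Prelude.Def_EtBase
import Groth.Prelude.Def_EtCore
import Groth.Agent.Lib.Helper16SmallEtale

/-!
# Galois coverings in the small étale site and invariants (helper8)
-/

set_option autoImplicit false
universe u
open CategoryTheory CategoryTheory.Limits AlgebraicGeometry Opposite

namespace Groth.Agent.Lib.Helper8EtGalois

open Groth.Agent.Lib.Helper16.SmallEtale

variable {X : Scheme.{u}}

set_option backward.isDefEq.respectTransparency.types false in
/-- joint surjectivity of the injections of a colimit cofan in `X.Etale` -/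
theorem exists_inj_eq {G : Type u} {Y P : X.Etale} (j : G → (Y ⟶ P))
    (hc : IsColimit (Cofan.mk P j)) (p : P.left) : ∃ (g : G) (y : Y.left), (j g).left y = p := by
  let Yl : G → Scheme.{u} := fun _ => Y.left
  haveI : Etale (Sigma.desc (fun _ : G => Y.hom) : ∐ Yl ⟶ X) :=
    IsZariskiLocalAtSource.sigmaDesc (fun _ => inferInstance)
  let Z : X.Etale := Scheme.Etale.mk (Sigma.desc (fun _ : G => Y.hom) : ∐ Yl ⟶ X)
  let jz : ∀ g, Y ⟶ Z := fun g => MorphismProperty.Over.homMk (Sigma.ι Yl g)
    (Sigma.ι_desc (fun _ : G => Y.hom) g)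
  let d : P ⟶ Z := Cofan.IsColimit.desc hc jz
  have hd : ∀ g, j g ≫ d = jz g := fun g => Cofan.IsColimit.fac hc jz g
  let e : Z ⟶ P := MorphismProperty.Over.homMk (Sigma.desc (fun g => (j g).left)) (by
    apply Sigma.hom_ext
    intro g
    have h1 : Sigma.ι Yl g ≫ (Sigma.desc (fun g => (j g).left) : ∐ Yl ⟶ P.left) ≫ P.hom = Y.hom := by
      rw [Sigma.ι_desc_assoc]
      exact MorphismProperty.Over.w (j g)
    exact h1.trans (Sigma.ι_desc (fun _ : G => Y.hom) g).symm)
  have hde : d ≫ e = 𝟙 P := by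
    apply Cofan.IsColimit.hom_ext hc
    intro g
    change j g ≫ d ≫ e = j g ≫ 𝟙 P
    rw [← Category.assoc, hd, Category.comp_id]
    apply MorphismProperty.Over.Hom.ext
    exact Sigma.ι_desc (fun g => (j g).left) g
  have hp : e.left (d.left p) = p := by
    have h1 := congrArg (fun m : P ⟶ P => m.left p) hde
    exact h1
  obtain ⟨g, y, hy⟩ := (sigmaOpenCover Yl).exists_eq (d.left p)
  refine ⟨g, y, ?_⟩
  have h2 : (Sigma.ι Yl g ≫ e.left) y = (j g).left y := by
    have h3 : Sigma.ι Yl g ≫ e.left = (j g).left := Sigma.ι_desc (fun g => (j g).left) g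
    rw [h3]
  rw [← h2, ← hp, ← hy]
  rfl

set_option backward.isDefEq.respectTransparency.types false in
/-- an invariant section has the same pullback along any two maps to `Y` -/
theorem map_eq_of_invariant {G : Type u} [Group G] (Y : X.Etale) (σ : G →* Aut Y)
    (hc : IsColimit (Cofan.mk (Y ⨯ Y) (fun g : G => prod.lift (𝟙 Y) (σ g).hom)))
    (F : EtCoh.Ab X) (s : EtCoh.sect F Y) (hs : ∀ g : G, F.obj.map (σ g).hom.op s = s)
    (Z : X.Etale) (ga gb : Z ⟶ Y) : F.obj.map ga.op s = F.obj.map gb.op s := by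
  let Gt : X.Etaleᵒᵖ ⥤ Type (u + 1) := F.obj ⋙ forget AddCommGrpCat.{u + 1}
  have hG : Presieve.IsSheaf X.smallEtaleTopology Gt :=
    (isSheaf_iff_isSheaf_of_type _ _).1
      ((Presheaf.isSheaf_iff_isSheaf_forget X.smallEtaleTopology F.obj
        (forget AddCommGrpCat.{u + 1})).1 F.property)
  let ι : G → (Y ⟶ Y ⨯ Y) := fun g => prod.lift (𝟙 Y) (σ g).hom
  let W : G → X.Etale := fun g => pullback (ι g) (prod.lift ga gb)
  let k : ∀ g, W g ⟶ Z := fun g => pullback.snd _ _
  have hR : Sieve.ofArrows W k ∈ X.smallEtaleTopology Z := by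
    rw [mem_smallEtale_iff]
    intro z
    obtain ⟨g, y, hy⟩ := exists_inj_eq ι hc ((prod.lift ga gb).left z)
    have hpb : IsPullback (pullback.fst (ι g) (prod.lift ga gb)).left (k g).left (ι g).left
        (prod.lift ga gb).left :=
      (IsPullback.of_hasPullback (ι g) (prod.lift ga gb)).map (Scheme.Etale.forget X ⋙ Over.forget X)
    obtain ⟨w, hw1, hw2⟩ := Scheme.exists_preimage_of_isPullback hpb y z hy
    exact ⟨W g, k g, w, Sieve.ofArrows_mk _ _ g, hw2⟩
  refine (hG _ hR).isSeparatedFor.ext ?_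
  intro W' f hf
  obtain ⟨g, a, rfl⟩ := (Sieve.mem_ofArrows_iff W k f).1 hf
  have hcond := pullback.condition (f := ι g) (g := prod.lift ga gb)
  have e1 : pullback.fst (ι g) (prod.lift ga gb) = k g ≫ ga := by
    have h1 := congrArg (· ≫ prod.fst) hcond
    change (pullback.fst (ι g) (prod.lift ga gb) ≫ prod.lift (𝟙 Y) (σ g).hom) ≫ prod.fst =
      (k g ≫ prod.lift ga gb) ≫ prod.fst at h1
    rw [Category.assoc, Category.assoc, prod.lift_fst, prod.lift_fst, Category.comp_id] at h1
    exact h1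
  have e2 : pullback.fst (ι g) (prod.lift ga gb) ≫ (σ g).hom = k g ≫ gb := by
    have h1 := congrArg (· ≫ prod.snd) hcond
    change (pullback.fst (ι g) (prod.lift ga gb) ≫ prod.lift (𝟙 Y) (σ g).hom) ≫ prod.snd =
      (k g ≫ prod.lift ga gb) ≫ prod.snd at h1
    rw [Category.assoc, Category.assoc, prod.lift_snd, prod.lift_snd] at h1
    exact h1
  have key : ∀ {W' Z' : X.Etale} (ff : W' ⟶ Z') (gg : Z' ⟶ Y),
      Gt.map ff.op (F.obj.map gg.op s) = F.obj.map (ff ≫ gg).op s := by
    intro W' Z' ff gg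
    change F.obj.map ff.op (F.obj.map gg.op s) = _
    rw [← ConcreteCategory.comp_apply, ← Functor.map_comp, ← op_comp]
  refine (key _ _).trans (Eq.trans ?_ (key _ _).symm)
  rw [Category.assoc, Category.assoc, ← e1, ← e2, ← Category.assoc]
  have h3 := key (a ≫ pullback.fst (ι g) (prod.lift ga gb)) (σ g).hom
  rw [hs] at h3
  exact h3

set_option backward.isDefEq.respectTransparency.types false in
theorem galois_sections (Y : X.Etale) (hY : Function.Surjective Y.hom.base)
    {G : Type u} [Group G] (σ : G →* Aut Y)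
    (hgal : Nonempty (IsColimit (Cofan.mk (Y ⨯ Y) (fun g : G => prod.lift (𝟙 Y) (σ g).hom))))
    (F : EtCoh.Ab X) :
    Function.Injective (F.obj.map ((EtCore.topIsTerminal X).from Y).op) ∧
      Set.range (F.obj.map ((EtCore.topIsTerminal X).from Y).op) =
        {s : EtCoh.sect F Y | ∀ g : G, F.obj.map (σ g).hom.op s = s} := by
  obtain ⟨hc⟩ := hgal
  let Gt : X.Etaleᵒᵖ ⥤ Type (u + 1) := F.obj ⋙ forget AddCommGrpCat.{u + 1}
  have hG : Presieve.IsSheaf X.smallEtaleTopology Gt :=
    (isSheaf_iff_isSheaf_of_type _ _).1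
      ((Presheaf.isSheaf_iff_isSheaf_forget X.smallEtaleTopology F.obj
        (forget AddCommGrpCat.{u + 1})).1 F.property)
  let t : Y ⟶ EtCoh.top X := (EtCore.topIsTerminal X).from Y
  have hleft : t.left = Y.hom := (Category.comp_id _).symm.trans (MorphismProperty.Over.w t)
  have hS : Sieve.ofArrows (fun _ : Unit => Y) (fun _ => t) ∈ X.smallEtaleTopology (EtCoh.top X) := by
    rw [mem_smallEtale_iff]
    intro x
    obtain ⟨y, hy⟩ := hY x
    refine ⟨Y, t, y, Sieve.ofArrows_mk _ _ (), ?_⟩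
    rw [hleft]
    exact hy
  have h1 : Presieve.IsSheafFor Gt (Presieve.ofArrows (fun _ : Unit => Y) (fun _ => t)) :=
    (Presieve.isSheafFor_iff_generate _).mpr (hG _ hS)
  rw [Presieve.isSheafFor_arrows_iff] at h1
  have hinj : Function.Injective (F.obj.map t.op) := by
    intro a a' haa
    have hcompat : Presieve.Arrows.Compatible Gt (fun _ : Unit => t) (fun _ => F.obj.map t.op a) := by
      intro i j Z ga gb hgab
      have h2 : ga ≫ t = gb ≫ t := (EtCore.topIsTerminal X).hom_ext _ _
      change F.obj.map ga.op (F.obj.map t.op a) = F.obj.map gb.op (F.obj.map t.op a)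
      rw [← ConcreteCategory.comp_apply, ← Functor.map_comp, ← op_comp, h2, op_comp, Functor.map_comp,
        ConcreteCategory.comp_apply]
    obtain ⟨b, hb, hbu⟩ := h1 _ hcompat
    rw [hbu a (fun _ => rfl), hbu a' (fun _ => haa.symm)]
  refine ⟨hinj, ?_⟩
  ext s
  constructor
  · rintro ⟨a, rfl⟩ g
    have h2 : (σ g).hom ≫ t = t := (EtCore.topIsTerminal X).hom_ext _ _
    change F.obj.map (σ g).hom.op (F.obj.map t.op a) = F.obj.map t.op a
    rw [← ConcreteCategory.comp_apply, ← Functor.map_comp, ← op_comp, h2]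
  · intro hs
    have hcompat : Presieve.Arrows.Compatible Gt (fun _ : Unit => t) (fun _ => s) := by
      intro i j Z ga gb _
      exact map_eq_of_invariant Y σ hc F s hs Z ga gb
    obtain ⟨a, ha, -⟩ := h1 _ hcompat
    exact ⟨a, ha ()⟩

end Groth.Agent.Lib.Helper8EtGalois
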