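import Mathlib
import Groth.Prelude.Def_EtBase
import Groth.Prelude.Def_EtMod2
import Groth.Agent.Lib.Helper16SmallEtale

/-!
# Subsheaves of constant sheaves squeezed between constant sheaves (helper8)

Abstract statement on a site with a point `Φ` such that every object is either covered by the
empty sieve or has a `Φ`-fibre element: if `const M' ⟶ G ⟶ const M` composes to `const i`,
the second map is sectionwise injective and the first is surjective on the fibre at `Φ`, then
the first map is locally surjective.  Application: irreducible schemes and geometric generic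
points.
-/

set_option autoImplicit false
open CategoryTheory CategoryTheory.Limits AlgebraicGeometry Opposite

namespace Groth.Agent.Lib.Helper8EtGenConst

section abstract

universe w w' v₀ u₀ v₁ u₁

variable {C : Type u₀} [Category.{v₀} C] {J : GrothendieckTopology C}
  (Φ : GrothendieckTopology.Point.{w} J)
  {A : Type u₁} [Category.{v₁} A] [HasColimitsOfSize.{w, w} A]
  {FC : A → A → Type*} {CC : A → Type w'} [∀ X Y : A, FunLike (FC X Y) (CC X) (CC Y)]
  [ConcreteCategory.{w'} A FC]
  [PreservesFilteredColimitsOfSize.{w, w} (forget A)] [LocallySmall.{w} C]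
  [HasWeakSheafify J A] [J.WEqualsLocallyBijective A]

theorem isLocallySurjective_of_const
    (hΦ : ∀ V : C, (⊥ : Sieve V) ∈ J V ∨ Nonempty (Φ.fiber.obj V))
    {M' M : A} (i : M' ⟶ M) (G : Sheaf J A)
    (a : (constantSheaf J A).obj M' ⟶ G) (b : G ⟶ (constantSheaf J A).obj M)
    (hb : ∀ U, Function.Injective (b.hom.app U))
    (hab : a ≫ b = (constantSheaf J A).map i)
    (hst : Function.Surjective (Φ.sheafFiber.map a)) :
    Sheaf.IsLocallySurjective a := by
  constructor
  intro U t
  let P' : Cᵒᵖ ⥤ A := (Functor.const _).obj M'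
  let P : Cᵒᵖ ⥤ A := (Functor.const _).obj M
  have hS₁ := Presheaf.imageSieve_mem J (toSheafify J P) (U := op U) (b.hom.app (op U) t)
  refine J.transitive hS₁ _ ?_
  rintro V₁ f ⟨c, hc⟩
  rcases hΦ V₁ with hbot | ⟨⟨x⟩⟩
  · exact J.superset_covering bot_le hbot
  · suffices h : (Presheaf.imageSieve a.hom t) f by
      rw [Sieve.pullback_eq_top_of_mem _ h]; exact J.top_mem _
    obtain ⟨tV, htV⟩ : ∃ tV, tV = G.obj.map f.op t := ⟨_, rfl⟩
    obtain ⟨σ, hσ⟩ := hst (Φ.toPresheafFiber V₁ x G.obj tV)
    obtain ⟨W, w, s, rfl⟩ := Φ.toPresheafFiber_jointly_surjective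
      (P := ((constantSheaf J A).obj M').obj) σ
    have n1 : Φ.sheafFiber.map a (Φ.toPresheafFiber W w ((constantSheaf J A).obj M').obj s) =
        Φ.toPresheafFiber W w G.obj (a.hom.app (op W) s) :=
      Φ.toPresheafFiber_naturality_apply a.hom W w s
    let m : Φ.fiber.Elements := IsCofiltered.min (⟨W, w⟩ : Φ.fiber.Elements) ⟨V₁, x⟩
    let gW : m ⟶ ⟨W, w⟩ := IsCofiltered.minToLeft _ _
    let gV : m ⟶ ⟨V₁, x⟩ := IsCofiltered.minToRight _ _
    have hgW : Φ.fiber.map gW.1 m.2 = w := gW.2
    have hgV : Φ.fiber.map gV.1 m.2 = x := gV.2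
    have e1 : Φ.toPresheafFiber m.1 m.2 G.obj (G.obj.map gV.1.op tV) =
        Φ.toPresheafFiber m.1 m.2 G.obj (G.obj.map gW.1.op (a.hom.app (op W) s)) := by
      rw [Φ.toPresheafFiber_w_apply, Φ.toPresheafFiber_w_apply, hgV, hgW, ← hσ, n1]
    obtain ⟨W', g, w', hw', hg⟩ := (Φ.toPresheafFiber_eq_iff' m.1 m.2 _ _).mp e1
    let F' := ((constantSheaf J A).obj M').obj
    let F := ((constantSheaf J A).obj M).obj
    let s' : ToType (F'.obj (op W')) := F'.map (g ≫ gW.1).op s
    obtain ⟨W'', h, ⟨c', hc'⟩, w'', hw''⟩ := Φ.jointly_surjective _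
      (Presheaf.imageSieve_mem J (toSheafify J P') (U := op W') s') w'
    let k : W'' ⟶ V₁ := h ≫ g ≫ gV.1
    let k' : W'' ⟶ W := h ≫ g ≫ gW.1
    -- E1
    have E1 : G.obj.map k.op tV = a.hom.app (op W'') ((toSheafify J P').app (op W'') c') := by
      have h1 : G.obj.map k.op tV = G.obj.map h.op (G.obj.map g.op (G.obj.map gV.1.op tV)) := by
        simp only [k, op_comp, Functor.map_comp, ConcreteCategory.comp_apply]
      have h2 : G.obj.map h.op (G.obj.map g.op (G.obj.map gW.1.op (a.hom.app (op W) s))) =
          G.obj.map k'.op (a.hom.app (op W) s) := by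
        simp only [k', op_comp, Functor.map_comp, ConcreteCategory.comp_apply]
      have h3 : (toSheafify J P').app (op W'') c' = F'.map k'.op s := by
        rw [hc']
        change F'.map h.op (F'.map (g ≫ gW.1).op s) = F'.map (h ≫ g ≫ gW.1).op s
        simp only [op_comp, Functor.map_comp, ConcreteCategory.comp_apply]
      rw [h1, hg, h2, h3]
      exact (NatTrans.naturality_apply a.hom k'.op s).symm
    -- E2
    have E2 : b.hom.app (op W'') (G.obj.map k.op tV) = (toSheafify J P).app (op W'') c := by
      rw [NatTrans.naturality_apply b.hom k.op tV, htV, NatTrans.naturality_apply b.hom f.op t]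
      change F.map k.op ((sheafify J P).map f.op (b.hom.app (op U) t)) = _
      rw [← hc]
      refine (NatTrans.naturality_apply (toSheafify J P) k.op c).symm.trans ?_
      congr 1
      change (ConcreteCategory.hom (𝟙 M)) c = c
      simp
    -- E3
    have E3 : ∀ (Y : C) (d : ToType (P'.obj (op Y))),
        b.hom.app (op Y) (a.hom.app (op Y) ((toSheafify J P').app (op Y) d)) =
        (toSheafify J P).app (op Y) (i d) := by
      intro Y d
      have h1 : a.hom ≫ b.hom = sheafifyMap J ((Functor.const Cᵒᵖ).map i) :=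
        congrArg (fun m => m.hom) hab
      have h2 := toSheafify_naturality J ((Functor.const Cᵒᵖ).map i)
      have h3 := congrArg (fun m => (m.app (op Y)) d) h2
      simp only [NatTrans.comp_app, ConcreteCategory.comp_apply] at h3
      rw [← ConcreteCategory.comp_apply, ← NatTrans.comp_app, h1]
      exact h3.symm
    have E4 : (toSheafify J P).app (op W'') c = (toSheafify J P).app (op W'') (i c') := by
      rw [← E2, E1, E3]
    obtain ⟨W₃, h₃, hh₃, w₃, -⟩ := Φ.jointly_surjective _
      (Presheaf.equalizerSieve_mem J (toSheafify J P) (X := op W'') c (i c') E4) w''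
    have hci : c = i c' := by
      have : (ConcreteCategory.hom (𝟙 M)) c = (ConcreteCategory.hom (𝟙 M)) (i c') := hh₃
      simpa using this
    refine ⟨(toSheafify J P').app (op V₁) c', ?_⟩
    apply hb
    rw [E3 V₁ c', NatTrans.naturality_apply b.hom f.op t, ← hci]
    exact hc

end abstract

section scheme

universe u

open Groth.Agent.Lib.Helper16.SmallEtale

variable {X : Scheme.{u}} [IrreducibleSpace ↥X] {Ω : Type u} [Field Ω] [IsSepClosed Ω]
  (ξ : Spec (CommRingCat.of Ω) ⟶ X) (hξ : ξ.base default = genericPoint ↥X)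

include hξ in
set_option backward.isDefEq.respectTransparency.types false in
/-- on an irreducible scheme, every etale `X`-scheme is either empty or receives a lift of a
geometric point over the generic point. -/
lemma fiber_dichotomy (V : X.Etale) :
    (⊥ : Sieve V) ∈ X.smallEtaleTopology V ∨
      Nonempty ((Scheme.pointSmallEtale ξ).fiber.obj V) := by
  by_cases hV : IsEmpty V.left
  · left
    rw [mem_smallEtale_iff]
    intro p
    exact (hV.false p).elim
  · right
    rw [not_isEmpty_iff] at hV
    obtain ⟨v₀⟩ := hV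
    have hopen : IsOpen (Set.range V.hom) := V.hom.isOpenMap.isOpen_range
    have hmem : genericPoint ↥X ∈ Set.range V.hom := by
      rw [(genericPoint_spec ↥X).mem_open_set_iff hopen]
      exact ⟨V.hom v₀, trivial, v₀, rfl⟩
    obtain ⟨v, hv⟩ := hmem
    obtain ⟨t, -⟩ := Scheme.pointSmallEtaleFiberObjToPreimage_surjective ξ hξ V ⟨v, hv⟩
    exact ⟨t⟩

end scheme

section apps

universe u

variable {X : Scheme.{u}} [IrreducibleSpace ↥X] {Ω : Type u} [Field Ω] [IsSepClosed Ω]
  (ξ : Spec (CommRingCat.of Ω) ⟶ X) (hξ : ξ.base default = genericPoint ↥X)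

instance pfcAb : PreservesFilteredColimitsOfSize.{u, u} (forget AddCommGrpCat.{u + 1}) :=
  preservesFilteredColimitsOfSize_shrink.{u, u + 1, u, u + 1} _

instance pfcMod (Λ : Type (u + 1)) [CommRing Λ] :
    PreservesFilteredColimitsOfSize.{u, u} (forget (ModuleCat.{u + 1} Λ)) :=
  preservesFilteredColimitsOfSize_shrink.{u, u + 1, u, u + 1} _

include hξ in
set_option backward.isDefEq.respectTransparency.types false in
theorem isIso_ab {M' M : AddCommGrpCat.{u + 1}} (i : M' ⟶ M) (G : EtCoh.Ab X)
    (a : (constantSheaf X.smallEtaleTopology AddCommGrpCat.{u + 1}).obj M' ⟶ G)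
    (b : G ⟶ (constantSheaf X.smallEtaleTopology AddCommGrpCat.{u + 1}).obj M) [Mono a] [Mono b]
    (hab : a ≫ b = (constantSheaf X.smallEtaleTopology AddCommGrpCat.{u + 1}).map i)
    (hst : IsIso ((EtCoh.stalk ξ).map a)) : IsIso a := by
  have hb : ∀ U, Function.Injective (b.hom.app U) := by
    intro U
    have : Mono (b.hom.app U) := inferInstance
    exact (AddCommGrpCat.mono_iff_injective _).mp this
  have hs : Function.Surjective ((Scheme.pointSmallEtale ξ).sheafFiber.map a) :=
    (ConcreteCategory.bijective_of_isIso ((EtCoh.stalk ξ).map a)).2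
  have := isLocallySurjective_of_const (Scheme.pointSmallEtale ξ) (fiber_dichotomy ξ hξ)
    i G a b hb hab hs
  have := Sheaf.epi_of_isLocallySurjective a
  exact isIso_of_mono_of_epi a

include hξ in
set_option backward.isDefEq.respectTransparency.types false in
theorem isIso_mod (Λ : Type (u + 1)) [CommRing Λ] {M' M : ModuleCat.{u + 1} Λ} (i : M' ⟶ M)
    (G : EtModW.Mod Λ X)
    (a : (constantSheaf X.smallEtaleTopology (ModuleCat.{u + 1} Λ)).obj M' ⟶ G)
    (b : G ⟶ (constantSheaf X.smallEtaleTopology (ModuleCat.{u + 1} Λ)).obj M) [Mono a] [Mono b]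
    (hab : a ≫ b = (constantSheaf X.smallEtaleTopology (ModuleCat.{u + 1} Λ)).map i)
    (hst : IsIso ((EtModW.stalk Λ ξ).map a)) : IsIso a := by
  have hb : ∀ U, Function.Injective (b.hom.app U) := by
    intro U
    have : Mono (b.hom.app U) := inferInstance
    exact (ModuleCat.mono_iff_injective _).mp this
  have hs : Function.Surjective ((Scheme.pointSmallEtale ξ).sheafFiber.map a) :=
    (ConcreteCategory.bijective_of_isIso ((EtModW.stalk Λ ξ).map a)).2
  have := isLocallySurjective_of_const (Scheme.pointSmallEtale ξ) (fiber_dichotomy ξ hξ)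
    i G a b hb hab hs
  have := Sheaf.epi_of_isLocallySurjective a
  exact isIso_of_mono_of_epi a

end apps

end Groth.Agent.Lib.Helper8EtGenConst
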