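import Groth.Agent.Lib.Helper8EtSuppGen
import Groth.Agent.Lib.Helper20EtSections2

/-!
# Torsion sheaves vanishing at the generic point (helper8)

On an irreducible qcqs scheme, a torsion sheaf with vanishing generic stalk is a filtered colimit of
constructible sheaves supported on proper closed subsets.
-/

set_option autoImplicit false
set_option linter.style.haveILetI false
universe u
open CategoryTheory CategoryTheory.Limits AlgebraicGeometry Opposite Topology

namespace Groth.Agent.Lib.Helper8EtGenericSupp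

open Groth.Agent.Lib.Helper9.EtMV Groth.Agent.Lib.Helper16.EtStalk
  Groth.Agent.Lib.Helper16.StalkPull Groth.Agent.Lib.Helper8EtFLCExt
  Groth.Agent.Lib.Helper8EtArrowSpec Groth.Agent.Lib.Helper8EtSpecArrow
  Groth.Agent.Lib.Helper8EtSurjLocus Groth.Agent.Lib.Helper8EtSuppGood
  Groth.Agent.Lib.Helper8EtSuppGen

section Top

variable {α : Type*} [TopologicalSpace α] [QuasiSober α] [IrreducibleSpace α]

/-- a constructible set is a neighbourhood of the generic point or of its complement -/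
theorem exists_open_generic {C : Set α} (hC : IsConstructible C) :
    ∃ U : Set α, IsOpen U ∧ genericPoint α ∈ U ∧ (U ⊆ C ∨ U ⊆ Cᶜ) := by
  induction hC using IsConstructible.empty_union_induction with
  | open_retrocompact U hU _ =>
    by_cases h : genericPoint α ∈ U
    · exact ⟨U, hU, h, Or.inl subset_rfl⟩
    · refine ⟨Set.univ, isOpen_univ, trivial, Or.inr ?_⟩
      intro x _ hx
      apply h
      rw [(genericPoint_spec α).mem_open_set_iff hU]
      exact ⟨x, trivial, hx⟩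
  | union s _ t _ hs ht =>
    obtain ⟨U₁, hU₁, hη₁, h₁⟩ := hs
    obtain ⟨U₂, hU₂, hη₂, h₂⟩ := ht
    refine ⟨U₁ ∩ U₂, hU₁.inter hU₂, ⟨hη₁, hη₂⟩, ?_⟩
    rcases h₁ with h₁ | h₁
    · exact Or.inl (fun x hx => Or.inl (h₁ hx.1))
    · rcases h₂ with h₂ | h₂
      · exact Or.inl (fun x hx => Or.inr (h₂ hx.2))
      · refine Or.inr (fun x hx => ?_)
        rw [Set.compl_union]
        exact ⟨h₁ hx.1, h₂ hx.2⟩
  | compl s _ hs =>
    obtain ⟨U, hU, hη, h⟩ := hs
    refine ⟨U, hU, hη, ?_⟩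
    rcases h with h | h
    · exact Or.inr (by rwa [compl_compl])
    · exact Or.inl h

theorem exists_open_disjoint_of_generic_notMem {C : Set α} (hC : IsConstructible C)
    (h : genericPoint α ∉ C) : ∃ U : Set α, IsOpen U ∧ genericPoint α ∈ U ∧ Disjoint U C := by
  obtain ⟨U, hU, hη, h' | h'⟩ := exists_open_generic hC
  · exact absurd (h' hη) h
  · exact ⟨U, hU, hη, Set.disjoint_left.mpr (fun x hx hxC => h' hx hxC)⟩

end Top

variable (X : Scheme.{u}) [CompactSpace X] [QuasiSeparatedSpace X] [IrreducibleSpace X]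

set_option backward.isDefEq.respectTransparency.types false in
/-- **Stacks 0F0M (1)**, irreducible case -/
theorem exists_filtered_colimit_generic (F : EtCoh.Ab X) (hF : EtCoh.IsTorsion F)
    (hη : genericPoint X ∉ EtPBC.supp F) :
    ∃ (J : Type (u + 1)) (_ : SmallCategory J) (_ : IsFiltered J) (D : J ⥤ EtCoh.Ab X)
      (c : Cocone D) (_ : IsColimit c), Nonempty (c.pt ≅ F) ∧
      ∀ j, EtPBC.IsConstructible (D.obj j) ∧
        ∃ Z : Set X, IsClosed Z ∧ genericPoint X ∉ Z ∧ EtPBC.supp (D.obj j) ⊆ Z := by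
  classical
  suffices hgen : ∀ (V : X.Etale), IsAffine V.left → ∀ s : F.obj.obj (op V),
      ∃ U : X.Opens, IsCompact (U : Set X) ∧
        (U : Set X)ᶜ ∈ {Z : Set X | IsClosed Z ∧ genericPoint X ∉ Z} ∧
        ∀ (Ω : Type u) [Field Ω] [IsSepClosed Ω] (ξ : Spec (CommRingCat.of Ω) ⟶ X),
          ξ (default : Spec (CommRingCat.of Ω)) ∈ U →
          ∀ v : (Scheme.pointSmallEtale ξ).fiber.obj V, germ ξ F V v s = 0 by
    obtain ⟨J, i1, i2, D, c, hc, hiso, hD⟩ := exists_filtered_colimit_supp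
      {Z : Set X | IsClosed Z ∧ genericPoint X ∉ Z} ⟨isClosed_empty, fun h => h⟩
      (fun Z₁ h₁ Z₂ h₂ => ⟨h₁.1.union h₂.1, fun h => h.elim h₁.2 h₂.2⟩) F hF hgen
    exact ⟨J, i1, i2, D, c, hc, hiso, fun j => ⟨(hD j).1, by
      obtain ⟨Z, ⟨hZ1, hZ2⟩, hZ3⟩ := (hD j).2
      exact ⟨Z, hZ1, hZ2, hZ3⟩⟩⟩
  intro V hV s
  obtain ⟨g, hg⟩ : ∃ g : V.left ⟶ X, g = V.hom := ⟨_, rfl⟩
  have hgctr : ∀ {Ω : Type u} [Field Ω] [IsSepClosed Ω] (ξ : Spec (CommRingCat.of Ω) ⟶ X)
      (v : (Scheme.pointSmallEtale ξ).fiber.obj V),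
      g (ctr ξ v) = ξ (default : Spec (CommRingCat.of Ω)) := by
    intro Ω _ _ ξ v
    rw [hg]
    exact hom_base_fiber ξ V v
  haveI : Etale g := hg ▸ V.prop
  haveI : IsAffine V.left := hV
  haveI : CompactSpace ↥V.left := inferInstance
  haveI : QuasiCompact g := quasiCompact_of_compactSpace g
  haveI : LocallyQuasiFinite g :=
    Groth.Agent.Lib.Helper20.EtSections.locallyQuasiFinite_of_etale g
  -- the germ support does not meet the generic fibre
  have hSig : ∀ p ∈ germSupp F V s, g p ≠ genericPoint X := by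
    rintro p ⟨Ω, _, _, ξ, v, hv, hne⟩ hp
    apply hη
    refine ⟨Ω, inferInstance, inferInstance, ξ, ?_, fun hz => hne ?_⟩
    · rw [range_geomPt ξ, ← hgctr ξ v, hv, hp]
    · exact (AddCommGrpCat.isZero_iff_subsingleton.mp hz).elim _ _
  have hfin : (g ⁻¹' {genericPoint X}).Finite := g.finite_preimage_singleton _
  -- affine opens around the points of the generic fibre, away from the germ support
  have hex : ∀ p : V.left, p ∈ g ⁻¹' {genericPoint X} →
      ∃ O : V.left.Opens, IsAffineOpen O ∧ p ∈ O ∧ (O : Set V.left) ⊆ (germSupp F V s)ᶜ := by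
    intro p hp
    have hpSig : p ∈ (germSupp F V s)ᶜ := fun h => hSig p h hp
    obtain ⟨_, ⟨O, hO, rfl⟩, hpO, hsub⟩ :=
      (V.left.isBasis_affineOpens).exists_subset_of_mem_open hpSig
        (isClosed_germSupp F V s).isOpen_compl
    exact ⟨O, hO, hpO, hsub⟩
  choose! O hOaff hpO hOsub using hex
  obtain ⟨W, hW⟩ : ∃ W : Set V.left, W = ⋃ p ∈ hfin.toFinset, (O p : Set V.left) := ⟨_, rfl⟩
  have hWopen : IsOpen W := by
    rw [hW]
    exact isOpen_biUnion (fun p _ => (O p).isOpen)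
  have hWc : IsCompact W := by
    rw [hW]
    exact hfin.toFinset.isCompact_biUnion
      (fun p hp => (hOaff p (hfin.mem_toFinset.mp hp)).isCompact)
  have hWsub : W ⊆ (germSupp F V s)ᶜ := by
    rw [hW]
    exact Set.iUnion₂_subset (fun p hp => hOsub p (hfin.mem_toFinset.mp hp))
  have hfib : g ⁻¹' {genericPoint X} ⊆ W := by
    intro p hp
    rw [hW]
    exact Set.mem_biUnion (hfin.mem_toFinset.mpr hp) (hpO p hp)
  -- Chevalley
  have hCc : IsConstructible (g '' Wᶜ) :=
    g.isConstructible_image (hWc.isConstructible hWopen).compl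
  have hηC : genericPoint X ∉ g '' Wᶜ := by
    rintro ⟨p, hpW, hp⟩
    exact hpW (hfib hp)
  obtain ⟨U₀, hU₀, hηU₀, hdisj⟩ := exists_open_disjoint_of_generic_notMem hCc hηC
  obtain ⟨_, ⟨U, hU, rfl⟩, hηU, hUsub⟩ :=
    (X.isBasis_affineOpens).exists_subset_of_mem_open hηU₀ hU₀
  refine ⟨U, hU.isCompact, ⟨U.isOpen.isClosed_compl, fun h => h hηU⟩, ?_⟩
  intro Ω _ _ ξ hξ v
  by_contra hne
  have hv : ctr ξ v ∈ germSupp F V s := ⟨Ω, inferInstance, inferInstance, ξ, v, rfl, hne⟩
  have hvW : ctr ξ v ∈ Wᶜ := fun h => hWsub h hv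
  have h1 : g (ctr ξ v) ∈ U₀ := by
    rw [hgctr ξ v]
    exact hUsub hξ
  exact Set.disjoint_left.mp hdisj h1 ⟨ctr ξ v, hvW, rfl⟩

end Groth.Agent.Lib.Helper8EtGenericSupp
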