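import Groth.Agent.Lib.Helper8EtTorsion
import Groth.Agent.Lib.Helper8EtLocVanish
import Groth.Agent.Lib.Helper8EtZarAcyc
import Groth.Agent.Lib.Helper9EtMVCompare
import Groth.Agent.Lib.Helper9JContAll

/-!
# Higher direct images of torsion sheaves are torsion (helper8)
-/

set_option autoImplicit false
universe u
open CategoryTheory CategoryTheory.Limits AlgebraicGeometry Opposite Abelian

namespace Groth.Agent.Lib.Helper8EtRpushTors

open Groth.Agent.Lib.Helper9.EtMV Groth.Agent.Lib.Helper9.EtFlasque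
  Groth.Agent.Lib.Helper16.SmallEtale Groth.Agent.Lib.Helper8EtTorsion

section Basics

variable {Y : Scheme.{u}}

theorem isTorsion_of_epi {A B : EtCoh.Ab Y} (φ : A ⟶ B) [Epi φ] (hA : EtCoh.IsTorsion A) :
    EtCoh.IsTorsion B := by
  intro U s x
  haveI : Sheaf.IsLocallySurjective φ := (Sheaf.isLocallySurjective_iff_epi' _ φ).2 inferInstance
  have hcov := Presheaf.imageSieve_mem Y.smallEtaleTopology φ.hom s
  obtain ⟨V, g, v, ⟨t, ht⟩, hv⟩ := (mem_smallEtale_iff U _).1 hcov x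
  obtain ⟨V', g', ⟨v', hv'⟩, hfin⟩ := hA V t v
  refine ⟨V', g' ≫ g, ⟨v', ?_⟩, ?_⟩
  · change (g' ≫ g).left v' = x
    rw [← hv]
    have : g'.left v' = v := hv'
    rw [← this]
    rfl
  · have h1 : (B.obj.map (g' ≫ g).op).hom s =
        (φ.hom.app (op V')).hom ((A.obj.map g'.op).hom t) := by
      have hnat := congrArg (fun k => k.hom t) (φ.hom.naturality g'.op)
      change (φ.hom.app (op V')).hom ((A.obj.map g'.op).hom t) =
        (B.obj.map g'.op).hom ((φ.hom.app (op V)).hom t) at hnat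
      rw [hnat, ht]
      change _ = (B.obj.map g.op ≫ B.obj.map g'.op).hom s
      rw [← B.obj.map_comp]
      rfl
    change IsOfFinAddOrder ((B.obj.map (g' ≫ g).op).hom s)
    rw [h1]
    exact ((φ.hom.app (op V')).hom).isOfFinAddOrder hfin

theorem isTorsion_of_iso {A B : EtCoh.Ab Y} (e : A ≅ B) (hA : EtCoh.IsTorsion A) :
    EtCoh.IsTorsion B :=
  isTorsion_of_epi e.hom hA

end Basics

section Affine

variable {Y : Scheme.{u}}

set_option backward.isDefEq.respectTransparency.types false in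
theorem exists_affine_nbhd (V : Y.Etale) (v : V.left) :
    ∃ (W : Y.Etale) (k : W ⟶ V) (w : W.left), IsAffine W.left ∧ k.left w = v := by
  haveI : Etale V.hom := V.prop
  obtain ⟨(O : V.left.Opens), hO, hvO, -⟩ :=
    TopologicalSpace.Opens.isBasis_iff_nbhd.1 V.left.isBasis_affineOpens
    (show v ∈ (⊤ : V.left.Opens) from trivial)
  obtain ⟨w, hw⟩ : ∃ w : (O : Scheme.{u}), O.ι w = v := by
    have : v ∈ Set.range O.ι := by rw [Scheme.Opens.range_ι]; exact hvO
    exact this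
  exact ⟨Scheme.Etale.mk (O.ι ≫ V.hom), MorphismProperty.Over.homMk O.ι rfl, w, hO, hw⟩

end Affine

section Shift

variable {X Y : Scheme.{u}} (f : X ⟶ Y)

/-- all `Ext^q` out of `ℤ[h_{f⁻¹W}]`, `W` affine étale over `Y`, are torsion. -/
def ExtTors (q : ℕ) (G : EtCoh.Ab X) : Prop :=
  ∀ W : Y.Etale, IsAffine W.left →
    ∀ x : Ext.{u + 1} (Zh ((EtCoh.bc f).obj W)) G q, IsOfFinAddOrder x

omit f in
lemma nsmul_comp {A B C : EtCoh.Ab X} {a b c : ℕ} (m : ℕ) (x : Ext.{u + 1} A B a)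
    (y : Ext.{u + 1} B C b) (h : a + b = c) : (m • x).comp y h = m • x.comp y h := by
  induction m with
  | zero => rw [zero_nsmul, zero_nsmul, Ext.zero_comp]
  | succ m ih => rw [succ_nsmul, succ_nsmul, Ext.add_comp, ih]

theorem extTors_X₃ (S : ShortComplex (EtCoh.Ab X)) (hS : S.ShortExact) [Injective S.X₂] (q : ℕ)
    (h : ExtTors f (q + 2) S.X₁) : ExtTors f (q + 1) S.X₃ := by
  intro W hW x₃
  obtain ⟨m, hm, hmx⟩ := isOfFinAddOrder_iff_nsmul_eq_zero.1 (h W hW (x₃.comp hS.extClass rfl))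
  rw [isOfFinAddOrder_iff_nsmul_eq_zero]
  refine ⟨m, hm, ?_⟩
  have h0 : (m • x₃).comp hS.extClass rfl = 0 := by rw [nsmul_comp]; exact hmx
  obtain ⟨x₂, hx₂⟩ := Ext.covariant_sequence_exact₃ _ hS (m • x₃) rfl h0
  rw [← hx₂, Ext.eq_zero_of_injective x₂, Ext.zero_comp]

end Shift

section Base

open RDer Groth.Agent.Lib.Helper17.RDerLib Groth.Agent.Lib.Helper17.DS

variable {X Y : Scheme.{u}} (f : X ⟶ Y)

omit f in
lemma mk₀_nsmul {A B : EtCoh.Ab X} (m : ℕ) (φ : A ⟶ B) :
    Ext.mk₀.{u + 1} (m • φ) = m • Ext.mk₀ φ := by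
  induction m with
  | zero => rw [zero_nsmul, zero_nsmul, Ext.mk₀_zero]
  | succ m ih => rw [succ_nsmul, succ_nsmul, Ext.mk₀_add, ih]

/-- a section of `f_* G` over an affine whose class in `Hom(ℤ[h], G)` is torsion is torsion. -/
theorem isTorsion_push (G : EtCoh.Ab X) (h : ExtTors f 0 G) :
    EtCoh.IsTorsion ((EtCoh.push f).obj G) := by
  intro V s y
  obtain ⟨W, k, w, hW, hw⟩ := exists_affine_nbhd V y
  refine ⟨W, k, ⟨w, hw⟩, ?_⟩
  let s' : EtCoh.sect G ((EtCoh.bc f).obj W) := (((EtCoh.push f).obj G).obj.map k.op).hom s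
  change IsOfFinAddOrder s'
  let φ : Zh ((EtCoh.bc f).obj W) ⟶ G := (zhEquiv _ G).symm s'
  obtain ⟨m, hm, hmx⟩ := isOfFinAddOrder_iff_nsmul_eq_zero.1 (h W hW (Ext.mk₀ φ))
  rw [isOfFinAddOrder_iff_nsmul_eq_zero]
  refine ⟨m, hm, ?_⟩
  rw [← mk₀_nsmul] at hmx
  have h0 : m • φ = 0 := (Ext.mk₀_bijective _ _).1 (hmx.trans (Ext.mk₀_zero _ _).symm)
  have h1 := congrArg (zhEquiv _ G) h0
  rwa [zhEquiv_nsmul, zhEquiv_zero, Equiv.apply_symm_apply] at h1

/-- lifting `m`-multiples of sections along a short exact sequence, `m` killing the class in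
`Ext¹`. -/
theorem exists_lift_nsmul (S : ShortComplex (EtCoh.Ab X)) (hS : S.ShortExact) (T : X.Etale)
    (t : EtCoh.sect S.X₃ T) (m : ℕ)
    (hm : m • ((Ext.mk₀ ((zhEquiv T S.X₃).symm t)).comp hS.extClass (zero_add 1)) = 0) :
    ∃ r : EtCoh.sect S.X₂ T, (S.g.hom.app (op T)).hom r = m • t := by
  let φ : Zh T ⟶ S.X₃ := (zhEquiv T S.X₃).symm t
  have h0 : (Ext.mk₀ (m • φ)).comp hS.extClass (zero_add 1) = 0 := by
    rw [mk₀_nsmul, nsmul_comp]; exact hm
  obtain ⟨x₂, hx₂⟩ := Ext.covariant_sequence_exact₃ (Zh T) hS (Ext.mk₀ (m • φ)) (zero_add 1) h0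
  obtain ⟨ψ, rfl⟩ := Ext.mk₀_bijective (Zh T) S.X₂ |>.2 x₂
  rw [Ext.mk₀_comp_mk₀] at hx₂
  have hψ : ψ ≫ S.g = m • φ := (Ext.mk₀_bijective _ _).1 hx₂
  refine ⟨zhEquiv T S.X₂ ψ, ?_⟩
  rw [← zhEquiv_comp, hψ, zhEquiv_nsmul, Equiv.apply_symm_apply]

theorem isTorsion_rd_one (S : ShortComplex (EtCoh.Ab X)) (hS : S.ShortExact) [Injective S.X₂]
    (h : ExtTors f 1 S.X₁) : EtCoh.IsTorsion ((EtCoh.Rpush f 1).obj S.X₁) := by
  obtain ⟨T⟩ := nonempty_sesRes S hS
  have hex1 := exact₁ (EtCoh.push f) T 0 1 rfl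
  have h₂ : IsZero (((EtCoh.push f).rightDerived 1).obj S.X₂) :=
    Functor.isZero_rightDerived_obj_injective_succ (EtCoh.push f) 0 S.X₂
  haveI hδepi : Epi (T.delta (EtCoh.push f) 0 1 rfl) := hex1.epi_f (h₂.eq_of_tgt _ _)
  let δ' : (EtCoh.push f).obj S.X₃ ⟶ (EtCoh.Rpush f 1).obj S.X₁ :=
    (EtCoh.push f).rightDerivedZeroIsoSelf.inv.app S.X₃ ≫ T.delta (EtCoh.push f) 0 1 rfl
  haveI : Epi δ' := epi_comp _ _
  have hz : (EtCoh.push f).map S.g ≫ δ' = 0 := by
    have hnat := (EtCoh.push f).rightDerivedZeroIsoSelf.inv.naturality S.g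
    change (EtCoh.push f).map S.g ≫ (EtCoh.push f).rightDerivedZeroIsoSelf.inv.app S.X₃ ≫ _ = 0
    rw [← Category.assoc, hnat, Category.assoc, comp_δ (EtCoh.push f) T 0 1 rfl, comp_zero]
  intro V s y
  haveI : Sheaf.IsLocallySurjective δ' := (Sheaf.isLocallySurjective_iff_epi' _ δ').2 inferInstance
  have hcov := Presheaf.imageSieve_mem Y.smallEtaleTopology δ'.hom s
  obtain ⟨V', g, v', ⟨t, ht⟩, hv'⟩ := (mem_smallEtale_iff V _).1 hcov y
  obtain ⟨W, k, w, hW, hw⟩ := exists_affine_nbhd V' v'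
  refine ⟨W, k ≫ g, ⟨w, ?_⟩, ?_⟩
  · change (k ≫ g).left w = y
    rw [← hv', ← hw]
    rfl
  · -- restriction of `t` to `W`
    let t' : EtCoh.sect S.X₃ ((EtCoh.bc f).obj W) :=
      (((EtCoh.push f).obj S.X₃).obj.map k.op).hom t
    obtain ⟨m, hm, hmx⟩ := isOfFinAddOrder_iff_nsmul_eq_zero.1
      (h W hW ((Ext.mk₀ ((zhEquiv _ S.X₃).symm t')).comp hS.extClass (zero_add 1)))
    obtain ⟨r, hr⟩ := exists_lift_nsmul S hS _ t' m hmx
    -- the restriction of `s` to `W` is `δ'(t')`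
    have h1 : (((EtCoh.Rpush f 1).obj S.X₁).obj.map (k ≫ g).op).hom s =
        (δ'.hom.app (op W)).hom t' := by
      have hnat := congrArg (fun q => q.hom t) (δ'.hom.naturality k.op)
      change (δ'.hom.app (op W)).hom ((((EtCoh.push f).obj S.X₃).obj.map k.op).hom t) =
        (((EtCoh.Rpush f 1).obj S.X₁).obj.map k.op).hom ((δ'.hom.app (op V')).hom t) at hnat
      rw [hnat, ht]
      change _ = (((EtCoh.Rpush f 1).obj S.X₁).obj.map g.op ≫
        ((EtCoh.Rpush f 1).obj S.X₁).obj.map k.op).hom s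
      rw [← ((EtCoh.Rpush f 1).obj S.X₁).obj.map_comp]
      rfl
    change IsOfFinAddOrder ((((EtCoh.Rpush f 1).obj S.X₁).obj.map (k ≫ g).op).hom s)
    rw [h1, isOfFinAddOrder_iff_nsmul_eq_zero]
    refine ⟨m, hm, ?_⟩
    rw [← map_nsmul]
    have h2 : m • t' = (((EtCoh.push f).map S.g).hom.app (op W)).hom r := hr.symm
    have h3 := congrArg (fun q : (EtCoh.push f).obj S.X₂ ⟶ (EtCoh.Rpush f 1).obj S.X₁ =>
      (q.hom.app (op W)).hom r) hz
    exact (congrArg (fun z => (δ'.hom.app (op W)).hom z) h2).trans h3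

/-- **torsion by dimension shifting.** -/
theorem isTorsion_Rpush_succ : ∀ (q : ℕ) (G : EtCoh.Ab X), ExtTors f (q + 1) G →
    EtCoh.IsTorsion ((EtCoh.Rpush f (q + 1)).obj G) := by
  intro q
  induction q with
  | zero =>
    intro G hG
    let S : ShortComplex (EtCoh.Ab X) := ShortComplex.mk (Injective.ι G) (cokernel.π (Injective.ι G))
      (cokernel.condition _)
    have hS : S.ShortExact :=
      { exact := ShortComplex.exact_cokernel _
        mono_f := inferInstanceAs (Mono (Injective.ι G))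
        epi_g := inferInstanceAs (Epi (cokernel.π (Injective.ι G))) }
    haveI : Injective S.X₂ := inferInstanceAs (Injective (Injective.under G))
    exact isTorsion_rd_one f S hS hG
  | succ q ih =>
    intro G hG
    let S : ShortComplex (EtCoh.Ab X) := ShortComplex.mk (Injective.ι G) (cokernel.π (Injective.ι G))
      (cokernel.condition _)
    have hS : S.ShortExact :=
      { exact := ShortComplex.exact_cokernel _
        mono_f := inferInstanceAs (Mono (Injective.ι G))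
        epi_g := inferInstanceAs (Epi (cokernel.π (Injective.ι G))) }
    haveI : Injective S.X₂ := inferInstanceAs (Injective (Injective.under G))
    have h3 := ih S.X₃ (extTors_X₃ f S hS q hG)
    obtain ⟨T⟩ := nonempty_sesRes S hS
    have hex1 := exact₁ (EtCoh.push f) T (q + 1) (q + 2) rfl
    have h₂ : IsZero (((EtCoh.push f).rightDerived (q + 2)).obj S.X₂) :=
      Functor.isZero_rightDerived_obj_injective_succ (EtCoh.push f) (q + 1) S.X₂
    haveI hδepi : Epi (T.delta (EtCoh.push f) (q + 1) (q + 2) rfl) :=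
      hex1.epi_f (h₂.eq_of_tgt _ _)
    exact isTorsion_of_epi (T.delta (EtCoh.push f) (q + 1) (q + 2) rfl) h3

theorem isTorsion_Rpush (G : EtCoh.Ab X) (h : ∀ q, ExtTors f q G) (q : ℕ) :
    EtCoh.IsTorsion ((EtCoh.Rpush f q).obj G) := by
  cases q with
  | zero =>
    exact isTorsion_of_iso ((EtCoh.push f).rightDerivedZeroIsoSelf.app G).symm
      (isTorsion_push f G (h 0))
  | succ q => exact isTorsion_Rpush_succ f q G (h (q + 1))

end Base

section Initial

open Groth.Agent.Lib.Helper9.EtPull Groth.Agent.Lib.Helper8EtZarAcyc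

variable {X : Scheme.{u}}

set_option backward.isDefEq.respectTransparency.types false in
theorem isTorsion_restrAlong {T : Scheme.{u}} (j : T ⟶ X) [Etale j] [EtShriek.JCont j]
    (F : EtCoh.Ab X) (hF : EtCoh.IsTorsion F) :
    EtCoh.IsTorsion ((EtShriek.restrAlong j).obj F) := by
  intro V s x
  obtain ⟨W', g, ⟨w, hw⟩, hfin⟩ := hF ((EtShriek.compEtale j).obj V) s x
  have e0 : g.left ≫ V.hom ≫ j = W'.hom := MorphismProperty.Over.w g
  haveI : Etale V.hom := V.prop
  let gl : W'.left ⟶ V.left := g.left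
  haveI : Etale gl := inferInstanceAs (Etale g.left)
  let V' : T.Etale := Scheme.Etale.mk (gl ≫ V.hom)
  let g' : V' ⟶ V := MorphismProperty.Over.homMk gl rfl
  let e : (EtShriek.compEtale j).obj V' ≅ W' :=
    MorphismProperty.Over.isoMk (Iso.refl _)
      ((Category.id_comp W'.hom).trans (e0.symm.trans (Category.assoc _ _ _).symm))
  have he : e.hom ≫ g = (EtShriek.compEtale j).map g' := by
    apply MorphismProperty.Over.Hom.ext
    change 𝟙 _ ≫ g.left = g.left
    exact Category.id_comp _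
  refine ⟨V', g', ⟨w, hw⟩, ?_⟩
  change IsOfFinAddOrder ((F.obj.map ((EtShriek.compEtale j).map g').op).hom s)
  rw [← he]
  have : (F.obj.map (e.hom ≫ g).op).hom s = (F.obj.map e.hom.op).hom ((F.obj.map g.op).hom s) := by
    change _ = (F.obj.map g.op ≫ F.obj.map e.hom.op).hom s
    rw [← F.obj.map_comp]
    rfl
  rw [this]
  exact ((F.obj.map e.hom.op).hom).isOfFinAddOrder hfin

theorem isTorsion_pull_of_etale {T : Scheme.{u}} (j : T ⟶ X) [Etale j] (F : EtCoh.Ab X)
    (hF : EtCoh.IsTorsion F) : EtCoh.IsTorsion ((EtCoh.pull j).obj F) := by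
  haveI : EtShriek.JCont j := Groth.Agent.Lib.Helper9.JContAll.jCont j
  exact isTorsion_of_iso ((rho j).app F).symm (isTorsion_restrAlong j F hF)

lemma comp_nsmul {A B C : EtCoh.Ab X} {a b c : ℕ} (m : ℕ) (x : Ext.{u + 1} A B a)
    (y : Ext.{u + 1} B C b) (h : a + b = c) : x.comp (m • y) h = m • x.comp y h := by
  induction m with
  | zero => rw [zero_nsmul, zero_nsmul, Ext.comp_zero]
  | succ m ih => rw [succ_nsmul, succ_nsmul, Ext.comp_add, ih]

theorem isOfFinAddOrder_ext_Zh (T : X.Etale) [CompactSpace T.left] [QuasiSeparatedSpace T.left]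
    (F : EtCoh.Ab X) (hF : EtCoh.IsTorsion F) (q : ℕ) (x : Ext.{u + 1} (Zh T) F q) :
    IsOfFinAddOrder x := by
  haveI : Etale T.hom := T.prop
  haveI : EtShriek.JCont T.hom := Groth.Agent.Lib.Helper9.JContAll.jCont T.hom
  haveI : PreservesFiniteLimits (EtCoh.pull T.hom) := Groth.Agent.S0101.result T.hom
  let e : obj T.hom ≅ T := MorphismProperty.Over.isoMk (Iso.refl _) (by
    simp only [Iso.refl_hom]
    exact (Category.id_comp _).trans (Category.id_comp _).symm)
  have htors := isAddTorsion_H (X := T.left) ((EtCoh.pull T.hom).obj F)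
    (isTorsion_pull_of_etale T.hom F hF) q
  obtain ⟨m, hm, hmx⟩ := isOfFinAddOrder_iff_nsmul_eq_zero.1
    (htors (Phi T.hom F q ((Ext.mk₀ (ZhIso e).hom).comp x (zero_add q))))
  rw [isOfFinAddOrder_iff_nsmul_eq_zero]
  refine ⟨m, hm, ?_⟩
  rw [← map_nsmul, ← comp_nsmul] at hmx
  have h0 : (Ext.mk₀ (ZhIso e).hom).comp (m • x) (zero_add q) = 0 := by
    apply (Phi T.hom F q).injective
    rw [hmx, map_zero]
  apply ext_precomp_iso_injective (ZhIso e) q
  change (Ext.mk₀ (ZhIso e).hom).comp (m • x) (zero_add q) = (Ext.mk₀ (ZhIso e).hom).comp 0 (zero_add q)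
  rw [h0, Ext.comp_zero]

theorem extTors_of_isTorsion {Y : Scheme.{u}} (f : X ⟶ Y) [QuasiCompact f] [QuasiSeparated f]
    (F : EtCoh.Ab X) (hF : EtCoh.IsTorsion F) (q : ℕ) : ExtTors f q F := by
  intro W hW x
  haveI : IsAffine W.left := hW
  let p : ((EtCoh.bc f).obj W).left ⟶ W.left := pullback.fst W.hom f
  haveI : QuasiCompact p := MorphismProperty.pullback_fst (P := @QuasiCompact) _ _ inferInstance
  haveI : QuasiSeparated p := MorphismProperty.pullback_fst (P := @QuasiSeparated) _ _ inferInstance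
  haveI : CompactSpace ((EtCoh.bc f).obj W).left :=
    QuasiCompact.compactSpace_of_compactSpace p
  haveI : QuasiSeparatedSpace ((EtCoh.bc f).obj W).left :=
    quasiSeparatedSpace_of_quasiSeparated p
  exact isOfFinAddOrder_ext_Zh _ F hF q x

/-- **higher direct images of torsion sheaves along qcqs morphisms are torsion.** -/
theorem isTorsion_Rpush_of_isTorsion {Y : Scheme.{u}} (f : X ⟶ Y) [QuasiCompact f]
    [QuasiSeparated f] (F : EtCoh.Ab X) (hF : EtCoh.IsTorsion F) (n : ℕ) :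
    EtCoh.IsTorsion ((EtCoh.Rpush f n).obj F) :=
  isTorsion_Rpush f F (fun q => extTors_of_isTorsion f F hF q) n

end Initial

end Groth.Agent.Lib.Helper8EtRpushTors
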