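import Mathlib
import Groth.Prelude.Def_EtBase
import Groth.Prelude.Def_Mor2
import Groth.Agent.Lib.Helper16SmallEtale
import Groth.Agent.Lib.Helper18Norm2

/-!
# Étale schemes over which a finite locally free morphism becomes free (helper8)

For `f : X ⟶ Y` finite locally free of degree `d`, the étale `Y`-schemes `V` that are affine and over
which `Γ(V ×_Y X)` is free of rank `d` over `Γ(V)` form a cover-dense full subcategory of the small
étale site of `Y`.
-/

set_option autoImplicit false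
set_option linter.style.haveILetI false
universe u
open CategoryTheory CategoryTheory.Limits AlgebraicGeometry Opposite TopologicalSpace

namespace Groth.Agent.Lib.Helper8EtGoodDense

/-- transport of a basis along a commutative square of ring isomorphisms -/
noncomputable def basisTransport {A B A' B' : Type*} [CommRing A] [CommRing B] [CommRing A']
    [CommRing B'] (φ : A →+* B) (φ' : A' →+* B') (α : A ≃+* A') (β : B ≃+* B')
    (h : ∀ a, β (φ a) = φ' (α a)) {ι : Type*}
    (b : @Module.Basis ι A B _ _ φ.toAlgebra.toModule) :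
    @Module.Basis ι A' B' _ _ φ'.toAlgebra.toModule := by
  letI := φ.toAlgebra
  letI := φ'.toAlgebra
  letI : Module A B' := Module.compHom B' (α : A →+* A')
  let e : B ≃ₗ[A] B' :=
    { toFun := β
      invFun := β.symm
      map_add' := map_add β
      map_smul' := fun a x => by
        change β (φ a * x) = φ' (α a) * β x
        rw [map_mul, h]
      left_inv := β.left_inv
      right_inv := β.right_inv }
  let b' : Module.Basis ι A B' := b.map e
  exact b'.mapCoeffs α (fun c x => rfl)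

variable {X Y : Scheme.{u}} (f : X ⟶ Y)

/-- the projection `V ×_Y X ⟶ V` -/
noncomputable abbrev pr (V : Y.Etale) : ((EtCoh.bc f).obj V).left ⟶ V.left := pullback.fst V.hom f

/-- good objects: affine, with `Γ(V ×_Y X)` free of rank `d` over `Γ(V)` -/
def good (d : ℕ) : ObjectProperty Y.Etale := fun V =>
  IsAffine V.left ∧ Nonempty (@Module.Basis (Fin d) Γ(V.left, ⊤) Γ(((EtCoh.bc f).obj V).left, ⊤) _ _
    (pr f V).appTop.hom.toAlgebra.toModule)

set_option backward.isDefEq.respectTransparency.types false in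
theorem isFinLocFreeOfDeg_pr {d : ℕ} (hf : Mor2.IsFinLocFreeOfDeg d f) (V : Y.Etale) :
    Mor2.IsFinLocFreeOfDeg d (pr f V) := by
  obtain ⟨⟨h1, h2, h3⟩, h4⟩ := hf
  haveI := h1
  haveI := h2
  haveI := h3
  refine ⟨⟨?_, ?_, ?_⟩, fun y => ?_⟩
  · exact inferInstanceAs (IsFinite (pullback.fst V.hom f))
  · exact inferInstanceAs (Flat (pullback.fst V.hom f))
  · exact inferInstanceAs (LocallyOfFinitePresentation (pullback.fst V.hom f))
  · exact (Scheme.Hom.finrank_pullback_fst f V.hom y).trans (h4 _)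

lemma isIso_appLE_of_image_top {P Q : Scheme.{u}} (j : P ⟶ Q) [IsOpenImmersion j] (U : Q.Opens)
    (hU : j ''ᵁ ⊤ = U) (e : ⊤ ≤ j ⁻¹ᵁ U) : IsIso (j.appLE U ⊤ e) := by
  subst hU
  rw [← Scheme.Hom.appIso_hom']
  infer_instance

lemma appLE_congr_hom {P Q : Scheme.{u}} {a b : P ⟶ Q} (hab : a = b) (U : Q.Opens) (V : P.Opens)
    (e : V ≤ a ⁻¹ᵁ U) : a.appLE U V e = b.appLE U V (hab ▸ e) := by
  subst hab
  rfl

lemma image_top_of_isPullback {P Q S T : Scheme.{u}} {j' : P ⟶ Q} {π' : P ⟶ T} {π : Q ⟶ S}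
    {j : T ⟶ S} (sq : IsPullback j' π' π j) : (Set.range j' : Set Q) = π ⁻¹' Set.range j := by
  have h1 : sq.isoPullback.hom ≫ pullback.fst π j = j' := sq.isoPullback_hom_fst
  rw [← h1, ← Scheme.Pullback.range_fst]
  simp only [Scheme.Hom.comp_base, TopCat.hom_comp, ContinuousMap.coe_comp]
  rw [Set.range_comp, Set.range_eq_univ.2, Set.image_univ]
  exact (ConcreteCategory.bijective_of_isIso sq.isoPullback.hom.base).surjective

set_option backward.isDefEq.respectTransparency.types false in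
theorem exists_good {d : ℕ} (hf : Mor2.IsFinLocFreeOfDeg d f) (V : Y.Etale) (x : V.left) :
    ∃ (W : Y.Etale) (g : W ⟶ V) (w : W.left), good f d W ∧ g.left w = x := by
  have hπ := isFinLocFreeOfDeg_pr f hf V
  obtain ⟨haff, h⟩ := (Groth.Agent.Helper18FinFlat.main_S19692 (pr f V) d).1 hπ
  haveI := haff
  obtain ⟨W, hW, hxW, -, ⟨b⟩⟩ :=
    Groth.Agent.Helper18Norm.exists_good_directImage (pr f V) d h x ⊤ trivial
  let W' : Y.Etale := Scheme.Etale.mk (W.ι ≫ V.hom)
  let g : W' ⟶ V := MorphismProperty.Over.homMk W.ι rfl trivial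
  haveI : IsAffine W'.left := hW
  refine ⟨W', g, ⟨x, hxW⟩, ⟨hW, ⟨?_⟩⟩, rfl⟩
  have sq : IsPullback ((EtCoh.bc f).map g).left (pr f W') (pr f V) W.ι :=
    EtCoh.isPullback_bc_map f g
  have hoi : IsOpenImmersion W.ι := inferInstance
  haveI : IsOpenImmersion ((EtCoh.bc f).map g).left :=
    MorphismProperty.of_isPullback (P := @IsOpenImmersion) sq.flip hoi
  have himg : ((EtCoh.bc f).map g).left ''ᵁ ⊤ = (pr f V) ⁻¹ᵁ W := by
    apply Opens.ext
    have h1 := image_top_of_isPullback sq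
    simp only [Scheme.Hom.coe_image, Opens.coe_top, Set.image_univ]
    rw [h1]
    have h2 : Set.range W.ι = (W : Set V.left) := by
      simp
    exact congrArg (fun s => (pr f V) ⁻¹' s) h2
  have e₁ : (⊤ : ((EtCoh.bc f).obj W').left.Opens) ≤
      ((EtCoh.bc f).map g).left ⁻¹ᵁ ((pr f V) ⁻¹ᵁ W) := by
    rw [← himg]
    exact fun y _ => ⟨y, trivial, rfl⟩
  have e₂ : (⊤ : W.toScheme.Opens) ≤ W.ι ⁻¹ᵁ W := W.ι_preimage_self.ge
  haveI i1 : IsIso (((EtCoh.bc f).map g).left.appLE ((pr f V) ⁻¹ᵁ W) ⊤ e₁) :=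
    isIso_appLE_of_image_top _ _ himg e₁
  haveI i2 : IsIso (W.ι.appLE W ⊤ e₂) := inferInstance
  have hcomm : (pr f V).app W ≫ ((EtCoh.bc f).map g).left.appLE ((pr f V) ⁻¹ᵁ W) ⊤ e₁ =
      W.ι.appLE W ⊤ e₂ ≫ (pr f W').appTop := by
    have c1 : (pr f V).app W ≫ ((EtCoh.bc f).map g).left.appLE ((pr f V) ⁻¹ᵁ W) ⊤ e₁ =
        (((EtCoh.bc f).map g).left ≫ pr f V).appLE W ⊤ e₁ :=
      (Scheme.Hom.comp_appLE _ _ _ _ _).symm
    have c2 := appLE_congr_hom sq.w W ⊤ e₁
    have c3 := Scheme.Hom.appLE_comp_appLE (pr f W') W.ι W ⊤ ((pr f W') ⁻¹ᵁ ⊤) e₂ le_rfl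
    rw [Scheme.Hom.appLE_eq_app] at c3
    exact c1.trans (c2.trans c3.symm)
  let α : Γ(V.left, W) ≃+* Γ(W.toScheme, ⊤) := (asIso (W.ι.appLE W ⊤ e₂)).commRingCatIsoToRingEquiv
  let β : Γ(((EtCoh.bc f).obj V).left, (pr f V) ⁻¹ᵁ W) ≃+* Γ(((EtCoh.bc f).obj W').left, ⊤) :=
    (asIso (((EtCoh.bc f).map g).left.appLE ((pr f V) ⁻¹ᵁ W) ⊤ e₁)).commRingCatIsoToRingEquiv
  refine basisTransport ((pr f V).app W).hom (pr f W').appTop.hom α β ?_ b
  intro a
  exact congr($(hcomm).hom a)

set_option backward.isDefEq.respectTransparency.types false in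
/-- the good objects are cover-dense in the small étale site -/
theorem isCoverDense_good {d : ℕ} (hf : Mor2.IsFinLocFreeOfDeg d f) :
    (good f d).ι.IsCoverDense Y.smallEtaleTopology := by
  constructor
  intro U
  rw [Groth.Agent.Lib.Helper16.SmallEtale.mem_smallEtale_iff]
  intro x
  obtain ⟨W, g, w, hW, hw⟩ := exists_good f hf U x
  refine ⟨W, g, w, ?_, hw⟩
  exact Presieve.in_coverByImage (good f d).ι (Y := ⟨W, hW⟩) g

end Groth.Agent.Lib.Helper8EtGoodDense
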