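import Mathlib

/-!
# Base change of the norm of a finite free algebra (helper8)

* `norm_eq_of_isPushout`: for a pushout square of commutative rings `A → B`, `A → A'`, `B' = A' ⊗_A B`
  with `B` finite free over `A`, `N_{B'/A'}(b ⊗ 1) = image of N_{B/A}(b)`.
* `CommRingCat.norm_eq_of_isPushout`: the same for a pushout square in `CommRingCat`.
-/

set_option autoImplicit false
universe u
open CategoryTheory TensorProduct

namespace Groth.Agent.Lib.Helper8NormRing

/-- the norm of `1 ⊗ b` in `A' ⊗[A] B` over `A'` -/
theorem norm_one_tmul (A A' B : Type*) [CommRing A] [CommRing A'] [CommRing B] [Algebra A A']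
    [Algebra A B] [Module.Free A B] [Module.Finite A B] (b : B) :
    Algebra.norm A' ((1 : A') ⊗ₜ[A] b) = algebraMap A A' (Algebra.norm A b) := by
  rw [Algebra.norm_apply, Algebra.norm_apply, ← Algebra.baseChange_lmul, LinearMap.det_baseChange]

theorem norm_eq_of_isPushout (A A' B B' : Type*) [CommRing A] [CommRing A'] [CommRing B]
    [CommRing B'] [Algebra A A'] [Algebra A B] [Algebra A' B'] [Algebra B B'] [Algebra A B']
    [IsScalarTower A A' B'] [IsScalarTower A B B'] [Algebra.IsPushout A A' B B']
    [Module.Free A B] [Module.Finite A B] (b : B) :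
    Algebra.norm A' (algebraMap B B' b) = algebraMap A A' (Algebra.norm A b) := by
  have h := Algebra.norm_eq_of_algEquiv (Algebra.IsPushout.equiv A A' B B') ((1 : A') ⊗ₜ[A] b)
  rw [Algebra.IsPushout.equiv_tmul, map_one, one_mul] at h
  rw [h, norm_one_tmul]

/-- base change of the norm for a pushout square of commutative rings -/
theorem _root_.CommRingCat.norm_eq_of_isPushout' {R S T P : CommRingCat.{u}} {f : R ⟶ S} {g : R ⟶ T}
    {inl : S ⟶ P} {inr : T ⟶ P} (h : CategoryTheory.IsPushout f g inl inr)
    (hfree : @Module.Free R S _ _ f.hom.toAlgebra.toModule) (hfin : f.hom.Finite) (s : S) :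
    @Algebra.norm T P _ _ inr.hom.toAlgebra (inl.hom s) =
      g.hom (@Algebra.norm R S _ _ f.hom.toAlgebra s) := by
  algebraize [f.hom, g.hom, inl.hom, inr.hom, inl.hom.comp f.hom]
  have : IsScalarTower R T P := .of_algebraMap_eq' <| congr($(h.1.1).hom)
  have h1 : Algebra.IsPushout R S T P := CommRingCat.isPushout_iff_isPushout.mp h
  have h2 : Algebra.IsPushout R T S P := h1.symm
  exact norm_eq_of_isPushout R T S P s

end Groth.Agent.Lib.Helper8NormRing
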