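import Mathlib
import Groth.Prelude.Def_EtLim
import Groth.Agent.Lib.Helper8EtGoodDense
import Groth.Agent.Lib.Helper8NormRing
import Groth.Agent.Lib.H6xMuConst

/-!
# The norm `f_* G_m ⟶ G_m` of a finite locally free morphism (helper8)

For `f : X ⟶ Y` finite locally free of degree `d`, `normGm f hf : f_* G_{m,X} ⟶ G_{m,Y}` is a morphism of
abelian étale sheaves with `GmPush f ≫ normGm f hf = d • 𝟙`.
-/

set_option autoImplicit false
set_option linter.style.haveILetI false
universe u
open CategoryTheory CategoryTheory.Limits AlgebraicGeometry Opposite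

namespace Groth.Agent.Lib.Helper8EtGmNorm

open Groth.Agent.Lib.Helper8EtGoodDense Groth.Agent.Lib.H6xMuConst Groth.Agent.Lib.Helper8NormRing

variable {X Y : Scheme.{u}} (f : X ⟶ Y) (d : ℕ)

/-- the norm on units over a good object -/
noncomputable def normUnits (W : Y.Etale) :
    (Γ(((EtCoh.bc f).obj W).left, ⊤))ˣ →* (Γ(W.left, ⊤))ˣ :=
  letI := (pr f W).appTop.hom.toAlgebra
  Units.map (Algebra.norm Γ(W.left, ⊤) : Γ(((EtCoh.bc f).obj W).left, ⊤) →* Γ(W.left, ⊤))

/-- the norm on sections over `W` -/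
noncomputable def nmApp (W : Y.Etale) :
    ((EtCoh.push f).obj (EtCoh.Gm X)).obj.obj (op W) ⟶ (EtCoh.Gm Y).obj.obj (op W) :=
  AddCommGrpCat.ofHom
    { toFun := fun x => mkSec Y W (normUnits f W (valSec X ((EtCoh.bc f).obj W) x))
      map_zero' := by
        change mkSec Y W (normUnits f W 1) = 0
        rw [map_one]
        rfl
      map_add' := fun x y => by
        change mkSec Y W (normUnits f W (valSec X _ x * valSec X _ y)) = _
        rw [map_mul]
        rfl }

lemma nmApp_apply (W : Y.Etale) (x : ((EtCoh.push f).obj (EtCoh.Gm X)).obj.obj (op W)) :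
    (nmApp f W).hom x = mkSec Y W (normUnits f W (valSec X ((EtCoh.bc f).obj W) x)) := rfl

set_option backward.isDefEq.respectTransparency.types false in
lemma normUnits_natural [IsAffineHom f] {W W' : Y.Etale} (hW : good f d W) (hW' : good f d W')
    (k : W' ⟶ W) (u : (Γ(((EtCoh.bc f).obj W).left, ⊤))ˣ) :
    normUnits f W' (Units.map ((EtCoh.bc f).map k).left.appTop.hom.toMonoidHom u) =
      Units.map k.left.appTop.hom.toMonoidHom (normUnits f W u) := by
  apply Units.ext
  obtain ⟨hWa, ⟨b⟩⟩ := hW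
  obtain ⟨hWa', -⟩ := hW'
  have sq := EtCoh.isPullback_bc_map f k
  have hXW : IsAffine ((EtCoh.bc f).obj W).left :=
    @IsAffine.of_isPullback _ _ _ _ _ _ _ _ hWa _ (IsPullback.of_hasPullback W.hom f)
  have po := @isPushout_appTop_of_isPullback _ _ _ _ _ _ _ _ hXW hWa' hWa sq
  exact CommRingCat.norm_eq_of_isPushout' po
    (@Module.Free.of_basis _ _ _ _ (pr f W).appTop.hom.toAlgebra.toModule _ b)
    (@Module.Finite.of_basis _ _ _ _ _ (pr f W).appTop.hom.toAlgebra.toModule _ b) u.val

lemma normUnits_algebraMap {W : Y.Etale} (hW : good f d W) (u : (Γ(W.left, ⊤))ˣ) :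
    normUnits f W (Units.map (pr f W).appTop.hom.toMonoidHom u) = u ^ d := by
  apply Units.ext
  obtain ⟨-, ⟨b⟩⟩ := hW
  letI := (pr f W).appTop.hom.toAlgebra
  have h := Algebra.norm_algebraMap_of_basis b (u : Γ(W.left, ⊤))
  rw [Fintype.card_fin] at h
  rw [Units.val_pow_eq_pow_val]
  exact h

section

variable [IsAffineHom f]

set_option backward.isDefEq.respectTransparency.types false in
/-- the norm on the dense subcategory of good objects -/
noncomputable def nmNat :
    (good f d).ι.op ⋙ ((EtCoh.push f).obj (EtCoh.Gm X)).obj ⟶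
      (good f d).ι.op ⋙ (EtCoh.Gm Y).obj where
  app W := nmApp f W.unop.obj
  naturality W W' k := by
    ext x
    exact congrArg (mkSec Y W'.unop.obj)
      (normUnits_natural f d W.unop.property W'.unop.property k.unop.hom
        (valSec X ((EtCoh.bc f).obj W.unop.obj) x))

end

/-- the norm `f_* G_m ⟶ G_m` of a finite locally free morphism of degree `d` -/
noncomputable def normGm (hf : Mor2.IsFinLocFreeOfDeg d f) :
    (EtCoh.push f).obj (EtCoh.Gm X) ⟶ EtCoh.Gm Y :=
  haveI := isCoverDense_good f hf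
  haveI : IsFinite f := hf.1.1
  ObjectProperty.homMk (Functor.IsCoverDense.sheafHom (G := (good f d).ι)
    (K := Y.smallEtaleTopology) (ℱ' := EtCoh.Gm Y) (nmNat f d))

set_option backward.isDefEq.respectTransparency.types false in
theorem GmPush_normGm (hf : Mor2.IsFinLocFreeOfDeg d f) :
    EtLim.GmPush f ≫ normGm f d hf = d • 𝟙 (EtCoh.Gm Y) := by
  haveI := isCoverDense_good f hf
  haveI : IsFinite f := hf.1.1
  have key : ∀ γ δ : (EtCoh.Gm Y).obj ⟶ (EtCoh.Gm Y).obj,
      Functor.whiskerLeft (good f d).ι.op γ = Functor.whiskerLeft (good f d).ι.op δ → γ = δ := by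
    intro γ δ h
    rw [← Functor.IsCoverDense.sheafHom_eq (G := (good f d).ι) (K := Y.smallEtaleTopology)
      (ℱ' := EtCoh.Gm Y) γ, h, Functor.IsCoverDense.sheafHom_eq]
  apply ObjectProperty.hom_ext
  apply key
  ext W x
  have h1 := congr_app (Functor.IsCoverDense.sheafHom_restrict_eq (G := (good f d).ι)
    (K := Y.smallEtaleTopology) (ℱ' := EtCoh.Gm Y) (nmNat f d)) W
  have h2 : ((EtLim.GmPush f ≫ normGm f d hf).hom.app (op W.unop.obj)).hom x =
      ((nmNat f d).app W).hom (((EtLim.GmPush f).hom.app (op W.unop.obj)).hom x) :=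
    congrArg (fun m => m.hom (((EtLim.GmPush f).hom.app (op W.unop.obj)).hom x)) h1
  refine h2.trans ?_
  have h3 : ((nmNat f d).app W).hom (((EtLim.GmPush f).hom.app (op W.unop.obj)).hom x) =
      mkSec Y W.unop.obj (normUnits f W.unop.obj
        (Units.map (pr f W.unop.obj).appTop.hom.toMonoidHom (valSec Y W.unop.obj x))) := rfl
  rw [h3, normUnits_algebraMap f d W.unop.property, mkSec_pow, mkSec_valSec]
  exact (nsmul_hom_app Y (𝟙 (EtCoh.Gm Y)) d (op W.unop.obj) x).symm

end Groth.Agent.Lib.Helper8EtGmNorm
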