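import Mathlib

/-!
Helper library (helper8): the graph trick for étale schemes over a closed subscheme.
Given `i : Z ⟶ X` a closed immersion, `u : U ⟶ X`, `u' : U' ⟶ X` étale and a `Z`-morphism
`hL : U ×_X Z ⟶ U' ×_X Z`, there is an open `W₀ ⊆ U ×_X U'` whose base change to `Z` is the graph
of `hL`.
-/

set_option autoImplicit false
universe u

open AlgebraicGeometry CategoryTheory CategoryTheory.Limits

namespace Groth.Agent.Lib.Helper8EtGraph

/-- A section of an étale morphism... more generally an étale monomorphism is an open immersion. -/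
theorem isOpenImmersion_of_etale_of_mono {A B : Scheme.{u}} (s : A ⟶ B) [Etale s] [Mono s] :
    IsOpenImmersion s :=
  IsOpenImmersion.of_flat_of_mono s

set_option backward.isDefEq.respectTransparency false in
theorem exists_graph_open {Z X U U' : Scheme.{u}} (i : Z ⟶ X) [IsClosedImmersion i]
    (u : U ⟶ X) (u' : U' ⟶ X) [Etale u] [Etale u']
    (hL : pullback u i ⟶ pullback u' i)
    (hhL : hL ≫ pullback.snd u' i = pullback.snd u i) :
    ∃ W₀ : (pullback u u').Opens,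
      ∀ (aZ : pullback (W₀.ι ≫ pullback.fst u u' ≫ u) i ⟶ pullback u i)
        (bZ : pullback (W₀.ι ≫ pullback.fst u u' ≫ u) i ⟶ pullback u' i),
        aZ ≫ pullback.fst u i = pullback.fst _ i ≫ W₀.ι ≫ pullback.fst u u' →
        aZ ≫ pullback.snd u i = pullback.snd _ i →
        bZ ≫ pullback.fst u' i = pullback.fst _ i ≫ W₀.ι ≫ pullback.snd u u' →
        bZ ≫ pullback.snd u' i = pullback.snd _ i →
        IsIso aZ ∧ aZ ≫ hL = bZ := by
  -- the graph
  obtain ⟨γ, hγ1, hγ2⟩ : ∃ γ : pullback u i ⟶ pullback u u',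
      γ ≫ pullback.fst u u' = pullback.fst u i ∧
      γ ≫ pullback.snd u u' = hL ≫ pullback.fst u' i :=
    ⟨pullback.lift (pullback.fst u i) (hL ≫ pullback.fst u' i) (by
      rw [pullback.condition, Category.assoc, pullback.condition, reassoc_of% hhL]),
      pullback.lift_fst _ _ _, pullback.lift_snd _ _ _⟩
  obtain ⟨Γ, hΓ1, hΓ2⟩ : ∃ Γ : pullback u i ⟶ pullback (pullback.fst u u' ≫ u) i,
      Γ ≫ pullback.fst (pullback.fst u u' ≫ u) i = γ ∧
      Γ ≫ pullback.snd (pullback.fst u u' ≫ u) i = pullback.snd u i :=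
    ⟨pullback.lift γ (pullback.snd u i) (by
      rw [reassoc_of% hγ1, pullback.condition]),
      pullback.lift_fst _ _ _, pullback.lift_snd _ _ _⟩
  obtain ⟨q, hq1, hq2⟩ : ∃ q : pullback (pullback.fst u u' ≫ u) i ⟶ pullback u i,
      q ≫ pullback.fst u i = pullback.fst (pullback.fst u u' ≫ u) i ≫ pullback.fst u u' ∧
      q ≫ pullback.snd u i = pullback.snd (pullback.fst u u' ≫ u) i :=
    ⟨pullback.lift (pullback.fst (pullback.fst u u' ≫ u) i ≫ pullback.fst u u')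
      (pullback.snd (pullback.fst u u' ≫ u) i)
      ((Category.assoc _ _ _).trans pullback.condition),
      pullback.lift_fst _ _ _, pullback.lift_snd _ _ _⟩
  have hΓq : Γ ≫ q = 𝟙 _ := by
    apply pullback.hom_ext
    · rw [Category.assoc, hq1, reassoc_of% hΓ1, hγ1, Category.id_comp]
    · rw [Category.assoc, hq2, hΓ2, Category.id_comp]
  haveI : Etale (Γ ≫ pullback.snd (pullback.fst u u' ≫ u) i) := by
    rw [hΓ2]; infer_instance
  haveI : Etale Γ := Etale.of_comp Γ (pullback.snd (pullback.fst u u' ≫ u) i)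
  haveI : Mono Γ := by
    haveI : Mono (Γ ≫ q) := by rw [hΓq]; infer_instance
    exact mono_of_mono Γ q
  haveI : IsOpenImmersion Γ := isOpenImmersion_of_etale_of_mono Γ
  -- the open set
  have hτcl : Topology.IsClosedEmbedding (pullback.fst (pullback.fst u u' ≫ u) i) :=
    (pullback.fst (pullback.fst u u' ≫ u) i).isClosedEmbedding
  obtain ⟨W₀, hF⟩ : ∃ W₀ : (pullback u u').Opens,
      ∀ t : ↥(pullback (pullback.fst u u' ≫ u) i),
        pullback.fst (pullback.fst u u' ≫ u) i t ∈ W₀ ↔ t ∈ Set.range Γ := by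
    refine ⟨⟨((pullback.fst (pullback.fst u u' ≫ u) i) '' ((Set.range Γ)ᶜ))ᶜ,
      (hτcl.isClosedMap _ Γ.isOpenEmbedding.isOpen_range.isClosed_compl).isOpen_compl⟩, ?_⟩
    intro t
    constructor
    · intro ht
      by_contra hn
      exact ht ⟨t, hn, rfl⟩
    · rintro ht ⟨t', ht', he⟩
      exact ht' (hτcl.injective he ▸ ht)
  refine ⟨W₀, ?_⟩
  intro aZ bZ ha1 ha2 hb1 hb2
  -- the map `j`
  obtain ⟨j, hj1, hj2⟩ : ∃ j : pullback (W₀.ι ≫ pullback.fst u u' ≫ u) i ⟶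
      pullback (pullback.fst u u' ≫ u) i,
      j ≫ pullback.fst (pullback.fst u u' ≫ u) i =
        pullback.fst (W₀.ι ≫ pullback.fst u u' ≫ u) i ≫ W₀.ι ∧
      j ≫ pullback.snd (pullback.fst u u' ≫ u) i =
        pullback.snd (W₀.ι ≫ pullback.fst u u' ≫ u) i :=
    ⟨pullback.lift (pullback.fst (W₀.ι ≫ pullback.fst u u' ≫ u) i ≫ W₀.ι)
      (pullback.snd (W₀.ι ≫ pullback.fst u u' ≫ u) i)
      ((Category.assoc _ _ _).trans pullback.condition),
      pullback.lift_fst _ _ _, pullback.lift_snd _ _ _⟩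
  have hjr : Set.range j ⊆ Set.range Γ := by
    rintro _ ⟨z, rfl⟩
    rw [← hF]
    change (j ≫ pullback.fst (pullback.fst u u' ≫ u) i) z ∈ W₀
    rw [hj1]
    exact (pullback.fst (W₀.ι ≫ pullback.fst u u' ≫ u) i z).2
  obtain ⟨ρ, hρ⟩ : ∃ ρ : pullback (W₀.ι ≫ pullback.fst u u' ≫ u) i ⟶ pullback u i,
      ρ ≫ Γ = j := ⟨IsOpenImmersion.lift Γ j hjr, IsOpenImmersion.lift_fac _ _ _⟩
  have hjq : j ≫ q = aZ := by
    apply pullback.hom_ext
    · rw [Category.assoc, hq1, reassoc_of% hj1, ha1]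
    · rw [Category.assoc, hq2, hj2, ha2]
  have hρa : ρ = aZ := by
    calc ρ = ρ ≫ 𝟙 _ := (Category.comp_id _).symm
      _ = ρ ≫ Γ ≫ q := by rw [hΓq]
      _ = j ≫ q := by rw [reassoc_of% hρ]
      _ = aZ := hjq
  have haΓ : aZ ≫ Γ = j := by rw [← hρa, hρ]
  have hE1 : aZ ≫ γ = pullback.fst (W₀.ι ≫ pullback.fst u u' ≫ u) i ≫ W₀.ι := by
    rw [← hΓ1, reassoc_of% haΓ, hj1]
  -- `γ` factors through `W₀`
  have hγr : Set.range γ ⊆ Set.range W₀.ι := by
    rintro _ ⟨y, rfl⟩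
    rw [Scheme.Opens.range_ι]
    have : γ y = pullback.fst (pullback.fst u u' ≫ u) i (Γ y) := by
      rw [← hΓ1]; rfl
    rw [this]
    exact (hF _).mpr ⟨y, rfl⟩
  obtain ⟨γ', hγ'⟩ : ∃ γ' : pullback u i ⟶ W₀.toScheme, γ' ≫ W₀.ι = γ :=
    ⟨IsOpenImmersion.lift W₀.ι γ hγr, IsOpenImmersion.lift_fac _ _ _⟩
  obtain ⟨σ, hσ1, hσ2⟩ : ∃ σ : pullback u i ⟶ pullback (W₀.ι ≫ pullback.fst u u' ≫ u) i,
      σ ≫ pullback.fst (W₀.ι ≫ pullback.fst u u' ≫ u) i = γ' ∧
      σ ≫ pullback.snd (W₀.ι ≫ pullback.fst u u' ≫ u) i = pullback.snd u i :=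
    ⟨pullback.lift γ' (pullback.snd u i) (by
      rw [reassoc_of% hγ', reassoc_of% hγ1, pullback.condition]),
      pullback.lift_fst _ _ _, pullback.lift_snd _ _ _⟩
  have hσa : σ ≫ aZ = 𝟙 _ := by
    apply pullback.hom_ext
    · rw [Category.assoc, ha1, reassoc_of% hσ1, reassoc_of% hγ', hγ1, Category.id_comp]
    · rw [Category.assoc, ha2, hσ2, Category.id_comp]
  have haσ : aZ ≫ σ = 𝟙 _ := by
    apply pullback.hom_ext
    · rw [← cancel_mono W₀.ι, Category.assoc, Category.assoc, reassoc_of% hσ1, hγ', hE1,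
        Category.id_comp]
    · rw [Category.assoc, hσ2, ha2, Category.id_comp]
  refine ⟨⟨σ, haσ, hσa⟩, ?_⟩
  apply pullback.hom_ext
  · rw [Category.assoc, ← hγ2, reassoc_of% hE1, hb1]
  · rw [Category.assoc, hhL, ha2, hb2]

end Groth.Agent.Lib.Helper8EtGraph
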