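import Groth.Agent.Lib.Helper8EtLTors

/-!
# Integers prime to `L` act invertibly on `L`-torsion sheaves (helper8)
-/

set_option autoImplicit false
universe u
open CategoryTheory CategoryTheory.Limits AlgebraicGeometry Opposite Abelian

namespace Groth.Agent.Lib.Helper8EtLTorsCoprime

open Groth.Agent.Lib.Helper16.SmallEtale Groth.Agent.Lib.Helper8EtTorsion
  Groth.Agent.Lib.Helper8EtRpushTors Groth.Agent.Lib.Helper8EtLTors

variable {X : Scheme.{u}}

theorem coprime_of_primesIn (L : Set ℕ) (d : ℕ) (hd : ∀ p : ℕ, p.Prime → p ∈ L → ¬ p ∣ d)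
    (m : ℕ) (hm : EtAcyc.PrimesIn L m) : Nat.Coprime d m := by
  apply Nat.coprime_of_dvd
  intro p hp hpd hpm
  exact hd p hp (hm.2 p hp hpm) hpd

/-- an integer prime to `L` acts injectively on the sections of an `L`-torsion sheaf. -/
theorem eq_zero_of_nsmul_eq_zero (L : Set ℕ) (F : EtCoh.Ab X) (hF : EtAcyc.IsLTorsion L F)
    (p : ℕ) (hpL : ∀ q : ℕ, q.Prime → q ∈ L → ¬ q ∣ p) (U : X.Etale) (s : EtCoh.sect F U)
    (hs : p • s = 0) : s = 0 := by
  apply eq_of_locally_eq F U s 0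
  intro x
  obtain ⟨V, g, m, hv, hm, hms⟩ := hF U s x
  refine ⟨V, g, hv, ?_⟩
  rw [map_zero]
  have hcop : Nat.Coprime p m := coprime_of_primesIn L p hpL m hm
  have hps : p • (F.obj.map g.op).hom s = 0 := by rw [← map_nsmul, hs, map_zero]
  -- Bezout
  have hb := Nat.Coprime.gcd_eq_one hcop
  have h1 : ((p : ℤ).gcd (m : ℤ) : ℤ) = 1 := by
    rw [Int.gcd_natCast_natCast, hb]; rfl
  have h2 := Int.gcd_eq_gcd_ab (p : ℤ) (m : ℤ)
  rw [h1] at h2
  have h3 : (1 : ℤ) • (F.obj.map g.op).hom s = 0 := by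
    rw [h2, add_smul, mul_comm, mul_smul, mul_comm, mul_smul, natCast_zsmul, natCast_zsmul, hps,
      hms, smul_zero, smul_zero, add_zero]
  rwa [one_smul] at h3

/-- an integer prime to `L` acts invertibly on an `L`-torsion sheaf. -/
theorem isIso_nsmul_id (L : Set ℕ) (F : EtCoh.Ab X) (hF : EtAcyc.IsLTorsion L F)
    (p : ℕ) (hpL : ∀ q : ℕ, q.Prime → q ∈ L → ¬ q ∣ p) : IsIso (p • 𝟙 F : F ⟶ F) := by
  haveI : Mono (p • 𝟙 F : F ⟶ F) := by
    rw [Sheaf.Hom.mono_iff_presheaf_mono, NatTrans.mono_iff_mono_app]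
    intro U
    rw [AddCommGrpCat.mono_iff_injective, injective_iff_map_eq_zero]
    intro s hs
    have hs' : ((p • 𝟙 F : F ⟶ F).hom.app (op U.unop)).hom s = 0 := hs
    rw [nsmul_id_app] at hs'
    exact eq_zero_of_nsmul_eq_zero L F hF p hpL U.unop s hs'
  haveI : Epi (p • 𝟙 F : F ⟶ F) := by
    rw [← Sheaf.isLocallySurjective_iff_epi' _ (p • 𝟙 F : F ⟶ F)]
    constructor
    intro U s
    rw [mem_smallEtale_iff]
    intro x
    obtain ⟨V, g, m, ⟨v, hv⟩, hm, hms⟩ := hF U s x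
    have hcop : Nat.Coprime p m := coprime_of_primesIn L p hpL m hm
    have hb := Nat.Coprime.gcd_eq_one hcop
    have h1 : ((p : ℤ).gcd (m : ℤ) : ℤ) = 1 := by
      rw [Int.gcd_natCast_natCast, hb]; rfl
    have h2 := Int.gcd_eq_gcd_ab (p : ℤ) (m : ℤ)
    rw [h1] at h2
    refine ⟨V, g, v, ⟨((p : ℤ).gcdA (m : ℤ)) • (F.obj.map g.op).hom s, ?_⟩, hv⟩
    change ((p • 𝟙 F : F ⟶ F).hom.app (op V)).hom _ = (F.obj.map g.op).hom s
    rw [nsmul_id_app]
    have h3 : (1 : ℤ) • (F.obj.map g.op).hom s =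
        p • (((p : ℤ).gcdA (m : ℤ)) • (F.obj.map g.op).hom s) := by
      rw [h2, add_smul, mul_smul, mul_comm, mul_smul, natCast_zsmul, natCast_zsmul, hms, smul_zero,
        add_zero]
    rw [← h3, one_smul]
  exact isIso_of_mono_of_epi _

end Groth.Agent.Lib.Helper8EtLTorsCoprime
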