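import Groth.Agent.Lib.Helper8EtLocConst
import Groth.Agent.Lib.Helper9EtPull

/-!
# The unit `M → f_* f^* M` on the constant sheaf, as pullback of locally constant functions (helper8)
-/

set_option autoImplicit false
universe u
open CategoryTheory CategoryTheory.Limits AlgebraicGeometry Opposite

namespace Groth.Agent.Lib.Helper8EtLcPull

open Groth.Agent.Lib.Helper8EtLocConst Groth.Agent.Lib.Helper9.EtPull
open Groth.Agent.Lib.Helper16.SmallEtale

variable {T X : Scheme.{u}} (f : T ⟶ X) (A : AddCommGrpCat.{u + 1})

/-- the projection `P ×_X T → P` as a continuous map -/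
noncomputable def prj (P : X.Etale) : C(((EtCoh.bc f).obj P).left, P.left) :=
  (pullback.fst P.hom f).base.hom

lemma prj_apply (P : X.Etale) (z : ((EtCoh.bc f).obj P).left) :
    prj f P z = pullback.fst P.hom f z := rfl

set_option backward.isDefEq.respectTransparency.types false in
lemma prj_natural {P' P : X.Etale} (g : P' ⟶ P) (z : ((EtCoh.bc f).obj P').left) :
    prj f P (((EtCoh.bc f).map g).left z) = g.left (prj f P' z) := by
  have h := bc_map_left_fst f g
  have h2 := congrArg (fun k => k.base z) h
  exact h2

/-- pullback of locally constant functions, as a morphism `lc_X ⟶ f_* lc_T` -/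
noncomputable def lcPull : lcSh X A ⟶ (EtCoh.push f).obj (lcSh T A) :=
  ⟨{ app := fun P => AddCommGrpCat.ofHom (LocallyConstant.comapAddMonoidHom (prj f P.unop))
     naturality := by
      intro P P' g
      ext s
      apply LocallyConstant.ext
      intro z
      exact (congrArg (show LocallyConstant P.unop.left A from s)
        (prj_natural f g.unop z)).symm }⟩

lemma lcPull_app_apply (P : X.Etale) (s : LocallyConstant P.left A)
    (z : ((EtCoh.bc f).obj P).left) :
    (show LocallyConstant ((EtCoh.bc f).obj P).left A from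
      (lcPull f A).hom.app (op P) s) z = s (pullback.fst P.hom f z) := rfl

/-- the identification `f^* (const A) ≅ lc_T A` -/
noncomputable def psi : (EtCoh.pull f).obj
    ((constantSheaf X.smallEtaleTopology AddCommGrpCat.{u + 1}).obj A) ⟶ lcSh T A :=
  (EtCore.pullConstIso f).hom.app A ≫ (constIsoLc T A).hom

instance : IsIso (psi f A) := by
  unfold psi
  infer_instance

lemma constAdj_unit_constIsoLc (X : Scheme.{u}) (A : AddCommGrpCat.{u + 1}) :
    (EtCore.constAdj X).unit.app A ≫ (EtCore.gsec X).map (constIsoLc X A).hom =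
      (constToLc X A).app (op (EtCoh.top X)) := by
  have h := congrArg (fun k => k.app (op (EtCoh.top X))) (toSheafify_constIsoLc_hom X A)
  refine Eq.trans ?_ h
  simp [EtCore.constAdj, constantSheafAdj, Adjunction.comp_unit_app, constantPresheafAdj]
  rfl

theorem unit_lcPull :
    (EtCoh.pullPushAdj f).unit.app
      ((constantSheaf X.smallEtaleTopology AddCommGrpCat.{u + 1}).obj A) ≫
      (EtCoh.push f).map (psi f A) = (constIsoLc X A).hom ≫ lcPull f A := by
  apply ((EtCore.constAdj X).homEquiv A _).injective
  rw [Adjunction.homEquiv_unit, Adjunction.homEquiv_unit]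
  have h1 := unit_pullConst_inv f A
  have h2 := adj1_unit_app f A
  have h3 : pullSec f ((constantSheaf X.smallEtaleTopology AddCommGrpCat.{u + 1}).obj A) =
      (EtCore.gsec X).map ((EtCoh.pullPushAdj f).unit.app
        ((constantSheaf X.smallEtaleTopology AddCommGrpCat.{u + 1}).obj A)) ≫
      (EtCore.pushGsecIso f).hom.app ((EtCoh.pull f).obj
        ((constantSheaf X.smallEtaleTopology AddCommGrpCat.{u + 1}).obj A)) := rfl
  have h4 : (EtCore.constAdj X).unit.app A ≫ (EtCore.gsec X).map ((EtCoh.pullPushAdj f).unit.app
        ((constantSheaf X.smallEtaleTopology AddCommGrpCat.{u + 1}).obj A)) =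
      ((EtCore.constAdj T).unit.app A ≫ (EtCore.gsec T).map ((EtCore.pullConstIso f).inv.app A)) ≫
        (EtCore.pushGsecIso f).inv.app ((EtCoh.pull f).obj
        ((constantSheaf X.smallEtaleTopology AddCommGrpCat.{u + 1}).obj A)) := by
    rw [h1, h2, h3, Category.assoc, Category.assoc, Iso.hom_inv_id_app]
    erw [Category.comp_id]
  have h5 := (EtCore.pushGsecIso f).inv.naturality (psi f A)
  have hL : (EtCore.constAdj X).unit.app A ≫ (EtCore.gsec X).map ((EtCoh.pullPushAdj f).unit.app
        ((constantSheaf X.smallEtaleTopology AddCommGrpCat.{u + 1}).obj A) ≫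
        (EtCoh.push f).map (psi f A)) =
      (constToLc T A).app (op (EtCoh.top T)) ≫
        (EtCore.pushGsecIso f).inv.app (lcSh T A) := by
    rw [Functor.map_comp, ← Category.assoc, h4, Category.assoc]
    have h5' : (EtCore.pushGsecIso f).inv.app ((EtCoh.pull f).obj
        ((constantSheaf X.smallEtaleTopology AddCommGrpCat.{u + 1}).obj A)) ≫
        (EtCore.gsec X).map ((EtCoh.push f).map (psi f A)) =
        (EtCore.gsec T).map (psi f A) ≫ (EtCore.pushGsecIso f).inv.app (lcSh T A) := h5.symm
    rw [h5', ← Category.assoc]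
    congr 1
    rw [Category.assoc, ← Functor.map_comp]
    have h6 : (EtCore.pullConstIso f).inv.app A ≫ psi f A = (constIsoLc T A).hom := by
      unfold psi
      rw [← Category.assoc, Iso.inv_hom_id_app, Category.id_comp]
    rw [h6]
    exact constAdj_unit_constIsoLc T A
  have hR : (EtCore.constAdj X).unit.app A ≫
      (EtCore.gsec X).map ((constIsoLc X A).hom ≫ lcPull f A) =
      (constToLc X A).app (op (EtCoh.top X)) ≫ (lcPull f A).hom.app (op (EtCoh.top X)) := by
    rw [Functor.map_comp, ← Category.assoc, constAdj_unit_constIsoLc]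
    rfl
  rw [hL, hR]
  ext a
  apply LocallyConstant.ext
  intro z
  rfl

end Groth.Agent.Lib.Helper8EtLcPull
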