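import Mathlib
import Groth.Prelude.Def_EtBase
import Groth.Agent.Lib.Helper16SmallEtale

/-!
# The sheaf of locally constant functions on the small étale site (helper8)

* `lcType X T` : the presheaf `V ↦ LocallyConstant V T` of sets; `isSheaf_lcType`.
-/

set_option autoImplicit false
universe u
open CategoryTheory CategoryTheory.Limits AlgebraicGeometry Opposite

namespace Groth.Agent.Lib.Helper8EtLocConst

open Groth.Agent.Lib.Helper16.SmallEtale

/-- the continuous map underlying a morphism of the small étale site -/
def cmap {X : Scheme.{u}} {W V : X.Etale} (g : W ⟶ V) : C(W.left, V.left) := g.left.base.hom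

@[simp] lemma cmap_apply {X : Scheme.{u}} {W V : X.Etale} (g : W ⟶ V) (w : W.left) :
    cmap g w = g.left w := rfl

/-- the presheaf of locally constant functions with values in `T` -/
def lcType (X : Scheme.{u}) (T : Type (u + 1)) : X.Etaleᵒᵖ ⥤ Type (u + 1) where
  obj V := LocallyConstant V.unop.left T
  map g := ↾(LocallyConstant.comap (cmap g.unop))
  map_id V := by
    ext s p
    rfl
  map_comp g h := by
    ext s p
    rfl

lemma lcType_map_apply {X : Scheme.{u}} (T : Type (u + 1)) {W V : X.Etale} (g : W ⟶ V)
    (s : LocallyConstant V.left T) (w : W.left) :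
    (show LocallyConstant W.left T from (lcType X T).map g.op s) w = s (g.left w) := rfl

set_option backward.isDefEq.respectTransparency.types false in
/-- locally constant functions form a sheaf for the étale topology -/
theorem isSheaf_lcType (X : Scheme.{u}) (T : Type (u + 1)) :
    Presieve.IsSheaf X.smallEtaleTopology (lcType X T) := by
  intro V S hS
  have hS' := (mem_smallEtale_iff V S).1 hS
  intro x hx
  choose W g w hg hw using hS'
  have key : ∀ (W' : X.Etale) (g' : W' ⟶ V) (hg' : S g') (w' : W'.left) (W'' : X.Etale)
      (g'' : W'' ⟶ V) (hg'' : S g'') (w'' : W''.left), g'.left w' = g''.left w'' →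
      (show LocallyConstant W'.left T from x g' hg') w' =
        (show LocallyConstant W''.left T from x g'' hg'') w'' := by
    intro W' g' hg' w' W'' g'' hg'' w'' hww
    haveI : Etale W'.hom := W'.prop
    haveI : Etale g''.left := inferInstance
    obtain ⟨z, hz1, hz2⟩ := Scheme.Pullback.exists_preimage_pullback (f := g'.left)
      (g := g''.left) w' w'' hww
    let Q : X.Etale := Scheme.Etale.mk (pullback.fst g'.left g''.left ≫ W'.hom)
    let a : Q ⟶ W' := MorphismProperty.Over.homMk (pullback.fst g'.left g''.left) rfl
    have e1 : g'.left ≫ V.hom = W'.hom := Over.w g'.hom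
    have e2 : g''.left ≫ V.hom = W''.hom := Over.w g''.hom
    let b : Q ⟶ W'' := MorphismProperty.Over.homMk (pullback.snd g'.left g''.left) (by
      change pullback.snd g'.left g''.left ≫ W''.hom = pullback.fst g'.left g''.left ≫ W'.hom
      rw [← e1, ← e2, ← Category.assoc, ← Category.assoc, pullback.condition])
    have hab : a ≫ g' = b ≫ g'' := by
      apply (Scheme.Etale.forget X).map_injective
      apply Over.OverMorphism.ext
      exact pullback.condition
    have h1 := hx a b hg' hg'' hab
    have h2 := congrArg (fun f : LocallyConstant Q.left T => f z) h1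
    have h3 : (show LocallyConstant W'.left T from x g' hg') (a.left z) =
        (show LocallyConstant W''.left T from x g'' hg'') (b.left z) := h2
    have ha : a.left z = w' := hz1
    have hb : b.left z = w'' := hz2
    rw [ha, hb] at h3
    exact h3
  let s : V.left → T := fun p => (show LocallyConstant (W p).left T from x (g p) (hg p)) (w p)
  have hs : ∀ (W' : X.Etale) (g' : W' ⟶ V) (hg' : S g') (w' : W'.left),
      s (g'.left w') = (show LocallyConstant W'.left T from x g' hg') w' :=
    fun W' g' hg' w' => key _ (g _) (hg _) (w _) W' g' hg' w' (hw _)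
  have hlc : IsLocallyConstant s := by
    rw [IsLocallyConstant.iff_exists_open]
    intro p
    obtain ⟨N, hN, hwN, hconst⟩ := (IsLocallyConstant.iff_exists_open _).1
      (show LocallyConstant (W p).left T from x (g p) (hg p)).isLocallyConstant (w p)
    haveI : Etale (g p).left := inferInstance
    refine ⟨(g p).left '' N, (g p).left.isOpenMap _ hN, ⟨w p, hwN, hw p⟩, ?_⟩
    rintro _ ⟨w', hw'N, rfl⟩
    have hp : s p = s ((g p).left (w p)) := by rw [hw p]
    rw [hp, hs _ (g p) (hg p) w', hs _ (g p) (hg p) (w p)]
    exact hconst w' hw'N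
  refine ⟨(⟨s, hlc⟩ : LocallyConstant V.left T), ?_, ?_⟩
  · intro W' g' hg'
    apply LocallyConstant.ext
    intro w'
    exact hs W' g' hg' w'
  · intro t ht
    apply LocallyConstant.ext
    intro p
    have h1 := ht (g p) (hg p)
    have h2 := congrArg (fun f : LocallyConstant (W p).left T => f (w p)) h1
    have h3 : (show LocallyConstant V.left T from t) ((g p).left (w p)) = s p := h2
    rw [hw p] at h3
    exact h3

/-- the presheaf of locally constant functions with values in an abelian group -/
def lcAb (X : Scheme.{u}) (A : AddCommGrpCat.{u + 1}) : X.Etaleᵒᵖ ⥤ AddCommGrpCat.{u + 1} where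
  obj V := AddCommGrpCat.of (LocallyConstant V.unop.left A)
  map g := AddCommGrpCat.ofHom (LocallyConstant.comapAddMonoidHom (cmap g.unop))
  map_id V := by
    ext s p
    rfl
  map_comp g h := by
    ext s p
    rfl

lemma lcAb_map_apply {X : Scheme.{u}} (A : AddCommGrpCat.{u + 1}) {W V : X.Etale} (g : W ⟶ V)
    (s : LocallyConstant V.left A) (w : W.left) :
    (show LocallyConstant W.left A from (lcAb X A).map g.op s) w = s (g.left w) := rfl

theorem isSheaf_lcAb (X : Scheme.{u}) (A : AddCommGrpCat.{u + 1}) :
    Presheaf.IsSheaf X.smallEtaleTopology (lcAb X A) := by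
  apply Presheaf.isSheaf_of_isSheaf_comp _ _ (forget AddCommGrpCat.{u + 1})
  rw [isSheaf_iff_isSheaf_of_type]
  exact isSheaf_lcType X A

/-- the sheaf of locally constant functions with values in an abelian group -/
def lcSh (X : Scheme.{u}) (A : AddCommGrpCat.{u + 1}) : EtCoh.Ab X := ⟨lcAb X A, isSheaf_lcAb X A⟩

/-- constant functions -/
def constToLc (X : Scheme.{u}) (A : AddCommGrpCat.{u + 1}) :
    (Functor.const X.Etaleᵒᵖ).obj A ⟶ lcAb X A where
  app V := AddCommGrpCat.ofHom (LocallyConstant.constAddMonoidHom)
  naturality V W g := by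
    ext a
    rfl

lemma constToLc_app_apply {X : Scheme.{u}} (A : AddCommGrpCat.{u + 1}) (V : X.Etale) (a : A)
    (p : V.left) :
    (show LocallyConstant V.left A from (constToLc X A).app (op V) a) p = a := rfl

set_option backward.isDefEq.respectTransparency.types false in
instance isLocallyInjective_constToLc (X : Scheme.{u}) (A : AddCommGrpCat.{u + 1}) :
    Presheaf.IsLocallyInjective X.smallEtaleTopology (constToLc X A) where
  equalizerSieve_mem {V} x y hxy := by
    rw [mem_smallEtale_iff]
    intro p
    refine ⟨V.unop, 𝟙 _, p, ?_, rfl⟩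
    have h := congrArg (fun f : LocallyConstant V.unop.left A => f p) hxy
    have h' : x = y := h
    subst h'
    rfl

set_option backward.isDefEq.respectTransparency.types false in
instance isLocallySurjective_constToLc (X : Scheme.{u}) (A : AddCommGrpCat.{u + 1}) :
    Presheaf.IsLocallySurjective X.smallEtaleTopology (constToLc X A) where
  imageSieve_mem {V} s := by
    rw [mem_smallEtale_iff]
    intro p
    haveI : Etale V.hom := V.prop
    let s' : LocallyConstant V.left A := s
    let N : V.left.Opens := ⟨s' ⁻¹' {s' p}, s'.isLocallyConstant.isOpen_fiber _⟩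
    let W : X.Etale := Scheme.Etale.mk (N.ι ≫ V.hom)
    let g : W ⟶ V := MorphismProperty.Over.homMk N.ι rfl
    have hpN : p ∈ N := rfl
    obtain ⟨w, hw⟩ : ∃ w : (N : Scheme.{u}), N.ι w = p := by
      have : p ∈ Set.range N.ι := by rw [Scheme.Opens.range_ι]; exact hpN
      exact this
    refine ⟨W, g, w, ⟨(s' p : A), ?_⟩, hw⟩
    apply LocallyConstant.ext
    intro w'
    have hw' : N.ι w' ∈ N := by
      have : N.ι w' ∈ Set.range N.ι := ⟨w', rfl⟩
      rwa [Scheme.Opens.range_ι] at this
    exact hw'.symm

instance isIso_map_constToLc (X : Scheme.{u}) (A : AddCommGrpCat.{u + 1}) :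
    IsIso ((presheafToSheaf X.smallEtaleTopology AddCommGrpCat.{u + 1}).map (constToLc X A)) :=
  (X.smallEtaleTopology.W_iff _).1 (X.smallEtaleTopology.W_of_isLocallyBijective _)

/-- the constant sheaf is the sheaf of locally constant functions -/
noncomputable def constIsoLc (X : Scheme.{u}) (A : AddCommGrpCat.{u + 1}) :
    (constantSheaf X.smallEtaleTopology AddCommGrpCat.{u + 1}).obj A ≅ lcSh X A :=
  (@asIso _ _ _ _ ((presheafToSheaf X.smallEtaleTopology AddCommGrpCat.{u + 1}).map
      (constToLc X A)) (isIso_map_constToLc X A)) ≪≫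
    (@asIso _ _ _ _ ((sheafificationAdjunction X.smallEtaleTopology
      AddCommGrpCat.{u + 1}).counit.app (lcSh X A))
      (isIso_sheafificationAdjunction_counit (lcSh X A)))

lemma toSheafify_constIsoLc_hom (X : Scheme.{u}) (A : AddCommGrpCat.{u + 1}) :
    toSheafify X.smallEtaleTopology ((Functor.const X.Etaleᵒᵖ).obj A) ≫
      (constIsoLc X A).hom.hom = constToLc X A := by
  have h1 := (sheafificationAdjunction X.smallEtaleTopology AddCommGrpCat.{u + 1}).unit.naturality
    (constToLc X A)
  have h2 := (sheafificationAdjunction X.smallEtaleTopology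
    AddCommGrpCat.{u + 1}).right_triangle_components (lcSh X A)
  have h3 : (constIsoLc X A).hom.hom =
      ((presheafToSheaf X.smallEtaleTopology AddCommGrpCat.{u + 1}).map (constToLc X A)).hom ≫
        ((sheafificationAdjunction X.smallEtaleTopology AddCommGrpCat.{u + 1}).counit.app
          (lcSh X A)).hom := rfl
  rw [h3, ← Category.assoc]
  have h1' : toSheafify X.smallEtaleTopology ((Functor.const X.Etaleᵒᵖ).obj A) ≫
      ((presheafToSheaf X.smallEtaleTopology AddCommGrpCat.{u + 1}).map (constToLc X A)).hom =
      constToLc X A ≫ toSheafify X.smallEtaleTopology (lcAb X A) := h1.symm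
  rw [h1', Category.assoc]
  have h2' : toSheafify X.smallEtaleTopology (lcAb X A) ≫
      ((sheafificationAdjunction X.smallEtaleTopology AddCommGrpCat.{u + 1}).counit.app
          (lcSh X A)).hom = 𝟙 _ := h2
  rw [h2']
  exact Category.comp_id _

end Groth.Agent.Lib.Helper8EtLocConst
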