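import Mathlib
import Groth.Prelude.Def_SGA4b
import Groth.Agent.Lib.Helper16SmallEtale
import Groth.Prelude.Def_EtCore

/-!
# Sheaves of sets on the small étale site of the spectrum of a separably closed field (helper8)
-/

set_option autoImplicit false
open CategoryTheory CategoryTheory.Limits AlgebraicGeometry Opposite
universe u

namespace Groth.Agent.Lib.Helper8EtSepClosedPt

open Groth.Agent.Lib.Helper16.SmallEtale

variable (k : Type u) [Field k] [IsSepClosed k]

/-- the inclusion of the terminal object of the small étale site -/
noncomputable abbrev G : Discrete PUnit.{1} ⥤ (Spec (CommRingCat.of k)).Etale :=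
  Functor.fromPUnit (EtCoh.top (Spec (CommRingCat.of k)))

set_option backward.isDefEq.respectTransparency.types false in
instance : (G k).Full where
  map_surjective {a b} f := by
    refine ⟨eqToHom (Subsingleton.elim _ _), ?_⟩
    apply MorphismProperty.Over.Hom.ext
    have h : f.left ≫ 𝟙 _ = 𝟙 _ := MorphismProperty.Over.w f
    rw [Category.comp_id] at h
    exact h.symm

instance : (G k).Faithful where
  map_injective {a b} f g _ := Subsingleton.elim _ _

set_option backward.isDefEq.respectTransparency.types false in
instance : (G k).IsCoverDense (Spec (CommRingCat.of k)).smallEtaleTopology where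
  is_cover V := by
    rw [mem_smallEtale_iff]
    intro v
    haveI : Etale V.hom := V.prop
    obtain ⟨l, hl, hv⟩ := Scheme.exists_fac_of_etale_of_isSepClosed V.hom
      (𝟙 (Spec (CommRingCat.of k))) v
      (Subsingleton.elim (α := (Spec (CommRingCat.of k) : Scheme.{u})) _ _)
    let g : (G k).obj ⟨⟨⟩⟩ ⟶ V := MorphismProperty.Over.homMk l hl
    exact ⟨_, g, (default : (Spec (CommRingCat.of k) : Scheme.{u})),
      Presieve.in_coverByImage _ g, hv⟩

set_option backward.isDefEq.respectTransparency.types false in
instance : (G k).IsDenseSubsite ⊥ (Spec (CommRingCat.of k)).smallEtaleTopology where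
  functorPushforward_mem_iff {X S} := by
    rw [GrothendieckTopology.bot_covering]
    constructor
    · intro h
      rw [mem_smallEtale_iff] at h
      obtain ⟨W, g, w, hg, -⟩ := h (default : (Spec (CommRingCat.of k) : Scheme.{u}))
      obtain ⟨Y, a, b, ha, -⟩ := hg
      rw [← Sieve.id_mem_iff_eq_top]
      have h1 := S.downward_closed ha (eqToHom (Subsingleton.elim X Y))
      rwa [Subsingleton.elim (eqToHom (Subsingleton.elim X Y) ≫ a) (𝟙 X)] at h1
    · rintro rfl
      rw [Sieve.functorPushforward_top]
      exact GrothendieckTopology.top_mem _ _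

/-- the composite equivalence -/
noncomputable def comp : Sheaf (Spec (CommRingCat.of k)).smallEtaleTopology (Type (u + 1)) ⥤
    Type (u + 1) :=
  (G k).sheafPushforwardContinuous (Type (u + 1)) ⊥ (Spec (CommRingCat.of k)).smallEtaleTopology ⋙
    sheafToPresheaf ⊥ (Type (u + 1)) ⋙
    (Functor.whiskeringLeft _ _ (Type (u + 1))).obj (Discrete.opposite PUnit.{1}).inverse ⋙
    Functor.equiv.functor

instance : (comp k).IsEquivalence := by
  unfold comp
  haveI : (sheafToPresheaf (⊥ : GrothendieckTopology (Discrete PUnit.{1}))
      (Type (u + 1))).IsEquivalence :=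
    (sheafBotEquivalence (C := Discrete PUnit.{1}) (Type (u + 1))).isEquivalence_functor
  infer_instance

/-- identification with global sections -/
noncomputable def compIso : comp k ≅
    (sheafSections (Spec (CommRingCat.of k)).smallEtaleTopology (Type (u + 1))).obj
      (op (EtCoh.top (Spec (CommRingCat.of k)))) :=
  NatIso.ofComponents (fun F => Iso.refl _) (by
    intro F F' f
    rfl)

theorem isEquivalence_sections :
    ((sheafSections (Spec (CommRingCat.of k)).smallEtaleTopology (Type (u + 1))).obj
      (op (EtCoh.top (Spec (CommRingCat.of k))))).IsEquivalence :=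
  Functor.isEquivalence_of_iso (compIso k)

end Groth.Agent.Lib.Helper8EtSepClosedPt

namespace Groth.Agent.Lib.Helper8EtSepClosedPt

/-- `f_*` followed by global sections is global sections (sheaves of sets). -/
noncomputable def pushShSections {X Y : Scheme.{u}} (f : X ⟶ Y) :
    EtDesc.pushSh f ⋙ (sheafSections Y.smallEtaleTopology (Type (u + 1))).obj (op (EtCoh.top Y)) ≅
      (sheafSections X.smallEtaleTopology (Type (u + 1))).obj (op (EtCoh.top X)) :=
  NatIso.ofComponents (fun F => F.obj.mapIso (EtCore.bcTopIso f).op.symm) (fun {F G} φ => by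
    simp only [Functor.comp_map, Functor.mapIso_hom, Iso.symm_hom]
    exact (φ.hom.naturality _).symm)

theorem isEquivalence_pullSh (k k' : Type u) [Field k] [IsSepClosed k]
    [Field k'] [IsSepClosed k'] [Algebra k k'] :
    (EtDesc.pullSh (Spec.map (CommRingCat.ofHom (algebraMap k k')))).IsEquivalence := by
  haveI := isEquivalence_sections k
  haveI := isEquivalence_sections k'
  haveI : (EtDesc.pushSh (Spec.map (CommRingCat.ofHom (algebraMap k k'))) ⋙
      (sheafSections (Spec (CommRingCat.of k)).smallEtaleTopology (Type (u + 1))).obj
        (op (EtCoh.top (Spec (CommRingCat.of k))))).IsEquivalence :=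
    Functor.isEquivalence_of_iso (pushShSections _).symm
  haveI : (EtDesc.pushSh (Spec.map (CommRingCat.ofHom (algebraMap k k')))).IsEquivalence :=
    Functor.isEquivalence_of_comp_right _
      ((sheafSections (Spec (CommRingCat.of k)).smallEtaleTopology (Type (u + 1))).obj
        (op (EtCoh.top (Spec (CommRingCat.of k)))))
  exact (EtDesc.adjSh (Spec.map (CommRingCat.ofHom (algebraMap k k')))).isEquivalence_left_of_isEquivalence_right

end Groth.Agent.Lib.Helper8EtSepClosedPt
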