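import Mathlib
import Groth.Prelude.Def_SGA4b
import Groth.Agent.Lib.Helper8EtSetStalk
import Groth.Agent.Lib.Helper8UnivInjEssImage
import Groth.Agent.Lib.Helper8ClosedPush

/-!
# Sheaves of sets on a closed subscheme (helper8)
-/

set_option autoImplicit false
open CategoryTheory CategoryTheory.Limits AlgebraicGeometry Opposite
universe u

namespace Groth.Agent.Lib.Helper8EtSetClosed

open Groth.Agent.Lib.Helper8EtSetStalk Groth.Agent.Lib.Helper16.SmallEtale
  Groth.Agent.Lib.Helper16.EtGlue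

set_option backward.isDefEq.respectTransparency.types false in
/-- a sheaf of sets has exactly one section over an empty scheme -/
lemma unique_of_isEmpty {X : Scheme.{u}} (F : EtDesc.Sh X) (Z : X.Etale) [IsEmpty Z.left] :
    Nonempty (Unique (F.obj.obj (op Z))) := by
  have hF : Presieve.IsSheaf X.smallEtaleTopology F.obj := (isSheaf_iff_isSheaf_of_type _ _).1 F.2
  have hbot : (⊥ : Sieve Z) ∈ X.smallEtaleTopology Z := by
    rw [mem_smallEtale_iff]
    intro x
    exact (IsEmpty.false x).elim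
  haveI := subsingleton_of_isEmpty F.obj hF Z
  have hx : Presieve.FamilyOfElements.Compatible
      (fun (W : X.Etale) (g : W ⟶ Z) (hg : (⊥ : Sieve Z) g) => (hg.elim : F.obj.obj (op W))) := by
    intro _ _ _ _ _ _ _ h₁
    exact h₁.elim
  exact ⟨⟨⟨(hF _ hbot).amalgamate _ hx⟩, fun a => Subsingleton.elim _ _⟩⟩

set_option backward.isDefEq.respectTransparency.types false in
/-- the pushforward of a sheaf of sets along a morphism with closed image has one-point stalks at
geometric points outside the image. -/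
theorem unique_stalk_push_of_disjoint {Z X : Scheme.{u}} (i : Z ⟶ X) (hcl : IsClosed (Set.range i))
    (G : EtDesc.Sh Z) {Ω : Type u} [Field Ω] [IsSepClosed Ω] (ξ : Spec (CommRingCat.of Ω) ⟶ X)
    (hξ : Disjoint (Set.range ξ) (Set.range i)) :
    Nonempty (Unique ((stalkSet ξ).obj ((EtDesc.pushSh i).obj G))) := by
  let Φ := Scheme.pointSmallEtale ξ
  let P : X.Etaleᵒᵖ ⥤ Type (u + 1) := ((EtDesc.pushSh i).obj G).obj
  change Nonempty (Unique (Φ.presheafFiber.obj P))
  -- shrinking
  have key : ∀ (V : X.Etale) (x : Φ.fiber.obj V), ∃ (V' : X.Etale) (k : V' ⟶ V) (x' : Φ.fiber.obj V'),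
      Φ.fiber.map k x' = x ∧ IsEmpty ((EtCoh.bc i).obj V').left := by
    intro V x
    obtain ⟨xl, hxl, hxw⟩ : ∃ xl : Spec (CommRingCat.of Ω) ⟶ V.left,
        xl = x.left ∧ xl ≫ V.hom = ξ := ⟨x.left, rfl, Over.w x⟩
    obtain ⟨O, l, hl, hempty⟩ :=
      Groth.Agent.Lib.Helper8UnivInjEssImage.exists_open_missing i hcl V.hom xl
        (by rw [hxw]; exact hξ)
    let V' : X.Etale := Scheme.Etale.mk (O.ι ≫ V.hom)
    let k : V' ⟶ V := MorphismProperty.Over.homMk O.ι rfl
    have hlw : l ≫ O.ι ≫ V.hom = ξ :=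
      (Category.assoc _ _ _).symm.trans ((congrArg (fun m => m ≫ V.hom) hl).trans hxw)
    refine ⟨V', k, Over.homMk l hlw, ?_, hempty⟩
    apply Over.OverMorphism.ext
    exact hl.trans hxl
  have hsub : Subsingleton (Φ.presheafFiber.obj P) := by
    constructor
    intro p q
    obtain ⟨V, x, z₁, z₂, rfl, rfl⟩ := Φ.toPresheafFiber_jointly_surjective₂ (P := P) p q
    obtain ⟨V', k, x', hx', hE⟩ := key V x
    haveI := hE
    obtain ⟨hu⟩ := unique_of_isEmpty G ((EtCoh.bc i).obj V')
    have hz : P.map k.op z₁ = P.map k.op z₂ :=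
      (hu.uniq (P.map k.op z₁ : G.obj.obj (op ((EtCoh.bc i).obj V')))).trans
        (hu.uniq (P.map k.op z₂ : G.obj.obj (op ((EtCoh.bc i).obj V')))).symm
    rw [← hx', ← Φ.toPresheafFiber_w_apply, ← Φ.toPresheafFiber_w_apply, hz]
  have hne : Nonempty (Φ.presheafFiber.obj P) := by
    let x₀ : Φ.fiber.obj (EtCoh.top X) := Over.homMk ξ (Category.comp_id ξ)
    obtain ⟨V', k, x', hx', hE⟩ := key (EtCoh.top X) x₀
    haveI := hE
    obtain ⟨hu⟩ := unique_of_isEmpty G ((EtCoh.bc i).obj V')
    exact ⟨Φ.toPresheafFiber V' x' P (hu.default : G.obj.obj (op ((EtCoh.bc i).obj V')))⟩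
  obtain ⟨p₀⟩ := hne
  exact ⟨⟨⟨p₀⟩, fun a => Subsingleton.elim _ _⟩⟩


instance ab5Type : AB5OfSize.{u, u} (Type (u + 1)) := AB5OfSize_of_univLE.{u, u, u + 1, u + 1} _

/-- the stalks of a terminal sheaf of sets are one-point sets -/
lemma unique_stalk_of_isTerminal {X : Scheme.{u}} (P : EtDesc.Sh X) (hP : IsTerminal P)
    {Ω : Type u} [Field Ω] [IsSepClosed Ω] (ξ : Spec (CommRingCat.of Ω) ⟶ X) :
    Nonempty (Unique ((stalkSet ξ).obj P)) :=
  ⟨Types.isTerminalEquivUnique _ (IsTerminal.isTerminalObj (stalkSet ξ) P hP)⟩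

lemma bijective_of_unique {α β : Type*} (hα : Nonempty (Unique α)) (hβ : Nonempty (Unique β))
    (φ : α → β) : Function.Bijective φ := by
  obtain ⟨hα⟩ := hα
  obtain ⟨hβ⟩ := hβ
  exact ⟨fun a b _ => (hα.uniq a).trans (hα.uniq b).symm,
    fun b => ⟨hα.default, (hβ.uniq _).trans (hβ.uniq b).symm⟩⟩

lemma unique_of_equiv {α β : Type*} (e : α ≃ β) (hα : Nonempty (Unique α)) : Nonempty (Unique β) := by
  obtain ⟨hα⟩ := hα
  exact ⟨e.symm.unique⟩


section Main

variable {Y X U : Scheme.{u}} (i : Y ⟶ X) [IsClosedImmersion i]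

theorem full_pushSh : (EtDesc.pushSh i).Full :=
  Functor.IsCoverDense.full_sheafPushforwardContinuous (G := EtCoh.bc i)
    (J := X.smallEtaleTopology) (K := Y.smallEtaleTopology) (A := Type (u + 1))

theorem faithful_pushSh : (EtDesc.pushSh i).Faithful :=
  Functor.IsCoverDense.faithful_sheafPushforwardContinuous (G := EtCoh.bc i)
    (J := X.smallEtaleTopology) (K := Y.smallEtaleTopology) (A := Type (u + 1))

theorem isIso_counit (F : EtDesc.Sh Y) : IsIso ((EtDesc.adjSh i).counit.app F) := by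
  haveI := full_pushSh i
  haveI := faithful_pushSh i
  infer_instance

lemma isIso_pull_map_unit (F : EtDesc.Sh X) :
    IsIso ((EtDesc.pullSh i).map ((EtDesc.adjSh i).unit.app F)) := by
  haveI := isIso_counit i ((EtDesc.pullSh i).obj F)
  have h := (EtDesc.adjSh i).left_triangle_components F
  haveI : IsIso ((EtDesc.pullSh i).map ((EtDesc.adjSh i).unit.app F) ≫
      (EtDesc.adjSh i).counit.app ((EtDesc.pullSh i).obj F)) := by
    rw [h]; exact IsIso.id _
  exact IsIso.of_isIso_comp_right _ ((EtDesc.adjSh i).counit.app ((EtDesc.pullSh i).obj F))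

variable (j : U ⟶ X) [IsOpenImmersion j] (hU : Set.range j = (Set.range i)ᶜ)

include hU in
lemma disjoint_of_via_j {Ω : Type u} [Field Ω] (ζ : Spec (CommRingCat.of Ω) ⟶ U) :
    Disjoint (Set.range (ζ ≫ j)) (Set.range i) := by
  rw [Set.disjoint_left]
  rintro _ ⟨t, rfl⟩ h
  have : (ζ ≫ j) t ∈ Set.range j := ⟨ζ t, by rw [Scheme.Hom.comp_apply]⟩
  rw [hU] at this
  exact this h

include hU in
theorem essImage_iff (F : EtDesc.Sh X) :
    (EtDesc.pushSh i).essImage F ↔ IsIso (terminal.from ((EtDesc.pullSh j).obj F)) := by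
  have hcl : IsClosed (Set.range i) := i.isClosedEmbedding.isClosed_range
  constructor
  · rintro ⟨G, ⟨e⟩⟩
    refine isIso_of_stalks (fun _ : Unit => U) (fun _ => 𝟙 U) (fun x => ⟨(), x, rfl⟩) _ ?_
    intro _ Ω _ _ ζ
    refine bijective_of_unique ?_ (unique_stalk_of_isTerminal _ terminalIsTerminal _) _
    have hζ : ζ ≫ 𝟙 U = ζ := Category.comp_id ζ
    rw [hζ]
    have h1 := unique_stalk_push_of_disjoint i hcl G (ζ ≫ j) (disjoint_of_via_j i j hU ζ)
    have h2 := unique_of_equiv ((stalkSet (ζ ≫ j)).mapIso e).toEquiv h1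
    exact unique_of_equiv ((stalkPullIso j ζ).app F).toEquiv h2
  · intro h
    have hT : IsTerminal ((EtDesc.pullSh j).obj F) :=
      terminalIsTerminal.ofIso (asIso (terminal.from ((EtDesc.pullSh j).obj F))).symm
    let η := (EtDesc.adjSh i).unit.app F
    haveI := isIso_pull_map_unit i F
    have hη : IsIso η := by
      refine isIso_of_stalks (fun b : Bool => cond b Y U)
        (fun b => Bool.rec (motive := fun b => cond b Y U ⟶ X) j i b) ?_ η ?_
      · intro x
        by_cases hx : x ∈ Set.range i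
        · exact ⟨true, hx⟩
        · have hx' : x ∈ Set.range j := by rw [hU]; exact hx
          exact ⟨false, hx'⟩
      · intro b Ω _ _ ζ
        cases b
        · change Function.Bijective ((stalkSet (ζ ≫ j)).map η)
          refine bijective_of_unique ?_ ?_ _
          · exact unique_of_equiv ((stalkPullIso j ζ).app F).toEquiv.symm
              (unique_stalk_of_isTerminal _ hT ζ)
          · exact unique_stalk_push_of_disjoint i hcl _ (ζ ≫ j) (disjoint_of_via_j i j hU ζ)
        · change Function.Bijective ((stalkSet (ζ ≫ i)).map η)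
          rw [← isIso_iff_bijective, stalk_map_eq i η ζ]
          infer_instance
    exact ⟨(EtDesc.pullSh i).obj F, ⟨(asIso η).symm⟩⟩

end Main

end Groth.Agent.Lib.Helper8EtSetClosed
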