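import Mathlib

/-!
# A point missed by a quasi-compact morphism has an open neighbourhood in which none of its
specialisations is hit (helper8)
-/

set_option autoImplicit false
open CategoryTheory CategoryTheory.Limits AlgebraicGeometry Opposite
universe u

namespace Groth.Agent.Lib.Helper8QcMissOpen

/-- ring level -/
theorem exists_not_mem_of_not_mem_range {A B : Type*} [CommRing A] [CommRing B] (φ : A →+* B)
    (p : PrimeSpectrum A) (hp : p ∉ Set.range (PrimeSpectrum.comap φ)) :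
    ∃ a : A, a ∉ p.asIdeal ∧ φ a ∈ p.asIdeal.map φ := by
  rw [PrimeSpectrum.mem_range_comap_iff] at hp
  by_contra hcon
  push Not at hcon
  apply hp
  apply le_antisymm
  · intro a ha
    by_contra hna
    exact hcon a hna ha
  · exact Ideal.le_comap_map

theorem exists_open_avoiding {X Y : Scheme.{u}} (g : X ⟶ Y) [QuasiCompact g] (y : Y)
    (hy : y ∉ Set.range g) :
    ∃ U' : Y.Opens, y ∈ U' ∧ ∀ x : X, g x ∈ U' → ¬ (y ⤳ g x) := by
  obtain ⟨_, ⟨U₀, hU₀, rfl⟩, hyU, -⟩ :=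
    Y.isBasis_affineOpens.exists_subset_of_mem_open (Set.mem_univ y) isOpen_univ
  have hcpt : IsCompact (g ⁻¹ᵁ U₀ : Set X) := g.isCompact_preimage hU₀.isCompact
  obtain ⟨R, f, hf⟩ := (isCompact_iff_exists (U := g ⁻¹ᵁ U₀)).1 hcpt
  have hsub : Set.range (f ≫ g) ⊆ Set.range hU₀.fromSpec := by
    rw [hU₀.range_fromSpec]
    rintro _ ⟨r, rfl⟩
    have : f r ∈ (g ⁻¹ᵁ U₀ : Set X) := by rw [← hf]; exact ⟨r, rfl⟩
    exact this
  let f₁ : Spec R ⟶ Spec Γ(Y, U₀) := IsOpenImmersion.lift hU₀.fromSpec (f ≫ g) hsub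
  have hf₁ : f₁ ≫ hU₀.fromSpec = f ≫ g := IsOpenImmersion.lift_fac _ _ _
  obtain ⟨φ, hφ⟩ := Spec.map_surjective f₁
  let p : Spec Γ(Y, U₀) := hU₀.primeIdealOf ⟨y, hyU⟩
  have hp : hU₀.fromSpec p = y := hU₀.fromSpec_primeIdealOf ⟨y, hyU⟩
  have hpr : p ∉ Set.range (PrimeSpectrum.comap φ.hom) := by
    rintro ⟨q, hq⟩
    apply hy
    refine ⟨f q, ?_⟩
    have h1 : f₁ q = p := by rw [← hφ]; exact hq
    rw [← Scheme.Hom.comp_apply, ← hf₁, Scheme.Hom.comp_apply, h1, hp]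
  obtain ⟨a, ha1, ha2⟩ := exists_not_mem_of_not_mem_range φ.hom p hpr
  refine ⟨hU₀.fromSpec ''ᵁ (PrimeSpectrum.basicOpen a), ⟨p, ha1, hp⟩, ?_⟩
  rintro x ⟨p', hp'1, hp'2⟩ hspec
  have hxU : x ∈ (g ⁻¹ᵁ U₀ : Set X) := by
    change g x ∈ (U₀ : Set Y)
    rw [← hU₀.range_fromSpec, ← hp'2]
    exact ⟨p', rfl⟩
  rw [← hf] at hxU
  obtain ⟨q, rfl⟩ := hxU
  have h1 : f₁ q = p' := by
    apply hU₀.fromSpec.isOpenEmbedding.injective
    rw [← Scheme.Hom.comp_apply, hf₁, Scheme.Hom.comp_apply]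
    exact hp'2.symm
  have h2 : p ⤳ p' := by
    rw [← hp, ← hp'2] at hspec
    exact (hU₀.fromSpec.isOpenEmbedding.isInducing.specializes_iff).1 hspec
  have h2' : p.asIdeal ≤ p'.asIdeal :=
    (PrimeSpectrum.asIdeal_le_asIdeal p p').2 ((PrimeSpectrum.le_iff_specializes p p').2 h2)
  have h3 : PrimeSpectrum.comap φ.hom q = p' := by rw [← h1, ← hφ]; rfl
  apply hp'1
  change a ∈ p'.asIdeal
  rw [← h3]
  change φ.hom a ∈ q.asIdeal
  have h4 : p.asIdeal.map φ.hom ≤ q.asIdeal := by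
    rw [Ideal.map_le_iff_le_comap]
    intro b hb
    have : b ∈ p'.asIdeal := h2' hb
    rw [← h3] at this
    exact this
  exact h4 ha2

end Groth.Agent.Lib.Helper8QcMissOpen
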