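import Mathlib
import Groth.Prelude.Def_EtAcyc
import Groth.Agent.Lib.Helper8QcMissOpen
import Groth.Agent.Lib.Helper8EtSetClosed
import Groth.Agent.Lib.Helper8EtSepClosedPt

/-!
# (-1)-acyclic morphisms are the surjective ones (helper8)
-/

set_option autoImplicit false
open CategoryTheory CategoryTheory.Limits AlgebraicGeometry Opposite
universe u

namespace Groth.Agent.Lib.Helper8EtMinusOne

open Groth.Agent.Lib.Helper8EtSetStalk Groth.Agent.Lib.Helper8EtSetClosed

/-- surjective morphisms are (-1)-acyclic -/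
theorem minusOneAcyclic_of_surjective {X Y : Scheme.{u}} (g : X ⟶ Y)
    (hg : Function.Surjective g.base) : EtAcyc.IsMinusOneAcyclic g := by
  intro V F
  haveI : Surjective g := ⟨hg⟩
  haveI : Surjective (EtAcyc.prj g V) := by
    unfold EtAcyc.prj
    infer_instance
  haveI := faithful_pullSh (EtAcyc.prj g V)
  infer_instance

/-- a sheaf of sets on the spectrum of a separably closed field with two distinct global
sections -/
theorem exists_two_sections (Ω : Type u) [Field Ω] [IsSepClosed Ω] :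
    ∃ E : EtDesc.Sh (Spec (CommRingCat.of Ω)),
      ¬ Subsingleton (E.obj.obj (op (EtCoh.top (Spec (CommRingCat.of Ω))))) := by
  haveI := Groth.Agent.Lib.Helper8EtSepClosedPt.isEquivalence_sections Ω
  let Γ := (sheafSections (Spec (CommRingCat.of Ω)).smallEtaleTopology (Type (u + 1))).obj
    (op (EtCoh.top (Spec (CommRingCat.of Ω))))
  refine ⟨Γ.objPreimage (ULift.{u + 1} Bool), ?_⟩
  intro hsub
  let e : Γ.obj (Γ.objPreimage (ULift.{u + 1} Bool)) ≅ ULift.{u + 1} Bool :=
    Γ.objObjPreimageIso (ULift.{u + 1} Bool)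
  have h1 : e.inv ⟨true⟩ = e.inv ⟨false⟩ := hsub.elim _ _
  have h2 := congrArg e.hom h1
  have h3 : ∀ b : ULift.{u + 1} Bool, e.hom (e.inv b) = b := fun b => by
    rw [← ConcreteCategory.comp_apply, e.inv_hom_id]; rfl
  rw [h3, h3] at h2
  exact absurd (congrArg ULift.down h2) (by simp)

set_option backward.isDefEq.respectTransparency.types false in
theorem surjective_of_minusOneAcyclic {X Y : Scheme.{u}} (g : X ⟶ Y) [QuasiCompact g]
    (hg : EtAcyc.IsMinusOneAcyclic g) : Function.Surjective g.base := by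
  by_contra hns
  obtain ⟨y, hy⟩ : ∃ y, y ∉ Set.range g := by
    by_contra h
    push Not at h
    exact hns (fun y => h y)
  obtain ⟨U', hyU, hU'⟩ := Groth.Agent.Lib.Helper8QcMissOpen.exists_open_avoiding g y hy
  let V : Y.Etale := Scheme.Etale.mk U'.ι
  obtain ⟨g', hg'⟩ : ∃ g' : pullback U'.ι g ⟶ U'.toScheme, g' = EtAcyc.prj g V := ⟨_, rfl⟩
  let y' : U' := ⟨y, hyU⟩
  let T' : TopologicalSpace.Closeds U' := TopologicalSpace.Closeds.closure {y'}
  let I := Scheme.IdealSheafData.vanishingIdeal T'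
  have hri : Set.range I.subschemeι = closure {y'} := by
    rw [I.range_subschemeι, Scheme.IdealSheafData.coe_support_vanishingIdeal]
    rfl
  have hcl : IsClosed (Set.range I.subschemeι) := by rw [hri]; exact isClosed_closure
  obtain ⟨t₀, ht₀⟩ : y' ∈ Set.range I.subschemeι := by rw [hri]; exact subset_closure rfl
  obtain ⟨Ω, _, _, t, ht⟩ := exists_point_at t₀
  obtain ⟨E, hE⟩ := exists_two_sections Ω
  let F : EtDesc.Sh U'.toScheme := (EtDesc.pushSh I.subschemeι).obj ((EtDesc.pushSh t).obj E)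
  have hmono : Mono ((EtDesc.adjSh g').unit.app F) := by rw [hg']; exact hg V F
  -- the image of `g'` avoids the closure of `y'`
  have hdis : ∀ x' : ↥(pullback U'.ι g), g' x' ∉ closure {y'} := by
    intro x' hx'
    have hsp : y' ⤳ g' x' := specializes_iff_mem_closure.2 hx'
    have hsp2 : U'.ι y' ⤳ U'.ι (g' x') := hsp.map U'.ι.continuous
    have hc : U'.ι (g' x') = g ((pullback.snd U'.ι g) x') := by
      rw [hg', ← Scheme.Hom.comp_apply, ← Scheme.Hom.comp_apply]
      exact congrArg (fun m : pullback U'.ι g ⟶ Y => m x') pullback.condition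
    rw [hc] at hsp2
    refine hU' _ ?_ hsp2
    rw [← hc]
    exact (g' x').2
  have hsub : Subsingleton (((EtDesc.pullSh g').obj F).obj.obj
      (op ((EtCoh.bc g').obj (EtCoh.top U'.toScheme)))) := by
    constructor
    intro s₁ s₂
    refine section_ext_of_germs (fun _ : Unit => pullback U'.ι g) (fun _ => 𝟙 _)
      (fun x => ⟨(), x, rfl⟩) _ _ s₁ s₂ ?_
    rintro Φ ⟨_, Ω', _, _, ζ, rfl⟩ x
    have hu := unique_stalk_push_of_disjoint I.subschemeι hcl ((EtDesc.pushSh t).obj E)
      ((ζ ≫ 𝟙 _) ≫ g') (by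
        rw [Set.disjoint_left]
        rintro _ ⟨z, rfl⟩ hz
        rw [hri] at hz
        exact hdis _ hz)
    obtain ⟨hu2⟩ := unique_of_equiv ((stalkPullIso g' (ζ ≫ 𝟙 _)).app F).toEquiv hu
    exact (hu2.uniq _).trans (hu2.uniq _).symm
  have hinj : Function.Injective
      (((EtDesc.adjSh g').unit.app F).hom.app (op (EtCoh.top U'.toScheme))) := by
    have h1 : Mono ((EtDesc.adjSh g').unit.app F).hom :=
      (Sheaf.Hom.mono_iff_presheaf_mono _ _ _).1 hmono
    rw [NatTrans.mono_iff_mono_app] at h1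
    exact (mono_iff_injective _).1 (h1 (op (EtCoh.top U'.toScheme)))
  have hF : ¬ Subsingleton (F.obj.obj (op (EtCoh.top U'.toScheme))) := by
    intro h
    apply hE
    let e1 := (Groth.Agent.Lib.Helper8EtSepClosedPt.pushShSections I.subschemeι).app
      ((EtDesc.pushSh t).obj E)
    let e2 := (Groth.Agent.Lib.Helper8EtSepClosedPt.pushShSections t).app E
    exact @Equiv.subsingleton _ _ (e1 ≪≫ e2).toEquiv.symm h
  exact hF (@Function.Injective.subsingleton _ _ _ hinj hsub)

end Groth.Agent.Lib.Helper8EtMinusOne
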