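import Groth.Agent.Lib.Helper8EtConstrFp
import Groth.Agent.Lib.Helper8EtConstrSub

/-!
# Constructible torsion sheaves on a Noetherian scheme are the Noetherian objects (helper8)
-/

set_option autoImplicit false
set_option linter.style.haveILetI false
universe u
open CategoryTheory CategoryTheory.Limits AlgebraicGeometry Opposite

namespace Groth.Agent.Lib.Helper8EtNoethObj

open Groth.Agent.Lib.Helper8EtConstrColim Groth.Agent.Lib.Helper8EtTorsFilt
  Groth.Agent.Lib.Helper8EtConstrFp Groth.Agent.Lib.Helper16.EtStalk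

variable {X : Scheme.{u}}

section Converse

variable [CompactSpace X] [QuasiSeparatedSpace X] [IsLocallyNoetherian X]

/-- a torsion sheaf which is a Noetherian object is constructible -/
theorem isConstructible_of_isNoetherianObject (F : EtCoh.Ab X) (hF : EtCoh.IsTorsion F)
    [IsNoetherianObject F] : EtPBC.IsConstructible F := by
  obtain ⟨J, _, _, D, c, hc, hD, ⟨e⟩⟩ := exists_filtered_colimit_BC F hF
  -- the images of the pieces
  obtain ⟨S, hS⟩ : ∃ S : J → Subobject F, ∀ j, S j = imageSubobject (c.ι.app j ≫ e.hom) :=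
    ⟨_, fun _ => rfl⟩
  have hmono : ∀ {j k : J} (a : j ⟶ k), S j ≤ S k := by
    intro j k a
    rw [hS, hS]
    refine imageSubobject_le _ (D.map a ≫ factorThruImageSubobject (c.ι.app k ≫ e.hom)) ?_
    rw [Category.assoc, imageSubobject_arrow_comp, ← Category.assoc, c.w a]
  -- a maximal one
  haveI : Nonempty J := IsFiltered.nonempty
  obtain ⟨_, ⟨j₀, rfl⟩, hmax⟩ := (wellFounded_gt (α := Subobject F)).has_min (Set.range S)
    (Set.range_nonempty S)
  have hle : ∀ j, S j ≤ S j₀ := by
    intro j
    have h1 : S j ≤ S (IsFiltered.max j j₀) := hmono (IsFiltered.leftToMax j j₀)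
    have h2 : S j₀ ≤ S (IsFiltered.max j j₀) := hmono (IsFiltered.rightToMax j j₀)
    have h3 : ¬ S (IsFiltered.max j j₀) > S j₀ := hmax _ ⟨_, rfl⟩
    have h4 : S (IsFiltered.max j j₀) = S j₀ := by
      by_contra hne
      exact h3 (lt_of_le_of_ne h2 (Ne.symm hne))
    exact h4 ▸ h1
  -- the maximal piece surjects
  have hzero : ∀ j, (c.ι.app j ≫ e.hom) ≫ cokernel.π (c.ι.app j₀ ≫ e.hom) = 0 := by
    intro j
    have h0 : (S j₀).arrow ≫ cokernel.π (c.ι.app j₀ ≫ e.hom) = 0 := by
      rw [hS, ← cancel_epi (factorThruImageSubobject (c.ι.app j₀ ≫ e.hom)),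
        imageSubobject_arrow_comp_assoc, cokernel.condition, comp_zero]
    have h1 : c.ι.app j ≫ e.hom =
        (factorThruImageSubobject (c.ι.app j ≫ e.hom) ≫
          Subobject.ofLE _ _ ((hS j) ▸ hle j)) ≫ (S j₀).arrow := by
      rw [Category.assoc, Subobject.ofLE_arrow, imageSubobject_arrow_comp]
    rw [h1, Category.assoc, h0, comp_zero]
  haveI : Epi (c.ι.app j₀ ≫ e.hom) := by
    apply Abelian.epi_of_cokernel_π_eq_zero
    rw [← cancel_epi e.hom, comp_zero]
    apply hc.hom_ext
    intro j
    rw [comp_zero, ← Category.assoc]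
    exact hzero j
  exact Groth.Agent.Lib.Helper8EtConstrSub.isConstructible_of_epi (c.ι.app j₀ ≫ e.hom) (hD j₀).1

end Converse

section Direct

variable [CompactSpace X] [QuasiSeparatedSpace X] [IsLocallyNoetherian X]

instance pfc0 : PreservesFilteredColimitsOfSize.{0, 0} (forget AddCommGrpCat.{u + 1}) :=
  preservesFilteredColimitsOfSize_shrink.{0, u + 1, 0, u + 1} _

omit [CompactSpace X] [QuasiSeparatedSpace X] [IsLocallyNoetherian X] in
/-- the functor attached to a chain of subobjects -/
noncomputable def chainFunctor {F : EtCoh.Ab X} (f : ℕ →o Subobject F) : ℕ ⥤ EtCoh.Ab X :=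
  f.monotone.functor ⋙ Subobject.underlying

omit [CompactSpace X] [QuasiSeparatedSpace X] [IsLocallyNoetherian X] in
/-- the cocone of inclusions -/
noncomputable def chainCocone {F : EtCoh.Ab X} (f : ℕ →o Subobject F) : Cocone (chainFunctor f) where
  pt := F
  ι :=
    { app := fun n => (f n).arrow
      naturality := fun n m a => by
        dsimp [chainFunctor]
        rw [Category.comp_id]
        exact Subobject.underlying_arrow _ }

set_option backward.isDefEq.respectTransparency.types false in
/-- a constructible sheaf on a Noetherian scheme is a Noetherian object -/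
theorem isNoetherianObject_of_isConstructible (F : EtCoh.Ab X) (hF : EtPBC.IsConstructible F) :
    IsNoetherianObject F := by
  rw [isNoetherianObject_iff_monotone_chain_condition]
  intro f
  haveI : HasColimitsOfShape ℕ (EtCoh.Ab X) := EtTens.hasColimitsOfSize0.has_colimits_of_shape ℕ
  obtain ⟨d, hd⟩ : ∃ d : colimit (chainFunctor f) ⟶ F,
      d = colimit.desc (chainFunctor f) (chainCocone f) := ⟨_, rfl⟩
  have hιd : ∀ n, colimit.ι (chainFunctor f) n ≫ d = (f n).arrow := by
    intro n
    rw [hd]
    exact colimit.ι_desc _ _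
  have hI : EtPBC.IsConstructible (Abelian.image d) :=
    Groth.Agent.Lib.Helper8EtConstrSub.isConstructible_of_mono (Abelian.image.ι d) hF
  have hmono : ∀ n, @Mono _ _ ((chainFunctor f).obj n) F (f n).arrow :=
    fun n => Subobject.arrow_mono _
  have hDc : ∀ n, EtPBC.IsConstructible ((chainFunctor f).obj n) := fun n =>
    haveI := hmono n
    Groth.Agent.Lib.Helper8EtConstrSub.isConstructible_of_mono (f n).arrow hF
  obtain ⟨N, hN⟩ := exists_epi_of_directed (Abelian.image d) (fun n : ℕ => (chainFunctor f).obj n)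
    (fun n => colimit.ι (chainFunctor f) n ≫ Abelian.factorThruImage d) hI hDc
    (fun S => by
      obtain ⟨N, hN⟩ : ∃ N : ℕ, ∀ s ∈ S, s ≤ N :=
        ⟨S.sup id, fun s hs => Finset.le_sup (f := id) hs⟩
      refine ⟨N, fun s hs => ⟨(chainFunctor f).map (homOfLE (hN s hs)), ?_⟩⟩
      rw [← Category.assoc, colimit.w])
    (fun {Ω} _ _ ξ t => by
      haveI : PreservesColimitsOfSize.{0, 0} (EtCoh.stalk ξ) :=
        ((Scheme.pointSmallEtale ξ).skyscraperSheafAdjunction
          (A := AddCommGrpCat.{u + 1})).leftAdjoint_preservesColimits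
      have hepi : Epi ((EtCoh.stalk ξ).map (Abelian.factorThruImage d)) := inferInstance
      obtain ⟨t', rfl⟩ := (AddCommGrpCat.epi_iff_surjective _).mp hepi t
      have hcol := isColimitOfPreserves (EtCoh.stalk ξ ⋙ forget AddCommGrpCat.{u + 1})
        (colimit.isColimit (chainFunctor f))
      obtain ⟨n, y, hy⟩ := Types.jointly_surjective_of_isColimit hcol t'
      refine ⟨n, y, ?_⟩
      rw [Functor.map_comp]
      exact congrArg ((EtCoh.stalk ξ).map (Abelian.factorThruImage d)) hy)
  haveI : Epi (colimit.ι (chainFunctor f) N ≫ Abelian.factorThruImage d) := hN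
  -- the `N`-th piece is everything
  have hfac : ∀ m, (colimit.ι (chainFunctor f) m ≫ Abelian.factorThruImage d) ≫
      Abelian.image.ι d = (f m).arrow := by
    intro m
    rw [Category.assoc, Abelian.image.fac, hιd]
  haveI := hmono N
  haveI : Mono (colimit.ι (chainFunctor f) N ≫ Abelian.factorThruImage d) :=
    mono_of_mono_fac (hfac N)
  haveI : IsIso (colimit.ι (chainFunctor f) N ≫ Abelian.factorThruImage d) :=
    isIso_of_mono_of_epi _
  obtain ⟨u, hu⟩ : ∃ u : Abelian.image d ⟶ (chainFunctor f).obj N,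
      u = inv (colimit.ι (chainFunctor f) N ≫ Abelian.factorThruImage d) := ⟨_, rfl⟩
  have h1 : u ≫ (f N).arrow = Abelian.image.ι d := by
    rw [hu, IsIso.inv_comp_eq]
    exact (hfac N).symm
  refine ⟨N, fun m hm => le_antisymm (f.monotone hm) ?_⟩
  refine Subobject.le_of_comm ((colimit.ι (chainFunctor f) m ≫ Abelian.factorThruImage d) ≫ u) ?_
  rw [Category.assoc]
  erw [h1]
  exact hfac m

end Direct

/-- **Stacks 09YV** -/
theorem isConstructible_iff_isNoetherianObject [IsNoetherian X] (F : EtCoh.Ab X)
    (hF : EtCoh.IsTorsion F) : EtPBC.IsConstructible F ↔ IsNoetherianObject F :=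
  ⟨fun h => isNoetherianObject_of_isConstructible F h,
    fun h => haveI := h; isConstructible_of_isNoetherianObject F hF⟩

end Groth.Agent.Lib.Helper8EtNoethObj
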