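import Mathlib
import Groth.Prelude.Def_SGA4b
import Groth.Agent.Lib.Helper16SmallEtale

/-!
# Direct image of étale sheaves along an open immersion is fully faithful (helper8)

For an étale monomorphism `j : U ⟶ X` the base change functor `X_et ⥤ U_et` is cover-dense and
locally full, hence `j_*` is fully faithful (for any coefficient category) and the counit
`j^* j_* F ⟶ F` is an isomorphism.
-/

set_option autoImplicit false
universe u
open CategoryTheory CategoryTheory.Limits AlgebraicGeometry Opposite

namespace Groth.Agent.Lib.Helper8EtOpenPush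

open Groth.Agent.Lib.Helper16.SmallEtale

variable {U X : Scheme.{u}} (j : U ⟶ X) [Etale j] [Mono j]

/-- the base change of a monomorphism along a morphism factoring through it is an isomorphism -/
lemma isIso_fst_of_mono {W : Scheme.{u}} (g : W ⟶ X) (s : W ⟶ U) (hs : s ≫ j = g) :
    IsIso (pullback.fst g j) := by
  refine ⟨pullback.lift (𝟙 W) s (by rw [Category.id_comp, hs]), ?_, pullback.lift_fst _ _ _⟩
  apply pullback.hom_ext
  · rw [Category.assoc, pullback.lift_fst, Category.comp_id, Category.id_comp]
  · rw [Category.assoc, pullback.lift_snd, Category.id_comp, ← cancel_mono j, Category.assoc, hs,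
      pullback.condition]

set_option backward.isDefEq.respectTransparency false in
theorem exists_almost_full (V V' : X.Etale) (h : (EtCoh.bc j).obj V ⟶ (EtCoh.bc j).obj V') :
    ∃ (W : X.Etale) (a : W ⟶ V) (b : W ⟶ V'),
      IsIso ((EtCoh.bc j).map a) ∧ (EtCoh.bc j).map a ≫ h = (EtCoh.bc j).map b := by
  haveI : Etale V.hom := V.prop
  haveI : Etale V'.hom := V'.prop
  have hhw : h.left ≫ pullback.snd V'.hom j = pullback.snd V.hom j := Over.w h.hom
  let W : X.Etale := Scheme.Etale.mk (pullback.fst V.hom j ≫ V.hom)
  let a : W ⟶ V := MorphismProperty.Over.homMk (pullback.fst V.hom j) rfl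
  let b : W ⟶ V' := MorphismProperty.Over.homMk (h.left ≫ pullback.fst V'.hom j) (by
    change (h.left ≫ pullback.fst V'.hom j) ≫ V'.hom = pullback.fst V.hom j ≫ V.hom
    rw [Category.assoc, pullback.condition (f := V'.hom) (g := j), ← Category.assoc, hhw,
      ← pullback.condition])
  have hWhom : W.hom = pullback.fst V.hom j ≫ V.hom := rfl
  haveI : IsIso (pullback.fst W.hom j) :=
    isIso_fst_of_mono j W.hom (pullback.snd V.hom j) (by rw [hWhom]; exact pullback.condition.symm)
  have ha : ((EtCoh.bc j).map a).left = pullback.fst W.hom j := by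
    apply pullback.hom_ext
    · rw [bc_map_left_fst]
      rfl
    · rw [bc_map_left_snd, ← cancel_mono j, Category.assoc, ← pullback.condition (f := V.hom),
        ← hWhom]
      exact pullback.condition.symm
  refine ⟨W, a, b, ?_, ?_⟩
  · haveI : IsIso ((Scheme.Etale.forget U ⋙ Over.forget U).map ((EtCoh.bc j).map a)) := by
      change IsIso ((EtCoh.bc j).map a).left
      rw [ha]
      infer_instance
    exact isIso_of_reflects_iso _ (Scheme.Etale.forget U ⋙ Over.forget U)
  · apply (Scheme.Etale.forget U).map_injective
    apply Over.OverMorphism.ext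
    change ((EtCoh.bc j).map a).left ≫ h.left = ((EtCoh.bc j).map b).left
    apply pullback.hom_ext
    · rw [bc_map_left_fst, ha]
      rfl
    · rw [bc_map_left_snd, Category.assoc, hhw, bc_map_left_snd]

instance isLocallyFull_bc : (EtCoh.bc j).IsLocallyFull U.smallEtaleTopology where
  functorPushforward_imageSieve_mem {V V'} h := by
    obtain ⟨W, a, b, ha, hab⟩ := exists_almost_full j V V' h
    haveI := ha
    have hmem : ((EtCoh.bc j).imageSieve h).functorPushforward (EtCoh.bc j) ((EtCoh.bc j).map a) :=
      Sieve.image_mem_functorPushforward _ _ ⟨b, hab.symm⟩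
    have htop : ((EtCoh.bc j).imageSieve h).functorPushforward (EtCoh.bc j) = ⊤ := by
      rw [← Sieve.id_mem_iff_eq_top]
      have := (((EtCoh.bc j).imageSieve h).functorPushforward (EtCoh.bc j)).downward_closed hmem
        (inv ((EtCoh.bc j).map a))
      rwa [IsIso.inv_hom_id] at this
    rw [htop]
    exact U.smallEtaleTopology.top_mem _

set_option backward.isDefEq.respectTransparency false in
instance isCoverDense_bc : (EtCoh.bc j).IsCoverDense U.smallEtaleTopology where
  is_cover W := by
    haveI : Etale W.hom := W.prop
    let V : X.Etale := Scheme.Etale.mk (W.hom ≫ j)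
    have hVhom : V.hom = W.hom ≫ j := rfl
    haveI : IsIso (pullback.fst V.hom j) := isIso_fst_of_mono j V.hom W.hom hVhom.symm
    let g : (EtCoh.bc j).obj V ⟶ W := MorphismProperty.Over.homMk (pullback.fst V.hom j) (by
      change pullback.fst V.hom j ≫ W.hom = pullback.snd V.hom j
      rw [← cancel_mono j, Category.assoc, ← hVhom]
      exact pullback.condition)
    haveI : IsIso g := by
      haveI : IsIso ((Scheme.Etale.forget U ⋙ Over.forget U).map g) := by
        change IsIso (pullback.fst V.hom j)
        infer_instance
      exact isIso_of_reflects_iso _ (Scheme.Etale.forget U ⋙ Over.forget U)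
    have hmem : Sieve.coverByImage (EtCoh.bc j) W g := Presieve.in_coverByImage _ g
    have htop : Sieve.coverByImage (EtCoh.bc j) W = ⊤ := by
      rw [← Sieve.id_mem_iff_eq_top]
      have := (Sieve.coverByImage (EtCoh.bc j) W).downward_closed hmem (inv g)
      rwa [IsIso.inv_hom_id] at this
    rw [htop]
    exact U.smallEtaleTopology.top_mem _

variable (A : Type*) [Category A]

theorem full_push [HasLimitsOfSize.{u, u + 1} A] :
    ((EtCoh.bc j).sheafPushforwardContinuous A X.smallEtaleTopology U.smallEtaleTopology).Full :=
  Functor.IsCoverDense.full_sheafPushforwardContinuous (G := EtCoh.bc j)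
    (J := X.smallEtaleTopology) (K := U.smallEtaleTopology) (A := A)

theorem faithful_push :
    ((EtCoh.bc j).sheafPushforwardContinuous A X.smallEtaleTopology U.smallEtaleTopology).Faithful :=
  Functor.IsCoverDense.faithful_sheafPushforwardContinuous (G := EtCoh.bc j)
    (J := X.smallEtaleTopology) (K := U.smallEtaleTopology) (A := A)

theorem full_pushSh : (EtDesc.pushSh j).Full := full_push j _

theorem faithful_pushSh : (EtDesc.pushSh j).Faithful := faithful_push j _

theorem isIso_counit (F : EtDesc.Sh U) : IsIso ((EtDesc.adjSh j).counit.app F) := by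
  haveI := full_pushSh j
  haveI := faithful_pushSh j
  infer_instance

end Groth.Agent.Lib.Helper8EtOpenPush
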