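import Groth.Agent.Lib.Helper8EtRpushTors
import Groth.Agent.Lib.Helper8GalCohTors
import Groth.Agent.Lib.Helper8EtHofPushInj
import Groth.Agent.S0071

/-!
# Direct images from a point: `R^q i_{x*} F` and `H^q(X, i_{x*} F)` are torsion for `q ≥ 1`
(helper8)
-/

set_option autoImplicit false
universe u
open CategoryTheory CategoryTheory.Limits AlgebraicGeometry Opposite Abelian

namespace Groth.Agent.Lib.Helper8EtPointPushTors

open Groth.Agent.Lib.Helper9.EtMV Groth.Agent.Lib.Helper9.EtPull
open Groth.Agent.Lib.Helper8EtRpushTors Groth.Agent.Lib.Helper8EtZarAcyc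

theorem locallyQuasiFinite_of_etale {X S : Scheme.{u}} (f : X ⟶ S) [Etale f] :
    LocallyQuasiFinite f := by
  constructor
  intro U hU V hV e
  have h1 := f.etale_appLE hU hV e
  algebraize [(f.appLE U V e).hom]
  have : Algebra.Etale Γ(S, U) Γ(X, V) := h1
  exact RingHom.quasiFinite_algebraMap.mpr inferInstance

/-- cohomology in positive degrees of a scheme finite over a field is torsion -/
theorem isOfFinAddOrder_of_finite (k : Type u) [Field k] {T : Scheme.{u}}
    (j : T ⟶ Spec (CommRingCat.of k)) [IsFinite j] (G : EtCoh.Ab T) (n : ℕ) (hn : 0 < n)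
    (z : EtCoh.H T G n) : IsOfFinAddOrder z := by
  haveI : PreservesFiniteLimits (EtCoh.pull j) := Groth.Agent.S0101.result j
  have hb := Groth.Agent.Lib.Helper9.HofPush.HofPush_bijective j G
    (fun q hq => Groth.Agent.S0071.result j G q hq) n
  obtain ⟨w, rfl⟩ := hb.2 z
  have hw := Groth.Agent.Lib.Helper8GalCohTors.isOfFinAddOrder k ((EtCoh.push j).obj G) n hn w
  exact (EtLim.HofPush j G n).isOfFinAddOrder hw

set_option backward.isDefEq.respectTransparency.types false in
theorem extTors_of_point {X : Scheme.{u}} [QuasiSeparatedSpace X] (x : X)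
    (F : EtCoh.Ab (Spec (X.residueField x))) (q : ℕ) :
    ExtTors (X.fromSpecResidueField x) (q + 1) F := by
  intro W hW y
  haveI : IsAffine W.left := hW
  let T : (Spec (X.residueField x)).Etale := (EtCoh.bc (X.fromSpecResidueField x)).obj W
  haveI : Etale T.hom := T.prop
  haveI : QuasiCompact W.hom := quasiCompact_of_compactSpace (X := W.left) (Y := X) W.hom
  haveI : QuasiCompact T.hom :=
    MorphismProperty.pullback_snd (P := @QuasiCompact) _ _ inferInstance
  haveI : LocallyQuasiFinite T.hom :=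
    locallyQuasiFinite_of_etale T.hom
  haveI : IsLocallyArtinian (Spec (X.residueField x)) :=
    Scheme.isLocallyArtinianScheme_Spec.mpr inferInstance
  haveI : IsFinite T.hom :=
    IsFinite.of_locallyQuasiFinite (Y := Spec (X.residueField x)) T.hom
  haveI : EtShriek.JCont T.hom := Groth.Agent.Lib.Helper9.JContAll.jCont T.hom
  haveI : PreservesFiniteLimits (EtCoh.pull T.hom) := Groth.Agent.S0101.result T.hom
  let e : obj T.hom ≅ T := MorphismProperty.Over.isoMk (Iso.refl _) (by
    simp only [Iso.refl_hom]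
    exact (Category.id_comp _).trans (Category.id_comp _).symm)
  have htors := isOfFinAddOrder_of_finite (X.residueField x) T.hom ((EtCoh.pull T.hom).obj F)
    (q + 1) (Nat.succ_pos q)
  obtain ⟨m, hm, hmx⟩ := isOfFinAddOrder_iff_nsmul_eq_zero.1
    (htors (Phi T.hom F (q + 1) ((Ext.mk₀ (ZhIso e).hom).comp y (zero_add (q + 1)))))
  rw [isOfFinAddOrder_iff_nsmul_eq_zero]
  refine ⟨m, hm, ?_⟩
  rw [← map_nsmul, ← comp_nsmul] at hmx
  have h0 : (Ext.mk₀ (ZhIso e).hom).comp (m • y) (zero_add (q + 1)) = 0 := by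
    apply (Phi T.hom F (q + 1)).injective
    rw [hmx, map_zero]
  apply ext_precomp_iso_injective (ZhIso e) (q + 1)
  change (Ext.mk₀ (ZhIso e).hom).comp (m • y) (zero_add (q + 1)) =
    (Ext.mk₀ (ZhIso e).hom).comp 0 (zero_add (q + 1))
  rw [h0, Ext.comp_zero]

/-- `R^q i_{x*} F` is torsion for `q ≥ 1` -/
theorem isTorsion_Rpush_point {X : Scheme.{u}} [QuasiSeparatedSpace X] (x : X)
    (F : EtCoh.Ab (Spec (X.residueField x))) (q : ℕ) :
    EtCoh.IsTorsion ((EtCoh.Rpush (X.fromSpecResidueField x) (q + 1)).obj F) :=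
  isTorsion_Rpush_succ _ q F (extTors_of_point x F q)

section Coker

open Groth.Agent.Lib.Helper9.EtFlasque Groth.Agent.Lib.Helper16.SmallEtale
  Groth.Agent.Lib.Helper8EtTorsion

variable {X Y : Scheme.{u}} (f : X ⟶ Y)

/-- any quotient of `f_* S.X₃` killing the image of `f_* S.X₂` is torsion, if `Ext¹(ℤ[f⁻¹W], S.X₁)`
is torsion for all affine étale `W`. -/
theorem isTorsion_of_epi_of_comp_zero (S : ShortComplex (EtCoh.Ab X)) (hS : S.ShortExact)
    (h : ExtTors f 1 S.X₁) {C : EtCoh.Ab Y} (δ' : (EtCoh.push f).obj S.X₃ ⟶ C) [Epi δ']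
    (hz : (EtCoh.push f).map S.g ≫ δ' = 0) : EtCoh.IsTorsion C := by
  intro V s y
  haveI : Sheaf.IsLocallySurjective δ' := (Sheaf.isLocallySurjective_iff_epi' _ δ').2 inferInstance
  have hcov := Presheaf.imageSieve_mem Y.smallEtaleTopology δ'.hom s
  obtain ⟨V', g, v', ⟨t, ht⟩, hv'⟩ := (mem_smallEtale_iff V _).1 hcov y
  obtain ⟨W, k, w, hW, hw⟩ := exists_affine_nbhd V' v'
  refine ⟨W, k ≫ g, ⟨w, ?_⟩, ?_⟩
  · rw [← hv', ← hw]
    rfl
  · -- restriction of `t` to `W`
    let t' : EtCoh.sect S.X₃ ((EtCoh.bc f).obj W) :=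
      (((EtCoh.push f).obj S.X₃).obj.map k.op).hom t
    obtain ⟨m, hm, hmx⟩ := isOfFinAddOrder_iff_nsmul_eq_zero.1
      (h W hW ((Ext.mk₀ ((zhEquiv _ S.X₃).symm t')).comp hS.extClass (zero_add 1)))
    obtain ⟨r, hr⟩ := exists_lift_nsmul S hS _ t' m hmx
    have h1 : (C.obj.map (k ≫ g).op).hom s = (δ'.hom.app (op W)).hom t' := by
      have hnat := congrArg (fun q => q.hom t) (δ'.hom.naturality k.op)
      change (δ'.hom.app (op W)).hom ((((EtCoh.push f).obj S.X₃).obj.map k.op).hom t) =
        (C.obj.map k.op).hom ((δ'.hom.app (op V')).hom t) at hnat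
      rw [hnat, ht]
      change _ = (C.obj.map g.op ≫ C.obj.map k.op).hom s
      rw [← C.obj.map_comp]
      rfl
    change IsOfFinAddOrder ((C.obj.map (k ≫ g).op).hom s)
    rw [h1, isOfFinAddOrder_iff_nsmul_eq_zero]
    refine ⟨m, hm, ?_⟩
    rw [← map_nsmul]
    have h2 : m • t' = (((EtCoh.push f).map S.g).hom.app (op W)).hom r := hr.symm
    have h3 := congrArg (fun q : (EtCoh.push f).obj S.X₂ ⟶ C =>
      (q.hom.app (op W)).hom r) hz
    exact (congrArg (fun z => (δ'.hom.app (op W)).hom z) h2).trans h3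

end Coker

section Main

open Groth.Agent.Lib.Helper16.DimShift Groth.Agent.Lib.Helper8EtHofPushInj
  Groth.Agent.Lib.Helper8EtTorsion

variable {X : Scheme.{u}} [CompactSpace X] [QuasiSeparatedSpace X] (x : X)

/-- `H^q(X, i_{x*} F)` is torsion for `q ≥ 1` -/
theorem isOfFinAddOrder_H_push_point (q : ℕ) :
    ∀ (F : EtCoh.Ab (Spec (X.residueField x)))
      (z : EtCoh.H X ((EtCoh.push (X.fromSpecResidueField x)).obj F) (q + 1)),
      IsOfFinAddOrder z := by
  haveI : PreservesFiniteLimits (EtCoh.pull (X.fromSpecResidueField x)) :=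
    Groth.Agent.S0101.result _
  induction q with
  | zero =>
    intro F z
    have hinj := HofPush_one_injective (X.fromSpecResidueField x) F
    have hw := Groth.Agent.Lib.Helper8GalCohTors.isOfFinAddOrder (X.residueField x) F 1
      Nat.one_pos (EtLim.HofPush (X.fromSpecResidueField x) F 1 z)
    rw [isOfFinAddOrder_iff_nsmul_eq_zero] at hw ⊢
    obtain ⟨m, hm, hmz⟩ := hw
    refine ⟨m, hm, hinj ?_⟩
    rw [map_nsmul, hmz, map_zero]
  | succ q ih =>
    intro F z
    let i := X.fromSpecResidueField x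
    let P := EtCoh.push i
    let adj := EtCoh.pullPushAdj i
    haveI : PreservesLimitsOfSize.{0, 0} P := adj.rightAdjoint_preservesLimits
    let I : InjectiveResolution F := injectiveResolution F
    let S : ShortComplex (EtCoh.Ab (Spec (X.residueField x))) :=
      ShortComplex.mk (X₁ := F) (I.ι.f 0) (gg I 0) (ff_gg I 0)
    have hS : S.ShortExact := shortExact_ofResolution I 0
    haveI hinj : Injective S.X₂ := inferInstanceAs (Injective (I.cocomplex.X 0))
    haveI : Injective (P.obj S.X₂) := adj.map_injective _ hinj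
    have hzero : P.map S.f ≫ P.map S.g = 0 := by rw [← P.map_comp, S.zero, P.map_zero]
    haveI : Mono S.f := hS.mono_f
    haveI : Mono (P.map S.f) := inferInstance
    let S' : ShortComplex (EtCoh.Ab X) :=
      ShortComplex.mk (P.map S.f) (cokernel.π (P.map S.f)) (cokernel.condition _)
    have hS' : S'.ShortExact := { exact := ShortComplex.exact_cokernel _ }
    let m : cokernel (P.map S.f) ⟶ P.obj S.X₃ := cokernel.desc _ (P.map S.g) hzero
    have hexact : (S.map P).Exact :=
      hS.exact.map_of_mono_of_preservesKernel P hS.mono_f inferInstance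
    haveI : Mono m := hexact.mono_cokernelDesc
    let S'' : ShortComplex (EtCoh.Ab X) :=
      ShortComplex.mk m (cokernel.π m) (cokernel.condition _)
    have hS'' : S''.ShortExact := { exact := ShortComplex.exact_cokernel _ }
    have hC : EtCoh.IsTorsion (cokernel m) :=
      isTorsion_of_epi_of_comp_zero i S hS (extTors_of_point x F 0) (cokernel.π m) (by
        rw [← cokernel.π_desc (P.map S.f) (P.map S.g) hzero, Category.assoc,
          cokernel.condition, comp_zero])
    change Ext.{u + 1} (EtCoh.const X ℤ) (P.obj F) (q + 1 + 1) at z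
    have h1 : z.comp (Ext.mk₀ S'.f) (add_zero _) = 0 :=
      Ext.eq_zero_of_injective (I := P.obj S.X₂) _
    obtain ⟨y, hy⟩ := Ext.covariant_sequence_exact₁ _ hS' z h1 (rfl : q + 1 + 1 = q + 1 + 1)
    have hy2 := ih S.X₃ (y.comp (Ext.mk₀ m) (add_zero _))
    obtain ⟨m₁, hm₁, h₁⟩ := isOfFinAddOrder_iff_nsmul_eq_zero.1 hy2
    have h₁' : (m₁ • y).comp (Ext.mk₀ S''.f) (add_zero _) = 0 := by
      rw [nsmul_comp]; exact h₁
    obtain ⟨c, hc⟩ := Ext.covariant_sequence_exact₁ _ hS'' (m₁ • y) h₁' (rfl : q + 1 = q + 1)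
    obtain ⟨m₂, hm₂, h₂⟩ := isOfFinAddOrder_iff_nsmul_eq_zero.1
      (isAddTorsion_H (X := X) (F := cokernel m) hC q c)
    rw [isOfFinAddOrder_iff_nsmul_eq_zero]
    refine ⟨m₂ * m₁, Nat.mul_pos hm₂ hm₁, ?_⟩
    rw [← hy, ← nsmul_comp, mul_nsmul', ← hc, ← nsmul_comp, h₂, Ext.zero_comp, Ext.zero_comp]

end Main

end Groth.Agent.Lib.Helper8EtPointPushTors
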