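import Mathlib
import Groth.Prelude.Def_BigSite
import Groth.Agent.Lib.Helper8EtPropBIntegral
import Groth.Agent.Lib.Helper8EtGeomPtPush
import Groth.Agent.Lib.Helper12PullbackPts

/-!
# Condition (C) for integral morphisms injective on points (helper8)
-/

set_option autoImplicit false
universe u

open CategoryTheory CategoryTheory.Limits AlgebraicGeometry

namespace Groth.Agent.Lib.Helper8EtPropC

open Groth.Agent.Lib.Helper8EtPropBIntegral

/-- gluing morphisms along an open cover whose members have pairwise disjoint images -/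
theorem glue_disjoint_cover {Q T : Scheme.{u}} (𝒰 : Q.OpenCover)
    (hdisj : ∀ i j, i ≠ j → ∀ (x : 𝒰.X i) (y : 𝒰.X j), 𝒰.f i x ≠ 𝒰.f j y)
    (h : ∀ i, 𝒰.X i ⟶ T) : ∃ a : Q ⟶ T, ∀ i, 𝒰.f i ≫ a = h i := by
  classical
  have hcompat : ∀ i j, pullback.fst (𝒰.f i) (𝒰.f j) ≫ h i = pullback.snd _ _ ≫ h j := by
    intro i j
    by_cases hij : i = j
    · subst hij
      have : pullback.fst (𝒰.f i) (𝒰.f i) = pullback.snd _ _ :=
        (cancel_mono (𝒰.f i)).mp pullback.condition
      rw [this]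
    · haveI : IsEmpty ↥(pullback (𝒰.f i) (𝒰.f j)) := by
        constructor
        intro z
        apply hdisj i j hij (pullback.fst (𝒰.f i) (𝒰.f j) z) (pullback.snd (𝒰.f i) (𝒰.f j) z)
        rw [← Scheme.Hom.comp_apply, ← Scheme.Hom.comp_apply, pullback.condition]
      exact (isInitialOfIsEmpty (X := pullback (𝒰.f i) (𝒰.f j))).hom_ext _ _
  exact ⟨𝒰.glueMorphisms h hcompat, fun i => 𝒰.ι_glueMorphisms h hcompat i⟩

/-- the local form of condition (C) for an integral morphism injective on points -/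
theorem local_propC {X Y : Scheme.{u}} (f : X ⟶ Y) [IsIntegralHom f]
    (hinj : Function.Injective f) (U : Scheme.{u}) (g : U ⟶ X) [Etale g] (u : U) :
    ∃ (V : Scheme.{u}) (v : V ⟶ Y) (_ : Etale v) (k : pullback f v ⟶ U),
      k ≫ g = pullback.fst f v ∧ u ∈ Set.range k := by
  haveI : LocallyQuasiFinite g := Groth.Agent.Lib.Helper8EtGeomPtPush.locallyQuasiFinite_of_etale g
  have hdisc := g.isDiscrete_preimage_singleton (g u)
  rw [isDiscrete_iff_forall_mem_exists_isOpen] at hdisc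
  obtain ⟨O, hO, hOs⟩ := hdisc u rfl
  let O' : U.Opens := ⟨O, hO⟩
  have huO : u ∈ O' := by
    have : u ∈ O ∩ g ⁻¹' {g u} := by rw [hOs]; rfl
    exact this.1
  let G : (O' : Scheme.{u}) ⟶ X := O'.ι ≫ g
  have hcov : ∀ x' : X, f x' = f (g u) → x' ∈ Set.range G := by
    intro x' hx'
    refine ⟨⟨u, huO⟩, ?_⟩
    rw [hinj hx']
    rfl
  obtain ⟨V₂, v₂, hv₂, y₂, hy₂, H⟩ := decomp_integral f G (f (g u)) hcov
  obtain ⟨n, W, hdisj, hsup, hW⟩ := H (pullback f v₂) (pullback.fst f v₂) (pullback.snd f v₂)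
    (IsPullback.of_hasPullback f v₂)
  choose h hh using hW
  let 𝒰 : (pullback f v₂).OpenCover := (pullback f v₂).openCoverOfIsOpenCover W hsup
  obtain ⟨a, ha⟩ := glue_disjoint_cover (T := U) 𝒰 (by
    intro i j hij x y hxy
    have h1 : (W i).ι x ∈ W i := by
      have : (W i).ι x ∈ Set.range (W i).ι := ⟨x, rfl⟩
      rwa [Scheme.Opens.range_ι] at this
    have h2 : (W j).ι y ∈ W j := by
      have : (W j).ι y ∈ Set.range (W j).ι := ⟨y, rfl⟩
      rwa [Scheme.Opens.range_ι] at this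
    have h3 : (W i).ι x = (W j).ι y := hxy
    rw [h3] at h1
    exact (hdisj i j hij).le_bot ⟨h1, h2⟩) (fun k => h k ≫ O'.ι)
  have hag : a ≫ g = pullback.fst f v₂ := by
    apply 𝒰.hom_ext
    intro k
    have e1 : 𝒰.f k ≫ a = h k ≫ O'.ι := ha k
    rw [← Category.assoc, e1]
    exact (Category.assoc _ _ _).trans (hh k)
  refine ⟨V₂, v₂, hv₂, a, hag, ?_⟩
  obtain ⟨z, hz1, hz2⟩ := Scheme.Pullback.exists_preimage_pullback (f := f) (g := v₂)
    (g u) y₂ hy₂.symm
  refine ⟨z, ?_⟩
  have hmem : a z ∈ O ∩ g ⁻¹' {g u} := by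
    constructor
    · have hzW : z ∈ (⊤ : (pullback f v₂).Opens) := trivial
      rw [← hsup] at hzW
      obtain ⟨k, hk⟩ := TopologicalSpace.Opens.mem_iSup.mp hzW
      obtain ⟨z', hz'⟩ : z ∈ Set.range (W k).ι := by rwa [Scheme.Opens.range_ι]
      have e1 : 𝒰.f k ≫ a = h k ≫ O'.ι := ha k
      have e2 : a z = O'.ι (h k z') := by
        rw [← hz', ← Scheme.Hom.comp_apply, ← Scheme.Hom.comp_apply]
        exact congrArg (fun m : ((W k : (pullback f v₂).Opens) : Scheme.{u}) ⟶ U => m z') e1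
      rw [e2]
      exact (h k z').2
    · change g (a z) = g u
      rw [← Scheme.Hom.comp_apply, hag, hz1]
  rw [hOs] at hmem
  exact hmem

/-- condition (C) follows from its local form -/
theorem propC_of_local {X Y : Scheme.{u}} (f : X ⟶ Y)
    (H : ∀ (U : Scheme.{u}) (g : U ⟶ X) [Etale g] (u : U),
      ∃ (V : Scheme.{u}) (v : V ⟶ Y) (_ : Etale v) (k : pullback f v ⟶ U),
        k ≫ g = pullback.fst f v ∧ u ∈ Set.range k) : BigSite.PropC f := by
  intro U g _
  choose Vf vf hvf kf hk1 hk2 using fun u : U => H U g u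
  haveI : ∀ u, Etale (vf u) := hvf
  let V : Scheme.{u} := ∐ Vf
  let v : V ⟶ Y := Sigma.desc vf
  haveI : Etale v := IsZariskiLocalAtSource.sigmaDesc (P := @Etale) (fun i => inferInstance)
  have hιv : ∀ u, Sigma.ι Vf u ≫ v = vf u := fun u => Sigma.ι_desc _ _
  let j : ∀ u : U, pullback f (vf u) ⟶ pullback f v := fun u =>
    pullback.map f (vf u) f v (𝟙 X) (Sigma.ι Vf u) (𝟙 Y) (by simp) (by simp [hιv u])
  have hj1 : ∀ u, j u ≫ pullback.fst f v = pullback.fst f (vf u) := fun u =>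
    (pullback.lift_fst _ _ _).trans (Category.comp_id _)
  have hj2 : ∀ u, j u ≫ pullback.snd f v = pullback.snd f (vf u) ≫ Sigma.ι Vf u := fun u =>
    pullback.lift_snd _ _ _
  have sq : ∀ u, IsPullback (j u) (pullback.snd f (vf u)) (pullback.snd f v) (Sigma.ι Vf u) := by
    intro u
    refine IsPullback.of_right ?_ (hj2 u) (IsPullback.of_hasPullback f v)
    rw [hj1 u]
    have := IsPullback.of_hasPullback f (vf u)
    exact (congrArg (fun m => IsPullback (pullback.fst f (vf u)) (pullback.snd f (vf u)) f m)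
      (hιv u)).mpr this
  haveI : ∀ u, IsOpenImmersion (j u) := fun u =>
    MorphismProperty.of_isPullback (P := @IsOpenImmersion) (sq u).flip inferInstance
  have hcovers : ∀ q : ↥(pullback f v), ∃ (u : U) (z : ↥(pullback f (vf u))), j u z = q := by
    intro q
    obtain ⟨⟨u, y⟩, hy⟩ := (sigmaMk Vf).surjective (pullback.snd f v q)
    rw [sigmaMk_mk] at hy
    obtain ⟨z, hz, -⟩ := Groth.Agent.Lib.Helper12.exists_preimage_of_isPullback (sq u) q y hy.symm
    exact ⟨u, z, hz⟩
  let 𝒰 : (pullback f v).OpenCover :=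
    Scheme.Cover.mkOfCovers (P := @IsOpenImmersion) U (fun u => pullback f (vf u)) j hcovers
  obtain ⟨a, ha⟩ := glue_disjoint_cover (T := U) 𝒰 (by
    intro u u' hne x y hxy
    have h3 : j u x = j u' y := hxy
    have h4 := congrArg (fun q => pullback.snd f v q) h3
    simp only [← Scheme.Hom.comp_apply, hj2] at h4
    simp only [Scheme.Hom.comp_apply] at h4
    have h5 : Sigma.ι Vf u (pullback.snd f (vf u) x) ∈ (Sigma.ι Vf u).opensRange := ⟨_, rfl⟩
    have h6 : Sigma.ι Vf u (pullback.snd f (vf u) x) ∈ (Sigma.ι Vf u').opensRange := by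
      rw [h4]
      exact ⟨_, rfl⟩
    exact (disjoint_opensRange_sigmaι Vf u u' hne).le_bot ⟨h5, h6⟩) kf
  have hag : a ≫ g = pullback.fst f v := by
    apply 𝒰.hom_ext
    intro u
    have e1 : 𝒰.f u ≫ a = kf u := ha u
    rw [← Category.assoc, e1]
    exact (hk1 u).trans (hj1 u).symm
  refine ⟨V, v, inferInstance, a, hag, ⟨fun u => ?_⟩⟩
  obtain ⟨z, hz⟩ := hk2 u
  refine ⟨j u z, ?_⟩
  have e1 : 𝒰.f u ≫ a = kf u := ha u
  refine Eq.trans ?_ hz
  rw [← Scheme.Hom.comp_apply]
  exact congrArg (fun m : pullback f (vf u) ⟶ U => m z) e1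

/-- **Condition (C)** for integral morphisms that are injective on points. -/
theorem propC {X Y : Scheme.{u}} (f : X ⟶ Y) [IsIntegralHom f]
    (hinj : Function.Injective f) : BigSite.PropC f :=
  propC_of_local f (fun U g _ u => local_propC f hinj U g u)

end Groth.Agent.Lib.Helper8EtPropC
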