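import Groth.Agent.Lib.Helper8EtRecoll
import Groth.Prelude.Def_W4c1etweilhu916Glue

/-!
# The recollement equivalence for abelian étale sheaves (helper8)

For a closed immersion `i : Z ⟶ X` with open complement `j : U ⟶ X`, the functor
`F ↦ (i^* F, j^* F, i^* F ⟶ i^* j_* j^* F)` is an equivalence.
-/

set_option autoImplicit false
set_option linter.style.haveILetI false
universe u
open CategoryTheory CategoryTheory.Limits AlgebraicGeometry Opposite

namespace Groth.Agent.Lib.Helper8EtRecollEquiv

open Groth.Agent.Lib.Helper16.EtStalk Groth.Agent.Lib.Helper8EtRecoll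

/-- if `f^* φ` is an isomorphism, then `φ` is bijective on stalks at geometric points factoring
through `f` -/
theorem bijective_stalk_of_isIso_pull {T X : Scheme.{u}} (f : T ⟶ X) {A B : EtCoh.Ab X}
    (φ : A ⟶ B) [IsIso ((EtCoh.pull f).map φ)]
    {Ω : Type u} [Field Ω] [IsSepClosed Ω] (ζ : Spec (CommRingCat.of Ω) ⟶ T) :
    Function.Bijective ((EtCoh.stalk (ζ ≫ f)).map φ) := by
  have nat := (Groth.Agent.S0101.stalkPullIso f ζ).hom.naturality φ
  haveI : IsIso ((EtCoh.pull f ⋙ EtCoh.stalk ζ).map φ) := by
    change IsIso ((EtCoh.stalk ζ).map ((EtCoh.pull f).map φ))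
    infer_instance
  haveI : IsIso ((EtCoh.stalk (ζ ≫ f)).map φ) := by
    have e : (EtCoh.stalk (ζ ≫ f)).map φ =
        (Groth.Agent.S0101.stalkPullIso f ζ).hom.app _ ≫
          (EtCoh.pull f ⋙ EtCoh.stalk ζ).map φ ≫
          (Groth.Agent.S0101.stalkPullIso f ζ).inv.app _ := by
      rw [← Category.assoc, ← nat, Category.assoc, Iso.hom_inv_id_app, Category.comp_id]
    rw [e]
    infer_instance
  exact ConcreteCategory.bijective_of_isIso _

variable {Z X U : Scheme.{u}} (i : Z ⟶ X) [IsClosedImmersion i]
  (j : U ⟶ X) [IsOpenImmersion j] (hZU : Set.range j.base = (Set.range i.base)ᶜ)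

include hZU in
/-- `i^*` and `j^*` jointly reflect isomorphisms -/
theorem isIso_of_isIso_pull {A B : EtCoh.Ab X} (φ : A ⟶ B)
    [IsIso ((EtCoh.pull i).map φ)] [IsIso ((EtCoh.pull j).map φ)] : IsIso φ := by
  have key : ∀ (Ω : Type u) [Field Ω] [IsSepClosed Ω] (ξ : Spec (CommRingCat.of Ω) ⟶ X),
      Function.Bijective ((EtCoh.stalk ξ).map φ) := by
    intro Ω _ _ ξ
    by_cases hξ : ξ (default : Spec (CommRingCat.of Ω)) ∈ Set.range i.base
    · obtain ⟨ζ, rfl⟩ := exists_lift_geometric i ξ hξ
      exact bijective_stalk_of_isIso_pull i φ ζ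
    · have hr : Set.range ξ.base ⊆ Set.range j.base := by
        rintro _ ⟨a, rfl⟩
        rw [hZU]
        have ha : a = default := Subsingleton.elim _ _
        rw [ha]
        exact hξ
      obtain ⟨ξ', rfl⟩ : ∃ ξ' : Spec (CommRingCat.of Ω) ⟶ U, ξ' ≫ j = ξ :=
        ⟨IsOpenImmersion.lift j ξ hr, IsOpenImmersion.lift_fac _ _ _⟩
      exact bijective_stalk_of_isIso_pull j φ ξ'
  haveI : Mono φ := mono_of_stalks _ (fun Ω _ _ ξ => (key Ω ξ).1)
  haveI : Epi φ := epi_of_stalks _ (fun Ω _ _ ξ => (key Ω ξ).2)
  exact isIso_of_mono_of_epi _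

include hZU in
/-- a commutative square which becomes cartesian after `i^*` and after `j^*` is cartesian -/
theorem isPullback_of_pull {P A B C : EtCoh.Ab X} {fst : P ⟶ A} {snd : P ⟶ B} {f : A ⟶ C}
    {g : B ⟶ C} (sq : CommSq fst snd f g)
    (hi : IsPullback ((EtCoh.pull i).map fst) ((EtCoh.pull i).map snd) ((EtCoh.pull i).map f)
      ((EtCoh.pull i).map g))
    (hj : IsPullback ((EtCoh.pull j).map fst) ((EtCoh.pull j).map snd) ((EtCoh.pull j).map f)
      ((EtCoh.pull j).map g)) : IsPullback fst snd f g := by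
  haveI := Groth.Agent.S0101.result i
  haveI := Groth.Agent.S0101.result j
  have hP := IsPullback.of_hasPullback f g
  let c : P ⟶ pullback f g := pullback.lift fst snd sq.w
  have hc1 : c ≫ pullback.fst f g = fst := pullback.lift_fst _ _ _
  have hc2 : c ≫ pullback.snd f g = snd := pullback.lift_snd _ _ _
  haveI : IsIso ((EtCoh.pull i).map c) := by
    have hPi := hP.map (EtCoh.pull i)
    have e : (EtCoh.pull i).map c = (hi.isoIsPullback _ _ hPi).hom := by
      apply hPi.hom_ext
      · rw [IsPullback.isoIsPullback_hom_fst, ← Functor.map_comp, hc1]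
      · rw [IsPullback.isoIsPullback_hom_snd, ← Functor.map_comp, hc2]
    rw [e]
    infer_instance
  haveI : IsIso ((EtCoh.pull j).map c) := by
    have hPj := hP.map (EtCoh.pull j)
    have e : (EtCoh.pull j).map c = (hj.isoIsPullback _ _ hPj).hom := by
      apply hPj.hom_ext
      · rw [IsPullback.isoIsPullback_hom_fst, ← Functor.map_comp, hc1]
      · rw [IsPullback.isoIsPullback_hom_snd, ← Functor.map_comp, hc2]
    rw [e]
    infer_instance
  haveI : IsIso c := isIso_of_isIso_pull i j hZU c
  exact IsPullback.of_iso hP (asIso c).symm (Iso.refl _) (Iso.refl _) (Iso.refl _)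
    (by simp [hc1]) (by simp [hc2]) (by simp) (by simp)

include hZU in
/-- the canonical gluing square `F = i_* i^* F ×_{i_* i^* j_* j^* F} j_* j^* F` -/
theorem isPullback_units (F : EtCoh.Ab X) :
    IsPullback ((EtCoh.pullPushAdj j).unit.app F) ((EtCoh.pullPushAdj i).unit.app F)
      ((EtCoh.pullPushAdj i).unit.app ((EtCoh.push j).obj ((EtCoh.pull j).obj F)))
      ((EtCoh.push i).map ((EtCoh.pull i).map ((EtCoh.pullPushAdj j).unit.app F))) := by
  have sq : CommSq ((EtCoh.pullPushAdj j).unit.app F) ((EtCoh.pullPushAdj i).unit.app F)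
      ((EtCoh.pullPushAdj i).unit.app ((EtCoh.push j).obj ((EtCoh.pull j).obj F)))
      ((EtCoh.push i).map ((EtCoh.pull i).map ((EtCoh.pullPushAdj j).unit.app F))) :=
    ⟨((EtCoh.pullPushAdj i).unit.naturality ((EtCoh.pullPushAdj j).unit.app F))⟩
  apply isPullback_of_pull i j hZU sq
  · haveI := isIso_pull_map_unit i F
    haveI := isIso_pull_map_unit i ((EtCoh.push j).obj ((EtCoh.pull j).obj F))
    exact IsPullback.of_vert_isIso (sq.map (EtCoh.pull i))
  · haveI := isIso_pull_map_unit_open j F
    haveI : IsIso ((EtCoh.pull j).map ((EtCoh.push i).map ((EtCoh.pull i).map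
        ((EtCoh.pullPushAdj j).unit.app F)))) :=
      ⟨0, (isZero_pull_push i j hZU _).eq_of_src _ _, (isZero_pull_push i j hZU _).eq_of_src _ _⟩
    exact IsPullback.of_horiz_isIso (sq.map (EtCoh.pull j))

include hZU in
theorem faithful_recollTriple : (EtCore.recollTriple i j).Faithful where
  map_injective {F F'} φ ψ h := by
    have hl : (EtCoh.pull i).map φ = (EtCoh.pull i).map ψ := congrArg CommaMorphism.left h
    have hr : (EtCoh.pull j).map φ = (EtCoh.pull j).map ψ := congrArg CommaMorphism.right h
    apply (isPullback_units i j hZU F').hom_ext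
    · have n1 : φ ≫ (EtCoh.pullPushAdj j).unit.app F' = (EtCoh.pullPushAdj j).unit.app F ≫
          (EtCoh.push j).map ((EtCoh.pull j).map φ) := (EtCoh.pullPushAdj j).unit.naturality φ
      have n2 : ψ ≫ (EtCoh.pullPushAdj j).unit.app F' = (EtCoh.pullPushAdj j).unit.app F ≫
          (EtCoh.push j).map ((EtCoh.pull j).map ψ) := (EtCoh.pullPushAdj j).unit.naturality ψ
      rw [n1, n2, hr]
    · have n1 : φ ≫ (EtCoh.pullPushAdj i).unit.app F' = (EtCoh.pullPushAdj i).unit.app F ≫
          (EtCoh.push i).map ((EtCoh.pull i).map φ) := (EtCoh.pullPushAdj i).unit.naturality φ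
      have n2 : ψ ≫ (EtCoh.pullPushAdj i).unit.app F' = (EtCoh.pullPushAdj i).unit.app F ≫
          (EtCoh.push i).map ((EtCoh.pull i).map ψ) := (EtCoh.pullPushAdj i).unit.naturality ψ
      rw [n1, n2, hl]

include hZU in
theorem full_recollTriple : (EtCore.recollTriple i j).Full where
  map_surjective {F F'} t := by
    obtain ⟨a, ha⟩ : ∃ a : (EtCoh.pull i).obj F ⟶ (EtCoh.pull i).obj F', a = t.left :=
      ⟨t.left, rfl⟩
    obtain ⟨b, hb⟩ : ∃ b : (EtCoh.pull j).obj F ⟶ (EtCoh.pull j).obj F', b = t.right :=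
      ⟨t.right, rfl⟩
    have hw : a ≫ (EtCoh.pull i).map ((EtCoh.pullPushAdj j).unit.app F') =
        (EtCoh.pull i).map ((EtCoh.pullPushAdj j).unit.app F) ≫
          (EtCoh.pull i).map ((EtCoh.push j).map b) := by
      rw [ha, hb]
      exact t.w
    have compat : ((EtCoh.pullPushAdj j).unit.app F ≫ (EtCoh.push j).map b) ≫
        (EtCoh.pullPushAdj i).unit.app ((EtCoh.push j).obj ((EtCoh.pull j).obj F')) =
        ((EtCoh.pullPushAdj i).unit.app F ≫ (EtCoh.push i).map a) ≫
        (EtCoh.push i).map ((EtCoh.pull i).map ((EtCoh.pullPushAdj j).unit.app F')) := by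
      have n1 : ((EtCoh.pullPushAdj j).unit.app F ≫ (EtCoh.push j).map b) ≫
          (EtCoh.pullPushAdj i).unit.app ((EtCoh.push j).obj ((EtCoh.pull j).obj F')) =
          (EtCoh.pullPushAdj i).unit.app F ≫ (EtCoh.push i).map ((EtCoh.pull i).map
            ((EtCoh.pullPushAdj j).unit.app F ≫ (EtCoh.push j).map b)) :=
        (EtCoh.pullPushAdj i).unit.naturality _
      rw [n1, Category.assoc, ← Functor.map_comp, hw, Functor.map_comp]
    refine ⟨(isPullback_units i j hZU F').lift _ _ compat, ?_⟩
    have l1 := (isPullback_units i j hZU F').lift_fst _ _ compat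
    have l2 := (isPullback_units i j hZU F').lift_snd _ _ compat
    apply CommaMorphism.ext
    · refine Eq.trans ?_ ha
      apply ((EtCoh.pullPushAdj i).homEquiv F ((EtCoh.pull i).obj F')).injective
      rw [Adjunction.homEquiv_unit, Adjunction.homEquiv_unit]
      refine Eq.trans ?_ l2
      exact ((EtCoh.pullPushAdj i).unit.naturality _).symm
    · refine Eq.trans ?_ hb
      apply ((EtCoh.pullPushAdj j).homEquiv F ((EtCoh.pull j).obj F')).injective
      rw [Adjunction.homEquiv_unit, Adjunction.homEquiv_unit]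
      refine Eq.trans ?_ l1
      exact ((EtCoh.pullPushAdj j).unit.naturality _).symm

include hZU in
theorem essSurj_recollTriple : (EtCore.recollTriple i j).EssSurj where
  mem_essImage T := by
    haveI := Groth.Agent.S0101.result i
    haveI := Groth.Agent.S0101.result j
    haveI : (EtCoh.push i).Full := Groth.Agent.Lib.Helper8ClosedPush.full_push i
    haveI : (EtCoh.push i).Faithful := Groth.Agent.Lib.Helper8ClosedPush.faithful_push i
    haveI : IsIso ((EtCoh.pullPushAdj i).counit) := inferInstance
    haveI hεj : IsIso ((EtCoh.pullPushAdj j).counit.app T.right) :=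
      (Groth.Agent.S0651.result j T.right).1
    obtain ⟨φ, hφ⟩ : ∃ φ : T.left ⟶ (EtCoh.pull i).obj ((EtCoh.push j).obj T.right),
        φ = T.hom := ⟨T.hom, rfl⟩
    have hP := IsPullback.of_hasPullback ((EtCoh.push i).map φ)
      ((EtCoh.pullPushAdj i).unit.app ((EtCoh.push j).obj T.right))
    have hPi := hP.map (EtCoh.pull i)
    have hPj := hP.map (EtCoh.pull j)
    haveI := isIso_pull_map_unit i ((EtCoh.push j).obj T.right)
    haveI h1 : IsIso ((EtCoh.pull i).map (pullback.fst ((EtCoh.push i).map φ)
        ((EtCoh.pullPushAdj i).unit.app ((EtCoh.push j).obj T.right)))) :=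
      hPi.isIso_fst_of_isIso
    haveI : IsIso ((EtCoh.pull j).map ((EtCoh.push i).map φ)) :=
      ⟨0, (isZero_pull_push i j hZU _).eq_of_src _ _, (isZero_pull_push i j hZU _).eq_of_src _ _⟩
    haveI h2 : IsIso ((EtCoh.pull j).map (pullback.snd ((EtCoh.push i).map φ)
        ((EtCoh.pullPushAdj i).unit.app ((EtCoh.push j).obj T.right)))) :=
      hPj.isIso_snd_of_isIso
    refine ⟨pullback ((EtCoh.push i).map φ)
      ((EtCoh.pullPushAdj i).unit.app ((EtCoh.push j).obj T.right)), ⟨Comma.isoMk
        (@asIso _ _ _ _ ((EtCoh.pull i).map (pullback.fst ((EtCoh.push i).map φ)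
          ((EtCoh.pullPushAdj i).unit.app ((EtCoh.push j).obj T.right)))) h1 ≪≫
          asIso ((EtCoh.pullPushAdj i).counit.app T.left))
        (@asIso _ _ _ _ ((EtCoh.pull j).map (pullback.snd ((EtCoh.push i).map φ)
          ((EtCoh.pullPushAdj i).unit.app ((EtCoh.push j).obj T.right)))) h2 ≪≫
          @asIso _ _ _ _ ((EtCoh.pullPushAdj j).counit.app T.right) hεj) ?_⟩⟩
    -- the compatibility
    change ((EtCoh.pull i).map (pullback.fst ((EtCoh.push i).map φ)
          ((EtCoh.pullPushAdj i).unit.app ((EtCoh.push j).obj T.right))) ≫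
          (EtCoh.pullPushAdj i).counit.app T.left) ≫ T.hom =
      (EtCoh.pull i).map ((EtCoh.pullPushAdj j).unit.app _) ≫
        (EtCoh.pull i).map ((EtCoh.push j).map
          ((EtCoh.pull j).map (pullback.snd ((EtCoh.push i).map φ)
          ((EtCoh.pullPushAdj i).unit.app ((EtCoh.push j).obj T.right))) ≫
          (EtCoh.pullPushAdj j).counit.app T.right))
    rw [← hφ]
    -- right hand side
    have hR : (EtCoh.pull i).map ((EtCoh.pullPushAdj j).unit.app _) ≫
        (EtCoh.pull i).map ((EtCoh.push j).map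
          ((EtCoh.pull j).map (pullback.snd ((EtCoh.push i).map φ)
          ((EtCoh.pullPushAdj i).unit.app ((EtCoh.push j).obj T.right))) ≫
          (EtCoh.pullPushAdj j).counit.app T.right)) =
        (EtCoh.pull i).map (pullback.snd ((EtCoh.push i).map φ)
          ((EtCoh.pullPushAdj i).unit.app ((EtCoh.push j).obj T.right))) := by
      rw [← Functor.map_comp]
      congr 1
      rw [Functor.map_comp, ← Category.assoc]
      have n := (EtCoh.pullPushAdj j).unit.naturality (pullback.snd ((EtCoh.push i).map φ)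
          ((EtCoh.pullPushAdj i).unit.app ((EtCoh.push j).obj T.right)))
      have n' : (EtCoh.pullPushAdj j).unit.app _ ≫ (EtCoh.push j).map ((EtCoh.pull j).map
          (pullback.snd ((EtCoh.push i).map φ)
          ((EtCoh.pullPushAdj i).unit.app ((EtCoh.push j).obj T.right)))) =
          pullback.snd ((EtCoh.push i).map φ)
          ((EtCoh.pullPushAdj i).unit.app ((EtCoh.push j).obj T.right)) ≫
          (EtCoh.pullPushAdj j).unit.app ((EtCoh.push j).obj T.right) := n.symm
      rw [n', Category.assoc]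
      have tri := (EtCoh.pullPushAdj j).right_triangle_components T.right
      exact (congrArg (fun k => pullback.snd ((EtCoh.push i).map φ)
          ((EtCoh.pullPushAdj i).unit.app ((EtCoh.push j).obj T.right)) ≫ k) tri).trans
        (Category.comp_id _)
    rw [hR]
    -- left hand side
    have c1 : (EtCoh.pullPushAdj i).counit.app T.left ≫ φ =
        (EtCoh.pull i).map ((EtCoh.push i).map φ) ≫ (EtCoh.pullPushAdj i).counit.app _ :=
      ((EtCoh.pullPushAdj i).counit.naturality φ).symm
    rw [Category.assoc, c1, ← Category.assoc, ← Functor.map_comp, pullback.condition,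
      Functor.map_comp, Category.assoc]
    have tri := (EtCoh.pullPushAdj i).left_triangle_components ((EtCoh.push j).obj T.right)
    exact (congrArg (fun k => (EtCoh.pull i).map (pullback.snd ((EtCoh.push i).map φ)
          ((EtCoh.pullPushAdj i).unit.app ((EtCoh.push j).obj T.right))) ≫ k) tri).trans
        (Category.comp_id _)

include hZU in
/-- the recollement functor is an equivalence -/
theorem isEquivalence_recollTriple : (EtCore.recollTriple i j).IsEquivalence where
  faithful := faithful_recollTriple i j hZU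
  full := full_recollTriple i j hZU
  essSurj := essSurj_recollTriple i j hZU

end Groth.Agent.Lib.Helper8EtRecollEquiv
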