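import Mathlib
import Groth.Agent.Lib.Helper8EtNormal
import Groth.Agent.Lib.Helper8CurveBir

/-! Etale separated schemes over a normal integral scheme with separably closed function field. -/

set_option autoImplicit false
universe u
open CategoryTheory CategoryTheory.Limits AlgebraicGeometry TensorProduct

namespace Groth.Agent.Lib.Helper8EtSepCl

section Alg

/-- étale over an integrally closed domain: every prime has a basic open neighbourhood whose
coordinate ring is a domain. -/
theorem exists_notMem_isDomain_away (A B : Type u) [CommRing A] [IsDomain A] [IsIntegrallyClosed A]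
    [CommRing B] [Algebra A B] [Algebra.Etale A B] (q : Ideal B) [q.IsPrime] :
    ∃ e : B, e ∉ q ∧ IsDomain (Localization.Away e) := by
  classical
  haveI : Nontrivial B := by
    by_contra h
    rw [not_nontrivial_iff_subsingleton] at h
    exact (inferInstance : q.IsPrime).ne_top (Subsingleton.elim _ _)
  let K := FractionRing A
  let T := K ⊗[A] B
  obtain ⟨I, hI, Ai, hF, hAlg, ε, -⟩ :=
    (Algebra.Etale.iff_exists_algEquiv_prod K T).mp inferInstance
  haveI := hI
  letI := hF
  letI := hAlg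
  have hinj : Function.Injective (Algebra.TensorProduct.includeRight : B →ₐ[A] T) :=
    Algebra.TensorProduct.includeRight_injective (IsFractionRing.injective A K)
  -- the projections
  let ψ : I → (B →+* T) := fun _ => (Algebra.TensorProduct.includeRight : B →ₐ[A] T).toRingHom
  let π : ∀ i, B →+* Ai i := fun i =>
    ((Pi.evalRingHom Ai i).comp ε.toRingEquiv.toRingHom).comp
      (Algebra.TensorProduct.includeRight : B →ₐ[A] T).toRingHom
  have hπ : ∀ b : B, (∀ i, π i b = 0) → b = 0 := by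
    intro b hb
    apply hinj
    apply ε.injective
    rw [map_zero, map_zero]
    funext i
    exact hb i
  -- some projection has kernel inside `q`
  obtain ⟨i₀, hi₀⟩ : ∃ i₀, RingHom.ker (π i₀) ≤ q := by
    by_contra hcon
    push Not at hcon
    have hcon' : ∀ i, ∃ b, π i b = 0 ∧ b ∉ q := by
      intro i
      obtain ⟨b, hb, hbq⟩ := Set.not_subset.mp (hcon i)
      exact ⟨b, hb, hbq⟩
    choose b hb hbq using hcon'
    haveI := Fintype.ofFinite I
    have hprod : (∏ i, b i) ∉ q := by
      intro h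
      obtain ⟨i, -, hi⟩ := (Ideal.IsPrime.prod_mem_iff (hp := inferInstance)).mp h
      exact hbq i hi
    apply hprod
    have : (∏ i, b i) = 0 := by
      apply hπ
      intro i
      rw [map_prod]
      exact Finset.prod_eq_zero (Finset.mem_univ i) (hb i)
    rw [this]
    exact q.zero_mem
  -- the idempotent
  let t : T := ε.symm (Pi.single i₀ 1)
  have ht : t * t = t := by
    apply ε.injective
    rw [map_mul]
    simp only [t, AlgEquiv.apply_symm_apply]
    rw [← Pi.single_mul, mul_one]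
  -- transfer to `B ⊗ K`
  let c : B ⊗[A] K ≃ₐ[A] T := Algebra.TensorProduct.comm A B K
  have hcB : ∀ b : B, c (algebraMap B (B ⊗[A] K) b) =
      (Algebra.TensorProduct.includeRight : B →ₐ[A] T) b := by
    intro b
    show c (b ⊗ₜ[A] (1 : K)) = (1 : K) ⊗ₜ[A] b
    exact Algebra.TensorProduct.comm_tmul A b (1 : K)
  have hint : IsIntegral B (c.symm t) := by
    refine ⟨Polynomial.X ^ 2 - Polynomial.X, ?_, ?_⟩
    · exact Polynomial.monic_X_pow_sub (by rw [Polynomial.degree_X]; norm_num)
    · simp only [Polynomial.eval₂_sub, Polynomial.eval₂_X_pow, Polynomial.eval₂_X]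
      rw [pow_two, ← map_mul, ht, sub_self]
  obtain ⟨e, he⟩ := Helper8EtNormal.isIntegrallyClosedIn_tensor A B K (c.symm t) hint
  have het : (Algebra.TensorProduct.includeRight : B →ₐ[A] T) e = t := by
    rw [← hcB, he, AlgEquiv.apply_symm_apply]
  have hπe : ∀ i, π i e = if i = i₀ then 1 else 0 := by
    intro i
    show (ε ((Algebra.TensorProduct.includeRight : B →ₐ[A] T) e)) i = _
    rw [het]
    simp only [t, AlgEquiv.apply_symm_apply]
    by_cases h : i = i₀
    · subst h; simp
    · simp [h]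
  have hπe0 : π i₀ e = 1 := by rw [hπe]; simp
  refine ⟨e, ?_, ?_⟩
  · intro heq
    have h1 : (1 - e) ∈ q := hi₀ (by rw [RingHom.mem_ker, map_sub, map_one, hπe0, sub_self])
    have : (1 : B) ∈ q := by
      have := q.add_mem h1 heq
      simpa using this
    exact (inferInstance : q.IsPrime).ne_top ((Ideal.eq_top_iff_one q).mpr this)
  · -- `B_e` embeds in the field `Ai i₀`
    have hunit : IsUnit (π i₀ e) := by rw [hπe0]; exact isUnit_one
    let χ : Localization.Away e →+* Ai i₀ := IsLocalization.Away.lift e hunit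
    have hχ : Function.Injective χ := by
      rw [injective_iff_map_eq_zero]
      intro x hx
      obtain ⟨n, b, hb⟩ := IsLocalization.Away.surj e x
      have h1 : χ x * (π i₀ e) ^ n = π i₀ b := by
        have := congrArg χ hb
        rw [map_mul, map_pow] at this
        simpa [χ, IsLocalization.Away.lift_eq] using this
      have h2 : π i₀ b = 0 := by rw [← h1, hx, zero_mul]
      have h3 : b * e = 0 := by
        apply hπ
        intro i
        rw [map_mul, hπe]
        by_cases h : i = i₀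
        · subst h; rw [h2, zero_mul]
        · rw [if_neg h, mul_zero]
      have h4 : x * (algebraMap B (Localization.Away e) e) ^ (n + 1) = 0 := by
        rw [pow_succ, ← mul_assoc, hb, ← map_mul, h3, map_zero]
      have hu : IsUnit ((algebraMap B (Localization.Away e) e) ^ (n + 1)) :=
        (IsLocalization.Away.algebraMap_isUnit e).pow _
      exact (hu.mul_left_eq_zero).mp h4
    exact Function.Injective.isDomain χ hχ

end Alg

section Geo

theorem mem_basicOpen_iff_notMem_primeIdealOf {X : Scheme.{u}} {U : X.Opens} (hU : IsAffineOpen U)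
    (y : X) (hy : y ∈ U) (r : Γ(X, U)) :
    y ∈ X.basicOpen r ↔ r ∉ (hU.primeIdealOf ⟨y, hy⟩).asIdeal := by
  have h := hU.fromSpec_primeIdealOf ⟨y, hy⟩
  have h2 : (hU.fromSpec.base (hU.primeIdealOf ⟨y, hy⟩) ∈ X.basicOpen r) ↔
      r ∉ (hU.primeIdealOf ⟨y, hy⟩).asIdeal := by
    change hU.primeIdealOf ⟨y, hy⟩ ∈ (hU.fromSpec ⁻¹ᵁ X.basicOpen r) ↔ _
    rw [hU.fromSpec_preimage_basicOpen]
    rfl
  rw [h] at h2
  exact h2

variable {U X : Scheme.{u}} [IsIntegral X]

/-- Every point of a scheme étale over a normal integral scheme has an integral affine open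
neighbourhood. -/
theorem exists_integral_affine_nhd (hN : ∀ x : X, IsIntegrallyClosed (X.presheaf.stalk x))
    (g : U ⟶ X) [Etale g] (u : U) :
    ∃ W : U.Opens, u ∈ W ∧ IsAffineOpen W ∧ IsIntegral (W : Scheme.{u}) := by
  have hX : Pi1.IsNormalScheme X := fun x => ⟨inferInstance, hN x⟩
  obtain ⟨_, ⟨V, hV, rfl⟩, huV, -⟩ := X.isBasis_affineOpens.exists_subset_of_mem_open
    (Set.mem_univ (g u)) isOpen_univ
  obtain ⟨_, ⟨W₀, hW₀, rfl⟩, huW₀, hW₀le⟩ := U.isBasis_affineOpens.exists_subset_of_mem_open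
    (show u ∈ ((g ⁻¹ᵁ V : U.Opens) : Set U) from huV) (g ⁻¹ᵁ V).isOpen
  have e : W₀ ≤ g ⁻¹ᵁ V := hW₀le
  haveI : Nonempty V := ⟨⟨g u, huV⟩⟩
  haveI : IsDomain Γ(X, V) := IsIntegral.component_integral V
  haveI : IsIntegrallyClosed Γ(X, V) := Helper8EtNormal.isIntegrallyClosed_sections hX V hV
  letI := (g.appLE V W₀ e).hom.toAlgebra
  haveI : Algebra.Etale Γ(X, V) Γ(U, W₀) := g.etale_appLE hV hW₀ e
  obtain ⟨r, hr, hdom⟩ := exists_notMem_isDomain_away Γ(X, V) Γ(U, W₀)
    (hW₀.primeIdealOf ⟨u, huW₀⟩).asIdeal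
  refine ⟨U.basicOpen r, (mem_basicOpen_iff_notMem_primeIdealOf hW₀ u huW₀ r).mpr hr,
    hW₀.basicOpen r, ?_⟩
  haveI : IsAffine (U.basicOpen r : Scheme.{u}) := hW₀.basicOpen r
  haveI : Nonempty (U.basicOpen r : Scheme.{u}) :=
    ⟨⟨u, (mem_basicOpen_iff_notMem_primeIdealOf hW₀ u huW₀ r).mpr hr⟩⟩
  haveI := hW₀.isLocalization_basicOpen r
  let e₁ : Localization.Away r ≃ₐ[Γ(U, W₀)] Γ(U, U.basicOpen r) :=
    IsLocalization.algEquiv (.powers r) _ _
  haveI : IsDomain Γ(U, U.basicOpen r) := e₁.toRingEquiv.toMulEquiv.isDomain_iff.mp hdom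
  haveI : IsDomain Γ((U.basicOpen r : Scheme.{u}), ⊤) :=
    (U.basicOpen r).topIso.commRingCatIsoToRingEquiv.toMulEquiv.isDomain_iff.mpr inferInstance
  exact isIntegral_of_isAffine_of_isDomain _

theorem flat_map_genericPoint {Y X : Scheme.{u}} [IsIntegral Y] [IsIntegral X] (f : Y ⟶ X)
    [Flat f] : f (genericPoint Y) = genericPoint X := by
  obtain ⟨y', hy', hfy'⟩ := Flat.generalizingMap f
    ((genericPoint_spec X).specializes (Set.mem_univ (f (genericPoint Y))))
  have : y' = genericPoint Y :=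
    (hy'.antisymm ((genericPoint_spec Y).specializes (Set.mem_univ y'))).eq
  rw [← this, hfy']

set_option backward.isDefEq.respectTransparency false in
theorem phi_bijective {Y X : Scheme.{u}} [IsIntegral Y] [IsIntegral X]
    [IsSepClosed X.functionField] (f : Y ⟶ X) [Etale f]
    (e : f (genericPoint Y) = genericPoint X) :
    Function.Bijective (Helper8CurveBir.phi f e).hom := by
  have hsurj : Function.Surjective
      (X.presheaf.stalkSpecializes (specializes_of_eq e)).hom := by
    haveI : IsIso (X.presheaf.stalkSpecializes (specializes_of_eq e)) :=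
      (X.presheaf.stalkCongr (Inseparable.of_eq e.symm)).isIso_hom
    exact ((ConcreteCategory.isIso_iff_bijective _).mp inferInstance).2
  have h1 : (Helper8CurveBir.phi f e).hom.FormallyUnramified := by
    unfold Helper8CurveBir.phi
    rw [CommRingCat.hom_comp]
    exact (RingHom.FormallyUnramified.of_surjective hsurj).comp
      (FormallyUnramified.stalkMap f (genericPoint Y))
  have h2 : (Helper8CurveBir.phi f e).hom.EssFiniteType := by
    unfold Helper8CurveBir.phi
    rw [CommRingCat.hom_comp]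
    exact (RingHom.FiniteType.of_surjective _ hsurj).essFiniteType.comp
      (LocallyOfFiniteType.stalkMap f (genericPoint Y))
  refine ⟨(Helper8CurveBir.phi f e).hom.injective, ?_⟩
  algebraize [(Helper8CurveBir.phi f e).hom]
  haveI : Algebra.IsSeparable X.functionField Y.functionField :=
    Algebra.FormallyUnramified.isSeparable X.functionField Y.functionField
  exact IsSepClosed.algebraMap_surjective X.functionField Y.functionField

/-- A scheme covered by pairwise disjoint opens, each mapping by an open immersion to `X`, is a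
disjoint union of open subschemes of `X`. -/
theorem exists_iso_sigma_of_disjoint_cover {U X : Scheme.{u}} (g : U ⟶ X) {ι : Type u}
    (Uo : ι → U.Opens) (hcov : ∀ u, ∃ i, u ∈ Uo i)
    (hdisj : ∀ i j w, w ∈ Uo i → w ∈ Uo j → i = j)
    [hoi : ∀ i, IsOpenImmersion ((Uo i).ι ≫ g)] :
    ∃ (V : ι → X.Opens) (e : (∐ fun i => (V i : Scheme.{u})) ≅ U),
      ∀ i, Sigma.ι (fun i => (V i : Scheme.{u})) i ≫ e.hom ≫ g = (V i).ι := by
  classical
  let V : ι → X.Opens := fun i => ((Uo i).ι ≫ g).opensRange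
  have hrange : ∀ i, Set.range ((Uo i).ι ≫ g) = Set.range (V i).ι := by
    intro i
    rw [Scheme.Opens.range_ι]
    rfl
  let iso : ∀ i, (Uo i : Scheme.{u}) ≅ (V i : Scheme.{u}) := fun i =>
    IsOpenImmersion.isoOfRangeEq ((Uo i).ι ≫ g) (V i).ι (hrange i)
  have hiso : ∀ i, (iso i).hom ≫ (V i).ι = (Uo i).ι ≫ g := fun i =>
    IsOpenImmersion.isoOfRangeEq_hom_fac _ _ _
  let α : ∀ i, (V i : Scheme.{u}) ⟶ U := fun i => (iso i).inv ≫ (Uo i).ι
  have hαrange : ∀ i, Set.range (α i) = (Uo i : Set U) := by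
    intro i
    show Set.range ((iso i).inv ≫ (Uo i).ι) = _
    rw [Scheme.Hom.comp_base, TopCat.coe_comp, Set.range_comp,
      Set.range_eq_univ.mpr (iso i).inv.surjective, Set.image_univ, Scheme.Opens.range_ι]
  haveI : IsOpenImmersion (Sigma.desc α) := by
    apply isOpenImmersion_sigmaDesc
    intro i j hij
    show Disjoint (Set.range (α i)) (Set.range (α j))
    rw [hαrange, hαrange, Set.disjoint_left]
    intro w hwi hwj
    exact hij (hdisj i j w hwi hwj)
  haveI : IsIso (Sigma.desc α) := by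
    rw [isIso_iff_isOpenImmersion_and_surjective]
    refine ⟨inferInstance, ⟨fun u => ?_⟩⟩
    obtain ⟨i, hi⟩ := hcov u
    have : u ∈ Set.range (α i) := by rw [hαrange]; exact hi
    obtain ⟨y, rfl⟩ := this
    refine ⟨Sigma.ι (fun i => (V i : Scheme.{u})) i y, ?_⟩
    rw [← Scheme.Hom.comp_apply, Sigma.ι_desc]
  refine ⟨V, asIso (Sigma.desc α), fun i => ?_⟩
  rw [asIso_hom, Sigma.ι_desc_assoc]
  show ((iso i).inv ≫ (Uo i).ι) ≫ g = _
  rw [Category.assoc, ← hiso, Iso.inv_hom_id_assoc]

/-- local data: an integral open neighbourhood together with its generic point. -/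
theorem exists_nhd_generic {U X : Scheme.{u}} [IsIntegral X]
    (hN : ∀ x : X, IsIntegrallyClosed (X.presheaf.stalk x)) (g : U ⟶ X) [Etale g] (u : U) :
    ∃ (W : U.Opens) (ξ : U), u ∈ W ∧ ξ ∈ W ∧ IsIntegral (W : Scheme.{u}) ∧ ∀ w ∈ W, ξ ⤳ w := by
  obtain ⟨W, huW, -, hint⟩ := exists_integral_affine_nhd hN g u
  haveI := hint
  refine ⟨W, W.ι (genericPoint W), huW, (genericPoint W).2, hint, ?_⟩
  intro w hw
  have h : genericPoint W ⤳ (⟨w, hw⟩ : W) :=
    (genericPoint_spec W).specializes (Set.mem_univ _)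
  exact h.map W.ι.continuous

theorem main {U X : Scheme.{u}} [IsIntegral X]
    (hN : ∀ x : X, IsIntegrallyClosed (X.presheaf.stalk x))
    [IsSepClosed X.functionField] (g : U ⟶ X) [Etale g] [IsSeparated g] :
    ∃ (ι : Type u) (V : ι → X.Opens) (e : (∐ fun i => (V i : Scheme.{u})) ≅ U),
      ∀ i, Sigma.ι (fun i => (V i : Scheme.{u})) i ≫ e.hom ≫ g = (V i).ι := by
  classical
  choose W γ huW hγW hint hspec using exists_nhd_generic hN g
  let Uo : Set.range γ → U.Opens := fun ξ => ⨆ (u : U) (_ : γ u = ξ.1), W u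
  have hmemiff : ∀ (ξ : Set.range γ) (w : U), w ∈ Uo ξ ↔ ∃ u, γ u = ξ.1 ∧ w ∈ W u := by
    intro ξ w
    simp only [Uo, TopologicalSpace.Opens.mem_iSup, exists_prop]
  have hcov : ∀ u, ∃ ξ, u ∈ Uo ξ := fun u =>
    ⟨⟨γ u, u, rfl⟩, (hmemiff _ _).mpr ⟨u, rfl, huW u⟩⟩
  have hspecUo : ∀ (ξ : Set.range γ) (w : U), w ∈ Uo ξ → ξ.1 ⤳ w := by
    intro ξ w hw
    obtain ⟨u, hu, hwu⟩ := (hmemiff ξ w).mp hw
    rw [← hu]
    exact hspec u w hwu
  have hξmem : ∀ ξ : Set.range γ, ξ.1 ∈ Uo ξ := by
    rintro ⟨_, u, rfl⟩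
    exact (hmemiff _ _).mpr ⟨u, rfl, hγW u⟩
  have hdisj : ∀ (ξ ξ' : Set.range γ) (w : U), w ∈ Uo ξ → w ∈ Uo ξ' → ξ = ξ' := by
    intro ξ ξ' w hw hw'
    have h1 : ξ'.1 ⤳ ξ.1 :=
      hspecUo ξ' ξ.1 ((hspecUo ξ w hw).mem_open (Uo ξ').isOpen hw')
    have h2 : ξ.1 ⤳ ξ'.1 :=
      hspecUo ξ ξ'.1 ((hspecUo ξ' w hw').mem_open (Uo ξ).isOpen hw)
    exact Subtype.ext (h2.antisymm h1).eq
  haveI hred : IsReduced U := by
    haveI : ∀ u : U, _root_.IsReduced (U.presheaf.stalk u) := by
      intro u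
      haveI := hint u
      let φ := ((W u).stalkIso ⟨u, huW u⟩).inv.hom
      have hφ : Function.Injective φ :=
        ((ConcreteCategory.isIso_iff_bijective
          ((W u).stalkIso ⟨u, huW u⟩).inv).mp inferInstance).1
      exact isReduced_of_injective φ hφ
    exact isReduced_of_isReduced_stalk U
  have hintUo : ∀ ξ : Set.range γ, IsIntegral (Uo ξ : Scheme.{u}) := by
    intro ξ
    have hirr : IsIrreducible ((Uo ξ : U.Opens) : Set U) :=
      ⟨⟨ξ.1, hξmem ξ⟩, (isIrreducible_singleton (x := ξ.1)).closure.isPreirreducible.open_subset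
        (Uo ξ).isOpen (fun w hw => specializes_iff_mem_closure.mp (hspecUo ξ w hw))⟩
    haveI : IrreducibleSpace (Uo ξ) := isIrreducible_iff_irreducibleSpace.mp hirr
    haveI : IsReduced (Uo ξ : Scheme.{u}) := isReduced_of_isOpenImmersion (Uo ξ).ι
    exact isIntegral_of_irreducibleSpace_of_isReduced _
  haveI hoi : ∀ ξ : Set.range γ, IsOpenImmersion ((Uo ξ).ι ≫ g) := by
    intro ξ
    haveI := hintUo ξ
    have e := flat_map_genericPoint ((Uo ξ).ι ≫ g)
    exact Helper8CurveBir.isOpenImmersion_of_flat_birational _ e (phi_bijective _ e)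
  obtain ⟨V, e, he⟩ := exists_iso_sigma_of_disjoint_cover g Uo hcov hdisj
  exact ⟨_, V, e, he⟩

end Geo

end Groth.Agent.Lib.Helper8EtSepCl
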