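import Mathlib
import Groth.Agent.Lib.H5bEtLocal
import Groth.Agent.Lib.Helper3HzFib2
import Groth.Agent.Lib.Helper12FibreSpec
import Groth.Agent.Lib.Helper12NoethDescent

/-!
# Helper8EtSk: Serre's condition `(S_k)` is étale local on locally Noetherian schemes;
common refinement of two étale charts of a sheaf.
-/

set_option autoImplicit false
universe u

namespace Groth.Agent.Lib.Helper8.EtSk

open AlgebraicGeometry CategoryTheory Limits IsLocalRing

/-- étale maps of locally Noetherian schemes preserve the depth of local rings -/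
theorem depth_stalk_eq_of_etale {W U : Scheme.{u}} [IsLocallyNoetherian W] [IsLocallyNoetherian U]
    (g : W ⟶ U) [Etale g] (w : W) :
    LocCoh.depth (W.presheaf.stalk w) (W.presheaf.stalk w) =
      LocCoh.depth (U.presheaf.stalk (g w)) (U.presheaf.stalk (g w)) := by
  have hflat : (g.stalkMap w).hom.Flat := AlgebraicGeometry.Flat.stalkMap g w
  have hunr : (g.stalkMap w).hom.FormallyUnramified :=
    AlgebraicGeometry.FormallyUnramified.stalkMap g w
  have hess : (g.stalkMap w).hom.EssFiniteType := LocallyOfFiniteType.stalkMap g w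
  algebraize [(g.stalkMap w).hom]
  haveI hloc : IsLocalHom (algebraMap (U.presheaf.stalk (g w)) (W.presheaf.stalk w)) :=
    inferInstanceAs <| IsLocalHom (g.stalkMap w).hom
  exact Groth.Agent.Lib.Helper3.HzFib.depth_eq_of_flat_of_map_eq
    Algebra.FormallyUnramified.map_maximalIdeal

/-- `(S_k)` at a point is invariant under étale maps of locally Noetherian schemes -/
theorem sk_iff_of_etale {W U : Scheme.{u}} [IsLocallyNoetherian W] [IsLocallyNoetherian U]
    (g : W ⟶ U) [Etale g] (k : ℕ) (w : W) :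
    (min ((k : ℕ) : WithBot ℕ∞) (ringKrullDim (W.presheaf.stalk w)) ≤
      ((LocCoh.depth (W.presheaf.stalk w) (W.presheaf.stalk w) : ℕ∞) : WithBot ℕ∞)) ↔
    (min ((k : ℕ) : WithBot ℕ∞) (ringKrullDim (U.presheaf.stalk (g w))) ≤
      ((LocCoh.depth (U.presheaf.stalk (g w)) (U.presheaf.stalk (g w)) : ℕ∞) : WithBot ℕ∞)) := by
  rw [depth_stalk_eq_of_etale g w, Groth.Agent.Lib.H5bEtLocal.ringKrullDim_stalk_eq_of_etale g w]

variable {S : Scheme.{u}}

/-- common refinement of an étale surjective chart `p` and an étale chart `a`: a scheme `W` étale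
over both sources, surjective onto the source of `a`. -/
theorem exists_common_chart {X : AlgSp.Sp S} {U V : Over S}
    (p : (AlgSp.yon S).obj U ⟶ X) (a : (AlgSp.yon S).obj V ⟶ X)
    (hpe : AlgSp.RepWith @Etale p) (hps : AlgSp.RepWith @Surjective p)
    (ha : AlgSp.RepWith @Etale a) :
    ∃ (W : Over S) (f : W ⟶ U) (s : W ⟶ V), Etale f.left ∧ Etale s.left ∧ Surjective s.left := by
  obtain ⟨W, snd, fst', sq⟩ := hpe.1 a
  obtain ⟨fst, rfl⟩ := (AlgSp.yon S).map_surjective fst'
  exact ⟨W, fst, snd, ha.2 _ _ fst sq.flip, hpe.2 _ _ snd sq, hps.2 _ _ snd sq⟩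

/-- a pointwise `(S_k)` chart of a sheaf transfers `(S_k)` (and local Noetherianity) to every
étale chart. -/
theorem sk_of_chart {X : AlgSp.Sp S} {U V : Over S} (k : ℕ)
    (p : (AlgSp.yon S).obj U ⟶ X) (a : (AlgSp.yon S).obj V ⟶ X)
    (hpe : AlgSp.RepWith @Etale p) (hps : AlgSp.RepWith @Surjective p)
    (ha : AlgSp.RepWith @Etale a) [IsLocallyNoetherian U.left]
    (hU : ∀ x : ↥U.left, min ((k : ℕ) : WithBot ℕ∞) (ringKrullDim ↥(U.left.presheaf.stalk x)) ≤
      ((LocCoh.depth ↥(U.left.presheaf.stalk x) ↥(U.left.presheaf.stalk x) : ℕ∞) : WithBot ℕ∞)) :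
    IsLocallyNoetherian V.left ∧
      ∀ v : ↥V.left, min ((k : ℕ) : WithBot ℕ∞) (ringKrullDim ↥(V.left.presheaf.stalk v)) ≤
        ((LocCoh.depth ↥(V.left.presheaf.stalk v) ↥(V.left.presheaf.stalk v) : ℕ∞) : WithBot ℕ∞) := by
  obtain ⟨W, f, s, hf, hs, hss⟩ := exists_common_chart p a hpe hps ha
  haveI : IsLocallyNoetherian W.left := LocallyOfFiniteType.isLocallyNoetherian f.left
  haveI hVN : IsLocallyNoetherian V.left :=
    Groth.Agent.Lib.Helper12.NoethDescent.isLocallyNoetherian_of_flat_lfp_surjective s.left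
  refine ⟨hVN, fun v => ?_⟩
  obtain ⟨w, rfl⟩ := s.left.surjective v
  rw [← sk_iff_of_etale s.left k w, sk_iff_of_etale f.left k w]
  exact hU _

end Groth.Agent.Lib.Helper8.EtSk
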