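import Groth.Agent.Lib.Helper8EtSuppGen

/-!
# Torsion sheaves supported in a specialization-closed subset of a Noetherian scheme (helper8)
-/

set_option autoImplicit false
set_option linter.style.haveILetI false
universe u
open CategoryTheory CategoryTheory.Limits AlgebraicGeometry Opposite Topology TopologicalSpace

namespace Groth.Agent.Lib.Helper8EtSpecSupp

open Groth.Agent.Lib.Helper9.EtMV Groth.Agent.Lib.Helper16.EtStalk
  Groth.Agent.Lib.Helper16.StalkPull Groth.Agent.Lib.Helper8EtFLCExt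
  Groth.Agent.Lib.Helper8EtArrowSpec Groth.Agent.Lib.Helper8EtSpecArrow
  Groth.Agent.Lib.Helper8EtSurjLocus Groth.Agent.Lib.Helper8EtSuppGood
  Groth.Agent.Lib.Helper8EtSuppGen

section Top

variable {α β : Type*} [TopologicalSpace α] [TopologicalSpace β]

/-- the image of a closed subset of a Noetherian quasi-sober space under a continuous map into a
specialization-closed subset is contained in a closed subset of it -/
theorem exists_isClosed_image_subset [NoetherianSpace α] [QuasiSober α] {g : α → β}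
    (hg : Continuous g) {S : Set α} (hS : IsClosed S) {E : Set β}
    (hE : StableUnderSpecialization E) (h : g '' S ⊆ E) :
    ∃ Z : Set β, IsClosed Z ∧ Z ⊆ E ∧ g '' S ⊆ Z := by
  obtain ⟨𝒮, hfin, hcl, hirr, rfl⟩ := NoetherianSpace.exists_finite_set_isClosed_irreducible hS
  refine ⟨⋃ t ∈ 𝒮, closure (g '' t), hfin.isClosed_biUnion (fun _ _ => isClosed_closure), ?_, ?_⟩
  · refine Set.iUnion₂_subset (fun t ht => ?_)
    obtain ⟨x, hx⟩ := QuasiSober.sober (hirr t ht) (hcl t ht)
    have hxt : x ∈ t := by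
      have := hx.def
      rw [← this]
      exact subset_closure rfl
    have hgE : g x ∈ E := h ⟨x, ⟨t, ht, hxt⟩, rfl⟩
    have hsub : closure (g '' t) ⊆ closure {g x} := by
      apply closure_minimal _ isClosed_closure
      rintro _ ⟨p, hpt, rfl⟩
      have h1 : p ∈ closure {x} := by
        rw [hx.def]
        exact hpt
      have h2 := image_closure_subset_closure_image hg (s := {x}) ⟨p, h1, rfl⟩
      rwa [Set.image_singleton] at h2
    intro y hy
    exact hE (specializes_iff_mem_closure.mpr (hsub hy)) hgE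
  · rintro _ ⟨p, ⟨t, ht, hpt⟩, rfl⟩
    exact Set.mem_biUnion ht (subset_closure ⟨p, hpt, rfl⟩)

end Top

variable (X : Scheme.{u}) [IsNoetherian X]

set_option backward.isDefEq.respectTransparency.types false in
/-- **Stacks 0F0M (1)**, Noetherian case with supports in a specialization-closed subset -/
theorem exists_filtered_colimit_spec (E : Set X) (hE : StableUnderSpecialization E)
    (F : EtCoh.Ab X) (hF : EtCoh.IsTorsion F) (hsupp : EtPBC.supp F ⊆ E) :
    ∃ (J : Type (u + 1)) (_ : SmallCategory J) (_ : IsFiltered J) (D : J ⥤ EtCoh.Ab X)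
      (c : Cocone D) (_ : IsColimit c), Nonempty (c.pt ≅ F) ∧
      ∀ j, EtPBC.IsConstructible (D.obj j) ∧
        ∃ Z : Set X, IsClosed Z ∧ Z ⊆ E ∧ EtPBC.supp (D.obj j) ⊆ Z := by
  suffices hgen : ∀ (V : X.Etale), IsAffine V.left → ∀ s : F.obj.obj (op V),
      ∃ U : X.Opens, IsCompact (U : Set X) ∧
        (U : Set X)ᶜ ∈ {Z : Set X | IsClosed Z ∧ Z ⊆ E} ∧
        ∀ (Ω : Type u) [Field Ω] [IsSepClosed Ω] (ξ : Spec (CommRingCat.of Ω) ⟶ X),
          ξ (default : Spec (CommRingCat.of Ω)) ∈ U →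
          ∀ v : (Scheme.pointSmallEtale ξ).fiber.obj V, germ ξ F V v s = 0 by
    obtain ⟨J, i1, i2, D, c, hc, hiso, hD⟩ := exists_filtered_colimit_supp
      {Z : Set X | IsClosed Z ∧ Z ⊆ E} ⟨isClosed_empty, Set.empty_subset _⟩
      (fun Z₁ h₁ Z₂ h₂ => ⟨h₁.1.union h₂.1, Set.union_subset h₁.2 h₂.2⟩) F hF hgen
    exact ⟨J, i1, i2, D, c, hc, hiso, fun j => ⟨(hD j).1, by
      obtain ⟨Z, ⟨hZ1, hZ2⟩, hZ3⟩ := (hD j).2
      exact ⟨Z, hZ1, hZ2, hZ3⟩⟩⟩
  intro V hV s
  obtain ⟨g, hg⟩ : ∃ g : V.left ⟶ X, g = V.hom := ⟨_, rfl⟩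
  have hgctr : ∀ {Ω : Type u} [Field Ω] [IsSepClosed Ω] (ξ : Spec (CommRingCat.of Ω) ⟶ X)
      (v : (Scheme.pointSmallEtale ξ).fiber.obj V),
      g (ctr ξ v) = ξ (default : Spec (CommRingCat.of Ω)) := by
    intro Ω _ _ ξ v
    rw [hg]
    exact hom_base_fiber ξ V v
  haveI : Etale g := hg ▸ V.prop
  haveI : IsAffine V.left := hV
  haveI : IsLocallyNoetherian V.left := LocallyOfFiniteType.isLocallyNoetherian g
  haveI : CompactSpace ↥V.left := inferInstance
  haveI : IsNoetherian V.left := {}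
  haveI : NoetherianSpace ↥V.left := inferInstance
  -- the image of the germ support lies in `E`
  have himg : g '' germSupp F V s ⊆ E := by
    rintro _ ⟨p, ⟨Ω, _, _, ξ, v, hv, hne⟩, rfl⟩
    apply hsupp
    refine ⟨Ω, inferInstance, inferInstance, ξ, ?_, fun hz => hne ?_⟩
    · rw [range_geomPt ξ, ← hgctr ξ v, hv]
    · exact (AddCommGrpCat.isZero_iff_subsingleton.mp hz).elim _ _
  obtain ⟨Z, hZc, hZE, hZ⟩ := exists_isClosed_image_subset g.continuous
    (isClosed_germSupp F V s) hE himg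
  refine ⟨⟨Zᶜ, hZc.isOpen_compl⟩, NoetherianSpace.isCompact _, ?_, ?_⟩
  · change (Zᶜ)ᶜ ∈ _
    rw [compl_compl]
    exact ⟨hZc, hZE⟩
  · intro Ω _ _ ξ hξ v
    by_contra hne
    have hv : ctr ξ v ∈ germSupp F V s := ⟨Ω, inferInstance, inferInstance, ξ, v, rfl, hne⟩
    have h1 : g (ctr ξ v) ∈ Z := hZ ⟨ctr ξ v, hv, rfl⟩
    rw [hgctr ξ v] at h1
    exact hξ h1

end Groth.Agent.Lib.Helper8EtSpecSupp
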