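import Groth.Prelude
import Groth.Agent.Lib.Helper20EtSplitSch

/-!
# Sheets of a split finite étale morphism and their base change (helper8)

Given a pullback square exhibiting `X ×_Y V₀ ≅ ∐_{Fin n} V₀` and a morphism `ρ : V' ⟶ V₀`, the
sheets `τ k : V' ⟶ X ×_Y V'` are monomorphisms with pairwise disjoint images covering
`X ×_Y V'`.
-/

set_option autoImplicit false
universe u

open CategoryTheory CategoryTheory.Limits AlgebraicGeometry Opposite

namespace Groth.Agent.Lib.Helper8EtSplitSheets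

variable {X Y V₀ V' : Scheme.{u}} {f : X ⟶ Y} {g : V₀ ⟶ Y} {n : ℕ}
  {top : (∐ fun _ : Fin n => V₀) ⟶ X}

/-- the `k`-th sheet `V₀ ⟶ X` -/
noncomputable def sheet (top : (∐ fun _ : Fin n => V₀) ⟶ X) (k : Fin n) : V₀ ⟶ X :=
  Sigma.ι (fun _ : Fin n => V₀) k ≫ top

theorem sheet_comp (hpb : IsPullback top (Sigma.desc fun _ : Fin n => 𝟙 V₀) f g) (k : Fin n) :
    sheet top k ≫ f = g := by
  rw [sheet, Category.assoc, hpb.w, ← Category.assoc, Sigma.ι_desc, Category.id_comp]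

variable (hpb : IsPullback top (Sigma.desc fun _ : Fin n => 𝟙 V₀) f g) (ρ : V' ⟶ V₀)

/-- the `k`-th sheet of `X ×_Y V'` -/
noncomputable def tau (k : Fin n) : V' ⟶ pullback (ρ ≫ g) f :=
  pullback.lift (𝟙 V') (ρ ≫ sheet top k)
    (by rw [Category.id_comp, Category.assoc, sheet_comp hpb])

@[reassoc]
theorem tau_fst (k : Fin n) : tau hpb ρ k ≫ pullback.fst (ρ ≫ g) f = 𝟙 V' :=
  pullback.lift_fst _ _ _

@[reassoc]
theorem tau_snd (k : Fin n) : tau hpb ρ k ≫ pullback.snd (ρ ≫ g) f = ρ ≫ sheet top k :=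
  pullback.lift_snd _ _ _

instance (k : Fin n) : Mono (tau hpb ρ k) :=
  mono_of_mono_fac (tau_fst hpb ρ k)

/-- the comparison `X ×_Y V' ⟶ ∐ V₀` -/
noncomputable def beta : pullback (ρ ≫ g) f ⟶ ∐ fun _ : Fin n => V₀ :=
  hpb.lift (pullback.snd (ρ ≫ g) f) (pullback.fst (ρ ≫ g) f ≫ ρ)
    (by rw [Category.assoc, ← pullback.condition])

@[reassoc]
theorem beta_top : beta hpb ρ ≫ top = pullback.snd (ρ ≫ g) f := hpb.lift_fst _ _ _

@[reassoc]
theorem beta_desc : beta hpb ρ ≫ (Sigma.desc fun _ : Fin n => 𝟙 V₀) =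
    pullback.fst (ρ ≫ g) f ≫ ρ := hpb.lift_snd _ _ _

theorem tau_beta (k : Fin n) :
    tau hpb ρ k ≫ beta hpb ρ = ρ ≫ Sigma.ι (fun _ : Fin n => V₀) k := by
  apply hpb.hom_ext
  · rw [Category.assoc, beta_top, tau_snd, Category.assoc]
    rfl
  · rw [Category.assoc, beta_desc, tau_fst_assoc, Category.assoc, Sigma.ι_desc, Category.comp_id]

/-- a morphism to `X ×_Y V'` whose image lies in the `k`-th component factors through the
`k`-th sheet. -/
theorem factor {T : Scheme.{u}} (q : T ⟶ pullback (ρ ≫ g) f) (k : Fin n) (l : T ⟶ V₀)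
    (hl : l ≫ Sigma.ι (fun _ : Fin n => V₀) k = q ≫ beta hpb ρ) :
    q = (q ≫ pullback.fst (ρ ≫ g) f) ≫ tau hpb ρ k := by
  have hl' : l = q ≫ pullback.fst (ρ ≫ g) f ≫ ρ := by
    have := congrArg (fun m => m ≫ (Sigma.desc fun _ : Fin n => 𝟙 V₀)) hl
    simp only [Category.assoc, Sigma.ι_desc, Category.comp_id, beta_desc] at this
    exact this
  apply pullback.hom_ext
  · rw [Category.assoc, tau_fst, Category.comp_id]
  · rw [Category.assoc, tau_snd, ← beta_top hpb ρ, ← Category.assoc q, ← hl, sheet,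
      Category.assoc]
    conv_lhs => rw [hl']
    simp only [Category.assoc]

/-- a morphism from a one-point scheme to a coproduct factors through a component -/
theorem exists_factor_sigma {T : Scheme.{u}} [Nonempty T] [Subsingleton T]
    (q : T ⟶ ∐ fun _ : Fin n => V₀) :
    ∃ (k : Fin n) (l : T ⟶ V₀), l ≫ Sigma.ι (fun _ : Fin n => V₀) k = q := by
  obtain ⟨w⟩ : Nonempty T := inferInstance
  obtain ⟨k, r, hr⟩ := (sigmaOpenCover (fun _ : Fin n => V₀)).exists_eq (q w)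
  have hr' : Sigma.ι (fun _ : Fin n => V₀) k r = q w := hr
  refine ⟨k, IsOpenImmersion.lift (Sigma.ι (fun _ : Fin n => V₀) k) q ?_,
    IsOpenImmersion.lift_fac _ _ _⟩
  rintro _ ⟨w', rfl⟩
  rw [Subsingleton.elim w' w]
  exact ⟨r, hr'⟩

theorem tau_disjoint (k l : Fin n) (a b : V') (h : tau hpb ρ k a = tau hpb ρ l b) : k = l := by
  have hab : a = b := by
    have := congrArg (pullback.fst (ρ ≫ g) f) h
    rw [← Scheme.Hom.comp_apply, ← Scheme.Hom.comp_apply, tau_fst, tau_fst] at this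
    exact this
  subst hab
  have h2 := congrArg (beta hpb ρ) h
  rw [← Scheme.Hom.comp_apply, ← Scheme.Hom.comp_apply, tau_beta, tau_beta,
    Scheme.Hom.comp_apply, Scheme.Hom.comp_apply] at h2
  have h3 := (sigmaι_eq_iff (fun _ : Fin n => V₀) k l (ρ a) (ρ a)).mp h2
  exact congrArg Sigma.fst h3

theorem tau_cover (z : ↥(pullback (ρ ≫ g) f)) : ∃ (k : Fin n) (a : V'), tau hpb ρ k a = z := by
  obtain ⟨k, l, hl⟩ := exists_factor_sigma
    ((pullback (ρ ≫ g) f).fromSpecResidueField z ≫ beta hpb ρ)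
  have hq := factor hpb ρ ((pullback (ρ ≫ g) f).fromSpecResidueField z) k l
    (by rw [hl])
  obtain ⟨w⟩ : Nonempty ↥(Spec ((pullback (ρ ≫ g) f).residueField z)) := inferInstance
  refine ⟨k, ((pullback (ρ ≫ g) f).fromSpecResidueField z ≫ pullback.fst (ρ ≫ g) f) w, ?_⟩
  rw [← Scheme.Hom.comp_apply, ← hq]
  exact Scheme.fromSpecResidueField_apply _ _

end Groth.Agent.Lib.Helper8EtSplitSheets
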