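import Mathlib
import Groth.Agent.Lib.Helper12Descent

/-!
# Finite étale covers are split by finite (étale) covers (helper4, round 2)

* `section_isOpenImmersion`: a section of an étale morphism is an open immersion.
* `isFinite_sigmaDesc_fin`: `Sigma.desc` of finitely many (index `Fin n`) finite morphisms is finite.
* `card_primes_le_finrank`, `card_le_finrank`: a finite flat scheme over a field has at most
  `finrank` points.
* `Bound φ n`: every base change of `φ` to a field has at most `n` points; `exists_bound`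
  (finite flat lfp over a connected base), `isEmpty_of_bound_zero`.
* `Zc φ`, `q φ`: complement of the diagonal in `X ×_S X` and its projection to `X`
  (finite étale if `φ` is); `mu`, `del`, `theta`, `cover`, `mu_ne_del`, `mu_injective`:
  decomposition `X ×_S T = T ⊔ (Z ×_X T)` for `t : T ⟶ X`; `bound_q`.
* `Split φ`, `split_of_bound`: a finite étale `φ` with bounded fibres is split by a finite étale
  `ψ : Y ⟶ S` with `Y` nonempty: finitely many pairwise disjoint jointly surjective sections.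
* `exists_iso_of_sections`, `forward`, `backward`: S8192.
-/

set_option autoImplicit false
set_option linter.style.haveILetI false
set_option linter.unusedSectionVars false
universe u

open CategoryTheory CategoryTheory.Limits AlgebraicGeometry

namespace Groth.Agent.Lib.R2H4.FEtSplit


/-- A section of an étale morphism is an open immersion. -/
theorem section_isOpenImmersion {T Y : Scheme.{u}} (p : T ⟶ Y) [Etale p] (s : Y ⟶ T)
    (hs : s ≫ p = 𝟙 Y) : IsOpenImmersion s := by
  haveI : Etale (s ≫ p) := by rw [hs]; infer_instance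
  haveI : Etale s := Etale.of_comp s p
  haveI : Mono s := by
    haveI : IsSplitMono s := IsSplitMono.mk' ⟨p, hs⟩
    infer_instance
  exact IsOpenImmersion.of_flat_of_mono s

/-- Finite coproducts of finite morphisms are finite. -/
theorem isFinite_sigmaDesc_fin : ∀ (n : ℕ) {X : Scheme.{u}} (Z : Fin n → Scheme.{u})
    (g : ∀ i, Z i ⟶ X) (_ : ∀ i, IsFinite (g i)), IsFinite (Sigma.desc g) := by
  intro n
  induction n with
  | zero =>
    intro X Z g _
    haveI : IsEmpty ↥(∐ Z) := by
      refine ⟨fun x => ?_⟩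
      obtain ⟨i, _⟩ := (sigmaOpenCover Z).exists_eq x
      exact Fin.elim0 i
    infer_instance
  | succ n ih =>
    intro X Z g hg
    let a : (∐ Z) ⟶ (Z 0 ⨿ ∐ fun i : Fin n => Z i.succ) :=
      Sigma.desc (fun i => Fin.cases
        (motive := fun i => Z i ⟶ (Z 0 ⨿ ∐ fun i : Fin n => Z i.succ))
        coprod.inl (fun j => Sigma.ι (fun i : Fin n => Z i.succ) j ≫ coprod.inr) i)
    let b : (Z 0 ⨿ ∐ fun i : Fin n => Z i.succ) ⟶ ∐ Z :=
      coprod.desc (Sigma.ι Z 0) (Sigma.desc fun j : Fin n => Sigma.ι Z j.succ)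
    have ha0 : Sigma.ι Z 0 ≫ a = coprod.inl := by
      simp only [a, colimit.ι_desc, Cofan.mk_pt, Cofan.mk_ι_app, Fin.cases_zero]
    have haS : ∀ j : Fin n, Sigma.ι Z j.succ ≫ a =
        Sigma.ι (fun i : Fin n => Z i.succ) j ≫ coprod.inr := by
      intro j
      simp only [a, colimit.ι_desc, Cofan.mk_pt, Cofan.mk_ι_app, Fin.cases_succ]
    have hb0 : coprod.inl ≫ b = Sigma.ι Z 0 := coprod.inl_desc _ _
    have hbS : ∀ j : Fin n, Sigma.ι (fun i : Fin n => Z i.succ) j ≫ coprod.inr ≫ b =
        Sigma.ι Z j.succ := by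
      intro j
      simp only [b, coprod.inr_desc, colimit.ι_desc, Cofan.mk_pt, Cofan.mk_ι_app]
    have hab : a ≫ b = 𝟙 _ := by
      refine Sigma.hom_ext _ _ fun i => ?_
      rw [Category.comp_id]
      refine Fin.cases ?_ (fun j => ?_) i
      · rw [reassoc_of% ha0, hb0]
      · rw [reassoc_of% (haS j), hbS]
    have hba : b ≫ a = 𝟙 _ := by
      refine coprod.hom_ext ?_ ?_
      · rw [reassoc_of% hb0, ha0, Category.comp_id]
      · refine Sigma.hom_ext _ _ fun j => ?_
        rw [reassoc_of% (hbS j), haS, Category.comp_id]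
    haveI : IsIso a := ⟨b, hab, hba⟩
    haveI : IsFinite (Sigma.desc fun i : Fin n => g i.succ) := ih _ _ (fun i => hg i.succ)
    haveI := hg 0
    have h : Sigma.desc g = a ≫ coprod.desc (g 0) (Sigma.desc fun i : Fin n => g i.succ) := by
      refine Sigma.hom_ext _ _ fun i => ?_
      rw [colimit.ι_desc]
      refine Fin.cases ?_ (fun j => ?_) i
      · rw [reassoc_of% ha0, coprod.inl_desc]
        rfl
      · rw [reassoc_of% (haS j), coprod.inr_desc, colimit.ι_desc]
        rfl
    rw [h]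
    infer_instance




/-- A finite-dimensional commutative algebra over a field has at most `finrank` primes. -/
theorem card_primes_le_finrank (K B : Type u) [Field K] [CommRing B] [Algebra K B]
    [Module.Finite K B] (F : Finset (PrimeSpectrum B)) : F.card ≤ Module.finrank K B := by
  classical
  haveI : IsArtinianRing B := IsArtinianRing.of_finite K B
  haveI : Fintype (PrimeSpectrum B) := Fintype.ofFinite _
  have hfin : ∀ p : PrimeSpectrum B, Module.Finite K (Localization.AtPrime p.asIdeal) := fun p =>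
    Module.Finite.of_surjective (Algebra.algHom K B (Localization.AtPrime p.asIdeal)).toLinearMap
      (IsArtinianRing.localization_surjective p.asIdeal.primeCompl (Localization.AtPrime p.asIdeal))
  rw [IsArtinianRing.finrank_eq_sum_primeSpectrum (R := B) (F := K)]
  calc F.card ≤ Fintype.card (PrimeSpectrum B) := Finset.card_le_univ F
    _ = ∑ _p : PrimeSpectrum B, 1 := by simp
    _ ≤ _ := by
      refine Finset.sum_le_sum fun p _ => ?_
      haveI := hfin p
      exact Module.finrank_pos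

theorem card_le_finrank {K : Type u} [Field K] {X' : Scheme.{u}}
    (g : X' ⟶ Spec (CommRingCat.of K)) [IsFinite g] [Flat g] (F : Finset X')
    (pt : ↥(Spec (CommRingCat.of K))) : F.card ≤ g.finrank pt := by
  classical
  haveI : IsAffine X' := isAffine_of_isAffineHom g
  let φ : CommRingCat.of K ⟶ Γ(X', ⊤) := (Scheme.ΓSpecIso (CommRingCat.of K)).inv ≫ g.appTop
  have hg : g = X'.isoSpec.hom ≫ Spec.map φ := by
    have h1 := Scheme.isoSpec_hom_naturality g
    rw [Scheme.isoSpec_Spec_hom] at h1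
    simp only [φ, Spec.map_comp]
    rw [← Category.assoc, h1, Category.assoc, ← Spec.map_comp, Iso.inv_hom_id, Spec.map_id,
      Category.comp_id]
  have hφ : Spec.map φ = X'.isoSpec.inv ≫ g := by rw [hg, Iso.inv_hom_id_assoc]
  haveI : IsFinite (Spec.map φ) := by rw [hφ]; infer_instance
  haveI : Flat (Spec.map φ) := by rw [hφ]; infer_instance
  have hf₁ : φ.hom.Finite := (IsFinite.SpecMap_iff φ).mp inferInstance
  have hf₂ : φ.hom.Flat := (Flat.SpecMap_iff (f := φ)).mp inferInstance
  have h2 : g.finrank = (Spec.map φ).finrank := by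
    rw [hg, Scheme.Hom.finrank_comp_left_of_isIso]
  rw [h2, Scheme.Hom.finrank_SpecMap_eq_finrank hf₁ hf₂]
  letI : Algebra K Γ(X', ⊤) := φ.hom.toAlgebra
  haveI : Module.Finite K Γ(X', ⊤) := hf₁
  change F.card ≤ Module.rankAtStalk (R := K) Γ(X', ⊤) pt
  rw [Module.rankAtStalk_eq_finrank_of_free]
  let f : X' → PrimeSpectrum Γ(X', ⊤) := fun x => X'.isoSpec.hom x
  have hinj : Function.Injective f := (X'.isoSpec.hom.homeomorph).injective
  have := card_primes_le_finrank K Γ(X', ⊤) (F.image f)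
  rwa [Finset.card_image_of_injective F hinj] at this





variable {X S : Scheme.{u}} (φ : X ⟶ S)

/-- Every base change of `φ` to a field has at most `n` points. -/
def Bound (n : ℕ) : Prop :=
  ∀ (K : Type u) [Field K] (t : Spec (CommRingCat.of K) ⟶ S) (F : Finset ↥(pullback φ t)),
    F.card ≤ n

theorem exists_bound [IsFinite φ] [Flat φ] [LocallyOfFinitePresentation φ] [ConnectedSpace ↥S] :
    ∃ n, Bound φ n := by
  obtain ⟨s₀⟩ : Nonempty ↥S := inferInstance
  refine ⟨φ.finrank s₀, ?_⟩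
  intro K _ t F
  let pt : ↥(Spec (CommRingCat.of K)) := (⟨⊥, Ideal.isPrime_bot⟩ : PrimeSpectrum K)
  have h1 := card_le_finrank (pullback.snd φ t) F pt
  rw [Scheme.Hom.finrank_pullback_snd] at h1
  have h2 : φ.finrank (t pt) = φ.finrank s₀ :=
    (Scheme.Hom.isLocallyConstant_finrank φ).apply_eq_of_preconnectedSpace _ _
  rwa [h2] at h1

theorem isEmpty_of_bound_zero (h : Bound φ 0) : IsEmpty ↥X := by
  refine ⟨fun x => ?_⟩
  let t : Spec (CommRingCat.of (X.residueField x)) ⟶ S := X.fromSpecResidueField x ≫ φ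
  let w : Spec (CommRingCat.of (X.residueField x)) ⟶ pullback φ t :=
    pullback.lift (X.fromSpecResidueField x) (𝟙 _) (by simp [t])
  let pt : ↥(Spec (CommRingCat.of (X.residueField x))) :=
    (⟨⊥, Ideal.isPrime_bot⟩ : PrimeSpectrum (X.residueField x))
  have := h (X.residueField x) t {w pt}
  simp at this


section Decomp

variable [IsFinite φ] [Etale φ]

instance diag_isOpenImmersion : IsOpenImmersion (pullback.diagonal φ) :=
  IsOpenImmersion.of_flat_of_mono _

theorem isClosed_range_diag : IsClosed (Set.range (pullback.diagonal φ)) :=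
  (pullback.diagonal φ).isClosedEmbedding.isClosed_range

/-- The complement of the diagonal in `X ×_S X`. -/
noncomputable def Zc : (pullback φ φ).Opens :=
  ⟨(Set.range (pullback.diagonal φ))ᶜ, (isClosed_range_diag φ).isOpen_compl⟩

theorem mem_Zc (p : ↥(pullback φ φ)) : p ∈ Zc φ ↔ p ∉ Set.range (pullback.diagonal φ) := Iff.rfl

instance Zc_isClosedImmersion : IsClosedImmersion (Zc φ).ι := by
  refine IsClosedImmersion.of_isPreimmersion _ ?_
  rw [Scheme.Opens.range_ι]
  change IsClosed ((Set.range (pullback.diagonal φ))ᶜ)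
  exact (pullback.diagonal φ).isOpenEmbedding.isOpen_range.isClosed_compl

/-- The second projection from the complement of the diagonal. -/
noncomputable def q : ((Zc φ : (pullback φ φ).Opens) : Scheme.{u}) ⟶ X :=
  (Zc φ).ι ≫ pullback.snd φ φ

instance q_isFinite : IsFinite (q φ) := by unfold q; infer_instance
instance q_etale : Etale (q φ) := by unfold q; infer_instance

variable {T : Scheme.{u}} (t : T ⟶ X)

theorem mu_aux : (pullback.fst (q φ) t ≫ (Zc φ).ι ≫ pullback.fst φ φ) ≫ φ =
    pullback.snd (q φ) t ≫ t ≫ φ := by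
  have h1 : pullback.fst (q φ) t ≫ (Zc φ).ι ≫ pullback.snd φ φ = pullback.snd (q φ) t ≫ t :=
    pullback.condition
  calc (pullback.fst (q φ) t ≫ (Zc φ).ι ≫ pullback.fst φ φ) ≫ φ
      = pullback.fst (q φ) t ≫ (Zc φ).ι ≫ (pullback.fst φ φ ≫ φ) := by
        simp only [Category.assoc]
    _ = pullback.fst (q φ) t ≫ (Zc φ).ι ≫ (pullback.snd φ φ ≫ φ) := by rw [pullback.condition]
    _ = (pullback.fst (q φ) t ≫ (Zc φ).ι ≫ pullback.snd φ φ) ≫ φ := by
        simp only [Category.assoc]
    _ = _ := by rw [h1, Category.assoc]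

/-- `Z ×_X T ⟶ X ×_S T`. -/
noncomputable def mu : pullback (q φ) t ⟶ pullback φ (t ≫ φ) :=
  pullback.lift (pullback.fst (q φ) t ≫ (Zc φ).ι ≫ pullback.fst φ φ) (pullback.snd (q φ) t)
    (mu_aux φ t)

/-- The section `T ⟶ X ×_S T` induced by `t`. -/
noncomputable def del : T ⟶ pullback φ (t ≫ φ) :=
  pullback.lift t (𝟙 T) (by simp)

/-- `X ×_S T ⟶ X ×_S X`. -/
noncomputable def theta : pullback φ (t ≫ φ) ⟶ pullback φ φ :=
  pullback.lift (pullback.fst φ (t ≫ φ)) (pullback.snd φ (t ≫ φ) ≫ t)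
    (by rw [pullback.condition, Category.assoc])

@[reassoc]
theorem mu_fst : mu φ t ≫ pullback.fst φ (t ≫ φ) =
    pullback.fst (q φ) t ≫ (Zc φ).ι ≫ pullback.fst φ φ := pullback.lift_fst _ _ _

@[reassoc]
theorem mu_snd : mu φ t ≫ pullback.snd φ (t ≫ φ) = pullback.snd (q φ) t := pullback.lift_snd _ _ _

@[reassoc]
theorem del_fst : del φ t ≫ pullback.fst φ (t ≫ φ) = t := pullback.lift_fst _ _ _

@[reassoc]
theorem del_snd : del φ t ≫ pullback.snd φ (t ≫ φ) = 𝟙 T := pullback.lift_snd _ _ _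

@[reassoc]
theorem theta_fst : theta φ t ≫ pullback.fst φ φ = pullback.fst φ (t ≫ φ) := pullback.lift_fst _ _ _

@[reassoc]
theorem theta_snd : theta φ t ≫ pullback.snd φ φ = pullback.snd φ (t ≫ φ) ≫ t :=
  pullback.lift_snd _ _ _

@[reassoc]
theorem mu_theta : mu φ t ≫ theta φ t = pullback.fst (q φ) t ≫ (Zc φ).ι := by
  refine pullback.hom_ext ?_ ?_
  · rw [Category.assoc, theta_fst, mu_fst, Category.assoc]
  · rw [Category.assoc, theta_snd, mu_snd_assoc, Category.assoc]
    exact (pullback.condition (f := q φ) (g := t)).symm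

@[reassoc]
theorem del_theta : del φ t ≫ theta φ t = t ≫ pullback.diagonal φ := by
  refine pullback.hom_ext ?_ ?_
  · rw [Category.assoc, theta_fst, del_fst, Category.assoc, pullback.diagonal_fst, Category.comp_id]
  · rw [Category.assoc, theta_snd, del_snd_assoc, Category.assoc, pullback.diagonal_snd,
      Category.comp_id]

instance mu_mono : Mono (mu φ t) := by
  refine ⟨fun {W} a b hab => ?_⟩
  have h1 : a ≫ pullback.snd (q φ) t = b ≫ pullback.snd (q φ) t := by
    have := congrArg (· ≫ pullback.snd φ (t ≫ φ)) hab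
    simpa only [Category.assoc, mu_snd] using this
  have h2 : a ≫ pullback.fst (q φ) t = b ≫ pullback.fst (q φ) t := by
    rw [← cancel_mono (Zc φ).ι]
    have := congrArg (· ≫ theta φ t) hab
    simpa only [Category.assoc, mu_theta] using this
  exact pullback.hom_ext h2 h1

theorem mu_injective : Function.Injective (mu φ t) := (mu φ t).injective

theorem mu_ne_del (v : ↥(pullback (q φ) t)) (y : T) : mu φ t v ≠ del φ t y := by
  intro h
  have h1 : theta φ t (mu φ t v) = theta φ t (del φ t y) := by rw [h]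
  rw [← Scheme.Hom.comp_apply, ← Scheme.Hom.comp_apply, mu_theta, del_theta,
    Scheme.Hom.comp_apply, Scheme.Hom.comp_apply] at h1
  have h2 : (Zc φ).ι (pullback.fst (q φ) t v) ∈ Zc φ := (pullback.fst (q φ) t v).2
  rw [h1] at h2
  exact h2 ⟨_, rfl⟩

theorem cover (w : ↥(pullback φ (t ≫ φ))) :
    (∃ y, del φ t y = w) ∨ ∃ v, mu φ t v = w := by
  by_cases hw : theta φ t w ∈ Set.range (pullback.diagonal φ)
  · left
    let W : (pullback φ (t ≫ φ)).Opens := theta φ t ⁻¹ᵁ (pullback.diagonal φ).opensRange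
    have hwW : w ∈ W := hw
    have hr : Set.range (W.ι ≫ theta φ t) ⊆ Set.range (pullback.diagonal φ) := by
      rintro _ ⟨z, rfl⟩
      rw [Scheme.Hom.comp_apply]
      exact z.2
    let a : (W : Scheme.{u}) ⟶ X := IsOpenImmersion.lift (pullback.diagonal φ) (W.ι ≫ theta φ t) hr
    have ha : a ≫ pullback.diagonal φ = W.ι ≫ theta φ t := IsOpenImmersion.lift_fac _ _ hr
    have h1 : W.ι ≫ pullback.fst φ (t ≫ φ) = a := by
      have := congrArg (· ≫ pullback.fst φ φ) ha
      simp only [Category.assoc, pullback.diagonal_fst, Category.comp_id, theta_fst] at this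
      exact this.symm
    have h2 : W.ι ≫ pullback.snd φ (t ≫ φ) ≫ t = a := by
      have := congrArg (· ≫ pullback.snd φ φ) ha
      simp only [Category.assoc, pullback.diagonal_snd, Category.comp_id, theta_snd] at this
      exact this.symm
    have h3 : W.ι = W.ι ≫ pullback.snd φ (t ≫ φ) ≫ del φ t := by
      refine pullback.hom_ext ?_ ?_
      · rw [Category.assoc, Category.assoc, del_fst, h1, h2]
      · rw [Category.assoc, Category.assoc, del_snd, Category.comp_id]
    refine ⟨pullback.snd φ (t ≫ φ) w, ?_⟩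
    have h4 := congrArg (fun f : (W : Scheme.{u}) ⟶ pullback φ (t ≫ φ) => f ⟨w, hwW⟩) h3
    simp only [Scheme.Hom.comp_apply] at h4
    exact h4.symm
  · right
    let W : (pullback φ (t ≫ φ)).Opens := theta φ t ⁻¹ᵁ (Zc φ)
    have hwW : w ∈ W := hw
    have hr : Set.range (W.ι ≫ theta φ t) ⊆ Set.range (Zc φ).ι := by
      rintro _ ⟨z, rfl⟩
      rw [Scheme.Hom.comp_apply, Scheme.Opens.range_ι]
      exact z.2
    let b : (W : Scheme.{u}) ⟶ (Zc φ : Scheme.{u}) :=
      IsOpenImmersion.lift (Zc φ).ι (W.ι ≫ theta φ t) hr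
    have hb : b ≫ (Zc φ).ι = W.ι ≫ theta φ t := IsOpenImmersion.lift_fac _ _ hr
    have hc : b ≫ q φ = (W.ι ≫ pullback.snd φ (t ≫ φ)) ≫ t := by
      unfold q
      rw [reassoc_of% hb, theta_snd, Category.assoc]
    let c : (W : Scheme.{u}) ⟶ pullback (q φ) t := pullback.lift b (W.ι ≫ pullback.snd φ (t ≫ φ)) hc
    have h3 : c ≫ mu φ t = W.ι := by
      refine pullback.hom_ext ?_ ?_
      · rw [Category.assoc, mu_fst, pullback.lift_fst_assoc, reassoc_of% hb, theta_fst]
      · rw [Category.assoc, mu_snd, pullback.lift_snd]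
    refine ⟨c ⟨w, hwW⟩, ?_⟩
    have h4 := congrArg (fun f : (W : Scheme.{u}) ⟶ pullback φ (t ≫ φ) => f ⟨w, hwW⟩) h3
    simp only [Scheme.Hom.comp_apply] at h4
    exact h4

theorem bound_q {n : ℕ} (h : Bound φ (n + 1)) : Bound (q φ) n := by
  intro K _ t F
  classical
  let pt : ↥(Spec (CommRingCat.of K)) := (⟨⊥, Ideal.isPrime_bot⟩ : PrimeSpectrum K)
  have h1 := h K (t ≫ φ) (insert (del φ t pt) (F.image (mu φ t)))
  rw [Finset.card_insert_of_notMem, Finset.card_image_of_injective _ (mu_injective φ t)] at h1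
  · omega
  · intro hmem
    obtain ⟨v, _, hv⟩ := Finset.mem_image.mp hmem
    exact mu_ne_del φ t v pt hv

end Decomp

/-- Splitting data for `φ`: a finite étale `ψ : Y ⟶ S` from a nonempty scheme and finitely many
pairwise disjoint, jointly surjective sections of `X ×_S Y ⟶ Y`. -/
def Split (φ : X ⟶ S) : Prop :=
  ∃ (Y : Scheme.{u}) (ψ : Y ⟶ S) (m : ℕ) (s : Fin m → (Y ⟶ pullback φ ψ)),
    IsFinite ψ ∧ Etale ψ ∧ Nonempty ↥Y ∧ (∀ i, s i ≫ pullback.snd φ ψ = 𝟙 Y) ∧
    (∀ w : ↥(pullback φ ψ), ∃ i y, s i y = w) ∧ (∀ i j y y', s i y = s j y' → i = j)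

theorem split_of_isEmpty [IsEmpty ↥X] (hS : Nonempty ↥S) : Split φ := by
  refine ⟨S, 𝟙 S, 0, fun i => Fin.elim0 i, inferInstance, inferInstance, hS,
    fun i => Fin.elim0 i, fun w => ?_, fun i => Fin.elim0 i⟩
  exact (IsEmpty.false (pullback.fst φ (𝟙 S) w)).elim

theorem split_of_bound : ∀ (n : ℕ) {X S : Scheme.{u}} (φ : X ⟶ S) [IsFinite φ] [Etale φ],
    Bound φ n → Nonempty ↥S → Split φ := by
  intro n
  induction n with
  | zero =>
    intro X S φ _ _ hb hS
    haveI := isEmpty_of_bound_zero φ hb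
    exact split_of_isEmpty φ hS
  | succ n ih =>
    intro X S φ _ _ hb hS
    by_cases hX : IsEmpty ↥X
    · exact split_of_isEmpty φ hS
    rw [not_isEmpty_iff] at hX
    obtain ⟨Y, ψ', m, s', hfin, het, hY, hsec, hcov, hdisj⟩ := ih (q φ) (bound_q φ hb) hX
    refine ⟨Y, ψ' ≫ φ, m + 1,
      fun i => Fin.cases (motive := fun _ => Y ⟶ pullback φ (ψ' ≫ φ)) (del φ ψ')
        (fun i => s' i ≫ mu φ ψ') i,
      inferInstance, inferInstance, hY, ?_, ?_, ?_⟩
    · intro i
      refine Fin.cases ?_ (fun j => ?_) i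
      · simp only [Fin.cases_zero]
        exact del_snd φ ψ'
      · simp only [Fin.cases_succ]
        rw [Category.assoc, mu_snd, hsec]
    · intro w
      rcases cover φ ψ' w with ⟨y, hy⟩ | ⟨v, hv⟩
      · exact ⟨0, y, by simpa only [Fin.cases_zero] using hy⟩
      · obtain ⟨i, y, hiy⟩ := hcov v
        refine ⟨i.succ, y, ?_⟩
        simp only [Fin.cases_succ]
        rw [Scheme.Hom.comp_apply, hiy, hv]
    · intro i j y y'
      refine Fin.cases ?_ (fun i' => ?_) i <;> refine Fin.cases ?_ (fun j' => ?_) j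
      · intro _; rfl
      · simp only [Fin.cases_zero, Fin.cases_succ]
        intro h
        rw [Scheme.Hom.comp_apply] at h
        exact (mu_ne_del φ ψ' _ _ h.symm).elim
      · simp only [Fin.cases_zero, Fin.cases_succ]
        intro h
        rw [Scheme.Hom.comp_apply] at h
        exact (mu_ne_del φ ψ' _ _ h).elim
      · simp only [Fin.cases_succ]
        intro h
        rw [Scheme.Hom.comp_apply, Scheme.Hom.comp_apply] at h
        rw [hdisj i' j' y y' (mu_injective φ ψ' h)]





/-- From splitting data to an isomorphism with a finite coproduct of copies of `Y`. -/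
theorem exists_iso_of_sections {X S Y : Scheme.{u}} (φ : X ⟶ S) (ψ : Y ⟶ S) [Etale φ] (m : ℕ)
    (s : Fin m → (Y ⟶ pullback φ ψ)) (hsec : ∀ i, s i ≫ pullback.snd φ ψ = 𝟙 Y)
    (hcov : ∀ w : ↥(pullback φ ψ), ∃ i y, s i y = w)
    (hdisj : ∀ i j y y', s i y = s j y' → i = j) :
    ∃ e : pullback φ ψ ≅ ∐ fun _ : Fin m => Y,
      ∀ i : Fin m, Sigma.ι (fun _ : Fin m => Y) i ≫ e.inv ≫ pullback.snd φ ψ = 𝟙 Y := by
  haveI : ∀ i, IsOpenImmersion (s i) := fun i =>
    section_isOpenImmersion (pullback.snd φ ψ) (s i) (hsec i)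
  have h1 : ⨆ i, (s i).opensRange = ⊤ := by
    rw [eq_top_iff]
    intro w _
    obtain ⟨i, y, hy⟩ := hcov w
    simp only [TopologicalSpace.Opens.iSup_mk, TopologicalSpace.Opens.mem_mk, Set.mem_iUnion]
    exact ⟨i, y, hy⟩
  have h2 : Pairwise (Function.onFun Disjoint fun i => (s i).opensRange) := by
    intro i j hij
    rw [Function.onFun, disjoint_iff, TopologicalSpace.Opens.ext_iff]
    ext w
    simp only [TopologicalSpace.Opens.coe_inf, Set.mem_inter_iff, TopologicalSpace.Opens.coe_bot,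
      Set.mem_empty_iff_false, iff_false, not_and]
    rintro ⟨y, hy⟩ ⟨y', hy'⟩
    exact hij (hdisj i j y y' (hy.trans hy'.symm))
  obtain ⟨hc⟩ := nonempty_isColimit_cofanMk_of s h1 h2
  let e : pullback φ ψ ≅ ∐ fun _ : Fin m => Y :=
    hc.coconePointUniqueUpToIso (coproductIsCoproduct _)
  refine ⟨e, fun i => ?_⟩
  have h3 : Sigma.ι (fun _ : Fin m => Y) i ≫ e.inv = s i :=
    hc.comp_coconePointUniqueUpToIso_inv (coproductIsCoproduct _) ⟨i⟩
  rw [reassoc_of% h3, hsec]

theorem forward {X S : Scheme.{u}} (φ : X ⟶ S) [IsFinite φ] [Etale φ] [ConnectedSpace ↥S] :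
    ∃ (Y : Scheme.{u}) (ψ : Y ⟶ S), IsFinite ψ ∧ Flat ψ ∧ LocallyOfFinitePresentation ψ ∧
      Surjective ψ ∧ ∃ (n : ℕ) (e : pullback φ ψ ≅ ∐ fun _ : Fin n => Y),
        ∀ i : Fin n, Sigma.ι (fun _ : Fin n => Y) i ≫ e.inv ≫ pullback.snd φ ψ = 𝟙 Y := by
  obtain ⟨n, hn⟩ := exists_bound φ
  obtain ⟨Y, ψ, m, s, hfin, het, hY, hsec, hcov, hdisj⟩ := split_of_bound n φ hn inferInstance
  haveI := hfin
  haveI := het
  have hsurj : Surjective ψ := by
    refine ⟨fun x => ?_⟩
    have hcl : IsClosed (Set.range ψ) := ψ.isClosedMap.isClosed_range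
    have hop : IsOpen (Set.range ψ) := ψ.isOpenMap.isOpen_range
    have hne : (Set.range ψ).Nonempty := by
      obtain ⟨y⟩ := hY
      exact ⟨ψ y, y, rfl⟩
    have : Set.range ψ = Set.univ := IsClopen.eq_univ ⟨hcl, hop⟩ hne
    have hx : x ∈ Set.range ψ := by rw [this]; exact Set.mem_univ x
    exact hx
  obtain ⟨e, he⟩ := exists_iso_of_sections φ ψ m s hsec hcov hdisj
  exact ⟨Y, ψ, hfin, inferInstance, inferInstance, hsurj, m, e, he⟩

theorem backward {X S Y : Scheme.{u}} (φ : X ⟶ S) (ψ : Y ⟶ S) [IsFinite ψ] [Flat ψ]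
    [Surjective ψ] (n : ℕ) (e : pullback φ ψ ≅ ∐ fun _ : Fin n => Y)
    (he : ∀ i : Fin n, Sigma.ι (fun _ : Fin n => Y) i ≫ e.inv ≫ pullback.snd φ ψ = 𝟙 Y) :
    IsFinite φ ∧ Etale φ := by
  have h1 : e.inv ≫ pullback.snd φ ψ = Sigma.desc (fun _ : Fin n => 𝟙 Y) := by
    refine Sigma.hom_ext _ _ fun i => ?_
    rw [he i, colimit.ι_desc]
    rfl
  have h2 : pullback.snd φ ψ = e.hom ≫ Sigma.desc (fun _ : Fin n => 𝟙 Y) := by
    rw [← h1, Iso.hom_inv_id_assoc]
  haveI : IsFinite (Sigma.desc (fun _ : Fin n => 𝟙 Y)) :=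
    isFinite_sigmaDesc_fin n (fun _ => Y) (fun _ => 𝟙 Y) (fun _ => inferInstance)
  haveI : Etale (Sigma.desc (fun _ : Fin n => 𝟙 Y)) :=
    IsZariskiLocalAtSource.sigmaDesc (fun _ => inferInstance)
  have h3 : IsFinite (pullback.snd φ ψ) := by rw [h2]; infer_instance
  have h4 : Etale (pullback.snd φ ψ) := by rw [h2]; infer_instance
  have hQ : (@Surjective ⊓ @Flat ⊓ @QuasiCompact : MorphismProperty Scheme.{u}) ψ :=
    ⟨⟨inferInstance, inferInstance⟩, inferInstance⟩
  haveI := Groth.Agent.Lib.Helper12.descendsAlong_isFinite.{u}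
  exact ⟨MorphismProperty.of_pullback_snd_of_descendsAlong (P := @IsFinite) hQ h3,
    MorphismProperty.of_pullback_snd_of_descendsAlong (P := @Etale) hQ h4⟩


end Groth.Agent.Lib.R2H4.FEtSplit
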