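import Mathlib
import Groth.Agent.Lib.R2H4FibRankG
import Groth.Agent.Lib.R2H4FEtSplit
import Groth.Agent.Lib.Helper8EtConstrCover

/-!
# Stratifications over which quasi-finite flat morphisms become finite (helper8)

* `exists_strat_sep` : for a finite family of separated, flat, finitely presented, quasi-finite
  morphisms to a quasi-compact quasi-separated scheme `X` there is a finite stratification of `X`
  by constructible locally closed subschemes over which all members of the family are finite.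
* `isFinite_of_cover` : a morphism is finite if its source has a finite open cover whose members
  and their pairwise intersections are finite over the target.
* `exists_strat_etale` : the case of an étale morphism of quasi-compact quasi-separated schemes.
-/

set_option autoImplicit false
set_option linter.style.haveILetI false
universe u
open CategoryTheory CategoryTheory.Limits AlgebraicGeometry Opposite TopologicalSpace

namespace Groth.Agent.Lib.Helper8EtStratFin

open Groth.Agent.Lib.R2H4.FibRankD Groth.Agent.Lib.R2H4.FibRankE Groth.Agent.Lib.R2H4.FibRankF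
  Groth.Agent.Lib.R2H4.FibRankG Groth.Agent.Lib.Helper8EtConstrCover

lemma locallyQuasiFinite_of_etale {Z T : Scheme.{u}} (g : Z ⟶ T) [Etale g] :
    LocallyQuasiFinite g where
  quasiFinite_appLE {U} hU {V} hV e := by
    have h := g.etale_appLE hU hV e
    algebraize [(g.appLE _ _ e).hom]
    exact inferInstanceAs (Algebra.QuasiFinite _ _)

lemma mem_finset_inf {α ι : Type*} [TopologicalSpace α] (s : Finset ι) (f : ι → Opens α) (x : α) :
    x ∈ s.inf f ↔ ∀ i ∈ s, x ∈ f i := by
  classical
  induction s using Finset.induction_on with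
  | empty => simp
  | insert a s ha ih =>
    rw [Finset.inf_insert, Opens.mem_inf, ih]
    simp

lemma mem_finset_sup {α ι : Type*} [TopologicalSpace α] (s : Finset ι) (f : ι → Opens α) (x : α) :
    x ∈ s.sup f ↔ ∃ i ∈ s, x ∈ f i := by
  classical
  induction s using Finset.induction_on with
  | empty => simp
  | insert a s ha ih =>
    rw [Finset.sup_insert, Opens.mem_sup, ih]
    simp

section Sep

variable {X : Scheme.{u}} [CompactSpace X] [QuasiSeparatedSpace X]

/-- the fibre degree -/
noncomputable def deg {U : Scheme.{u}} (j : U ⟶ X) (x : X) : ℕ := Cardinal.toNat (fibRk j x)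

variable {U : Scheme.{u}} (j : U ⟶ X) [Flat j] [LocallyOfFinitePresentation j] [IsSeparated j]
  [LocallyQuasiFinite j] [QuasiCompact j]

lemma le_deg_iff (x : X) (d : ℕ) : d ≤ deg j x ↔ (d : Cardinal.{u}) ≤ fibRk j x := by
  have h := Cardinal.cast_toNat_of_lt_aleph0 (fibRk_lt_aleph0 j x)
  unfold deg
  conv_rhs => rw [← h]
  exact Nat.cast_le.symm

/-- the open locus where the degree is at least `d` -/
noncomputable def degOpen (d : ℕ) : X.Opens :=
  ⟨{x | (d : Cardinal.{u}) ≤ fibRk j x}, isOpen_le_fibRk d j⟩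

lemma mem_degOpen (d : ℕ) (x : X) : x ∈ degOpen j d ↔ d ≤ deg j x :=
  (le_deg_iff j x d).symm

lemma isCompact_degOpen (d : ℕ) : IsCompact (degOpen j d : Set X) :=
  isCompact_le_fibRk d j

lemma isConstructible_deg_eq (r : ℕ) : Topology.IsConstructible {x : X | deg j x = r} := by
  have : {x : X | deg j x = r} = (degOpen j r : Set X) \ (degOpen j (r + 1) : Set X) := by
    ext x
    simp only [Set.mem_setOf_eq, Set.mem_diff, SetLike.mem_coe, mem_degOpen]
    omega
  rw [this]
  exact ((isCompact_degOpen j r).isConstructible (degOpen j r).isOpen).sdiff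
    ((isCompact_degOpen j (r + 1)).isConstructible (degOpen j (r + 1)).isOpen)

lemma exists_deg_le : ∃ N : ℕ, ∀ x : X, deg j x ≤ N := by
  obtain ⟨t, ht⟩ := exists_finite_subcover (fun r : ℕ => {x : X | deg j x = r})
    (isConstructible_deg_eq j) (by
      ext x
      simp)
  refine ⟨t.sup id, fun x => ?_⟩
  have hx : x ∈ ⋃ i ∈ t, {x : X | deg j x = i} := by
    rw [ht]
    trivial
  obtain ⟨i, hi, hxi⟩ := Set.mem_iUnion₂.mp hx
  rw [hxi]
  exact Finset.le_sup (f := id) hi

lemma isFinite_of_deg_const {T : Scheme.{u}} (g : T ⟶ X) (r : ℕ) (h : ∀ t : T, deg j (g t) = r) :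
    IsFinite (pullback.snd j g) := by
  obtain ⟨_, _, hiff⟩ := strat j (fibRk_lt_aleph0 j)
  exact ((hiff T g r).mpr h).1.1

/-- **stratification for a finite family of separated quasi-finite flat morphisms** -/
theorem exists_strat_sep {A : Type} [Finite A] (U : A → Scheme.{u}) (j : ∀ a, U a ⟶ X)
    (h1 : ∀ a, Flat (j a)) (h2 : ∀ a, LocallyOfFinitePresentation (j a))
    (h3 : ∀ a, IsSeparated (j a)) (h4 : ∀ a, LocallyQuasiFinite (j a))
    (h5 : ∀ a, QuasiCompact (j a)) :
    ∃ (κ : Type) (_ : Finite κ) (T : κ → Scheme.{u}) (g : ∀ k, T k ⟶ X),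
      (∀ k, IsImmersion (g k)) ∧ (∀ k, Topology.IsConstructible (Set.range (g k))) ∧
      Pairwise (fun k k' => Disjoint (Set.range (g k)) (Set.range (g k'))) ∧
      (⋃ k, Set.range (g k)) = Set.univ ∧ ∀ k a, IsFinite (pullback.snd (j a) (g k)) := by
  classical
  haveI := Fintype.ofFinite A
  choose N hN using fun a => exists_deg_le (j a)
  have hS : ∀ ρ : (a : A) → Fin (N a + 1), ∃ (W : Scheme.{u}) (g : W ⟶ X), IsImmersion g ∧
      Set.range g = {x : X | ∀ a, deg (j a) x = ρ a} := by
    intro ρ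
    obtain ⟨W, g, hg, hr⟩ := exists_immersion_range
      ((Finset.univ : Finset A).inf (fun a => degOpen (j a) (ρ a)))
      ⟨(((Finset.univ : Finset A).sup (fun a => degOpen (j a) (ρ a + 1)) : X.Opens) : Set X)ᶜ,
        ((Finset.univ : Finset A).sup (fun a => degOpen (j a) (ρ a + 1))).isOpen.isClosed_compl⟩
    refine ⟨W, g, hg, ?_⟩
    rw [hr]
    ext x
    rw [Set.mem_inter_iff, SetLike.mem_coe, mem_finset_inf, Closeds.coe_mk, Set.mem_compl_iff,
      SetLike.mem_coe, mem_finset_sup]
    constructor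
    · rintro ⟨ha, hb⟩ a
      have h1 := (mem_degOpen (j a) _ x).mp (ha a (Finset.mem_univ a))
      have h2 : ¬ (ρ a + 1 : ℕ) ≤ deg (j a) x := fun h =>
        hb ⟨a, Finset.mem_univ a, (mem_degOpen (j a) _ x).mpr h⟩
      show deg (j a) x = ρ a
      omega
    · intro h
      refine ⟨fun a _ => (mem_degOpen (j a) _ x).mpr (h a).ge, ?_⟩
      rintro ⟨a, _, ha⟩
      have h1 := (mem_degOpen (j a) _ x).mp ha
      have h2 : deg (j a) x = ρ a := h a
      omega
  choose W g hg hr using hS
  refine ⟨(a : A) → Fin (N a + 1), inferInstance, W, g, hg, ?_, ?_, ?_, ?_⟩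
  · intro ρ
    rw [hr]
    have : {x : X | ∀ a, deg (j a) x = ρ a} = ⋂ a, {x : X | deg (j a) x = ρ a} := by
      ext x
      simp
    rw [this]
    exact Topology.IsConstructible.iInter fun a => isConstructible_deg_eq (j a) _
  · intro ρ ρ' hne
    rw [hr, hr, Set.disjoint_left]
    intro x hx hx'
    apply hne
    funext a
    apply Fin.ext
    rw [← hx a, ← hx' a]
  · apply Set.eq_univ_of_forall
    intro x
    refine Set.mem_iUnion.mpr ⟨fun a => ⟨deg (j a) x, Nat.lt_succ_of_le (hN a x)⟩, ?_⟩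
    rw [hr]
    intro a
    rfl
  · intro ρ a
    apply isFinite_of_deg_const (j a) (g ρ) (ρ a)
    intro t
    have : g ρ t ∈ Set.range (g ρ) := ⟨t, rfl⟩
    rw [hr] at this
    exact this a

end Sep

section Glue

variable {P T : Scheme.{u}} (π : P ⟶ T) {m : ℕ} (V : Fin m → P.Opens)

lemma isClosed_preimage_of_isFinite (b b' : Fin m) (h1 : IsFinite ((V b).ι ≫ π))
    (h2 : IsFinite ((V b ⊓ V b').ι ≫ π)) :
    IsClosed ((V b).ι ⁻¹' (V b' : Set P)) := by
  haveI : IsFinite (P.homOfLE (inf_le_left : V b ⊓ V b' ≤ V b) ≫ ((V b).ι ≫ π)) := by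
    rw [← Category.assoc, P.homOfLE_ι]
    exact h2
  haveI : IsFinite (P.homOfLE (inf_le_left : V b ⊓ V b' ≤ V b)) :=
    MorphismProperty.of_postcomp (W := @IsFinite) (W' := @IsSeparated) _ ((V b).ι ≫ π)
      inferInstance inferInstance
  have hcl := (P.homOfLE (inf_le_left : V b ⊓ V b' ≤ V b)).isClosedMap.isClosed_range
  have : Set.range (P.homOfLE (inf_le_left : V b ⊓ V b' ≤ V b)) = (V b).ι ⁻¹' (V b' : Set P) := by
    ext y
    constructor
    · rintro ⟨z, rfl⟩
      have h3 := P.homOfLE_apply (inf_le_left : V b ⊓ V b' ≤ V b) z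
      show ((P.homOfLE (inf_le_left : V b ⊓ V b' ≤ V b)) z).1 ∈ V b'
      rw [h3]
      exact z.2.2
    · intro hy
      refine ⟨⟨y.1, ⟨y.2, hy⟩⟩, ?_⟩
      exact P.homOfLE_apply' (inf_le_left : V b ⊓ V b' ≤ V b) y.1 ⟨y.2, hy⟩
  rw [← this]
  exact hcl

/-- the part of `V b` not meeting the earlier members -/
def Qset (b : Fin m) : Set P := {x | x ∈ V b ∧ ∀ b' < b, x ∉ V b'}

variable (h1 : ∀ b, IsFinite ((V b).ι ≫ π)) (h2 : ∀ b b', IsFinite ((V b ⊓ V b').ι ≫ π))

include h1 h2 in
lemma isClopen_earlier (b : Fin m) :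
    IsClopen {y : (V b).toScheme | ∃ b' < b, (V b).ι y ∈ V b'} := by
  have : {y : (V b).toScheme | ∃ b' < b, (V b).ι y ∈ V b'} =
      ⋃ b' ∈ (Finset.univ.filter (fun b' : Fin m => b' < b)), (V b).ι ⁻¹' (V b' : Set P) := by
    ext y
    simp
  rw [this]
  constructor
  · exact isClosed_biUnion_finset fun b' _ => isClosed_preimage_of_isFinite π V b b' (h1 b) (h2 b b')
  · exact isOpen_biUnion fun b' _ => (V b').isOpen.preimage (V b).ι.continuous

include h1 h2 in
lemma isOpen_Qset (b : Fin m) : IsOpen (Qset V b) := by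
  have : Qset V b = (V b).ι '' {y : (V b).toScheme | ∃ b' < b, (V b).ι y ∈ V b'}ᶜ := by
    ext x
    constructor
    · rintro ⟨hx, hx'⟩
      refine ⟨⟨x, hx⟩, ?_, rfl⟩
      rintro ⟨b', hb', hy⟩
      exact hx' b' hb' hy
    · rintro ⟨y, hy, rfl⟩
      refine ⟨y.2, fun b' hb' hyb' => hy ⟨b', hb', hyb'⟩⟩
  rw [this]
  exact (V b).ι.isOpenEmbedding.isOpenMap _ (isClopen_earlier π V h1 h2 b).1.isOpen_compl

include h1 h2 in
/-- **gluing finiteness**: a morphism is finite if the source has a finite open cover whose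
members and their pairwise intersections are finite over the target. -/
theorem isFinite_of_cover (hcov : ∀ x : P, ∃ b, x ∈ V b) : IsFinite π := by
  obtain ⟨Q, hQ⟩ : ∃ Q : Fin m → P.Opens, ∀ b, (Q b : Set P) = Qset V b :=
    ⟨fun b => ⟨Qset V b, isOpen_Qset π V h1 h2 b⟩, fun b => rfl⟩
  have hQV : ∀ b, Q b ≤ V b := fun b x hx => by
    have : x ∈ Qset V b := by rw [← hQ b]; exact hx
    exact this.1
  have hfinQ : ∀ b, IsFinite ((Q b).ι ≫ π) := by
    intro b
    haveI : IsClosedImmersion (P.homOfLE (hQV b)) := by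
      apply IsClosedImmersion.of_isPreimmersion
      have : Set.range (P.homOfLE (hQV b)) =
          {y : (V b).toScheme | ∃ b' < b, (V b).ι y ∈ V b'}ᶜ := by
        ext y
        constructor
        · rintro ⟨z, rfl⟩ ⟨b', hb', hy⟩
          have h3 := P.homOfLE_apply (hQV b) z
          have h4 : ((P.homOfLE (hQV b)) z).1 ∈ V b' := hy
          rw [h3] at h4
          have h5 : z.1 ∈ Qset V b := by rw [← hQ b]; exact z.2
          exact h5.2 b' hb' h4
        · intro hy
          have hyQ : y.1 ∈ Q b := by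
            show y.1 ∈ (Q b : Set P)
            rw [hQ b]
            exact ⟨y.2, fun b' hb' hyb' => hy ⟨b', hb', hyb'⟩⟩
          exact ⟨⟨y.1, hyQ⟩, P.homOfLE_apply' (hQV b) y.1 hyQ⟩
      rw [this]
      exact (isClopen_earlier π V h1 h2 b).2.isClosed_compl
    haveI := h1 b
    have e : (Q b).ι ≫ π = P.homOfLE (hQV b) ≫ ((V b).ι ≫ π) := by
      rw [← Category.assoc, P.homOfLE_ι]
    rw [e]
    infer_instance
  have hiso : IsIso (Sigma.desc (fun b => (Q b).ι)) := by
    have hne := nonempty_isColimit_cofanMk_of (fun b => (Q b).ι) (by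
      rw [eq_top_iff]
      intro x _
      obtain ⟨b0, hb0⟩ := hcov x
      obtain ⟨b, hb, hmin⟩ := (wellFounded_lt (α := Fin m)).has_min {b | x ∈ V b} ⟨b0, hb0⟩
      have hxQ : x ∈ Q b := by
        show x ∈ (Q b : Set P)
        rw [hQ b]
        exact ⟨hb, fun b' hb' hx' => hmin b' hx' hb'⟩
      rw [Opens.mem_iSup]
      exact ⟨b, by rw [Scheme.Opens.opensRange_ι]; exact hxQ⟩) (by
      intro b b' hne
      rw [Function.onFun, Scheme.Opens.opensRange_ι, Scheme.Opens.opensRange_ι, disjoint_iff]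
      ext x
      simp only [Opens.coe_inf, Set.mem_inter_iff, SetLike.mem_coe, Opens.coe_bot,
        Set.mem_empty_iff_false, iff_false, not_and]
      intro hx hx'
      have hx1 : x ∈ Qset V b := by rw [← hQ b]; exact hx
      have hx2 : x ∈ Qset V b' := by rw [← hQ b']; exact hx'
      rcases lt_or_gt_of_ne hne with h | h
      · exact hx2.2 b h hx1.1
      · exact hx1.2 b' h hx2.1)
    rwa [Cofan.nonempty_isColimit_iff_isIso_sigmaDesc (Cofan.mk P fun b => (Q b).ι)] at hne
  haveI : IsFinite (Sigma.desc (fun b => (Q b).ι ≫ π)) :=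
    Groth.Agent.Lib.R2H4.FEtSplit.isFinite_sigmaDesc_fin m _ _ hfinQ
  have e : π = inv (Sigma.desc (fun b => (Q b).ι)) ≫ Sigma.desc (fun b => (Q b).ι ≫ π) := by
    rw [IsIso.eq_inv_comp]
    apply Sigma.hom_ext
    intro b
    simp
  rw [e]
  infer_instance

end Glue

section Etale

lemma isFinite_restrict_of_isFinite {U X T : Scheme.{u}} (j : U ⟶ X) (g : T ⟶ X) (O : U.Opens)
    (h : IsFinite (pullback.snd (O.ι ≫ j) g)) :
    IsFinite (((pullback.fst j g) ⁻¹ᵁ O).ι ≫ pullback.snd j g) := by
  have sq1 := isPullback_morphismRestrict (pullback.fst j g) O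
  have sq2 := IsPullback.of_hasPullback j g
  have sq := sq1.paste_vert sq2
  rw [← sq.isoPullback_hom_snd]
  infer_instance

lemma isFinite_congr_opens {P T : Scheme.{u}} (π : P ⟶ T) {O O' : P.Opens} (e : O = O')
    (h : IsFinite (O.ι ≫ π)) : IsFinite (O'.ι ≫ π) := by
  subst e
  exact h

/-- **stratification making an étale morphism finite**: for an étale morphism `j : U ⟶ X` of
quasi-compact quasi-separated schemes there is a finite stratification of `X` by constructible
locally closed subschemes over each of which `j` is finite. -/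
theorem exists_strat_etale {U X : Scheme.{u}} [CompactSpace U] [QuasiSeparatedSpace U]
    [CompactSpace X] [QuasiSeparatedSpace X] (j : U ⟶ X) [Etale j] :
    ∃ (κ : Type) (_ : Finite κ) (T : κ → Scheme.{u}) (g : ∀ k, T k ⟶ X),
      (∀ k, IsImmersion (g k)) ∧ (∀ k, Topology.IsConstructible (Set.range (g k))) ∧
      Pairwise (fun k k' => Disjoint (Set.range (g k)) (Set.range (g k'))) ∧
      (⋃ k, Set.range (g k)) = Set.univ ∧ ∀ k, IsFinite (pullback.snd j (g k)) := by
  obtain ⟨m, W, hW, hcov⟩ := Groth.Agent.Lib.Helper8EtConstr.exists_finite_affine_cover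
    (⊤ : U.Opens) (by rw [Opens.coe_top]; exact isCompact_univ) (fun _ => True) (by
      intro x _
      obtain ⟨_, ⟨W, hW, rfl⟩, hxW, -⟩ := U.isBasis_affineOpens.exists_subset_of_mem_open
        (Set.mem_univ x) isOpen_univ
      exact ⟨W, hW, hxW, le_top, trivial⟩)
  have hWaff : ∀ b, IsAffine (W b).toScheme := fun b => (hW b).1
  have hWc : ∀ b b', CompactSpace (W b ⊓ W b' : U.Opens).toScheme := fun b b' =>
    isCompact_iff_compactSpace.mp
      ((hW b).1.isCompact.inter_of_isOpen (hW b').1.isCompact (W b).isOpen (W b').isOpen)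
  obtain ⟨κ, hκ, T, g, a1, a2, a3, a4, a5⟩ := exists_strat_sep (X := X)
    (A := Fin m ⊕ (Fin m × Fin m))
    (fun a => Sum.rec (fun b => (W b).toScheme) (fun p => (W p.1 ⊓ W p.2 : U.Opens).toScheme) a)
    (fun a => Sum.rec (fun b => (W b).ι ≫ j) (fun p => (W p.1 ⊓ W p.2 : U.Opens).ι ≫ j) a)
    (by rintro (b | p) <;> exact inferInstance)
    (by rintro (b | p) <;> exact inferInstance)
    (by
      rintro (b | p)
      · haveI := hWaff b
        exact inferInstance
      · haveI := hWaff p.1
        have e : (W p.1 ⊓ W p.2 : U.Opens).ι ≫ j =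
            U.homOfLE (inf_le_left : W p.1 ⊓ W p.2 ≤ W p.1) ≫ ((W p.1).ι ≫ j) := by
          rw [← Category.assoc, U.homOfLE_ι]
        show IsSeparated ((W p.1 ⊓ W p.2 : U.Opens).ι ≫ j)
        rw [e]
        infer_instance)
    (by rintro (b | p) <;> exact locallyQuasiFinite_of_etale _)
    (by
      rintro (b | p)
      · haveI := hWaff b
        exact inferInstance
      · haveI := hWc p.1 p.2
        show QuasiCompact ((W p.1 ⊓ W p.2 : U.Opens).ι ≫ j)
        exact quasiCompact_of_compactSpace _)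
  refine ⟨κ, hκ, T, g, a1, a2, a3, a4, fun k => ?_⟩
  refine isFinite_of_cover (pullback.snd j (g k)) (fun b => (pullback.fst j (g k)) ⁻¹ᵁ (W b))
    (fun b => isFinite_restrict_of_isFinite j (g k) (W b) (a5 k (Sum.inl b)))
    (fun b b' => ?_) (fun x => ?_)
  · refine isFinite_congr_opens _ (Scheme.Hom.preimage_inf _)
      (isFinite_restrict_of_isFinite j (g k) (W b ⊓ W b') (a5 k (Sum.inr (b, b'))))
  · have hx : (pullback.fst j (g k)) x ∈ ((⊤ : U.Opens) : Set U) := trivial
    rw [hcov] at hx
    obtain ⟨b, hb⟩ := Set.mem_iUnion.mp hx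
    exact ⟨b, hb⟩

/-- the same with strata indexed by `Fin n` -/
theorem exists_strat_etale_fin {U X : Scheme.{u}} [CompactSpace U] [QuasiSeparatedSpace U]
    [CompactSpace X] [QuasiSeparatedSpace X] (j : U ⟶ X) [Etale j] :
    ∃ (n : ℕ) (T : Fin n → Scheme.{u}) (g : ∀ i, T i ⟶ X),
      (∀ i, IsImmersion (g i)) ∧ (∀ i, Topology.IsConstructible (Set.range (g i))) ∧
      Pairwise (fun i i' => Disjoint (Set.range (g i)) (Set.range (g i'))) ∧
      (⋃ i, Set.range (g i)) = Set.univ ∧ ∀ i, IsFinite (pullback.snd j (g i)) := by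
  obtain ⟨κ, hκ, T, g, a1, a2, a3, a4, a5⟩ := exists_strat_etale j
  obtain ⟨n, ⟨e⟩⟩ := Finite.exists_equiv_fin κ
  refine ⟨n, fun i => T (e.symm i), fun i => g (e.symm i), fun i => a1 _, fun i => a2 _, ?_, ?_,
    fun i => a5 _⟩
  · intro i i' hne
    exact a3 (fun h => hne (e.symm.injective h))
  · rw [← a4]
    exact e.symm.surjective.iUnion_comp (fun k => Set.range (g k))

end Etale

end Groth.Agent.Lib.Helper8EtStratFin
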