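import Mathlib
import Groth.Prelude.Def_EtOpen
import Groth.Agent.Lib.Helper16SmallEtale

/-!
# Subterminal sheaves of sets on the small etale site are the Zariski opens (helper8)
-/

set_option autoImplicit false
open CategoryTheory CategoryTheory.Limits AlgebraicGeometry Opposite

universe u

namespace Groth.Agent.Lib.Helper8EtSubterminal

open Groth.Agent.Lib.Helper16.SmallEtale

variable {X : Scheme.{u}}

/-- sections of a subterminal sheaf are subsingletons -/
lemma subsingleton_of_mono (F : EtDesc.Sh X) (h : Mono (terminal.from F)) (T : X.Etale) :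
    Subsingleton (F.obj.obj (op T)) := by
  let G : EtDesc.Sh X ⥤ Type (u + 1) :=
    sheafToPresheaf X.smallEtaleTopology (Type (u + 1)) ⋙ (evaluation _ _).obj (op T)
  have hm : Mono (G.map (terminal.from F)) := inferInstance
  have ht : IsTerminal (G.obj (⊤_ (EtDesc.Sh X))) := IsTerminal.isTerminalObj G _ terminalIsTerminal
  have hu : Unique (G.obj (⊤_ (EtDesc.Sh X))) := (Types.isTerminalEquivUnique _) ht
  constructor
  intro x y
  apply (mono_iff_injective _).mp hm
  exact Subsingleton.elim _ _

lemma mono_of_subsingleton (F : EtDesc.Sh X)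
    (h : ∀ T : X.Etale, Subsingleton (F.obj.obj (op T))) : Mono (terminal.from F) := by
  constructor
  intro Z f g _
  ext T x
  induction T using Opposite.rec with | _ T => ?_
  exact (h T).elim _ _

set_option backward.isDefEq.respectTransparency.types false in
/-- morphisms into a Zariski open in the small etale site are unique -/
lemma hom_ofOpen_subsingleton (U : X.Opens) (T : X.Etale) :
    Subsingleton (T ⟶ EtDesc.ofOpen U) := by
  constructor
  intro f g
  apply MorphismProperty.Over.Hom.ext
  have h1 : f.left ≫ U.ι = T.hom := MorphismProperty.Over.w f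
  have h2 : g.left ≫ U.ι = T.hom := MorphismProperty.Over.w g
  exact (cancel_mono U.ι).mp (h1.trans h2.symm)

set_option backward.isDefEq.respectTransparency.types false in
lemma mono_repSh (U : X.Opens) : Mono (terminal.from (EtDesc.repSh (EtDesc.ofOpen U))) := by
  let P : X.Etaleᵒᵖ ⥤ Type (u + 1) := yoneda.obj (EtDesc.ofOpen U) ⋙ uliftFunctor.{u + 1, u}
  have hP : Mono (terminal.from P) := by
    constructor
    intro Z f g _
    ext T x
    induction T using Opposite.rec with | _ T => ?_
    apply ULift.ext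
    exact (hom_ofOpen_subsingleton U T).elim _ _
  have h1 : Mono ((presheafToSheaf X.smallEtaleTopology (Type (u + 1))).map (terminal.from P)) :=
    inferInstance
  have ht : IsTerminal ((presheafToSheaf X.smallEtaleTopology (Type (u + 1))).obj
      (⊤_ (X.Etaleᵒᵖ ⥤ Type (u + 1)))) :=
    IsTerminal.isTerminalObj _ _ terminalIsTerminal
  have e : terminal.from (EtDesc.repSh (EtDesc.ofOpen U)) =
      (presheafToSheaf X.smallEtaleTopology (Type (u + 1))).map (terminal.from P) ≫
        terminal.from _ := Subsingleton.elim _ _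
  rw [e]
  have : IsIso (terminal.from ((presheafToSheaf X.smallEtaleTopology (Type (u + 1))).obj
      (⊤_ (X.Etaleᵒᵖ ⥤ Type (u + 1))))) := isIso_of_isTerminal ht terminalIsTerminal _
  exact mono_comp _ _

/-- the presheaf whose sheafification is `repSh` -/
noncomputable abbrev repPre (T : X.Etale) : X.Etaleᵒᵖ ⥤ Type (u + 1) :=
  yoneda.obj T ⋙ uliftFunctor.{u + 1, u}

set_option backward.isDefEq.respectTransparency.types false in
/-- a morphism in the small etale site between Zariski opens -/
noncomputable def homOfLE {U V : X.Opens} (h : U ≤ V) : EtDesc.ofOpen U ⟶ EtDesc.ofOpen V :=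
  MorphismProperty.Over.homMk (X.homOfLE h) (X.homOfLE_ι h)

set_option backward.isDefEq.respectTransparency.types false in
/-- an etale `X`-scheme whose image lies in `U` maps to `ofOpen U` -/
noncomputable def homOfRange (U : X.Opens) (T : X.Etale)
    (h : Set.range (T.hom : T.left ⟶ X) ⊆ (U : Set X)) :
    T ⟶ EtDesc.ofOpen U :=
  MorphismProperty.Over.homMk
    (IsOpenImmersion.lift (X := (U : Scheme.{u})) (Y := T.left) (Z := X) U.ι T.hom
      (by rw [Scheme.Opens.range_ι]; exact h))
    (IsOpenImmersion.lift_fac (X := (U : Scheme.{u})) (Y := T.left) (Z := X) U.ι T.hom _)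

set_option backward.isDefEq.respectTransparency.types false in
lemma range_subset_of_hom (U : X.Opens) (T : X.Etale) (k : T ⟶ EtDesc.ofOpen U) :
    Set.range (T.hom : T.left ⟶ X) ⊆ (U : Set X) := by
  rintro _ ⟨y, rfl⟩
  have h1 : k.left ≫ U.ι = T.hom := MorphismProperty.Over.w k
  rw [← h1, Scheme.Hom.comp_apply]
  exact (k.left y).2

set_option backward.isDefEq.respectTransparency.types false in
lemma le_iff (U V : X.Opens) :
    U ≤ V ↔ Nonempty (EtDesc.repSh (EtDesc.ofOpen U) ⟶ EtDesc.repSh (EtDesc.ofOpen V)) := by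
  constructor
  · intro h
    exact ⟨(presheafToSheaf X.smallEtaleTopology (Type (u + 1))).map
      (Functor.whiskerRight (yoneda.map (homOfLE h)) uliftFunctor.{u + 1, u})⟩
  · rintro ⟨φ⟩ x hx
    let J := X.smallEtaleTopology
    let s : (sheafify J (repPre (EtDesc.ofOpen V))).obj (op (EtDesc.ofOpen U)) :=
      φ.hom.app (op (EtDesc.ofOpen U))
        ((toSheafify J (repPre (EtDesc.ofOpen U))).app (op (EtDesc.ofOpen U)) ⟨𝟙 _⟩)
    have hs := Presheaf.imageSieve_mem J (toSheafify J (repPre (EtDesc.ofOpen V)))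
      (U := op (EtDesc.ofOpen U)) s
    rw [mem_smallEtale_iff] at hs
    obtain ⟨W, g, y, ⟨⟨k⟩, -⟩, hy⟩ := hs ⟨x, hx⟩
    have h1 : g.left ≫ U.ι = W.hom := MorphismProperty.Over.w g
    have h2 : W.hom y = x := by
      rw [← h1, Scheme.Hom.comp_apply, hy]
      rfl
    rw [← h2]
    exact range_subset_of_hom V W k ⟨y, rfl⟩

set_option backward.isDefEq.respectTransparency.types false in
theorem exists_open (F : EtDesc.Sh X) (hF : Mono (terminal.from F)) :
    ∃ U : X.Opens, Nonempty (F ≅ EtDesc.repSh (EtDesc.ofOpen U)) := by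
  have hsub := subsingleton_of_mono F hF
  let J := X.smallEtaleTopology
  let S : Set X := ⋃ (T : X.Etale) (_ : Nonempty (F.obj.obj (op T))),
    Set.range (T.hom : T.left ⟶ X)
  have hS : IsOpen S := isOpen_iUnion fun T => isOpen_iUnion fun _ =>
    (T.hom : T.left ⟶ X).isOpenMap.isOpen_range
  let U : X.Opens := ⟨S, hS⟩
  have hrange : ∀ T : X.Etale, Nonempty (F.obj.obj (op T)) →
      Set.range (T.hom : T.left ⟶ X) ⊆ (U : Set X) := by
    rintro T hT _ ⟨y, rfl⟩
    exact Set.mem_iUnion₂.mpr ⟨T, hT, y, rfl⟩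
  have hsubR := subsingleton_of_mono _ (mono_repSh U)
  let f : F ⟶ EtDesc.repSh (EtDesc.ofOpen U) :=
    ⟨{ app := fun T => TypeCat.ofHom fun s => (toSheafify J (repPre (EtDesc.ofOpen U))).app T
          ⟨homOfRange U T.unop (hrange _ ⟨s⟩)⟩
       naturality := fun T T' h => by
        ext s
        exact (hsubR T'.unop).elim _ _ }⟩
  have hne : Nonempty (F.obj.obj (op (EtDesc.ofOpen U))) := by
    let R : Sieve (EtDesc.ofOpen U) :=
      { arrows := fun T _ => Nonempty (F.obj.obj (op T))
        downward_closed := fun ⟨s⟩ h => ⟨F.obj.map h.op s⟩ }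
    have hR : R ∈ J (EtDesc.ofOpen U) := by
      rw [mem_smallEtale_iff]
      rintro ⟨x, hx⟩
      obtain ⟨T, hT, y, hy⟩ : ∃ (T : X.Etale) (_ : Nonempty (F.obj.obj (op T))) (y : T.left),
          (T.hom : T.left ⟶ X) y = x := by
        simpa [U, S] using hx
      refine ⟨T, homOfRange U T (hrange T hT), y, hT, ?_⟩
      apply Subtype.ext
      have h1 : (homOfRange U T (hrange T hT)).left ≫ U.ι = T.hom :=
        MorphismProperty.Over.w (homOfRange U T (hrange T hT))
      have h2 := congrArg (fun m : T.left ⟶ X => m y) h1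
      simp only [Scheme.Hom.comp_apply] at h2
      exact h2.trans hy
    have hsh := (isSheaf_iff_isSheaf_of_type _ _).mp F.property R hR
    let fam : Presieve.FamilyOfElements F.obj R.arrows := fun T g hg => hg.some
    have hc : fam.Compatible := by
      intro Y₁ Y₂ Z g₁ g₂ f₁ f₂ h₁ h₂ _
      exact (hsub Z).elim _ _
    obtain ⟨s, -, -⟩ := hsh fam hc
    exact ⟨s⟩
  obtain ⟨s₀⟩ := hne
  let ψ : repPre (EtDesc.ofOpen U) ⟶ F.obj :=
    { app := fun T => TypeCat.ofHom fun k => F.obj.map k.down.op s₀
      naturality := fun T T' h => by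
        ext k
        exact (hsub T'.unop).elim _ _ }
  let g : EtDesc.repSh (EtDesc.ofOpen U) ⟶ F := ⟨sheafifyLift J ψ F.property⟩
  refine ⟨U, ⟨⟨f, g, ?_, ?_⟩⟩⟩
  · exact (cancel_mono (terminal.from F)).mp (Subsingleton.elim _ _)
  · have := mono_repSh U
    exact (cancel_mono (terminal.from (EtDesc.repSh (EtDesc.ofOpen U)))).mp (Subsingleton.elim _ _)

end Groth.Agent.Lib.Helper8EtSubterminal
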