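import Groth.Agent.Lib.Helper8EtSuppGood

/-!
# Sections vanishing over an open and the density theorem with supports (helper8)
-/

set_option autoImplicit false
set_option linter.style.haveILetI false
universe u
open CategoryTheory CategoryTheory.Limits AlgebraicGeometry Opposite

namespace Groth.Agent.Lib.Helper8EtSuppGen

open Groth.Agent.Lib.Helper9.EtMV Groth.Agent.Lib.Helper9.EtFp Groth.Agent.Lib.Helper9.EtFlasque
  Groth.Agent.Lib.Helper8EtLTors Groth.Agent.Lib.Helper8EtTorsion Groth.Agent.Lib.Helper8EtFpZh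
  Groth.Agent.Lib.Helper8EtTorsGen Groth.Agent.Lib.Helper8EtConstrColim
  Groth.Agent.Lib.Helper8EtTorsFilt Groth.Agent.Lib.Helper8EtTorsFiltS
  Groth.Agent.Lib.Helper16.EtStalk Groth.Agent.Lib.Helper16.StalkPull
  Groth.Agent.Lib.Helper8EtFLCExt Groth.Agent.Lib.Helper8EtArrowSpec
  Groth.Agent.Lib.Helper8EtSpecArrow Groth.Agent.Lib.Helper8EtSurjLocus
  Groth.Agent.Lib.Helper8EtSuppGood

variable {X : Scheme.{u}}

section Germs

variable {Ω : Type u} [Field Ω] [IsSepClosed Ω] (ξ : Spec (CommRingCat.of Ω) ⟶ X)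

set_option backward.isDefEq.respectTransparency.types false in
/-- lifting a geometric point of `U` along an étale map whose image contains its centre -/
lemma exists_lift_of_mem_range {U V : X.Etale} (a : V ⟶ U)
    (t : (Scheme.pointSmallEtale ξ).fiber.obj U) (h : ctr ξ t ∈ Set.range a.left) :
    ∃ q : (Scheme.pointSmallEtale ξ).fiber.obj V,
      (Scheme.pointSmallEtale ξ).fiber.map a q = t := by
  obtain ⟨v, hv⟩ := h
  obtain ⟨l, hl, -⟩ := Scheme.exists_fac_of_etale_of_isSepClosed a.left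
    (t.left : Spec (CommRingCat.of Ω) ⟶ U.left) v hv
  have hw : l ≫ V.hom = ξ := by
    have h2 : a.left ≫ U.hom = V.hom := by rw [CategoryTheory.Over.w]
    rw [← h2, ← Category.assoc, hl]
    exact Over.w t
  refine ⟨Over.homMk l hw, ?_⟩
  apply Over.OverMorphism.ext
  exact hl

set_option backward.isDefEq.respectTransparency.types false in
lemma ctr_map {U V : X.Etale} (a : V ⟶ U) (q : (Scheme.pointSmallEtale ξ).fiber.obj V) :
    ctr ξ ((Scheme.pointSmallEtale ξ).fiber.map a q) = a.left (ctr ξ q) := rfl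

end Germs

section GermSupp

variable (F : EtCoh.Ab X) (V : X.Etale) (s : F.obj.obj (op V))

/-- the points of `V` at which some germ of `s` is non-zero -/
def germSupp : Set V.left :=
  {p | ∃ (Ω : Type u) (_ : Field Ω) (_ : IsSepClosed Ω) (ξ : Spec (CommRingCat.of Ω) ⟶ X)
    (v : (Scheme.pointSmallEtale ξ).fiber.obj V), ctr ξ v = p ∧ germ ξ F V v s ≠ 0}

set_option backward.isDefEq.respectTransparency.types false in
theorem isClosed_germSupp : IsClosed (germSupp F V s) := by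
  rw [← isOpen_compl_iff, isOpen_iff_forall_mem_open]
  intro p hp
  obtain ⟨Ω, _, _, ξ, v, hv⟩ := exists_geometric_point V p
  have h0 : germ ξ F V v s = 0 := by
    by_contra hne
    exact hp ⟨Ω, inferInstance, inferInstance, ξ, v, hv, hne⟩
  have h1 : germ ξ F V v s = germ ξ F V v 0 := by rw [h0, map_zero]
  obtain ⟨Y, f, y, hy, hz⟩ := ((Scheme.pointSmallEtale ξ).toPresheafFiber_eq_iff' _ _ _ _).mp h1
  haveI : Etale f.left := by
    haveI : Etale (f.left ≫ V.hom) := by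
      rw [CategoryTheory.Over.w]
      exact Y.prop
    haveI : Etale V.hom := V.prop
    exact Etale.of_comp f.left V.hom
  refine ⟨Set.range f.left, ?_, f.left.isOpenMap.isOpen_range, ?_⟩
  · rintro p' hp' ⟨Ω', _, _, ξ', v', hv', hne⟩
    obtain ⟨q, hq⟩ := exists_lift_of_mem_range ξ' f v' (hv' ▸ hp')
    apply hne
    rw [← germ_map ξ' F f q v' hq s]
    have hz' : (F.obj.map f.op).hom s = 0 := by
      refine Eq.trans hz ?_
      exact map_zero _
    rw [hz', map_zero]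
  · refine ⟨ctr ξ y, ?_⟩
    rw [← ctr_map ξ f y, hy]
    exact hv

set_option backward.isDefEq.respectTransparency.types false in
/-- a section all of whose germs vanish is zero -/
theorem eq_zero_of_germs
    (h : ∀ (Ω : Type u) [Field Ω] [IsSepClosed Ω] (ξ : Spec (CommRingCat.of Ω) ⟶ X)
      (w : (Scheme.pointSmallEtale ξ).fiber.obj V), germ ξ F V w s = 0) : s = 0 := by
  apply eq_of_locally_eq F V s 0
  intro x
  obtain ⟨Ω, _, _, ξ, w, hw⟩ := exists_geometric_point V x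
  have h1 : germ ξ F V w s = germ ξ F V w 0 := by rw [h Ω ξ w, map_zero]
  obtain ⟨Y, f, y, hy, hz⟩ := ((Scheme.pointSmallEtale ξ).toPresheafFiber_eq_iff' _ _ _ _).mp h1
  refine ⟨Y, f, ⟨ctr ξ y, ?_⟩, hz⟩
  have := ctr_map ξ f y
  rw [hy] at this
  exact this.symm.trans hw

end GermSupp

section Factor

variable [CompactSpace X] [QuasiSeparatedSpace X]

set_option backward.isDefEq.respectTransparency.types false in
/-- a local section of a torsion sheaf vanishing over the preimage of a quasi-compact open `U`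
factors through a constructible sheaf supported outside `U` -/
theorem exists_factor_supp (𝒵 : Set (Set X)) (F : EtCoh.Ab X) (hF : EtCoh.IsTorsion F)
    (V : X.Etale) (hV : IsAffine V.left) (σ : Zh V ⟶ F) (U : X.Opens)
    (hUc : IsCompact (U : Set X)) (hUZ : (U : Set X)ᶜ ∈ 𝒵)
    (hvan : ∀ (Ω : Type u) [Field Ω] [IsSepClosed Ω] (ξ : Spec (CommRingCat.of Ω) ⟶ X),
      ξ (default : Spec (CommRingCat.of Ω)) ∈ U →
      ∀ v : (Scheme.pointSmallEtale ξ).fiber.obj V, germ ξ F V v (zhEquiv V F σ) = 0) :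
    ∃ (γ : CostructuredArrow (T (SuppIn 𝒵)).ι F) (τ : Zh V ⟶ (Φ F (SuppIn 𝒵)).obj γ),
      τ ≫ γ.hom = σ := by
  have hfp : fpProp X V := fp_affine V hV
  obtain ⟨n, hn, h0⟩ := exists_nsmul_eq_zero F hF V hfp σ
  obtain ⟨σ', hσ'⟩ := exists_factor V n σ h0
  -- the open part
  obtain ⟨O, hO⟩ : ∃ O : V.left.Opens, O = V.hom ⁻¹ᵁ U := ⟨_, rfl⟩
  obtain ⟨r, hr⟩ : ∃ r : Scheme.Etale.mk (O.ι ≫ V.hom) ⟶ V,
      r = MorphismProperty.Over.homMk O.ι rfl (by simp) := ⟨_, rfl⟩
  have hfp' : fpProp X (Scheme.Etale.mk (O.ι ≫ V.hom)) := by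
    haveI : IsAffine V.left := hV
    haveI : CompactSpace ↥V.left := inferInstance
    haveI : QuasiCompact V.hom := quasiCompact_of_compactSpace (X := V.left) (Y := X) V.hom
    have hc : IsCompact (O : Set V.left) := by
      rw [hO]
      exact V.hom.isCompact_preimage hUc
    refine ⟨isCompact_iff_compactSpace.mp hc, ?_⟩
    exact QuasiSeparatedSpace.of_isOpenEmbedding O.ι.isOpenEmbedding
  obtain ⟨α, hα⟩ := exists_GnMap r n
  have hmemO : ∀ {Ω : Type u} [Field Ω] [IsSepClosed Ω] (ξ : Spec (CommRingCat.of Ω) ⟶ X)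
      (v : (Scheme.pointSmallEtale ξ).fiber.obj V),
      ξ (default : Spec (CommRingCat.of Ω)) ∈ U → ctr ξ v ∈ O := by
    intro Ω _ _ ξ v hξ
    rw [hO]
    change V.hom (ctr ξ v) ∈ U
    have := hom_base_fiber ξ V v
    exact (this ▸ hξ : V.hom.base (ctr ξ v) ∈ U)
  have hlift : ∀ (Ω : Type u) [Field Ω] [IsSepClosed Ω] (ξ : Spec (CommRingCat.of Ω) ⟶ X),
      ξ (default : Spec (CommRingCat.of Ω)) ∈ (U : Set X) →
      ∀ v : (Scheme.pointSmallEtale ξ).fiber.obj V,
        ∃ v' : (Scheme.pointSmallEtale ξ).fiber.obj (Scheme.Etale.mk (O.ι ≫ V.hom)),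
          (Scheme.pointSmallEtale ξ).fiber.map r v' = v := by
    intro Ω _ _ ξ hξ v
    rw [hr]
    exact exists_lift_open ξ V v O (hmemO ξ v hξ)
  have hsub : ∀ x : V.left, x ∈ O → V.hom x ∈ U := by
    intro x hx
    rw [hO] at hx
    exact hx
  -- the restricted section vanishes
  have hres : ZhMap r ≫ σ = 0 := by
    apply (zhEquiv _ F).injective
    rw [zhEquiv_map, zhEquiv_zero]
    apply eq_zero_of_germs
    intro Ω _ _ ξ w
    rw [germ_map ξ F r w _ rfl (zhEquiv V F σ)]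
    apply hvan Ω ξ
    have h1 := hom_base_fiber ξ (Scheme.Etale.mk (O.ι ≫ V.hom)) w
    rw [← h1]
    have h2 : O.ι (ctr ξ w) ∈ O := by
      have := Set.mem_range_self (f := O.ι) (ctr ξ w)
      rwa [Scheme.Opens.range_ι] at this
    exact hsub _ h2
  have hα0 : α ≫ σ' = 0 := by
    rw [← cancel_epi (πn _ n), comp_zero, ← Category.assoc, hα, Category.assoc, hσ', hres]
  have hR : R X (cokernel α) := R_coequalizer α 0 (R_gen _ hfp' n hn) (R_gen V hfp n hn)
  have hS : SuppIn 𝒵 (cokernel α) := ⟨_, hUZ, supp_cokernel_subset r n α hα (U : Set X) hlift⟩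
  let γ : CostructuredArrow (T (SuppIn 𝒵)).ι F :=
    CostructuredArrow.mk (Y := ⟨cokernel α, hR, hS⟩) (by exact cokernel.desc α σ' hα0)
  refine ⟨γ, (by exact πn V n ≫ cokernel.π α), ?_⟩
  change (πn V n ≫ cokernel.π α) ≫ cokernel.desc α σ' hα0 = σ
  rw [Category.assoc, cokernel.π_desc, hσ']

/-- the density theorem with supports: abstract form -/
theorem exists_filtered_colimit_supp (𝒵 : Set (Set X)) (h0 : ∅ ∈ 𝒵)
    (hU : ∀ Z₁ ∈ 𝒵, ∀ Z₂ ∈ 𝒵, Z₁ ∪ Z₂ ∈ 𝒵)
    (F : EtCoh.Ab X) (hF : EtCoh.IsTorsion F)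
    (hgen : ∀ (V : X.Etale), IsAffine V.left → ∀ s : F.obj.obj (op V),
      ∃ U : X.Opens, IsCompact (U : Set X) ∧ (U : Set X)ᶜ ∈ 𝒵 ∧
        ∀ (Ω : Type u) [Field Ω] [IsSepClosed Ω] (ξ : Spec (CommRingCat.of Ω) ⟶ X),
          ξ (default : Spec (CommRingCat.of Ω)) ∈ U →
          ∀ v : (Scheme.pointSmallEtale ξ).fiber.obj V, germ ξ F V v s = 0) :
    ∃ (J : Type (u + 1)) (_ : SmallCategory J) (_ : IsFiltered J) (D : J ⥤ EtCoh.Ab X)
      (c : Cocone D) (_ : IsColimit c), Nonempty (c.pt ≅ F) ∧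
        ∀ j, EtPBC.IsConstructible (D.obj j) ∧ ∃ Z ∈ 𝒵, EtPBC.supp (D.obj j) ⊆ Z := by
  refine Groth.Agent.Lib.Helper8EtTorsFiltS.exists_filtered_colimit (good_suppIn 𝒵 h0 hU) F ?_
  intro V hV σ
  obtain ⟨U, hUc, hUZ, hvan⟩ := hgen V hV (zhEquiv V F σ)
  exact exists_factor_supp 𝒵 F hF V hV σ U hUc hUZ hvan

end Factor

end Groth.Agent.Lib.Helper8EtSuppGen
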