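import Groth.Agent.Lib.Helper8EtTorsFiltS
import Groth.Agent.Lib.Helper8EtArrowSpec
import Groth.Agent.Lib.Helper8EtSurjLocus
import Groth.Agent.Lib.Helper16StalkPull

/-!
# Supports of étale sheaves and the density theorem (helper8)

* `SuppIn 𝒵`: sheaves supported in a member of a family `𝒵` of subsets; it is a `Good` property.
* `stalk_Gn_generated`: the stalk of `j_! ℤ/n` is generated by the germs of `1`.
* `supp_cokernel_subset`: the cokernel of `j'_! ℤ/n ⟶ j_! ℤ/n` for `V' = V ×_X U` is supported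
  outside `U`.
-/

set_option autoImplicit false
set_option linter.style.haveILetI false
universe u
open CategoryTheory CategoryTheory.Limits AlgebraicGeometry Opposite

namespace Groth.Agent.Lib.Helper8EtSuppGood

open Groth.Agent.Lib.Helper9.EtMV Groth.Agent.Lib.Helper9.EtFp Groth.Agent.Lib.Helper9.EtFlasque
  Groth.Agent.Lib.Helper8EtLTors Groth.Agent.Lib.Helper8EtTorsion Groth.Agent.Lib.Helper8EtFpZh
  Groth.Agent.Lib.Helper8EtTorsGen Groth.Agent.Lib.Helper8EtConstrColim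
  Groth.Agent.Lib.Helper8EtTorsFilt Groth.Agent.Lib.Helper8EtTorsFiltS
  Groth.Agent.Lib.Helper16.EtStalk Groth.Agent.Lib.Helper16.StalkPull
  Groth.Agent.Lib.Helper8EtFLCExt Groth.Agent.Lib.Helper8EtArrowSpec
  Groth.Agent.Lib.Helper8EtSpecArrow Groth.Agent.Lib.Helper8EtSurjLocus

variable {X : Scheme.{u}}

section Supp

/-- sheaves supported in a member of `𝒵` -/
def SuppIn (𝒵 : Set (Set X)) : ObjectProperty (EtCoh.Ab X) :=
  fun A => ∃ Z ∈ 𝒵, EtPBC.supp A ⊆ Z

lemma stalk_additive {Ω : Type u} [Field Ω] [IsSepClosed Ω] (ξ : Spec (CommRingCat.of Ω) ⟶ X) :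
    (EtCoh.stalk ξ).Additive := by
  haveI : (EtCoh.stalk ξ).IsLeftAdjoint :=
    ((Scheme.pointSmallEtale ξ).skyscraperSheafAdjunction
      (A := AddCommGrpCat.{u + 1})).isLeftAdjoint
  haveI : PreservesColimitsOfSize.{0, 0} (EtCoh.stalk ξ) :=
    ((Scheme.pointSmallEtale ξ).skyscraperSheafAdjunction
      (A := AddCommGrpCat.{u + 1})).leftAdjoint_preservesColimits
  haveI : PreservesBinaryBiproducts (EtCoh.stalk ξ) :=
    preservesBinaryBiproducts_of_preservesBinaryCoproducts _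
  exact Functor.additive_of_preservesBinaryBiproducts _

lemma stalk_preservesEpi {Ω : Type u} [Field Ω] [IsSepClosed Ω]
    (ξ : Spec (CommRingCat.of Ω) ⟶ X) : (EtCoh.stalk ξ).PreservesEpimorphisms :=
  haveI : (EtCoh.stalk ξ).IsLeftAdjoint :=
    ((Scheme.pointSmallEtale ξ).skyscraperSheafAdjunction
      (A := AddCommGrpCat.{u + 1})).isLeftAdjoint
  inferInstance

lemma supp_of_isZero {A : EtCoh.Ab X} (h : IsZero A) : EtPBC.supp A = ∅ := by
  ext x
  simp only [Set.mem_empty_iff_false, iff_false]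
  rintro ⟨Ω, _, _, ξ, -, hx⟩
  exact hx ((EtCoh.stalk ξ).map_isZero h)

lemma supp_subset_of_epi {A B : EtCoh.Ab X} (π : A ⟶ B) [Epi π] :
    EtPBC.supp B ⊆ EtPBC.supp A := by
  rintro x ⟨Ω, _, _, ξ, hξ, hx⟩
  refine ⟨Ω, inferInstance, inferInstance, ξ, hξ, fun hA => hx ?_⟩
  haveI := stalk_preservesEpi ξ
  haveI : Epi ((EtCoh.stalk ξ).map π) := inferInstance
  exact IsZero.of_epi ((EtCoh.stalk ξ).map π) hA

lemma supp_biprod_subset (A B : EtCoh.Ab X) :
    EtPBC.supp (A ⊞ B) ⊆ EtPBC.supp A ∪ EtPBC.supp B := by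
  rintro x ⟨Ω, _, _, ξ, hξ, hx⟩
  by_contra hcon
  rw [Set.mem_union, not_or] at hcon
  have hA : IsZero ((EtCoh.stalk ξ).obj A) := by
    by_contra h
    exact hcon.1 ⟨Ω, inferInstance, inferInstance, ξ, hξ, h⟩
  have hB : IsZero ((EtCoh.stalk ξ).obj B) := by
    by_contra h
    exact hcon.2 ⟨Ω, inferInstance, inferInstance, ξ, hξ, h⟩
  apply hx
  haveI := stalk_additive ξ
  rw [IsZero.iff_id_eq_zero, ← CategoryTheory.Functor.map_id, ← biprod.total,
    Functor.map_add, Functor.map_comp, Functor.map_comp,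
    hA.eq_of_tgt ((EtCoh.stalk ξ).map biprod.fst) 0,
    hB.eq_of_tgt ((EtCoh.stalk ξ).map biprod.snd) 0, zero_comp, zero_comp, add_zero]

theorem good_suppIn (𝒵 : Set (Set X)) (h0 : ∅ ∈ 𝒵)
    (hU : ∀ Z₁ ∈ 𝒵, ∀ Z₂ ∈ 𝒵, Z₁ ∪ Z₂ ∈ 𝒵) : Good (SuppIn 𝒵) where
  zero A hA := ⟨∅, h0, by rw [supp_of_isZero hA]⟩
  quot π hπ := by
    rintro ⟨Z, hZ, hsub⟩
    haveI := hπ
    exact ⟨Z, hZ, (supp_subset_of_epi π).trans hsub⟩
  biprod := by
    rintro A B ⟨Z₁, hZ₁, h₁⟩ ⟨Z₂, hZ₂, h₂⟩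
    exact ⟨Z₁ ∪ Z₂, hU _ hZ₁ _ hZ₂,
      (supp_biprod_subset A B).trans (Set.union_subset_union h₁ h₂)⟩

end Supp

section Generated

variable (V : X.Etale) (n : ℕ) {Ω : Type u} [Field Ω] [IsSepClosed Ω]
  (ξ : Spec (CommRingCat.of Ω) ⟶ X)

set_option backward.isDefEq.respectTransparency.types false in
/-- the stalk of `j_! ℤ/n` is generated by the germs of the tautological section -/
theorem stalk_Gn_generated :
    AddSubgroup.closure (Set.range fun v : (Scheme.pointSmallEtale ξ).fiber.obj V =>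
      germ ξ (Gn V n) V v (one V n)) = ⊤ := by
  obtain ⟨N, hN⟩ : ∃ N : AddSubgroup ((EtCoh.stalk ξ).obj (Gn V n)),
      N = AddSubgroup.closure (Set.range fun v : (Scheme.pointSmallEtale ξ).fiber.obj V =>
        germ ξ (Gn V n) V v (one V n)) := ⟨_, rfl⟩
  rw [← hN]
  obtain ⟨M, hM⟩ : ∃ M : AddCommGrpCat.{u + 1},
      M = AddCommGrpCat.of (((EtCoh.stalk ξ).obj (Gn V n)) ⧸ N) := ⟨_, rfl⟩
  obtain ⟨q, hq⟩ : ∃ q : (EtCoh.stalk ξ).obj (Gn V n) ⟶
      AddCommGrpCat.of (((EtCoh.stalk ξ).obj (Gn V n)) ⧸ N),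
      q = AddCommGrpCat.ofHom (QuotientAddGroup.mk' N) := ⟨_, rfl⟩
  obtain ⟨adj, hadj⟩ : ∃ adj, adj = (Scheme.pointSmallEtale ξ).skyscraperSheafAdjunction
    (A := AddCommGrpCat.{u + 1}) := ⟨_, rfl⟩
  -- the adjoint map vanishes
  have hφ : adj.homEquiv (Gn V n) _ q = 0 := by
    rw [← cancel_epi (πn V n), comp_zero]
    apply (zhEquiv V _).injective
    rw [zhEquiv_zero, zhEquiv_comp, πn, Equiv.apply_symm_apply]
    apply Concrete.limit_ext
    rintro ⟨v⟩
    have h1 : ((adj.homEquiv (Gn V n) _ q).hom.app (op V)) ≫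
        Pi.π (fun _ : (Scheme.pointSmallEtale ξ).fiber.obj V =>
          AddCommGrpCat.of (((EtCoh.stalk ξ).obj (Gn V n)) ⧸ N)) v =
        germ ξ (Gn V n) V v ≫ q := by
      have h := (Scheme.pointSmallEtale ξ).skyscraperSheafAdjunction_homEquiv_apply_hom
        (A := AddCommGrpCat.{u + 1}) (F := Gn V n) q
      rw [hadj]
      refine (congrArg (fun m => m.app (op V) ≫
        Pi.π (fun _ : (Scheme.pointSmallEtale ξ).fiber.obj V =>
          AddCommGrpCat.of (((EtCoh.stalk ξ).obj (Gn V n)) ⧸ N)) v) h).trans ?_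
      exact (Scheme.pointSmallEtale ξ).skyscraperPresheafHomEquiv_app_π q V v
    have h2 := ConcreteCategory.congr_hom h1 (one V n)
    refine Eq.trans ?_ (map_zero _).symm
    refine h2.trans ?_
    rw [hq]
    change QuotientAddGroup.mk' N (germ ξ (Gn V n) V v (one V n)) = 0
    rw [QuotientAddGroup.mk'_apply, QuotientAddGroup.eq_zero_iff, hN]
    exact AddSubgroup.subset_closure ⟨v, rfl⟩
  have hq0 : q = 0 := by
    have := congrArg (adj.homEquiv (Gn V n) _).symm hφ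
    rw [Equiv.symm_apply_apply] at this
    rw [this, Adjunction.homEquiv_counit]
    haveI : ((Scheme.pointSmallEtale ξ).sheafFiber (A := AddCommGrpCat.{u + 1})).IsLeftAdjoint :=
      adj.isLeftAdjoint
    rw [Functor.map_zero, zero_comp]
  rw [eq_top_iff]
  intro x _
  have hx := ConcreteCategory.congr_hom hq0 x
  rw [hq] at hx
  change QuotientAddGroup.mk' N x = 0 at hx
  rwa [QuotientAddGroup.mk'_apply, QuotientAddGroup.eq_zero_iff] at hx

end Generated

section Cokernel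

variable {V V' : X.Etale} (r : V' ⟶ V) (n : ℕ)

/-- the map `j'_! ℤ/n ⟶ j_! ℤ/n` induced by `V' ⟶ V` -/
theorem exists_GnMap : ∃ α : Gn V' n ⟶ Gn V n, πn V' n ≫ α = ZhMap r ≫ πn V n :=
  exists_factor V' n (ZhMap r ≫ πn V n) (by
    rw [← Preadditive.comp_nsmul, nsmul_πn, comp_zero])

lemma GnMap_one (α : Gn V' n ⟶ Gn V n) (hα : πn V' n ≫ α = ZhMap r ≫ πn V n) :
    (α.hom.app (op V')).hom (one V' n) = ((Gn V n).obj.map r.op).hom (one V n) := by
  have h1 := congrArg (zhEquiv V' (Gn V n)) hα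
  rw [zhEquiv_comp, zhEquiv_map, πn, πn, Equiv.apply_symm_apply, Equiv.apply_symm_apply] at h1
  exact h1

set_option backward.isDefEq.respectTransparency.types false in
/-- if every lift to `V` of geometric points centred in `U` factors through `V'`, the cokernel of
`j'_! ℤ/n ⟶ j_! ℤ/n` is supported outside `U` -/
theorem supp_cokernel_subset (α : Gn V' n ⟶ Gn V n) (hα : πn V' n ≫ α = ZhMap r ≫ πn V n)
    (U : Set X)
    (hlift : ∀ (Ω : Type u) [Field Ω] [IsSepClosed Ω] (ξ : Spec (CommRingCat.of Ω) ⟶ X),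
      ξ (default : Spec (CommRingCat.of Ω)) ∈ U →
      ∀ v : (Scheme.pointSmallEtale ξ).fiber.obj V,
        ∃ v' : (Scheme.pointSmallEtale ξ).fiber.obj V',
          (Scheme.pointSmallEtale ξ).fiber.map r v' = v) :
    EtPBC.supp (cokernel α) ⊆ Uᶜ := by
  rintro x ⟨Ω, _, _, ξ, hξ, hx⟩ hxU
  apply hx
  have hcen : ξ (default : Spec (CommRingCat.of Ω)) = x := by
    have := range_geomPt ξ
    rw [hξ] at this
    exact (Set.singleton_eq_singleton_iff.mp this).symm
  -- the stalk map is surjective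
  have hsurj : Function.Surjective ((EtCoh.stalk ξ).map α) := by
    have hrange : (⊤ : AddSubgroup ((EtCoh.stalk ξ).obj (Gn V n))) ≤
        ((EtCoh.stalk ξ).map α).hom.range := by
      rw [← stalk_Gn_generated V n ξ, AddSubgroup.closure_le]
      rintro _ ⟨v, rfl⟩
      obtain ⟨v', hv'⟩ := hlift Ω ξ (hcen ▸ hxU) v
      refine ⟨germ ξ (Gn V' n) V' v' (one V' n), ?_⟩
      have e1 := germ_nat ξ α V' v' (one V' n)
      have e2 := germ_map ξ (Gn V n) r v' v hv' (one V n)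
      rw [GnMap_one r n α hα] at e1
      exact e1.symm.trans e2
    intro t
    exact hrange (AddSubgroup.mem_top t)
  haveI : Epi ((EtCoh.stalk ξ).map α) := (AddCommGrpCat.epi_iff_surjective _).mpr hsurj
  haveI : PreservesColimitsOfSize.{0, 0} (EtCoh.stalk ξ) :=
    ((Scheme.pointSmallEtale ξ).skyscraperSheafAdjunction
      (A := AddCommGrpCat.{u + 1})).leftAdjoint_preservesColimits
  haveI : (EtCoh.stalk ξ).PreservesZeroMorphisms :=
    haveI := stalk_additive ξ
    inferInstance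
  exact IsZero.of_iso (isZero_cokernel_of_epi _) (PreservesCokernel.iso (EtCoh.stalk ξ) α)

end Cokernel

end Groth.Agent.Lib.Helper8EtSuppGood
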