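import Groth.Agent.Lib.Helper8EtConstrFp
import Groth.Agent.S0127
import Groth.Agent.S0129
import Groth.Agent.S0101

/-!
# Constructibility descends along surjective morphisms (helper8)

Stacks 095H/09Z6 (abelian case): for a finite jointly surjective family `f_a : X_a ⟶ Y` of qcqs
schemes, `F` is constructible iff all `f_a^* F` are.  Also the version for surjective morphisms
locally of finite presentation (no quasi-compactness).
-/

set_option autoImplicit false
set_option linter.style.haveILetI false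
universe u
open CategoryTheory CategoryTheory.Limits AlgebraicGeometry Opposite Topology

namespace Groth.Agent.Lib.Helper8EtSurjConstr

open Groth.Agent.Lib.Helper16.EtStalk Groth.Agent.Lib.Helper8EtArrowSpec
  Groth.Agent.Lib.Helper8EtSpecArrow Groth.Agent.Lib.Helper8EtConstrColim
  Groth.Agent.Lib.Helper8EtTorsFilt Groth.Agent.Lib.Helper8EtConstrFp
  Groth.Agent.Lib.Helper8EtShriekConstr Groth.Agent.Lib.Helper8EtLTors
  Groth.Agent.Lib.Helper8EtConstr

attribute [local instance] Cardinal.fact_isRegular_aleph0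

section Family

variable {Y : Scheme.{u}} {A : Type*} (Xs : A → Scheme.{u}) (fs : ∀ a, Xs a ⟶ Y)

set_option backward.isDefEq.respectTransparency.types false in
/-- pullback along a jointly surjective family reflects zero objects -/
theorem isZero_of_isZero_pull (hsurj : ∀ y : Y, ∃ (a : A) (x : Xs a), fs a x = y)
    (G : EtCoh.Ab Y) (h : ∀ a, IsZero ((EtCoh.pull (fs a)).obj G)) : IsZero G := by
  apply isZero_of_stalks
  intro Ω _ _ ξ
  obtain ⟨a, x, hx⟩ := hsurj (ξ (default : Spec (CommRingCat.of Ω)))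
  obtain ⟨Ω', _, _, ξ', x', hx'⟩ := exists_geometric_point (Scheme.Etale.mk (𝟙 (Xs a))) x
  have hc : ξ' (default : Spec (CommRingCat.of Ω')) = x := by
    have hw : (x'.left : Spec (CommRingCat.of Ω') ⟶ (Scheme.Etale.mk (𝟙 (Xs a))).left) ≫
        (Scheme.Etale.mk (𝟙 (Xs a))).hom = ξ' := Over.w x'
    rw [← hw]
    exact hx'
  have hcen : ξ (default : Spec (CommRingCat.of Ω)) =
      (ξ' ≫ fs a) (default : Spec (CommRingCat.of Ω')) := by
    rw [Scheme.Hom.comp_apply, hc, hx]
  have hz : IsZero ((EtCoh.stalk (ξ' ≫ fs a)).obj G) :=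
    IsZero.of_iso ((EtCoh.stalk ξ').map_isZero (h a))
      ((Groth.Agent.S0101.stalkPullIso (fs a) ξ').app G)
  obtain ⟨ψ, -⟩ := exists_arrow ξ (ξ' ≫ fs a) (Scheme.Etale.mk (𝟙 Y)) (baseLift ξ)
    (baseLift (ξ' ≫ fs a)) (by rw [ctr_baseLift, ctr_baseLift, hcen])
  have inj := sheafFiber_injective_of_same_center ξ (ξ' ≫ fs a) G ψ hcen
  rw [AddCommGrpCat.isZero_iff_subsingleton] at hz ⊢
  exact inj.subsingleton

/-- pullback along a jointly surjective family is faithful -/
theorem eq_zero_of_pull_map_eq_zero (hsurj : ∀ y : Y, ∃ (a : A) (x : Xs a), fs a x = y)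
    {F G : EtCoh.Ab Y} (φ : F ⟶ G)
    (h : ∀ a, (EtCoh.pull (fs a)).map φ = 0) : φ = 0 := by
  have hfac : Abelian.factorThruImage φ ≫ Abelian.image.ι φ = φ := Abelian.image.fac φ
  have h3 : ∀ a, IsZero ((EtCoh.pull (fs a)).obj (Abelian.image φ)) := by
    intro a
    haveI : PreservesFiniteLimits (EtCoh.pull (fs a)) := Groth.Agent.S0101.result (fs a)
    haveI : PreservesColimitsOfSize.{0, 0} (EtCoh.pull (fs a)) :=
      (EtCoh.pullPushAdj (fs a)).leftAdjoint_preservesColimits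
    haveI : PreservesFiniteColimits (EtCoh.pull (fs a)) := inferInstance
    have h1 : (EtCoh.pull (fs a)).map (Abelian.factorThruImage φ) ≫
        (EtCoh.pull (fs a)).map (Abelian.image.ι φ) = 0 := by
      rw [← Functor.map_comp, hfac, h a]
    haveI : Epi ((EtCoh.pull (fs a)).map (Abelian.factorThruImage φ)) := inferInstance
    have h2 : (EtCoh.pull (fs a)).map (Abelian.image.ι φ) = 0 := by
      rw [← cancel_epi ((EtCoh.pull (fs a)).map (Abelian.factorThruImage φ)), h1, comp_zero]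
    haveI : Mono ((EtCoh.pull (fs a)).map (Abelian.image.ι φ)) := inferInstance
    exact IsZero.of_mono_eq_zero _ h2
  have h4 := isZero_of_isZero_pull Xs fs hsurj _ h3
  rw [← hfac, h4.eq_of_src (Abelian.image.ι φ) 0, comp_zero]

/-- a morphism whose pullbacks along a jointly surjective family are epimorphisms is an
epimorphism -/
theorem epi_of_epi_pull_map (hsurj : ∀ y : Y, ∃ (a : A) (x : Xs a), fs a x = y)
    {F G : EtCoh.Ab Y} (φ : F ⟶ G)
    (h : ∀ a, Epi ((EtCoh.pull (fs a)).map φ)) : Epi φ := by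
  have hz : ∀ a, IsZero ((EtCoh.pull (fs a)).obj (cokernel φ)) := by
    intro a
    haveI := h a
    haveI : PreservesColimitsOfSize.{0, 0} (EtCoh.pull (fs a)) :=
      (EtCoh.pullPushAdj (fs a)).leftAdjoint_preservesColimits
    haveI : (EtCoh.pull (fs a)).PreservesZeroMorphisms :=
      haveI : (EtCoh.pull (fs a)).IsLeftAdjoint := (EtCoh.pullPushAdj (fs a)).isLeftAdjoint
      inferInstance
    exact IsZero.of_iso (isZero_cokernel_of_epi _) (PreservesCokernel.iso (EtCoh.pull (fs a)) φ)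
  exact Preadditive.epi_of_isZero_cokernel _ (isZero_of_isZero_pull Xs fs hsurj _ hz)

theorem nsmul_eq_zero_of_pull (hsurj : ∀ y : Y, ∃ (a : A) (x : Xs a), fs a x = y)
    (F : EtCoh.Ab Y) (n : ℕ)
    (h : ∀ a, n • 𝟙 ((EtCoh.pull (fs a)).obj F) = 0) : n • 𝟙 F = 0 := by
  apply eq_zero_of_pull_map_eq_zero Xs fs hsurj
  intro a
  haveI : (EtCoh.pull (fs a)).Additive := (EtCoh.pullPushAdj (fs a)).left_adjoint_additive
  rw [Functor.map_nsmul, CategoryTheory.Functor.map_id, h a]

theorem isTorsion_of_nsmul_id_eq_zero {X : Scheme.{u}} (G : EtCoh.Ab X) (p : ℕ) (hp : 0 < p)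
    (h : (p • 𝟙 G : G ⟶ G) = 0) : EtCoh.IsTorsion G := by
  intro U s x
  refine ⟨U, 𝟙 U, ⟨x, rfl⟩, ?_⟩
  rw [isOfFinAddOrder_iff_nsmul_eq_zero]
  refine ⟨p, hp, ?_⟩
  have h1 := nsmul_id_app G p U (G.obj.map (𝟙 U).op s)
  rw [h] at h1
  exact h1.symm

variable [Finite A] [∀ a, CompactSpace (Xs a)] [∀ a, QuasiSeparatedSpace (Xs a)]
  [CompactSpace Y] [QuasiSeparatedSpace Y]

/-- a torsion sheaf with constructible pullbacks is a quotient of a constructible sheaf of bounded
torsion -/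
theorem exists_epi_BC (hsurj : ∀ y : Y, ∃ (a : A) (x : Xs a), fs a x = y)
    (F : EtCoh.Ab Y) (hF : EtCoh.IsTorsion F)
    (h : ∀ a, EtPBC.IsConstructible ((EtCoh.pull (fs a)).obj F)) :
    ∃ (Q : EtCoh.Ab Y) (π : Q ⟶ F), BC Q ∧ Epi π := by
  classical
  haveI := Fintype.ofFinite A
  obtain ⟨J, _, _, D, c, hc, hD, ⟨e⟩⟩ := exists_filtered_colimit_BC F hF
  have key : ∀ a, ∃ i : J, Epi ((EtCoh.pull (fs a)).map (c.ι.app i)) := by
    intro a
    haveI : PreservesColimitsOfSize.{u + 1, u + 1} (EtCoh.pull (fs a)) :=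
      (EtCoh.pullPushAdj (fs a)).leftAdjoint_preservesColimits
    have hc' := isColimitOfPreserves (EtCoh.pull (fs a)) hc
    haveI := isFinitelyPresentable_of_isConstructible _ (h a)
    haveI : IsFinitelyPresentable.{u + 1} ((EtCoh.pull (fs a)).obj c.pt) :=
      isCardinalPresentable_of_iso ((EtCoh.pull (fs a)).mapIso e.symm) _
    obtain ⟨i, s, hs⟩ := IsFinitelyPresentable.exists_hom_of_isColimit hc'
      (𝟙 ((EtCoh.pull (fs a)).obj c.pt))
    have hs' : s ≫ (EtCoh.pull (fs a)).map (c.ι.app i) = 𝟙 _ := hs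
    exact ⟨i, epi_of_epi_fac hs'⟩
  choose ia hia using key
  obtain ⟨i₀, hi₀⟩ := IsFiltered.sup_objs_exists (Finset.univ.image ia)
  haveI : Epi (c.ι.app i₀) := by
    apply epi_of_epi_pull_map Xs fs hsurj
    intro a
    obtain ⟨g⟩ := hi₀ (Finset.mem_image_of_mem ia (Finset.mem_univ a))
    have hw : D.map g ≫ c.ι.app i₀ = c.ι.app (ia a) := c.w g
    haveI : Epi ((EtCoh.pull (fs a)).map (D.map g) ≫ (EtCoh.pull (fs a)).map (c.ι.app i₀)) := by
      rw [← Functor.map_comp, hw]
      exact hia a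
    exact epi_of_epi ((EtCoh.pull (fs a)).map (D.map g)) _
  exact ⟨D.obj i₀, c.ι.app i₀ ≫ e.hom, hD i₀, inferInstance⟩

/-- **Stacks 095H (2)**: constructibility descends along finite jointly surjective families of qcqs
schemes -/
theorem isConstructible_of_pull_family (hsurj : ∀ y : Y, ∃ (a : A) (x : Xs a), fs a x = y)
    (F : EtCoh.Ab Y)
    (h : ∀ a, EtPBC.IsConstructible ((EtCoh.pull (fs a)).obj F)) : EtPBC.IsConstructible F := by
  classical
  haveI := Fintype.ofFinite A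
  -- bounded torsion
  have hb : ∀ a, ∃ n : ℕ, 0 < n ∧ n • 𝟙 ((EtCoh.pull (fs a)).obj F) = 0 := fun a =>
    (BC_of_isConstructible _ (h a)).2
  choose na hna hna0 using hb
  obtain ⟨n, hn⟩ : ∃ n : ℕ, n = ∏ a, na a := ⟨_, rfl⟩
  have hnpos : 0 < n := by
    rw [hn]
    exact Finset.prod_pos (fun a _ => hna a)
  have hn0 : ∀ a, n • 𝟙 ((EtCoh.pull (fs a)).obj F) = 0 := by
    intro a
    obtain ⟨m, hm⟩ : na a ∣ n := by
      rw [hn]
      exact Finset.dvd_prod_of_mem na (Finset.mem_univ a)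
    rw [hm]
    exact mul_nsmul_id_left m (hna0 a)
  have hFn : n • 𝟙 F = 0 := nsmul_eq_zero_of_pull Xs fs hsurj F n hn0
  have hFt : EtCoh.IsTorsion F := isTorsion_of_nsmul_id_eq_zero F n hnpos hFn
  obtain ⟨Q, π, hQ, hπ⟩ := exists_epi_BC Xs fs hsurj F hFt h
  obtain ⟨hQc, m, hm, hm0⟩ := hQ
  have hKm : m • 𝟙 (kernel π) = 0 := by
    rw [← cancel_mono (kernel.ι π), zero_comp, Preadditive.nsmul_comp, Category.id_comp]
    exact nsmul_eq_zero_of_right _ hm0
  have hKt : EtCoh.IsTorsion (kernel π) := isTorsion_of_nsmul_id_eq_zero _ m hm hKm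
  have hK : ∀ a, EtPBC.IsConstructible ((EtCoh.pull (fs a)).obj (kernel π)) := by
    intro a
    haveI : PreservesFiniteLimits (EtCoh.pull (fs a)) := Groth.Agent.S0101.result (fs a)
    haveI : (EtCoh.pull (fs a)).Additive := (EtCoh.pullPushAdj (fs a)).left_adjoint_additive
    have hpQ : EtPBC.IsConstructible ((EtCoh.pull (fs a)).obj Q) :=
      Groth.Agent.S0127.result (fs a) Q hQc
    have hpQm : m • 𝟙 ((EtCoh.pull (fs a)).obj Q) = 0 := by
      rw [← CategoryTheory.Functor.map_id, ← Functor.map_nsmul, hm0, Functor.map_zero]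
    have := (Groth.Agent.S0131.result ((EtCoh.pull (fs a)).map π) (m * n) (Nat.mul_pos hm hnpos)
      (killedBy_of_nsmul_id (mul_nsmul_id_left n hpQm))
      (killedBy_of_nsmul_id (mul_nsmul_id_right m (hn0 a))) hpQ (h a)).1
    exact isConstructible_of_iso (PreservesKernel.iso (EtCoh.pull (fs a)) π).symm this
  obtain ⟨Q', π', hQ', hπ'⟩ := exists_epi_BC Xs fs hsurj (kernel π) hKt hK
  have e : cokernel (π' ≫ kernel.ι π) ≅ F :=
    cokernelEpiComp π' (kernel.ι π) ≪≫
      IsColimit.coconePointUniqueUpToIso (colimit.isColimit _)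
        (Abelian.epiIsCokernelOfKernel _ (limit.isLimit (parallelPair π 0)))
  exact isConstructible_of_iso e (BC_cokernel _ hQ' ⟨hQc, m, hm, hm0⟩).1

end Family

section Single

variable {X Y : Scheme.{u}} (f : X ⟶ Y) [Surjective f]

/-- **Stacks 095H (2)** for a single surjective morphism of qcqs schemes -/
theorem isConstructible_of_pull [CompactSpace X] [QuasiSeparatedSpace X] [CompactSpace Y]
    [QuasiSeparatedSpace Y] (F : EtCoh.Ab Y)
    (h : EtPBC.IsConstructible ((EtCoh.pull f).obj F)) : EtPBC.IsConstructible F :=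
  isConstructible_of_pull_family (A := PUnit.{1}) (fun _ => X) (fun _ => f)
    (fun y => by
      obtain ⟨x, hx⟩ := f.surjective y
      exact ⟨PUnit.unit, x, hx⟩) F (fun _ => h)

theorem isConstructible_iff_pull [CompactSpace X] [QuasiSeparatedSpace X] [CompactSpace Y]
    [QuasiSeparatedSpace Y] (F : EtCoh.Ab Y) :
    EtPBC.IsConstructible F ↔ EtPBC.IsConstructible ((EtCoh.pull f).obj F) :=
  ⟨Groth.Agent.S0127.result f F, isConstructible_of_pull f F⟩

/-- constructibility descends along surjective morphisms locally of finite presentation -/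
theorem isConstructible_of_pull_lfp [LocallyOfFinitePresentation f] (F : EtCoh.Ab Y)
    (h : EtPBC.IsConstructible ((EtCoh.pull f).obj F)) : EtPBC.IsConstructible F := by
  classical
  refine Groth.Agent.S0129.result F (ι := Y.affineOpens) (fun V => V.1)
    (by
      rw [eq_top_iff]
      intro y _
      obtain ⟨_, ⟨V, hV, rfl⟩, hy, -⟩ :=
        (Y.isBasis_affineOpens).exists_subset_of_mem_open (Set.mem_univ y) isOpen_univ
      exact TopologicalSpace.Opens.mem_iSup.mpr ⟨⟨V, hV⟩, hy⟩) (fun V => ?_)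
  haveI : IsAffine (V.1 : Scheme.{u}) := V.2
  obtain ⟨p, hp⟩ : ∃ p : pullback f V.1.ι ⟶ (V.1 : Scheme.{u}), p = pullback.snd f V.1.ι :=
    ⟨_, rfl⟩
  haveI : Surjective p := by rw [hp]; infer_instance
  haveI : LocallyOfFinitePresentation p := by rw [hp]; infer_instance
  have hqc : ∀ U : (pullback f V.1.ι).affineOpens, QuasiCompact (U.1.ι ≫ p) := fun U =>
    haveI : IsAffine (U.1 : Scheme.{u}) := U.2
    HasAffineProperty.iff_of_isAffine.mpr (inferInstanceAs (CompactSpace (U.1 : Scheme.{u})))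
  have hconstr : ∀ U : (pullback f V.1.ι).affineOpens,
      IsConstructible (Set.range (U.1.ι ≫ p)) := by
    intro U
    haveI := hqc U
    have := (U.1.ι ≫ p).isConstructible_image (s := Set.univ) IsConstructible.univ
    rwa [Set.image_univ] at this
  have hcov : ∀ y : (V.1 : Scheme.{u}), ∃ U : (pullback f V.1.ι).affineOpens,
      y ∈ Set.range (U.1.ι ≫ p) := by
    intro y
    obtain ⟨x, hx⟩ := p.surjective y
    obtain ⟨_, ⟨U, hU, rfl⟩, hxU, -⟩ :=
      ((pullback f V.1.ι).isBasis_affineOpens).exists_subset_of_mem_open (Set.mem_univ x)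
        isOpen_univ
    refine ⟨⟨U, hU⟩, ⟨⟨x, hxU⟩, ?_⟩⟩
    rw [Scheme.Hom.comp_apply]
    exact hx
  obtain ⟨𝒟', h𝒟', 𝒞', h𝒞', -, hfin, hsub⟩ :=
    Groth.Agent.Lib.Helper5.exists_finite_sInter_subset_sUnion (X := (V.1 : Scheme.{u})) ∅
      (Set.range fun U : (pullback f V.1.ι).affineOpens => Set.range (U.1.ι ≫ p)) (by simp)
      (by rintro _ ⟨U, rfl⟩; exact hconstr U) (by
        intro y _
        obtain ⟨U, hU⟩ := hcov y
        exact ⟨_, ⟨U, rfl⟩, hU⟩)
  have h𝒟'' : 𝒟' = ∅ := Set.subset_empty_iff.mp h𝒟'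
  rw [h𝒟'', Set.sInter_empty] at hsub
  haveI : Nonempty (pullback f V.1.ι).affineOpens := ⟨⟨⊥, isAffineOpen_bot _⟩⟩
  have h𝒞'' : ∀ a : Set (V.1 : Scheme.{u}), a ∈ 𝒞' →
      ∃ U : (pullback f V.1.ι).affineOpens, Set.range (U.1.ι ≫ p) = a := fun a ha => h𝒞' ha
  choose! UU hUU using h𝒞''
  haveI : Finite 𝒞' := hfin.to_subtype
  haveI : ∀ a : 𝒞', CompactSpace ((UU a.1).1 : Scheme.{u}) := fun a =>
    haveI : IsAffine ((UU a.1).1 : Scheme.{u}) := (UU a.1).2
    inferInstance
  haveI : ∀ a : 𝒞', QuasiSeparatedSpace ((UU a.1).1 : Scheme.{u}) := fun a =>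
    haveI : IsAffine ((UU a.1).1 : Scheme.{u}) := (UU a.1).2
    inferInstance
  refine isConstructible_of_pull_family (A := 𝒞') (fun a => ((UU a.1).1 : Scheme.{u}))
    (fun a => (UU a.1).1.ι ≫ p) (fun y => ?_) _ (fun a => ?_)
  · obtain ⟨s, hs, hys⟩ := hsub (Set.mem_univ y)
    rw [← hUU s hs] at hys
    obtain ⟨x, hx⟩ := hys
    exact ⟨⟨s, hs⟩, x, hx⟩
  · have e1 := pullCompIso ((UU a.1).1.ι ≫ p) V.1.ι F
    have hcomm : ((UU a.1).1.ι ≫ p) ≫ V.1.ι = ((UU a.1).1.ι ≫ pullback.fst f V.1.ι) ≫ f := by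
      rw [hp, Category.assoc, Category.assoc, pullback.condition]
    have e2 := pullCompIso ((UU a.1).1.ι ≫ pullback.fst f V.1.ι) f F
    rw [← hcomm] at e2
    exact isConstructible_of_iso (e2.symm ≪≫ e1)
      (Groth.Agent.S0127.result _ _ h)

theorem isConstructible_iff_pull_lfp [LocallyOfFinitePresentation f] (F : EtCoh.Ab Y) :
    EtPBC.IsConstructible F ↔ EtPBC.IsConstructible ((EtCoh.pull f).obj F) :=
  ⟨Groth.Agent.S0127.result f F, isConstructible_of_pull_lfp f F⟩

end Single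

end Groth.Agent.Lib.Helper8EtSurjConstr
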