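import Groth.Agent.Lib.Helper8EtTorsGen
import Groth.Agent.Lib.Helper8EtConstrColim

/-!
# Torsion étale sheaves on a qcqs scheme are filtered colimits of constructible sheaves (helper8)
-/

set_option autoImplicit false
set_option linter.style.haveILetI false
universe u
open CategoryTheory CategoryTheory.Limits AlgebraicGeometry Opposite

namespace Groth.Agent.Lib.Helper8EtTorsFilt

open Groth.Agent.Lib.Helper9.EtMV Groth.Agent.Lib.Helper9.EtFp Groth.Agent.Lib.Helper9.EtFlasque
  Groth.Agent.Lib.Helper8EtLTors Groth.Agent.Lib.Helper8EtTorsion Groth.Agent.Lib.Helper8EtFpZh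
  Groth.Agent.Lib.Helper8EtTorsGen Groth.Agent.Lib.Helper8EtConstrColim

attribute [local instance] Cardinal.fact_isRegular_aleph0

variable (X : Scheme.{u})

/-- index type of the generators `j_! ℤ/n` -/
abbrev GenIdx : Type (u + 1) := {p : X.Etale × ℕ // fpProp X p.1 ∧ 0 < p.2}

/-- the generators -/
noncomputable def gen (i : GenIdx X) : EtCoh.Ab X := Gn i.1.1 i.1.2

/-- the generators, as a property -/
abbrev P : ObjectProperty (EtCoh.Ab X) := ObjectProperty.ofObj (gen X)

/-- closure of the generators under finite colimits -/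
abbrev R : ObjectProperty (EtCoh.Ab X) :=
  (P X).colimitsCardinalClosure (Cardinal.aleph0.{u + 1})

variable {X}

lemma P_le_BC [CompactSpace X] [QuasiSeparatedSpace X] : P X ≤ BC := by
  rintro _ ⟨⟨⟨V, n⟩, hV, hn⟩⟩
  haveI : NeZero n := ⟨Nat.pos_iff_ne_zero.1 hn⟩
  exact ⟨isConstructible_Gn V hV n, n, hn, nsmul_id_Gn V n⟩

lemma R_le_BC [CompactSpace X] [QuasiSeparatedSpace X] : R X ≤ BC := by
  refine ObjectProperty.colimitsCardinalClosure_le _ _ (fun J _ hJ => ?_) P_le_BC
  haveI : Finite (Arrow J) := (hasCardinalLT_aleph0_iff _).1 hJ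
  exact BC_isClosedUnderColimitsOfShape J

lemma R_gen (V : X.Etale) (hV : fpProp X V) (n : ℕ) (hn : 0 < n) : R X (Gn V n) :=
  (P X).le_colimitsCardinalClosure _ _
    (ObjectProperty.ofObj.mk (X := gen X) (⟨⟨V, n⟩, hV, hn⟩ : GenIdx X))

section Main

variable [CompactSpace X] [QuasiSeparatedSpace X] (F : EtCoh.Ab X)

/-- the diagram of all objects of `R` over `F` -/
abbrev Φ : CostructuredArrow (R X).ι F ⥤ EtCoh.Ab X :=
  CostructuredArrow.proj (R X).ι F ⋙ (R X).ι

/-- the canonical cocone with point `F` -/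
@[simps]
def coconeF : Cocone (Φ F) where
  pt := F
  ι :=
    { app := fun j => j.hom
      naturality := fun j j' f => by
        dsimp
        rw [Category.comp_id]
        exact CostructuredArrow.w f }

instance : HasColimitsOfShape (CostructuredArrow (R X).ι F) (EtCoh.Ab X) :=
  hasColimitsOfShape_of_equivalence
    (equivSmallModel.{u + 1} (CostructuredArrow (R X).ι F)).symm

/-- the comparison map -/
noncomputable abbrev d : colimit (Φ F) ⟶ F := colimit.desc (Φ F) (coconeF F)

omit [CompactSpace X] [QuasiSeparatedSpace X] in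
lemma fp_affine (V : X.Etale) (hV : IsAffine V.left) : fpProp X V :=
  ⟨inferInstance, inferInstance⟩

instance isCardinalFiltered_𝒥 :
    IsCardinalFiltered (CostructuredArrow (R X).ι F) (Cardinal.aleph0.{u + 1}) := inferInstance

theorem mono_d : Mono (d F) := by
  constructor
  intro Z h₁ h₂ h
  apply hom_ext_affine
  intro V hV σ
  have hfp : fpProp X V := fp_affine V hV
  haveI : IsFinitelyPresentable.{u + 1} (Zh V) := isFinitelyPresentable_Zh V hfp
  -- reduce to g₁ g₂ : Zh V ⟶ colimit Φ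
  obtain ⟨g₁, hg₁⟩ : ∃ g₁, g₁ = σ ≫ h₁ := ⟨_, rfl⟩
  obtain ⟨g₂, hg₂⟩ : ∃ g₂, g₂ = σ ≫ h₂ := ⟨_, rfl⟩
  rw [← hg₁, ← hg₂]
  have hg : g₁ ≫ d F = g₂ ≫ d F := by rw [hg₁, hg₂, Category.assoc, Category.assoc, h]
  obtain ⟨j, φ₁, φ₂, rfl, rfl⟩ :
      ∃ (j : CostructuredArrow (R X).ι F) (φ₁ φ₂ : Zh V ⟶ (Φ F).obj j),
        φ₁ ≫ colimit.ι _ _ = g₁ ∧ φ₂ ≫ colimit.ι _ _ = g₂ := by
    obtain ⟨j₁, f₁, hf₁⟩ := IsCardinalPresentable.exists_hom_of_isColimit
      (Cardinal.aleph0.{u + 1}) (colimit.isColimit (Φ F)) g₁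
    obtain ⟨j₂, f₂, hf₂⟩ := IsCardinalPresentable.exists_hom_of_isColimit
      (Cardinal.aleph0.{u + 1}) (colimit.isColimit (Φ F)) g₂
    exact ⟨IsFiltered.max j₁ j₂, f₁ ≫ (Φ F).map (IsFiltered.leftToMax j₁ j₂),
      f₂ ≫ (Φ F).map (IsFiltered.rightToMax j₁ j₂),
      by rw [Category.assoc, colimit.w]; exact hf₁, by rw [Category.assoc, colimit.w]; exact hf₂⟩
  -- the target of `φ₁, φ₂` is killed by some `n`
  obtain ⟨-, n, hn, hn0⟩ := R_le_BC _ j.left.2
  obtain ⟨ψ₁, hψ₁⟩ := exists_factor V n φ₁ (nsmul_eq_zero_of_right φ₁ hn0)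
  obtain ⟨ψ₂, hψ₂⟩ := exists_factor V n φ₂ (nsmul_eq_zero_of_right φ₂ hn0)
  have hψ : ψ₁ ≫ j.hom = ψ₂ ≫ j.hom := by
    have h3 : colimit.ι (Φ F) j ≫ d F = j.hom := colimit.ι_desc _ _
    rw [← cancel_epi (πn V n), reassoc_of% hψ₁, reassoc_of% hψ₂]
    rw [Category.assoc, Category.assoc, h3] at hg
    exact hg
  have hclosed : (R X).IsClosedUnderColimitsOfShape WalkingParallelPair := by
    apply ObjectProperty.isClosedUnderColimitsOfShape_colimitsCardinalClosure
    refine .of_le ?_ (Cardinal.IsRegular.aleph0_le Fact.out)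
    simp only [hasCardinalLT_aleph0_iff]
    infer_instance
  let obj : (R X).FullSubcategory :=
    ⟨coequalizer ψ₁ ψ₂, by
      apply ObjectProperty.prop_colimit
      rintro (_ | _)
      · exact R_gen V hfp n hn
      · exact j.left.2⟩
  let a : (R X).ι.obj obj ⟶ F := coequalizer.desc j.hom hψ
  let ψ : j ⟶ CostructuredArrow.mk a :=
    CostructuredArrow.homMk (ObjectProperty.homMk (coequalizer.π _ _))
      (coequalizer.π_desc _ _)
  rw [← colimit.w (Φ F) ψ, ← hψ₁, ← hψ₂]
  simp only [Category.assoc]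
  congr 1
  exact coequalizer.condition_assoc _ _ _

/-- every map from `Zh V`, `V` affine, to a torsion sheaf is killed by a positive integer -/
theorem exists_nsmul_eq_zero (hF : EtCoh.IsTorsion F) (V : X.Etale) (hV : fpProp X V)
    (σ : Zh V ⟶ F) : ∃ n : ℕ, 0 < n ∧ n • σ = 0 := by
  haveI : IsFinitelyPresentable.{u + 1} (Zh V) := isFinitelyPresentable_Zh V hV
  obtain ⟨hc⟩ := nonempty_isColimit_torsCocone F hF
  obtain ⟨j, p, hp⟩ := IsFinitelyPresentable.exists_hom_of_isColimit hc σ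
  refine ⟨(j.down).factorial, Nat.factorial_pos _, ?_⟩
  obtain ⟨p', hp'⟩ : ∃ p' : Zh V ⟶ tors F (j.down).factorial, p' = p := ⟨p, rfl⟩
  have h1 : p' ≫ torsι F (j.down).factorial = σ := by rw [hp']; exact hp
  have h2 := torsι_smul F (j.down).factorial
  rw [Preadditive.comp_nsmul, Category.comp_id] at h2
  rw [← h1, ← Preadditive.comp_nsmul, h2, comp_zero]

theorem epi_d (hF : EtCoh.IsTorsion F) : Epi (d F) := by
  apply Abelian.epi_of_cokernel_π_eq_zero
  apply hom_ext_affine
  intro V hV σ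
  have hfp : fpProp X V := fp_affine V hV
  obtain ⟨n, hn, h0⟩ := exists_nsmul_eq_zero F hF V hfp σ
  obtain ⟨σ', hσ'⟩ := exists_factor V n σ h0
  let γ : CostructuredArrow (R X).ι F :=
    CostructuredArrow.mk (Y := ⟨Gn V n, R_gen V hfp n hn⟩) (by exact σ')
  have h1 : colimit.ι (Φ F) γ ≫ d F = σ' := colimit.ι_desc _ _
  have h2 : σ ≫ cokernel.π (d F) =
      (πn V n ≫ colimit.ι (Φ F) γ) ≫ (d F ≫ cokernel.π (d F)) := by
    rw [← hσ', ← h1]
    simp only [Category.assoc]
    congr 1
  rw [h2, cokernel.condition, comp_zero, comp_zero]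

theorem isIso_d (hF : EtCoh.IsTorsion F) : IsIso (d F) := by
  haveI := mono_d F
  haveI := epi_d F hF
  exact isIso_of_mono_of_epi _

/-- **Density**: a torsion sheaf is the colimit of the constructible sheaves of `R` over it. -/
noncomputable def isColimitCoconeF (hF : EtCoh.IsTorsion F) : IsColimit (coconeF F) :=
  IsColimit.ofIsoColimit (colimit.isColimit (Φ F))
    (Cocone.ext (@asIso _ _ _ _ (d F) (isIso_d F hF)) (fun _ => colimit.ι_desc _ _))

/-- **Stacks 03SA (2)**: on a qcqs scheme, every torsion abelian sheaf is a filtered colimit of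
constructible sheaves. -/
theorem exists_filtered_colimit (hF : EtCoh.IsTorsion F) :
    ∃ (J : Type (u + 1)) (_ : SmallCategory J) (_ : IsFiltered J) (D : J ⥤ EtCoh.Ab X)
      (c : Cocone D) (_ : IsColimit c), (∀ j, EtPBC.IsConstructible (D.obj j)) ∧
        Nonempty (c.pt ≅ F) := by
  let e := equivSmallModel.{u + 1} (CostructuredArrow (R X).ι F)
  refine ⟨SmallModel.{u + 1} (CostructuredArrow (R X).ι F), inferInstance,
    IsFiltered.of_equivalence e, e.inverse ⋙ Φ F, (coconeF F).whisker e.inverse,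
    (isColimitCoconeF F hF).whiskerEquivalence e.symm, fun j => ?_, ⟨Iso.refl _⟩⟩
  exact (R_le_BC _ (e.inverse.obj j).left.2).1

end Main

end Groth.Agent.Lib.Helper8EtTorsFilt

namespace Groth.Agent.Lib.Helper8EtTorsFilt

open Groth.Agent.Lib.Helper8EtConstrColim Groth.Agent.Lib.Helper8EtShriekConstr

attribute [local instance] Cardinal.fact_isRegular_aleph0

variable {X : Scheme.{u}}

/-- version of `exists_filtered_colimit` remembering that the pieces have bounded torsion -/
theorem exists_filtered_colimit_BC [CompactSpace X] [QuasiSeparatedSpace X] (F : EtCoh.Ab X)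
    (hF : EtCoh.IsTorsion F) :
    ∃ (J : Type (u + 1)) (_ : SmallCategory J) (_ : IsFiltered J) (D : J ⥤ EtCoh.Ab X)
      (c : Cocone D) (_ : IsColimit c), (∀ j, BC (D.obj j)) ∧ Nonempty (c.pt ≅ F) := by
  let e := equivSmallModel.{u + 1} (CostructuredArrow (R X).ι F)
  exact ⟨SmallModel.{u + 1} (CostructuredArrow (R X).ι F), inferInstance,
    IsFiltered.of_equivalence e, e.inverse ⋙ Φ F, (coconeF F).whisker e.inverse,
    (isColimitCoconeF F hF).whiskerEquivalence e.symm,
    fun j => R_le_BC _ (e.inverse.obj j).left.2, ⟨Iso.refl _⟩⟩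

/-- a retract of a constructible sheaf of bounded torsion is constructible -/
theorem isConstructible_of_retract {F Q : EtCoh.Ab X} (s : F ⟶ Q) (r : Q ⟶ F)
    (h : s ≫ r = 𝟙 F) (hQ : BC Q) : EtPBC.IsConstructible F := by
  obtain ⟨hc, n, hn, hn0⟩ := hQ
  have hs : s ≫ (𝟙 Q - r ≫ s) = 0 := by
    rw [Preadditive.comp_sub, Category.comp_id, reassoc_of% h, sub_self]
  have hlim : IsLimit (KernelFork.ofι s hs) :=
    KernelFork.IsLimit.ofι _ _ (fun t _ => t ≫ r)
      (fun t ht => by
        rw [Preadditive.comp_sub, Category.comp_id, sub_eq_zero] at ht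
        rw [Category.assoc]
        exact ht.symm)
      (fun t _ m hm => by
        rw [← hm, Category.assoc, h, Category.comp_id])
  have e : F ≅ kernel (𝟙 Q - r ≫ s) := IsLimit.conePointUniqueUpToIso hlim (limit.isLimit (parallelPair (𝟙 Q - r ≫ s) 0))
  exact isConstructible_of_iso e.symm
    (Groth.Agent.S0131.result (𝟙 Q - r ≫ s) n hn (killedBy_of_nsmul_id hn0)
      (killedBy_of_nsmul_id hn0) hc hc).1

/-- **compact torsion sheaves are constructible** -/
theorem isConstructible_of_compact [CompactSpace X] [QuasiSeparatedSpace X] (F : EtCoh.Ab X)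
    (hF : EtCoh.IsTorsion F)
    (hc : ∀ (J : Type (u + 1)) [SmallCategory J] [IsFiltered J],
      PreservesColimitsOfShape J (coyoneda.obj (op F))) :
    EtPBC.IsConstructible F := by
  obtain ⟨J, _, _, D, c, hcol, hD, ⟨e⟩⟩ := exists_filtered_colimit_BC F hF
  haveI := hc J
  obtain ⟨j, p, hp⟩ := Types.jointly_surjective_of_isColimit
    (isColimitOfPreserves (coyoneda.obj (op F)) hcol) e.inv
  have hp' : p ≫ c.ι.app j = e.inv := hp
  refine isConstructible_of_retract p (c.ι.app j ≫ e.hom) ?_ (hD j)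
  rw [reassoc_of% hp', e.inv_hom_id]

end Groth.Agent.Lib.Helper8EtTorsFilt
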