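import Groth.Agent.Lib.Helper8EtTorsFilt
import Groth.Agent.Lib.Helper9EtFpCech

/-!
# Density of constructible sheaves with an auxiliary property (helper8)

A variant of `Helper8EtTorsFilt`: given a property `S` of abelian sheaves stable under quotients,
binary direct sums and containing the zero objects, a sheaf `F` all of whose "local sections"
`ℤ[h_V] ⟶ F` (`V` affine) factor through an object of `R ⊓ S` over `F` is the filtered colimit
of the objects of `R ⊓ S` over it.
-/

set_option autoImplicit false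
set_option linter.style.haveILetI false
universe u
open CategoryTheory CategoryTheory.Limits AlgebraicGeometry Opposite

namespace Groth.Agent.Lib.Helper8EtTorsFiltS

open Groth.Agent.Lib.Helper9.EtMV Groth.Agent.Lib.Helper9.EtFp Groth.Agent.Lib.Helper9.EtFlasque
  Groth.Agent.Lib.Helper8EtLTors Groth.Agent.Lib.Helper8EtTorsion Groth.Agent.Lib.Helper8EtFpZh
  Groth.Agent.Lib.Helper8EtTorsGen Groth.Agent.Lib.Helper8EtConstrColim
  Groth.Agent.Lib.Helper8EtTorsFilt

attribute [local instance] Cardinal.fact_isRegular_aleph0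

variable {X : Scheme.{u}}

/-- hypotheses on the auxiliary property -/
structure Good (S : ObjectProperty (EtCoh.Ab X)) : Prop where
  zero : ∀ A : EtCoh.Ab X, IsZero A → S A
  quot : ∀ {A B : EtCoh.Ab X} (π : A ⟶ B), Epi π → S A → S B
  biprod : ∀ {A B : EtCoh.Ab X}, S A → S B → S (A ⊞ B)

variable (S : ObjectProperty (EtCoh.Ab X))

/-- objects of `R` with the auxiliary property -/
abbrev T : ObjectProperty (EtCoh.Ab X) := fun A => R X A ∧ S A

instance : ObjectProperty.EssentiallySmall.{u + 1} (T S) :=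
  ObjectProperty.EssentiallySmall.of_le (Q := R X) (fun _ h => h.1)

lemma R_closed (J : Type) [SmallCategory J] [FinCategory J] :
    (R X).IsClosedUnderColimitsOfShape J := by
  apply ObjectProperty.isClosedUnderColimitsOfShape_colimitsCardinalClosure
  refine .of_le ?_ (Cardinal.IsRegular.aleph0_le Fact.out)
  simp only [hasCardinalLT_aleph0_iff]
  infer_instance

lemma R_coequalizer {A B : EtCoh.Ab X} (f g : A ⟶ B) (hA : R X A) (hB : R X B) :
    R X (coequalizer f g) := by
  haveI := R_closed (X := X) WalkingParallelPair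
  apply ObjectProperty.prop_colimit
  rintro (_ | _)
  · exact hA
  · exact hB

lemma R_biprod {A B : EtCoh.Ab X} (hA : R X A) (hB : R X B) : R X (A ⊞ B) := by
  haveI := R_closed (X := X) (Discrete WalkingPair)
  refine (R X).prop_of_isColimit (BinaryBiproduct.isColimit A B) ?_
  rintro ⟨_ | _⟩
  · exact hA
  · exact hB

lemma R_zero [CompactSpace X] [QuasiSeparatedSpace X] : ∃ Z : EtCoh.Ab X, IsZero Z ∧ R X Z := by
  have hg : R X (Gn (EtCoh.top X) 1) := R_gen _ (fpProp_top X) 1 Nat.one_pos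
  refine ⟨coequalizer (𝟙 (Gn (EtCoh.top X) 1)) 0, ?_, R_coequalizer _ _ hg hg⟩
  rw [IsZero.iff_id_eq_zero, ← cancel_epi (coequalizer.π (𝟙 (Gn (EtCoh.top X) 1)) 0),
    Category.comp_id, comp_zero]
  have := coequalizer.condition (𝟙 (Gn (EtCoh.top X) 1)) 0
  rw [Category.id_comp, zero_comp] at this
  exact this

variable {S}

section Main

variable [CompactSpace X] [QuasiSeparatedSpace X] (hS : Good S) (F : EtCoh.Ab X)

include hS in
/-- the category of objects of `T` over `F` is filtered -/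
theorem isFiltered : IsFiltered (CostructuredArrow (T S).ι F) := by
  haveI : IsFilteredOrEmpty (CostructuredArrow (T S).ι F) := by
    refine ⟨fun j j' => ?_, fun j j' f g => ?_⟩
    · let obj : (T S).FullSubcategory :=
        ⟨(T S).ι.obj j.left ⊞ (T S).ι.obj j'.left,
          R_biprod j.left.2.1 j'.left.2.1, hS.biprod j.left.2.2 j'.left.2.2⟩
      let a : (T S).ι.obj obj ⟶ F := biprod.desc j.hom j'.hom
      exact ⟨CostructuredArrow.mk a,
        CostructuredArrow.homMk (ObjectProperty.homMk biprod.inl) (biprod.inl_desc _ _),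
        CostructuredArrow.homMk (ObjectProperty.homMk biprod.inr) (biprod.inr_desc _ _), trivial⟩
    · have hw : (T S).ι.map f.left ≫ j'.hom = (T S).ι.map g.left ≫ j'.hom := by
        rw [CostructuredArrow.w f, CostructuredArrow.w g]
      let obj : (T S).FullSubcategory :=
        ⟨coequalizer ((T S).ι.map f.left) ((T S).ι.map g.left),
          R_coequalizer _ _ j.left.2.1 j'.left.2.1,
          hS.quot (coequalizer.π _ _) inferInstance j'.left.2.2⟩
      let a : (T S).ι.obj obj ⟶ F := coequalizer.desc j'.hom hw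
      refine ⟨CostructuredArrow.mk a,
        CostructuredArrow.homMk (ObjectProperty.homMk (coequalizer.π _ _))
          (coequalizer.π_desc _ _), ?_⟩
      apply CostructuredArrow.hom_ext
      apply ObjectProperty.hom_ext
      exact coequalizer.condition _ _
  obtain ⟨Z, hZ, hZR⟩ := R_zero (X := X)
  haveI : Nonempty (CostructuredArrow (T S).ι F) :=
    ⟨CostructuredArrow.mk (Y := ⟨Z, hZR, hS.zero Z hZ⟩) (by exact (0 : Z ⟶ F))⟩
  exact {}

/-- the diagram of all objects of `T` over `F` -/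
abbrev Φ (S : ObjectProperty (EtCoh.Ab X)) : CostructuredArrow (T S).ι F ⥤ EtCoh.Ab X :=
  CostructuredArrow.proj (T S).ι F ⋙ (T S).ι

/-- the canonical cocone with point `F` -/
@[simps]
def coconeF (S : ObjectProperty (EtCoh.Ab X)) : Cocone (Φ F S) where
  pt := F
  ι :=
    { app := fun j => j.hom
      naturality := fun j j' f => by
        dsimp
        rw [Category.comp_id]
        exact CostructuredArrow.w f }

instance : HasColimitsOfShape (CostructuredArrow (T S).ι F) (EtCoh.Ab X) :=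
  hasColimitsOfShape_of_equivalence
    (equivSmallModel.{u + 1} (CostructuredArrow (T S).ι F)).symm

/-- the comparison map -/
noncomputable abbrev d (S : ObjectProperty (EtCoh.Ab X)) : colimit (Φ F S) ⟶ F :=
  colimit.desc (Φ F S) (coconeF F S)

include hS in
theorem mono_d : Mono (d F S) := by
  haveI := isFiltered hS F
  constructor
  intro Z h₁ h₂ h
  apply hom_ext_affine
  intro V hV σ
  have hfp : fpProp X V := fp_affine V hV
  haveI : IsFinitelyPresentable.{u + 1} (Zh V) := isFinitelyPresentable_Zh V hfp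
  obtain ⟨g₁, hg₁⟩ : ∃ g₁, g₁ = σ ≫ h₁ := ⟨_, rfl⟩
  obtain ⟨g₂, hg₂⟩ : ∃ g₂, g₂ = σ ≫ h₂ := ⟨_, rfl⟩
  rw [← hg₁, ← hg₂]
  have hg : g₁ ≫ d F S = g₂ ≫ d F S := by rw [hg₁, hg₂, Category.assoc, Category.assoc, h]
  haveI : IsCardinalFiltered (CostructuredArrow (T S).ι F) (Cardinal.aleph0.{u + 1}) := by
    rw [isCardinalFiltered_aleph0_iff]
    infer_instance
  obtain ⟨j, φ₁, φ₂, rfl, rfl⟩ :
      ∃ (j : CostructuredArrow (T S).ι F) (φ₁ φ₂ : Zh V ⟶ (Φ F S).obj j),
        φ₁ ≫ colimit.ι _ _ = g₁ ∧ φ₂ ≫ colimit.ι _ _ = g₂ := by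
    obtain ⟨j₁, f₁, hf₁⟩ := IsCardinalPresentable.exists_hom_of_isColimit
      (Cardinal.aleph0.{u + 1}) (colimit.isColimit (Φ F S)) g₁
    obtain ⟨j₂, f₂, hf₂⟩ := IsCardinalPresentable.exists_hom_of_isColimit
      (Cardinal.aleph0.{u + 1}) (colimit.isColimit (Φ F S)) g₂
    exact ⟨IsFiltered.max j₁ j₂, f₁ ≫ (Φ F S).map (IsFiltered.leftToMax j₁ j₂),
      f₂ ≫ (Φ F S).map (IsFiltered.rightToMax j₁ j₂),
      by rw [Category.assoc, colimit.w]; exact hf₁, by rw [Category.assoc, colimit.w]; exact hf₂⟩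
  obtain ⟨-, n, hn, hn0⟩ := R_le_BC _ j.left.2.1
  obtain ⟨ψ₁, hψ₁⟩ := exists_factor V n φ₁ (nsmul_eq_zero_of_right φ₁ hn0)
  obtain ⟨ψ₂, hψ₂⟩ := exists_factor V n φ₂ (nsmul_eq_zero_of_right φ₂ hn0)
  have hψ : ψ₁ ≫ j.hom = ψ₂ ≫ j.hom := by
    have h3 : colimit.ι (Φ F S) j ≫ d F S = j.hom := colimit.ι_desc _ _
    rw [← cancel_epi (πn V n), reassoc_of% hψ₁, reassoc_of% hψ₂]
    rw [Category.assoc, Category.assoc, h3] at hg
    exact hg
  let obj : (T S).FullSubcategory :=
    ⟨coequalizer ψ₁ ψ₂, R_coequalizer _ _ (R_gen V hfp n hn) j.left.2.1,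
      hS.quot (coequalizer.π _ _) inferInstance j.left.2.2⟩
  let a : (T S).ι.obj obj ⟶ F := coequalizer.desc j.hom hψ
  let ψ : j ⟶ CostructuredArrow.mk a :=
    CostructuredArrow.homMk (ObjectProperty.homMk (coequalizer.π _ _))
      (coequalizer.π_desc _ _)
  rw [← colimit.w (Φ F S) ψ, ← hψ₁, ← hψ₂]
  simp only [Category.assoc]
  congr 1
  exact coequalizer.condition_assoc _ _ _

omit [CompactSpace X] [QuasiSeparatedSpace X] in
theorem epi_d
    (hgen : ∀ (V : X.Etale), IsAffine V.left → ∀ σ : Zh V ⟶ F,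
      ∃ (γ : CostructuredArrow (T S).ι F) (τ : Zh V ⟶ (Φ F S).obj γ), τ ≫ γ.hom = σ) :
    Epi (d F S) := by
  apply Abelian.epi_of_cokernel_π_eq_zero
  apply hom_ext_affine
  intro V hV σ
  obtain ⟨γ, τ, hτ⟩ := hgen V hV σ
  have h1 : colimit.ι (Φ F S) γ ≫ d F S = γ.hom := colimit.ι_desc _ _
  have h2 : σ ≫ cokernel.π (d F S) =
      (τ ≫ colimit.ι (Φ F S) γ) ≫ (d F S ≫ cokernel.π (d F S)) := by
    rw [← hτ, ← h1]
    simp only [Category.assoc]
  rw [h2, cokernel.condition, comp_zero, comp_zero]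

include hS in
/-- **Density with an auxiliary property.** -/
theorem exists_filtered_colimit
    (hgen : ∀ (V : X.Etale), IsAffine V.left → ∀ σ : Zh V ⟶ F,
      ∃ (γ : CostructuredArrow (T S).ι F) (τ : Zh V ⟶ (Φ F S).obj γ), τ ≫ γ.hom = σ) :
    ∃ (J : Type (u + 1)) (_ : SmallCategory J) (_ : IsFiltered J) (D : J ⥤ EtCoh.Ab X)
      (c : Cocone D) (_ : IsColimit c), Nonempty (c.pt ≅ F) ∧
        ∀ j, EtPBC.IsConstructible (D.obj j) ∧ S (D.obj j) := by
  haveI := isFiltered hS F
  haveI := mono_d hS F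
  haveI := epi_d F hgen
  have hiso : IsIso (d F S) := isIso_of_mono_of_epi _
  have hcol : IsColimit (coconeF F S) :=
    IsColimit.ofIsoColimit (colimit.isColimit (Φ F S))
      (Cocone.ext (@asIso _ _ _ _ (d F S) hiso) (fun _ => colimit.ι_desc _ _))
  let e := equivSmallModel.{u + 1} (CostructuredArrow (T S).ι F)
  exact ⟨SmallModel.{u + 1} (CostructuredArrow (T S).ι F), inferInstance,
    IsFiltered.of_equivalence e, e.inverse ⋙ Φ F S, (coconeF F S).whisker e.inverse,
    hcol.whiskerEquivalence e.symm, ⟨Iso.refl _⟩,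
    fun j => ⟨(R_le_BC _ (e.inverse.obj j).left.2.1).1, (e.inverse.obj j).left.2.2⟩⟩

end Main

end Groth.Agent.Lib.Helper8EtTorsFiltS
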