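import Groth.Agent.Lib.Helper9EtFpH
import Groth.Agent.Lib.Helper9EtFlasque
import Groth.Agent.Lib.Helper16SmallEtale

/-!
# Torsion sheaves are filtered colimits of their `n`-torsion subsheaves (helper8)

* `isColimit_of_mono_of_locallySurjective`: a filtered cocone of monomorphisms which is locally
  jointly surjective is a colimit cocone (Grothendieck abelian category of étale sheaves).
* `tors F k`, `torsD F`, `torsCocone F`, `isColimit_torsCocone`: a torsion sheaf is the filtered
  colimit of the subsheaves `F[n!]`.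
* `exists_rep_H`: on a qcqs scheme every class in `H^n(X, colim)` comes from a stage.
* `isAddTorsion_H`: cohomology of a torsion sheaf on a qcqs scheme is torsion.
-/

set_option autoImplicit false
universe u
open CategoryTheory CategoryTheory.Limits AlgebraicGeometry Opposite Abelian

namespace Groth.Agent.Lib.Helper8EtTorsion

open Groth.Agent.Lib.Helper9.EtMV Groth.Agent.Lib.Helper9.EtFlasque
  Groth.Agent.Lib.Helper16.SmallEtale

variable {X : Scheme.{u}}

section Colim

variable {J : Type (u + 1)} [SmallCategory J] [IsFiltered J] (D : J ⥤ EtCoh.Ab X) (c : Cocone D)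

theorem mono_desc (hm : ∀ j, Mono (c.ι.app j)) : Mono (colimit.desc D c) := by
  haveI : Mono c.ι := NatTrans.mono_of_mono_app c.ι
  haveI : IsConnected J := IsFiltered.isConnected J
  refine colim.map_mono' c.ι (colimit.isColimit D) (isColimitConstCocone J c.pt) _ ?_
  intro j
  exact (colimit.ι_desc c j).trans (Category.comp_id _).symm

theorem epi_desc
    (hs : ∀ (U : X.Etale) (s : EtCoh.sect c.pt U) (x : U.left),
      ∃ (V : X.Etale) (g : V ⟶ U) (v : V.left) (_ : g.left v = x) (j : J)
        (t : EtCoh.sect (D.obj j) V), ((c.ι.app j).hom.app (op V)).hom t = (c.pt.obj.map g.op).hom s) :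
    Epi (colimit.desc D c) := by
  rw [← Sheaf.isLocallySurjective_iff_epi' _ (colimit.desc D c)]
  constructor
  intro U s
  rw [mem_smallEtale_iff]
  intro x
  obtain ⟨V, g, v, hv, j, t, ht⟩ := hs U s x
  refine ⟨V, g, v, ⟨((colimit.ι D j).hom.app (op V)).hom t, ?_⟩, hv⟩
  rw [← ht]
  have h := colimit.ι_desc c j
  have h2 := congrArg (fun φ : D.obj j ⟶ c.pt => (φ.hom.app (op V)).hom t) h
  exact h2

theorem nonempty_isColimit (hm : ∀ j, Mono (c.ι.app j))
    (hs : ∀ (U : X.Etale) (s : EtCoh.sect c.pt U) (x : U.left),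
      ∃ (V : X.Etale) (g : V ⟶ U) (v : V.left) (_ : g.left v = x) (j : J)
        (t : EtCoh.sect (D.obj j) V), ((c.ι.app j).hom.app (op V)).hom t = (c.pt.obj.map g.op).hom s) :
    Nonempty (IsColimit c) := by
  haveI := mono_desc D c hm
  haveI := epi_desc D c hs
  haveI : IsIso (colimit.desc D c) := isIso_of_mono_of_epi _
  haveI : IsIso ((colimit.isColimit D).desc c) := by
    change IsIso (colimit.desc D c)
    infer_instance
  exact ⟨IsColimit.ofPointIso (colimit.isColimit D)⟩

end Colim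

section Tors

variable (F : EtCoh.Ab X)

/-- the `k`-torsion subsheaf. -/
noncomputable def tors (k : ℕ) : EtCoh.Ab X := kernel (k • 𝟙 F)

/-- the inclusion of the `k`-torsion subsheaf. -/
noncomputable def torsι (k : ℕ) : tors F k ⟶ F := kernel.ι _

instance mono_torsι (k : ℕ) : Mono (torsι F k) :=
  inferInstanceAs (Mono (kernel.ι (k • 𝟙 F)))

lemma torsι_smul (k : ℕ) : torsι F k ≫ (k • 𝟙 F) = 0 := kernel.condition _

lemma torsι_smul_of_dvd {k l : ℕ} (h : k ∣ l) : torsι F k ≫ (l • 𝟙 F) = 0 := by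
  obtain ⟨m, rfl⟩ := h
  rw [mul_nsmul, Preadditive.comp_nsmul, torsι_smul, nsmul_zero]

/-- transition maps. -/
noncomputable def torsMap {k l : ℕ} (h : k ∣ l) : tors F k ⟶ tors F l :=
  kernel.lift _ (torsι F k) (torsι_smul_of_dvd F h)

@[reassoc (attr := simp)]
lemma torsMap_ι {k l : ℕ} (h : k ∣ l) : torsMap F h ≫ torsι F l = torsι F k :=
  kernel.lift_ι _ _ _

lemma nsmul_id_tors (k : ℕ) : k • 𝟙 (tors F k) = 0 := by
  rw [← cancel_mono (torsι F k), Preadditive.nsmul_comp, Category.id_comp, zero_comp]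
  have := torsι_smul F k
  rwa [Preadditive.comp_nsmul, Category.comp_id] at this

/-- the system of the `n!`-torsion subsheaves. -/
noncomputable def torsD : ULift.{u + 1} ℕ ⥤ EtCoh.Ab X where
  obj a := tors F (a.down).factorial
  map {a b} h := torsMap F (Nat.factorial_dvd_factorial (by
    have h' : a ≤ b := leOfHom h
    exact h'))
  map_id a := by rw [← cancel_mono (torsι F _)]; simp
  map_comp f g := by rw [← cancel_mono (torsι F _)]; simp

/-- the cocone to `F`. -/
noncomputable def torsCocone : Cocone (torsD F) where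
  pt := F
  ι :=
    { app := fun a => torsι F (a.down).factorial
      naturality := fun a b h => by
        change torsMap F (Nat.factorial_dvd_factorial (by
          have h' : a ≤ b := leOfHom h
          exact h')) ≫ torsι F _ = torsι F _ ≫ 𝟙 _
        rw [torsMap_ι, Category.comp_id] }

end Tors

section Main

instance additive_HF (n : ℕ) : (EtCoh.HF X n).Additive := by
  unfold EtCoh.HF
  infer_instance

lemma hom_nsmul_id (Y : AddCommGrpCat.{u + 1}) (m : ℕ) (y : Y) :
    (m • 𝟙 Y : Y ⟶ Y).hom y = m • y := by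
  induction m with
  | zero => simp
  | succ m ih =>
    rw [succ_nsmul, succ_nsmul, AddCommGrpCat.hom_add, AddMonoidHom.add_apply, ih]
    rfl

lemma nsmul_map_eq_zero {A B : EtCoh.Ab X} (φ : A ⟶ B) (m : ℕ) (hA : m • 𝟙 A = 0) (n : ℕ)
    (y : ((EtCoh.HF X n).obj A : AddCommGrpCat.{u + 1})) :
    m • ((EtCoh.HF X n).map φ).hom y = 0 := by
  have h1 : (EtCoh.HF X n).map (m • 𝟙 A) = m • 𝟙 _ := by
    rw [Functor.map_nsmul, CategoryTheory.Functor.map_id]
  have h2 : (EtCoh.HF X n).map (m • 𝟙 A) = 0 := by rw [hA, Functor.map_zero]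
  have h3 : m • y = 0 := by
    have := congrArg (fun f : (EtCoh.HF X n).obj A ⟶ (EtCoh.HF X n).obj A => f.hom y)
      (h1.symm.trans h2)
    have h4 : (m • 𝟙 ((EtCoh.HF X n).obj A) : (EtCoh.HF X n).obj A ⟶ _).hom y = 0 := this
    rwa [hom_nsmul_id] at h4
  rw [← map_nsmul, h3, map_zero]

variable (F : EtCoh.Ab X)

lemma zhEquiv_zero (P : X.Etale) : zhEquiv P F (0 : Zh P ⟶ F) = 0 := by
  have := zhEquiv_add P F 0 0
  rw [add_zero] at this
  exact left_eq_add.mp this

lemma zhEquiv_nsmul (P : X.Etale) (m : ℕ) (φ : Zh P ⟶ F) :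
    zhEquiv P F (m • φ) = m • zhEquiv P F φ := by
  induction m with
  | zero => rw [zero_nsmul, zero_nsmul, zhEquiv_zero]
  | succ m ih => rw [succ_nsmul, succ_nsmul, zhEquiv_add, ih]

/-- a section killed by `m` comes from the `m`-torsion subsheaf. -/
theorem exists_section_tors (V : X.Etale) (s : EtCoh.sect F V) (m : ℕ) (hs : m • s = 0) :
    ∃ t : EtCoh.sect (tors F m) V, ((torsι F m).hom.app (op V)).hom t = s := by
  let φ : Zh V ⟶ F := (zhEquiv V F).symm s
  have hφ : φ ≫ (m • 𝟙 F) = 0 := by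
    apply (zhEquiv V F).injective
    rw [Preadditive.comp_nsmul, Category.comp_id, zhEquiv_nsmul, zhEquiv_zero,
      Equiv.apply_symm_apply, hs]
  let ψ : Zh V ⟶ tors F m := kernel.lift _ φ hφ
  have hψ : ψ ≫ torsι F m = φ := kernel.lift_ι _ _ _
  refine ⟨zhEquiv V (tors F m) ψ, ?_⟩
  rw [← zhEquiv_comp, hψ, Equiv.apply_symm_apply]

theorem nonempty_isColimit_torsCocone (hF : EtCoh.IsTorsion F) :
    Nonempty (IsColimit (torsCocone F)) := by
  refine nonempty_isColimit (torsD F) (torsCocone F) (fun j => mono_torsι F _) ?_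
  intro U s x
  obtain ⟨V, g, ⟨v, hv⟩, hfin⟩ := hF U s x
  obtain ⟨k, hk, hks⟩ := isOfFinAddOrder_iff_nsmul_eq_zero.1 hfin
  have hks' : k.factorial • (F.obj.map g.op s) = 0 := by
    obtain ⟨d, hd⟩ := Nat.dvd_factorial hk le_rfl
    rw [hd, mul_nsmul, hks, nsmul_zero]
  obtain ⟨t, ht⟩ := exists_section_tors F V (F.obj.map g.op s) k.factorial hks'
  exact ⟨V, g, v, hv, ⟨k⟩, t, ht⟩

/-- on a qcqs scheme every cohomology class of a torsion sheaf comes from a torsion subsheaf. -/
theorem isAddTorsion_H [CompactSpace X] [QuasiSeparatedSpace X] (hF : EtCoh.IsTorsion F) (n : ℕ) :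
    IsAddTorsion (EtCoh.H X F n) := by
  obtain ⟨hc⟩ := nonempty_isColimit_torsCocone F hF
  haveI := Groth.Agent.Lib.Helper9.EtFp.preservesColimitsOfShape_HF X n (ULift.{u + 1} ℕ)
  have hc' := isColimitOfPreserves (EtCoh.HF X n) hc
  intro x
  obtain ⟨j, y, hy⟩ := Concrete.isColimit_exists_rep (torsD F ⋙ EtCoh.HF X n) hc' x
  have hy' : ((EtCoh.HF X n).map (torsι F (j.down).factorial)).hom y = x := hy
  rw [isOfFinAddOrder_iff_nsmul_eq_zero]
  refine ⟨(j.down).factorial, Nat.factorial_pos _, ?_⟩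
  rw [← hy']
  exact nsmul_map_eq_zero (torsι F (j.down).factorial) _ (nsmul_id_tors F _) n y

end Main

end Groth.Agent.Lib.Helper8EtTorsion
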