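import Groth.Agent.Lib.Helper8EtFpZh
import Groth.Agent.Lib.Helper8EtLTors
import Groth.Agent.Lib.Helper8EtRpushTors
import Groth.Agent.Lib.Helper8EtTorsion
import Groth.Agent.Lib.Helper8EtShriekConstr

/-!
# Torsion generators `j_! ℤ/n` of étale abelian sheaves (helper8)

* `hom_ext_affine`: morphisms of abelian étale sheaves are detected by `Zh V`, `V` affine.
* `Gn V n = j_! ℤ/n`, `πn : Zh V ⟶ Gn V n` (epi) and the factorisation property
  `exists_factor`: a map `σ : Zh V ⟶ F` with `n • σ = 0` factors through `πn`.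
-/

set_option autoImplicit false
set_option linter.style.haveILetI false
universe u
open CategoryTheory CategoryTheory.Limits AlgebraicGeometry Opposite

namespace Groth.Agent.Lib.Helper8EtTorsGen

open Groth.Agent.Lib.Helper9.EtMV Groth.Agent.Lib.Helper9.EtFp Groth.Agent.Lib.Helper9.EtFlasque
  Groth.Agent.Lib.Helper8EtLTors Groth.Agent.Lib.Helper8EtTorsion Groth.Agent.Lib.Helper8EtFpZh

variable {X : Scheme.{u}}

/-- morphisms of abelian étale sheaves are detected on `Zh V`, `V` affine étale. -/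
theorem hom_ext_affine {A B : EtCoh.Ab X} (h₁ h₂ : A ⟶ B)
    (H : ∀ (V : X.Etale), IsAffine V.left → ∀ σ : Zh V ⟶ A, σ ≫ h₁ = σ ≫ h₂) : h₁ = h₂ := by
  apply Sheaf.hom_ext
  ext ⟨U⟩ a
  apply eq_of_locally_eq B U
  intro x
  obtain ⟨W, k, w, hW, hw⟩ := Groth.Agent.Lib.Helper8EtRpushTors.exists_affine_nbhd U x
  refine ⟨W, k, ⟨w, hw⟩, ?_⟩
  have key : ∀ h : A ⟶ B, (B.obj.map k.op).hom ((h.hom.app (op U)).hom a) =
      (h.hom.app (op W)).hom ((A.obj.map k.op).hom a) := by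
    intro h
    have := congrArg (fun f => f.hom a) (h.hom.naturality k.op)
    exact this.symm
  rw [key h₁, key h₂]
  have h3 := H W hW ((zhEquiv W A).symm ((A.obj.map k.op).hom a))
  have h4 := congrArg (zhEquiv W B) h3
  rwa [zhEquiv_comp, zhEquiv_comp, Equiv.apply_symm_apply] at h4

section Gen

variable (V : X.Etale)

/-- `M ↦ j_! M` as a functor -/
noncomputable abbrev LV : AddCommGrpCat.{u + 1} ⥤ EtCoh.Ab X :=
  constantSheaf (X.smallEtaleTopology.over V) AddCommGrpCat.{u + 1} ⋙ EtPBC.extZero V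

/-- sections over `V` -/
noncomputable abbrev RV : EtCoh.Ab X ⥤ AddCommGrpCat.{u + 1} :=
  X.smallEtaleTopology.overPullback AddCommGrpCat.{u + 1} V ⋙
    (sheafSections (X.smallEtaleTopology.over V) AddCommGrpCat.{u + 1}).obj (op (Over.mk (𝟙 V)))

/-- the adjunction `j_! (const -) ⊣ Γ(V, -)` -/
noncomputable def adjV : LV V ⊣ RV V :=
  (constantSheafAdj (X.smallEtaleTopology.over V) AddCommGrpCat.{u + 1}
    (Over.mkIdTerminal (X := V))).comp (EtPBC.extZeroAdj V)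

lemma RV_obj (F : EtCoh.Ab X) : (RV V).obj F = F.obj.obj (op V) := rfl

lemma RV_map {F G : EtCoh.Ab X} (g : F ⟶ G) : (RV V).map g = g.hom.app (op V) := rfl

/-- `ℤ/n` in the right universe -/
noncomputable abbrev Zn (n : ℕ) : AddCommGrpCat.{u + 1} := AddCommGrpCat.of (ULift.{u + 1} (ZMod n))

/-- the generator `j_! ℤ/n` -/
noncomputable abbrev Gn (n : ℕ) : EtCoh.Ab X := EtPBC.extZeroConst V (ZMod n)

lemma Gn_eq (n : ℕ) : Gn V n = (LV V).obj (Zn n) := rfl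

/-- the canonical section `1` of `j_! ℤ/n` over `V` -/
noncomputable def one (n : ℕ) : (Gn V n).obj.obj (op V) :=
  ((adjV V).unit.app (Zn n)).hom ⟨1⟩

/-- the projection `ℤ[h_V] ⟶ j_! ℤ/n` -/
noncomputable def πn (n : ℕ) : Zh V ⟶ Gn V n := (zhEquiv V (Gn V n)).symm (one V n)

/-- the homomorphism `ℤ/n → A`, `1 ↦ a`, for `n • a = 0` -/
noncomputable def liftHom {A : AddCommGrpCat.{u + 1}} (n : ℕ) (a : A) (ha : n • a = 0) : Zn n ⟶ A :=
  AddCommGrpCat.ofHom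
    ((ZMod.lift n ⟨zmultiplesHom A a, by simpa using ha⟩).comp
      (AddEquiv.ulift : ULift.{u + 1} (ZMod n) ≃+ ZMod n).toAddMonoidHom)

lemma liftHom_one {A : AddCommGrpCat.{u + 1}} (n : ℕ) (a : A) (ha : n • a = 0) :
    (liftHom n a ha).hom ⟨1⟩ = a := by
  have h := ZMod.lift_coe n ⟨zmultiplesHom A a, by simpa using ha⟩ (1 : ℤ)
  simp only [Int.cast_one] at h
  have h2 : (liftHom n a ha).hom ⟨1⟩ =
      (ZMod.lift n ⟨zmultiplesHom A a, by simpa using ha⟩) (1 : ZMod n) := rfl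
  rw [h2, h]
  simp

lemma Zn_hom_ext {A : AddCommGrpCat.{u + 1}} (n : ℕ) (f g : Zn n ⟶ A)
    (h : f.hom ⟨1⟩ = g.hom ⟨1⟩) : f = g := by
  ext ⟨x⟩
  obtain ⟨k, rfl⟩ := ZMod.intCast_surjective x
  have e : (⟨(k : ZMod n)⟩ : ULift.{u + 1} (ZMod n)) = k • (⟨1⟩ : ULift.{u + 1} (ZMod n)) := by
    apply ULift.ext
    simp
  change f.hom ⟨(k : ZMod n)⟩ = g.hom ⟨(k : ZMod n)⟩
  rw [e, map_zsmul, map_zsmul, h]

lemma comp_eval (n : ℕ) {F : EtCoh.Ab X} (ψ : Gn V n ⟶ F) :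
    (ψ.hom.app (op V)).hom (one V n) = (((adjV V).homEquiv (Zn n) F) ψ).hom ⟨1⟩ := by
  rw [Adjunction.homEquiv_unit]
  rfl

lemma zhEquiv_πn_comp (n : ℕ) {F : EtCoh.Ab X} (ψ : Gn V n ⟶ F) :
    zhEquiv V F (πn V n ≫ ψ) = (((adjV V).homEquiv (Zn n) F) ψ).hom ⟨1⟩ := by
  rw [zhEquiv_comp, πn, Equiv.apply_symm_apply, comp_eval]

instance epi_πn (n : ℕ) : Epi (πn V n) := by
  constructor
  intro F ψ₁ ψ₂ h
  have h1 := congrArg (zhEquiv V F) h
  rw [zhEquiv_πn_comp, zhEquiv_πn_comp] at h1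
  exact ((adjV V).homEquiv (Zn n) F).injective (Zn_hom_ext n _ _ h1)

/-- factorisation of `n`-torsion maps through `πn` -/
theorem exists_factor (n : ℕ) {F : EtCoh.Ab X} (σ : Zh V ⟶ F) (h : n • σ = 0) :
    ∃ σ' : Gn V n ⟶ F, πn V n ≫ σ' = σ := by
  have ha : n • zhEquiv V F σ = 0 := by
    rw [← zhEquiv_nsmul, h, zhEquiv_zero]
  refine ⟨((adjV V).homEquiv (Zn n) F).symm (liftHom n (zhEquiv V F σ) ha), ?_⟩
  apply (zhEquiv V F).injective
  rw [zhEquiv_πn_comp, Equiv.apply_symm_apply, liftHom_one]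

lemma nsmul_one (n : ℕ) : n • one V n = 0 := by
  have h0 : n • (⟨1⟩ : ULift.{u + 1} (ZMod n)) = 0 := by
    apply ULift.ext
    simp
  have h1 := map_nsmul ((adjV V).unit.app (Zn n)).hom n (⟨1⟩ : ULift.{u + 1} (ZMod n))
  rw [h0, map_zero] at h1
  exact h1.symm

lemma nsmul_πn (n : ℕ) : n • πn V n = 0 := by
  apply (zhEquiv V (Gn V n)).injective
  rw [zhEquiv_nsmul, zhEquiv_zero, πn, Equiv.apply_symm_apply, nsmul_one]

theorem nsmul_id_Gn (n : ℕ) : n • 𝟙 (Gn V n) = 0 := by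
  rw [← cancel_epi (πn V n), Preadditive.comp_nsmul, Category.comp_id, nsmul_πn, comp_zero]

theorem killedBy_Gn (n : ℕ) : EtCoh.KilledBy n (Gn V n) := by
  intro U s
  rw [← nsmul_id_app, nsmul_id_Gn]
  rfl

theorem isConstructible_Gn [CompactSpace X] [QuasiSeparatedSpace X] (hV : fpProp X V)
    (n : ℕ) [NeZero n] : EtPBC.IsConstructible (Gn V n) := by
  haveI := hV.1
  haveI := hV.2
  exact Groth.Agent.Lib.Helper8EtShriekConstr.isConstructible_extZeroConst X V (ZMod n)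

end Gen

end Groth.Agent.Lib.Helper8EtTorsGen
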