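import Mathlib

/-!
# Locally constant functions extend uniquely from dense opens of locally irreducible spaces (helper8)
-/

set_option autoImplicit false

namespace Groth.Agent.Lib.Helper8LocConstDense

variable {P W : Type*} [TopologicalSpace P] [TopologicalSpace W] {T : Type*}

/-- a locally constant function on `W` is constant on the preimage of a preirreducible open set
under an open embedding `W → P` -/
lemma eq_of_mem_preirreducible (e : C(W, P)) (he : Topology.IsOpenEmbedding e)
    (t : LocallyConstant W T) {O : Set P} (hO : IsPreirreducible O)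
    {w w' : W} (hw : e w ∈ O) (hw' : e w' ∈ O) : t w = t w' := by
  have h1 : IsOpen (e '' (t ⁻¹' {t w})) :=
    he.isOpenMap _ (t.isLocallyConstant.isOpen_fiber _)
  have h2 : IsOpen (e '' (t ⁻¹' {t w'})) :=
    he.isOpenMap _ (t.isLocallyConstant.isOpen_fiber _)
  obtain ⟨q, -, ⟨a, ha, rfl⟩, ⟨b, hb, hab⟩⟩ := hO _ _ h1 h2 ⟨e w, hw, w, rfl, rfl⟩
    ⟨e w', hw', w', rfl, rfl⟩
  have hba : b = a := he.injective hab
  subst hba
  exact ha.symm.trans hb

theorem comap_injective_of_denseRange (e : C(W, P)) (hd : DenseRange e) :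
    Function.Injective (LocallyConstant.comap e : LocallyConstant P T → LocallyConstant W T) := by
  intro s s' hss
  apply LocallyConstant.ext
  intro p
  have hopen : IsOpen (s ⁻¹' {s p} ∩ s' ⁻¹' {s' p}) :=
    (s.isLocallyConstant.isOpen_fiber _).inter (s'.isLocallyConstant.isOpen_fiber _)
  obtain ⟨w, hw⟩ := hd.exists_mem_open hopen ⟨p, rfl, rfl⟩
  have h1 : s (e w) = s p := hw.1
  have h2 : s' (e w) = s' p := hw.2
  have h3 : s (e w) = s' (e w) := congrArg (fun f : LocallyConstant W T => f w) hss
  rw [← h1, ← h2, h3]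

theorem comap_surjective_of_denseRange (e : C(W, P)) (he : Topology.IsOpenEmbedding e)
    (hd : DenseRange e)
    (hP : ∀ p : P, ∃ O : Set P, IsOpen O ∧ p ∈ O ∧ IsPreirreducible O) :
    Function.Surjective (LocallyConstant.comap e : LocallyConstant P T → LocallyConstant W T) := by
  intro t
  choose O hOo hpO hOi using hP
  have hw : ∀ p : P, ∃ w : W, e w ∈ O p := fun p => hd.exists_mem_open (hOo p) ⟨p, hpO p⟩
  choose w hw using hw
  have key : ∀ p p' : P, p' ∈ O p → t (w p') = t (w p) := by
    intro p p' hp'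
    obtain ⟨w'', hw''⟩ := hd.exists_mem_open ((hOo p).inter (hOo p')) ⟨p', hp', hpO p'⟩
    rw [eq_of_mem_preirreducible e he t (hOi p') (hw p') hw''.2,
      eq_of_mem_preirreducible e he t (hOi p) (hw p) hw''.1]
  have hlc : IsLocallyConstant (fun p => t (w p)) := by
    rw [IsLocallyConstant.iff_exists_open]
    intro p
    exact ⟨O p, hOo p, hpO p, fun p' hp' => key p p' hp'⟩
  refine ⟨⟨fun p => t (w p), hlc⟩, ?_⟩
  apply LocallyConstant.ext
  intro v
  change t (w (e v)) = t v
  exact eq_of_mem_preirreducible e he t (hOi (e v)) (hw (e v)) (hpO (e v))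

theorem comap_bijective_of_denseRange (e : C(W, P)) (he : Topology.IsOpenEmbedding e)
    (hd : DenseRange e)
    (hP : ∀ p : P, ∃ O : Set P, IsOpen O ∧ p ∈ O ∧ IsPreirreducible O) :
    Function.Bijective (LocallyConstant.comap e : LocallyConstant P T → LocallyConstant W T) :=
  ⟨comap_injective_of_denseRange e hd, comap_surjective_of_denseRange e he hd hP⟩

/-- variant for arbitrary continuous maps with dense range: it suffices that every point of `P`
has an open neighbourhood with preconnected preimage -/
theorem comap_surjective_of_denseRange' (e : C(W, P)) (hd : DenseRange e)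
    (hP : ∀ p : P, ∃ O : Set P, IsOpen O ∧ p ∈ O ∧ IsPreconnected (e ⁻¹' O)) :
    Function.Surjective (LocallyConstant.comap e : LocallyConstant P T → LocallyConstant W T) := by
  intro t
  choose O hOo hpO hOi using hP
  have hw : ∀ p : P, ∃ w : W, e w ∈ O p := fun p => hd.exists_mem_open (hOo p) ⟨p, hpO p⟩
  choose w hw using hw
  have hc : ∀ (p : P) {v v' : W}, e v ∈ O p → e v' ∈ O p → t v = t v' := fun p v v' hv hv' =>
    t.isLocallyConstant.apply_eq_of_isPreconnected (hOi p) hv hv'
  have key : ∀ p p' : P, p' ∈ O p → t (w p') = t (w p) := by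
    intro p p' hp'
    obtain ⟨w'', hw''⟩ := hd.exists_mem_open ((hOo p).inter (hOo p')) ⟨p', hp', hpO p'⟩
    rw [hc p' (hw p') hw''.2, hc p (hw p) hw''.1]
  have hlc : IsLocallyConstant (fun p => t (w p)) := by
    rw [IsLocallyConstant.iff_exists_open]
    intro p
    exact ⟨O p, hOo p, hpO p, fun p' hp' => key p p' hp'⟩
  refine ⟨⟨fun p => t (w p), hlc⟩, ?_⟩
  apply LocallyConstant.ext
  intro v
  change t (w (e v)) = t v
  exact hc (e v) (hw (e v)) (hpO (e v))

theorem comap_bijective_of_denseRange' (e : C(W, P)) (hd : DenseRange e)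
    (hP : ∀ p : P, ∃ O : Set P, IsOpen O ∧ p ∈ O ∧ IsPreconnected (e ⁻¹' O)) :
    Function.Bijective (LocallyConstant.comap e : LocallyConstant P T → LocallyConstant W T) :=
  ⟨comap_injective_of_denseRange e hd, comap_surjective_of_denseRange' e hd hP⟩

end Groth.Agent.Lib.Helper8LocConstDense
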