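import Groth.Agent.Lib.Helper8EtLocConst
import Groth.Agent.Lib.Helper8LocConstDense
import Groth.Agent.Lib.Helper8EtLocIrr
import Groth.Agent.Lib.Helper9EtPull

/-!
# The unit `M → j_* j^* M` for the constant sheaf on a normal integral scheme (helper8)
-/

set_option autoImplicit false
universe u
open CategoryTheory CategoryTheory.Limits AlgebraicGeometry Opposite

namespace Groth.Agent.Lib.Helper8EtUnitConst

open Groth.Agent.Lib.Helper8EtLocConst Groth.Agent.Lib.Helper9.EtPull Groth.Agent.S0651
open Groth.Agent.Lib.Helper8LocConstDense Groth.Agent.Lib.Helper8EtLocIrr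

/-- the preimage of a nonempty open of an irreducible scheme under an open map is dense -/
lemma denseRange_fst {X P : Scheme.{u}} [IrreducibleSpace X] (f : P ⟶ X) (hf : IsOpenMap f)
    (U : X.Opens) (hU : (U : Set X).Nonempty) : DenseRange (pullback.fst f U.ι) := by
  rw [DenseRange, Scheme.Pullback.range_fst, Scheme.Opens.range_ι, dense_iff_inter_open]
  intro O hO hOne
  obtain ⟨x, hx1, hx2⟩ := nonempty_preirreducible_inter (hf O hO) U.isOpen (hOne.image f) hU
  obtain ⟨p, hp, rfl⟩ := hx1
  exact ⟨p, hp, hx2⟩

theorem bijective_comap_fst {X P : Scheme.{u}} [IsIntegral X] (hN : Pi1.IsNormalScheme X)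
    (U : X.Opens) (hU : (U : Set X).Nonempty) (T : Type*) (f : P ⟶ X) [Etale f] :
    Function.Bijective (LocallyConstant.comap (pullback.fst f U.ι).base.hom :
      LocallyConstant P T → LocallyConstant _ T) := by
  apply comap_bijective_of_denseRange
  · exact (pullback.fst f U.ι).isOpenEmbedding
  · exact denseRange_fst f f.isOpenMap U hU
  · intro p
    exact exists_irreducible_open_nhd hN f p

set_option backward.isDefEq.respectTransparency.types false in
theorem bijective_comap_counit {X : Scheme.{u}} [IsIntegral X] (hN : Pi1.IsNormalScheme X)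
    (U : X.Opens) (hU : (U : Set X).Nonempty) (T : Type*) (P : X.Etale) :
    Function.Bijective (LocallyConstant.comap (cmap ((compBcAdj U.ι).counit.app P)) :
      LocallyConstant P.left T → LocallyConstant _ T) := by
  haveI : Etale P.hom := P.prop
  exact bijective_comap_fst hN U hU T P.hom

set_option backward.isDefEq.respectTransparency.types false in
theorem isIso_restrUnit_lc {X : Scheme.{u}} [IsIntegral X] (hN : Pi1.IsNormalScheme X)
    (U : X.Opens) (hU : (U : Set X).Nonempty) (A : AddCommGrpCat.{u + 1}) :
    IsIso ((restrPushAdj U.ι).unit.app (lcSh X A)) := by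
  have h1 : IsIso ((sheafToPresheaf _ _).map ((restrPushAdj U.ι).unit.app (lcSh X A))) := by
    apply (config := { allowSynthFailures := true }) NatIso.isIso_of_isIso_app
    intro V
    change IsIso (((restrPushAdj U.ι).unit.app (lcSh X A)).hom.app V)
    obtain ⟨P⟩ := V
    rw [restrPushAdj_unit_app_hom_app]
    rw [ConcreteCategory.isIso_iff_bijective]
    exact bijective_comap_counit hN U hU A P
  exact isIso_of_reflects_iso _ (sheafToPresheaf _ _)

theorem isIso_restrUnit_const {X : Scheme.{u}} [IsIntegral X] (hN : Pi1.IsNormalScheme X)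
    (U : X.Opens) (hU : (U : Set X).Nonempty) (A : AddCommGrpCat.{u + 1}) :
    IsIso ((restrPushAdj U.ι).unit.app
      ((constantSheaf X.smallEtaleTopology AddCommGrpCat.{u + 1}).obj A)) := by
  have hnat := (restrPushAdj U.ι).unit.naturality (constIsoLc X A).hom
  haveI := isIso_restrUnit_lc hN U hU A
  have h2 : (restrPushAdj U.ι).unit.app
      ((constantSheaf X.smallEtaleTopology AddCommGrpCat.{u + 1}).obj A) =
      (constIsoLc X A).hom ≫ (restrPushAdj U.ι).unit.app (lcSh X A) ≫
        inv ((EtShriek.restrAlong U.ι ⋙ EtCoh.push U.ι).map (constIsoLc X A).hom) := by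
    rw [← Category.assoc, IsIso.eq_comp_inv]
    exact hnat.symm
  rw [h2]
  infer_instance

theorem isIso_unit_const {X : Scheme.{u}} [IsIntegral X] (hN : Pi1.IsNormalScheme X)
    (U : X.Opens) (hU : (U : Set X).Nonempty) (A : AddCommGrpCat.{u + 1}) :
    IsIso ((EtCoh.pullPushAdj U.ι).unit.app
      ((constantSheaf X.smallEtaleTopology AddCommGrpCat.{u + 1}).obj A)) := by
  have h3 := unit_rho U.ι ((constantSheaf X.smallEtaleTopology AddCommGrpCat.{u + 1}).obj A)
  haveI := isIso_restrUnit_const hN U hU A
  haveI : IsIso ((EtCoh.pullPushAdj U.ι).unit.app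
      ((constantSheaf X.smallEtaleTopology AddCommGrpCat.{u + 1}).obj A) ≫
      (EtCoh.push U.ι).map ((rho U.ι).hom.app
        ((constantSheaf X.smallEtaleTopology AddCommGrpCat.{u + 1}).obj A))) := by
    rw [h3]
    infer_instance
  exact IsIso.of_isIso_comp_right _ ((EtCoh.push U.ι).map ((rho U.ι).hom.app
        ((constantSheaf X.smallEtaleTopology AddCommGrpCat.{u + 1}).obj A)))

end Groth.Agent.Lib.Helper8EtUnitConst
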