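import Groth.Agent.Lib.Helper8EtLcPull
import Groth.Agent.Lib.Helper8LocConstDense
import Groth.Agent.Lib.Helper8EtLocIrr

/-!
# The unit `M → g_* g^* M` for the generic point of a normal integral scheme (helper8)
-/

set_option autoImplicit false
universe u
open CategoryTheory CategoryTheory.Limits AlgebraicGeometry Opposite

namespace Groth.Agent.Lib.Helper8EtUnitConstGen

open Groth.Agent.Lib.Helper8EtLocConst Groth.Agent.Lib.Helper8EtLcPull
open Groth.Agent.Lib.Helper8LocConstDense Groth.Agent.Lib.Helper8EtLocIrr

/-- criterion: the unit on a constant sheaf is an isomorphism if pulling back locally constant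
functions along all the projections `P ×_X T → P` is bijective -/
theorem isIso_unit_of_bijective {T X : Scheme.{u}} (f : T ⟶ X) (A : AddCommGrpCat.{u + 1})
    (h : ∀ P : X.Etale, Function.Bijective (LocallyConstant.comap (prj f P) :
      LocallyConstant P.left A → LocallyConstant _ A)) :
    IsIso ((EtCoh.pullPushAdj f).unit.app
      ((constantSheaf X.smallEtaleTopology AddCommGrpCat.{u + 1}).obj A)) := by
  haveI h1 : IsIso (lcPull f A) := by
    have : IsIso ((sheafToPresheaf _ _).map (lcPull f A)) := by
      apply (config := { allowSynthFailures := true }) NatIso.isIso_of_isIso_app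
      intro V
      obtain ⟨P⟩ := V
      change IsIso ((lcPull f A).hom.app (op P))
      rw [ConcreteCategory.isIso_iff_bijective]
      exact h P
    exact isIso_of_reflects_iso _ (sheafToPresheaf _ _)
  have h2 := unit_lcPull f A
  haveI : IsIso ((EtCoh.pullPushAdj f).unit.app
      ((constantSheaf X.smallEtaleTopology AddCommGrpCat.{u + 1}).obj A) ≫
      (EtCoh.push f).map (psi f A)) := by
    rw [h2]
    infer_instance
  exact IsIso.of_isIso_comp_right _ ((EtCoh.push f).map (psi f A))

lemma range_fromSpecStalk_genericPoint (X : Scheme.{u}) [IrreducibleSpace X] :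
    Set.range (X.fromSpecStalk (genericPoint X)) = {genericPoint X} := by
  rw [Scheme.range_fromSpecStalk]
  ext y
  simp only [Set.mem_ofPred_eq, Set.mem_singleton_iff]
  constructor
  · intro hy
    have h2 : genericPoint X ⤳ y := (genericPoint_spec X).specializes trivial
    exact (hy.antisymm h2).eq
  · rintro rfl
    exact specializes_rfl

theorem bijective_comap_fst_generic {X P : Scheme.{u}} [IsIntegral X]
    (hN : Pi1.IsNormalScheme X) (T : Type*) (f : P ⟶ X) [Etale f] :
    Function.Bijective (LocallyConstant.comap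
      (pullback.fst f (X.fromSpecStalk (genericPoint X))).base.hom :
      LocallyConstant P T → LocallyConstant _ T) := by
  have hrange : Set.range (pullback.fst f (X.fromSpecStalk (genericPoint X))) =
      f ⁻¹' {genericPoint X} := by
    rw [Scheme.Pullback.range_fst, range_fromSpecStalk_genericPoint]
  -- points over the generic point in nonempty opens
  have hex : ∀ O : Set P, IsOpen O → O.Nonempty → ∃ p ∈ O, f p = genericPoint X := by
    intro O hO hOne
    have h1 : IsOpen (f '' O) := f.isOpenMap O hO
    have h2 : genericPoint X ∈ f '' O :=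
      ((genericPoint_spec X).mem_open_set_iff h1).2 (by
        rw [Set.univ_inter]
        exact hOne.image f)
    obtain ⟨p, hp, hpx⟩ := h2
    exact ⟨p, hp, hpx⟩
  haveI := locallyQuasiFinite_of_etale f
  have hdisc := Scheme.Hom.isDiscrete_preimage_singleton f (genericPoint X)
  rw [isDiscrete_iff_forall_mem_exists_isOpen] at hdisc
  apply comap_bijective_of_denseRange'
  · rw [DenseRange, dense_iff_inter_open]
    intro O hO hOne
    obtain ⟨p, hp, hpx⟩ := hex O hO hOne
    refine ⟨p, hp, ?_⟩
    change p ∈ Set.range (pullback.fst f (X.fromSpecStalk (genericPoint X)))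
    rw [hrange]
    exact hpx
  · intro p
    obtain ⟨O, hO, hpO, hirr⟩ := exists_irreducible_open_nhd hN f p
    refine ⟨O, hO, hpO, Set.Subsingleton.isPreconnected ?_⟩
    intro w hw w' hw'
    have hinj : Function.Injective (pullback.fst f (X.fromSpecStalk (genericPoint X))) :=
      (pullback.fst f (X.fromSpecStalk (genericPoint X))).isEmbedding.injective
    apply hinj
    have hq : ∀ v, pullback.fst f (X.fromSpecStalk (genericPoint X)) v ∈
        f ⁻¹' {genericPoint X} := by
      intro v
      rw [← hrange]
      exact ⟨v, rfl⟩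
    obtain ⟨N, hN1, hN2⟩ := hdisc _ (hq w)
    obtain ⟨N', hN1', hN2'⟩ := hdisc _ (hq w')
    have hwN : pullback.fst f (X.fromSpecStalk (genericPoint X)) w ∈ N := by
      have : pullback.fst f (X.fromSpecStalk (genericPoint X)) w ∈
          N ∩ f ⁻¹' {genericPoint X} := by rw [hN2]; rfl
      exact this.1
    have hwN' : pullback.fst f (X.fromSpecStalk (genericPoint X)) w' ∈ N' := by
      have : pullback.fst f (X.fromSpecStalk (genericPoint X)) w' ∈
          N' ∩ f ⁻¹' {genericPoint X} := by rw [hN2']; rfl
      exact this.1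
    obtain ⟨q, hqO, hqN, hqN'⟩ := hirr N N' hN1 hN1' ⟨_, hw, hwN⟩ ⟨_, hw', hwN'⟩
    obtain ⟨r, hr, hrx⟩ := hex (O ∩ (N ∩ N')) (hO.inter (hN1.inter hN1')) ⟨q, hqO, hqN, hqN'⟩
    have e1 : r ∈ N ∩ f ⁻¹' {genericPoint X} := ⟨hr.2.1, hrx⟩
    have e2 : r ∈ N' ∩ f ⁻¹' {genericPoint X} := ⟨hr.2.2, hrx⟩
    rw [hN2] at e1
    rw [hN2'] at e2
    exact e1.symm.trans e2

set_option backward.isDefEq.respectTransparency.types false in
theorem isIso_unit_const_generic {X : Scheme.{u}} [IsIntegral X] (hN : Pi1.IsNormalScheme X)
    (A : AddCommGrpCat.{u + 1}) :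
    IsIso ((EtCoh.pullPushAdj (X.fromSpecStalk (genericPoint X))).unit.app
      ((constantSheaf X.smallEtaleTopology AddCommGrpCat.{u + 1}).obj A)) := by
  apply isIso_unit_of_bijective
  intro P
  haveI : Etale P.hom := P.prop
  exact bijective_comap_fst_generic hN A P.hom

end Groth.Agent.Lib.Helper8EtUnitConstGen
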