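import Mathlib
import Groth.Agent.Lib.Helper4RatExt
import Groth.Agent.Lib.Helper6SmNorm

/-!
Helper library (helper8): a rational map from a scheme `X` to a scheme `Y` satisfying the existence
part of the valuative criterion extends over every point whose local ring is a valuation ring; the
global extension is packaged with Mathlib's `RationalMap.domain`.  Applied to smooth schemes over a
Dedekind domain (normal, so local rings of dimension `≤ 1` are valuation rings).
-/

set_option autoImplicit false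
set_option linter.style.haveILetI false
universe u

open AlgebraicGeometry CategoryTheory

namespace Groth.Agent.Lib.Helper8RatCodim2

open Groth.Agent.Lib.Helper4.RatExt

set_option backward.isDefEq.respectTransparency false in
/-- Local extension of a rational map at a point whose local ring is a valuation ring. -/
theorem exists_local_extension {X Y S : Scheme.{u}} (p : X ⟶ S) (q : Y ⟶ S)
    [IsSeparated q] [LocallyOfFiniteType q] (hval : ValuativeCriterion.Existence q)
    (x : X) [X.IsGermInjectiveAt x] [IsDomain (X.presheaf.stalk x)]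
    [ValuationRing (X.presheaf.stalk x)]
    (U : X.Opens) (hU : Dense (U : Set X)) (f : U.toScheme ⟶ Y) (hf : f ≫ q = U.ι ≫ p) :
    ∃ (U' : X.Opens) (hUU' : U ≤ U') (_ : x ∈ U') (f' : U'.toScheme ⟶ Y),
      f' ≫ q = U'.ι ≫ p ∧ X.homOfLE hUU' ≫ f' = f := by
  have hξ := genericHom_mem x U (hU.closure_eq ▸ Set.mem_univ x)
  let jU : Spec (CommRingCat.of (FractionRing (X.presheaf.stalk x))) ⟶ U.toScheme :=
    IsOpenImmersion.lift U.ι (genericHom X x) (range_genericHom_subset x U hξ)
  have hjU : jU ≫ U.ι = genericHom X x := IsOpenImmersion.lift_fac _ _ _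
  let Sq : ValuativeCommSq q :=
    { R := X.presheaf.stalk x
      K := FractionRing (X.presheaf.stalk x)
      i₁ := jU ≫ f
      i₂ := X.fromSpecStalk x ≫ p
      commSq := ⟨by rw [Category.assoc, hf, ← Category.assoc, hjU, Category.assoc]⟩ }
  obtain ⟨⟨l, hl1, hl2⟩⟩ := (hval Sq).exists_lift
  obtain ⟨U', hUU', hxU', f', hf', hres, -⟩ :=
    exists_extension_of_stalk_lift p q x U f hf jU hjU l hl2 hl1
  exact ⟨U', hUU', hxU', f', hf', hres⟩

/-- Global extension: a rational `S`-map `X ⇢ Y` (with `Y → S` separated, locally of finite type and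
satisfying the existence part of the valuative criterion) extends to an open subscheme containing
all points whose local ring is a valuation ring (and which are germ-injective). -/
theorem exists_extension {X Y S : Scheme.{u}} (p : X ⟶ S) (q : Y ⟶ S)
    [IsSeparated q] [LocallyOfFiniteType q] (hval : ValuativeCriterion.Existence q)
    [IsReduced X] [Y.IsSeparated] [S.IsSeparated]
    (P : X → Prop)
    (hP : ∀ x, P x → X.IsGermInjectiveAt x ∧
      ∃ (_ : IsDomain (X.presheaf.stalk x)), ValuationRing (X.presheaf.stalk x))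
    (U : X.Opens) (hU : Dense (U : Set X)) (f : U.toScheme ⟶ Y) (hf : f ≫ q = U.ι ≫ p) :
    ∃ (V : X.Opens) (hUV : U ≤ V) (g : V.toScheme ⟶ Y),
      g ≫ q = V.ι ≫ p ∧ X.homOfLE hUV ≫ g = f ∧ ∀ x, P x → x ∈ V := by
  letI : X.Over S := ⟨p⟩
  letI : Y.Over S := ⟨q⟩
  let φ : X.PartialMap Y := ⟨U, hU, f⟩
  haveI : φ.IsOver S := ⟨hf⟩
  refine ⟨φ.toRationalMap.domain, φ.le_domain_toRationalMap, φ.toRationalMap.toPartialMap.hom,
    ?_, ?_, ?_⟩
  · have h : φ.toRationalMap.toPartialMap.IsOver S := inferInstance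
    exact h.comp_over
  · exact φ.toPartialMap_toRationalMap_restrict
  · intro x hx
    obtain ⟨hgi, hd, hv⟩ := hP x hx
    obtain ⟨U', hUU', hxU', f', hf', hres⟩ := exists_local_extension p q hval x U hU f hf
    rw [Scheme.RationalMap.mem_domain]
    refine ⟨⟨U', hU.mono hUU', f'⟩, hxU', ?_⟩
    rw [Scheme.PartialMap.toRationalMap_eq_iff]
    refine ⟨U, hU, hUU', le_rfl, ?_⟩
    simp only [Scheme.PartialMap.restrict_hom]
    rw [hres]
    simp [φ]

lemma le_one_of_not_two_le (d : WithBot ℕ∞) (h : ¬ (2 : WithBot ℕ∞) ≤ d) : d ≤ 1 := by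
  induction d with
  | bot => exact bot_le
  | coe n =>
    induction n with
    | top => exact absurd le_top h
    | coe m =>
      have h2 : ¬ (2 : ℕ) ≤ m := by
        intro hm
        apply h
        have : ((2 : ℕ) : WithBot ℕ∞) ≤ ((m : ℕ) : WithBot ℕ∞) := Nat.cast_le.mpr hm
        simpa using this
      have h3 : m ≤ 1 := by omega
      have : ((m : ℕ) : WithBot ℕ∞) ≤ ((1 : ℕ) : WithBot ℕ∞) := Nat.cast_le.mpr h3
      simpa using this

/-- A Noetherian integrally closed local domain of Krull dimension `≤ 1` is a valuation ring. -/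
theorem valuationRing_of_dim_le_one (A : Type*) [CommRing A] [IsDomain A] [IsLocalRing A]
    [IsNoetherianRing A] [IsIntegrallyClosed A] (h : ¬ (2 : WithBot ℕ∞) ≤ ringKrullDim A) :
    ValuationRing A := by
  have h1 : ringKrullDim A ≤ 1 := le_one_of_not_two_le _ h
  haveI : Ring.KrullDimLE 1 A := Ring.krullDimLE_iff.mpr (by exact_mod_cast h1)
  apply ((tfae_of_isNoetherianRing_of_isLocalRing_of_isDomain A).out 3 1).mp
  refine ⟨inferInstance, fun P hP hPp => ?_⟩
  exact IsLocalRing.eq_maximalIdeal (hPp.isMaximal_of_ne_bot hP)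

/-- Local rings of a smooth scheme over an integrally closed domain are integrally closed domains. -/
theorem stalk_normal_of_smooth {R : Type u} [CommRing R] [IsDomain R] [IsIntegrallyClosed R]
    {X : Scheme.{u}} (pX : X ⟶ Spec (CommRingCat.of R)) [Smooth pX] (x : X) :
    IsDomain (X.presheaf.stalk x) ∧ IsIntegrallyClosed (X.presheaf.stalk x) := by
  obtain ⟨_, ⟨W, hW, rfl⟩, hxW, -⟩ :=
    X.isBasis_affineOpens.exists_subset_of_mem_open (Set.mem_univ x) isOpen_univ
  have hsm : (pX.appLE ⊤ W le_top).hom.Smooth :=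
    HasRingHomProperty.appLE (P := @Smooth) pX inferInstance ⟨⊤, isAffineOpen_top _⟩ ⟨W, hW⟩ le_top
  algebraize [(pX.appLE ⊤ W le_top).hom]
  let e0 : Γ(Spec (CommRingCat.of R), ⊤) ≃+* R :=
    (Scheme.ΓSpecIso (CommRingCat.of R)).commRingCatIsoToRingEquiv
  haveI : IsDomain Γ(Spec (CommRingCat.of R), ⊤) := e0.toMulEquiv.isDomain _
  haveI : IsIntegrallyClosed Γ(Spec (CommRingCat.of R), ⊤) := IsIntegrallyClosed.of_equiv e0.symm
  have hA : EGA4.IsNormalRing Γ(Spec (CommRingCat.of R), ⊤) := by
    intro Q hQ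
    exact ⟨inferInstance, isIntegrallyClosed_of_isLocalization
      (R := Γ(Spec (CommRingCat.of R), ⊤)) (Localization.AtPrime Q)
      Q.primeCompl Q.primeCompl_le_nonZeroDivisors⟩
  have hN := Groth.Agent.Lib.Helper6.SmNorm.isNormalRing_of_smooth
    Γ(Spec (CommRingCat.of R), ⊤) Γ(X, W) hA
  let _ := TopCat.Presheaf.algebra_section_stalk X.presheaf (⟨x, hxW⟩ : W)
  have hloc := hW.isLocalization_stalk ⟨x, hxW⟩
  obtain ⟨hd, hic⟩ := hN (hW.primeIdealOf ⟨x, hxW⟩).asIdeal
  let e := IsLocalization.algEquiv (hW.primeIdealOf ⟨x, hxW⟩).asIdeal.primeCompl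
    (X.presheaf.stalk x) (Localization.AtPrime (hW.primeIdealOf ⟨x, hxW⟩).asIdeal)
  exact ⟨e.toMulEquiv.isDomain _, IsIntegrallyClosed.of_equiv e.symm.toRingEquiv⟩

end Groth.Agent.Lib.Helper8RatCodim2
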