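import Groth.Agent.Lib.Helper8EtUnitConstGen
import Groth.Agent.Lib.Helper8RatCodim2
import Groth.Agent.Lib.Helper12EmbeddingDescent

/-!
# The unit `M → j_* j^* M` for a dense quasi-compact open immersion into a normal scheme (helper8)

No integrality / local irreducibility assumption: the argument uses least generizations.
-/

set_option autoImplicit false
universe u
open CategoryTheory CategoryTheory.Limits AlgebraicGeometry Opposite

namespace Groth.Agent.Lib.Helper8EtUnitConstNormal

open Groth.Agent.Lib.Helper8EtLocConst Groth.Agent.Lib.Helper8EtLcPull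
open Groth.Agent.Lib.Helper8LocConstDense

section Top

variable {V P : Type*} [TopologicalSpace V] [TopologicalSpace P] {T : Type*}

/-- Locally constant functions extend uniquely along a dense open embedding `j : V → P` when every
point of `P` has a least generization and closures of images of closed sets of `V` consist of
specializations. -/
theorem comap_surjective_of_least_generization (j : C(V, P)) (hj : Topology.IsOpenEmbedding j)
    (H1 : ∀ p : P, ∃ ξ : P, ξ ⤳ p ∧ ∀ y : P, y ⤳ p → ξ ⤳ y)
    (H2 : ∀ Z : Set V, IsClosed Z → ∀ q ∈ closure (j '' Z), ∃ x ∈ Z, j x ⤳ q)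
    (H3 : Dense (Set.range j)) :
    Function.Surjective (LocallyConstant.comap j : LocallyConstant P T → LocallyConstant V T) := by
  intro s
  choose ξ hξ1 hξ2 using H1
  have hξmem : ∀ p, ξ p ∈ Set.range j := by
    intro p
    have hp : p ∈ closure (j '' Set.univ) := by
      rw [Set.image_univ, H3.closure_eq]
      trivial
    obtain ⟨x, -, hx⟩ := H2 Set.univ isClosed_univ p hp
    exact (hξ2 p _ hx).mem_open hj.isOpen_range ⟨x, rfl⟩
  choose v hv using hξmem
  -- key: if `j x ⤳ q` then `v q ⤳ x`
  have hkey : ∀ (q : P) (x : V), j x ⤳ q → v q ⤳ x := by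
    intro q x hx
    have h1 : ξ q ⤳ j x := hξ2 q _ hx
    rw [← hv q] at h1
    exact hj.toIsEmbedding.toIsInducing.specializes_iff.1 h1
  have hlc : IsLocallyConstant (fun p => s (v p)) := by
    rw [IsLocallyConstant.iff_exists_open]
    intro p
    have hA : IsOpen (s ⁻¹' {s (v p)}) := s.isLocallyConstant.isOpen_fiber _
    have hB : IsClosed (s ⁻¹' {s (v p)}) := s.isLocallyConstant.isClosed_fiber _
    have hBc : IsClosed (s ⁻¹' {s (v p)})ᶜ := hA.isClosed_compl
    have hBo : IsOpen (s ⁻¹' {s (v p)})ᶜ := hB.isOpen_compl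
    refine ⟨(closure (j '' (s ⁻¹' {s (v p)})ᶜ))ᶜ, isClosed_closure.isOpen_compl, ?_, ?_⟩
    · -- `p` is in the closure of `j '' A` and the two closures are disjoint
      intro hpB
      obtain ⟨x', hx'B, hx'⟩ := H2 _ hBc p hpB
      have h2 : v p ⤳ x' := hkey p x' hx'
      exact (h2.mem_open hBo hx'B) rfl
    · intro q hq
      by_contra hne
      apply hq
      have h3 : ξ q ∈ closure (j '' (s ⁻¹' {s (v p)})ᶜ) :=
        subset_closure ⟨v q, hne, hv q⟩
      exact (hξ1 q).mem_closed isClosed_closure h3
  refine ⟨⟨fun p => s (v p), hlc⟩, ?_⟩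
  ext x
  rw [LocallyConstant.coe_comap_apply]
  change s (v (j x)) = s x
  have h4 : v (j x) ⤳ x := hkey (j x) x specializes_rfl
  exact h4.mem_open (s.isLocallyConstant.isOpen_fiber (s x)) rfl

theorem comap_bijective_of_least_generization (j : C(V, P)) (hj : Topology.IsOpenEmbedding j)
    (H1 : ∀ p : P, ∃ ξ : P, ξ ⤳ p ∧ ∀ y : P, y ⤳ p → ξ ⤳ y)
    (H2 : ∀ Z : Set V, IsClosed Z → ∀ q ∈ closure (j '' Z), ∃ x ∈ Z, j x ⤳ q)
    (H3 : Dense (Set.range j)) :
    Function.Bijective (LocallyConstant.comap j : LocallyConstant P T → LocallyConstant V T) :=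
  ⟨comap_injective_of_denseRange j H3, comap_surjective_of_least_generization j hj H1 H2 H3⟩

end Top

/-- a point of a scheme whose local ring is a domain has a least generization -/
theorem exists_least_generization_of_isDomain {P : Scheme.{u}} (p : P)
    [IsDomain (P.presheaf.stalk p)] : ∃ ξ : P, ξ ⤳ p ∧ ∀ y : P, y ⤳ p → ξ ⤳ y := by
  refine ⟨P.fromSpecStalk p ⟨⊥, Ideal.isPrime_bot⟩, ?_, ?_⟩
  · have : P.fromSpecStalk p ⟨⊥, Ideal.isPrime_bot⟩ ∈ Set.range (P.fromSpecStalk p) := ⟨_, rfl⟩
    rw [Scheme.range_fromSpecStalk] at this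
    exact this
  · intro y hy
    have : y ∈ Set.range (P.fromSpecStalk p) := by
      rw [Scheme.range_fromSpecStalk]
      exact hy
    obtain ⟨b, rfl⟩ := this
    apply Specializes.map _ (P.fromSpecStalk p).continuous
    have h1 : (⟨⊥, Ideal.isPrime_bot⟩ : PrimeSpectrum (P.presheaf.stalk p)) ⤳
        (show PrimeSpectrum (P.presheaf.stalk p) from b) :=
      (PrimeSpectrum.le_iff_specializes _ _).1 (show (⊥ : Ideal _) ≤ _ from bot_le)
    exact h1

/-- every point of a scheme étale over a normal scheme has a least generization -/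
theorem exists_least_generization_of_etale {P X : Scheme.{u}} (hX : Pi1.IsNormalScheme X)
    (f : P ⟶ X) [Etale f] (p : P) : ∃ ξ : P, ξ ⤳ p ∧ ∀ y : P, y ⤳ p → ξ ⤳ y := by
  haveI : IsDomain (X.presheaf.stalk (f p)) := (hX (f p)).1
  haveI : IsIntegrallyClosed (X.presheaf.stalk (f p)) := (hX (f p)).2
  obtain ⟨g, hg⟩ : ∃ g : Spec (CommRingCat.of (X.presheaf.stalk (f p))) ⟶ X,
      g = X.fromSpecStalk (f p) := ⟨_, rfl⟩
  haveI : IsPreimmersion g := by rw [hg]; infer_instance
  have hrange : Set.range g = {y | y ⤳ f p} := by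
    rw [hg]
    exact Scheme.range_fromSpecStalk
  have hcl : g (IsLocalRing.closedPoint (X.presheaf.stalk (f p))) = f p := by
    rw [hg]
    exact Scheme.fromSpecStalk_closedPoint
  obtain ⟨c, hc⟩ : ∃ c : ↥(Spec (CommRingCat.of (X.presheaf.stalk (f p)))), g c = f p :=
    ⟨IsLocalRing.closedPoint _, hcl⟩
  obtain ⟨p', hp'1, -⟩ := Scheme.Pullback.exists_preimage_pullback (f := f) (g := g) p c hc.symm
  haveI : Etale (pullback.snd f g) := inferInstance
  haveI : Smooth (pullback.snd f g) := inferInstance
  haveI : IsDomain ((pullback f g).presheaf.stalk p') :=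
    (Groth.Agent.Lib.Helper8RatCodim2.stalk_normal_of_smooth (pullback.snd f g) p').1
  obtain ⟨ξ', hξ'1, hξ'2⟩ := exists_least_generization_of_isDomain p'
  refine ⟨pullback.fst f g ξ', ?_, ?_⟩
  · have h := hξ'1.map (pullback.fst f g).continuous
    rw [hp'1] at h
    exact h
  · intro y hy
    have hy2 : f y ⤳ f p := hy.map f.continuous
    have hy3 : y ∈ Set.range (pullback.fst f g) := by
      rw [Scheme.Pullback.range_fst, hrange]
      exact hy2
    obtain ⟨y', rfl⟩ := hy3
    have hy' : pullback.fst f g y' ⤳ pullback.fst f g p' := by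
      rw [hp'1]
      exact hy
    have hy4 : y' ⤳ p' :=
      (pullback.fst f g).isEmbedding.toIsInducing.specializes_iff.1 hy'
    exact (hξ'2 y' hy4).map (pullback.fst f g).continuous

theorem bijective_comap_fst_of_dense {X P U : Scheme.{u}} (hX : Pi1.IsNormalScheme X)
    (T : Type*) (f : P ⟶ X) [Etale f] (j : U ⟶ X) [IsOpenImmersion j] [QuasiCompact j]
    (hj : Dense (Set.range j)) :
    Function.Bijective (LocallyConstant.comap (pullback.fst f j).base.hom :
      LocallyConstant P T → LocallyConstant _ T) := by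
  apply comap_bijective_of_least_generization
  · exact (pullback.fst f j).isOpenEmbedding
  · exact fun p => exists_least_generization_of_etale hX f p
  · intro Z hZ q hq
    exact Groth.Agent.Lib.Helper12.exists_specializes_of_mem_closure_image (pullback.fst f j) Z hZ q hq
  · have h1 : Set.range (pullback.fst f j) = f ⁻¹' Set.range j := Scheme.Pullback.range_fst f j
    change Dense (Set.range (pullback.fst f j))
    rw [h1]
    exact hj.preimage f.isOpenMap

set_option backward.isDefEq.respectTransparency.types false in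
/-- for a dense quasi-compact open immersion `j` into a normal scheme, the unit
`A → j_* j^* A` on a constant sheaf is an isomorphism -/
theorem isIso_unit_const_of_dense {X U : Scheme.{u}} (hX : Pi1.IsNormalScheme X)
    (j : U ⟶ X) [IsOpenImmersion j] [QuasiCompact j] (hj : Dense (Set.range j))
    (A : AddCommGrpCat.{u + 1}) :
    IsIso ((EtCoh.pullPushAdj j).unit.app
      ((constantSheaf X.smallEtaleTopology AddCommGrpCat.{u + 1}).obj A)) := by
  apply Groth.Agent.Lib.Helper8EtUnitConstGen.isIso_unit_of_bijective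
  intro P
  haveI : Etale P.hom := P.prop
  exact bijective_comap_fst_of_dense hX A P.hom j hj

end Groth.Agent.Lib.Helper8EtUnitConstNormal
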