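import Groth.Agent.Lib.Helper8GabberMain
import Groth.Agent.Lib.Helper25IdComp
import Groth.Agent.Lib.Helper2HenselRad

/-!
# Vanishing of étale cohomology on local and zero-dimensional schemes (helper8)

* `subsingleton_H_of_ext_top`: `H^q(X, F) = 0` as soon as `Ext^q(ℤ[X], F) = 0` (with `X` the
  top open as an étale object).
* `ext_eq_zero_of_closedPoint`: on `Spec R`, `R` strictly henselian local, higher Ext out of `ℤ[X]`
  vanish.
* `induction_clopen`: a property of opens, stable under passing to smaller opens and under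
  disjoint unions, passes to finite unions of clopens.
* `stalk_isStrictlyHenselian`: the stalks of a scheme with all points closed and separably closed
  residue fields are strictly henselian.
* `ext_top_eq_zero`: vanishing on an affine scheme with all points closed and strictly henselian
  stalks.
-/

set_option autoImplicit false
universe u
open CategoryTheory CategoryTheory.Limits AlgebraicGeometry Opposite Abelian TopologicalSpace
  IsLocalRing

namespace Groth.Agent.Lib.Helper8EtZeroDim

open Groth.Agent.Lib.Helper9.EtMV Groth.Agent.Lib.Helper8EtMVRel Groth.Agent.Lib.Helper8EtLocZero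
  Groth.Agent.Lib.Helper8Gabber Groth.Agent.Lib.Helper8EtZarAcyc

section General

variable {X : Scheme.{u}}

set_option backward.isDefEq.respectTransparency.types false in
theorem subsingleton_H_of_ext_top (F : EtCoh.Ab X) (q : ℕ)
    (h : ∀ ξ : Ext.{u + 1} (Zh (zo X ⊤)) F q, ξ = 0) : Subsingleton (EtCoh.H X F q) := by
  have hterm : IsTerminal (zo X ⊤) :=
    IsTerminal.ofIso (EtCore.topIsTerminal X)
      (MorphismProperty.Over.isoMk X.topIso.symm X.toIso_inv_ι :
        EtCoh.top X ≅ (EtZar.zarToEt X).obj ⊤)
  haveI : IsIso (aug (zo X ⊤)) :=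
    isIso_aug _ (isIso_of_isTerminal hterm (EtCore.topIsTerminal X) _)
  refine ⟨fun x y => ?_⟩
  apply ext_precomp_iso_injective (asIso (aug (zo X ⊤))) q
  exact (h _).trans (h _).symm

end General

section Induction

theorem induction_clopen {T : Type*} [TopologicalSpace T] (P : Opens T → Prop)
    (mono : ∀ U V : Opens T, V ≤ U → P U → P V)
    (disj : ∀ U V : Opens T, U ⊓ V = ⊥ → P U → P V → P (U ⊔ V))
    (hbot : P ⊥)
    {ι : Type*} (W : ι → Opens T) (hc : ∀ i, IsClosed (W i : Set T)) (hP : ∀ i, P (W i))
    (t : Finset ι) : P (⨆ i ∈ t, W i) ∧ IsClosed ((⨆ i ∈ t, W i : Opens T) : Set T) := by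
  classical
  induction t using Finset.induction_on with
  | empty =>
    simp only [Finset.notMem_empty, iSup_false, iSup_bot]
    exact ⟨hbot, by simp⟩
  | insert a t hat ih =>
    obtain ⟨ihP, ihC⟩ := ih
    rw [Finset.iSup_insert]
    set E : Opens T := ⨆ i ∈ t, W i with hE
    let Ec : Opens T := ⟨(E : Set T)ᶜ, ihC.isOpen_compl⟩
    have h1 : P (W a ⊓ Ec) := mono (W a) _ inf_le_left (hP a)
    have h2 : E ⊓ (W a ⊓ Ec) = ⊥ := by
      ext x
      simp only [Opens.coe_inf, Opens.coe_bot, Set.mem_inter_iff, Set.mem_empty_iff_false,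
        iff_false, not_and]
      intro hx _ hx'
      exact hx' hx
    have h3 : E ⊔ (W a ⊓ Ec) = W a ⊔ E := by
      ext x
      simp only [Opens.coe_sup, Opens.coe_inf, Set.mem_union, Set.mem_inter_iff]
      constructor
      · rintro (hx | ⟨hx, _⟩)
        · exact Or.inr hx
        · exact Or.inl hx
      · rintro (hx | hx)
        · by_cases hxE : x ∈ (E : Set T)
          · exact Or.inl hxE
          · exact Or.inr ⟨hx, hxE⟩
        · exact Or.inl hx
    refine ⟨h3 ▸ disj E _ h2 ihP h1, ?_⟩
    rw [Opens.coe_sup]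
    exact (hc a).union ihC

end Induction

section Stalks

theorem maximalIdeal_le_nilradical (S : Scheme.{u}) (h1 : ∀ s : S, IsClosed ({s} : Set S)) (s : S) :
    maximalIdeal (S.presheaf.stalk s) ≤ nilradical (S.presheaf.stalk s) := by
  rw [nilradical_eq_sInf]
  refine le_sInf fun P hP => ?_
  let y : Spec (S.presheaf.stalk s) := (⟨P, hP⟩ : PrimeSpectrum (S.presheaf.stalk s))
  have hy : (S.fromSpecStalk s) y = s := by
    have hsp : (S.fromSpecStalk s) y ⤳ s := by
      have : (S.fromSpecStalk s) y ∈ Set.range (S.fromSpecStalk s) := ⟨y, rfl⟩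
      rw [Scheme.range_fromSpecStalk] at this
      exact this
    have := hsp.mem_closed (h1 _) rfl
    exact (Set.mem_singleton_iff.1 this).symm
  have hc : (S.fromSpecStalk s) (closedPoint (S.presheaf.stalk s)) = s :=
    Scheme.fromSpecStalk_closedPoint
  have hyc : y = closedPoint (S.presheaf.stalk s) :=
    (S.fromSpecStalk s).isEmbedding.injective (hy.trans hc.symm)
  have : P = maximalIdeal (S.presheaf.stalk s) := congrArg PrimeSpectrum.asIdeal hyc
  rw [this]

/-- a local ring whose maximal ideal is nil is henselian. -/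
theorem henselianLocalRing_of_le_nilradical (A : Type*) [CommRing A] [IsLocalRing A]
    (h : maximalIdeal A ≤ nilradical A) : HenselianLocalRing A := by
  have hbot : HenselianRing A ⊥ :=
    { jac := bot_le
      is_henselian := fun f _ a₀ h₀ _ => ⟨a₀, by simpa using h₀, by simp⟩ }
  have hm : HenselianRing A (maximalIdeal A) :=
    Groth.Agent.Lib.Helper2.henselianRing_of_le_radical ⊥ (maximalIdeal A) hbot bot_le h
  exact
    { is_henselian := fun f hf a₀ h₀ hu =>
        hm.is_henselian f hf a₀ h₀ (hu.map (Ideal.Quotient.mk (maximalIdeal A))) }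

theorem stalk_isStrictlyHenselian (S : Scheme.{u}) (h1 : ∀ s : S, IsClosed ({s} : Set S))
    (h2 : ∀ s : S, IsSepClosed (S.residueField s)) (s : S) :
    EtCoh.IsStrictlyHenselianLocalRing (S.presheaf.stalk s) :=
  ⟨henselianLocalRing_of_le_nilradical _ (maximalIdeal_le_nilradical S h1 s), h2 s⟩

end Stalks

section Main

variable (S : Scheme.{u})

/-- all sets are stable under specialization when all points are closed. -/
lemma stableUnderSpecialization_of_t1 (h1 : ∀ s : S, IsClosed ({s} : Set S)) (E : Set S) :
    StableUnderSpecialization E := by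
  intro x y hxy hx
  have := hxy.mem_closed (h1 x) rfl
  rw [Set.mem_singleton_iff] at this
  rwa [this]

/-- on a quasi-compact quasi-separated scheme all of whose points are closed and all of whose local
rings are strictly henselian, higher `Ext` groups out of `ℤ[S]` vanish. -/
theorem ext_top_eq_zero [CompactSpace S] [QuasiSeparatedSpace S]
    (h1 : ∀ s : S, IsClosed ({s} : Set S))
    (hsh : ∀ s : S, EtCoh.IsStrictlyHenselianLocalRing (S.presheaf.stalk s))
    (F : EtCoh.Ab S) (n : ℕ) (ξ : Ext.{u + 1} (Zh (zo S ⊤)) F (n + 1)) : ξ = 0 := by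
  let P : Opens S → Prop := fun W => ∀ h : W ≤ (⊤ : S.Opens), res S F h ξ = 0
  have mono : ∀ U V : Opens S, V ≤ U → P U → P V := by
    intro U V hVU hU h
    have := res_res S F hVU (le_top : U ≤ (⊤ : S.Opens)) ξ
    rw [hU le_top, res_zero] at this
    exact this.symm
  have disj : ∀ U V : Opens S, U ⊓ V = ⊥ → P U → P V → P (U ⊔ V) := by
    intro U V hUV hU hV h
    refine ext_eq_zero_of_restrict S U V F n
      ⟨fun a b => (ext_eq_zero_of_eq_bot _ hUV F a).trans (ext_eq_zero_of_eq_bot _ hUV F b).symm⟩
      (res S F h ξ) ?_ ?_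
    · have := res_res S F (le_sup_left : U ≤ U ⊔ V) h ξ
      rw [hU] at this
      exact this
    · have := res_res S F (le_sup_right : V ≤ U ⊔ V) h ξ
      rw [hV] at this
      exact this
  have hbot : P ⊥ := fun h => ext_eq_zero_of_eq_bot _ rfl F _
  -- local vanishing on compact opens
  have hloc : ∀ x : S, ∃ W : S.Opens, x ∈ W ∧ IsCompact (W : Set S) ∧ P W := by
    intro x
    obtain ⟨N, hN, hxN, hz⟩ := exists_open_restrict_eq_zero n F ⊤ ξ x trivial (hsh x)
    obtain ⟨W, hW, hxW, hWN⟩ :=
      TopologicalSpace.Opens.isBasis_iff_nbhd.1 S.isBasis_affineOpens hxN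
    refine ⟨W, hxW, hW.isCompact, ?_⟩
    exact mono N W hWN (fun h => hz)
  choose W hxW hWc hWP using hloc
  have hWcl : ∀ x, IsClosed ((W x : S.Opens) : Set S) := fun x =>
    Groth.Agent.Lib.Helper25.IdComp.isClosed_of_isCompact_of_stableUnderSpecialization (W x) (hWc x)
      (stableUnderSpecialization_of_t1 S h1 _)
  obtain ⟨t, ht⟩ := isCompact_univ.elim_finite_subcover (fun x : S => ((W x : S.Opens) : Set S))
    (fun x => (W x).isOpen) (fun x _ => Set.mem_iUnion.2 ⟨x, hxW x⟩)
  have key := (induction_clopen P mono disj hbot W hWcl hWP t).1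
  have htop : (⨆ i ∈ t, W i : Opens S) = ⊤ := by
    rw [eq_top_iff]
    intro x _
    have hx := ht (Set.mem_univ x)
    simp only [Set.mem_iUnion] at hx
    obtain ⟨i, hi, hxi⟩ := hx
    show x ∈ ((⨆ i ∈ t, W i : Opens S) : Set S)
    rw [Opens.coe_iSup]
    refine Set.mem_iUnion.2 ⟨i, ?_⟩
    rw [Opens.coe_iSup]
    exact Set.mem_iUnion.2 ⟨hi, hxi⟩
  rw [htop] at key
  have := key le_rfl
  rwa [res_self] at this

end Main

section Local

variable (R : Type u) [CommRing R]

/-- the stalk of `Spec R` at the closed point of a strictly henselian local ring is strictly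
henselian. -/
theorem stalk_closedPoint_isStrictlyHenselian [HenselianLocalRing R]
    [IsSepClosed (ResidueField R)] :
    EtCoh.IsStrictlyHenselianLocalRing
      ((SR R).presheaf.stalk (closedPoint R : PrimeSpectrum R)) := by
  have hR : EtCoh.IsStrictlyHenselianLocalRing R := ⟨inferInstance, inferInstance⟩
  let e1 : R ≃+* Localization.AtPrime (closedPoint R).asIdeal :=
    (IsLocalization.atUnits R (closedPoint R).asIdeal.primeCompl (by
      intro x hx
      change IsUnit x
      by_contra hu
      exact hx ((mem_maximalIdeal x).2 hu))).toRingEquiv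
  exact isStrictlyHenselian_of_ringEquiv
    (StructureSheaf.stalkIso R (closedPoint R)).toRingEquiv
    (isStrictlyHenselian_of_ringEquiv e1 hR)

/-- on the spectrum of a strictly henselian local ring, higher `Ext` groups out of `ℤ[X]` vanish. -/
theorem ext_top_eq_zero_of_local [HenselianLocalRing R] [IsSepClosed (ResidueField R)]
    (F : EtCoh.Ab (SR R)) (n : ℕ) (ξ : Ext.{u + 1} (Zh (zo (SR R) ⊤)) F (n + 1)) : ξ = 0 := by
  obtain ⟨N, hN, hxN, hz⟩ := exists_open_restrict_eq_zero n F ⊤ ξ
    (closedPoint R : PrimeSpectrum R) trivial (stalk_closedPoint_isStrictlyHenselian R)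
  have hNtop : N = ⊤ := (IsLocalRing.closedPoint_mem_iff (R := R) N).1 hxN
  exact eq_zero_of_res_eq_zero (SR R) F hN (hNtop ▸ le_rfl) ξ hz

end Local

end Groth.Agent.Lib.Helper8EtZeroDim
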