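import Mathlib
import Groth.Prelude.Def_RefHull
import Groth.Agent.Lib.R2LeadExtReg
import Groth.Agent.Lib.Helper27InvRestrict

/-!
# Helper8ExtUfdA: gluing modules over two disjoint opens (for S0234)

* `exists_trivialization_of_isInvertible_restrict`: converse of
  `Helper27Inv.isInvertible_restrict_of_cover`;
* `restrictBiprodIso`: `(A ⊞ B)|_U ≅ A|_U` when `B|_U = 0`;
* `isZero_restrict_pushforward`: `(k_* Q)|_U = 0` for `k : V ⟶ X` with `U ⊓ V = ⊥`;
* `glue`: the module `j_* L ⊞ k_* Q` for disjoint opens `U`, `V` with its restrictions.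
-/

set_option autoImplicit false
set_option linter.style.haveILetI false
set_option linter.unusedSectionVars false
universe u

namespace Groth.Agent.Lib.Helper8ExtUfdA

open AlgebraicGeometry CategoryTheory CategoryTheory.Limits TopologicalSpace Opposite

variable {X : Scheme.{u}}

section Triv

open Groth.Agent.Lib.Helper23.SecTw Groth.Agent.Lib.Helper20.ZClosLib

/-- if `F|_U` is invertible then `F` is trivial near every point of `U`. -/
theorem exists_trivialization_of_isInvertible_restrict (F : X.Modules) (U : X.Opens)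
    (hinv : PicF.IsInvertible (F.restrict U.ι)) (x : X) (hx : x ∈ U) :
    ∃ W : X.Opens, x ∈ W ∧ Nonempty (F.restrict W.ι ≅ Coh.structureModule (↑W : Scheme.{u})) := by
  obtain ⟨V, e, hxV, he⟩ := exists_gen (F.restrict U.ι) hinv ⟨x, hx⟩
  have he' := isGen_of_isGen_restrict F U V e he
  exact ⟨U.ι ''ᵁ V, ⟨⟨x, hx⟩, hxV, rfl⟩, nonempty_restrict_iso_of_isGen F (U.ι ''ᵁ V) e he'⟩

end Triv

section Zero

theorem subsingleton_sections_bot (M : X.Modules) : Subsingleton Γ(M, (⊥ : X.Opens)) := by
  let Fs : TopCat.Sheaf Ab X := ⟨M.presheaf, Scheme.Modules.isSheaf M⟩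
  have ht : IsTerminal (Fs.val.obj (op ⊥)) := TopCat.Sheaf.isTerminalOfEmpty Fs
  refine ⟨fun a b => ?_⟩
  have h1 : (AddCommGrpCat.ofHom (AddMonoidHom.id Γ(M, (⊥ : X.Opens))) :
      Fs.val.obj (op ⊥) ⟶ Fs.val.obj (op ⊥)) = 0 :=
    ht.hom_ext _ _
  have h2 := congrArg (fun f => f.hom a) h1
  have h3 := congrArg (fun f => f.hom b) h1
  exact (h2.trans h3.symm)

theorem isZero_of_subsingleton_sections (M : X.Modules)
    (h : ∀ W : X.Opens, Subsingleton Γ(M, W)) : IsZero M := by
  rw [IsZero.iff_id_eq_zero]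
  apply Scheme.Modules.hom_ext
  intro W
  ext s
  exact @Subsingleton.elim _ (h W) _ _

/-- the pushforward of a module from an open `V` vanishes over an open disjoint from `V`. -/
theorem isZero_restrict_pushforward (U V : X.Opens) (h : U ⊓ V = ⊥)
    (Q : (V : Scheme.{u}).Modules) :
    IsZero (((Scheme.Modules.pushforward V.ι).obj Q).restrict U.ι) := by
  apply isZero_of_subsingleton_sections
  intro W
  have hbot : V.ι ⁻¹ᵁ (U.ι ''ᵁ W) = ⊥ := by
    ext y
    simp only [Opens.coe_bot, Set.mem_empty_iff_false, iff_false]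
    intro hy
    have h1 : V.ι y ∈ U.ι ''ᵁ W := hy
    obtain ⟨w, -, hw⟩ := h1
    have h2 : V.ι y ∈ U := by rw [← hw]; exact w.2
    have h3 : V.ι y ∈ U ⊓ V := ⟨h2, y.2⟩
    rw [h] at h3
    exact h3
  change Subsingleton Γ(Q, V.ι ⁻¹ᵁ (U.ι ''ᵁ W))
  rw [hbot]
  exact subsingleton_sections_bot Q

end Zero

section Biprod

/-- `(A ⊞ B)|_U ≅ A|_U` when `B|_U = 0`. -/
noncomputable def restrictBiprodFstIso (A B : X.Modules) (U : X.Opens)
    (hB : IsZero (B.restrict U.ι)) : (A ⊞ B).restrict U.ι ≅ A.restrict U.ι := by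
  haveI : (Scheme.Modules.restrictFunctor U.ι).Additive :=
    (Scheme.Modules.restrictAdjunction U.ι).left_adjoint_additive
  refine ⟨(Scheme.Modules.restrictFunctor U.ι).map biprod.fst,
    (Scheme.Modules.restrictFunctor U.ι).map biprod.inl, ?_, ?_⟩
  · rw [← Functor.map_comp]
    have h1 : (biprod.fst : A ⊞ B ⟶ A) ≫ biprod.inl = 𝟙 _ - biprod.snd ≫ biprod.inr := by
      rw [eq_sub_iff_add_eq, biprod.total]
    rw [h1, Functor.map_sub, CategoryTheory.Functor.map_id, Functor.map_comp]
    have h2 : (Scheme.Modules.restrictFunctor U.ι).map (biprod.snd : A ⊞ B ⟶ B) = 0 :=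
      hB.eq_of_tgt _ _
    rw [h2, zero_comp, sub_zero]
  · rw [← Functor.map_comp, biprod.inl_fst, CategoryTheory.Functor.map_id]

/-- `(A ⊞ B)|_U ≅ B|_U` when `A|_U = 0`. -/
noncomputable def restrictBiprodSndIso (A B : X.Modules) (U : X.Opens)
    (hA : IsZero (A.restrict U.ι)) : (A ⊞ B).restrict U.ι ≅ B.restrict U.ι := by
  haveI : (Scheme.Modules.restrictFunctor U.ι).Additive :=
    (Scheme.Modules.restrictAdjunction U.ι).left_adjoint_additive
  refine ⟨(Scheme.Modules.restrictFunctor U.ι).map biprod.snd,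
    (Scheme.Modules.restrictFunctor U.ι).map biprod.inr, ?_, ?_⟩
  · rw [← Functor.map_comp]
    have h1 : (biprod.snd : A ⊞ B ⟶ B) ≫ biprod.inr = 𝟙 _ - biprod.fst ≫ biprod.inl := by
      rw [eq_sub_iff_add_eq, add_comm, biprod.total]
    rw [h1, Functor.map_sub, CategoryTheory.Functor.map_id, Functor.map_comp]
    have h2 : (Scheme.Modules.restrictFunctor U.ι).map (biprod.fst : A ⊞ B ⟶ A) = 0 :=
      hA.eq_of_tgt _ _
    rw [h2, zero_comp, sub_zero]
  · rw [← Functor.map_comp, biprod.inr_snd, CategoryTheory.Functor.map_id]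

end Biprod

section Glue

variable (U V : X.Opens)

/-- the glueing of modules on two disjoint opens (as a module on the ambient scheme). -/
noncomputable def glue (L : (U : Scheme.{u}).Modules) (Q : (V : Scheme.{u}).Modules) :
    X.Modules :=
  (Scheme.Modules.pushforward U.ι).obj L ⊞ (Scheme.Modules.pushforward V.ι).obj Q

noncomputable def glueRestrictFst (h : U ⊓ V = ⊥) (L : (U : Scheme.{u}).Modules)
    (Q : (V : Scheme.{u}).Modules) : (glue U V L Q).restrict U.ι ≅ L :=
  restrictBiprodFstIso _ _ U (isZero_restrict_pushforward U V h Q) ≪≫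
    (Scheme.Modules.restrictFunctorAdjCounitIso U.ι).app L

noncomputable def glueRestrictSnd (h : U ⊓ V = ⊥) (L : (U : Scheme.{u}).Modules)
    (Q : (V : Scheme.{u}).Modules) : (glue U V L Q).restrict V.ι ≅ Q :=
  restrictBiprodSndIso _ _ V (isZero_restrict_pushforward V U (by rw [inf_comm]; exact h) L) ≪≫
    (Scheme.Modules.restrictFunctorAdjCounitIso V.ι).app Q

/-- the glueing of invertible modules is invertible on the union. -/
theorem isInvertible_glue_restrict (h : U ⊓ V = ⊥) (L : (U : Scheme.{u}).Modules)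
    (Q : (V : Scheme.{u}).Modules) (hL : PicF.IsInvertible L) (hQ : PicF.IsInvertible Q) :
    PicF.IsInvertible ((glue U V L Q).restrict (U ⊔ V).ι) := by
  apply Groth.Agent.Lib.Helper27Inv.isInvertible_restrict_of_cover
  intro y hy
  rcases hy with hy | hy
  · exact exists_trivialization_of_isInvertible_restrict _ U
      (Groth.Agent.Lib.Helper23.AmpleIso.isInvertible_of_iso (glueRestrictFst U V h L Q).symm hL)
      y hy
  · exact exists_trivialization_of_isInvertible_restrict _ V
      (Groth.Agent.Lib.Helper23.AmpleIso.isInvertible_of_iso (glueRestrictSnd U V h L Q).symm hQ)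
      y hy

end Glue

end Groth.Agent.Lib.Helper8ExtUfdA
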