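import Mathlib
import Groth.Prelude.Def_RefHull
import Groth.Agent.S2252
import Groth.Agent.S6875
import Groth.Agent.Lib.R2LeadExtReg
import Groth.Agent.Lib.R2LeadReflC
import Groth.Agent.Lib.R2LeadRk1A
import Groth.Agent.Lib.R2H2FibreFree
import Groth.Agent.Lib.R2H1SheafGysin
import Groth.Agent.Lib.Helper4RatExt
import Groth.Agent.Lib.Helper8RefHullFP
import Groth.Agent.Lib.Helper8ExtUfdA
import Groth.Agent.Lib.Helper23TensorUnit
import Groth.Agent.Lib.R2H2PnFinite

/-!
# Helper8ExtUfdB: S0234, extension of invertible modules across points with factorial local ring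
-/

set_option autoImplicit false
set_option linter.style.haveILetI false
set_option linter.unusedSectionVars false
universe u

namespace Groth.Agent.Lib.Helper8ExtUfdB

open AlgebraicGeometry CategoryTheory CategoryTheory.Limits TopologicalSpace Opposite RefHull
  IsLocalRing

section Algebra

/-- a torsion free module whose localization at a multiplicative set is cyclic (with a torsion
free generator) has rank one. -/
theorem exists_rank_one_of_isLocalizedModule {R M Mξ : Type*} [CommRing R] [IsDomain R]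
    [AddCommGroup M] [Module R M] [AddCommGroup Mξ] [Module R Mξ] (S : Submonoid R)
    (hS : (0 : R) ∉ S) (f : M →ₗ[R] Mξ) [IsLocalizedModule S f]
    (htf : ∀ (a : R) (v : M), a • v = 0 → a = 0 ∨ v = 0) (g : Mξ)
    (hg1 : ∀ v : Mξ, ∃ (a : R) (s : S), (s : R) • v = a • g)
    (hg2 : ∀ s : S, (s : R) • g ≠ 0) :
    ∃ m₁ : M, m₁ ≠ 0 ∧ ∀ m : M, ∃ a b : R, b ≠ 0 ∧ b • m = a • m₁ := by
  obtain ⟨⟨m₁, t⟩, ht⟩ := IsLocalizedModule.surj S f g
  have ht' : (t : R) • g = f m₁ := ht
  have hne : ∀ s : S, (s : R) ≠ 0 := fun s h => hS (h ▸ s.2)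
  refine ⟨m₁, ?_, fun m => ?_⟩
  · intro h
    rw [h, map_zero] at ht'
    exact hg2 t ht'
  · obtain ⟨a, s, hs⟩ := hg1 (f m)
    have h0 : f (((t : R) * (s : R)) • m - a • m₁) = 0 := by
      rw [map_sub, map_smul, map_smul, mul_smul, hs, smul_comm, ht', sub_self]
    obtain ⟨c, hc⟩ := (IsLocalizedModule.eq_zero_iff S f).1 h0
    have hc' : (c : R) • (((t : R) * (s : R)) • m - a • m₁) = 0 := hc
    rcases htf _ _ hc' with h | h
    · exact absurd h (hne c)
    · exact ⟨a, (t : R) * (s : R), mul_ne_zero (hne t) (hne s), sub_eq_zero.1 h⟩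

end Algebra

variable {X : Scheme.{u}}

section Stalk

open Groth.Agent.Lib.R2H1.SheafGysin Groth.Agent.Lib.R2H1.LocQuot

variable [IsLocallyNoetherian X]

/-- the stalk of the bidual of a coherent module at a point whose local ring is a domain is a
reflexive module. -/
theorem isReflexive_stalk_ddual (G : X.Modules) (hG : Coh.IsCoh G) (x : X)
    [IsDomain (X.presheaf.stalk x)] :
    Module.IsReflexive (X.presheaf.stalk x) ((ddual G).presheaf.stalk x) := by
  have hD : Coh.IsCoh (dual G) := Groth.Agent.Lib.R2Lead.ReflB.isCoh_dual G hG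
  haveI : Module.Finite (X.presheaf.stalk x) ((dual G).presheaf.stalk x) :=
    Groth.Agent.Lib.R2Lead.ReflC.finite_stalk (dual G) hD x
  haveI : Module.Finite (X.presheaf.stalk x) ((Coh.structureModule X).presheaf.stalk x) :=
    Groth.Agent.Lib.R2Lead.ReflC.finite_stalk _
      (Groth.Agent.Lib.R2Lead.ReflB.isCoh_structureModule X) x
  haveI : Module.IsReflexive (X.presheaf.stalk x) ((Coh.structureModule X).presheaf.stalk x) :=
    Module.equiv (Groth.Agent.Lib.Helper23.UnitStalk.unitStalkEquiv x)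
  haveI : Module.IsReflexive (X.presheaf.stalk x)
      ((dual G).presheaf.stalk x →ₗ[X.presheaf.stalk x]
        (Coh.structureModule X).presheaf.stalk x) :=
    Groth.Agent.S6875.result (X.presheaf.stalk x) ((dual G).presheaf.stalk x)
      ((Coh.structureModule X).presheaf.stalk x)
  have he := Groth.Agent.Lib.Helper8RefHullFP.evalStalk_bijective_of_isFP (dual G)
    (Coh.structureModule X) (Groth.Agent.Lib.R2Lead.ReflB.isFP_of_isCoh (dual G) hD) x
  exact Module.equiv
    (LinearEquiv.ofBijective (evalStalk (dual G) (Coh.structureModule X) x) he).symm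

/-- a coherent module whose stalk at a point `x` with factorial local ring is reflexive and whose
stalk at some generization of `x` is free of rank one has a free stalk of rank one at `x`. -/
theorem exists_gen_stalk_of_ufd (F : X.Modules) (hF : Coh.IsCoh F) (x ξ : X) (h : ξ ⤳ x)
    [IsDomain (X.presheaf.stalk x)] [UniqueFactorizationMonoid (X.presheaf.stalk x)]
    [Module.IsReflexive (X.presheaf.stalk x) (F.presheaf.stalk x)]
    (g : F.presheaf.stalk ξ)
    (hg : Function.Bijective (fun c : X.presheaf.stalk ξ => c • g)) :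
    ∃ n₀ : F.presheaf.stalk x, Function.Bijective (fun c : X.presheaf.stalk x => c • n₀) := by
  haveI := hF.1
  haveI : Module.Finite (X.presheaf.stalk x) (F.presheaf.stalk x) :=
    Groth.Agent.Lib.R2Lead.ReflC.finite_stalk F hF x
  have htf : ∀ (a : X.presheaf.stalk x) (v : F.presheaf.stalk x), a • v = 0 → a = 0 ∨ v = 0 :=
    Groth.Agent.Lib.R2LeadRk1A.torsionFree_of_isReflexive
  letI := moduleStalkGen F x ξ h
  letI := (X.presheaf.stalkSpecializes h).hom.toAlgebra
  haveI hloc := isLocalization_stalkSpecializes x ξ h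
  haveI := isLocalizedModule_stalkSpecializes F x ξ h
  have hsmul : ∀ (t : X.presheaf.stalk x) (y : F.presheaf.stalk ξ),
      t • y = (X.presheaf.stalkSpecializes h).hom t • y := fun _ _ => rfl
  have hS : (0 : X.presheaf.stalk x) ∉ (RingHom.ker (Cyc.specMap x ξ h)).primeCompl := by
    intro h0
    exact h0 (Ideal.zero_mem _)
  have hg1 : ∀ v : F.presheaf.stalk ξ, ∃ (a : X.presheaf.stalk x)
      (s : (RingHom.ker (Cyc.specMap x ξ h)).primeCompl), (s : X.presheaf.stalk x) • v = a • g := by
    intro v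
    obtain ⟨c, hc⟩ := hg.2 v
    obtain ⟨⟨a, s⟩, has⟩ := IsLocalization.surj (RingHom.ker (Cyc.specMap x ξ h)).primeCompl c
    refine ⟨a, s, ?_⟩
    have has' : c * (X.presheaf.stalkSpecializes h).hom (s : X.presheaf.stalk x) =
        (X.presheaf.stalkSpecializes h).hom a := has
    rw [hsmul, hsmul, ← hc, smul_smul, mul_comm, has']
  have hg2 : ∀ s : (RingHom.ker (Cyc.specMap x ξ h)).primeCompl,
      (s : X.presheaf.stalk x) • g ≠ 0 := by
    intro s h0
    rw [hsmul] at h0
    have h1 : (X.presheaf.stalkSpecializes h).hom (s : X.presheaf.stalk x) = 0 :=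
      hg.1 (by simpa using h0)
    have h2 : IsUnit ((X.presheaf.stalkSpecializes h).hom (s : X.presheaf.stalk x)) :=
      (mem_primeCompl_ker_specMap_iff x ξ h _).1 s.2
    rw [h1] at h2
    exact not_isUnit_zero h2
  obtain ⟨m₁, hm₁0, hm₁⟩ := exists_rank_one_of_isLocalizedModule
    (RingHom.ker (Cyc.specMap x ξ h)).primeCompl hS (spₗ F x ξ h) htf g hg1 hg2
  obtain ⟨n₀, hn₀⟩ := Groth.Agent.Lib.R2LeadRk1A.exists_generator_of_ufd m₁ hm₁
  have hn₀0 : n₀ ≠ 0 := by
    intro h0
    obtain ⟨a, ha⟩ := hn₀ m₁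
    rw [h0, smul_zero] at ha
    exact hm₁0 ha
  refine ⟨n₀, ?_, ?_⟩
  · intro a a' haa'
    have h1 : (a - a') • n₀ = 0 := by
      rw [sub_smul]
      exact sub_eq_zero.2 haa'
    rcases htf _ _ h1 with h | h
    · exact sub_eq_zero.1 h
    · exact absurd h hn₀0
  · intro m
    obtain ⟨a, ha⟩ := hn₀ m
    exact ⟨a, ha.symm⟩

/-- a coherent module with a free stalk of rank one at `x` is trivial near `x`. -/
theorem exists_trivialization_of_gen_stalk (F : X.Modules) (hF : Coh.IsCoh F) (x : X)
    (n₀ : F.presheaf.stalk x)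
    (hn₀ : Function.Bijective (fun c : X.presheaf.stalk x => c • n₀)) :
    ∃ W : X.Opens, x ∈ W ∧ Nonempty (F.restrict W.ι ≅ Coh.structureModule (↑W : Scheme.{u})) := by
  have hbij : Function.Bijective
      (LinearMap.toSpanSingleton (X.presheaf.stalk x) (F.presheaf.stalk x) n₀) := hn₀
  let e : X.presheaf.stalk x ≃ₗ[X.presheaf.stalk x] F.presheaf.stalk x :=
    LinearEquiv.ofBijective _ hbij
  let b : Module.Basis (Fin 1) (X.presheaf.stalk x) (F.presheaf.stalk x) :=
    Module.Basis.ofEquivFun (e.symm ≪≫ₗ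
      (LinearEquiv.funUnique (Fin 1) (X.presheaf.stalk x) (X.presheaf.stalk x)).symm)
  obtain ⟨W, hxW, ⟨ψ⟩⟩ :=
    Groth.Agent.Lib.R2H2.FibreFree.exists_restrict_iso_freeMod_of_stalk_basis F hF x 1 b
  exact ⟨W, hxW, ⟨ψ ≪≫ Limits.coproductUniqueIso (fun _ : Fin 1 => Coh.structureModule (↑W))⟩⟩

end Stalk

section Main

open Groth.Agent.Lib.Helper8ExtUfdA Groth.Agent.Lib.R2LeadExtReg Groth.Agent.Lib.R2Lead.ReflB
  Groth.Agent.Lib.Helper20.ZClosLib

/-- **S0234**. -/
theorem main0234 (X : Scheme.{u}) [IsLocallyNoetherian X] (U : X.Opens)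
    (L : (U : Scheme.{u}).Modules) (hL : PicF.IsInvertible L)
    (hufd : ∀ x : X, x ∉ U → UniqueFactorizationMonoid (X.presheaf.stalk x)) :
    ∃ L' : X.Modules, PicF.IsInvertible L' ∧ Nonempty (L'.restrict U.ι ≅ L) := by
  classical
  -- the exterior of `U`
  let V : X.Opens := ⟨(closure (U : Set X))ᶜ, isClosed_closure.isOpen_compl⟩
  have hUV : U ⊓ V = ⊥ := by
    ext y
    simp only [Opens.coe_inf, Set.mem_inter_iff, SetLike.mem_coe, Opens.coe_bot,
      Set.mem_empty_iff_false, iff_false, not_and]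
    intro hyU hyV
    exact hyV (subset_closure hyU)
  set U' : X.Opens := U ⊔ V with hU'
  set N : X.Modules := glue U V L (Coh.structureModule (V : Scheme.{u})) with hN
  have hOV : PicF.IsInvertible (Coh.structureModule (V : Scheme.{u})) :=
    Groth.Agent.Lib.Helper23.TensorUnit.isInvertible_structureModule _
  have hM : PicF.IsInvertible (N.restrict U'.ι) :=
    isInvertible_glue_restrict U V hUV L _ hL hOV
  -- coherent extension
  have hXloc : ∀ x : X, ∃ W : X.Opens, x ∈ W ∧ TopologicalSpace.NoetherianSpace (W : Set X) := by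
    intro x
    obtain ⟨W, hW, hxW, -⟩ := exists_isAffineOpen_mem_and_subset (U := ⊤) (x := x) (by simp)
    haveI : IsNoetherianRing Γ(X, W) := IsLocallyNoetherian.component_noetherian ⟨W, hW⟩
    exact ⟨W, hxW, noetherianSpace_of_isAffineOpen W hW⟩
  haveI : Coh.IsQCoh (N.restrict U'.ι) :=
    Groth.Agent.Lib.Helper23.SecTw.isQuasicoherent_of_isInvertible _ hM
  have hMft : CohB1.IsFT (N.restrict U'.ι) :=
    Groth.Agent.Lib.R2H2.PnFinite.isFiniteType_of_isInvertible _ hM
  obtain ⟨G', hq, hft, ⟨e⟩⟩ := Groth.Agent.S2252.result hXloc U' (N.restrict U'.ι) hMft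
  have hG' : Coh.IsCoh G' := ⟨hq, hft⟩
  have hFcoh : Coh.IsCoh (RefHull.ddual G') := isCoh_dual (dual G') (isCoh_dual G' hG')
  have hinvG : PicF.IsInvertible (G'.restrict U'.ι) :=
    Groth.Agent.Lib.Helper23.AmpleIso.isInvertible_of_iso e.symm hM
  -- stalks over `U'`
  have hbij : ∀ x ∈ U', Function.Bijective ((stalkF x).map (bidualMap G')) := by
    intro x hx
    obtain ⟨g, hg⟩ := exists_gen_stalk_of_restrict G' U' hinvG x hx
    let eg : X.presheaf.stalk x ≃ₗ[X.presheaf.stalk x] G'.presheaf.stalk x :=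
      LinearEquiv.ofBijective (LinearMap.toSpanSingleton _ _ g) hg
    have hr : RefHull.IsReflexiveAt G' x := Module.equiv eg
    exact (isReflexiveAt_iff G' hG' x).1 hr
  have hgenU' : ∀ x ∈ U', ∃ n₀ : (RefHull.ddual G').presheaf.stalk x,
      Function.Bijective (fun c : X.presheaf.stalk x => c • n₀) := by
    intro x hx
    obtain ⟨g, hg⟩ := exists_gen_stalk_of_restrict G' U' hinvG x hx
    have hb : Function.Bijective (stalkMapₗ (bidualMap G') x) := hbij x hx
    refine ⟨stalkMapₗ (bidualMap G') x g, ?_⟩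
    have hfun : (fun c : X.presheaf.stalk x => c • stalkMapₗ (bidualMap G') x g) =
        (stalkMapₗ (bidualMap G') x) ∘ (fun c : X.presheaf.stalk x => c • g) := by
      funext c
      exact (map_smul (stalkMapₗ (bidualMap G') x) c g).symm
    rw [hfun]
    exact hb.comp hg
  haveI := isIso_restrict_map_of_stalk_bijective (bidualMap G') U' hbij
  let ε : G'.restrict U'.ι ≅ (RefHull.ddual G').restrict U'.ι :=
    asIso ((Scheme.Modules.restrictFunctor U'.ι).map (bidualMap G'))
  -- stalks outside `U'`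
  have hgen : ∀ x : X, ∃ n₀ : (RefHull.ddual G').presheaf.stalk x,
      Function.Bijective (fun c : X.presheaf.stalk x => c • n₀) := by
    intro x
    by_cases hx : x ∈ U'
    · exact hgenU' x hx
    · have hxU : x ∉ U := fun h => hx (Or.inl h)
      have hxV : x ∉ V := fun h => hx (Or.inr h)
      haveI := hufd x hxU
      haveI : IsDomain (X.presheaf.stalk x) := { }
      obtain ⟨V₀, hxV₀, -, -, hspec⟩ := Groth.Agent.Lib.Helper4.RatExt.exists_integral_nhd x
      set ξ : X := Groth.Agent.Lib.Helper4.RatExt.genericHom X x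
        (closedPoint (FractionRing (X.presheaf.stalk x))) with hξ
      have hcl : x ∈ closure (U : Set X) := by
        by_contra hcon
        exact hxV hcon
      obtain ⟨v, hvV₀, hvU⟩ := mem_closure_iff.1 hcl V₀ V₀.isOpen hxV₀
      have hξU : ξ ∈ U := (hspec v hvV₀).mem_open U.isOpen hvU
      obtain ⟨g, hg⟩ := hgenU' ξ (Or.inl hξU)
      haveI := isReflexive_stalk_ddual G' hG' x
      exact exists_gen_stalk_of_ufd (RefHull.ddual G') hFcoh x ξ (hspec x hxV₀) g hg
  have hinvF : PicF.IsInvertible (RefHull.ddual G') := by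
    intro x
    obtain ⟨n₀, hn₀⟩ := hgen x
    exact exists_trivialization_of_gen_stalk (RefHull.ddual G') hFcoh x n₀ hn₀
  refine ⟨RefHull.ddual G', hinvF, ⟨?_⟩⟩
  -- the restriction to `U`
  let j : (U : Scheme.{u}) ⟶ (U' : Scheme.{u}) := X.homOfLE (le_sup_left : U ≤ U')
  have hj : j ≫ U'.ι = U.ι := X.homOfLE_ι _
  let κ : ∀ P : X.Modules, P.restrict U.ι ≅ (P.restrict U'.ι).restrict j := fun P =>
    (Scheme.Modules.restrictFunctorCongr hj.symm).app P ≪≫
      (Scheme.Modules.restrictFunctorComp j U'.ι).app P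
  exact κ (RefHull.ddual G') ≪≫ (Scheme.Modules.restrictFunctor j).mapIso (ε.symm ≪≫ e) ≪≫
    (κ N).symm ≪≫ glueRestrictFst U V hUV L _

end Main

end Groth.Agent.Lib.Helper8ExtUfdB
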