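import Mathlib
import Groth.Prelude
import Groth.Agent.Lib.Helper8InfNbhd

set_option autoImplicit false
set_option linter.style.haveILetI false

/-!
# The first order infinitesimal neighbourhood of an immersion is a universal first order thickening
-/

universe u

open CategoryTheory CategoryTheory.Limits AlgebraicGeometry Opposite TopologicalSpace

namespace Groth.Agent.Lib.Helper8FONbhd

lemma app_eq_zero_congr {X Y : Scheme.{u}} {f g : X ⟶ Y} (h : f = g) (U : Y.Opens)
    (x : Γ(Y, U)) : (f.app U).hom x = 0 ↔ (g.app U).hom x = 0 := by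
  subst h; rfl

/-- the kernel of `V(I) ⟶ V(I²)` has square zero. -/
theorem ker_inclusion_sq {Y : Scheme.{u}} (I : Y.IdealSheafData) (h : I ^ 2 ≤ I) :
    (Scheme.IdealSheafData.inclusion h).ker * (Scheme.IdealSheafData.inclusion h).ker = ⊥ := by
  have hcomp : Scheme.IdealSheafData.inclusion h ≫ (I ^ 2).subschemeι = I.subschemeι :=
    Scheme.IdealSheafData.inclusion_subschemeι h
  haveI : IsClosedImmersion (Scheme.IdealSheafData.inclusion h ≫ (I ^ 2).subschemeι) := by
    rw [hcomp]; infer_instance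
  haveI : IsClosedImmersion (Scheme.IdealSheafData.inclusion h) :=
    IsClosedImmersion.of_comp (Scheme.IdealSheafData.inclusion h) (I ^ 2).subschemeι
  refine Scheme.IdealSheafData.ext_of_iSup_eq_top
    (fun W : Y.affineOpens => (⟨(I ^ 2).subschemeι ⁻¹ᵁ W.1, W.2.preimage (I ^ 2).subschemeι⟩ :
      (I ^ 2).subscheme.affineOpens)) ?_ (fun W => ?_)
  · rw [eq_top_iff]
    intro z _
    obtain ⟨W, hW, hzW, -⟩ := exists_isAffineOpen_mem_and_subset
      (X := Y) (x := (I ^ 2).subschemeι z) (U := ⊤) trivial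
    exact Opens.mem_iSup.mpr ⟨⟨W, hW⟩, hzW⟩
  · rw [Scheme.IdealSheafData.ideal_mul, Pi.mul_apply, Scheme.IdealSheafData.ideal_bot,
      Pi.bot_apply, Scheme.Hom.ker_apply, eq_bot_iff, Ideal.mul_le]
    intro x hx y hy
    rw [Ideal.mem_bot]
    obtain ⟨x', rfl⟩ := (I ^ 2).subschemeι.app_surjective W.1 W.2 x
    obtain ⟨y', rfl⟩ := (I ^ 2).subschemeι.app_surjective W.1 W.2 y
    have hmem : ∀ z : Γ(Y, W.1), (((I ^ 2).subschemeι.app W.1).hom z) ∈ RingHom.ker
        ((Scheme.IdealSheafData.inclusion h).app ((I ^ 2).subschemeι ⁻¹ᵁ W.1)).hom →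
        z ∈ I.ideal W := by
      intro z hz
      rw [← Scheme.IdealSheafData.ker_subschemeι_app, RingHom.mem_ker]
      rw [RingHom.mem_ker] at hz
      have h1 : ((Scheme.IdealSheafData.inclusion h ≫ (I ^ 2).subschemeι).app W.1).hom z = 0 := hz
      exact (app_eq_zero_congr hcomp W.1 z).mp h1
    have hxy : x' * y' ∈ (I ^ 2).ideal W := by
      rw [Scheme.IdealSheafData.ideal_pow, Pi.pow_apply, pow_two]
      exact Ideal.mul_mem_mul (hmem x' hx) (hmem y' hy)
    rw [← Scheme.IdealSheafData.ker_subschemeι_app, RingHom.mem_ker] at hxy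
    rw [← map_mul]
    exact hxy

theorem existsUnique_lift {X : Scheme.{u}} (U : X.Opens) (I : (U : Scheme.{u}).IdealSheafData)
    (h : I ^ 2 ≤ I) (T T' : Scheme.{u}) (j' : T ⟶ T') (b : T' ⟶ X) (a : T ⟶ I.subscheme)
    (hj' : MoreMor.IsFirstOrderThickening j') (w : j' ≫ b = a ≫ I.subschemeι ≫ U.ι) :
    ∃! a' : T' ⟶ (I ^ 2).subscheme, j' ≫ a' = a ≫ Scheme.IdealSheafData.inclusion h ∧
      a' ≫ (I ^ 2).subschemeι ≫ U.ι = b := by
  obtain ⟨⟨hci, hsurj⟩, hker⟩ := hj'
  haveI := hci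
  have hrange : Set.range b ⊆ Set.range U.ι := by
    rintro _ ⟨t', rfl⟩
    obtain ⟨t, rfl⟩ := hsurj.surj t'
    have h1 : (j' ≫ b) t = (a ≫ I.subschemeι ≫ U.ι) t := congrArg (fun φ : T ⟶ X => φ t) w
    have h2 : b (j' t) = U.ι (I.subschemeι (a t)) := h1
    rw [h2]
    exact ⟨_, rfl⟩
  obtain ⟨bU, hbU1⟩ : ∃ bU : T' ⟶ U.toScheme, bU ≫ U.ι = b :=
    ⟨IsOpenImmersion.lift U.ι b hrange, IsOpenImmersion.lift_fac _ _ _⟩
  have hbU2 : j' ≫ bU = a ≫ I.subschemeι := by
    rw [← cancel_mono U.ι, Category.assoc, hbU1, w, Category.assoc]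
  have hkerle : ((I ^ 2).subschemeι).ker ≤ bU.ker := by
    rw [Scheme.IdealSheafData.ker_subschemeι]
    unfold Scheme.Hom.ker
    rw [Scheme.IdealSheafData.le_ofIdeals_iff]
    intro W
    rw [Scheme.IdealSheafData.ideal_pow, Pi.pow_apply, pow_two, Ideal.mul_le]
    intro x hx y hy
    rw [RingHom.mem_ker, map_mul]
    have key : ∀ z ∈ I.ideal W, (j'.app (bU ⁻¹ᵁ W.1)).hom ((bU.app W.1).hom z) = 0 := by
      intro z hz
      have h1 : (I.subschemeι.app W.1).hom z = 0 := by
        rw [← RingHom.mem_ker, Scheme.IdealSheafData.ker_subschemeι_app]; exact hz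
      have h2 : ((a ≫ I.subschemeι).app W.1).hom z = 0 := by
        show (a.app _).hom ((I.subschemeι.app W.1).hom z) = 0
        rw [h1, map_zero]
      exact (app_eq_zero_congr hbU2 W.1 z).mpr h2
    refine T'.sheaf.eq_of_locally_eq'
      (fun O : {O : T'.affineOpens // O.1 ≤ bU ⁻¹ᵁ W.1} => O.1.1) (bU ⁻¹ᵁ W.1)
      (fun O => homOfLE O.2) ?_ _ 0 ?_
    · intro t ht
      obtain ⟨O, hO, htO, hOW⟩ := exists_isAffineOpen_mem_and_subset
        (X := T') (x := t) (U := bU ⁻¹ᵁ W.1) ht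
      exact Opens.mem_iSup.mpr ⟨⟨⟨O, hO⟩, hOW⟩, htO⟩
    · intro O
      show (T'.presheaf.map (homOfLE O.2).op).hom ((bU.app W.1).hom x * (bU.app W.1).hom y) =
        (T'.presheaf.map (homOfLE O.2).op).hom 0
      rw [map_zero, map_mul]
      have hmem : ∀ z ∈ I.ideal W, (T'.presheaf.map (homOfLE O.2).op).hom ((bU.app W.1).hom z) ∈
          j'.ker.ideal O.1 := by
        intro z hz
        rw [Scheme.Hom.ker_apply, RingHom.mem_ker]
        have h1 := congrArg (fun φ => φ.hom ((bU.app W.1).hom z))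
          (j'.naturality (homOfLE O.2).op)
        have h2 : (j'.app O.1.1).hom ((T'.presheaf.map (homOfLE O.2).op).hom
            ((bU.app W.1).hom z)) = (T.presheaf.map _).hom
              ((j'.app (bU ⁻¹ᵁ W.1)).hom ((bU.app W.1).hom z)) := h1
        rw [h2, key z hz, map_zero]
      have h3 : (T'.presheaf.map (homOfLE O.2).op).hom ((bU.app W.1).hom x) *
          (T'.presheaf.map (homOfLE O.2).op).hom ((bU.app W.1).hom y) ∈
          (j'.ker * j'.ker).ideal O.1 := by
        rw [Scheme.IdealSheafData.ideal_mul, Pi.mul_apply]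
        exact Ideal.mul_mem_mul (hmem x hx) (hmem y hy)
      rw [hker] at h3
      exact h3
  obtain ⟨a', ha'⟩ : ∃ a' : T' ⟶ (I ^ 2).subscheme, a' ≫ (I ^ 2).subschemeι = bU :=
    ⟨IsClosedImmersion.lift (I ^ 2).subschemeι bU hkerle, IsClosedImmersion.lift_fac _ _ _⟩
  refine ⟨a', ⟨?_, ?_⟩, ?_⟩
  · rw [← cancel_mono (I ^ 2).subschemeι, Category.assoc, ha', hbU2, Category.assoc,
      Scheme.IdealSheafData.inclusion_subschemeι]
  · rw [← Category.assoc, ha', hbU1]
  · rintro a'' ⟨-, h2⟩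
    rw [← cancel_mono ((I ^ 2).subschemeι ≫ U.ι), h2, ← Category.assoc, ha', hbU1]

theorem main {X : Scheme.{u}} (U : X.Opens) (I : (U : Scheme.{u}).IdealSheafData)
    (h : I ^ 2 ≤ I) :
    OmegaSh.IsUnivThickening (I.subschemeι ≫ U.ι) (Scheme.IdealSheafData.inclusion h)
      ((I ^ 2).subschemeι ≫ U.ι) := by
  have hker := ker_inclusion_sq I h
  have hcomp : Scheme.IdealSheafData.inclusion h ≫ (I ^ 2).subschemeι = I.subschemeι :=
    Scheme.IdealSheafData.inclusion_subschemeι h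
  haveI : IsClosedImmersion (Scheme.IdealSheafData.inclusion h ≫ (I ^ 2).subschemeι) := by
    rw [hcomp]; infer_instance
  haveI : IsClosedImmersion (Scheme.IdealSheafData.inclusion h) :=
    IsClosedImmersion.of_comp (Scheme.IdealSheafData.inclusion h) (I ^ 2).subschemeι
  refine ⟨⟨⟨inferInstance, Groth.Agent.Lib.Helper8InfNbhd.surjective_of_sqZero _ hker⟩, hker⟩,
    ?_, ?_⟩
  · rw [← Category.assoc, hcomp]
  · intro T T' j b a hj w
    exact existsUnique_lift U I h T T' j b a hj w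

end Groth.Agent.Lib.Helper8FONbhd
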