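import Mathlib
import Groth.Prelude
import Groth.Agent.Lib.Helper8CutOut
import Groth.Agent.Lib.Helper8EffCartier
import Groth.Agent.Lib.Helper20EffCartier
import Groth.Agent.S13210

set_option autoImplicit false
universe u
open CategoryTheory CategoryTheory.Limits AlgebraicGeometry Topology TopologicalSpace Opposite
open AlgSp

namespace Groth.Agent.Lib.Helper8Factor

open Groth.Agent.Lib.Helper8CutOut Groth.Agent.Lib.Helper8EffCartier Groth.Agent.S13210

variable {S : Scheme.{u}}

/-- the kernel family is monotone for factorisations. -/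
theorem idealOfRep_le_of_factor {X Z Z' : Sp S} {i : Z ⟶ X} {i' : Z' ⟶ X} (hi : Representable i)
    (hi' : Representable i') (k : Z' ⟶ Z) (hk : k ≫ i = i') : idealOfRep hi ≤ idealOfRep hi' := by
  intro E hE
  obtain ⟨W, snd, fst, sq⟩ := hi E.obj.hom
  obtain ⟨W', snd', fst', sq'⟩ := hi' E.obj.hom
  have e := idealOfRep_ideal_eq_ker hi E.obj.hom E.property sq hE
  have e' := idealOfRep_ideal_eq_ker hi' E.obj.hom E.property sq' hE
  change (idealOfRep hi).ideal (EtOver.mk E.obj.hom E.property) hE ≤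
    (idealOfRep hi').ideal (EtOver.mk E.obj.hom E.property) hE
  rw [e, e']
  have hl : (fst' ≫ k) ≫ i = (yon S).map snd' ≫ E.obj.hom := by rw [Category.assoc, hk, sq'.w]
  obtain ⟨m, hm⟩ := (yon S).map_surjective (sq.lift (fst' ≫ k) ((yon S).map snd') hl)
  have hm2 : m ≫ snd = snd' := by
    apply (yon S).map_injective
    rw [Functor.map_comp, hm]; exact sq.lift_snd _ _ _
  intro x hx
  rw [RingHom.mem_ker] at hx ⊢
  have hfac : snd'.left = m.left ≫ snd.left := by rw [← hm2]; rfl
  rw [hfac, Scheme.Hom.comp_appTop, CommRingCat.hom_comp, RingHom.comp_apply, hx, map_zero]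

set_option backward.isDefEq.respectTransparency false in
/-- membership in the kernel family on an affine open of a chart. -/
theorem mem_idealOfRep_chartOpen_iff {X Z : Sp S} {i : Z ⟶ X} (hi : Representable i)
    {V ZV : Over S} {φ : (yon S).obj V ⟶ X} (hφ : RepWith @Etale φ) {sndV : ZV ⟶ V}
    {fstV : (yon S).obj ZV ⟶ Z} (sq : IsPullback fstV ((yon S).map sndV) i φ)
    (U : V.left.Opens) (hU : IsAffineOpen U) (x : Γ(V.left, U.ι ''ᵁ ⊤)) :
    x ∈ (idealOfRep hi).ideal (chartOpen φ hφ U) hU ↔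
      (sndV.left.app (U.ι ''ᵁ ⊤)).hom x = 0 := by
  have sqSch : IsPullback (sndV.left ⁻¹ᵁ U).ι (sndV.left ∣_ U) sndV.left U.ι :=
    (isPullback_morphismRestrict sndV.left U).flip
  let OU : Over S := Over.mk (U.ι ≫ V.hom)
  let ιU : OU ⟶ V := Over.homMk U.ι rfl
  let ZU : Over S := Over.mk ((sndV.left ⁻¹ᵁ U).ι ≫ ZV.hom)
  let jU : ZU ⟶ ZV := Over.homMk (sndV.left ⁻¹ᵁ U).ι rfl
  let rU : ZU ⟶ OU := Over.homMk (sndV.left ∣_ U) (by
    change (sndV.left ∣_ U) ≫ U.ι ≫ V.hom = (sndV.left ⁻¹ᵁ U).ι ≫ ZV.hom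
    rw [← Category.assoc, ← sqSch.w, Category.assoc, Over.w sndV])
  have hw : jU ≫ sndV = rU ≫ ιU := by
    ext
    exact sqSch.w
  have sqY : IsPullback ((yon S).map jU) ((yon S).map rU) ((yon S).map sndV) ((yon S).map ιU) :=
    Groth.Agent.Lib.H5bFibCrit.isPullback_yon_of_left jU rU sndV ιU hw sqSch
  have big : IsPullback ((yon S).map jU ≫ fstV) ((yon S).map rU) i ((yon S).map ιU ≫ φ) :=
    sqY.paste_horiz sq
  have hL0 : (idealOfRep hi).ideal (chartOpen φ hφ U) hU = RingHom.ker rU.left.appTop.hom :=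
    idealOfRep_ideal_eq_ker hi _ _ big hU
  rw [hL0, RingHom.mem_ker]
  have h6 := morphismRestrict_appTop sndV.left U
  change (sndV.left ∣_ U).appTop.hom x = 0 ↔ _
  rw [h6, CommRingCat.hom_comp, RingHom.comp_apply]
  have hinj : Function.Injective (ZV.left.presheaf.map
      (eqToHom (image_morphismRestrict_preimage sndV.left U ⊤)).op).hom :=
    (ConcreteCategory.bijective_of_isIso _).1
  constructor
  · intro h; exact hinj (h.trans (map_zero _).symm)
  · intro h
    exact (congrArg (ZV.left.presheaf.map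
      (eqToHom (image_morphismRestrict_preimage sndV.left U ⊤)).op).hom h).trans (map_zero _)

/-- a morphism of sheaves all of whose base changes to schemes are isomorphisms is an
isomorphism. -/
theorem isIso_of_repWith_iso {P Q : Sp S} (f : P ⟶ Q)
    (hf : RepWith (MorphismProperty.isomorphisms Scheme.{u}) f) : IsIso f := by
  haveI : IsIso ((sheafToPresheaf _ _).map f) := by
    haveI : ∀ X, IsIso (((sheafToPresheaf _ _).map f).app X) := by
      intro X
      obtain ⟨T⟩ := X
      rw [isIso_iff_bijective]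
      constructor
      · intro x y hxy
        have hxy' : f.hom.app (op T) x = f.hom.app (op T) y := hxy
        have hab : (yEquiv T P).symm x ≫ f = (yEquiv T P).symm y ≫ f := by
          rw [yEquiv_symm_comp, yEquiv_symm_comp, hxy']
        obtain ⟨W, snd, fst, sq⟩ := hf.1 ((yEquiv T P).symm x ≫ f)
        have hiso : IsIso snd.left := hf.2 _ _ snd sq
        haveI : IsIso ((Over.forget S).map snd) := hiso
        haveI : IsIso snd := isIso_of_reflects_iso snd (Over.forget S)
        have hwa : (yEquiv T P).symm x ≫ f = 𝟙 _ ≫ (yEquiv T P).symm x ≫ f := by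
          rw [Category.id_comp]
        have hwb : (yEquiv T P).symm y ≫ f = 𝟙 _ ≫ (yEquiv T P).symm x ≫ f := by
          rw [Category.id_comp, hab]
        have ha : sq.lift _ _ hwa ≫ (yon S).map snd = 𝟙 _ := sq.lift_snd _ _ _
        have hb : sq.lift _ _ hwb ≫ (yon S).map snd = 𝟙 _ := sq.lift_snd _ _ _
        have hl : sq.lift _ _ hwa = sq.lift _ _ hwb := by
          rw [← cancel_mono ((yon S).map snd), ha, hb]
        have hab' : (yEquiv T P).symm x = (yEquiv T P).symm y := by
          rw [← sq.lift_fst _ _ hwa, ← sq.lift_fst _ _ hwb, hl]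
        exact (yEquiv T P).symm.injective hab'
      · intro z
        obtain ⟨W, snd, fst, sq⟩ := hf.1 ((yEquiv T Q).symm z)
        have hiso : IsIso snd.left := hf.2 _ _ snd sq
        haveI : IsIso ((Over.forget S).map snd) := hiso
        haveI : IsIso snd := isIso_of_reflects_iso snd (Over.forget S)
        refine ⟨yEquiv T P ((yon S).map (inv snd) ≫ fst), ?_⟩
        have h1 := yEquiv_comp ((yon S).map (inv snd) ≫ fst) f
        rw [Category.assoc, sq.w, ← Category.assoc, ← Functor.map_comp, IsIso.inv_hom_id,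
          CategoryTheory.Functor.map_id, Category.id_comp, Equiv.apply_symm_apply] at h1
        exact h1.symm
    exact NatIso.isIso_of_isIso_app _
  exact isIso_of_reflects_iso f (sheafToPresheaf _ _)

set_option backward.isDefEq.respectTransparency false in
/-- the base change of a closed subspace along a morphism from a scheme on which the ideal of
the closed subspace vanishes is an isomorphism. -/
theorem isIso_of_le {X Z : Sp S} (hX : IsAlgSpace X) {i : Z ⟶ X}
    (hi : RepWith @IsClosedImmersion i) {T : Over S} (h : (yon S).obj T ⟶ X)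
    (hh : Representable h) (hle : idealOfRep hi.1 ≤ idealOfRep hh) {ZT : Over S} {snd : ZT ⟶ T}
    {fst : (yon S).obj ZT ⟶ Z} (sq : IsPullback fst ((yon S).map snd) i h) : IsIso snd.left := by
  obtain ⟨U, p, hpe, hps⟩ := hX.atlas
  obtain ⟨TU, sndT, fstT', sqT⟩ := hpe.1 h
  obtain ⟨q, rfl⟩ := (yon S).map_surjective fstT'
  haveI hEt : Etale sndT.left := hpe.2 _ _ sndT sqT
  haveI hSu : Surjective sndT.left := hps.2 _ _ sndT sqT
  obtain ⟨ZU, sndU, fstU, sqU⟩ := hi.1 p
  haveI : IsClosedImmersion sndU.left := hi.2 _ _ sndU sqU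
  obtain ⟨fstD, sqD⟩ := exists_isPullback_ker sqU
  have hcomm : (yon S).map sndT ≫ h = (yon S).map q ≫ p := sqT.w.symm
  obtain ⟨fst'', sq'', -⟩ :=
    exists_isPullback_comap sq sndU.left.ker sqD ((yon S).map sndT) q hcomm
  have hJ : sndU.left.ker.comap q.left = ⊥ := by
    rw [eq_bot_iff]
    have key : ∀ (U'' : U.left.Opens) (hU'' : IsAffineOpen U'') (U' : U.left.Opens)
        (hU' : IsAffineOpen U'), U'' = U'.ι ''ᵁ ⊤ → ∀ (W : TU.left.Opens) (hW : IsAffineOpen W),
        W ≤ q.left ⁻¹ᵁ U'' →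
        (sndU.left.ker.comap q.left).ideal ⟨W, hW⟩ ≤ (⊥ : TU.left.IdealSheafData).ideal ⟨W, hW⟩ := by
      intro U'' hU'' U' hU' e W hW hWU
      subst e
      rw [Groth.Agent.Lib.Helper20.EffCartier.ideal_comap_eq_map q.left sndU.left.ker hW hU'' hWU,
        Ideal.map_le_iff_le_comap]
      intro x hx
      have h1 : x ∈ (idealOfRep hi.1).ideal (chartOpen p hpe U') hU' := by
        rw [← ker_ideal_eq hi hpe sqU U' hU' hU'']; exact hx
      have h2 := hle (chartOpen p hpe U') hU' h1
      have h3 := (mem_idealOfRep_chartOpen_iff hh hpe sqT.flip U' hU' x).1 h2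
      rw [Ideal.mem_comap]
      change (q.left.app (U'.ι ''ᵁ ⊤) ≫ TU.left.presheaf.map (homOfLE hWU).op).hom x ∈
        (⊥ : Ideal _)
      rw [CommRingCat.hom_comp, RingHom.comp_apply, h3, map_zero]
      exact Ideal.zero_mem _
    refine Scheme.IdealSheafData.le_of_iSup_eq_top
      (ι := {W : TU.left.affineOpens // ∃ U' : U.left.affineOpens, W.1 ≤ q.left ⁻¹ᵁ U'.1})
      (fun W => W.1) ?_ ?_
    · rw [eq_top_iff]
      intro t _
      obtain ⟨U', hU', htU', -⟩ : ∃ U' : U.left.Opens, U' ∈ U.left.affineOpens ∧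
          q.left t ∈ U' ∧ U' ≤ ⊤ :=
        (Opens.isBasis_iff_nbhd.1 U.left.isBasis_affineOpens)
          (show q.left t ∈ (⊤ : U.left.Opens) from trivial)
      obtain ⟨W, hW, htW, hWU⟩ :=
        exists_isAffineOpen_mem_and_subset (x := t) (U := q.left ⁻¹ᵁ U') htU'
      exact Opens.mem_iSup.2 ⟨⟨⟨W, hW⟩, ⟨U', hU'⟩, hWU⟩, htW⟩
    · rintro ⟨W, U', hWU⟩
      exact key U'.1 U'.2 U'.1 U'.2 (Scheme.Opens.ι_image_top _).symm W.1 W.2 hWU
  haveI hιiso : IsIso (sndU.left.ker.comap q.left).subschemeι :=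
    (Scheme.isIso_subschemeι_iff_eq_bot _).2 hJ
  obtain ⟨m, rfl⟩ := (yon S).map_surjective fst''
  have hw : m ≫ snd = (Over.homMk (sndU.left.ker.comap q.left).subschemeι rfl :
      Over.mk ((sndU.left.ker.comap q.left).subschemeι ≫ TU.hom) ⟶ TU) ≫ sndT := by
    apply (yon S).map_injective
    rw [Functor.map_comp, Functor.map_comp]
    exact sq''.w
  have sqO := IsPullback.of_map (yon S) hw sq''
  have sqSch := (sqO.map (Over.forget S)).flip
  have hQ : (@Surjective ⊓ @Flat ⊓ @LocallyOfFinitePresentation : MorphismProperty Scheme.{u})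
      sndT.left := ⟨⟨hSu, inferInstance⟩, inferInstance⟩
  exact MorphismProperty.of_isPullback_of_descendsAlong
    (P := MorphismProperty.isomorphisms Scheme.{u})
    (Q := (@Surjective ⊓ @Flat ⊓ @LocallyOfFinitePresentation : MorphismProperty Scheme.{u}))
    sqSch hQ hιiso

end Groth.Agent.Lib.Helper8Factor
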