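import Mathlib
import Groth.Prelude
import Groth.Agent.Lib.Helper8RelGZ3
import Groth.Agent.Lib.R2H4IsoDeg
import Groth.Agent.Lib.Helper23SecTw10

/-!
# Nef invertible modules on proper schemes over a Noetherian ring with fibres of dimension `≤ 1` and
`H¹(O) = 0` (helper8)

Generalisation of `Helper8RelGZ3`: the only input from the closed fibres is `FibreGood`
(vanishing of `H¹` and global generation of the restriction to every closed fibre).
* `subsingleton_HH_of_fibreGood`, `exists_section_of_fibreGood`;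
* `isNef_fibre`: relative nefness restricts to nefness on the closed fibres;
* `main_nef`: `L` relatively nef ⇒ `L` globally generated and `H¹(X, L) = 0`.
-/

set_option autoImplicit false
set_option linter.style.haveILetI false
set_option linter.unusedSectionVars false
set_option linter.unusedVariables false
universe u

open CategoryTheory CategoryTheory.Limits AlgebraicGeometry TopologicalSpace Opposite

namespace Groth.Agent.Lib.Helper8RelGZ4

open Groth.Agent.Lib.R2H2.HHLin Groth.Agent.Lib.R2H2.PnLinRes Groth.Agent.Lib.R2H2.PnSerre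
open Groth.Agent.Lib.R2H3.TopBCB Groth.Agent.Lib.R2H3.FibDimLimD
open Groth.Agent.Lib.Helper8NormGen Groth.Agent.Lib.Helper8RelNG Groth.Agent.Lib.Helper8RelGZ1
  Groth.Agent.Lib.Helper8RelGZ2 Groth.Agent.Lib.Helper8RelGZ3

attribute [local instance] Groth.Agent.Lib.R2H3.RpushRestrict.hasInjectiveResolutions_modules

section Main

variable (A : Type u) [CommRing A] [IsNoetherianRing A] {X : Scheme.{u}}
  (f : X ⟶ Spec (CommRingCat.of A)) [IsProper f]

/-- the restriction of `L` to every closed fibre has vanishing `H¹` and is globally generated -/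
def FibreGood (L : X.Modules) : Prop :=
  ∀ (m : Ideal A), m.IsMaximal →
    Subsingleton (Coh.HH (pullback f (Spec.map (CommRingCat.ofHom (Ideal.Quotient.mk m))))
      ((Scheme.Modules.pullback
        (pullback.fst f (Spec.map (CommRingCat.ofHom (Ideal.Quotient.mk m))))).obj L) 1) ∧
    Curv2.IsGloballyGenerated ((Scheme.Modules.pullback
        (pullback.fst f (Spec.map (CommRingCat.ofHom (Ideal.Quotient.mk m))))).obj L)

variable (hfib : ∀ y : ↥(Spec (CommRingCat.of A)), topologicalKrullDim ↥(f.fiber y) ≤ 1)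
  (L : X.Modules) (hL : PicF.IsInvertible L) (hg : FibreGood A f L)

include hfib hL hg in
/-- `H¹(X, L) = 0` -/
theorem subsingleton_HH_of_fibreGood : Subsingleton (Coh.HH X L 1) := by
  haveI := isNoetherian_of_proper A f
  have hfd : ∀ x, FlatMor.fibreDimAt f x ≤ 1 :=
    Groth.Agent.Lib.R2H3.FibDimLimB.fibreDimAt_le_of_fiber f 1 (by simpa using hfib)
  obtain ⟨L', hL', ⟨e⟩⟩ := Groth.Agent.Lib.R2H4InvExists.exists_inverse L hL
  let e' : (DCoh.tensorBi.obj L').obj L ≅ Coh.structureModule X :=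
    Iso.trans (Groth.Agent.Lib.R2H3.NegTwist.braidMod L' L) e
  letI : X.Over (Spec (CommRingCat.of A)) := ⟨f⟩
  haveI : IsProper (X ↘ Spec (CommRingCat.of A)) := ‹IsProper f›
  have hLc : Coh.IsCoh L := Groth.Agent.Lib.R2H1.CurveDegSec.isCoh_of_isInvertible L hL
  haveI := Groth.Agent.Lib.R2H1.EulerAdd.finite_HH A X L hLc 1
  apply subsingleton_of_forall_maximal (A := A)
  intro m hm x
  letI := Ideal.Quotient.field m
  let π : A →+* A ⧸ m := Ideal.Quotient.mk m
  have hπ : Function.Surjective π := Ideal.Quotient.mk_surjective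
  let g := Spec.map (CommRingCat.ofHom π)
  let X' := pullback f g
  let κ : X' ⟶ X := pullback.fst f g
  let f' : X' ⟶ Spec (CommRingCat.of (A ⧸ m)) := pullback.snd f g
  have sq : IsPullback κ f' f g := IsPullback.of_hasPullback f g
  haveI := isClosedImmersion_of_sq A (A ⧸ m) π hπ f f' κ sq
  obtain ⟨h0', -⟩ := hg m hm
  have hGq : ((Scheme.Modules.pullback κ).obj L).IsQuasicoherent := by
    haveI : L.IsQuasicoherent := hLc.1
    exact Groth.Agent.Lib.Helper20.PullbackAff.isQuasicoherent_pullback κ L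
  have hOq' : (Coh.structureModule X').IsQuasicoherent := isQCoh_structureModule X'
  have hq : Coh.IsQCoh ((DCoh.tensorBi.obj ((Scheme.Modules.pullback κ).obj L)).obj
      (Coh.structureModule X')) :=
    @Groth.Agent.Lib.Helper23.TensorQCoh.isQuasicoherent_tensorMod _ _ _ hGq hOq'
  have h0a : Subsingleton (Coh.HH X' ((DCoh.tensorBi.obj ((Scheme.Modules.pullback κ).obj L)).obj
      (Coh.structureModule X')) 1) :=
    subsingleton_HH_of_iso
      (Groth.Agent.Lib.Helper23.TensorUnit.tensorUnitIso ((Scheme.Modules.pullback κ).obj L)).symm 1 h0'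
  have h0b := (Groth.Agent.Lib.R2H2.ClosedPn.subsingleton_HH_push_iff κ _ hq 1).mp h0a
  have h0 : Subsingleton (Coh.HH X ((DCoh.tensorBi.obj L).obj
      ((Scheme.Modules.pushforward κ).obj (Coh.structureModule X'))) 1) :=
    subsingleton_HH_of_iso
      ((Groth.Agent.Lib.R2H2.ClosedPn.projIso κ L L' e e').app (Coh.structureModule X')) 1 h0b
  obtain ⟨r, a, ha⟩ := exists_gens A m
  have ha' : Ideal.span (Set.range a) = RingHom.ker π := by
    rw [ha]
    exact (Ideal.mk_ker).symm
  let iso := Groth.Agent.Lib.Helper23.TensorUnit.tensorUnitIso L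
  obtain ⟨y, hy⟩ := exists_sum_smul A (A ⧸ m) π hπ f hfd f' κ sq r a ha' L hL h0
    (HmapL iso.inv 1 x)
  have hx : x = ∑ j, a j • HmapL iso.hom 1 (y j) := by
    have h2 : x = HmapL iso.hom 1 (HmapL iso.inv 1 x) := by
      rw [← HmapL_comp, Iso.inv_hom_id, HmapL_id]
    have h3 : HmapL iso.hom 1 (∑ j, Coh.toGlobal f (a j) • y j) =
        ∑ j, HmapL iso.hom 1 (Coh.toGlobal f (a j) • y j) := map_sum (HmapL iso.hom 1) _ _
    have h4 : ∀ j, HmapL iso.hom 1 (Coh.toGlobal f (a j) • y j) = a j • HmapL iso.hom 1 (y j) :=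
      fun j => (HmapL iso.hom 1).map_smul _ _
    exact h2.trans ((congrArg (HmapL iso.hom 1) hy).trans
      (h3.trans (Finset.sum_congr rfl (fun j _ => h4 j))))
  rw [hx]
  refine Submodule.sum_mem _ (fun j _ => Submodule.smul_mem_smul ?_ trivial)
  rw [← ha]
  exact Ideal.subset_span ⟨j, rfl⟩

include hfib hL hg in
/-- at a closed point some global section generates `L` -/
theorem exists_section_closed_of_fibreGood (x : X) (hx : IsClosed ({x} : Set X)) :
    ∃ s : Coh.structureModule X ⟶ L, x ∈ CohB1.genLocus L s := by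
  haveI := isNoetherian_of_proper A f
  have hfd : ∀ x, FlatMor.fibreDimAt f x ≤ 1 :=
    Groth.Agent.Lib.R2H3.FibDimLimB.fibreDimAt_le_of_fiber f 1 (by simpa using hfib)
  obtain ⟨L', hL', ⟨e⟩⟩ := Groth.Agent.Lib.R2H4InvExists.exists_inverse L hL
  let e' : (DCoh.tensorBi.obj L').obj L ≅ Coh.structureModule X :=
    Iso.trans (Groth.Agent.Lib.R2H3.NegTwist.braidMod L' L) e
  have hL1 : Subsingleton (Coh.HH X L 1) := subsingleton_HH_of_fibreGood A f hfib L hL hg
  let y : PrimeSpectrum A := f x
  have hy : IsClosed ({y} : Set (PrimeSpectrum A)) := by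
    have h2 := f.isClosedMap _ hx
    rwa [Set.image_singleton] at h2
  let m : Ideal A := y.asIdeal
  have hm : m.IsMaximal := (PrimeSpectrum.isClosed_singleton_iff_isMaximal _).mp hy
  letI := Ideal.Quotient.field m
  let π : A →+* A ⧸ m := Ideal.Quotient.mk m
  have hπ : Function.Surjective π := Ideal.Quotient.mk_surjective
  let g := Spec.map (CommRingCat.ofHom π)
  let X' := pullback f g
  let κ : X' ⟶ X := pullback.fst f g
  let f' : X' ⟶ Spec (CommRingCat.of (A ⧸ m)) := pullback.snd f g
  have sq : IsPullback κ f' f g := IsPullback.of_hasPullback f g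
  haveI := isClosedImmersion_of_sq A (A ⧸ m) π hπ f f' κ sq
  obtain ⟨-, hgg⟩ := hg m hm
  have hxr : x ∈ Set.range κ := by
    rw [Scheme.Pullback.range_fst]
    change y ∈ Set.range (PrimeSpectrum.comap π)
    rw [_root_.range_comap_of_surjective _ π hπ, PrimeSpectrum.mem_zeroLocus]
    intro z hz
    have : z ∈ m := by
      have h3 : RingHom.ker π = m := Ideal.mk_ker
      rw [← h3]
      exact hz
    exact this
  obtain ⟨x', hx'⟩ := hxr
  have hinv : PicF.IsInvertible ((Scheme.Modules.pullback κ).obj L) :=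
    Groth.Agent.Lib.Helper23.PB.isInvertible_pullback (f := κ) L hL
  obtain ⟨t', ht'⟩ := Groth.Agent.Lib.Helper23.GG.exists_section_mem_genLocus _ hinv hgg x'
  have h1T : Subsingleton (Coh.HH X ((DCoh.tensorBi.obj L).obj (Coh.structureModule X)) 1) :=
    subsingleton_HH_of_iso (Groth.Agent.Lib.Helper23.TensorUnit.tensorUnitIso L).symm 1 hL1
  obtain ⟨r, a, ha⟩ := exists_gens A m
  have ha' : Ideal.span (Set.range a) = RingHom.ker π := by
    rw [ha]
    exact (Ideal.mk_ker).symm
  have hlift := fun v =>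
    exists_lift_section A (A ⧸ m) π hπ f hfd f' κ sq r a ha' L hL h1T v
  obtain ⟨s, hs⟩ := exists_section_restrict κ L L' hL e e' hlift t'
  refine ⟨s, ?_⟩
  rw [hs] at ht'
  rw [← hx']
  exact ht'

include hfib hL hg in
/-- `L` is generated by global sections -/
theorem exists_section_of_fibreGood (x : X) :
    ∃ s : Coh.structureModule X ⟶ L, x ∈ CohB1.genLocus L s := by
  haveI : CompactSpace X := QuasiCompact.compactSpace_of_compactSpace f
  by_contra hcon
  push Not at hcon
  let U : X.Opens := ⨆ s : Coh.structureModule X ⟶ L, CohB1.genLocus L s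
  have hxU : x ∉ U := by
    intro hx
    obtain ⟨s, hs⟩ := Opens.mem_iSup.mp hx
    exact hcon s hs
  have hc : IsClosed ((U : Set X)ᶜ) := U.isOpen.isClosed_compl
  obtain ⟨z, hz, hzc⟩ := hc.exists_closed_singleton ⟨x, hxU⟩
  obtain ⟨s, hs⟩ := exists_section_closed_of_fibreGood A f hfib L hL hg z hzc
  exact hz (Opens.mem_iSup.mpr ⟨s, hs⟩)

end Main

section Nef

variable (A k : Type u) [CommRing A] [Field k] (π : A →+* k)
  {X X' : Scheme.{u}} (f : X ⟶ Spec (CommRingCat.of A)) [IsProper f]
  (f' : X' ⟶ Spec (CommRingCat.of k)) [IsProper f'] (κ : X' ⟶ X) [IsClosedImmersion κ]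
  (w : κ ≫ f = f' ≫ Spec.map (CommRingCat.ofHom π))
  (L : X.Modules) (hL : PicF.IsInvertible L)

include w hL in
/-- relative nefness restricts to nefness on a closed fibre -/
theorem isNef_fibre
    (hnef : ∀ (K : Type u) [Field K] (i : A →+* K) (J : X.IdealSheafData)
      (t : J.subscheme ⟶ Spec (CommRingCat.of K)),
      AlgebraicGeometry.IsIntegral J.subscheme → topologicalKrullDim ↥J.subscheme = 1 →
      t ≫ Spec.map (CommRingCat.ofHom i) = J.subschemeι ≫ f →
      0 ≤ @Curv2.deg K _ J.subscheme ⟨t⟩ ((Scheme.Modules.pullback J.subschemeι).obj L) 1) :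
    @Groth.Agent.Lib.Helper8NefGZ.IsNef k _ X' ⟨f'⟩ ((Scheme.Modules.pullback κ).obj L) := by
  letI : X'.Over (Spec (CommRingCat.of k)) := ⟨f'⟩
  intro J' hJ' hd
  let C' : Scheme.{u} := J'.subscheme
  let g : C' ⟶ X := J'.subschemeι ≫ κ
  haveI : IsClosedImmersion g := inferInstanceAs (IsClosedImmersion (J'.subschemeι ≫ κ))
  let J : X.IdealSheafData := g.ker
  let φ : C' ⟶ J.subscheme := g.toImage
  haveI : IsIso φ := inferInstanceAs (IsIso g.toImage)
  have hφ : φ ≫ J.subschemeι = g := g.toImage_imageι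
  let t : J.subscheme ⟶ Spec (CommRingCat.of k) := inv φ ≫ J'.subschemeι ≫ f'
  have ht : t ≫ Spec.map (CommRingCat.ofHom π) = J.subschemeι ≫ f := by
    change (inv φ ≫ J'.subschemeι ≫ f') ≫ Spec.map (CommRingCat.ofHom π) = J.subschemeι ≫ f
    simp only [Category.assoc]
    rw [IsIso.inv_comp_eq, ← w, ← Category.assoc, ← Category.assoc]
    exact congrArg (fun m => m ≫ f) hφ.symm
  haveI : Nonempty J.subscheme := by
    haveI := hJ'
    obtain ⟨c⟩ := (inferInstance : Nonempty C')
    exact ⟨φ c⟩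
  have hCint : AlgebraicGeometry.IsIntegral J.subscheme := by
    haveI := hJ'
    exact isIntegral_of_isOpenImmersion (inv φ)
  have hCd : topologicalKrullDim ↥J.subscheme = 1 := by
    rw [← hd]
    exact (IsHomeomorph.topologicalKrullDim_eq _ φ.homeomorph.isHomeomorph).symm
  have h0 := hnef k π J t hCint hCd ht
  letI iC : J.subscheme.Over (Spec (CommRingCat.of k)) := ⟨t⟩
  letI iC' : C'.Over (Spec (CommRingCat.of k)) := ⟨J'.subschemeι ≫ f'⟩
  haveI : IsProper (J.subscheme ↘ Spec (CommRingCat.of k)) :=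
    inferInstanceAs (IsProper (inv φ ≫ J'.subschemeι ≫ f'))
  haveI : IsProper (C' ↘ Spec (CommRingCat.of k)) :=
    inferInstanceAs (IsProper (J'.subschemeι ≫ f'))
  have hφk : φ ≫ (J.subscheme ↘ Spec (CommRingCat.of k)) = C' ↘ Spec (CommRingCat.of k) := by
    change φ ≫ inv φ ≫ J'.subschemeι ≫ f' = J'.subschemeι ≫ f'
    rw [IsIso.hom_inv_id_assoc]
  haveI hLq : L.IsQuasicoherent := Groth.Agent.Lib.Helper23.SecTw.isQuasicoherent_of_isInvertible L hL
  have hq : Coh.IsQCoh ((Scheme.Modules.pullback J.subschemeι).obj L) :=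
    Groth.Agent.Lib.Helper20.PullbackAff.isQuasicoherent_pullback J.subschemeι L
  have h1 := Groth.Agent.Lib.R2H4IsoDeg.deg_pullback_iso k φ hφk
    ((Scheme.Modules.pullback J.subschemeι).obj L) hq
  let e1 : (Scheme.Modules.pullback φ).obj ((Scheme.Modules.pullback J.subschemeι).obj L) ≅
      (Scheme.Modules.pullback J'.subschemeι).obj ((Scheme.Modules.pullback κ).obj L) :=
    (Scheme.Modules.pullbackComp φ J.subschemeι).app L ≪≫
      (Scheme.Modules.pullbackCongr hφ).app L ≪≫
      ((Scheme.Modules.pullbackComp J'.subschemeι κ).app L).symm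
  haveI := hJ'
  have h2 := Groth.Agent.Lib.R2H1.CurveAmple.deg_congr k C' e1 1
  change 0 ≤ Curv2.deg k C' ((Scheme.Modules.pullback J'.subschemeι).obj
    ((Scheme.Modules.pullback κ).obj L)) 1
  rw [← h2, h1]
  exact h0

end Nef

section MainNef

variable (A : Type u) [CommRing A] [IsNoetherianRing A] {X : Scheme.{u}}
  (f : X ⟶ Spec (CommRingCat.of A)) [IsProper f]
  (h1 : Subsingleton (Coh.HH X (Coh.structureModule X) 1))
  (hfib : ∀ y : ↥(Spec (CommRingCat.of A)), topologicalKrullDim ↥(f.fiber y) ≤ 1)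
  (L : X.Modules) (hL : PicF.IsInvertible L)
  (hnef : ∀ (K : Type u) [Field K] (i : A →+* K) (J : X.IdealSheafData)
      (t : J.subscheme ⟶ Spec (CommRingCat.of K)),
      AlgebraicGeometry.IsIntegral J.subscheme → topologicalKrullDim ↥J.subscheme = 1 →
      t ≫ Spec.map (CommRingCat.ofHom i) = J.subschemeι ≫ f →
      0 ≤ @Curv2.deg K _ J.subscheme ⟨t⟩ ((Scheme.Modules.pullback J.subschemeι).obj L) 1)

include h1 hfib hL hnef in
theorem fibreGood_of_nef : FibreGood A f L := by
  intro m hm
  have hfd : ∀ x, FlatMor.fibreDimAt f x ≤ 1 :=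
    Groth.Agent.Lib.R2H3.FibDimLimB.fibreDimAt_le_of_fiber f 1 (by simpa using hfib)
  letI := Ideal.Quotient.field m
  let π : A →+* A ⧸ m := Ideal.Quotient.mk m
  have hπ : Function.Surjective π := Ideal.Quotient.mk_surjective
  let g := Spec.map (CommRingCat.ofHom π)
  let X' := pullback f g
  let κ : X' ⟶ X := pullback.fst f g
  let f' : X' ⟶ Spec (CommRingCat.of (A ⧸ m)) := pullback.snd f g
  have sq : IsPullback κ f' f g := IsPullback.of_hasPullback f g
  haveI := isClosedImmersion_of_sq A (A ⧸ m) π hπ f f' κ sq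
  haveI hp : IsProper f' := MorphismProperty.of_isPullback (P := @IsProper) sq inferInstance
  letI : X'.Over (Spec (CommRingCat.of (A ⧸ m))) := ⟨f'⟩
  haveI : IsProper (X' ↘ Spec (CommRingCat.of (A ⧸ m))) := hp
  have hdim' : topologicalKrullDim X' ≤ 1 := dim_fibre_le A (A ⧸ m) π f f' κ sq hfib
  have h1' : Subsingleton (Coh.HH X' (Coh.structureModule X') 1) :=
    subsingleton_HH_of_closed A (A ⧸ m) π hπ f 1 hfd f' κ sq h1
  have hinv : PicF.IsInvertible ((Scheme.Modules.pullback κ).obj L) :=
    Groth.Agent.Lib.Helper23.PB.isInvertible_pullback (f := κ) L hL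
  have hnef' := isNef_fibre A (A ⧸ m) π f f' κ sq.w L hL hnef
  exact Groth.Agent.Lib.Helper8NefGZ.main (A ⧸ m) X' hdim' h1' _ hinv hnef'

include h1 hfib hL hnef in
/-- **relatively nef ⇒ globally generated with vanishing `H¹`** -/
theorem main_nef : Curv2.IsGloballyGenerated L ∧ Subsingleton (Coh.HH X L 1) := by
  have hg := fibreGood_of_nef A f h1 hfib L hL hnef
  exact ⟨Groth.Agent.Lib.Helper23.SecTw.isGloballyGenerated_of_forall_mem_genLocus L
    (exists_section_of_fibreGood A f hfib L hL hg),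
    subsingleton_HH_of_fibreGood A f hfib L hL hg⟩

end MainNef

end Groth.Agent.Lib.Helper8RelGZ4
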