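import Mathlib
import Groth.Prelude
import Groth.Agent.Lib.Helper8RelGZ4
import Groth.Agent.Lib.Helper23SecTw10
import Groth.Agent.Lib.Helper23SecTw7

/-!
# Fibrewise trivial invertible modules over a Noetherian affine base, fibres of dimension `≤ 1`
with `H¹(O) = 0` (helper8)

`exists_nhd_section`: `f : X ⟶ Spec A` proper (not necessarily flat), fibres of dimension `≤ 1`, `L`
invertible on `X` whose restriction to every canonical closed fibre `X_m` is trivial and
`H¹(X_m, O) = 0`.  Then for every maximal ideal `m` there is a global section of `L` generating `L`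
over the preimage of a neighbourhood of `m`.
-/

set_option autoImplicit false
set_option linter.style.haveILetI false
set_option linter.unusedSectionVars false
set_option linter.unusedVariables false
universe u

open CategoryTheory CategoryTheory.Limits AlgebraicGeometry TopologicalSpace Opposite

namespace Groth.Agent.Lib.Helper8FibTriv1

open Groth.Agent.Lib.R2H2.HHLin Groth.Agent.Lib.R2H2.PnLinRes Groth.Agent.Lib.R2H2.PnSerre
open Groth.Agent.Lib.R2H3.TopBCB Groth.Agent.Lib.R2H3.FibDimLimD
open Groth.Agent.Lib.Helper8NormGen Groth.Agent.Lib.Helper8RelNG Groth.Agent.Lib.Helper8RelGZ1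
  Groth.Agent.Lib.Helper8RelGZ2 Groth.Agent.Lib.Helper8RelGZ3 Groth.Agent.Lib.Helper8RelGZ4

attribute [local instance] Groth.Agent.Lib.R2H3.RpushRestrict.hasInjectiveResolutions_modules

section Main

variable (A : Type u) [CommRing A] [IsNoetherianRing A] {X : Scheme.{u}}
  (f : X ⟶ Spec (CommRingCat.of A)) [IsProper f]

/-- the restriction of `L` to every canonical closed fibre is trivial, and `H¹` of the structure
sheaf of that fibre vanishes -/
def FibreTriv (L : X.Modules) : Prop :=
  ∀ (m : Ideal A), m.IsMaximal →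
    Subsingleton (Coh.HH (pullback f (Spec.map (CommRingCat.ofHom (Ideal.Quotient.mk m))))
      (Coh.structureModule (pullback f (Spec.map (CommRingCat.ofHom (Ideal.Quotient.mk m))))) 1) ∧
    Nonempty ((Scheme.Modules.pullback
        (pullback.fst f (Spec.map (CommRingCat.ofHom (Ideal.Quotient.mk m))))).obj L ≅
      Coh.structureModule (pullback f (Spec.map (CommRingCat.ofHom (Ideal.Quotient.mk m)))))

variable (hfib : ∀ y : ↥(Spec (CommRingCat.of A)), topologicalKrullDim ↥(f.fiber y) ≤ 1)
  (L : X.Modules) (hL : PicF.IsInvertible L) (hg : FibreTriv A f L)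

include hg in
theorem fibreGood_of_fibreTriv : FibreGood A f L := by
  intro m hm
  obtain ⟨h1, ⟨ε⟩⟩ := hg m hm
  refine ⟨(Groth.Agent.Lib.R2H3.TopBCD.subsingleton_HH_congr ε 1).2 h1, ?_⟩
  refine Groth.Agent.Lib.R2H2.ClosedPn.isGloballyGenerated_of_iso ε.symm ?_
  refine Groth.Agent.Lib.Helper23.SecTw.isGloballyGenerated_of_forall_mem_genLocus _ (fun x => ?_)
  refine ⟨𝟙 _, ?_⟩
  rw [(Groth.Agent.Lib.H9YBlowUp.isIso_iff_genLocus_eq_top _ (𝟙 (Coh.structureModule _))).mp
    inferInstance]
  trivial

include hfib hL hg in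
/-- for every maximal ideal `m` some global section generates `L` over the preimage of a
neighbourhood of `m` -/
theorem exists_nhd_section (m : Ideal A) (hm : m.IsMaximal) :
    ∃ (U : (Spec (CommRingCat.of A)).Opens) (s : Coh.structureModule X ⟶ L),
      (⟨m, hm.isPrime⟩ : PrimeSpectrum A) ∈ U ∧ f ⁻¹ᵁ U ≤ CohB1.genLocus L s := by
  haveI := isNoetherian_of_proper A f
  have hfd : ∀ x, FlatMor.fibreDimAt f x ≤ 1 :=
    Groth.Agent.Lib.R2H3.FibDimLimB.fibreDimAt_le_of_fiber f 1 (by simpa using hfib)
  obtain ⟨L', hL', ⟨e⟩⟩ := Groth.Agent.Lib.R2H4InvExists.exists_inverse L hL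
  let e' : (DCoh.tensorBi.obj L').obj L ≅ Coh.structureModule X :=
    Iso.trans (Groth.Agent.Lib.R2H3.NegTwist.braidMod L' L) e
  have hgood := fibreGood_of_fibreTriv A f L hg
  have hL1 : Subsingleton (Coh.HH X L 1) := subsingleton_HH_of_fibreGood A f hfib L hL hgood
  letI := Ideal.Quotient.field m
  let π : A →+* A ⧸ m := Ideal.Quotient.mk m
  have hπ : Function.Surjective π := Ideal.Quotient.mk_surjective
  let g := Spec.map (CommRingCat.ofHom π)
  let X' := pullback f g
  let κ : X' ⟶ X := pullback.fst f g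
  let f' : X' ⟶ Spec (CommRingCat.of (A ⧸ m)) := pullback.snd f g
  have sq : IsPullback κ f' f g := IsPullback.of_hasPullback f g
  haveI := isClosedImmersion_of_sq A (A ⧸ m) π hπ f f' κ sq
  obtain ⟨-, ⟨ε⟩⟩ := hg m hm
  have h1T : Subsingleton (Coh.HH X ((DCoh.tensorBi.obj L).obj (Coh.structureModule X)) 1) :=
    subsingleton_HH_of_iso (Groth.Agent.Lib.Helper23.TensorUnit.tensorUnitIso L).symm 1 hL1
  obtain ⟨r, a, ha⟩ := exists_gens A m
  have ha' : Ideal.span (Set.range a) = RingHom.ker π := by
    rw [ha]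
    exact (Ideal.mk_ker).symm
  have hlift := fun v =>
    exists_lift_section A (A ⧸ m) π hπ f hfd f' κ sq r a ha' L hL h1T v
  obtain ⟨s, hs⟩ := exists_section_restrict κ L L' hL e e' hlift ε.inv
  have htop : CohB1.genLocus ((Scheme.Modules.pullback κ).obj L) ε.inv = ⊤ :=
    (Groth.Agent.Lib.H9YBlowUp.isIso_iff_genLocus_eq_top _ ε.inv).mp inferInstance
  -- the closed fibre lies in the generating locus of `s`
  have hrange : ∀ x : X, f x = (⟨m, hm.isPrime⟩ : PrimeSpectrum A) → x ∈ CohB1.genLocus L s := by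
    intro x hx
    have hy : (⟨m, hm.isPrime⟩ : PrimeSpectrum A) ∈ Set.range (PrimeSpectrum.comap π) := by
      rw [_root_.range_comap_of_surjective _ π hπ, PrimeSpectrum.mem_zeroLocus]
      intro z hz
      have : z ∈ m := by
        have h3 : RingHom.ker π = m := Ideal.mk_ker
        rw [← h3]
        exact hz
      exact this
    have hxr : x ∈ Set.range κ := by
      rw [Scheme.Pullback.range_fst]
      change f x ∈ Set.range (PrimeSpectrum.comap π)
      rw [hx]
      exact hy
    obtain ⟨x', hx'⟩ := hxr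
    have h2 : x' ∈ κ ⁻¹ᵁ CohB1.genLocus L s := by
      rw [← hs, htop]
      trivial
    rw [← hx']
    exact h2
  -- `f` is closed
  have hcl : IsClosed (f '' ((CohB1.genLocus L s : X.Opens) : Set X)ᶜ) :=
    f.isClosedMap _ (CohB1.genLocus L s).isOpen.isClosed_compl
  refine ⟨⟨(f '' ((CohB1.genLocus L s : X.Opens) : Set X)ᶜ)ᶜ, hcl.isOpen_compl⟩, s, ?_, ?_⟩
  · rintro ⟨x, hx, hfx⟩
    exact hx (hrange x hfx)
  · intro x hx
    by_contra hxs
    exact hx ⟨x, hxs, rfl⟩

end Main

end Groth.Agent.Lib.Helper8FibTriv1
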