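import Mathlib
import Groth.Prelude
import Groth.Agent.Lib.Helper8FibTriv1
import Groth.Agent.Lib.R2H3TopBCE
import Groth.Agent.Lib.Helper23RestrJ
import Groth.Agent.Lib.Helper4FibDimG
import Groth.Agent.Lib.R2H4FibTriv

/-!
# Fibrewise trivial invertible modules: proper (non-flat) morphisms with fibres of dimension `≤ 1`
and `H¹(X_y, O) = 0` (helper8)

* `fibreTriv_XA`: the hypotheses on the fibres `f.fiber y` give `FibreTriv` over affine opens of the base;
* `exists_local_gen`: `L` is generated by one section over the preimage of a neighbourhood of any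
  point of the base;
* `push_invertible`: `f_* L` is invertible and `f^* f_* L ⟶ L` is an isomorphism (`O_Y ≅ f_* O_X`).
-/

set_option autoImplicit false
set_option linter.style.haveILetI false
set_option linter.unusedSectionVars false
set_option linter.unusedVariables false
universe u

open CategoryTheory CategoryTheory.Limits AlgebraicGeometry TopologicalSpace Opposite

namespace Groth.Agent.Lib.Helper8FibTriv2

open Groth.Agent.Lib.R2H3.TopBCD Groth.Agent.Lib.R2H3.TopBCE Groth.Agent.Lib.R2H3.FibDimLimD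
open Groth.Agent.Lib.Helper8FibTriv1
open Groth.Agent.Lib.Helper23.SecTw Groth.Agent.Lib.Helper23.GenLocus Groth.Agent.Lib.Helper6

variable {X Y : Scheme.{u}} (f : X ⟶ Y) [IsProper f]
  (hdim : ∀ y : Y, topologicalKrullDim ↥(f.fiber y) ≤ 1)
  (hH1 : ∀ y : Y, Subsingleton (Coh.HH (f.fiber y) (Coh.structureModule (f.fiber y)) 1))
  (L : X.Modules) (hL : PicF.IsInvertible L)
  (htriv : ∀ y : Y, Nonempty ((Scheme.Modules.pullback (f.fiberι y)).obj L ≅
    Coh.structureModule (f.fiber y)))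
  {V : Y.Opens} (hV : IsAffineOpen V)

include hdim hH1 htriv in
theorem fibreTriv_XA [IsNoetherianRing Γ(Y, V)] :
    FibreTriv Γ(Y, V) (fA f hV) (L.restrict (pullback.fst f hV.fromSpec)) := by
  intro m hm
  letI := Ideal.Quotient.field m
  let g : Spec (CommRingCat.of (Γ(Y, V) ⧸ m)) ⟶ Spec (CommRingCat.of Γ(Y, V)) :=
    Spec.map (CommRingCat.ofHom (Ideal.Quotient.mk m))
  let t : Spec (CommRingCat.of (Γ(Y, V) ⧸ m)) ⟶ Y := g ≫ hV.fromSpec
  have ht : Set.range t ⊆ (V : Set Y) := by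
    rintro _ ⟨z, rfl⟩
    have h1 : hV.fromSpec (g z) ∈ Set.range hV.fromSpec := ⟨_, rfl⟩
    rw [hV.range_fromSpec] at h1
    exact h1
  let j := pullback.fst f hV.fromSpec
  let κ := pullback.fst (fA f hV) g
  let fT := pullback.snd (fA f hV) g
  have sq : IsPullback (κ ≫ j) fT f t :=
    IsPullback.paste_horiz (IsPullback.of_hasPullback (fA f hV) g)
      (IsPullback.of_hasPullback f hV.fromSpec)
  have hVg : V ≤ goodLocus f 1 := fun y _ => hdim y
  constructor
  · haveI := subsingleton_MA_of_fibres f 1 hV hVg (fun y _ => hH1 y)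
    exact (subsingleton_HH_iff_TV f 1 hV t ht hVg (κ ≫ j) fT sq).mpr (TV.of_subsingleton _)
  · have hfac := Scheme.descResidueField_stalkClosedPointTo_fromSpecResidueField
      (Γ(Y, V) ⧸ m) Y t
    let y : Y := t (IsLocalRing.closedPoint (Γ(Y, V) ⧸ m))
    let φ := Scheme.descResidueField (Scheme.stalkClosedPointTo t)
    let θ : pullback (fA f hV) g ⟶ f.fiber y :=
      pullback.lift (κ ≫ j) (fT ≫ Spec.map φ) (by
        have h2 : (fT ≫ Spec.map φ) ≫ Y.fromSpecResidueField y = fT ≫ t := by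
          rw [Category.assoc]
          exact congrArg (fun q => fT ≫ q) hfac
        rw [h2]
        exact sq.w)
    have hθ : θ ≫ f.fiberι y = κ ≫ j := pullback.lift_fst _ _ _
    obtain ⟨ε⟩ := htriv y
    exact ⟨(Scheme.Modules.pullback κ).mapIso ((Scheme.Modules.restrictFunctorIsoPullback j).app L) ≪≫
      (Scheme.Modules.pullbackComp κ j).app L ≪≫ (Scheme.Modules.pullbackCongr hθ.symm).app L ≪≫
      ((Scheme.Modules.pullbackComp θ (f.fiberι y)).app L).symm ≪≫
      (Scheme.Modules.pullback θ).mapIso ε ≪≫ Groth.Agent.Lib.Helper23.PB.pullbackUnitIso θ⟩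

theorem exists_isGen_of_eq {W W' : X.Opens} (h : W = W') (t : Γ(L, W)) (ht : IsGen L W t) :
    ∃ t' : Γ(L, W'), IsGen L W' t' := by
  subst h
  exact ⟨t, ht⟩

include hdim hH1 hL htriv in
/-- `L` is generated by a single section over the preimage of a neighbourhood of any point of `Y` -/
theorem exists_local_gen [IsLocallyNoetherian Y] (y : Y) :
    ∃ (U : Y.Opens) (_ : y ∈ U) (t : Γ(L, f ⁻¹ᵁ U)), IsGen L (f ⁻¹ᵁ U) t := by
  obtain ⟨V, hV', hyV, -⟩ : ∃ V : Y.Opens, V ∈ Y.affineOpens ∧ y ∈ V ∧ V ≤ ⊤ :=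
    (Opens.isBasis_iff_nbhd.1 Y.isBasis_affineOpens) (show y ∈ (⊤ : Y.Opens) from trivial)
  have hV : IsAffineOpen V := hV'
  haveI : IsNoetherianRing Γ(Y, V) := IsLocallyNoetherian.component_noetherian ⟨V, hV⟩
  let p : PrimeSpectrum Γ(Y, V) := hV.primeIdealOf ⟨y, hyV⟩
  have hp : hV.fromSpec p = y := hV.fromSpec_primeIdealOf ⟨y, hyV⟩
  obtain ⟨m, hm, hpm⟩ := Ideal.exists_le_maximal p.asIdeal p.isPrime.ne_top
  let j := pullback.fst f hV.fromSpec
  have hLA : PicF.IsInvertible (L.restrict j) :=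
    Groth.Agent.Lib.Helper23.RestrJ.isInvertible_restrict j L hL
  have hVg : V ≤ goodLocus f 1 := fun y _ => hdim y
  have hfibA : ∀ z : ↥(Spec (CommRingCat.of Γ(Y, V))),
      topologicalKrullDim ↥((fA f hV).fiber z) ≤ 1 := fun z =>
    (Groth.Agent.Lib.Helper4.FibDim.topologicalKrullDim_fiber_le_iff (fA f hV) z 1).2
      (fun x _ => fibreDimAt_fA_le f 1 hV hVg x)
  obtain ⟨UA, s, hmU, hle⟩ := exists_nhd_section Γ(Y, V) (fA f hV) hfibA (L.restrict j) hLA
    (fibreTriv_XA f hdim hH1 L htriv hV) m hm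
  have hpU : p ∈ UA := by
    have hsp : p ⤳ (⟨m, hm.isPrime⟩ : PrimeSpectrum Γ(Y, V)) :=
      (PrimeSpectrum.le_iff_specializes p ⟨m, hm.isPrime⟩).mp hpm
    exact hsp.mem_open UA.isOpen hmU
  have hW : j ''ᵁ ((fA f hV) ⁻¹ᵁ UA) = f ⁻¹ᵁ (hV.fromSpec ''ᵁ UA) := by
    ext x
    constructor
    · rintro ⟨z, hz, rfl⟩
      refine ⟨fA f hV z, hz, ?_⟩
      have h1 : (fA f hV ≫ hV.fromSpec) z = (j ≫ f) z := by
        rw [← pullback.condition]
      exact h1
    · rintro ⟨a, ha, hax⟩
      obtain ⟨z, hz1, hz2⟩ := Scheme.Pullback.exists_preimage_pullback x a hax.symm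
      have hz3 : fA f hV z ∈ UA := by
        have : fA f hV z = a := hz2
        rw [this]
        exact ha
      exact ⟨z, hz3, hz1⟩
  have hgen : IsGen (L.restrict j) ((fA f hV) ⁻¹ᵁ UA) (sv s ((fA f hV) ⁻¹ᵁ UA)) := by
    have h1 := (isGen_sv_genLocus (L.restrict j) s).mono hle
    rwa [res_sv] at h1
  have hgenX := Groth.Agent.Lib.Helper23.RestrJ.isGen_of_isGen_restrict j L
    ((fA f hV) ⁻¹ᵁ UA) (sv s ((fA f hV) ⁻¹ᵁ UA)) hgen
  obtain ⟨t', ht'⟩ := exists_isGen_of_eq L hW _ hgenX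
  exact ⟨hV.fromSpec ''ᵁ UA, ⟨p, hpU, hp⟩, t', ht'⟩

include hdim hH1 hL htriv in
/-- the direct image of a fibrewise trivial invertible module is invertible -/
theorem push_invertible [IsLocallyNoetherian Y] (hO : ∀ U : Y.Opens, IsIso (f.app U)) :
    PicF.IsInvertible ((Scheme.Modules.pushforward f).obj L) ∧
      IsIso ((Scheme.Modules.pullbackPushforwardAdjunction f).counit.app L) :=
  Groth.Agent.Lib.R2H4FibTriv.push_invertible_of_local_gen f hO L
    (exists_local_gen f hdim hH1 L hL htriv)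

/-- `f^*` is injective on isomorphism classes of invertible modules when `O_Y ≅ f_* O_X` -/
theorem pullback_injective {X Y : Scheme.{u}} (f : X ⟶ Y) (hO : ∀ U : Y.Opens, IsIso (f.app U))
    (N N' : Y.Modules) (hN : PicF.IsInvertible N) (hN' : PicF.IsInvertible N')
    (e : (Scheme.Modules.pullback f).obj N ≅ (Scheme.Modules.pullback f).obj N') :
    Nonempty (N ≅ N') := by
  haveI := Groth.Agent.Lib.R2H4FibTriv.isIso_unit_of_isInvertible f hO N hN
  haveI := Groth.Agent.Lib.R2H4FibTriv.isIso_unit_of_isInvertible f hO N' hN'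
  exact ⟨asIso ((Scheme.Modules.pullbackPushforwardAdjunction f).unit.app N) ≪≫
    (Scheme.Modules.pushforward f).mapIso e ≪≫
    (asIso ((Scheme.Modules.pullbackPushforwardAdjunction f).unit.app N')).symm⟩

end Groth.Agent.Lib.Helper8FibTriv2
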