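import Mathlib
import Groth.Prelude
import Groth.Agent.Lib.Helper23SecTw9
import Groth.Agent.Lib.R2H3QProj
import Groth.Agent.Lib.Helper23AmpleIso

/-!
# Invariant affine opens for a finite group acting on a quasi-projective scheme (helper8, S16124)
-/

set_option autoImplicit false
universe u
open CategoryTheory CategoryTheory.Limits AlgebraicGeometry

namespace Groth.Agent.Lib.Helper8FinGrpAffine

lemma mem_iInf_fin {X : Scheme.{u}} {ι : Type*} [Finite ι] (U : ι → X.Opens) (y : X) :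
    y ∈ ⨅ i, U i ↔ ∀ i, y ∈ U i := by
  rw [← SetLike.mem_coe, TopologicalSpace.Opens.coe_iInf, Set.mem_iInter]
  rfl

/-- A finite group of automorphisms of a separated quasi-compact scheme with an ample invertible
module: every point has an invariant affine open neighbourhood. -/
theorem exists_invariant_affine {X : Scheme.{u}} [CompactSpace X]
    [IsAffineHom (pullback.diagonal (terminal.from X))] (L : X.Modules) (hL : CohB1.IsAmple L)
    (Γgrp : Type u) [Group Γgrp] [Finite Γgrp] (ρ : Γgrp →* Aut X) (x : X) :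
    ∃ U : X.Opens, x ∈ U ∧ IsAffineOpen U ∧ ∀ σ : Γgrp, (ρ σ).hom ⁻¹ᵁ U = U := by
  let Z : Set X := Set.range (fun σ : Γgrp => (ρ σ).hom x)
  have hZ : Z.Finite := Set.finite_range _
  obtain ⟨n, s, hZs, -, haff⟩ :=
    Groth.Agent.Lib.Helper23.SecTw.exists_affine_genLocus_of_finite L hL Z hZ ⊤ (fun _ _ => trivial)
  set V : X.Opens := CohB1.genLocus _ s with hV
  refine ⟨⨅ σ : Γgrp, (ρ σ).hom ⁻¹ᵁ V, ?_, ?_, ?_⟩
  · rw [mem_iInf_fin]
    intro σ
    exact hZs ⟨σ, rfl⟩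
  · exact IsAffineOpen.iInf fun σ => haff.preimage_of_isIso (ρ σ).hom
  · intro σ
    ext y
    change (ρ σ).hom y ∈ (⨅ τ : Γgrp, (ρ τ).hom ⁻¹ᵁ V) ↔ y ∈ (⨅ τ : Γgrp, (ρ τ).hom ⁻¹ᵁ V)
    rw [mem_iInf_fin, mem_iInf_fin]
    constructor
    · intro h τ
      have h1 := h (τ * σ⁻¹)
      rw [map_mul] at h1
      have : ((ρ τ * ρ σ⁻¹ : Aut X).hom) ((ρ σ).hom y) = (ρ τ).hom y := by
        change ((ρ σ⁻¹).hom ≫ (ρ τ).hom) ((ρ σ).hom y) = _
        rw [Scheme.Hom.comp_apply, ← Scheme.Hom.comp_apply (ρ σ).hom (ρ σ⁻¹).hom]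
        have h2 : (ρ σ).hom ≫ (ρ σ⁻¹).hom = 𝟙 X := by
          change (ρ σ⁻¹ * ρ σ : Aut X).hom = 𝟙 X
          rw [← map_mul, inv_mul_cancel, map_one]
          rfl
        rw [h2]
        rfl
      have h3 : (ρ τ * ρ σ⁻¹ : Aut X).hom ((ρ σ).hom y) ∈ V := h1
      rwa [this] at h3
    · intro h τ
      have h1 := h (τ * σ)
      rw [map_mul] at h1
      exact h1

end Groth.Agent.Lib.Helper8FinGrpAffine
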