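import Mathlib

/-!
# Algebra for finite subgroup schemes of `𝔾_a` and `𝔾_m` over a field (helper8)

* `additive_of_closed`: a monic polynomial of positive degree over a field whose zero set is
  stable under addition in every algebra is additive.
* `eval₂_eq_pow_sub_one`: a monic polynomial `g` of positive degree with `g(0) ≠ 0` whose zero set
  is stable under multiplication in every algebra is `X ^ d - 1`.
* the endomorphisms `p ↦ p ∘ f` of `K[X]` and `T ↦ T ^ d` of `K[T;T⁻¹]` are injective, integral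
  and flat.
-/

set_option autoImplicit false
universe u

open Polynomial

namespace Groth.Agent.Lib.Helper8FinSubAlg

section AdjoinRoot

variable {Λ : Type u} [CommRing Λ]

lemma mk_eq_eval₂ (F p : Λ[X]) :
    AdjoinRoot.mk F p = eval₂ (AdjoinRoot.of F) (AdjoinRoot.root F) p := by
  rw [← AdjoinRoot.aeval_eq, aeval_def, AdjoinRoot.algebraMap_eq]

lemma dvd_of_eval₂_root {F p : Λ[X]}
    (h : eval₂ (AdjoinRoot.of F) (AdjoinRoot.root F) p = 0) : F ∣ p := by
  rw [← AdjoinRoot.mk_eq_zero, mk_eq_eval₂]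
  exact h

end AdjoinRoot

section Additive

variable {K : Type u} [Field K]

/-- the zero set of `f` is closed under addition, in every `K`-algebra. -/
def Closed (f : K[X]) : Prop :=
  ∀ (Λ : Type u) [CommRing Λ] (σ : K →+* Λ) (c₁ c₂ : Λ),
    eval₂ σ c₁ f = 0 → eval₂ σ c₂ f = 0 → eval₂ σ (c₁ + c₂) f = 0

lemma eval₂_root_map (f : K[X]) {Λ : Type u} [CommRing Λ] (σ : K →+* Λ) :
    eval₂ ((AdjoinRoot.of (f.map σ)).comp σ) (AdjoinRoot.root (f.map σ)) f = 0 := by
  rw [← eval₂_map]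
  exact AdjoinRoot.eval₂_root _

theorem inv_of_closed {f : K[X]} (hf : f.Monic) (hc : Closed f) {Λ : Type u} [CommRing Λ]
    (σ : K →+* Λ) (c₁ c₂ : Λ) (h1 : eval₂ σ c₁ f = 0) :
    eval₂ σ (c₁ + c₂) f = eval₂ σ c₂ f := by
  have hFm : (f.map σ).Monic := hf.map σ
  have hT : (taylor c₁ (f.map σ)).Monic := by
    rw [Monic.def, leadingCoeff_taylor]
    exact hFm
  have hdvd : f.map σ ∣ taylor c₁ (f.map σ) := by
    apply dvd_of_eval₂_root
    rw [taylor_apply, eval₂_comp, eval₂_add, eval₂_X, eval₂_C, eval₂_map, add_comm]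
    apply hc
    · rw [← hom_eval₂, h1, map_zero]
    · exact eval₂_root_map f σ
  have key : taylor c₁ (f.map σ) = f.map σ :=
    eq_of_monic_of_dvd_of_natDegree_le hFm hT hdvd (by rw [natDegree_taylor])
  rw [← eval_map, ← eval_map, add_comm, ← taylor_eval, key]

theorem additive_of_closed {f : K[X]} (hf : f.Monic) (hd : 0 < f.natDegree) (hc : Closed f)
    {Λ : Type u} [CommRing Λ] (σ : K →+* Λ) (c₁ c₂ : Λ) :
    eval₂ σ (c₁ + c₂) f = eval₂ σ c₁ f + eval₂ σ c₂ f := by
  rcases subsingleton_or_nontrivial Λ with hΛ | hΛ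
  · exact Subsingleton.elim _ _
  have hFm : (f.map σ).Monic := hf.map σ
  have hnat : (f.map σ).natDegree = f.natDegree := hf.natDegree_map σ
  obtain ⟨P, hP⟩ : ∃ P : Λ[X], P = taylor c₂ (f.map σ) - f.map σ - C (eval c₂ (f.map σ)) :=
    ⟨_, rfl⟩
  have hdvd : f.map σ ∣ P := by
    apply dvd_of_eval₂_root
    rw [hP, eval₂_sub, eval₂_sub, eval₂_C, AdjoinRoot.eval₂_root, sub_zero,
      taylor_apply, eval₂_comp, eval₂_add, eval₂_X, eval₂_C, eval₂_map,
      inv_of_closed hf hc _ _ _ (eval₂_root_map f σ), ← hom_eval₂, eval_map, sub_self]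
  have hdeg : P.degree < (f.map σ).degree := by
    have h1 : (taylor c₂ (f.map σ) - f.map σ).degree < (f.map σ).degree :=
      degree_sub_lt_right (degree_taylor _ _) hFm.ne_zero (by rw [leadingCoeff_taylor])
    have h2 : (C (eval c₂ (f.map σ))).degree < (f.map σ).degree :=
      lt_of_le_of_lt degree_C_le (by rw [← natDegree_pos_iff_degree_pos, hnat]; exact hd)
    rw [hP]
    exact lt_of_le_of_lt (degree_sub_le _ _) (max_lt h1 h2)
  have hP0 : P = 0 := by
    by_contra hne
    exact hFm.not_dvd_of_degree_lt hne hdeg hdvd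
  have h3 := congrArg (eval c₁) hP0
  rw [hP, eval_sub, eval_sub, eval_C, taylor_eval, eval_zero, eval_map, eval_map, eval_map] at h3
  linear_combination h3

end Additive

section Multiplicative

variable {K : Type u} [Field K]

/-- the zero set of `g` is closed under multiplication, in every `K`-algebra. -/
def MClosed (g : K[X]) : Prop :=
  ∀ (Λ : Type u) [CommRing Λ] (σ : K →+* Λ) (c₁ c₂ : Λ),
    eval₂ σ c₁ g = 0 → eval₂ σ c₂ g = 0 → eval₂ σ (c₁ * c₂) g = 0

theorem isUnit_of_root {g : K[X]} (h0 : g.coeff 0 ≠ 0) {Λ : Type*} [CommRing Λ] (σ : K →+* Λ)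
    (c : Λ) (hc : eval₂ σ c g = 0) : IsUnit c := by
  have h := congrArg (eval₂ σ c) (X_mul_divX_add g)
  rw [eval₂_add, eval₂_mul, eval₂_X, eval₂_C, hc] at h
  have h2 : σ (g.coeff 0) * σ (g.coeff 0)⁻¹ = 1 := by
    rw [← map_mul, mul_inv_cancel₀ h0, map_one]
  refine IsUnit.of_mul_eq_one (-(eval₂ σ c g.divX) * σ (g.coeff 0)⁻¹) ?_
  linear_combination (-(σ (g.coeff 0)⁻¹)) * h + h2

lemma comp_C_mul_X_eq {B : Type*} [CommRing B] [Nontrivial B] {G : B[X]} (hG : G.Monic) (β : B)
    (hdvd : G ∣ G.comp (C β * X)) : G.comp (C β * X) = C (β ^ G.natDegree) * G := by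
  have hQ : G ∣ G.comp (C β * X) - C (β ^ G.natDegree) * G := dvd_sub hdvd (dvd_mul_left _ _)
  have hdeg : (G.comp (C β * X) - C (β ^ G.natDegree) * G).degree < G.degree := by
    rw [degree_eq_natDegree hG.ne_zero, degree_lt_iff_coeff_zero]
    intro m hm
    rw [coeff_sub, comp_C_mul_X_coeff, coeff_C_mul]
    rcases hm.eq_or_lt with rfl | hlt
    · rw [hG.coeff_natDegree]
      ring
    · rw [coeff_eq_zero_of_natDegree_lt hlt]
      ring
  by_contra hne
  exact hG.not_dvd_of_degree_lt (sub_ne_zero.mpr hne) hdeg hQ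

theorem root_pow_eq_one {g : K[X]} (hg : g.Monic) (hd : 0 < g.natDegree) (h0 : g.coeff 0 ≠ 0)
    (hc : MClosed g) : (AdjoinRoot.root g) ^ g.natDegree = 1 := by
  haveI : Nontrivial (AdjoinRoot g) :=
    AdjoinRoot.nontrivial g (natDegree_pos_iff_degree_pos.mp hd).ne'
  have hGm : (g.map (AdjoinRoot.of g)).Monic := hg.map _
  have hnat : (g.map (AdjoinRoot.of g)).natDegree = g.natDegree := hg.natDegree_map _
  have hdvd : g.map (AdjoinRoot.of g) ∣
      (g.map (AdjoinRoot.of g)).comp (C (AdjoinRoot.root g) * X) := by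
    apply dvd_of_eval₂_root
    rw [eval₂_comp, eval₂_mul, eval₂_C, eval₂_X, eval₂_map]
    apply hc
    · rw [← hom_eval₂, AdjoinRoot.eval₂_root, map_zero]
    · exact eval₂_root_map g (AdjoinRoot.of g)
  have h := congrArg (fun p => p.coeff 0) (comp_C_mul_X_eq hGm (AdjoinRoot.root g) hdvd)
  simp only [comp_C_mul_X_coeff, coeff_C_mul, pow_zero, mul_one, coeff_map] at h
  rw [hnat] at h
  have hu : IsUnit (AdjoinRoot.of g (g.coeff 0)) := (IsUnit.mk0 _ h0).map (AdjoinRoot.of g)
  exact hu.mul_right_cancel (by rw [one_mul]; exact h.symm)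

theorem eq_X_pow_sub_one {g : K[X]} (hg : g.Monic) (hd : 0 < g.natDegree) (h0 : g.coeff 0 ≠ 0)
    (hc : MClosed g) : g = X ^ g.natDegree - C 1 := by
  have hβ := root_pow_eq_one hg hd h0 hc
  have hdvd : g ∣ X ^ g.natDegree - C 1 := by
    apply dvd_of_eval₂_root
    rw [eval₂_sub, eval₂_pow, eval₂_X, eval₂_C, hβ, map_one, sub_self]
  exact (eq_of_monic_of_dvd_of_natDegree_le hg (monic_X_pow_sub_C 1 hd.ne') hdvd
    (by rw [natDegree_X_pow_sub_C])).symm

theorem eval₂_eq_pow_sub_one {g : K[X]} (hg : g.Monic) (hd : 0 < g.natDegree)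
    (h0 : g.coeff 0 ≠ 0) (hc : MClosed g) {Λ : Type*} [CommRing Λ] (σ : K →+* Λ) (c : Λ) :
    eval₂ σ c g = c ^ g.natDegree - 1 := by
  have h := congrArg (eval₂ σ c) (eq_X_pow_sub_one hg hd h0 hc)
  rw [h, eval₂_sub, eval₂_pow, eval₂_X, eval₂_C, map_one]

end Multiplicative

section MinPoly

variable {K : Type u} [Field K]

/-- a generator of the kernel of evaluation at an integral element. -/
lemma exists_gen {A : Type*} [CommRing A] [Nontrivial A] (σ : K →+* A) (b : A)
    (hb : σ.IsIntegralElem b) :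
    ∃ f : K[X], f.Monic ∧ 0 < f.natDegree ∧ eval₂ σ b f = 0 ∧
      ∀ p : K[X], eval₂ σ b p = 0 → f ∣ p := by
  letI : Algebra K A := σ.toAlgebra
  have hb' : IsIntegral K b := hb
  refine ⟨minpoly K b, minpoly.monic hb', minpoly.natDegree_pos hb', ?_, ?_⟩
  · exact minpoly.aeval K b
  · intro p hp
    exact minpoly.dvd K b hp

lemma coeff_zero_ne_zero {A : Type*} [CommRing A] (σ : K →+* A) (b : A) (hb : IsUnit b)
    (g : K[X]) (hg : g.Monic) (h0 : eval₂ σ b g = 0)
    (hmin : ∀ p : K[X], eval₂ σ b p = 0 → g ∣ p) : g.coeff 0 ≠ 0 := by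
  intro hc
  have h := congrArg (eval₂ σ b) (X_mul_divX_add g)
  rw [hc, C_0, add_zero, eval₂_mul, eval₂_X, h0] at h
  have h2 : eval₂ σ b g.divX = 0 := hb.mul_right_eq_zero.mp h
  have hdv := hmin _ h2
  have hne : g.divX ≠ 0 := by
    intro h3
    have h4 := X_mul_divX_add g
    rw [h3, hc, mul_zero, C_0, add_zero] at h4
    exact hg.ne_zero h4.symm
  exact hg.not_dvd_of_degree_lt hne (degree_divX_lt hg.ne_zero) hdv

end MinPoly

section Flat

lemma flat_of_injective {A B : Type*} [CommRing A] [IsDedekindDomain A] [CommRing B]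
    [IsDomain B] (ψ : A →+* B) (hψ : Function.Injective ψ) : ψ.Flat := by
  letI : Algebra A B := ψ.toAlgebra
  haveI : Module.IsTorsionFree A B := Module.IsTorsionFree.of_smul_eq_zero (fun r m h => by
    rw [Algebra.smul_def, RingHom.algebraMap_toAlgebra] at h
    rcases mul_eq_zero.mp h with h | h
    · left
      exact (map_eq_zero_iff ψ hψ).mp h
    · right
      exact h)
  show Module.Flat A B
  infer_instance

lemma isIntegralElem_pow {R S : Type*} [CommRing R] [CommRing S] (ψ : R →+* S) {x : S}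
    (hx : ψ.IsIntegralElem x) (n : ℕ) : ψ.IsIntegralElem (x ^ n) := by
  induction n with
  | zero =>
    rw [pow_zero, ← map_one ψ]
    exact ψ.isIntegralElem_map
  | succ n ih =>
    rw [pow_succ]
    exact RingHom.IsIntegralElem.mul ψ ih hx

end Flat

section PolyEnd

variable {K : Type u} [Field K]

/-- the endomorphism `p ↦ p ∘ f` of `K[X]`. -/
noncomputable def polyEnd (f : K[X]) : K[X] →+* K[X] := eval₂RingHom C f

lemma polyEnd_C (f : K[X]) (k : K) : polyEnd f (C k) = C k := by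
  simp [polyEnd]

lemma polyEnd_X (f : K[X]) : polyEnd f X = f := by
  simp [polyEnd]

lemma polyEnd_apply (f p : K[X]) : polyEnd f p = p.comp f := rfl

lemma polyEnd_injective {f : K[X]} (hd : 0 < f.natDegree) : Function.Injective (polyEnd f) := by
  rw [injective_iff_map_eq_zero]
  intro p hp
  rw [polyEnd_apply, comp_eq_zero_iff] at hp
  rcases hp with hp | ⟨-, hf⟩
  · exact hp
  · exfalso
    rw [hf, natDegree_C] at hd
    exact lt_irrefl _ hd

lemma polyEnd_isIntegral {f : K[X]} (hf : f.Monic) (hd : 0 < f.natDegree) :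
    (polyEnd f).IsIntegral := by
  have hX : (polyEnd f).IsIntegralElem X := by
    refine ⟨f.map C - C X, ?_, ?_⟩
    · apply (hf.map C).sub_of_left
      refine lt_of_le_of_lt degree_C_le ?_
      rw [← natDegree_pos_iff_degree_pos, hf.natDegree_map C]
      exact hd
    · have hC : (polyEnd f).comp C = C := RingHom.ext fun k => polyEnd_C f k
      rw [eval₂_sub, eval₂_C, eval₂_map, polyEnd_X, hC, eval₂_C_X, sub_self]
  intro p
  refine Polynomial.induction_on p ?_ ?_ ?_
  · intro a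
    rw [← polyEnd_C f a]
    exact (polyEnd f).isIntegralElem_map
  · intro p q hp hq
    exact RingHom.IsIntegralElem.add _ hp hq
  · intro n a h
    rw [pow_succ, ← mul_assoc]
    exact RingHom.IsIntegralElem.mul _ h hX

lemma polyEnd_flat {f : K[X]} (hd : 0 < f.natDegree) : (polyEnd f).Flat :=
  flat_of_injective _ (polyEnd_injective hd)

end PolyEnd

section LaurEnd

open scoped LaurentPolynomial

variable {K : Type u} [Field K]

/-- the unit `T` of `K[T;T⁻¹]`. -/
noncomputable def tU : (K[T;T⁻¹])ˣ := (LaurentPolynomial.isUnit_T (R := K) 1).unit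

lemma tU_val : ((tU : (K[T;T⁻¹])ˣ) : K[T;T⁻¹]) = LaurentPolynomial.T 1 := rfl

lemma tU_inv_val : ((tU⁻¹ : (K[T;T⁻¹])ˣ) : K[T;T⁻¹]) = LaurentPolynomial.T (-1) := by
  apply Units.inv_eq_of_mul_eq_one_right
  rw [tU_val, ← LaurentPolynomial.T_add, add_neg_cancel, LaurentPolynomial.T_zero]

/-- the endomorphism `T ↦ T ^ d` of `K[T;T⁻¹]`. -/
noncomputable def laurEnd (d : ℕ) : K[T;T⁻¹] →+* K[T;T⁻¹] :=
  LaurentPolynomial.eval₂ LaurentPolynomial.C (tU ^ d)

lemma laurEnd_C (d : ℕ) (k : K) :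
    laurEnd d (LaurentPolynomial.C k) = LaurentPolynomial.C k :=
  LaurentPolynomial.eval₂_C _ _ _

lemma laurEnd_T_one (d : ℕ) :
    laurEnd d (LaurentPolynomial.T 1 : K[T;T⁻¹]) = LaurentPolynomial.T 1 ^ d := by
  rw [laurEnd, LaurentPolynomial.eval₂_T, zpow_one, Units.val_pow_eq_pow_val, tU_val]

lemma laurEnd_T_neg_one (d : ℕ) :
    laurEnd d (LaurentPolynomial.T (-1) : K[T;T⁻¹]) = LaurentPolynomial.T (-1) ^ d := by
  rw [laurEnd, LaurentPolynomial.eval₂_T, zpow_neg_one, ← inv_pow, Units.val_pow_eq_pow_val,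
    tU_inv_val]

lemma laurent_hom_ext {S : Type*} [Semiring S] (φ₁ φ₂ : K[T;T⁻¹] →+* S)
    (hC : ∀ k : K, φ₁ (LaurentPolynomial.C k) = φ₂ (LaurentPolynomial.C k))
    (hT : φ₁ (LaurentPolynomial.T 1) = φ₂ (LaurentPolynomial.T 1)) : φ₁ = φ₂ := by
  apply IsLocalization.ringHom_ext (Submonoid.powers (Polynomial.X : K[X]))
  apply Polynomial.ringHom_ext
  · intro a
    simp only [RingHom.comp_apply, LaurentPolynomial.algebraMap_eq_toLaurent,
      Polynomial.toLaurent_C]
    exact hC a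
  · simp only [RingHom.comp_apply, LaurentPolynomial.algebraMap_eq_toLaurent,
      Polynomial.toLaurent_X]
    exact hT

lemma laurEnd_isIntegral {d : ℕ} (hd : 0 < d) : (laurEnd (K := K) d).IsIntegral := by
  have key : ∀ x : K[T;T⁻¹], laurEnd d x = x ^ d → (laurEnd d).IsIntegralElem x := by
    intro x hx
    refine ⟨Polynomial.X ^ d - Polynomial.C x, Polynomial.monic_X_pow_sub_C x hd.ne', ?_⟩
    rw [Polynomial.eval₂_sub, Polynomial.eval₂_pow, Polynomial.eval₂_X, Polynomial.eval₂_C, hx,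
      sub_self]
  have h1 := key (LaurentPolynomial.T 1) (laurEnd_T_one d)
  have h2 := key (LaurentPolynomial.T (-1)) (laurEnd_T_neg_one d)
  intro p
  refine LaurentPolynomial.induction_on' p
    (fun p q hp hq => RingHom.IsIntegralElem.add _ hp hq) ?_
  intro n a
  refine RingHom.IsIntegralElem.mul _ ?_ ?_
  · rw [← laurEnd_C d a]
    exact (laurEnd d).isIntegralElem_map
  · obtain ⟨m, rfl | rfl⟩ := Int.eq_nat_or_neg n
    · have h3 : (LaurentPolynomial.T (m : ℤ) : K[T;T⁻¹]) = LaurentPolynomial.T 1 ^ m := by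
        rw [LaurentPolynomial.T_pow, mul_one]
      rw [h3]
      exact isIntegralElem_pow _ h1 m
    · have h3 : (LaurentPolynomial.T (-(m : ℤ)) : K[T;T⁻¹]) = LaurentPolynomial.T (-1) ^ m := by
        rw [LaurentPolynomial.T_pow, mul_neg, mul_one]
      rw [h3]
      exact isIntegralElem_pow _ h2 m

lemma laurEnd_toLaurent (d : ℕ) (p : K[X]) :
    laurEnd d (Polynomial.toLaurent p) = Polynomial.toLaurent (Polynomial.expand K d p) := by
  have h1 : (Polynomial.toLaurent (R := K)).comp Polynomial.C = LaurentPolynomial.C :=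
    RingHom.ext fun k => Polynomial.toLaurent_C k
  have h2 : Polynomial.toLaurent (Polynomial.X ^ d : K[X]) =
      ((tU ^ d : (K[T;T⁻¹])ˣ) : K[T;T⁻¹]) := by
    rw [map_pow, Polynomial.toLaurent_X, Units.val_pow_eq_pow_val, tU_val]
  rw [laurEnd, LaurentPolynomial.eval₂_toLaurent, Polynomial.coe_expand, Polynomial.hom_eval₂,
    h1, h2]

lemma laurEnd_injective {d : ℕ} (hd : 0 < d) : Function.Injective (laurEnd (K := K) d) := by
  rw [injective_iff_map_eq_zero]
  intro p hp
  obtain ⟨n, p', hp'⟩ := LaurentPolynomial.exists_T_pow p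
  have h1 : laurEnd d (Polynomial.toLaurent p') = 0 := by
    rw [hp', map_mul, hp, zero_mul]
  rw [laurEnd_toLaurent] at h1
  have h2 : Polynomial.expand K d p' = 0 :=
    Polynomial.toLaurent_injective (by rw [h1, map_zero])
  have h3 : p' = 0 := (Polynomial.expand_eq_zero hd).mp h2
  rw [h3, map_zero] at hp'
  exact (LaurentPolynomial.isUnit_T (n : ℤ)).mul_left_eq_zero.mp hp'.symm

instance : IsDedekindDomain K[T;T⁻¹] :=
  IsLocalization.isDedekindDomain K[X]
    (powers_le_nonZeroDivisors_of_noZeroDivisors Polynomial.X_ne_zero) K[T;T⁻¹]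

lemma laurEnd_flat {d : ℕ} (hd : 0 < d) : (laurEnd (K := K) d).Flat :=
  flat_of_injective _ (laurEnd_injective hd)

end LaurEnd

end Groth.Agent.Lib.Helper8FinSubAlg
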