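import Mathlib
import Groth.Prelude.Def_Red2
import Groth.Agent.Lib.Helper27GaGm
import Groth.Agent.Lib.H6xDSPts
import Groth.Agent.Lib.Helper8FinSubAlg

/-!
# Quotients of `𝔾_a` and `𝔾_m` over a field by finite subgroup schemes (helper8)

For a field `K` and a finite subgroup scheme `H` of `G = 𝔾_a` or `𝔾_m` over `K`, there is a flat
surjective endomorphism of `G` with kernel `H`: `x ↦ f(x)` for the (additive) monic generator `f`
of the ideal of `H` in the case of `𝔾_a`, and `x ↦ x ^ d` in the case of `𝔾_m`.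
-/

set_option autoImplicit false
universe u

open CategoryTheory MonoidalCategory CartesianMonoidalCategory AlgebraicGeometry
  CategoryTheory.Limits
open scoped MonObj Polynomial LaurentPolynomial
open Groth.Agent.Lib.Helper27.GaGm Groth.Agent.Lib.Helper8FinSubAlg

namespace Groth.Agent.Lib.Helper8FinSub

/-- `Spec K`. -/
noncomputable abbrev SK (K : Type u) [Field K] : Scheme.{u} := Spec (CommRingCat.of K)

section Basic

variable {K : Type u} [Field K]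

/-- the structure map `K → Γ(T)`. -/
noncomputable def strHom (T : Over (SK K)) : K →+* Γ(T.left, ⊤) := fnHom (A := K) T.hom

/-- pull-back of functions. -/
noncomputable def pb {T T' : Over (SK K)} (g : T' ⟶ T) : Γ(T.left, ⊤) →+* Γ(T'.left, ⊤) :=
  g.left.appTop.hom

lemma pb_strHom {T T' : Over (SK K)} (g : T' ⟶ T) (k : K) :
    pb g (strHom T k) = strHom T' k := by
  have h := fn_comp g.left T.hom k
  have hw : fn (g.left ≫ T.hom) k = fn T'.hom k := congrArg (fun y => fn y k) (Over.w g)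
  exact h.symm.trans hw

lemma pb_comp_apply {T T' T'' : Over (SK K)} (g : T'' ⟶ T') (h : T' ⟶ T) (r : Γ(T.left, ⊤)) :
    pb (g ≫ h) r = pb g (pb h r) := by
  unfold pb
  rw [Over.comp_left, Scheme.Hom.comp_appTop]
  rfl

lemma pb_id_apply (T : Over (SK K)) (r : Γ(T.left, ⊤)) : pb (𝟙 T) r = r := by
  unfold pb
  rw [Over.id_left, Scheme.Hom.id_appTop]
  rfl

lemma gaFn_comp' {T T' : Over (SK K)} (g : T' ⟶ T) (x : T ⟶ Red.Ga (SK K)) :
    Red.gaFn (g ≫ x) = pb g (Red.gaFn x) := gaFn_comp g x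

lemma gmFn_comp' {T T' : Over (SK K)} (g : T' ⟶ T) (x : T ⟶ Red.Gm (SK K)) :
    Red.gmFn (g ≫ x) = pb g (Red.gmFn x) := gmFn_comp g x

/-- `Spec R` as a `K`-scheme, for a ring homomorphism `σ : K → R`. -/
noncomputable abbrev SpecO {R : Type u} [CommRing R] (σ : K →+* R) : Over (SK K) :=
  Over.mk (Spec.map (CommRingCat.ofHom σ))

variable {R : Type u} [CommRing R] {σ : K →+* R} {T T' : Over (SK K)}

instance : IsAffine (SpecO σ).left := inferInstanceAs (IsAffine (Spec (CommRingCat.of R)))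

/-- evaluation of elements of `R` at a point of `Spec R`. -/
noncomputable def ev (y : T ⟶ SpecO σ) : R →+* Γ(T.left, ⊤) := fnHom (A := R) y.left

lemma ev_sigma (y : T ⟶ SpecO σ) (k : K) : ev y (σ k) = strHom T k := by
  have h := fn_specMap y.left σ k
  have hw : fn (y.left ≫ Spec.map (CommRingCat.ofHom σ)) k = fn T.hom k :=
    congrArg (fun z => fn z k) (Over.w y)
  exact h.symm.trans hw

lemma ev_comp (g : T' ⟶ T) (y : T ⟶ SpecO σ) (r : R) : ev (g ≫ y) r = pb g (ev y r) :=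
  fn_comp g.left y.left r

lemma ev_ext (y y' : T ⟶ SpecO σ) (h : ∀ r, ev y r = ev y' r) : y = y' := by
  apply Over.OverMorphism.ext
  exact fn_ext y.left y'.left h

lemma exists_pt (ρ : R →+* Γ(T.left, ⊤)) (hρ : ∀ k, ρ (σ k) = strHom T k) :
    ∃ y : T ⟶ SpecO σ, ∀ r, ev y r = ρ r := by
  obtain ⟨y, hy⟩ := fn_surj ρ
  have hw : y ≫ Spec.map (CommRingCat.ofHom σ) = T.hom := by
    apply fn_ext
    intro k
    exact (fn_specMap y σ k).trans ((hy (σ k)).trans (hρ k))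
  exact ⟨Over.homMk y hw, hy⟩

/-- the tautological identification `R → Γ(Spec R)`. -/
noncomputable def cc (σ : K →+* R) : R →+* Γ((SpecO σ).left, ⊤) := ev (𝟙 (SpecO σ))

lemma ev_eq_pb_cc (y : T ⟶ SpecO σ) (r : R) : ev y r = pb y (cc σ r) := by
  have h := ev_comp y (𝟙 (SpecO σ)) r
  rw [Category.comp_id] at h
  exact h

lemma strHom_specO (k : K) : strHom (SpecO σ) k = cc σ (σ k) :=
  (ev_sigma (𝟙 (SpecO σ)) k).symm

lemma cc_bijective : Function.Bijective (cc σ) := by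
  haveI h : IsIso ((Scheme.ΓSpecIso (CommRingCat.of R)).inv ≫
      Scheme.Hom.appTop (𝟙 (Spec (CommRingCat.of R)))) := by
    rw [Scheme.Hom.id_appTop]
    infer_instance
  exact ConcreteCategory.bijective_of_isIso ((Scheme.ΓSpecIso (CommRingCat.of R)).inv ≫
      Scheme.Hom.appTop (𝟙 (Spec (CommRingCat.of R))))

/-- the morphism `Spec R' → Spec R` of `K`-schemes defined by a `K`-algebra map. -/
noncomputable def specOMap {R' : Type u} [CommRing R'] {σ' : K →+* R'} (ψ : R →+* R')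
    (hψ : ∀ k, ψ (σ k) = σ' k) : SpecO σ' ⟶ SpecO σ :=
  Over.homMk (Spec.map (CommRingCat.ofHom ψ)) (by
    show Spec.map (CommRingCat.ofHom ψ) ≫ Spec.map (CommRingCat.ofHom σ) =
      Spec.map (CommRingCat.ofHom σ')
    rw [← Spec.map_comp, ← CommRingCat.ofHom_comp]
    congr 2
    exact RingHom.ext hψ)

lemma ev_specOMap {R' : Type u} [CommRing R'] {σ' : K →+* R'} (ψ : R →+* R')
    (hψ : ∀ k, ψ (σ k) = σ' k) (y : T ⟶ SpecO σ') (r : R) :
    ev (y ≫ specOMap ψ hψ) r = ev y (ψ r) :=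
  fn_specMap y.left ψ r

lemma exists_ev_eq {X : Over (SK K)} (a : X ⟶ SpecO σ) (b : SpecO σ ⟶ X) (hab : a ≫ b = 𝟙 X)
    (r : Γ(X.left, ⊤)) : ∃ p : R, ev a p = r := by
  obtain ⟨p, hp⟩ := (cc_bijective (σ := σ)).2 (pb b r)
  refine ⟨p, ?_⟩
  rw [ev_eq_pb_cc, hp, ← pb_comp_apply, hab, pb_id_apply]

/-- the value of a polynomial at a function. -/
noncomputable def pev (T : Over (SK K)) (p : K[X]) (c : Γ(T.left, ⊤)) : Γ(T.left, ⊤) :=
  Polynomial.eval₂ (strHom T) c p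

lemma pb_pev (g : T' ⟶ T) (p : K[X]) (c : Γ(T.left, ⊤)) :
    pb g (pev T p c) = pev T' p (pb g c) := by
  unfold pev
  rw [Polynomial.hom_eval₂]
  congr 1
  exact RingHom.ext (pb_strHom g)

lemma pev_mul (T : Over (SK K)) (p q : K[X]) (c : Γ(T.left, ⊤)) :
    pev T (p * q) c = pev T p c * pev T q c := Polynomial.eval₂_mul _ _

lemma pev_cc {Λ : Type u} [CommRing Λ] (σ : K →+* Λ) (p : K[X]) (c : Λ) :
    pev (SpecO σ) p (cc σ c) = cc σ (Polynomial.eval₂ σ c p) := by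
  unfold pev
  rw [Polynomial.hom_eval₂]
  congr 1
  exact RingHom.ext (strHom_specO (σ := σ))

lemma surjective_specMap {R' : Type u} [CommRing R'] (ψ : R →+* R') (hint : ψ.IsIntegral)
    (hinj : Function.Injective ψ) : Surjective (Spec.map (CommRingCat.ofHom ψ)) := by
  rw [surjective_iff]
  exact RingHom.IsIntegral.comap_surjective hint hinj

lemma flat_specMap {R' : Type u} [CommRing R'] (ψ : R →+* R') (h : ψ.Flat) :
    Flat (Spec.map (CommRingCat.ofHom ψ)) :=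
  (HasRingHomProperty.Spec_iff (P := @Flat)).mpr h

lemma nontrivial_of_section {H : Over (SK K)} (e : 𝟙_ (Over (SK K)) ⟶ H) :
    Nontrivial Γ(H.left, ⊤) := by
  haveI : Nontrivial Γ(Spec (CommRingCat.of K), ⊤) :=
    (cc_bijective (σ := RingHom.id K)).1.nontrivial
  exact RingHom.domain_nontrivial
    (show Γ(H.left, ⊤) →+* Γ(Spec (CommRingCat.of K), ⊤) from e.left.appTop.hom)

lemma isClosedImmersion_left {X H : Over (SK K)} [IsAffine X.left] (i : H ⟶ X) [Mono i]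
    [IsFinite H.hom] : IsClosedImmersion i.left := by
  rw [IsClosedImmersion.iff_isFinite_and_mono]
  refine ⟨?_, Over.mono_left_of_mono i⟩
  haveI : IsAffine ((Functor.fromPUnit (SK K)).obj X.right) := inferInstanceAs (IsAffine (SK K))
  have hsep : IsSeparated X.hom := inferInstance
  have hfin : IsFinite (i.left ≫ X.hom) := by
    rw [Over.w i]
    infer_instance
  exact MorphismProperty.of_postcomp (W := @IsFinite) (W' := @IsSeparated) i.left X.hom hsep hfin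

lemma strHom_finite (H : Over (SK K)) [IsFinite H.hom] : (strHom H).Finite := by
  haveI : IsAffine ((Functor.fromPUnit (SK K)).obj H.right) := inferInstanceAs (IsAffine (SK K))
  have h := (HasAffineProperty.iff_of_isAffine (P := @IsFinite) (f := H.hom)).mp inferInstance
  have h2 : (Scheme.ΓSpecIso (CommRingCat.of K)).inv.hom.Finite :=
    RingHom.Finite.of_surjective _
      (ConcreteCategory.bijective_of_isIso (Scheme.ΓSpecIso (CommRingCat.of K)).inv).2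
  exact RingHom.Finite.comp h.2 h2

lemma exists_factor {X H : Over (SK K)} [IsAffine X.left] (i : H ⟶ X)
    [IsClosedImmersion i.left] (t : T ⟶ X)
    (hker : ∀ r : Γ(X.left, ⊤), pb i r = 0 → pb t r = 0) : ∃ h : T ⟶ H, h ≫ i = t := by
  have hle : i.left.ker ≤ t.left.ker := by
    rw [Scheme.ker_of_isAffine, Scheme.ker_of_isAffine]
    apply Scheme.IdealSheafData.le_of_isAffine
    simp only [Scheme.IdealSheafData.ofIdealTop_ideal]
    apply Ideal.map_mono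
    intro r hr
    exact RingHom.mem_ker.mpr (hker r (RingHom.mem_ker.mp hr))
  have h1 := IsClosedImmersion.lift_fac i.left t.left hle
  have hw : IsClosedImmersion.lift i.left t.left hle ≫ H.hom = T.hom := by
    rw [← Over.w i, ← Category.assoc, h1, Over.w t]
  refine ⟨Over.homMk (IsClosedImmersion.lift i.left t.left hle) hw, ?_⟩
  apply Over.OverMorphism.ext
  exact h1

end Basic

section Kernel

variable {S : Scheme.{u}}

theorem isKernel_of_pts {N G Q : Over S} [GrpObj Q] (i : N ⟶ G) [Mono i] (q : G ⟶ Q)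
    (h1 : i ≫ q = 1)
    (key : ∀ (T : Over S) (x : T ⟶ G), x ≫ q = 1 → ∃ y : T ⟶ N, y ≫ i = x) :
    AlgGrp.IsKernel i q := by
  have hw : i ≫ q = toUnit _ ≫ η[Q] := by
    rw [← Hom.one_def]
    exact h1
  unfold AlgGrp.IsKernel
  have hcond : ∀ s : PullbackCone q η[Q], s.fst ≫ q = 1 := by
    intro s
    rw [s.condition, Hom.one_def]
    congr 1
    exact toUnit_unique _ _
  refine IsPullback.of_isLimit' ⟨hw⟩ ?_
  refine PullbackCone.IsLimit.mk hw
    (fun s => (key s.pt s.fst (hcond s)).choose) ?_ ?_ ?_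
  · intro s
    exact (key s.pt s.fst (hcond s)).choose_spec
  · intro s
    exact toUnit_unique _ _
  · intro s m' hm' _
    apply (cancel_mono i).mp
    rw [hm']
    exact ((key s.pt s.fst (hcond s)).choose_spec).symm

theorem transport {G GG H : Over S} [GrpObj G] [GrpObj GG] [GrpObj H]
    (α : Grp.mk G ≅ Grp.mk GG) (i : H ⟶ G) [IsMonHom i] [Mono i]
    (main : ∀ (i' : H ⟶ GG) [IsMonHom i'] [Mono i'], ∃ φ' : GG ⟶ GG, IsMonHom φ' ∧ i' ≫ φ' = 1 ∧
      (∀ (T : Over S) (x : T ⟶ GG), x ≫ φ' = 1 → ∃ y : T ⟶ H, y ≫ i' = x) ∧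
      Flat φ'.left ∧ Surjective φ'.left) :
    ∃ φ : G ⟶ G, IsMonHom φ ∧ AlgGrp.IsKernel i φ ∧ Flat φ.left ∧ Surjective φ.left := by
  obtain ⟨u, hu⟩ : ∃ u : GG ⟶ G, u = α.inv.hom.hom := ⟨_, rfl⟩
  obtain ⟨v, hv⟩ : ∃ v : G ⟶ GG, v = α.hom.hom.hom := ⟨_, rfl⟩
  haveI : IsMonHom u := by rw [hu]; infer_instance
  haveI : IsMonHom v := by rw [hv]; infer_instance
  have hvu : v ≫ u = 𝟙 G := by
    rw [hu, hv, ← Grp.comp_hom_hom, α.hom_inv_id, Grp.id_hom_hom]
  have huv : u ≫ v = 𝟙 GG := by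
    rw [hu, hv, ← Grp.comp_hom_hom, α.inv_hom_id, Grp.id_hom_hom]
  haveI : IsIso v := ⟨u, hvu, huv⟩
  haveI : IsIso u := ⟨v, huv, hvu⟩
  haveI : IsIso v.left := (Over.forget S).map_isIso v
  haveI : IsIso u.left := (Over.forget S).map_isIso u
  obtain ⟨φ', hφ'mon, h1, hkey, hflat, hsurj⟩ := main (i ≫ v)
  haveI := hφ'mon
  haveI := hflat
  haveI := hsurj
  refine ⟨v ≫ φ' ≫ u, inferInstance, ?_, ?_, ?_⟩
  · apply isKernel_of_pts
    · rw [← Category.assoc, ← Category.assoc, h1, MonObj.one_comp]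
    · intro T x hx
      have hx' : (x ≫ v) ≫ φ' = 1 := by
        calc (x ≫ v) ≫ φ' = (x ≫ v ≫ φ' ≫ u) ≫ v := by
              simp only [Category.assoc]
              rw [huv, Category.comp_id]
          _ = 1 ≫ v := by rw [hx]
          _ = 1 := MonObj.one_comp v
      obtain ⟨y, hy⟩ := hkey T (x ≫ v) hx'
      refine ⟨y, ?_⟩
      calc y ≫ i = (y ≫ i ≫ v) ≫ u := by
            simp only [Category.assoc]
            rw [hvu, Category.comp_id]
        _ = (x ≫ v) ≫ u := by rw [hy]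
        _ = x := by rw [Category.assoc, hvu, Category.comp_id]
  · show Flat (v.left ≫ φ'.left ≫ u.left)
    infer_instance
  · show Surjective (v.left ≫ φ'.left ≫ u.left)
    infer_instance

end Kernel

section Ga

variable (K : Type u) [Field K]

/-- the coordinate function of `𝔾_a`. -/
noncomputable def x₀ : Γ((Red.Ga (SK K)).left, ⊤) := Red.gaFn (𝟙 (Red.Ga (SK K)))

variable {K}

lemma gaFn_eq_pb {T : Over (SK K)} (t : T ⟶ Red.Ga (SK K)) : Red.gaFn t = pb t (x₀ K) := by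
  have h := gaFn_comp t (𝟙 (Red.Ga (SK K)))
  rw [Category.comp_id] at h
  exact h

lemma exists_gaA : ∃ a : Red.Ga (SK K) ⟶ SpecO (Polynomial.C : K →+* K[X]),
    ∀ p, ev a p = pev (Red.Ga (SK K)) p (x₀ K) :=
  exists_pt (Polynomial.eval₂RingHom (strHom (Red.Ga (SK K))) (x₀ K))
    (fun _ => Polynomial.eval₂_C _ _)

/-- `𝔾_a → Spec K[X]`. -/
noncomputable def gaA : Red.Ga (SK K) ⟶ SpecO (Polynomial.C : K →+* K[X]) := exists_gaA.choose

lemma ev_gaA (p : K[X]) : ev (gaA (K := K)) p = pev (Red.Ga (SK K)) p (x₀ K) :=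
  exists_gaA.choose_spec p

/-- `Spec K[X] → 𝔾_a`. -/
noncomputable def gaB : SpecO (Polynomial.C : K →+* K[X]) ⟶ Red.Ga (SK K) :=
  (gaEquiv _).symm (cc Polynomial.C Polynomial.X)

lemma gaFn_gaB : Red.gaFn (gaB (K := K)) = cc Polynomial.C Polynomial.X :=
  gaFn_gaEquiv_symm _

lemma gaA_gaB : gaA ≫ gaB = 𝟙 (Red.Ga (SK K)) := by
  apply gaFn_injective
  rw [gaFn_comp', gaFn_gaB, ← ev_eq_pb_cc, ev_gaA]
  unfold pev
  rw [Polynomial.eval₂_X]
  rfl

lemma gaB_gaA : gaB ≫ gaA = 𝟙 (SpecO (Polynomial.C : K →+* K[X])) := by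
  have h : (ev (gaB ≫ gaA) : K[X] →+* _) = ev (𝟙 (SpecO (Polynomial.C : K →+* K[X]))) := by
    apply Polynomial.ringHom_ext
    · intro k
      rw [ev_sigma, ev_sigma]
    · rw [ev_comp, ev_gaA]
      unfold pev
      rw [Polynomial.eval₂_X, ← gaFn_eq_pb, gaFn_gaB]
      rfl
  apply ev_ext
  intro r
  rw [h]

instance : IsIso (gaA (K := K)) := ⟨gaB, gaA_gaB, gaB_gaA⟩

instance : IsIso (gaB (K := K)) := ⟨gaA, gaB_gaA, gaA_gaB⟩

instance : IsIso (gaA (K := K)).left := (Over.forget _).map_isIso gaA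

instance : IsIso (gaB (K := K)).left := (Over.forget _).map_isIso gaB

instance : IsAffine (Red.Ga (SK K)).left := IsAffine.of_isIso (gaA (K := K)).left

/-- the endomorphism `x ↦ f(x)` of `𝔾_a`. -/
noncomputable def gaPhi (f : K[X]) : Red.Ga (SK K) ⟶ Red.Ga (SK K) :=
  gaA ≫ specOMap (polyEnd f) (polyEnd_C f) ≫ gaB

lemma gaFn_gaPhi (f : K[X]) {T : Over (SK K)} (t : T ⟶ Red.Ga (SK K)) :
    Red.gaFn (t ≫ gaPhi f) = pev T f (Red.gaFn t) := by
  unfold gaPhi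
  rw [← Category.assoc, ← Category.assoc, gaFn_comp', gaFn_gaB, ← ev_eq_pb_cc, ev_specOMap,
    polyEnd_X, ev_comp, ev_gaA, pb_pev, ← gaFn_eq_pb]

lemma gaPhi_left (f : K[X]) : (gaPhi f).left =
    (gaA (K := K)).left ≫ Spec.map (CommRingCat.ofHom (polyEnd f)) ≫ (gaB (K := K)).left := rfl

lemma flat_gaPhi {f : K[X]} (hd : 0 < f.natDegree) : Flat (gaPhi f).left := by
  rw [gaPhi_left]
  haveI := flat_specMap (polyEnd f) (polyEnd_flat hd)
  infer_instance

lemma surjective_gaPhi {f : K[X]} (hf : f.Monic) (hd : 0 < f.natDegree) :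
    Surjective (gaPhi f).left := by
  rw [gaPhi_left]
  haveI := surjective_specMap (polyEnd f) (polyEnd_isIntegral hf hd) (polyEnd_injective hd)
  infer_instance

theorem ga_main {H : Over (SK K)} [GrpObj H] (i : H ⟶ Red.Ga (SK K)) [IsMonHom i] [Mono i]
    [IsFinite H.hom] :
    ∃ φ : Red.Ga (SK K) ⟶ Red.Ga (SK K), IsMonHom φ ∧ i ≫ φ = 1 ∧
      (∀ (T : Over (SK K)) (x : T ⟶ Red.Ga (SK K)), x ≫ φ = 1 → ∃ y : T ⟶ H, y ≫ i = x) ∧
      Flat φ.left ∧ Surjective φ.left := by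
  haveI := isClosedImmersion_left i
  haveI : Nontrivial Γ(H.left, ⊤) := nontrivial_of_section η[H]
  obtain ⟨f, hfm, hfd, hf0, hfmin⟩ := exists_gen (strHom H) (Red.gaFn i)
    ((strHom_finite H).to_isIntegral _)
  have hH5 : ∀ (T : Over (SK K)) (h : T ⟶ H), pev T f (Red.gaFn (h ≫ i)) = 0 := by
    intro T h
    rw [gaFn_comp', ← pb_pev]
    show pb h (Polynomial.eval₂ (strHom H) (Red.gaFn i) f) = 0
    rw [hf0, map_zero]
  have hH4 : ∀ (T : Over (SK K)) (t : T ⟶ Red.Ga (SK K)), pev T f (Red.gaFn t) = 0 →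
      ∃ h : T ⟶ H, h ≫ i = t := by
    intro T t ht
    apply exists_factor i t
    intro r hr
    obtain ⟨p, rfl⟩ := exists_ev_eq gaA gaB gaA_gaB r
    rw [ev_gaA, pb_pev, ← gaFn_eq_pb] at hr ⊢
    obtain ⟨q, rfl⟩ := hfmin p hr
    rw [pev_mul, ht, zero_mul]
  have hsub : ∀ (T : Over (SK K)) (c₁ c₂ : Γ(T.left, ⊤)), pev T f c₁ = 0 → pev T f c₂ = 0 →
      pev T f (c₁ + c₂) = 0 := by
    intro T c₁ c₂ h1 h2
    obtain ⟨y₁, hy₁⟩ := hH4 T ((gaEquiv T).symm c₁) (by rw [gaFn_gaEquiv_symm]; exact h1)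
    obtain ⟨y₂, hy₂⟩ := hH4 T ((gaEquiv T).symm c₂) (by rw [gaFn_gaEquiv_symm]; exact h2)
    have h3 := hH5 T (y₁ * y₂)
    rw [MonObj.mul_comp _ _ i, hy₁, hy₂, gaFn_mul, gaFn_gaEquiv_symm, gaFn_gaEquiv_symm] at h3
    exact h3
  have hclosed : Closed f := by
    intro Λ _ σ c₁ c₂ h1 h2
    have h := hsub (SpecO σ) (cc σ c₁) (cc σ c₂) (by rw [pev_cc, h1, map_zero])
      (by rw [pev_cc, h2, map_zero])
    rw [← map_add, pev_cc] at h
    exact (map_eq_zero_iff (cc σ) cc_bijective.1).mp h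
  have hadd : ∀ (T : Over (SK K)) (c₁ c₂ : Γ(T.left, ⊤)),
      pev T f (c₁ + c₂) = pev T f c₁ + pev T f c₂ := fun T c₁ c₂ =>
    additive_of_closed hfm hfd hclosed (strHom T) c₁ c₂
  have hzero : ∀ T : Over (SK K), pev T f 0 = 0 := by
    intro T
    have h00 := hadd T 0 0
    rw [add_zero] at h00
    exact left_eq_add.mp h00
  haveI hmon : IsMonHom (gaPhi f) := by
    apply Groth.Agent.Lib.H6xDSPts.isMonHom_of_pts
    · apply gaFn_injective
      rw [gaFn_gaPhi, gaFn_one]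
      exact hzero _
    · intro T x y
      apply gaFn_injective
      rw [gaFn_gaPhi, gaFn_mul, gaFn_mul, gaFn_gaPhi, gaFn_gaPhi, hadd]
  refine ⟨gaPhi f, hmon, ?_, ?_, flat_gaPhi hfd, surjective_gaPhi hfm hfd⟩
  · apply gaFn_injective
    rw [gaFn_gaPhi, gaFn_one]
    exact hf0
  · intro T x hx
    apply hH4 T x
    rw [← gaFn_gaPhi, hx, gaFn_one]

end Ga

section Gm

variable (K : Type u) [Field K]

/-- the coordinate function of `𝔾_m`, as a unit. -/
noncomputable def u₀ : Γ((Red.Gm (SK K)).left, ⊤)ˣ := gmUnit (𝟙 (Red.Gm (SK K)))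

variable {K}

lemma gmFn_eq_pb {T : Over (SK K)} (t : T ⟶ Red.Gm (SK K)) :
    Red.gmFn t = pb t ((u₀ K : Γ((Red.Gm (SK K)).left, ⊤)ˣ) : Γ((Red.Gm (SK K)).left, ⊤)) := by
  have h := gmFn_comp t (𝟙 (Red.Gm (SK K)))
  rw [Category.comp_id] at h
  exact h

/-- the value of a Laurent polynomial at an invertible function. -/
noncomputable def lev (T : Over (SK K)) (p : K[T;T⁻¹]) (u : Γ(T.left, ⊤)ˣ) : Γ(T.left, ⊤) :=
  LaurentPolynomial.eval₂ (strHom T) u p

lemma lev_mul (T : Over (SK K)) (p q : K[T;T⁻¹]) (u : Γ(T.left, ⊤)ˣ) :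
    lev T (p * q) u = lev T p u * lev T q u := map_mul _ _ _

lemma lev_toLaurent (T : Over (SK K)) (p : K[X]) (u : Γ(T.left, ⊤)ˣ) :
    lev T (Polynomial.toLaurent p) u = pev T p (u : Γ(T.left, ⊤)) :=
  LaurentPolynomial.eval₂_toLaurent _ _ _

lemma lev_T (T : Over (SK K)) (n : ℤ) (u : Γ(T.left, ⊤)ˣ) :
    lev T (LaurentPolynomial.T n) u = ((u ^ n : Γ(T.left, ⊤)ˣ) : Γ(T.left, ⊤)) :=
  LaurentPolynomial.eval₂_T _ _ _

lemma lev_T_one (T : Over (SK K)) (u : Γ(T.left, ⊤)ˣ) :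
    lev T (LaurentPolynomial.T 1) u = (u : Γ(T.left, ⊤)) := by
  rw [lev_T, zpow_one]

lemma pb_lev {T T' : Over (SK K)} (g : T' ⟶ T) (p : K[T;T⁻¹]) (u : Γ(T.left, ⊤)ˣ) :
    pb g (lev T p u) = lev T' p (Units.map (pb g).toMonoidHom u) := by
  have h : (pb g).comp (LaurentPolynomial.eval₂ (strHom T) u) =
      LaurentPolynomial.eval₂ (strHom T') (Units.map (pb g).toMonoidHom u) := by
    apply laurent_hom_ext
    · intro k
      rw [RingHom.comp_apply, LaurentPolynomial.eval₂_C, LaurentPolynomial.eval₂_C, pb_strHom]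
    · rw [RingHom.comp_apply, LaurentPolynomial.eval₂_T, LaurentPolynomial.eval₂_T, zpow_one,
        zpow_one]
      rfl
  exact congrArg (fun φ : K[T;T⁻¹] →+* Γ(T'.left, ⊤) => φ p) h

lemma lev_transfer {T₁ T₂ : Over (SK K)} (u₁ : Γ(T₁.left, ⊤)ˣ) (u₂ : Γ(T₂.left, ⊤)ˣ) (g : K[X])
    (hmin : ∀ p : K[X], pev T₁ p (u₁ : Γ(T₁.left, ⊤)) = 0 → g ∣ p)
    (h2 : pev T₂ g (u₂ : Γ(T₂.left, ⊤)) = 0) (p : K[T;T⁻¹]) (hp : lev T₁ p u₁ = 0) :
    lev T₂ p u₂ = 0 := by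
  obtain ⟨n, p', hp'⟩ := LaurentPolynomial.exists_T_pow p
  have h1 : pev T₁ p' (u₁ : Γ(T₁.left, ⊤)) = 0 := by
    rw [← lev_toLaurent, hp', lev_mul, hp, zero_mul]
  obtain ⟨q, rfl⟩ := hmin p' h1
  have h3 : lev T₂ (p * LaurentPolynomial.T n) u₂ = 0 := by
    rw [← hp', lev_toLaurent, pev_mul, h2, zero_mul]
  rw [lev_mul, lev_T] at h3
  exact (Units.isUnit _).mul_left_eq_zero.mp h3

lemma exists_gmA : ∃ a : Red.Gm (SK K) ⟶ SpecO (LaurentPolynomial.C : K →+* K[T;T⁻¹]),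
    ∀ p, ev a p = lev (Red.Gm (SK K)) p (u₀ K) :=
  exists_pt (LaurentPolynomial.eval₂ (strHom (Red.Gm (SK K))) (u₀ K))
    (fun _ => LaurentPolynomial.eval₂_C _ _ _)

/-- `𝔾_m → Spec K[T;T⁻¹]`. -/
noncomputable def gmA : Red.Gm (SK K) ⟶ SpecO (LaurentPolynomial.C : K →+* K[T;T⁻¹]) :=
  exists_gmA.choose

lemma ev_gmA (p : K[T;T⁻¹]) : ev (gmA (K := K)) p = lev (Red.Gm (SK K)) p (u₀ K) :=
  exists_gmA.choose_spec p

lemma exists_gmB : ∃ b : SpecO (LaurentPolynomial.C : K →+* K[T;T⁻¹]) ⟶ Red.Gm (SK K),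
    Red.gmFn b = cc LaurentPolynomial.C (LaurentPolynomial.T 1) :=
  gmFn_surjective _ ((LaurentPolynomial.isUnit_T 1).map (cc LaurentPolynomial.C))

/-- `Spec K[T;T⁻¹] → 𝔾_m`. -/
noncomputable def gmB : SpecO (LaurentPolynomial.C : K →+* K[T;T⁻¹]) ⟶ Red.Gm (SK K) :=
  exists_gmB.choose

lemma gmFn_gmB : Red.gmFn (gmB (K := K)) = cc LaurentPolynomial.C (LaurentPolynomial.T 1) :=
  exists_gmB.choose_spec

lemma gmA_gmB : gmA ≫ gmB = 𝟙 (Red.Gm (SK K)) := by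
  apply gmFn_injective
  rw [gmFn_comp', gmFn_gmB, ← ev_eq_pb_cc, ev_gmA, lev_T_one]
  rfl

lemma gmB_gmA : gmB ≫ gmA = 𝟙 (SpecO (LaurentPolynomial.C : K →+* K[T;T⁻¹])) := by
  have h : (ev (gmB ≫ gmA) : K[T;T⁻¹] →+* _) =
      ev (𝟙 (SpecO (LaurentPolynomial.C : K →+* K[T;T⁻¹]))) := by
    apply laurent_hom_ext
    · intro k
      rw [ev_sigma, ev_sigma]
    · rw [ev_comp, ev_gmA, lev_T_one, ← gmFn_eq_pb, gmFn_gmB]
      rfl
  apply ev_ext
  intro r
  rw [h]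

instance : IsIso (gmA (K := K)) := ⟨gmB, gmA_gmB, gmB_gmA⟩

instance : IsIso (gmB (K := K)) := ⟨gmA, gmB_gmA, gmA_gmB⟩

instance : IsIso (gmA (K := K)).left := (Over.forget _).map_isIso gmA

instance : IsIso (gmB (K := K)).left := (Over.forget _).map_isIso gmB

instance : IsAffine (Red.Gm (SK K)).left := IsAffine.of_isIso (gmA (K := K)).left

/-- the endomorphism `x ↦ x ^ d` of `𝔾_m`. -/
noncomputable def gmPhi (d : ℕ) : Red.Gm (SK K) ⟶ Red.Gm (SK K) :=
  gmA ≫ specOMap (laurEnd d) (laurEnd_C d) ≫ gmB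

lemma gmFn_gmPhi (d : ℕ) {T : Over (SK K)} (t : T ⟶ Red.Gm (SK K)) :
    Red.gmFn (t ≫ gmPhi d) = Red.gmFn t ^ d := by
  unfold gmPhi
  rw [← Category.assoc, ← Category.assoc, gmFn_comp', gmFn_gmB, ← ev_eq_pb_cc, ev_specOMap,
    laurEnd_T_one, map_pow, ev_comp, ev_gmA, lev_T_one, ← gmFn_eq_pb]

lemma gmPhi_left (d : ℕ) : (gmPhi (K := K) d).left =
    (gmA (K := K)).left ≫ Spec.map (CommRingCat.ofHom (laurEnd d)) ≫ (gmB (K := K)).left := rfl

lemma flat_gmPhi {d : ℕ} (hd : 0 < d) : Flat (gmPhi (K := K) d).left := by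
  rw [gmPhi_left]
  haveI := flat_specMap (laurEnd (K := K) d) (laurEnd_flat hd)
  infer_instance

lemma surjective_gmPhi {d : ℕ} (hd : 0 < d) : Surjective (gmPhi (K := K) d).left := by
  rw [gmPhi_left]
  haveI := surjective_specMap (laurEnd (K := K) d) (laurEnd_isIntegral hd) (laurEnd_injective hd)
  infer_instance

theorem gm_main {H : Over (SK K)} [GrpObj H] (i : H ⟶ Red.Gm (SK K)) [IsMonHom i] [Mono i]
    [IsFinite H.hom] :
    ∃ φ : Red.Gm (SK K) ⟶ Red.Gm (SK K), IsMonHom φ ∧ i ≫ φ = 1 ∧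
      (∀ (T : Over (SK K)) (x : T ⟶ Red.Gm (SK K)), x ≫ φ = 1 → ∃ y : T ⟶ H, y ≫ i = x) ∧
      Flat φ.left ∧ Surjective φ.left := by
  haveI := isClosedImmersion_left i
  haveI : Nontrivial Γ(H.left, ⊤) := nontrivial_of_section η[H]
  obtain ⟨g, hgm, hgd, hg0, hgmin⟩ := exists_gen (strHom H) (Red.gmFn i)
    ((strHom_finite H).to_isIntegral _)
  have hc0 : g.coeff 0 ≠ 0 :=
    coeff_zero_ne_zero (strHom H) (Red.gmFn i) (gmFn_isUnit i) g hgm hg0 hgmin
  have hH5 : ∀ (T : Over (SK K)) (h : T ⟶ H), pev T g (Red.gmFn (h ≫ i)) = 0 := by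
    intro T h
    rw [gmFn_comp', ← pb_pev]
    show pb h (Polynomial.eval₂ (strHom H) (Red.gmFn i) g) = 0
    rw [hg0, map_zero]
  have hH4 : ∀ (T : Over (SK K)) (t : T ⟶ Red.Gm (SK K)), pev T g (Red.gmFn t) = 0 →
      ∃ h : T ⟶ H, h ≫ i = t := by
    intro T t ht
    apply exists_factor i t
    intro r hr
    obtain ⟨p, rfl⟩ := exists_ev_eq gmA gmB gmA_gmB r
    rw [ev_gmA, pb_lev] at hr ⊢
    have e1 : ((Units.map (pb i).toMonoidHom (u₀ K) : Γ(H.left, ⊤)ˣ) : Γ(H.left, ⊤)) =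
        Red.gmFn i := (gmFn_eq_pb i).symm
    have e2 : ((Units.map (pb t).toMonoidHom (u₀ K) : Γ(T.left, ⊤)ˣ) : Γ(T.left, ⊤)) =
        Red.gmFn t := (gmFn_eq_pb t).symm
    refine lev_transfer _ _ g ?_ ?_ p hr
    · intro p' hp'
      rw [e1] at hp'
      exact hgmin p' hp'
    · rw [e2]
      exact ht
  have hsub : ∀ (T : Over (SK K)) (c₁ c₂ : Γ(T.left, ⊤)), IsUnit c₁ → IsUnit c₂ →
      pev T g c₁ = 0 → pev T g c₂ = 0 → pev T g (c₁ * c₂) = 0 := by
    intro T c₁ c₂ hu1 hu2 h1 h2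
    obtain ⟨t₁, ht₁⟩ := gmFn_surjective c₁ hu1
    obtain ⟨t₂, ht₂⟩ := gmFn_surjective c₂ hu2
    obtain ⟨y₁, hy₁⟩ := hH4 T t₁ (by rw [ht₁]; exact h1)
    obtain ⟨y₂, hy₂⟩ := hH4 T t₂ (by rw [ht₂]; exact h2)
    have h3 := hH5 T (y₁ * y₂)
    rw [MonObj.mul_comp _ _ i, hy₁, hy₂, gmFn_mul, ht₁, ht₂] at h3
    exact h3
  have hclosed : MClosed g := by
    intro Λ _ σ c₁ c₂ h1 h2
    have h := hsub (SpecO σ) (cc σ c₁) (cc σ c₂) ((isUnit_of_root hc0 σ c₁ h1).map (cc σ))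
      ((isUnit_of_root hc0 σ c₂ h2).map (cc σ)) (by rw [pev_cc, h1, map_zero])
      (by rw [pev_cc, h2, map_zero])
    rw [← map_mul, pev_cc] at h
    exact (map_eq_zero_iff (cc σ) cc_bijective.1).mp h
  have hpow : ∀ (T : Over (SK K)) (c : Γ(T.left, ⊤)), pev T g c = c ^ g.natDegree - 1 :=
    fun T c => eval₂_eq_pow_sub_one hgm hgd hc0 hclosed (strHom T) c
  haveI hmon : IsMonHom (gmPhi (K := K) g.natDegree) := by
    apply Groth.Agent.Lib.H6xDSPts.isMonHom_of_pts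
    · apply gmFn_injective
      rw [gmFn_gmPhi, gmFn_one, one_pow]
    · intro T x y
      apply gmFn_injective
      rw [gmFn_gmPhi, gmFn_mul, gmFn_mul, gmFn_gmPhi, gmFn_gmPhi, mul_pow]
  refine ⟨gmPhi g.natDegree, hmon, ?_, ?_, flat_gmPhi hgd, surjective_gmPhi hgd⟩
  · apply gmFn_injective
    rw [gmFn_gmPhi, gmFn_one]
    have h := hpow H (Red.gmFn i)
    rw [show pev H g (Red.gmFn i) = 0 from hg0] at h
    exact (sub_eq_zero.mp h.symm)
  · intro T x hx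
    apply hH4 T x
    rw [hpow, ← gmFn_gmPhi, hx, gmFn_one, sub_self]

end Gm

section Main

theorem main (K : Type u) [Field K] (G H : Over (Spec (CommRingCat.of K))) [GrpObj G] [GrpObj H]
    (hG : Nonempty (Grp.mk G ≅ Grp.mk (Red.Ga (Spec (CommRingCat.of K)))) ∨
      Nonempty (Grp.mk G ≅ Grp.mk (Red.Gm (Spec (CommRingCat.of K)))))
    (i : H ⟶ G) [IsMonHom i] [Mono i] [IsFinite H.hom] :
    ∃ φ : G ⟶ G, IsMonHom φ ∧ AlgGrp.IsKernel i φ ∧ Flat φ.left ∧ Surjective φ.left := by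
  rcases hG with ⟨⟨α⟩⟩ | ⟨⟨α⟩⟩
  · exact transport α i (fun i' _ _ => ga_main i')
  · exact transport α i (fun i' _ _ => gm_main i')

end Main

end Groth.Agent.Lib.Helper8FinSub
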