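import Mathlib
import Groth.Prelude.Def_Omega3
import Groth.Agent.Lib.Helper18UnivThick2

set_option autoImplicit false
set_option linter.style.haveILetI false

/-!
# Algebra behind the local-to-global lifting lemma for square-zero thickenings

* `finitePresentation_ker_of_augmentation`: the augmentation ideal of a finitely presented augmented
  algebra with square-zero augmentation ideal is a finitely presented module.
* `exists_retraction_of_local`: local retractions of `ι : M → J` with finitely presented cokernel glue.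
* `exists_lift`: the ring-level local-to-global lifting statement.
* `univThickening_of_surjective`: the universal first order thickening of a quotient `B → B/K` is `B/K²`.
-/

universe u v w

namespace Groth.Agent.Lib.Helper8LiftAlg

open Function

/-- the augmentation ideal of a finitely presented augmented algebra with square zero augmentation
ideal is a finitely presented module. -/
theorem finitePresentation_ker_of_augmentation (R S : Type*) [CommRing R] [CommRing S] [Algebra R S]
    [Algebra.FinitePresentation R S] (ε : S →ₐ[R] R)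
    (hK : ∀ x y : S, ε x = 0 → ε y = 0 → x * y = 0) :
    Module.FinitePresentation R (LinearMap.ker ε.toLinearMap) := by
  classical
  have hεalg : ∀ r : R, ε (algebraMap R S r) = r := fun r => by
    rw [AlgHom.commutes, Algebra.algebraMap_self_apply]
  have h0 : ∀ s : S, ε (s - algebraMap R S (ε s)) = 0 := fun s => by
    rw [map_sub, hεalg, sub_self]
  haveI : Algebra.IsIntegral R S := by
    refine ⟨fun s => ⟨(Polynomial.X - Polynomial.C (ε s)) ^ 2,
      (Polynomial.monic_X_sub_C (ε s)).pow 2, ?_⟩⟩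
    rw [Polynomial.eval₂_pow, Polynomial.eval₂_sub, Polynomial.eval₂_X, Polynomial.eval₂_C, pow_two]
    exact hK _ _ (h0 s) (h0 s)
  haveI : Module.Finite R S := Algebra.IsIntegral.finite
  haveI : Module.FinitePresentation R S :=
    Module.FinitePresentation.of_finite_of_finitePresentation R S
  let l : S →ₗ[R] LinearMap.ker ε.toLinearMap :=
    LinearMap.codRestrict _ (LinearMap.id - (Algebra.linearMap R S).comp ε.toLinearMap) (by
      intro s
      rw [LinearMap.mem_ker]
      exact h0 s)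
  have hl : ∀ s, (l s : S) = s - algebraMap R S (ε s) := fun s => rfl
  refine Module.finitePresentation_of_surjective l ?_ ?_
  · rintro ⟨x, hx⟩
    have hx' : ε x = 0 := hx
    refine ⟨x, Subtype.ext ?_⟩
    rw [hl, hx', map_zero, sub_zero]
  · have hker : LinearMap.ker l = Submodule.span R {(1 : S)} := by
      ext s
      rw [LinearMap.mem_ker, Submodule.mem_span_singleton]
      constructor
      · intro h
        have h' : s - algebraMap R S (ε s) = 0 := by rw [← hl, h]; rfl
        exact ⟨ε s, by rw [Algebra.smul_def, mul_one]; exact (sub_eq_zero.mp h').symm⟩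
      · rintro ⟨r, rfl⟩
        apply Subtype.ext
        rw [hl, Algebra.smul_def, mul_one, hεalg, sub_self]
        rfl
    rw [hker]
    exact Submodule.fg_span_singleton _

/-- a localized module over `A` at the powers of `g` which is killed by `I` is a localized module over
`A ⧸ I` at the powers of the class of `g`. -/
theorem isLocalizedModule_quot {A : Type*} [CommRing A] (I : Ideal A)
    {M M' : Type*} [AddCommGroup M] [AddCommGroup M'] [Module A M] [Module A M']
    [Module (A ⧸ I) M] [Module (A ⧸ I) M']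
    (hM : ∀ (a : A) (x : M), Ideal.Quotient.mk I a • x = a • x)
    (hM' : ∀ (a : A) (x : M'), Ideal.Quotient.mk I a • x = a • x)
    (g : A) (ℓ : M →ₗ[A] M') [IsLocalizedModule (Submonoid.powers g) ℓ]
    (ℓ' : M →ₗ[A ⧸ I] M') (hℓ : ∀ x, ℓ' x = ℓ x) :
    IsLocalizedModule (Submonoid.powers (Ideal.Quotient.mk I g)) ℓ' := by
  have hpow : ∀ (n : ℕ) (y : M'), (Ideal.Quotient.mk I g) ^ n • y = g ^ n • y := fun n y => by
    rw [← map_pow, hM']
  have hpowM : ∀ (n : ℕ) (y : M), (Ideal.Quotient.mk I g) ^ n • y = g ^ n • y := fun n y => by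
    rw [← map_pow, hM]
  refine ⟨?_, ?_, ?_⟩
  · rintro ⟨s, n, rfl⟩
    rw [Module.End.isUnit_iff]
    have h := (Module.End.isUnit_iff _).mp
      (IsLocalizedModule.map_units ℓ (⟨g ^ n, n, rfl⟩ : Submonoid.powers g))
    have h' : Function.Bijective (fun y : M' => g ^ n • y) := h
    have hc : (⇑(algebraMap (A ⧸ I) (Module.End (A ⧸ I) M') ((Ideal.Quotient.mk I g) ^ n))) =
        fun y : M' => g ^ n • y := by
      funext y
      rw [Module.algebraMap_end_apply, hpow]
    change Function.Bijective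
      (⇑(algebraMap (A ⧸ I) (Module.End (A ⧸ I) M') ((Ideal.Quotient.mk I g) ^ n)))
    rw [hc]
    exact h'
  · intro y
    obtain ⟨⟨x, ⟨s, n, rfl⟩⟩, hx⟩ := IsLocalizedModule.surj (Submonoid.powers g) ℓ y
    refine ⟨⟨x, ⟨(Ideal.Quotient.mk I g) ^ n, n, rfl⟩⟩, ?_⟩
    show (Ideal.Quotient.mk I g) ^ n • y = ℓ' x
    rw [hpow, hℓ]
    exact hx
  · intro x₁ x₂ h
    rw [hℓ, hℓ] at h
    obtain ⟨⟨s, n, rfl⟩, hc⟩ := IsLocalizedModule.exists_of_eq (S := Submonoid.powers g) h
    refine ⟨⟨(Ideal.Quotient.mk I g) ^ n, n, rfl⟩, ?_⟩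
    show (Ideal.Quotient.mk I g) ^ n • x₁ = (Ideal.Quotient.mk I g) ^ n • x₂
    rw [hpowM, hpowM]
    exact hc

/-- local retractions of `ι : M → J` glue to a global one when the cokernel is finitely presented. -/
theorem exists_retraction_of_local {R : Type u} [CommRing R] {M J Q : Type v}
    [AddCommGroup M] [AddCommGroup J] [AddCommGroup Q] [Module R M] [Module R J] [Module R Q]
    [Module.FinitePresentation R Q]
    (ι : M →ₗ[R] J) (p : J →ₗ[R] Q) (hex : Function.Exact ι p) (hp : Function.Surjective p)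
    (H : ∀ (𝔪 : Ideal R), 𝔪.IsMaximal → ∃ (g : R) (_ : g ∉ 𝔪) (M' : Type w) (_ : AddCommGroup M')
      (_ : Module R M') (ℓ : M →ₗ[R] M') (_ : IsLocalizedModule (Submonoid.powers g) ℓ)
      (θ : J →ₗ[R] M'), ∀ m, θ (ι m) = ℓ m) :
    ∃ θ : J →ₗ[R] M, ∀ m, θ (ι m) = m := by
  classical
  -- injectivity of ι
  have hι : Function.Injective ι := by
    rw [injective_iff_map_eq_zero]
    intro m hm
    by_contra hne
    let 𝔞 : Ideal R := LinearMap.ker (LinearMap.toSpanSingleton R M m)
    have h𝔞 : ∀ r, r ∈ 𝔞 ↔ r • m = 0 := fun r => by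
      rw [LinearMap.mem_ker, LinearMap.toSpanSingleton_apply]
    have hne_top : 𝔞 ≠ ⊤ := by
      intro h
      have h1 : (1 : R) ∈ 𝔞 := h ▸ Submodule.mem_top
      rw [h𝔞, one_smul] at h1
      exact hne h1
    obtain ⟨𝔪, h𝔪, hle⟩ := Ideal.exists_le_maximal 𝔞 hne_top
    obtain ⟨g, hg, M', _, _, ℓ, _, θ, hθ⟩ := H 𝔪 h𝔪
    have h0 : ℓ m = 0 := by rw [← hθ, hm, map_zero]
    obtain ⟨⟨s, n, rfl⟩, hs⟩ := (IsLocalizedModule.eq_zero_iff (Submonoid.powers g) ℓ).mp h0
    have hs' : g ^ n • m = 0 := hs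
    have h1 : g ^ n ∈ 𝔪 := hle ((h𝔞 _).mpr hs')
    exact hg (h𝔪.isPrime.mem_of_pow_mem n h1)
  -- a section of p
  obtain ⟨σ, hσ⟩ : ∃ σ : Q →ₗ[R] J, p.comp σ = LinearMap.id := by
    apply LinearMap.split_surjective_of_localization_maximal
    intro 𝔪 h𝔪
    obtain ⟨g, hg, M', _, _, ℓ, _, θ, hθ⟩ := H 𝔪 h𝔪
    have hle : Submonoid.powers g ≤ 𝔪.primeCompl := by
      rw [Submonoid.powers_le]
      exact hg
    let lam : M' →ₗ[R] LocalizedModule 𝔪.primeCompl M :=
      IsLocalizedModule.liftOfLE (Submonoid.powers g) 𝔪.primeCompl hle ℓ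
        (LocalizedModule.mkLinearMap 𝔪.primeCompl M)
    have hlam : ∀ m, lam (ℓ m) = LocalizedModule.mkLinearMap 𝔪.primeCompl M m := fun m =>
      IsLocalizedModule.liftOfLE_apply _ _ hle ℓ _ m
    let θ' : J →ₗ[R] LocalizedModule 𝔪.primeCompl M := lam.comp θ
    let θ₂R : LocalizedModule 𝔪.primeCompl J →ₗ[R] LocalizedModule 𝔪.primeCompl M :=
      IsLocalizedModule.lift 𝔪.primeCompl (LocalizedModule.mkLinearMap 𝔪.primeCompl J) θ'
        (IsLocalizedModule.map_units (LocalizedModule.mkLinearMap 𝔪.primeCompl M))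
    have hθ₂R : ∀ x, θ₂R (LocalizedModule.mkLinearMap 𝔪.primeCompl J x) = θ' x := fun x =>
      IsLocalizedModule.lift_apply 𝔪.primeCompl _ θ' _ x
    let θ₂ : LocalizedModule 𝔪.primeCompl J →ₗ[Localization 𝔪.primeCompl]
        LocalizedModule 𝔪.primeCompl M :=
      θ₂R.extendScalarsOfIsLocalization 𝔪.primeCompl (Localization 𝔪.primeCompl)
    let Lι := LocalizedModule.map 𝔪.primeCompl ι
    let Lp := LocalizedModule.map 𝔪.primeCompl p
    have h1 : θ₂.comp Lι = LinearMap.id := by
      apply LinearMap.restrictScalars_injective R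
      apply IsLocalizedModule.ext 𝔪.primeCompl (LocalizedModule.mkLinearMap 𝔪.primeCompl M)
        (IsLocalizedModule.map_units (LocalizedModule.mkLinearMap 𝔪.primeCompl M))
      ext m
      show θ₂R (LocalizedModule.map 𝔪.primeCompl ι (LocalizedModule.mk m 1)) =
        LocalizedModule.mk m 1
      rw [LocalizedModule.map_mk]
      have e1 : LocalizedModule.mk (ι m) (1 : 𝔪.primeCompl) =
          LocalizedModule.mkLinearMap 𝔪.primeCompl J (ι m) := rfl
      rw [e1, hθ₂R]
      show lam (θ (ι m)) = _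
      rw [hθ, hlam]
      rfl
    have h1' : ∀ y, θ₂ (Lι y) = y := fun y => LinearMap.congr_fun h1 y
    have hexL : Function.Exact Lι Lp := LocalizedModule.map_exact 𝔪.primeCompl ι p hex
    have hLp : Function.Surjective Lp := LocalizedModule.map_surjective 𝔪.primeCompl p hp
    let e : LocalizedModule 𝔪.primeCompl J →ₗ[Localization 𝔪.primeCompl]
        LocalizedModule 𝔪.primeCompl J := LinearMap.id - Lι.comp θ₂
    have he : ∀ x, e x = x - Lι (θ₂ x) := fun x => rfl
    have hker : ∀ x, Lp x = 0 → e x = 0 := by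
      intro x hx
      obtain ⟨y, rfl⟩ := (hexL x).mp hx
      rw [he, h1', sub_self]
    have hpe : ∀ x, Lp (e x) = Lp x := by
      intro x
      rw [he, map_sub, hexL.apply_apply_eq_zero, sub_zero]
    refine ⟨{ toFun := fun q => e (Function.surjInv hLp q), map_add' := ?_, map_smul' := ?_ }, ?_⟩
    · intro q q'
      rw [← map_add, ← sub_eq_zero, ← map_sub]
      apply hker
      rw [map_sub, map_add, Function.surjInv_eq hLp, Function.surjInv_eq hLp,
        Function.surjInv_eq hLp, sub_self]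
    · intro c q
      rw [RingHom.id_apply, ← map_smul, ← sub_eq_zero, ← map_sub]
      apply hker
      rw [map_sub, map_smul, Function.surjInv_eq hLp, Function.surjInv_eq hLp, sub_self]
    · refine LinearMap.ext fun q => ?_
      show Lp (e (Function.surjInv hLp q)) = q
      rw [hpe, Function.surjInv_eq hLp]
  -- the retraction
  have hσ' : ∀ q, p (σ q) = q := fun q => LinearMap.congr_fun hσ q
  have hrange : ∀ x : J, ((LinearMap.id : J →ₗ[R] J) - σ.comp p) x ∈ LinearMap.range ι := by
    intro x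
    rw [← hex.linearMap_ker_eq, LinearMap.mem_ker]
    show p (x - σ (p x)) = 0
    rw [map_sub, hσ', sub_self]
  let eι := LinearEquiv.ofInjective ι hι
  let d : J →ₗ[R] LinearMap.range ι := LinearMap.codRestrict _ ((LinearMap.id : J →ₗ[R] J) - σ.comp p) hrange
  refine ⟨eι.symm.toLinearMap.comp d, fun m => ?_⟩
  apply hι
  show ι (eι.symm (d (ι m))) = ι m
  have h2 : (eι (eι.symm (d (ι m))) : J) = ι (eι.symm (d (ι m))) := rfl
  rw [← h2, LinearEquiv.apply_symm_apply]
  show ι m - σ (p (ι m)) = ι m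
  rw [hex.apply_apply_eq_zero, map_zero, sub_zero]

/-- **ring-level local-to-global lifting**, quotient form. -/
theorem exists_lift_quot {A C C₀ : Type u} [CommRing A] [CommRing C] [CommRing C₀] (I : Ideal A)
    (hI : ∀ x ∈ I, ∀ y ∈ I, x * y = 0)
    (α : A →+* C) (β : C →+* A ⧸ I) (hβα : ∀ a, β (α a) = Ideal.Quotient.mk I a)
    (hβ : ∀ x y, β x = 0 → β y = 0 → x * y = 0)
    (γ : C →+* C₀) (hγ : Function.Surjective γ) (hγker : ∀ c, γ c = 0 → c ∈ I.map α)
    (α₀ : A ⧸ I →+* C₀) (β₀ : C₀ →+* A ⧸ I) (hβα₀ : ∀ r, β₀ (α₀ r) = r)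
    (hβ₀γ : ∀ c, β₀ (γ c) = β c) (hγα : ∀ a, γ (α a) = α₀ (Ideal.Quotient.mk I a))
    (hfp : α₀.FinitePresentation)
    (s : Set A) (hs : Ideal.span s = ⊤)
    (Hloc : ∀ g ∈ s, ∃ (A' : Type u) (_ : CommRing A') (_ : Algebra A A')
      (_ : IsLocalization.Away g A') (ρ' : C →+* A'), (∀ a, ρ' (α a) = algebraMap A A' a) ∧
        ∀ x, β x = 0 → ρ' x ∈ I.map (algebraMap A A')) :
    ∃ ρ : C →+* A, (∀ a, ρ (α a) = a) ∧ ∀ c, Ideal.Quotient.mk I (ρ c) = β c := by
  classical
  letI algC : Algebra A C := α.toAlgebra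
  letI algC₀ : Algebra (A ⧸ I) C₀ := α₀.toAlgebra
  haveI : Algebra.FinitePresentation (A ⧸ I) C₀ := hfp
  have hsmulC : ∀ (a : A) (c : C), a • c = α a * c := fun a c => by
    rw [Algebra.smul_def]; rfl
  have hsmulC₀ : ∀ (r : A ⧸ I) (c : C₀), r • c = α₀ r * c := fun r c => by
    rw [Algebra.smul_def]; rfl
  let J : Ideal C := RingHom.ker β
  have hαI : ∀ y ∈ I, α y ∈ J := fun y hy => by
    rw [RingHom.mem_ker, hβα]
    exact Ideal.Quotient.eq_zero_iff_mem.mpr hy
  have hII : I * I = ⊥ := by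
    rw [eq_bot_iff, Ideal.mul_le]
    intro x hx y hy
    rw [Ideal.mem_bot]
    exact hI x hx y hy
  have hMt : Module.IsTorsionBySet A I I := by
    intro x a
    apply Subtype.ext
    show (a : A) * (x : A) = 0
    exact hI _ a.2 _ x.2
  have hJt : Module.IsTorsionBySet A J I := by
    intro x a
    apply Subtype.ext
    show (a : A) • (x : C) = 0
    rw [hsmulC]
    exact hβ _ _ (RingHom.mem_ker.mp (hαI _ a.2)) (RingHom.mem_ker.mp x.2)
  letI modM : Module (A ⧸ I) I := hMt.module
  letI modJ : Module (A ⧸ I) J := hJt.module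
  let ε : C₀ →ₐ[A ⧸ I] (A ⧸ I) :=
    { β₀ with
      commutes' := fun r => by
        show β₀ (α₀ r) = r
        exact hβα₀ r }
  have hε : ∀ c, ε c = β₀ c := fun _ => rfl
  have hβ₀sq : ∀ x y : C₀, ε x = 0 → ε y = 0 → x * y = 0 := by
    intro x y hx hy
    obtain ⟨c, rfl⟩ := hγ x
    obtain ⟨c', rfl⟩ := hγ y
    rw [hε, hβ₀γ] at hx hy
    rw [← map_mul, hβ _ _ hx hy, map_zero]
  haveI : Module.FinitePresentation (A ⧸ I) (LinearMap.ker ε.toLinearMap) :=
    finitePresentation_ker_of_augmentation (A ⧸ I) C₀ ε hβ₀sq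
  let ι : I →ₗ[A ⧸ I] J :=
    { toFun := fun x => ⟨α x, hαI _ x.2⟩
      map_add' := fun x y => Subtype.ext (map_add α _ _)
      map_smul' := fun r x => by
        obtain ⟨a, rfl⟩ := Ideal.Quotient.mk_surjective r
        apply Subtype.ext
        show α (a * (x : A)) = a • α (x : A)
        rw [hsmulC, map_mul] }
  let p : J →ₗ[A ⧸ I] LinearMap.ker ε.toLinearMap :=
    { toFun := fun x => ⟨γ x, by
        rw [LinearMap.mem_ker]
        show β₀ (γ (x : C)) = 0
        rw [hβ₀γ]
        exact RingHom.mem_ker.mp x.2⟩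
      map_add' := fun x y => Subtype.ext (map_add γ _ _)
      map_smul' := fun r x => by
        obtain ⟨a, rfl⟩ := Ideal.Quotient.mk_surjective r
        apply Subtype.ext
        show γ (a • (x : C)) = Ideal.Quotient.mk I a • γ (x : C)
        rw [hsmulC, hsmulC₀, map_mul, hγα] }
  have hmapI : ∀ c ∈ I.map α, ∃ y ∈ I, c = α y := by
    intro c hc
    have hc' : c ∈ Submodule.span C (α '' (I : Set A)) := hc
    refine Submodule.span_induction (p := fun c _ => ∃ y ∈ I, c = α y) ?_ ?_ ?_ ?_ hc'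
    · rintro _ ⟨y, hy, rfl⟩
      exact ⟨y, hy, rfl⟩
    · exact ⟨0, I.zero_mem, (map_zero α).symm⟩
    · rintro _ _ _ _ ⟨y, hy, rfl⟩ ⟨y', hy', rfl⟩
      exact ⟨y + y', I.add_mem hy hy', (map_add α _ _).symm⟩
    · rintro c' _ _ ⟨y, hy, rfl⟩
      obtain ⟨a', ha'⟩ := Ideal.Quotient.mk_surjective (β c')
      have hx' : β (c' - α a') = 0 := by rw [map_sub, hβα, ha', sub_self]
      refine ⟨a' * y, I.mul_mem_left _ hy, ?_⟩
      have h0 : (c' - α a') * α y = 0 := hβ _ _ hx' (RingHom.mem_ker.mp (hαI y hy))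
      rw [smul_eq_mul, map_mul]
      linear_combination h0
  have hex : Function.Exact ι p := by
    intro x
    constructor
    · intro hx
      have hx' : γ (x : C) = 0 := congrArg Subtype.val hx
      obtain ⟨y, hy, hxy⟩ := hmapI _ (hγker _ hx')
      exact ⟨⟨y, hy⟩, Subtype.ext hxy.symm⟩
    · rintro ⟨y, rfl⟩
      apply Subtype.ext
      show γ (α (y : A)) = 0
      rw [hγα, Ideal.Quotient.eq_zero_iff_mem.mpr y.2, map_zero]
  have hp : Function.Surjective p := by
    rintro ⟨q, hq⟩
    obtain ⟨c, rfl⟩ := hγ q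
    have hq' : β₀ (γ c) = 0 := hq
    rw [hβ₀γ] at hq'
    exact ⟨⟨c, RingHom.mem_ker.mpr hq'⟩, rfl⟩
  have H : ∀ (𝔪 : Ideal (A ⧸ I)), 𝔪.IsMaximal → ∃ (g : A ⧸ I) (_ : g ∉ 𝔪) (M' : Type u)
      (_ : AddCommGroup M') (_ : Module (A ⧸ I) M') (ℓ : I →ₗ[A ⧸ I] M')
      (_ : IsLocalizedModule (Submonoid.powers g) ℓ) (θ : J →ₗ[A ⧸ I] M'),
      ∀ m, θ (ι m) = ℓ m := by
    intro 𝔪 h𝔪
    obtain ⟨g, hgs, hg𝔪⟩ : ∃ g ∈ s, Ideal.Quotient.mk I g ∉ 𝔪 := by
      by_contra hcon
      push Not at hcon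
      have h1 : Ideal.span s ≤ 𝔪.comap (Ideal.Quotient.mk I) :=
        Ideal.span_le.mpr (fun g hg => hcon g hg)
      rw [hs] at h1
      have h2 : (1 : A) ∈ 𝔪.comap (Ideal.Quotient.mk I) := h1 Submodule.mem_top
      rw [Ideal.mem_comap, map_one] at h2
      exact h𝔪.ne_top ((Ideal.eq_top_iff_one _).mpr h2)
    obtain ⟨A', _, _, _, ρ', hρα, hρJ⟩ := Hloc g hgs
    let I' : Ideal A' := I.map (algebraMap A A')
    have hI'sq : ∀ z ∈ I', ∀ z' ∈ I', z * z' = 0 := by
      intro z hz z' hz'
      have h1 : z * z' ∈ I' * I' := Ideal.mul_mem_mul hz hz'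
      have h2 : I' * I' = ⊥ := by
        show I.map (algebraMap A A') * I.map (algebraMap A A') = ⊥
        rw [← Ideal.map_mul, hII, Ideal.map_bot]
      rw [h2] at h1
      exact Ideal.mem_bot.mp h1
    have hM't : Module.IsTorsionBySet A I' I := by
      intro z a
      apply Subtype.ext
      show (a : A) • (z : A') = 0
      rw [Algebra.smul_def]
      exact hI'sq _ (Ideal.mem_map_of_mem _ a.2) _ z.2
    letI modM' : Module (A ⧸ I) I' := hM't.module
    let ℓA : I →ₗ[A] I' := Algebra.idealMap A' I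
    haveI : IsLocalizedModule (Submonoid.powers g) ℓA :=
      Algebra.idealMap_isLocalizedModule A' (Submonoid.powers g) I
    let ℓ : I →ₗ[A ⧸ I] I' :=
      { toFun := ℓA
        map_add' := ℓA.map_add
        map_smul' := fun r x => by
          obtain ⟨a, rfl⟩ := Ideal.Quotient.mk_surjective r
          show ℓA (a • x) = a • ℓA x
          exact ℓA.map_smul a x }
    have hloc : IsLocalizedModule (Submonoid.powers (Ideal.Quotient.mk I g)) ℓ :=
      isLocalizedModule_quot I (fun _ _ => rfl) (fun _ _ => rfl) g ℓA ℓ (fun _ => rfl)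
    let θ : J →ₗ[A ⧸ I] I' :=
      { toFun := fun x => ⟨ρ' x, hρJ _ (RingHom.mem_ker.mp x.2)⟩
        map_add' := fun x y => Subtype.ext (map_add ρ' _ _)
        map_smul' := fun r x => by
          obtain ⟨a, rfl⟩ := Ideal.Quotient.mk_surjective r
          apply Subtype.ext
          show ρ' (a • (x : C)) = a • ρ' (x : C)
          rw [hsmulC, map_mul, hρα, Algebra.smul_def] }
    refine ⟨Ideal.Quotient.mk I g, hg𝔪, I', inferInstance, modM', ℓ, hloc, θ, fun m => ?_⟩
    apply Subtype.ext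
    show ρ' (α (m : A)) = algebraMap A A' (m : A)
    exact hρα _
  obtain ⟨θ, hθ⟩ := exists_retraction_of_local ι p hex hp H
  have hθsmul : ∀ (a : A) (x : J), θ (a • x) = a • θ x := fun a x =>
    θ.map_smul (Ideal.Quotient.mk I a) x
  choose aOf haOf using fun c : C => Ideal.Quotient.mk_surjective (β c)
  have hmem : ∀ (c : C) (a : A), Ideal.Quotient.mk I a = β c → c - α a ∈ J := fun c a h => by
    rw [RingHom.mem_ker, map_sub, hβα, h, sub_self]
  let d : C → J := fun c => ⟨c - α (aOf c), hmem c _ (haOf c)⟩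
  let ρf : C → A := fun c => aOf c + (θ (d c) : A)
  have hρf : ∀ c, ρf c = aOf c + (θ (d c) : A) := fun _ => rfl
  have hd : ∀ c, ((d c : J) : C) = c - α (aOf c) := fun _ => rfl
  have key : ∀ (c : C) (a : A) (h : Ideal.Quotient.mk I a = β c),
      ρf c = a + (θ ⟨c - α a, hmem c a h⟩ : A) := by
    intro c a h
    have hy : a - aOf c ∈ I := by
      rw [← Ideal.Quotient.eq_zero_iff_mem, map_sub, h, haOf, sub_self]
    have e1 : d c = ⟨c - α a, hmem c a h⟩ + ι ⟨a - aOf c, hy⟩ := by
      apply Subtype.ext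
      show c - α (aOf c) = (c - α a) + α (a - aOf c)
      rw [map_sub]
      ring
    rw [hρf, e1, map_add, hθ]
    show aOf c + (((θ ⟨c - α a, hmem c a h⟩ : I) : A) + (a - aOf c)) = _
    ring
  have hρα' : ∀ a, ρf (α a) = a := by
    intro a
    rw [key (α a) a (hβα a).symm]
    have e1 : (⟨α a - α a, hmem (α a) a (hβα a).symm⟩ : J) = 0 := Subtype.ext (sub_self _)
    rw [e1, map_zero]
    show a + (0 : A) = a
    rw [add_zero]
  have hρmk : ∀ c, Ideal.Quotient.mk I (ρf c) = β c := by
    intro c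
    rw [hρf, map_add, haOf, Ideal.Quotient.eq_zero_iff_mem.mpr (θ (d c)).2, add_zero]
  have hρadd : ∀ c c', ρf (c + c') = ρf c + ρf c' := by
    intro c c'
    have h : Ideal.Quotient.mk I (aOf c + aOf c') = β (c + c') := by
      rw [map_add, map_add, haOf, haOf]
    rw [key (c + c') _ h]
    have e1 : (⟨c + c' - α (aOf c + aOf c'), hmem _ _ h⟩ : J) = d c + d c' := by
      apply Subtype.ext
      show c + c' - α (aOf c + aOf c') = (c - α (aOf c)) + (c' - α (aOf c'))
      rw [map_add]
      ring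
    rw [e1, map_add, hρf, hρf]
    show aOf c + aOf c' + (((θ (d c) : I) : A) + ((θ (d c') : I) : A)) = _
    ring
  have hρmul : ∀ c c', ρf (c * c') = ρf c * ρf c' := by
    intro c c'
    have h : Ideal.Quotient.mk I (aOf c * aOf c') = β (c * c') := by
      rw [map_mul, map_mul, haOf, haOf]
    rw [key (c * c') _ h]
    have e1 : (⟨c * c' - α (aOf c * aOf c'), hmem _ _ h⟩ : J) = aOf c' • d c + aOf c • d c' := by
      apply Subtype.ext
      show c * c' - α (aOf c * aOf c') =
        aOf c' • (c - α (aOf c)) + aOf c • (c' - α (aOf c'))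
      have h0 : (c - α (aOf c)) * (c' - α (aOf c')) = 0 :=
        hβ _ _ (RingHom.mem_ker.mp (d c).2) (RingHom.mem_ker.mp (d c').2)
      rw [hsmulC, hsmulC, map_mul]
      linear_combination h0
    rw [e1, map_add, hθsmul, hθsmul, hρf, hρf]
    show aOf c * aOf c' + (aOf c' * ((θ (d c) : I) : A) + aOf c * ((θ (d c') : I) : A)) =
      (aOf c + ((θ (d c) : I) : A)) * (aOf c' + ((θ (d c') : I) : A))
    have h1 : ((θ (d c) : I) : A) * ((θ (d c') : I) : A) = 0 :=
      hI _ (θ (d c)).2 _ (θ (d c')).2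
    linear_combination (-1 : A) * h1
  have hρone : ρf 1 = 1 := by
    have h1 := hρα' 1
    rwa [map_one] at h1
  have hρzero : ρf 0 = 0 := by
    have h1 := hρα' 0
    rwa [map_zero] at h1
  let ρ : C →+* A :=
    { toFun := ρf
      map_one' := hρone
      map_mul' := hρmul
      map_zero' := hρzero
      map_add' := hρadd }
  exact ⟨ρ, hρα', hρmk⟩

/-- **ring-level local-to-global lifting**. `φ : A → A₀` and `β : C → A₀` are surjections with square
zero kernels, `C₀ = C / (ker φ) C` is a finitely presented augmented `A₀`-algebra, and local lifts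
`C → A_g` of `β` exist for `g` in a set spanning the unit ideal; then a global lift `C → A` exists. -/
theorem exists_lift {A A₀ C C₀ : Type u} [CommRing A] [CommRing A₀] [CommRing C] [CommRing C₀]
    (φ : A →+* A₀) (hφ : Function.Surjective φ)
    (hI : ∀ x y, φ x = 0 → φ y = 0 → x * y = 0)
    (α : A →+* C) (β : C →+* A₀) (hβα : ∀ a, β (α a) = φ a)
    (hβ : ∀ x y, β x = 0 → β y = 0 → x * y = 0)
    (γ : C →+* C₀) (hγ : Function.Surjective γ)
    (hγker : ∀ c, γ c = 0 → c ∈ (RingHom.ker φ).map α)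
    (α₀ : A₀ →+* C₀) (β₀ : C₀ →+* A₀) (hβα₀ : ∀ r, β₀ (α₀ r) = r)
    (hβ₀γ : ∀ c, β₀ (γ c) = β c) (hγα : ∀ a, γ (α a) = α₀ (φ a))
    (hfp : α₀.FinitePresentation)
    (s : Set A) (hs : Ideal.span s = ⊤)
    (Hloc : ∀ g ∈ s, ∃ (A' : Type u) (_ : CommRing A') (_ : Algebra A A')
      (_ : IsLocalization.Away g A') (ρ' : C →+* A'), (∀ a, ρ' (α a) = algebraMap A A' a) ∧
        ∀ x, β x = 0 → ρ' x ∈ (RingHom.ker φ).map (algebraMap A A')) :
    ∃ ρ : C →+* A, (∀ a, ρ (α a) = a) ∧ ∀ c, φ (ρ c) = β c := by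
  let e : A ⧸ RingHom.ker φ ≃+* A₀ := RingHom.quotientKerEquivOfSurjective hφ
  have he : ∀ a, e (Ideal.Quotient.mk _ a) = φ a := fun a =>
    RingHom.quotientKerEquivOfSurjective_apply_mk hφ a
  have hes : ∀ a, e.symm (φ a) = Ideal.Quotient.mk _ a := fun a => by
    rw [RingEquiv.symm_apply_eq, he]
  have hes0 : ∀ r : A₀, e.symm r = 0 ↔ r = 0 := fun r => map_eq_zero_iff _ e.symm.injective
  obtain ⟨ρ, h1, h2⟩ := exists_lift_quot (RingHom.ker φ)
    (fun x hx y hy => hI x y (RingHom.mem_ker.mp hx) (RingHom.mem_ker.mp hy))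
    α (e.symm.toRingHom.comp β)
    (fun a => by
      show e.symm (β (α a)) = _
      rw [hβα, hes])
    (fun x y hx hy => hβ x y ((hes0 _).mp hx) ((hes0 _).mp hy))
    γ hγ hγker (α₀.comp e.toRingHom) (e.symm.toRingHom.comp β₀)
    (fun r => by
      show e.symm (β₀ (α₀ (e r))) = r
      rw [hβα₀, RingEquiv.symm_apply_apply])
    (fun c => by
      show e.symm (β₀ (γ c)) = e.symm (β c)
      rw [hβ₀γ])
    (fun a => by
      show γ (α a) = α₀ (e (Ideal.Quotient.mk _ a))
      rw [he, hγα])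
    (RingHom.FinitePresentation.comp hfp (RingHom.FinitePresentation.of_bijective e.bijective))
    s hs
    (fun g hg => by
      obtain ⟨A', i1, i2, i3, ρ', hρ1, hρ2⟩ := Hloc g hg
      exact ⟨A', i1, i2, i3, ρ', hρ1, fun x hx => hρ2 x ((hes0 _).mp hx)⟩)
  refine ⟨ρ, h1, fun c => ?_⟩
  have h3 := h2 c
  have h4 : e (Ideal.Quotient.mk _ (ρ c)) = e (e.symm (β c)) := congrArg e h3
  rw [he, RingEquiv.apply_symm_apply] at h4
  exact h4

/-- the universal first order thickening of a quotient `B → B/K` is `B/K²`. -/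
theorem univThickening_of_surjective {B S D : Type u} [CommRing B] [CommRing S] [CommRing D]
    [Algebra B S] [Algebra B D] (π : D →ₐ[B] S) (h : OmegaSh.IsUnivThickeningRing B S D π)
    (hS : Function.Surjective (algebraMap B S)) :
    Function.Surjective (algebraMap B D) ∧
      RingHom.ker (algebraMap B D) = RingHom.ker (algebraMap B S) ^ 2 := by
  set K : Ideal B := RingHom.ker (algebraMap B S) with hK
  let E := B ⧸ K ^ 2
  let N : Ideal E := K.map (Ideal.Quotient.mk (K ^ 2))
  have hN : N ^ 2 = ⊥ := by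
    show (K.map (Ideal.Quotient.mk (K ^ 2))) ^ 2 = ⊥
    rw [← Ideal.map_pow, Ideal.map_quotient_self]
  obtain ⟨a, -⟩ := Groth.Agent.Lib.Helper18UnivThick2.exists_desc (Algebra.ofId B S)
    (fun s => by obtain ⟨b, rfl⟩ := hS s; exact ⟨b, rfl⟩) (Algebra.ofId B (E ⧸ N)) (by
      intro n hn
      have hn' : n ∈ K := by rw [hK, RingHom.mem_ker]; exact hn
      show Ideal.Quotient.mk N (Ideal.Quotient.mk (K ^ 2) n) = 0
      exact Ideal.Quotient.eq_zero_iff_mem.mpr (Ideal.mem_map_of_mem _ hn'))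
  obtain ⟨a', ha', -⟩ := h.2.2 E N hN a
  have hle2 : K ^ 2 ≤ RingHom.ker (algebraMap B D) := by
    rw [pow_two, Ideal.mul_le]
    intro x hx y hy
    rw [RingHom.mem_ker, map_mul]
    have hx' : algebraMap B D x ∈ RingHom.ker π.toRingHom := by
      rw [RingHom.mem_ker]
      show π (algebraMap B D x) = 0
      rw [π.commutes]
      exact RingHom.mem_ker.mp hx
    have hy' : algebraMap B D y ∈ RingHom.ker π.toRingHom := by
      rw [RingHom.mem_ker]
      show π (algebraMap B D y) = 0
      rw [π.commutes]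
      exact RingHom.mem_ker.mp hy
    have h1 := Ideal.mul_mem_mul hx' hy'
    rw [← pow_two, h.2.1] at h1
    exact Ideal.mem_bot.mp h1
  have hle1 : RingHom.ker (algebraMap B D) ≤ K ^ 2 := by
    intro b hb
    rw [RingHom.mem_ker] at hb
    have h1 : a' (algebraMap B D b) = Ideal.Quotient.mk (K ^ 2) b := a'.commutes b
    rw [hb, map_zero] at h1
    exact Ideal.Quotient.eq_zero_iff_mem.mp h1.symm
  let e : E →ₐ[B] D := Ideal.Quotient.liftₐ (K ^ 2) (Algebra.ofId B D) (fun b hb => hle2 hb)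
  have he : ∀ b, e (Ideal.Quotient.mk (K ^ 2) b) = algebraMap B D b := fun b => rfl
  have ha_inj : Function.Injective a := by
    rw [injective_iff_map_eq_zero]
    intro s hs
    obtain ⟨b, rfl⟩ := hS s
    have h1 : a (algebraMap B S b) = Ideal.Quotient.mk N (Ideal.Quotient.mk (K ^ 2) b) :=
      a.commutes b
    rw [h1, Ideal.Quotient.eq_zero_iff_mem] at hs
    obtain ⟨k, hk, hkb⟩ := (Ideal.mem_map_iff_of_surjective _ Ideal.Quotient.mk_surjective).mp hs
    have h2 : k - b ∈ K ^ 2 := Ideal.Quotient.eq.mp hkb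
    have h3 : b ∈ K := by
      have h4 := K.sub_mem hk (Ideal.pow_le_self two_ne_zero h2)
      simpa using h4
    exact RingHom.mem_ker.mp h3
  have hπe : ∀ d, π (e (a' d)) = π d := by
    intro d
    obtain ⟨b, hb⟩ := Ideal.Quotient.mk_surjective (a' d)
    have h1 : Ideal.Quotient.mk N (a' d) = a (π d) := AlgHom.congr_fun ha' d
    apply ha_inj
    rw [← h1, ← hb, he, π.commutes]
    exact a.commutes b
  have hid : AlgHom.id B D = e.comp a' :=
    Groth.Agent.Lib.Helper18UnivThick2.lemmaU π h D (RingHom.ker π.toRingHom) h.2.1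
      (AlgHom.id B D) (e.comp a')
      (fun n hn => by rw [RingHom.mem_ker]; exact hn)
      (fun x => by
        rw [RingHom.mem_ker, map_sub, sub_eq_zero]
        exact (hπe x).symm)
  refine ⟨fun d => ?_, le_antisymm hle1 hle2⟩
  obtain ⟨b, hb⟩ := Ideal.Quotient.mk_surjective (a' d)
  refine ⟨b, ?_⟩
  have h1 := AlgHom.congr_fun hid d
  rw [← he, hb]
  exact h1.symm

/-- the universal first order thickening of a quotient by a finitely generated ideal is finitely
presented over the base. -/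
theorem univThickening_finitePresentation {B S D : Type u} [CommRing B] [CommRing S] [CommRing D]
    [Algebra B S] [Algebra B D] (π : D →ₐ[B] S) (h : OmegaSh.IsUnivThickeningRing B S D π)
    (hS : Function.Surjective (algebraMap B S)) (hfg : (RingHom.ker (algebraMap B S)).FG) :
    (algebraMap B D).FinitePresentation := by
  obtain ⟨h1, h2⟩ := univThickening_of_surjective π h hS
  exact RingHom.FinitePresentation.of_surjective _ h1 (h2 ▸ hfg.pow)

/-- the kernel of a retraction of a finitely presented ring map is finitely generated. -/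
theorem ker_fg_of_retraction {R B : Type*} [CommRing R] [CommRing B] (φ : R →+* B) (ψ : B →+* R)
    (h : ∀ r, ψ (φ r) = r) (hφ : φ.FinitePresentation) : (RingHom.ker ψ).FG := by
  algebraize [φ]
  let ψa : B →ₐ[R] R := { ψ with commutes' := h }
  exact Algebra.FinitePresentation.ker_fG_of_surjective ψa (fun r => ⟨φ r, h r⟩)

end Groth.Agent.Lib.Helper8LiftAlg
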