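import Mathlib
import Groth.Prelude
import Groth.Agent.Lib.Helper8LiftAlg
import Groth.Agent.Lib.Helper8InfNbhd
import Groth.Agent.Lib.Helper22ThickAffine
import Groth.Agent.Lib.Helper18UT6
import Groth.Agent.Lib.Helper18UT9
import Groth.Agent.Lib.Helper20IdealComap
import Groth.Agent.S9731
import Groth.Agent.S9733
import Groth.Agent.S9740

set_option autoImplicit false
set_option linter.style.haveILetI false

/-!
# Local lifts along a first order thickening of an affine scheme glue (scheme level)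
-/

universe u

open CategoryTheory CategoryTheory.Limits AlgebraicGeometry Opposite TopologicalSpace

namespace Groth.Agent.Lib.Helper8LiftSch

/-- morphisms into an affine scheme with prescribed map on global sections. -/
theorem exists_hom_appTop {X Y : Scheme.{u}} [IsAffine Y] (ψ : Γ(Y, ⊤) ⟶ Γ(X, ⊤)) :
    ∃ r : X ⟶ Y, r.appTop = ψ := by
  refine ⟨Groth.Agent.Helper18UT.toSpec X ψ ≫ Y.isoSpec.inv, ?_⟩
  apply Groth.Agent.Helper18UT.toSpec_injective (Y := X)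
  unfold Groth.Agent.Helper18UT.toSpec
  rw [← Scheme.toSpecΓ_naturality, Category.assoc, Category.assoc]
  have h1 : Y.isoSpec.inv ≫ Y.toSpecΓ = 𝟙 _ := Y.isoSpec.inv_hom_id
  rw [h1, Category.comp_id]

/-- a morphism whose composite with some morphism is a monomorphism is formally unramified. -/
theorem formallyUnramified_of_comp_mono {A B C : Scheme.{u}} (s : A ⟶ B) (p : B ⟶ C)
    [Mono (s ≫ p)] : FormallyUnramified s := by
  haveI : FormallyUnramified (s ≫ p) := inferInstance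
  exact FormallyUnramified.of_comp s p

/-- restricting a local lift to a smaller open. -/
theorem restrict_lift {T T₀ X : Scheme.{u}} (i : T₀ ⟶ T) (a₀ : T₀ ⟶ X) {U W : T.Opens}
    (hWU : W ≤ U) (b : U.toScheme ⟶ X) (hb : (i ∣_ U) ≫ b = (i ⁻¹ᵁ U).ι ≫ a₀) :
    (i ∣_ W) ≫ (T.homOfLE hWU ≫ b) = (i ⁻¹ᵁ W).ι ≫ a₀ := by
  have h1 : (i ∣_ W) ≫ T.homOfLE hWU = T₀.homOfLE (i.preimage_mono hWU) ≫ (i ∣_ U) := by
    rw [← cancel_mono U.ι]
    simp only [Category.assoc, Scheme.homOfLE_ι, morphismRestrict_ι, Scheme.homOfLE_ι_assoc]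
  rw [← Category.assoc, h1, Category.assoc, hb, Scheme.homOfLE_ι_assoc]

/-- the universal first order thickening of a section of a morphism locally of finite presentation
to an affine scheme is locally of finite presentation over the ambient scheme. -/
theorem locallyOfFinitePresentation_of_section {Y T₀ P₀ : Scheme.{u}} [IsAffine T₀] (q : Y ⟶ T₀)
    [LocallyOfFinitePresentation q] (s : T₀ ⟶ Y) (hsq : s ≫ q = 𝟙 T₀) [FormallyUnramified s]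
    (j₀ : T₀ ⟶ P₀) (h₀ : P₀ ⟶ Y) (hu : OmegaSh.IsUnivThickening s j₀ h₀) :
    LocallyOfFinitePresentation h₀ := by
  obtain ⟨⟨⟨hci, hsurj⟩, hker⟩, hjh, -⟩ := id hu
  haveI := hci
  haveI : IsAffine P₀ :=
    Groth.Agent.Lib.Helper22.ThickAffine.isAffine_of_thickening j₀ hsurj.surj
  rw [HasRingHomProperty.iff_exists_appLE (P := @LocallyOfFinitePresentation)
    (RingHom.finitePresentation_stableUnderComposition.stableUnderCompositionWithLocalizationAway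
      RingHom.finitePresentation_holdsForLocalizationAway).1]
  intro z'
  obtain ⟨t, rfl⟩ := hsurj.surj z'
  obtain ⟨U₁, hU₁, htU₁, -⟩ := exists_isAffineOpen_mem_and_subset (x := s t) (U := ⊤) trivial
  obtain ⟨g, hgV, htg⟩ := (isAffineOpen_top T₀).exists_basicOpen_le (V := s ⁻¹ᵁ U₁)
    ⟨t, htU₁⟩ trivial
  have hV : IsAffineOpen (T₀.basicOpen g) := (isAffineOpen_top T₀).basicOpen g
  have hU : IsAffineOpen (U₁ ⊓ q ⁻¹ᵁ T₀.basicOpen g) := by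
    have h1 : U₁ ⊓ q ⁻¹ᵁ T₀.basicOpen g =
        Y.basicOpen (Y.presheaf.map (homOfLE (le_top : U₁ ≤ ⊤)).op (q.appTop g)) := by
      rw [Scheme.basicOpen_res, ← Scheme.preimage_basicOpen_top]
    rw [h1]
    exact hU₁.basicOpen _
  have hV' : IsAffineOpen ((h₀ ≫ q) ⁻¹ᵁ T₀.basicOpen g) := by
    rw [Scheme.preimage_basicOpen_top]
    exact (isAffineOpen_top P₀).basicOpen _
  have hsV : s ⁻¹ᵁ (q ⁻¹ᵁ T₀.basicOpen g) = T₀.basicOpen g := by
    have h1 : (s ≫ q) ⁻¹ᵁ T₀.basicOpen g = T₀.basicOpen g := by rw [hsq]; rfl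
    exact h1
  have hVU : T₀.basicOpen g ≤ s ⁻¹ᵁ (U₁ ⊓ q ⁻¹ᵁ T₀.basicOpen g) := by
    intro x hx
    refine ⟨hgV hx, ?_⟩
    have h1 : x ∈ s ⁻¹ᵁ (q ⁻¹ᵁ T₀.basicOpen g) := by rw [hsV]; exact hx
    exact h1
  have hjV' : j₀ ⁻¹ᵁ ((h₀ ≫ q) ⁻¹ᵁ T₀.basicOpen g) = T₀.basicOpen g := by
    have h1 : (j₀ ≫ h₀ ≫ q) ⁻¹ᵁ T₀.basicOpen g = T₀.basicOpen g := by
      rw [← Category.assoc, hjh, hsq]; rfl
    exact h1
  have hV'U : (h₀ ≫ q) ⁻¹ᵁ T₀.basicOpen g ≤ h₀ ⁻¹ᵁ (U₁ ⊓ q ⁻¹ᵁ T₀.basicOpen g) := by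
    intro z hz
    obtain ⟨t', rfl⟩ := hsurj.surj z
    have ht' : t' ∈ T₀.basicOpen g := by
      have h1 : t' ∈ j₀ ⁻¹ᵁ ((h₀ ≫ q) ⁻¹ᵁ T₀.basicOpen g) := hz
      rw [hjV'] at h1
      exact h1
    refine ⟨?_, hz⟩
    have h2 : h₀ (j₀ t') = s t' := by rw [← Scheme.Hom.comp_apply, hjh]
    show h₀ (j₀ t') ∈ U₁
    rw [h2]
    exact hgV ht'
  have hres := Groth.Agent.S9740.result s j₀ h₀ hu (T₀.basicOpen g)
    (U₁ ⊓ q ⁻¹ᵁ T₀.basicOpen g) hVU ((h₀ ≫ q) ⁻¹ᵁ T₀.basicOpen g) hjV' hV'U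
  letI algS : Algebra Γ(Y, U₁ ⊓ q ⁻¹ᵁ T₀.basicOpen g) Γ(T₀, T₀.basicOpen g) :=
    (s.appLE _ _ hVU).hom.toAlgebra
  letI algD : Algebra Γ(Y, U₁ ⊓ q ⁻¹ᵁ T₀.basicOpen g) Γ(P₀, (h₀ ≫ q) ⁻¹ᵁ T₀.basicOpen g) :=
    (h₀.appLE _ _ hV'U).hom.toAlgebra
  have aux : ∀ (f₁ f₂ : T₀ ⟶ Y) (_ : f₁ = f₂) (e₁ e₂),
      f₁.appLE (U₁ ⊓ q ⁻¹ᵁ T₀.basicOpen g) (T₀.basicOpen g) e₁ =
        f₂.appLE (U₁ ⊓ q ⁻¹ᵁ T₀.basicOpen g) (T₀.basicOpen g) e₂ := by
    rintro _ _ rfl _ _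
    rfl
  have hcomm : h₀.appLE _ _ hV'U ≫ j₀.appLE _ _ hjV'.ge = s.appLE _ _ hVU := by
    rw [Scheme.Hom.appLE_comp_appLE]
    exact aux _ _ hjh _ _
  let πa : Γ(P₀, (h₀ ≫ q) ⁻¹ᵁ T₀.basicOpen g) →ₐ[Γ(Y, U₁ ⊓ q ⁻¹ᵁ T₀.basicOpen g)]
      Γ(T₀, T₀.basicOpen g) :=
    { (j₀.appLE _ _ hjV'.ge).hom with
      commutes' := fun x => by
        have h1 := congrArg (fun φ => φ.hom x) hcomm
        simp only [CommRingCat.hom_comp, RingHom.comp_apply] at h1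
        exact h1 }
  have hring := Groth.Agent.Helper18UT.isUnivThickeningRing_appLE s j₀ h₀ hjV'.ge hVU hV'U hU hV' hV
    hres rfl rfl πa (fun _ => rfl)
  have hqU : U₁ ⊓ q ⁻¹ᵁ T₀.basicOpen g ≤ q ⁻¹ᵁ T₀.basicOpen g := inf_le_right
  have aux2 : ∀ (f₁ : T₀ ⟶ T₀) (_ : f₁ = 𝟙 T₀) (e₁),
      f₁.appLE (T₀.basicOpen g) (T₀.basicOpen g) e₁ = 𝟙 _ := by
    rintro _ rfl e₁
    exact (Scheme.Hom.app_eq_appLE (𝟙 T₀) (U := T₀.basicOpen g)).symm.trans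
      (Scheme.Hom.id_app (T₀.basicOpen g))
  have hsec : q.appLE _ _ hqU ≫ s.appLE _ _ hVU = 𝟙 _ := by
    rw [Scheme.Hom.appLE_comp_appLE]
    exact aux2 _ hsq _
  have hsec' : ∀ x, (s.appLE _ _ hVU).hom ((q.appLE _ _ hqU).hom x) = x := by
    intro x
    have h1 := congrArg (fun φ => φ.hom x) hsec
    simp only [CommRingCat.hom_comp, RingHom.comp_apply, CommRingCat.hom_id, RingHom.id_apply] at h1
    exact h1
  have hsurjS : Function.Surjective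
      (algebraMap Γ(Y, U₁ ⊓ q ⁻¹ᵁ T₀.basicOpen g) Γ(T₀, T₀.basicOpen g)) := fun x =>
    ⟨(q.appLE _ _ hqU).hom x, hsec' x⟩
  have hfpq : (q.appLE _ _ hqU).hom.FinitePresentation :=
    HasRingHomProperty.appLE (P := @LocallyOfFinitePresentation) q inferInstance
      ⟨T₀.basicOpen g, hV⟩ ⟨U₁ ⊓ q ⁻¹ᵁ T₀.basicOpen g, hU⟩ hqU
  have hfg : (RingHom.ker
      (algebraMap Γ(Y, U₁ ⊓ q ⁻¹ᵁ T₀.basicOpen g) Γ(T₀, T₀.basicOpen g))).FG :=
    Groth.Agent.Lib.Helper8LiftAlg.ker_fg_of_retraction (q.appLE _ _ hqU).hom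
      (s.appLE _ _ hVU).hom hsec' hfpq
  have hfp := Groth.Agent.Lib.Helper8LiftAlg.univThickening_finitePresentation πa hring hsurjS hfg
  refine ⟨⟨U₁ ⊓ q ⁻¹ᵁ T₀.basicOpen g, hU⟩, ⟨(h₀ ≫ q) ⁻¹ᵁ T₀.basicOpen g, hV'⟩, ?_, hV'U, hfp⟩
  have h3 : t ∈ j₀ ⁻¹ᵁ ((h₀ ≫ q) ⁻¹ᵁ T₀.basicOpen g) := by rw [hjV']; exact htg
  exact h3

/-- square zero kernel on global sections. -/
theorem sq_zero_appTop {Z X : Scheme.{u}} (i : Z ⟶ X) [IsClosedImmersion i] [IsAffine X]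
    (h : i.ker * i.ker = ⊥) (x y : Γ(X, ⊤)) (hx : i.appTop.hom x = 0) (hy : i.appTop.hom y = 0) :
    x * y = 0 := by
  have h1 : (i.ker * i.ker).ideal ⟨⊤, isAffineOpen_top X⟩ = ⊥ := by rw [h]; rfl
  rw [Scheme.IdealSheafData.ideal_mul, Pi.mul_apply, Scheme.Hom.ker_apply] at h1
  have h2 : x * y ∈ RingHom.ker (i.app ⊤).hom * RingHom.ker (i.app ⊤).hom :=
    Ideal.mul_mem_mul (RingHom.mem_ker.mpr hx) (RingHom.mem_ker.mpr hy)
  rw [h1] at h2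
  exact Ideal.mem_bot.mp h2

theorem ι_appTop_topIso {X : Scheme.{u}} (U : X.Opens) :
    U.ι.appTop ≫ U.topIso.hom = X.presheaf.map (homOfLE (le_top : U ≤ ⊤)).op := by
  show X.presheaf.map (homOfLE (x := U.ι ''ᵁ ⊤) le_top).op ≫
    X.presheaf.map (eqToHom U.ι_image_top.symm).op = _
  rw [← Functor.map_comp]
  rfl

/-- **local lifts glue**: lifts along a first order thickening of an affine scheme into a morphism
locally of finite presentation exist as soon as they exist locally on the thickening. -/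
theorem exists_lift_of_local {S X T T₀ : Scheme.{u}}
    (f : X ⟶ S) [LocallyOfFinitePresentation f]
    (i : T₀ ⟶ T) [IsClosedImmersion i] [IsAffine T₀]
    (hker : i.ker * i.ker = ⊥)
    (a : T ⟶ S) (a₀ : T₀ ⟶ X) (hsqr : a₀ ≫ f = i ≫ a)
    (Hloc : ∀ t : T, ∃ (W : T.Opens) (_ : t ∈ W) (b : W.toScheme ⟶ X),
      b ≫ f = W.ι ≫ a ∧ (i ∣_ W) ≫ b = (i ⁻¹ᵁ W).ι ≫ a₀) :
    ∃ b' : T ⟶ X, b' ≫ f = a ∧ i ≫ b' = a₀ := by
  classical
  have hsurj : Surjective i := Groth.Agent.Lib.Helper8InfNbhd.surjective_of_sqZero i hker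
  have hFOT : MoreMor.IsFirstOrderThickening i := ⟨⟨inferInstance, hsurj⟩, hker⟩
  haveI : IsAffine T := Groth.Agent.Lib.Helper22.ThickAffine.isAffine_of_thickening i hsurj.surj
  -- X' = X ×_S T
  obtain ⟨X', pr₁, pr₂, hpb⟩ : ∃ (X' : Scheme.{u}) (pr₁ : X' ⟶ X) (pr₂ : X' ⟶ T),
      IsPullback pr₁ pr₂ f a := ⟨_, _, _, IsPullback.of_hasPullback f a⟩
  haveI : LocallyOfFinitePresentation pr₂ := MorphismProperty.of_isPullback hpb inferInstance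
  obtain ⟨s₀, hs₀1, hs₀2⟩ : ∃ s₀ : T₀ ⟶ X', s₀ ≫ pr₁ = a₀ ∧ s₀ ≫ pr₂ = i :=
    ⟨hpb.lift a₀ i hsqr, hpb.lift_fst _ _ _, hpb.lift_snd _ _ _⟩
  haveI : Mono (s₀ ≫ pr₂) := by rw [hs₀2]; infer_instance
  haveI : FormallyUnramified s₀ := formallyUnramified_of_comp_mono s₀ pr₂
  obtain ⟨P, j, h', hu⟩ := Groth.Agent.S9731.result s₀
  obtain ⟨⟨⟨hjci, hjsurj⟩, hjker⟩, hjh, huniv⟩ := id hu
  haveI := hjci
  haveI : IsAffine P :=
    Groth.Agent.Lib.Helper22.ThickAffine.isAffine_of_thickening j hjsurj.surj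
  -- Y = X' ×_T T₀
  obtain ⟨Y, g, q, hpbY⟩ : ∃ (Y : Scheme.{u}) (g : Y ⟶ X') (q : Y ⟶ T₀), IsPullback g q pr₂ i :=
    ⟨_, _, _, IsPullback.of_hasPullback pr₂ i⟩
  haveI : LocallyOfFinitePresentation q := MorphismProperty.of_isPullback hpbY inferInstance
  haveI : IsClosedImmersion g := MorphismProperty.of_isPullback hpbY.flip inferInstance
  obtain ⟨s₀', hs₀'g, hs₀'q⟩ : ∃ s₀' : T₀ ⟶ Y, s₀' ≫ g = s₀ ∧ s₀' ≫ q = 𝟙 T₀ :=
    ⟨hpbY.lift s₀ (𝟙 T₀) (by rw [hs₀2, Category.id_comp]), hpbY.lift_fst _ _ _,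
      hpbY.lift_snd _ _ _⟩
  haveI : Mono (s₀' ≫ q) := by rw [hs₀'q]; infer_instance
  haveI : FormallyUnramified s₀' := formallyUnramified_of_comp_mono s₀' q
  have hc : IsPullback s₀' (𝟙 T₀) g s₀ :=
    IsPullback.of_vert_isIso_mono ⟨by rw [hs₀'g, Category.id_comp]⟩
  have hu₀ := Groth.Agent.S9733.result s₀' (𝟙 T₀) g s₀ hc j h' hu
  obtain ⟨P₀, j₀, h₀, k, hu₀', hpbP, hj₀k⟩ : ∃ (P₀ : Scheme.{u}) (j₀ : T₀ ⟶ P₀) (h₀ : P₀ ⟶ Y)
      (k : P₀ ⟶ P), OmegaSh.IsUnivThickening s₀' j₀ h₀ ∧ IsPullback h₀ k g h' ∧ j₀ ≫ k = j :=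
    ⟨_, _, _, pullback.snd g h', hu₀, IsPullback.of_hasPullback g h', by
      rw [pullback.lift_snd, Category.id_comp]⟩
  obtain ⟨⟨⟨hj₀ci, hj₀surj⟩, hj₀ker⟩, hj₀h, -⟩ := id hu₀'
  haveI : LocallyOfFinitePresentation h₀ :=
    locallyOfFinitePresentation_of_section q s₀' hs₀'q j₀ h₀ hu₀'
  haveI : IsClosedImmersion k := MorphismProperty.of_isPullback hpbP inferInstance
  obtain ⟨hP₀aff, hksurj⟩ := IsClosedImmersion.isAffine_surjective_of_isAffine k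
  haveI := hP₀aff
  have hsqP : IsPullback (h₀ ≫ q) k i (h' ≫ pr₂) := (hpbP.flip.paste_vert hpbY).flip
  have hjπ : j ≫ h' ≫ pr₂ = i := by rw [← Category.assoc, hjh, hs₀2]
  have hkerle := Groth.Agent.Lib.Helper8InfNbhd.ker_appTop_le_map i (h' ≫ pr₂) (h₀ ≫ q) k hsqP
  have hI : ∀ x y : Γ(T, ⊤), i.appTop.hom x = 0 → i.appTop.hom y = 0 → x * y = 0 :=
    sq_zero_appTop i hker
  have hβ : ∀ x y : Γ(P, ⊤), j.appTop.hom x = 0 → j.appTop.hom y = 0 → x * y = 0 :=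
    sq_zero_appTop j hjker
  have hβα : ∀ x, j.appTop.hom ((h' ≫ pr₂).appTop.hom x) = i.appTop.hom x := by
    intro x
    have h1 : (h' ≫ pr₂).appTop ≫ j.appTop = i.appTop := by
      rw [← Scheme.Hom.comp_appTop, hjπ]
    exact congrArg (fun φ => φ.hom x) h1
  have hγker : ∀ c, k.appTop.hom c = 0 →
      c ∈ (RingHom.ker i.appTop.hom).map (h' ≫ pr₂).appTop.hom :=
    fun c hc => hkerle (RingHom.mem_ker.mpr hc)
  have hβα₀ : ∀ x, j₀.appTop.hom ((h₀ ≫ q).appTop.hom x) = x := by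
    intro x
    have h1 : (h₀ ≫ q).appTop ≫ j₀.appTop = 𝟙 _ := by
      rw [← Scheme.Hom.comp_appTop, ← Category.assoc, hj₀h, hs₀'q]
      rfl
    exact congrArg (fun φ => φ.hom x) h1
  have hβ₀γ : ∀ c, j₀.appTop.hom (k.appTop.hom c) = j.appTop.hom c := by
    intro c
    have h1 : k.appTop ≫ j₀.appTop = j.appTop := by
      rw [← Scheme.Hom.comp_appTop, hj₀k]
    exact congrArg (fun φ => φ.hom c) h1
  have hγα : ∀ x, k.appTop.hom ((h' ≫ pr₂).appTop.hom x) =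
      (h₀ ≫ q).appTop.hom (i.appTop.hom x) := by
    intro x
    have h1 : (h' ≫ pr₂).appTop ≫ k.appTop = i.appTop ≫ (h₀ ≫ q).appTop := by
      rw [← Scheme.Hom.comp_appTop, ← Scheme.Hom.comp_appTop, hsqP.w]
    exact congrArg (fun φ => φ.hom x) h1
  have hfp : (h₀ ≫ q).appTop.hom.FinitePresentation :=
    Scheme.Hom.finitePresentation_appTop (h₀ ≫ q)
  -- the local data
  let s : Set Γ(T, ⊤) := {g | ∃ b : (T.basicOpen g).toScheme ⟶ X,
    b ≫ f = (T.basicOpen g).ι ≫ a ∧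
      (i ∣_ T.basicOpen g) ≫ b = (i ⁻¹ᵁ T.basicOpen g).ι ≫ a₀}
  have hs : Ideal.span s = ⊤ := by
    rw [← (isAffineOpen_top T).self_le_iSup_basicOpen_iff]
    intro t _
    obtain ⟨W, htW, b, hb1, hb2⟩ := Hloc t
    obtain ⟨g, hgW, htg⟩ := (isAffineOpen_top T).exists_basicOpen_le (V := W) ⟨t, htW⟩ trivial
    have hgs : g ∈ s := ⟨T.homOfLE hgW ≫ b, by
      rw [Category.assoc, hb1, Scheme.homOfLE_ι_assoc], restrict_lift i a₀ hgW b hb2⟩
    exact Opens.mem_iSup.mpr ⟨⟨g, hgs⟩, htg⟩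
  have Hring : ∀ g ∈ s, ∃ (A' : Type u) (_ : CommRing A') (_ : Algebra Γ(T, ⊤) A')
      (_ : IsLocalization.Away g A') (ρ' : Γ(P, ⊤) →+* A'),
      (∀ x, ρ' ((h' ≫ pr₂).appTop.hom x) = algebraMap Γ(T, ⊤) A' x) ∧
        ∀ x, j.appTop.hom x = 0 →
          ρ' x ∈ (RingHom.ker i.appTop.hom).map (algebraMap Γ(T, ⊤) A') := by
    rintro g ⟨b, hb1, hb2⟩
    obtain ⟨σ, hσ1, hσ2⟩ : ∃ σ : (T.basicOpen g).toScheme ⟶ X',
        σ ≫ pr₁ = b ∧ σ ≫ pr₂ = (T.basicOpen g).ι :=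
      ⟨hpb.lift b (T.basicOpen g).ι hb1, hpb.lift_fst _ _ _, hpb.lift_snd _ _ _⟩
    have hσs : (i ∣_ T.basicOpen g) ≫ σ = (i ⁻¹ᵁ T.basicOpen g).ι ≫ s₀ := by
      apply hpb.hom_ext
      · rw [Category.assoc, hσ1, hb2, Category.assoc, hs₀1]
      · rw [Category.assoc, hσ2, morphismRestrict_ι, Category.assoc, hs₀2]
    have hFOTW : MoreMor.IsFirstOrderThickening (i ∣_ T.basicOpen g) :=
      Groth.Agent.Lib.Helper20.IdealComap.isFirstOrderThickening_of_isPullback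
        (isPullback_morphismRestrict i (T.basicOpen g)).flip hFOT
    obtain ⟨r, ⟨hr1, hr2⟩, -⟩ := huniv _ _ (i ∣_ T.basicOpen g) σ (i ⁻¹ᵁ T.basicOpen g).ι
      hFOTW hσs
    have hrπ : r ≫ h' ≫ pr₂ = (T.basicOpen g).ι := by rw [← Category.assoc, hr2, hσ2]
    refine ⟨Γ(T, T.basicOpen g), inferInstance, inferInstance, inferInstance,
      (r.appTop ≫ (T.basicOpen g).topIso.hom).hom, ?_, ?_⟩
    · intro x
      have h1 : (h' ≫ pr₂).appTop ≫ r.appTop ≫ (T.basicOpen g).topIso.hom =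
          T.presheaf.map (homOfLE (le_top : T.basicOpen g ≤ ⊤)).op := by
        rw [← Category.assoc, ← Scheme.Hom.comp_appTop, hrπ, ι_appTop_topIso]
      exact congrArg (fun φ => φ.hom x) h1
    · intro x hx
      have h1 : r.appTop ≫ (i ∣_ T.basicOpen g).appTop =
          j.appTop ≫ (i ⁻¹ᵁ T.basicOpen g).ι.appTop := by
        rw [← Scheme.Hom.comp_appTop, ← Scheme.Hom.comp_appTop, hr1]
      have h2 := Groth.Agent.Helper18UT.resLE_appTop_topIso i (T.basicOpen g)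
        (i ⁻¹ᵁ T.basicOpen g) le_rfl
      rw [Scheme.Hom.resLE_eq_morphismRestrict] at h2
      have h3 : (i.app (T.basicOpen g)).hom
          ((r.appTop ≫ (T.basicOpen g).topIso.hom).hom x) = 0 := by
        have h4 : r.appTop ≫ (T.basicOpen g).topIso.hom ≫ i.app (T.basicOpen g) =
            j.appTop ≫ (i ⁻¹ᵁ T.basicOpen g).ι.appTop ≫
              (i ⁻¹ᵁ T.basicOpen g).topIso.hom := by
          rw [Scheme.Hom.app_eq_appLE, ← h2, ← Category.assoc, h1, Category.assoc]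
        have h5 := congrArg (fun φ => φ.hom x) h4
        simp only [CommRingCat.hom_comp, RingHom.comp_apply] at h5
        show (i.app (T.basicOpen g)).hom
          ((T.basicOpen g).topIso.hom.hom (r.appTop.hom x)) = 0
        rw [h5, hx, map_zero, map_zero]
      have h6 : (r.appTop ≫ (T.basicOpen g).topIso.hom).hom x ∈
          i.ker.ideal ⟨T.basicOpen g, (isAffineOpen_top T).basicOpen g⟩ := by
        rw [Scheme.Hom.ker_apply, RingHom.mem_ker]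
        exact h3
      have h7 := i.ker.map_ideal_basicOpen ⟨⊤, isAffineOpen_top T⟩ g
      rw [Scheme.Hom.ker_apply] at h7
      have h8 : (RingHom.ker i.appTop.hom).map (algebraMap Γ(T, ⊤) Γ(T, T.basicOpen g)) =
          i.ker.ideal ⟨T.basicOpen g, (isAffineOpen_top T).basicOpen g⟩ := h7
      rw [h8]
      exact h6
  obtain ⟨ρ, hρ1, hρ2⟩ := Groth.Agent.Lib.Helper8LiftAlg.exists_lift i.appTop.hom
    (IsClosedImmersion.isAffine_surjective_of_isAffine i).2 hI (h' ≫ pr₂).appTop.hom j.appTop.hom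
    hβα hβ k.appTop.hom hksurj hγker (h₀ ≫ q).appTop.hom j₀.appTop.hom hβα₀ hβ₀γ hγα hfp s hs
    Hring
  obtain ⟨r, hr⟩ := exists_hom_appTop (X := T) (Y := P) (CommRingCat.ofHom ρ)
  have hrπ : r ≫ h' ≫ pr₂ = 𝟙 T := by
    apply ext_of_isAffine
    rw [Scheme.Hom.comp_appTop, hr]
    apply CommRingCat.hom_ext
    apply RingHom.ext
    intro x
    exact hρ1 x
  have hir : i ≫ r = j := by
    apply ext_of_isAffine
    rw [Scheme.Hom.comp_appTop, hr]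
    apply CommRingCat.hom_ext
    apply RingHom.ext
    intro x
    exact hρ2 x
  refine ⟨r ≫ h' ≫ pr₁, ?_, ?_⟩
  · calc (r ≫ h' ≫ pr₁) ≫ f = (r ≫ h' ≫ pr₂) ≫ a := by
          simp only [Category.assoc, hpb.w]
      _ = a := by rw [hrπ, Category.id_comp]
  · rw [← Category.assoc, hir, ← Category.assoc, hjh, hs₀1]

end Groth.Agent.Lib.Helper8LiftSch
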