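import Mathlib
import Groth.Prelude
import Groth.Agent.Lib.Helper8LiftSch
import Groth.Agent.Lib.H5bSmoothLift
import Groth.Agent.Lib.Helper8UnivThick
import Groth.Agent.Lib.R2H3FSmChart

set_option autoImplicit false
set_option linter.style.haveILetI false

/-!
# Smooth morphisms lift along first order thickenings of affine schemes
-/

universe u

open CategoryTheory CategoryTheory.Limits AlgebraicGeometry Opposite TopologicalSpace

namespace Groth.Agent.Lib.Helper8SmoothLift

/-- a smooth morphism has the lifting property against square zero closed immersions with affine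
source. -/
theorem exists_lift_of_smooth {S X T T₀ : Scheme.{u}} (f : X ⟶ S) [Smooth f] (i : T₀ ⟶ T)
    [IsClosedImmersion i] [IsAffine T₀] (hker : i.ker * i.ker = ⊥) (a : T ⟶ S) (a₀ : T₀ ⟶ X)
    (hsqr : a₀ ≫ f = i ≫ a) :
    ∃ b' : T ⟶ X, b' ≫ f = a ∧ i ≫ b' = a₀ := by
  haveI hsurj : Surjective i := Groth.Agent.Lib.Helper8InfNbhd.surjective_of_sqZero i hker
  refine Groth.Agent.Lib.Helper8LiftSch.exists_lift_of_local f i hker a a₀ hsqr (fun t => ?_)
  obtain ⟨w₀, rfl⟩ := hsurj.surj t
  obtain ⟨W', ℓ, hw, -, h1, h2⟩ :=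
    Groth.Agent.Lib.H5bSmoothLift.exists_local_lift f i a a₀ hsqr w₀
  exact ⟨W', hw, ℓ, h1, h2⟩

/-- smooth morphisms are formally smooth. -/
theorem isFormallySmoothHom_of_smooth {X S : Scheme.{u}} (f : X ⟶ S) [Smooth f] :
    MoreMor.IsFormallySmoothHom f := by
  intro A _ I hI a b hw
  haveI : IsClosedImmersion (Spec.map (CommRingCat.ofHom (Ideal.Quotient.mk I))) :=
    IsClosedImmersion.spec_of_surjective _ Ideal.Quotient.mk_surjective
  obtain ⟨l, h1, h2⟩ := exists_lift_of_smooth f
    (Spec.map (CommRingCat.ofHom (Ideal.Quotient.mk I)))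
    (Groth.Agent.Lib.Helper8UnivThick.ker_specMap_quotient_sq I hI) b a hw.symm
  exact ⟨l, h2, h1⟩

/-- smooth = locally of finite presentation + formally smooth. -/
theorem smooth_iff {X S : Scheme.{u}} (f : X ⟶ S) :
    Smooth f ↔ LocallyOfFinitePresentation f ∧ MoreMor.IsFormallySmoothHom f := by
  constructor
  · intro h
    exact ⟨inferInstance, isFormallySmoothHom_of_smooth f⟩
  · rintro ⟨hlfp, hfs⟩
    rw [HasRingHomProperty.iff_appLE (P := @Smooth)]
    intro V U e
    rw [RingHom.smooth_def]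
    exact ⟨Groth.Agent.Lib.R2H3.FSmChart.formallySmooth_appLE f hfs U.2 V.2 e,
      HasRingHomProperty.appLE (P := @LocallyOfFinitePresentation) f hlfp V U e⟩

end Groth.Agent.Lib.Helper8SmoothLift
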