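import Mathlib
import Groth.Prelude
import Groth.Agent.Lib.Helper8SmoothLift

set_option autoImplicit false
set_option linter.style.haveILetI false

/-!
# Fixed points of a finite group of invertible order acting on a smooth separated scheme
-/

universe u v

open CategoryTheory CategoryTheory.Limits AlgebraicGeometry Opposite TopologicalSpace

namespace Groth.Agent.Lib.Helper8FixedPt

/-! ## locally of finite presentation: cancellation, diagonal, equalizers -/

theorem fp_stableSource :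
    RingHom.StableUnderCompositionWithLocalizationAwaySource @RingHom.FinitePresentation := by
  intro R S T _ _ _ _ r _ f hf
  exact hf.comp (RingHom.finitePresentation_holdsForLocalizationAway S r)

/-- If `h ≫ k` is locally of finite presentation and `k` is locally of finite type then `h` is
locally of finite presentation. -/
theorem lfp_of_comp_of_lft {X Y Z : Scheme.{u}} (h : X ⟶ Y) (k : Y ⟶ Z)
    (hhk : LocallyOfFinitePresentation (h ≫ k)) (hk : LocallyOfFiniteType k) :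
    LocallyOfFinitePresentation h := by
  rw [HasRingHomProperty.iff_exists_appLE (P := @LocallyOfFinitePresentation) fp_stableSource]
  intro x
  obtain ⟨W, hW, hxW, -⟩ := exists_isAffineOpen_mem_and_subset
    (X := Z) (x := k (h x)) (U := ⊤) trivial
  obtain ⟨V, hV, hxV, hVW⟩ := exists_isAffineOpen_mem_and_subset
    (X := Y) (x := h x) (U := k ⁻¹ᵁ W) hxW
  obtain ⟨U, hU, hxU, hUV⟩ := exists_isAffineOpen_mem_and_subset
    (X := X) (x := x) (U := h ⁻¹ᵁ V) hxV
  have hVW' : V ≤ k ⁻¹ᵁ W := hVW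
  have hUV' : U ≤ h ⁻¹ᵁ V := hUV
  refine ⟨⟨V, hV⟩, ⟨U, hU⟩, hxU, hUV', ?_⟩
  have e1 : U ≤ (h ≫ k) ⁻¹ᵁ W := fun a ha => hVW (hUV ha)
  have h1 : ((h ≫ k).appLE W U e1).hom.FinitePresentation :=
    HasRingHomProperty.appLE (P := @LocallyOfFinitePresentation) _ hhk ⟨W, hW⟩ ⟨U, hU⟩ e1
  have h2 : (k.appLE W V hVW').hom.FiniteType :=
    HasRingHomProperty.appLE (P := @LocallyOfFiniteType) _ hk ⟨W, hW⟩ ⟨V, hV⟩ hVW'
  have h3 : (h ≫ k).appLE W U e1 = k.appLE W V hVW' ≫ h.appLE V U hUV' := by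
    rw [Scheme.Hom.appLE_comp_appLE]
  rw [h3] at h1
  exact RingHom.FinitePresentation.of_comp_finiteType _ h1 h2

/-- the diagonal of a morphism locally of finite type is locally of finite presentation. -/
theorem lfp_diagonal {X Y : Scheme.{u}} (f : X ⟶ Y) [LocallyOfFiniteType f] :
    LocallyOfFinitePresentation (pullback.diagonal f) := by
  apply lfp_of_comp_of_lft (pullback.diagonal f) (pullback.fst f f)
  · rw [pullback.diagonal_fst]; infer_instance
  · infer_instance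

set_option backward.isDefEq.respectTransparency false in
/-- equalizers of morphisms into a scheme locally of finite type over the base are locally of
finite presentation over the source. -/
theorem lfp_equalizer_ι_left {S : Scheme.{u}} {X Y : Over S} [LocallyOfFiniteType Y.hom]
    (f g : X ⟶ Y) : LocallyOfFinitePresentation (equalizer.ι f g).left := by
  refine MorphismProperty.of_isPullback
    ((Limits.isPullback_equalizer_prod f g).map (Over.forget _)).flip ?_
  rw [← MorphismProperty.cancel_right_of_respectsIso @LocallyOfFinitePresentation _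
    (Over.prodLeftIsoPullback Y Y).hom]
  convert! (lfp_diagonal Y.hom)
  ext1 <;> simp [← Over.comp_left]

/-! ## the fixed locus of finitely many endomorphisms is a closed subscheme -/

theorem exists_fixed_one {S : Scheme.{u}} (X : Over S) [IsSeparated X.hom]
    [LocallyOfFiniteType X.hom] (a : X ⟶ X) :
    ∃ (E : Over S) (e' : E ⟶ X), IsClosedImmersion e'.left ∧
      LocallyOfFinitePresentation e'.left ∧ e' ≫ a = e' ∧
      ∀ (T : Over S) (t : T ⟶ X), t ≫ a = t → ∃ u : T ⟶ E, u ≫ e' = t := by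
  refine ⟨equalizer a (𝟙 X), equalizer.ι a (𝟙 X), isClosedImmersion_equalizer_ι_left _ _,
    lfp_equalizer_ι_left _ _, ?_, fun T t ht => ?_⟩
  · have := equalizer.condition a (𝟙 X)
    rwa [Category.comp_id] at this
  · exact ⟨equalizer.lift t (by rw [ht, Category.comp_id]), equalizer.lift_ι _ _⟩

theorem exists_fixed_list {S : Scheme.{u}} (X : Over S) [IsSeparated X.hom]
    [LocallyOfFiniteType X.hom] {G : Type v} (a : G → (X ⟶ X)) (L : List G) :
    ∃ (W : Over S) (j : W ⟶ X), IsClosedImmersion j.left ∧ LocallyOfFinitePresentation j.left ∧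
      ∀ (T : Over S) (t : T ⟶ X), (∀ g ∈ L, t ≫ a g = t) ↔ ∃ t' : T ⟶ W, t' ≫ j = t := by
  induction L with
  | nil =>
    refine ⟨X, 𝟙 X, ?_, ?_, fun T t => ⟨fun _ => ⟨t, Category.comp_id t⟩,
      fun _ g hg => by simp at hg⟩⟩
    · show IsClosedImmersion (𝟙 X.left); infer_instance
    · show LocallyOfFinitePresentation (𝟙 X.left); infer_instance
  | cons g L ih =>
    obtain ⟨W, j, hj1, hj2, hj3⟩ := ih
    obtain ⟨E, e', he1, he2, he3, he4⟩ := exists_fixed_one X (a g)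
    obtain ⟨P, p₁, p₂, hP⟩ : ∃ (P : Over S) (p₁ : P ⟶ W) (p₂ : P ⟶ E), IsPullback p₁ p₂ j e' :=
      ⟨_, _, _, IsPullback.of_hasPullback j e'⟩
    have hpb : IsPullback p₁.left p₂.left j.left e'.left := hP.map (Over.forget S)
    have h1 : IsClosedImmersion p₁.left := MorphismProperty.of_isPullback hpb.flip he1
    have h2 : LocallyOfFinitePresentation p₁.left := MorphismProperty.of_isPullback hpb.flip he2
    refine ⟨P, p₁ ≫ j, ?_, ?_, fun T t => ⟨fun h => ?_, ?_⟩⟩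
    · rw [Over.comp_left]; infer_instance
    · rw [Over.comp_left]; infer_instance
    · obtain ⟨v, hv⟩ := (hj3 T t).mp (fun g' hg' => h g' (List.mem_cons_of_mem _ hg'))
      obtain ⟨w, hw⟩ := he4 T t (h g List.mem_cons_self)
      refine ⟨hP.lift v w (by rw [hv, hw]), ?_⟩
      rw [← Category.assoc, hP.lift_fst, hv]
    · rintro ⟨t', rfl⟩ g' hg'
      rcases List.mem_cons.mp hg' with rfl | hg''
      · rw [hP.w, Category.assoc, Category.assoc, he3]
      · have := (hj3 T ((t' ≫ p₁) ≫ j)).mpr ⟨_, rfl⟩ g' hg''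
        simpa only [Category.assoc] using this

/-- the fixed point scheme of a finite set of endomorphisms of a separated `S`-scheme locally of
finite type is a closed subscheme, locally of finite presentation over the ambient scheme. -/
theorem fixed_closed_lfp {S : Scheme.{u}} (X : Over S) [IsSeparated X.hom]
    [LocallyOfFiniteType X.hom] {G : Type v} [Finite G] (a : G → (X ⟶ X))
    (Z : Over S) (ι : Z ⟶ X) (hι : ∀ g : G, ι ≫ a g = ι)
    (hZ : ∀ (T : Over S) (t : T ⟶ X), (∀ g : G, t ≫ a g = t) ↔ ∃! t' : T ⟶ Z, t' ≫ ι = t) :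
    IsClosedImmersion ι.left ∧ LocallyOfFinitePresentation ι.left := by
  classical
  haveI : Fintype G := Fintype.ofFinite G
  obtain ⟨W, j, hj1, hj2, hj3⟩ := exists_fixed_list X a (Finset.univ : Finset G).toList
  have hj3' : ∀ (T : Over S) (t : T ⟶ X), (∀ g, t ≫ a g = t) ↔ ∃ t' : T ⟶ W, t' ≫ j = t := by
    intro T t
    rw [← hj3 T t]
    exact ⟨fun h g _ => h g, fun h g => h g (by simp)⟩
  haveI : Mono j.left := inferInstance
  haveI : Mono j := (Over.forget S).mono_of_mono_map (by exact this)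
  obtain ⟨α, hα⟩ := (hj3' Z ι).mp hι
  have hjfix : ∀ g, j ≫ a g = j := (hj3' W j).mpr ⟨𝟙 W, Category.id_comp j⟩
  obtain ⟨β, hβ, -⟩ := (hZ W j).mp hjfix
  have h1 : α ≫ β = 𝟙 Z := by
    obtain ⟨u, -, hu⟩ := (hZ Z ι).mp hι
    rw [hu (α ≫ β) (by show (α ≫ β) ≫ ι = ι; rw [Category.assoc, hβ, hα]),
      hu (𝟙 Z) (Category.id_comp ι)]
  have h2 : β ≫ α = 𝟙 W := by
    rw [← cancel_mono j, Category.assoc, hα, hβ, Category.id_comp]
  haveI : IsIso α := ⟨⟨β, h1, h2⟩⟩
  haveI : IsIso α.left := (Over.forget S).map_isIso α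
  have hι' : ι.left = α.left ≫ j.left := by rw [← Over.comp_left, hα]
  rw [hι']
  exact ⟨inferInstance, inferInstance⟩

/-! ## averaging ring homomorphisms congruent modulo a square zero ideal -/

theorem exists_avg_hom {B A' : Type u} [CommRing B] [CommRing A'] {G : Type v} [Fintype G]
    (g₀ : G) (φ : G → (B →+* A')) (J : Ideal A') (hJ : ∀ x ∈ J, ∀ y ∈ J, x * y = 0)
    (hφ : ∀ g x, φ g x - φ g₀ x ∈ J) (c : A') (hc : (Fintype.card G : A') * c = 1) :
    ∃ ψ : B →+* A', ∀ x, ψ x = c * ∑ g, φ g x := by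
  have hsum : ∀ x, (∑ g, φ g x) - (Fintype.card G : A') * φ g₀ x ∈ J := by
    intro x
    have : (∑ g, φ g x) - (Fintype.card G : A') * φ g₀ x = ∑ g, (φ g x - φ g₀ x) := by
      rw [Finset.sum_sub_distrib, Finset.sum_const, Finset.card_univ, nsmul_eq_mul]
    rw [this]
    exact Ideal.sum_mem _ (fun g _ => hφ g x)
  refine ⟨{ toFun := fun x => c * ∑ g, φ g x
            map_one' := ?_
            map_mul' := ?_
            map_zero' := ?_
            map_add' := ?_ }, fun x => rfl⟩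
  · simp only [map_one, Finset.sum_const, Finset.card_univ, nsmul_eq_mul, mul_one]
    rw [mul_comm]; exact hc
  · intro x y
    have h2 := hJ _ (hsum x) _ (hsum y)
    have h3 : ∑ g, (φ g x - φ g₀ x) * (φ g y - φ g₀ y) = 0 :=
      Finset.sum_eq_zero (fun g _ => hJ _ (hφ g x) _ (hφ g y))
    have e3 : ∑ g, (φ g x - φ g₀ x) * (φ g y - φ g₀ y) =
        (∑ g, φ g (x * y)) - φ g₀ x * (∑ g, φ g y) - φ g₀ y * (∑ g, φ g x) +
          (Fintype.card G : A') * (φ g₀ x * φ g₀ y) := by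
      have : ∀ g, (φ g x - φ g₀ x) * (φ g y - φ g₀ y) =
          φ g (x * y) - φ g₀ x * φ g y - φ g₀ y * φ g x + φ g₀ x * φ g₀ y := by
        intro g; rw [map_mul]; ring
      simp only [this, Finset.sum_add_distrib, Finset.sum_sub_distrib, Finset.mul_sum,
        Finset.sum_const, Finset.card_univ, nsmul_eq_mul]
    rw [e3] at h3
    show c * ∑ g, φ g (x * y) = (c * ∑ g, φ g x) * (c * ∑ g, φ g y)
    linear_combination (-c * ∑ g, φ g (x * y)) * hc + (-c ^ 2) * h2 +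
      (c ^ 2 * (Fintype.card G : A')) * h3
  · simp only [map_zero, Finset.sum_const_zero, mul_zero]
  · intro x y
    simp only [map_add, Finset.sum_add_distrib, mul_add]

/-! ## stable affine neighbourhoods of fixed points -/

theorem exists_stable_affine {S Xs : Scheme.{u}} (f : Xs ⟶ S) [IsSeparated f]
    {G : Type v} [Group G] [Finite G] (r : G → (Xs ⟶ Xs)) (hrf : ∀ g, r g ≫ f = f)
    (hr1 : r 1 = 𝟙 Xs) (hrm : ∀ g h, r (g * h) = r h ≫ r g)
    (x : Xs) (hx : ∀ g, r g x = x) :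
    ∃ (V : S.Opens) (U : Xs.Opens), IsAffineOpen V ∧ IsAffineOpen U ∧ x ∈ U ∧ U ≤ f ⁻¹ᵁ V ∧
      ∀ g, U ≤ r g ⁻¹ᵁ U := by
  obtain ⟨V, hV, hxV, -⟩ := exists_isAffineOpen_mem_and_subset
    (X := S) (x := f x) (U := ⊤) trivial
  obtain ⟨U₀, hU₀, hxU₀, hU₀V⟩ := exists_isAffineOpen_mem_and_subset
    (X := Xs) (x := x) (U := f ⁻¹ᵁ V) hxV
  have hiso : ∀ g, IsIso (r g) := fun g =>
    ⟨⟨r g⁻¹, by rw [← hrm, inv_mul_cancel, hr1], by rw [← hrm, mul_inv_cancel, hr1]⟩⟩
  let s : Set Xs.Opens := {W | IsAffineOpen W ∧ W ≤ f ⁻¹ᵁ V}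
  have hs : InfClosed s := by
    intro W₁ h₁ W₂ h₂
    exact ⟨isAffineHom_diagonal_iff.mp inferInstance V hV W₁ h₁.2 W₂ h₂.2 h₁.1 h₂.1,
      inf_le_left.trans h₁.2⟩
  have hmem : ∀ g, r g ⁻¹ᵁ U₀ ∈ s := by
    intro g
    haveI := hiso g
    refine ⟨hU₀.preimage_of_isIso (r g), ?_⟩
    intro y hy
    have h1 : f (r g y) ∈ V := hU₀V hy
    have h2 : (r g ≫ f) y = f y := congrArg (fun φ : Xs ⟶ S => φ y) (hrf g)
    show f y ∈ V
    rw [← h2]; exact h1
  have hU : (⨅ g, r g ⁻¹ᵁ U₀) ∈ s := hs.iInf_mem_of_nonempty hmem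
  refine ⟨V, ⨅ g, r g ⁻¹ᵁ U₀, hV, hU.1, ?_, hU.2, ?_⟩
  · rw [← SetLike.mem_coe, Opens.coe_iInf, Set.mem_iInter]
    intro g
    show r g x ∈ U₀
    rw [hx g]; exact hxU₀
  · intro h y hy
    rw [← SetLike.mem_coe, Opens.coe_iInf, Set.mem_iInter] at hy
    show r h y ∈ ⨅ g, r g ⁻¹ᵁ U₀
    rw [← SetLike.mem_coe, Opens.coe_iInf, Set.mem_iInter]
    intro g
    have h1 : r (g * h) y ∈ U₀ := hy (g * h)
    show r g (r h y) ∈ U₀
    have h2 : r (g * h) y = r g (r h y) := by rw [hrm]; rfl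
    rw [← h2]; exact h1

/-! ## formal smoothness of the fixed point scheme -/

theorem isFormallySmoothHom_fixed {S Xs Zs : Scheme.{u}} (f : Xs ⟶ S) [Smooth f] [IsSeparated f]
    {G : Type v} [Group G] [Finite G] (r : G → (Xs ⟶ Xs)) (hrf : ∀ g, r g ≫ f = f)
    (hr1 : r 1 = 𝟙 Xs) (hrm : ∀ g h, r (g * h) = r h ≫ r g)
    (hG : IsUnit (Nat.card G : Γ(S, ⊤)))
    (e : Zs ⟶ Xs) [Mono e] [LocallyOfFinitePresentation e] (he : ∀ g, e ≫ r g = e)
    (huniv : ∀ (T : Scheme.{u}) (t : T ⟶ Xs), (∀ g, t ≫ r g = t) → ∃ t' : T ⟶ Zs, t' ≫ e = t) :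
    MoreMor.IsFormallySmoothHom (e ≫ f) := by
  classical
  haveI : Fintype G := Fintype.ofFinite G
  intro A _ I hI a₀ b hw
  haveI : IsClosedImmersion (Spec.map (CommRingCat.ofHom (Ideal.Quotient.mk I))) :=
    IsClosedImmersion.spec_of_surjective _ Ideal.Quotient.mk_surjective
  have hker := Groth.Agent.Lib.Helper8UnivThick.ker_specMap_quotient_sq I hI
  generalize Spec.map (CommRingCat.ofHom (Ideal.Quotient.mk I)) = i at *
  have hsurj : Surjective i := Groth.Agent.Lib.Helper8InfNbhd.surjective_of_sqZero i hker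
  have hFOT : MoreMor.IsFirstOrderThickening i := ⟨⟨inferInstance, hsurj⟩, hker⟩
  -- a global lift to `Xs`
  obtain ⟨β, hβ1, hβ2⟩ := Groth.Agent.Lib.Helper8SmoothLift.exists_lift_of_smooth f i hker b
    (a₀ ≫ e) (by rw [Category.assoc]; exact hw.symm)
  suffices h : ∃ l : Spec (CommRingCat.of A) ⟶ Zs, l ≫ (e ≫ f) = b ∧ i ≫ l = a₀ by
    obtain ⟨l, h1, h2⟩ := h
    exact ⟨l, h2, h1⟩
  refine Groth.Agent.Lib.Helper8LiftSch.exists_lift_of_local (e ≫ f) i hker b a₀ hw.symm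
    (fun t => ?_)
  obtain ⟨w₀, rfl⟩ := hsurj.surj t
  have hx : ∀ g, r g (e (a₀ w₀)) = e (a₀ w₀) := by
    intro g
    have h : (e ≫ r g) (a₀ w₀) = e (a₀ w₀) := congrArg (fun φ : Zs ⟶ Xs => φ (a₀ w₀)) (he g)
    exact h
  have hβx : β (i w₀) = e (a₀ w₀) := by
    have h : (i ≫ β) w₀ = (a₀ ≫ e) w₀ := congrArg (fun φ : _ ⟶ Xs => φ w₀) hβ2
    exact h
  obtain ⟨V, U, hV, hU, hxU, hUV, hUG⟩ := exists_stable_affine f r hrf hr1 hrm (e (a₀ w₀)) hx
  obtain ⟨W, hW, htW, hWU⟩ := exists_isAffineOpen_mem_and_subset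
    (X := Spec (CommRingCat.of A)) (x := i w₀) (U := β ⁻¹ᵁ U)
    (by show β (i w₀) ∈ U; rw [hβx]; exact hxU)
  haveI : IsAffine U.toScheme := hU
  haveI : IsAffine W.toScheme := hW
  haveI : IsAffine V.toScheme := hV
  have hWg : ∀ g, W ≤ (β ≫ r g) ⁻¹ᵁ U := fun g y hy => hUG g (hWU hy)
  -- the restricted morphisms
  let γ : G → (W.toScheme ⟶ U.toScheme) := fun g => (β ≫ r g).resLE U W (hWg g)
  have hγ : ∀ g, γ g ≫ U.ι = W.ι ≫ β ≫ r g := fun g => Scheme.Hom.resLE_comp_ι _ _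
  obtain ⟨η, hη⟩ : ∃ η : U.toScheme ⟶ V.toScheme, η ≫ V.ι = U.ι ≫ f :=
    ⟨f.resLE V U hUV, Scheme.Hom.resLE_comp_ι _ _⟩
  have hρ : ∀ h, ∃ ρh : U.toScheme ⟶ U.toScheme, ρh ≫ U.ι = U.ι ≫ r h :=
    fun h => ⟨(r h).resLE U U (hUG h), Scheme.Hom.resLE_comp_ι _ _⟩
  have hFOTW : MoreMor.IsFirstOrderThickening (i ∣_ W) :=
    Groth.Agent.Lib.Helper20.IdealComap.isFirstOrderThickening_of_isPullback
      (isPullback_morphismRestrict i W).flip hFOT
  haveI : IsClosedImmersion (i ∣_ W) := hFOTW.1.1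
  have hsq := Groth.Agent.Lib.Helper8LiftSch.sq_zero_appTop (i ∣_ W) hFOTW.2
  have key1 : ∀ g, (i ∣_ W) ≫ γ g ≫ U.ι = (i ⁻¹ᵁ W).ι ≫ a₀ ≫ e := by
    intro g
    rw [hγ g, morphismRestrict_ι_assoc, reassoc_of% hβ2, he g]
  have key1' : ∀ g, (i ∣_ W) ≫ γ g = (i ∣_ W) ≫ γ 1 := by
    intro g
    rw [← cancel_mono U.ι, Category.assoc, Category.assoc, key1 g, key1 1]
  have key2 : ∀ g, γ g ≫ η ≫ V.ι = W.ι ≫ b := by
    intro g
    rw [hη, reassoc_of% (hγ g), hrf g, hβ1]
  have key2' : ∀ g, γ g ≫ η = γ 1 ≫ η := by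
    intro g
    rw [← cancel_mono V.ι, Category.assoc, Category.assoc, key2 g, key2 1]
  -- the ring maps
  let φ : G → (Γ(U.toScheme, ⊤) →+* Γ(W.toScheme, ⊤)) := fun g => (γ g).appTop.hom
  let π : Γ(W.toScheme, ⊤) →+* Γ((i ⁻¹ᵁ W).toScheme, ⊤) := (i ∣_ W).appTop.hom
  have hπφ : ∀ g, (γ g).appTop ≫ (i ∣_ W).appTop = (γ 1).appTop ≫ (i ∣_ W).appTop := by
    intro g
    rw [← Scheme.Hom.comp_appTop, ← Scheme.Hom.comp_appTop, key1' g]
  have hπφ' : ∀ g x, π (φ g x) = π (φ 1 x) := fun g x => congrArg (fun ψ => ψ.hom x) (hπφ g)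
  have hφ : ∀ g x, φ g x - φ 1 x ∈ RingHom.ker π := by
    intro g x
    rw [RingHom.mem_ker, map_sub, hπφ' g x, sub_self]
  have hJ : ∀ x ∈ RingHom.ker π, ∀ y ∈ RingHom.ker π, x * y = 0 :=
    fun x hx y hy => hsq x y (RingHom.mem_ker.mp hx) (RingHom.mem_ker.mp hy)
  obtain ⟨c₀, hc₀⟩ : ∃ c₀ : Γ(S, ⊤), (Nat.card G : Γ(S, ⊤)) * c₀ = 1 := hG.exists_right_inv
  obtain ⟨c, hc⟩ : ∃ c : Γ(W.toScheme, ⊤), (Fintype.card G : Γ(W.toScheme, ⊤)) * c = 1 := by
    refine ⟨(W.ι ≫ b).appTop.hom c₀, ?_⟩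
    have h := congrArg (W.ι ≫ b).appTop.hom hc₀
    rw [map_mul, map_natCast, map_one, Nat.card_eq_fintype_card] at h
    exact h
  obtain ⟨ψ, hψ⟩ := exists_avg_hom (1 : G) φ (RingHom.ker π) hJ hφ c hc
  obtain ⟨r', hr'⟩ := Groth.Agent.Lib.Helper8LiftSch.exists_hom_appTop
    (X := W.toScheme) (Y := U.toScheme) (CommRingCat.ofHom ψ)
  -- (i) compatibility with the base
  have h_i : r' ≫ η = γ 1 ≫ η := by
    apply ext_of_isAffine
    rw [Scheme.Hom.comp_appTop, Scheme.Hom.comp_appTop, hr']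
    ext z
    show ψ (η.appTop.hom z) = φ 1 (η.appTop.hom z)
    rw [hψ]
    have h1 : ∀ g, φ g (η.appTop.hom z) = φ 1 (η.appTop.hom z) :=
      fun g => congrArg (fun ψ => ψ.appTop.hom z) (key2' g)
    rw [Finset.sum_congr rfl (fun g _ => h1 g), Finset.sum_const, Finset.card_univ, nsmul_eq_mul,
      ← mul_assoc, mul_comm c, hc, one_mul]
  -- (ii) compatibility with the given map on the closed subscheme
  have h_ii : (i ∣_ W) ≫ r' = (i ∣_ W) ≫ γ 1 := by
    apply ext_of_isAffine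
    rw [Scheme.Hom.comp_appTop, Scheme.Hom.comp_appTop, hr']
    ext x
    show π (ψ x) = π (φ 1 x)
    rw [hψ, map_mul, map_sum, Finset.sum_congr rfl (fun g _ => hπφ' g x), Finset.sum_const,
      Finset.card_univ, nsmul_eq_mul, ← mul_assoc, ← map_natCast π, ← map_mul, mul_comm c, hc,
      map_one, one_mul]
  -- (iii) invariance
  have h_iii : ∀ h, (r' ≫ U.ι) ≫ r h = r' ≫ U.ι := by
    intro h
    obtain ⟨ρh, hρh⟩ := hρ h
    have key3 : ∀ g, γ g ≫ ρh = γ (h * g) := by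
      intro g
      rw [← cancel_mono U.ι, Category.assoc, hρh, reassoc_of% (hγ g), hγ (h * g), hrm h g]
    have h1 : r' ≫ ρh = r' := by
      apply ext_of_isAffine
      rw [Scheme.Hom.comp_appTop, hr']
      ext x
      show ψ (ρh.appTop.hom x) = ψ x
      rw [hψ, hψ]
      have h2 : ∀ g, φ g (ρh.appTop.hom x) = φ (h * g) x :=
        fun g => congrArg (fun ψ => ψ.appTop.hom x) (key3 g)
      rw [Finset.sum_congr rfl (fun g _ => h2 g)]
      exact congrArg (fun s => c * s) (Equiv.sum_comp (Equiv.mulLeft h) (fun g => φ g x))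
    rw [Category.assoc, ← hρh, ← Category.assoc, h1]
  obtain ⟨t', ht'⟩ := huniv W.toScheme (r' ≫ U.ι) h_iii
  refine ⟨W, htW, t', ?_, ?_⟩
  · rw [← Category.assoc, ht', Category.assoc, ← hη, ← Category.assoc, h_i, Category.assoc,
      key2 1]
  · rw [← cancel_mono e, Category.assoc, ht', ← Category.assoc, h_ii, Category.assoc, key1 1,
      Category.assoc]

/-- **the fixed point scheme of a finite group of invertible order acting on a smooth separated
scheme of finite presentation is a closed subscheme, smooth and of finite presentation.** -/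
theorem main (S : Scheme.{u}) (X : Over S) [Smooth X.hom] [QuasiCompact X.hom]
    [IsSeparated X.hom] (G : Type v) [Group G] [Finite G] (ρ : G →* Aut X)
    (hG : IsUnit (Nat.card G : Γ(S, ⊤)))
    (Z : Over S) (ι : Z ⟶ X) (hι : ∀ g : G, ι ≫ (ρ g).hom = ι)
    (hZ : ∀ (T : Over S) (t : T ⟶ X), (∀ g : G, t ≫ (ρ g).hom = t) ↔
      ∃! t' : T ⟶ Z, t' ≫ ι = t) :
    IsClosedImmersion ι.left ∧ Smooth Z.hom ∧ QuasiCompact Z.hom ∧ QuasiSeparated Z.hom := by
  obtain ⟨hci, hlfp⟩ := fixed_closed_lfp X (fun g => (ρ g).hom) Z ι hι hZ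
  haveI := hci
  haveI := hlfp
  have hZhom : Z.hom = ι.left ≫ X.hom := (Over.w ι).symm
  refine ⟨hci, ?_, ?_, ?_⟩
  · rw [hZhom, Groth.Agent.Lib.Helper8SmoothLift.smooth_iff]
    refine ⟨inferInstance, ?_⟩
    refine isFormallySmoothHom_fixed X.hom (fun g => (ρ g).hom.left) (fun g => Over.w (ρ g).hom)
      ?_ ?_ hG ι.left ?_ ?_
    · show (ρ 1).hom.left = 𝟙 X.left
      rw [map_one]; rfl
    · intro g h
      show (ρ (g * h)).hom.left = (ρ h).hom.left ≫ (ρ g).hom.left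
      rw [map_mul, Aut.Aut_mul_def]; rfl
    · intro g
      show ι.left ≫ (ρ g).hom.left = ι.left
      rw [← Over.comp_left, hι g]
    · intro T t ht
      obtain ⟨t', ht', -⟩ := (hZ (Over.mk (t ≫ X.hom)) (Over.homMk t rfl)).mp (fun g => by
        ext1
        exact ht g)
      exact ⟨t'.left, by rw [← Over.comp_left, ht']; rfl⟩
  · rw [hZhom]; infer_instance
  · rw [hZhom]; infer_instance

end Groth.Agent.Lib.Helper8FixedPt
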