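import Mathlib
import Groth.Prelude.Def_FrobAlg

/-!
# Relative Frobenius of an adic completion (F-finite noetherian case)

For a noetherian ring `A` of characteristic `p` with finite Frobenius and an ideal `I`, the relative
Frobenius `Â ⊗_{A,F} A → Â` of the `I`-adic completion is bijective.
-/

set_option autoImplicit false
universe u

open FrobAlg TensorProduct

namespace Groth.Agent.Lib.Helper8FrobCompl

variable (p : ℕ) [Fact p.Prime] (A : Type u) [CommRing A] [CharP A p]

/-- The identity `Twist p A → A`, semilinear over the Frobenius of `A`. -/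
noncomputable def twistToBase : Twist p A →ₛₗ[frobenius A p] A where
  toFun t := (toTwist p A).symm t
  map_add' := map_add _
  map_smul' a t := by
    change (toTwist p A).symm (a • t) = frobenius A p a * (toTwist p A).symm t
    rw [Algebra.smul_def, map_mul, algebraMap_twist, RingEquiv.symm_apply_apply, frobenius_def]

@[simp] theorem twistToBase_apply (t : Twist p A) : twistToBase p A t = (toTwist p A).symm t := rfl

theorem smul_twist (a : A) (t : Twist p A) : a • t = toTwist p A (a ^ p) * t := by
  rw [Algebra.smul_def, algebraMap_twist]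

variable {A}

theorem map_frobenius_le (J : Ideal A) : J.map (frobenius A p) ≤ J := by
  rw [Ideal.map_le_iff_le_comap]
  intro j hj
  rw [Ideal.mem_comap, frobenius_def]
  exact Ideal.pow_mem_of_mem J hj p (Fact.out : p.Prime).pos

theorem mul_mem_smul_top_twist (J : Ideal A) (c x : Twist p A)
    (hx : x ∈ (J • ⊤ : Submodule A (Twist p A))) :
    c * x ∈ (J • ⊤ : Submodule A (Twist p A)) := by
  refine Submodule.smul_induction_on (p := fun y => c * y ∈ (J • ⊤ : Submodule A (Twist p A)))
    hx ?_ ?_
  · intro j hj t _
    change c * (j • t) ∈ _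
    rw [mul_smul_comm]
    exact Submodule.smul_mem_smul hj Submodule.mem_top
  · intro x y hx hy
    change c * (x + y) ∈ _
    rw [mul_add]; exact add_mem hx hy

theorem mem_smul_top_twist_iff (J : Ideal A) (x : Twist p A) :
    x ∈ (J • ⊤ : Submodule A (Twist p A)) ↔ (toTwist p A).symm x ∈ J.map (frobenius A p) := by
  constructor
  · intro hx
    refine Submodule.smul_induction_on
      (p := fun y => (toTwist p A).symm y ∈ J.map (frobenius A p)) hx ?_ ?_
    · intro j hj t _
      change (toTwist p A).symm (j • t) ∈ _
      rw [smul_twist, map_mul, RingEquiv.symm_apply_apply]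
      exact Ideal.mul_mem_right _ _ (by
        rw [← frobenius_def]; exact Ideal.mem_map_of_mem _ hj)
    · intro x y hx hy
      change (toTwist p A).symm (x + y) ∈ _
      rw [map_add]; exact add_mem hx hy
  · intro hx
    -- the set of `a` with `toTwist a ∈ J • ⊤` is an ideal containing the `p`-th powers
    let K : Ideal A :=
      { carrier := {a | toTwist p A a ∈ (J • ⊤ : Submodule A (Twist p A))}
        add_mem' := fun {a b} ha hb => by
          change toTwist p A (a + b) ∈ (J • ⊤ : Submodule A (Twist p A))
          rw [map_add]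
          exact add_mem (show toTwist p A a ∈ (J • ⊤ : Submodule A (Twist p A)) from ha)
            (show toTwist p A b ∈ (J • ⊤ : Submodule A (Twist p A)) from hb)
        zero_mem' := by
          change toTwist p A 0 ∈ (J • ⊤ : Submodule A (Twist p A))
          rw [map_zero]; exact zero_mem _
        smul_mem' := fun c a ha => by
          change toTwist p A (c • a) ∈ (J • ⊤ : Submodule A (Twist p A))
          rw [smul_eq_mul, map_mul]
          exact mul_mem_smul_top_twist p J _ _ ha }
    have hK : J.map (frobenius A p) ≤ K := by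
      rw [Ideal.map_le_iff_le_comap]
      intro j hj
      change toTwist p A (frobenius A p j) ∈ (J • ⊤ : Submodule A (Twist p A))
      have : toTwist p A (frobenius A p j) = j • (1 : Twist p A) := by
        rw [smul_twist, mul_one, frobenius_def]
      rw [this]
      exact Submodule.smul_mem_smul hj Submodule.mem_top
    have h1 : toTwist p A ((toTwist p A).symm x) ∈ (J • ⊤ : Submodule A (Twist p A)) := hK hx
    rwa [RingEquiv.apply_symm_apply] at h1

theorem exists_pow_le_map_frobenius (J : Ideal A) (hJ : J.FG) :
    ∃ m, J ^ m ≤ J.map (frobenius A p) := by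
  induction J, hJ using Submodule.fg_induction with
  | singleton x =>
    refine ⟨p, ?_⟩
    rw [Ideal.submodule_span_eq, Ideal.span_singleton_pow, Ideal.span_le,
      Set.singleton_subset_iff, ← frobenius_def]
    exact Ideal.mem_map_of_mem _ (Ideal.subset_span rfl)
  | sup I₁ I₂ _ _ h₁ h₂ =>
    obtain ⟨n₁, hn₁⟩ := h₁
    obtain ⟨n₂, hn₂⟩ := h₂
    refine ⟨n₁ + n₂, Ideal.sup_pow_add_le_pow_sup_pow.trans ?_⟩
    exact sup_le (hn₁.trans (Ideal.map_mono le_sup_left)) (hn₂.trans (Ideal.map_mono le_sup_right))


variable (A) (I : Ideal A)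

theorem smul_top_le_comap (n : ℕ) :
    (I ^ n • ⊤ : Submodule A (Twist p A)) ≤
      Submodule.comap (twistToBase p A) (I ^ n • ⊤ : Ideal A) := by
  intro x hx
  rw [Submodule.mem_comap, twistToBase_apply]
  have h1 := map_frobenius_le p (I ^ n) ((mem_smul_top_twist_iff p (I ^ n) x).1 hx)
  simpa using h1

/-- The level-`n` comparison map `T ⧸ I^n T → A ⧸ I^n`. -/
noncomputable def psi (n : ℕ) :
    (Twist p A ⧸ (I ^ n • ⊤ : Submodule A (Twist p A))) →ₛₗ[frobenius A p]
      (A ⧸ (I ^ n • ⊤ : Ideal A)) :=
  Submodule.mapQ _ _ (twistToBase p A) (smul_top_le_comap p A I n)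

theorem psi_mk (n : ℕ) (t : Twist p A) :
    psi p A I n (Submodule.Quotient.mk t) = Submodule.Quotient.mk ((toTwist p A).symm t) := rfl

theorem psi_transition {m n : ℕ} (hmn : m ≤ n)
    (y : Twist p A ⧸ (I ^ n • ⊤ : Submodule A (Twist p A))) :
    AdicCompletion.transitionMap I A hmn (psi p A I n y) =
      psi p A I m (AdicCompletion.transitionMap I (Twist p A) hmn y) := by
  obtain ⟨t, rfl⟩ := Submodule.Quotient.mk_surjective _ y
  rfl

/-- The comparison map from the completion of the twist to the completion of `A`. -/
noncomputable def Psi (s : AdicCompletion I (Twist p A)) : AdicCompletion I A :=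
  ⟨fun n => psi p A I n (s.val n), fun {m n} hmn => by
    rw [psi_transition, s.property hmn]⟩

theorem Psi_val (s : AdicCompletion I (Twist p A)) (n : ℕ) :
    (Psi p A I s).val n = psi p A I n (s.val n) := rfl

theorem Psi_add (s s' : AdicCompletion I (Twist p A)) :
    Psi p A I (s + s') = Psi p A I s + Psi p A I s' := by
  apply AdicCompletion.ext
  intro n
  rw [AdicCompletion.val_add_apply, Psi_val, Psi_val, Psi_val, AdicCompletion.val_add_apply,
    map_add]

theorem Psi_zero : Psi p A I 0 = 0 := by
  apply AdicCompletion.ext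
  intro n
  rw [Psi_val, AdicCompletion.val_zero_apply, AdicCompletion.val_zero_apply, map_zero]

theorem Psi_sub (s s' : AdicCompletion I (Twist p A)) :
    Psi p A I (s - s') = Psi p A I s - Psi p A I s' := by
  apply AdicCompletion.ext
  intro n
  rw [AdicCompletion.val_sub_apply, Psi_val, Psi_val, Psi_val, AdicCompletion.val_sub_apply,
    map_sub]


/-- Cofinality: a high power of `I` lies in the Frobenius power of `I ^ n`. -/
theorem exists_pow_le (hI : I.FG) (n : ℕ) :
    ∃ m, n ≤ m ∧ I ^ m ≤ (I ^ n).map (frobenius A p) := by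
  obtain ⟨k, hk⟩ := exists_pow_le_map_frobenius p (I ^ n) (hI.pow)
  refine ⟨n * k + n, Nat.le_add_left _ _, ?_⟩
  rw [← pow_mul] at hk
  exact (Ideal.pow_le_pow_right (Nat.le_add_right _ _)).trans hk

theorem Psi_injective (hI : I.FG) : Function.Injective (Psi p A I) := by
  intro s s' h
  rw [← sub_eq_zero] at h ⊢
  rw [← Psi_sub] at h
  generalize s - s' = x at h
  induction x using AdicCompletion.induction_on with
  | h g =>
  apply AdicCompletion.ext
  intro n
  rw [AdicCompletion.val_zero_apply]
  change Submodule.Quotient.mk (g n) = 0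
  rw [Submodule.Quotient.mk_eq_zero]
  obtain ⟨m, hnm, hm⟩ := exists_pow_le p A I hI n
  -- `g m ∈ I ^ m`
  have h1 : (Psi p A I (AdicCompletion.mk I (Twist p A) g)).val m = 0 := by
    rw [h, AdicCompletion.val_zero_apply]
  change Submodule.Quotient.mk ((toTwist p A).symm (g m)) = 0 at h1
  rw [Submodule.Quotient.mk_eq_zero] at h1
  have h2 : (toTwist p A).symm (g m) ∈ I ^ m := by simpa using h1
  have h3 : g m ∈ (I ^ n • ⊤ : Submodule A (Twist p A)) :=
    (mem_smul_top_twist_iff p (I ^ n) (g m)).2 (hm h2)
  have h4 : g n - g m ∈ (I ^ n • ⊤ : Submodule A (Twist p A)) :=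
    (SModEq.sub_mem).1 (g.property hnm)
  have := add_mem h4 h3
  simpa using this

theorem Psi_surjective (hI : I.FG) : Function.Surjective (Psi p A I) := by
  intro b
  induction b using AdicCompletion.induction_on with
  | h f =>
  choose m hnm hm using exists_pow_le p A I hI
  -- the candidate Cauchy sequence in the twist
  have hc : ∀ n, toTwist p A (f (m n)) ≡ toTwist p A (f (m (n + 1)))
      [SMOD (I ^ n • ⊤ : Submodule A (Twist p A))] := by
    intro n
    rw [SModEq.sub_mem, mem_smul_top_twist_iff, map_sub, RingEquiv.symm_apply_apply,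
      RingEquiv.symm_apply_apply]
    rcases le_total (m n) (m (n + 1)) with hle | hle
    · have h1 : f (m n) - f (m (n + 1)) ∈ (I ^ (m n) • ⊤ : Submodule A A) :=
        (SModEq.sub_mem).1 (f.property hle)
      have h2 : f (m n) - f (m (n + 1)) ∈ I ^ (m n) := by simpa using h1
      exact hm n h2
    · have h1 : f (m (n + 1)) - f (m n) ∈ (I ^ (m (n + 1)) • ⊤ : Submodule A A) :=
        (SModEq.sub_mem).1 (f.property hle)
      have h2 : f (m (n + 1)) - f (m n) ∈ I ^ (m (n + 1)) := by simpa using h1
      have h3 := hm (n + 1) h2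
      have h4 : (I ^ (n + 1)).map (frobenius A p) ≤ (I ^ n).map (frobenius A p) :=
        Ideal.map_mono (Ideal.pow_le_pow_right (Nat.le_succ n))
      have h5 := h4 h3
      rw [← neg_sub]
      exact neg_mem h5
  refine ⟨AdicCompletion.mk I (Twist p A)
    (AdicCompletion.AdicCauchySequence.mk I (Twist p A) (fun n => toTwist p A (f (m n))) hc), ?_⟩
  apply AdicCompletion.ext
  intro n
  change Submodule.Quotient.mk ((toTwist p A).symm (toTwist p A (f (m n)))) =
    Submodule.Quotient.mk (f n)
  rw [RingEquiv.symm_apply_apply]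
  exact AdicCompletion.AdicCauchySequence.mk_eq_mk (hnm n) f


variable [CharP (AdicCompletion I A) p]

theorem relFrob_tmul (b : AdicCompletion I A) (t : Twist p A) :
    relFrob p A (AdicCompletion I A) (b ⊗ₜ[A] t) =
      b ^ p * algebraMap A (AdicCompletion I A) ((toTwist p A).symm t) := by
  simp [relFrob, frobHom, inclHom, Algebra.TensorProduct.lift_tmul]
  rfl

theorem relFrob_eq_Psi (z : AdicCompletion I A ⊗[A] Twist p A) :
    relFrob p A (AdicCompletion I A) z = Psi p A I (AdicCompletion.ofTensorProduct I (Twist p A) z) := by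
  induction z using TensorProduct.induction_on with
  | zero => rw [map_zero, map_zero, Psi_zero]
  | add x y hx hy => rw [map_add, map_add, Psi_add, hx, hy]
  | tmul b t =>
    rw [relFrob_tmul, AdicCompletion.ofTensorProduct_tmul]
    apply AdicCompletion.ext
    intro n
    rw [Psi_val, AdicCompletion.smul_eval, AdicCompletion.val_mul]
    obtain ⟨a, ha⟩ := Submodule.Quotient.mk_surjective _ (b.val n)
    have hpow : (b ^ p).val n = (b.val n) ^ p := rfl
    rw [hpow, ← ha]
    change Submodule.Quotient.mk a ^ p * Submodule.Quotient.mk ((toTwist p A).symm t) =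
      psi p A I n (a • Submodule.Quotient.mk t)
    rw [← Submodule.Quotient.mk_smul, psi_mk, smul_twist, map_mul, RingEquiv.symm_apply_apply]
    rfl

theorem relFrob_adicCompletion_bijective [IsNoetherianRing A] [Module.Finite A (Twist p A)] :
    Function.Bijective (relFrob p A (AdicCompletion I A)) := by
  have hI : I.FG := IsNoetherian.noetherian I
  have h1 : Function.Bijective (AdicCompletion.ofTensorProduct I (Twist p A)) :=
    AdicCompletion.ofTensorProduct_bijective_of_finite_of_isNoetherian I (Twist p A)
  have h2 : Function.Bijective (Psi p A I) := ⟨Psi_injective p A I hI, Psi_surjective p A I hI⟩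
  have h3 : (relFrob p A (AdicCompletion I A) : _ → _) =
      Psi p A I ∘ AdicCompletion.ofTensorProduct I (Twist p A) := by
    funext z
    exact relFrob_eq_Psi p A I z
  rw [h3]
  exact h2.comp h1

end Groth.Agent.Lib.Helper8FrobCompl
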