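import Mathlib
import Groth.Prelude.Def_Frob

/-!
# The absolute Frobenius of a reduced scheme is an epimorphism
-/

set_option autoImplicit false
universe u

open CategoryTheory CategoryTheory.Limits AlgebraicGeometry

namespace Groth.Agent.Lib.Helper8FrobEpi

/-- In a reduced ring in which the prime `p` vanishes, `p`-th powers determine elements. -/
theorem eq_of_pow_eq (p : ℕ) [Fact p.Prime] (R : Type u) [CommRing R] [IsReduced R]
    (h : (p : R) = 0) {x y : R} (hxy : x ^ p = y ^ p) : x = y := by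
  have hinj : Function.Injective (FrobSch.powHom p R h) := by
    rw [injective_iff_map_eq_zero]
    intro a ha
    rw [FrobSch.powHom_apply] at ha
    exact IsReduced.eq_zero a ⟨p, ha⟩
  exact hinj (by simpa using hxy)

theorem aux (p : ℕ) [Fact p.Prime] {Y : Scheme.{u}} [FrobSch.IsCharP Y p] [IsReduced Y]
    {R : CommRingCat.{u}} {V₁ V₂ : Y.Opens} (e : V₁ = V₂) (φ₁ : R ⟶ Γ(Y, V₁)) (φ₂ : R ⟶ Γ(Y, V₂))
    (hpow : ∀ s, (φ₁ s) ^ p = (Y.presheaf.map (eqToHom e).op (φ₂ s)) ^ p) :
    φ₁ ≫ Y.presheaf.map (eqToHom e.symm).op = φ₂ := by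
  subst e
  simp only [eqToHom_refl, op_id, CategoryTheory.Functor.map_id, Category.comp_id]
  ext s
  have := hpow s
  simp only [eqToHom_refl, op_id, CategoryTheory.Functor.map_id] at this
  exact eq_of_pow_eq p _ (FrobSch.natCast_eq_zero_app Y p V₁) this

theorem eq_of_frob_comp_eq (p : ℕ) [Fact p.Prime] {Y Z : Scheme.{u}} [FrobSch.IsCharP Y p]
    [IsReduced Y] (g₁ g₂ : Y ⟶ Z) (h : FrobSch.frob Y p ≫ g₁ = FrobSch.frob Y p ≫ g₂) :
    g₁ = g₂ := by
  have hb : g₁.base = g₂.base := by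
    have := congrArg (fun φ : Y ⟶ Z => φ.base) h
    simpa using this
  refine Scheme.Hom.ext hb (fun U => ?_)
  have hU := Scheme.Hom.congr_app h U
  rw [Scheme.Hom.comp_app, Scheme.Hom.comp_app] at hU
  refine aux p (congr((TopologicalSpace.Opens.map $hb).obj U)) (g₁.app U) (g₂.app U) ?_
  intro s
  have h1 := congrArg (fun φ => φ.hom s) hU
  have h2 : (g₁.app U s) ^ p =
      Y.presheaf.map (eqToHom (congr((TopologicalSpace.Opens.map $hb).obj U))).op
        ((g₂.app U s) ^ p) := h1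
  rw [h2, map_pow]

end Groth.Agent.Lib.Helper8FrobEpi
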