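import Mathlib
import Groth.Prelude.Def_W4c3convisocdirimgFrobIter

/-!
# The iterated Frobenius and the closed subschemes `T^(m)` cut out by `ker F^m`
-/

set_option autoImplicit false
universe u

open CategoryTheory CategoryTheory.Limits AlgebraicGeometry

namespace Groth.Agent.Lib.Helper8FrobIter

variable (T : Scheme.{u}) (p : ℕ) [Fact p.Prime] [FrobSch.IsCharP T p]

theorem frobIter_apply (n : ℕ) (x : T) : FrobSch.frobIter T p n x = x := by
  induction n with
  | zero => rfl
  | succ n ih =>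
    rw [FrobSch.frobIter_succ, Scheme.Hom.comp_apply, FrobSch.frob_apply, ih]

theorem frobIter_coe (n : ℕ) : ⇑(FrobSch.frobIter T p n) = id := by
  funext x
  exact frobIter_apply T p n x

instance quasiCompact_frobIter (n : ℕ) : QuasiCompact (FrobSch.frobIter T p n) := by
  constructor
  intro U _ hU
  rw [frobIter_coe]
  exact hU

theorem frobIter_app_eq_zero_iff (n : ℕ) (U : T.Opens) (s : Γ(T, U)) :
    (FrobSch.frobIter T p n).app U s = 0 ↔ s ^ (p ^ n) = 0 := by
  induction n generalizing s with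
  | zero =>
    simp only [FrobSch.frobIter_zero, pow_zero, pow_one]
    rfl
  | succ n ih =>
    have h1 : ((FrobSch.frobIter T p (n + 1)).app U s = 0) ↔
        (((FrobSch.frobIter T p n).app U s) ^ p = 0) := Iff.rfl
    rw [h1]
    have h2 : ((FrobSch.frobIter T p n).app U s) ^ p = (FrobSch.frobIter T p n).app U (s ^ p) :=
      (map_pow _ _ _).symm
    rw [h2, ih, ← pow_mul, pow_succ']

theorem ker_le_ker (n : ℕ) :
    (FrobSch.frobIter T p (n + 1)).ker ≤
      ((FrobSch.frobIter T p n).ker.subschemeι ≫ FrobSch.frob T p).ker := by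
  change _ ≤ Scheme.IdealSheafData.ofIdeals _
  rw [Scheme.IdealSheafData.le_ofIdeals_iff]
  intro U s hs
  have h1 := (FrobSch.frobIter T p (n + 1)).ideal_ker_le U hs
  rw [RingHom.mem_ker] at h1
  have h2 : s ^ (p ^ (n + 1)) = 0 := (frobIter_app_eq_zero_iff T p (n + 1) U.1 s).1 h1
  have h3 : (s ^ p) ^ (p ^ n) = 0 := by rw [← pow_mul, ← pow_succ']; exact h2
  have h4 : s ^ p ∈ RingHom.ker ((FrobSch.frobIter T p n).app U.1).hom :=
    (frobIter_app_eq_zero_iff T p n U.1 (s ^ p)).2 h3
  rw [← Scheme.Hom.ker_apply, ← Scheme.IdealSheafData.ker_subschemeι_app] at h4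
  rw [RingHom.mem_ker] at h4 ⊢
  exact h4

/-- The Frobenius `T^(n) → T^(n+1)`. -/
noncomputable def phi (n : ℕ) :
    (FrobSch.frobIter T p n).ker.subscheme ⟶ (FrobSch.frobIter T p (n + 1)).ker.subscheme :=
  IsClosedImmersion.lift (FrobSch.frobIter T p (n + 1)).ker.subschemeι
    ((FrobSch.frobIter T p n).ker.subschemeι ≫ FrobSch.frob T p)
    (by rw [Scheme.IdealSheafData.ker_subschemeι]; exact ker_le_ker T p n)

@[reassoc]
theorem phi_ι (n : ℕ) :
    phi T p n ≫ (FrobSch.frobIter T p (n + 1)).ker.subschemeι =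
      (FrobSch.frobIter T p n).ker.subschemeι ≫ FrobSch.frob T p :=
  IsClosedImmersion.lift_fac _ _ _

end Groth.Agent.Lib.Helper8FrobIter
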