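import Mathlib
import Groth.Prelude
import Groth.Agent.S0034
import Groth.Agent.Lib.R2H4BCGlue
import Groth.Agent.Lib.Helper2PullbackSec3

set_option autoImplicit false
set_option linter.style.haveILetI false
universe u
open CategoryTheory Limits AlgebraicGeometry TopologicalSpace Opposite TensorProduct

namespace Groth.Agent.Lib.R2H4FibEuler

variable {X Y Y' : Scheme.{u}} (f : X ⟶ Y) (g : Y' ⟶ Y)

theorem betti_eq [QuasiCompact f] [QuasiSeparated f] (F : X.Modules) [Coh.IsQCoh F] (y' : Y')
    (i : ℕ) :
    PerfAux.betti (pullback.snd f g) ((Scheme.Modules.pullback (pullback.fst f g)).obj F) y' i =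
      PerfAux.betti f F (g.base y') i := by
  have hpb : IsPullback (pullback.fst f g) (pullback.snd f g) f g := IsPullback.of_hasPullback f g
  have hfib := isPullback_fiberToSpecResidueField_of_isPullback hpb y'
  letI : Algebra (Y.residueField (g y')) (Y'.residueField y') :=
    (g.residueFieldMap y').hom.toAlgebra
  letI : (f.fiber (g y')).Over (Spec (CommRingCat.of (Y.residueField (g y')))) :=
    ⟨f.fiberToSpecResidueField (g y')⟩
  letI : ((pullback.snd f g).fiber y').Over (Spec (CommRingCat.of (Y'.residueField y'))) :=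
    ⟨(pullback.snd f g).fiberToSpecResidueField y'⟩
  haveI : QuasiSeparated (f.fiberToSpecResidueField (g y')) := by
    unfold Scheme.Hom.fiberToSpecResidueField
    exact MorphismProperty.pullback_snd (P := @QuasiSeparated) _ _ inferInstance
  haveI : QuasiSeparatedSpace (f.fiber (g y')) :=
    quasiSeparatedSpace_of_quasiSeparated (f.fiberToSpecResidueField (g y'))
  haveI : Coh.IsQCoh ((Scheme.Modules.pullback (f.fiberι (g y'))).obj F) :=
    Groth.Agent.Lib.Helper2.PullbackSec.isQuasicoherent_pullback _ F
  obtain ⟨a, ha, hfib'⟩ : ∃ a : (pullback.snd f g).fiber y' ⟶ f.fiber (g y'),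
      a ≫ f.fiberι (g y') = (pullback.snd f g).fiberι y' ≫ pullback.fst f g ∧
      IsPullback a ((pullback.snd f g).fiberToSpecResidueField y')
        (f.fiberToSpecResidueField (g y')) (Spec.map (g.residueFieldMap y')) :=
    ⟨_, by simp only [Scheme.Hom.fiberι]; exact pullback.lift_fst _ _ _, hfib⟩
  have hbc := Groth.Agent.S0034.result (Y.residueField (g y')) (Y'.residueField y')
    (f.fiber (g y')) ((pullback.snd f g).fiber y') a hfib'
    ((Scheme.Modules.pullback (f.fiberι (g y'))).obj F) i
  let e : (Scheme.Modules.pullback ((pullback.snd f g).fiberι y')).obj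
        ((Scheme.Modules.pullback (pullback.fst f g)).obj F) ≅
      (Scheme.Modules.pullback a).obj ((Scheme.Modules.pullback (f.fiberι (g y'))).obj F) :=
    (Scheme.Modules.pullbackComp _ _).app F ≪≫ (Scheme.Modules.pullbackCongr ha.symm).app F ≪≫
      ((Scheme.Modules.pullbackComp _ _).app F).symm
  unfold PerfAux.betti
  rw [(Groth.Agent.Lib.R2H4BCGlue.HHEquivOfIso (k' := Y'.residueField y') e i).finrank_eq]
  exact Groth.Agent.Lib.R2H4BCGlue.finrank_eq_of_bc hbc

theorem main [IsProper f] (F : X.Modules) (hF : Coh.IsCoh F) (hfl : FlatMod.IsFlatOver f F) :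
    FlatMod.IsFlatOver (pullback.snd f g)
        ((Scheme.Modules.pullback (pullback.fst f g)).obj F) ∧
      ∀ y' : Y', PerfAux.eulerChar (pullback.snd f g)
          ((Scheme.Modules.pullback (pullback.fst f g)).obj F) y' =
        PerfAux.eulerChar f F (g.base y') := by
  haveI : Coh.IsQCoh F := hF.1
  refine ⟨fun x' => ?_, fun y' => ?_⟩
  · exact Groth.Agent.Lib.Helper2.PullbackSec.isFlatOverAt_pullback_of_isPullback
      (IsPullback.of_hasPullback f g) F x' (hfl _)
  · unfold PerfAux.eulerChar
    exact finsum_congr fun i => by rw [betti_eq]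

end Groth.Agent.Lib.R2H4FibEuler
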