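import Mathlib
import Groth.Agent.Lib.R2H2FibRank
import Groth.Agent.Lib.R2H2Bridge
import Groth.Agent.Lib.R2H2FibreFree
import Groth.Agent.Lib.R2H4FibEuler
set_option backward.isDefEq.respectTransparency.types false

/-!
# The Grothendieck complex over a local ring of the base (helper2, round 2)

For `f : X ⟶ Y` proper, `Y` locally Noetherian, `F` coherent and flat over `Y`, `y : Y`, `O = O_{Y,y}`:
`exists_local_complex` gives a bounded complex `Q` of finite free `O`-modules such that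
`(R^p f_* F)_y ≃ₗ[O] H_{-p}(Q)` and `dRank Q (-p) q = h^p(image of q)` for all `p` and all `q ∈ Spec O`,
together with the functorial description `TFun Q (-p) ⋙ forget₂ ≅ tensorAFunctor O F₁ ⋙ HAb X₁ p`.
-/

set_option autoImplicit false
set_option linter.unusedSectionVars false
set_option linter.style.haveILetI false
universe u
open CategoryTheory CategoryTheory.Limits AlgebraicGeometry TopologicalSpace Opposite

noncomputable section

namespace Groth.Agent.Lib.R2H2.LocalCx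

open Groth.Agent.Lib.R2H2.LiftA Groth.Agent.Lib.R2H2.PsiA Groth.Agent.Lib.R2H2.PsiCech
  Groth.Agent.Lib.R2H2.GAlg Groth.Agent.Lib.R2H2.FibRank Groth.Agent.Lib.R2H2.FibreVanish
  Groth.Agent.Lib.R2H2.FibreFree

section Unit

variable {A : Type u} [CommRing A] {X : Scheme.{u}} [X.Over (Spec (CommRingCat.of A))]
  (F : X.Modules) {κ : Type} {c : ComplexShape κ} (Q : HomologicalComplex (ModuleCat.{u} A) c)
  (k : κ) (p : ℕ)
  (e : CohIII.TFun Q k ⋙ forget₂ (ModuleCat.{u} A) AddCommGrpCat.{u} ≅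
    CohIII.tensorAFunctor A F ⋙ CohIII.HAb X p)

include e in
/-- `H^p(X, F) ≃ₗ[A] H_k(Q)` for a Grothendieck complex `Q` -/
theorem nonempty_HH_linearEquiv_homology :
    Nonempty (Coh.HH X F p ≃ₗ[A] Q.homology k) := by
  let e1 : Coh.HH X F p ≃ₗ[A]
      Coh.HH X ((CohIII.tensorAFunctor A F).obj (ModuleCat.of A A)) p :=
    HHLinEquiv (objUnitIso A F).symm p
  let e2 := (liftHAbEquiv A F (ModuleCat.of A A) p).symm
  let e3 := ((liftIso e).app (ModuleCat.of A A)).symm.toLinearEquiv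
  let e4 := ((liftAForget (CohIII.TFun Q k)).app (ModuleCat.of A A)).toLinearEquiv
  let e5 := (Groth.Agent.Lib.Helper3.TUnitIso Q k).toLinearEquiv
  exact ⟨e1 ≪≫ₗ e2 ≪≫ₗ e3 ≪≫ₗ e4 ≪≫ₗ e5⟩

end Unit


section Geo

variable {X Y : Scheme.{u}} (f : X ⟶ Y) (y : Y)

attribute [local instance] over₁

/-- **the Grothendieck complex over the local ring of a point of the base**, with its bounds -/
theorem exists_local_complex' [IsProper f] [IsLocallyNoetherian Y]
    [HasInjectiveResolutions X.Modules] (F : X.Modules) (hF : Coh.IsCoh F)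
    (hfl : FlatMod.IsFlatOver f F) :
    ∃ (Q : ChainComplex (ModuleCat.{u} (Y.presheaf.stalk y)) ℤ) (b : ℕ),
      (∀ i, Module.Finite (Y.presheaf.stalk y) (Q.X i) ∧ Module.Free (Y.presheaf.stalk y) (Q.X i)) ∧
      (∀ i : ℤ, i < 1 - (b : ℤ) → IsZero (Q.X i)) ∧
      (∀ i : ℤ, 0 < i → ∀ M : ModuleCat.{u} (Y.presheaf.stalk y), IsZero ((CohIII.TFun Q i).obj M)) ∧
      (∀ p : ℕ, Nonempty (CohIII.TFun Q (-(p : ℤ)) ⋙
          forget₂ (ModuleCat.{u} (Y.presheaf.stalk y)) AddCommGrpCat.{u} ≅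
        CohIII.tensorAFunctor (Y.presheaf.stalk y) (F₁ f y F) ⋙ CohIII.HAb (X₁ f y) p)) ∧
      (∀ p : ℕ, Nonempty (((Coh.Rpush f p).obj F).presheaf.stalk y ≃ₗ[Y.presheaf.stalk y]
        Q.homology (-(p : ℤ)))) ∧
      (∀ (p : ℕ) (q : PrimeSpectrum (Y.presheaf.stalk y)),
        CohIII.dRank Q (-(p : ℤ)) q = CohIII.fiberRank f F p ((Y.fromSpecStalk y).base q)) := by
  haveI : F.IsQuasicoherent := hF.1
  haveI : SheafOfModules.IsFiniteType (R := X.ringCatSheaf) F := hF.2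
  haveI : IsProper (X₁ f y ↘ Spec (CommRingCat.of (Y.presheaf.stalk y))) :=
    MorphismProperty.of_isPullback (isPullback₁ f y) inferInstance
  haveI : CompactSpace (X₁ f y) :=
    QuasiCompact.compactSpace_of_compactSpace (X₁ f y ↘ Spec (CommRingCat.of (Y.presheaf.stalk y)))
  have hcoh₁ : Coh.IsCoh (F₁ f y F) :=
    ⟨Groth.Agent.Lib.Helper2.PullbackSec.isQuasicoherent_pullback _ F,
      Groth.Agent.Lib.Helper20.FormalPull.isFiniteType_pullback _ F⟩
  have hfl₁ : FlatMod.IsFlatOver (X₁ f y ↘ Spec (CommRingCat.of (Y.presheaf.stalk y)))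
      (F₁ f y F) := fun x' =>
    Groth.Agent.Lib.Helper2.PullbackSec.isFlatOverAt_pullback_of_isPullback (isPullback₁ f y) F x'
      (hfl _)
  obtain ⟨Q, b, hQ, hQz, hQv, hQi⟩ := Groth.Agent.Lib.R2H2.Bridge.bridge' (Y.presheaf.stalk y) (X₁ f y)
    (F₁ f y F) hcoh₁ hfl₁
  have hfl' : ∀ i, Module.Flat (Y.presheaf.stalk y) (Q.X i) := fun i => by
    haveI := (hQ i).2
    infer_instance
  refine ⟨Q, b, hQ, hQz, hQv, hQi, fun p => ?_, fun p q => ?_⟩
  · obtain ⟨e⟩ := Groth.Agent.Lib.R2H2.StalkBC2.stalk_equiv f F y p (X₁ f y) (g₁ f y)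
      (isPullback₁ f y)
    obtain ⟨l⟩ := nonempty_HH_linearEquiv_homology (F₁ f y F) Q (-(p : ℤ)) p (hQi p).some
    exact ⟨e.symm ≪≫ₗ l⟩
  · rw [← fiberRank_eq_dRank (F₁ f y F) Q hfl' (-(p : ℤ)) p (hQi p).some q]
    exact Groth.Agent.Lib.R2H4FibEuler.betti_eq f (Y.fromSpecStalk y) F q p

/-- **the Grothendieck complex over the local ring of a point of the base** -/
theorem exists_local_complex [IsProper f] [IsLocallyNoetherian Y]
    [HasInjectiveResolutions X.Modules] (F : X.Modules) (hF : Coh.IsCoh F)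
    (hfl : FlatMod.IsFlatOver f F) :
    ∃ (Q : ChainComplex (ModuleCat.{u} (Y.presheaf.stalk y)) ℤ),
      (∀ i, Module.Finite (Y.presheaf.stalk y) (Q.X i) ∧ Module.Free (Y.presheaf.stalk y) (Q.X i)) ∧
      (∀ p : ℕ, Nonempty (CohIII.TFun Q (-(p : ℤ)) ⋙
          forget₂ (ModuleCat.{u} (Y.presheaf.stalk y)) AddCommGrpCat.{u} ≅
        CohIII.tensorAFunctor (Y.presheaf.stalk y) (F₁ f y F) ⋙ CohIII.HAb (X₁ f y) p)) ∧
      (∀ p : ℕ, Nonempty (((Coh.Rpush f p).obj F).presheaf.stalk y ≃ₗ[Y.presheaf.stalk y]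
        Q.homology (-(p : ℤ)))) ∧
      (∀ (p : ℕ) (q : PrimeSpectrum (Y.presheaf.stalk y)),
        CohIII.dRank Q (-(p : ℤ)) q = CohIII.fiberRank f F p ((Y.fromSpecStalk y).base q)) := by
  obtain ⟨Q, b, hQ, -, -, h1, h2, h3⟩ := exists_local_complex' f y F hF hfl
  exact ⟨Q, hQ, h1, h2, h3⟩

end Geo

end Groth.Agent.Lib.R2H2.LocalCx
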