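import Groth.Agent.Lib.R2H2RegFlat
import Groth.Agent.Lib.R2H2LerayAff
import Groth.Agent.Lib.R2H2KoszulPnT
import Groth.Agent.Lib.R2H2OpenImmSec
import Groth.Agent.Lib.R2H2PnFinite
import Groth.Agent.Lib.R2H2PnLocFree
import Groth.Agent.Lib.Helper20LocFree
import Groth.Agent.S9705

/-!
# `p_* F` is finite locally free for `F` a regular vector bundle on `P^n_Y` (helper2, round 2)

`Y` locally Noetherian, `F` finite locally free on `P^n_Y`, regular.  Over an affine open `V` of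
`Y` the sections `Γ(p⁻¹ V, F)` are `Hom(O, a^* F)` on `P^n_A` (`A = Γ(V, O_Y)`), which is a finite
(`PnFinite.finite_HH`) and flat (`RegFlat.flat_hom_of_acyclic`) `A`-module.
-/

set_option autoImplicit false
set_option linter.unusedSectionVars false
set_option linter.style.haveILetI false
universe u

namespace Groth.Agent.Lib.R2H2.RegPush

open CategoryTheory CategoryTheory.Limits AlgebraicGeometry TopologicalSpace Opposite
open Groth.Agent.Lib.R2H2.HHLin Groth.Agent.Lib.R2H2.PnLinRes Groth.Agent.Lib.Helper23.SecTw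
  Groth.Agent.Lib.Helper23.GenLocus Groth.Agent.Lib.R2H2.PnGG Groth.Agent.Helper13PullbackUnit
  Groth.Agent.Lib.R2H2.ProjOver

section General

variable {A : Type u} [CommRing A] {X : Scheme.{u}} [X.Over (Spec (CommRingCat.of A))]

theorem smul_eq_comp_smulMod {M N : X.Modules} (a : A) (f : M ⟶ N) :
    a • f = f ≫ Formal.smulMod A N a := by
  rw [KLin.smul_def]
  exact (KLin.comp_smulModΓ f _).symm

theorem cls_smul {M : X.Modules} (a : A) (σ : Coh.structureModule X ⟶ M) :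
    cls (a • σ) = a • cls σ := by
  rw [smul_eq_comp_smulMod, ← cls_comp]
  rfl

/-- the class map as a linear map -/
noncomputable def clsL (M : X.Modules) : (Coh.structureModule X ⟶ M) →ₗ[A] Coh.HH X M 0 where
  toFun := cls
  map_add' := Groth.Agent.Lib.R2H2.EWFlat.cls_add'
  map_smul' := cls_smul

/-- `Hom(O_X, M) ≃ₗ[A] H^0(X, M)` -/
noncomputable def clsEquiv (M : X.Modules) : (Coh.structureModule X ⟶ M) ≃ₗ[A] Coh.HH X M 0 :=
  LinearEquiv.ofBijective (clsL M)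
    ⟨fun σ τ h => Groth.Agent.Lib.R2H2.EWFlat.cls_injective' σ τ h, cls_surjective M⟩

theorem map_top_self (r : Coh.Γtop X) :
    X.presheaf.map (homOfLE (le_top : (⊤ : X.Opens) ≤ ⊤)).op r = r := by
  have : (homOfLE (le_top : (⊤ : X.Opens) ≤ ⊤)).op = 𝟙 _ := rfl
  rw [this, X.presheaf.map_id]
  rfl

theorem sv_smul {M : X.Modules} (a : A) (σ : Coh.structureModule X ⟶ M) :
    sv (a • σ) ⊤ = X.presheaf.map (homOfLE (le_top : (⊤ : X.Opens) ≤ ⊤)).op
      (Coh.toGlobal (X ↘ Spec (CommRingCat.of A)) a) • sv σ ⊤ := by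
  rw [smul_eq_comp_smulMod, sv_comp]
  unfold Formal.smulMod
  rw [KLin.smulModΓ_app_apply]

end General

section Scalars

variable (n : ℕ) {Y : Scheme.{u}} {V : Y.Opens} (hV : IsAffineOpen V)

theorem appLE_congr_hom {X Z : Scheme.{u}} (f g : X ⟶ Z) (hfg : f = g) (U : Z.Opens)
    (W : X.Opens) (e : W ≤ f ⁻¹ᵁ U) :
    f.appLE U W e = g.appLE U W (hfg ▸ e) := by
  subst hfg
  rfl

theorem fromSpec_appLE_top (e : (⊤ : (Spec Γ(Y, V)).Opens) ≤ hV.fromSpec ⁻¹ᵁ V) :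
    hV.fromSpec.appLE V ⊤ e = (Scheme.ΓSpecIso Γ(Y, V)).inv := by
  rw [Scheme.Hom.appLE, hV.fromSpec_app_self, Category.assoc, ← Functor.map_comp]
  have h : (eqToHom hV.fromSpec_preimage_self).op ≫ (homOfLE e).op = 𝟙 (op ⊤) :=
    Subsingleton.elim _ _
  rw [h, CategoryTheory.Functor.map_id, Category.comp_id]

theorem appLE_top_top {X Z : Scheme.{u}} (q : X ⟶ Z) (e : (⊤ : X.Opens) ≤ q ⁻¹ᵁ ⊤) :
    q.appLE ⊤ ⊤ e = q.appTop := by
  have h2 : X.presheaf.map (homOfLE e).op = 𝟙 (X.presheaf.obj (op ⊤)) :=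
    X.presheaf.map_id (op ⊤)
  have h3 : q.appLE ⊤ ⊤ e = q.app ⊤ ≫ X.presheaf.map (homOfLE e).op := rfl
  rw [h3, h2]
  exact Category.comp_id (q.app ⊤)

/-- the two ways of turning a function on `V` into a global function on `P^n_A` agree -/
theorem scalar_compat
    (h' : (⊤ : (CohB1.ProjSpace n Γ(Y, V)).Opens) ≤
      a n Γ(Y, V) hV.fromSpec ⁻¹ᵁ (CohB1.ProjSpaceOver.toBase n Y ⁻¹ᵁ V)) (r : Γ(Y, V)) :
    ((a n Γ(Y, V) hV.fromSpec).appLE (CohB1.ProjSpaceOver.toBase n Y ⁻¹ᵁ V) ⊤ h').hom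
        (((CohB1.ProjSpaceOver.toBase n Y).app V).hom r) =
      (CohB1.ProjSpace n Γ(Y, V)).presheaf.map
        (homOfLE (le_top : (⊤ : (CohB1.ProjSpace n Γ(Y, V)).Opens) ≤ ⊤)).op
        (Coh.toGlobal (CohB1.ProjSpace n Γ(Y, V) ↘ Spec (CommRingCat.of Γ(Y, V))) r) := by
  let p := CohB1.ProjSpaceOver.toBase n Y
  let j : Spec (CommRingCat.of Γ(Y, V)) ⟶ Y := hV.fromSpec
  let a' := a n Γ(Y, V) j
  let q := CohB1.ProjSpace.toSpec n Γ(Y, V)
  have hsq : a' ≫ p = q ≫ j := a_toBase n Γ(Y, V) j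
  have e1 : p.app V ≫ a'.appLE (p ⁻¹ᵁ V) ⊤ h' = (a' ≫ p).appLE V ⊤ h' := by
    rw [Scheme.Hom.app_eq_appLE, Scheme.Hom.appLE_comp_appLE]
  have e2 : (a' ≫ p).appLE V ⊤ h' = (q ≫ j).appLE V ⊤ (hsq ▸ h') :=
    appLE_congr_hom _ _ hsq V ⊤ h'
  have hj : (⊤ : (Spec (CommRingCat.of Γ(Y, V))).Opens) ≤ j ⁻¹ᵁ V :=
    le_of_eq hV.fromSpec_preimage_self.symm
  have hq : (⊤ : (CohB1.ProjSpace n Γ(Y, V)).Opens) ≤ q ⁻¹ᵁ ⊤ := le_rfl
  have e3 : j.appLE V ⊤ hj ≫ q.appLE ⊤ ⊤ hq = (q ≫ j).appLE V ⊤ (hsq ▸ h') :=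
    Scheme.Hom.appLE_comp_appLE q j V ⊤ ⊤ hj hq
  have e4 : p.app V ≫ a'.appLE (p ⁻¹ᵁ V) ⊤ h' =
      (Scheme.ΓSpecIso Γ(Y, V)).inv ≫ q.appTop := by
    rw [e1, e2, ← e3, fromSpec_appLE_top hV hj, appLE_top_top q hq]
  have e5 := congrArg (fun φ => φ.hom r) e4
  rw [map_top_self]
  exact e5

end Scalars

section Main

variable (n : ℕ) {Y : Scheme.{u}} {V : Y.Opens}
  (F : (KRR.PY n Y).Modules)

open Groth.Agent.Lib.R2H2.PullLF in
/-- **the sections of a regular vector bundle over the preimage of an affine open are flat and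
finite** -/
theorem flat_and_finite (hV : IsAffineOpen V) [IsNoetherianRing Γ(Y, V)]
    (hF : FlatMod.IsFinLocFree F)
    (hreg : KRR.IsRegSheaf n Y F) :
    Module.Flat Γ(Y, V) Γ((Scheme.Modules.pushforward (KRR.pr n Y)).obj F, V) ∧
      Module.Finite Γ(Y, V) Γ((Scheme.Modules.pushforward (KRR.pr n Y)).obj F, V) := by
  let p := CohB1.ProjSpaceOver.toBase n Y
  let j : Spec (CommRingCat.of Γ(Y, V)) ⟶ Y := hV.fromSpec
  let a' : CohB1.ProjSpace n Γ(Y, V) ⟶ CohB1.ProjSpaceOver n Y := a n Γ(Y, V) j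
  haveI hAoi : IsOpenImmersion a' := isOpenImmersion_a n Γ(Y, V) j
  have hjr : j.opensRange = V := hV.opensRange_fromSpec
  have hAr : a'.opensRange = p ⁻¹ᵁ V :=
    (opensRange_a n Γ(Y, V) j).trans (congrArg (fun W : Y.Opens => p ⁻¹ᵁ W) hjr)
  let E : (CohB1.ProjSpace n Γ(Y, V)).Modules := (Scheme.Modules.pullback a').obj F
  have hE : FlatMod.IsFinLocFree E := isFinLocFree_pullback a' F hF
  haveI hFq : F.IsQuasicoherent := isQuasicoherent_of_isFinLocFree F hF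
  haveI := Groth.Agent.S9705.isProper_toBase n Y
  -- acyclicity
  have hacyc : ∀ q : ℕ, 1 ≤ q → Subsingleton (Coh.HH (CohB1.ProjSpace n Γ(Y, V)) E q) := by
    intro q hq
    have h0 := Groth.Agent.Lib.R2H2.KoszulPnT.isZero_RpushAb_of_isRegSheaf n Y F hreg q hq
    have h1 : Subsingleton (Coh.HHon (CohB1.ProjSpaceOver n Y) F (p ⁻¹ᵁ V) q) :=
      Groth.Agent.Lib.R2H2.LerayAff.subsingleton_HHon_of_isZero_RpushAb p F q h0 V hV
    rw [← hAr] at h1
    exact (subsingleton_HHon_opensRange_iff a' F q).1 h1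
  have hflat : Module.Flat Γ(Y, V) (Coh.structureModule (CohB1.ProjSpace n Γ(Y, V)) ⟶ E) :=
    Groth.Agent.Lib.R2H2.RegFlat.flat_hom_of_acyclic n Γ(Y, V) E hE hacyc
  have hfin : Module.Finite Γ(Y, V) (Coh.structureModule (CohB1.ProjSpace n Γ(Y, V)) ⟶ E) := by
    haveI := Groth.Agent.Lib.R2H2.PnFinite.finite_HH n Γ(Y, V) E
      (Groth.Agent.Lib.R2H2.PnLocFree.isCoh_of_isFinLocFree E hE) 0
    exact Module.Finite.equiv (clsEquiv (A := Γ(Y, V)) E).symm
  -- the comparison map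
  have h' : (⊤ : (CohB1.ProjSpace n Γ(Y, V)).Opens) ≤ a' ⁻¹ᵁ (p ⁻¹ᵁ V) := by
    intro x _
    have hx : a'.base x ∈ a'.opensRange := ⟨x, rfl⟩
    rw [hAr] at hx
    exact hx
  obtain ⟨θ, hθ⟩ : ∃ θ : Γ(F, p ⁻¹ᵁ V) →+ Γ(E, ⊤), θ = unitSec a' F h' := ⟨_, rfl⟩
  have hθbij : Function.Bijective θ := by
    rw [hθ]
    exact Groth.Agent.Lib.R2H2.OpenImmSec.unitSec_bijective a' F hAr.ge h' le_top
  have hθsmul : ∀ (r : Γ(Y, V)) (x : Γ(F, p ⁻¹ᵁ V)),
      θ (((p.app V).hom r) • x) =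
        (CohB1.ProjSpace n Γ(Y, V)).presheaf.map
          (homOfLE (le_top : (⊤ : (CohB1.ProjSpace n Γ(Y, V)).Opens) ≤ ⊤)).op
          (Coh.toGlobal (CohB1.ProjSpace n Γ(Y, V) ↘ Spec (CommRingCat.of Γ(Y, V))) r) •
            θ x := by
    intro r x
    rw [hθ, unitSec_smul]
    congr 1
    exact scalar_compat n hV h' r
  -- the linear map
  let Λ : Γ((Scheme.Modules.pushforward (KRR.pr n Y)).obj F, V) →ₗ[Γ(Y, V)]
      (Coh.structureModule (CohB1.ProjSpace n Γ(Y, V)) ⟶ E) :=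
    { toFun := fun x => secHom E (θ x)
      map_add' := fun x y => by
        apply hom_ext_of_sv
        rw [Groth.Agent.Lib.Helper23.SecTw.sv_add, sv_top_secHom', sv_top_secHom', sv_top_secHom']
        exact map_add θ x y
      map_smul' := fun r x => by
        apply hom_ext_of_sv
        rw [RingHom.id_apply, sv_smul, sv_top_secHom', sv_top_secHom']
        exact hθsmul r x }
  have hΛ : Function.Bijective Λ := by
    constructor
    · intro x y hxy
      have h1 : sv (secHom E (θ x)) ⊤ = sv (secHom E (θ y)) ⊤ := congrArg (fun σ => sv σ ⊤) hxy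
      rw [sv_top_secHom', sv_top_secHom'] at h1
      exact hθbij.1 h1
    · intro σ
      obtain ⟨x, hx⟩ := hθbij.2 (sv σ ⊤)
      refine ⟨x, ?_⟩
      apply hom_ext_of_sv
      change sv (secHom E (θ x)) ⊤ = sv σ ⊤
      rw [sv_top_secHom', hx]
  let Le := LinearEquiv.ofBijective Λ hΛ
  exact ⟨Module.Flat.of_linearEquiv Le, Module.Finite.equiv Le.symm⟩

open Groth.Agent.Lib.Helper20.Thickening Groth.Agent.Lib.Helper20.PullbackAff
  Groth.Agent.Lib.Helper20.LocFree in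
/-- **`p_* F` is finite locally free for a regular vector bundle `F` on `P^n_Y`** -/
theorem main3756 (Y : Scheme.{u}) [IsLocallyNoetherian Y]
    (F : (KRR.PY n Y).Modules) (hF : FlatMod.IsFinLocFree F) (hreg : KRR.IsRegSheaf n Y F) :
    FlatMod.IsFinLocFree ((Scheme.Modules.pushforward (KRR.pr n Y)).obj F) := by
  intro y
  obtain ⟨V, hV, hyV, -⟩ := exists_isAffineOpen_mem_and_subset (x := y) (U := ⊤) trivial
  haveI : IsNoetherianRing Γ(Y, V) := IsLocallyNoetherian.component_noetherian ⟨V, hV⟩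
  haveI := Groth.Agent.S9705.isProper_toBase n Y
  haveI hFq : F.IsQuasicoherent := Groth.Agent.Lib.R2H2.PullLF.isQuasicoherent_of_isFinLocFree F hF
  haveI hMq : ((Scheme.Modules.pushforward (KRR.pr n Y)).obj F).IsQuasicoherent :=
    Groth.Agent.Lib.Helper23.QCohLocal.isQuasicoherent_pushforward (KRR.pr n Y) F
  obtain ⟨hflat, hfin⟩ := flat_and_finite n F hV hF hreg
  let M := (Scheme.Modules.pushforward (KRR.pr n Y)).obj F
  haveI : Module.Flat Γ(Y, V) ((ΓUF hV).obj M) :=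
    Module.Flat.of_linearEquiv (ΓUEquiv hV M).symm
  haveI : Module.Finite Γ(Y, V) ((ΓUF hV).obj M) := Module.Finite.equiv (ΓUEquiv hV M)
  haveI : Module.FinitePresentation Γ(Y, V) ((ΓUF hV).obj M) :=
    Module.finitePresentation_of_finite _ _
  obtain ⟨D, m, hyD, -, hiso⟩ := exists_restrict_iso_freeMod M hV y hyV
  exact ⟨D, m, hyD, hiso⟩

end Main

end Groth.Agent.Lib.R2H2.RegPush
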