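import Groth.Agent.Lib.R2H2KoszulBot
import Groth.Agent.Lib.R2H2PnReg
import Groth.Agent.Lib.R2H2PnPullVan
import Groth.Agent.Lib.R2H2FlatPnOver
set_option backward.isDefEq.respectTransparency.types false

/-!
# Cohomology of `π^* 𝒩 ⊗ O(d)` on projective space for negative twists (helper2, round 2; S11170)

* `vanish_bot` : `H^q(F(a)) = 0` on `P^n_R` if `H^{q-j}(F(a+1+j)) = 0` for all `j ≤ q`
  (dimension shifting along the Koszul complex, from the left end);
* `subsingleton_HH_Ψ_neg` : `H^q(P^n_R, π^* 𝒩 ⊗ O(d)) = 0` for `q < n`, `d < 0`, `𝒩` quasi-coherent;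
* `subsingleton_HH_sigma` : a coproduct of quasi-coherent modules with vanishing `H^q` has vanishing
  `H^q` (finite cover with affine intersections);
* `main` : `R^i f_* (∐_j f^* G_j ⊗ O(-m_j)) = 0` for `i ≠ n`, `m_j > 0` on `P^n_Y` (S11170).
-/

set_option autoImplicit false
set_option linter.unusedSectionVars false
set_option linter.style.haveILetI false
universe u

namespace Groth.Agent.Lib.R2H2.PnNegVan

open CategoryTheory CategoryTheory.Limits AlgebraicGeometry TopologicalSpace Opposite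
open Groth.Agent.Lib.R2H2.KoszulAbs Groth.Agent.Lib.R2H2.KoszulShift Groth.Agent.Lib.R2H2.KoszulBot
  Groth.Agent.Lib.R2H2.PnDual Groth.Agent.Lib.R2H2.PnReg Groth.Agent.Lib.R2H2.PnPullVan
  Groth.Agent.Lib.R2H2.HHLin Groth.Agent.Lib.R2H2.PnSerre Groth.Agent.Lib.R2H2.CoprodCoh
  Groth.Agent.Lib.R2H2.PnCoh Groth.Agent.Lib.R2H2.ProjSec Groth.Agent.Lib.R2H2.KoszulPoly

section Pn

variable (n : ℕ) (R : Type u) [CommRing R]

local notation "PX" => CohB1.ProjSpace n R
local notation "SR" => Spec (CommRingCat.of R)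
local notation "πR" => CohB1.ProjSpace.toSpec n R

/-- vanishing at the beginning of the Koszul complex, `GrTilde` form -/
theorem vanish_bot_tilde (F : (PX).Modules) (a : ℤ) (q : ℕ)
    (h : ∀ j : ℕ, j ≤ q →
      Subsingleton (Coh.HH PX (CohB1.tensorMod F (Otw R n (a + ((1 + j : ℕ) : ℤ)))) (q - j))) :
    Subsingleton (Coh.HH PX (CohB1.tensorMod F (Otw R n (a + ((0 : ℕ) : ℤ)))) q) :=
  subsingleton_HH_G_bot (KD n R F a) (KD_exact n R F a) (KD_mono n R F a) q h

/-- vanishing at the beginning of the Koszul complex -/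
theorem vanish_bot (F : (PX).Modules) (a : ℤ) (q : ℕ)
    (h : ∀ j : ℕ, j ≤ q →
      Subsingleton (Coh.HH PX (CohB1.tensorMod F (Twist.twistProjSpace n R (a + ((1 + j : ℕ) : ℤ))))
        (q - j))) :
    Subsingleton (Coh.HH PX (CohB1.tensorMod F (Twist.twistProjSpace n R a)) q) := by
  have key : ∀ T : ℤ → (PX).Modules, T = (fun d => Otw R n d) →
      (∀ j : ℕ, j ≤ q →
        Subsingleton (Coh.HH PX (CohB1.tensorMod F (T (a + ((1 + j : ℕ) : ℤ)))) (q - j))) →
      Subsingleton (Coh.HH PX (CohB1.tensorMod F (T (a + ((0 : ℕ) : ℤ)))) q) := by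
    intro T hT
    subst hT
    exact vanish_bot_tilde n R F a q
  have h1 := key (fun d => Twist.twistProjSpace n R d) (funext fun d => twist_eq R n d) h
  have e : a + ((0 : ℕ) : ℤ) = a := by simp
  rw [e] at h1
  exact h1

theorem subsingleton_HH_Ψ_neg_aux (k : ℕ) : ∀ (d : ℤ), d < 0 → -d ≤ k → ∀ (q : ℕ), q < n →
    ∀ (N : (SR).Modules), N.IsQuasicoherent →
      Subsingleton (Coh.HH PX ((Ψ n R d).obj N) q) := by
  induction k with
  | zero =>
    intro d hd hk
    omega
  | succ k ih =>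
    intro d hd hk q hq N hN
    haveI := hN
    by_cases hdn : -(n : ℤ) ≤ d
    · rcases Nat.eq_zero_or_pos q with h0 | h0
      · subst h0
        exact subsingleton_HH_Ψ_zero n R d hdn hd N
      · exact subsingleton_HH_Ψ n R d hdn q h0 N
    · have hdn' : d ≤ -(n : ℤ) - 1 := by omega
      rw [Ψ_obj]
      apply vanish_bot n R _ d q
      intro j hj
      have hd' : d + ((1 + j : ℕ) : ℤ) < 0 := by
        push_cast
        omega
      have hk' : -(d + ((1 + j : ℕ) : ℤ)) ≤ k := by
        push_cast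
        push_cast at hk
        omega
      exact ih (d + ((1 + j : ℕ) : ℤ)) hd' hk' (q - j) (by omega) N hN

/-- **`H^q(P^n_R, π^* 𝒩 ⊗ O(d)) = 0` for `q < n` and `d < 0`** -/
theorem subsingleton_HH_Ψ_neg (d : ℤ) (hd : d < 0) (q : ℕ) (hq : q < n)
    (N : (SR).Modules) [hN : N.IsQuasicoherent] :
    Subsingleton (Coh.HH PX ((Ψ n R d).obj N) q) :=
  subsingleton_HH_Ψ_neg_aux n R (-d).toNat d hd (by omega) q hq N hN

end Pn

section Sigma

variable {X : Scheme.{u}} {J : Type u} (E : J → X.Modules)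

/-- a coproduct of quasi-coherent modules with vanishing `H^q` has vanishing `H^q` -/
theorem subsingleton_HH_sigma {ι : Type u} [Finite ι] (U : ι → X.Opens) (hcov : ⨆ i, U i = ⊤)
    (hU : ∀ s : Finset ι, s.Nonempty → IsAffineOpen (⨅ i ∈ s, U i))
    (hE : ∀ j, (E j).IsQuasicoherent) (q : ℕ) (h : ∀ j, Subsingleton (Coh.HH X (E j) q)) :
    Subsingleton (Coh.HH X (∐ E) q) := by
  classical
  have key : ∀ x : Coh.HH X (∐ E) q, x = 0 := fun x => by
    obtain ⟨S, hS⟩ := exists_sum_HH E U hcov hU hE q x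
    rw [hS]
    refine Finset.sum_eq_zero (fun j _ => ?_)
    haveI := h j
    rw [Subsingleton.elim (HmapL (Sigma.π E j) q x) 0, map_zero]
  exact ⟨fun a b => (key a).trans (key b).symm⟩

end Sigma

section Main

open Groth.Agent.Lib.R2H2.ProjOver

variable (n : ℕ) (Y : Scheme.{u})

/-- **S11170** -/
theorem main {ι : Type u} (G : ι → Y.Modules) (hG : ∀ j, (G j).IsQuasicoherent) (m : ι → ℕ)
    (hm : ∀ j, 0 < m j) (i : ℕ) (hi : i ≠ n) :
    IsZero ((Coh.RpushAb (CohB1.ProjSpaceOver.toBase n Y) i).obj (Coh.toAb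
      (∐ fun j => CohB1.tensorMod ((Scheme.Modules.pullback (CohB1.ProjSpaceOver.toBase n Y)).obj (G j))
        (Twist.twistOver n Y (-((m j : ℕ) : ℤ)))))) := by
  classical
  let M : ι → (CohB1.ProjSpaceOver n Y).Modules := fun j =>
    CohB1.tensorMod ((Scheme.Modules.pullback (CohB1.ProjSpaceOver.toBase n Y)).obj (G j))
      (Twist.twistOver n Y (-((m j : ℕ) : ℤ)))
  have hM : ∀ j, (M j).IsQuasicoherent := fun j => by
    haveI := hG j
    haveI := isQuasicoherent_twistOver n (Y := Y) (-((m j : ℕ) : ℤ))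
    haveI : ((Scheme.Modules.pullback (CohB1.ProjSpaceOver.toBase n Y)).obj (G j)).IsQuasicoherent :=
      Groth.Agent.Lib.Helper2.PullbackSec.isQuasicoherent_pullback _ _
    exact Groth.Agent.Lib.Helper23.TensorQCoh.isQuasicoherent_tensorMod _ _
  haveI hMs : (∐ M).IsQuasicoherent := isQuasicoherent_sigma M hM
  change IsZero ((Coh.RpushAb (CohB1.ProjSpaceOver.toBase n Y) i).obj (Coh.toAb (∐ M)))
  rcases lt_or_gt_of_ne hi with hlt | hgt
  · refine Groth.Agent.Lib.R2H2.RpushBasis.isZero_RpushAb_of_basis _ _ i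
      {V : Y.Opens | IsAffineOpen V} Y.isBasis_affineOpens (fun V hV => ?_)
    have hV' : IsAffineOpen V := hV
    have h : Subsingleton (Coh.HHon (CohB1.ProjSpaceOver n Y) (∐ M)
        (CohB1.ProjSpaceOver.toBase n Y ⁻¹ᵁ hV'.fromSpec.opensRange) i) := by
      rw [← opensRange_a n Γ(Y, V) hV'.fromSpec, subsingleton_HHon_opensRange_iff]
      let aV := a n Γ(Y, V) hV'.fromSpec
      let E : ι → (CohB1.ProjSpace n Γ(Y, V)).Modules := fun j =>
        (Ψ n Γ(Y, V) (-((m j : ℕ) : ℤ))).obj ((Scheme.Modules.pullback hV'.fromSpec).obj (G j))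
      have hGq : ∀ j, ((Scheme.Modules.pullback hV'.fromSpec).obj (G j)).IsQuasicoherent :=
        fun j => by
          haveI := hG j
          exact Groth.Agent.Lib.Helper2.PullbackSec.isQuasicoherent_pullback _ _
      have hEq : ∀ j, (E j).IsQuasicoherent := fun j => by
        haveI := hGq j
        exact isQuasicoherent_Ψ n Γ(Y, V) _ _
      have hE0 : ∀ j, Subsingleton (Coh.HH (CohB1.ProjSpace n Γ(Y, V)) (E j) i) := fun j => by
        haveI := hGq j
        exact subsingleton_HH_Ψ_neg n Γ(Y, V) (-((m j : ℕ) : ℤ))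
          (by have := hm j; omega) i hlt _
      have h1 : Subsingleton (Coh.HH (CohB1.ProjSpace n Γ(Y, V)) (∐ E) i) :=
        subsingleton_HH_sigma E (Wp (CohB1.polyGrading n Γ(Y, V)) (vars Γ(Y, V) n))
          (iSup_Wp_vars Γ(Y, V) n)
          (isAffineOpen_biInf_Wp (CohB1.polyGrading n Γ(Y, V)) (vars Γ(Y, V) n)
            (hfs_vars Γ(Y, V) n)) hEq i hE0
      have hiso : ∀ j, Nonempty ((Scheme.Modules.pullback aV).obj (M j) ≅ E j) := fun j => by
        obtain ⟨e1⟩ := Groth.Agent.Lib.R2H2.FlatPnOver.nonempty_pullback_twist_iso n Γ(Y, V)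
          hV'.fromSpec ((Scheme.Modules.pullback (CohB1.ProjSpaceOver.toBase n Y)).obj (G j))
          (-((m j : ℕ) : ℤ))
        let e2 : (Scheme.Modules.pullback aV).obj
            ((Scheme.Modules.pullback (CohB1.ProjSpaceOver.toBase n Y)).obj (G j)) ≅
            (Scheme.Modules.pullback (CohB1.ProjSpace.toSpec n Γ(Y, V))).obj
              ((Scheme.Modules.pullback hV'.fromSpec).obj (G j)) :=
          (Scheme.Modules.pullbackComp aV (CohB1.ProjSpaceOver.toBase n Y)).app (G j) ≪≫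
            (Scheme.Modules.pullbackCongr (a_toBase n Γ(Y, V) hV'.fromSpec)).app (G j) ≪≫
            ((Scheme.Modules.pullbackComp (CohB1.ProjSpace.toSpec n Γ(Y, V))
              hV'.fromSpec).app (G j)).symm
        exact ⟨e1 ≪≫ PicGrp.tensorModIso e2 (Iso.refl _)⟩
      let e : (Scheme.Modules.pullback aV).obj (∐ M) ≅ ∐ E :=
        PreservesCoproduct.iso (Scheme.Modules.pullback aV) M ≪≫
          Sigma.mapIso (fun j => (hiso j).some)
      exact subsingleton_HH_of_iso e.symm i h1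
    rw [hV'.opensRange_fromSpec] at h
    exact h
  · exact isZero_RpushAb_of_gt n (∐ M) i hgt

end Main

end Groth.Agent.Lib.R2H2.PnNegVan
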