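import Mathlib
import Groth.Prelude
import Groth.Agent.Lib.R2H2PnNegVan
import Groth.Agent.Lib.H6xFtCohA
import Groth.Agent.Lib.H6xResPropA
import Groth.Agent.Lib.R2H1CurveVanish
import Groth.Agent.Lib.Helper23QCohAbelian
import Groth.Agent.Lib.Helper23QCohExt

/-!
# Globally generated modules on one-dimensional schemes with `H¹(O) = 0` (helper8)

* `subsingleton_HH_one_of_gg`: on a Noetherian separated scheme of dimension at most one with `H¹(X, O_X) = 0`,
  every globally generated quasi-coherent module has vanishing `H¹`.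
-/

set_option autoImplicit false
universe u
open CategoryTheory CategoryTheory.Limits AlgebraicGeometry TopologicalSpace Opposite Abelian

namespace Groth.Agent.Lib.Helper8GGVanish

/-- on a Noetherian separated scheme of dimension at most one with `H¹(X, O_X) = 0`, a globally generated
quasi-coherent module has vanishing `H¹` -/
theorem subsingleton_HH_one_of_gg (X : Scheme.{u}) [IsNoetherian X] [X.IsSeparated]
    (hdim : topologicalKrullDim X ≤ 1)
    (h1 : Subsingleton (Coh.HH X (Coh.structureModule X) 1))
    (E : X.Modules) [hE : E.IsQuasicoherent] (hgg : Curv2.IsGloballyGenerated E) :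
    Subsingleton (Coh.HH X E 1) := by
  obtain ⟨ι, p, hp⟩ := hgg
  obtain ⟨κ, _, U, hcov, hU⟩ := Groth.Agent.Lib.H6xFtCoh.exists_cover X
  haveI hO : (Coh.structureModule X).IsQuasicoherent := inferInstance
  have hfree : Subsingleton (Coh.HH X (∐ fun _ : ι => Coh.structureModule X) 1) :=
    Groth.Agent.Lib.R2H2.PnNegVan.subsingleton_HH_sigma (fun _ : ι => Coh.structureModule X) U hcov hU
      (fun _ => hO) 1 (fun _ => h1)
  -- the kernel sequence
  let K := kernel p
  haveI hfq : (SheafOfModules.free ι : X.Modules).IsQuasicoherent :=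
    Groth.Agent.Lib.Helper23.QCohLocal.isQuasicoherent_colimit
      (Discrete.functor fun _ : ι => Coh.structureModule X) (fun _ => hO)
  haveI hK : K.IsQuasicoherent := Groth.Agent.Lib.Helper23.QCohLocal.isQuasicoherent_kernel p
  have hK2 : Subsingleton (Coh.HH X K 2) :=
    Groth.Agent.Lib.R2H1.CurveVanish.subsingleton_HH_of_dim_le_one X (terminal.from X) hdim K hK 2 le_rfl
  let S : ShortComplex X.Modules := ShortComplex.mk (kernel.ι p) p (kernel.condition p)
  haveI : Mono S.f := by
    change Mono (kernel.ι p)
    infer_instance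
  haveI : Epi S.g := hp
  have hS : S.ShortExact :=
    { exact := ShortComplex.exact_of_f_is_kernel _ (kernelIsKernel p) }
  have hS' := Groth.Agent.Lib.Helper23.QCohLocal.shortExact_toAbF S hS
  refine ⟨fun a b => ?_⟩
  have key : ∀ c : Coh.HH X E 1, c = 0 := by
    intro c
    have h0 : c.comp hS'.extClass (rfl : 1 + 1 = 2) = 0 := @Subsingleton.elim _ hK2 _ _
    obtain ⟨x₂, hx₂⟩ := Ext.covariant_sequence_exact₃ _ hS' c rfl h0
    have : x₂ = 0 := @Subsingleton.elim _ hfree _ _
    rw [← hx₂, this, Ext.zero_comp]
    rfl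
  rw [key a, key b]

end Groth.Agent.Lib.Helper8GGVanish
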