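import Mathlib
import Groth.Agent.Lib.Helper8EtLocZero
import Groth.Agent.Lib.Helper8EtZarAcyc
import Groth.Agent.Lib.Helper18HenselMap
import Groth.Agent.Lib.Helper3ShQuot

/-!
# Helper8: Gabber's vanishing lemma on affine schemes with strictly henselian local rings
(Ext-formulation on the small étale site)
-/

set_option autoImplicit false
set_option linter.style.haveILetI false
universe u
open CategoryTheory CategoryTheory.Limits AlgebraicGeometry Opposite Abelian

namespace Groth.Agent.Lib.Helper8Gabber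

open Groth.Agent.Lib.Helper9.EtMV Groth.Agent.Lib.Helper16.SmallEtale
  Groth.Agent.Lib.Helper8EtMVRel Groth.Agent.Lib.Helper8EtZarSH Groth.Agent.Lib.Helper8EtLocZero

section Empty

variable {X : Scheme.{u}}

/-- `ℤ[h_P]` is zero when `P` is empty. -/
theorem isZero_Zh_of_isEmpty (P : X.Etale) [IsEmpty P.left] : IsZero (Zh P) := by
  rw [IsZero.iff_id_eq_zero]
  apply (zhEquiv P (Zh P)).injective
  have hbot : (⊥ : Sieve P) ∈ X.smallEtaleTopology P := by
    rw [mem_smallEtale_iff]
    intro x
    exact isEmptyElim x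
  have ht := (Sheaf.isTerminalOfBotCover (Zh P) P hbot).isZero
  haveI := AddCommGrpCat.subsingleton_of_isZero ht
  exact Subsingleton.elim _ _

/-- Ext out of `ℤ[h_P]` vanishes when `P` is empty. -/
theorem ext_eq_zero_of_isEmpty (P : X.Etale) [IsEmpty P.left] (F : EtCoh.Ab X) {n : ℕ}
    (ξ : Ext.{u + 1} (Zh P) F n) : ξ = 0 := by
  have h0 : 𝟙 (Zh P) = 0 := (isZero_Zh_of_isEmpty P).eq_of_src _ _
  rw [← Ext.mk₀_id_comp ξ, h0, Ext.mk₀_zero, Ext.zero_comp]

/-- Ext out of `ℤ[U]` vanishes for the empty open. -/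
theorem ext_eq_zero_of_eq_bot (U : X.Opens) (hU : U = ⊥) (F : EtCoh.Ab X) {n : ℕ}
    (ξ : Ext.{u + 1} (Zh (zo X U)) F n) : ξ = 0 := by
  haveI : IsEmpty (zo X U).left := by
    subst hU
    exact ⟨fun x => by
      have : (⊥ : X.Opens).ι x ∈ Set.range (⊥ : X.Opens).ι := ⟨x, rfl⟩
      rw [Scheme.Opens.range_ι] at this
      exact this⟩
  exact ext_eq_zero_of_isEmpty _ F ξ

end Empty

section Main

lemma le_mul_left (X : Scheme.{u}) (a b : Γ(X, ⊤)) : X.basicOpen (a * b) ≤ X.basicOpen a := by
  rw [Scheme.basicOpen_mul]; exact inf_le_left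

lemma le_mul_right (X : Scheme.{u}) (a b : Γ(X, ⊤)) : X.basicOpen (a * b) ≤ X.basicOpen b := by
  rw [Scheme.basicOpen_mul]; exact inf_le_right

variable (R : Type u) [CommRing R]

/-- the affine scheme. -/
noncomputable abbrev SR : Scheme.{u} := Spec (CommRingCat.of R)

theorem exists_point (P : Ideal Γ(SR R, ⊤)) [P.IsPrime] :
    ∃ x : SR R, ∀ f : Γ(SR R, ⊤), x ∈ (SR R).basicOpen f ↔ f ∉ P := by
  refine ⟨(⟨P.comap (Scheme.ΓSpecIso (CommRingCat.of R)).inv.hom, inferInstance⟩ :
    PrimeSpectrum R), fun f => ?_⟩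
  rw [basicOpen_eq_of_affine']
  change (Scheme.ΓSpecIso (CommRingCat.of R)).hom f ∉
    P.comap (Scheme.ΓSpecIso (CommRingCat.of R)).inv.hom ↔ _
  rw [Ideal.mem_comap]
  have : (Scheme.ΓSpecIso (CommRingCat.of R)).inv.hom
      ((Scheme.ΓSpecIso (CommRingCat.of R)).hom f) = f :=
    Iso.hom_inv_id_apply (Scheme.ΓSpecIso (CommRingCat.of R)) f
  rw [this]

variable {R}

/-- the inductive step of Gabber's argument. -/
theorem step
    (hst : ∀ x : SR R, EtCoh.IsStrictlyHenselianLocalRing ((SR R).presheaf.stalk x))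
    (F : EtCoh.Ab (SR R))
    (hker : ∀ (a b : Γ(SR R, ⊤))
      (ζ : Ext.{u + 1} (Zh (zo (SR R) ((SR R).basicOpen (a + b)))) F 1),
      res (SR R) F (le_mul_right (SR R) a (a + b)) ζ = 0 →
      res (SR R) F (le_mul_right (SR R) b (a + b)) ζ = 0 → ζ = 0)
    (i : ℕ)
    (IH : ∀ (h : Γ(SR R, ⊤)) (q : ℕ), 1 ≤ q → q ≤ i →
      ∀ ξ : Ext.{u + 1} (Zh (zo (SR R) ((SR R).basicOpen h))) F q, ξ = 0)
    (h : Γ(SR R, ⊤)) (ξ : Ext.{u + 1} (Zh (zo (SR R) ((SR R).basicOpen h))) F (i + 1)) :
    ξ = 0 := by
  have hadd : ∀ f g : Γ(SR R, ⊤), res (SR R) F (le_mul_left (SR R) h f) ξ = 0 →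
      res (SR R) F (le_mul_left (SR R) h g) ξ = 0 →
      res (SR R) F (le_mul_left (SR R) h (f + g)) ξ = 0 := by
    intro f g hf hg
    have e : h * (f + g) = h * f + h * g := mul_add h f g
    have hab : (SR R).basicOpen (h * f + h * g) ≤ (SR R).basicOpen h := by
      rw [← e]; exact le_mul_left (SR R) h (f + g)
    have h1 : res (SR R) F (le_mul_right (SR R) (h * f) (h * f + h * g))
        (res (SR R) F hab ξ) = 0 := by
      rw [res_res, ← res_res (SR R) F (le_mul_left (SR R) (h * f) (h * f + h * g))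
        (le_mul_left (SR R) h f) ξ, hf, res_zero]
    have h2 : res (SR R) F (le_mul_right (SR R) (h * g) (h * f + h * g))
        (res (SR R) F hab ξ) = 0 := by
      rw [res_res, ← res_res (SR R) F (le_mul_left (SR R) (h * g) (h * f + h * g))
        (le_mul_left (SR R) h g) ξ, hg, res_zero]
    have hζ : res (SR R) F hab ξ = 0 := by
      cases i with
      | zero => exact hker (h * f) (h * g) _ h1 h2
      | succ i' =>
        have hsup : (SR R).basicOpen (h * f * (h * f + h * g)) ⊔
            (SR R).basicOpen (h * g * (h * f + h * g)) ≤ (SR R).basicOpen (h * f + h * g) :=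
          sup_le (le_mul_right _ _ _) (le_mul_right _ _ _)
        have hsup' : (SR R).basicOpen (h * f + h * g) ≤
            (SR R).basicOpen (h * f * (h * f + h * g)) ⊔
              (SR R).basicOpen (h * g * (h * f + h * g)) := by
          intro x hx
          rcases (SR R).basicOpen_add_le (h * f) (h * g) hx with hxa | hxb
          · left
            rw [Scheme.basicOpen_mul]
            exact ⟨hxa, hx⟩
          · right
            rw [Scheme.basicOpen_mul]
            exact ⟨hxb, hx⟩
        apply eq_zero_of_res_eq_zero (SR R) F hsup hsup'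
        have h12 : Subsingleton (Ext.{u + 1} (Zh (zo (SR R)
            ((SR R).basicOpen (h * f * (h * f + h * g)) ⊓
              (SR R).basicOpen (h * g * (h * f + h * g))))) F (i' + 1)) := by
          apply subsingleton_of_forall_eq 0
          intro ζ
          exact eq_zero_of_res_eq_zero (SR R) F
            ((SR R).basicOpen_mul (h * f * (h * f + h * g)) (h * g * (h * f + h * g))).le
            ((SR R).basicOpen_mul (h * f * (h * f + h * g)) (h * g * (h * f + h * g))).ge ζ
            (IH _ (i' + 1) (by omega) le_rfl _)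
        refine ext_eq_zero_of_restrict (SR R) _ _ F (i' + 1) h12 _ ?_ ?_
        · have := res_res (SR R) F (le_sup_left :
            (SR R).basicOpen (h * f * (h * f + h * g)) ≤ _ ⊔
              (SR R).basicOpen (h * g * (h * f + h * g))) hsup (res (SR R) F hab ξ)
          rw [h1] at this
          exact this
        · have := res_res (SR R) F (le_sup_right :
            (SR R).basicOpen (h * g * (h * f + h * g)) ≤
              (SR R).basicOpen (h * f * (h * f + h * g)) ⊔ _) hsup (res (SR R) F hab ξ)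
          rw [h2] at this
          exact this
    have h3 := res_res (SR R) F
      (le_of_eq (by rw [e]) : (SR R).basicOpen (h * (f + g)) ≤ (SR R).basicOpen (h * f + h * g))
      hab ξ
    rw [hζ, res_zero] at h3
    exact h3.symm
  let I : Ideal Γ(SR R, ⊤) :=
    { carrier := {f | res (SR R) F (le_mul_left (SR R) h f) ξ = 0}
      zero_mem' := ext_eq_zero_of_eq_bot _ (by rw [mul_zero, Scheme.basicOpen_zero]) F _
      add_mem' := fun {f g} hf hg => hadd f g hf hg
      smul_mem' := fun c f hf => by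
        have hle : (SR R).basicOpen (h * (c * f)) ≤ (SR R).basicOpen (h * f) := by
          rw [mul_left_comm]; exact le_mul_right (SR R) c (h * f)
        change res (SR R) F (le_mul_left (SR R) h (c * f)) ξ = 0
        have hf' : res (SR R) F (le_mul_left (SR R) h f) ξ = 0 := hf
        rw [← res_res (SR R) F hle (le_mul_left (SR R) h f) ξ, hf', res_zero] }
  have hrad : h ∈ I.radical := by
    rw [Ideal.radical_eq_sInf, Ideal.mem_sInf]
    rintro P ⟨hIP, hP⟩
    by_contra hh
    haveI := hP
    obtain ⟨x, hx⟩ := exists_point R P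
    have hxh : x ∈ (SR R).basicOpen h := (hx h).2 hh
    obtain ⟨N, hN, hxN, hz⟩ :=
      exists_open_restrict_eq_zero i F ((SR R).basicOpen h) ξ x hxh (hst x)
    obtain ⟨_, ⟨f, rfl⟩, hxf, hfN⟩ :=
      TopologicalSpace.Opens.isBasis_iff_nbhd.1 (isBasis_basicOpen (SR R)) hxN
    have hfI : f ∈ I := by
      change res (SR R) F (le_mul_left (SR R) h f) ξ = 0
      have hle : (SR R).basicOpen (h * f) ≤ N := (le_mul_right (SR R) h f).trans hfN
      rw [← res_res (SR R) F hle hN ξ, hz, res_zero]
    exact (hx f).1 hxf (hIP hfI)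
  obtain ⟨n, hn⟩ := hrad
  have hn' : res (SR R) F (le_mul_left (SR R) h (h ^ n)) ξ = 0 := hn
  refine eq_zero_of_res_eq_zero (SR R) F (le_mul_left (SR R) h (h ^ n)) ?_ ξ hn'
  rw [← pow_succ']
  exact ((SR R).basicOpen_pow h (Nat.succ_pos n)).ge

/-- vanishing on all basic opens in all positive degrees. -/
theorem ext_basicOpen_eq_zero
    (hst : ∀ x : SR R, EtCoh.IsStrictlyHenselianLocalRing ((SR R).presheaf.stalk x))
    (F : EtCoh.Ab (SR R))
    (hker : ∀ (a b : Γ(SR R, ⊤))
      (ζ : Ext.{u + 1} (Zh (zo (SR R) ((SR R).basicOpen (a + b)))) F 1),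
      res (SR R) F (le_mul_right (SR R) a (a + b)) ζ = 0 →
      res (SR R) F (le_mul_right (SR R) b (a + b)) ζ = 0 → ζ = 0) :
    ∀ (i : ℕ) (h : Γ(SR R, ⊤)) (q : ℕ), 1 ≤ q → q ≤ i →
      ∀ ξ : Ext.{u + 1} (Zh (zo (SR R) ((SR R).basicOpen h))) F q, ξ = 0 := by
  intro i
  induction i with
  | zero => intro h q h1 h0; omega
  | succ i ih =>
    intro h q h1 hq ξ
    rcases Nat.lt_or_ge q (i + 1) with hlt | hge
    · exact ih h q h1 (by omega) ξ
    · obtain rfl : q = i + 1 := by omega
      exact step hst F hker i ih h ξ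

end Main

section Transport

open IsLocalRing

theorem henselianLocalRing_of_ringEquiv {A B : Type*} [CommRing A] [CommRing B] (e : A ≃+* B)
    [HenselianLocalRing A] : HenselianLocalRing B := by
  haveI : IsLocalRing B := e.isLocalRing
  refine Groth.Agent.Lib.Helper18HenselMap.henselianLocal_of_map (e : A →+* B) (maximalIdeal A)
    le_rfl ?_ ?_
  · intro w hw
    refine ⟨e.symm w, ?_, e.apply_symm_apply w⟩
    rw [mem_maximalIdeal, mem_nonunits_iff] at hw ⊢
    intro hu
    exact hw (by simpa using hu.map e)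
  · intro v hv
    rw [mem_maximalIdeal, mem_nonunits_iff] at hv ⊢
    intro hu
    exact hv (by simpa using hu.map e.symm)

theorem isStrictlyHenselian_of_ringEquiv {A B : Type u} [CommRing A] [CommRing B] (e : A ≃+* B)
    (h : EtCoh.IsStrictlyHenselianLocalRing A) : EtCoh.IsStrictlyHenselianLocalRing B := by
  obtain ⟨hH, hS⟩ := h
  haveI := hH
  haveI := hS
  haveI hB : HenselianLocalRing B := henselianLocalRing_of_ringEquiv e
  exact ⟨hB, Groth.Agent.Lib.Helper3.ShQuot.isSepClosed_of_ringEquiv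
    (IsLocalRing.ResidueField.mapEquiv e)⟩

theorem stalk_isStrictlyHenselian (R : Type u) [CommRing R]
    (hR : ∀ p : PrimeSpectrum R,
      EtCoh.IsStrictlyHenselianLocalRing (Localization.AtPrime p.asIdeal))
    (x : SR R) : EtCoh.IsStrictlyHenselianLocalRing ((SR R).presheaf.stalk x) :=
  isStrictlyHenselian_of_ringEquiv
    (StructureSheaf.stalkIso R (x : PrimeSpectrum R)).toRingEquiv (hR x)

end Transport

end Groth.Agent.Lib.Helper8Gabber
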