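import Mathlib
import Groth.Agent.Lib.Helper8Gabber

/-!
# Helper8: Gabber's vanishing lemma, in the form of S0661
-/

set_option autoImplicit false
set_option linter.style.haveILetI false
universe u
open CategoryTheory CategoryTheory.Limits AlgebraicGeometry Opposite Abelian

namespace Groth.Agent.Lib.Helper8GabberMain

open Groth.Agent.Lib.Helper9.EtMV Groth.Agent.Lib.Helper9.EtPull
  Groth.Agent.Lib.Helper8EtMVRel Groth.Agent.Lib.Helper8EtZarSH Groth.Agent.Lib.Helper8EtLocZero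
  Groth.Agent.Lib.Helper8Gabber Groth.Agent.Lib.Helper8EtZarAcyc

variable {X : Scheme.{u}}

/-- the two models of the object attached to an open are isomorphic. -/
noncomputable def ooIso (U : X.Opens) : obj U.ι ≅ zo X U :=
  MorphismProperty.Over.isoMk (Iso.refl _) (by
    simp only [Iso.refl_hom]
    exact (Category.id_comp _).trans (Category.id_comp _).symm)

lemma ZhIso_hom {P Q : X.Etale} (e : P ≅ Q) : (ZhIso e).hom = ZhMap e.hom := rfl

/-- `Ext(ℤ[U], F) → H(U, F|_U)`, injective. -/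
noncomputable def toH (F : EtCoh.Ab X) (U : X.Opens) (n : ℕ)
    [PreservesFiniteLimits (EtCoh.pull U.ι)] [EtShriek.JCont U.ι]
    (ζ : Ext.{u + 1} (Zh (zo X U)) F n) : EtCoh.H (U : Scheme.{u}) ((EtCoh.pull U.ι).obj F) n :=
  Phi U.ι F n ((Ext.mk₀ (ZhIso (ooIso U)).hom).comp ζ (zero_add n))

lemma toH_injective (F : EtCoh.Ab X) (U : X.Opens) (n : ℕ)
    [PreservesFiniteLimits (EtCoh.pull U.ι)] [EtShriek.JCont U.ι] :
    Function.Injective (toH F U n) := by
  intro a b h
  exact ext_precomp_iso_injective (ZhIso (ooIso U)) n ((Phi U.ι F n).injective h)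

lemma toH_zero (F : EtCoh.Ab X) (U : X.Opens) (n : ℕ)
    [PreservesFiniteLimits (EtCoh.pull U.ι)] [EtShriek.JCont U.ι] :
    toH F U n 0 = 0 := by
  unfold toH
  rw [Ext.comp_zero, map_zero]

/-- compatibility of `toH` with restriction. -/
lemma HpullVia_toH (F : EtCoh.Ab X) {U' U : X.Opens} (h : U' ≤ U) (n : ℕ)
    [PreservesFiniteLimits (EtCoh.pull U.ι)] [EtShriek.JCont U.ι]
    [PreservesFiniteLimits (EtCoh.pull U'.ι)] [EtShriek.JCont U'.ι]
    [PreservesFiniteLimits (EtCoh.pull (X.homOfLE h))] [EtShriek.JCont (X.homOfLE h)]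
    (ζ : Ext.{u + 1} (Zh (zo X U)) F n) :
    EtCore.HpullVia (X.homOfLE h) U.ι U'.ι (X.homOfLE_ι h) F n (toH F U n ζ) =
      toH F U' n (res X F h ζ) := by
  unfold toH
  rw [HpullVia_eq]
  congr 1
  unfold res
  rw [← Ext.comp_assoc_of_second_deg_zero, ← Ext.comp_assoc_of_second_deg_zero,
    Ext.mk₀_comp_mk₀, Ext.mk₀_comp_mk₀, ZhIso_hom, ZhIso_hom, ← ZhMap_comp, ← ZhMap_comp]
  congr 3

/-- **Gabber's lemma (S0661)**. -/
theorem main (R : Type u) [CommRing R]
    (hR : ∀ p : PrimeSpectrum R, EtCoh.IsStrictlyHenselianLocalRing (Localization.AtPrime p.asIdeal))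
    (F : EtCoh.Ab (Spec (CommRingCat.of R)))
    (hker : ∀ (f g : Γ((Spec (CommRingCat.of R)), ⊤))
      [PreservesFiniteLimits (EtCoh.pull ((Spec (CommRingCat.of R)).homOfLE (((Spec (CommRingCat.of R)).basicOpen_mul f (f + g)).trans_le inf_le_right)))]
      [PreservesFiniteLimits (EtCoh.pull ((Spec (CommRingCat.of R)).homOfLE (((Spec (CommRingCat.of R)).basicOpen_mul g (f + g)).trans_le inf_le_right)))]
      (ξ : EtCoh.H ↑((Spec (CommRingCat.of R)).basicOpen (f + g)) ((EtCoh.pull ((Spec (CommRingCat.of R)).basicOpen (f + g)).ι).obj F) 1),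
      EtCore.HpullVia ((Spec (CommRingCat.of R)).homOfLE (((Spec (CommRingCat.of R)).basicOpen_mul f (f + g)).trans_le inf_le_right)) ((Spec (CommRingCat.of R)).basicOpen (f + g)).ι ((Spec (CommRingCat.of R)).basicOpen (f * (f + g))).ι ((Spec (CommRingCat.of R)).homOfLE_ι (((Spec (CommRingCat.of R)).basicOpen_mul f (f + g)).trans_le inf_le_right)) F 1 ξ = 0 →
      EtCore.HpullVia ((Spec (CommRingCat.of R)).homOfLE (((Spec (CommRingCat.of R)).basicOpen_mul g (f + g)).trans_le inf_le_right)) ((Spec (CommRingCat.of R)).basicOpen (f + g)).ι ((Spec (CommRingCat.of R)).basicOpen (g * (f + g))).ι ((Spec (CommRingCat.of R)).homOfLE_ι (((Spec (CommRingCat.of R)).basicOpen_mul g (f + g)).trans_le inf_le_right)) F 1 ξ = 0 →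
      ξ = 0)
    (q : ℕ) (hq : 1 ≤ q) : Subsingleton (EtCoh.H (Spec (CommRingCat.of R)) F q) := by
  have hJ : ∀ {T : Scheme.{u}} (j : T ⟶ SR R) [Etale j], EtShriek.JCont j :=
    fun j => Groth.Agent.Lib.Helper9.JContAll.jCont j
  have hJ' : ∀ {T T' : Scheme.{u}} (j : T ⟶ T') [Etale j], EtShriek.JCont j :=
    fun j => Groth.Agent.Lib.Helper9.JContAll.jCont j
  have hP : ∀ {T T' : Scheme.{u}} (j : T ⟶ T'), PreservesFiniteLimits (EtCoh.pull j) :=
    fun j => Groth.Agent.S0101.result j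
  have hker' : ∀ (a b : Γ(SR R, ⊤))
      (ζ : Ext.{u + 1} (Zh (zo (SR R) ((SR R).basicOpen (a + b)))) F 1),
      res (SR R) F (le_mul_right (SR R) a (a + b)) ζ = 0 →
      res (SR R) F (le_mul_right (SR R) b (a + b)) ζ = 0 → ζ = 0 := by
    intro a b ζ h1 h2
    haveI := hP ((SR R).basicOpen (a + b)).ι
    haveI := hP ((SR R).basicOpen (a * (a + b))).ι
    haveI := hP ((SR R).basicOpen (b * (a + b))).ι
    haveI := hJ' ((SR R).basicOpen (a + b)).ι
    haveI := hJ' ((SR R).basicOpen (a * (a + b))).ι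
    haveI := hJ' ((SR R).basicOpen (b * (a + b))).ι
    haveI := hP ((SR R).homOfLE (le_mul_right (SR R) a (a + b)))
    haveI := hP ((SR R).homOfLE (le_mul_right (SR R) b (a + b)))
    haveI := hJ' ((SR R).homOfLE (le_mul_right (SR R) a (a + b)))
    haveI := hJ' ((SR R).homOfLE (le_mul_right (SR R) b (a + b)))
    apply toH_injective F ((SR R).basicOpen (a + b)) 1
    rw [toH_zero]
    apply hker a b
    · have := HpullVia_toH F (le_mul_right (SR R) a (a + b)) 1 ζ
      rw [h1, toH_zero] at this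
      exact this
    · have := HpullVia_toH F (le_mul_right (SR R) b (a + b)) 1 ζ
      rw [h2, toH_zero] at this
      exact this
  have hvan := ext_basicOpen_eq_zero (stalk_isStrictlyHenselian R hR) F hker' q 1 q hq le_rfl
  -- the object attached to `D(1)` is terminal
  have h1top : (SR R).basicOpen (1 : Γ(SR R, ⊤)) = ⊤ := Scheme.basicOpen_of_isUnit _ isUnit_one
  have hterm : IsTerminal (zo (SR R) ((SR R).basicOpen (1 : Γ(SR R, ⊤)))) := by
    rw [h1top]
    exact IsTerminal.ofIso (EtCore.topIsTerminal (SR R))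
      (MorphismProperty.Over.isoMk (SR R).topIso.symm (SR R).toIso_inv_ι :
        EtCoh.top (SR R) ≅ (EtZar.zarToEt (SR R)).obj ⊤)
  haveI : IsIso (aug (zo (SR R) ((SR R).basicOpen (1 : Γ(SR R, ⊤))))) :=
    isIso_aug _ (isIso_of_isTerminal hterm (EtCore.topIsTerminal (SR R)) _)
  refine ⟨fun x y => ?_⟩
  apply ext_precomp_iso_injective
    (asIso (aug (zo (SR R) ((SR R).basicOpen (1 : Γ(SR R, ⊤)))))) q
  exact (hvan _).trans (hvan _).symm

end Groth.Agent.Lib.Helper8GabberMain
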