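import Groth.Agent.Lib.Helper8EtAcycComp

/-!
# Pullback on cohomology along a composite, additive form (helper8)
-/

set_option autoImplicit false
open CategoryTheory CategoryTheory.Limits AlgebraicGeometry Opposite CategoryTheory.Abelian
universe u

namespace Groth.Agent.Lib.Helper8HpullComp

open Groth.Agent.Lib.Helper8EtAcycComp Groth.Agent.Lib.R2H4.ExtFunct

/-- pullback along a composite vanishes iff the iterated pullback vanishes. -/
theorem Hpull_comp_eq_zero_iff {X' Y' Z' : Scheme.{u}} (a : X' ⟶ Y') (b : Y' ⟶ Z')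
    [PreservesFiniteLimits (EtCoh.pull a)] [PreservesFiniteLimits (EtCoh.pull b)]
    [PreservesFiniteLimits (EtCoh.pull (a ≫ b))] (F : EtCoh.Ab Z') (q : ℕ)
    (e : EtCoh.H Z' F q) :
    EtCore.Hpull (a ≫ b) F q e = 0 ↔
      EtCore.Hpull a ((EtCoh.pull b).obj F) q (EtCore.Hpull b F q e) = 0 := by
  let α := EtCore.pullComp a b
  let cab := EtCore.pullConst (a ≫ b) ℤ
  let ca := EtCore.pullConst a ℤ
  let cb := EtCore.pullConst b ℤ
  let θ : EtCoh.const X' ℤ ≅ EtCoh.const X' ℤ :=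
    cab.symm ≪≫ α.app (EtCoh.const Z' ℤ) ≪≫ (EtCoh.pull a).mapIso cb ≪≫ ca
  have key : EtCore.Hpull (a ≫ b) F q e =
      (Ext.mk₀ θ.hom).comp ((EtCore.Hpull a ((EtCoh.pull b).obj F) q
        (EtCore.Hpull b F q e)).comp (Ext.mk₀ (α.symm.app F).hom) (add_zero q)) (zero_add q) := by
    rw [Hpull_apply, Hpull_apply, Hpull_apply,
      mapExactFunctor_natIso α.symm e, mapExactFunctor_comp_functor,
      Ext.mapExactFunctor_comp, Ext.mapExactFunctor_mk₀]
    simp only [Ext.mk₀_comp_mk₀_assoc]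
    rw [Ext.comp_assoc_of_third_deg_zero, Ext.mk₀_comp_mk₀_assoc]
    congr 2
    simp only [θ, Iso.trans_hom, Iso.symm_hom, Iso.app_hom, Functor.mapIso_hom, Category.assoc,
      Iso.symm_inv]
    have h1 : ca.hom ≫ (EtCore.pullConst a ℤ).inv = 𝟙 _ := ca.hom_inv_id
    have h2 : (EtCoh.pull a).map cb.hom ≫ (EtCoh.pull a).map (EtCore.pullConst b ℤ).inv = 𝟙 _ := by
      exact ((EtCoh.pull a).mapIso cb).hom_inv_id
    rw [reassoc_of% h1, h2]
    erw [Category.comp_id]
  rw [key]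
  constructor
  · intro h
    have h1 := (bijective_precomp θ q).1
      (h.trans (Ext.comp_zero (Ext.mk₀ θ.hom) _ q q (zero_add q)).symm)
    have h2 := (bijective_postcomp (A := EtCoh.const X' ℤ) (α.symm.app F) q).1
      (h1.trans (Ext.zero_comp (EtCoh.const X' ℤ) q (Ext.mk₀ (α.symm.app F).hom) q
        (add_zero q)).symm)
    exact h2
  · intro h
    rw [h, Ext.zero_comp, Ext.comp_zero]

/-- variant for a morphism equal to a composite. -/
theorem Hpull_eq_zero_iff_of_eq {X' Y' Z' : Scheme.{u}} (m : X' ⟶ Z') (a : X' ⟶ Y') (b : Y' ⟶ Z')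
    (hm : m = a ≫ b)
    [PreservesFiniteLimits (EtCoh.pull a)] [PreservesFiniteLimits (EtCoh.pull b)]
    [PreservesFiniteLimits (EtCoh.pull m)] (F : EtCoh.Ab Z') (q : ℕ)
    (e : EtCoh.H Z' F q) :
    EtCore.Hpull m F q e = 0 ↔
      EtCore.Hpull a ((EtCoh.pull b).obj F) q (EtCore.Hpull b F q e) = 0 := by
  subst hm
  exact Hpull_comp_eq_zero_iff a b F q e

end Groth.Agent.Lib.Helper8HpullComp
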