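import Groth.Prelude
import Groth.Agent.Lib.Helper8TransferCoh
import Groth.Agent.Lib.Helper8HpullComp
import Groth.Agent.S0101

/-!
# Period and index have the same prime factors (helper8)
-/

set_option autoImplicit false
universe u
open CategoryTheory CategoryTheory.Limits AlgebraicGeometry Opposite

namespace Groth.Agent.Lib.Helper8GalCohSylow

open IntermediateField Module

theorem exists_sylow_tower (K L : Type u) [Field K] [Field L] [Algebra K L] [FiniteDimensional K L]
    [Algebra.IsSeparable K L] (p : ℕ) [Fact p.Prime] :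
    ∃ (M : Type u) (_ : Field M) (_ : Algebra K M) (_ : Algebra L M) (_ : IsScalarTower K L M)
      (_ : FiniteDimensional K M) (_ : IsGalois K M) (L' : IntermediateField K M),
      ¬ p ∣ finrank K L' ∧ ∃ a : ℕ, finrank L' M = p ^ a := by
  haveI : IsAlgClosure K (AlgebraicClosure L) := IsAlgClosure.ofAlgebraic K L (AlgebraicClosure L)
  haveI : Normal K (AlgebraicClosure L) := IsAlgClosure.normal K (AlgebraicClosure L)
  let M := normalClosure K L (AlgebraicClosure L)
  haveI : Algebra.IsSeparable K M := by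
    have h : ∀ f : L →ₐ[K] AlgebraicClosure L, Algebra.IsSeparable K f.fieldRange := by
      intro f
      exact AlgEquiv.Algebra.isSeparable (AlgEquiv.ofInjectiveField f)
    change Algebra.IsSeparable K (↥(⨆ f : L →ₐ[K] AlgebraicClosure L, f.fieldRange))
    infer_instance
  haveI : IsGalois K M := ⟨⟩
  obtain P : Sylow p (M ≃ₐ[K] M) := default
  refine ⟨M, inferInstance, inferInstance, inferInstance, inferInstance, inferInstance,
    inferInstance, fixedField (P : Subgroup (M ≃ₐ[K] M)), ?_, ?_⟩
  · rw [finrank_eq_fixingSubgroup_index, fixingSubgroup_fixedField]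
    exact P.not_dvd_index
  · rw [finrank_fixedField_eq_card]
    exact (P.2.exists_card_eq)

theorem specMap_tower (K L M : Type u) [Field K] [Field L] [Field M] [Algebra K L] [Algebra L M]
    [Algebra K M] [IsScalarTower K L M] :
    Spec.map (CommRingCat.ofHom (algebraMap K M)) =
      Spec.map (CommRingCat.ofHom (algebraMap L M)) ≫
        Spec.map (CommRingCat.ofHom (algebraMap K L)) := by
  rw [← Spec.map_comp, ← CommRingCat.ofHom_comp, ← IsScalarTower.algebraMap_eq]

theorem main (K : Type u) [Field K] (F : EtCoh.Ab (Spec (CommRingCat.of K))) (i : ℕ)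
    (α : EtCoh.H (Spec (CommRingCat.of K)) F i) (L : Type u) [Field L] [Algebra K L]
    [FiniteDimensional K L] [Algebra.IsSeparable K L]
    [PreservesFiniteLimits (EtCoh.pull (Spec.map (CommRingCat.ofHom (algebraMap K L))))]
    (hα : EtCore.Hpull (Spec.map (CommRingCat.ofHom (algebraMap K L))) F i α = 0) (p : ℕ)
    (hp : p.Prime) (hpα : ¬ p ∣ addOrderOf α) :
    ∃ (L' : Type u) (_ : Field L') (_ : Algebra K L') (_ : FiniteDimensional K L')
      (_ : Algebra.IsSeparable K L'),
      ¬ p ∣ Module.finrank K L' ∧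
        ∀ [PreservesFiniteLimits
          (EtCoh.pull (Spec.map (CommRingCat.ofHom (algebraMap K L'))))],
          EtCore.Hpull (Spec.map (CommRingCat.ofHom (algebraMap K L'))) F i α = 0 := by
  haveI : Fact p.Prime := ⟨hp⟩
  obtain ⟨M, _, _, _, _, _, _, L', hL'1, a, hL'2⟩ := exists_sylow_tower K L p
  refine ⟨L', inferInstance, inferInstance, inferInstance, inferInstance, hL'1, ?_⟩
  intro _
  haveI : PreservesFiniteLimits (EtCoh.pull (Spec.map (CommRingCat.ofHom (algebraMap K M)))) :=
    Groth.Agent.S0101.result _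
  haveI : PreservesFiniteLimits (EtCoh.pull (Spec.map (CommRingCat.ofHom (algebraMap L M)))) :=
    Groth.Agent.S0101.result _
  haveI : PreservesFiniteLimits (EtCoh.pull (Spec.map (CommRingCat.ofHom (algebraMap L' M)))) :=
    Groth.Agent.S0101.result _
  have hM : EtCore.Hpull (Spec.map (CommRingCat.ofHom (algebraMap K M))) F i α = 0 := by
    rw [Groth.Agent.Lib.Helper8HpullComp.Hpull_eq_zero_iff_of_eq _ _ _ (specMap_tower K L M) F i α,
      hα, map_zero]
  have hβ := (Groth.Agent.Lib.Helper8HpullComp.Hpull_eq_zero_iff_of_eq _ _ _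
    (specMap_tower K L' M) F i α).1 hM
  have h1 := Groth.Agent.Lib.Helper8TransferCoh.finrank_nsmul_eq_zero L' M _ i _ hβ
  rw [hL'2] at h1
  have h2 : addOrderOf α •
      EtCore.Hpull (Spec.map (CommRingCat.ofHom (algebraMap K L'))) F i α = 0 := by
    rw [← map_nsmul, addOrderOf_nsmul_eq_zero, map_zero]
  have hc : Nat.Coprime (p ^ a) (addOrderOf α) :=
    ((Nat.Prime.coprime_iff_not_dvd hp).2 hpα).pow_left a
  have d1 := addOrderOf_dvd_of_nsmul_eq_zero h1
  have d2 := addOrderOf_dvd_of_nsmul_eq_zero h2
  have h3 := (Nat.Coprime.coprime_dvd_left d1 hc).eq_one_of_dvd d2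
  exact AddMonoid.addOrderOf_eq_one_iff.mp h3

end Groth.Agent.Lib.Helper8GalCohSylow
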