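import Mathlib
import Groth.Prelude
import Groth.Agent.Lib.Helper5FiberMor
import Groth.Agent.Lib.Helper5FiberRing
import Groth.Agent.Lib.Helper12OnePoint
import Groth.Agent.Lib.Helper12Reduced
import Groth.Agent.Lib.Helper5GorRing
import Groth.Agent.Lib.Helper28FibreTrans

/-!
# `AlgSp.LocP` of "flat with `P` fibre local rings" for a scheme over a field (helper8)

For a property `P` of local rings satisfying the flat-local criterion (`FlatLocalIff`), invariant
under isomorphisms and true for fields (Cohen–Macaulay, Gorenstein), and `p : X ⟶ Spec k` locally of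
finite type: `h_p` is "flat with `P` fibre local rings" on every étale chart diagram iff all local
rings of `X` have `P`.
-/

set_option autoImplicit false
universe u
open CategoryTheory CategoryTheory.Limits AlgebraicGeometry IsLocalRing

namespace Groth.Agent.Lib.Helper8LocPField

open Groth.Agent.Lib.Helper5.FiberMor Groth.Agent.Lib.Helper5.FiberRing

/-- the local rings of a scheme étale over a field are fields. -/
theorem isField_stalk_of_etale_field (k : Type u) [Field k] {V : Scheme.{u}}
    (b : V ⟶ Spec (CommRingCat.of k)) [Etale b] (v : V) : IsField (V.presheaf.stalk v) := by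
  haveI : IsReduced V := Groth.Agent.Lib.Helper12.Reduced.isReduced_of_smooth b
  haveI := Groth.Agent.Lib.Helper12.OnePoint.subsingleton_primeSpectrum_stalk k b v
  exact PrimeSpectrum.subsingleton_iff_isField_of_isReduced.1 inferInstance

/-- the local rings of the spectrum of a field are fields. -/
theorem isField_stalk_spec_field (k : Type u) [Field k] (v : Spec (CommRingCat.of k)) :
    IsField ((Spec (CommRingCat.of k)).presheaf.stalk v) :=
  isField_stalk_of_etale_field k (𝟙 _) v

/-- a ring map out of a field is flat. -/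
theorem flat_of_isField {A B : Type u} [CommRing A] [CommRing B] (hA : IsField A) (f : A →+* B) :
    f.Flat := by
  letI := hA.toField
  algebraize [f]
  exact (inferInstance : Module.Flat A B)

variable {P : ∀ (R : Type u) [CommRing R], Prop}

/-- the fibre local rings of an étale morphism have `P` (they are fields). -/
theorem fiber_stalk_of_etale (hPe : IsoInv P)
    (hfield : ∀ (K : Type u) [CommRing K], IsField K → P K)
    {U X : Scheme.{u}} (a : U ⟶ X) [Etale a] (u : U) :
    P ((a.fiber (a u)).presheaf.stalk (a.asFiber u)) := by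
  rw [fiber_stalk_iff a u hPe]
  have hunr : (a.stalkMap u).hom.FormallyUnramified :=
    AlgebraicGeometry.FormallyUnramified.stalkMap a u
  have hess : (a.stalkMap u).hom.EssFiniteType := LocallyOfFiniteType.stalkMap a u
  algebraize [(a.stalkMap u).hom]
  haveI hloc : IsLocalHom (algebraMap (X.presheaf.stalk (a u)) (U.presheaf.stalk u)) :=
    inferInstanceAs <| IsLocalHom (a.stalkMap u).hom
  exact hfield _ (Algebra.FormallyUnramified.isField_quotient_map_maximalIdeal
    (R := X.presheaf.stalk (a u)) (S := U.presheaf.stalk u))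

/-- **Main lemma.** -/
theorem locP_iff (hP : FlatLocalIff P) (hPe : IsoInv P)
    (hfield : ∀ (K : Type u) [CommRing K], IsField K → P K)
    (S : Scheme.{u}) (k : Type u) [Field k] (t : Spec (CommRingCat.of k) ⟶ S)
    (X : Scheme.{u}) (p : X ⟶ Spec (CommRingCat.of k)) [LocallyOfFiniteType p] :
    AlgSp.LocP (fun _ _ g => ∀ x, (g.stalkMap x).hom.Flat ∧
        P ((g.fiber (g x)).presheaf.stalk (g.asFiber x)))
      ((AlgSp.yon S).map (Over.homMk p rfl : Over.mk (p ≫ t) ⟶ Over.mk t)) ↔
      ∀ x : ↥X, P (X.presheaf.stalk x) := by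
  haveI : IsLocallyNoetherian X := LocallyOfFiniteType.isLocallyNoetherian p
  constructor
  · intro h x
    have h1 := AlgSp.locP_yon_map h x
    change (p.stalkMap x).hom.Flat ∧ P ((p.fiber (p x)).presheaf.stalk (p.asFiber x)) at h1
    have hfl : IsField ((Spec (CommRingCat.of k)).presheaf.stalk (p x)) :=
      isField_stalk_spec_field k (p x)
    exact (Groth.Agent.Lib.Helper5.FiberMor.flat_iff p x hP hPe h1.1).2 ⟨hfield _ hfl, h1.2⟩
  · intro h U V a b g ha hb hcomm
    obtain ⟨a', rfl⟩ := (AlgSp.yon S).map_surjective a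
    obtain ⟨b', rfl⟩ := (AlgSp.yon S).map_surjective b
    haveI hae : Etale a'.left := (AlgSp.repWith_yon_map_iff _ _).1 ha
    haveI hbe : Etale b'.left := (AlgSp.repWith_yon_map_iff _ _).1 hb
    intro u
    haveI : IsLocallyNoetherian (Over.mk (p ≫ t)).left := ‹IsLocallyNoetherian X›
    haveI : IsLocallyNoetherian (Over.mk t).left :=
      (inferInstance : IsLocallyNoetherian (Spec (CommRingCat.of k)))
    haveI : IsLocallyNoetherian U.left := LocallyOfFiniteType.isLocallyNoetherian a'.left
    haveI : IsLocallyNoetherian V.left := LocallyOfFiniteType.isLocallyNoetherian b'.left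
    have hVf : IsField (V.left.presheaf.stalk (g.left u)) :=
      isField_stalk_of_etale_field k b'.left (g.left u)
    have hflat : (g.left.stalkMap u).hom.Flat := flat_of_isField hVf _
    have hU : P (U.left.presheaf.stalk u) :=
      (Groth.Agent.Lib.Helper5.FiberMor.flat_iff a'.left u hP hPe (AlgebraicGeometry.Flat.stalkMap a'.left u)).2
        ⟨h _, fiber_stalk_of_etale hPe hfield a'.left u⟩
    exact ⟨hflat, ((Groth.Agent.Lib.Helper5.FiberMor.flat_iff g.left u hP hPe hflat).1 hU).2⟩

/-- a field is a Cohen–Macaulay local ring. -/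
theorem cm_of_isField (K : Type u) [CommRing K] (hK : IsField K) :
    LocCoh.IsCohenMacaulayLocalRing K := by
  letI := hK.toField
  rw [Groth.Agent.Lib.Helper28.isCohenMacaulayLocalRing_iff]
  have h1 := depth_le_height K
  have h2 : (maximalIdeal K).height = 0 := by
    rw [IsLocalRing.maximalIdeal_eq_bot]
    exact Ideal.height_bot
  rw [h2] at h1 ⊢
  exact (le_antisymm h1 zero_le).symm

/-- a field is a Gorenstein local ring. -/
theorem gor_of_isField (K : Type u) [CommRing K] (hK : IsField K) :
    LocCoh.IsGorensteinLocalRing K := by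
  letI := hK.toField
  exact Groth.Agent.Lib.Helper5.GorRing.gorLocal_of_field K

/-- **S17306** -/
theorem main_cm (S : Scheme.{u}) (k : Type u) [Field k] (t : Spec (CommRingCat.of k) ⟶ S)
    (X : Scheme.{u}) (p : X ⟶ Spec (CommRingCat.of k)) [LocallyOfFiniteType p] :
    AlgSp.LocP (fun _ _ g => ∀ x, MoreMor.IsCMAt g x)
      ((AlgSp.yon S).map (Over.homMk p rfl : Over.mk (p ≫ t) ⟶ Over.mk t)) ↔
      ∀ x : ↥X, LocCoh.IsCohenMacaulayLocalRing (X.presheaf.stalk x) :=
  locP_iff (P := fun R _ => LocCoh.IsCohenMacaulayLocalRing R) flatLocalIff_cm isoInv_cm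
    cm_of_isField S k t X p

/-- **S17307** -/
theorem main_gor (S : Scheme.{u}) (k : Type u) [Field k] (t : Spec (CommRingCat.of k) ⟶ S)
    (X : Scheme.{u}) (p : X ⟶ Spec (CommRingCat.of k)) [LocallyOfFiniteType p] :
    AlgSp.LocP (fun _ _ g => ∀ x, (g.stalkMap x).hom.Flat ∧
        LocCoh.IsGorensteinLocalRing ((g.fiber (g x)).presheaf.stalk (g.asFiber x)))
      ((AlgSp.yon S).map (Over.homMk p rfl : Over.mk (p ≫ t) ⟶ Over.mk t)) ↔
      ∀ x : ↥X, LocCoh.IsGorensteinLocalRing (X.presheaf.stalk x) :=
  locP_iff (P := fun R _ => LocCoh.IsGorensteinLocalRing R) flatLocalIff_gor isoInv_gor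
    gor_of_isField S k t X p

end Groth.Agent.Lib.Helper8LocPField
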