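import Mathlib
import Groth.Agent.Lib.R2H4GCILoc
import Groth.Agent.Lib.R2H4SyntLoc

/-!
# Splitting a monic polynomial over a syntomic finite free extension

`exists_syntomic_splitting`: a monic polynomial over `A` splits into linear factors over an
`A`-algebra that is syntomic, finite, free and faithfully flat (iterated `AdjoinRoot`, carrying
along a presentation with as many relations as generators).
-/

set_option autoImplicit false
universe u

namespace Groth.Agent.Lib.R2H4.SplitSynt

open Polynomial TensorProduct

/-- A finite algebra over a field with as many relations as generators is a global complete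
intersection. -/
theorem isGlobalCI_of_presentation_finite (k : Type u) [Field k] (F : Type u) [CommRing F]
    [Algebra k F] [Module.Finite k F] (n : ℕ) (P : Algebra.Presentation k F (Fin n) (Fin n)) :
    Synt.IsGlobalCI k F := by
  by_cases hF : Subsingleton F
  · exact Or.inl hF
  rw [not_subsingleton_iff_nontrivial] at hF
  obtain ⟨φ, r, hφ, hker⟩ := Groth.Agent.Lib.R2H4.GCILoc.exists_of_presentation k n n F P
  refine Or.inr ⟨n, n, le_rfl, φ, r, hφ, hker, ?_⟩
  have : IsArtinianRing F := IsArtinianRing.of_finite k F
  rw [Nat.sub_self]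
  exact (ringKrullDimZero_iff_ringKrullDim_eq_zero (R := F)).mp inferInstance

/-- A finite type global complete intersection is a local complete intersection. -/
theorem isLCIOver_of_isGlobalCI (k : Type u) [Field k] (F : Type u) [CommRing F] [Algebra k F]
    [Algebra.FiniteType k F] (h : Synt.IsGlobalCI k F) : Synt.IsLCIOver k F := by
  refine ⟨inferInstance, fun p => ⟨1, ?_, ?_⟩⟩
  · exact fun h1 => p.isPrime.ne_top ((Ideal.eq_top_iff_one _).mpr h1)
  · exact Groth.Agent.Lib.R2H4.GCILoc.isGlobalCI_away k F 1 (Localization.Away (1:F)) h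

/-- A finite flat algebra presented by as many relations as generators is syntomic. -/
theorem isSyntomic_of_presentation (A A' : Type u) [CommRing A] [CommRing A'] [Algebra A A']
    (ι : Type) [Fintype ι] (P : Algebra.Presentation A A' ι ι) [Module.Finite A A']
    [Module.Flat A A'] : Synt.IsSyntomic A A' := by
  refine ⟨inferInstance, P.finitePresentation_of_isFinite, fun p => ?_⟩
  have e := (Fintype.equivFin ι).symm
  have Pk : Algebra.Presentation p.asIdeal.ResidueField (p.asIdeal.ResidueField ⊗[A] A')
      (Fin (Fintype.card ι)) (Fin (Fintype.card ι)) :=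
    (P.baseChange p.asIdeal.ResidueField).reindex e e
  have : Module.Finite p.asIdeal.ResidueField (p.asIdeal.ResidueField ⊗[A] A') := inferInstance
  exact isLCIOver_of_isGlobalCI _ _ (isGlobalCI_of_presentation_finite _ _ _ Pk)

/-- The presentation of `AdjoinRoot P` by one generator and one relation. -/
theorem nonempty_presentation_adjoinRoot (A : Type u) [CommRing A] (P : A[X]) :
    Nonempty (Algebra.Presentation A (AdjoinRoot P) PUnit.{1} PUnit.{1}) := by
  obtain ⟨E, hE⟩ : ∃ E : MvPolynomial PUnit.{1} A ≃ₐ[A] A[X], E = MvPolynomial.uniqueAlgEquiv A PUnit.{1} :=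
    ⟨_, rfl⟩
  let v : PUnit.{1} → MvPolynomial PUnit.{1} A := fun _ => E.symm P
  have P0 : Algebra.Presentation A (MvPolynomial PUnit.{1} A ⧸ Ideal.span (Set.range v))
      PUnit.{1} PUnit.{1} := Algebra.Presentation.naive (v := v)
  have hv : Ideal.span {P} = (Ideal.span (Set.range v)).map E := by
    rw [Ideal.map_span, Set.range_const, Set.image_singleton]
    congr 2
    exact (E.apply_symm_apply P).symm
  have e : (MvPolynomial PUnit.{1} A ⧸ Ideal.span (Set.range v)) ≃ₐ[A] (A[X] ⧸ Ideal.span {P}) :=
    Ideal.quotientEquivAlg _ _ E hv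
  exact ⟨P0.ofAlgEquiv e⟩

/-- Inductive construction of a splitting algebra with a presentation by as many relations as
generators. -/
theorem split_aux (d : ℕ) : ∀ (A : Type u) [CommRing A] (P : A[X]), P.Monic → P.natDegree ≤ d →
    ∃ (A' : Type u) (_ : CommRing A') (_ : Algebra A A') (ι : Type) (_ : Fintype ι),
      Nonempty (Algebra.Presentation A A' ι ι) ∧ Module.Finite A A' ∧ Module.Free A A' ∧
      Module.FaithfullyFlat A A' ∧
      ∃ s : Multiset A', P.map (algebraMap A A') = (s.map fun b => X - C b).prod := by
  induction d with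
  | zero =>
    intro A _ P hP hd
    have h1 : P = 1 := eq_one_of_monic_natDegree_zero hP (Nat.le_zero.mp hd)
    refine ⟨A, inferInstance, inferInstance, PEmpty, inferInstance, ⟨Algebra.Presentation.id A⟩,
      inferInstance, inferInstance, inferInstance, 0, ?_⟩
    simp [h1]
  | succ d ih =>
    intro A _ P hP hd
    by_cases hd' : P.natDegree ≤ d
    · exact ih A P hP hd'
    have hdeq : P.natDegree = d + 1 := by omega
    have hfin : Module.Finite A (AdjoinRoot P) := hP.finite_adjoinRoot
    have hfree : Module.Free A (AdjoinRoot P) := hP.free_adjoinRoot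
    have hff : Module.FaithfullyFlat A (AdjoinRoot P) := by
      have hne : Nonempty (Fin (AdjoinRoot.powerBasis' hP).dim) := by
        rw [AdjoinRoot.powerBasis'_dim, hdeq]
        exact ⟨0⟩
      exact Module.FaithfullyFlat.of_linearEquiv A
        (Fin (AdjoinRoot.powerBasis' hP).dim →₀ A) (AdjoinRoot.powerBasis' hP).basis.repr
    obtain ⟨P1⟩ := nonempty_presentation_adjoinRoot A P
    obtain ⟨a, ha⟩ : ∃ a : AdjoinRoot P, a = AdjoinRoot.root P := ⟨_, rfl⟩
    obtain ⟨P', hP'def⟩ : ∃ P' : (AdjoinRoot P)[X], P' = P.map (AdjoinRoot.of P) := ⟨_, rfl⟩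
    have hroot : P'.IsRoot a := by
      rw [hP'def, ha]
      exact AdjoinRoot.isRoot_root P
    have hmul : (X - C a) * (P' /ₘ (X - C a)) = P' := mul_divByMonic_eq_iff_isRoot.mpr hroot
    have hP' : P'.Monic := hP'def ▸ hP.map _
    have hQ : (P' /ₘ (X - C a)).Monic :=
      (monic_X_sub_C a).of_mul_monic_left (by rw [hmul]; exact hP')
    have hdQ : (P' /ₘ (X - C a)).natDegree ≤ d := by
      rw [natDegree_divByMonic _ (monic_X_sub_C a)]
      have h1 : P'.natDegree ≤ d + 1 := by
        rw [hP'def]
        exact (natDegree_map_le).trans hd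
      have h2 : (X - C a).natDegree ≤ 1 := natDegree_X_sub_C_le a
      by_cases hnt : Nontrivial (AdjoinRoot P)
      · rw [natDegree_X_sub_C]
        omega
      · rw [not_nontrivial_iff_subsingleton] at hnt
        have : P' = 0 := Subsingleton.elim _ _
        rw [this]
        simp
    obtain ⟨A₂, _, _, ι, _, ⟨P2⟩, hfin2, hfree2, hff2, s, hs⟩ := ih (AdjoinRoot P) _ hQ hdQ
    let : Algebra A A₂ :=
      ((algebraMap (AdjoinRoot P) A₂).comp (algebraMap A (AdjoinRoot P))).toAlgebra
    have : IsScalarTower A (AdjoinRoot P) A₂ := IsScalarTower.of_algebraMap_eq (fun _ => rfl)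
    refine ⟨A₂, inferInstance, inferInstance, ι ⊕ PUnit.{1}, inferInstance, ⟨P2.comp P1⟩,
      Module.Finite.trans (AdjoinRoot P) A₂,
      Module.Free.of_basis ((Module.Free.chooseBasis A (AdjoinRoot P)).smulTower
        (Module.Free.chooseBasis (AdjoinRoot P) A₂)),
      Module.FaithfullyFlat.trans A (AdjoinRoot P) A₂,
      algebraMap (AdjoinRoot P) A₂ a ::ₘ s, ?_⟩
    rw [Multiset.map_cons, Multiset.prod_cons, ← hs]
    have h3 : P.map (algebraMap A A₂) = P'.map (algebraMap (AdjoinRoot P) A₂) := by
      rw [hP'def, Polynomial.map_map]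
      rfl
    rw [h3]
    conv_lhs => rw [← hmul]
    rw [Polynomial.map_mul, Polynomial.map_sub, map_X, map_C]

/-- A monic polynomial splits over a syntomic, finite, free, faithfully flat extension. -/
theorem exists_syntomic_splitting (A : Type u) [CommRing A] (P : A[X]) (hP : P.Monic) :
    ∃ (A' : Type u) (_ : CommRing A') (_ : Algebra A A'),
      Synt.IsSyntomic A A' ∧ Module.Finite A A' ∧ Module.Free A A' ∧ Module.FaithfullyFlat A A' ∧
        ∃ s : Multiset A', P.map (algebraMap A A') = (s.map fun b => X - C b).prod := by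
  obtain ⟨A', _, _, ι, _, ⟨Pr⟩, hfin, hfree, hff, s, hs⟩ := split_aux P.natDegree A P hP le_rfl
  exact ⟨A', inferInstance, inferInstance, isSyntomic_of_presentation A A' ι Pr, hfin, hfree, hff,
    s, hs⟩

end Groth.Agent.Lib.R2H4.SplitSynt
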