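import Mathlib
import Groth.Prelude.Def_W4c2gaugesfzipsQuiet
import Groth.Prelude.Def_Frob
import Groth.Prelude.Def_RegImm
import Groth.Agent.Lib.R2H4SplitSynt
import Groth.Agent.Lib.R2H4SyntLocal
import Groth.Agent.Lib.R2LeadSyntI
import Groth.Agent.Lib.Helper6SmSynt
import Groth.Agent.S8661

/-!
# Quasi-etale morphisms are syntomic (helper4, round 2)

`isSyntomic_of_isRootTower`: towers of `p`-th root extractions are syntomic (finite flat with a
square presentation).  `isSyntomicMor_comp`: composition of syntomic morphisms (via flat + Koszul).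
`isSyntomicMor_of_forall_exists_open`: syntomic is local on the source.  `main15044`.
-/

set_option autoImplicit false
set_option linter.style.haveILetI false
universe u

namespace Groth.Agent.Lib.R2H4.QuietSynt

open Polynomial AlgebraicGeometry CategoryTheory
open Groth.Agent.Lib.R2H4.SyntLocal

/-- a tower of `p`-th root extractions is finite, flat and has a square presentation -/
theorem rootTower_aux (p : ℕ) (hp : p ≠ 0) : ∀ (n : ℕ) (A B : Type u) [CommRing A] [CommRing B]
    [Algebra A B], Quiet.IsRootTower p n A B →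
    ∃ (ι : Type) (_ : Fintype ι), Nonempty (Algebra.Presentation A B ι ι) ∧ Module.Finite A B ∧
      Module.Flat A B := by
  intro n
  induction n with
  | zero =>
    intro A B _ _ _ h
    obtain ⟨e⟩ := h
    exact ⟨PEmpty, inferInstance, ⟨(Algebra.Presentation.id A).ofAlgEquiv e.symm⟩,
      Module.Finite.equiv e.symm.toLinearEquiv, Module.Flat.of_linearEquiv e.toLinearEquiv⟩
  | succ n ih =>
    intro A B _ _ _ h
    obtain ⟨a, alg, htower, hrec⟩ := h
    have hP : (X ^ p - C a : A[X]).Monic := monic_X_pow_sub_C a hp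
    have hfin : Module.Finite A (Quiet.RootRing p A a) := hP.finite_adjoinRoot
    have hfree : Module.Free A (Quiet.RootRing p A a) := hP.free_adjoinRoot
    obtain ⟨P1⟩ := Groth.Agent.Lib.R2H4.SplitSynt.nonempty_presentation_adjoinRoot A
      (X ^ p - C a : A[X])
    obtain ⟨ι, _, ⟨P2⟩, hfin2, hflat2⟩ := ih (Quiet.RootRing p A a) B hrec
    exact ⟨ι ⊕ PUnit.{1}, inferInstance, ⟨P2.comp P1⟩, Module.Finite.trans (Quiet.RootRing p A a) B,
      Module.Flat.trans A (Quiet.RootRing p A a) B⟩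

/-- a tower of `p`-th root extractions is syntomic -/
theorem isSyntomic_of_isRootTower (p : ℕ) (hp : p ≠ 0) (n : ℕ) (A B : Type u) [CommRing A]
    [CommRing B] [Algebra A B] (h : Quiet.IsRootTower p n A B) : Synt.IsSyntomic A B := by
  obtain ⟨ι, _, ⟨P⟩, hfin, hflat⟩ := rootTower_aux p hp n A B h
  exact Groth.Agent.Lib.R2H4.SplitSynt.isSyntomic_of_presentation A B ι P

/-- composition of syntomic morphisms -/
theorem isSyntomicMor_comp {X Y Z : Scheme.{u}} (f : X ⟶ Y) (g : Y ⟶ Z)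
    (hf : Synt.IsSyntomicMor f) (hg : Synt.IsSyntomicMor g) : Synt.IsSyntomicMor (f ≫ g) := by
  obtain ⟨hff, hfk⟩ := (Groth.Agent.Lib.R2LeadSyntI.flat_and_lci_iff_syntomic f).mpr hf
  obtain ⟨hgf, hgk⟩ := (Groth.Agent.Lib.R2LeadSyntI.flat_and_lci_iff_syntomic g).mpr hg
  exact (Groth.Agent.Lib.R2LeadSyntI.flat_and_lci_iff_syntomic (f ≫ g)).mp
    ⟨inferInstance, Groth.Agent.S8661.result f g hfk hgk⟩

theorem isSyntomic_congr {A B : Type u} [CommRing A] [CommRing B] (φ ψ : A →+* B) (h : φ = ψ)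
    (hs : @Synt.IsSyntomic A _ B _ ψ.toAlgebra) : @Synt.IsSyntomic A _ B _ φ.toAlgebra := by
  subst h
  exact hs

/-- a `p`-th root morphism is syntomic -/
theorem isSyntomicMor_of_isPthRoot (p : ℕ) (hp : p ≠ 0) {Y X : Scheme.{u}} (r : Y ⟶ X)
    (hr : Quiet.IsPthRoot p r) : Synt.IsSyntomicMor r := by
  intro y
  obtain ⟨U, hxU, haff, n, htower⟩ := hr (r.base y)
  refine ⟨⟨r ⁻¹ᵁ U.1, haff⟩, U, le_rfl, hxU, ?_⟩
  have happ : r.appLE U.1 (r ⁻¹ᵁ U.1) le_rfl = r.app U.1 := (Scheme.Hom.app_eq_appLE r).symm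
  exact isSyntomic_congr _ _ (congrArg CommRingCat.Hom.hom happ)
    (@isSyntomic_of_isRootTower p hp n _ _ _ _ (r.app U.1).hom.toAlgebra htower)

/-- syntomic is local on the source -/
theorem isSyntomicMor_of_forall_exists_open {Y X : Scheme.{u}} (f : Y ⟶ X)
    (h : ∀ y : Y, ∃ V : Y.Opens, y ∈ V ∧ Synt.IsSyntomicMor (V.ι ≫ f)) : Synt.IsSyntomicMor f := by
  choose V hyV hV using h
  rw [isSyntomicMor_iff_affineLocally]
  apply IsZariskiLocalAtSource.of_iSup_eq_top (P := affineLocally @Q) V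
  · rw [eq_top_iff]
    intro y _
    exact TopologicalSpace.Opens.mem_iSup.mpr ⟨y, hyV y⟩
  · intro y
    rw [← isSyntomicMor_iff_affineLocally]
    exact hV y

/-- **S15044.** -/
theorem main15044 (p : ℕ) [Fact p.Prime] {X Y : Scheme.{u}}
    (f : Y ⟶ X) (hf : Quiet.IsQuiet p f) : Synt.IsSyntomicMor f := by
  apply isSyntomicMor_of_forall_exists_open
  intro y
  obtain ⟨V, Y', r, e, hyV, hr, he, hcomp⟩ := hf y
  refine ⟨V, hyV, ?_⟩
  rw [← hcomp]
  haveI := he
  exact isSyntomicMor_comp r e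
    (isSyntomicMor_of_isPthRoot p (Fact.out : p.Prime).ne_zero r hr)
    (Groth.Agent.Lib.Helper6.SmSynt.isSyntomicMor_of_smooth e)

end Groth.Agent.Lib.R2H4.QuietSynt
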