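import Mathlib
import Groth.Prelude
import Groth.Agent.Lib.Helper8LocPField
import Groth.Agent.Lib.Helper6SmSynt
import Groth.Agent.Lib.R2H4QuietSynt
import Groth.Agent.Lib.R2H4SyntBC
import Groth.Agent.Lib.R2LeadSyntI

/-!
# The lci locus of a scheme over a field, in `AlgSp.LocP` form (helper8)

For `p : X ⟶ Spec k`, `h_p` is a Koszul (lci) morphism of sheaves on every étale chart diagram iff
`p` is Koszul at every point.
-/

set_option autoImplicit false
universe u
open CategoryTheory CategoryTheory.Limits AlgebraicGeometry IsLocalRing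

namespace Groth.Agent.Lib.Helper8LocPLci

open Groth.Agent.Lib.Helper8LocPField

/-- every morphism to the spectrum of a field is flat. -/
theorem flat_of_field (k : Type u) [Field k] {X : Scheme.{u}} (p : X ⟶ Spec (CommRingCat.of k)) :
    Flat p :=
  (Flat.iff_flat_stalkMap p).2 fun x => flat_of_isField (isField_stalk_spec_field k (p x)) _

/-- in a commutative square `a ≫ p = g ≫ b` with `a`, `b` étale and `p` syntomic, `g` is syntomic. -/
theorem isSyntomicMor_of_etale_square {U V X Y : Scheme.{u}} (a : U ⟶ X) (b : V ⟶ Y) (p : X ⟶ Y)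
    (g : U ⟶ V) [Etale a] [Etale b] (hp : Synt.IsSyntomicMor p) (comm : a ≫ p = g ≫ b) :
    Synt.IsSyntomicMor g := by
  have ha : Synt.IsSyntomicMor a := Groth.Agent.Lib.Helper6.SmSynt.isSyntomicMor_of_smooth a
  have hap : Synt.IsSyntomicMor (a ≫ p) :=
    Groth.Agent.Lib.R2H4.QuietSynt.isSyntomicMor_comp a p ha hp
  have hsnd : Synt.IsSyntomicMor (pullback.snd (a ≫ p) b) :=
    Groth.Agent.Lib.R2H4.SyntBC.isSyntomicMor_pullback_snd (a ≫ p) b hap
  let Γ : U ⟶ pullback (a ≫ p) b := pullback.lift (𝟙 U) g (by rw [Category.id_comp, comm])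
  have h1 : Γ ≫ pullback.fst (a ≫ p) b = 𝟙 U := pullback.lift_fst _ _ _
  have h2 : Γ ≫ pullback.snd (a ≫ p) b = g := pullback.lift_snd _ _ _
  haveI : Etale (Γ ≫ pullback.fst (a ≫ p) b) := by rw [h1]; infer_instance
  haveI : Etale Γ := MorphismProperty.of_postcomp (W := @Etale) (W' := @Etale) Γ
    (pullback.fst (a ≫ p) b) inferInstance inferInstance
  have hΓ : Synt.IsSyntomicMor Γ := Groth.Agent.Lib.Helper6.SmSynt.isSyntomicMor_of_smooth Γ
  rw [← h2]
  exact Groth.Agent.Lib.R2H4.QuietSynt.isSyntomicMor_comp Γ _ hΓ hsnd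

/-- **S17308** -/
theorem main_lci (S : Scheme.{u}) (k : Type u) [Field k] (t : Spec (CommRingCat.of k) ⟶ S)
    (X : Scheme.{u}) (p : X ⟶ Spec (CommRingCat.of k)) :
    AlgSp.IsLCIMor ((AlgSp.yon S).map (Over.homMk p rfl : Over.mk (p ≫ t) ⟶ Over.mk t)) ↔
      ∀ x : ↥X, Synt.IsKoszulAt p x := by
  constructor
  · intro h x
    exact AlgSp.locP_yon_map h x
  · intro h U V a b g ha hb hcomm
    obtain ⟨a', rfl⟩ := (AlgSp.yon S).map_surjective a
    obtain ⟨b', rfl⟩ := (AlgSp.yon S).map_surjective b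
    haveI hae : Etale a'.left := (AlgSp.repWith_yon_map_iff _ _).1 ha
    haveI hbe : Etale b'.left := (AlgSp.repWith_yon_map_iff _ _).1 hb
    haveI : Flat p := flat_of_field k p
    have hp : Synt.IsSyntomicMor p :=
      Groth.Agent.Lib.R2LeadSyntI.isSyntomicMor_of_flat_of_isKoszulAt p h
    have hc : a' ≫ (Over.homMk p rfl : Over.mk (p ≫ t) ⟶ Over.mk t) = g ≫ b' := by
      apply (AlgSp.yon S).map_injective
      rw [Functor.map_comp, Functor.map_comp]
      exact hcomm
    have hc' : a'.left ≫ p = g.left ≫ b'.left := congrArg (fun m => m.left) hc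
    intro u
    exact Groth.Agent.Lib.R2LeadSyntI.isKoszulAt_of_isSyntomicMor g.left
      (isSyntomicMor_of_etale_square a'.left b'.left p g.left hp hc') u

end Groth.Agent.Lib.Helper8LocPLci
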