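import Mathlib
import Groth.Prelude
import Groth.Agent.Lib.Helper8LocPLci
import Groth.Agent.Lib.Helper12Reduced
import Groth.Agent.Lib.Helper3DimCons

/-!
# `CurvSt.GeomFib` for the classifying object of a scheme over a field (helper8)
-/

set_option autoImplicit false
universe u
open CategoryTheory CategoryTheory.Limits AlgebraicGeometry IsLocalRing

namespace Groth.Agent.Lib.Helper8GeomFibField

/-- the classifying object -/
noncomputable abbrev clsObj (S : Scheme.{u}) (k : Type u) [Field k] (t : Spec (CommRingCat.of k) ⟶ S)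
    (X : Scheme.{u}) (p : X ⟶ Spec (CommRingCat.of k)) : CurvSt.SpFamObj S 0 :=
  (CurvSt.toSpFam S 0).obj ⟨Over.mk t, X, p, Fin.elim0, fun i => i.elim0⟩

/-- **Reduction to squares of schemes.** -/
theorem geomFib_iff
    (P : ∀ (Ω : Type u) [Field Ω] [IsAlgClosed Ω] (X' : Scheme.{u}),
      (X' ⟶ Spec (CommRingCat.of Ω)) → Prop)
    (S : Scheme.{u}) (k : Type u) [Field k] (t : Spec (CommRingCat.of k) ⟶ S)
    (X : Scheme.{u}) (p : X ⟶ Spec (CommRingCat.of k)) :
    CurvSt.GeomFib (fun Ω _ _ X' q _ => P Ω X' q) (clsObj S k t X p) ↔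
      ∀ (Ω : Type u) [Field Ω] [IsAlgClosed Ω] (s : Spec (CommRingCat.of Ω) ⟶ Spec (CommRingCat.of k))
        (X' : Scheme.{u}) (q : X' ⟶ Spec (CommRingCat.of Ω)) (i : X' ⟶ X),
        IsPullback i q p s → P Ω X' q := by
  constructor
  · intro h Ω _ _ s X' q i hP
    let A : CurvSt.SpFamObj S 0 := clsObj S k t X p
    let iO : A.ptOver (q ≫ s) ⟶ Over.mk (p ≫ t) :=
      Over.homMk i (by
        change i ≫ p ≫ t = (q ≫ s) ≫ t
        rw [← Category.assoc, hP.w])
    have hO : IsPullback iO (A.fibHom s q) (Over.homMk p rfl : Over.mk (p ≫ t) ⟶ Over.mk t)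
        (A.ptHom s) :=
      IsPullback.of_map (Over.forget S) (Over.OverMorphism.ext hP.w) hP
    exact h Ω s X' q ((AlgSp.yon S).map iO) (hO.map (AlgSp.yon S))
  · intro h Ω _ _ t' X' q i hP
    let A : CurvSt.SpFamObj S 0 := clsObj S k t X p
    let iO : A.ptOver (q ≫ t') ⟶ Over.mk (p ≫ t) := (AlgSp.yon S).preimage i
    have hiO : (AlgSp.yon S).map iO = i := (AlgSp.yon S).map_preimage _
    have hO : IsPullback iO (A.fibHom t' q) (Over.homMk p rfl : Over.mk (p ≫ t) ⟶ Over.mk t)
        (A.ptHom t') := by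
      refine IsPullback.of_map (AlgSp.yon S) ?_ ?_
      · apply (AlgSp.yon S).map_injective
        rw [Functor.map_comp, Functor.map_comp, hiO]
        exact hP.w
      · rw [hiO]
        exact hP
    have hS := hO.map (Over.forget S)
    exact h Ω t' X' q iO.left hS

/-- a field extension gives a flat surjective morphism of spectra. -/
theorem flat_surjective_specMap_field (K L : Type u) [Field K] [Field L] [Algebra K L] :
    Flat (Spec.map (CommRingCat.ofHom (algebraMap K L))) ∧
      Surjective (Spec.map (CommRingCat.ofHom (algebraMap K L))) := by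
  rw [flat_and_surjective_SpecMap_iff]
  change (algebraMap K L).FaithfullyFlat
  rw [RingHom.faithfullyFlat_algebraMap_iff]
  infer_instance

/-- **From algebraically closed fields to all fields**, for properties of schemes descending along
flat surjective morphisms. -/
theorem forall_algClosed_iff_geometrically (Q : ObjectProperty Scheme.{u})
    (hQ : ∀ {A B : Scheme.{u}} (f : A ⟶ B) [Flat f] [Surjective f], Q A → Q B)
    (k : Type u) [Field k] {X : Scheme.{u}} (p : X ⟶ Spec (CommRingCat.of k)) :
    (∀ (Ω : Type u) [Field Ω] [IsAlgClosed Ω]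
        (s : Spec (CommRingCat.of Ω) ⟶ Spec (CommRingCat.of k))
        (X' : Scheme.{u}) (q : X' ⟶ Spec (CommRingCat.of Ω)) (i : X' ⟶ X),
        IsPullback i q p s → Q X') ↔ geometrically Q p := by
  constructor
  · intro h K _ y Z fst snd hZ
    let Ω := AlgebraicClosure K
    let φ := Spec.map (CommRingCat.ofHom (algebraMap K Ω))
    obtain ⟨hfl, hsu⟩ := flat_surjective_specMap_field K Ω
    haveI : Flat φ := hfl
    haveI : Surjective φ := hsu
    have h1 : IsPullback (pullback.fst snd φ) (pullback.snd snd φ) snd φ :=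
      IsPullback.of_hasPullback snd φ
    have h2 := h1.paste_horiz hZ
    have hQ' : Q (pullback snd φ) := h Ω (φ ≫ y) _ _ _ h2
    exact hQ (pullback.fst snd φ) hQ'
  · intro h Ω _ _ s X' q i hP
    exact h s i q hP

/-- **S17309** -/
theorem main_reduced (S : Scheme.{u}) (k : Type u) [Field k] (t : Spec (CommRingCat.of k) ⟶ S)
    (X : Scheme.{u}) (p : X ⟶ Spec (CommRingCat.of k)) :
    CurvSt.GeomFib (fun _ _ _ X' _ _ => IsReduced X')
        ((CurvSt.toSpFam S 0).obj ⟨Over.mk t, X, p, Fin.elim0, fun i => i.elim0⟩) ↔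
      GeometricallyReduced p := by
  refine (geomFib_iff (fun _ _ _ X' _ => IsReduced X') S k t X p).trans ?_
  rw [geometricallyReduced_iff]
  exact forall_algClosed_iff_geometrically IsReduced
    (fun f _ _ h => by
      haveI := h
      exact Groth.Agent.Lib.Helper12.Reduced.isReduced_of_flat_of_surjective f) k p

theorem connectedSpace_of_surjective {A B : Scheme.{u}} (f : A ⟶ B) [Surjective f]
    (h : ConnectedSpace A) : ConnectedSpace B := by
  rw [connectedSpace_iff_univ] at h ⊢
  have h1 := h.image f f.continuous.continuousOn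
  rwa [Set.image_univ_of_surjective f.surjective] at h1

/-- dimension is invariant under a cartesian square over a field extension. -/
theorem dim_eq_of_isPullback (k Ω : Type u) [Field k] [Field Ω]
    (s : Spec (CommRingCat.of Ω) ⟶ Spec (CommRingCat.of k)) {X X' : Scheme.{u}}
    (p : X ⟶ Spec (CommRingCat.of k)) [LocallyOfFiniteType p] (q : X' ⟶ Spec (CommRingCat.of Ω))
    (i : X' ⟶ X) (hP : IsPullback i q p s) : topologicalKrullDim ↥X' = topologicalKrullDim ↥X := by
  obtain ⟨φ, rfl⟩ := Spec.map_surjective s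
  exact Groth.Agent.Lib.Helper3.DimCons.dim_eq_of_isPullback_isField
    (R := CommRingCat.of k) (R' := CommRingCat.of Ω) (Field.toIsField k) (Field.toIsField Ω) φ
    p q i hP

/-- **S17310** -/
theorem main_reduced_connected_dim (S : Scheme.{u}) (k : Type u) [Field k]
    (t : Spec (CommRingCat.of k) ⟶ S)
    (X : Scheme.{u}) (p : X ⟶ Spec (CommRingCat.of k)) [LocallyOfFiniteType p] :
    CurvSt.GeomFib (fun _ _ _ X' _ _ => IsReduced X' ∧ ConnectedSpace ↥X' ∧
        topologicalKrullDim ↥X' = 1)
        ((CurvSt.toSpFam S 0).obj ⟨Over.mk t, X, p, Fin.elim0, fun i => i.elim0⟩) ↔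
      GeometricallyReduced p ∧ GeometricallyConnected p ∧ topologicalKrullDim ↥X = 1 := by
  refine (geomFib_iff (fun _ _ _ X' _ => IsReduced X' ∧ ConnectedSpace ↥X' ∧
        topologicalKrullDim ↥X' = 1) S k t X p).trans ?_
  rw [geometricallyReduced_iff, geometricallyConnected_iff]
  constructor
  · intro h
    refine ⟨?_, ?_, ?_⟩
    · exact (forall_algClosed_iff_geometrically IsReduced
        (fun f _ _ h => by
          haveI := h
          exact Groth.Agent.Lib.Helper12.Reduced.isReduced_of_flat_of_surjective f) k p).1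
        (fun Ω _ _ s X' q i hP => (h Ω s X' q i hP).1)
    · exact (forall_algClosed_iff_geometrically (fun Z => ConnectedSpace ↥Z)
        (fun f _ _ h => connectedSpace_of_surjective f h) k p).1
        (fun Ω _ _ s X' q i hP => (h Ω s X' q i hP).2.1)
    · let Ω := AlgebraicClosure k
      let φ := Spec.map (CommRingCat.ofHom (algebraMap k Ω))
      have hP : IsPullback (pullback.fst p φ) (pullback.snd p φ) p φ :=
        IsPullback.of_hasPullback p φ
      rw [← dim_eq_of_isPullback k Ω φ p _ _ hP]
      exact (h Ω φ _ _ _ hP).2.2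
  · rintro ⟨h1, h2, h3⟩ Ω _ _ s X' q i hP
    exact ⟨h1 s i q hP, h2 s i q hP, by rw [dim_eq_of_isPullback k Ω s p q i hP, h3]⟩

end Groth.Agent.Lib.Helper8GeomFibField
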