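import Mathlib
import Groth.Prelude
import Groth.Agent.Lib.Helper8GeomFibField
import Groth.Agent.Lib.Helper20SmoothDescSch

/-!
# Finite non-smooth locus and geometric fibres (helper8, S17311)
-/

set_option autoImplicit false
universe u
open CategoryTheory CategoryTheory.Limits AlgebraicGeometry IsLocalRing

namespace Groth.Agent.Lib.Helper8GeomFibSm

open Groth.Agent.Lib.Helper8GeomFibField Groth.Agent.Lib.Helper20.FlatDesc

/-- the non-smooth locus, in neighbourhood form. -/
def NS {X Y : Scheme.{u}} (f : X ⟶ Y) : Set X :=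
  {x : ↥X | ¬ ∃ U : X.Opens, x ∈ U ∧ Smooth (U.ι ≫ f)}

theorem NS_eq_compl {X Y : Scheme.{u}} (f : X ⟶ Y) [LocallyOfFinitePresentation f] :
    NS f = (f.smoothLocus : Set X)ᶜ := by
  ext x
  simp only [NS, Set.mem_setOf_eq, Set.mem_compl_iff, SetLike.mem_coe]
  refine not_congr ⟨?_, fun h => exists_smooth_nbhd f x h⟩
  rintro ⟨U, hxU, hU⟩
  haveI := hU
  exact formallySmooth_stalkMap_of_nbhd f x U hxU

theorem isClosed_NS {X Y : Scheme.{u}} (f : X ⟶ Y) [LocallyOfFinitePresentation f] :
    IsClosed (NS f) := by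
  rw [NS_eq_compl]
  exact f.smoothLocus.2.isClosed_compl

/-- smooth neighbourhoods pull back along a cartesian square. -/
theorem NS_subset_preimage {X X' Y Y' : Scheme.{u}} (p : X ⟶ Y) (s : Y' ⟶ Y) (q : X' ⟶ Y')
    (i : X' ⟶ X) (hP : IsPullback i q p s) : NS q ⊆ i ⁻¹' NS p := by
  intro x' hx' hx
  apply hx'
  obtain ⟨U, hxU, hU⟩ := hx
  haveI := hU
  refine ⟨i ⁻¹ᵁ U, hxU, ?_⟩
  exact MorphismProperty.of_isPullback (P := @Smooth)
    ((isPullback_morphismRestrict i U).paste_vert hP) hU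

/-- smooth neighbourhoods descend along a flat base change (standard pullback). -/
theorem preimage_NS_subset {X Y Y' : Scheme.{u}} (p : X ⟶ Y) [LocallyOfFinitePresentation p]
    (s : Y' ⟶ Y) [Flat s] : (pullback.fst p s) ⁻¹' NS p ⊆ NS (pullback.snd p s) := by
  intro x' hx' hx
  apply hx'
  obtain ⟨U', hxU', hU'⟩ := hx
  haveI := hU'
  exact exists_smooth_nbhd_of_baseChange_flatAt p s x' (Flat.stalkMap s _) U' hxU'

/-- a finite closed subset has finite preimage under the base change to a field extension. -/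
theorem finite_preimage_of_finite_closed (k Ω : Type u) [Field k] [Field Ω]
    (s : Spec (CommRingCat.of Ω) ⟶ Spec (CommRingCat.of k)) {X X' : Scheme.{u}}
    (p : X ⟶ Spec (CommRingCat.of k)) [LocallyOfFiniteType p] [QuasiCompact p]
    (q : X' ⟶ Spec (CommRingCat.of Ω)) (i : X' ⟶ X) (hP : IsPullback i q p s)
    (Z : Set X) (hZc : IsClosed Z) (hZf : Z.Finite) : (i ⁻¹' Z).Finite := by
  let I := Scheme.IdealSheafData.vanishingIdeal ⟨Z, hZc⟩
  let ι := I.subschemeι
  have hr : Set.range ι = Z := by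
    rw [Scheme.IdealSheafData.range_subschemeι, Scheme.IdealSheafData.coe_support_vanishingIdeal]
    rfl
  haveI : Finite (Set.range ι) := by rw [hr]; exact hZf.to_subtype
  haveI : Finite ↥I.subscheme := Finite.of_injective_finite_range ι.isEmbedding.injective
  haveI : LocallyQuasiFinite (ι ≫ p) :=
    LocallyQuasiFinite.of_finite_preimage_singleton (ι ≫ p) (fun _ => Set.toFinite _)
  have h1 : IsPullback (pullback.fst ι i) (pullback.snd ι i ≫ q) (ι ≫ p) s :=
    ((IsPullback.of_hasPullback ι i).flip.paste_horiz hP.flip).flip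
  haveI : LocallyQuasiFinite (pullback.snd ι i ≫ q) :=
    MorphismProperty.of_isPullback (P := @LocallyQuasiFinite) h1 inferInstance
  haveI : QuasiCompact (pullback.snd ι i ≫ q) :=
    MorphismProperty.of_isPullback (P := @QuasiCompact) h1 inferInstance
  have h2 : ((pullback.snd ι i ≫ q) ⁻¹' Set.univ).Finite :=
    Scheme.Hom.finite_preimage (pullback.snd ι i ≫ q) Set.finite_univ
  rw [Set.preimage_univ] at h2
  haveI : Finite ↥(pullback ι i) := Set.finite_univ_iff.1 h2
  rw [← hr, ← Scheme.Pullback.range_snd]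
  exact Set.finite_range _

/-- **Finite non-smooth locus is a geometric condition.** -/
theorem forall_finite_iff (k : Type u) [Field k] {X : Scheme.{u}}
    (p : X ⟶ Spec (CommRingCat.of k)) [LocallyOfFinitePresentation p] [QuasiCompact p] :
    (∀ (Ω : Type u) [Field Ω] [IsAlgClosed Ω]
        (s : Spec (CommRingCat.of Ω) ⟶ Spec (CommRingCat.of k))
        (X' : Scheme.{u}) (q : X' ⟶ Spec (CommRingCat.of Ω)) (i : X' ⟶ X),
        IsPullback i q p s → (NS q).Finite) ↔ (NS p).Finite := by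
  constructor
  · intro h
    let Ω := AlgebraicClosure k
    let φ := Spec.map (CommRingCat.ofHom (algebraMap k Ω))
    obtain ⟨hfl, hsu⟩ := flat_surjective_specMap_field k Ω
    haveI : Flat φ := hfl
    haveI : Surjective φ := hsu
    have h1 : (NS (pullback.snd p φ)).Finite := h Ω φ _ _ _ (IsPullback.of_hasPullback p φ)
    refine (h1.image (pullback.fst p φ)).subset ?_
    intro x hx
    obtain ⟨x', rfl⟩ := (pullback.fst p φ).surjective x
    exact ⟨x', preimage_NS_subset p φ hx, rfl⟩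
  · intro h Ω _ _ s X' q i hP
    exact (finite_preimage_of_finite_closed k Ω s p q i hP (NS p) (isClosed_NS p) h).subset
      (NS_subset_preimage p s q i hP)

/-- **S17311** -/
theorem main (S : Scheme.{u}) (k : Type u) [Field k] (t : Spec (CommRingCat.of k) ⟶ S)
    (X : Scheme.{u}) (p : X ⟶ Spec (CommRingCat.of k)) [LocallyOfFinitePresentation p]
    [QuasiCompact p] :
    CurvSt.GeomFib (fun _ _ _ X' q _ =>
        Set.Finite {x : ↥X' | ¬ ∃ U : X'.Opens, x ∈ U ∧ Smooth (U.ι ≫ q)})
        ((CurvSt.toSpFam S 0).obj ⟨Over.mk t, X, p, Fin.elim0, fun i => i.elim0⟩) ↔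
      Set.Finite {x : ↥X | ¬ ∃ U : X.Opens, x ∈ U ∧ Smooth (U.ι ≫ p)} :=
  (geomFib_iff (fun _ _ _ X' q => Set.Finite {x : ↥X' | ¬ ∃ U : X'.Opens, x ∈ U ∧
    Smooth (U.ι ≫ q)}) S k t X p).trans (forall_finite_iff k p)

end Groth.Agent.Lib.Helper8GeomFibSm
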