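import Mathlib
import Groth.Prelude
import Groth.Agent.Lib.Helper8GeomQuot

set_option autoImplicit false

/-!
# A geometric quotient is a categorical quotient
-/

universe u

open CategoryTheory CategoryTheory.Limits MonoidalCategory CartesianMonoidalCategory MonObj
  AlgebraicGeometry

namespace Groth.Agent.Lib.Helper8GeomQuotCat

open Groth.Agent.Lib.Helper8GeomQuot (appLE_congr_hom)

section General

/-- two morphisms agree on an open mapped into an affine open as soon as the ring maps agree. -/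
theorem ι_comp_eq_of_appLE_eq {B Z : Scheme.{u}} (c₁ c₂ : B ⟶ Z) {V : Z.Opens}
    (hV : IsAffineOpen V) (U : B.Opens) (e₁ : U ≤ c₁ ⁻¹ᵁ V) (e₂ : U ≤ c₂ ⁻¹ᵁ V)
    (h : c₁.appLE V U e₁ = c₂.appLE V U e₂) : U.ι ≫ c₁ = U.ι ≫ c₂ := by
  have h1 : c₁.resLE V U e₁ ≫ V.toSpecΓ = c₂.resLE V U e₂ ≫ V.toSpecΓ := by
    rw [← Scheme.Opens.toSpecΓ_SpecMap_appLE, ← Scheme.Opens.toSpecΓ_SpecMap_appLE, h]
  haveI : IsIso V.toSpecΓ := by
    rw [← hV.isoSpec_hom]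
    infer_instance
  have h2 : c₁.resLE V U e₁ = c₂.resLE V U e₂ := (cancel_mono V.toSpecΓ).mp h1
  rw [← Scheme.Hom.resLE_comp_ι c₁ e₁, ← Scheme.Hom.resLE_comp_ι c₂ e₂, h2]

theorem epi_of_surjective_of_app_injective {A B : Scheme.{u}} (f : A ⟶ B)
    (hs : Function.Surjective f) (hinj : ∀ U : B.Opens, Function.Injective (f.app U)) :
    Epi f := by
  refine ⟨fun {Z} c₁ c₂ hc => ?_⟩
  have hpt : ∀ b : B, c₁ b = c₂ b := by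
    intro b
    obtain ⟨a, rfl⟩ := hs b
    rw [← Scheme.Hom.comp_apply, ← Scheme.Hom.comp_apply, hc]
  refine Scheme.hom_ext_of_forall _ _ (fun b => ?_)
  obtain ⟨V, hV, hbV, -⟩ :=
    exists_isAffineOpen_mem_and_subset (X := Z) (x := c₁ b) (U := ⊤) trivial
  have hbV' : c₂ b ∈ V := by
    rw [← hpt b]
    exact hbV
  refine ⟨c₁ ⁻¹ᵁ V ⊓ c₂ ⁻¹ᵁ V, ⟨hbV, hbV'⟩, ?_⟩
  apply ι_comp_eq_of_appLE_eq c₁ c₂ hV _ inf_le_left inf_le_right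
  have h1 : c₁.appLE V (c₁ ⁻¹ᵁ V ⊓ c₂ ⁻¹ᵁ V) inf_le_left ≫ f.app (c₁ ⁻¹ᵁ V ⊓ c₂ ⁻¹ᵁ V) =
      c₂.appLE V (c₁ ⁻¹ᵁ V ⊓ c₂ ⁻¹ᵁ V) inf_le_right ≫ f.app (c₁ ⁻¹ᵁ V ⊓ c₂ ⁻¹ᵁ V) := by
    rw [Scheme.Hom.app_eq_appLE, Scheme.Hom.appLE_comp_appLE, Scheme.Hom.appLE_comp_appLE]
    exact appLE_congr_hom hc _ _ _ _
  apply ConcreteCategory.hom_ext
  intro s
  apply hinj (c₁ ⁻¹ᵁ V ⊓ c₂ ⁻¹ᵁ V)
  exact congrArg (fun ψ => ψ.hom s) h1

theorem epi_morphismRestrict {A B : Scheme.{u}} (f : A ⟶ B)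
    (hs : Function.Surjective f) (hinj : ∀ U : B.Opens, Function.Injective (f.app U))
    (U : B.Opens) : Epi (f ∣_ U) := by
  haveI hsf : Surjective f := ⟨hs⟩
  have hsU : Surjective (f ∣_ U) := IsZariskiLocalAtTarget.restrict hsf U
  refine epi_of_surjective_of_app_injective _ hsU.surj (fun V s₁ s₂ hs' => ?_)
  have e1 : ∀ s, (f ∣_ U).app V s =
      A.presheaf.map (eqToHom (image_morphismRestrict_preimage f U V)).op
        (f.app (U.ι ''ᵁ V) s) :=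
    fun s => congrArg (fun ψ => ψ.hom s) (morphismRestrict_app f U V)
  have hs'' : A.presheaf.map (eqToHom (image_morphismRestrict_preimage f U V)).op
      (f.app (U.ι ''ᵁ V) s₁) =
      A.presheaf.map (eqToHom (image_morphismRestrict_preimage f U V)).op
        (f.app (U.ι ''ᵁ V) s₂) := (e1 s₁).symm.trans (hs'.trans (e1 s₂))
  have hiso : Function.Injective
      (A.presheaf.map (eqToHom (image_morphismRestrict_preimage f U V)).op) :=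
    (ConcreteCategory.bijective_of_isIso _).1
  exact hinj _ (hiso hs'')

theorem exists_ringHom_factor {A B C : CommRingCat.{u}} (i : B ⟶ C) (r : A ⟶ C)
    (hi : Function.Injective i.hom) (hr : ∀ s, r.hom s ∈ Set.range i.hom) :
    ∃ ρ : A ⟶ B, ρ ≫ i = r := by
  choose t ht using hr
  refine ⟨CommRingCat.ofHom
    { toFun := t
      map_one' := hi (by rw [ht, map_one, map_one])
      map_mul' := fun x y => hi (by rw [ht, map_mul, map_mul, ht, ht])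
      map_zero' := hi (by rw [ht, map_zero, map_zero])
      map_add' := fun x y => hi (by rw [ht, map_add, map_add, ht, ht]) }, ?_⟩
  apply CommRingCat.hom_ext
  apply RingHom.ext
  intro s
  exact ht s

/-- local construction of the descended morphism. -/
theorem exists_local_desc {X₀ Y₀ Z₀ P : Scheme.{u}} (f : X₀ ⟶ Y₀) (σ p : P ⟶ X₀) (g : X₀ ⟶ Z₀)
    (hg : σ ≫ g = p ≫ g) (U : Y₀.Opens)
    (hsec : ∀ s : Γ(X₀, f ⁻¹ᵁ U),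
      σ.appLE (f ⁻¹ᵁ U) (σ ⁻¹ᵁ (f ⁻¹ᵁ U) ⊓ p ⁻¹ᵁ (f ⁻¹ᵁ U)) inf_le_left s =
        p.appLE (f ⁻¹ᵁ U) (σ ⁻¹ᵁ (f ⁻¹ᵁ U) ⊓ p ⁻¹ᵁ (f ⁻¹ᵁ U)) inf_le_right s →
      s ∈ Set.range (f.app U))
    (hinj : Function.Injective (f.app U))
    {V : Z₀.Opens} (hV : IsAffineOpen V) (hUV : f ⁻¹ᵁ U ≤ g ⁻¹ᵁ V) :
    ∃ χ : U.toScheme ⟶ Z₀, (f ∣_ U) ≫ χ = (f ⁻¹ᵁ U).ι ≫ g := by
  have hr : ∀ s, (g.appLE V (f ⁻¹ᵁ U) hUV).hom s ∈ Set.range (f.app U).hom := by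
    intro s
    apply hsec
    have h1 : g.appLE V (f ⁻¹ᵁ U) hUV ≫
        σ.appLE (f ⁻¹ᵁ U) (σ ⁻¹ᵁ (f ⁻¹ᵁ U) ⊓ p ⁻¹ᵁ (f ⁻¹ᵁ U)) inf_le_left =
        g.appLE V (f ⁻¹ᵁ U) hUV ≫
          p.appLE (f ⁻¹ᵁ U) (σ ⁻¹ᵁ (f ⁻¹ᵁ U) ⊓ p ⁻¹ᵁ (f ⁻¹ᵁ U)) inf_le_right := by
      rw [Scheme.Hom.appLE_comp_appLE, Scheme.Hom.appLE_comp_appLE]
      exact appLE_congr_hom hg _ _ _ _
    exact congrArg (fun ψ => ψ.hom s) h1
  obtain ⟨ρ, hρ⟩ := exists_ringHom_factor (f.app U) (g.appLE V (f ⁻¹ᵁ U) hUV) hinj hr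
  refine ⟨U.toSpecΓ ≫ Spec.map ρ ≫ hV.fromSpec, ?_⟩
  calc (f ∣_ U) ≫ U.toSpecΓ ≫ Spec.map ρ ≫ hV.fromSpec
      = ((f ⁻¹ᵁ U).toSpecΓ ≫ Spec.map (f.app U)) ≫ Spec.map ρ ≫ hV.fromSpec := by
        rw [Scheme.Opens.toSpecΓ_naturality, Category.assoc]
    _ = (f ⁻¹ᵁ U).toSpecΓ ≫ Spec.map (g.appLE V (f ⁻¹ᵁ U) hUV) ≫ hV.fromSpec := by
        rw [Category.assoc, ← Category.assoc (Spec.map (f.app U)), ← Spec.map_comp, hρ]
    _ = g.resLE V (f ⁻¹ᵁ U) hUV ≫ V.toSpecΓ ≫ hV.fromSpec := by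
        rw [Scheme.Opens.toSpecΓ_SpecMap_appLE_assoc]
    _ = (f ⁻¹ᵁ U).ι ≫ g := by
        rw [hV.toSpecΓ_fromSpec, Scheme.Hom.resLE_comp_ι]

/-- descent of a morphism along a "topological quotient with invariant functions". -/
theorem existsUnique_desc {X₀ Y₀ Z₀ P : Scheme.{u}} (f : X₀ ⟶ Y₀) (σ p : P ⟶ X₀) (g : X₀ ⟶ Z₀)
    (hg : σ ≫ g = p ≫ g) (hsurj : Function.Surjective f)
    (horb : ∀ x₁ x₂ : X₀, f x₁ = f x₂ → ∃ w : P, σ w = x₁ ∧ p w = x₂)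
    (hquot : Topology.IsQuotientMap f)
    (hsec : ∀ U : Y₀.Opens, Function.Injective (f.app U) ∧ ∀ s : Γ(X₀, f ⁻¹ᵁ U),
      σ.appLE (f ⁻¹ᵁ U) (σ ⁻¹ᵁ (f ⁻¹ᵁ U) ⊓ p ⁻¹ᵁ (f ⁻¹ᵁ U)) inf_le_left s =
        p.appLE (f ⁻¹ᵁ U) (σ ⁻¹ᵁ (f ⁻¹ᵁ U) ⊓ p ⁻¹ᵁ (f ⁻¹ᵁ U)) inf_le_right s →
      s ∈ Set.range (f.app U)) :
    ∃! χ : Y₀ ⟶ Z₀, f ≫ χ = g := by
  haveI hepi : Epi f := epi_of_surjective_of_app_injective f hsurj (fun U => (hsec U).1)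
  have hpt : ∀ x₁ x₂ : X₀, f x₁ = f x₂ → g x₁ = g x₂ := by
    intro x₁ x₂ h
    obtain ⟨w, rfl, rfl⟩ := horb x₁ x₂ h
    rw [← Scheme.Hom.comp_apply, ← Scheme.Hom.comp_apply, hg]
  have hsat : ∀ V : Z₀.Opens, (f : X₀ → Y₀) ⁻¹' ((f : X₀ → Y₀) '' ((g : X₀ → Z₀) ⁻¹' (V : Set Z₀))) =
      (g : X₀ → Z₀) ⁻¹' (V : Set Z₀) := by
    intro V
    ext x
    constructor
    · rintro ⟨x', hx', hxx⟩
      show g x ∈ V
      rw [← hpt x' x hxx]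
      exact hx'
    · intro hx
      exact ⟨x, hx, rfl⟩
  have hopen : ∀ V : Z₀.Opens,
      IsOpen ((f : X₀ → Y₀) '' ((g : X₀ → Z₀) ⁻¹' (V : Set Z₀))) := by
    intro V
    rw [← hquot.isOpen_preimage, hsat V]
    exact V.isOpen.preimage g.continuous
  let Uo : Z₀.Opens → Y₀.Opens := fun V => ⟨_, hopen V⟩
  have hUo : ∀ V : Z₀.Opens, f ⁻¹ᵁ (Uo V) = g ⁻¹ᵁ V := by
    intro V
    apply TopologicalSpace.Opens.ext
    exact hsat V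
  have hcover : TopologicalSpace.IsOpenCover (fun V : Z₀.affineOpens => Uo V.1) := by
    apply TopologicalSpace.IsOpenCover.mk
    rw [eq_top_iff]
    intro y _
    obtain ⟨x, rfl⟩ := hsurj y
    obtain ⟨V, hV, hxV, -⟩ :=
      exists_isAffineOpen_mem_and_subset (X := Z₀) (x := g x) (U := ⊤) trivial
    rw [TopologicalSpace.Opens.mem_iSup]
    exact ⟨⟨V, hV⟩, x, hxV, rfl⟩
  have hloc : ∀ V : Z₀.affineOpens, ∃ χ : (Uo V.1).toScheme ⟶ Z₀,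
      (f ∣_ (Uo V.1)) ≫ χ = (f ⁻¹ᵁ (Uo V.1)).ι ≫ g :=
    fun V => exists_local_desc f σ p g hg (Uo V.1) (hsec _).2 (hsec _).1 V.2 (hUo V.1).le
  choose χl hχl using hloc
  have hP : ∀ (V : Z₀.affineOpens) (U' : Y₀.Opens) (hU' : U' ≤ Uo V.1),
      (f ∣_ U') ≫ Y₀.homOfLE hU' ≫ χl V = (f ⁻¹ᵁ U').ι ≫ g := by
    intro V U' hU'
    have e : f ⁻¹ᵁ U' ≤ f ⁻¹ᵁ (Uo V.1) := fun x hx => hU' hx
    have h1 : (f ∣_ U') ≫ Y₀.homOfLE hU' = X₀.homOfLE e ≫ (f ∣_ (Uo V.1)) := by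
      rw [← Scheme.Hom.resLE_eq_morphismRestrict, ← Scheme.Hom.resLE_eq_morphismRestrict,
        Scheme.Hom.resLE_map, Scheme.Hom.map_resLE]
    rw [← Category.assoc, h1, Category.assoc, hχl, ← Category.assoc, Scheme.homOfLE_ι]
  have hcompat : ∀ V V' : Z₀.affineOpens,
      pullback.fst (Uo V.1).ι (Uo V'.1).ι ≫ χl V =
        pullback.snd (Uo V.1).ι (Uo V'.1).ι ≫ χl V' := by
    intro V V'
    have hpb := isPullback_opens_inf (Uo V.1) (Uo V'.1)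
    rw [← cancel_epi hpb.isoPullback.hom, ← Category.assoc, ← Category.assoc,
      hpb.isoPullback_hom_fst, hpb.isoPullback_hom_snd]
    haveI := epi_morphismRestrict f hsurj (fun U => (hsec U).1) (Uo V.1 ⊓ Uo V'.1)
    rw [← cancel_epi (f ∣_ (Uo V.1 ⊓ Uo V'.1)), hP V _ inf_le_left, hP V' _ inf_le_right]
  let 𝒰 : Y₀.OpenCover := Y₀.openCoverOfIsOpenCover _ hcover
  have hglue : f ≫ 𝒰.glueMorphisms χl hcompat = g := by
    refine Scheme.hom_ext_of_forall _ _ (fun x => ?_)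
    obtain ⟨V, hV, hxV, -⟩ :=
      exists_isAffineOpen_mem_and_subset (X := Z₀) (x := g x) (U := ⊤) trivial
    refine ⟨f ⁻¹ᵁ (Uo V), ?_, ?_⟩
    · rw [hUo V]
      exact hxV
    · have hι : (Uo V).ι ≫ 𝒰.glueMorphisms χl hcompat = χl ⟨V, hV⟩ :=
        𝒰.ι_glueMorphisms χl hcompat ⟨V, hV⟩
      rw [← Category.assoc, ← morphismRestrict_ι, Category.assoc, hι]
      exact hχl ⟨V, hV⟩
  exact ⟨𝒰.glueMorphisms χl hcompat, hglue,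
    fun χ' hχ' => (cancel_epi f).mp (hχ'.trans hglue.symm)⟩

end General

section Cat

variable {S : Scheme.{u}} {G : Over S} [GrpObj G]

theorem isCatQuot_of_isGeomQuot {X Y : Over S} (a : AlgGrp.Action G X) (φ : X ⟶ Y)
    (h : GIT.IsGeomQuot a φ) : GIT.IsCatQuot a φ := by
  refine ⟨h.inv, fun Z ψ hψ => ?_⟩
  have hq : Topology.IsQuotientMap φ.left := h.subm (𝟙 _) (𝟙 _) φ.left IsPullback.of_id_snd
  have hΨ1 : GIT.PsiY a φ h.inv ≫ pullback.fst φ.left φ.left = a.act.left :=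
    pullback.lift_fst _ _ _
  have hΨ2 : GIT.PsiY a φ h.inv ≫ pullback.snd φ.left φ.left = (snd G X).left :=
    pullback.lift_snd _ _ _
  have horb : ∀ x₁ x₂ : X.left, φ.left x₁ = φ.left x₂ →
      ∃ w : ↥(G ⊗ X).left, a.act.left w = x₁ ∧ (snd G X).left w = x₂ := by
    intro x₁ x₂ hx
    obtain ⟨z, hz1, hz2⟩ :=
      Scheme.Pullback.exists_preimage_pullback (f := φ.left) (g := φ.left) x₁ x₂ hx
    obtain ⟨w, hw⟩ := h.orbit z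
    have hw' : (GIT.PsiY a φ h.inv) w = z := hw
    refine ⟨w, ?_, ?_⟩
    · rw [← hΨ1, Scheme.Hom.comp_apply, hw']
      exact hz1
    · rw [← hΨ2, Scheme.Hom.comp_apply, hw']
      exact hz2
  have hψ' : a.act.left ≫ ψ.left = (snd G X).left ≫ ψ.left := hψ.left
  have hsec : ∀ U : Y.left.Opens, Function.Injective (φ.left.app U) ∧
      ∀ s : Γ(X.left, φ.left ⁻¹ᵁ U),
        a.act.left.appLE (φ.left ⁻¹ᵁ U)
          (a.act.left ⁻¹ᵁ (φ.left ⁻¹ᵁ U) ⊓ (snd G X).left ⁻¹ᵁ (φ.left ⁻¹ᵁ U)) inf_le_left s =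
        (snd G X).left.appLE (φ.left ⁻¹ᵁ U)
          (a.act.left ⁻¹ᵁ (φ.left ⁻¹ᵁ U) ⊓ (snd G X).left ⁻¹ᵁ (φ.left ⁻¹ᵁ U)) inf_le_right s →
        s ∈ Set.range (φ.left.app U) := by
    intro U
    refine ⟨(h.sections U).1, fun s hs => ?_⟩
    rw [(h.sections U).2]
    exact hs
  obtain ⟨χ₀, hχ₀, huniq⟩ := existsUnique_desc φ.left a.act.left (snd G X).left ψ.left hψ'
    h.surj horb hq hsec
  haveI : Epi φ.left :=
    epi_of_surjective_of_app_injective φ.left h.surj (fun U => (h.sections U).1)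
  have hw : χ₀ ≫ Z.hom = Y.hom := by
    rw [← cancel_epi φ.left, ← Category.assoc, hχ₀, Over.w ψ, Over.w φ]
  refine ⟨Over.homMk χ₀ hw, ?_, fun χ' hχ' => ?_⟩
  · apply Over.OverMorphism.ext
    exact hχ₀
  · apply Over.OverMorphism.ext
    have hχ'' : φ ≫ χ' = ψ := hχ'
    have h3 : φ.left ≫ χ'.left = ψ.left := by rw [← Over.comp_left, hχ'']
    exact huniq χ'.left h3

/-- S11427. -/
theorem main11427 {X Y : Over S} (a : AlgGrp.Action G X) (φ : X ⟶ Y)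
    (h : GIT.IsGeomQuot a φ) :
    GIT.IsCatQuot a φ ∧ (GIT.IsUnivGeomQuot a φ → GIT.IsUnivCatQuot a φ) := by
  refine ⟨isCatQuot_of_isGeomQuot a φ h, fun hU => ⟨isCatQuot_of_isGeomQuot a φ h, ?_⟩⟩
  intro X' Y' pr φ' g hg hpb a' heq hinv
  exact isCatQuot_of_isGeomQuot a' φ' (hU.2 pr φ' g hg hpb a' heq hinv)

end Cat

end Groth.Agent.Lib.Helper8GeomQuotCat
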