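import Mathlib
import Groth.Prelude
import Groth.Agent.Lib.Helper8GeomQuotCat

set_option autoImplicit false

/-!
# Categorical quotients from invariant functions and closed images
-/

universe u

open CategoryTheory CategoryTheory.Limits MonoidalCategory CartesianMonoidalCategory MonObj
  AlgebraicGeometry

namespace Groth.Agent.Lib.Helper8GeomQuotCat2

open Groth.Agent.Lib.Helper8GeomQuotCat

section General

/-- descent of a morphism along `f`, given an open cover of the target adapted to an affine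
cover of `Z₀`. -/
theorem existsUnique_desc_of_cover {X₀ Y₀ Z₀ P : Scheme.{u}} (f : X₀ ⟶ Y₀) (σ p : P ⟶ X₀)
    (g : X₀ ⟶ Z₀) (hg : σ ≫ g = p ≫ g) (hsurj : Function.Surjective f)
    (hsec : ∀ U : Y₀.Opens, Function.Injective (f.app U) ∧ ∀ s : Γ(X₀, f ⁻¹ᵁ U),
      σ.appLE (f ⁻¹ᵁ U) (σ ⁻¹ᵁ (f ⁻¹ᵁ U) ⊓ p ⁻¹ᵁ (f ⁻¹ᵁ U)) inf_le_left s =
        p.appLE (f ⁻¹ᵁ U) (σ ⁻¹ᵁ (f ⁻¹ᵁ U) ⊓ p ⁻¹ᵁ (f ⁻¹ᵁ U)) inf_le_right s →
      s ∈ Set.range (f.app U))
    (hcov : ∀ y : Y₀, ∃ (U : Y₀.Opens) (V : Z₀.Opens),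
      y ∈ U ∧ IsAffineOpen V ∧ f ⁻¹ᵁ U ≤ g ⁻¹ᵁ V) :
    ∃! χ : Y₀ ⟶ Z₀, f ≫ χ = g := by
  haveI hepi : Epi f := epi_of_surjective_of_app_injective f hsurj (fun U => (hsec U).1)
  choose Uo Vo hyU hV hUV using hcov
  have hcover : TopologicalSpace.IsOpenCover (fun y : Y₀ => Uo y) := by
    apply TopologicalSpace.IsOpenCover.mk
    rw [eq_top_iff]
    intro y _
    rw [TopologicalSpace.Opens.mem_iSup]
    exact ⟨y, hyU y⟩
  have hloc : ∀ y : Y₀, ∃ χ : (Uo y).toScheme ⟶ Z₀,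
      (f ∣_ (Uo y)) ≫ χ = (f ⁻¹ᵁ (Uo y)).ι ≫ g :=
    fun y => exists_local_desc f σ p g hg (Uo y) (hsec _).2 (hsec _).1 (hV y) (hUV y)
  choose χl hχl using hloc
  have hP : ∀ (y : Y₀) (U' : Y₀.Opens) (hU' : U' ≤ Uo y),
      (f ∣_ U') ≫ Y₀.homOfLE hU' ≫ χl y = (f ⁻¹ᵁ U').ι ≫ g := by
    intro y U' hU'
    have e : f ⁻¹ᵁ U' ≤ f ⁻¹ᵁ (Uo y) := fun x hx => hU' hx
    have h1 : (f ∣_ U') ≫ Y₀.homOfLE hU' = X₀.homOfLE e ≫ (f ∣_ (Uo y)) := by
      rw [← Scheme.Hom.resLE_eq_morphismRestrict, ← Scheme.Hom.resLE_eq_morphismRestrict,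
        Scheme.Hom.resLE_map, Scheme.Hom.map_resLE]
    rw [← Category.assoc, h1, Category.assoc, hχl, ← Category.assoc, Scheme.homOfLE_ι]
  have hcompat : ∀ y y' : Y₀,
      pullback.fst (Uo y).ι (Uo y').ι ≫ χl y = pullback.snd (Uo y).ι (Uo y').ι ≫ χl y' := by
    intro y y'
    have hpb := isPullback_opens_inf (Uo y) (Uo y')
    rw [← cancel_epi hpb.isoPullback.hom, ← Category.assoc, ← Category.assoc,
      hpb.isoPullback_hom_fst, hpb.isoPullback_hom_snd]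
    haveI := epi_morphismRestrict f hsurj (fun U => (hsec U).1) (Uo y ⊓ Uo y')
    rw [← cancel_epi (f ∣_ (Uo y ⊓ Uo y')), hP y _ inf_le_left, hP y' _ inf_le_right]
  let 𝒰 : Y₀.OpenCover := Y₀.openCoverOfIsOpenCover _ hcover
  have hglue : f ≫ 𝒰.glueMorphisms χl hcompat = g := by
    refine Scheme.hom_ext_of_forall _ _ (fun x => ?_)
    refine ⟨f ⁻¹ᵁ (Uo (f x)), hyU (f x), ?_⟩
    have hι : (Uo (f x)).ι ≫ 𝒰.glueMorphisms χl hcompat = χl (f x) :=
      𝒰.ι_glueMorphisms χl hcompat (f x)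
    rw [← Category.assoc, ← morphismRestrict_ι, Category.assoc, hι]
    exact hχl (f x)
  exact ⟨𝒰.glueMorphisms χl hcompat, hglue,
    fun χ' hχ' => (cancel_epi f).mp (hχ'.trans hglue.symm)⟩

end General

section Cat

variable {S : Scheme.{u}} {G : Over S} [GrpObj G]

/-- S11445. -/
theorem main11445 {X Y : Over S} (a : AlgGrp.Action G X) (φ : X ⟶ Y) (hi : GIT.IsInvariant a φ)
    (hii : ∀ U : Y.left.Opens,
      Function.Injective (φ.left.app U) ∧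
        Set.range (φ.left.app U) = {f | GIT.IsInvSection a φ U f})
    (hiii : ∀ W : Set X.left, IsClosed W →
      a.act.left.base '' ((snd G X).left.base ⁻¹' W) ⊆ W → IsClosed (φ.left.base '' W))
    (hiii' : ∀ (J : Type u) (W : J → Set X.left),
      (∀ i, IsClosed (W i) ∧ a.act.left.base '' ((snd G X).left.base ⁻¹' W i) ⊆ W i) →
      φ.left.base '' (⋂ i, W i) = ⋂ i, φ.left.base '' W i) :
    GIT.IsCatQuot a φ ∧ Topology.IsQuotientMap φ.left.base := by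
  have hsurj : Function.Surjective φ.left.base := by
    have h0 := hiii' PEmpty (fun i => i.elim) (fun i => i.elim)
    rw [Set.iInter_of_empty, Set.iInter_of_empty, Set.image_univ] at h0
    exact Set.range_eq_univ.mp h0
  -- preimages of sets under an invariant morphism are invariant
  have hinvset : ∀ {Z : Over S} (ψ : X ⟶ Z), GIT.IsInvariant a ψ → ∀ C : Set Z.left,
      a.act.left.base '' ((snd G X).left.base ⁻¹' (ψ.left.base ⁻¹' C)) ⊆ ψ.left.base ⁻¹' C := by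
    rintro Z ψ hψ C _ ⟨q, hq, rfl⟩
    show (a.act.left ≫ ψ.left) q ∈ C
    rw [hψ.left]
    exact hq
  have hquot : Topology.IsQuotientMap φ.left.base := by
    rw [Topology.isQuotientMap_iff_isClosed]
    refine ⟨hsurj, fun C => ⟨fun hC => hC.preimage φ.left.continuous, fun hC => ?_⟩⟩
    have := hiii _ hC (hinvset φ hi C)
    rwa [Set.image_preimage_eq C hsurj] at this
  refine ⟨⟨hi, fun Z ψ hψ => ?_⟩, hquot⟩
  have hψ' : a.act.left ≫ ψ.left = (snd G X).left ≫ ψ.left := hψ.left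
  have hsec : ∀ U : Y.left.Opens, Function.Injective (φ.left.app U) ∧
      ∀ s : Γ(X.left, φ.left ⁻¹ᵁ U),
        a.act.left.appLE (φ.left ⁻¹ᵁ U)
          (a.act.left ⁻¹ᵁ (φ.left ⁻¹ᵁ U) ⊓ (snd G X).left ⁻¹ᵁ (φ.left ⁻¹ᵁ U)) inf_le_left s =
        (snd G X).left.appLE (φ.left ⁻¹ᵁ U)
          (a.act.left ⁻¹ᵁ (φ.left ⁻¹ᵁ U) ⊓ (snd G X).left ⁻¹ᵁ (φ.left ⁻¹ᵁ U)) inf_le_right s →
        s ∈ Set.range (φ.left.app U) := by
    intro U
    refine ⟨(hii U).1, fun s hs => ?_⟩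
    rw [(hii U).2]
    exact hs
  have hcov : ∀ y : Y.left, ∃ (U : Y.left.Opens) (V : Z.left.Opens),
      y ∈ U ∧ IsAffineOpen V ∧ φ.left ⁻¹ᵁ U ≤ ψ.left ⁻¹ᵁ V := by
    intro y
    have hW : ∀ V : Z.left.affineOpens,
        IsClosed ((ψ.left.base ⁻¹' (V.1 : Set Z.left))ᶜ) ∧
          a.act.left.base '' ((snd G X).left.base ⁻¹' ((ψ.left.base ⁻¹' (V.1 : Set Z.left))ᶜ)) ⊆
            (ψ.left.base ⁻¹' (V.1 : Set Z.left))ᶜ := by
      intro V
      refine ⟨(V.1.isOpen.preimage ψ.left.continuous).isClosed_compl, ?_⟩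
      have := hinvset ψ hψ ((V.1 : Set Z.left)ᶜ)
      exact this
    have hinter := hiii' Z.left.affineOpens
      (fun V => (ψ.left.base ⁻¹' (V.1 : Set Z.left))ᶜ) hW
    have hempty : (⋂ V : Z.left.affineOpens, (ψ.left.base ⁻¹' (V.1 : Set Z.left))ᶜ) = ∅ := by
      rw [Set.eq_empty_iff_forall_notMem]
      intro x hx
      rw [Set.mem_iInter] at hx
      obtain ⟨V, hV, hxV, -⟩ :=
        exists_isAffineOpen_mem_and_subset (X := Z.left) (x := ψ.left x) (U := ⊤) trivial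
      exact hx ⟨V, hV⟩ hxV
    rw [hempty, Set.image_empty] at hinter
    have hy : y ∉ ⋂ V : Z.left.affineOpens,
        φ.left.base '' ((ψ.left.base ⁻¹' (V.1 : Set Z.left))ᶜ) := by
      rw [← hinter]
      exact Set.notMem_empty y
    rw [Set.mem_iInter, not_forall] at hy
    obtain ⟨V, hyV⟩ := hy
    refine ⟨⟨(φ.left.base '' ((ψ.left.base ⁻¹' (V.1 : Set Z.left))ᶜ))ᶜ,
      (hiii _ (hW V).1 (hW V).2).isOpen_compl⟩, V.1, hyV, V.2, ?_⟩
    intro x hx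
    by_contra hxV
    exact hx ⟨x, hxV, rfl⟩
  obtain ⟨χ₀, hχ₀, huniq⟩ := existsUnique_desc_of_cover φ.left a.act.left (snd G X).left ψ.left
    hψ' hsurj hsec hcov
  haveI : Epi φ.left :=
    epi_of_surjective_of_app_injective φ.left hsurj (fun U => (hii U).1)
  have hw : χ₀ ≫ Z.hom = Y.hom := by
    rw [← cancel_epi φ.left, ← Category.assoc, hχ₀, Over.w ψ, Over.w φ]
  refine ⟨Over.homMk χ₀ hw, ?_, fun χ' hχ' => ?_⟩
  · apply Over.OverMorphism.ext
    exact hχ₀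
  · apply Over.OverMorphism.ext
    have hχ'' : φ ≫ χ' = ψ := hχ'
    have h3 : φ.left ≫ χ'.left = ψ.left := by rw [← Over.comp_left, hχ'']
    exact huniq χ'.left h3

end Cat

end Groth.Agent.Lib.Helper8GeomQuotCat2
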