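import Mathlib
import Groth.Prelude

set_option autoImplicit false

/-!
# Consequences of being a geometric quotient: universal openness, closedness of the action
-/

universe u

open CategoryTheory CategoryTheory.Limits MonoidalCategory CartesianMonoidalCategory MonObj
  AlgebraicGeometry

namespace Groth.Agent.Lib.Helper8GeomQuotOpen

section Open

variable {S : Scheme.{u}} {G X Y : Over S} [GrpObj G]

/-- A geometric quotient by a group scheme whose projection `G × X ⟶ X` is universally open
is universally open. -/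
theorem universallyOpen_of_isGeomQuot (a : AlgGrp.Action G X) (φ : X ⟶ Y)
    (h : GIT.IsGeomQuot a φ) [UniversallyOpen (snd G X).left] : UniversallyOpen φ.left := by
  refine ⟨fun X' Y' i₁ i₂ f' hpb => ?_⟩
  have hq : Topology.IsQuotientMap f' := h.subm i₁ i₂ f' hpb
  haveI : Surjective (GIT.PsiY a φ h.inv) := ⟨h.orbit⟩
  let κ : pullback f' f' ⟶ pullback φ.left φ.left :=
    pullback.map f' f' φ.left φ.left i₁ i₁ i₂ hpb.w hpb.w
  have hκ₁ : κ ≫ pullback.fst φ.left φ.left = pullback.fst f' f' ≫ i₁ :=
    pullback.lift_fst _ _ _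
  have hκ₂ : κ ≫ pullback.snd φ.left φ.left = pullback.snd f' f' ≫ i₁ :=
    pullback.lift_snd _ _ _
  have s : IsPullback (κ ≫ pullback.fst φ.left φ.left) (pullback.snd f' f') φ.left
      (i₁ ≫ φ.left) := by
    rw [hκ₁, ← hpb.w]
    exact (IsPullback.of_hasPullback f' f').paste_horiz hpb.flip
  have t : IsPullback κ (pullback.snd f' f') (pullback.snd φ.left φ.left) i₁ :=
    IsPullback.of_right s hκ₂ (IsPullback.of_hasPullback φ.left φ.left)
  have hΨ : GIT.PsiY a φ h.inv ≫ pullback.snd φ.left φ.left = (snd G X).left :=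
    pullback.lift_snd _ _ _
  have pb : IsPullback (pullback.fst (GIT.PsiY a φ h.inv) κ)
      (pullback.snd (GIT.PsiY a φ h.inv) κ ≫ pullback.snd f' f') (snd G X).left i₁ := by
    rw [← hΨ]
    exact (IsPullback.of_hasPullback (GIT.PsiY a φ h.inv) κ).paste_vert t
  haveI : UniversallyOpen (pullback.snd (GIT.PsiY a φ h.inv) κ ≫ pullback.snd f' f') :=
    MorphismProperty.of_isPullback (P := @UniversallyOpen) pb inferInstance
  let sW : pullback (GIT.PsiY a φ h.inv) κ ⟶ pullback f' f' := pullback.snd (GIT.PsiY a φ h.inv) κ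
  let q₁ : pullback f' f' ⟶ X' := pullback.fst f' f'
  let q₂ : pullback f' f' ⟶ X' := pullback.snd f' f'
  have hcond : q₁ ≫ f' = q₂ ≫ f' := pullback.condition
  haveI : UniversallyOpen (sW ≫ q₂) := this
  show IsOpenMap f'
  intro U' hU'
  rw [← hq.isOpen_preimage]
  have hset : (f' : X' → Y') ⁻¹' ((f' : X' → Y') '' U') =
      (sW ≫ q₂ : _ → X') '' ((sW ≫ q₁ : _ → X') ⁻¹' U') := by
    ext x'
    constructor
    · rintro ⟨u', hu', hux⟩
      obtain ⟨z, hz1, hz2⟩ :=
        Scheme.Pullback.exists_preimage_pullback (f := f') (g := f') u' x' hux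
      obtain ⟨w, hw⟩ := sW.surjective z
      refine ⟨w, ?_, ?_⟩
      · show (sW ≫ q₁) w ∈ U'
        rw [Scheme.Hom.comp_apply, hw]
        show pullback.fst f' f' z ∈ U'
        rw [hz1]
        exact hu'
      · rw [Scheme.Hom.comp_apply, hw]
        exact hz2
    · rintro ⟨w, hw, rfl⟩
      refine ⟨(sW ≫ q₁) w, hw, ?_⟩
      rw [← Scheme.Hom.comp_apply, ← Scheme.Hom.comp_apply, Category.assoc, Category.assoc, hcond]
  rw [hset]
  exact (sW ≫ q₂).isOpenMap _ (hU'.preimage (sW ≫ q₁).continuous)

end Open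

/-- S18504. -/
theorem main18504 (k : Type u) [Field k]
    (G X Y : Over (Spec (CommRingCat.of k))) [GrpObj G] [LocallyOfFiniteType G.hom]
    (a : AlgGrp.Action G X) (φ : X ⟶ Y) (h : GIT.IsGeomQuot a φ) :
    UniversallyOpen φ.left := by
  haveI : LocallyOfFinitePresentation G.hom :=
    LocallyOfFinitePresentation.iff_locallyOfFiniteType.mpr inferInstance
  haveI : Flat G.hom := inferInstance
  haveI : UniversallyOpen G.hom := inferInstance
  haveI : UniversallyOpen (snd G X).left := by
    show UniversallyOpen (pullback.snd G.hom X.hom)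
    infer_instance
  exact universallyOpen_of_isGeomQuot a φ h

end Groth.Agent.Lib.Helper8GeomQuotOpen
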