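/-
Helper library (helper8): stage subalgebras of an abstract strict henselization `S` of `A`:
every finite subset of `S` lies in an `A`-subalgebra `E` of `S` which is an essentially étale local
`A`-algebra, dominated by `S`, and such that `S` is "faithfully flat over `E`" in the weak form of
descent of divisibility by elements of `A`.
-/
import Mathlib
import Groth.Prelude.Def_EssEt
import Groth.Prelude.Def_Hensel
import Groth.Agent.Lib.Helper8EssEtSub

set_option autoImplicit false
universe u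

namespace Groth.Agent.Lib.Helper8ShStage

open IsLocalRing Groth.Agent.Lib.Helper3.Sh Groth.Agent.Lib.Helper3.EssEt
  Groth.Agent.Lib.Helper8EssEtSub

theorem exists_stage (A S : Type u) [CommRing A] [IsLocalRing A] [CommRing S] [IsLocalRing S]
    [Algebra A S] [IsLocalHom (algebraMap A S)] [hS : Hensel.IsStrictHenselization A S]
    (s : Finset S) :
    ∃ E : Subalgebra A S, (s : Set S) ⊆ (E : Set S) ∧
      (∃ _ : IsLocalRing E, EGA4loc.IsEssentiallyEtale A E) ∧
      (∀ x : E, IsUnit (x : S) → IsUnit x) ∧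
      (∀ (a : A) (d : S), algebraMap A S a * d ∈ E →
        ∃ d' ∈ E, algebraMap A S a * d' = algebraMap A S a * d) := by
  classical
  let Ω := SeparableClosure (IsLocalRing.ResidueField A)
  letI : Algebra A Ω :=
    ((algebraMap (IsLocalRing.ResidueField A) Ω).comp (IsLocalRing.residue A)).toAlgebra
  haveI : IsScalarTower A (IsLocalRing.ResidueField A) Ω :=
    IsScalarTower.of_algebraMap_eq (fun _ => rfl)
  obtain ⟨σ⟩ := nonempty_algEquiv (R := A) (Ω := Ω) S
  let x : Fin s.card → Rsh A Ω := fun k => σ ((s.equivFin.symm k : s) : S)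
  obtain ⟨i, x', hx'⟩ := exists_ofL_fin x
  have hinj : Function.Injective (ofL i) := ofL_injective i
  let φ : i.L →ₐ[A] S := (σ.symm : Rsh A Ω →ₐ[A] S).comp (ofLₐ i)
  have hφ : ∀ y : i.L, φ y = σ.symm (ofL i y) := fun y => rfl
  have hφinj : Function.Injective φ := σ.symm.injective.comp hinj
  have hmemE : ∀ z : S, z ∈ φ.range ↔ ∃ y : i.L, φ y = z := fun z => Iff.rfl
  have hgen : (s : Set S) ⊆ (φ.range : Set S) := by
    intro d hd
    have hd' : d ∈ s := hd
    refine (hmemE d).mpr ⟨x' (s.equivFin ⟨d, hd'⟩), ?_⟩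
    rw [hφ, hx']
    simp only [x, Equiv.symm_apply_apply, AlgEquiv.symm_apply_apply]
  have hunit : ∀ y : i.L, IsUnit (φ y) → IsUnit y := by
    intro y hy
    have h1 : IsUnit (σ (φ y)) := hy.map σ
    rw [hφ, AlgEquiv.apply_symm_apply] at h1
    exact isUnit_ofL_iff.mp h1
  let eE : i.L ≃ₐ[A] φ.range := AlgEquiv.ofInjective φ hφinj
  have heE : ∀ y : i.L, ((eE y : φ.range) : S) = φ y := fun y => rfl
  haveI : IsLocalRing φ.range := eE.toRingEquiv.isLocalRing
  refine ⟨φ.range, hgen, ⟨inferInstance, ?_⟩, ?_, ?_⟩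
  · obtain ⟨C, hC1, hC2, q, hq, hEt, hcomap, ⟨e0⟩⟩ := i.isEssentiallyEtale
    exact ⟨C, hC1, hC2, q, hq, hEt, hcomap, ⟨eE.symm.trans e0⟩⟩
  · intro z hz
    obtain ⟨y, hy⟩ := eE.surjective z
    have h1 : IsUnit (φ y) := by rw [← heE, hy]; exact hz
    rw [← hy]
    exact (hunit y h1).map eE
  · intro a d had
    obtain ⟨y, hy⟩ := (hmemE _).mp had
    letI := (ofL i).toAlgebra
    haveI : IsLocalHom (algebraMap i.L (Rsh A Ω)) := inferInstanceAs (IsLocalHom (ofL i))
    haveI := flat_over_L i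
    haveI : Module.FaithfullyFlat i.L (Rsh A Ω) := Module.FaithfullyFlat.of_flat_of_isLocalHom
    have hσ : ofL i y = ofL i (algebraMap A i.L a) * σ d := by
      have h1 : σ (φ y) = σ (algebraMap A S a * d) := by rw [hy]
      rw [hφ, AlgEquiv.apply_symm_apply, map_mul, AlgEquiv.commutes, algebraMap_eq i] at h1
      exact h1
    have hmem : y ∈ ((Ideal.span {algebraMap A i.L a}).map
        (algebraMap i.L (Rsh A Ω))).comap (algebraMap i.L (Rsh A Ω)) := by
      rw [Ideal.mem_comap, Ideal.map_span, Set.image_singleton, Ideal.mem_span_singleton']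
      exact ⟨σ d, by rw [mul_comm]; exact hσ.symm⟩
    rw [Ideal.comap_map_eq_self_of_faithfullyFlat, Ideal.mem_span_singleton'] at hmem
    obtain ⟨y', hy'⟩ := hmem
    refine ⟨φ y', (hmemE _).mpr ⟨y', rfl⟩, ?_⟩
    rw [← hy, ← hy', map_mul, AlgHom.commutes, mul_comm]

end Groth.Agent.Lib.Helper8ShStage
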