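/-
Helper library (helper8): total ring of fractions of a reduced ring with finitely many minimal primes
is Artinian; total ring of fractions of an essentially étale local algebra over such a ring.
-/
import Mathlib
import Groth.Prelude.Def_EssEt
import Groth.Agent.Lib.Helper3EssEt

set_option autoImplicit false
universe u

namespace Groth.Agent.Lib.Helper8TotFrac

open TensorProduct

section Artinian

variable (A : Type u) [CommRing A] [IsReduced A]

/-- In a reduced ring with finitely many minimal primes, a prime consisting of zero divisors is a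
minimal prime. -/
theorem mem_minimalPrimes_of_disjoint (hmin : (minimalPrimes A).Finite) (p : Ideal A)
    [hp : p.IsPrime] (hd : Disjoint (p : Set A) (nonZeroDivisors A : Set A)) :
    p ∈ minimalPrimes A := by
  classical
  have hrad : (⊥ : Ideal A).radical = ⊥ := nilradical_eq_zero A
  have hsub : (p : Set A) ⊆ ⋃ q ∈ (hmin.toFinset : Set (Ideal A)), ((id q : Ideal A) : Set A) := by
    intro x hx
    have hx' : x ∉ nonZeroDivisors A := fun h => Set.disjoint_left.mp hd hx h
    rw [mem_nonZeroDivisors_iff_left] at hx'
    push Not at hx'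
    obtain ⟨y, hxy, hy⟩ := hx'
    have hmem : x ∈ {x | ∃ y ∉ (⊥ : Ideal A).radical, x * y ∈ (⊥ : Ideal A).radical} := by
      refine ⟨y, ?_, ?_⟩
      · rw [hrad]; exact hy
      · rw [hrad, hxy]; exact Ideal.zero_mem _
    rw [← Ideal.iUnion_minimalPrimes] at hmem
    simp only [Set.mem_iUnion, SetLike.mem_coe, exists_prop] at hmem ⊢
    obtain ⟨q, hq, hxq⟩ := hmem
    exact ⟨q, by simpa using hq, hxq⟩
  obtain ⟨q, hq, hpq⟩ := (Ideal.subset_union_prime (s := hmin.toFinset) (f := id) ⊥ ⊥
    (fun i hi _ _ => by
      have : i ∈ minimalPrimes A := by simpa using hi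
      exact this.1.1)).mp hsub
  have hq' : q ∈ minimalPrimes A := by simpa using hq
  have : q ≤ p := hq'.2 ⟨hp, bot_le⟩ hpq
  have : p = q := le_antisymm hpq this
  rw [this]; exact hq'

/-- The total ring of fractions of a reduced ring with finitely many minimal primes is Artinian
(a finite product of fields). -/
theorem isArtinianRing_fractionRing (hmin : (minimalPrimes A).Finite) :
    IsArtinianRing (FractionRing A) := by
  classical
  set Q := FractionRing A
  haveI : IsReduced Q := inferInstanceAs (IsReduced (Localization (nonZeroDivisors A)))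
  have hcomap : ∀ P : Ideal Q, P.IsPrime → P.comap (algebraMap A Q) ∈ minimalPrimes A := by
    intro P hP
    haveI := hP
    apply mem_minimalPrimes_of_disjoint A hmin
    rw [Set.disjoint_left]
    intro x hx hx'
    exact hP.ne_top (Ideal.eq_top_of_isUnit_mem _ hx
      (IsLocalization.map_units Q (⟨x, hx'⟩ : nonZeroDivisors A)))
  have hinj : ∀ P P' : Ideal Q, P.comap (algebraMap A Q) = P'.comap (algebraMap A Q) → P = P' := by
    intro P P' h
    have h1 := IsLocalization.map_under (nonZeroDivisors A) Q P
    have h2 := IsLocalization.map_under (nonZeroDivisors A) Q P'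
    rw [← h1, ← h2]
    exact congrArg (Ideal.map (algebraMap A Q)) h
  have hmax : ∀ P : Ideal Q, P.IsPrime → P.IsMaximal := by
    intro P hP
    obtain ⟨m, hm, hPm⟩ := Ideal.exists_le_maximal P hP.ne_top
    have h1 := hcomap P hP
    have h2 := hcomap m hm.isPrime
    have : m.comap (algebraMap A Q) ≤ P.comap (algebraMap A Q) :=
      h2.2 ⟨h1.1.1, bot_le⟩ (Ideal.comap_mono hPm)
    have : P = m := hinj _ _ (le_antisymm (Ideal.comap_mono hPm) this)
    rw [this]; exact hm
  haveI hfin : Finite (PrimeSpectrum Q) := by
    let g : PrimeSpectrum Q → Ideal A := fun P => P.asIdeal.comap (algebraMap A Q)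
    have hg : Function.Injective g := fun P P' h => PrimeSpectrum.ext (hinj _ _ h)
    have hf : (g ⁻¹' minimalPrimes A).Finite := hmin.preimage hg.injOn
    have huniv : g ⁻¹' minimalPrimes A = Set.univ :=
      Set.eq_univ_of_forall fun P => hcomap _ P.2
    rw [huniv] at hf
    exact Set.finite_univ_iff.mp hf
  let f : PrimeSpectrum Q → Ideal Q := fun P => P.asIdeal
  have hcop : Pairwise (Function.onFun IsCoprime f) := by
    intro P P' hne
    rw [Function.onFun, Ideal.isCoprime_iff_sup_eq]
    exact Ideal.IsMaximal.coprime_of_ne (hmax _ P.2) (hmax _ P'.2)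
      (fun h => hne (PrimeSpectrum.ext h))
  have hinf : ⨅ P, f P = ⊥ := by
    rw [eq_bot_iff]
    have h0 : nilradical Q = ⊥ := nilradical_eq_zero Q
    rw [← h0, nilradical_eq_sInf]
    refine le_sInf fun J hJ => ?_
    exact iInf_le f ⟨J, hJ⟩
  let e : Q ≃+* ∀ P : PrimeSpectrum Q, Q ⧸ f P :=
    (RingEquiv.quotientBot Q).symm.trans
      ((Ideal.quotEquivOfEq hinf.symm).trans (Ideal.quotientInfRingEquivPiQuotient f hcop))
  haveI : ∀ P : PrimeSpectrum Q, IsArtinianRing (Q ⧸ f P) := fun P => by
    haveI : (f P).IsMaximal := hmax _ P.2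
    letI := Ideal.Quotient.field (f P)
    infer_instance
  exact e.symm.isArtinianRing

end Artinian

section EssEt

variable (A E : Type u) [CommRing A] [IsLocalRing A] [CommRing E] [Algebra A E]

theorem flat_of_isEssentiallyEtale (hE : EGA4loc.IsEssentiallyEtale A E) : Module.Flat A E := by
  obtain ⟨C, _, _, q, _, hC, hq, ⟨e⟩⟩ := hE
  haveI := hC
  haveI : Module.Flat A C := inferInstance
  haveI : Module.Flat A (Localization.AtPrime q) := Module.Flat.trans A C _
  exact Module.Flat.of_linearEquiv e.toLinearEquiv

/-- `K_A ⊗_A E` is a finite `K_A`-module. -/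
theorem finite_tensor [IsReduced A] (hmin : (minimalPrimes A).Finite)
    (hE : EGA4loc.IsEssentiallyEtale A E) :
    Module.Finite (FractionRing A) (FractionRing A ⊗[A] E) := by
  haveI hArt : IsArtinianRing (FractionRing A) := isArtinianRing_fractionRing A hmin
  haveI : Algebra.EssFiniteType A E :=
    Groth.Agent.Lib.Helper3.EssEt.essFiniteType_of_isEssentiallyEtale A E hE
  haveI : Algebra.FormallyEtale A E :=
    Groth.Agent.Lib.Helper3.EssEt.formallyEtale_of_isEssentiallyEtale A E hE
  haveI : Algebra.QuasiFinite A E := inferInstance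
  haveI : Algebra.QuasiFinite (FractionRing A) (FractionRing A ⊗[A] E) := inferInstance
  exact Module.Finite.of_quasiFinite

attribute [local instance] Algebra.TensorProduct.rightAlgebra

/-- The total ring of fractions of an essentially étale local algebra `E` over a reduced local ring
`A` with finitely many minimal primes: it is `E ⊗_A K_A`, and it is a finite `K_A`-module. -/
theorem main [IsReduced A] (hmin : (minimalPrimes A).Finite)
    (hE : EGA4loc.IsEssentiallyEtale A E) :
    IsLocalization (Algebra.algebraMapSubmonoid E (nonZeroDivisors A)) (FractionRing E) ∧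
      IsArtinianRing (FractionRing A) ∧
      ∃ _ : Algebra (FractionRing A) (FractionRing E),
        IsScalarTower A (FractionRing A) (FractionRing E) ∧
          Module.Finite (FractionRing A) (FractionRing E) := by
  classical
  haveI hArt : IsArtinianRing (FractionRing A) := isArtinianRing_fractionRing A hmin
  haveI hflat : Module.Flat A E := flat_of_isEssentiallyEtale A E hE
  haveI : Algebra.EssFiniteType A E :=
    Groth.Agent.Lib.Helper3.EssEt.essFiniteType_of_isEssentiallyEtale A E hE
  haveI : Algebra.FormallyEtale A E :=
    Groth.Agent.Lib.Helper3.EssEt.formallyEtale_of_isEssentiallyEtale A E hE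
  haveI : Algebra.QuasiFinite A E := inferInstance
  set Q := FractionRing A
  set K := FractionRing E
  let T := Q ⊗[A] E
  haveI : Algebra.QuasiFinite Q T := inferInstance
  haveI hfinT : Module.Finite Q T := Module.Finite.of_quasiFinite
  haveI : IsArtinianRing T := IsArtinianRing.of_finite Q T
  let M := Algebra.algebraMapSubmonoid E (nonZeroDivisors A)
  haveI hlocT : IsLocalization M T := IsLocalization.tensorRight (S := E) Q (nonZeroDivisors A)
  have hM : M ≤ nonZeroDivisors E := by
    rintro _ ⟨a, ha, rfl⟩
    have hreg : IsSMulRegular A a := (isRegular_iff_mem_nonZeroDivisors.mpr ha).left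
    have hreg' : IsSMulRegular E (algebraMap A E a) := hreg.of_flat
    rw [mem_nonZeroDivisors_iff_left]
    intro x hx
    exact hreg' (by simp only [smul_eq_mul, hx, mul_zero])
  haveI hlocT' : IsLocalization (nonZeroDivisors E) T :=
    IsLocalization.of_le M _ hM (fun n hn =>
      IsArtinianRing.isUnit_of_mem_nonZeroDivisors
        (IsLocalization.map_nonZeroDivisors_le M T ⟨n, hn, rfl⟩))
  let e : T ≃ₐ[E] K := IsLocalization.algEquiv (nonZeroDivisors E) T K
  have hlocK : IsLocalization M K := IsLocalization.isLocalization_of_algEquiv M e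
  refine ⟨hlocK, hArt, ?_⟩
  letI alg : Algebra Q K := (e.toRingEquiv.toRingHom.comp (algebraMap Q T)).toAlgebra
  have halg : ∀ q : Q, algebraMap Q K q = e (algebraMap Q T q) := fun q => rfl
  refine ⟨alg, ?_, ?_⟩
  · refine IsScalarTower.of_algebraMap_eq fun a => ?_
    rw [halg, ← IsScalarTower.algebraMap_apply A Q T, IsScalarTower.algebraMap_apply A E T,
      e.commutes, ← IsScalarTower.algebraMap_apply A E K]
  · let eQ : T ≃ₗ[Q] K :=
      { e.toRingEquiv.toAddEquiv with
        map_smul' := fun q t => by
          change e (q • t) = q • e t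
          have h1 : q • t = algebraMap Q T q * t := Algebra.smul_def q t
          have h2 : q • e t = algebraMap Q K q * e t := Algebra.smul_def q (e t)
          rw [h1, h2, map_mul, halg] }
    exact Module.Finite.equiv eQ

end EssEt

end Groth.Agent.Lib.Helper8TotFrac
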