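/-
Helper library (helper8): total rings of fractions of `A`-subalgebras `D` of a strict henselization
`S` of a reduced local ring `A` with finitely many minimal primes: `K_D = D ⊗_A K_A`.
-/
import Mathlib
import Groth.Agent.Lib.Helper8ShStage
import Groth.Agent.Lib.Helper8TotFrac

set_option autoImplicit false
universe u

namespace Groth.Agent.Lib.Helper8ShFrac

open IsLocalRing Polynomial Groth.Agent.Lib.Helper3.Sh

section

variable (A S : Type u) [CommRing A] [IsLocalRing A] [CommRing S] [IsLocalRing S]
    [Algebra A S] [IsLocalHom (algebraMap A S)] [hS : Hensel.IsStrictHenselization A S]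

include hS in
theorem flat : Module.Flat A S := by
  let Ω := SeparableClosure (IsLocalRing.ResidueField A)
  letI : Algebra A Ω :=
    ((algebraMap (IsLocalRing.ResidueField A) Ω).comp (IsLocalRing.residue A)).toAlgebra
  haveI : IsScalarTower A (IsLocalRing.ResidueField A) Ω :=
    IsScalarTower.of_algebraMap_eq (fun _ => rfl)
  obtain ⟨σ⟩ := nonempty_algEquiv (R := A) (Ω := Ω) S
  exact Module.Flat.of_linearEquiv σ.toLinearEquiv

include hS in
theorem algebraMap_mul_eq_zero {a : A} (ha : a ∈ nonZeroDivisors A) {x : S}
    (hx : algebraMap A S a * x = 0) : x = 0 := by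
  haveI := flat A S
  have hreg : IsSMulRegular A a := (isRegular_iff_mem_nonZeroDivisors.mpr ha).left
  have hreg' : IsSMulRegular S (algebraMap A S a) := hreg.of_flat
  exact hreg' (by simp only [smul_eq_mul, hx, mul_zero])

variable [IsReduced A]

include hS in
/-- A non-zero-divisor of an `A`-subalgebra `D` of `S` divides (in `D`) a non-zero-divisor of `A`. -/
theorem nzd_dvd (hmin : (minimalPrimes A).Finite) (D : Subalgebra A S) (z : D)
    (hz : z ∈ nonZeroDivisors D) :
    ∃ a ∈ nonZeroDivisors A, ∃ d : D, z * d = algebraMap A D a := by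
  classical
  obtain ⟨E, hsE, ⟨hEloc, hEt⟩, -, -⟩ := Groth.Agent.Lib.Helper8ShStage.exists_stage A S {(z : S)}
  haveI := hEloc
  have hzE : (z : S) ∈ E := hsE (by simp)
  obtain ⟨hloc, hArt, alg, htower, hfin⟩ := Groth.Agent.Lib.Helper8TotFrac.main A E hmin hEt
  letI := alg
  haveI := htower
  haveI := hfin
  haveI := hArt
  let zE : E := ⟨z, hzE⟩
  let zK : FractionRing E := algebraMap E (FractionRing E) zE
  have hEK : Function.Injective (algebraMap E (FractionRing E)) :=
    IsFractionRing.injective E (FractionRing E)
  -- transfer of polynomial identities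
  have hev : ∀ p : A[X], aeval zK p = algebraMap E (FractionRing E) (aeval zE p) := fun p =>
    aeval_algebraMap_apply (FractionRing E) zE p
  have hES : ∀ p : A[X], ((aeval zE p : E) : S) = ((aeval z p : D) : S) := by
    intro p
    rw [← Subalgebra.aeval_coe, ← Subalgebra.aeval_coe]
  have htrans : ∀ p₁ p₂ : A[X], aeval zK p₁ = aeval zK p₂ → aeval z p₁ = aeval z p₂ := by
    intro p₁ p₂ h
    rw [hev, hev] at h
    have h1 : aeval zE p₁ = aeval zE p₂ := hEK h
    apply Subtype.ext
    rw [← hES, ← hES, h1]
  -- the subalgebra `K_A[z]`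
  let Rz : Subalgebra (FractionRing A) (FractionRing E) := Algebra.adjoin (FractionRing A) {zK}
  haveI : IsNoetherian (FractionRing A) (FractionRing E) :=
    isNoetherian_of_isNoetherianRing_of_finite (FractionRing A) (FractionRing E)
  haveI : Module.Finite (FractionRing A) Rz :=
    Module.Finite.of_injective Rz.val.toLinearMap Subtype.val_injective
  haveI : IsArtinianRing Rz := IsArtinianRing.of_finite (FractionRing A) Rz
  have hkey : ∀ r ∈ Rz, ∃ b ∈ nonZeroDivisors A, ∃ p : A[X],
      algebraMap A (FractionRing E) b * r = aeval zK p := by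
    intro r hr
    rw [show Rz = (aeval zK : (FractionRing A)[X] →ₐ[FractionRing A] FractionRing E).range from
      Algebra.adjoin_singleton_eq_range_aeval (FractionRing A) zK] at hr
    obtain ⟨p, rfl⟩ := hr
    obtain ⟨b, hb, hbp⟩ := IsLocalization.integerNormalization_spec (nonZeroDivisors A) p
    refine ⟨b, hb, IsLocalization.integerNormalization (nonZeroDivisors A) p, ?_⟩
    rw [← aeval_map_algebraMap (FractionRing A) zK, hbp]
    have : (b • p : (FractionRing A)[X]) = (algebraMap A (FractionRing A) b) • p :=
      (algebraMap_smul (FractionRing A) b p).symm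
    rw [this, map_smul, Algebra.smul_def,
      ← IsScalarTower.algebraMap_apply A (FractionRing A) (FractionRing E)]
    rfl
  have hbunit : ∀ b ∈ nonZeroDivisors A, IsUnit (algebraMap A (FractionRing E) b) := by
    intro b hb
    rw [IsScalarTower.algebraMap_apply A (FractionRing A) (FractionRing E)]
    exact (IsLocalization.map_units (FractionRing A) (⟨b, hb⟩ : nonZeroDivisors A)).map _
  have hzRz : zK ∈ Rz := Algebra.subset_adjoin rfl
  have hnzd : (⟨zK, hzRz⟩ : Rz) ∈ nonZeroDivisors Rz := by
    rw [mem_nonZeroDivisors_iff_left]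
    intro r hr
    have hr' : zK * (r : FractionRing E) = 0 := congrArg Subtype.val hr
    obtain ⟨b, hb, p, hp⟩ := hkey r r.2
    have h1 : aeval zK (X * p) = aeval zK (0 : A[X]) := by
      rw [map_mul, aeval_X, ← hp, map_zero, mul_left_comm, hr', mul_zero]
    have h2 := htrans _ _ h1
    rw [map_mul, aeval_X, map_zero] at h2
    have h3 : aeval z p = 0 := (mem_nonZeroDivisors_iff_left.mp hz) _ h2
    have h4 : aeval zK p = 0 := by
      have h5 : aeval zE p = 0 := by
        apply Subtype.ext
        rw [hES, h3]
        rfl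
      rw [hev, h5, map_zero]
    rw [h4] at hp
    apply Subtype.ext
    exact (hbunit b hb).mul_right_eq_zero.mp hp
  obtain ⟨w, hw⟩ := isUnit_iff_exists_inv.mp (IsArtinianRing.isUnit_of_mem_nonZeroDivisors hnzd)
  have hw' : zK * (w : FractionRing E) = 1 := congrArg Subtype.val hw
  obtain ⟨b, hb, p, hp⟩ := hkey w w.2
  refine ⟨b, hb, aeval z p, ?_⟩
  have h1 : aeval zK (X * p) = aeval zK (C b : A[X]) := by
    rw [map_mul, aeval_X, ← hp, aeval_C, mul_left_comm, hw', mul_one]
  have h2 := htrans _ _ h1
  rw [map_mul, aeval_X, aeval_C] at h2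
  exact h2

include hS in
/-- The total ring of fractions of an `A`-subalgebra `D` of `S` is the localization of `D` at the
non-zero-divisors of `A`. -/
theorem isLocalization_fractionRing (hmin : (minimalPrimes A).Finite) (D : Subalgebra A S) :
    IsLocalization (Algebra.algebraMapSubmonoid D (nonZeroDivisors A)) (FractionRing D) := by
  have hle : Algebra.algebraMapSubmonoid D (nonZeroDivisors A) ≤ nonZeroDivisors D := by
    rintro _ ⟨a, ha, rfl⟩
    rw [mem_nonZeroDivisors_iff_left]
    intro x hx
    apply Subtype.ext
    apply algebraMap_mul_eq_zero A S ha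
    have := congrArg (fun d : D => (d : S)) hx
    exact this
  let T := Localization (Algebra.algebraMapSubmonoid D (nonZeroDivisors A))
  haveI : IsLocalization (nonZeroDivisors D) T :=
    IsLocalization.of_le_of_exists_dvd (Algebra.algebraMapSubmonoid D (nonZeroDivisors A)) _ hle
      (fun n hn => by
        obtain ⟨a, ha, d, hd⟩ := nzd_dvd A S hmin D n hn
        exact ⟨algebraMap A D a, ⟨a, ha, rfl⟩, ⟨d, hd.symm⟩⟩)
  let e : T ≃ₐ[D] FractionRing D := IsLocalization.algEquiv (nonZeroDivisors D) T _
  exact IsLocalization.isLocalization_of_algEquiv _ e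

open TensorProduct in
include hS in
/-- If `D` is contained in an essentially étale local subalgebra `E` of `S`, then `K_D` is a finite
`K_A`-module, in the elementwise form. -/
theorem exists_finset_span_of_le (hmin : (minimalPrimes A).Finite) (D E : Subalgebra A S)
    (hDE : D ≤ E) [IsLocalRing E] (hEt : EGA4loc.IsEssentiallyEtale A E) :
    ∃ t : Finset (FractionRing D), ∀ x : FractionRing D, ∃ a ∈ nonZeroDivisors A,
      algebraMap A (FractionRing D) a * x ∈ Submodule.span A (t : Set (FractionRing D)) := by
  classical
  haveI hlocD := isLocalization_fractionRing A S hmin D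
  haveI hArt : IsArtinianRing (FractionRing A) :=
    Groth.Agent.Lib.Helper8TotFrac.isArtinianRing_fractionRing A hmin
  haveI hfinE : Module.Finite (FractionRing A) (FractionRing A ⊗[A] E) :=
    Groth.Agent.Lib.Helper8TotFrac.finite_tensor A E hmin hEt
  haveI : IsNoetherian (FractionRing A) (FractionRing A ⊗[A] E) :=
    isNoetherian_of_isNoetherianRing_of_finite (FractionRing A) _
  let incl : D →ₗ[A] E := (Subalgebra.inclusion hDE).toLinearMap
  have hincl : Function.Injective incl := Subalgebra.inclusion_injective hDE
  let j : FractionRing A ⊗[A] D →ₗ[FractionRing A] FractionRing A ⊗[A] E :=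
    incl.baseChange (FractionRing A)
  have hj : Function.Injective j :=
    Module.Flat.lTensor_preserves_injective_linearMap (M := FractionRing A) incl hincl
  haveI hfinD : Module.Finite (FractionRing A) (FractionRing A ⊗[A] D) :=
    Module.Finite.of_injective j hj
  letI : Algebra D (FractionRing A ⊗[A] D) := Algebra.TensorProduct.rightAlgebra
  haveI : IsLocalization (Algebra.algebraMapSubmonoid D (nonZeroDivisors A))
      (FractionRing A ⊗[A] D) :=
    IsLocalization.tensorRight (S := D) (FractionRing A) (nonZeroDivisors A)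
  let e : (FractionRing A ⊗[A] D) ≃ₐ[D] FractionRing D :=
    IsLocalization.algEquiv (Algebra.algebraMapSubmonoid D (nonZeroDivisors A)) _ _
  obtain ⟨s, hs⟩ := hfinD.fg_top
  have hclaim : ∀ y : FractionRing A ⊗[A] D, ∃ a ∈ nonZeroDivisors A,
      a • y ∈ Submodule.span A (s : Set (FractionRing A ⊗[A] D)) := by
    intro y
    have hy : y ∈ Submodule.span (FractionRing A) (s : Set (FractionRing A ⊗[A] D)) := by
      rw [hs]; trivial
    induction hy using Submodule.span_induction with
    | mem y hy => exact ⟨1, one_mem _, by rw [one_smul]; exact Submodule.subset_span hy⟩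
    | zero => exact ⟨1, one_mem _, by rw [smul_zero]; exact Submodule.zero_mem _⟩
    | add y z _ _ hy hz =>
      obtain ⟨a, ha, hay⟩ := hy
      obtain ⟨b, hb, hbz⟩ := hz
      refine ⟨a * b, mul_mem ha hb, ?_⟩
      have h1 : (a * b) • (y + z) = b • (a • y) + a • (b • z) := by
        rw [smul_add, mul_smul, mul_smul, smul_comm a b y]
      rw [h1]
      exact Submodule.add_mem _ (Submodule.smul_mem _ _ hay) (Submodule.smul_mem _ _ hbz)
    | smul q y _ hy =>
      obtain ⟨a, ha, hay⟩ := hy
      obtain ⟨⟨c, b⟩, hcb⟩ := IsLocalization.surj (nonZeroDivisors A) q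
      dsimp only at hcb
      refine ⟨b * a, mul_mem b.2 ha, ?_⟩
      have h1 : ((b : A) * a) • (q • y) = c • (a • y) := by
        rw [← algebraMap_smul (FractionRing A) ((b : A) * a) (q • y),
          ← algebraMap_smul (FractionRing A) c (a • y),
          ← algebraMap_smul (FractionRing A) a y, smul_smul, smul_smul, ← hcb, map_mul]
        congr 1
        ring
      rw [h1]; exact Submodule.smul_mem _ _ hay
  refine ⟨s.image e, fun x => ?_⟩
  obtain ⟨a, ha, hay⟩ := hclaim (e.symm x)
  have h1 : algebraMap A (FractionRing D) a * x = e (a • e.symm x) := by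
    have h2 : a • e.symm x = (algebraMap A D a) • e.symm x :=
      (algebraMap_smul D a (e.symm x)).symm
    rw [h2, map_smul, AlgEquiv.apply_symm_apply, Algebra.smul_def,
      ← IsScalarTower.algebraMap_apply A D (FractionRing D)]
  refine ⟨a, ha, ?_⟩
  rw [h1, Finset.coe_image]
  exact Submodule.apply_mem_span_image_of_mem_span
    (e.toLinearEquiv.restrictScalars A).toLinearMap hay

end

end Groth.Agent.Lib.Helper8ShFrac
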