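import Mathlib
import Groth.Agent.Lib.Helper8ShFrac
import Groth.Agent.Lib.Helper6ReducedSmooth

/-!
# Geometric reducedness and strict henselization (helper8)
-/

set_option autoImplicit false
universe u

namespace Groth.Agent.Lib.Helper8GeomRedSh

open TensorProduct

section EssEt

variable (k : Type u) [Field k] (A : Type u) [CommRing A] [IsLocalRing A] [Algebra k A]

theorem lTensor_injective_of_injective (K : Type u) [Field K] [Algebra k K]
    {E R : Type u} [CommRing E] [CommRing R] [Algebra k E] [Algebra k R] (φ : E →ₐ[k] R)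
    (hφ : Function.Injective φ) :
    Function.Injective (Algebra.TensorProduct.map (AlgHom.id k K) φ) := by
  have := Module.Flat.lTensor_preserves_injective_linearMap (M := K) φ.toLinearMap hφ
  have key : ∀ z : K ⊗[k] E, (LinearMap.lTensor K φ.toLinearMap) z =
      Algebra.TensorProduct.map (AlgHom.id k K) φ z := by
    intro z
    induction z using TensorProduct.induction_on with
    | zero => simp
    | tmul a b => simp
    | add x y hx hy => rw [map_add, map_add, hx, hy]
  intro a b hab
  apply this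
  rw [key, key, hab]

/-- If `A_K = K ⊗_k A` is reduced and `E` is an essentially étale local `A`-algebra, then
`K ⊗_k E` is reduced. -/
theorem isReduced_tensor_essEt (K : Type u) [Field K] [Algebra k K]
    (hA : IsReduced (K ⊗[k] A)) (E : Type u) [CommRing E] [Algebra A E] [Algebra k E]
    [IsScalarTower k A E] (hE : EGA4loc.IsEssentiallyEtale A E) : IsReduced (K ⊗[k] E) := by
  obtain ⟨C, _, _, q, _, hEt, -, ⟨e0⟩⟩ := hE
  letI : Algebra k (Localization.AtPrime q) :=
    ((algebraMap A (Localization.AtPrime q)).comp (algebraMap k A)).toAlgebra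
  haveI : IsScalarTower k A (Localization.AtPrime q) := IsScalarTower.of_algebraMap_eq fun _ => rfl
  -- X = A ⊗ K is reduced
  haveI hX : IsReduced (A ⊗[k] K) :=
    isReduced_of_injective (Algebra.TensorProduct.comm k A K).toRingEquiv.toRingHom
      (Algebra.TensorProduct.comm k A K).injective
  -- (A ⊗ K) ⊗_A C is étale over A ⊗ K, hence reduced
  haveI : Algebra.Smooth (A ⊗[k] K) ((A ⊗[k] K) ⊗[A] C) := inferInstance
  haveI h1 : IsReduced ((A ⊗[k] K) ⊗[A] C) :=
    Groth.Agent.Lib.Helper6.isReduced_of_smooth (A ⊗[k] K) ((A ⊗[k] K) ⊗[A] C)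
  haveI h2 : IsReduced (C ⊗[A] (A ⊗[k] K)) :=
    isReduced_of_injective (Algebra.TensorProduct.comm A C (A ⊗[k] K)).toRingEquiv.toRingHom
      (Algebra.TensorProduct.comm A C (A ⊗[k] K)).injective
  -- localization
  haveI h3 : IsReduced ((C ⊗[A] (A ⊗[k] K)) ⊗[C] Localization.AtPrime q) :=
    isReduced_localizationPreserves
      (Algebra.algebraMapSubmonoid (C ⊗[A] (A ⊗[k] K)) q.primeCompl)
      ((C ⊗[A] (A ⊗[k] K)) ⊗[C] Localization.AtPrime q) h2
  -- chain of isomorphisms
  let i1 : (Localization.AtPrime q ⊗[C] (C ⊗[A] (A ⊗[k] K))) ≃+*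
      ((C ⊗[A] (A ⊗[k] K)) ⊗[C] Localization.AtPrime q) :=
    (Algebra.TensorProduct.comm C (Localization.AtPrime q) (C ⊗[A] (A ⊗[k] K))).toRingEquiv
  let i2 : (Localization.AtPrime q ⊗[C] (C ⊗[A] (A ⊗[k] K))) ≃+*
      (Localization.AtPrime q ⊗[A] (A ⊗[k] K)) :=
    (Algebra.TensorProduct.cancelBaseChange A C C (Localization.AtPrime q) (A ⊗[k] K)).toRingEquiv
  let i3 : (Localization.AtPrime q ⊗[A] (A ⊗[k] K)) ≃+* (Localization.AtPrime q ⊗[k] K) :=
    (Algebra.TensorProduct.cancelBaseChange k A A (Localization.AtPrime q) K).toRingEquiv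
  let i4 : (K ⊗[k] Localization.AtPrime q) ≃+* (Localization.AtPrime q ⊗[k] K) :=
    (Algebra.TensorProduct.comm k K (Localization.AtPrime q)).toRingEquiv
  let i5 : (K ⊗[k] E) ≃+* (K ⊗[k] Localization.AtPrime q) :=
    (Algebra.TensorProduct.congr (AlgEquiv.refl : K ≃ₐ[k] K) (e0.restrictScalars k)).toRingEquiv
  let i : (K ⊗[k] E) ≃+* ((C ⊗[A] (A ⊗[k] K)) ⊗[C] Localization.AtPrime q) :=
    i5.trans (i4.trans (i3.symm.trans (i2.symm.trans i1)))
  exact isReduced_of_injective i i.injective

end EssEt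

section Sh

variable (k : Type u) [Field k] (A : Type u) [CommRing A] [IsLocalRing A] [Algebra k A]
  (R : Type u) [CommRing R] [IsLocalRing R] [Algebra A R] [IsLocalHom (algebraMap A R)]
  [hS : Hensel.IsStrictHenselization A R] [Algebra k R] [IsScalarTower k A R]

include hS in
theorem isReduced_tensor_of_sh (K : Type u) [Field K] [Algebra k K]
    (h : IsReduced (K ⊗[k] R)) : IsReduced (K ⊗[k] A) := by
  haveI := Groth.Agent.Lib.Helper8ShFrac.flat A R
  haveI : Module.FaithfullyFlat A R := Module.FaithfullyFlat.of_flat_of_isLocalHom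
  have hinj : Function.Injective (algebraMap A R) := FaithfulSMul.algebraMap_injective A R
  exact isReduced_of_injective _
    (lTensor_injective_of_injective k K (IsScalarTower.toAlgHom k A R) hinj)

include hS in
theorem isReduced_tensor_sh (K : Type u) [Field K] [Algebra k K]
    (hA : IsReduced (K ⊗[k] A)) : IsReduced (K ⊗[k] R) := by
  classical
  constructor
  intro z hz
  obtain ⟨S, hS'⟩ := TensorProduct.exists_finset z
  obtain ⟨E, hsE, ⟨hloc, hEt⟩, -, -⟩ :=
    Groth.Agent.Lib.Helper8ShStage.exists_stage A R (S.image Prod.snd)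
  have hmem : ∀ i ∈ S, i.2 ∈ E := fun i hi =>
    hsE (Finset.mem_coe.mpr (Finset.mem_image_of_mem Prod.snd hi))
  let ι : E →ₐ[k] R := E.val.restrictScalars k
  have hι : Function.Injective ι := Subtype.val_injective
  let zE : K ⊗[k] E := ∑ i ∈ S.attach, i.1.1 ⊗ₜ[k] (⟨i.1.2, hmem i.1 i.2⟩ : E)
  have hzE : Algebra.TensorProduct.map (AlgHom.id k K) ι zE = z := by
    rw [hS', map_sum, ← Finset.sum_attach S]
    refine Finset.sum_congr rfl fun i _ => ?_
    rw [Algebra.TensorProduct.map_tmul]
    rfl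
  have hinj := lTensor_injective_of_injective k K ι hι
  haveI hred : IsReduced (K ⊗[k] E) := isReduced_tensor_essEt k A K hA E hEt
  have hnil : IsNilpotent zE := by
    obtain ⟨n, hn⟩ := hz
    refine ⟨n, hinj ?_⟩
    rw [map_pow, hzE, hn, map_zero]
  have h0 : zE = 0 := hred.eq_zero zE hnil
  rw [← hzE, h0, map_zero]

end Sh

end Groth.Agent.Lib.Helper8GeomRedSh
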