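import Mathlib
import Groth.Prelude.Def_AutSch
import Groth.Agent.S5322
import Groth.Agent.Lib.Helper25IdComp

/-!
# Neutral components and products of neighbourhoods of the unit section

* `tz f G` : the canonical map `(G' ×_{S'} G') ⟶ (G ×_S G)` for `G' = G ×_S S'`, compatible with
  projections and multiplication.
* `neutralSet_subset_mul` : for any open `V ⊆ G` containing the unit section, the union of the neutral
  components of the fibres is contained in `V · V`.
* `exists_isCompact_opens_neutralSet` : over a qcqs base the neutral set is contained in a quasi-compact open.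
-/

set_option autoImplicit false
set_option linter.style.haveILetI false
set_option linter.unusedVariables false
set_option linter.unusedSectionVars false
universe u
open CategoryTheory CategoryTheory.Limits MonoidalCategory CartesianMonoidalCategory MonObj GrpObj AlgebraicGeometry
open SGA3

namespace Groth.Agent.Lib.R2H3.BcMul

open Groth.Agent.Lib.Helper25.IdComp Groth.Agent.Lib.Helper25.TopGrp

section transfer
variable {S S' : Scheme.{u}} (f : S' ⟶ S) (G : Over S) [GrpObj G]

lemma map_left_fst {X Y : Over S} (φ : X ⟶ Y) :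
    ((Over.pullback f).map φ).left ≫ pullback.fst Y.hom f = pullback.fst X.hom f ≫ φ.left := by
  simp only [Over.pullback_map_left]
  exact pullback.lift_fst _ _ _

/-- transfer of points of the product along a base change. -/
noncomputable def tz : (Red.bc f G ⊗ Red.bc f G).left ⟶ (G ⊗ G).left :=
  (Functor.LaxMonoidal.μ (Over.pullback f) G G).left ≫ pullback.fst (G ⊗ G).hom f

lemma tz_fst : tz f G ≫ (fst G G).left =
    (fst (Red.bc f G) (Red.bc f G)).left ≫ pullback.fst G.hom f := by
  unfold tz
  rw [Category.assoc, ← map_left_fst f (fst G G), ← Category.assoc, ← Over.comp_left,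
    Functor.Monoidal.μ_fst]

lemma tz_snd : tz f G ≫ (snd G G).left =
    (snd (Red.bc f G) (Red.bc f G)).left ≫ pullback.fst G.hom f := by
  unfold tz
  rw [Category.assoc, ← map_left_fst f (snd G G), ← Category.assoc, ← Over.comp_left,
    Functor.Monoidal.μ_snd]

lemma tz_mul : tz f G ≫ μ[G].left = μ[Red.bc f G].left ≫ pullback.fst G.hom f := by
  unfold tz
  rw [Category.assoc, ← map_left_fst f μ[G], ← Category.assoc, ← Over.comp_left]
  rfl

lemma unit_pr : η[Red.bc f G].left ≫ pullback.fst G.hom f = f ≫ η[G].left := by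
  have h1 : η[Red.bc f G] =
      Functor.LaxMonoidal.ε (Over.pullback f) ≫ (Over.pullback f).map η[G] := rfl
  rw [h1, Over.comp_left, Category.assoc, map_left_fst]
  have h2 := Over.w (Functor.LaxMonoidal.ε (Over.pullback f))
  have h3 : (Functor.LaxMonoidal.ε (Over.pullback f)).left ≫
      pullback.fst (𝟙_ (Over S)).hom f = f := by
    have hc := pullback.condition (f := (𝟙_ (Over S)).hom) (g := f)
    have h4 : pullback.fst (𝟙_ (Over S)).hom f = pullback.snd (𝟙_ (Over S)).hom f ≫ f := by
      rw [← hc]
      exact (Category.comp_id _).symm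
    rw [h4, ← Category.assoc]
    have h5 : (Functor.LaxMonoidal.ε (Over.pullback f)).left ≫
        pullback.snd (𝟙_ (Over S)).hom f = 𝟙 _ := h2
    rw [h5, Category.id_comp]
  rw [← Category.assoc, h3]

end transfer

section main
variable {S : Scheme.{u}} (G : Over S) [GrpObj G]

/-- the union of the neutral components of the fibres is contained in `V · V` for every open `V`
containing the unit section. -/
theorem neutralSet_subset_mul (V : Set G.left) (hV : IsOpen V)
    (hunit : ∀ s : S, η[G].left s ∈ V) :
    SGA3x.neutralSet G ⊆ μ[G].left '' ((fst G G).left ⁻¹' V ∩ (snd G G).left ⁻¹' V) := by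
  intro g hg
  let s : S := G.hom g
  let K := AlgebraicClosure (S.residueField s)
  let f : Spec (CommRingCat.of K) ⟶ S :=
    Spec.map (CommRingCat.ofHom (algebraMap (S.residueField s) K)) ≫ S.fromSpecResidueField s
  have hf : ∀ q : Spec (CommRingCat.of K), f q = s := by
    intro q
    have h : f q ∈ Set.range (S.fromSpecResidueField s) := by
      rw [Scheme.Hom.comp_apply]
      exact ⟨_, rfl⟩
    rw [Scheme.range_fromSpecResidueField] at h
    exact h
  let G' : Over (Spec (CommRingCat.of K)) := Red.bc f G
  let pr : G'.left ⟶ G.left := pullback.fst G.hom f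
  have hgr : g ∈ Set.range pr := by
    rw [Scheme.Pullback.range_fst]
    obtain ⟨q⟩ : Nonempty (Spec (CommRingCat.of K)) := inferInstance
    exact ⟨q, hf q⟩
  obtain ⟨g', hg'⟩ := hgr
  have h1 : g' ∈ SGA3x.neutralSet G' := by
    rw [Groth.Agent.S5322.result]
    show pr g' ∈ SGA3x.neutralSet G
    rw [hg']
    exact hg
  rw [AutSch.neutralSet_eq_connectedComponent] at h1
  have h2 : g' ∈ idComp G' := by
    rw [← connectedComponent_ePt (G := G')]
    exact h1
  have hV' : IsOpen (pr ⁻¹' V) := hV.preimage pr.continuous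
  have heV' : ePt G' ∈ pr ⁻¹' V := by
    show pr (η[G'].left (IsLocalRing.closedPoint K)) ∈ V
    rw [← Scheme.Hom.comp_apply, unit_pr, Scheme.Hom.comp_apply]
    exact hunit _
  have h3 := idComp_subset_pmul_inter (pr ⁻¹' V) hV' ⟨ePt G', heV', ePt_mem_idComp G'⟩ h2
  obtain ⟨z', ⟨hz1, hz2⟩, hz3⟩ := h3
  refine ⟨tz f G z', ⟨?_, ?_⟩, ?_⟩
  · show (fst G G).left (tz f G z') ∈ V
    rw [← Scheme.Hom.comp_apply, tz_fst, Scheme.Hom.comp_apply]
    exact hz1.1
  · show (snd G G).left (tz f G z') ∈ V
    rw [← Scheme.Hom.comp_apply, tz_snd, Scheme.Hom.comp_apply]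
    exact hz2.1
  · rw [← Scheme.Hom.comp_apply, tz_mul, Scheme.Hom.comp_apply, hz3, hg']

/-- over a qcqs base, the neutral set is contained in a quasi-compact open. -/
theorem exists_isCompact_opens_neutralSet [CompactSpace S] [QuasiSeparatedSpace S] :
    ∃ U : G.left.Opens, IsCompact (U : Set G.left) ∧ SGA3x.neutralSet G ⊆ U := by
  haveI : CompactSpace ↥(𝟙_ (Over S)).left := ‹CompactSpace S›
  have hr : IsCompact (Set.range η[G].left) := isCompact_range η[G].left.continuous
  obtain ⟨V, hVc, hVr, -⟩ := exists_isCompact_opens_between (Set.range η[G].left) Set.univ hr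
    isOpen_univ (Set.subset_univ _)
  have hK : IsCompact (μ[G].left '' ((fst G G).left ⁻¹' (V : Set G.left) ∩
      (snd G G).left ⁻¹' (V : Set G.left))) :=
    (isCompact_fst_preimage_inter_snd_preimage V V hVc hVc).image μ[G].left.continuous
  obtain ⟨U, hUc, hKU, -⟩ := exists_isCompact_opens_between _ Set.univ hK isOpen_univ
    (Set.subset_univ _)
  exact ⟨U, hUc, (neutralSet_subset_mul G V V.isOpen (fun s => hVr ⟨s, rfl⟩)).trans hKU⟩

/-- if all fibres are connected, the neutral set is everything. -/
theorem neutralSet_eq_univ_of_connected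
    (hconn : ∀ s : S, _root_.IsConnected (G.hom ⁻¹' {s})) : SGA3x.neutralSet G = Set.univ := by
  apply Set.eq_univ_of_forall
  intro x
  simp only [SGA3x.neutralSet, Set.mem_iUnion]
  refine ⟨G.hom x, ?_⟩
  have hmem : η[G].left (G.hom x) ∈ G.hom ⁻¹' {G.hom x} := by
    show G.hom (η[G].left (G.hom x)) = G.hom x
    rw [← Scheme.Hom.comp_apply, Over.w]
    rfl
  have := (hconn (G.hom x)).isPreconnected.connectedComponentIn hmem
  show x ∈ connectedComponentIn (G.hom ⁻¹' {G.hom x}) (η[G].left (G.hom x))
  rw [this]
  rfl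

/-- a group scheme with connected fibres is quasi-compact over the base. -/
theorem quasiCompact_of_connected_fibres
    (hconn : ∀ s : S, _root_.IsConnected (G.hom ⁻¹' {s})) : QuasiCompact G.hom := by
  rw [quasiCompact_iff_forall_isAffineOpen]
  intro W hW
  let f : (W : Scheme.{u}) ⟶ S := W.ι
  let G' : Over (W : Scheme.{u}) := Red.bc f G
  haveI : IsAffine (W : Scheme.{u}) := hW
  haveI : CompactSpace ↥(W : Scheme.{u}) := inferInstance
  haveI : QuasiSeparatedSpace ↥(W : Scheme.{u}) := inferInstance
  obtain ⟨U, hUc, hU⟩ := exists_isCompact_opens_neutralSet G'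
  have h1 : SGA3x.neutralSet G' = Set.univ := by
    rw [Groth.Agent.S5322.result, neutralSet_eq_univ_of_connected G hconn]
    rfl
  rw [h1] at hU
  have hUuniv : (U : Set G'.left) = Set.univ := Set.eq_univ_of_univ_subset hU
  rw [hUuniv] at hUc
  haveI : CompactSpace ↥(pullback G.hom f) := isCompact_univ_iff.mp hUc
  have hrange : Set.range (pullback.fst G.hom f) = G.hom ⁻¹' (W : Set S) := by
    rw [Scheme.Pullback.range_fst, Scheme.Opens.range_ι]
  show IsCompact (G.hom ⁻¹' (W : Set S))
  rw [← hrange]
  exact isCompact_range (pullback.fst G.hom f).continuous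

end main

end Groth.Agent.Lib.R2H3.BcMul
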