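import Mathlib
import Groth.Agent.Lib.R2H3BcMul
import Groth.Agent.Lib.Helper25TopGrp
import Groth.Agent.Lib.Helper8Grp

/-!
Helper library (helper8): a group scheme `G ⟶ S` which is universally open with connected fibres
has closed unit section, hence is separated (SGA3 VI_B 5.5-type statement).
-/

set_option autoImplicit false
set_option linter.style.haveILetI false
set_option linter.unusedVariables false
set_option linter.unusedSectionVars false
universe u
open CategoryTheory CategoryTheory.Limits MonoidalCategory CartesianMonoidalCategory MonObj GrpObj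
  AlgebraicGeometry

namespace Groth.Agent.Lib.Helper8GrpSep

open Groth.Agent.Lib.Helper25.IdComp Groth.Agent.Lib.Helper25.TopGrp
  Groth.Agent.Lib.Helper25.DenseMul Groth.Agent.Lib.R2H3.BcMul Groth.Agent.Lib.Helper8

variable {S : Scheme.{u}} (G : Over S) [GrpObj G]

/-- pointwise version of `neutralSet_subset_mul`: only the unit of the fibre through `g` needs to
lie in `V`. -/
theorem mem_mul_of_mem_neutralSet (V : Set G.left) (hV : IsOpen V) (g : G.left)
    (hg : g ∈ SGA3x.neutralSet G) (hunit : η[G].left (G.hom g) ∈ V) :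
    g ∈ μ[G].left '' ((fst G G).left ⁻¹' V ∩ (snd G G).left ⁻¹' V) := by
  let s : S := G.hom g
  let K := AlgebraicClosure (S.residueField s)
  let f : Spec (CommRingCat.of K) ⟶ S :=
    Spec.map (CommRingCat.ofHom (algebraMap (S.residueField s) K)) ≫ S.fromSpecResidueField s
  have hf : ∀ q : Spec (CommRingCat.of K), f q = s := by
    intro q
    have h : f q ∈ Set.range (S.fromSpecResidueField s) := by
      rw [Scheme.Hom.comp_apply]
      exact ⟨_, rfl⟩
    rw [Scheme.range_fromSpecResidueField] at h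
    exact h
  let G' : Over (Spec (CommRingCat.of K)) := Red.bc f G
  let pr : G'.left ⟶ G.left := pullback.fst G.hom f
  have hgr : g ∈ Set.range pr := by
    rw [Scheme.Pullback.range_fst]
    obtain ⟨q⟩ : Nonempty (Spec (CommRingCat.of K)) := inferInstance
    exact ⟨q, hf q⟩
  obtain ⟨g', hg'⟩ := hgr
  have h1 : g' ∈ SGA3x.neutralSet G' := by
    rw [Groth.Agent.S5322.result]
    show pr g' ∈ SGA3x.neutralSet G
    rw [hg']
    exact hg
  rw [AutSch.neutralSet_eq_connectedComponent] at h1
  have h2 : g' ∈ idComp G' := by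
    rw [← connectedComponent_ePt (G := G')]
    exact h1
  have hV' : IsOpen (pr ⁻¹' V) := hV.preimage pr.continuous
  have heV' : ePt G' ∈ pr ⁻¹' V := by
    show pr (η[G'].left (IsLocalRing.closedPoint K)) ∈ V
    rw [← Scheme.Hom.comp_apply, unit_pr, Scheme.Hom.comp_apply, hf]
    exact hunit
  have h3 := idComp_subset_pmul_inter (pr ⁻¹' V) hV' ⟨ePt G', heV', ePt_mem_idComp G'⟩ h2
  obtain ⟨z', ⟨hz1, hz2⟩, hz3⟩ := h3
  refine ⟨tz f G z', ⟨?_, ?_⟩, ?_⟩
  · show (fst G G).left (tz f G z') ∈ V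
    rw [← Scheme.Hom.comp_apply, tz_fst, Scheme.Hom.comp_apply]
    exact hz1.1
  · show (snd G G).left (tz f G z') ∈ V
    rw [← Scheme.Hom.comp_apply, tz_snd, Scheme.Hom.comp_apply]
    exact hz2.1
  · rw [← Scheme.Hom.comp_apply, tz_mul, Scheme.Hom.comp_apply, hz3, hg']

/-- multiplication of a universally open group scheme is an open map. -/
lemma isOpenMap_mul_of_universallyOpen [UniversallyOpen G.hom] : IsOpenMap μ[G].left := by
  let σ : G ⊗ G ⟶ G ⊗ G := lift (fst G G) μ[G]
  let τ : G ⊗ G ⟶ G ⊗ G := lift (fst G G) ((fst G G)⁻¹ * snd G G)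
  have hμ : μ[G] = fst G G * snd G G := by
    rw [Hom.mul_def, lift_fst_snd, Category.id_comp]
  have h1 : σ ≫ τ = 𝟙 _ := by
    apply CartesianMonoidalCategory.hom_ext
    · simp [σ, τ]
    · simp only [σ, τ, Category.assoc, lift_snd, Category.id_comp]
      rw [MonObj.comp_mul, GrpObj.comp_inv, lift_fst, lift_snd, hμ]
      group
  have h2 : τ ≫ σ = 𝟙 _ := by
    apply CartesianMonoidalCategory.hom_ext
    · simp [σ, τ]
    · simp only [σ, τ, Category.assoc, lift_snd, Category.id_comp]
      rw [hμ, MonObj.comp_mul, lift_fst, lift_snd]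
      group
  have : IsIso σ.left :=
    ⟨τ.left, by rw [← Over.comp_left, h1]; rfl, by rw [← Over.comp_left, h2]; rfl⟩
  have hμ' : μ[G].left = σ.left ≫ (snd G G).left := by
    rw [← Over.comp_left, lift_snd]
  rw [hμ']
  exact (isOpenMap_snd_left_of_universallyOpen G G).comp σ.left.isOpenEmbedding.isOpenMap

/-- the graph of inversion is the preimage of the unit section under multiplication. -/
lemma range_graph_inv :
    Set.range (lift (𝟙 G) ι[G]).left = μ[G].left ⁻¹' Set.range η[G].left := by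
  have hμ : μ[G] = fst G G * snd G G := by
    rw [Hom.mul_def, lift_fst_snd, Category.id_comp]
  have hA : lift (𝟙 G) ι[G] ≫ (shearIso G).hom = (ρ_ G).inv ≫ (G ◁ η[G]) := by
    apply CartesianMonoidalCategory.hom_ext
    · simp [shearIso]
    · simp [shearIso, MonObj.comp_mul]
      rw [← Hom.one_def, show ι[G] = (𝟙 G)⁻¹ from by rw [Hom.inv_def, Category.id_comp],
        mul_inv_cancel]
  have hσsnd : (shearIso G).hom ≫ snd G G = μ[G] := by
    rw [hμ]; simp [shearIso]
  haveI : IsIso (shearIso G).hom.left :=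
    inferInstanceAs (IsIso ((Over.forget S).map (shearIso G).hom))
  haveI : IsIso (ρ_ G).inv.left := inferInstanceAs (IsIso ((Over.forget S).map (ρ_ G).inv))
  apply Set.Subset.antisymm
  · rintro _ ⟨g, rfl⟩
    refine ⟨(toUnit G).left g, ?_⟩
    rw [← Scheme.Hom.comp_apply, ← Scheme.Hom.comp_apply, ← Over.comp_left, ← Over.comp_left,
      GrpObj.right_inv]
  · intro z hz
    have h1 : (shearIso G).hom.left z ∈ (snd G G).left ⁻¹' Set.range η[G].left := by
      rw [Set.mem_preimage, ← Scheme.Hom.comp_apply, ← Over.comp_left, hσsnd]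
      exact hz
    rw [← range_whiskerLeft] at h1
    obtain ⟨q, hq⟩ := h1
    obtain ⟨g, rfl⟩ := (ρ_ G).inv.left.surjective q
    refine ⟨g, ?_⟩
    apply (shearIso G).hom.left.isOpenEmbedding.injective
    rw [← hq, ← Scheme.Hom.comp_apply, ← Scheme.Hom.comp_apply, ← Over.comp_left,
      ← Over.comp_left, hA]

set_option backward.isDefEq.respectTransparency false in
/-- the unit section of a universally open group scheme with connected fibres is closed. -/
theorem isClosed_range_one [UniversallyOpen G.hom]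
    (hconn : ∀ s : S, _root_.IsConnected (G.hom ⁻¹' {s})) :
    IsClosed (Set.range η[G].left) := by
  rw [← isOpen_compl_iff, isOpen_iff_forall_mem_open]
  intro x hx
  have hxN : x ∈ SGA3x.neutralSet G := by
    rw [neutralSet_eq_univ_of_connected G hconn]; trivial
  -- an affine open neighbourhood of the unit of the fibre through `x`
  obtain ⟨V₀, hV₀, hmem⟩ : ∃ V₀ : G.left.Opens, IsAffineOpen V₀ ∧ η[G].left (G.hom x) ∈ V₀ := by
    obtain ⟨_, ⟨V, hV, rfl⟩, h, -⟩ := G.left.isBasis_affineOpens.exists_subset_of_mem_open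
      (Set.mem_univ (η[G].left (G.hom x))) isOpen_univ
    exact ⟨V, hV, h⟩
  haveI : IsAffine V₀.toScheme := hV₀
  have hιι : ι[G].left ≫ ι[G].left = 𝟙 _ := by
    rw [← Over.comp_left, GrpObj.inv_comp_inv]; rfl
  have hηι : η[G].left ≫ ι[G].left = η[G].left := by
    rw [← Over.comp_left, GrpObj.one_inv]
  -- the symmetric open `V`
  obtain ⟨V, hVle, hVmem, hVsymm⟩ : ∃ V : G.left.Opens, V ≤ V₀ ∧ η[G].left (G.hom x) ∈ V ∧
      ∀ v ∈ V, ι[G].left v ∈ V := by
    refine ⟨V₀ ⊓ ι[G].left ⁻¹ᵁ V₀, inf_le_left, ⟨hmem, ?_⟩, ?_⟩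
    · show ι[G].left (η[G].left (G.hom x)) ∈ V₀
      rw [← Scheme.Hom.comp_apply, hηι]
      exact hmem
    · rintro v ⟨hv1, hv2⟩
      refine ⟨hv2, ?_⟩
      show ι[G].left (ι[G].left v) ∈ V₀
      rw [← Scheme.Hom.comp_apply, hιι]
      exact hv1
  -- `V` is separated over `S`
  haveI hVsep : IsSeparated (V.ι ≫ G.hom) := by
    rw [← G.left.homOfLE_ι hVle, Category.assoc]
    infer_instance
  -- the objects over `S`
  obtain ⟨V', j, hj⟩ : ∃ (V' : Over S) (j : V' ⟶ G), IsSeparated V'.hom ∧ IsOpenImmersion j.left ∧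
      Set.range j.left = (V : Set G.left) :=
    ⟨Over.mk (V.ι ≫ G.hom), Over.homMk V.ι rfl, hVsep, inferInstanceAs (IsOpenImmersion V.ι),
      V.range_ι⟩
  obtain ⟨hV'sep, hjo, hjr⟩ := hj
  -- inversion restricted to `V`
  have hinvr : Set.range (j.left ≫ ι[G].left) ⊆ Set.range j.left := by
    rintro _ ⟨v, rfl⟩
    rw [hjr, Scheme.Hom.comp_apply]
    apply hVsymm
    show j.left v ∈ (V : Set G.left)
    rw [← hjr]
    exact ⟨v, rfl⟩
  obtain ⟨invV, hinvj⟩ : ∃ invV : V' ⟶ V', invV ≫ j = j ≫ ι[G] := by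
    refine ⟨Over.homMk (IsOpenImmersion.lift j.left (j.left ≫ ι[G].left) hinvr) ?_, ?_⟩
    · rw [← Over.w j, IsOpenImmersion.lift_fac_assoc, Category.assoc, Over.w, Over.w]
    · ext
      exact IsOpenImmersion.lift_fac _ _ _
  -- the graph of `invV`
  have hΓj : lift (𝟙 V') invV ≫ (j ⊗ₘ j) = j ≫ lift (𝟙 G) ι[G] := by
    apply CartesianMonoidalCategory.hom_ext
    · simp
    · simp [hinvj]
  haveI hfstsep : IsSeparated (fst V' V').left := by
    rw [Over.fst_left]; infer_instance
  haveI : IsClosedImmersion ((lift (𝟙 V') invV).left ≫ (fst V' V').left) := by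
    rw [← Over.comp_left, lift_fst]
    exact inferInstanceAs (IsClosedImmersion (𝟙 V'.left))
  have hΓcl : IsClosedImmersion (lift (𝟙 V') invV).left :=
    IsClosedImmersion.of_comp (lift (𝟙 V') invV).left (fst V' V').left
  -- the open immersion `j ⊗ j`
  have he : (j ⊗ₘ j).left = pullback.map V'.hom V'.hom G.hom G.hom j.left j.left (𝟙 _)
      (by simp) (by simp) := by
    apply pullback.hom_ext
    · simp only [pullback.map]
      rw [pullback.lift_fst]
      simp
    · simp only [pullback.map]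
      rw [pullback.lift_snd]
      simp
  haveI hJo : IsOpenImmersion (j ⊗ₘ j).left := by
    rw [he]; infer_instance
  have hJr : Set.range (j ⊗ₘ j).left =
      (fst G G).left ⁻¹' (V : Set G.left) ∩ (snd G G).left ⁻¹' (V : Set G.left) := by
    rw [range_tensorHom, hjr]
  -- key: points of the graph
  have hkey : ∀ p : (V' ⊗ V').left,
      (j ⊗ₘ j).left p ∈ Set.range (lift (𝟙 G) ι[G]).left → p ∈ Set.range (lift (𝟙 V') invV).left := by
    rintro p ⟨g, hg⟩
    refine ⟨(fst V' V').left p, ?_⟩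
    apply (j ⊗ₘ j).left.isOpenEmbedding.injective
    rw [← Scheme.Hom.comp_apply, ← Over.comp_left, hΓj, Over.comp_left, Scheme.Hom.comp_apply,
      ← hg]
    congr 1
    have h1 : (fst G G).left ((lift (𝟙 G) ι[G]).left g) = g := by
      rw [← Scheme.Hom.comp_apply, ← Over.comp_left, lift_fst]; rfl
    rw [← h1, hg, ← Scheme.Hom.comp_apply, ← Scheme.Hom.comp_apply, ← Over.comp_left,
      ← Over.comp_left, tensorHom_fst]
  -- the open set
  have hO₀ : IsOpen ((j ⊗ₘ j).left '' (Set.range (lift (𝟙 V') invV).left)ᶜ) :=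
    (j ⊗ₘ j).left.isOpenEmbedding.isOpenMap _
      (lift (𝟙 V') invV).left.isClosedEmbedding.isClosed_range.isOpen_compl
  have hO : IsOpen (μ[G].left '' ((j ⊗ₘ j).left '' (Set.range (lift (𝟙 V') invV).left)ᶜ)) :=
    isOpenMap_mul_of_universallyOpen G _ hO₀
  refine ⟨_, ?_, hO, ?_⟩
  · -- disjoint from the unit section
    rintro _ ⟨_, ⟨p, hp, rfl⟩, rfl⟩ hy
    apply hp
    apply hkey
    rw [range_graph_inv]
    exact hy
  · -- contains `x`
    obtain ⟨z, ⟨hz1, hz2⟩, hzx⟩ := mem_mul_of_mem_neutralSet G (V : Set G.left) V.isOpen x hxN hVmem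
    have hzJ : z ∈ Set.range (j ⊗ₘ j).left := by
      rw [hJr]; exact ⟨hz1, hz2⟩
    obtain ⟨p, rfl⟩ := hzJ
    refine ⟨_, ⟨p, ?_, rfl⟩, hzx⟩
    rintro ⟨v, rfl⟩
    apply hx
    rw [← hzx]
    have : (j ⊗ₘ j).left ((lift (𝟙 V') invV).left v) ∈ Set.range (lift (𝟙 G) ι[G]).left := by
      rw [← Scheme.Hom.comp_apply, ← Over.comp_left, hΓj, Over.comp_left, Scheme.Hom.comp_apply]
      exact ⟨_, rfl⟩
    rw [range_graph_inv] at this
    exact this

/-- a universally open group scheme with connected fibres is separated and quasi-compact. -/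
theorem isSeparated_and_quasiCompact [UniversallyOpen G.hom]
    (hconn : ∀ s : S, _root_.IsConnected (G.hom ⁻¹' {s})) :
    IsSeparated G.hom ∧ QuasiCompact G.hom := by
  refine ⟨?_, quasiCompact_of_connected_fibres G hconn⟩
  haveI : IsImmersion (η[G].left ≫ G.hom) := by
    rw [Over.w]
    exact inferInstanceAs (IsImmersion (𝟙 S))
  haveI : IsImmersion η[G].left := IsImmersion.of_comp η[G].left G.hom
  haveI : IsClosedImmersion η[G].left :=
    IsClosedImmersion.of_isPreimmersion _ (isClosed_range_one G hconn)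
  exact isSeparated_of_isClosedImmersion_one G

end Groth.Agent.Lib.Helper8GrpSep
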