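import Mathlib

/-!
# Roots of cyclotomic polynomials in strictly henselian local rings (helper8)

If `A` is a henselian local ring with separably closed residue field and `n ≥ 1` is invertible in `A`,
then the `n`-th cyclotomic polynomial has a root in `A`.
-/

set_option autoImplicit false
open Polynomial IsLocalRing
universe u

namespace Groth.Agent.Lib.Helper8HensCyclo

theorem exists_cyclotomic_root (A : Type u) [CommRing A] [HenselianLocalRing A]
    [IsSepClosed (ResidueField A)] (n : ℕ) (hn : 1 ≤ n) (hu : IsUnit (n : A)) :
    ∃ ζ : A, aeval ζ (cyclotomic n ℤ) = 0 := by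
  classical
  let k := ResidueField A
  have hnk : ((n : ℕ) : k) ≠ 0 := by
    have h1 : IsUnit (residue A (n : A)) := hu.map (residue A)
    rw [map_natCast] at h1
    exact h1.ne_zero
  haveI : NeZero ((n : ℕ) : k) := ⟨hnk⟩
  have hsep : (cyclotomic n k).Separable := separable_cyclotomic n k
  have hdeg : (cyclotomic n k).degree ≠ 0 := by
    rw [degree_cyclotomic]
    have : 0 < Nat.totient n := Nat.totient_pos.mpr (by omega)
    exact_mod_cast this.ne'
  obtain ⟨xb, hxb⟩ := IsSepClosed.exists_root (cyclotomic n k) hdeg hsep
  obtain ⟨x, rfl⟩ := residue_surjective xb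
  have hmap : (cyclotomic n A).map (residue A) = cyclotomic n k := map_cyclotomic n (residue A)
  have h1 : (cyclotomic n A).eval x ∈ maximalIdeal A := by
    rw [← residue_eq_zero_iff, ← eval₂_at_apply, eval₂_eq_eval_map, hmap]
    exact hxb
  have h2 : IsUnit ((cyclotomic n A).derivative.eval x) := by
    rw [← residue_ne_zero_iff_isUnit, ← eval₂_at_apply, eval₂_eq_eval_map, ← derivative_map, hmap]
    have := hsep.eval₂_derivative_ne_zero (RingHom.id k) (x := residue A x) (by simpa using hxb)
    simpa using this
  obtain ⟨a, ha, -⟩ := HenselianLocalRing.is_henselian (cyclotomic n A) (cyclotomic.monic n A) x h1 h2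
  refine ⟨a, ?_⟩
  rw [aeval_def, eval₂_eq_eval_map, map_cyclotomic n (algebraMap ℤ A)]
  exact ha

end Groth.Agent.Lib.Helper8HensCyclo
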