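import Mathlib

/-!
# Birational hypersurface model of a separably generated function field: algebra

For a finitely generated field extension `K/k` with a transcendence basis `s` over which `K` is
separable algebraic, there is a monic `g ∈ k[T₁..T_d][T]`, irreducible and separable over
`k(T₁..T_d)`, with `AdjoinRoot g` embedding into `K` over `k` with fraction field `K`.
-/

set_option autoImplicit false
universe u

namespace Groth.Agent.Lib.Helper8HypBirAlg

open Polynomial

/-- every element of a field generated by an algebraic element `a` over the fraction field `Q`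
of `P` is a `P[a]`-fraction with denominator in `P`. -/
theorem exists_smul_mem_adjoin {P Q K : Type u} [CommRing P] [IsDomain P] [Field Q] [Field K]
    [Algebra P Q] [IsFractionRing P Q] [Algebra Q K] [Algebra P K] [IsScalarTower P Q K]
    (a : K) (ha : IsAlgebraic Q a) (htop : IntermediateField.adjoin Q {a} = ⊤) (x : K) :
    ∃ c : P, c ≠ 0 ∧ algebraMap P K c * x ∈ Algebra.adjoin P {a} := by
  have hx : x ∈ IntermediateField.adjoin Q {a} := htop ▸ IntermediateField.mem_top
  rw [← IntermediateField.mem_toSubalgebra,
    IntermediateField.adjoin_simple_toSubalgebra_of_isAlgebraic ha,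
    Algebra.adjoin_singleton_eq_range_aeval] at hx
  obtain ⟨q, rfl⟩ := hx
  obtain ⟨b, hb, hbq⟩ := IsLocalization.integerNormalization_spec (nonZeroDivisors P) q
  refine ⟨b, nonZeroDivisors.ne_zero hb, ?_⟩
  have h1 : algebraMap P K b * (aeval a) q =
      aeval a ((IsLocalization.integerNormalization (nonZeroDivisors P) q).map (algebraMap P Q)) := by
    rw [hbq]
    have : (b • q : Q[X]) = C (algebraMap P Q b) * q := by
      rw [Algebra.smul_def, IsScalarTower.algebraMap_apply P Q Q[X]]; rfl
    rw [this, map_mul, aeval_C, ← IsScalarTower.algebraMap_apply]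
  change algebraMap P K b * (aeval a) q ∈ _
  rw [h1, aeval_map_algebraMap, Algebra.adjoin_singleton_eq_range_aeval]
  exact ⟨_, rfl⟩

/-- **Hypersurface model of a separably generated function field.** -/
theorem exists_poly (k K : Type u) [Field k] [Field K] [Algebra k K] [Algebra.EssFiniteType k K]
    (d : ℕ) (s : Fin d → K) (hs : IsTranscendenceBasis k s)
    (hsep : Algebra.IsSeparable (IntermediateField.adjoin k (Set.range s)) K) :
    ∃ (g : Polynomial (MvPolynomial (Fin d) k)) (φ : AdjoinRoot g →ₐ[k] K), g.Monic ∧
      Irreducible (g.map (algebraMap (MvPolynomial (Fin d) k)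
        (FractionRing (MvPolynomial (Fin d) k)))) ∧
      (g.map (algebraMap (MvPolynomial (Fin d) k)
        (FractionRing (MvPolynomial (Fin d) k)))).Separable ∧
      Function.Injective φ ∧ ∀ x : K, ∃ a b : AdjoinRoot g, b ≠ 0 ∧ x * φ b = φ a := by
  classical
  let P := MvPolynomial (Fin d) k
  let Q := FractionRing P
  let F := IntermediateField.adjoin k (Set.range s)
  let ε : Q ≃ₐ[k] F := hs.1.aevalEquivField
  letI algQK : Algebra Q K := (F.val.toRingHom.comp ε.toAlgHom.toRingHom).toAlgebra
  letI algPK : Algebra P K := (MvPolynomial.aeval s : P →ₐ[k] K).toRingHom.toAlgebra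
  haveI t1 : IsScalarTower P Q K := IsScalarTower.of_algebraMap_eq (fun p => by
    change MvPolynomial.aeval s p = ((ε (algebraMap P Q p) : F) : K)
    exact (hs.1.aevalEquivField_algebraMap_apply_coe p).symm)
  haveI t2 : IsScalarTower k Q K := IsScalarTower.of_algebraMap_eq (fun c => by
    change algebraMap k K c = ((ε (algebraMap k Q c) : F) : K)
    rw [ε.commutes]; rfl)
  haveI t3 : IsScalarTower k P K := IsScalarTower.of_algebraMap_eq (fun c => by
    change algebraMap k K c = MvPolynomial.aeval s (algebraMap k P c)
    rw [AlgHom.commutes])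
  haveI : Algebra.IsSeparable Q K :=
    Algebra.IsSeparable.of_equiv_equiv (A₁ := F) (B₁ := K) ε.symm.toRingEquiv (RingEquiv.refl K) (by
      ext x
      change ((ε (ε.symm x) : F) : K) = (x : K)
      rw [ε.apply_symm_apply])
  haveI : Algebra.EssFiniteType Q K := Algebra.EssFiniteType.of_comp k Q K
  haveI : Algebra.IsAlgebraic Q K := Algebra.IsSeparable.isAlgebraic Q K
  haveI : Module.Finite Q K := Algebra.finite_of_essFiniteType_of_isAlgebraic
  obtain ⟨α, hα⟩ := Field.exists_primitive_element Q K
  have hαQ : IsAlgebraic Q α := Algebra.IsAlgebraic.isAlgebraic α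
  have hαP : IsAlgebraic P α := (IsFractionRing.isAlgebraic_iff P Q K).mpr hαQ
  obtain ⟨c, hc0, hcint⟩ := hαP.exists_integral_multiple
  set α' : K := c • α with hα'
  have hinjPK : Function.Injective (algebraMap P K) := by
    rw [IsScalarTower.algebraMap_eq P Q K]
    exact (algebraMap Q K).injective.comp (IsFractionRing.injective P Q)
  have hcK : algebraMap P K c ≠ 0 := fun h => hc0 (hinjPK (h.trans (map_zero _).symm))
  have hα'top : IntermediateField.adjoin Q {α'} = ⊤ := by
    rw [eq_top_iff, ← hα, IntermediateField.adjoin_simple_le_iff]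
    have h1 : α' ∈ IntermediateField.adjoin Q {α'} := IntermediateField.mem_adjoin_simple_self Q α'
    have h2 : algebraMap Q K (algebraMap P Q c) ∈ IntermediateField.adjoin Q {α'} :=
      IntermediateField.algebraMap_mem _ _
    have h3 : α = (algebraMap Q K (algebraMap P Q c))⁻¹ * α' := by
      rw [hα', Algebra.smul_def, ← IsScalarTower.algebraMap_apply P Q K, ← mul_assoc,
        inv_mul_cancel₀ hcK, one_mul]
    rw [h3]
    exact mul_mem (inv_mem h2) h1
  have hα'Q : IsAlgebraic Q α' := Algebra.IsAlgebraic.isAlgebraic α'
  have hgmap : (minpoly P α').map (algebraMap P Q) = minpoly Q α' :=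
    (minpoly.isIntegrallyClosed_eq_field_fractions' Q hcint).symm
  haveI : Module.IsTorsionFree P K := Module.isTorsionFree_iff_algebraMap_injective.mpr hinjPK
  let φP : AdjoinRoot (minpoly P α') →ₐ[P] K :=
    (Algebra.adjoin P {α'}).val.comp (AdjoinRoot.Minpoly.toAdjoin P α')
  have hφinj : Function.Injective φP :=
    Subtype.val_injective.comp (minpoly.ToAdjoin.injective hcint)
  refine ⟨minpoly P α', φP.restrictScalars k, minpoly.monic hcint, ?_, ?_, hφinj, ?_⟩
  · change Irreducible ((minpoly P α').map (algebraMap P Q))
    rw [hgmap]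
    exact minpoly.irreducible hα'Q.isIntegral
  · change ((minpoly P α').map (algebraMap P Q)).Separable
    rw [hgmap]
    exact Algebra.IsSeparable.isSeparable Q α'
  · intro x
    obtain ⟨b, hb0, hb⟩ := exists_smul_mem_adjoin (P := P) (Q := Q) α' hα'Q hα'top x
    obtain ⟨a, ha⟩ := AdjoinRoot.Minpoly.toAdjoin.surjective P α' ⟨_, hb⟩
    have hφb : φP (algebraMap P _ b) = algebraMap P K b := φP.commutes b
    refine ⟨a, algebraMap P _ b, ?_, ?_⟩
    · intro h0
      have : algebraMap P K b = 0 := by rw [← hφb, h0, map_zero]
      exact hb0 (hinjPK (this.trans (map_zero _).symm))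
    · change x * φP (algebraMap P _ b) = φP a
      rw [hφb, mul_comm]
      change _ = ((AdjoinRoot.Minpoly.toAdjoin P α' a : Algebra.adjoin P {α'}) : K)
      rw [ha]

end Groth.Agent.Lib.Helper8HypBirAlg
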