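import Mathlib
import Groth.Prelude.Def_CurvBase
import Groth.Agent.Lib.Helper4BirIso
import Groth.Agent.Lib.Helper8HypBirAlg

/-!
# Birational hypersurface model of a separably generated variety (geometry)
-/

set_option autoImplicit false
set_option linter.style.haveILetI false
universe u

namespace Groth.Agent.Lib.Helper8HypBirGeo

open CategoryTheory AlgebraicGeometry

attribute [local instance] Curv2.stalkAlgebra

variable (k : Type u) [Field k] (X : Scheme.{u}) [X.Over (Spec (CommRingCat.of k))] [IsIntegral X]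

/-- the structure map `k → K(X)` factors through any nonempty open. -/
theorem stalkMap_eq (U : X.Opens) [Nonempty U] :
    Curv2.stalkMap k X (genericPoint X) =
      (X.germToFunctionField U).hom.comp
        (((X ↘ Spec (CommRingCat.of k)).appLE ⊤ U le_top).hom.comp
          (Scheme.ΓSpecIso (CommRingCat.of k)).inv.hom) := by
  unfold Curv2.stalkMap Coh.toGlobal
  rw [← RingHom.comp_assoc, ← RingHom.comp_assoc]
  congr 1
  rw [← CommRingCat.hom_comp, ← CommRingCat.hom_comp]
  congr 1
  rw [Scheme.Hom.appLE, Category.assoc]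
  unfold Scheme.germToFunctionField
  rw [X.presheaf.germ_res]
  rfl

theorem essFiniteType_stalk [LocallyOfFiniteType (X ↘ Spec (CommRingCat.of k))] :
    Algebra.EssFiniteType k (X.presheaf.stalk (genericPoint X)) := by
  obtain ⟨U, hU, hxU⟩ : ∃ U : X.Opens, IsAffineOpen U ∧ genericPoint X ∈ U := by
    obtain ⟨_, ⟨U, hU, rfl⟩, hx, -⟩ := X.isBasis_affineOpens.exists_subset_of_mem_open
      (Set.mem_univ (genericPoint X)) isOpen_univ
    exact ⟨U, hU, hx⟩
  haveI : Nonempty U := ⟨⟨_, hxU⟩⟩
  change (Curv2.stalkMap k X (genericPoint X)).EssFiniteType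
  rw [stalkMap_eq k X U]
  have h1 : ((X ↘ Spec (CommRingCat.of k)).appLE ⊤ U le_top).hom.FiniteType :=
    LocallyOfFiniteType.finiteType_appLE (X ↘ Spec (CommRingCat.of k)) (isAffineOpen_top _) hU le_top
  have h2 : ((Scheme.ΓSpecIso (CommRingCat.of k)).inv.hom).FiniteType :=
    RingHom.FiniteType.of_surjective _
      (ConcreteCategory.bijective_of_isIso (Scheme.ΓSpecIso (CommRingCat.of k)).inv).2
  have h3 : ((X.germToFunctionField U).hom).EssFiniteType := by
    haveI : IsFractionRing Γ(X, U) X.functionField := functionField_isFractionRing_of_isAffineOpen X U hU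
    have : Algebra.EssFiniteType Γ(X, U) X.functionField :=
      Algebra.EssFiniteType.of_isLocalization _ (nonZeroDivisors Γ(X, U))
    exact (RingHom.essFiniteType_algebraMap).mpr this
  exact RingHom.EssFiniteType.comp (h1.comp h2).essFiniteType h3

/-- the function field of `Spec R` is identified with any field of fractions of `R`. -/
theorem exists_functionField_equiv (R : CommRingCat.{u}) [IsDomain R] (K : Type u) [Field K]
    (φ : R →+* K) (hinj : Function.Injective φ)
    (hfrac : ∀ x : K, ∃ a b : R, b ≠ 0 ∧ x * φ b = φ a) :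
    ∃ θ : (Spec R).presheaf.stalk (genericPoint (Spec R)) ≃+* K,
      ∀ r : R, θ ((StructureSheaf.toStalk R (genericPoint (Spec R))).hom r) = φ r := by
  letI algCK : Algebra R K := φ.toAlgebra
  haveI : FaithfulSMul R K := (faithfulSMul_iff_algebraMap_injective _ _).mpr hinj
  haveI : IsFractionRing R K := IsFractionRing.of_field R K (fun z => by
    obtain ⟨a, b, hb, hab⟩ := hfrac z
    refine ⟨a, b, ?_⟩
    have hb' : algebraMap R K b ≠ 0 := fun h => hb (hinj (h.trans (map_zero _).symm))
    rw [eq_div_iff hb']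
    exact hab)
  let θ' : (Spec R).functionField ≃ₐ[R] K :=
    IsLocalization.algEquiv (nonZeroDivisors R) _ _
  exact ⟨θ'.toRingEquiv, fun r => θ'.commutes r⟩

theorem main [LocallyOfFiniteType (X ↘ Spec (CommRingCat.of k))]
    (d : ℕ) (s : Fin d → X.presheaf.stalk (genericPoint X)) (hs : IsTranscendenceBasis k s)
    (hsep : Algebra.IsSeparable ↥(IntermediateField.adjoin k (Set.range s))
      (X.presheaf.stalk (genericPoint X))) :
    ∃ (g : Polynomial (MvPolynomial (Fin d) k)), g.Monic ∧
      Irreducible (g.map (algebraMap (MvPolynomial (Fin d) k)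
        (FractionRing (MvPolynomial (Fin d) k)))) ∧
      (g.map (algebraMap (MvPolynomial (Fin d) k)
        (FractionRing (MvPolynomial (Fin d) k)))).Separable ∧
      ∃ (U : X.Opens) (V : (Spec (CommRingCat.of (AdjoinRoot g))).Opens)
        (e : (U : Scheme.{u}) ≅ (V : Scheme.{u})),
        (U : Set X).Nonempty ∧ (V : Set (Spec (CommRingCat.of (AdjoinRoot g)))).Nonempty ∧
        e.hom ≫ V.ι ≫ Spec.map (CommRingCat.ofHom (algebraMap k (AdjoinRoot g))) =
          U.ι ≫ (X ↘ Spec (CommRingCat.of k)) := by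
  haveI := essFiniteType_stalk k X
  obtain ⟨g, φ, hmonic, hirr, hsepg, hinj, hfrac⟩ :=
    Helper8HypBirAlg.exists_poly k (X.presheaf.stalk (genericPoint X)) d s hs hsep
  refine ⟨g, hmonic, hirr, hsepg, ?_⟩
  haveI : IsDomain (AdjoinRoot g) := hinj.isDomain φ.toRingHom
  let Y : Scheme.{u} := Spec (CommRingCat.of (AdjoinRoot g))
  let sY : Y ⟶ Spec (CommRingCat.of k) :=
    Spec.map (CommRingCat.ofHom (algebraMap k (AdjoinRoot g)))
  haveI : IsIntegral Y := inferInstance
  haveI : LocallyOfFiniteType sY := by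
    rw [HasRingHomProperty.Spec_iff (P := @LocallyOfFiniteType)]
    have h1 : Algebra.FiniteType (MvPolynomial (Fin d) k) (AdjoinRoot g) := inferInstance
    have h2 : Algebra.FiniteType k (MvPolynomial (Fin d) k) := inferInstance
    have : Algebra.FiniteType k (AdjoinRoot g) := Algebra.FiniteType.trans h2 h1
    exact RingHom.finiteType_algebraMap.mpr this
  let K := X.presheaf.stalk (genericPoint X)
  obtain ⟨θ', hθ'⟩ := @exists_functionField_equiv (CommRingCat.of (AdjoinRoot g))
    (inferInstanceAs (IsDomain (AdjoinRoot g))) K _ φ.toRingHom hinj hfrac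
  let θ : Y.presheaf.stalk (genericPoint Y) ≅ X.presheaf.stalk (genericPoint X) :=
    θ'.toCommRingCatIso
  have hsXY : (X ↘ Spec (CommRingCat.of k)) (genericPoint X) = sY (genericPoint Y) :=
    Subsingleton.elim _ _
  have hbir := Helper4.BirIso.birationalOver_of_stalk_iso (X ↘ Spec (CommRingCat.of k)) sY
    (genericPoint X) (genericPoint Y) hsXY θ ?_
  · obtain ⟨f, hf⟩ := hbir
    exact ⟨f.source, f.target, f.iso, f.dense_source.nonempty, f.dense_target.nonempty, hf⟩
  · apply TopCat.Presheaf.stalk_hom_ext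
    intro U hxU
    have hU : U = ⊤ := by
      ext z
      simp only [TopologicalSpace.Opens.coe_top, Set.mem_univ, iff_true, SetLike.mem_coe]
      convert hxU using 1
      exact Subsingleton.elim _ _
    subst hU
    rw [Scheme.Hom.germ_stalkMap_assoc, TopCat.Presheaf.germ_stalkSpecializes_assoc,
      Scheme.Hom.germ_stalkMap]
    rw [← cancel_epi (Scheme.ΓSpecIso (CommRingCat.of k)).inv]
    have h1 : (Scheme.ΓSpecIso (CommRingCat.of k)).inv ≫ Scheme.Hom.app sY ⊤ =
        CommRingCat.ofHom (algebraMap k (AdjoinRoot g)) ≫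
          (Scheme.ΓSpecIso (CommRingCat.of (AdjoinRoot g))).inv :=
      (Scheme.ΓSpecIso_inv_naturality _).symm
    have h2 : (Scheme.ΓSpecIso (CommRingCat.of (AdjoinRoot g))).inv ≫
        Y.presheaf.germ (sY ⁻¹ᵁ ⊤) (genericPoint ↥Y) hxU =
        StructureSheaf.toStalk (AdjoinRoot g) (genericPoint Y) := by
      rw [Scheme.ΓSpecIso_inv]
      exact StructureSheaf.algebraMap_germ _ _ _
    ext c
    have h1c := congrArg (fun f => f.hom c) h1
    have h2c := congrArg (fun f => f.hom (algebraMap k (AdjoinRoot g) c)) h2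
    have h3 : θ.hom ((StructureSheaf.toStalk (AdjoinRoot g) (genericPoint Y)).hom
        (algebraMap k (AdjoinRoot g) c)) = φ (algebraMap k (AdjoinRoot g) c) := hθ' _
    have h4 : φ (algebraMap k (AdjoinRoot g) c) = algebraMap k K c := φ.commutes c
    have hR : (CommRingCat.Hom.hom
        ((Scheme.ΓSpecIso (CommRingCat.of k)).inv ≫
          Scheme.Hom.app (X ↘ Spec (CommRingCat.of k)) ⊤ ≫
            X.presheaf.germ ((X ↘ Spec (CommRingCat.of k)) ⁻¹ᵁ ⊤) (genericPoint ↥X) trivial)) c =
        algebraMap k K c := rfl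
    refine Eq.trans ?_ (h3.trans (h4.trans hR.symm))
    change θ.hom ((Y.presheaf.germ (sY ⁻¹ᵁ ⊤) (genericPoint ↥Y) hxU).hom
      (((Scheme.ΓSpecIso (CommRingCat.of k)).inv ≫ Scheme.Hom.app sY ⊤).hom c)) = _
    rw [h1c]
    exact congrArg θ.hom h2c

end Groth.Agent.Lib.Helper8HypBirGeo
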