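import Mathlib
import Groth.Prelude.Def_PBC
import Groth.Agent.Lib.Helper3IndEt

/-!
# Points of faithfully flat ind-étale algebras with values in separably closed fields (helper8)
-/

set_option autoImplicit false
open TensorProduct
universe u

namespace Groth.Agent.Lib.Helper8IndEtSepPt

/-- separable elements of a domain over a separably closed field are scalars -/
theorem exists_algebraMap_eq_of_isSeparable {k D : Type*} [Field k] [IsSepClosed k] [CommRing D]
    [IsDomain D] [Algebra k D] (x : D) (hx : IsSeparable k x) : ∃ c, algebraMap k D c = x := by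
  refine ⟨-(minpoly k x).coeff 0, ?_⟩
  have hint : IsIntegral k x := hx.isIntegral
  have hq : (minpoly k x).leadingCoeff = 1 := minpoly.monic hint
  have h : (minpoly k x).degree = 1 :=
    IsSepClosed.degree_eq_one_of_irreducible k (minpoly.irreducible hint) hx
  have : Polynomial.aeval x (minpoly k x) = 0 := minpoly.aeval k x
  rw [Polynomial.eq_X_add_C_of_degree_eq_one h, hq, Polynomial.C_1, one_mul, Polynomial.aeval_add,
    Polynomial.aeval_X, Polynomial.aeval_C, add_eq_zero_iff_eq_neg] at this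
  exact (map_neg (algebraMap k D) ((minpoly k x).coeff 0)).symm ▸ this.symm

/-- the image of an étale algebra over a separably closed field in a domain consists of scalars -/
theorem algHom_range_le_bot {K E' L : Type u} [Field K] [IsSepClosed K] [CommRing E'] [Algebra K E']
    [Algebra.Etale K E'] [CommRing L] [IsDomain L] [Algebra K L] (G : E' →ₐ[K] L) (e : E') :
    ∃ c, algebraMap K L c = G e := by
  let p : Ideal E' := RingHom.ker G.toRingHom
  haveI : p.IsPrime := RingHom.ker_isPrime G.toRingHom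
  haveI : Algebra.IsSeparable K (E' ⧸ p) := inferInstance
  haveI : IsDomain (E' ⧸ p) := Ideal.Quotient.isDomain p
  obtain ⟨c, hc⟩ := exists_algebraMap_eq_of_isSeparable (k := K) (Ideal.Quotient.mk p e)
    (Algebra.IsSeparable.isSeparable K _)
  let Gbar : E' ⧸ p →ₐ[K] L := Ideal.Quotient.liftₐ p G (fun a ha => ha)
  refine ⟨c, ?_⟩
  have := congrArg Gbar hc
  rw [AlgHom.commutes] at this
  exact this

theorem exists_hom_to_sepClosed {A R : Type u} [CommRing A] [CommRing R] [Algebra A R]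
    (hR : EtPBC.IsIndEtale A R) [Module.FaithfullyFlat A R]
    (K : Type u) [Field K] [IsSepClosed K] (ψ : A →+* K) :
    ∃ η : R →+* K, η.comp (algebraMap A R) = ψ := by
  letI : Algebra A K := ψ.toAlgebra
  haveI : Nontrivial (K ⊗[A] R) := Module.FaithfullyFlat.rTensor_nontrivial A R K
  obtain ⟨m, hm⟩ := Ideal.exists_maximal (K ⊗[A] R)
  haveI : IsDomain ((K ⊗[A] R) ⧸ m) := Ideal.Quotient.isDomain m
  have hr : ∀ r : R, ∃ c : K, algebraMap K ((K ⊗[A] R) ⧸ m) c =
      Ideal.Quotient.mk m ((1 : K) ⊗ₜ[A] r) := by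
    intro r
    obtain ⟨E, _, _, _, f, g, hfg⟩ := Groth.Agent.Lib.Helper3.IndEt.factor_of_isIndEtale hR
      (MvPolynomial (Fin 1) A) (MvPolynomial.aeval (fun _ => r))
    have hge : g (f (MvPolynomial.X 0)) = r := by
      have := AlgHom.congr_fun hfg (MvPolynomial.X 0)
      simpa using this
    let G : K ⊗[A] E →ₐ[K] (K ⊗[A] R) ⧸ m :=
      (Ideal.Quotient.mkₐ K m).comp (Algebra.TensorProduct.map (AlgHom.id K K) g)
    obtain ⟨c, hc⟩ := algHom_range_le_bot G ((1 : K) ⊗ₜ[A] f (MvPolynomial.X 0))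
    refine ⟨c, ?_⟩
    rw [hc]
    simp [G, hge]
  have hsurj : Function.Surjective (algebraMap K ((K ⊗[A] R) ⧸ m)) := by
    intro b
    obtain ⟨b, rfl⟩ := Ideal.Quotient.mk_surjective b
    induction b using TensorProduct.induction_on with
    | zero => exact ⟨0, by simp⟩
    | tmul k r =>
      obtain ⟨c, hc⟩ := hr r
      refine ⟨k * c, ?_⟩
      rw [map_mul, hc]
      have : k ⊗ₜ[A] r = (k ⊗ₜ[A] (1 : R)) * ((1 : K) ⊗ₜ[A] r) := by
        rw [Algebra.TensorProduct.tmul_mul_tmul, mul_one, one_mul]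
      rw [this, map_mul]
      rfl
    | add x y hx hy =>
      obtain ⟨a, ha⟩ := hx
      obtain ⟨b, hb⟩ := hy
      exact ⟨a + b, by rw [map_add, map_add, ha, hb]⟩
  have hinj : Function.Injective (algebraMap K ((K ⊗[A] R) ⧸ m)) :=
    haveI : Nontrivial ((K ⊗[A] R) ⧸ m) := Ideal.Quotient.nontrivial_iff.mpr hm.ne_top
    (algebraMap K ((K ⊗[A] R) ⧸ m)).injective
  let e : K ≃+* (K ⊗[A] R) ⧸ m := RingEquiv.ofBijective _ ⟨hinj, hsurj⟩
  refine ⟨(e.symm : (K ⊗[A] R) ⧸ m →+* K).comp ((Ideal.Quotient.mk m).comp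
    (Algebra.TensorProduct.includeRight (R := A) (A := K) (B := R)).toRingHom), ?_⟩
  ext a
  change e.symm (Ideal.Quotient.mk m ((1 : K) ⊗ₜ[A] (algebraMap A R a))) = ψ a
  rw [RingEquiv.symm_apply_eq]
  change _ = algebraMap K ((K ⊗[A] R) ⧸ m) (ψ a)
  have h1 : (1 : K) ⊗ₜ[A] (algebraMap A R a) = (ψ a) ⊗ₜ[A] (1 : R) := by
    rw [Algebra.algebraMap_eq_smul_one, ← TensorProduct.smul_tmul, Algebra.smul_def, mul_one]
    rfl
  rw [h1]
  rfl

end Groth.Agent.Lib.Helper8IndEtSepPt
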