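-- helper8: the relative inertia, its neutral section and the diagonal.
import Mathlib
import Groth.Agent.Lib.Helper15GoodComp
import Groth.Agent.Lib.Helper8DiagCancel
import Groth.Agent.Lib.Helper15MonoFF
import Groth.Agent.S9900
import Groth.Agent.Lib.Helper15ImmQc
import Groth.Agent.S9912
import Groth.Agent.Lib.Helper8QsCancel
import Groth.Agent.Lib.Helper8SepCancel
import Groth.Agent.S9922
import Groth.Agent.Lib.Helper8DiagEq
import Groth.Agent.Lib.Helper17FibInertia3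
import Groth.Agent.Lib.Helper15DiagOfComp

set_option autoImplicit false
set_option backward.isDefEq.respectTransparency false
set_option backward.isDefEq.respectTransparency.types false
open CategoryTheory CategoryTheory.Functor CategoryTheory.Limits Opposite AlgebraicGeometry

universe u

namespace Groth.Agent.Lib.Helper8InertiaSep

open Groth.Agent.Lib.Helper17 Groth.Agent.Lib.Helper15PshFib Groth.Agent.Lib.Helper15RepComp
  Groth.Agent.Lib.Helper15RepPsh Groth.Agent.Lib.Helper15DiagBase Groth.Agent.Lib.Helper15DiagRepSp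
  Groth.Agent.Lib.Helper15Descent Groth.Agent.Lib.Helper15DiagLft
  Groth.Agent.Lib.Helper15DiagDescent Groth.Agent.Lib.Helper15SpMapRep
  Groth.Agent.Lib.Helper15SrcCancel Groth.Agent.Lib.Helper15ChartSp Groth.Agent.Lib.Helper15Atlas
  Groth.Agent.Lib.Helper15LocEss Groth.Agent.Lib.Helper15UnivComp Groth.Agent.Lib.Helper15SmLoc
  Groth.Agent.Lib.Helper15PtsComp Groth.Agent.Lib.Helper15PtsTop Groth.Agent.Lib.Helper15PtsQc
  Groth.Agent.Lib.Helper15FpSwap Groth.Agent.Lib.Helper15QcLocal Groth.Agent.Lib.Helper15ClosedQc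
  Groth.Agent.Lib.Helper15UnivPts Groth.Agent.Lib.Helper15BaseChange
  Groth.Agent.Lib.Helper15MonoSep Groth.Agent.Lib.Helper15LocQ Groth.Agent.Lib.Helper15LocQEngine
  Groth.Agent.Lib.Helper15LocQProps Groth.Agent.Lib.Helper15LocQSpace
  Groth.Agent.Lib.Helper15LocQSpace2 Groth.Agent.Lib.Helper15LocQRep
  Groth.Agent.Lib.Helper15LocQComp Groth.Agent.Lib.Helper15GoodComp
  Groth.Agent.Lib.Helper8DiagCancel Groth.Agent.Lib.Helper15MonoFF Groth.Agent.Lib.Helper8DiagEq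

section Inertia

variable {S : Scheme.{u}} {𝒳 𝒴 : AlgSt.Cat S}

/-- The neutral section of the inertia corresponds to the second diagonal. -/
def neutralIso (f : 𝒳 ⥤ᵇ 𝒴) :
    BasedFunctor.comp (FibCat.inertiaNeutral f) (inertiaToFpDiag f) ≅
      BasedFunctor.comp (BasedFunctor.id 𝒳) (FibCat.diag (FibCat.diag f)) :=
  fpIsoMk (FibCat.diag f) (FibCat.diag f)
    (H := BasedFunctor.comp (FibCat.inertiaNeutral f) (inertiaToFpDiag f))
    (K := BasedFunctor.comp (BasedFunctor.id 𝒳) (FibCat.diag (FibCat.diag f)))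
    (Iso.refl _) (Iso.refl _) (fun a => by
      apply ObjectProperty.hom_ext
      apply Limits.CategoricalPullback.hom_ext
      · change (𝟙 a ≫ 𝟙 a : a ⟶ a) = 𝟙 a ≫ 𝟙 a
        rfl
      · change (𝟙 a ≫ 𝟙 a : a ⟶ a) = 𝟙 a ≫ 𝟙 a
        rfl)

/-- The common core of the characterisations of (quasi-)separatedness of the diagonal through the
inertia. -/
theorem inertia_tfae_core (P₁ P₂ : MorphismProperty (AlgSp.Sp S))
    (hkey : ∀ {𝒜 ℬ : AlgSt.Cat S} (k : 𝒜 ⥤ᵇ ℬ), AlgSt.RepByAlgSp1 k →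
      AlgSt.RepByAlgSp1 (FibCat.diag k) →
      (AlgSt.RepByAlgSpWith P₁ k ↔ AlgSt.RepByAlgSpWith P₂ (FibCat.diag k)))
    (h𝒳 : AlgSt.IsAlgStack Scheme.fppfPrecoverage 𝒳)
    (h𝒴 : AlgSt.IsAlgStack Scheme.fppfPrecoverage 𝒴) (f : 𝒳 ⥤ᵇ 𝒴) :
    [AlgSt.RepByAlgSpWith P₁ (FibCat.inertiaToBase f),
      AlgSt.RepByAlgSpWith P₁ (FibCat.diag f),
      AlgSt.RepByAlgSpWith P₂ (FibCat.inertiaNeutral f)].TFAE := by
  have hgX := h𝒳.isStack.1
  have hgY := h𝒴.isStack.1
  have hΔ : AlgSt.RepByAlgSp1 (FibCat.diag f) := repByAlgSp1_diag_of_diag f h𝒳.diag h𝒴.diag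
  have hgfp : FibCat.IsFibGrpd (FibCat.fp f f).p := isFibGrpd_fp f f hgX hgX hgY
  have hfp : AlgSt.RepByAlgSp1 (FibCat.diag (FibCat.toSelf (FibCat.fp f f))) :=
    Groth.Agent.Lib.Helper15DiagOfComp.repByAlgSp1_diag_toSelf_fp hgX hgX hgY h𝒳.diag h𝒳.diag
      h𝒴.diag f f
  have hΔΔ : AlgSt.RepByAlgSp1 (FibCat.diag (FibCat.diag f)) :=
    repByAlgSp1_diag_of_diag (FibCat.diag f) h𝒳.diag hfp
  have hfpgg : AlgSt.RepByAlgSp1 (FibCat.diag (FibCat.toSelf
      (FibCat.fp (FibCat.diag f) (FibCat.diag f)))) :=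
    Groth.Agent.Lib.Helper15DiagOfComp.repByAlgSp1_diag_toSelf_fp hgX hgX hgfp h𝒳.diag h𝒳.diag
      hfp (FibCat.diag f) (FibCat.diag f)
  have hp' : AlgSt.RepByAlgSp1 (FibCat.fpFst (FibCat.diag f) (FibCat.diag f)) :=
    (repByAlgSp1_iff_top _).2 (repByAlgSpWith_fpFst _ (FibCat.diag f) (FibCat.diag f)
      ((repByAlgSp1_iff_top _).1 hΔ))
  have hΔp' : AlgSt.RepByAlgSp1 (FibCat.diag (FibCat.fpFst (FibCat.diag f) (FibCat.diag f))) :=
    repByAlgSp1_diag_of_diag _ hfpgg h𝒳.diag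
  have hE := isEquivOver_inertiaToFpDiag f
  have hA : ∀ P : MorphismProperty (AlgSp.Sp S),
      AlgSt.RepByAlgSpWith P (FibCat.fpFst (FibCat.diag f) (FibCat.diag f)) ↔
        AlgSt.RepByAlgSpWith P (FibCat.inertiaToBase f) := fun P =>
    repByAlgSpWith_of_square P (FibCat.fpFst (FibCat.diag f) (FibCat.diag f))
      (FibCat.inertiaToBase f) (inertiaToFpDiag f) (BasedFunctor.id _) hE (isEquivOver_id _)
      (Iso.refl _)
  have hB : ∀ P : MorphismProperty (AlgSp.Sp S),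
      AlgSt.RepByAlgSpWith P (FibCat.diag (FibCat.diag f)) ↔
        AlgSt.RepByAlgSpWith P (FibCat.inertiaNeutral f) := fun P =>
    repByAlgSpWith_of_square P (FibCat.diag (FibCat.diag f)) (FibCat.inertiaNeutral f)
      (BasedFunctor.id _) (inertiaToFpDiag f) (isEquivOver_id _) hE (neutralIso f)
  tfae_have 1 → 3 := by
    intro h1
    have h2 := (hkey _ hp' hΔp').1 ((hA P₁).2 h1)
    have h3 := repByAlgSpWith_section P₂ (FibCat.fpFst (FibCat.diag f) (FibCat.diag f))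
      (FibCat.diag (FibCat.diag f)) (Iso.refl _) h2
    exact (hB P₂).1 h3
  tfae_have 3 → 2 := fun h3 => (hkey _ hΔ hΔΔ).2 ((hB P₂).2 h3)
  tfae_have 2 → 1 := fun h2 =>
    (hA P₁).1 (repByAlgSpWith_fpFst P₁ (FibCat.diag f) (FibCat.diag f) h2)
  tfae_finish

end Inertia
end Groth.Agent.Lib.Helper8InertiaSep
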