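import Mathlib

/-!
# Local intersection numbers `length A/(f,g)`: additivity (helper8)
-/

set_option autoImplicit false
universe u

namespace Groth.Agent.Lib.Helper8.IntNum

variable {A : Type u} [CommRing A]

/-- `0 → A/(h,g) --f--> A/(fh,g) → A/(f,g) → 0` is exact when `f` is a nonzerodivisor mod `g`. -/
theorem length_quot_mul (f g h : A) (key : ∀ a, g ∣ f * a → g ∣ a) :
    Module.length A (A ⧸ Ideal.span ({f * h, g} : Set A)) =
      Module.length A (A ⧸ Ideal.span ({f, g} : Set A)) +
        Module.length A (A ⧸ Ideal.span ({h, g} : Set A)) := by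
  set I1 : Ideal A := Ideal.span ({h, g} : Set A) with hI1
  set I2 : Ideal A := Ideal.span ({f * h, g} : Set A) with hI2
  set I3 : Ideal A := Ideal.span ({f, g} : Set A) with hI3
  have h12 : I1 ≤ Submodule.comap (LinearMap.mulLeft A f) I2 := by
    intro a ha
    rw [Submodule.mem_comap, LinearMap.mulLeft_apply]
    obtain ⟨c, d, rfl⟩ := Ideal.mem_span_pair.mp ha
    rw [hI2, Ideal.mem_span_pair]
    exact ⟨c, f * d, by ring⟩
  have h23 : I2 ≤ Submodule.comap (LinearMap.id : A →ₗ[A] A) I3 := by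
    intro a ha
    rw [Submodule.mem_comap, LinearMap.id_apply]
    obtain ⟨c, d, rfl⟩ := Ideal.mem_span_pair.mp ha
    rw [hI3, Ideal.mem_span_pair]
    exact ⟨c * h, d, by ring⟩
  set α : (A ⧸ I1) →ₗ[A] (A ⧸ I2) := Submodule.mapQ I1 I2 (LinearMap.mulLeft A f) h12 with hα
  set β : (A ⧸ I2) →ₗ[A] (A ⧸ I3) := Submodule.mapQ I2 I3 LinearMap.id h23 with hβ
  have hαinj : Function.Injective α := by
    rw [injective_iff_map_eq_zero]
    intro x hx
    obtain ⟨a, rfl⟩ := Submodule.Quotient.mk_surjective _ x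
    rw [hα, Submodule.mapQ_apply, Submodule.Quotient.mk_eq_zero, LinearMap.mulLeft_apply] at hx
    rw [Submodule.Quotient.mk_eq_zero]
    obtain ⟨c, d, hcd⟩ := Ideal.mem_span_pair.mp hx
    have hdvd : g ∣ f * (a - c * h) := ⟨d, by linear_combination -hcd⟩
    obtain ⟨e, he⟩ := key _ hdvd
    rw [hI1, Ideal.mem_span_pair]
    exact ⟨c, e, by linear_combination -he⟩
  have hβsurj : Function.Surjective β := by
    intro y
    obtain ⟨b, rfl⟩ := Submodule.Quotient.mk_surjective _ y
    exact ⟨Submodule.Quotient.mk b, by rw [hβ, Submodule.mapQ_apply, LinearMap.id_apply]⟩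
  have hex : Function.Exact α β := by
    intro y
    obtain ⟨b, rfl⟩ := Submodule.Quotient.mk_surjective _ y
    rw [hβ, Submodule.mapQ_apply, LinearMap.id_apply, Submodule.Quotient.mk_eq_zero]
    constructor
    · intro hb
      obtain ⟨c, d, rfl⟩ := Ideal.mem_span_pair.mp hb
      refine ⟨Submodule.Quotient.mk c, ?_⟩
      rw [hα, Submodule.mapQ_apply, LinearMap.mulLeft_apply, Submodule.Quotient.eq, hI2,
        Ideal.mem_span_pair]
      exact ⟨0, -d, by ring⟩
    · rintro ⟨x, hx⟩
      obtain ⟨a, rfl⟩ := Submodule.Quotient.mk_surjective _ x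
      rw [hα, Submodule.mapQ_apply, LinearMap.mulLeft_apply, Submodule.Quotient.eq] at hx
      have h1 : f * a ∈ I3 := by
        rw [hI3, Ideal.mem_span_pair]
        exact ⟨a, 0, by ring⟩
      have h2 : f * a - b ∈ I3 := h23 hx
      have h3 : b = f * a - (f * a - b) := by ring
      rw [h3]
      exact I3.sub_mem h1 h2
  rw [Module.length_eq_add_of_exact α β hαinj hβsurj hex, add_comm]

end Groth.Agent.Lib.Helper8.IntNum
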