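import Mathlib
import Groth.Agent.Lib.Helper2Div
import Groth.Agent.Lib.Helper4Pur21
import Groth.Agent.Lib.Helper8LocFact
import Groth.Agent.Lib.Helper28Equidim

/-!
# Proper intersection of an effective Cartier divisor with an integral closed subscheme (helper8)

* `isEquidim_stalk`: local rings of an irreducible scheme are equidimensional (unique minimal prime).
* `comap_maximalIdeal_eq_ker_stalkMap`: for a closed immersion `i : Z ⟶ X` from an integral scheme
  with generic point `ξ`, the prime of `O_{X,i z}` corresponding to `i ξ` is the kernel of the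
  stalk map at `z`.
* `ringKrullDim_stalk_eq_add_of_catenary`: `dim O_{X,i z} = dim O_{X,i ξ} + dim O_{Z,z}` when `X`
  is irreducible with catenary local rings.
-/

set_option autoImplicit false
open CategoryTheory AlgebraicGeometry TopologicalSpace

universe u

namespace Groth.Agent.Lib.Helper8.IntProp

theorem ringKrullDim_quotient_of_le_nilradical {R : Type*} [CommRing R] (𝔫 : Ideal R)
    (h1 : 𝔫 ≤ nilradical R) : ringKrullDim (R ⧸ 𝔫) = ringKrullDim R := by
  rw [ringKrullDim_quotient]
  have : PrimeSpectrum.zeroLocus (𝔫 : Set R) = Set.univ := by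
    ext p
    simp only [PrimeSpectrum.mem_zeroLocus, SetLike.coe_subset_coe, Set.mem_univ, iff_true]
    exact h1.trans (nilradical_le_prime p.asIdeal)
  rw [this]
  exact Order.krullDim_eq_of_orderIso OrderIso.Set.univ

/-- Local rings of an irreducible scheme have a unique minimal prime, hence are equidimensional. -/
theorem isEquidim_stalk (X : Scheme.{u}) [IrreducibleSpace X] (ζ : X) :
    EGA4.IsEquidim (X.presheaf.stalk ζ) := by
  intro p hp
  have hη : genericPoint X ⤳ ζ := (genericPoint_spec X).specializes trivial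
  let 𝔫 : Ideal (X.presheaf.stalk ζ) :=
    (IsLocalRing.maximalIdeal (X.presheaf.stalk (genericPoint X))).comap
      (X.presheaf.stalkSpecializes hη).hom
  have h𝔫prime : 𝔫.IsPrime := Ideal.comap_isPrime _ _
  have hle : ∀ q : Ideal (X.presheaf.stalk ζ), q.IsPrime → 𝔫 ≤ q := by
    intro q hq
    let 𝔮 : PrimeSpectrum (X.presheaf.stalk ζ) := ⟨q, hq⟩
    have hy : X.fromSpecStalk ζ 𝔮 ⤳ ζ :=
      Groth.Agent.Lib.Helper4.Pur21.fromSpecStalk_specializes X ζ 𝔮
    have hq' := Groth.Agent.Lib.Helper4.Pur21.comap_stalkSpecializes_maximalIdeal X ζ 𝔮 hy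
    have hηy : genericPoint X ⤳ X.fromSpecStalk ζ 𝔮 := (genericPoint_spec X).specializes trivial
    have hcomp : X.presheaf.stalkSpecializes hy ≫ X.presheaf.stalkSpecializes hηy =
        X.presheaf.stalkSpecializes hη := X.presheaf.stalkSpecializes_comp hηy hy
    intro r hr
    show r ∈ 𝔮.asIdeal
    rw [← hq', Ideal.mem_comap]
    by_contra hnot
    have hunit : IsUnit ((X.presheaf.stalkSpecializes hy).hom r) := by
      by_contra h
      exact hnot ((IsLocalRing.mem_maximalIdeal _).mpr h)
    have hunit2 := hunit.map (X.presheaf.stalkSpecializes hηy).hom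
    have heq : (X.presheaf.stalkSpecializes hη).hom r =
        (X.presheaf.stalkSpecializes hηy).hom ((X.presheaf.stalkSpecializes hy).hom r) := by
      rw [← hcomp]
      rfl
    have hr' : (X.presheaf.stalkSpecializes hη).hom r ∈
        IsLocalRing.maximalIdeal (X.presheaf.stalk (genericPoint X)) := hr
    rw [heq] at hr'
    exact (IsLocalRing.mem_maximalIdeal _).mp hr' hunit2
  have hp𝔫 : p = 𝔫 :=
    le_antisymm (hp.2 ⟨h𝔫prime, bot_le⟩ (hle p hp.1.1)) (hle p hp.1.1)
  have hnil : p ≤ nilradical (X.presheaf.stalk ζ) := by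
    rw [hp𝔫, nilradical_eq_sInf]
    exact le_sInf (fun q hq => hle q hq)
  exact ringKrullDim_quotient_of_le_nilradical p hnil

theorem mem_maximalIdeal_functionField (Z : Scheme.{u}) [IsIntegral Z] (a : Z.functionField) :
    a ∈ IsLocalRing.maximalIdeal Z.functionField ↔ a = 0 := by
  constructor
  · intro h
    by_contra hne
    exact (IsLocalRing.mem_maximalIdeal _).mp h (IsUnit.mk0 a hne)
  · rintro rfl
    exact Ideal.zero_mem _

/-- For a closed immersion `i : Z ⟶ X` from an integral scheme, the prime of `O_{X,i z}` of the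
generization `i ξ` (`ξ` the generic point of `Z`) is the kernel of the stalk map at `z`. -/
theorem comap_maximalIdeal_eq_ker_stalkMap {X Z : Scheme.{u}} (i : Z ⟶ X) [IsIntegral Z]
    (z : Z) (hξ : genericPoint ↥Z ⤳ z)
    (hiξ : i.base (genericPoint ↥Z) ⤳ i.base z) :
    (IsLocalRing.maximalIdeal (X.presheaf.stalk (i.base (genericPoint ↥Z)))).comap
      (X.presheaf.stalkSpecializes hiξ).hom = RingHom.ker (i.stalkMap z).hom := by
  have hinj : Function.Injective (Z.presheaf.stalkSpecializes hξ).hom :=
    Groth.Agent.Lib.Helper4.Pur21.injective_stalkSpecializes Z hξ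
  ext r
  rw [Ideal.mem_comap, RingHom.mem_ker]
  have hnat : (i.stalkMap (genericPoint ↥Z)).hom ((X.presheaf.stalkSpecializes hiξ).hom r) =
      (Z.presheaf.stalkSpecializes hξ).hom ((i.stalkMap z).hom r) :=
    Scheme.Hom.stalkSpecializes_stalkMap_apply i (genericPoint ↥Z) z hξ r
  constructor
  · intro hr
    have h1 : ¬ IsUnit ((i.stalkMap (genericPoint ↥Z)).hom
        ((X.presheaf.stalkSpecializes hiξ).hom r)) := by
      intro hu
      exact (IsLocalRing.mem_maximalIdeal _).mp hr
        ((isUnit_map_iff (i.stalkMap (genericPoint ↥Z)).hom _).mp hu)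
    have h2 : (i.stalkMap (genericPoint ↥Z)).hom ((X.presheaf.stalkSpecializes hiξ).hom r) ∈
        IsLocalRing.maximalIdeal Z.functionField := (IsLocalRing.mem_maximalIdeal _).mpr h1
    rw [mem_maximalIdeal_functionField, hnat] at h2
    exact hinj (h2.trans (map_zero _).symm)
  · intro hr
    rw [IsLocalRing.mem_maximalIdeal, mem_nonunits_iff]
    intro hu
    have hu2 := hu.map (i.stalkMap (genericPoint ↥Z)).hom
    rw [hnat, hr, map_zero] at hu2
    exact not_isUnit_zero hu2

/-- Dimension formula: `dim O_{X,i z} = dim O_{X,i ξ} + dim O_{Z,z}` for a closed immersion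
`i : Z ⟶ X` from an integral scheme into an irreducible locally Noetherian scheme whose local ring
at `i z` is catenary. -/
theorem ringKrullDim_stalk_eq_add_of_catenary {X Z : Scheme.{u}} [IsLocallyNoetherian X]
    [IrreducibleSpace ↥X] (i : Z ⟶ X) [IsClosedImmersion i] [IsIntegral Z] (z : Z)
    (hcat : CAlg.IsCatenary ↑(X.presheaf.stalk (i.base z))) :
    ringKrullDim ↑(X.presheaf.stalk (i.base z)) =
      ringKrullDim ↑(X.presheaf.stalk (i.base (genericPoint ↥Z))) +
        ringKrullDim ↑(Z.presheaf.stalk z) := by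
  have hξ : genericPoint ↥Z ⤳ z := genericPoint_specializes z
  have hiξ : i.base (genericPoint ↥Z) ⤳ i.base z := hξ.map i.continuous
  have hφ : Function.Surjective (i.stalkMap z).hom := i.stalkMap_surjective z
  have hker := comap_maximalIdeal_eq_ker_stalkMap i z hξ hiξ
  haveI : (RingHom.ker (i.stalkMap z).hom).IsPrime := RingHom.ker_isPrime _
  have hquot : ringKrullDim (↑(X.presheaf.stalk (i.base z)) ⧸ RingHom.ker (i.stalkMap z).hom) =
      ringKrullDim ↑(Z.presheaf.stalk z) :=
    ringKrullDim_eq_of_ringEquiv (RingHom.quotientKerEquivOfSurjective hφ)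
  have hht := Groth.Agent.Lib.Helper8.LocFact.ringKrullDim_stalk_eq_height_comap X hiξ
  have hform := Groth.Agent.Lib.Helper28.height_add_ringKrullDim_quotient_eq_of_isEquidim
    (isEquidim_stalk X (i.base z)) hcat (RingHom.ker (i.stalkMap z).hom)
  rw [← hform, hquot, hht, hker]

end Groth.Agent.Lib.Helper8.IntProp
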