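import Mathlib

/-!
# A Koszul-type presentation of the kernel of an action map (helper8)

In an abelian category `C` with a bifunctor `T : C ⥤ C ⥤ C` ("tensor product"), a unit object `O`
with a natural isomorphism `lam : T.obj O ≅ 𝟭 C`, such that `T` preserves epimorphisms in the first
variable and zero morphisms in the second: for an epimorphism `σ : E ⟶ O` and an object `N`, the kernel
of the action map `a = (σ ⊗ N) ≫ λ_N : E ⊗ N ⟶ N` is a quotient of `E ⊗ (E ⊗ N)`
(via `x ⊗ (y ⊗ n) ↦ x ⊗ σ(y) n - σ(x) (y ⊗ n)`).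
-/

set_option autoImplicit false
universe v u

open CategoryTheory CategoryTheory.Limits

namespace Groth.Agent.Lib.Helper8KoszulAbs

variable {C : Type u} [Category.{v} C] [Abelian C]

theorem epi_neg {A B : C} (f : A ⟶ B) [Epi f] : Epi (-f) := by
  refine ⟨fun g h w => ?_⟩
  rw [Preadditive.neg_comp, Preadditive.neg_comp, neg_inj] at w
  exact (cancel_epi f).1 w

/-- the action map `E ⊗ N ⟶ N` attached to `σ : E ⟶ O` -/
noncomputable def act (T : C ⥤ C ⥤ C) {O : C} (lam : T.obj O ≅ 𝟭 C) {E : C} (σ : E ⟶ O) (N : C) :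
    (T.obj E).obj N ⟶ N :=
  (T.map σ).app N ≫ lam.hom.app N

theorem exists_epi_to_kernel (T : C ⥤ C ⥤ C) {O : C} (lam : T.obj O ≅ 𝟭 C)
    [∀ E : C, (T.obj E).PreservesZeroMorphisms]
    (hepi : ∀ {A B : C} (f : A ⟶ B), Epi f → ∀ K : C, Epi ((T.map f).app K))
    {E : C} (σ : E ⟶ O) [Epi σ] (N : C) :
    ∃ κ : (T.obj E).obj ((T.obj E).obj N) ⟶ kernel (act T lam σ N), Epi κ := by
  let a := act T lam σ N
  let k1 : (T.obj E).obj ((T.obj E).obj N) ⟶ (T.obj E).obj N := (T.obj E).map a
  let k2 : (T.obj E).obj ((T.obj E).obj N) ⟶ (T.obj E).obj N := act T lam σ ((T.obj E).obj N)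
  have hnat : ∀ {A B : C} (g : A ⟶ B), (T.obj E).map g ≫ act T lam σ B = act T lam σ A ≫ g := by
    intro A B g
    unfold act
    have e1 := (T.map σ).naturality g
    have e2 := lam.hom.naturality g
    rw [Functor.id_map] at e2
    rw [← Category.assoc, e1, Category.assoc, e2, Category.assoc]
  have h1 : k1 ≫ a = k2 ≫ a := hnat a
  have hκ0 : (k1 - k2) ≫ a = 0 := by rw [Preadditive.sub_comp, h1, sub_self]
  refine ⟨kernel.lift a (k1 - k2) hκ0, ?_⟩
  have h2 : (T.obj E).map (kernel.ι a) ≫ kernel.lift a (k1 - k2) hκ0 =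
      -(act T lam σ (kernel a)) := by
    apply (cancel_mono (kernel.ι a)).1
    rw [Category.assoc, kernel.lift_ι, Preadditive.neg_comp, Preadditive.comp_sub]
    have e3 : (T.obj E).map (kernel.ι a) ≫ k1 = 0 := by
      change (T.obj E).map (kernel.ι a) ≫ (T.obj E).map a = 0
      rw [← Functor.map_comp, kernel.condition, Functor.map_zero]
    have e4 : (T.obj E).map (kernel.ι a) ≫ k2 = act T lam σ (kernel a) ≫ kernel.ι a :=
      hnat (kernel.ι a)
    rw [e3, e4, zero_sub]
  haveI : Epi (act T lam σ (kernel a)) := by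
    unfold act
    haveI := hepi σ inferInstance (kernel a)
    exact epi_comp _ _
  haveI : Epi ((T.obj E).map (kernel.ι a) ≫ kernel.lift a (k1 - k2) hκ0) := by
    rw [h2]
    exact epi_neg _
  exact epi_of_epi ((T.obj E).map (kernel.ι a)) _

end Groth.Agent.Lib.Helper8KoszulAbs
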