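import Mathlib
import Groth.Prelude.Def_EtBase

/-!
# Units of `A[1/x]` modulo `n`-th powers for a strictly henselian local domain (helper8)

* `exists_unit_pow_eq`: in a strictly henselian local ring in which `n` is invertible every unit is
  an `n`-th power;
* `unitsEquivAway`: for a prime element `x` of a domain `A`, `A[1/x]ˣ ≃ Aˣ × ℤ`;
* `exists_surj_zmod`: a surjection `A[1/x]ˣ → ℤ/n` whose kernel is the set of `n`-th powers.
-/

set_option autoImplicit false
universe u
open Polynomial

namespace Groth.Agent.Lib.Helper8KummerAlg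

section Roots

variable {A : Type u} [CommRing A]

theorem exists_unit_pow_eq [IsLocalRing A] (hA : EtCoh.IsStrictlyHenselianLocalRing A) (n : ℕ)
    (hn : IsUnit (n : A)) (u : Aˣ) : ∃ v : Aˣ, v ^ n = u := by
  obtain ⟨hH, hS⟩ := hA
  have hn0 : n ≠ 0 := by
    rintro rfl
    rw [Nat.cast_zero] at hn
    exact not_isUnit_zero hn
  let k := IsLocalRing.ResidueField A
  have hnk : (n : k) ≠ 0 := by
    have h := hn.map (IsLocalRing.residue A)
    rw [map_natCast] at h
    exact h.ne_zero
  have huk : IsLocalRing.residue A (u : A) ≠ 0 := (u.isUnit.map (IsLocalRing.residue A)).ne_zero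
  have hsep : (X ^ n - C (IsLocalRing.residue A (u : A)) : k[X]).Separable :=
    separable_X_pow_sub_C _ hnk huk
  have hdeg : (X ^ n - C (IsLocalRing.residue A (u : A)) : k[X]).degree ≠ 0 := by
    rw [degree_X_pow_sub_C (Nat.pos_of_ne_zero hn0)]
    exact_mod_cast hn0
  obtain ⟨abar, habar⟩ := IsSepClosed.exists_root _ hdeg hsep
  have habar' : abar ^ n = IsLocalRing.residue A (u : A) := by
    have := habar
    rw [IsRoot, eval_sub, eval_pow, eval_X, eval_C, sub_eq_zero] at this
    exact this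
  obtain ⟨a₀, rfl⟩ := IsLocalRing.residue_surjective abar
  have ha₀ : IsUnit a₀ := by
    by_contra h
    have h1 : a₀ ∈ IsLocalRing.maximalIdeal A := (IsLocalRing.mem_maximalIdeal a₀).2 h
    have h2 : IsLocalRing.residue A a₀ = 0 := (IsLocalRing.residue_eq_zero_iff a₀).2 h1
    rw [h2, zero_pow hn0] at habar'
    exact huk habar'.symm
  have hmonic : (X ^ n - C (u : A) : A[X]).Monic := monic_X_pow_sub_C _ hn0
  have h1 : (X ^ n - C (u : A) : A[X]).eval a₀ ∈ IsLocalRing.maximalIdeal A := by
    rw [eval_sub, eval_pow, eval_X, eval_C, ← IsLocalRing.residue_eq_zero_iff, map_sub, map_pow,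
      habar', sub_self]
  have h2 : IsUnit ((X ^ n - C (u : A) : A[X]).derivative.eval a₀) := by
    rw [derivative_sub, derivative_C, sub_zero, derivative_X_pow, eval_mul, eval_pow, eval_X,
      eval_C]
    exact hn.mul (ha₀.pow _)
  obtain ⟨a, ha, -⟩ := hH.is_henselian _ hmonic a₀ h1 h2
  rw [IsRoot, eval_sub, eval_pow, eval_X, eval_C, sub_eq_zero] at ha
  have hau : IsUnit a := by
    have : IsUnit (a ^ n) := ha ▸ u.isUnit
    exact (isUnit_pow_iff hn0).1 this
  refine ⟨hau.unit, ?_⟩
  apply Units.ext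
  rw [Units.val_pow_eq_pow_val, IsUnit.unit_spec, ha]

end Roots

section Away

variable {A : Type u} [CommRing A] [IsDomain A] {x : A} (hx : Prime x)
  (B : Type u) [CommRing B] [Algebra A B] [IsLocalization.Away x B]

include hx in
lemma algebraMap_injective_away : Function.Injective (algebraMap A B) :=
  IsLocalization.injective B (powers_le_nonZeroDivisors_of_noZeroDivisors hx.ne_zero)

/-- the unit `x` of `A[1/x]` -/
noncomputable def xB (x : A) (B : Type u) [CommRing B] [Algebra A B] [IsLocalization.Away x B] : Bˣ :=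
  (IsLocalization.Away.algebraMap_isUnit (S := B) x).unit

lemma xB_val : ((xB x B : Bˣ) : B) = algebraMap A B x := IsUnit.unit_spec _

/-- `(u, k) ↦ u x^k` -/
noncomputable def ψ (x : A) (B : Type u) [CommRing B] [Algebra A B] [IsLocalization.Away x B] :
    Aˣ × Multiplicative ℤ →* Bˣ :=
  (Units.map (algebraMap A B : A →* B)).coprod (zpowersHom Bˣ (xB x B))

lemma ψ_apply (u : Aˣ) (k : ℤ) :
    ψ x B (u, Multiplicative.ofAdd k) = Units.map (algebraMap A B : A →* B) u * xB x B ^ k := by
  unfold ψ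
  rw [MonoidHom.coprod_apply]
  rfl

include hx in
lemma ψ_eq_one (u : Aˣ) (k : ℤ) (h : ψ x B (u, Multiplicative.ofAdd k) = 1) : u = 1 ∧ k = 0 := by
  rw [ψ_apply] at h
  have hinj := algebraMap_injective_away hx B
  obtain ⟨j, rfl | rfl⟩ := Int.eq_nat_or_neg k
  · rw [zpow_natCast] at h
    have h1 : algebraMap A B ((u : A) * x ^ j) = algebraMap A B 1 := by
      have := congrArg (fun b : Bˣ => (b : B)) h
      simp only [Units.val_mul, Units.val_pow_eq_pow_val, xB_val, Units.val_one] at this
      rw [map_mul, map_pow, map_one]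
      exact this
    have h2 := hinj h1
    have h3 : IsUnit (x ^ j) := IsUnit.of_mul_eq_one _ (by rw [mul_comm]; exact h2)
    have hj : j = 0 := by
      by_contra hj
      exact hx.not_unit ((isUnit_pow_iff hj).1 h3)
    subst hj
    rw [pow_zero, mul_one] at h2
    exact ⟨Units.ext h2, rfl⟩
  · rw [zpow_neg, zpow_natCast, mul_inv_eq_one] at h
    have h1 : algebraMap A B (u : A) = algebraMap A B (x ^ j) := by
      have := congrArg (fun b : Bˣ => (b : B)) h
      simp only [Units.val_pow_eq_pow_val, xB_val] at this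
      rw [map_pow]
      exact this
    have h2 := hinj h1
    have h3 : IsUnit (x ^ j) := h2 ▸ u.isUnit
    have hj : j = 0 := by
      by_contra hj
      exact hx.not_unit ((isUnit_pow_iff hj).1 h3)
    subst hj
    rw [pow_zero] at h2
    exact ⟨Units.ext h2, by simp⟩

include hx in
lemma ψ_injective : Function.Injective (ψ x B) := by
  rw [injective_iff_map_eq_one]
  rintro ⟨u, k⟩ h
  obtain ⟨hu, hk⟩ := ψ_eq_one hx B u (Multiplicative.toAdd k) h
  refine Prod.ext hu ?_
  change k = 1
  have : k = Multiplicative.ofAdd (Multiplicative.toAdd k) := rfl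
  rw [this, hk]
  rfl

include hx in
lemma ψ_surjective : Function.Surjective (ψ x B) := by
  intro b
  have hinj := algebraMap_injective_away hx B
  obtain ⟨⟨a, s⟩, h⟩ := IsLocalization.surj (Submonoid.powers x) (b : B)
  obtain ⟨⟨a', s'⟩, h'⟩ := IsLocalization.surj (Submonoid.powers x) ((b⁻¹ : Bˣ) : B)
  obtain ⟨m, hm⟩ := s.2
  obtain ⟨m', hm'⟩ := s'.2
  simp only at h h'
  rw [← hm] at h
  rw [← hm'] at h'
  have h1 : a * a' = x ^ (m + m') := by
    apply hinj
    rw [map_mul, ← h, ← h', pow_add, map_mul]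
    have : (b : B) * ((b⁻¹ : Bˣ) : B) = 1 := by rw [← Units.val_mul, mul_inv_cancel, Units.val_one]
    calc (b : B) * algebraMap A B (x ^ m) * (((b⁻¹ : Bˣ) : B) * algebraMap A B (x ^ m'))
        = ((b : B) * ((b⁻¹ : Bˣ) : B)) * (algebraMap A B (x ^ m) * algebraMap A B (x ^ m')) := by ring
      _ = algebraMap A B (x ^ m) * algebraMap A B (x ^ m') := by rw [this, one_mul]
  have h2 : a ∣ x ^ (m + m') := ⟨a', h1.symm⟩
  obtain ⟨i, -, w, hw⟩ := (dvd_prime_pow hx _).1 h2
  -- `a * w = x ^ i`
  refine ⟨(w⁻¹, Multiplicative.ofAdd ((i : ℤ) - m)), ?_⟩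
  rw [ψ_apply, zpow_sub, zpow_natCast, zpow_natCast]
  have h3 : b * xB x B ^ m = Units.map (algebraMap A B : A →* B) w⁻¹ * xB x B ^ i := by
    apply Units.ext
    simp only [Units.val_mul, Units.val_pow_eq_pow_val, xB_val, Units.coe_map, MonoidHom.coe_coe]
    rw [← map_pow, ← map_pow, h, ← map_mul]
    congr 1
    rw [← hw]
    calc a = a * ((w : A) * ((w⁻¹ : Aˣ) : A)) := by
            rw [← Units.val_mul, mul_inv_cancel, Units.val_one, mul_one]
      _ = ((w⁻¹ : Aˣ) : A) * (a * w) := by ring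
  rw [← mul_assoc, ← h3, mul_assoc, mul_inv_cancel, mul_one]

/-- `A[1/x]ˣ ≃ Aˣ × ℤ` -/
noncomputable def unitsEquivAway : Aˣ × Multiplicative ℤ ≃* Bˣ :=
  MulEquiv.ofBijective (ψ x B) ⟨ψ_injective hx B, ψ_surjective hx B⟩

lemma unitsEquivAway_apply (p : Aˣ × Multiplicative ℤ) : unitsEquivAway hx B p = ψ x B p := rfl

end Away

section Theta

variable {A : Type u} [CommRing A] [IsDomain A] {x : A} (hx : Prime x)
  (B : Type u) [CommRing B] [Algebra A B] [IsLocalization.Away x B]

include hx in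
/-- the valuation at `x` modulo `n` on the units of `A[1/x]`: a surjection onto `ℤ/n` whose kernel
consists of the `n`-th powers when every unit of `A` is an `n`-th power -/
theorem exists_surj_zmod (n : ℕ) (hdiv : ∀ u : Aˣ, ∃ v : Aˣ, v ^ n = u) :
    ∃ Θ : Additive Bˣ →+ ZMod n, Function.Surjective Θ ∧
      ∀ b : Additive Bˣ, Θ b = 0 ↔ ∃ c : Additive Bˣ, n • c = b := by
  let e := unitsEquivAway hx B
  let Θ : Additive Bˣ →+ ZMod n := AddMonoidHom.mk'
    (fun b => ((Multiplicative.toAdd (e.symm (Additive.toMul b)).2 : ℤ) : ZMod n)) (by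
      intro b b'
      change ((Multiplicative.toAdd (e.symm (Additive.toMul b * Additive.toMul b')).2 : ℤ) : ZMod n) = _
      rw [map_mul, Prod.snd_mul, toAdd_mul, Int.cast_add])
  have hΘ : ∀ b : Additive Bˣ,
      Θ b = ((Multiplicative.toAdd (e.symm (Additive.toMul b)).2 : ℤ) : ZMod n) := fun b => rfl
  refine ⟨Θ, ?_, ?_⟩
  · intro z
    obtain ⟨k, rfl⟩ := ZMod.intCast_surjective z
    refine ⟨Additive.ofMul (e (1, Multiplicative.ofAdd k)), ?_⟩
    rw [hΘ]
    change ((Multiplicative.toAdd (e.symm (e (1, Multiplicative.ofAdd k))).2 : ℤ) : ZMod n) = _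
    rw [MulEquiv.symm_apply_apply]
    rfl
  · intro b
    rw [hΘ, ZMod.intCast_zmod_eq_zero_iff_dvd]
    constructor
    · rintro ⟨k', hk'⟩
      obtain ⟨v, hv⟩ := hdiv (e.symm (Additive.toMul b)).1
      refine ⟨Additive.ofMul (e (v, Multiplicative.ofAdd k')), ?_⟩
      change Additive.ofMul ((e (v, Multiplicative.ofAdd k')) ^ n) = b
      rw [← map_pow]
      have h1 : ((v, Multiplicative.ofAdd k') : Aˣ × Multiplicative ℤ) ^ n =
          e.symm (Additive.toMul b) := by
        refine Prod.ext hv ?_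
        change (Multiplicative.ofAdd k') ^ n = (e.symm (Additive.toMul b)).2
        rw [← ofAdd_nsmul, nsmul_eq_mul, ← hk']
        rfl
      rw [h1, MulEquiv.apply_symm_apply]
      rfl
    · rintro ⟨c, rfl⟩
      change (n : ℤ) ∣ Multiplicative.toAdd (e.symm ((Additive.toMul c) ^ n)).2
      rw [map_pow, Prod.pow_snd, toAdd_pow, nsmul_eq_mul]
      exact dvd_mul_right _ _

end Theta

end Groth.Agent.Lib.Helper8KummerAlg
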