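import Mathlib
import Groth.Prelude.Def_EtGm
import Groth.Agent.Lib.Helper16SmallEtale

/-!
# The Kummer sequence on the small étale site (helper2, run 2)

* `kummerPair`: the standard étale pair `(X ^ n - a, a)` for a unit `a` and `n` invertible, with
  `kummerPair_X_pow`, `kummerPair_isUnit_X`, `kummerPair_exists_comap` (surjective on spectra);
* `natCast_residueField_ne_zero`, `isUnit_natCast_of_residueField_ne_zero`;
* `exists_etale_root`: étale-locally every unit has an `n`-th root when `n` is invertible;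
* `powMap_app_apply`: `EtCoh.powMap X n` acts as `n • ·` on sections;
* `epi_powMap`: `EtCoh.powMap X n` is an epimorphism when `n` is nonzero in all residue fields;
* `epi_powMap_of_isUnit`: the same when `n` is a unit in `Γ(X, ⊤)`.
-/

set_option autoImplicit false
set_option linter.style.haveILetI false
universe u
open CategoryTheory CategoryTheory.Limits AlgebraicGeometry Opposite Polynomial

namespace Groth.Agent.Lib.R2H2.Kummer


/-- the standard étale pair `(X ^ n - a, a)` for a unit `a` and `n` invertible. -/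
noncomputable def kummerPair {R : Type u} [CommRing R] (a : Rˣ) (n : ℕ) (hn : 0 < n) (c : R)
    (hc : c * (n : R) = 1) : StandardEtalePair R where
  f := X ^ n - C (a : R)
  monic_f := monic_X_pow_sub_C (a : R) hn.ne'
  g := C (a : R)
  cond := ⟨C c * X, -1, 1, by
    rw [derivative_sub, derivative_X_pow, derivative_C, sub_zero, pow_one]
    have h1 : (C (n : R) * X ^ (n - 1)) * (C c * X) = C (c * (n : R)) * X ^ n := by
      have : (X : R[X]) ^ n = X ^ (n - 1) * X := by
        rw [← pow_succ, Nat.sub_add_cancel hn]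
      rw [this, C_mul]; ring
    rw [h1, hc, map_one]
    ring⟩

theorem kummerPair_X_pow {R : Type u} [CommRing R] (a : Rˣ) (n : ℕ) (hn : 0 < n) (c : R)
    (hc : c * (n : R) = 1) :
    (kummerPair a n hn c hc).X ^ n = algebraMap R (kummerPair a n hn c hc).Ring (a : R) := by
  have h := (kummerPair a n hn c hc).hasMap_X.1
  have hf : (kummerPair a n hn c hc).f = X ^ n - C (a : R) := rfl
  rw [hf, map_sub, map_pow, aeval_X, aeval_C] at h
  exact sub_eq_zero.mp h

theorem kummerPair_isUnit_X {R : Type u} [CommRing R] (a : Rˣ) (n : ℕ) (hn : 0 < n) (c : R)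
    (hc : c * (n : R) = 1) : IsUnit (kummerPair a n hn c hc).X := by
  have h : IsUnit ((kummerPair a n hn c hc).X ^ n) := by
    rw [kummerPair_X_pow]
    exact a.isUnit.map _
  exact (isUnit_pow_iff hn.ne').mp h

/-- every prime of `R` lifts to the Kummer algebra. -/
theorem kummerPair_exists_comap {R : Type u} [CommRing R] (a : Rˣ) (n : ℕ) (hn : 0 < n) (c : R)
    (hc : c * (n : R) = 1) (p : Ideal R) [p.IsPrime] :
    ∃ q : Ideal (kummerPair a n hn c hc).Ring, q.IsPrime ∧
      q.comap (algebraMap R (kummerPair a n hn c hc).Ring) = p := by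
  let K := AlgebraicClosure p.ResidueField
  obtain ⟨z, hz⟩ := IsAlgClosed.exists_pow_nat_eq (algebraMap R K (a : R)) hn
  have hmap : (kummerPair a n hn c hc).HasMap z := by
    refine ⟨?_, ?_⟩
    · have hf : (kummerPair a n hn c hc).f = X ^ n - C (a : R) := rfl
      rw [hf, map_sub, map_pow, aeval_X, aeval_C, hz, sub_self]
    · have hg : (kummerPair a n hn c hc).g = C (a : R) := rfl
      rw [hg, aeval_C]
      exact a.isUnit.map _
  let φ := (kummerPair a n hn c hc).lift z hmap
  refine ⟨RingHom.ker φ.toRingHom, RingHom.ker_isPrime _, ?_⟩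
  have : φ.toRingHom.comp (algebraMap R (kummerPair a n hn c hc).Ring) = algebraMap R K := by
    ext r; exact φ.commutes r
  rw [RingHom.comap_ker, this]
  have hinj : Function.Injective (algebraMap p.ResidueField K) := FaithfulSMul.algebraMap_injective p.ResidueField K
  ext x
  rw [RingHom.mem_ker, IsScalarTower.algebraMap_apply R p.ResidueField K, map_eq_zero_iff _ hinj,
    ← RingHom.mem_ker, Ideal.ker_algebraMap_residueField]



/-- if `n` is nonzero in all residue fields of `X`, the same holds on any `X`-scheme -/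
theorem natCast_residueField_ne_zero {X Y : Scheme.{u}} (f : Y ⟶ X) (n : ℕ)
    (hX : ∀ x : X, (n : X.residueField x) ≠ 0) (y : Y) : (n : Y.residueField y) ≠ 0 := by
  have h := hX (f y)
  intro h0
  apply h
  have hinj : Function.Injective (f.residueFieldMap y).hom := (f.residueFieldMap y).hom.injective
  apply hinj
  rw [map_natCast, map_zero]
  exact h0

/-- if `n` is nonzero in all residue fields of `Y`, it is a unit in all rings of sections -/
theorem isUnit_natCast_of_residueField_ne_zero {Y : Scheme.{u}} (n : ℕ)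
    (hY : ∀ y : Y, (n : Y.residueField y) ≠ 0) (V : Y.Opens) : IsUnit (n : Γ(Y, V)) := by
  apply Y.toLocallyRingedSpace.toRingedSpace.isUnit_of_isUnit_germ V
  intro y hy
  have h1 : y ∈ Y.basicOpen (n : Γ(Y, V)) := by
    rw [← Scheme.evaluation_ne_zero_iff_mem_basicOpen Y y hy, map_natCast]
    exact hY y
  exact (Y.mem_basicOpen _ y hy).mp h1


set_option backward.isDefEq.respectTransparency.types false in
theorem exists_etale_root {X : Scheme.{u}} (U : X.Etale) (n : ℕ) (hn : 0 < n)
    (hX : ∀ x : X, (n : X.residueField x) ≠ 0) (t : (Γ(U.left, ⊤))ˣ) (p : U.left) :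
    ∃ (W : X.Etale) (g : W ⟶ U) (w : W.left) (s : (Γ(W.left, ⊤))ˣ),
      g.left w = p ∧ (s : Γ(W.left, ⊤)) ^ n = g.left.appTop.hom (t : Γ(U.left, ⊤)) := by
  obtain ⟨V, hV, hpV, -⟩ := AlgebraicGeometry.exists_isAffineOpen_mem_and_subset (X := U.left) (x := p)
    (U := ⊤) trivial
  let ρ : Γ(U.left, ⊤) ⟶ Γ(U.left, V) := U.left.presheaf.map (homOfLE le_top).op
  let a : (Γ(U.left, V))ˣ := Units.map ρ.hom.toMonoidHom t
  have hunit : IsUnit (n : Γ(U.left, V)) :=
    isUnit_natCast_of_residueField_ne_zero n (natCast_residueField_ne_zero U.hom n hX) V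
  obtain ⟨c, hc⟩ := hunit.exists_left_inv
  let P := kummerPair a n hn c hc
  let φ : Γ(U.left, V) ⟶ CommRingCat.of P.Ring := CommRingCat.ofHom (algebraMap Γ(U.left, V) P.Ring)
  have hφ : φ.hom.Etale := RingHom.etale_algebraMap.mpr inferInstance
  have : Etale (Spec.map φ) := HasRingHomProperty.Spec_iff.mpr hφ
  let j : Spec (CommRingCat.of P.Ring) ⟶ U.left := Spec.map φ ≫ hV.fromSpec
  let W : X.Etale := Scheme.Etale.mk (j ≫ U.hom)
  let g : W ⟶ U := MorphismProperty.Over.homMk j rfl trivial
  obtain ⟨q, hq, hqp⟩ := kummerPair_exists_comap a n hn c hc (hV.primeIdealOf ⟨p, hpV⟩).asIdeal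
  let w : Spec (CommRingCat.of P.Ring) := ⟨q, hq⟩
  let s : (Γ(Spec (CommRingCat.of P.Ring), ⊤))ˣ :=
    Units.map (Scheme.ΓSpecIso (CommRingCat.of P.Ring)).inv.hom.toMonoidHom
      (kummerPair_isUnit_X a n hn c hc).unit
  refine ⟨W, g, w, s, ?_, ?_⟩
  · change hV.fromSpec (Spec.map φ w) = p
    have : Spec.map φ w = hV.primeIdealOf ⟨p, hpV⟩ := PrimeSpectrum.ext hqp
    rw [this]
    exact hV.fromSpec_primeIdealOf ⟨p, hpV⟩
  · have e1 : hV.fromSpec.appTop = ρ ≫ (Scheme.ΓSpecIso Γ(U.left, V)).inv := by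
      have h := hV.fromSpec_app_of_le ⊤ le_top
      rw [Scheme.Hom.appTop, h]
      congr 1
    have e2 : j.appTop = ρ ≫ φ ≫ (Scheme.ΓSpecIso (CommRingCat.of P.Ring)).inv := by
      rw [Scheme.Hom.comp_appTop, e1, Category.assoc, Scheme.ΓSpecIso_inv_naturality]
    change ((Scheme.ΓSpecIso (CommRingCat.of P.Ring)).inv.hom P.X) ^ n = j.appTop.hom (t : Γ(U.left, ⊤))
    rw [e2, ← map_pow, kummerPair_X_pow]
    rfl


theorem powMap_app_apply (X : Scheme.{u}) (n : ℕ) (W : X.Etale)
    (x : (EtCoh.Gm X).obj.obj (op W)) :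
    (EtCoh.powMap X n).hom.app (op W) x = n • x := by
  have h1 : (EtCoh.powMap X n).hom = n • 𝟙 (EtCoh.Gm X).obj := by
    change ((sheafToPresheaf _ _).map (n • 𝟙 (EtCoh.Gm X))) = _
    rw [Functor.map_nsmul]
    rfl
  rw [h1, NatTrans.app_nsmul]
  simp

set_option backward.isDefEq.respectTransparency.types false in
theorem epi_powMap (X : Scheme.{u}) (n : ℕ)
    (hX : ∀ x : X, (n : X.residueField x) ≠ 0) : Epi (EtCoh.powMap X n) := by
  haveI : Sheaf.IsLocallySurjective (EtCoh.powMap X n) := by
    constructor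
    intro U t
    rw [Groth.Agent.Lib.Helper16.SmallEtale.mem_smallEtale_iff]
    intro p
    have hn : 0 < n := by
      rcases Nat.eq_zero_or_pos n with h0 | h0
      · exact absurd (by rw [h0, Nat.cast_zero]) (hX (U.hom p))
      · exact h0
    let t' : (Γ(U.left, ⊤))ˣ := (ULift.down t).toMul
    obtain ⟨W, g, w, s, hw, hs⟩ := exists_etale_root U n hn hX t' p
    refine ⟨W, g, w, ⟨(ULift.up (Additive.ofMul s) : ULift (Additive (Γ(W.left, ⊤))ˣ)), ?_⟩, hw⟩
    rw [powMap_app_apply]
    apply ULift.ext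
    apply Additive.toMul.injective
    apply Units.ext
    exact hs
  exact Sheaf.epi_of_isLocallySurjective _


/-- the Kummer epimorphism when `n` is a unit in the ring of global functions. -/
theorem epi_powMap_of_isUnit (X : Scheme.{u}) (n : ℕ) (hn : IsUnit (n : Γ(X, ⊤))) :
    Epi (EtCoh.powMap X n) := by
  apply epi_powMap
  intro x
  have h := hn.map (X.evaluation ⊤ x trivial).hom
  rw [map_natCast] at h
  exact h.ne_zero

end Groth.Agent.Lib.R2H2.Kummer
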