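import Mathlib
import Groth.Agent.Lib.H6xMuConst
import Groth.Agent.Lib.Helper9EtMV
import Groth.Agent.Lib.R2H2Kummer
import Groth.Agent.Lib.Helper8ExtDelta

/-!
# `H¹(Y_et, μ_n)` from the Kummer sequence when `Pic Y = 0` (helper8)

If `n` is invertible on `Y` and `H¹(Y_et, G_m) = 0`, the Kummer sequence gives
`H¹(Y_et, μ_n) ≃ Γ(Y, O)ˣ / n`.  `nonempty_H1_mu_addEquiv_zmod`: if moreover there is a surjection
`Γ(Y, O)ˣ → ℤ/n` whose kernel consists of the `n`-th powers then `H¹(Y_et, μ_n) ≃+ ℤ/n`.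
-/

set_option autoImplicit false
universe u
open CategoryTheory CategoryTheory.Limits AlgebraicGeometry Opposite Abelian

namespace Groth.Agent.Lib.Helper8KummerH1

open Groth.Agent.Lib.H6xMuConst Groth.Agent.Lib.Helper9.EtPull Groth.Agent.Lib.Helper9.EtMV
  Groth.Agent.Lib.Helper8ExtDelta

/-- two quotients of the same group by the same subgroup are isomorphic -/
theorem nonempty_addEquiv_of_ker_eq {M P A : Type*} [AddCommGroup M] [AddCommGroup P]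
    [AddCommGroup A] (ψ : M →+ P) (δ : M →+ A) (hψ : Function.Surjective ψ)
    (hδ : Function.Surjective δ) (h : ψ.ker = δ.ker) : Nonempty (P ≃+ A) :=
  ⟨(QuotientAddGroup.quotientKerEquivOfSurjective ψ hψ).symm.trans
    ((QuotientAddGroup.quotientAddEquivOfEq h).trans
      (QuotientAddGroup.quotientKerEquivOfSurjective δ hδ))⟩

variable (Y : Scheme.{u}) (n : ℕ)

/-- the Kummer sequence -/
noncomputable def kumSeq : ShortComplex (EtCoh.Ab Y) :=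
  ShortComplex.mk (EtCoh.muι Y n) (EtCoh.powMap Y n) (kernel.condition _)

lemma kumSeq_shortExact (hn : IsUnit (n : Γ(Y, ⊤))) : (kumSeq Y n).ShortExact :=
  { exact := ShortComplex.exact_kernel _
    mono_f := inferInstanceAs (Mono (kernel.ι (EtCoh.powMap Y n)))
    epi_g := Groth.Agent.Lib.R2H2.Kummer.epi_powMap_of_isUnit Y n hn }

variable {Y}

lemma sec_add (F : EtCoh.Ab Y) (l l' : EtCoh.const Y ℤ ⟶ F) :
    sec F (l + l') = sec F l + sec F l' := by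
  rw [sec_eq, sec_eq F l, sec_eq F l']
  rfl

set_option backward.isDefEq.respectTransparency.types false in
/-- maps `ℤ ⟶ G_m` as units of the ring of global functions -/
noncomputable def τ : (EtCoh.const Y ℤ ⟶ EtCoh.Gm Y) ≃+ Additive (Γ(Y, ⊤))ˣ where
  toFun l := Additive.ofMul (valSec Y (EtCoh.top Y) (sec (EtCoh.Gm Y) l))
  invFun b := (secEquiv (EtCoh.Gm Y)).symm (mkSec Y (EtCoh.top Y) (Additive.toMul b))
  left_inv l := by
    apply (secEquiv (EtCoh.Gm Y)).injective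
    rw [Equiv.apply_symm_apply]
    rfl
  right_inv b := by
    have h : sec (EtCoh.Gm Y) ((secEquiv (EtCoh.Gm Y)).symm
        (mkSec Y (EtCoh.top Y) (Additive.toMul b))) = mkSec Y (EtCoh.top Y) (Additive.toMul b) :=
      (secEquiv (EtCoh.Gm Y)).apply_symm_apply _
    change Additive.ofMul (valSec Y (EtCoh.top Y) (sec (EtCoh.Gm Y) ((secEquiv (EtCoh.Gm Y)).symm
        (mkSec Y (EtCoh.top Y) (Additive.toMul b))))) = b
    rw [h]
    rfl
  map_add' l l' := by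
    rw [sec_add]
    rfl

variable (Y)

/-- **`H¹(Y_et, μ_n) ≃+ ℤ/n`** when `Pic Y = 0` and the units of `Y` modulo `n`-th powers are
`ℤ/n` -/
theorem nonempty_H1_mu_addEquiv_zmod (hn : IsUnit (n : Γ(Y, ⊤)))
    (hpic : Subsingleton (EtCoh.H Y (EtCoh.Gm Y) 1))
    (Θ : Additive (Γ(Y, ⊤))ˣ →+ ZMod n) (hΘ : Function.Surjective Θ)
    (hker : ∀ b : Additive (Γ(Y, ⊤))ˣ, Θ b = 0 ↔ ∃ c : Additive (Γ(Y, ⊤))ˣ, n • c = b) :
    Nonempty (EtCoh.H Y (EtCoh.mu Y n) 1 ≃+ ZMod n) := by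
  have hS := kumSeq_shortExact Y n hn
  let δ : (EtCoh.const Y ℤ ⟶ EtCoh.Gm Y) →+ EtCoh.H Y (EtCoh.mu Y n) 1 :=
    δhom (kumSeq Y n) hS (EtCoh.const Y ℤ)
  have hδsurj : Function.Surjective δ := by
    intro x₁
    have h0 : x₁.comp (Ext.mk₀ (kumSeq Y n).f) (add_zero 1) = 0 :=
      Subsingleton.elim (α := EtCoh.H Y (EtCoh.Gm Y) 1) _ _
    obtain ⟨x₃, hx₃⟩ := Ext.covariant_sequence_exact₁ _ hS x₁ h0 (zero_add 1)
    obtain ⟨b, rfl⟩ := (Ext.mk₀_bijective _ _).2 x₃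
    exact ⟨b, hx₃⟩
  have hδker : ∀ b : EtCoh.const Y ℤ ⟶ EtCoh.Gm Y, δ b = 0 ↔ ∃ a : EtCoh.const Y ℤ ⟶ EtCoh.Gm Y,
      n • a = b := by
    intro b
    have h1 : δ b = 0 ↔ ∃ a : EtCoh.const Y ℤ ⟶ EtCoh.Gm Y, a ≫ (kumSeq Y n).g = b :=
      δhom_eq_zero_iff (kumSeq Y n) hS (EtCoh.const Y ℤ) b
    rw [h1]
    have h2 : ∀ a : EtCoh.const Y ℤ ⟶ EtCoh.Gm Y, a ≫ (kumSeq Y n).g = n • a := by
      intro a
      change a ≫ (n • 𝟙 (EtCoh.Gm Y)) = n • a
      rw [Preadditive.comp_nsmul, Category.comp_id]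
    constructor
    · rintro ⟨a, ha⟩
      exact ⟨a, (h2 a).symm.trans ha⟩
    · rintro ⟨a, ha⟩
      exact ⟨a, (h2 a).trans ha⟩
  let ψ : (EtCoh.const Y ℤ ⟶ EtCoh.Gm Y) →+ ZMod n := Θ.comp (τ (Y := Y)).toAddMonoidHom
  have hψsurj : Function.Surjective ψ := hΘ.comp (τ (Y := Y)).surjective
  refine nonempty_addEquiv_of_ker_eq δ ψ hδsurj hψsurj ?_
  ext b
  rw [AddMonoidHom.mem_ker, AddMonoidHom.mem_ker, hδker]
  change _ ↔ Θ (τ b) = 0
  rw [hker]
  constructor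
  · rintro ⟨a, rfl⟩
    exact ⟨τ a, (map_nsmul τ n a).symm⟩
  · rintro ⟨c, hc⟩
    refine ⟨(τ (Y := Y)).symm c, ?_⟩
    apply (τ (Y := Y)).injective
    rw [map_nsmul, AddEquiv.apply_symm_apply, hc]

end Groth.Agent.Lib.Helper8KummerH1
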