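import Groth.Agent.Lib.Helper8KummerH1
import Groth.Agent.Lib.Helper8KummerAlg
import Groth.Agent.Lib.Helper8PicH1
import Groth.Agent.Lib.Helper8PicCoc
import Groth.Agent.Lib.Helper20UFDPic
import Groth.Agent.Lib.Helper8AB
import Groth.Agent.Lib.Helper5RLR

/-!
# `H¹(Spec A[1/x], μ_n) ≃+ ℤ/n` for a strictly henselian regular local ring (helper8)
-/

set_option autoImplicit false
universe u
open CategoryTheory CategoryTheory.Limits AlgebraicGeometry Opposite TopologicalSpace

namespace Groth.Agent.Lib.Helper8KummerLoc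

open Groth.Agent.Lib.Helper6 Groth.Agent.Lib.Helper23.SecTw Groth.Agent.Lib.Helper20.UFDPic
  Groth.Agent.Lib.Helper20.ParaFLib

/-- invertible modules on an affine integral scheme with factorial ring of functions are trivial -/
theorem nonempty_iso_structureModule_of_affine_ufd (X : Scheme.{u}) [IsIntegral X] [IsAffine X]
    [UniqueFactorizationMonoid Γ(X, ⊤)] (L : X.Modules) (hL : PicF.IsInvertible L) :
    Nonempty (L ≅ Coh.structureModule X) := by
  have hM : Triv L ⊤ := by
    refine triv_of_charts fun x _ => ?_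
    obtain ⟨W, e, hxW, he⟩ := exists_gen L hL x
    obtain ⟨_, ⟨f, rfl⟩, hxf, hfW⟩ := Opens.isBasis_iff_nbhd.1 (isBasis_basicOpen X) hxW
    have hf : f ≠ 0 := by
      rintro rfl
      rw [Scheme.basicOpen_zero] at hxf
      exact hxf
    exact ⟨⟨f, hf, le_top, res L hfW e, he.mono hfW⟩, hxf⟩
  exact nonempty_iso_of_triv_top L hM

/-- `H¹(X_et, G_m) = 0` on an affine integral scheme with factorial ring of functions -/
theorem subsingleton_H1_Gm_of_affine_ufd (X : Scheme.{u}) [IsIntegral X] [IsAffine X]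
    [UniqueFactorizationMonoid Γ(X, ⊤)] : Subsingleton (EtCoh.H X (EtCoh.Gm X) 1) :=
  Groth.Agent.Lib.Helper8PicH1.subsingleton_H1_iff_cocTriv.2
    (Groth.Agent.Lib.Helper8PicCoc.cocTriv_iff.2
      (fun L hL => nonempty_iso_structureModule_of_affine_ufd X L hL))

/-- an element of `m ∖ m²` of a regular local ring is prime -/
theorem prime_of_not_mem_sq (A : Type u) [CommRing A] [IsRegularLocalRing A] (x : A)
    (hx : x ∈ IsLocalRing.maximalIdeal A) (hx2 : x ∉ (IsLocalRing.maximalIdeal A) ^ 2) :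
    Prime x := by
  have hx0 : x ≠ 0 := by
    rintro rfl
    exact hx2 (Ideal.zero_mem _)
  have hne : Ideal.span ({x} : Set A) ≠ ⊤ := by
    intro h
    have h1 : Ideal.span ({x} : Set A) ≤ IsLocalRing.maximalIdeal A :=
      (Ideal.span_singleton_le_iff_mem _).2 hx
    rw [h] at h1
    exact (IsLocalRing.maximalIdeal.isMaximal A).ne_top (top_le_iff.1 h1)
  haveI : Nontrivial (A ⧸ Ideal.span ({x} : Set A)) := Ideal.Quotient.nontrivial_iff.2 hne
  haveI : IsLocalRing (A ⧸ Ideal.span ({x} : Set A)) :=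
    IsLocalRing.of_surjective' (Ideal.Quotient.mk _) Ideal.Quotient.mk_surjective
  haveI : IsRegularLocalRing (A ⧸ Ideal.span ({x} : Set A)) :=
    (Groth.Agent.Lib.Helper5.isRegularLocalRing_quotient_span_singleton hx hx2).1
  haveI : IsDomain (A ⧸ Ideal.span ({x} : Set A)) :=
    Groth.Agent.Lib.Helper5.isDomain_of_isRegularLocalRing _
  have hp : (Ideal.span ({x} : Set A)).IsPrime := (Ideal.Quotient.isDomain_iff_prime _).1 inferInstance
  exact (Ideal.span_singleton_prime hx0).1 hp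

/-- **`H¹(Spec A[1/x], μ_n) ≃+ ℤ/n`** -/
theorem main (A : Type u) [CommRing A] [IsRegularLocalRing A]
    (hA : EtCoh.IsStrictlyHenselianLocalRing A) (x : A) (hx : x ∈ IsLocalRing.maximalIdeal A)
    (hx2 : x ∉ (IsLocalRing.maximalIdeal A) ^ 2) (n : ℕ) (hn : IsUnit (n : A)) :
    Nonempty (EtCoh.H (Spec (CommRingCat.of (Localization.Away x)))
      (EtCoh.mu (Spec (CommRingCat.of (Localization.Away x))) n) 1 ≃+ ZMod n) := by
  haveI : IsDomain A := Groth.Agent.Lib.Helper5.isDomain_of_isRegularLocalRing A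
  haveI : UniqueFactorizationMonoid A := Groth.Agent.Lib.Helper8.AB.ufd_of_isRegularLocalRing A
  have hxp : Prime x := prime_of_not_mem_sq A x hx hx2
  haveI : IsDomain (Localization.Away x) :=
    IsLocalization.isDomain_localization (powers_le_nonZeroDivisors_of_noZeroDivisors hxp.ne_zero)
  let B := Localization.Away x
  let Y := Spec (CommRingCat.of B)
  let e : Γ(Y, ⊤) ≃+* B := (Scheme.ΓSpecIso (CommRingCat.of B)).commRingCatIsoToRingEquiv
  haveI : UniqueFactorizationMonoid Γ(Y, ⊤) :=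
    e.symm.toMulEquiv.uniqueFactorizationMonoid inferInstance
  have hpic : Subsingleton (EtCoh.H Y (EtCoh.Gm Y) 1) := subsingleton_H1_Gm_of_affine_ufd Y
  have hnY : IsUnit (n : Γ(Y, ⊤)) := by
    have h1 : IsUnit (n : B) := by
      have := hn.map (algebraMap A B)
      rwa [map_natCast] at this
    have h2 := h1.map e.symm
    rwa [map_natCast] at h2
  obtain ⟨Θ₀, hΘ₀, hker₀⟩ := Groth.Agent.Lib.Helper8KummerAlg.exists_surj_zmod hxp B n
    (fun u => Groth.Agent.Lib.Helper8KummerAlg.exists_unit_pow_eq hA n hn u)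
  let E : Additive (Γ(Y, ⊤))ˣ ≃+ Additive Bˣ := MulEquiv.toAdditive (Units.mapEquiv e.toMulEquiv)
  refine Groth.Agent.Lib.Helper8KummerH1.nonempty_H1_mu_addEquiv_zmod Y n hnY hpic
    (Θ₀.comp E.toAddMonoidHom) (hΘ₀.comp E.surjective) ?_
  intro b
  change Θ₀ (E b) = 0 ↔ _
  rw [hker₀]
  constructor
  · rintro ⟨c, hc⟩
    refine ⟨E.symm c, ?_⟩
    apply E.injective
    rw [map_nsmul, AddEquiv.apply_symm_apply, hc]
  · rintro ⟨c, rfl⟩
    exact ⟨E c, (map_nsmul E n c).symm⟩

end Groth.Agent.Lib.Helper8KummerLoc
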