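import Groth.Prelude
import Groth.Agent.Lib.Helper8ShFactor
import Groth.Agent.Lib.Helper8EtAcycComp

/-!
# Local acyclicity and composition

`OnStrictLocalizations` for a composite `g ≫ h` with `g` surjective.
-/

universe u

open CategoryTheory AlgebraicGeometry IsLocalRing

namespace Groth.Agent.Lib.Helper8LocAcycComp

open Groth.Agent.Lib.Helper8ShFactor

theorem onStrictLocalizations_comp {X Y Z : Scheme.{u}} (g : X ⟶ Y) (h : Y ⟶ Z)
    (P : ∀ ⦃X' Y' : Scheme.{u}⦄, (X' ⟶ Y') → Prop)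
    (hP : ∀ ⦃A B C : Scheme.{u}⦄ (a : A ⟶ B) (b : B ⟶ C), P a → P b → P (a ≫ b))
    (hgP : EtAcyc.OnStrictLocalizations g P) (hhP : EtAcyc.OnStrictLocalizations h P) :
    EtAcyc.OnStrictLocalizations (g ≫ h) P := by
  intro x RZ RX _ _ _ _ aZ lZ sZ aX lX sX aZX lZX hcompat
  letI aZ' : Algebra (Z.presheaf.stalk (h.base (g.base x))) RZ := aZ
  haveI lZ' : IsLocalHom (algebraMap (Z.presheaf.stalk (h.base (g.base x))) RZ) := lZ
  haveI sZ' : Hensel.IsStrictHenselization (Z.presheaf.stalk (h.base (g.base x))) RZ := sZ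
  obtain ⟨RY, _, _, aY, lY, sY⟩ :=
    Groth.Agent.Lib.Helper3.Branch.exists_isStrictHenselization (Y.presheaf.stalk (g.base x))
  haveI : HenselianLocalRing RX := sX.henselian
  haveI : IsSepClosed (ResidueField RX) := sX.isSepClosure.sep_closed
  haveI : IsLocalHom ((algebraMap (X.presheaf.stalk x) RX).comp (g.stalkMap x).hom) :=
    RingHom.isLocalHom_comp _ _
  have hρ : (algebraMap RZ RX).comp (algebraMap (Z.presheaf.stalk (h.base (g.base x))) RZ) =
      ((algebraMap (X.presheaf.stalk x) RX).comp (g.stalkMap x).hom).comp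
        (h.stalkMap (g.base x)).hom := by
    refine hcompat.trans ?_
    rw [Scheme.Hom.stalkMap_comp]
    rfl
  obtain ⟨α, β, hα, hβ, hα1, hβ1, hβα⟩ := exists_factor (SA := RZ) (SB := RY) (T := RX)
    (h.stalkMap (g.base x)).hom ((algebraMap (X.presheaf.stalk x) RX).comp (g.stalkMap x).hom)
    (algebraMap RZ RX) hρ
  letI : Algebra RZ RY := α.toAlgebra
  letI : Algebra RY RX := β.toAlgebra
  haveI : IsLocalHom (algebraMap RZ RY) := hα
  haveI : IsLocalHom (algebraMap RY RX) := hβ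
  have h1 : P (Spec.map (CommRingCat.ofHom (algebraMap RY RX))) := hgP x RY RX hβ1
  have h2 : P (Spec.map (CommRingCat.ofHom (algebraMap RZ RY))) := hhP (g.base x) RZ RY hα1
  have h3 := hP _ _ h1 h2
  rw [← Spec.map_comp, ← CommRingCat.ofHom_comp] at h3
  have e : (algebraMap RY RX).comp (algebraMap RZ RY) = algebraMap RZ RX := hβα
  rw [e] at h3
  exact h3

theorem onStrictLocalizations_of_comp {X Y Z : Scheme.{u}} (g : X ⟶ Y) (h : Y ⟶ Z)
    (hg : Function.Surjective g.base)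
    (P : ∀ ⦃X' Y' : Scheme.{u}⦄, (X' ⟶ Y') → Prop)
    (hP : ∀ ⦃A B C : Scheme.{u}⦄ (a : A ⟶ B) (b : B ⟶ C), P a → P (a ≫ b) → P b)
    (hgP : EtAcyc.OnStrictLocalizations g P) (hghP : EtAcyc.OnStrictLocalizations (g ≫ h) P) :
    EtAcyc.OnStrictLocalizations h P := by
  intro y RZ RY _ _ _ _ aZ lZ sZ aY lY sY aZY lZY hcompat
  obtain ⟨x, rfl⟩ := hg y
  obtain ⟨RX, _, _, aX, lX, sX⟩ :=
    Groth.Agent.Lib.Helper3.Branch.exists_isStrictHenselization (X.presheaf.stalk x)
  obtain ⟨β, hβ, hβ1⟩ := exists_lift (SA := RY) (SB := RX) (g.stalkMap x).hom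
  letI : Algebra RY RX := β.toAlgebra
  haveI : IsLocalHom (algebraMap RY RX) := hβ
  letI : Algebra RZ RX := ((algebraMap RY RX).comp (algebraMap RZ RY)).toAlgebra
  haveI : IsLocalHom (algebraMap RZ RX) :=
    RingHom.isLocalHom_comp (algebraMap RY RX) (algebraMap RZ RY)
  letI aZ' : Algebra (Z.presheaf.stalk ((g ≫ h).base x)) RZ := aZ
  haveI lZ' : IsLocalHom (algebraMap (Z.presheaf.stalk ((g ≫ h).base x)) RZ) := lZ
  haveI sZ' : Hensel.IsStrictHenselization (Z.presheaf.stalk ((g ≫ h).base x)) RZ := sZ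
  have h1 : P (Spec.map (CommRingCat.ofHom (algebraMap RY RX))) := hgP x RY RX hβ1
  have hc : (algebraMap RZ RX).comp (algebraMap (Z.presheaf.stalk ((g ≫ h).base x)) RZ) =
      (algebraMap (X.presheaf.stalk x) RX).comp ((g ≫ h).stalkMap x).hom := by
    rw [Scheme.Hom.stalkMap_comp]
    change ((algebraMap RY RX).comp (algebraMap RZ RY)).comp
      (algebraMap (Z.presheaf.stalk (h.base (g.base x))) RZ) =
      (algebraMap (X.presheaf.stalk x) RX).comp ((g.stalkMap x).hom.comp (h.stalkMap (g.base x)).hom)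
    have eβ : algebraMap RY RX = β := rfl
    rw [RingHom.comp_assoc, hcompat, ← RingHom.comp_assoc, eβ, hβ1, RingHom.comp_assoc]
  have h3 : P (Spec.map (CommRingCat.ofHom (algebraMap RZ RX))) := hghP x RZ RX hc
  have e : Spec.map (CommRingCat.ofHom (algebraMap RZ RX)) =
      Spec.map (CommRingCat.ofHom (algebraMap RY RX)) ≫
        Spec.map (CommRingCat.ofHom (algebraMap RZ RY)) := by
    rw [← Spec.map_comp, ← CommRingCat.ofHom_comp]
  rw [e] at h3
  exact hP _ _ h1 h3

end Groth.Agent.Lib.Helper8LocAcycComp
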