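import Mathlib
import Groth.Prelude.Def_RefHull
import Groth.Agent.Lib.R2H2HomShA

set_option autoImplicit false
set_option linter.style.haveILetI false
set_option linter.unusedSectionVars false
universe u

open AlgebraicGeometry CategoryTheory TopologicalSpace Opposite RefHull

noncomputable section

namespace Groth.Agent.Lib.R2LeadDualHart

open Groth.Agent.Lib.R2H2.HomShA Groth.Agent.Lib.Helper6

variable {X : Scheme.{u}} {F T : X.Modules}

/-! ### Sections of the sheaf Hom from their action on sections -/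

/-- an action of `F` into `T` over the open `W`: compatible linear maps `F(V) → T(V)`, `V ≤ W`. -/
structure Act (F T : X.Modules) (W : X.Opens) where
  a : ∀ (V : X.Opens), V ≤ W → Γ(F, V) → Γ(T, V)
  add : ∀ (V : X.Opens) (hV : V ≤ W) (m m' : Γ(F, V)), a V hV (m + m') = a V hV m + a V hV m'
  smul : ∀ (V : X.Opens) (hV : V ≤ W) (r : Γ(X, V)) (m : Γ(F, V)), a V hV (r • m) = r • a V hV m
  compat : ∀ (V : X.Opens) (hV : V ≤ W) (V' : X.Opens) (hV' : V' ≤ V) (m : Γ(F, V)),
    res T hV' (a V hV m) = a V' (hV'.trans hV) (res F hV' m)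

theorem exists_rep {W : X.Opens} (x : W) (v : F.presheaf.stalk x.1) :
    ∃ (V : X.Opens) (hx : x.1 ∈ V) (_ : V ≤ W) (m : Γ(F, V)), F.presheaf.germ V x.1 hx m = v := by
  obtain ⟨V, hxV, m, rfl⟩ := F.presheaf.exists_germ_eq (x := x.1) v
  refine ⟨V ⊓ W, ⟨hxV, x.2⟩, inf_le_right, res F inf_le_left m, ?_⟩
  exact TopCat.Presheaf.germ_res_apply F.presheaf (homOfLE inf_le_left) x.1 ⟨hxV, x.2⟩ m

namespace Act

variable {W : X.Opens} (A : Act F T W)

theorem germ_a_res (V : X.Opens) (hV : V ≤ W) (V' : X.Opens) (hV' : V' ≤ V) (m : Γ(F, V))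
    (x : X) (hx : x ∈ V') :
    T.presheaf.germ V' x hx (A.a V' (hV'.trans hV) (res F hV' m)) =
      T.presheaf.germ V x (hV' hx) (A.a V hV m) := by
  rw [← A.compat V hV V' hV' m]
  exact TopCat.Presheaf.germ_res_apply T.presheaf (homOfLE hV') x hx _

theorem exists_val (x : W) (v : F.presheaf.stalk x.1) :
    ∃ t : T.presheaf.stalk x.1, ∀ (V : X.Opens) (hx : x.1 ∈ V) (hV : V ≤ W) (m : Γ(F, V)),
      F.presheaf.germ V x.1 hx m = v → t = T.presheaf.germ V x.1 hx (A.a V hV m) := by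
  obtain ⟨V₁, hx₁, hV₁, m₁, rfl⟩ := exists_rep x v
  refine ⟨T.presheaf.germ V₁ x.1 hx₁ (A.a V₁ hV₁ m₁), fun V hx hV m hm => ?_⟩
  obtain ⟨V₂, hxV₂, i₁, i₂, he⟩ := F.presheaf.germ_eq x.1 hx₁ hx m₁ m hm.symm
  have e1 := A.germ_a_res V₁ hV₁ V₂ i₁.le m₁ x.1 hxV₂
  have e2 := A.germ_a_res V hV V₂ i₂.le m x.1 hxV₂
  have he' : res F i₁.le m₁ = res F i₂.le m := he
  rw [← e1, ← e2, he']

/-- the value of the stalk map on an element of the stalk. -/
def stalkFun (x : W) (v : F.presheaf.stalk x.1) : T.presheaf.stalk x.1 :=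
  (A.exists_val x v).choose

theorem stalkFun_germ (x : W) (V : X.Opens) (hx : x.1 ∈ V) (hV : V ≤ W) (m : Γ(F, V)) :
    A.stalkFun x (F.presheaf.germ V x.1 hx m) = T.presheaf.germ V x.1 hx (A.a V hV m) :=
  (A.exists_val x _).choose_spec V hx hV m rfl

/-- the stalk map of an action. -/
def stalkMap (x : W) : StalkHom F T x.1 where
  toFun := A.stalkFun x
  map_add' v v' := by
    obtain ⟨V, hx, hV, m, rfl⟩ := exists_rep x v
    obtain ⟨V', hx', hV', m', rfl⟩ := exists_rep x v'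
    have hxx : x.1 ∈ V ⊓ V' := ⟨hx, hx'⟩
    have e1 : F.presheaf.germ V x.1 hx m =
        F.presheaf.germ (V ⊓ V') x.1 hxx (res F inf_le_left m) :=
      (TopCat.Presheaf.germ_res_apply F.presheaf (homOfLE inf_le_left) x.1 hxx m).symm
    have e2 : F.presheaf.germ V' x.1 hx' m' =
        F.presheaf.germ (V ⊓ V') x.1 hxx (res F inf_le_right m') :=
      (TopCat.Presheaf.germ_res_apply F.presheaf (homOfLE inf_le_right) x.1 hxx m').symm
    rw [e1, e2, ← map_add, A.stalkFun_germ x _ hxx (inf_le_left.trans hV),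
      A.stalkFun_germ x _ hxx (inf_le_left.trans hV), A.stalkFun_germ x _ hxx (inf_le_left.trans hV),
      A.add, map_add]
  map_smul' c v := by
    obtain ⟨V, hx, hV, m, rfl⟩ := exists_rep x v
    obtain ⟨V', hx', r, rfl⟩ := X.presheaf.exists_germ_eq (x := x.1) c
    have hxx : x.1 ∈ V ⊓ V' := ⟨hx, hx'⟩
    have e1 : F.presheaf.germ V x.1 hx m =
        F.presheaf.germ (V ⊓ V') x.1 hxx (res F inf_le_left m) :=
      (TopCat.Presheaf.germ_res_apply F.presheaf (homOfLE inf_le_left) x.1 hxx m).symm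
    have e2 : X.presheaf.germ V' x.1 hx' r =
        X.presheaf.germ (V ⊓ V') x.1 hxx (resf inf_le_right r) :=
      (TopCat.Presheaf.germ_res_apply X.presheaf (homOfLE inf_le_right) x.1 hxx r).symm
    rw [RingHom.id_apply, e1, e2, ← Mero.germ_smul, A.stalkFun_germ x _ hxx (inf_le_left.trans hV),
      A.stalkFun_germ x _ hxx (inf_le_left.trans hV), A.smul, Mero.germ_smul]

theorem stalkMap_germ (x : W) (V : X.Opens) (hx : x.1 ∈ V) (hV : V ≤ W) (m : Γ(F, V)) :
    A.stalkMap x (F.presheaf.germ V x.1 hx m) = T.presheaf.germ V x.1 hx (A.a V hV m) :=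
  A.stalkFun_germ x V hx hV m

/-- the section of the sheaf Hom defined by an action. -/
def toSec : Γ(homSh F T, W) :=
  ⟨fun x => A.stalkMap x, fun V i m x =>
    ⟨V, x.2, 𝟙 V, A.a V i.le m, fun y => A.stalkMap_germ ⟨y.1, i.le y.2⟩ V y.2 i.le m⟩⟩

theorem actSec_toSec (V : X.Opens) (hV : V ≤ W) (m : Γ(F, V)) :
    actSec A.toSec hV m = A.a V hV m := by
  symm
  apply actSec_unique
  intro x hx
  exact (A.stalkMap_germ ⟨x, hV hx⟩ V hx hV m).symm

end Act

/-! ### Hartogs extension passes to sheaf Homs into `T` -/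

section Hartogs

variable (U₀ : X.Opens)
  (hT : ∀ W : X.Opens, Function.Bijective (res T (inf_le_left : W ⊓ U₀ ≤ W)))

/-- extension of a section of `T` from `W ⊓ U₀` to `W`. -/
def ext (hT : ∀ W : X.Opens, Function.Bijective (res T (inf_le_left : W ⊓ U₀ ≤ W)))
    (W : X.Opens) (t : Γ(T, W ⊓ U₀)) : Γ(T, W) :=
  ((hT W).2 t).choose

theorem res_ext (W : X.Opens) (t : Γ(T, W ⊓ U₀)) :
    res T inf_le_left (ext U₀ hT W t) = t :=
  ((hT W).2 t).choose_spec

theorem ext_unique (W : X.Opens) (t : Γ(T, W ⊓ U₀)) (s : Γ(T, W))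
    (hs : res T inf_le_left s = t) : ext U₀ hT W t = s :=
  (hT W).1 ((res_ext U₀ hT W t).trans hs.symm)

theorem res_add' (G : X.Modules) {A B : X.Opens} (h : B ≤ A) (s t : Γ(G, A)) :
    res G h (s + t) = res G h s + res G h t := map_add _ _ _

theorem ext_add (W : X.Opens) (t t' : Γ(T, W ⊓ U₀)) :
    ext U₀ hT W (t + t') = ext U₀ hT W t + ext U₀ hT W t' := by
  apply ext_unique
  rw [res_add', res_ext, res_ext]

theorem ext_smul (W : X.Opens) (r : Γ(X, W)) (t : Γ(T, W ⊓ U₀)) :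
    ext U₀ hT W (resf (inf_le_left : W ⊓ U₀ ≤ W) r • t) = r • ext U₀ hT W t := by
  apply ext_unique
  rw [res_smul, res_ext]

theorem res_ext_le (W V : X.Opens) (hVW : V ≤ W) (t : Γ(T, W ⊓ U₀)) :
    res T hVW (ext U₀ hT W t) = ext U₀ hT V (res T (inf_le_inf_right U₀ hVW) t) := by
  symm
  apply ext_unique
  rw [res_res, ← res_res T (inf_le_left : W ⊓ U₀ ≤ W) (inf_le_inf_right U₀ hVW), res_ext]

/-- the action over `W` extending a section of the sheaf Hom over `W ⊓ U₀`. -/
def extAct (W : X.Opens) (k : Γ(homSh F T, W ⊓ U₀)) : Act F T W where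
  a V hV m := ext U₀ hT V (actSec k (inf_le_inf_right U₀ hV) (res F inf_le_left m))
  add V hV m m' := by
    rw [res_add', actSec_add, ext_add]
  smul V hV r m := by
    rw [res_smul, actSec_smul, ext_smul]
  compat V hV V' hV' m := by
    rw [res_ext_le, actSec_res, res_res, res_res]

include hT in
theorem bijective_res_homSh (W : X.Opens) :
    Function.Bijective (res (homSh F T) (inf_le_left : W ⊓ U₀ ≤ W)) := by
  constructor
  · intro h h' e
    apply sec_ext
    intro V hV m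
    apply (hT V).1
    rw [actSec_res, actSec_res,
      ← actSec_res_left h (inf_le_left : W ⊓ U₀ ≤ W) (inf_le_inf_right U₀ hV),
      ← actSec_res_left h' (inf_le_left : W ⊓ U₀ ≤ W) (inf_le_inf_right U₀ hV), e]
  · intro k
    refine ⟨(extAct U₀ hT W k).toSec, ?_⟩
    apply sec_ext
    intro V hV m
    rw [actSec_res_left, Act.actSec_toSec]
    apply (hT V).1
    change res T inf_le_left (ext U₀ hT V _) = _
    rw [res_ext, actSec_res]

end Hartogs

end Groth.Agent.Lib.R2LeadDualHart
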