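-- helper8: LocQ of functors isomorphic to the identity; the diagonal of a locally finite type functor is lfp
import Mathlib
import Groth.Agent.Lib.Helper15GoodComp
import Groth.Agent.Lib.Helper8LocQBase
import Groth.Agent.Lib.Helper8LocQCancel

set_option autoImplicit false
set_option backward.isDefEq.respectTransparency false
set_option backward.isDefEq.respectTransparency.types false
open CategoryTheory CategoryTheory.Functor CategoryTheory.Limits Opposite AlgebraicGeometry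

universe u

namespace Groth.Agent.Lib.Helper8LocQDiag

open Groth.Agent.Lib.Helper17 Groth.Agent.Lib.Helper15PshFib Groth.Agent.Lib.Helper15RepComp
  Groth.Agent.Lib.Helper15RepPsh Groth.Agent.Lib.Helper15DiagBase Groth.Agent.Lib.Helper15DiagRepSp
  Groth.Agent.Lib.Helper15Descent Groth.Agent.Lib.Helper15DiagLft
  Groth.Agent.Lib.Helper15DiagDescent Groth.Agent.Lib.Helper15SpMapRep
  Groth.Agent.Lib.Helper15SrcCancel Groth.Agent.Lib.Helper15ChartSp Groth.Agent.Lib.Helper15Atlas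
  Groth.Agent.Lib.Helper15LocEss Groth.Agent.Lib.Helper15UnivComp Groth.Agent.Lib.Helper15SmLoc
  Groth.Agent.Lib.Helper15PtsComp Groth.Agent.Lib.Helper15PtsTop Groth.Agent.Lib.Helper15PtsQc
  Groth.Agent.Lib.Helper15FpSwap Groth.Agent.Lib.Helper15QcLocal Groth.Agent.Lib.Helper15ClosedQc
  Groth.Agent.Lib.Helper15UnivPts Groth.Agent.Lib.Helper15BaseChange
  Groth.Agent.Lib.Helper15MonoSep Groth.Agent.Lib.Helper15LocQ Groth.Agent.Lib.Helper15LocQEngine
  Groth.Agent.Lib.Helper15LocQProps Groth.Agent.Lib.Helper15LocQSpace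
  Groth.Agent.Lib.Helper15LocQSpace2 Groth.Agent.Lib.Helper15LocQRep
  Groth.Agent.Lib.Helper15LocQComp Groth.Agent.Lib.Helper15GoodComp
  Groth.Agent.Lib.Helper8DiagCancel

open Groth.Agent.Lib.Helper8LocQBase Groth.Agent.Lib.Helper8LocQCancel

variable {S : Scheme.{u}} {𝒳 𝒴 : AlgSt.Cat S}

/-- `LocQ P` of a functor isomorphic to the identity, for `P` holding for identities of schemes. -/
theorem locQ_of_iso_id (P : MorphismProperty (AlgSp.Sp S))
    (hPid : ∀ U : Over S, P ((AlgSp.yon S).map (𝟙 U)))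
    (h𝒳 : AlgSt.IsAlgStack Scheme.fppfPrecoverage 𝒳) (a : 𝒳 ⥤ᵇ 𝒳)
    (i : a ≅ BasedFunctor.id 𝒳) : AlgSt.LocQ P a := by
  obtain ⟨U, x, hx₁, hx₂⟩ := h𝒳.atlas
  refine ⟨U, U, x, x, 𝟙 U, ?_, hx₁, hx₂, hx₁, hPid U⟩
  exact (whiskerLeftIso x i : BasedFunctor.comp x a ≅ x) ≪≫
    (whiskerRightIso (overMapIdIso U) x : x ≅ _)

theorem locQ_lfp_diag (h𝒳 : AlgSt.IsAlgStack Scheme.fppfPrecoverage 𝒳)
    (h𝒴 : AlgSt.IsAlgStack Scheme.fppfPrecoverage 𝒴) (f : 𝒳 ⥤ᵇ 𝒴)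
    (hf : AlgSt.LocQ (AlgSp.LocP @LocallyOfFiniteType) f) :
    AlgSt.LocQ (AlgSp.LocP @LocallyOfFinitePresentation) (FibCat.diag f) := by
  have hfp : AlgSt.IsAlgStack Scheme.fppfPrecoverage (FibCat.fp f f) :=
    isAlgStack_fp_of_isPrestack (IsStack.isPrestack _ h𝒴.isStack) h𝒴.diag h𝒳 h𝒳 f f
  have h1 : AlgSt.LocQ (AlgSp.LocP @LocallyOfFiniteType) (FibCat.fpFst f f) :=
    locQ_fpFst _ isSmoothLocalST_lft bcStable_lft h𝒳 h𝒴 h𝒳 f f hf
  have h2 : AlgSt.LocQ (AlgSp.LocP @LocallyOfFinitePresentation)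
      (BasedFunctor.comp (FibCat.diag f) (FibCat.fpFst f f)) :=
    locQ_of_iso_id _ (fun U => locP_yon_map_of_lfp (𝟙 U) inferInstance) h𝒳 _ (Iso.refl _)
  exact locQ_lfp_of_comp h𝒳 hfp h𝒳 (FibCat.diag f) (FibCat.fpFst f f) h2 h1

end Groth.Agent.Lib.Helper8LocQDiag
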