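-- helper8: descent of lfp / lft for LocQ along a flat, lfp, surjective functor on the source
import Mathlib
import Groth.Agent.Lib.Helper8LocQCancel
import Groth.Agent.Lib.H5bFppfSrc

set_option autoImplicit false
set_option backward.isDefEq.respectTransparency false
set_option backward.isDefEq.respectTransparency.types false
open CategoryTheory CategoryTheory.Functor CategoryTheory.Limits Opposite AlgebraicGeometry

universe u

namespace Groth.Agent.Lib.Helper8LocQFppfSrc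

open Groth.Agent.Lib.Helper17 Groth.Agent.Lib.Helper15PshFib Groth.Agent.Lib.Helper15RepComp
  Groth.Agent.Lib.Helper15RepPsh Groth.Agent.Lib.Helper15DiagBase Groth.Agent.Lib.Helper15DiagRepSp
  Groth.Agent.Lib.Helper15Descent Groth.Agent.Lib.Helper15DiagLft
  Groth.Agent.Lib.Helper15DiagDescent Groth.Agent.Lib.Helper15SpMapRep
  Groth.Agent.Lib.Helper15SrcCancel Groth.Agent.Lib.Helper15ChartSp Groth.Agent.Lib.Helper15Atlas
  Groth.Agent.Lib.Helper15LocEss Groth.Agent.Lib.Helper15UnivComp Groth.Agent.Lib.Helper15SmLoc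
  Groth.Agent.Lib.Helper15PtsComp Groth.Agent.Lib.Helper15PtsTop Groth.Agent.Lib.Helper15PtsQc
  Groth.Agent.Lib.Helper15FpSwap Groth.Agent.Lib.Helper15QcLocal Groth.Agent.Lib.Helper15ClosedQc
  Groth.Agent.Lib.Helper15UnivPts Groth.Agent.Lib.Helper15BaseChange
  Groth.Agent.Lib.Helper15MonoSep Groth.Agent.Lib.Helper15LocQ Groth.Agent.Lib.Helper15LocQEngine
  Groth.Agent.Lib.Helper15LocQProps Groth.Agent.Lib.Helper15LocQSpace
  Groth.Agent.Lib.Helper15LocQSpace2 Groth.Agent.Lib.Helper15LocQRep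
  Groth.Agent.Lib.Helper15LocQComp Groth.Agent.Lib.Helper15GoodComp
  Groth.Agent.Lib.Helper8LocQCancel

section Sch

/-- Local finite presentation descends along a flat, lfp, surjective morphism on the source. -/
theorem lfp_of_comp_of_fppf {X' X Y : Scheme.{u}} (h : X' ⟶ X) (k : X ⟶ Y)
    (h1 : Flat h) (h2 : LocallyOfFinitePresentation h) (h3 : Surjective h)
    (hhk : LocallyOfFinitePresentation (h ≫ k)) : LocallyOfFinitePresentation k := by
  rw [HasRingHomProperty.iff_exists_appLE (P := @LocallyOfFinitePresentation) fp_stableSource]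
  intro x
  obtain ⟨x', rfl⟩ := h3.surj x
  refine Groth.Agent.Lib.H5bFppfSrc.exists_appLE_of_fppf_source
    (P := @LocallyOfFinitePresentation) (Q := @RingHom.FinitePresentation) ?_ h k hhk x'
  intro R A B _ _ _ φ ψ hψ1 hψ2 hs hc
  algebraize [φ, ψ, ψ.comp φ]
  have : Module.Flat A B := hψ1
  have : Algebra.FinitePresentation A B := hψ2
  have : Algebra.FinitePresentation R B := hc
  have : Module.FaithfullyFlat A B := Module.FaithfullyFlat.of_comap_surjective hs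
  exact Groth.Agent.S0112.result (R := R) (A := A) (B := B)

theorem ft_stableSource :
    RingHom.StableUnderCompositionWithLocalizationAwaySource @RingHom.FiniteType := by
  intro R S T _ _ _ _ r _ f hf
  exact hf.comp (RingHom.finiteType_holdsForLocalizationAway S r)

/-- Local finite type descends along a flat, lfp, surjective morphism on the source. -/
theorem lft_of_comp_of_fppf {X' X Y : Scheme.{u}} (h : X' ⟶ X) (k : X ⟶ Y)
    (h1 : Flat h) (h2 : LocallyOfFinitePresentation h) (h3 : Surjective h)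
    (hhk : LocallyOfFiniteType (h ≫ k)) : LocallyOfFiniteType k := by
  rw [HasRingHomProperty.iff_exists_appLE (P := @LocallyOfFiniteType) ft_stableSource]
  intro x
  obtain ⟨x', rfl⟩ := h3.surj x
  refine Groth.Agent.Lib.H5bFppfSrc.exists_appLE_of_fppf_source
    (P := @LocallyOfFiniteType) (Q := @RingHom.FiniteType) ?_ h k hhk x'
  intro R A B _ _ _ φ ψ hψ1 hψ2 hs hc
  algebraize [φ, ψ, ψ.comp φ]
  have : Module.Flat A B := hψ1
  have : Algebra.FinitePresentation A B := hψ2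
  have : Algebra.FiniteType R B := hc
  have : Module.FaithfullyFlat A B := Module.FaithfullyFlat.of_comap_surjective hs
  exact Groth.Agent.S0113.result (R := R) (A := A) (B := B)

end Sch

section St

variable {S : Scheme.{u}} {𝒳 𝒴 𝒵 : AlgSt.Cat S}

theorem locQ_lfp_of_comp_of_fppf (h𝒳 : AlgSt.IsAlgStack Scheme.fppfPrecoverage 𝒳)
    (h𝒴 : AlgSt.IsAlgStack Scheme.fppfPrecoverage 𝒴)
    (h𝒵 : AlgSt.IsAlgStack Scheme.fppfPrecoverage 𝒵) (f : 𝒳 ⥤ᵇ 𝒴) (g : 𝒴 ⥤ᵇ 𝒵)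
    (hf₁ : AlgSt.LocQ (AlgSp.LocP @Flat) f)
    (hf₂ : AlgSt.LocQ (AlgSp.LocP @LocallyOfFinitePresentation) f)
    (hf₃ : AlgSt.IsSurjective f)
    (hfg : AlgSt.LocQ (AlgSp.LocP @LocallyOfFinitePresentation) (BasedFunctor.comp f g)) :
    AlgSt.LocQ (AlgSp.LocP @LocallyOfFinitePresentation) g := by
  obtain ⟨U, V, W, x, y, z, h, k, α, β, hx₁, hx₂, hy₁, hy₂, hz₁, hz₂, hα₁, hα₂, hβ₁, hβ₂, hγ⟩ :=
    exists_good_squares h𝒳 h𝒴 h𝒵 f g
  have hP : AlgSp.LocP @LocallyOfFinitePresentation ((AlgSp.yon S).map (h ≫ k)) :=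
    (locQ_iff_forall_good _ isSmoothLocalST_lfp h𝒳 h𝒵 (BasedFunctor.comp f g)).1 hfg U W x z
      (h ≫ k) _ hx₁ hz₁ hγ
  have hP' : AlgSp.LocP @Flat ((AlgSp.yon S).map h) :=
    (locQ_iff_forall_good _ isSmoothLocalST_flat h𝒳 h𝒴 f).1 hf₁ U V x y h α hx₁ hy₁ hα₁
  have hP'' : AlgSp.LocP @LocallyOfFinitePresentation ((AlgSp.yon S).map h) :=
    (locQ_iff_forall_good _ isSmoothLocalST_lfp h𝒳 h𝒴 f).1 hf₂ U V x y h α hx₁ hy₁ hα₁
  have h1 : LocallyOfFinitePresentation (h.left ≫ k.left) := AlgSp.locP_yon_map hP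
  have h2 : Flat h.left := AlgSp.locP_yon_map hP'
  have h2' : LocallyOfFinitePresentation h.left := AlgSp.locP_yon_map hP''
  have h3 : Surjective h.left := ⟨surjective_left_of_good h𝒳 h𝒴 f hf₃ x y h α hα₂⟩
  have h4 : LocallyOfFinitePresentation k.left := lfp_of_comp_of_fppf h.left k.left h2 h2' h3 h1
  exact ⟨V, W, y, z, k, β, hy₁, hy₂, hz₁, locP_yon_map_of_lfp k h4⟩

theorem locQ_lft_of_comp_of_fppf (h𝒳 : AlgSt.IsAlgStack Scheme.fppfPrecoverage 𝒳)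
    (h𝒴 : AlgSt.IsAlgStack Scheme.fppfPrecoverage 𝒴)
    (h𝒵 : AlgSt.IsAlgStack Scheme.fppfPrecoverage 𝒵) (f : 𝒳 ⥤ᵇ 𝒴) (g : 𝒴 ⥤ᵇ 𝒵)
    (hf₁ : AlgSt.LocQ (AlgSp.LocP @Flat) f)
    (hf₂ : AlgSt.LocQ (AlgSp.LocP @LocallyOfFinitePresentation) f)
    (hf₃ : AlgSt.IsSurjective f)
    (hfg : AlgSt.LocQ (AlgSp.LocP @LocallyOfFiniteType) (BasedFunctor.comp f g)) :
    AlgSt.LocQ (AlgSp.LocP @LocallyOfFiniteType) g := by
  obtain ⟨U, V, W, x, y, z, h, k, α, β, hx₁, hx₂, hy₁, hy₂, hz₁, hz₂, hα₁, hα₂, hβ₁, hβ₂, hγ⟩ :=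
    exists_good_squares h𝒳 h𝒴 h𝒵 f g
  have hP : AlgSp.LocP @LocallyOfFiniteType ((AlgSp.yon S).map (h ≫ k)) :=
    (locQ_iff_forall_good _ isSmoothLocalST_lft h𝒳 h𝒵 (BasedFunctor.comp f g)).1 hfg U W x z
      (h ≫ k) _ hx₁ hz₁ hγ
  have hP' : AlgSp.LocP @Flat ((AlgSp.yon S).map h) :=
    (locQ_iff_forall_good _ isSmoothLocalST_flat h𝒳 h𝒴 f).1 hf₁ U V x y h α hx₁ hy₁ hα₁
  have hP'' : AlgSp.LocP @LocallyOfFinitePresentation ((AlgSp.yon S).map h) :=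
    (locQ_iff_forall_good _ isSmoothLocalST_lfp h𝒳 h𝒴 f).1 hf₂ U V x y h α hx₁ hy₁ hα₁
  have h1 : LocallyOfFiniteType (h.left ≫ k.left) := AlgSp.locP_yon_map hP
  have h2 : Flat h.left := AlgSp.locP_yon_map hP'
  have h2' : LocallyOfFinitePresentation h.left := AlgSp.locP_yon_map hP''
  have h3 : Surjective h.left := ⟨surjective_left_of_good h𝒳 h𝒴 f hf₃ x y h α hα₂⟩
  have h4 : LocallyOfFiniteType k.left := lft_of_comp_of_fppf h.left k.left h2 h2' h3 h1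
  exact ⟨V, W, y, z, k, β, hy₁, hy₂, hz₁, locP_yon_map_of_lft k h4⟩

/-- Variant of `locQ_lft_of_comp_of_fppf` with `f` representable by algebraic spaces. -/
theorem locQ_lft_of_comp_of_fppf_rep (h𝒳 : AlgSt.IsAlgStack Scheme.fppfPrecoverage 𝒳)
    (h𝒴 : AlgSt.IsAlgStack Scheme.fppfPrecoverage 𝒴)
    (h𝒵 : AlgSt.IsAlgStack Scheme.fppfPrecoverage 𝒵) (f : 𝒳 ⥤ᵇ 𝒴) (g : 𝒴 ⥤ᵇ 𝒵)
    (hf₁ : AlgSt.RepByAlgSpWith (AlgSp.LocP @Flat) f)
    (hf₂ : AlgSt.RepByAlgSpWith (AlgSp.LocP @LocallyOfFinitePresentation) f)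
    (hf₃ : AlgSt.RepByAlgSpWith AlgSp.IsSurjectiveMor f)
    (hfg : AlgSt.LocQ (AlgSp.LocP @LocallyOfFiniteType) (BasedFunctor.comp f g)) :
    AlgSt.LocQ (AlgSp.LocP @LocallyOfFiniteType) g := by
  have hrep : AlgSt.RepByAlgSp1 f := fun U y => by
    obtain ⟨F, e, he, _⟩ := hf₁ U y
    exact ⟨F, e, he⟩
  have h1 := locQ_of_repByAlgSpWith _ isSmoothLocalST_flat h𝒳 h𝒴 f hf₁
  have h2 := locQ_of_repByAlgSpWith _ isSmoothLocalST_lfp h𝒳 h𝒴 f hf₂
  have h3 := (isSurjective_iff_repByAlgSpWith h𝒳 h𝒴 f hrep).2 hf₃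
  exact locQ_lft_of_comp_of_fppf h𝒳 h𝒴 h𝒵 f g h1 h2 h3 hfg

end St

end Groth.Agent.Lib.Helper8LocQFppfSrc
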