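import Mathlib
import Groth.Prelude.Def_Conn
import Groth.Prelude.Def_W4swconnpcurvhiggsLogLam
import Groth.Agent.Lib.Helper24LogConn

set_option autoImplicit false
universe v u
open TensorProduct

namespace Groth.Agent.Lib.Helper8LogLayer

open Groth.Agent.Lib.Helper24LogConn

variable {A : Type v} {B L E : Type u} [CommRing A] [CommRing B]
    [Algebra A B] [AddCommGroup L] [Module B L] [Module A L] [IsScalarTower A B L]
    [AddCommGroup E] [Module B E] [Module A E] [IsScalarTower A B E]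

/-- coordinate of a pure tensor -/
theorem coordE_tmul {n : ℕ} (ω : Module.Basis (Fin n) B L) (p : ℕ)
    (K : Set.powersetCard (Fin n) p) (e : E) (η : ↥(⋀[B]^p L)) :
    LogConn.coordE (E := E) ω p K (e ⊗ₜ[B] η) = (ω.exteriorPower p).coord K η • e := by
  show TensorProduct.rid B E (e ⊗ₜ[B] ((ω.exteriorPower p).coord K η)) = _
  exact TensorProduct.rid_tmul _ _

/-- expansion in the basis `ω_K` -/
theorem sum_coordE_tmul {n : ℕ} (ω : Module.Basis (Fin n) B L) (p : ℕ)
    (x : E ⊗[B] ↥(⋀[B]^p L)) :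
    x = ∑ K : Set.powersetCard (Fin n) p,
      LogConn.coordE (E := E) ω p K x ⊗ₜ[B] (ω.exteriorPower p K) := by
  induction x using TensorProduct.induction_on with
  | zero => simp
  | tmul e η =>
    simp only [coordE_tmul]
    conv_lhs => rw [← (ω.exteriorPower p).sum_repr η]
    rw [TensorProduct.tmul_sum]
    refine Finset.sum_congr rfl (fun K _ => ?_)
    rw [TensorProduct.tmul_smul, TensorProduct.smul_tmul', Module.Basis.coord_apply]
  | add x y hx hy =>
    simp only [map_add, TensorProduct.add_tmul, Finset.sum_add_distrib]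
    rw [← hx, ← hy]

theorem mem_layer_iff (nabla : E →ₗ[A] E ⊗[B] L) {n : ℕ} (ω : Module.Basis (Fin n) B L)
    (t : Fin n → B) (p : ℕ) (x : E ⊗[B] ↥(⋀[B]^p L)) :
    x ∈ LogConn.layer nabla ω t p ↔ ∀ K : Set.powersetCard (Fin n) p,
      LogConn.coordE (E := E) ω p K x ∈ LogConn.piece nabla ω t (K : Finset (Fin n)) := by
  unfold LogConn.layer
  rw [Submodule.mem_iInf]
  exact Iff.rfl

theorem det_eq_mul_prod {p n : ℕ} (t : Fin n → B) (κ : Fin p → Fin n) (I : Finset (Fin n))
    (M N : Matrix (Fin p) (Fin p) B)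
    (h : ∀ i j, M i j = N i j * (if κ j ∈ I then 1 else t (κ j))) :
    M.det = N.det * ∏ j, (if κ j ∈ I then 1 else t (κ j)) := by
  have : M = N * Matrix.diagonal (fun j => if κ j ∈ I then 1 else t (κ j)) := by
    ext i j
    rw [Matrix.mul_diagonal]
    exact h i j
  rw [this, Matrix.det_mul, Matrix.det_diagonal]

theorem prod_ite_eq_prod_sdiff {n p : ℕ} (t : Fin n → B) (K : Finset (Fin n)) (hK : K.card = p)
    (I : Finset (Fin n)) :
    ∏ j : Fin p, (if K.orderEmbOfFin hK j ∈ I then (1 : B) else t (K.orderEmbOfFin hK j)) =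
      ∏ k ∈ K \ I, t k := by
  classical
  have h1 : ∏ j : Fin p, (if K.orderEmbOfFin hK j ∈ I then (1 : B) else t (K.orderEmbOfFin hK j)) =
      ∏ k ∈ K, (if k ∈ I then 1 else t k) := by
    conv_rhs => rw [← Finset.map_orderEmbOfFin_univ K hK]
    rw [Finset.prod_map]
    rfl
  rw [h1, Finset.sdiff_eq_filter, Finset.prod_filter]
  refine Finset.prod_congr rfl (fun k _ => ?_)
  by_cases hk : k ∈ I <;> simp [hk]

section Main

variable (lam : B) {n : ℕ} (t : Fin n → B)
    (bΩ : Module.Basis (Fin n) B (KaehlerDifferential A B))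
    (hbΩ : ∀ i, bΩ i = KaehlerDifferential.D A B (t i))
    (ω : Module.Basis (Fin n) B L) (ι : KaehlerDifferential A B →ₗ[B] L)
    (hι : ∀ i, ι (KaehlerDifferential.D A B (t i)) = t i • ω i)
    (nabla : E →ₗ[A] E ⊗[B] L)
    (hc : Conn.IsLamConn (ι.compDer (KaehlerDifferential.D A B)) lam nabla)

include hbΩ hι in
theorem coord_ι (k : Fin n) (η : KaehlerDifferential A B) :
    ω.coord k (ι η) = bΩ.repr η k * t k := by
  have h1 : ι η = ∑ j, (bΩ.repr η j * t j) • ω j := by
    conv_lhs => rw [← bΩ.sum_repr η]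
    rw [map_sum]
    refine Finset.sum_congr rfl (fun j _ => ?_)
    rw [map_smul, hbΩ, hι, smul_smul]
  rw [h1, Module.Basis.coord_apply, ω.repr_sum_self]

include hbΩ hι hc in
theorem layer_smul_mem (p : ℕ) (b : B) {x : E ⊗[B] ↥(⋀[B]^p L)}
    (hx : x ∈ LogConn.layer nabla ω t p) : b • x ∈ LogConn.layer nabla ω t p := by
  rw [mem_layer_iff] at hx ⊢
  intro K
  rw [map_smul]
  exact s16792 lam t bΩ hbΩ ω ι hι nabla hc _ b _ (hx K)

include hbΩ hι in
theorem det_coord_factor {p : ℕ} (κ : Fin p → Fin n) (I : Finset (Fin n)) (v : Fin p → L)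
    (hv1 : ∀ (k : Fin p) (hk : k.val < I.card), v k = ω (I.orderEmbOfFin rfl ⟨k.val, hk⟩))
    (hv2 : ∀ k : Fin p, I.card ≤ k.val → v k ∈ LinearMap.range ι) :
    ∃ c' : B, (Matrix.of fun i j => ω.coord (κ j) (v i)).det =
      c' * ∏ j, (if κ j ∈ I then 1 else t (κ j)) := by
  classical
  simp only [LinearMap.mem_range] at hv2
  choose! η hη using hv2
  refine ⟨(Matrix.of fun i j => if i.val < I.card then ω.coord (κ j) (v i)
      else if κ j ∈ I then ω.coord (κ j) (v i) else bΩ.repr (η i) (κ j)).det, ?_⟩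
  apply det_eq_mul_prod
  intro i j
  simp only [Matrix.of_apply]
  by_cases hi : i.val < I.card
  · rw [if_pos hi]
    by_cases hj : κ j ∈ I
    · rw [if_pos hj, mul_one]
    · rw [if_neg hj, hv1 i hi, Module.Basis.coord_apply, Module.Basis.repr_self,
        Finsupp.single_apply, if_neg, zero_mul]
      intro h
      exact hj (h ▸ Finset.orderEmbOfFin_mem I rfl _)
  · rw [if_neg hi]
    by_cases hj : κ j ∈ I
    · rw [if_pos hj, if_pos hj, mul_one]
    · rw [if_neg hj, if_neg hj, ← hη i (not_lt.mp hi), coord_ι t bΩ hbΩ ω ι hι]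

theorem det_coord_eq_zero {p : ℕ} (κ : Fin p → Fin n) (I : Finset (Fin n)) (v : Fin p → L)
    (hv1 : ∀ (k : Fin p) (hk : k.val < I.card), v k = ω (I.orderEmbOfFin rfl ⟨k.val, hk⟩))
    (hIp : I.card ≤ p) (i₀ : Fin n) (hi₀ : i₀ ∈ I) (hκ : ∀ j, κ j ≠ i₀) :
    (Matrix.of fun i j => ω.coord (κ j) (v i)).det = 0 := by
  classical
  obtain ⟨m, hm⟩ : ∃ m : Fin I.card, I.orderEmbOfFin rfl m = i₀ := by
    have h2 : i₀ ∈ Set.range (I.orderEmbOfFin rfl) := by
      rw [Finset.range_orderEmbOfFin]; exact hi₀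
    exact h2
  have hm' : m.val < p := lt_of_lt_of_le m.isLt hIp
  apply Matrix.det_eq_zero_of_row_eq_zero ⟨m.val, hm'⟩
  intro j
  rw [Matrix.of_apply, hv1 ⟨m.val, hm'⟩ m.isLt, Module.Basis.coord_apply,
    Module.Basis.repr_self, Finsupp.single_apply, if_neg]
  intro h
  exact hκ j (h.symm.trans hm)

include hbΩ hι hc in
theorem gen_mem_layer (p : ℕ) {x : E ⊗[B] ↥(⋀[B]^p L)}
    (hx : x ∈ LogConn.gens nabla ω ι p) : x ∈ LogConn.layer nabla ω t p := by
  classical
  obtain ⟨I, hI, e, v, hv1, hv2, rfl⟩ := hx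
  rw [mem_layer_iff]
  intro K
  rw [coordE_tmul, exteriorPower.basis_coord, exteriorPower.ιMultiDual_apply_ιMulti]
  by_cases hIK : I ⊆ (K : Finset (Fin n))
  · obtain ⟨c', hc'⟩ := det_coord_factor t bΩ hbΩ ω ι hι
      (⇑(Set.powersetCard.ofFinEmbEquiv.symm K)) I v hv1 hv2
    rw [hc']
    have hprod : ∏ j : Fin p, (if Set.powersetCard.ofFinEmbEquiv.symm K j ∈ I then (1 : B)
        else t (Set.powersetCard.ofFinEmbEquiv.symm K j)) =
        ∏ k ∈ (K : Finset (Fin n)) \ I, t k :=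
      prod_ite_eq_prod_sdiff t (K : Finset (Fin n)) K.prop I
    rw [hprod, mul_smul]
    exact s16792 lam t bΩ hbΩ ω ι hι nabla hc _ c' _ (gen_mem nabla ω t hIK e)
  · obtain ⟨i₀, hi₀, hi₀K⟩ := Finset.not_subset.mp hIK
    rw [det_coord_eq_zero ω (⇑(Set.powersetCard.ofFinEmbEquiv.symm K)) I v hv1 hI i₀ hi₀ ?_,
      zero_smul]
    · exact Submodule.zero_mem _
    · intro j h
      exact hi₀K (h ▸ Finset.orderEmbOfFin_mem _ K.prop j)

include hbΩ hι hc in
theorem span_gens_le_layer (p : ℕ) :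
    (Submodule.span B (LogConn.gens nabla ω ι p)).restrictScalars A ≤
      LogConn.layer nabla ω t p := by
  intro x hx
  rw [Submodule.restrictScalars_mem] at hx
  induction hx using Submodule.span_induction with
  | mem x hx => exact gen_mem_layer lam t bΩ hbΩ ω ι hι nabla hc p hx
  | zero => exact Submodule.zero_mem _
  | add x y _ _ hx hy => exact Submodule.add_mem _ hx hy
  | smul b x _ hx => exact layer_smul_mem lam t bΩ hbΩ ω ι hι nabla hc p b hx

include hι in
/-- the key step for `⊇` -/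
theorem tmul_basis_mem_span (p : ℕ) (K : Set.powersetCard (Fin n) p) {J : Finset (Fin n)}
    (hJ : J ⊆ (K : Finset (Fin n))) (e : E) :
    ((∏ i ∈ (K : Finset (Fin n)) \ J, t i) • LogConn.compProd nabla ω J e) ⊗ₜ[B]
        (ω.exteriorPower p K) ∈ Submodule.span B (LogConn.gens nabla ω ι p) := by
  classical
  have hKc : (K : Finset (Fin n)).card = p := K.prop
  have hl : J.card ≤ p := hKc ▸ Finset.card_le_card hJ
  obtain ⟨κ, hκdef⟩ : ∃ κ : Fin p ↪o Fin n, κ = (K : Finset (Fin n)).orderEmbOfFin hKc := ⟨_, rfl⟩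
  obtain ⟨f, hf⟩ : ∃ f : Fin p → Fin n, f = fun k =>
      if hk : k.val < J.card then J.orderEmbOfFin rfl ⟨k.val, hk⟩ else κ k := ⟨_, rfl⟩
  have hf1 : ∀ (k : Fin p) (hk : k.val < J.card), f k = J.orderEmbOfFin rfl ⟨k.val, hk⟩ := by
    intro k hk
    rw [hf]
    exact dif_pos hk
  have hmaps : Set.MapsTo f {k : Fin p | k.val < J.card}
      (((K : Finset (Fin n)) : Finset (Fin n)) : Set (Fin n)) := by
    intro k hk
    rw [hf1 k hk]
    exact hJ (Finset.orderEmbOfFin_mem J rfl _)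
  have hinj : Set.InjOn f {k : Fin p | k.val < J.card} := by
    intro k hk k' hk' h
    rw [hf1 k hk, hf1 k' hk'] at h
    have h2 := (J.orderEmbOfFin rfl).injective h
    exact Fin.ext (Fin.mk.inj h2)
  obtain ⟨g, hg⟩ := hmaps.exists_equiv_extend_of_card_eq (by rw [Fintype.card_fin, hKc]) hinj
  obtain ⟨σ, hσdef⟩ : ∃ σ : Equiv.Perm (Fin p),
      σ = g.trans ((K : Finset (Fin n)).orderIsoOfFin hKc).symm.toEquiv := ⟨_, rfl⟩
  have hσ : ∀ k, κ (σ k) = (g k : Fin n) := by
    intro k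
    rw [hκdef, hσdef]
    show ((K : Finset (Fin n)).orderEmbOfFin hKc)
      ((((K : Finset (Fin n)).orderIsoOfFin hKc).symm) (g k)) = _
    rw [← Finset.coe_orderIsoOfFin_apply, OrderIso.apply_symm_apply]
  have hσ1 : ∀ (k : Fin p) (hk : k.val < J.card),
      κ (σ k) = J.orderEmbOfFin rfl ⟨k.val, hk⟩ := by
    intro k hk
    rw [hσ, hg k hk, hf1 k hk]
  have hσ2 : ∀ k : Fin p, J.card ≤ k.val → κ (σ k) ∉ J := by
    intro k hk hmem
    obtain ⟨m, hm⟩ : ∃ m : Fin J.card, J.orderEmbOfFin rfl m = κ (σ k) := by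
      have h2 : κ (σ k) ∈ Set.range (J.orderEmbOfFin rfl) := by
        rw [Finset.range_orderEmbOfFin]; exact hmem
      exact h2
    have hm' : m.val < p := lt_of_lt_of_le m.isLt hl
    have h3 : κ (σ ⟨m.val, hm'⟩) = J.orderEmbOfFin rfl m := hσ1 ⟨m.val, hm'⟩ m.isLt
    have h4 : σ ⟨m.val, hm'⟩ = σ k := κ.injective (h3.trans hm)
    have h5 : (⟨m.val, hm'⟩ : Fin p) = k := σ.injective h4
    have h6 : k.val < J.card := by rw [← h5]; exact m.isLt
    omega
  obtain ⟨w, hw⟩ : ∃ w : Fin p → L, w = fun j =>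
      (if κ j ∈ J then (1 : B) else t (κ j)) • ω (κ j) := ⟨_, rfl⟩
  have hwι : exteriorPower.ιMulti B p w =
      (∏ i ∈ (K : Finset (Fin n)) \ J, t i) • (ω.exteriorPower p K) := by
    rw [hw, AlternatingMap.map_smul_univ, hκdef,
      prod_ite_eq_prod_sdiff t (K : Finset (Fin n)) hKc J, exteriorPower.basis_apply]
    rfl
  have hv : exteriorPower.ιMulti B p (w ∘ σ) =
      Equiv.Perm.sign σ • exteriorPower.ιMulti B p w :=
    AlternatingMap.map_perm _ _ _
  have hgen : LogConn.compProd nabla ω J e ⊗ₜ[B] exteriorPower.ιMulti B p (w ∘ σ) ∈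
      LogConn.gens nabla ω ι p := by
    refine ⟨J, hl, e, w ∘ σ, ?_, ?_, rfl⟩
    · intro k hk
      have h1 := hσ1 k hk
      show w (σ k) = _
      rw [hw]
      simp only
      rw [if_pos (h1 ▸ Finset.orderEmbOfFin_mem J rfl _), one_smul, h1]
    · intro k hk
      have h1 := hσ2 k hk
      show w (σ k) ∈ _
      rw [hw]
      simp only
      rw [if_neg h1, ← hι]
      exact LinearMap.mem_range_self _ _
  have hgen' := Submodule.subset_span (R := B) hgen
  rw [TensorProduct.smul_tmul, ← hwι]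
  rcases Int.units_eq_one_or (Equiv.Perm.sign σ) with h | h
  · rw [h, one_smul] at hv
    rw [← hv]
    exact hgen'
  · rw [h, Units.neg_smul, one_smul] at hv
    have h2 : exteriorPower.ιMulti B p w = - exteriorPower.ιMulti B p (w ∘ σ) := by
      rw [hv, neg_neg]
    rw [h2, TensorProduct.tmul_neg]
    exact Submodule.neg_mem _ hgen'

include hι in
theorem layer_le_span_gens (p : ℕ) :
    LogConn.layer nabla ω t p ≤
      (Submodule.span B (LogConn.gens nabla ω ι p)).restrictScalars A := by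
  intro x hx
  rw [mem_layer_iff] at hx
  rw [Submodule.restrictScalars_mem, sum_coordE_tmul ω p x]
  refine Submodule.sum_mem _ (fun K _ => ?_)
  have h : LogConn.piece nabla ω t (K : Finset (Fin n)) ≤
      ((Submodule.span B (LogConn.gens nabla ω ι p)).restrictScalars A).comap
        (((TensorProduct.mk B E ↥(⋀[B]^p L)).flip (ω.exteriorPower p K)).restrictScalars A) := by
    apply piece_le
    intro J hJ e
    rw [Submodule.mem_comap]
    exact tmul_basis_mem_span t ω ι hι nabla p K hJ e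
  exact h (hx K)

include hbΩ hι hc in
theorem span_gens_eq_layer (p : ℕ) :
    (Submodule.span B (LogConn.gens nabla ω ι p)).restrictScalars A =
      LogConn.layer nabla ω t p :=
  le_antisymm (span_gens_le_layer lam t bΩ hbΩ ω ι hι nabla hc p)
    (layer_le_span_gens t ω ι hι nabla p)

end Main

end Groth.Agent.Lib.Helper8LogLayer
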