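import Mathlib
import Groth.Prelude.Def_Conn
import Groth.Prelude.Def_LogDiff
import Groth.Prelude.Def_W4swconnpcurvhiggsLogLam
import Groth.Agent.Lib.Helper24LogConn
import Groth.Agent.Lib.Helper8LogLayer

set_option autoImplicit false
universe v u
open TensorProduct

namespace Groth.Agent.Lib.Helper8LogNabla

open Groth.Agent.Lib.Helper24LogConn Groth.Agent.Lib.Helper8LogLayer

variable {A : Type v} {B L E : Type u} [CommRing A] [CommRing B]
    [Algebra A B] [AddCommGroup L] [Module B L] [Module A L] [IsScalarTower A B L]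
    [AddCommGroup E] [Module B E] [Module A E] [IsScalarTower A B E]

/-- expansion of an element of `E ⊗ L` in the basis `ω` -/
theorem sum_coord_tmul {n : ℕ} (ω : Module.Basis (Fin n) B L) (z : E ⊗[B] L) :
    z = ∑ i : Fin n, (TensorProduct.rid B E (TensorProduct.map LinearMap.id (ω.coord i) z)) ⊗ₜ[B] ω i := by
  induction z using TensorProduct.induction_on with
  | zero => simp
  | tmul e η =>
    simp only [TensorProduct.map_tmul, LinearMap.id_apply, TensorProduct.rid_tmul]
    conv_lhs => rw [← ω.sum_repr η]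
    rw [TensorProduct.tmul_sum]
    refine Finset.sum_congr rfl (fun K _ => ?_)
    rw [TensorProduct.tmul_smul, TensorProduct.smul_tmul', Module.Basis.coord_apply]
  | add x y hx hy =>
    simp only [map_add, TensorProduct.add_tmul, Finset.sum_add_distrib]
    rw [← hx, ← hy]

theorem nabla_eq_sum (nabla : E →ₗ[A] E ⊗[B] L) {n : ℕ} (ω : Module.Basis (Fin n) B L) (y : E) :
    nabla y = ∑ i : Fin n, LogConn.comp nabla ω i y ⊗ₜ[B] ω i :=
  sum_coord_tmul ω (nabla y)

theorem wedge_ιMulti (p : ℕ) (ℓ : L) (v : Fin p → L) :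
    Conn.wedge p ((exteriorPower.oneEquiv B L).symm ℓ) (exteriorPower.ιMulti B p v) =
      exteriorPower.ιMulti B (p + 1) (Fin.cons ℓ v) := by
  apply Subtype.ext
  rw [Conn.wedge_apply_coe, exteriorPower.oneEquiv_symm_apply]
  simp only [exteriorPower.ιMulti_apply_coe]
  have h1 : Matrix.vecTail (Fin.cons ℓ v : Fin (p + 1) → L) = v := by
    funext k
    simp [Matrix.vecTail]
  rw [ExteriorAlgebra.ιMulti_succ_apply (R := B) (n := p), h1, Fin.cons_zero,
    ExteriorAlgebra.ιMulti_succ_apply (R := B) (n := 0), ExteriorAlgebra.ιMulti_zero_apply, mul_one]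

theorem twedge_toOne_sum {n : ℕ} (ω : Module.Basis (Fin n) B L) (p : ℕ) (y : Fin n → E)
    (v : Fin p → L) :
    Conn.twedge p (Conn.toOne (∑ i : Fin n, y i ⊗ₜ[B] ω i)) (exteriorPower.ιMulti B p v) =
      ∑ i : Fin n, y i ⊗ₜ[B] exteriorPower.ιMulti B (p + 1) (Fin.cons (ω i) v) := by
  rw [map_sum, map_sum, LinearMap.sum_apply]
  refine Finset.sum_congr rfl (fun i _ => ?_)
  rw [Conn.toOne_tmul, Conn.twedge_tmul, wedge_ιMulti]


theorem sum_sum_ite_smul {n : ℕ} (a b : Fin n) (z : Fin n → Fin n → E) :
    ∑ j : Fin n, ∑ i : Fin n,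
      ((if i = a then (1 : B) else 0) * (if j = b then 1 else 0)) • z i j = z a b := by
  have h1 : ∀ j, ∑ i : Fin n,
      ((if i = a then (1 : B) else 0) * (if j = b then 1 else 0)) • z i j =
        (if j = b then (1 : B) else 0) • z a j := by
    intro j
    rw [Finset.sum_eq_single a (fun i _ hi => by simp [hi])
      (fun h => absurd (Finset.mem_univ a) h)]
    simp
  simp only [h1]
  rw [Finset.sum_eq_single b (fun j _ hj => by simp [hj])
    (fun h => absurd (Finset.mem_univ b) h)]
  simp

theorem orderEmb_pair {n : ℕ} (a b : Fin n) (hab : a < b)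
    (h : ({a, b} : Finset (Fin n)).card = 2) :
    ({a, b} : Finset (Fin n)).orderEmbOfFin h 0 = a ∧
      ({a, b} : Finset (Fin n)).orderEmbOfFin h 1 = b := by
  have hu := Finset.orderEmbOfFin_unique h (f := ![a, b])
    (by
      intro x
      fin_cases x <;> simp)
    (by
      intro x y hxy
      fin_cases x <;> fin_cases y <;> simp_all)
  exact ⟨(congrFun hu 0).symm, (congrFun hu 1).symm⟩

theorem coordE_pair {n : ℕ} (ω : Module.Basis (Fin n) B L) (a b : Fin n) (hab : a < b) (z : E)
    (i j : Fin n) :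
    LogConn.coordE (E := E) ω 2 ⟨{a, b}, Finset.card_pair (ne_of_lt hab)⟩
      (z ⊗ₜ[B] exteriorPower.ιMulti B 2 (Fin.cons (ω i) (fun _ : Fin 1 => ω j))) =
    ((if i = a then (1 : B) else 0) * (if j = b then 1 else 0) -
      (if i = b then (1 : B) else 0) * (if j = a then 1 else 0)) • z := by
  classical
  rw [coordE_tmul, exteriorPower.basis_coord, exteriorPower.ιMultiDual_apply_ιMulti,
    Matrix.det_fin_two]
  obtain ⟨h0, h1⟩ := orderEmb_pair a b hab (Finset.card_pair (ne_of_lt hab))
  have e0 : (Set.powersetCard.ofFinEmbEquiv.symm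
      (⟨{a, b}, Finset.card_pair (ne_of_lt hab)⟩ : Set.powersetCard (Fin n) 2)) 0 = a := h0
  have e1 : (Set.powersetCard.ofFinEmbEquiv.symm
      (⟨{a, b}, Finset.card_pair (ne_of_lt hab)⟩ : Set.powersetCard (Fin n) 2)) 1 = b := h1
  simp only [Matrix.of_apply, e0, e1]
  have c0 : (Fin.cons (ω i) (fun _ : Fin 1 => ω j) : Fin 2 → L) 0 = ω i := rfl
  have c1 : (Fin.cons (ω i) (fun _ : Fin 1 => ω j) : Fin 2 → L) 1 = ω j := rfl
  rw [c0, c1]
  simp only [Module.Basis.coord_apply, Module.Basis.repr_self, Finsupp.single_apply]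

section Main

variable (lam : B) {n : ℕ} (t : Fin n → B)
    (bΩ : Module.Basis (Fin n) B (KaehlerDifferential A B))
    (hbΩ : ∀ i, bΩ i = KaehlerDifferential.D A B (t i))
    (ω : Module.Basis (Fin n) B L) (ι : KaehlerDifferential A B →ₗ[B] L)
    (hι : ∀ i, ι (KaehlerDifferential.D A B (t i)) = t i • ω i)
    (nabla : E →ₗ[A] E ⊗[B] L)
    (hc : Conn.IsLamConn (ι.compDer (KaehlerDifferential.D A B)) lam nabla)
    (d : ∀ p : ℕ, ↥(⋀[B]^p L) →ₗ[A] ↥(⋀[B]^(p + 1) L))
    (hd : LogDiff.IsLogRule (KaehlerDifferential.D A B) ι (⇑ω) d)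
    (nablas : ∀ p : ℕ, E ⊗[B] ↥(⋀[B]^p L) →ₗ[A] E ⊗[B] ↥(⋀[B]^(p + 1) L))
    (hint : Conn.IsIntegrable nabla (fun p => lam • d p) nablas)

include hd in
theorem d_one_omega (j : Fin n) : d 1 ((exteriorPower.oneEquiv B L).symm (ω j)) = 0 := by
  rw [exteriorPower.oneEquiv_symm_apply]
  have h := hd 1 1 (fun _ => ω j) (fun _ => Or.inr ⟨j, rfl⟩)
  rw [one_smul] at h
  rw [h]
  exact AlternatingMap.map_coord_zero _ 0
    (by rw [Fin.cons_zero, Derivation.map_one_eq_zero, map_zero])

include hd hint in
theorem sum_sum_eq_zero (m : E) :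
    ∑ j : Fin n, ∑ i : Fin n, (LogConn.comp nabla ω i (LogConn.comp nabla ω j m)) ⊗ₜ[B]
      exteriorPower.ιMulti B 2 (Fin.cons (ω i) (fun _ : Fin 1 => ω j)) = 0 := by
  have h := hint.2 m
  rw [nabla_eq_sum nabla ω m, map_sum, map_sum] at h
  rw [← h]
  refine Finset.sum_congr rfl (fun j _ => ?_)
  rw [Conn.toOne_tmul, hint.1 1]
  simp only [LinearMap.smul_apply]
  rw [d_one_omega ω ι d hd j, smul_zero, TensorProduct.tmul_zero, add_zero,
    nabla_eq_sum nabla ω (LogConn.comp nabla ω j m), exteriorPower.oneEquiv_symm_apply,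
    twedge_toOne_sum]

include hd hint in
theorem comp_comm_of_lt (a b : Fin n) (hab : a < b) (m : E) :
    LogConn.comp nabla ω a (LogConn.comp nabla ω b m) =
      LogConn.comp nabla ω b (LogConn.comp nabla ω a m) := by
  have h := congrArg (LogConn.coordE (E := E) ω 2 ⟨{a, b}, Finset.card_pair (ne_of_lt hab)⟩)
    (sum_sum_eq_zero lam ω ι nabla d hd nablas hint m)
  rw [map_zero] at h
  simp only [map_sum, coordE_pair ω a b hab, sub_smul, Finset.sum_sub_distrib] at h
  rw [sum_sum_ite_smul a b, sum_sum_ite_smul b a] at h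
  exact sub_eq_zero.mp h

include hd hint in
theorem comp_comm (a b : Fin n) (m : E) :
    LogConn.comp nabla ω a (LogConn.comp nabla ω b m) =
      LogConn.comp nabla ω b (LogConn.comp nabla ω a m) := by
  rcases lt_trichotomy a b with h | h | h
  · exact comp_comm_of_lt lam ω ι nabla d hd nablas hint a b h m
  · rw [h]
  · exact (comp_comm_of_lt lam ω ι nabla d hd nablas hint b a h m).symm


include hd hint in
theorem comp_compProd_comm (i : Fin n) (J : Finset (Fin n)) (m : E) :
    LogConn.comp nabla ω i (LogConn.compProd nabla ω J m) =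
      LogConn.compProd nabla ω J (LogConn.comp nabla ω i m) := by
  classical
  induction J using Finset.induction_on_min generalizing m with
  | empty => rw [compProd_empty]; rfl
  | insert j J' hj ih =>
    rw [compProd_insert nabla ω j J' hj, LinearMap.comp_apply, LinearMap.comp_apply,
      comp_comm lam ω ι nabla d hd nablas hint i j, ih]

include hd hint in
theorem comp_compProd_insert (i : Fin n) (J : Finset (Fin n)) (hi : i ∉ J) (m : E) :
    LogConn.comp nabla ω i (LogConn.compProd nabla ω J m) =
      LogConn.compProd nabla ω (insert i J) m := by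
  classical
  induction J using Finset.induction_on_min generalizing m with
  | empty =>
    rw [compProd_insert nabla ω i ∅ (fun x hx => absurd hx (Finset.notMem_empty x))]
    rfl
  | insert j J' hj ih =>
    have hij : i ≠ j := fun h => hi (h ▸ Finset.mem_insert_self j J')
    have hiJ' : i ∉ J' := fun h => hi (Finset.mem_insert_of_mem h)
    rcases lt_or_gt_of_ne hij with h | h
    · rw [compProd_insert nabla ω i (insert j J') (fun x hx => by
        rcases Finset.mem_insert.mp hx with rfl | hx
        · exact h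
        · exact h.trans (hj x hx))]
      rfl
    · rw [compProd_insert nabla ω j J' hj, LinearMap.comp_apply,
        comp_comm lam ω ι nabla d hd nablas hint i j, ih hiJ', Finset.insert_comm i j J',
        compProd_insert nabla ω j (insert i J') (fun x hx => by
          rcases Finset.mem_insert.mp hx with rfl | hx
          · exact h
          · exact hj x hx)]
      rfl

include hbΩ in
theorem pd_prod_mul (i : Fin n) (S : Finset (Fin n)) :
    pd bΩ i (∏ k ∈ S, t k) * t i = if i ∈ S then ∏ k ∈ S, t k else 0 := by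
  classical
  by_cases hi : i ∈ S
  · rw [if_pos hi, ← Finset.mul_prod_erase S t hi, Derivation.leibniz,
      pd_prod t bΩ hbΩ i (S.erase i) (Finset.notMem_erase i S), pd_t t bΩ hbΩ, if_pos rfl,
      smul_zero, zero_add, smul_eq_mul, mul_one, mul_comm]
  · rw [if_neg hi, pd_prod t bΩ hbΩ i S hi, zero_mul]

include hbΩ hι hc hd hint in
theorem comp_piece' (i : Fin n) (I : Finset (Fin n)) {x : E}
    (hx : x ∈ LogConn.piece nabla ω t I) :
    LogConn.comp nabla ω i x ∈ LogConn.piece nabla ω t (insert i I) := by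
  classical
  have h : LogConn.piece nabla ω t I ≤
      (LogConn.piece nabla ω t (insert i I)).comap (LogConn.comp nabla ω i) := by
    apply piece_le
    intro J hJ e
    rw [Submodule.mem_comap, comp_smul lam t bΩ hbΩ ω ι hι nabla hc i (∏ k ∈ I \ J, t k)
      (LogConn.compProd nabla ω J e), pd_prod_mul t bΩ hbΩ i (I \ J)]
    apply Submodule.add_mem
    · by_cases hiJ : i ∈ J
      · rw [comp_compProd_comm lam ω ι nabla d hd nablas hint i J e,
          Finset.insert_eq_of_mem (hJ hiJ)]
        exact gen_mem nabla ω t hJ _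
      · rw [comp_compProd_insert lam ω ι nabla d hd nablas hint i J hiJ e]
        have hsub : insert i I \ insert i J ⊆ I \ J := by
          intro x hx
          rw [Finset.mem_sdiff, Finset.mem_insert, Finset.mem_insert] at hx
          rw [Finset.mem_sdiff]
          rcases hx with ⟨h1 | h1, h2⟩
          · exact absurd (Or.inl h1) h2
          · exact ⟨h1, fun h3 => h2 (Or.inr h3)⟩
        rw [← Finset.prod_sdiff hsub, mul_smul]
        exact s16792 lam t bΩ hbΩ ω ι hι nabla hc _ _ _
          (gen_mem nabla ω t (Finset.insert_subset_insert i hJ) e)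
    · by_cases hiS : i ∈ I \ J
      · rw [if_pos hiS, Finset.insert_eq_of_mem (Finset.mem_sdiff.mp hiS).1, mul_smul]
        exact s16792 lam t bΩ hbΩ ω ι hι nabla hc _ _ _ (gen_mem nabla ω t hJ e)
      · rw [if_neg hiS, mul_zero, zero_smul]
        exact Submodule.zero_mem _
  exact h hx


include hbΩ hι in
theorem det_coord_factor' {q : ℕ} (κ : Fin q → Fin n) (S : Finset (Fin n)) (v : Fin q → L)
    (hv : ∀ k, v k ∈ LinearMap.range ι ∨ ∃ i ∈ S, v k = ω i) :
    ∃ c' : B, (Matrix.of fun i j => ω.coord (κ j) (v i)).det =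
      c' * ∏ j, (if κ j ∈ S then 1 else t (κ j)) := by
  classical
  have hη : ∀ k, ¬ (∃ i ∈ S, v k = ω i) → ∃ η, ι η = v k := by
    intro k hk
    rcases hv k with h | h
    · exact LinearMap.mem_range.mp h
    · exact absurd h hk
  choose! η hη using hη
  refine ⟨(Matrix.of fun i j => if (∃ s ∈ S, v i = ω s) then ω.coord (κ j) (v i)
      else if κ j ∈ S then ω.coord (κ j) (v i) else bΩ.repr (η i) (κ j)).det, ?_⟩
  apply det_eq_mul_prod
  intro i j
  simp only [Matrix.of_apply]
  by_cases hi : ∃ s ∈ S, v i = ω s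
  · rw [if_pos hi]
    by_cases hj : κ j ∈ S
    · rw [if_pos hj, mul_one]
    · rw [if_neg hj]
      obtain ⟨s, hs, hvs⟩ := hi
      rw [hvs, Module.Basis.coord_apply, Module.Basis.repr_self, Finsupp.single_apply, if_neg,
        zero_mul]
      intro h
      exact hj (h ▸ hs)
  · rw [if_neg hi]
    by_cases hj : κ j ∈ S
    · rw [if_pos hj, if_pos hj, mul_one]
    · rw [if_neg hj, if_neg hj, ← hη i hi, coord_ι t bΩ hbΩ ω ι hι]

include hbΩ hι hc in
theorem tmul_ιMulti_mem_layer (q : ℕ) (S : Finset (Fin n)) {y : E}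
    (hy : y ∈ LogConn.piece nabla ω t S) (v : Fin q → L)
    (hv : ∀ k, v k ∈ LinearMap.range ι ∨ ∃ i ∈ S, v k = ω i)
    (hS : ∀ i ∈ S, ∃ k, v k = ω i) :
    y ⊗ₜ[B] exteriorPower.ιMulti B q v ∈ LogConn.layer nabla ω t q := by
  classical
  rw [mem_layer_iff]
  intro K
  rw [coordE_tmul, exteriorPower.basis_coord, exteriorPower.ιMultiDual_apply_ιMulti]
  by_cases hSK : S ⊆ (K : Finset (Fin n))
  · obtain ⟨c', hc'⟩ := det_coord_factor' t bΩ hbΩ ω ι hι
      (⇑(Set.powersetCard.ofFinEmbEquiv.symm K)) S v hv
    rw [hc']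
    have hprod : ∏ j : Fin q, (if Set.powersetCard.ofFinEmbEquiv.symm K j ∈ S then (1 : B)
        else t (Set.powersetCard.ofFinEmbEquiv.symm K j)) =
        ∏ k ∈ (K : Finset (Fin n)) \ S, t k :=
      prod_ite_eq_prod_sdiff t (K : Finset (Fin n)) K.prop S
    rw [hprod, mul_smul]
    exact s16792 lam t bΩ hbΩ ω ι hι nabla hc _ c' _ (smul_piece_mem nabla ω t hSK hy)
  · obtain ⟨i₀, hi₀, hi₀K⟩ := Finset.not_subset.mp hSK
    obtain ⟨k₀, hk₀⟩ := hS i₀ hi₀
    have hrow : ∀ j, (Matrix.of fun i j =>
        ω.coord (Set.powersetCard.ofFinEmbEquiv.symm K j) (v i)) k₀ j = 0 := by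
      intro j
      rw [Matrix.of_apply, hk₀, Module.Basis.coord_apply, Module.Basis.repr_self,
        Finsupp.single_apply, if_neg]
      intro h
      exact hi₀K (h ▸ Finset.orderEmbOfFin_mem _ K.prop j)
    rw [Matrix.det_eq_zero_of_row_eq_zero k₀ hrow, zero_smul]
    exact Submodule.zero_mem _

omit [Module A L] [IsScalarTower A B L] in
theorem slot_induction {p : ℕ} (X : Fin p → Set L) (Q : (Fin p → L) → Prop)
    (base : ∀ v : Fin p → L, (∀ k, v k ∈ X k) → Q v)
    (hadd : ∀ (v : Fin p → L) (k : Fin p) (u₁ u₂ : L),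
      Q (Function.update v k u₁) → Q (Function.update v k u₂) →
        Q (Function.update v k (u₁ + u₂)))
    (hsmul : ∀ (v : Fin p → L) (k : Fin p) (a : B) (u : L),
      Q (Function.update v k u) → Q (Function.update v k (a • u)))
    (hzero : ∀ (v : Fin p → L) (k : Fin p), Q (Function.update v k 0))
    (v : Fin p → L) (hv : ∀ k, v k ∈ Submodule.span B (X k)) : Q v := by
  classical
  have key : ∀ (T : Finset (Fin p)) (v : Fin p → L),
      (∀ k ∈ T, v k ∈ Submodule.span B (X k)) → (∀ k, k ∉ T → v k ∈ X k) → Q v := by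
    intro T
    induction T using Finset.induction_on with
    | empty =>
      intro v _ h2
      exact base v (fun k => h2 k (Finset.notMem_empty k))
    | insert k T hk ih =>
      intro v h1 h2
      have hvk := h1 k (Finset.mem_insert_self k T)
      have hall : ∀ u ∈ Submodule.span B (X k), Q (Function.update v k u) := by
        intro u hu
        induction hu using Submodule.span_induction with
        | mem u hu =>
          apply ih
          · intro k' hk'
            have hne : k' ≠ k := fun h => hk (h ▸ hk')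
            rw [Function.update_of_ne hne]
            exact h1 k' (Finset.mem_insert_of_mem hk')
          · intro k' hk'
            by_cases hkk : k' = k
            · subst hkk
              rw [Function.update_self]
              exact hu
            · rw [Function.update_of_ne hkk]
              exact h2 k' (fun h => (Finset.mem_insert.mp h).elim hkk hk')
        | zero => exact hzero v k
        | add u₁ u₂ _ _ h1' h2' => exact hadd v k u₁ u₂ h1' h2'
        | smul a u _ hu' => exact hsmul v k a u hu'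
      have h3 := hall (v k) hvk
      rwa [Function.update_eq_self] at h3
  exact key Finset.univ v (fun k _ => hv k) (fun k hk => absurd (Finset.mem_univ k) hk)

include hbΩ hι hc hd in
theorem tmul_d_mem_layer (p : ℕ) (I : Finset (Fin n)) {y : E}
    (hy : y ∈ LogConn.piece nabla ω t I) (v : Fin p → L)
    (hv1 : ∀ (k : Fin p) (hk : k.val < I.card), v k = ω (I.orderEmbOfFin rfl ⟨k.val, hk⟩))
    (hv2 : ∀ k : Fin p, I.card ≤ k.val → v k ∈ LinearMap.range ι) (hIp : I.card ≤ p) (b₀ : B) :
    y ⊗ₜ[B] d p (b₀ • exteriorPower.ιMulti B p v) ∈ LogConn.layer nabla ω t (p + 1) := by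
  classical
  obtain ⟨X, hX⟩ : ∃ X : Fin p → Set L, X = fun k =>
      {u | (∃ hk : k.val < I.card, u = ω (I.orderEmbOfFin rfl ⟨k.val, hk⟩)) ∨
        (I.card ≤ k.val ∧ ∃ b, u = ι (KaehlerDifferential.D A B b))} := ⟨_, rfl⟩
  have hXk : ∀ (k : Fin p) (u : L), u ∈ X k ↔
      ((∃ hk : k.val < I.card, u = ω (I.orderEmbOfFin rfl ⟨k.val, hk⟩)) ∨
        (I.card ≤ k.val ∧ ∃ b, u = ι (KaehlerDifferential.D A B b))) := by
    intro k u
    rw [hX]
    exact Iff.rfl
  have key : ∀ v' : Fin p → L, (∀ k, v' k ∈ Submodule.span B (X k)) →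
      ∀ b₀ : B, y ⊗ₜ[B] d p (b₀ • exteriorPower.ιMulti B p v') ∈
        LogConn.layer nabla ω t (p + 1) := by
    intro v' hv'
    refine slot_induction X (fun v' => ∀ b₀ : B,
      y ⊗ₜ[B] d p (b₀ • exteriorPower.ιMulti B p v') ∈ LogConn.layer nabla ω t (p + 1))
      ?_ ?_ ?_ ?_ v' hv'
    · -- base
      intro w hw b₀
      have hw' := fun k => (hXk k (w k)).mp (hw k)
      have hpure : ∀ k, (∃ b, w k = ι (KaehlerDifferential.D A B b)) ∨ ∃ i, w k = ω i := by
        intro k
        rcases hw' k with ⟨hk, h⟩ | ⟨_, b, h⟩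
        · exact Or.inr ⟨_, h⟩
        · exact Or.inl ⟨b, h⟩
      rw [hd p b₀ w hpure]
      apply tmul_ιMulti_mem_layer lam t bΩ hbΩ ω ι hι nabla hc (p + 1) I hy
      · intro k
        induction k using Fin.cases with
        | zero =>
          left
          rw [Fin.cons_zero]
          exact LinearMap.mem_range_self _ _
        | succ k =>
          rw [Fin.cons_succ]
          rcases hw' k with ⟨hk, h⟩ | ⟨_, b, h⟩
          · right
            exact ⟨_, Finset.orderEmbOfFin_mem I rfl _, h⟩
          · left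
            rw [h]
            exact LinearMap.mem_range_self _ _
      · intro i hi
        obtain ⟨m, hm⟩ : ∃ m : Fin I.card, I.orderEmbOfFin rfl m = i := by
          have h2 : i ∈ Set.range (I.orderEmbOfFin rfl) := by
            rw [Finset.range_orderEmbOfFin]; exact hi
          exact h2
        have hm' : m.val < p := lt_of_lt_of_le m.isLt hIp
        refine ⟨Fin.succ ⟨m.val, hm'⟩, ?_⟩
        rw [Fin.cons_succ]
        rcases hw' ⟨m.val, hm'⟩ with ⟨hk, h⟩ | ⟨hk, _⟩
        · rw [h]
          exact congrArg ω hm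
        · exact absurd m.isLt (not_lt.mpr hk)
    · -- add
      intro w k u₁ u₂ h1 h2 b₀
      rw [AlternatingMap.map_update_add, smul_add, map_add, TensorProduct.tmul_add]
      exact Submodule.add_mem _ (h1 b₀) (h2 b₀)
    · -- smul
      intro w k a u h b₀
      rw [AlternatingMap.map_update_smul, smul_smul]
      exact h (b₀ * a)
    · -- zero
      intro w k b₀
      rw [AlternatingMap.map_update_zero, smul_zero, map_zero, TensorProduct.tmul_zero]
      exact Submodule.zero_mem _
  apply key v _ b₀
  intro k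
  by_cases hk : k.val < I.card
  · exact Submodule.subset_span ((hXk k _).mpr (Or.inl ⟨hk, hv1 k hk⟩))
  · obtain ⟨η, hη⟩ := LinearMap.mem_range.mp (hv2 k (not_lt.mp hk))
    rw [← hη]
    have hη' : η ∈ Submodule.span B (Set.range (KaehlerDifferential.D A B)) := by
      rw [KaehlerDifferential.span_range_derivation]
      exact Submodule.mem_top
    have h3 := Submodule.apply_mem_span_image_of_mem_span ι hη'
    refine Submodule.span_mono ?_ h3
    rintro _ ⟨_, ⟨b, rfl⟩, rfl⟩
    exact (hXk k _).mpr (Or.inr ⟨not_lt.mp hk, b, rfl⟩)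

include hbΩ hι hc hd hint in
theorem nablas_mem_layer (p : ℕ) (x : E ⊗[B] ↥(⋀[B]^p L))
    (hx : x ∈ LogConn.layer nabla ω t p) :
    nablas p x ∈ LogConn.layer nabla ω t (p + 1) := by
  rw [← span_gens_eq_layer lam t bΩ hbΩ ω ι hι nabla hc p, Submodule.restrictScalars_mem] at hx
  have key : ∀ b : B, nablas p (b • x) ∈ LogConn.layer nabla ω t (p + 1) := by
    induction hx using Submodule.span_induction with
    | mem x hx =>
      intro b
      obtain ⟨I, hI, e, v, hv1, hv2, rfl⟩ := hx
      rw [TensorProduct.smul_tmul', hint.1 p]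
      have hy : b • LogConn.compProd nabla ω I e ∈ LogConn.piece nabla ω t I :=
        claimJ lam t bΩ hbΩ ω ι hι nabla hc I b e
      apply Submodule.add_mem
      · rw [nabla_eq_sum nabla ω, twedge_toOne_sum]
        refine Submodule.sum_mem _ (fun i _ => ?_)
        apply tmul_ιMulti_mem_layer lam t bΩ hbΩ ω ι hι nabla hc (p + 1) (insert i I)
          (comp_piece' lam t bΩ hbΩ ω ι hι nabla hc d hd nablas hint i I hy)
        · intro k
          induction k using Fin.cases with
          | zero =>
            right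
            exact ⟨i, Finset.mem_insert_self i I, Fin.cons_zero _ _⟩
          | succ k =>
            rw [Fin.cons_succ]
            by_cases hk : k.val < I.card
            · right
              exact ⟨_, Finset.mem_insert_of_mem (Finset.orderEmbOfFin_mem I rfl _), hv1 k hk⟩
            · left
              exact hv2 k (not_lt.mp hk)
        · intro s hs
          rcases Finset.mem_insert.mp hs with rfl | hs
          · exact ⟨0, Fin.cons_zero _ _⟩
          · obtain ⟨m, hm⟩ : ∃ m : Fin I.card, I.orderEmbOfFin rfl m = s := by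
              have h2 : s ∈ Set.range (I.orderEmbOfFin rfl) := by
                rw [Finset.range_orderEmbOfFin]; exact hs
              exact h2
            have hm' : m.val < p := lt_of_lt_of_le m.isLt hI
            refine ⟨Fin.succ ⟨m.val, hm'⟩, ?_⟩
            rw [Fin.cons_succ, hv1 ⟨m.val, hm'⟩ m.isLt]
            exact congrArg ω hm
      · show _ ⊗ₜ[B] ((lam • d p) _) ∈ _
        rw [LinearMap.smul_apply, TensorProduct.tmul_smul]
        apply layer_smul_mem lam t bΩ hbΩ ω ι hι nabla hc (p + 1) lam
        have h4 := tmul_d_mem_layer lam t bΩ hbΩ ω ι hι nabla hc d hd p I hy v hv1 hv2 hI 1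
        rwa [one_smul] at h4
    | zero =>
      intro b
      rw [smul_zero, map_zero]
      exact Submodule.zero_mem _
    | add x y _ _ hx hy =>
      intro b
      rw [smul_add, map_add]
      exact Submodule.add_mem _ (hx b) (hy b)
    | smul a x _ hx =>
      intro b
      rw [smul_smul]
      exact hx (b * a)
  have h5 := key 1
  rwa [one_smul] at h5

end Main

end Groth.Agent.Lib.Helper8LogNabla
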