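import Mathlib
import Groth.Prelude.Def_Conn
import Groth.Prelude.Def_LogDiff
import Groth.Prelude.Def_W4swconnpcurvhiggsLogLam
import Groth.Agent.Lib.Helper24LogConn
import Groth.Agent.Lib.Helper8LogLayer
import Groth.Agent.Lib.Helper8LogNabla

set_option autoImplicit false
universe v u
open TensorProduct

namespace Groth.Agent.Lib.Helper8LogUnit

open Groth.Agent.Lib.Helper24LogConn Groth.Agent.Lib.Helper8LogLayer
  Groth.Agent.Lib.Helper8LogNabla

variable {A : Type v} {B L E : Type u} [CommRing A] [CommRing B]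
    [Algebra A B] [AddCommGroup L] [Module B L] [Module A L] [IsScalarTower A B L]
    [AddCommGroup E] [Module B E] [Module A E] [IsScalarTower A B E]

section CommFromD

variable (lam : B) {n : ℕ}
    (ω : Module.Basis (Fin n) B L)
    (nabla : E →ₗ[A] E ⊗[B] L)
    (d : ∀ p : ℕ, ↥(⋀[B]^p L) →ₗ[A] ↥(⋀[B]^(p + 1) L))
    (hd1 : ∀ j, d 1 ((exteriorPower.oneEquiv B L).symm (ω j)) = 0)
    (nablas : ∀ p : ℕ, E ⊗[B] ↥(⋀[B]^p L) →ₗ[A] E ⊗[B] ↥(⋀[B]^(p + 1) L))
    (hint : Conn.IsIntegrable nabla (fun p => lam • d p) nablas)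

include hd1 hint in
theorem sum_sum_eq_zero' (m : E) :
    ∑ j : Fin n, ∑ i : Fin n, (LogConn.comp nabla ω i (LogConn.comp nabla ω j m)) ⊗ₜ[B]
      exteriorPower.ιMulti B 2 (Fin.cons (ω i) (fun _ : Fin 1 => ω j)) = 0 := by
  have h := hint.2 m
  rw [nabla_eq_sum nabla ω m, map_sum, map_sum] at h
  rw [← h]
  refine Finset.sum_congr rfl (fun j _ => ?_)
  rw [Conn.toOne_tmul, hint.1 1]
  simp only [LinearMap.smul_apply]
  rw [hd1 j, smul_zero, TensorProduct.tmul_zero, add_zero,
    nabla_eq_sum nabla ω (LogConn.comp nabla ω j m), exteriorPower.oneEquiv_symm_apply,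
    twedge_toOne_sum]

include hd1 hint in
theorem comp_comm_of_lt' (a b : Fin n) (hab : a < b) (m : E) :
    LogConn.comp nabla ω a (LogConn.comp nabla ω b m) =
      LogConn.comp nabla ω b (LogConn.comp nabla ω a m) := by
  have h := congrArg (LogConn.coordE (E := E) ω 2 ⟨{a, b}, Finset.card_pair (ne_of_lt hab)⟩)
    (sum_sum_eq_zero' lam ω nabla d hd1 nablas hint m)
  rw [map_zero] at h
  simp only [map_sum, coordE_pair ω a b hab, sub_smul, Finset.sum_sub_distrib] at h
  rw [sum_sum_ite_smul a b, sum_sum_ite_smul b a] at h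
  exact sub_eq_zero.mp h

include hd1 hint in
theorem comp_comm' (a b : Fin n) (m : E) :
    LogConn.comp nabla ω a (LogConn.comp nabla ω b m) =
      LogConn.comp nabla ω b (LogConn.comp nabla ω a m) := by
  rcases lt_trichotomy a b with h | h | h
  · exact comp_comm_of_lt' lam ω nabla d hd1 nablas hint a b h m
  · rw [h]
  · exact (comp_comm_of_lt' lam ω nabla d hd1 nablas hint b a h m).symm

end CommFromD

section OneSystem

variable (lam : B) {n : ℕ} (t : Fin n → B)
    (bΩ : Module.Basis (Fin n) B (KaehlerDifferential A B))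
    (hbΩ : ∀ i, bΩ i = KaehlerDifferential.D A B (t i))
    (ω : Module.Basis (Fin n) B L) (ι : KaehlerDifferential A B →ₗ[B] L)
    (hι : ∀ i, ι (KaehlerDifferential.D A B (t i)) = t i • ω i)
    (nabla : E →ₗ[A] E ⊗[B] L)
    (hc : Conn.IsLamConn (ι.compDer (KaehlerDifferential.D A B)) lam nabla)
    (hcomm : ∀ (a b : Fin n) (m : E), LogConn.comp nabla ω a (LogConn.comp nabla ω b m) =
      LogConn.comp nabla ω b (LogConn.comp nabla ω a m))

include hcomm in
theorem comp_compProd_comm' (i : Fin n) (J : Finset (Fin n)) (m : E) :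
    LogConn.comp nabla ω i (LogConn.compProd nabla ω J m) =
      LogConn.compProd nabla ω J (LogConn.comp nabla ω i m) := by
  classical
  induction J using Finset.induction_on_min generalizing m with
  | empty => rw [compProd_empty]; rfl
  | insert j J' hj ih =>
    rw [compProd_insert nabla ω j J' hj, LinearMap.comp_apply, LinearMap.comp_apply,
      hcomm i j, ih]

include hcomm in
theorem comp_compProd_insert' (i : Fin n) (J : Finset (Fin n)) (hi : i ∉ J) (m : E) :
    LogConn.comp nabla ω i (LogConn.compProd nabla ω J m) =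
      LogConn.compProd nabla ω (insert i J) m := by
  classical
  induction J using Finset.induction_on_min generalizing m with
  | empty =>
    rw [compProd_insert nabla ω i ∅ (fun x hx => absurd hx (Finset.notMem_empty x))]
    rfl
  | insert j J' hj ih =>
    have hij : i ≠ j := fun h => hi (h ▸ Finset.mem_insert_self j J')
    have hiJ' : i ∉ J' := fun h => hi (Finset.mem_insert_of_mem h)
    rcases lt_or_gt_of_ne hij with h | h
    · rw [compProd_insert nabla ω i (insert j J') (fun x hx => by
        rcases Finset.mem_insert.mp hx with rfl | hx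
        · exact h
        · exact h.trans (hj x hx))]
      rfl
    · rw [compProd_insert nabla ω j J' hj, LinearMap.comp_apply,
        hcomm i j, ih hiJ', Finset.insert_comm i j J',
        compProd_insert nabla ω j (insert i J') (fun x hx => by
          rcases Finset.mem_insert.mp hx with rfl | hx
          · exact h
          · exact hj x hx)]
      rfl

include hbΩ hι hc hcomm in
/-- every component preserves every piece (flat case) -/
theorem comp_piece_self (i : Fin n) (K : Finset (Fin n)) {x : E}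
    (hx : x ∈ LogConn.piece nabla ω t K) :
    LogConn.comp nabla ω i x ∈ LogConn.piece nabla ω t K := by
  classical
  have h : LogConn.piece nabla ω t K ≤
      (LogConn.piece nabla ω t K).comap (LogConn.comp nabla ω i) := by
    apply piece_le
    intro J hJ e
    rw [Submodule.mem_comap, comp_smul lam t bΩ hbΩ ω ι hι nabla hc i (∏ k ∈ K \ J, t k)
      (LogConn.compProd nabla ω J e), pd_prod_mul t bΩ hbΩ i (K \ J),
      comp_compProd_comm' ω nabla hcomm i J e]
    apply Submodule.add_mem
    · exact gen_mem nabla ω t hJ _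
    · by_cases hiS : i ∈ K \ J
      · rw [if_pos hiS, mul_smul]
        exact s16792 lam t bΩ hbΩ ω ι hι nabla hc _ _ _ (gen_mem nabla ω t hJ e)
      · rw [if_neg hiS, mul_zero, zero_smul]
        exact Submodule.zero_mem _
  exact h hx

include hbΩ hι hc hcomm in
theorem piece_insert_le (i : Fin n) (S : Finset (Fin n)) (hi : i ∉ S) :
    LogConn.piece nabla ω t (insert i S) ≤ LogConn.piece nabla ω t S := by
  classical
  apply piece_le
  intro J hJ e
  by_cases hiJ : i ∈ J
  · have hJ0 : J.erase i ⊆ S := by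
      intro x hx
      rcases Finset.mem_insert.mp (hJ (Finset.mem_of_mem_erase hx)) with h | h
      · exact absurd h (Finset.ne_of_mem_erase hx)
      · exact h
    have hcp : LogConn.compProd nabla ω J e =
        LogConn.compProd nabla ω (J.erase i) (LogConn.comp nabla ω i e) := by
      conv_lhs => rw [← Finset.insert_erase hiJ]
      rw [← comp_compProd_insert' ω nabla hcomm i (J.erase i) (Finset.notMem_erase i J) e,
        comp_compProd_comm' ω nabla hcomm]
    have hsd : insert i S \ J = S \ J.erase i := by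
      ext x
      simp only [Finset.mem_sdiff, Finset.mem_insert, Finset.mem_erase]
      constructor
      · rintro ⟨h1 | h1, h2⟩
        · exact absurd (h1 ▸ hiJ) h2
        · exact ⟨h1, fun h3 => h2 h3.2⟩
      · rintro ⟨h1, h2⟩
        refine ⟨Or.inr h1, fun h3 => h2 ⟨?_, h3⟩⟩
        rintro rfl
        exact hi h1
    rw [hcp, hsd]
    exact gen_mem nabla ω t hJ0 _
  · have hJ0 : J ⊆ S := by
      intro x hx
      rcases Finset.mem_insert.mp (hJ hx) with h | h
      · exact absurd (h ▸ hx) hiJ
      · exact h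
    rw [Finset.insert_sdiff_of_notMem S hiJ,
      Finset.prod_insert (fun h => hi (Finset.mem_sdiff.mp h).1), mul_smul]
    exact s16792 lam t bΩ hbΩ ω ι hι nabla hc _ _ _ (gen_mem nabla ω t hJ0 e)

include hbΩ hι hc hcomm in
theorem piece_anti {S I : Finset (Fin n)} (h : S ⊆ I) :
    LogConn.piece nabla ω t I ≤ LogConn.piece nabla ω t S := by
  classical
  have key : ∀ T : Finset (Fin n), Disjoint S T →
      LogConn.piece nabla ω t (S ∪ T) ≤ LogConn.piece nabla ω t S := by
    intro T
    induction T using Finset.induction_on with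
    | empty => intro _; rw [Finset.union_empty]
    | insert i T hiT ih =>
      intro hd
      rw [Finset.disjoint_insert_right] at hd
      have hiST : i ∉ S ∪ T := fun h => (Finset.mem_union.mp h).elim hd.1 hiT
      rw [Finset.union_insert]
      exact (piece_insert_le lam t bΩ hbΩ ω ι hι nabla hc hcomm i (S ∪ T) hiST).trans (ih hd.2)
  have h2 := key (I \ S) Finset.disjoint_sdiff
  rwa [Finset.union_sdiff_of_subset h] at h2

end OneSystem

section TwoSystems

variable (lam : B) {n : ℕ} (t t' : Fin n → B)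
    (bΩ bΩ' : Module.Basis (Fin n) B (KaehlerDifferential A B))
    (hbΩ : ∀ i, bΩ i = KaehlerDifferential.D A B (t i))
    (hbΩ' : ∀ i, bΩ' i = KaehlerDifferential.D A B (t' i))
    (ω ω' : Module.Basis (Fin n) B L) (ι : KaehlerDifferential A B →ₗ[B] L)
    (hι : ∀ i, ι (KaehlerDifferential.D A B (t i)) = t i • ω i)
    (hι' : ∀ i, ι (KaehlerDifferential.D A B (t' i)) = t' i • ω' i)
    (nabla : E →ₗ[A] E ⊗[B] L)
    (hc : Conn.IsLamConn (ι.compDer (KaehlerDifferential.D A B)) lam nabla)
    (w : Fin n → B) (ζ : Fin n → KaehlerDifferential A B)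
    (hζ : ∀ i, ω i = ω' i + ι (ζ i)) (hw : ∀ j, t j = w j * t' j)
    (hcomm' : ∀ (a b : Fin n) (m : E), LogConn.comp nabla ω' a (LogConn.comp nabla ω' b m) =
      LogConn.comp nabla ω' b (LogConn.comp nabla ω' a m))

include hbΩ hι hζ hw in
theorem comp_eq_sub (j : Fin n) (z : E) :
    LogConn.comp nabla ω j z = LogConn.comp nabla ω' j z -
      ∑ i, (bΩ.repr (ζ i) j * w j) • (t' j • LogConn.comp nabla ω' i z) := by
  have h1 : LogConn.comp nabla ω j z =
      ∑ i, (ω.coord j (ω' i)) • LogConn.comp nabla ω' i z := by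
    show TensorProduct.rid B E (TensorProduct.map LinearMap.id (ω.coord j) (nabla z)) = _
    rw [nabla_eq_sum nabla ω' z, map_sum, map_sum]
    refine Finset.sum_congr rfl (fun i _ => ?_)
    rw [TensorProduct.map_tmul, LinearMap.id_apply]
    exact TensorProduct.rid_tmul _ _
  have h2 : ∀ i, ω.coord j (ω' i) =
      (if i = j then 1 else 0) - bΩ.repr (ζ i) j * (w j * t' j) := by
    intro i
    have h3 : ω' i = ω i - ι (ζ i) := by rw [hζ i]; abel
    rw [h3, map_sub, coord_ι t bΩ hbΩ ω ι hι, Module.Basis.coord_apply, Module.Basis.repr_self,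
      Finsupp.single_apply, hw j]
  rw [h1]
  simp only [h2, sub_smul, Finset.sum_sub_distrib, ite_smul, one_smul, zero_smul,
    Finset.sum_ite_eq', Finset.mem_univ, if_true]
  congr 1
  refine Finset.sum_congr rfl (fun i _ => ?_)
  rw [smul_smul, mul_assoc]

include hbΩ hι hζ hw hbΩ' hι' hc hcomm' in
theorem compProd_mem_piece' (J : Finset (Fin n)) (e : E) :
    LogConn.compProd nabla ω J e ∈ LogConn.piece nabla ω' t' J := by
  classical
  induction J using Finset.induction_on_min generalizing e with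
  | empty =>
    have h := gen_mem nabla ω' t' (Finset.Subset.refl (∅ : Finset (Fin n))) e
    rw [Finset.sdiff_self, Finset.prod_empty, one_smul, compProd_empty] at h
    rw [compProd_empty]
    exact h
  | insert j J' hj ih =>
    have hjJ' : j ∉ J' := fun h => lt_irrefl j (hj j h)
    rw [compProd_insert nabla ω j J' hj, LinearMap.comp_apply,
      comp_eq_sub t t' bΩ hbΩ ω ω' ι hι nabla w ζ hζ hw]
    have hz := ih e
    apply Submodule.sub_mem
    · exact comp_piece lam t' bΩ' hbΩ' ω' ι hι' nabla hc j J' hj hz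
    · refine Submodule.sum_mem _ (fun i _ => ?_)
      apply s16792 lam t' bΩ' hbΩ' ω' ι hι' nabla hc
      have h1 := comp_piece_self lam t' bΩ' hbΩ' ω' ι hι' nabla hc hcomm' i J' hz
      have h2 := smul_piece_mem nabla ω' t' (Finset.subset_insert j J') h1
      have hs : insert j J' \ J' = {j} := by
        ext x
        simp only [Finset.mem_sdiff, Finset.mem_insert, Finset.mem_singleton]
        constructor
        · rintro ⟨h1 | h1, h2⟩
          · exact h1
          · exact absurd h1 h2
        · rintro rfl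
          exact ⟨Or.inl rfl, hjJ'⟩
      rwa [hs, Finset.prod_singleton] at h2

include hbΩ hι hζ hw hbΩ' hι' hc hcomm' in
theorem gen_mem_layer' (p : ℕ) {x : E ⊗[B] ↥(⋀[B]^p L)}
    (hx : x ∈ LogConn.gens nabla ω ι p) : x ∈ LogConn.layer nabla ω' t' p := by
  classical
  obtain ⟨I, hI, e, v, hv1, hv2, rfl⟩ := hx
  have hy : ∀ S, S ⊆ I → LogConn.compProd nabla ω I e ∈ LogConn.piece nabla ω' t' S :=
    fun S hS => piece_anti lam t' bΩ' hbΩ' ω' ι hι' nabla hc hcomm' hS
      (compProd_mem_piece' lam t t' bΩ bΩ' hbΩ hbΩ' ω ω' ι hι hι' nabla hc w ζ hζ hw hcomm' I e)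
  obtain ⟨X, hX⟩ : ∃ X : Fin p → Set L, X = fun k =>
      {u | (∃ hk : k.val < I.card, u = ω' (I.orderEmbOfFin rfl ⟨k.val, hk⟩)) ∨
        u ∈ LinearMap.range ι} := ⟨_, rfl⟩
  have hXk : ∀ (k : Fin p) (u : L), u ∈ X k ↔
      ((∃ hk : k.val < I.card, u = ω' (I.orderEmbOfFin rfl ⟨k.val, hk⟩)) ∨
        u ∈ LinearMap.range ι) := by
    intro k u
    rw [hX]
    exact Iff.rfl
  refine slot_induction (B := B) X (fun v' => LogConn.compProd nabla ω I e ⊗ₜ[B]
    exteriorPower.ιMulti B p v' ∈ LogConn.layer nabla ω' t' p) ?_ ?_ ?_ ?_ v ?_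
  · -- base
    intro w' hw'
    have hw'' := fun k => (hXk k (w' k)).mp (hw' k)
    apply tmul_ιMulti_mem_layer lam t' bΩ' hbΩ' ω' ι hι' nabla hc p
      (I.filter (fun i => ∃ k, w' k = ω' i)) (hy _ (Finset.filter_subset _ _)) w'
    · intro k
      rcases hw'' k with ⟨hk, h⟩ | h
      · right
        refine ⟨_, ?_, h⟩
        rw [Finset.mem_filter]
        exact ⟨Finset.orderEmbOfFin_mem I rfl _, k, h⟩
      · left
        exact h
    · intro i hi
      exact (Finset.mem_filter.mp hi).2
  · -- add
    intro w' k u₁ u₂ h1 h2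
    rw [AlternatingMap.map_update_add, TensorProduct.tmul_add]
    exact Submodule.add_mem _ h1 h2
  · -- smul
    intro w' k a u h
    rw [AlternatingMap.map_update_smul, TensorProduct.tmul_smul]
    exact layer_smul_mem lam t' bΩ' hbΩ' ω' ι hι' nabla hc p a h
  · -- zero
    intro w' k
    rw [AlternatingMap.map_update_zero, TensorProduct.tmul_zero]
    exact Submodule.zero_mem _
  · intro k
    by_cases hk : k.val < I.card
    · rw [hv1 k hk, hζ]
      exact Submodule.add_mem _ (Submodule.subset_span ((hXk k _).mpr (Or.inl ⟨hk, rfl⟩)))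
        (Submodule.subset_span ((hXk k _).mpr (Or.inr (LinearMap.mem_range_self _ _))))
    · exact Submodule.subset_span ((hXk k _).mpr (Or.inr (hv2 k (not_lt.mp hk))))

include hbΩ hι hζ hw hbΩ' hι' hc hcomm' in
theorem layer_le_layer' (p : ℕ) :
    LogConn.layer nabla ω t p ≤ LogConn.layer nabla ω' t' p := by
  intro x hx
  rw [← span_gens_eq_layer lam t bΩ hbΩ ω ι hι nabla hc p, Submodule.restrictScalars_mem] at hx
  induction hx using Submodule.span_induction with
  | mem x hx =>
    exact gen_mem_layer' lam t t' bΩ bΩ' hbΩ hbΩ' ω ω' ι hι hι' nabla hc w ζ hζ hw hcomm' p hx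
  | zero => exact Submodule.zero_mem _
  | add x y _ _ hx hy => exact Submodule.add_mem _ hx hy
  | smul b x _ hx => exact layer_smul_mem lam t' bΩ' hbΩ' ω' ι hι' nabla hc p b hx

end TwoSystems

section Final

variable (lam : B) {n : ℕ} (t : Fin n → B)
    (bΩ : Module.Basis (Fin n) B (KaehlerDifferential A B))
    (hbΩ : ∀ i, bΩ i = KaehlerDifferential.D A B (t i))
    (ω : Module.Basis (Fin n) B L) (ι : KaehlerDifferential A B →ₗ[B] L)
    (hι : ∀ i, ι (KaehlerDifferential.D A B (t i)) = t i • ω i)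
    (nabla : E →ₗ[A] E ⊗[B] L)
    (hc : Conn.IsLamConn (ι.compDer (KaehlerDifferential.D A B)) lam nabla)
    (d : ∀ p : ℕ, ↥(⋀[B]^p L) →ₗ[A] ↥(⋀[B]^(p + 1) L))
    (hd : LogDiff.IsLogRule (KaehlerDifferential.D A B) ι (⇑ω) d)
    (nablas : ∀ p : ℕ, E ⊗[B] ↥(⋀[B]^p L) →ₗ[A] E ⊗[B] ↥(⋀[B]^(p + 1) L))
    (hint : Conn.IsIntegrable nabla (fun p => lam • d p) nablas)
    (u : Fin n → Bˣ) (bΩ' : Module.Basis (Fin n) B (KaehlerDifferential A B))
    (hbΩ' : ∀ i, bΩ' i = KaehlerDifferential.D A B ((u i : B) * t i))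
    (ω' : Module.Basis (Fin n) B L)
    (hω' : ∀ i, ω' i = ω i + ((u i)⁻¹ : Bˣ).val • ι (KaehlerDifferential.D A B (u i : B)))

include hι hω' in
theorem hι'_of (i : Fin n) :
    ι (KaehlerDifferential.D A B ((u i : B) * t i)) = ((u i : B) * t i) • ω' i := by
  rw [Derivation.leibniz, map_add, map_smul, map_smul, hι, hω', smul_add]
  simp only [smul_smul]
  have h1 : (u i : B) * t i * ((u i)⁻¹ : Bˣ).val = t i := by
    rw [mul_comm (u i : B), mul_assoc, Units.mul_inv, mul_one]
  rw [h1]

include hd hω' in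
theorem d_one_omega' (j : Fin n) : d 1 ((exteriorPower.oneEquiv B L).symm (ω' j)) = 0 := by
  have e1 : (exteriorPower.oneEquiv B L).symm (ω' j) =
      (exteriorPower.oneEquiv B L).symm (ω j) + ((u j)⁻¹ : Bˣ).val •
        exteriorPower.ιMulti B 1 (fun _ => ι (KaehlerDifferential.D A B (u j : B))) := by
    rw [hω', map_add, map_smul, exteriorPower.oneEquiv_symm_apply B L (ι _)]
  rw [e1, map_add, d_one_omega ω ι d hd j, zero_add,
    hd 1 _ (fun _ => ι (KaehlerDifferential.D A B (u j : B))) (fun _ => Or.inl ⟨_, rfl⟩)]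
  have h1 : KaehlerDifferential.D A B (((u j)⁻¹ : Bˣ).val) =
      -(((u j)⁻¹ : Bˣ).val) ^ 2 • KaehlerDifferential.D A B (u j : B) :=
    Derivation.leibniz_of_mul_eq_one _ (Units.inv_mul (u j))
  rw [h1, map_smul, ← wedge_ιMulti, map_smul, map_smul, LinearMap.smul_apply, wedge_ιMulti,
    AlternatingMap.map_eq_zero_of_eq _ _ (i := (0 : Fin (1 + 1))) (j := 1) rfl (by decide),
    smul_zero]

include hbΩ hι hc hd hint hbΩ' hω' in
theorem layer_eq_layer (p : ℕ) :
    LogConn.layer nabla ω t p = LogConn.layer nabla ω' (fun i => (u i : B) * t i) p := by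
  have hι' := hι'_of t ω ι hι u ω' hω'
  have hcomm := comp_comm lam ω ι nabla d hd nablas hint
  have hcomm' := comp_comm' lam ω' nabla d (d_one_omega' ω ι d hd u ω' hω') nablas hint
  apply le_antisymm
  · exact layer_le_layer' lam t (fun i => (u i : B) * t i) bΩ bΩ' hbΩ hbΩ' ω ω' ι hι hι' nabla hc
      (fun j => ((u j)⁻¹ : Bˣ).val)
      (fun i => -(((u i)⁻¹ : Bˣ).val • KaehlerDifferential.D A B (u i : B)))
      (fun i => by rw [hω', map_neg, map_smul, add_neg_cancel_right])
      (fun j => by rw [← mul_assoc, Units.inv_mul, one_mul]) hcomm' p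
  · exact layer_le_layer' lam (fun i => (u i : B) * t i) t bΩ' bΩ hbΩ' hbΩ ω' ω ι hι' hι nabla hc
      (fun j => (u j : B))
      (fun i => ((u i)⁻¹ : Bˣ).val • KaehlerDifferential.D A B (u i : B))
      (fun i => by rw [hω', map_smul]) (fun j => rfl) hcomm p

end Final

end Groth.Agent.Lib.Helper8LogUnit
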