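import Mathlib
import Groth.Agent.Lib.Helper8UnitsThick1
import Groth.Agent.Lib.Helper18Con2

/-!
# Base change of `Spec (A/I) ⟶ Spec A` to a scheme over `Spec A`: kernels on affine opens (helper8)
-/

set_option autoImplicit false
universe u
open CategoryTheory CategoryTheory.Limits AlgebraicGeometry TopologicalSpace Opposite

namespace Groth.Agent.Lib.Helper8UnitsThick2

open Groth.Agent.Lib.Helper6 Groth.Agent.Lib.Helper23.Serre

variable {A : Type u} [CommRing A] {X : Scheme.{u}} (f : X ⟶ Spec (CommRingCat.of A))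

/-- the structure map `A → Γ(X, U)` -/
noncomputable def strMap (U : X.Opens) : A →+* Γ(X, U) :=
  (f.appLE ⊤ U le_top).hom.comp (Scheme.ΓSpecIso (CommRingCat.of A)).inv.hom

lemma strMap_res {U V : X.Opens} (h : V ≤ U) (a : A) :
    resf h (strMap f U a) = strMap f V a := by
  have h1 := Scheme.Hom.appLE_map f (U := ⊤) (V := U) (V' := V) le_top (homOfLE h).op
  have h2 := congrArg (fun φ => φ.hom ((Scheme.ΓSpecIso (CommRingCat.of A)).inv.hom a)) h1
  exact h2

lemma strMap_eq_resF (U : X.Opens) (a : A) : strMap f U a = resF (strMap f ⊤ a) U :=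
  (strMap_res f (le_top : U ≤ ⊤) a).symm

variable {B : Type u} [CommRing B] (ρ : A →+* B)

/-- the base change of `Spec B ⟶ Spec A` to `X` -/
noncomputable abbrev bc : pullback f (Spec.map (CommRingCat.ofHom ρ)) ⟶ X :=
  pullback.fst f (Spec.map (CommRingCat.ofHom ρ))

lemma specMap_appTop (a' : Γ(Spec (CommRingCat.of A), ⊤)) :
    (Spec.map (CommRingCat.ofHom ρ)).appTop.hom a' =
      (Scheme.ΓSpecIso (CommRingCat.of B)).inv.hom
        (ρ ((Scheme.ΓSpecIso (CommRingCat.of A)).hom.hom a')) := by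
  have h := Scheme.ΓSpecIso_naturality (CommRingCat.ofHom ρ)
  have h3 : (Spec.map (CommRingCat.ofHom ρ)).appTop =
      ((Scheme.ΓSpecIso (CommRingCat.of A)).hom ≫ CommRingCat.ofHom ρ) ≫
        (Scheme.ΓSpecIso (CommRingCat.of B)).inv := by
    rw [← h, Category.assoc, Iso.hom_inv_id, Category.comp_id]
  rw [h3]
  rfl

lemma ker_specMap_appTop :
    RingHom.ker (Spec.map (CommRingCat.ofHom ρ)).appTop.hom =
      Ideal.map (Scheme.ΓSpecIso (CommRingCat.of A)).inv.hom (RingHom.ker ρ) := by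
  have hinj : Function.Injective (Scheme.ΓSpecIso (CommRingCat.of B)).inv.hom :=
    ((ConcreteCategory.isIso_iff_bijective (Scheme.ΓSpecIso (CommRingCat.of B)).inv).1
      inferInstance).1
  apply le_antisymm
  · intro a' ha'
    rw [RingHom.mem_ker, specMap_appTop] at ha'
    have h1 : ρ ((Scheme.ΓSpecIso (CommRingCat.of A)).hom.hom a') = 0 :=
      hinj (ha'.trans (map_zero _).symm)
    have h2 : a' = (Scheme.ΓSpecIso (CommRingCat.of A)).inv.hom
        ((Scheme.ΓSpecIso (CommRingCat.of A)).hom.hom a') := by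
      rw [← CommRingCat.comp_apply, Iso.hom_inv_id]
      rfl
    rw [h2]
    exact Ideal.mem_map_of_mem _ h1
  · rw [Ideal.map_le_iff_le_comap]
    intro a ha
    rw [Ideal.mem_comap, RingHom.mem_ker, specMap_appTop]
    have h2 : (Scheme.ΓSpecIso (CommRingCat.of A)).hom.hom
        ((Scheme.ΓSpecIso (CommRingCat.of A)).inv.hom a) = a := by
      rw [← CommRingCat.comp_apply, Iso.inv_hom_id]
      rfl
    rw [h2, (RingHom.mem_ker).1 ha, map_zero]

variable (hρ : Function.Surjective ρ)

include hρ in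
lemma surjective_specMap_appTop :
    Function.Surjective (Spec.map (CommRingCat.ofHom ρ)).appTop.hom := by
  intro b'
  obtain ⟨a, ha⟩ := hρ ((Scheme.ΓSpecIso (CommRingCat.of B)).hom.hom b')
  refine ⟨(Scheme.ΓSpecIso (CommRingCat.of A)).inv.hom a, ?_⟩
  rw [specMap_appTop]
  have h2 : (Scheme.ΓSpecIso (CommRingCat.of A)).hom.hom
      ((Scheme.ΓSpecIso (CommRingCat.of A)).inv.hom a) = a := by
    rw [← CommRingCat.comp_apply, Iso.inv_hom_id]
    rfl
  rw [h2, ha, ← CommRingCat.comp_apply, Iso.hom_inv_id]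
  rfl

include hρ in
/-- **the ideal of the base change of `Spec B` on an affine open is generated by `ker ρ`** -/
theorem app_eq_zero_iff (U : X.affineOpens) (x : Γ(X, U.1)) :
    ((bc f ρ).app U.1).hom x = 0 ↔ x ∈ Ideal.map (strMap f U.1) (RingHom.ker ρ) := by
  have H : IsPullback (pullback.fst f (Spec.map (CommRingCat.ofHom ρ)))
      (pullback.snd f (Spec.map (CommRingCat.ofHom ρ))) f (Spec.map (CommRingCat.ofHom ρ)) :=
    IsPullback.of_hasPullback _ _
  have hUST : (⊤ : (Spec (CommRingCat.of B)).Opens) ≤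
      (Spec.map (CommRingCat.ofHom ρ)) ⁻¹ᵁ (⊤ : (Spec (CommRingCat.of A)).Opens) := le_top
  have hUSX : U.1 ≤ f ⁻¹ᵁ (⊤ : (Spec (CommRingCat.of A)).Opens) := le_top
  have hiso := isIso_pushoutSection_of_isAffineOpen H hUST hUSX rfl
    (isAffineOpen_top _) (isAffineOpen_top _) U.2
  have hpo := (isIso_pushoutSection_iff H hUST hUSX rfl).mp hiso
  have hsurj : Function.Surjective
      ((Spec.map (CommRingCat.ofHom ρ)).appLE ⊤ ⊤ hUST).hom := surjective_specMap_appTop ρ hρ
  have hker := Groth.Agent.Helper18Con.ker_eq_map_of_isPushout hpo hsurj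
  have hker' : RingHom.ker ((Spec.map (CommRingCat.ofHom ρ)).appLE ⊤ ⊤ hUST).hom =
      Ideal.map (Scheme.ΓSpecIso (CommRingCat.of A)).inv.hom (RingHom.ker ρ) :=
    ker_specMap_appTop ρ
  rw [hker', Ideal.map_map] at hker
  have hmem : x ∈ Ideal.map (strMap f U.1) (RingHom.ker ρ) ↔
      ((bc f ρ).appLE U.1 ((bc f ρ) ⁻¹ᵁ U.1 ⊓
        (pullback.snd f (Spec.map (CommRingCat.ofHom ρ))) ⁻¹ᵁ ⊤) inf_le_left).hom x = 0 := by
    change x ∈ Ideal.map ((f.appLE ⊤ U.1 hUSX).hom.comp _) _ ↔ _
    rw [← hker, RingHom.mem_ker]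
  rw [hmem, Scheme.Hom.appLE]
  have hle : (bc f ρ) ⁻¹ᵁ U.1 ≤ (bc f ρ) ⁻¹ᵁ U.1 ⊓
      (pullback.snd f (Spec.map (CommRingCat.ofHom ρ))) ⁻¹ᵁ ⊤ := le_inf le_rfl le_top
  constructor
  · intro h
    rw [CommRingCat.comp_apply, h, map_zero]
  · intro h
    rw [CommRingCat.comp_apply] at h
    have h2 := congrArg ((pullback f (Spec.map (CommRingCat.ofHom ρ))).presheaf.map
      (homOfLE hle).op).hom h
    rw [map_zero, ← CommRingCat.comp_apply, ← Functor.map_comp] at h2
    have h3 : (homOfLE (inf_le_left : (bc f ρ) ⁻¹ᵁ U.1 ⊓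
        (pullback.snd f (Spec.map (CommRingCat.ofHom ρ))) ⁻¹ᵁ ⊤ ≤ (bc f ρ) ⁻¹ᵁ U.1)).op ≫
        (homOfLE hle).op = 𝟙 _ := rfl
    rw [h3, CategoryTheory.Functor.map_id] at h2
    exact h2

/-- in a flat algebra, the annihilator of (the image of) `t` is generated by the annihilator of `t` -/
lemma mem_map_of_flat {A S : Type u} [CommRing A] [CommRing S] (φ : A →+* S) (hφ : φ.Flat)
    (t : A) (M : Ideal A) (hM : ∀ a, t * a = 0 → a ∈ M) (x : S) (hx : x * φ t = 0) :
    x ∈ Ideal.map φ M := by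
  letI := φ.toAlgebra
  haveI : Module.Flat A S := hφ
  have h0 : ∑ i : Unit, (fun _ : Unit => t) i • (fun _ : Unit => x) i = 0 := by
    simp only [Finset.univ_unique, Finset.sum_singleton]
    rw [Algebra.smul_def, mul_comm]
    exact hx
  obtain ⟨k, a, y, hxy, ha⟩ := Module.Flat.isTrivialRelation_of_sum_smul_eq_zero (R := A) (M := S)
    (f := fun _ : Unit => t) (x := fun _ : Unit => x) h0
  have hx' : x = ∑ j, a () j • y j := hxy ()
  rw [hx']
  refine Ideal.sum_mem _ fun j _ => ?_
  rw [Algebra.smul_def]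
  apply Ideal.mul_mem_right
  apply Ideal.mem_map_of_mem
  apply hM
  have := ha j
  simpa using this

section Assembly

variable {A : Type u} [CommRing A] {X : Scheme.{u}} (f : X ⟶ Spec (CommRingCat.of A))
  {B : Type u} [CommRing B] (ρ : A →+* B)

lemma isClosedImmersion_bc (hρ : Function.Surjective ρ) : IsClosedImmersion (bc f ρ) := by
  haveI : IsClosedImmersion (Spec.map (CommRingCat.ofHom ρ)) :=
    IsClosedImmersion.spec_of_surjective _ hρ
  infer_instance

lemma bc_appTop_strMap (a : A) (ha : ρ a = 0) :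
    (bc f ρ).appTop.hom (strMap f ⊤ a) = 0 := by
  have hc : bc f ρ ≫ f = pullback.snd f (Spec.map (CommRingCat.ofHom ρ)) ≫
      Spec.map (CommRingCat.ofHom ρ) := pullback.condition
  have h1 := congrArg (fun g => g.appTop.hom ((Scheme.ΓSpecIso (CommRingCat.of A)).inv.hom a)) hc
  simp only [Scheme.Hom.comp_appTop, CommRingCat.comp_apply] at h1
  have h2 : (Spec.map (CommRingCat.ofHom ρ)).appTop.hom
      ((Scheme.ΓSpecIso (CommRingCat.of A)).inv.hom a) = 0 := by
    rw [specMap_appTop]
    have h3 : (Scheme.ΓSpecIso (CommRingCat.of A)).hom.hom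
        ((Scheme.ΓSpecIso (CommRingCat.of A)).inv.hom a) = a := by
      rw [← CommRingCat.comp_apply, Iso.inv_hom_id]
      rfl
    rw [h3, ha, map_zero]
  rw [h2, map_zero] at h1
  have h4 : strMap f ⊤ a = f.appTop.hom ((Scheme.ΓSpecIso (CommRingCat.of A)).inv.hom a) := by
    have h5 : f.appLE ⊤ ⊤ le_top = f.appTop := by
      rw [Scheme.Hom.appTop, Scheme.Hom.app_eq_appLE]
      rfl
    unfold strMap
    rw [h5]
    rfl
  rw [h4]
  exact h1

lemma flat_strMap [Flat f] (U : X.affineOpens) : (strMap f U.1).Flat := by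
  have h1 : (f.appLE ⊤ U.1 le_top).hom.Flat :=
    HasRingHomProperty.appLE (P := @Flat) f inferInstance ⟨⊤, isAffineOpen_top _⟩ U le_top
  have h2 : (Scheme.ΓSpecIso (CommRingCat.of A)).inv.hom.Flat :=
    RingHom.Flat.of_bijective
      ((ConcreteCategory.isIso_iff_bijective (Scheme.ΓSpecIso (CommRingCat.of A)).inv).1
        inferInstance)
  exact RingHom.Flat.comp h2 h1

open Groth.Agent.Lib.Helper8UnitsThick1 in
/-- **S18257**: `H^q(X', O^×) → H^q(X', i_* O_X^×)` is surjective when `H^{q+1}(X₀, O) = 0` -/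
theorem main18257 [IsLocalRing A] (t : A) (ht0 : t ≠ 0) (ht : t ∈ IsLocalRing.maximalIdeal A)
    (hmt : ∀ x ∈ IsLocalRing.maximalIdeal A, x * t = 0) [Flat f] (q : ℕ)
    (hvan : Subsingleton (Coh.HH
      (pullback f (Spec.map (CommRingCat.ofHom (IsLocalRing.residue A))))
      (Coh.structureModule _) (q + 1))) :
    Function.Surjective (Sheaf.H.map (UnitsSh.comap
      (pullback.fst f (Spec.map (CommRingCat.ofHom (Ideal.Quotient.mk (Ideal.span ({t} : Set A))))))) q) := by
  haveI := isClosedImmersion_bc f (Ideal.Quotient.mk (Ideal.span ({t} : Set A)))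
    Ideal.Quotient.mk_surjective
  haveI := isClosedImmersion_bc f (IsLocalRing.residue A) IsLocalRing.residue_surjective
  have hres : IsLocalRing.residue A t = 0 := (IsLocalRing.residue_eq_zero_iff t).2 ht
  have hq0 : Ideal.Quotient.mk (Ideal.span ({t} : Set A)) t = 0 :=
    Ideal.Quotient.eq_zero_iff_mem.2 (Ideal.subset_span rfl)
  refine surjective_H_map_comap' (bc f (IsLocalRing.residue A)) (strMap f ⊤ t)
    (bc f (Ideal.Quotient.mk (Ideal.span ({t} : Set A))))
    (bc_appTop_strMap f _ t hq0) (bc_appTop_strMap f _ t hres) ?_ ?_ q hvan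
  · intro U r hr
    rw [app_eq_zero_iff f _ Ideal.Quotient.mk_surjective U r, Ideal.mk_ker, Ideal.map_span,
      Set.image_singleton, Ideal.mem_span_singleton'] at hr
    obtain ⟨a, ha⟩ := hr
    exact ⟨a, by rw [← strMap_eq_resF, ha]⟩
  · intro U x
    rw [app_eq_zero_iff f _ IsLocalRing.residue_surjective U x, IsLocalRing.ker_residue,
      ← strMap_eq_resF]
    constructor
    · intro hx
      have hle : Ideal.map (strMap f U.1) (IsLocalRing.maximalIdeal A) ≤
          (Ideal.span {strMap f U.1 t}).annihilator := by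
        rw [Ideal.map_le_iff_le_comap]
        intro a ha
        rw [Ideal.mem_comap, Submodule.mem_annihilator_span_singleton, smul_eq_mul, ← map_mul,
          hmt a ha, map_zero]
      have := hle hx
      rwa [Submodule.mem_annihilator_span_singleton] at this
    · intro hx
      refine mem_map_of_flat (strMap f U.1) (flat_strMap f U) t _ ?_ x hx
      intro a ha
      by_contra hna
      have hu : IsUnit a := by
        by_contra hnu
        exact hna ((IsLocalRing.mem_maximalIdeal a).2 hnu)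
      apply ht0
      obtain ⟨u, rfl⟩ := hu
      have : t * (u : A) * ((u⁻¹ : Aˣ) : A) = 0 := by rw [ha, zero_mul]
      rwa [mul_assoc, Units.mul_inv, mul_one] at this

end Assembly

end Groth.Agent.Lib.Helper8UnitsThick2
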