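import Mathlib
import Groth.Prelude
import Groth.Agent.Lib.Helper8SheafPts

/-!
# Descent of alternating multilinear morphisms along an epimorphism of module schemes (helper8)
-/

universe u w

open CategoryTheory CategoryTheory.Limits MonoidalCategory CartesianMonoidalCategory MonObj GrpObj
open AlgebraicGeometry Opposite

namespace Groth.Agent.Lib.Helper8MultAlt

open Groth.Agent.Lib.Helper8SheafPts

section Abstract

/-- antisymmetry of an alternating multiplicative-multilinear function -/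
theorem swap_mul {P Q I : Type*} [Monoid Q] [Mul P] [DecidableEq I] (Φ : (I → P) → Q)
    (hmul : ∀ (x : I → P) (i : I) (y z : P),
      Φ (Function.update x i (y * z)) = Φ (Function.update x i y) * Φ (Function.update x i z))
    (halt : ∀ (x : I → P) (i j : I), i ≠ j → x i = x j → Φ x = 1) (x : I → P) (i j : I)
    (hij : i ≠ j) :
    Φ (Function.update (Function.update x j (x i)) i (x j)) * Φ x = 1 := by
  have hz : Φ (Function.update (Function.update x i (x i * x j)) j (x i * x j)) = 1 := by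
    apply halt _ i j hij
    rw [Function.update_self, Function.update_of_ne hij, Function.update_self]
  rw [hmul, Function.update_comm hij (x i * x j) (x i) x,
    Function.update_comm hij (x i * x j) (x j) x, hmul, hmul] at hz
  have h1 : Φ (Function.update (Function.update x j (x i)) i (x i)) = 1 := by
    apply halt _ i j hij
    rw [Function.update_self, Function.update_of_ne hij.symm, Function.update_self]
  have h4 : Φ (Function.update (Function.update x j (x j)) i (x j)) = 1 := by
    apply halt _ i j hij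
    rw [Function.update_self, Function.update_of_ne hij.symm, Function.update_self]
  have h3 : Function.update (Function.update x j (x j)) i (x i) = x := by
    rw [Function.update_eq_self, Function.update_eq_self]
  rw [h1, h4, h3, _root_.one_mul, _root_.mul_one] at hz
  exact hz

/-- changing coordinates one at a time -/
theorem eq_of_coordwise {P Q I : Type*} [DecidableEq I] [Fintype I] (Φ : (I → P) → Q)
    (r : P → P → Prop)
    (hch : ∀ (x : I → P) (i : I) (y y' : P), r y y' →
      Φ (Function.update x i y) = Φ (Function.update x i y'))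
    (c c' : I → P) (h : ∀ l, r (c l) (c' l)) : Φ c = Φ c' := by
  classical
  have key : ∀ s : Finset I, Φ c = Φ (fun l => if l ∈ s then c' l else c l) := by
    intro s
    induction s using Finset.induction_on with
    | empty => simp
    | insert a s ha ih =>
      rw [ih]
      have e1 : Function.update (fun l => if l ∈ s then c' l else c l) a (c a) =
          (fun l => if l ∈ s then c' l else c l) := by
        funext l
        by_cases hl : l = a
        · subst hl
          simp [ha]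
        · simp [Function.update_of_ne hl]
      have e2 : Function.update (fun l => if l ∈ s then c' l else c l) a (c' a) =
          (fun l => if l ∈ insert a s then c' l else c l) := by
        funext l
        by_cases hl : l = a
        · subst hl
          simp
        · simp [Finset.mem_insert, hl]
      calc Φ (fun l => if l ∈ s then c' l else c l)
          = Φ (Function.update (fun l => if l ∈ s then c' l else c l) a (c a)) :=
            (congrArg Φ e1).symm
        _ = Φ (Function.update (fun l => if l ∈ s then c' l else c l) a (c' a)) :=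
            hch _ a _ _ (h a)
        _ = Φ (fun l => if l ∈ insert a s then c' l else c l) := congrArg Φ e2
  have := key Finset.univ
  simpa using this

end Abstract

section Tuple

variable {C : Type*} [Category C] [CartesianMonoidalCategory C] [BraidedCategory C]

theorem tuple_zero {M T : C} (x : Fin 0 → (T ⟶ M)) : MultSch.tuple x = toUnit T := rfl

theorem tuple_succ {M T : C} {n : ℕ} (x : Fin (n + 1) → (T ⟶ M)) :
    MultSch.tuple x = lift (x 0) (MultSch.tuple fun i => x i.succ) := rfl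

theorem comp_tuple {M T V : C} (f : V ⟶ T) : ∀ {n : ℕ} (x : Fin n → (T ⟶ M)),
    f ≫ MultSch.tuple x = MultSch.tuple (fun l => f ≫ x l)
  | 0, x => toUnit_unique _ _
  | n + 1, x => by
      show f ≫ lift (x 0) (MultSch.tuple fun i => x i.succ) =
        lift (f ≫ x 0) (MultSch.tuple fun i => f ≫ x i.succ)
      rw [comp_lift, comp_tuple f (fun i => x i.succ)]

/-- the `n`-fold power of a morphism -/
def powMap {M M' : C} (π : M ⟶ M') : (n : ℕ) → (MultSch.pow M n ⟶ MultSch.pow M' n)
  | 0 => 𝟙 _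
  | n + 1 => π ⊗ₘ powMap π n

theorem tuple_powMap {M M' T : C} (π : M ⟶ M') : ∀ {n : ℕ} (x : Fin n → (T ⟶ M)),
    MultSch.tuple x ≫ powMap π n = MultSch.tuple (fun l => x l ≫ π)
  | 0, x => toUnit_unique _ _
  | n + 1, x => by
      show lift (x 0) (MultSch.tuple fun i => x i.succ) ≫ (π ⊗ₘ powMap π n) =
        lift (x 0 ≫ π) (MultSch.tuple fun i => x i.succ ≫ π)
      rw [lift_map, tuple_powMap π (fun i => x i.succ)]

theorem tuple_surj {M T : C} : ∀ {n : ℕ} (x : T ⟶ MultSch.pow M n),
    ∃ c : Fin n → (T ⟶ M), MultSch.tuple c = x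
  | 0, x => ⟨fun i => i.elim0, toUnit_unique _ _⟩
  | n + 1, x => by
      obtain ⟨x', hx'⟩ : ∃ x' : T ⟶ M ⊗ MultSch.pow M n, x' = x := ⟨x, rfl⟩
      obtain ⟨c, hc⟩ := tuple_surj (n := n) (x' ≫ snd M (MultSch.pow M n))
      refine ⟨Fin.cons (α := fun _ => (T ⟶ M)) (x' ≫ fst M (MultSch.pow M n)) c, ?_⟩
      subst hx'
      show lift (Fin.cons (α := fun _ => (T ⟶ M)) (x' ≫ fst M (MultSch.pow M n)) c 0)
        (MultSch.tuple fun i => Fin.cons (α := fun _ => (T ⟶ M)) (x' ≫ fst M (MultSch.pow M n)) c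
          i.succ) = x'
      simp only [Fin.cons_zero, Fin.cons_succ]
      rw [hc]
      exact lift_comp_fst_snd x'

theorem tuple_inj {M T : C} : ∀ {n : ℕ} (c c' : Fin n → (T ⟶ M)),
    MultSch.tuple c = MultSch.tuple c' → c = c'
  | 0, c, c', _ => funext fun i => i.elim0
  | n + 1, c, c', h => by
      have h : lift (c 0) (MultSch.tuple fun i => c i.succ) =
          lift (c' 0) (MultSch.tuple fun i => c' i.succ) := h
      have h0 : c 0 = c' 0 := by
        have := congrArg (· ≫ fst _ _) h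
        simpa only [lift_fst] using this
      have h1 : (fun i : Fin n => c i.succ) = (fun i : Fin n => c' i.succ) := by
        apply tuple_inj
        have := congrArg (· ≫ snd _ _) h
        simpa only [lift_snd] using this
      funext i
      exact Fin.cases h0 (fun k => congrFun h1 k) i

theorem comp_update {M T V : C} {n : ℕ} (f : V ⟶ T) (x : Fin n → (T ⟶ M)) (i : Fin n)
    (y : T ⟶ M) :
    (fun l => f ≫ Function.update x i y l) = Function.update (fun l => f ≫ x l) i (f ≫ y) := by
  funext l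
  by_cases h : l = i
  · subst h
    simp
  · simp [Function.update_of_ne h]

theorem comp_tuple_update {M T V : C} {n : ℕ} (f : V ⟶ T) (x : Fin n → (T ⟶ M)) (i : Fin n)
    (y : T ⟶ M) :
    f ≫ MultSch.tuple (Function.update x i y) =
      MultSch.tuple (Function.update (fun l => f ≫ x l) i (f ≫ y)) :=
  (comp_tuple f _).trans (congrArg MultSch.tuple (comp_update f x i y))

end Tuple

section Sieve

variable {S : Scheme.{u}} {K : Precoverage Scheme.{u}}

/-- the sieve of morphisms that lift along `e` -/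
def liftSieve {A B : Over S} (e : A ⟶ B) : Sieve B where
  arrows V i := ∃ t : V ⟶ A, t ≫ e = i
  downward_closed := by
    rintro V W i ⟨t, rfl⟩ g
    exact ⟨g ≫ t, Category.assoc _ _ _⟩

variable {M₂ M₃ : Over S} [GrpObj M₂] [IsCommMonObj M₂] [GrpObj M₃] [IsCommMonObj M₃]

variable [(QuotSh.J K S).Subcanonical]

theorem liftSieve_powMap_mem (π : M₂ ⟶ M₃) [IsMonHom π] (hepi : Epi (CGrpSh.ptsMap K π)) :
    ∀ n : ℕ, liftSieve (powMap π n) ∈ QuotSh.J K S (MultSch.pow M₃ n)
  | 0 => by
      have h : liftSieve (powMap π 0) = ⊤ := by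
        ext V i
        simp only [Sieve.top_apply, iff_true]
        exact ⟨i, Category.comp_id i⟩
      rw [h]
      exact (QuotSh.J K S).top_mem _
  | n + 1 => by
      obtain ⟨R₁, hR₁, hl⟩ := exists_local_lift π hepi (fst M₃ (MultSch.pow M₃ n))
      refine (QuotSh.J K S).transitive hR₁ _ ?_
      intro V i hi
      obtain ⟨t, ht⟩ := hl i hi
      refine (QuotSh.J K S).superset_covering ?_
        ((QuotSh.J K S).pullback_stable (i ≫ snd M₃ (MultSch.pow M₃ n))
          (liftSieve_powMap_mem π hepi n))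
      rintro W g ⟨s, hs⟩
      show ∃ t' : W ⟶ M₂ ⊗ MultSch.pow M₂ n, t' ≫ (π ⊗ₘ powMap π n) = g ≫ i
      refine ⟨lift (g ≫ t) s, ?_⟩
      rw [lift_map, Category.assoc, ht, hs]
      apply CartesianMonoidalCategory.hom_ext
      · simp only [lift_fst, Category.assoc]
      · simp only [lift_snd, Category.assoc]

/-- simultaneous local lifts of a family of points -/
theorem eq_of_local_lift_family (π : M₂ ⟶ M₃) [IsMonHom π] (hepi : Epi (CGrpSh.ptsMap K π))
    {T N : Over S} {n : ℕ} (x : Fin n → (T ⟶ M₃)) (u v : T ⟶ N)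
    (h : ∀ ⦃V : Over S⦄ (i : V ⟶ T) (c : Fin n → (V ⟶ M₂)), (∀ l, c l ≫ π = i ≫ x l) →
      i ≫ u = i ≫ v) : u = v := by
  refine eq_of_local ((QuotSh.J K S).pullback_stable (MultSch.tuple x)
    (liftSieve_powMap_mem π hepi n)) u v ?_
  intro V i hi
  obtain ⟨s, hs⟩ : ∃ s : V ⟶ MultSch.pow M₂ n, s ≫ powMap π n = i ≫ MultSch.tuple x := hi
  obtain ⟨c, rfl⟩ := tuple_surj s
  refine h i c ?_
  rw [tuple_powMap, comp_tuple] at hs
  exact fun l => congrFun (tuple_inj _ _ hs) l

/-- simultaneous local lifts of a family of points and two further points -/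
theorem eq_of_local_lift_family2 (π : M₂ ⟶ M₃) [IsMonHom π] (hepi : Epi (CGrpSh.ptsMap K π))
    {T N : Over S} {n : ℕ} (x : Fin n → (T ⟶ M₃)) (y z : T ⟶ M₃) (u v : T ⟶ N)
    (h : ∀ ⦃V : Over S⦄ (k : V ⟶ T) (c : Fin n → (V ⟶ M₂)) (ty tz : V ⟶ M₂),
      (∀ l, c l ≫ π = k ≫ x l) → ty ≫ π = k ≫ y → tz ≫ π = k ≫ z → k ≫ u = k ≫ v) : u = v := by
  refine eq_of_local_lift_family π hepi x u v (fun V i c hc => ?_)
  refine eq_of_local_lift π hepi (i ≫ y) _ _ (fun V' i' ty hty => ?_)
  refine eq_of_local_lift π hepi (i' ≫ i ≫ z) _ _ (fun V'' i'' tz htz => ?_)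
  have := h (i'' ≫ i' ≫ i) (fun l => i'' ≫ i' ≫ c l) (i'' ≫ ty) tz
    (fun l => by simp only [Category.assoc, hc l]) (by simp only [Category.assoc, hty])
    (by simp only [Category.assoc, htz])
  simpa only [Category.assoc] using this

end Sieve

section Main

variable {S : Scheme.{u}} {K : Precoverage Scheme.{u}} [(QuotSh.J K S).Subcanonical]
  {R : Type w} [CommRing R] {M₁ M₂ M₃ N : Over S}
  [GrpObj M₁] [IsCommMonObj M₁] [GrpObj M₂] [IsCommMonObj M₂] [GrpObj M₃] [IsCommMonObj M₃]
  [GrpObj N] [IsCommMonObj N]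

theorem main13635 (ρ₂ : MultSch.RMod R M₂) (ρ₃ : MultSch.RMod R M₃) (ρN : MultSch.RMod R N)
    (j : M₁ ⟶ M₂) (π : M₂ ⟶ M₃) [IsMonHom j] [IsMonHom π]
    (hπ : ∀ a : R, π ≫ ρ₃.act a = ρ₂.act a ≫ π)
    (w : j ≫ π = 1) (hex : (CGrpSh.seq K j π w).Exact)
    (hepi : Epi (CGrpSh.ptsMap K π))
    {n : ℕ} (hn : 1 ≤ n) (φ : MultSch.pow M₂ n ⟶ N)
    (hmult : MultSch.IsMultilinear φ) (hlin : MultSch.IsRLinear ρ₂ ρN φ)
    (halt : MultSch.IsAlternating φ)
    (hvan : ∀ (T : Over S) (y : T ⟶ M₁) (x : Fin n → (T ⟶ M₂)), x ⟨0, hn⟩ = y ≫ j →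
      MultSch.tuple x ≫ φ = 1) :
    ∃ φ' : MultSch.pow M₃ n ⟶ N,
      (∀ (T : Over S) (x : Fin n → (T ⟶ M₂)),
        MultSch.tuple x ≫ φ = MultSch.tuple (fun l => x l ≫ π) ≫ φ') ∧
      MultSch.IsMultilinear φ' ∧ MultSch.IsRLinear ρ₃ ρN φ' ∧ MultSch.IsAlternating φ' ∧
      ∀ φ'' : MultSch.pow M₃ n ⟶ N,
        (∀ (T : Over S) (x : Fin n → (T ⟶ M₂)),
          MultSch.tuple x ≫ φ = MultSch.tuple (fun l => x l ≫ π) ≫ φ'') → φ'' = φ' := by
  classical
  have hvanish : ∀ (T : Over S) (x : Fin n → (T ⟶ M₂)) (i₀ : Fin n) (t : T ⟶ M₁),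
      x i₀ = t ≫ j → MultSch.tuple x ≫ φ = 1 := by
    intro T x i₀ t hx
    by_cases h0 : i₀ = ⟨0, hn⟩
    · subst h0
      exact hvan T t x hx
    · have hs := swap_mul (fun x : Fin n → (T ⟶ M₂) => MultSch.tuple x ≫ φ)
        (fun x i y z => hmult T x i y z) (fun x i j hij h => halt T x i j hij h) x ⟨0, hn⟩ i₀
        (Ne.symm h0)
      have h1 : MultSch.tuple (Function.update (Function.update x i₀ (x ⟨0, hn⟩)) ⟨0, hn⟩ (x i₀))
          ≫ φ = 1 :=
        hvan T t _ (by rw [Function.update_self, hx])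
      rw [h1, _root_.one_mul] at hs
      exact hs
  have hchange : ∀ (T : Over S) (x : Fin n → (T ⟶ M₂)) (i₀ : Fin n) (y y' : T ⟶ M₂),
      y ≫ π = y' ≫ π →
      MultSch.tuple (Function.update x i₀ y) ≫ φ = MultSch.tuple (Function.update x i₀ y') ≫ φ := by
    intro T x i₀ y y' hy
    have h1 : (y * y'⁻¹) ≫ π = 1 := by
      rw [MonObj.mul_comp, GrpObj.inv_comp, hy, _root_.mul_inv_cancel]
    obtain ⟨R₁, hR₁, hl⟩ := exists_local_ker_lift j π w hex (y * y'⁻¹) h1
    refine eq_of_local hR₁ _ _ (fun V i hi => ?_)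
    obtain ⟨t, ht⟩ := hl i hi
    have hiy : i ≫ y = (t ≫ j) * (i ≫ y') := by
      rw [ht, MonObj.comp_mul, GrpObj.comp_inv, inv_mul_cancel_right]
    rw [← Category.assoc, ← Category.assoc, comp_tuple_update, comp_tuple_update, hiy,
      hmult, hvanish V _ i₀ t (Function.update_self _ _ _), _root_.one_mul]
  have hconst : ∀ (T : Over S) (a a' : T ⟶ MultSch.pow M₂ n),
      a ≫ powMap π n = a' ≫ powMap π n → a ≫ φ = a' ≫ φ := by
    intro T a a' haa
    obtain ⟨c, rfl⟩ := tuple_surj a
    obtain ⟨c', rfl⟩ := tuple_surj a'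
    rw [tuple_powMap, tuple_powMap] at haa
    have hcc : ∀ l, c l ≫ π = c' l ≫ π := fun l => congrFun (tuple_inj _ _ haa) l
    exact eq_of_coordwise (fun x : Fin n → (T ⟶ M₂) => MultSch.tuple x ≫ φ)
      (fun y y' => y ≫ π = y' ≫ π) (fun x i y y' h => hchange T x i y y' h) c c' hcc
  have hloc : ∃ R₀ ∈ QuotSh.J K S (MultSch.pow M₃ n),
      ∀ ⦃V : Over S⦄ (i : V ⟶ MultSch.pow M₃ n), R₀ i →
        ∃ t : V ⟶ MultSch.pow M₂ n, t ≫ powMap π n = i :=
    ⟨liftSieve (powMap π n), liftSieve_powMap_mem π hepi n, fun V i hi => hi⟩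
  obtain ⟨φ', hφ'⟩ := exists_desc_of_local_lift (K := K) (powMap π n) φ hloc hconst
  have hE : ∀ {V : Over S} (c : Fin n → (V ⟶ M₂)),
      MultSch.tuple (fun l => c l ≫ π) ≫ φ' = MultSch.tuple c ≫ φ := fun c => by
    rw [← tuple_powMap, Category.assoc, hφ']
  have pull0 : ∀ {T V : Over S} (k : V ⟶ T) (x : Fin n → (T ⟶ M₃)) (c : Fin n → (V ⟶ M₂)),
      (∀ l, c l ≫ π = k ≫ x l) → k ≫ MultSch.tuple x ≫ φ' = MultSch.tuple c ≫ φ := by
    intro T V k x c hc
    have hx : (fun l => k ≫ x l) = fun l => c l ≫ π := funext fun l => (hc l).symm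
    have hx' : MultSch.tuple (fun l => k ≫ x l) = MultSch.tuple (fun l => c l ≫ π) :=
      congrArg MultSch.tuple hx
    rw [← Category.assoc, comp_tuple, hx', hE]
  have pull : ∀ {T V : Over S} (k : V ⟶ T) (x : Fin n → (T ⟶ M₃)) (c : Fin n → (V ⟶ M₂)),
      (∀ l, c l ≫ π = k ≫ x l) → ∀ (i₀ : Fin n) (w' : T ⟶ M₃) (tw : V ⟶ M₂), tw ≫ π = k ≫ w' →
      k ≫ MultSch.tuple (Function.update x i₀ w') ≫ φ' =
        MultSch.tuple (Function.update c i₀ tw) ≫ φ := by
    intro T V k x c hc i₀ w' tw htw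
    apply pull0
    intro l
    by_cases hl : l = i₀
    · subst hl
      rw [Function.update_self, Function.update_self, htw]
    · rw [Function.update_of_ne hl, Function.update_of_ne hl, hc l]
  refine ⟨φ', fun T x => (hE x).symm, ?_, ?_, ?_, ?_⟩
  · intro T x i₀ y z
    refine eq_of_local_lift_family2 π hepi x y z _ _ (fun V k c ty tz hc hty htz => ?_)
    have hyz : (ty * tz) ≫ π = k ≫ (y * z) := by
      rw [MonObj.mul_comp, hty, htz, MonObj.comp_mul]
    rw [MonObj.comp_mul, pull k x c hc i₀ (y * z) (ty * tz) hyz, pull k x c hc i₀ y ty hty,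
      pull k x c hc i₀ z tz htz]
    exact hmult V c i₀ ty tz
  · intro T x i₀ a
    refine eq_of_local_lift_family π hepi x _ _ (fun V k c hc => ?_)
    have hw : (c i₀ ≫ ρ₂.act a) ≫ π = k ≫ (x i₀ ≫ ρ₃.act a) := by
      rw [Category.assoc, ← hπ a, ← Category.assoc, hc i₀, Category.assoc]
    have e : k ≫ (MultSch.tuple x ≫ φ') ≫ ρN.act a = (MultSch.tuple c ≫ φ) ≫ ρN.act a := by
      rw [← Category.assoc, pull0 k x c hc]
    rw [pull k x c hc i₀ _ _ hw, e]
    exact hlin V c i₀ a
  · intro T x i₁ i₂ hne hxx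
    refine eq_of_local_lift_family π hepi x _ _ (fun V k c hc => ?_)
    have hc' : ∀ l, Function.update c i₂ (c i₁) l ≫ π = k ≫ x l := by
      intro l
      by_cases hl : l = i₂
      · subst hl
        rw [Function.update_self, hc i₁, hxx]
      · rw [Function.update_of_ne hl, hc l]
    rw [pull0 k x _ hc', MonObj.comp_one]
    exact halt V _ i₁ i₂ hne (by rw [Function.update_of_ne hne, Function.update_self])
  · intro φ'' h
    refine epi_of_local_lift (K := K) (powMap π n) hloc φ'' φ' ?_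
    rw [hφ']
    obtain ⟨c, hc⟩ := tuple_surj (𝟙 (MultSch.pow M₂ n))
    calc powMap π n ≫ φ'' = MultSch.tuple c ≫ powMap π n ≫ φ'' := by
          rw [hc, Category.id_comp]
      _ = MultSch.tuple (fun l => c l ≫ π) ≫ φ'' := by rw [← Category.assoc, tuple_powMap]
      _ = MultSch.tuple c ≫ φ := (h _ c).symm
      _ = φ := by rw [hc, Category.id_comp]

end Main

end Groth.Agent.Lib.Helper8MultAlt
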