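import Groth.Agent.Lib.R2H2PnTwEquiv
import Groth.Agent.Lib.R2H2AmpleRes
import Groth.Agent.Lib.R2H2PnSerre
import Groth.Agent.Lib.R2H3NegTwist

/-!
# `Ext` and cohomology of twists of free modules (helper3, round 2)

Namespace `Groth.Agent.Lib.R2H3.ExtTwist`.

* `subsingleton_HH_of_decomp`, `subsingleton_ext_of_decomp`: vanishing for a module with a finite
  decomposition of the identity through modules with vanishing;
* `exists_decomp_twR_freeMod`: `O^r ⊗ P` decomposes through copies of `O ⊗ P`;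
* `isEquivalence_twR`: `- ⊗ P` is an equivalence when `P` has a tensor inverse;
* `subsingleton_ext_twR`: `Ext^i(A, B ⊗ P) = 0` implies `Ext^i(A ⊗ P', B) = 0` when `P ⊗ P' ≅ O`.
-/

set_option autoImplicit false
set_option linter.style.haveILetI false
set_option linter.unusedSectionVars false
universe u

open CategoryTheory CategoryTheory.Limits AlgebraicGeometry Opposite Abelian

namespace Groth.Agent.Lib.R2H3.ExtTwist

open Groth.Agent.Lib.R2H2.PnSerre Groth.Agent.Lib.Helper23.AmpleIso Groth.Agent.Lib.R2H2.HHLin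
  Groth.Agent.Lib.R2H3.NegTwist

variable {X : Scheme.{u}}

section Decomp

theorem subsingleton_HH_of_decomp {A : X.Modules} {r : ℕ} (B : Fin r → X.Modules)
    (p : ∀ j, A ⟶ B j) (s : ∀ j, B j ⟶ A) (hps : ∑ j, p j ≫ s j = 𝟙 A) (i : ℕ)
    (h : ∀ j, Subsingleton (Coh.HH X (B j) i)) : Subsingleton (Coh.HH X A i) := by
  have h0 : ∀ x : Coh.HH X A i, x = 0 := fun x => by
    have h2 : HmapL (∑ j : Fin r, p j ≫ s j) i x = x := by
      rw [hps, HmapL_id]
    rw [HmapL_sum] at h2
    rw [← h2]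
    refine Finset.sum_eq_zero (fun j _ => ?_)
    rw [HmapL_comp]
    have := h j
    rw [Subsingleton.elim (HmapL (p j) i x) 0, map_zero]
  exact ⟨fun a b => (h0 a).trans (h0 b).symm⟩

theorem subsingleton_ext_of_decomp [HasExt.{u} X.Modules] {A : X.Modules} {r : ℕ}
    (B : Fin r → X.Modules) (p : ∀ j, A ⟶ B j) (s : ∀ j, B j ⟶ A)
    (hps : ∑ j, p j ≫ s j = 𝟙 A) (Y : X.Modules) (i : ℕ)
    (h : ∀ j, Subsingleton (Ext (B j) Y i)) : Subsingleton (Ext A Y i) := by
  have h0 : ∀ x : Ext A Y i, x = 0 := fun x => by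
    let g : (A ⟶ A) →+ Ext A Y i :=
      { toFun := fun φ => (Ext.mk₀ φ).comp x (zero_add i)
        map_zero' := by rw [Ext.mk₀_zero, Ext.zero_comp]
        map_add' := fun φ ψ => by rw [Ext.mk₀_add, Ext.add_comp] }
    have h1 : g (𝟙 A) = x := Ext.mk₀_id_comp x
    rw [← h1, ← hps, map_sum]
    refine Finset.sum_eq_zero (fun j _ => ?_)
    change (Ext.mk₀ (p j ≫ s j)).comp x (zero_add i) = 0
    rw [← Ext.mk₀_comp_mk₀, Ext.comp_assoc_of_second_deg_zero]
    have := h j
    rw [Subsingleton.elim ((Ext.mk₀ (s j)).comp x (zero_add i)) 0, Ext.comp_zero]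
  exact ⟨fun a b => (h0 a).trans (h0 b).symm⟩

/-- `O^r ⊗ P` decomposes through copies of `O ⊗ P` -/
theorem exists_decomp_twR_freeMod (P : X.Modules) (r : ℕ) :
    ∃ (p : Fin r → ((twR P).obj (FlatMod.freeMod X r) ⟶ (twR P).obj (Coh.structureModule X)))
      (s : Fin r → ((twR P).obj (Coh.structureModule X) ⟶ (twR P).obj (FlatMod.freeMod X r))),
      ∑ j, p j ≫ s j = 𝟙 _ := by
  let f : Fin r → X.Modules := fun _ => Coh.structureModule X
  let e : FlatMod.freeMod X r ≅ ⨁ f := (biproduct.isoCoproduct f).symm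
  refine ⟨fun j => (twR P).map (e.hom ≫ biproduct.π f j),
    fun j => (twR P).map (biproduct.ι f j ≫ e.inv), ?_⟩
  have h1 : ∀ j : Fin r, (twR P).map (e.hom ≫ biproduct.π f j) ≫
      (twR P).map (biproduct.ι f j ≫ e.inv) =
      (twR P).map (e.hom ≫ (biproduct.π f j ≫ biproduct.ι f j) ≫ e.inv) := by
    intro j
    rw [← Functor.map_comp]
    simp only [Category.assoc]
  rw [Finset.sum_congr rfl (fun j _ => h1 j), ← CategoryTheory.Functor.map_sum, ← Preadditive.comp_sum,
    ← Preadditive.sum_comp, biproduct.total, Category.id_comp, Iso.hom_inv_id, CategoryTheory.Functor.map_id]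

end Decomp

section Equiv

/-- `- ⊗ P` is an equivalence when `P ⊗ P' ≅ O` -/
theorem isEquivalence_twR (P P' : X.Modules)
    (e : CohB1.tensorMod P P' ≅ Coh.structureModule X) : (twR P).IsEquivalence := by
  haveI := Groth.Agent.Lib.R2H2.PnTwEquiv.isEquivalence_tensor P P' e (braidMod P' P ≪≫ e)
  exact Functor.isEquivalence_of_iso (twIso P)

variable [HasExt.{u} X.Modules]

/-- `Ext^i(A, B ⊗ P) = 0` implies `Ext^i(A ⊗ P', B) = 0` when `P ⊗ P' ≅ O` -/
theorem subsingleton_ext_twR (P P' : X.Modules)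
    (e : CohB1.tensorMod P P' ≅ Coh.structureModule X) (A B : X.Modules) (i : ℕ)
    (h : Subsingleton (Ext A ((twR P).obj B) i)) : Subsingleton (Ext ((twR P').obj A) B i) := by
  haveI := isEquivalence_twR P P' e
  apply Groth.Agent.Lib.R2H2.PnTwEquiv.subsingleton_ext_of_equiv (twR P)
  have α : (twR P).obj ((twR P').obj A) ≅ A :=
    Groth.Agent.Lib.R2H2.AmpleRes.cancelIso A P' P (braidMod P' P ≪≫ e)
  exact Groth.Agent.Lib.R2H2.PnTwEquiv.subsingleton_ext_of_iso α (Iso.refl _) i h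

end Equiv

end Groth.Agent.Lib.R2H3.ExtTwist
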