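import Mathlib
import Groth.Prelude
import Groth.Agent.Lib.R2H1DegComponents
import Groth.Agent.Lib.R2H1CurveEuler
import Groth.Agent.Lib.R2H3ExtTwist
import Groth.Agent.Lib.R2H4InvExists
import Groth.Agent.Lib.R2H3AmpleSV
import Groth.Agent.Lib.R2H2NilFilt
import Groth.Agent.Lib.R2H2PdSheaf
import Groth.Agent.Lib.Helper23QAffSec

/-!
# Nef invertible modules on proper one-dimensional schemes with `H¹(O) = 0` (helper8)

`X` proper over a field `k`, of dimension `≤ 1`, with `H¹(X, O_X) = 0`; `L` an invertible module which
is nef (nonnegative degree on every integral closed curve).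

* `euler_le_tensor`: `χ(F) ≤ χ(L ⊗ F)` for coherent `F` (from the component formula for degrees);
* `subsingleton_HH_one_of_epi`: `H¹` is right exact in dimension `≤ 1`;
* `quot_structure`: a coherent quotient `F` of `O_X` has `H¹(F) = 0`, and `χ(F) > 0` if `F ≠ 0`;
* `euler_pos_of_quot`: a nonzero coherent quotient of `L` has positive Euler characteristic;
* `main_aux`, `main`: every coherent quotient of `L` (in particular `L`) has vanishing `H¹` and is
  globally generated (induction on the Euler characteristic).
-/

set_option autoImplicit false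
set_option linter.style.haveILetI false
set_option linter.unusedSectionVars false
set_option linter.unusedVariables false
universe u

open CategoryTheory CategoryTheory.Limits AlgebraicGeometry TopologicalSpace Opposite

namespace Groth.Agent.Lib.Helper8NefGZ

open Groth.Agent.Lib.R2H1.DegComponents Groth.Agent.Lib.R2H2.HHLin Groth.Agent.Lib.R2H2.PnLinRes
  Groth.Agent.Lib.R2H2.PnSerre

variable (k : Type u) [Field k] (X : Scheme.{u}) [X.Over (Spec (CommRingCat.of k))]
  [IsProper (X ↘ (Spec (CommRingCat.of k)))]

/-- nef: nonnegative degree on every integral closed subscheme of dimension one -/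
def IsNef (L : X.Modules) : Prop :=
  ∀ J : X.IdealSheafData, IsIntegral J.subscheme → topologicalKrullDim J.subscheme = 1 →
    0 ≤ @Curv2.deg k _ J.subscheme ⟨J.subschemeι ≫ (X ↘ (Spec (CommRingCat.of k)))⟩
      ((Scheme.Modules.pullback J.subschemeι).obj L) 1

theorem euler_le_tensor (hdim : topologicalKrullDim X ≤ 1) (L : X.Modules)
    (hL : PicF.IsInvertible L) (hnef : IsNef k X L) (F : X.Modules) (hF : Coh.IsCoh F) :
    Curv2.euler k X F ≤ Curv2.euler k X (CohB1.tensorMod L F) := by
  haveI : IsNoetherian X := Groth.Agent.Lib.R2H1.CurveEuler.isNoetherian_of_proper k X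
  have h := dE_eq_Lam k X hdim 1 L
    (Groth.Agent.Lib.Helper23.SecTw.isFinLocFreeOfRank_one_of_isInvertible L hL) F hF
  have hpos : 0 ≤ Lam k X 1 L F := by
    unfold Lam
    apply finsum_nonneg
    intro Z
    unfold term
    split_ifs with hZ
    · apply mul_nonneg (Int.natCast_nonneg _)
      unfold degC
      exact hnef (cI Z.1 Z.2) (isIntegral_cS Z.1 Z.2) ((dim_cS Z.1 Z.2).trans hZ)
    · exact le_rfl
  unfold dE at h
  push_cast at h
  linarith

include k in
theorem subsingleton_HH_one_of_epi (hdim : topologicalKrullDim X ≤ 1) {A B : X.Modules}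
    (hA : Coh.IsQCoh A) (hB : Coh.IsQCoh B) (p : A ⟶ B) [Epi p]
    (h1 : Subsingleton (Coh.HH X A 1)) : Subsingleton (Coh.HH X B 1) := by
  haveI : IsNoetherian X := Groth.Agent.Lib.R2H1.CurveEuler.isNoetherian_of_proper k X
  haveI : A.IsQuasicoherent := hA
  haveI : B.IsQuasicoherent := hB
  let S : ShortComplex X.Modules := ShortComplex.mk (kernel.ι p) p (kernel.condition p)
  haveI : Mono S.f := by
    change Mono (kernel.ι p)
    infer_instance
  haveI : Epi S.g := by
    change Epi p
    infer_instance
  have hS : S.ShortExact := { exact := ShortComplex.exact_of_f_is_kernel _ (kernelIsKernel p) }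
  have hK : Coh.IsQCoh (kernel p) := Groth.Agent.Lib.Helper23.QCohLocal.isQuasicoherent_kernel p
  have hK2 : Subsingleton (Coh.HH X (kernel p) 2) :=
    Groth.Agent.Lib.R2H1.CurveVanish.subsingleton_HH_of_dim_le_one X
      (X ↘ Spec (CommRingCat.of k)) hdim _ hK 2 le_rfl
  have key : ∀ c : Coh.HH X B 1, c = 0 := by
    intro c
    obtain ⟨y, hy⟩ := exact₃ S hS 1 c (@Subsingleton.elim _ hK2 _ _)
    rw [← hy, @Subsingleton.elim _ h1 y 0, map_zero]
  exact ⟨fun a b => (key a).trans (key b).symm⟩

theorem quot_structure (hdim : topologicalKrullDim X ≤ 1)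
    (h1 : Subsingleton (Coh.HH X (Coh.structureModule X) 1))
    (F : X.Modules) (hF : Coh.IsCoh F) (p : Coh.structureModule X ⟶ F) [Epi p] :
    Subsingleton (Coh.HH X F 1) ∧ (¬ IsZero F → 0 < Curv2.euler k X F) := by
  have hO := Groth.Agent.Lib.R2H1.GenusLe.isCoh_structureModule X
  have hF1 : Subsingleton (Coh.HH X F 1) :=
    subsingleton_HH_one_of_epi k X hdim hO.1 hF.1 p h1
  refine ⟨hF1, fun hFz => ?_⟩
  have e0 := Groth.Agent.Lib.R2H1.CurveEuler.euler_eq_h0_sub_h1 k X hdim F hF.1
  have hp : p ≠ 0 := by
    intro h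
    apply hFz
    rw [IsZero.iff_id_eq_zero]
    apply (cancel_epi p).1
    rw [h, zero_comp, zero_comp]
  have hc : cls p ≠ 0 := fun h => hp (eq_zero_of_cls p h)
  haveI := Groth.Agent.Lib.R2H1.EulerAdd.finite_HH k X F hF 0
  have hpos : 0 < Module.finrank k (Coh.HH X F 0) :=
    Module.finrank_pos_iff_exists_ne_zero.2 ⟨cls p, hc⟩
  have hz : Module.finrank k (Coh.HH X F 1) = 0 := Module.finrank_zero_of_subsingleton
  rw [e0, hz]
  push_cast
  omega


theorem euler_pos_of_quot (hdim : topologicalKrullDim X ≤ 1)
    (h1 : Subsingleton (Coh.HH X (Coh.structureModule X) 1))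
    (L : X.Modules) (hL : PicF.IsInvertible L) (hnef : IsNef k X L)
    (G : X.Modules) (hG : Coh.IsCoh G) (q : L ⟶ G) [Epi q] (hGz : ¬ IsZero G) :
    0 < Curv2.euler k X G := by
  obtain ⟨L', hL', ⟨e⟩⟩ := Groth.Agent.Lib.R2H4InvExists.exists_inverse L hL
  let F : X.Modules := (twR L').obj G
  have hF : Coh.IsCoh F := Groth.Agent.Lib.R2H3.AmpleSV.isCoh_tensorMod_invertible G L' hG hL'
  let S : ShortComplex X.Modules := ShortComplex.mk (kernel.ι q) q (kernel.condition q)
  haveI : Mono S.f := by
    change Mono (kernel.ι q)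
    infer_instance
  haveI : Epi S.g := by
    change Epi q
    infer_instance
  have hS : S.ShortExact := { exact := ShortComplex.exact_of_f_is_kernel _ (kernelIsKernel q) }
  have hS' := shortExact_map_twR L' hL' S hS
  haveI hq' : Epi ((twR L').map q) := hS'.epi_g
  let i₀ : Coh.structureModule X ⟶ (twR L').obj L := e.inv
  haveI : Epi i₀ := by
    change Epi e.inv
    infer_instance
  let p : Coh.structureModule X ⟶ F := i₀ ≫ (twR L').map q
  haveI : Epi p := epi_comp _ _
  let e' : (DCoh.tensorBi.obj L').obj L ≅ Coh.structureModule X :=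
    Groth.Agent.Lib.R2H3.NegTwist.braidMod L' L ≪≫ e
  let α : (twR L).obj (CohB1.tensorMod G L') ≅ G :=
    Groth.Agent.Lib.R2H2.AmpleRes.cancelIso G L' L e'
  have hFz : ¬ IsZero F := fun h => hGz (IsZero.of_iso ((twR L).map_isZero h) α.symm)
  have h2 := (quot_structure k X hdim h1 F hF p).2 hFz
  have h3 := euler_le_tensor k X hdim L hL hnef F hF
  have h4 : Curv2.euler k X (CohB1.tensorMod L F) = Curv2.euler k X G :=
    Groth.Agent.Lib.R2H1.DegCartier.euler_congr k
      (Groth.Agent.Lib.R2H3.NegTwist.braidMod L F ≪≫ α)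
  linarith

theorem zero_case (G : X.Modules) (hGz : IsZero G) :
    Subsingleton (Coh.HH X G 1) ∧ Curv2.IsGloballyGenerated G := by
  constructor
  · have key : ∀ x : Coh.HH X G 1, x = 0 := by
      intro x
      have h := HmapL_id G 1 x
      rw [hGz.eq_of_src (𝟙 G) 0, HmapL_zero] at h
      exact h.symm
    exact ⟨fun a b => (key a).trans (key b).symm⟩
  · exact ⟨PEmpty, 0, ⟨fun a b _ => hGz.eq_of_src a b⟩⟩

theorem main_aux (hdim : topologicalKrullDim X ≤ 1)
    (h1 : Subsingleton (Coh.HH X (Coh.structureModule X) 1))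
    (L : X.Modules) (hL : PicF.IsInvertible L) (hnef : IsNef k X L) :
    ∀ (n : ℕ) (G : X.Modules), Coh.IsCoh G → ∀ (q : L ⟶ G), Epi q → Curv2.euler k X G ≤ n →
      Subsingleton (Coh.HH X G 1) ∧ Curv2.IsGloballyGenerated G := by
  haveI : IsNoetherian X := Groth.Agent.Lib.R2H1.CurveEuler.isNoetherian_of_proper k X
  have hO := Groth.Agent.Lib.R2H1.GenusLe.isCoh_structureModule X
  intro n
  induction n with
  | zero =>
    intro G hG q hq hn
    by_cases hGz : IsZero G
    · exact zero_case X G hGz
    · have := euler_pos_of_quot k X hdim h1 L hL hnef G hG q hGz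
      exfalso
      push_cast at hn
      omega
  | succ m ih =>
    intro G hG q hq hn
    by_cases hGz : IsZero G
    · exact zero_case X G hGz
    · have hpos := euler_pos_of_quot k X hdim h1 L hL hnef G hG q hGz
      have e0 := Groth.Agent.Lib.R2H1.CurveEuler.euler_eq_h0_sub_h1 k X hdim G hG.1
      have hh0 : 0 < Module.finrank k (Coh.HH X G 0) := by
        rw [e0] at hpos
        omega
      haveI := Groth.Agent.Lib.R2H1.EulerAdd.finite_HH k X G hG 0
      obtain ⟨x, hx⟩ := Module.finrank_pos_iff_exists_ne_zero.1 hh0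
      obtain ⟨s, rfl⟩ := cls_surjective G x
      have hs : s ≠ 0 := by
        intro h
        apply hx
        rw [h]
        exact (Groth.Agent.Lib.R2H2.PnBeilinson.clsL (k := k) G).map_zero
      -- the cokernel sequence
      let π : G ⟶ cokernel s := cokernel.π s
      have hG' : Coh.IsCoh (cokernel s) := Groth.Agent.Lib.R2H2.NilFilt.isCoh_cokernel hO hG s
      have hI : Coh.IsCoh (kernel π) := Groth.Agent.Lib.R2H2.PdSheaf.isCoh_kernel hG hG' π
      let S : ShortComplex X.Modules := ShortComplex.mk (kernel.ι π) π (kernel.condition π)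
      haveI : Mono S.f := by
        change Mono (kernel.ι π)
        infer_instance
      haveI : Epi S.g := by
        change Epi (cokernel.π s)
        infer_instance
      have hS : S.ShortExact := { exact := ShortComplex.exact_of_f_is_kernel _ (kernelIsKernel π) }
      let e : Coh.structureModule X ⟶ kernel π := Abelian.factorThruImage s
      haveI : Epi e := by
        change Epi (Abelian.factorThruImage s)
        infer_instance
      have he : e ≫ kernel.ι π = s := Abelian.image.fac s
      have hIz : ¬ IsZero (kernel π) := by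
        intro h
        apply hs
        rw [← he, h.eq_of_tgt e 0, zero_comp]
      obtain ⟨hI1, hIpos⟩ := quot_structure k X hdim h1 (kernel π) hI e
      have hIpos' := hIpos hIz
      have hadd : Curv2.euler k X G = Curv2.euler k X (kernel π) + Curv2.euler k X (cokernel s) :=
        Groth.Agent.Lib.R2H1.EulerAdd.s1524 k X S hS hI hG hG'
      have hn' : Curv2.euler k X (cokernel s) ≤ m := by
        push_cast at hn
        omega
      haveI : Epi (q ≫ π) := epi_comp _ _
      obtain ⟨hG'1, hG'gg⟩ := ih (cokernel s) hG' (q ≫ π) inferInstance hn'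
      constructor
      · have key : ∀ c : Coh.HH X G 1, c = 0 := by
          intro c
          obtain ⟨y, hy⟩ := exact₂ S hS 1 c (@Subsingleton.elim _ hG'1 _ _)
          rw [← hy, @Subsingleton.elim _ hI1 y 0, map_zero]
        exact ⟨fun a b => (key a).trans (key b).symm⟩
      · -- lifting of sections
        have lift : ∀ τ : Coh.structureModule X ⟶ cokernel s,
            ∃ σ : Coh.structureModule X ⟶ G, σ ≫ π = τ := by
          intro τ
          obtain ⟨y, hy⟩ := exact₃ S hS 0 (cls τ) (@Subsingleton.elim _ hI1 _ _)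
          obtain ⟨σ, rfl⟩ := cls_surjective G y
          refine ⟨σ, ?_⟩
          apply Groth.Agent.Lib.R2H2.PnBeilinson.clsL_injective (k := k) (cokernel s)
          change cls (σ ≫ π) = cls τ
          rw [← cls_comp]
          exact hy
        let F0 : X.Modules := SheafOfModules.free (Coh.structureModule X ⟶ G)
        let p : F0 ⟶ G := (SheafOfModules.freeHomEquiv G).symm
          (fun σ : (Coh.structureModule X ⟶ G) => SheafOfModules.unitHomEquiv G σ)
        refine ⟨(Coh.structureModule X ⟶ G), p, ?_⟩
        have hπσ : ∀ σ : Coh.structureModule X ⟶ G, σ ≫ cokernel.π p = 0 := by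
          intro σ
          let ισ : Coh.structureModule X ⟶ F0 := SheafOfModules.ιFree σ
          have h0 : SheafOfModules.freeHomEquiv G p =
              (fun σ : (Coh.structureModule X ⟶ G) => SheafOfModules.unitHomEquiv G σ) :=
            Equiv.apply_symm_apply _ _
          have h1' : ισ ≫ p = σ := by
            have h2 := SheafOfModules.unitHomEquiv_symm_freeHomEquiv_apply p σ
            rw [h0] at h2
            exact h2.symm.trans (Equiv.symm_apply_apply _ _)
          rw [← h1', Category.assoc, cokernel.condition, comp_zero]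
        let φ : cokernel s ⟶ cokernel p := cokernel.desc s (cokernel.π p) (hπσ s)
        have hφ : π ≫ φ = cokernel.π p := cokernel.π_desc _ _ _
        have hφ0 : φ = 0 := by
          apply eq_zero_of_globallyGenerated hG'gg φ
          intro τ
          obtain ⟨σ, hσ⟩ := lift τ
          rw [← hσ, Category.assoc, hφ, hπσ]
        have hρ : cokernel.π p = 0 := by rw [← hφ, hφ0, comp_zero]
        exact Abelian.epi_of_cokernel_π_eq_zero p hρ

/-- **nef invertible modules on a proper scheme of dimension `≤ 1` with `H¹(O) = 0`** have vanishing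
`H¹` and are globally generated -/
theorem main (hdim : topologicalKrullDim X ≤ 1)
    (h1 : Subsingleton (Coh.HH X (Coh.structureModule X) 1))
    (L : X.Modules) (hL : PicF.IsInvertible L) (hnef : IsNef k X L) :
    Subsingleton (Coh.HH X L 1) ∧ Curv2.IsGloballyGenerated L := by
  have hLc := Groth.Agent.Lib.R2H1.CurveDegSec.isCoh_of_isInvertible L hL
  refine main_aux k X hdim h1 L hL hnef (Curv2.euler k X L).toNat L hLc (𝟙 L) inferInstance ?_
  exact Int.self_le_toNat _

end Groth.Agent.Lib.Helper8NefGZ
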