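import Mathlib
import Groth.Prelude.Def_KZero
import Groth.Agent.Lib.Helper5HilbertSerre

/-! R2Lead: Hilbert–Serre with values in the Grothendieck group `K'₀(A)` of finite `A`-modules:
for a finitely generated graded module over a standard graded Noetherian ring, the class of the
`n`-th graded piece is eventually a numerical polynomial in `n`. -/

set_option autoImplicit false
set_option linter.unusedSectionVars false
universe u v

open CategoryTheory

namespace Groth.Agent.Lib.R2Lead.K0Hilbert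

open Groth.Agent.Lib.Helper5.HilbertSerre

section EvPoly

variable {G : Type*} [AddCommGroup G]

/-- forward difference -/
def D (f : ℕ → G) : ℕ → G := fun n => f (n + 1) - f n

/-- eventually polynomial: some iterated difference eventually vanishes. -/
def EvPoly (f : ℕ → G) : Prop := ∃ r N : ℕ, ∀ n, N ≤ n → (D^[r] f) n = 0

theorem D_iter_sub (r : ℕ) (f g : ℕ → G) : D^[r] (f - g) = D^[r] f - D^[r] g := by
  induction r generalizing f g with
  | zero => rfl
  | succ r ih =>
    rw [Function.iterate_succ_apply, Function.iterate_succ_apply, Function.iterate_succ_apply]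
    have h1 : D (f - g) = D f - D g := by
      funext n
      simp only [D, Pi.sub_apply]
      abel
    rw [h1, ih]

theorem D_iter_shift (r : ℕ) (f : ℕ → G) :
    D^[r] (fun n => f (n + 1)) = fun n => (D^[r] f) (n + 1) := by
  induction r generalizing f with
  | zero => rfl
  | succ r ih =>
    rw [Function.iterate_succ_apply, Function.iterate_succ_apply]
    have h1 : D (fun n => f (n + 1)) = fun n => (D f) (n + 1) := rfl
    rw [h1, ih]

theorem D_iter_zero_of_le {g : ℕ → G} {N : ℕ} (h : ∀ n, N ≤ n → g n = 0) (k : ℕ) :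
    ∀ n, N ≤ n → (D^[k] g) n = 0 := by
  induction k generalizing g with
  | zero => exact h
  | succ k ih =>
    rw [Function.iterate_succ_apply]
    apply ih
    intro n hn
    simp only [D]
    rw [h n hn, h (n + 1) (by omega), sub_zero]

theorem D_iter_mono {f : ℕ → G} {r N : ℕ} (h : ∀ n, N ≤ n → (D^[r] f) n = 0) (k N' : ℕ)
    (hN : N ≤ N') : ∀ n, N' ≤ n → (D^[r + k] f) n = 0 := by
  intro n hn
  rw [add_comm, Function.iterate_add_apply]
  exact D_iter_zero_of_le h k n (by omega)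

theorem EvPoly.sub {f g : ℕ → G} (hf : EvPoly f) (hg : EvPoly g) : EvPoly (f - g) := by
  obtain ⟨r, N, h⟩ := hf
  obtain ⟨r', N', h'⟩ := hg
  refine ⟨r + r', max N N', fun n hn => ?_⟩
  rw [D_iter_sub, Pi.sub_apply]
  have e1 := D_iter_mono h r' (max N N') (le_max_left _ _) n hn
  have e2 := D_iter_mono h' r (max N N') (le_max_right _ _) n hn
  rw [add_comm r' r] at e2
  rw [e1, e2, sub_zero]

theorem EvPoly.shift {f : ℕ → G} (hf : EvPoly f) : EvPoly (fun n => f (n + 1)) := by
  obtain ⟨r, N, h⟩ := hf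
  refine ⟨r, N, fun n hn => ?_⟩
  rw [D_iter_shift]
  exact h (n + 1) (by omega)

theorem EvPoly.of_D {f : ℕ → G} (hf : EvPoly (D f)) : EvPoly f := by
  obtain ⟨r, N, h⟩ := hf
  exact ⟨r + 1, N, fun n hn => by rw [Function.iterate_succ_apply]; exact h n hn⟩

theorem EvPoly.of_eventually_zero {f : ℕ → G} (N : ℕ) (h : ∀ n, N ≤ n → f n = 0) : EvPoly f :=
  ⟨0, N, h⟩

theorem exists_binomial_of_D_iter : ∀ (r N : ℕ) (f : ℕ → G),
    (∀ n, N ≤ n → (D^[r] f) n = 0) →
    ∃ a : ℕ → G, ∀ n, N ≤ n → f n = ∑ i ∈ Finset.range r, ((n.choose i : ℕ) : ℤ) • a i := by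
  intro r
  induction r with
  | zero =>
    intro N f h
    exact ⟨fun _ => 0, fun n hn => by simpa using h n hn⟩
  | succ r ih =>
    intro N f h
    have h' : ∀ n, N ≤ n → (D^[r] (D f)) n = 0 := by
      intro n hn
      have h1 := h n hn
      rwa [Function.iterate_succ_apply] at h1
    obtain ⟨b, hb⟩ := ih N (D f) h'
    obtain ⟨c, hc⟩ : ∃ c : G,
        c = f N - ∑ i ∈ Finset.range r, ((N.choose (i + 1) : ℕ) : ℤ) • b i := ⟨_, rfl⟩
    have claim : ∀ n, N ≤ n →
        f n = ∑ i ∈ Finset.range r, ((n.choose (i + 1) : ℕ) : ℤ) • b i + c := by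
      intro n hn
      induction n, hn using Nat.le_induction with
      | base => rw [hc]; abel
      | succ n hn ihn =>
        have hD : f (n + 1) = f n + ∑ i ∈ Finset.range r, ((n.choose i : ℕ) : ℤ) • b i := by
          have h1 := hb n hn
          simp only [D] at h1
          rw [← h1]
          abel
        have hP : ∑ i ∈ Finset.range r, (((n + 1).choose (i + 1) : ℕ) : ℤ) • b i =
            ∑ i ∈ Finset.range r, ((n.choose i : ℕ) : ℤ) • b i +
              ∑ i ∈ Finset.range r, ((n.choose (i + 1) : ℕ) : ℤ) • b i := by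
          rw [← Finset.sum_add_distrib]
          apply Finset.sum_congr rfl
          intro i _
          rw [Nat.choose_succ_succ', Nat.cast_add, add_smul]
        rw [hD, ihn, hP]
        abel
    refine ⟨fun i => if i = 0 then c else b (i - 1), fun n hn => ?_⟩
    have key : ∑ i ∈ Finset.range (r + 1),
        ((n.choose i : ℕ) : ℤ) • (if i = 0 then c else b (i - 1)) =
        ∑ i ∈ Finset.range r, ((n.choose (i + 1) : ℕ) : ℤ) • b i + c := by
      rw [Finset.sum_range_succ', if_pos rfl, Nat.choose_zero_right, Nat.cast_one, one_smul]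
      refine congrArg (· + c) (Finset.sum_congr rfl fun i _ => ?_)
      rw [if_neg (Nat.succ_ne_zero i), Nat.add_sub_cancel]
    exact (claim n hn).trans key.symm

end EvPoly

section K0

variable (A : Type u) [CommRing A]

/-- the class of a module in `K'₀(A)`. -/
noncomputable abbrev cls (M : Type u) [AddCommGroup M] [Module A M] :
    KZero.K0sub (fun X : ModuleCat.{u} A => Module.Finite A X) :=
  KZero.clSub (fun X : ModuleCat.{u} A => Module.Finite A X) (ModuleCat.of A M)

variable {A}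

theorem cls_exact {M₁ M₂ M₃ : Type u} [AddCommGroup M₁] [Module A M₁] [AddCommGroup M₂]
    [Module A M₂] [AddCommGroup M₃] [Module A M₃]
    [Module.Finite A M₁] [Module.Finite A M₂] [Module.Finite A M₃]
    (f : M₁ →ₗ[A] M₂) (g : M₂ →ₗ[A] M₃) (hf : Function.Injective f)
    (hg : Function.Surjective g) (H : Function.Exact f g) :
    cls A M₂ = cls A M₁ + cls A M₃ := by
  have eq0 : g.comp f = 0 := by
    ext y
    exact H.apply_apply_eq_zero y
  have hS : (ModuleCat.shortComplexOfCompEqZero f g eq0).ShortExact :=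
    ModuleCat.shortComplex_shortExact _ H hf hg
  have h1 : (fun X : ModuleCat.{u} A => Module.Finite A X) (ModuleCat.of A M₁) :=
    (inferInstance : Module.Finite A M₁)
  have h2 : (fun X : ModuleCat.{u} A => Module.Finite A X) (ModuleCat.of A M₂) :=
    (inferInstance : Module.Finite A M₂)
  have h3 : (fun X : ModuleCat.{u} A => Module.Finite A X) (ModuleCat.of A M₃) :=
    (inferInstance : Module.Finite A M₃)
  have hmem : (FreeAbelianGroup.of (⟨ModuleCat.of A M₂, h2⟩ :
        Subtype (fun X : ModuleCat.{u} A => Module.Finite A X)) -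
      FreeAbelianGroup.of ⟨ModuleCat.of A M₁, h1⟩ - FreeAbelianGroup.of ⟨ModuleCat.of A M₃, h3⟩) ∈
      KZero.relSub (fun X : ModuleCat.{u} A => Module.Finite A X) :=
    AddSubgroup.subset_closure
      ⟨ModuleCat.shortComplexOfCompEqZero f g eq0, h1, h2, h3, hS, rfl⟩
  have hq := (QuotientAddGroup.eq_zero_iff _).2 hmem
  rw [QuotientAddGroup.mk_sub, QuotientAddGroup.mk_sub, sub_sub, sub_eq_zero] at hq
  unfold cls KZero.clSub
  rw [dif_pos h1, dif_pos h2, dif_pos h3]
  exact hq

theorem cls_eq_zero_of_subsingleton (N : Type u) [AddCommGroup N] [Module A N] [Subsingleton N] :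
    cls A N = 0 := by
  haveI : Finite N := Finite.of_subsingleton
  haveI : Module.Finite A N := Module.Finite.of_finite
  have e := cls_exact (LinearMap.id : N →ₗ[A] N) (0 : N →ₗ[A] N) (fun _ _ h => h)
    (fun y => ⟨0, Subsingleton.elim _ _⟩)
    (fun y => ⟨fun _ => ⟨y, rfl⟩, fun _ => Subsingleton.elim _ _⟩)
  have h1 := congrArg (fun t => t - cls A N) e
  simpa using h1.symm

end K0

section main

variable (A₀ : Type u) [CommRing A₀] (S : Type v) [CommRing S] [Algebra A₀ S] {d : ℕ}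
  (x : Fin d → S)

/-- Hypotheses on a graded module killed by the variables of index `≥ j`. -/
structure GrHypK (M : Type u) [AddCommGroup M] [Module S M] [Module A₀ M]
    (ℳ : ℕ → Submodule A₀ M) (j : ℕ) : Prop where
  smul_mem : ∀ (i : Fin d) (n : ℕ) (v : M), v ∈ ℳ n → x i • v ∈ ℳ (n + 1)
  indep : iSupIndep ℳ
  top : (⨆ n, ℳ n) = ⊤
  kill : ∀ i : Fin d, j ≤ i.val → ∀ v : M, x i • v = 0

variable {A₀ S x}

theorem base (hspan : ∀ s : S, ∃ a : A₀, s - algebraMap A₀ S a ∈ Ideal.span (Set.range x))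
    (M : Type u) [AddCommGroup M] [Module S M] [Module A₀ M] [IsScalarTower A₀ S M]
    [IsNoetherian S M] (ℳ : ℕ → Submodule A₀ M) (h : GrHypK A₀ S x M ℳ 0) :
    (∀ n, Module.Finite A₀ ↥(ℳ n)) ∧ EvPoly (fun n => cls A₀ ↥(ℳ n)) := by
  classical
  have hkill : ∀ s ∈ Ideal.span (Set.range x), ∀ m : M, s • m = 0 := by
    intro s hs m
    induction hs using Submodule.span_induction with
    | mem y hy =>
      obtain ⟨i, rfl⟩ := hy
      exact h.kill i (Nat.zero_le _) m
    | zero => exact zero_smul _ _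
    | add y z _ _ hy hz => rw [add_smul, hy, hz, add_zero]
    | smul r y _ hy => rw [smul_eq_mul, mul_smul, hy, smul_zero]
  have hact : ∀ s : S, ∃ a : A₀, ∀ m : M, s • m = a • m := by
    intro s
    obtain ⟨a, ha⟩ := hspan s
    refine ⟨a, fun m => ?_⟩
    have h1 := hkill _ ha m
    rw [sub_smul, sub_eq_zero, algebraMap_smul] at h1
    exact h1
  have hfin : Module.Finite A₀ M := by
    obtain ⟨F, hF⟩ := (Module.finite_def.1 (inferInstance : Module.Finite S M))
    refine ⟨⟨F, ?_⟩⟩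
    rw [eq_top_iff]
    intro m hm0
    clear hm0
    have hm : m ∈ Submodule.span S (F : Set M) := by rw [hF]; trivial
    induction hm using Submodule.span_induction with
    | mem y hy => exact Submodule.subset_span hy
    | zero => exact Submodule.zero_mem _
    | add y z _ _ hy hz => exact Submodule.add_mem _ hy hz
    | smul s y _ hy =>
      obtain ⟨a, ha⟩ := hact s
      rw [ha]
      exact Submodule.smul_mem _ _ hy
  obtain ⟨π, hπ⟩ := exists_proj ℳ h.indep h.top
  have finM : ∀ n, Module.Finite A₀ ↥(ℳ n) := by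
    intro n
    exact Module.Finite.of_surjective (LinearMap.codRestrict (ℳ n) (π n) (hπ.mem n))
      (fun ⟨v, hv⟩ => ⟨v, Subtype.ext (hπ.same n v hv)⟩)
  refine ⟨finM, ?_⟩
  obtain ⟨F, hF⟩ := (Module.finite_def.1 hfin)
  choose sF hsF using hπ.sum
  obtain ⟨b, hb⟩ : ∃ b : ℕ, ∀ g ∈ F, ∀ n ∈ sF g, n ≤ b := by
    refine ⟨(F.biUnion sF).sup id, fun g hg n hn => ?_⟩
    exact Finset.le_sup (f := id) (Finset.mem_biUnion.mpr ⟨g, hg, hn⟩)
  have hzero : ∀ n, b < n → ∀ v : M, π n v = 0 := by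
    intro n hn v
    have hv : v ∈ Submodule.span A₀ (F : Set M) := by rw [hF]; trivial
    induction hv using Submodule.span_induction with
    | mem g hg =>
      rw [hsF g, map_sum]
      apply Finset.sum_eq_zero
      intro m hm
      refine hπ.ne n m _ (hπ.mem m g) ?_
      have := hb g hg m hm
      omega
    | zero => exact map_zero _
    | add y z _ _ hy hz => rw [map_add, hy, hz, add_zero]
    | smul a y _ hy => rw [map_smul, hy, smul_zero]
  refine EvPoly.of_eventually_zero (b + 1) (fun n hn => ?_)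
  haveI : Subsingleton ↥(ℳ n) := ⟨fun a b => Subtype.ext (by
    have ha := hπ.same n a.1 a.2
    have hb' := hπ.same n b.1 b.2
    rw [hzero n (by omega)] at ha hb'
    rw [← ha, ← hb'])⟩
  exact cls_eq_zero_of_subsingleton _

section step

variable {M : Type u} [AddCommGroup M] [Module S M] [Module A₀ M] [IsScalarTower A₀ S M]
  {ℳ : ℕ → Submodule A₀ M} {j : ℕ} (h : GrHypK A₀ S x M ℳ (j + 1))
  {π : ℕ → M →ₗ[A₀] M} (hπ : IsProj ℳ π)
  (i₀ : Fin d) (hi₀ : i₀.val = j) (φ : M →ₗ[S] M) (hφ : ∀ v, φ v = x i₀ • v)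

include h hφ in
theorem phi_mem' (n : ℕ) (v : M) (hv : v ∈ ℳ n) : (φ.restrictScalars A₀) v ∈ ℳ (n + 1) := by
  change φ v ∈ ℳ (n + 1)
  rw [hφ]
  exact h.smul_mem i₀ n v hv

include h hπ hφ in
theorem proj_mem_range' (u : M) (hu : u ∈ LinearMap.range φ) (n : ℕ) :
    π n u ∈ LinearMap.range φ := by
  obtain ⟨t, rfl⟩ := hu
  have := proj_map_succ hπ (φ.restrictScalars A₀) (phi_mem' h i₀ φ hφ) t
  cases n with
  | zero =>
    rw [show π 0 (φ t) = 0 from this.2]
    exact Submodule.zero_mem _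
  | succ n =>
    rw [show π (n + 1) (φ t) = φ (π n t) from this.1 n]
    exact ⟨_, rfl⟩

include h hπ hi₀ hφ in
theorem grHypK_ker :
    GrHypK A₀ S x ↥(LinearMap.ker φ)
      (fun n => (ℳ n).comap ((LinearMap.ker φ).subtype.restrictScalars A₀)) j where
  smul_mem := by
    intro i n v hv
    exact h.smul_mem i n _ hv
  indep := by
    rw [iSupIndep_def]
    intro n
    rw [Submodule.disjoint_def]
    intro v hv1 hv2
    have h1 : (v : M) ∈ ℳ n := hv1
    have h2 : (v : M) ∈ ⨆ (m : ℕ) (_ : m ≠ n), ℳ m := by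
      have hm := Submodule.mem_map_of_mem
        (f := (LinearMap.ker φ).subtype.restrictScalars A₀) hv2
      simp_rw [Submodule.map_iSup] at hm
      exact (iSup₂_mono fun m _ => Submodule.map_comap_le _ _) hm
    have := Submodule.disjoint_def.1 ((iSupIndep_def.1 h.indep) n) (v : M) h1 h2
    exact Subtype.ext this
  top := by
    rw [eq_top_iff]
    intro v _
    obtain ⟨s, hs⟩ := hπ.sum (v : M)
    have hker : ∀ n, π n (v : M) ∈ LinearMap.ker φ := by
      intro n
      rw [LinearMap.mem_ker]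
      have := (proj_map_succ hπ (φ.restrictScalars A₀) (phi_mem' h i₀ φ hφ) (v : M)).1 n
      have h0 : (φ.restrictScalars A₀) (v : M) = 0 := LinearMap.mem_ker.1 v.2
      rw [h0, map_zero] at this
      exact this.symm
    have hv : v = ∑ n ∈ s, (⟨π n (v : M), hker n⟩ : LinearMap.ker φ) := by
      apply Subtype.ext
      rw [Submodule.coe_sum]
      exact hs
    have hmem : (∑ n ∈ s, (⟨π n (v : M), hker n⟩ : LinearMap.ker φ)) ∈
        ⨆ n, (ℳ n).comap ((LinearMap.ker φ).subtype.restrictScalars A₀) := by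
      refine Submodule.sum_mem _ (fun n _ => ?_)
      refine Submodule.mem_iSup_of_mem n ?_
      exact hπ.mem n _
    rwa [← hv] at hmem
  kill := by
    intro i hji v
    apply Subtype.ext
    change x i • (v : M) = 0
    by_cases hi : i = i₀
    · rw [hi, ← hφ]
      exact LinearMap.mem_ker.1 v.2
    · have hne : i.val ≠ j := fun h' => hi (Fin.ext (h'.trans hi₀.symm))
      exact h.kill i (by omega) _

include h hπ hi₀ hφ in
theorem grHypK_coker :
    GrHypK A₀ S x (M ⧸ LinearMap.range φ)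
      (fun n => (ℳ n).map ((LinearMap.range φ).mkQ.restrictScalars A₀)) j where
  smul_mem := by
    intro i n y hy
    obtain ⟨v, hv, rfl⟩ := hy
    exact ⟨x i • v, h.smul_mem i n v hv, rfl⟩
  indep := by
    rw [iSupIndep_def]
    intro n
    rw [Submodule.disjoint_def]
    intro y hy1 hy2
    obtain ⟨v, hv, rfl⟩ := hy1
    have hy2' : ((LinearMap.range φ).mkQ.restrictScalars A₀) v ∈
        (⨆ (m : ℕ) (_ : m ≠ n), ℳ m).map ((LinearMap.range φ).mkQ.restrictScalars A₀) := by
      simp_rw [Submodule.map_iSup]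
      exact hy2
    obtain ⟨w, hw, hwv⟩ := hy2'
    have hπw : π n w = 0 := by
      have hle : (⨆ (m : ℕ) (_ : m ≠ n), ℳ m) ≤ LinearMap.ker (π n) :=
        iSup₂_le fun m hm u hu => LinearMap.mem_ker.2 (hπ.ne n m u hu hm)
      exact LinearMap.mem_ker.1 (hle hw)
    have hsub : v - w ∈ LinearMap.range φ := by
      rw [← Submodule.Quotient.eq]
      exact hwv.symm
    have h3 : π n (v - w) ∈ LinearMap.range φ := proj_mem_range' h hπ i₀ φ hφ _ hsub n
    rw [map_sub, hπw, sub_zero, hπ.same n v hv] at h3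
    exact (Submodule.Quotient.mk_eq_zero _).2 h3
  top := by
    rw [eq_top_iff]
    intro y hy0
    clear hy0
    obtain ⟨v, rfl⟩ := Submodule.mkQ_surjective _ y
    have hv : v ∈ ⨆ n, ℳ n := by rw [h.top]; trivial
    have := Submodule.mem_map_of_mem (f := (LinearMap.range φ).mkQ.restrictScalars A₀) hv
    rw [Submodule.map_iSup] at this
    exact this
  kill := by
    intro i hji y
    obtain ⟨v, rfl⟩ := Submodule.mkQ_surjective _ y
    by_cases hi : i = i₀
    · rw [← map_smul, hi, ← hφ]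
      exact (Submodule.Quotient.mk_eq_zero _).2 ⟨v, rfl⟩
    · have hne : i.val ≠ j := fun h' => hi (Fin.ext (h'.trans hi₀.symm))
      rw [← map_smul, h.kill i (by omega) v, map_zero]

include h hπ hφ in
theorem step_core
    (finK : ∀ n, Module.Finite A₀
      ↥((ℳ n).comap ((LinearMap.ker φ).subtype.restrictScalars A₀)))
    (finC : ∀ n, Module.Finite A₀
      ↥((ℳ n).map ((LinearMap.range φ).mkQ.restrictScalars A₀))) :
    (∀ n, Module.Finite A₀ ↥(ℳ n)) ∧
    ∀ n, cls A₀ ↥(ℳ (n + 1)) +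
        cls A₀ ↥((ℳ n).comap ((LinearMap.ker φ).subtype.restrictScalars A₀)) =
      cls A₀ ↥(ℳ n) +
        cls A₀ ↥((ℳ (n + 1)).map ((LinearMap.range φ).mkQ.restrictScalars A₀)) := by
  have hφ' := phi_mem' h i₀ φ hφ
  obtain ⟨ψ, hψ⟩ : ∃ ψ : ∀ n, ↥(ℳ n) →ₗ[A₀] ↥(ℳ (n + 1)),
      ∀ n (v : ↥(ℳ n)), ((ψ n v : ↥(ℳ (n + 1))) : M) = φ (v : M) :=
    ⟨fun n => (φ.restrictScalars A₀).restrict (hφ' n), fun n v => rfl⟩
  obtain ⟨γ, hγ⟩ : ∃ γ : ∀ n, ↥(ℳ n) →ₗ[A₀]
      ↥((ℳ n).map ((LinearMap.range φ).mkQ.restrictScalars A₀)),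
      ∀ n (v : ↥(ℳ n)), ((γ n v : ↥((ℳ n).map ((LinearMap.range φ).mkQ.restrictScalars A₀))) :
        M ⧸ LinearMap.range φ) = (LinearMap.range φ).mkQ (v : M) :=
    ⟨fun n => ((LinearMap.range φ).mkQ.restrictScalars A₀).restrict
      (fun v hv => Submodule.mem_map_of_mem hv), fun n v => rfl⟩
  have hγsurj : ∀ n, Function.Surjective (γ n) := by
    intro n
    rintro ⟨y, v, hv, rfl⟩
    exact ⟨⟨v, hv⟩, Subtype.ext (hγ n _)⟩
  obtain ⟨α, hα⟩ : ∃ α : ∀ n, ↥((ℳ n).comap ((LinearMap.ker φ).subtype.restrictScalars A₀)) →ₗ[A₀]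
      ↥(ℳ n), ∀ n v, ((α n v : ↥(ℳ n)) : M) = ((v : LinearMap.ker φ) : M) :=
    ⟨fun n => LinearMap.codRestrict (ℳ n) (((LinearMap.ker φ).subtype.restrictScalars A₀) ∘ₗ
      ((ℳ n).comap ((LinearMap.ker φ).subtype.restrictScalars A₀)).subtype) (fun v => v.2),
      fun n v => rfl⟩
  have hαinj : ∀ n, Function.Injective (α n) := by
    intro n a b hab
    have : ((a : LinearMap.ker φ) : M) = ((b : LinearMap.ker φ) : M) := by
      rw [← hα n a, ← hα n b, hab]
    exact Subtype.ext (Subtype.ext this)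
  have hex1 : ∀ n, Function.Exact (α n) (ψ n).rangeRestrict := by
    intro n y
    constructor
    · intro hy
      have h1 : φ (y : M) = 0 := by
        rw [← hψ n y]
        have h2 : (ψ n y) = 0 := by
          have := congrArg Subtype.val hy
          exact this
        rw [h2]
        rfl
      refine ⟨⟨⟨(y : M), LinearMap.mem_ker.2 h1⟩, y.2⟩, Subtype.ext ?_⟩
      rw [hα]
    · rintro ⟨v, rfl⟩
      apply Subtype.ext
      apply Subtype.ext
      change ((ψ n (α n v) : ↥(ℳ (n + 1))) : M) = 0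
      rw [hψ, hα]
      exact LinearMap.mem_ker.1 (v : LinearMap.ker φ).2
  have hex2 : ∀ n, Function.Exact (LinearMap.range (ψ n)).subtype (γ (n + 1)) := by
    intro n y
    constructor
    · intro hy
      have h1 : (y : M) ∈ LinearMap.range φ := by
        have := congrArg Subtype.val hy
        rw [hγ] at this
        exact (Submodule.Quotient.mk_eq_zero _).1 this
      obtain ⟨t, ht⟩ := h1
      have h2 := (proj_map_succ hπ (φ.restrictScalars A₀) hφ' t).1 n
      have h3 : (y : M) = φ (π n t) := by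
        rw [← hπ.same (n + 1) (y : M) y.2, ← ht]
        exact h2
      refine ⟨⟨ψ n ⟨π n t, hπ.mem n t⟩, ⟨_, rfl⟩⟩, Subtype.ext ?_⟩
      change ((ψ n ⟨π n t, hπ.mem n t⟩ : ↥(ℳ (n + 1))) : M) = (y : M)
      rw [hψ, h3]
    · rintro ⟨⟨_, ⟨t, rfl⟩⟩, rfl⟩
      apply Subtype.ext
      rw [hγ]
      change (LinearMap.range φ).mkQ ((ψ n t : ↥(ℳ (n + 1))) : M) = 0
      rw [hψ]
      exact (Submodule.Quotient.mk_eq_zero _).2 ⟨(t : M), rfl⟩
  have hinj0 : Function.Injective (γ 0) := by
    rw [injective_iff_map_eq_zero]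
    intro y hy
    have h1 : (y : M) ∈ LinearMap.range φ := by
      have := congrArg Subtype.val hy
      rw [hγ] at this
      exact (Submodule.Quotient.mk_eq_zero _).1 this
    obtain ⟨t, ht⟩ := h1
    have h2 := (proj_map_succ hπ (φ.restrictScalars A₀) hφ' t).2
    apply Subtype.ext
    rw [← hπ.same 0 (y : M) y.2, ← ht]
    exact h2
  have finM : ∀ n, Module.Finite A₀ ↥(ℳ n) := by
    intro n
    induction n with
    | zero =>
      haveI := finC 0
      exact Module.Finite.equiv (LinearEquiv.ofBijective (γ 0) ⟨hinj0, hγsurj 0⟩).symm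
    | succ n ih =>
      haveI := ih
      haveI := finC (n + 1)
      exact Module.Finite.of_exact (hex2 n) (hγsurj (n + 1))
  refine ⟨finM, fun n => ?_⟩
  haveI := finM n
  haveI := finM (n + 1)
  haveI := finK n
  haveI := finC (n + 1)
  have e1 := cls_exact (α n) (ψ n).rangeRestrict (hαinj n)
    (LinearMap.surjective_rangeRestrict _) (hex1 n)
  have e2 := cls_exact (LinearMap.range (ψ n)).subtype (γ (n + 1))
    (Submodule.injective_subtype _) (hγsurj (n + 1)) (hex2 n)
  rw [e1, e2]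
  abel

end step

theorem step (j : ℕ) (hj : j < d)
    (IH : ∀ (M : Type u) [AddCommGroup M] [Module S M] [Module A₀ M] [IsScalarTower A₀ S M]
      [IsNoetherian S M] (ℳ : ℕ → Submodule A₀ M), GrHypK A₀ S x M ℳ j →
      (∀ n, Module.Finite A₀ ↥(ℳ n)) ∧ EvPoly (fun n => cls A₀ ↥(ℳ n)))
    (M : Type u) [AddCommGroup M] [Module S M] [Module A₀ M] [IsScalarTower A₀ S M]
    [IsNoetherian S M] (ℳ : ℕ → Submodule A₀ M) (h : GrHypK A₀ S x M ℳ (j + 1)) :
    (∀ n, Module.Finite A₀ ↥(ℳ n)) ∧ EvPoly (fun n => cls A₀ ↥(ℳ n)) := by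
  obtain ⟨π, hπ⟩ := exists_proj ℳ h.indep h.top
  obtain ⟨φ, hφ⟩ : ∃ φ : M →ₗ[S] M, ∀ v, φ v = x ⟨j, hj⟩ • v :=
    ⟨LinearMap.lsmul S M (x ⟨j, hj⟩), fun v => rfl⟩
  have hK := grHypK_ker h hπ ⟨j, hj⟩ rfl φ hφ
  have hC := grHypK_coker h hπ ⟨j, hj⟩ rfl φ hφ
  obtain ⟨finK, polyK⟩ := IH ↥(LinearMap.ker φ) _ hK
  obtain ⟨finC, polyC⟩ := IH (M ⧸ LinearMap.range φ) _ hC
  obtain ⟨finM, hrel⟩ := step_core h hπ ⟨j, hj⟩ φ hφ finK finC
  refine ⟨finM, EvPoly.of_D ?_⟩
  have hD : D (fun n => cls A₀ ↥(ℳ n)) =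
      (fun n => cls A₀ ↥((ℳ (n + 1)).map ((LinearMap.range φ).mkQ.restrictScalars A₀))) -
      (fun n => cls A₀ ↥((ℳ n).comap ((LinearMap.ker φ).subtype.restrictScalars A₀))) := by
    funext n
    simp only [D, Pi.sub_apply]
    rw [sub_eq_sub_iff_add_eq_add, hrel n, add_comm]
  rw [hD]
  exact polyC.shift.sub polyK

/-- **Hilbert–Serre in `K'₀`**. -/
theorem main (hspan : ∀ s : S, ∃ a : A₀, s - algebraMap A₀ S a ∈ Ideal.span (Set.range x)) :
    ∀ j, j ≤ d → ∀ (M : Type u) [AddCommGroup M] [Module S M] [Module A₀ M]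
      [IsScalarTower A₀ S M] [IsNoetherian S M] (ℳ : ℕ → Submodule A₀ M),
      GrHypK A₀ S x M ℳ j →
      (∀ n, Module.Finite A₀ ↥(ℳ n)) ∧ EvPoly (fun n => cls A₀ ↥(ℳ n)) := by
  intro j
  induction j with
  | zero =>
    intro _ M _ _ _ _ _ ℳ h
    exact base hspan M ℳ h
  | succ j ih =>
    intro hj M _ _ _ _ _ ℳ h
    exact step j (by omega) (fun M' _ _ _ _ _ ℳ' h' => ih (by omega) M' ℳ' h') M ℳ h

end main

section final

theorem hilbert_K0 {A S : Type u} [CommRing A] [CommRing S] [Algebra A S] [IsNoetherianRing S]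
    (𝒜 : ℕ → Submodule A S) [GradedAlgebra 𝒜]
    (h0 : ∀ s ∈ 𝒜 0, s ∈ Set.range (algebraMap A S))
    (h1 : (HomogeneousIdeal.irrelevant 𝒜).toIdeal = Ideal.span (𝒜 1 : Set S))
    (M : Type u) [AddCommGroup M] [Module A M] [Module S M] [IsScalarTower A S M]
    [Module.Finite S M] (ℳ : ℕ → Submodule A M) [DirectSum.Decomposition ℳ]
    [SetLike.GradedSMul 𝒜 ℳ] :
    ∃ (r : ℕ) (a : Fin r → KZero.K0sub (fun X : ModuleCat.{u} A => Module.Finite A X)) (N : ℕ),
      ∀ n : ℕ, N ≤ n →
      KZero.clSub (fun X : ModuleCat.{u} A => Module.Finite A X) (ModuleCat.of A ↥(ℳ n)) =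
        ∑ i : Fin r, ((n.choose (i : ℕ) : ℕ) : ℤ) • a i := by
  classical
  have hfg : (Submodule.span S (𝒜 1 : Set S)).FG :=
    (isNoetherianRing_iff_ideal_fg S).mp inferInstance (Ideal.span (𝒜 1 : Set S))
  obtain ⟨T, hT1, hT2⟩ := (Submodule.fg_span_iff_fg_span_finset_subset (𝒜 1 : Set S)).mp hfg
  obtain ⟨x, hx⟩ : ∃ x : Fin T.card → S, Set.range x = (T : Set S) := by
    refine ⟨fun i => ((T.equivFin.symm i : T) : S), ?_⟩
    ext s
    constructor
    · rintro ⟨i, rfl⟩
      exact (T.equivFin.symm i).2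
    · intro hs
      exact ⟨T.equivFin ⟨s, hs⟩, by simp⟩
  have hx1 : ∀ i, x i ∈ 𝒜 1 := fun i => hT1 (by rw [← hx]; exact Set.mem_range_self i)
  have hspan : ∀ s : S, ∃ a : A, s - algebraMap A S a ∈ Ideal.span (Set.range x) := by
    intro s
    obtain ⟨a, ha⟩ := h0 _ (SetLike.coe_mem (DirectSum.decompose 𝒜 s 0))
    refine ⟨a, ?_⟩
    have hmem : s - algebraMap A S a ∈ (HomogeneousIdeal.irrelevant 𝒜).toIdeal := by
      refine (HomogeneousIdeal.mem_irrelevant_iff 𝒜 _).mpr ?_
      rw [map_sub, sub_eq_zero, GradedRing.proj_apply, GradedRing.proj_apply, ha]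
      exact (DirectSum.decompose_of_mem_same 𝒜 (SetLike.coe_mem _)).symm
    rw [h1] at hmem
    rw [hx]
    have h2 : Ideal.span (𝒜 1 : Set S) = Ideal.span (T : Set S) := hT2
    rw [h2] at hmem
    exact hmem
  have hint := DirectSum.Decomposition.isInternal ℳ
  have hh : GrHypK A S x M ℳ T.card :=
    { smul_mem := fun i n v hv => by
        have := SetLike.GradedSMul.smul_mem (hx1 i) hv
        rwa [vadd_eq_add, add_comm] at this
      indep := hint.submodule_iSupIndep
      top := hint.submodule_iSup_eq_top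
      kill := fun i hi => absurd i.2 (by omega) }
  haveI : IsNoetherian S M := isNoetherian_of_isNoetherianRing_of_finite S M
  obtain ⟨-, hpoly⟩ := main hspan T.card le_rfl M ℳ hh
  obtain ⟨r, N, hrN⟩ := hpoly
  obtain ⟨a, ha⟩ := exists_binomial_of_D_iter r N _ hrN
  refine ⟨r, fun i => a i, N, fun n hn => ?_⟩
  rw [Fin.sum_univ_eq_sum_range (fun i => ((n.choose i : ℕ) : ℤ) • a i) r]
  exact ha n hn

end final

end Groth.Agent.Lib.R2Lead.K0Hilbert
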