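import Mathlib
import Groth.Prelude.Def_KZero
import Groth.Agent.Lib.R2LeadK0Hilbert

/-!
# `K'₀` of a nodal ring (helper8)

ns `Groth.Agent.Lib.Helper8NodeK0`.

* `cls_congr`: isomorphic finite modules have the same class in `K'₀(A)`.
* `exists_hom_of_additive`: an additive integer valued function on finite modules induces a
  homomorphism `K'₀(A) →+ ℤ`.
* `locLen p M`: the length of `A_p ⊗ M` over `A_p`; `exists_rank_hom`: when `A_p` is a field this is
  a homomorphism `K'₀(A) →+ ℤ`.
* `cls_quot_prime`: if `A/(x)` is a PID (given as a surjection `φ : A → B` with kernel `(x)`), then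
  for a prime `q ∋ x` the class of `A/q` is `[A/(x)]` or `0`.
* `node_bijective`: for a Noetherian ring `A` with `x * y = 0`, `A/(x)` and `A/(y)` principal ideal
  domains, `y ∉ (x)`, `x ∉ (y)`, the classes `[A/(x)]`, `[A/(y)]` are a basis of `K'₀(A)`.
-/

set_option autoImplicit false
universe u

open CategoryTheory TensorProduct

namespace Groth.Agent.Lib.Helper8NodeK0

open Groth.Agent.Lib.R2Lead.K0Hilbert

section general

variable {A : Type u} [CommRing A]

theorem cls_congr {M N : Type u} [AddCommGroup M] [Module A M] [AddCommGroup N] [Module A N]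
    [Module.Finite A M] [Module.Finite A N] (e : M ≃ₗ[A] N) : cls A N = cls A M := by
  have h := cls_exact (e.toLinearMap) (0 : N →ₗ[A] PUnit.{u + 1}) e.injective
    (fun y => ⟨0, Subsingleton.elim _ _⟩)
    (fun y => ⟨fun _ => e.surjective y, fun _ => Subsingleton.elim _ _⟩)
  rw [h, cls_eq_zero_of_subsingleton PUnit, add_zero]

theorem exists_hom_of_additive (r : ModuleCat.{u} A → ℤ)
    (hr : ∀ S : ShortComplex (ModuleCat.{u} A), S.ShortExact → Module.Finite A S.X₁ →
      Module.Finite A S.X₂ → Module.Finite A S.X₃ → r S.X₂ = r S.X₁ + r S.X₃) :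
    ∃ ρ : KZero.K0sub (fun X : ModuleCat.{u} A => Module.Finite A X) →+ ℤ,
      ∀ (M : Type u) [AddCommGroup M] [Module A M] [Module.Finite A M],
        ρ (cls A M) = r (ModuleCat.of A M) := by
  let φ : FreeAbelianGroup (Subtype (fun X : ModuleCat.{u} A => Module.Finite A X)) →+ ℤ :=
    FreeAbelianGroup.lift (fun X => r X.1)
  have hφ : KZero.relSub (fun X : ModuleCat.{u} A => Module.Finite A X) ≤ φ.ker := by
    unfold KZero.relSub
    rw [AddSubgroup.closure_le]
    rintro _ ⟨S, h₁, h₂, h₃, hS, rfl⟩
    rw [SetLike.mem_coe, AddMonoidHom.mem_ker, map_sub, map_sub]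
    simp only [φ, FreeAbelianGroup.lift_apply_of]
    rw [hr S hS h₁ h₂ h₃]
    ring
  refine ⟨QuotientAddGroup.lift _ φ hφ, ?_⟩
  intro M _ _ hM
  have hP : (fun X : ModuleCat.{u} A => Module.Finite A X) (ModuleCat.of A M) := hM
  unfold cls KZero.clSub
  rw [dif_pos hP, QuotientAddGroup.lift_mk]
  simp only [φ, FreeAbelianGroup.lift_apply_of]

section rank

variable (p : Ideal A) [p.IsPrime]

/-- the length of the localisation of `M` at `p`. -/
noncomputable def locLen (M : Type u) [AddCommGroup M] [Module A M] : ℕ∞ :=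
  Module.length (Localization.AtPrime p) (Localization.AtPrime p ⊗[A] M)

theorem locLen_exact {M₁ M₂ M₃ : Type u} [AddCommGroup M₁] [Module A M₁] [AddCommGroup M₂]
    [Module A M₂] [AddCommGroup M₃] [Module A M₃] (f : M₁ →ₗ[A] M₂) (g : M₂ →ₗ[A] M₃)
    (hf : Function.Injective f) (hg : Function.Surjective g) (H : Function.Exact f g) :
    locLen p M₂ = locLen p M₁ + locLen p M₃ := by
  unfold locLen
  refine Module.length_eq_add_of_exact (f.baseChange (Localization.AtPrime p))
    (g.baseChange (Localization.AtPrime p)) ?_ ?_ ?_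
  · change Function.Injective (f.lTensor (Localization.AtPrime p))
    exact Module.Flat.lTensor_preserves_injective_linearMap f hf
  · change Function.Surjective (g.lTensor (Localization.AtPrime p))
    exact LinearMap.lTensor_surjective _ hg
  · change Function.Exact (f.lTensor (Localization.AtPrime p))
      (g.lTensor (Localization.AtPrime p))
    exact Module.Flat.lTensor_exact _ H

theorem locLen_eq_zero_of_smul {M : Type u} [AddCommGroup M] [Module A M] (s : A) (hs : s ∉ p)
    (h : ∀ m : M, s • m = 0) : locLen p M = 0 := by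
  unfold locLen
  rw [Module.length_eq_zero_iff]
  have hu : IsUnit (algebraMap A (Localization.AtPrime p) s) :=
    IsLocalization.map_units (Localization.AtPrime p) (⟨s, hs⟩ : p.primeCompl)
  obtain ⟨u, hu'⟩ := hu
  have key : ∀ z : Localization.AtPrime p ⊗[A] M, z = 0 := by
    intro z
    induction z using TensorProduct.induction_on with
    | zero => rfl
    | tmul l m =>
      have hl : l = s • ((↑u⁻¹ : Localization.AtPrime p) * l) := by
        rw [Algebra.smul_def, ← hu', ← mul_assoc, Units.mul_inv, one_mul]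
      rw [hl, TensorProduct.smul_tmul, h, TensorProduct.tmul_zero]
    | add a b ha hb => rw [ha, hb, add_zero]
  exact ⟨fun a b => by rw [key a, key b]⟩

theorem length_self_eq_one (hmax : IsLocalRing.maximalIdeal (Localization.AtPrime p) = ⊥) :
    Module.length (Localization.AtPrime p) (Localization.AtPrime p) = 1 := by
  rw [Module.length_eq_one_iff, isSimpleModule_self_iff_isUnit]
  refine ⟨inferInstance, fun x hx => ?_⟩
  rw [← IsLocalRing.notMem_maximalIdeal, hmax, Ideal.mem_bot]
  exact hx

theorem locLen_self (hmax : IsLocalRing.maximalIdeal (Localization.AtPrime p) = ⊥) :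
    locLen p A = 1 := by
  unfold locLen
  rw [(TensorProduct.AlgebraTensorModule.rid A (Localization.AtPrime p)
    (Localization.AtPrime p)).length_eq]
  exact length_self_eq_one p hmax

theorem locLen_ne_top (hmax : IsLocalRing.maximalIdeal (Localization.AtPrime p) = ⊥)
    (M : Type u) [AddCommGroup M] [Module A M] [Module.Finite A M] : locLen p M ≠ ⊤ := by
  unfold locLen
  obtain ⟨n, f, hf⟩ := Module.Finite.exists_fin' (Localization.AtPrime p)
    (Localization.AtPrime p ⊗[A] M)
  have h1 := Module.length_le_of_surjective f hf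
  rw [Module.length_pi_of_fintype] at h1
  simp only [length_self_eq_one p hmax, Finset.sum_const, Finset.card_univ, Fintype.card_fin,
    nsmul_eq_mul, mul_one] at h1
  exact ne_top_of_le_ne_top (ENat.natCast_ne_top n) h1

theorem exists_rank_hom (hmax : IsLocalRing.maximalIdeal (Localization.AtPrime p) = ⊥) :
    ∃ ρ : KZero.K0sub (fun X : ModuleCat.{u} A => Module.Finite A X) →+ ℤ,
      ∀ (M : Type u) [AddCommGroup M] [Module A M] [Module.Finite A M],
        ρ (cls A M) = ((locLen p M).toNat : ℤ) := by
  have hadd : ∀ S : ShortComplex (ModuleCat.{u} A), S.ShortExact → Module.Finite A S.X₁ →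
      Module.Finite A S.X₂ → Module.Finite A S.X₃ →
      ((locLen p S.X₂).toNat : ℤ) = ((locLen p S.X₁).toNat : ℤ) + ((locLen p S.X₃).toNat : ℤ) := by
    intro S hS h₁ h₂ h₃
    have := locLen_exact p S.f.hom S.g.hom hS.moduleCat_injective_f hS.moduleCat_surjective_g
      ((ShortComplex.ShortExact.moduleCat_exact_iff_function_exact S).1 hS.exact)
    rw [this, ENat.toNat_add (locLen_ne_top p hmax S.X₁) (locLen_ne_top p hmax S.X₃)]
    push_cast
    rfl
  obtain ⟨ρ, hρ⟩ := exists_hom_of_additive (A := A) (fun X => ((locLen p X).toNat : ℤ)) hadd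
  exact ⟨ρ, fun M _ _ _ => hρ M⟩

end rank

section devissage

theorem smul_mk_eq (J : Ideal A) (f a : A) :
    f • (Ideal.Quotient.mk J a) = Ideal.Quotient.mk J (f * a) := rfl

/-- for a prime `q ∋ x` with `A/(x)` a PID, the class of `A/q` is `[A/(x)]` or `0`. -/
theorem cls_quot_prime {B : Type*} [CommRing B] [IsDomain B] [IsPrincipalIdealRing B]
    (x : A) (φ : A →+* B) (hφ : Function.Surjective φ) (hker : RingHom.ker φ = Ideal.span {x})
    (q : Ideal A) [q.IsPrime] (hx : x ∈ q) :
    cls A (A ⧸ q) = cls A (A ⧸ Ideal.span {x}) ∨ cls A (A ⧸ q) = 0 := by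
  have hJq : Ideal.span {x} ≤ q := by
    rw [Ideal.span_singleton_le_iff_mem]
    exact hx
  have hq : Ideal.comap φ (Ideal.map φ q) = q := by
    rw [Ideal.comap_map_of_surjective φ hφ, ← RingHom.ker_eq_comap_bot, hker]
    exact sup_eq_left.2 hJq
  obtain ⟨b, hb⟩ : ∃ b, Ideal.map φ q = Ideal.span {b} :=
    ⟨_, (Submodule.IsPrincipal.span_singleton_generator (Ideal.map φ q)).symm⟩
  by_cases hb0 : b = 0
  · left
    have hqx : q = Ideal.span {x} := by
      rw [← hq, hb, hb0, Ideal.span_singleton_eq_bot.2 rfl, ← RingHom.ker_eq_comap_bot, hker]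
    subst hqx
    rfl
  · right
    obtain ⟨f, hf⟩ := hφ b
    have hqf : q = Ideal.span {x} ⊔ Ideal.span {f} := by
      rw [← hq, hb, ← hf, ← Set.image_singleton, ← Ideal.map_span,
        Ideal.comap_map_of_surjective φ hφ, ← RingHom.ker_eq_comap_bot, hker, sup_comm]
    let μ : (A ⧸ Ideal.span {x}) →ₗ[A] (A ⧸ Ideal.span {x}) :=
      f • (LinearMap.id : (A ⧸ Ideal.span {x}) →ₗ[A] (A ⧸ Ideal.span {x}))
    let g : (A ⧸ Ideal.span {x}) →ₗ[A] (A ⧸ q) := Submodule.factor hJq
    have hμa : ∀ a : A, μ (Ideal.Quotient.mk (Ideal.span {x}) a) =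
        Ideal.Quotient.mk (Ideal.span {x}) (f * a) := fun a => rfl
    have hga : ∀ a : A, g (Ideal.Quotient.mk (Ideal.span {x}) a) = Ideal.Quotient.mk q a :=
      fun a => rfl
    have hμ : Function.Injective μ := by
      rw [injective_iff_map_eq_zero]
      intro z hz
      obtain ⟨a, rfl⟩ := Ideal.Quotient.mk_surjective z
      rw [hμa, Ideal.Quotient.eq_zero_iff_mem, ← hker, RingHom.mem_ker, map_mul, hf] at hz
      have h0 : φ a = 0 := (mul_eq_zero.1 hz).resolve_left hb0
      rw [Ideal.Quotient.eq_zero_iff_mem, ← hker, RingHom.mem_ker]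
      exact h0
    have hg : Function.Surjective g := Submodule.factor_surjective hJq
    have hex : Function.Exact μ g := by
      intro z
      obtain ⟨a, rfl⟩ := Ideal.Quotient.mk_surjective z
      rw [hga, Ideal.Quotient.eq_zero_iff_mem]
      constructor
      · intro ha
        rw [hqf, Submodule.mem_sup] at ha
        obtain ⟨j, hj, c, hc, rfl⟩ := ha
        obtain ⟨c', rfl⟩ := Ideal.mem_span_singleton'.1 hc
        refine ⟨Ideal.Quotient.mk _ c', ?_⟩
        rw [hμa, eq_comm, ← sub_eq_zero, ← map_sub, Ideal.Quotient.eq_zero_iff_mem]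
        have : j + c' * f - f * c' = j := by ring
        rw [this]
        exact hj
      · rintro ⟨w, hw⟩
        obtain ⟨c, rfl⟩ := Ideal.Quotient.mk_surjective w
        rw [hμa, Ideal.Quotient.eq, ] at hw
        -- f * c - a ∈ span {x}
        have h1 : f * c ∈ q := by
          rw [hqf]
          exact Ideal.mem_sup_right (Ideal.mul_mem_right _ _ (Ideal.mem_span_singleton_self f))
        have h2 : f * c - a ∈ q := hJq hw
        have : a = f * c - (f * c - a) := by ring
        rw [this]
        exact q.sub_mem h1 h2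
    have h := cls_exact μ g hμ hg hex
    exact (add_eq_left.1 h.symm)

end devissage

/-- `K'₀` of a nodal ring. -/
theorem node_bijective [IsNoetherianRing A] (x y : A) (hxy : x * y = 0)
    {B : Type*} [CommRing B] [IsDomain B] [IsPrincipalIdealRing B]
    (φ ψ : A →+* B) (hφ : Function.Surjective φ) (hψ : Function.Surjective ψ)
    (hkφ : RingHom.ker φ = Ideal.span {x}) (hkψ : RingHom.ker ψ = Ideal.span {y})
    (hφy : φ y ≠ 0) (hψx : ψ x ≠ 0) :
    Function.Bijective (fun p : ℤ × ℤ =>
      p.1 • cls A (A ⧸ Ideal.span {x}) + p.2 • cls A (A ⧸ Ideal.span {y})) := by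
  -- generic facts for one branch
  have branch : ∀ (x y : A) (hxy : x * y = 0) (φ : A →+* B) (hkφ : RingHom.ker φ = Ideal.span {x})
      (hφy : φ y ≠ 0),
      ∃ ρ : KZero.K0sub (fun X : ModuleCat.{u} A => Module.Finite A X) →+ ℤ,
        ρ (cls A (A ⧸ Ideal.span {x})) = 1 ∧ ρ (cls A (A ⧸ Ideal.span {y})) = 0 := by
    intro x y hxy φ hkφ hφy
    haveI hp : (Ideal.span {x}).IsPrime := hkφ ▸ RingHom.ker_isPrime φ
    have hy : y ∉ Ideal.span {x} := by
      rw [← hkφ, RingHom.mem_ker]
      exact hφy
    have hu : IsUnit (algebraMap A (Localization.AtPrime (Ideal.span {x})) y) :=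
      IsLocalization.map_units (Localization.AtPrime (Ideal.span {x}))
        (⟨y, hy⟩ : (Ideal.span {x}).primeCompl)
    have hx0 : algebraMap A (Localization.AtPrime (Ideal.span {x})) x = 0 := by
      have h1 : algebraMap A (Localization.AtPrime (Ideal.span {x})) x *
          algebraMap A (Localization.AtPrime (Ideal.span {x})) y = 0 := by
        rw [← map_mul, hxy, map_zero]
      exact hu.mul_left_eq_zero.1 h1
    have hmax : IsLocalRing.maximalIdeal (Localization.AtPrime (Ideal.span {x})) = ⊥ := by
      rw [← Localization.AtPrime.map_eq_maximalIdeal, Ideal.map_span, Set.image_singleton, hx0,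
        Ideal.span_singleton_eq_bot.2 rfl]
    obtain ⟨ρ, hρ⟩ := exists_rank_hom (Ideal.span {x}) hmax
    refine ⟨ρ, ?_, ?_⟩
    · rw [hρ]
      have h1 := locLen_exact (Ideal.span {x}) (Submodule.subtype (Ideal.span {x}))
        (Submodule.mkQ (Ideal.span {x})) (Submodule.injective_subtype _)
        (Submodule.mkQ_surjective _) (LinearMap.exact_subtype_mkQ _)
      have h2 : locLen (Ideal.span {x}) (↥(Ideal.span {x} : Ideal A)) = 0 := by
        refine locLen_eq_zero_of_smul (Ideal.span {x}) y hy ?_
        rintro ⟨m, hm⟩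
        obtain ⟨c, rfl⟩ := Ideal.mem_span_singleton'.1 hm
        apply Subtype.ext
        change y * (c * x) = 0
        rw [mul_left_comm, mul_comm y x, hxy, mul_zero]
      rw [locLen_self _ hmax, h2, zero_add] at h1
      have h3 : locLen (Ideal.span {x}) (A ⧸ Ideal.span {x}) = 1 := h1.symm
      rw [h3]
      rfl
    · rw [hρ]
      have h2 : locLen (Ideal.span {x}) (A ⧸ Ideal.span {y}) = 0 := by
        refine locLen_eq_zero_of_smul (Ideal.span {x}) y hy ?_
        intro m
        obtain ⟨a, rfl⟩ := Ideal.Quotient.mk_surjective m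
        rw [smul_mk_eq, Ideal.Quotient.eq_zero_iff_mem]
        exact Ideal.mul_mem_right _ _ (Ideal.mem_span_singleton_self y)
      rw [h2]
      rfl
  obtain ⟨ρx, hρx1, hρx2⟩ := branch x y hxy φ hkφ hφy
  obtain ⟨ρy, hρy1, hρy2⟩ := branch y x (by rw [mul_comm]; exact hxy) ψ hkψ hψx
  constructor
  · -- injectivity
    intro a b hab
    simp only at hab
    have h1 := congrArg ρx hab
    have h2 := congrArg ρy hab
    simp only [map_add, map_zsmul, hρx1, hρx2, hρy1, hρy2, smul_eq_mul, mul_one, mul_zero,
      add_zero, zero_add] at h1 h2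
    exact Prod.ext h1 h2
  · -- surjectivity
    let Φ : ℤ × ℤ →+ KZero.K0sub (fun X : ModuleCat.{u} A => Module.Finite A X) :=
      AddMonoidHom.coprod (zmultiplesHom _ (cls A (A ⧸ Ideal.span {x})))
        (zmultiplesHom _ (cls A (A ⧸ Ideal.span {y})))
    have hΦ : ∀ p : ℤ × ℤ, Φ p = p.1 • cls A (A ⧸ Ideal.span {x}) +
        p.2 • cls A (A ⧸ Ideal.span {y}) := by
      intro p
      simp [Φ]
    have h1 : cls A (A ⧸ Ideal.span {x}) ∈ Φ.range := ⟨(1, 0), by rw [hΦ]; simp⟩
    have h2 : cls A (A ⧸ Ideal.span {y}) ∈ Φ.range := ⟨(0, 1), by rw [hΦ]; simp⟩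
    have key : ∀ (M : Type u) [AddCommGroup M] [Module A M] [Module.Finite A M],
        cls A M ∈ Φ.range := by
      intro M _ _ hM
      refine IsNoetherianRing.induction_on_isQuotientEquivQuotientPrime A hM
        (motive := fun N _ _ _ => cls A N ∈ Φ.range) ?_ ?_ ?_
      · intro N _ _ _ _
        rw [cls_eq_zero_of_subsingleton]
        exact zero_mem _
      · intro N _ _ _ q e
        rw [cls_congr e.symm]
        have hq : x * y ∈ q.asIdeal := by
          rw [hxy]
          exact zero_mem _
        rcases q.2.mem_or_mem hq with hx | hy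
        · rcases cls_quot_prime x φ hφ hkφ q.asIdeal hx with h | h
          · rw [h]; exact h1
          · rw [h]; exact zero_mem _
        · rcases cls_quot_prime y ψ hψ hkψ q.asIdeal hy with h | h
          · rw [h]; exact h2
          · rw [h]; exact zero_mem _
      · intro N₁ _ _ _ N₂ _ _ _ N₃ _ _ _ f g hf hg hfg ih1 ih3
        rw [cls_exact f g hf hg hfg]
        exact add_mem ih1 ih3
    intro c
    suffices h : c ∈ Φ.range by
      obtain ⟨p, hp⟩ := h
      exact ⟨p, (hΦ p).symm.trans hp⟩
    induction c using QuotientAddGroup.induction_on with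
    | H z =>
      induction z using FreeAbelianGroup.induction_on with
      | zero => exact zero_mem _
      | of X =>
        obtain ⟨X, hX⟩ := X
        have : (QuotientAddGroup.mk (FreeAbelianGroup.of
            (⟨X, hX⟩ : Subtype (fun X : ModuleCat.{u} A => Module.Finite A X))) :
            KZero.K0sub (fun X : ModuleCat.{u} A => Module.Finite A X)) = cls A X := by
          unfold cls KZero.clSub
          rw [dif_pos (show (fun X : ModuleCat.{u} A => Module.Finite A X)
            (ModuleCat.of A X) from hX)]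
        rw [this]
        haveI : Module.Finite A X := hX
        exact key X
      | neg X hX => 
        rw [QuotientAddGroup.mk_neg]
        exact neg_mem hX
      | add a b ha hb =>
        rw [QuotientAddGroup.mk_add]
        exact add_mem ha hb

end general

end Groth.Agent.Lib.Helper8NodeK0
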