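import Groth.Agent.Lib.R2H2PnLinRes
import Groth.Agent.Lib.Helper21ModTensor6
import Groth.Agent.Lib.Helper23QCohAbelian

/-!
# Mumford's lemma on the regularity of an extension by a twist (helper2, round 2)
-/

set_option autoImplicit false
universe u

namespace Groth.Agent.Lib.R2H2.PnMumford

open CategoryTheory CategoryTheory.Limits AlgebraicGeometry TopologicalSpace Opposite
  MonoidalCategory
open Groth.Agent.Lib.R2H2.HHLin Groth.Agent.Lib.R2H2.PnSerre Groth.Agent.Lib.R2H2.PnMulSurj
  Groth.Agent.Lib.R2H2.PnGG Groth.Agent.Lib.R2H2.PnLinRes Groth.Agent.Lib.R2H2.DualExtGen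
open Groth.Agent.Lib.Helper6 Groth.Agent.Lib.Helper23.SecTw Groth.Agent.Lib.Helper23.GenLocus
open Groth.Agent.Lib.Helper27PnSections Groth.Agent.Lib.Helper23.QCohLocal

theorem shortExact_precomp_iso {C : Type*} [Category C] [Abelian C] (S : ShortComplex C)
    (hS : S.ShortExact) {A : C} (e : A ≅ S.X₁) :
    (ShortComplex.mk (e.hom ≫ S.f) S.g (by rw [Category.assoc, S.zero, comp_zero])).ShortExact :=
  ShortComplex.shortExact_of_iso
    (ShortComplex.isoMk e.symm (Iso.refl _) (Iso.refl _) (by simp) (by simp)) hS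

section General

variable {X : Scheme.{u}}

theorem preTopL_surjective {M M' : X.Modules} (φ : M ⟶ M') (N : X.Modules)
    (h : Function.Surjective (φ.app ⊤)) : Function.Surjective (preTopL φ N) := by
  intro s
  change ∃ a, ((show CohB1.toPMod M ⟶ CohB1.toPMod M' from φ.val) ▷
    (CohB1.toPMod N)).app (op ⊤) a = s
  induction s using Groth.Agent.Lib.Helper1.StalkTensor.tm_induction with
  | zero => exact ⟨0, map_zero _⟩
  | tmul p q =>
    obtain ⟨p', hp'⟩ := h p
    refine ⟨Groth.Agent.Lib.Helper1.StalkTensor.tm _ _ p' q, ?_⟩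
    have h2 : ((show CohB1.toPMod M ⟶ CohB1.toPMod M' from φ.val) ▷
        (CohB1.toPMod N)).app (op ⊤) (Groth.Agent.Lib.Helper1.StalkTensor.tm _ _ p' q) =
        Groth.Agent.Lib.Helper1.StalkTensor.tm (CohB1.toPMod M') (CohB1.toPMod N)
          (φ.val.app (op ⊤) p') q := rfl
    have h1 : φ.val.app (op ⊤) p' = p := hp'
    rw [h2, h1]
  | add s t hs ht =>
    obtain ⟨a, ha⟩ := hs
    obtain ⟨b, hb⟩ := ht
    exact ⟨a + b, by rw [map_add, ha, hb]⟩

theorem surjective_app_top_of_H0 {M N : X.Modules} (ψ : M ⟶ N)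
    (h : Function.Surjective (HmapL ψ 0)) : Function.Surjective (ψ.app ⊤) := by
  intro t
  obtain ⟨x, hx⟩ := h ((hh0Equiv X N).symm t)
  refine ⟨hh0Equiv X M x, ?_⟩
  have h1 := Sheaf.H.equiv₀_naturality Limits.isTerminalTop (abMap ψ) x
  have h2 : hh0Equiv X N (HmapL ψ 0 x) = t := by
    rw [hx]
    exact AddEquiv.apply_symm_apply _ _
  exact h1.trans h2

theorem surjective_H0_of_app_top {M N : X.Modules} (ψ : M ⟶ N)
    (h : Function.Surjective (ψ.app ⊤)) : Function.Surjective (HmapL ψ 0) := by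
  intro y
  obtain ⟨s, hs⟩ := h (hh0Equiv X N y)
  refine ⟨(hh0Equiv X M).symm s, ?_⟩
  apply (hh0Equiv X N).injective
  have h1 := Sheaf.H.equiv₀_naturality Limits.isTerminalTop (abMap ψ) ((hh0Equiv X M).symm s)
  refine h1.symm.trans ?_
  have h2 : hh0Equiv X M ((hh0Equiv X M).symm s) = s := AddEquiv.apply_symm_apply _ _
  exact (congrArg ((abMap ψ).hom.app (op ⊤)) h2).trans hs

/-- surjectivity on `H^0` propagates to a twist when the multiplication map of the target is
surjective -/
theorem surjective_H0_twR {M N : X.Modules} (ψ : M ⟶ N) (L : X.Modules)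
    (hψ : Function.Surjective (HmapL ψ 0)) (hmul : Function.Surjective (tsTop N L)) :
    Function.Surjective (HmapL ((twR L).map ψ) 0) := by
  apply surjective_H0_of_app_top
  intro t
  obtain ⟨s', hs'⟩ := hmul t
  obtain ⟨s, hs⟩ := preTopL_surjective ψ L (surjective_app_top_of_H0 ψ hψ) s'
  refine ⟨tsTop M L s, ?_⟩
  have h := tsTop_naturality_left ψ L s
  rw [hs, hs'] at h
  exact h

theorem bijective_HmapL_of_iso {M N : X.Modules} (e : M ≅ N) (i : ℕ) :
    Function.Bijective (HmapL e.hom i) := by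
  refine Function.bijective_iff_has_inverse.2 ⟨HmapL e.inv i, fun x => ?_, fun x => ?_⟩
  · rw [← HmapL_comp, e.hom_inv_id, HmapL_id]
  · rw [← HmapL_comp, e.inv_hom_id, HmapL_id]

/-- `(- ⊗ A) ⊗ B ≅ - ⊗ (A ⊗ B)` -/
noncomputable def thetaGen (A B : X.Modules) : twR A ⋙ twR B ≅ twR (CohB1.tensorMod A B) :=
  Groth.Agent.Lib.Helper21.ModTensor6.tRTensorIso X.sheaf A B

noncomputable def twRIso {A C : X.Modules} (e : A ≅ C) : twR A ≅ twR C :=
  DCoh.tensorBi.flip.mapIso e

noncomputable def thetaGen' (A B C : X.Modules) (e : CohB1.tensorMod A B ≅ C) :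
    twR A ⋙ twR B ≅ twR C :=
  thetaGen A B ≪≫ twRIso e

section Les

variable (S : ShortComplex X.Modules) (hS : S.ShortExact)

include hS

theorem injective_f_of_subsingleton (i : ℕ) (h : Subsingleton (Coh.HH X S.X₃ i)) :
    Function.Injective (HmapL S.f (i + 1)) := by
  rw [injective_iff_map_eq_zero]
  intro x hx
  obtain ⟨x₃, rfl⟩ := exact₁ S hS i x hx
  rw [Subsingleton.elim x₃ 0, map_zero]

theorem injective_f_of_surjective_g (i : ℕ) (h : Function.Surjective (HmapL S.g i)) :
    Function.Injective (HmapL S.f (i + 1)) := by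
  rw [injective_iff_map_eq_zero]
  intro x hx
  obtain ⟨x₃, rfl⟩ := exact₁ S hS i x hx
  obtain ⟨x₂, rfl⟩ := h x₃
  exact deltaL_HmapL_g S hS i x₂

theorem surjective_g_of_injective_f (i : ℕ) (h : Function.Injective (HmapL S.f (i + 1))) :
    Function.Surjective (HmapL S.g i) := by
  intro x₃
  apply exact₃ S hS i x₃
  apply h
  rw [HmapL_f_deltaL, map_zero]

theorem surjective_f_of_subsingleton (i : ℕ) (h : Subsingleton (Coh.HH X S.X₃ i)) :
    Function.Surjective (HmapL S.f i) := by
  intro x₂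
  exact exact₂ S hS i x₂ (Subsingleton.elim _ _)

end Les

end General

section Pn

variable (n : ℕ) (R : Type u) [CommRing R]

local notation "PX" => CohB1.ProjSpace n R

/-- the twist functor `- ⊗ O(j)` -/
noncomputable abbrev Tw (j : ℤ) : (PX).Modules ⥤ (PX).Modules :=
  twR (Twist.twistProjSpace n R j)

theorem nonempty_thetaIso (a b c : ℤ) (h : a + b = c) :
    Nonempty (Tw n R a ⋙ Tw n R b ≅ Tw n R c) := by
  obtain ⟨e⟩ := Groth.Agent.Lib.R2Lead.KRR.nonempty_twistProjSpace_tensor_iso n R a b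
  exact ⟨thetaGen' _ _ _ (e ≪≫ eqToIso (by rw [h]))⟩

/-- the twisted short exact sequences `0 → F(j) → F(j+1) → G(j+1) → 0` -/
theorem exists_ses (F G : (PX).Modules) (ι : (Tw n R (-1)).obj F ⟶ F) (π : F ⟶ G)
    (w : ι ≫ π = 0) (hS : (ShortComplex.mk ι π w).ShortExact) (j j' : ℤ) (hj : j + 1 = j') :
    ∃ (f : (Tw n R j).obj F ⟶ (Tw n R j').obj F) (w' : f ≫ (Tw n R j').map π = 0),
      (ShortComplex.mk f ((Tw n R j').map π) w').ShortExact := by
  obtain ⟨θ⟩ := nonempty_thetaIso n R (-1) j' j (by omega)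
  have hS' : ((ShortComplex.mk ι π w).map (Tw n R j')).ShortExact :=
    shortExact_map_twR _ (isInv n R j') _ hS
  have h1 := shortExact_precomp_iso _ hS' (θ.app F).symm
  exact ⟨_, _, h1⟩

/-- surjectivity of `H^0(F(j)) → H^0(G(j))` propagates to `j + 1` if `G` is `m`-regular, `m ≤ j` -/
theorem surjective_H0_succ (F G : (PX).Modules) (π : F ⟶ G) (hGq : G.IsQuasicoherent) (m : ℤ)
    (hG : ∀ i : ℕ, 1 ≤ i → i ≤ n →
      Subsingleton (Coh.HH PX (CohB1.tensorMod G (Twist.twistProjSpace n R (m - i))) i))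
    (j j' : ℤ) (hj : j + 1 = j') (hmj : m ≤ j)
    (h : Function.Surjective (HmapL ((Tw n R j).map π) 0)) :
    Function.Surjective (HmapL ((Tw n R j').map π) 0) := by
  obtain ⟨θ⟩ := nonempty_thetaIso n R j ((1 : ℕ) : ℤ) j' (by push_cast; omega)
  have hmul := mul_surj_regular n R G hGq m hG j hmj 1
  have h1 : Function.Surjective (HmapL ((Tw n R j ⋙ Tw n R ((1 : ℕ) : ℤ)).map π) 0) :=
    surjective_H0_twR _ _ h hmul
  have hnat : (Tw n R j').map π =
      (θ.app F).inv ≫ (Tw n R j ⋙ Tw n R ((1 : ℕ) : ℤ)).map π ≫ (θ.app G).hom := by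
    have h2 := θ.hom.naturality π
    rw [← cancel_epi (θ.app F).hom, Iso.hom_inv_id_assoc]
    exact h2.symm
  rw [hnat]
  intro y
  obtain ⟨y1, hy1⟩ := (bijective_HmapL_of_iso (θ.app G) 0).2 y
  obtain ⟨y2, hy2⟩ := h1 y1
  obtain ⟨y3, hy3⟩ := (bijective_HmapL_of_iso (θ.app F).symm 0).2 y2
  refine ⟨y3, ?_⟩
  rw [HmapL_comp, HmapL_comp]
  change HmapL (θ.app G).hom 0 (HmapL _ 0 (HmapL (θ.app F).symm.hom 0 y3)) = y
  rw [hy3, hy2, hy1]

end Pn

/-- downward induction on the integers from an eventual property -/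
theorem down_induction (A : ℤ → Prop) (j₀ d₀ : ℤ) (step : ∀ j, j₀ ≤ j → A (j + 1) → A j)
    (hd : ∀ d, d₀ ≤ d → A d) : ∀ j, j₀ ≤ j → A j := by
  have key : ∀ t : ℕ, ∀ j, j₀ ≤ j → d₀ ≤ j + t → A j := by
    intro t
    induction t with
    | zero =>
      intro j _ h
      exact hd j (by simpa using h)
    | succ t ih =>
      intro j hj h
      exact step j hj (ih (j + 1) (by omega) (by push_cast at h; omega))
  intro j hj
  exact key (d₀ - j).toNat j hj (by omega)

section Main

variable (k : Type u) [Field k] (n : ℕ)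

local notation "PX" => CohB1.ProjSpace n k

/-- **Mumford's lemma**: regularity of `F` from an `m`-regular quotient `G = F / F(-1)`. -/
theorem main (F : (PX).Modules) (hF : Coh.IsCoh F)
    (ι : CohB1.tensorMod F (Twist.twistProjSpace n k (-1)) ⟶ F) [Mono ι] (m : ℤ)
    (hG : ∀ i : ℕ, 1 ≤ i → i ≤ n → Subsingleton (Coh.HH PX
      (CohB1.tensorMod (cokernel ι) (Twist.twistProjSpace n k (m - i))) i)) :
    (∀ (i : ℕ) (j : ℤ), 2 ≤ i → m - i ≤ j →
        Subsingleton (Coh.HH PX (CohB1.tensorMod F (Twist.twistProjSpace n k j)) i)) ∧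
    (∀ j : ℤ, m - 1 ≤ j →
        Module.finrank k (Coh.HH PX (CohB1.tensorMod F (Twist.twistProjSpace n k j)) 1) ≤
          Module.finrank k (Coh.HH PX
            (CohB1.tensorMod F (Twist.twistProjSpace n k (j - 1))) 1)) ∧
    (∀ j : ℤ, m - 1 + (Module.finrank k (Coh.HH PX
          (CohB1.tensorMod F (Twist.twistProjSpace n k (m - 1))) 1) : ℤ) ≤ j →
        Subsingleton (Coh.HH PX (CohB1.tensorMod F (Twist.twistProjSpace n k j)) 1)) := by
  classical
  let G : (PX).Modules := cokernel ι
  let π : F ⟶ G := cokernel.π ι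
  have w : ι ≫ π = 0 := cokernel.condition ι
  have hmono : Mono ι := inferInstance
  have hS : (ShortComplex.mk ι π w).ShortExact :=
    { exact := ShortComplex.exact_cokernel ι
      mono_f := hmono
      epi_g := coequalizer.π_epi }
  have i1 : F.IsQuasicoherent := hF.1
  have i1' : SheafOfModules.IsFiniteType (R := (PX).ringCatSheaf) F := hF.2
  have i2 : ∀ j : ℤ, (Twist.twistProjSpace n k j).IsQuasicoherent := fun j =>
    Groth.Agent.Lib.R2H2.PnFinite.isQCoh_twist n k j
  have i2' : ∀ j : ℤ, SheafOfModules.IsFiniteType (R := (PX).ringCatSheaf)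
      (Twist.twistProjSpace n k j) := fun j =>
    Groth.Agent.Lib.R2H2.PnFinite.isFiniteType_twist n k j
  have i3 : (CohB1.tensorMod F (Twist.twistProjSpace n k (-1))).IsQuasicoherent := by
    have := i2 (-1)
    exact Groth.Agent.Lib.Helper23.TensorQCoh.isQuasicoherent_tensorMod F _
  have hGq : G.IsQuasicoherent := isQuasicoherent_cokernel ι
  have hGall : ∀ p : ℕ, 1 ≤ p → ∀ r : ℤ, m - p ≤ r →
      Subsingleton (Coh.HH PX (CohB1.tensorMod G (Twist.twistProjSpace n k r)) p) :=
    fun p hp r hr => regular_all n k G hGq m hG p hp r hr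
  have hcoh : ∀ j : ℤ, Coh.IsCoh (CohB1.tensorMod F (Twist.twistProjSpace n k j)) := by
    intro j
    have := i2 j
    have := i2' j
    exact ⟨Groth.Agent.Lib.Helper23.TensorQCoh.isQuasicoherent_tensorMod F _,
      Groth.Agent.Lib.Helper23.TensorQCoh.isFiniteType_tensorMod F _⟩
  have hfin : ∀ (j : ℤ) (i : ℕ), Module.Finite k
      (Coh.HH PX (CohB1.tensorMod F (Twist.twistProjSpace n k j)) i) := fun j i =>
    Groth.Agent.Lib.R2H2.PnFinite.finite_HH n k _ (hcoh j) i
  have hserre : ∀ i : ℕ, 0 < i → ∃ d₀ : ℤ, ∀ d : ℤ, d₀ ≤ d →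
      Subsingleton (Coh.HH PX (CohB1.tensorMod F (Twist.twistProjSpace n k d)) i) :=
    fun i hi => serre_vanishing n k F hF i hi
  have hses : ∀ j j' : ℤ, j + 1 = j' →
      ∃ (f : (Tw n k j).obj F ⟶ (Tw n k j').obj F) (w' : f ≫ (Tw n k j').map π = 0),
        (ShortComplex.mk f ((Tw n k j').map π) w').ShortExact :=
    fun j j' hj => exists_ses n k F G ι π w hS j j' hj
  choose f wf hf using hses
  -- (i)
  have part_i : ∀ (i : ℕ) (j : ℤ), 2 ≤ i → m - i ≤ j →
      Subsingleton (Coh.HH PX (CohB1.tensorMod F (Twist.twistProjSpace n k j)) i) := by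
    intro i j hi hj
    obtain ⟨i', rfl⟩ : ∃ i', i = i' + 1 := ⟨i - 1, by omega⟩
    obtain ⟨d₀, hd₀⟩ := hserre (i' + 1) (by omega)
    refine down_induction (fun d => Subsingleton (Coh.HH PX
      (CohB1.tensorMod F (Twist.twistProjSpace n k d)) (i' + 1))) (m - ((i' + 1 : ℕ) : ℤ)) d₀
      ?_ hd₀ j hj
    intro d hd hsub
    have hinj := injective_f_of_subsingleton (ShortComplex.mk (f d (d + 1) rfl) _
      (wf d (d + 1) rfl)) (hf d (d + 1) rfl) i'
      (hGall i' (by omega) (d + 1) (by push_cast at hd; omega))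
    exact @Function.Injective.subsingleton _ _ _ hinj hsub
  -- (ii)
  have surj_ii : ∀ (j j' : ℤ) (h : j + 1 = j'), m - 1 ≤ j' →
      Function.Surjective (HmapL (f j j' h) 1) := fun j j' h hj =>
    surjective_f_of_subsingleton (ShortComplex.mk (f j j' h) _ (wf j j' h)) (hf j j' h) 1
      (hGall 1 le_rfl j' (by push_cast; omega))
  have part_ii : ∀ j : ℤ, m - 1 ≤ j →
      Module.finrank k (Coh.HH PX (CohB1.tensorMod F (Twist.twistProjSpace n k j)) 1) ≤
        Module.finrank k (Coh.HH PX
          (CohB1.tensorMod F (Twist.twistProjSpace n k (j - 1))) 1) := by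
    intro j hj
    have := hfin (j - 1) 1
    exact LinearMap.finrank_le_finrank_of_surjective
      (f := HmapA k (f (j - 1) j (by ring)) 1) (surj_ii (j - 1) j (by ring) hj)
  -- propagation of surjectivity on `H^0`
  have prop : ∀ t : ℕ, ∀ j j' : ℤ, j' = j + t → m ≤ j →
      Function.Surjective (HmapL ((Tw n k j).map π) 0) →
      Function.Surjective (HmapL ((Tw n k j').map π) 0) := by
    intro t
    induction t with
    | zero =>
      intro j j' h _ hs
      obtain rfl : j' = j := by simpa using h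
      exact hs
    | succ t ih =>
      intro j j' h hj hs
      exact ih (j + 1) j' (by push_cast at h; omega) (by omega)
        (surjective_H0_succ n k F G π hGq m hG j (j + 1) rfl hj hs)
  -- injectivity at one step forces vanishing
  have key_iii : ∀ (j j' : ℤ) (h : j + 1 = j'), m ≤ j' →
      Function.Injective (HmapL (f j j' h) 1) →
      Subsingleton (Coh.HH PX (CohB1.tensorMod F (Twist.twistProjSpace n k j)) 1) := by
    intro j j' h hj' hinj
    have hs0 : Function.Surjective (HmapL ((Tw n k j').map π) 0) :=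
      surjective_g_of_injective_f (ShortComplex.mk (f j j' h) _ (wf j j' h)) (hf j j' h) 0 hinj
    have hsall : ∀ d : ℤ, j' ≤ d → Function.Surjective (HmapL ((Tw n k d).map π) 0) :=
      fun d hd => prop (d - j').toNat j' d (by omega) hj' hs0
    obtain ⟨d₀, hd₀⟩ := hserre 1 one_pos
    refine down_induction (fun d => Subsingleton (Coh.HH PX
      (CohB1.tensorMod F (Twist.twistProjSpace n k d)) 1)) j d₀ ?_ hd₀ j le_rfl
    intro d hd hsub
    have hinj' := injective_f_of_surjective_g (ShortComplex.mk (f d (d + 1) rfl) _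
      (wf d (d + 1) rfl)) (hf d (d + 1) rfl) 0 (hsall (d + 1) (by omega))
    exact @Function.Injective.subsingleton _ _ _ hinj' hsub
  -- dichotomy
  have dich : ∀ j : ℤ, m ≤ j →
      Module.finrank k (Coh.HH PX (CohB1.tensorMod F (Twist.twistProjSpace n k j)) 1) + 1 ≤
        Module.finrank k (Coh.HH PX
          (CohB1.tensorMod F (Twist.twistProjSpace n k (j - 1))) 1) ∨
      Module.finrank k (Coh.HH PX
          (CohB1.tensorMod F (Twist.twistProjSpace n k (j - 1))) 1) = 0 := by
    intro j hj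
    have hle := part_ii j (by omega)
    by_cases heq : Module.finrank k (Coh.HH PX
        (CohB1.tensorMod F (Twist.twistProjSpace n k j)) 1) =
        Module.finrank k (Coh.HH PX
          (CohB1.tensorMod F (Twist.twistProjSpace n k (j - 1))) 1)
    · right
      have := hfin (j - 1) 1
      have := hfin j 1
      have hinj : Function.Injective (HmapA k (f (j - 1) j (by ring)) 1) :=
        (LinearMap.injective_iff_surjective_of_finrank_eq_finrank heq.symm).2
          (surj_ii (j - 1) j (by ring) (by omega))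
      have := key_iii (j - 1) j (by ring) hj hinj
      exact Module.finrank_zero_of_subsingleton
    · left
      omega
  -- the decreasing bound
  have bound : ∀ t : ℕ, ∀ j : ℤ, j = m - 1 + t →
      Module.finrank k (Coh.HH PX (CohB1.tensorMod F (Twist.twistProjSpace n k j)) 1) ≤
        Module.finrank k (Coh.HH PX
          (CohB1.tensorMod F (Twist.twistProjSpace n k (m - 1))) 1) - t := by
    intro t
    induction t with
    | zero =>
      intro j hj
      obtain rfl : j = m - 1 := by simpa using hj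
      exact le_of_eq (Nat.sub_zero _).symm
    | succ t ih =>
      intro j hj
      have h1 := ih (j - 1) (by push_cast at hj; omega)
      have h2 := part_ii j (by push_cast at hj; omega)
      rcases dich j (by push_cast at hj; omega) with h3 | h3
      · omega
      · omega
  refine ⟨part_i, part_ii, ?_⟩
  intro j hj
  have h1 := bound (j - (m - 1)).toNat j (by omega)
  have h2 : Module.finrank k (Coh.HH PX
      (CohB1.tensorMod F (Twist.twistProjSpace n k j)) 1) = 0 := by omega
  have := hfin j 1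
  exact Module.finrank_zero_iff.1 h2

end Main

end Groth.Agent.Lib.R2H2.PnMumford
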