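import Mathlib
import Groth.Prelude
import Groth.Agent.Lib.Helper8NormalSepEt

/-!
# Sections of finite étale covers of closed subschemes of a normal scheme with separably closed
function field (helper8)
-/

set_option autoImplicit false
universe u
open CategoryTheory CategoryTheory.Limits AlgebraicGeometry Opposite TopologicalSpace

namespace Groth.Agent.Lib.Helper8NormalSepEt

/-- the components of a coproduct of schemes are closed. -/
theorem isClosed_range_sigmaι {σ : Type u} (f : σ → Scheme.{u}) (k : σ) :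
    IsClosed (Set.range (Sigma.ι f k)) := by
  have : Set.range (Sigma.ι f k) = (sigmaMk f) '' (Set.range (Sigma.mk k)) := by
    ext y
    constructor
    · rintro ⟨x, rfl⟩
      exact ⟨⟨k, x⟩, ⟨x, rfl⟩, sigmaMk_mk f k x⟩
    · rintro ⟨_, ⟨x, rfl⟩, rfl⟩
      exact ⟨x, (sigmaMk_mk f k x).symm⟩
  rw [this]
  exact (sigmaMk f).isClosedMap _ Topology.IsClosedEmbedding.sigmaMk.isClosed_range

theorem exists_sigmaι_eq {σ : Type u} (f : σ → Scheme.{u}) (y : (∐ f : Scheme.{u})) :
    ∃ (k : σ) (x : f k), Sigma.ι f k x = y := by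
  obtain ⟨⟨k, x⟩, rfl⟩ := (sigmaMk f).surjective y
  exact ⟨k, x, (sigmaMk_mk f k x).symm⟩

open scoped Function in
/-- gluing sections over a finite cover by open and closed subsets. -/
theorem exists_section_of_clopen_cover {V Z : Scheme.{u}} (φ : V ⟶ Z) (n : ℕ)
    (W : Fin n → Z.Opens) (hcl : ∀ k, IsClosed (W k : Set Z)) (hcov : ∀ z : Z, ∃ k, z ∈ W k)
    (g : ∀ k, (W k : Scheme.{u}) ⟶ V) (hg : ∀ k, g k ≫ φ = (W k).ι) :
    ∃ s : Z ⟶ V, s ≫ φ = 𝟙 Z := by
  have hclU : ∀ k : Fin n, IsClosed (⋃ j ∈ {j : Fin n | j < k}, (W j : Set Z)) := fun k =>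
    (Set.toFinite _).isClosed_biUnion fun j _ => hcl j
  let P : Fin n → Z.Opens := fun k =>
    (⟨(W k : Set Z) \ ⋃ j ∈ {j : Fin n | j < k}, (W j : Set Z),
      (W k).2.sdiff (hclU k)⟩ : TopologicalSpace.Opens Z)
  have hPW : ∀ k, P k ≤ W k := fun k z hz => hz.1
  have hPmem : ∀ k (z : Z), z ∈ P k ↔ z ∈ W k ∧ ∀ j, j < k → z ∉ W j := by
    intro k z
    change z ∈ (W k : Set Z) \ ⋃ j ∈ {j : Fin n | j < k}, (W j : Set Z) ↔ _
    simp only [Set.mem_sdiff, Set.mem_iUnion, Set.mem_ofPred_eq, exists_prop, not_exists, not_and]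
    rfl
  have hcovP : ⨆ k, ((P k).ι).opensRange = ⊤ := by
    simp_rw [Scheme.Opens.opensRange_ι]
    rw [eq_top_iff]
    intro z _
    obtain ⟨k, hk, hmin⟩ := wellFounded_lt.has_min {k : Fin n | z ∈ W k} (hcov z)
    exact Opens.mem_iSup.2 ⟨k, (hPmem k z).2 ⟨hk, fun j hj hzj => hmin j hzj hj⟩⟩
  have hdisjP : Pairwise (Disjoint on (fun k => ((P k).ι).opensRange)) := by
    intro k k' hkk
    change Disjoint ((P k).ι).opensRange ((P k').ι).opensRange
    rw [Scheme.Opens.opensRange_ι, Scheme.Opens.opensRange_ι, ← Opens.coe_disjoint,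
      Set.disjoint_iff_forall_ne]
    intro a ha b hb hab
    subst hab
    rcases lt_or_gt_of_ne hkk with h | h
    · exact ((hPmem k' a).1 hb).2 k h ((hPmem k a).1 ha).1
    · exact ((hPmem k a).1 ha).2 k' h ((hPmem k' a).1 hb).1
  obtain ⟨hcol⟩ := nonempty_isColimit_cofanMk_of (fun k => (P k).ι) hcovP hdisjP
  let sk : ∀ k, ((P k : Z.Opens) : Scheme.{u}) ⟶ V := fun k => Z.homOfLE (hPW k) ≫ g k
  have hsk : ∀ k, sk k ≫ φ = (P k).ι := by
    intro k
    dsimp only [sk]
    rw [Category.assoc, hg]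
    simp
  refine ⟨Cofan.IsColimit.desc hcol sk, ?_⟩
  apply Cofan.IsColimit.hom_ext hcol
  intro k
  rw [← Category.assoc, Cofan.IsColimit.fac]
  change sk k ≫ φ = (P k).ι ≫ 𝟙 Z
  rw [hsk, Category.comp_id]

/-- **S0625**: every surjective finite étale cover of a closed subscheme of an affine integral
normal scheme with separably closed function field has a section. -/
theorem exists_section {V Z X : Scheme.{u}} [IsAffine X] [IsIntegral X]
    (hN : ∀ x : X, IsIntegrallyClosed (X.presheaf.stalk x)) [IsSepClosed X.functionField]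
    (i : Z ⟶ X) [IsClosedImmersion i] (φ : V ⟶ Z) [Etale φ] [IsFinite φ] [Surjective φ] :
    ∃ s : Z ⟶ V, s ≫ φ = 𝟙 Z := by
  haveI : IsAffine Z := isAffine_of_isAffineHom i
  haveI : IsAffine V := isAffine_of_isAffineHom φ
  obtain ⟨ι, hfin, W, e, he⟩ := splits hN i φ
  haveI := hfin
  obtain ⟨n, ⟨eqv⟩⟩ := Finite.exists_equiv_fin ι
  -- closedness of the pieces
  have hcl : ∀ k, IsClosed (W k : Set Z) := by
    intro k
    have h1 : IsClosed (Set.range (Sigma.ι (fun k => (W k : Scheme.{u})) k ≫ e.hom)) := by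
      rw [Scheme.Hom.comp_base, TopCat.coe_comp, Set.range_comp]
      exact e.hom.homeomorph.isClosedMap _ (isClosed_range_sigmaι _ k)
    have h2 : (W k : Set Z) = φ '' Set.range (Sigma.ι (fun k => (W k : Scheme.{u})) k ≫ e.hom) := by
      rw [← Set.range_comp, ← TopCat.coe_comp, ← Scheme.Hom.comp_base, Category.assoc, he k,
        Scheme.Opens.range_ι]
    rw [h2]
    exact φ.isClosedMap _ h1
  have hcov : ∀ z : Z, ∃ k, z ∈ W k := by
    intro z
    obtain ⟨v, rfl⟩ := φ.surjective z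
    obtain ⟨y, rfl⟩ := e.hom.surjective v
    obtain ⟨k, x, rfl⟩ := exists_sigmaι_eq _ y
    refine ⟨k, ?_⟩
    have : φ (e.hom (Sigma.ι (fun k => (W k : Scheme.{u})) k x)) = (W k).ι x := by
      rw [← he k]; rfl
    rw [this]
    have : (W k).ι x ∈ Set.range (W k).ι := ⟨x, rfl⟩
    rwa [Scheme.Opens.range_ι] at this
  exact exists_section_of_clopen_cover φ n (fun j => W (eqv.symm j)) (fun j => hcl _)
    (fun z => by obtain ⟨k, hk⟩ := hcov z; exact ⟨eqv k, by simpa using hk⟩)
    (fun j => Sigma.ι (fun k => (W k : Scheme.{u})) (eqv.symm j) ≫ e.hom)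
    (fun j => by rw [Category.assoc]; exact he _)

end Groth.Agent.Lib.Helper8NormalSepEt
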