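import Mathlib
import Groth.Prelude.Def_AbDual

/-!
# Helper8PRank: the p-rank is an isogeny invariant (counting argument)

* `rank_eq_of_isogeny`: abstract group theory. A surjective homomorphism `f : A → B` of commutative groups
  with finite kernel, such that `|A[p^m]| = p^(m i)` and `|B[p^m]| = p^(m j)` for all `m`, forces `i = j`.
* `exists_section`, `finite_sections`: a finite (surjective) scheme over an algebraically closed field has
  finitely many (at least one) rational points.
* `exists_lift_point`, `finite_fiber`: a finite surjective morphism `h : X ⟶ Y` of `S`-schemes is surjective with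
  finite fibres on `K`-points (`K` algebraically closed).
* `main16673`.
-/

set_option autoImplicit false
universe u
open CategoryTheory CategoryTheory.Limits MonoidalCategory CartesianMonoidalCategory MonObj GrpObj AlgebraicGeometry

namespace Groth.Agent.Helper8PRank

section GroupTheory

theorem card_eq_ker_mul_range {G G' : Type*} [Group G] [Group G'] (φ : G →* G') :
    Nat.card G = Nat.card φ.ker * Nat.card φ.range := by
  rw [← Subgroup.index_ker, Subgroup.card_mul_index]

variable {A B : Type*} [CommGroup A] [CommGroup B]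

theorem rank_eq_of_isogeny (f : A →* B) (hsurj : Function.Surjective f) [hker : Finite f.ker]
    (p : ℕ) (hp : 1 < p) (i j : ℕ)
    (hA : ∀ m, Nat.card ((powMonoidHom (p ^ m) : A →* A).ker) = p ^ (m * i))
    (hB : ∀ m, Nat.card ((powMonoidHom (p ^ m) : B →* B).ker) = p ^ (m * j)) : i = j := by
  have hp0 : 0 < p := by omega
  set n := Nat.card f.ker with hn
  have hn0 : 0 < n := Nat.card_pos
  have finA : ∀ m, Finite ((powMonoidHom (p ^ m) : A →* A).ker) := fun m =>
    Nat.finite_of_card_ne_zero (by rw [hA]; exact (pow_pos hp0 _).ne')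
  have finB : ∀ m, Finite ((powMonoidHom (p ^ m) : B →* B).ker) := fun m =>
    Nat.finite_of_card_ne_zero (by rw [hB]; exact (pow_pos hp0 _).ne')
  -- first inequality
  have h1 : ∀ m, p ^ (m * i) ≤ n * p ^ (m * j) := by
    intro m
    let TA : Subgroup A := (powMonoidHom (p ^ m) : A →* A).ker
    let TB : Subgroup B := (powMonoidHom (p ^ m) : B →* B).ker
    let φ : TA →* B := f.comp TA.subtype
    have hk : Nat.card φ.ker ≤ n := by
      refine Nat.card_le_card_of_injective
        (fun g : φ.ker => (⟨g.1.1, MonoidHom.mem_ker.mpr (MonoidHom.mem_ker.mp g.2)⟩ : f.ker)) ?_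
      intro a b hab
      have h0 := congrArg (fun z => z.1) hab
      exact Subtype.ext (Subtype.ext h0)
    have hr : Nat.card φ.range ≤ p ^ (m * j) := by
      rw [← hB m]
      haveI := finB m
      have hmem : ∀ b : φ.range, b.1 ∈ TB := by
        rintro ⟨b, a, rfl⟩
        show (f a.1) ^ (p ^ m) = 1
        rw [← map_pow, show a.1 ^ (p ^ m) = 1 from a.2, map_one]
      refine Nat.card_le_card_of_injective (fun b : φ.range => (⟨b.1, hmem b⟩ : TB)) ?_
      intro a b hab
      have h0 := congrArg (fun z => z.1) hab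
      exact Subtype.ext h0
    calc p ^ (m * i) = Nat.card TA := (hA m).symm
      _ = Nat.card φ.ker * Nat.card φ.range := card_eq_ker_mul_range φ
      _ ≤ n * p ^ (m * j) := Nat.mul_le_mul hk hr
  -- second inequality
  have h2 : ∀ m, p ^ (m * j) ≤ p ^ (m * i) * n := by
    intro m
    let TA : Subgroup A := (powMonoidHom (p ^ m) : A →* A).ker
    let TB : Subgroup B := (powMonoidHom (p ^ m) : B →* B).ker
    let H : Subgroup A := TB.comap f
    let ψ : H →* A := (powMonoidHom (p ^ m) : A →* A).comp H.subtype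
    let e1 : ψ.ker → TA := fun g => ⟨g.1.1, MonoidHom.mem_ker.mpr (MonoidHom.mem_ker.mp g.2)⟩
    have he1 : Function.Injective e1 := by
      intro a b hab
      have h0 := congrArg (fun z => z.1) hab
      exact Subtype.ext (Subtype.ext h0)
    have hmem : ∀ a : ψ.range, a.1 ∈ f.ker := by
      rintro ⟨a, g, rfl⟩
      rw [MonoidHom.mem_ker]
      show f (g.1 ^ (p ^ m)) = 1
      rw [map_pow]
      exact g.2
    let e2 : ψ.range → f.ker := fun a => ⟨a.1, hmem a⟩
    have he2 : Function.Injective e2 := by
      intro a b hab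
      have h0 := congrArg (fun z => z.1) hab
      exact Subtype.ext h0
    haveI := finA m
    haveI : Finite ψ.ker := Finite.of_injective e1 he1
    haveI : Finite ψ.range := Finite.of_injective e2 he2
    have hk : Nat.card ψ.ker ≤ p ^ (m * i) := by
      rw [← hA m]
      exact Nat.card_le_card_of_injective e1 he1
    have hr : Nat.card ψ.range ≤ n := Nat.card_le_card_of_injective e2 he2
    have hcard : Nat.card H = Nat.card ψ.ker * Nat.card ψ.range := card_eq_ker_mul_range ψ
    haveI hHfin : Finite H := Nat.finite_of_card_ne_zero (by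
      rw [hcard]; exact (Nat.mul_pos Nat.card_pos Nat.card_pos).ne')
    have hsur : Nat.card TB ≤ Nat.card H := by
      refine Nat.card_le_card_of_surjective (fun g : H => (⟨f g.1, g.2⟩ : TB)) ?_
      rintro ⟨b, hb⟩
      obtain ⟨a, rfl⟩ := hsurj b
      exact ⟨⟨a, hb⟩, rfl⟩
    calc p ^ (m * j) = Nat.card TB := (hB m).symm
      _ ≤ Nat.card H := hsur
      _ = Nat.card ψ.ker * Nat.card ψ.range := hcard
      _ ≤ p ^ (m * i) * n := Nat.mul_le_mul hk hr
  have hlt' : n < p ^ n := Nat.lt_pow_self hp
  by_contra hij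
  rcases Nat.lt_or_gt_of_ne hij with hlt | hgt
  · have h3 := h2 n
    have h4 : p ^ (n * i) * n < p ^ (n * i) * p ^ n :=
      Nat.mul_lt_mul_of_lt_of_le' hlt' le_rfl (pow_pos hp0 _) |> fun h => by
        rw [Nat.mul_comm (p ^ (n * i)) n, Nat.mul_comm (p ^ (n * i)) (p ^ n)]; exact h
    have h5 : p ^ (n * i) * p ^ n ≤ p ^ (n * j) := by
      rw [← pow_add]
      apply Nat.pow_le_pow_right hp0
      have := Nat.mul_le_mul_left n hlt
      rw [Nat.mul_succ] at this
      exact this
    omega
  · have h3 := h1 n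
    have h4 : n * p ^ (n * j) < p ^ n * p ^ (n * j) :=
      Nat.mul_lt_mul_of_lt_of_le' hlt' le_rfl (pow_pos hp0 _)
    have h5 : p ^ n * p ^ (n * j) ≤ p ^ (n * i) := by
      rw [← pow_add]
      apply Nat.pow_le_pow_right hp0
      have := Nat.mul_le_mul_left n hgt
      rw [Nat.mul_succ] at this
      omega
    omega

end GroupTheory

section AG

variable {K : Type u} [Field K] [IsAlgClosed K]

theorem finite_sections {Z : Scheme.{u}} (π : Z ⟶ Spec (CommRingCat.of K)) [IsFinite π] :
    Finite {s : Spec (CommRingCat.of K) ⟶ Z // s ≫ π = 𝟙 _} := by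
  have hZ : Finite Z := by
    have h1 := π.finite_preimage_singleton (IsLocalRing.closedPoint K)
    exact Set.finite_univ_iff.mp (h1.subset (fun z _ => Subsingleton.elim _ _))
  exact Finite.of_injective _ (pointEquivClosedPoint π).injective

theorem exists_section {Z : Scheme.{u}} (π : Z ⟶ Spec (CommRingCat.of K)) [IsFinite π] [Nonempty Z] :
    ∃ s : Spec (CommRingCat.of K) ⟶ Z, s ≫ π = 𝟙 _ := by
  have : JacobsonSpace Z := LocallyOfFiniteType.jacobsonSpace π
  obtain ⟨c, -, hc⟩ := nonempty_inter_closedPoints (X := Z) Set.univ_nonempty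
    isClosed_univ.isLocallyClosed
  exact ⟨pointOfClosedPoint π c hc, pointOfClosedPoint_comp π c hc⟩

theorem exists_lift_point {S : Scheme.{u}} (t : Spec (CommRingCat.of K) ⟶ S) {X Y : Over S}
    (h : X ⟶ Y) [IsFinite h.left] [Surjective h.left] (y : Over.mk t ⟶ Y) :
    ∃ x : Over.mk t ⟶ X, x ≫ h = y := by
  let π := pullback.snd h.left y.left
  haveI : Nonempty ↥(pullback h.left y.left) := by
    obtain ⟨z, _⟩ := π.surjective (IsLocalRing.closedPoint K)
    exact ⟨z⟩
  obtain ⟨s, hs⟩ := exists_section π
  have e1 : (s ≫ pullback.fst h.left y.left) ≫ h.left = y.left := by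
    rw [Category.assoc, pullback.condition, ← Category.assoc]
    exact (congrArg (· ≫ y.left) hs).trans (Category.id_comp _)
  refine ⟨Over.homMk (s ≫ pullback.fst h.left y.left) ?_, Over.OverMorphism.ext e1⟩
  rw [← Over.w h, ← Category.assoc, e1]
  exact Over.w y

theorem finite_fiber {S : Scheme.{u}} (t : Spec (CommRingCat.of K) ⟶ S) {X Y : Over S}
    (h : X ⟶ Y) [IsFinite h.left] (y : Over.mk t ⟶ Y) :
    Finite {x : Over.mk t ⟶ X // x ≫ h = y} := by
  let π := pullback.snd h.left y.left
  haveI := finite_sections π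
  refine Finite.of_injective (fun x : {x : Over.mk t ⟶ X // x ≫ h = y} =>
    (⟨pullback.lift x.1.left (𝟙 _) (by rw [Category.id_comp, ← Over.comp_left, x.2]),
      pullback.lift_snd _ _ _⟩ :
      {s : Spec (CommRingCat.of K) ⟶ pullback h.left y.left // s ≫ π = 𝟙 _})) ?_
  intro a b hab
  have h1 := congrArg Subtype.val hab
  have h2 := congrArg (· ≫ pullback.fst h.left y.left) h1
  simp only [pullback.lift_fst] at h2
  exact Subtype.ext (Over.OverMorphism.ext h2)

end AG

theorem main16673 (k : Type u) [Field k] (p : ℕ) [Fact p.Prime]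
    (X Y : Over (Spec (CommRingCat.of k)))
    [GrpObj X] [IsCommMonObj X] [GrpObj Y] [IsCommMonObj Y]
    (h : X ⟶ Y) [IsMonHom h] [IsFinite h.left] [Surjective h.left]
    (i j : ℕ)
    (hi : ∀ m : ℕ, Nonempty (AbDual.torsPts X (p ^ m)
      (Over.mk (Spec.map (CommRingCat.ofHom (algebraMap k (AlgebraicClosure k))))) ≃*
      Multiplicative (Fin i → ZMod (p ^ m))))
    (hj : ∀ m : ℕ, Nonempty (AbDual.torsPts Y (p ^ m)
      (Over.mk (Spec.map (CommRingCat.ofHom (algebraMap k (AlgebraicClosure k))))) ≃*
      Multiplicative (Fin j → ZMod (p ^ m)))) :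
    i = j := by
  let t := Spec.map (CommRingCat.ofHom (algebraMap k (AlgebraicClosure k)))
  let T : Over (Spec (CommRingCat.of k)) := Over.mk t
  let f : (T ⟶ X) →* (T ⟶ Y) := IsMonHom.monoidHom h T
  have hsurj : Function.Surjective f := fun y => exists_lift_point t h y
  haveI hker : Finite f.ker := by
    haveI := finite_fiber t h (1 : T ⟶ Y)
    exact Finite.of_injective
      (fun x : f.ker => (⟨x.1, MonoidHom.mem_ker.mp x.2⟩ : {x : T ⟶ X // x ≫ h = 1}))
      (fun a b hab => Subtype.ext (congrArg Subtype.val hab))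
  have hp : 1 < p := (Fact.out : p.Prime).one_lt
  have cardZ : ∀ (r m : ℕ), Nat.card (Multiplicative (Fin r → ZMod (p ^ m))) = p ^ (m * r) := by
    intro r m
    haveI : NeZero (p ^ m) := ⟨(pow_pos (by omega) m).ne'⟩
    rw [show Nat.card (Multiplicative (Fin r → ZMod (p ^ m))) = Nat.card (Fin r → ZMod (p ^ m))
      from rfl, Nat.card_fun, Nat.card_zmod, Nat.card_eq_fintype_card, Fintype.card_fin, ← pow_mul]
  exact rank_eq_of_isogeny f hsurj p hp i j
    (fun m => by obtain ⟨e⟩ := hi m; exact (Nat.card_congr e.toEquiv).trans (cardZ i m))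
    (fun m => by obtain ⟨e⟩ := hj m; exact (Nat.card_congr e.toEquiv).trans (cardZ j m))

end Groth.Agent.Helper8PRank
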