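import Mathlib
import Groth.Prelude

set_option autoImplicit false
set_option linter.unusedVariables false
set_option linter.style.haveILetI false

/-!
# Base change of a countable product to the direct-limit perfection (Mittag-Leffler argument)
-/

universe u

open TensorProduct

namespace Groth.Agent.Lib.Helper8Perf

section general

/-- transitivity of projectivity along a ring map. -/
theorem projective_trans (R S N : Type*) [CommRing R] [CommRing S] [Algebra R S] [AddCommGroup N]
    [Module R N] [Module S N] [IsScalarTower R S N] [Module.Projective R S]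
    [Module.Projective S N] : Module.Projective R N := by
  classical
  obtain ⟨s, hs⟩ := (Module.projective_def' (R := S) (P := N)).mp inferInstance
  haveI : Module.Projective R (N →₀ S) :=
    Module.Projective.of_equiv' (finsuppLequivDFinsupp (M := S) (ι := N) R).symm
  exact Module.Projective.of_split (s.restrictScalars R)
    ((Finsupp.linearCombination S (id : N → N)).restrictScalars R)
    (LinearMap.ext fun x => LinearMap.congr_fun hs x)

theorem piRightHom_injective_of_free_finsupp (R : Type*) [CommRing R] (J : Type*) {ι : Type*}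
    (M : ι → Type*) [∀ i, AddCommGroup (M i)] [∀ i, Module R (M i)] :
    Function.Injective (TensorProduct.piRightHom R R (J →₀ R) M) := by
  classical
  rw [injective_iff_map_eq_zero]
  intro z hz
  have key : ∀ (z : (J →₀ R) ⊗[R] (∀ i, M i)) (j : J) (i : ι),
      (TensorProduct.finsuppScalarLeft R (∀ i, M i) J z j) i =
        TensorProduct.finsuppScalarLeft R (M i) J
          (TensorProduct.piRightHom R R (J →₀ R) M z i) j := by
    intro z j i
    induction z using TensorProduct.induction_on with
    | zero => simp
    | tmul f m => simp [TensorProduct.piRightHom_tmul]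
    | add x y hx hy => simp only [map_add, Finsupp.add_apply, Pi.add_apply, hx, hy]
  apply (TensorProduct.finsuppScalarLeft R (∀ i, M i) J).injective
  rw [map_zero]
  ext j i
  rw [key, hz]
  simp

theorem piRightHom_injective_of_projective (R : Type*) [CommRing R] (P : Type*) [AddCommGroup P]
    [Module R P] [Module.Projective R P] {ι : Type*}
    (M : ι → Type*) [∀ i, AddCommGroup (M i)] [∀ i, Module R (M i)] :
    Function.Injective (TensorProduct.piRightHom R R P M) := by
  obtain ⟨s, hs⟩ := (Module.projective_def' (R := R) (P := P)).mp inferInstance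
  rw [injective_iff_map_eq_zero]
  intro z hz
  have nat : ∀ (z : P ⊗[R] (∀ i, M i)) (i : ι),
      TensorProduct.piRightHom R R (P →₀ R) M (s.rTensor _ z) i =
        s.rTensor (M i) (TensorProduct.piRightHom R R P M z i) := by
    intro z i
    induction z using TensorProduct.induction_on with
    | zero => simp
    | tmul x m => simp [TensorProduct.piRightHom_tmul]
    | add x y hx hy => simp only [map_add, Pi.add_apply, hx, hy]
  have h0 : s.rTensor _ z = 0 := by
    apply piRightHom_injective_of_free_finsupp R P M
    rw [map_zero]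
    funext i
    rw [nat, hz]
    simp
  have h1 : z = (Finsupp.linearCombination R (id : P → P)).rTensor _ (s.rTensor _ z) := by
    rw [← LinearMap.rTensor_comp_apply, hs, LinearMap.rTensor_id_apply]
  rw [h1, h0, map_zero]

/-- a faithfully flat ring map `A → A'` is universally injective, also after restricting scalars. -/
theorem rTensor_injective_of_faithfullyFlat (R A A' : Type*) [CommRing R] [CommRing A]
    [CommRing A'] [Algebra R A] [Algebra A A'] [Algebra R A'] [IsScalarTower R A A']
    [Module.FaithfullyFlat A A'] (M : Type*) [AddCommGroup M] [Module R M] :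
    Function.Injective ((IsScalarTower.toAlgHom R A A').toLinearMap.rTensor M) := by
  have h1 := Module.FaithfullyFlat.tensorProduct_mk_injective (A := A) (B := A') (A ⊗[R] M)
  have h2 : ∀ z : A ⊗[R] M, (IsScalarTower.toAlgHom R A A').toLinearMap.rTensor M z =
      TensorProduct.AlgebraTensorModule.cancelBaseChange R A A A' M
        (TensorProduct.mk A A' (A ⊗[R] M) 1 z) := by
    intro z
    induction z using TensorProduct.induction_on with
    | zero => simp
    | tmul a m =>
      rw [LinearMap.rTensor_tmul, TensorProduct.mk_apply,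
        TensorProduct.AlgebraTensorModule.cancelBaseChange_tmul, Algebra.smul_def, mul_one]
      rfl
    | add x y hx hy => simp only [map_add, hx, hy]
  intro z w hzw
  rw [h2, h2] at hzw
  exact h1 ((TensorProduct.AlgebraTensorModule.cancelBaseChange R A A A' M).injective hzw)

end general

section tower

variable (p : ℕ) [Fact p.Prime] (R : Type u) [CommRing R] [CharP R p]

/-- `R` as an `R`-module through the `n`-th iterate of Frobenius. -/
def Rn (p : ℕ) (R : Type u) (n : ℕ) : Type u := R

instance (n : ℕ) : CommRing (Rn p R n) := inferInstanceAs (CommRing R)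

instance algRn (n : ℕ) : Algebra R (Rn p R n) :=
  RingHom.toAlgebra (iterateFrobenius R p n : R →+* Rn p R n)

instance algStep (n : ℕ) : Algebra (Rn p R n) (Rn p R (n + 1)) :=
  inferInstanceAs (Algebra R (FrobAlg.Twist p R))

instance (n : ℕ) : IsScalarTower R (Rn p R n) (Rn p R (n + 1)) :=
  IsScalarTower.of_algebraMap_eq (fun r => by
    show iterateFrobenius R p (n + 1) r = (iterateFrobenius R p n r) ^ p
    rw [iterateFrobenius_def, iterateFrobenius_def, pow_succ, pow_mul])

theorem faithfullyFlat_twist [Module.Projective R (FrobAlg.Twist p R)] :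
    Module.FaithfullyFlat R (FrobAlg.Twist p R) := by
  apply Module.FaithfullyFlat.of_comap_surjective
  intro P
  refine ⟨(⟨(P.asIdeal : Ideal R), P.isPrime⟩ : PrimeSpectrum (FrobAlg.Twist p R)), ?_⟩
  apply PrimeSpectrum.ext
  rw [PrimeSpectrum.comap_asIdeal]
  ext x
  rw [Ideal.mem_comap]
  show x ^ p ∈ P.asIdeal ↔ x ∈ P.asIdeal
  exact P.isPrime.pow_mem_iff_mem p (Fact.out : p.Prime).pos

/-- the identity `R → Rn 0`. -/
def idRn0 : R →ₗ[R] Rn p R 0 where
  toFun x := x
  map_add' _ _ := rfl
  map_smul' r x := by
    show r * x = iterateFrobenius R p 0 r * x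
    rw [iterateFrobenius_zero_apply]

theorem projective_Rn [Module.Projective R (FrobAlg.Twist p R)] (n : ℕ) :
    Module.Projective R (Rn p R n) := by
  induction n with
  | zero =>
    exact Module.Projective.of_equiv' (M := R)
      (LinearEquiv.ofBijective (idRn0 p R) ⟨fun _ _ h => h, fun y => ⟨y, rfl⟩⟩)
  | succ n ih =>
    haveI := ih
    haveI : Module.Projective (Rn p R n) (Rn p R (n + 1)) :=
      ‹Module.Projective R (FrobAlg.Twist p R)›
    exact projective_trans R (Rn p R n) (Rn p R (n + 1))

/-- transition maps `x ↦ x ^ p ^ (m - n)`. -/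
def fr (n m : ℕ) (h : n ≤ m) : Rn p R n →ₗ[R] Rn p R m where
  toFun x := iterateFrobenius R p (m - n) x
  map_add' x y := map_add (iterateFrobenius R p (m - n)) x y
  map_smul' := fun r (x : R) => by
    show iterateFrobenius R p (m - n) (iterateFrobenius R p n r * x) =
      iterateFrobenius R p m r * iterateFrobenius R p (m - n) x
    rw [map_mul, ← iterateFrobenius_add_apply, Nat.sub_add_cancel h]

theorem fr_self (n : ℕ) (x : Rn p R n) : fr p R n n le_rfl x = x := by
  show iterateFrobenius R p (n - n) x = x
  rw [Nat.sub_self, iterateFrobenius_zero_apply]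

theorem fr_fr (i j k : ℕ) (hij : i ≤ j) (hjk : j ≤ k) (x : Rn p R i) :
    fr p R j k hjk (fr p R i j hij x) = fr p R i k (hij.trans hjk) x := by
  show iterateFrobenius R p (k - j) (iterateFrobenius R p (j - i) x) =
    iterateFrobenius R p (k - i) x
  rw [← iterateFrobenius_add_apply]
  have : k - j + (j - i) = k - i := by omega
  rw [this]

instance : DirectedSystem (Rn p R) (fun i j h => fr p R i j h) where
  map_self i x := fr_self p R i x
  map_map k j i hij hjk x := fr_fr p R i j k hij hjk x

theorem fr_succ (n : ℕ) : fr p R n (n + 1) (Nat.le_succ n) =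
    (IsScalarTower.toAlgHom R (Rn p R n) (Rn p R (n + 1))).toLinearMap := by
  refine LinearMap.ext fun x => ?_
  show iterateFrobenius R p (n + 1 - n) x = x ^ p
  rw [Nat.add_sub_cancel_left, iterateFrobenius_one_apply]
  rfl

theorem fr_rTensor_injective [Module.Projective R (FrobAlg.Twist p R)] (M : Type*)
    [AddCommGroup M] [Module R M] (n m : ℕ) (h : n ≤ m) :
    Function.Injective ((fr p R n m h).rTensor M) := by
  induction m, h using Nat.le_induction with
  | base =>
    have h1 : fr p R n n le_rfl = LinearMap.id := LinearMap.ext fun x => fr_self p R n x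
    intro z w hzw
    have h2 : ∀ y, (fr p R n n (Nat.le_refl n)).rTensor M y = y := by
      intro y
      rw [show fr p R n n (Nat.le_refl n) = LinearMap.id from h1, LinearMap.rTensor_id_apply]
    rwa [h2, h2] at hzw
  | succ m hnm ih =>
    have h1 : fr p R n (m + 1) (Nat.le_succ_of_le hnm) =
        (fr p R m (m + 1) (Nat.le_succ m)).comp (fr p R n m hnm) :=
      LinearMap.ext fun x => (fr_fr p R n m (m + 1) hnm (Nat.le_succ m) x).symm
    rw [show fr p R n (m + 1) _ = _ from h1, LinearMap.rTensor_comp, LinearMap.coe_comp]
    refine Function.Injective.comp ?_ ih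
    rw [fr_succ]
    haveI : Module.FaithfullyFlat (Rn p R m) (Rn p R (m + 1)) := faithfullyFlat_twist p R
    exact rTensor_injective_of_faithfullyFlat R (Rn p R m) (Rn p R (m + 1)) M

variable [Algebra R (PerfectClosure R p)]

/-- the canonical maps `Rn n → PerfectClosure`. -/
def iota (halg : ∀ r, algebraMap R (PerfectClosure R p) r = PerfectClosure.of R p r)
    (n : ℕ) : Rn p R n →ₗ[R] PerfectClosure R p where
  toFun x := PerfectClosure.mk R p (n, x)
  map_add' x y := by
    show PerfectClosure.mk R p (n, x + y) =
      PerfectClosure.mk R p (n + n, (frobenius R p)^[n] x + (frobenius R p)^[n] y)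
    exact PerfectClosure.R.sound R p n n (x + y) _ (iterate_map_add _ n x y)
  map_smul' := fun r (x : R) => by
    show PerfectClosure.mk R p (n, iterateFrobenius R p n r * x) =
      r • PerfectClosure.mk R p (n, x)
    rw [Algebra.smul_def, halg]
    show PerfectClosure.mk R p (n, iterateFrobenius R p n r * x) =
      PerfectClosure.mk R p (0 + n, (frobenius R p)^[n] r * (frobenius R p)^[0] x)
    rw [zero_add, Function.iterate_zero, id_eq, coe_iterateFrobenius]

theorem iota_fr (halg : ∀ r, algebraMap R (PerfectClosure R p) r = PerfectClosure.of R p r)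
    (n m : ℕ) (h : n ≤ m) (x : Rn p R n) :
    iota p R halg m (fr p R n m h x) = iota p R halg n x := by
  show PerfectClosure.mk R p (m, iterateFrobenius R p (m - n) x) = PerfectClosure.mk R p (n, x)
  have h1 := PerfectClosure.R.sound R p (m - n) n x _ rfl
  rw [h1, Nat.sub_add_cancel h, coe_iterateFrobenius]

theorem iota_comp_fr (halg : ∀ r, algebraMap R (PerfectClosure R p) r = PerfectClosure.of R p r)
    (n m : ℕ) (h : n ≤ m) :
    (iota p R halg m).comp (fr p R n m h) = iota p R halg n :=
  LinearMap.ext fun x => iota_fr p R halg n m h x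

theorem iota_injective (halg : ∀ r, algebraMap R (PerfectClosure R p) r = PerfectClosure.of R p r)
    [Module.Projective R (FrobAlg.Twist p R)] (n : ℕ) :
    Function.Injective (iota p R halg n) := by
  have hF : Function.Injective (frobenius R p) := by
    haveI := faithfullyFlat_twist p R
    have h1 := FaithfulSMul.algebraMap_injective R (FrobAlg.Twist p R)
    exact fun a b hab => h1 hab
  intro x y hxy
  have h1 : PerfectClosure.mk R p (n, x) = PerfectClosure.mk R p (n, y) := hxy
  rw [PerfectClosure.mk_eq_iff] at h1
  obtain ⟨z, hz⟩ := h1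
  exact (hF.iterate (n + z)) hz

/-- the direct limit of the Frobenius tower is the perfect closure. -/
noncomputable def eqv (halg : ∀ r, algebraMap R (PerfectClosure R p) r = PerfectClosure.of R p r)
    [Module.Projective R (FrobAlg.Twist p R)] :
    Module.DirectLimit (Rn p R) (fr p R) ≃ₗ[R] PerfectClosure R p :=
  LinearEquiv.ofBijective
    (Module.DirectLimit.lift R ℕ (Rn p R) (fr p R) (iota p R halg)
      (fun i j hij x => iota_fr p R halg i j hij x))
    ⟨Module.DirectLimit.lift_injective _ _ (fun n => iota_injective p R halg n), fun y => by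
      obtain ⟨⟨k, r⟩, rfl⟩ := PerfectClosure.mk_surjective R p y
      exact ⟨Module.DirectLimit.of R ℕ (Rn p R) (fr p R) k r, by
        rw [Module.DirectLimit.lift_of]; rfl⟩⟩

theorem iota_rTensor_injective (halg : ∀ r, algebraMap R (PerfectClosure R p) r = PerfectClosure.of R p r)
    [Module.Projective R (FrobAlg.Twist p R)] (M : Type*)
    [AddCommGroup M] [Module R M] (n : ℕ) :
    Function.Injective ((iota p R halg n).rTensor M) := by
  have h1 : iota p R halg n =
      (eqv p R halg).toLinearMap ∘ₗ Module.DirectLimit.of R ℕ (Rn p R) (fr p R) n := by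
    refine LinearMap.ext fun x => ?_
    show _ = Module.DirectLimit.lift R ℕ (Rn p R) (fr p R) (iota p R halg)
      (fun i j hij x => iota_fr p R halg i j hij x)
      (Module.DirectLimit.of R ℕ (Rn p R) (fr p R) n x)
    rw [Module.DirectLimit.lift_of]
  have hb : Function.Injective
      ((Module.DirectLimit.of R ℕ (Rn p R) (fr p R) n).rTensor M) := by
    rw [injective_iff_map_eq_zero]
    intro z hz
    have h2 := TensorProduct.directLimitLeft_rTensor_of (fr p R) M z
    rw [hz, map_zero] at h2
    obtain ⟨m, hnm, h3⟩ := Module.DirectLimit.of.zero_exact h2.symm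
    exact (injective_iff_map_eq_zero _).mp (fr_rTensor_injective p R M n m hnm) z h3
  rw [h1, LinearMap.rTensor_comp, LinearMap.coe_comp]
  exact ((eqv p R halg).rTensor M).injective.comp hb

theorem exists_stage (halg : ∀ r, algebraMap R (PerfectClosure R p) r = PerfectClosure.of R p r)
    (L : Type*) [AddCommGroup L] [Module R L]
    (z : PerfectClosure R p ⊗[R] L) :
    ∃ (n : ℕ) (zn : Rn p R n ⊗[R] L), (iota p R halg n).rTensor L zn = z := by
  induction z using TensorProduct.induction_on with
  | zero => exact ⟨0, 0, map_zero _⟩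
  | tmul x l =>
    obtain ⟨⟨k, r⟩, rfl⟩ := PerfectClosure.mk_surjective R p x
    exact ⟨k, (r : Rn p R k) ⊗ₜ l, rfl⟩
  | add z w hz hw =>
    obtain ⟨n, zn, rfl⟩ := hz
    obtain ⟨m, wm, rfl⟩ := hw
    refine ⟨max n m, (fr p R n _ (le_max_left n m)).rTensor L zn +
      (fr p R m _ (le_max_right n m)).rTensor L wm, ?_⟩
    rw [map_add, ← LinearMap.rTensor_comp_apply, ← LinearMap.rTensor_comp_apply,
      iota_comp_fr, iota_comp_fr]

theorem stage_injective [Module.Projective R (FrobAlg.Twist p R)] {ι : Type*} (T : ι → Type*)
    [∀ i, AddCommGroup (T i)] [∀ i, Module R (T i)] (L : Type*) [AddCommGroup L] [Module R L]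
    (j : L →ₗ[R] ∀ i, T i) (hj : Function.Injective j) (e : ∀ i, L →ₗ[R] T i)
    (he : ∀ i l, e i l = j l i) (n : ℕ) (z : Rn p R n ⊗[R] L)
    (hz : ∀ i, LinearMap.lTensor (Rn p R n) (e i) z = 0) : z = 0 := by
  haveI := projective_Rn p R n
  have key : ∀ (z : Rn p R n ⊗[R] L) (i : ι),
      TensorProduct.piRightHom R R (Rn p R n) T (LinearMap.lTensor (Rn p R n) j z) i =
        LinearMap.lTensor (Rn p R n) (e i) z := by
    intro z i
    induction z using TensorProduct.induction_on with
    | zero => simp
    | tmul x l => simp [TensorProduct.piRightHom_tmul, he]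
    | add x y hx hy => simp only [map_add, Pi.add_apply, hx, hy]
  have h1 : LinearMap.lTensor (Rn p R n) j z = 0 := by
    apply piRightHom_injective_of_projective R (Rn p R n) T
    rw [map_zero]
    funext i
    rw [key, hz]
    rfl
  have h2 := Module.Flat.lTensor_preserves_injective_linearMap (M := Rn p R n) j hj
  exact h2 (h1.trans (map_zero _).symm)

theorem main (halg : ∀ r, algebraMap R (PerfectClosure R p) r = PerfectClosure.of R p r)
    [Module.Projective R (FrobAlg.Twist p R)] {ι : Type*} (T : ι → Type*)
    [∀ i, AddCommGroup (T i)] [∀ i, Module R (T i)] (L : Type*) [AddCommGroup L] [Module R L]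
    (j : L →ₗ[R] ∀ i, T i) (hj : Function.Injective j) (e : ∀ i, L →ₗ[R] T i)
    (he : ∀ i l, e i l = j l i) :
    Function.Injective
      (LinearMap.pi fun i => LinearMap.lTensor (PerfectClosure R p) (e i) :
        PerfectClosure R p ⊗[R] L →ₗ[R] ∀ i, PerfectClosure R p ⊗[R] T i) := by
  rw [injective_iff_map_eq_zero]
  intro z hz
  have hz' : ∀ i, LinearMap.lTensor (PerfectClosure R p) (e i) z = 0 := fun i => congrFun hz i
  obtain ⟨n, zn, rfl⟩ := exists_stage p R halg L z
  have h0 : zn = 0 := by
    apply stage_injective p R T L j hj e he n zn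
    intro i
    apply iota_rTensor_injective p R halg (T i) n
    rw [map_zero, ← hz' i, ← LinearMap.comp_apply, ← LinearMap.comp_apply,
      LinearMap.rTensor_comp_lTensor, LinearMap.lTensor_comp_rTensor]
  rw [h0, map_zero]

end tower

end Groth.Agent.Lib.Helper8Perf
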