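import Mathlib
import Groth.Prelude
import Groth.Agent.Lib.Helper8PicFpqc1

/-!
# fpqc descent of "`f_* L` invertible and `f^* f_* L ≅ L`", general form (helper8)

For `f : X ⟶ Y` quasi-compact quasi-separated with `O_Y ≅ f_* O_X`, `g : Y' ⟶ Y` faithfully flat
quasi-compact, and an invertible `L` on `X` whose pull-back to `X' = X ×_Y Y'` is isomorphic to the
pull-back of an invertible module on `Y'`: `f_* L` is invertible and the counit `f^* f_* L ⟶ L` is an
isomorphism (`main`); local generators over preimages of opens of the base (`exists_local_gen`).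
-/

set_option autoImplicit false
universe u

open CategoryTheory CategoryTheory.Limits AlgebraicGeometry TopologicalSpace Opposite
open AlgebraicGeometry.Scheme.Modules

namespace Groth.Agent.Lib.Helper8PicFpqc2

open Groth.Agent.Lib.Helper23.SecTw Groth.Agent.Lib.Helper23.GenLocus
  Groth.Agent.Lib.Helper23.Extend Groth.Agent.Lib.Helper6 Groth.Agent.Helper13PullbackUnit
  Groth.Agent.Lib.Helper27PullGen Groth.Agent.Lib.Helper23.PB Groth.Agent.Lib.Helper23.GenNear
open Groth.Agent.Lib.Helper8PicFpqc1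

section Push

open Groth.Agent.Helper18PBUnit Groth.Agent.Lib.R2H4FibTriv

variable {X Y : Scheme.{u}} (f : X ⟶ Y)

/-- a module isomorphic to the pull-back of an invertible module has local generators over preimages of
opens of the base. -/
theorem claim_of_iso_pullback (N : X.Modules) (N' : Y.Modules) (hN' : PicF.IsInvertible N')
    (ε : N ≅ (Scheme.Modules.pullback f).obj N') :
    ∀ y : Y, ∃ (U : Y.Opens) (_ : y ∈ U) (t : Γ(N, f ⁻¹ᵁ U)), IsGen N (f ⁻¹ᵁ U) t := by
  intro y
  haveI : N'.IsQuasicoherent := isQuasicoherent_of_isInvertible N' hN'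
  obtain ⟨U, a, hyU, ha⟩ := exists_gen N' hN' y
  exact ⟨U, hyU, _, isGen_of_iso ε.symm (isGen_pullback f N' U a ha)⟩

/-- if `N` has local generators over preimages of opens of the base and `O_Y ≅ f_* O_X`: a generator of
`f_* N` over `V` is a generator of `N` over `f⁻¹ V`. -/
theorem isGen_of_isGen_pushforward' (hfV : ∀ V : Y.Opens, IsIso (f.app V)) (N : X.Modules)
    (claim : ∀ y : Y, ∃ (U : Y.Opens) (_ : y ∈ U) (t : Γ(N, f ⁻¹ᵁ U)), IsGen N (f ⁻¹ᵁ U) t)
    (V : Y.Opens) (b : Γ(N, f ⁻¹ᵁ V))
    (hb : IsGen ((pushforward f).obj N) V (down f b)) : IsGen N (f ⁻¹ᵁ V) b := by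
  have hpush := push_invertible_of_local_gen f hfV N claim
  haveI := hpush.2
  haveI : ((pushforward f).obj N).IsQuasicoherent := isQuasicoherent_of_isInvertible _ hpush.1
  have h1 := isGen_pullback f ((pushforward f).obj N) V (down f b) hb
  have h2 := isGen_of_iso (asIso ((pullbackPushforwardAdjunction f).counit.app N)) h1
  have h3 := counit_unitSec f N (le_refl (f ⁻¹ᵁ V)) b
  rw [asIso_hom, h3] at h2
  have h4 : (ConcreteCategory.hom (N.presheaf.map (homOfLE (le_refl (f ⁻¹ᵁ V))).op)) b = b :=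
    Groth.Agent.Lib.Helper23.SecTw.res_self N b
  rw [h4] at h2
  exact h2

end Push

section Main

open Groth.Agent.Helper18PBUnit Groth.Agent.Lib.R2H4FibTriv Groth.Agent.Helper13AffBC
  Groth.Agent.Helper13QcqsBC

variable {X Y X' Y' : Scheme.{u}} (f : X ⟶ Y) (g : Y' ⟶ Y) (g' : X' ⟶ X) (f' : X' ⟶ Y')
  (H : IsPullback g' f' f g)

include H in
/-- **fpqc descent, local generators**: `f` qcqs with `O_Y ≅ f_* O_X`, `g` faithfully flat quasi-compact,
`L` invertible on `X` whose pull-back to `X'` is the pull-back of an invertible module on `Y'`: then `L`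
has local generators over preimages of opens of `Y`. -/
theorem exists_local_gen [QuasiCompact f] [QuasiSeparated f] (hfV : ∀ V : Y.Opens, IsIso (f.app V))
    [Flat g] [Surjective g] [QuasiCompact g] (L : X.Modules) (hL : PicF.IsInvertible L)
    (N' : Y'.Modules) (hN' : PicF.IsInvertible N')
    (ε : (Scheme.Modules.pullback g').obj L ≅ (Scheme.Modules.pullback f').obj N') :
    ∀ y : Y, ∃ (U : Y.Opens) (_ : y ∈ U) (t : Γ(L, f ⁻¹ᵁ U)), IsGen L (f ⁻¹ᵁ U) t := by
  have hfV' : ∀ V : Y'.Opens, IsIso (f'.app V) := Groth.Agent.Lib.H9FlatBC.isIso_app_baseChange H hfV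
  haveI : L.IsQuasicoherent := isQuasicoherent_of_isInvertible L hL
  haveI : ((pushforward f).obj L).IsQuasicoherent :=
    Groth.Agent.Lib.Helper23.QCohLocal.isQuasicoherent_pushforward f L
  haveI : IsIso (bcMap f g g' f' H L) := isIso_bcMap_of_flat f g g' f' H L
  have claim' := claim_of_iso_pullback f' _ N' hN' ε
  have hN := push_invertible_of_local_gen f' hfV' ((Scheme.Modules.pullback g').obj L) claim'
  have hgM : PicF.IsInvertible ((Scheme.Modules.pullback g).obj ((pushforward f).obj L)) :=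
    Groth.Agent.Lib.Helper23.AmpleIso.isInvertible_of_iso (asIso (bcMap f g g' f' H L)).symm hN.1
  have hMf : FlatMod.IsFinLocFree ((pushforward f).obj L) :=
    Groth.Agent.Lib.Helper2.FamDesc.isFinLocFree_of_pullback g _
      (Groth.Agent.Helper18PBUnit.isFinLocFree_of_isInvertible hgM)
  have hM : PicF.IsInvertible ((pushforward f).obj L) := by
    intro y
    obtain ⟨U, n, hyU, ⟨e⟩⟩ := hMf y
    obtain ⟨y', rfl⟩ := g.surjective y
    obtain ⟨U', hy'U', ⟨e'⟩⟩ :=
      Groth.Agent.Lib.Helper26.ModRank.exists_restrict_iso_freeMod_pullback g _ e y' hyU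
    obtain ⟨U'', hy'U'', ⟨e''⟩⟩ := hgM y'
    haveI : ((Scheme.Modules.pullback g).obj ((pushforward f).obj L)).IsQuasicoherent :=
      isQuasicoherent_of_isInvertible _ hgM
    have hn : n = 1 := Groth.Agent.Lib.Helper26.ModRank.eq_of_restrict_iso_freeMod
      ((Scheme.Modules.pullback g).obj ((pushforward f).obj L)) e'
      (e'' ≪≫ (coproductUniqueIso (fun _ : Fin 1 => Coh.structureModule (U'' : Scheme.{u}))).symm)
      y' hy'U' hy'U''
    subst hn
    exact ⟨U, hyU, ⟨e ≪≫ coproductUniqueIso (fun _ : Fin 1 => Coh.structureModule (U : Scheme.{u}))⟩⟩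
  intro y
  obtain ⟨V, a, hyV, ha⟩ := exists_gen _ hM y
  refine ⟨V, hyV, a, ?_⟩
  haveI : Surjective g' := MorphismProperty.of_isPullback H.flip inferInstance
  apply isGen_of_isGen_unitSec' g' g'.surjective L hL
  have h1 := isGen_pullback g ((pushforward f).obj L) V a ha
  have h2 := isGen_of_iso (asIso (bcMap f g g' f' H L)) h1
  rw [asIso_hom, bcMap_unitSec] at h2
  have h3 := isGen_of_isGen_pushforward' f' hfV' _ claim' (g ⁻¹ᵁ V) _ h2
  have hle : g' ⁻¹ᵁ (f ⁻¹ᵁ V) ≤ f' ⁻¹ᵁ (g ⁻¹ᵁ V) := by
    intro x hx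
    have h2 : f (g' x) = g (f' x) := by
      have := congrArg (fun t : X' ⟶ Y => t x) H.w
      simpa using this
    show g (f' x) ∈ V
    rw [← h2]
    exact hx
  have h4 := h3.mono hle
  rwa [Groth.Agent.Lib.Helper23.PB.res_unitSec g' L _ (le_refl (g' ⁻¹ᵁ (f ⁻¹ᵁ V))) (le_refl _) hle,
    Groth.Agent.Lib.Helper23.SecTw.res_self] at h4

include H in
/-- **fpqc descent**: under the hypotheses of `exists_local_gen`, `f_* L` is invertible and
`f^* f_* L ≅ L`. -/
theorem main [QuasiCompact f] [QuasiSeparated f] (hfV : ∀ V : Y.Opens, IsIso (f.app V))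
    [Flat g] [Surjective g] [QuasiCompact g] (L : X.Modules) (hL : PicF.IsInvertible L)
    (N' : Y'.Modules) (hN' : PicF.IsInvertible N')
    (ε : (Scheme.Modules.pullback g').obj L ≅ (Scheme.Modules.pullback f').obj N') :
    PicF.IsInvertible ((pushforward f).obj L) ∧
      IsIso ((pullbackPushforwardAdjunction f).counit.app L) :=
  push_invertible_of_local_gen f hfV L (exists_local_gen f g g' f' H hfV L hL N' hN' ε)

end Main

end Groth.Agent.Lib.Helper8PicFpqc2
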