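import Mathlib
import Groth.Agent.Lib.R2H4CocycleGlue
import Groth.Agent.Lib.Helper23GenNear
import Groth.Agent.Lib.Helper20ZClos2

/-!
# Extending an invertible module across points where it is trivialised (helper4, round 2)

* `exists_extension_of_frames` : `M` an `O_X`-module, `U` open, `W i` a cover of `X` with `W i ∩ W j ⊆ U` (`i ≠ j`),
  sections `φ i ∈ Γ(M, W i)` generating `M` on `W i ∩ U`.  Then there are an invertible `L` and `Φ : L ⟶ M`
  bijective on the sections over all opens inside `U`.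
* `exists_extension` : the same for a module `N` on the open subscheme `U` : an invertible `L` on `X` with `L|_U ≅ N`.
-/

set_option autoImplicit false
set_option linter.style.haveILetI false
universe u
open CategoryTheory Limits AlgebraicGeometry TopologicalSpace Opposite

namespace Groth.Agent.Lib.R2H4ExtGlue
open Groth.Agent.Lib.Helper23.SecTw Groth.Agent.Lib.Helper6 Groth.Agent.Lib.R2H4CocycleGlue
  Groth.Agent.Lib.Helper23.GenNear Groth.Agent.Lib.Helper23.GenLocus Groth.Agent.Lib.Helper23.Extend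

variable {X : Scheme.{u}}

theorem bijective_resf_of_eq {A B : X.Opens} (h : A ≤ B) (e : A = B) :
    Function.Bijective (resf h : Γ(X, B) → Γ(X, A)) := by
  subst e
  have : (resf h : Γ(X, A) → Γ(X, A)) = id := by
    funext r
    change X.presheaf.map (𝟙 _) r = r
    rw [X.presheaf.map_id]
    rfl
  rw [this]
  exact Function.bijective_id

theorem bijective_ι_app (U W : X.Opens) (hW : W ≤ U) : Function.Bijective (U.ι.app W) := by
  rw [Scheme.Opens.ι_app]
  refine bijective_resf_of_eq _ ?_
  rw [Scheme.Hom.image_preimage_eq_opensRange_inf, Scheme.Opens.opensRange_ι]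
  exact inf_eq_right.2 hW

theorem exists_extension_of_frames (U : X.Opens) (M : X.Modules) {ι : Type*} (W : ι → X.Opens)
    (hcov : ∀ x : X, ∃ i, x ∈ W i) (hWU : ∀ i j, i ≠ j → W i ⊓ W j ≤ U)
    (φ : ∀ i, Γ(M, W i)) (hφ : ∀ i, IsGen M (W i ⊓ U) (res M inf_le_left (φ i))) :
    ∃ (L : X.Modules) (Φ : L ⟶ M), PicF.IsInvertible L ∧
      ∀ A : X.Opens, A ≤ U → Function.Bijective (Φ.app A) := by
  classical
  let c : ∀ i j, Γ(X, W i ⊓ W j) := fun i j =>
    if h : i = j then 1 else
      coef (hφ i) (le_inf inf_le_left (hWU i j h) : W i ⊓ W j ≤ W i ⊓ U)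
        (res M inf_le_right (φ j))
  have hc_eq : ∀ i, c i i = 1 := fun i => dif_pos rfl
  have hc_ne : ∀ i j (h : i ≠ j), c i j =
      coef (hφ i) (le_inf inf_le_left (hWU i j h) : W i ⊓ W j ≤ W i ⊓ U)
        (res M inf_le_right (φ j)) := fun i j h => dif_neg h
  -- the defining relation
  have hspec0 : ∀ i j (h : i ≠ j), res M (inf_le_right : W i ⊓ W j ≤ W j) (φ j) =
      c i j • res M (inf_le_left : W i ⊓ W j ≤ W i) (φ i) := by
    intro i j h
    have h1 := coef_spec (hφ i) (le_inf inf_le_left (hWU i j h) : W i ⊓ W j ≤ W i ⊓ U)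
      (res M inf_le_right (φ j))
    rw [res_res] at h1
    rw [hc_ne i j h]
    exact h1.symm
  have hspec : ∀ i j (T : X.Opens) (hT : T ≤ W i ⊓ W j) (_ : T ≤ U),
      res M (hT.trans inf_le_right) (φ j) = resf hT (c i j) • res M (hT.trans inf_le_left) (φ i) := by
    intro i j T hT hTU
    by_cases h : i = j
    · subst h
      rw [hc_eq, resf, map_one, one_smul]
    · have h1 := congrArg (res M hT) (hspec0 i j h)
      rw [res_smul, res_res, res_res] at h1
      exact h1
  -- generators on smaller opens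
  have hgenT : ∀ i (T : X.Opens) (hT : T ≤ W i) (hTU : T ≤ U), IsGen M T (res M hT (φ i)) := by
    intro i T hT hTU
    have := (hφ i).mono (le_inf hT hTU)
    rwa [res_res] at this
  have hcoc : IsCoc W c := by
    refine isCoc_of_res W c (fun i j => ?_) (fun i j k => ?_)
    · by_cases h : i = j
      · subst h; rw [hc_eq]; exact isUnit_one
      · have h1 := hgenT i (W i ⊓ W j) inf_le_left (hWU i j h)
        have h2 := hgenT j (W i ⊓ W j) inf_le_right (hWU i j h)
        rw [hspec0 i j h] at h2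
        exact (isGen_smul_iff h1 _).1 h2
    · by_cases hij : i = j
      · by_cases hjk : j = k
        · subst hij; subst hjk
          rw [hc_eq]
          simp only [resf, map_one, mul_one]
        · have hTU : W i ⊓ W j ⊓ W k ≤ U :=
            (le_inf (inf_le_left.trans inf_le_right) inf_le_right).trans (hWU j k hjk)
          apply (hgenT i _ (inf_le_left.trans inf_le_left) hTU _ le_rfl).1
          simp only [res_self]
          rw [← hspec i k _ _ hTU, mul_comm, mul_smul, ← hspec i j _ _ hTU, ← hspec j k _ _ hTU]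
      · have hTU : W i ⊓ W j ⊓ W k ≤ U := inf_le_left.trans (hWU i j hij)
        apply (hgenT i _ (inf_le_left.trans inf_le_left) hTU _ le_rfl).1
        simp only [res_self]
        rw [← hspec i k _ _ hTU, mul_comm, mul_smul, ← hspec i j _ _ hTU, ← hspec j k _ _ hTU]
  obtain ⟨L, ε, hL, hgen, htr⟩ := exists_glue W hcov c hcoc
  obtain ⟨Φ, hΦ⟩ := exists_hom_of_frames L M W hcov ε φ hgen (fun i j g hg => by
    have h1 : g * c i j = 1 := by
      apply ((hgen i) (W i ⊓ W j) inf_le_left).1
      change (g * c i j) • res L inf_le_left (ε i) = (1 : Γ(X, W i ⊓ W j)) • res L inf_le_left (ε i)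
      rw [one_smul, mul_smul, ← htr i j, ← hg]
    by_cases h : i = j
    · subst h
      rw [hc_eq, mul_one] at h1
      rw [h1, one_smul]
    · rw [hspec0 i j h, ← mul_smul, h1, one_smul])
  refine ⟨L, Φ, hL, fun A hA => ?_⟩
  refine bijective_app_of_cover Φ A (fun x hx => ?_)
  obtain ⟨i, hi⟩ := hcov x
  refine ⟨W i ⊓ U, ⟨hi, hA hx⟩, fun W' hW' => ?_⟩
  rw [ConcreteCategory.isIso_iff_bijective]
  have hf₁ := (hgen i) W' (hW'.trans inf_le_left)
  have hf₂ := hgenT i W' (hW'.trans inf_le_left) (hW'.trans inf_le_right) W' le_rfl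
  have hcomp : ⇑(ConcreteCategory.hom (Φ.app W')) ∘
      (fun r : Γ(X, W') => r • res L (hW'.trans inf_le_left) (ε i)) =
      fun r : Γ(X, W') => r • res M le_rfl (res M (hW'.trans inf_le_left) (φ i)) := by
    funext r
    simp only [Function.comp_apply]
    rw [res_self]
    exact hΦ i W' (hW'.trans inf_le_left) r
  rw [← Function.Bijective.of_comp_iff _ hf₁, hcomp]
  exact hf₂

/-- **Extension of an invertible module from an open subscheme.** -/
theorem exists_extension (U : X.Opens) (N : (↑U : Scheme.{u}).Modules) {ι : Type*}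
    (W : ι → X.Opens) (hcov : ∀ x : X, ∃ i, x ∈ W i) (hWU : ∀ i j, i ≠ j → W i ⊓ W j ≤ U)
    (e : ∀ i, Γ(N, U.ι ⁻¹ᵁ W i)) (he : ∀ i, IsGen N (U.ι ⁻¹ᵁ W i) (e i)) :
    ∃ L : X.Modules, PicF.IsInvertible L ∧ Nonempty (L.restrict U.ι ≅ N) := by
  let M := (Scheme.Modules.pushforward U.ι).obj N
  have hφ : ∀ i, IsGen M (W i ⊓ U) (res M inf_le_left (show Γ(M, W i) from e i)) := by
    intro i W' hW'
    have h1 := ((he i).mono (U.ι.preimage_mono (inf_le_left : W i ⊓ U ≤ W i)))
      (U.ι ⁻¹ᵁ W') (U.ι.preimage_mono hW')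
    exact h1.comp (bijective_ι_app U W' (hW'.trans inf_le_right))
  obtain ⟨L, Φ, hL, hΦ⟩ := exists_extension_of_frames U M W hcov hWU (fun i => e i) hφ
  refine ⟨L, hL, ?_⟩
  have : IsIso ((Scheme.Modules.restrictFunctor U.ι).map Φ) :=
    Groth.Agent.Lib.Helper20.ZClosLib.isIso_of_bijective_on_affines _
      (fun V _ => hΦ (U.ι ''ᵁ V) (image_le_self U V))
  exact ⟨asIso ((Scheme.Modules.restrictFunctor U.ι).map Φ) ≪≫
    (Scheme.Modules.restrictFunctorAdjCounitIso U.ι).app N⟩

end Groth.Agent.Lib.R2H4ExtGlue
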