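import Mathlib
import Groth.Prelude
import Groth.Agent.Lib.Helper8PicFpqc2
import Groth.Agent.Lib.R2H4ExtGlue
import Groth.Agent.Lib.Helper22Hartogs2
import Groth.Agent.Lib.Helper28SkLift
import Groth.Agent.Lib.Helper28Normal
import Groth.Agent.Lib.Helper23RestrJ

/-!
# Extending an invertible module across a closed point, given an extension étale locally (helper8)
-/

set_option autoImplicit false
universe u

open CategoryTheory CategoryTheory.Limits AlgebraicGeometry TopologicalSpace Opposite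
open AlgebraicGeometry.Scheme.Modules

namespace Groth.Agent.Lib.Helper8PicExtEt

open Groth.Agent.Lib.Helper23.SecTw Groth.Agent.Lib.Helper23.GenLocus
  Groth.Agent.Lib.Helper23.Extend Groth.Agent.Lib.Helper6 Groth.Agent.Helper13PullbackUnit
  Groth.Agent.Lib.Helper27PullGen Groth.Agent.Lib.Helper23.PB Groth.Agent.Lib.Helper23.GenNear

section Depth

/-- a Noetherian local ring of dimension `2` satisfying `(S₂)` has depth at least `2`. -/
theorem two_le_depth_of_hasSk {A : Type u} [CommRing A] [IsLocalRing A] [IsNoetherianRing A]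
    (hS : LocCoh.HasSk 2 A A) (hdim : ringKrullDim A = 2) : (2 : ℕ∞) ≤ LocCoh.depth A A := by
  have h1 := (Groth.Agent.Lib.Helper28.hasSk_self_iff_enat (A := A) 2).1 hS
    (IsLocalRing.maximalIdeal A)
  have hh : (IsLocalRing.maximalIdeal A).height = 2 := by
    have h2 := IsLocalRing.maximalIdeal_height_eq_ringKrullDim (R := A)
    rw [hdim] at h2
    have h3 : (((IsLocalRing.maximalIdeal A).height : ℕ∞) : WithBot ℕ∞) = ((2 : ℕ∞) : WithBot ℕ∞) := h2
    exact WithBot.coe_injective h3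
  rw [hh] at h1
  have e : A ≃+* Localization.AtPrime (IsLocalRing.maximalIdeal A) :=
    (IsLocalization.atUnits A (IsLocalRing.maximalIdeal A).primeCompl
      (S := Localization.AtPrime (IsLocalRing.maximalIdeal A)) (by
        intro x hx
        exact (IsLocalRing.notMem_maximalIdeal.1 hx))).toRingEquiv
  rw [Groth.Agent.Lib.Helper28.depth_self_eq_of_ringEquiv e]
  simpa using h1

end Depth

section Hartogs

variable {Y : Scheme.{u}} [IsLocallyNoetherian Y]

/-- Hartogs: if the local rings outside the open `U` have depth at least two, `O_Y → j_* O_U` is an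
isomorphism. -/
theorem bijective_ι_app_of_depth (U : Y.Opens)
    (h : ∀ y : Y, y ∉ U → (2 : ℕ∞) ≤ LocCoh.depth (Y.presheaf.stalk y) (Y.presheaf.stalk y))
    (W : Y.Opens) : Function.Bijective (U.ι.app W) := by
  rw [Scheme.Opens.ι_app]
  refine Groth.Agent.Lib.Helper22.Hartogs.bijective_res_of_depth U h W _ _ ?_ ?_
  · rintro x ⟨hxW, hxU⟩
    exact ⟨⟨x, hxU⟩, hxW, rfl⟩
  · rintro _ ⟨x, -, rfl⟩
    exact x.2

/-- depth of the local rings of an open subscheme. -/
theorem depth_stalk_opens (X₁ : Y.Opens) (y : (X₁ : Scheme.{u})) :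
    LocCoh.depth ((X₁ : Scheme.{u}).presheaf.stalk y) ((X₁ : Scheme.{u}).presheaf.stalk y) =
      LocCoh.depth (Y.presheaf.stalk (X₁.ι y)) (Y.presheaf.stalk (X₁.ι y)) := by
  haveI : IsIso (X₁.ι.stalkMap y) := inferInstance
  exact (Groth.Agent.Lib.Helper28.depth_self_eq_of_ringEquiv
    (asIso (X₁.ι.stalkMap y)).commRingCatIsoToRingEquiv).symm

end Hartogs

section Main

open Groth.Agent.Lib.Helper23.RestrJ

variable {X : Scheme.{u}} [IsLocallyNoetherian X]

theorem isGen_of_eq (L : X.Modules) {A B : X.Opens} (h : B = A) (e : Γ(L, A)) (he : IsGen L A e) :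
    IsGen L B (res L (le_of_eq h) e) := he.mono _

theorem main (p : X)
    (hdepth : (2 : ℕ∞) ≤ LocCoh.depth (X.presheaf.stalk p) (X.presheaf.stalk p))
    (U : X.Opens) (hU : (U : Set X) = {p}ᶜ)
    (L : (U : Scheme.{u}).Modules) (hL : PicF.IsInvertible L)
    {V : Scheme.{u}} (j : V ⟶ X) [Etale j] (q : V) (hq : j.base q = p)
    (M : V.Modules) (hM : PicF.IsInvertible M)
    (e : (Scheme.Modules.pullback (j ⁻¹ᵁ U).ι).obj M ≅ (Scheme.Modules.pullback (j ∣_ U)).obj L) :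
    ∃ N : X.Modules, PicF.IsInvertible N ∧ Nonempty ((Scheme.Modules.pullback U.ι).obj N ≅ L) := by
  -- an affine neighbourhood of `q`
  obtain ⟨V', hV', hqV', -⟩ := exists_isAffineOpen_mem_and_subset (x := q) (U := ⊤) trivial
  haveI : IsAffine (V' : Scheme.{u}) := hV'
  set j' : (V' : Scheme.{u}) ⟶ X := V'.ι ≫ j with hj'
  haveI : Etale j' := by rw [hj']; infer_instance
  -- its open image
  let X₁ : X.Opens := ⟨Set.range j'.base, j'.isOpenMap.isOpen_range⟩
  let g₁ : (V' : Scheme.{u}) ⟶ (X₁ : Scheme.{u}) :=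
    IsOpenImmersion.lift X₁.ι j' (by rw [Scheme.Opens.range_ι]; exact subset_rfl)
  have hg₁ : g₁ ≫ X₁.ι = j' := IsOpenImmersion.lift_fac _ _ _
  haveI : Flat g₁ := by
    have : Flat (g₁ ≫ X₁.ι) := by rw [hg₁]; infer_instance
    exact MorphismProperty.of_postcomp (W := @Flat) (W' := @IsOpenImmersion) g₁ X₁.ι inferInstance this
  haveI : Surjective g₁ := by
    refine ⟨fun x => ?_⟩
    obtain ⟨v, hv⟩ : (X₁.ι x) ∈ Set.range j'.base := x.2
    refine ⟨v, ?_⟩
    apply X₁.ι.injective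
    rw [← Scheme.Hom.comp_apply, hg₁]
    exact hv
  haveI : QuasiCompact g₁ := inferInstance
  haveI : IsLocallyNoetherian (X₁ : Scheme.{u}) := isLocallyNoetherian_of_isOpenImmersion X₁.ι
  -- the punctured neighbourhood
  let U₁ : (X₁ : Scheme.{u}).Opens := X₁.ι ⁻¹ᵁ U
  let f₁ : (U₁ : Scheme.{u}) ⟶ (X₁ : Scheme.{u}) := U₁.ι
  have hfV₁ : ∀ W : (X₁ : Scheme.{u}).Opens, IsIso (f₁.app W) := by
    intro W
    refine (ConcreteCategory.isIso_iff_bijective _).2 ?_
    refine bijective_ι_app_of_depth U₁ (fun y hy => ?_) W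
    rw [depth_stalk_opens]
    have hyp : X₁.ι y = p := by
      by_contra hne
      apply hy
      show X₁.ι y ∈ (U : Set X)
      rw [hU]
      exact hne
    rw [hyp]
    exact hdepth
  -- the restriction of `L`
  let j₁ : (U₁ : Scheme.{u}) ⟶ (U : Scheme.{u}) := X₁.ι ∣_ U
  haveI : IsOpenImmersion j₁ := inferInstance
  have hj₁ : j₁ ≫ U.ι = f₁ ≫ X₁.ι := morphismRestrict_ι X₁.ι U
  let L₁ : (U₁ : Scheme.{u}).Modules := L.restrict j₁
  have hL₁ : PicF.IsInvertible L₁ := isInvertible_restrict j₁ L hL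
  let N' : (V' : Scheme.{u}).Modules := (Scheme.Modules.pullback V'.ι).obj M
  have hN' : PicF.IsInvertible N' := isInvertible_pullback V'.ι M hM
  -- the comparison over the fibre product
  let h : pullback f₁ g₁ ⟶ ((j ⁻¹ᵁ U : V.Opens) : Scheme.{u}) :=
    IsOpenImmersion.lift (j ⁻¹ᵁ U).ι (pullback.snd f₁ g₁ ≫ V'.ι) (by
      rw [Scheme.Opens.range_ι]
      rintro _ ⟨z, rfl⟩
      show j.base ((pullback.snd f₁ g₁ ≫ V'.ι).base z) ∈ (U : Set X)
      have h1 : j.base ((pullback.snd f₁ g₁ ≫ V'.ι).base z) =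
          (pullback.snd f₁ g₁ ≫ g₁ ≫ X₁.ι).base z := by
        rw [hg₁, hj']
        simp
      rw [h1, ← pullback.condition_assoc]
      have h2 : (pullback.fst f₁ g₁ ≫ f₁ ≫ X₁.ι).base z =
          X₁.ι.base (f₁.base ((pullback.fst f₁ g₁).base z)) := by simp
      rw [h2]
      exact ((pullback.fst f₁ g₁).base z).2)
  have hh : h ≫ (j ⁻¹ᵁ U).ι = pullback.snd f₁ g₁ ≫ V'.ι := IsOpenImmersion.lift_fac _ _ _
  have hh' : h ≫ (j ∣_ U) = pullback.fst f₁ g₁ ≫ j₁ := by
    rw [← cancel_mono U.ι, Category.assoc, Category.assoc, morphismRestrict_ι, hj₁,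
      ← Category.assoc, hh, Category.assoc, ← hj', ← hg₁, pullback.condition_assoc]
  let ε : (Scheme.Modules.pullback (pullback.fst f₁ g₁)).obj L₁ ≅
      (Scheme.Modules.pullback (pullback.snd f₁ g₁)).obj N' :=
    (Scheme.Modules.pullback (pullback.fst f₁ g₁)).mapIso
        ((Scheme.Modules.restrictFunctorIsoPullback j₁).app L) ≪≫
      (Scheme.Modules.pullbackComp (pullback.fst f₁ g₁) j₁).app L ≪≫
      (Scheme.Modules.pullbackCongr hh'.symm).app L ≪≫
      ((Scheme.Modules.pullbackComp h (j ∣_ U)).app L).symm ≪≫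
      (Scheme.Modules.pullback h).mapIso e.symm ≪≫
      (Scheme.Modules.pullbackComp h (j ⁻¹ᵁ U).ι).app M ≪≫
      (Scheme.Modules.pullbackCongr hh).app M ≪≫
      ((Scheme.Modules.pullbackComp (pullback.snd f₁ g₁) V'.ι).app M).symm
  -- local generator near `p`
  have hpX₁ : p ∈ X₁ := ⟨⟨q, hqV'⟩, by rw [hj']; simpa using hq⟩
  obtain ⟨W₁, hpW₁, t, ht⟩ := Groth.Agent.Lib.Helper8PicFpqc2.exists_local_gen f₁ g₁
    (pullback.fst f₁ g₁) (pullback.snd f₁ g₁) (IsPullback.of_hasPullback f₁ g₁) hfV₁ L₁ hL₁ N' hN' ε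
    ⟨p, hpX₁⟩
  have ht' : IsGen L (j₁ ''ᵁ (f₁ ⁻¹ᵁ W₁)) t := isGen_of_isGen_restrict j₁ L (f₁ ⁻¹ᵁ W₁) t ht
  have hWeq : U.ι ⁻¹ᵁ (X₁.ι ''ᵁ W₁) = j₁ ''ᵁ (f₁ ⁻¹ᵁ W₁) :=
    (IsOpenImmersion.image_preimage_eq_preimage_image_of_isPullback
      (isPullback_morphismRestrict X₁.ι U).flip W₁).symm
  -- the cover
  have key : ∀ i : Option (U : Scheme.{u}), ∃ Wi : X.Opens,
      ((∀ x, i = some x → x.1 ∈ Wi ∧ Wi ≤ U) ∧ (i = none → p ∈ Wi)) ∧
      ∃ e : Γ(L, U.ι ⁻¹ᵁ Wi), IsGen L (U.ι ⁻¹ᵁ Wi) e := by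
    rintro (_ | x)
    · refine ⟨X₁.ι ''ᵁ W₁, ⟨fun x hx => (by cases hx), fun _ => ⟨⟨p, hpX₁⟩, hpW₁, rfl⟩⟩, _,
        isGen_of_eq L hWeq t ht'⟩
    · obtain ⟨Vx, ex, hxVx, hex⟩ := exists_gen L hL x
      refine ⟨U.ι ''ᵁ Vx, ⟨fun y hy => ?_, fun h => by cases h⟩, _,
        isGen_of_eq L (U.ι.preimage_image_eq Vx) ex hex⟩
      obtain rfl : x = y := Option.some.inj hy
      exact ⟨⟨x, hxVx, rfl⟩, Groth.Agent.Lib.Helper23.SecTw.image_le_self U Vx⟩
  choose W hW eW heW using key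
  have hcov : ∀ x : X, ∃ i, x ∈ W i := by
    intro x
    by_cases hx : x = p
    · exact ⟨none, hx ▸ (hW none).2 rfl⟩
    · have hxU : x ∈ U := by
        show x ∈ (U : Set X)
        rw [hU]
        exact hx
      exact ⟨some ⟨x, hxU⟩, ((hW (some ⟨x, hxU⟩)).1 _ rfl).1⟩
  have hWU : ∀ i j, i ≠ j → W i ⊓ W j ≤ U := by
    rintro (_ | x) (_ | y) hij
    · exact absurd rfl hij
    · exact inf_le_right.trans ((hW (some y)).1 _ rfl).2
    · exact inf_le_left.trans ((hW (some x)).1 _ rfl).2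
    · exact inf_le_left.trans ((hW (some x)).1 _ rfl).2
  obtain ⟨N, hN, ⟨iso⟩⟩ := Groth.Agent.Lib.R2H4ExtGlue.exists_extension U L W hcov hWU eW heW
  exact ⟨N, hN, ⟨((Scheme.Modules.restrictFunctorIsoPullback U.ι).app N).symm ≪≫ iso⟩⟩

end Main

end Groth.Agent.Lib.Helper8PicExtEt
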