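import Mathlib
import Groth.Agent.Lib.Helper5LocalFlat2

/-!
# Primitive multivariate polynomials are non-zero-divisors with flat quotient (helper8)
-/

set_option autoImplicit false
universe u

namespace Groth.Agent.Lib.Helper8Primitive

open MvPolynomial TensorProduct

theorem mem_nonZeroDivisors_of_span_coeff_eq_top : ∀ (n : ℕ) (A : Type u) [CommRing A]
    (f : MvPolynomial (Fin n) A), Ideal.span (Set.range f.coeff) = ⊤ →
    f ∈ nonZeroDivisors (MvPolynomial (Fin n) A) := by
  intro n
  induction n with
  | zero =>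
    intro A _ f hf
    have h1 : f = C (f.coeff 0) := MvPolynomial.eq_C_of_isEmpty f
    have h2 : Set.range f.coeff = {f.coeff 0} := by
      ext a
      constructor
      · rintro ⟨m, rfl⟩
        rw [Subsingleton.elim m 0]
        rfl
      · rintro rfl
        exact ⟨0, rfl⟩
    rw [h2, Ideal.span_singleton_eq_top] at hf
    rw [h1]
    exact (hf.map C).mem_nonZeroDivisors
  | succ n ih =>
    intro A _ f hf
    by_contra hnot
    set P := finSuccEquiv A n f with hP
    have hPn : P ∉ nonZeroDivisors (Polynomial (MvPolynomial (Fin n) A)) := by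
      intro hmem
      apply hnot
      rw [mem_nonZeroDivisors_iff_right] at hmem ⊢
      intro g hg
      have h1 : finSuccEquiv A n g * P = 0 := by
        rw [hP, ← map_mul, hg, map_zero]
      have h2 := hmem _ h1
      exact (map_eq_zero_iff _ (finSuccEquiv A n).injective).mp h2
    obtain ⟨b, hb0, hb⟩ := Polynomial.notMem_nonZeroDivisors_iff.mp hPn
    have hbi : ∀ i, b * P.coeff i = 0 := by
      intro i
      have := congrArg (fun Q => Polynomial.coeff Q i) hb
      simpa [Polynomial.coeff_smul] using this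
    obtain ⟨β, hβ⟩ := MvPolynomial.ne_zero_iff.mp hb0
    set c := coeff β b with hc
    set J : Ideal A := (⊥ : Submodule A A).colon {c} with hJ
    have hJtop : J ≠ ⊤ := by
      intro h
      have h1 : (1 : A) ∈ J := by rw [h]; exact Submodule.mem_top
      rw [hJ, Submodule.mem_colon_singleton, one_smul, Submodule.mem_bot] at h1
      exact hβ h1
    obtain ⟨p, hpmax, hJp⟩ := Ideal.exists_le_maximal J hJtop
    haveI : p.IsPrime := hpmax.isPrime
    obtain ⟨α, hα⟩ : ∃ α, f.coeff α ∉ p := by
      by_contra hcon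
      push Not at hcon
      have h1 : Ideal.span (Set.range f.coeff) ≤ p := by
        rw [Ideal.span_le]
        rintro _ ⟨α, rfl⟩
        exact hcon α
      rw [hf] at h1
      exact hpmax.ne_top (top_le_iff.mp h1)
    set i := α 0 with hi
    set m := Finsupp.tail α with hm
    have hαeq : Finsupp.cons i m = α := Finsupp.cons_tail α
    have hcoef : coeff m (P.coeff i) = f.coeff α := by
      rw [hP, finSuccEquiv_coeff_coeff, hαeq]
    set Ap := Localization.AtPrime p
    set g : MvPolynomial (Fin n) Ap := MvPolynomial.map (algebraMap A Ap) (P.coeff i) with hg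
    have hunit : IsUnit (coeff m g) := by
      rw [hg, coeff_map, hcoef]
      exact IsLocalization.map_units Ap (⟨f.coeff α, hα⟩ : p.primeCompl)
    have hgtop : Ideal.span (Set.range g.coeff) = ⊤ :=
      Ideal.eq_top_of_isUnit_mem _ (Ideal.subset_span ⟨m, rfl⟩) hunit
    have hgn := ih Ap g hgtop
    have h0 : MvPolynomial.map (algebraMap A Ap) b * g = 0 := by
      rw [hg, ← map_mul, hbi i, map_zero]
    have h1 : MvPolynomial.map (algebraMap A Ap) b = 0 :=
      (mem_nonZeroDivisors_iff_right.mp hgn) _ h0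
    have h2 : algebraMap A Ap c = 0 := by
      have := congrArg (coeff β) h1
      rwa [coeff_map, coeff_zero] at this
    obtain ⟨s, hs⟩ := (IsLocalization.map_eq_zero_iff p.primeCompl Ap c).mp h2
    have hsJ : (s : A) ∈ J := by
      rw [hJ, Submodule.mem_colon_singleton, Submodule.mem_bot, smul_eq_mul]
      exact hs
    exact s.2 (hJp hsJ)

theorem flat_quotient (n : ℕ) (A : Type u) [CommRing A] (f : MvPolynomial (Fin n) A)
    (hf : Ideal.span (Set.range f.coeff) = ⊤) :
    Module.Flat A (MvPolynomial (Fin n) A ⧸ Ideal.span ({f} : Set (MvPolynomial (Fin n) A))) := by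
  let u : MvPolynomial (Fin n) A →ₗ[A] MvPolynomial (Fin n) A := LinearMap.mulLeft A f
  let π : MvPolynomial (Fin n) A →ₗ[A] (MvPolynomial (Fin n) A ⧸ Ideal.span ({f} : Set (MvPolynomial (Fin n) A))) :=
    (Ideal.Quotient.mkₐ A (Ideal.span ({f} : Set (MvPolynomial (Fin n) A)))).toLinearMap
  have hπ : Function.Surjective π := Ideal.Quotient.mk_surjective
  have hex : Function.Exact u π := by
    intro x
    show Ideal.Quotient.mk _ x = 0 ↔ _
    rw [Ideal.Quotient.eq_zero_iff_mem, Ideal.mem_span_singleton']
    constructor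
    · rintro ⟨a, ha⟩
      exact ⟨a, by show f * a = x; rw [mul_comm]; exact ha⟩
    · rintro ⟨a, ha⟩
      exact ⟨a, by rw [mul_comm]; exact ha⟩
  refine Groth.Agent.Lib.Helper5.flat_of_exact_of_lTensor_quotient_injective u π hπ hex ?_
  intro I
  set fI : MvPolynomial (Fin n) (A ⧸ I) := MvPolynomial.map (algebraMap A (A ⧸ I)) f with hfI
  have hfItop : Ideal.span (Set.range fI.coeff) = ⊤ := by
    have h1 : Set.range fI.coeff = (algebraMap A (A ⧸ I)) '' (Set.range f.coeff) := by
      ext a
      constructor
      · rintro ⟨m, rfl⟩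
        exact ⟨f.coeff m, ⟨m, rfl⟩, (coeff_map _ _ _).symm⟩
      · rintro ⟨_, ⟨m, rfl⟩, rfl⟩
        exact ⟨m, coeff_map _ _ _⟩
    rw [h1, ← Ideal.map_span, hf, Ideal.map_top]
  have hfIn := mem_nonZeroDivisors_of_span_coeff_eq_top n (A ⧸ I) fI hfItop
  let e := MvPolynomial.algebraTensorAlgEquiv (σ := Fin n) A (A ⧸ I)
  have hkey : ∀ z : (A ⧸ I) ⊗[A] MvPolynomial (Fin n) A, e (u.lTensor (A ⧸ I) z) = fI * e z := by
    intro z
    induction z using TensorProduct.induction_on with
    | zero => simp
    | tmul a g =>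
      rw [LinearMap.lTensor_tmul]
      show e (a ⊗ₜ (f * g)) = fI * e (a ⊗ₜ g)
      rw [MvPolynomial.algebraTensorAlgEquiv_tmul, MvPolynomial.algebraTensorAlgEquiv_tmul,
        map_mul, mul_smul_comm]
    | add x y hx hy => rw [map_add, map_add, hx, hy, map_add, mul_add]
  rw [injective_iff_map_eq_zero]
  intro z hz
  have h1 : fI * e z = 0 := by rw [← hkey, hz, map_zero]
  have h2 : e z = 0 := by
    rw [mul_comm] at h1
    exact (mem_nonZeroDivisors_iff_right.mp hfIn) _ h1
  exact (map_eq_zero_iff _ e.injective).mp h2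

end Groth.Agent.Lib.Helper8Primitive
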