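import Mathlib
import Groth.Agent.Lib.Helper8IntNum

/-!
# `A/(f₁⋯fₙ) → ∏ A/(fᵢ)`: injectivity and length of the cokernel (helper8)
-/

set_option autoImplicit false
universe u

namespace Groth.Agent.Lib.Helper8.ProdPi

open Groth.Agent.Lib.Helper8.IntNum

variable {A : Type u} [CommRing A]

theorem dvd_of_dvd_prod_mul {ι : Type*} (s : Finset ι) (f : ι → A) (g : A)
    (key : ∀ i ∈ s, ∀ a, g ∣ f i * a → g ∣ a) : ∀ a, g ∣ (∏ i ∈ s, f i) * a → g ∣ a := by
  classical
  induction s using Finset.induction_on with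
  | empty => intro a ha; simpa using ha
  | insert i s hi ih =>
    intro a ha
    rw [Finset.prod_insert hi, mul_assoc] at ha
    exact ih (fun j hj => key j (Finset.mem_insert_of_mem hj)) a
      (key i (Finset.mem_insert_self i s) _ ha)

theorem length_quot_prod {ι : Type*} (s : Finset ι) (f : ι → A) (g : A)
    (key : ∀ i ∈ s, ∀ a, g ∣ f i * a → g ∣ a) :
    Module.length A (A ⧸ Ideal.span ({(∏ i ∈ s, f i), g} : Set A)) =
      ∑ i ∈ s, Module.length A (A ⧸ Ideal.span ({f i, g} : Set A)) := by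
  classical
  induction s using Finset.induction_on with
  | empty =>
    rw [Finset.prod_empty, Finset.sum_empty]
    have : Subsingleton (A ⧸ Ideal.span ({1, g} : Set A)) := by
      rw [Ideal.Quotient.subsingleton_iff, Ideal.eq_top_iff_one]
      exact Ideal.subset_span (by simp)
    exact Module.length_eq_zero
  | insert i s hi ih =>
    rw [Finset.prod_insert hi, Finset.sum_insert hi,
      length_quot_mul (f i) g (∏ j ∈ s, f j) (key i (Finset.mem_insert_self i s)),
      ih (fun j hj => key j (Finset.mem_insert_of_mem hj))]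

theorem sum_pairs_succ {M : Type*} [AddCommMonoid M] (n : ℕ) (G : Fin (n + 1) → Fin (n + 1) → M) :
    ∑ p ∈ (Finset.univ : Finset (Fin (n + 1) × Fin (n + 1))) with p.1 < p.2, G p.1 p.2 =
      ∑ i : Fin n, G (Fin.castSucc i) (Fin.last n) +
        ∑ p ∈ (Finset.univ : Finset (Fin n × Fin n)) with p.1 < p.2,
          G (Fin.castSucc p.1) (Fin.castSucc p.2) := by
  classical
  have h1 : ∀ j : Fin n, ¬ (Fin.last n < Fin.castSucc j) := fun j =>
    not_lt.mpr (Fin.castSucc_lt_last j).le
  have h2 : ¬ (Fin.last n < Fin.last n) := lt_irrefl _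
  have h3 : ∀ i : Fin n, Fin.castSucc i < Fin.last n := Fin.castSucc_lt_last
  have h4 : ∀ i j : Fin n, Fin.castSucc i < Fin.castSucc j ↔ i < j := fun i j =>
    Fin.castSucc_lt_castSucc_iff
  rw [Finset.sum_filter, Finset.sum_filter, Fintype.sum_prod_type_right,
    Fintype.sum_prod_type_right]
  simp only [Fin.sum_univ_castSucc, h1, h2, h3, h4, if_true, if_false, add_zero]
  rw [add_comm]

theorem step (n : ℕ) (f : Fin (n + 1) → A)
    (keyg : ∀ i : Fin n, ∀ a, f (Fin.last n) ∣ f (Fin.castSucc i) * a → f (Fin.last n) ∣ a)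
    (φ : (A ⧸ Ideal.span {∏ i, f i}) →ₗ[A] ((i : Fin (n + 1)) → A ⧸ Ideal.span {f i}))
    (hφ : ∀ (x : A) (i : Fin (n + 1)), φ (Submodule.Quotient.mk x) i = Submodule.Quotient.mk x)
    (φ' : (A ⧸ Ideal.span {∏ i : Fin n, f (Fin.castSucc i)}) →ₗ[A]
      ((i : Fin n) → A ⧸ Ideal.span {f (Fin.castSucc i)}))
    (hφ' : ∀ (x : A) (i : Fin n), φ' (Submodule.Quotient.mk x) i = Submodule.Quotient.mk x)
    (hinj' : Function.Injective φ') :
    Function.Injective φ ∧
      Module.length A (((i : Fin (n + 1)) → A ⧸ Ideal.span {f i}) ⧸ LinearMap.range φ) =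
        Module.length A
          (A ⧸ Ideal.span ({(∏ i : Fin n, f (Fin.castSucc i)), f (Fin.last n)} : Set A)) +
        Module.length A
          (((i : Fin n) → A ⧸ Ideal.span {f (Fin.castSucc i)}) ⧸ LinearMap.range φ') := by
  classical
  have hprod : ∏ i, f i = (∏ i : Fin n, f (Fin.castSucc i)) * f (Fin.last n) :=
    Fin.prod_univ_castSucc f
  have hdvdF : ∀ i : Fin n, f (Fin.castSucc i) ∣ ∏ i : Fin n, f (Fin.castSucc i) := fun i =>
    Finset.dvd_prod_of_mem (fun i : Fin n => f (Fin.castSucc i)) (Finset.mem_univ i)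
  have hmemF : ∀ x : A,
      (∀ i : Fin n, (Submodule.Quotient.mk x : A ⧸ Ideal.span {f (Fin.castSucc i)}) = 0) →
      x ∈ Ideal.span {∏ i : Fin n, f (Fin.castSucc i)} := by
    intro x hx
    have h0 : φ' (Submodule.Quotient.mk x) = 0 := by
      funext i
      rw [hφ' x i, hx i]; rfl
    have h1 : (Submodule.Quotient.mk x : A ⧸ Ideal.span {∏ i : Fin n, f (Fin.castSucc i)}) = 0 :=
      hinj' (by rw [h0, map_zero])
    exact (Submodule.Quotient.mk_eq_zero _).mp h1
  have hinj : Function.Injective φ := by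
    rw [injective_iff_map_eq_zero]
    intro y hy
    obtain ⟨x, rfl⟩ := Submodule.Quotient.mk_surjective _ y
    have hcomp : ∀ i : Fin (n + 1), (Submodule.Quotient.mk x : A ⧸ Ideal.span {f i}) = 0 := by
      intro i
      rw [← hφ x i, hy]; rfl
    have hxF := hmemF x (fun i => hcomp (Fin.castSucc i))
    obtain ⟨s, hs⟩ := Ideal.mem_span_singleton.mp hxF
    have hgx : f (Fin.last n) ∣ x :=
      Ideal.mem_span_singleton.mp ((Submodule.Quotient.mk_eq_zero _).mp (hcomp (Fin.last n)))
    rw [hs] at hgx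
    obtain ⟨t, ht⟩ := dvd_of_dvd_prod_mul Finset.univ (fun i : Fin n => f (Fin.castSucc i))
      (f (Fin.last n)) (fun i _ => keyg i) s hgx
    rw [Submodule.Quotient.mk_eq_zero, hprod, Ideal.mem_span_singleton]
    exact ⟨t, by rw [hs, ht]; ring⟩
  let ρ : ((i : Fin (n + 1)) → A ⧸ Ideal.span {f i}) →ₗ[A]
      ((i : Fin n) → A ⧸ Ideal.span {f (Fin.castSucc i)}) :=
    LinearMap.pi (fun i => LinearMap.proj (Fin.castSucc i))
  have hρ : ∀ (z : (i : Fin (n + 1)) → A ⧸ Ideal.span {f i}) (i : Fin n),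
      ρ z i = z (Fin.castSucc i) := fun z i => rfl
  have hρφ : ∀ x : A, ρ (φ (Submodule.Quotient.mk x)) = φ' (Submodule.Quotient.mk x) := by
    intro x
    funext i
    rw [hρ, hφ, hφ']
  have hle : LinearMap.range φ ≤ Submodule.comap ρ (LinearMap.range φ') := by
    rintro _ ⟨y, rfl⟩
    obtain ⟨x, rfl⟩ := Submodule.Quotient.mk_surjective _ y
    exact ⟨Submodule.Quotient.mk x, (hρφ x).symm⟩
  let β := Submodule.mapQ (LinearMap.range φ) (LinearMap.range φ') ρ hle
  have hβ : ∀ z, β (Submodule.Quotient.mk z) = Submodule.Quotient.mk (ρ z) := fun z => rfl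
  let σ : (A ⧸ Ideal.span {f (Fin.last n)}) →ₗ[A] ((i : Fin (n + 1)) → A ⧸ Ideal.span {f i}) :=
    LinearMap.single A (fun i : Fin (n + 1) => A ⧸ Ideal.span {f i}) (Fin.last n)
  have hσlast : ∀ v, σ v (Fin.last n) = v := fun v => by
    simp [σ, LinearMap.coe_single]
  have hσcast : ∀ v (i : Fin n), σ v (Fin.castSucc i) = 0 := fun v i => by
    have hne : Fin.castSucc i ≠ Fin.last n := (Fin.castSucc_lt_last i).ne
    simp [σ, LinearMap.coe_single, hne]
  have hσF : ∀ s : A, σ (Submodule.Quotient.mk ((∏ i : Fin n, f (Fin.castSucc i)) * s)) =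
      φ (Submodule.Quotient.mk ((∏ i : Fin n, f (Fin.castSucc i)) * s)) := by
    intro s
    funext i
    refine Fin.lastCases ?_ (fun i' => ?_) i
    · rw [hσlast, hφ]
    · rw [hσcast, hφ]
      symm
      rw [Submodule.Quotient.mk_eq_zero, Ideal.mem_span_singleton]
      exact Dvd.dvd.mul_right (hdvdF i') s
  let α₀ : A →ₗ[A] (((i : Fin (n + 1)) → A ⧸ Ideal.span {f i}) ⧸ LinearMap.range φ) :=
    (LinearMap.range φ).mkQ ∘ₗ σ ∘ₗ (Ideal.span {f (Fin.last n)}).mkQ
  have hα₀ : ∀ a : A, α₀ a = Submodule.Quotient.mk (σ (Submodule.Quotient.mk a)) := fun a => rfl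
  have hker : (Ideal.span ({(∏ i : Fin n, f (Fin.castSucc i)), f (Fin.last n)} : Set A)) ≤
      LinearMap.ker α₀ := by
    rw [Ideal.span_le]
    intro a ha
    rw [SetLike.mem_coe, LinearMap.mem_ker, hα₀, Submodule.Quotient.mk_eq_zero]
    rcases ha with ha | ha
    · have h := hσF 1
      rw [mul_one] at h
      rw [ha, h]
      exact LinearMap.mem_range_self φ _
    · rw [Set.mem_singleton_iff] at ha
      have h0 : (Submodule.Quotient.mk (f (Fin.last n)) : A ⧸ Ideal.span {f (Fin.last n)}) = 0 := by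
        rw [Submodule.Quotient.mk_eq_zero]; exact Ideal.mem_span_singleton_self _
      rw [ha, h0, map_zero]
      exact Submodule.zero_mem _
  let α := Submodule.liftQ
    (Ideal.span ({(∏ i : Fin n, f (Fin.castSucc i)), f (Fin.last n)} : Set A)) α₀ hker
  have hα : ∀ a : A, α (Submodule.Quotient.mk a) =
      Submodule.Quotient.mk (σ (Submodule.Quotient.mk a)) := fun a => rfl
  have hαinj : Function.Injective α := by
    rw [injective_iff_map_eq_zero]
    intro y hy
    obtain ⟨a, rfl⟩ := Submodule.Quotient.mk_surjective _ y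
    rw [hα, Submodule.Quotient.mk_eq_zero] at hy
    obtain ⟨w, hw⟩ := hy
    obtain ⟨x, rfl⟩ := Submodule.Quotient.mk_surjective _ w
    have hc : ∀ i : Fin n,
        (Submodule.Quotient.mk x : A ⧸ Ideal.span {f (Fin.castSucc i)}) = 0 := by
      intro i
      rw [← hφ x (Fin.castSucc i), hw, hσcast]
    have hl : (Submodule.Quotient.mk x : A ⧸ Ideal.span {f (Fin.last n)}) =
        Submodule.Quotient.mk a := by
      rw [← hφ x (Fin.last n), hw, hσlast]
    obtain ⟨s, hs⟩ := Ideal.mem_span_singleton.mp (hmemF x hc)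
    obtain ⟨t, ht⟩ := Ideal.mem_span_singleton.mp ((Submodule.Quotient.eq _).mp hl)
    rw [Submodule.Quotient.mk_eq_zero, Ideal.mem_span_pair]
    exact ⟨s, -t, by linear_combination ht - hs⟩
  have hβsurj : Function.Surjective β := by
    intro y
    obtain ⟨z, rfl⟩ := Submodule.Quotient.mk_surjective _ y
    refine ⟨Submodule.Quotient.mk
      (Fin.snoc (α := fun i : Fin (n + 1) => A ⧸ Ideal.span {f i}) z 0), ?_⟩
    have hz : ρ (Fin.snoc (α := fun i : Fin (n + 1) => A ⧸ Ideal.span {f i}) z 0) = z := by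
      funext i
      rw [hρ, Fin.snoc_castSucc]
    rw [hβ, hz]
  have hex : Function.Exact α β := by
    intro y
    constructor
    · intro hy
      obtain ⟨z, rfl⟩ := Submodule.Quotient.mk_surjective _ y
      rw [hβ, Submodule.Quotient.mk_eq_zero] at hy
      obtain ⟨w, hw⟩ := hy
      obtain ⟨x, rfl⟩ := Submodule.Quotient.mk_surjective _ w
      obtain ⟨a, ha⟩ := Submodule.Quotient.mk_surjective (Ideal.span {f (Fin.last n)})
        (z (Fin.last n) - Submodule.Quotient.mk x)
      refine ⟨Submodule.Quotient.mk a, ?_⟩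
      rw [hα]
      symm
      rw [Submodule.Quotient.eq]
      refine ⟨Submodule.Quotient.mk x, ?_⟩
      funext i
      refine Fin.lastCases ?_ (fun i' => ?_) i
      · rw [hφ, Pi.sub_apply, hσlast, ha]; abel
      · rw [hφ, Pi.sub_apply, hσcast, sub_zero]
        have h := congrFun hw i'
        rw [hφ', hρ] at h
        exact h
    · rintro ⟨w, rfl⟩
      obtain ⟨a, rfl⟩ := Submodule.Quotient.mk_surjective _ w
      rw [hα, hβ, Submodule.Quotient.mk_eq_zero]
      have h0 : ρ (σ (Submodule.Quotient.mk a)) = 0 := by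
        funext i
        rw [hρ, hσcast]; rfl
      rw [h0]
      exact Submodule.zero_mem _
  exact ⟨hinj, Module.length_eq_add_of_exact α β hαinj hβsurj hex⟩

theorem main [IsDomain A] [UniqueFactorizationMonoid A] :
    ∀ (n : ℕ) (f : Fin n → A), (∀ i, Irreducible (f i)) →
      (∀ i j, i ≠ j → IsRelPrime (f i) (f j)) →
      ∀ φ : (A ⧸ Ideal.span {∏ i, f i}) →ₗ[A] ((i : Fin n) → A ⧸ Ideal.span {f i}),
        (∀ (x : A) (i : Fin n), φ (Submodule.Quotient.mk x) i = Submodule.Quotient.mk x) →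
        Function.Injective φ ∧
          Module.length A (((i : Fin n) → A ⧸ Ideal.span {f i}) ⧸ LinearMap.range φ) =
            ∑ p ∈ (Finset.univ : Finset (Fin n × Fin n)) with p.1 < p.2,
              Module.length A (A ⧸ Ideal.span ({f p.1, f p.2} : Set A)) := by
  intro n
  induction n with
  | zero =>
    intro f _ _ φ _
    have h1 : Subsingleton (A ⧸ Ideal.span {∏ i, f i}) := by
      rw [Ideal.Quotient.subsingleton_iff, Ideal.eq_top_iff_one]
      exact Ideal.subset_span (by simp)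
    refine ⟨fun x y _ => Subsingleton.elim x y, ?_⟩
    have h2 : Subsingleton (((i : Fin 0) → A ⧸ Ideal.span {f i}) ⧸ LinearMap.range φ) := by
      refine ⟨fun x y => ?_⟩
      obtain ⟨a, rfl⟩ := Submodule.Quotient.mk_surjective _ x
      obtain ⟨b, rfl⟩ := Submodule.Quotient.mk_surjective _ y
      rw [Subsingleton.elim a b]
    rw [Module.length_eq_zero]
    symm
    apply Finset.sum_eq_zero
    rintro ⟨i, _⟩ _
    exact i.elim0
  | succ n ih =>
    intro f hirr hcop φ hφ
    have key : ∀ i j : Fin (n + 1), i ≠ j → ∀ a, f j ∣ f i * a → f j ∣ a := by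
      intro i j hij a hdvd
      have hp : Prime (f j) := UniqueFactorizationMonoid.irreducible_iff_prime.mp (hirr j)
      rcases hp.dvd_or_dvd hdvd with h | h
      · exact absurd (hcop i j hij h dvd_rfl) (hirr j).not_isUnit
      · exact h
    have hdvdF : ∀ i : Fin n, f (Fin.castSucc i) ∣ ∏ i : Fin n, f (Fin.castSucc i) := fun i =>
      Finset.dvd_prod_of_mem (fun i : Fin n => f (Fin.castSucc i)) (Finset.mem_univ i)
    let φ' : (A ⧸ Ideal.span {∏ i : Fin n, f (Fin.castSucc i)}) →ₗ[A]
        ((i : Fin n) → A ⧸ Ideal.span {f (Fin.castSucc i)}) :=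
      LinearMap.pi (fun i => Submodule.mapQ (Ideal.span {∏ i : Fin n, f (Fin.castSucc i)})
        (Ideal.span {f (Fin.castSucc i)}) LinearMap.id
        (Ideal.span_singleton_le_span_singleton.mpr (hdvdF i)))
    obtain ⟨ihinj, ihlen⟩ := ih (fun i => f (Fin.castSucc i)) (fun i => hirr _)
      (fun i j hij => hcop _ _ (fun h => hij (Fin.castSucc_injective n h))) φ' (fun x i => rfl)
    have keyg : ∀ i : Fin n, ∀ a, f (Fin.last n) ∣ f (Fin.castSucc i) * a → f (Fin.last n) ∣ a :=
      fun i a h => key (Fin.castSucc i) (Fin.last n) (Fin.castSucc_lt_last i).ne a h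
    obtain ⟨hinj, hlen⟩ := step n f keyg φ hφ φ' (fun x i => rfl) ihinj
    refine ⟨hinj, ?_⟩
    rw [hlen, ihlen, length_quot_prod Finset.univ (fun i : Fin n => f (Fin.castSucc i))
      (f (Fin.last n)) (fun i _ => keyg i)]
    exact (sum_pairs_succ n
      (fun i j => Module.length A (A ⧸ Ideal.span ({f i, f j} : Set A)))).symm

end Groth.Agent.Lib.Helper8.ProdPi
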