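import Groth.Prelude
import Groth.Agent.Lib.Helper16SmallEtale

/-!
# Direct image of a torsor which is locally trivial over the base (helper8)
-/

set_option autoImplicit false
universe u
open CategoryTheory CategoryTheory.Limits AlgebraicGeometry Opposite

namespace Groth.Agent.Lib.Helper8PushTorsor

open Groth.Agent.Lib.Helper16.SmallEtale

variable {X Y : Scheme.{u}} (f : X ⟶ Y) [EtCoh.BCCont f]
  (F : Sheaf X.smallEtaleTopology GrpCat.{u + 1})

/-- the direct image of a `G`-sheaf -/
noncomputable def pushGSheaf (Q : NonAbH1.GSheaf F) :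
    NonAbH1.GSheaf (((EtCoh.bc f).sheafPushforwardContinuous GrpCat.{u + 1}
      Y.smallEtaleTopology X.smallEtaleTopology).obj F) where
  P := ((EtCoh.bc f).sheafPushforwardContinuous (Type (u + 1))
      Y.smallEtaleTopology X.smallEtaleTopology).obj Q.P
  smul {V} g p := Q.smul (U := op ((EtCoh.bc f).obj V.unop)) g p
  one_smul {V} p := Q.one_smul (U := op ((EtCoh.bc f).obj V.unop)) p
  mul_smul {V} g h p := Q.mul_smul (U := op ((EtCoh.bc f).obj V.unop)) g h p
  map_smul a g p := Q.map_smul ((EtCoh.bc f).map a.unop).op g p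

set_option backward.isDefEq.respectTransparency.types false in
theorem push_torsor_iff (Q : NonAbH1.Torsor F) :
    (∃ (P : NonAbH1.Torsor (((EtCoh.bc f).sheafPushforwardContinuous GrpCat.{u + 1}
        Y.smallEtaleTopology X.smallEtaleTopology).obj F))
      (φ : P.P ⟶ ((EtCoh.bc f).sheafPushforwardContinuous (Type (u + 1))
        Y.smallEtaleTopology X.smallEtaleTopology).obj Q.P),
      ∀ (V : Y.Etaleᵒᵖ) (g : F.obj.obj (op ((EtCoh.bc f).obj V.unop))) (s : P.P.obj.obj V),
        φ.hom.app V (P.smul g s) = Q.smul g (φ.hom.app V s)) ↔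
    ∃ (ι : Type u) (V : ι → Y.Etale), EtCoh.Covers V ∧
      ∀ i, Nonempty (Q.P.obj.obj (op ((EtCoh.bc f).obj (V i)))) := by
  constructor
  · rintro ⟨P, φ, -⟩
    obtain ⟨S, hS, hne⟩ := P.isTorsor.2 (EtCoh.top Y)
    rw [mem_smallEtale_iff] at hS
    choose W g y hg hy using hS
    refine ⟨Y, fun x => W x, ?_, ?_⟩
    · intro x
      refine ⟨x, y x, ?_⟩
      have h1 : (g x).left ≫ (EtCoh.top Y).hom = (W x).hom := MorphismProperty.Over.w (g x)
      have h2 : (g x).left = (W x).hom := by
        rw [← h1]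
        exact (Category.comp_id _).symm
      rw [← h2]
      exact hy x
    · intro x
      obtain ⟨p⟩ := hne (g x) (hg x)
      exact ⟨φ.hom.app (op (W x)) p⟩
  · rintro ⟨ι, V, hV, hne⟩
    refine ⟨⟨pushGSheaf f F Q.toGSheaf, ?_, ?_⟩, 𝟙 _, fun V g s => rfl⟩
    · intro V p q
      exact Q.isTorsor.1 (op ((EtCoh.bc f).obj V.unop)) p q
    · intro U
      let tU : U ⟶ EtCoh.top Y := (EtCore.topIsTerminal Y).from U
      let tV : ∀ i, V i ⟶ EtCoh.top Y := fun i => (EtCore.topIsTerminal Y).from (V i)
      have hleft : ∀ (Z : Y.Etale) (t : Z ⟶ EtCoh.top Y), t.left = Z.hom := fun Z t =>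
        (Category.comp_id _).symm.trans (MorphismProperty.Over.w t)
      refine ⟨Sieve.ofArrows (fun i => pullback tU (tV i)) (fun i => pullback.fst tU (tV i)),
        ?_, ?_⟩
      · rw [mem_smallEtale_iff]
        intro u
        obtain ⟨i, v, hv⟩ := hV (U.hom.base u)
        have hpb : IsPullback (pullback.fst tU (tV i)).left (pullback.snd tU (tV i)).left
            tU.left (tV i).left :=
          (IsPullback.of_hasPullback tU (tV i)).map (Scheme.Etale.forget Y ⋙ Over.forget Y)
        have huv : tU.left u = (tV i).left v := by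
          rw [hleft, hleft]
          exact hv.symm
        obtain ⟨w, hw1, -⟩ := Scheme.exists_preimage_of_isPullback hpb u v huv
        exact ⟨_, pullback.fst tU (tV i), w, Sieve.ofArrows_mk _ _ i, hw1⟩
      · intro W a ha
        obtain ⟨i, b, rfl⟩ := (Sieve.mem_ofArrows_iff _ _ _).1 ha
        obtain ⟨q⟩ := hne i
        exact ⟨Q.P.obj.map ((EtCoh.bc f).map (b ≫ pullback.snd tU (tV i))).op q⟩

end Groth.Agent.Lib.Helper8PushTorsor
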