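import Mathlib

set_option autoImplicit false
set_option linter.style.haveILetI false
universe u
open CategoryTheory CategoryTheory.Limits AlgebraicGeometry TopologicalSpace

namespace Groth.Agent.Lib.Helper8QFClosed

section Ring

/-- In a Noetherian ring, `⊥ < p < q` primes (domain) forces `height q ≥ 2`. -/
theorem not_height_le_one {D : Type*} [CommRing D] [IsDomain D] [IsNoetherianRing D]
    (p q : Ideal D) [p.IsPrime] [q.IsPrime] (hp : p ≠ ⊥) (hpq : p < q) : ¬ q.height ≤ 1 := by
  intro h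
  have h0 : (⊥ : Ideal D).height < p.height :=
    Ideal.height_strict_mono_of_isPrime (bot_lt_iff_ne_bot.mpr hp)
  have h1 : p.height < q.height := Ideal.height_strict_mono_of_isPrime hpq
  have h2 : p.height < 1 := lt_of_lt_of_le h1 h
  have h3 : p.height = 0 := Order.lt_one_iff.mp h2
  rw [h3] at h0
  exact absurd h0 (by simp)

/-- (α) In a Noetherian local domain of dimension `≥ 2`, every nonzero ideal `J` is avoided by
some nonzero prime. -/
theorem exists_prime_not_le {D : Type*} [CommRing D] [IsDomain D] [IsNoetherianRing D]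
    [IsLocalRing D] (q₀ : Ideal D) [q₀.IsPrime] (h0 : q₀ ≠ ⊥)
    (hm : q₀ ≠ IsLocalRing.maximalIdeal D) (J : Ideal D) (hJ : J ≠ ⊥) :
    ∃ q : Ideal D, q.IsPrime ∧ q ≠ ⊥ ∧ ¬ J ≤ q := by
  classical
  set m := IsLocalRing.maximalIdeal D with hmdef
  have hq₀m : q₀ < m := lt_of_le_of_ne (IsLocalRing.le_maximalIdeal (Ideal.IsPrime.ne_top ‹_›)) hm
  have hfin := Ideal.finite_minimalPrimes_of_isNoetherianRing D J
  set t : Finset (Ideal D) := insert ⊥ (hfin.toFinset.erase m) with ht
  have hav : ¬ ((m : Set D) ⊆ ⋃ i ∈ (↑t : Set (Ideal D)), (i : Set D)) := by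
    intro hsub
    have := (Ideal.subset_union_prime (s := t) (f := fun i => i) (⊥ : Ideal D) ⊥
      (fun i hi hia _ => by
        have : i ∈ hfin.toFinset.erase m := by
          rcases Finset.mem_insert.mp hi with h | h
          · exact absurd h hia
          · exact h
        have : i ∈ J.minimalPrimes := by
          simpa using (Finset.mem_erase.mp this).2
        exact this.1.1) (I := m)).mp hsub
    obtain ⟨i, hi, hmi⟩ := this
    rcases Finset.mem_insert.mp hi with h | h
    · subst h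
      have : q₀ ≤ ⊥ := hq₀m.le.trans hmi
      exact h0 (le_bot_iff.mp this)
    · have hi' := Finset.mem_erase.mp h
      have hip : i ∈ J.minimalPrimes := by simpa using hi'.2
      have : i.IsPrime := hip.1.1
      have : m = i := (IsLocalRing.maximalIdeal.isMaximal D).eq_of_le (Ideal.IsPrime.ne_top ‹_›) hmi
      exact hi'.1 this.symm
  rw [Set.not_subset] at hav
  obtain ⟨a, ham, hat⟩ := hav
  have ha0 : a ≠ 0 := by
    intro h
    apply hat
    simp only [Set.mem_iUnion]
    exact ⟨⊥, by simp [ht], by simp [h]⟩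
  have hap : ∀ p ∈ J.minimalPrimes, p ≠ m → a ∉ p := by
    intro p hp hpm hap
    apply hat
    simp only [Set.mem_iUnion]
    refine ⟨p, ?_, hap⟩
    simp only [ht, Finset.coe_insert, Finset.coe_erase, Set.Finite.coe_toFinset]
    exact Or.inr ⟨hp, hpm⟩
  have hle : Ideal.span {a} ≤ m := by
    rw [Ideal.span_le]
    simpa using ham
  obtain ⟨q, hq, hqm⟩ := Ideal.exists_minimalPrimes_le hle
  have hqp : q.IsPrime := hq.1.1
  have haq : a ∈ q := hq.1.2 (Ideal.subset_span (Set.mem_singleton a))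
  have hqh : q.height ≤ 1 :=
    Ideal.height_le_one_of_isPrincipal_of_mem_minimalPrimes (Ideal.span {a}) q hq
  have hq0 : q ≠ ⊥ := by
    intro h
    rw [h] at haq
    exact ha0 (by simpa using haq)
  have hqnm : q ≠ m := by
    intro h
    rw [h] at hqh
    exact not_height_le_one q₀ m h0 hq₀m hqh
  refine ⟨q, hqp, hq0, fun hJq => ?_⟩
  obtain ⟨p, hp, hpq⟩ := Ideal.exists_minimalPrimes_le hJq
  have hpp : p.IsPrime := hp.1.1
  have hp0 : p ≠ ⊥ := by
    intro h
    apply hJ
    have := hp.1.2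
    rw [h] at this
    exact le_bot_iff.mp this
  rcases hpq.lt_or_eq with hlt | heq
  · exact not_height_le_one p q hp0 hlt hqh
  · subst heq
    exact hap p hp hqnm haq

/-- (P) In a Noetherian local ring, if some prime does not contain `J`, then there is a prime
`z` not containing `J` such that the only prime strictly above `z` is the maximal ideal. -/
theorem exists_prime_coheight_le_one {O : Type*} [CommRing O] [IsNoetherianRing O] [IsLocalRing O]
    (J : Ideal O) (p' : Ideal O) [p'.IsPrime] (hp' : ¬ J ≤ p') :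
    ∃ z : Ideal O, z.IsPrime ∧ ¬ J ≤ z ∧
      ∀ q : Ideal O, q.IsPrime → z < q → q = IsLocalRing.maximalIdeal O := by
  obtain ⟨z, ⟨hzp, hJz⟩, hzmax⟩ := set_has_maximal_iff_noetherian.mpr
    (inferInstance : IsNoetherian O O) {p : Ideal O | p.IsPrime ∧ ¬ J ≤ p} ⟨p', ‹_›, hp'⟩
  refine ⟨z, hzp, hJz, fun q hq hzq => ?_⟩
  by_contra hqm
  -- pass to the quotient `O ⧸ z`
  let π := Ideal.Quotient.mk z
  have hπ : Function.Surjective π := Ideal.Quotient.mk_surjective
  haveI : IsDomain (O ⧸ z) := Ideal.Quotient.isDomain z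
  haveI : IsLocalRing (O ⧸ z) := IsLocalRing.of_surjective' π hπ
  have hker : RingHom.ker π = z := Ideal.mk_ker
  have hq₀p : (q.map π).IsPrime := Ideal.map_isPrime_of_surjective hπ (by rw [hker]; exact hzq.le)
  have hcomapq : (q.map π).comap π = q := by
    rw [Ideal.comap_map_of_surjective π hπ, ← RingHom.ker_eq_comap_bot, hker]
    exact sup_eq_left.mpr hzq.le
  have hq0 : q.map π ≠ ⊥ := by
    intro h
    have : q ≤ z := by
      rw [← hcomapq, h, ← RingHom.ker_eq_comap_bot, hker]
    exact absurd hzq (not_lt_of_ge this)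
  have hqm' : q.map π ≠ IsLocalRing.maximalIdeal (O ⧸ z) := by
    intro h
    apply hqm
    have h1 : (IsLocalRing.maximalIdeal (O ⧸ z)).comap π = IsLocalRing.maximalIdeal O := by
      have : ((IsLocalRing.maximalIdeal (O ⧸ z)).comap π).IsMaximal :=
        Ideal.comap_isMaximal_of_surjective π hπ
      exact IsLocalRing.eq_maximalIdeal this
    rw [← hcomapq, h, h1]
  have hJ0 : J.map π ≠ ⊥ := by
    intro h
    apply hJz
    have : J ≤ (J.map π).comap π := Ideal.le_comap_map
    rw [h, ← RingHom.ker_eq_comap_bot, hker] at this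
    exact this
  obtain ⟨q', hq'p, hq'0, hJq'⟩ := exists_prime_not_le (q.map π) hq0 hqm' (J.map π) hJ0
  have hcp : (q'.comap π).IsPrime := Ideal.comap_isPrime π q'
  have hzq' : z < q'.comap π := by
    refine lt_of_le_of_ne ?_ ?_
    · have : RingHom.ker π ≤ q'.comap π := by
        rw [RingHom.ker_eq_comap_bot]
        exact Ideal.comap_mono bot_le
      exact hker.ge.trans this
    · intro h
      apply hq'0
      have := Ideal.map_comap_of_surjective π hπ q'
      rw [← this, ← h]
      exact Ideal.map_quotient_self z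
  have hJc : ¬ J ≤ q'.comap π := by
    intro h
    exact hJq' (Ideal.map_le_iff_le_comap.mpr h)
  exact hzmax (q'.comap π) ⟨hcp, hJc⟩ hzq'

end Ring

section Top

/-- In a Noetherian ring, a prime that is both maximal and minimal is an isolated point of the
spectrum (no Jacobson hypothesis needed). -/
theorem isOpen_singleton_of_isClosed_of_stableUnderGeneralization {R : Type*} [CommRing R]
    [IsNoetherianRing R] (x : PrimeSpectrum R) (h₁ : IsClosed ({x} : Set (PrimeSpectrum R)))
    (h₂ : StableUnderGeneralization ({x} : Set (PrimeSpectrum R))) :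
    IsOpen ({x} : Set (PrimeSpectrum R)) := by
  rw [PrimeSpectrum.isClosed_singleton_iff_isMaximal, ← PrimeSpectrum.isMax_iff] at h₁
  suffices {x} = (⋃ p ∈ { p : PrimeSpectrum R | IsMin p ∧ p ≠ x }, closure {p})ᶜ by
    rw [this, isOpen_compl_iff]
    refine Set.Finite.isClosed_biUnion ?_ (fun _ _ ↦ isClosed_closure)
    exact (PrimeSpectrum.finite_setOfPred_isMin R).subset fun x h ↦ h.1
  ext p
  simp only [Set.mem_singleton_iff, ne_eq, Set.mem_ofPred_eq, Set.compl_iUnion, Set.mem_iInter,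
    Set.mem_compl_iff, and_imp, ← specializes_iff_mem_closure, ← PrimeSpectrum.le_iff_specializes,
    not_imp_not]
  constructor
  · rintro rfl _ _
    rw [PrimeSpectrum.stableUnderGeneralization_singleton, ← PrimeSpectrum.isMin_iff] at h₂
    exact h₂.eq_of_le
  · intro hp
    apply h₁.eq_of_ge
    obtain ⟨q, hq, hq'⟩ := Ideal.exists_minimalPrimes_le (J := p.asIdeal) bot_le
    exact (hp ⟨q, hq.1.1⟩ (PrimeSpectrum.isMin_iff.mpr hq) hq').ge.trans hq'

/-- In a locally Noetherian scheme, a closed point without proper generizations is isolated. -/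
theorem isOpen_singleton_of_isLocallyNoetherian (W : Scheme.{u}) [IsLocallyNoetherian W] (a : W)
    (h₁ : IsClosed ({a} : Set W)) (h₂ : StableUnderGeneralization ({a} : Set W)) :
    IsOpen ({a} : Set W) := by
  obtain ⟨_, ⟨V, hV, rfl⟩, haV, -⟩ := W.isBasis_affineOpens.exists_subset_of_mem_open
    (Set.mem_univ a) isOpen_univ
  have hVa : IsAffineOpen V := hV
  haveI : IsNoetherianRing Γ(W, V) := IsLocallyNoetherian.component_noetherian ⟨V, hV⟩
  obtain ⟨p, hpa⟩ : ∃ p : PrimeSpectrum Γ(W, V), hVa.fromSpec p = a :=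
    ⟨_, hVa.fromSpec_primeIdealOf ⟨a, haV⟩⟩
  have hemb : Topology.IsOpenEmbedding hVa.fromSpec := hVa.fromSpec.isOpenEmbedding
  have hpre : ({p} : Set (PrimeSpectrum Γ(W, V))) = hVa.fromSpec ⁻¹' {a} := by
    ext q
    constructor
    · intro h
      have h : q = p := h
      rw [h]
      exact hpa
    · intro h
      have h : hVa.fromSpec q = a := h
      exact hemb.injective (h.trans hpa.symm)
  have hc : IsClosed ({p} : Set (PrimeSpectrum Γ(W, V))) := by
    rw [hpre]
    exact h₁.preimage hVa.fromSpec.continuous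
  have hg : StableUnderGeneralization ({p} : Set (PrimeSpectrum Γ(W, V))) := by
    intro q q' hq'q hq
    have hq : q = p := hq
    subst hq
    have h1 : hVa.fromSpec q' ⤳ hVa.fromSpec q := hq'q.map hVa.fromSpec.continuous
    rw [hpa] at h1
    have h2 : hVa.fromSpec q' = a := h₂ h1 rfl
    exact hemb.injective (h2.trans hpa.symm)
  have h3 := isOpen_singleton_of_isClosed_of_stableUnderGeneralization p hc hg
  have h4 := hemb.isOpenMap _ h3
  convert h4 using 1
  ext y
  constructor
  · intro h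
    have h : y = a := h
    exact ⟨p, rfl, hpa.trans h.symm⟩
  · rintro ⟨q, hq, rfl⟩
    have hq : q = p := hq
    rw [hq]
    exact hpa

end Top

section Main

variable {X S : Scheme.{u}} (f : X ⟶ S)

/-- the locus in `Spec 𝒪_{X,x}` of points mapping to `f x` is closed. -/
theorem isClosed_preimage_fromSpecStalk (x : X) :
    IsClosed {p : Spec (X.presheaf.stalk x) | f (X.fromSpecStalk x p) = f x} := by
  have h1 : (S.fromSpecStalk (f x)) ⁻¹' {f x} =
      {IsLocalRing.closedPoint (S.presheaf.stalk (f x))} := by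
    ext q
    simp only [Set.mem_preimage, Set.mem_singleton_iff]
    constructor
    · intro h
      exact (S.fromSpecStalk (f x)).isEmbedding.injective
        (h.trans Scheme.fromSpecStalk_closedPoint.symm)
    · rintro rfl
      exact Scheme.fromSpecStalk_closedPoint
  have h2 : {p : Spec (X.presheaf.stalk x) | f (X.fromSpecStalk x p) = f x} =
      (Spec.map (f.stalkMap x)) ⁻¹' ((S.fromSpecStalk (f x)) ⁻¹' {f x}) := by
    ext p
    simp only [Set.mem_ofPred_eq, Set.mem_preimage, Set.mem_singleton_iff]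
    rw [← Scheme.Hom.comp_apply, ← Scheme.Hom.comp_apply,
      Scheme.SpecMap_stalkMap_fromSpecStalk f (x := x)]
  rw [h2, h1]
  exact (IsLocalRing.isClosed_singleton_closedPoint _).preimage (Spec.map _).continuous

theorem main [LocallyOfFiniteType f] [IsLocallyNoetherian S] (x : X)
    (hcl : IsClosed (Subtype.val ⁻¹' {x} : Set ↑(f ⁻¹' {f x}))) (U : X.Opens)
    (hx' : ∃ x' : X, x' ∈ U ∧ x' ⤳ x ∧ f x' ≠ f x) :
    ∃ (I : X.IdealSheafData) (z₀ x₀ : ↑I.subscheme), I.subschemeι x₀ = x ∧
      (I.subschemeι ≫ f).QuasiFiniteAt x₀ ∧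
      I.subschemeι z₀ ∈ U ∧ I.subschemeι z₀ ⤳ x ∧ f (I.subschemeι z₀) ≠ f x := by
  obtain ⟨x', hx'U, hx'x, hfx'⟩ := hx'
  haveI : IsLocallyNoetherian X := LocallyOfFiniteType.isLocallyNoetherian f
  -- the good open set
  have hGopen : IsOpen {p : Spec (X.presheaf.stalk x) |
      X.fromSpecStalk x p ∈ U ∧ f (X.fromSpecStalk x p) ≠ f x} := by
    have h1 : IsOpen ((X.fromSpecStalk x) ⁻¹' (U : Set X)) :=
      U.2.preimage (X.fromSpecStalk x).continuous
    have h2 := (isClosed_preimage_fromSpecStalk f x).isOpen_compl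
    exact h1.inter h2
  obtain ⟨J, hJ⟩ := (PrimeSpectrum.isClosed_iff_zeroLocus_ideal _).mp hGopen.isClosed_compl
  have hmemG : ∀ p : Spec (X.presheaf.stalk x),
      (X.fromSpecStalk x p ∈ U ∧ f (X.fromSpecStalk x p) ≠ f x) ↔ ¬ J ≤ p.asIdeal := by
    intro p
    have := Set.ext_iff.mp hJ p
    simp only [Set.mem_compl_iff, Set.mem_ofPred_eq] at this
    exact ⟨fun h hle => this.mpr hle h, fun h => by_contra fun hn => h (this.mp hn)⟩
  obtain ⟨p', hp'⟩ : ∃ p', X.fromSpecStalk x p' = x' := by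
    have : x' ∈ Set.range (X.fromSpecStalk x) := by
      rw [Scheme.range_fromSpecStalk]
      exact hx'x
    exact this
  have hp'J : ¬ J ≤ p'.asIdeal := (hmemG p').mp (by rw [hp']; exact ⟨hx'U, hfx'⟩)
  obtain ⟨z, hzp, hJz, hzmax⟩ := exists_prime_coheight_le_one J p'.asIdeal hp'J
  obtain ⟨hzU, hfz⟩ := (hmemG ⟨z, hzp⟩).mpr hJz
  obtain ⟨z', hz'⟩ : ∃ z' : X, z' = X.fromSpecStalk x ⟨z, hzp⟩ := ⟨_, rfl⟩
  rw [← hz'] at hzU hfz
  have hz'x : z' ⤳ x := by
    have : z' ∈ Set.range (X.fromSpecStalk x) := ⟨⟨z, hzp⟩, hz'.symm⟩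
    rw [Scheme.range_fromSpecStalk] at this
    exact this
  -- key claim
  have key : ∀ y : X, z' ⤳ y → y ⤳ x → f y = f x → y = x := by
    intro y hzy hyx hfy
    obtain ⟨q, rfl⟩ : ∃ q, X.fromSpecStalk x q = y := by
      have : y ∈ Set.range (X.fromSpecStalk x) := by
        rw [Scheme.range_fromSpecStalk]
        exact hyx
      exact this
    rw [hz'] at hzy
    have hle : (⟨z, hzp⟩ : Spec (X.presheaf.stalk x)) ⤳ q :=
      ((X.fromSpecStalk x).isEmbedding.isInducing.specializes_iff).mp hzy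
    rw [← PrimeSpectrum.le_iff_specializes] at hle
    rcases hle.lt_or_eq with hlt | heq
    · have h1 := hzmax q.asIdeal q.2 hlt
      have h2 : q = IsLocalRing.closedPoint _ := PrimeSpectrum.ext h1
      rw [h2]
      exact Scheme.fromSpecStalk_closedPoint
    · exfalso
      rw [← heq, ← hz'] at hfy
      exact hfz hfy
  -- the closed subscheme
  obtain ⟨I, hI⟩ : ∃ I : X.IdealSheafData, Set.range I.subschemeι = closure {z'} := by
    refine ⟨Scheme.IdealSheafData.vanishingIdeal ⟨closure {z'}, isClosed_closure⟩, ?_⟩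
    rw [Scheme.IdealSheafData.range_subschemeι]
    exact Scheme.IdealSheafData.coe_support_vanishingIdeal _
  obtain ⟨z₀, hz₀⟩ : ∃ z₀, I.subschemeι z₀ = z' := by
    have : z' ∈ Set.range I.subschemeι := by
      rw [hI]
      exact subset_closure rfl
    exact this
  obtain ⟨x₀, hx₀⟩ : ∃ x₀, I.subschemeι x₀ = x := by
    have : x ∈ Set.range I.subschemeι := by
      rw [hI]
      exact hz'x.mem_closure
    exact this
  refine ⟨I, z₀, x₀, hx₀, ?_, by rw [hz₀]; exact hzU, by rw [hz₀]; exact hz'x,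
    by rw [hz₀]; exact hfz⟩
  -- quasi-finiteness
  rw [Scheme.Hom.quasiFiniteAt_iff_isOpen_singleton_asFiber]
  haveI : LocallyOfFiniteType
      ((I.subschemeι ≫ f).fiberToSpecResidueField ((I.subschemeι ≫ f) x₀)) :=
    MorphismProperty.pullback_snd _ _ inferInstance
  haveI : IsLocallyNoetherian ((I.subschemeι ≫ f).fiber ((I.subschemeι ≫ f) x₀)) :=
    LocallyOfFiniteType.isLocallyNoetherian
      ((I.subschemeι ≫ f).fiberToSpecResidueField ((I.subschemeι ≫ f) x₀))
  have hja : (I.subschemeι ≫ f).fiberι _ ((I.subschemeι ≫ f).asFiber x₀) = x₀ :=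
    (I.subschemeι ≫ f).fiberι_asFiber x₀
  have hinj : Function.Injective ((I.subschemeι ≫ f).fiberι ((I.subschemeι ≫ f) x₀)) :=
    ((I.subschemeι ≫ f).fiberι ((I.subschemeι ≫ f) x₀)).isEmbedding.injective
  have hιinj : Function.Injective I.subschemeι := I.subschemeι.isEmbedding.injective
  have hfib : ∀ b : (I.subschemeι ≫ f).fiber ((I.subschemeι ≫ f) x₀),
      f (I.subschemeι ((I.subschemeι ≫ f).fiberι _ b)) = f x := by
    intro b
    have h1 : (I.subschemeι ≫ f).fiberι _ b ∈ Set.range ((I.subschemeι ≫ f).fiberι _) := ⟨b, rfl⟩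
    rw [Scheme.Hom.range_fiberι] at h1
    have h2 : (I.subschemeι ≫ f) ((I.subschemeι ≫ f).fiberι _ b) = (I.subschemeι ≫ f) x₀ := h1
    have h3 : (I.subschemeι ≫ f) x₀ = f x :=
      (Scheme.Hom.comp_apply _ _ _).trans (congrArg f hx₀)
    exact (Scheme.Hom.comp_apply _ _ _).symm.trans (h2.trans h3)
  have hmem : ∀ b : (I.subschemeι ≫ f).fiber ((I.subschemeι ≫ f) x₀),
      z' ⤳ I.subschemeι ((I.subschemeι ≫ f).fiberι _ b) := by
    intro b
    have : I.subschemeι ((I.subschemeι ≫ f).fiberι _ b) ∈ Set.range I.subschemeι := ⟨_, rfl⟩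
    rw [hI] at this
    exact specializes_iff_mem_closure.mpr this
  apply isOpen_singleton_of_isLocallyNoetherian
  · -- closedness
    obtain ⟨C, hC, hCeq⟩ := isClosed_induced_iff.mp hcl
    have hCx : ∀ y : X, y ∈ C → f y = f x → y = x := by
      intro y hyC hfy
      have : (⟨y, hfy⟩ : ↑(f ⁻¹' {f x})) ∈ Subtype.val ⁻¹' C := hyC
      rw [hCeq] at this
      exact this
    have hxC : x ∈ C := by
      have : (⟨x, rfl⟩ : ↑(f ⁻¹' {f x})) ∈ Subtype.val ⁻¹' C := by
        rw [hCeq]
        rfl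
      exact this
    have hset : ({(I.subschemeι ≫ f).asFiber x₀} : Set _) =
        ((I.subschemeι ≫ f).fiberι ((I.subschemeι ≫ f) x₀)) ⁻¹' (I.subschemeι ⁻¹' C) := by
      ext b
      simp only [Set.mem_singleton_iff, Set.mem_preimage]
      constructor
      · rintro rfl
        rw [hja, hx₀]
        exact hxC
      · intro hb
        have := hCx _ hb (hfib b)
        apply hinj
        apply hιinj
        rw [this, hja, hx₀]
    rw [hset]
    exact (hC.preimage I.subschemeι.continuous).preimage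
      ((I.subschemeι ≫ f).fiberι ((I.subschemeι ≫ f) x₀)).continuous
  · -- no proper generizations
    intro a b hba ha
    rw [Set.mem_singleton_iff] at ha ⊢
    subst ha
    have h1 := hba.map ((I.subschemeι ≫ f).fiberι ((I.subschemeι ≫ f) x₀)).continuous
    rw [hja] at h1
    have h2 := h1.map I.subschemeι.continuous
    rw [hx₀] at h2
    have h3 := key _ (hmem b) h2 (hfib b)
    apply hinj
    apply hιinj
    rw [h3, hja, hx₀]

end Main

section Closure

/-- In the spectrum of a Noetherian ring, a point in the closure of an open set is a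
specialization of a point of that open set. -/
theorem exists_specializes_of_mem_closure_spec {A : Type*} [CommRing A] [IsNoetherianRing A]
    (U : Set (PrimeSpectrum A)) (hU : IsOpen U) (p : PrimeSpectrum A) (hp : p ∈ closure U) :
    ∃ q ∈ U, q ⤳ p := by
  have hC : IsClosed (⋃ m ∈ {m : PrimeSpectrum A | IsMin m ∧ ¬ m ⤳ p}, closure {m}) := by
    refine Set.Finite.isClosed_biUnion ?_ (fun _ _ ↦ isClosed_closure)
    exact (PrimeSpectrum.finite_setOfPred_isMin A).subset fun x h ↦ h.1
  have hpC : p ∉ (⋃ m ∈ {m : PrimeSpectrum A | IsMin m ∧ ¬ m ⤳ p}, closure {m}) := by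
    intro h
    simp only [Set.mem_iUnion] at h
    obtain ⟨m, ⟨_, hm⟩, hpm⟩ := h
    exact hm (specializes_iff_mem_closure.mpr hpm)
  obtain ⟨q, hqC, hqU⟩ := mem_closure_iff.mp hp _ hC.isOpen_compl hpC
  obtain ⟨m, hm, hmq⟩ := Ideal.exists_minimalPrimes_le (J := q.asIdeal) bot_le
  have hm'q : (⟨m, hm.1.1⟩ : PrimeSpectrum A) ⤳ q :=
    (PrimeSpectrum.le_iff_specializes _ _).mp hmq
  refine ⟨⟨m, hm.1.1⟩, hm'q.mem_open hU hqU, ?_⟩
  by_contra hmp
  apply hqC
  simp only [Set.mem_iUnion]
  exact ⟨⟨m, hm.1.1⟩, ⟨PrimeSpectrum.isMin_iff.mpr hm, hmp⟩, hm'q.mem_closure⟩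

/-- In a locally Noetherian scheme, a point in the closure of an open set is a specialization of
a point of that open set. -/
theorem exists_specializes_of_mem_closure (X : Scheme.{u}) [IsLocallyNoetherian X] (U : X.Opens)
    (x : X) (hx : x ∈ closure (U : Set X)) : ∃ x' ∈ U, x' ⤳ x := by
  obtain ⟨_, ⟨V, hV, rfl⟩, hxV, -⟩ := X.isBasis_affineOpens.exists_subset_of_mem_open
    (Set.mem_univ x) isOpen_univ
  have hVa : IsAffineOpen V := hV
  haveI : IsNoetherianRing Γ(X, V) := IsLocallyNoetherian.component_noetherian ⟨V, hV⟩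
  obtain ⟨p, hpx⟩ : ∃ p : PrimeSpectrum Γ(X, V), hVa.fromSpec p = x :=
    ⟨_, hVa.fromSpec_primeIdealOf ⟨x, hxV⟩⟩
  have hemb : Topology.IsOpenEmbedding hVa.fromSpec := hVa.fromSpec.isOpenEmbedding
  have hp : p ∈ closure (hVa.fromSpec ⁻¹' (U : Set X)) := by
    rw [← hemb.isOpenMap.preimage_closure_eq_closure_preimage hemb.continuous]
    change hVa.fromSpec p ∈ closure (U : Set X)
    rw [hpx]
    exact hx
  obtain ⟨q, hqU, hqp⟩ :=
    exists_specializes_of_mem_closure_spec _ (U.2.preimage hemb.continuous) p hp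
  refine ⟨hVa.fromSpec q, hqU, ?_⟩
  have := hqp.map hemb.continuous
  rwa [hpx] at this

end Closure

/-- The variant with `U` missing the fibre but `x ∈ closure U`. -/
theorem main' {X S : Scheme.{u}} (f : X ⟶ S) [LocallyOfFiniteType f] [IsLocallyNoetherian S] (x : X)
    (hcl : IsClosed (Subtype.val ⁻¹' {x} : Set ↑(f ⁻¹' {f x}))) (U : X.Opens)
    (hU : ∀ x' ∈ U, f x' ≠ f x) (hxU : x ∈ closure (U : Set ↑X)) :
    ∃ (I : X.IdealSheafData) (z₀ x₀ : ↑I.subscheme), I.subschemeι x₀ = x ∧
      (I.subschemeι ≫ f).QuasiFiniteAt x₀ ∧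
      I.subschemeι z₀ ∈ U ∧ I.subschemeι z₀ ⤳ x ∧ f (I.subschemeι z₀) ≠ f x := by
  haveI : IsLocallyNoetherian X := LocallyOfFiniteType.isLocallyNoetherian f
  obtain ⟨x', hx'U, hx'x⟩ := exists_specializes_of_mem_closure X U x hxU
  exact main f x hcl U ⟨x', hx'U, hx'x, hU x' hx'U⟩

end Groth.Agent.Lib.Helper8QFClosed
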