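-- helper8: quasi-compactness of f from f ≫ g quasi-compact and g quasi-separated (S12986)
import Mathlib
import Groth.Agent.Lib.Helper15GoodComp
import Groth.Agent.Lib.Helper15ImmQc
import Groth.Agent.Lib.Helper8DiagCancel
import Groth.Agent.Lib.Helper15QcRep
import Groth.Agent.Lib.Helper15UnivComp
import Groth.Agent.S12982

set_option autoImplicit false
set_option backward.isDefEq.respectTransparency false
set_option backward.isDefEq.respectTransparency.types false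
open CategoryTheory CategoryTheory.Functor CategoryTheory.Limits Opposite AlgebraicGeometry

universe u

namespace Groth.Agent.Lib.Helper8QcCancel

open Groth.Agent.Lib.Helper17 Groth.Agent.Lib.Helper15PshFib Groth.Agent.Lib.Helper15RepComp
  Groth.Agent.Lib.Helper15RepPsh Groth.Agent.Lib.Helper15DiagBase Groth.Agent.Lib.Helper15DiagRepSp
  Groth.Agent.Lib.Helper15Descent Groth.Agent.Lib.Helper15DiagLft
  Groth.Agent.Lib.Helper15DiagDescent Groth.Agent.Lib.Helper15SpMapRep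
  Groth.Agent.Lib.Helper15SrcCancel Groth.Agent.Lib.Helper15ChartSp Groth.Agent.Lib.Helper15Atlas
  Groth.Agent.Lib.Helper15LocEss Groth.Agent.Lib.Helper15UnivComp Groth.Agent.Lib.Helper15SmLoc
  Groth.Agent.Lib.Helper15PtsComp Groth.Agent.Lib.Helper15PtsTop Groth.Agent.Lib.Helper15PtsQc
  Groth.Agent.Lib.Helper15FpSwap Groth.Agent.Lib.Helper15QcLocal Groth.Agent.Lib.Helper15ClosedQc
  Groth.Agent.Lib.Helper15UnivPts Groth.Agent.Lib.Helper15BaseChange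
  Groth.Agent.Lib.Helper15MonoSep Groth.Agent.Lib.Helper15LocQ Groth.Agent.Lib.Helper15LocQEngine
  Groth.Agent.Lib.Helper15LocQProps Groth.Agent.Lib.Helper15LocQSpace
  Groth.Agent.Lib.Helper15LocQSpace2 Groth.Agent.Lib.Helper15LocQRep
  Groth.Agent.Lib.Helper15LocQComp Groth.Agent.Lib.Helper15GoodComp
  Groth.Agent.Lib.Helper8DiagCancel

open Groth.Agent.Lib.Helper15ImmQc Groth.Agent.Lib.Helper15QcRep

variable {S : Scheme.{u}} {𝒳 𝒴 𝒵 : AlgSt.Cat S}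

/-- An equivalence of algebraic stacks is quasi-compact. -/
theorem isQuasiCompactMor_of_isEquivOver (h𝒳 : AlgSt.IsAlgStack Scheme.fppfPrecoverage 𝒳)
    (h𝒴 : AlgSt.IsAlgStack Scheme.fppfPrecoverage 𝒴) (E : 𝒳 ⥤ᵇ 𝒴) (hE : FibCat.IsEquivOver E) :
    AlgSt.IsQuasiCompactMor Scheme.fppfPrecoverage E :=
  isQuasiCompactMor_of_rep h𝒳 h𝒴 E
    (Groth.Agent.Lib.Helper15EquivRep.repByAlgSpWith_of_isEquivOver _ (fun U => (qcqs_id U).1) E hE)

/-- If `f ≫ g` is quasi-compact and `g` is quasi-separated then `f` is quasi-compact. -/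
theorem isQuasiCompactMor_of_comp (h𝒳 : AlgSt.IsAlgStack Scheme.fppfPrecoverage 𝒳)
    (h𝒴 : AlgSt.IsAlgStack Scheme.fppfPrecoverage 𝒴)
    (h𝒵 : AlgSt.IsAlgStack Scheme.fppfPrecoverage 𝒵) (f : 𝒳 ⥤ᵇ 𝒴) (g : 𝒴 ⥤ᵇ 𝒵)
    (hfg : AlgSt.IsQuasiCompactMor Scheme.fppfPrecoverage (BasedFunctor.comp f g))
    (hg : AlgSt.IsQuasiSeparatedMor g) :
    AlgSt.IsQuasiCompactMor Scheme.fppfPrecoverage f := by
  have hpre𝒵 := IsStack.isPrestack _ h𝒵.isStack
  let p : 𝒳 ⥤ᵇ 𝒵 := BasedFunctor.comp f g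
  have hfp : AlgSt.IsAlgStack Scheme.fppfPrecoverage (FibCat.fp p g) :=
    isAlgStack_fp_of_isPrestack hpre𝒵 h𝒵.diag h𝒳 h𝒴 p g
  have hfp' : AlgSt.IsAlgStack Scheme.fppfPrecoverage (FibCat.fp g p) :=
    isAlgStack_fp_of_isPrestack hpre𝒵 h𝒵.diag h𝒴 h𝒳 g p
  let Γ : 𝒳 ⥤ᵇ FibCat.fp p g := FibCat.fpLift (BasedFunctor.id 𝒳) f (Iso.refl _)
  have hΓ : AlgSt.RepByAlgSpWith (AlgSp.IsQuasiCompactMor ⊓ AlgSp.IsQuasiSeparatedMor) Γ :=
    repByAlgSpWith_graph _ p g f (Iso.refl _) hg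
  have hΓ' : AlgSt.IsQuasiCompactMor Scheme.fppfPrecoverage Γ :=
    isQuasiCompactMor_of_rep h𝒳 hfp Γ (repByAlgSpWith_mono (fun _ _ _ h => h.1) _ hΓ)
  have h1 : AlgSt.IsQuasiCompactMor Scheme.fppfPrecoverage (FibCat.fpFst g p) :=
    Groth.Agent.S12982.result S 𝒳 𝒵 𝒴 h𝒳 h𝒵 h𝒴 p g hfg
  have h2 : AlgSt.IsQuasiCompactMor Scheme.fppfPrecoverage (fpSwap p g) :=
    isQuasiCompactMor_of_isEquivOver hfp hfp' _ (isEquivOver_fpSwap p g)
  have h3 : AlgSt.IsQuasiCompactMor Scheme.fppfPrecoverage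
      (BasedFunctor.comp (fpSwap p g) (FibCat.fpFst g p)) :=
    Groth.Agent.Lib.Helper15UnivComp.isQuasiCompactMor_comp hfp' h𝒴 _ _ h2 h1
  exact Groth.Agent.Lib.Helper15UnivComp.isQuasiCompactMor_comp hfp h𝒴 Γ
    (BasedFunctor.comp (fpSwap p g) (FibCat.fpFst g p)) hΓ' h3

end Groth.Agent.Lib.Helper8QcCancel
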