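-- helper8: quasi-compactness descends along a flat lfp surjective functor of algebraic stacks (S13009)
import Mathlib
import Groth.Agent.Lib.Helper15GoodComp
import Groth.Agent.Lib.Helper8LocQFppf

set_option autoImplicit false
set_option backward.isDefEq.respectTransparency false
set_option backward.isDefEq.respectTransparency.types false
open CategoryTheory CategoryTheory.Functor CategoryTheory.Limits Opposite AlgebraicGeometry

universe u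

namespace Groth.Agent.Lib.Helper8QcFppf

open Groth.Agent.Lib.Helper17 Groth.Agent.Lib.Helper15PshFib Groth.Agent.Lib.Helper15RepComp
  Groth.Agent.Lib.Helper15RepPsh Groth.Agent.Lib.Helper15DiagBase Groth.Agent.Lib.Helper15DiagRepSp
  Groth.Agent.Lib.Helper15Descent Groth.Agent.Lib.Helper15DiagLft
  Groth.Agent.Lib.Helper15DiagDescent Groth.Agent.Lib.Helper15SpMapRep
  Groth.Agent.Lib.Helper15SrcCancel Groth.Agent.Lib.Helper15ChartSp Groth.Agent.Lib.Helper15Atlas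
  Groth.Agent.Lib.Helper15LocEss Groth.Agent.Lib.Helper15UnivComp Groth.Agent.Lib.Helper15SmLoc
  Groth.Agent.Lib.Helper15PtsComp Groth.Agent.Lib.Helper15PtsTop Groth.Agent.Lib.Helper15PtsQc
  Groth.Agent.Lib.Helper15FpSwap Groth.Agent.Lib.Helper15QcLocal Groth.Agent.Lib.Helper15ClosedQc
  Groth.Agent.Lib.Helper15UnivPts Groth.Agent.Lib.Helper15BaseChange
  Groth.Agent.Lib.Helper15MonoSep Groth.Agent.Lib.Helper15LocQ Groth.Agent.Lib.Helper15LocQEngine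
  Groth.Agent.Lib.Helper15LocQProps Groth.Agent.Lib.Helper15LocQSpace
  Groth.Agent.Lib.Helper15LocQSpace2 Groth.Agent.Lib.Helper15LocQRep
  Groth.Agent.Lib.Helper15LocQComp Groth.Agent.Lib.Helper15GoodComp
  Groth.Agent.Lib.Helper8DiagCancel

variable {S : Scheme.{u}} {𝒳 𝒴 𝒵 : AlgSt.Cat S}

/-- Quasi-compactness descends along a flat, locally finitely presented, surjective functor of
algebraic stacks. -/
theorem isQuasiCompactMor_of_fpFst_of_fppf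
    (h𝒳 : AlgSt.IsAlgStack Scheme.fppfPrecoverage 𝒳)
    (h𝒴 : AlgSt.IsAlgStack Scheme.fppfPrecoverage 𝒴)
    (h𝒵 : AlgSt.IsAlgStack Scheme.fppfPrecoverage 𝒵) (f : 𝒳 ⥤ᵇ 𝒴) (z : 𝒵 ⥤ᵇ 𝒴)
    (hz₁ : AlgSt.LocQ (AlgSp.LocP @Flat) z)
    (hz₂ : AlgSt.LocQ (AlgSp.LocP @LocallyOfFinitePresentation) z)
    (hz₃ : AlgSt.IsSurjective z)
    (hq : AlgSt.IsQuasiCompactMor Scheme.fppfPrecoverage (FibCat.fpFst z f)) :
    AlgSt.IsQuasiCompactMor Scheme.fppfPrecoverage f := by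
  obtain ⟨W₀, xZ, hxZ₁, hxZ₂⟩ := h𝒵.atlas
  have hW₀ := isAlgStack_overCat W₀
  let z' : FibCat.overCat W₀ ⥤ᵇ 𝒴 := BasedFunctor.comp xZ z
  have hz'rep : AlgSt.RepByAlgSp1 z' := repByAlgSp1_of_repByAlgSp1_diag h𝒴.diag W₀ z'
  have hxZrep : AlgSt.RepByAlgSp1 xZ := repByAlgSp1_of_repByAlgSpWith _ xZ hxZ₁
  have hfl : AlgSt.LocQ (AlgSp.LocP @Flat) z' :=
    locQ_comp _ isSmoothLocalST_flat
      (fun _ _ _ _ hY hZ a b ha hb => locP_flat_comp hY hZ a b ha hb) hW₀ h𝒵 h𝒴 xZ z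
      (locQ_of_repByAlgSpWith _ isSmoothLocalST_flat hW₀ h𝒵 xZ (flat_of_smooth hxZ₁)) hz₁
  have hfl' : AlgSt.RepByAlgSpWith (AlgSp.LocP @Flat) z' :=
    repByAlgSpWith_of_locQ _ isSmoothLocalST_flat bcStable_flat
      (isLocalOnBase_fppf_of_fpqc _ (Groth.Agent.S10530.result S)) hW₀ h𝒴 z' hz'rep hfl
  have hfp : AlgSt.LocQ (AlgSp.LocP @LocallyOfFinitePresentation) z' :=
    locQ_comp _ isSmoothLocalST_lfp
      (fun _ _ _ _ hY hZ a b ha hb => locP_lfp_comp hY hZ a b ha hb) hW₀ h𝒵 h𝒴 xZ z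
      (locQ_of_repByAlgSpWith _ isSmoothLocalST_lfp hW₀ h𝒵 xZ (lfp_of_smooth hxZ₁)) hz₂
  have hfp' : AlgSt.RepByAlgSpWith (AlgSp.LocP @LocallyOfFinitePresentation) z' :=
    repByAlgSpWith_of_locQ _ isSmoothLocalST_lfp bcStable_lfp
      (isLocalOnBase_fppf_of_fpqc _ (Groth.Agent.S10527.result S)) hW₀ h𝒴 z' hz'rep hfp
  have hxZs : AlgSt.IsSurjective xZ := (isSurjective_iff_repByAlgSpWith hW₀ h𝒵 xZ hxZrep).2 hxZ₂
  have hz's : AlgSt.IsSurjective z' := by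
    intro η
    obtain ⟨ζ, rfl⟩ := hz₃ η
    obtain ⟨ξ, rfl⟩ := hxZs ζ
    exact ⟨ξ, points_map_comp xZ z ξ⟩
  have hsurj' : AlgSt.RepByAlgSpWith AlgSp.IsSurjectiveMor z' :=
    (isSurjective_iff_repByAlgSpWith hW₀ h𝒴 z' hz'rep).1 hz's
  -- the chart as a functor from the category of the sheaf of `W₀`
  let WW : AlgSp.Space S := ⟨(AlgSp.yon S).obj W₀, AlgSp.IsAlgSpace.yon_obj W₀⟩
  let w : AlgSt.ofSp WW.obj ⥤ᵇ 𝒴 := BasedFunctor.comp (AlgSt.toOverCat W₀) z'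
  have hsq : ∀ Q : MorphismProperty (AlgSp.Sp S), AlgSt.RepByAlgSpWith Q z' →
      AlgSt.RepByAlgSpWith Q w := fun Q hQ =>
    (repByAlgSpWith_of_square Q z' w (AlgSt.toOverCat W₀) (BasedFunctor.id _)
      (isEquivOver_toOverCat W₀) (isEquivOver_id _) (Iso.refl _)).1 hQ
  refine isQuasiCompactMor_of_fpFst_cover h𝒳 h𝒴 f WW w (hsq _ hfl') (hsq _ hfp') (hsq _ hsurj') ?_
  intro 𝒬 h𝒬 hqc g
  let γ : 𝒬 ⥤ᵇ 𝒵 := BasedFunctor.comp g (BasedFunctor.comp (AlgSt.toOverCat W₀) xZ)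
  have h1 : AlgSt.IsQuasiCompact (FibCat.fp γ (FibCat.fpFst z f)) := hq 𝒬 h𝒬 hqc γ
  have h2 : AlgSt.IsQuasiCompact (FibCat.fp (BasedFunctor.comp γ z) f) :=
    isQuasiCompact_of_isEquivOver _ (isEquivOver_pasteL f z γ) h1
  obtain ⟨I, hI, -, -⟩ := IsEquivOver.exists_inverse_isEquivOver' (pasteL f w g)
    (isEquivOver_pasteL f w g)
  exact isQuasiCompact_of_isEquivOver I hI h2

end Groth.Agent.Lib.Helper8QcFppf
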