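-- helper8: the base as an algebraic stack; quasi-compact stacks over a quasi-separated base have
-- quasi-compact structure morphism; S12987.
import Mathlib
import Groth.Agent.Lib.Helper15GoodComp
import Groth.Agent.Lib.Helper8DiagCancel
import Groth.Agent.Lib.Helper8ProdMap
import Groth.Agent.Lib.Helper8QcCancel
import Groth.Agent.Lib.Helper15QsComp

set_option autoImplicit false
set_option backward.isDefEq.respectTransparency false
set_option backward.isDefEq.respectTransparency.types false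
open CategoryTheory CategoryTheory.Functor CategoryTheory.Limits Opposite AlgebraicGeometry

universe u

namespace Groth.Agent.Lib.Helper8QcOverBase

open Groth.Agent.Lib.Helper17 Groth.Agent.Lib.Helper15PshFib Groth.Agent.Lib.Helper15RepComp
  Groth.Agent.Lib.Helper15RepPsh Groth.Agent.Lib.Helper15DiagBase Groth.Agent.Lib.Helper15DiagRepSp
  Groth.Agent.Lib.Helper15Descent Groth.Agent.Lib.Helper15DiagLft
  Groth.Agent.Lib.Helper15DiagDescent Groth.Agent.Lib.Helper15SpMapRep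
  Groth.Agent.Lib.Helper15SrcCancel Groth.Agent.Lib.Helper15ChartSp Groth.Agent.Lib.Helper15Atlas
  Groth.Agent.Lib.Helper15LocEss Groth.Agent.Lib.Helper15UnivComp Groth.Agent.Lib.Helper15SmLoc
  Groth.Agent.Lib.Helper15PtsComp Groth.Agent.Lib.Helper15PtsTop Groth.Agent.Lib.Helper15PtsQc
  Groth.Agent.Lib.Helper15FpSwap Groth.Agent.Lib.Helper15QcLocal Groth.Agent.Lib.Helper15ClosedQc
  Groth.Agent.Lib.Helper15UnivPts Groth.Agent.Lib.Helper15BaseChange
  Groth.Agent.Lib.Helper15MonoSep Groth.Agent.Lib.Helper15LocQ Groth.Agent.Lib.Helper15LocQEngine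
  Groth.Agent.Lib.Helper15LocQProps Groth.Agent.Lib.Helper15LocQSpace
  Groth.Agent.Lib.Helper15LocQSpace2 Groth.Agent.Lib.Helper15LocQRep
  Groth.Agent.Lib.Helper15LocQComp Groth.Agent.Lib.Helper15GoodComp
  Groth.Agent.Lib.Helper8DiagCancel Groth.Agent.Lib.Helper8ProdMap Groth.Agent.Lib.Helper15QsComp

variable {S : Scheme.{u}}

/-- The base `(Sch/S)` over itself is an algebraic stack. -/
theorem isAlgStack_selfOver :
    AlgSt.IsAlgStack Scheme.fppfPrecoverage (FibCat.selfOver (Over S)) := by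
  obtain ⟨F, hF⟩ := isEquivOver_of_terminal (𝒳 := FibCat.selfOver (Over S))
    (isFibGrpd_selfOver (Over S)) (Over.mk (𝟙 S))
    (fun ρ => ⟨{ default := Over.mkIdTerminal.from (ρ : Over S)
                 uniq := fun a => Over.mkIdTerminal.hom_ext _ _ }⟩)
  obtain ⟨F', hF', -, -⟩ := IsEquivOver.exists_inverse_isEquivOver' F hF
  exact isAlgStack_of_isEquivOver _ F' hF' (isDM_of_repByAlgSp (repByAlgSp_overCat _)).1

/-- Over a quasi-separated base, the structure morphism of a quasi-compact algebraic stack is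
quasi-compact. -/
theorem isQuasiCompactMor_toSelf [QuasiSeparatedSpace S] {𝒳 : AlgSt.Cat S}
    (h𝒳 : AlgSt.IsAlgStack Scheme.fppfPrecoverage 𝒳) (hq : AlgSt.IsQuasiCompact 𝒳) :
    AlgSt.IsQuasiCompactMor Scheme.fppfPrecoverage (FibCat.toSelf 𝒳) := by
  intro 𝒬 h𝒬 hq𝒬 g
  obtain ⟨U, u, hU, hu₁, hu₂⟩ := hq𝒬
  obtain ⟨V, v, hV, hv₁, hv₂⟩ := hq
  have hfU : FibCat.IsFibGrpd (FibCat.overCat U).p := (isFibSet_overForget U).1
  have hfV : FibCat.IsFibGrpd (FibCat.overCat V).p := (isFibSet_overForget V).1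
  have hfUV : FibCat.IsFibGrpd (FibCat.overCat (U ⨯ V)).p := (isFibSet_overForget (U ⨯ V)).1
  have hfS : FibCat.IsFibGrpd (FibCat.selfOver (Over S)).p := isFibGrpd_selfOver (Over S)
  have hf𝒬 : FibCat.IsFibGrpd 𝒬.p := h𝒬.isStack.1
  have hf𝒳 : FibCat.IsFibGrpd 𝒳.p := h𝒳.isStack.1
  let t : 𝒳 ⥤ᵇ FibCat.selfOver (Over S) := FibCat.toSelf 𝒳
  let m₁ : FibCat.fp (BasedFunctor.comp u g) t ⥤ᵇ FibCat.fp g t := mapLeft g u t
  let m₂ : FibCat.fp (BasedFunctor.comp u g) (BasedFunctor.comp v t) ⥤ᵇ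
      FibCat.fp (BasedFunctor.comp u g) t := mapRight (BasedFunctor.comp u g) v t
  have := IsEquivOver.isEquivalence (BasedFunctor.id (FibCat.selfOver (Over S))) (isEquivOver_id _)
  let E : prodSlice U V ⥤ᵇ FibCat.fp (BasedFunctor.comp u g) (BasedFunctor.comp v t) :=
    fpMap (BasedFunctor.comp u g) (BasedFunctor.comp v t) (FibCat.toSelf (FibCat.overCat U))
      (FibCat.toSelf (FibCat.overCat V)) (BasedFunctor.id _) (BasedFunctor.id _)
      (BasedFunctor.id _) (selfOverIso _ _) (selfOverIso _ _)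
  have hE : FibCat.IsEquivOver E := isEquivOver_fpMap _ _ _ _ _ _ _ _ _
    (isEquivOver_id _) (isEquivOver_id _)
  have hTE : FibCat.IsEquivOver (BasedFunctor.comp (toProdSlice U V) E) :=
    IsEquivOver.comp _ _ (isEquivOver_toProdSlice U V) hE
  have hfp1 : FibCat.IsFibGrpd (FibCat.fp (BasedFunctor.comp u g) (BasedFunctor.comp v t)).p :=
    isFibGrpd_fp _ _ hfU hfV hfS
  have hfp2 : FibCat.IsFibGrpd (FibCat.fp (BasedFunctor.comp u g) t).p :=
    isFibGrpd_fp _ _ hfU hf𝒳 hfS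
  have hm₁s : AlgSt.RepByAlgSpWith (AlgSp.LocP @Smooth) m₁ := repByAlgSpWith_mapLeft _ g u t hu₁
  have hm₁j : AlgSt.RepByAlgSpWith AlgSp.IsSurjectiveMor m₁ := repByAlgSpWith_mapLeft _ g u t hu₂
  have hm₂s : AlgSt.RepByAlgSpWith (AlgSp.LocP @Smooth) m₂ :=
    repByAlgSpWith_mapRight _ (BasedFunctor.comp u g) v t hv₁
  have hm₂j : AlgSt.RepByAlgSpWith AlgSp.IsSurjectiveMor m₂ :=
    repByAlgSpWith_mapRight _ (BasedFunctor.comp u g) v t hv₂
  have hms : AlgSt.RepByAlgSpWith (AlgSp.LocP @Smooth) (BasedFunctor.comp m₂ m₁) :=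
    repByAlgSpWith_comp_of_compCond hfp1 hfp2 _ compCond_smooth m₂ m₁ hm₂s hm₁s
  have hmj : AlgSt.RepByAlgSpWith AlgSp.IsSurjectiveMor (BasedFunctor.comp m₂ m₁) :=
    repByAlgSpWith_comp_of_compCond hfp1 hfp2 _ compCond_isSurjectiveMor m₂ m₁ hm₂j hm₁j
  have hc := chart_precomp_equiv (𝒳 := FibCat.fp g t) hfUV hfp1
    (BasedFunctor.comp (toProdSlice U V) E) hTE (BasedFunctor.comp m₂ m₁)
  have hcomp : CompactSpace ↥(U ⨯ V).left := by
    have : QuasiCompact U.hom := inferInstance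
    have : CompactSpace ↥(pullback U.hom V.hom) := inferInstance
    exact (Scheme.homeoOfIso (Over.prodLeftIsoPullback U V)).symm.compactSpace
  exact isQuasiCompact_of_compact_chart _ hcomp (hc.1 hms) (hc.2 hmj)

/-- Over a quasi-separated base, a morphism from a quasi-compact algebraic stack to an algebraic
stack quasi-separated over the base is quasi-compact. -/
theorem isQuasiCompactMor_of_isQuasiCompact_of_isQuasiSeparatedOver [QuasiSeparatedSpace S]
    {𝒳 𝒴 : AlgSt.Cat S} (h𝒳 : AlgSt.IsAlgStack Scheme.fppfPrecoverage 𝒳)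
    (h𝒴 : AlgSt.IsAlgStack Scheme.fppfPrecoverage 𝒴) (f : 𝒳 ⥤ᵇ 𝒴)
    (hq : AlgSt.IsQuasiCompact 𝒳) (hs : AlgSt.IsQuasiSeparatedOver 𝒴) :
    AlgSt.IsQuasiCompactMor Scheme.fppfPrecoverage f := by
  refine Groth.Agent.Lib.Helper8QcCancel.isQuasiCompactMor_of_comp h𝒳 h𝒴 isAlgStack_selfOver f
    (FibCat.toSelf 𝒴) ?_ hs
  rw [comp_toSelf]
  exact isQuasiCompactMor_toSelf h𝒳 hq

end Groth.Agent.Lib.Helper8QcOverBase
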