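-- helper8: quotient stacks [X/G]: trivial torsors, morphisms from them.
import Mathlib
import Groth.Prelude.Def_AlgSt5

set_option autoImplicit false
set_option backward.isDefEq.respectTransparency false
set_option backward.isDefEq.respectTransparency.types false
set_option linter.unusedSimpArgs false
set_option linter.unusedVariables false
open CategoryTheory CategoryTheory.Limits MonoidalCategory CartesianMonoidalCategory MonObj GrpObj
  AlgebraicGeometry

universe u

namespace Groth.Agent.Lib.Helper8QuotSt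

variable {S : Scheme.{u}} {K : Precoverage Scheme.{u}} [K.HasIsos] {G : Over S} [GrpObj G]
  {X : Over S} {aX : AlgGrp.Action G X}

/-- The trivial torsor over `T` attached to a `T`-point of `X`. -/
noncomputable abbrev triv (K : Precoverage Scheme.{u}) [K.HasIsos] (aX : AlgGrp.Action G X)
    {T : Over S} (x : T ⟶ X) : AlgSt.QuotObj K G aX :=
  (AlgSt.quotMap K G aX).obj ((AlgSt.ofOverCat X).obj (Over.mk x))

@[simp] theorem triv_base {T : Over S} (x : T ⟶ X) : (triv K aX x).base = T := rfl
@[simp] theorem triv_P {T : Over S} (x : T ⟶ X) : (triv K aX x).P = G ⊗ T := rfl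
@[simp] theorem triv_π {T : Over S} (x : T ⟶ X) : (triv K aX x).π = snd G T := rfl
@[simp] theorem triv_φ {T : Over S} (x : T ⟶ X) : (triv K aX x).φ = (G ◁ x) ≫ aX.act := rfl
@[simp] theorem triv_act {T : Over S} (x : T ⟶ X) :
    (triv K aX x).act = AlgSt.leftMul G T := rfl

/-- The action of `leftMul` followed by an equivariant-type map. -/
theorem leftMul_act_comp {T : Over S} {P : Over S} (a : AlgGrp.Action G P) (s : T ⟶ P) :
    (AlgSt.leftMul G T).act ≫ (G ◁ s) ≫ a.act = (G ◁ ((G ◁ s) ≫ a.act)) ≫ a.act := by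
  have hμ : fst (G ⊗ G) P ≫ μ[G] = (fst _ _ ≫ fst G G) * (fst _ _ ≫ snd G G) := by
    rw [Hom.mul_def, ← comp_lift, lift_fst_snd, Category.comp_id]
  have h : (AlgSt.leftMul G T).act ≫ (G ◁ s) =
      (G ◁ (G ◁ s)) ≫ (α_ G G P).inv ≫ (μ[G] ▷ P) := by
    apply CartesianMonoidalCategory.hom_ext
    · simp only [AlgSt.leftMul, Category.assoc, lift_fst, lift_snd, lift_fst_assoc, lift_snd_assoc, comp_lift, comp_mul, whiskerLeft_fst, whiskerLeft_snd, whiskerLeft_fst_assoc, whiskerLeft_snd_assoc, whiskerRight_fst, whiskerRight_snd, whiskerRight_fst_assoc, whiskerRight_snd_assoc, associator_hom_fst, associator_hom_snd_fst, associator_hom_snd_snd, associator_hom_snd_fst_assoc, associator_hom_snd_snd_assoc, associator_inv_fst_fst, associator_inv_fst_snd, associator_inv_snd, associator_inv_fst_fst_assoc, associator_inv_fst_snd_assoc, associator_inv_snd_assoc, hμ]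
    · simp only [AlgSt.leftMul, Category.assoc, lift_fst, lift_snd, lift_fst_assoc, lift_snd_assoc, comp_lift, comp_mul, whiskerLeft_fst, whiskerLeft_snd, whiskerLeft_fst_assoc, whiskerLeft_snd_assoc, whiskerRight_fst, whiskerRight_snd, whiskerRight_fst_assoc, whiskerRight_snd_assoc, associator_hom_fst, associator_hom_snd_fst, associator_hom_snd_snd, associator_hom_snd_fst_assoc, associator_hom_snd_snd_assoc, associator_inv_fst_fst, associator_inv_fst_snd, associator_inv_snd, associator_inv_fst_fst_assoc, associator_inv_fst_snd_assoc, associator_inv_snd_assoc]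
  have hm : (G ◁ a.act) ≫ a.act = (α_ G G P).inv ≫ (μ[G] ▷ P) ≫ a.act := by
    rw [a.mul_act, Iso.inv_hom_id_assoc]
  rw [MonoidalCategory.whiskerLeft_comp, Category.assoc, hm, reassoc_of% h]

/-- The morphism from the trivial torsor to `A` determined by a point of the total space of `A`. -/
noncomputable def trivTo (A : AlgSt.QuotObj K G aX) {T : Over S} (s : T ⟶ A.P) :
    triv K aX (s ≫ A.φ) ⟶ A where
  base := s ≫ A.π
  top := (G ◁ s) ≫ A.act.act
  eqv := leftMul_act_comp A.act s
  cart := (AlgSt.isPullback_whiskerLeft (G := G) s).paste_horiz A.cart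
  wφ := by
    change ((G ◁ s) ≫ A.act.act) ≫ A.φ = (G ◁ (s ≫ A.φ)) ≫ aX.act
    rw [Category.assoc, A.eqv, MonoidalCategory.whiskerLeft_comp, Category.assoc]

@[simp] theorem trivTo_base (A : AlgSt.QuotObj K G aX) {T : Over S} (s : T ⟶ A.P) :
    (trivTo A s).base = s ≫ A.π := rfl

@[simp] theorem trivTo_top (A : AlgSt.QuotObj K G aX) {T : Over S} (s : T ⟶ A.P) :
    (trivTo A s).top = (G ◁ s) ≫ A.act.act := rfl

/-- The unit section of the trivial torsor. -/
noncomputable def unitSec (T : Over S) : T ⟶ G ⊗ T := lift (toUnit T ≫ η[G]) (𝟙 T)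

@[simp] theorem unitSec_snd (T : Over S) : unitSec (G := G) T ≫ snd G T = 𝟙 T := lift_snd _ _

theorem unitSec_fst (T : Over S) : unitSec (G := G) T ≫ fst G T = 1 := by
  rw [unitSec, lift_fst, ← Hom.one_def]

/-- Right multiplication by a `T`-point of `G` on the trivial torsor. -/
noncomputable def rightMul {T : Over S} (g : T ⟶ G) : G ⊗ T ⟶ G ⊗ T :=
  lift (fst G T * (snd G T ≫ g)) (snd G T)

theorem rightMul_comp {T : Over S} (g g' : T ⟶ G) :
    rightMul g ≫ rightMul g' = rightMul (g * g') := by
  simp only [rightMul, comp_lift, comp_mul, lift_fst, lift_snd, lift_snd_assoc, _root_.mul_assoc]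

theorem rightMul_one (T : Over S) : rightMul (1 : T ⟶ G) = 𝟙 (G ⊗ T) := by
  simp only [rightMul, MonObj.comp_one, _root_.mul_one, lift_fst_snd]

/-- `(ab)·c = a·(b·c)` on points. -/
theorem act_mul {P : Over S} (a : AlgGrp.Action G P) {T : Over S} (g h : T ⟶ G) (c : T ⟶ P) :
    lift (g * h) c ≫ a.act = lift g (lift h c ≫ a.act) ≫ a.act := by
  have h1 : lift (g * h) c = lift (lift g h) c ≫ (μ[G] ▷ P) := by
    apply CartesianMonoidalCategory.hom_ext
    · simp only [Category.assoc, lift_fst, whiskerRight_fst, lift_fst_assoc, Hom.mul_def]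
    · simp only [Category.assoc, lift_snd, whiskerRight_snd]
  have h2a : lift (lift g h) c ≫ (α_ G G P).hom = lift g (lift h c) := by
    apply CartesianMonoidalCategory.hom_ext
    · simp only [Category.assoc, lift_fst, associator_hom_fst, lift_fst_assoc]
    · apply CartesianMonoidalCategory.hom_ext
      · simp only [Category.assoc, lift_fst, lift_snd, associator_hom_snd_fst, lift_fst_assoc]
      · simp only [Category.assoc, lift_snd, associator_hom_snd_snd]
  have h2 : lift (lift g h) c ≫ (α_ G G P).hom ≫ (G ◁ a.act) = lift g (lift h c ≫ a.act) := by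
    rw [← Category.assoc, h2a]
    apply CartesianMonoidalCategory.hom_ext
    · simp only [Category.assoc, lift_fst, whiskerLeft_fst]
    · simp only [Category.assoc, lift_snd, whiskerLeft_snd, lift_snd_assoc]
  rw [h1, Category.assoc, a.mul_act, ← h2]
  simp only [Category.assoc]

/-- `1·c = c` on points. -/
theorem act_one {P : Over S} (a : AlgGrp.Action G P) {T : Over S} (c : T ⟶ P) :
    lift (1 : T ⟶ G) c ≫ a.act = c := by
  have h1 : lift (1 : T ⟶ G) c = lift (toUnit T) c ≫ (η[G] ▷ P) := by
    apply CartesianMonoidalCategory.hom_ext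
    · simp only [Category.assoc, lift_fst, whiskerRight_fst, lift_fst_assoc, Hom.one_def]
    · simp only [Category.assoc, lift_snd, whiskerRight_snd]
  rw [h1, Category.assoc, a.one_act, leftUnitor_hom, lift_snd]

theorem rightMul_snd {T : Over S} (g : T ⟶ G) : rightMul g ≫ snd G T = snd G T := lift_snd _ _

theorem rightMul_fst {T : Over S} (g : T ⟶ G) :
    rightMul g ≫ fst G T = fst G T * (snd G T ≫ g) := lift_fst _ _

instance {T : Over S} (g : T ⟶ G) : IsIso (rightMul g) :=
  ⟨⟨rightMul g⁻¹, by rw [rightMul_comp, mul_inv_cancel, rightMul_one],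
    by rw [rightMul_comp, inv_mul_cancel, rightMul_one]⟩⟩

theorem rightMul_whiskerLeft {T T' : Over S} (g : T ⟶ G) (f : T ⟶ T') :
    rightMul g ≫ (G ◁ f) = lift (fst G T * (snd G T ≫ g)) (snd G T ≫ f) := by
  apply CartesianMonoidalCategory.hom_ext
  · simp only [rightMul, Category.assoc, whiskerLeft_fst, lift_fst]
  · simp only [rightMul, Category.assoc, whiskerLeft_snd, lift_snd, lift_snd_assoc]

/-- The morphism between trivial torsors given by right multiplication by a point of `G`. -/
noncomputable def trivHom {T T' : Over S} (f : T ⟶ T') (x : T ⟶ X) (x' : T' ⟶ X) (g : T ⟶ G)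
    (hg : lift g (f ≫ x') ≫ aX.act = x) : triv K aX x ⟶ triv K aX x' where
  base := f
  top := rightMul g ≫ (G ◁ f)
  eqv := by
    change (AlgSt.leftMul G T).act ≫ rightMul g ≫ (G ◁ f) =
      (G ◁ (rightMul g ≫ (G ◁ f))) ≫ (AlgSt.leftMul G T').act
    apply CartesianMonoidalCategory.hom_ext
    · simp only [rightMul, AlgSt.leftMul, Category.assoc, lift_fst, lift_snd, lift_fst_assoc, lift_snd_assoc, comp_lift, comp_mul, whiskerLeft_fst, whiskerLeft_snd, whiskerLeft_fst_assoc, whiskerLeft_snd_assoc, _root_.mul_assoc]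
    · simp only [rightMul, AlgSt.leftMul, Category.assoc, lift_fst, lift_snd, lift_fst_assoc, lift_snd_assoc, comp_lift, comp_mul, whiskerLeft_fst, whiskerLeft_snd, whiskerLeft_fst_assoc, whiskerLeft_snd_assoc]
  cart := by
    have h1 : IsPullback (rightMul g) (snd G T) (snd G T) (𝟙 T) :=
      IsPullback.of_horiz_isIso ⟨by rw [rightMul_snd, Category.comp_id]⟩
    have h2 := h1.paste_horiz (AlgSt.isPullback_whiskerLeft (G := G) f)
    rwa [Category.id_comp] at h2
  wφ := by
    change (rightMul g ≫ (G ◁ f)) ≫ (G ◁ x') ≫ aX.act = (G ◁ x) ≫ aX.act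
    have h1 : (rightMul g ≫ (G ◁ f)) ≫ (G ◁ x') =
        lift (fst G T * (snd G T ≫ g)) (snd G T ≫ f ≫ x') := by
      rw [rightMul_whiskerLeft]
      apply CartesianMonoidalCategory.hom_ext
      · simp only [Category.assoc, whiskerLeft_fst, lift_fst]
      · simp only [Category.assoc, whiskerLeft_snd, lift_snd, lift_snd_assoc]
    have h2 : lift (snd G T ≫ g) (snd G T ≫ f ≫ x') ≫ aX.act = snd G T ≫ x := by
      have h2a : snd G T ≫ lift g (f ≫ x') = lift (snd G T ≫ g) (snd G T ≫ f ≫ x') := by
        rw [comp_lift]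
      rw [← hg, ← h2a, Category.assoc]
    have h3 : (G ◁ x) = lift (fst G T) (snd G T ≫ x) := by
      apply CartesianMonoidalCategory.hom_ext
      · simp only [whiskerLeft_fst, lift_fst]
      · simp only [whiskerLeft_snd, lift_snd]
    rw [← Category.assoc, h1, act_mul, h2, h3]

@[simp] theorem trivHom_base {T T' : Over S} (f : T ⟶ T') (x : T ⟶ X) (x' : T' ⟶ X) (g : T ⟶ G)
    (hg : lift g (f ≫ x') ≫ aX.act = x) : (trivHom (K := K) f x x' g hg).base = f := rfl

theorem trivHom_top {T T' : Over S} (f : T ⟶ T') (x : T ⟶ X) (x' : T' ⟶ X) (g : T ⟶ G)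
    (hg : lift g (f ≫ x') ≫ aX.act = x) :
    (trivHom (K := K) f x x' g hg).top = lift (fst G T * (snd G T ≫ g)) (snd G T ≫ f) :=
  rightMul_whiskerLeft g f

/-- Every equivariant map between trivial torsors is right multiplication by a point of `G`. -/
theorem exists_eq_rightMul {T T' : Over S} (x : T ⟶ X) (x' : T' ⟶ X) (b : T ⟶ T')
    (top : G ⊗ T ⟶ G ⊗ T') (hsnd : top ≫ snd G T' = snd G T ≫ b)
    (heqv : (AlgSt.leftMul G T).act ≫ top = (G ◁ top) ≫ (AlgSt.leftMul G T').act)
    (hwφ : top ≫ (G ◁ x') ≫ aX.act = (G ◁ x) ≫ aX.act) :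
    ∃ g : T ⟶ G, lift g (b ≫ x') ≫ aX.act = x ∧
      top = lift (fst G T * (snd G T ≫ g)) (snd G T ≫ b) := by
  let u : T ⟶ G ⊗ T := unitSec T
  let g : T ⟶ G := u ≫ top ≫ fst G T'
  let w : G ⊗ T ⟶ G ⊗ (G ⊗ T) := lift (fst G T) (snd G T ≫ u)
  have hw : w ≫ (AlgSt.leftMul G T).act = 𝟙 _ := by
    apply CartesianMonoidalCategory.hom_ext
    · simp only [w, u, AlgSt.leftMul, Category.assoc, lift_fst, lift_snd, lift_fst_assoc,
        lift_snd_assoc, comp_lift, comp_mul, unitSec_fst, MonObj.comp_one, _root_.mul_one,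
        Category.id_comp]
    · simp only [w, u, AlgSt.leftMul, Category.assoc, lift_fst, lift_snd, lift_fst_assoc,
        lift_snd_assoc, comp_lift, unitSec_snd, Category.comp_id, Category.id_comp]
  have htop : top = w ≫ (G ◁ top) ≫ (AlgSt.leftMul G T').act := by
    rw [← heqv, ← Category.assoc, hw, Category.id_comp]
  have hfst : top ≫ fst G T' = fst G T * (snd G T ≫ g) := by
    conv_lhs => rw [htop]
    simp only [w, g, AlgSt.leftMul, Category.assoc, lift_fst, lift_snd, lift_fst_assoc,
      lift_snd_assoc, comp_lift, comp_mul, whiskerLeft_fst, whiskerLeft_snd, whiskerLeft_fst_assoc,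
      whiskerLeft_snd_assoc]
  refine ⟨g, ?_, ?_⟩
  · have h1 : u ≫ top = lift g b := by
      apply CartesianMonoidalCategory.hom_ext
      · simp only [g, Category.assoc, lift_fst]
      · simp only [Category.assoc, lift_snd, hsnd, u]
        rw [← Category.assoc, unitSec_snd, Category.id_comp]
    have h2 : u ≫ top ≫ (G ◁ x') ≫ aX.act = u ≫ (G ◁ x) ≫ aX.act := by rw [hwφ]
    rw [← Category.assoc, h1] at h2
    have h3 : lift g b ≫ (G ◁ x') = lift g (b ≫ x') := by
      apply CartesianMonoidalCategory.hom_ext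
      · simp only [Category.assoc, whiskerLeft_fst, lift_fst]
      · simp only [Category.assoc, whiskerLeft_snd, lift_snd, lift_snd_assoc]
    have h4 : u ≫ (G ◁ x) = lift (1 : T ⟶ G) x := by
      apply CartesianMonoidalCategory.hom_ext
      · simp only [u, Category.assoc, whiskerLeft_fst, lift_fst, unitSec_fst]
      · simp only [u, Category.assoc, whiskerLeft_snd, lift_snd]
        rw [← Category.assoc, unitSec_snd, Category.id_comp]
    rw [← Category.assoc, h3, ← Category.assoc, h4, act_one] at h2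
    exact h2
  · apply CartesianMonoidalCategory.hom_ext
    · rw [hfst, lift_fst]
    · rw [hsnd, lift_snd]

/-- Every morphism between trivial torsors is right multiplication by a point of `G`. -/
theorem exists_eq_trivHom {T T' : Over S} (x : T ⟶ X) (x' : T' ⟶ X)
    (h : triv K aX x ⟶ triv K aX x') :
    ∃ g : T ⟶ G, lift g (h.base ≫ x') ≫ aX.act = x ∧
      h.top = lift (fst G T * (snd G T ≫ g)) (snd G T ≫ h.base) :=
  exists_eq_rightMul x x' h.base h.top h.cart.w h.eqv h.wφ

end Groth.Agent.Lib.Helper8QuotSt
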