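-- helper8: quotient stacks [X/G]: the action square G × X ⇉ X ⟶ [X/G] is 2-cartesian.
import Mathlib
import Groth.Agent.Lib.Helper8QuotSt
import Groth.Agent.Lib.Helper17FibEquiv

set_option autoImplicit false
set_option backward.isDefEq.respectTransparency false
set_option backward.isDefEq.respectTransparency.types false
set_option linter.unusedSimpArgs false
set_option linter.unusedVariables false
open CategoryTheory CategoryTheory.Limits MonoidalCategory CartesianMonoidalCategory MonObj GrpObj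
  AlgebraicGeometry Opposite

universe u

namespace Groth.Agent.Lib.Helper8QuotSt

variable {S : Scheme.{u}} {K : Precoverage Scheme.{u}} [K.HasIsos] {G : Over S} [GrpObj G]
  {X : Over S} {aX : AlgGrp.Action G X}

theorem whiskerLeft_rightMul {T T' : Over S} (f : T ⟶ T') (g' : T' ⟶ G) :
    (G ◁ f) ≫ rightMul g' = rightMul (f ≫ g') ≫ (G ◁ f) := by
  apply CartesianMonoidalCategory.hom_ext
  · simp only [rightMul, Category.assoc, lift_fst, comp_lift, comp_mul, whiskerLeft_fst,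
      whiskerLeft_fst_assoc, whiskerLeft_snd_assoc]
  · simp only [rightMul, Category.assoc, lift_snd, whiskerLeft_snd, lift_snd_assoc]

/-- The inverse point acts back. -/
theorem act_inv_eq {T : Over S} (g : T ⟶ G) (x x' : T ⟶ X) (hg : lift g x' ≫ aX.act = x) :
    lift g⁻¹ x ≫ aX.act = x' := by
  rw [← hg, ← act_mul, inv_mul_cancel, act_one]

theorem trivHom_top' {T T' : Over S} (f : T ⟶ T') (x : T ⟶ X) (x' : T' ⟶ X) (g : T ⟶ G)
    (hg : lift g (f ≫ x') ≫ aX.act = x) :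
    (trivHom (K := K) f x x' g hg).top = rightMul g ≫ (G ◁ f) := rfl

theorem trivHom_comp_inv {T : Over S} (x x' : T ⟶ X) (g : T ⟶ G)
    (h1 : lift g (𝟙 T ≫ x') ≫ aX.act = x)
    (h2 : lift g⁻¹ (𝟙 T ≫ x) ≫ aX.act = x') :
    trivHom (K := K) (𝟙 T) x x' g h1 ≫ trivHom (K := K) (𝟙 T) x' x g⁻¹ h2 = 𝟙 _ := by
  apply AlgSt.QuotObj.hom_ext
  · rw [AlgSt.QuotObj.comp_base, trivHom_base, trivHom_base, AlgSt.QuotObj.id_base]
    exact Category.id_comp _
  · rw [AlgSt.QuotObj.comp_top, trivHom_top', trivHom_top', AlgSt.QuotObj.id_top]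
    simp only [MonoidalCategory.whiskerLeft_id, Category.comp_id, rightMul_comp, mul_inv_cancel,
      rightMul_one]
    rfl

theorem trivHom_inv_comp {T : Over S} (x x' : T ⟶ X) (g : T ⟶ G)
    (h1 : lift g (𝟙 T ≫ x') ≫ aX.act = x)
    (h2 : lift g⁻¹ (𝟙 T ≫ x) ≫ aX.act = x') :
    trivHom (K := K) (𝟙 T) x' x g⁻¹ h2 ≫ trivHom (K := K) (𝟙 T) x x' g h1 = 𝟙 _ := by
  apply AlgSt.QuotObj.hom_ext
  · rw [AlgSt.QuotObj.comp_base, trivHom_base, trivHom_base, AlgSt.QuotObj.id_base]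
    exact Category.id_comp _
  · rw [AlgSt.QuotObj.comp_top, trivHom_top', trivHom_top', AlgSt.QuotObj.id_top]
    simp only [MonoidalCategory.whiskerLeft_id, Category.comp_id, rightMul_comp, inv_mul_cancel,
      rightMul_one]
    rfl

/-- The isomorphism of trivial torsors over the identity given by a point of `G`. -/
noncomputable def trivIso {T : Over S} (x x' : T ⟶ X) (g : T ⟶ G)
    (hg : lift g x' ≫ aX.act = x) : triv K aX x ≅ triv K aX x' where
  hom := trivHom (𝟙 T) x x' g (by rw [Category.id_comp]; exact hg)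
  inv := trivHom (𝟙 T) x' x g⁻¹ (by rw [Category.id_comp]; exact act_inv_eq g x x' hg)
  hom_inv_id := trivHom_comp_inv x x' g _ _
  inv_hom_id := trivHom_inv_comp x x' g _ _

theorem trivIso_hom {T : Over S} (x x' : T ⟶ X) (g : T ⟶ G)
    (hg : lift g x' ≫ aX.act = x) : (trivIso (K := K) x x' g hg).hom =
      trivHom (𝟙 T) x x' g (by rw [Category.id_comp]; exact hg) := rfl

theorem unitSec_rightMul_fst {T T' : Over S} (t : T ⟶ T') (g : T ⟶ G) :
    unitSec T ≫ (rightMul g ≫ (G ◁ t)) ≫ fst G T' = g := by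
  simp only [rightMul, Category.assoc, whiskerLeft_fst, lift_fst, comp_mul, unitSec_fst,
    _root_.one_mul]
  rw [← Category.assoc, unitSec_snd, Category.id_comp]

theorem rightMul_cancel {T T' : Over S} (t : T ⟶ T') (g₁ g₂ : T ⟶ G)
    (h : rightMul g₁ ≫ (G ◁ t) = rightMul g₂ ≫ (G ◁ t)) : g₁ = g₂ := by
  rw [← unitSec_rightMul_fst t g₁, ← unitSec_rightMul_fst t g₂, h]

/-- Isomorphisms in the category of a representable sheaf. -/
def ofSchIsoMk {Y : Over S} (a b : (AlgSt.ofSch Y).obj) (t : a.base ≅ b.base)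
    (h : t.hom ≫ b.sec.down = a.sec.down) : a ≅ b where
  hom := ⟨t.hom, ULift.ext _ _ h⟩
  inv := ⟨t.inv, ULift.ext _ _ (by
    change t.inv ≫ a.sec.down = b.sec.down
    rw [← h, Iso.inv_hom_id_assoc])⟩
  hom_inv_id := Stk.EltObj.hom_ext t.hom_inv_id
  inv_hom_id := Stk.EltObj.hom_ext t.inv_hom_id

@[simp] theorem ofSchIsoMk_hom_hom {Y : Over S} (a b : (AlgSt.ofSch Y).obj) (t : a.base ≅ b.base)
    (h : t.hom ≫ b.sec.down = a.sec.down) : (ofSchIsoMk a b t h).hom.hom = t.hom := rfl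

section TwoCart

variable (K aX)

/-- The two functors `G × X ⟶ X ⟶ [X/G]`. -/
noncomputable abbrev actF : AlgSt.ofSch (G ⊗ X) ⥤ᵇ AlgSt.ofSch X :=
  AlgSt.ofSpMap ((AlgSp.yon S).map aX.act)

noncomputable abbrev sndF : AlgSt.ofSch (G ⊗ X) ⥤ᵇ AlgSt.ofSch X :=
  AlgSt.ofSpMap ((AlgSp.yon S).map (snd G X))

theorem quotMap_actF_obj (w : (AlgSt.ofSch (G ⊗ X)).obj) :
    (AlgSt.quotMap K G aX).obj ((actF aX).obj w) = triv K aX (w.sec.down ≫ aX.act) := rfl

theorem quotMap_sndF_obj (w : (AlgSt.ofSch (G ⊗ X)).obj) :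
    (AlgSt.quotMap K G aX).obj ((sndF (G := G) (X := X)).obj w) =
      triv K aX (w.sec.down ≫ snd G X) := rfl

theorem lift_fst_snd_act (w : (AlgSt.ofSch (G ⊗ X)).obj) :
    lift (w.sec.down ≫ fst G X) (w.sec.down ≫ snd G X) ≫ aX.act = w.sec.down ≫ aX.act := by
  rw [← comp_lift, lift_fst_snd, Category.comp_id]

/-- The component of the 2-isomorphism. -/
noncomputable def eComp (w : (AlgSt.ofSch (G ⊗ X)).obj) :
    (AlgSt.quotMap K G aX).obj ((actF aX).obj w) ≅
      (AlgSt.quotMap K G aX).obj ((sndF (G := G) (X := X)).obj w) :=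
  trivIso (K := K) (w.sec.down ≫ aX.act) (w.sec.down ≫ snd G X) (w.sec.down ≫ fst G X)
    (lift_fst_snd_act aX w)

theorem quotMap_map_base {a b : (AlgSt.ofSch X).obj} (ψ : a ⟶ b) :
    ((AlgSt.quotMap K G aX).map ψ).base = ψ.hom := rfl

theorem quotMap_map_top {a b : (AlgSt.ofSch X).obj} (ψ : a ⟶ b) :
    ((AlgSt.quotMap K G aX).map ψ).top = G ◁ ψ.hom := rfl

theorem sec_down_eq {Y : Over S} {w' w : (AlgSt.ofSch Y).obj} (φ : w' ⟶ w) :
    w'.sec.down = φ.hom ≫ w.sec.down := by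
  have h := φ.map_sec
  exact (congrArg ULift.down h).symm

theorem eComp_hom_base (w : (AlgSt.ofSch (G ⊗ X)).obj) :
    (eComp K aX w).hom.base = 𝟙 w.base := rfl

theorem eComp_hom_top (w : (AlgSt.ofSch (G ⊗ X)).obj) :
    (eComp K aX w).hom.top = rightMul (w.sec.down ≫ fst G X) ≫ (G ◁ 𝟙 w.base) := rfl

/-- The natural isomorphism underlying the 2-isomorphism of the action square. -/
noncomputable def eNat :
    (BasedFunctor.comp (actF aX) (AlgSt.quotMap K G aX)).toFunctor ≅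
      (BasedFunctor.comp (sndF (G := G) (X := X)) (AlgSt.quotMap K G aX)).toFunctor :=
  NatIso.ofComponents (fun w => eComp K aX w) (by
    intro w' w φ
    apply AlgSt.QuotObj.hom_ext
    · rw [AlgSt.QuotObj.comp_base, AlgSt.QuotObj.comp_base, eComp_hom_base, eComp_hom_base]
      change ((AlgSt.quotMap K G aX).map ((actF aX).map φ)).base ≫ 𝟙 _ =
        𝟙 _ ≫ ((AlgSt.quotMap K G aX).map ((sndF (G := G) (X := X)).map φ)).base
      rw [quotMap_map_base, quotMap_map_base]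
      change φ.hom ≫ 𝟙 _ = 𝟙 _ ≫ φ.hom
      rw [Category.comp_id, Category.id_comp]
    · rw [AlgSt.QuotObj.comp_top, AlgSt.QuotObj.comp_top, eComp_hom_top, eComp_hom_top]
      change ((AlgSt.quotMap K G aX).map ((actF aX).map φ)).top ≫ _ =
        _ ≫ ((AlgSt.quotMap K G aX).map ((sndF (G := G) (X := X)).map φ)).top
      rw [quotMap_map_top, quotMap_map_top]
      change (G ◁ φ.hom) ≫ rightMul (w.sec.down ≫ fst G X) ≫ (G ◁ 𝟙 w.base) =
        (rightMul (w'.sec.down ≫ fst G X) ≫ (G ◁ 𝟙 w'.base)) ≫ (G ◁ φ.hom)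
      rw [MonoidalCategory.whiskerLeft_id, MonoidalCategory.whiskerLeft_id, Category.comp_id,
        Category.comp_id, whiskerLeft_rightMul, sec_down_eq φ, Category.assoc])

/-- The 2-isomorphism of the action square. -/
noncomputable def eIso :
    BasedFunctor.comp (actF aX) (AlgSt.quotMap K G aX) ≅
      BasedFunctor.comp (sndF (G := G) (X := X)) (AlgSt.quotMap K G aX) :=
  BasedNatIso.mkNatIso (eNat K aX) (fun w => by
    have h : (AlgSt.QuotSt K G aX).p.map ((eNat K aX).hom.app w) = 𝟙 w.base := rfl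
    show (AlgSt.QuotSt K G aX).p.IsHomLift (𝟙 w.base) ((eNat K aX).hom.app w)
    rw [← h]
    infer_instance)

theorem eIso_hom_app (w : (AlgSt.ofSch (G ⊗ X)).obj) :
    (eIso K aX).hom.toNatTrans.app w = (eComp K aX w).hom := rfl

/-- The comparison functor of the action square. -/
noncomputable abbrev cmp : AlgSt.ofSch (G ⊗ X) ⥤ᵇ
    FibCat.fp (AlgSt.quotMap K G aX) (AlgSt.quotMap K G aX) :=
  FibCat.fpLift (actF aX) (sndF (G := G) (X := X)) (eIso K aX)

instance cmp_faithful : (cmp K aX).toFunctor.Faithful where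
  map_injective := by
    intro w' w φ φ' h
    apply Stk.EltObj.hom_ext
    exact congrArg (fun t => t.hom.fst.hom) h

theorem cmp_obj_iso_hom (w : (AlgSt.ofSch (G ⊗ X)).obj) :
    ((cmp K aX).obj w).obj.iso.hom = (eComp K aX w).hom := rfl

instance cmp_full : (cmp K aX).toFunctor.Full where
  map_surjective := by
    intro w' w ψ
    have hw := ψ.hom.w
    rw [cmp_obj_iso_hom, cmp_obj_iso_hom] at hw
    have hb := congrArg AlgSt.QuotObj.Hom.base hw
    have ht := congrArg AlgSt.QuotObj.Hom.top hw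
    rw [AlgSt.QuotObj.comp_base, AlgSt.QuotObj.comp_base, eComp_hom_base, eComp_hom_base,
      quotMap_map_base, quotMap_map_base] at hb
    rw [AlgSt.QuotObj.comp_top, AlgSt.QuotObj.comp_top, eComp_hom_top, eComp_hom_top,
      quotMap_map_top, quotMap_map_top] at ht
    let t : w'.base ⟶ w.base := ψ.hom.fst.hom
    let t' : w'.base ⟶ w.base := ψ.hom.snd.hom
    have hb' : t ≫ 𝟙 w.base = 𝟙 w'.base ≫ t' := hb
    have ht' : (G ◁ t) ≫ rightMul (w.sec.down ≫ fst G X) ≫ (G ◁ 𝟙 w.base) =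
        (rightMul (w'.sec.down ≫ fst G X) ≫ (G ◁ 𝟙 w'.base)) ≫ (G ◁ t') := ht
    rw [Category.comp_id, Category.id_comp] at hb'
    rw [MonoidalCategory.whiskerLeft_id, MonoidalCategory.whiskerLeft_id, Category.comp_id,
      Category.comp_id, whiskerLeft_rightMul, ← hb'] at ht'
    have hfst := rightMul_cancel _ _ _ ht'
    have hsnd : w'.sec.down ≫ snd G X = t' ≫ w.sec.down ≫ snd G X :=
      sec_down_eq ψ.hom.snd
    have hp : t ≫ w.sec.down = w'.sec.down := by
      apply CartesianMonoidalCategory.hom_ext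
      · rw [Category.assoc, hfst]
      · rw [Category.assoc, hsnd, hb']
    let φ : w' ⟶ w := ⟨t, ULift.ext _ _ hp⟩
    refine ⟨φ, ?_⟩
    apply ObjectProperty.hom_ext
    apply CategoricalPullback.hom_ext
    · apply Stk.EltObj.hom_ext
      rfl
    · apply Stk.EltObj.hom_ext
      exact hb'

theorem cmp_essSurjOver : Groth.Agent.Lib.Helper17.EssSurjOver (cmp K aX) := by
  intro z
  let a₁ : (AlgSt.ofSch X).obj := z.obj.fst
  let a₂ : (AlgSt.ofSch X).obj := z.obj.snd
  let α : triv K aX a₁.sec.down ⟶ triv K aX a₂.sec.down := z.obj.iso.hom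
  obtain ⟨g, hg1, hg2⟩ := exists_eq_trivHom a₁.sec.down a₂.sec.down α
  let bIso : a₁.base ≅ a₂.base := (AlgSt.QuotObj.forget K G aX).mapIso z.obj.iso
  have hbIso : bIso.hom = α.base := rfl
  let ξ : (AlgSt.ofSch (G ⊗ X)).obj := ⟨a₁.base, ⟨lift g (α.base ≫ a₂.sec.down)⟩⟩
  let eₗ : (actF aX).obj ξ ≅ a₁ := ofSchIsoMk _ _ (Iso.refl _) (by
    change 𝟙 _ ≫ a₁.sec.down = lift g (α.base ≫ a₂.sec.down) ≫ aX.act
    rw [Category.id_comp, hg1])
  let eᵣ : (sndF (G := G) (X := X)).obj ξ ≅ a₂ := ofSchIsoMk _ _ bIso (by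
    change bIso.hom ≫ a₂.sec.down = lift g (α.base ≫ a₂.sec.down) ≫ snd G X
    rw [lift_snd, hbIso])
  have hw : (AlgSt.quotMap K G aX).map eₗ.hom ≫ z.obj.iso.hom =
      ((cmp K aX).obj ξ).obj.iso.hom ≫ (AlgSt.quotMap K G aX).map eᵣ.hom := by
    rw [cmp_obj_iso_hom]
    apply AlgSt.QuotObj.hom_ext
    · rw [AlgSt.QuotObj.comp_base, AlgSt.QuotObj.comp_base, quotMap_map_base, quotMap_map_base,
        eComp_hom_base]
      change 𝟙 a₁.base ≫ α.base = 𝟙 a₁.base ≫ α.base
      rfl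
    · rw [AlgSt.QuotObj.comp_top, AlgSt.QuotObj.comp_top, quotMap_map_top, quotMap_map_top,
        eComp_hom_top]
      change (G ◁ 𝟙 a₁.base) ≫ α.top =
        (rightMul (lift g (α.base ≫ a₂.sec.down) ≫ fst G X) ≫ (G ◁ 𝟙 a₁.base)) ≫ (G ◁ α.base)
      rw [hg2, MonoidalCategory.whiskerLeft_id, Category.id_comp, Category.comp_id, lift_fst,
        rightMul_whiskerLeft]
  let i : (cmp K aX).obj ξ ≅ z :=
    ObjectProperty.isoMk _ (CategoricalPullback.mkIso eₗ eᵣ hw)
  refine ⟨ξ, i, ?_⟩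
  have h : (FibCat.fp (AlgSt.quotMap K G aX) (AlgSt.quotMap K G aX)).p.map i.hom = 𝟙 a₁.base :=
    rfl
  show (FibCat.fp (AlgSt.quotMap K G aX) (AlgSt.quotMap K G aX)).p.IsHomLift (𝟙 a₁.base) i.hom
  rw [← h]
  infer_instance

/-- The action square is 2-cartesian. -/
theorem isTwoCartOver_act :
    FibCat.IsTwoCartOver (actF aX) (sndF (G := G) (X := X)) (eIso K aX) :=
  Groth.Agent.Lib.Helper17.isEquivOver_of_fullyFaithful_of_essSurjOver (cmp K aX)
    (cmp_essSurjOver K aX)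

end TwoCart

end Groth.Agent.Lib.Helper8QuotSt
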