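-- helper8: quotient stacks [X/G]: every morphism is strongly cartesian; the fibre products
-- (Sch/U) ×_[X/G] X are the total spaces of the torsors.
import Mathlib
import Groth.Agent.Lib.Helper8QuotSt2
import Groth.Agent.Lib.Helper17FibYoneda
import Groth.Agent.Lib.Helper15SpMapRep

set_option autoImplicit false
set_option backward.isDefEq.respectTransparency false
set_option backward.isDefEq.respectTransparency.types false
set_option linter.unusedSimpArgs false
set_option linter.unusedVariables false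
set_option linter.unusedSectionVars false
open CategoryTheory CategoryTheory.Limits MonoidalCategory CartesianMonoidalCategory MonObj GrpObj
  AlgebraicGeometry Opposite

universe u

namespace Groth.Agent.Lib.Helper8QuotSt

variable {S : Scheme.{u}} {K : Precoverage Scheme.{u}} {G : Over S} [GrpObj G]
  {X : Over S} {aX : AlgGrp.Action G X}

section Cart

/-- The lift of a morphism of `[X/G]` through another one, along a factorisation of the bases. -/
noncomputable def liftHom {A B C : AlgSt.QuotObj K G aX} (φ : A ⟶ B) (ψ : C ⟶ B)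
    (g : C.base ⟶ A.base) (hg : ψ.base = g ≫ φ.base) : C ⟶ A where
  base := g
  top := φ.cart.lift ψ.top (C.π ≫ g) (by rw [ψ.cart.w, hg, Category.assoc])
  eqv := by
    apply φ.cart.hom_ext
    · rw [Category.assoc, IsPullback.lift_fst, Category.assoc, φ.eqv,
        ← MonoidalCategory.whiskerLeft_comp_assoc, IsPullback.lift_fst, ψ.eqv]
    · rw [Category.assoc, IsPullback.lift_snd, Category.assoc, A.cart.w, whiskerLeft_snd_assoc,
        IsPullback.lift_snd, ← Category.assoc, C.cart.w, Category.assoc]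
  cart := by
    refine IsPullback.of_right ?_ (IsPullback.lift_snd _ _ _ _) φ.cart
    rw [IsPullback.lift_fst, ← hg]
    exact ψ.cart
  wφ := by
    rw [← φ.wφ, ← Category.assoc, IsPullback.lift_fst, ψ.wφ]

@[simp] theorem liftHom_base {A B C : AlgSt.QuotObj K G aX} (φ : A ⟶ B) (ψ : C ⟶ B)
    (g : C.base ⟶ A.base) (hg : ψ.base = g ≫ φ.base) : (liftHom φ ψ g hg).base = g := rfl

theorem liftHom_top_fst {A B C : AlgSt.QuotObj K G aX} (φ : A ⟶ B) (ψ : C ⟶ B)
    (g : C.base ⟶ A.base) (hg : ψ.base = g ≫ φ.base) :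
    (liftHom φ ψ g hg).top ≫ φ.top = ψ.top := IsPullback.lift_fst _ _ _ _

theorem liftHom_comp {A B C : AlgSt.QuotObj K G aX} (φ : A ⟶ B) (ψ : C ⟶ B)
    (g : C.base ⟶ A.base) (hg : ψ.base = g ≫ φ.base) : liftHom φ ψ g hg ≫ φ = ψ := by
  apply AlgSt.QuotObj.hom_ext
  · rw [AlgSt.QuotObj.comp_base, liftHom_base, hg]
  · rw [AlgSt.QuotObj.comp_top, liftHom_top_fst]

theorem isHomLift_of_base {A B : AlgSt.QuotObj K G aX} (φ : A ⟶ B) (f : A.base ⟶ B.base)
    (h : φ.base = f) : (AlgSt.QuotSt K G aX).p.IsHomLift f φ := by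
  have h' : (AlgSt.QuotSt K G aX).p.map φ = f := h
  rw [← h']
  infer_instance

theorem base_eq_of_isHomLift {A B : AlgSt.QuotObj K G aX} (φ : A ⟶ B) (f : A.base ⟶ B.base)
    [h : (AlgSt.QuotSt K G aX).p.IsHomLift f φ] : φ.base = f := by
  have := IsHomLift.fac' (AlgSt.QuotSt K G aX).p f φ
  simp only [eqToHom_refl, Category.id_comp, Category.comp_id] at this
  exact this

/-- Every morphism of `[X/G]` is strongly cartesian over its image. -/
theorem isStronglyCartesian_base {A B : AlgSt.QuotObj K G aX} (φ : A ⟶ B) :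
    (AlgSt.QuotSt K G aX).p.IsStronglyCartesian φ.base φ where
  toIsHomLift := isHomLift_of_base φ φ.base rfl
  universal_property' := by
    intro C g ψ hψ
    have hb : ψ.base = g ≫ φ.base := base_eq_of_isHomLift ψ (g ≫ φ.base)
    refine ⟨liftHom φ ψ g hb, ⟨isHomLift_of_base _ _ rfl, liftHom_comp φ ψ g hb⟩, ?_⟩
    rintro χ ⟨h1, h2⟩
    have hχ : χ.base = g := base_eq_of_isHomLift χ g
    apply AlgSt.QuotObj.hom_ext
    · rw [hχ, liftHom_base]
    · apply φ.cart.hom_ext
      · rw [liftHom_top_fst, ← h2, AlgSt.QuotObj.comp_top]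
      · rw [χ.cart.w, hχ]
        exact (IsPullback.lift_snd _ _ _ _).symm

/-- Every morphism of `[X/G]` is strongly cartesian over any morphism it lifts. -/
theorem isStronglyCartesian_of_isHomLift {R R' : Over S} (f : R ⟶ R') {A B : AlgSt.QuotObj K G aX}
    (φ : A ⟶ B) [h : (AlgSt.QuotSt K G aX).p.IsHomLift f φ] :
    (AlgSt.QuotSt K G aX).p.IsStronglyCartesian f φ := by
  subst_hom_lift (AlgSt.QuotSt K G aX).p f φ
  exact isStronglyCartesian_base φ

/-- A morphism of `[X/G]` over an isomorphism is an isomorphism. -/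
theorem isIso_of_isIso_base {A B : AlgSt.QuotObj K G aX} (φ : A ⟶ B) [IsIso φ.base] : IsIso φ := by
  have := isStronglyCartesian_base φ
  exact Functor.IsStronglyCartesian.isIso_of_base_isIso (AlgSt.QuotSt K G aX).p φ.base φ

end Cart

section Unit

theorem unitSec_whiskerLeft_act {P : Over S} (a : AlgGrp.Action G P) {T : Over S} (s : T ⟶ P) :
    unitSec T ≫ (G ◁ s) ≫ a.act = s := by
  have h : unitSec (G := G) T ≫ (G ◁ s) = lift (1 : T ⟶ G) s := by
    apply CartesianMonoidalCategory.hom_ext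
    · simp only [Category.assoc, whiskerLeft_fst, lift_fst, unitSec_fst]
    · simp only [Category.assoc, whiskerLeft_snd, lift_snd]
      rw [← Category.assoc, unitSec_snd, Category.id_comp]
  rw [← Category.assoc, h, act_one]

theorem whiskerLeft_unitSec_leftMul (T : Over S) :
    (G ◁ unitSec T) ≫ (AlgSt.leftMul G T).act = 𝟙 (G ⊗ T) := by
  apply CartesianMonoidalCategory.hom_ext
  · simp only [AlgSt.leftMul, Category.assoc, lift_fst, comp_mul, whiskerLeft_fst,
      whiskerLeft_snd_assoc, unitSec_fst, MonObj.comp_one, _root_.mul_one, Category.id_comp]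
  · simp only [AlgSt.leftMul, Category.assoc, lift_snd, whiskerLeft_snd_assoc, Category.id_comp]
    rw [unitSec_snd, Category.comp_id]

variable [K.HasIsos]

/-- A morphism from a trivial torsor is determined by the image of the unit section. -/
theorem top_eq_of_hom_triv {T : Over S} (x : T ⟶ X) (A : AlgSt.QuotObj K G aX)
    (m : triv K aX x ⟶ A) : m.top = (G ◁ (unitSec T ≫ m.top)) ≫ A.act.act := by
  have h : (AlgSt.leftMul G T).act ≫ m.top = (G ◁ m.top) ≫ A.act.act := m.eqv
  rw [MonoidalCategory.whiskerLeft_comp, Category.assoc, ← h, ← Category.assoc,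
    whiskerLeft_unitSec_leftMul, Category.id_comp]

theorem base_eq_of_hom_triv {T : Over S} (x : T ⟶ X) (A : AlgSt.QuotObj K G aX)
    (m : triv K aX x ⟶ A) : m.base = (unitSec T ≫ m.top) ≫ A.π := by
  have h : m.top ≫ A.π = snd G T ≫ m.base := m.cart.w
  rw [Category.assoc, h, ← Category.assoc, unitSec_snd, Category.id_comp]

theorem φ_eq_of_hom_triv {T : Over S} (x : T ⟶ X) (A : AlgSt.QuotObj K G aX)
    (m : triv K aX x ⟶ A) : (unitSec T ≫ m.top) ≫ A.φ = x := by
  have h : m.top ≫ A.φ = (G ◁ x) ≫ aX.act := m.wφ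
  rw [Category.assoc, h, unitSec_whiskerLeft_act]

end Unit

section Rep

open Groth.Agent.Lib.Helper17

variable [K.HasIsos] (U : Over S) (y : FibCat.overCat U ⥤ᵇ AlgSt.QuotSt K G aX)

/-- The torsor classified by `y`. -/
noncomputable def tors : AlgSt.QuotObj K G aX := y.obj (Over.mk (𝟙 U))

theorem tors_base : (tors U y).base = U := y.w_obj (Over.mk (𝟙 U))

/-- The structure morphism of the torsor, with target `U`. -/
noncomputable def torsπ : (tors U y).P ⟶ U := (tors U y).π ≫ eqToHom (tors_base U y)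

variable (aX) in
/-- The functor `X ⟶ [X/G]` with source the slice. -/
noncomputable abbrev qF : FibCat.overCat X ⥤ᵇ AlgSt.QuotSt K G aX :=
  BasedFunctor.comp (AlgSt.ofOverCat X) (AlgSt.quotMap K G aX)

theorem qF_map_base {b b' : Over X} (β : b ⟶ b') : ((qF (K := K) aX).map β).base = β.left := rfl

theorem qF_map_top {b b' : Over X} (β : b ⟶ b') : ((qF (K := K) aX).map β).top = G ◁ β.left := rfl

/-- The first projection functor. -/
noncomputable abbrev aF : AlgSt.ofSch (tors U y).P ⥤ᵇ FibCat.overCat U :=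
  BasedFunctor.comp (AlgSt.ofSpMap ((AlgSp.yon S).map (torsπ U y))) (AlgSt.toOverCat U)

/-- The second projection functor. -/
noncomputable abbrev bF : AlgSt.ofSch (tors U y).P ⥤ᵇ FibCat.overCat X :=
  BasedFunctor.comp (AlgSt.ofSpMap ((AlgSp.yon S).map (tors U y).φ)) (AlgSt.toOverCat X)

theorem aF_obj (w : (AlgSt.ofSch (tors U y).P).obj) :
    (aF U y).obj w = Over.mk (w.sec.down ≫ torsπ U y) := rfl

theorem bF_obj (w : (AlgSt.ofSch (tors U y).P).obj) :
    (bF U y).obj w = Over.mk (w.sec.down ≫ (tors U y).φ) := rfl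

theorem aF_map_left {w' w : (AlgSt.ofSch (tors U y).P).obj} (ψ : w' ⟶ w) :
    ((aF U y).map ψ).left = ψ.hom := rfl

theorem bF_map_left {w' w : (AlgSt.ofSch (tors U y).P).obj} (ψ : w' ⟶ w) :
    ((bF U y).map ψ).left = ψ.hom := rfl

theorem qF_bF_obj (w : (AlgSt.ofSch (tors U y).P).obj) :
    (qF (K := K) aX).obj ((bF U y).obj w) = triv K aX (w.sec.down ≫ (tors U y).φ) := rfl

/-- The cartesian morphism to the torsor from the value of `y` at a point of the total space. -/
noncomputable def toTors {T : Over S} (z : T ⟶ (tors U y).P) :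
    y.obj (Over.mk (z ≫ torsπ U y)) ⟶ tors U y :=
  y.map (overTerm U (Over.mk (z ≫ torsπ U y)))

instance toTors_isHomLift {T : Over S} (z : T ⟶ (tors U y).P) :
    (AlgSt.QuotSt K G aX).p.IsHomLift (z ≫ torsπ U y) (toTors U y z) := by
  have h1 : (FibCat.overCat U).p.IsHomLift (Over.mk (z ≫ torsπ U y)).hom
      (overTerm U (Over.mk (z ≫ torsπ U y))) := overTerm_isHomLift U _
  have h2 : (AlgSt.QuotSt K G aX).p.IsHomLift (Over.mk (z ≫ torsπ U y)).hom
      (y.map (overTerm U (Over.mk (z ≫ torsπ U y)))) :=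
    BasedFunctor.preserves_isHomLift y _ _
  exact h2

instance trivTo_isHomLift {T : Over S} (z : T ⟶ (tors U y).P) :
    (AlgSt.QuotSt K G aX).p.IsHomLift (z ≫ torsπ U y) (trivTo (tors U y) z) := by
  have h1 : (AlgSt.QuotSt K G aX).p.IsHomLift (z ≫ (tors U y).π) (trivTo (tors U y) z) :=
    isHomLift_of_base _ _ rfl
  have h2 : z ≫ torsπ U y = (z ≫ (tors U y).π) ≫ eqToHom (tors_base U y) := by
    rw [torsπ, Category.assoc]
  rw [h2]
  infer_instance

instance trivTo_isCart {T : Over S} (z : T ⟶ (tors U y).P) :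
    (AlgSt.QuotSt K G aX).p.IsStronglyCartesian (z ≫ torsπ U y) (trivTo (tors U y) z) :=
  isStronglyCartesian_of_isHomLift _ _

instance toTors_isCart {T : Over S} (z : T ⟶ (tors U y).P) :
    (AlgSt.QuotSt K G aX).p.IsStronglyCartesian (z ≫ torsπ U y) (toTors U y z) :=
  isStronglyCartesian_of_isHomLift _ _

/-- The component of the 2-isomorphism. -/
noncomputable def cIso {T : Over S} (z : T ⟶ (tors U y).P) :
    y.obj (Over.mk (z ≫ torsπ U y)) ≅ triv K aX (z ≫ (tors U y).φ) :=
  Functor.IsCartesian.domainUniqueUpToIso (AlgSt.QuotSt K G aX).p (z ≫ torsπ U y)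
    (trivTo (tors U y) z) (toTors U y z)

instance cIso_hom_isHomLift {T : Over S} (z : T ⟶ (tors U y).P) :
    (AlgSt.QuotSt K G aX).p.IsHomLift (𝟙 T) (cIso U y z).hom := by
  unfold cIso; infer_instance

@[reassoc]
theorem cIso_hom_fac {T : Over S} (z : T ⟶ (tors U y).P) :
    (cIso U y z).hom ≫ trivTo (tors U y) z = toTors U y z := by
  unfold cIso
  rw [Functor.IsCartesian.domainUniqueUpToIso_hom]
  exact Functor.IsCartesian.fac _ _ _ _

theorem qF_map_trivTo {w' w : (AlgSt.ofSch (tors U y).P).obj} (ψ : w' ⟶ w) :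
    (qF (K := K) aX).map ((bF U y).map ψ) ≫ trivTo (tors U y) w.sec.down =
      trivTo (tors U y) w'.sec.down := by
  apply AlgSt.QuotObj.hom_ext
  · rw [AlgSt.QuotObj.comp_base, qF_map_base, bF_map_left, trivTo_base, trivTo_base,
      sec_down_eq ψ, Category.assoc]
  · rw [AlgSt.QuotObj.comp_top, qF_map_top, bF_map_left, trivTo_top, trivTo_top,
      sec_down_eq ψ, MonoidalCategory.whiskerLeft_comp, Category.assoc]

theorem y_map_toTors {t' t : Over U} (α : t' ⟶ t) :
    y.map α ≫ y.map (overTerm U t) = y.map (overTerm U t') := by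
  rw [← Functor.map_comp, overTerm_comp]

/-- The natural isomorphism underlying the 2-isomorphism of the square of the torsor. -/
noncomputable def cNat :
    (BasedFunctor.comp (aF U y) y).toFunctor ≅
      (BasedFunctor.comp (bF U y) (qF (K := K) aX)).toFunctor :=
  NatIso.ofComponents (fun w => cIso U y w.sec.down) (by
    intro w' w ψ
    have i1 : (AlgSt.QuotSt K G aX).p.IsHomLift ψ.hom (y.map ((aF U y).map ψ)) := by
      have h0 : (FibCat.overCat U).p.IsHomLift ψ.hom ((aF U y).map ψ) := by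
        have h00 : (FibCat.overCat U).p.map ((aF U y).map ψ) = ψ.hom := rfl
        rw [← h00]; infer_instance
      exact BasedFunctor.preserves_isHomLift y _ _
    have i2 : (AlgSt.QuotSt K G aX).p.IsHomLift ψ.hom
        ((qF (K := K) aX).map ((bF U y).map ψ)) := isHomLift_of_base _ _ rfl
    have i3 : (AlgSt.QuotSt K G aX).p.IsHomLift ψ.hom
        (y.map ((aF U y).map ψ) ≫ (cIso U y w.sec.down).hom) :=
      IsHomLift.comp_lift_id_right _ _ _ _
    have i4 : (AlgSt.QuotSt K G aX).p.IsHomLift ψ.hom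
        ((cIso U y w'.sec.down).hom ≫ (qF (K := K) aX).map ((bF U y).map ψ)) :=
      IsHomLift.comp_lift_id_left _ _ _ _
    refine Functor.IsStronglyCartesian.ext (AlgSt.QuotSt K G aX).p (w.sec.down ≫ torsπ U y)
      (trivTo (tors U y) w.sec.down) ψ.hom
      (ψ := y.map ((aF U y).map ψ) ≫ (cIso U y w.sec.down).hom)
      (ψ' := (cIso U y w'.sec.down).hom ≫ (qF (K := K) aX).map ((bF U y).map ψ)) ?_
    rw [Category.assoc, Category.assoc, cIso_hom_fac, qF_map_trivTo, cIso_hom_fac]
    exact y_map_toTors U y ((aF U y).map ψ))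

/-- The 2-isomorphism of the square of the torsor. -/
noncomputable def cIsoB :
    BasedFunctor.comp (aF U y) y ≅ BasedFunctor.comp (bF U y) (qF (K := K) aX) :=
  BasedNatIso.mkNatIso (cNat U y) (fun w => by
    show (AlgSt.QuotSt K G aX).p.IsHomLift (𝟙 w.base) (cIso U y w.sec.down).hom
    infer_instance)

/-- The comparison functor from the total space of the torsor to the fibre product. -/
noncomputable abbrev cmpT : AlgSt.ofSch (tors U y).P ⥤ᵇ FibCat.fp y (qF (K := K) aX) :=
  FibCat.fpLift (aF U y) (bF U y) (cIsoB U y)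

theorem cmpT_obj_iso_hom (w : (AlgSt.ofSch (tors U y).P).obj) :
    ((cmpT U y).obj w).obj.iso.hom = (cIso U y w.sec.down).hom := rfl

instance cmpT_faithful : (cmpT U y).toFunctor.Faithful where
  map_injective := by
    intro w' w φ φ' h
    apply Stk.EltObj.hom_ext
    exact congrArg (fun t => t.hom.fst.left) h

instance cmpT_full : (cmpT U y).toFunctor.Full where
  map_surjective := by
    intro w' w m
    have hw := m.hom.w
    rw [cmpT_obj_iso_hom, cmpT_obj_iso_hom] at hw
    let t : w'.base ⟶ w.base := m.hom.fst.left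
    let t' : w'.base ⟶ w.base := m.hom.snd.left
    have i0 : (FibCat.overCat X).p.IsHomLift t m.hom.snd :=
      FibCat.fp_isHomLift_snd y (qF (K := K) aX) m
    have htt : t = t' := by
      have h0 := IsHomLift.fac' (FibCat.overCat X).p t m.hom.snd
      have h1 : (FibCat.overCat X).p.map m.hom.snd = t' := rfl
      rw [h1] at h0
      simp only [eqToHom_refl, Category.id_comp, Category.comp_id] at h0
      exact h0.symm
    have h2 := congrArg (fun k => k ≫ trivTo (tors U y) w.sec.down) hw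
    simp only [Category.assoc] at h2
    rw [cIso_hom_fac] at h2
    have h3 : trivTo (tors U y) w'.sec.down =
        (qF (K := K) aX).map m.hom.snd ≫ trivTo (tors U y) w.sec.down := by
      rw [← cancel_epi (cIso U y w'.sec.down).hom, cIso_hom_fac, ← h2]
      exact (y_map_toTors U y m.hom.fst).symm
    have h4 := congrArg AlgSt.QuotObj.Hom.top h3
    rw [trivTo_top, AlgSt.QuotObj.comp_top, qF_map_top, trivTo_top] at h4
    have hp : t' ≫ w.sec.down = w'.sec.down := by
      have h5 := congrArg (fun k => unitSec w'.base ≫ k) h4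
      simp only at h5
      rw [unitSec_whiskerLeft_act, ← MonoidalCategory.whiskerLeft_comp_assoc,
        unitSec_whiskerLeft_act] at h5
      exact h5.symm
    let φ : w' ⟶ w := ⟨t, ULift.ext _ _ (by rw [htt]; exact hp)⟩
    refine ⟨φ, ?_⟩
    apply ObjectProperty.hom_ext
    apply CategoricalPullback.hom_ext
    · apply Over.OverMorphism.ext
      rfl
    · apply Over.OverMorphism.ext
      exact htt

theorem cmpT_essSurjOver : EssSurjOver (cmpT U y) := by
  rintro ⟨⟨t, b, io⟩, hη⟩
  obtain ⟨bl, ⟨⟨⟩⟩, bh⟩ := b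
  have hio : (AlgSt.QuotSt K G aX).p.IsHomLift (𝟙 t.left) io.hom := hη
  have hbt : bl = t.left := IsHomLift.codomain_eq (AlgSt.QuotSt K G aX).p (𝟙 t.left) io.hom
  subst hbt
  have hioinv : (AlgSt.QuotSt K G aX).p.IsHomLift (𝟙 t.left) io.inv :=
    IsHomLift.lift_id_inv _ _ io
  have hyt : (AlgSt.QuotSt K G aX).p.IsHomLift t.hom (y.map (overTerm U t)) := by
    have h1 : (FibCat.overCat U).p.IsHomLift t.hom (overTerm U t) := overTerm_isHomLift U t
    exact BasedFunctor.preserves_isHomLift y _ _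
  let m : triv K aX bh ⟶ tors U y := io.inv ≫ y.map (overTerm U t)
  let s : t.left ⟶ (tors U y).P := unitSec t.left ≫ m.top
  have hs1 : s ≫ torsπ U y = t.hom := by
    have e1 : m.base = s ≫ (tors U y).π := base_eq_of_hom_triv bh _ m
    have e2 : m.base = io.inv.base ≫ (y.map (overTerm U t)).base := rfl
    have e3 := IsHomLift.fac' (AlgSt.QuotSt K G aX).p (𝟙 t.left) io.inv
    have e4 := IsHomLift.fac' (AlgSt.QuotSt K G aX).p t.hom (y.map (overTerm U t))
    have e3' : io.inv.base = _ := e3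
    have e4' : (y.map (overTerm U t)).base = _ := e4
    rw [torsπ, ← Category.assoc, ← e1, e2, e3', e4']
    simp only [Category.assoc, Category.id_comp, eqToHom_trans, eqToHom_trans_assoc, eqToHom_refl,
      Category.comp_id]
  have hs2 : s ≫ (tors U y).φ = bh := φ_eq_of_hom_triv bh _ m
  let ξ : (AlgSt.ofSch (tors U y).P).obj := ⟨t.left, ⟨s⟩⟩
  let e₁ : (aF U y).obj ξ ≅ t := Over.isoMk (Iso.refl _) (by
    change 𝟙 _ ≫ t.hom = s ≫ torsπ U y
    rw [Category.id_comp, hs1])
  let b : Over X := { left := t.left, right := ⟨⟨⟩⟩, hom := bh }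
  let e₂ : (bF U y).obj ξ ≅ b := Over.isoMk (Iso.refl _) (by
    change 𝟙 _ ≫ bh = s ≫ (tors U y).φ
    rw [Category.id_comp, hs2])
  have hm : (AlgSt.QuotSt K G aX).p.IsStronglyCartesian m.base m := isStronglyCartesian_base m
  have j1 : (AlgSt.QuotSt K G aX).p.IsHomLift (𝟙 t.left) (y.map e₁.hom) := by
    have h0 : (FibCat.overCat U).p.IsHomLift (𝟙 t.left) e₁.hom := by
      have h00 : (FibCat.overCat U).p.map e₁.hom = 𝟙 t.left := rfl
      rw [← h00]; infer_instance
    exact BasedFunctor.preserves_isHomLift y _ _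
  have j2 : (AlgSt.QuotSt K G aX).p.IsHomLift (𝟙 t.left) (y.map e₁.hom ≫ io.hom) :=
    IsHomLift.comp_of_lift_id _ _ _ _
  have j3 : (AlgSt.QuotSt K G aX).p.IsHomLift (𝟙 t.left) ((qF (K := K) aX).map e₂.hom) :=
    isHomLift_of_base _ _ rfl
  have j4 : (AlgSt.QuotSt K G aX).p.IsHomLift (𝟙 t.left)
      ((cIso U y s).hom ≫ (qF (K := K) aX).map e₂.hom) :=
    IsHomLift.comp_of_lift_id _ _ _ _
  have hq : (qF (K := K) aX).map e₂.hom ≫ m = trivTo (tors U y) s := by
    have e1 : m.base = s ≫ (tors U y).π := base_eq_of_hom_triv bh _ m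
    have e2 : m.top = (G ◁ s) ≫ (tors U y).act.act := top_eq_of_hom_triv bh _ m
    apply AlgSt.QuotObj.hom_ext
    · rw [AlgSt.QuotObj.comp_base, qF_map_base, trivTo_base, ← e1]
      exact Category.id_comp _
    · rw [AlgSt.QuotObj.comp_top, qF_map_top, trivTo_top, ← e2]
      change (G ◁ 𝟙 t.left) ≫ m.top = m.top
      rw [MonoidalCategory.whiskerLeft_id, Category.id_comp]
  have hw : y.map e₁.hom ≫ io.hom =
      ((cmpT U y).obj ξ).obj.iso.hom ≫ (qF (K := K) aX).map e₂.hom := by
    rw [cmpT_obj_iso_hom]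
    refine Functor.IsStronglyCartesian.ext (AlgSt.QuotSt K G aX).p m.base m (𝟙 t.left)
      (ψ := y.map e₁.hom ≫ io.hom)
      (ψ' := (cIso U y s).hom ≫ (qF (K := K) aX).map e₂.hom) ?_
    rw [Category.assoc, Category.assoc, hq, cIso_hom_fac]
    change y.map e₁.hom ≫ io.hom ≫ io.inv ≫ y.map (overTerm U t) = _
    rw [Iso.hom_inv_id_assoc]
    exact y_map_toTors U y e₁.hom
  let i : (cmpT U y).obj ξ ≅ ⟨⟨t, b, io⟩, hη⟩ :=
    ObjectProperty.isoMk _ (CategoricalPullback.mkIso e₁ e₂ hw)
  refine ⟨ξ, i, ?_⟩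
  have h : (FibCat.fp y (qF (K := K) aX)).p.map i.hom = 𝟙 t.left := rfl
  show (FibCat.fp y (qF (K := K) aX)).p.IsHomLift (𝟙 t.left) i.hom
  rw [← h]
  infer_instance

/-- The square of the torsor is 2-cartesian. -/
theorem isEquivOver_cmpT : FibCat.IsEquivOver (cmpT U y) :=
  isEquivOver_of_fullyFaithful_of_essSurjOver (cmpT U y) (cmpT_essSurjOver U y)

theorem spMapOfOver_cmpT :
    AlgSt.spMapOfOver (BasedFunctor.comp (cmpT U y) (FibCat.fpFst y (qF (K := K) aX))) =
      (AlgSp.yon S).map (torsπ U y) := by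
  have h := spMapOfOver_eq_of_iso
    (BasedFunctor.comp (cmpT U y) (FibCat.fpFst y (qF (K := K) aX))) (aF U y) (Iso.refl _)
  rw [h]
  exact Groth.Agent.Lib.Helper15SpMapRep.spMapOfOver_ofSpMap_toOverCat _

end Rep

section Main

variable [K.HasIsos]

/-- `X ⟶ [X/G]` is representable by algebraic spaces (indeed schemes: the total spaces of the
torsors), with every property enjoyed by the structure morphisms of all torsors. -/
theorem repByAlgSpWith_qF (P : MorphismProperty (AlgSp.Sp S))
    (hP : ∀ (A : AlgSt.QuotObj K G aX) (U : Over S) (h : A.base = U),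
      P ((AlgSp.yon S).map (A.π ≫ eqToHom h))) :
    AlgSt.RepByAlgSpWith P (qF (K := K) aX) := by
  intro U y
  refine ⟨⟨(AlgSp.yon S).obj (tors U y).P, AlgSp.IsAlgSpace.yon_obj _⟩, cmpT U y,
    isEquivOver_cmpT U y, ?_⟩
  rw [spMapOfOver_cmpT]
  exact hP (tors U y) U (tors_base U y)

end Main

end Groth.Agent.Lib.Helper8QuotSt
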