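-- helper8: properties of torsors (flat, lfp, smooth, surjective) by fppf descent; X → [X/G].
import Mathlib
import Groth.Agent.Lib.Helper8QuotSt3
import Groth.Agent.Lib.Helper15LocEss
import Groth.Agent.Lib.Helper12Torsor
import Groth.Agent.S9947

set_option autoImplicit false
set_option backward.isDefEq.respectTransparency false
set_option backward.isDefEq.respectTransparency.types false
set_option linter.unusedSimpArgs false
set_option linter.unusedVariables false
set_option linter.unusedSectionVars false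
open CategoryTheory CategoryTheory.Limits MonoidalCategory CartesianMonoidalCategory MonObj GrpObj
  AlgebraicGeometry Opposite

universe u

namespace Groth.Agent.Lib.Helper8QuotSt

section Descent

/-- A morphism factoring through an open immersion is a base change of itself. -/
theorem isPullback_lift_mono {C : Type*} [Category C] {V U Y : C} (v' : V ⟶ U) (i : U ⟶ Y)
    [Mono i] : IsPullback (𝟙 V) v' (v' ≫ i) i := by
  have h1 : IsPullback (𝟙 U) (𝟙 U) i i := IsKernelPair.id_of_mono i
  have h2 : IsPullback v' (𝟙 V) (𝟙 U) v' := IsPullback.of_horiz_isIso ⟨by simp⟩ |>.flip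
  have h3 := h2.paste_horiz h1
  rw [Category.comp_id] at h3
  exact h3.flip

/-- A property of morphisms of schemes which is Zariski local on the target and descends along
fppf coverings holds as soon as it holds fppf locally on the target. -/
theorem prop_of_fppf_local (P : MorphismProperty Scheme.{u}) [IsZariskiLocalAtTarget P]
    [P.DescendsAlong (@Surjective ⊓ @Flat ⊓ @LocallyOfFinitePresentation)]
    {X Y : Scheme.{u}} (f : X ⟶ Y)
    (H : ∀ y : Y, ∃ (V W : Scheme.{u}) (v : V ⟶ Y) (p : W ⟶ X) (q : W ⟶ V),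
      IsPullback p q f v ∧ Flat v ∧ LocallyOfFinitePresentation v ∧ y ∈ Set.range v ∧ P q) :
    P f := by
  choose V W v p q hpb hfl hfp hy hq using H
  have hopen : ∀ y, IsOpen (Set.range (v y)) := fun y => by
    have := hfl y; have := hfp y
    exact (v y).isOpenMap.isOpen_range
  let Uo : Y → Y.Opens := fun y => ⟨Set.range (v y), hopen y⟩
  have hcov : iSup Uo = ⊤ := by
    rw [eq_top_iff]
    intro y _
    exact TopologicalSpace.Opens.mem_iSup.2 ⟨y, hy y⟩
  rw [IsZariskiLocalAtTarget.iff_of_iSup_eq_top (P := P) Uo hcov]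
  intro y
  have hle : Set.range (v y) ⊆ Set.range (Uo y).ι := by
    rw [Scheme.Opens.range_ι]
    exact le_refl _
  let v' : V y ⟶ (Uo y).toScheme := IsOpenImmersion.lift (Uo y).ι (v y) hle
  have hv' : v' ≫ (Uo y).ι = v y := IsOpenImmersion.lift_fac _ _ _
  have hr : IsPullback (f ⁻¹ᵁ Uo y).ι (f ∣_ Uo y) f (Uo y).ι :=
    (isPullback_morphismRestrict f (Uo y)).flip
  let a : W y ⟶ (f ⁻¹ᵁ Uo y).toScheme :=
    hr.lift (p y) (q y ≫ v') (by rw [Category.assoc, hv', (hpb y).w])
  have hl : IsPullback a (q y) (f ∣_ Uo y) v' := by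
    refine IsPullback.of_right ?_ (hr.lift_snd _ _ _) hr
    rw [hr.lift_fst, hv']
    exact hpb y
  have hvpb : IsPullback (𝟙 (V y)) v' (v y) (Uo y).ι := by
    have := isPullback_lift_mono v' (Uo y).ι
    rwa [hv'] at this
  have hsurj : Surjective v' := by
    refine ⟨fun u => ?_⟩
    have hu : (Uo y).ι u ∈ Set.range (Uo y).ι := ⟨u, rfl⟩
    rw [Scheme.Opens.range_ι] at hu
    obtain ⟨x, hx⟩ : (Uo y).ι u ∈ Set.range (v y) := hu
    refine ⟨x, ?_⟩
    apply (Uo y).ι.injective
    rw [← Scheme.Hom.comp_apply, hv', hx]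
  have hflat : Flat v' := MorphismProperty.of_isPullback hvpb (hfl y)
  have hlfp : LocallyOfFinitePresentation v' := MorphismProperty.of_isPullback hvpb (hfp y)
  exact MorphismProperty.of_isPullback_of_descendsAlong
    (Q := @Surjective ⊓ @Flat ⊓ @LocallyOfFinitePresentation) hl.flip ⟨⟨hsurj, hflat⟩, hlfp⟩ (hq y)

end Descent

section Torsor

variable {S : Scheme.{u}} {G : Over S} [GrpObj G] {X : Over S} {aX : AlgGrp.Action G X}

/-- The projection `G ×_S T ⟶ T` is a base change of `G ⟶ S` at the level of schemes. -/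
theorem isPullback_snd_left (T : Over S) :
    IsPullback (fst G T).left (snd G T).left G.hom T.hom := by
  have h := (AlgSt.isPullback_fst_snd G T).map (Over.forget S)
  have e1 : (Over.forget S).map (toUnit G) = G.hom := by
    have := Over.w (toUnit G)
    simpa using this
  have e2 : (Over.forget S).map (toUnit T) = T.hom := by
    have := Over.w (toUnit T)
    simpa using this
  rw [e1, e2] at h
  exact h

/-- The structure morphism of a torsor for the fppf topology has every property of `G ⟶ S` which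
is stable under base change and fppf local on the target. -/
theorem torsor_prop (P : MorphismProperty Scheme.{u}) [IsZariskiLocalAtTarget P]
    [P.DescendsAlong (@Surjective ⊓ @Flat ⊓ @LocallyOfFinitePresentation)]
    [P.IsStableUnderBaseChange] (hG : P G.hom)
    (A : AlgSt.QuotObj Scheme.fppfPrecoverage G aX) : P A.π.left := by
  apply prop_of_fppf_local P A.π.left
  intro y
  obtain ⟨R, hR, hsec⟩ := A.loc
  have h1 := hR.1
  rw [Scheme.jointlySurjectivePrecoverage,
    Presieve.mem_comap_jointlySurjectivePrecoverage_iff] at h1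
  obtain ⟨V, v, hv, hy⟩ := h1 y
  obtain ⟨s, hs⟩ := hsec v hv
  have hs' : s ≫ A.π.left = v := hs
  have hw : s ≫ A.P.hom = v ≫ A.base.hom := by
    rw [← Over.w A.π, ← Category.assoc, hs']
  let V' : Over S := Over.mk (v ≫ A.base.hom)
  let s' : V' ⟶ A.P := Over.homMk s hw
  have hc : IsPullback ((G ◁ s') ≫ A.act.act) (snd G V') A.π (s' ≫ A.π) := (trivTo A s').cart
  have hc' := hc.map (Over.forget S)
  have e1 : (Over.forget S).map (s' ≫ A.π) = v := hs'
  rw [e1] at hc'
  refine ⟨V, (G ⊗ V').left, v, ((G ◁ s') ≫ A.act.act).left, (snd G V').left, hc',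
    (hR.2 hv).1, (hR.2 hv).2, hy, ?_⟩
  exact MorphismProperty.of_isPullback (isPullback_snd_left V') hG

end Torsor

section Final

variable {S : Scheme.{u}} {G : Over S} [GrpObj G] {X : Over S} {aX : AlgGrp.Action G X}

open Groth.Agent.Lib.Helper15LocEss

theorem locP_yon_map_of_smooth {U V : Over S} (h : U ⟶ V) (hh : Smooth h.left) :
    AlgSp.LocP @Smooth ((AlgSp.yon S).map h) := by
  let X' : AlgSp.Space S := ⟨(AlgSp.yon S).obj U, AlgSp.IsAlgSpace.yon_obj U⟩
  let Y' : AlgSp.Space S := ⟨(AlgSp.yon S).obj V, AlgSp.IsAlgSpace.yon_obj V⟩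
  let f : X' ⟶ Y' := ObjectProperty.homMk ((AlgSp.yon S).map h)
  exact Groth.Agent.S9947.result @Smooth (Or.inr (Or.inr (Or.inr (Or.inl rfl)))) f (𝟙 _) (𝟙 _) h
    (AlgSp.repWith_id _ U) (AlgSp.repWith_id _ U) (AlgSp.repWith_id _ V)
    (by rw [Category.id_comp, Category.comp_id]; rfl) hh

theorem isSurjectiveMor_yon_map {U V : Over S} (h : V ⟶ U) (hs : Function.Surjective h.left) :
    AlgSp.IsSurjectiveMor ((AlgSp.yon S).map h) := by
  intro x
  obtain ⟨v, hv⟩ := hs (AlgSp.Points.toScheme U x)
  refine ⟨AlgSp.Points.ofScheme V v, ?_⟩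
  rw [points_map_yon_ofScheme, hv, AlgSp.Points.ofScheme_toScheme]

theorem torsor_surjective {K : Precoverage Scheme.{u}}
    (hK : K ≤ Scheme.jointlySurjectivePrecoverage) (A : AlgSt.QuotObj K G aX) :
    Function.Surjective A.π.left := by
  intro y
  obtain ⟨R, hR, hsec⟩ := A.loc
  have h1 := hK _ hR
  rw [Scheme.jointlySurjectivePrecoverage,
    Presieve.mem_comap_jointlySurjectivePrecoverage_iff] at h1
  obtain ⟨V, v, hv, x, hx⟩ := h1 y
  obtain ⟨s, hs⟩ := hsec v hv
  have hs' : s ≫ A.π.left = v := hs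
  refine ⟨s x, ?_⟩
  have h2 : (s ≫ A.π.left) x = y := by rw [hs']; exact hx
  exact h2

theorem torsor_flat [Flat G.hom] (A : AlgSt.QuotObj Scheme.fppfPrecoverage G aX) :
    Flat A.π.left := by
  have : MorphismProperty.DescendsAlong (@Flat : MorphismProperty Scheme.{u})
      (@Surjective ⊓ @Flat ⊓ @QuasiCompact) := Groth.Agent.Lib.Helper12.descendsAlong_flat
  exact torsor_prop @Flat inferInstance A

theorem torsor_lfp [LocallyOfFinitePresentation G.hom]
    (A : AlgSt.QuotObj Scheme.fppfPrecoverage G aX) : LocallyOfFinitePresentation A.π.left :=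
  torsor_prop @LocallyOfFinitePresentation inferInstance A

theorem torsor_smooth [Smooth G.hom] (A : AlgSt.QuotObj Scheme.fppfPrecoverage G aX) :
    Smooth A.π.left :=
  torsor_prop @Smooth inferInstance A

theorem quotMap_surjective :
    AlgSt.RepByAlgSpWith AlgSp.IsSurjectiveMor (qF (K := Scheme.fppfPrecoverage) aX) := by
  refine repByAlgSpWith_qF _ (fun A U h => ?_)
  subst h
  rw [eqToHom_refl, Category.comp_id]
  refine isSurjectiveMor_yon_map _ (torsor_surjective ?_ A)
  intro T R hR
  exact hR.1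

theorem quotMap_flat [Flat G.hom] :
    AlgSt.RepByAlgSpWith (AlgSp.LocP @Flat) (qF (K := Scheme.fppfPrecoverage) aX) := by
  refine repByAlgSpWith_qF _ (fun A U h => ?_)
  subst h
  rw [eqToHom_refl, Category.comp_id]
  exact locP_yon_map_of_flat _ (torsor_flat A)

theorem quotMap_lfp [LocallyOfFinitePresentation G.hom] :
    AlgSt.RepByAlgSpWith (AlgSp.LocP @LocallyOfFinitePresentation)
      (qF (K := Scheme.fppfPrecoverage) aX) := by
  refine repByAlgSpWith_qF _ (fun A U h => ?_)
  subst h
  rw [eqToHom_refl, Category.comp_id]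
  exact locP_yon_map_of_lfp _ (torsor_lfp A)

theorem quotMap_smooth [Smooth G.hom] :
    AlgSt.RepByAlgSpWith (AlgSp.LocP @Smooth) (qF (K := Scheme.fppfPrecoverage) aX) := by
  refine repByAlgSpWith_qF _ (fun A U h => ?_)
  subst h
  rw [eqToHom_refl, Category.comp_id]
  exact locP_yon_map_of_smooth _ (torsor_smooth A)

end Final

end Groth.Agent.Lib.Helper8QuotSt
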