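-- helper8: quotient stacks [X/G]: invariant maps X ⟶ N to an fppf sheaf descend to [X/G].
import Mathlib
import Groth.Agent.Lib.Helper8QuotSt3

set_option autoImplicit false
set_option backward.isDefEq.respectTransparency false
set_option backward.isDefEq.respectTransparency.types false
set_option linter.unusedSimpArgs false
set_option linter.unusedVariables false
set_option linter.unusedSectionVars false
open CategoryTheory CategoryTheory.Limits MonoidalCategory CartesianMonoidalCategory MonObj GrpObj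
  AlgebraicGeometry Opposite

universe u

namespace Groth.Agent.Lib.Helper8QuotSt

variable {S : Scheme.{u}} {K : Precoverage Scheme.{u}} {G : Over S} [GrpObj G]
  {X : Over S} {aX : AlgGrp.Action G X}

section Sieve

/-- The sieve of morphisms to the base over which the torsor has a section. -/
def secSieve (A : AlgSt.QuotObj K G aX) : Sieve A.base where
  arrows := fun T' h => ∃ s : T' ⟶ A.P, s ≫ A.π = h
  downward_closed := by
    rintro T' T'' h ⟨s, hs⟩ k
    exact ⟨k ≫ s, by rw [Category.assoc, hs]⟩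

theorem secSieve_mem (A : AlgSt.QuotObj K G aX) : secSieve A ∈ QuotSh.J K S A.base := by
  obtain ⟨R, hR, hsec⟩ := A.loc
  rw [GrothendieckTopology.mem_over_iff]
  refine K.toGrothendieck.superset_covering ?_ (Precoverage.generate_mem_toGrothendieck hR)
  rw [Sieve.generate_le_iff]
  intro V v hv
  rw [Sieve.overEquiv_iff]
  obtain ⟨s, hs⟩ := hsec v hv
  have hs' : s ≫ A.π.left = v := hs
  have hw : s ≫ A.P.hom = v ≫ A.base.hom := by
    rw [← Over.w A.π, ← Category.assoc, hs']
  refine ⟨Over.homMk s hw, ?_⟩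
  apply Over.OverMorphism.ext
  exact hs'

end Sieve

section Desc

variable {N : AlgSp.Sp S} (f : (AlgSp.yon S).obj X ⟶ N)

/-- The value of `f` at a point of `X`. -/
def fx {T : Over S} (x : T ⟶ X) : N.obj.obj (op T) := f.hom.app (op T) ⟨x⟩

theorem fx_comp {T' T : Over S} (k : T' ⟶ T) (x : T ⟶ X) :
    N.obj.map k.op (fx f x) = fx f (k ≫ x) := by
  have h := congrArg (fun m => (ConcreteCategory.hom m)
    (⟨x⟩ : ((AlgSp.yon S).obj X).obj.obj (op T))) (f.hom.naturality k.op)
  exact h.symm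

variable (hf : (AlgSp.yon S).map aX.act ≫ f = (AlgSp.yon S).map (snd G X) ≫ f)

include hf in
theorem fx_inv {T : Over S} (w : T ⟶ G ⊗ X) : fx f (w ≫ aX.act) = fx f (w ≫ snd G X) := by
  have h := congrArg (fun k => k.hom.app (op T) ⟨w⟩) hf
  exact h

include hf in
theorem fx_sec_eq (A : AlgSt.QuotObj K G aX) {T : Over S} (s₁ s₂ : T ⟶ A.P)
    (h : s₁ ≫ A.π = s₂ ≫ A.π) : fx f (s₁ ≫ A.φ) = fx f (s₂ ≫ A.φ) := by
  let g' : T ⟶ G ⊗ A.P := A.cart.lift s₁ s₂ h
  have h1 : g' ≫ A.act.act = s₁ := A.cart.lift_fst _ _ _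
  have h2 : g' ≫ snd G A.P = s₂ := A.cart.lift_snd _ _ _
  have e1 : s₁ ≫ A.φ = (g' ≫ (G ◁ A.φ)) ≫ aX.act := by
    rw [← h1, Category.assoc, A.eqv, Category.assoc]
  have e2 : s₂ ≫ A.φ = (g' ≫ (G ◁ A.φ)) ≫ snd G X := by
    rw [← h2, Category.assoc, Category.assoc, whiskerLeft_snd]
  rw [e1, e2]
  exact fx_inv f hf _

/-- The family of values of `f` on the local sections of the torsor. -/
noncomputable def fam (A : AlgSt.QuotObj K G aX) :
    Presieve.FamilyOfElements N.obj (secSieve A).arrows :=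
  fun T' h hh => fx f (hh.choose ≫ A.φ)

include hf in
theorem fam_eq (A : AlgSt.QuotObj K G aX) {T' : Over S} (h : T' ⟶ A.base) (s : T' ⟶ A.P)
    (hs : s ≫ A.π = h) : fam f A h ⟨s, hs⟩ = fx f (s ≫ A.φ) := by
  have hh : ∃ s : T' ⟶ A.P, s ≫ A.π = h := ⟨s, hs⟩
  exact fx_sec_eq f hf A _ _ (hh.choose_spec.trans hs.symm)

include hf in
theorem fam_compatible (A : AlgSt.QuotObj K G aX) : (fam f A).Compatible := by
  rw [Presieve.compatible_iff_sieveCompatible]
  intro T' T'' h k hh
  obtain ⟨s, hs⟩ := hh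
  rw [fam_eq f hf A h s hs, fam_eq f hf A (k ≫ h) (k ≫ s) (by rw [Category.assoc, hs]), fx_comp,
    Category.assoc]

end Desc

section Desc2

variable {N : AlgSp.Sp S} (f : (AlgSp.yon S).obj X ⟶ N)
  (hf : (AlgSp.yon S).map aX.act ≫ f = (AlgSp.yon S).map (snd G X) ≫ f)

/-- The section of `N` over the base of a torsor obtained by glueing the values of `f`. -/
noncomputable def descSec (A : AlgSt.QuotObj Scheme.fppfPrecoverage G aX) :
    N.obj.obj (op A.base) :=
  (Presheaf.IsSheaf.isSheafFor N.property (secSieve A) (secSieve_mem A)).amalgamate (fam f A)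
    (fam_compatible f hf A)

theorem descSec_restrict (A : AlgSt.QuotObj Scheme.fppfPrecoverage G aX) {T' : Over S}
    (s : T' ⟶ A.P) : N.obj.map (s ≫ A.π).op (descSec f hf A) = fx f (s ≫ A.φ) := by
  have h := (Presheaf.IsSheaf.isSheafFor N.property (secSieve A) (secSieve_mem A)).valid_glue
    (fam_compatible f hf A) (s ≫ A.π) ⟨s, rfl⟩
  rw [fam_eq f hf A (s ≫ A.π) s rfl] at h
  exact h

theorem descSec_ext (A : AlgSt.QuotObj Scheme.fppfPrecoverage G aX) (t : N.obj.obj (op A.base))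
    (h : ∀ (T' : Over S) (s : T' ⟶ A.P), N.obj.map (s ≫ A.π).op t = fx f (s ≫ A.φ)) :
    t = descSec f hf A := by
  apply (Presheaf.IsSheaf.isSheafFor N.property (secSieve A) (secSieve_mem A)).isSeparatedFor.ext
  rintro T' k ⟨s, rfl⟩
  rw [h T' s, descSec_restrict]

/-- The functor `[X/G] ⟶ N` induced by an invariant map `X ⟶ N`. -/
noncomputable def descF : AlgSt.QuotSt Scheme.fppfPrecoverage G aX ⥤ᵇ AlgSt.ofSp N where
  toFunctor :=
    { obj := fun A => ⟨A.base, descSec f hf A⟩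
      map := fun {A B} m => ⟨m.base, by
        apply descSec_ext f hf A
        intro T' s
        have e : (s ≫ A.π) ≫ m.base = (s ≫ m.top) ≫ B.π := by
          rw [Category.assoc, Category.assoc, m.cart.w]
        have h1 : N.obj.map (s ≫ A.π).op (N.obj.map m.base.op (descSec f hf B)) =
            N.obj.map ((s ≫ m.top) ≫ B.π).op (descSec f hf B) := by
          have h0 : N.obj.map ((s ≫ A.π) ≫ m.base).op =
              N.obj.map m.base.op ≫ N.obj.map (s ≫ A.π).op := by
            rw [op_comp, Functor.map_comp]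
          rw [← e, h0]
          rfl
        rw [h1, descSec_restrict, Category.assoc, m.wφ]⟩
      map_id := fun A => Stk.EltObj.hom_ext rfl
      map_comp := fun m m' => Stk.EltObj.hom_ext rfl }
  w := rfl

theorem descF_obj (A : AlgSt.QuotObj Scheme.fppfPrecoverage G aX) :
    (descF f hf).obj A = ⟨A.base, descSec f hf A⟩ := rfl

theorem descF_map_hom {A B : AlgSt.QuotObj Scheme.fppfPrecoverage G aX} (m : A ⟶ B) :
    ((descF f hf).map m).hom = m.base := rfl

end Desc2

section Elt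

variable {C : Type*} [Category C] {P : Cᵒᵖ ⥤ Type*}

theorem eltObj_eqToHom_hom {a b : Stk.EltObj P} (h : a = b) :
    (eqToHom h).hom = eqToHom (congrArg Stk.EltObj.base h) := by
  subst h; rfl

theorem eltObj_sec_of_eq {o o' : Stk.EltObj P} (h : o = o') (hb : o.base = o'.base) :
    P.map (eqToHom hb.symm).op o.sec = o'.sec := by
  subst h
  simp

theorem eltObj_eq_mk (o : Stk.EltObj P) (T : C) (hb : o.base = T) :
    o = ⟨T, P.map (eqToHom hb.symm).op o.sec⟩ := by
  subst hb
  simp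

end Elt

theorem basedFunctor_ext {𝒳 𝒴 : BasedCategory (Over S)} {F F' : 𝒳 ⥤ᵇ 𝒴}
    (h : F.toFunctor = F'.toFunctor) : F = F' := by
  cases F; cases F'; cases h; rfl

section Main

variable {N : AlgSp.Sp S} (f : (AlgSp.yon S).obj X ⟶ N)
  (hf : (AlgSp.yon S).map aX.act ≫ f = (AlgSp.yon S).map (snd G X) ≫ f)

theorem descSec_triv {T : Over S} (x : T ⟶ X) :
    descSec f hf (triv Scheme.fppfPrecoverage aX x) = fx f x := by
  have h := descSec_restrict f hf (triv Scheme.fppfPrecoverage aX x) (unitSec T)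
  have e1 : unitSec T ≫ (triv Scheme.fppfPrecoverage aX x).π = 𝟙 T := unitSec_snd T
  have e2 : unitSec T ≫ (triv Scheme.fppfPrecoverage aX x).φ = x :=
    unitSec_whiskerLeft_act aX x
  rw [e1, e2] at h
  simpa using h

theorem quotMap_descF :
    BasedFunctor.comp (AlgSt.quotMap Scheme.fppfPrecoverage G aX) (descF f hf) =
      AlgSt.ofSpMap f := by
  apply basedFunctor_ext
  refine CategoryTheory.Functor.ext (fun a => ?_) (fun a b m => ?_)
  · exact congrArg (Stk.EltObj.mk a.base) (descSec_triv f hf a.sec.down)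
  · apply Stk.EltObj.hom_ext
    rw [Stk.EltObj.comp_hom, Stk.EltObj.comp_hom, eltObj_eqToHom_hom, eltObj_eqToHom_hom]
    simp only [eqToHom_refl, Category.id_comp, Category.comp_id]
    rfl

/-- The section over the base of `A` of the value at `A` of a functor to `N`. -/
def secOf (φ' : AlgSt.QuotSt Scheme.fppfPrecoverage G aX ⥤ᵇ AlgSt.ofSp N)
    (A : AlgSt.QuotObj Scheme.fppfPrecoverage G aX) : N.obj.obj (op A.base) :=
  N.obj.map (eqToHom (φ'.w_obj A).symm).op (φ'.obj A).sec

theorem map_hom_eq (φ' : AlgSt.QuotSt Scheme.fppfPrecoverage G aX ⥤ᵇ AlgSt.ofSp N)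
    {A B : AlgSt.QuotObj Scheme.fppfPrecoverage G aX} (m : A ⟶ B) :
    (φ'.map m).hom = eqToHom (φ'.w_obj A) ≫ m.base ≫ eqToHom (φ'.w_obj B).symm := by
  have i1 : (AlgSt.QuotSt Scheme.fppfPrecoverage G aX).p.IsHomLift m.base m :=
    isHomLift_of_base _ _ rfl
  have i2 : (AlgSt.ofSp N).p.IsHomLift m.base (φ'.map m) :=
    BasedFunctor.preserves_isHomLift φ' _ _
  exact IsHomLift.fac' (AlgSt.ofSp N).p m.base (φ'.map m)

theorem secOf_map (φ' : AlgSt.QuotSt Scheme.fppfPrecoverage G aX ⥤ᵇ AlgSt.ofSp N)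
    {A B : AlgSt.QuotObj Scheme.fppfPrecoverage G aX} (m : A ⟶ B) :
    N.obj.map m.base.op (secOf φ' B) = secOf φ' A := by
  have h1 := (φ'.map m).map_sec
  rw [map_hom_eq] at h1
  unfold secOf
  rw [← h1]
  have h0 : eqToHom (φ'.w_obj A).symm ≫ (eqToHom (φ'.w_obj A) ≫ m.base ≫
      eqToHom (φ'.w_obj B).symm) = m.base ≫ eqToHom (φ'.w_obj B).symm := by simp
  have e : N.obj.map (m.base ≫ eqToHom (φ'.w_obj B).symm).op =
      N.obj.map (eqToHom (φ'.w_obj B).symm).op ≫ N.obj.map m.base.op := by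
    rw [op_comp, Functor.map_comp]
  have e' : N.obj.map (eqToHom (φ'.w_obj A).symm ≫ (eqToHom (φ'.w_obj A) ≫ m.base ≫
      eqToHom (φ'.w_obj B).symm)).op =
      N.obj.map (eqToHom (φ'.w_obj A) ≫ m.base ≫ eqToHom (φ'.w_obj B).symm).op ≫
        N.obj.map (eqToHom (φ'.w_obj A).symm).op := by
    rw [op_comp, Functor.map_comp]
  calc N.obj.map m.base.op (N.obj.map (eqToHom (φ'.w_obj B).symm).op (φ'.obj B).sec)
      = N.obj.map (m.base ≫ eqToHom (φ'.w_obj B).symm).op (φ'.obj B).sec := by rw [e]; rfl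
    _ = N.obj.map (eqToHom (φ'.w_obj A).symm ≫ (eqToHom (φ'.w_obj A) ≫ m.base ≫
          eqToHom (φ'.w_obj B).symm)).op (φ'.obj B).sec :=
        congrArg (fun k => N.obj.map k.op (φ'.obj B).sec) h0.symm
    _ = _ := by rw [e']; rfl

theorem secOf_triv (φ' : AlgSt.QuotSt Scheme.fppfPrecoverage G aX ⥤ᵇ AlgSt.ofSp N)
    (hφ' : BasedFunctor.comp (AlgSt.quotMap Scheme.fppfPrecoverage G aX) φ' = AlgSt.ofSpMap f)
    {T : Over S} (x : T ⟶ X) : secOf φ' (triv Scheme.fppfPrecoverage aX x) = fx f x := by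
  let a : (AlgSt.ofSch X).obj := ⟨T, ⟨x⟩⟩
  have h := congrArg (fun F => F.obj a) hφ'
  have h' : φ'.obj (triv Scheme.fppfPrecoverage aX x) = ⟨T, fx f x⟩ := h
  exact eltObj_sec_of_eq h' (φ'.w_obj (triv Scheme.fppfPrecoverage aX x))

theorem descF_unique (φ' : AlgSt.QuotSt Scheme.fppfPrecoverage G aX ⥤ᵇ AlgSt.ofSp N)
    (hφ' : BasedFunctor.comp (AlgSt.quotMap Scheme.fppfPrecoverage G aX) φ' = AlgSt.ofSpMap f) :
    φ' = descF f hf := by
  have hsec : ∀ A, secOf φ' A = descSec f hf A := by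
    intro A
    apply descSec_ext f hf A
    intro T' s
    have h1 := secOf_map φ' (trivTo A s)
    rw [secOf_triv f φ' hφ'] at h1
    exact h1
  apply basedFunctor_ext
  refine CategoryTheory.Functor.ext (fun A => ?_) (fun A B m => ?_)
  · rw [eltObj_eq_mk (φ'.obj A) A.base (φ'.w_obj A)]
    exact congrArg (Stk.EltObj.mk A.base) (hsec A)
  · apply Stk.EltObj.hom_ext
    rw [Stk.EltObj.comp_hom, Stk.EltObj.comp_hom, eltObj_eqToHom_hom, eltObj_eqToHom_hom,
      map_hom_eq]
    rfl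

end Main

end Groth.Agent.Lib.Helper8QuotSt
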