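-- helper8: quotient stacks [X/G]: functors to sheaves are the invariant maps; categorical quotients.
import Mathlib
import Groth.Agent.Lib.Helper8QuotSt5
import Groth.Agent.Lib.Helper15PshFib
import Groth.Prelude.Def_StCoarse
import Groth.Prelude.Def_W4bk4git07Quot

set_option autoImplicit false
set_option backward.isDefEq.respectTransparency false
set_option backward.isDefEq.respectTransparency.types false
set_option linter.unusedSimpArgs false
set_option linter.unusedVariables false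
set_option linter.unusedSectionVars false
open CategoryTheory CategoryTheory.Limits MonoidalCategory CartesianMonoidalCategory MonObj GrpObj
  AlgebraicGeometry Opposite

universe u

namespace Groth.Agent.Lib.Helper8QuotSt

open Groth.Agent.Lib.Helper17 Groth.Agent.Lib.Helper15PshFib

variable {S : Scheme.{u}} {G : Over S} [GrpObj G] {X : Over S} {aX : AlgGrp.Action G X}

section L

theorem ofSpMap_eq_of_iso {F N : AlgSp.Sp S} (a b : F ⟶ N)
    (h : Nonempty (AlgSt.ofSpMap a ≅ AlgSt.ofSpMap b)) : a = b := by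
  obtain ⟨e⟩ := h
  apply ObjectProperty.hom_ext
  apply NatTrans.ext
  funext T
  ext x
  have h1 := pshSec_eq_of_hom e.hom (⟨T.unop, x⟩ : (AlgSt.ofSp F).obj)
  rw [pshSec_ofPshMap, pshSec_ofPshMap] at h1
  exact h1

variable {N : AlgSp.Sp S}

theorem pshSec_descF (f : (AlgSp.yon S).obj X ⟶ N)
    (hf : (AlgSp.yon S).map aX.act ≫ f = (AlgSp.yon S).map (snd G X) ≫ f)
    (A : AlgSt.QuotObj Scheme.fppfPrecoverage G aX) :
    pshSec (descF f hf) A = descSec f hf A := by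
  unfold pshSec
  exact psh_map_id_op N.obj _

theorem pshSec_triv_of_iso (φ : AlgSt.QuotSt Scheme.fppfPrecoverage G aX ⥤ᵇ AlgSt.ofSp N)
    (ψ' : (AlgSp.yon S).obj X ⟶ N)
    (h : Nonempty (BasedFunctor.comp (AlgSt.quotMap Scheme.fppfPrecoverage G aX) φ ≅
      AlgSt.ofSpMap ψ')) {T : Over S} (x : T ⟶ X) :
    pshSec φ (triv Scheme.fppfPrecoverage aX x) = fx ψ' x := by
  obtain ⟨e⟩ := h
  have h1 := pshSec_eq_of_hom e.hom (⟨T, ⟨x⟩⟩ : (AlgSt.ofSch X).obj)
  rw [pshSec_comp, pshSec_ofPshMap] at h1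
  exact (psh_map_id_op N.obj _).symm.trans h1

end L

section KL

variable {N : AlgSp.Sp S}

theorem fx_ext {a b : (AlgSp.yon S).obj X ⟶ N}
    (h : ∀ (T : Over S) (x : T ⟶ X), fx a x = fx b x) : a = b := by
  apply ObjectProperty.hom_ext
  apply NatTrans.ext
  funext T
  ext x
  exact h T.unop x.down

theorem fx_yon_map_comp {Y : Over S} (k : Y ⟶ X) (a : (AlgSp.yon S).obj X ⟶ N) {T : Over S}
    (y : T ⟶ Y) : fx ((AlgSp.yon S).map k ≫ a) y = fx a (y ≫ k) := rfl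

theorem invariant_of_iso (φ : AlgSt.QuotSt Scheme.fppfPrecoverage G aX ⥤ᵇ AlgSt.ofSp N)
    (ψ' : (AlgSp.yon S).obj X ⟶ N)
    (h : Nonempty (BasedFunctor.comp (AlgSt.quotMap Scheme.fppfPrecoverage G aX) φ ≅
      AlgSt.ofSpMap ψ')) :
    (AlgSp.yon S).map aX.act ≫ ψ' = (AlgSp.yon S).map (snd G X) ≫ ψ' := by
  apply fx_ext
  intro T w
  rw [fx_yon_map_comp, fx_yon_map_comp, ← pshSec_triv_of_iso φ ψ' h, ← pshSec_triv_of_iso φ ψ' h]
  have hg : lift (w ≫ fst G X) (w ≫ snd G X) ≫ aX.act = w ≫ aX.act := by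
    rw [← comp_lift, lift_fst_snd, Category.comp_id]
  have h1 := pshSec_map φ (trivIso (K := Scheme.fppfPrecoverage) (w ≫ aX.act) (w ≫ snd G X)
    (w ≫ fst G X) hg).hom
  exact ((psh_map_id_op N.obj _).symm.trans h1).symm

theorem pshSec_eq_descSec (φ : AlgSt.QuotSt Scheme.fppfPrecoverage G aX ⥤ᵇ AlgSt.ofSp N)
    (ψ' : (AlgSp.yon S).obj X ⟶ N)
    (h : Nonempty (BasedFunctor.comp (AlgSt.quotMap Scheme.fppfPrecoverage G aX) φ ≅
      AlgSt.ofSpMap ψ'))
    (hψ : (AlgSp.yon S).map aX.act ≫ ψ' = (AlgSp.yon S).map (snd G X) ≫ ψ')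
    (A : AlgSt.QuotObj Scheme.fppfPrecoverage G aX) : pshSec φ A = descSec ψ' hψ A := by
  apply descSec_ext ψ' hψ A
  intro T' s
  have h1 := pshSec_map φ (trivTo A s)
  rw [pshSec_triv_of_iso φ ψ' h] at h1
  exact h1

/-- Two functors from `[X/G]` to a sheaf which agree on `X` are isomorphic. -/
theorem iso_of_iso_on_quotMap (φ φ' : AlgSt.QuotSt Scheme.fppfPrecoverage G aX ⥤ᵇ AlgSt.ofSp N)
    (ψ' : (AlgSp.yon S).obj X ⟶ N)
    (h : Nonempty (BasedFunctor.comp (AlgSt.quotMap Scheme.fppfPrecoverage G aX) φ ≅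
      AlgSt.ofSpMap ψ'))
    (h' : Nonempty (BasedFunctor.comp (AlgSt.quotMap Scheme.fppfPrecoverage G aX) φ' ≅
      AlgSt.ofSpMap ψ')) : Nonempty (φ ≅ φ') := by
  have hψ := invariant_of_iso φ ψ' h
  exact ⟨pshIsoOfSecEq (fun A => by
    rw [pshSec_eq_descSec φ ψ' h hψ A, pshSec_eq_descSec φ' ψ' h' hψ A])⟩

end KL

section CatQuot

theorem exists_iso_yon (N : AlgSp.Sp S) (h : N.obj.IsRepresentable) :
    ∃ (Z : Over S), Nonempty ((AlgSp.yon S).obj Z ≅ N) := by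
  have := h
  refine ⟨N.obj.reprX, ⟨?_⟩⟩
  exact (fullyFaithfulSheafToPresheaf _ _).preimageIso (N.obj.uliftYonedaReprXIso)

variable {Y : Over S} (f : X ⟶ Y)
  (π : AlgSt.QuotSt Scheme.fppfPrecoverage G aX ⥤ᵇ AlgSt.ofSch Y)
  (hπ : Nonempty (BasedFunctor.comp (AlgSt.quotMap Scheme.fppfPrecoverage G aX) π ≅
    AlgSt.ofSpMap ((AlgSp.yon S).map f)))

include hπ in
theorem comp_iso {N : AlgSp.Sp S} (g : (AlgSp.yon S).obj Y ⟶ N) :
    Nonempty (BasedFunctor.comp (AlgSt.quotMap Scheme.fppfPrecoverage G aX)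
      (BasedFunctor.comp π (AlgSt.ofSpMap g)) ≅ AlgSt.ofSpMap ((AlgSp.yon S).map f ≫ g)) := by
  obtain ⟨e⟩ := hπ
  refine ⟨pshIsoOfSecEq (fun a => ?_)⟩
  have h1 := pshSec_comp_ofPshMap
    (BasedFunctor.comp (AlgSt.quotMap Scheme.fppfPrecoverage G aX) π) g.hom a
  have h2 := pshSec_eq_of_hom e.hom a
  rw [pshSec_ofPshMap] at h2
  rw [pshSec_ofPshMap]
  rw [h2] at h1
  exact h1

include hπ in
theorem isCatModuliSch_iff_isCatQuot : AlgSt.IsCatModuliSch π ↔ GIT.IsCatQuot aX f := by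
  constructor
  · rintro ⟨-, huniv⟩
    have hinv : aX.act ≫ f = snd G X ≫ f := by
      apply (AlgSp.yon S).map_injective
      rw [Functor.map_comp, Functor.map_comp]
      exact invariant_of_iso π _ hπ
    refine ⟨hinv, fun Z ψ hψ => ?_⟩
    have hψ' : (AlgSp.yon S).map aX.act ≫ (AlgSp.yon S).map ψ =
        (AlgSp.yon S).map (snd G X) ≫ (AlgSp.yon S).map ψ := by
      rw [← Functor.map_comp, ← Functor.map_comp]
      exact congrArg _ hψ
    have hZ : ((AlgSp.yon S).obj Z).obj.IsRepresentable :=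
      inferInstanceAs (uliftYoneda.{u + 1}.obj Z).IsRepresentable
    obtain ⟨g, hg, hguniq⟩ := huniv ((AlgSp.yon S).obj Z) hZ (descF ((AlgSp.yon S).map ψ) hψ')
    have hdesc : Nonempty (BasedFunctor.comp (AlgSt.quotMap Scheme.fppfPrecoverage G aX)
        (descF ((AlgSp.yon S).map ψ) hψ') ≅ AlgSt.ofSpMap ((AlgSp.yon S).map ψ)) :=
      ⟨eqToIso (quotMap_descF _ hψ')⟩
    obtain ⟨χ, rfl⟩ := (AlgSp.yon S).map_surjective g
    refine ⟨χ, ?_, fun χ' hχ' => ?_⟩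
    · apply (AlgSp.yon S).map_injective
      rw [Functor.map_comp]
      apply ofSpMap_eq_of_iso
      obtain ⟨e1⟩ := comp_iso f π hπ ((AlgSp.yon S).map χ)
      obtain ⟨e2⟩ := hg
      obtain ⟨e3⟩ := hdesc
      exact ⟨e1.symm ≪≫ whiskerLeftIso (AlgSt.quotMap Scheme.fppfPrecoverage G aX) e2 ≪≫ e3⟩
    · have h1 : (AlgSp.yon S).map χ' = (AlgSp.yon S).map χ := by
        apply hguniq
        apply iso_of_iso_on_quotMap _ _ ((AlgSp.yon S).map ψ) ?_ hdesc
        obtain ⟨e1⟩ := comp_iso f π hπ ((AlgSp.yon S).map χ')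
        have h2 : (AlgSp.yon S).map f ≫ (AlgSp.yon S).map χ' = (AlgSp.yon S).map ψ := by
          rw [← Functor.map_comp, hχ']
        rw [h2] at e1
        exact ⟨e1⟩
      exact (AlgSp.yon S).map_injective h1
  · rintro ⟨hinv, huniv⟩
    have hY : ((AlgSp.yon S).obj Y).obj.IsRepresentable :=
      inferInstanceAs (uliftYoneda.{u + 1}.obj Y).IsRepresentable
    refine ⟨hY, fun N hN φ => ?_⟩
    obtain ⟨Z, ⟨e⟩⟩ := exists_iso_yon N hN
    let ψ' : (AlgSp.yon S).obj X ⟶ N := ObjectProperty.homMk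
      (pshMapOf (BasedFunctor.comp (AlgSt.quotMap Scheme.fppfPrecoverage G aX) φ))
    have hψ'iso : Nonempty (BasedFunctor.comp (AlgSt.quotMap Scheme.fppfPrecoverage G aX) φ ≅
        AlgSt.ofSpMap ψ') := ⟨(ofPshMapIso _).symm⟩
    have hψ'inv := invariant_of_iso φ ψ' hψ'iso
    obtain ⟨ψ₀, hψ₀⟩ := (AlgSp.yon S).map_surjective (ψ' ≫ e.inv)
    have hψ₀inv : aX.act ≫ ψ₀ = snd G X ≫ ψ₀ := by
      apply (AlgSp.yon S).map_injective
      rw [Functor.map_comp, Functor.map_comp, hψ₀, ← Category.assoc, hψ'inv, Category.assoc]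
    obtain ⟨χ, hχ, hχuniq⟩ := huniv Z ψ₀ hψ₀inv
    have hχ' : f ≫ χ = ψ₀ := hχ
    refine ⟨(AlgSp.yon S).map χ ≫ e.hom, ?_, fun g' hg' => ?_⟩
    · apply iso_of_iso_on_quotMap _ _ ψ' ?_ hψ'iso
      obtain ⟨e1⟩ := comp_iso f π hπ ((AlgSp.yon S).map χ ≫ e.hom)
      have h2 : (AlgSp.yon S).map f ≫ (AlgSp.yon S).map χ ≫ e.hom = ψ' := by
        rw [← Category.assoc, ← Functor.map_comp, hχ', hψ₀, Category.assoc, e.inv_hom_id,
          Category.comp_id]
      rw [h2] at e1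
      exact ⟨e1⟩
    · obtain ⟨χ', hχ''⟩ := (AlgSp.yon S).map_surjective (g' ≫ e.inv)
      have h1 : (AlgSp.yon S).map f ≫ g' = ψ' := by
        apply ofSpMap_eq_of_iso
        obtain ⟨e1⟩ := comp_iso f π hπ g'
        obtain ⟨e2⟩ := hg'
        obtain ⟨e3⟩ := hψ'iso
        exact ⟨e1.symm ≪≫ whiskerLeftIso (AlgSt.quotMap Scheme.fppfPrecoverage G aX) e2 ≪≫ e3⟩
      have h2 : f ≫ χ' = ψ₀ := by
        apply (AlgSp.yon S).map_injective
        rw [Functor.map_comp, hχ'', hψ₀, ← Category.assoc, h1]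
      have h3 : χ' = χ := hχuniq χ' h2
      have h4 : g' = (g' ≫ e.inv) ≫ e.hom := by
        rw [Category.assoc, e.inv_hom_id, Category.comp_id]
      rw [h4, ← hχ'', h3]

end CatQuot

end Groth.Agent.Lib.Helper8QuotSt
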