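-- helper8: quotient stacks [X/G]: geometric points; coarse moduli from orbits + categorical quotient.
import Mathlib
import Groth.Agent.Lib.Helper8QuotSt6

set_option autoImplicit false
set_option backward.isDefEq.respectTransparency false
set_option backward.isDefEq.respectTransparency.types false
set_option linter.unusedSimpArgs false
set_option linter.unusedVariables false
set_option linter.unusedSectionVars false
open CategoryTheory CategoryTheory.Limits MonoidalCategory CartesianMonoidalCategory MonObj GrpObj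
  AlgebraicGeometry Opposite

universe u

namespace Groth.Agent.Lib.Helper8QuotSt

open Groth.Agent.Lib.Helper17 Groth.Agent.Lib.Helper15PshFib

section Pt

/-- A nonempty scheme locally of finite type over an algebraically closed field has a rational
point. -/
theorem exists_section_of_lft {Ω : Type u} [Field Ω] [IsAlgClosed Ω] {V : Scheme.{u}}
    (v : V ⟶ Spec (CommRingCat.of Ω)) [LocallyOfFiniteType v] [Nonempty V] :
    ∃ σ : Spec (CommRingCat.of Ω) ⟶ V, σ ≫ v = 𝟙 _ := by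
  have : JacobsonSpace V := LocallyOfFiniteType.jacobsonSpace v
  obtain ⟨x, -, hx⟩ := nonempty_inter_closedPoints (X := V) (Z := Set.univ) Set.univ_nonempty
    isOpen_univ.isLocallyClosed
  exact ⟨pointOfClosedPoint v x hx, pointOfClosedPoint_comp v x hx⟩

end Pt

section Geom

variable {S : Scheme.{u}} {K : Precoverage Scheme.{u}} {G : Over S} [GrpObj G]
  {X : Over S} {aX : AlgGrp.Action G X}

/-- Coverings of `K` are jointly surjective families of morphisms locally of finite type. -/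
def LftCov (K : Precoverage Scheme.{u}) : Prop :=
  ∀ (T : Scheme.{u}) (R : Presieve T), R ∈ K T →
    R ∈ Scheme.jointlySurjectivePrecoverage T ∧
      ∀ ⦃V : Scheme.{u}⦄ (v : V ⟶ T), R v → LocallyOfFiniteType v

theorem lftCov_fppf : LftCov Scheme.fppfPrecoverage := by
  intro T R hR
  refine ⟨hR.1, fun V v hv => ?_⟩
  have h1 : Flat v := (hR.2 hv).1
  have h2 : LocallyOfFinitePresentation v := (hR.2 hv).2
  infer_instance

/-- A torsor over the spectrum of an algebraically closed field has a section. -/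
theorem exists_section_algClosed (hK : LftCov K) (A : AlgSt.QuotObj K G aX) (Ω : Type u)
    [Field Ω] [IsAlgClosed Ω] (t : Spec (CommRingCat.of Ω) ⟶ S) (hA : A.base = Over.mk t) :
    ∃ s : Over.mk t ⟶ A.P, s ≫ A.π = eqToHom hA.symm := by
  obtain ⟨Ab, AP, Aact, Aπ, Acart, Aloc, Aφ, Aeqv⟩ := A
  change Ab = Over.mk t at hA
  subst hA
  obtain ⟨R, hR, hsec⟩ := Aloc
  obtain ⟨hjs, hlft⟩ := hK _ R hR
  rw [Scheme.jointlySurjectivePrecoverage,
    Presieve.mem_comap_jointlySurjectivePrecoverage_iff] at hjs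
  have hne : Nonempty (Spec (CommRingCat.of Ω)) := inferInstance
  obtain ⟨V, v, hv, x, hx⟩ := hjs hne.some
  have : Nonempty V := ⟨x⟩
  have := hlft v hv
  obtain ⟨σ, hσ⟩ := exists_section_of_lft v
  obtain ⟨s, hs⟩ := hsec v hv
  have hs' : s ≫ Aπ.left = v := hs
  have hw : (σ ≫ s) ≫ AP.hom = t := by
    have h1 : Aπ.left ≫ t = AP.hom := Over.w Aπ
    rw [← h1, Category.assoc, ← Category.assoc s, hs', ← Category.assoc, hσ, Category.id_comp]
  refine ⟨Over.homMk (σ ≫ s) hw, ?_⟩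
  apply Over.OverMorphism.ext
  change (σ ≫ s) ≫ Aπ.left = 𝟙 _
  rw [Category.assoc, hs', hσ]

end Geom

section Fib

variable {S : Scheme.{u}} {K : Precoverage Scheme.{u}} [K.HasIsos] {G : Over S} [GrpObj G]
  {X : Over S} {aX : AlgGrp.Action G X}

/-- An isomorphism in the fibre from an isomorphism over the identity. -/
def fiberIsoMk {T : Over S} (x y : (AlgSt.QuotObj.forget K G aX).Fiber T) (e : x.1 ≅ y.1)
    (he : (AlgSt.QuotObj.forget K G aX).IsHomLift (𝟙 T) e.hom) : x ≅ y where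
  hom := ⟨e.hom, he⟩
  inv := ⟨e.inv, IsHomLift.lift_id_inv _ _ e⟩
  hom_inv_id := Subtype.ext e.hom_inv_id
  inv_hom_id := Subtype.ext e.inv_hom_id

theorem trivTo_isHomLift_id {T : Over S} (A : AlgSt.QuotObj K G aX) (hA : A.base = T)
    (sA : T ⟶ A.P) (hsA : sA ≫ A.π = eqToHom hA.symm) :
    (AlgSt.QuotObj.forget K G aX).IsHomLift (𝟙 T) (trivTo A sA) := by
  apply IsHomLift.of_fac' _ _ _ rfl hA
  change sA ≫ A.π = _
  rw [hsA]
  simp only [eqToHom_refl, Category.id_comp]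
  exact (Category.id_comp _).symm

theorem trivTo_isIso_of_section {T : Over S} (A : AlgSt.QuotObj K G aX) (hA : A.base = T)
    (sA : T ⟶ A.P) (hsA : sA ≫ A.π = eqToHom hA.symm) : IsIso (trivTo A sA) := by
  have : IsIso (trivTo A sA).base := by
    rw [trivTo_base, hsA]
    infer_instance
  exact isIso_of_isIso_base _

theorem fiber_iso_of_act_eq {T : Over S} (x y : (AlgSt.QuotObj.forget K G aX).Fiber T)
    (sA : T ⟶ x.1.P) (hsA : sA ≫ x.1.π = eqToHom x.2.symm) (sB : T ⟶ y.1.P)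
    (hsB : sB ≫ y.1.π = eqToHom y.2.symm) (g : T ⟶ G)
    (hg : lift g (sA ≫ x.1.φ) ≫ aX.act = sB ≫ y.1.φ) : Nonempty (x ≅ y) := by
  have iA := trivTo_isIso_of_section x.1 x.2 sA hsA
  have iB := trivTo_isIso_of_section y.1 y.2 sB hsB
  have lA := trivTo_isHomLift_id x.1 x.2 sA hsA
  have lB := trivTo_isHomLift_id y.1 y.2 sB hsB
  have lAinv : (AlgSt.QuotObj.forget K G aX).IsHomLift (𝟙 T) (inv (trivTo x.1 sA)) :=
    IsHomLift.lift_id_inv_isIso _ _ _
  let τ := trivIso (K := K) (sB ≫ y.1.φ) (sA ≫ x.1.φ) g hg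
  have lτ : (AlgSt.QuotObj.forget K G aX).IsHomLift (𝟙 T) τ.inv := isHomLift_of_base _ _ rfl
  let e : x.1 ≅ y.1 := (asIso (trivTo x.1 sA)).symm ≪≫ τ.symm ≪≫ asIso (trivTo y.1 sB)
  refine ⟨fiberIsoMk x y e ?_⟩
  change (AlgSt.QuotObj.forget K G aX).IsHomLift (𝟙 T)
    (inv (trivTo x.1 sA) ≫ τ.inv ≫ trivTo y.1 sB)
  have l2 : (AlgSt.QuotObj.forget K G aX).IsHomLift (𝟙 T) (τ.inv ≫ trivTo y.1 sB) :=
    IsHomLift.comp_of_lift_id _ _ _ _
  exact IsHomLift.comp_of_lift_id _ _ _ _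

end Fib

section Coarse

variable {S : Scheme.{u}} {G : Over S} [GrpObj G] {X Y : Over S} {aX : AlgGrp.Action G X}
  (f : X ⟶ Y) (π : AlgSt.QuotSt Scheme.fppfPrecoverage G aX ⥤ᵇ AlgSt.ofSch Y)
  (hπ : Nonempty (BasedFunctor.comp (AlgSt.quotMap Scheme.fppfPrecoverage G aX) π ≅
    AlgSt.ofSpMap ((AlgSp.yon S).map f)))

include hπ in
theorem fibSec_eq {T : Over S} (x : (AlgSt.QuotSt Scheme.fppfPrecoverage G aX).p.Fiber T)
    (s : T ⟶ x.1.P) (hs : s ≫ x.1.π = eqToHom x.2.symm) :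
    AlgSt.fibSec π x = fx ((AlgSp.yon S).map f) (s ≫ x.1.φ) := by
  have h1 := pshSec_map π (trivTo x.1 s)
  rw [pshSec_triv_of_iso π _ hπ] at h1
  have h2 : (AlgSt.QuotSt Scheme.fppfPrecoverage G aX).p.map (trivTo x.1 s) = eqToHom x.2.symm :=
    hs
  rw [h2] at h1
  unfold pshSec at h1
  rw [psh_map_op_map_op, eqToHom_trans] at h1
  exact h1

include hπ in
theorem geomPtBij_of_orbits
    (horb : ∀ (Ω : Type u) [Field Ω] [IsAlgClosed Ω] (t : Spec (CommRingCat.of Ω) ⟶ S),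
      (∀ y : Over.mk t ⟶ Y, ∃ x : Over.mk t ⟶ X, x ≫ f = y) ∧
      (∀ x x' : Over.mk t ⟶ X, x ≫ f = x' ≫ f → ∃ g : Over.mk t ⟶ G, lift g x' ≫ aX.act = x)) :
    AlgSt.GeomPtBij π := by
  intro Ω _ _ t
  constructor
  · intro m
    obtain ⟨x₀, hx₀⟩ := (horb Ω t).1 m.down
    let x : (AlgSt.QuotSt Scheme.fppfPrecoverage G aX).p.Fiber (Over.mk t) :=
      ⟨triv Scheme.fppfPrecoverage aX x₀, rfl⟩
    refine ⟨x, ?_⟩
    have h1 := fibSec_eq f π hπ x (unitSec _) (unitSec_snd _)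
    rw [h1]
    have h2 : unitSec (Over.mk t) ≫ (triv Scheme.fppfPrecoverage aX x₀).φ = x₀ :=
      unitSec_whiskerLeft_act aX x₀
    change fx ((AlgSp.yon S).map f) (unitSec (Over.mk t) ≫ (triv Scheme.fppfPrecoverage aX x₀).φ) = m
    rw [h2]
    apply ULift.ext
    exact hx₀
  · intro x y hxy
    obtain ⟨sA, hsA⟩ := exists_section_algClosed lftCov_fppf x.1 Ω t x.2
    obtain ⟨sB, hsB⟩ := exists_section_algClosed lftCov_fppf y.1 Ω t y.2
    rw [fibSec_eq f π hπ x sA hsA, fibSec_eq f π hπ y sB hsB] at hxy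
    have h3 : (sA ≫ x.1.φ) ≫ f = (sB ≫ y.1.φ) ≫ f := congrArg ULift.down hxy
    obtain ⟨g, hg⟩ := (horb Ω t).2 _ _ h3
    exact (fiber_iso_of_act_eq y x sB hsB sA hsA g hg).map Iso.symm

include hπ in
theorem isCoarseModuli_of_orbits
    (horb : ∀ (Ω : Type u) [Field Ω] [IsAlgClosed Ω] (t : Spec (CommRingCat.of Ω) ⟶ S),
      (∀ y : Over.mk t ⟶ Y, ∃ x : Over.mk t ⟶ X, x ≫ f = y) ∧
      (∀ x x' : Over.mk t ⟶ X, x ≫ f = x' ≫ f → ∃ g : Over.mk t ⟶ G, lift g x' ≫ aX.act = x))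
    (hcat : ∀ (N : AlgSp.Space S) (ψ : (AlgSp.yon S).obj X ⟶ N.obj),
      (AlgSp.yon S).map aX.act ≫ ψ = (AlgSp.yon S).map (snd G X) ≫ ψ →
        ∃! χ : (AlgSp.yon S).obj Y ⟶ N.obj, (AlgSp.yon S).map f ≫ χ = ψ) :
    AlgSt.IsCoarseModuli π := by
  refine ⟨⟨AlgSp.IsAlgSpace.yon_obj Y, fun N hN φ => ?_⟩, geomPtBij_of_orbits f π hπ horb⟩
  let ψ' : (AlgSp.yon S).obj X ⟶ N := ObjectProperty.homMk
    (pshMapOf (BasedFunctor.comp (AlgSt.quotMap Scheme.fppfPrecoverage G aX) φ))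
  have hψ'iso : Nonempty (BasedFunctor.comp (AlgSt.quotMap Scheme.fppfPrecoverage G aX) φ ≅
      AlgSt.ofSpMap ψ') := ⟨(ofPshMapIso _).symm⟩
  have hψ'inv := invariant_of_iso φ ψ' hψ'iso
  obtain ⟨χ, hχ, hχuniq⟩ := hcat ⟨N, hN⟩ ψ' hψ'inv
  have hχ' : (AlgSp.yon S).map f ≫ χ = ψ' := hχ
  refine ⟨χ, ?_, fun g' hg' => ?_⟩
  · apply iso_of_iso_on_quotMap _ _ ψ' ?_ hψ'iso
    obtain ⟨e1⟩ := comp_iso f π hπ χ
    rw [hχ'] at e1
    exact ⟨e1⟩
  · apply hχuniq
    apply ofSpMap_eq_of_iso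
    obtain ⟨e1⟩ := comp_iso f π hπ g'
    obtain ⟨e2⟩ := hg'
    obtain ⟨e3⟩ := hψ'iso
    exact ⟨e1.symm ≪≫ whiskerLeftIso (AlgSt.quotMap Scheme.fppfPrecoverage G aX) e2 ≪≫ e3⟩

end Coarse

end Groth.Agent.Lib.Helper8QuotSt
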