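-- helper8: quotient stacks [X/G]: points over an algebraically closed field are orbits.
import Mathlib
import Groth.Agent.Lib.Helper8QuotSt7

set_option autoImplicit false
set_option backward.isDefEq.respectTransparency false
set_option backward.isDefEq.respectTransparency.types false
set_option linter.unusedSimpArgs false
set_option linter.unusedVariables false
set_option linter.unusedSectionVars false
open CategoryTheory CategoryTheory.Limits MonoidalCategory CartesianMonoidalCategory MonObj GrpObj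
  AlgebraicGeometry Opposite

universe u

namespace Groth.Agent.Lib.Helper8QuotSt

theorem lftCov_etale : LftCov Scheme.etalePrecoverage := by
  intro T R hR
  refine ⟨hR.1, fun V v hv => ?_⟩
  have h1 : Etale v := hR.2 hv
  infer_instance

section Orb

variable {S : Scheme.{u}} {K : Precoverage Scheme.{u}} [K.HasIsos] {G : Over S} [GrpObj G]
  {X : Over S} {aX : AlgGrp.Action G X}

/-- Isomorphic objects of a fibre with sections have `G`-translate points of `X`. -/
theorem exists_act_eq_of_fiber_iso {T : Over S} (x y : (AlgSt.QuotObj.forget K G aX).Fiber T)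
    (sA : T ⟶ x.1.P) (hsA : sA ≫ x.1.π = eqToHom x.2.symm) (sB : T ⟶ y.1.P)
    (hsB : sB ≫ y.1.π = eqToHom y.2.symm) (e : x ≅ y) :
    ∃ g : T ⟶ G, lift g (sA ≫ x.1.φ) ≫ aX.act = sB ≫ y.1.φ := by
  let m : x.1 ⟶ y.1 := e.hom.1
  have hm : (AlgSt.QuotObj.forget K G aX).IsHomLift (𝟙 T) m := e.hom.2
  have hmb : m.base = eqToHom x.2 ≫ 𝟙 T ≫ eqToHom y.2.symm :=
    IsHomLift.fac' (AlgSt.QuotObj.forget K G aX) (𝟙 T) m
  let s' : T ⟶ y.1.P := sA ≫ m.top
  have hs' : s' ≫ y.1.π = sB ≫ y.1.π := by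
    rw [hsB, Category.assoc, m.cart.w, ← Category.assoc, hsA, hmb]
    simp
  let w : T ⟶ G ⊗ y.1.P := y.1.cart.lift s' sB hs'
  have hw1 : w ≫ y.1.act.act = s' := y.1.cart.lift_fst _ _ _
  have hw2 : w ≫ snd G y.1.P = sB := y.1.cart.lift_snd _ _ _
  let g₀ : T ⟶ G := w ≫ fst G y.1.P
  have h1 : lift g₀ (sB ≫ y.1.φ) ≫ aX.act = sA ≫ x.1.φ := by
    have e1 : lift g₀ (sB ≫ y.1.φ) = w ≫ (G ◁ y.1.φ) := by
      apply CartesianMonoidalCategory.hom_ext
      · simp only [Category.assoc, lift_fst, whiskerLeft_fst, g₀]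
      · simp only [Category.assoc, lift_snd, whiskerLeft_snd]
        rw [← Category.assoc, hw2]
    rw [e1, Category.assoc, ← y.1.eqv, ← Category.assoc, hw1, Category.assoc, m.wφ]
  exact ⟨g₀⁻¹, act_inv_eq g₀ _ _ h1⟩

end Orb

end Groth.Agent.Lib.Helper8QuotSt
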