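import Mathlib
import Groth.Prelude

set_option autoImplicit false

/-!
# Skew-hermitian rank two forms become standard after adjoining a square root

For a skew-hermitian matrix `h = (a b; -σ b  d)` the vector `x = (2 g b, -a (2 N + X))` with
`N = b σ(b)`, `X² = 4 N² + 4 N a d`, `g = 2 N + a d + X` is isotropic, and `H(x, e₂) = g X`.
-/

universe u v w

open scoped TensorProduct

namespace Groth.Agent.Lib.Helper8RInvSqrt

section Core

variable {R F : Type*} [CommRing R] [FunLike F R R] [RingHomClass F R R]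

theorem gram_apply (σ : F) (v hm : Matrix (Fin 2) (Fin 2) R) (i j : Fin 2) :
    ((v.map σ).transpose * hm * v) i j =
      σ (v 0 i) * (hm 0 0 * v 0 j + hm 0 1 * v 1 j) +
        σ (v 1 i) * (hm 1 0 * v 0 j + hm 1 1 * v 1 j) := by
  simp only [Matrix.mul_apply, Fin.sum_univ_two, Matrix.transpose_apply, Matrix.map_apply]
  ring

theorem core (σ : F) (a b bb c d X g U half : R)
    (hσa : σ a = -a) (hσd : σ d = -d) (hσb : σ b = bb) (hσbb : σ bb = b) (hc : c = -bb)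
    (hσX : σ X = X) (hσU : σ U = U) (hσhalf : σ half = half)
    (hhalf : 2 * half = 1)
    (hX : X ^ 2 = 4 * (b * bb) ^ 2 + 4 * (b * bb) * a * d)
    (hg : g = 2 * (b * bb) + a * d + X) (hU : g * X * U = 1) :
    ∃ v : Matrix (Fin 2) (Fin 2) R, IsUnit v ∧
      (v.map σ).transpose * !![a, b; c, d] * v = !![0, 1; -1, 0] := by
  subst hg hc
  obtain ⟨x0, hx0⟩ : ∃ x0 : R, x0 = 2 * (2 * (b * bb) + a * d + X) * b := ⟨_, rfl⟩
  obtain ⟨x1, hx1⟩ : ∃ x1 : R, x1 = -a * (2 * (b * bb) + X) := ⟨_, rfl⟩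
  obtain ⟨ν, hν⟩ : ∃ ν : R, ν = half * U ^ 2 * d := ⟨_, rfl⟩
  have sx0 : σ x0 = 2 * (2 * (b * bb) + a * d + X) * bb := by
    rw [hx0]
    simp only [map_mul, map_add, map_ofNat, hσa, hσd, hσb, hσbb, hσX]
    ring
  have sx1 : σ x1 = a * (2 * (b * bb) + X) := by
    rw [hx1]
    simp only [map_mul, map_add, map_neg, map_ofNat, hσa, hσb, hσbb, hσX]
    ring
  have sν : σ ν = -ν := by
    rw [hν]
    simp only [map_mul, map_pow, hσhalf, hσU, hσd]
    ring
  have e00 : ((!![x0, ν * x0; x1, U + ν * x1].map σ).transpose * !![a, b; -bb, d] *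
      !![x0, ν * x0; x1, U + ν * x1]) 0 0 = 0 := by
    rw [gram_apply]
    show σ x0 * (a * x0 + b * x1) + σ x1 * (-bb * x0 + d * x1) = 0
    rw [sx0, sx1, hx0, hx1]
    linear_combination (-(a ^ 2 * d)) * hX
  have e01 : ((!![x0, ν * x0; x1, U + ν * x1].map σ).transpose * !![a, b; -bb, d] *
      !![x0, ν * x0; x1, U + ν * x1]) 0 1 = 1 := by
    rw [gram_apply]
    show σ x0 * (a * (ν * x0) + b * (U + ν * x1)) +
      σ x1 * (-bb * (ν * x0) + d * (U + ν * x1)) = 1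
    rw [sx0, sx1, hx0, hx1]
    linear_combination hU - (ν * a ^ 2 * d + U) * hX
  have e10 : ((!![x0, ν * x0; x1, U + ν * x1].map σ).transpose * !![a, b; -bb, d] *
      !![x0, ν * x0; x1, U + ν * x1]) 1 0 = -1 := by
    rw [gram_apply]
    show σ (ν * x0) * (a * x0 + b * x1) + σ (U + ν * x1) * (-bb * x0 + d * x1) = -1
    rw [map_mul, map_add, map_mul, sν, sx0, sx1, hσU, hx0, hx1]
    linear_combination (-1 : R) * hU + (ν * a ^ 2 * d + U) * hX
  have e11 : ((!![x0, ν * x0; x1, U + ν * x1].map σ).transpose * !![a, b; -bb, d] *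
      !![x0, ν * x0; x1, U + ν * x1]) 1 1 = 0 := by
    rw [gram_apply]
    show σ (ν * x0) * (a * (ν * x0) + b * (U + ν * x1)) +
      σ (U + ν * x1) * (-bb * (ν * x0) + d * (U + ν * x1)) = 0
    rw [map_mul, map_add, map_mul, sν, sx0, sx1, hσU, hx0, hx1, hν]
    linear_combination ((half * U ^ 2 * d) ^ 2 * a ^ 2 * d + U ^ 3 * d) * hX - (U ^ 2 * d) * hU -
      (U ^ 3 * d * (2 * (2 * (b * bb) + a * d + X) * (b * bb) + a * d * (2 * (b * bb) + X))) * hhalf
  have hv : (!![x0, ν * x0; x1, U + ν * x1].map σ).transpose * !![a, b; -bb, d] *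
      !![x0, ν * x0; x1, U + ν * x1] = !![0, 1; -1, 0] := by
    ext i j
    fin_cases i <;> fin_cases j
    · exact e00
    · exact e01
    · exact e10
    · exact e11
  refine ⟨!![x0, ν * x0; x1, U + ν * x1], ?_, hv⟩
  have hdet := congrArg Matrix.det hv
  rw [Matrix.det_mul, Matrix.det_mul] at hdet
  have h1 : (!![0, 1; -1, 0] : Matrix (Fin 2) (Fin 2) R).det = 1 := by
    simp [Matrix.det_fin_two]
  rw [h1] at hdet
  have h2 : IsUnit (!![x0, ν * x0; x1, U + ν * x1] : Matrix (Fin 2) (Fin 2) R).det :=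
    IsUnit.of_mul_eq_one (((!![x0, ν * x0; x1, U + ν * x1] : Matrix (Fin 2) (Fin 2) R).map
      σ).transpose.det * (!![a, b; -bb, d] : Matrix (Fin 2) (Fin 2) R).det)
      (by rw [mul_comm]; exact hdet)
  exact (Matrix.isUnit_iff_isUnit_det _).mpr h2

end Core

section Units

theorem isUnit_of_sub_mem_jacobson {A : Type*} [CommRing A] {z u : A} (hu : IsUnit u)
    (hz : z - u ∈ Ring.jacobson A) : IsUnit z := by
  obtain ⟨u', hu'⟩ := hu.exists_right_inv
  have h1 : z * u' - 1 ∈ Ring.jacobson A := by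
    have h2 : z * u' - 1 = (z - u) * u' := by linear_combination hu'
    rw [h2]
    exact Ideal.mul_mem_right _ _ hz
  rw [← Ideal.jacobson_bot] at h1
  exact isUnit_of_mul_isUnit_left (Ideal.isUnit_of_sub_one_mem_jacobson_bot _ h1)

theorem isUnit_of_isUnit_map {B : Type u} {A : Type v} [CommRing B] [CommRing A] [Algebra B A]
    (lam : A ≃ₐ[B] A) (hB : RInv.IsFixedRing B A lam.toRingEquiv) (z : B)
    (hz : IsUnit (algebraMap B A z)) : IsUnit z := by
  obtain ⟨w, hw⟩ := hz.exists_right_inv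
  have h1 : algebraMap B A z * lam w = 1 := by
    have h2 := congrArg lam hw
    rwa [map_mul, lam.commutes, map_one] at h2
  have hlw : lam w = w := by
    calc lam w = lam w * (algebraMap B A z * w) := by rw [hw, mul_one]
      _ = (algebraMap B A z * lam w) * w := by ring
      _ = w := by rw [h1, one_mul]
  obtain ⟨w₀, hw₀⟩ := (hB.2 w).mp hlw
  refine isUnit_iff_exists_inv.mpr ⟨w₀, hB.1 ?_⟩
  rw [map_mul, hw₀, hw, map_one]

end Units

section Loc

theorem loc {B : Type u} {B' : Type w} [CommRing B] [CommRing B'] [Algebra B B'] (s₀ T₀ : B)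
    (hs₀ : IsUnit s₀) (f₀ ξ' : B') (hξ' : ξ' ^ 2 = algebraMap B B' s₀)
    (hf₀ : f₀ = algebraMap B B' T₀ + ξ') :
    ∃ XL UL : Localization.Away f₀, XL ^ 2 = algebraMap B (Localization.Away f₀) s₀ ∧
      (algebraMap B (Localization.Away f₀) T₀ + XL) * XL * UL = 1 := by
  obtain ⟨gi, hgi⟩ :=
    (IsLocalization.Away.algebraMap_isUnit (S := Localization.Away f₀) f₀).exists_right_inv
  obtain ⟨si, hsi⟩ := (hs₀.map (algebraMap B (Localization.Away f₀))).exists_right_inv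
  have hX : (algebraMap B' (Localization.Away f₀) ξ') ^ 2 =
      algebraMap B (Localization.Away f₀) s₀ := by
    rw [← map_pow, hξ', ← IsScalarTower.algebraMap_apply]
  have hg : algebraMap B (Localization.Away f₀) T₀ + algebraMap B' (Localization.Away f₀) ξ' =
      algebraMap B' (Localization.Away f₀) f₀ := by
    rw [hf₀, map_add, ← IsScalarTower.algebraMap_apply]
  refine ⟨algebraMap B' _ ξ', gi * algebraMap B' _ ξ' * si, hX, ?_⟩
  rw [hg]
  rw [← hX] at hsi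
  linear_combination ((algebraMap B' (Localization.Away f₀) ξ') ^ 2 * si) * hgi + hsi

theorem main_aux {B : Type u} [CommRing B] (s t : Bˣ) (T₀ : B) (hT : IsUnit (2 * T₀)) :
    ∃ (r : ℕ) (f : Fin r → (MvPolynomial (Fin 2) B ⧸ Ideal.span
      ({MvPolynomial.X 0 ^ 2 - MvPolynomial.C (s : B),
        MvPolynomial.X 1 ^ 2 - MvPolynomial.C (t : B)} : Set (MvPolynomial (Fin 2) B)))),
      Ideal.span (Set.range f) = ⊤ ∧
      ∀ i : Fin r, ∃ XL UL : Localization.Away (f i),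
        XL ^ 2 = algebraMap B (Localization.Away (f i)) (s : B) ∧
        (algebraMap B (Localization.Away (f i)) T₀ + XL) * XL * UL = 1 := by
  have hξ : (Ideal.Quotient.mk (Ideal.span
      ({MvPolynomial.X 0 ^ 2 - MvPolynomial.C (s : B),
        MvPolynomial.X 1 ^ 2 - MvPolynomial.C (t : B)} : Set (MvPolynomial (Fin 2) B)))
      (MvPolynomial.X 0)) ^ 2 = algebraMap B _ (s : B) := by
    rw [← map_pow]
    exact Ideal.Quotient.eq.mpr (Ideal.subset_span (Set.mem_insert _ _))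
  refine ⟨2, ![algebraMap B _ T₀ + Ideal.Quotient.mk _ (MvPolynomial.X 0),
    algebraMap B _ T₀ - Ideal.Quotient.mk _ (MvPolynomial.X 0)], ?_, ?_⟩
  · refine Ideal.eq_top_of_isUnit_mem _ (x := algebraMap B _ (2 * T₀)) ?_ (hT.map _)
    have h1 : algebraMap B (MvPolynomial (Fin 2) B ⧸ Ideal.span
        ({MvPolynomial.X 0 ^ 2 - MvPolynomial.C (s : B),
          MvPolynomial.X 1 ^ 2 - MvPolynomial.C (t : B)} : Set (MvPolynomial (Fin 2) B)))
        (2 * T₀) =
        (algebraMap B _ T₀ + Ideal.Quotient.mk _ (MvPolynomial.X 0)) +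
          (algebraMap B _ T₀ - Ideal.Quotient.mk _ (MvPolynomial.X 0)) := by
      rw [map_mul, map_ofNat]
      ring
    rw [h1]
    exact Ideal.add_mem _ (Ideal.subset_span ⟨0, rfl⟩) (Ideal.subset_span ⟨1, rfl⟩)
  · refine Fin.forall_fin_two.mpr ⟨?_, ?_⟩
    · exact loc (s : B) T₀ s.isUnit _ (Ideal.Quotient.mk _ (MvPolynomial.X 0)) hξ rfl
    · exact loc (s : B) T₀ s.isUnit _ (-Ideal.Quotient.mk _ (MvPolynomial.X 0))
        ((neg_sq _).trans hξ) (sub_eq_add_neg _ _)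

end Loc

section Mid

variable {B : Type u} {A : Type v} {L : Type w} [CommRing B] [CommRing A] [CommRing L]
  [Algebra B A] [Algebra B L]

theorem mid (lam : A ≃ₐ[B] A) (hlam : ∀ a, lam (lam a) = a)
    (h : Matrix (Fin 2) (Fin 2) A) (herm : -(h.map lam).transpose = h)
    (N₀ Q₀ halfB : B) (hN₀ : algebraMap B A N₀ = h 0 1 * lam (h 0 1))
    (hQ₀ : algebraMap B A Q₀ = h 0 0 * h 1 1) (hhalf : 2 * halfB = 1)
    (XL UL : L) (hXL : XL ^ 2 = algebraMap B L (4 * N₀ ^ 2 + 4 * N₀ * Q₀))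
    (hUL : (algebraMap B L (2 * N₀ + Q₀) + XL) * XL * UL = 1) :
    ∃ v : Matrix (Fin 2) (Fin 2) (L ⊗[B] A), IsUnit v ∧
      (v.map (Algebra.TensorProduct.congr (AlgEquiv.refl : L ≃ₐ[L] L) lam)).transpose *
        h.map (Algebra.TensorProduct.includeRight : A →ₐ[B] L ⊗[B] A) * v =
      (Matrix.of ![![(0 : A), 1], ![-1, 0]]).map
        (Algebra.TensorProduct.includeRight : A →ₐ[B] L ⊗[B] A) := by
  have hσA : ∀ x : A, (Algebra.TensorProduct.congr (AlgEquiv.refl : L ≃ₐ[L] L) lam)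
      ((Algebra.TensorProduct.includeRight : A →ₐ[B] L ⊗[B] A) x) =
      (Algebra.TensorProduct.includeRight : A →ₐ[B] L ⊗[B] A) (lam x) := fun x => by simp
  have hσL : ∀ l : L, (Algebra.TensorProduct.congr (AlgEquiv.refl : L ≃ₐ[L] L) lam)
      ((Algebra.TensorProduct.includeLeft : L →ₐ[B] L ⊗[B] A) l) =
      (Algebra.TensorProduct.includeLeft : L →ₐ[B] L ⊗[B] A) l := fun l => by simp
  have hBA : ∀ z : B, (Algebra.TensorProduct.includeRight : A →ₐ[B] L ⊗[B] A)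
      (algebraMap B A z) = (Algebra.TensorProduct.includeLeft : L →ₐ[B] L ⊗[B] A)
        (algebraMap B L z) := fun z => by
    rw [AlgHom.commutes, AlgHom.commutes]
  obtain ⟨σ, hσ⟩ : ∃ σ : L ⊗[B] A ≃ₐ[L] L ⊗[B] A,
      σ = Algebra.TensorProduct.congr (AlgEquiv.refl : L ≃ₐ[L] L) lam := ⟨_, rfl⟩
  obtain ⟨ιA, hιA⟩ : ∃ ιA : A →ₐ[B] L ⊗[B] A, ιA = Algebra.TensorProduct.includeRight :=
    ⟨_, rfl⟩
  obtain ⟨ιL, hιL⟩ : ∃ ιL : L →ₐ[B] L ⊗[B] A, ιL = Algebra.TensorProduct.includeLeft :=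
    ⟨_, rfl⟩
  rw [← hσ, ← hιA]
  rw [← hσ, ← hιA] at hσA
  rw [← hσ, ← hιL] at hσL
  rw [← hιA, ← hιL] at hBA
  have e00 : lam (h 0 0) = -h 0 0 := by
    have h1 := congrFun (congrFun herm 0) 0
    simp only [Matrix.neg_apply, Matrix.transpose_apply, Matrix.map_apply] at h1
    linear_combination (-1 : A) * h1
  have e11 : lam (h 1 1) = -h 1 1 := by
    have h1 := congrFun (congrFun herm 1) 1
    simp only [Matrix.neg_apply, Matrix.transpose_apply, Matrix.map_apply] at h1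
    linear_combination (-1 : A) * h1
  have e10 : h 1 0 = -lam (h 0 1) := by
    have h1 := congrFun (congrFun herm 1) 0
    simp only [Matrix.neg_apply, Matrix.transpose_apply, Matrix.map_apply] at h1
    exact h1.symm
  have hs : algebraMap B A (4 * N₀ ^ 2 + 4 * N₀ * Q₀) =
      4 * (h 0 1 * lam (h 0 1)) ^ 2 + 4 * (h 0 1 * lam (h 0 1)) * h 0 0 * h 1 1 := by
    simp only [map_add, map_mul, map_pow, map_ofNat, hN₀, hQ₀]
    ring
  have hT : algebraMap B A (2 * N₀ + Q₀) = 2 * (h 0 1 * lam (h 0 1)) + h 0 0 * h 1 1 := by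
    simp only [map_add, map_mul, map_ofNat, hN₀, hQ₀]
  have hX' : (ιL XL) ^ 2 = 4 * (ιA (h 0 1) * ιA (lam (h 0 1))) ^ 2 +
      4 * (ιA (h 0 1) * ιA (lam (h 0 1))) * ιA (h 0 0) * ιA (h 1 1) := by
    rw [← map_pow ιL XL 2, hXL, ← hBA, hs]
    simp only [map_add, map_mul, map_pow, map_ofNat]
  have hg' : ιL (algebraMap B L (2 * N₀ + Q₀) + XL) =
      2 * (ιA (h 0 1) * ιA (lam (h 0 1))) + ιA (h 0 0) * ιA (h 1 1) + ιL XL := by
    rw [map_add, ← hBA, hT]
    simp only [map_add, map_mul, map_ofNat]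
  have hhalf' : 2 * ιL (algebraMap B L halfB) = 1 := by
    have h1 : ιL (algebraMap B L (2 * halfB)) = 1 := by rw [hhalf, map_one, map_one]
    rw [map_mul, map_mul, map_ofNat, map_ofNat] at h1
    exact h1
  have hU' : ιL (algebraMap B L (2 * N₀ + Q₀) + XL) * ιL XL * ιL UL = 1 := by
    rw [← map_mul, ← map_mul, hUL, map_one]
  obtain ⟨v, hvu, hv⟩ := core σ (ιA (h 0 0)) (ιA (h 0 1)) (ιA (lam (h 0 1))) (ιA (h 1 0))
    (ιA (h 1 1)) (ιL XL) (ιL (algebraMap B L (2 * N₀ + Q₀) + XL)) (ιL UL)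
    (ιL (algebraMap B L halfB))
    (by rw [hσA, e00, map_neg]) (by rw [hσA, e11, map_neg]) (hσA _) (by rw [hσA, hlam])
    (by rw [e10, map_neg]) (hσL _) (hσL _) (hσL _) hhalf' hX' hg' hU'
  refine ⟨v, hvu, ?_⟩
  have hm : h.map ιA = !![ιA (h 0 0), ιA (h 0 1); ιA (h 1 0), ιA (h 1 1)] := by
    ext i j
    fin_cases i <;> fin_cases j <;> rfl
  have hm' : (Matrix.of ![![(0 : A), 1], ![-1, 0]]).map ιA = !![0, 1; -1, 0] := by
    ext i j
    fin_cases i <;> fin_cases j <;> simp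
  rw [hm, hm']
  exact hv

end Mid

section Main

theorem main (B : Type u) (A : Type v) [CommRing B] [CommRing A]
    [Algebra B A] (lam : A ≃ₐ[B] A) (hlam : ∀ a, lam (lam a) = a)
    (hB : RInv.IsFixedRing B A lam.toRingEquiv)
    [IsLocalRing B] (hid : ∀ a : A, lam a - a ∈ Ring.jacobson A) (h2 : IsUnit (2 : A))
    (h : Matrix (Fin 2) (Fin 2) A) (herm : -(h.map lam).transpose = h)
    (hJ : ∀ i j : Fin 2, h i j - Matrix.of ![![(0 : A), 1], ![-1, 0]] i j ∈ Ring.jacobson A) :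
    ∃ (s t : Bˣ) (r : ℕ) (f : Fin r → (MvPolynomial (Fin 2) B ⧸ Ideal.span ({MvPolynomial.X 0 ^ 2 - MvPolynomial.C (s : B), MvPolynomial.X 1 ^ 2 - MvPolynomial.C (t : B)} : Set (MvPolynomial (Fin 2) B)))),
      Ideal.span (Set.range f) = ⊤ ∧
      ∀ i : Fin r, ∃ v : Matrix (Fin 2) (Fin 2) (Localization.Away (f i) ⊗[B] A), IsUnit v ∧
        (v.map (Algebra.TensorProduct.congr (AlgEquiv.refl : Localization.Away (f i) ≃ₐ[Localization.Away (f i)] Localization.Away (f i)) lam)).transpose * h.map (Algebra.TensorProduct.includeRight : A →ₐ[B] Localization.Away (f i) ⊗[B] A) * v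
          = (Matrix.of ![![(0 : A), 1], ![-1, 0]]).map (Algebra.TensorProduct.includeRight : A →ₐ[B] Localization.Away (f i) ⊗[B] A) := by
  have e00 : lam (h 0 0) = -h 0 0 := by
    have h1 := congrFun (congrFun herm 0) 0
    simp only [Matrix.neg_apply, Matrix.transpose_apply, Matrix.map_apply] at h1
    linear_combination (-1 : A) * h1
  have e11 : lam (h 1 1) = -h 1 1 := by
    have h1 := congrFun (congrFun herm 1) 1
    simp only [Matrix.neg_apply, Matrix.transpose_apply, Matrix.map_apply] at h1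
    linear_combination (-1 : A) * h1
  have j00 : h 0 0 ∈ Ring.jacobson A := by simpa using hJ 0 0
  have j01 : h 0 1 - 1 ∈ Ring.jacobson A := by simpa using hJ 0 1
  obtain ⟨N₀, hN₀⟩ : ∃ N₀ : B, algebraMap B A N₀ = h 0 1 * lam (h 0 1) := (hB.2 _).mp (by
    show lam (h 0 1 * lam (h 0 1)) = h 0 1 * lam (h 0 1)
    rw [map_mul, hlam, mul_comm])
  obtain ⟨Q₀, hQ₀⟩ : ∃ Q₀ : B, algebraMap B A Q₀ = h 0 0 * h 1 1 := (hB.2 _).mp (by
    show lam (h 0 0 * h 1 1) = h 0 0 * h 1 1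
    rw [map_mul, e00, e11, neg_mul_neg])
  have hNJ : h 0 1 * lam (h 0 1) - 1 ∈ Ring.jacobson A := by
    have h1 : h 0 1 * lam (h 0 1) - 1 =
        h 0 1 * (lam (h 0 1) - h 0 1) + (h 0 1 + 1) * (h 0 1 - 1) := by ring
    rw [h1]
    exact Ideal.add_mem _ (Ideal.mul_mem_left _ _ (hid _)) (Ideal.mul_mem_left _ _ j01)
  have h4 : IsUnit (4 : A) := by
    have h1 : (4 : A) = 2 * 2 := by norm_num
    rw [h1]
    exact h2.mul h2
  have hsA : IsUnit (algebraMap B A (4 * N₀ ^ 2 + 4 * N₀ * Q₀)) := by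
    refine isUnit_of_sub_mem_jacobson h4 ?_
    have h1 : algebraMap B A (4 * N₀ ^ 2 + 4 * N₀ * Q₀) - 4 =
        (4 * (h 0 1 * lam (h 0 1) + 1)) * (h 0 1 * lam (h 0 1) - 1) +
          (4 * (h 0 1 * lam (h 0 1)) * h 1 1) * h 0 0 := by
      simp only [map_add, map_mul, map_pow, map_ofNat, hN₀, hQ₀]
      ring
    rw [h1]
    exact Ideal.add_mem _ (Ideal.mul_mem_left _ _ hNJ) (Ideal.mul_mem_left _ _ j00)
  have hTA : IsUnit (algebraMap B A (2 * (2 * N₀ + Q₀))) := by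
    refine isUnit_of_sub_mem_jacobson h4 ?_
    have h1 : algebraMap B A (2 * (2 * N₀ + Q₀)) - 4 =
        4 * (h 0 1 * lam (h 0 1) - 1) + (2 * h 1 1) * h 0 0 := by
      simp only [map_add, map_mul, map_ofNat, hN₀, hQ₀]
      ring
    rw [h1]
    exact Ideal.add_mem _ (Ideal.mul_mem_left _ _ hNJ) (Ideal.mul_mem_left _ _ j00)
  have hs₀ : IsUnit (4 * N₀ ^ 2 + 4 * N₀ * Q₀) := isUnit_of_isUnit_map lam hB _ hsA
  have hT₀ : IsUnit (2 * (2 * N₀ + Q₀)) := isUnit_of_isUnit_map lam hB _ hTA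
  have h2B : IsUnit (2 : B) := isUnit_of_isUnit_map lam hB 2 (by rw [map_ofNat]; exact h2)
  obtain ⟨halfB, hhalf⟩ := h2B.exists_right_inv
  obtain ⟨r, f, hf, hloc⟩ := main_aux hs₀.unit 1 (2 * N₀ + Q₀) hT₀
  refine ⟨hs₀.unit, 1, r, f, hf, fun i => ?_⟩
  obtain ⟨XL, UL, hXL, hUL⟩ := hloc i
  have hXL' : XL ^ 2 = algebraMap B (Localization.Away (f i)) (4 * N₀ ^ 2 + 4 * N₀ * Q₀) := hXL
  exact mid lam hlam h herm N₀ Q₀ halfB hN₀ hQ₀ hhalf XL UL hXL' hUL

end Main

end Groth.Agent.Lib.Helper8RInvSqrt
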