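import Mathlib
import Groth.Prelude.Def_RefPow
import Groth.Agent.Lib.Helper8RefGrp

/-!
# Reflexive powers of a rank one reflexive module: local generators (helper8)

* `isGen_app`, `isGen_bidual`: transport of sectionwise generators along morphisms bijective on
  sections, in particular along the biduality map of a coherent module;
* `isRef1_refPow`: the reflexive powers of a rank one coherent reflexive module are such;
* `exists_gen_refPow`: if `F` is generated by `e` over `N` and `s = π • e` there, then `F^[n]` is
  generated over `N` by some `e_n` with `s^n = π^n • e_n`;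
* `isGen_sv_isoLocus`, `isGen_sPow`: `s^n` generates `F^[n]` over the locus where `s` generates `F`.
-/

set_option autoImplicit false
set_option linter.style.haveILetI false
set_option linter.unusedSectionVars false
universe u

namespace Groth.Agent.Lib.Helper8RefPowA

open AlgebraicGeometry CategoryTheory TopologicalSpace Opposite RefHull RefPow
  Groth.Agent.Lib.R2H1.C1Comm Groth.Agent.Lib.R2H1.C1Tensor
  Groth.Agent.Lib.Helper23.SecTw Groth.Agent.Lib.Helper6 Groth.Agent.Lib.Helper23.GenLocus
  Groth.Agent.Lib.Helper23.Extend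
  Groth.Agent.Lib.Helper8RefOrd Groth.Agent.Lib.Helper8RefGrp

variable {X : Scheme.{u}}

/-- a morphism which is bijective on the stalks at the points of `V` is bijective on `V`. -/
theorem bijective_app_of_stalk {F G : X.Modules} (φ : F ⟶ G) (V : X.Opens)
    (h : ∀ x ∈ V, Function.Bijective (stalkMapₗ φ x)) : Function.Bijective (φ.app V) :=
  TopCat.Presheaf.app_bijective_of_stalkFunctor_map_bijective
    (F := ⟨F.presheaf, F.isSheaf⟩) (G := ⟨G.presheaf, G.isSheaf⟩) ⟨φ.mapPresheaf⟩ V h

/-- transport of a sectionwise generator along a morphism bijective on sections. -/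
theorem isGen_app {M M' : X.Modules} (φ : M ⟶ M') (W : X.Opens) (e : Γ(M, W))
    (hφ : ∀ W' : X.Opens, W' ≤ W → Function.Bijective (φ.app W')) (he : IsGen M W e) :
    IsGen M' W (φ.app W e) := by
  intro W' hW'
  have h : (fun r : Γ(X, W') => r • res M' hW' (φ.app W e)) =
      ⇑(φ.app W') ∘ (fun r : Γ(X, W') => r • res M hW' e) := by
    funext r
    simp only [Function.comp]
    rw [Scheme.Modules.Hom.app_smul]
    congr 1
    exact (app_map φ (homOfLE hW') e).symm
  rw [h]
  exact (hφ W' hW').comp (he W' hW')

variable [IsIntegral X] [IsLocallyNoetherian X]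

/-- the biduality map of a coherent module sends a generator to a generator. -/
theorem isGen_bidual (M : X.Modules) (hM : Coh.IsCoh M) (W : X.Opens) (e : Γ(M, W))
    (he : IsGen M W e) : IsGen (RefHull.ddual M) W ((RefHull.bidualMap M).app W e) := by
  refine isGen_app (RefHull.bidualMap M) W e (fun W' hW' => ?_) he
  refine bijective_app_of_stalk _ W' (fun y hy => ?_)
  exact bijective_stalkMapₗ_bidualMap_of_gen M hM (genOfIsGen M W e he) y (hW' hy)

theorem isRef1_refPow (hX : Pi1.IsNormalScheme X) (F : X.Modules) (hF : RefHull.IsRef1 F) :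
    ∀ n : ℕ, RefHull.IsRef1 (refPow F n)
  | 0 => isRef1_structureModule
  | 1 => hF
  | n + 2 => isRef1_ddual_tensor hX _ F (isRef1_refPow hX F hF (n + 1)) hF

omit [IsIntegral X] [IsLocallyNoetherian X] in
theorem sv_comp {L L' : X.Modules} (a : Coh.structureModule X ⟶ L) (b : L ⟶ L') (N : X.Opens) :
    sv (a ≫ b) N = b.app N (sv a N) := rfl

omit [IsIntegral X] [IsLocallyNoetherian X] in
theorem sv_sPow_succ_succ {F : X.Modules} (s : Coh.structureModule X ⟶ F) (n : ℕ) (N : X.Opens) :
    sv (sPow s (n + 2)) N =
      (toRefTensor (refPow F (n + 1)) F).app N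
        (tm (refPow F (n + 1)) F N (sv (sPow s (n + 1)) N) (sv s N)) := by
  rw [sPow_succ, sv_comp, mulBy_succ_app]
  rfl

/-- local generators of the reflexive powers: if `e` generates `F` over `N` and `s = π • e`
there, then `F^[n]` is generated over `N` by a section `e_n` with `s^n = π^n • e_n`. -/
theorem exists_gen_refPow (hX : Pi1.IsNormalScheme X) (F : X.Modules) (hF : RefHull.IsRef1 F)
    (s : Coh.structureModule X ⟶ F) (N : X.Opens) (e : Γ(F, N)) (he : IsGen F N e)
    (π : Γ(X, N)) (hs : sv s N = π • e) (n : ℕ) :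
    ∃ e' : Γ(refPow F n, N), IsGen (refPow F n) N e' ∧ sv (sPow s n) N = π ^ n • e' := by
  have key : ∀ n : ℕ, ∃ e' : Γ(refPow F (n + 1), N), IsGen (refPow F (n + 1)) N e' ∧
      sv (sPow s (n + 1)) N = π ^ (n + 1) • e' := by
    intro n
    induction n with
    | zero =>
      refine ⟨e, he, ?_⟩
      change sv (sPow s 1) N = π ^ 1 • e
      rw [pow_one, sPow_one]
      exact hs
    | succ n ih =>
      obtain ⟨e', he', hse'⟩ := ih
      have hM : Coh.IsCoh (CohB1.tensorMod (refPow F (n + 1)) F) :=
        isCoh_tensorMod' (isRef1_refPow hX F hF (n + 1)).1 hF.1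
      refine ⟨(toRefTensor (refPow F (n + 1)) F).app N (tm (refPow F (n + 1)) F N e' e),
        isGen_bidual _ hM N _ (isGen_tm _ _ N e' e he' he), ?_⟩
      change sv (sPow s (n + 2)) N = _
      rw [sv_sPow_succ_succ, hse', hs, tm_smul_left, tm_smul_right, smul_smul,
        Scheme.Modules.Hom.app_smul, pow_succ (π) (n + 1)]
      rfl
  rcases n with _ | n
  · refine ⟨toS N 1, isGen_one N, ?_⟩
    rw [pow_zero, one_smul]
    rfl
  · exact key n

omit [IsIntegral X] [IsLocallyNoetherian X] in
/-- `s` generates `F` over the locus where its stalk maps are bijective. -/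
theorem isGen_sv_isoLocus {F : X.Modules} (s : Coh.structureModule X ⟶ F) (U : X.Opens)
    (hU : (U : Set X) = RefPow.isoLocus s) : IsGen F U (sv s U) := by
  intro W' hW'
  have h1 : Function.Bijective (s.app W') :=
    bijective_app_of_stalk s W' (fun x hx => by
      have hx' : x ∈ (U : Set X) := hW' hx
      rw [hU] at hx'
      exact hx')
  have hfun : (fun r : Γ(X, W') => r • res F hW' (sv s U)) = ⇑(s.app W') ∘ toS W' := by
    funext r
    rw [res_sv]
    exact (app_toS s W' r).symm
  rw [hfun]
  exact h1.comp ⟨fun a b h => h, fun b => ⟨b, rfl⟩⟩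

/-- `s^n` generates `F^[n]` over the locus where `s` generates `F`. -/
theorem isGen_sPow (hX : Pi1.IsNormalScheme X) (F : X.Modules) (hF : RefHull.IsRef1 F)
    (s : Coh.structureModule X ⟶ F) (U : X.Opens) (hU : (U : Set X) = RefPow.isoLocus s) (n : ℕ) :
    IsGen (refPow F n) U (sv (sPow s n) U) := by
  obtain ⟨e', he', hse'⟩ := exists_gen_refPow hX F hF s U (sv s U) (isGen_sv_isoLocus s U hU) 1
    (one_smul _ _).symm n
  rw [one_pow, one_smul] at hse'
  rw [hse']
  exact he'

end Groth.Agent.Lib.Helper8RefPowA
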