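import Mathlib
import Groth.Prelude.Def_RefPow
import Groth.Agent.Lib.Helper8RefPowA
import Groth.Agent.Lib.Helper8RefIso2
import Groth.Agent.Lib.Helper8WeilFin
import Groth.Agent.S16149

/-!
# Reflexive powers: extension of sections `b • s^n` across the zero locus of `s` (helper8)

* `exists_pow_mul_eq`: in a local domain of dimension at most one, a power of a non-unit clears
  any denominator;
* `exists_section_of_dim_le_one`: an element of the generic stalk of a coherent module with
  reflexive stalks which lies in the stalks at all points of dimension at most one of an open `W`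
  is the generic germ of a section over `W`;
* `local_bound`, `exists_extension`: for a function `b` on `W ∩ U`, `U` the locus where `s`
  generates `F`, the sections `b • s^n` of `F^[n]` extend to the affine open `W` for `n ≫ 0`.
-/

set_option autoImplicit false
set_option linter.style.haveILetI false
set_option linter.unusedSectionVars false
universe u

namespace Groth.Agent.Lib.Helper8RefPowB

open AlgebraicGeometry CategoryTheory TopologicalSpace Opposite RefHull RefPow IsLocalRing
  Groth.Agent.Lib.R2H1.C1Comm Groth.Agent.Lib.R2H1.C1Tensor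
  Groth.Agent.Lib.Helper23.SecTw Groth.Agent.Lib.Helper6 Groth.Agent.Lib.Helper23.GenLocus
  Groth.Agent.Lib.Helper23.Extend
  Groth.Agent.Lib.Helper8RefOrd Groth.Agent.Lib.Helper8RefGrp Groth.Agent.Lib.Helper8RefPowA
  Groth.Agent.Lib.R2LeadHartD

section Algebra

/-- in a local domain of dimension at most one, a high power of a non-unit clears the denominator
of any element of the fraction field. -/
theorem exists_pow_mul_eq (R K : Type*) [CommRing R] [IsDomain R] [IsLocalRing R] [Field K]
    [Algebra R K] [IsFractionRing R K] (hdim : ringKrullDim R ≤ 1) (p : R)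
    (hp : p ∈ maximalIdeal R) (z : K) :
    ∃ m : ℕ, ∀ n, m ≤ n → ∃ r : R, algebraMap R K r = (algebraMap R K p) ^ n * z := by
  obtain ⟨a, q, hq, rfl⟩ := IsFractionRing.div_surjective R z
  have hq0 : q ≠ 0 := nonZeroDivisors.ne_zero hq
  have hqK : algebraMap R K q ≠ 0 := by
    intro h
    exact hq0 ((IsFractionRing.injective R K) (h.trans (map_zero _).symm))
  haveI : Ring.KrullDimLE 1 R := Ring.krullDimLE_iff.2 (by exact_mod_cast hdim)
  have hmax : ∀ I : Ideal R, I ≠ ⊥ → I.IsPrime → I.IsMaximal :=
    Ring.krullDimLE_one_iff_of_isPrime_bot.1 inferInstance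
  have hrad : Ideal.span {p} ≤ (Ideal.span {q}).radical := by
    rw [Ideal.span_singleton_le_iff_mem, Ideal.radical_eq_sInf, Ideal.mem_sInf]
    rintro J ⟨hqJ, hJ⟩
    have hJ0 : J ≠ ⊥ := by
      intro h
      apply hq0
      have : q ∈ J := hqJ (Ideal.mem_span_singleton_self q)
      rw [h] at this
      exact this
    have := IsLocalRing.eq_maximalIdeal (hmax J hJ0 hJ)
    rw [this]
    exact hp
  obtain ⟨m, hm⟩ := Ideal.exists_pow_le_of_le_radical_of_fg hrad (Submodule.fg_span_singleton p)
  rw [Ideal.span_singleton_pow, Ideal.span_singleton_le_iff_mem, Ideal.mem_span_singleton'] at hm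
  obtain ⟨r₀, hr₀⟩ := hm
  refine ⟨m, fun n hn => ⟨p ^ (n - m) * r₀ * a, ?_⟩⟩
  have h1 : (algebraMap R K p) ^ n = (algebraMap R K p) ^ (n - m) * (algebraMap R K p) ^ m := by
    rw [← pow_add, Nat.sub_add_cancel hn]
  have h2 : (algebraMap R K p) ^ m = algebraMap R K r₀ * algebraMap R K q := by
    rw [← map_pow, ← hr₀, map_mul]
  rw [map_mul, map_mul, map_pow, h1, h2]
  field_simp

end Algebra

variable {X : Scheme.{u}} [IsIntegral X] [IsLocallyNoetherian X]

section Extend

variable (hX : Pi1.IsNormalScheme X) (E : X.Modules) (hE : Coh.IsCoh E)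
  (hrefl : ∀ x : X, Module.IsReflexive (X.presheaf.stalk x) (E.presheaf.stalk x))

include hX hE hrefl in
/-- an element of the generic stalk which comes from the stalks at all points of dimension at
most one of an open `U` is the generic germ of a section over `U`. -/
theorem exists_section_of_dim_le_one (U : X.Opens) (τ : E.presheaf.stalk (genericPoint X))
    (h : ∀ x ∈ U, ringKrullDim (X.presheaf.stalk x) ≤ 1 →
      ∃ σ : E.presheaf.stalk x, gen E x σ = τ) :
    ∃ s : Γ(E, U), ∀ (x : X) (hx : x ∈ U), gen E x (E.presheaf.germ U x hx s) = τ := by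
  haveI : E.IsQuasicoherent := hE.1
  have htf := torsionFree_of_reflexive_stalks hX E hrefl
  have hP : ∀ x ∈ U, ∃ σ : E.presheaf.stalk x, gen E x σ = τ := by
    have wf := InvImage.wf (fun x : X => ringKrullDim (X.presheaf.stalk x))
      (wellFounded_lt (α := WithBot ℕ∞))
    intro x
    refine wf.induction (C := fun x => x ∈ U → ∃ σ : E.presheaf.stalk x, gen E x σ = τ) x ?_
    intro x ih hxU
    by_cases hdim : ringKrullDim (X.presheaf.stalk x) ≤ 1
    · exact h x hxU hdim
    · apply mem_range_gen_of_generizations hX E hE hrefl x hdim τ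
      intro y hy hyne
      obtain ⟨z, rfl⟩ := Groth.Agent.Lib.Helper14.exists_fromSpecStalk_eq X x y hy
      have hzm : z.asIdeal ≠ maximalIdeal (X.presheaf.stalk x) := by
        intro hzm
        apply hyne
        have hz : z = closedPoint (X.presheaf.stalk x) := PrimeSpectrum.ext hzm
        rw [hz, Scheme.fromSpecStalk_closedPoint]
      haveI := z.2
      have hlt := ringKrullDim_fromSpecStalk_lt x z.asIdeal hzm
      exact ih _ hlt (hy.mem_open U.2 hxU)
  exact exists_section_of_forall_mem_range E htf U τ hP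

end Extend

section Local

/-- at a point `y` of dimension at most one where `s` does not generate `F`, any rational
multiple `z • s^n` of `s^n` lies in the stalk of `F^[n]` at `y` for `n ≫ 0`. -/
theorem local_bound (hX : Pi1.IsNormalScheme X) (F : X.Modules) (hF : RefHull.IsRef1 F)
    (s : Coh.structureModule X ⟶ F) (y : X) (hy : y ∉ RefPow.isoLocus s)
    (hdim : ringKrullDim (X.presheaf.stalk y) ≤ 1) (z : X.presheaf.stalk (genericPoint X)) :
    ∃ m : ℕ, ∀ n, m ≤ n → ∃ σ : (refPow F n).presheaf.stalk y,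
      gen (refPow F n) y σ =
        z • (refPow F n).presheaf.germ ⊤ (genericPoint X) trivial (sv (sPow s n) ⊤) := by
  obtain ⟨N, e, hyN, he⟩ := exists_isGen_of_dim_le_one hX F hF y hdim
  obtain ⟨π, hπ⟩ := (he N le_rfl).2 (sv s N)
  simp only [] at hπ
  rw [res_self] at hπ
  have hπm : X.presheaf.germ N y hyN π ∈ maximalIdeal (X.presheaf.stalk y) := by
    by_contra hnot
    have hu : IsUnit (X.presheaf.germ N y hyN π) := by
      rwa [mem_maximalIdeal, mem_nonunits_iff, not_not] at hnot
    apply hy
    rw [Groth.Agent.S16149.mem_isoLocus_iff]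
    have hb := (genOfIsGen F N e he).bij y hyN
    have hgerm : F.presheaf.germ ⊤ y trivial (s.app ⊤ (Groth.Agent.S16149.toO ⊤ 1)) =
        X.presheaf.germ N y hyN π • F.presheaf.germ N y hyN e := by
      have h0 : s.app ⊤ (Groth.Agent.S16149.toO ⊤ 1) = sv s ⊤ := rfl
      rw [h0, ← TopCat.Presheaf.germ_res_apply F.presheaf (homOfLE (le_top : N ≤ ⊤)) y hyN]
      have h1 : F.presheaf.map (homOfLE (le_top : N ≤ ⊤)).op (sv s ⊤) = sv s N := res_sv s le_top
      rw [h1, ← hπ, Groth.Agent.Lib.Helper2.QCoh.germ_smul]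
    unfold Groth.Agent.Lib.Helper20.RegMero.IsGen
    rw [hgerm]
    have hfun : (fun c : X.presheaf.stalk y =>
        c • (X.presheaf.germ N y hyN π • F.presheaf.germ N y hyN e)) =
        (fun c : X.presheaf.stalk y => c • F.presheaf.germ N y hyN e) ∘
          (fun c : X.presheaf.stalk y => c * X.presheaf.germ N y hyN π) := by
      funext c
      simp only [Function.comp, mul_smul]
    rw [hfun]
    exact hb.comp (IsUnit.isUnit_iff_mulRight_bijective.mp hu)
  obtain ⟨m, hm⟩ := exists_pow_mul_eq (X.presheaf.stalk y) X.functionField hdim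
    (X.presheaf.germ N y hyN π) hπm z
  refine ⟨m, fun n hn => ?_⟩
  obtain ⟨r, hr⟩ := hm n hn
  obtain ⟨e', he', hse'⟩ := exists_gen_refPow hX F hF s N e he π hπ.symm n
  refine ⟨r • (refPow F n).presheaf.germ N y hyN e', ?_⟩
  have hηN : genericPoint X ∈ N := (genericPoint_specializes y).mem_open N.2 hyN
  have h1 : (refPow F n).presheaf.germ ⊤ (genericPoint X) trivial (sv (sPow s n) ⊤) =
      (refPow F n).presheaf.germ N (genericPoint X) hηN (sv (sPow s n) N) := by
    rw [← res_sv (sPow s n) (le_top : N ≤ ⊤)]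
    exact (TopCat.Presheaf.germ_res_apply (refPow F n).presheaf (homOfLE (le_top : N ≤ ⊤))
      (genericPoint X) hηN _).symm
  have h2 : (X.presheaf.stalkSpecializes (genericPoint_specializes y)).hom
      (X.presheaf.germ N y hyN π) = X.presheaf.germ N (genericPoint X) hηN π :=
    TopCat.Presheaf.germ_stalkSpecializes_apply X.presheaf hyN (genericPoint_specializes y) π
  have hr' : (X.presheaf.stalkSpecializes (genericPoint_specializes y)).hom r =
      (X.presheaf.germ N (genericPoint X) hηN π) ^ n * z := by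
    rw [← h2]
    exact hr
  rw [Groth.Agent.Lib.R2H1.SecDiv.stalkSpecializes_smul (refPow F n)
    (genericPoint_specializes y), gen_germ, h1, hse', Groth.Agent.Lib.Helper2.QCoh.germ_smul,
    smul_smul, map_pow, hr', mul_comm]

end Local

section Extension

open Groth.Agent.Lib.Helper8RefIso2 Groth.Agent.Lib.Helper8WeilFin

/-- for a function `b` on `W ∩ U`, where `U` is the locus where `s` generates `F` and `W` is an
affine open, the sections `b • s^n` of `F^[n]` over `W ∩ U` extend to `W` for `n ≫ 0`. -/
theorem exists_extension (hX : Pi1.IsNormalScheme X) (F : X.Modules) (hF : RefHull.IsRef1 F)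
    (s : Coh.structureModule X ⟶ F) (U : X.Opens) (hU : (U : Set X) = RefPow.isoLocus s)
    (W : X.Opens) (hW : IsAffineOpen W) (hηU : genericPoint X ∈ U) (hηW : genericPoint X ∈ W)
    (b : Γ(X, W ⊓ U)) :
    ∃ n₀ : ℕ, ∀ n, n₀ ≤ n → ∃ t : Γ(refPow F n, W),
      res (refPow F n) (inf_le_left : W ⊓ U ≤ W) t = b • sv (sPow s n) (W ⊓ U) := by
  classical
  have hηV : genericPoint X ∈ W ⊓ U := ⟨hηW, hηU⟩
  set z := X.presheaf.germ (W ⊓ U) (genericPoint X) hηV b with hz
  let T : Set W := {v | v.1 ∉ U}
  have hT : IsClosed T := (U.isOpen.preimage continuous_subtype_val).isClosed_compl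
  have hfin := finite_coheight_one_of_isClosed W hW T hT (fun v hv h => hv (h ▸ hηU))
  have hloc : ∀ y : X, ∃ m : ℕ, y ∈ W → y ∉ U → ringKrullDim (X.presheaf.stalk y) ≤ 1 →
      ∀ n, m ≤ n → ∃ σ : (refPow F n).presheaf.stalk y, gen (refPow F n) y σ =
        z • (refPow F n).presheaf.germ ⊤ (genericPoint X) trivial (sv (sPow s n) ⊤) := by
    intro y
    by_cases h : y ∉ U ∧ ringKrullDim (X.presheaf.stalk y) ≤ 1
    · obtain ⟨m, hm⟩ := local_bound hX F hF s y (by rw [← hU]; exact h.1) h.2 z
      exact ⟨m, fun _ _ _ => hm⟩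
    · exact ⟨0, fun _ h1 h2 => absurd ⟨h1, h2⟩ h⟩
  choose m hm using hloc
  refine ⟨hfin.toFinset.sup m, fun n hn => ?_⟩
  have hR := isRef1_refPow hX F hF n
  have hrefl := fun x => Groth.Agent.Lib.R2LeadHartE.reflexive_stalks (refPow F n) hR.1 hR.2.1 x
  haveI : (refPow F n).IsQuasicoherent := hR.1.1
  have htf := torsionFree_of_reflexive_stalks hX (refPow F n) hrefl
  have hgerm : ∀ (O : X.Opens) (hηO : genericPoint X ∈ O),
      (refPow F n).presheaf.germ ⊤ (genericPoint X) trivial (sv (sPow s n) ⊤) =
        (refPow F n).presheaf.germ O (genericPoint X) hηO (sv (sPow s n) O) := by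
    intro O hηO
    rw [← res_sv (sPow s n) (le_top : O ≤ ⊤)]
    exact (TopCat.Presheaf.germ_res_apply (refPow F n).presheaf (homOfLE (le_top : O ≤ ⊤))
      (genericPoint X) hηO _).symm
  obtain ⟨t, ht⟩ := exists_section_of_dim_le_one hX (refPow F n) hR.1 hrefl W
    (z • (refPow F n).presheaf.germ ⊤ (genericPoint X) trivial (sv (sPow s n) ⊤)) (by
      intro x hxW hdim
      by_cases hxU : x ∈ U
      · refine ⟨(refPow F n).presheaf.germ (W ⊓ U) x ⟨hxW, hxU⟩ (b • sv (sPow s n) (W ⊓ U)), ?_⟩
        rw [gen_germ, Groth.Agent.Lib.Helper2.QCoh.germ_smul, hgerm (W ⊓ U) hηV]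
      · rcases coheight_cases x hdim with h0 | h1
        · exact absurd (eq_genericPoint_of_coheight_eq_zero x h0 ▸ hηU) hxU
        · have hxfin : x ∈ hfin.toFinset := by
            rw [Set.Finite.mem_toFinset]
            exact ⟨hxW, hxU, h1⟩
          exact hm x hxW hxU hdim n ((Finset.le_sup hxfin).trans hn))
  refine ⟨t, ?_⟩
  refine section_ext_gen (refPow F n) htf (W ⊓ U) _ _ (fun x hx => ?_)
  rw [TopCat.Presheaf.germ_res_apply, ht x hx.1, gen_germ,
    Groth.Agent.Lib.Helper2.QCoh.germ_smul, hgerm (W ⊓ U) hηV]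

end Extension

end Groth.Agent.Lib.Helper8RefPowB
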