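import Mathlib
import Groth.Prelude.Def_RefPow
import Groth.Agent.Lib.Helper8RefPowB

/-!
# Reflexive powers: affineness of the locus where a section generates, forward direction (helper8)

* `map_comap_eq_top`: if `V ⊆ W` are affine opens and `x ∈ W ∖ V`, the prime of `x` generates the
  unit ideal of `Γ(V)`;
* `forward`: if `U → X` is affine (`U` the locus where `s` generates the rank one reflexive `F`),
  then for every `x ∉ U` some power `s^n`, `n > 0`, has germ in `m_x F^[n]_x`.
-/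

set_option autoImplicit false
set_option linter.style.haveILetI false
set_option linter.unusedSectionVars false
universe u

namespace Groth.Agent.Lib.Helper8RefPowC

open AlgebraicGeometry CategoryTheory TopologicalSpace Opposite RefHull RefPow IsLocalRing
  Groth.Agent.Lib.R2H1.C1Comm Groth.Agent.Lib.R2H1.C1Tensor
  Groth.Agent.Lib.Helper23.SecTw Groth.Agent.Lib.Helper6 Groth.Agent.Lib.Helper23.GenLocus
  Groth.Agent.Lib.Helper23.Extend
  Groth.Agent.Lib.Helper8RefOrd Groth.Agent.Lib.Helper8RefGrp Groth.Agent.Lib.Helper8RefPowA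
  Groth.Agent.Lib.Helper8RefPowB Groth.Agent.Lib.R2LeadHartD

variable {X : Scheme.{u}}

section Affine

theorem mem_basicOpen_iff_notMem {U : X.Opens} (hU : IsAffineOpen U)
    {x : X} (hx : x ∈ U) (g : Γ(X, U)) :
    x ∈ X.basicOpen g ↔ g ∉ (hU.primeIdealOf ⟨x, hx⟩).asIdeal := by
  letI := TopCat.Presheaf.algebra_section_stalk X.presheaf ⟨x, hx⟩
  haveI := hU.isLocalization_stalk ⟨x, hx⟩
  rw [Scheme.mem_basicOpen _ _ _ hx]
  exact IsLocalization.AtPrime.isUnit_to_map_iff (X.presheaf.stalk x)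
    (hU.primeIdealOf ⟨x, hx⟩).asIdeal g

theorem fromSpec_mem' {U : X.Opens} (hU : IsAffineOpen U) (q : PrimeSpectrum Γ(X, U)) :
    hU.fromSpec q ∈ U := by
  have : hU.fromSpec q ∈ Set.range hU.fromSpec := ⟨q, rfl⟩
  rw [hU.range_fromSpec] at this
  exact this

theorem primeIdealOf_fromSpec' {U : X.Opens} (hU : IsAffineOpen U) (q : PrimeSpectrum Γ(X, U)) :
    hU.primeIdealOf ⟨hU.fromSpec q, fromSpec_mem' hU q⟩ = q := by
  apply hU.fromSpec.isOpenEmbedding.injective
  exact hU.fromSpec_primeIdealOf ⟨hU.fromSpec q, fromSpec_mem' hU q⟩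

/-- the ideal of functions on `W` vanishing at `x`. -/
noncomputable abbrev vanIdeal (W : X.Opens) (x : X) (hxW : x ∈ W) : Ideal Γ(X, W) :=
  Ideal.comap (X.presheaf.germ W x hxW).hom (maximalIdeal (X.presheaf.stalk x))

theorem notMem_vanIdeal_iff (W : X.Opens) (x : X) (hxW : x ∈ W) (f : Γ(X, W)) :
    f ∉ vanIdeal W x hxW ↔ x ∈ X.basicOpen f := by
  rw [Scheme.mem_basicOpen _ _ _ hxW, Ideal.mem_comap, mem_maximalIdeal, mem_nonunits_iff, not_not]

/-- if `V ⊆ W` are affine opens and `x ∈ W ∖ V`, the prime of `x` generates the unit ideal of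
`Γ(V)`. -/
theorem map_comap_eq_top (W V : X.Opens) (hW : IsAffineOpen W) (hV : IsAffineOpen V)
    (hVW : V ≤ W) (x : X) (hxW : x ∈ W) (hxV : x ∉ V) :
    Ideal.map (X.presheaf.map (homOfLE hVW).op).hom (vanIdeal W x hxW) = ⊤ := by
  by_contra h
  obtain ⟨Q, hQmax, hQ⟩ := Ideal.exists_le_maximal _ h
  haveI := hQmax.isPrime
  let q : PrimeSpectrum Γ(X, V) := ⟨Q, hQmax.isPrime⟩
  have hvV : hV.fromSpec q ∈ V := fromSpec_mem' hV q
  apply hxV
  have hspec : x ⤳ hV.fromSpec q := by
    rw [specializes_iff_forall_open]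
    intro O hO hvO
    obtain ⟨f, hfO, hvf⟩ := hW.exists_basicOpen_le (V := ⟨O, hO⟩) ⟨hV.fromSpec q, hvO⟩ (hVW hvV)
    have h1 : hV.fromSpec q ∈ X.basicOpen (X.presheaf.map (homOfLE hVW).op f) := by
      rw [Scheme.basicOpen_res]
      exact ⟨hvV, hvf⟩
    rw [mem_basicOpen_iff_notMem hV hvV, primeIdealOf_fromSpec' hV q] at h1
    have h2 : f ∉ vanIdeal W x hxW := fun hf => h1 (hQ (Ideal.mem_map_of_mem _ hf))
    rw [notMem_vanIdeal_iff] at h2
    exact hfO h2
  exact hspec.mem_open V.2 hvV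

theorem isAffineOpen_inf_of_isAffineHom (U W : X.Opens) (hAff : IsAffineHom U.ι)
    (hW : IsAffineOpen W) : IsAffineOpen (W ⊓ U) := by
  have h2 : IsAffineOpen (U.ι ⁻¹ᵁ W) := hW.preimage U.ι
  have h3 := h2.image_of_isOpenImmersion U.ι
  rw [Scheme.Hom.image_preimage_eq_opensRange_inf, Scheme.Opens.opensRange_ι, inf_comm] at h3
  exact h3

end Affine

variable [IsIntegral X] [IsLocallyNoetherian X]

section Forward

/-- if `e` generates `F` over `N`, `s = π • e` there and `π` is a unit at `y ∈ N`, then `s`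
generates the stalk of `F` at `y`. -/
theorem mem_isoLocus_of_isUnit {F : X.Modules} (s : Coh.structureModule X ⟶ F) (N : X.Opens)
    (e : Γ(F, N)) (he : IsGen F N e) (π : Γ(X, N)) (hπ : π • e = sv s N) (y : X) (hyN : y ∈ N)
    (hu : IsUnit (X.presheaf.germ N y hyN π)) : y ∈ RefPow.isoLocus s := by
  rw [Groth.Agent.S16149.mem_isoLocus_iff]
  have hb := (genOfIsGen F N e he).bij y hyN
  have hgerm : F.presheaf.germ ⊤ y trivial (s.app ⊤ (Groth.Agent.S16149.toO ⊤ 1)) =
      X.presheaf.germ N y hyN π • F.presheaf.germ N y hyN e := by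
    have h0 : s.app ⊤ (Groth.Agent.S16149.toO ⊤ 1) = sv s ⊤ := rfl
    rw [h0, ← TopCat.Presheaf.germ_res_apply F.presheaf (homOfLE (le_top : N ≤ ⊤)) y hyN]
    have h1 : F.presheaf.map (homOfLE (le_top : N ≤ ⊤)).op (sv s ⊤) = sv s N := res_sv s le_top
    rw [h1, ← hπ, Groth.Agent.Lib.Helper2.QCoh.germ_smul]
  unfold Groth.Agent.Lib.Helper20.RegMero.IsGen
  rw [hgerm]
  have hfun : (fun c : X.presheaf.stalk y =>
      c • (X.presheaf.germ N y hyN π • F.presheaf.germ N y hyN e)) =
      (fun c : X.presheaf.stalk y => c • F.presheaf.germ N y hyN e) ∘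
        (fun c : X.presheaf.stalk y => c * X.presheaf.germ N y hyN π) := by
    funext c
    simp only [Function.comp, mul_smul]
  rw [hfun]
  exact hb.comp (IsUnit.isUnit_iff_mulRight_bijective.mp hu)

/-- if `s` does not generate `F` at the generic point, it vanishes. -/
theorem sv_eq_zero_of_generic (hX : Pi1.IsNormalScheme X) (F : X.Modules) (hF : RefHull.IsRef1 F)
    (s : Coh.structureModule X ⟶ F) (h : genericPoint X ∉ RefPow.isoLocus s) : sv s ⊤ = 0 := by
  obtain ⟨N, e, hηN, he⟩ := exists_isGen_of_dim_le_one hX F hF (genericPoint X)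
    ringKrullDim_stalk_genericPoint_le_one
  obtain ⟨π, hπ⟩ := (he N le_rfl).2 (sv s N)
  simp only [] at hπ
  rw [res_self] at hπ
  have hπ0 : X.presheaf.germ N (genericPoint X) hηN π = 0 := by
    by_contra hne
    have hu : IsUnit (X.presheaf.germ N (genericPoint X) hηN π) := by
      have hfield : IsField (X.presheaf.stalk (genericPoint X)) :=
        Field.toIsField X.functionField
      obtain ⟨c, hc⟩ := hfield.mul_inv_cancel hne
      exact IsUnit.of_mul_eq_one c hc
    exact h (mem_isoLocus_of_isUnit s N e he π hπ _ hηN hu)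
  have hπ' : π = 0 := by
    apply germ_injective_of_isIntegral X (genericPoint X) hηN
    rw [hπ0, map_zero]
  rw [hπ', zero_smul] at hπ
  have hrefl := fun x => Groth.Agent.Lib.R2LeadHartE.reflexive_stalks F hF.1 hF.2.1 x
  haveI : F.IsQuasicoherent := hF.1.1
  have htf := torsionFree_of_reflexive_stalks hX F hrefl
  apply res_injective_of_torsionFree F htf ⊤ N le_top (fun _ _ => hηN)
  rw [map_zero]
  exact (res_sv s le_top).trans hπ.symm

/-- **forward direction**: if the inclusion of the locus `U` where `s` generates `F` is affine,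
then at every point outside `U` some positive power of `s` has germ in `m_x F^[n]_x`. -/
theorem forward (hX : Pi1.IsNormalScheme X) (F : X.Modules) (hF : RefHull.IsRef1 F)
    (s : Coh.structureModule X ⟶ F) (U : X.Opens) (hU : (U : Set X) = RefPow.isoLocus s)
    (hAff : IsAffineHom U.ι) (x : X) (hx : x ∉ U) :
    ∃ n : ℕ, 0 < n ∧ RefPow.sPowGerm s n x ∈ maximalIdeal (X.presheaf.stalk x) •
      (⊤ : Submodule (X.presheaf.stalk x) ((refPow F n).presheaf.stalk x)) := by
  by_cases hη : genericPoint X ∈ U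
  · obtain ⟨_, ⟨W, hW, rfl⟩, hxW, -⟩ :=
      X.isBasis_affineOpens.exists_subset_of_mem_open (Set.mem_univ x) isOpen_univ
    have hxW : x ∈ W := hxW
    have hηW : genericPoint X ∈ W := (genericPoint_specializes x).mem_open W.2 hxW
    have hηV : genericPoint X ∈ W ⊓ U := ⟨hηW, hη⟩
    have hV := isAffineOpen_inf_of_isAffineHom U W hAff hW
    have htop := map_comap_eq_top W (W ⊓ U) hW hV inf_le_left x hxW (fun h => hx h.2)
    have key : ∀ g ∈ Ideal.map (X.presheaf.map (homOfLE (inf_le_left : W ⊓ U ≤ W)).op).hom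
        (vanIdeal W x hxW), ∀ b' : Γ(X, W ⊓ U), ∃ n₀ : ℕ, ∀ n, n₀ ≤ n →
          ∃ t : Γ(refPow F n, W),
            res (refPow F n) (inf_le_left : W ⊓ U ≤ W) t = (b' * g) • sv (sPow s n) (W ⊓ U) ∧
            (refPow F n).presheaf.germ W x hxW t ∈ maximalIdeal (X.presheaf.stalk x) •
              (⊤ : Submodule (X.presheaf.stalk x) ((refPow F n).presheaf.stalk x)) := by
      intro g hg
      unfold Ideal.map at hg
      refine Submodule.span_induction (p := fun g _ => ∀ b' : Γ(X, W ⊓ U), ∃ n₀ : ℕ, ∀ n, n₀ ≤ n →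
          ∃ t : Γ(refPow F n, W),
            res (refPow F n) (inf_le_left : W ⊓ U ≤ W) t = (b' * g) • sv (sPow s n) (W ⊓ U) ∧
            (refPow F n).presheaf.germ W x hxW t ∈ maximalIdeal (X.presheaf.stalk x) •
              (⊤ : Submodule (X.presheaf.stalk x) ((refPow F n).presheaf.stalk x)))
        ?_ ?_ ?_ ?_ hg
      · rintro _ ⟨α, hα, rfl⟩ b'
        obtain ⟨n₀, hn₀⟩ := exists_extension hX F hF s U hU W hW hη hηW b'
        refine ⟨n₀, fun n hn => ?_⟩
        obtain ⟨t', ht'⟩ := hn₀ n hn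
        refine ⟨α • t', ?_, ?_⟩
        · rw [res_smul, ht', smul_smul, mul_comm]
        · rw [Groth.Agent.Lib.Helper2.QCoh.germ_smul]
          exact Submodule.smul_mem_smul hα Submodule.mem_top
      · intro b'
        refine ⟨0, fun n _ => ⟨0, ?_, ?_⟩⟩
        · rw [mul_zero, zero_smul]
          exact map_zero _
        · rw [map_zero]
          exact Submodule.zero_mem _
      · intro g₁ g₂ _ _ h₁ h₂ b'
        obtain ⟨n₁, hn₁⟩ := h₁ b'
        obtain ⟨n₂, hn₂⟩ := h₂ b'
        refine ⟨max n₁ n₂, fun n hn => ?_⟩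
        obtain ⟨t₁, ht₁, hm₁⟩ := hn₁ n ((le_max_left _ _).trans hn)
        obtain ⟨t₂, ht₂, hm₂⟩ := hn₂ n ((le_max_right _ _).trans hn)
        refine ⟨t₁ + t₂, ?_, ?_⟩
        · rw [mul_add, add_smul, ← ht₁, ← ht₂]
          exact map_add _ _ _
        · rw [map_add]
          exact Submodule.add_mem _ hm₁ hm₂
      · intro a g _ h b'
        obtain ⟨n₀, hn₀⟩ := h (b' * a)
        refine ⟨n₀, fun n hn => ?_⟩
        obtain ⟨t, ht, hm⟩ := hn₀ n hn
        refine ⟨t, ?_, hm⟩
        rw [ht, smul_eq_mul, mul_assoc]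
    obtain ⟨n₀, hn₀⟩ := key 1 (by rw [htop]; exact Submodule.mem_top) 1
    obtain ⟨t, ht, htm⟩ := hn₀ (n₀ + 1) (Nat.le_succ _)
    refine ⟨n₀ + 1, Nat.succ_pos _, ?_⟩
    have hR := isRef1_refPow hX F hF (n₀ + 1)
    have hrefl := fun x =>
      Groth.Agent.Lib.R2LeadHartE.reflexive_stalks (refPow F (n₀ + 1)) hR.1 hR.2.1 x
    haveI : (refPow F (n₀ + 1)).IsQuasicoherent := hR.1.1
    have htf := torsionFree_of_reflexive_stalks hX (refPow F (n₀ + 1)) hrefl
    have ht' : t = sv (sPow s (n₀ + 1)) W := by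
      apply res_injective_of_torsionFree (refPow F (n₀ + 1)) htf W (W ⊓ U) inf_le_left
        (fun _ _ => hηV)
      rw [mul_one, one_smul] at ht
      exact ht.trans (res_sv (sPow s (n₀ + 1)) inf_le_left).symm
    have hgerm : RefPow.sPowGerm s (n₀ + 1) x =
        (refPow F (n₀ + 1)).presheaf.germ W x hxW (sv (sPow s (n₀ + 1)) W) := by
      rw [← res_sv (sPow s (n₀ + 1)) (le_top : W ≤ ⊤)]
      exact (TopCat.Presheaf.germ_res_apply (refPow F (n₀ + 1)).presheaf
        (homOfLE (le_top : W ≤ ⊤)) x hxW _).symm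
    rw [hgerm, ← ht']
    exact htm
  · refine ⟨1, one_pos, ?_⟩
    have h0 := sv_eq_zero_of_generic hX F hF s (by rw [← hU]; exact hη)
    have h1 : RefPow.sPowGerm s 1 x = 0 := by
      unfold RefPow.sPowGerm
      rw [sPow_one]
      change (refPow F 1).presheaf.germ ⊤ x trivial (sv s ⊤) = 0
      rw [h0]
      exact map_zero _
    rw [h1]
    exact Submodule.zero_mem _

end Forward

end Groth.Agent.Lib.Helper8RefPowC
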