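import Mathlib
import Groth.Prelude.Def_RefPow
import Groth.Agent.Lib.Helper8RefPowC

/-!
# Reflexive powers: affineness of the locus where a section generates, backward direction (helper8)

* `exists_smul_eq_germ_of_mem`: an element of `m_x E_x` (`E` quasi-coherent, `x` in the affine
  open `W`) is, up to a function invertible at `x`, the germ of an element of `P • Γ(E, W)`;
* `isAffineOpen_inf`, `backward`: if at every `x ∉ U` some positive power `s^n` has germ in
  `m_x F^[n]_x`, then `U → X` is affine;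
* `main`: the equivalence (S16151).
-/

set_option autoImplicit false
set_option linter.style.haveILetI false
set_option linter.unusedSectionVars false
universe u

namespace Groth.Agent.Lib.Helper8RefPowD

open AlgebraicGeometry CategoryTheory TopologicalSpace Opposite RefHull RefPow IsLocalRing
  Groth.Agent.Lib.R2H1.C1Comm Groth.Agent.Lib.R2H1.C1Tensor
  Groth.Agent.Lib.Helper23.SecTw Groth.Agent.Lib.Helper6 Groth.Agent.Lib.Helper23.GenLocus
  Groth.Agent.Lib.Helper23.Extend
  Groth.Agent.Lib.Helper8RefOrd Groth.Agent.Lib.Helper8RefGrp Groth.Agent.Lib.Helper8RefPowA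
  Groth.Agent.Lib.Helper8RefPowB Groth.Agent.Lib.Helper8RefPowC Groth.Agent.Lib.R2LeadHartD

variable {X : Scheme.{u}}

section Algebra

/-- an element of `m_x E_x` is, up to a function on the affine open `W` invertible at `x`, the
germ of an element of `P • Γ(E, W)`, `P` the ideal of functions vanishing at `x`. -/
theorem exists_smul_eq_germ_of_mem (E : X.Modules) [E.IsQuasicoherent] (W : X.Opens)
    (hW : IsAffineOpen W) (x : X) (hxW : x ∈ W) (v : E.presheaf.stalk x)
    (hv : v ∈ maximalIdeal (X.presheaf.stalk x) •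
      (⊤ : Submodule (X.presheaf.stalk x) (E.presheaf.stalk x))) :
    ∃ c : Γ(X, W), x ∈ X.basicOpen c ∧
      ∃ m ∈ (vanIdeal W x hxW • ⊤ : Submodule Γ(X, W) Γ(E, W)),
        X.presheaf.germ W x hxW c • v = E.presheaf.germ W x hxW m := by
  refine Submodule.smul_induction_on hv ?_ ?_
  · intro a ha τ _
    obtain ⟨c₂, t, hxc₂, ht⟩ := Groth.Agent.Lib.Helper2.QCoh.exists_smul_eq_germ hW E x hxW τ
    obtain ⟨α, c₁, hu, hα⟩ := Groth.Agent.Lib.Helper20.RegMero.exists_frac hW x hxW a
    have hxc₁ : x ∈ X.basicOpen c₁ := (Scheme.mem_basicOpen _ _ _ hxW).2 hu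
    have hαP : α ∈ vanIdeal W x hxW := by
      rw [Ideal.mem_comap]
      change X.presheaf.germ W x hxW α ∈ maximalIdeal _
      rw [← hα]
      exact Ideal.mul_mem_right _ _ ha
    refine ⟨c₁ * c₂, ?_, α • t, Submodule.smul_mem_smul hαP Submodule.mem_top, ?_⟩
    · rw [Scheme.basicOpen_mul]
      exact ⟨hxc₁, hxc₂⟩
    · rw [Groth.Agent.Lib.Helper2.QCoh.germ_smul, ← ht, ← hα, map_mul, smul_smul, smul_smul]
      congr 1
      ring
  · rintro v₁ v₂ ⟨c₁, hxc₁, m₁, hm₁, h₁⟩ ⟨c₂, hxc₂, m₂, hm₂, h₂⟩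
    refine ⟨c₁ * c₂, ?_, c₂ • m₁ + c₁ • m₂,
      Submodule.add_mem _ (Submodule.smul_mem _ _ hm₁) (Submodule.smul_mem _ _ hm₂), ?_⟩
    · rw [Scheme.basicOpen_mul]
      exact ⟨hxc₁, hxc₂⟩
    · rw [map_add, Groth.Agent.Lib.Helper2.QCoh.germ_smul,
        Groth.Agent.Lib.Helper2.QCoh.germ_smul, ← h₁, ← h₂, map_mul, smul_add, smul_smul,
        smul_smul]
      congr 2
      ring

end Algebra

variable [IsIntegral X] [IsLocallyNoetherian X]

section Backward

omit [IsLocallyNoetherian X] in
/-- sections of a torsion-free quasi-coherent module on an integral scheme with the same germ at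
one point are equal. -/
theorem eq_of_germ_eq (E : X.Modules) [E.IsQuasicoherent]
    (htf : ∀ (x : X) (a : X.presheaf.stalk x) (v : E.presheaf.stalk x), a • v = 0 → a = 0 ∨ v = 0)
    (W : X.Opens) (t t' : Γ(E, W)) (x : X) (hxW : x ∈ W)
    (h : E.presheaf.germ W x hxW t = E.presheaf.germ W x hxW t') : t = t' := by
  refine section_ext_gen E htf W t t' (fun y hy => ?_)
  rw [gen_germ, gen_germ, ← gen_germ E W x hxW t, ← gen_germ E W x hxW t', h]

/-- if at every point outside `U` a positive power of `s` has germ in `m_x F^[n]_x`, then the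
intersection of `U` with any affine open is affine. -/
theorem isAffineOpen_inf (hX : Pi1.IsNormalScheme X) (F : X.Modules) (hF : RefHull.IsRef1 F)
    (s : Coh.structureModule X ⟶ F) (U : X.Opens) (hU : (U : Set X) = RefPow.isoLocus s)
    (h2 : ∀ x : X, x ∉ U → ∃ n : ℕ, 0 < n ∧
      RefPow.sPowGerm s n x ∈ maximalIdeal (X.presheaf.stalk x) •
        (⊤ : Submodule (X.presheaf.stalk x) ((refPow F n).presheaf.stalk x)))
    (W : X.Opens) (hW : IsAffineOpen W) : IsAffineOpen (W ⊓ U) := by
  set ρ := (X.presheaf.map (homOfLE (inf_le_left : W ⊓ U ≤ W)).op).hom with hρ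
  let S : Set Γ(X, W ⊓ U) := {g | ∃ a : Γ(X, W), X.basicOpen a ≤ U ∧ ρ a = g}
  apply isAffineOpen_of_isAffineOpen_basicOpen (W ⊓ U) S
  · by_contra hne
    obtain ⟨Q, hQmax, hQ⟩ := Ideal.exists_le_maximal _ hne
    haveI := hQmax.isPrime
    let p : PrimeSpectrum Γ(X, W) := ⟨Q.comap ρ, inferInstance⟩
    set x := hW.fromSpec p with hxdef
    have hxW : x ∈ W := fromSpec_mem' hW p
    have hP : vanIdeal W x hxW = Q.comap ρ := by
      ext f
      rw [← not_iff_not, notMem_vanIdeal_iff, mem_basicOpen_iff_notMem hW hxW,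
        primeIdealOf_fromSpec' hW p]
    have hxU : x ∉ U := by
      intro hxU
      obtain ⟨a, haV, hxa⟩ := hW.exists_basicOpen_le (V := W ⊓ U) ⟨x, ⟨hxW, hxU⟩⟩ hxW
      have h1 : ρ a ∈ Q := hQ (Ideal.subset_span ⟨a, haV.trans inf_le_right, rfl⟩)
      have h3 : a ∈ vanIdeal W x hxW := by
        rw [hP]
        exact h1
      exact (notMem_vanIdeal_iff W x hxW a).2 hxa h3
    obtain ⟨n, -, hmem⟩ := h2 x hxU
    have hR := isRef1_refPow hX F hF n
    have hrefl := fun x => Groth.Agent.Lib.R2LeadHartE.reflexive_stalks (refPow F n) hR.1 hR.2.1 x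
    haveI : (refPow F n).IsQuasicoherent := hR.1.1
    have htf := torsionFree_of_reflexive_stalks hX (refPow F n) hrefl
    obtain ⟨c, hxc, m, hm, hcm⟩ :=
      exists_smul_eq_germ_of_mem (refPow F n) W hW x hxW (RefPow.sPowGerm s n x) hmem
    have hgerm : RefPow.sPowGerm s n x =
        (refPow F n).presheaf.germ W x hxW (sv (sPow s n) W) := by
      rw [← res_sv (sPow s n) (le_top : W ≤ ⊤)]
      exact (TopCat.Presheaf.germ_res_apply (refPow F n).presheaf
        (homOfLE (le_top : W ≤ ⊤)) x hxW _).symm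
    have hcm' : c • sv (sPow s n) W = m := by
      apply eq_of_germ_eq (refPow F n) htf W _ _ x hxW
      rw [Groth.Agent.Lib.Helper2.QCoh.germ_smul, ← hgerm]
      exact hcm
    have hgen := isGen_sPow hX F hF s U hU n
    have hlam : ∀ m ∈ (vanIdeal W x hxW • ⊤ : Submodule Γ(X, W) Γ(refPow F n, W)),
        coef hgen (inf_le_right : W ⊓ U ≤ U) (res (refPow F n) (inf_le_left : W ⊓ U ≤ W) m) ∈
          Ideal.map ρ (vanIdeal W x hxW) := by
      intro m hm
      refine Submodule.smul_induction_on hm ?_ ?_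
      · intro α hα t _
        rw [res_smul, coef_smul]
        exact Ideal.mul_mem_right _ _ (Ideal.mem_map_of_mem ρ hα)
      · intro t₁ t₂ h₁ h₂
        have : res (refPow F n) (inf_le_left : W ⊓ U ≤ W) (t₁ + t₂) =
            res (refPow F n) inf_le_left t₁ + res (refPow F n) inf_le_left t₂ := map_add _ _ _
        rw [this, coef_add]
        exact Ideal.add_mem _ h₁ h₂
    have h1 : coef hgen (inf_le_right : W ⊓ U ≤ U)
        (res (refPow F n) (inf_le_left : W ⊓ U ≤ W) (c • sv (sPow s n) W)) = ρ c := by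
      symm
      apply coef_unique
      rw [res_smul, res_sv, res_sv]
    have h3 : ρ c ∈ Q := by
      rw [← h1, hcm']
      exact (Ideal.map_le_iff_le_comap.2 hP.le) (hlam m hm)
    have h4 : c ∈ vanIdeal W x hxW := by
      rw [hP]
      exact h3
    exact (notMem_vanIdeal_iff W x hxW c).2 hxc h4
  · rintro _ ⟨a, ha, rfl⟩
    have h1 : X.basicOpen (ρ a) = X.basicOpen a := by
      rw [hρ]
      change X.basicOpen (X.presheaf.map (homOfLE (inf_le_left : W ⊓ U ≤ W)).op a) = _
      rw [Scheme.basicOpen_res]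
      exact inf_eq_right.2 (le_inf (X.basicOpen_le a) ha)
    rw [h1]
    exact hW.basicOpen a

/-- **backward direction**. -/
theorem backward (hX : Pi1.IsNormalScheme X) (F : X.Modules) (hF : RefHull.IsRef1 F)
    (s : Coh.structureModule X ⟶ F) (U : X.Opens) (hU : (U : Set X) = RefPow.isoLocus s)
    (h2 : ∀ x : X, x ∉ U → ∃ n : ℕ, 0 < n ∧
      RefPow.sPowGerm s n x ∈ maximalIdeal (X.presheaf.stalk x) •
        (⊤ : Submodule (X.presheaf.stalk x) ((refPow F n).presheaf.stalk x))) :
    IsAffineHom U.ι := by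
  refine ⟨fun W hW => ?_⟩
  rw [← U.ι.isAffineOpen_iff_of_isOpenImmersion, Scheme.Hom.image_preimage_eq_opensRange_inf,
    Scheme.Opens.opensRange_ι, inf_comm]
  exact isAffineOpen_inf hX F hF s U hU h2 W hW

/-- **S16151**: the inclusion of the locus where `s` generates `F` is affine iff at every point
outside it a positive power of `s` has germ in `m_x F^[n]_x`. -/
theorem main (hX : Pi1.IsNormalScheme X) (F : X.Modules) (hF : RefHull.IsRef1 F)
    (s : Coh.structureModule X ⟶ F) (U : X.Opens) (hU : (U : Set X) = RefPow.isoLocus s) :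
    IsAffineHom U.ι ↔
      ∀ x : X, x ∉ U → ∃ n : ℕ, 0 < n ∧
        RefPow.sPowGerm s n x ∈ maximalIdeal (X.presheaf.stalk x) •
          (⊤ : Submodule (X.presheaf.stalk x) ((refPow F n).presheaf.stalk x)) :=
  ⟨fun h x hx => forward hX F hF s U hU h x hx, backward hX F hF s U hU⟩

end Backward

end Groth.Agent.Lib.Helper8RefPowD
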