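import Mathlib
import Groth.Prelude.Def_RefPow
import Groth.Agent.Lib.Helper8RefPowD

/-!
# Reflexive powers: `j_* O_U` as the colimit of the reflexive powers (helper8)

`U` is the locus where the section `s` generates the rank one reflexive module `F`, `j : U → X`.

* `Wu`, `J`: the open `j(j⁻¹ W)` (equal to `W ∩ U`) and the module `j_*(O_X|_U)`;
* `isIso_restrict_sPow`: `s^n` restricts to an isomorphism `O_U ≅ F^[n]|_U`;
* `leg`, `leg_spec`, `leg_zero`, `leg_succ`, `legNat`: the cocone `F^[n] ⟶ j_* O_U`.
-/

set_option autoImplicit false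
set_option linter.style.haveILetI false
set_option linter.unusedSectionVars false
universe u

namespace Groth.Agent.Lib.Helper8RefPowE

open AlgebraicGeometry CategoryTheory CategoryTheory.Limits TopologicalSpace Opposite RefHull RefPow
  IsLocalRing
  Groth.Agent.Lib.R2H1.C1Comm Groth.Agent.Lib.R2H1.C1Tensor
  Groth.Agent.Lib.Helper23.SecTw Groth.Agent.Lib.Helper6 Groth.Agent.Lib.Helper23.GenLocus
  Groth.Agent.Lib.Helper23.Extend
  Groth.Agent.Lib.Helper8RefOrd Groth.Agent.Lib.Helper8RefGrp Groth.Agent.Lib.Helper8RefPowA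
  Groth.Agent.Lib.Helper8RefPowB Groth.Agent.Lib.Helper8RefPowC Groth.Agent.Lib.Helper8RefPowD
  Groth.Agent.Lib.R2LeadHartD

variable {X : Scheme.{u}}

section Setup

variable (U : X.Opens)

/-- the open `j(j⁻¹ W)`, equal to `W ∩ U`. -/
abbrev Wu (W : X.Opens) : X.Opens := U.ι ''ᵁ (U.ι ⁻¹ᵁ W)

theorem Wu_eq (W : X.Opens) : Wu U W = W ⊓ U := by
  unfold Wu
  rw [Scheme.Hom.image_preimage_eq_opensRange_inf, Scheme.Opens.opensRange_ι, inf_comm]

theorem Wu_le (W : X.Opens) : Wu U W ≤ W := U.ι.image_preimage_le W

theorem Wu_le_U (W : X.Opens) : Wu U W ≤ U := by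
  rw [Wu_eq]
  exact inf_le_right

theorem image_le_U (V : (↑U : Scheme.{u}).Opens) : U.ι ''ᵁ V ≤ U := by
  have h := U.ι.image_mono (le_top : V ≤ ⊤)
  rw [Scheme.Hom.image_top_eq_opensRange, Scheme.Opens.opensRange_ι] at h
  exact h

/-- the module `j_*(O_X|_U)`. -/
noncomputable abbrev J : X.Modules :=
  (Scheme.Modules.pushforward U.ι).obj ((Coh.structureModule X).restrict U.ι)

end Setup

section Iso

/-- a section generating `L` over `W` induces bijections on sections over opens inside `W`. -/
theorem bijective_app_of_isGen {L : X.Modules} (a : Coh.structureModule X ⟶ L) (W : X.Opens)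
    (h : IsGen L W (sv a W)) (W' : X.Opens) (hW' : W' ≤ W) : Function.Bijective (a.app W') := by
  have h1 := h W' hW'
  have hfun : ⇑(a.app W') = (fun r : Γ(X, W') => r • res L hW' (sv a W)) ∘ ofS W' := by
    funext b
    simp only [Function.comp]
    rw [res_sv, ← app_toS, toS_ofS]
  rw [hfun]
  exact h1.comp ⟨fun a b h => h, fun b => ⟨b, rfl⟩⟩

variable [IsIntegral X] [IsLocallyNoetherian X]

theorem isIso_restrict_sPow (hX : Pi1.IsNormalScheme X) (F : X.Modules) (hF : RefHull.IsRef1 F)
    (s : Coh.structureModule X ⟶ F) (U : X.Opens) (hU : (U : Set X) = RefPow.isoLocus s) (n : ℕ) :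
    IsIso ((Scheme.Modules.restrictFunctor U.ι).map (sPow s n)) := by
  rw [Scheme.Modules.Hom.isIso_iff_isIso_app]
  intro V
  rw [ConcreteCategory.isIso_iff_bijective]
  exact bijective_app_of_isGen (sPow s n) U (isGen_sPow hX F hF s U hU n) (U.ι ''ᵁ V)
    (image_le_U U V)

end Iso

section Legs

variable [IsIntegral X] [IsLocallyNoetherian X] (hX : Pi1.IsNormalScheme X) (F : X.Modules)
  (hF : RefHull.IsRef1 F) (s : Coh.structureModule X ⟶ F) (U : X.Opens)
  (hU : (U : Set X) = RefPow.isoLocus s)

/-- the restriction of `s^n` to `U`. -/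
noncomputable abbrev psi (n : ℕ) :
    (Coh.structureModule X).restrict U.ι ⟶ (refPow F n).restrict U.ι :=
  (Scheme.Modules.restrictFunctor U.ι).map (sPow s n)

/-- the legs `F^[n] ⟶ j_* O_U` of the cocone: restrict to `U` and divide by `s^n`. -/
noncomputable def leg (n : ℕ) : refPow F n ⟶ J U :=
  haveI := isIso_restrict_sPow hX F hF s U hU n
  (Scheme.Modules.restrictAdjunction U.ι).unit.app (refPow F n) ≫
    (Scheme.Modules.pushforward U.ι).map (inv (psi F s U n))

theorem leg_spec (n : ℕ) :
    leg hX F hF s U hU n ≫ (Scheme.Modules.pushforward U.ι).map (psi F s U n) =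
      (Scheme.Modules.restrictAdjunction U.ι).unit.app (refPow F n) := by
  haveI := isIso_restrict_sPow hX F hF s U hU n
  unfold leg
  rw [Category.assoc, ← Functor.map_comp, IsIso.inv_hom_id, CategoryTheory.Functor.map_id]
  exact Category.comp_id _

include hX hF hU in
theorem isIso_push_psi (n : ℕ) : IsIso ((Scheme.Modules.pushforward U.ι).map (psi F s U n)) := by
  haveI := isIso_restrict_sPow hX F hF s U hU n
  exact Functor.map_isIso _ _

theorem leg_zero :
    leg hX F hF s U hU 0 =
      (Scheme.Modules.restrictAdjunction U.ι).unit.app (Coh.structureModule X) := by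
  have h2 : (Scheme.Modules.pushforward U.ι).map (psi F s U 0) = 𝟙 _ := by
    have h : psi F s U 0 = 𝟙 _ := (Scheme.Modules.restrictFunctor U.ι).map_id _
    rw [h]
    exact CategoryTheory.Functor.map_id _ _
  have h3 := leg_spec hX F hF s U hU 0
  rw [h2] at h3
  exact (Category.comp_id _).symm.trans h3

theorem leg_succ (n : ℕ) :
    mulBy s n ≫ leg hX F hF s U hU (n + 1) = leg hX F hF s U hU n := by
  haveI := isIso_push_psi hX F hF s U hU (n + 1)
  rw [← cancel_mono ((Scheme.Modules.pushforward U.ι).map (psi F s U (n + 1))), Category.assoc,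
    leg_spec]
  have h : psi F s U (n + 1) =
      psi F s U n ≫ (Scheme.Modules.restrictFunctor U.ι).map (mulBy s n) := by
    unfold psi
    rw [sPow_succ, Functor.map_comp]
  have hnat := (Scheme.Modules.restrictAdjunction U.ι).unit.naturality (mulBy s n)
  rw [h, Functor.map_comp, ← Category.assoc (leg hX F hF s U hU n), leg_spec]
  exact hnat

/-- the cocone as a natural transformation to the constant functor. -/
noncomputable def legNat :
    RefPow.diagram F s ⟶ (Functor.const ℕ).obj (J U) :=
  NatTrans.ofSequence (fun n => leg hX F hF s U hU n) (fun n => by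
    have h1 : (RefPow.diagram F s).map (homOfLE (n.le_add_right 1)) = mulBy s n :=
      RefPow.diagram_map F s n
    exact (congrArg (fun m => m ≫ leg hX F hF s U hU (n + 1)) h1).trans
      ((leg_succ hX F hF s U hU n).trans (Category.comp_id _).symm))

theorem legNat_app (n : ℕ) : (legNat hX F hF s U hU).app n = leg hX F hF s U hU n := rfl

end Legs

end Groth.Agent.Lib.Helper8RefPowE
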