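import Mathlib
import Groth.Agent.Lib.Helper23SecTw7

/-!
# A colimit criterion for sequences of modules on a scheme (helper8)

`isColimit_of_lifts`: a cocone `ι_n : D_n ⟶ J` over a sequence `D : ℕ ⥤ X.Modules` is a colimit
cocone as soon as
* over every affine open `W`, every section of `J` is of the form `ι_n t` for all `n ≫ 0`;
* a section `t` of `D_n` with `ι_n t = 0` is killed by the transition map `D_n ⟶ D_{n+1}`.
-/

set_option autoImplicit false
set_option linter.style.haveILetI false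
set_option linter.unusedSectionVars false
universe u

namespace Groth.Agent.Lib.Helper8SeqColim

open AlgebraicGeometry CategoryTheory CategoryTheory.Limits TopologicalSpace Opposite
  Groth.Agent.Lib.Helper23.SecTw Groth.Agent.Lib.Helper6 Groth.Agent.Lib.Helper23.Extend

variable {X : Scheme.{u}} (D : ℕ ⥤ X.Modules) (J : X.Modules)
  (ι : D ⟶ (Functor.const ℕ).obj J)

theorem comp_app_apply {A B C : X.Modules} (f : A ⟶ B) (g : B ⟶ C) (W : X.Opens) (t : Γ(A, W)) :
    (f ≫ g).app W t = g.app W (f.app W t) := rfl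

theorem iota_w {n m : ℕ} (h : n ≤ m) (W : X.Opens) (t : Γ(D.obj n, W)) :
    (ι.app m).app W ((D.map (homOfLE h)).app W t) = (ι.app n).app W t := by
  have h1 := ι.naturality (homOfLE h)
  have h2 : D.map (homOfLE h) ≫ ι.app m = ι.app n := h1.trans (Category.comp_id _)
  rw [← h2]
  rfl

theorem cocone_w (c : Cocone D) {n m : ℕ} (h : n ≤ m) (W : X.Opens) (t : Γ(D.obj n, W)) :
    (c.ι.app m).app W ((D.map (homOfLE h)).app W t) = (c.ι.app n).app W t := by
  rw [← c.w (homOfLE h)]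
  rfl

variable
  (H1 : ∀ W : X.Opens, IsAffineOpen W → ∀ b : Γ(J, W), ∃ n₀ : ℕ, ∀ n, n₀ ≤ n →
    ∃ t : Γ(D.obj n, W), (ι.app n).app W t = b)
  (H2 : ∀ (n : ℕ) (W : X.Opens) (t : Γ(D.obj n, W)), (ι.app n).app W t = 0 →
    (D.map (homOfLE (Nat.le_succ n))).app W t = 0)

include H2 in
theorem cocone_app_eq_zero (c : Cocone D) (n : ℕ) (W : X.Opens) (t : Γ(D.obj n, W))
    (h : (ι.app n).app W t = 0) : (c.ι.app n).app W t = 0 := by
  rw [← cocone_w D c (Nat.le_succ n) W t, H2 n W t h]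
  exact map_zero _

include H2 in
theorem cocone_app_eq_of_le (c : Cocone D) {n m : ℕ} (hnm : n ≤ m) (W : X.Opens)
    (t : Γ(D.obj n, W)) (t' : Γ(D.obj m, W)) (h : (ι.app n).app W t = (ι.app m).app W t') :
    (c.ι.app n).app W t = (c.ι.app m).app W t' := by
  have h1 : (ι.app m).app W ((D.map (homOfLE hnm)).app W t - t') = 0 := by
    rw [map_sub, iota_w D J ι hnm W t, h, sub_self]
  have h2 := cocone_app_eq_zero D J ι H2 c m W _ h1
  rw [map_sub, cocone_w D c hnm W t, sub_eq_zero] at h2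
  exact h2

include H2 in
theorem cocone_app_eq (c : Cocone D) (n m : ℕ) (W : X.Opens)
    (t : Γ(D.obj n, W)) (t' : Γ(D.obj m, W)) (h : (ι.app n).app W t = (ι.app m).app W t') :
    (c.ι.app n).app W t = (c.ι.app m).app W t' := by
  rcases le_total n m with hnm | hmn
  · exact cocone_app_eq_of_le D J ι H2 c hnm W t t' h
  · exact (cocone_app_eq_of_le D J ι H2 c hmn W t' t h.symm).symm

section Desc

theorem res_app {A B : X.Modules} (φ : A ⟶ B) {W W' : X.Opens} (h : W' ≤ W) (t : Γ(A, W)) :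
    res B h (φ.app W t) = φ.app W' (res A h t) :=
  (app_map φ (homOfLE h) t).symm

include H1 in
/-- local lifts of two sections at a common level. -/
theorem exists_lift₂ (W : X.Opens) (b b' : Γ(J, W)) (x : X) (hx : x ∈ W) :
    ∃ (W' : X.Opens) (hW' : W' ≤ W) (_ : x ∈ W') (n : ℕ) (t t' : Γ(D.obj n, W')),
      (ι.app n).app W' t = res J hW' b ∧ (ι.app n).app W' t' = res J hW' b' := by
  obtain ⟨_, ⟨W', hW'aff, rfl⟩, hxW', hW'W⟩ :=
    X.isBasis_affineOpens.exists_subset_of_mem_open hx W.isOpen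
  have hW'W' : W' ≤ W := hW'W
  obtain ⟨n₁, h₁⟩ := H1 W' hW'aff (res J hW'W' b)
  obtain ⟨n₂, h₂⟩ := H1 W' hW'aff (res J hW'W' b')
  obtain ⟨t, ht⟩ := h₁ (max n₁ n₂) (le_max_left _ _)
  obtain ⟨t', ht'⟩ := h₂ (max n₁ n₂) (le_max_right _ _)
  exact ⟨W', hW'W', hxW', max n₁ n₂, t, t', ht, ht'⟩

include H1 in
theorem exists_lift (W : X.Opens) (b : Γ(J, W)) (x : X) (hx : x ∈ W) :
    ∃ (W' : X.Opens) (hW' : W' ≤ W) (_ : x ∈ W') (n : ℕ) (t : Γ(D.obj n, W')),
      (ι.app n).app W' t = res J hW' b := by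
  obtain ⟨W', hW', hxW', n, t, -, ht, -⟩ := exists_lift₂ D J ι H1 W b b x hx
  exact ⟨W', hW', hxW', n, t, ht⟩

/-- `g` is a value at `b` of the descended map: on every open where `b` lifts to `t`, `g` is the
image of `t`. -/
def IsDesc (c : Cocone D) (W : X.Opens) (b : Γ(J, W)) (g : Γ(c.pt, W)) : Prop :=
  ∀ (W' : X.Opens) (hW' : W' ≤ W) (n : ℕ) (t : Γ(D.obj n, W')),
    (ι.app n).app W' t = res J hW' b → res c.pt hW' g = (c.ι.app n).app W' t

include H1 in
theorem isDesc_unique (c : Cocone D) (W : X.Opens) (b : Γ(J, W)) (g g' : Γ(c.pt, W))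
    (hg : IsDesc D J ι c W b g) (hg' : IsDesc D J ι c W b g') : g = g' := by
  choose W' hW' hxW' n t ht using fun x : W => exists_lift D J ι H1 W b x.1 x.2
  have hcov : W ≤ ⨆ x : W, W' x := fun y hy => Opens.mem_iSup.2 ⟨⟨y, hy⟩, hxW' ⟨y, hy⟩⟩
  refine (modSheaf c.pt).eq_of_locally_eq' W' W (fun x => homOfLE (hW' x)) hcov g g' (fun x => ?_)
  exact (hg (W' x) (hW' x) (n x) (t x) (ht x)).trans (hg' (W' x) (hW' x) (n x) (t x) (ht x)).symm

include H1 H2 in
theorem exists_isDesc (c : Cocone D) (W : X.Opens) (b : Γ(J, W)) :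
    ∃ g : Γ(c.pt, W), IsDesc D J ι c W b g := by
  choose W' hW' hxW' n t ht using fun x : W => exists_lift D J ι H1 W b x.1 x.2
  have hcov : W ≤ ⨆ x : W, W' x := fun y hy => Opens.mem_iSup.2 ⟨⟨y, hy⟩, hxW' ⟨y, hy⟩⟩
  let sf : ∀ x : W, Γ(c.pt, W' x) := fun x => (c.ι.app (n x)).app (W' x) (t x)
  have hcompat : TopCat.Presheaf.IsCompatible (modSheaf c.pt).1 W' sf := by
    intro x x'
    change res c.pt (inf_le_left : W' x ⊓ W' x' ≤ W' x) (sf x) =
      res c.pt (inf_le_right : W' x ⊓ W' x' ≤ W' x') (sf x')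
    rw [res_app, res_app]
    apply cocone_app_eq D J ι H2 c
    rw [← res_app, ← res_app, ht x, ht x']
    change res J _ (res J _ b) = res J _ (res J _ b)
    rw [res_res, res_res]
  obtain ⟨g, hg, -⟩ := (modSheaf c.pt).existsUnique_gluing' W' W (fun x => homOfLE (hW' x)) hcov
    sf hcompat
  refine ⟨g, ?_⟩
  intro V hV m τ hτ
  have hcovV : V ≤ ⨆ x : V, V ⊓ W' ⟨x.1, hV x.2⟩ := fun y hy =>
    Opens.mem_iSup.2 ⟨⟨y, hy⟩, hy, hxW' ⟨y, hV hy⟩⟩
  refine (modSheaf c.pt).eq_of_locally_eq' (fun x : V => V ⊓ W' ⟨x.1, hV x.2⟩) V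
    (fun x => homOfLE inf_le_left) hcovV _ _ (fun x => ?_)
  change res c.pt (inf_le_left : V ⊓ W' ⟨x.1, hV x.2⟩ ≤ V) (res c.pt hV g) =
    res c.pt (inf_le_left : V ⊓ W' ⟨x.1, hV x.2⟩ ≤ V) ((c.ι.app m).app V τ)
  have h1 : res c.pt (inf_le_left : V ⊓ W' ⟨x.1, hV x.2⟩ ≤ V) (res c.pt hV g) =
      res c.pt (inf_le_right : V ⊓ W' ⟨x.1, hV x.2⟩ ≤ W' ⟨x.1, hV x.2⟩)
        (res c.pt (hW' ⟨x.1, hV x.2⟩) g) := by
    rw [res_res, res_res]
  have h2 : res c.pt (hW' ⟨x.1, hV x.2⟩) g = sf ⟨x.1, hV x.2⟩ := hg ⟨x.1, hV x.2⟩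
  rw [h1, h2, res_app, res_app]
  apply cocone_app_eq D J ι H2 c
  rw [← res_app, ← res_app, ht, hτ]
  change res J _ (res J _ b) = res J _ (res J _ b)
  rw [res_res, res_res]

end Desc

section Main

/-- the value of the descended map. -/
noncomputable def dfun (c : Cocone D) (W : X.Opens) (b : Γ(J, W)) : Γ(c.pt, W) :=
  Classical.choose (exists_isDesc D J ι H1 H2 c W b)

theorem dfun_spec (c : Cocone D) (W : X.Opens) (b : Γ(J, W)) :
    IsDesc D J ι c W b (dfun D J ι H1 H2 c W b) :=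
  Classical.choose_spec (exists_isDesc D J ι H1 H2 c W b)

theorem dfun_add (c : Cocone D) (W : X.Opens) (b b' : Γ(J, W)) :
    dfun D J ι H1 H2 c W (b + b') = dfun D J ι H1 H2 c W b + dfun D J ι H1 H2 c W b' := by
  choose W' hW' hxW' n t t' ht ht' using fun x : W => exists_lift₂ D J ι H1 W b b' x.1 x.2
  have hcov : W ≤ ⨆ x : W, W' x := fun y hy => Opens.mem_iSup.2 ⟨⟨y, hy⟩, hxW' ⟨y, hy⟩⟩
  refine (modSheaf c.pt).eq_of_locally_eq' W' W (fun x => homOfLE (hW' x)) hcov _ _ (fun x => ?_)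
  change res c.pt (hW' x) (dfun D J ι H1 H2 c W (b + b')) =
    res c.pt (hW' x) (dfun D J ι H1 H2 c W b + dfun D J ι H1 H2 c W b')
  have h1 : (ι.app (n x)).app (W' x) (t x + t' x) = res J (hW' x) (b + b') := by
    rw [map_add, ht x, ht' x]
    exact (map_add _ _ _).symm
  rw [dfun_spec D J ι H1 H2 c W (b + b') (W' x) (hW' x) (n x) (t x + t' x) h1]
  have h2 : res c.pt (hW' x) (dfun D J ι H1 H2 c W b + dfun D J ι H1 H2 c W b') =
      res c.pt (hW' x) (dfun D J ι H1 H2 c W b) + res c.pt (hW' x) (dfun D J ι H1 H2 c W b') :=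
    map_add _ _ _
  rw [h2, dfun_spec D J ι H1 H2 c W b (W' x) (hW' x) (n x) (t x) (ht x),
    dfun_spec D J ι H1 H2 c W b' (W' x) (hW' x) (n x) (t' x) (ht' x), map_add]

theorem dfun_smul (c : Cocone D) (W : X.Opens) (r : Γ(X, W)) (b : Γ(J, W)) :
    dfun D J ι H1 H2 c W (r • b) = r • dfun D J ι H1 H2 c W b := by
  choose W' hW' hxW' n t ht using fun x : W => exists_lift D J ι H1 W b x.1 x.2
  have hcov : W ≤ ⨆ x : W, W' x := fun y hy => Opens.mem_iSup.2 ⟨⟨y, hy⟩, hxW' ⟨y, hy⟩⟩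
  refine (modSheaf c.pt).eq_of_locally_eq' W' W (fun x => homOfLE (hW' x)) hcov _ _ (fun x => ?_)
  change res c.pt (hW' x) (dfun D J ι H1 H2 c W (r • b)) =
    res c.pt (hW' x) (r • dfun D J ι H1 H2 c W b)
  have h1 : (ι.app (n x)).app (W' x) (resf (hW' x) r • t x) = res J (hW' x) (r • b) := by
    rw [Scheme.Modules.Hom.app_smul, ht x]
    exact (res_smul J (hW' x) r b).symm
  rw [dfun_spec D J ι H1 H2 c W (r • b) (W' x) (hW' x) (n x) _ h1, res_smul,
    dfun_spec D J ι H1 H2 c W b (W' x) (hW' x) (n x) (t x) (ht x), Scheme.Modules.Hom.app_smul]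

theorem dfun_res (c : Cocone D) (W V : X.Opens) (hV : V ≤ W) (b : Γ(J, W)) :
    res c.pt hV (dfun D J ι H1 H2 c W b) = dfun D J ι H1 H2 c V (res J hV b) := by
  apply isDesc_unique D J ι H1 c V (res J hV b) _ _ _ (dfun_spec D J ι H1 H2 c V (res J hV b))
  intro W' hW' n t ht
  rw [res_res] at ht ⊢
  exact dfun_spec D J ι H1 H2 c W b W' (hW'.trans hV) n t ht

include H1 H2 in
/-- the descended morphism exists and is unique. -/
theorem existsUnique_desc (c : Cocone D) :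
    ∃! d : J ⟶ c.pt, ∀ n : ℕ, (ι.app n : D.obj n ⟶ J) ≫ d = c.ι.app n := by
  obtain ⟨d, hd⟩ := exists_hom_of_sections J c.pt (dfun D J ι H1 H2 c)
    (fun V m m' => dfun_add D J ι H1 H2 c V m m')
    (fun V r m => dfun_smul D J ι H1 H2 c V r m)
    (fun W V h m => dfun_res D J ι H1 H2 c W V h m)
  refine ⟨d, fun n => ?_, fun d' hd' => ?_⟩
  · ext W t
    change d.app W ((ι.app n).app W t) = (c.ι.app n).app W t
    rw [hd]
    have h := dfun_spec D J ι H1 H2 c W ((ι.app n).app W t) W le_rfl n t (res_self J _).symm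
    rw [res_self] at h
    exact h
  · ext W b
    change d'.app W b = d.app W b
    rw [hd]
    apply isDesc_unique D J ι H1 c W b _ _ _ (dfun_spec D J ι H1 H2 c W b)
    intro W' hW' n t ht
    rw [res_app, ← ht, ← hd' n]
    rfl

include H1 H2 in
/-- **the colimit criterion**. -/
theorem isColimit_of_lifts : Nonempty (IsColimit (Cocone.mk J ι)) := by
  refine ⟨{ desc := fun c => (existsUnique_desc D J ι H1 H2 c).choose
            fac := fun c n => (existsUnique_desc D J ι H1 H2 c).choose_spec.1 n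
            uniq := fun c m hm => (existsUnique_desc D J ι H1 H2 c).choose_spec.2 m hm }⟩

end Main

end Groth.Agent.Lib.Helper8SeqColim
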