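import Mathlib
import Groth.Prelude.Def_RefPow
import Groth.Agent.Lib.Helper8RefPowE
import Groth.Agent.Lib.Helper8SeqColim

/-!
# Reflexive powers: `j_* O_U` is the colimit of the reflexive powers (helper8)

* `app_leg`: the section formula for the legs `F^[n] ⟶ j_* O_U`;
* `exists_lift_leg`: over an affine open every section of `j_* O_U` is in the image of `F^[n]` for
  `n ≫ 0`;
* `mulBy_app_eq_zero`: a section of `F^[n]` killed by the leg is killed by multiplication by `s`;
* `main16150`: the colimit statement (S16150).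
-/

set_option autoImplicit false
set_option linter.style.haveILetI false
set_option linter.unusedSectionVars false
universe u

namespace Groth.Agent.Lib.Helper8RefPowF

open AlgebraicGeometry CategoryTheory CategoryTheory.Limits TopologicalSpace Opposite RefHull RefPow
  IsLocalRing
  Groth.Agent.Lib.R2H1.C1Comm Groth.Agent.Lib.R2H1.C1Tensor
  Groth.Agent.Lib.Helper23.SecTw Groth.Agent.Lib.Helper6 Groth.Agent.Lib.Helper23.GenLocus
  Groth.Agent.Lib.Helper23.Extend
  Groth.Agent.Lib.Helper8RefOrd Groth.Agent.Lib.Helper8RefGrp Groth.Agent.Lib.Helper8RefPowA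
  Groth.Agent.Lib.Helper8RefPowB Groth.Agent.Lib.Helper8RefPowC Groth.Agent.Lib.Helper8RefPowD
  Groth.Agent.Lib.Helper8RefPowE Groth.Agent.Lib.R2LeadHartD Groth.Agent.Lib.Helper8SeqColim

variable {X : Scheme.{u}} [IsIntegral X] [IsLocallyNoetherian X]

/-- `exists_extension` for an open equal to `W ⊓ U`. -/
theorem exists_extension' (hX : Pi1.IsNormalScheme X) (F : X.Modules) (hF : RefHull.IsRef1 F)
    (s : Coh.structureModule X ⟶ F) (U : X.Opens) (hU : (U : Set X) = RefPow.isoLocus s)
    (W : X.Opens) (hW : IsAffineOpen W) (hηU : genericPoint X ∈ U) (hηW : genericPoint X ∈ W)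
    (V' : X.Opens) (h : V' = W ⊓ U) (hV'W : V' ≤ W) (b : Γ(X, V')) :
    ∃ n₀ : ℕ, ∀ n, n₀ ≤ n → ∃ t : Γ(refPow F n, W),
      res (refPow F n) hV'W t = b • sv (sPow s n) V' := by
  subst h
  exact exists_extension hX F hF s U hU W hW hηU hηW b

variable (hX : Pi1.IsNormalScheme X) (F : X.Modules)
  (hF : RefHull.IsRef1 F) (s : Coh.structureModule X ⟶ F) (U : X.Opens)
  (hU : (U : Set X) = RefPow.isoLocus s)

/-- section formula for the legs: `s^n • leg_n(t) = t|_{W ∩ U}`. -/
theorem app_leg (n : ℕ) (W : X.Opens) (t : Γ(refPow F n, W)) :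
    (sPow s n).app (Wu U W) ((leg hX F hF s U hU n).app W t) =
      res (refPow F n) (Wu_le U W) t := by
  have h := leg_spec hX F hF s U hU n
  exact congrArg (fun φ => φ.app W t) h

/-- over an affine open every section of `j_* O_U` comes from `F^[n]` for `n ≫ 0`. -/
theorem exists_lift_leg (W : X.Opens) (hW : IsAffineOpen W) (b : Γ(J U, W)) :
    ∃ n₀ : ℕ, ∀ n, n₀ ≤ n → ∃ t : Γ(refPow F n, W), (leg hX F hF s U hU n).app W t = b := by
  by_cases hη : genericPoint X ∈ Wu U W
  · have hηW := Wu_le U W hη
    have hηU := Wu_le_U U W hη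
    obtain ⟨n₀, hn₀⟩ := exists_extension' hX F hF s U hU W hW hηU hηW (Wu U W) (Wu_eq U W)
      (Wu_le U W) (ofS (Wu U W) b)
    refine ⟨n₀, fun n hn => ?_⟩
    obtain ⟨t, ht⟩ := hn₀ n hn
    refine ⟨t, ?_⟩
    apply (bijective_app_of_isGen (sPow s n) U (isGen_sPow hX F hF s U hU n) (Wu U W)
      (Wu_le_U U W)).1
    rw [app_leg, ht, ← app_toS, toS_ofS]
  · have hbot : Wu U W ≤ ⊥ := by
      intro x hx
      exact absurd ((genericPoint_specializes x).mem_open (Wu U W).2 hx) hη
    refine ⟨0, fun n _ => ⟨0, ?_⟩⟩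
    rw [map_zero]
    exact (eq_zero_of_le_bot (Coh.structureModule X) hbot b).symm

/-- a section of `F^[n]` killed by the leg is killed by multiplication by `s`. -/
theorem mulBy_app_eq_zero (n : ℕ) (W : X.Opens) (t : Γ(refPow F n, W))
    (h : (leg hX F hF s U hU n).app W t = 0) : (mulBy s n).app W t = 0 := by
  by_cases hη : genericPoint X ∈ U
  · have hR := isRef1_refPow hX F hF n
    have hrefl := fun x => Groth.Agent.Lib.R2LeadHartE.reflexive_stalks (refPow F n) hR.1 hR.2.1 x
    haveI : (refPow F n).IsQuasicoherent := hR.1.1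
    have htf := torsionFree_of_reflexive_stalks hX (refPow F n) hrefl
    have h1 : res (refPow F n) (Wu_le U W) t = 0 := by
      rw [← app_leg hX F hF s U hU n W t, h]
      exact map_zero _
    have hηW : ∀ x ∈ W, genericPoint X ∈ Wu U W := by
      intro x hx
      rw [Wu_eq]
      exact ⟨(genericPoint_specializes x).mem_open W.2 hx, hη⟩
    have h2 : t = 0 := by
      apply res_injective_of_torsionFree (refPow F n) htf W (Wu U W) (Wu_le U W) hηW
      rw [map_zero]
      exact h1
    rw [h2, map_zero]
  · have h0 := sv_eq_zero_of_generic hX F hF s (by rw [← hU]; exact hη)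
    have h0W : sv s W = 0 := by
      rw [← res_sv s (le_top : W ≤ ⊤), h0]
      exact map_zero _
    cases n with
    | zero =>
      change s.app W t = 0
      rw [← toS_ofS W t, app_toS, h0W, smul_zero]
    | succ n =>
      rw [mulBy_succ_app]
      change (toRefTensor (refPow F (n + 1)) F).app W (tm (refPow F (n + 1)) F W t (sv s W)) = 0
      rw [h0W, tm_zero_right, map_zero]

include hX hF hU in
/-- **S16150**: `j_*(O_X|_U)` is the colimit of the reflexive powers of `F` along multiplication
by `s`, through a cocone whose degree zero leg is the restriction map. -/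
theorem main16150 :
    ∃ ι : RefPow.diagram F s ⟶ (Functor.const ℕ).obj
        ((Scheme.Modules.pushforward U.ι).obj ((Coh.structureModule X).restrict U.ι)),
      ι.app 0 = (Scheme.Modules.restrictAdjunction U.ι).unit.app (Coh.structureModule X) ∧
        Nonempty (IsColimit (Cocone.mk _ ι)) := by
  refine ⟨legNat hX F hF s U hU, leg_zero hX F hF s U hU, ?_⟩
  refine isColimit_of_lifts (RefPow.diagram F s) (J U) (legNat hX F hF s U hU) ?_ ?_
  · intro W hW b
    exact exists_lift_leg hX F hF s U hU W hW b
  · intro n W t h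
    have h1 : (RefPow.diagram F s).map (homOfLE (Nat.le_succ n)) = mulBy s n :=
      RefPow.diagram_map F s n
    rw [h1]
    exact mulBy_app_eq_zero hX F hF s U hU n W t h

end Groth.Agent.Lib.Helper8RefPowF
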