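import Mathlib
import Groth.Prelude
import Groth.Agent.Lib.Helper8RelGZ4
import Groth.Agent.Lib.R2H4GVSch
import Groth.Agent.Lib.Helper6CartDim
import Groth.Agent.S9705

/-!
# Variant of `Helper8RelGZ4.main_nef` with the nefness hypothesis only on closed fibres, and an
application to effective vertical divisors on arithmetic surfaces (helper8)
-/

set_option autoImplicit false
set_option linter.style.haveILetI false
set_option linter.unusedSectionVars false
set_option linter.unusedVariables false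
universe u

open CategoryTheory CategoryTheory.Limits AlgebraicGeometry TopologicalSpace Opposite

namespace Groth.Agent.Lib.Helper8RelGZ5

open Groth.Agent.Lib.R2H2.HHLin Groth.Agent.Lib.R2H2.PnLinRes Groth.Agent.Lib.R2H2.PnSerre
open Groth.Agent.Lib.R2H3.TopBCB Groth.Agent.Lib.R2H3.FibDimLimD
open Groth.Agent.Lib.Helper8NormGen Groth.Agent.Lib.Helper8RelNG Groth.Agent.Lib.Helper8RelGZ1
  Groth.Agent.Lib.Helper8RelGZ2 Groth.Agent.Lib.Helper8RelGZ3 Groth.Agent.Lib.Helper8RelGZ4

attribute [local instance] Groth.Agent.Lib.R2H3.RpushRestrict.hasInjectiveResolutions_modules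

section Nef

variable (A k : Type u) [CommRing A] [Field k] (π : A →+* k)
  {X X' : Scheme.{u}} (f : X ⟶ Spec (CommRingCat.of A)) [IsProper f]
  (f' : X' ⟶ Spec (CommRingCat.of k)) [IsProper f'] (κ : X' ⟶ X) [IsClosedImmersion κ]
  (w : κ ≫ f = f' ≫ Spec.map (CommRingCat.ofHom π))
  (L : X.Modules) (hL : PicF.IsInvertible L)

include w hL in
/-- relative nefness restricts to nefness on a closed fibre -/
theorem isNef_fibre'
    (hnef : ∀ (J : X.IdealSheafData) (t : J.subscheme ⟶ Spec (CommRingCat.of k)),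
      AlgebraicGeometry.IsIntegral J.subscheme → topologicalKrullDim ↥J.subscheme = 1 →
      t ≫ Spec.map (CommRingCat.ofHom π) = J.subschemeι ≫ f →
      0 ≤ @Curv2.deg k _ J.subscheme ⟨t⟩ ((Scheme.Modules.pullback J.subschemeι).obj L) 1) :
    @Groth.Agent.Lib.Helper8NefGZ.IsNef k _ X' ⟨f'⟩ ((Scheme.Modules.pullback κ).obj L) := by
  letI : X'.Over (Spec (CommRingCat.of k)) := ⟨f'⟩
  intro J' hJ' hd
  let C' : Scheme.{u} := J'.subscheme
  let g : C' ⟶ X := J'.subschemeι ≫ κ
  haveI : IsClosedImmersion g := inferInstanceAs (IsClosedImmersion (J'.subschemeι ≫ κ))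
  let J : X.IdealSheafData := g.ker
  let φ : C' ⟶ J.subscheme := g.toImage
  haveI : IsIso φ := inferInstanceAs (IsIso g.toImage)
  have hφ : φ ≫ J.subschemeι = g := g.toImage_imageι
  let t : J.subscheme ⟶ Spec (CommRingCat.of k) := inv φ ≫ J'.subschemeι ≫ f'
  have ht : t ≫ Spec.map (CommRingCat.ofHom π) = J.subschemeι ≫ f := by
    change (inv φ ≫ J'.subschemeι ≫ f') ≫ Spec.map (CommRingCat.ofHom π) = J.subschemeι ≫ f
    simp only [Category.assoc]
    rw [IsIso.inv_comp_eq, ← w, ← Category.assoc, ← Category.assoc]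
    exact congrArg (fun m => m ≫ f) hφ.symm
  haveI : Nonempty J.subscheme := by
    haveI := hJ'
    obtain ⟨c⟩ := (inferInstance : Nonempty C')
    exact ⟨φ c⟩
  have hCint : AlgebraicGeometry.IsIntegral J.subscheme := by
    haveI := hJ'
    exact isIntegral_of_isOpenImmersion (inv φ)
  have hCd : topologicalKrullDim ↥J.subscheme = 1 := by
    rw [← hd]
    exact (IsHomeomorph.topologicalKrullDim_eq _ φ.homeomorph.isHomeomorph).symm
  have h0 := hnef J t hCint hCd ht
  letI iC : J.subscheme.Over (Spec (CommRingCat.of k)) := ⟨t⟩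
  letI iC' : C'.Over (Spec (CommRingCat.of k)) := ⟨J'.subschemeι ≫ f'⟩
  haveI : IsProper (J.subscheme ↘ Spec (CommRingCat.of k)) :=
    inferInstanceAs (IsProper (inv φ ≫ J'.subschemeι ≫ f'))
  haveI : IsProper (C' ↘ Spec (CommRingCat.of k)) :=
    inferInstanceAs (IsProper (J'.subschemeι ≫ f'))
  have hφk : φ ≫ (J.subscheme ↘ Spec (CommRingCat.of k)) = C' ↘ Spec (CommRingCat.of k) := by
    change φ ≫ inv φ ≫ J'.subschemeι ≫ f' = J'.subschemeι ≫ f'
    rw [IsIso.hom_inv_id_assoc]
  haveI hLq : L.IsQuasicoherent := Groth.Agent.Lib.Helper23.SecTw.isQuasicoherent_of_isInvertible L hL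
  have hq : Coh.IsQCoh ((Scheme.Modules.pullback J.subschemeι).obj L) :=
    Groth.Agent.Lib.Helper20.PullbackAff.isQuasicoherent_pullback J.subschemeι L
  have h1 := Groth.Agent.Lib.R2H4IsoDeg.deg_pullback_iso k φ hφk
    ((Scheme.Modules.pullback J.subschemeι).obj L) hq
  let e1 : (Scheme.Modules.pullback φ).obj ((Scheme.Modules.pullback J.subschemeι).obj L) ≅
      (Scheme.Modules.pullback J'.subschemeι).obj ((Scheme.Modules.pullback κ).obj L) :=
    (Scheme.Modules.pullbackComp φ J.subschemeι).app L ≪≫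
      (Scheme.Modules.pullbackCongr hφ).app L ≪≫
      ((Scheme.Modules.pullbackComp J'.subschemeι κ).app L).symm
  haveI := hJ'
  have h2 := Groth.Agent.Lib.R2H1.CurveAmple.deg_congr k C' e1 1
  change 0 ≤ Curv2.deg k C' ((Scheme.Modules.pullback J'.subschemeι).obj
    ((Scheme.Modules.pullback κ).obj L)) 1
  rw [← h2, h1]
  exact h0

end Nef

section MainNef

variable (A : Type u) [CommRing A] [IsNoetherianRing A] {X : Scheme.{u}}
  (f : X ⟶ Spec (CommRingCat.of A)) [IsProper f]
  (h1 : Subsingleton (Coh.HH X (Coh.structureModule X) 1))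
  (hfib : ∀ y : ↥(Spec (CommRingCat.of A)), topologicalKrullDim ↥(f.fiber y) ≤ 1)
  (L : X.Modules) (hL : PicF.IsInvertible L)
  (hnef : ∀ (m : Ideal A) (hm : m.IsMaximal) (J : X.IdealSheafData)
      (t : J.subscheme ⟶ Spec (CommRingCat.of (A ⧸ m))),
      AlgebraicGeometry.IsIntegral J.subscheme → topologicalKrullDim ↥J.subscheme = 1 →
      t ≫ Spec.map (CommRingCat.ofHom (Ideal.Quotient.mk m)) = J.subschemeι ≫ f →
      0 ≤ @Curv2.deg (A ⧸ m) (Ideal.Quotient.field m) J.subscheme ⟨t⟩
        ((Scheme.Modules.pullback J.subschemeι).obj L) 1)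

include h1 hfib hL hnef in
theorem fibreGood_of_nef' : FibreGood A f L := by
  intro m hm
  have hfd : ∀ x, FlatMor.fibreDimAt f x ≤ 1 :=
    Groth.Agent.Lib.R2H3.FibDimLimB.fibreDimAt_le_of_fiber f 1 (by simpa using hfib)
  letI := Ideal.Quotient.field m
  let π : A →+* A ⧸ m := Ideal.Quotient.mk m
  have hπ : Function.Surjective π := Ideal.Quotient.mk_surjective
  let g := Spec.map (CommRingCat.ofHom π)
  let X' := pullback f g
  let κ : X' ⟶ X := pullback.fst f g
  let f' : X' ⟶ Spec (CommRingCat.of (A ⧸ m)) := pullback.snd f g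
  have sq : IsPullback κ f' f g := IsPullback.of_hasPullback f g
  haveI := isClosedImmersion_of_sq A (A ⧸ m) π hπ f f' κ sq
  haveI hp : IsProper f' := MorphismProperty.of_isPullback (P := @IsProper) sq inferInstance
  letI : X'.Over (Spec (CommRingCat.of (A ⧸ m))) := ⟨f'⟩
  haveI : IsProper (X' ↘ Spec (CommRingCat.of (A ⧸ m))) := hp
  have hdim' : topologicalKrullDim X' ≤ 1 := dim_fibre_le A (A ⧸ m) π f f' κ sq hfib
  have h1' : Subsingleton (Coh.HH X' (Coh.structureModule X') 1) :=
    subsingleton_HH_of_closed A (A ⧸ m) π hπ f 1 hfd f' κ sq h1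
  have hinv : PicF.IsInvertible ((Scheme.Modules.pullback κ).obj L) :=
    Groth.Agent.Lib.Helper23.PB.isInvertible_pullback (f := κ) L hL
  have hnef' := isNef_fibre' A (A ⧸ m) π f f' κ sq.w L hL (hnef m hm)
  exact Groth.Agent.Lib.Helper8NefGZ.main (A ⧸ m) X' hdim' h1' _ hinv hnef'

include h1 hfib hL hnef in
/-- **relatively nef ⇒ globally generated with vanishing `H¹`** -/
theorem main_nef' : Curv2.IsGloballyGenerated L ∧ Subsingleton (Coh.HH X L 1) := by
  have hg := fibreGood_of_nef' A f h1 hfib L hL hnef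
  exact ⟨Groth.Agent.Lib.Helper23.SecTw.isGloballyGenerated_of_forall_mem_genLocus L
    (exists_section_of_fibreGood A f hfib L hL hg),
    subsingleton_HH_of_fibreGood A f hfib L hL hg⟩

end MainNef

section ArSurf

variable (R : Type u) [CommRing R] [IsDomain R] [IsDiscreteValuationRing R]

theorem dim_le_one_of_cartier {X Z : Scheme.{u}} (hdim : topologicalKrullDim X = 2) (z : Z ⟶ X)
    [IsClosedImmersion z] (hZ : BlowUp.IsEffCartierIdeal z.ker) : topologicalKrullDim Z ≤ 1 := by
  have h1 := Groth.Agent.Lib.Helper6.CartDim.topologicalKrullDim_preimage_add_one_le z.ker hZ ⊤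
  have h2 : topologicalKrullDim ↥(⊤ : X.Opens) = topologicalKrullDim X :=
    IsHomeomorph.topologicalKrullDim_eq _ (Homeomorph.Set.univ X).isHomeomorph
  have h3 : topologicalKrullDim ↥(z.ker.subschemeι ⁻¹ᵁ (⊤ : X.Opens)) =
      topologicalKrullDim z.ker.subscheme :=
    IsHomeomorph.topologicalKrullDim_eq _ (Homeomorph.Set.univ z.ker.subscheme).isHomeomorph
  haveI : IsIso z.toImage := inferInstance
  have h4 : topologicalKrullDim Z = topologicalKrullDim z.ker.subscheme :=
    IsHomeomorph.topologicalKrullDim_eq _ z.toImage.homeomorph.isHomeomorph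
  rw [h2, hdim, h3, ← h4] at h1
  generalize topologicalKrullDim Z = d at h1
  match d, h1 with
  | ⊥, _ => exact bot_le
  | (⊤ : ℕ∞), h => exact absurd h (by decide)
  | ((n : ℕ) : ℕ∞), h =>
    have h' : (((n + 1 : ℕ) : ℕ∞) : WithBot ℕ∞) ≤ (((2 : ℕ) : ℕ∞) : WithBot ℕ∞) := by
      push_cast
      exact h
    have h'' : ((n + 1 : ℕ) : ℕ∞) ≤ ((2 : ℕ) : ℕ∞) := WithBot.coe_le_coe.1 h'
    have : n + 1 ≤ 2 := Nat.cast_le.1 h''
    have hn : n ≤ 1 := by omega
    have h5 : ((n : ℕ) : ℕ∞) ≤ ((1 : ℕ) : ℕ∞) := Nat.cast_le.2 hn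
    exact WithBot.coe_le_coe.2 (by simpa using h5)

/-- **S7908**: on an effective vertical divisor `Z` with `H¹(O_Z) = 0`, an invertible module with
non-negative degrees on the vertical prime divisors in `Z` has vanishing `H¹` and is globally
generated. -/
theorem main7908 (X : Over (Spec (CommRingCat.of R))) (hX : ArSurf.IsArithSurface R X)
    (Z : Scheme.{u}) (z : Z ⟶ X.left) [IsClosedImmersion z] (hZ : BlowUp.IsEffCartierIdeal z.ker)
    (hH1 : Subsingleton (Coh.HH Z (Coh.structureModule Z) 1))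
    (L : Z.Modules) (hL : PicF.IsInvertible L)
    (hdeg : ∀ (Γ : ArSurf.VertComp R X) (g : Γ.curve.left ⟶ Z), g ≫ z = Γ.ι →
      0 ≤ ArSurf.curveDeg (IsLocalRing.ResidueField R) Γ.curve.left
        ((Scheme.Modules.pullback g).obj L)) :
    Subsingleton (Coh.HH Z L 1) ∧ Curv2.IsGloballyGenerated L := by
  obtain ⟨hreg, hint, hdim, hflat, n, i, hi, hiw⟩ := hX
  haveI := hi
  haveI := Groth.Agent.S9705.isProper_toBase n (Spec (CommRingCat.of R))
  haveI : IsProper X.hom := by rw [← hiw]; infer_instance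
  let f : Z ⟶ Spec (CommRingCat.of R) := z ≫ X.hom
  haveI : IsProper f := inferInstanceAs (IsProper (z ≫ X.hom))
  have hdimZ : topologicalKrullDim Z ≤ 1 := dim_le_one_of_cartier hdim z hZ
  have hfib : ∀ y : ↥(Spec (CommRingCat.of R)), topologicalKrullDim ↥(f.fiber y) ≤ 1 := fun y =>
    ((f.fiberι y).isEmbedding.isInducing.topologicalKrullDim_le).trans hdimZ
  have hnef : ∀ (m : Ideal R) (hm : m.IsMaximal) (J : Z.IdealSheafData)
      (t : J.subscheme ⟶ Spec (CommRingCat.of (R ⧸ m))),
      AlgebraicGeometry.IsIntegral J.subscheme → topologicalKrullDim ↥J.subscheme = 1 →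
      t ≫ Spec.map (CommRingCat.ofHom (Ideal.Quotient.mk m)) = J.subschemeι ≫ f →
      0 ≤ @Curv2.deg (R ⧸ m) (Ideal.Quotient.field m) J.subscheme ⟨t⟩
        ((Scheme.Modules.pullback J.subschemeι).obj L) 1 := by
    intro m hm J t hJint hJdim ht
    obtain rfl : m = IsLocalRing.maximalIdeal R := IsLocalRing.eq_maximalIdeal hm
    let Γ : ArSurf.VertComp R X :=
      { curve := Over.mk (show J.subscheme ⟶ Spec (CommRingCat.of (IsLocalRing.ResidueField R)) from t)
        ι := J.subschemeι ≫ z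
        isClosedImmersion := inferInstance
        isIntegral := hJint
        dim_eq := hJdim
        w := by
          rw [Category.assoc]
          exact ht.symm }
    have h0 := hdeg Γ J.subschemeι rfl
    letI : J.subscheme.Over (Spec (CommRingCat.of (IsLocalRing.ResidueField R))) := ⟨t⟩
    haveI : IsProper (J.subscheme ↘ Spec (CommRingCat.of (IsLocalRing.ResidueField R))) := by
      have hp : IsProper (t ≫ Spec.map (CommRingCat.ofHom (Ideal.Quotient.mk (IsLocalRing.maximalIdeal R)))) := by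
        rw [ht]; infer_instance
      exact IsProper.of_comp t (Spec.map (CommRingCat.ofHom (Ideal.Quotient.mk (IsLocalRing.maximalIdeal R))))
    have e1 := Groth.Agent.Lib.R2H4GVSch.eulerCharLE_eq_euler (IsLocalRing.ResidueField R)
      J.subscheme 1 hJdim.le ((Scheme.Modules.pullback J.subschemeι).obj L)
    have e2 := Groth.Agent.Lib.R2H4GVSch.eulerCharLE_eq_euler (IsLocalRing.ResidueField R)
      J.subscheme 1 hJdim.le (Coh.structureModule J.subscheme)
    unfold ArSurf.curveDeg at h0
    unfold Curv2.deg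
    change 0 ≤ Curv2.euler (IsLocalRing.ResidueField R) J.subscheme _ -
      ((1 : ℕ) : ℤ) * Curv2.euler (IsLocalRing.ResidueField R) J.subscheme _
    rw [← e1, ← e2]
    have h0' : 0 ≤ FGA.eulerCharLE (IsLocalRing.ResidueField R) J.subscheme
        ((Scheme.Modules.pullback J.subschemeι).obj L) 1 -
        FGA.eulerCharLE (IsLocalRing.ResidueField R) J.subscheme
          (Coh.structureModule J.subscheme) 1 := h0
    simpa using h0'
  obtain ⟨hgg, hh1⟩ := main_nef' R f hH1 hfib L hL hnef
  exact ⟨hh1, hgg⟩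

end ArSurf

end Groth.Agent.Lib.Helper8RelGZ5
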