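import Mathlib
import Groth.Agent.S10067

/-!
# Helper8RelLim: formal properties of relatively limit preserving transformations

Uses the cartesian-square criterion `Groth.Agent.S10067.result`.

* `Sq a`: the cartesian-square condition; `rlp_iff_sq`.
* `sq_comp`, `sq_of_comp`: composition and left cancellation (pullback pasting).
* `rlp_fst_of_isPullback`: base change (via an isomorphism of fibre presheaves).
* `main10025`, `main10026`, `main10027`.
-/

set_option autoImplicit false
universe u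
open CategoryTheory CategoryTheory.Limits AlgebraicGeometry
open AlgSp Opposite

namespace Groth.Agent.Helper8RelLim

variable {S : Scheme.{u}}

/-- The cartesian-square condition of `S10067`. -/
def Sq {F G : AlgSp.PSp S} (a : F ⟶ G) : Prop :=
  ∀ ⦃I : Type u⦄ [SmallCategory I] [IsCofiltered I] (D : I ⥤ Over S) (c : Cone D),
    IsLimit ((Over.forget S).mapCone c) → (∀ i, IsAffine (D.obj i).left) → IsAffine c.pt.left →
      IsPullback (colimMap (Functor.whiskerLeft D.op a)) (colimit.desc (D.op ⋙ F) (F.mapCocone c.op))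
        (colimit.desc (D.op ⋙ G) (G.mapCocone c.op)) (a.app (Opposite.op c.pt))

theorem rlp_iff_sq {F G : AlgSp.PSp S} (a : F ⟶ G) : AlgSp.IsRelLimitPreserving a ↔ Sq a :=
  Groth.Agent.S10067.result S a

theorem sq_comm {F G : AlgSp.PSp S} (a : F ⟶ G) {I : Type u} [SmallCategory I] (D : I ⥤ Over S)
    (c : Cone D) :
    colimMap (Functor.whiskerLeft D.op a) ≫ colimit.desc (D.op ⋙ G) (G.mapCocone c.op) =
      colimit.desc (D.op ⋙ F) (F.mapCocone c.op) ≫ a.app (op c.pt) := by
  apply colimit.hom_ext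
  intro j
  rw [ι_colimMap_assoc, colimit.ι_desc, colimit.ι_desc_assoc]
  exact (a.naturality _).symm

theorem colimMap_whisker_comp {F G H : AlgSp.PSp S} (a : F ⟶ G) (b : G ⟶ H) {I : Type u}
    [SmallCategory I] (D : I ⥤ Over S) :
    colimMap (Functor.whiskerLeft D.op (a ≫ b)) =
      colimMap (Functor.whiskerLeft D.op a) ≫ colimMap (Functor.whiskerLeft D.op b) := by
  apply colimit.hom_ext
  intro j
  simp

theorem sq_comp {F G H : AlgSp.PSp S} (a : F ⟶ G) (b : G ⟶ H) (ha : Sq a) (hb : Sq b) :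
    Sq (a ≫ b) := by
  intro I _ _ D c hc hD hT
  have h1 := ha D c hc hD hT
  have h2 := hb D c hc hD hT
  have h3 := h1.paste_horiz h2
  rw [colimMap_whisker_comp]
  exact h3

theorem sq_of_comp {F G H : AlgSp.PSp S} (a : F ⟶ G) (b : G ⟶ H) (hab : Sq (a ≫ b)) (hb : Sq b) :
    Sq a := by
  intro I _ _ D c hc hD hT
  have h1 := hab D c hc hD hT
  have h2 := hb D c hc hD hT
  rw [colimMap_whisker_comp] at h1
  have h1' : IsPullback (colimMap (Functor.whiskerLeft D.op a) ≫ colimMap (Functor.whiskerLeft D.op b))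
      (colimit.desc (D.op ⋙ F) (F.mapCocone c.op)) (colimit.desc (D.op ⋙ H) (H.mapCocone c.op))
      (a.app (op c.pt) ≫ b.app (op c.pt)) := h1
  exact IsPullback.of_right h1' (sq_comm a D c) h2

theorem rlp_fst_of_isPullback {F G H P : AlgSp.PSp S} (a : F ⟶ G) (b : H ⟶ G) (fst : P ⟶ F)
    (snd : P ⟶ H) (hP : IsPullback fst snd a b) (hb : AlgSp.IsRelLimitPreserving b) :
    AlgSp.IsRelLimitPreserving fst := by
  intro T x
  have hPU : ∀ U : (Over S)ᵒᵖ, IsPullback (fst.app U) (snd.app U) (a.app U) (b.app U) := fun U =>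
    hP.map ((evaluation _ _).obj U)
  have hw : ∀ (U : (Over S)ᵒᵖ) (p : P.obj U), a.app U (fst.app U p) = b.app U (snd.app U p) :=
    fun U p => ConcreteCategory.congr_hom (hPU U).w p
  let φ : AlgSp.fiberFun fst T x ⟶ AlgSp.fiberFun b T (a.app (op T) x) :=
    { app := fun U => ↾fun p => ⟨snd.app _ p.1, by
        rw [← hw, p.2, NatTrans.naturality_apply]⟩
      naturality := by
        intro U V g
        ext p
        apply Subtype.ext
        exact NatTrans.naturality_apply snd _ p.1 }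
  haveI : ∀ U, IsIso (φ.app U) := by
    intro U
    rw [isIso_iff_bijective]
    constructor
    · intro p p' hpp
      have h1 : snd.app _ p.1 = snd.app _ p'.1 := congrArg Subtype.val hpp
      have h2 : fst.app _ p.1 = fst.app _ p'.1 := p.2.trans p'.2.symm
      exact Subtype.ext (Types.ext_of_isPullback (hPU _) h2 h1)
    · intro h
      obtain ⟨p, hp1, hp2⟩ := Types.exists_of_isPullback (hPU _)
        (F.map (AlgSp.overHom T U.unop).op x) h.1 (by
          rw [NatTrans.naturality_apply]; exact h.2.symm)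
      exact ⟨⟨p, hp1⟩, Subtype.ext hp2⟩
  haveI : IsIso φ := NatIso.isIso_of_isIso_app φ
  exact (hb T (a.app (op T) x)).of_iso (asIso φ).symm

theorem main10025 {F G H : AlgSp.PSp S} (a : F ⟶ G) (b : G ⟶ H)
    (ha : AlgSp.IsRelLimitPreserving a) (hb : AlgSp.IsRelLimitPreserving b) :
    AlgSp.IsRelLimitPreserving (a ≫ b) :=
  (rlp_iff_sq _).mpr (sq_comp a b ((rlp_iff_sq _).mp ha) ((rlp_iff_sq _).mp hb))

theorem main10026 {F G H : AlgSp.PSp S} (a : F ⟶ G) (b : G ⟶ H)
    (hab : AlgSp.IsRelLimitPreserving (a ≫ b)) (hb : AlgSp.IsRelLimitPreserving b) :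
    AlgSp.IsRelLimitPreserving a :=
  (rlp_iff_sq _).mpr (sq_of_comp a b ((rlp_iff_sq _).mp hab) ((rlp_iff_sq _).mp hb))

theorem main10027 {E F G H P : AlgSp.PSp S}
    (a : F ⟶ G) (b : H ⟶ G) (c : G ⟶ E) (fst : P ⟶ F) (snd : P ⟶ H) (hP : IsPullback fst snd a b)
    (hc : AlgSp.IsRelLimitPreserving c) (hac : AlgSp.IsRelLimitPreserving (a ≫ c))
    (hbc : AlgSp.IsRelLimitPreserving (b ≫ c)) :
    AlgSp.IsRelLimitPreserving (fst ≫ a ≫ c) :=
  main10025 fst (a ≫ c) (rlp_fst_of_isPullback a b fst snd hP (main10026 b c hbc hc)) hac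

end Groth.Agent.Helper8RelLim
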