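import Mathlib
import Groth.Prelude
import Groth.Agent.Lib.Helper8SmoothLift
import Groth.Agent.Lib.H5bFormalBase

set_option autoImplicit false
set_option linter.style.haveILetI false

/-!
# Representable smooth / unramified morphisms of sheaves are formally smooth / unramified
-/

universe u

open CategoryTheory CategoryTheory.Limits AlgebraicGeometry Opposite TopologicalSpace

namespace Groth.Agent.Lib.Helper8RepFormal

open Groth.Agent.Lib.H5bFormal

variable {S : Scheme.{u}}

/-- a representable smooth morphism of fppf sheaves is formally smooth. -/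
theorem formallySmooth_of_repSmooth {F G : AlgSp.Sp S} (a : F ⟶ G) (ha : AlgSp.RepWith @Smooth a) :
    AlgSp.IsFormallySmoothMor a := by
  intro sq
  obtain ⟨W, snd, fst, hsq⟩ := ha.1 sq.bot
  haveI : Smooth snd.left := ha.2 sq.bot fst snd hsq
  obtain ⟨σ₀, hσ₀⟩ :=
    (AlgSp.yon S).map_surjective (hsq.lift sq.top ((AlgSp.yon S).map sq.j) sq.comm)
  have hσ1 : (AlgSp.yon S).map σ₀ ≫ fst = sq.top := by
    rw [hσ₀]
    exact hsq.lift_fst _ _ _
  have hσ2 : σ₀ ≫ snd = sq.j := by
    apply (AlgSp.yon S).map_injective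
    rw [Functor.map_comp, hσ₀]
    exact hsq.lift_snd _ _ _
  have hσ2' : σ₀.left ≫ snd.left = sq.j.left ≫ 𝟙 _ := by
    rw [Category.comp_id, ← Over.comp_left, hσ2]
  obtain ⟨⟨hci, hsj⟩, hker⟩ := isFirstOrderThickening_j sq
  haveI := hci
  haveI : IsAffine sq.ptT.left :=
    inferInstanceAs (IsAffine (Spec (CommRingCat.of (sq.A ⧸ sq.I))))
  obtain ⟨l₀, hl1, hl2⟩ := Groth.Agent.Lib.Helper8SmoothLift.exists_lift_of_smooth snd.left
    sq.j.left hker (𝟙 sq.ptT'.left) σ₀.left hσ2'
  let l₀' : sq.ptT' ⟶ W := Over.homMk l₀ (by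
    rw [← Over.w snd, ← Category.assoc, hl1, Category.id_comp])
  have e1 : sq.j ≫ l₀' = σ₀ := Over.OverMorphism.ext hl2
  have e2 : l₀' ≫ snd = 𝟙 _ := Over.OverMorphism.ext hl1
  refine ⟨(AlgSp.yon S).map l₀' ≫ fst, ?_, ?_⟩
  · rw [← Category.assoc, ← Functor.map_comp, e1, hσ1]
  · rw [Category.assoc, hsq.w, ← Category.assoc, ← Functor.map_comp, e2,
      CategoryTheory.Functor.map_id, Category.id_comp]

/-- a representable unramified morphism of fppf sheaves is formally unramified. -/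
theorem formallyUnramified_of_repUnramified {F G : AlgSp.Sp S} (a : F ⟶ G)
    (ha : AlgSp.RepWith (@LocallyOfFiniteType ⊓ @FormallyUnramified) a) :
    AlgSp.IsFormallyUnramifiedMor a := by
  intro sq l l' h1 h2 h1' h2'
  obtain ⟨W, snd, fst, hsq⟩ := ha.1 sq.bot
  have hP : LocallyOfFiniteType snd.left ∧ FormallyUnramified snd.left :=
    ha.2 sq.bot fst snd hsq
  haveI : FormallyUnramified snd.left := hP.2
  obtain ⟨m₀, hm₀⟩ := (AlgSp.yon S).map_surjective
    (hsq.lift l (𝟙 _) (by rw [h2, Category.id_comp]))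
  obtain ⟨m₀', hm₀'⟩ := (AlgSp.yon S).map_surjective
    (hsq.lift l' (𝟙 _) (by rw [h2', Category.id_comp]))
  have hm1 : (AlgSp.yon S).map m₀ ≫ fst = l := by
    rw [hm₀]
    exact hsq.lift_fst _ _ _
  have hm1' : (AlgSp.yon S).map m₀' ≫ fst = l' := by
    rw [hm₀']
    exact hsq.lift_fst _ _ _
  have hm2 : m₀ ≫ snd = 𝟙 _ := by
    apply (AlgSp.yon S).map_injective
    rw [Functor.map_comp, hm₀, CategoryTheory.Functor.map_id]
    exact hsq.lift_snd _ _ _
  have hm2' : m₀' ≫ snd = 𝟙 _ := by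
    apply (AlgSp.yon S).map_injective
    rw [Functor.map_comp, hm₀', CategoryTheory.Functor.map_id]
    exact hsq.lift_snd _ _ _
  have hm3 : sq.j ≫ m₀ = sq.j ≫ m₀' := by
    apply (AlgSp.yon S).map_injective
    rw [Functor.map_comp, Functor.map_comp]
    apply hsq.hom_ext
    · rw [Category.assoc, hm1, h1, Category.assoc, hm1', h1']
    · have k1 : (AlgSp.yon S).map m₀ ≫ (AlgSp.yon S).map snd = 𝟙 _ := by
        rw [← Functor.map_comp, hm2, CategoryTheory.Functor.map_id]
      have k2 : (AlgSp.yon S).map m₀' ≫ (AlgSp.yon S).map snd = 𝟙 _ := by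
        rw [← Functor.map_comp, hm2', CategoryTheory.Functor.map_id]
      rw [Category.assoc, Category.assoc, k1, k2]
  obtain ⟨⟨hci, hsj⟩, hker⟩ := isFirstOrderThickening_j sq
  haveI := hci
  have hnil : IsNilpotent sq.j.left.ker := ⟨2, by
    rw [pow_two, hker, Scheme.IdealSheafData.zero_eq_bot]⟩
  have e6 : m₀.left = m₀'.left :=
    FormallyUnramified.hom_ext sq.j.left hnil snd.left (congrArg CommaMorphism.left hm3)
      (by rw [← Over.comp_left, ← Over.comp_left, hm2, hm2'])
  rw [← hm1, ← hm1', Over.OverMorphism.ext e6]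

end Groth.Agent.Lib.Helper8RepFormal
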