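-- helper8: well-nigh affine stacks: affine morphisms.
import Mathlib
import Groth.Agent.Lib.Helper8DiagCancel
import Groth.Prelude.Def_W4stkstmodspWNA

set_option autoImplicit false
set_option backward.isDefEq.respectTransparency false
set_option backward.isDefEq.respectTransparency.types false
open CategoryTheory CategoryTheory.Functor CategoryTheory.Limits Opposite AlgebraicGeometry

universe u

namespace Groth.Agent.Lib.Helper8WNA

open Groth.Agent.Lib.Helper17 Groth.Agent.Lib.Helper15PshFib Groth.Agent.Lib.Helper15RepComp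
  Groth.Agent.Lib.Helper15RepPsh Groth.Agent.Lib.Helper15DiagBase
  Groth.Agent.Lib.Helper15SpMapRep Groth.Agent.Lib.Helper15DiagRepSp

section Iso

variable {S : Scheme.{u}}

/-- The functor of an isomorphism of presheaves is an equivalence over the base. -/
theorem isEquivOver_ofPshMap_of_isIso {P Q : AlgSp.PSp S} (a : P ⟶ Q) [IsIso a] :
    FibCat.IsEquivOver (Stk.ofPshMap a) := by
  refine ⟨Stk.ofPshMap (inv a), ⟨pshIsoOfSecEq (fun c => ?_)⟩, ⟨pshIsoOfSecEq (fun c => ?_)⟩⟩
  · rw [pshSec_comp, pshSec_ofPshMap]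
    have h1 : (inv a).app (op c.base) (a.app (op c.base) c.sec) = c.sec := by
      have := congrArg (fun t => t.app (op c.base)) (IsIso.hom_inv_id a)
      exact congrFun (congrArg (fun t => (ConcreteCategory.hom t : _ → _)) this) c.sec
    have h2 : pshSec (BasedFunctor.id (Stk.ofPsh P)) c = c.sec := psh_map_id_op P _
    rw [h2]
    exact (psh_map_id_op P _).trans h1
  · rw [pshSec_comp, pshSec_ofPshMap]
    have h1 : a.app (op c.base) ((inv a).app (op c.base) c.sec) = c.sec := by
      have := congrArg (fun t => t.app (op c.base)) (IsIso.inv_hom_id a)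
      exact congrFun (congrArg (fun t => (ConcreteCategory.hom t : _ → _)) this) c.sec
    have h2 : pshSec (BasedFunctor.id (Stk.ofPsh Q)) c = c.sec := psh_map_id_op Q _
    rw [h2]
    exact (psh_map_id_op Q _).trans h1

end Iso

section WNA

variable {S : Scheme.{u}} {𝒳 𝒳' : AlgSt.Cat S}

/-- An affine morphism to the category of an affine scheme has source the category of an affine
scheme. -/
theorem exists_affine_equiv_of_isAffineMor {U : Over S} (hU : IsAffine U.left)
    (x : FibCat.overCat U ⥤ᵇ 𝒳) (f : 𝒳' ⥤ᵇ 𝒳)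
    (hf : AlgSt.RepByAlgSpWith AlgSp.IsAffineMor f) :
    ∃ (W : Over S) (E : FibCat.overCat W ⥤ᵇ FibCat.fp x f), IsAffine W.left ∧
      FibCat.IsEquivOver E := by
  obtain ⟨F, e, he, hAff⟩ := hf U x
  obtain ⟨W, i, fst, hpb, hW⟩ := hAff hU (𝟙 _)
  have hiso : IsIso fst := hpb.isIso_fst_of_isIso
  have hiso' : IsIso fst.hom := by
    have := (sheafToPresheaf (AlgSp.J S) (Type (u + 1))).map_isIso fst
    exact this
  have h1 : FibCat.IsEquivOver (AlgSt.ofSpMap fst) := isEquivOver_ofPshMap_of_isIso fst.hom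
  exact ⟨W, BasedFunctor.comp (AlgSt.ofOverCat W) (BasedFunctor.comp (AlgSt.ofSpMap fst) e), hW,
    IsEquivOver.comp _ _ (isEquivOver_ofOverCat W) (IsEquivOver.comp _ _ h1 he)⟩

/-- An algebraic stack affine over a well-nigh affine one is well-nigh affine. -/
theorem isWellNighAffine_of_isAffineMor (hw : AlgSt.IsWellNighAffine 𝒳) (f : 𝒳' ⥤ᵇ 𝒳)
    (hf : AlgSt.RepByAlgSpWith AlgSp.IsAffineMor f) : AlgSt.IsWellNighAffine 𝒳' := by
  obtain ⟨U, x, hU, hx⟩ := hw
  obtain ⟨W, E, hW, hE⟩ := exists_affine_equiv_of_isAffineMor hU x f hf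
  refine ⟨W, BasedFunctor.comp E (FibCat.fpSnd x f), hW, ?_⟩
  exact (repByAlgSpWith_of_square _ (FibCat.fpSnd x f) (BasedFunctor.comp E (FibCat.fpSnd x f)) E
    (BasedFunctor.id _) hE (isEquivOver_id _) (Iso.refl _)).1 (repByAlgSpWith_fpSnd _ x f hx)

end WNA

end Groth.Agent.Lib.Helper8WNA
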