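-- helper8: diagonals of morphisms representable by algebraic spaces are representable by schemes.
import Mathlib
import Groth.Agent.Lib.Helper8DiagEq
import Groth.Agent.Lib.Helper8WNA

set_option autoImplicit false
set_option backward.isDefEq.respectTransparency false
set_option backward.isDefEq.respectTransparency.types false
open CategoryTheory CategoryTheory.Functor CategoryTheory.Limits Opposite AlgebraicGeometry

universe u

namespace Groth.Agent.Lib.Helper8RepSch

open Groth.Agent.Lib.Helper17 Groth.Agent.Lib.Helper15PshFib Groth.Agent.Lib.Helper15RepComp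
  Groth.Agent.Lib.Helper15RepPsh Groth.Agent.Lib.Helper15DiagBase Groth.Agent.Lib.Helper15DiagRepSp
  Groth.Agent.Lib.Helper15SpMapRep Groth.Agent.Lib.Helper8DiagEq Groth.Agent.Lib.Helper8WNA

variable {S : Scheme.{u}}

/-- The source is (isomorphic to) a scheme. -/
def SrcRep : MorphismProperty (AlgSp.Sp S) :=
  fun F _ _ => ∃ X : Over S, Nonempty (F ≅ (AlgSp.yon S).obj X)

theorem precompIso_srcRep : PrecompIso (SrcRep (S := S)) := by
  intro A' A T _ _ i m hm
  obtain ⟨X, ⟨j⟩⟩ := hm
  exact ⟨X, ⟨i ≪≫ j⟩⟩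

/-- A functor all of whose base changes to schemes are presented by algebraic spaces isomorphic to
schemes is representable by schemes. -/
theorem isRepresentable1_of_srcRep {𝒜 ℬ : AlgSt.Cat S} (k : 𝒜 ⥤ᵇ ℬ)
    (h : AlgSt.RepByAlgSpWith SrcRep k) : FibCat.IsRepresentable1 k := by
  intro U y
  obtain ⟨H, ε, hε, X, ⟨j⟩⟩ := h U y
  have hiso' : IsIso j.inv.hom := by
    have := (sheafToPresheaf (AlgSp.J S) (Type (u + 1))).map_isIso j.inv
    exact this
  have h1 : FibCat.IsEquivOver (AlgSt.ofSpMap j.inv) := isEquivOver_ofPshMap_of_isIso j.inv.hom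
  have hG : FibCat.IsEquivOver (BasedFunctor.comp (AlgSt.ofOverCat X)
      (BasedFunctor.comp (AlgSt.ofSpMap j.inv) ε)) :=
    IsEquivOver.comp _ _ (isEquivOver_ofOverCat X) (IsEquivOver.comp _ _ h1 hε)
  obtain ⟨I, hI, -, -⟩ := IsEquivOver.exists_inverse_isEquivOver' _ hG
  exact ⟨X, I, hI⟩

variable {𝒳 𝒴 : AlgSt.Cat S}

/-- The diagonal of a morphism representable by algebraic spaces is representable by schemes, as
soon as it is representable by algebraic spaces. -/
theorem isRepresentable1_diag (f : 𝒳 ⥤ᵇ 𝒴) (hf : AlgSt.RepByAlgSp1 f)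
    (hΔ : AlgSt.RepByAlgSp1 (FibCat.diag f)) : FibCat.IsRepresentable1 (FibCat.diag f) := by
  apply isRepresentable1_of_srcRep
  apply repByAlgSpWith_diag_of_eqP' SrcRep precompIso_srcRep f hΔ
  intro U y
  obtain ⟨F, e₀, he₀⟩ := hf U y
  refine ⟨F, e₀, he₀, ?_⟩
  intro T a b hab E e he
  exact ⟨E, ⟨Iso.refl _⟩⟩

end Groth.Agent.Lib.Helper8RepSch
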