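import Mathlib
import Groth.Prelude.Def_NonAbH2
import Groth.Prelude.Def_TwC
import Groth.Agent.Lib.Helper8AS

/-!
# Rigidity of extensions by a torsion-free constant group (helper8)

If `1 → Z_S → E → P → 1` is fppf exact with `E` commutative, `P` quasi-compact and `Z` without
torsion, every endomorphism of the group `E` compatible with both maps is the identity.
-/

set_option autoImplicit false
universe u

open CategoryTheory MonoidalCategory CartesianMonoidalCategory AlgebraicGeometry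
  CategoryTheory.Limits
open scoped MonObj
open Groth.Agent.Lib.Helper8AS

namespace Groth.Agent.Lib.Helper8Rigid

section Grp

variable {S : Scheme.{u}} {G E P : Over S} [GrpObj G] [GrpObj E] [GrpObj P]

lemma mono_of_isPullback (u : G ⟶ E) (v : E ⟶ P)
    (hpb : IsPullback (fst E G) ((E ◁ u) ≫ μ[E]) v v) : Mono u := by
  refine ⟨fun {T} g g' h => ?_⟩
  have h1 : lift (1 : T ⟶ E) g = lift (1 : T ⟶ E) g' := by
    apply hpb.hom_ext
    · rw [lift_fst, lift_fst]
    · rw [lift_whiskerLeft_assoc, lift_whiskerLeft_assoc, h]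
  have h2 := congrArg (fun z => z ≫ snd E G) h1
  simpa only [lift_snd] using h2

lemma exists_translate (u : G ⟶ E) (v : E ⟶ P)
    (hpb : IsPullback (fst E G) ((E ◁ u) ≫ μ[E]) v v) {T : Over S} (a b : T ⟶ E)
    (h : a ≫ v = b ≫ v) : ∃ g : T ⟶ G, a * (g ≫ u) = b := by
  refine ⟨hpb.lift a b h ≫ snd E G, ?_⟩
  have h1 : hpb.lift a b h ≫ fst E G = a := hpb.lift_fst _ _ _
  have h2 : hpb.lift a b h ≫ (E ◁ u) ≫ μ[E] = b := hpb.lift_snd _ _ _
  have h3 : hpb.lift a b h = lift a (hpb.lift a b h ≫ snd E G) :=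
    CartesianMonoidalCategory.hom_ext _ _ (by rw [lift_fst, h1]) (by rw [lift_snd])
  rw [Hom.mul_def, ← lift_whiskerLeft, Category.assoc, ← h3, h2]

lemma isMonHom_of_comp_mono {A B C : Over S} [GrpObj A] [GrpObj B] [GrpObj C]
    (f : A ⟶ B) (g : B ⟶ C) [Mono g] [IsMonHom g] [IsMonHom (f ≫ g)] : IsMonHom f where
  one_hom := by
    rw [← cancel_mono g, Category.assoc, IsMonHom.one_hom (f ≫ g), IsMonHom.one_hom g]
  mul_hom := by
    rw [← cancel_mono g]
    simp only [Category.assoc]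
    rw [IsMonHom.mul_hom (f ≫ g), IsMonHom.mul_hom g, tensorHom_comp_tensorHom_assoc]

end Grp

section Const

variable (S : Scheme.{u}) (M : Type u)

lemma isOpen_copy (m : M) : IsOpen (Set.range (Sigma.ι (fun _ : M => S) m)) := by
  haveI := isOpenImmersion_sigmaι (fun _ : M => S) m
  exact (Sigma.ι (fun _ : M => S) m).isOpenEmbedding.isOpen_range

variable {S M}

lemma copy_unique {m n : M} {x : ↥(∐ fun _ : M => S)}
    (hm : x ∈ Set.range (Sigma.ι (fun _ : M => S) m))
    (hn : x ∈ Set.range (Sigma.ι (fun _ : M => S) n)) : m = n := by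
  obtain ⟨a, rfl⟩ := hm
  obtain ⟨b, hb⟩ := hn
  exact (congrArg Sigma.fst ((sigmaι_eq_iff _ _ _ _ _).mp hb)).symm

lemma factor_all {T : Scheme.{u}} (h : T ⟶ S)
    (y : T ⟶ ∐ fun _ : M => S) (hy : y ≫ Sigma.desc (fun _ : M => 𝟙 S) = h) (m : M)
    (hU : ∀ t : T, y t ∈ Set.range (Sigma.ι (fun _ : M => S) m)) :
    y = h ≫ Sigma.ι (fun _ : M => S) m := by
  haveI := isOpenImmersion_sigmaι (fun _ : M => S) m
  have hr : Set.range y ⊆ Set.range (Sigma.ι (fun _ : M => S) m) := by
    rintro _ ⟨z, rfl⟩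
    exact hU z
  have hl : IsOpenImmersion.lift (Sigma.ι (fun _ : M => S) m) y hr ≫
      Sigma.ι (fun _ : M => S) m = y := IsOpenImmersion.lift_fac _ _ _
  have hl2 : IsOpenImmersion.lift (Sigma.ι (fun _ : M => S) m) y hr = h := by
    have h3 := congrArg (fun k => k ≫ Sigma.desc (fun _ : M => 𝟙 S)) hl
    simp only [Category.assoc, Sigma.ι_desc, Category.comp_id] at h3
    rw [h3, hy]
  calc y = IsOpenImmersion.lift (Sigma.ι (fun _ : M => S) m) y hr ≫
      Sigma.ι (fun _ : M => S) m := hl.symm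
    _ = h ≫ Sigma.ι (fun _ : M => S) m := by rw [hl2]

lemma mem_copy_of_eq {T : Over S} (t : T ⟶ TwC.const S M) (m : M)
    (h : t = toUnit T ≫ TwC.pt S M m) (y : T.left) :
    t.left y ∈ Set.range (Sigma.ι (fun _ : M => S) m) := by
  subst h
  exact ⟨T.hom y, (Scheme.Hom.comp_apply T.hom (Sigma.ι (fun _ : M => S) m) y).symm⟩

/-- the spectrum of the residue field at a point, as an object over `S` -/
noncomputable def ptOb (X : Over S) (x : X.left) : Over S :=
  Over.mk (X.left.fromSpecResidueField x ≫ X.hom)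

noncomputable def pt0 (X : Over S) (x : X.left) : (ptOb X x).left :=
  (default : Spec (X.left.residueField x))

instance (X : Over S) (x : X.left) : Subsingleton (ptOb X x).left :=
  (inferInstance : Subsingleton (Spec (X.left.residueField x)))

noncomputable def ptHom (X : Over S) (x : X.left) : ptOb X x ⟶ X :=
  Over.homMk (X.left.fromSpecResidueField x) rfl

lemma ptHom_pt0 (X : Over S) (x : X.left) : (ptHom X x).left (pt0 X x) = x :=
  Scheme.fromSpecResidueField_apply _ _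

lemma exists_const {X : Over S} (x : X.left) (t : ptOb X x ⟶ TwC.const S M) :
    ∃ m, t = toUnit _ ≫ TwC.pt S M m := by
  obtain ⟨m, hm⟩ := exists_mem_opensRange (fun _ : M => S) (t.left (pt0 X x))
  refine ⟨m, Over.OverMorphism.ext ?_⟩
  have hall : ∀ y : (ptOb X x).left, t.left y ∈ Set.range (Sigma.ι (fun _ : M => S) m) := by
    intro y
    rw [Subsingleton.elim y (pt0 X x)]
    exact hm
  exact factor_all (ptOb X x).hom t.left (Over.w t) m hall

end Const

section PtPow

variable {S : Scheme.{u}} {Z : Type u} [Group Z] {G : Over S} [GrpObj G]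
  {eG : G ≅ TwC.const S Z}

lemma pt_one (hG : TwC.IsConstGrp Z G eG) : TwC.pt S Z 1 ≫ eG.inv = 1 := by
  have h := hG 1 1
  rw [_root_.mul_one] at h
  have h2 : (TwC.pt S Z 1 ≫ eG.inv) * (TwC.pt S Z 1 ≫ eG.inv) =
      (TwC.pt S Z 1 ≫ eG.inv) * 1 := by rw [h, _root_.mul_one]
  exact mul_left_cancel h2

lemma pt_pow (hG : TwC.IsConstGrp Z G eG) (z : Z) (n : ℕ) :
    (TwC.pt S Z z ≫ eG.inv) ^ n = TwC.pt S Z (z ^ n) ≫ eG.inv := by
  induction n with
  | zero => rw [pow_zero, pow_zero, pt_one hG]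
  | succ n ih => rw [pow_succ, ih, hG, ← pow_succ]

end PtPow

section Main

variable {S : Scheme.{u}}

theorem rigid (Z : Type u) [CommGroup Z] (hZ : ∀ z : Z, IsOfFinOrder z → z = 1)
    (P E G : Over S) [GrpObj P] [GrpObj E] [GrpObj G] [IsCommMonObj E] [CompactSpace P.left]
    (eG : G ≅ TwC.const S Z) (hG : TwC.IsConstGrp Z G eG)
    (u : G ⟶ E) (v : E ⟶ P) (hex : NonAbH1.IsExactSeq Scheme.fppfPrecoverage u v)
    (φ : E ⟶ E) [IsMonHom φ] (hφu : u ≫ φ = u) (hφv : φ ≫ v = v) : φ = 𝟙 E := by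
  obtain ⟨hu, hv, huv, hpb, R, hR, hsec⟩ := hex
  haveI := hu
  haveI := hv
  haveI hmono : Mono u := mono_of_isPullback u v hpb
  have hδmon : IsMonHom (φ * (𝟙 E)⁻¹) := by
    rw [Hom.mul_def]; infer_instance
  obtain ⟨δ, hδ⟩ : ∃ δ : E ⟶ E, δ = φ * (𝟙 E)⁻¹ := ⟨_, rfl⟩
  haveI : IsMonHom δ := hδ ▸ hδmon
  have hδv : δ ≫ v = 1 := by
    rw [hδ, MonObj.mul_comp _ _ v, GrpObj.inv_comp _ v, hφv, Category.id_comp,
      _root_.mul_inv_cancel]
  have huδ : u ≫ δ = 1 := by
    rw [hδ, MonObj.comp_mul, GrpObj.comp_inv, hφu, Category.comp_id, _root_.mul_inv_cancel]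
  obtain ⟨δ', hδ'⟩ := exists_translate u v hpb (1 : E ⟶ E) δ (by rw [MonObj.one_comp v, hδv])
  rw [_root_.one_mul] at hδ'
  haveI : IsMonHom (δ' ≫ u) := hδ'.symm ▸ (inferInstance : IsMonHom δ)
  haveI hδ'mon : IsMonHom δ' := isMonHom_of_comp_mono δ' u
  have huδ' : u ≫ δ' = 1 := by
    rw [← cancel_mono u, Category.assoc, hδ', huδ, MonObj.one_comp u]
  have hinv : ∀ {T : Over S} (a b : T ⟶ E), a ≫ v = b ≫ v → a ≫ δ' = b ≫ δ' := by
    intro T a b hab
    obtain ⟨g, hg⟩ := exists_translate u v hpb a b hab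
    rw [← hg, MonObj.mul_comp _ _ δ', Category.assoc, huδ', MonObj.comp_one, _root_.mul_one]
  obtain ⟨d, hd⟩ : ∃ d : E ⟶ TwC.const S Z, d = δ' ≫ eG.hom := ⟨_, rfl⟩
  -- powers of points
  have hpow : ∀ (x : E.left) (z : Z), ptHom E x ≫ d = toUnit _ ≫ TwC.pt S Z z → ∀ n : ℕ,
      ((ptHom E x) ^ n) ≫ d = toUnit _ ≫ TwC.pt S Z (z ^ n) := by
    intro x z hz n
    have h1 : ptHom E x ≫ δ' = toUnit _ ≫ (TwC.pt S Z z ≫ eG.inv) := by
      have h0 := congrArg (fun f => f ≫ eG.inv) hz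
      rw [hd] at h0
      simpa only [Category.assoc, Iso.hom_inv_id, Category.comp_id] using h0
    rw [hd, ← Category.assoc, MonObj.pow_comp _ _ δ', h1, ← MonObj.comp_pow, pt_pow hG,
      Category.assoc, Category.assoc, Iso.inv_hom_id, Category.comp_id]
  -- invariance on points
  have hinvpt : ∀ y y' : E.left, v.left y = v.left y' → d.left y = d.left y' := by
    intro y y' hyy
    obtain ⟨w, hw1, hw2⟩ := Scheme.Pullback.exists_preimage_pullback (f := v.left) (g := v.left)
      y y' hyy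
    have hsnd : pullback.snd v.left v.left ≫ E.hom = pullback.fst v.left v.left ≫ E.hom := by
      rw [← Over.w v, ← Category.assoc, ← Category.assoc, pullback.condition]
    let a : Over.mk (pullback.fst v.left v.left ≫ E.hom) ⟶ E :=
      Over.homMk (pullback.fst v.left v.left) rfl
    let b : Over.mk (pullback.fst v.left v.left ≫ E.hom) ⟶ E :=
      Over.homMk (pullback.snd v.left v.left) hsnd
    have hab : a ≫ v = b ≫ v := Over.OverMorphism.ext pullback.condition
    have h1 : a ≫ d = b ≫ d := by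
      rw [hd, ← Category.assoc, hinv a b hab, Category.assoc]
    have h2 : pullback.fst v.left v.left ≫ d.left = pullback.snd v.left v.left ≫ d.left :=
      congrArg (fun f => f.left) h1
    have h3 := congrArg (fun (f : pullback v.left v.left ⟶ (TwC.const S Z).left) => f w) h2
    simp only [Scheme.Hom.comp_apply] at h3
    rw [hw1, hw2] at h3
    exact h3
  -- the open cover of `P`
  have hR' : R ∈ Scheme.precoverage (@Flat ⊓ @LocallyOfFinitePresentation) P.left := hR
  have hR2 : ∀ ⦃Y : Scheme.{u}⦄ ⦃f : Y ⟶ P.left⦄, R f → Flat f ∧ LocallyOfFinitePresentation f :=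
    fun Y f hf => hR'.2 hf
  let W : Z → Set P.left := fun z => {p | ∃ (S' : Scheme.{u}) (f : S' ⟶ P.left) (_ : R f)
    (s : S' ⟶ E.left) (_ : s ≫ v.left = f) (y : S'), f y = p ∧
      d.left (s y) ∈ Set.range (Sigma.ι (fun _ : Z => S) z)}
  have hWopen : ∀ z, IsOpen (W z) := by
    intro z
    rw [isOpen_iff_forall_mem_open]
    rintro p ⟨S', f, hf, s, hs, y, rfl, hy⟩
    haveI : Flat f := (hR2 hf).1
    haveI : LocallyOfFinitePresentation f := (hR2 hf).2
    refine ⟨f '' ((fun y' => d.left (s y')) ⁻¹'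
      Set.range (Sigma.ι (fun _ : Z => S) z)), ?_, ?_, ?_⟩
    · rintro _ ⟨y', hy', rfl⟩
      exact ⟨S', f, hf, s, hs, y', rfl, hy'⟩
    · apply f.isOpenMap
      exact (isOpen_copy S Z z).preimage (d.left.continuous.comp s.continuous)
    · exact ⟨y, hy, rfl⟩
  have hcover : ∀ p : P.left, ∃ z, p ∈ W z := by
    intro p
    obtain ⟨S', f, hf, y, hy⟩ :=
      (Presieve.mem_comap_jointlySurjectivePrecoverage_iff Scheme.forget).mp hR'.1 p
    obtain ⟨s, hs⟩ := hsec f hf
    obtain ⟨z, hz⟩ := exists_mem_opensRange (fun _ : Z => S) (d.left (s y))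
    exact ⟨z, S', f, hf, s, hs, y, hy, hz⟩
  obtain ⟨t, ht⟩ := isCompact_univ.elim_finite_subcover W hWopen (fun p _ => by
    obtain ⟨z, hz⟩ := hcover p
    exact Set.mem_iUnion.mpr ⟨z, hz⟩)
  have hkey : ∀ (x : E.left) (z : Z), ptHom E x ≫ d = toUnit _ ≫ TwC.pt S Z z → z = 1 := by
    intro x z hz
    have hmem : ∀ n : ℕ, z ^ n ∈ t := by
      intro n
      have h1 : ((ptHom E x) ^ n) ≫ d = toUnit _ ≫ TwC.pt S Z (z ^ n) := hpow x z hz n
      have h2 : d.left (((ptHom E x) ^ n).left (pt0 E x)) ∈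
          Set.range (Sigma.ι (fun _ : Z => S) (z ^ n)) := by
        have h2' := mem_copy_of_eq _ _ h1 (pt0 E x)
        exact h2'
      have h3 := ht (Set.mem_univ (v.left (((ptHom E x) ^ n).left (pt0 E x))))
      obtain ⟨z', hz't, hW⟩ := Set.mem_iUnion₂.mp h3
      obtain ⟨S', f, hf, s, hs, y, hfy, hdy⟩ := hW
      subst hs
      have h4 : v.left (s y) = v.left (((ptHom E x) ^ n).left (pt0 E x)) := by
        rw [← hfy, Scheme.Hom.comp_apply]
      rw [hinvpt _ _ h4] at hdy
      rw [← copy_unique hdy h2]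
      exact hz't
    by_contra hne
    have hinj : Function.Injective (fun n : ℕ => z ^ n) :=
      injective_pow_iff_not_isOfFinOrder.mpr (fun h => hne (hZ z h))
    exact Set.infinite_range_of_injective hinj
      (t.finite_toSet.subset (by rintro _ ⟨n, rfl⟩; exact hmem n))
  have hall : ∀ x : E.left, d.left x ∈ Set.range (Sigma.ι (fun _ : Z => S) (1 : Z)) := by
    intro x
    obtain ⟨z, hz⟩ := exists_const x (ptHom E x ≫ d)
    have hz1 : z = 1 := hkey x z hz
    have h1 := mem_copy_of_eq (ptHom E x ≫ d) z hz (pt0 E x)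
    rw [hz1] at h1
    have hx : (ptHom E x ≫ d).left (pt0 E x) = d.left ((ptHom E x).left (pt0 E x)) :=
      Scheme.Hom.comp_apply _ _ _
    rw [hx, ptHom_pt0] at h1
    exact h1
  have hdl : d.left = E.hom ≫ Sigma.ι (fun _ : Z => S) (1 : Z) :=
    factor_all E.hom d.left (Over.w d) 1 hall
  have hd1 : d = toUnit E ≫ TwC.pt S Z 1 := Over.OverMorphism.ext hdl
  have hδ'1 : δ' = 1 := by
    have h0 : δ' = d ≫ eG.inv := by rw [hd, Category.assoc, Iso.hom_inv_id, Category.comp_id]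
    rw [h0, hd1, Category.assoc, pt_one hG, MonObj.comp_one]
  have hδ1 : δ = 1 := by rw [← hδ', hδ'1, MonObj.one_comp u]
  rw [hδ] at hδ1
  exact mul_inv_eq_one.mp hδ1

end Main

end Groth.Agent.Lib.Helper8Rigid
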