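import Groth.Prelude
import Groth.Agent.Lib.Helper8ShriekExact

/-!
# `f_!` preserves colimits and is a left adjoint, for `f` separated and locally quasi-finite
(helper8)
-/

set_option autoImplicit false
universe u
open CategoryTheory CategoryTheory.Limits AlgebraicGeometry Opposite

namespace Groth.Agent.Lib.Helper8ShriekAdj

open Groth.Agent.Lib.Helper8FinPushDecomp Groth.Agent.Lib.Helper8FinPushStalk
open Groth.Agent.Lib.Helper8ShriekSupp Groth.Agent.Lib.Helper8ShriekStalk
open Groth.Agent.Lib.Helper8ShriekExact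

variable {X Y : Scheme.{u}} (f : X ⟶ Y) [IsSeparated f] [LocallyOfFiniteType f]
  [LocallyQuasiFinite f]

section

variable {Ω : Type u} [Field Ω] [IsAlgClosed Ω] (η : Spec (CommRingCat.of Ω) ⟶ Y)
  {J : Type (u + 1)} (A : J → EtCoh.Ab X)

/-- the presheaf-stalk functor of `f_!` -/
noncomputable abbrev G' : EtCoh.Ab X ⥤ AddCommGrpCat.{u + 1} :=
  EtShriek.lowerShriekPreFunctor f ⋙
    (Scheme.pointSmallEtale η).presheafFiber (A := AddCommGrpCat.{u + 1})

set_option backward.isDefEq.respectTransparency.types false in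
theorem isColimit_presheafFiber_cofan :
    Nonempty (IsColimit (Cofan.mk ((G' f η).obj (∐ A))
      (fun j => (G' f η).map (Sigma.ι A j)))) := by
  classical
  apply Groth.Agent.Lib.Helper8AbCoprod.isColimit_cofan_of_double
    (fun j => (G' f η).obj (A j)) ((G' f η).obj (∐ A))
    (fun j => (G' f η).map (Sigma.π A j)) (fun j => (G' f η).map (Sigma.ι A j))
    ?_ ?_
    (fun ξ : Pts f η => (EtCoh.stalk ξ.1).obj (∐ A))
    (fun j (ξ : Pts f η) => (EtCoh.stalk ξ.1).obj (A j))
    (fun ξ => c f (∐ A) ξ) (fun j ξ => c f (A j) ξ)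
    (fun j ξ => (EtCoh.stalk ξ.1).map (Sigma.π A j))
    (fun j ξ x => c_naturality f (Sigma.π A j) ξ x)
    (finite_c_ne_zero f (∐ A)) (eq_zero_of_c_eq_zero f (∐ A))
    (fun j => eq_zero_of_c_eq_zero f (A j)) ?_
  · intro j t
    have e : (G' f η).map (Sigma.ι A j) ≫ (G' f η).map (Sigma.π A j) = 𝟙 _ := by
      rw [← Functor.map_comp, Sigma.ι_π_eq_id, CategoryTheory.Functor.map_id]
    exact congrArg (fun k => k.hom t) e
  · intro j t k hk
    have e : (G' f η).map (Sigma.ι A j) ≫ (G' f η).map (Sigma.π A k) = 0 := by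
      rw [← Functor.map_comp, Sigma.ι_π_of_ne A hk.symm, Functor.map_zero]
    exact congrArg (fun k => k.hom t) e
  · intro ξ y
    have hc : IsColimit (Cofan.mk ((EtCoh.stalk ξ.1).obj (∐ A))
        (fun j => (EtCoh.stalk ξ.1).map (Sigma.ι A j))) :=
      isColimitOfHasCoproductOfPreservesColimit (EtCoh.stalk ξ.1) A
    refine Groth.Agent.Lib.Helper8AbCoprod.retractions_of_isColimit
      (fun j => (EtCoh.stalk ξ.1).obj (A j)) ((EtCoh.stalk ξ.1).obj (∐ A))
      (fun j => (EtCoh.stalk ξ.1).map (Sigma.π A j))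
      (fun j => (EtCoh.stalk ξ.1).map (Sigma.ι A j)) hc ?_ ?_ y
    · intro j t
      have e : (EtCoh.stalk ξ.1).map (Sigma.ι A j) ≫ (EtCoh.stalk ξ.1).map (Sigma.π A j) =
          𝟙 _ := by
        rw [← Functor.map_comp, Sigma.ι_π_eq_id, CategoryTheory.Functor.map_id]
      exact congrArg (fun k => k.hom t) e
    · intro j t k hk
      have e : (EtCoh.stalk ξ.1).map (Sigma.ι A j) ≫ (EtCoh.stalk ξ.1).map (Sigma.π A k) =
          0 := by
        rw [← Functor.map_comp, Sigma.ι_π_of_ne A hk.symm, Functor.map_zero]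
      exact congrArg (fun k => k.hom t) e

end

section

variable {J : Type (u + 1)} (A : J → EtCoh.Ab X)

set_option backward.isDefEq.respectTransparency.types false in
theorem isIso_sigmaComparison : IsIso (sigmaComparison (EtShriek.lowerShriek f) A) := by
  apply Groth.Agent.Lib.Helper8EtStalkAlg.isIso_of_stalks
  intro Ω _ _ η
  obtain ⟨h1⟩ := isColimit_presheafFiber_cofan f η A
  let e : EtShriek.lowerShriek f ⋙ EtCoh.stalk η ≅ G' f η :=
    Functor.associator _ _ _ ≪≫ Functor.isoWhiskerLeft (EtShriek.lowerShriekPreFunctor f)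
      ((Scheme.pointSmallEtale η).presheafToSheafCompSheafFiberIso AddCommGrpCat.{u + 1})
  haveI : PreservesColimit (Discrete.functor A) (G' f η) :=
    preservesColimit_of_preserves_colimit_cocone (coproductIsCoproduct A)
      ((isColimitMapCoconeCofanMkEquiv _ _ _).symm h1)
  haveI : PreservesColimit (Discrete.functor A) (EtShriek.lowerShriek f ⋙ EtCoh.stalk η) :=
    preservesColimit_of_natIso (Discrete.functor A) e.symm
  have hc2 : IsColimit (Cofan.mk ((EtShriek.lowerShriek f ⋙ EtCoh.stalk η).obj (∐ A))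
      (fun j => (EtShriek.lowerShriek f ⋙ EtCoh.stalk η).map (Sigma.ι A j))) :=
    isColimitOfHasCoproductOfPreservesColimit (EtShriek.lowerShriek f ⋙ EtCoh.stalk η) A
  have hc1 : IsColimit (Cofan.mk
      ((EtCoh.stalk η).obj (∐ fun j => (EtShriek.lowerShriek f).obj (A j)))
      (fun j => (EtCoh.stalk η).map (Sigma.ι (fun j => (EtShriek.lowerShriek f).obj (A j)) j))) :=
    isColimitOfHasCoproductOfPreservesColimit (EtCoh.stalk η)
      (fun j => (EtShriek.lowerShriek f).obj (A j))
  have hm : (EtCoh.stalk η).map (sigmaComparison (EtShriek.lowerShriek f) A) =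
      (hc1.coconePointUniqueUpToIso hc2).hom := by
    apply Cofan.IsColimit.hom_ext hc1
    intro j
    have e1 := IsColimit.comp_coconePointUniqueUpToIso_hom hc1 hc2 ⟨j⟩
    refine Eq.trans ?_ e1.symm
    change (EtCoh.stalk η).map (Sigma.ι (fun j => (EtShriek.lowerShriek f).obj (A j)) j) ≫
      (EtCoh.stalk η).map (sigmaComparison (EtShriek.lowerShriek f) A) =
      (EtCoh.stalk η).map ((EtShriek.lowerShriek f).map (Sigma.ι A j))
    rw [← Functor.map_comp, ι_comp_sigmaComparison]
  have hiso : IsIso ((EtCoh.stalk η).map (sigmaComparison (EtShriek.lowerShriek f) A)) := by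
    rw [hm]; infer_instance
  exact ConcreteCategory.bijective_of_isIso _

instance preservesColimit_discrete :
    PreservesColimit (Discrete.functor A) (EtShriek.lowerShriek f) := by
  haveI := isIso_sigmaComparison f A
  exact PreservesCoproduct.of_iso_comparison (EtShriek.lowerShriek f) A

end

instance preservesColimitsOfShape_discrete (J : Type (u + 1)) :
    PreservesColimitsOfShape (Discrete J) (EtShriek.lowerShriek f) :=
  preservesColimitsOfShape_of_discrete _

theorem preservesColimits : PreservesColimitsOfSize.{u + 1, u + 1} (EtShriek.lowerShriek f) := by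
  haveI : PreservesFiniteColimits (EtShriek.lowerShriek f) :=
    (preservesFiniteLimits_and_colimits f).2
  have h : ∀ J : Type (u + 1), PreservesColimitsOfShape (Discrete J) (EtShriek.lowerShriek f) :=
    fun J => preservesColimitsOfShape_discrete f J
  exact @preservesColimits_of_preservesCoequalizers_and_coproducts.{u + 1} _ _ _ _ _
    (fun J => inferInstance) (EtShriek.lowerShriek f) inferInstance h

theorem isLeftAdjoint : (EtShriek.lowerShriek f).IsLeftAdjoint := by
  haveI := preservesColimits f
  haveI : WellPowered.{u + 1} (EtCoh.Ab X)ᵒᵖ := Abelian.wellPowered_opposite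
  exact isLeftAdjoint_of_preservesColimits_of_isSeparating
    (isSeparator_separator (EtCoh.Ab X)) _

end Groth.Agent.Lib.Helper8ShriekAdj
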