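import Groth.Prelude
import Groth.Agent.Lib.Helper8ShriekExact
import Groth.Agent.Lib.Helper8ShriekSheaf
import Groth.Agent.Lib.Helper8ShriekSections

/-!
# `f_!` commutes with direct sums (helper8)
-/

set_option autoImplicit false
universe w v u
open CategoryTheory CategoryTheory.Limits AlgebraicGeometry Opposite

namespace Groth.Agent.Lib.Helper8ShriekCoprod

section preadditive

variable {C : Type*} [Category C] [Preadditive C] {β : Type w} [DecidableEq β] (f : β → C)
  [HasCoproduct f]

/-- the complementary idempotent `1 - ∑_{i ∈ S} π_i ι_i` of a coproduct -/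
noncomputable def cut (S : Finset β) : ∐ f ⟶ ∐ f :=
  𝟙 _ - ∑ i ∈ S, Sigma.π f i ≫ Sigma.ι f i

lemma ι_cut {S : Finset β} {i : β} (hi : i ∈ S) : Sigma.ι f i ≫ cut f S = 0 := by
  unfold cut
  rw [Preadditive.comp_sub, Preadditive.comp_sum, Category.comp_id, sub_eq_zero]
  rw [Finset.sum_eq_single i]
  · rw [Sigma.ι_π_eq_id_assoc]
  · intro j _ hj
    rw [Sigma.ι_π_of_ne_assoc f (Ne.symm hj), zero_comp]
  · intro h; exact absurd hi h

lemma cut_cut {S S' : Finset β} (h : S ⊆ S') : cut f S ≫ cut f S' = cut f S' := by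
  conv_lhs => rw [cut, Preadditive.sub_comp, Category.id_comp, Preadditive.sum_comp]
  rw [sub_eq_self]
  apply Finset.sum_eq_zero
  intro i hi
  rw [Category.assoc, ι_cut f (h hi), comp_zero]

end preadditive

section ab

/-- a subgroup of the point of a colimit cofan of abelian groups containing the images of all the
injections is everything -/
lemma eq_top_of_isColimit {ι : Type*} {Z : ι → AddCommGrpCat.{v}} (c : Cofan Z) (hc : IsColimit c)
    (H : AddSubgroup c.pt) (h : ∀ i (t : Z i), c.inj i t ∈ H) : H = ⊤ := by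
  let q : c.pt ⟶ AddCommGrpCat.of (c.pt ⧸ H) := AddCommGrpCat.ofHom (QuotientAddGroup.mk' H)
  have hq : q = 0 := by
    apply Cofan.IsColimit.hom_ext hc
    intro i
    ext t
    change QuotientAddGroup.mk' H (c.inj i t) = 0
    exact (QuotientAddGroup.eq_zero_iff _).mpr (h i t)
  rw [eq_top_iff]
  intro x _
  have := congrArg (fun m => m x) hq
  exact (QuotientAddGroup.eq_zero_iff _).mp this

end ab

section scheme

open Groth.Agent.Lib.Helper16.EtStalk Groth.Agent.Lib.Helper16.SmallEtale
open Groth.Agent.Lib.Helper16.StalkPull Groth.Agent.Lib.Helper16.EtSupp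
open Groth.Agent.Lib.Helper8ShriekSupp

open Classical in
set_option backward.isDefEq.respectTransparency.types false in
/-- every section of a coproduct of abelian etale sheaves is, locally, killed by the complementary
idempotent of a finite subset of the index set -/
theorem exists_cut_notMem {X : Scheme.{u}} {ι : Type u} (F : ι → EtCoh.Ab X) (U : X.Etale)
    (s : (∐ F).obj.obj (op U)) (p : U.left) :
    ∃ S : Finset ι, p ∉ EtShriek.sectSupp (∐ F) U ((cut F S).hom.app (op U) s) := by
  obtain ⟨Ω, _, _, ξ, x₀, hx₀⟩ := exists_geometric_point U p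
  let st := EtCoh.stalk ξ
  have hc : IsColimit (Cofan.mk (st.obj (∐ F)) fun i => st.map (Sigma.ι F i)) :=
    (isColimitMapCoconeCofanMkEquiv st F (Sigma.ι F))
      (isColimitOfPreserves st (coproductIsCoproduct F))
  let H : AddSubgroup (st.obj (∐ F)) :=
    { carrier := {σ | ∃ S : Finset ι, st.map (cut F S) σ = 0}
      zero_mem' := ⟨∅, map_zero _⟩
      add_mem' := by
        rintro σ₁ σ₂ ⟨S₁, h₁⟩ ⟨S₂, h₂⟩
        refine ⟨S₁ ∪ S₂, ?_⟩
        have e₁ : st.map (cut F (S₁ ∪ S₂)) σ₁ = 0 := by
          rw [← cut_cut F (Finset.subset_union_left (s₁ := S₁) (s₂ := S₂)), Functor.map_comp,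
            ConcreteCategory.comp_apply, h₁, map_zero]
        have e₂ : st.map (cut F (S₁ ∪ S₂)) σ₂ = 0 := by
          rw [← cut_cut F (Finset.subset_union_right (s₁ := S₁) (s₂ := S₂)), Functor.map_comp,
            ConcreteCategory.comp_apply, h₂, map_zero]
        rw [map_add, e₁, e₂, add_zero]
      neg_mem' := by
        rintro σ ⟨S, h⟩
        exact ⟨S, by rw [map_neg, h, neg_zero]⟩ }
  have hH : H = ⊤ := by
    apply eq_top_of_isColimit _ hc
    intro i t
    refine ⟨{i}, ?_⟩
    change st.map (cut F {i}) (st.map (Sigma.ι F i) t) = 0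
    rw [← ConcreteCategory.comp_apply, ← Functor.map_comp, ι_cut F (Finset.mem_singleton_self i),
      Functor.map_zero]
    rfl
  have hmem : germ ξ (∐ F) U x₀ s ∈ H := by rw [hH]; trivial
  obtain ⟨S, hS⟩ := hmem
  refine ⟨S, ?_⟩
  rw [← germ_eq_zero_iff (∐ F) ξ U x₀ _ p hx₀, ← hS]
  exact ((Scheme.pointSmallEtale ξ).toPresheafFiber_naturality_apply (cut F S).hom U x₀ s).symm

open Classical in
set_option backward.isDefEq.respectTransparency.types false in
/-- a section of a coproduct of abelian etale sheaves with quasi-compact support lies in a finite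
subsum -/
theorem exists_cut_eq_zero_of_compact {X : Scheme.{u}} {ι : Type u} (F : ι → EtCoh.Ab X)
    (P : X.Etale) (r : (∐ F).obj.obj (op P)) (Z : Set P.left) (hZ : IsCompact Z)
    (hr : EtShriek.sectSupp (∐ F) P r ⊆ Z) :
    ∃ S : Finset ι, (cut F S).hom.app (op P) r = 0 := by
  choose Sz hSz using fun z : P.left => exists_cut_notMem F P r z
  let O : P.left → Set P.left := fun z =>
    (EtShriek.sectSupp (∐ F) P ((cut F (Sz z)).hom.app (op P) r))ᶜ
  have hO : ∀ z, IsOpen (O z) := fun z =>
    (Groth.Agent.Lib.Helper8EtFinPush.isClosed_sectSupp (∐ F) P _).isOpen_compl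
  have hcov : Z ⊆ ⋃ z, O z := fun z _ => Set.mem_iUnion.mpr ⟨z, hSz z⟩
  obtain ⟨t, ht⟩ := hZ.elim_finite_subcover O hO hcov
  refine ⟨t.biUnion Sz, ?_⟩
  apply eq_zero_of_sectSupp_empty
  rw [Set.eq_empty_iff_forall_notMem]
  intro x hx
  have hxZ : x ∈ Z := hr (EtShriek.sectSupp_map_subset (cut F (t.biUnion Sz)) P r hx)
  obtain ⟨z, hz, hxz⟩ : ∃ z ∈ t, x ∈ O z := by simpa using ht hxZ
  apply hxz
  have e : (cut F (t.biUnion Sz)).hom.app (op P) r =
      (cut F (t.biUnion Sz)).hom.app (op P) ((cut F (Sz z)).hom.app (op P) r) := by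
    conv_lhs => rw [← cut_cut F (Finset.subset_biUnion_of_mem Sz hz)]
    rfl
  rw [e] at hx
  exact EtShriek.sectSupp_map_subset (cut F (t.biUnion Sz)) P _ hx

open Classical in
set_option backward.isDefEq.respectTransparency.types false in
/-- a morphism into a coproduct of abelian etale sheaves that is fixed by all complementary
idempotents vanishes -/
theorem eq_zero_of_comp_cut {X : Scheme.{u}} {ι : Type u} (F : ι → EtCoh.Ab X) {K : EtCoh.Ab X}
    (k : K ⟶ ∐ F) (hk : ∀ S : Finset ι, k ≫ cut F S = k) : k = 0 := by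
  ext U y
  induction U using Opposite.rec with | _ U => ?_
  change k.hom.app (op U) y = 0
  apply eq_zero_of_sectSupp_empty
  rw [Set.eq_empty_iff_forall_notMem]
  intro p hp
  obtain ⟨S, hS⟩ := exists_cut_notMem F U (k.hom.app (op U) y) p
  apply hS
  have e : (cut F S).hom.app (op U) (k.hom.app (op U) y) = k.hom.app (op U) y := by
    conv_rhs => rw [← hk S]
    rfl
  rw [e]
  exact hp

theorem isCompact_of_isProperOver {P V : Scheme.{u}} (g : P ⟶ V) [CompactSpace V] (Z : Set P)
    (hZ : ClSub.IsProperOver g Z) : IsCompact Z := by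
  obtain ⟨h, hp⟩ := hZ
  haveI : IsProper (Groth.Agent.Lib.Helper1.redι Z h ≫ g) := hp
  haveI := QuasiCompact.compactSpace_of_compactSpace (Groth.Agent.Lib.Helper1.redι Z h ≫ g)
  rw [← Groth.Agent.Lib.Helper1.range_redι Z h]
  exact isCompact_range (Groth.Agent.Lib.Helper1.redι Z h).continuous

variable {X Y : Scheme.{u}} (f : X ⟶ Y) [LocallyOfFiniteType f] {ι : Type u}
  (F : ι → EtCoh.Ab X)

open Groth.Agent.Lib.Helper8ShriekSections in
open Classical in
set_option backward.isDefEq.respectTransparency.types false in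
/-- every section of `f_! (∐ F)` is locally killed by `f_!` of a complementary idempotent -/
theorem exists_map_cut_eq_zero (V : Y.Etale)
    (x : ((EtShriek.lowerShriek f).obj (∐ F)).obj.obj (op V)) (v : V.left) :
    ∃ (V' : Y.Etale) (g : V' ⟶ V) (v' : V'.left) (S : Finset ι), g.left v' = v ∧
      ((EtShriek.lowerShriek f).map (cut F S)).hom.app (op V')
        (((EtShriek.lowerShriek f).obj (∐ F)).obj.map g.op x) = 0 := by
  obtain ⟨O, hO, hvO, -⟩ := exists_isAffineOpen_mem_and_subset (x := v) (U := ⊤) trivial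
  let V' : Y.Etale := Scheme.Etale.mk (O.ι ≫ V.hom)
  let g : V' ⟶ V := MorphismProperty.Over.homMk O.ι rfl
  haveI : IsAffine V'.left := hO
  obtain ⟨r, hr⟩ := (sec_bijective f (∐ F) V').2
    (((EtShriek.lowerShriek f).obj (∐ F)).obj.map g.op x)
  obtain ⟨Z, hZ, hprop⟩ := hasProperSupport_of_mem f (∐ F) V' r.1 r.2
  have hcomp : IsCompact Z := isCompact_of_isProperOver (EtShriek.prV f V') Z hprop
  obtain ⟨S, hS⟩ := exists_cut_eq_zero_of_compact F ((EtCoh.bc f).obj V') r.1 Z hcomp hZ
  refine ⟨V', g, ⟨v, hvO⟩, S, rfl, ?_⟩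
  rw [← hr, map_sec]
  have e : ((EtShriek.lowerShriekPreFunctor f).map (cut F S)).app (op V') r = 0 := by
    apply Subtype.ext
    exact hS
  rw [e]
  exact sec_zero f (∐ F) V'

open Classical in
set_option backward.isDefEq.respectTransparency.types false in
/-- a morphism out of `f_! (∐ F)` fixed by `f_!` of all complementary idempotents vanishes -/
theorem eq_zero_of_map_cut_comp {Q : EtCoh.Ab Y} (q : (EtShriek.lowerShriek f).obj (∐ F) ⟶ Q)
    (hq : ∀ S : Finset ι, (EtShriek.lowerShriek f).map (cut F S) ≫ q = q) : q = 0 := by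
  ext V x
  induction V using Opposite.rec with | _ V => ?_
  change q.hom.app (op V) x = 0
  apply Groth.Agent.S0102.section_eq_zero_of_locally
  intro v
  obtain ⟨V', g, v', S, hv', h0⟩ := exists_map_cut_eq_zero f F V x v
  refine ⟨V', g, v', hv', ?_⟩
  rw [← NatTrans.naturality_apply q.hom g.op x]
  have e : q.hom.app (op V') (((EtShriek.lowerShriek f).obj (∐ F)).obj.map g.op x) =
      q.hom.app (op V') (((EtShriek.lowerShriek f).map (cut F S)).hom.app (op V')
        (((EtShriek.lowerShriek f).obj (∐ F)).obj.map g.op x)) := by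
    conv_lhs => rw [← hq S]
    rfl
  rw [e, h0, map_zero]

open Classical in
/-- **`f_!` commutes with direct sums**: the comparison map is an isomorphism. -/
theorem isIso_sigmaComparison : IsIso (sigmaComparison (EtShriek.lowerShriek f) F) := by
  have hmono : Mono (sigmaComparison (EtShriek.lowerShriek f) F) := by
    apply Abelian.mono_of_kernel_ι_eq_zero
    apply eq_zero_of_comp_cut (fun i => (EtShriek.lowerShriek f).obj (F i))
    intro S
    have hp : ∀ i, sigmaComparison (EtShriek.lowerShriek f) F ≫
        (EtShriek.lowerShriek f).map (Sigma.π F i) =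
          Sigma.π (fun i => (EtShriek.lowerShriek f).obj (F i)) i := by
      intro i
      apply Sigma.hom_ext
      intro j
      rw [ι_comp_sigmaComparison_assoc, ← Functor.map_comp]
      by_cases h : j = i
      · subst h
        rw [Sigma.ι_π_eq_id, Sigma.ι_π_eq_id, CategoryTheory.Functor.map_id]
      · rw [Sigma.ι_π_of_ne _ h, Sigma.ι_π_of_ne _ h, Functor.map_zero]
    have hk : ∀ i, kernel.ι (sigmaComparison (EtShriek.lowerShriek f) F) ≫
        Sigma.π (fun i => (EtShriek.lowerShriek f).obj (F i)) i = 0 := by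
      intro i
      rw [← hp i, kernel.condition_assoc, zero_comp]
    unfold cut
    rw [Preadditive.comp_sub, Category.comp_id, Preadditive.comp_sum, sub_eq_self]
    apply Finset.sum_eq_zero
    intro i _
    rw [← Category.assoc, hk i, zero_comp]
  have hepi : Epi (sigmaComparison (EtShriek.lowerShriek f) F) := by
    apply Abelian.epi_of_cokernel_π_eq_zero
    apply eq_zero_of_map_cut_comp f F
    intro S
    have hι : ∀ i, (EtShriek.lowerShriek f).map (Sigma.ι F i) ≫
        cokernel.π (sigmaComparison (EtShriek.lowerShriek f) F) = 0 := by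
      intro i
      rw [← ι_comp_sigmaComparison, Category.assoc, cokernel.condition, comp_zero]
    unfold cut
    rw [Functor.map_sub, CategoryTheory.Functor.map_id, Functor.map_sum, Preadditive.sub_comp, Category.id_comp,
      Preadditive.sum_comp, sub_eq_self]
    apply Finset.sum_eq_zero
    intro i _
    rw [Functor.map_comp, Category.assoc, hι i, comp_zero]
  exact isIso_of_mono_of_epi _

open Classical in
theorem preservesColimitsOfShape_discrete :
    PreservesColimitsOfShape (Discrete ι) (EtShriek.lowerShriek f) := by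
  haveI : ∀ F : ι → EtCoh.Ab X, PreservesColimit (Discrete.functor F) (EtShriek.lowerShriek f) :=
    fun F => by
      haveI := isIso_sigmaComparison f F
      exact PreservesCoproduct.of_iso_comparison (EtShriek.lowerShriek f) F
  exact preservesColimitsOfShape_of_discrete (EtShriek.lowerShriek f)

end scheme

end Groth.Agent.Lib.Helper8ShriekCoprod
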