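import Groth.Prelude
import Groth.Agent.Lib.Helper8ShriekOpen

/-!
# Sections with compact support as global sections of `p_!` (helper8)
-/

set_option autoImplicit false
universe u
open CategoryTheory CategoryTheory.Limits AlgebraicGeometry Opposite

namespace Groth.Agent.Lib.Helper8ShriekH0c

open Groth.Agent.Lib.Helper16.EtStalk Groth.Agent.Lib.Helper16.SmallEtale
open Groth.Agent.Lib.Helper8ShriekSupp Groth.Agent.Lib.Helper8ShriekStalk
open Groth.Agent.Lib.Helper8ShriekSheaf Groth.Agent.Lib.Helper8ProperOverLocal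
open Groth.Agent.Lib.Helper8ShriekSections Groth.Agent.Lib.Helper8ShriekComp
open Groth.Agent.Lib.Helper8ShriekOpen
open Groth.Agent.Lib.Helper1

section TopIso

variable {X Y : Scheme.{u}} (f : X ⟶ Y)

/-- `Y ×_Y X ≅ X` -/
noncomputable def leftIso : pullback (𝟙 Y) f ≅ X :=
  haveI : IsIso (pullback.snd (𝟙 Y) f) := pullback_snd_iso_of_left_iso (𝟙 Y) f
  asIso (pullback.snd (𝟙 Y) f)

theorem leftIso_hom : (leftIso f).hom = pullback.snd (𝟙 Y) f := rfl

set_option backward.isDefEq.respectTransparency.types false in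
/-- `X ×_Y Y ≅ X` in the small étale site of `X`. -/
noncomputable def topIso : (EtCoh.bc f).obj (EtCoh.top Y) ≅ EtCoh.top X :=
  MorphismProperty.Over.isoMk (leftIso f) (by
    change (leftIso f).hom ≫ 𝟙 X = pullback.snd (𝟙 Y) f
    rw [Category.comp_id, leftIso_hom])

set_option backward.isDefEq.respectTransparency.types false in
theorem topIso_hom_left : (topIso f).hom.left = pullback.snd (𝟙 Y) f := rfl

set_option backward.isDefEq.respectTransparency.types false in
theorem topIso_hom_left_comp : (topIso f).hom.left ≫ f = EtShriek.prV f (EtCoh.top Y) := by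
  rw [topIso_hom_left]
  have := pullback.condition (f := 𝟙 Y) (g := f)
  rw [Category.comp_id] at this
  exact this.symm

set_option backward.isDefEq.respectTransparency.types false in
theorem topIso_inv_left_comp : (topIso f).inv.left ≫ EtShriek.prV f (EtCoh.top Y) = f := by
  have h1 : (topIso f).inv.left ≫ (topIso f).hom.left = 𝟙 _ :=
    congrArg (fun k => k.left) (topIso f).inv_hom_id
  have h2 := topIso_hom_left_comp f
  have h3 : (topIso f).inv.left ≫ ((topIso f).hom.left ≫ f) = f := by
    rw [← Category.assoc, h1]; exact Category.id_comp f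
  exact (congrArg (fun m => (topIso f).inv.left ≫ m) h2.symm).trans h3

instance isIso_topIso_hom_left : IsIso (topIso f).hom.left :=
  ⟨(topIso f).inv.left, congrArg (fun k => k.left) (topIso f).hom_inv_id,
    congrArg (fun k => k.left) (topIso f).inv_hom_id⟩

instance isIso_topIso_inv_left : IsIso (topIso f).inv.left :=
  ⟨(topIso f).hom.left, congrArg (fun k => k.left) (topIso f).inv_hom_id,
    congrArg (fun k => k.left) (topIso f).hom_inv_id⟩

end TopIso

section H0c

variable {k : Type u} [Field k] {X : Scheme.{u}} (p : X ⟶ Spec (CommRingCat.of k))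
  [LocallyOfFiniteType p] (F : EtCoh.Ab X)

theorem hasProperSupport_of_mem_H0c (s : EtCoh.sect F (EtCoh.top X))
    (hs : s ∈ EtShriek.H0c p F) : EtShriek.HasProperSupport F (EtCoh.top X) s p := by
  haveI hlft : @LocallyOfFiniteType (EtCoh.top X).left _ p := ‹LocallyOfFiniteType p›
  induction hs using AddSubgroup.closure_induction with
  | mem x hx => exact hx
  | zero =>
    refine ⟨∅, ?_, ?_⟩
    · rw [sectSupp_zero]
    · have := isProperOver_iUnion p
        (fun i : PEmpty.{1} => (PEmpty.elim i : Set (EtCoh.top X).left))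
        (fun i => PEmpty.elim i)
      rwa [Set.iUnion_of_empty] at this
  | add x y _ _ hx hy =>
    obtain ⟨Z₁, h₁, p₁⟩ := hx
    obtain ⟨Z₂, h₂, p₂⟩ := hy
    refine ⟨Z₁ ∪ Z₂, ?_, ?_⟩
    · exact (sectSupp_add_subset F _ x y).trans (Set.union_subset_union h₁ h₂)
    · have := isProperOver_iUnion p
        (fun b : Bool => cond b Z₁ Z₂) (fun b => by cases b <;> assumption)
      rwa [← Set.union_eq_iUnion] at this
  | neg x _ hx =>
    obtain ⟨Z₁, h₁, p₁⟩ := hx
    exact ⟨Z₁, (sectSupp_neg_subset F _ x).trans h₁, p₁⟩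

set_option backward.isDefEq.respectTransparency.types false in
theorem mem_shriekSubgroup_of_mem_H0c (t : EtCoh.sect F (EtCoh.top X))
    (ht : t ∈ EtShriek.H0c p F) :
    F.obj.map (topIso p).hom.op t ∈
      EtShriek.shriekSubgroup p F (EtCoh.top (Spec (CommRingCat.of k))) := by
  obtain ⟨Z, hZ, hprop⟩ := hasProperSupport_of_mem_H0c p F t ht
  haveI hlft : @LocallyOfFiniteType (EtCoh.top X).left _ p := ‹LocallyOfFiniteType p›
  apply AddSubgroup.subset_closure
  refine shriekPred_of_subset p F _ _ ((topIso p).hom.left ⁻¹' Z)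
    ((sectSupp_map F (topIso p).hom t).trans (Set.preimage_mono hZ)) ?_
  exact isProperOver_of_iso (topIso p).hom.left p _ (topIso_hom_left_comp p) Z hprop

set_option backward.isDefEq.respectTransparency.types false in
theorem mem_H0c_of_mem_shriekSubgroup
    (s : EtCoh.sect F ((EtCoh.bc p).obj (EtCoh.top (Spec (CommRingCat.of k)))))
    (hs : s ∈ EtShriek.shriekSubgroup p F (EtCoh.top (Spec (CommRingCat.of k)))) :
    F.obj.map (topIso p).inv.op s ∈ EtShriek.H0c p F := by
  obtain ⟨Z, hZ, hprop⟩ := hasProperSupport_of_mem p F _ s hs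
  apply AddSubgroup.subset_closure
  refine ⟨(topIso p).inv.left ⁻¹' Z,
    (sectSupp_map F (topIso p).inv s).trans (Set.preimage_mono hZ), ?_⟩
  exact isProperOver_of_iso (topIso p).inv.left (EtShriek.prV p _) p (topIso_inv_left_comp p) Z hprop

/-- `H^0_c(X, F)` is the group of sections with proper support over the terminal object. -/
noncomputable def H0cEquiv : EtShriek.H0c p F ≃+
    EtShriek.shriekSubgroup p F (EtCoh.top (Spec (CommRingCat.of k))) where
  toFun t := ⟨F.obj.map (topIso p).hom.op t.1, mem_shriekSubgroup_of_mem_H0c p F t.1 t.2⟩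
  invFun s := ⟨F.obj.map (topIso p).inv.op s.1, mem_H0c_of_mem_shriekSubgroup p F s.1 s.2⟩
  left_inv t := by
    apply Subtype.ext
    have : F.obj.map (topIso p).hom.op ≫ F.obj.map (topIso p).inv.op = 𝟙 _ := by
      rw [← F.obj.map_comp, ← op_comp, Iso.inv_hom_id, op_id, F.obj.map_id]
    exact congrArg (fun m => m t.1) this
  right_inv s := by
    apply Subtype.ext
    have : F.obj.map (topIso p).inv.op ≫ F.obj.map (topIso p).hom.op = 𝟙 _ := by
      rw [← F.obj.map_comp, ← op_comp, Iso.hom_inv_id, op_id, F.obj.map_id]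
    exact congrArg (fun m => m s.1) this
  map_add' a b := by
    apply Subtype.ext
    exact map_add _ _ _

/-- sections with proper support are the sections of `p_! F`. -/
noncomputable def secEquiv {Y : Scheme.{u}} (f : X ⟶ Y) [LocallyOfFiniteType f] (V : Y.Etale) :
    EtShriek.shriekSubgroup f F V ≃+ ((EtShriek.lowerShriek f).obj F).obj.obj (op V) :=
  AddEquiv.ofBijective
    ((toSheafify Y.smallEtaleTopology (EtShriek.lowerShriekPre f F)).app (op V)).hom
    (sec_bijective f F V)

/-- sections of isomorphic sheaves -/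
noncomputable def sectionsEquiv {Y : Scheme.{u}} {A B : EtCoh.Ab Y} (e : A ≅ B) (V : Y.Etale) :
    A.obj.obj (op V) ≃+ B.obj.obj (op V) :=
  (((sheafToPresheaf _ _).mapIso e).app (op V)).addCommGroupIsoToAddEquiv

/-- sections over isomorphic objects -/
noncomputable def objEquiv {Y : Scheme.{u}} (A : EtCoh.Ab Y) {V W : Y.Etale} (e : V ≅ W) :
    A.obj.obj (op V) ≃+ A.obj.obj (op W) :=
  (A.obj.mapIso e.symm.op).addCommGroupIsoToAddEquiv

end H0c

end Groth.Agent.Lib.Helper8ShriekH0c
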