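import Mathlib
import Groth.Agent.Lib.Helper3SmDim
import Groth.Agent.Lib.Helper20LocFree

/-!
# Standard smooth charts inside a given affine pair (helper3, round 2)
-/

set_option autoImplicit false
universe u
open CategoryTheory AlgebraicGeometry TopologicalSpace

namespace Groth.Agent.Lib.R2H3.SmChart

theorem comp_algebraMap_basicOpen {X Y : Scheme.{u}} (f : X ⟶ Y)
    {W : Y.Opens} {V : X.Opens} (e : V ≤ f ⁻¹ᵁ W) (b : Γ(X, V)) :
    (algebraMap Γ(X, V) Γ(X, X.basicOpen b)).comp (f.appLE W V e).hom =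
      (f.appLE W (X.basicOpen b) ((X.basicOpen_le b).trans e)).hom := by
  rw [← Scheme.Hom.appLE_map f e (homOfLE (X.basicOpen_le b)).op, CommRingCat.hom_comp]
  rfl

/-- a standard smooth chart stays standard smooth (of the same relative dimension) on basic opens of the source. -/
theorem isStandardSmoothOfRelativeDimension_basicOpen {X Y : Scheme.{u}} (f : X ⟶ Y) (n : ℕ)
    {W : Y.Opens} {V : X.Opens} (hV : IsAffineOpen V) (e : V ≤ f ⁻¹ᵁ W)
    (h : (f.appLE W V e).hom.IsStandardSmoothOfRelativeDimension n) (b : Γ(X, V)) :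
    (f.appLE W (X.basicOpen b) ((X.basicOpen_le b).trans e)).hom.IsStandardSmoothOfRelativeDimension n := by
  haveI := hV.isLocalization_basicOpen b
  have := (RingHom.isStandardSmoothOfRelativeDimension_stableUnderCompositionWithLocalizationAway n).right
    Γ(X, X.basicOpen b) b (f.appLE W V e).hom h
  rw [comp_algebraMap_basicOpen] at this
  exact this

/-- for a smooth morphism, every affine pair contains, around each point, a basic open of the source on which the
chart is standard smooth. -/
theorem exists_basicOpen_isStandardSmooth {X Y : Scheme.{u}} (f : X ⟶ Y) [Smooth f]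
    {W : Y.Opens} (hW : IsAffineOpen W) {V : X.Opens} (hV : IsAffineOpen V) (e : V ≤ f ⁻¹ᵁ W)
    (x : X) (hx : x ∈ V) :
    ∃ (t : Γ(X, V)) (n : ℕ), x ∈ X.basicOpen t ∧
      (f.appLE W (X.basicOpen t) ((X.basicOpen_le t).trans e)).hom.IsStandardSmoothOfRelativeDimension n := by
  have hsm : (f.appLE W V e).hom.Smooth := f.smooth_appLE hW hV e
  rw [RingHom.smooth_iff_locally_isStandardSmooth] at hsm
  obtain ⟨s, hs, h⟩ := (RingHom.locally_iff_isLocalization RingHom.isStandardSmooth_respectsIso _).mp hsm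
  have hex : ∃ t ∈ s, t ∉ (hV.primeIdealOf ⟨x, hx⟩).asIdeal := by
    by_contra hcon
    simp only [not_exists, not_and, not_not] at hcon
    have hle : Ideal.span (s : Set Γ(X, V)) ≤ (hV.primeIdealOf ⟨x, hx⟩).asIdeal :=
      Ideal.span_le.mpr fun t ht => hcon t ht
    rw [hs] at hle
    exact (hV.primeIdealOf ⟨x, hx⟩).2.ne_top (top_le_iff.mp hle)
  obtain ⟨t, ht, htp⟩ := hex
  haveI := hV.isLocalization_basicOpen t
  have h1 := h t ht Γ(X, X.basicOpen t)
  rw [comp_algebraMap_basicOpen] at h1
  obtain ⟨n, hn⟩ := Groth.Agent.Lib.Helper3.SmDim.exists_relDim_of_isStandardSmooth _ h1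
  exact ⟨t, n, (Groth.Agent.Lib.Helper2.mem_basicOpen_iff_notMem_primeIdealOf hV x hx t).2 htp, hn⟩

end Groth.Agent.Lib.R2H3.SmChart
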