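import Mathlib
import Groth.Prelude.Def_CurvBase
import Groth.Agent.Lib.R2H3SmChart

set_option autoImplicit false
set_option linter.style.haveILetI false
universe u
open CategoryTheory CategoryTheory.Limits AlgebraicGeometry TopologicalSpace

namespace Groth.Agent.Lib.Helper8SmChartK

section Gen

/-- for a morphism smooth of relative dimension `n`, every affine pair contains, around each
point, a basic open of the source on which the chart is standard smooth of relative dimension
`n`. -/
theorem exists_basicOpen_isStandardSmoothOfRelativeDimension {X Y : Scheme.{u}} (f : X ⟶ Y)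
    (n : ℕ) [SmoothOfRelativeDimension n f]
    {W : Y.Opens} (hW : IsAffineOpen W) {V : X.Opens} (hV : IsAffineOpen V) (e : V ≤ f ⁻¹ᵁ W)
    (x : X) (hx : x ∈ V) :
    ∃ (t : Γ(X, V)), x ∈ X.basicOpen t ∧
      (f.appLE W (X.basicOpen t)
        ((X.basicOpen_le t).trans e)).hom.IsStandardSmoothOfRelativeDimension n := by
  have hsm : RingHom.Locally (RingHom.IsStandardSmoothOfRelativeDimension n) (f.appLE W V e).hom :=
    HasRingHomProperty.appLE (P := @SmoothOfRelativeDimension n) f inferInstance ⟨W, hW⟩ ⟨V, hV⟩ e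
  obtain ⟨s, hs, h⟩ := (RingHom.locally_iff_isLocalization
    (RingHom.isStandardSmoothOfRelativeDimension_respectsIso (n := n)) _).mp hsm
  have hex : ∃ t ∈ s, t ∉ (hV.primeIdealOf ⟨x, hx⟩).asIdeal := by
    by_contra hcon
    simp only [not_exists, not_and, not_not] at hcon
    have hle : Ideal.span (s : Set Γ(X, V)) ≤ (hV.primeIdealOf ⟨x, hx⟩).asIdeal :=
      Ideal.span_le.mpr fun t ht => hcon t ht
    rw [hs] at hle
    exact (hV.primeIdealOf ⟨x, hx⟩).2.ne_top (top_le_iff.mp hle)
  obtain ⟨t, ht, htp⟩ := hex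
  haveI := hV.isLocalization_basicOpen t
  have h1 := h t ht Γ(X, X.basicOpen t)
  rw [Groth.Agent.Lib.R2H3.SmChart.comp_algebraMap_basicOpen] at h1
  exact ⟨t, (Groth.Agent.Lib.Helper2.mem_basicOpen_iff_notMem_primeIdealOf hV x hx t).2 htp, h1⟩

end Gen

section K

variable (k : Type u) [Field k] (X : Scheme.{u}) [X.Over (Spec (CommRingCat.of k))]

/-- The structure map `k → Γ(X, V)`. -/
noncomputable def secMap (V : X.Opens) : k →+* Γ(X, V) :=
  ((X ↘ Spec (CommRingCat.of k)).appLE ⊤ V le_top).hom.comp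
    (Scheme.ΓSpecIso (CommRingCat.of k)).inv.hom

lemma germ_comp_secMap (V : X.Opens) (x : X) (hx : x ∈ V) :
    (X.presheaf.germ V x hx).hom.comp (secMap k X V) = Curv2.stalkMap k X x := by
  ext c
  simp only [secMap, Curv2.stalkMap, Coh.toGlobal, RingHom.comp_apply]
  rw [Scheme.Hom.appLE]
  simp only [CommRingCat.hom_comp, RingHom.comp_apply]
  erw [X.presheaf.germ_res_apply]
  rfl

lemma secMap_basicOpen (V : X.Opens) (t : Γ(X, V)) :
    secMap k X (X.basicOpen t) =
      (X.presheaf.map (homOfLE (X.basicOpen_le t)).op).hom.comp (secMap k X V) := by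
  ext c
  simp only [secMap, RingHom.comp_apply]
  rw [← Scheme.Hom.appLE_map (X ↘ Spec (CommRingCat.of k)) le_top
    (homOfLE (X.basicOpen_le t)).op]
  rfl

lemma isStandardSmooth_secMap_of_appLE (n : ℕ) (V : X.Opens)
    (h : ((X ↘ Spec (CommRingCat.of k)).appLE ⊤ V
      le_top).hom.IsStandardSmoothOfRelativeDimension n) :
    (secMap k X V).IsStandardSmoothOfRelativeDimension n :=
  (RingHom.isStandardSmoothOfRelativeDimension_respectsIso (n := n)).2 _
    (Scheme.ΓSpecIso (CommRingCat.of k)).symm.commRingCatIsoToRingEquiv h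

/-- Standard smooth charts of relative dimension `n` around a point, inside a given open. -/
theorem exists_chart (n : ℕ) [SmoothOfRelativeDimension n (X ↘ Spec (CommRingCat.of k))] (x : X)
    (W : X.Opens) (hx : x ∈ W) :
    ∃ V : X.Opens, IsAffineOpen V ∧ x ∈ V ∧ V ≤ W ∧
      (secMap k X V).IsStandardSmoothOfRelativeDimension n := by
  obtain ⟨_, ⟨V, hV, rfl⟩, hxV, hVW⟩ :=
    X.isBasis_affineOpens.exists_subset_of_mem_open hx W.2
  have hVa : IsAffineOpen V := hV
  obtain ⟨t, hxt, ht⟩ := exists_basicOpen_isStandardSmoothOfRelativeDimension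
    (X ↘ Spec (CommRingCat.of k)) n (isAffineOpen_top _) hVa le_top x hxV
  exact ⟨X.basicOpen t, hVa.basicOpen t, hxt, (X.basicOpen_le t).trans hVW,
    isStandardSmooth_secMap_of_appLE k X n _ ht⟩

/-- Standard smooth charts (of some relative dimension) around a point, inside a given open. -/
theorem exists_chart' [Smooth (X ↘ Spec (CommRingCat.of k))] (x : X)
    (W : X.Opens) (hx : x ∈ W) :
    ∃ (V : X.Opens) (n : ℕ), IsAffineOpen V ∧ x ∈ V ∧ V ≤ W ∧
      (secMap k X V).IsStandardSmoothOfRelativeDimension n := by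
  obtain ⟨_, ⟨V, hV, rfl⟩, hxV, hVW⟩ :=
    X.isBasis_affineOpens.exists_subset_of_mem_open hx W.2
  have hVa : IsAffineOpen V := hV
  obtain ⟨t, n, hxt, ht⟩ := Groth.Agent.Lib.R2H3.SmChart.exists_basicOpen_isStandardSmooth
    (X ↘ Spec (CommRingCat.of k)) (isAffineOpen_top _) hVa le_top x hxV
  exact ⟨X.basicOpen t, n, hVa.basicOpen t, hxt, (X.basicOpen_le t).trans hVW,
    isStandardSmooth_secMap_of_appLE k X n _ ht⟩

end K

end Groth.Agent.Lib.Helper8SmChartK
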