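import Mathlib
import Groth.Agent.Lib.Helper8SmChartK
import Groth.Agent.Lib.Helper8ClImm

set_option autoImplicit false
set_option linter.style.haveILetI false
universe u
open CategoryTheory CategoryTheory.Limits AlgebraicGeometry TopologicalSpace

namespace Groth.Agent.Lib.Helper8SmSepPts

section Ring

open IsLocalRing

variable (k : Type u) [Field k] (R : Type u) [CommRing R] [Algebra k R] [Nontrivial R]

/-- perfect base field: any maximal ideal has formally unramified residue field -/
theorem interface_of_perfect [PerfectField k] [Algebra.FiniteType k R] :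
    ∃ q : PrimeSpectrum R, ∀ (B : Type u) [CommRing B] [IsLocalRing B] [Algebra R B] [Algebra k B]
      [IsScalarTower k R B] [IsLocalization.AtPrime B q.asIdeal],
      Algebra.FormallyUnramified k (ResidueField B) := by
  obtain ⟨m, hm⟩ := Ideal.exists_maximal R
  refine ⟨⟨m, hm.isPrime⟩, fun B _ _ _ _ _ _ => ?_⟩
  have hsurj : Function.Surjective (algebraMap R (ResidueField B)) := by
    intro z
    obtain ⟨r, hr⟩ := (IsLocalization.AtPrime.equivQuotMaximalIdeal m B).surjective z
    obtain ⟨r, rfl⟩ := Ideal.Quotient.mk_surjective r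
    exact ⟨r, hr⟩
  haveI : Algebra.FiniteType k (ResidueField B) :=
    Algebra.FiniteType.of_surjective (IsScalarTower.toAlgHom k R _) hsurj
  haveI : Module.Finite k (ResidueField B) := finite_of_finite_type_of_isJacobsonRing k _
  haveI : Algebra.IsSeparable k (ResidueField B) := Algebra.IsAlgebraic.isSeparable_of_perfectField
  exact Algebra.FormallyUnramified.of_isSeparable k _

/-- infinite base field: a point over a rational point of affine space -/
theorem interface_of_infinite [Infinite k] (n : ℕ)
    [Algebra.IsStandardSmoothOfRelativeDimension n k R] :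
    ∃ q : PrimeSpectrum R, ∀ (B : Type u) [CommRing B] [IsLocalRing B] [Algebra R B] [Algebra k B]
      [IsScalarTower k R B] [IsLocalization.AtPrime B q.asIdeal],
      Algebra.FormallyUnramified k (ResidueField B) := by
  obtain ⟨g, hget⟩ := Algebra.IsStandardSmoothOfRelativeDimension.exists_etale_mvPolynomial n k R
  letI algPR : Algebra (MvPolynomial (Fin n) k) R := g.toRingHom.toAlgebra
  haveI : IsScalarTower k (MvPolynomial (Fin n) k) R :=
    IsScalarTower.of_algebraMap_eq fun c => (g.commutes c).symm
  haveI : Algebra.Etale (MvPolynomial (Fin n) k) R := hget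
  have hopen : IsOpenMap (PrimeSpectrum.comap (algebraMap (MvPolynomial (Fin n) k) R)) :=
    PrimeSpectrum.isOpenMap_comap_of_hasGoingDown_of_finitePresentation
  have himg : IsOpen (Set.range (PrimeSpectrum.comap (algebraMap (MvPolynomial (Fin n) k) R))) :=
    hopen.isOpen_range
  obtain ⟨q₀⟩ := (inferInstance : Nonempty (PrimeSpectrum R))
  obtain ⟨_, ⟨_, ⟨h, rfl⟩, rfl⟩, hq₀h, hsub⟩ :=
    PrimeSpectrum.isBasis_basic_opens.exists_subset_of_mem_open
      (⟨q₀, rfl⟩ : PrimeSpectrum.comap (algebraMap (MvPolynomial (Fin n) k) R) q₀ ∈ Set.range _)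
      himg
  have hne : h ≠ 0 := by
    rintro rfl
    simp at hq₀h
  obtain ⟨a, ha⟩ : ∃ a : Fin n → k, MvPolynomial.eval a h ≠ 0 := by
    by_contra hcon
    push Not at hcon
    exact hne (MvPolynomial.funext (fun x => by simpa using hcon x))
  have hy : (⟨RingHom.ker (MvPolynomial.eval a), RingHom.ker_isPrime _⟩ :
      PrimeSpectrum (MvPolynomial (Fin n) k)) ∈
      (PrimeSpectrum.basicOpen h : Set (PrimeSpectrum (MvPolynomial (Fin n) k))) := by
    change h ∉ RingHom.ker (MvPolynomial.eval a)
    rw [RingHom.mem_ker]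
    exact ha
  obtain ⟨q, hq⟩ := hsub hy
  refine ⟨q, fun B _ _ _ _ _ _ => ?_⟩
  letI algPB : Algebra (MvPolynomial (Fin n) k) B :=
    ((algebraMap R B).comp (algebraMap (MvPolynomial (Fin n) k) R)).toAlgebra
  haveI : IsScalarTower (MvPolynomial (Fin n) k) R B := IsScalarTower.of_algebraMap_eq fun _ => rfl
  haveI : IsScalarTower k (MvPolynomial (Fin n) k) B := by
    refine IsScalarTower.of_algebraMap_eq fun c => ?_
    rw [IsScalarTower.algebraMap_apply k R B, IsScalarTower.algebraMap_apply k
      (MvPolynomial (Fin n) k) R]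
    rfl
  haveI : Algebra.FormallyUnramified R B :=
    Algebra.FormallyUnramified.of_isLocalization q.asIdeal.primeCompl
  haveI : Algebra.FormallyUnramified (MvPolynomial (Fin n) k) B :=
    Algebra.FormallyUnramified.comp _ R B
  haveI : Algebra.FormallyUnramified B (ResidueField B) :=
    Algebra.FormallyUnramified.of_surjective (Algebra.ofId _ _) residue_surjective
  haveI : Algebra.FormallyUnramified (MvPolynomial (Fin n) k) (ResidueField B) :=
    Algebra.FormallyUnramified.comp _ B _
  -- the image of `P` in the residue field equals the image of `k`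
  have key : ∀ t : MvPolynomial (Fin n) k, algebraMap (MvPolynomial (Fin n) k) (ResidueField B) t =
      algebraMap k (ResidueField B) (MvPolynomial.eval a t) := by
    intro t
    have h1 : t - MvPolynomial.C (MvPolynomial.eval a t) ∈
        (PrimeSpectrum.comap (algebraMap (MvPolynomial (Fin n) k) R) q).asIdeal := by
      rw [hq]
      change _ ∈ RingHom.ker (MvPolynomial.eval a)
      rw [RingHom.mem_ker, map_sub, MvPolynomial.eval_C, sub_self]
    have h2 : algebraMap (MvPolynomial (Fin n) k) R
        (t - MvPolynomial.C (MvPolynomial.eval a t)) ∈ q.asIdeal := h1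
    have h3 : algebraMap R B (algebraMap (MvPolynomial (Fin n) k) R
        (t - MvPolynomial.C (MvPolynomial.eval a t))) ∈ maximalIdeal B := by
      rw [← IsLocalization.AtPrime.map_eq_maximalIdeal q.asIdeal B]
      exact Ideal.mem_map_of_mem _ h2
    have h4 : algebraMap B (ResidueField B) (algebraMap R B
        (algebraMap (MvPolynomial (Fin n) k) R
          (t - MvPolynomial.C (MvPolynomial.eval a t)))) = 0 :=
      (residue_eq_zero_iff _).mpr h3
    rw [← IsScalarTower.algebraMap_apply, ← IsScalarTower.algebraMap_apply, map_sub,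
      sub_eq_zero] at h4
    rw [h4]
    rw [IsScalarTower.algebraMap_apply k (MvPolynomial (Fin n) k) (ResidueField B)]
    rfl
  -- conclude
  have hzero : KaehlerDifferential.map k k (MvPolynomial (Fin n) k) (ResidueField B) = 0 := by
    apply Derivation.liftKaehlerDifferential_unique
    refine Derivation.ext fun t => ?_
    change KaehlerDifferential.map k k (MvPolynomial (Fin n) k) (ResidueField B)
      (KaehlerDifferential.D k (MvPolynomial (Fin n) k) t) =
      (0 : Ω[MvPolynomial (Fin n) k⁄k] →ₗ[MvPolynomial (Fin n) k] Ω[ResidueField B⁄k])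
        (KaehlerDifferential.D k (MvPolynomial (Fin n) k) t)
    rw [KaehlerDifferential.map_D, key t, LinearMap.zero_apply]
    exact Derivation.map_algebraMap _ _
  constructor
  constructor
  intro z w
  have hz : ∀ z : Ω[ResidueField B⁄k], z = 0 := by
    intro z
    have hz1 : z ∈ LinearMap.ker (KaehlerDifferential.map k (MvPolynomial (Fin n) k)
        (ResidueField B) (ResidueField B)) := by
      rw [LinearMap.mem_ker]
      exact Subsingleton.elim _ _
    rw [← KaehlerDifferential.range_mapBaseChange] at hz1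
    obtain ⟨v, rfl⟩ := hz1
    induction v with
    | zero => simp
    | tmul c ξ => rw [KaehlerDifferential.mapBaseChange_tmul, hzero]; simp
    | add v₁ v₂ h₁ h₂ => rw [map_add, h₁, h₂, add_zero]
  rw [hz z, hz w]

end Ring

section Sch

open IsLocalRing

attribute [local instance] Curv2.resAlgebra

variable (k : Type u) [Field k] (X : Scheme.{u}) [X.Over (Spec (CommRingCat.of k))]

/-- a point of a scheme locally of finite type over a field whose residue field is finite over the
field (given through an affine chart) is closed. -/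
theorem isClosed_singleton_of_finite [LocallyOfFiniteType (X ↘ Spec (CommRingCat.of k))]
    {V : X.Opens} (hV : IsAffineOpen V) (x : X) (hxV : x ∈ V)
    (hfin : letI := Curv2.stalkAlgebra k X x
      Module.Finite k (ResidueField (X.presheaf.stalk x))) :
    IsClosed ({x} : Set X) := by
  letI algkB := Curv2.stalkAlgebra k X x
  letI algkR : Algebra k Γ(X, V) := (Groth.Agent.Lib.Helper8SmChartK.secMap k X V).toAlgebra
  letI algRB : Algebra Γ(X, V) (X.presheaf.stalk x) := (X.presheaf.germ V x hxV).hom.toAlgebra
  haveI : IsLocalization.AtPrime (X.presheaf.stalk x) (hV.primeIdealOf ⟨x, hxV⟩).asIdeal :=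
    hV.isLocalization_stalk ⟨x, hxV⟩
  haveI : IsScalarTower k Γ(X, V) (X.presheaf.stalk x) := by
    refine IsScalarTower.of_algebraMap_eq fun c => ?_
    exact (RingHom.congr_fun
      (Groth.Agent.Lib.Helper8SmChartK.germ_comp_secMap k X V x hxV) c).symm
  haveI : Module.Finite k (ResidueField (X.presheaf.stalk x)) := hfin
  -- the prime is maximal
  have hker : ∀ r : Γ(X, V), algebraMap Γ(X, V) (ResidueField (X.presheaf.stalk x)) r = 0 ↔
      r ∈ (hV.primeIdealOf ⟨x, hxV⟩).asIdeal := by
    intro r
    rw [IsScalarTower.algebraMap_apply Γ(X, V) (X.presheaf.stalk x)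
      (ResidueField (X.presheaf.stalk x))]
    change residue _ _ = 0 ↔ _
    rw [residue_eq_zero_iff]
    exact IsLocalization.AtPrime.to_map_mem_maximal_iff _ _ r
  have hinj : Function.Injective (Ideal.Quotient.liftₐ (hV.primeIdealOf ⟨x, hxV⟩).asIdeal
      (IsScalarTower.toAlgHom k Γ(X, V) (ResidueField (X.presheaf.stalk x)))
      (fun r hr => (hker r).mpr hr)) := by
    rw [injective_iff_map_eq_zero]
    intro z hz
    obtain ⟨r, rfl⟩ := Ideal.Quotient.mk_surjective z
    rw [Ideal.Quotient.eq_zero_iff_mem]
    exact (hker r).mp hz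
  haveI : Algebra.IsIntegral k (Γ(X, V) ⧸ (hV.primeIdealOf ⟨x, hxV⟩).asIdeal) :=
    Algebra.IsIntegral.of_injective _ hinj
  have hfield : IsField (Γ(X, V) ⧸ (hV.primeIdealOf ⟨x, hxV⟩).asIdeal) :=
    isField_of_isIntegral_of_isField' (Field.toIsField k)
  have hmax : (hV.primeIdealOf ⟨x, hxV⟩).asIdeal.IsMaximal :=
    Ideal.Quotient.maximal_of_isField _ hfield
  have hclq : IsClosed ({hV.primeIdealOf ⟨x, hxV⟩} : Set (PrimeSpectrum Γ(X, V))) :=
    (PrimeSpectrum.isClosed_singleton_iff_isMaximal _).mpr hmax
  -- locally closed in X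
  haveI : JacobsonSpace X := LocallyOfFiniteType.jacobsonSpace (X ↘ Spec (CommRingCat.of k))
  apply isClosed_singleton_of_isLocallyClosed_singleton
  refine ⟨V, closure {x}, V.2, isClosed_closure, ?_⟩
  ext y
  simp only [Set.mem_singleton_iff, Set.mem_inter_iff, SetLike.mem_coe]
  constructor
  · rintro rfl
    exact ⟨hxV, subset_closure rfl⟩
  · rintro ⟨hyV, hy⟩
    have hxy : x ⤳ y := specializes_iff_mem_closure.mpr hy
    have h1 : hV.fromSpec (hV.primeIdealOf ⟨x, hxV⟩) = x := hV.fromSpec_primeIdealOf ⟨x, hxV⟩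
    have h2 : hV.fromSpec (hV.primeIdealOf ⟨y, hyV⟩) = y := hV.fromSpec_primeIdealOf ⟨y, hyV⟩
    rw [← h1, ← h2] at hxy
    have h3 : hV.primeIdealOf ⟨x, hxV⟩ ⤳ hV.primeIdealOf ⟨y, hyV⟩ :=
      (hV.fromSpec.isOpenEmbedding.isInducing.specializes_iff).mp hxy
    have h4 : hV.primeIdealOf ⟨y, hyV⟩ ∈
        closure ({hV.primeIdealOf ⟨x, hxV⟩} : Set (PrimeSpectrum Γ(X, V))) :=
      specializes_iff_mem_closure.mp h3
    rw [hclq.closure_eq] at h4
    have h5 : hV.primeIdealOf ⟨y, hyV⟩ = hV.primeIdealOf ⟨x, hxV⟩ := h4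
    rw [← h2, h5, h1]

variable [Smooth (X ↘ Spec (CommRingCat.of k))]

theorem main : Dense {x : X | IsClosed ({x} : Set X) ∧ FiniteDimensional k (X.residueField x) ∧
    Algebra.IsSeparable k (X.residueField x)} := by
  rw [dense_iff_inter_open]
  rintro W hW ⟨x₀, hx₀⟩
  obtain ⟨V, n, hV, hx₀V, hVW, hsm⟩ :=
    Groth.Agent.Lib.Helper8SmChartK.exists_chart' k X x₀ ⟨W, hW⟩ hx₀
  letI algkR : Algebra k Γ(X, V) := (Groth.Agent.Lib.Helper8SmChartK.secMap k X V).toAlgebra
  haveI : Algebra.IsStandardSmoothOfRelativeDimension n k Γ(X, V) := hsm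
  haveI : Algebra.IsStandardSmooth k Γ(X, V) :=
    Algebra.IsStandardSmoothOfRelativeDimension.isStandardSmooth n
  haveI : Nontrivial Γ(X, V) := (X.presheaf.germ V x₀ hx₀V).hom.domain_nontrivial
  obtain ⟨q, hq⟩ : ∃ q : PrimeSpectrum Γ(X, V), ∀ (B : Type u) [CommRing B] [IsLocalRing B]
      [Algebra Γ(X, V) B] [Algebra k B] [IsScalarTower k Γ(X, V) B]
      [IsLocalization.AtPrime B q.asIdeal],
      Algebra.FormallyUnramified k (ResidueField B) := by
    by_cases hfin : Finite k
    · haveI := hfin
      haveI : Algebra.FinitePresentation k Γ(X, V) := inferInstance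
      exact interface_of_perfect k _
    · haveI : Infinite k := not_finite_iff_infinite.mp hfin
      exact interface_of_infinite k _ n
  obtain ⟨x, hxV, hxq⟩ := Groth.Agent.Lib.Helper8ClImm.exists_primeIdealOf_eq hV q
  letI algkB := Curv2.stalkAlgebra k X x
  letI algRB : Algebra Γ(X, V) (X.presheaf.stalk x) := (X.presheaf.germ V x hxV).hom.toAlgebra
  haveI : IsLocalization.AtPrime (X.presheaf.stalk x) q.asIdeal := by
    rw [← hxq]
    exact hV.isLocalization_stalk ⟨x, hxV⟩
  haveI : IsScalarTower k Γ(X, V) (X.presheaf.stalk x) := by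
    refine IsScalarTower.of_algebraMap_eq fun c => ?_
    exact (RingHom.congr_fun
      (Groth.Agent.Lib.Helper8SmChartK.germ_comp_secMap k X V x hxV) c).symm
  haveI hunr : Algebra.FormallyUnramified k (ResidueField (X.presheaf.stalk x)) :=
    hq (X.presheaf.stalk x)
  haveI : Algebra.EssFiniteType Γ(X, V) (X.presheaf.stalk x) :=
    Algebra.EssFiniteType.of_isLocalization _ q.asIdeal.primeCompl
  haveI : Algebra.EssFiniteType k (X.presheaf.stalk x) :=
    Algebra.EssFiniteType.comp k Γ(X, V) (X.presheaf.stalk x)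
  haveI : Algebra.FiniteType (X.presheaf.stalk x) (ResidueField (X.presheaf.stalk x)) :=
    Algebra.FiniteType.of_surjective (Algebra.ofId _ _) residue_surjective
  haveI : Algebra.EssFiniteType k (ResidueField (X.presheaf.stalk x)) :=
    Algebra.EssFiniteType.comp k (X.presheaf.stalk x) _
  have hfin : Module.Finite k (ResidueField (X.presheaf.stalk x)) :=
    Algebra.FormallyUnramified.finite_of_free k _
  have hsep : Algebra.IsSeparable k (ResidueField (X.presheaf.stalk x)) :=
    (Algebra.FormallyUnramified.iff_isSeparable k _).mp hunr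
  haveI : LocallyOfFiniteType (X ↘ Spec (CommRingCat.of k)) := inferInstance
  have hclosed := isClosed_singleton_of_finite k X hV x hxV hfin
  have halgk : Curv2.resAlgebra k X x =
      (inferInstance : Algebra k (ResidueField (X.presheaf.stalk x))) :=
    Algebra.algebra_ext _ _ (fun c => rfl)
  refine ⟨x, hVW hxV, hclosed, ?_, ?_⟩
  · change @Module.Finite k (ResidueField (X.presheaf.stalk x)) _ _
      (Curv2.resAlgebra k X x).toModule
    rw [halgk]
    exact hfin
  · change @Algebra.IsSeparable k (ResidueField (X.presheaf.stalk x)) _ _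
      (Curv2.resAlgebra k X x)
    rw [halgk]
    exact hsep

end Sch

end Groth.Agent.Lib.Helper8SmSepPts
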