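import Mathlib
import Groth.Prelude.Def_AlgSpOX2

/-!
# The small étale site of a sheaf over `S`: pointwise criterion for covering sieves, gluing (helper8)
-/

set_option autoImplicit false
set_option backward.isDefEq.respectTransparency false
open CategoryTheory CategoryTheory.Limits AlgebraicGeometry Opposite
universe u w

namespace Groth.Agent.Lib.Helper8SpEtSite

open AlgSp

variable {S : Scheme.{u}} {X : Sp S}

/-- pointwise criterion for covering sieves of the small étale site of a sheaf over `S` -/
theorem mem_etTop_iff (E : EtOver X) (R : Sieve E) :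
    R ∈ etTop X E ↔
      ∀ x : ↥E.obj.left.left, ∃ (W : EtOver X) (g : W ⟶ E) (y : ↥W.obj.left.left),
        R g ∧ g.hom.left.left y = x := by
  constructor
  · intro h x
    unfold etTop at h
    rw [Precoverage.mem_toGrothendieck_iff_of_isStableUnderComposition] at h
    obtain ⟨P, hP, hle⟩ := h
    obtain ⟨ι, Z, g, rfl⟩ := P.exists_eq_ofArrows
    rw [ofArrows_mem_etPre_iff] at hP
    obtain ⟨i, y, hy⟩ := hP x
    exact ⟨Z i, g i, y, hle _ _ (Presieve.ofArrows.mk i), hy⟩
  · intro h
    choose W g y hR hy using h
    refine (etTop X).superset_covering ?_ (ofArrows_mem_etTop W g (fun x => ⟨x, y x, hy x⟩))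
    rw [Sieve.ofArrows, Sieve.generate_le_iff]
    rintro _ _ ⟨x⟩
    exact hR x

/-- a sheaf of types on the small étale site has at most one section over an empty scheme -/
theorem subsingleton_of_isEmpty (F : (EtOver X)ᵒᵖ ⥤ Type w)
    (hF : Presieve.IsSheaf (etTop X) F) (Z : EtOver X) [IsEmpty ↥Z.obj.left.left] :
    Subsingleton (F.obj (op Z)) := by
  have hbot : (⊥ : Sieve Z) ∈ etTop X Z := by
    rw [mem_etTop_iff]
    intro x
    exact (IsEmpty.false x).elim
  constructor
  intro a b
  apply (hF _ hbot).isSeparatedFor.ext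
  intro W g hg
  exact hg.elim

/-- gluing sections along a disjoint cover by monomorphisms (e.g. open immersions) -/
theorem exists_unique_glue (F : (EtOver X)ᵒᵖ ⥤ Type w)
    (hF : Presieve.IsSheaf (etTop X) F) {μ : Type*} {P : EtOver X}
    (W : μ → EtOver X) (j : ∀ a, W a ⟶ P) (hmono : ∀ a, Mono (j a).hom.left.left)
    (hdisj : ∀ a b, a ≠ b → ∀ (x : ↥(W a).obj.left.left) (y : ↥(W b).obj.left.left),
      (j a).hom.left.left x ≠ (j b).hom.left.left y)
    (hcov : ∀ p : ↥P.obj.left.left, ∃ (a : μ) (x : ↥(W a).obj.left.left),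
      (j a).hom.left.left x = p)
    (t : ∀ a, F.obj (op (W a))) :
    ∃! s : F.obj (op P), ∀ a, F.map (j a).op s = t a := by
  have hS : Sieve.ofArrows W j ∈ etTop X P := by
    rw [mem_etTop_iff]
    intro p
    obtain ⟨a, x, hx⟩ := hcov p
    exact ⟨W a, j a, x, Sieve.ofArrows_mk _ _ a, hx⟩
  have h1 : Presieve.IsSheafFor F (Presieve.ofArrows W j) :=
    (Presieve.isSheafFor_iff_generate (Presieve.ofArrows W j)).mpr (hF _ hS)
  rw [Presieve.isSheafFor_arrows_iff] at h1
  apply h1 t
  intro a b Z ga gb hab
  by_cases hne : a = b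
  · subst hne
    have : ga = gb := by
      apply EtOver.hom_ext
      apply Over.OverMorphism.ext
      have h2 : ga.hom.left.left ≫ (j a).hom.left.left = gb.hom.left.left ≫ (j a).hom.left.left :=
        congrArg (fun m => m.hom.left.left) hab
      have := hmono a
      exact (cancel_mono (j a).hom.left.left).1 h2
    rw [this]
  · have : IsEmpty ↥Z.obj.left.left := by
      constructor
      intro z
      apply hdisj a b hne (ga.hom.left.left z) (gb.hom.left.left z)
      have h2 : ga.hom.left.left ≫ (j a).hom.left.left = gb.hom.left.left ≫ (j b).hom.left.left :=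
        congrArg (fun m => m.hom.left.left) hab
      have := congrArg (fun m : Z.obj.left.left ⟶ P.obj.left.left => m z) h2
      simpa only [Scheme.Hom.comp_apply] using this
    have := subsingleton_of_isEmpty F hF Z
    exact Subsingleton.elim _ _

end Groth.Agent.Lib.Helper8SpEtSite
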