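import Mathlib
import Groth.Prelude.Def_AlgSpOX2
import Groth.Agent.Lib.Helper8SpEtSite
import Groth.Agent.Lib.Helper8EtPropBIntegral
import Groth.Agent.Lib.Helper16BigSmallCoh

/-!
# Direct images of abelian étale sheaves along integral morphisms of algebraic spaces are exact
(helper8)
-/

set_option autoImplicit false
set_option backward.isDefEq.respectTransparency false
open CategoryTheory CategoryTheory.Limits AlgebraicGeometry Opposite
universe u

namespace Groth.Agent.Lib.Helper8SpIntPush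

open AlgSp Groth.Agent.Lib.Helper8SpEtSite Groth.Agent.Lib.Helper8EtPropBIntegral

variable {S : Scheme.{u}} {X Y : Sp S} {f : X ⟶ Y} (hf : Representable f)

/-- the object of the small étale site given by an étale morphism of schemes to (the scheme of)
an object. -/
noncomputable abbrev sub (V : EtOver Y) {V₂ : Scheme.{u}} (v₂ : V₂ ⟶ V.obj.left.left) [Etale v₂] :
    EtOver Y :=
  (EtOver.ofChart V.obj.hom V.property).obj (Scheme.Etale.mk v₂)

/-- its structure morphism -/
noncomputable abbrev subHom (V : EtOver Y) {V₂ : Scheme.{u}} (v₂ : V₂ ⟶ V.obj.left.left)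
    [Etale v₂] : sub V v₂ ⟶ V :=
  EtOver.homMk (EtOver.homOfEtale (Scheme.Etale.mk v₂)) rfl

theorem subHom_left (V : EtOver Y) {V₂ : Scheme.{u}} (v₂ : V₂ ⟶ V.obj.left.left) [Etale v₂] :
    (subHom V v₂).hom.left.left = v₂ := rfl


/-- integral direct images of abelian sheaves on the small étale sites preserve epimorphisms -/
theorem preservesEpimorphisms_pushEt (hint : RepWith @IsIntegralHom f) :
    (pushEt hf AddCommGrpCat.{u + 1}).PreservesEpimorphisms := by
  constructor
  intro F G φ hφ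
  rw [← Sheaf.isLocallySurjective_iff_epi'] at hφ ⊢
  constructor
  intro V s
  let Ft : (EtOver X)ᵒᵖ ⥤ Type (u + 1) := F.obj ⋙ forget AddCommGrpCat.{u + 1}
  let Gt : (EtOver X)ᵒᵖ ⥤ Type (u + 1) := G.obj ⋙ forget AddCommGrpCat.{u + 1}
  have hFs : Presieve.IsSheaf (etTop X) Ft :=
    (isSheaf_iff_isSheaf_of_type _ _).1
      ((Presheaf.isSheaf_iff_isSheaf_forget _ F.obj (forget AddCommGrpCat.{u + 1})).1 F.2)
  have hGs : Presieve.IsSheaf (etTop X) Gt :=
    (isSheaf_iff_isSheaf_of_type _ _).1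
      ((Presheaf.isSheaf_iff_isSheaf_forget _ G.obj (forget AddCommGrpCat.{u + 1})).1 G.2)
  let P : EtOver X := (EtOver.bc hf).obj V
  have hcov : Presheaf.imageSieve φ.hom (U := P) s ∈ etTop X P :=
    Presheaf.imageSieve_mem (etTop X) φ.hom (U := op P) s
  rw [mem_etTop_iff] at hcov
  choose U g y ht hy using hcov
  choose t ht using ht
  let p : P.obj.left.left ⟶ V.obj.left.left := (hf.snd V.obj.hom).left
  haveI : IsIntegralHom p :=
    hint.2 V.obj.hom (hf.fst V.obj.hom) (hf.snd V.obj.hom) (hf.isPullback V.obj.hom)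
  let Us : ↥P.obj.left.left → Scheme.{u} := fun x => (U x).obj.left.left
  let gs : ∀ x, Us x ⟶ P.obj.left.left := fun x => (g x).hom.left.left
  haveI : ∀ x, Etale (gs x) := fun x => EtOver.etale_left (g x)
  let Gd : (∐ Us : Scheme.{u}) ⟶ P.obj.left.left := Sigma.desc gs
  haveI : Etale Gd := IsZariskiLocalAtSource.sigmaDesc (P := @Etale) (fun i => inferInstance)
  have hcovG : ∀ x : ↥P.obj.left.left, x ∈ Set.range Gd := by
    intro x
    refine ⟨Sigma.ι Us x (y x), ?_⟩
    rw [← Scheme.Hom.comp_apply, Sigma.ι_desc]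
    exact hy x
  have hloc : ∀ y₀ : ↥V.obj.left.left, Decomp p Gd y₀ :=
    fun y₀ => decomp_integral p Gd y₀ (fun x _ => hcovG x)
  choose V₂ v₂ hv₂ y₂ hy₂ H using hloc
  rw [mem_etTop_iff]
  intro y₀
  haveI := hv₂ y₀
  let Vj : EtOver Y := sub V (v₂ y₀)
  let kj : Vj ⟶ V := subHom V (v₂ y₀)
  refine ⟨Vj, kj, y₂ y₀, ?_, hy₂ y₀⟩
  let Pj : EtOver X := (EtOver.bc hf).obj Vj
  have sq := EtOver.isPullback_bcMap_left hf kj
  obtain ⟨n, W, hdisj, hsup, hW⟩ := H y₀ _ _ _ sq
  obtain ⟨μ, W', hdisj', hsup', hW'⟩ := refine_cover Us gs _ W hdisj hsup hW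
  choose i h hh using hW'
  let a : Pj.obj.left ⟶ P.obj.left := ((EtOver.bc hf).map kj).hom.left
  let Wobj : μ → EtOver X := fun m => sub Pj (W' m).ι
  let ja : ∀ m, Wobj m ⟶ Pj := fun m => subHom Pj (W' m).ι
  have hjal : ∀ m, (ja m).hom.left.left = (W' m).ι := fun m => rfl
  have hO : ∀ m, h m ≫ (U (i m)).obj.left.hom = (W' m).ι ≫ Pj.obj.left.hom := by
    intro m
    rw [← Over.w (g (i m)).hom.left, ← Category.assoc]
    refine (congrArg (· ≫ P.obj.left.hom) (hh m)).trans ?_
    rw [Category.assoc]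
    congr 1
    exact Over.w a
  let haO : ∀ m, (Wobj m).obj.left ⟶ (U (i m)).obj.left := fun m => Over.homMk (h m) (hO m)
  have hkeyO : ∀ m, haO m ≫ (g (i m)).hom.left = (ja m).hom.left ≫ a := by
    intro m
    apply Over.OverMorphism.ext
    exact hh m
  have hha : ∀ m, (yon S).map (haO m) ≫ (U (i m)).obj.hom = (Wobj m).obj.hom := by
    intro m
    rw [← EtOver.w (g (i m)), ← Category.assoc, ← Functor.map_comp, hkeyO m, Functor.map_comp,
      Category.assoc]
    congr 1
    exact EtOver.w ((EtOver.bc hf).map kj)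
  let ha : ∀ m, Wobj m ⟶ U (i m) := fun m => EtOver.homMk (haO m) (hha m)
  have hkey : ∀ m, ja m ≫ (EtOver.bc hf).map kj = ha m ≫ g (i m) := by
    intro m
    apply EtOver.hom_ext
    exact (hkeyO m).symm
  let ta : ∀ m, Ft.obj (op (Wobj m)) := fun m => Ft.map (ha m).op (t (i m))
  have hmono : ∀ m, Mono (ja m).hom.left.left := fun m => by
    rw [hjal]; infer_instance
  have hdisj'' : ∀ m m', m ≠ m' → ∀ (x : ↥(Wobj m).obj.left.left) (y : ↥(Wobj m').obj.left.left),
      (ja m).hom.left.left x ≠ (ja m').hom.left.left y := by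
    intro m m' hmm x y hxy
    have h2 : (W' m).ι x = (W' m').ι y := hxy
    have hx : (W' m).ι x ∈ W' m := x.2
    have hy : (W' m').ι y ∈ W' m' := y.2
    rw [← h2] at hy
    exact (hdisj' m m' hmm).le_bot ⟨hx, hy⟩
  have hcov' : ∀ q : ↥Pj.obj.left.left, ∃ m, ∃ x : ↥(Wobj m).obj.left.left,
      (ja m).hom.left.left x = q := by
    intro q
    have hmem : q ∈ (⨆ m, W' m) := by rw [hsup']; trivial
    obtain ⟨m, hm⟩ := TopologicalSpace.Opens.mem_iSup.mp hmem
    exact ⟨m, ⟨q, hm⟩, rfl⟩
  obtain ⟨tt, htt, -⟩ := exists_unique_glue Ft hFs Wobj ja hmono hdisj'' hcov' ta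
  refine ⟨tt, ?_⟩
  change φ.hom.app (op Pj) tt = G.obj.map ((EtOver.bc hf).map kj).op s
  refine (exists_unique_glue Gt hGs Wobj ja hmono hdisj'' hcov'
    (fun m => Gt.map (ja m).op (Gt.map ((EtOver.bc hf).map kj).op s))).unique ?_ ?_
  · intro m
    have n1 := NatTrans.naturality_apply φ.hom (ja m).op tt
    have n2 := NatTrans.naturality_apply φ.hom (ha m).op (t (i m))
    change G.obj.map (ja m).op (φ.hom.app (op Pj) tt) = _
    rw [← n1]
    have htt' : F.obj.map (ja m).op tt = F.obj.map (ha m).op (t (i m)) := htt m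
    rw [htt', n2, ht (i m)]
    change _ = G.obj.map (ja m).op (G.obj.map ((EtOver.bc hf).map kj).op s)
    rw [← ConcreteCategory.comp_apply, ← Functor.map_comp, ← op_comp, ← ConcreteCategory.comp_apply,
      ← Functor.map_comp, ← op_comp, hkey m]
  · intro m
    rfl


/-- integral direct images of abelian sheaves on the small étale sites are exact -/
theorem preservesHomology_pushEt (hint : RepWith @IsIntegralHom f) :
    (pushEt hf AddCommGrpCat.{u + 1}).PreservesHomology := by
  haveI := preservesEpimorphisms_pushEt hf hint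
  haveI : (pushEt hf AddCommGrpCat.{u + 1}).IsRightAdjoint :=
    (pullPushAdjEt hf AddCommGrpCat.{u + 1}).isRightAdjoint
  exact Functor.preservesHomology_of_preservesEpis_and_kernels (pushEt hf AddCommGrpCat.{u + 1})

theorem preservesFiniteColimits_pushEt (hint : RepWith @IsIntegralHom f) :
    PreservesFiniteColimits (pushEt hf AddCommGrpCat.{u + 1}) := by
  haveI := preservesHomology_pushEt hf hint
  exact Functor.preservesFiniteColimits_of_preservesHomology (pushEt hf AddCommGrpCat.{u + 1})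

/-- higher direct images along an integral morphism vanish -/
theorem isZero_RpushEt (hint : RepWith @IsIntegralHom f) (F : AbEt X) (q : ℕ) (hq : 0 < q) :
    IsZero ((RpushEt hf q).obj F) := by
  haveI := preservesHomology_pushEt hf hint
  obtain ⟨n, rfl⟩ : ∃ n, q = n + 1 := ⟨q - 1, by omega⟩
  exact Groth.Agent.Lib.Helper16.BigSmallCoh.isZero_rightDerived_succ_of_preservesHomology
    (pushEt hf AddCommGrpCat.{u + 1}) F n

end Groth.Agent.Lib.Helper8SpIntPush
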