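import Mathlib
import Groth.Prelude.Def_AlgSpOX2
import Groth.Prelude.Def_AlgSp4
import Groth.Agent.Lib.Helper8SpEtSite
import Groth.Agent.Lib.Helper8SpIntPush
import Groth.Agent.Lib.Helper8EtUnivInj

/-!
# Direct images along integral universally injective morphisms of algebraic spaces are fully
faithful (helper8)
-/

set_option autoImplicit false
set_option backward.isDefEq.respectTransparency false
open CategoryTheory CategoryTheory.Limits AlgebraicGeometry Opposite
universe u

namespace Groth.Agent.Lib.Helper8SpUnivInjPush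

open AlgSp Groth.Agent.Lib.Helper8SpEtSite Groth.Agent.Lib.Helper8EtUnivInj
  Groth.Agent.Lib.Helper8SpIntPush

variable {S : Scheme.{u}} {X Y : Sp S} {f : X ⟶ Y} (hf : Representable f)

/-- every base change of `f` to an object of the small étale site of `Y` is integral and
universally injective. -/
def IntInj : Prop :=
  ∀ E : EtOver Y, IsIntegralHom (hf.snd E.obj.hom).left ∧ UniversallyInjective (hf.snd E.obj.hom).left

variable {hf}

theorem exists_almost_full (H : IntInj hf) (U U' : EtOver Y)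
    (h : (EtOver.bc hf).obj U ⟶ (EtOver.bc hf).obj U') :
    ∃ (W : EtOver Y) (a : W ⟶ U) (b : W ⟶ U'),
      IsIso ((EtOver.bc hf).map a) ∧ (EtOver.bc hf).map a ≫ h = (EtOver.bc hf).map b := by
  let P : EtOver Y := EtOver.prodObj U U'
  let pr1 : P ⟶ U := EtOver.prodFst U U'
  let pr2 : P ⟶ U' := EtOver.prodSnd U U'
  have hcomm : (yon S).map (h.hom.left ≫ hf.snd U'.obj.hom) ≫ U'.obj.hom =
      (yon S).map (hf.snd U.obj.hom) ≫ U.obj.hom := by
    rw [Functor.map_comp, Category.assoc, ← hf.w, ← hf.w, ← Category.assoc]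
    congr 1
    exact EtOver.w h
  let γ : ((EtOver.bc hf).obj U).obj.left ⟶ P.obj.left :=
    U'.property.1.lift' (h.hom.left ≫ hf.snd U'.obj.hom) (hf.snd U.obj.hom) hcomm
  have hγ1 : γ ≫ pr1.hom.left = hf.snd U.obj.hom :=
    Functor.relativelyRepresentable.lift'_snd _ _ _ _
  have hγ2 : γ ≫ pr2.hom.left = h.hom.left ≫ hf.snd U'.obj.hom :=
    Functor.relativelyRepresentable.lift'_fst _ _ _ _
  have hΓc : hf.fst U.obj.hom ≫ f = (yon S).map γ ≫ P.obj.hom := by
    rw [← EtOver.w pr1, ← Category.assoc, ← Functor.map_comp, hγ1]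
    exact hf.w _
  let Γ : (EtOver.bc hf).obj U ⟶ (EtOver.bc hf).obj P :=
    EtOver.homMk (hf.lift (hf.fst U.obj.hom) γ hΓc) (hf.lift_fst _ _ _)
  have hΓ1 : Γ ≫ (EtOver.bc hf).map pr1 = 𝟙 _ := by
    apply EtOver.hom_ext
    apply hf.hom_ext
    · change (yon S).map (hf.lift _ γ hΓc ≫ (EtOver.bcMap hf pr1).hom.left) ≫ hf.fst U.obj.hom =
        (yon S).map (𝟙 _) ≫ _
      rw [Functor.map_comp, Category.assoc, EtOver.map_bcMap_fst, hf.lift_fst]
      exact ((Category.id_comp _).symm.trans
        (congrArg (· ≫ hf.fst U.obj.hom) ((yon S).map_id _).symm) :)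
    · change (hf.lift _ γ hΓc ≫ (EtOver.bcMap hf pr1).hom.left) ≫ hf.snd U.obj.hom = 𝟙 _ ≫ _
      rw [Category.assoc, EtOver.bcMap_snd, ← Category.assoc, hf.lift_snd, hγ1, Category.id_comp]
  have hΓ2 : Γ ≫ (EtOver.bc hf).map pr2 = h := by
    apply EtOver.hom_ext
    apply hf.hom_ext
    · change (yon S).map (hf.lift _ γ hΓc ≫ (EtOver.bcMap hf pr2).hom.left) ≫ hf.fst U'.obj.hom =
        (yon S).map h.hom.left ≫ _
      rw [Functor.map_comp, Category.assoc, EtOver.map_bcMap_fst, hf.lift_fst]
      exact (EtOver.w h).symm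
    · change (hf.lift _ γ hΓc ≫ (EtOver.bcMap hf pr2).hom.left) ≫ hf.snd U'.obj.hom =
        h.hom.left ≫ _
      rw [Category.assoc, EtOver.bcMap_snd, ← Category.assoc, hf.lift_snd, hγ2]
  obtain ⟨hint, hinj⟩ := H P
  haveI := hint
  haveI := hinj
  haveI : Etale pr1.hom.left.left := EtOver.etale_left pr1
  obtain ⟨W₀, hW⟩ := exists_open_of_section pr1.hom.left.left (hf.snd P.obj.hom).left
    (hf.snd U.obj.hom).left ((EtOver.bc hf).map pr1).hom.left.left
    (EtOver.isPullback_bcMap_left hf pr1) (isClosedEmbedding_of_integral_univInj _)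
    Γ.hom.left.left (congrArg (fun k => k.hom.left.left) hΓ1)
  let W : EtOver Y := sub P W₀.ι
  let jW : W ⟶ P := subHom P W₀.ι
  obtain ⟨hiso, heq⟩ := hW _ ((EtOver.bc hf).map jW).hom.left.left (hf.snd W.obj.hom).left
    (EtOver.isPullback_bcMap_left hf jW)
  refine ⟨W, jW ≫ pr1, jW ≫ pr2, ?_, ?_⟩
  · rw [Functor.map_comp]
    haveI : IsIso ((EtOver.toScheme X).map ((EtOver.bc hf).map jW ≫ (EtOver.bc hf).map pr1)) := hiso
    exact isIso_of_reflects_iso _ (EtOver.toScheme X)
  · rw [Functor.map_comp, Functor.map_comp, ← hΓ2, ← Category.assoc]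
    congr 1
    apply EtOver.hom_ext
    apply Over.OverMorphism.ext
    exact heq.symm


theorem exists_lift (hY : IsAlgSpace Y) (H : IntInj hf) (E : EtOver X) (x : ↥E.obj.left.left) :
    ∃ (V : EtOver Y) (g : (EtOver.bc hf).obj V ⟶ E)
      (q : ↥((EtOver.bc hf).obj V).obj.left.left), g.hom.left.left q = x := by
  obtain ⟨Y', c, hce, hcs⟩ := hY.atlas
  let Ec : EtOver Y := EtOver.mk c hce
  let X' : Over S := hf.pullback c
  let f' : X' ⟶ Y' := hf.snd c
  let c' : (yon S).obj X' ⟶ X := hf.fst c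
  have sqX : IsPullback c' ((yon S).map f') f c := hf.isPullback c
  have hc'e : RepWith @Etale c' := MorphismProperty.of_isPullback sqX.flip hce
  have hc's : RepWith @Surjective c' := MorphismProperty.of_isPullback sqX.flip hcs
  let U' : Over S := hc'e.1.pullback E.obj.hom
  let pU : U' ⟶ E.obj.left := hc'e.1.snd E.obj.hom
  let qU : U' ⟶ X' := hc'e.1.fst' E.obj.hom
  have sqU : IsPullback ((yon S).map qU) ((yon S).map pU) c' E.obj.hom :=
    hc'e.1.isPullback' E.obj.hom
  have hpUs : Surjective pU.left := hc's.2 E.obj.hom _ pU (hc'e.1.isPullback E.obj.hom)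
  haveI hqUe : Etale qU.left := E.property.2 c' ((yon S).map pU) qU sqU.flip
  obtain ⟨x', hx'⟩ := hpUs.surj x
  obtain ⟨hint, hinj⟩ := H Ec
  haveI : IsIntegralHom f'.left := hint
  haveI : UniversallyInjective f'.left := hinj
  obtain ⟨V₀, v, hv, Hl⟩ := exists_lift_nbhd f'.left qU.left x'
  haveI := hv
  let V : EtOver Y := sub Ec v
  let Q : Over S := hf.pullback V.obj.hom
  let vO : V.obj.left ⟶ Y' := EtOver.homOfEtale (Scheme.Etale.mk v)
  have hVhom : V.obj.hom = (yon S).map vO ≫ c := rfl
  have hac : hf.fst V.obj.hom ≫ f = (yon S).map (hf.snd V.obj.hom ≫ vO) ≫ c := by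
    rw [hf.w, Functor.map_comp, Category.assoc, hVhom]
  let a : Q ⟶ X' := hf.lift (hf.fst V.obj.hom) (hf.snd V.obj.hom ≫ vO) hac
  have ha1 : (yon S).map a ≫ c' = hf.fst V.obj.hom := hf.lift_fst _ _ _
  have ha2 : a ≫ f' = hf.snd V.obj.hom ≫ vO := hf.lift_snd _ _ _
  have sqQ : IsPullback ((yon S).map a) ((yon S).map (hf.snd V.obj.hom)) ((yon S).map f')
      ((yon S).map vO) := by
    refine IsPullback.of_right ?_ ?_ sqX
    · rw [ha1, ← hVhom]
      exact hf.isPullback V.obj.hom
    · rw [← Functor.map_comp, ← Functor.map_comp, ha2]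
  have sqQ' : IsPullback a.left (hf.snd V.obj.hom).left f'.left v :=
    (IsPullback.of_map (yon S) ha2 sqQ).map (Over.forget S)
  obtain ⟨h, hh, hx⟩ := Hl Q.left a.left (hf.snd V.obj.hom).left sqQ'
  have hO : h ≫ U'.hom = Q.hom := by
    rw [← Over.w qU, ← Category.assoc, hh]
    exact Over.w a
  let hO' : Q ⟶ U' := Over.homMk h hO
  have hhO : hO' ≫ qU = a := Over.OverMorphism.ext hh
  have hg : (yon S).map (hO' ≫ pU) ≫ E.obj.hom = ((EtOver.bc hf).obj V).obj.hom := by
    rw [Functor.map_comp, Category.assoc, ← sqU.w, ← Category.assoc, ← Functor.map_comp, hhO, ha1]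
    rfl
  let g : (EtOver.bc hf).obj V ⟶ E := EtOver.homMk (hO' ≫ pU) hg
  obtain ⟨q, hq⟩ := hx
  refine ⟨V, g, q, ?_⟩
  change (h ≫ pU.left) q = x
  rw [Scheme.Hom.comp_apply, hq, hx']


theorem isCoverDense_bc (hY : IsAlgSpace Y) (H : IntInj hf) :
    (EtOver.bc hf).IsCoverDense (etTop X) where
  is_cover E := by
    rw [mem_etTop_iff]
    intro x
    obtain ⟨V, g, q, hq⟩ := exists_lift hY H E x
    exact ⟨(EtOver.bc hf).obj V, g, q, Presieve.in_coverByImage _ g, hq⟩

theorem isLocallyFull_bc (H : IntInj hf) : (EtOver.bc hf).IsLocallyFull (etTop X) where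
  functorPushforward_imageSieve_mem {U U'} h := by
    obtain ⟨W, a, b, ha, hab⟩ := exists_almost_full H U U' h
    haveI := ha
    have hmem : ((EtOver.bc hf).imageSieve h).functorPushforward (EtOver.bc hf)
        ((EtOver.bc hf).map a) :=
      Sieve.image_mem_functorPushforward _ _ ⟨b, hab.symm⟩
    have htop : ((EtOver.bc hf).imageSieve h).functorPushforward (EtOver.bc hf) = ⊤ := by
      rw [← Sieve.id_mem_iff_eq_top]
      have := (((EtOver.bc hf).imageSieve h).functorPushforward (EtOver.bc hf)).downward_closed hmem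
        (inv ((EtOver.bc hf).map a))
      rwa [IsIso.inv_hom_id] at this
    rw [htop]
    exact (etTop X).top_mem _

section

variable (A : Type (u + 2)) [Category.{u + 1} A]

theorem full_pushEt (hY : IsAlgSpace Y) (H : IntInj hf) : (pushEt hf A).Full := by
  haveI := isCoverDense_bc hY H
  haveI := isLocallyFull_bc H
  exact Functor.IsCoverDense.full_sheafPushforwardContinuous (G := EtOver.bc hf)
    (J := etTop Y) (K := etTop X) (A := A)

theorem faithful_pushEt (hY : IsAlgSpace Y) (H : IntInj hf) : (pushEt hf A).Faithful := by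
  haveI := isCoverDense_bc hY H
  haveI := isLocallyFull_bc H
  exact Functor.IsCoverDense.faithful_sheafPushforwardContinuous (G := EtOver.bc hf)
    (J := etTop Y) (K := etTop X) (A := A)

end

theorem isIso_counit_type (hY : IsAlgSpace Y) (H : IntInj hf) :
    IsIso (pullPushAdjEt hf (Type (u + 1))).counit := by
  haveI := full_pushEt (Type (u + 1)) hY H
  haveI := faithful_pushEt (Type (u + 1)) hY H
  infer_instance


/-- a morphism of schemes over `S` whose map on points of the represented sheaves is injective is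
injective. -/
theorem injective_of_points {T T' : Over S} (φ : T ⟶ T')
    (h : Function.Injective (Points.map ((yon S).map φ))) : Function.Injective φ.left := by
  intro t₁ t₂ ht
  have e : ∀ t, Points.map ((yon S).map φ) (Points.ofScheme T t) = Points.ofPt ((yon S).map φ) t := by
    intro t
    rw [Points.map_ofPt, Category.id_comp]
  have h1 : Points.ofPt ((yon S).map φ) t₁ = Points.ofPt ((yon S).map φ) t₂ := by
    have inj : Function.Injective (Points.toScheme T') := (Points.schemeEquiv T').symm.injective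
    apply inj
    rw [Points.toScheme_ofPt, Points.toScheme_ofPt, ht]
  rw [← e, ← e] at h1
  exact (Points.schemeEquiv T).injective (h h1)

/-- base changes to schemes of a universally injective morphism of sheaves are universally
injective morphisms of schemes. -/
theorem universallyInjective_of_isUnivInjectiveMor (hu : IsUnivInjectiveMor f) {V W : Over S}
    (g : (yon S).obj V ⟶ Y) (fst : (yon S).obj W ⟶ X) (snd : W ⟶ V)
    (sq : IsPullback fst ((yon S).map snd) f g) : UniversallyInjective snd.left := by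
  refine ⟨fun X'' T' i₁ i₂ f' h => ?_⟩
  let TO : Over S := Over.mk (i₂ ≫ V.hom)
  let XO : Over S := Over.mk (i₁ ≫ W.hom)
  let i₂O : TO ⟶ V := Over.homMk i₂ rfl
  let i₁O : XO ⟶ W := Over.homMk i₁ rfl
  let f'O : XO ⟶ TO := Over.homMk f' (by
    change f' ≫ i₂ ≫ V.hom = i₁ ≫ W.hom
    rw [← Category.assoc, h.w, Category.assoc, Over.w snd])
  have comm : f'O ≫ i₂O = i₁O ≫ snd := Over.OverMorphism.ext h.w
  have hO : IsPullback f'O i₁O i₂O snd := IsPullback.of_map (Over.forget S) comm h
  have hY := (hO.map (yon S)).flip.paste_horiz sq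
  have := hu (IsAlgSpace.yon_obj TO) _ _ _ hY
  exact injective_of_points f'O this

theorem intInj_of_integral_univInj (hint : RepWith @IsIntegralHom f) (hu : IsUnivInjectiveMor f) :
    IntInj hint.1 := by
  intro E
  exact ⟨hint.2 E.obj.hom (hint.1.fst E.obj.hom) (hint.1.snd E.obj.hom)
      (hint.1.isPullback E.obj.hom),
    universallyInjective_of_isUnivInjectiveMor hu E.obj.hom (hint.1.fst E.obj.hom)
      (hint.1.snd E.obj.hom) (hint.1.isPullback E.obj.hom)⟩

end Groth.Agent.Lib.Helper8SpUnivInjPush
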