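import Mathlib
import Groth.Agent.Lib.Helper10Spectral

/-!
# Gluing sections along a closed subset of a spectral space (helper8)

Let `X` be a spectral space and `Z ⊆ X` a closed subset meeting the closure of every point in a
connected (nonempty) set.  For a sheaf of sets `F` on `X`:

* `section_ext_of_germs`: two global sections with the same germs along `Z` are equal;
* `exists_section_of_germs`: a family of germs along `Z` which is locally induced by sections of
  `F` is induced by a global section.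
-/

set_option autoImplicit false
universe u
open CategoryTheory TopologicalSpace Opposite Topology

namespace Groth.Agent.Lib.Helper8SpecGlue

open Groth.Agent.Lib.Helper10.Spectral

variable {X : TopCat.{u}} (F : TopCat.Sheaf (Type u) X) (Z : Set X)

/-- an open subset containing `Z` is everything -/
theorem eq_univ_of_isOpen_of_subset (hne : ∀ x : X, (Z ∩ closure {x}).Nonempty) {E : Set X}
    (hE : IsOpen E) (hZE : Z ⊆ E) : E = Set.univ := by
  rw [Set.eq_univ_iff_forall]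
  intro x
  obtain ⟨z, hzZ, hzx⟩ := hne x
  have : x ⤳ z := specializes_iff_mem_closure.mpr hzx
  exact this.mem_open hE (hZE hzZ)

/-- the locus where two sections have the same germ is open -/
theorem isOpen_germ_eq {U U' : Opens X} (σ : F.1.obj (op U)) (σ' : F.1.obj (op U')) :
    IsOpen {x : X | ∃ (h : x ∈ U) (h' : x ∈ U'),
      F.presheaf.germ U x h σ = F.presheaf.germ U' x h' σ'} := by
  rw [isOpen_iff_forall_mem_open]
  rintro x ⟨h, h', e⟩
  obtain ⟨W, hxW, iU, iU', eW⟩ := F.presheaf.germ_eq x h h' σ σ' e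
  refine ⟨W, ?_, W.isOpen, hxW⟩
  intro y hy
  exact ⟨iU.le hy, iU'.le hy, F.presheaf.germ_ext W hy iU iU' eW⟩

/-- two global sections with the same germs along `Z` are equal -/
theorem section_ext_of_germs (hne : ∀ x : X, (Z ∩ closure {x}).Nonempty)
    (s s' : F.1.obj (op ⊤))
    (h : ∀ z : X, z ∈ Z → F.presheaf.germ ⊤ z trivial s = F.presheaf.germ ⊤ z trivial s') :
    s = s' := by
  have hE := eq_univ_of_isOpen_of_subset Z hne (isOpen_germ_eq F s s')
    (fun z hz => ⟨trivial, trivial, h z hz⟩)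
  apply TopCat.Presheaf.section_ext F ⊤ s s'
  intro x hx
  have : x ∈ {x : X | ∃ (h : x ∈ (⊤ : Opens X)) (h' : x ∈ (⊤ : Opens X)),
      F.presheaf.germ ⊤ x h s = F.presheaf.germ ⊤ x h' s'} := by
    rw [hE]
    trivial
  obtain ⟨_, _, e⟩ := this
  exact e

variable (γ : ∀ z : Z, F.presheaf.stalk (z : X))

/-- a local section inducing the given germs along `Z` -/
def Good (U : Opens X) (σ : F.1.obj (op U)) : Prop :=
  ∀ (z : Z) (hz : (z : X) ∈ U), F.presheaf.germ U z hz σ = γ z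

variable {F Z γ}

lemma Good.res {U V : Opens X} {σ : F.1.obj (op U)} (h : Good F Z γ U σ) (i : V ⟶ U) :
    Good F Z γ V (F.1.map i.op σ) := by
  intro z hz
  rw [TopCat.Presheaf.germ_res_apply]
  exact h z (i.le hz)

/-- two good sections defined near `c ∈ Z` have the same germ at every generalization of `c` -/
lemma Good.germ_eq_of_specializes {U U' : Opens X} {σ : F.1.obj (op U)} {σ' : F.1.obj (op U')}
    (h : Good F Z γ U σ) (h' : Good F Z γ U' σ') {c x : X} (hcZ : c ∈ Z) (hcU : c ∈ U)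
    (hcU' : c ∈ U') (hxc : x ⤳ c) (hxU : x ∈ U) (hxU' : x ∈ U') :
    F.presheaf.germ U x hxU σ = F.presheaf.germ U' x hxU' σ' := by
  have e : F.presheaf.germ U c hcU σ = F.presheaf.germ U' c hcU' σ' :=
    (h ⟨c, hcZ⟩ hcU).trans (h' ⟨c, hcZ⟩ hcU').symm
  obtain ⟨W, hcW, iU, iU', eW⟩ := F.presheaf.germ_eq c hcU hcU' σ σ' e
  have hxW : x ∈ W := hxc.mem_open W.isOpen hcW
  exact F.presheaf.germ_ext W hxW iU iU' eW

/-- **Key lemma**: by connectedness of `Z ∩ closure {x}`, good sections defined near points of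
`Z ∩ closure {x}` all have the same germ at `x`. -/
theorem Good.germ_eq_of_connected
    (hloc : ∀ z : Z, ∃ (U : Opens X) (_ : (z : X) ∈ U) (σ : F.1.obj (op U)), Good F Z γ U σ)
    {U U' : Opens X} {σ : F.1.obj (op U)} {σ' : F.1.obj (op U')}
    (h : Good F Z γ U σ) (h' : Good F Z γ U' σ') (x : X)
    (hconn : IsPreconnected (Z ∩ closure {x}))
    {c c' : X} (hc : c ∈ Z ∩ closure {x}) (hcU : c ∈ U) (hc' : c' ∈ Z ∩ closure {x})
    (hc'U' : c' ∈ U') (hxU : x ∈ U) (hxU' : x ∈ U') :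
    F.presheaf.germ U x hxU σ = F.presheaf.germ U' x hxU' σ' := by
  classical
  obtain ⟨a, ha⟩ : ∃ a, a = F.presheaf.germ U x hxU σ := ⟨_, rfl⟩
  rw [← ha]
  -- the two open sets
  let u : Set X := {y | ∃ (V : Opens X) (τ : F.1.obj (op V)) (hxV : x ∈ V),
    Good F Z γ V τ ∧ y ∈ V ∧ F.presheaf.germ V x hxV τ = a}
  let v : Set X := {y | ∃ (V : Opens X) (τ : F.1.obj (op V)) (hxV : x ∈ V),
    Good F Z γ V τ ∧ y ∈ V ∧ F.presheaf.germ V x hxV τ ≠ a}
  have hu : IsOpen u := by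
    rw [isOpen_iff_forall_mem_open]
    rintro y ⟨V, τ, hxV, hτ, hyV, e⟩
    exact ⟨V, fun y' hy' => ⟨V, τ, hxV, hτ, hy', e⟩, V.isOpen, hyV⟩
  have hv : IsOpen v := by
    rw [isOpen_iff_forall_mem_open]
    rintro y ⟨V, τ, hxV, hτ, hyV, e⟩
    exact ⟨V, fun y' hy' => ⟨V, τ, hxV, hτ, hy', e⟩, V.isOpen, hyV⟩
  have hcov : Z ∩ closure {x} ⊆ u ∪ v := by
    rintro y ⟨hyZ, hyx⟩
    obtain ⟨V, hyV, τ, hτ⟩ := hloc ⟨y, hyZ⟩
    have hxy : x ⤳ y := specializes_iff_mem_closure.mpr hyx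
    have hxV : x ∈ V := hxy.mem_open V.isOpen hyV
    by_cases e : F.presheaf.germ V x hxV τ = a
    · exact Or.inl ⟨V, τ, hxV, hτ, hyV, e⟩
    · exact Or.inr ⟨V, τ, hxV, hτ, hyV, e⟩
  have hcu : ((Z ∩ closure {x}) ∩ u).Nonempty := ⟨c, hc, U, σ, hxU, h, hcU, ha.symm⟩
  have hv0 : ¬ ((Z ∩ closure {x}) ∩ v).Nonempty := by
    intro hcv
    obtain ⟨y, ⟨hyZ, hyx⟩, ⟨V, τ, hxV, hτ, hyV, e⟩, ⟨V', τ', hxV', hτ', hyV', e'⟩⟩ :=
      hconn u v hu hv hcov hcu hcv
    have hxy : x ⤳ y := specializes_iff_mem_closure.mpr hyx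
    exact e' ((hτ'.germ_eq_of_specializes hτ hyZ hyV' hyV hxy hxV' hxV).trans e)
  rcases hcov hc' with ⟨V, τ, hxV, hτ, hc'V, e⟩ | hc'v
  · have hxc' : x ⤳ c' := specializes_iff_mem_closure.mpr hc'.2
    rw [← e]
    exact hτ.germ_eq_of_specializes h' hc'.1 hc'V hc'U' hxc' hxV hxU'
  · exact absurd ⟨c', hc', hc'v⟩ hv0

section Main

variable [SpectralSpace X]

/-- **Gluing along `Z`**: a family of germs along `Z` locally induced by sections of `F` comes
from a global section. -/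
theorem exists_section_of_germs (hZ : IsClosed Z)
    (hconn : ∀ x : X, IsConnected (Z ∩ closure {x}))
    (hloc : ∀ z : Z, ∃ (U : Opens X) (_ : (z : X) ∈ U) (σ : F.1.obj (op U)), Good F Z γ U σ) :
    ∃ s : F.1.obj (op ⊤), ∀ z : Z, F.presheaf.germ ⊤ z trivial s = γ z := by
  classical
  -- step 1: good sections on compact opens
  have hloc' : ∀ z : Z, ∃ (U : Opens X) (_ : (z : X) ∈ U) (_ : IsCompact (U : Set X))
      (σ : F.1.obj (op U)), Good F Z γ U σ := by
    intro z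
    obtain ⟨U, hzU, σ, hσ⟩ := hloc z
    obtain ⟨V, ⟨hVo, hVc⟩, hzV, hVU⟩ :=
      PrespectralSpace.isTopologicalBasis.exists_subset_of_mem_open hzU U.isOpen
    exact ⟨⟨V, hVo⟩, hzV, hVc, F.1.map (homOfLE (show (⟨V, hVo⟩ : Opens X) ≤ U from hVU)).op σ,
      hσ.res _⟩
  choose U hzU hUc σ hσ using hloc'
  -- step 2: finite subcover
  obtain ⟨t, ht⟩ := hZ.isCompact.elim_finite_subcover (fun z : Z => (U z : Set X))
    (fun z => (U z).isOpen) (fun z hz => Set.mem_iUnion.mpr ⟨⟨z, hz⟩, hzU _⟩)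
  -- step 3: the relevant subsets
  obtain ⟨V, hV⟩ : ∃ V : Z → Set X, V = fun l => {y : X | ∃ e ∈ Z ∩ (U l : Set X), y ⤳ e} :=
    ⟨_, rfl⟩
  obtain ⟨E, hE⟩ : ∃ E : Z → Z → Set X, E = fun k l => {y : X | ∃ (h : y ∈ U k) (h' : y ∈ U l),
      F.presheaf.germ (U k) y h (σ k) = F.presheaf.germ (U l) y h' (σ l)} := ⟨_, rfl⟩
  obtain ⟨P, hP⟩ : ∃ P : Z → Z → Set X, P = fun k l => ((U k : Set X) ∩ V l) ∩ (E k l)ᶜ :=
    ⟨_, rfl⟩
  have hVU : ∀ l, V l ⊆ (U l : Set X) := by
    intro l y hy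
    rw [hV] at hy
    obtain ⟨e, he, hye⟩ := hy
    exact hye.mem_open (U l).isOpen he.2
  have hVc : ∀ l, IsClosed[constructibleTopology X] (V l) := by
    intro l
    rw [hV]
    change IsClosed[constructibleTopology X] {y : X | ∃ e ∈ Z ∩ (U l : Set X), y ⤳ e}
    rw [generalizations_eq_sInter ((hUc l).inter_left hZ)]
    apply @isClosed_sInter X (constructibleTopology X)
    rintro W ⟨hWo, hWc, -⟩
    exact isClosed_constr_of_isCompact_isOpen hWo hWc
  have hEo : ∀ k l, IsOpen (E k l) := by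
    intro k l
    rw [hE]
    exact isOpen_germ_eq F (σ k) (σ l)
  have hPc : ∀ k l, IsClosed[constructibleTopology X] (P k l) := by
    intro k l
    rw [hP]
    exact isClosed_constr_inter
      (isClosed_constr_inter (isClosed_constr_of_isCompact_isOpen (U k).isOpen (hUc k)) (hVc l))
      (isClosed_constr_of_isClosed (hEo k l).isClosed_compl)
  -- the key consequence of connectedness
  have hkey : ∀ (k l : Z) (y : X) (hyk : y ∈ U k) (hyl : y ∈ U l),
      (∃ c ∈ Z ∩ closure {y}, c ∈ U k) → y ∈ V l → y ∈ E k l := by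
    intro k l y hyk hyl ⟨c, hc, hck⟩ hyV
    rw [hV] at hyV
    obtain ⟨e, he, hye⟩ := hyV
    rw [hE]
    refine ⟨hyk, hyl, ?_⟩
    exact (hσ k).germ_eq_of_connected
      (fun z => ⟨U z, hzU z, σ z, hσ z⟩) (hσ l) y (hconn y).isPreconnected hc hck
      ⟨he.1, specializes_iff_mem_closure.mp hye⟩ he.2 hyk hyl
  -- step 4: choice of an index for every point
  have hx : ∀ x : X, ∃ (k : Z) (_ : k ∈ t) (c : X), c ∈ Z ∩ closure {x} ∧ c ∈ U k := by
    intro x
    obtain ⟨c, hc⟩ := (hconn x).nonempty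
    have := ht hc.1
    simp only [Set.mem_iUnion] at this
    obtain ⟨k, hk, hck⟩ := this
    exact ⟨k, hk, c, hc, hck⟩
  choose k hkt c hc hcU using hx
  have hxU : ∀ x, x ∈ U (k x) := fun x =>
    (specializes_iff_mem_closure.mpr (hc x).2).mem_open (U (k x)).isOpen (hcU x)
  have hxV : ∀ x, x ∈ V (k x) := by
    intro x
    rw [hV]
    exact ⟨c x, ⟨(hc x).1, hcU x⟩, specializes_iff_mem_closure.mpr (hc x).2⟩
  have hBc : ∀ x, IsClosed (⋃ l ∈ t, closure (P (k x) l)) := fun x =>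
    isClosed_biUnion_finset (fun l _ => isClosed_closure)
  obtain ⟨N, hN⟩ : ∃ N : X → Opens X, ∀ x, (N x : Set X) =
      (U (k x) : Set X) ∩ (⋃ l ∈ t, closure (P (k x) l))ᶜ :=
    ⟨fun x => ⟨(U (k x) : Set X) ∩ (⋃ l ∈ t, closure (P (k x) l))ᶜ,
      (U (k x)).isOpen.inter (hBc x).isOpen_compl⟩, fun x => rfl⟩
  have hNU : ∀ x, N x ≤ U (k x) := by
    intro x y hy
    have : y ∈ (N x : Set X) := hy
    rw [hN] at this
    exact this.1
  have hxN : ∀ x, x ∈ N x := by
    intro x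
    change x ∈ (N x : Set X)
    rw [hN]
    refine ⟨hxU x, ?_⟩
    intro hmem
    simp only [Set.mem_iUnion] at hmem
    obtain ⟨l, hl, hxl⟩ := hmem
    obtain ⟨y, hyP, hyx⟩ := exists_specializes_of_mem_closure (hPc (k x) l) hxl
    rw [hP] at hyP
    obtain ⟨⟨hyk, hyV⟩, hyE⟩ := hyP
    apply hyE
    have hyc : y ⤳ c x := hyx.trans (specializes_iff_mem_closure.mpr (hc x).2)
    exact hkey (k x) l y hyk (hVU l hyV)
      ⟨c x, ⟨(hc x).1, specializes_iff_mem_closure.mp hyc⟩, hcU x⟩ hyV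
  have hclaim : ∀ (x y : X) (hy : y ∈ N x) (l : Z) (_ : l ∈ t) (_ : y ∈ V l), y ∈ E (k x) l := by
    intro x y hy l hl hyV
    by_contra hyE
    have : y ∈ (N x : Set X) := hy
    rw [hN] at this
    apply this.2
    simp only [Set.mem_iUnion]
    refine ⟨l, hl, subset_closure ?_⟩
    rw [hP]
    exact ⟨⟨this.1, hyV⟩, hyE⟩
  -- germs of the local sections
  have hgerm : ∀ (x y : X) (hy : y ∈ N x),
      F.presheaf.germ (U (k x)) y (hNU x hy) (σ (k x)) =
        F.presheaf.germ (U (k y)) y (hxU y) (σ (k y)) := by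
    intro x y hy
    have := hclaim x y hy (k y) (hkt y) (hxV y)
    rw [hE] at this
    obtain ⟨_, _, e⟩ := this
    exact e
  -- step 5: the local sections
  obtain ⟨sf, hsf⟩ : ∃ sf : ∀ x : X, F.1.obj (op (N x)),
      ∀ x, sf x = F.1.map (homOfLE (hNU x)).op (σ (k x)) := ⟨_, fun _ => rfl⟩
  have hsfgerm : ∀ (x y : X) (hy : y ∈ N x),
      F.presheaf.germ (N x) y hy (sf x) =
        F.presheaf.germ (U (k y)) y (hxU y) (σ (k y)) := by
    intro x y hy
    rw [hsf, TopCat.Presheaf.germ_res_apply]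
    exact hgerm x y hy
  have hcompat : TopCat.Presheaf.IsCompatible F.1 N sf := by
    intro x x'
    apply TopCat.Presheaf.section_ext F (N x ⊓ N x')
    intro y hy
    rw [TopCat.Presheaf.germ_res_apply, TopCat.Presheaf.germ_res_apply]
    exact (hsfgerm x y hy.1).trans (hsfgerm x' y hy.2).symm
  -- step 6: gluing
  obtain ⟨s, hs, -⟩ := F.existsUnique_gluing' N ⊤ (fun x => homOfLE le_top)
    (fun y _ => TopologicalSpace.Opens.mem_iSup.mpr ⟨y, hxN y⟩) sf hcompat
  refine ⟨s, fun z => ?_⟩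
  have h1 : F.presheaf.germ ⊤ (z : X) trivial s =
      F.presheaf.germ (N z) (z : X) (hxN z) (sf z) := by
    rw [← hs z, TopCat.Presheaf.germ_res_apply]
  rw [h1, hsfgerm (z : X) (z : X) (hxN z)]
  exact hσ (k z) z (hxU z)

end Main

end Groth.Agent.Lib.Helper8SpecGlue
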