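import Mathlib
import Groth.Agent.Lib.Helper8SpecGlue

/-!
# Global sections of the pullback of a sheaf of sets to a closed subset of a spectral space (helper8)

Let `X` be a spectral space, `Z ⊆ X` a closed subset meeting the closure of every point in a
connected set and `i : Z → X` the inclusion.  For any left adjoint `L` of `i_*` on sheaves of sets,
the global sections component of the unit `F ⟶ i_* L F` is bijective.
-/

set_option autoImplicit false
universe u
open CategoryTheory TopologicalSpace Opposite Topology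

namespace Groth.Agent.Lib.Helper8SpecPull

open Groth.Agent.Lib.Helper8SpecGlue

variable {X : TopCat.{u}} (Z : Set X)

/-- the inclusion of a subset -/
abbrev incl : TopCat.of Z ⟶ X := TopCat.ofHom ⟨(Subtype.val : Z → X), continuous_subtype_val⟩

variable (F : TopCat.Sheaf (Type u) X)

/-- the sheaf of all families of germs along `Z` -/
noncomputable def God : TopCat.Sheaf (Type u) (TopCat.of Z) :=
  TopCat.sheafToTypes (TopCat.of Z) (fun z => F.presheaf.stalk (z.1 : X))

/-- the germ map -/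
noncomputable def toGod : F ⟶ (TopCat.Sheaf.pushforward (Type u) (incl Z)).obj (God Z F) :=
  ⟨{ app := fun U => ↾fun σ => fun z => F.presheaf.germ U.unop (z.1.1 : X) z.2 σ
     naturality := by
      intro U V f
      ext σ
      funext z
      exact (TopCat.Presheaf.germ_res_apply' F.presheaf f (z.1.1 : X) z.2 σ) }⟩

variable {L : TopCat.Sheaf (Type u) X ⥤ TopCat.Sheaf (Type u) (TopCat.of Z)}
  (adj : L ⊣ TopCat.Sheaf.pushforward (Type u) (incl Z))

/-- the comparison map -/
noncomputable def ψ : L.obj F ⟶ God Z F := (adj.homEquiv F (God Z F)).symm (toGod Z F)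

lemma unit_ψ : adj.unit.app F ≫ (TopCat.Sheaf.pushforward (Type u) (incl Z)).map (ψ Z F adj) =
    toGod Z F :=
  (adj.homEquiv F (God Z F)).apply_symm_apply (toGod Z F)

lemma ψ_unit_apply (U : Opens X) (σ : F.1.obj (op U)) :
    (ψ Z F adj).hom.app (op ((Opens.map (incl Z)).obj U)) ((adj.unit.app F).hom.app (op U) σ) =
      fun z : ↥((Opens.map (incl Z)).obj U) => F.presheaf.germ U (z.1.1 : X) z.2 σ := by
  have := congrArg (fun m => m.hom.app (op U) σ) (unit_ψ Z F adj)
  exact this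

lemma map_map_eq {Y : TopCat.{u}} (P : (Opens Y)ᵒᵖ ⥤ Type u) {A B C : Opens Y} (f : B ⟶ A)
    (g : C ⟶ B) (h : C ⟶ A) (t : P.obj (op A)) : P.map g.op (P.map f.op t) = P.map h.op t := by
  have e : h = g ≫ f := Subsingleton.elim _ _
  subst e
  rw [op_comp]
  exact (Functor.map_comp_apply P f.op g.op t).symm

/-- sections of `L F` locally induced by sections of `F` -/
def LocImage : Subfunctor (L.obj F).1 where
  obj W := {t | ∀ (z : TopCat.of Z) (_ : z ∈ W.unop), ∃ (U : Opens X) (W' : Opens (TopCat.of Z))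
    (_ : z ∈ W') (h₁ : W' ≤ W.unop) (h₂ : W' ≤ (Opens.map (incl Z)).obj U) (σ : F.1.obj (op U)),
      (L.obj F).1.map (homOfLE h₁).op t =
        (L.obj F).1.map (homOfLE h₂).op ((adj.unit.app F).hom.app (op U) σ)}
  map := by
    intro W V f t ht z hz
    obtain ⟨U, W', hzW', h₁, h₂, σ, e⟩ := ht z (f.unop.le hz)
    refine ⟨U, W' ⊓ V.unop, ⟨hzW', hz⟩, inf_le_right, inf_le_left.trans h₂, σ, ?_⟩
    have := congrArg ((L.obj F).1.map (homOfLE (inf_le_left : W' ⊓ V.unop ≤ W')).op) e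
    rw [map_map_eq _ _ _ (homOfLE (inf_le_left.trans h₁)),
      map_map_eq _ _ _ (homOfLE (inf_le_left.trans h₂))] at this
    rw [← this]
    exact map_map_eq (L.obj F).1 f.unop _ _ t

lemma locImage_isSheaf :
    Presieve.IsSheaf (Opens.grothendieckTopology (TopCat.of Z)) (LocImage Z F adj).toFunctor := by
  rw [Subfunctor.isSheaf_iff _ ((isSheaf_iff_isSheaf_of_type _ _).mp (L.obj F).2)]
  intro W t h z hz
  obtain ⟨W₁, f, hf, hzW₁⟩ := h z hz
  obtain ⟨U, W', hzW', h₁, h₂, σ, e⟩ := hf z hzW₁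
  refine ⟨U, W', hzW', h₁.trans f.le, h₂, σ, ?_⟩
  rw [← e]
  exact (map_map_eq (L.obj F).1 f _ _ t).symm

/-- the subsheaf of sections locally induced by sections of `F` -/
noncomputable def locSheaf : TopCat.Sheaf (Type u) (TopCat.of Z) :=
  ⟨(LocImage Z F adj).toFunctor, (isSheaf_iff_isSheaf_of_type _ _).mpr (locImage_isSheaf Z F adj)⟩

/-- the inclusion -/
noncomputable def locι : locSheaf Z F adj ⟶ L.obj F := ⟨(LocImage Z F adj).ι⟩

lemma unit_mem (U : Opens X) (σ : F.1.obj (op U)) :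
    (adj.unit.app F).hom.app (op U) σ ∈
      (LocImage Z F adj).obj (op ((Opens.map (incl Z)).obj U)) := by
  intro z hz
  exact ⟨U, (Opens.map (incl Z)).obj U, hz, le_rfl, le_rfl, σ, rfl⟩

/-- the unit factors through the subsheaf -/
noncomputable def unit' :
    F ⟶ (TopCat.Sheaf.pushforward (Type u) (incl Z)).obj (locSheaf Z F adj) :=
  ⟨{ app := fun U => ↾fun σ => ⟨(adj.unit.app F).hom.app U σ, unit_mem Z F adj U.unop σ⟩
     naturality := by
      intro U V f
      ext σ
      apply Subtype.ext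
      exact NatTrans.naturality_apply (adj.unit.app F).hom f σ }⟩

lemma unit'_ι : unit' Z F adj ≫ (TopCat.Sheaf.pushforward (Type u) (incl Z)).map (locι Z F adj) =
    adj.unit.app F := by
  apply Sheaf.hom_ext
  ext U σ
  rfl

/-- **every section of `L F` is locally induced by sections of `F`** -/
theorem mem_locImage (W : Opens (TopCat.of Z)) (t : (L.obj F).1.obj (op W)) :
    t ∈ (LocImage Z F adj).obj (op W) := by
  obtain ⟨φ, hφ⟩ : ∃ φ : L.obj F ⟶ locSheaf Z F adj,
      φ = (adj.homEquiv F (locSheaf Z F adj)).symm (unit' Z F adj) := ⟨_, rfl⟩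
  have h1 : adj.unit.app F ≫ (TopCat.Sheaf.pushforward (Type u) (incl Z)).map φ =
      unit' Z F adj := by
    rw [hφ]
    exact (adj.homEquiv F (locSheaf Z F adj)).apply_symm_apply (unit' Z F adj)
  have h2 : φ ≫ locι Z F adj = 𝟙 (L.obj F) := by
    apply (adj.homEquiv F (L.obj F)).injective
    change adj.unit.app F ≫ (TopCat.Sheaf.pushforward (Type u) (incl Z)).map (φ ≫ locι Z F adj) =
      adj.unit.app F ≫ (TopCat.Sheaf.pushforward (Type u) (incl Z)).map (𝟙 (L.obj F))
    rw [Functor.map_comp, ← Category.assoc, h1, unit'_ι Z F adj, CategoryTheory.Functor.map_id]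
    exact (Category.comp_id _).symm
  have h3 : (locι Z F adj).hom.app (op W) (φ.hom.app (op W) t) = t :=
    congrArg (fun m => m.hom.app (op W) t) h2
  obtain ⟨s, hs⟩ : ∃ s : ↥((LocImage Z F adj).obj (op W)), s = φ.hom.app (op W) t := ⟨_, rfl⟩
  have h4 : s.1 = t := by
    rw [hs]
    exact h3
  rw [← h4]
  exact s.2

/-- evaluation of a family of germs -/
def ev (W : Opens (TopCat.of Z)) (γ : (God Z F).1.obj (op W)) (z : TopCat.of Z) (hz : z ∈ W) :
    F.presheaf.stalk (z.1 : X) :=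
  (show ∀ x : ↥W, F.presheaf.stalk (x.1.1 : X) from γ) ⟨z, hz⟩

lemma ev_ext (W : Opens (TopCat.of Z)) (γ γ' : (God Z F).1.obj (op W))
    (h : ∀ (z : TopCat.of Z) (hz : z ∈ W), ev Z F W γ z hz = ev Z F W γ' z hz) : γ = γ' := by
  change (show ∀ x : ↥W, F.presheaf.stalk (x.1.1 : X) from γ) =
    (show ∀ x : ↥W, F.presheaf.stalk (x.1.1 : X) from γ')
  funext x
  exact h x.1 x.2

lemma ev_ψ_res {W W' : Opens (TopCat.of Z)} (h₁ : W' ≤ W) (t : (L.obj F).1.obj (op W))
    (z : TopCat.of Z) (hz : z ∈ W') :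
    ev Z F W' ((ψ Z F adj).hom.app (op W') ((L.obj F).1.map (homOfLE h₁).op t)) z hz =
      ev Z F W ((ψ Z F adj).hom.app (op W) t) z (h₁ hz) := by
  have := NatTrans.naturality_apply (ψ Z F adj).hom (homOfLE h₁).op t
  rw [this]
  rfl

lemma ev_ψ_unit (U : Opens X) (σ : F.1.obj (op U)) (z : TopCat.of Z)
    (hz : z ∈ (Opens.map (incl Z)).obj U) :
    ev Z F _ ((ψ Z F adj).hom.app (op ((Opens.map (incl Z)).obj U))
      ((adj.unit.app F).hom.app (op U) σ)) z hz = F.presheaf.germ U (z.1 : X) hz σ := by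
  rw [ψ_unit_apply]
  rfl

lemma unit_res {U U' : Opens X} (h : U' ≤ U) (σ : F.1.obj (op U)) :
    (L.obj F).1.map (homOfLE ((Opens.map (incl Z)).monotone h)).op
      ((adj.unit.app F).hom.app (op U) σ) =
    (adj.unit.app F).hom.app (op U') (F.1.map (homOfLE h).op σ) :=
  (NatTrans.naturality_apply (adj.unit.app F).hom (homOfLE h).op σ).symm

/-- the comparison map is injective on sections -/
theorem ψ_injective (W : Opens (TopCat.of Z)) :
    Function.Injective ((ψ Z F adj).hom.app (op W)) := by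
  intro t t' h
  have hloc : ∀ z : ↥W, ∃ (W₀ : Opens (TopCat.of Z)) (_ : z.1 ∈ W₀) (h₀ : W₀ ≤ W),
      (L.obj F).1.map (homOfLE h₀).op t = (L.obj F).1.map (homOfLE h₀).op t' := by
    rintro ⟨z, hz⟩
    obtain ⟨U, W', hzW', h₁, h₂, σ, e⟩ := mem_locImage Z F adj W t z hz
    obtain ⟨U', W'', hzW'', h₁', h₂', σ', e'⟩ := mem_locImage Z F adj W t' z hz
    -- the germs of `σ` and `σ'` at `z` agree
    have hg : F.presheaf.germ U (z.1 : X) (h₂ hzW') σ =
        F.presheaf.germ U' (z.1 : X) (h₂' hzW'') σ' := by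
      have a1 := ev_ψ_res Z F adj h₁ t z hzW'
      rw [e, ev_ψ_res Z F adj h₂ _ z hzW', ev_ψ_unit] at a1
      have a2 := ev_ψ_res Z F adj h₁' t' z hzW''
      rw [e', ev_ψ_res Z F adj h₂' _ z hzW'', ev_ψ_unit] at a2
      rw [a1, a2, h]
    obtain ⟨U'', hzU'', iU, iU', eσ⟩ := F.presheaf.germ_eq (z.1 : X) _ _ σ σ' hg
    refine ⟨(W' ⊓ W'') ⊓ (Opens.map (incl Z)).obj U'', ⟨⟨hzW', hzW''⟩, hzU''⟩,
      inf_le_left.trans (inf_le_left.trans h₁), ?_⟩
    have b1 := congrArg ((L.obj F).1.map (homOfLE (inf_le_left.trans inf_le_left :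
      (W' ⊓ W'') ⊓ (Opens.map (incl Z)).obj U'' ≤ W')).op) e
    rw [map_map_eq _ _ _ (homOfLE (inf_le_left.trans (inf_le_left.trans h₁))),
      map_map_eq _ _ _ (homOfLE (inf_le_left.trans (inf_le_left.trans h₂)))] at b1
    have b2 := congrArg ((L.obj F).1.map (homOfLE (inf_le_left.trans inf_le_right :
      (W' ⊓ W'') ⊓ (Opens.map (incl Z)).obj U'' ≤ W'')).op) e'
    rw [map_map_eq _ _ _ (homOfLE (inf_le_left.trans (inf_le_left.trans h₁))),
      map_map_eq _ _ _ (homOfLE (inf_le_left.trans (inf_le_right.trans h₂')))] at b2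
    rw [b1, b2]
    -- both are restrictions of the image of the common restriction
    have c1 := unit_res Z F adj iU.le σ
    have c2 := unit_res Z F adj iU'.le σ'
    have d1 := congrArg ((L.obj F).1.map (homOfLE (inf_le_right :
      (W' ⊓ W'') ⊓ (Opens.map (incl Z)).obj U'' ≤ (Opens.map (incl Z)).obj U'')).op) c1
    have d2 := congrArg ((L.obj F).1.map (homOfLE (inf_le_right :
      (W' ⊓ W'') ⊓ (Opens.map (incl Z)).obj U'' ≤ (Opens.map (incl Z)).obj U'')).op) c2
    rw [map_map_eq _ _ _ (homOfLE (inf_le_left.trans (inf_le_left.trans h₂)))] at d1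
    rw [map_map_eq _ _ _ (homOfLE (inf_le_left.trans (inf_le_right.trans h₂')))] at d2
    rw [d1, d2]
    have eσ' : F.1.map (homOfLE iU.le).op σ = F.1.map (homOfLE iU'.le).op σ' := eσ
    rw [eσ']
  choose W₀ hzW₀ h₀ hW₀ using hloc
  exact TopCat.Sheaf.eq_of_locally_eq' (L.obj F) W₀ W (fun z => homOfLE (h₀ z))
    (fun z hz => TopologicalSpace.Opens.mem_iSup.mpr ⟨⟨z, hz⟩, hzW₀ ⟨z, hz⟩⟩) t t' hW₀

section Main

variable [SpectralSpace X]

/-- **Stacks 09ZG**: restriction of global sections to `Z` is bijective. -/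
theorem bijective_unit_app_top (hZ : IsClosed Z)
    (hconn : ∀ x : X, IsConnected (Z ∩ closure {x})) :
    Function.Bijective ((adj.unit.app F).hom.app (op ⊤)) := by
  have hgerm : ∀ (s : F.1.obj (op ⊤)) (z : TopCat.of Z),
      ev Z F _ ((ψ Z F adj).hom.app (op ((Opens.map (incl Z)).obj ⊤))
        ((adj.unit.app F).hom.app (op ⊤) s)) z trivial =
      F.presheaf.germ ⊤ (z.1 : X) trivial s := fun s z => ev_ψ_unit Z F adj ⊤ s z trivial
  constructor
  · intro s s' h
    apply section_ext_of_germs F Z (fun x => (hconn x).nonempty) s s'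
    intro z hz
    have h1 := hgerm s ⟨z, hz⟩
    have h2 := hgerm s' ⟨z, hz⟩
    rw [h] at h1
    exact h1.symm.trans h2
  · intro t
    obtain ⟨γ, hγ⟩ : ∃ γ : ∀ z : Z, F.presheaf.stalk (z : X), γ = fun z =>
        ev Z F ((Opens.map (incl Z)).obj ⊤)
          ((ψ Z F adj).hom.app (op ((Opens.map (incl Z)).obj ⊤)) t) z trivial := ⟨_, rfl⟩
    have hloc : ∀ z : Z, ∃ (U : Opens X) (_ : (z : X) ∈ U) (σ : F.1.obj (op U)),
        Good F Z γ U σ := by
      intro z
      obtain ⟨U, W', hzW', h₁, h₂, σ, e⟩ :=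
        mem_locImage Z F adj ((Opens.map (incl Z)).obj ⊤) t z trivial
      obtain ⟨U₁, hU₁, hU₁W'⟩ := isOpen_induced_iff.mp W'.isOpen
      have hzU₁ : (z : X) ∈ U₁ := by
        have : z ∈ (Subtype.val : Z → X) ⁻¹' U₁ := by rw [hU₁W']; exact hzW'
        exact this
      refine ⟨U ⊓ ⟨U₁, hU₁⟩, ⟨h₂ hzW', hzU₁⟩, F.1.map (homOfLE inf_le_left).op σ, ?_⟩
      intro z' hz'
      have hz'W' : z' ∈ W' := by
        have : z' ∈ (Subtype.val : Z → X) ⁻¹' U₁ := hz'.2
        rw [hU₁W'] at this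
        exact this
      rw [TopCat.Presheaf.germ_res_apply, hγ]
      have a1 := ev_ψ_res Z F adj h₁ t z' hz'W'
      rw [e, ev_ψ_res Z F adj h₂ _ z' hz'W', ev_ψ_unit] at a1
      exact a1
    obtain ⟨s, hs⟩ := exists_section_of_germs hZ hconn hloc
    refine ⟨s, ?_⟩
    apply ψ_injective Z F adj
    apply ev_ext
    intro z hz
    rw [hgerm s z, hs z, hγ]

end Main

end Groth.Agent.Lib.Helper8SpecPull
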