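import Mathlib
import Groth.Prelude.Def_Coh
import Groth.Agent.Lib.Helper10FibStalk

/-!
# Local rings of the special fibre `X ×_A Spec (A/m)` of a scheme over a local ring

The kernel of `O_{X,x} → O_{X_s,ξ}` is `m_A O_{X,x}`; at the generic point of an irreducible
component of a reduced special fibre, `m_A O_{X,x}` is therefore the maximal ideal.
-/

set_option autoImplicit false
set_option linter.style.haveILetI false
universe u

namespace Groth.Agent.Lib.Helper8SpecialFibStalk

open CategoryTheory CategoryTheory.Limits AlgebraicGeometry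

noncomputable section Setup

variable (A : Type u) [CommRing A] [IsLocalRing A]

/-- `Spec (A/m) → Spec A`. -/
abbrev rr : Spec (CommRingCat.of (IsLocalRing.ResidueField A)) ⟶ Spec (CommRingCat.of A) :=
  Spec.map (CommRingCat.ofHom (IsLocalRing.residue A))

/-- the comparison `A/m → κ(m)` -/
def qq : IsLocalRing.ResidueField A →+* (IsLocalRing.closedPoint A).asIdeal.ResidueField :=
  algebraMap (A ⧸ (IsLocalRing.closedPoint A).asIdeal)
    (IsLocalRing.closedPoint A).asIdeal.ResidueField

theorem qq_bijective : Function.Bijective (qq A) :=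
  haveI : (IsLocalRing.closedPoint A).asIdeal.IsMaximal := IsLocalRing.maximalIdeal.isMaximal A
  Ideal.bijective_algebraMap_quotient_residueField _

/-- `Spec κ(y) → Spec (A/m)` for the closed point `y`. -/
def ψ : Spec ((Spec (CommRingCat.of A)).residueField (IsLocalRing.closedPoint A)) ⟶
    Spec (CommRingCat.of (IsLocalRing.ResidueField A)) :=
  Spec.map (Scheme.Spec.residueFieldIso (CommRingCat.of A) (IsLocalRing.closedPoint A)).inv ≫
    Spec.map (CommRingCat.ofHom (qq A))

instance : IsIso (ψ A) := by
  haveI : IsIso (CommRingCat.ofHom (qq A)) :=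
    (ConcreteCategory.isIso_iff_bijective _).2 (qq_bijective A)
  unfold ψ
  infer_instance

theorem ψ_rr : ψ A ≫ rr A =
    (Spec (CommRingCat.of A)).fromSpecResidueField (IsLocalRing.closedPoint A) := by
  rw [ψ, Category.assoc, rr, ← Spec.map_comp, ← CommRingCat.ofHom_comp]
  exact Scheme.Spec.map_residueFieldIso_inv_eq_fromSpecResidueField (CommRingCat.of A)
    (IsLocalRing.closedPoint A)

/-- the maximal ideal of the local ring of `Spec A` at the closed point is generated by `m_A`. -/
theorem maximalIdeal_stalk_eq (y : Spec (CommRingCat.of A)) (hy : y = IsLocalRing.closedPoint A) :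
    IsLocalRing.maximalIdeal ((Spec (CommRingCat.of A)).presheaf.stalk y) =
      Ideal.map (StructureSheaf.toStalk A y).hom (IsLocalRing.maximalIdeal A) := by
  subst hy
  letI : Algebra A ((Spec (CommRingCat.of A)).presheaf.stalk (IsLocalRing.closedPoint A)) :=
    (StructureSheaf.toStalk A (IsLocalRing.closedPoint A)).hom.toAlgebra
  haveI : IsLocalization.AtPrime
      ((Spec (CommRingCat.of A)).presheaf.stalk (IsLocalRing.closedPoint A))
      (IsLocalRing.closedPoint A).asIdeal :=
    StructureSheaf.IsLocalization.to_stalk A (IsLocalRing.closedPoint A)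
  exact (IsLocalization.AtPrime.map_eq_maximalIdeal (IsLocalRing.closedPoint A).asIdeal
    ((Spec (CommRingCat.of A)).presheaf.stalk (IsLocalRing.closedPoint A))).symm

end Setup

section Ker

variable {A : Type u} [CommRing A] [IsLocalRing A]
variable {X : Scheme.{u}} (f : X ⟶ Spec (CommRingCat.of A))

/-- precomposing with an isomorphism does not change the kernel of the stalk map. -/
theorem ker_stalkMap_iso_comp {Xs Z : Scheme.{u}} (i : Xs ⟶ Z) [IsIso i] (j : Z ⟶ X) (ξ : Xs) :
    RingHom.ker ((i ≫ j).stalkMap ξ).hom = RingHom.ker (j.stalkMap (i ξ)).hom := by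
  have key : ∀ a, ((i ≫ j).stalkMap ξ).hom a = (i.stalkMap ξ).hom ((j.stalkMap (i ξ)).hom a) :=
    fun a => congrArg (fun φ => φ.hom a) (Scheme.Hom.stalkMap_comp i j ξ)
  ext a
  rw [RingHom.mem_ker, key]
  change _ ↔ (j.stalkMap (i ξ)).hom a = 0
  constructor
  · intro h
    have hinj : Function.Injective (i.stalkMap ξ).hom :=
      (ConcreteCategory.bijective_of_isIso (i.stalkMap ξ)).1
    exact hinj (h.trans (map_zero _).symm)
  · intro h
    exact (congrArg _ h).trans (map_zero _)

/-- the structure map `A → O_{X,x}` through the local ring of `Spec A`. -/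
theorem stalkMap_toStalk_apply (x : X) (a : A) :
    (f.stalkMap x).hom ((StructureSheaf.toStalk A (f x)).hom a) =
      (X.presheaf.germ ⊤ x trivial).hom (Coh.toGlobal f a) := by
  have h1 : (StructureSheaf.toStalk A (f x)).hom a =
      ((Spec (CommRingCat.of A)).presheaf.germ ⊤ (f x) trivial).hom
        ((Scheme.ΓSpecIso (CommRingCat.of A)).inv.hom a) := rfl
  rw [h1]
  exact Scheme.Hom.germ_stalkMap_apply f ⊤ x trivial _

/-- `m_y O_{X,x} = m_A O_{X,x}` for `x` over the closed point `y`. -/
theorem map_stalkMap_maximalIdeal (x : X) (hx : f x = IsLocalRing.closedPoint A) :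
    Ideal.map (f.stalkMap x).hom
      (IsLocalRing.maximalIdeal ((Spec (CommRingCat.of A)).presheaf.stalk (f x))) =
    Ideal.map ((X.presheaf.germ ⊤ x trivial).hom.comp (Coh.toGlobal f))
      (IsLocalRing.maximalIdeal A) := by
  rw [maximalIdeal_stalk_eq A _ hx]
  refine (Ideal.map_map _ _).trans ?_
  congr 1
  ext a
  exact stalkMap_toStalk_apply f x a

/-- **Kernel of the stalk map of the special fibre**, for a morphism isomorphic to the
inclusion of the fibre over the closed point. -/
theorem ker_stalkMap_of_eq_comp_fiberι {Xs : Scheme.{u}}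
    (i : Xs ⟶ f.fiber (IsLocalRing.closedPoint A)) [IsIso i] (g : Xs ⟶ X)
    (hg : g = i ≫ f.fiberι (IsLocalRing.closedPoint A)) (ξ : Xs) :
    RingHom.ker (g.stalkMap ξ).hom =
      Ideal.map ((X.presheaf.germ ⊤ (g ξ) trivial).hom.comp (Coh.toGlobal f))
        (IsLocalRing.maximalIdeal A) := by
  subst hg
  rw [ker_stalkMap_iso_comp, Helper10.FibStalk.ker_eq_map f (IsLocalRing.closedPoint A) (i ξ)]
  exact map_stalkMap_maximalIdeal f _ (Helper10.FibStalk.fiberι_apply_eq f _ (i ξ))

/-- **Kernel of the stalk map of the special fibre** `X ×_A Spec (A/m) → X`. -/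
theorem ker_stalkMap_of_isPullback {Xs : Scheme.{u}} (gs : Xs ⟶ X)
    (fs : Xs ⟶ Spec (CommRingCat.of (IsLocalRing.ResidueField A)))
    (hs : IsPullback gs fs f (rr A)) (ξ : Xs) :
    RingHom.ker (gs.stalkMap ξ).hom =
      Ideal.map ((X.presheaf.germ ⊤ (gs ξ) trivial).hom.comp (Coh.toGlobal f))
        (IsLocalRing.maximalIdeal A) := by
  have hs' : IsPullback gs (fs ≫ inv (ψ A)) f
      ((Spec (CommRingCat.of A)).fromSpecResidueField (IsLocalRing.closedPoint A)) := by
    refine IsPullback.of_iso hs (Iso.refl _) (Iso.refl _) (asIso (ψ A)).symm (Iso.refl _)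
      ?_ ?_ ?_ ?_
    · simp
    · simp
    · simp
    · rw [← ψ_rr A]
      simp
  exact ker_stalkMap_of_eq_comp_fiberι f hs'.isoPullback.hom gs hs'.isoPullback_hom_fst.symm ξ

end Ker

section Main

/-- **S17018**: at the generic point of an irreducible component of a reduced special fibre, the
maximal ideal of the local ring of `X` is generated by the maximal ideal of the base. -/
theorem main (R : Type u) [CommRing R] [IsLocalRing R]
    (X : Scheme.{u}) (f : X ⟶ Spec (CommRingCat.of R))
    (Xs : Scheme.{u}) (gs : Xs ⟶ X) (fs : Xs ⟶ Spec (CommRingCat.of (IsLocalRing.ResidueField R)))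
    (hs : IsPullback gs fs f (Spec.map (CommRingCat.ofHom (IsLocalRing.residue R))))
    [IsReduced Xs]
    (ξ : Xs) (hξ : closure ({ξ} : Set Xs) ∈ irreducibleComponents Xs)
    (B : Type u) [CommRing B] [IsLocalRing B] [Algebra R B]
    (e : X.presheaf.stalk (gs.base ξ) ≅ CommRingCat.of B)
    (he : e.hom.hom.comp ((X.presheaf.germ ⊤ (gs.base ξ) trivial).hom.comp (Coh.toGlobal f)) =
      algebraMap R B) :
    IsLocalRing.maximalIdeal B = Ideal.map (algebraMap R B) (IsLocalRing.maximalIdeal R) := by
  have hker := ker_stalkMap_of_isPullback f gs fs hs ξ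
  haveI : IsClosedImmersion (Spec.map (CommRingCat.ofHom (IsLocalRing.residue R))) :=
    IsClosedImmersion.spec_of_surjective _ (IsLocalRing.residue_surjective)
  haveI : IsClosedImmersion gs := MorphismProperty.of_isPullback hs.flip inferInstance
  have hsurj : Function.Surjective (gs.stalkMap ξ).hom := gs.stalkMap_surjective ξ
  have hfield : IsField (Xs.presheaf.stalk ξ) :=
    isField_stalk_of_closure_mem_irreducibleComponents Xs ξ hξ
  letI := hfield.toField
  have hmax : (RingHom.ker (gs.stalkMap ξ).hom).IsMaximal :=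
    RingHom.ker_isMaximal_of_surjective _ hsurj
  rw [hker] at hmax
  have hbij : Function.Bijective e.hom.hom := ConcreteCategory.bijective_of_isIso e.hom
  have hmax' := (Ideal.isMaximal_map_iff_of_bijective (f := e.hom.hom) hbij).mpr hmax
  rw [Ideal.map_map, he] at hmax'
  exact (IsLocalRing.eq_maximalIdeal hmax').symm

end Main

end Groth.Agent.Lib.Helper8SpecialFibStalk
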