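import Mathlib
import Groth.Agent.Lib.Helper8SqZeroPic

/-!
# The seven-term exact sequence of units and Picard groups of a square-zero thickening (helper8)
-/

set_option autoImplicit false
universe u
open CategoryTheory CategoryTheory.Limits AlgebraicGeometry TopologicalSpace Opposite Abelian

namespace Groth.Agent.Lib.Helper8SqZeroPic2

open Groth.Agent.Lib.Helper6 Groth.Agent.Lib.Helper23.SecTw Groth.Agent.Lib.Helper23.GenLocus
  Groth.Agent.Lib.Helper8ZarCech2 Groth.Agent.Lib.Helper8PicRelP Groth.Agent.Lib.Helper8InjSeq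
  Groth.Agent.Lib.Helper8ZarULift Groth.Agent.Lib.Helper8SqZeroSeq Groth.Agent.Lib.Helper8SqZeroPic

section Gen

variable {T : TopCat.{u}}

/-- degree-zero `Ext` out of the constant sheaf as global sections -/
noncomputable def sec0 (F : CohTop.Ab T) :
    Ext.{u} (ZLo T) F 0 ≃+ F.obj.obj (op (⊤ : Opens T)) :=
  Ext.addEquiv₀.trans (secLoAdd T F)

end Gen

section SqZero

variable {X : Scheme.{u}} {J : X.IdealSheafData} (hJ : J * J = ⊥)

include hJ in
lemma map_unitJ (U : X.Opens) (a : Γ(ClSub.idealMod J, U)) :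
    Units.map (J.subschemeι.app U).hom.toMonoidHom (unitJ hJ U a) = 1 := by
  apply Units.ext
  change (J.subschemeι.app U).hom (1 + fnJ J U a) = 1
  rw [map_add, map_one, app_fnJ, add_zero]

/-- `ε : H⁰(X, J) → Γ(X, O_X)ˣ`, `a ↦ 1 + a` -/
noncomputable def epsHom :
    Multiplicative (Coh.HH X (ClSub.idealMod J) 0) →* (Γ(X, ⊤))ˣ where
  toFun x := unitJ hJ ⊤ (sec0 (Coh.toAb (ClSub.idealMod J)) (Multiplicative.toAdd x))
  map_one' := by
    change unitJ hJ ⊤ (sec0 (Coh.toAb (ClSub.idealMod J)) 0) = 1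
    rw [map_zero]
    apply Units.ext
    rw [unitJ_val]
    change 1 + fnJ J ⊤ 0 = 1
    rw [fnJ_zero, add_zero]
  map_mul' x y := by
    change unitJ hJ ⊤ (sec0 (Coh.toAb (ClSub.idealMod J))
      (Multiplicative.toAdd x + Multiplicative.toAdd y)) = _
    rw [map_add]
    exact unitJ_add hJ ⊤ _ _

lemma epsHom_injective : Function.Injective (epsHom hJ) := by
  intro x y h
  have h1 := unitJ_injective hJ ⊤ h
  exact Multiplicative.toAdd.injective ((sec0 (Coh.toAb (ClSub.idealMod J))).injective h1)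

lemma ker_eq_range_epsHom :
    (Units.map J.subschemeι.appTop.hom.toMonoidHom).ker = (epsHom hJ).range := by
  ext b
  rw [MonoidHom.mem_ker, MonoidHom.mem_range]
  constructor
  · intro hb
    obtain ⟨a, ha⟩ := exists_unitJ_eq hJ ⊤ b hb
    refine ⟨Multiplicative.ofAdd ((sec0 (Coh.toAb (ClSub.idealMod J))).symm a), ?_⟩
    change unitJ hJ ⊤ (sec0 (Coh.toAb (ClSub.idealMod J))
      ((sec0 (Coh.toAb (ClSub.idealMod J))).symm a)) = b
    rw [AddEquiv.apply_symm_apply]
    exact ha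
  · rintro ⟨x, rfl⟩
    exact map_unitJ hJ ⊤ _


/-- `δ₀ : Γ(X₀, O)ˣ → H¹(X, J)` -/
noncomputable def delta0 :
    (Γ(J.subscheme, ⊤))ˣ →* Multiplicative (Coh.HH X (ClSub.idealMod J) 1) :=
  AddMonoidHom.toMultiplicativeRight
    ((dlS (SJ hJ) (shortExact hJ)).comp
      (AddMonoidHom.id ((SJ hJ).X₃.obj.obj (op (⊤ : Opens X.toTopCat)))))


lemma delta0_apply (u : (Γ(J.subscheme, ⊤))ˣ) :
    Multiplicative.toAdd (delta0 hJ u) =
      dlS (SJ hJ) (shortExact hJ)
        (UnitsSh.sectOfUnit (X := J.subscheme.toTopCat) (O := J.subscheme.presheaf)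
          (U := op (J.subschemeι ⁻¹ᵁ ⊤)) u) := rfl

lemma ker_delta0 :
    (delta0 hJ).ker = (Units.map J.subschemeι.appTop.hom.toMonoidHom).range := by
  ext u
  rw [MonoidHom.mem_ker, MonoidHom.mem_range]
  have h1 : delta0 hJ u = 1 ↔ dlS (SJ hJ) (shortExact hJ)
        (UnitsSh.sectOfUnit (X := J.subscheme.toTopCat) (O := J.subscheme.presheaf)
          (U := op (J.subschemeι ⁻¹ᵁ ⊤)) u) = 0 := Iff.rfl
  rw [h1, dlS_eq_zero_iff]
  constructor
  · rintro ⟨e₀, he₀⟩
    exact ⟨UnitsSh.unitOfSect (X := X.toTopCat) (O := X.presheaf) e₀, he₀⟩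
  · rintro ⟨v, hv⟩
    exact ⟨UnitsSh.sectOfUnit (X := X.toTopCat) (O := X.presheaf) v, hv⟩


include hJ in
/-- **the seven-term exact sequence** `0 → H⁰(J) → O(X)ˣ → O(X₀)ˣ → H¹(J) → Pic X → Pic X₀ → H²(J)` -/
theorem exists_seven_term [PicGrp.Law X] [PicGrp.Law J.subscheme]
    (hi : PicGrp.PullMul J.subschemeι) :
    ∃ (ε : Multiplicative (Coh.HH X (ClSub.idealMod J) 0) →* (Γ(X, ⊤))ˣ)
      (δ₀ : (Γ(J.subscheme, ⊤))ˣ →* Multiplicative (Coh.HH X (ClSub.idealMod J) 1))
      (α : Multiplicative (Coh.HH X (ClSub.idealMod J) 1) →* PicLoc.PicSet X)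
      (δ₁ : PicLoc.PicSet J.subscheme →* Multiplicative (Coh.HH X (ClSub.idealMod J) 2)),
      Function.Injective ε ∧
      (Units.map J.subschemeι.appTop.hom.toMonoidHom).ker = ε.range ∧
      δ₀.ker = (Units.map J.subschemeι.appTop.hom.toMonoidHom).range ∧
      α.ker = δ₀.range ∧
      (PicGrp.pullHom J.subschemeι hi).ker = α.range ∧
      δ₁.ker = (PicGrp.pullHom J.subschemeι hi).range := by
  obtain ⟨e, e₁, hc⟩ := exists_pic_equivs J.subschemeι (surjective_subschemeι hJ) hi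
  have hS : (SJ hJ).ShortExact := shortExact hJ
  let Ψ : Ext.{u} (ZLo X.toTopCat) (Coh.toAb (ClSub.idealMod J)) 1 →+ Additive (PicLoc.PicSet X) :=
    e.symm.toAddMonoidHom.comp ((Ext.mk₀ (phi hJ)).postcomp (ZLo X.toTopCat) (add_zero 1))
  have hΨ : ∀ x, e (Ψ x) = x.comp (Ext.mk₀ (phi hJ)) (add_zero 1) := fun x =>
    e.apply_symm_apply _
  let Θ : Multiplicative (Ext.{u} (ZLo X.toTopCat) (Coh.toAb (ClSub.idealMod J)) 1) →*
      PicLoc.PicSet X := AddMonoidHom.toMultiplicativeLeft Ψ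
  let D : Additive (PicLoc.PicSet J.subscheme) →+
      Ext.{u} (ZLo X.toTopCat) (Coh.toAb (ClSub.idealMod J)) 2 :=
    (hS.extClass.postcomp (ZLo X.toTopCat) (show 1 + 1 = 2 from rfl)).comp e₁.toAddMonoidHom
  have hD : ∀ c, D c = (e₁ c).comp hS.extClass (show 1 + 1 = 2 from rfl) := fun c => rfl
  let Δ : PicLoc.PicSet J.subscheme →*
      Multiplicative (Ext.{u} (ZLo X.toTopCat) (Coh.toAb (ClSub.idealMod J)) 2) :=
    AddMonoidHom.toMultiplicativeRight D
  refine ⟨epsHom hJ, delta0 hJ, Θ, Δ, epsHom_injective hJ, ker_eq_range_epsHom hJ,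
    ker_delta0 hJ, ?_, ?_, ?_⟩
  · -- ker α = range δ₀
    ext x
    rw [MonoidHom.mem_ker, MonoidHom.mem_range]
    have h1 : Θ x = 1 ↔ (Multiplicative.toAdd x).comp (Ext.mk₀ (phi hJ)) (add_zero 1) = 0 := by
      rw [← hΨ]
      constructor
      · intro h
        have h2 : Ψ (Multiplicative.toAdd x) = 0 := h
        rw [h2, map_zero]
      · intro h
        have h2 : Ψ (Multiplicative.toAdd x) = 0 := e.injective (h.trans (map_zero e).symm)
        exact h2
    rw [h1]
    constructor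
    · intro h
      obtain ⟨x₃, hx₃⟩ := Ext.covariant_sequence_exact₁ (ZLo X.toTopCat) hS _ h (zero_add 1)
      obtain ⟨b, rfl⟩ := (Ext.mk₀_bijective _ _).2 x₃
      refine ⟨UnitsSh.unitOfSect (X := J.subscheme.toTopCat) (O := J.subscheme.presheaf)
        (secLoAdd X.toTopCat (GP J.subschemeι) b), ?_⟩
      apply Multiplicative.toAdd.injective
      rw [delta0_apply]
      exact (dlS_apply (SJ hJ) hS b).trans hx₃
    · rintro ⟨u, rfl⟩
      rw [delta0_apply]
      obtain ⟨b, hb⟩ := (secLoAdd X.toTopCat (GP J.subschemeι)).surjective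
        (UnitsSh.sectOfUnit (X := J.subscheme.toTopCat) (O := J.subscheme.presheaf)
          (U := op (J.subschemeι ⁻¹ᵁ ⊤)) u)
      rw [← hb, dlS_apply (SJ hJ) hS b, Ext.comp_assoc_of_third_deg_zero, hS.extClass_comp,
        Ext.comp_zero]
  · -- ker pull = range α
    ext a
    rw [MonoidHom.mem_range, MonoidHom.mem_ker]
    have key : PicGrp.pullHom J.subschemeι hi a = 1 ↔
        (e (Additive.ofMul a)).comp (Ext.mk₀ (UnitsSh.comap J.subschemeι)) (add_zero 1) = 0 := by
      rw [← hc a]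
      constructor
      · intro h
        rw [h]
        exact map_zero e₁
      · intro h
        have h2 : Additive.ofMul (PicGrp.pullHom J.subschemeι hi a) = 0 :=
          e₁.injective (h.trans (map_zero e₁).symm)
        exact h2
    rw [key]
    constructor
    · intro h
      obtain ⟨x, hx⟩ := Ext.covariant_sequence_exact₂ (ZLo X.toTopCat) hS _ h
      refine ⟨Multiplicative.ofAdd x, ?_⟩
      apply Additive.ofMul.injective
      apply e.injective
      exact (hΨ x).trans hx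
    · rintro ⟨x, rfl⟩
      have h1 : e (Additive.ofMul (Θ x)) =
          (Multiplicative.toAdd x).comp (Ext.mk₀ (phi hJ)) (add_zero 1) := hΨ _
      rw [h1, Ext.comp_assoc_of_third_deg_zero, Ext.mk₀_comp_mk₀, phi_comap hJ, Ext.mk₀_zero,
        Ext.comp_zero]
  · -- ker δ₁ = range pull
    ext c
    rw [MonoidHom.mem_ker, MonoidHom.mem_range]
    have h1 : Δ c = 1 ↔ (e₁ (Additive.ofMul c)).comp hS.extClass (show 1 + 1 = 2 from rfl) = 0 :=
      Iff.rfl
    rw [h1]
    constructor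
    · intro h
      obtain ⟨x₂, hx₂⟩ := Ext.covariant_sequence_exact₃ (ZLo X.toTopCat) hS _ rfl h
      obtain ⟨a, rfl⟩ := e.surjective x₂
      refine ⟨Additive.toMul a, ?_⟩
      apply Additive.ofMul.injective
      apply e₁.injective
      exact (hc (Additive.toMul a)).trans hx₂
    · rintro ⟨a, rfl⟩
      rw [hc a, Ext.comp_assoc_of_second_deg_zero, hS.comp_extClass, Ext.comp_zero]

end SqZero

end Groth.Agent.Lib.Helper8SqZeroPic2
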