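import Mathlib
import Groth.Agent.Lib.Helper24SplitAlg

/-!
# The staircase monomial basis of the universal splitting algebra

Building on `Helper24SplitAlg` (freeness of rank `r!`), we show that the monomials
`u_0^{d_0} ⋯ u_{r-1}^{d_{r-1}}` with `d_i < r - i` form a basis of the universal splitting algebra
`R[U_0, …, U_{r-1}] / (σ_{i+1}(U) - a_i)`.
-/

universe u

namespace Groth.Agent.Lib.Helper8Stair

open Polynomial Groth.Agent.Lib.Helper24SplitAlg

/-- Staircase exponent vectors. -/
def Stair (r : ℕ) : Type := {d : Fin r → ℕ // ∀ i, d i < r - (i : ℕ)}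

/-- The splitting of staircase vectors into head and tail. -/
def stairEquiv (r : ℕ) : Fin (r + 1) × Stair r ≃ Stair (r + 1) where
  toFun p := ⟨Fin.cons (p.1 : ℕ) p.2.1, by
    intro i
    refine Fin.cases ?_ (fun j => ?_) i
    · simp only [Fin.cons_zero, Fin.val_zero, Nat.sub_zero]
      exact p.1.isLt
    · simp only [Fin.cons_succ, Fin.val_succ]
      have := p.2.2 j
      omega⟩
  invFun d := (⟨d.1 0, by have := d.2 0; simpa using this⟩,
    ⟨fun j => d.1 j.succ, fun j => by
      have := d.2 j.succ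
      simp only [Fin.val_succ] at this
      change d.1 j.succ < r - (j : ℕ)
      omega⟩)
  left_inv p := by
    rcases p with ⟨j, d, hd⟩
    simp
  right_inv d := by
    rcases d with ⟨d, hd⟩
    apply Subtype.ext
    simp only
    funext i
    refine Fin.cases ?_ (fun j => ?_) i <;> simp

/-- Staircase vectors as a dependent product of `Fin`s. -/
def stairPiEquiv (r : ℕ) : Stair r ≃ (Π i : Fin r, Fin (r - (i : ℕ))) where
  toFun d i := ⟨d.1 i, d.2 i⟩
  invFun d := ⟨fun i => (d i : ℕ), fun i => (d i).isLt⟩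
  left_inv d := by rcases d with ⟨d, hd⟩; rfl
  right_inv d := by funext i; rfl

/-- The monomial in the classes of the variables. -/
noncomputable def mon {R : Type u} [CommRing R] (r : ℕ) (P : R[X]) (d : Fin r → ℕ) :
    MvPolynomial (Fin r) R ⧸ J R r P :=
  ∏ i : Fin r, u r P i ^ d i

theorem neg_one_pow_units_smul {R : Type*} {A : Type*} [CommRing R] [CommRing A] [Algebra R A]
    (a b : A) (j : ℕ) : ((-1 : Rˣ) ^ j) • ((-a) ^ j * b) = a ^ j * b := by
  rw [Units.smul_def, Algebra.smul_def]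
  simp only [Units.val_pow_eq_pow_val, Units.val_neg, Units.val_one, map_pow, map_neg, map_one]
  rw [← mul_assoc, ← mul_pow]
  simp

theorem base' (R : Type u) [CommRing R] (P : R[X]) :
    ∃ b : Module.Basis (Stair 0) R (MvPolynomial (Fin 0) R ⧸ J R 0 P), ∀ d, b d = mon 0 P d.1 := by
  have hJ : J R 0 P = ⊥ := by
    unfold J
    rw [Set.range_eq_empty, Ideal.span_empty]
  let e1 : (MvPolynomial (Fin 0) R ⧸ J R 0 P) ≃ₐ[R] (MvPolynomial (Fin 0) R ⧸ (⊥ : Ideal (MvPolynomial (Fin 0) R))) :=
    Ideal.quotientEquivAlgOfEq R hJ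
  let e2 : (MvPolynomial (Fin 0) R ⧸ (⊥ : Ideal (MvPolynomial (Fin 0) R))) ≃ₐ[R] MvPolynomial (Fin 0) R :=
    AlgEquiv.quotientBot R _
  let e3 : MvPolynomial (Fin 0) R ≃ₐ[R] R := MvPolynomial.isEmptyAlgEquiv R (Fin 0)
  let eA : (MvPolynomial (Fin 0) R ⧸ J R 0 P) ≃ₐ[R] R := (e1.trans e2).trans e3
  let e : (MvPolynomial (Fin 0) R ⧸ J R 0 P) ≃ₗ[R] R := eA.toLinearEquiv
  have : Unique (Stair 0) := ⟨⟨⟨Fin.elim0, fun i => i.elim0⟩⟩, fun d => Subtype.ext (funext fun i => i.elim0)⟩
  refine ⟨(Module.Basis.singleton (Stair 0) R).map e.symm, ?_⟩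
  intro d
  rw [Module.Basis.map_apply, Module.Basis.singleton_apply]
  simp only [mon, Finset.univ_eq_empty, Finset.prod_empty]
  change eA.symm 1 = 1
  exact map_one _

theorem step' (r : ℕ) (R : Type u) [CommRing R] (P : R[X]) (hP : P.Monic)
    (hdeg : P.natDegree = r + 1)
    (ih : ∀ (R' : Type u) [CommRing R'] (P' : R'[X]), P'.Monic → P'.natDegree = r →
      ∃ b : Module.Basis (Stair r) R' (MvPolynomial (Fin r) R' ⧸ J R' r P'),
        ∀ d, b d = mon r P' d.1) :
    ∃ b : Module.Basis (Stair (r + 1)) R (MvPolynomial (Fin (r + 1)) R ⧸ J R (r + 1) P),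
      ∀ d, b d = mon (r + 1) P d.1 := by
  classical
  -- `R` is nontrivial
  have : Nontrivial R := by
    by_contra hne
    rw [not_nontrivial_iff_subsingleton] at hne
    have : P = 0 := Subsingleton.elim _ _
    rw [this, natDegree_zero] at hdeg
    omega
  -- the ring `R' = R[T]/(P)` and its power basis
  let pb := AdjoinRoot.powerBasis' hP
  have hdim : pb.dim = r + 1 := by rw [AdjoinRoot.powerBasis'_dim, hdeg]
  let bR' : Module.Basis (Fin (r + 1)) R (AdjoinRoot P) := pb.basis.reindex (finCongr hdim)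
  have : Nontrivial (AdjoinRoot P) := ⟨⟨bR' 0, 0, bR'.ne_zero 0⟩⟩
  set ρ : AdjoinRoot P := AdjoinRoot.root P with hρ
  set Pm : (AdjoinRoot P)[X] := P.map (AdjoinRoot.of P) with hPm
  have hPm_monic : Pm.Monic := hP.map _
  set P1 : (AdjoinRoot P)[X] := Pm /ₘ (X - C ρ) with hP1def
  have hP1 : (X - C ρ) * P1 = Pm := mul_divByMonic_eq_iff_isRoot.2 (AdjoinRoot.isRoot_root P)
  have hP1_monic : P1.Monic := by
    apply Monic.of_mul_monic_left (monic_X_sub_C ρ)
    rw [hP1]
    exact hPm_monic
  have hP1_deg : P1.natDegree = r := by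
    have h1 := Monic.natDegree_mul (monic_X_sub_C ρ) hP1_monic
    rw [hP1, natDegree_X_sub_C, hPm, hP.natDegree_map, hdeg] at h1
    omega
  -- induction hypothesis over `R'`
  obtain ⟨b', hb'⟩ := ih (AdjoinRoot P) P1 hP1_monic hP1_deg
  -- notation
  let Q := MvPolynomial (Fin (r + 1)) R ⧸ J R (r + 1) P
  let Q' := MvPolynomial (Fin r) (AdjoinRoot P) ⧸ J (AdjoinRoot P) r P1
  -- the map `φ : Q → Q'`
  let x : Fin (r + 1) → Q' := Fin.cons (-(algebraMap (AdjoinRoot P) Q' ρ)) (u r P1)
  have hx : ∏ i : Fin (r + 1), (X + C (x i)) = P.map (algebraMap R Q') := by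
    rw [Fin.prod_univ_succ]
    simp only [x, Fin.cons_zero, Fin.cons_succ]
    rw [prod_Q r P1 hP1_monic hP1_deg, map_neg, ← sub_eq_add_neg,
      IsScalarTower.algebraMap_eq R (AdjoinRoot P) Q', ← Polynomial.map_map,
      AdjoinRoot.algebraMap_eq, ← hPm, ← hP1, Polynomial.map_mul, Polynomial.map_sub, map_X, map_C]
  let φ : Q →ₐ[R] Q' := liftQ (r + 1) P hP hdeg x hx
  have hφu : ∀ i, φ (u (r + 1) P i) = x i := fun i => liftQ_u (r + 1) P hP hdeg x hx i
  -- the ring map `ψ₀ : R' → Q`
  have hprodQ := prod_Q (r + 1) P hP hdeg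
  have h0 : P.eval₂ (algebraMap R Q) (-(u (r + 1) P 0)) = 0 := by
    rw [eval₂_eq_eval_map, ← hprodQ, eval_prod]
    apply Finset.prod_eq_zero (Finset.mem_univ (0 : Fin (r + 1)))
    simp
  let ψ₀ : AdjoinRoot P →+* Q := AdjoinRoot.lift (algebraMap R Q) (-(u (r + 1) P 0)) h0
  have hψ₀ρ : ψ₀ ρ = -(u (r + 1) P 0) := AdjoinRoot.lift_root h0
  have hψ₀of : ∀ a : R, ψ₀ (AdjoinRoot.of P a) = algebraMap R Q a := fun a => AdjoinRoot.lift_of h0
  let _ : Algebra (AdjoinRoot P) Q := ψ₀.toAlgebra
  have halg : algebraMap (AdjoinRoot P) Q = ψ₀ := rfl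
  -- the map `ψ : Q' → Q`
  have hy : ∏ i : Fin r, (X + C (u (r + 1) P i.succ)) = P1.map (algebraMap (AdjoinRoot P) Q) := by
    have hreg : IsLeftRegular (X + C (u (r + 1) P 0) : Q[X]) :=
      (monic_X_add_C _).isRegular.left
    apply hreg
    simp only
    rw [← Fin.prod_univ_succ (fun i => (X + C (u (r + 1) P i) : Q[X])), hprodQ]
    have : P.map (algebraMap R Q) = Pm.map ψ₀ := by
      rw [hPm, Polynomial.map_map]
      congr 1
      ext a
      exact (hψ₀of a).symm
    rw [this, ← hP1, Polynomial.map_mul, Polynomial.map_sub, map_X, map_C, hψ₀ρ, halg]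
    simp [sub_eq_add_neg]
  let ψ : Q' →ₐ[AdjoinRoot P] Q := liftQ r P1 hP1_monic hP1_deg (fun i => u (r + 1) P i.succ) hy
  have hψu : ∀ i, ψ (u r P1 i) = u (r + 1) P i.succ :=
    fun i => liftQ_u r P1 hP1_monic hP1_deg (fun i => u (r + 1) P i.succ) hy i
  -- `φ ∘ ψ₀ = algebraMap R' Q'`
  have hφψ₀ : (φ : Q →+* Q').comp ψ₀ = algebraMap (AdjoinRoot P) Q' := by
    apply AdjoinRoot.ringHom_ext
    · ext a
      simp only [RingHom.comp_apply, RingHom.coe_coe, hψ₀of, AlgHom.commutes]
      rw [IsScalarTower.algebraMap_apply R (AdjoinRoot P) Q', AdjoinRoot.algebraMap_eq]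
    · simp only [RingHom.comp_apply, RingHom.coe_coe]
      change φ (ψ₀ ρ) = algebraMap (AdjoinRoot P) Q' ρ
      rw [hψ₀ρ, map_neg, hφu]
      simp only [x, Fin.cons_zero]
      exact neg_neg _
  -- `φ ∘ ψ = id`
  have h1 : ∀ y : Q', φ (ψ y) = y := by
    have : ((φ : Q →+* Q').comp (ψ : Q' →+* Q)) = RingHom.id Q' := by
      apply Ideal.Quotient.ringHom_ext
      apply MvPolynomial.ringHom_ext
      · intro c
        simp only [RingHom.comp_apply, RingHom.coe_coe, RingHom.id_apply]
        have e1 : (Ideal.Quotient.mk (J (AdjoinRoot P) r P1)) (MvPolynomial.C c) =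
            algebraMap (AdjoinRoot P) Q' c := rfl
        rw [e1, AlgHom.commutes, halg]
        exact congrFun (congrArg DFunLike.coe hφψ₀) c
      · intro i
        simp only [RingHom.comp_apply, RingHom.coe_coe, RingHom.id_apply]
        change φ (ψ (u r P1 i)) = u r P1 i
        rw [hψu, hφu]
        simp [x]
    intro y
    exact congrFun (congrArg DFunLike.coe this) y
  -- `ψ ∘ φ = id`
  have h2 : ∀ z : Q, ψ (φ z) = z := by
    have : ((ψ : Q' →+* Q).comp (φ : Q →+* Q')) = RingHom.id Q := by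
      apply Ideal.Quotient.ringHom_ext
      apply MvPolynomial.ringHom_ext
      · intro a
        simp only [RingHom.comp_apply, RingHom.coe_coe, RingHom.id_apply]
        have e1 : (Ideal.Quotient.mk (J R (r + 1) P)) (MvPolynomial.C a) = algebraMap R Q a := rfl
        rw [e1, AlgHom.commutes, IsScalarTower.algebraMap_apply R (AdjoinRoot P) Q',
          AlgHom.commutes, halg, AdjoinRoot.algebraMap_eq, hψ₀of]
        rfl
      · intro i
        simp only [RingHom.comp_apply, RingHom.coe_coe, RingHom.id_apply]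
        change ψ (φ (u (r + 1) P i)) = u (r + 1) P i
        rw [hφu]
        refine Fin.cases ?_ (fun j => ?_) i
        · simp only [x, Fin.cons_zero]
          rw [map_neg, AlgHom.commutes, halg, hψ₀ρ, neg_neg]
        · simp only [x, Fin.cons_succ]
          exact hψu j
    intro z
    exact congrFun (congrArg DFunLike.coe this) z
  -- the linear equivalence and the basis
  let e : Q ≃ₗ[R] Q' := LinearEquiv.ofBijective φ.toLinearMap
    ⟨Function.LeftInverse.injective (g := ψ) h2, Function.RightInverse.surjective (g := ψ) h1⟩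
  have hesymm : ∀ y : Q', e.symm y = ψ y := by
    intro y
    apply e.injective
    rw [LinearEquiv.apply_symm_apply]
    exact (h1 y).symm
  let B : Module.Basis (Fin (r + 1) × Stair r) R Q' := bR'.smulTower b'
  let B2 : Module.Basis (Fin (r + 1) × Stair r) R Q := B.map e.symm
  have hbR' : ∀ j : Fin (r + 1), bR' j = ρ ^ (j : ℕ) := by
    intro j
    simp only [bR', Module.Basis.reindex_apply, PowerBasis.coe_basis, pb,
      AdjoinRoot.powerBasis'_gen]
    rfl
  have hB2 : ∀ p : Fin (r + 1) × Stair r,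
      B2 p = (-(u (r + 1) P 0)) ^ (p.1 : ℕ) * ∏ i : Fin r, u (r + 1) P i.succ ^ p.2.1 i := by
    intro p
    simp only [B2, B, Module.Basis.map_apply, Module.Basis.smulTower_apply, hesymm]
    rw [hbR', hb', map_smul, Algebra.smul_def, halg, map_pow, hψ₀ρ]
    congr 1
    simp only [mon, map_prod, map_pow, hψu]
  let w : Fin (r + 1) × Stair r → Rˣ := fun p => (-1) ^ (p.1 : ℕ)
  let B3 : Module.Basis (Fin (r + 1) × Stair r) R Q := B2.unitsSMul w
  have hB3 : ∀ p : Fin (r + 1) × Stair r,
      B3 p = (u (r + 1) P 0) ^ (p.1 : ℕ) * ∏ i : Fin r, u (r + 1) P i.succ ^ p.2.1 i := by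
    intro p
    simp only [B3, Module.Basis.unitsSMul_apply, hB2, w]
    exact neg_one_pow_units_smul _ _ _
  refine ⟨B3.reindex (stairEquiv r), ?_⟩
  intro d
  rw [Module.Basis.reindex_apply, hB3]
  simp only [mon]
  rw [Fin.prod_univ_succ]
  rfl

/-- The staircase monomials form a basis of the universal splitting algebra. -/
theorem exists_stair_basis : ∀ (r : ℕ) (R : Type u) [CommRing R] (P : R[X]), P.Monic →
    P.natDegree = r →
    ∃ b : Module.Basis (Stair r) R (MvPolynomial (Fin r) R ⧸ J R r P), ∀ d, b d = mon r P d.1 := by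
  intro r
  induction r with
  | zero => intro R _ P _ _; exact base' R P
  | succ r ih => intro R _ P hP hdeg; exact step' r R P hP hdeg ih

section Main

variable {R : Type u} [CommRing R]

theorem smul_mk_eq {σ : Type*} (I : Ideal (MvPolynomial σ R)) (c : R) (y : MvPolynomial σ R) :
    c • (Ideal.Quotient.mk I y) = Ideal.Quotient.mk I (MvPolynomial.C c * y) := by
  have e : c • (Ideal.Quotient.mk I y) = (Ideal.Quotient.mk I (MvPolynomial.C c)) * Ideal.Quotient.mk I y :=
    Algebra.smul_def c (Ideal.Quotient.mk I y)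
  rw [e, map_mul]

/-- The staircase monomials form a basis of `R[t] / (e_{i+1}(t) - a_i)`. -/
theorem exists_basis_pi (n : ℕ) (a : Fin n → R) :
    ∃ b : Module.Basis (Π i : Fin n, Fin (n - (i : ℕ))) R
        (MvPolynomial (Fin n) R ⧸ Ideal.span (Set.range fun i : Fin n =>
          MvPolynomial.esymm (Fin n) R ((i : ℕ) + 1) - MvPolynomial.C (a i))),
      ∀ d, b d = Ideal.Quotient.mk _ (∏ i : Fin n, MvPolynomial.X i ^ ((d i : ℕ))) := by
  rw [← J_polyOf]
  rcases subsingleton_or_nontrivial R with h | h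
  · have : Subsingleton (MvPolynomial (Fin n) R ⧸ J R n (polyOf n a)) :=
      Module.subsingleton R _
    have : Subsingleton ((Π i : Fin n, Fin (n - (i : ℕ))) →₀ R) := Module.subsingleton R _
    exact ⟨Module.Basis.ofRepr (LinearEquiv.ofSubsingleton _ _), fun d => Subsingleton.elim _ _⟩
  · obtain ⟨b, hb⟩ := exists_stair_basis n R (polyOf n a) (polyOf_monic n a) (polyOf_natDegree n a)
    refine ⟨b.reindex (stairPiEquiv n), ?_⟩
    intro d
    rw [Module.Basis.reindex_apply, hb]
    simp only [mon, u, map_prod, map_pow]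
    rfl

variable (n : ℕ) (a : Fin n → R)

/-- Coefficientwise membership in `J` is implied by membership in `I + J R[t]`. -/
theorem repr_mem_of_mem_sup
    (b : Module.Basis (Π i : Fin n, Fin (n - (i : ℕ))) R
        (MvPolynomial (Fin n) R ⧸ Ideal.span (Set.range fun i : Fin n =>
          MvPolynomial.esymm (Fin n) R ((i : ℕ) + 1) - MvPolynomial.C (a i))))
    (J : Ideal R) (x : MvPolynomial (Fin n) R)
    (hx : x ∈ Ideal.span (Set.range fun i : Fin n =>
          MvPolynomial.esymm (Fin n) R ((i : ℕ) + 1) - MvPolynomial.C (a i))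
        ⊔ Ideal.map (MvPolynomial.C : R →+* MvPolynomial (Fin n) R) J)
    (d : Π i : Fin n, Fin (n - (i : ℕ))) :
    b.repr (Ideal.Quotient.mk _ x) d ∈ J := by
  obtain ⟨y, hy, z, hz, rfl⟩ := Submodule.mem_sup.mp hx
  have h1 : Ideal.Quotient.mk (Ideal.span (Set.range fun i : Fin n =>
          MvPolynomial.esymm (Fin n) R ((i : ℕ) + 1) - MvPolynomial.C (a i))) (y + z) =
      Ideal.Quotient.mk _ z := by
    rw [map_add, Ideal.Quotient.eq_zero_iff_mem.mpr hy, zero_add]
  rw [h1]
  rw [MvPolynomial.mem_map_C_iff] at hz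
  have h2 : Ideal.Quotient.mk (Ideal.span (Set.range fun i : Fin n =>
          MvPolynomial.esymm (Fin n) R ((i : ℕ) + 1) - MvPolynomial.C (a i))) z =
      ∑ v ∈ z.support, z.coeff v • Ideal.Quotient.mk _ (MvPolynomial.monomial v (1 : R)) := by
    conv_lhs => rw [MvPolynomial.as_sum z]
    rw [map_sum]
    refine Finset.sum_congr rfl fun v _ => ?_
    rw [smul_mk_eq, MvPolynomial.C_mul_monomial, mul_one]
  rw [h2, map_sum, Finsupp.finsetSum_apply]
  refine J.sum_mem fun v _ => ?_
  rw [map_smul, Finsupp.smul_apply, smul_eq_mul]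
  exact J.mul_mem_right _ (hz v)

/-- Every polynomial is congruent modulo `I` to the staircase combination given by its
coordinates. -/
theorem sub_sum_repr_mem
    (b : Module.Basis (Π i : Fin n, Fin (n - (i : ℕ))) R
        (MvPolynomial (Fin n) R ⧸ Ideal.span (Set.range fun i : Fin n =>
          MvPolynomial.esymm (Fin n) R ((i : ℕ) + 1) - MvPolynomial.C (a i))))
    (hb : ∀ d, b d = Ideal.Quotient.mk _ (∏ i : Fin n, MvPolynomial.X i ^ ((d i : ℕ))))
    (x : MvPolynomial (Fin n) R) :
    x - ∑ d : (Π i : Fin n, Fin (n - (i : ℕ))),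
        MvPolynomial.C (b.repr (Ideal.Quotient.mk _ x) d) * ∏ i : Fin n, MvPolynomial.X i ^ ((d i : ℕ))
      ∈ Ideal.span (Set.range fun i : Fin n =>
          MvPolynomial.esymm (Fin n) R ((i : ℕ) + 1) - MvPolynomial.C (a i)) := by
  rw [← Ideal.Quotient.eq, map_sum]
  conv_lhs => rw [← b.sum_repr (Ideal.Quotient.mk _ x)]
  refine Finset.sum_congr rfl fun d _ => ?_
  rw [hb, smul_mk_eq]

/-- The coordinates of a staircase combination. -/
theorem repr_sum
    (b : Module.Basis (Π i : Fin n, Fin (n - (i : ℕ))) R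
        (MvPolynomial (Fin n) R ⧸ Ideal.span (Set.range fun i : Fin n =>
          MvPolynomial.esymm (Fin n) R ((i : ℕ) + 1) - MvPolynomial.C (a i))))
    (hb : ∀ d, b d = Ideal.Quotient.mk _ (∏ i : Fin n, MvPolynomial.X i ^ ((d i : ℕ))))
    (c : (Π i : Fin n, Fin (n - (i : ℕ))) → R) (d : Π i : Fin n, Fin (n - (i : ℕ))) :
    b.repr (Ideal.Quotient.mk _ (∑ d : (Π i : Fin n, Fin (n - (i : ℕ))),
        MvPolynomial.C (c d) * ∏ i : Fin n, MvPolynomial.X i ^ ((d i : ℕ)))) d = c d := by
  have : Ideal.Quotient.mk (Ideal.span (Set.range fun i : Fin n =>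
          MvPolynomial.esymm (Fin n) R ((i : ℕ) + 1) - MvPolynomial.C (a i)))
      (∑ d : (Π i : Fin n, Fin (n - (i : ℕ))),
        MvPolynomial.C (c d) * ∏ i : Fin n, MvPolynomial.X i ^ ((d i : ℕ))) =
      ∑ d : (Π i : Fin n, Fin (n - (i : ℕ))), c d • b d := by
    rw [map_sum]
    refine Finset.sum_congr rfl fun d _ => ?_
    rw [hb, smul_mk_eq]
  rw [this, Module.Basis.repr_sum_self]

end Main

section Theta

/-- The isomorphism `R[c][t] / (e_{i+1}(t) - c_i) ≅ R[t]` turns any basis of the left-hand side over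
`R[c]` into a basis of `R[t]` over the symmetric polynomials. -/
theorem theta_bijective {R : Type u} [CommRing R] (r : ℕ) {ι : Type*} [Fintype ι]
    (bQ : Module.Basis ι (MvPolynomial (Fin r) R)
      (MvPolynomial (Fin r) (MvPolynomial (Fin r) R) ⧸ Ideal.span (Set.range fun i : Fin r =>
        MvPolynomial.esymm (Fin r) (MvPolynomial (Fin r) R) ((i : ℕ) + 1) -
          MvPolynomial.C (MvPolynomial.X i : MvPolynomial (Fin r) R)))) :
    ∃ θ : (MvPolynomial (Fin r) (MvPolynomial (Fin r) R) ⧸ Ideal.span (Set.range fun i : Fin r =>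
        MvPolynomial.esymm (Fin r) (MvPolynomial (Fin r) R) ((i : ℕ) + 1) -
          MvPolynomial.C (MvPolynomial.X i : MvPolynomial (Fin r) R))) →+* MvPolynomial (Fin r) R,
      (∀ i, θ (Ideal.Quotient.mk _ (MvPolynomial.X i)) = MvPolynomial.X i) ∧
      Function.Bijective (fun p : ι → MvPolynomial (Fin r) R =>
        ∑ k : ι,
          (MvPolynomial.aeval (fun i : Fin r => MvPolynomial.esymm (Fin r) R ((i : ℕ) + 1))) (p k) *
            θ (bQ k)) := by
  classical
  -- the base ring `B = R[T]` and the `B`-algebra `A = R[U]`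
  let f : MvPolynomial (Fin r) R →ₐ[R] MvPolynomial (Fin r) R := MvPolynomial.aeval (fun i : Fin r => MvPolynomial.esymm (Fin r) R ((i : ℕ) + 1))
  let a : Fin r → MvPolynomial (Fin r) R := fun i => MvPolynomial.X i
  let I : Ideal (MvPolynomial (Fin r) (MvPolynomial (Fin r) R)) := Ideal.span (Set.range fun i : Fin r =>
        MvPolynomial.esymm (Fin r) (MvPolynomial (Fin r) R) ((i : ℕ) + 1) - MvPolynomial.C (a i))
  let Q := MvPolynomial (Fin r) (MvPolynomial (Fin r) R) ⧸ I
  -- the map `θ : Q → A`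
  let θ₁ : MvPolynomial (Fin r) (MvPolynomial (Fin r) R) →+* MvPolynomial (Fin r) R :=
    MvPolynomial.eval₂Hom (f : MvPolynomial (Fin r) R →+* MvPolynomial (Fin r) R) (fun i => (MvPolynomial.X i : MvPolynomial (Fin r) R))
  have hθ₁esymm : ∀ n, θ₁ (MvPolynomial.esymm (Fin r) (MvPolynomial (Fin r) R) n) = MvPolynomial.esymm (Fin r) R n := by
    intro n
    simp [θ₁, MvPolynomial.esymm]
  have hθ₁C : ∀ c : MvPolynomial (Fin r) R, θ₁ (MvPolynomial.C c) = f c := fun c => by simp [θ₁]
  have hθ₁X : ∀ i, θ₁ (MvPolynomial.X i) = MvPolynomial.X i := fun i => by simp [θ₁]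
  have hkill : ∀ y ∈ I, θ₁ y = 0 := by
    have : I ≤ RingHom.ker θ₁ := by
      apply Ideal.span_le.2
      rintro _ ⟨i, rfl⟩
      rw [SetLike.mem_coe, RingHom.mem_ker, map_sub, hθ₁esymm, hθ₁C]
      simp only [f, a, MvPolynomial.aeval_X, sub_self]
    exact fun y hy => this hy
  let θ : Q →+* MvPolynomial (Fin r) R := Ideal.Quotient.lift I θ₁ hkill
  have hθmk : ∀ y, θ (Ideal.Quotient.mk I y) = θ₁ y := fun y => Ideal.Quotient.lift_mk I θ₁ hkill
  -- the inverse `θ' : A → Q`
  let v : Fin r → Q := fun i => Ideal.Quotient.mk I (MvPolynomial.X i)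
  let θ' : MvPolynomial (Fin r) R →ₐ[R] Q := MvPolynomial.aeval v
  have hθ'X : ∀ i, θ' (MvPolynomial.X i) = v i := fun i => by simp [θ']
  have hRQ : ∀ c : R, algebraMap R Q c = Ideal.Quotient.mk I (MvPolynomial.C (MvPolynomial.C c)) :=
    fun c => rfl
  -- relations in `Q`
  have hrel : ∀ i : Fin r, ((Finset.univ : Finset (Fin r)).val.map v).esymm ((i : ℕ) + 1) =
      Ideal.Quotient.mk I (MvPolynomial.C (a i)) := by
    intro i
    have h1 : Ideal.Quotient.mkₐ (MvPolynomial (Fin r) R) I = MvPolynomial.aeval v := by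
      apply MvPolynomial.algHom_ext
      intro j
      simp [v]
    have h2 : Ideal.Quotient.mkₐ (MvPolynomial (Fin r) R) I (MvPolynomial.esymm (Fin r) (MvPolynomial (Fin r) R) ((i : ℕ) + 1) -
        MvPolynomial.C (a i)) = 0 := by
      rw [Ideal.Quotient.mkₐ_eq_mk, Ideal.Quotient.eq_zero_iff_mem]
      exact Ideal.subset_span ⟨i, rfl⟩
    rw [map_sub, sub_eq_zero] at h2
    rw [h1] at h2
    rw [MvPolynomial.aeval_esymm_eq_multiset_esymm] at h2
    rw [h2, ← h1]
    rfl
  -- `θ' ∘ f = mk ∘ C`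
  have hθ'f : ∀ c : MvPolynomial (Fin r) R, θ' (f c) = Ideal.Quotient.mk I (MvPolynomial.C c) := by
    have : (θ' : MvPolynomial (Fin r) R →+* Q).comp (f : MvPolynomial (Fin r) R →+* MvPolynomial (Fin r) R) =
        (Ideal.Quotient.mk I).comp MvPolynomial.C := by
      apply MvPolynomial.ringHom_ext
      · intro c
        simp only [RingHom.comp_apply, RingHom.coe_coe]
        have : f (MvPolynomial.C c) = MvPolynomial.C c := by
          simp only [f, MvPolynomial.aeval_C]
          rfl
        rw [this]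
        have : θ' (MvPolynomial.C c) = algebraMap R Q c := by
          simp only [θ', MvPolynomial.aeval_C]
        rw [this, hRQ]
      · intro i
        simp only [RingHom.comp_apply, RingHom.coe_coe]
        have : f (MvPolynomial.X i) = MvPolynomial.esymm (Fin r) R ((i : ℕ) + 1) := by
          simp only [f, MvPolynomial.aeval_X]
        rw [this]
        simp only [θ']
        rw [MvPolynomial.aeval_esymm_eq_multiset_esymm, hrel]
    intro c
    exact congrFun (congrArg DFunLike.coe this) c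
  -- `θ ∘ θ' = id`
  have h1 : ∀ y : MvPolynomial (Fin r) R, θ (θ' y) = y := by
    have : (θ.comp (θ' : MvPolynomial (Fin r) R →+* Q)) = RingHom.id _ := by
      apply MvPolynomial.ringHom_ext
      · intro c
        simp only [RingHom.comp_apply, RingHom.coe_coe, RingHom.id_apply]
        have : θ' (MvPolynomial.C c) = algebraMap R Q c := by
          simp only [θ', MvPolynomial.aeval_C]
        rw [this, hRQ, hθmk, hθ₁C]
        simp only [f, MvPolynomial.aeval_C]
        rfl
      · intro i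
        simp only [RingHom.comp_apply, RingHom.coe_coe, RingHom.id_apply]
        rw [hθ'X]
        simp only [v]
        rw [hθmk, hθ₁X]
    intro y
    exact congrFun (congrArg DFunLike.coe this) y
  -- `θ' ∘ θ = id`
  have h2 : ∀ z : Q, θ' (θ z) = z := by
    have : ((θ' : MvPolynomial (Fin r) R →+* Q).comp θ) = RingHom.id Q := by
      apply Ideal.Quotient.ringHom_ext
      apply MvPolynomial.ringHom_ext
      · intro c
        simp only [RingHom.comp_apply, RingHom.coe_coe, RingHom.id_apply]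
        rw [hθmk, hθ₁C, hθ'f]
        rfl
      · intro i
        simp only [RingHom.comp_apply, RingHom.coe_coe, RingHom.id_apply]
        rw [hθmk, hθ₁X, hθ'X]
        rfl
    intro z
    exact congrFun (congrArg DFunLike.coe this) z
  have hθbij : Function.Bijective θ :=
    ⟨Function.LeftInverse.injective (g := θ') h2, Function.RightInverse.surjective (g := θ') h1⟩
  -- conclusion
  refine ⟨θ, fun i => by rw [hθmk, hθ₁X], ?_⟩
  have hΦ : (fun p : ι → MvPolynomial (Fin r) R =>
        ∑ k : ι, f (p k) * θ (bQ k)) = θ ∘ bQ.equivFun.symm := by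
    funext p
    simp only [Function.comp_apply, Module.Basis.equivFun_symm_apply, map_sum]
    refine Finset.sum_congr rfl fun k _ => ?_
    have e : p k • bQ k = (Ideal.Quotient.mk I (MvPolynomial.C (p k))) * bQ k :=
      Algebra.smul_def (p k) (bQ k)
    rw [e, map_mul, hθmk, hθ₁C]
  exact hΦ ▸ hθbij.comp bQ.equivFun.symm.bijective

end Theta

end Groth.Agent.Lib.Helper8Stair
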