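import Mathlib
import Groth.Prelude.Def_Hens2
import Groth.Agent.Lib.Helper3IndEtHz
import Groth.Agent.Lib.Helper3IndEtDesc
import Groth.Agent.Lib.R2H3TwConstF
import Groth.Agent.Lib.Helper8IndEtSepPt
import Groth.Agent.Lib.Helper3IndEtFlat

/-!
# Specialisation arrows between strict localisations (helper8)
-/

set_option autoImplicit false
open CategoryTheory CategoryTheory.Limits AlgebraicGeometry Opposite IsLocalRing
universe u

namespace Groth.Agent.Lib.Helper8StrictLocSpec

/-- ring level: maps from an ind-étale algebra to a henselian local ring are maps to its residue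
field -/
theorem ring_level {A R R' : Type u} [CommRing A] [CommRing R] [Algebra A R]
    (hR : EtPBC.IsIndEtale A R) [CommRing R'] [HenselianLocalRing R'] (φ : A →+* R') :
    (∀ g₁ g₂ : R →+* R', g₁.comp (algebraMap A R) = φ → g₂.comp (algebraMap A R) = φ →
      (residue R').comp g₁ = (residue R').comp g₂ → g₁ = g₂) ∧
    (∀ h : R →+* ResidueField R', h.comp (algebraMap A R) = (residue R').comp φ →
      ∃ g : R →+* R', g.comp (algebraMap A R) = φ ∧ (residue R').comp g = h) := by
  letI : Algebra A R' := φ.toAlgebra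
  letI : Algebra A (ResidueField R') := ((residue R').comp φ).toAlgebra
  let uT : R' →ₐ[A] ResidueField R' := ⟨residue R', fun a => rfl⟩
  have huT : Function.Surjective uT := residue_surjective
  have hker : RingHom.ker uT.toRingHom = maximalIdeal R' := IsLocalRing.ker_residue
  constructor
  · intro g₁ g₂ h₁ h₂ h
    let G₁ : R →ₐ[A] R' := ⟨g₁, fun a => RingHom.congr_fun h₁ a⟩
    let G₂ : R →ₐ[A] R' := ⟨g₂, fun a => RingHom.congr_fun h₂ a⟩
    obtain ⟨G, -, hG⟩ := Groth.Agent.Lib.Helper3.IndEt.existsUnique_algHom_of_isIndEtale hR uT huT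
      hker (uT.comp G₁)
    have e1 : G₁ = G := hG G₁ rfl
    have e2 : G₂ = G := hG G₂ (by
      apply AlgHom.ext
      intro r
      exact (RingHom.congr_fun h r).symm)
    have : G₁ = G₂ := e1.trans e2.symm
    ext r
    exact AlgHom.congr_fun this r
  · intro h hh
    let H : R →ₐ[A] ResidueField R' := ⟨h, fun a => RingHom.congr_fun hh a⟩
    obtain ⟨G, hG, -⟩ := Groth.Agent.Lib.Helper3.IndEt.existsUnique_algHom_of_isIndEtale hR uT huT
      hker H
    refine ⟨G.toRingHom, ?_, ?_⟩
    · ext a
      exact G.commutes a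
    · ext r
      exact AlgHom.congr_fun hG r

section Scheme

variable (X : Scheme.{u}) (x x' : X)
  (R : Type u) [CommRing R] [IsLocalRing R] [Algebra (X.presheaf.stalk x) R]
  [IsLocalHom (algebraMap (X.presheaf.stalk x) R)]
  [Hensel.IsStrictHenselization (X.presheaf.stalk x) R]
  (R' : Type u) [CommRing R'] [IsLocalRing R'] [Algebra (X.presheaf.stalk x') R']
  [IsLocalHom (algebraMap (X.presheaf.stalk x') R')]
  [Hensel.IsStrictHenselization (X.presheaf.stalk x') R']

include x x' in
theorem arrows_injective (g₁ g₂ : Spec (CommRingCat.of R') ⟶ Spec (CommRingCat.of R))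
    (h₁ : g₁ ≫ Hens2.specOf X x R = Hens2.specOf X x' R')
    (h₂ : g₂ ≫ Hens2.specOf X x R = Hens2.specOf X x' R')
    (h : Spec.map (CommRingCat.ofHom (IsLocalRing.residue R')) ≫ g₁ =
      Spec.map (CommRingCat.ofHom (IsLocalRing.residue R')) ≫ g₂) : g₁ = g₂ := by
  haveI : HenselianLocalRing R' :=
    Hensel.IsStrictHenselization.henselian (R := X.presheaf.stalk x')
  have hR := Groth.Agent.Lib.Helper3.IndEt.isIndEtale_of_isStrictHenselization
    (X.presheaf.stalk x) R
  obtain ⟨γ₁, rfl⟩ := Spec.map_surjective g₁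
  obtain ⟨γ₂, rfl⟩ := Spec.map_surjective g₂
  have key : Spec.map γ₁ ≫ Spec.map (CommRingCat.ofHom (algebraMap (X.presheaf.stalk x) R)) =
      Spec.map γ₂ ≫ Spec.map (CommRingCat.ofHom (algebraMap (X.presheaf.stalk x) R)) := by
    rw [← cancel_mono (X.fromSpecStalk x), Category.assoc, Category.assoc]
    exact h₁.trans h₂.symm
  rw [← Spec.map_comp, ← Spec.map_comp] at key
  have key' := Spec.map_injective key
  rw [← Spec.map_comp, ← Spec.map_comp] at h
  have hres := Spec.map_injective h
  have := (ring_level hR (γ₁.hom.comp (algebraMap (X.presheaf.stalk x) R))).1 γ₁.hom γ₂.hom rfl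
    (by
      have := congrArg CommRingCat.Hom.hom key'
      exact this.symm)
    (by
      have := congrArg CommRingCat.Hom.hom hres
      exact this)
  congr 1
  exact CommRingCat.hom_ext this

include x' in
theorem specOf_closedPoint : (Hens2.specOf X x' R') (closedPoint R') = x' := by
  rw [Scheme.Hom.comp_apply]
  have e : (Spec.map (CommRingCat.ofHom (algebraMap (X.presheaf.stalk x') R'))) (closedPoint R') =
      closedPoint (X.presheaf.stalk x') :=
    IsLocalRing.comap_closedPoint (algebraMap (X.presheaf.stalk x') R')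
  rw [e]
  exact Scheme.fromSpecStalk_closedPoint

include x' in
theorem geomPt_apply (z : Spec (CommRingCat.of (ResidueField R'))) :
    (Hens2.geomPt X x' R') z = x' := by
  rw [Scheme.Hom.comp_apply, Groth.Agent.Lib.R2H3.TwConst.specMap_residue_apply]
  exact specOf_closedPoint X x' R'

include x x' in
theorem arrows_surjective (h : Spec (CommRingCat.of (ResidueField R')) ⟶ Spec (CommRingCat.of R))
    (hh : h ≫ Hens2.specOf X x R = Hens2.geomPt X x' R') :
    ∃ g : Spec (CommRingCat.of R') ⟶ Spec (CommRingCat.of R),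
      g ≫ Hens2.specOf X x R = Hens2.specOf X x' R' ∧
      Spec.map (CommRingCat.ofHom (IsLocalRing.residue R')) ≫ g = h := by
  haveI : HenselianLocalRing R' :=
    Hensel.IsStrictHenselization.henselian (R := X.presheaf.stalk x')
  have hR := Groth.Agent.Lib.Helper3.IndEt.isIndEtale_of_isStrictHenselization
    (X.presheaf.stalk x) R
  have hspec : x' ⤳ x := by
    have hm : x' ∈ Set.range (X.fromSpecStalk x) :=
      ⟨(h ≫ Spec.map (CommRingCat.ofHom (algebraMap (X.presheaf.stalk x) R)))
        (closedPoint (ResidueField R')), by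
        rw [← Scheme.Hom.comp_apply, Category.assoc, hh]
        exact geomPt_apply X x' R' _⟩
    rwa [Scheme.range_fromSpecStalk] at hm
  let φ : (X.presheaf.stalk x) →+* R' :=
    (algebraMap (X.presheaf.stalk x') R').comp (X.presheaf.stalkSpecializes hspec).hom
  have hφ : Spec.map (CommRingCat.ofHom φ) ≫ X.fromSpecStalk x = Hens2.specOf X x' R' := by
    have e : CommRingCat.ofHom φ = X.presheaf.stalkSpecializes hspec ≫
        CommRingCat.ofHom (algebraMap (X.presheaf.stalk x') R') := rfl
    rw [e, Spec.map_comp, Category.assoc, Scheme.SpecMap_stalkSpecializes_fromSpecStalk]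
    rfl
  obtain ⟨η, rfl⟩ := Spec.map_surjective h
  have hη : η.hom.comp (algebraMap (X.presheaf.stalk x) R) = (residue R').comp φ := by
    have e : Spec.map η ≫ Spec.map (CommRingCat.ofHom (algebraMap (X.presheaf.stalk x) R)) =
        Spec.map (CommRingCat.ofHom (residue R')) ≫ Spec.map (CommRingCat.ofHom φ) := by
      rw [← cancel_mono (X.fromSpecStalk x), Category.assoc, Category.assoc, hφ]
      exact hh
    rw [← Spec.map_comp, ← Spec.map_comp] at e
    exact congrArg CommRingCat.Hom.hom (Spec.map_injective e)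
  obtain ⟨g, hg1, hg2⟩ := (ring_level hR φ).2 η.hom hη
  refine ⟨Spec.map (CommRingCat.ofHom g), ?_, ?_⟩
  · rw [← hφ, ← Category.assoc, ← Spec.map_comp]
    congr 2
    exact CommRingCat.hom_ext hg1
  · rw [← Spec.map_comp]
    congr 1
    exact CommRingCat.hom_ext hg2

include x x' in
theorem specializes_of_arrow (g : Spec (CommRingCat.of R') ⟶ Spec (CommRingCat.of R))
    (hg : g ≫ Hens2.specOf X x R = Hens2.specOf X x' R') : x' ⤳ x := by
  have hm : x' ∈ Set.range (X.fromSpecStalk x) :=
    ⟨(g ≫ Spec.map (CommRingCat.ofHom (algebraMap (X.presheaf.stalk x) R))) (closedPoint R'), by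
      rw [← Scheme.Hom.comp_apply, Category.assoc, hg]
      exact specOf_closedPoint X x' R'⟩
  rwa [Scheme.range_fromSpecStalk] at hm

include x x' in
theorem exists_arrow_of_specializes (hspec : x' ⤳ x) :
    ∃ g : Spec (CommRingCat.of R') ⟶ Spec (CommRingCat.of R),
      g ≫ Hens2.specOf X x R = Hens2.specOf X x' R' := by
  have hR := Groth.Agent.Lib.Helper3.IndEt.isIndEtale_of_isStrictHenselization
    (X.presheaf.stalk x) R
  haveI : Module.Flat (X.presheaf.stalk x) R :=
    (Groth.Agent.Lib.Helper3.IndEt.flat_iff_of_isIndEtale hR R).mpr inferInstance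
  haveI : Module.FaithfullyFlat (X.presheaf.stalk x) R :=
    Module.FaithfullyFlat.of_flat_of_isLocalHom
  haveI : IsSepClosed (ResidueField R') :=
    (Hensel.IsStrictHenselization.isSepClosure (R := X.presheaf.stalk x') (S := R')).sep_closed
  let φ : (X.presheaf.stalk x) →+* R' :=
    (algebraMap (X.presheaf.stalk x') R').comp (X.presheaf.stalkSpecializes hspec).hom
  have hφ : Spec.map (CommRingCat.ofHom φ) ≫ X.fromSpecStalk x = Hens2.specOf X x' R' := by
    have e : CommRingCat.ofHom φ = X.presheaf.stalkSpecializes hspec ≫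
        CommRingCat.ofHom (algebraMap (X.presheaf.stalk x') R') := rfl
    rw [e, Spec.map_comp, Category.assoc, Scheme.SpecMap_stalkSpecializes_fromSpecStalk]
    rfl
  obtain ⟨η, hη⟩ := Groth.Agent.Lib.Helper8IndEtSepPt.exists_hom_to_sepClosed hR
    (ResidueField R') ((residue R').comp φ)
  obtain ⟨g, hg, -⟩ := arrows_surjective X x x' R R' (Spec.map (CommRingCat.ofHom η)) (by
    change Spec.map (CommRingCat.ofHom η) ≫
      Spec.map (CommRingCat.ofHom (algebraMap (X.presheaf.stalk x) R)) ≫ X.fromSpecStalk x =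
      Spec.map (CommRingCat.ofHom (residue R')) ≫ Hens2.specOf X x' R'
    rw [← hφ, ← Category.assoc, ← Category.assoc, ← Spec.map_comp, ← Spec.map_comp]
    congr 2
    exact CommRingCat.hom_ext hη)
  exact ⟨g, hg⟩

end Scheme

end Groth.Agent.Lib.Helper8StrictLocSpec
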