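import Mathlib
import Groth.Prelude.Def_CohTop
import Groth.Agent.Lib.Helper16Flasque

/-!
# Flasque sheaves with values one universe up are acyclic (helper8)

For `X : TopCat.{u}` and a sheaf `G` on `X` with values in `AddCommGrpCat.{u+1}` all of whose
restriction maps are surjective, `Ext^{n+1}(ℤ, G) = 0`.  Proof: transport to the space `ULift X`
(where all universes agree) along the equivalence of sites `Opens X ≌ Opens (ULift X)`.
-/

set_option autoImplicit false
universe u
open CategoryTheory CategoryTheory.Limits TopologicalSpace Opposite Abelian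

namespace Groth.Agent.Lib.Helper8TopULift

variable (X : TopCat.{u})

/-- the space lifted one universe up -/
abbrev XL : TopCat.{u + 1} := TopCat.of (ULift.{u + 1} X)

/-- opens of `X` and of the lifted space -/
noncomputable def eO : Opens X ≌ Opens (XL X) :=
  (Homeomorph.ulift.{u + 1} (X := X)).symm.opensCongr.equivalence

lemma mem_inverse_obj (U' : Opens (XL X)) (x : X) :
    x ∈ (eO X).inverse.obj U' ↔ (ULift.up x : XL X) ∈ U' := Iff.rfl

lemma mem_functor_obj (U : Opens X) (x' : XL X) :
    x' ∈ (eO X).functor.obj U ↔ x'.down ∈ U := Iff.rfl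

instance isDenseSubsite_inverse :
    (eO X).inverse.IsDenseSubsite (Opens.grothendieckTopology (XL X))
      (Opens.grothendieckTopology X) where
  functorPushforward_mem_iff := by
    intro U' S
    constructor
    · intro h x' hx'
      obtain ⟨V, f, ⟨W', g, k, hg, hfac⟩, hxV⟩ := h x'.down hx'
      exact ⟨W', g, hg, k.le hxV⟩
    · intro h x hx
      obtain ⟨W', g, hg, hxW⟩ := h (ULift.up x) hx
      exact ⟨(eO X).inverse.obj W', (eO X).inverse.map g,
        Sieve.image_mem_functorPushforward _ _ hg, hxW⟩

instance essSmallOpens : EssentiallySmall.{u + 1} (Opens X) :=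
  essentiallySmall_of_small_of_locallySmall _

instance hasSheafifyUp :
    HasSheafify (Opens.grothendieckTopology X) AddCommGrpCat.{u + 1} :=
  hasSheafifyEssentiallySmallSite _ _

/-- abelian sheaves on `X` with values one universe up -/
abbrev AbUp : Type (u + 2) := Sheaf (Opens.grothendieckTopology X) AddCommGrpCat.{u + 1}

instance isGrothendieckAbelianUp : IsGrothendieckAbelian.{u + 1} (AbUp X) :=
  Sheaf.isGrothendieckAbelian_of_essentiallySmall _ _

/-- the equivalence with abelian sheaves on the lifted space -/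
noncomputable abbrev Psi : AbUp X ≌ CohTop.Ab (XL X) :=
  (eO X).sheafCongr (Opens.grothendieckTopology X) (Opens.grothendieckTopology (XL X))
    AddCommGrpCat.{u + 1}

instance : (Psi X).functor.Additive where
  map_add := rfl

instance : (Psi X).functor.PreservesInjectiveObjects :=
  Functor.preservesInjectiveObjects_of_adjunction_of_preservesMonomorphisms
    (Psi X).symm.toAdjunction

/-- the constant sheaf `ℤ`, one universe up -/
noncomputable abbrev ZUp : AbUp X :=
  (constantSheaf (Opens.grothendieckTopology X) AddCommGrpCat.{u + 1}).obj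
    (AddCommGrpCat.of (ULift ℤ))

/-- the adjunction computing maps out of the transported constant sheaf -/
noncomputable abbrev adjPsi :
    constantSheaf (Opens.grothendieckTopology X) AddCommGrpCat.{u + 1} ⋙ (Psi X).functor ⊣
      (Psi X).inverse ⋙ (sheafSections (Opens.grothendieckTopology X) AddCommGrpCat.{u + 1}).obj
        (op (⊤ : Opens X)) :=
  (constantSheafAdj (Opens.grothendieckTopology X) AddCommGrpCat.{u + 1}
    (T := (⊤ : Opens X)) isTerminalTop).comp (Psi X).toAdjunction

theorem ext_eq_zero_of_flasque (G : AbUp X)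
    (hG : ∀ {U V : (Opens X)ᵒᵖ} (i : U ⟶ V), Epi (G.obj.map i)) (n : ℕ)
    (x : Ext.{u + 1} (ZUp X) G (n + 1)) : x = 0 := by
  have hb := Functor.mapExt_bijective_of_preservesInjectiveObjects.{u + 1, u + 1}
    (Psi X).functor (ZUp X) G (n + 1)
  apply hb.1
  rw [map_zero]
  haveI : TopCat.Sheaf.IsFlasque ((Psi X).functor.obj G) := ⟨fun i => hG _⟩
  refine Groth.Agent.Lib.Helper16.Flasque.ext_vanish
    (fun F : CohTop.Ab (XL X) => TopCat.Sheaf.IsFlasque F) ((Psi X).functor.obj (ZUp X))
    (fun I hI => Groth.Agent.Lib.Helper16.Flasque.injective_isFlasque I)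
    (fun S hS h1 h2 => TopCat.Sheaf.IsFlasque.of_shortExact_of_isFlasque₁₂ hS)
    (fun S hS h1 y => ?_) n ((Psi X).functor.obj G) inferInstance _
  haveI : TopCat.Sheaf.IsFlasque S.X₁ := h1
  have hepi : Epi (S.g.1.app (op ((eO X).functor.obj ⊤))) :=
    TopCat.Sheaf.IsFlasque.epi_of_shortExact hS
  rw [AddCommGrpCat.epi_iff_surjective] at hepi
  let adj := adjPsi X
  obtain ⟨z, hz⟩ := Groth.Agent.Lib.Helper16.Flasque.lift_uliftZ
    (S.g.1.app (op ((eO X).functor.obj ⊤))) hepi (adj.homEquiv _ _ y)
  refine ⟨(adj.homEquiv _ _).symm z, ?_⟩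
  have := adj.homEquiv_naturality_right_symm z S.g
  rw [← this]
  apply (adj.homEquiv _ _).injective
  rw [Equiv.apply_symm_apply]
  exact hz

end Groth.Agent.Lib.Helper8TopULift
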