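import Groth.Prelude.Def_Tors
import Mathlib.CategoryTheory.Sites.SheafCohomology.Basic
import Mathlib.CategoryTheory.Sites.SheafHom
import Mathlib.CategoryTheory.Sites.Subsheaf
import Mathlib.CategoryTheory.Sites.LocallySurjective
import Mathlib.CategoryTheory.Sites.EpiMono
import Mathlib.Algebra.Homology.DerivedCategory.Ext.ExactSequences
import Mathlib.Algebra.Homology.ShortComplex.Ab
import Mathlib.Tactic

/-!
# `H¹(G) = 0` iff every `G`-torsor has a section, on a small site (helper8)
-/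

set_option autoImplicit false
universe u
open CategoryTheory CategoryTheory.Limits Opposite Abelian

namespace Groth.Agent.Lib.Helper8TorsH1

variable {C : Type u} [SmallCategory C] {J : GrothendieckTopology C}

/-- the constant sheaf `ℤ` -/
noncomputable abbrev ZZ (J : GrothendieckTopology C) : Sheaf J AddCommGrpCat.{u} :=
  (constantSheaf J AddCommGrpCat.{u}).obj (AddCommGrpCat.of (ULift.{u} ℤ))

section GSec

/-- a global section of a presheaf of abelian groups: a compatible family of sections -/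
structure GSec (F : Cᵒᵖ ⥤ AddCommGrpCat.{u}) where
  val : ∀ U : Cᵒᵖ, F.obj U
  compat : ∀ {U V : Cᵒᵖ} (f : U ⟶ V), F.map f (val U) = val V

variable (F : Sheaf J AddCommGrpCat.{u})

/-- the equivalence between maps out of the constant sheaf `ℤ` and maps out of the constant
presheaf -/
noncomputable def homEquiv' : (ZZ J ⟶ F) ≃
    ((Functor.const Cᵒᵖ).obj (AddCommGrpCat.of (ULift.{u} ℤ)) ⟶ F.obj) :=
  (sheafificationAdjunction J AddCommGrpCat.{u}).homEquiv _ F

/-- the global section attached to a map out of `ℤ` -/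
noncomputable def gsecOfHom (b : ZZ J ⟶ F) : GSec F.obj where
  val U := (homEquiv' F b).app U ⟨1⟩
  compat {U V} f := by
    have h := (homEquiv' F b).naturality f
    have h2 := ConcreteCategory.congr_hom h (⟨1⟩ : ULift.{u} ℤ)
    exact h2.symm

/-- the map out of `ℤ` attached to a global section -/
noncomputable def homOfGSec (s : GSec F.obj) : ZZ J ⟶ F :=
  (homEquiv' F).symm
    { app := fun U => AddCommGrpCat.ofHom ((zmultiplesHom _ (s.val U)).comp
        (AddEquiv.ulift (α := ℤ)).toAddMonoidHom)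
      naturality := by
        intro U V f
        apply AddCommGrpCat.hom_ext
        ext ⟨n⟩
        change (zmultiplesHom _ (s.val V)) n = F.obj.map f ((zmultiplesHom _ (s.val U)) n)
        rw [zmultiplesHom_apply, zmultiplesHom_apply, map_zsmul, s.compat] }

lemma gsecOfHom_homOfGSec (s : GSec F.obj) (U : Cᵒᵖ) :
    (gsecOfHom F (homOfGSec F s)).val U = s.val U := by
  unfold gsecOfHom homOfGSec
  simp only [Equiv.apply_symm_apply]
  change (zmultiplesHom _ (s.val U)) (1 : ℤ) = _
  rw [zmultiplesHom_apply, one_zsmul]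

lemma hom_ext_gsec {b b' : ZZ J ⟶ F}
    (h : ∀ U, (gsecOfHom F b).val U = (gsecOfHom F b').val U) : b = b' := by
  apply (homEquiv' F).injective
  ext U ⟨n⟩
  have : (⟨n⟩ : ULift.{u} ℤ) = n • (⟨1⟩ : ULift.{u} ℤ) := by
    apply ULift.ext
    simp
  rw [this, map_zsmul, map_zsmul]
  exact congrArg (fun z => n • z) (h U)

lemma homEquiv'_comp {F' : Sheaf J AddCommGrpCat.{u}} (b : ZZ J ⟶ F) (φ : F ⟶ F') :
    homEquiv' F' (b ≫ φ) = homEquiv' F b ≫ φ.hom :=
  (sheafificationAdjunction J AddCommGrpCat.{u}).homEquiv_naturality_right b φ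

lemma gsecOfHom_comp {F' : Sheaf J AddCommGrpCat.{u}} (b : ZZ J ⟶ F) (φ : F ⟶ F') (U : Cᵒᵖ) :
    (gsecOfHom F' (b ≫ φ)).val U = φ.hom.app U ((gsecOfHom F b).val U) := by
  change (homEquiv' F' (b ≫ φ)).app U ⟨1⟩ = _
  rw [homEquiv'_comp]
  rfl

end GSec

section Exact

/-- sections over `U` -/
noncomputable abbrev secF (J : GrothendieckTopology C) (U : Cᵒᵖ) :
    Sheaf J AddCommGrpCat.{u} ⥤ AddCommGrpCat.{u} :=
  sheafToPresheaf J AddCommGrpCat.{u} ⋙ (evaluation Cᵒᵖ AddCommGrpCat.{u}).obj U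

variable (S : ShortComplex (Sheaf J AddCommGrpCat.{u})) (hS : S.ShortExact)

include hS in
lemma app_injective (U : Cᵒᵖ) : Function.Injective (S.f.hom.app U) := by
  haveI := hS.mono_f
  haveI : Mono ((secF J U).map S.f) := inferInstance
  exact (AddCommGrpCat.mono_iff_injective ((secF J U).map S.f)).1 inferInstance

include hS in
lemma exists_of_app_eq_zero (U : Cᵒᵖ) (x : S.X₂.obj.obj U) (hx : S.g.hom.app U x = 0) :
    ∃ y : S.X₁.obj.obj U, S.f.hom.app U y = x := by
  have h1 : (S.map (secF J U)).Exact :=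
    hS.exact.map_of_mono_of_preservesKernel (secF J U) hS.mono_f inferInstance
  exact (ShortComplex.ab_exact_iff _).1 h1 x hx

include hS in
lemma locally_surjective (U : C) (q : S.X₃.obj.obj (op U)) :
    ∃ R ∈ J U, ∀ ⦃V : C⦄ (f : V ⟶ U), R f →
      ∃ e : S.X₂.obj.obj (op V), S.g.hom.app (op V) e = S.X₃.obj.map f.op q := by
  haveI := hS.epi_g
  haveI : Sheaf.IsLocallySurjective S.g := (Sheaf.isLocallySurjective_iff_epi' _ S.g).2 inferInstance
  refine ⟨_, Presheaf.imageSieve_mem J S.g.hom q, ?_⟩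
  intro V f hf
  exact hf

end Exact

section Glue

/-- a map from a locally nonempty presheaf to a sheaf which is constant on every set of sections
defines a global section -/
theorem exists_glue (P F : Cᵒᵖ ⥤ Type u) (hF : Presieve.IsSheaf J F)
    (hP : ∀ U : C, ∃ S ∈ J U, ∀ ⦃V : C⦄ (f : V ⟶ U), S f → Nonempty (P.obj (op V)))
    (φ : ∀ U : Cᵒᵖ, P.obj U → F.obj U)
    (hnat : ∀ {U V : Cᵒᵖ} (f : U ⟶ V) (p : P.obj U), F.map f (φ U p) = φ V (P.map f p))
    (hconst : ∀ (U : Cᵒᵖ) (p p' : P.obj U), φ U p = φ U p') :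
    ∃ s : ∀ U : Cᵒᵖ, F.obj U, (∀ {U V : Cᵒᵖ} (f : U ⟶ V), F.map f (s U) = s V) ∧
      ∀ (U : Cᵒᵖ) (p : P.obj U), φ U p = s U := by
  let R : ∀ U : C, Sieve U := fun U =>
    { arrows := fun V _ => Nonempty (P.obj (op V))
      downward_closed := fun {V W} f ⟨p⟩ g => ⟨P.map g.op p⟩ }
  have hR : ∀ U, R U ∈ J U := fun U => by
    obtain ⟨S, hS, h⟩ := hP U
    exact J.superset_covering (fun V f hf => h f hf) hS
  let x : ∀ U : C, Presieve.FamilyOfElements F (R U).arrows :=
    fun U V f hf => φ (op V) hf.some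
  have hx : ∀ U, (x U).Compatible := by
    intro U Y₁ Y₂ Z g₁ g₂ f₁ f₂ h₁ h₂ e
    change F.map g₁.op (φ (op Y₁) h₁.some) = F.map g₂.op (φ (op Y₂) h₂.some)
    rw [hnat, hnat]
    exact hconst _ _ _
  have key : ∀ U : C, ∃ s : F.obj (op U), ∀ ⦃V : C⦄ (f : V ⟶ U) (p : P.obj (op V)),
      F.map f.op s = φ (op V) p := by
    intro U
    obtain ⟨s, hs, -⟩ := hF (R U) (hR U) (x U) (hx U)
    refine ⟨s, fun V f p => ?_⟩
    rw [hs f ⟨p⟩]
    exact hconst _ _ _
  choose s hs using key
  refine ⟨fun U => s U.unop, ?_, ?_⟩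
  · intro U V f
    apply (hF (R V.unop) (hR _)).isSeparatedFor.ext
    intro W k hk
    obtain ⟨p⟩ := hk
    rw [hs V.unop k p]
    have h1 := hs U.unop (k ≫ f.unop) p
    rw [← h1, op_comp, F.map_comp]
    rfl
  · intro U p
    have h1 := hs U.unop (𝟙 _) p
    rw [← h1]
    change F.map (𝟙 U) (s U.unop) = s U.unop
    rw [F.map_id]
    rfl

end Glue

section FiberTorsor

variable (S : ShortComplex (Sheaf J AddCommGrpCat.{u})) (hS : S.ShortExact) (q : GSec S.X₃.obj)

lemma isSheaf_forget (F : Sheaf J AddCommGrpCat.{u}) :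
    Presieve.IsSheaf J (F.obj ⋙ forget AddCommGrpCat.{u}) :=
  (isSheaf_iff_isSheaf_of_type _ _).1
    ((Presheaf.isSheaf_iff_isSheaf_forget _ F.obj (forget AddCommGrpCat.{u})).1 F.property)

lemma g_naturality_apply {U V : Cᵒᵖ} (f : U ⟶ V) (e : S.X₂.obj.obj U) :
    S.g.hom.app V (S.X₂.obj.map f e) = S.X₃.obj.map f (S.g.hom.app U e) :=
  ConcreteCategory.congr_hom (S.g.hom.naturality f) e

lemma f_naturality_apply {U V : Cᵒᵖ} (f : U ⟶ V) (e : S.X₁.obj.obj U) :
    S.f.hom.app V (S.X₁.obj.map f e) = S.X₂.obj.map f (S.f.hom.app U e) :=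
  ConcreteCategory.congr_hom (S.f.hom.naturality f) e

lemma g_f_apply (U : Cᵒᵖ) (γ : S.X₁.obj.obj U) : S.g.hom.app U (S.f.hom.app U γ) = 0 := by
  have h := congrArg (fun φ : S.X₁ ⟶ S.X₃ => φ.hom.app U γ) S.zero
  exact h

/-- the subfunctor of sections of `X₂` lifting the global section `q` of `X₃` -/
def fiberSub : Subfunctor (S.X₂.obj ⋙ forget AddCommGrpCat.{u}) where
  obj U := {e : S.X₂.obj.obj U | S.g.hom.app U e = q.val U}
  map {U V} f e he := by
    change S.g.hom.app V (S.X₂.obj.map f e) = q.val V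
    rw [g_naturality_apply, ← q.compat f]
    exact congrArg (fun z => S.X₃.obj.map f z) he

lemma fiberSub_isSheaf : Presieve.IsSheaf J (fiberSub S q).toFunctor := by
  rw [Subfunctor.isSheaf_iff _ (isSheaf_forget S.X₂)]
  intro U s hs
  change S.g.hom.app U s = q.val U
  apply ((isSheaf_forget S.X₃) _ hs).isSeparatedFor.ext
  intro V f hf
  have h1 : S.g.hom.app (op V) (S.X₂.obj.map f.op s) = q.val (op V) := hf
  change S.X₃.obj.map f.op (S.g.hom.app U s) = S.X₃.obj.map f.op (q.val U)
  rw [← g_naturality_apply, h1, q.compat]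

variable {S q} in
/-- the underlying section of `X₂` -/
def fval {U : Cᵒᵖ} (e : (fiberSub S q).toFunctor.obj U) : S.X₂.obj.obj U := e.1

variable {S q} in
lemma fval_prop {U : Cᵒᵖ} (e : (fiberSub S q).toFunctor.obj U) :
    S.g.hom.app U (fval e) = q.val U := e.2

variable {S q} in
/-- constructor -/
def fmk {U : Cᵒᵖ} (e : S.X₂.obj.obj U) (he : S.g.hom.app U e = q.val U) :
    (fiberSub S q).toFunctor.obj U := ⟨e, he⟩

variable {S q} in
lemma fval_fmk {U : Cᵒᵖ} (e : S.X₂.obj.obj U) (he : S.g.hom.app U e = q.val U) :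
    fval (fmk e he) = e := rfl

variable {S q} in
lemma fval_injective {U : Cᵒᵖ} {e e' : (fiberSub S q).toFunctor.obj U}
    (h : fval e = fval e') : e = e' := Subtype.ext h

variable {S q} in
lemma fval_map {U V : Cᵒᵖ} (f : U ⟶ V) (e : (fiberSub S q).toFunctor.obj U) :
    fval ((fiberSub S q).toFunctor.map f e) = S.X₂.obj.map f (fval e) := rfl

/-- the `X₁`-torsor of lifts of `q` -/
noncomputable def fiberTorsor : Tors.Torsor S.X₁ where
  P := ⟨(fiberSub S q).toFunctor, (isSheaf_iff_isSheaf_of_type _ _).2 (fiberSub_isSheaf S q)⟩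
  vadd {U} γ e := fmk (S.f.hom.app U γ + fval e) (by
    rw [map_add, g_f_apply, zero_add]
    exact fval_prop e)
  zero_vadd {U} p := by
    apply fval_injective
    rw [fval_fmk, map_zero, zero_add]
  add_vadd {U} g h p := by
    apply fval_injective
    rw [fval_fmk, fval_fmk, fval_fmk, map_add, add_assoc]
  map_vadd {U V} f g p := by
    apply fval_injective
    rw [fval_fmk]
    refine (fval_map f _).trans ?_
    rw [fval_fmk, map_add, f_naturality_apply]
    rfl
  free_transitive {U} p p' := by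
    have h0 : S.g.hom.app U (fval p' - fval p) = 0 := by
      rw [map_sub, fval_prop, fval_prop, sub_self]
    obtain ⟨γ, hγ⟩ := exists_of_app_eq_zero S hS U _ h0
    refine ⟨γ, ?_, ?_⟩
    · apply fval_injective
      rw [fval_fmk, hγ, sub_add_cancel]
    · intro γ' hγ'
      apply app_injective S hS U
      rw [hγ]
      have h3 : S.f.hom.app U γ' + fval p = fval p' := congrArg fval hγ'
      rw [← h3, add_sub_cancel_right]
  locally_nonempty U := by
    obtain ⟨R, hR, h⟩ := locally_surjective S hS U (q.val (op U))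
    refine ⟨R, hR, fun V f hf => ?_⟩
    obtain ⟨e, he⟩ := h f hf
    exact ⟨fmk e (he.trans (q.compat f.op))⟩

end FiberTorsor

section Sections

variable {G : Sheaf J AddCommGrpCat.{u}} (T : Tors.Torsor G)

lemma exists_family_of_hasSection (h : T.HasSection) :
    ∃ p : ∀ U : Cᵒᵖ, T.P.obj.obj U, ∀ {U V : Cᵒᵖ} (f : U ⟶ V), T.P.obj.map f (p U) = p V := by
  obtain ⟨σ⟩ := h
  let Gs := (sheafCompose J (forget AddCommGrpCat.{u})).obj G
  let star : ∀ U : Cᵒᵖ, (⊤_ (Sheaf J (Type u))).obj.obj U :=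
    fun U => (terminal.from Gs).hom.app U (0 : G.obj.obj U)
  have hstar : ∀ {U V : Cᵒᵖ} (f : U ⟶ V),
      (⊤_ (Sheaf J (Type u))).obj.map f (star U) = star V := by
    intro U V f
    have h1 := NatTrans.naturality_apply (terminal.from Gs).hom f (0 : G.obj.obj U)
    rw [← h1]
    congr 1
    exact map_zero (G.obj.map f).hom
  refine ⟨fun U => σ.hom.app U (star U), ?_⟩
  intro U V f
  have h1 := NatTrans.naturality_apply σ.hom f (star U)
  rw [← h1, hstar]

lemma hasSection_of_family (p : ∀ U : Cᵒᵖ, T.P.obj.obj U)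
    (hp : ∀ {U V : Cᵒᵖ} (f : U ⟶ V), T.P.obj.map f (p U) = p V) : T.HasSection := by
  refine ⟨ObjectProperty.homMk
    { app := fun U => ↾(fun _ => p U)
      naturality := ?_ }⟩
  intro U V f
  ext x
  simp only [TypeCat.Fun.toFun_apply, types_comp_apply, TypeCat.ofHom_apply]
  exact (hp f).symm

end Sections

section MainOne

variable (G : Sheaf J AddCommGrpCat.{u})

theorem subsingleton_H1_of_sections (h : ∀ T : Tors.Torsor G, T.HasSection) :
    Subsingleton (Sheaf.H.{u} G 1) := by
  apply subsingleton_of_forall_eq 0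
  intro x
  let S : ShortComplex (Sheaf J AddCommGrpCat.{u}) :=
    ShortComplex.mk (Injective.ι G) (cokernel.π (Injective.ι G)) (cokernel.condition _)
  have hS : S.ShortExact :=
    { exact := ShortComplex.exact_cokernel _
      mono_f := inferInstanceAs (Mono (Injective.ι G))
      epi_g := inferInstanceAs (Epi (cokernel.π (Injective.ι G))) }
  haveI : Injective S.X₂ := inferInstanceAs (Injective (Injective.under G))
  change Ext.{u} (ZZ J) S.X₁ 1 at x
  have h1 : x.comp (Ext.mk₀ S.f) (add_zero 1) = 0 := Ext.eq_zero_of_injective _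
  obtain ⟨β, hβ⟩ := Ext.covariant_sequence_exact₁ _ hS x h1 (zero_add 1)
  obtain ⟨b, rfl⟩ := (Ext.mk₀_bijective _ _).2 β
  let q := gsecOfHom S.X₃ b
  obtain ⟨p, hp⟩ := exists_family_of_hasSection _ (h (fiberTorsor S hS q))
  let e : GSec S.X₂.obj :=
    { val := fun U => fval (p U)
      compat := fun {U V} f => by
        rw [← hp f]
        exact (fval_map f (p U)).symm }
  let ψ := homOfGSec S.X₂ e
  have hψ : ψ ≫ S.g = b := by
    apply hom_ext_gsec
    intro U
    rw [gsecOfHom_comp, gsecOfHom_homOfGSec]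
    exact fval_prop (p U)
  rw [← hβ, ← hψ, ← Ext.mk₀_comp_mk₀, Ext.comp_assoc_of_second_deg_zero, hS.comp_extClass,
    Ext.comp_zero]

end MainOne

section Maps

variable {G : Sheaf J AddCommGrpCat.{u}} (T : Tors.Torsor G)

/-- maps of presheaves `P|_U ⟶ G|_U` -/
@[ext]
structure MapsOver (U : C) where
  app : ∀ ⦃V : C⦄ (_ : V ⟶ U), T.P.obj.obj (op V) → G.obj.obj (op V)
  nat : ∀ ⦃V V' : C⦄ (h : V' ⟶ V) (a : V ⟶ U) (p : T.P.obj.obj (op V)),
    G.obj.map h.op (app a p) = app (h ≫ a) (T.P.obj.map h.op p)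

namespace MapsOver

variable {T} {U : C}

instance : Zero (MapsOver T U) := ⟨⟨fun _ _ _ => 0, fun _ _ _ _ _ => by simp⟩⟩

instance : Add (MapsOver T U) :=
  ⟨fun m m' => ⟨fun _ a p => m.app a p + m'.app a p, fun _ _ h a p => by
    rw [map_add, m.nat, m'.nat]⟩⟩

instance : Neg (MapsOver T U) :=
  ⟨fun m => ⟨fun _ a p => - m.app a p, fun _ _ h a p => by rw [map_neg, m.nat]⟩⟩

@[simp] lemma zero_app {V : C} (a : V ⟶ U) (p : T.P.obj.obj (op V)) :
    (0 : MapsOver T U).app a p = 0 := rfl

@[simp] lemma add_app (m m' : MapsOver T U) {V : C} (a : V ⟶ U) (p : T.P.obj.obj (op V)) :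
    (m + m').app a p = m.app a p + m'.app a p := rfl

@[simp] lemma neg_app (m : MapsOver T U) {V : C} (a : V ⟶ U) (p : T.P.obj.obj (op V)) :
    (-m).app a p = - m.app a p := rfl

instance : AddCommGroup (MapsOver T U) where
  add_assoc a b c := by ext V f p; simp [add_assoc]
  zero_add a := by ext V f p; simp
  add_zero a := by ext V f p; simp
  nsmul := nsmulRec
  zsmul := zsmulRec
  neg_add_cancel a := by ext V f p; simp
  add_comm a b := by ext V f p; simp [add_comm]

/-- restriction -/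
def restrict {U' : C} (f : U' ⟶ U) (m : MapsOver T U) : MapsOver T U' where
  app V a p := m.app (a ≫ f) p
  nat V V' h a p := by
    rw [m.nat, Category.assoc]

@[simp] lemma restrict_app {U' : C} (f : U' ⟶ U) (m : MapsOver T U) {V : C} (a : V ⟶ U')
    (p : T.P.obj.obj (op V)) : (restrict f m).app a p = m.app (a ≫ f) p := rfl

lemma app_congr (m : MapsOver T U) {V : C} {a a' : V ⟶ U} (h : a = a')
    (p : T.P.obj.obj (op V)) : m.app a p = m.app a' p := by subst h; rfl

end MapsOver

/-- the presheaf of abelian groups of maps `P ⟶ G` -/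
def mapsPresheaf : Cᵒᵖ ⥤ AddCommGrpCat.{u} where
  obj U := AddCommGrpCat.of (MapsOver T U.unop)
  map {U U'} f := AddCommGrpCat.ofHom
    { toFun := MapsOver.restrict f.unop
      map_zero' := rfl
      map_add' := fun _ _ => rfl }
  map_id U := by
    apply AddCommGrpCat.hom_ext
    ext m V a p
    change m.app (a ≫ 𝟙 _) p = m.app a p
    exact m.app_congr (Category.comp_id a) p
  map_comp {U U' U''} f g := by
    apply AddCommGrpCat.hom_ext
    ext m V a p
    change m.app (a ≫ (g.unop ≫ f.unop)) p = m.app ((a ≫ g.unop) ≫ f.unop) p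
    exact m.app_congr (Category.assoc _ _ _).symm p

end Maps

section MapsSheaf

variable {G : Sheaf J AddCommGrpCat.{u}} (T : Tors.Torsor G)

lemma P_map_comp {W W' W'' : C} (k : W' ⟶ W) (l : W'' ⟶ W') (p : T.P.obj.obj (op W)) :
    T.P.obj.map (l ≫ k).op p = T.P.obj.map l.op (T.P.obj.map k.op p) := by
  rw [op_comp, T.P.obj.map_comp]
  rfl

lemma P_map_id {W : C} (p : T.P.obj.obj (op W)) : T.P.obj.map (𝟙 W).op p = p := by
  change T.P.obj.map (𝟙 (op W)) p = p
  rw [T.P.obj.map_id]
  rfl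

lemma G_map_comp {W W' W'' : C} (k : W' ⟶ W) (l : W'' ⟶ W') (t : G.obj.obj (op W)) :
    G.obj.map (l ≫ k).op t = G.obj.map l.op (G.obj.map k.op t) := by
  rw [op_comp, G.obj.map_comp]
  rfl

lemma G_map_id {W : C} (t : G.obj.obj (op W)) : G.obj.map (𝟙 W).op t = t := by
  change G.obj.map (𝟙 (op W)) t = t
  rw [G.obj.map_id]
  rfl

/-- gluing data: a sieve-compatible family of maps over a covering sieve -/
structure GlueData (U : C) (S : Sieve U) where
  xx : ∀ ⦃Y : C⦄ (f : Y ⟶ U), S f → MapsOver T Y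
  compat : ∀ ⦃Y Z : C⦄ (f : Y ⟶ U) (g : Z ⟶ Y) (hf : S f),
    xx (g ≫ f) (S.downward_closed hf g) = (xx f hf).restrict g

variable {T}

namespace GlueData

variable {U : C} {S : Sieve U} (D : GlueData T U S)

lemma xx_congr {Y : C} {f f' : Y ⟶ U} (h : f = f') (hf : S f) :
    D.xx f hf = D.xx f' (h ▸ hf) := by subst h; rfl

/-- the family to be glued for `b : W ⟶ U` and `p ∈ P(W)` -/
def fam {W : C} (b : W ⟶ U) (p : T.P.obj.obj (op W)) :
    Presieve.FamilyOfElements (G.obj ⋙ forget AddCommGrpCat.{u}) (S.pullback b).arrows :=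
  fun W' k hk => (D.xx (k ≫ b) hk).app (𝟙 W') (T.P.obj.map k.op p)

lemma fam_compatible {W : C} (b : W ⟶ U) (p : T.P.obj.obj (op W)) :
    (D.fam b p).Compatible := by
  rw [Presieve.compatible_iff_sieveCompatible]
  intro W' W'' k l hk
  change (D.xx ((l ≫ k) ≫ b) _).app (𝟙 W'') (T.P.obj.map (l ≫ k).op p) =
    G.obj.map l.op ((D.xx (k ≫ b) hk).app (𝟙 W') (T.P.obj.map k.op p))
  rw [MapsOver.nat, D.xx_congr (Category.assoc l k b), D.compat (k ≫ b) l hk,
    MapsOver.restrict_app, P_map_comp]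
  exact MapsOver.app_congr _ ((Category.id_comp l).trans (Category.comp_id l).symm) _

variable (hS : S ∈ J U)

include hS in
lemma exists_val {W : C} (b : W ⟶ U) (p : T.P.obj.obj (op W)) :
    ∃! t : G.obj.obj (op W), (D.fam b p).IsAmalgamation t :=
  (isSheaf_forget G) (S.pullback b) (J.pullback_stable b hS) (D.fam b p) (D.fam_compatible b p)

/-- the glued value -/
noncomputable def val {W : C} (b : W ⟶ U) (p : T.P.obj.obj (op W)) : G.obj.obj (op W) :=
  (D.exists_val hS b p).exists.choose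

lemma val_spec {W : C} (b : W ⟶ U) (p : T.P.obj.obj (op W)) {W' : C} (k : W' ⟶ W)
    (hk : S (k ≫ b)) :
    G.obj.map k.op (D.val hS b p) = (D.xx (k ≫ b) hk).app (𝟙 W') (T.P.obj.map k.op p) :=
  (D.exists_val hS b p).exists.choose_spec k hk

lemma val_unique {W : C} (b : W ⟶ U) (p : T.P.obj.obj (op W)) (t : G.obj.obj (op W))
    (ht : ∀ ⦃W' : C⦄ (k : W' ⟶ W) (hk : S (k ≫ b)),
      G.obj.map k.op t = (D.xx (k ≫ b) hk).app (𝟙 W') (T.P.obj.map k.op p)) :
    t = D.val hS b p :=
  (D.exists_val hS b p).unique (fun _ k hk => ht k hk) (D.exists_val hS b p).exists.choose_spec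

/-- the glued map -/
noncomputable def glue : MapsOver T U where
  app W b p := D.val hS b p
  nat W W' h b p := by
    apply D.val_unique hS (h ≫ b) (T.P.obj.map h.op p)
    intro W'' k hk
    have hk' : S ((k ≫ h) ≫ b) := by rwa [Category.assoc]
    rw [← G_map_comp, D.val_spec hS b p (k ≫ h) hk', P_map_comp,
      D.xx_congr (Category.assoc k h b) hk']

lemma restrict_glue {Y : C} (f : Y ⟶ U) (hf : S f) : (D.glue hS).restrict f = D.xx f hf := by
  ext V a p
  change D.val hS (a ≫ f) p = (D.xx f hf).app a p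
  have h1 : S (𝟙 V ≫ a ≫ f) := by
    rw [Category.id_comp]
    exact S.downward_closed hf a
  have h := D.val_spec hS (a ≫ f) p (𝟙 V) h1
  rw [G_map_id, P_map_id] at h
  rw [h, D.xx_congr (Category.id_comp (a ≫ f)) h1, D.compat f a hf, MapsOver.restrict_app]
  exact MapsOver.app_congr _ (Category.id_comp a) p

lemma glue_unique (m : MapsOver T U)
    (hm : ∀ ⦃Y : C⦄ (f : Y ⟶ U) (hf : S f), m.restrict f = D.xx f hf) : m = D.glue hS := by
  ext W b p
  apply D.val_unique hS b p
  intro W' k hk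
  rw [m.nat, ← hm (k ≫ b) hk, MapsOver.restrict_app]
  exact MapsOver.app_congr _ (Category.id_comp _).symm _

end GlueData

variable (T) in
theorem mapsPresheaf_isSheaf : Presheaf.IsSheaf J (mapsPresheaf T) := by
  rw [Presheaf.isSheaf_iff_isSheaf_forget J _ (forget AddCommGrpCat.{u}),
    isSheaf_iff_isSheaf_of_type]
  intro U S hS x hx
  have hx' := (Presieve.compatible_iff_sieveCompatible x).1 hx
  let D : GlueData T U S :=
    { xx := fun Y f hf => x f hf
      compat := fun Y Z f g hf => hx' f g hf }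
  refine ⟨D.glue hS, ?_, ?_⟩
  · intro Y f hf
    exact D.restrict_glue hS f hf
  · intro m hm
    exact D.glue_unique hS m (fun Y f hf => hm f hf)

variable (T) in
/-- the sheaf of maps `P ⟶ G` -/
noncomputable def mapsSheaf : Sheaf J AddCommGrpCat.{u} := ⟨mapsPresheaf T, mapsPresheaf_isSheaf T⟩

end MapsSheaf

section Diff

variable {G : Sheaf J AddCommGrpCat.{u}} (T : Tors.Torsor G)

/-- the difference `p - p'` of two sections of a torsor -/
noncomputable def diff {U : Cᵒᵖ} (p p' : T.P.obj.obj U) : G.obj.obj U :=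
  (T.free_transitive p' p).exists.choose

lemma diff_vadd {U : Cᵒᵖ} (p p' : T.P.obj.obj U) : T.vadd (diff T p p') p' = p :=
  (T.free_transitive p' p).exists.choose_spec

lemma eq_diff {U : Cᵒᵖ} (p p' : T.P.obj.obj U) (δ : G.obj.obj U) (h : T.vadd δ p' = p) :
    δ = diff T p p' :=
  (T.free_transitive p' p).unique h (diff_vadd T p p')

lemma map_diff {U V : Cᵒᵖ} (f : U ⟶ V) (p p' : T.P.obj.obj U) :
    G.obj.map f (diff T p p') = diff T (T.P.obj.map f p) (T.P.obj.map f p') := by
  apply eq_diff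
  rw [← T.map_vadd, diff_vadd]

lemma diff_sub_diff {U : Cᵒᵖ} (x y z : T.P.obj.obj U) :
    diff T x z - diff T y z = diff T x y := by
  apply eq_diff
  have h1 : T.vadd (diff T x z - diff T y z) y =
      T.vadd (diff T x z - diff T y z) (T.vadd (diff T y z) z) := by rw [diff_vadd]
  rw [h1, ← T.add_vadd, sub_add_cancel, diff_vadd]

/-- the tautological equivariant map `P ⟶ Maps(P, G)` -/
noncomputable def tau {U : C} (p : T.P.obj.obj (op U)) : MapsOver T U where
  app V a p' := diff T (T.P.obj.map a.op p) p'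
  nat V V' h a p' := by
    rw [map_diff, ← P_map_comp]

lemma tau_app {U : C} (p : T.P.obj.obj (op U)) {V : C} (a : V ⟶ U) (p' : T.P.obj.obj (op V)) :
    (tau T p).app a p' = diff T (T.P.obj.map a.op p) p' := rfl

lemma restrict_tau {U U' : C} (f : U' ⟶ U) (p : T.P.obj.obj (op U)) :
    (tau T p).restrict f = tau T (T.P.obj.map f.op p) := by
  ext V a p'
  change diff T (T.P.obj.map (a ≫ f).op p) p' = diff T (T.P.obj.map a.op (T.P.obj.map f.op p)) p'
  rw [P_map_comp]

/-- constant maps -/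
def constMaps {U : C} (γ : G.obj.obj (op U)) : MapsOver T U where
  app V a _ := G.obj.map a.op γ
  nat V V' h a _ := by rw [← G_map_comp]

lemma tau_sub_tau {U : C} (p p'' : T.P.obj.obj (op U)) :
    tau T p - tau T p'' = constMaps T (diff T p p'') := by
  ext V a p'
  change (tau T p + - tau T p'').app a p' = _
  rw [MapsOver.add_app, MapsOver.neg_app, tau_app, tau_app, ← sub_eq_add_neg, diff_sub_diff]
  exact (map_diff T a.op p p'').symm

end Diff

section MainTwo

variable {G : Sheaf J AddCommGrpCat.{u}} (T : Tors.Torsor G)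

/-- the inclusion of `G` as constant maps -/
noncomputable def constMor : G ⟶ mapsSheaf T :=
  ObjectProperty.homMk
    { app := fun U => AddCommGrpCat.ofHom
        { toFun := fun γ => constMaps T (U := U.unop) γ
          map_zero' := by
            ext V a p
            change G.obj.map a.op 0 = 0
            rw [map_zero]
          map_add' := fun γ γ' => by
            ext V a p
            change G.obj.map a.op (γ + γ') = G.obj.map a.op γ + G.obj.map a.op γ'
            rw [map_add] }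
      naturality := by
        intro U U' f
        apply AddCommGrpCat.hom_ext
        ext γ
        refine MapsOver.ext ?_
        funext V a p
        change G.obj.map a.op (G.obj.map f γ) = G.obj.map (a ≫ f.unop).op γ
        rw [G_map_comp]
        rfl }

lemma constMor_app {U : C} (γ : G.obj.obj (op U)) :
    (constMor T).hom.app (op U) γ = constMaps T γ := rfl

lemma constMor_injective (U : C) : Function.Injective ((constMor T).hom.app (op U)) := by
  rw [injective_iff_map_eq_zero]
  intro γ hγ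
  obtain ⟨R, hR, h⟩ := T.locally_nonempty U
  apply ((isSheaf_forget G) R hR).isSeparatedFor.ext
  intro V a ha
  obtain ⟨p⟩ := h a ha
  have h1 : (constMaps T γ).app a p = 0 :=
    congrArg (fun m : MapsOver T U => m.app a p) hγ
  change G.obj.map a.op γ = G.obj.map a.op 0
  rw [map_zero]
  exact h1

instance : Mono (constMor T) := by
  haveI : Mono (constMor T).hom := by
    haveI : ∀ U, Mono ((constMor T).hom.app U) := fun U => by
      rw [AddCommGrpCat.mono_iff_injective]
      exact constMor_injective T U.unop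
    exact NatTrans.mono_of_mono_app _
  exact Sheaf.Hom.mono_of_presheaf_mono J _ _

/-- the short exact sequence `0 → G → Maps(P, G) → Q → 0` -/
noncomputable def torsSeq : ShortComplex (Sheaf J AddCommGrpCat.{u}) :=
  ShortComplex.mk (constMor T) (cokernel.π (constMor T)) (cokernel.condition (constMor T))

lemma torsSeq_shortExact : (torsSeq T).ShortExact :=
  { exact := ShortComplex.exact_cokernel (constMor T)
    mono_f := inferInstanceAs (Mono (constMor T))
    epi_g := inferInstanceAs (Epi (cokernel.π (constMor T))) }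

/-- `tau` as a section of the middle term -/
noncomputable def tauSec (U : Cᵒᵖ) (p : T.P.obj.obj U) : (torsSeq T).X₂.obj.obj U :=
  tau T (U := U.unop) p

lemma tauSec_map {U V : Cᵒᵖ} (f : U ⟶ V) (p : T.P.obj.obj U) :
    (torsSeq T).X₂.obj.map f (tauSec T U p) = tauSec T V (T.P.obj.map f p) :=
  restrict_tau T f.unop p

lemma tauSec_sub (U : Cᵒᵖ) (p p' : T.P.obj.obj U) :
    tauSec T U p - tauSec T U p' = (torsSeq T).f.hom.app U (diff T p p') :=
  tau_sub_tau T p p'

theorem hasSection_of_subsingleton_H1 (h : Subsingleton (Sheaf.H.{u} G 1)) : T.HasSection := by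
  have hS := torsSeq_shortExact T
  -- the global section of the quotient defined by the torsor
  have hnatτ : ∀ {U V : Cᵒᵖ} (f : U ⟶ V) (p : T.P.obj.obj U),
      (torsSeq T).X₃.obj.map f ((torsSeq T).g.hom.app U (tauSec T U p)) =
        (torsSeq T).g.hom.app V (tauSec T V (T.P.obj.map f p)) := by
    intro U V f p
    rw [← g_naturality_apply, tauSec_map]
  have hconstτ : ∀ (U : Cᵒᵖ) (p p' : T.P.obj.obj U),
      (torsSeq T).g.hom.app U (tauSec T U p) = (torsSeq T).g.hom.app U (tauSec T U p') := by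
    intro U p p'
    rw [← sub_eq_zero, ← map_sub, tauSec_sub]
    exact g_f_apply (torsSeq T) U _
  obtain ⟨s, hs1, hs2⟩ := exists_glue T.P.obj ((torsSeq T).X₃.obj ⋙ forget AddCommGrpCat.{u})
    (isSheaf_forget (torsSeq T).X₃) T.locally_nonempty
    (fun U p => (torsSeq T).g.hom.app U (tauSec T U p)) hnatτ hconstτ
  let n : GSec (torsSeq T).X₃.obj := ⟨s, hs1⟩
  let b := homOfGSec (torsSeq T).X₃ n
  -- lift the global section to `Maps(P, G)`
  have h0 : (Ext.mk₀ b).comp hS.extClass (zero_add 1) = 0 :=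
    Subsingleton.elim (α := Sheaf.H.{u} G 1) _ _
  obtain ⟨x₂, hx₂⟩ := Ext.covariant_sequence_exact₃ _ hS (Ext.mk₀ b) (zero_add 1) h0
  obtain ⟨ψ, rfl⟩ := (Ext.mk₀_bijective _ _).2 x₂
  rw [Ext.mk₀_comp_mk₀] at hx₂
  have hψ : ψ ≫ (torsSeq T).g = b := (Ext.mk₀_bijective _ _).1 hx₂
  let m := gsecOfHom (torsSeq T).X₂ ψ
  have hm : ∀ U, (torsSeq T).g.hom.app U (m.val U) = s U := by
    intro U
    rw [← gsecOfHom_comp, hψ]
    exact gsecOfHom_homOfGSec (torsSeq T).X₃ n U
  -- the correction term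
  have hγ : ∀ (U : Cᵒᵖ) (p : T.P.obj.obj U), ∃ γ : (torsSeq T).X₁.obj.obj U,
      (torsSeq T).f.hom.app U γ = tauSec T U p - m.val U := by
    intro U p
    apply exists_of_app_eq_zero (torsSeq T) hS U
    rw [map_sub, hm, sub_eq_zero]
    exact hs2 U p
  choose γ₀ hγ₀ using hγ
  have hγnat₀ : ∀ {U V : Cᵒᵖ} (f : U ⟶ V) (p : T.P.obj.obj U),
      (torsSeq T).X₁.obj.map f (γ₀ U p) = γ₀ V (T.P.obj.map f p) := by
    intro U V f p
    apply app_injective (torsSeq T) hS V
    rw [f_naturality_apply, hγ₀, hγ₀, map_sub, m.compat, tauSec_map]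
  have hγdiff₀ : ∀ (U : Cᵒᵖ) (p p' : T.P.obj.obj U),
      γ₀ U p - γ₀ U p' = (show (torsSeq T).X₁.obj.obj U from diff T p p') := by
    intro U p p'
    apply app_injective (torsSeq T) hS U
    rw [map_sub, hγ₀, hγ₀, sub_sub_sub_cancel_right, tauSec_sub]
  let γ : ∀ U : Cᵒᵖ, T.P.obj.obj U → G.obj.obj U := γ₀
  have hγnat : ∀ {U V : Cᵒᵖ} (f : U ⟶ V) (p : T.P.obj.obj U),
      G.obj.map f (γ U p) = γ V (T.P.obj.map f p) := hγnat₀
  have hγdiff : ∀ (U : Cᵒᵖ) (p p' : T.P.obj.obj U), γ U p - γ U p' = diff T p p' := hγdiff₀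
  obtain ⟨σ, hσ1, -⟩ := exists_glue T.P.obj T.P.obj
    ((isSheaf_iff_isSheaf_of_type _ _).1 T.P.property) T.locally_nonempty
    (fun U p => T.vadd (- γ U p) p)
    (fun {U V} f p => by
      rw [T.map_vadd, map_neg, hγnat])
    (fun U p p' => by
      have h1 : T.vadd (- γ U p) p = T.vadd (- γ U p) (T.vadd (diff T p p') p') := by
        rw [diff_vadd]
      rw [h1, ← T.add_vadd, ← hγdiff]
      congr 1
      abel)
  exact hasSection_of_family T σ hσ1

end MainTwo

end Groth.Agent.Lib.Helper8TorsH1
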