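import Mathlib
import Groth.Prelude
import Groth.Agent.Lib.Helper8ExactSeq
import Groth.Agent.Lib.Helper11OrbitSub

set_option autoImplicit false

/-!
# Exactness of the cohomology sequence at `H¹(S, G')` and `H¹(S, G)`, at the level of torsors
-/

universe u

open CategoryTheory CategoryTheory.Limits MonoidalCategory CartesianMonoidalCategory MonObj GrpObj
  AlgebraicGeometry

namespace Groth.Agent.Lib.Helper8TorsorSeq

open Groth.Agent.Lib.Helper8ExactSeq

variable {S : Scheme.{u}} {K : Precoverage Scheme.{u}} [K.toGrothendieck.Subcanonical]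
  [K.IsStableUnderBaseChange]
  {G G' G'' : Over S} [GrpObj G] [GrpObj G'] [GrpObj G'']

/-- S6009 (general form). -/
theorem main6009 (u : G' ⟶ G) (v : G ⟶ G'') (hex : NonAbH1.IsExactSeq K u v)
    (Q : NonAbH1.TorsorSch G' K) :
    NonAbH1.IsPushforwardAlongSch u Q.act (NonAbH1.trivialAction G) ↔
      ∃ (f : 𝟙_ (Over S) ⟶ G'') (i : Q.X ⟶ G), NonAbH1.IsPullbackTorsor u v f i Q.act := by
  haveI := hex.1
  haveI := hex.2.1
  constructor
  · rintro ⟨φ, hφ⟩
    have hφ' : ∀ (T : Over S) (g' : T ⟶ G') (p : T ⟶ Q.X),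
        lift g' p ≫ Q.act.act ≫ φ = (g' ≫ u) * (p ≫ φ) := by
      intro T g' p
      rw [hφ, ← Category.assoc, comp_lift, lift_fst_assoc, lift_snd_assoc]
      exact (Hom.mul_def _ _).symm
    obtain ⟨i, hi0⟩ : ∃ i : Q.X ⟶ G, i = φ⁻¹ := ⟨_, rfl⟩
    have hi : ∀ (T : Over S) (g' : T ⟶ G') (p : T ⟶ Q.X),
        lift g' p ≫ Q.act.act ≫ i = (p ≫ i) * (g' ≫ u)⁻¹ := by
      intro T g' p
      rw [hi0, ← Category.assoc, GrpObj.comp_inv, Category.assoc, hφ', GrpObj.comp_inv,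
        _root_.mul_inv_rev]
    have hinv : ∀ (T : Over S) (g' : T ⟶ G') (p : T ⟶ Q.X),
        (lift g' p ≫ Q.act.act ≫ i) ≫ v = (p ≫ i) ≫ v := by
      intro T g' p
      rw [hi, MonObj.mul_comp, GrpObj.inv_comp, comp_u_comp_v hex, inv_one, _root_.mul_one]
    have hloc : Loc K (toUnit Q.X).left := loc_toUnit Q.isTorsor.2
    have hpt := Q.isTorsor.1
    obtain ⟨f, hf⟩ := Loc.exists_desc hloc (i ≫ v) (by
      intro T x₁ x₂ _
      obtain ⟨g', hg', -⟩ := existsUnique_of_isPseudoTorsor hpt x₁ x₂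
      have hg'' : lift g' x₁ ≫ Q.act.act = x₂ := hg'
      have h1 := hinv T g' x₁
      simp only [Category.assoc] at h1
      rw [← hg'']
      simp only [Category.assoc]
      exact h1.symm)
    have hinj : ∀ (T : Over S) (p p' : T ⟶ Q.X), p ≫ i = p' ≫ i → p = p' := by
      intro T p p' h
      obtain ⟨g', hg', -⟩ := existsUnique_of_isPseudoTorsor hpt p p'
      have hg'' : lift g' p ≫ Q.act.act = p' := hg'
      have h1 := hi T g' p
      rw [← Category.assoc, hg'', ← h] at h1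
      have h2 : (g' ≫ u)⁻¹ = 1 := by
        apply mul_left_cancel (a := p ≫ i)
        rw [_root_.mul_one]
        exact h1.symm
      have h3 : g' = 1 := by
        apply u_injective hex
        rw [MonObj.one_comp]
        exact inv_eq_one.mp h2
      rw [← hg'', h3, AlgGrp.Action.lift_one_act]
    have hexi : ∀ (T : Over S) (g : T ⟶ G), g ≫ v = toUnit T ≫ f →
        ∃ p : T ⟶ Q.X, p ≫ i = g := by
      intro T g hg
      have hlocT : Loc K (fst T Q.X).left := Loc.fst hloc T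
      haveI : Epi (fst T Q.X) := hlocT.epi
      have e1 : (fst T Q.X ≫ g) ≫ v = (snd T Q.X ≫ i) ≫ v := by
        calc (fst T Q.X ≫ g) ≫ v = fst T Q.X ≫ toUnit T ≫ f := by rw [Category.assoc, hg]
          _ = snd T Q.X ≫ toUnit Q.X ≫ f := by
              rw [← Category.assoc, ← Category.assoc]
              congr 1
              exact toUnit_unique _ _
          _ = (snd T Q.X ≫ i) ≫ v := by rw [hf, Category.assoc]
      obtain ⟨h, hh, -⟩ := existsUnique_of_comp_v_eq hex _ _ e1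
      have hh' : (fst T Q.X ≫ g) * (h ≫ u) = snd T Q.X ≫ i := hh
      obtain ⟨p₁, hp₁⟩ : ∃ p₁ : T ⊗ Q.X ⟶ Q.X, p₁ = lift h (snd T Q.X) ≫ Q.act.act :=
        ⟨_, rfl⟩
      have hp₁i : p₁ ≫ i = fst T Q.X ≫ g := by
        rw [hp₁, Category.assoc, hi, ← hh', mul_inv_cancel_right]
      obtain ⟨p, hp⟩ := Loc.exists_desc hlocT p₁ (by
        intro T' x₁ x₂ hx
        apply hinj
        rw [Category.assoc, Category.assoc, hp₁i, ← Category.assoc, ← Category.assoc, hx])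
      refine ⟨p, ?_⟩
      rw [← cancel_epi (fst T Q.X), ← Category.assoc, hp, hp₁i]
    refine ⟨f, i, hex.1, hex.2.1, ?_, hi⟩
    refine isPullback_of_existsUnique hf.symm ?_
    intro T a b hab
    have hb : b = toUnit T := toUnit_unique _ _
    subst hb
    obtain ⟨p, hp⟩ := hexi T a hab
    refine ⟨p, ⟨hp, toUnit_unique _ _⟩, ?_⟩
    rintro p' ⟨hp', -⟩
    exact hinj _ _ _ (hp'.trans hp.symm)
  · rintro ⟨f, i, -, -, -, hi⟩
    refine ⟨i⁻¹, ?_⟩
    apply AlgGrp.Action.hom_ext_lift₂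
    intro T g' p
    have hL : lift g' p ≫ Q.act.act ≫ i⁻¹ = (g' ≫ u) * (p ≫ i)⁻¹ := by
      rw [← Category.assoc, GrpObj.comp_inv, Category.assoc, hi, _root_.mul_inv_rev, _root_.inv_inv]
    have hR : lift g' p ≫ lift (fst G' Q.X ≫ u) (snd G' Q.X ≫ i⁻¹) ≫
        (NonAbH1.trivialAction G).act = (g' ≫ u) * (p ≫ i)⁻¹ := by
      rw [← Category.assoc, comp_lift, lift_fst_assoc, lift_snd_assoc, GrpObj.comp_inv]
      exact (Hom.mul_def _ _).symm
    exact hL.trans hR.symm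

/-- S6010 (general form). -/
theorem main6010 [K.IsStableUnderComposition] (u : G' ⟶ G) (v : G ⟶ G'')
    (hex : NonAbH1.IsExactSeq K u v) (P : NonAbH1.TorsorSch G K) :
    NonAbH1.IsPushforwardAlongSch v P.act (NonAbH1.trivialAction G'') ↔
      ∃ Q : NonAbH1.TorsorSch G' K, NonAbH1.IsPushforwardAlongSch u Q.act P.act := by
  haveI := hex.1
  haveI := hex.2.1
  have hPpt := P.isTorsor.1
  have hPloc : Loc K (toUnit P.X).left := loc_toUnit P.isTorsor.2
  constructor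
  · rintro ⟨ψ, hψ⟩
    have hψ' : ∀ (T : Over S) (g : T ⟶ G) (x : T ⟶ P.X),
        (lift g x ≫ P.act.act) ≫ ψ = (g ≫ v) * (x ≫ ψ) := by
      intro T g x
      rw [Category.assoc, hψ, ← Category.assoc, comp_lift, lift_fst_assoc, lift_snd_assoc]
      exact (Hom.mul_def _ _).symm
    obtain ⟨QX, j, t, hpb⟩ : ∃ (QX : Over S) (j : QX ⟶ P.X) (t : QX ⟶ 𝟙_ (Over S)),
        IsPullback j t ψ η[G''] := ⟨_, _, _, IsPullback.of_hasPullback ψ η[G'']⟩
    have hj1 : j ≫ ψ = 1 := by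
      rw [hpb.w, Hom.one_def]
      congr 1
      exact toUnit_unique _ _
    have hQpt : ∀ (T : Over S) (x : T ⟶ P.X), x ≫ ψ = 1 → ∃ q : T ⟶ QX, q ≫ j = x := by
      intro T x hx
      exact ⟨hpb.lift x (toUnit T) (by rw [hx, Hom.one_def]), hpb.lift_fst _ _ _⟩
    have hjmono : ∀ (T : Over S) (q q' : T ⟶ QX), q ≫ j = q' ≫ j → q = q' := by
      intro T q q' h
      exact hpb.hom_ext h (toUnit_unique _ _)
    haveI : Mono j := ⟨fun q q' h => hjmono _ q q' h⟩
    -- the action of `G'` on `QX`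
    have hm₀ : ((G' ◁ j) ≫ (P.act.restrict u).act) ≫ ψ = 1 := by
      have e : (1 : G' ⊗ QX ⟶ G'') = snd G' QX ≫ (1 : QX ⟶ G'') := by rw [MonObj.comp_one]
      rw [e]
      apply AlgGrp.Action.hom_ext_lift₂
      intro T g' q
      rw [← Category.assoc, ← Category.assoc, lift_whiskerLeft,
        AlgGrp.Action.lift_restrict_act, hψ', comp_u_comp_v hex, Category.assoc, hj1,
        MonObj.comp_one, MonObj.comp_one, _root_.one_mul, MonObj.comp_one]
    obtain ⟨actQ, hactQ⟩ := hQpt _ _ hm₀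
    obtain ⟨aQ, haQ⟩ : ∃ aQ : AlgGrp.Action G' QX, aQ.act = actQ :=
      ⟨Groth.Agent.Lib.Helper11OrbitSub.restrictAct (P.act.restrict u) j actQ hactQ, rfl⟩
    have hQact : ∀ (T : Over S) (g' : T ⟶ G') (q : T ⟶ QX),
        (lift g' q ≫ aQ.act) ≫ j = lift (g' ≫ u) (q ≫ j) ≫ P.act.act := by
      intro T g' q
      rw [haQ, Category.assoc, hactQ, ← Category.assoc, lift_whiskerLeft,
        AlgGrp.Action.lift_restrict_act]
    have hQpseudo : NonAbH1.IsPseudoTorsorSch aQ := by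
      apply isPseudoTorsor_of_existsUnique
      intro T q q'
      obtain ⟨g, hg, hguniq⟩ := existsUnique_of_isPseudoTorsor hPpt (q ≫ j) (q' ≫ j)
      have hg' : lift g (q ≫ j) ≫ P.act.act = q' ≫ j := hg
      have hgv : g ≫ v = 1 := by
        have h1 := hψ' T g (q ≫ j)
        rw [hg', Category.assoc, Category.assoc, hj1, MonObj.comp_one, MonObj.comp_one,
          _root_.mul_one] at h1
        exact h1.symm
      obtain ⟨g', hg'u, hg'uniq⟩ := existsUnique_of_comp_v_eq_one hex g hgv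
      have hg'u' : g' ≫ u = g := hg'u
      refine ⟨g', ?_, ?_⟩
      · show lift g' q ≫ aQ.act = q'
        apply hjmono
        rw [hQact, hg'u', hg']
      · intro g₁ hg₁
        have hg₁' : lift g₁ q ≫ aQ.act = q' := hg₁
        apply hg'uniq
        show g₁ ≫ u = g
        apply hguniq
        show lift (g₁ ≫ u) (q ≫ j) ≫ P.act.act = q' ≫ j
        rw [← hQact, hg₁']
    have hQloc : Loc K (toUnit QX).left := by
      obtain ⟨Y, pr₁, pr₂, hY⟩ : ∃ (Y : Over S) (pr₁ : Y ⟶ P.X) (pr₂ : Y ⟶ G),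
          IsPullback pr₁ pr₂ ψ v := ⟨_, _, _, IsPullback.of_hasPullback ψ v⟩
      have hpr : Loc K pr₁.left := Loc.of_isPullbackO hY (loc_v hex)
      obtain ⟨r, hr⟩ := hQpt Y (lift pr₂⁻¹ pr₁ ≫ P.act.act) (by
        rw [hψ', GrpObj.inv_comp, hY.w, inv_mul_cancel])
      have h1 : Loc K (pr₁ ≫ toUnit P.X).left := Loc.compO hpr hPloc
      have e : pr₁ ≫ toUnit P.X = r ≫ toUnit QX := toUnit_unique _ _
      rw [e] at h1
      exact Loc.of_compO h1
    refine ⟨⟨QX, aQ, hQpseudo, isLocallyTrivialFor_of_loc hQloc⟩, j, ?_⟩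
    apply AlgGrp.Action.hom_ext_lift₂
    intro T g' q
    rw [← Category.assoc, hQact, ← Category.assoc, comp_lift, lift_fst_assoc, lift_snd_assoc]
  · rintro ⟨Q, j, hj⟩
    have hj' : ∀ (T : Over S) (g' : T ⟶ G') (q : T ⟶ Q.X),
        (lift g' q ≫ Q.act.act) ≫ j = lift (g' ≫ u) (q ≫ j) ≫ P.act.act := by
      intro T g' q
      rw [Category.assoc, hj, ← Category.assoc, comp_lift, lift_fst_assoc, lift_snd_assoc]
    have hQpt := Q.isTorsor.1
    have hQloc : Loc K (toUnit Q.X).left := loc_toUnit Q.isTorsor.2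
    obtain ⟨m, hm⟩ : ∃ m : G ⊗ Q.X ⟶ P.X, m = (G ◁ j) ≫ P.act.act := ⟨_, rfl⟩
    have hm' : ∀ (T : Over S) (g : T ⟶ G) (q : T ⟶ Q.X),
        lift g q ≫ m = lift g (q ≫ j) ≫ P.act.act := by
      intro T g q
      rw [hm, ← Category.assoc, lift_whiskerLeft]
    have hmloc : Loc K m.left := by
      obtain ⟨δ, hδ, -⟩ := existsUnique_of_isPseudoTorsor hPpt (snd P.X Q.X ≫ j) (fst P.X Q.X)
      have hδ' : lift δ (snd P.X Q.X ≫ j) ≫ P.act.act = fst P.X Q.X := hδ
      have h1 : Loc K (fst P.X Q.X).left := Loc.fst hQloc P.X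
      have e : fst P.X Q.X = lift δ (snd P.X Q.X) ≫ m := by rw [hm', hδ']
      rw [e] at h1
      exact Loc.of_compO h1
    obtain ⟨ψ, hψ⟩ := Loc.exists_desc hmloc (fst G Q.X ≫ v) (by
      intro T p₁ p₂ h
      have hp₁ : p₁ = lift (p₁ ≫ fst G Q.X) (p₁ ≫ snd G Q.X) := by
        rw [← comp_lift, lift_fst_snd, Category.comp_id]
      have hp₂ : p₂ = lift (p₂ ≫ fst G Q.X) (p₂ ≫ snd G Q.X) := by
        rw [← comp_lift, lift_fst_snd, Category.comp_id]
      obtain ⟨g', hg', -⟩ := existsUnique_of_isPseudoTorsor hQpt (p₁ ≫ snd G Q.X)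
        (p₂ ≫ snd G Q.X)
      have hg'' : lift g' (p₁ ≫ snd G Q.X) ≫ Q.act.act = p₂ ≫ snd G Q.X := hg'
      have h2 : lift (p₁ ≫ fst G Q.X) ((p₁ ≫ snd G Q.X) ≫ j) ≫ P.act.act =
          lift ((p₂ ≫ fst G Q.X) * (g' ≫ u)) ((p₁ ≫ snd G Q.X) ≫ j) ≫ P.act.act := by
        rw [AlgGrp.Action.lift_mul_act, ← hj', hg'', ← hm', ← hm', ← hp₁, ← hp₂, h]
      obtain ⟨g₀, -, huniq⟩ := existsUnique_of_isPseudoTorsor hPpt ((p₁ ≫ snd G Q.X) ≫ j)
        (lift (p₁ ≫ fst G Q.X) ((p₁ ≫ snd G Q.X) ≫ j) ≫ P.act.act)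
      have h3 : p₁ ≫ fst G Q.X = (p₂ ≫ fst G Q.X) * (g' ≫ u) := by
        rw [huniq (p₁ ≫ fst G Q.X) rfl, huniq ((p₂ ≫ fst G Q.X) * (g' ≫ u)) h2.symm]
      rw [← Category.assoc, ← Category.assoc, h3, mul_u_comp_v hex])
    have hψ' : ∀ (T : Over S) (g : T ⟶ G) (q : T ⟶ Q.X),
        (lift g (q ≫ j) ≫ P.act.act) ≫ ψ = g ≫ v := by
      intro T g q
      rw [← hm', Category.assoc, hψ, lift_fst_assoc]
    haveI : Epi (G ◁ m) := (Loc.whiskerLeft hmloc G).epi
    refine ⟨ψ, ?_⟩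
    rw [← cancel_epi (G ◁ m)]
    apply AlgGrp.Action.hom_ext_lift₂
    intro T g p
    have hp : p = lift (p ≫ fst G Q.X) (p ≫ snd G Q.X) := by
      rw [← comp_lift, lift_fst_snd, Category.comp_id]
    have hpm : p ≫ m = lift (p ≫ fst G Q.X) ((p ≫ snd G Q.X) ≫ j) ≫ P.act.act := by
      rw [← hm', ← hp]
    have hL : lift g p ≫ (G ◁ m) ≫ P.act.act ≫ ψ = (g ≫ v) * ((p ≫ fst G Q.X) ≫ v) := by
      rw [← Category.assoc, lift_whiskerLeft, hpm, ← Category.assoc,
        ← AlgGrp.Action.lift_mul_act, hψ', MonObj.mul_comp]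
    have hR : lift g p ≫ (G ◁ m) ≫ lift (fst G P.X ≫ v) (snd G P.X ≫ ψ) ≫
        (NonAbH1.trivialAction G'').act = (g ≫ v) * ((p ≫ fst G Q.X) ≫ v) := by
      rw [← Category.assoc, lift_whiskerLeft, ← Category.assoc, comp_lift, lift_fst_assoc,
        lift_snd_assoc, hpm, hψ']
      exact (Hom.mul_def _ _).symm
    exact hL.trans hR.symm

end Groth.Agent.Lib.Helper8TorsorSeq
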