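import Mathlib

/-!
# Countably many hypersurfaces do not cover a variety over an uncountable algebraically closed field

`Groth.Agent.Lib.Helper8Uncountable.exists_maximal_disjoint` : for a finitely generated algebra `A`
over an uncountable field `k` and a countable submonoid `M` of `A` not
containing `0`, there is a maximal ideal of `A` disjoint from `M`.
-/

set_option autoImplicit false
universe u

open Cardinal
open scoped Pointwise

namespace Groth.Agent.Lib.Helper8Uncountable

/-- A finitely generated algebra over a field has countable dimension. -/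
theorem rank_le_aleph0_of_finiteType (k : Type u) [Field k] (A : Type u) [CommRing A] [Algebra k A]
    [Algebra.FiniteType k A] : Module.rank k A ≤ ℵ₀ := by
  obtain ⟨s, hs⟩ := (Algebra.FiniteType.out : (⊤ : Subalgebra k A).FG)
  have h1 := Algebra.rank_adjoin_le (R := k) (s : Set A)
  rw [hs, Subalgebra.rank_top] at h1
  refine h1.trans (max_le ?_ le_rfl)
  exact (Cardinal.lt_aleph0_of_finite _).le

/-- A field extension of countable dimension of an uncountable field is algebraic. -/
theorem isAlgebraic_of_rank_le_aleph0 (k : Type u) [Field k] [Uncountable k] (F : Type u) [Field F]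
    [Algebra k F] (h : Module.rank k F ≤ ℵ₀) : Algebra.IsAlgebraic k F := by
  by_contra hna
  rw [← Algebra.transcendental_iff_not_isAlgebraic] at hna
  have h1 := Algebra.Transcendental.rank_eq_cardinalMk k F
  have h2 : #k ≤ #F := Cardinal.mk_le_of_injective (algebraMap k F).injective
  have h3 : ℵ₀ < #k := Cardinal.aleph0_lt_mk_iff.2 inferInstance
  exact absurd (h3.trans_le (h2.trans (h1 ▸ h))) (lt_irrefl _)

theorem exists_maximal_disjoint
    (k : Type u) [Field k] [Uncountable k]
    (A : Type u) [CommRing A] [Algebra k A] [Algebra.FiniteType k A]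
    (M : Submonoid A) (hM : (0 : A) ∉ M) (hMc : (M : Set A).Countable) :
    ∃ m : Ideal A, m.IsMaximal ∧ ∀ a ∈ M, a ∉ m := by
  classical
  let B := Localization M
  have hnt : Nontrivial B := by
    by_contra hB
    rw [not_nontrivial_iff_subsingleton] at hB
    exact hM ((IsLocalization.subsingleton_iff (M := M) (S := B)).1 hB)
  obtain ⟨n, hn⟩ := Ideal.exists_maximal B
  let _ : Field (B ⧸ n) := Ideal.Quotient.field n
  -- countable spanning set of `B` over `k`
  have hrankA := rank_le_aleph0_of_finiteType k A
  let bA := Module.Basis.ofVectorSpace k A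
  have hcount_s : (Set.range bA).Countable := by
    have : #(Module.Basis.ofVectorSpaceIndex k A) ≤ ℵ₀ := by
      rw [bA.mk_eq_rank'']; exact hrankA
    have : Countable (Module.Basis.ofVectorSpaceIndex k A) := Cardinal.mk_le_aleph0_iff.1 this
    exact Set.countable_range _
  have hspan_s : Submodule.span k (Set.range bA) = ⊤ := bA.span_eq
  have hcount_t : ((IsLocalization.invSubmonoid M B : Submonoid B) : Set B).Countable := by
    have : Countable M := hMc.to_subtype
    have hsurj := IsLocalization.toInvSubmonoid_surjective M B
    have : Countable (IsLocalization.invSubmonoid M B) := hsurj.countable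
    exact Set.countable_coe_iff.1 this
  have hspan : Submodule.span k ((Set.range bA) • ((IsLocalization.invSubmonoid M B : Submonoid B) : Set B))
      = ⊤ := by
    rw [Submodule.span_smul_of_span_eq_top hspan_s, IsLocalization.span_invSubmonoid]
    rfl
  have hrankB : Module.rank k B ≤ ℵ₀ := by
    have h1 := rank_span_le (R := k)
      ((Set.range bA) • ((IsLocalization.invSubmonoid M B : Submonoid B) : Set B))
    rw [hspan, rank_top] at h1
    refine h1.trans ?_
    have : ((Set.range bA) • ((IsLocalization.invSubmonoid M B : Submonoid B) : Set B)).Countable :=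
      hcount_s.image2 hcount_t _
    exact Cardinal.mk_le_aleph0_iff.2 this.to_subtype
  have hrankF : Module.rank k (B ⧸ n) ≤ ℵ₀ :=
    ((Ideal.Quotient.mkₐ k n).toLinearMap.rank_le_of_surjective
      (Ideal.Quotient.mkₐ_surjective k n)).trans hrankB
  have halg := isAlgebraic_of_rank_le_aleph0 k (B ⧸ n) hrankF
  -- the composite `A → B → B ⧸ n`
  let φ : A →ₐ[k] (B ⧸ n) := (Ideal.Quotient.mkₐ k n).comp (IsScalarTower.toAlgHom k A B)
  have hfld : IsField φ.range := Subalgebra.isField_of_algebraic φ.range
  have hfld' : IsField (A ⧸ RingHom.ker φ) :=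
    MulEquiv.isField hfld (Ideal.quotientKerEquivRange φ).toMulEquiv
  refine ⟨RingHom.ker φ, Ideal.Quotient.maximal_of_isField _ hfld', ?_⟩
  intro a ha ham
  have h0 : Ideal.Quotient.mk n (algebraMap A B a) = 0 := ham
  rw [Ideal.Quotient.eq_zero_iff_mem] at h0
  have hu : IsUnit (algebraMap A B a) := IsLocalization.map_units B ⟨a, ha⟩
  exact hn.ne_top (Ideal.eq_top_of_isUnit_mem _ h0 hu)

end Groth.Agent.Lib.Helper8Uncountable
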