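import Mathlib
import Groth.Agent.Lib.Helper8Uncountable

/-!
# Varieties over an uncountable algebraically closed field: geometric consequences

* `exists_maximal_ge_disjoint`: relative version of `exists_maximal_disjoint` above a prime ideal.
* `exists_closedPoint_mem_notMem`: an irreducible closed subset `T` of a scheme locally of finite
  type over an uncountable algebraically closed field, not contained in any member of a countable
  family of closed subsets, has a closed point outside all of them.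
* `wellFoundedGT_irreducibleCloseds`: ACC for irreducible closed subsets of a locally noetherian
  scheme.
-/

set_option autoImplicit false
universe u

open CategoryTheory AlgebraicGeometry

namespace Groth.Agent.Lib.Helper8Uncountable

theorem exists_maximal_ge_disjoint
    (k : Type u) [Field k] [Uncountable k]
    (A : Type u) [CommRing A] [Algebra k A] [Algebra.FiniteType k A]
    (I : Ideal A) [I.IsPrime] (M : Submonoid A) (hM : ∀ a ∈ M, a ∉ I)
    (hMc : (M : Set A).Countable) :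
    ∃ m : Ideal A, m.IsMaximal ∧ I ≤ m ∧ ∀ a ∈ M, a ∉ m := by
  classical
  let M' : Submonoid (A ⧸ I) := M.map (Ideal.Quotient.mk I)
  have hM'0 : (0 : A ⧸ I) ∉ M' := by
    rintro ⟨a, ha, ha0⟩
    exact hM a ha (Ideal.Quotient.eq_zero_iff_mem.1 ha0)
  have hM'c : (M' : Set (A ⧸ I)).Countable := by
    have : (M' : Set (A ⧸ I)) = (Ideal.Quotient.mk I) '' (M : Set A) := rfl
    rw [this]
    exact hMc.image _
  have : Algebra.FiniteType k (A ⧸ I) :=
    Algebra.FiniteType.of_surjective (Ideal.Quotient.mkₐ k I) (Ideal.Quotient.mkₐ_surjective k I)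
  obtain ⟨m', hm', hm'M⟩ := exists_maximal_disjoint k (A ⧸ I) M' hM'0 hM'c
  refine ⟨m'.comap (Ideal.Quotient.mk I),
    Ideal.comap_isMaximal_of_surjective _ Ideal.Quotient.mk_surjective, ?_, ?_⟩
  · intro a ha
    rw [Ideal.mem_comap, Ideal.Quotient.eq_zero_iff_mem.2 ha]
    exact zero_mem _
  · intro a ha ham
    exact hm'M _ ⟨a, ha, rfl⟩ ham

theorem exists_closedPoint_mem_notMem (k : Type u) [Field k] [Uncountable k]
    (X : Scheme.{u}) (sX : X ⟶ Spec (CommRingCat.of k)) [LocallyOfFiniteType sX]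
    (T : Set X) (hT : IsIrreducible T) (hTc : IsClosed T)
    (𝒵 : Set (TopologicalSpace.Closeds X)) (h𝒵 : 𝒵.Countable)
    (hne : ∀ Z ∈ 𝒵, ¬ T ⊆ (Z : Set X)) :
    ∃ x ∈ T, IsClosed ({x} : Set X) ∧ ∀ Z ∈ 𝒵, x ∉ Z := by
  classical
  have hJ : JacobsonSpace X := LocallyOfFiniteType.jacobsonSpace sX
  obtain ⟨x₀, hx₀⟩ := hT.nonempty
  obtain ⟨_, ⟨W, hW, rfl⟩, hxW, -⟩ :=
    X.isBasis_affineOpens.exists_subset_of_mem_open (Set.mem_univ x₀) isOpen_univ
  have hW' : IsAffineOpen W := hW
  have := hW'.isOpenImmersion_fromSpec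
  let φ : k →+* Γ(X, W) :=
    (sX.appLE ⊤ W le_top).hom.comp (Scheme.ΓSpecIso (CommRingCat.of k)).inv.hom
  have hφ : φ.FiniteType := by
    refine RingHom.FiniteType.comp
      (LocallyOfFiniteType.finiteType_appLE sX (isAffineOpen_top _) hW le_top) ?_
    exact RingHom.FiniteType.of_surjective _
      (ConcreteCategory.bijective_of_isIso (Scheme.ΓSpecIso (CommRingCat.of k)).inv).2
  algebraize [φ]
  have hTW : (T ∩ (W : Set X)).Nonempty := ⟨x₀, hx₀, hxW⟩
  have hTWcl : T ⊆ closure (T ∩ (W : Set X)) :=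
    subset_closure_inter_of_isPreirreducible_of_isOpen hT.isPreirreducible W.2 hTW
  -- the prime ideal of `T ∩ W`
  let TW : Set (Spec Γ(X, W)) := hW'.fromSpec ⁻¹' T
  have hTWc : IsClosed TW := hTc.preimage hW'.fromSpec.continuous
  have hTWirr : IsIrreducible TW := by
    refine ⟨?_, hT.isPreirreducible.preimage hW'.fromSpec.isOpenEmbedding⟩
    have : x₀ ∈ Set.range hW'.fromSpec := by rw [hW'.range_fromSpec]; exact hxW
    obtain ⟨q, hq⟩ := this
    exact ⟨q, by change hW'.fromSpec q ∈ T; rw [hq]; exact hx₀⟩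
  let I : Ideal Γ(X, W) := PrimeSpectrum.vanishingIdeal TW
  have hIprime : I.IsPrime := (PrimeSpectrum.isIrreducible_iff_vanishingIdeal_isPrime).1 hTWirr
  have key : ∀ Z : 𝒵, ∃ f : Γ(X, W), f ∉ I ∧ ∀ y ∈ X.basicOpen f, y ∉ (Z : TopologicalSpace.Closeds X) := by
    rintro ⟨Z, hZ⟩
    have h1 : ¬ (T ∩ (W : Set X)) ⊆ (Z : Set X) := fun h =>
      hne Z hZ (hTWcl.trans (closure_minimal h Z.isClosed))
    obtain ⟨y, ⟨hyT, hyW⟩, hyZ⟩ := Set.not_subset.1 h1
    let O : X.Opens := ⟨(Z : Set X)ᶜ, Z.isClosed.isOpen_compl⟩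
    obtain ⟨f, hfO, hyf⟩ := hW'.exists_basicOpen_le (V := O) ⟨y, hyZ⟩ hyW
    refine ⟨f, ?_, fun z hz => hfO hz⟩
    have : y ∈ Set.range hW'.fromSpec := by rw [hW'.range_fromSpec]; exact hyW
    obtain ⟨q, rfl⟩ := this
    have hq1 : q ∈ TW := hyT
    have hq2 : q ∈ hW'.fromSpec ⁻¹ᵁ X.basicOpen f := hyf
    rw [hW'.fromSpec_preimage_basicOpen] at hq2
    intro hfI
    exact hq2 ((PrimeSpectrum.mem_vanishingIdeal _ _).1 hfI q hq1)
  choose f hfI hfZ using key
  let M : Submonoid Γ(X, W) := Submonoid.closure (Set.range f)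
  have hMI : ∀ a ∈ M, a ∉ I := by
    have : M ≤ I.primeCompl := by
      rw [Submonoid.closure_le]
      rintro _ ⟨Z, rfl⟩
      exact hfI Z
    exact fun a ha => this ha
  have hMc : (M : Set Γ(X, W)).Countable := by
    have h1 : M = MonoidHom.mrange (FreeMonoid.lift ((↑) : Set.range f → Γ(X, W))) :=
      Submonoid.closure_eq_mrange _
    rw [h1]
    have : Countable 𝒵 := h𝒵.to_subtype
    have : Countable (Set.range f) := (Set.countable_range f).to_subtype
    have : Countable (FreeMonoid (Set.range f)) := inferInstanceAs (Countable (List _))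
    exact Set.countable_range _
  obtain ⟨m, hm, hIm, hmM⟩ := exists_maximal_ge_disjoint k Γ(X, W) I M hMI hMc
  let p : Spec Γ(X, W) := ⟨m, hm.isPrime⟩
  have hpcl : p ∈ closedPoints (Spec Γ(X, W)) := by
    rw [mem_closedPoints_iff]
    exact (PrimeSpectrum.isClosed_singleton_iff_isMaximal p).2 hm
  rw [← hW'.fromSpec.isOpenEmbedding.preimage_closedPoints] at hpcl
  have hpT : p ∈ TW := by
    have h1 : PrimeSpectrum.zeroLocus (I : Set Γ(X, W)) = TW :=
      (PrimeSpectrum.zeroLocus_vanishingIdeal_eq_closure TW).trans hTWc.closure_eq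
    rw [← h1]
    exact (PrimeSpectrum.mem_zeroLocus _ _).2 hIm
  have hmem : ∀ Z : 𝒵, hW'.fromSpec p ∈ X.basicOpen (f Z) := by
    intro Z
    have : p ∈ hW'.fromSpec ⁻¹ᵁ X.basicOpen (f Z) := by
      rw [hW'.fromSpec_preimage_basicOpen]
      exact hmM (f Z) (Submonoid.subset_closure ⟨Z, rfl⟩)
    exact this
  refine ⟨hW'.fromSpec p, hpT, mem_closedPoints_iff.1 hpcl, ?_⟩
  intro Z hZ
  exact hfZ ⟨Z, hZ⟩ _ (hmem ⟨Z, hZ⟩)

/-- ACC for irreducible closed subsets of a locally noetherian scheme. -/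
theorem wellFoundedGT_irreducibleCloseds (X : Scheme.{u}) [IsLocallyNoetherian X] :
    WellFoundedGT {T : TopologicalSpace.Closeds X // IsIrreducible (T : Set X)} := by
  classical
  constructor
  rw [RelEmbedding.wellFounded_iff_isEmpty]
  refine ⟨fun e => ?_⟩
  have hlt : ∀ {n m : ℕ}, n < m → e n < e m := fun h => e.map_rel_iff.2 h
  have hle : ∀ {n m : ℕ}, n ≤ m → e n ≤ e m := fun h => by
    rcases h.lt_or_eq with h | rfl
    · exact (hlt h).le
    · exact le_rfl
  obtain ⟨x₀, hx₀⟩ := (e 0).2.nonempty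
  obtain ⟨_, ⟨W, hW, rfl⟩, hxW, -⟩ :=
    X.isBasis_affineOpens.exists_subset_of_mem_open (Set.mem_univ x₀) isOpen_univ
  have hW' : IsAffineOpen W := hW
  have := hW'.isOpenImmersion_fromSpec
  have hN : IsNoetherianRing Γ(X, W) := IsLocallyNoetherian.component_noetherian ⟨W, hW⟩
  obtain ⟨q₀, hq₀⟩ : x₀ ∈ Set.range hW'.fromSpec := by rw [hW'.range_fromSpec]; exact hxW
  let TW : ℕ → Set (PrimeSpectrum Γ(X, W)) := fun n => hW'.fromSpec ⁻¹' ((e n).1 : Set X)
  have hTWc : ∀ n, IsClosed (TW n) := fun n => (e n).1.isClosed.preimage hW'.fromSpec.continuous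
  have hTWne : ∀ n, (TW n).Nonempty := fun n =>
    ⟨q₀, by
      change hW'.fromSpec q₀ ∈ ((e n).1 : Set X)
      rw [hq₀]
      exact (hle (Nat.zero_le n) : (e 0).1 ≤ (e n).1) hx₀⟩
  have hTWirr : ∀ n, IsIrreducible (TW n) := fun n =>
    ⟨hTWne n, (e n).2.isPreirreducible.preimage hW'.fromSpec.isOpenEmbedding⟩
  have hprime : ∀ n, (PrimeSpectrum.vanishingIdeal (TW n)).IsPrime := fun n =>
    (PrimeSpectrum.isIrreducible_iff_vanishingIdeal_isPrime).1 (hTWirr n)
  have hrec : ∀ n, closure (hW'.fromSpec '' TW n) = ((e n).1 : Set X) := fun n =>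
    closure_image_preimage_of_isPreirreducible _ hW'.fromSpec.isOpenEmbedding.isOpenMap _
      (hTWne n) (e n).2.isPreirreducible (e n).1.isClosed
  have hstrict : ∀ {n m : ℕ}, n < m →
      PrimeSpectrum.vanishingIdeal (TW m) < PrimeSpectrum.vanishingIdeal (TW n) := by
    intro n m hnm
    have hsub : TW n ⊆ TW m := Set.preimage_mono (hle hnm.le : (e n).1 ≤ (e m).1)
    refine lt_of_le_of_ne (PrimeSpectrum.vanishingIdeal_anti_mono hsub) ?_
    intro heq
    have h1 : TW m = TW n := by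
      rw [← (hTWc m).closure_eq, ← (hTWc n).closure_eq,
        ← PrimeSpectrum.zeroLocus_vanishingIdeal_eq_closure,
        ← PrimeSpectrum.zeroLocus_vanishingIdeal_eq_closure, heq]
    have h2 : ((e n).1 : Set X) = ((e m).1 : Set X) := by
      rw [← hrec n, ← hrec m, h1]
    have h3 : e n = e m := Subtype.ext (TopologicalSpace.Closeds.ext h2)
    exact (hlt hnm).ne h3
  let h : ℕ → ℕ∞ := fun n => (PrimeSpectrum.vanishingIdeal (TW n)).height
  have hanti : StrictAnti h := by
    intro n m hnm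
    have := hprime n
    have := hprime m
    exact Ideal.height_strict_mono_of_isPrime_of_isPrime (hstrict hnm)
  exact not_strictAnti_of_wellFoundedLT h hanti

end Groth.Agent.Lib.Helper8Uncountable
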