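-- helper8: universally injective iff diagonal surjective on points (S12831)
import Mathlib
import Groth.Agent.Lib.Helper15GoodComp
import Groth.Agent.Lib.Helper8DiagCancel
import Groth.Agent.Lib.Helper15DiagBC

set_option autoImplicit false
set_option backward.isDefEq.respectTransparency false
set_option backward.isDefEq.respectTransparency.types false
open CategoryTheory CategoryTheory.Functor CategoryTheory.Limits Opposite AlgebraicGeometry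

universe u

namespace Groth.Agent.Lib.Helper8UnivInj

open Groth.Agent.Lib.Helper17 Groth.Agent.Lib.Helper15PshFib Groth.Agent.Lib.Helper15RepComp
  Groth.Agent.Lib.Helper15RepPsh Groth.Agent.Lib.Helper15DiagBase Groth.Agent.Lib.Helper15DiagRepSp
  Groth.Agent.Lib.Helper15Descent Groth.Agent.Lib.Helper15DiagLft
  Groth.Agent.Lib.Helper15DiagDescent Groth.Agent.Lib.Helper15SpMapRep
  Groth.Agent.Lib.Helper15SrcCancel Groth.Agent.Lib.Helper15ChartSp Groth.Agent.Lib.Helper15Atlas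
  Groth.Agent.Lib.Helper15LocEss Groth.Agent.Lib.Helper15UnivComp Groth.Agent.Lib.Helper15SmLoc
  Groth.Agent.Lib.Helper15PtsComp Groth.Agent.Lib.Helper15PtsTop Groth.Agent.Lib.Helper15PtsQc
  Groth.Agent.Lib.Helper15FpSwap Groth.Agent.Lib.Helper15QcLocal Groth.Agent.Lib.Helper15ClosedQc
  Groth.Agent.Lib.Helper15UnivPts Groth.Agent.Lib.Helper15BaseChange
  Groth.Agent.Lib.Helper15MonoSep Groth.Agent.Lib.Helper15LocQ Groth.Agent.Lib.Helper15LocQEngine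
  Groth.Agent.Lib.Helper15LocQProps Groth.Agent.Lib.Helper15LocQSpace
  Groth.Agent.Lib.Helper15LocQSpace2 Groth.Agent.Lib.Helper15LocQRep
  Groth.Agent.Lib.Helper15LocQComp Groth.Agent.Lib.Helper15GoodComp
  Groth.Agent.Lib.Helper8DiagCancel

variable {S : Scheme.{u}} {𝒳 𝒴 𝒵 : AlgSt.Cat S}

/-- A morphism whose diagonal is surjective on points is injective on points. -/
theorem points_map_injective_of_isSurjective_diag (h𝒳 : FibCat.IsFibGrpd 𝒳.p)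
    (h𝒴 : FibCat.IsFibGrpd 𝒴.p) (f : 𝒳 ⥤ᵇ 𝒴) (hΔ : AlgSt.IsSurjective (FibCat.diag f)) :
    Function.Injective (AlgSt.Points.map f) := by
  intro w₁ w₂ h
  obtain ⟨t, ht₁, ht₂⟩ := points_fp_surjective h𝒳 h𝒴 h𝒳 f f w₁ w₂ h
  obtain ⟨w, rfl⟩ := hΔ t
  rw [← ht₁, ← ht₂, ← points_map_comp, ← points_map_comp]
  rfl

/-- Surjectivity of the diagonal on points is stable under base change. -/
theorem isSurjective_diag_fpFst (h𝒳 : AlgSt.IsAlgStack Scheme.fppfPrecoverage 𝒳)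
    (h𝒴 : AlgSt.IsAlgStack Scheme.fppfPrecoverage 𝒴)
    (h𝒵 : AlgSt.IsAlgStack Scheme.fppfPrecoverage 𝒵) (f : 𝒳 ⥤ᵇ 𝒴) (g : 𝒵 ⥤ᵇ 𝒴)
    (hΔ : AlgSt.IsSurjective (FibCat.diag f)) :
    AlgSt.IsSurjective (FibCat.diag (FibCat.fpFst g f)) := by
  have hpre𝒴 := IsStack.isPrestack _ h𝒴.isStack
  have hpre𝒵 := IsStack.isPrestack _ h𝒵.isStack
  have hff : AlgSt.IsAlgStack Scheme.fppfPrecoverage (FibCat.fp f f) :=
    isAlgStack_fp_of_isPrestack hpre𝒴 h𝒴.diag h𝒳 h𝒳 f f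
  have h𝒫 : AlgSt.IsAlgStack Scheme.fppfPrecoverage (FibCat.fp g f) :=
    isAlgStack_fp_of_isPrestack hpre𝒴 h𝒴.diag h𝒵 h𝒳 g f
  have h𝒫𝒫 : AlgSt.IsAlgStack Scheme.fppfPrecoverage
      (FibCat.fp (FibCat.fpFst g f) (FibCat.fpFst g f)) :=
    isAlgStack_fp_of_isPrestack hpre𝒵 h𝒵.diag h𝒫 h𝒫 _ _
  have hrep : AlgSt.RepByAlgSp1 (FibCat.diag f) := repByAlgSp1_diag_of_diag f h𝒳.diag h𝒴.diag
  have h1 : AlgSt.RepByAlgSpWith AlgSp.IsSurjectiveMor (FibCat.diag f) :=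
    (isSurjective_iff_repByAlgSpWith h𝒳 hff _ hrep).1 hΔ
  have h2 := Groth.Agent.Lib.Helper15.DiagBC.repByAlgSpWith_diag_fpFst _ f g h1
  exact (isSurjective_iff_repByAlgSpWith h𝒫 h𝒫𝒫 _ (repByAlgSp1_of_repByAlgSpWith _ _ h2)).2 h2

/-- S12831 -/
theorem isUnivInjective_iff_isSurjective_diag (h𝒳 : AlgSt.IsAlgStack Scheme.fppfPrecoverage 𝒳)
    (h𝒴 : AlgSt.IsAlgStack Scheme.fppfPrecoverage 𝒴) (f : 𝒳 ⥤ᵇ 𝒴) :
    AlgSt.IsUnivInjective Scheme.fppfPrecoverage f ↔ AlgSt.IsSurjective (FibCat.diag f) := by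
  constructor
  · intro h w
    have hinj := h 𝒳 h𝒳 f
    refine ⟨AlgSt.Points.map (FibCat.fpFst f f) w, hinj ?_⟩
    rw [← points_map_comp]
    exact points_map_id _
  · intro hΔ 𝒵 h𝒵 g
    have hpre𝒴 := IsStack.isPrestack _ h𝒴.isStack
    have h𝒫 : AlgSt.IsAlgStack Scheme.fppfPrecoverage (FibCat.fp g f) :=
      isAlgStack_fp_of_isPrestack hpre𝒴 h𝒴.diag h𝒵 h𝒳 g f
    exact points_map_injective_of_isSurjective_diag h𝒫.isStack.1 h𝒵.isStack.1 _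
      (isSurjective_diag_fpFst h𝒳 h𝒴 h𝒵 f g hΔ)

end Groth.Agent.Lib.Helper8UnivInj
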