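import Mathlib
import Groth.Prelude
import Groth.Agent.Lib.Helper8VBLift6
import Groth.Agent.Lib.Helper8UnitsThick11
import Groth.Agent.Lib.R2H2SheafHomExt
set_option backward.isDefEq.respectTransparency.types false

/-!
# Helper8VBLift7: uniqueness of extensions of a finite locally free module over a semismall extension of
local Artinian `k`-algebras when `H¹(X₀, End F₀) = 0` (statement S12279)
-/

set_option autoImplicit false
set_option linter.style.haveILetI false
set_option linter.unusedSectionVars false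
universe u

open CategoryTheory CategoryTheory.Limits AlgebraicGeometry TopologicalSpace Opposite IsLocalRing

noncomputable section

namespace Groth.Agent.Lib.Helper8.VBLift7

open Groth.Agent.Lib.Helper1.PT Groth.Agent.Lib.Helper8.VBLift3 Groth.Agent.Lib.Helper8.VBLift5
  Groth.Agent.Lib.Helper8.VBLift6 Groth.Agent.Lib.Helper8UnitsThick2 Groth.Agent.Lib.Helper8UnitsThick11

theorem main12279 {k : Type u} [Field k] (X₀ : Scheme.{u}) (x : X₀ ⟶ Spec (CommRingCat.of k))
    {C' C : ArtFun.Art k k} (p : C' ⟶ C) (hp : ArtFun.Art.IsSemismallExt p)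
    (X' : ArtFun.DefSch X₀ x C')
    (F : (X'.baseChange p).total.Modules) (hF : FlatMod.IsFinLocFree F)
    [DCoh.HasSheafHom ((Scheme.Modules.pullback (X'.baseChange p).i).obj F)]
    (h1 : Subsingleton (Coh.HH X₀ ((DCoh.sheafHom ((Scheme.Modules.pullback (X'.baseChange p).i).obj F)).obj
        ((Scheme.Modules.pullback (X'.baseChange p).i).obj F)) 1))
    (F' F'' : X'.total.Modules) (hF' : FlatMod.IsFinLocFree F') (hF'' : FlatMod.IsFinLocFree F'')
    (e' : Nonempty ((Scheme.Modules.pullback (pullback.fst X'.f (ArtFun.Art.specMap p))).obj F' ≅ F))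
    (e'' : Nonempty ((Scheme.Modules.pullback (pullback.fst X'.f (ArtFun.Art.specMap p))).obj F'' ≅ F)) :
    Nonempty (F' ≅ F'') := by
  obtain ⟨e'⟩ := e'
  obtain ⟨e''⟩ := e''
  haveI : EnoughInjectives X₀.Modules :=
    Groth.Agent.S0485.result (Opens.grothendieckTopology X₀) X₀.ringCatSheaf
  haveI : HasExt.{u} X₀.Modules := hasExt_of_enoughInjectives.{u} _
  letI : X₀.Over (Spec (CommRingCat.of k)) := ⟨x⟩
  -- the restriction to the closed fibre
  let F₀ := (Scheme.Modules.pullback (X'.baseChange p).i).obj F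
  have hF₀ : FlatMod.IsFinLocFree F₀ :=
    Groth.Agent.Lib.R2H2.PullLF.isFinLocFree_pullback (X'.baseChange p).i F hF
  obtain ⟨eE⟩ := Groth.Agent.Lib.R2H2.SheafHomExt.nonempty_ext_HH (k := k) F₀ hF₀ F₀ 1
  have hExt : Subsingleton (Abelian.Ext.{u} F₀ F₀ 1) := eE.injective.subsingleton
  let fst := pullback.fst X'.f (ArtFun.Art.specMap p)
  have hi : (X'.baseChange p).i ≫ fst = X'.i := ArtFun.DefSch.baseChange_i_fst X' p
  let c' : (plb X'.i).obj F' ≅ F₀ :=
    (plbCompIso (X'.baseChange p).i fst X'.i hi F').symm ≪≫ (plb (X'.baseChange p).i).mapIso e'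
  let c'' : (plb X'.i).obj F'' ≅ F₀ :=
    (plbCompIso (X'.baseChange p).i fst X'.i hi F'').symm ≪≫ (plb (X'.baseChange p).i).mapIso e''
  have hx1 : Subsingleton (Abelian.Ext.{u} ((plb X'.i).obj F') ((plb X'.i).obj F'') 1) :=
    subsingleton_ext_of_iso_left c'.symm 1 (subsingleton_ext_of_iso_right c''.symm 1 hExt)
  have hx2 : Subsingleton (Abelian.Ext.{u} ((plb X'.i).obj F'') ((plb X'.i).obj F') 1) :=
    subsingleton_ext_of_iso_left c''.symm 1 (subsingleton_ext_of_iso_right c'.symm 1 hExt)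
  -- the ring data
  let ρ₀ : C' →+* k := C'.res.toRingHom
  have hρ₀ : Function.Surjective ρ₀ := C'.res_surjective
  have hker₀ : RingHom.ker ρ₀ = maximalIdeal C' := by
    ext a
    rw [RingHom.mem_ker, ArtFun.Art.mem_maximalIdeal_iff]
    rfl
  let σ : C' →+* C := p.toAlgHom.toRingHom
  have hσ : Function.Surjective σ := hp.1
  have hJ : RingHom.ker σ ≤ maximalIdeal C' := by
    intro a ha
    rw [mem_maximalIdeal]
    intro hu
    have h1 : σ a = 0 := ha
    have h2 : IsUnit (σ a) := hu.map σ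
    rw [h1] at h2
    exact not_isUnit_zero h2
  -- the isomorphism modulo `J`
  obtain ⟨ε, hε, hc⟩ := exists_iso_of_isPullback_surjective X'.f σ fst
    (pullback.snd X'.f (ArtFun.Art.specMap p)) (IsPullback.of_hasPullback _ _) hσ
  haveI := hε
  obtain ⟨φ⟩ := nonempty_iso_of_comp_iso ε (bc X'.f (Ideal.Quotient.mk (RingHom.ker σ))) fst hc
    F' F'' (e' ≪≫ e''.symm)
  exact main X'.f ρ₀ hρ₀ hker₀ X'.i x X'.isPullback F' F'' hF' hF'' hx1 hx2 (RingHom.ker σ) hJ φ

end Groth.Agent.Lib.Helper8.VBLift7
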