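-- helper8: lifting valuation rings along flat morphisms of algebraic stacks (S13035)
import Mathlib
import Groth.Agent.Lib.Helper15GoodComp
import Groth.Agent.Lib.Helper8LocQFlat
import Groth.Agent.Lib.Helper8FppfLift

set_option autoImplicit false
set_option backward.isDefEq.respectTransparency false
set_option backward.isDefEq.respectTransparency.types false
open CategoryTheory CategoryTheory.Functor CategoryTheory.Limits Opposite AlgebraicGeometry

universe u

namespace Groth.Agent.Lib.Helper8ValLift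

open Groth.Agent.Lib.Helper17 Groth.Agent.Lib.Helper15PshFib Groth.Agent.Lib.Helper15RepComp
  Groth.Agent.Lib.Helper15RepPsh Groth.Agent.Lib.Helper15DiagBase Groth.Agent.Lib.Helper15DiagRepSp
  Groth.Agent.Lib.Helper15Descent Groth.Agent.Lib.Helper15DiagLft
  Groth.Agent.Lib.Helper15DiagDescent Groth.Agent.Lib.Helper15SpMapRep
  Groth.Agent.Lib.Helper15SrcCancel Groth.Agent.Lib.Helper15ChartSp Groth.Agent.Lib.Helper15Atlas
  Groth.Agent.Lib.Helper15LocEss Groth.Agent.Lib.Helper15UnivComp Groth.Agent.Lib.Helper15SmLoc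
  Groth.Agent.Lib.Helper15PtsComp Groth.Agent.Lib.Helper15PtsTop Groth.Agent.Lib.Helper15PtsQc
  Groth.Agent.Lib.Helper15FpSwap Groth.Agent.Lib.Helper15QcLocal Groth.Agent.Lib.Helper15ClosedQc
  Groth.Agent.Lib.Helper15UnivPts Groth.Agent.Lib.Helper15BaseChange
  Groth.Agent.Lib.Helper15MonoSep Groth.Agent.Lib.Helper15LocQ Groth.Agent.Lib.Helper15LocQEngine
  Groth.Agent.Lib.Helper15LocQProps Groth.Agent.Lib.Helper15LocQSpace
  Groth.Agent.Lib.Helper15LocQSpace2 Groth.Agent.Lib.Helper15LocQRep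
  Groth.Agent.Lib.Helper15LocQComp Groth.Agent.Lib.Helper15GoodComp
  Groth.Agent.Lib.Helper8DiagCancel

open Groth.Agent.Lib.Helper8LocQBase Groth.Agent.Lib.Helper8LocQFppf
  Groth.Agent.Lib.Helper8LocQFlat Groth.Agent.Lib.Helper8FppfLift

section Alg

/-- A flat algebra over a valuation ring with a prime over the maximal ideal maps to a valuation
ring that is an injective local extension of the given one. -/
theorem exists_valuationRing_of_flat {A B : Type u} [CommRing A] [IsDomain A] [ValuationRing A]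
    [CommRing B] (ψ : A →+* B) (hψ : ψ.Flat) (P : Ideal B) [P.IsPrime]
    (hP : P.comap ψ = IsLocalRing.maximalIdeal A) :
    ∃ (A' : Type u) (_ : CommRing A') (_ : IsDomain A') (_ : ValuationRing A') (χ : B →+* A'),
      Function.Injective (χ.comp ψ) ∧ IsLocalHom (χ.comp ψ) := by
  algebraize [ψ]
  have hPover : P.LiesOver (IsLocalRing.maximalIdeal A) := ⟨hP.symm⟩
  obtain ⟨Q, hQP, hQprime, hQover⟩ := Ideal.exists_ideal_le_liesOver_of_le (p := (⊥ : Ideal A))
    (q := IsLocalRing.maximalIdeal A) P bot_le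
  let K' := FractionRing (B ⧸ Q)
  let R := Localization.AtPrime P
  let f0 : B →+* K' := (algebraMap (B ⧸ Q) K').comp (Ideal.Quotient.mk Q)
  have hf0 : ∀ y : P.primeCompl, IsUnit (f0 y) := fun y => by
    have h1 : Ideal.Quotient.mk Q y.1 ≠ 0 := fun h => y.2 (hQP (Ideal.Quotient.eq_zero_iff_mem.1 h))
    exact IsUnit.mk0 _ ((map_ne_zero_iff _ (IsFractionRing.injective (B ⧸ Q) K')).2 h1)
  let f : R →+* K' := IsLocalization.lift hf0
  obtain ⟨A'', hA'', hloc⟩ := IsLocalRing.exists_factor_valuationRing f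
  refine ⟨A'', inferInstance, inferInstance, inferInstance,
    (f.codRestrict A''.toSubring hA'').comp (algebraMap B R), ?_, ?_⟩
  · rw [injective_iff_map_eq_zero]
    intro a ha
    have h1 : f (algebraMap B R (ψ a)) = 0 := congrArg Subtype.val ha
    rw [IsLocalization.lift_eq] at h1
    have h2 : Ideal.Quotient.mk Q (ψ a) = 0 :=
      (map_eq_zero_iff _ (IsFractionRing.injective (B ⧸ Q) K')).1 h1
    have h3' : ψ a ∈ Q := Ideal.Quotient.eq_zero_iff_mem.1 h2
    have h3 : a ∈ Q.under A := h3'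
    rw [← hQover.over] at h3
    exact h3
  · refine ⟨fun a ha => ?_⟩
    have h1 : IsUnit (algebraMap B R (ψ a)) := hloc.map_nonunit _ ha
    have h2 : ψ a ∈ P.primeCompl := (IsLocalization.AtPrime.isUnit_to_map_iff R P (ψ a)).1 h1
    by_contra hna
    have h3 : a ∈ IsLocalRing.maximalIdeal A := (IsLocalRing.mem_maximalIdeal a).2 hna
    rw [← hP] at h3
    exact h2 h3

end Alg

section Sch

/-- A flat morphism to the spectrum of a valuation ring whose image contains the closed point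
receives a morphism from the spectrum of an injective local extension that is a valuation ring. -/
theorem exists_valuationRing_lift_of_flat (A : Type u) [CommRing A] [IsDomain A] [ValuationRing A]
    {V : Scheme.{u}} (g : V ⟶ Spec (CommRingCat.of A)) [Flat g] (v : V)
    (hv : g v = IsLocalRing.closedPoint A) :
    ∃ (A' : Type u) (_ : CommRing A') (_ : IsDomain A') (_ : ValuationRing A') (φ : A →+* A')
      (h : Spec (CommRingCat.of A') ⟶ V),
      Function.Injective φ ∧ IsLocalHom φ ∧ h ≫ g = Spec.map (CommRingCat.ofHom φ) := by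
  let i := V.affineOpenCover.idx v
  let B : CommRingCat.{u} := V.affineOpenCover.X i
  let ι : Spec B ⟶ V := V.affineOpenCover.f i
  obtain ⟨p, hp⟩ := V.affineOpenCover.covers v
  let ψ' : CommRingCat.of A ⟶ B := Spec.preimage (ι ≫ g)
  have hψ' : Spec.map ψ' = ι ≫ g := Spec.map_preimage _
  have hfl : Flat (Spec.map ψ') := by rw [hψ']; infer_instance
  have hψfl : ψ'.hom.Flat := (HasRingHomProperty.Spec_iff (P := @Flat)).1 hfl
  have hP : p.asIdeal.comap ψ'.hom = IsLocalRing.maximalIdeal A := by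
    have h1 : (Spec.map ψ') p = IsLocalRing.closedPoint A := by
      rw [hψ', Scheme.Hom.comp_apply, hp, hv]
    exact congrArg PrimeSpectrum.asIdeal h1
  obtain ⟨A', i1, i2, i3, χ, hinj, hloc⟩ := exists_valuationRing_of_flat ψ'.hom hψfl p.asIdeal hP
  refine ⟨A', i1, i2, i3, χ.comp ψ'.hom, Spec.map (CommRingCat.ofHom χ) ≫ ι, hinj, hloc, ?_⟩
  rw [Category.assoc, ← hψ', ← Spec.map_comp]
  rfl

end Sch

section Main

variable {S : Scheme.{u}} {𝒳 𝒳' : AlgSt.Cat S}

/-- A flat scheme chart of `U ×_𝒳 𝒳'`, with the points of `U` in the image of `𝒳'` in its image. -/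
theorem exists_lift_chart_flat (h𝒳 : AlgSt.IsAlgStack Scheme.fppfPrecoverage 𝒳)
    (h𝒳' : AlgSt.IsAlgStack Scheme.fppfPrecoverage 𝒳') (f : 𝒳' ⥤ᵇ 𝒳)
    (hf₁ : AlgSt.LocQ (AlgSp.LocP @Flat) f)
    (U : Over S) (x : FibCat.overCat U ⥤ᵇ 𝒳) :
    ∃ (V : Over S) (g : V ⟶ U) (x' : FibCat.overCat V ⥤ᵇ 𝒳'),
      Nonempty (BasedFunctor.comp x' f ≅ BasedFunctor.comp (AlgSt.overMap g) x) ∧
      Flat g.left ∧
      ∀ u : ↥U.left, AlgSt.Points.map x (ptOver U u) ∈ Set.range (AlgSt.Points.map f) →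
        u ∈ Set.range g.left := by
  have hpre𝒳 := IsStack.isPrestack _ h𝒳.isStack
  have hU := isAlgStack_overCat U
  have hUf : FibCat.IsFibGrpd (FibCat.overCat U).p := (isFibSet_overForget U).1
  have h𝒫 : AlgSt.IsAlgStack Scheme.fppfPrecoverage (FibCat.fp x f) :=
    isAlgStack_fp_of_isPrestack hpre𝒳 h𝒳.diag hU h𝒳' x f
  obtain ⟨V, a, ha₁, ha₂⟩ := h𝒫.atlas
  have hV := isAlgStack_overCat V
  obtain ⟨g, ⟨lam⟩⟩ := exists_iso_overMap (BasedFunctor.comp a (FibCat.fpFst x f))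
  refine ⟨V, g, BasedFunctor.comp a (FibCat.fpSnd x f), ⟨?_⟩, ?_, ?_⟩
  · exact (whiskerLeftIso a (FibCat.fpIso x f).symm :
      BasedFunctor.comp (BasedFunctor.comp a (FibCat.fpSnd x f)) f ≅
        BasedFunctor.comp (BasedFunctor.comp a (FibCat.fpFst x f)) x) ≪≫ whiskerRightIso lam x
  · have h1 : AlgSt.LocQ (AlgSp.LocP @Flat) (FibCat.fpFst x f) :=
      locQ_fpFst _ isSmoothLocalST_flat bcStable_flat h𝒳' h𝒳 hU f x hf₁
    have h2 : AlgSt.LocQ (AlgSp.LocP @Flat) a :=
      locQ_of_repByAlgSpWith _ isSmoothLocalST_flat hV h𝒫 a (flat_of_smooth ha₁)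
    have h3 := locQ_comp _ isSmoothLocalST_flat
      (fun _ _ _ _ hY hZ a b ha hb => locP_flat_comp hY hZ a b ha hb) hV h𝒫 hU a _ h2 h1
    exact flat_left_of_locQ_overMap g (locQ_of_iso _ lam h3)
  · rintro u ⟨p, hp⟩
    obtain ⟨w, hw₁, -⟩ := points_fp_surjective h𝒳'.isStack.1 h𝒳.isStack.1 hUf f x (ptOver U u) p
      hp.symm
    have has : AlgSt.IsSurjective a :=
      (isSurjective_iff_repByAlgSpWith hV h𝒫 a (repByAlgSp1_of_repByAlgSpWith _ a ha₁)).2 ha₂
    obtain ⟨v', rfl⟩ := has w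
    obtain ⟨v, rfl⟩ := (ptOver_bijective V).2 v'
    refine ⟨v, (ptOver_bijective U).1 ?_⟩
    rw [← ptOver_map, ← hw₁,
      ← points_map_congr _ _ ((BasedNatTrans.forgetful _ _).mapIso lam) (ptOver V v)]
    exact points_map_comp a (FibCat.fpFst x f) (ptOver V v)

/-- S13035: valuation rings lift along flat morphisms, after an extension. -/
theorem exists_valuationRing_lift_of_locQ_flat {𝒴 : AlgSt.Cat S}
    (h𝒳 : AlgSt.IsAlgStack Scheme.fppfPrecoverage 𝒳)
    (h𝒴 : AlgSt.IsAlgStack Scheme.fppfPrecoverage 𝒴)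
    (f : 𝒳 ⥤ᵇ 𝒴)
    (hf : AlgSt.LocQ (AlgSp.LocP @Flat) f)
    (A : Type u) [CommRing A] [IsDomain A] [ValuationRing A] (sA : Spec (CommRingCat.of A) ⟶ S)
    (a : FibCat.overCat (Over.mk sA) ⥤ᵇ 𝒴)
    (ha : AlgSt.Points.ofChart a (IsLocalRing.closedPoint A) ∈ Set.range (AlgSt.Points.map f)) :
    ∃ (A' : Type u) (_ : CommRing A') (_ : IsDomain A') (_ : ValuationRing A') (φ : A →+* A'),
      Function.Injective φ ∧ IsLocalHom φ ∧
      ∃ x : FibCat.overCat (Over.mk (Spec.map (CommRingCat.ofHom φ) ≫ sA)) ⥤ᵇ 𝒳,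
        Nonempty (BasedFunctor.comp x f ≅
          BasedFunctor.comp (AlgSt.overMap (Over.homMk (Spec.map (CommRingCat.ofHom φ)) rfl :
            Over.mk (Spec.map (CommRingCat.ofHom φ) ≫ sA) ⟶ Over.mk sA)) a) := by
  obtain ⟨V, g, x', ⟨α⟩, hfl, hsurj⟩ := exists_lift_chart_flat h𝒴 h𝒳 f hf (Over.mk sA) a
  have ha' : AlgSt.Points.map a (ptOver (Over.mk sA) (IsLocalRing.closedPoint A)) ∈
      Set.range (AlgSt.Points.map f) := by
    rw [← ofChart_eq_map_ptOver]
    exact ha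
  obtain ⟨v, hv⟩ := hsurj (IsLocalRing.closedPoint A) ha'
  have : Flat g.left := hfl
  obtain ⟨A', i1, i2, i3, φ, h, hinj, hloc, hh⟩ :=
    exists_valuationRing_lift_of_flat A (V := V.left) g.left v hv
  refine ⟨A', i1, i2, i3, φ, hinj, hloc, ?_⟩
  have hw : h ≫ V.hom = Spec.map (CommRingCat.ofHom φ) ≫ sA := by
    have := Over.w g
    rw [← this, ← Category.assoc, hh]
    rfl
  let h' : Over.mk (Spec.map (CommRingCat.ofHom φ) ≫ sA) ⟶ V := Over.homMk h hw
  have hcomp : h' ≫ g = (Over.homMk (Spec.map (CommRingCat.ofHom φ)) rfl :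
      Over.mk (Spec.map (CommRingCat.ofHom φ) ≫ sA) ⟶ Over.mk sA) := by
    ext
    exact hh
  refine ⟨BasedFunctor.comp (AlgSt.overMap h') x', ⟨?_⟩⟩
  rw [← hcomp]
  exact (whiskerLeftIso (AlgSt.overMap h') α : BasedFunctor.comp (BasedFunctor.comp
      (AlgSt.overMap h') x') f ≅ BasedFunctor.comp (BasedFunctor.comp (AlgSt.overMap h')
        (AlgSt.overMap g)) a) ≪≫ whiskerRightIso (overMapCompIso h' g) a

end Main

end Groth.Agent.Lib.Helper8ValLift
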