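-- helper8: well-nigh affine stacks are quasi-compact, quasi-DM and separated over the base (S16697)
import Mathlib
import Groth.Agent.Lib.Helper15GoodComp
import Groth.Agent.Lib.Helper8DiagCancel
import Groth.Agent.Lib.Helper8SepCancel
import Groth.Agent.Lib.Helper8QcOverBase
import Groth.Agent.Lib.Helper15ChartSp
import Groth.Agent.S10267
import Groth.Agent.S10271
import Groth.Agent.S9948
import Groth.Agent.S10536
import Groth.Prelude.Def_W4stkstmodspWNA

set_option autoImplicit false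
set_option backward.isDefEq.respectTransparency false
set_option backward.isDefEq.respectTransparency.types false
open CategoryTheory CategoryTheory.Functor CategoryTheory.Limits Opposite AlgebraicGeometry

universe u

namespace Groth.Agent.Lib.Helper8WNA2

open Groth.Agent.Lib.Helper17 Groth.Agent.Lib.Helper15PshFib Groth.Agent.Lib.Helper15RepComp
  Groth.Agent.Lib.Helper15RepPsh Groth.Agent.Lib.Helper15DiagBase Groth.Agent.Lib.Helper15DiagRepSp
  Groth.Agent.Lib.Helper15Descent Groth.Agent.Lib.Helper15DiagLft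
  Groth.Agent.Lib.Helper15DiagDescent Groth.Agent.Lib.Helper15SpMapRep
  Groth.Agent.Lib.Helper15SrcCancel Groth.Agent.Lib.Helper15ChartSp Groth.Agent.Lib.Helper15Atlas
  Groth.Agent.Lib.Helper15LocEss Groth.Agent.Lib.Helper15UnivComp Groth.Agent.Lib.Helper15SmLoc
  Groth.Agent.Lib.Helper15PtsComp Groth.Agent.Lib.Helper15PtsTop Groth.Agent.Lib.Helper15PtsQc
  Groth.Agent.Lib.Helper15FpSwap Groth.Agent.Lib.Helper15QcLocal Groth.Agent.Lib.Helper15ClosedQc
  Groth.Agent.Lib.Helper15UnivPts Groth.Agent.Lib.Helper15BaseChange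
  Groth.Agent.Lib.Helper15MonoSep Groth.Agent.Lib.Helper15LocQ Groth.Agent.Lib.Helper15LocQEngine
  Groth.Agent.Lib.Helper15LocQProps Groth.Agent.Lib.Helper15LocQSpace
  Groth.Agent.Lib.Helper15LocQSpace2 Groth.Agent.Lib.Helper15LocQRep
  Groth.Agent.Lib.Helper15LocQComp Groth.Agent.Lib.Helper15GoodComp
  Groth.Agent.Lib.Helper8DiagCancel Groth.Agent.Lib.Helper8SepCancel

variable {S : Scheme.{u}} {𝒳 𝒴 : AlgSt.Cat S}

/-- Monotonicity of `RepByAlgSpWith` for implications between properties that hold for morphisms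
from algebraic spaces to schemes. -/
theorem repByAlgSpWith_mono' {P P' : MorphismProperty (AlgSp.Sp S)}
    (h : ∀ (F : AlgSp.Space S) (T : Over S) (a : F.obj ⟶ (AlgSp.yon S).obj T), P a → P' a)
    (g : 𝒳 ⥤ᵇ 𝒴) (hg : AlgSt.RepByAlgSpWith P g) : AlgSt.RepByAlgSpWith P' g := by
  intro U y
  obtain ⟨F, e, he, hP⟩ := hg U y
  exact ⟨F, e, he, h F U _ hP⟩

theorem lqf_of_isFiniteMor (F : AlgSp.Space S) (T : Over S) (a : F.obj ⟶ (AlgSp.yon S).obj T)
    (ha : AlgSp.IsFiniteMor a) : AlgSp.LocP (@LocallyQuasiFinite ⊓ @LocallyOfFiniteType) a := by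
  let TT : AlgSp.Space S := ⟨(AlgSp.yon S).obj T, AlgSp.IsAlgSpace.yon_obj T⟩
  let f : F ⟶ TT := ObjectProperty.homMk a
  have h1 : AlgSp.RepWith @IsFinite f.hom := (Groth.Agent.S10267.result f).2.1 ha
  have h2 : AlgSp.RepWith (@LocallyQuasiFinite ⊓ @LocallyOfFiniteType) f.hom :=
    ⟨h1.1, fun _ _ g fst snd sq => by
      have : IsFinite snd.left := h1.2 g fst snd sq
      exact ⟨(inferInstance : LocallyQuasiFinite snd.left),
        (inferInstance : LocallyOfFiniteType snd.left)⟩⟩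
  exact (Groth.Agent.S9948.result (@LocallyQuasiFinite ⊓ @LocallyOfFiniteType)
    (Or.inr (Or.inr (Or.inr (Or.inr (Or.inr (Or.inl (fun A B g => Iff.rfl))))))) f h1.1).2 h2

theorem isProperMor_of_isFiniteMor (F : AlgSp.Space S) (T : Over S)
    (a : F.obj ⟶ (AlgSp.yon S).obj T) (ha : AlgSp.IsFiniteMor a) : AlgSp.IsProperMor a := by
  let TT : AlgSp.Space S := ⟨(AlgSp.yon S).obj T, AlgSp.IsAlgSpace.yon_obj T⟩
  let f : F ⟶ TT := ObjectProperty.homMk a
  exact ((Groth.Agent.S10271.result f).1 ha).2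

/-- Part 1: quasi-compactness. -/
theorem isQuasiCompact_of_surjective_affine_chart (h𝒳 : AlgSt.IsAlgStack Scheme.fppfPrecoverage 𝒳)
    {U : Over S} (hU : IsAffine U.left) (x : FibCat.overCat U ⥤ᵇ 𝒳)
    (hx : AlgSt.RepByAlgSpWith AlgSp.IsSurjectiveMor x) : AlgSt.IsQuasiCompact 𝒳 := by
  rw [isQuasiCompact_iff_compactSpace h𝒳]
  have hUst := isAlgStack_overCat U
  have hxs : AlgSt.IsSurjective x :=
    (isSurjective_iff_repByAlgSpWith hUst h𝒳 x (repByAlgSp1_of_repByAlgSpWith _ x hx)).2 hx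
  have hc : Continuous (AlgSt.Points.ofChart x) := continuous_ofChart h𝒳 x
  have hr : Set.range (AlgSt.Points.ofChart x) = Set.univ := by
    rw [Set.eq_univ_iff_forall]
    intro p
    obtain ⟨q, rfl⟩ := hxs p
    obtain ⟨t, rfl⟩ := (ptOver_bijective U).2 q
    exact ⟨t, ofChart_eq_map_ptOver x t⟩
  have : CompactSpace ↥U.left := inferInstance
  exact ⟨hr ▸ isCompact_range hc⟩

/-- Precomposing a scheme chart with the equivalence from the category of the sheaf `h_U`. -/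
theorem repByAlgSpWith_toOverCat_comp (P : MorphismProperty (AlgSp.Sp S)) {U : Over S}
    (x : FibCat.overCat U ⥤ᵇ 𝒳) (hx : AlgSt.RepByAlgSpWith P x) :
    AlgSt.RepByAlgSpWith P (BasedFunctor.comp (AlgSt.toOverCat U) x) :=
  (repByAlgSpWith_of_square P x (BasedFunctor.comp (AlgSt.toOverCat U) x) (AlgSt.toOverCat U)
    (BasedFunctor.id _) (isEquivOver_toOverCat U) (isEquivOver_id _) (Iso.refl _)).1 hx

/-- Part 2: quasi-DM over the base. -/
theorem isQuasiDMOver_of_finite_fppf_chart (h𝒳 : AlgSt.IsAlgStack Scheme.fppfPrecoverage 𝒳)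
    {U : Over S} (x : FibCat.overCat U ⥤ᵇ 𝒳)
    (hx₁ : AlgSt.RepByAlgSpWith AlgSp.IsSurjectiveMor x)
    (hx₂ : AlgSt.RepByAlgSpWith (AlgSp.LocP @Flat) x)
    (hx₃ : AlgSt.RepByAlgSpWith AlgSp.IsFiniteMor x)
    (hx₄ : AlgSt.RepByAlgSpWith (AlgSp.LocP @LocallyOfFinitePresentation) x) :
    AlgSt.IsQuasiDMOver 𝒳 := by
  let W : AlgSp.Space S := ⟨(AlgSp.yon S).obj U, AlgSp.IsAlgSpace.yon_obj U⟩
  exact isQuasiDMOver_of_lqf_cover h𝒳.diag W (BasedFunctor.comp (AlgSt.toOverCat U) x)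
    (repByAlgSpWith_toOverCat_comp _ x hx₂) (repByAlgSpWith_toOverCat_comp _ x hx₄)
    (repByAlgSpWith_toOverCat_comp _ x hx₁)
    (repByAlgSpWith_toOverCat_comp _ x (repByAlgSpWith_mono' lqf_of_isFiniteMor x hx₃))

/-- The chart criterion for properties of the diagonal, with a cancellation that needs an
auxiliary property of the second projection. -/
theorem repByAlgSpWith_diag_of_chart_sep (Q Q' : MorphismProperty (AlgSp.Sp S)) (hQb : BCStable Q)
    (hQloc : AlgSp.IsLocalOnBase AlgSp.IsFppfCover Q)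
    (hcancel : ∀ ⦃X Y Z : AlgSp.Sp S⦄, AlgSp.IsAlgSpace X → AlgSp.IsAlgSpace Y →
      AlgSp.IsAlgSpace Z → ∀ (a : X ⟶ Y) (b : Y ⟶ Z), Q' b → Q (a ≫ b) → Q a)
    (hX : AlgSt.RepByAlgSp1 (FibCat.diag (FibCat.toSelf 𝒳)))
    (hY : AlgSt.RepByAlgSp1 (FibCat.diag (FibCat.toSelf 𝒴)))
    {U : Over S} (u : FibCat.overCat U ⥤ᵇ 𝒳)
    (hu : ∀ (T : Over S) (y : FibCat.overCat T ⥤ᵇ 𝒳), LocLift u T y)
    (huQ : AlgSt.RepByAlgSpWith Q u) (f : 𝒳 ⥤ᵇ 𝒴)
    (hsep : AlgSt.RepByAlgSpWith Q'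
      (FibCat.fpFst (BasedFunctor.comp u f) (BasedFunctor.comp u f))) :
    AlgSt.RepByAlgSpWith Q (FibCat.diag f) := by
  have hΔ : AlgSt.RepByAlgSp1 (FibCat.diag f) := repByAlgSp1_diag_of_diag f hX hY
  have h1 : AlgSt.RepByAlgSpWith Q (FibCat.fpFst u u) := repByAlgSpWith_fpFst Q u u huQ
  have h2 : AlgSt.RepByAlgSpWith Q (toRel u u f) :=
    repByAlgSpWith_cancel₂ Q Q' hQb hcancel (toRel u u f)
      (FibCat.fpFst (BasedFunctor.comp u f) (BasedFunctor.comp u f)) hsep h1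
  have h3 : AlgSt.RepByAlgSpWith Q (FibCat.fpFst (relProd u u f) (FibCat.diag f)) :=
    (repByAlgSpWith_of_square Q (FibCat.fpFst (relProd u u f) (FibCat.diag f)) (toRel u u f)
      (magicRel u u f) (BasedFunctor.id _) (isEquivOver_magicRel u u f) (isEquivOver_id _)
      (Iso.refl _)).2 h2
  exact repByAlgSpWith_of_fpFst_of_locLift Q hQloc (FibCat.diag f) hΔ (relProd u u f)
    (fun T w => locLift_relProd' u hu f w) h3

/-- The structure functor of a slice is representable with `P` as soon as the projections of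
products with the object have `P`. -/
theorem repByAlgSpWith_toSelf_overCat (P : MorphismProperty (AlgSp.Sp S)) (U : Over S)
    (h : ∀ T : Over S, P ((AlgSp.yon S).map (prod.fst : T ⨯ U ⟶ T))) :
    AlgSt.RepByAlgSpWith P (FibCat.toSelf (FibCat.overCat U)) := by
  intro T y
  let G : AlgSp.Space S := ⟨(AlgSp.yon S).obj (T ⨯ U), AlgSp.IsAlgSpace.yon_obj _⟩
  have := IsEquivOver.isEquivalence (BasedFunctor.id (FibCat.selfOver (Over S))) (isEquivOver_id _)
  let M : prodSlice T U ⥤ᵇ FibCat.fp y (FibCat.toSelf (FibCat.overCat U)) :=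
    fpMap y (FibCat.toSelf (FibCat.overCat U)) (FibCat.toSelf (FibCat.overCat T))
      (FibCat.toSelf (FibCat.overCat U)) (BasedFunctor.id _) (BasedFunctor.id _)
      (BasedFunctor.id _) (selfOverIso _ _) (selfOverIso _ _)
  have hM : FibCat.IsEquivOver M := isEquivOver_fpMap _ _ _ _ _ _ _ _ _
    (isEquivOver_id _) (isEquivOver_id _)
  let e : AlgSt.ofSp G.obj ⥤ᵇ FibCat.fp y (FibCat.toSelf (FibCat.overCat U)) :=
    BasedFunctor.comp (AlgSt.toOverCat (T ⨯ U)) (BasedFunctor.comp (toProdSlice T U) M)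
  refine ⟨G, e, IsEquivOver.comp _ _ (isEquivOver_toOverCat _)
    (IsEquivOver.comp _ _ (isEquivOver_toProdSlice T U) hM), ?_⟩
  have h2 : AlgSt.spMapOfOver (BasedFunctor.comp e (FibCat.fpFst y _)) =
      (AlgSp.yon S).map (prod.fst : T ⨯ U ⟶ T) := by
    have h3 := spMapOfOver_eq_of_iso (BasedFunctor.comp e (FibCat.fpFst y _))
      (BasedFunctor.comp (AlgSt.toOverCat (T ⨯ U)) (AlgSt.overMap (prod.fst : T ⨯ U ⟶ T)))
      (Iso.refl _)
    rw [h3, spMapOfOver_comp_overMap, Groth.Agent.Lib.Helper15EquivRep.spMapOfOver_toOverCat,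
      Category.id_comp]
  rw [h2]
  exact h T

theorem isSeparatedMor_yon_map_prod_fst (T U : Over S) [IsSeparated U.hom] :
    AlgSp.IsSeparatedMor ((AlgSp.yon S).map (prod.fst : T ⨯ U ⟶ T)) := by
  rw [AlgSp.isSeparatedMor_yon_map_iff]
  have h1 : (prod.fst : T ⨯ U ⟶ T).left =
      (Over.prodLeftIsoPullback T U).hom ≫ pullback.fst T.hom U.hom :=
    (Over.prodLeftIsoPullback_hom_fst T U).symm
  rw [h1]
  infer_instance

/-- Part 3: separatedness over the base. -/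
theorem isSeparatedOver_of_finite_fppf_chart (h𝒳 : AlgSt.IsAlgStack Scheme.fppfPrecoverage 𝒳)
    {U : Over S} [IsSeparated U.hom] (x : FibCat.overCat U ⥤ᵇ 𝒳)
    (hx₁ : AlgSt.RepByAlgSpWith AlgSp.IsSurjectiveMor x)
    (hx₂ : AlgSt.RepByAlgSpWith (AlgSp.LocP @Flat) x)
    (hx₃ : AlgSt.RepByAlgSpWith AlgSp.IsFiniteMor x)
    (hx₄ : AlgSt.RepByAlgSpWith (AlgSp.LocP @LocallyOfFinitePresentation) x) :
    AlgSt.IsSeparatedOver 𝒳 := by
  have hsepU : AlgSt.RepByAlgSpWith AlgSp.IsSeparatedMor (FibCat.toSelf (FibCat.overCat U)) :=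
    repByAlgSpWith_toSelf_overCat _ U (fun T => isSeparatedMor_yon_map_prod_fst T U)
  have hsep : AlgSt.RepByAlgSpWith AlgSp.IsSeparatedMor
      (FibCat.fpFst (BasedFunctor.comp x (FibCat.toSelf 𝒳))
        (BasedFunctor.comp x (FibCat.toSelf 𝒳))) := by
    rw [Groth.Agent.Lib.Helper15QsComp.comp_toSelf]
    exact repByAlgSpWith_fpFst _ _ _ hsepU
  refine repByAlgSpWith_diag_of_chart_sep AlgSp.IsProperMor AlgSp.IsSeparatedMor
    bcStable_isProperMor (isLocalOnBase_fppf_of_fpqc _ (Groth.Agent.S10536.result S)) ?_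
    h𝒳.diag repByAlgSp1_diag_selfOver x
    (fun T y => locLift_of_hasSchemeCovers x (hasSchemeCovers_of_cover x hx₂ hx₄ hx₁) y)
    (repByAlgSpWith_mono' isProperMor_of_isFiniteMor x hx₃) (FibCat.toSelf 𝒳) hsep
  intro X Y Z hX hY hZ a b hb hab
  exact (Groth.Agent.S10278.result (X := ⟨X, hX⟩) (Y := ⟨Y, hY⟩) (B := ⟨Z, hZ⟩)
    (ObjectProperty.homMk a) (ObjectProperty.homMk (a ≫ b)) (ObjectProperty.homMk b) rfl hb).2 hab

/-- S16697 -/
theorem wellNighAffine_props (h𝒳 : AlgSt.IsAlgStack Scheme.fppfPrecoverage 𝒳)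
    (hw : AlgSt.IsWellNighAffine 𝒳) :
    AlgSt.IsQuasiCompact 𝒳 ∧ AlgSt.IsQuasiDMOver 𝒳 ∧ AlgSt.IsSeparatedOver 𝒳 := by
  obtain ⟨U, x, hU, hx⟩ := hw
  have hx₁ : AlgSt.RepByAlgSpWith AlgSp.IsSurjectiveMor x :=
    repByAlgSpWith_mono (fun _ _ _ h => h.1.1.1) x hx
  have hx₂ : AlgSt.RepByAlgSpWith (AlgSp.LocP @Flat) x :=
    repByAlgSpWith_mono (fun _ _ _ h => h.1.1.2) x hx
  have hx₃ : AlgSt.RepByAlgSpWith AlgSp.IsFiniteMor x :=
    repByAlgSpWith_mono (fun _ _ _ h => h.1.2) x hx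
  have hx₄ : AlgSt.RepByAlgSpWith (AlgSp.LocP @LocallyOfFinitePresentation) x :=
    repByAlgSpWith_mono (fun _ _ _ h => h.2) x hx
  have : IsAffine U.left := hU
  exact ⟨isQuasiCompact_of_surjective_affine_chart h𝒳 hU x hx₁,
    isQuasiDMOver_of_finite_fppf_chart h𝒳 x hx₁ hx₂ hx₃ hx₄,
    isSeparatedOver_of_finite_fppf_chart h𝒳 x hx₁ hx₂ hx₃ hx₄⟩

end Groth.Agent.Lib.Helper8WNA2
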