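import Mathlib
import Groth.Prelude
import Groth.Agent.S8861

set_option autoImplicit false
universe u
open CategoryTheory CategoryTheory.Limits AlgebraicGeometry TopologicalSpace
open nonZeroDivisors

namespace Groth.Agent.Lib.Helper8WeakAssCartier

/-- pullback of an effective Cartier ideal along `f` is effective Cartier as soon as every zero
divisor relation `y * β = 0`, `y ≠ 0` on an affine open of the source is witnessed by a point
outside `D(β)` which is not mapped into the divisor. -/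
theorem isEffCartierIdeal_comap_of_exists {X Y : Scheme.{u}} (f : X ⟶ Y) (𝓘 : Y.IdealSheafData)
    (hD : BlowUp.IsEffCartierIdeal 𝓘)
    (h : ∀ (U : X.Opens) (_ : IsAffineOpen U) (β y : Γ(X, U)), y * β = 0 → y ≠ 0 →
      ∃ ξ : X, ξ ∈ U ∧ ξ ∉ X.basicOpen β ∧ f ξ ∉ 𝓘.support) :
    BlowUp.IsEffCartierIdeal (𝓘.comap f) := by
  intro x
  obtain ⟨V, hfxV, a, ha, hVI⟩ := hD (f x)
  obtain ⟨U, hU, hxU, hUV⟩ := exists_isAffineOpen_mem_and_subset (x := x) (U := f ⁻¹ᵁ V.1) hfxV
  have key := Groth.Agent.Lib.Helper20.EffCartier.ideal_comap_eq_map f 𝓘 hU V.2 hUV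
  have hVI' : 𝓘.ideal ⟨V.1, V.2⟩ = Ideal.span {a} := hVI
  rw [hVI', Ideal.map_span, Set.image_singleton] at key
  refine ⟨⟨U, hU⟩, hxU, _, ?_, key⟩
  rw [mem_nonZeroDivisors_iff_right]
  intro y hy
  by_contra hy0
  obtain ⟨ξ, hξU, hξβ, hξ⟩ := h U hU _ y hy hy0
  exact hξβ (Groth.Agent.S8861.mem_basicOpen_of_notMem_support f 𝓘 V a hVI hUV ξ hξU hξ)

end Groth.Agent.Lib.Helper8WeakAssCartier
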