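import Mathlib
import Groth.Prelude

/-!
# helper8: naturality of `AlgSp.primeAtPt` and injectivity on affine schemes
-/

set_option autoImplicit false
universe u
open CategoryTheory CategoryTheory.Limits AlgebraicGeometry Topology TopologicalSpace

namespace Groth.Agent.Lib.Helper8WeakAssPush

/-- `primeAtPt` is natural: the prime of `g w` is the preimage of the prime of `w` under global sections. -/
theorem primeAtPt_map {U W : Scheme.{u}} (g : W ⟶ U) (w : W) :
    AlgSp.primeAtPt U (g w) = Ideal.comap g.appTop.hom (AlgSp.primeAtPt W w) := by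
  unfold AlgSp.primeAtPt
  have h1 : Ideal.comap (g.stalkMap w).hom (IsLocalRing.maximalIdeal (W.presheaf.stalk w)) =
      IsLocalRing.maximalIdeal (U.presheaf.stalk (g w)) :=
    IsLocalRing.maximalIdeal_comap (g.stalkMap w).hom
  rw [← h1, Ideal.comap_comap, Ideal.comap_comap]
  congr 1
  have h2 := Scheme.Hom.germ_stalkMap g ⊤ w trivial
  exact congrArg CommRingCat.Hom.hom h2

/-- On an affine scheme, a point is determined by its prime of global functions. -/
theorem eq_of_primeAtPt_eq {U : Scheme.{u}} [IsAffine U] (a b : U)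
    (h : AlgSp.primeAtPt U a = AlgSp.primeAtPt U b) : a = b := by
  have hT : IsAffineOpen (⊤ : U.Opens) := isAffineOpen_top U
  have ha : (hT.primeIdealOf ⟨a, trivial⟩).asIdeal = AlgSp.primeAtPt U a :=
    congrArg PrimeSpectrum.asIdeal (hT.primeIdealOf_eq_map_closedPoint ⟨a, trivial⟩)
  have hb : (hT.primeIdealOf ⟨b, trivial⟩).asIdeal = AlgSp.primeAtPt U b :=
    congrArg PrimeSpectrum.asIdeal (hT.primeIdealOf_eq_map_closedPoint ⟨b, trivial⟩)
  have hab : hT.primeIdealOf ⟨a, trivial⟩ = hT.primeIdealOf ⟨b, trivial⟩ :=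
    PrimeSpectrum.ext (ha.trans (h.trans hb.symm))
  have h1 := hT.fromSpec_primeIdealOf ⟨a, trivial⟩
  have h2 := hT.fromSpec_primeIdealOf ⟨b, trivial⟩
  rw [hab] at h1
  exact h1.symm.trans h2

end Groth.Agent.Lib.Helper8WeakAssPush
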