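import Mathlib
import Groth.Agent.Lib.R2H4BirIso

set_option autoImplicit false
set_option linter.style.haveILetI false
universe u
open CategoryTheory CategoryTheory.Limits AlgebraicGeometry TopologicalSpace

namespace Groth.Agent.Lib.Helper8ZMTIso

/-- indicator section of a clopen decomposition -/
theorem exists_indicator {E : Scheme.{u}} (O C : E.Opens) (hdisj : O ⊓ C = ⊥) (hcov : O ⊔ C = ⊤) :
    ∃ e : Γ(E, ⊤), E.presheaf.map (homOfLE (le_top : O ≤ ⊤)).op e = (1 : Γ(E, O)) ∧
      E.presheaf.map (homOfLE (le_top : C ≤ ⊤)).op e = (0 : Γ(E, C)) := by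
  let U : Bool → E.Opens := fun b => cond b O C
  let sf : ∀ b, Γ(E, U b) := fun b =>
    match b with
    | true => (1 : Γ(E, O))
    | false => (0 : Γ(E, C))
  have hc : TopCat.Presheaf.IsCompatible E.sheaf.1 U sf := by
    intro i j
    cases i <;> cases j
    · rfl
    · apply TopCat.Presheaf.section_ext E.sheaf
      intro p hp
      exfalso
      have : p ∈ O ⊓ C := ⟨hp.2, hp.1⟩
      rw [hdisj] at this
      exact this
    · apply TopCat.Presheaf.section_ext E.sheaf
      intro p hp
      exfalso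
      have : p ∈ O ⊓ C := ⟨hp.1, hp.2⟩
      rw [hdisj] at this
      exact this
    · rfl
  have hcover : (⊤ : E.Opens) ≤ iSup U := by
    rw [← hcov]
    exact sup_le (le_iSup U true) (le_iSup U false)
  obtain ⟨e, he, -⟩ := E.sheaf.existsUnique_gluing' U ⊤ (fun b => homOfLE le_top) hcover sf hc
  exact ⟨e, he true, he false⟩

set_option backward.isDefEq.respectTransparency false in
/-- A separated morphism with surjective pullback on global sections and a section which is an
open immersion is an isomorphism. -/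
theorem isIso_of_section {E V : Scheme.{u}} (p : E ⟶ V) [IsSeparated p] (s : V ⟶ E)
    [IsOpenImmersion s] (hs : s ≫ p = 𝟙 V) (hp : Function.Surjective p.appTop) : IsIso p := by
  haveI : IsClosedImmersion (s ≫ p) := by rw [hs]; infer_instance
  haveI : IsClosedImmersion s := IsClosedImmersion.of_comp s p
  suffices hsurj : Function.Surjective s by
    haveI : Surjective s := ⟨hsurj⟩
    haveI : IsIso s := (isIso_iff_isOpenImmersion_and_surjective s).mpr ⟨inferInstance, inferInstance⟩
    have : p = inv s := by rw [← cancel_epi s, hs, IsIso.hom_inv_id]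
    rw [this]; infer_instance
  by_contra hns
  obtain ⟨x, hx⟩ : ∃ x, x ∉ Set.range s := by
    by_contra h
    exact hns (fun z => not_not.mp (fun hz => h ⟨z, hz⟩))
  let O : E.Opens := s.opensRange
  let C : E.Opens := ⟨(Set.range s)ᶜ, s.isClosedEmbedding.isClosed_range.isOpen_compl⟩
  haveI : Nonempty C := ⟨⟨x, hx⟩⟩
  have hdisj : O ⊓ C = ⊥ := by
    ext z
    simp only [Opens.coe_inf, Set.mem_inter_iff, SetLike.mem_coe, Opens.coe_bot,
      Set.mem_empty_iff_false, iff_false, not_and]
    intro h1 h2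
    exact h2 h1
  have hcov : O ⊔ C = ⊤ := by
    ext z
    simp only [Opens.coe_sup, Set.mem_union, SetLike.mem_coe, Opens.coe_top, Set.mem_univ,
      iff_true]
    by_cases hz : z ∈ Set.range s
    · exact Or.inl hz
    · exact Or.inr hz
  obtain ⟨e, he1, he0⟩ := exists_indicator O C hdisj hcov
  obtain ⟨a, ha⟩ := hp e
  have h1 : s.appTop (p.appTop a) = a := by
    have := Scheme.Hom.congr_app hs ⊤
    have h2 : p.appTop ≫ s.appTop = 𝟙 _ := by
      rw [← Scheme.Hom.comp_appTop, hs]; rfl
    exact congr($h2 a)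
  have hO : (⊤ : V.Opens) ≤ s ⁻¹ᵁ O := by
    intro z _
    exact ⟨z, rfl⟩
  have h3 : s.appTop e = 1 := by
    have h4 : E.presheaf.map (homOfLE (le_top : O ≤ ⊤)).op ≫ s.appLE O ⊤ hO = s.appTop := by
      rw [Scheme.Hom.map_appLE, Scheme.Hom.appTop, Scheme.Hom.app_eq_appLE]
      rfl
    rw [← h4, CommRingCat.comp_apply, he1, map_one]
  have ha1 : a = 1 := by rw [← h1, ha, h3]
  have he : e = 1 := by rw [← ha, ha1, map_one]
  rw [he, map_one] at he0
  exact one_ne_zero he0

section Main

variable {X Y : Scheme.{u}} (f : X ⟶ Y)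

set_option backward.isDefEq.respectTransparency false in
theorem isIso_fromNormalization [QuasiCompact f] [QuasiSeparated f]
    (hO : ∀ U : Y.Opens, Function.Bijective (f.app U)) : IsIso f.fromNormalization := by
  apply Groth.Agent.Lib.R2H4.BirIso.isIso_of_isAffineHom_of_isIso_app
  intro U
  rw [f.fromNormalization_app U.2]
  letI := (f.app U.1).hom.toAlgebra
  have hbij : Function.Bijective
      (algebraMap Γ(Y, U.1) (integralClosure Γ(Y, U.1) Γ(X, f ⁻¹ᵁ U.1))) := by
    constructor
    · intro a b h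
      apply (hO U.1).1
      exact congrArg Subtype.val h
    · rintro ⟨x, hx⟩
      obtain ⟨a, ha⟩ := (hO U.1).2 x
      exact ⟨a, Subtype.ext ha⟩
  haveI : IsIso (CommRingCat.ofHom
      (algebraMap Γ(Y, U.1) (integralClosure Γ(Y, U.1) Γ(X, f ⁻¹ᵁ U.1)))) :=
    (ConcreteCategory.isIso_iff_bijective _).mpr hbij
  infer_instance

theorem quasiFiniteAt_of_isOpen_singleton [LocallyOfFiniteType f] (x' : X) (y : Y) (h : f x' = y)
    (x : f.fiber y) (hx : f.fiberι y x = x') (hopen : IsOpen ({x} : Set (f.fiber y))) :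
    f.QuasiFiniteAt x' := by
  subst h
  rw [Scheme.Hom.quasiFiniteAt_iff_isOpen_singleton_asFiber]
  have : f.asFiber x' = x := by
    apply (f.fiberι (f x')).isEmbedding.injective
    rw [Scheme.Hom.fiberι_asFiber, hx]
  rw [this]
  exact hopen

set_option backward.isDefEq.respectTransparency false in
theorem main [IsSeparated f] [LocallyOfFiniteType f] [QuasiCompact f]
    (hO : ∀ U : Y.Opens, Function.Bijective (f.app U)) :
    ∃ V : Y.Opens, IsIso (f ∣_ V) ∧
      ∀ y : Y, y ∉ (V : Set Y) → ∀ x : ↥(f.fiber y), ¬ IsOpen ({x} : Set ↥(f.fiber y)) := by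
  haveI := isIso_fromNormalization f hO
  haveI : IsOpenImmersion (f.quasiFiniteLocus.ι ≫ f) := by
    have : f.quasiFiniteLocus.ι ≫ f =
        (f.quasiFiniteLocus.ι ≫ f.toNormalization) ≫ f.fromNormalization := by
      rw [Category.assoc, Scheme.Hom.toNormalization_fromNormalization]
    rw [this]
    infer_instance
  let V : Y.Opens := (f.quasiFiniteLocus.ι ≫ f).opensRange
  refine ⟨V, ?_, ?_⟩
  · -- the section
    let e := IsOpenImmersion.isoOfRangeEq (f.quasiFiniteLocus.ι ≫ f) V.ι
      (by simp [V])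
    have he : e.hom ≫ V.ι = f.quasiFiniteLocus.ι ≫ f := IsOpenImmersion.isoOfRangeEq_hom_fac _ _ _
    let s₀ : V.toScheme ⟶ X := e.inv ≫ f.quasiFiniteLocus.ι
    have hs₀ : s₀ ≫ f = V.ι := by
      dsimp only [s₀]
      rw [Category.assoc, ← he, Iso.inv_hom_id_assoc]
    have hrange : Set.range s₀ ⊆ Set.range (f ⁻¹ᵁ V).ι := by
      rintro _ ⟨z, rfl⟩
      simp only [Scheme.Opens.range_ι, SetLike.mem_coe, Scheme.Hom.mem_preimage]
      rw [← Scheme.Hom.comp_apply, hs₀]
      exact z.2
    obtain ⟨s, hs⟩ : ∃ s : V.toScheme ⟶ (f ⁻¹ᵁ V).toScheme, s ≫ (f ⁻¹ᵁ V).ι = s₀ :=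
      ⟨IsOpenImmersion.lift (f ⁻¹ᵁ V).ι s₀ hrange, IsOpenImmersion.lift_fac _ _ _⟩
    haveI : IsOpenImmersion (s ≫ (f ⁻¹ᵁ V).ι) := by
      rw [hs]; dsimp only [s₀]; infer_instance
    haveI : IsOpenImmersion s := IsOpenImmersion.of_comp s (f ⁻¹ᵁ V).ι
    have hsp : s ≫ (f ∣_ V) = 𝟙 _ := by
      rw [← cancel_mono V.ι, Category.assoc, morphismRestrict_ι, reassoc_of% hs, hs₀,
        Category.id_comp]
    refine isIso_of_section (f ∣_ V) s hsp ?_
    rw [morphismRestrict_appTop]
    intro t
    obtain ⟨t', ht'⟩ := (ConcreteCategory.bijective_of_isIso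
      (X.presheaf.map (eqToHom (image_morphismRestrict_preimage f V ⊤)).op)).2 t
    obtain ⟨a, ha⟩ := (hO _).2 t'
    refine ⟨a, ?_⟩
    rw [← ht', ← ha]
    rfl
  · intro y hy x hopen
    apply hy
    have hx' : f (f.fiberι y x) = y := by
      have : f.fiberι y x ∈ Set.range (f.fiberι y) := ⟨x, rfl⟩
      rw [Scheme.Hom.range_fiberι] at this
      exact this
    have hq := quasiFiniteAt_of_isOpen_singleton f _ y hx' x rfl hopen
    rw [← hx']
    exact ⟨⟨f.fiberι y x, hq⟩, rfl⟩

end Main

end Groth.Agent.Lib.Helper8ZMTIso
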