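import Mathlib
import Groth.Agent.Lib.R2H1DblCoverFF
import Groth.Agent.Lib.R2H1G12
import Groth.Agent.Lib.R2H4TensorPows
import Groth.Agent.Lib.Helper6SmRegSch
set_option backward.isDefEq.respectTransparency.types false

/-!
helper1 (round 2): uniqueness of the hyperelliptic involution (S18892, S18893). fix_adjoin / liftHom / eq_of_finrank_two (a quadratic field extension has at most one non-trivial endomorphism), stalkEnd (endomorphism of the function field induced by an endomorphism fixing the generic point), germ_stalkEnd, fromSpecStalk_comp, stalkEnd_fix, isDominant_fromSpecStalk, eq_of_stalkEnd_eq, eq_id_of_stalkEnd_eq, sv_comb, lin_eq_zero, comb_eq_zero, finrank_hom_LL, exists_comb (the two pulled back coordinates are a basis of H0 of the g12), exists_moebius, jGerm_mem_adjoin (coordinates of two double covers are Moebius related), nonempty_iso_LL (uniqueness of the g12), stalkAlgHom, map_genericPoint_of_comp, main.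
-/

set_option autoImplicit false
set_option linter.style.haveILetI false
set_option linter.unusedSectionVars false
universe u v

open CategoryTheory CategoryTheory.Limits AlgebraicGeometry TopologicalSpace Opposite

namespace Groth.Agent.Lib.R2H1.HypInvol

section Part1

section Field

variable {k K : Type*} [Field k] [Field K] [Algebra k K]

/-- a `k`-endomorphism fixing `x` fixes `k(x)` -/
theorem fix_adjoin (θ : K →ₐ[k] K) (x : K) (hx : θ x = x) (z : K)
    (hz : z ∈ IntermediateField.adjoin k ({x} : Set K)) : θ z = z := by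
  induction hz using IntermediateField.adjoin_induction with
  | mem y hy =>
    rw [Set.mem_singleton_iff] at hy
    rw [hy, hx]
  | algebraMap c => exact θ.commutes c
  | add a b _ _ ha hb => rw [map_add, ha, hb]
  | inv a _ ha => rw [map_inv₀, ha]
  | mul a b _ _ ha hb => rw [map_mul, ha, hb]

/-- the endomorphism over the fixed intermediate field -/
noncomputable def liftHom (F : IntermediateField k K) (θ : K →ₐ[k] K) (h : ∀ z ∈ F, θ z = z) :
    K →ₐ[F] K :=
  { θ.toRingHom with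
    commutes' := fun z => h z.1 z.2 }

theorem liftHom_apply (F : IntermediateField k K) (θ : K →ₐ[k] K) (h : ∀ z ∈ F, θ z = z) (z : K) :
    liftHom F θ h z = θ z := rfl

/-- in a quadratic extension there is at most one non-trivial endomorphism -/
theorem eq_of_finrank_two (F : IntermediateField k K) (hF : Module.finrank F K = 2)
    (θ₁ θ₂ : K →ₐ[k] K) (h₁ : ∀ z ∈ F, θ₁ z = z) (h₂ : ∀ z ∈ F, θ₂ z = z)
    (hne₁ : θ₁ ≠ AlgHom.id k K) (hne₂ : θ₂ ≠ AlgHom.id k K) : θ₁ = θ₂ := by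
  haveI : FiniteDimensional F K := Module.finite_of_finrank_pos (by omega)
  by_contra hne
  have hcard := AlgHom.card_le (F := F) (K := K)
  rw [hF] at hcard
  have h3 : 2 < Fintype.card (K →ₐ[F] K) := by
    rw [Fintype.two_lt_card_iff]
    refine ⟨AlgHom.id F K, liftHom F θ₁ h₁, liftHom F θ₂ h₂, ?_, ?_, ?_⟩
    · intro h
      apply hne₁
      ext z
      have := congrArg (fun f => f z) h
      exact this.symm
    · intro h
      apply hne₂
      ext z
      have := congrArg (fun f => f z) h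
      exact this.symm
    · intro h
      apply hne
      ext z
      have := congrArg (fun f => f z) h
      exact this
  omega

end Field

end Part1

section Part2

section Stalk

variable {X : Scheme.{u}} [IsIntegral X] (σ : X ⟶ X) (hσ : σ (genericPoint X) = genericPoint X)

/-- the endomorphism of the function field induced by an endomorphism fixing the generic point -/
noncomputable def stalkEnd : X.functionField ⟶ X.functionField :=
  X.presheaf.stalkSpecializes (specializes_of_eq hσ) ≫ σ.stalkMap (genericPoint X)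

include hσ in
theorem mem_preimage {U : X.Opens} (hU : genericPoint X ∈ U) : genericPoint X ∈ σ ⁻¹ᵁ U := by
  change σ (genericPoint X) ∈ U
  rw [hσ]
  exact hU

theorem germ_stalkEnd (U : X.Opens) (hU : genericPoint X ∈ U) :
    X.presheaf.germ U (genericPoint X) hU ≫ stalkEnd σ hσ =
      σ.app U ≫ X.presheaf.germ (σ ⁻¹ᵁ U) (genericPoint X) (mem_preimage σ hσ hU) := by
  unfold stalkEnd
  rw [← Category.assoc, TopCat.Presheaf.germ_stalkSpecializes]
  exact Scheme.Hom.germ_stalkMap σ U (genericPoint X) _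

theorem stalkEnd_germ (U : X.Opens) (hU : genericPoint X ∈ U) (a : Γ(X, U)) :
    (stalkEnd σ hσ).hom ((X.presheaf.germ U (genericPoint X) hU).hom a) =
      (X.presheaf.germ (σ ⁻¹ᵁ U) (genericPoint X) (mem_preimage σ hσ hU)).hom ((σ.app U).hom a) :=
  congrArg (fun φ => φ.hom a) (germ_stalkEnd σ hσ U hU)

theorem fromSpecStalk_comp :
    X.fromSpecStalk (genericPoint X) ≫ σ =
      Spec.map (stalkEnd σ hσ) ≫ X.fromSpecStalk (genericPoint X) := by
  unfold stalkEnd
  rw [Spec.map_comp, Category.assoc, Scheme.SpecMap_stalkSpecializes_fromSpecStalk,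
    Scheme.SpecMap_stalkMap_fromSpecStalk]

/-- germs of functions pulled back along a morphism which `σ` preserves are fixed -/
theorem germ_congr {Y : Scheme.{u}} (f g : X ⟶ Y) (h : f = g) (D : Y.Opens) (s : Γ(Y, D))
    (hf : genericPoint X ∈ f ⁻¹ᵁ D) (hg : genericPoint X ∈ g ⁻¹ᵁ D) :
    (X.presheaf.germ (f ⁻¹ᵁ D) (genericPoint X) hf).hom ((f.app D).hom s) =
      (X.presheaf.germ (g ⁻¹ᵁ D) (genericPoint X) hg).hom ((g.app D).hom s) := by
  subst h
  rfl

theorem stalkEnd_fix {Y : Scheme.{u}} (q : X ⟶ Y) (hq : σ ≫ q = q) (D : Y.Opens) (s : Γ(Y, D))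
    (hη : genericPoint X ∈ q ⁻¹ᵁ D) :
    (stalkEnd σ hσ).hom ((X.presheaf.germ (q ⁻¹ᵁ D) (genericPoint X) hη).hom ((q.app D).hom s)) =
      (X.presheaf.germ (q ⁻¹ᵁ D) (genericPoint X) hη).hom ((q.app D).hom s) := by
  rw [stalkEnd_germ]
  have h1 : (σ.app (q ⁻¹ᵁ D)).hom ((q.app D).hom s) = ((σ ≫ q).app D).hom s := by
    rw [Scheme.Hom.comp_app]
    rfl
  rw [h1]
  exact germ_congr (σ ≫ q) q hq D s _ hη

end Stalk

section Ext

variable {X S : Scheme.{u}} [IsIntegral X] (p : X ⟶ S) [IsSeparated p]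

instance isDominant_fromSpecStalk : IsDominant (X.fromSpecStalk (genericPoint X)) := by
  constructor
  rw [DenseRange, Scheme.range_fromSpecStalk]
  have h : Dense ({genericPoint X} : Set X) := by
    rw [dense_iff_closure_eq]
    exact (genericPoint_spec X).def
  refine h.mono ?_
  intro y hy
  rw [Set.mem_singleton_iff] at hy
  rw [hy]
  exact specializes_rfl

theorem eq_of_stalkEnd_eq (σ τ : X ⟶ X) (hσp : σ ≫ p = p) (hτp : τ ≫ p = p)
    (hσ : σ (genericPoint X) = genericPoint X) (hτ : τ (genericPoint X) = genericPoint X)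
    (h : stalkEnd σ hσ = stalkEnd τ hτ) : σ = τ := by
  apply ext_of_isDominant_of_isSeparated p (hσp.trans hτp.symm) (X.fromSpecStalk (genericPoint X))
  rw [fromSpecStalk_comp σ hσ, fromSpecStalk_comp τ hτ, h]

theorem eq_id_of_stalkEnd_eq (σ : X ⟶ X) (hσp : σ ≫ p = p)
    (hσ : σ (genericPoint X) = genericPoint X)
    (h : stalkEnd σ hσ = 𝟙 _) : σ = 𝟙 X := by
  apply ext_of_isDominant_of_isSeparated p (hσp.trans (Category.id_comp p).symm)
    (X.fromSpecStalk (genericPoint X))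
  rw [fromSpecStalk_comp σ hσ, h, Spec.map_id, Category.id_comp, Category.comp_id]

end Ext

end Part2

section Part3

open HomogeneousLocalization
open Groth.Agent.Helper13ProjUP
open Groth.Agent.Lib.Helper27GrTildeSect Groth.Agent.Helper13GrTildeFrac
  Groth.Agent.Helper13Dehom Groth.Agent.Helper13AffMor Groth.Agent.Helper13SymGr
open Groth.Agent.Lib.Helper23.SecTw Groth.Agent.Lib.Helper6 Groth.Agent.Lib.Helper23.GenLocus
open Groth.Agent.Lib.Helper23.PB Groth.Agent.Helper13PullbackUnit Groth.Agent.Lib.Helper23.Extend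
open Groth.Agent.Lib.R2H1.ProjChart Groth.Agent.Lib.R2H1.PoleFilt
open Groth.Agent.Lib.R2H1.PicPn Groth.Agent.Lib.Helper27PnChart Groth.Agent.Lib.R2H1.PlaneChart
open Groth.Agent.Lib.R2H1.CurveEuler Groth.Agent.Lib.R2H1.DegPullback Groth.Agent.Lib.R2H1.IsoP1
open Groth.Agent.Lib.R2H1.DblCoverGeom

section Comb

variable (k : Type u) [Field k] (X : Scheme.{u}) [X.Over (Spec (CommRingCat.of k))]
variable (r : X ⟶ Proj (CohB1.polyGrading 1 k))

attribute [local instance] algU

theorem sv_comb (a b : k) {V : X.Opens}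
    (hV : V ≤ VV r (MvPolynomial.X 0 : MvPolynomial (Fin (1 + 1)) k)) :
    sv (a • σ r (hT (k := k) 0) + b • σ r (hT (k := k) 1)) V =
      (strU k X V a + strU k X V b * ratio r (hT (k := k) 0) (MvPolynomial.X 1) hV) •
        pcoord r (hT (k := k) 0) hV := by
  rw [sv_add, sv_smul', sv_smul', sv_σ r (hT (k := k) 0) (hT (k := k) 0) hV,
    sv_σ r (hT (k := k) 1) (hT (k := k) 0) hV, ratio_self, one_smul, add_smul, mul_smul]

end Comb

section Basis

variable (k : Type u) [Field k] (X : Scheme.{u}) [X.Over (Spec (CommRingCat.of k))]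
  [IsProper (X ↘ Spec (CommRingCat.of k))] [Smooth (X ↘ Spec (CommRingCat.of k))]
  [GeometricallyConnected (X ↘ Spec (CommRingCat.of k))]

attribute [local instance] algU

/-- `a + b t = 0` forces `a = b = 0` -/
theorem lin_eq_zero [IsIntegral X] (hdim : topologicalKrullDim X = 1)
    (hX0 : Module.finrank k (Coh.HH X (Coh.structureModule X) 0) = 1)
    (r : X ⟶ Proj (CohB1.polyGrading 1 k))
    (hr : r ≫ Groth.Agent.Helper13ProjUP.toBase (CohB1.polyGrading 1 k) =
      X ↘ Spec (CommRingCat.of k)) [IsFinite r]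
    (hres : r.residueDegree (genericPoint X) = 2) (a b : k)
    (h : strU k X _ a + strU k X _ b *
      ratio r (hT (k := k) 0) (MvPolynomial.X 1) (le_rfl : VV r (MvPolynomial.X 0) ≤ _) = 0) :
    a = 0 ∧ b = 0 := by
  obtain ⟨y, P, Q, c1, -⟩ := geom_main k X hdim hX0 r hr hres
  have h1 : Polynomial.aeval (ratio r (hT (k := k) 0) (MvPolynomial.X 1)
      (le_rfl : VV r (MvPolynomial.X 0) ≤ _)) (Polynomial.C a + Polynomial.C b * Polynomial.X) =
      Polynomial.aeval (ratio r (hT (k := k) 0) (MvPolynomial.X 1)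
      (le_rfl : VV r (MvPolynomial.X 0) ≤ _)) (0 : Polynomial k) := by
    rw [map_zero, map_add, map_mul, Polynomial.aeval_C, Polynomial.aeval_C, Polynomial.aeval_X]
    exact h
  have h2 := c1 h1
  have e0 := congrArg (fun p => Polynomial.coeff p 0) h2
  have e1 := congrArg (fun p => Polynomial.coeff p 1) h2
  simp at e0 e1
  exact ⟨e0, e1⟩

theorem comb_eq_zero [IsIntegral X] (hdim : topologicalKrullDim X = 1)
    (hX0 : Module.finrank k (Coh.HH X (Coh.structureModule X) 0) = 1)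
    (r : X ⟶ Proj (CohB1.polyGrading 1 k))
    (hr : r ≫ Groth.Agent.Helper13ProjUP.toBase (CohB1.polyGrading 1 k) =
      X ↘ Spec (CommRingCat.of k)) [IsFinite r]
    (hres : r.residueDegree (genericPoint X) = 2) (a b : k)
    (h : a • σ r (hT (k := k) 0) + b • σ r (hT (k := k) 1) = 0) : a = 0 ∧ b = 0 := by
  apply lin_eq_zero k X hdim hX0 r hr hres a b
  have h1 := sv_comb k X r a b (le_rfl : VV r (MvPolynomial.X 0) ≤ _)
  rw [h, sv_zero] at h1
  have hgen := isGen_pcoord r (hT (k := k) 0) (le_rfl : VV r (MvPolynomial.X 0) ≤ _)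
  apply (hgen _ le_rfl).1
  change _ • res _ _ _ = (0 : Γ(X, _)) • res _ _ _
  rw [zero_smul, res_self]
  exact h1.symm

theorem finrank_hom_LL [IsIntegral X] (hdim : topologicalKrullDim X = 1)
    (hX0 : Module.finrank k (Coh.HH X (Coh.structureModule X) 0) = 1)
    (hg : 1 ≤ Curv2.genus k X)
    (r : X ⟶ Proj (CohB1.polyGrading 1 k))
    (hr : r ≫ Groth.Agent.Helper13ProjUP.toBase (CohB1.polyGrading 1 k) =
      X ↘ Spec (CommRingCat.of k)) [IsFinite r]
    (hres : r.residueDegree (genericPoint X) = 2) :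
    Module.finrank k (Coh.structureModule X ⟶ LL r) = 2 := by
  obtain ⟨y, P, Q, -, -, -, -, -, -, -, -, c9⟩ := geom_main k X hdim hX0 r hr hres
  have h1 := c9 1 hg
  have e : CohB1.tensorPow (LL r) 1 ≅ LL r := Groth.Agent.Lib.R2H4TensorPows.lUnit (LL r)
  rw [Groth.Agent.Lib.R2H2.ClosedPnLin.finrank_HH_of_iso k e 0] at h1
  rw [(Groth.Agent.Lib.R2H2.PnBeilinson.clsEquiv (k := k) (LL r)).finrank_eq, h1]

theorem exists_comb [IsIntegral X] (hdim : topologicalKrullDim X = 1)
    (hX0 : Module.finrank k (Coh.HH X (Coh.structureModule X) 0) = 1)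
    (hg : 1 ≤ Curv2.genus k X)
    (r : X ⟶ Proj (CohB1.polyGrading 1 k))
    (hr : r ≫ Groth.Agent.Helper13ProjUP.toBase (CohB1.polyGrading 1 k) =
      X ↘ Spec (CommRingCat.of k)) [IsFinite r]
    (hres : r.residueDegree (genericPoint X) = 2) (ψ : Coh.structureModule X ⟶ LL r) :
    ∃ a b : k, ψ = a • σ r (hT (k := k) 0) + b • σ r (hT (k := k) 1) := by
  have h2 := finrank_hom_LL k X hdim hX0 hg r hr hres
  haveI : Module.Finite k (Coh.structureModule X ⟶ LL r) :=
    Module.finite_of_finrank_pos (by omega)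
  have hli : LinearIndependent k ![σ r (hT (k := k) 0), σ r (hT (k := k) 1)] := by
    rw [LinearIndependent.pair_iff]
    intro a b hab
    exact comb_eq_zero k X hdim hX0 r hr hres a b hab
  have hspan := hli.span_eq_top_of_card_eq_finrank' (by rw [h2]; rfl)
  have hψ : ψ ∈ Submodule.span k (Set.range ![σ r (hT (k := k) 0), σ r (hT (k := k) 1)]) := by
    rw [hspan]; trivial
  rw [Submodule.mem_span_range_iff_exists_fun] at hψ
  obtain ⟨c, hc⟩ := hψ
  refine ⟨c 0, c 1, ?_⟩
  rw [← hc, Fin.sum_univ_two]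
  rfl

end Basis

section Moebius

variable (k : Type u) [Field k] (X : Scheme.{u}) [X.Over (Spec (CommRingCat.of k))]
  [IsProper (X ↘ Spec (CommRingCat.of k))] [Smooth (X ↘ Spec (CommRingCat.of k))]
  [GeometricallyConnected (X ↘ Spec (CommRingCat.of k))]

attribute [local instance] algU Curv2.stalkAlgebra

/-- two double covers with isomorphic `g¹₂` differ by a Moebius transformation -/
theorem exists_moebius [IsIntegral X] (hdim : topologicalKrullDim X = 1)
    (hX0 : Module.finrank k (Coh.HH X (Coh.structureModule X) 0) = 1)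
    (hg : 1 ≤ Curv2.genus k X)
    (r₁ r₂ : X ⟶ Proj (CohB1.polyGrading 1 k))
    (hr₁ : r₁ ≫ Groth.Agent.Helper13ProjUP.toBase (CohB1.polyGrading 1 k) =
      X ↘ Spec (CommRingCat.of k)) [IsFinite r₁]
    (hr₂ : r₂ ≫ Groth.Agent.Helper13ProjUP.toBase (CohB1.polyGrading 1 k) =
      X ↘ Spec (CommRingCat.of k)) [IsFinite r₂]
    (hres₁ : r₁.residueDegree (genericPoint X) = 2)
    (hres₂ : r₂.residueDegree (genericPoint X) = 2)
    (φ : LL r₂ ≅ LL r₁) {V : X.Opens}
    (hV₁ : V ≤ VV r₁ (MvPolynomial.X 0 : MvPolynomial (Fin (1 + 1)) k))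
    (hV₂ : V ≤ VV r₂ (MvPolynomial.X 0 : MvPolynomial (Fin (1 + 1)) k)) :
    ∃ a₀ b₀ a₁ b₁ : k, ¬ (a₀ = 0 ∧ b₀ = 0) ∧
      strU k X V a₁ + strU k X V b₁ * ratio r₁ (hT (k := k) 0) (MvPolynomial.X 1) hV₁ =
        ratio r₂ (hT (k := k) 0) (MvPolynomial.X 1) hV₂ *
          (strU k X V a₀ + strU k X V b₀ * ratio r₁ (hT (k := k) 0) (MvPolynomial.X 1) hV₁) := by
  obtain ⟨a₀, b₀, h0⟩ := exists_comb k X hdim hX0 hg r₁ hr₁ hres₁ (σ r₂ (hT (k := k) 0) ≫ φ.hom)
  obtain ⟨a₁, b₁, h1⟩ := exists_comb k X hdim hX0 hg r₁ hr₁ hres₁ (σ r₂ (hT (k := k) 1) ≫ φ.hom)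
  refine ⟨a₀, b₀, a₁, b₁, ?_, ?_⟩
  · rintro ⟨rfl, rfl⟩
    rw [zero_smul, zero_smul, add_zero] at h0
    have h2 : σ r₂ (hT (k := k) 0) = 0 := by
      rw [← cancel_mono φ.hom, h0, zero_comp]
    have h3 := comb_eq_zero k X hdim hX0 r₂ hr₂ hres₂ 1 0 (by rw [h2, smul_zero, zero_smul, add_zero])
    exact one_ne_zero h3.1
  · have s0 := sv_comb k X r₁ a₀ b₀ hV₁
    have s1 := sv_comb k X r₁ a₁ b₁ hV₁
    rw [← h0] at s0
    rw [← h1] at s1
    have t0 : sv (σ r₂ (hT (k := k) 0) ≫ φ.hom) V = φ.hom.app V (pcoord r₂ (hT (k := k) 0) hV₂) := by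
      rw [Groth.Agent.Lib.R2H1.LiftZero.sv_comp, sv_σ r₂ (hT (k := k) 0) (hT (k := k) 0) hV₂,
        ratio_self, one_smul]
    have t1 : sv (σ r₂ (hT (k := k) 1) ≫ φ.hom) V =
        ratio r₂ (hT (k := k) 0) (MvPolynomial.X 1) hV₂ •
          φ.hom.app V (pcoord r₂ (hT (k := k) 0) hV₂) := by
      rw [Groth.Agent.Lib.R2H1.LiftZero.sv_comp, sv_σ r₂ (hT (k := k) 1) (hT (k := k) 0) hV₂,
        Scheme.Modules.Hom.app_smul]
    rw [← t0, s0, ← mul_smul] at t1
    rw [t1] at s1
    have hgen := isGen_pcoord r₁ (hT (k := k) 0) hV₁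
    apply (hgen _ le_rfl).1
    change _ • res _ _ _ = _ • res _ _ _
    rw [res_self]
    exact s1.symm

end Moebius

end Part3

section Part4

open Groth.Agent.Helper13ProjUP Groth.Agent.Helper13Dehom
open Groth.Agent.Lib.Helper6
open Groth.Agent.Lib.R2H1.PoleFilt Groth.Agent.Lib.R2H1.DblCoverGeom
open Groth.Agent.Lib.R2H1.DegPullback Groth.Agent.Lib.R2H1.IsoP1
open Groth.Agent.Lib.R2H1.PicPn Groth.Agent.Lib.R2H1.DblCoverFF

section Adjoin

variable (k : Type u) [Field k] (X : Scheme.{u}) [X.Over (Spec (CommRingCat.of k))]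
  [IsProper (X ↘ Spec (CommRingCat.of k))] [Smooth (X ↘ Spec (CommRingCat.of k))]
  [GeometricallyConnected (X ↘ Spec (CommRingCat.of k))]

attribute [local instance] algU Curv2.stalkAlgebra

theorem jGerm_ratio [IsIntegral X] (r : X ⟶ Proj (CohB1.polyGrading 1 k)) {V : X.Opens}
    (hV : V ≤ VV r (MvPolynomial.X 0 : MvPolynomial (Fin (1 + 1)) k))
    (hηV : genericPoint X ∈ V) :
    jGerm (k := k) V hηV (ratio r (hT (k := k) 0) (MvPolynomial.X 1) hV) =
      jGerm (k := k) _ (hV hηV) (ratio r (hT (k := k) 0) (MvPolynomial.X 1) le_rfl) := by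
  rw [← resf_ratio r (hT (k := k) 0) (MvPolynomial.X 1) le_rfl hV]
  exact TopCat.Presheaf.germ_res_apply X.presheaf (homOfLE hV) (genericPoint X) hηV _

/-- the coordinate function of one double cover is a rational function of the other -/
theorem jGerm_mem_adjoin [IsIntegral X] (hdim : topologicalKrullDim X = 1)
    (hX0 : Module.finrank k (Coh.HH X (Coh.structureModule X) 0) = 1)
    (hg : 1 ≤ Curv2.genus k X)
    (r₁ r₂ : X ⟶ Proj (CohB1.polyGrading 1 k))
    (hr₁ : r₁ ≫ Groth.Agent.Helper13ProjUP.toBase (CohB1.polyGrading 1 k) =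
      X ↘ Spec (CommRingCat.of k)) [IsFinite r₁]
    (hr₂ : r₂ ≫ Groth.Agent.Helper13ProjUP.toBase (CohB1.polyGrading 1 k) =
      X ↘ Spec (CommRingCat.of k)) [IsFinite r₂]
    (hres₁ : r₁.residueDegree (genericPoint X) = 2)
    (hres₂ : r₂.residueDegree (genericPoint X) = 2)
    (φ : LL r₂ ≅ LL r₁)
    (hη₁ : genericPoint X ∈ VV r₁ (MvPolynomial.X 0 : MvPolynomial (Fin (1 + 1)) k))
    (hη₂ : genericPoint X ∈ VV r₂ (MvPolynomial.X 0 : MvPolynomial (Fin (1 + 1)) k)) :
    jGerm (k := k) _ hη₂ (ratio r₂ (hT (k := k) 0) (MvPolynomial.X 1) le_rfl) ∈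
      IntermediateField.adjoin k
        ({jGerm (k := k) _ hη₁ (ratio r₁ (hT (k := k) 0) (MvPolynomial.X 1) le_rfl)} :
          Set X.functionField) := by
  have hV₁ : VV r₁ (MvPolynomial.X 0 : MvPolynomial (Fin (1 + 1)) k) ⊓
      VV r₂ (MvPolynomial.X 0 : MvPolynomial (Fin (1 + 1)) k) ≤ VV r₁ (MvPolynomial.X 0) := inf_le_left
  have hV₂ : VV r₁ (MvPolynomial.X 0 : MvPolynomial (Fin (1 + 1)) k) ⊓
      VV r₂ (MvPolynomial.X 0 : MvPolynomial (Fin (1 + 1)) k) ≤ VV r₂ (MvPolynomial.X 0) := inf_le_right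
  have hηV : genericPoint X ∈ VV r₁ (MvPolynomial.X 0 : MvPolynomial (Fin (1 + 1)) k) ⊓
      VV r₂ (MvPolynomial.X 0 : MvPolynomial (Fin (1 + 1)) k) := ⟨hη₁, hη₂⟩
  obtain ⟨a₀, b₀, a₁, b₁, hne, hrel⟩ :=
    exists_moebius k X hdim hX0 hg r₁ r₂ hr₁ hr₂ hres₁ hres₂ φ hV₁ hV₂
  have hrel' := congrArg (jGerm (k := k) _ hηV) hrel
  rw [map_add, map_mul, map_mul, map_add, map_mul, jGerm_ratio k X r₁ hV₁ hηV,
    jGerm_ratio k X r₂ hV₂ hηV] at hrel'
  have hc : ∀ a : k, jGerm (k := k) _ hηV (strU k X _ a) = algebraMap k X.functionField a :=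
    fun a => (jGerm (k := k) _ hηV).commutes a
  rw [hc, hc, hc, hc] at hrel'
  have hd : algebraMap k X.functionField a₀ + algebraMap k X.functionField b₀ *
      jGerm (k := k) _ hη₁ (ratio r₁ (hT (k := k) 0) (MvPolynomial.X 1) le_rfl) ≠ 0 := by
    intro h0
    apply hne
    apply lin_eq_zero k X hdim hX0 r₁ hr₁ hres₁ a₀ b₀
    apply jGerm_injective (k := k) _ hη₁
    rw [map_add, map_mul, map_zero]
    have hc' : ∀ a : k, jGerm (k := k) _ hη₁ (strU k X _ a) = algebraMap k X.functionField a :=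
      fun a => (jGerm (k := k) _ hη₁).commutes a
    rw [hc', hc']
    exact h0
  have hx : jGerm (k := k) _ hη₂ (ratio r₂ (hT (k := k) 0) (MvPolynomial.X 1) le_rfl) =
      (algebraMap k X.functionField a₁ + algebraMap k X.functionField b₁ *
        jGerm (k := k) _ hη₁ (ratio r₁ (hT (k := k) 0) (MvPolynomial.X 1) le_rfl)) /
      (algebraMap k X.functionField a₀ + algebraMap k X.functionField b₀ *
        jGerm (k := k) _ hη₁ (ratio r₁ (hT (k := k) 0) (MvPolynomial.X 1) le_rfl)) := by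
    rw [eq_div_iff hd]
    exact hrel'.symm
  rw [hx]
  have hmem := IntermediateField.mem_adjoin_simple_self k
    (jGerm (k := k) _ hη₁ (ratio r₁ (hT (k := k) 0) (MvPolynomial.X 1) le_rfl))
  exact div_mem (add_mem (IntermediateField.algebraMap_mem _ _)
    (mul_mem (IntermediateField.algebraMap_mem _ _) hmem))
    (add_mem (IntermediateField.algebraMap_mem _ _)
    (mul_mem (IntermediateField.algebraMap_mem _ _) hmem))

end Adjoin

end Part4

section Part5

open Groth.Agent.Helper13ProjUP Groth.Agent.Helper13Dehom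
open Groth.Agent.Lib.Helper6
open Groth.Agent.Lib.R2H1.PoleFilt Groth.Agent.Lib.R2H1.DblCoverGeom
open Groth.Agent.Lib.R2H1.DegPullback Groth.Agent.Lib.R2H1.IsoP1
open Groth.Agent.Lib.R2H1.PicPn Groth.Agent.Lib.R2H1.DblCoverFF
open Groth.Agent.Lib.R2H1.CurveEuler

section G12

open Groth.Agent.Lib.R2H1.PicLaw Groth.Agent.Lib.R2H1.Clifford Groth.Agent.Lib.R2H1.G12
  Groth.Agent.Lib.R2H1.CurveDegSec

variable (k : Type u) [Field k] [IsAlgClosed k] (X : Scheme.{u}) [X.Over (Spec (CommRingCat.of k))]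
  [IsProper (X ↘ Spec (CommRingCat.of k))] [Smooth (X ↘ Spec (CommRingCat.of k))]
  [GeometricallyConnected (X ↘ Spec (CommRingCat.of k))]

/-- the two `g¹₂` are isomorphic -/
theorem nonempty_iso_LL [IsIntegral X] (hdim : topologicalKrullDim X = 1)
    (hX0 : Module.finrank k (Coh.HH X (Coh.structureModule X) 0) = 1)
    (hg : 2 ≤ Curv2.genus k X)
    (r₁ r₂ : X ⟶ Proj (CohB1.polyGrading 1 k))
    (hr₁ : r₁ ≫ Groth.Agent.Helper13ProjUP.toBase (CohB1.polyGrading 1 k) =
      X ↘ Spec (CommRingCat.of k)) [IsFinite r₁]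
    (hr₂ : r₂ ≫ Groth.Agent.Helper13ProjUP.toBase (CohB1.polyGrading 1 k) =
      X ↘ Spec (CommRingCat.of k)) [IsFinite r₂]
    (hres₁ : r₁.residueDegree (genericPoint X) = 2)
    (hres₂ : r₂.residueDegree (genericPoint X) = 2) :
    Nonempty (LL r₂ ≅ LL r₁) := by
  haveI := isNoetherian_of_proper k X
  haveI := isIntegral_P1k k
  have hreg : ∀ x : X, IsRegularLocalRing (X.presheaf.stalk x) := fun x =>
    Groth.Agent.Lib.Helper6.SmRegSch.isRegularLocalRing_stalk_of_smooth_over_field k X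
      (X ↘ Spec (CommRingCat.of k)) x
  have hO1 := Groth.Agent.Lib.R2H2.QProjK0.isAmple_twistProjSpace_one 1 k
  have hL : ∀ r : X ⟶ Proj (CohB1.polyGrading 1 k), PicF.IsInvertible (LL r) := fun r =>
    Groth.Agent.Lib.Helper23.PB.isInvertible_pullback r _ hO1.1
  have hdeg : ∀ (r : X ⟶ Proj (CohB1.polyGrading 1 k))
      (hr : r ≫ Groth.Agent.Helper13ProjUP.toBase (CohB1.polyGrading 1 k) =
        X ↘ Spec (CommRingCat.of k)) [IsFinite r] (hres : r.residueDegree (genericPoint X) = 2),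
      Curv2.deg k X (LL r) 1 = 2 := by
    intro r hr _ hres
    have hξ := map_genericPoint k X hdim hX0 r
    have := deg_LL k X hdim r hr hξ 2 hres
    exact_mod_cast this
  have hh0 : ∀ (r : X ⟶ Proj (CohB1.polyGrading 1 k))
      (hr : r ≫ Groth.Agent.Helper13ProjUP.toBase (CohB1.polyGrading 1 k) =
        X ↘ Spec (CommRingCat.of k)) [IsFinite r] (hres : r.residueDegree (genericPoint X) = 2),
      2 ≤ Module.finrank k (Coh.HH X (LL r) 0) := by
    intro r hr _ hres
    have h2 := finrank_hom_LL k X hdim hX0 (by omega) r hr hres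
    rw [(Groth.Agent.Lib.R2H2.PnBeilinson.clsEquiv (k := k) (LL r)).finrank_eq] at h2
    omega
  obtain ⟨K, hK, hKall⟩ := exists_dual_of_g12 k X hdim hreg hg (LL r₁) (hL r₁)
    (hdeg r₁ hr₁ hres₁) (hh0 r₁ hr₁ hres₁)
  obtain ⟨e1⟩ := hKall (LL r₁) (hL r₁) (hdeg r₁ hr₁ hres₁) (hh0 r₁ hr₁ hres₁)
  obtain ⟨e2⟩ := hKall (LL r₂) (hL r₂) (hdeg r₂ hr₂ hres₂) (hh0 r₂ hr₂ hres₂)
  letI := lawOfIntegral X
  have hO := Groth.Agent.Lib.Helper23.TensorUnit.isInvertible_structureModule X
  have g1 := cls_mul_eq_of_iso (hL r₁) hK hO e1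
  have g2 := cls_mul_eq_of_iso (hL r₂) hK hO e2
  rw [PicGrp.cls_structureModule_eq_one] at g1 g2
  have : PicGrp.cls (LL r₂) (hL r₂) = PicGrp.cls (LL r₁) (hL r₁) := by
    rw [eq_inv_of_mul_eq_one_left g1, eq_inv_of_mul_eq_one_left g2]
  exact (PicGrp.cls_eq_cls_iff (hL r₂) (hL r₁)).1 this

end G12

section AlgHom

variable (k : Type u) [Field k] (X : Scheme.{u}) [X.Over (Spec (CommRingCat.of k))] [IsIntegral X]

attribute [local instance] algU Curv2.stalkAlgebra

/-- the induced `k`-endomorphism of the function field -/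
noncomputable def stalkAlgHom (σ : X ⟶ X) (hση : σ (genericPoint X) = genericPoint X)
    (hσp : σ ≫ (X ↘ Spec (CommRingCat.of k)) = X ↘ Spec (CommRingCat.of k)) :
    X.functionField →ₐ[k] X.functionField :=
  { (stalkEnd σ hση).hom with
    commutes' := fun c => by
      exact stalkEnd_fix σ hση (X ↘ Spec (CommRingCat.of k)) hσp ⊤
        ((Scheme.ΓSpecIso (CommRingCat.of k)).inv.hom c) trivial }

theorem stalkAlgHom_apply (σ : X ⟶ X) (hση : σ (genericPoint X) = genericPoint X)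
    (hσp : σ ≫ (X ↘ Spec (CommRingCat.of k)) = X ↘ Spec (CommRingCat.of k)) (z : X.functionField) :
    stalkAlgHom k X σ hση hσp z = (stalkEnd σ hση).hom z := rfl

theorem stalkAlgHom_ratio (σ : X ⟶ X) (hση : σ (genericPoint X) = genericPoint X)
    (hσp : σ ≫ (X ↘ Spec (CommRingCat.of k)) = X ↘ Spec (CommRingCat.of k))
    (r : X ⟶ Proj (CohB1.polyGrading 1 k)) (hσr : σ ≫ r = r)
    (hη : genericPoint X ∈ VV r (MvPolynomial.X 0 : MvPolynomial (Fin (1 + 1)) k)) :
    stalkAlgHom k X σ hση hσp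
        (jGerm (k := k) _ hη (ratio r (hT (k := k) 0) (MvPolynomial.X 1) le_rfl)) =
      jGerm (k := k) _ hη (ratio r (hT (k := k) 0) (MvPolynomial.X 1) le_rfl) := by
  rw [stalkAlgHom_apply, jGerm_apply]
  unfold ratio
  rw [Scheme.Hom.appLE_eq_app]
  exact stalkEnd_fix σ hση r hσr _ _ hη

end AlgHom

section Main

variable (k : Type u) [Field k] [IsAlgClosed k] (X : Scheme.{u}) [X.Over (Spec (CommRingCat.of k))]
  [IsProper (X ↘ Spec (CommRingCat.of k))] [Smooth (X ↘ Spec (CommRingCat.of k))]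
  [GeometricallyConnected (X ↘ Spec (CommRingCat.of k))]

attribute [local instance] algU Curv2.stalkAlgebra

/-- an endomorphism of `X` over the projective line fixes the generic point -/
theorem map_genericPoint_of_comp [IsIntegral X] (hdim : topologicalKrullDim X = 1)
    (hX0 : Module.finrank k (Coh.HH X (Coh.structureModule X) 0) = 1)
    (r : X ⟶ Proj (CohB1.polyGrading 1 k)) [IsFinite r] (σ : X ⟶ X) (hσ : σ ≫ r = r) :
    σ (genericPoint X) = genericPoint X := by
  haveI := isNoetherian_of_proper k X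
  haveI := isIntegral_P1k k
  have hξ := map_genericPoint k X hdim hX0 r
  have hfib := fiber_generic r hdim.le (dim_P1k k) r.isClosedMap hξ
  have h1 : σ (genericPoint X) ∈ r ⁻¹' {r (genericPoint X)} := by
    change r (σ (genericPoint X)) = r (genericPoint X)
    rw [← Scheme.Hom.comp_apply, hσ]
  rw [hfib] at h1
  exact h1

/-- **uniqueness of the hyperelliptic involution** -/
theorem main [IsIntegral X] (hdim : topologicalKrullDim X = 1)
    (hg : 2 ≤ Curv2.genus k X)
    (r₁ r₂ : X ⟶ Proj (CohB1.polyGrading 1 k))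
    (hr₁ : r₁ ≫ Groth.Agent.Helper13ProjUP.toBase (CohB1.polyGrading 1 k) =
      X ↘ Spec (CommRingCat.of k)) [IsFinite r₁]
    (hr₂ : r₂ ≫ Groth.Agent.Helper13ProjUP.toBase (CohB1.polyGrading 1 k) =
      X ↘ Spec (CommRingCat.of k)) [IsFinite r₂]
    (hres₁ : r₁.residueDegree (genericPoint X) = 2)
    (hres₂ : r₂.residueDegree (genericPoint X) = 2)
    (σ τ : X ⟶ X) (hσ : σ ≫ r₁ = r₁) (hσ₁ : σ ≠ 𝟙 X) (hτ : τ ≫ r₂ = r₂) (hτ₁ : τ ≠ 𝟙 X) :
    σ = τ := by
  haveI := isIntegral_P1k k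
  have hX0 := hX0_of_geomConn k X
  have hση := map_genericPoint_of_comp k X hdim hX0 r₁ σ hσ
  have hτη := map_genericPoint_of_comp k X hdim hX0 r₂ τ hτ
  have hσp : σ ≫ (X ↘ Spec (CommRingCat.of k)) = X ↘ Spec (CommRingCat.of k) := by
    rw [← hr₁, ← Category.assoc, hσ]
  have hτp : τ ≫ (X ↘ Spec (CommRingCat.of k)) = X ↘ Spec (CommRingCat.of k) := by
    rw [← hr₂, ← Category.assoc, hτ]
  have hη₁ := genericPoint_mem_VV k X r₁ (map_genericPoint k X hdim hX0 r₁) 0
  have hη₂ := genericPoint_mem_VV k X r₂ (map_genericPoint k X hdim hX0 r₂) 0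
  obtain ⟨φ⟩ := nonempty_iso_LL k X hdim hX0 hg r₁ r₂ hr₁ hr₂ hres₁ hres₂
  -- the coordinate of `r₁` is a rational function of the coordinate of `r₂`
  have hmem := jGerm_mem_adjoin k X hdim hX0 (by omega) r₂ r₁ hr₂ hr₁ hres₂ hres₁ φ.symm hη₂ hη₁
  -- the fixed field
  have hU : IsAffineOpen (VV r₁ (MvPolynomial.X 0 : MvPolynomial (Fin (1 + 1)) k)) :=
    (isAffineOpen_basicOpen (hT (k := k) 0)).preimage r₁
  obtain ⟨y, P, Q, c1, c2, c3, c4, c5, -⟩ := geom_main k X hdim hX0 r₁ hr₁ hres₁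
  have hF := finrank_eq_two (jGerm (k := k) _ hη₁) (jGerm_injective (k := k) _ hη₁)
    (jGerm_frac (k := k) _ hU hη₁) _ y P Q c3 c4 c5
  have h₁ : ∀ z ∈ IntermediateField.adjoin k
      ({jGerm (k := k) _ hη₁ (ratio r₁ (hT (k := k) 0) (MvPolynomial.X 1) le_rfl)} :
        Set X.functionField), stalkAlgHom k X σ hση hσp z = z :=
    fun z hz => fix_adjoin _ _ (stalkAlgHom_ratio k X σ hση hσp r₁ hσ hη₁) z hz
  have h₂ : ∀ z ∈ IntermediateField.adjoin k
      ({jGerm (k := k) _ hη₁ (ratio r₁ (hT (k := k) 0) (MvPolynomial.X 1) le_rfl)} :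
        Set X.functionField), stalkAlgHom k X τ hτη hτp z = z := by
    have h2' : ∀ z ∈ IntermediateField.adjoin k
        ({jGerm (k := k) _ hη₂ (ratio r₂ (hT (k := k) 0) (MvPolynomial.X 1) le_rfl)} :
          Set X.functionField), stalkAlgHom k X τ hτη hτp z = z :=
      fun z hz => fix_adjoin _ _ (stalkAlgHom_ratio k X τ hτη hτp r₂ hτ hη₂) z hz
    intro z hz
    exact fix_adjoin _ _ (h2' _ hmem) z hz
  have hne : ∀ (ρ : X ⟶ X) (hρη : ρ (genericPoint X) = genericPoint X)
      (hρp : ρ ≫ (X ↘ Spec (CommRingCat.of k)) = X ↘ Spec (CommRingCat.of k)), ρ ≠ 𝟙 X →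
      stalkAlgHom k X ρ hρη hρp ≠ AlgHom.id k X.functionField := by
    intro ρ hρη hρp hρ h
    apply hρ
    apply eq_id_of_stalkEnd_eq (X ↘ Spec (CommRingCat.of k)) ρ hρp hρη
    ext z
    exact congrArg (fun f => f z) h
  have heq := eq_of_finrank_two _ hF _ _ h₁ h₂ (hne σ hση hσp hσ₁) (hne τ hτη hτp hτ₁)
  apply eq_of_stalkEnd_eq (X ↘ Spec (CommRingCat.of k)) σ τ hσp hτp hση hτη
  ext z
  exact congrArg (fun f => f z) heq

end Main

end Part5

end Groth.Agent.Lib.R2H1.HypInvol
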