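import Mathlib
import Groth.Prelude
import Groth.Agent.Lib.R2H1CurveBC
import Groth.Agent.Lib.R2H1DblCoverGeom
import Groth.Agent.Lib.R2H1EtaleP1
import Groth.Agent.Lib.Helper20FormalPull
import Groth.Agent.Lib.R2H2QProjK0
import Groth.Agent.Lib.R2H2PnEuler
set_option backward.isDefEq.respectTransparency.types false

/-!
Pullback of global sections as a linear map (pullHom), injective for dominant morphisms of integral schemes; h0 does not decrease under pullback; on a hyperelliptic curve the (g-1)st power of the pullback of O(1) is the canonical sheaf.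
-/

set_option autoImplicit false
set_option linter.style.haveILetI false
set_option linter.unusedSectionVars false
universe u v

open CategoryTheory CategoryTheory.Limits AlgebraicGeometry TopologicalSpace Opposite

namespace Groth.Agent.Lib.R2H1.HyperellCanon

section Part1

open Groth.Agent.Lib.R2H1.CurveBC Groth.Agent.Lib.R2H2.PnBeilinson
  Groth.Agent.Lib.R2H1.CurveDegSec Groth.Agent.Lib.R2H1.CurveAmple

section A

variable (k : Type u) [Field k] {X Y : Scheme.{u}} [X.Over (Spec (CommRingCat.of k))]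
  [Y.Over (Spec (CommRingCat.of k))] (f : X ⟶ Y)
  (hf : f ≫ (Y ↘ Spec (CommRingCat.of k)) = X ↘ Spec (CommRingCat.of k))

/-- pulling back global sections, as a linear map -/
noncomputable def pullHom (M : Y.Modules) :
    (Coh.structureModule Y ⟶ M) →ₗ[k]
      (Coh.structureModule X ⟶ (Scheme.Modules.pullback f).obj M) where
  toFun s := (Groth.Agent.Lib.Helper23.PB.pullbackUnitIso f).inv ≫ (Scheme.Modules.pullback f).map s
  map_add' s t := by
    haveI : (Scheme.Modules.pullback f).Additive :=
      (Scheme.Modules.pullbackPushforwardAdjunction f).left_adjoint_additive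
    rw [Functor.map_add, Preadditive.comp_add]
  map_smul' a s := by
    rw [smul_eq_comp_smulMod, smul_eq_comp_smulMod, Functor.map_comp,
      Groth.Agent.Lib.Helper20.FormalPull.pullback_map_smulMod f hf, RingHom.id_apply,
      Category.assoc]

theorem pullHom_apply (M : Y.Modules) (s : Coh.structureModule Y ⟶ M) :
    pullHom k f hf M s =
      (Groth.Agent.Lib.Helper23.PB.pullbackUnitIso f).symm.hom ≫ (Scheme.Modules.pullback f).map s :=
  rfl

include hf in
theorem pullHom_injective [IsIntegral X] [IsIntegral Y]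
    (hξ : f (genericPoint X) = genericPoint Y) (M : Y.Modules) (hM : PicF.IsInvertible M) :
    Function.Injective (pullHom k f hf M) := by
  rw [injective_iff_map_eq_zero]
  intro s hs
  by_contra hne
  have h1 : CohB1.genLocus M s ≠ ⊥ := fun h =>
    hne (Groth.Agent.Lib.R2H1.DegNonpos.eq_zero_of_genLocus_eq_bot M hM s h)
  have h2 : genericPoint Y ∈ CohB1.genLocus M s := by
    change genericPoint Y ∈ ((CohB1.genLocus M s : Y.Opens) : Set Y)
    rw [(genericPoint_spec Y).mem_open_set_iff (CohB1.genLocus M s).isOpen]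
    by_contra hcon
    apply h1
    ext y
    simp only [Opens.coe_bot, Set.mem_empty_iff_false, iff_false]
    exact fun hy => hcon ⟨y, trivial, hy⟩
  have h3 := Groth.Agent.Lib.Helper23.PB.genLocus_pullback f M hM s
    (Groth.Agent.Lib.Helper23.PB.pullbackUnitIso f).symm
  rw [← pullHom_apply k f hf, hs, Groth.Agent.Lib.Helper23.SecTw.genLocus_zero _
    (Groth.Agent.Lib.Helper23.PB.isInvertible_pullback f M hM)] at h3
  have h4 : genericPoint X ∈ f ⁻¹ᵁ CohB1.genLocus M s := by
    change f (genericPoint X) ∈ CohB1.genLocus M s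
    rw [hξ]
    exact h2
  rw [← h3] at h4
  exact h4

include hf in
/-- pulling back along a dominant morphism of integral proper schemes does not decrease `h⁰` of an
invertible module -/
theorem finrank_H0_le_pullback [IsIntegral X] [IsIntegral Y]
    [IsProper (X ↘ Spec (CommRingCat.of k))]
    (hξ : f (genericPoint X) = genericPoint Y) (M : Y.Modules) (hM : PicF.IsInvertible M) :
    Module.finrank k (Coh.HH Y M 0) ≤
      Module.finrank k (Coh.HH X ((Scheme.Modules.pullback f).obj M) 0) := by
  have hN := Groth.Agent.Lib.Helper23.PB.isInvertible_pullback f M hM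
  haveI := Groth.Agent.Lib.R2H1.EulerAdd.finite_HH k X _ (isCoh_of_isInvertible _ hN) 0
  rw [← (clsEquiv (k := k) M).finrank_eq,
    ← (clsEquiv (k := k) ((Scheme.Modules.pullback f).obj M)).finrank_eq]
  haveI : Module.Finite k (Coh.structureModule X ⟶ (Scheme.Modules.pullback f).obj M) :=
    Module.Finite.equiv (clsEquiv (k := k) ((Scheme.Modules.pullback f).obj M)).symm
  exact LinearMap.finrank_le_finrank_of_injective (pullHom_injective k f hf hξ M hM)

end A

end Part1

section Part2

open Groth.Agent.Lib.R2H1.CurveBC Groth.Agent.Lib.R2H2.PnBeilinson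
  Groth.Agent.Lib.R2H1.CurveDegSec Groth.Agent.Lib.R2H1.CurveAmple

section B

variable (k : Type u) [Field k]

/-- on a hyperelliptic curve of genus `g`, the `(g-1)`-st power of the pullback of `O(1)` is the
canonical sheaf -/
theorem hyperelliptic_canonical {C : Scheme.{u}} (p : C ⟶ Spec (CommRingCat.of k)) [IsProper p]
    [Smooth p] [GeometricallyConnected p] (hC : topologicalKrullDim C = 1)
    (g : ℕ) (hg2 : 2 ≤ g) (hg : @Curv2.genus k _ C ⟨p⟩ = g)
    (f : C ⟶ CohB1.ProjSpace 1 k) (hf : f ≫ CohB1.ProjSpace.toSpec 1 k = p) [IsFinite f] [Flat f]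
    (hrk : ∀ y : ↥(CohB1.ProjSpace 1 k), Scheme.Hom.finrank f y = 2) :
    Nonempty (CohB1.tensorPow ((Scheme.Modules.pullback f).obj (Twist.twistProjSpace 1 k 1)) (g - 1) ≅
      Omega.sheaf p) := by
  letI : C.Over (Spec (CommRingCat.of k)) := ⟨p⟩
  haveI : IsProper (C ↘ Spec (CommRingCat.of k)) := ‹IsProper p›
  haveI : Smooth (C ↘ Spec (CommRingCat.of k)) := ‹Smooth p›
  haveI : GeometricallyConnected (C ↘ Spec (CommRingCat.of k)) := ‹GeometricallyConnected p›
  haveI := isIntegral_of_geometricallyConnected k C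
  haveI := Groth.Agent.Lib.R2H1.IsoP1.isIntegral_P1k k
  let f' : C ⟶ Proj (CohB1.polyGrading 1 k) := f
  haveI : IsFinite f' := ‹IsFinite f›
  haveI : Flat f' := ‹Flat f›
  have hres := Groth.Agent.Lib.R2H1.DblCoverGeom.residueDegree_of_finrank k C hC f' hf 2 hrk
  have hX0 := Groth.Agent.Lib.R2H1.DblCoverGeom.hX0_of_geomConn k C
  have hξ := Groth.Agent.Lib.R2H1.DblCoverGeom.map_genericPoint k C hC hX0 f'
  have d1 := Groth.Agent.Lib.R2H1.DblCoverGeom.deg_LL k C hC f' hf hξ 2 hres
  have hO1 := Groth.Agent.Lib.R2Lead.KRR.isInvertible_twistProjSpace 1 k 1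
  have hL₁ := Groth.Agent.Lib.Helper23.PB.isInvertible_pullback f _ hO1
  have hLn := Groth.Agent.Lib.Helper23.SecTw.isInvertible_tensorPow hL₁ (g - 1)
  have d2 := deg_tensorPow k C hC _ hL₁ (g - 1)
  obtain ⟨e1⟩ := Groth.Agent.Lib.Helper23.PB.nonempty_pullback_tensorPow_iso f _ hO1 (g - 1)
  obtain ⟨e2⟩ := Groth.Agent.Lib.R2H2.QProjK0.nonempty_twist_iso_tensorPow 1 k (g - 1)
  have hOn := Groth.Agent.Lib.R2Lead.KRR.isInvertible_twistProjSpace 1 k ((g - 1 : ℕ) : ℤ)
  have h1 := finrank_H0_le_pullback k f hf hξ _ hOn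
  have h2 := Groth.Agent.Lib.R2H2.PnEuler.finrank_HH_nonneg k 1 (g - 1)
  have h3 := Groth.Agent.Lib.R2H2.ClosedPnLin.finrank_HH_of_iso k
    ((Scheme.Modules.pullback f).mapIso e2 ≪≫ e1) 0
  refine iso_omega_of_deg_of_h0 k C hC _ hLn ?_ ?_
  · rw [d2]
    change ((g - 1 : ℕ) : ℤ) * Curv2.deg k C (Groth.Agent.Lib.R2H1.DblCoverGeom.LL f) 1 = _
    rw [d1]
    change _ = 2 * ((@Curv2.genus k _ C ⟨p⟩ : ℕ) : ℤ) - 2
    rw [hg]
    push_cast [Nat.cast_sub (by omega : 1 ≤ g)]
    ring
  · change @Curv2.genus k _ C ⟨p⟩ ≤ _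
    rw [hg, ← h3]
    refine le_trans ?_ h1
    rw [h2]
    simp
    omega

end B

end Part2

end Groth.Agent.Lib.R2H1.HyperellCanon
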