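import Mathlib
import Groth.Prelude
import Groth.Agent.Lib.R2H1CurveBC
import Groth.Agent.Lib.R2H4GGDescent
import Groth.Agent.Lib.R2H4HilbCoef
set_option backward.isDefEq.respectTransparency.types false

/-!
The canonical sheaf of a smooth proper geometrically connected curve of positive genus over any field is globally generated (descent of global generation from the algebraic closure).
-/

set_option autoImplicit false
set_option linter.style.haveILetI false
set_option linter.unusedSectionVars false
universe u v

open CategoryTheory CategoryTheory.Limits AlgebraicGeometry TopologicalSpace Opposite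

namespace Groth.Agent.Lib.R2H1.CurveBC2

section Part1

open Groth.Agent.Lib.R2H1.CurveBC
  Groth.Agent.Lib.R2H1.OmegaCurve Groth.Agent.Lib.R2H1.OmegaDual
  Groth.Agent.Lib.R2H1.SerreNum

section H

variable (k : Type u) [Field k] (X : Scheme.{u}) [X.Over (Spec (CommRingCat.of k))]
  [IsProper (X ↘ Spec (CommRingCat.of k))] [Smooth (X ↘ Spec (CommRingCat.of k))]
  [GeometricallyConnected (X ↘ Spec (CommRingCat.of k))]

attribute [local instance] bcOver

local notation "K" => AlgebraicClosure k

theorem isGloballyGenerated_of_iso {Y : Scheme.{u}} {F G : Y.Modules} (e : F ≅ G)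
    (h : Curv2.IsGloballyGenerated F) : Curv2.IsGloballyGenerated G := by
  obtain ⟨ι, p, hp⟩ := h
  exact ⟨ι, p ≫ e.hom, epi_comp _ _⟩

open Groth.Agent.Lib.Helper20.OmegaQCoh in
/-- the canonical sheaf of a curve of positive genus over any field is globally generated -/
theorem isGloballyGenerated_omega (hdim : topologicalKrullDim X = 1)
    (hg : 1 ≤ Curv2.genus k X) :
    Curv2.IsGloballyGenerated (Omega.sheaf (X ↘ Spec (CommRingCat.of k))) := by
  haveI := isIntegral_bc k X K
  have hdim' : topologicalKrullDim (Curv2.bc k X K) = 1 := (dim_bc k X K).trans hdim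
  have hreg' := isRegularLocalRing_stalk_bc k X K
  obtain ⟨e⟩ := nonempty_omega_bc k X K
  have gg := genus_bc k X K
  have h1 := isGloballyGenerated_Om K (Curv2.bc k X K) hdim' hreg' (by rw [gg]; exact hg)
  haveI := isQuasicoherent_omega (X ↘ Spec (CommRingCat.of k))
  rw [Groth.Agent.Lib.R2H4GGDescent.main k K X (X ↘ Spec (CommRingCat.of k)) _
    (inferInstance : (Omega.sheaf (X ↘ Spec (CommRingCat.of k))).IsQuasicoherent)]
  exact isGloballyGenerated_of_iso e.symm h1

end H

end Part1

end Groth.Agent.Lib.R2H1.CurveBC2
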