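import Mathlib
import Groth.Prelude
import Groth.Agent.Lib.R2H1DoubleCover
import Groth.Agent.Lib.R2H1SerreNum
import Groth.Agent.Lib.R2H1CurveBC2
import Groth.Agent.Lib.R2H1HypInvol
set_option backward.isDefEq.respectTransparency.types false

/-!
R2H1HyperellPencil (helper1, round 2): isGloballyGenerated_of_deg_two_closed (alg closed field, regular curve of positive genus: invertible L of degree 2 with h0 = 2 is globally generated), isGloballyGenerated_of_deg_two (any field, smooth proper geometrically connected curve, by descent), hyperelliptic_iff (positive genus: finite separable degree 2 morphism to P1 iff invertible L with deg 2 and h0 = 2).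
-/

set_option autoImplicit false
set_option linter.style.haveILetI false
set_option linter.unusedSectionVars false
universe u v

open CategoryTheory CategoryTheory.Limits AlgebraicGeometry TopologicalSpace Opposite

namespace Groth.Agent.Lib.R2H1.HyperellPencil

section Part1

open CategoryTheory CategoryTheory.Limits AlgebraicGeometry TopologicalSpace

section Closed

open Groth.Agent.Lib.R2H1.SerreNum Groth.Agent.Lib.R2H1.PointTwist Groth.Agent.Lib.R2H1.SerreDual
open Groth.Agent.Lib.R2H1.CurveEuler

variable (k : Type u) [Field k] [IsAlgClosed k] (X : Scheme.{u})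
  [X.Over (Spec (CommRingCat.of k))]
  [IsIntegral X] [IsProper (X ↘ (Spec (CommRingCat.of k)))]

/-- over an algebraically closed field, a pencil of degree two on a curve of positive genus has no
base points -/
theorem isGloballyGenerated_of_deg_two_closed (hdim : topologicalKrullDim X = 1)
    (hreg : ∀ x : X, IsRegularLocalRing (X.presheaf.stalk x))
    (hg : 1 ≤ Curv2.genus k X) (L : X.Modules) (hL : PicF.IsInvertible L)
    (hdeg : Curv2.deg k X L 1 = 2) (h0 : Module.finrank k (Coh.HH X L 0) = 2) :
    Curv2.IsGloballyGenerated L := by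
  haveI := isNoetherian_of_proper k X
  rw [s11330 k X hdim hreg L hL]
  intro P hP
  have hI : PicF.IsInvertible (ClSub.idealMod (Scheme.IdealSheafData.vanishingIdeal ⟨{P}, hP⟩)) :=
    Groth.Agent.Helper18Cart.isInvertible_of_isEffCartier _
      (point_isEffCartier k X hdim hreg P hP)
  have dI := deg_pointIdeal k X hdim hreg P hP
  have hN := Groth.Agent.Lib.Helper23.SecTw.isInvertible_tensorMod hL hI
  have dN := Groth.Agent.Lib.R2H1.VBIndecTwo.deg_tensor_invertible k X hdim hL hI
  have h1 := h0_le_one_of_deg_one k X hdim hreg hg _ hN (by rw [dN, hdeg, dI]; norm_num)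
  have b := h0_point_twist_bounds k X hdim hreg 1 L
    (Groth.Agent.Lib.Helper23.SecTw.isFinLocFreeOfRank_one_of_isInvertible _ hL) P hP
  omega

end Closed

section Desc

open Groth.Agent.Lib.R2H1.CurveBC

variable (k : Type u) [Field k] (X : Scheme.{u}) [X.Over (Spec (CommRingCat.of k))]
  [IsProper (X ↘ Spec (CommRingCat.of k))] [Smooth (X ↘ Spec (CommRingCat.of k))]
  [GeometricallyConnected (X ↘ Spec (CommRingCat.of k))]

attribute [local instance] bcOver

local notation "K" => AlgebraicClosure k

/-- a pencil of degree two on a curve of positive genus over any field has no base points -/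
theorem isGloballyGenerated_of_deg_two (hdim : topologicalKrullDim X = 1)
    (hg : 1 ≤ Curv2.genus k X) (L : X.Modules) (hL : PicF.IsInvertible L)
    (hdeg : Curv2.deg k X L 1 = 2) (h0 : Module.finrank k (Coh.HH X L 0) = 2) :
    Curv2.IsGloballyGenerated L := by
  haveI := isIntegral_bc k X K
  have hdim' : topologicalKrullDim (Curv2.bc k X K) = 1 := (dim_bc k X K).trans hdim
  have hreg' := isRegularLocalRing_stalk_bc k X K
  have gg := genus_bc k X K
  have cL := Groth.Agent.Lib.R2H1.CurveDegSec.isCoh_of_isInvertible L hL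
  have hL' : PicF.IsInvertible ((Scheme.Modules.pullback (Curv2.bcFst k X K)).obj L) :=
    Groth.Agent.Lib.Helper23.PB.isInvertible_pullback (Curv2.bcFst k X K) _ hL
  have hdeg' := (deg_bc k X K L cL 1).trans hdeg
  have h0' := (finrank_HH_bc k X K L cL 0).trans h0
  have h1 := isGloballyGenerated_of_deg_two_closed K (Curv2.bc k X K) hdim' hreg'
    (by rw [gg]; exact hg) _ hL' hdeg' h0'
  rw [Groth.Agent.Lib.R2H4GGDescent.main k K X (X ↘ Spec (CommRingCat.of k)) L cL.1]
  exact h1

end Desc

end Part1

section Part2

open CategoryTheory CategoryTheory.Limits AlgebraicGeometry TopologicalSpace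


section Main

open Groth.Agent.Lib.R2H1.CurveBC Groth.Agent.Lib.R2H1.DoubleCover

variable (k : Type u) [Field k] (X : Scheme.{u}) [X.Over (Spec (CommRingCat.of k))]
  [IsIntegral X] [IsProper (X ↘ Spec (CommRingCat.of k))] [Smooth (X ↘ Spec (CommRingCat.of k))]

/-- a curve of positive genus is hyperelliptic iff it carries a pencil of degree two -/
theorem hyperelliptic_iff (hdX : topologicalKrullDim X = 1)
    (hX0 : Module.finrank k (Coh.HH X (Coh.structureModule X) 0) = 1)
    (hg : 1 ≤ Curv2.genus k X) :
    (∃ f : X ⟶ CohB1.ProjSpace 1 k, f ≫ CohB1.ProjSpace.toSpec 1 k = X ↘ (Spec (CommRingCat.of k)) ∧ IsFinite f ∧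
        f.residueDegree (genericPoint X) = 2 ∧
        letI := (f.residueFieldMap (genericPoint X)).hom.toAlgebra
        Algebra.IsSeparable ((CohB1.ProjSpace 1 k).residueField (f (genericPoint X))) (X.residueField (genericPoint X))) ↔
      ∃ L : X.Modules, PicF.IsInvertible L ∧ Curv2.deg k X L 1 = 2 ∧ Module.finrank k (Coh.HH X L 0) = 2 := by
  haveI := geometricallyConnected_of_h0 k X hX0
  constructor
  · rintro ⟨f, hf, hfin, hres, -⟩
    haveI := hfin
    let f' : X ⟶ Proj (CohB1.polyGrading 1 k) := f
    haveI : IsFinite f' := hfin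
    have hξ := Groth.Agent.Lib.R2H1.DblCoverGeom.map_genericPoint k X hdX hX0 f'
    have hO1 := Groth.Agent.Lib.R2H2.QProjK0.isAmple_twistProjSpace_one 1 k
    refine ⟨Groth.Agent.Lib.R2H1.DblCoverGeom.LL f',
      Groth.Agent.Lib.Helper23.PB.isInvertible_pullback f' _ hO1.1, ?_, ?_⟩
    · have := Groth.Agent.Lib.R2H1.DblCoverGeom.deg_LL k X hdX f' hf hξ 2 hres
      exact_mod_cast this
    · have h2 := Groth.Agent.Lib.R2H1.HypInvol.finrank_hom_LL k X hdX hX0 hg f' hf hres
      rw [← (Groth.Agent.Lib.R2H2.PnBeilinson.clsEquiv (k := k)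
        (Groth.Agent.Lib.R2H1.DblCoverGeom.LL f')).finrank_eq]
      exact h2
  · rintro ⟨L, hL, hdeg, h0⟩
    have hgg := isGloballyGenerated_of_deg_two k X hdX hg L hL hdeg h0
    obtain ⟨f, hf, hfin, hres, -⟩ := exists_double_cover_of_pencil k X hdX L hL hgg h0 hdeg hg
    haveI := hfin
    obtain ⟨-, -, -, hsep⟩ := double_cover_facts k X hdX hg f hf hres
    exact ⟨f, hf, hfin, hres, hsep⟩

end Main

end Part2

end Groth.Agent.Lib.R2H1.HyperellPencil
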