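import Mathlib
import Groth.Prelude
import Groth.Agent.Lib.Helper23PB
import Groth.Agent.Lib.R2H1NormPush
import Groth.Agent.Lib.Helper23SecTw10
import Groth.Agent.Lib.Helper23Serre
import Groth.Agent.Lib.Helper6DimAff
import Groth.Agent.Lib.R2H1CurveBC
import Groth.Agent.Lib.R2H1DblCoverGeom
import Groth.Agent.Lib.R2H1HyperellCanon
import Groth.Agent.Lib.Helper12Reduced
import Groth.Agent.Lib.R2H1InvExists
import Groth.Agent.Lib.R2H1HypIdeal
import Groth.Agent.Lib.R2H1DoubleCover
import Groth.Agent.S9705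
import Groth.Agent.S19434
set_option backward.isDefEq.respectTransparency.types false

/-!
A smooth plane quartic is not hyperelliptic (S7843). pullS (pullback of global sections), sv_pullS_smul, germ_mem_range (ratios of pulled back sections lie in the image of the function field of the target), dim_le_of_locallyQuasiFinite / dim_le_of_surjective (dimension under quasi-finite / surjective k-morphisms), surjective_of_finrank, map_genericPoint_of_surjective, residueDegree_of_finrank' (general integral target curve), facts, exists_deg_two (genus zero curve: invertible module of degree 2 with 3 sections), exists_pullback_canonical, quartic_O1 (h0=3,h1=1 of O_C(1)), quartic_OC, quartic_canonical (O_C(1) = Omega on a smooth plane quartic), psi / mem_of_generators (function field of a closed subscheme of P^n is generated by coordinate ratios), ffMap_surjective_of_sections, not_double_cover.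
-/

set_option autoImplicit false
set_option linter.style.haveILetI false
set_option linter.unusedSectionVars false
universe u v

open CategoryTheory CategoryTheory.Limits AlgebraicGeometry TopologicalSpace Opposite

namespace Groth.Agent.Lib.R2H1.QuarticNotHyp

section Part1

open CategoryTheory CategoryTheory.Limits AlgebraicGeometry TopologicalSpace Opposite
open Groth.Agent.Lib.Helper23.GenLocus Groth.Agent.Lib.Helper6 Groth.Agent.Lib.Helper23.AmpleIso
open Groth.Agent.Lib.Helper23.Extend Groth.Agent.Lib.Helper23.SecTw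
open Groth.Agent.Helper13PullbackUnit Groth.Agent.Lib.Helper23.PB
open Groth.Agent.Lib.R2H1.NormPush

variable {X Y : Scheme.{u}} (h : X ⟶ Y)

/-- pullback of a global section -/
noncomputable def pullS (A : Y.Modules) (q : Coh.structureModule Y ⟶ A) :
    Coh.structureModule X ⟶ (Scheme.Modules.pullback h).obj A :=
  (pullbackUnitIso h).inv ≫ (Scheme.Modules.pullback h).map q

/-- on the preimage of an affine open the pulled-back section is a fixed multiple of `unitSec` -/
theorem exists_sv_pullS {W : Y.Opens} (hW : IsAffineOpen W) :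
    ∃ α : Γ(X, h ⁻¹ᵁ W), ∀ (A : Y.Modules) (q : Coh.structureModule Y ⟶ A),
      sv (pullS h A q) (h ⁻¹ᵁ W) = α • unitSec h A le_rfl (sv q W) := by
  haveI : (Coh.structureModule Y).IsQuasicoherent :=
    Groth.Agent.Lib.Helper23.Serre.isQuasicoherent_structureModule' Y
  have hω := isGen_unitSec h (Coh.structureModule Y) hW (toS W 1) (isGen_one W)
  obtain ⟨α, hα⟩ : ∃ α : Γ(X, h ⁻¹ᵁ W),
      α = coef hω le_rfl ((pullbackUnitIso h).inv.app (h ⁻¹ᵁ W) (toS (h ⁻¹ᵁ W) 1)) := ⟨_, rfl⟩
  have hαs : α • unitSec h (Coh.structureModule Y) le_rfl (toS W 1) =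
      (pullbackUnitIso h).inv.app (h ⁻¹ᵁ W) (toS (h ⁻¹ᵁ W) 1) := by
    have := coef_spec hω le_rfl ((pullbackUnitIso h).inv.app (h ⁻¹ᵁ W) (toS (h ⁻¹ᵁ W) 1))
    rw [res_self] at this
    rw [hα]
    exact this
  refine ⟨α, fun A q => ?_⟩
  unfold pullS
  rw [sv_comp]
  change ((Scheme.Modules.pullback h).map q).app (h ⁻¹ᵁ W)
    ((pullbackUnitIso h).inv.app (h ⁻¹ᵁ W) (toS (h ⁻¹ᵁ W) 1)) = _
  rw [← hαs, Scheme.Modules.Hom.app_smul, map_unitSec]
  rfl

theorem sv_pullS_smul {W : Y.Opens} (hW : IsAffineOpen W) (A : Y.Modules)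
    (q q₀ : Coh.structureModule Y ⟶ A) (c : Γ(Y, W)) (hc : sv q W = c • sv q₀ W) :
    sv (pullS h A q) (h ⁻¹ᵁ W) = (h.app W c) • sv (pullS h A q₀) (h ⁻¹ᵁ W) := by
  obtain ⟨α, hα⟩ := exists_sv_pullS h hW
  rw [hα A q, hα A q₀, hc, unitSec_smul, Scheme.Hom.appLE_eq_app, smul_smul, smul_smul, mul_comm]

theorem germ_resf [IsIntegral X] {U V : X.Opens} [Nonempty U] [Nonempty V] (hVU : V ≤ U)
    (r : Γ(X, U)) :
    X.germToFunctionField V (resf hVU r) = X.germToFunctionField U r := by
  unfold Scheme.germToFunctionField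
  exact TopCat.Presheaf.germ_res_apply X.presheaf (homOfLE hVU) (genericPoint X) _ r

/-- **core theorem**: ratios of pulled back sections come from the function field of the target -/
theorem germ_mem_range [IsIntegral X] [IsIntegral Y]
    (hξ : h (genericPoint X) = genericPoint Y)
    (A : Y.Modules) (hA : PicF.IsInvertible A) (M : X.Modules)
    (β : (Scheme.Modules.pullback h).obj A ≅ M)
    (q q₀ : Coh.structureModule Y ⟶ A)
    (U : X.Opens) [Nonempty U] (u : Γ(X, U))
    (hgen : IsGen M U (sv (pullS h A q₀ ≫ β.hom) U))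
    (hu : sv (pullS h A q ≫ β.hom) U = u • sv (pullS h A q₀ ≫ β.hom) U) :
    X.germToFunctionField U u ∈ (ffMap h hξ).range := by
  have hηU : genericPoint X ∈ U := mem_of_generic U
  have h1 : U ≤ CohB1.genLocus M (pullS h A q₀ ≫ β.hom) := le_genLocus_of_isGen M _ U hgen
  rw [genLocus_comp_iso β] at h1
  have h2 : CohB1.genLocus _ (pullS h A q₀) = h ⁻¹ᵁ CohB1.genLocus A q₀ :=
    genLocus_pullback h A hA q₀ (pullbackUnitIso h).symm
  rw [h2] at h1
  have h3 : genericPoint Y ∈ CohB1.genLocus A q₀ := by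
    rw [← hξ]; exact h1 hηU
  obtain ⟨W, hW, hηW, hWle⟩ := exists_isAffineOpen_mem_and_subset (X := Y)
    (x := genericPoint Y) (U := CohB1.genLocus A q₀) h3
  have hgen₀ : IsGen A W (sv q₀ W) := by
    have := (isGen_sv_genLocus A q₀).mono hWle
    rwa [res_sv] at this
  obtain ⟨c, hc⟩ : ∃ c : Γ(Y, W), sv q W = c • sv q₀ W :=
    ⟨coef hgen₀ le_rfl (sv q W), sv_eq_coef_smul q hgen₀⟩
  have h4 := sv_pullS_smul h hW A q q₀ c hc
  have h5 : sv (pullS h A q ≫ β.hom) (h ⁻¹ᵁ W) =
      (h.app W c) • sv (pullS h A q₀ ≫ β.hom) (h ⁻¹ᵁ W) := by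
    rw [sv_comp, sv_comp, h4, Scheme.Modules.Hom.app_smul]
  haveI : Nonempty W := ⟨⟨_, hηW⟩⟩
  have hηW' : genericPoint X ∈ h ⁻¹ᵁ W := by
    change h (genericPoint X) ∈ W
    rw [hξ]; exact hηW
  haveI : Nonempty (h ⁻¹ᵁ W : X.Opens) := ⟨⟨_, hηW'⟩⟩
  haveI : Nonempty (U ⊓ h ⁻¹ᵁ W : X.Opens) := ⟨⟨_, ⟨hηU, hηW'⟩⟩⟩
  have hU'U : U ⊓ h ⁻¹ᵁ W ≤ U := inf_le_left
  have hU'W : U ⊓ h ⁻¹ᵁ W ≤ h ⁻¹ᵁ W := inf_le_right
  have e1 := congrArg (res M hU'U) hu
  have e2 := congrArg (res M hU'W) h5
  rw [res_sv, res_smul, res_sv] at e1 e2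
  have e3 : resf hU'U u = resf hU'W (h.app W c) := by
    apply (hgen _ hU'U).1
    change resf hU'U u • res M hU'U (sv (pullS h A q₀ ≫ β.hom) U) =
      resf hU'W (h.app W c) • res M hU'U (sv (pullS h A q₀ ≫ β.hom) U)
    rw [res_sv, ← e1, ← e2]
  refine ⟨Y.germToFunctionField W c, ?_⟩
  rw [ffMap_germ, ← germ_resf hU'U u, ← germ_resf hU'W (h.app W c), e3]

end Part1

section Part2

open CategoryTheory CategoryTheory.Limits AlgebraicGeometry TopologicalSpace Opposite
open Groth.Agent.Lib.Helper4.VarDim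

attribute [local instance] sectionsAlgebra Curv2.resAlgebra

variable (k : Type u) [Field k] {X Y : Scheme.{u}} [X.Over (Spec (CommRingCat.of k))]
  [Y.Over (Spec (CommRingCat.of k))]
  [LocallyOfFiniteType (X ↘ Spec (CommRingCat.of k))]
  [LocallyOfFiniteType (Y ↘ Spec (CommRingCat.of k))]

/-- a locally quasi-finite morphism of finite type `k`-schemes does not raise the dimension -/
theorem dim_le_of_locallyQuasiFinite (f : X ⟶ Y)
    (hf : f ≫ (Y ↘ Spec (CommRingCat.of k)) = X ↘ Spec (CommRingCat.of k))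
    [LocallyQuasiFinite f] : topologicalKrullDim X ≤ topologicalKrullDim Y := by
  haveI : LocallyOfFiniteType f := by
    have : LocallyOfFiniteType (f ≫ (Y ↘ Spec (CommRingCat.of k))) := by rw [hf]; infer_instance
    exact locallyOfFiniteType_of_comp f (Y ↘ Spec (CommRingCat.of k))
  refine topologicalKrullDim_le_of_forall_trdegNat_le' k X _ fun t => ?_
  have h1 := trdeg_add_trdeg_residueFieldMap k f hf t
  rw [trdeg_residueFieldMap_eq_zero_of_locallyQuasiFinite f t, add_zero,
    trdeg_eq_trdegNat k Y (f t), trdeg_eq_trdegNat k X t] at h1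
  have h2 : trdegNat k Y (f t) = trdegNat k X t := by exact_mod_cast h1
  have h3 := trdegNat_le_topologicalKrullDim k Y (f t)
  rw [h2] at h3
  exact h3

/-- a surjective morphism of finite type `k`-schemes does not lower the dimension -/
theorem dim_le_of_surjective [CompactSpace Y] (f : X ⟶ Y)
    (hf : f ≫ (Y ↘ Spec (CommRingCat.of k)) = X ↘ Spec (CommRingCat.of k))
    (hs : Function.Surjective f) : topologicalKrullDim Y ≤ topologicalKrullDim X := by
  rcases isEmpty_or_nonempty Y with hY | hY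
  · rw [topologicalKrullDim_eq_bot_of_isEmpty]; exact bot_le
  obtain ⟨η, -, hη⟩ := exists_trdegNat_eq_topologicalKrullDim k Y
  obtain ⟨w, rfl⟩ := hs η
  have h1 := trdegNat_le_of_hom k f hf w
  have h2 := trdegNat_le_topologicalKrullDim k X w
  rw [hη]
  refine le_trans ?_ h2
  exact_mod_cast h1

end Part2

section Part3

open CategoryTheory CategoryTheory.Limits AlgebraicGeometry TopologicalSpace Opposite
open Groth.Agent.Lib.R2H1.CurveBC Groth.Agent.Lib.R2H1.CurveEuler Groth.Agent.Lib.R2H1.DegPullback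


section Map

variable {C P : Scheme.{u}} (h : C ⟶ P)

/-- a finite flat morphism of positive rank is surjective -/
theorem surjective_of_finrank [IsFinite h] [Flat h] [LocallyOfFinitePresentation h]
    (d : ℕ) (hd : 1 ≤ d) (hrk : ∀ y, Scheme.Hom.finrank h y = d) : Function.Surjective h := by
  have h1 : Surjective h := by
    rw [← Scheme.Hom.one_le_finrank_iff_surjective]
    intro y
    rw [hrk y]
    exact hd
  exact h1.surj

theorem irreducibleSpace_of_surjective [IrreducibleSpace C] (hs : Function.Surjective h) :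
    IrreducibleSpace P := by
  have h1 : IsIrreducible (h '' (Set.univ : Set C)) :=
    (IrreducibleSpace.isIrreducible_univ C).image h h.continuous.continuousOn
  rw [Set.image_univ_of_surjective hs] at h1
  haveI : Nonempty P := ⟨h1.nonempty.some⟩
  haveI : PreirreducibleSpace P := ⟨h1.isPreirreducible⟩
  exact { toNonempty := ‹Nonempty P› }

theorem map_genericPoint_of_surjective [IsIntegral C] [IsIntegral P] (hs : Function.Surjective h) :
    h (genericPoint C) = genericPoint P := by
  have h1 := (genericPoint_spec C).image h.continuous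
  rw [Set.image_univ_of_surjective hs, closure_univ] at h1
  exact h1.eq (genericPoint_spec P)

end Map

section Facts

variable (k : Type u) [Field k] (C P : Scheme.{u}) [C.Over (Spec (CommRingCat.of k))]
  [P.Over (Spec (CommRingCat.of k))]
  [IsProper (C ↘ Spec (CommRingCat.of k))] [Smooth (C ↘ Spec (CommRingCat.of k))]
  [IsProper (P ↘ Spec (CommRingCat.of k))] [Smooth (P ↘ Spec (CommRingCat.of k))]

include k in
/-- a finite flat morphism of constant rank `d` between integral curves has generic residue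
degree `d` -/
theorem residueDegree_of_finrank' [IsIntegral C] [IsIntegral P]
    (hdimC : topologicalKrullDim C = 1) (hdimP : topologicalKrullDim P = 1)
    (r : C ⟶ P) [IsFinite r] [Flat r]
    (hξ : r (genericPoint C) = genericPoint P)
    (d : ℕ) (hrk : ∀ y, Scheme.Hom.finrank r y = d) :
    r.residueDegree (genericPoint C) = d := by
  haveI := isNoetherian_of_proper k C
  haveI := isNoetherian_of_proper k P
  haveI : LocallyOfFinitePresentation r :=
    LocallyOfFinitePresentation.iff_locallyOfFiniteType.mpr inferInstance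
  have hrank := Groth.Agent.Lib.H9FEtDegA.rank_of_finrank_eq r d hrk
  have h3 := (Groth.Agent.Lib.R2H4DegAdd.stalk_facts hrank (genericPoint P)).2.2
  have hcl : IsClosedMap r := r.isClosedMap
  have hfib := fiber_generic r hdimC.le hdimP hcl hξ
  rw [← finrank_stalk_congr ((Scheme.Modules.pushforward r).obj (Coh.structureModule C)) _ _ hξ]
    at h3
  have h1 := finrank_stalk_pushO r hcl (genericPoint C) hfib
  have h2 := finrank_stalk_eq_residueDegree r (genericPoint C)
    (isField_stalk_of_eq_genericPoint _ rfl) (isField_stalk_of_eq_genericPoint _ hξ)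
  exact (h1.trans h2).symm.trans h3

theorem facts (hC0 : Module.finrank k (Coh.HH C (Coh.structureModule C) 0) = 1)
    (hP : topologicalKrullDim P = 1)
    (hP0 : (Module.finrank k (Coh.HH P (Coh.structureModule P) 0) : ℤ) -
      Module.finrank k (Coh.HH P (Coh.structureModule P) 1) = 1)
    (h : C ⟶ P) (hh : h ≫ (P ↘ Spec (CommRingCat.of k)) = C ↘ Spec (CommRingCat.of k))
    [IsFinite h] [Flat h] (hrk : ∀ y, Scheme.Hom.finrank h y = 2) :
    ∃ (_ : GeometricallyConnected (C ↘ Spec (CommRingCat.of k)))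
      (_ : GeometricallyConnected (P ↘ Spec (CommRingCat.of k)))
      (_ : IsIntegral C) (_ : IsIntegral P) (_ : h (genericPoint C) = genericPoint P),
      topologicalKrullDim C = 1 ∧ Curv2.genus k P = 0 ∧
      Module.finrank k (Coh.HH P (Coh.structureModule P) 0) = 1 ∧
      h.residueDegree (genericPoint C) = 2 := by
  haveI gcC := geometricallyConnected_of_h0 k C hC0
  haveI intC := isIntegral_of_geometricallyConnected k C
  haveI := isNoetherian_of_proper k C
  haveI := isNoetherian_of_proper k P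
  haveI : LocallyOfFinitePresentation h :=
    LocallyOfFinitePresentation.iff_locallyOfFiniteType.mpr inferInstance
  have hs := surjective_of_finrank h 2 (by norm_num) hrk
  haveI := irreducibleSpace_of_surjective h hs
  haveI : IsReduced P :=
    Groth.Agent.Lib.Helper12.Reduced.isReduced_of_smooth (P ↘ Spec (CommRingCat.of k))
  haveI intP : IsIntegral P := isIntegral_of_irreducibleSpace_of_isReduced P
  have hξ := map_genericPoint_of_surjective h hs
  have hdC : topologicalKrullDim C = 1 := by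
    apply le_antisymm
    · rw [← hP]
      exact dim_le_of_locallyQuasiFinite k h hh
    · rw [← hP]
      exact dim_le_of_surjective k h hh hs
  have hinvO := Groth.Agent.Lib.Helper23.TensorUnit.isInvertible_structureModule P
  have e1 := Groth.Agent.Lib.R2H1.HyperellCanon.finrank_H0_le_pullback k h hh hξ _ hinvO
  have e2 := Groth.Agent.Lib.R2H2.ClosedPnLin.finrank_HH_of_iso k
    (Groth.Agent.Lib.Helper23.PB.pullbackUnitIso h) 0
  rw [e2, hC0] at e1
  have hP0' : Module.finrank k (Coh.HH P (Coh.structureModule P) 0) = 1 := by omega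
  have hg : Curv2.genus k P = 0 := by
    unfold Curv2.genus
    omega
  haveI gcP := geometricallyConnected_of_h0 k P hP0'
  exact ⟨gcC, gcP, intC, intP, hξ, hdC, hg, hP0',
    residueDegree_of_finrank' k C P hdC hP h hξ 2 hrk⟩

end Facts

end Part3

section Part4

open CategoryTheory CategoryTheory.Limits AlgebraicGeometry TopologicalSpace Opposite
open Groth.Agent.Lib.R2H1.CurveBC Groth.Agent.Lib.R2H1.CurveEuler Groth.Agent.Lib.R2H1.DegPullback
open Groth.Agent.Lib.R2H2.PnBeilinson Groth.Agent.Lib.R2H1.CurveDegSec Groth.Agent.Lib.R2H1.CurveAmple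
open Groth.Agent.Lib.R2H1.HyperellCanon

variable (k : Type u) [Field k] (C P : Scheme.{u}) [C.Over (Spec (CommRingCat.of k))]
  [P.Over (Spec (CommRingCat.of k))]
  [IsProper (C ↘ Spec (CommRingCat.of k))] [Smooth (C ↘ Spec (CommRingCat.of k))]
  [IsProper (P ↘ Spec (CommRingCat.of k))] [Smooth (P ↘ Spec (CommRingCat.of k))]
  [GeometricallyConnected (C ↘ Spec (CommRingCat.of k))]
  [GeometricallyConnected (P ↘ Spec (CommRingCat.of k))]
  [IsIntegral C] [IsIntegral P]

/-- on a genus zero curve there is an invertible module of degree two with three sections -/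
theorem exists_deg_two (hdP : topologicalKrullDim P = 1) (hgP : Curv2.genus k P = 0)
    (hP0 : Module.finrank k (Coh.HH P (Coh.structureModule P) 0) = 1) :
    ∃ A : P.Modules, PicF.IsInvertible A ∧ Curv2.deg k P A 1 = 2 ∧
      3 ≤ Module.finrank k (Coh.HH P A 0) := by
  have hΩ := isInvertible_omega k P hdP
  obtain ⟨-, dΩ⟩ := numerics_omega_of_geometricallyConnected k P hdP
  obtain ⟨A, hA, ⟨e⟩⟩ := Groth.Agent.Lib.R2H1.InvExists.exists_inverse _ hΩ
  have d1 := deg_tensorMod k P hdP _ A hΩ hA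
  have d2 := deg_congr k P e 1
  have d3 : Curv2.deg k P (Coh.structureModule P) 1 = 0 := by
    unfold Curv2.deg
    push_cast
    ring
  rw [hgP] at dΩ
  have dA : Curv2.deg k P A 1 = 2 := by
    rw [d2, d3, dΩ] at d1
    push_cast at d1
    linarith
  refine ⟨A, hA, dA, ?_⟩
  have cA := isCoh_of_isInvertible A hA
  have cO := isCoh_of_isInvertible _ (Groth.Agent.Lib.Helper23.TensorUnit.isInvertible_structureModule P)
  have eA := euler_eq_h0_sub_h1 k P hdP.le A cA.1
  have eO := euler_eq_h0_sub_h1 k P hdP.le (Coh.structureModule P) cO.1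
  unfold Curv2.genus at hgP
  unfold Curv2.deg at dA
  rw [eA, eO, hgP, hP0] at dA
  push_cast at dA
  omega

/-- the canonical sheaf of a "hyperelliptic" genus three curve is pulled back from the genus zero
curve, together with all its sections -/
theorem exists_pullback_canonical (hdC : topologicalKrullDim C = 1)
    (hdP : topologicalKrullDim P = 1) (hgP : Curv2.genus k P = 0)
    (hP0 : Module.finrank k (Coh.HH P (Coh.structureModule P) 0) = 1)
    (hgC : Curv2.genus k C = 3)
    (h : C ⟶ P) (hh : h ≫ (P ↘ Spec (CommRingCat.of k)) = C ↘ Spec (CommRingCat.of k))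
    (hξ : h (genericPoint C) = genericPoint P)
    (hres : h.residueDegree (genericPoint C) = 2)
    (M : C.Modules) (eM : M ≅ Omega.sheaf (C ↘ Spec (CommRingCat.of k))) :
    ∃ (A : P.Modules) (_ : PicF.IsInvertible A) (β : (Scheme.Modules.pullback h).obj A ≅ M),
      ∀ s : Coh.structureModule C ⟶ M, ∃ q : Coh.structureModule P ⟶ A,
        s = pullS h A q ≫ β.hom := by
  obtain ⟨A, hA, dA, h0A⟩ := exists_deg_two k P hdP hgP hP0
  have hN := Groth.Agent.Lib.Helper23.PB.isInvertible_pullback h A hA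
  have dN := s7640 k C P hdC hdP h hh hξ 1 A
    (Groth.Agent.Lib.Helper23.SecTw.isFinLocFreeOfRank_one_of_isInvertible A hA)
  rw [hres, dA] at dN
  have h0N := finrank_H0_le_pullback k h hh hξ A hA
  obtain ⟨eN⟩ := iso_omega_of_deg_of_h0 k C hdC _ hN
    (by rw [dN, hgC]; norm_num) (by rw [hgC]; omega)
  obtain ⟨h0Ω, -⟩ := numerics_omega_of_geometricallyConnected k C hdC
  have h0N' : Module.finrank k (Coh.HH C ((Scheme.Modules.pullback h).obj A) 0) = 3 := by
    rw [Groth.Agent.Lib.R2H2.ClosedPnLin.finrank_HH_of_iso k eN 0, h0Ω, hgC]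
  have h0A' : Module.finrank k (Coh.HH P A 0) = 3 := by omega
  -- the pullback map on sections is bijective
  haveI := Groth.Agent.Lib.R2H1.EulerAdd.finite_HH k C _ (isCoh_of_isInvertible _ hN) 0
  haveI := Groth.Agent.Lib.R2H1.EulerAdd.finite_HH k P _ (isCoh_of_isInvertible _ hA) 0
  haveI : Module.Finite k (Coh.structureModule C ⟶ (Scheme.Modules.pullback h).obj A) :=
    Module.Finite.equiv (clsEquiv (k := k) ((Scheme.Modules.pullback h).obj A)).symm
  haveI : Module.Finite k (Coh.structureModule P ⟶ A) :=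
    Module.Finite.equiv (clsEquiv (k := k) A).symm
  have hfr : Module.finrank k (Coh.structureModule P ⟶ A) =
      Module.finrank k (Coh.structureModule C ⟶ (Scheme.Modules.pullback h).obj A) := by
    rw [(clsEquiv (k := k) A).finrank_eq,
      (clsEquiv (k := k) ((Scheme.Modules.pullback h).obj A)).finrank_eq, h0A', h0N']
  have hsurj : Function.Surjective (pullHom k h hh A) :=
    (LinearMap.injective_iff_surjective_of_finrank_eq_finrank hfr).1
      (pullHom_injective k h hh hξ A hA)
  refine ⟨A, hA, eN ≪≫ eM.symm, fun s => ?_⟩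
  obtain ⟨q, hq⟩ := hsurj (s ≫ (eN ≪≫ eM.symm).inv)
  refine ⟨q, ?_⟩
  have : pullS h A q = s ≫ (eN ≪≫ eM.symm).inv := hq
  rw [this, Category.assoc, Iso.inv_hom_id, Category.comp_id]

end Part4

section Part5

open CategoryTheory CategoryTheory.Limits AlgebraicGeometry TopologicalSpace Opposite
open Groth.Agent.Lib.R2H1.CurveBC Groth.Agent.Lib.R2H1.CurveEuler
open Groth.Agent.Lib.R2H1.CurveDegSec Groth.Agent.Lib.R2H1.CurveAmple
open Groth.Agent.Lib.R2H1.HypIdeal

variable (k : Type u) [Field k] (f : LefPen.Form 2 k 4) (hf : f ≠ 0)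
  [inst : ((LefPen.hypIdeal f).subscheme).Over (Spec (CommRingCat.of k))]
  (hinst : (LefPen.hypIdeal f).subscheme ↘ (Spec (CommRingCat.of k)) =
    (LefPen.hypIdeal f).subschemeι ≫ CohB1.ProjSpace.toSpec 2 k)

include hinst in
theorem isProper_quartic : IsProper ((LefPen.hypIdeal f).subscheme ↘ (Spec (CommRingCat.of k))) := by
  haveI : IsProper (CohB1.ProjSpace.toSpec 2 k) :=
    Groth.Agent.S9705.isProper_projSpace_toSpec 2 k
  rw [hinst]
  infer_instance

include hf hinst in
/-- cohomology of `O_C(1)` on a plane quartic -/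
theorem quartic_O1 :
    Module.finrank k (Coh.HH (LefPen.hypIdeal f).subscheme
      ((Scheme.Modules.pullback (LefPen.hypIdeal f).subschemeι).obj
        (Twist.twistProjSpace 2 k 1)) 0) = 3 ∧
    Module.finrank k (Coh.HH (LefPen.hypIdeal f).subscheme
      ((Scheme.Modules.pullback (LefPen.hypIdeal f).subschemeι).obj
        (Twist.twistProjSpace 2 k 1)) 1) = 1 := by
  obtain ⟨-, ⟨-, h0⟩, ⟨-, h1⟩⟩ := Groth.Agent.S19434.result k 1 4 le_rfl (by norm_num)
    (LefPen.hypIdeal f) (nonempty_idealMod_hypIdeal_iso f hf) 1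
  have hM : (Coh.structureModule (LefPen.hypIdeal f).subscheme).IsQuasicoherent :=
    Groth.Agent.Lib.Helper23.Serre.isQuasicoherent_structureModule' _
  have e0 := Groth.Agent.Lib.R2H2.ClosedPnLin.finrank_HH_twistOn_eq 2 k
    (LefPen.hypIdeal f).subschemeι hinst.symm _ hM 1 0
  have e1 := Groth.Agent.Lib.R2H2.ClosedPnLin.finrank_HH_twistOn_eq 2 k
    (LefPen.hypIdeal f).subschemeι hinst.symm _ hM 1 1
  have u := Groth.Agent.Lib.Helper23.TensorUnit.unitTensorIso
    ((Scheme.Modules.pullback (LefPen.hypIdeal f).subschemeι).obj (Twist.twistProjSpace 2 k 1))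
  rw [← Groth.Agent.Lib.R2H2.ClosedPnLin.finrank_HH_of_iso k u 0,
    ← Groth.Agent.Lib.R2H2.ClosedPnLin.finrank_HH_of_iso k u 1]
  refine ⟨e0.trans (h0.trans ?_), e1.trans (h1.trans ?_)⟩
  · have a1 : ((1 : ℤ) + (((1 : ℕ) : ℤ) + 1)).toNat = 3 := by norm_num; rfl
    have a2 : ((1 : ℤ) - ((4 : ℕ) : ℤ) + (((1 : ℕ) : ℤ) + 1)).toNat = 0 := by norm_num
    rw [a1, a2]
    decide
  · have a1 : ((((4 : ℕ) : ℤ) - 2 - ((1 : ℕ) : ℤ) - 1) + (((1 : ℕ) : ℤ) + 1)).toNat = 2 := by norm_num; rfl
    have a2 : ((((4 : ℕ) : ℤ) - 2 - ((1 : ℕ) : ℤ) - 1) - ((4 : ℕ) : ℤ) + (((1 : ℕ) : ℤ) + 1)).toNat = 0 := by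
      norm_num
    rw [a1, a2]
    decide

include hf hinst in
theorem quartic_OC :
    Module.finrank k (Coh.HH (LefPen.hypIdeal f).subscheme
      (Coh.structureModule (LefPen.hypIdeal f).subscheme) 0) = 1 ∧
    Curv2.genus k (LefPen.hypIdeal f).subscheme = 3 := by
  obtain ⟨-, h0, -, h1⟩ := hyp_cohomology k 1 4 le_rfl (by norm_num) f hf hinst
  refine ⟨h0, ?_⟩
  unfold Curv2.genus
  rw [h1]
  decide

include hf hinst in
/-- on a smooth plane quartic, `O_C(1)` is the canonical sheaf -/
theorem quartic_canonical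
    [IsProper ((LefPen.hypIdeal f).subscheme ↘ (Spec (CommRingCat.of k)))]
    [Smooth ((LefPen.hypIdeal f).subscheme ↘ (Spec (CommRingCat.of k)))]
    [GeometricallyConnected ((LefPen.hypIdeal f).subscheme ↘ (Spec (CommRingCat.of k)))]
    (hdim : topologicalKrullDim (LefPen.hypIdeal f).subscheme = 1) :
    Nonempty ((Scheme.Modules.pullback (LefPen.hypIdeal f).subschemeι).obj
        (Twist.twistProjSpace 2 k 1) ≅
      Omega.sheaf ((LefPen.hypIdeal f).subscheme ↘ (Spec (CommRingCat.of k)))) := by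
  obtain ⟨hC0, hg⟩ := quartic_OC k f hf hinst
  obtain ⟨a0, a1⟩ := quartic_O1 k f hf hinst
  haveI := isIntegral_of_geometricallyConnected k (LefPen.hypIdeal f).subscheme
  have hO1 := Groth.Agent.Lib.R2Lead.KRR.isInvertible_twistProjSpace 2 k 1
  have hL := Groth.Agent.Lib.Helper23.PB.isInvertible_pullback (LefPen.hypIdeal f).subschemeι _ hO1
  have cL := isCoh_of_isInvertible _ hL
  have cO := isCoh_of_isInvertible _
    (Groth.Agent.Lib.Helper23.TensorUnit.isInvertible_structureModule (LefPen.hypIdeal f).subscheme)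
  have eL := euler_eq_h0_sub_h1 k (LefPen.hypIdeal f).subscheme hdim.le _ cL.1
  have eO := euler_eq_h0_sub_h1 k (LefPen.hypIdeal f).subscheme hdim.le _ cO.1
  refine iso_omega_of_deg_of_h0 k _ hdim _ hL ?_ ?_
  · unfold Curv2.deg
    rw [eL, eO, a0, a1, hC0, hg]
    unfold Curv2.genus at hg
    rw [hg]
    norm_num
  · rw [hg, a0]

end Part5

section Part6

open CategoryTheory CategoryTheory.Limits AlgebraicGeometry TopologicalSpace Opposite
open Groth.Agent.Helper13ProjUP Groth.Agent.Helper13Dehom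
open Groth.Agent.Lib.R2H1.DblCoverGeom Groth.Agent.Lib.R2H1.HypIdeal
open Groth.Agent.Lib.Helper6

variable {n : ℕ} {k : Type u} [Field k]

local notation "𝒫" => CohB1.polyGrading n k

variable {X : Scheme.{u}} [IsIntegral X] (r : X ⟶ Proj (CohB1.polyGrading n k))
  (j₀ : Fin (n + 1))
  [hne : Nonempty (VV r (MvPolynomial.X j₀ : MvPolynomial (Fin (n + 1)) k))]

/-- `p ↦` the germ of `r^#(p / T_{j₀}^{deg p})` -/
noncomputable def ψ : MvPolynomial (Fin (n + 1)) k →+* X.functionField :=
  (X.germToFunctionField (VV r (MvPolynomial.X j₀ : MvPolynomial (Fin (n + 1)) k))).hom.comp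
    ((r.appLE _ _ le_rfl).hom.comp (dehom (X_mem (r := n) (k := k) j₀)))

theorem ψ_apply (p : MvPolynomial (Fin (n + 1)) k) :
    ψ r j₀ p = X.germToFunctionField (VV r (MvPolynomial.X j₀ : MvPolynomial (Fin (n + 1)) k))
      (ratio r (X_mem (r := n) (k := k) j₀) p le_rfl) := rfl

theorem exists_ψ_div [IsClosedImmersion r] (z : X.functionField) :
    ∃ a b : MvPolynomial (Fin (n + 1)) k, ψ r j₀ b ≠ 0 ∧ z = ψ r j₀ a / ψ r j₀ b := by
  have hD : IsAffineOpen (Proj.basicOpen 𝒫 (MvPolynomial.X j₀ : MvPolynomial (Fin (n + 1)) k)) :=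
    isAffineOpen_basicOpen (X_mem (r := n) (k := k) j₀)
  have hU : IsAffineOpen (VV r (MvPolynomial.X j₀ : MvPolynomial (Fin (n + 1)) k)) :=
    hD.preimage r
  haveI := functionField_isFractionRing_of_isAffineOpen _ _ hU
  obtain ⟨x, y, hy, hxy⟩ := IsFractionRing.div_surjective
    (A := Γ(X, VV r (MvPolynomial.X j₀ : MvPolynomial (Fin (n + 1)) k))) z
  have hs := Scheme.Hom.app_surjective r _ hD
  obtain ⟨x', hx'⟩ := hs x
  obtain ⟨y', hy'⟩ := hs y
  obtain ⟨_, a, _, ha⟩ := exists_dehom_eq (X_mem (r := n) (k := k) j₀) x'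
  obtain ⟨_, b, _, hb⟩ := exists_dehom_eq (X_mem (r := n) (k := k) j₀) y'
  have e1 : ψ r j₀ a = algebraMap _ X.functionField x := by
    rw [ψ_apply]
    unfold ratio
    rw [ha, Scheme.Hom.appLE_eq_app, hx']
    rfl
  have e2 : ψ r j₀ b = algebraMap _ X.functionField y := by
    rw [ψ_apply]
    unfold ratio
    rw [hb, Scheme.Hom.appLE_eq_app, hy']
    rfl
  refine ⟨a, b, ?_, ?_⟩
  · rw [e2]
    exact IsFractionRing.to_map_ne_zero_of_mem_nonZeroDivisors hy
  · rw [e1, e2, hxy]

/-- the function field of a closed subscheme of projective space is generated by the coordinate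
ratios -/
theorem mem_of_generators [IsClosedImmersion r] (F : Subfield X.functionField)
    (hc : ∀ c : k, ψ r j₀ (MvPolynomial.C c) ∈ F)
    (hX : ∀ j : Fin (n + 1), ψ r j₀ (MvPolynomial.X j) ∈ F) (z : X.functionField) : z ∈ F := by
  have key : ∀ p : MvPolynomial (Fin (n + 1)) k, ψ r j₀ p ∈ F := by
    intro p
    induction p using MvPolynomial.induction_on with
    | C a => exact hc a
    | add p q hp hq => rw [map_add]; exact F.add_mem hp hq
    | mul_X p i hp => rw [map_mul]; exact F.mul_mem hp (hX i)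
  obtain ⟨a, b, -, rfl⟩ := exists_ψ_div r j₀ z
  exact F.div_mem (key a) (key b)

end Part6

section Part7

open CategoryTheory CategoryTheory.Limits AlgebraicGeometry TopologicalSpace Opposite
open Groth.Agent.Helper13ProjUP Groth.Agent.Helper13Dehom
open Groth.Agent.Lib.R2H1.DblCoverGeom Groth.Agent.Lib.R2H1.HypIdeal
open Groth.Agent.Lib.Helper6 Groth.Agent.Lib.Helper23.SecTw Groth.Agent.Lib.R2H1.ProjChart
open Groth.Agent.Lib.R2H1.NormPush



section Chart

variable {n : ℕ} {k : Type u} [Field k]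
variable {X : Scheme.{u}} (r : X ⟶ Proj (CohB1.polyGrading n k))

theorem exists_chart [Nonempty X] :
    ∃ j₀ : Fin (n + 1),
      Nonempty (VV r (MvPolynomial.X j₀ : MvPolynomial (Fin (n + 1)) k)) := by
  obtain ⟨x⟩ := ‹Nonempty X›
  have h1 : r x ∈ (⨆ i : Fin (n + 1), (chartAff (r := n) (k := k) i).1 : (Proj _).Opens) := by
    rw [iSup_chartAff]; trivial
  obtain ⟨j₀, hj₀⟩ := Opens.mem_iSup.1 h1
  exact ⟨j₀, ⟨⟨x, hj₀⟩⟩⟩

end Chart

section Surj

variable {n : ℕ} {k : Type u} [Field k]
variable {X Y : Scheme.{u}} [IsIntegral X] [IsIntegral Y]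
  [X.Over (Spec (CommRingCat.of k))] [Y.Over (Spec (CommRingCat.of k))]
  (r : X ⟶ Proj (CohB1.polyGrading n k)) [IsClosedImmersion r]
  (hr : r ≫ Groth.Agent.Helper13ProjUP.toBase (CohB1.polyGrading n k) =
    X ↘ Spec (CommRingCat.of k))
  (h : X ⟶ Y) (hh : h ≫ (Y ↘ Spec (CommRingCat.of k)) = X ↘ Spec (CommRingCat.of k))
  (hξ : h (genericPoint X) = genericPoint Y)

include hh in
theorem const_mem_range (c : k) :
    X.germToFunctionField ⊤ (Coh.toGlobal (X ↘ Spec (CommRingCat.of k)) c) ∈
      (ffMap h hξ).range := by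
  refine ⟨Y.germToFunctionField ⊤ (Coh.toGlobal (Y ↘ Spec (CommRingCat.of k)) c), ?_⟩
  rw [ffMap_germ]
  have e : (h.app ⊤).hom (Coh.toGlobal (Y ↘ Spec (CommRingCat.of k)) c) =
      Coh.toGlobal (X ↘ Spec (CommRingCat.of k)) c := by
    unfold Coh.toGlobal
    rw [← hh, Scheme.Hom.comp_appTop]
    rfl
  exact congrArg (X.germToFunctionField ⊤) e

include hr hh in
/-- if all sections of `r^* O(1)` are pulled back along `h`, then `h` is birational -/
theorem ffMap_surjective_of_sections
    (A : Y.Modules) (hA : PicF.IsInvertible A)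
    (β : (Scheme.Modules.pullback h).obj A ≅ LL r)
    (hsurj : ∀ s : Coh.structureModule X ⟶ LL r, ∃ q : Coh.structureModule Y ⟶ A,
      s = pullS h A q ≫ β.hom) :
    Function.Surjective (ffMap h hξ) := by
  obtain ⟨j₀, hne⟩ := exists_chart (k := k) r
  intro z
  have hz : z ∈ (ffMap h hξ).fieldRange := by
    refine mem_of_generators r j₀ _ (fun c => ?_) (fun j => ?_) z
    · rw [ψ_apply]
      unfold ratio
      have e1 := appLE_dehom_algebraMap r (X_mem (r := n) (k := k) j₀)
        (X ↘ Spec (CommRingCat.of k)) hr (le_refl _) c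
      rw [MvPolynomial.algebraMap_eq] at e1
      rw [e1, germ_resf]
      exact const_mem_range h hh hξ c
    · rw [ψ_apply]
      obtain ⟨q, hq⟩ := hsurj (σ r (X_mem (r := n) (k := k) j))
      obtain ⟨q₀, hq₀⟩ := hsurj (σ r (X_mem (r := n) (k := k) j₀))
      have s1 := sv_σ r (X_mem (r := n) (k := k) j) (X_mem (r := n) (k := k) j₀) (le_refl _)
      have s0 := sv_σ r (X_mem (r := n) (k := k) j₀) (X_mem (r := n) (k := k) j₀) (le_refl _)
      rw [ratio_self, one_smul] at s0
      have hgen := isGen_pcoord r (X_mem (r := n) (k := k) j₀) (le_refl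
        (VV r (MvPolynomial.X j₀ : MvPolynomial (Fin (n + 1)) k)))
      rw [← s0] at hgen s1
      rw [hq₀] at hgen
      rw [hq, hq₀] at s1
      exact germ_mem_range h hξ A hA (LL r) β q q₀ _ _ hgen s1
  exact hz

end Surj

section Main

variable (k : Type u) [Field k] (f : LefPen.Form 2 k 4) (hf : f ≠ 0)
  [inst : ((LefPen.hypIdeal f).subscheme).Over (Spec (CommRingCat.of k))]
  (hinst : (LefPen.hypIdeal f).subscheme ↘ (Spec (CommRingCat.of k)) =
    (LefPen.hypIdeal f).subschemeι ≫ CohB1.ProjSpace.toSpec 2 k)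
  [Smooth ((LefPen.hypIdeal f).subscheme ↘ (Spec (CommRingCat.of k)))]
  (P : Scheme.{u}) [P.Over (Spec (CommRingCat.of k))]
  [IsProper (P ↘ (Spec (CommRingCat.of k)))] [Smooth (P ↘ (Spec (CommRingCat.of k)))]

include hf hinst in
/-- a smooth plane quartic admits no finite flat morphism of degree two onto a smooth proper
curve of genus zero -/
theorem not_double_cover (hP : topologicalKrullDim P = 1)
    (hP0 : (Module.finrank k (Coh.HH P (Coh.structureModule P) 0) : ℤ) -
      Module.finrank k (Coh.HH P (Coh.structureModule P) 1) = 1)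
    (h : (LefPen.hypIdeal f).subscheme ⟶ P)
    (hh : h ≫ (P ↘ (Spec (CommRingCat.of k))) =
      (LefPen.hypIdeal f).subscheme ↘ (Spec (CommRingCat.of k)))
    [IsFinite h] [Flat h] (hrk : ∀ y : P, Scheme.Hom.finrank h y = 2) : False := by
  haveI := isProper_quartic k f hinst
  obtain ⟨hC0, hgC⟩ := quartic_OC k f hf hinst
  obtain ⟨gcC, gcP, intC, intP, hξ, hdC, hgP, hP0', hres⟩ :=
    facts k _ P hC0 hP hP0 h hh hrk
  obtain ⟨eM⟩ := quartic_canonical k f hf hinst hdC
  obtain ⟨A, hA, β, hsurj⟩ := exists_pullback_canonical k _ P hdC hP hgP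
    hP0' hgC h hh hξ hres _ eM
  let i : (LefPen.hypIdeal f).subscheme ⟶ Proj (CohB1.polyGrading 2 k) :=
    (LefPen.hypIdeal f).subschemeι
  haveI : IsClosedImmersion i :=
    inferInstanceAs (IsClosedImmersion (LefPen.hypIdeal f).subschemeι)
  have hs := ffMap_surjective_of_sections (n := 2) (k := k) i hinst.symm h hh hξ A hA β hsurj
  have hfr := Groth.Agent.Lib.R2H1.DoubleCover.finrank_functionField_eq_residueDegree h hξ
  rw [hres] at hfr
  letI := (ffMap h hξ).toAlgebra
  have hone : Module.finrank P.functionField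
      (LefPen.hypIdeal f).subscheme.functionField = 1 := by
    have e : P.functionField ≃ₗ[P.functionField] (LefPen.hypIdeal f).subscheme.functionField :=
      LinearEquiv.ofBijective (Algebra.linearMap _ _) ⟨(ffMap h hξ).injective, hs⟩
    rw [← e.finrank_eq, Module.finrank_self]
  omega

end Main

end Part7

end Groth.Agent.Lib.R2H1.QuarticNotHyp
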