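import Mathlib
import Groth.Prelude
import Groth.Agent.Lib.R2H1QuarticNotHyp
import Groth.Agent.Lib.R2H1EtaleP1
import Groth.Agent.Lib.R2H1CurveBC
import Groth.Agent.Lib.R2H1HypIdeal
import Groth.Agent.Lib.R2H1DblCoverGeom
import Groth.Agent.S9705
import Groth.Agent.S19434
set_option backward.isDefEq.respectTransparency.types false

/-!
Smooth plane curves of degree at least 4 are not hyperelliptic (S14339). curve_Om (h0, h1 of O_C(d-3)), curve_OC, curve_canonical (O_C(d-3) = Omega on a smooth plane curve of degree d >= 3), Gform (T_j T_j0^(m-1)), ffMap_surjective_of_sections_pow (if all sections of r^*O(m) are pulled back along h then h is birational), exists_sections_of_iso, not_double_cover_P1.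
-/

set_option autoImplicit false
set_option linter.style.haveILetI false
set_option linter.unusedSectionVars false
universe u v

open CategoryTheory CategoryTheory.Limits AlgebraicGeometry TopologicalSpace Opposite

namespace Groth.Agent.Lib.R2H1.PlaneNotHyp

section Part1

open CategoryTheory CategoryTheory.Limits AlgebraicGeometry TopologicalSpace Opposite
open Groth.Agent.Lib.R2H1.CurveBC Groth.Agent.Lib.R2H1.CurveEuler
open Groth.Agent.Lib.R2H1.CurveDegSec Groth.Agent.Lib.R2H1.CurveAmple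
open Groth.Agent.Lib.R2H1.HypIdeal

variable (k : Type u) [Field k] (d : ℕ) (hd : 3 ≤ d) (f : LefPen.Form 2 k d) (hf : f ≠ 0)
  [inst : ((LefPen.hypIdeal f).subscheme).Over (Spec (CommRingCat.of k))]
  (hinst : (LefPen.hypIdeal f).subscheme ↘ (Spec (CommRingCat.of k)) =
    (LefPen.hypIdeal f).subschemeι ≫ CohB1.ProjSpace.toSpec 2 k)

include hinst in
theorem isProper_curve : IsProper ((LefPen.hypIdeal f).subscheme ↘ (Spec (CommRingCat.of k))) := by
  haveI : IsProper (CohB1.ProjSpace.toSpec 2 k) :=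
    Groth.Agent.S9705.isProper_projSpace_toSpec 2 k
  rw [hinst]
  infer_instance

include hd hf hinst in
/-- cohomology of `O_C(d - 3)` on a plane curve of degree `d` -/
theorem curve_Om :
    Module.finrank k (Coh.HH (LefPen.hypIdeal f).subscheme
      ((Scheme.Modules.pullback (LefPen.hypIdeal f).subschemeι).obj
        (Twist.twistProjSpace 2 k ((d - 3 : ℕ) : ℤ))) 0) = Nat.choose (d - 1) 2 ∧
    Module.finrank k (Coh.HH (LefPen.hypIdeal f).subscheme
      ((Scheme.Modules.pullback (LefPen.hypIdeal f).subschemeι).obj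
        (Twist.twistProjSpace 2 k ((d - 3 : ℕ) : ℤ))) 1) = 1 := by
  obtain ⟨-, ⟨-, h0⟩, ⟨-, h1⟩⟩ := Groth.Agent.S19434.result k 1 d le_rfl (by omega)
    (LefPen.hypIdeal f) (nonempty_idealMod_hypIdeal_iso f hf) ((d - 3 : ℕ) : ℤ)
  have hM : (Coh.structureModule (LefPen.hypIdeal f).subscheme).IsQuasicoherent :=
    Groth.Agent.Lib.Helper23.Serre.isQuasicoherent_structureModule' _
  have e0 := Groth.Agent.Lib.R2H2.ClosedPnLin.finrank_HH_twistOn_eq 2 k
    (LefPen.hypIdeal f).subschemeι hinst.symm _ hM ((d - 3 : ℕ) : ℤ) 0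
  have e1 := Groth.Agent.Lib.R2H2.ClosedPnLin.finrank_HH_twistOn_eq 2 k
    (LefPen.hypIdeal f).subschemeι hinst.symm _ hM ((d - 3 : ℕ) : ℤ) 1
  have u := Groth.Agent.Lib.Helper23.TensorUnit.unitTensorIso
    ((Scheme.Modules.pullback (LefPen.hypIdeal f).subschemeι).obj
      (Twist.twistProjSpace 2 k ((d - 3 : ℕ) : ℤ)))
  rw [← Groth.Agent.Lib.R2H2.ClosedPnLin.finrank_HH_of_iso k u 0,
    ← Groth.Agent.Lib.R2H2.ClosedPnLin.finrank_HH_of_iso k u 1]
  refine ⟨e0.trans (h0.trans ?_), e1.trans (h1.trans ?_)⟩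
  · have a1 : (((d - 3 : ℕ) : ℤ) + (((1 : ℕ) : ℤ) + 1)).toNat = d - 1 := by omega
    have a2 : (((d - 3 : ℕ) : ℤ) - (d : ℤ) + (((1 : ℕ) : ℤ) + 1)).toNat = 0 := by omega
    rw [a1, a2]
    simp
  · have a1 : (((d : ℤ) - 2 - ((1 : ℕ) : ℤ) - ((d - 3 : ℕ) : ℤ)) + (((1 : ℕ) : ℤ) + 1)).toNat = 2 := by
      omega
    have a2 : (((d : ℤ) - 2 - ((1 : ℕ) : ℤ) - ((d - 3 : ℕ) : ℤ)) - (d : ℤ) +
        (((1 : ℕ) : ℤ) + 1)).toNat = 0 := by omega
    rw [a1, a2]
    decide

include hd hf hinst in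
theorem curve_OC :
    Module.finrank k (Coh.HH (LefPen.hypIdeal f).subscheme
      (Coh.structureModule (LefPen.hypIdeal f).subscheme) 0) = 1 ∧
    Curv2.genus k (LefPen.hypIdeal f).subscheme = Nat.choose (d - 1) 2 := by
  obtain ⟨-, h0, -, h1⟩ := hyp_cohomology k 1 d le_rfl (by omega) f hf hinst
  refine ⟨h0, ?_⟩
  unfold Curv2.genus
  rw [h1]

include hd hf hinst in
/-- on a smooth plane curve of degree `d`, `O_C(d - 3)` is the canonical sheaf -/
theorem curve_canonical
    [IsProper ((LefPen.hypIdeal f).subscheme ↘ (Spec (CommRingCat.of k)))]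
    [Smooth ((LefPen.hypIdeal f).subscheme ↘ (Spec (CommRingCat.of k)))]
    [GeometricallyConnected ((LefPen.hypIdeal f).subscheme ↘ (Spec (CommRingCat.of k)))]
    (hdim : topologicalKrullDim (LefPen.hypIdeal f).subscheme = 1) :
    Nonempty ((Scheme.Modules.pullback (LefPen.hypIdeal f).subschemeι).obj
        (Twist.twistProjSpace 2 k ((d - 3 : ℕ) : ℤ)) ≅
      Omega.sheaf ((LefPen.hypIdeal f).subscheme ↘ (Spec (CommRingCat.of k)))) := by
  obtain ⟨hC0, hg⟩ := curve_OC k d hd f hf hinst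
  obtain ⟨a0, a1⟩ := curve_Om k d hd f hf hinst
  haveI := isIntegral_of_geometricallyConnected k (LefPen.hypIdeal f).subscheme
  have hO1 := Groth.Agent.Lib.R2Lead.KRR.isInvertible_twistProjSpace 2 k ((d - 3 : ℕ) : ℤ)
  have hL := Groth.Agent.Lib.Helper23.PB.isInvertible_pullback (LefPen.hypIdeal f).subschemeι _ hO1
  have cL := isCoh_of_isInvertible _ hL
  have cO := isCoh_of_isInvertible _
    (Groth.Agent.Lib.Helper23.TensorUnit.isInvertible_structureModule (LefPen.hypIdeal f).subscheme)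
  have eL := euler_eq_h0_sub_h1 k (LefPen.hypIdeal f).subscheme hdim.le _ cL.1
  have eO := euler_eq_h0_sub_h1 k (LefPen.hypIdeal f).subscheme hdim.le _ cO.1
  refine iso_omega_of_deg_of_h0 k _ hdim _ hL ?_ ?_
  · unfold Curv2.deg
    rw [eL, eO, a0, a1, hC0, hg]
    unfold Curv2.genus at hg
    rw [hg]
    push_cast
    ring
  · rw [hg, a0]

end Part1

section Part2

open CategoryTheory CategoryTheory.Limits AlgebraicGeometry TopologicalSpace Opposite
open Groth.Agent.Helper13ProjUP Groth.Agent.Helper13Dehom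
open Groth.Agent.Lib.R2H1.DblCoverGeom Groth.Agent.Lib.R2H1.HypIdeal
open Groth.Agent.Lib.Helper6 Groth.Agent.Lib.Helper23.SecTw Groth.Agent.Lib.R2H1.ProjChart
open Groth.Agent.Lib.R2H1.NormPush Groth.Agent.Lib.Helper23.PB Groth.Agent.Lib.Helper23.AmpleIso
open Groth.Agent.Lib.R2H1.QuarticNotHyp

section Forms

variable {n : ℕ} {k : Type u} [Field k]

/-- the form `T_j T_{j₀}^{m-1}` of degree `m` -/
noncomputable def Gform (m : ℕ) (hm : 1 ≤ m) (j j₀ : Fin (n + 1)) : LefPen.Form n k m :=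
  ⟨MvPolynomial.X j * MvPolynomial.X j₀ ^ (m - 1), by
    have h1 := SetLike.mul_mem_graded (X_mem (r := n) (k := k) j)
      (pow_mem_deg (X_mem (r := n) (k := k) j₀) (m - 1))
    have e : 1 + (m - 1) = m := by omega
    rw [e] at h1
    exact h1⟩

theorem deh_Gform (m : ℕ) (hm : 1 ≤ m) (j j₀ : Fin (n + 1)) :
    deh (Gform (k := k) m hm j j₀) j₀ = dehom (X_mem (r := n) (k := k) j₀) (MvPolynomial.X j) := by
  rw [deh_eq]
  change dehom (X_mem (r := n) (k := k) j₀) (MvPolynomial.X j * MvPolynomial.X j₀ ^ (m - 1)) = _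
  rw [map_mul, map_pow, dehom_self, one_pow, mul_one]

theorem deh_Gform_self (m : ℕ) (hm : 1 ≤ m) (j₀ : Fin (n + 1)) :
    deh (Gform (k := k) m hm j₀ j₀) j₀ = 1 := by
  rw [deh_Gform]
  exact dehom_self _

end Forms

section Surj

variable {n : ℕ} {k : Type u} [Field k]
variable {X Y : Scheme.{u}} [IsIntegral X] [IsIntegral Y]
  [X.Over (Spec (CommRingCat.of k))] [Y.Over (Spec (CommRingCat.of k))]
  (r : X ⟶ Proj (CohB1.polyGrading n k)) [IsClosedImmersion r]
  (hr : r ≫ Groth.Agent.Helper13ProjUP.toBase (CohB1.polyGrading n k) =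
    X ↘ Spec (CommRingCat.of k))
  (h : X ⟶ Y) (hh : h ≫ (Y ↘ Spec (CommRingCat.of k)) = X ↘ Spec (CommRingCat.of k))
  (hξ : h (genericPoint X) = genericPoint Y)

include hr hh in
/-- if all sections of `r^* O(m)`, `m ≥ 1`, are pulled back along `h`, then `h` is birational -/
theorem ffMap_surjective_of_sections_pow (m : ℕ) (hm : 1 ≤ m)
    (A : Y.Modules) (hA : PicF.IsInvertible A)
    (β : (Scheme.Modules.pullback h).obj A ≅
      (Scheme.Modules.pullback r).obj (GrTilde.tilde (CohB1.polyGrading n k)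
        (CohB1.polyGrading n k) (m : ℤ)))
    (hsurj : ∀ s : Coh.structureModule X ⟶
        (Scheme.Modules.pullback r).obj (GrTilde.tilde (CohB1.polyGrading n k)
          (CohB1.polyGrading n k) (m : ℤ)),
      ∃ q : Coh.structureModule Y ⟶ A, s = pullS h A q ≫ β.hom) :
    Function.Surjective (ffMap h hξ) := by
  obtain ⟨j₀, hne⟩ := exists_chart (k := k) r
  intro z
  have hz : z ∈ (ffMap h hξ).fieldRange := by
    refine mem_of_generators r j₀ _ (fun c => ?_) (fun j => ?_) z
    · rw [ψ_apply]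
      unfold ratio
      have e1 := appLE_dehom_algebraMap r (X_mem (r := n) (k := k) j₀)
        (X ↘ Spec (CommRingCat.of k)) hr (le_refl _) c
      rw [MvPolynomial.algebraMap_eq] at e1
      rw [e1, germ_resf]
      exact const_mem_range h hh hξ c
    · rw [ψ_apply]
      have hL : PicF.IsInvertible (GrTilde.tilde (CohB1.polyGrading n k)
          (CohB1.polyGrading n k) (m : ℤ)) := isInv (m : ℤ)
      have hW : IsAffineOpen (chartO (r := n) (k := k) j₀) := (chartAff (r := n) (k := k) j₀).2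
      have c1 := sv_sG_chart (Gform (k := k) m hm j j₀) j₀
      have c0 := sv_sG_chart (Gform (k := k) m hm j₀ j₀) j₀
      rw [deh_Gform_self, one_smul] at c0
      rw [deh_Gform, ← c0] at c1
      have e1 := sv_pullS_smul r hW _ _ _ _ c1
      have g0 : IsGen _ (chartO (r := n) (k := k) j₀)
          (sv (sG (Gform (k := k) m hm j₀ j₀)) (chartO j₀)) := by
        rw [c0]; exact isGen_gen m j₀
      have g1 := le_genLocus_of_isGen _ _ _ g0
      have g2 := genLocus_pullback r _ hL (sG (Gform (k := k) m hm j₀ j₀))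
        (pullbackUnitIso r).symm
      have g3 : r ⁻¹ᵁ (chartO (r := n) (k := k) j₀) ≤
          CohB1.genLocus _ (pullS r _ (sG (Gform (k := k) m hm j₀ j₀))) := by
        have : CohB1.genLocus _ (pullS r _ (sG (Gform (k := k) m hm j₀ j₀))) =
            r ⁻¹ᵁ CohB1.genLocus _ (sG (Gform (k := k) m hm j₀ j₀)) := g2
        rw [this]
        exact r.preimage_mono g1
      have hgen : IsGen _ (r ⁻¹ᵁ (chartO (r := n) (k := k) j₀))
          (sv (pullS r _ (sG (Gform (k := k) m hm j₀ j₀))) (r ⁻¹ᵁ (chartO j₀))) := by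
        have := (isGen_sv_genLocus _ (pullS r _ (sG (Gform (k := k) m hm j₀ j₀)))).mono g3
        rwa [res_sv] at this
      obtain ⟨q, hq⟩ := hsurj (pullS r _ (sG (Gform (k := k) m hm j j₀)))
      obtain ⟨q₀, hq₀⟩ := hsurj (pullS r _ (sG (Gform (k := k) m hm j₀ j₀)))
      rw [hq₀] at hgen
      rw [hq, hq₀] at e1
      haveI : Nonempty (r ⁻¹ᵁ (chartO (r := n) (k := k) j₀) : X.Opens) := hne
      have key := germ_mem_range h hξ A hA _ β q q₀ (r ⁻¹ᵁ (chartO (r := n) (k := k) j₀)) _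
        hgen e1
      unfold ratio
      rw [Scheme.Hom.appLE_eq_app]
      exact key
  exact hz

end Surj

end Part2

section Part3

open CategoryTheory CategoryTheory.Limits AlgebraicGeometry TopologicalSpace Opposite
open Groth.Agent.Lib.R2H1.CurveBC Groth.Agent.Lib.R2H1.CurveEuler Groth.Agent.Lib.R2H1.DegPullback
open Groth.Agent.Lib.R2H2.PnBeilinson Groth.Agent.Lib.R2H1.CurveDegSec Groth.Agent.Lib.R2H1.CurveAmple
open Groth.Agent.Lib.R2H1.HyperellCanon Groth.Agent.Lib.R2H1.NormPush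
open Groth.Agent.Lib.R2H1.QuarticNotHyp


section Sections

variable (k : Type u) [Field k] (C P : Scheme.{u}) [C.Over (Spec (CommRingCat.of k))]
  [P.Over (Spec (CommRingCat.of k))]
  [IsProper (C ↘ Spec (CommRingCat.of k))] [IsProper (P ↘ Spec (CommRingCat.of k))]
  [IsIntegral C] [IsIntegral P]

/-- if `h^* A ≅ M` and `h⁰(A) = h⁰(M)`, every section of `M` is pulled back from `A` -/
theorem exists_sections_of_iso
    (h : C ⟶ P) (hh : h ≫ (P ↘ Spec (CommRingCat.of k)) = C ↘ Spec (CommRingCat.of k))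
    (hξ : h (genericPoint C) = genericPoint P)
    (A : P.Modules) (hA : PicF.IsInvertible A) (M : C.Modules)
    (β : (Scheme.Modules.pullback h).obj A ≅ M)
    (hfr : Module.finrank k (Coh.HH P A 0) = Module.finrank k (Coh.HH C M 0))
    (s : Coh.structureModule C ⟶ M) :
    ∃ q : Coh.structureModule P ⟶ A, s = pullS h A q ≫ β.hom := by
  have hN := Groth.Agent.Lib.Helper23.PB.isInvertible_pullback h A hA
  haveI := Groth.Agent.Lib.R2H1.EulerAdd.finite_HH k C _ (isCoh_of_isInvertible _ hN) 0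
  haveI := Groth.Agent.Lib.R2H1.EulerAdd.finite_HH k P _ (isCoh_of_isInvertible _ hA) 0
  haveI : Module.Finite k (Coh.structureModule C ⟶ (Scheme.Modules.pullback h).obj A) :=
    Module.Finite.equiv (clsEquiv (k := k) ((Scheme.Modules.pullback h).obj A)).symm
  haveI : Module.Finite k (Coh.structureModule P ⟶ A) :=
    Module.Finite.equiv (clsEquiv (k := k) A).symm
  have hfr' : Module.finrank k (Coh.structureModule P ⟶ A) =
      Module.finrank k (Coh.structureModule C ⟶ (Scheme.Modules.pullback h).obj A) := by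
    rw [(clsEquiv (k := k) A).finrank_eq,
      (clsEquiv (k := k) ((Scheme.Modules.pullback h).obj A)).finrank_eq, hfr,
      Groth.Agent.Lib.R2H2.ClosedPnLin.finrank_HH_of_iso k β 0]
  have hsurj : Function.Surjective (pullHom k h hh A) :=
    (LinearMap.injective_iff_surjective_of_finrank_eq_finrank hfr').1
      (pullHom_injective k h hh hξ A hA)
  obtain ⟨q, hq⟩ := hsurj (s ≫ β.inv)
  refine ⟨q, ?_⟩
  have : pullS h A q = s ≫ β.inv := hq
  rw [this, Category.assoc, Iso.inv_hom_id, Category.comp_id]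

end Sections

section Main

open Groth.Agent.Lib.R2H1.IsoP1 Groth.Agent.Lib.R2H1.EtaleP1

variable (k : Type u) [Field k] (d : ℕ) (hd : 4 ≤ d) (f : LefPen.Form 2 k d) (hf : f ≠ 0)
  [Smooth ((LefPen.hypIdeal f).subschemeι ≫ CohB1.ProjSpace.toSpec 2 k)]

include hd hf in
/-- a smooth plane curve of degree at least four admits no finite flat morphism of degree two
onto the projective line -/
theorem not_double_cover_P1
    (φ : (LefPen.hypIdeal f).subscheme ⟶ CohB1.ProjSpace 1 k)
    (hφ : φ ≫ CohB1.ProjSpace.toSpec 1 k =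
      (LefPen.hypIdeal f).subschemeι ≫ CohB1.ProjSpace.toSpec 2 k)
    [IsFinite φ] [Flat φ]
    (hrk : ∀ y : ↥(CohB1.ProjSpace 1 k), Scheme.Hom.finrank φ y = 2) : False := by
  letI : ((LefPen.hypIdeal f).subscheme).Over (Spec (CommRingCat.of k)) :=
    ⟨(LefPen.hypIdeal f).subschemeι ≫ CohB1.ProjSpace.toSpec 2 k⟩
  have hinst : (LefPen.hypIdeal f).subscheme ↘ (Spec (CommRingCat.of k)) =
    (LefPen.hypIdeal f).subschemeι ≫ CohB1.ProjSpace.toSpec 2 k := rfl
  haveI : Smooth ((LefPen.hypIdeal f).subscheme ↘ (Spec (CommRingCat.of k))) :=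
    ‹Smooth ((LefPen.hypIdeal f).subschemeι ≫ CohB1.ProjSpace.toSpec 2 k)›
  haveI := isProper_curve k d f hinst
  obtain ⟨hC0, hgC⟩ := curve_OC k d (by omega) f hf hinst
  haveI := isProper_P1k k
  haveI : Smooth ((CohB1.ProjSpace 1 k) ↘ Spec (CommRingCat.of k)) :=
    Groth.Agent.Lib.R2H1.P1Inter.smooth_toSpec 1 k
  have hP := dim_P1k k
  have hP0 : (Module.finrank k (Coh.HH (CohB1.ProjSpace 1 k)
      (Coh.structureModule (CohB1.ProjSpace 1 k)) 0) : ℤ) -
      Module.finrank k (Coh.HH (CohB1.ProjSpace 1 k)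
        (Coh.structureModule (CohB1.ProjSpace 1 k)) 1) = 1 := by
    rw [finrank_HH_structure_P1k_zero, finrank_HH_structure_P1k_one]
    norm_num
  obtain ⟨gcC, gcP, intC, intP, hξ, hdC, hgP, hP0', hres⟩ :=
    facts k _ (CohB1.ProjSpace 1 k) hC0 hP hP0 φ hφ hrk
  obtain ⟨eM⟩ := curve_canonical k d (by omega) f hf hinst hdC
  -- the genus
  obtain ⟨g, hg⟩ : ∃ g : ℕ, g = Nat.choose (d - 1) 2 := ⟨_, rfl⟩
  have hg3 : 3 ≤ g := by
    rw [hg]
    calc 3 = Nat.choose 3 2 := by decide
      _ ≤ Nat.choose (d - 1) 2 := Nat.choose_le_choose 2 (by omega)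
  rw [← hg] at hgC
  obtain ⟨eΩ⟩ := hyperelliptic_canonical k
    ((LefPen.hypIdeal f).subscheme ↘ (Spec (CommRingCat.of k))) hdC g (by omega) hgC φ hφ hrk
  have hO1 := Groth.Agent.Lib.R2Lead.KRR.isInvertible_twistProjSpace 1 k 1
  obtain ⟨e1⟩ := Groth.Agent.Lib.Helper23.PB.nonempty_pullback_tensorPow_iso φ _ hO1 (g - 1)
  obtain ⟨e2⟩ := Groth.Agent.Lib.R2H2.QProjK0.nonempty_twist_iso_tensorPow 1 k (g - 1)
  have hA := Groth.Agent.Lib.R2Lead.KRR.isInvertible_twistProjSpace 1 k ((g - 1 : ℕ) : ℤ)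
  have h0A := Groth.Agent.Lib.R2H2.PnEuler.finrank_HH_nonneg k 1 (g - 1)
  obtain ⟨h0Ω, -⟩ := numerics_omega_of_geometricallyConnected k (LefPen.hypIdeal f).subscheme hdC
  have h0M := Groth.Agent.Lib.R2H2.ClosedPnLin.finrank_HH_of_iso k eM 0
  have hfr : Module.finrank k (Coh.HH (CohB1.ProjSpace 1 k)
      (Twist.twistProjSpace 1 k ((g - 1 : ℕ) : ℤ)) 0) =
      Module.finrank k (Coh.HH (LefPen.hypIdeal f).subscheme
        ((Scheme.Modules.pullback (LefPen.hypIdeal f).subschemeι).obj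
          (Twist.twistProjSpace 2 k ((d - 3 : ℕ) : ℤ))) 0) := by
    rw [h0A, h0M, h0Ω, hgC]
    simp
    omega
  have hsurj := exists_sections_of_iso k _ (CohB1.ProjSpace 1 k) φ hφ hξ _ hA _
    ((Scheme.Modules.pullback φ).mapIso e2 ≪≫ e1 ≪≫ eΩ ≪≫ eM.symm) hfr
  let i : (LefPen.hypIdeal f).subscheme ⟶ Proj (CohB1.polyGrading 2 k) :=
    (LefPen.hypIdeal f).subschemeι
  haveI : IsClosedImmersion i :=
    inferInstanceAs (IsClosedImmersion (LefPen.hypIdeal f).subschemeι)
  have hs := ffMap_surjective_of_sections_pow (n := 2) (k := k) i hinst.symm φ hφ hξ (d - 3)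
    (by omega) _ hA _ hsurj
  have hfr2 := Groth.Agent.Lib.R2H1.DoubleCover.finrank_functionField_eq_residueDegree φ hξ
  rw [hres] at hfr2
  letI := (ffMap φ hξ).toAlgebra
  have hone : Module.finrank (CohB1.ProjSpace 1 k).functionField
      (LefPen.hypIdeal f).subscheme.functionField = 1 := by
    have e : (CohB1.ProjSpace 1 k).functionField ≃ₗ[(CohB1.ProjSpace 1 k).functionField]
        (LefPen.hypIdeal f).subscheme.functionField :=
      LinearEquiv.ofBijective (Algebra.linearMap _ _) ⟨(ffMap φ hξ).injective, hs⟩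
    rw [← e.finrank_eq, Module.finrank_self]
  omega

end Main

end Part3

end Groth.Agent.Lib.R2H1.PlaneNotHyp
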