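import Groth.Agent.Lib.R2H2PnBott2
import Groth.Agent.Lib.R2H2PnMumford
import Groth.Agent.Lib.Helper23TensorUnit

/-!
# Bott's dimension formulas on projective space over a field (helper2, round 2)

`h^0(Ω^p(d)) = C(d+n-p, d) C(d-1, p)` and `h^n(Ω^p(-e)) = C(e+p, e) C(e-1, n-p)`.
-/

set_option backward.isDefEq.respectTransparency.types false
set_option autoImplicit false
universe u

namespace Groth.Agent.Lib.R2H2.PnBott

open CategoryTheory CategoryTheory.Limits AlgebraicGeometry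
open Groth.Agent.Lib.R2H2.KoszulAbs Groth.Agent.Lib.R2H2.HHLin Groth.Agent.Lib.R2H2.KoszulShift
open Groth.Agent.Lib.R2H2.KoszulTw Groth.Agent.Lib.R2H2.PnSerre Groth.Agent.Lib.R2H2.PnBridge
open Groth.Agent.Lib.R2H2.PnEuler

section Binom

theorem bott_binom_main (x c y : ℕ) :
    (x + c + 2 + y).choose (x + c + 2) * (x + 1 + c).choose (x + 1) +
      (x + c + 3 + y).choose (x + c + 2) * (x + 1 + c).choose x =
    (x + y + 2).choose (x + 1) * (x + c + 2 + y).choose (x + 1 + y) := by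
  have h1 : ((x + c + 2 + y).choose (x + c + 2) : ℚ) =
      (x + c + 2 + y).factorial / ((x + c + 2).factorial * y.factorial) :=
    Nat.cast_add_choose ℚ
  have h2 : ((x + 1 + c).choose (x + 1) : ℚ) =
      (x + 1 + c).factorial / ((x + 1).factorial * c.factorial) :=
    Nat.cast_add_choose ℚ
  have h3 : ((x + c + 3 + y).choose (x + c + 2) : ℚ) =
      (x + c + 2 + (y + 1)).factorial / ((x + c + 2).factorial * (y + 1).factorial) := by
    rw [show x + c + 3 + y = x + c + 2 + (y + 1) by ring]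
    exact Nat.cast_add_choose ℚ
  have h4 : ((x + 1 + c).choose x : ℚ) =
      (x + (c + 1)).factorial / (x.factorial * (c + 1).factorial) := by
    rw [show x + 1 + c = x + (c + 1) by ring]
    exact Nat.cast_add_choose ℚ
  have h5 : ((x + y + 2).choose (x + 1) : ℚ) =
      (x + 1 + (y + 1)).factorial / ((x + 1).factorial * (y + 1).factorial) := by
    rw [show x + y + 2 = x + 1 + (y + 1) by ring]
    exact Nat.cast_add_choose ℚ
  have h6 : ((x + c + 2 + y).choose (x + 1 + y) : ℚ) =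
      (x + 1 + y + (c + 1)).factorial / ((x + 1 + y).factorial * (c + 1).factorial) := by
    rw [show x + c + 2 + y = x + 1 + y + (c + 1) by ring]
    exact Nat.cast_add_choose ℚ
  have key : (((x + c + 2 + y).choose (x + c + 2) * (x + 1 + c).choose (x + 1) +
      (x + c + 3 + y).choose (x + c + 2) * (x + 1 + c).choose x : ℕ) : ℚ) =
    (((x + y + 2).choose (x + 1) * (x + c + 2 + y).choose (x + 1 + y) : ℕ) : ℚ) := by
    push_cast
    rw [h1, h2, h3, h4, h5, h6]
    have e1 : x + c + 2 + (y + 1) = (x + c + 2 + y) + 1 := by ring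
    have e2 : x + (c + 1) = x + 1 + c := by ring
    have e3 : x + 1 + (y + 1) = (x + 1 + y) + 1 := by ring
    have e4 : x + 1 + y + (c + 1) = x + c + 2 + y := by ring
    have e5 : x + c + 2 = (x + 1 + c) + 1 := by ring
    rw [e1, e2, e3, e4, e5]
    simp only [Nat.factorial_succ]
    push_cast
    have f1 : ((x + 1 + c).factorial : ℚ) ≠ 0 := by positivity
    have f2 : (y.factorial : ℚ) ≠ 0 := by positivity
    have f3 : (c.factorial : ℚ) ≠ 0 := by positivity
    have f4 : (x.factorial : ℚ) ≠ 0 := by positivity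
    have f5 : ((x + 1 + y).factorial : ℚ) ≠ 0 := by positivity
    field_simp
    ring
  exact_mod_cast key

/-- the binomial identity behind Bott's formula -/
theorem bott_binom (a x y : ℕ) :
    (a + 1 + y).choose (a + 1) * a.choose (x + 1) + (a + 2 + y).choose (a + 1) * a.choose x =
      (x + y + 2).choose (x + 1) * (a + 1 + y).choose (x + 1 + y) := by
  rcases lt_trichotomy x a with h | h | h
  · obtain ⟨c, rfl⟩ : ∃ c, a = x + 1 + c := ⟨a - (x + 1), by omega⟩
    have := bott_binom_main x c y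
    have e1 : x + 1 + c + 1 + y = x + c + 2 + y := by ring
    have e2 : x + 1 + c + 1 = x + c + 2 := by ring
    have e3 : x + 1 + c + 2 + y = x + c + 3 + y := by ring
    rw [e1, e2, e3]
    exact this
  · subst h
    rw [Nat.choose_succ_self, mul_zero, zero_add, Nat.choose_self, mul_one,
      show x + 1 + y = x + 1 + y from rfl, Nat.choose_self, mul_one]
    congr 1
    ring
  · rw [Nat.choose_eq_zero_of_lt (by omega : a < x + 1), Nat.choose_eq_zero_of_lt h,
      Nat.choose_eq_zero_of_lt (by omega : a + 1 + y < x + 1 + y)]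
    simp

end Binom

section Field

variable (k : Type u) [Field k] (n : ℕ)

lemma finite_of_finrank_eq {V : Type*} [AddCommGroup V] [Module k V] {c : ℕ} (hc : 0 < c)
    (h : Module.finrank k V = c) : Module.Finite k V :=
  Module.finite_of_finrank_pos (by omega)

/-- `H^0(O(m))` on `P^n_k` -/
lemma H0_twist (m : ℤ) (h : 1 ≤ n ∨ 0 ≤ m) :
    Module.Finite k (Coh.HH (CohB1.ProjSpace n k) (Twist.twistProjSpace n k m) 0) ∧
      Module.finrank k (Coh.HH (CohB1.ProjSpace n k) (Twist.twistProjSpace n k m) 0) =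
        if 0 ≤ m then Nat.choose (m.toNat + n) n else 0 := by
  by_cases hm : 0 ≤ m
  · obtain ⟨d, rfl⟩ := Int.eq_ofNat_of_zero_le hm
    have h1 := finrank_HH_nonneg k n d
    rw [if_pos hm, Int.toNat_natCast]
    exact ⟨finite_of_finrank_eq k (Nat.choose_pos (by omega)) h1, h1⟩
  · have hn1 : 1 ≤ n := h.resolve_right hm
    have : Subsingleton (Coh.HH (CohB1.ProjSpace n k) (Twist.twistProjSpace n k m) 0) :=
      Groth.Agent.Lib.R2H2.PnCoh.subsingleton_HH_tilde k n m 0 (fun h' => hm h'.2)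
        (fun h' => by omega)
    rw [if_neg hm]
    exact ⟨inferInstance, Module.finrank_zero_of_subsingleton⟩

/-- `H^n(O(m))` on `P^n_k` -/
lemma Hn_twist (m : ℤ) (h : 1 ≤ n ∨ m ≤ -1) :
    Module.Finite k (Coh.HH (CohB1.ProjSpace n k) (Twist.twistProjSpace n k m) n) ∧
      Module.finrank k (Coh.HH (CohB1.ProjSpace n k) (Twist.twistProjSpace n k m) n) =
        if m ≤ -((n : ℤ) + 1) then Nat.choose ((-((n : ℤ) + 1) - m).toNat + n) n else 0 := by
  by_cases hm : m ≤ -((n : ℤ) + 1)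
  · obtain ⟨c, hc⟩ := Int.eq_ofNat_of_zero_le (by linarith : 0 ≤ -((n : ℤ) + 1) - m)
    have hm' : m = -((n : ℤ) + 1 + c) := by linarith
    subst hm'
    have h1 := finrank_HH_top k n c
    rw [if_pos hm, hc, Int.toNat_natCast]
    exact ⟨finite_of_finrank_eq k (Nat.choose_pos (by omega)) h1, h1⟩
  · have : Subsingleton (Coh.HH (CohB1.ProjSpace n k) (Twist.twistProjSpace n k m) n) := by
      refine Groth.Agent.Lib.R2H2.PnCoh.subsingleton_HH_tilde k n m n ?_ (fun h' => hm h'.2)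
      rintro ⟨h1, h2⟩
      rcases h with h | h
      · omega
      · omega
    rw [if_neg hm]
    exact ⟨inferInstance, Module.finrank_zero_of_subsingleton⟩

/-- the twisted Koszul summands are twists -/
noncomputable def TwGIso (i : ℕ) (d : ℤ) :
    (Tw n k d).obj ((KP n k).G i) ≅ Twist.twistProjSpace n k (-((n : ℤ) + 1) + i + d) :=
  (Groth.Agent.Lib.R2Lead.KRR.nonempty_twistProjSpace_tensor_iso n k (-((n : ℤ) + 1) + i) d).some

/-- `H^0` of the twisted Koszul terms -/
lemma H0_TwK (t : ℕ) (d : ℤ) (h : 1 ≤ n ∨ 0 ≤ -((n : ℤ) + 1) + t + d) :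
    Module.Finite k (Coh.HH (CohB1.ProjSpace n k) ((Tw n k d).obj ((KP n k).K t)) 0) ∧
      Module.finrank k (Coh.HH (CohB1.ProjSpace n k) ((Tw n k d).obj ((KP n k).K t)) 0) =
        Nat.choose (n + 1) t * (if 0 ≤ -((n : ℤ) + 1) + t + d then
          Nat.choose ((-((n : ℤ) + 1) + t + d).toNat + n) n else 0) := by
  obtain ⟨hfin, hrank⟩ := H0_twist k n (-((n : ℤ) + 1) + t + d) h
  have e := isoEquiv k (TwGIso k n t d) 0
  haveI : Module.Finite k (Coh.HH (CohB1.ProjSpace n k)
      (((KP n k).map (Tw n k d)).G t) 0) := Module.Finite.equiv e.symm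
  refine ⟨finite_HH_K k ((KP n k).map (Tw n k d)) t 0, ?_⟩
  rw [← hrank, ← e.finrank_eq]
  exact finrank_HH_K k ((KP n k).map (Tw n k d)) t 0

/-- `H^n` of the twisted Koszul terms -/
lemma Hn_TwK (t : ℕ) (d : ℤ) (h : 1 ≤ n ∨ -((n : ℤ) + 1) + t + d ≤ -1) :
    Module.Finite k (Coh.HH (CohB1.ProjSpace n k) ((Tw n k d).obj ((KP n k).K t)) n) ∧
      Module.finrank k (Coh.HH (CohB1.ProjSpace n k) ((Tw n k d).obj ((KP n k).K t)) n) =
        Nat.choose (n + 1) t * (if -((n : ℤ) + 1) + t + d ≤ -((n : ℤ) + 1) then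
          Nat.choose ((-((n : ℤ) + 1) - (-((n : ℤ) + 1) + t + d)).toNat + n) n else 0) := by
  obtain ⟨hfin, hrank⟩ := Hn_twist k n (-((n : ℤ) + 1) + t + d) h
  have e := isoEquiv k (TwGIso k n t d) n
  haveI : Module.Finite k (Coh.HH (CohB1.ProjSpace n k)
      (((KP n k).map (Tw n k d)).G t) n) := Module.Finite.equiv e.symm
  refine ⟨finite_HH_K k ((KP n k).map (Tw n k d)) t n, ?_⟩
  rw [← hrank, ← e.finrank_eq]
  exact finrank_HH_K k ((KP n k).map (Tw n k d)) t n

/-- the twist of the last Koszul cycle module -/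
noncomputable def TwZTopIso (d : ℤ) :
    (Tw n k d).obj (kernel ((KP n k).d (n + 1))) ≅ Twist.twistProjSpace n k (((0 : ℕ) : ℤ) + d) :=
  (Tw n k d).mapIso (isoZTop n k) ≪≫
    (Groth.Agent.Lib.R2Lead.KRR.nonempty_twistProjSpace_tensor_iso n k ((0 : ℕ) : ℤ) d).some

/-- **Bott's formula for `h^0(Ω^p(d))`, `d ≥ 1`**, for the Koszul syzygies -/
theorem finrank_H0_Z (d : ℕ) (hd : 1 ≤ d) : ∀ (p t : ℕ), t + p = n + 1 → p ≤ n →
    Module.finrank k (Coh.HH (CohB1.ProjSpace n k)
      ((Tw n k (d : ℤ)).obj (kernel ((KP n k).d t))) 0) =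
      Nat.choose (d + n - p) d * Nat.choose (d - 1) p := by
  intro p
  induction p with
  | zero =>
    intro t ht _
    obtain rfl : t = n + 1 := by omega
    rw [(isoEquiv k (TwZTopIso k n (d : ℤ)) 0).finrank_eq]
    have h1 := (H0_twist k n (((0 : ℕ) : ℤ) + d) (Or.inr (by positivity))).2
    rw [h1, if_pos (by positivity)]
    have h2 : (((0 : ℕ) : ℤ) + (d : ℤ)).toNat = d := by
      simp
    rw [h2, Nat.choose_zero_right, mul_one, Nat.sub_zero, Nat.choose_symm_add]
  | succ p ih =>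
    intro t ht hp
    have hn1 : 1 ≤ n := by omega
    have hS := sesF_shortExact (KP n k) (KP_exact n k) (Tw n k (d : ℤ)) (Tw_exact n k (d : ℤ)) t
    obtain ⟨hfin, hrank⟩ := H0_TwK k n t (d : ℤ) (Or.inl hn1)
    haveI : Module.Finite k (Coh.HH (CohB1.ProjSpace n k)
      ((ses (KP n k) t).map (Tw n k (d : ℤ))).X₂ 0) := hfin
    have hv : Subsingleton (Coh.HH (CohB1.ProjSpace n k)
        ((ses (KP n k) t).map (Tw n k (d : ℤ))).X₁ (0 + 1)) := by
      refine vanish_Z n k t (by omega) (d : ℤ) 1 (by omega) ?_ ?_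
      · rintro ⟨-, h2⟩
        have h3 : ((n + 1 - t : ℕ) : ℤ) ≤ n := by
          have : n + 1 - t ≤ n := by omega
          exact_mod_cast this
        have h4 : (1 : ℤ) ≤ d := by exact_mod_cast hd
        linarith
      · intro h0
        have h4 : (1 : ℤ) ≤ d := by exact_mod_cast hd
        omega
    have hadd := finrank_add k ((ses (KP n k) t).map (Tw n k (d : ℤ))) hS 0
      (injective_f_zero _ hS) (surjective_g _ hS 0 hv)
    have hih := ih (t + 1) (by omega) (by omega)
    have hX₃ : Module.finrank k (Coh.HH (CohB1.ProjSpace n k)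
        ((ses (KP n k) t).map (Tw n k (d : ℤ))).X₃ 0) =
        Nat.choose (d + n - p) d * Nat.choose (d - 1) p := hih
    have hX₂ : Module.finrank k (Coh.HH (CohB1.ProjSpace n k)
        ((ses (KP n k) t).map (Tw n k (d : ℤ))).X₂ 0) =
        Nat.choose (n + 1) (p + 1) * Nat.choose (d + n - (p + 1)) n := by
      refine hrank.trans ?_
      have hsym : Nat.choose (n + 1) t = Nat.choose (n + 1) (p + 1) := by
        rw [← Nat.choose_symm_of_eq_add (by omega : n + 1 = t + (p + 1))]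
      rw [hsym]
      congr 1
      have ht' : (t : ℤ) = n + 1 - (p + 1) := by
        have : (t : ℤ) + (p + 1) = n + 1 := by exact_mod_cast ht
        linarith
      by_cases hdp : p + 1 ≤ d
      · have h5 : (0 : ℤ) ≤ -((n : ℤ) + 1) + t + d := by
          have : ((p : ℤ) + 1) ≤ d := by exact_mod_cast hdp
          linarith
        rw [if_pos h5]
        congr 1
        have : -((n : ℤ) + 1) + t + d = ((d - (p + 1) : ℕ) : ℤ) := by
          rw [Nat.cast_sub hdp]; push_cast; linarith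
        rw [this, Int.toNat_natCast]
        omega
      · have h5 : ¬ (0 : ℤ) ≤ -((n : ℤ) + 1) + t + d := by
          have : (d : ℤ) < p + 1 := by exact_mod_cast (not_le.1 hdp)
          linarith
        rw [if_neg h5, Nat.choose_eq_zero_of_lt (by omega)]
    have hbin := bott_binom (d - 1) p (n - (p + 1))
    have e1 : d - 1 + 1 + (n - (p + 1)) = d + n - (p + 1) := by omega
    have e2 : d - 1 + 1 = d := by omega
    have e3 : d - 1 + 2 + (n - (p + 1)) = d + n - p := by omega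
    have e4 : p + (n - (p + 1)) + 2 = n + 1 := by omega
    have e5 : p + 1 + (n - (p + 1)) = n := by omega
    rw [e1, e2, e3, e4, e5] at hbin
    have hX₁ : Module.finrank k (Coh.HH (CohB1.ProjSpace n k)
        ((Tw n k (d : ℤ)).obj (kernel ((KP n k).d t))) 0) =
        Module.finrank k (Coh.HH (CohB1.ProjSpace n k)
          ((ses (KP n k) t).map (Tw n k (d : ℤ))).X₁ 0) := rfl
    rw [hX₁]
    omega

/-- **Bott's formula for `h^n(Ω^p(-e))`, `e ≥ 1`**, for the Koszul syzygies -/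
theorem finrank_Hn_Z (e : ℕ) (he : 1 ≤ e) : ∀ (p t : ℕ), t + p = n + 1 → p ≤ n →
    Module.finrank k (Coh.HH (CohB1.ProjSpace n k)
      ((Tw n k (-(e : ℤ))).obj (kernel ((KP n k).d t))) n) =
      Nat.choose (e + p) e * Nat.choose (e - 1) (n - p) := by
  intro p
  induction p with
  | zero =>
    intro t ht _
    obtain rfl : t = n + 1 := by omega
    rw [(isoEquiv k (TwZTopIso k n (-(e : ℤ))) n).finrank_eq]
    have he' : (1 : ℤ) ≤ e := by exact_mod_cast he
    have h1 := (Hn_twist k n (((0 : ℕ) : ℤ) + -(e : ℤ)) (Or.inr (by push_cast; linarith))).2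
    rw [h1, add_zero, Nat.choose_self, one_mul, Nat.sub_zero]
    by_cases hen : n + 1 ≤ e
    · have h5 : ((0 : ℕ) : ℤ) + -(e : ℤ) ≤ -((n : ℤ) + 1) := by
        have : ((n : ℤ) + 1) ≤ e := by exact_mod_cast hen
        push_cast; linarith
      rw [if_pos h5]
      congr 1
      have : -((n : ℤ) + 1) - (((0 : ℕ) : ℤ) + -(e : ℤ)) = ((e - (n + 1) : ℕ) : ℤ) := by
        rw [Nat.cast_sub hen]; push_cast; linarith
      rw [this, Int.toNat_natCast]
      omega
    · have h5 : ¬ ((0 : ℕ) : ℤ) + -(e : ℤ) ≤ -((n : ℤ) + 1) := by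
        have : (e : ℤ) < n + 1 := by exact_mod_cast (not_le.1 hen)
        push_cast; linarith
      rw [if_neg h5, Nat.choose_eq_zero_of_lt (by omega)]
  | succ p ih =>
    intro t ht hp
    obtain ⟨n', rfl⟩ : ∃ n', n = n' + 1 := ⟨n - 1, by omega⟩
    have he' : (1 : ℤ) ≤ e := by exact_mod_cast he
    have hS := sesF_shortExact (KP (n' + 1) k) (KP_exact (n' + 1) k) (Tw (n' + 1) k (-(e : ℤ)))
      (Tw_exact (n' + 1) k (-(e : ℤ))) t
    obtain ⟨hfin, hrank⟩ := Hn_TwK k (n' + 1) t (-(e : ℤ)) (Or.inl (by omega))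
    haveI : Module.Finite k (Coh.HH (CohB1.ProjSpace (n' + 1) k)
      ((ses (KP (n' + 1) k) t).map (Tw (n' + 1) k (-(e : ℤ)))).X₂ (n' + 1)) := hfin
    have hv1 : Subsingleton (Coh.HH (CohB1.ProjSpace (n' + 1) k)
        ((ses (KP (n' + 1) k) t).map (Tw (n' + 1) k (-(e : ℤ)))).X₁ (n' + 1 + 1)) := by
      refine vanish_Z (n' + 1) k t (by omega) (-(e : ℤ)) (n' + 1 + 1) (by omega) (by omega) ?_
      intro h0
      omega
    have hv3 : Subsingleton (Coh.HH (CohB1.ProjSpace (n' + 1) k)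
        ((ses (KP (n' + 1) k) t).map (Tw (n' + 1) k (-(e : ℤ)))).X₃ n') := by
      refine vanish_Z (n' + 1) k (t + 1) (by omega) (-(e : ℤ)) n' ?_ (by omega) ?_
      · rintro ⟨-, h2⟩
        have : (0 : ℤ) ≤ ((n' + 1 + 1 - (t + 1) : ℕ) : ℤ) := Int.natCast_nonneg _
        linarith
      · intro h0
        omega
    have hadd := finrank_add k ((ses (KP (n' + 1) k) t).map (Tw (n' + 1) k (-(e : ℤ)))) hS
      (n' + 1) (injective_f_succ _ hS n' hv3) (surjective_g _ hS (n' + 1) hv1)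
    have hih := ih (t + 1) (by omega) (by omega)
    have hX₃ : Module.finrank k (Coh.HH (CohB1.ProjSpace (n' + 1) k)
        ((ses (KP (n' + 1) k) t).map (Tw (n' + 1) k (-(e : ℤ)))).X₃ (n' + 1)) =
        Nat.choose (e + p) e * Nat.choose (e - 1) (n' + 1 - p) := hih
    have hX₂ : Module.finrank k (Coh.HH (CohB1.ProjSpace (n' + 1) k)
        ((ses (KP (n' + 1) k) t).map (Tw (n' + 1) k (-(e : ℤ)))).X₂ (n' + 1)) =
        Nat.choose (n' + 1 + 1) (p + 1) * Nat.choose (e + p) (n' + 1) := by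
      refine hrank.trans ?_
      have hsym : Nat.choose (n' + 1 + 1) t = Nat.choose (n' + 1 + 1) (p + 1) := by
        rw [← Nat.choose_symm_of_eq_add (by omega : n' + 1 + 1 = t + (p + 1))]
      rw [hsym]
      congr 1
      have ht' : (t : ℤ) = ((n' + 1 : ℕ) : ℤ) + 1 - (p + 1) := by
        have : (t : ℤ) + (p + 1) = ((n' + 1 : ℕ) : ℤ) + 1 := by exact_mod_cast ht
        linarith
      by_cases hdp : n' + 1 ≤ e + p
      · have h5 : -(((n' + 1 : ℕ) : ℤ) + 1) + t + -(e : ℤ) ≤ -(((n' + 1 : ℕ) : ℤ) + 1) := by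
          have : (((n' + 1 : ℕ) : ℤ)) ≤ (e : ℤ) + p := by exact_mod_cast hdp
          linarith
        rw [if_pos h5]
        congr 1
        have : -(((n' + 1 : ℕ) : ℤ) + 1) - (-(((n' + 1 : ℕ) : ℤ) + 1) + t + -(e : ℤ)) =
            ((e + p - (n' + 1) : ℕ) : ℤ) := by
          rw [Nat.cast_sub hdp]; push_cast; push_cast at ht'; linarith
        rw [this, Int.toNat_natCast]
        omega
      · have h5 : ¬ -(((n' + 1 : ℕ) : ℤ) + 1) + t + -(e : ℤ) ≤ -(((n' + 1 : ℕ) : ℤ) + 1) := by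
          have : (e : ℤ) + p < ((n' + 1 : ℕ) : ℤ) := by exact_mod_cast (not_le.1 hdp)
          linarith
        rw [if_neg h5, Nat.choose_eq_zero_of_lt (by omega)]
    have hbin := bott_binom (e - 1) (n' + 1 - (p + 1)) p
    have e1 : e - 1 + 1 + p = e + p := by omega
    have e2 : e - 1 + 1 = e := by omega
    have e3 : e - 1 + 2 + p = e + (p + 1) := by omega
    have e4 : n' + 1 - (p + 1) + p + 2 = n' + 1 + 1 := by omega
    have e5 : n' + 1 - (p + 1) + 1 + p = n' + 1 := by omega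
    have e6 : n' + 1 - (p + 1) + 1 = n' + 1 - p := by omega
    rw [e1, e2, e3, e4, e5, e6] at hbin
    have hsym2 : Nat.choose (n' + 1 + 1) (n' + 1 - p) = Nat.choose (n' + 1 + 1) (p + 1) := by
      rw [← Nat.choose_symm_of_eq_add (by omega : n' + 1 + 1 = (n' + 1 - p) + (p + 1))]
    rw [hsym2] at hbin
    have hX₁ : Module.finrank k (Coh.HH (CohB1.ProjSpace (n' + 1) k)
        ((Tw (n' + 1) k (-(e : ℤ))).obj (kernel ((KP (n' + 1) k).d t))) (n' + 1)) =
        Module.finrank k (Coh.HH (CohB1.ProjSpace (n' + 1) k)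
          ((ses (KP (n' + 1) k) t).map (Tw (n' + 1) k (-(e : ℤ)))).X₁ (n' + 1)) := rfl
    rw [hX₁]
    omega

end Field

section ExtPow

variable (k : Type u) [Field k] (n : ℕ) [QuasiSeparated (CohB1.ProjSpace.toSpec n k)]
variable {p : ℕ} {L : (CohB1.ProjSpace n k).Modules}
  (hL : ExtPow.IsExtPow p (Omega.sheaf (CohB1.ProjSpace.toSpec n k)) L)

include hL in
/-- **Bott's formula** `h^0(Ω^p(d)) = C(d+n-p, d) C(d-1, p)`, `d ≥ 1` -/
theorem finrank_H0_extPow (hp : p ≤ n) (d : ℕ) (hd : 1 ≤ d) :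
    Module.finrank k (Coh.HH (CohB1.ProjSpace n k)
      (CohB1.tensorMod L (Twist.twistProjSpace n k (d : ℤ))) 0) =
      Nat.choose (d + n - p) d * Nat.choose (d - 1) p := by
  have hpt : p + (n + 1 - p) = n + 1 := by omega
  obtain ⟨e⟩ := nonempty_iso_kernel hL (n + 1 - p) hpt
  rw [← finrank_H0_Z k n d hd p (n + 1 - p) (by omega) hp]
  exact (isoEquiv k ((Tw n k (d : ℤ)).mapIso e) 0).finrank_eq

include hL in
/-- **Bott's formula** `h^n(Ω^p(-e)) = C(e+p, e) C(e-1, n-p)`, `e ≥ 1` -/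
theorem finrank_Hn_extPow (hp : p ≤ n) (e : ℕ) (he : 1 ≤ e) :
    Module.finrank k (Coh.HH (CohB1.ProjSpace n k)
      (CohB1.tensorMod L (Twist.twistProjSpace n k (-(e : ℤ)))) n) =
      Nat.choose (e + p) e * Nat.choose (e - 1) (n - p) := by
  have hpt : p + (n + 1 - p) = n + 1 := by omega
  obtain ⟨e'⟩ := nonempty_iso_kernel hL (n + 1 - p) hpt
  rw [← finrank_Hn_Z k n e he p (n + 1 - p) (by omega) hp]
  exact (isoEquiv k ((Tw n k (-(e : ℤ))).mapIso e') n).finrank_eq

include hL in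
/-- `h^p(Ω^p(0)) = 1` -/
theorem finrank_Hp_extPow_zero (hp : p ≤ n) :
    Module.finrank k (Coh.HH (CohB1.ProjSpace n k)
      (CohB1.tensorMod L (Twist.twistProjSpace n k 0)) p) = 1 := by
  obtain ⟨z⟩ := Groth.Agent.Lib.R2Lead.KRR.nonempty_twistProjSpace_zero_iso n k
  have e1 : CohB1.tensorMod L (Twist.twistProjSpace n k 0) ≅ L :=
    (Groth.Agent.Lib.R2H2.PnMumford.twRIso z).app L ≪≫
      Groth.Agent.Lib.Helper23.TensorUnit.tensorUnitIso L
  obtain ⟨e2⟩ := nonempty_HH_extPow_equiv n k hp hL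
  rw [((isoEquiv k e1 p).trans e2).finrank_eq, Module.finrank_self]

include hL in
/-- vanishing, in terms of dimensions -/
theorem finrank_extPow_eq_zero (m : ℤ) (q : ℕ)
    (h0 : ¬ (q = 0 ∧ (p : ℤ) < m)) (hn : ¬ (q = n ∧ m < (p : ℤ) - n))
    (hk : m = 0 → q ≠ p) :
    Module.finrank k (Coh.HH (CohB1.ProjSpace n k)
      (CohB1.tensorMod L (Twist.twistProjSpace n k m)) q) = 0 := by
  have := vanish_extPow n k hL m q h0 hn hk
  exact Module.finrank_zero_of_subsingleton

end ExtPow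

end Groth.Agent.Lib.R2H2.PnBott
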