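import Groth.Agent.Lib.R2H2PnLocFree
import Groth.Agent.Lib.Helper27ProjSpaceSurj
import Groth.Agent.S3581

/-!
# Splitting types of vector bundles on `P^n_k` (helper2, round 2)

* `nonempty_projSpace`, `card_eq_rank` (the number of summands of a splitting is the rank)
* `finrank_H0_split`, `gdim`, `splitting_type_unique`, `exists_antitone_splitting`
* `subsingleton_projSpace_zero`, `split_projSpace_zero`
-/

set_option autoImplicit false
set_option linter.style.haveILetI false
universe u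

namespace Groth.Agent.Lib.R2H2.PnLocFree

section PartD


open CategoryTheory CategoryTheory.Limits AlgebraicGeometry Opposite
open Groth.Agent.Lib.R2H2.HHLin Groth.Agent.Lib.R2H2.PnSerre
  Groth.Agent.Lib.R2H2.PnMumford Groth.Agent.Lib.R2H2.PnLinRes Groth.Agent.Lib.R2H2.PnGG
  Groth.Agent.Lib.R2H2.PnHorrocks

section Pn

variable (k : Type u) [Field k] (n : ℕ)

local notation "PX" => CohB1.ProjSpace n k

instance nonempty_projSpace : Nonempty (PX) := by
  have hs := Groth.Agent.Lib.Helper27ProjSpaceSurj.surjective_toSpec n k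
  obtain ⟨y⟩ : Nonempty (Spec (CommRingCat.of k)) := inferInstance
  obtain ⟨x, -⟩ := hs.surj y
  exact ⟨x⟩

theorem isFinLocFreeOfRank_of_iso {X : Scheme.{u}} {M N : X.Modules} (e : M ≅ N) {r : ℕ}
    (h : FlatMod.IsFinLocFreeOfRank r M) : FlatMod.IsFinLocFreeOfRank r N := by
  intro x
  obtain ⟨U, hx, ⟨i⟩⟩ := h x
  exact ⟨U, hx, ⟨(Scheme.Modules.restrictFunctor U.ι).mapIso e.symm ≪≫ i⟩⟩

theorem isFinLocFree_of_rank {X : Scheme.{u}} {M : X.Modules} {r : ℕ}
    (h : FlatMod.IsFinLocFreeOfRank r M) : FlatMod.IsFinLocFree M := by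
  intro x
  obtain ⟨U, hx, e⟩ := h x
  exact ⟨U, r, hx, e⟩

/-- the number of summands in a splitting is the rank -/
theorem card_eq_rank (E : (PX).Modules) (r r' : ℕ) (hE : FlatMod.IsFinLocFreeOfRank r E)
    (a : Fin r' → ℤ) (e : E ≅ ∐ fun j => Twist.twistProjSpace n k (a j)) : r' = r := by
  have h1 : FlatMod.IsFinLocFreeOfRank r' (∐ fun j => Twist.twistProjSpace n k (a j)) :=
    isFinLocFreeOfRank_sigma r' _ (fun j => isInv n k (a j))
  have h2 : FlatMod.IsFinLocFreeOfRank r' E := isFinLocFreeOfRank_of_iso e.symm h1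
  have hq : E.IsQuasicoherent := (isCoh_of_isFinLocFree E (isFinLocFree_of_rank hE)).1
  exact rank_unique E h2 hE

/-- the dimension of the sections of a twist of a split module -/
theorem finrank_H0_split (r : ℕ) (d : Fin r → ℤ) (l : ℤ) :
    Module.finrank k (Coh.HH PX ((Tw n k l).obj
      (∐ fun j => Twist.twistProjSpace n k (d j))) 0) =
    ∑ j, Module.finrank k (Coh.HH PX ((Tw n k l).obj (Twist.twistProjSpace n k (d j))) 0) := by
  let f : Fin r → (PX).Modules := fun j => Twist.twistProjSpace n k (d j)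
  haveI := isEquivalence_twR n k l
  let e1 : (Tw n k l).obj (∐ f) ≅ ∐ fun j => (Tw n k l).obj (f j) :=
    PreservesCoproduct.iso (Tw n k l) f
  let e2 : Coh.HH PX ((Tw n k l).obj (∐ f)) 0 ≃ₗ[k]
      Coh.HH PX (∐ fun j => (Tw n k l).obj (f j)) 0 :=
    LinearEquiv.ofBijective (HmapA k e1.hom 0) (bijective_HmapL_of_iso e1 0)
  rw [e2.finrank_eq]
  refine finrank_HH_coprod (k := k) (fun j => (Tw n k l).obj (f j)) 0 (fun j => ?_)
  have hc : Coh.IsCoh (Twist.twistProjSpace n k (d j)) :=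
    ⟨Groth.Agent.Lib.R2H2.PnFinite.isQCoh_twist n k (d j),
      Groth.Agent.Lib.R2H2.PnFinite.isFiniteType_twist n k (d j)⟩
  exact Groth.Agent.Lib.R2H2.PnFinite.finite_HH n k _ (isCoh_twist k n _ hc l) 0

/-- the section dimension function `g a l = h^0(O(a) ⊗ O(l))` -/
noncomputable def gdim (a l : ℤ) : ℕ :=
  Module.finrank k (Coh.HH PX ((Tw n k l).obj (Twist.twistProjSpace n k a)) 0)

theorem gdim_neg (hn : 1 ≤ n) (a l : ℤ) (h : a + l < 0) : gdim k n a l = 0 := by
  obtain ⟨e⟩ := Groth.Agent.Lib.R2Lead.KRR.nonempty_twistProjSpace_tensor_iso n k a l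
  have h1 : Subsingleton (Coh.HH PX (Twist.twistProjSpace n k (a + l)) 0) :=
    Groth.Agent.Lib.R2H2.PnTwEquiv.subsingleton_HH_twist n k (a + l) 0 (by omega) (by omega)
  have h2 : Subsingleton (Coh.HH PX ((Tw n k l).obj (Twist.twistProjSpace n k a)) 0) :=
    subsingleton_HH_of_iso e.symm 0 h1
  exact Module.finrank_zero_of_subsingleton

theorem gdim_self (a : ℤ) : gdim k n a (-a) = 1 := by
  obtain ⟨e⟩ := Groth.Agent.Lib.R2Lead.KRR.nonempty_twistProjSpace_tensor_iso n k a (-a)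
  obtain ⟨z⟩ := Groth.Agent.Lib.R2Lead.KRR.nonempty_twistProjSpace_zero_iso n k
  let e' : (Tw n k (-a)).obj (Twist.twistProjSpace n k a) ≅ Coh.structureModule PX :=
    e ≪≫ eqToIso (by rw [add_neg_cancel]) ≪≫ z
  let e2 : Coh.HH PX ((Tw n k (-a)).obj (Twist.twistProjSpace n k a)) 0 ≃ₗ[k]
      Coh.HH PX (Coh.structureModule PX) 0 :=
    LinearEquiv.ofBijective (HmapA k e'.hom 0) (bijective_HmapL_of_iso e' 0)
  unfold gdim
  rw [e2.finrank_eq]
  exact finrank_H0_structure k n

/-- uniqueness of the splitting type -/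
theorem splitting_type_unique (hn : 1 ≤ n) (r : ℕ) (d d' : Fin r → ℤ) (hd : Antitone d)
    (hd' : Antitone d')
    (φ : (∐ fun j => Twist.twistProjSpace n k (d j)) ≅ ∐ fun j => Twist.twistProjSpace n k (d' j)) :
    d = d' := by
  refine eq_of_sum_eq (gdim k n) (gdim_neg k n hn) (gdim_self k n) d d' hd hd' (fun l => ?_)
  have h1 := finrank_H0_split k n r d l
  have h2 := finrank_H0_split k n r d' l
  let ψ := (Tw n k l).mapIso φ
  let e2 : Coh.HH PX ((Tw n k l).obj (∐ fun j => Twist.twistProjSpace n k (d j))) 0 ≃ₗ[k]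
      Coh.HH PX ((Tw n k l).obj (∐ fun j => Twist.twistProjSpace n k (d' j))) 0 :=
    LinearEquiv.ofBijective (HmapA k ψ.hom 0) (bijective_HmapL_of_iso ψ 0)
  have h3 := e2.finrank_eq
  unfold gdim
  rw [← h1, ← h2, h3]

/-- existence of an antitone splitting type from any splitting -/
theorem exists_antitone_splitting (E : (PX).Modules) (r : ℕ) (a : Fin r → ℤ)
    (e : E ≅ ∐ fun j => Twist.twistProjSpace n k (a j)) :
    ∃ d : Fin r → ℤ, Antitone d ∧ Nonempty (E ≅ ∐ fun j => Twist.twistProjSpace n k (d j)) := by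
  obtain ⟨σ, hσ⟩ := exists_perm_antitone a
  refine ⟨a ∘ σ, hσ, ⟨e ≪≫ ?_⟩⟩
  exact Sigma.whiskerEquiv (f := fun j => Twist.twistProjSpace n k (a j))
    (g := fun j => Twist.twistProjSpace n k ((a ∘ σ) j)) σ.symm
    (fun j => eqToIso (by simp only [Function.comp_apply, Equiv.apply_symm_apply]))

end Pn


end PartD

section PartE


open CategoryTheory CategoryTheory.Limits AlgebraicGeometry Opposite

section Zero

variable (k : Type u) [Field k]

theorem subsingleton_projSpace_zero : Subsingleton (CohB1.ProjSpace 0 k) := by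
  haveI : IsIso (CohB1.ProjSpace.toSpec 0 k) := Groth.Agent.S3581.result k
  have hinj : Function.Injective (CohB1.ProjSpace.toSpec 0 k).homeomorph :=
    (CohB1.ProjSpace.toSpec 0 k).homeomorph.injective
  haveI : Subsingleton (Spec (CommRingCat.of k)) :=
    inferInstanceAs (Subsingleton (PrimeSpectrum k))
  exact hinj.subsingleton

/-- a module free over the whole space (as an open) is free -/
theorem nonempty_iso_freeMod_of_top {X : Scheme.{u}} (E : X.Modules) (r : ℕ)
    (e : E.restrict (⊤ : X.Opens).ι ≅ FlatMod.freeMod (↑(⊤ : X.Opens)) r) :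
    Nonempty (E ≅ FlatMod.freeMod X r) := by
  let j : (↑(⊤ : X.Opens) : Scheme.{u}) ⟶ X := (⊤ : X.Opens).ι
  let g : X ⟶ (↑(⊤ : X.Opens) : Scheme.{u}) := X.topIso.inv
  have hgj : g ≫ j = 𝟙 X := X.toIso_inv_ι
  let i1 : (Scheme.Modules.restrictFunctor g).obj ((Scheme.Modules.restrictFunctor j).obj E) ≅
      (Scheme.Modules.restrictFunctor (g ≫ j)).obj E :=
    ((Scheme.Modules.restrictFunctorComp g j).app E).symm
  let i2 : (Scheme.Modules.restrictFunctor (g ≫ j)).obj E ≅
      (Scheme.Modules.restrictFunctor (𝟙 X)).obj E :=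
    (Scheme.Modules.restrictFunctorCongr hgj).app E
  let i3 : (Scheme.Modules.restrictFunctor (𝟙 X)).obj E ≅ E :=
    Scheme.Modules.restrictFunctorId.app E
  let i4 : (Scheme.Modules.restrictFunctor g).obj ((Scheme.Modules.restrictFunctor j).obj E) ≅
      (Scheme.Modules.restrictFunctor g).obj (FlatMod.freeMod (↑(⊤ : X.Opens)) r) :=
    (Scheme.Modules.restrictFunctor g).mapIso e
  exact ⟨i3.symm ≪≫ i2.symm ≪≫ i1.symm ≪≫ i4 ≪≫
    Groth.Agent.Lib.Helper20.LocFree.restrictFreeMod g r⟩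

/-- on `P^0_k` every finite locally free module of rank `r` is `O(0)^r` -/
theorem split_projSpace_zero (E : (CohB1.ProjSpace 0 k).Modules) (r : ℕ)
    (hE : FlatMod.IsFinLocFreeOfRank r E) :
    ∃ a : Fin r → ℤ, Nonempty (E ≅ ∐ fun j : Fin r => Twist.twistProjSpace 0 k (a j)) := by
  haveI := subsingleton_projSpace_zero k
  obtain ⟨x⟩ := (nonempty_projSpace k 0 : Nonempty (CohB1.ProjSpace 0 k))
  obtain ⟨U, hxU, ⟨e⟩⟩ := hE x
  obtain rfl : U = ⊤ := by
    rw [eq_top_iff]
    intro y _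
    rw [Subsingleton.elim y x]
    exact hxU
  obtain ⟨e1⟩ := nonempty_iso_freeMod_of_top E r e
  obtain ⟨z⟩ := Groth.Agent.Lib.R2Lead.KRR.nonempty_twistProjSpace_zero_iso 0 k
  refine ⟨fun _ => 0, ⟨e1 ≪≫ ?_⟩⟩
  exact Sigma.mapIso (fun _ => z.symm)

end Zero


end PartE

end Groth.Agent.Lib.R2H2.PnLocFree
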