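import Mathlib
import Groth.Prelude
import Groth.Agent.Lib.R2H1PlaneNotHyp
import Groth.Agent.Lib.R2H2PnHorrocks
import Groth.Agent.Lib.R2H2PnSplitType
import Groth.Agent.Lib.R2H2PnBott3
import Groth.Agent.Lib.R2H2ClosedPnLin
import Groth.Agent.Lib.R2H1NonSpecial
import Groth.Agent.Lib.R2H1SerreNum
import Groth.Agent.Lib.R2H1VBSub
import Groth.Agent.Lib.R2H1DegPullback
import Groth.Agent.Lib.R2H1RegPoint
import Groth.Agent.Lib.R2H1VBIndecTwo
import Groth.Agent.Lib.R2H1PicLaw
import Groth.Agent.Lib.R2H1PencilTrick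
set_option backward.isDefEq.respectTransparency.types false

/-!
helper1 (run 2): direct images of invertible modules along a double cover of the projective line by a curve of genus one (S16520). API: h0_genus_one (h0 of an invertible module on a genus one curve: deg if positive, 0 if negative, 1 or 0 in degree 0 according to triviality), finrank_twist_P1 (h0(O(a) ⊗ O(l)) = (a+l+1).toNat on P1), deg_twist_P1 (deg O(l) = l), h0_twists (degree and h0 of L ⊗ π^*O(l), equal to h0 of π_*L ⊗ O(l)), split (π_*L ≅ O(a0) ⊕ O(a1) with section counts, via Horrocks), twist_trivial_iff, main.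
-/

set_option autoImplicit false
set_option linter.style.haveILetI false
set_option linter.unusedSectionVars false
universe u v

open CategoryTheory CategoryTheory.Limits AlgebraicGeometry TopologicalSpace Opposite

namespace Groth.Agent.Lib.R2H1.PushEll

section Part1

open Groth.Agent.Lib.R2H1.CurveEuler Groth.Agent.Lib.R2H1.CurveDegSec
open Groth.Agent.Lib.R2H1.EulerAdd Groth.Agent.Lib.R2H2.HHLin

section Numerics

variable (k : Type u) [Field k] [IsAlgClosed k] (X : Scheme.{u}) [X.Over (Spec (CommRingCat.of k))]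
    [IsIntegral X] [IsProper (X ↘ (Spec (CommRingCat.of k)))]

/-- `h⁰` of an invertible module on a curve of genus one -/
theorem h0_genus_one (hdim : topologicalKrullDim X = 1)
    (hreg : ∀ x : X, IsRegularLocalRing (X.presheaf.stalk x))
    (hg : Curv2.genus k X = 1) (N : X.Modules) (hN : PicF.IsInvertible N) :
    (0 < Curv2.deg k X N 1 → (Module.finrank k (Coh.HH X N 0) : ℤ) = Curv2.deg k X N 1) ∧
    (Curv2.deg k X N 1 < 0 → Module.finrank k (Coh.HH X N 0) = 0) ∧
    (Curv2.deg k X N 1 = 0 →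
      (Nonempty (N ≅ Coh.structureModule X) → Module.finrank k (Coh.HH X N 0) = 1) ∧
      (IsEmpty (N ≅ Coh.structureModule X) → Module.finrank k (Coh.HH X N 0) = 0)) := by
  haveI := isNoetherian_of_proper k X
  have key : 0 < Module.finrank k (Coh.HH X N 0) → Curv2.deg k X N 1 ≤ 0 →
      Nonempty (N ≅ Coh.structureModule X) := by
    intro hpos hle
    obtain ⟨s, hs⟩ := Groth.Agent.Lib.R2H1.GenusZero.exists_section_of_pos k X N
      (isCoh_of_isInvertible N hN) hpos
    haveI := isIso_of_deg_nonpos k X hdim N hN s hs hle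
    exact ⟨(asIso s).symm⟩
  refine ⟨fun hpos => ?_, fun hneg => ?_, fun h0 => ⟨fun ⟨e⟩ => ?_, fun hne => ?_⟩⟩
  · have v := Groth.Agent.Lib.R2H1.NonSpecial.s1522 k X hdim N hN (by rw [hg]; push_cast; omega)
    have z : Module.finrank k (Coh.HH X N 1) = 0 := Module.finrank_zero_of_subsingleton
    have rr := Groth.Agent.Lib.R2H1.SerreNum.riemann_roch k X hdim hreg N hN
    rw [z, hg] at rr
    push_cast at rr
    omega
  · by_contra hcon
    obtain ⟨e⟩ := key (Nat.pos_of_ne_zero hcon) hneg.le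
    have := Groth.Agent.Lib.R2H1.CurveAmple.deg_congr k X e 1
    rw [Groth.Agent.Lib.R2H1.VBHZero.deg_structure k X] at this
    omega
  · rw [Groth.Agent.Lib.R2H2.ClosedPnLin.finrank_HH_of_iso k e 0]
    exact Groth.Agent.Lib.R2H1.RegPoint.finrank_H0_structure_eq_one k X
  · by_contra hcon
    obtain ⟨e⟩ := key (Nat.pos_of_ne_zero hcon) h0.le
    exact hne.false e

end Numerics

section P1

variable (k : Type u) [Field k]

/-- sections of `O(a) ⊗ O(l)` on the projective line -/
theorem finrank_twist_P1 (a l : ℤ) :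
    Module.finrank k (Coh.HH (CohB1.ProjSpace 1 k)
      (CohB1.tensorMod (Twist.twistProjSpace 1 k a) (Twist.twistProjSpace 1 k l)) 0) =
      (a + l + 1).toNat := by
  obtain ⟨e⟩ := Groth.Agent.Lib.R2Lead.KRR.nonempty_twistProjSpace_tensor_iso 1 k a l
  rw [Groth.Agent.Lib.R2H2.ClosedPnLin.finrank_HH_of_iso k e 0]
  obtain ⟨-, h⟩ := Groth.Agent.Lib.R2H2.PnBott.H0_twist k 1 (a + l) (Or.inl le_rfl)
  rw [h]
  split_ifs with hc
  · rw [Nat.choose_one_right]
    omega
  · omega

/-- the degree of `O(l)` on the projective line -/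
theorem deg_twist_P1 (l : ℤ) :
    Curv2.deg k (CohB1.ProjSpace 1 k) (Twist.twistProjSpace 1 k l) 1 = l := by
  haveI := Groth.Agent.Lib.R2H1.IsoP1.isIntegral_P1k k
  haveI := Groth.Agent.Lib.R2H1.IsoP1.isProper_P1k k
  have hdimP := Groth.Agent.Lib.R2H1.IsoP1.dim_P1k k
  haveI := isNoetherian_of_proper k (CohB1.ProjSpace 1 k)
  have hE := Groth.Agent.Lib.R2Lead.KRR.isInvertible_twistProjSpace 1 k l
  have cE := isCoh_of_isInvertible _ hE
  have e1 := euler_eq_h0_sub_h1 k (CohB1.ProjSpace 1 k) hdimP.le _ cE.1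
  obtain ⟨-, h0⟩ := Groth.Agent.Lib.R2H2.PnBott.H0_twist k 1 l (Or.inl le_rfl)
  obtain ⟨-, h1⟩ := Groth.Agent.Lib.R2H2.PnBott.Hn_twist k 1 l (Or.inl le_rfl)
  have cO := isCoh_of_isInvertible _
    (Groth.Agent.Lib.Helper23.TensorUnit.isInvertible_structureModule (CohB1.ProjSpace 1 k))
  have e2 := euler_eq_h0_sub_h1 k (CohB1.ProjSpace 1 k) hdimP.le _ cO.1
  rw [Groth.Agent.Lib.R2H1.EtaleP1.finrank_HH_structure_P1k_zero,
    Groth.Agent.Lib.R2H1.EtaleP1.finrank_HH_structure_P1k_one] at e2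
  unfold Curv2.deg
  rw [e1, e2, h0, h1]
  simp only [Nat.choose_one_right, Nat.cast_one, mul_one]
  split_ifs with hc1 hc2 hc2 <;> push_cast <;> omega

end P1

section Main

open Groth.Agent.Lib.R2H1.IsoP1 Groth.Agent.Lib.R2H1.EtaleP1 Groth.Agent.Lib.R2H1.QuarticNotHyp

variable (k : Type u) [Field k] [IsAlgClosed k] (E : Scheme.{u}) [E.Over (Spec (CommRingCat.of k))]
  [IsProper (E ↘ Spec (CommRingCat.of k))] [Smooth (E ↘ Spec (CommRingCat.of k))]
  [GeometricallyConnected (E ↘ Spec (CommRingCat.of k))]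

/-- the sections of the twists of an invertible module along a double cover of the projective
line by a curve of genus one -/
theorem h0_twists (hE : topologicalKrullDim E = 1) (hg : Curv2.genus k E = 1)
    (π : E ⟶ CohB1.ProjSpace 1 k)
    (hπ : π ≫ CohB1.ProjSpace.toSpec 1 k = E ↘ Spec (CommRingCat.of k))
    [IsFinite π] [Flat π] (hrk : ∀ y : ↥(CohB1.ProjSpace 1 k), Scheme.Hom.finrank π y = 2)
    (L : E.Modules) (hL : PicF.IsInvertible L) (l : ℤ) :
    ∃ (_ : IsIntegral E), PicF.IsInvertible (CohB1.tensorMod L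
        ((Scheme.Modules.pullback π).obj (Twist.twistProjSpace 1 k l))) ∧
      Curv2.deg k E (CohB1.tensorMod L
        ((Scheme.Modules.pullback π).obj (Twist.twistProjSpace 1 k l))) 1 =
        Curv2.deg k E L 1 + 2 * l ∧
      Module.finrank k (Coh.HH E (CohB1.tensorMod L
        ((Scheme.Modules.pullback π).obj (Twist.twistProjSpace 1 k l))) 0) =
      Module.finrank k (Coh.HH (CohB1.ProjSpace 1 k)
        (CohB1.tensorMod ((Scheme.Modules.pushforward π).obj L) (Twist.twistProjSpace 1 k l)) 0) := by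
  haveI intE : IsIntegral E := Groth.Agent.Lib.R2H1.VBSub.isIntegral_of_smooth_geomConn k E
  have hC0 := Groth.Agent.Lib.R2H1.RegPoint.finrank_H0_structure_eq_one k E
  haveI := isProper_P1k k
  haveI : Smooth ((CohB1.ProjSpace 1 k) ↘ Spec (CommRingCat.of k)) :=
    Groth.Agent.Lib.R2H1.P1Inter.smooth_toSpec 1 k
  have hP := dim_P1k k
  have hP0 : (Module.finrank k (Coh.HH (CohB1.ProjSpace 1 k)
      (Coh.structureModule (CohB1.ProjSpace 1 k)) 0) : ℤ) -
      Module.finrank k (Coh.HH (CohB1.ProjSpace 1 k)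
        (Coh.structureModule (CohB1.ProjSpace 1 k)) 1) = 1 := by
    rw [finrank_HH_structure_P1k_zero, finrank_HH_structure_P1k_one]
    norm_num
  obtain ⟨gcC, gcP, intC, intP, hξ, hdC, hgP, hP0', hres⟩ :=
    facts k E (CohB1.ProjSpace 1 k) hC0 hP hP0 π hπ hrk
  have hO := Groth.Agent.Lib.R2Lead.KRR.isInvertible_twistProjSpace 1 k l
  have hpO := Groth.Agent.Lib.Helper23.PB.isInvertible_pullback π _ hO
  have hT := Groth.Agent.Lib.Helper23.SecTw.isInvertible_tensorMod hL hpO
  refine ⟨intE, hT, ?_, ?_⟩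
  · rw [Groth.Agent.Lib.R2H1.VBIndecTwo.deg_tensor_invertible k E hE hL hpO,
      Groth.Agent.Lib.R2H1.DegPullback.s7640 k E (CohB1.ProjSpace 1 k) hE hP π hπ hξ 1 _
        (Groth.Agent.Lib.Helper23.SecTw.isFinLocFreeOfRank_one_of_isInvertible _ hO),
      hres, deg_twist_P1]
    push_cast
    ring
  · haveI : L.IsQuasicoherent := (isCoh_of_isInvertible L hL).1
    exact Groth.Agent.Lib.R2H2.ClosedPnLin.finrank_HH_twistOn_eq 1 k π hπ L inferInstance l 0

open Groth.Agent.Lib.R2H2.PnHorrocks Groth.Agent.Lib.R2H2.PnLocFree Groth.Agent.Lib.R2H2.PnMumford in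
/-- the direct image of an invertible module along a double cover of the projective line by a
curve of genus one splits, with section counts -/
theorem split (hE : topologicalKrullDim E = 1) (hg : Curv2.genus k E = 1)
    (π : E ⟶ CohB1.ProjSpace 1 k)
    (hπ : π ≫ CohB1.ProjSpace.toSpec 1 k = E ↘ Spec (CommRingCat.of k))
    [IsFinite π] [Flat π] (hrk : ∀ y : ↥(CohB1.ProjSpace 1 k), Scheme.Hom.finrank π y = 2)
    (L : E.Modules) (hL : PicF.IsInvertible L) :
    ∃ a : Fin 2 → ℤ, a 1 ≤ a 0 ∧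
      Nonempty ((Scheme.Modules.pushforward π).obj L ≅
        ∐ fun j : Fin 2 => Twist.twistProjSpace 1 k (a j)) ∧
      ∀ l : ℤ, Module.finrank k (Coh.HH E (CohB1.tensorMod L
        ((Scheme.Modules.pullback π).obj (Twist.twistProjSpace 1 k l))) 0) =
        (a 0 + l + 1).toNat + (a 1 + l + 1).toNat := by
  haveI intE : IsIntegral E := Groth.Agent.Lib.R2H1.VBSub.isIntegral_of_smooth_geomConn k E
  have hreg := Groth.Agent.Lib.R2H1.VBSub.hreg_of_smooth k E
  haveI := isNoetherian_of_proper k E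
  haveI := isProper_P1k k
  haveI := isNoetherian_of_proper k (CohB1.ProjSpace 1 k)
  have cL := isCoh_of_isInvertible L hL
  have hG : Coh.IsCoh ((Scheme.Modules.pushforward π).obj L) := Groth.Agent.S0019.result π L cL
  -- the numbers on E
  have hnum : ∀ l : ℤ, Curv2.deg k E L 1 + 2 * l < 0 →
      Module.finrank k (Coh.HH (CohB1.ProjSpace 1 k)
        (CohB1.tensorMod ((Scheme.Modules.pushforward π).obj L) (Twist.twistProjSpace 1 k l)) 0) = 0 := by
    intro l hl
    obtain ⟨_, hT, hd, hc⟩ := h0_twists k E hE hg π hπ hrk L hL l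
    rw [← hc]
    exact (h0_genus_one k E hE hreg hg _ hT).2.1 (by rw [hd]; exact hl)
  have hpos : ∀ l : ℤ, 0 < Curv2.deg k E L 1 + 2 * l →
      (Module.finrank k (Coh.HH (CohB1.ProjSpace 1 k)
        (CohB1.tensorMod ((Scheme.Modules.pushforward π).obj L) (Twist.twistProjSpace 1 k l)) 0) : ℤ) =
        Curv2.deg k E L 1 + 2 * l := by
    intro l hl
    obtain ⟨_, hT, hd, hc⟩ := h0_twists k E hE hg π hπ hrk L hL l
    rw [← hc, ← hd]
    exact (h0_genus_one k E hE hreg hg _ hT).1 (by rw [hd]; exact hl)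
  -- Horrocks
  obtain ⟨r, a, ⟨e⟩⟩ : ∃ (r : ℕ) (a : Fin r → ℤ), Nonempty ((Scheme.Modules.pushforward π).obj L ≅
      ∐ fun j => Twist.twistProjSpace 1 k (a j)) := by
    refine (horrocks k 1 le_rfl _ hG).2 ⟨⟨-((Curv2.deg k E L 1).toNat : ℤ) - 1, fun l hl => ?_⟩,
      fun l i hi hi' => by omega⟩
    have hc : Coh.IsCoh (CohB1.tensorMod ((Scheme.Modules.pushforward π).obj L)
        (Twist.twistProjSpace 1 k l)) := isCoh_twist k 1 _ hG l
    haveI := finite_HH k (CohB1.ProjSpace 1 k) _ hc 0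
    exact Module.finrank_zero_iff.1 (hnum l (by omega))
  obtain ⟨d, hd, ⟨e'⟩⟩ := exists_antitone_splitting k 1 _ r a e
  -- the section counts
  have hcount : ∀ l : ℤ, Module.finrank k (Coh.HH (CohB1.ProjSpace 1 k)
      (CohB1.tensorMod ((Scheme.Modules.pushforward π).obj L) (Twist.twistProjSpace 1 k l)) 0) =
      ∑ j, (d j + l + 1).toNat := by
    intro l
    have h1 := finrank_H0_split k 1 r d l
    have h2 := Groth.Agent.Lib.R2H2.ClosedPnLin.finrank_HH_of_iso k ((Tw 1 k l).mapIso e') 0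
    have h3 : Module.finrank k (Coh.HH (CohB1.ProjSpace 1 k)
        (CohB1.tensorMod ((Scheme.Modules.pushforward π).obj L) (Twist.twistProjSpace 1 k l)) 0) =
        Module.finrank k (Coh.HH (CohB1.ProjSpace 1 k) ((Tw 1 k l).obj
          (∐ fun j => Twist.twistProjSpace 1 k (d j))) 0) := h2
    rw [h3, h1]
    exact Finset.sum_congr rfl (fun j _ => finrank_twist_P1 k (d j) l)
  -- the rank is two
  have hr : r = 2 := by
    obtain ⟨l, hl1, hl2⟩ : ∃ l : ℤ, 0 < Curv2.deg k E L 1 + 2 * l ∧ ∀ j, 0 ≤ d j + l + 1 := by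
      refine ⟨(∑ j, |d j|) + |Curv2.deg k E L 1| + 1, ?_, fun j => ?_⟩
      · have h1 : 0 ≤ ∑ j, |d j| := Finset.sum_nonneg (fun j _ => abs_nonneg _)
        have h2 := neg_abs_le (Curv2.deg k E L 1)
        have h3 := abs_nonneg (Curv2.deg k E L 1)
        omega
      · have h1 : |d j| ≤ ∑ j, |d j| :=
          Finset.single_le_sum (f := fun j => |d j|) (fun j _ => abs_nonneg _) (Finset.mem_univ j)
        have h2 := neg_abs_le (d j)
        have h3 := abs_nonneg (Curv2.deg k E L 1)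
        omega
    have e1 := hpos l hl1
    have e2 := hpos (l + 1) (by omega)
    rw [hcount] at e1 e2
    have s1 : ((∑ j, (d j + l + 1).toNat : ℕ) : ℤ) = ∑ j, (d j + l + 1) := by
      push_cast
      exact Finset.sum_congr rfl (fun j _ => Int.toNat_of_nonneg (hl2 j))
    have s2 : ((∑ j, (d j + (l + 1) + 1).toNat : ℕ) : ℤ) = ∑ j, (d j + l + 1) + r := by
      push_cast
      have : ∀ j, ((d j + (l + 1) + 1).toNat : ℤ) = (d j + l + 1) + 1 := fun j => by
        rw [Int.toNat_of_nonneg (by have := hl2 j; omega)]; ring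
      rw [Finset.sum_congr rfl (fun j _ => this j), Finset.sum_add_distrib]
      simp
    rw [s1] at e1
    rw [s2] at e2
    omega
  subst hr
  refine ⟨d, hd (by decide : (0 : Fin 2) ≤ 1), ⟨e'⟩, fun l => ?_⟩
  obtain ⟨_, hT, hdd, hc⟩ := h0_twists k E hE hg π hπ hrk L hL l
  rw [hc, hcount, Fin.sum_univ_two]

open Groth.Agent.Lib.Helper21.ModTensor Groth.Agent.Lib.Helper21.ModTensor2
  Groth.Agent.Lib.Helper21.ModTensor5 Groth.Agent.Lib.Helper21.ModTensor6
  Groth.Agent.Lib.Helper21.ModTensor7 Groth.Agent.Lib.Helper21.ModTensor3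
  Groth.Agent.Lib.R2H1.PicLaw Groth.Agent.Lib.R2H1.PencilTrick in
/-- `L ⊗ π^*O(-e)` is trivial exactly when `L ≅ π^*O(e)` -/
theorem twist_trivial_iff {X : Scheme.{u}} (π : X ⟶ CohB1.ProjSpace 1 k) (L : X.Modules) (e : ℤ) :
    Nonempty (CohB1.tensorMod L ((Scheme.Modules.pullback π).obj (Twist.twistProjSpace 1 k (-e))) ≅
      Coh.structureModule X) ↔
    Nonempty (L ≅ (Scheme.Modules.pullback π).obj (Twist.twistProjSpace 1 k e)) := by
  have hO1 := Groth.Agent.Lib.R2Lead.KRR.isInvertible_twistProjSpace 1 k e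
  have hO2 := Groth.Agent.Lib.R2Lead.KRR.isInvertible_twistProjSpace 1 k (-e)
  obtain ⟨t1⟩ := Groth.Agent.Lib.Helper23.PB.nonempty_pullback_tensorMod_iso π _ _ hO1 hO2
  obtain ⟨t2⟩ := Groth.Agent.Lib.R2Lead.KRR.nonempty_twistProjSpace_tensor_iso 1 k e (-e)
  obtain ⟨t3⟩ := Groth.Agent.Lib.R2Lead.KRR.nonempty_twistProjSpace_zero_iso 1 k
  have θ : CohB1.tensorMod ((Scheme.Modules.pullback π).obj (Twist.twistProjSpace 1 k e))
      ((Scheme.Modules.pullback π).obj (Twist.twistProjSpace 1 k (-e))) ≅ Coh.structureModule X :=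
    t1.symm ≪≫ (Scheme.Modules.pullback π).mapIso (t2 ≪≫ eqToIso (by rw [add_neg_cancel]) ≪≫ t3) ≪≫
      Groth.Agent.Lib.Helper23.PB.pullbackUnitIso π
  constructor
  · rintro ⟨i⟩
    exact ⟨(cancelIso _ _ θ L).symm ≪≫ tensorIsoRight _ (commI _ L ≪≫ i) ≪≫ runitI _⟩
  · rintro ⟨i⟩
    exact ⟨(tR X.sheaf ((Scheme.Modules.pullback π).obj (Twist.twistProjSpace 1 k (-e)))).mapIso i ≪≫ θ⟩

/-- **direct images of invertible modules along a double cover of the projective line by a curve
of genus one** -/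
theorem main (hE : topologicalKrullDim E = 1) (hg : Curv2.genus k E = 1)
    (π : E ⟶ CohB1.ProjSpace 1 k)
    (hπ : π ≫ CohB1.ProjSpace.toSpec 1 k = E ↘ Spec (CommRingCat.of k))
    [IsFinite π] [Flat π] (hrk : ∀ y : ↥(CohB1.ProjSpace 1 k), Scheme.Hom.finrank π y = 2)
    (L : E.Modules) (hL : PicF.IsInvertible L) (d : ℤ) (hd : Curv2.deg k E L 1 = d) :
    (∀ e : ℤ, d = 2 * e + 1 → Nonempty ((Scheme.Modules.pushforward π).obj L ≅
        ∐ fun j : Fin 2 => Twist.twistProjSpace 1 k (![e, e - 1] j))) ∧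
    (∀ e : ℤ, d = 2 * e → Nonempty (L ≅ (Scheme.Modules.pullback π).obj (Twist.twistProjSpace 1 k e)) →
        Nonempty ((Scheme.Modules.pushforward π).obj L ≅
          ∐ fun j : Fin 2 => Twist.twistProjSpace 1 k (![e, e - 2] j))) ∧
    (∀ e : ℤ, d = 2 * e → IsEmpty (L ≅ (Scheme.Modules.pullback π).obj (Twist.twistProjSpace 1 k e)) →
        Nonempty ((Scheme.Modules.pushforward π).obj L ≅
          ∐ fun j : Fin 2 => Twist.twistProjSpace 1 k (![e - 1, e - 1] j))) := by
  haveI intE : IsIntegral E := Groth.Agent.Lib.R2H1.VBSub.isIntegral_of_smooth_geomConn k E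
  have hreg := Groth.Agent.Lib.R2H1.VBSub.hreg_of_smooth k E
  obtain ⟨a, ha, ⟨iso⟩, hcount⟩ := split k E hE hg π hπ hrk L hL
  have hpos : ∀ l : ℤ, 0 < d + 2 * l →
      ((a 0 + l + 1).toNat + (a 1 + l + 1).toNat : ℤ) = d + 2 * l := by
    intro l hl
    obtain ⟨_, hT, hdd, -⟩ := h0_twists k E hE hg π hπ hrk L hL l
    rw [hd] at hdd
    have := (h0_genus_one k E hE hreg hg _ hT).1 (by rw [hdd]; exact hl)
    rw [hcount l, hdd] at this
    exact_mod_cast this
  have hneg : ∀ l : ℤ, d + 2 * l < 0 → (a 0 + l + 1).toNat + (a 1 + l + 1).toNat = 0 := by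
    intro l hl
    obtain ⟨_, hT, hdd, -⟩ := h0_twists k E hE hg π hπ hrk L hL l
    rw [hd] at hdd
    have := (h0_genus_one k E hE hreg hg _ hT).2.1 (by rw [hdd]; exact hl)
    rw [hcount l] at this
    exact this
  have hzero : ∀ e : ℤ, d = 2 * e →
      (Nonempty (L ≅ (Scheme.Modules.pullback π).obj (Twist.twistProjSpace 1 k e)) →
        (a 0 + (-e) + 1).toNat + (a 1 + (-e) + 1).toNat = 1) ∧
      (IsEmpty (L ≅ (Scheme.Modules.pullback π).obj (Twist.twistProjSpace 1 k e)) →
        (a 0 + (-e) + 1).toNat + (a 1 + (-e) + 1).toNat = 0) := by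
    intro e he
    obtain ⟨_, hT, hdd, -⟩ := h0_twists k E hE hg π hπ hrk L hL (-e)
    rw [hd] at hdd
    have h3 := (h0_genus_one k E hE hreg hg _ hT).2.2 (by rw [hdd, he]; ring)
    rw [hcount (-e)] at h3
    refine ⟨fun hi => h3.1 ((twist_trivial_iff k π L e).2 hi), fun hi => h3.2 ?_⟩
    exact ⟨fun i => hi.false ((twist_trivial_iff k π L e).1 ⟨i⟩).some⟩
  refine ⟨fun e he => ?_, fun e he hi => ?_, fun e he hi => ?_⟩
  · have h1 := hneg (-e - 1) (by omega)
    have h2 := hpos (-e) (by omega)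
    have h3 := hpos (-e + 1) (by omega)
    have h0 : a 0 = e := by omega
    have h1' : a 1 = e - 1 := by omega
    have : a = ![e, e - 1] := by
      funext j
      fin_cases j
      · exact h0
      · exact h1'
    subst this
    exact ⟨iso⟩
  · have h1 := hneg (-e - 1) (by omega)
    have h2 := (hzero e he).1 hi
    have h3 := hpos (-e + 1) (by omega)
    have h4 := hpos (-e + 2) (by omega)
    have h0 : a 0 = e := by omega
    have h1' : a 1 = e - 2 := by omega
    have : a = ![e, e - 2] := by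
      funext j
      fin_cases j
      · exact h0
      · exact h1'
    subst this
    exact ⟨iso⟩
  · have h2 := (hzero e he).2 hi
    have h3 := hpos (-e + 1) (by omega)
    have h0 : a 0 = e - 1 := by omega
    have h1' : a 1 = e - 1 := by omega
    have : a = ![e - 1, e - 1] := by
      funext j
      fin_cases j
      · exact h0
      · exact h1'
    subst this
    exact ⟨iso⟩

end Main

end Part1

end Groth.Agent.Lib.R2H1.PushEll
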