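/-
Blowing up a section of a projective line over a PID-local base: effective Cartier ideal of a section of P^1 and lifting to the blow-up (S17086).
-/
import Mathlib
import Groth.Prelude
import Groth.Agent.Lib.R2H1PLineA

set_option autoImplicit false
set_option linter.style.haveILetI false
set_option linter.unusedSectionVars false
universe u v

namespace Groth.Agent.Lib.R2H1.BlowLift

section Part1

open CategoryTheory CategoryTheory.Limits AlgebraicGeometry TopologicalSpace Opposite
open Groth.Agent.Lib.R2H1.PLineA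

/-- the coordinate rings of the standard charts of the projective line over a field are principal -/
theorem isPrincipalIdealRing_sections (K : Type u) [Field K] (i : Fin (1 + 1)) :
    IsPrincipalIdealRing Γ(Proj (CohB1.polyGrading 1 K),
      Proj.basicOpen (CohB1.polyGrading 1 K) (MvPolynomial.X i : MvPolynomial (Fin (1 + 1)) K)) := by
  haveI := isPrincipalIdealRing_away K i
  exact IsPrincipalIdealRing.of_surjective
    (Proj.basicOpenIsoAway (CohB1.polyGrading 1 K) (MvPolynomial.X i : MvPolynomial (Fin (1 + 1)) K)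
      (Groth.Agent.Lib.Helper27PnChart.X_mem_one 1 K i) one_pos).hom.hom
    (ConcreteCategory.bijective_of_isIso (Proj.basicOpenIsoAway (CohB1.polyGrading 1 K)
      (MvPolynomial.X i : MvPolynomial (Fin (1 + 1)) K)
      (Groth.Agent.Lib.Helper27PnChart.X_mem_one 1 K i) one_pos).hom).2

/-- on the projective line over a field, an ideal sheaf whose support is not everything is an
effective Cartier divisor -/
theorem isEffCartierIdeal_projLine (K : Type u) [Field K]
    (J : (Proj (CohB1.polyGrading 1 K)).IdealSheafData)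
    (hJ : (J.support : Set (Proj (CohB1.polyGrading 1 K))) ≠ Set.univ) :
    BlowUp.IsEffCartierIdeal J := by
  haveI := isIntegral_projSpace 1 K
  intro x
  have hx' : x ∈ (⨆ i : Fin (1 + 1), Proj.basicOpen (CohB1.polyGrading 1 K)
      (MvPolynomial.X i : MvPolynomial (Fin (1 + 1)) K)) := by
    rw [Groth.Agent.Lib.Helper27PnChart.iSup_basicOpen_X 1 K]; trivial
  obtain ⟨i, hi⟩ := Opens.mem_iSup.1 hx'
  have hU := Proj.isAffineOpen_basicOpen (CohB1.polyGrading 1 K)
    (MvPolynomial.X i : MvPolynomial (Fin (1 + 1)) K)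
    (Groth.Agent.Lib.Helper27PnChart.X_mem_one 1 K i) one_pos
  let U : (Proj (CohB1.polyGrading 1 K)).affineOpens :=
    ⟨Proj.basicOpen (CohB1.polyGrading 1 K) (MvPolynomial.X i : MvPolynomial (Fin (1 + 1)) K), hU⟩
  have hpid := isPrincipalIdealRing_sections K i
  obtain ⟨g, hg⟩ := (hpid.principal (J.ideal U)).principal
  haveI : Nonempty U.1 := ⟨⟨x, hi⟩⟩
  refine ⟨U, hi, g, ?_, hg⟩
  apply mem_nonZeroDivisors_of_ne_zero
  rintro rfl
  have hbot : J.ideal U = ⊥ := by
    rw [hg]
    exact Submodule.span_zero_singleton _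
  apply hJ
  have hsub : (U.1 : Set (Proj (CohB1.polyGrading 1 K))) ⊆ J.support := by
    intro y hy
    rw [SetLike.mem_coe, Scheme.IdealSheafData.mem_support_iff_of_mem hy, hbot,
      Scheme.mem_zeroLocus_iff]
    intro f hf
    rw [SetLike.mem_coe, Ideal.mem_bot] at hf
    rw [hf, Scheme.basicOpen_zero]
    exact fun h => h
  have hd : Dense (U.1 : Set (Proj (CohB1.polyGrading 1 K))) := U.1.2.dense ⟨x, hi⟩
  exact Set.eq_univ_of_univ_subset (hd.closure_eq ▸ closure_minimal hsub J.support.isClosed)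

theorem s17086 {k : Type u} [Field k] [IsAlgClosed k] {n : ℕ} (X : Scheme.{u})
    (c : X ⟶ CohB1.ProjSpace n k) [IsClosedImmersion c]
    (Z : Scheme.{u}) (iZ : Z ⟶ X) [IsClosedImmersion iZ]
    (B : Scheme.{u}) (σ : B ⟶ X) (hσ : BlowUp.IsBlowUp σ iZ.ker)
    (f : CohB1.ProjSpace 1 k ⟶ X)
    (hf : f ≫ c ≫ CohB1.ProjSpace.toSpec n k = CohB1.ProjSpace.toSpec 1 k)
    (hfZ : ¬ Set.range f ⊆ Set.range iZ) :
    ∃! g : CohB1.ProjSpace 1 k ⟶ B, g ≫ σ = f := by
  refine hσ.2 (CohB1.ProjSpace 1 k) f ?_
  refine isEffCartierIdeal_projLine k (iZ.ker.comap f) ?_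
  intro h
  apply hfZ
  rintro _ ⟨y, rfl⟩
  have hy : y ∈ ((iZ.ker.comap f).support : Set (CohB1.ProjSpace 1 k)) := h ▸ Set.mem_univ y
  rw [Scheme.IdealSheafData.support_comap] at hy
  have h2 : f y ∈ (iZ.ker.support : Set X) := hy
  rw [Scheme.Hom.support_ker, iZ.isClosedEmbedding.isClosed_range.closure_eq] at h2
  exact h2

end Part1

end Groth.Agent.Lib.R2H1.BlowLift
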