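import Mathlib
import Groth.Prelude.Def_Curv2
import Groth.Agent.Lib.Helper4BirIso

open CategoryTheory CategoryTheory.Limits AlgebraicGeometry

universe u

namespace Groth.Agent.Lib.R2H4.BirFF

lemma stalkMap_ofHom (k : Type u) [Field k] (X : Scheme.{u}) [X.Over (Spec (CommRingCat.of k))]
    (x : X) : CommRingCat.ofHom (Curv2.stalkMap k X x) =
      (Scheme.ΓSpecIso (CommRingCat.of k)).inv ≫ (X ↘ Spec (CommRingCat.of k)).appTop ≫
        X.presheaf.germ ⊤ x trivial := by
  ext c
  rfl

theorem main (k : Type u) [Field k] (X : Scheme.{u}) [X.Over (Spec (CommRingCat.of k))]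
    [IsIntegral X] [LocallyOfFiniteType (X ↘ (Spec (CommRingCat.of k)))]
    (Y : Scheme.{u}) [Y.Over (Spec (CommRingCat.of k))] [IsIntegral Y]
    [LocallyOfFiniteType (Y ↘ (Spec (CommRingCat.of k)))]
    (e : X.functionField ≅ Y.functionField)
    (he : e.hom.hom.comp (Curv2.stalkMap k X (genericPoint X)) =
      Curv2.stalkMap k Y (genericPoint Y)) :
    ∃ (U : X.Opens) (V : Y.Opens), (U : Set ↥X).Nonempty ∧
      ∃ φ : (U : Scheme.{u}) ≅ (V : Scheme.{u}),
        φ.hom ≫ V.ι ≫ (Y ↘ (Spec (CommRingCat.of k))) =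
          U.ι ≫ (X ↘ (Spec (CommRingCat.of k))) := by
  have hsub : Subsingleton (Spec (CommRingCat.of k)) :=
    inferInstanceAs (Subsingleton (PrimeSpectrum k))
  have hs : (X ↘ Spec (CommRingCat.of k)) (genericPoint X) =
      (Y ↘ Spec (CommRingCat.of k)) (genericPoint Y) := Subsingleton.elim _ _
  have he' : CommRingCat.ofHom (Curv2.stalkMap k X (genericPoint X)) ≫ e.hom =
      CommRingCat.ofHom (Curv2.stalkMap k Y (genericPoint Y)) := by
    ext c
    exact congrFun (congrArg DFunLike.coe he) c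
  rw [stalkMap_ofHom, stalkMap_ofHom, Category.assoc, Category.assoc, Iso.cancel_iso_inv_left]
    at he'
  have hB : Scheme.BirationalOver (X ↘ Spec (CommRingCat.of k)) (Y ↘ Spec (CommRingCat.of k)) := by
    refine Groth.Agent.Lib.Helper4.BirIso.birationalOver_of_stalk_iso _ _ (genericPoint X) (genericPoint Y) hs e.symm ?_
    rw [Iso.symm_hom, Iso.comp_inv_eq]
    apply TopCat.Presheaf.stalk_hom_ext
    intro U hU
    obtain rfl : U = ⊤ := by
      ext y
      simp only [TopologicalSpace.Opens.coe_top, Set.mem_univ, iff_true]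
      rw [Subsingleton.elim y _]
      exact hU
    rw [Scheme.Hom.germ_stalkMap, Category.assoc, TopCat.Presheaf.germ_stalkSpecializes_assoc,
      Scheme.Hom.germ_stalkMap_assoc]
    exact he'.symm
  obtain ⟨P, hP⟩ := hB
  exact ⟨P.source, P.target, P.dense_source.nonempty, P.iso, hP⟩

end Groth.Agent.Lib.R2H4.BirFF
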