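/-
helper1 (round 2): rational curves in P^n. Affine chart Spec Aw -> P^1_k over k (jj, jj_toSpec, eAw : k[T] = Aw, theta : RatFunc k = function field of the chart, k-linear), stalkMap_Spec, thetaR, map_genericPoint (dominant maps send generic point to generic point), ffMap_stalkMap (function field map of a k-morphism is k-linear), ker_eq_vanishingIdeal (kernel of a morphism from a reduced scheme is the vanishing ideal of the closure of its range), ker_eq_of_closure_range_eq, valuationRing_stalk_proj1, converse/forward/s17085 (S17085: integral projective curve is rational iff it is the scheme-theoretic image of P^1; uses Luroth).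
-/
import Mathlib
import Groth.Prelude
import Groth.Agent.Lib.R2H1PLineA
import Groth.Agent.Lib.R2H1BlowLift
import Groth.Agent.Lib.R2H1CurveDeg
import Groth.Agent.Lib.R2H1NormPush
import Groth.Agent.Lib.R2H4BirFF
import Groth.Agent.Lib.Helper4RatMapExt
import Groth.Agent.S9705

set_option autoImplicit false
set_option linter.style.haveILetI false
set_option linter.unusedSectionVars false
universe u v

namespace Groth.Agent.Lib.R2H1.RatLine

section Part1

open CategoryTheory CategoryTheory.Limits AlgebraicGeometry TopologicalSpace Opposite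
open Groth.Agent.Lib.R2H1.PLineA

attribute [local instance] Curv2.stalkAlgebra

section Affine

variable (k : Type u) [Field k] (R : CommRingCat.{u}) [IsDomain R] (φ : k →+* R)

/-- `Spec R` as a `k`-scheme through `φ` -/
noncomputable def overSpec : (Spec R).Over (Spec (CommRingCat.of k)) :=
  ⟨Spec.map (CommRingCat.ofHom φ)⟩

theorem stalkMap_Spec (c : k) :
    letI := overSpec k R φ
    Curv2.stalkMap k (Spec R) (genericPoint (Spec R)) c =
      algebraMap R (Spec R).functionField (φ c) := by
  letI := overSpec k R φ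
  have hnat := Scheme.ΓSpecIso_inv_naturality (CommRingCat.ofHom φ)
  have h := congrArg (fun ψ => ψ.hom c) hnat
  have h' : (Spec.map (CommRingCat.ofHom φ)).appTop.hom
      ((Scheme.ΓSpecIso (CommRingCat.of k)).inv.hom c) = (Scheme.ΓSpecIso R).inv.hom (φ c) := h.symm
  show ((Spec R).presheaf.germ ⊤ (genericPoint (Spec R)) trivial).hom
      ((Spec.map (CommRingCat.ofHom φ)).appTop.hom
        ((Scheme.ΓSpecIso (CommRingCat.of k)).inv.hom c)) = _
  rw [h']
  rfl

/-- the function field of `Spec R` for `R ≅ k[T]` -/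
noncomputable def thetaR (e : Polynomial k ≃+* R) : RatFunc k ≃+* (Spec R).functionField :=
  IsFractionRing.ringEquivOfRingEquiv e

theorem thetaR_algebraMap (e : Polynomial k ≃+* R) (he : ∀ c, e (Polynomial.C c) = φ c) (c : k) :
    letI := overSpec k R φ
    thetaR k R e (algebraMap k (RatFunc k) c) =
      Curv2.stalkMap k (Spec R) (genericPoint (Spec R)) c := by
  letI := overSpec k R φ
  rw [IsScalarTower.algebraMap_apply k (Polynomial k) (RatFunc k)]
  unfold thetaR
  rw [IsFractionRing.ringEquivOfRingEquiv_algebraMap, Polynomial.algebraMap_apply]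
  have h0 : algebraMap k k c = c := rfl
  rw [h0, he]
  exact (stalkMap_Spec k R φ c).symm

end Affine

section Generic

theorem map_genericPoint {X Y : Scheme.{u}} [IrreducibleSpace X] [IrreducibleSpace Y] (f : X ⟶ Y)
    (hf : DenseRange f) : f (genericPoint X) = genericPoint Y := by
  apply ((genericPoint_spec Y).eq _).symm
  have h := (genericPoint_spec X).image f.continuous
  rw [Set.image_univ, hf.closure_eq] at h
  exact h

theorem ffMap_stalkMap (k : Type u) [Field k] {X Y : Scheme.{u}} [X.Over (Spec (CommRingCat.of k))]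
    [Y.Over (Spec (CommRingCat.of k))] [IsIntegral X] [IsIntegral Y] (p : X ⟶ Y)
    (hp : p ≫ (Y ↘ Spec (CommRingCat.of k)) = X ↘ Spec (CommRingCat.of k))
    (hdom : p (genericPoint X) = genericPoint Y) (c : k) :
    Groth.Agent.Lib.R2H1.NormPush.ffMap p hdom (Curv2.stalkMap k Y (genericPoint Y) c) =
      Curv2.stalkMap k X (genericPoint X) c := by
  haveI : Nonempty (⊤ : Y.Opens) := ⟨⟨genericPoint Y, trivial⟩⟩
  have h1 := Groth.Agent.Lib.R2H1.NormPush.ffMap_germ p hdom ⊤
    (Coh.toGlobal (Y ↘ Spec (CommRingCat.of k)) c)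
  have h2 : Coh.toGlobal (X ↘ Spec (CommRingCat.of k)) c =
      p.appTop.hom (Coh.toGlobal (Y ↘ Spec (CommRingCat.of k)) c) := by
    unfold Coh.toGlobal
    rw [← hp, Scheme.Hom.comp_appTop]
    rfl
  refine Eq.trans (?_ : _ = Groth.Agent.Lib.R2H1.NormPush.ffMap p hdom
    (Y.germToFunctionField ⊤ (Coh.toGlobal (Y ↘ Spec (CommRingCat.of k)) c))) (h1.trans ?_)
  · rfl
  · show _ = ((X.presheaf.germ ⊤ (genericPoint X) trivial).hom)
      (Coh.toGlobal (X ↘ Spec (CommRingCat.of k)) c)
    rw [h2]
    rfl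

theorem ker_eq_vanishingIdeal {X Y : Scheme.{u}} [IsReduced X] (f : X ⟶ Y) :
    f.ker = Scheme.IdealSheafData.vanishingIdeal (.closure (Set.range f)) := by
  have h1 : f.ker = (⊥ : X.IdealSheafData).map f := (Scheme.IdealSheafData.map_bot f).symm
  rw [h1, ← Scheme.nilradical_eq_bot, ← Scheme.IdealSheafData.vanishingIdeal_top,
    Scheme.IdealSheafData.map_vanishingIdeal]
  congr 2
  simp

theorem closure_range_eq_of_ker_eq {X X' Y : Scheme.{u}} [IsReduced X] [IsReduced X'] (f : X ⟶ Y)
    (f' : X' ⟶ Y) (h : f.ker = f'.ker) : closure (Set.range f) = closure (Set.range f') := by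
  rw [ker_eq_vanishingIdeal f, ker_eq_vanishingIdeal f'] at h
  have h2 := congrArg (fun I : Y.IdealSheafData => (I.support : Set Y)) h
  simpa using h2

theorem ker_eq_of_closure_range_eq {X X' Y : Scheme.{u}} [IsReduced X] [IsReduced X'] (f : X ⟶ Y)
    (f' : X' ⟶ Y) (h : closure (Set.range f) = closure (Set.range f')) : f.ker = f'.ker := by
  rw [ker_eq_vanishingIdeal f, ker_eq_vanishingIdeal f']
  congr 1
  exact TopologicalSpace.Closeds.ext h

/-- the local rings of `Proj k[T_0,T_1]` are valuation rings -/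
theorem valuationRing_stalk_proj1 (K : Type u) [Field K] [IsIntegral (Proj (CohB1.polyGrading 1 K))]
    (x' : Proj (CohB1.polyGrading 1 K)) :
    ValuationRing ((Proj (CohB1.polyGrading 1 K)).presheaf.stalk x') := by
  have hx' : x' ∈ (⨆ i : Fin (1 + 1), Proj.basicOpen (CohB1.polyGrading 1 K)
      (MvPolynomial.X i : MvPolynomial (Fin (1 + 1)) K)) := by
    rw [Groth.Agent.Lib.Helper27PnChart.iSup_basicOpen_X 1 K]; trivial
  obtain ⟨i, hi⟩ := Opens.mem_iSup.1 hx'
  have hU := Proj.isAffineOpen_basicOpen (CohB1.polyGrading 1 K)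
    (MvPolynomial.X i : MvPolynomial (Fin (1 + 1)) K)
    (Groth.Agent.Lib.Helper27PnChart.X_mem_one 1 K i) one_pos
  have hpid := Groth.Agent.Lib.R2H1.BlowLift.isPrincipalIdealRing_sections K i
  exact valuationRing_stalk_of_pid _ hU hpid x' hi

end Generic

section Chart

variable (k : Type u) [Field k]

/-- the coordinate `T_0` -/
noncomputable abbrev x0 : MvPolynomial (Fin (1 + 1)) k := MvPolynomial.X 0

/-- the chart ring of `P^1` -/
abbrev Aw : Type u := HomogeneousLocalization.Away (CohB1.polyGrading 1 k) (x0 k)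

/-- structure map `k → Aw` -/
noncomputable def strAw : k →+* Aw k :=
  (HomogeneousLocalization.fromZeroRingHom (CohB1.polyGrading 1 k) (Submonoid.powers (x0 k))).comp
    (algebraMap k (CohB1.polyGrading 1 k 0))

instance uniqueNeZero : Unique {j : Fin (1 + 1) // j ≠ 0} where
  default := ⟨1, by decide⟩
  uniq := by
    rintro ⟨j, hj⟩
    apply Subtype.ext
    apply Fin.ext
    have h1 := j.isLt
    have h4 : j.val ≠ 0 := fun h => hj (Fin.ext h)
    change j.val = 1
    omega

noncomputable def e1 : Polynomial k ≃ₐ[k] MvPolynomial PUnit.{1} k := (MvPolynomial.pUnitAlgEquiv k).symm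

noncomputable def e2 : MvPolynomial PUnit.{1} k ≃ₐ[k] MvPolynomial {j : Fin (1 + 1) // j ≠ 0} k :=
  MvPolynomial.renameEquiv k (Equiv.ofUnique PUnit.{1} {j : Fin (1 + 1) // j ≠ 0})

noncomputable def phi : Polynomial k →+* Aw k :=
  (Groth.Agent.Lib.Helper27PnChart.chart 1 k 0).comp
    ((e2 k : MvPolynomial PUnit.{1} k →+* MvPolynomial {j : Fin (1 + 1) // j ≠ 0} k).comp
      (e1 k : Polynomial k →+* MvPolynomial PUnit.{1} k))

theorem phi_apply (p : Polynomial k) :
    phi k p = Groth.Agent.Lib.Helper27PnChart.chart 1 k 0 (e2 k (e1 k p)) := rfl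

theorem phi_bijective : Function.Bijective (phi k) := by
  constructor
  · intro a b h
    rw [phi_apply, phi_apply] at h
    exact (e1 k).injective ((e2 k).injective
      ((Groth.Agent.Lib.Helper27PnChart.chart_bijective 1 k 0).1 h))
  · intro y
    obtain ⟨p, rfl⟩ := (Groth.Agent.Lib.Helper27PnChart.chart_bijective 1 k 0).2 y
    obtain ⟨q, rfl⟩ := (e2 k).surjective p
    obtain ⟨r, rfl⟩ := (e1 k).surjective q
    exact ⟨r, rfl⟩

theorem phi_C (c : k) : phi k (Polynomial.C c) = strAw k c := by
  have h1 : e1 k (Polynomial.C c) = MvPolynomial.C c := by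
    have := (e1 k).commutes c
    simpa [Polynomial.algebraMap_apply, MvPolynomial.algebraMap_eq] using this
  have h2 : e2 k (MvPolynomial.C c) = MvPolynomial.C c := by
    have := (e2 k).commutes c
    rwa [MvPolynomial.algebraMap_eq] at this
  rw [phi_apply, h1, h2]
  unfold Groth.Agent.Lib.Helper27PnChart.chart
  rw [MvPolynomial.eval₂Hom_C]
  rfl

noncomputable def eAw : Polynomial k ≃+* Aw k := RingEquiv.ofBijective (phi k) (phi_bijective k)

theorem eAw_C (c : k) : eAw k (Polynomial.C c) = strAw k c := phi_C k c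

instance isDomain_Aw : IsDomain (Aw k) :=
  Function.Injective.isDomain ((eAw k).symm : Aw k →+* Polynomial k) (eAw k).symm.injective

/-- the chart `Spec (Aw) ⟶ P^1` -/
noncomputable def jj : Spec (CommRingCat.of (Aw k)) ⟶ CohB1.ProjSpace 1 k :=
  Proj.awayι (CohB1.polyGrading 1 k) (x0 k) (Groth.Agent.Lib.Helper27PnChart.X_mem_one 1 k 0) one_pos

instance isOpenImmersion_jj : IsOpenImmersion (jj k) :=
  (inferInstance : IsOpenImmersion (Proj.awayι (CohB1.polyGrading 1 k) (x0 k)
    (Groth.Agent.Lib.Helper27PnChart.X_mem_one 1 k 0) one_pos))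

theorem jj_toSpec : jj k ≫ CohB1.ProjSpace.toSpec 1 k = Spec.map (CommRingCat.ofHom (strAw k)) := by
  have h := Proj.awayι_toSpecZero (CohB1.polyGrading 1 k) (x0 k)
    (Groth.Agent.Lib.Helper27PnChart.X_mem_one 1 k 0) one_pos
  show Proj.awayι (CohB1.polyGrading 1 k) (x0 k)
      (Groth.Agent.Lib.Helper27PnChart.X_mem_one 1 k 0) one_pos ≫
    (Proj.toSpecZero (CohB1.polyGrading 1 k) ≫
      Spec.map (CommRingCat.ofHom (algebraMap k (CohB1.polyGrading 1 k 0)))) = _
  rw [← Category.assoc, h, ← Spec.map_comp]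
  rfl

/-- the affine chart as a scheme -/
noncomputable abbrev SA : Scheme.{u} := Spec (CommRingCat.of (Aw k))

/-- `Spec Aw` as a `k`-scheme -/
noncomputable def overAw : (SA k).Over (Spec (CommRingCat.of k)) :=
  overSpec k (CommRingCat.of (Aw k)) (strAw k)

attribute [local instance] overAw

theorem over_eq : (SA k ↘ Spec (CommRingCat.of k)) =
    Spec.map (CommRingCat.ofHom (strAw k)) := rfl

instance lft_Aw : LocallyOfFiniteType (SA k ↘ Spec (CommRingCat.of k)) := by
  rw [over_eq, ← jj_toSpec]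
  haveI := Groth.Agent.S9705.isProper_projSpace_toSpec 1 k
  infer_instance

instance isIntegral_SpecAw : IsIntegral (SA k) := inferInstance

/-- the function field of the chart is the rational function field -/
noncomputable def theta' : RatFunc k ≃+* (SA k).functionField :=
  thetaR k (CommRingCat.of (Aw k)) (eAw k)

theorem theta'_algebraMap (c : k) :
    theta' k (algebraMap k (RatFunc k) c) = algebraMap k (SA k).functionField c :=
  thetaR_algebraMap k (CommRingCat.of (Aw k)) (strAw k) (eAw k) (eAw_C k) c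

noncomputable def theta : RatFunc k ≃ₐ[k] (SA k).functionField :=
  AlgEquiv.ofRingEquiv (f := theta' k) (theta'_algebraMap k)

end Chart

section Main

variable {k : Type u} [Field k]

attribute [local instance] overAw

theorem converse {n : ℕ} (C : Scheme.{u}) (i : C ⟶ CohB1.ProjSpace n k) [IsClosedImmersion i]
    [IsIntegral C] (hdim : topologicalKrullDim C = 1)
    (f : CohB1.ProjSpace 1 k ⟶ CohB1.ProjSpace n k)
    (hf : f ≫ CohB1.ProjSpace.toSpec n k = CohB1.ProjSpace.toSpec 1 k) (hker : f.ker = i.ker) :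
    ∃ (U : C.Opens) (V : (CohB1.ProjSpace 1 k).Opens) (e : (↑U : Scheme.{u}) ≅ ↑V),
      Nonempty U ∧
        e.hom ≫ V.ι ≫ CohB1.ProjSpace.toSpec 1 k = U.ι ≫ i ≫ CohB1.ProjSpace.toSpec n k := by
  classical
  haveI hPint : IsIntegral (CohB1.ProjSpace 1 k) := isIntegral_projSpace 1 k
  haveI hprop : IsProper (CohB1.ProjSpace.toSpec n k) :=
    Groth.Agent.S9705.isProper_projSpace_toSpec n k
  -- the lift of `f` through `C`
  let g : CohB1.ProjSpace 1 k ⟶ C := IsClosedImmersion.lift i f hker.ge
  have hg : g ≫ i = f := IsClosedImmersion.lift_fac i f hker.ge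
  have hcl : closure (Set.range f) = Set.range i := by
    rw [closure_range_eq_of_ker_eq f i hker]
    exact i.isClosedEmbedding.isClosed_range.closure_eq
  have hfi : ∀ x, f x = i (g x) := fun x => by rw [← hg]; rfl
  have hgd : DenseRange g := by
    intro y
    rw [i.isClosedEmbedding.isInducing.closure_eq_preimage_closure_image]
    have h1 : i '' Set.range g = Set.range f := by
      ext z
      constructor
      · rintro ⟨_, ⟨x, rfl⟩, rfl⟩
        exact ⟨x, hfi x⟩
      · rintro ⟨x, rfl⟩
        exact ⟨g x, ⟨x, rfl⟩, (hfi x).symm⟩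
    show i y ∈ closure (i '' Set.range g)
    rw [h1, hcl]
    exact ⟨y, rfl⟩
  letI instC : C.Over (Spec (CommRingCat.of k)) := ⟨i ≫ CohB1.ProjSpace.toSpec n k⟩
  haveI : LocallyOfFiniteType (C ↘ Spec (CommRingCat.of k)) := by
    show LocallyOfFiniteType (i ≫ CohB1.ProjSpace.toSpec n k)
    infer_instance
  let g' : SA k ⟶ C := jj k ≫ g
  have hjd : DenseRange (jj k) := by
    have hopen : IsOpen (Set.range (jj k)) := (jj k).isOpenEmbedding.isOpen_range
    exact hopen.dense (Set.range_nonempty _)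
  have hg'd : DenseRange g' := hgd.comp hjd g.continuous
  have hg'k : g' ≫ (C ↘ Spec (CommRingCat.of k)) = (SA k ↘ Spec (CommRingCat.of k)) := by
    show (jj k ≫ g) ≫ i ≫ CohB1.ProjSpace.toSpec n k = Spec.map (CommRingCat.ofHom (strAw k))
    rw [Category.assoc, ← Category.assoc g, hg, hf, jj_toSpec]
  have hdom : g' (genericPoint (SA k)) = genericPoint C := map_genericPoint g' hg'd
  let ψ : C.functionField →+* (SA k).functionField :=
    Groth.Agent.Lib.R2H1.NormPush.ffMap g' hdom
  have hψ : ∀ c : k, ψ (algebraMap k C.functionField c) = algebraMap k (SA k).functionField c :=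
    fun c => ffMap_stalkMap k g' hg'k hdom c
  let ψₐ : C.functionField →ₐ[k] (SA k).functionField := { ψ with commutes' := hψ }
  let F : C.functionField →ₐ[k] RatFunc k := ((theta k).symm : _ →ₐ[k] RatFunc k).comp ψₐ
  have hFinj : Function.Injective F := (F : C.functionField →+* RatFunc k).injective
  let E : IntermediateField k (RatFunc k) := F.fieldRange
  have hE : E ≠ ⊥ := by
    intro hbot
    have hsurj : Function.Surjective (algebraMap k C.functionField) := by
      intro y
      have hy : F y ∈ E := AlgHom.mem_fieldRange.2 ⟨y, rfl⟩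
      rw [hbot, IntermediateField.mem_bot] at hy
      obtain ⟨c, hc⟩ := hy
      refine ⟨c, hFinj ?_⟩
      rw [← hc]
      exact F.commutes c
    haveI : Algebra.IsAlgebraic k C.functionField :=
      ⟨fun y => by obtain ⟨c, rfl⟩ := hsurj y; exact isAlgebraic_algebraMap c⟩
    have h0 : Algebra.trdeg k C.functionField = 0 := trdeg_eq_zero
    have h1 := Groth.Agent.Lib.R2H1.CurveDeg.trdeg_functionField k C hdim
    rw [h0] at h1
    exact zero_ne_one h1
  let ε2 : RatFunc k ≃ₐ[k] E := RatFunc.Luroth.algEquiv hE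
  let F' : C.functionField →ₐ[k] E :=
    F.codRestrict E.toSubalgebra (fun y => AlgHom.mem_fieldRange.2 ⟨y, rfl⟩)
  have hF' : Function.Bijective F' := by
    constructor
    · intro a b h
      exact hFinj (congrArg Subtype.val h)
    · rintro ⟨z, hz⟩
      obtain ⟨y, hy⟩ := AlgHom.mem_fieldRange.1 hz
      exact ⟨y, Subtype.ext hy⟩
  let ε1 : C.functionField ≃ₐ[k] E := AlgEquiv.ofBijective F' hF'
  let total : C.functionField ≃ₐ[k] (SA k).functionField := ε1.trans (ε2.symm.trans (theta k))
  let e : C.functionField ≅ (SA k).functionField := total.toRingEquiv.toCommRingCatIso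
  have he : e.hom.hom.comp (Curv2.stalkMap k C (genericPoint C)) =
      Curv2.stalkMap k (SA k) (genericPoint (SA k)) :=
    RingHom.ext fun c => total.commutes c
  obtain ⟨U, V', hUne, φ, hφ⟩ := Groth.Agent.Lib.R2H4.BirFF.main k C (SA k) e he
  refine ⟨U, (jj k) ''ᵁ V', φ ≪≫ (jj k).isoImage V', hUne.to_subtype, ?_⟩
  rw [Iso.trans_hom, Category.assoc, Scheme.Hom.isoImage_hom_ι_assoc, jj_toSpec]
  exact hφ

theorem forward {n : ℕ} (C : Scheme.{u}) (i : C ⟶ CohB1.ProjSpace n k) [IsClosedImmersion i]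
    [IsIntegral C] (U : C.Opens) (V : (CohB1.ProjSpace 1 k).Opens) (e : (↑U : Scheme.{u}) ≅ ↑V)
    (hU : Nonempty U)
    (he : e.hom ≫ V.ι ≫ CohB1.ProjSpace.toSpec 1 k = U.ι ≫ i ≫ CohB1.ProjSpace.toSpec n k) :
    ∃ f : CohB1.ProjSpace 1 k ⟶ CohB1.ProjSpace n k,
      f ≫ CohB1.ProjSpace.toSpec n k = CohB1.ProjSpace.toSpec 1 k ∧ f.ker = i.ker := by
  haveI hPint0 : IsIntegral (Proj (CohB1.polyGrading 1 k)) := isIntegral_projSpace 1 k
  haveI hPint : IsIntegral (CohB1.ProjSpace 1 k) := hPint0
  haveI hprop : IsProper (CohB1.ProjSpace.toSpec n k) :=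
    Groth.Agent.S9705.isProper_projSpace_toSpec n k
  have hval : ValuativeCriterion.Existence (CohB1.ProjSpace.toSpec n k) := by
    have h0 : (ValuativeCriterion.Existence ⊓ @QuasiCompact) (CohB1.ProjSpace.toSpec n k) := by
      rw [← UniversallyClosed.eq_valuativeCriterion]
      infer_instance
    exact h0.1
  have hstalk : ∀ x : CohB1.ProjSpace 1 k,
      ValuationRing ((CohB1.ProjSpace 1 k).presheaf.stalk x) :=
    fun x => valuationRing_stalk_proj1 k x
  obtain ⟨u0⟩ := hU
  have hVne : (V : Set (CohB1.ProjSpace 1 k)).Nonempty := ⟨(e.hom u0).1, (e.hom u0).2⟩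
  let h : V.toScheme ⟶ CohB1.ProjSpace n k := e.inv ≫ U.ι ≫ i
  have hh : h ≫ CohB1.ProjSpace.toSpec n k = V.ι ≫ CohB1.ProjSpace.toSpec 1 k := by
    show (e.inv ≫ U.ι ≫ i) ≫ CohB1.ProjSpace.toSpec n k = _
    rw [Category.assoc, Category.assoc, ← he, Iso.inv_hom_id_assoc]
  obtain ⟨f, hf1, hf2⟩ := Groth.Agent.Lib.Helper4.RatMapExt.exists_extension_of_valuationRing
    (CohB1.ProjSpace.toSpec 1 k) (CohB1.ProjSpace.toSpec n k) hval hstalk V hVne h hh
  refine ⟨f, hf1, ?_⟩
  haveI : IsReduced (CohB1.ProjSpace 1 k) := inferInstance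
  apply ker_eq_of_closure_range_eq
  have hpt : ∀ w : V.toScheme, f (V.ι w) = i (U.ι (e.inv w)) := fun w => by
    have := congrArg (fun φ : V.toScheme ⟶ CohB1.ProjSpace n k => φ w) hf2
    exact this
  have hUd : Dense (U : Set C) := U.2.dense ⟨u0.1, u0.2⟩
  have hVd : Dense (V : Set (CohB1.ProjSpace 1 k)) := V.2.dense hVne
  have hicl : closure (Set.range i) = Set.range i :=
    i.isClosedEmbedding.isClosed_range.closure_eq
  apply subset_antisymm
  · apply closure_minimal _ isClosed_closure
    rintro _ ⟨x, rfl⟩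
    have hx : x ∈ closure (V : Set (CohB1.ProjSpace 1 k)) := hVd x
    have h1 : f x ∈ closure (f '' (V : Set (CohB1.ProjSpace 1 k))) :=
      image_closure_subset_closure_image f.continuous ⟨x, hx, rfl⟩
    refine closure_mono ?_ h1
    rintro _ ⟨v, hv, rfl⟩
    exact ⟨U.ι (e.inv ⟨v, hv⟩), (hpt ⟨v, hv⟩).symm⟩
  · apply closure_minimal _ isClosed_closure
    rintro _ ⟨y, rfl⟩
    have hy : y ∈ closure (U : Set C) := hUd y
    have h1 : i y ∈ closure (i '' (U : Set C)) :=
      image_closure_subset_closure_image i.continuous ⟨y, hy, rfl⟩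
    refine closure_mono ?_ h1
    rintro _ ⟨u, hu, rfl⟩
    let w : V.toScheme := e.hom ⟨u, hu⟩
    have hw : e.inv w = ⟨u, hu⟩ := by
      have := congrArg (fun φ : U.toScheme ⟶ U.toScheme => φ ⟨u, hu⟩) e.hom_inv_id
      exact this
    refine ⟨V.ι w, ?_⟩
    rw [hpt w, hw]
    rfl

theorem s17085 [IsAlgClosed k] {n : ℕ} (C : Scheme.{u})
    (i : C ⟶ CohB1.ProjSpace n k) [IsClosedImmersion i] [IsIntegral C]
    (hdim : topologicalKrullDim C = 1) :
    (∃ (U : C.Opens) (V : (CohB1.ProjSpace 1 k).Opens) (e : (↑U : Scheme.{u}) ≅ ↑V),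
        Nonempty U ∧
          e.hom ≫ V.ι ≫ CohB1.ProjSpace.toSpec 1 k = U.ι ≫ i ≫ CohB1.ProjSpace.toSpec n k) ↔
      ∃ f : CohB1.ProjSpace 1 k ⟶ CohB1.ProjSpace n k,
        f ≫ CohB1.ProjSpace.toSpec n k = CohB1.ProjSpace.toSpec 1 k ∧ f.ker = i.ker := by
  constructor
  · rintro ⟨U, V, e, hU, he⟩
    exact forward C i U V e hU he
  · rintro ⟨f, hf, hker⟩
    exact converse C i hdim f hf hker

end Main

end Part1

end Groth.Agent.Lib.R2H1.RatLine
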