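import Mathlib
import Groth.Agent.Lib.Helper20QuotRestrict
import Groth.Agent.Lib.Helper20QuotCat
import Groth.Agent.Lib.Helper20QuotTop

set_option autoImplicit false
universe u
open CategoryTheory CategoryTheory.Limits AlgebraicGeometry TopologicalSpace

namespace Groth.Agent.Lib.R2H4QuotExistB

open SGA1 Groth.Agent.Lib.Helper20

section uniq

variable {X X' Y Y' : Scheme.{u}} {G : Type u} [Group G] [Finite G]
  {ρ : G →* Aut X} {ρ' : G →* Aut X'} {p : X ⟶ Y} {p' : X' ⟶ Y'}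

/-- quotients of isomorphic `G`-schemes are isomorphic -/
theorem exists_iso_of_isQuot (hp : IsQuot ρ p) (hp' : IsQuot ρ' p') (θ : X ≅ X')
    (hθ : ∀ g : G, (ρ g).hom ≫ θ.hom = θ.hom ≫ (ρ' g).hom) :
    ∃ a : Y ≅ Y', p ≫ a.hom = θ.hom ≫ p' := by
  have h1 : ∀ g : G, (ρ g).hom ≫ θ.hom ≫ p' = θ.hom ≫ p' := fun g => by
    rw [← Category.assoc, hθ g, Category.assoc, hp'.inv]
  have hθ' : ∀ g : G, (ρ' g).hom ≫ θ.inv = θ.inv ≫ (ρ g).hom := fun g => by
    rw [← cancel_mono θ.hom, Category.assoc, Category.assoc, hθ g, Iso.inv_hom_id_assoc,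
      Iso.inv_hom_id, Category.comp_id]
  have h2 : ∀ g : G, (ρ' g).hom ≫ θ.inv ≫ p = θ.inv ≫ p := fun g => by
    rw [← Category.assoc, hθ' g, Category.assoc, hp.inv]
  have := epi_of_isQuot hp
  have := epi_of_isQuot hp'
  refine ⟨⟨desc hp (θ.hom ≫ p') h1, desc hp' (θ.inv ≫ p) h2, ?_, ?_⟩, fac hp _ h1⟩
  · rw [← cancel_epi p, ← Category.assoc, fac hp _ h1, Category.assoc, fac hp' _ h2,
      Iso.hom_inv_id_assoc, Category.comp_id]
  · rw [← cancel_epi p', ← Category.assoc, fac hp' _ h2, Category.assoc, fac hp _ h1,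
      Iso.inv_hom_id_assoc, Category.comp_id]

theorem isQuot_top_top (hp : IsQuot ρ p) : QuotAt (fun g : G => (ρ g).hom) p ⊤ ⊤ := by
  refine ⟨fun _ _ => trivial, fun _ _ _ => trivial, ?_, ?_⟩
  · rw [appLE_top_top]
    exact hp.injective ⊤
  · intro s hs
    rw [appLE_top_top]
    refine (hp.range_iff ⊤ s).mpr fun g => ?_
    exact hs g

end uniq

section affine

variable {X : Scheme.{u}} {G : Type u} [Group G] [Finite G]

/-- the subring of `G`-invariant global sections -/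
def invSubring (ρ : G →* Aut X) : Subring Γ(X, ⊤) where
  carrier := {s | ∀ g : G, (ρ g).hom.appTop.hom s = s}
  mul_mem' := fun ha hb g => by rw [map_mul, ha g, hb g]
  one_mem' := fun g => map_one _
  add_mem' := fun ha hb g => by rw [map_add, ha g, hb g]
  zero_mem' := fun g => map_zero _
  neg_mem' := fun ha g => by rw [map_neg, ha g]

/-- the quotient of an affine scheme by a finite group exists -/
theorem exists_isQuot_of_isAffine [IsAffine X] (ρ : G →* Aut X) :
    ∃ (Y : Scheme.{u}) (p : X ⟶ Y), IsQuot ρ p := by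
  let B := invSubring ρ
  let ι : CommRingCat.of B ⟶ Γ(X, ⊤) := CommRingCat.ofHom B.subtype
  let p : X ⟶ Spec (CommRingCat.of B) := X.toSpecΓ ≫ Spec.map ι
  have hι : ∀ g : G, ι ≫ (ρ g).hom.appTop = ι := by
    intro g
    ext b
    exact b.2 g
  have hinv : ∀ g : G, (ρ g).hom ≫ p = p := by
    intro g
    change (ρ g).hom ≫ X.toSpecΓ ≫ Spec.map ι = X.toSpecΓ ≫ Spec.map ι
    rw [Scheme.toSpecΓ_naturality_assoc, ← Spec.map_comp, hι g]
  have happ : p.appTop = (Scheme.ΓSpecIso (CommRingCat.of B)).hom ≫ ι := by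
    change (X.toSpecΓ ≫ Spec.map ι).appTop = _
    rw [Scheme.Hom.comp_appTop, Scheme.toSpecΓ_appTop]
    have h1 : (Spec.map ι).appTop =
        (Scheme.ΓSpecIso (CommRingCat.of B)).hom ≫ ι ≫ (Scheme.ΓSpecIso Γ(X, ⊤)).inv := by
      rw [← Category.assoc, ← Scheme.ΓSpecIso_naturality, Category.assoc, Iso.hom_inv_id,
        Category.comp_id]
    rw [h1, Category.assoc, Category.assoc, Iso.inv_hom_id, Category.comp_id]
  refine ⟨Spec (CommRingCat.of B), p, isQuot_of_isAffine ρ inferInstance hinv ?_⟩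
  refine ⟨fun _ _ => trivial, fun _ _ _ => trivial, ?_, ?_⟩
  · rw [appLE_top_top, happ, CommRingCat.hom_comp, RingHom.coe_comp]
    exact (Subtype.val_injective).comp
      (ConcreteCategory.bijective_of_isIso (Scheme.ΓSpecIso (CommRingCat.of B)).hom).injective
  · intro s hs
    rw [appLE_top_top, happ]
    have hsB : s ∈ B := fun g => by
      have := hs g
      rwa [appLE_top_top] at this
    refine ⟨(Scheme.ΓSpecIso (CommRingCat.of B)).inv.hom ⟨s, hsB⟩, ?_⟩
    change ι.hom ((Scheme.ΓSpecIso (CommRingCat.of B)).hom.hom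
      ((Scheme.ΓSpecIso (CommRingCat.of B)).inv.hom ⟨s, hsB⟩)) = s
    have h2 : (Scheme.ΓSpecIso (CommRingCat.of B)).hom.hom
        ((Scheme.ΓSpecIso (CommRingCat.of B)).inv.hom ⟨s, hsB⟩) = ⟨s, hsB⟩ :=
      congrArg (fun f => f.hom (⟨s, hsB⟩ : B)) (Scheme.ΓSpecIso (CommRingCat.of B)).inv_hom_id
    rw [h2]
    rfl

end affine

end Groth.Agent.Lib.R2H4QuotExistB
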