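import Mathlib

/-!
# Local-on-the-base principles for properties that satisfy fpqc descent (helper3, round 2)

`of_locally_cover`: a Zariski-local (on the target) property `P` of morphisms that descends along
surjective flat quasi-compact morphisms holds for `g : Z ⟶ S` as soon as every point of `S` has an
open neighbourhood `V` and a surjective flat quasi-compact `q : W ⟶ V` such that the base change
of `g` to `W` has `P`.  The fpqc shape (`of_locally_fpqc`) and etale shape (`of_locally_etale`)
used by `TwC.Locally` are derived.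
-/

set_option autoImplicit false
set_option linter.style.haveILetI false
set_option linter.unusedVariables false

universe u

open CategoryTheory CategoryTheory.Limits AlgebraicGeometry MorphismProperty

namespace Groth.Agent.Lib.R2H3.LocDesc

variable {P : MorphismProperty Scheme.{u}}

/-- If `b` is a base change of `g` along `c ≫ f`, it is a base change of `pullback.snd g f`
along `c`. -/
theorem isPullback_lift {Z S S' W A : Scheme.{u}} (g : Z ⟶ S) (f : S' ⟶ S) (c : W ⟶ S')
    (a : A ⟶ Z) (b : A ⟶ W) (h : IsPullback a b g (c ≫ f)) :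
    IsPullback (pullback.lift a (b ≫ c) (by rw [Category.assoc, h.w])) b (pullback.snd g f) c := by
  refine IsPullback.of_right ?_ (pullback.lift_snd _ _ _) (IsPullback.of_hasPullback g f)
  rwa [pullback.lift_fst]

/-- Two base changes of `g` along the same morphism have `P` simultaneously. -/
theorem iff_of_isPullback_of_isPullback [P.RespectsIso] {Z S W A A' : Scheme.{u}} {g : Z ⟶ S}
    {c : W ⟶ S} {a : A ⟶ Z} {b : A ⟶ W} {a' : A' ⟶ Z} {b' : A' ⟶ W}
    (h : IsPullback a b g c) (h' : IsPullback a' b' g c) : P b ↔ P b' := by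
  have e : b = (h.isoIsPullback _ _ h').hom ≫ b' := by simp
  rw [e, P.cancel_left_of_respectsIso]

/-- **Descent along local covers.** -/
theorem of_locally_cover [IsZariskiLocalAtTarget P] (Q : MorphismProperty Scheme.{u})
    [P.DescendsAlong Q] {Z S : Scheme.{u}} (g : Z ⟶ S)
    (H : ∀ s : S, ∃ V : S.Opens, s ∈ V ∧ ∃ (W : Scheme.{u}) (q : W ⟶ (V : Scheme.{u})),
      Q q ∧ P (pullback.snd g (q ≫ V.ι))) : P g := by
  choose V hsV W q hq hP using H
  rw [IsZariskiLocalAtTarget.iff_of_iSup_eq_top (P := P) V (by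
    rw [eq_top_iff]
    intro s _
    exact TopologicalSpace.Opens.mem_iSup.mpr ⟨s, hsV s⟩)]
  intro s
  -- descent along `q s`
  have hpb1 : IsPullback (pullback.fst (g ∣_ V s) (q s) ≫ (g ⁻¹ᵁ V s).ι)
      (pullback.snd (g ∣_ V s) (q s)) g (q s ≫ (V s).ι) :=
    (IsPullback.of_hasPullback (g ∣_ V s) (q s)).paste_horiz
      (isPullback_morphismRestrict g (V s)).flip
  have h2 : P (pullback.snd (g ∣_ V s) (q s)) :=
    (iff_of_isPullback_of_isPullback hpb1 (IsPullback.of_hasPullback g (q s ≫ (V s).ι))).mpr (hP s)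
  exact of_isPullback_of_descendsAlong (P := P) (Q := Q)
    (IsPullback.of_hasPullback (g ∣_ V s) (q s)).flip (hq s) h2

/-- The fpqc shape: `f : S' ⟶ S` flat, every affine open of `S` is the image of a quasi-compact
open of `S'`, and `P` holds for the base change of `g` Zariski-locally on `S'`. -/
theorem of_locally_fpqc [IsZariskiLocalAtTarget P] [P.IsStableUnderBaseChange]
    [P.DescendsAlong (@Surjective ⊓ @Flat ⊓ @QuasiCompact)] {Z S S' : Scheme.{u}} (g : Z ⟶ S)
    (f : S' ⟶ S) [Flat f]
    (hqc : ∀ V : S.Opens, IsAffineOpen V →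
      ∃ W : S'.Opens, IsCompact (W : Set S') ∧ f.base '' (W : Set S') = (V : Set S))
    (hloc : ∀ s' : S', ∃ U : S'.Opens, s' ∈ U ∧ P (pullback.snd g (U.ι ≫ f))) : P g := by
  -- `P` holds for the base change to `S'`
  have hS' : P (pullback.snd g f) := by
    choose U hsU hU using hloc
    rw [IsZariskiLocalAtTarget.iff_of_iSup_eq_top (P := P) U (by
      rw [eq_top_iff]
      intro s _
      exact TopologicalSpace.Opens.mem_iSup.mpr ⟨s, hsU s⟩)]
    intro s'
    have hpb : IsPullback (((pullback.snd g f) ⁻¹ᵁ U s').ι ≫ pullback.fst g f)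
        ((pullback.snd g f) ∣_ U s') g ((U s').ι ≫ f) :=
      (isPullback_morphismRestrict (pullback.snd g f) (U s')).flip.paste_horiz
        (IsPullback.of_hasPullback g f)
    exact (iff_of_isPullback_of_isPullback hpb
      (IsPullback.of_hasPullback g ((U s').ι ≫ f))).mpr (hU s')
  refine of_locally_cover (@Surjective ⊓ @Flat ⊓ @QuasiCompact) g fun s => ?_
  obtain ⟨_, ⟨V : S.Opens, hV, rfl⟩, hsV, -⟩ := S.isBasis_affineOpens.exists_subset_of_mem_open
    (Set.mem_univ s) isOpen_univ
  obtain ⟨W, hWc, hWV⟩ := hqc V hV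
  have hrange : Set.range (W.ι ≫ f) ⊆ Set.range V.ι := by
    rintro _ ⟨w, rfl⟩
    rw [Scheme.Opens.range_ι, ← hWV]
    exact ⟨w.1, w.2, rfl⟩
  let q : (W : Scheme.{u}) ⟶ (V : Scheme.{u}) := IsOpenImmersion.lift V.ι (W.ι ≫ f) hrange
  have hq : q ≫ V.ι = W.ι ≫ f := IsOpenImmersion.lift_fac _ _ _
  refine ⟨V, hsV, W, q, ⟨⟨?_, ?_⟩, ?_⟩, ?_⟩
  · refine ⟨fun v => ?_⟩
    have hv : (V.ι v : S) ∈ f.base '' (W : Set S') := by rw [hWV]; exact v.2
    obtain ⟨w, hw, hwv⟩ := hv
    refine ⟨⟨w, hw⟩, ?_⟩
    apply V.ι.injective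
    rw [← Scheme.Hom.comp_apply, hq]
    exact hwv
  · have : Flat (q ≫ V.ι) := by rw [hq]; infer_instance
    exact MorphismProperty.of_postcomp (W := @Flat) (W' := @IsOpenImmersion) q V.ι
      inferInstance this
  · haveI : CompactSpace (W : Scheme.{u}) := isCompact_iff_compactSpace.mp hWc
    haveI : IsAffine (V : Scheme.{u}) := hV
    infer_instance
  · rw [hq]
    exact P.of_isPullback (isPullback_lift g f W.ι _ _
      (IsPullback.of_hasPullback g (W.ι ≫ f))) hS'

/-- The fppf shape: every point of `S` is in the image of a flat, locally finitely presented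
`f : S' ⟶ S` such that the base change of `g` to `S'` has `P`. -/
theorem of_locally_fppf [IsZariskiLocalAtTarget P]
    [P.DescendsAlong (@Surjective ⊓ @Flat ⊓ @QuasiCompact)] {Z S : Scheme.{u}} (g : Z ⟶ S)
    (H : ∀ s : S, ∃ (S' : Scheme.{u}) (f : S' ⟶ S), Flat f ∧ LocallyOfFinitePresentation f ∧
      s ∈ Set.range f.base ∧ P (pullback.snd g f)) : P g := by
  refine of_locally_cover (@Surjective ⊓ @Flat ⊓ @LocallyOfFinitePresentation) g fun s => ?_
  obtain ⟨S', f, hfl, hfp, hs, hP⟩ := H s
  let V : S.Opens := ⟨Set.range f.base, f.isOpenMap.isOpen_range⟩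
  have hrange : Set.range f ⊆ Set.range V.ι := by
    rw [Scheme.Opens.range_ι]
    exact fun x hx => hx
  let q : S' ⟶ (V : Scheme.{u}) := IsOpenImmersion.lift V.ι f hrange
  have hq : q ≫ V.ι = f := IsOpenImmersion.lift_fac _ _ _
  refine ⟨V, hs, S', q, ⟨⟨?_, ?_⟩, ?_⟩, ?_⟩
  · refine ⟨fun v => ?_⟩
    obtain ⟨w, hw⟩ := v.2
    refine ⟨w, ?_⟩
    apply V.ι.injective
    rw [← Scheme.Hom.comp_apply, hq]
    exact hw
  · have : Flat (q ≫ V.ι) := by rw [hq]; infer_instance
    exact MorphismProperty.of_postcomp (W := @Flat) (W' := @IsOpenImmersion) q V.ι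
      inferInstance this
  · have : LocallyOfFinitePresentation (q ≫ V.ι) := by rw [hq]; infer_instance
    exact MorphismProperty.of_postcomp (W := @LocallyOfFinitePresentation)
      (W' := @IsOpenImmersion) q V.ι inferInstance this
  · rw [hq]
    exact hP

/-- The etale shape. -/
theorem of_locally_etale [IsZariskiLocalAtTarget P]
    [P.DescendsAlong (@Surjective ⊓ @Flat ⊓ @QuasiCompact)] {Z S : Scheme.{u}} (g : Z ⟶ S)
    (H : ∀ s : S, ∃ (S' : Scheme.{u}) (f : S' ⟶ S), Etale f ∧
      s ∈ Set.range f.base ∧ P (pullback.snd g f)) : P g := by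
  refine of_locally_fppf g fun s => ?_
  obtain ⟨S', f, hf, hs, hP⟩ := H s
  exact ⟨S', f, inferInstance, inferInstance, hs, hP⟩

end Groth.Agent.Lib.R2H3.LocDesc
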