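import Mathlib
import Groth.Prelude
import Groth.Agent.Lib.R2H1FEtFiberIso
import Groth.Agent.Lib.Helper8TransferCoh
set_option backward.isDefEq.respectTransparency.types false

/-!
helper1: the absolute Galois group of a field K is the fundamental group of Spec K at the geometric point Spec K̄. GK K (unfolded absolute Galois group), Ks (separable closure in K̄), res/res_injective/res_surjective/res_continuous/res_isOpenMap/resHomeo (Gal(K̄/K) ≃ₜ Gal(Ksep/K)), compactSpace (CompactSpace of the absolute Galois group, also for inseparable K̄/K), gpt K (the geometric point), sp σ, MulAction (GK K) on the fibres (smulFiber/smulFib), isNaturalSMul, exists_algEquiv_comp (two K-maps B → K̄ with the same kernel differ by an automorphism of K̄), discreteTopology_left / isAffine_left (finite étale over a field), strMap, ptHom, val_eq, smul_eq_of_comp, ker_eq_of_point_eq, same_point (connected object has one point), transitive, strMap_finite, stabilizer_isOpen, specObj/specPt (Spec of a finite separable subextension), eq_one_of_smul_eq,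 galoisCat (instance), isFundamentalGroup (Mathlib IsFundamentalGroup (fib (gpt K)) (GK K)), toAutFib : GK K ≃ₜ* Aut (fib (gpt K)), autFibEquiv, piOne_equiv, cat_equiv
-/

set_option autoImplicit false
set_option linter.style.haveILetI false
set_option linter.unusedSectionVars false
universe u v

open CategoryTheory CategoryTheory.Limits AlgebraicGeometry TopologicalSpace Opposite

namespace Groth.Agent.Lib.R2H1.AbsGal

section Part1

open IntermediateField

variable (K : Type u) [Field K]

/-- The separable closure of `K` in its algebraic closure. -/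
noncomputable abbrev Ks : IntermediateField K (AlgebraicClosure K) :=
  separableClosure K (AlgebraicClosure K)

/-- the absolute Galois group, unfolded -/
abbrev GK : Type u := AlgebraicClosure K ≃ₐ[K] AlgebraicClosure K

instance : IsGalois K (Ks K) := inferInstance

instance : IsPurelyInseparable (Ks K) (AlgebraicClosure K) := inferInstance

/-- restriction to the separable closure -/
noncomputable def res : GK K →* Gal((Ks K)/K) :=
  AlgEquiv.restrictNormalHom (Ks K)

theorem res_apply (σ : GK K) (x : Ks K) :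
    ((res K σ x : Ks K) : AlgebraicClosure K) = σ (x : AlgebraicClosure K) :=
  AlgEquiv.restrictNormalHom_apply (Ks K) σ x

theorem res_continuous : Continuous (res K) :=
  InfiniteGalois.restrictNormalHom_continuous (Ks K)

theorem res_surjective : Function.Surjective (res K) :=
  AlgEquiv.restrictNormalHom_surjective (AlgebraicClosure K)

/-- an automorphism fixing a subset of the separable closure pointwise fixes every element
some Frobenius power of which lies in that subset. -/
theorem fix_of_pow (σ : GK K) (x : AlgebraicClosure K) (n : ℕ)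
    (h : σ (x ^ (ringExpChar K) ^ n) = x ^ (ringExpChar K) ^ n) : σ x = x := by
  haveI : ExpChar K (ringExpChar K) := ringExpChar.expChar K
  haveI : ExpChar (AlgebraicClosure K) (ringExpChar K) :=
    expChar_of_injective_algebraMap (algebraMap K (AlgebraicClosure K)).injective _
  apply iterateFrobenius_inj (AlgebraicClosure K) (ringExpChar K) n
  simp only [iterateFrobenius_def]
  rw [← map_pow]
  exact h

theorem res_injective : Function.Injective (res K) := by
  rw [injective_iff_map_eq_one]
  intro σ hσ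
  ext x
  haveI : ExpChar K (ringExpChar K) := ringExpChar.expChar K
  haveI : ExpChar (Ks K) (ringExpChar K) :=
    expChar_of_injective_algebraMap (algebraMap K (Ks K)).injective _
  obtain ⟨n, y, hy⟩ := IsPurelyInseparable.pow_mem (Ks K) (ringExpChar K) x
  refine fix_of_pow K σ x n ?_
  rw [← hy]
  have := res_apply K σ y
  rw [hσ] at this
  exact this.symm

open scoped Topology in
theorem res_isOpenMap_at_one (A : Set (GK K)) (hA : A ∈ 𝓝 (1 : GK K)) :
    (res K) '' A ∈ 𝓝 (1 : Gal((Ks K)/K)) := by
  rw [krullTopology_mem_nhds_one_iff] at hA ⊢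
  obtain ⟨E, hE, hEA⟩ := hA
  refine ⟨IntermediateField.restrict (inf_le_right : E ⊓ Ks K ≤ Ks K), ?_, ?_⟩
  · have : FiniteDimensional K (E ⊓ Ks K : IntermediateField K (AlgebraicClosure K)) :=
      inferInstance
    exact (IntermediateField.restrict_algEquiv
      (inf_le_right : E ⊓ Ks K ≤ Ks K)).toLinearEquiv.finiteDimensional
  · intro τ hτ
    obtain ⟨σ, rfl⟩ := res_surjective K τ
    refine ⟨σ, hEA ?_, rfl⟩
    rw [SetLike.mem_coe, IntermediateField.mem_fixingSubgroup_iff] at hτ ⊢
    intro x hx
    haveI : ExpChar K (ringExpChar K) := ringExpChar.expChar K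
    haveI : ExpChar (Ks K) (ringExpChar K) :=
      expChar_of_injective_algebraMap (algebraMap K (Ks K)).injective _
    obtain ⟨n, y, hy⟩ := IsPurelyInseparable.pow_mem (Ks K) (ringExpChar K) x
    refine fix_of_pow K σ x n ?_
    rw [← hy]
    have h1 := res_apply K σ y
    have h2 : y ∈ IntermediateField.restrict (inf_le_right : E ⊓ Ks K ≤ Ks K) := by
      rw [IntermediateField.mem_restrict]
      refine ⟨?_, y.2⟩
      have : ((algebraMap (Ks K) (AlgebraicClosure K)) y) = (y : AlgebraicClosure K) := rfl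
      rw [← this, hy]
      exact pow_mem hx _
    rw [hτ y h2] at h1
    exact h1.symm

theorem res_isOpenMap : IsOpenMap (res K) := by
  rw [IsTopologicalGroup.isOpenMap_iff_nhds_one]
  intro A hA
  rw [Filter.mem_map] at hA
  have := res_isOpenMap_at_one K _ hA
  exact Filter.mem_of_superset this (Set.image_preimage_subset _ _)

/-- restriction as a homeomorphism -/
noncomputable def resHomeo : GK K ≃ₜ Gal((Ks K)/K) :=
  (Equiv.ofBijective (res K) ⟨res_injective K, res_surjective K⟩).toHomeomorphOfContinuousOpen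
    (res_continuous K) (res_isOpenMap K)

instance compactSpace : CompactSpace (GK K) := (resHomeo K).symm.compactSpace

instance compactSpace' : CompactSpace (Field.absoluteGaloisGroup K) :=
  inferInstanceAs (CompactSpace (GK K))

end Part1

section Part2

open CategoryTheory CategoryTheory.Limits AlgebraicGeometry Opposite
open Groth.Agent.Lib.R2H1.FEtFiber Groth.Agent.Lib.R2H1.FEtFiberIso Groth.Agent.Lib.R2H1.FEtGalois


variable (K : Type u) [Field K]

/-- the geometric point `Spec K̄ ⟶ Spec K` -/
noncomputable abbrev gpt : Spec (CommRingCat.of (AlgebraicClosure K)) ⟶ Spec (CommRingCat.of K) :=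
  Spec.map (CommRingCat.ofHom (algebraMap K (AlgebraicClosure K)))

/-- the automorphism of `Spec K̄` attached to `σ` -/
noncomputable def sp (σ : GK K) :
    Spec (CommRingCat.of (AlgebraicClosure K)) ⟶ Spec (CommRingCat.of (AlgebraicClosure K)) :=
  Spec.map (CommRingCat.ofHom (σ : AlgebraicClosure K →+* AlgebraicClosure K))

theorem sp_one : sp K 1 = 𝟙 _ := by
  unfold sp
  exact Spec.map_id _

theorem sp_mul (σ τ : GK K) : sp K (σ * τ) = sp K σ ≫ sp K τ := by
  unfold sp
  rw [← Spec.map_comp]
  rfl

theorem sp_gpt (σ : GK K) : sp K σ ≫ gpt K = gpt K := by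
  unfold sp gpt
  rw [← Spec.map_comp]
  congr 1
  ext c
  exact σ.commutes c

variable {K}

noncomputable instance smulFiber (Y : FEt.Cat (Spec (CommRingCat.of K))) :
    MulAction (GK K) (FEt.fiberObj (gpt K) Y) where
  smul σ s := ⟨sp K σ ≫ s.1, by rw [Category.assoc, s.2, sp_gpt]⟩
  one_smul s := Subtype.ext (by
    show sp K 1 ≫ s.1 = s.1
    rw [sp_one, Category.id_comp])
  mul_smul σ τ s := Subtype.ext (by
    show sp K (σ * τ) ≫ s.1 = sp K σ ≫ sp K τ ≫ s.1
    rw [sp_mul, Category.assoc])

theorem smul_val (Y : FEt.Cat (Spec (CommRingCat.of K))) (σ : GK K)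
    (s : FEt.fiberObj (gpt K) Y) : (σ • s).1 = sp K σ ≫ s.1 := rfl

noncomputable instance smulFib (Y : FEt.Cat (Spec (CommRingCat.of K))) :
    MulAction (GK K) ((fib (gpt K)).obj Y) :=
  smulFiber Y

instance isNaturalSMul : PreGaloisCategory.IsNaturalSMul (fib (gpt K)) (GK K) where
  naturality σ {Y Z} f s := by
    apply Subtype.ext
    show (sp K σ ≫ s.1) ≫ f.left = sp K σ ≫ (s.1 ≫ f.left)
    rw [Category.assoc]

end Part2

section Part3

open CategoryTheory CategoryTheory.Limits AlgebraicGeometry Opposite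
open Groth.Agent.Lib.R2H1.FEtFiber Groth.Agent.Lib.R2H1.FEtFiberIso Groth.Agent.Lib.R2H1.FEtGalois


variable (K : Type u) [Field K]

/-- extension lemma: two `K`-algebra maps to `K̄` with the same kernel differ by an element of the
absolute Galois group. -/
theorem exists_algEquiv_comp {B : Type u} [CommRing B] (ι : K →+* B)
    (ψ₁ ψ₂ : B →+* AlgebraicClosure K)
    (h₁ : ψ₁.comp ι = algebraMap K (AlgebraicClosure K))
    (h₂ : ψ₂.comp ι = algebraMap K (AlgebraicClosure K))
    (hker : RingHom.ker ψ₁ = RingHom.ker ψ₂) :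
    ∃ σ : GK K, ∀ b, σ (ψ₁ b) = ψ₂ b := by
  letI := ι.toAlgebra
  let a₁ : B →ₐ[K] AlgebraicClosure K := { ψ₁ with commutes' := fun c => RingHom.congr_fun h₁ c }
  let a₂ : B →ₐ[K] AlgebraicClosure K := { ψ₂ with commutes' := fun c => RingHom.congr_fun h₂ c }
  have hk : RingHom.ker a₁ = RingHom.ker a₂ := hker
  let f₁ : B ⧸ RingHom.ker a₁ →ₐ[K] AlgebraicClosure K := Ideal.kerLiftAlg a₁
  have hf₁ : Function.Injective f₁ := Ideal.kerLiftAlg_injective a₁
  haveI : (RingHom.ker a₁).IsPrime := RingHom.ker_isPrime a₁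
  haveI : Algebra.IsAlgebraic K (B ⧸ RingHom.ker a₁) := Algebra.IsAlgebraic.of_injective f₁ hf₁
  haveI : Algebra.IsIntegral K (B ⧸ RingHom.ker a₁) := Algebra.IsAlgebraic.isIntegral
  have hfield : IsField (B ⧸ RingHom.ker a₁) :=
    isField_of_isIntegral_of_isField' (Field.toIsField K)
  haveI : (RingHom.ker a₁).IsMaximal := Ideal.Quotient.maximal_of_isField _ hfield
  letI : Field (B ⧸ RingHom.ker a₁) := Ideal.Quotient.field _
  let f₂ : B ⧸ RingHom.ker a₁ →ₐ[K] AlgebraicClosure K :=
    Ideal.Quotient.liftₐ (RingHom.ker a₁) a₂ (fun a ha => by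
      have : a ∈ RingHom.ker a₂ := hk ▸ ha
      exact this)
  letI : Algebra (B ⧸ RingHom.ker a₁) (AlgebraicClosure K) := f₁.toRingHom.toAlgebra
  haveI : IsScalarTower K (B ⧸ RingHom.ker a₁) (AlgebraicClosure K) :=
    IsScalarTower.of_algebraMap_eq (fun c => (f₁.commutes c).symm)
  haveI : Algebra.IsAlgebraic (B ⧸ RingHom.ker a₁) (AlgebraicClosure K) :=
    Algebra.IsAlgebraic.tower_top (K := K) _
  obtain ⟨φ, hφ⟩ := IsAlgClosed.surjective_domRestrict_of_isAlgebraic
    (K := K) (L := B ⧸ RingHom.ker a₁) (M := AlgebraicClosure K) (E := AlgebraicClosure K) f₂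
  refine ⟨AlgEquiv.ofBijective φ (Algebra.IsAlgebraic.algHom_bijective φ), fun b => ?_⟩
  have := DFunLike.congr_fun hφ (Ideal.Quotient.mk _ b)
  exact this

end Part3

section Part4

open CategoryTheory CategoryTheory.Limits AlgebraicGeometry Opposite
open Groth.Agent.Lib.R2H1.FEtFiber Groth.Agent.Lib.R2H1.FEtFiberIso Groth.Agent.Lib.R2H1.FEtGalois


variable {K : Type u} [Field K]

instance : ConnectedSpace (Spec (CommRingCat.of K)) := inferInstance

instance : IsSepClosed (AlgebraicClosure K) := inferInstance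

example : PreGaloisCategory (FEt.Cat (Spec (CommRingCat.of K))) := inferInstance

example : PreGaloisCategory.FiberFunctor (fib (gpt K)) := inferInstance

instance discreteTopology_left (Y : FEt.Cat (Spec (CommRingCat.of K))) : DiscreteTopology Y.left := by
  obtain ⟨y, hy⟩ : ∃ y : Y.left ⟶ Spec (CommRingCat.of K), y = Y.hom := ⟨_, rfl⟩
  haveI : IsFinite y := by rw [hy]; exact Y.prop.1
  haveI : IsLocallyArtinian Y.left := IsLocallyArtinian.of_locallyQuasiFinite y
  infer_instance

variable (Y : FEt.Cat (Spec (CommRingCat.of K)))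

theorem top_le (Z : Scheme.{u}) (g : Spec (CommRingCat.of (AlgebraicClosure K)) ⟶ Z) :
    (⊤ : (Spec (CommRingCat.of (AlgebraicClosure K))).Opens) ≤ g ⁻¹ᵁ ⊤ := by
  rw [Scheme.Hom.preimage_top]

theorem appLE_top {X Y : Scheme.{u}} (f : X ⟶ Y) (h : (⊤ : X.Opens) ≤ f ⁻¹ᵁ ⊤) :
    f.appLE ⊤ ⊤ h = f.appTop := by
  unfold Scheme.Hom.appLE Scheme.Hom.appTop
  have : X.presheaf.map (homOfLE h).op = 𝟙 _ := X.presheaf.map_id _
  rw [this]
  exact Category.comp_id _

instance isAffine_left : IsAffine Y.left := by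
  obtain ⟨y, hy⟩ : ∃ y : Y.left ⟶ Spec (CommRingCat.of K), y = Y.hom := ⟨_, rfl⟩
  haveI : IsFinite y := by rw [hy]; exact Y.prop.1
  exact isAffine_of_isAffineHom y

/-- structure ring map `K → Γ(Y, ⊤)` -/
noncomputable def strMap : K →+* Γ(Y.left, ⊤) :=
  ((Scheme.ΓSpecIso (CommRingCat.of K)).inv ≫ Y.hom.appTop).hom

/-- the ring map attached to a point of the fibre -/
noncomputable def ptHom (s : FEt.fiberObj (gpt K) Y) : Γ(Y.left, ⊤) →+* AlgebraicClosure K :=
  (ptMap (AlgebraicClosure K) s.1 ⊤ (top_le _ _)).hom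

theorem ptMap_SpecMap {R : CommRingCat.{u}} (f : R ⟶ CommRingCat.of (AlgebraicClosure K)) :
    ptMap (AlgebraicClosure K) (Spec.map f) ⊤ (top_le _ _) = (Scheme.ΓSpecIso R).hom ≫ f := by
  unfold ptMap
  rw [appLE_top, Scheme.ΓSpecIso_naturality]

theorem ptHom_comp_strMap (s : FEt.fiberObj (gpt K) Y) :
    (ptHom Y s).comp (strMap Y) = algebraMap K (AlgebraicClosure K) := by
  have h1 := ptMap_comp (AlgebraicClosure K) s.1 Y.hom ⊤ ⊤ (by rw [Scheme.Hom.preimage_top])
    (top_le _ _) (top_le _ _)
  have h2 := ptMap_congr (AlgebraicClosure K) (s.1 ≫ Y.hom) (gpt K) s.2 ⊤ (top_le _ _) (top_le _ _)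
  rw [h1, ptMap_SpecMap] at h2
  rw [appLE_top] at h2
  have h4 : (Scheme.ΓSpecIso (CommRingCat.of K)).inv ≫ Y.hom.appTop ≫
      ptMap (AlgebraicClosure K) s.1 ⊤ (top_le _ _) =
      CommRingCat.ofHom (algebraMap K (AlgebraicClosure K)) := by
    rw [h2, Iso.inv_hom_id_assoc]
  have h5 := congrArg CommRingCat.Hom.hom h4
  exact h5

theorem val_eq (s : FEt.fiberObj (gpt K) Y) :
    s.1 = Spec.map (CommRingCat.ofHom (ptHom Y s)) ≫ (isAffineOpen_top Y.left).fromSpec := by
  exact eq_SpecMap_ptMap (AlgebraicClosure K) s.1 ⊤ (isAffineOpen_top _) (top_le _ _)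

theorem smul_eq_of_comp (σ : GK K) (s t : FEt.fiberObj (gpt K) Y)
    (h : ∀ b, σ (ptHom Y s b) = ptHom Y t b) : σ • s = t := by
  apply Subtype.ext
  rw [smul_val, val_eq Y s, val_eq Y t]
  unfold sp
  rw [← Category.assoc, ← Spec.map_comp]
  congr 2
  ext b
  exact h b

theorem ker_eq_of_point_eq (s t : FEt.fiberObj (gpt K) Y)
    (h : s.1 (IsLocalRing.closedPoint (AlgebraicClosure K)) =
      t.1 (IsLocalRing.closedPoint (AlgebraicClosure K))) :
    RingHom.ker (ptHom Y s) = RingHom.ker (ptHom Y t) := by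
  rw [val_eq Y s, val_eq Y t, Scheme.Hom.comp_apply, Scheme.Hom.comp_apply] at h
  have h' := (isAffineOpen_top Y.left).fromSpec.isOpenEmbedding.injective h
  have h'' := congrArg PrimeSpectrum.asIdeal h'
  have hbot : (IsLocalRing.closedPoint (AlgebraicClosure K)).asIdeal = ⊥ :=
    IsLocalRing.maximalIdeal_eq_bot
  have e : ∀ ψ : Γ(Y.left, ⊤) →+* AlgebraicClosure K,
      ((Spec.map (CommRingCat.ofHom ψ)) (IsLocalRing.closedPoint (AlgebraicClosure K))).asIdeal =
        RingHom.ker ψ := by
    intro ψ
    show Ideal.comap ψ (IsLocalRing.closedPoint (AlgebraicClosure K)).asIdeal = RingHom.ker ψ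
    rw [hbot]
    rfl
  rw [e, e] at h''
  exact h''

theorem same_point [PreGaloisCategory.IsConnected Y] (s t : FEt.fiberObj (gpt K) Y) :
    s.1 (IsLocalRing.closedPoint (AlgebraicClosure K)) =
      t.1 (IsLocalRing.closedPoint (AlgebraicClosure K)) := by
  obtain ⟨W, hW⟩ : ∃ W : Y.left.Opens,
      (W : Set Y.left) = {s.1 (IsLocalRing.closedPoint (AlgebraicClosure K))} :=
    ⟨⟨_, isOpen_discrete _⟩, rfl⟩
  have hWcl : IsClosed (W : Set Y.left) := isClosed_discrete _
  let W' : FEt.Cat (Spec (CommRingCat.of K)) :=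
    MorphismProperty.Over.mk ⊤ (W.ι ≫ Y.hom) (prop_opens_ι W hWcl)
  let i : W' ⟶ Y := MorphismProperty.Over.homMk W.ι rfl
  haveI : Mono ((U (Spec (CommRingCat.of K))).map i) := inferInstanceAs (Mono W.ι)
  haveI : Mono i := Functor.mono_of_mono_map (U (Spec (CommRingCat.of K))) inferInstance
  -- `s` factors through `W`
  have hsW : Set.range s.1 ⊆ Set.range W.ι := by
    rintro _ ⟨z, rfl⟩
    rw [Scheme.Opens.range_ι, hW]
    have hz : z = IsLocalRing.closedPoint (AlgebraicClosure K) := Subsingleton.elim _ _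
    rw [hz]
    rfl
  obtain ⟨l, hl⟩ : ∃ l : Spec (CommRingCat.of (AlgebraicClosure K)) ⟶ (W : Scheme.{u}),
      l ≫ W.ι = s.1 := ⟨IsOpenImmersion.lift W.ι s.1 hsW, IsOpenImmersion.lift_fac _ _ _⟩
  let s' : FEt.fiberObj (gpt K) W' := ⟨l, by
    show l ≫ W.ι ≫ Y.hom = gpt K
    rw [← Category.assoc, hl]
    exact s.2⟩
  have hni : IsInitial W' → False :=
    PreGaloisCategory.not_initial_of_inhabited (fib (gpt K)) (X := W') s'
  haveI : IsIso i := PreGaloisCategory.IsConnected.noTrivialComponent W' i hni
  haveI : IsIso W.ι := inferInstanceAs (IsIso ((U (Spec (CommRingCat.of K))).map i))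
  have hsurj : Function.Surjective W.ι := by
    intro y
    exact ⟨(inv W.ι) y, by rw [← Scheme.Hom.comp_apply, IsIso.inv_hom_id]; rfl⟩
  obtain ⟨w, hw⟩ := hsurj (t.1 (IsLocalRing.closedPoint (AlgebraicClosure K)))
  have : t.1 (IsLocalRing.closedPoint (AlgebraicClosure K)) ∈ (W : Set Y.left) := by
    rw [← hw]; exact w.2
  rw [hW] at this
  exact this.symm

theorem transitive [PreGaloisCategory.IsConnected Y] (s t : FEt.fiberObj (gpt K) Y) :
    ∃ σ : GK K, σ • s = t := by
  obtain ⟨σ, hσ⟩ := exists_algEquiv_comp K (strMap Y) (ptHom Y s) (ptHom Y t)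
    (ptHom_comp_strMap Y s) (ptHom_comp_strMap Y t)
    (ker_eq_of_point_eq Y s t (same_point Y s t))
  exact ⟨σ, smul_eq_of_comp Y σ s t hσ⟩

end Part4

section Part5

open CategoryTheory CategoryTheory.Limits AlgebraicGeometry Opposite
open Groth.Agent.Lib.R2H1.FEtFiber Groth.Agent.Lib.R2H1.FEtFiberIso Groth.Agent.Lib.R2H1.FEtGalois

open IntermediateField

variable {K : Type u} [Field K] (Y : FEt.Cat (Spec (CommRingCat.of K)))

theorem strMap_finite : (strMap Y).Finite := by
  obtain ⟨y, hy⟩ : ∃ y : Y.left ⟶ Spec (CommRingCat.of K), y = Y.hom := ⟨_, rfl⟩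
  haveI : IsFinite y := by rw [hy]; exact Y.prop.1
  have h1 : y.appTop.hom.Finite := Scheme.Hom.finite_appTop y
  have h2 : ((Scheme.ΓSpecIso (CommRingCat.of K)).inv).hom.Finite :=
    RingHom.Finite.of_surjective _
      (ConcreteCategory.bijective_of_isIso (Scheme.ΓSpecIso (CommRingCat.of K)).inv).2
  have : strMap Y = y.appTop.hom.comp ((Scheme.ΓSpecIso (CommRingCat.of K)).inv).hom := by
    rw [hy]; rfl
  rw [this]
  exact h1.comp h2

theorem stabilizer_isOpen (s : FEt.fiberObj (gpt K) Y) :
    IsOpen (MulAction.stabilizer (GK K) s : Set (GK K)) := by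
  letI := (strMap Y).toAlgebra
  haveI : Module.Finite K Γ(Y.left, ⊤) := strMap_finite Y
  obtain ⟨S, hS⟩ := Module.Finite.fg_top (R := K) (M := Γ(Y.left, ⊤))
  have hopen : IsOpen (⋂ b ∈ S, (MulAction.stabilizer (GK K) (ptHom Y s b) : Set (GK K))) :=
    isOpen_biInter_finset (fun b _ => stabilizer_isOpen_of_isIntegral _)
  refine Subgroup.isOpen_of_mem_nhds _ (g := 1)
    (Filter.mem_of_superset (hopen.mem_nhds (x := 1) ?_) ?_)
  · simp only [Set.mem_iInter]
    intro b _
    exact one_mem _
  · intro σ hσ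
    simp only [Set.mem_iInter] at hσ
    show σ • s = s
    apply smul_eq_of_comp
    intro b
    have hb : b ∈ Submodule.span K (S : Set Γ(Y.left, ⊤)) := hS ▸ Submodule.mem_top
    induction hb using Submodule.span_induction with
    | mem x hx => exact hσ x hx
    | zero => simp
    | add x y _ _ hx hy => rw [map_add, map_add, hx, hy]
    | smul c x _ hx =>
      rw [Algebra.smul_def, map_mul, map_mul, hx]
      congr 1
      have h := RingHom.congr_fun (ptHom_comp_strMap Y s) c
      have h' : ptHom Y s (algebraMap K Γ(Y.left, ⊤) c) = algebraMap K (AlgebraicClosure K) c := h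
      rw [h', σ.commutes]

/-- the finite étale `K`-scheme attached to a finite separable subextension of `K̄` -/
noncomputable def specObj (L : IntermediateField K (AlgebraicClosure K)) [FiniteDimensional K L]
    [Algebra.IsSeparable K L] : FEt.Cat (Spec (CommRingCat.of K)) :=
  MorphismProperty.Over.mk ⊤ (Spec.map (CommRingCat.ofHom (algebraMap K L)))
    ⟨Groth.Agent.Lib.Helper8TransferCoh.isFinite_specMap_field K L,
      Groth.Agent.Lib.Helper8TransferCoh.etale_specMap_field K L⟩

/-- its tautological geometric point -/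
noncomputable def specPt (L : IntermediateField K (AlgebraicClosure K)) [FiniteDimensional K L]
    [Algebra.IsSeparable K L] : FEt.fiberObj (gpt K) (specObj L) :=
  ⟨Spec.map (CommRingCat.ofHom (algebraMap L (AlgebraicClosure K))), by
    show Spec.map (CommRingCat.ofHom (algebraMap L (AlgebraicClosure K))) ≫
      Spec.map (CommRingCat.ofHom (algebraMap K L)) = gpt K
    rw [← Spec.map_comp]
    rfl⟩

theorem fix_of_smul_specPt (L : IntermediateField K (AlgebraicClosure K)) [FiniteDimensional K L]
    [Algebra.IsSeparable K L] (σ : GK K) (h : σ • specPt L = specPt L) (x : L) :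
    σ (x : AlgebraicClosure K) = x := by
  have h1 : sp K σ ≫ Spec.map (CommRingCat.ofHom (algebraMap L (AlgebraicClosure K))) =
      Spec.map (CommRingCat.ofHom (algebraMap L (AlgebraicClosure K))) :=
    congrArg Subtype.val h
  unfold sp at h1
  rw [← Spec.map_comp] at h1
  have h2 := Spec.map_injective h1
  have h3 := congrArg (fun f => f.hom x) h2
  exact h3

theorem eq_one_of_smul_eq (σ : GK K)
    (h : ∀ (Y : FEt.Cat (Spec (CommRingCat.of K))) (s : FEt.fiberObj (gpt K) Y), σ • s = s) :
    σ = 1 := by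
  apply res_injective K
  rw [map_one]
  ext x
  rw [res_apply]
  have hx : IsSeparable K (x : AlgebraicClosure K) := mem_separableClosure_iff.mp x.2
  haveI : Algebra.IsSeparable K K⟮(x : AlgebraicClosure K)⟯ :=
    (IntermediateField.isSeparable_adjoin_simple_iff_isSeparable K (AlgebraicClosure K)).mpr hx
  haveI : FiniteDimensional K K⟮(x : AlgebraicClosure K)⟯ :=
    IntermediateField.adjoin.finiteDimensional hx.isIntegral
  exact fix_of_smul_specPt K⟮(x : AlgebraicClosure K)⟯ σ (h _ _)
    ⟨x, IntermediateField.mem_adjoin_simple_self K _⟩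

end Part5

section Part6

open CategoryTheory CategoryTheory.Limits AlgebraicGeometry Opposite
open Groth.Agent.Lib.R2H1.FEtFiber Groth.Agent.Lib.R2H1.FEtFiberIso Groth.Agent.Lib.R2H1.FEtGalois

open CategoryTheory.PreGaloisCategory

variable (K : Type u) [Field K]

instance galoisCat : GaloisCategory (FEt.Cat (Spec (CommRingCat.of K))) :=
  galoisCategory (gpt K)

instance isFundamentalGroup : IsFundamentalGroup (fib (gpt K)) (GK K) where
  naturality := isNaturalSMul.naturality
  transitive_of_isGalois Y _ := ⟨fun s t => transitive Y s t⟩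
  continuous_smul Y := continuousSMul_iff_stabilizer_isOpen.mpr (stabilizer_isOpen Y)
  non_trivial' σ h := eq_one_of_smul_eq σ h

/-- the absolute Galois group is the automorphism group of the fibre functor -/
noncomputable def toAutFib : GK K ≃ₜ* Aut (fib (gpt K)) :=
  { toAutMulEquiv (fib (gpt K)) (GK K) with
    continuous_toFun := (toAutHomeo (fib (gpt K)) (GK K)).continuous
    continuous_invFun := (toAutHomeo (fib (gpt K)) (GK K)).symm.continuous }

/-- automorphisms of the `FintypeCat`-valued and the `Type`-valued fibre functors agree -/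
noncomputable def autFibEquiv : Aut (fib (gpt K)) ≃* Aut (FEt.fiber (gpt K)) :=
  (((Functor.FullyFaithful.ofFullyFaithful FintypeCat.incl).whiskeringRight
    (FEt.Cat (Spec (CommRingCat.of K)))).autMulEquivOfFullyFaithful (X := fib (gpt K))).trans
    (Iso.conjAut (fibCompIncl (gpt K)))

theorem piOne_equiv : Nonempty (Field.absoluteGaloisGroup K ≃*
    FEt.piOne (Spec (CommRingCat.of K))
      (Spec.map (CommRingCat.ofHom (algebraMap K (AlgebraicClosure K))))) :=
  ⟨((toAutFib K).toMulEquiv.trans (autFibEquiv K) : GK K ≃* Aut (FEt.fiber (gpt K)))⟩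

open FintypeCatDiscrete in
theorem cat_equiv : Nonempty (FEt.Cat (Spec (CommRingCat.of K)) ≌
    ContAction FintypeCat.{u} (Field.absoluteGaloisGroup K)) :=
  ⟨((functorToContAction (fib (gpt K))).asEquivalence.trans
    (ContAction.resEquiv FintypeCat.{u} (toAutFib K)) :
      FEt.Cat (Spec (CommRingCat.of K)) ≌ ContAction FintypeCat.{u} (GK K))⟩

end Part6

end Groth.Agent.Lib.R2H1.AbsGal
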