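/-
Complete valuation rings of height one and admissible algebras (helper1, round 2).

Main results (for `R` a valuation ring of Krull dimension `≤ 1`, complete for the `t`-adic topology,
`t ≠ 0`):
* `henselianLocalRing` : `R` is a henselian local ring.
* `isIntegral_or_inv` : in an algebraic extension of the fraction field of a henselian valuation
  ring, `x` or `x⁻¹` is integral.
* `lift_span` : the basic lifting lemma for `t`-adically complete algebras.
* `finite_of_topFinitePresentation` : a local topologically finitely presented `R`-algebra is a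
  finite `R`-module.
* `main_11541`, `main_11542`, `main_11544`, `main_11547`.
-/
import Mathlib
import Groth.Prelude.Def_W4bk4boschfrg79
import Groth.Agent.Lib.Helper3HenselC
import Groth.Agent.Lib.Helper5IntDim

set_option autoImplicit false
set_option linter.style.haveILetI false
set_option linter.unusedSectionVars false
universe u

namespace Groth.Agent.Lib.R2H1.AdicVal

section Part1

open Polynomial IsLocalRing

section Basics

variable (R : Type u) [CommRing R] [IsDomain R] [ValuationRing R] [Ring.KrullDimLE 1 R]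
  (t : R) (ht : t ≠ 0) [IsAdicComplete (Ideal.span {t}) R]

include ht in
/-- `t` lies in the maximal ideal. -/
theorem t_mem : t ∈ maximalIdeal R := by
  rw [mem_maximalIdeal, mem_nonunits_iff]
  intro hu
  have htop : (Ideal.span {t} : Ideal R) = ⊤ := Ideal.span_singleton_eq_top.mpr hu
  have hH : IsHausdorff (Ideal.span {t}) R := inferInstance
  have h1 : (1 : R) = 0 := by
    apply hH.haus
    intro n
    rw [htop, Ideal.top_pow, smul_eq_mul, Ideal.top_mul]
    exact SModEq.top
  exact one_ne_zero h1

include ht in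
/-- every element of the maximal ideal has a power divisible by `t`. -/
theorem exists_pow_mem (x : R) (hx : x ∈ maximalIdeal R) : ∃ N : ℕ, x ^ N ∈ Ideal.span {t} := by
  have hrad : maximalIdeal R ≤ (Ideal.span {t}).radical := by
    rw [Ideal.radical_eq_sInf]
    refine le_sInf ?_
    rintro P ⟨hP, hPprime⟩
    have hne : P ≠ ⊥ := by
      intro h
      have : t ∈ P := hP (Ideal.mem_span_singleton_self t)
      rw [h, Ideal.mem_bot] at this
      exact ht this
    have hmax : P.IsMaximal := hPprime.isMaximal_of_ne_bot hne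
    rw [eq_maximalIdeal hmax]
  exact hrad hx

include ht in
/-- A complete valuation ring of height one is a henselian local ring. -/
theorem henselianLocalRing : HenselianLocalRing R := by
  refine ⟨fun f hf a₀ h₁ h₂ => ?_⟩
  -- Newton step
  have step : ∀ a : R, a - a₀ ∈ maximalIdeal R →
      ∃ a' : R, a' - a₀ ∈ maximalIdeal R ∧ f.eval a' ∈ Ideal.span {f.eval a ^ 2} := by
    intro a ha
    have hu : IsUnit (f.derivative.eval a) := by
      obtain ⟨z, hz⟩ := f.derivative.evalSubFactor a a₀
      have : f.derivative.eval a = f.derivative.eval a₀ + z * (a - a₀) := by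
        rw [← hz]; ring
      rw [this]
      by_contra hnu
      have h3 : f.derivative.eval a₀ + z * (a - a₀) ∈ maximalIdeal R := by
        rw [mem_maximalIdeal, mem_nonunits_iff]; exact hnu
      have h4 : z * (a - a₀) ∈ maximalIdeal R := Ideal.mul_mem_left _ _ ha
      have h5 : f.derivative.eval a₀ ∈ maximalIdeal R := by
        have := Ideal.sub_mem _ h3 h4
        simpa using this
      rw [mem_maximalIdeal, mem_nonunits_iff] at h5
      exact h5 h₂
    obtain ⟨u, hu'⟩ := hu
    obtain ⟨k, hk⟩ := f.binomExpansion a (-(f.eval a * ↑u⁻¹))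
    refine ⟨a + -(f.eval a * ↑u⁻¹), ?_, ?_⟩
    · have hfa : f.eval a ∈ maximalIdeal R := by
        obtain ⟨z, hz⟩ := f.evalSubFactor a a₀
        have : f.eval a = f.eval a₀ + z * (a - a₀) := by rw [← hz]; ring
        rw [this]
        exact Ideal.add_mem _ h₁ (Ideal.mul_mem_left _ _ ha)
      have : a + -(f.eval a * ↑u⁻¹) - a₀ = (a - a₀) - f.eval a * ↑u⁻¹ := by ring
      rw [this]
      exact Ideal.sub_mem _ ha (Ideal.mul_mem_right _ _ hfa)
    · rw [hk, ← hu']
      have : f.eval a + ↑u * -(f.eval a * ↑u⁻¹) + k * (-(f.eval a * ↑u⁻¹)) ^ 2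
          = (k * (↑u⁻¹ : R) ^ 2) * f.eval a ^ 2 + f.eval a * (1 - ↑u * ↑u⁻¹) := by ring
      rw [this, Units.mul_inv, sub_self, mul_zero, add_zero]
      exact Ideal.mul_mem_left _ _ (Ideal.mem_span_singleton_self _)
  have iter : ∀ k : ℕ, ∃ a : R, a - a₀ ∈ maximalIdeal R ∧
      f.eval a ∈ Ideal.span {f.eval a₀ ^ (2 ^ k)} := by
    intro k
    induction k with
    | zero => exact ⟨a₀, by simp, by simpa using Ideal.mem_span_singleton_self _⟩
    | succ k ih =>
      obtain ⟨a, ha, hfa⟩ := ih
      obtain ⟨a', ha', hfa'⟩ := step a ha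
      refine ⟨a', ha', ?_⟩
      rw [Ideal.mem_span_singleton] at hfa hfa' ⊢
      obtain ⟨c, hc⟩ := hfa
      refine dvd_trans ?_ hfa'
      rw [hc, pow_succ 2 k, pow_mul]
      rw [mul_pow]
      exact Dvd.intro _ rfl
  obtain ⟨N, hN⟩ := exists_pow_mem R t ht _ h₁
  obtain ⟨a, ha, hfa⟩ := iter N
  have hfaI : f.eval a ∈ Ideal.span {t} := by
    rw [Ideal.mem_span_singleton] at hfa hN ⊢
    refine dvd_trans hN (dvd_trans ?_ hfa)
    exact pow_dvd_pow _ (Nat.lt_two_pow_self).le
  have hu : IsUnit (f.derivative.eval a) := by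
    obtain ⟨z, hz⟩ := f.derivative.evalSubFactor a a₀
    have : f.derivative.eval a = f.derivative.eval a₀ + z * (a - a₀) := by
      rw [← hz]; ring
    rw [this]
    by_contra hnu
    have h3 : f.derivative.eval a₀ + z * (a - a₀) ∈ maximalIdeal R := by
      rw [mem_maximalIdeal, mem_nonunits_iff]; exact hnu
    have h4 : z * (a - a₀) ∈ maximalIdeal R := Ideal.mul_mem_left _ _ ha
    have h5 : f.derivative.eval a₀ ∈ maximalIdeal R := by
      have := Ideal.sub_mem _ h3 h4
      simpa using this
    rw [mem_maximalIdeal, mem_nonunits_iff] at h5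
    exact h5 h₂
  obtain ⟨b, hb, hba⟩ := HenselianRing.is_henselian (I := Ideal.span {t}) f hf a hfaI
    (hu.map (Ideal.Quotient.mk _))
  refine ⟨b, hb, ?_⟩
  have hle : Ideal.span {t} ≤ maximalIdeal R := by
    rw [Ideal.span_singleton_le_iff_mem]; exact t_mem R t ht
  have : b - a₀ = (b - a) + (a - a₀) := by ring
  rw [this]
  exact Ideal.add_mem _ (hle hba) ha

end Basics

end Part1

section Part2

open Polynomial IsLocalRing

/-- a finite algebra over a henselian local ring which is a domain is local. -/
theorem isLocalRing_of_finite_of_isDomain (A : Type u) [CommRing A] [HenselianLocalRing A]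
    (B : Type u) [CommRing B] [IsDomain B] [Algebra A B] [Module.Finite A B] : IsLocalRing B := by
  classical
  obtain ⟨ι, hι, Aι, hA, hloc, ⟨Φ⟩⟩ :=
    Groth.Agent.Lib.Helper3.Hensel.exists_pi_isLocalRing_of_finite A B
  have hsub : ∀ i j : ι, i = j := by
    intro i j
    by_contra hij
    have h0 : (Pi.single i 1 : ∀ i, Aι i) * Pi.single j 1 = 0 := by
      funext k
      by_cases hk : k = i
      · subst hk
        simp [Pi.single_eq_of_ne hij]
      · simp [Pi.single_eq_of_ne hk]
    have h1 : Φ.symm (Pi.single i 1) * Φ.symm (Pi.single j 1) = 0 := by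
      rw [← map_mul, h0, map_zero]
    have hne : ∀ k : ι, Φ.symm (Pi.single k 1) ≠ 0 := by
      intro k hk
      have h2 : (Pi.single k 1 : ∀ i, Aι i) = 0 := by
        have := congrArg Φ hk
        rwa [Φ.apply_symm_apply, map_zero] at this
      have h3 := congrFun h2 k
      simp at h3
    rcases mul_eq_zero.mp h1 with h | h
    · exact hne i h
    · exact hne j h
  have hne : Nonempty ι := by
    by_contra hemp
    rw [not_nonempty_iff] at hemp
    have h1 : (1 : B) = 0 := by
      apply Φ.injective
      funext i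
      exact (hemp.false i).elim
    exact one_ne_zero h1
  obtain ⟨i₀⟩ := hne
  let f : B →+* Aι i₀ := (Pi.evalRingHom Aι i₀).comp Φ.toRingHom
  have hf : Function.Bijective f := by
    constructor
    · intro x y hxy
      apply Φ.injective
      funext k
      rw [hsub k i₀]
      exact hxy
    · intro a
      refine ⟨Φ.symm (Pi.single i₀ a), ?_⟩
      show (Φ (Φ.symm (Pi.single i₀ a))) i₀ = a
      rw [Φ.apply_symm_apply, Pi.single_eq_same]
  exact (RingEquiv.ofBijective f hf).symm.isLocalRing

section LemmaU

variable {R S : Type*} [CommRing R] [CommRing S] [Algebra R S]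

/-- leading coefficient times the root is integral (coefficients integral). -/
theorem isIntegral_lead_mul (x : S) (n : ℕ) (c : ℕ → S) (hc : ∀ i, IsIntegral R (c i))
    (h : ∑ k ∈ Finset.range (n + 2), c k * x ^ (n + 1 - k) = 0) : IsIntegral R (c 0 * x) := by
  let A := integralClosure R S
  have hA : ∀ s : S, IsIntegral A s → IsIntegral R s := fun s hs => isIntegral_trans s hs
  apply hA
  let b : ℕ → A := fun j => ⟨c (j + 1) * c 0 ^ j, (hc _).mul ((hc 0).pow _)⟩
  let q : A[X] := X ^ (n + 1) + ∑ j ∈ Finset.range (n + 1), Polynomial.C (b j) * X ^ (n - j)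
  have hdeg : (∑ j ∈ Finset.range (n + 1), Polynomial.C (b j) * X ^ (n - j) : A[X]).degree
      < ((n + 1 : ℕ) : WithBot ℕ) := by
    refine lt_of_le_of_lt (degree_sum_le _ _) ?_
    rw [Finset.sup_lt_iff (WithBot.bot_lt_coe _)]
    intro i _
    refine lt_of_le_of_lt (degree_C_mul_X_pow_le _ _) ?_
    exact_mod_cast Nat.lt_succ_of_le (Nat.sub_le n i)
  have hmonic : q.Monic := monic_X_pow_add hdeg
  refine ⟨q, hmonic, ?_⟩
  rw [← aeval_def]
  simp only [q, map_add, map_pow, aeval_X, map_sum, map_mul, aeval_C]
  rw [Finset.sum_range_succ'] at h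
  have h2 : (c 0 * x) ^ (n + 1) + ∑ j ∈ Finset.range (n + 1),
      (algebraMap A S (b j)) * (c 0 * x) ^ (n - j)
      = c 0 ^ n * (∑ k ∈ Finset.range (n + 1), c (k + 1) * x ^ (n + 1 - (k + 1))
        + c 0 * x ^ (n + 1 - 0)) := by
    rw [mul_add, Finset.mul_sum, add_comm]
    congr 1
    · apply Finset.sum_congr rfl
      intro j hj
      have hj' : j ≤ n := Nat.lt_succ_iff.mp (Finset.mem_range.mp hj)
      show c (j + 1) * c 0 ^ j * (c 0 * x) ^ (n - j) = _
      have e1 : n + 1 - (j + 1) = n - j := by omega
      rw [e1, mul_pow]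
      have e2 : c 0 ^ n = c 0 ^ j * c 0 ^ (n - j) := by rw [← pow_add]; congr 1; omega
      rw [e2]; ring
    · rw [Nat.sub_zero, mul_pow]; ring
  rw [h2, h, mul_zero]

/-- all Horner partial values of a polynomial relation with integral coefficients are integral. -/
theorem isIntegral_horner (x : S) : ∀ (n : ℕ) (c : ℕ → S), (∀ i, IsIntegral R (c i)) →
    (∑ k ∈ Finset.range (n + 1), c k * x ^ (n - k) = 0) →
    ∀ k, k ≤ n → IsIntegral R (∑ i ∈ Finset.range (k + 1), c i * x ^ (k - i)) := by
  intro n
  induction n with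
  | zero =>
    intro c hc _ k hk
    have : k = 0 := Nat.le_zero.mp hk
    subst this
    simpa using hc 0
  | succ n ih =>
    intro c hc h k hk
    have hlead := isIntegral_lead_mul x n c hc h
    rcases Nat.eq_zero_or_pos k with hk0 | hkpos
    · subst hk0
      simpa using hc 0
    obtain ⟨k', rfl⟩ : ∃ k', k = k' + 1 := ⟨k - 1, by omega⟩
    let c' : ℕ → S := fun i => if i = 0 then c 0 * x + c 1 else c (i + 1)
    have hc' : ∀ i, IsIntegral R (c' i) := by
      intro i
      by_cases hi : i = 0
      · simp only [c', hi, if_true]; exact hlead.add (hc 1)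
      · simp only [c', hi, if_false]; exact hc _
    have key : ∀ m : ℕ, ∑ i ∈ Finset.range (m + 1), c' i * x ^ (m - i)
        = ∑ i ∈ Finset.range (m + 2), c i * x ^ (m + 1 - i) := by
      intro m
      rw [Finset.sum_range_succ' _ (m + 1), Finset.sum_range_succ' _ m,
        Finset.sum_range_succ' _ m]
      have e1 : ∀ i, c' (i + 1) = c (i + 1 + 1) := by
        intro i; simp [c']
      have e0 : c' 0 = c 0 * x + c 1 := by simp [c']
      simp only [e1, e0, Nat.sub_zero]
      have e3 : ∀ i, m + 1 - (i + 1 + 1) = m - (i + 1) := by intro i; omega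
      simp only [e3]
      have e4 : m + 1 - (0 + 1) = m := by omega
      rw [e4, pow_succ]; ring
    have h' : ∑ i ∈ Finset.range (n + 1), c' i * x ^ (n - i) = 0 := by rw [key n]; exact h
    have := ih c' hc' h' k' (by omega)
    rw [key k'] at this
    exact this

end LemmaU

end Part2

section Part3

open Polynomial IsLocalRing

theorem exists_dvd_all {R : Type*} [CommRing R] [IsDomain R] [ValuationRing R] (a : ℕ → R) :
    ∀ s : Finset ℕ, s.Nonempty → ∃ j ∈ s, ∀ i ∈ s, a j ∣ a i := by
  classical
  intro s
  induction s using Finset.induction_on with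
  | empty => intro h; exact absurd h (by simp)
  | insert b s hb ih =>
    intro _
    rcases s.eq_empty_or_nonempty with hs | hs
    · subst hs
      exact ⟨b, by simp, by simp⟩
    · obtain ⟨j, hj, hdiv⟩ := ih hs
      rcases ValuationRing.dvd_total (a j) (a b) with h | h
      · refine ⟨j, Finset.mem_insert_of_mem hj, ?_⟩
        intro i hi
        rcases Finset.mem_insert.mp hi with rfl | hi
        · exact h
        · exact hdiv i hi
      · refine ⟨b, Finset.mem_insert_self _ _, ?_⟩
        intro i hi
        rcases Finset.mem_insert.mp hi with rfl | hi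
        · exact dvd_rfl
        · exact dvd_trans h (hdiv i hi)

/-- In an algebraic field extension of the fraction field of a henselian valuation ring, every
element or its inverse is integral. -/
theorem isIntegral_or_inv (R : Type u) [CommRing R] [IsDomain R] [ValuationRing R]
    [HenselianLocalRing R] (L : Type u) [Field L] [Algebra R L] [FaithfulSMul R L] (x : L)
    (hx : IsAlgebraic R x) : IsIntegral R x ∨ IsIntegral R x⁻¹ := by
  classical
  by_cases hx0 : x = 0
  · left; rw [hx0]; exact isIntegral_zero
  obtain ⟨p, hp0, hpx⟩ := hx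
  have hsupp : p.support.Nonempty := by
    rw [Finset.nonempty_iff_ne_empty, Ne, Polynomial.support_eq_empty]; exact hp0
  obtain ⟨j, hj, hdiv⟩ := exists_dvd_all (fun i => p.coeff i) p.support hsupp
  have hcj : p.coeff j ≠ 0 := Polynomial.mem_support_iff.mp hj
  have hq : ∀ i, ∃ q : R, p.coeff i = p.coeff j * q := by
    intro i
    by_cases hi : i ∈ p.support
    · exact hdiv i hi
    · exact ⟨0, by rw [mul_zero]; exact Polynomial.notMem_support_iff.mp hi⟩
  choose q hq using hq
  have hqj : q j = 1 := by
    have := hq j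
    have h2 : p.coeff j * 1 = p.coeff j * q j := by rw [mul_one]; exact this
    exact (mul_left_cancel₀ hcj h2).symm
  set n := p.natDegree with hn
  have hjn : j ≤ n := Polynomial.le_natDegree_of_mem_supp _ hj
  let c : ℕ → L := fun k => algebraMap R L (q (n - k))
  have hc : ∀ i, IsIntegral R (c i) := fun i => isIntegral_algebraMap
  have hinj : Function.Injective (algebraMap R L) := FaithfulSMul.algebraMap_injective R L
  have rel : ∑ k ∈ Finset.range (n + 1), c k * x ^ (n - k) = 0 := by
    have h1 : algebraMap R L (p.coeff j) * ∑ k ∈ Finset.range (n + 1), c k * x ^ (n - k)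
        = aeval x p := by
      rw [aeval_eq_sum_range, Finset.mul_sum, ← Finset.sum_range_reflect]
      apply Finset.sum_congr rfl
      intro k hk
      have hk' : k ≤ n := Nat.lt_succ_iff.mp (Finset.mem_range.mp hk)
      have e1 : n + 1 - 1 - k = n - k := by omega
      have e2 : n - (n - k) = k := by omega
      rw [e1]
      show algebraMap R L (p.coeff j) * (algebraMap R L (q (n - (n - k))) * x ^ (n - (n - k))) = _
      rw [e2, Algebra.smul_def, hq k, map_mul]
      ring
    rw [hpx] at h1
    rcases mul_eq_zero.mp h1 with h | h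
    · exact absurd ((map_eq_zero_iff _ hinj).mp h) hcj
    · exact h
  set K := n - j with hK
  have hKn : K + j = n := by omega
  have hcK : c K = 1 := by
    show algebraMap R L (q (n - K)) = 1
    have : n - K = j := by omega
    rw [this, hqj, map_one]
  let v : ℕ → L := fun k => ∑ i ∈ Finset.range (k + 1), c i * x ^ (k - i)
  have hv : ∀ k, k ≤ n → IsIntegral R (v k) := isIntegral_horner x n c hc rel
  have hvsucc : ∀ k, v (k + 1) = x * v k + c (k + 1) := by
    intro k
    show ∑ i ∈ Finset.range (k + 1 + 1), c i * x ^ (k + 1 - i) = _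
    rw [Finset.sum_range_succ, Nat.sub_self, pow_zero, mul_one]
    congr 1
    show _ = x * ∑ i ∈ Finset.range (k + 1), c i * x ^ (k - i)
    rw [Finset.mul_sum]
    apply Finset.sum_congr rfl
    intro i hi
    have hi' : i ≤ k := Nat.lt_succ_iff.mp (Finset.mem_range.mp hi)
    have : k + 1 - i = (k - i) + 1 := by omega
    rw [this, pow_succ]; ring
  set y := v K with hy
  have hyint : IsIntegral R y := hv K (by omega)
  let Ry : Subalgebra R L := Algebra.adjoin R {y}
  haveI : Module.Finite R Ry := Algebra.finite_adjoin_simple_of_isIntegral hyint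
  haveI : IsLocalRing Ry := isLocalRing_of_finite_of_isDomain R Ry
  have hint : ∀ z : Ry, IsIntegral R (z : L) := fun z =>
    (Algebra.IsIntegral.isIntegral (R := R) z).map Ry.val
  let y' : Ry := ⟨y, Algebra.subset_adjoin rfl⟩
  have hsum : y' + (1 - y') = 1 := by ring
  rcases IsLocalRing.isUnit_or_isUnit_of_add_one hsum with hu | hu
  · -- y is a unit: x integral
    left
    obtain ⟨z, hz⟩ := hu.exists_right_inv
    have hz' : y * (z : L) = 1 := by
      have := congrArg (Subtype.val) hz
      simpa using this
    -- split the relation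
    have hsplit : y * x ^ j + ∑ i ∈ Finset.range j, c (K + 1 + i) * x ^ (n - (K + 1 + i)) = 0 := by
      have h1 : n + 1 = (K + 1) + j := by omega
      rw [h1, Finset.sum_range_add] at rel
      rw [← rel]
      congr 1
      show (∑ i ∈ Finset.range (K + 1), c i * x ^ (K - i)) * x ^ j = _
      rw [Finset.sum_mul]
      apply Finset.sum_congr rfl
      intro i hi
      have hi' : i ≤ K := Nat.lt_succ_iff.mp (Finset.mem_range.mp hi)
      have : n - i = (K - i) + j := by omega
      rw [this, pow_add]; ring
    rcases Nat.eq_zero_or_pos j with hj0 | hjpos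
    · exfalso
      rw [hj0] at hsplit
      simp only [pow_zero, mul_one, Finset.range_zero, Finset.sum_empty, add_zero] at hsplit
      rw [hsplit, zero_mul] at hz'
      exact zero_ne_one hz'
    · obtain ⟨j', rfl⟩ : ∃ j', j = j' + 1 := ⟨j - 1, by omega⟩
      let c' : ℕ → L := fun k => if k = 0 then y else c (K + k)
      have hc' : ∀ i, IsIntegral R (c' i) := by
        intro i
        by_cases hi : i = 0
        · simp only [c', hi, if_true]; exact hyint
        · simp only [c', hi, if_false]; exact hc _
      have rel' : ∑ k ∈ Finset.range (j' + 2), c' k * x ^ (j' + 1 - k) = 0 := by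
        rw [Finset.sum_range_succ', ← hsplit, add_comm]
        congr 1
        apply Finset.sum_congr rfl
        intro i hi
        have hi' : i < j' + 1 := Finset.mem_range.mp hi
        have e1 : c' (i + 1) = c (K + 1 + i) := by
          simp only [c', Nat.add_eq_zero_iff, one_ne_zero, and_false, if_false]
          congr 1; omega
        have e2 : j' + 1 - (i + 1) = n - (K + 1 + i) := by omega
        rw [e1, e2]
      have h3 := isIntegral_lead_mul x j' c' hc' rel'
      have h4 : c' 0 = y := by simp [c']
      rw [h4] at h3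
      have h5 : x = (z : L) * (y * x) := by
        rw [← mul_assoc, mul_comm (z : L) y, hz', one_mul]
      rw [h5]
      exact (hint z).mul h3
  · -- 1 - y is a unit: x⁻¹ integral
    right
    obtain ⟨z, hz⟩ := hu.exists_right_inv
    have hz' : (1 - y) * (z : L) = 1 := by
      have := congrArg (Subtype.val) hz
      simpa using this
    rcases Nat.eq_zero_or_pos K with hK0 | hKpos
    · exfalso
      have hy1 : y = 1 := by
        rw [hy, hK0]
        show ∑ i ∈ Finset.range (0 + 1), c i * x ^ (0 - i) = 1
        rw [hK0] at hcK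
        simp [hcK]
      rw [hy1, sub_self, zero_mul] at hz'
      exact zero_ne_one hz'
    · obtain ⟨K', hK'⟩ : ∃ K', K = K' + 1 := ⟨K - 1, by omega⟩
      have hy2 : y = x * v K' + 1 := by
        rw [hy, hK', hvsucc, ← hK', hcK]
      have h5 : x * (-(v K') * (z : L)) = 1 := by
        rw [← hz', hy2]; ring
      have h6 : x⁻¹ = -(v K') * (z : L) := by
        rw [eq_comm, ← mul_right_inj' hx0, h5, mul_inv_cancel₀ hx0]
      rw [h6]
      exact ((hv K' (by omega)).neg).mul (hint z)

end Part3

section Part4

open Polynomial IsLocalRing AdicRing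

noncomputable section

section RPowFacts

variable (R : Type u) [CommRing R] (t : R) (n : ℕ)

/-- the polynomial ring -/
abbrev Pn : Type u := MvPolynomial (Fin n) R

/-- the ideal generated by `t` in the polynomial ring -/
abbrev Jn : Ideal (Pn R n) := (Ideal.span {t}).map (MvPolynomial.C : R →+* MvPolynomial (Fin n) R)

/-- restricted power series -/
abbrev An : Type u := RPow R (Ideal.span {t}) n

theorem J_fg : (Jn R t n).FG := Ideal.FG.map ⟨{t}, by simp⟩ _

theorem J_eq : (Jn R t n) = (Ideal.span {t}).map (algebraMap R (Pn R n)) := by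
  rw [MvPolynomial.algebraMap_eq]

instance : IsScalarTower R (Pn R n) (An R t n) := inferInstance

theorem rpow_complete : IsAdicComplete (Ideal.span {t}) (An R t n) := by
  have h1 : IsAdicComplete (Jn R t n) (An R t n) := AdicCompletion.isAdicComplete (J_fg R t n)
  rw [J_eq] at h1
  exact (IsAdicComplete.map_algebraMap_iff (S := Pn R n) _ _).mp h1

theorem rpow_dense (a : An R t n) :
    ∃ (p : Pn R n) (a' : An R t n), a = algebraMap (Pn R n) (An R t n) p + t • a' := by
  obtain ⟨p, hp⟩ := Ideal.Quotient.mk_surjective (AdicCompletion.evalOneₐ (Jn R t n) a)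
  have hker : a - algebraMap (Pn R n) (An R t n) p ∈
      RingHom.ker (AdicCompletion.evalOneₐ (Jn R t n)).toRingHom := by
    rw [RingHom.mem_ker]
    show AdicCompletion.evalOneₐ (Jn R t n) (a - algebraMap (Pn R n) (An R t n) p) = 0
    rw [map_sub, AlgHom.commutes, ← hp]
    simp
  rw [AdicCompletion.ker_evalOneₐ_eq_map (Jn R t n) (J_fg R t n), Ideal.map_map, Ideal.map_span,
    Set.image_singleton, Ideal.mem_span_singleton'] at hker
  obtain ⟨a', ha'⟩ := hker
  refine ⟨p, a', ?_⟩
  have : ((algebraMap (Pn R n) (An R t n)).comp MvPolynomial.C) t = algebraMap R (An R t n) t := by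
    show algebraMap (Pn R n) (An R t n) (MvPolynomial.C t) = _
    rw [IsScalarTower.algebraMap_apply R (Pn R n) (An R t n), MvPolynomial.algebraMap_eq]
  rw [this] at ha'
  rw [Algebra.smul_def, mul_comm, ha']
  ring

end RPowFacts

end

end Part4

section Part5

open Polynomial IsLocalRing AdicRing

noncomputable section

section Precomplete

variable {R : Type*} [CommRing R] (I : Ideal R)

theorem map_mem_smul_top {M N : Type*} [AddCommGroup M] [Module R M] [AddCommGroup N] [Module R N]
    (g : M →ₗ[R] N) (J : Ideal R) {x : M} (hx : x ∈ (J • ⊤ : Submodule R M)) :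
    g x ∈ (J • ⊤ : Submodule R N) := by
  have h1 : g x ∈ (J • ⊤ : Submodule R M).map g := Submodule.mem_map_of_mem hx
  rw [Submodule.map_smul''] at h1
  exact Submodule.smul_mono le_rfl le_top h1

theorem isPrecomplete_prod (M N : Type*) [AddCommGroup M] [Module R M] [AddCommGroup N]
    [Module R N] [IsPrecomplete I M] [IsPrecomplete I N] : IsPrecomplete I (M × N) := by
  refine ⟨fun {f} hf => ?_⟩
  have h1 : ∀ {m n}, m ≤ n → (f m).1 ≡ (f n).1 [SMOD (I ^ m • ⊤ : Submodule R M)] := by
    intro m n hmn
    have := hf hmn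
    rw [SModEq.sub_mem] at this ⊢
    exact map_mem_smul_top (LinearMap.fst R M N) _ this
  have h2 : ∀ {m n}, m ≤ n → (f m).2 ≡ (f n).2 [SMOD (I ^ m • ⊤ : Submodule R N)] := by
    intro m n hmn
    have := hf hmn
    rw [SModEq.sub_mem] at this ⊢
    exact map_mem_smul_top (LinearMap.snd R M N) _ this
  obtain ⟨L1, hL1⟩ := IsPrecomplete.prec ‹IsPrecomplete I M› h1
  obtain ⟨L2, hL2⟩ := IsPrecomplete.prec ‹IsPrecomplete I N› h2
  refine ⟨(L1, L2), fun n => ?_⟩
  have e1 := hL1 n
  have e2 := hL2 n
  rw [SModEq.sub_mem] at e1 e2 ⊢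
  have : f n - (L1, L2) = LinearMap.inl R M N ((f n).1 - L1) + LinearMap.inr R M N ((f n).2 - L2) := by
    ext <;> simp
  rw [this]
  exact Submodule.add_mem _ (map_mem_smul_top _ _ e1) (map_mem_smul_top _ _ e2)

theorem isPrecomplete_pi {ι : Type*} [Fintype ι] [DecidableEq ι] (M : Type*)
    [AddCommGroup M] [Module R M] [IsPrecomplete I M] :
    IsPrecomplete I (ι → M) := by
  refine ⟨fun {f} hf => ?_⟩
  have h1 : ∀ i : ι, ∀ {m n}, m ≤ n → (f m) i ≡ (f n) i [SMOD (I ^ m • ⊤ : Submodule R M)] := by
    intro i m n hmn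
    have := hf hmn
    rw [SModEq.sub_mem] at this ⊢
    exact map_mem_smul_top (LinearMap.proj (R := R) (φ := fun _ : ι => M) i) _ this
  have h2 : ∀ i : ι, ∃ L : M, ∀ n, (f n) i ≡ L [SMOD (I ^ n • ⊤ : Submodule R M)] :=
    fun i => IsPrecomplete.prec ‹IsPrecomplete I M› (h1 i)
  choose L hL using h2
  refine ⟨L, fun n => ?_⟩
  rw [SModEq.sub_mem]
  have : f n - L = ∑ i, LinearMap.single R (fun _ : ι => M) i ((f n) i - L i) := by
    funext j
    rw [Finset.sum_apply]
    simp [Pi.single_apply]
  rw [this]
  refine Submodule.sum_mem _ (fun i _ => ?_)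
  have e := hL i n
  rw [SModEq.sub_mem] at e
  exact map_mem_smul_top _ _ e

end Precomplete

section Lift

variable {R : Type*} [CommRing R] (t : R) [IsPrecomplete (Ideal.span {t}) R]
  {A : Type*} [CommRing A] [Algebra R A] [IsPrecomplete (Ideal.span {t}) A]
  [IsHausdorff (Ideal.span {t}) A]

/-- The basic lifting lemma: if `A = ∑ R aᵢ + t A + 𝔞` with `𝔞` finitely generated, then
`A = ∑ R aᵢ + 𝔞`. -/
theorem lift_span (𝔞 : Ideal A) (h𝔞 : 𝔞.FG) {s : ℕ} (a : Fin s → A)
    (H : ∀ x : A, ∃ (r : Fin s → R) (x' : A) (α : A), α ∈ 𝔞 ∧ x = ∑ i, r i • a i + t • x' + α)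
    (x : A) : ∃ (r : Fin s → R) (α : A), α ∈ 𝔞 ∧ x = ∑ i, r i • a i + α := by
  classical
  obtain ⟨q, g, hg⟩ := Submodule.fg_iff_exists_fin_generating_family.mp h𝔞
  let F1 : (Fin s → R) →ₗ[R] A := Fintype.linearCombination R a
  let F2 : (Fin q → A) →ₗ[R] A := (Fintype.linearCombination A g).restrictScalars R
  let F : ((Fin s → R) × (Fin q → A)) →ₗ[R] A := F1.coprod F2
  haveI : IsPrecomplete (Ideal.span {t}) (Fin s → R) := isPrecomplete_pi _ R
  haveI : IsPrecomplete (Ideal.span {t}) (Fin q → A) := isPrecomplete_pi _ A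
  haveI : IsPrecomplete (Ideal.span {t}) ((Fin s → R) × (Fin q → A)) := isPrecomplete_prod _ _ _
  have hsurj : Function.Surjective F := by
    apply surjective_of_mkQ_comp_surjective (I := Ideal.span {t})
    intro y
    obtain ⟨x, rfl⟩ := Submodule.Quotient.mk_surjective _ y
    obtain ⟨r, x', α, hα, hx⟩ := H x
    rw [← hg] at hα
    obtain ⟨c, hc⟩ := (Submodule.mem_span_range_iff_exists_fun A).mp hα
    refine ⟨(r, c), ?_⟩
    show Submodule.Quotient.mk (F (r, c)) = Submodule.Quotient.mk x
    rw [eq_comm, Submodule.Quotient.eq]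
    have hF : F (r, c) = ∑ i, r i • a i + α := by
      show F1 r + F2 c = _
      rw [← hc]
      simp [F1, F2, Fintype.linearCombination_apply]
    rw [hF, hx]
    have : ∑ i, r i • a i + t • x' + α - (∑ i, r i • a i + α) = t • x' := by ring
    rw [this]
    exact Submodule.smul_mem_smul (Ideal.mem_span_singleton_self t) Submodule.mem_top
  obtain ⟨⟨r, c⟩, hrc⟩ := hsurj x
  refine ⟨r, ∑ j, c j * g j, ?_, ?_⟩
  · rw [← hg]
    exact Submodule.sum_mem _ (fun j _ => Ideal.mul_mem_left _ _ (Submodule.subset_span ⟨j, rfl⟩))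
  · rw [← hrc]
    show F1 r + F2 c = _
    simp [F1, F2, Fintype.linearCombination_apply]

end Lift

end

end Part5

section Part6

open Polynomial IsLocalRing AdicRing

noncomputable section

section Finite

variable (R : Type u) [CommRing R] [IsDomain R] [ValuationRing R] [Ring.KrullDimLE 1 R]
  (t : R) (ht : t ≠ 0) [IsAdicComplete (Ideal.span {t}) R]

/-- elements `1 + t a` of restricted power series are units. -/
theorem isUnit_one_add (n : ℕ) (a : An R t n) : IsUnit (1 + t • a) := by
  have hcomp : IsAdicComplete (Ideal.span {t}) (An R t n) := rpow_complete R t n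
  have h2 : IsAdicComplete ((Ideal.span {t}).map (algebraMap R (An R t n))) (An R t n) :=
    (IsAdicComplete.map_algebraMap_iff (S := An R t n) _ _).mpr hcomp
  have h3 := IsAdicComplete.le_jacobson_bot ((Ideal.span {t}).map (algebraMap R (An R t n)))
  have h4 : algebraMap R (An R t n) t ∈ (⊥ : Ideal (An R t n)).jacobson :=
    h3 (Ideal.mem_map_of_mem _ (Ideal.mem_span_singleton_self t))
  have h5 := (Ideal.mem_jacobson_bot.mp h4) a
  rw [Algebra.smul_def, add_comm]
  exact h5

variable (B : Type u) [CommRing B] [Algebra R B] [IsLocalRing B]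

include ht in
theorem finite_of_topFinitePresentation
    (hB : AdicRing.TopFinitePresentation R (Ideal.span {t}) B) : Module.Finite R B := by
  classical
  obtain ⟨n, φ, hφ, hker⟩ := hB
  have hcomp : IsAdicComplete (Ideal.span {t}) (An R t n) := rpow_complete R t n
  haveI : IsPrecomplete (Ideal.span {t}) (An R t n) := hcomp.toIsPrecomplete
  haveI : IsHausdorff (Ideal.span {t}) (An R t n) := hcomp.toIsHausdorff
  let ψ : Pn R n →ₐ[R] B := φ.comp (IsScalarTower.toAlgHom R (Pn R n) (An R t n))
  have hdense : ∀ b : B, ∃ (p : Pn R n) (b' : B), b = ψ p + t • b' := by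
    intro b
    obtain ⟨a, rfl⟩ := hφ b
    obtain ⟨p, a', ha⟩ := rpow_dense R t n a
    refine ⟨p, φ a', ?_⟩
    rw [ha, map_add, map_smul]
    rfl
  -- (B2)
  have hunit : ∀ b : B, IsUnit (1 + t • b) := by
    intro b
    obtain ⟨a, rfl⟩ := hφ b
    have := (isUnit_one_add R t n a).map φ
    rwa [map_add, map_one, map_smul] at this
  have htB : algebraMap R B t ∈ maximalIdeal B := by
    rw [mem_maximalIdeal, mem_nonunits_iff]
    intro hu
    obtain ⟨u, hu'⟩ := hu
    have h1 := hunit (-(↑u⁻¹ : B))
    rw [Algebra.smul_def, ← hu'] at h1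
    have : (1 : B) + ↑u * -(↑u⁻¹ : B) = 0 := by
      rw [mul_neg, Units.mul_inv]; ring
    rw [this] at h1
    exact not_isUnit_zero h1
  -- (B3)
  have hcomap : (maximalIdeal B).comap (algebraMap R B) = maximalIdeal R := by
    have hprime : ((maximalIdeal B).comap (algebraMap R B)).IsPrime := Ideal.IsPrime.comap _
    have hne : (maximalIdeal B).comap (algebraMap R B) ≠ ⊥ := by
      intro h
      have : t ∈ (maximalIdeal B).comap (algebraMap R B) := htB
      rw [h, Ideal.mem_bot] at this
      exact ht this
    exact eq_maximalIdeal (hprime.isMaximal_of_ne_bot hne)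
  have hmB : (maximalIdeal R).map (algebraMap R B) ≤ maximalIdeal B := by
    rw [Ideal.map_le_iff_le_comap, hcomap]
  have htm : t ∈ maximalIdeal R := t_mem R t ht
  -- (B4)
  let mB : Ideal B := (maximalIdeal R).map (algebraMap R B)
  let S := B ⧸ mB
  have hmBne : mB ≠ ⊤ := fun h => (IsLocalRing.maximalIdeal.isMaximal B).ne_top
    (top_le_iff.mp (h ▸ hmB))
  haveI : Nontrivial S := Ideal.Quotient.nontrivial_iff.mpr hmBne
  haveI : IsLocalRing S := IsLocalRing.of_surjective' (Ideal.Quotient.mk mB)
    Ideal.Quotient.mk_surjective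
  haveI : Algebra.FiniteType R S := by
    refine Algebra.FiniteType.of_surjective ((Ideal.Quotient.mkₐ R mB).comp ψ) ?_
    intro s
    obtain ⟨b, rfl⟩ := Ideal.Quotient.mk_surjective s
    obtain ⟨p, b', hb⟩ := hdense b
    refine ⟨p, ?_⟩
    show Ideal.Quotient.mk mB (ψ p) = Ideal.Quotient.mk mB b
    rw [Ideal.Quotient.eq, hb]
    have : ψ p - (ψ p + t • b') = - (algebraMap R B t * b') := by
      rw [Algebra.smul_def]; ring
    rw [this]
    exact neg_mem (Ideal.mul_mem_right _ _ (Ideal.mem_map_of_mem _ htm))
  let k := R ⧸ maximalIdeal R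
  letI : Field k := Ideal.Quotient.field (maximalIdeal R)
  haveI : Algebra.FiniteType k S := Algebra.FiniteType.of_restrictScalars_finiteType R k S
  haveI : IsJacobsonRing S := isJacobsonRing_of_finiteType (A := k) (B := S)
  haveI : Ring.KrullDimLE 0 S := by
    rw [Ring.krullDimLE_zero_iff]
    intro Q hQ
    have h1 : Q.jacobson = Q := IsJacobsonRing.out ‹IsJacobsonRing S› hQ.isRadical
    have h2 : Q.jacobson = maximalIdeal S := IsLocalRing.jacobson_eq_maximalIdeal Q hQ.ne_top
    rw [← h1, h2]
    exact IsLocalRing.maximalIdeal.isMaximal S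
  haveI : Module.Finite k S := (Module.finite_iff_krullDimLE_zero k S).mpr inferInstance
  haveI : Module.Finite R k :=
    Module.Finite.of_surjective (Ideal.Quotient.mkₐ R (maximalIdeal R)).toLinearMap
      Ideal.Quotient.mk_surjective
  haveI : Module.Finite R S := Module.Finite.trans k S
  -- (B5)
  let tB : Ideal B := (Ideal.span {t}).map (algebraMap R B)
  let Bb := B ⧸ tB
  have htBle : tB ≤ mB := Ideal.map_mono (by
    rw [Ideal.span_singleton_le_iff_mem]; exact htm)
  haveI : Algebra.FiniteType R Bb := by
    refine Algebra.FiniteType.of_surjective ((Ideal.Quotient.mkₐ R tB).comp ψ) ?_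
    intro s
    obtain ⟨b, rfl⟩ := Ideal.Quotient.mk_surjective s
    obtain ⟨p, b', hb⟩ := hdense b
    refine ⟨p, ?_⟩
    show Ideal.Quotient.mk tB (ψ p) = Ideal.Quotient.mk tB b
    rw [Ideal.Quotient.eq, hb]
    have : ψ p - (ψ p + t • b') = - (algebraMap R B t * b') := by
      rw [Algebra.smul_def]; ring
    rw [this]
    exact neg_mem (Ideal.mul_mem_right _ _
      (Ideal.mem_map_of_mem _ (Ideal.mem_span_singleton_self t)))
  have hnil : ∀ b ∈ mB, IsNilpotent (Ideal.Quotient.mk tB b) := by
    have : mB ≤ (nilradical Bb).comap (Ideal.Quotient.mk tB) := by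
      rw [Ideal.map_le_iff_le_comap]
      intro μ hμ
      rw [Ideal.mem_comap, Ideal.mem_comap, mem_nilradical]
      obtain ⟨N, hN⟩ := exists_pow_mem R t ht μ hμ
      refine ⟨N, ?_⟩
      rw [← map_pow, ← map_pow, Ideal.Quotient.eq_zero_iff_mem]
      exact Ideal.mem_map_of_mem _ hN
    intro b hb
    exact mem_nilradical.mp (this hb)
  haveI : Algebra.IsIntegral R Bb := by
    refine ⟨fun z => ?_⟩
    obtain ⟨b, rfl⟩ := Ideal.Quotient.mk_surjective z
    obtain ⟨g, hg, hgz⟩ := Algebra.IsIntegral.isIntegral (R := R) (Ideal.Quotient.mk mB b)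
    rw [← aeval_def] at hgz
    have h1 : aeval b g ∈ mB := by
      rw [← Ideal.Quotient.eq_zero_iff_mem]
      have := aeval_algHom_apply (Ideal.Quotient.mkₐ R mB) b g
      rw [Ideal.Quotient.mkₐ_eq_mk] at this
      rw [this] at hgz
      exact hgz
    obtain ⟨N, hN⟩ := hnil _ h1
    refine ⟨g ^ N, hg.pow N, ?_⟩
    rw [← aeval_def, map_pow]
    have := aeval_algHom_apply (Ideal.Quotient.mkₐ R tB) b g
    rw [Ideal.Quotient.mkₐ_eq_mk] at this
    rw [this, hN]
  haveI : Module.Finite R Bb := Algebra.IsIntegral.finite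
  -- (B6)
  obtain ⟨s, v, hv⟩ := Module.Finite.exists_fin (R := R) (M := Bb)
  have hb : ∀ i, ∃ b : B, Ideal.Quotient.mk tB b = v i := fun i => Ideal.Quotient.mk_surjective _
  choose b hb using hb
  have ha : ∀ i, ∃ a : An R t n, φ a = b i := fun i => hφ _
  choose a ha using ha
  have H : ∀ x : An R t n, ∃ (r : Fin s → R) (x' : An R t n) (α : An R t n),
      α ∈ RingHom.ker φ.toRingHom ∧ x = ∑ i, r i • a i + t • x' + α := by
    intro x
    have h1 : Ideal.Quotient.mk tB (φ x) ∈ Submodule.span R (Set.range v) := by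
      rw [hv]; exact Submodule.mem_top
    obtain ⟨r, hr⟩ := (Submodule.mem_span_range_iff_exists_fun R).mp h1
    have h2 : φ x - ∑ i, r i • b i ∈ tB := by
      rw [← Ideal.Quotient.eq, ← hr, map_sum]
      apply Finset.sum_congr rfl
      intro i _
      rw [← hb i, Algebra.smul_def, Algebra.smul_def, map_mul]
      rfl
    have h3 : tB = Ideal.span {algebraMap R B t} := by
      show (Ideal.span {t}).map (algebraMap R B) = _
      rw [Ideal.map_span, Set.image_singleton]
    rw [h3, Ideal.mem_span_singleton'] at h2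
    obtain ⟨b', hb'⟩ := h2
    obtain ⟨x', rfl⟩ := hφ b'
    refine ⟨r, x', x - ∑ i, r i • a i - t • x', ?_, by ring⟩
    rw [RingHom.mem_ker]
    show φ (x - ∑ i, r i • a i - t • x') = 0
    rw [map_sub, map_sub, map_sum, map_smul]
    have : ∑ i, φ (r i • a i) = ∑ i, r i • b i := by
      apply Finset.sum_congr rfl
      intro i _
      rw [map_smul, ha]
    rw [this, Algebra.smul_def, sub_eq_zero, ← hb', mul_comm]
  have hspan : ∀ y : B, ∃ r : Fin s → R, y = ∑ i, r i • b i := by
    intro y
    obtain ⟨x, rfl⟩ := hφ y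
    obtain ⟨r, α, hα, hx⟩ := lift_span t (RingHom.ker φ.toRingHom) hker a H x
    refine ⟨r, ?_⟩
    rw [hx, map_add, map_sum]
    have h1 : φ α = 0 := hα
    rw [h1, add_zero]
    apply Finset.sum_congr rfl
    intro i _
    rw [map_smul, ha]
  refine Module.Finite.of_surjective (Fintype.linearCombination R b) ?_
  intro y
  obtain ⟨r, hr⟩ := hspan y
  exact ⟨r, by rw [Fintype.linearCombination_apply, hr]⟩

end Finite

end

end Part6

section Part7

open Polynomial IsLocalRing AdicRing

noncomputable section

section Main41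

variable (R : Type u) [CommRing R] [IsDomain R] [ValuationRing R] [Ring.KrullDimLE 1 R]
  (t : R) (ht : t ≠ 0) [IsAdicComplete (Ideal.span {t}) R]
  (B : Type u) [CommRing B] [Algebra R B] [IsDomain B]

include ht in
/-- the structure map of a domain without `t`-torsion is injective. -/
theorem algebraMap_injective_of_noPowTorsion (hB : AdicRing.NoPowTorsion (Ideal.span {t}) B) :
    Function.Injective (algebraMap R B) := by
  rw [RingHom.injective_iff_ker_eq_bot]
  by_contra hne
  have hprime : (RingHom.ker (algebraMap R B)).IsPrime := RingHom.ker_isPrime _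
  have hmax : (RingHom.ker (algebraMap R B)).IsMaximal := hprime.isMaximal_of_ne_bot hne
  have h1 : RingHom.ker (algebraMap R B) = maximalIdeal R := eq_maximalIdeal hmax
  have h2 : t ∈ RingHom.ker (algebraMap R B) := by rw [h1]; exact t_mem R t ht
  rw [RingHom.mem_ker] at h2
  have h3 : (1 : B) = 0 := by
    apply hB 1 1
    intro a ha
    rw [pow_one, Ideal.mem_span_singleton'] at ha
    obtain ⟨c, rfl⟩ := ha
    rw [Algebra.smul_def, mul_one, map_mul, h2, mul_zero]
  exact one_ne_zero h3

include ht in
theorem main_11541 [IsLocalRing B] (hB : AdicRing.Admissible R (Ideal.span {t}) B) :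
    Module.Finite R B ∧ ValuationRing (integralClosure B (FractionRing B)) := by
  have hfin : Module.Finite R B := finite_of_topFinitePresentation R t ht B hB.1
  refine ⟨hfin, ?_⟩
  have hinj := algebraMap_injective_of_noPowTorsion R t ht B hB.2
  haveI : FaithfulSMul R B := (faithfulSMul_iff_algebraMap_injective R B).mpr hinj
  haveI : HenselianLocalRing R := henselianLocalRing R t ht
  let L := FractionRing B
  haveI : FaithfulSMul R L := by
    rw [faithfulSMul_iff_algebraMap_injective, IsScalarTower.algebraMap_eq R B L]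
    exact (IsFractionRing.injective B L).comp hinj
  haveI : Algebra.IsIntegral R B := Algebra.IsIntegral.of_finite R B
  haveI : Algebra.IsAlgebraic B L := IsLocalization.isAlgebraic L (nonZeroDivisors B)
  haveI : Algebra.IsAlgebraic R L := Algebra.IsIntegral.trans_isAlgebraic R B L
  haveI : IsFractionRing (integralClosure B L) L :=
    integralClosure.isFractionRing_of_algebraic (A := B) (L := L)
      (fun x hx => (IsFractionRing.injective B L) (by rw [hx, map_zero]))
  rw [ValuationRing.iff_isInteger_or_isInteger (integralClosure B L) L]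
  intro x
  have key : ∀ y : L, IsIntegral R y → IsLocalization.IsInteger (integralClosure B L) y := by
    intro y hy
    exact ⟨⟨y, hy.tower_top⟩, rfl⟩
  rcases isIntegral_or_inv R L x (Algebra.IsAlgebraic.isAlgebraic x) with h | h
  · exact Or.inl (key _ h)
  · exact Or.inr (key _ h)

end Main41

end

end Part7

section Part8

open Polynomial IsLocalRing AdicRing

noncomputable section

section Dense

variable (R : Type u) [CommRing R] (t : R) (S : Type u) [CommRing S] [Algebra R S]

theorem map_span_singleton {R T : Type*} [CommRing R] [CommRing T] (g : R →+* T) (t : R) :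
    Ideal.map g (Ideal.span {t}) = Ideal.span {g t} := by
  rw [Ideal.map_span, Set.image_singleton]

/-- every element of the completion is a "polynomial" modulo `t`. -/
theorem compl_dense (c : AdicCompletion ((Ideal.span {t}).map (algebraMap R S)) S) :
    ∃ (x : S) (c' : AdicCompletion ((Ideal.span {t}).map (algebraMap R S)) S),
      c = algebraMap S _ x + t • c' := by
  have hfg : ((Ideal.span {t}).map (algebraMap R S)).FG := Ideal.FG.map ⟨{t}, by simp⟩ _
  obtain ⟨p, hp⟩ := Ideal.Quotient.mk_surjective
    (AdicCompletion.evalOneₐ ((Ideal.span {t}).map (algebraMap R S)) c)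
  have hker : c - algebraMap S _ p ∈
      RingHom.ker (AdicCompletion.evalOneₐ ((Ideal.span {t}).map (algebraMap R S))).toRingHom := by
    rw [RingHom.mem_ker]
    show AdicCompletion.evalOneₐ ((Ideal.span {t}).map (algebraMap R S)) (c - algebraMap S _ p) = 0
    rw [map_sub, AlgHom.commutes, ← hp]
    simp
  rw [AdicCompletion.ker_evalOneₐ_eq_map _ hfg, Ideal.map_map,
    map_span_singleton ((algebraMap S (AdicCompletion ((Ideal.span {t}).map (algebraMap R S)) S)).comp
      (algebraMap R S)) t, Ideal.mem_span_singleton'] at hker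
  obtain ⟨c', hc'⟩ := hker
  refine ⟨p, c', ?_⟩
  have : ((algebraMap S (AdicCompletion ((Ideal.span {t}).map (algebraMap R S)) S)).comp
      (algebraMap R S)) t = algebraMap R _ t := by
    show algebraMap S _ (algebraMap R S t) = _
    rw [← IsScalarTower.algebraMap_apply R S]
  rw [this] at hc'
  rw [Algebra.smul_def, mul_comm, hc']
  ring

end Dense

section Main42

variable (R : Type u) [CommRing R] [IsDomain R] [ValuationRing R] [Ring.KrullDimLE 1 R]
  (t : R) (ht : t ≠ 0) [IsAdicComplete (Ideal.span {t}) R]

/-- A subalgebra of an integral algebra reflects units. -/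
theorem isLocalHom_subalgebra_val {A C : Type*} [CommRing A] [CommRing C] [Algebra A C]
    [Algebra.IsIntegral A C] (C' : Subalgebra A C) : IsLocalHom C'.val.toRingHom := by
  have hint : C'.val.toRingHom.IsIntegral := by
    intro x
    have hx : IsIntegral A x := Algebra.IsIntegral.isIntegral x
    obtain ⟨p, hp, hpx⟩ := hx
    refine ⟨p.map (algebraMap A C'), hp.map _, ?_⟩
    rw [Polynomial.eval₂_map]
    have : C'.val.toRingHom.comp (algebraMap A C') = algebraMap A C := by
      ext a; rfl
    rw [this]; exact hpx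
  exact hint.isLocalHom Subtype.val_injective

include ht in
theorem main_11542
    (A : Type u) [CommRing A] [Algebra R A] (f : A)
    (B : Type u) [CommRing B] [Algebra R B] [IsDomain B] [IsLocalRing B]
    (hB : AdicRing.Admissible R (Ideal.span {t}) B)
    (u : AdicRing.CLoc (Ideal.span {t}) f →ₐ[R] B) (hu : Function.Surjective u) :
    Function.Surjective
      (u.toRingHom.comp (algebraMap A (AdicRing.CLoc (Ideal.span {t}) f))) := by
  haveI hfin : Module.Finite R B := finite_of_topFinitePresentation R t ht B hB.1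
  haveI : Algebra.IsIntegral R B := Algebra.IsIntegral.of_finite R B
  let C := AdicRing.CLoc (R := R) (Ideal.span {t}) f
  let θ : A →ₐ[R] B := u.comp (IsScalarTower.toAlgHom R A C)
  let B' : Subalgebra R B := θ.range
  haveI : IsLocalHom B'.val.toRingHom := isLocalHom_subalgebra_val B'
  -- the image of f is invertible in B'
  have hfunit : IsUnit (θ f) := by
    have h1 : IsUnit (algebraMap A (Localization.Away f) f) :=
      IsLocalization.Away.algebraMap_isUnit f
    have h2 : θ f = u (algebraMap (Localization.Away f) C (algebraMap A (Localization.Away f) f)) := by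
      show u (algebraMap A C f) = _
      rw [IsScalarTower.algebraMap_apply A (Localization.Away f) C]
    rw [h2]
    exact (h1.map (algebraMap (Localization.Away f) C)).map u
  have hfmem : θ f ∈ B' := ⟨f, rfl⟩
  have hfunit' : IsUnit (⟨θ f, hfmem⟩ : B') := by
    apply isUnit_of_map_unit B'.val.toRingHom
    exact hfunit
  obtain ⟨w, hw⟩ := hfunit'.exists_right_inv
  have hw' : θ f * (w : B) = 1 := by
    have := congrArg Subtype.val hw
    simpa using this
  -- density
  have hdense : ∀ b : B, ∃ b₁ ∈ B', ∃ b₂ : B, b = b₁ + t • b₂ := by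
    intro b
    obtain ⟨c, rfl⟩ := hu b
    obtain ⟨x, c', hc⟩ := compl_dense R t (Localization.Away f) c
    obtain ⟨⟨a, s⟩, has⟩ := IsLocalization.surj (Submonoid.powers f) x
    obtain ⟨k, hk⟩ := s.2
    refine ⟨θ a * (w : B) ^ k, B'.mul_mem ⟨a, rfl⟩ (B'.pow_mem w.2 k), u c', ?_⟩
    rw [hc, map_add, map_smul]
    congr 1
    have h3 : u (algebraMap (Localization.Away f) C x) * θ f ^ k = θ a := by
      have h4 : θ f ^ k = u (algebraMap (Localization.Away f) C
          (algebraMap A (Localization.Away f) (s : A))) := by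
        rw [← hk, map_pow, map_pow, map_pow]
        show (u (algebraMap A C f)) ^ k = _
        rw [IsScalarTower.algebraMap_apply A (Localization.Away f) C]
      have h5 : θ a = u (algebraMap (Localization.Away f) C
          (algebraMap A (Localization.Away f) a)) := by
        show u (algebraMap A C a) = _
        rw [IsScalarTower.algebraMap_apply A (Localization.Away f) C]
      rw [h4, h5, ← map_mul, ← map_mul, has]
    rw [← h3, mul_assoc, ← mul_pow, hw', one_pow, mul_one]
  -- Nakayama
  have hle : (⊤ : Submodule R B) ≤ Subalgebra.toSubmodule B' := by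
    apply Submodule.le_of_le_smul_of_le_jacobson_bot (I := Ideal.span {t})
      (Module.finite_def.mp hfin)
    · rw [IsLocalRing.jacobson_eq_maximalIdeal ⊥ bot_ne_top, Ideal.span_singleton_le_iff_mem]
      exact t_mem R t ht
    · intro b _
      obtain ⟨b₁, hb₁, b₂, rfl⟩ := hdense b
      exact Submodule.add_mem_sup hb₁
        (Submodule.smul_mem_smul (Ideal.mem_span_singleton_self t) Submodule.mem_top)
  intro b
  obtain ⟨a, ha⟩ := hle (Submodule.mem_top : b ∈ ⊤)
  exact ⟨a, ha⟩

end Main42

end

end Part8

section Part9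

open Polynomial IsLocalRing AdicRing

noncomputable section

section Haus

variable (R : Type u) [CommRing R] [IsDomain R] [ValuationRing R] [Ring.KrullDimLE 1 R]
  (t : R) (ht : t ≠ 0) [IsAdicComplete (Ideal.span {t}) R]
  (D : Type u) [CommRing D] [IsDomain D] [Algebra R D] [Algebra.IsIntegral R D] [FaithfulSMul R D]

/-- A domain integral over `R` is `t`-adically separated. -/
theorem isHausdorff_of_isIntegral : IsHausdorff (Ideal.span {t}) D := by
  refine ⟨fun x hx => ?_⟩
  by_contra hx0
  have hinj : Function.Injective (algebraMap R D) := FaithfulSMul.algebraMap_injective R D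
  have hxint : IsIntegral R x := Algebra.IsIntegral.isIntegral x
  obtain ⟨c₁, hc₁ne, z₁, hxz₁⟩ := hxint.isAlgebraic.exists_nonzero_dvd
    (mem_nonZeroDivisors_of_ne_zero hx0)
  set c₀ := -c₁ with hc₀
  have hc₀ne : c₀ ≠ 0 := neg_ne_zero.mpr hc₁ne
  let z : D := z₁
  have hxz : x * z = - algebraMap R D c₀ := by
    rw [hc₀, map_neg, neg_neg]; exact hxz₁.symm
  haveI : IsLocalHom (algebraMap R D) :=
    (algebraMap_isIntegral_iff.mpr (inferInstance : Algebra.IsIntegral R D)).isLocalHom hinj
  have hdvd : ∀ n : ℕ, t ^ n ∣ c₀ := by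
    intro n
    have h1 := hx n
    rw [SModEq.zero, Ideal.span_singleton_pow, Submodule.ideal_span_singleton_smul,
      Submodule.mem_smul_pointwise_iff_exists] at h1
    obtain ⟨y, -, hy⟩ := h1
    rcases ValuationRing.dvd_total (t ^ n) c₀ with h | h
    · exact h
    · obtain ⟨e, he⟩ := h
      have h2 : algebraMap R D c₀ * (1 + algebraMap R D e * (y * z)) = 0 := by
        have : algebraMap R D c₀ * (algebraMap R D e * (y * z)) = (t ^ n • y) * z := by
          rw [Algebra.smul_def, he, map_mul]; ring
        rw [mul_add, mul_one, this, hy, hxz]; ring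
      have h3 : algebraMap R D c₀ ≠ 0 := fun h => hc₀ne ((map_eq_zero_iff _ hinj).mp h)
      have h4 : 1 + algebraMap R D e * (y * z) = 0 := (mul_eq_zero.mp h2).resolve_left h3
      have h5 : IsUnit (algebraMap R D e) := by
        refine IsUnit.of_mul_eq_one (-(y * z)) ?_
        have : algebraMap R D e * -(y * z) = 1 - (1 + algebraMap R D e * (y * z)) := by ring
        rw [this, h4, sub_zero]
      have h6 : IsUnit e := isUnit_of_map_unit (algebraMap R D) e h5
      obtain ⟨v, rfl⟩ := h6
      refine ⟨↑v⁻¹, ?_⟩
      rw [he, mul_assoc, Units.mul_inv, mul_one]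
  have hR : IsHausdorff (Ideal.span {t}) R := inferInstance
  apply hc₀ne
  apply hR.haus
  intro n
  rw [SModEq.zero, Ideal.span_singleton_pow, smul_eq_mul, Ideal.mul_top,
    Ideal.mem_span_singleton]
  exact hdvd n

include ht in
/-- A domain integral over `R` which is a quotient of restricted power series is finite. -/
theorem finite_of_isIntegral_of_surjective (n : ℕ) (Θ : An R t n →ₐ[R] D)
    (hΘ : Function.Surjective Θ) : Module.Finite R D := by
  classical
  haveI : IsHausdorff (Ideal.span {t}) D := isHausdorff_of_isIntegral R t D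
  let ψ : Pn R n →ₐ[R] D := Θ.comp (IsScalarTower.toAlgHom R (Pn R n) (An R t n))
  let D₀ : Subalgebra R D := ψ.range
  haveI : Algebra.FiniteType R D₀ :=
    Algebra.FiniteType.of_surjective ψ.rangeRestrict ψ.rangeRestrict_surjective
  haveI : Algebra.IsIntegral R D₀ := by
    refine ⟨fun x => ?_⟩
    rw [← isIntegral_algHom_iff D₀.val Subtype.val_injective]
    exact Algebra.IsIntegral.isIntegral _
  haveI : Module.Finite R D₀ := Algebra.IsIntegral.finite
  obtain ⟨s, v, hv⟩ := Module.Finite.exists_fin (R := R) (M := D₀)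
  let F : (Fin s → R) →ₗ[R] D := Fintype.linearCombination R (fun i => (v i : D))
  haveI : IsPrecomplete (Ideal.span {t}) (Fin s → R) := isPrecomplete_pi _ R
  have hsurj : Function.Surjective F := by
    apply surjective_of_mkQ_comp_surjective (I := Ideal.span {t})
    intro y
    obtain ⟨d, rfl⟩ := Submodule.Quotient.mk_surjective _ y
    obtain ⟨x, rfl⟩ := hΘ d
    obtain ⟨p, x', hx⟩ := rpow_dense R t n x
    have h1 : (⟨ψ p, ⟨p, rfl⟩⟩ : D₀) ∈ Submodule.span R (Set.range v) := by
      rw [hv]; exact Submodule.mem_top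
    obtain ⟨r, hr⟩ := (Submodule.mem_span_range_iff_exists_fun R).mp h1
    refine ⟨r, ?_⟩
    show Submodule.Quotient.mk (F r) = Submodule.Quotient.mk (Θ x)
    rw [eq_comm, Submodule.Quotient.eq]
    have hF : F r = ψ p := by
      have := congrArg (Subtype.val) hr
      rw [Fintype.linearCombination_apply]
      simpa using this
    rw [hF, hx, map_add, map_smul]
    have : Θ (algebraMap (Pn R n) (An R t n) p) + t • Θ x' - ψ p = t • Θ x' := by
      show Θ (algebraMap (Pn R n) (An R t n) p) + t • Θ x' - Θ (algebraMap (Pn R n) (An R t n) p) = _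
      ring
    rw [this]
    exact Submodule.smul_mem_smul (Ideal.mem_span_singleton_self t) Submodule.mem_top
  exact Module.Finite.of_surjective F hsurj

/-- A finite torsion-free module over a valuation ring is free. -/
theorem free_of_finite [Module.Finite R D] : Module.Free R D := by
  have hinj : Function.Injective (algebraMap R D) := FaithfulSMul.algebraMap_injective R D
  haveI : Module.Flat R D := by
    rw [Module.Flat.flat_iff_torsion_eq_bot_of_isBezout, eq_bot_iff]
    intro x hx
    rw [Submodule.mem_torsion_iff] at hx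
    obtain ⟨⟨r, hr⟩, hrx⟩ := hx
    rw [Submodule.mem_bot]
    have h1 : algebraMap R D r * x = 0 := by
      rw [← Algebra.smul_def]; exact hrx
    rcases mul_eq_zero.mp h1 with h | h
    · exfalso
      have := (map_eq_zero_iff _ hinj).mp h
      exact (nonZeroDivisors.ne_zero hr) this
    · exact h
  exact Module.free_of_flat_of_isLocalRing

end Haus

end

end Part9

section Part10

open Polynomial IsLocalRing AdicRing

noncomputable section

section FP

variable (R : Type u) [CommRing R] [Nontrivial R] (t : R) [IsPrecomplete (Ideal.span {t}) R]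
  (D : Type u) [CommRing D] [Algebra R D] [Module.Finite R D] [Module.Free R D]

/-- A surjection from restricted power series onto a finite free algebra has finitely generated
kernel. -/
theorem ker_fg_of_free (n : ℕ) (Θ : An R t n →ₐ[R] D) (hΘ : Function.Surjective Θ) :
    (RingHom.ker Θ.toRingHom).FG := by
  classical
  have hcomp : IsAdicComplete (Ideal.span {t}) (An R t n) := rpow_complete R t n
  haveI : IsPrecomplete (Ideal.span {t}) (An R t n) := hcomp.toIsPrecomplete
  haveI : IsHausdorff (Ideal.span {t}) (An R t n) := hcomp.toIsHausdorff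
  let e := Module.finBasis R D
  set s := Module.finrank R D with hs
  let of' : Pn R n →+* An R t n := algebraMap (Pn R n) (An R t n)
  have ha : ∀ k : Fin s, ∃ a : An R t n, Θ a = e k := fun k => hΘ _
  choose a ha using ha
  let G1 : Fin s × Fin s → An R t n := fun ij =>
    a ij.1 * a ij.2 - ∑ k, (e.repr (e ij.1 * e ij.2) k) • a k
  let G2 : An R t n := 1 - ∑ k, (e.repr 1 k) • a k
  let G3 : Fin n → An R t n := fun l =>
    of' (MvPolynomial.X l) - ∑ k, (e.repr (Θ (of' (MvPolynomial.X l))) k) • a k
  let gens : Set (An R t n) := (Set.range G1 ∪ {G2}) ∪ Set.range G3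
  have hgensfin : gens.Finite :=
    ((Set.finite_range G1).union (Set.finite_singleton G2)).union (Set.finite_range G3)
  let 𝔟 : Ideal (An R t n) := Ideal.span gens
  have h𝔟fg : 𝔟.FG := Submodule.fg_span hgensfin
  have hΘsum : ∀ r : Fin s → R, Θ (∑ k, r k • a k) = ∑ k, r k • e k := by
    intro r
    rw [map_sum]
    apply Finset.sum_congr rfl
    intro k _
    rw [map_smul, ha]
  have hG1 : ∀ ij, G1 ij ∈ 𝔟 := fun ij => Ideal.subset_span (Or.inl (Or.inl ⟨ij, rfl⟩))
  have hG2 : G2 ∈ 𝔟 := Ideal.subset_span (Or.inl (Or.inr rfl))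
  have hG3 : ∀ l, G3 l ∈ 𝔟 := fun l => Ideal.subset_span (Or.inr ⟨l, rfl⟩)
  have h𝔟le : 𝔟 ≤ RingHom.ker Θ.toRingHom := by
    rw [Ideal.span_le]
    rintro g ((⟨ij, rfl⟩ | rfl) | ⟨l, rfl⟩)
    · show Θ (G1 ij) = 0
      show Θ (a ij.1 * a ij.2 - ∑ k, (e.repr (e ij.1 * e ij.2) k) • a k) = 0
      rw [map_sub, map_mul, ha, ha, hΘsum, e.sum_repr, sub_self]
    · show Θ (1 - ∑ k, (e.repr 1 k) • a k) = 0
      rw [map_sub, map_one, hΘsum, e.sum_repr, sub_self]
    · show Θ (of' (MvPolynomial.X l) - ∑ k, (e.repr (Θ (of' (MvPolynomial.X l))) k) • a k) = 0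
      rw [map_sub, hΘsum, e.sum_repr, sub_self]
  let N : Submodule R (An R t n) := Submodule.span R (Set.range a) ⊔ 𝔟.restrictScalars R
  have h𝔟N : ∀ α ∈ 𝔟, α ∈ N := fun α hα =>
    (le_sup_right : 𝔟.restrictScalars R ≤ N) hα
  have haN : ∀ k, a k ∈ N := fun k =>
    (le_sup_left : Submodule.span R (Set.range a) ≤ N) (Submodule.subset_span ⟨k, rfl⟩)
  have hsumN : ∀ r : Fin s → R, ∑ k, r k • a k ∈ N := fun r =>
    Submodule.sum_mem _ (fun k _ => Submodule.smul_mem _ _ (haN k))
  -- (N1)
  have hN1 : (1 : An R t n) ∈ N := by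
    have : (1 : An R t n) = ∑ k, (e.repr 1 k) • a k + G2 := by
      show _ = _ + (1 - ∑ k, (e.repr 1 k) • a k); ring
    rw [this]
    exact Submodule.add_mem _ (hsumN _) (h𝔟N _ hG2)
  -- (N2)
  have hN2 : ∀ k, ∀ y ∈ N, a k * y ∈ N := by
    intro k
    have : N ≤ N.comap (LinearMap.mulLeft R (a k)) := by
      refine sup_le ?_ ?_
      · rw [Submodule.span_le]
        rintro _ ⟨j, rfl⟩
        show a k * a j ∈ N
        have : a k * a j = ∑ m, (e.repr (e k * e j) m) • a m + G1 (k, j) := by
          show _ = _ + (a k * a j - ∑ m, (e.repr (e k * e j) m) • a m); ring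
        rw [this]
        exact Submodule.add_mem _ (hsumN _) (h𝔟N _ (hG1 _))
      · intro α hα
        show a k * α ∈ N
        exact h𝔟N _ (Ideal.mul_mem_left _ _ hα)
    exact fun y hy => this hy
  -- (N3)
  have hN3 : ∀ l, ∀ y ∈ N, of' (MvPolynomial.X l) * y ∈ N := by
    intro l y hy
    have : of' (MvPolynomial.X l) * y
        = ∑ k, (e.repr (Θ (of' (MvPolynomial.X l))) k) • (a k * y) + G3 l * y := by
      show _ = _ + (of' (MvPolynomial.X l)
        - ∑ k, (e.repr (Θ (of' (MvPolynomial.X l))) k) • a k) * y
      rw [sub_mul, Finset.sum_mul]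
      simp only [smul_mul_assoc]
      ring
    rw [this]
    refine Submodule.add_mem _ (Submodule.sum_mem _ (fun k _ => Submodule.smul_mem _ _ (hN2 k y hy)))
      (h𝔟N _ (Ideal.mul_mem_right _ _ (hG3 l)))
  -- (N4)
  have hN4 : ∀ p : Pn R n, of' p ∈ N := by
    intro p
    induction p using MvPolynomial.induction_on with
    | C r =>
      have : of' (MvPolynomial.C r) = r • (1 : An R t n) := by
        rw [Algebra.smul_def, mul_one, IsScalarTower.algebraMap_apply R (Pn R n) (An R t n),
          MvPolynomial.algebraMap_eq]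
      rw [this]
      exact Submodule.smul_mem _ _ hN1
    | add p q hp hq =>
      rw [map_add]; exact Submodule.add_mem _ hp hq
    | mul_X p l hp =>
      rw [map_mul, mul_comm]; exact hN3 l _ hp
  have H : ∀ x : An R t n, ∃ (r : Fin s → R) (x' : An R t n) (α : An R t n),
      α ∈ 𝔟 ∧ x = ∑ i, r i • a i + t • x' + α := by
    intro x
    obtain ⟨p, x', hx⟩ := rpow_dense R t n x
    obtain ⟨m, hm, α, hα, hmα⟩ := Submodule.mem_sup.mp (hN4 p)
    obtain ⟨r, hr⟩ := (Submodule.mem_span_range_iff_exists_fun R).mp hm
    refine ⟨r, x', α, hα, ?_⟩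
    rw [hx, hr]
    show of' p + t • x' = _
    rw [← hmα]; ring
  have hle : RingHom.ker Θ.toRingHom ≤ 𝔟 := by
    intro x hx
    obtain ⟨r, α, hα, hxr⟩ := lift_span t 𝔟 h𝔟fg a H x
    have h1 : Θ x = 0 := hx
    have h2 : Θ α = 0 := h𝔟le hα
    rw [hxr, map_add, hΘsum, h2, add_zero] at h1
    have h3 := Fintype.linearIndependent_iff.mp e.linearIndependent r h1
    have h4 : ∑ i, r i • a i = 0 := by
      apply Finset.sum_eq_zero
      intro i _
      rw [h3 i, zero_smul]
    rw [hxr, h4, zero_add]
    exact hα
  rw [le_antisymm hle h𝔟le]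
  exact h𝔟fg

end FP

end

end Part10

section Part11

open Polynomial IsLocalRing AdicRing

noncomputable section

section Main47

variable (R : Type u) [CommRing R] [IsDomain R] [ValuationRing R] [Ring.KrullDimLE 1 R]
  (t : R) (ht : t ≠ 0) [IsAdicComplete (Ideal.span {t}) R]

include ht in
theorem main_11547
    (A : Type u) [CommRing A] [Algebra R A] (hA : AdicRing.TopFiniteType R (Ideal.span {t}) A)
    (B' : Type u) [CommRing B'] [Algebra R B'] [IsDomain B'] [IsLocalRing B']
    (hB' : AdicRing.Admissible R (Ideal.span {t}) B') (hdim : ringKrullDim B' = 1)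
    (θ : A →ₐ[R] B') :
    AdicRing.Admissible R (Ideal.span {t}) θ.range ∧ IsLocalRing θ.range ∧
      ringKrullDim θ.range = 1 := by
  haveI hfin : Module.Finite R B' := finite_of_topFinitePresentation R t ht B' hB'.1
  haveI : Algebra.IsIntegral R B' := Algebra.IsIntegral.of_finite R B'
  have hinj := algebraMap_injective_of_noPowTorsion R t ht B' hB'.2
  let D : Subalgebra R B' := θ.range
  haveI : Algebra.IsIntegral R D := by
    refine ⟨fun x => ?_⟩
    rw [← isIntegral_algHom_iff D.val Subtype.val_injective]
    exact Algebra.IsIntegral.isIntegral _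
  haveI : FaithfulSMul R D := by
    rw [faithfulSMul_iff_algebraMap_injective]
    intro r r' h
    apply hinj
    exact congrArg Subtype.val h
  obtain ⟨n, φA, hφA⟩ := hA
  let Θ : An R t n →ₐ[R] D := θ.rangeRestrict.comp φA
  have hΘ : Function.Surjective Θ := θ.rangeRestrict_surjective.comp hφA
  haveI : Module.Finite R D := finite_of_isIntegral_of_surjective R t ht D n Θ hΘ
  haveI : Module.Free R D := free_of_finite R D
  have hker := ker_fg_of_free R t D n Θ hΘ
  refine ⟨⟨⟨n, Θ, hΘ, hker⟩, ?_⟩, ?_, ?_⟩
  · intro x k hx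
    apply Subtype.ext
    apply hB'.2 (x : B') k
    intro a ha
    have := congrArg Subtype.val (hx a ha)
    simpa using this
  · haveI : IsLocalHom D.val.toRingHom := isLocalHom_subalgebra_val D
    exact RingHom.domain_isLocalRing D.val.toRingHom
  · haveI : Algebra.IsIntegral D B' := Algebra.IsIntegral.tower_top (R := R)
    have := Groth.Agent.Lib.Helper5.ringKrullDim_eq_of_isIntegral_of_injective D B'
      Subtype.val_injective
    rw [← this, hdim]

end Main47

end

end Part11

section Part12

open Polynomial IsLocalRing AdicRing IntermediateField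

noncomputable section

section Main44

/-- an integral element whose norm is a unit has integral inverse. -/
theorem isIntegral_inv_of_norm_isUnit (R : Type u) [CommRing R] [IsDomain R] [IsIntegrallyClosed R]
    (K : Type u) [Field K] [Algebra R K] [IsFractionRing R K]
    (E : Type u) [Field E] [Algebra K E] [Algebra R E] [IsScalarTower R K E] [FiniteDimensional K E]
    (u : E) (hu : IsIntegral R u) (r' : R) (hr' : IsUnit r') (hN : Algebra.norm K u = algebraMap R K r') :
    IsIntegral R u⁻¹ := by
  have hinjRK : Function.Injective (algebraMap R K) := IsFractionRing.injective R K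
  have huK : IsIntegral K u := hu.tower_top
  set h := minpoly R u with hh
  have hmap : minpoly K u = h.map (algebraMap R K) :=
    minpoly.isIntegrallyClosed_eq_field_fractions' K hu
  set c₀ := h.coeff 0 with hc₀
  set d := (adjoin.powerBasis huK).dim with hd
  set m := Module.finrank (↥K⟮u⟯) E with hm
  have hnorm : Algebra.norm K u = algebraMap R K (((-1) ^ d * c₀) ^ m) := by
    rw [Algebra.norm_eq_norm_adjoin K u]
    have h1 := Algebra.PowerBasis.norm_gen_eq_coeff_zero_minpoly (adjoin.powerBasis huK)
    rw [adjoin.powerBasis_gen, IntermediateField.minpoly_gen, hmap, coeff_map] at h1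
    rw [h1, map_pow, map_mul, map_pow, map_neg, map_one]
  have hmpos : 0 < m := Module.finrank_pos
  have hc₀unit : IsUnit c₀ := by
    have h2 : ((-1) ^ d * c₀) ^ m = r' := by
      apply hinjRK
      rw [← hnorm, hN]
    have h3 : IsUnit (((-1) ^ d * c₀) ^ m) := h2 ▸ hr'
    have h4 : IsUnit ((-1) ^ d * c₀) := (isUnit_pow_iff hmpos.ne').mp h3
    exact isUnit_of_mul_isUnit_right h4
  obtain ⟨v, hv⟩ := hc₀unit
  have hrel : u * aeval u (divX h) = - algebraMap R E c₀ := by
    have h1 : aeval u (X * divX h + Polynomial.C (h.coeff 0)) = 0 := by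
      rw [X_mul_divX_add, hh, minpoly.aeval]
    rw [map_add, map_mul, aeval_X, aeval_C] at h1
    exact eq_neg_of_add_eq_zero_left h1
  have hint : IsIntegral R (aeval u (divX h)) := by
    have : aeval u (divX h) = ((aeval (⟨u, hu⟩ : integralClosure R E) (divX h) :
        integralClosure R E) : E) := by
      rw [Polynomial.aeval_subalgebra_coe]
    rw [this]
    exact (aeval (⟨u, hu⟩ : integralClosure R E) (divX h)).2
  have hu0 : u ≠ 0 := by
    intro h0
    rw [h0, zero_mul] at hrel
    have : algebraMap R E c₀ = 0 := by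
      rw [eq_comm, neg_eq_zero] at hrel; exact hrel
    rw [IsScalarTower.algebraMap_apply R K E, map_eq_zero_iff _ (algebraMap K E).injective,
      map_eq_zero_iff _ hinjRK] at this
    rw [← hv] at this
    exact v.ne_zero this
  have : u⁻¹ = algebraMap R E (-(↑v⁻¹ : R)) * aeval u (divX h) := by
    rw [eq_comm, ← mul_right_inj' hu0, mul_inv_cancel₀ hu0, mul_left_comm, hrel, ← hv, map_neg,
      neg_mul_neg, ← map_mul, Units.inv_mul, map_one]
  rw [this]
  exact isIntegral_algebraMap.mul hint

variable (R : Type u) [CommRing R] [IsDomain R] [ValuationRing R] [Ring.KrullDimLE 1 R]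
  (t : R) (ht : t ≠ 0) [IsAdicComplete (Ideal.span {t}) R]

include ht in
theorem main_11544
    (L : Type u) [Field L] [Algebra R L] [Algebra (FractionRing R) L]
    [IsScalarTower R (FractionRing R) L] [Algebra.IsAlgebraic (FractionRing R) L] (α : L) :
    IsIntegral R α ↔
      Algebra.norm (FractionRing R) (IntermediateField.AdjoinSimple.gen (FractionRing R) α) ∈
        (algebraMap R (FractionRing R)).range := by
  haveI : HenselianLocalRing R := henselianLocalRing R t ht
  let K := FractionRing R
  have hαK : IsIntegral K α := (Algebra.IsAlgebraic.isAlgebraic α).isIntegral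
  let E := K⟮α⟯
  haveI : FiniteDimensional K E := adjoin.finiteDimensional hαK
  let g : E := AdjoinSimple.gen K α
  have hinjRK : Function.Injective (algebraMap R K) := IsFractionRing.injective R K
  have hgα : algebraMap E L g = α := AdjoinSimple.algebraMap_gen K α
  haveI : IsScalarTower R E L := IsScalarTower.of_algebraMap_eq (fun _ => rfl)
  have hiff : ∀ x : E, IsIntegral R x ↔ IsIntegral R (algebraMap E L x) := by
    intro x
    exact (isIntegral_algHom_iff ((IsScalarTower.toAlgHom R E L))
      (algebraMap E L).injective).symm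
  rw [RingHom.mem_range]
  constructor
  · intro hα
    have hg : IsIntegral R g := by rw [hiff, hgα]; exact hα
    have := Algebra.isIntegral_norm K hg
    exact IsIntegrallyClosed.isIntegral_iff.mp this
  · rintro ⟨r, hr⟩
    by_cases hα0 : α = 0
    · rw [hα0]; exact isIntegral_zero
    have hg0 : g ≠ 0 := by
      intro h
      rw [h, map_zero] at hgα
      exact hα0 hgα.symm
    haveI : FaithfulSMul R E := by
      rw [faithfulSMul_iff_algebraMap_injective, IsScalarTower.algebraMap_eq R K E]
      exact (algebraMap K E).injective.comp hinjRK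
    have hgalg : IsAlgebraic R g :=
      (IsFractionRing.isAlgebraic_iff R K E).mpr
        (Algebra.IsAlgebraic.isAlgebraic (R := K) g)
    rw [← hgα, ← hiff]
    rcases isIntegral_or_inv R E g hgalg with h | h
    · exact h
    · -- the inverse is integral with unit norm
      have hNu := Algebra.isIntegral_norm K h
      obtain ⟨r', hr'⟩ := IsIntegrallyClosed.isIntegral_iff.mp hNu
      have hprod : r * r' = 1 := by
        apply hinjRK
        rw [map_mul, hr, hr', ← map_mul, mul_inv_cancel₀ hg0, map_one, map_one]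
      have hunit : IsUnit r' := IsUnit.of_mul_eq_one r (by rw [mul_comm]; exact hprod)
      have := isIntegral_inv_of_norm_isUnit R K E g⁻¹ h r' hunit hr'.symm
      rwa [inv_inv] at this

end Main44

end

end Part12

end Groth.Agent.Lib.R2H1.AdicVal
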