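/-
Points of the formal affine space over a complete valuation ring of height one (helper1, round 2).

* `exists_monic_aeval_mem` : in a local quotient of restricted power series every element is
  integral over `R` modulo `t`.
* `exists_free_cover` : finitely many integral elements of a field lift to a finite free algebra.
* `isAdicComplete_of_free`, `exists_algHom_of_free` : universal property of restricted power series
  with respect to finite free algebras.
* `main_11548`.
-/
import Mathlib
import Groth.Prelude.Def_W4bk4boschfrg79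
import Groth.Agent.Lib.R2H1AdicVal
import Groth.Agent.Lib.Helper5IntDim

set_option autoImplicit false
set_option linter.style.haveILetI false
set_option linter.unusedSectionVars false
universe u

namespace Groth.Agent.Lib.R2H1.AdicPt

section Part1

open Polynomial IsLocalRing AdicRing Groth.Agent.Lib.R2H1.AdicVal

noncomputable section

section Finite

variable (R : Type u) [CommRing R] [IsDomain R] [ValuationRing R] [Ring.KrullDimLE 1 R]
  (t : R) (ht : t ≠ 0) [IsAdicComplete (Ideal.span {t}) R]
  (B : Type u) [CommRing B] [Algebra R B] [IsLocalRing B]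

include ht in
theorem exists_monic_aeval_mem (n : ℕ) (φ : An R t n →ₐ[R] B) (hφ : Function.Surjective φ)
    (b₀ : B) : ∃ g : R[X], g.Monic ∧ aeval b₀ g ∈ (Ideal.span {t}).map (algebraMap R B) := by
  classical
  have hcomp : IsAdicComplete (Ideal.span {t}) (An R t n) := rpow_complete R t n
  haveI : IsPrecomplete (Ideal.span {t}) (An R t n) := hcomp.toIsPrecomplete
  haveI : IsHausdorff (Ideal.span {t}) (An R t n) := hcomp.toIsHausdorff
  let ψ : Pn R n →ₐ[R] B := φ.comp (IsScalarTower.toAlgHom R (Pn R n) (An R t n))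
  have hdense : ∀ b : B, ∃ (p : Pn R n) (b' : B), b = ψ p + t • b' := by
    intro b
    obtain ⟨a, rfl⟩ := hφ b
    obtain ⟨p, a', ha⟩ := rpow_dense R t n a
    refine ⟨p, φ a', ?_⟩
    rw [ha, map_add, map_smul]
    rfl
  -- (B2)
  have hunit : ∀ b : B, IsUnit (1 + t • b) := by
    intro b
    obtain ⟨a, rfl⟩ := hφ b
    have := (isUnit_one_add R t n a).map φ
    rwa [map_add, map_one, map_smul] at this
  have htB : algebraMap R B t ∈ maximalIdeal B := by
    rw [mem_maximalIdeal, mem_nonunits_iff]
    intro hu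
    obtain ⟨u, hu'⟩ := hu
    have h1 := hunit (-(↑u⁻¹ : B))
    rw [Algebra.smul_def, ← hu'] at h1
    have : (1 : B) + ↑u * -(↑u⁻¹ : B) = 0 := by
      rw [mul_neg, Units.mul_inv]; ring
    rw [this] at h1
    exact not_isUnit_zero h1
  -- (B3)
  have hcomap : (maximalIdeal B).comap (algebraMap R B) = maximalIdeal R := by
    have hprime : ((maximalIdeal B).comap (algebraMap R B)).IsPrime := Ideal.IsPrime.comap _
    have hne : (maximalIdeal B).comap (algebraMap R B) ≠ ⊥ := by
      intro h
      have : t ∈ (maximalIdeal B).comap (algebraMap R B) := htB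
      rw [h, Ideal.mem_bot] at this
      exact ht this
    exact eq_maximalIdeal (hprime.isMaximal_of_ne_bot hne)
  have hmB : (maximalIdeal R).map (algebraMap R B) ≤ maximalIdeal B := by
    rw [Ideal.map_le_iff_le_comap, hcomap]
  have htm : t ∈ maximalIdeal R := t_mem R t ht
  -- (B4)
  let mB : Ideal B := (maximalIdeal R).map (algebraMap R B)
  let S := B ⧸ mB
  have hmBne : mB ≠ ⊤ := fun h => (IsLocalRing.maximalIdeal.isMaximal B).ne_top
    (top_le_iff.mp (h ▸ hmB))
  haveI : Nontrivial S := Ideal.Quotient.nontrivial_iff.mpr hmBne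
  haveI : IsLocalRing S := IsLocalRing.of_surjective' (Ideal.Quotient.mk mB)
    Ideal.Quotient.mk_surjective
  haveI : Algebra.FiniteType R S := by
    refine Algebra.FiniteType.of_surjective ((Ideal.Quotient.mkₐ R mB).comp ψ) ?_
    intro s
    obtain ⟨b, rfl⟩ := Ideal.Quotient.mk_surjective s
    obtain ⟨p, b', hb⟩ := hdense b
    refine ⟨p, ?_⟩
    show Ideal.Quotient.mk mB (ψ p) = Ideal.Quotient.mk mB b
    rw [Ideal.Quotient.eq, hb]
    have : ψ p - (ψ p + t • b') = - (algebraMap R B t * b') := by
      rw [Algebra.smul_def]; ring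
    rw [this]
    exact neg_mem (Ideal.mul_mem_right _ _ (Ideal.mem_map_of_mem _ htm))
  let k := R ⧸ maximalIdeal R
  letI : Field k := Ideal.Quotient.field (maximalIdeal R)
  haveI : Algebra.FiniteType k S := Algebra.FiniteType.of_restrictScalars_finiteType R k S
  haveI : IsJacobsonRing S := isJacobsonRing_of_finiteType (A := k) (B := S)
  haveI : Ring.KrullDimLE 0 S := by
    rw [Ring.krullDimLE_zero_iff]
    intro Q hQ
    have h1 : Q.jacobson = Q := IsJacobsonRing.out ‹IsJacobsonRing S› hQ.isRadical
    have h2 : Q.jacobson = maximalIdeal S := IsLocalRing.jacobson_eq_maximalIdeal Q hQ.ne_top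
    rw [← h1, h2]
    exact IsLocalRing.maximalIdeal.isMaximal S
  haveI : Module.Finite k S := (Module.finite_iff_krullDimLE_zero k S).mpr inferInstance
  haveI : Module.Finite R k :=
    Module.Finite.of_surjective (Ideal.Quotient.mkₐ R (maximalIdeal R)).toLinearMap
      Ideal.Quotient.mk_surjective
  haveI : Module.Finite R S := Module.Finite.trans k S
  -- (B5)
  let tB : Ideal B := (Ideal.span {t}).map (algebraMap R B)
  let Bb := B ⧸ tB
  have htBle : tB ≤ mB := Ideal.map_mono (by
    rw [Ideal.span_singleton_le_iff_mem]; exact htm)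
  haveI : Algebra.FiniteType R Bb := by
    refine Algebra.FiniteType.of_surjective ((Ideal.Quotient.mkₐ R tB).comp ψ) ?_
    intro s
    obtain ⟨b, rfl⟩ := Ideal.Quotient.mk_surjective s
    obtain ⟨p, b', hb⟩ := hdense b
    refine ⟨p, ?_⟩
    show Ideal.Quotient.mk tB (ψ p) = Ideal.Quotient.mk tB b
    rw [Ideal.Quotient.eq, hb]
    have : ψ p - (ψ p + t • b') = - (algebraMap R B t * b') := by
      rw [Algebra.smul_def]; ring
    rw [this]
    exact neg_mem (Ideal.mul_mem_right _ _
      (Ideal.mem_map_of_mem _ (Ideal.mem_span_singleton_self t)))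
  have hnil : ∀ b ∈ mB, IsNilpotent (Ideal.Quotient.mk tB b) := by
    have : mB ≤ (nilradical Bb).comap (Ideal.Quotient.mk tB) := by
      rw [Ideal.map_le_iff_le_comap]
      intro μ hμ
      rw [Ideal.mem_comap, Ideal.mem_comap, mem_nilradical]
      obtain ⟨N, hN⟩ := exists_pow_mem R t ht μ hμ
      refine ⟨N, ?_⟩
      rw [← map_pow, ← map_pow, Ideal.Quotient.eq_zero_iff_mem]
      exact Ideal.mem_map_of_mem _ hN
    intro b hb
    exact mem_nilradical.mp (this hb)
  haveI : Algebra.IsIntegral R Bb := by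
    refine ⟨fun z => ?_⟩
    obtain ⟨b, rfl⟩ := Ideal.Quotient.mk_surjective z
    obtain ⟨g, hg, hgz⟩ := Algebra.IsIntegral.isIntegral (R := R) (Ideal.Quotient.mk mB b)
    rw [← aeval_def] at hgz
    have h1 : aeval b g ∈ mB := by
      rw [← Ideal.Quotient.eq_zero_iff_mem]
      have := aeval_algHom_apply (Ideal.Quotient.mkₐ R mB) b g
      rw [Ideal.Quotient.mkₐ_eq_mk] at this
      rw [this] at hgz
      exact hgz
    obtain ⟨N, hN⟩ := hnil _ h1
    refine ⟨g ^ N, hg.pow N, ?_⟩
    rw [← aeval_def, map_pow]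
    have := aeval_algHom_apply (Ideal.Quotient.mkₐ R tB) b g
    rw [Ideal.Quotient.mkₐ_eq_mk] at this
    rw [this, hN]
  haveI : Module.Finite R Bb := Algebra.IsIntegral.finite
  obtain ⟨g, hg, hgz⟩ := Algebra.IsIntegral.isIntegral (R := R) (Ideal.Quotient.mk tB b₀)
  refine ⟨g, hg, ?_⟩
  rw [← aeval_def] at hgz
  have := aeval_algHom_apply (Ideal.Quotient.mkₐ R tB) b₀ g
  rw [Ideal.Quotient.mkₐ_eq_mk] at this
  rw [this] at hgz
  exact Ideal.Quotient.eq_zero_iff_mem.mp hgz

end Finite

end

end Part1

section Part2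

open Polynomial IsLocalRing AdicRing Groth.Agent.Lib.R2H1.AdicVal

noncomputable section

section Tower

variable (R : Type u) [CommRing R]

/-- Finitely many integral elements of an `R`-field are hit from a finite free `R`-algebra. -/
theorem exists_free_cover : ∀ (n : ℕ) (k' : Type u) [Field k'] [Algebra R k'] (z : Fin n → k'),
    (∀ i, IsIntegral R (z i)) →
    ∃ (C : Type u) (_ : CommRing C) (_ : Algebra R C) (_ : Module.Finite R C)
      (_ : Module.Free R C) (x : Fin n → C) (π : C →ₐ[R] k'), ∀ i, π (x i) = z i := by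
  intro n
  induction n with
  | zero =>
    intro k' _ _ z _
    exact ⟨R, inferInstance, inferInstance, inferInstance, inferInstance, fun i => i.elim0,
      Algebra.ofId R k', fun i => i.elim0⟩
  | succ n ih =>
    intro k' _ _ z hz
    obtain ⟨C₀, _, _, _, _, x₀, π₀, hπ₀⟩ := ih k' (fun i => z (Fin.castSucc i))
      (fun i => hz _)
    obtain ⟨g, hg, hgz⟩ := hz (Fin.last n)
    let g' : C₀[X] := g.map (algebraMap R C₀)
    have hg' : g'.Monic := hg.map _
    haveI : Module.Finite C₀ (AdjoinRoot g') := hg'.finite_adjoinRoot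
    haveI : Module.Free C₀ (AdjoinRoot g') := hg'.free_adjoinRoot
    haveI : Module.Finite R (AdjoinRoot g') := Module.Finite.trans C₀ _
    haveI : Module.Free R (AdjoinRoot g') := Module.Free.trans (S := C₀)
    have hroot : g'.eval₂ (π₀ : C₀ →+* k') (z (Fin.last n)) = 0 := by
      rw [Polynomial.eval₂_map]
      have : (π₀ : C₀ →+* k').comp (algebraMap R C₀) = algebraMap R k' := by
        ext r; simp
      rw [this]; exact hgz
    let π : AdjoinRoot g' →ₐ[R] k' := AdjoinRoot.liftAlgHom g' π₀ (z (Fin.last n)) hroot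
    refine ⟨AdjoinRoot g', inferInstance, inferInstance, inferInstance, inferInstance,
      Fin.snoc (fun i => AdjoinRoot.of g' (x₀ i)) (AdjoinRoot.root g'), π, ?_⟩
    intro i
    refine Fin.lastCases ?_ (fun j => ?_) i
    · rw [Fin.snoc_last]
      exact AdjoinRoot.liftAlgHom_root g' π₀ _ hroot
    · rw [Fin.snoc_castSucc]
      show π (AdjoinRoot.of g' (x₀ j)) = _
      rw [AdjoinRoot.liftAlgHom_of, hπ₀]

end Tower

end

end Part2

section Part3

open Polynomial IsLocalRing AdicRing Groth.Agent.Lib.R2H1.AdicVal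

noncomputable section

section Complete

variable {R : Type*} [CommRing R] (I : Ideal R)

theorem isHausdorff_pi {ι : Type*} (M : Type*) [AddCommGroup M] [Module R M] [IsHausdorff I M] :
    IsHausdorff I (ι → M) := by
  refine ⟨fun x hx => ?_⟩
  funext i
  apply IsHausdorff.haus ‹IsHausdorff I M›
  intro n
  have := hx n
  rw [SModEq.zero] at this ⊢
  exact map_mem_smul_top (LinearMap.proj (R := R) (φ := fun _ : ι => M) i) _ this

theorem isHausdorff_of_linearEquiv {M N : Type*} [AddCommGroup M] [Module R M] [AddCommGroup N]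
    [Module R N] (e : M ≃ₗ[R] N) [IsHausdorff I M] : IsHausdorff I N := by
  refine ⟨fun x hx => ?_⟩
  have h1 : e.symm x = 0 := by
    apply IsHausdorff.haus ‹IsHausdorff I M›
    intro n
    have := hx n
    rw [SModEq.zero] at this ⊢
    exact map_mem_smul_top e.symm.toLinearMap _ this
  simpa using congrArg e h1

theorem isPrecomplete_of_linearEquiv {M N : Type*} [AddCommGroup M] [Module R M] [AddCommGroup N]
    [Module R N] (e : M ≃ₗ[R] N) [IsPrecomplete I M] : IsPrecomplete I N := by
  refine ⟨fun {f} hf => ?_⟩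
  have h1 : ∀ {m n}, m ≤ n → e.symm (f m) ≡ e.symm (f n) [SMOD (I ^ m • ⊤ : Submodule R M)] := by
    intro m n hmn
    have := hf hmn
    rw [SModEq.sub_mem] at this ⊢
    rw [← map_sub]
    exact map_mem_smul_top e.symm.toLinearMap _ this
  obtain ⟨L, hL⟩ := IsPrecomplete.prec ‹IsPrecomplete I M› h1
  refine ⟨e L, fun n => ?_⟩
  have := hL n
  rw [SModEq.sub_mem] at this ⊢
  have h2 : f n - e L = e (e.symm (f n) - L) := by simp
  rw [h2]
  exact map_mem_smul_top e.toLinearMap _ this

/-- finite free modules over a complete ring are complete. -/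
theorem isAdicComplete_of_free [IsAdicComplete I R] (C : Type*) [AddCommGroup C] [Module R C]
    [Module.Finite R C] [Module.Free R C] : IsAdicComplete I C := by
  classical
  let b := Module.Free.chooseBasis R C
  haveI : Fintype (Module.Free.ChooseBasisIndex R C) := Module.Free.ChooseBasisIndex.fintype R C
  let e : (Module.Free.ChooseBasisIndex R C → R) ≃ₗ[R] C := b.equivFun.symm
  haveI : IsHausdorff I (Module.Free.ChooseBasisIndex R C → R) := isHausdorff_pi I R
  haveI : IsPrecomplete I (Module.Free.ChooseBasisIndex R C → R) := isPrecomplete_pi I R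
  haveI := isHausdorff_of_linearEquiv I e
  haveI := isPrecomplete_of_linearEquiv I e
  exact {}

end Complete

section UP

variable (R : Type u) [CommRing R] (t : R) [IsAdicComplete (Ideal.span {t}) R]
  (C : Type u) [CommRing C] [Algebra R C] [Module.Finite R C] [Module.Free R C]

/-- Universal property: restricted power series map to finite free algebras. -/
theorem exists_algHom_of_free (n : ℕ) (x : Fin n → C) :
    ∃ Φ : An R t n →ₐ[R] C, ∀ i, Φ (algebraMap (Pn R n) (An R t n) (MvPolynomial.X i)) = x i := by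
  classical
  let I' : Ideal C := (Ideal.span {t}).map (algebraMap R C)
  have hC : IsAdicComplete (Ideal.span {t}) C := isAdicComplete_of_free _ C
  haveI : IsAdicComplete I' C := (IsAdicComplete.map_algebraMap_iff (S := C) _ _).mpr hC
  let ev : Pn R n →ₐ[R] C := MvPolynomial.aeval x
  have hJ : Jn R t n ≤ I'.comap ev := by
    show Ideal.map MvPolynomial.C (Ideal.span {t}) ≤ I'.comap ev
    rw [Ideal.map_le_iff_le_comap, Ideal.span_singleton_le_iff_mem, Ideal.mem_comap,
      Ideal.mem_comap]
    have : ev (MvPolynomial.C t) = algebraMap R C t := by simp [ev]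
    rw [this]
    exact Ideal.mem_map_of_mem _ (Ideal.mem_span_singleton_self t)
  have hJk : ∀ k : ℕ, (Jn R t n) ^ k ≤ (I' ^ k).comap ev := fun k =>
    (Ideal.pow_right_mono hJ k).trans (Ideal.le_comap_pow _ _)
  let f : (k : ℕ) → An R t n →ₐ[R] C ⧸ I' ^ k := fun k =>
    (Ideal.quotientMapₐ (I' ^ k) ev (hJk k)).comp
      ((AdicCompletion.evalₐ (Jn R t n) k).restrictScalars R)
  have hf : ∀ {m k : ℕ} (hle : m ≤ k),
      (Ideal.Quotient.factorₐ R (Ideal.pow_le_pow_right hle)).comp (f k) = f m := by
    intro m k hle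
    apply AlgHom.ext
    intro y
    induction y using AdicCompletion.induction_on with
    | h a =>
      show Ideal.Quotient.factor (Ideal.pow_le_pow_right hle) (Ideal.quotientMap (I' ^ k) (ev : Pn R n →+* C) (hJk k)
        (AdicCompletion.evalₐ (Jn R t n) k (AdicCompletion.mk _ _ a))) =
        Ideal.quotientMap (I' ^ m) (ev : Pn R n →+* C) (hJk m)
        (AdicCompletion.evalₐ (Jn R t n) m (AdicCompletion.mk _ _ a))
      rw [AdicCompletion.evalₐ_mk, AdicCompletion.evalₐ_mk, Ideal.quotientMap_mk,
        Ideal.quotientMap_mk, Ideal.Quotient.factor_mk, Ideal.Quotient.eq, ← map_sub]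
      apply hJk m
      rw [← Ideal.Quotient.eq]
      exact AdicCompletion.Ideal.mk_eq_mk _ hle a
  let Φ := IsAdicComplete.liftAlgHom I' f hf
  refine ⟨Φ, fun i => ?_⟩
  -- use separatedness
  have hH : IsHausdorff I' C := inferInstance
  rw [← sub_eq_zero]
  apply hH.haus
  intro k
  rw [SModEq.zero, smul_eq_mul, Ideal.mul_top, ← Ideal.Quotient.eq_zero_iff_mem, map_sub,
    sub_eq_zero]
  have h1 : Ideal.Quotient.mk (I' ^ k) (Φ (algebraMap (Pn R n) (An R t n) (MvPolynomial.X i)))
      = f k (algebraMap (Pn R n) (An R t n) (MvPolynomial.X i)) :=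
    IsAdicComplete.mk_liftAlgHom I' f hf k _
  rw [h1]
  show Ideal.quotientMap (I' ^ k) (ev : Pn R n →+* C) (hJk k)
    (AdicCompletion.evalₐ (Jn R t n) k (AdicCompletion.of _ _ (MvPolynomial.X i))) = _
  rw [AdicCompletion.evalₐ_of, Ideal.quotientMap_mk]
  simp [ev]

end UP

end

end Part3

section Part4

open Polynomial IsLocalRing AdicRing Groth.Agent.Lib.R2H1.AdicVal

noncomputable section

section Main48

variable (R : Type u) [CommRing R] [IsDomain R] [ValuationRing R] [Ring.KrullDimLE 1 R]
  (t : R) (ht : t ≠ 0) [IsAdicComplete (Ideal.span {t}) R]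

include ht in
theorem ringKrullDim_eq_one : ringKrullDim R = 1 := by
  have h1 : ringKrullDim R ≤ 1 := Ring.krullDimLE_iff.mp inferInstance
  have h0 : ¬ ringKrullDim R ≤ 0 := by
    intro h
    haveI : Ring.KrullDimLE 0 R := Ring.krullDimLE_iff.mpr h
    have hF : IsField R := Ring.KrullDimLE.isField_of_isDomain
    have htm := t_mem R t ht
    rw [mem_maximalIdeal, mem_nonunits_iff] at htm
    obtain ⟨b, hb⟩ := hF.mul_inv_cancel ht
    exact htm (IsUnit.of_mul_eq_one b hb)
  refine le_antisymm h1 ?_
  by_contra hlt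
  apply h0
  rw [not_le] at hlt
  induction hd : ringKrullDim R using WithBot.recBotCoe with
  | bot => exact bot_le
  | coe a =>
    rw [hd] at hlt
    have : a < 1 := by exact_mod_cast hlt
    have ha : a = 0 := ENat.lt_one_iff_eq_zero.mp this
    rw [ha]; rfl

include ht in
theorem main_11548 (n : ℕ) (m : Ideal (An R t n)) [m.IsMaximal]
    (hm : algebraMap R (An R t n) t ∈ m) :
    ∃ p : Ideal (An R t n), p.IsPrime ∧ p ≤ m ∧ algebraMap R (An R t n) t ∉ p ∧
      ringKrullDim (An R t n ⧸ p) = 1 := by
  classical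
  let T := An R t n
  let k' := T ⧸ m
  letI : Field k' := Ideal.Quotient.field m
  let φ : T →ₐ[R] k' := Ideal.Quotient.mkₐ R m
  have hφ : Function.Surjective φ := Ideal.Quotient.mk_surjective
  have ht0 : algebraMap R k' t = 0 := by
    rw [IsScalarTower.algebraMap_apply R T k']
    exact Ideal.Quotient.eq_zero_iff_mem.mpr hm
  let z : Fin n → k' := fun i => φ (algebraMap (Pn R n) T (MvPolynomial.X i))
  have hz : ∀ i, IsIntegral R (z i) := by
    intro i
    obtain ⟨g, hg, hgz⟩ := exists_monic_aeval_mem R t ht k' n φ hφ (z i)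
    refine ⟨g, hg, ?_⟩
    rw [← aeval_def]
    have hbot : (Ideal.span {t}).map (algebraMap R k') = ⊥ := by
      rw [map_span_singleton (algebraMap R k') t, ht0, Ideal.span_singleton_eq_bot]
    rw [hbot, Ideal.mem_bot] at hgz
    exact hgz
  obtain ⟨C, _, _, _, _, x, π, hπ⟩ := exists_free_cover R n k' z hz
  obtain ⟨Φ, hΦ⟩ := exists_algHom_of_free R t C n x
  -- π ∘ Φ = φ
  have hcomp : ∀ y : T, π (Φ y) = φ y := by
    have h1 : (π.comp Φ).comp (IsScalarTower.toAlgHom R (Pn R n) T)
        = φ.comp (IsScalarTower.toAlgHom R (Pn R n) T) := by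
      apply MvPolynomial.algHom_ext
      intro i
      show π (Φ (algebraMap (Pn R n) T (MvPolynomial.X i))) = z i
      rw [hΦ, hπ]
    intro y
    obtain ⟨p, y', hy⟩ := rpow_dense R t n y
    rw [hy, map_add, map_add, map_add, map_smul, map_smul, map_smul, Algebra.smul_def,
      Algebra.smul_def (A := k'), ht0, zero_mul, zero_mul, add_zero, add_zero]
    exact congrArg (fun f => f p) h1
  let m'' : Ideal C := RingHom.ker π.toRingHom
  haveI : m''.IsPrime := RingHom.ker_isPrime _
  have htm'' : algebraMap R C t ∈ m'' := by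
    rw [RingHom.mem_ker]
    show π (algebraMap R C t) = 0
    rw [AlgHom.commutes, ht0]
  haveI : (⊥ : Ideal R).IsPrime := Ideal.bot_prime
  have hlt : (⊥ : Ideal R) < m''.under R := by
    rw [bot_lt_iff_ne_bot]
    intro h
    have : t ∈ m''.under R := htm''
    rw [h, Ideal.mem_bot] at this
    exact ht this
  haveI : Module.Flat R C := inferInstance
  obtain ⟨q, hq, hqprime, hqover⟩ :=
    Algebra.HasGoingDown.exists_ideal_le_liesOver_of_lt (p := (⊥ : Ideal R)) m'' hlt
  have hqR : ∀ r : R, algebraMap R C r ∈ q → r = 0 := by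
    intro r hr
    have h1 : r ∈ q.under R := hr
    rw [← hqover.over, Ideal.mem_bot] at h1
    exact h1
  refine ⟨q.comap Φ, Ideal.IsPrime.comap _, ?_, ?_, ?_⟩
  · intro y hy
    have h1 : Φ y ∈ m'' := hq hy
    have h2 : π (Φ y) = 0 := h1
    rw [hcomp] at h2
    exact Ideal.Quotient.eq_zero_iff_mem.mp h2
  · intro h
    rw [Ideal.mem_comap, AlgHom.commutes] at h
    exact ht (hqR t h)
  · let Ψ : (T ⧸ q.comap Φ) →ₐ[R] C ⧸ q := Ideal.quotientMapₐ q Φ le_rfl
    have hΨ : Function.Injective Ψ := Ideal.quotientMap_injective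
    haveI : Algebra.IsIntegral R (C ⧸ q) := Algebra.IsIntegral.of_finite R _
    haveI : Algebra.IsIntegral R (T ⧸ q.comap Φ) := by
      refine ⟨fun y => ?_⟩
      rw [← isIntegral_algHom_iff Ψ hΨ]
      exact Algebra.IsIntegral.isIntegral _
    have hinj : Function.Injective (algebraMap R (T ⧸ q.comap Φ)) := by
      rw [injective_iff_map_eq_zero]
      intro r hr
      rw [IsScalarTower.algebraMap_apply R T, Ideal.Quotient.algebraMap_eq,
        Ideal.Quotient.eq_zero_iff_mem, Ideal.mem_comap, AlgHom.commutes] at hr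
      exact hqR r hr
    rw [Groth.Agent.Lib.Helper5.ringKrullDim_eq_of_isIntegral_of_injective R _ hinj]
    exact ringKrullDim_eq_one R t ht

end Main48

end

end Part4

end Groth.Agent.Lib.R2H1.AdicPt
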