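/-
Lifting rig-points along blowing-ups: algebraic step (helper1, round 2). `main_13354`.
-/
import Mathlib
import Groth.Prelude.Def_W4bk4boschfrg79
import Groth.Agent.Lib.R2H1AdicVal
import Groth.Agent.Lib.Helper5IntDim

set_option autoImplicit false
set_option linter.style.haveILetI false
set_option linter.unusedSectionVars false
universe u

namespace Groth.Agent.Lib.R2H1.AdicRig

open Polynomial IsLocalRing AdicRing Groth.Agent.Lib.R2H1.AdicVal

noncomputable section

theorem exists_dvd_all' {V : Type*} [CommRing V] [IsDomain V] [ValuationRing V] {ι : Type*}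
    (a : ι → V) : ∀ s : Finset ι, s.Nonempty → ∃ j ∈ s, ∀ i ∈ s, a j ∣ a i := by
  classical
  intro s
  induction s using Finset.induction_on with
  | empty => intro h; exact absurd h (by simp)
  | insert b s hb ih =>
    intro _
    rcases s.eq_empty_or_nonempty with hs | hs
    · subst hs
      exact ⟨b, by simp, by simp⟩
    · obtain ⟨j, hj, hdiv⟩ := ih hs
      rcases ValuationRing.dvd_total (a j) (a b) with h | h
      · refine ⟨j, Finset.mem_insert_of_mem hj, ?_⟩
        intro i hi
        rcases Finset.mem_insert.mp hi with rfl | hi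
        · exact h
        · exact hdiv i hi
      · refine ⟨b, Finset.mem_insert_self _ _, ?_⟩
        intro i hi
        rcases Finset.mem_insert.mp hi with rfl | hi
        · exact dvd_rfl
        · exact dvd_trans h (hdiv i hi)

section Main

variable (R : Type u) [CommRing R] [IsDomain R] [ValuationRing R] [Ring.KrullDimLE 1 R]
  (t : R) (ht : t ≠ 0) [IsAdicComplete (Ideal.span {t}) R]

include ht in
theorem main_13354
    (B : Type u) [CommRing B] [Algebra R B] [IsDomain B] [IsLocalRing B]
    (hB : AdicRing.Admissible R (Ideal.span {t}) B) (hdim : ringKrullDim B = 1)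
    (n : ℕ) (b : Fin n → B) (hb : ∃ i, b i ≠ 0) :
    ∃ B' : Subalgebra B (FractionRing B), Module.Finite B ↥B' ∧ IsLocalRing ↥B' ∧
      ringKrullDim ↥B' = 1 ∧
      ∃ i, Ideal.span (Set.range (fun j => algebraMap B ↥B' (b j))) =
        Ideal.span {algebraMap B ↥B' (b i)} := by
  classical
  obtain ⟨hfin, hval⟩ := main_11541 R t ht B hB
  haveI := hfin
  haveI := hval
  haveI : HenselianLocalRing R := henselianLocalRing R t ht
  let L := FractionRing B
  let V := integralClosure B L
  let a : Fin n → V := fun j => ⟨algebraMap B L (b j), isIntegral_algebraMap⟩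
  have hs : (Finset.univ.filter (fun j => b j ≠ 0)).Nonempty := by
    obtain ⟨i, hi⟩ := hb
    exact ⟨i, by simp [hi]⟩
  obtain ⟨i₀, hi₀, hdiv⟩ := exists_dvd_all' a _ hs
  have hi₀' : b i₀ ≠ 0 := (Finset.mem_filter.mp hi₀).2
  have hdiv' : ∀ j, a i₀ ∣ a j := by
    intro j
    by_cases hj : b j = 0
    · have : a j = 0 := by
        apply Subtype.ext
        show algebraMap B L (b j) = 0
        rw [hj, map_zero]
      rw [this]; exact dvd_zero _
    · exact hdiv j (by simp [hj])
  choose q hq using hdiv'
  let c : Fin n → L := fun j => (q j : L)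
  have hc : ∀ j, IsIntegral B (c j) := fun j => (q j).2
  have hbc : ∀ j, algebraMap B L (b j) = algebraMap B L (b i₀) * c j := by
    intro j
    have := congrArg Subtype.val (hq j)
    exact this
  let B' : Subalgebra B L := Algebra.adjoin B (Set.range c)
  haveI hfinB' : Module.Finite B B' :=
    Algebra.finite_adjoin_of_finite_of_isIntegral (Set.finite_range c)
      (by rintro _ ⟨j, rfl⟩; exact hc j)
  haveI : Module.Finite R B' := Module.Finite.trans B B'
  haveI : IsLocalRing B' := isLocalRing_of_finite_of_isDomain R B'
  refine ⟨B', hfinB', inferInstance, ?_, i₀, ?_⟩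
  · haveI : Algebra.IsIntegral B B' := Algebra.IsIntegral.of_finite B B'
    have hinj : Function.Injective (algebraMap B B') := by
      intro x y hxy
      apply IsFractionRing.injective B L
      exact congrArg Subtype.val hxy
    rw [Groth.Agent.Lib.Helper5.ringKrullDim_eq_of_isIntegral_of_injective B B' hinj, hdim]
  · apply le_antisymm
    · rw [Ideal.span_le]
      rintro _ ⟨j, rfl⟩
      rw [SetLike.mem_coe, Ideal.mem_span_singleton]
      refine ⟨⟨c j, Algebra.subset_adjoin ⟨j, rfl⟩⟩, ?_⟩
      apply Subtype.ext
      exact hbc j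
    · rw [Ideal.span_le, Set.singleton_subset_iff]
      exact Ideal.subset_span ⟨i₀, rfl⟩

end Main

end

end Groth.Agent.Lib.R2H1.AdicRig
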