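/-
Universal property of A[f_1..f_n] inside A ⊗ K for admissible algebras over a complete valuation
ring of height one (helper1, round 2): `main_13353`. Also: nonzero elements of `R` act injectively
on modules without `t`-power torsion, which are therefore flat.
-/
import Mathlib
import Groth.Prelude.Def_W4bk4boschfrg79
import Groth.Agent.Lib.R2H1AdicVal

set_option autoImplicit false
set_option linter.style.haveILetI false
set_option linter.unusedSectionVars false
universe u

namespace Groth.Agent.Lib.R2H1.AdicRig2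

section Part1

open Polynomial IsLocalRing AdicRing
open scoped TensorProduct

section Basics

variable (R : Type u) [CommRing R] [IsDomain R] [ValuationRing R] [Ring.KrullDimLE 1 R]
  (t : R) (ht : t ≠ 0) [IsAdicComplete (Ideal.span {t}) R]

include ht in
/-- for `c ≠ 0`, some power of `t` is divisible by `c`. -/
theorem exists_tpow_mem (c : R) (hc : c ≠ 0) : ∃ N : ℕ, t ^ N ∈ Ideal.span {c} := by
  by_cases hu : IsUnit c
  · refine ⟨0, ?_⟩
    rw [Ideal.span_singleton_eq_top.mpr hu]
    trivial
  · have hrad : maximalIdeal R ≤ (Ideal.span {c}).radical := by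
      rw [Ideal.radical_eq_sInf]
      refine le_sInf ?_
      rintro P ⟨hP, hPprime⟩
      have hne : P ≠ ⊥ := by
        intro h
        have : c ∈ P := hP (Ideal.mem_span_singleton_self c)
        rw [h, Ideal.mem_bot] at this
        exact hc this
      have hmax : P.IsMaximal := hPprime.isMaximal_of_ne_bot hne
      rw [eq_maximalIdeal hmax]
    exact hrad (AdicVal.t_mem R t ht)

include ht in
/-- nonzero elements of `R` act injectively on modules without `t`-power torsion. -/
theorem smul_eq_zero_of_noPowTorsion (M : Type u) [AddCommGroup M] [Module R M]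
    (hM : NoPowTorsion (Ideal.span {t}) M) (c : R) (hc : c ≠ 0) (x : M) (hx : c • x = 0) :
    x = 0 := by
  obtain ⟨N, hN⟩ := exists_tpow_mem R t ht c hc
  obtain ⟨r, hr⟩ := Ideal.mem_span_singleton'.mp hN
  refine hM x N ?_
  intro a ha
  rw [Ideal.span_singleton_pow] at ha
  obtain ⟨b, hb⟩ := Ideal.mem_span_singleton'.mp ha
  rw [← hb, ← hr, mul_smul, mul_smul, hx, smul_zero, smul_zero]

include ht in
theorem flat_of_noPowTorsion (M : Type u) [AddCommGroup M] [Module R M]
    (hM : NoPowTorsion (Ideal.span {t}) M) : Module.Flat R M := by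
  rw [Module.Flat.flat_iff_torsion_eq_bot_of_isBezout]
  rw [eq_bot_iff]
  intro x hx
  rw [Submodule.mem_torsion_iff] at hx
  obtain ⟨a, ha⟩ := hx
  rw [Submodule.mem_bot]
  refine smul_eq_zero_of_noPowTorsion R t ht M hM (a : R) ?_ x ha
  exact nonZeroDivisors.coe_ne_zero a

end Basics

end Part1

section Part2

open Polynomial IsLocalRing AdicRing
open scoped TensorProduct

section Alg

/-- the algebraic heart: if `a` is a root of `P.scaleRoots s` with `P` monic, `φ a = e` is regular
and `φ s = e * u`, then `u` is a unit. -/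
theorem unit_of_scaleRoots {A D : Type u} [CommRing A] [CommRing D] (φ : A →+* D)
    (P : A[X]) (hP : P.Monic) (a s : A) (h : (P.scaleRoots s).eval a = 0)
    (e u : D) (he : φ a = e) (hs : φ s = e * u) (hreg : ∀ d : D, e * d = 0 → d = 0) :
    ∃ w : D, u * w = 1 := by
  have h1 : (P.scaleRoots s).eval₂ φ (φ a) = 0 := by
    rw [Polynomial.eval₂_at_apply, h, map_zero]
  rw [Polynomial.eval₂_eq_sum_range, natDegree_scaleRoots, Finset.sum_range_succ] at h1
  set m := P.natDegree with hm
  have hlast : φ ((P.scaleRoots s).coeff m) * φ a ^ m = e ^ m := by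
    rw [coeff_scaleRoots, ← hm, Nat.sub_self, pow_zero, mul_one, hm, hP.coeff_natDegree, map_one,
      one_mul, he]
  have hsum : ∑ j ∈ Finset.range m, φ ((P.scaleRoots s).coeff j) * φ a ^ j
      = e ^ m * (u * ∑ j ∈ Finset.range m, φ (P.coeff j) * u ^ (m - j - 1)) := by
    rw [Finset.mul_sum, Finset.mul_sum]
    refine Finset.sum_congr rfl ?_
    intro j hj
    rw [Finset.mem_range] at hj
    rw [coeff_scaleRoots, ← hm, map_mul, map_pow, hs, he]
    have e1 : m - j = (m - j - 1) + 1 := by omega
    have e2 : e ^ m = e ^ (m - j) * e ^ j := by rw [← pow_add]; congr 1; omega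
    rw [e2, mul_pow]
    conv_lhs => rw [e1, pow_succ u]
    rw [← e1]
    ring
  rw [hlast, hsum] at h1
  have h2 : e ^ m * (u * (∑ j ∈ Finset.range m, φ (P.coeff j) * u ^ (m - j - 1)) + 1) = 0 := by
    rw [mul_add, mul_one]; exact h1
  have hregm : ∀ (k : ℕ) (d : D), e ^ k * d = 0 → d = 0 := by
    intro k
    induction k with
    | zero => intro d hd; simpa using hd
    | succ k ih =>
      intro d hd
      apply ih
      apply hreg
      rw [← mul_assoc, ← pow_succ']
      exact hd
  have h3 := hregm m _ h2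
  refine ⟨-(∑ j ∈ Finset.range m, φ (P.coeff j) * u ^ (m - j - 1)), ?_⟩
  rw [mul_neg]
  exact (eq_neg_of_add_eq_zero_left h3).symm ▸ (neg_neg (1 : D))

end Alg

end Part2

section Part3

open Polynomial IsLocalRing AdicRing
open scoped TensorProduct

section Main

variable (R : Type u) [CommRing R] [IsDomain R] [ValuationRing R] [Ring.KrullDimLE 1 R]
  (t : R) (ht : t ≠ 0) [IsAdicComplete (Ideal.span {t}) R]

/-- multiplication by a nonzero `c` is injective on `D ⊗ K`. -/
theorem smul_tensor_cancel (D : Type u) [CommRing D] [Algebra R D] (c : R) (hc : c ≠ 0)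
    (z z' : D ⊗[R] FractionRing R) (h : c • z = c • z') : z = z' := by
  have hk : algebraMap R (FractionRing R) c ≠ 0 := by
    intro h0
    exact hc ((IsFractionRing.injective R (FractionRing R)) (by rw [h0, map_zero]))
  have h1 : ∀ y : D ⊗[R] FractionRing R,
      ((1 : D) ⊗ₜ[R] ((algebraMap R (FractionRing R) c)⁻¹)) * (c • y) = y := by
    intro y
    have e1 : c • y = ((1 : D) ⊗ₜ[R] (algebraMap R (FractionRing R) c)) * y := by
      have : ((1 : D) ⊗ₜ[R] (algebraMap R (FractionRing R) c)) = c • (1 : D ⊗[R] FractionRing R) := by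
        rw [Algebra.TensorProduct.one_def, ← TensorProduct.tmul_smul, Algebra.smul_def, mul_one]
      rw [this, smul_mul_assoc, one_mul]
    rw [e1, ← mul_assoc, Algebra.TensorProduct.tmul_mul_tmul, one_mul, inv_mul_cancel₀ hk,
      ← Algebra.TensorProduct.one_def, one_mul]
  rw [← h1 z, ← h1 z', h]

include ht in
/-- two extensions of `φ` to `A[f]` agree. -/
theorem ext_adjoin
    (A : Type u) [CommRing A] [Algebra R A]
    (n : ℕ) (f : Fin n → A ⊗[R] FractionRing R)
    (c : R) (hc : c ≠ 0) (g : Fin n → A)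
    (hg : ∀ i, algebraMap A (A ⊗[R] FractionRing R) (g i) = c • f i)
    (D : Type u) [CommRing D] [Algebra R D] (hD : NoPowTorsion (Ideal.span {t}) D)
    (φ : A →ₐ[R] D)
    (ψ₁ ψ₂ : ↥(Algebra.adjoin A (Set.range f)) →ₐ[R] D)
    (h₁ : ψ₁.comp (IsScalarTower.toAlgHom R A ↥(Algebra.adjoin A (Set.range f))) = φ)
    (h₂ : ψ₂.comp (IsScalarTower.toAlgHom R A ↥(Algebra.adjoin A (Set.range f))) = φ) :
    ψ₁ = ψ₂ := by
  have hφ : ∀ (ψ : ↥(Algebra.adjoin A (Set.range f)) →ₐ[R] D),
      ψ.comp (IsScalarTower.toAlgHom R A ↥(Algebra.adjoin A (Set.range f))) = φ →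
      ∀ a : A, ψ (algebraMap A _ a) = φ a := by
    intro ψ h a
    rw [← h]; rfl
  have key : ∀ (x : A ⊗[R] FractionRing R) (hx : x ∈ Algebra.adjoin A (Set.range f)),
      ψ₁ ⟨x, hx⟩ = ψ₂ ⟨x, hx⟩ := by
    intro x hx
    induction hx using Algebra.adjoin_induction with
    | mem x hx =>
      obtain ⟨i, rfl⟩ := hx
      have hxi : ∀ (ψ : ↥(Algebra.adjoin A (Set.range f)) →ₐ[R] D),
          ψ.comp (IsScalarTower.toAlgHom R A ↥(Algebra.adjoin A (Set.range f))) = φ →
          c • ψ ⟨f i, Algebra.subset_adjoin ⟨i, rfl⟩⟩ = φ (g i) := by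
        intro ψ h
        rw [← map_smul, ← hφ ψ h]
        congr 1
        apply Subtype.ext
        change c • f i = algebraMap A (A ⊗[R] FractionRing R) (g i)
        rw [hg i]
      have h0 : c • (ψ₁ ⟨f i, Algebra.subset_adjoin ⟨i, rfl⟩⟩
          - ψ₂ ⟨f i, Algebra.subset_adjoin ⟨i, rfl⟩⟩) = 0 := by
        rw [smul_sub, hxi ψ₁ h₁, hxi ψ₂ h₂, sub_self]
      exact sub_eq_zero.mp (smul_eq_zero_of_noPowTorsion R t ht D hD c hc _ h0)
    | algebraMap a =>
      exact (hφ ψ₁ h₁ a).trans (hφ ψ₂ h₂ a).symm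
    | add x y hx hy ihx ihy =>
      have : (⟨x + y, add_mem hx hy⟩ : ↥(Algebra.adjoin A (Set.range f)))
          = ⟨x, hx⟩ + ⟨y, hy⟩ := rfl
      rw [this, map_add, map_add, ihx, ihy]
    | mul x y hx hy ihx ihy =>
      have : (⟨x * y, mul_mem hx hy⟩ : ↥(Algebra.adjoin A (Set.range f)))
          = ⟨x, hx⟩ * ⟨y, hy⟩ := rfl
      rw [this, map_mul, map_mul, ihx, ihy]
  apply AlgHom.ext
  rintro ⟨x, hx⟩
  exact key x hx

end Main

end Part3

section Part4

open Polynomial IsLocalRing AdicRing
open scoped TensorProduct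

section Main2

variable (R : Type u) [CommRing R] [IsDomain R] [ValuationRing R] [Ring.KrullDimLE 1 R]
  (t : R) (ht : t ≠ 0) [IsAdicComplete (Ideal.span {t}) R]

include ht in
/-- `A → A ⊗ K` is injective for `A` without `t`-power torsion. -/
theorem includeLeft_inj (A : Type u) [CommRing A] [Algebra R A]
    (hA : NoPowTorsion (Ideal.span {t}) A) :
    Function.Injective (algebraMap A (A ⊗[R] FractionRing R)) := by
  haveI : Module.Flat R A := flat_of_noPowTorsion R t ht A hA
  exact Algebra.TensorProduct.includeLeft_injective (S := A)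
    (IsFractionRing.injective R (FractionRing R))

include ht in
/-- the ideal `𝔞 D` is generated by `c`. -/
theorem span_map_eq
    (A : Type u) [CommRing A] [Algebra R A] (hA : NoPowTorsion (Ideal.span {t}) A)
    (n : ℕ) (f : Fin n → A ⊗[R] FractionRing R) (hf : ∀ i, IsIntegral A (f i))
    (c : R) (hc : c ≠ 0) (g : Fin n → A)
    (hg : ∀ i, algebraMap A (A ⊗[R] FractionRing R) (g i) = c • f i)
    (D : Type u) [CommRing D] [Algebra R D] (hD : NoPowTorsion (Ideal.span {t}) D)
    (φ : A →ₐ[R] D) (i : Fin n)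
    (hgen : (Ideal.span (insert (algebraMap R A c) (Set.range g))).map φ = Ideal.span {φ (g i)}) :
    (Ideal.span (insert (algebraMap R A c) (Set.range g))).map φ
      = Ideal.span {algebraMap R D c} := by
  have hιA := includeLeft_inj R t ht A hA
  -- c_D = e * u
  have hcmem : algebraMap R D c ∈ Ideal.span {φ (g i)} := by
    rw [← hgen]
    have : algebraMap R D c = φ (algebraMap R A c) := (φ.commutes c).symm
    rw [this]
    exact Ideal.mem_map_of_mem _ (Ideal.subset_span (Set.mem_insert _ _))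
  obtain ⟨u, hu⟩ := Ideal.mem_span_singleton'.mp hcmem
  -- `e` is regular
  have hreg : ∀ d : D, φ (g i) * d = 0 → d = 0 := by
    intro d hd
    apply smul_eq_zero_of_noPowTorsion R t ht D hD c hc
    rw [Algebra.smul_def, ← hu, mul_assoc, hd, mul_zero]
  -- the integral equation
  obtain ⟨P, hPm, hP⟩ := hf i
  have hQ : (P.scaleRoots (algebraMap R A c)).eval (g i) = 0 := by
    apply hιA
    rw [map_zero]
    have h1 : Polynomial.aeval (f i) P = 0 := hP
    have h2 := Polynomial.scaleRoots_aeval_eq_zero (r := algebraMap R A c) h1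
    have h3 : algebraMap A (A ⊗[R] FractionRing R) (algebraMap R A c) * f i
        = algebraMap A (A ⊗[R] FractionRing R) (g i) := by
      have e0 : c • f i = algebraMap R (A ⊗[R] FractionRing R) c * f i := Algebra.smul_def c (f i)
      rw [hg i, e0, IsScalarTower.algebraMap_apply R A (A ⊗[R] FractionRing R)]
    rw [h3, Polynomial.aeval_algebraMap_apply] at h2
    rw [← h2, Polynomial.coe_aeval_eq_eval]
  obtain ⟨w, hw⟩ := unit_of_scaleRoots (φ : A →+* D) P hPm (g i) (algebraMap R A c) hQ
    (φ (g i)) u rfl (by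
      change φ (algebraMap R A c) = _
      rw [φ.commutes, ← hu, mul_comm]) hreg
  rw [hgen]
  apply le_antisymm
  · rw [Ideal.span_singleton_le_iff_mem]
    refine Ideal.mem_span_singleton'.mpr ⟨w, ?_⟩
    rw [← hu, ← mul_assoc, mul_comm w u, hw, one_mul]
  · rw [Ideal.span_singleton_le_iff_mem]
    exact hcmem

end Main2

end Part4

section Part5

open Polynomial IsLocalRing AdicRing
open scoped TensorProduct

section Main3

variable (R : Type u) [CommRing R] [IsDomain R] [ValuationRing R] [Ring.KrullDimLE 1 R]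
  (t : R) (ht : t ≠ 0) [IsAdicComplete (Ideal.span {t}) R]

include ht in
/-- existence of the extension. -/
theorem exists_extension
    (A : Type u) [CommRing A] [Algebra R A]
    (n : ℕ) (f : Fin n → A ⊗[R] FractionRing R)
    (c : R) (hc : c ≠ 0) (g : Fin n → A)
    (hg : ∀ i, algebraMap A (A ⊗[R] FractionRing R) (g i) = c • f i)
    (D : Type u) [CommRing D] [Algebra R D] (hD : NoPowTorsion (Ideal.span {t}) D)
    (φ : A →ₐ[R] D)
    (hgen : (Ideal.span (insert (algebraMap R A c) (Set.range g))).map φ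
      = Ideal.span {algebraMap R D c}) :
    ∃ ψ : ↥(Algebra.adjoin A (Set.range f)) →ₐ[R] D,
        ψ.comp (IsScalarTower.toAlgHom R A ↥(Algebra.adjoin A (Set.range f))) = φ := by
  have hιD' := includeLeft_inj R t ht D hD
  let ιD : D →ₐ[R] D ⊗[R] FractionRing R := Algebra.TensorProduct.includeLeft
  have hιD : Function.Injective ιD := hιD'
  let φK : A ⊗[R] FractionRing R →ₐ[R] D ⊗[R] FractionRing R :=
    Algebra.TensorProduct.map φ (AlgHom.id R (FractionRing R))
  have hφK : ∀ a : A, φK (algebraMap A (A ⊗[R] FractionRing R) a) = ιD (φ a) := by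
    intro a
    rw [Algebra.TensorProduct.algebraMap_apply]
    simp [φK, ιD]
  have hdiv : ∀ i, ∃ d : D, φ (g i) = algebraMap R D c * d := by
    intro i
    have : φ (g i) ∈ Ideal.span {algebraMap R D c} := by
      rw [← hgen]
      exact Ideal.mem_map_of_mem _ (Ideal.subset_span (Set.mem_insert_of_mem _ ⟨i, rfl⟩))
    obtain ⟨d, hd⟩ := Ideal.mem_span_singleton'.mp this
    exact ⟨d, by rw [← hd, mul_comm]⟩
  have hmem : ∀ x ∈ Algebra.adjoin A (Set.range f), φK x ∈ ιD.range := by
    intro x hx
    induction hx using Algebra.adjoin_induction with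
    | mem x hx =>
      obtain ⟨i, rfl⟩ := hx
      obtain ⟨d, hd⟩ := hdiv i
      refine ⟨d, ?_⟩
      apply smul_tensor_cancel R D c hc
      rw [← map_smul φK, ← hg i, hφK, hd]
      change c • ιD d = _
      rw [← map_smul ιD, Algebra.smul_def]
    | algebraMap a => exact ⟨φ a, (hφK a).symm⟩
    | add x y hx hy ihx ihy => rw [map_add]; exact add_mem ihx ihy
    | mul x y hx hy ihx ihy => rw [map_mul]; exact mul_mem ihx ihy
  let e := AlgEquiv.ofInjective ιD hιD
  let incl : ↥(Algebra.adjoin A (Set.range f)) →ₐ[R] A ⊗[R] FractionRing R :=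
    (Algebra.adjoin A (Set.range f)).val.restrictScalars R
  let ψ0 : ↥(Algebra.adjoin A (Set.range f)) →ₐ[R] ιD.range :=
    (φK.comp incl).codRestrict ιD.range (fun x => hmem x x.2)
  let ψ : ↥(Algebra.adjoin A (Set.range f)) →ₐ[R] D := (e.symm : ιD.range →ₐ[R] D).comp ψ0
  have hψ : ∀ x : ↥(Algebra.adjoin A (Set.range f)), ιD (ψ x) = φK x := by
    intro x
    have h1 : (e (e.symm (ψ0 x)) : D ⊗[R] FractionRing R) = ιD (e.symm (ψ0 x)) :=
      AlgEquiv.ofInjective_apply ιD hιD _
    have h2 : ψ x = e.symm (ψ0 x) := rfl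
    rw [h2, ← h1, AlgEquiv.apply_symm_apply]
    rfl
  refine ⟨ψ, ?_⟩
  apply AlgHom.ext
  intro a
  apply hιD
  change ιD (ψ (algebraMap A _ a)) = ιD (φ a)
  rw [hψ, ← hφK]
  rfl

include ht in
theorem main_13353
    (A : Type u) [CommRing A] [Algebra R A] (hA : AdicRing.Admissible R (Ideal.span {t}) A)
    (n : ℕ) (f : Fin n → A ⊗[R] FractionRing R) (hf : ∀ i, IsIntegral A (f i))
    (c : R) (hc : c ≠ 0) (g : Fin n → A)
    (hg : ∀ i, algebraMap A (A ⊗[R] FractionRing R) (g i) = c • f i)
    (D : Type u) [CommRing D] [Algebra R D] (hD : AdicRing.Admissible R (Ideal.span {t}) D)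
    (φ : A →ₐ[R] D)
    (hgen : (Ideal.span (insert (algebraMap R A c) (Set.range g))).map φ =
          Ideal.span {algebraMap R D c} ∨
      ∃ i, (Ideal.span (insert (algebraMap R A c) (Set.range g))).map φ = Ideal.span {φ (g i)}) :
    (Ideal.span (insert (algebraMap R A c) (Set.range g))).map φ = Ideal.span {algebraMap R D c} ∧
      ∃! ψ : ↥(Algebra.adjoin A (Set.range f)) →ₐ[R] D,
        ψ.comp (IsScalarTower.toAlgHom R A ↥(Algebra.adjoin A (Set.range f))) = φ := by
  have h1 : (Ideal.span (insert (algebraMap R A c) (Set.range g))).map φ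
      = Ideal.span {algebraMap R D c} := by
    rcases hgen with h | ⟨i, h⟩
    · exact h
    · exact span_map_eq R t ht A hA.2 n f hf c hc g hg D hD.2 φ i h
  refine ⟨h1, ?_⟩
  obtain ⟨ψ, hψ⟩ := exists_extension R t ht A n f c hc g hg D hD.2 φ h1
  exact ⟨ψ, hψ, fun ψ' hψ' => ext_adjoin R t ht A n f c hc g hg D hD.2 φ ψ' ψ hψ' hψ⟩

end Main3

end Part5

end Groth.Agent.Lib.R2H1.AdicRig2
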