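import Groth.Agent.Lib.R2H1DegComponents
import Groth.Agent.Lib.R2H1CurveAmple
import Groth.Agent.Lib.Helper23Restr2
import Groth.Agent.Lib.Helper23PB
set_option backward.isDefEq.respectTransparency.types false

/-!
# Ampleness on curves via degrees on components (towards S7642)

* `isAffine_of_irreducible_of_dim_le_zero`.
* `vanishingIdeal_eq_cI` : the vanishing ideal of an irreducible component is the radical of its
  component ideal.
* `isAmple_component_iff` : ampleness of `L` on the reduced component is positivity of the degree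
  (dimension one) or automatic (dimension zero).
* `s7642_of` : S7642, given that ampleness can be tested on the reduced irreducible components.
-/

set_option autoImplicit false
set_option linter.style.haveILetI false
set_option linter.unusedSectionVars false
universe u v

open CategoryTheory CategoryTheory.Limits AlgebraicGeometry TopologicalSpace Opposite

namespace Groth.Agent.Lib.R2H1.AmpleComp

section Part1

open Groth.Agent.Lib.R2H1.DegComponents Groth.Agent.Lib.R2H1.DegTensor
open Groth.Agent.Lib.R2H1.CurveAmple Groth.Agent.Lib.R2H1.ZeroDimCoh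

/-- an irreducible Noetherian scheme of dimension `≤ 0` is affine -/
theorem isAffine_of_irreducible_of_dim_le_zero (W : Scheme.{u}) [IsNoetherian W]
    [IrreducibleSpace W] (hdim : topologicalKrullDim W ≤ 0) : IsAffine W := by
  haveI : Finite W := finite_of_dim_le_zero hdim
  haveI : T1Space W := ⟨fun z => isClosed_singleton_of_dim_le_zero hdim z⟩
  haveI : DiscreteTopology W := inferInstance
  haveI : Subsingleton W := ⟨fun a b => by
    by_contra hab
    have h1 : IsOpen ({a} : Set W) := isOpen_discrete _
    have h2 : IsOpen ({b} : Set W) := isOpen_discrete _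
    obtain ⟨z, hza, hzb⟩ := nonempty_preirreducible_inter h1 h2 ⟨a, rfl⟩ ⟨b, rfl⟩
    exact hab ((Set.mem_singleton_iff.mp hza).symm.trans (Set.mem_singleton_iff.mp hzb))⟩
  obtain ⟨x⟩ := (inferInstance : Nonempty W)
  obtain ⟨_, ⟨U, hU, rfl⟩, hxU, -⟩ := W.isBasis_affineOpens.exists_subset_of_mem_open
    (Set.mem_univ x) isOpen_univ
  have htop : U = ⊤ := by
    ext z
    simp only [Opens.coe_top, Set.mem_univ, iff_true]
    rw [Subsingleton.elim z x]
    exact hxU
  rw [htop] at hU
  haveI : IsAffine ((⊤ : W.Opens) : Scheme.{u}) := hU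
  exact .of_isIso W.topIso.inv

theorem vanishingIdeal_eq_cI {X : Scheme.{u}} [IsNoetherian X] (Z : Closeds X)
    (hZ : (Z : Set X) ∈ irreducibleComponents (X : Type u)) :
    Scheme.IdealSheafData.vanishingIdeal Z = cI (Z : Set X) hZ := by
  have h := Scheme.IdealSheafData.vanishingIdeal_support
    (I := X.irreducibleComponentIdeal (Z : Set X) hZ)
  have hs : (X.irreducibleComponentIdeal (Z : Set X) hZ).support = Z := Closeds.ext rfl
  rw [hs] at h
  exact h

end Part1

section Part2


open Groth.Agent.Lib.R2H1.DegComponents Groth.Agent.Lib.R2H1.DegTensor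
open Groth.Agent.Lib.R2H1.CurveAmple Groth.Agent.Lib.R2H1.ZeroDimCoh

variable (k : Type u) [Field k] (X : Scheme.{u}) [X.Over (Spec (CommRingCat.of k))]
    [IsProper (X ↘ (Spec (CommRingCat.of k)))] [IsNoetherian X]

/-- ampleness on a reduced irreducible component of a proper scheme of dimension `≤ 1` is
positivity of the degree when the component is one-dimensional, and automatic otherwise -/
theorem isAmple_component_iff (hdim : topologicalKrullDim X ≤ 1) (L : X.Modules)
    (hL : PicF.IsInvertible L) (C : Set X) (hC : C ∈ irreducibleComponents (X : Type u)) :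
    CohB1.IsAmple ((Scheme.Modules.pullback (cI C hC).subschemeι).obj L) ↔
      (topologicalKrullDim C = 1 →
        0 < @Curv2.deg k _ (cI C hC).subscheme
          ⟨(cI C hC).subschemeι ≫ (X ↘ (Spec (CommRingCat.of k)))⟩
          ((Scheme.Modules.pullback (cI C hC).subschemeι).obj L) 1) := by
  haveI := isIntegral_cS C hC
  letI : (cI C hC).subscheme.Over (Spec (CommRingCat.of k)) :=
    ⟨(cI C hC).subschemeι ≫ (X ↘ Spec (CommRingCat.of k))⟩
  haveI : IsProper ((cI C hC).subscheme ↘ Spec (CommRingCat.of k)) :=
    inferInstanceAs (IsProper ((cI C hC).subschemeι ≫ (X ↘ Spec (CommRingCat.of k))))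
  have hL' := Groth.Agent.Lib.Helper23.PB.isInvertible_pullback (cI C hC).subschemeι L hL
  have hdC : topologicalKrullDim C ≤ 1 := (topologicalKrullDim_subspace_le X C).trans hdim
  by_cases hd : topologicalKrullDim C = 1
  · have hdimW : topologicalKrullDim (cI C hC).subscheme = 1 := (dim_cS C hC).trans hd
    rw [s1530 k (cI C hC).subscheme hdimW _ hL']
    exact ⟨fun h _ => h, fun h => h hd⟩
  · have h0 : topologicalKrullDim C ≤ 0 := by
      by_contra h0
      exact hd (eq_one_of_le_one_of_not_le_zero _ hdC h0)
    have hW0 : topologicalKrullDim (cI C hC).subscheme ≤ 0 := (dim_cS C hC).le.trans h0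
    haveI : IsNoetherian (cI C hC).subscheme :=
      Groth.Agent.Lib.R2H1.CurveEuler.isNoetherian_of_proper k (cI C hC).subscheme
    haveI := isAffine_of_irreducible_of_dim_le_zero (cI C hC).subscheme hW0
    exact ⟨fun _ h => absurd h hd,
      fun _ => Groth.Agent.Lib.Helper23.SecTw.isAmple_of_isQuasiAffine _ hL'⟩

theorem s7642_of
    (h11559 : ∀ (L : X.Modules), PicF.IsInvertible L →
      (CohB1.IsAmple L ↔
        ∀ Z : Closeds ↥X, (Z : Set ↥X) ∈ irreducibleComponents ↥X →
          CohB1.IsAmple ((Scheme.Modules.pullback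
            (Scheme.IdealSheafData.vanishingIdeal Z).subschemeι).obj L)))
    (hdim : topologicalKrullDim X ≤ 1) (L : X.Modules) (hL : PicF.IsInvertible L) :
    CohB1.IsAmple L ↔ ∀ (C : Set X) (hC : C ∈ irreducibleComponents (X : Type u)),
      topologicalKrullDim C = 1 → 0 < @Curv2.deg k _ (X.irreducibleComponentIdeal C hC).radical.subscheme ⟨(X.irreducibleComponentIdeal C hC).radical.subschemeι ≫ (X ↘ (Spec (CommRingCat.of k)))⟩ ((Scheme.Modules.pullback (X.irreducibleComponentIdeal C hC).radical.subschemeι).obj L) 1 := by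
  rw [h11559 L hL]
  constructor
  · intro h C hC
    have h1 := h ⟨C, isClosed_of_mem_irreducibleComponents C hC⟩ hC
    rw [vanishingIdeal_eq_cI ⟨C, isClosed_of_mem_irreducibleComponents C hC⟩ hC] at h1
    exact (isAmple_component_iff k X hdim L hL C hC).mp h1
  · intro h Z hZ
    rw [vanishingIdeal_eq_cI Z hZ]
    exact (isAmple_component_iff k X hdim L hL (Z : Set X) hZ).mpr (h (Z : Set X) hZ)

end Part2

end Groth.Agent.Lib.R2H1.AmpleComp
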