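/-
R2H1BivarBirat: a bivariant class vanishing on proper birational modifications of integral test schemes vanishes (S17577): the coproduct of the modifications of the closures of the points in the support of a cycle, as a test square.
-/
import Mathlib
import Groth.Prelude
import Groth.Agent.Lib.R2H1Clopen
import Groth.Agent.Lib.R2H1SigmaProper
import Groth.Agent.Lib.R2H1ProperPushRat
import Groth.Agent.Lib.R2H1Envelope

set_option autoImplicit false
set_option linter.style.haveILetI false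
set_option linter.unusedSectionVars false
universe u v

namespace Groth.Agent.Lib.R2H1.BivarBirat

section Part1

open AlgebraicGeometry CategoryTheory TopologicalSpace Opposite CategoryTheory.Limits
  Groth.Agent.Lib.R2H1.Clopen Groth.Agent.Lib.R2H1.SigmaProper Bivar Groth.Agent.Lib.R2H1.ProperPushRat
  Groth.Agent.Lib.R2H1.BivarC1 Groth.Agent.Lib.R2H1.ChowDesc Groth.Agent.Lib.R2H1.BivarEnv
  Groth.Agent.Lib.R2H1.RelDimBC Groth.Agent.Lib.R2H1.PerfCyc

section General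

variable {X Y : Scheme.{u}}

theorem residueFieldMap_surjective_of_stalkMap (j : Y ⟶ X) (η : Y)
    (h : Function.Surjective (j.stalkMap η).hom) :
    Function.Surjective (j.residueFieldMap η).hom := by
  intro b
  obtain ⟨b', rfl⟩ := Y.residue_surjective η b
  obtain ⟨a, rfl⟩ := h b'
  refine ⟨X.residue (j η) a, ?_⟩
  exact ConcreteCategory.congr_hom (Scheme.residue_residueFieldMap j η) a

theorem range_snd_of_isPullback {P A B C : Scheme.{u}} {fst : P ⟶ A} {snd : P ⟶ B} {f : A ⟶ C}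
    {g : B ⟶ C} (h : IsPullback fst snd f g) : Set.range snd = g ⁻¹' Set.range f := by
  have := Scheme.image_preimage_eq_of_isPullback h Set.univ
  rw [Set.preimage_univ, Set.image_univ, Set.image_univ] at this
  exact this

end General

variable {X Y : Scheme.{u}} {f : X ⟶ Y} {δX : X → ℤ} {δY : Y → ℤ}

/-- the closure of a point of the test scheme, as a square over `s₀.f'`. -/
@[reducible] noncomputable def ptSq (s₀ : Sq f δX δY) (η : s₀.Y') :
    Sq s₀.f' s₀.δX' s₀.δY' where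
  Y' := ptScheme s₀.Y' η
  X' := pullback (ptι s₀.Y' η) s₀.f'
  g := ptι s₀.Y' η
  f' := pullback.fst (ptι s₀.Y' η) s₀.f'
  g' := pullback.snd (ptι s₀.Y' η) s₀.f'
  isPullback := IsPullback.of_hasPullback _ _
  lft := inferInstance
  δY' := fun y => s₀.δY' (ptι s₀.Y' η y)
  δX' := fun x => s₀.δX' (pullback.snd (ptι s₀.Y' η) s₀.f' x)
  compatY := deltaCompat_closedImmersion _ _
  compatX := deltaCompat_closedImmersion _ _

/-- the closure of a point of the test scheme, as a square over `f`. -/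
@[reducible] noncomputable def ptU (s₀ : Sq f δX δY) (η : s₀.Y') : Sq f δX δY :=
  s₀.paste (ptSq s₀ η)

instance (s₀ : Sq f δX δY) (η : s₀.Y') : IsIntegral (ptU s₀ η).Y' :=
  (inferInstance : IsIntegral (ptScheme s₀.Y' η))

section Data

variable (s₀ : Sq f δX δY)
  (t : ∀ η : s₀.Y', Sq (ptU s₀ η).f' (ptU s₀ η).δX' (ptU s₀ η).δY')
  [hprop : ∀ η, IsProper (t η).g] (α : AlgebraicCycle s₀.Y' ℤ)

/-- the index set: the support of the cycle. -/
abbrev Idx := {η : s₀.Y' // α η ≠ 0}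

/-- the component maps to the test scheme. -/
noncomputable def Ga (a : Idx s₀ α) : (t a.1).Y' ⟶ s₀.Y' := (t a.1).g ≫ ptι s₀.Y' a.1

instance (a : Idx s₀ α) : IsProper (Ga s₀ t α a) := by
  haveI i1 : IsProper (t a.1).g := hprop a.1
  haveI i2 : IsProper (ptι s₀.Y' a.1) := inferInstance
  exact (inferInstance : IsProper ((t a.1).g ≫ ptι s₀.Y' a.1))

theorem range_Ga_subset (a : Idx s₀ α) : Set.range (Ga s₀ t α a) ⊆ closure {a.1} := by
  rw [← range_ptι]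
  rintro _ ⟨x, rfl⟩
  exact ⟨(t a.1).g x, rfl⟩

theorem hlf (y : s₀.Y') : ∃ U : Set s₀.Y', IsOpen U ∧ y ∈ U ∧
    {a : Idx s₀ α | (Set.range (Ga s₀ t α a) ∩ U).Nonempty}.Finite := by
  obtain ⟨U0, hU0, hfin⟩ := α.supportLocallyFiniteWithinDomain' y (Set.mem_univ _)
  refine ⟨interior U0, isOpen_interior, mem_interior_iff_mem_nhds.2 hU0, ?_⟩
  refine (hfin.preimage (f := (Subtype.val : Idx s₀ α → s₀.Y')) Subtype.val_injective.injOn).subset ?_
  rintro a ⟨x, hx1, hx2⟩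
  have hsp : a.1 ⤳ x := specializes_iff_mem_closure.mpr (range_Ga_subset s₀ t α a hx1)
  have : a.1 ∈ interior U0 := hsp.mem_open isOpen_interior hx2
  exact ⟨interior_subset this, a.2⟩

/-- the map from the coproduct to the test scheme. -/
noncomputable def G : (∐ fun a : Idx s₀ α => (t a.1).Y') ⟶ s₀.Y' := Sigma.desc (Ga s₀ t α)

theorem isProper_G (hYs : Cyc.IsSetup Y δY) : IsProper (G s₀ t α) := by
  haveI : IsLocallyNoetherian s₀.Y' := (isSetup_Y' hYs s₀).1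
  exact isProper_sigmaDesc _ (Ga s₀ t α) (hlf s₀ t α)

/-- the coproduct of the components, as a square over `s₀.f'`. -/
noncomputable def TSq (hYs : Cyc.IsSetup Y δY) : Sq s₀.f' s₀.δX' s₀.δY' :=
  haveI := isProper_G s₀ t α hYs
  { Y' := ∐ fun a : Idx s₀ α => (t a.1).Y'
    X' := pullback (G s₀ t α) s₀.f'
    g := G s₀ t α
    f' := pullback.fst (G s₀ t α) s₀.f'
    g' := pullback.snd (G s₀ t α) s₀.f'
    isPullback := IsPullback.of_hasPullback _ _
    lft := inferInstance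
    δY' := indDelta (G s₀ t α) s₀.δY'
    δX' := indDelta (pullback.snd (G s₀ t α) s₀.f') s₀.δX'
    compatY := deltaCompat_indDelta _ _
    compatX := deltaCompat_indDelta _ _ }

/-- the coproduct of the components, as a square over `f`. -/
noncomputable def T₀ (hYs : Cyc.IsSetup Y δY) : Sq f δX δY := s₀.paste (TSq s₀ t α hYs)

/-- the component, as a square over `f`. -/
noncomputable def Ua (a : Idx s₀ α) : Sq f δX δY := (ptU s₀ a.1).paste (t a.1)

/-- the inclusion of a component. -/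
noncomputable def ιY (a : Idx s₀ α) :
    (t a.1).Y' ⟶ ∐ fun a : Idx s₀ α => (t a.1).Y' :=
  Sigma.ι (fun a : Idx s₀ α => (t a.1).Y') a

theorem ιY_G (a : Idx s₀ α) : ιY s₀ t α a ≫ G s₀ t α = Ga s₀ t α a := Sigma.ι_desc _ _

theorem ιX_cond (a : Idx s₀ α) :
    ((t a.1).f' ≫ ιY s₀ t α a) ≫ G s₀ t α =
      ((t a.1).g' ≫ pullback.snd (ptι s₀.Y' a.1) s₀.f') ≫ s₀.f' := by
  have h1 : (t a.1).f' ≫ (t a.1).g = (t a.1).g' ≫ pullback.fst (ptι s₀.Y' a.1) s₀.f' :=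
    (t a.1).isPullback.w
  rw [Category.assoc, ιY_G, Ga, ← Category.assoc, h1, Category.assoc, pullback.condition,
    Category.assoc]

/-- the inclusion of a component of the fibre product. -/
noncomputable def ιX (a : Idx s₀ α) : (t a.1).X' ⟶ pullback (G s₀ t α) s₀.f' :=
  pullback.lift ((t a.1).f' ≫ ιY s₀ t α a)
    ((t a.1).g' ≫ pullback.snd (ptι s₀.Y' a.1) s₀.f') (ιX_cond s₀ t α a)

theorem ιX_fst (a : Idx s₀ α) :
    ιX s₀ t α a ≫ pullback.fst (G s₀ t α) s₀.f' = (t a.1).f' ≫ ιY s₀ t α a :=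
  pullback.lift_fst _ _ _

theorem ιX_snd (a : Idx s₀ α) :
    ιX s₀ t α a ≫ pullback.snd (G s₀ t α) s₀.f' =
      (t a.1).g' ≫ pullback.snd (ptι s₀.Y' a.1) s₀.f' :=
  pullback.lift_snd _ _ _

theorem isPullback_ιX (a : Idx s₀ α) :
    IsPullback (t a.1).f' (ιX s₀ t α a) (ιY s₀ t α a) (pullback.fst (G s₀ t α) s₀.f') := by
  have hbig : IsPullback (t a.1).f' ((t a.1).g' ≫ pullback.snd (ptι s₀.Y' a.1) s₀.f')
      ((t a.1).g ≫ ptι s₀.Y' a.1) s₀.f' :=
    (t a.1).isPullback.paste_vert (ptSq s₀ a.1).isPullback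
  rw [← ιX_snd, ← Ga, ← ιY_G] at hbig
  exact IsPullback.of_bot hbig (ιX_fst s₀ t α a).symm (IsPullback.of_hasPullback _ _)

instance (a : Idx s₀ α) : IsOpenImmersion (ιY s₀ t α a) :=
  (inferInstance : IsOpenImmersion (Sigma.ι (fun a : Idx s₀ α => (t a.1).Y') a))

instance (a : Idx s₀ α) : IsOpenImmersion (ιX s₀ t α a) :=
  MorphismProperty.of_isPullback (P := @IsOpenImmersion) (isPullback_ιX s₀ t α a) inferInstance

theorem ιY_disj (a b : Idx s₀ α) (h : a ≠ b) :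
    Disjoint (Set.range (ιY s₀ t α a)) (Set.range (ιY s₀ t α b)) :=
  sigma_disj _ a b h

theorem ιY_cov (y : ↥(∐ fun a : Idx s₀ α => (t a.1).Y')) : ∃ a, y ∈ Set.range (ιY s₀ t α a) :=
  sigma_cov _ y

theorem range_ιX (a : Idx s₀ α) : Set.range (ιX s₀ t α a) =
    (pullback.fst (G s₀ t α) s₀.f') ⁻¹' Set.range (ιY s₀ t α a) :=
  range_snd_of_isPullback (isPullback_ιX s₀ t α a)

theorem ιX_disj (a b : Idx s₀ α) (h : a ≠ b) :
    Disjoint (Set.range (ιX s₀ t α a)) (Set.range (ιX s₀ t α b)) := by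
  rw [range_ιX, range_ιX]
  exact (ιY_disj s₀ t α a b h).preimage _

theorem ιX_cov (x : ↥(pullback (G s₀ t α) s₀.f')) : ∃ a, x ∈ Set.range (ιX s₀ t α a) := by
  obtain ⟨a, ha⟩ := ιY_cov s₀ t α (pullback.fst (G s₀ t α) s₀.f' x)
  exact ⟨a, by rw [range_ιX]; exact ha⟩

end Data

end Part1

section Part2

open AlgebraicGeometry CategoryTheory TopologicalSpace Opposite CategoryTheory.Limits
  Groth.Agent.Lib.R2H1.Clopen Groth.Agent.Lib.R2H1.SigmaProper Bivar Groth.Agent.Lib.R2H1.ProperPushRat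
  Groth.Agent.Lib.R2H1.BivarC1 Groth.Agent.Lib.R2H1.ChowDesc Groth.Agent.Lib.R2H1.BivarEnv
  Groth.Agent.Lib.R2H1.RelDimBC Groth.Agent.Lib.R2H1.PerfCyc
  Groth.Agent.Lib.R2H1.Envelope Groth.Agent.Lib.R2H1.RatEquivClosed

variable {X Y : Scheme.{u}} {f : X ⟶ Y} {δX : X → ℤ} {δY : Y → ℤ}

variable (s₀ : Sq f δX δY)
  (t : ∀ η : s₀.Y', Sq (ptU s₀ η).f' (ptU s₀ η).δX' (ptU s₀ η).δY')
  [hprop : ∀ η, IsProper (t η).g] [hirr : ∀ η, IrreducibleSpace (t η).Y']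
  (α : AlgebraicCycle s₀.Y' ℤ)
  (hgen : ∀ η, (t η).g (genericPoint (t η).Y') = genericPoint (ptU s₀ η).Y')
  (hiso : ∀ η, IsIso ((t η).g.stalkMap (genericPoint (t η).Y')))

include hgen in
theorem Ga_gen (a : Idx s₀ α) : Ga s₀ t α a (genericPoint (t a.1).Y') = a.1 := by
  change ptι s₀.Y' a.1 ((t a.1).g (genericPoint (t a.1).Y')) = a.1
  rw [hgen]
  exact ptι_genericPoint s₀.Y' a.1

include hiso in
theorem Ga_res_surj (a : Idx s₀ α) :
    Function.Surjective ((Ga s₀ t α a).residueFieldMap (genericPoint (t a.1).Y')).hom := by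
  unfold Ga
  rw [Scheme.residueFieldMap_comp]
  have h1 : Function.Surjective
      ((t a.1).g.residueFieldMap (genericPoint (t a.1).Y')).hom := by
    apply residueFieldMap_surjective_of_stalkMap
    haveI := hiso a.1
    exact (ConcreteCategory.bijective_of_isIso ((t a.1).g.stalkMap (genericPoint (t a.1).Y'))).2
  have h2 : Function.Surjective
      ((ptι s₀.Y' a.1).residueFieldMap ((t a.1).g (genericPoint (t a.1).Y'))).hom :=
    (residueFieldMap_bijective (ptι s₀.Y' a.1) _).2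
  exact h1.comp h2

include hiso in
theorem G_res_surj (a : Idx s₀ α) :
    Function.Surjective
      ((G s₀ t α).residueFieldMap (ιY s₀ t α a (genericPoint (t a.1).Y'))).hom := by
  have h1 : Function.Surjective
      ((ιY s₀ t α a ≫ G s₀ t α).residueFieldMap (genericPoint (t a.1).Y')).hom := by
    rw [ιY_G]
    exact Ga_res_surj s₀ t α hiso a
  rw [Scheme.residueFieldMap_comp] at h1
  have h2 : Function.Injective
      ((ιY s₀ t α a).residueFieldMap (genericPoint (t a.1).Y')).hom := RingHom.injective _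
  exact Function.Surjective.of_comp_left h1 h2

include hgen in
theorem G_z (a : Idx s₀ α) : G s₀ t α (ιY s₀ t α a (genericPoint (t a.1).Y')) = a.1 := by
  change (ιY s₀ t α a ≫ G s₀ t α) (genericPoint (t a.1).Y') = a.1
  rw [ιY_G]
  exact Ga_gen s₀ t α hgen a

end Part2

section Part3

open AlgebraicGeometry CategoryTheory TopologicalSpace Opposite CategoryTheory.Limits
  Groth.Agent.Lib.R2H1.Clopen Groth.Agent.Lib.R2H1.SigmaProper Bivar Groth.Agent.Lib.R2H1.ProperPushRat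
  Groth.Agent.Lib.R2H1.BivarC1 Groth.Agent.Lib.R2H1.ChowDesc Groth.Agent.Lib.R2H1.BivarEnv
  Groth.Agent.Lib.R2H1.RelDimBC Groth.Agent.Lib.R2H1.PerfCyc
  Groth.Agent.Lib.R2H1.Envelope Groth.Agent.Lib.R2H1.RatEquivClosed
  Groth.Agent.Lib.R2H1.C1Chow

variable {X Y : Scheme.{u}} {f : X ⟶ Y} {δX : X → ℤ} {δY : Y → ℤ}

variable (s₀ : Sq f δX δY)
  (t : ∀ η : s₀.Y', Sq (ptU s₀ η).f' (ptU s₀ η).δX' (ptU s₀ η).δY')
  [hprop : ∀ η, IsProper (t η).g] [hirr : ∀ η, IrreducibleSpace (t η).Y']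
  (α : AlgebraicCycle s₀.Y' ℤ)
  (hgen : ∀ η, (t η).g (genericPoint (t η).Y') = genericPoint (ptU s₀ η).Y')
  (hiso : ∀ η, IsIso ((t η).g.stalkMap (genericPoint (t η).Y')))
  (hXs : Cyc.IsSetup X δX) (hYs : Cyc.IsSetup Y δY)

theorem q₁ (a : Idx s₀ α) : ιY s₀ t α a ≫ (T₀ s₀ t α hYs).g = (Ua s₀ t α a).g := by
  change ιY s₀ t α a ≫ (G s₀ t α ≫ s₀.g) = (t a.1).g ≫ (ptι s₀.Y' a.1 ≫ s₀.g)
  rw [← Category.assoc, ιY_G, Ga, Category.assoc]

theorem q₂ (a : Idx s₀ α) :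
    ιX s₀ t α a ≫ (T₀ s₀ t α hYs).f' = (Ua s₀ t α a).f' ≫ ιY s₀ t α a :=
  ιX_fst s₀ t α a

theorem q₃ (a : Idx s₀ α) : ιX s₀ t α a ≫ (T₀ s₀ t α hYs).g' = (Ua s₀ t α a).g' := by
  change ιX s₀ t α a ≫ (pullback.snd (G s₀ t α) s₀.f' ≫ s₀.g') =
    (t a.1).g' ≫ (pullback.snd (ptι s₀.Y' a.1) s₀.f' ≫ s₀.g')
  rw [← Category.assoc, ιX_snd, Category.assoc]

theorem compat_ιY (a : Idx s₀ α) :
    Cyc.DeltaCompat (ιY s₀ t α a) (Ua s₀ t α a).δY' (T₀ s₀ t α hYs).δY' := by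
  haveI := (T₀ s₀ t α hYs).lft
  apply deltaCompat_cancel (ιY s₀ t α a) (T₀ s₀ t α hYs).g _ (T₀ s₀ t α hYs).compatY
  rw [q₁]
  exact (Ua s₀ t α a).compatY

theorem compat_ιX (a : Idx s₀ α) :
    Cyc.DeltaCompat (ιX s₀ t α a) (Ua s₀ t α a).δX' (T₀ s₀ t α hYs).δX' := by
  haveI := lft_g' (T₀ s₀ t α hYs)
  apply deltaCompat_cancel (ιX s₀ t α a) (T₀ s₀ t α hYs).g' _ (T₀ s₀ t α hYs).compatX
  rw [q₃]
  exact (Ua s₀ t α a).compatX

open Classical in
/-- the pieces of the cycle on the coproduct. -/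
noncomputable def piece (a : Idx s₀ α) : AlgebraicCycle (t a.1).Y' ℤ :=
  Function.locallyFinsuppWithin.single (genericPoint (t a.1).Y') (α a.1)

open Classical in
theorem piece_apply (a : Idx s₀ α) (y : (t a.1).Y') :
    piece s₀ t α a y = if y = genericPoint (t a.1).Y' then α a.1 else 0 :=
  Function.locallyFinsuppWithin.single_apply

open Classical in
/-- the indicator cycle of the generic point. -/
noncomputable def ind (a : Idx s₀ α) : AlgebraicCycle (t a.1).Y' ℤ :=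
  Function.locallyFinsuppWithin.single (genericPoint (t a.1).Y') 1

open Classical in
theorem ind_apply (a : Idx s₀ α) (y : (t a.1).Y') :
    ind s₀ t α a y = if y = genericPoint (t a.1).Y' then 1 else 0 :=
  Function.locallyFinsuppWithin.single_apply

theorem piece_eq (a : Idx s₀ α) : piece s₀ t α a = α a.1 • ind s₀ t α a := by
  ext y
  rw [Function.locallyFinsuppWithin.coe_zsmul, Pi.smul_apply, piece_apply, ind_apply]
  split_ifs <;> simp

theorem exists_θ : ∃ θ : AlgebraicCycle (∐ fun a : Idx s₀ α => (t a.1).Y') ℤ,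
    ∀ a y, θ (ιY s₀ t α a y) = piece s₀ t α a y :=
  exists_glueCyc (fun a => ιY s₀ t α a) (ιY_disj s₀ t α) (ιY_cov s₀ t α) (piece s₀ t α)

include hgen hiso in
/-- the dimension at the generic point of a component. -/
theorem delta_z (a : Idx s₀ α) :
    (T₀ s₀ t α hYs).δY' (ιY s₀ t α a (genericPoint (t a.1).Y')) = s₀.δY' a.1 := by
  have hc : Cyc.DeltaCompat (G s₀ t α) (T₀ s₀ t α hYs).δY' s₀.δY' := (TSq s₀ t α hYs).compatY
  rw [deltaCompat_iff] at hc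
  obtain ⟨n, hn, hδn⟩ := hc (ιY s₀ t α a (genericPoint (t a.1).Y'))
  rw [resTrdeg_eq_zero_of_surjective _ _ (G_res_surj s₀ t α hiso a)] at hn
  have : n = 0 := by exact_mod_cast hn.symm
  rw [hδn, this, G_z s₀ t α hgen a]
  simp

include hgen hiso hYs in
theorem delta_gen (a : Idx s₀ α) :
    (t a.1).δY' (genericPoint (t a.1).Y') = s₀.δY' a.1 := by
  rw [← delta_z s₀ t α hgen hiso hYs a]
  exact delta_openImmersion (ιY s₀ t α a) _ _ (compat_ιY s₀ t α hYs a) _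

end Part3

section Part4

open AlgebraicGeometry CategoryTheory TopologicalSpace Opposite CategoryTheory.Limits
  Groth.Agent.Lib.R2H1.Clopen Groth.Agent.Lib.R2H1.SigmaProper Bivar Groth.Agent.Lib.R2H1.ProperPushRat
  Groth.Agent.Lib.R2H1.BivarC1 Groth.Agent.Lib.R2H1.ChowDesc Groth.Agent.Lib.R2H1.BivarEnv
  Groth.Agent.Lib.R2H1.RelDimBC Groth.Agent.Lib.R2H1.PerfCyc
  Groth.Agent.Lib.R2H1.Envelope Groth.Agent.Lib.R2H1.RatEquivClosed
  Groth.Agent.Lib.R2H1.C1Chow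

section General

variable {S : Scheme.{u}}

theorem cl_zsmul {δ : S → ℤ} {k : ℤ} (n : ℤ) (e : AlgebraicCycle S ℤ) (he : e ∈ Cyc.Zk S δ k)
    (hne : n • e ∈ Cyc.Zk S δ k) : ChowOps.cl (n • e) hne = n • ChowOps.cl e he := by
  unfold ChowOps.cl
  rw [← map_zsmul]
  rfl

end General

variable {X Y : Scheme.{u}} {f : X ⟶ Y} {δX : X → ℤ} {δY : Y → ℤ}

variable (s₀ : Sq f δX δY)
  (t : ∀ η : s₀.Y', Sq (ptU s₀ η).f' (ptU s₀ η).δX' (ptU s₀ η).δY')
  [hprop : ∀ η, IsProper (t η).g] [hirr : ∀ η, IrreducibleSpace (t η).Y']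
  (α : AlgebraicCycle s₀.Y' ℤ)
  (hgen : ∀ η, (t η).g (genericPoint (t η).Y') = genericPoint (ptU s₀ η).Y')
  (hiso : ∀ η, IsIso ((t η).g.stalkMap (genericPoint (t η).Y')))
  (hXs : Cyc.IsSetup X δX) (hYs : Cyc.IsSetup Y δY)
  (θ : AlgebraicCycle (∐ fun a : Idx s₀ α => (t a.1).Y') ℤ)
  (hθ : ∀ a y, θ (ιY s₀ t α a y) = piece s₀ t α a y)
  (k : ℤ) (hα : α ∈ Cyc.Zk s₀.Y' s₀.δY' k)

include hgen hiso hθ hα in
theorem θ_mem : θ ∈ Cyc.Zk (T₀ s₀ t α hYs).Y' (T₀ s₀ t α hYs).δY' k := by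
  intro z hz
  obtain ⟨a, y, rfl⟩ := ιY_cov s₀ t α z
  have h0 := hθ a y
  rw [piece_apply] at h0
  by_cases h : y = genericPoint (t a.1).Y'
  · exfalso
    apply hz
    rw [h, delta_z s₀ t α hgen hiso hYs a]
    by_contra hne
    exact a.2 (hα a.1 hne)
  · rw [if_neg h] at h0
    exact h0

include hgen hiso hθ hα in
/-- the pushforward of the cycle on the coproduct is the original cycle. -/
theorem map_θ [QuasiCompact (G s₀ t α)] :
    AlgebraicCycle.map (G s₀ t α) (T₀ s₀ t α hYs).δY' s₀.δY' θ = α := by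
  ext y
  rw [map_apply]
  have hsupp : ∀ z, θ z ≠ 0 → ∃ b : Idx s₀ α, z = ιY s₀ t α b (genericPoint (t b.1).Y') := by
    intro z hz
    obtain ⟨b, w, rfl⟩ := ιY_cov s₀ t α z
    rw [hθ, piece_apply] at hz
    split_ifs at hz with h
    · exact ⟨b, by rw [h]⟩
    · exact absurd rfl hz
  by_cases hy : α y = 0
  · rw [hy]
    apply finsum_mem_eq_zero_of_forall_eq_zero
    intro z hz
    by_contra hne
    have hθz : θ z ≠ 0 := fun h0 => hne (by rw [h0, zero_mul])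
    obtain ⟨b, rfl⟩ := hsupp z hθz
    have : G s₀ t α (ιY s₀ t α b (genericPoint (t b.1).Y')) = y := hz
    rw [G_z s₀ t α hgen b] at this
    exact b.2 (this ▸ hy)
  · let a : Idx s₀ α := ⟨y, hy⟩
    have hfib : ∀ z ∈ Function.support (fun z => θ z *
        (AlgebraicCycle.mapCoeff (G s₀ t α) (T₀ s₀ t α hYs).δY' s₀.δY' z : ℤ)),
        z ∈ (G s₀ t α) ⁻¹' {y} ↔ z ∈ ({ιY s₀ t α a (genericPoint (t a.1).Y')} : Set _) := by
      intro z hz
      have hθz : θ z ≠ 0 := fun h0 => hz (by simp only [h0, zero_mul])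
      obtain ⟨b, rfl⟩ := hsupp z hθz
      constructor
      · intro hmem
        have h1 : G s₀ t α (ιY s₀ t α b (genericPoint (t b.1).Y')) = y := hmem
        rw [G_z s₀ t α hgen b] at h1
        have hb : b = a := Subtype.ext h1
        rw [hb]
        rfl
      · intro hmem
        rw [Set.mem_singleton_iff] at hmem
        rw [hmem]
        exact G_z s₀ t α hgen a
    rw [finsum_mem_inter_support_eq' _ _ _ hfib, finsum_mem_singleton, hθ, piece_apply,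
      if_pos rfl]
    unfold AlgebraicCycle.mapCoeff
    rw [if_pos (by rw [delta_z s₀ t α hgen hiso hYs a, G_z s₀ t α hgen a]),
      residueDegree_eq_one_of_surjective _ _ (G_res_surj s₀ t α hiso a)]
    simp [a]

end Part4

section Part5

open AlgebraicGeometry CategoryTheory TopologicalSpace Opposite CategoryTheory.Limits
  Groth.Agent.Lib.R2H1.Clopen Groth.Agent.Lib.R2H1.SigmaProper Bivar Groth.Agent.Lib.R2H1.ProperPushRat
  Groth.Agent.Lib.R2H1.BivarC1 Groth.Agent.Lib.R2H1.ChowDesc Groth.Agent.Lib.R2H1.BivarEnv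
  Groth.Agent.Lib.R2H1.RelDimBC Groth.Agent.Lib.R2H1.PerfCyc
  Groth.Agent.Lib.R2H1.Envelope Groth.Agent.Lib.R2H1.RatEquivClosed
  Groth.Agent.Lib.R2H1.C1Chow

section General

variable {T T' : Scheme.{u}} {δT : T → ℤ} {δT' : T' → ℤ}

theorem zsmul_mem_Zk {k : ℤ} (n : ℤ) (e : AlgebraicCycle T ℤ) (he : e ∈ Cyc.Zk T δT k) :
    n • e ∈ Cyc.Zk T δT k := by
  intro y hy
  rw [Function.locallyFinsuppWithin.coe_zsmul, Pi.smul_apply, he y hy, smul_zero]

theorem op_cl_of_eq_zsmul {k l : ℤ} (op : ChowOps.CH T δT k →+ ChowOps.CH T' δT' l) (n : ℤ)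
    (e : AlgebraicCycle T ℤ) (he : e ∈ Cyc.Zk T δT k) (β : AlgebraicCycle T ℤ)
    (hβ : β ∈ Cyc.Zk T δT k) (hres : β = n • e) (h : op (ChowOps.cl e he) = 0) :
    op (ChowOps.cl β hβ) = 0 := by
  subst hres
  rw [cl_zsmul n e he hβ, map_zsmul, h, smul_zero]

end General

variable {X Y : Scheme.{u}} {f : X ⟶ Y} {δX : X → ℤ} {δY : Y → ℤ}

variable (s₀ : Sq f δX δY)
  (t : ∀ η : s₀.Y', Sq (ptU s₀ η).f' (ptU s₀ η).δX' (ptU s₀ η).δY')
  [hprop : ∀ η, IsProper (t η).g] [hirr : ∀ η, IrreducibleSpace (t η).Y']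
  (α : AlgebraicCycle s₀.Y' ℤ)
  (hgen : ∀ η, (t η).g (genericPoint (t η).Y') = genericPoint (ptU s₀ η).Y')
  (hiso : ∀ η, IsIso ((t η).g.stalkMap (genericPoint (t η).Y')))
  (hXs : Cyc.IsSetup X δX) (hYs : Cyc.IsSetup Y δY)
  (θ : AlgebraicCycle (∐ fun a : Idx s₀ α => (t a.1).Y') ℤ)
  (hθ : ∀ a y, θ (ιY s₀ t α a y) = piece s₀ t α a y)
  (k : ℤ) (hα : α ∈ Cyc.Zk s₀.Y' s₀.δY' k)
  {p : ℤ} (c : Cl p f δX δY)
  (hvan : ∀ (η : s₀.Y') (k : ℤ) (β : AlgebraicCycle (t η).Y' ℤ)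
    (hβ : β ∈ Cyc.Zk (t η).Y' (t η).δY' k), β (genericPoint (t η).Y') = 1 →
    (∀ y : (t η).Y', y ≠ genericPoint (t η).Y' → β y = 0) →
    c.op ((ptU s₀ η).paste (t η)) k (ChowOps.cl β hβ) = 0)

include hgen hiso hYs hα in
theorem ind_mem (a : Idx s₀ α) : ind s₀ t α a ∈ Cyc.Zk (t a.1).Y' (t a.1).δY' k := by
  intro y hy
  rw [ind_apply]
  split_ifs with h
  · exfalso
    apply hy
    rw [h, delta_gen s₀ t α hgen hiso hYs a]
    by_contra hne
    exact a.2 (hα a.1 hne)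
  · rfl

include hgen hiso hθ hα hvan hXs in
/-- the class vanishes on the cycle on the coproduct. -/
theorem op_T₀ (hθk : θ ∈ Cyc.Zk (T₀ s₀ t α hYs).Y' (T₀ s₀ t α hYs).δY' k) :
    c.op (T₀ s₀ t α hYs) k (ChowOps.cl θ hθk) = 0 := by
  apply eq_of_resCH_eq (fun a => ιX s₀ t α a) (ιX_disj s₀ t α) (ιX_cov s₀ t α)
    (isSetup_X' hXs (T₀ s₀ t α hYs)) (fun a => isSetup_X' hXs (Ua s₀ t α a))
    (fun a => compat_ιX s₀ t α hYs a) (k - p)
  intro a
  refine Eq.trans ?_ (map_zero _).symm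
  haveI i1 : @Flat (Ua s₀ t α a).Y' (T₀ s₀ t α hYs).Y' (ιY s₀ t α a) :=
    (inferInstance : Flat (ιY s₀ t α a))
  haveI i2 : @Flat (Ua s₀ t α a).X' (T₀ s₀ t α hYs).X' (ιX s₀ t α a) :=
    (inferInstance : Flat (ιX s₀ t α a))
  have hpull := c.pull (T₀ s₀ t α hYs) (Ua s₀ t α a) (ιY s₀ t α a) (ιX s₀ t α a) 0
    (hasRelDim_openImmersion (ιY s₀ t α a)) (hasRelDim_openImmersion (ιX s₀ t α a))
    (q₁ s₀ t α hYs a) (q₂ s₀ t α hYs a) (q₃ s₀ t α hYs a) k
  have h1 := resCH_of_pullOK (ιY s₀ t α a) (ιX s₀ t α a) (isSetup_Y' hYs (T₀ s₀ t α hYs))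
    (isSetup_X' hXs (T₀ s₀ t α hYs)) (isSetup_Y' hYs (Ua s₀ t α a))
    (isSetup_X' hXs (Ua s₀ t α a)) (compat_ιY s₀ t α hYs a) (compat_ιX s₀ t α hYs a)
    (fun k => c.op (Ua s₀ t α a) k) k (c.op (T₀ s₀ t α hYs) k) hpull (ChowOps.cl θ hθk)
  refine h1.trans ?_
  rw [resCH_cl]
  have hres : resCyc (ιY s₀ t α a) θ = α a.1 • ind s₀ t α a := by
    rw [← piece_eq]
    ext y
    exact hθ a y
  have hind := ind_mem s₀ t α hgen hiso hYs k hα a
  have h0 := hvan a.1 k (ind s₀ t α a) hind (by rw [ind_apply, if_pos rfl])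
    (fun y hy => by rw [ind_apply, if_neg hy])
  exact op_cl_of_eq_zsmul (c.op (Ua s₀ t α a) k) (α a.1) (ind s₀ t α a) hind _ _ hres h0

end Part5

section Part6

open AlgebraicGeometry CategoryTheory TopologicalSpace Opposite CategoryTheory.Limits
  Groth.Agent.Lib.R2H1.Clopen Groth.Agent.Lib.R2H1.SigmaProper Bivar Groth.Agent.Lib.R2H1.ProperPushRat
  Groth.Agent.Lib.R2H1.BivarC1 Groth.Agent.Lib.R2H1.ChowDesc Groth.Agent.Lib.R2H1.BivarEnv
  Groth.Agent.Lib.R2H1.RelDimBC Groth.Agent.Lib.R2H1.PerfCyc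
  Groth.Agent.Lib.R2H1.Envelope Groth.Agent.Lib.R2H1.RatEquivClosed
  Groth.Agent.Lib.R2H1.C1Chow

section General

variable {S S' T T' : Scheme.{u}} {δS : S → ℤ} {δS' : S' → ℤ} {δT : T → ℤ} {δT' : T' → ℤ}

/-- if an operation compatible with proper pushforward kills a class, the pushed-forward
operation kills the pushed-forward class. -/
theorem push_zero (hT' : Cyc.IsSetup T' δT') (hS' : Cyc.IsSetup S' δS') (h : T ⟶ S) [IsProper h]
    (h' : T' ⟶ S') [IsProper h'] (hδ' : Cyc.DeltaCompat h' δT' δS') {k l : ℤ}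
    (φ : ChowOps.CH T δT k →+ ChowOps.CH T' δT' l) (ψ : ChowOps.CH S δS k →+ ChowOps.CH S' δS' l)
    (hOK : PushOK δT δT' δS δS' h h' φ ψ) (θ : AlgebraicCycle T ℤ) (hθ : θ ∈ Cyc.Zk T δT k)
    (h0 : φ (ChowOps.cl θ hθ) = 0) :
    ψ (ChowOps.cl (AlgebraicCycle.map h δT δS θ) (cycMap_mem_Zk h δT δS k hθ)) = 0 := by
  obtain ⟨β, hβ, e1, e2⟩ := hOK θ hθ
  rw [e2]
  have hz : (0 : AlgebraicCycle T' ℤ) ∈ Cyc.Zk T' δT' l := (ChowOps.zk T' δT' l).zero_mem
  have e3 : ChowOps.cl β hβ = ChowOps.cl 0 hz := by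
    rw [← e1, h0]
    exact cl_zero.symm
  rw [push_cl_eq hT' hS' h' hδ' l β 0 hβ hz e3]
  have e4 : AlgebraicCycle.map h' δT' δS' (0 : AlgebraicCycle T' ℤ) = 0 := cycMap_zero h' δT' δS'
  rw [cl_congr e4 _ ((ChowOps.zk S' δS' l).zero_mem)]
  exact cl_zero

end General

variable {X Y : Scheme.{u}} {f : X ⟶ Y} {δX : X → ℤ} {δY : Y → ℤ}

variable (s₀ : Sq f δX δY)
  (t : ∀ η : s₀.Y', Sq (ptU s₀ η).f' (ptU s₀ η).δX' (ptU s₀ η).δY')
  [hprop : ∀ η, IsProper (t η).g] [hirr : ∀ η, IrreducibleSpace (t η).Y']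
  (α : AlgebraicCycle s₀.Y' ℤ)
  (hgen : ∀ η, (t η).g (genericPoint (t η).Y') = genericPoint (ptU s₀ η).Y')
  (hiso : ∀ η, IsIso ((t η).g.stalkMap (genericPoint (t η).Y')))
  (hXs : Cyc.IsSetup X δX) (hYs : Cyc.IsSetup Y δY)
  (k : ℤ) (hα : α ∈ Cyc.Zk s₀.Y' s₀.δY' k)
  {p : ℤ} (c : Cl p f δX δY)
  (hvan : ∀ (η : s₀.Y') (k : ℤ) (β : AlgebraicCycle (t η).Y' ℤ)
    (hβ : β ∈ Cyc.Zk (t η).Y' (t η).δY' k), β (genericPoint (t η).Y') = 1 →
    (∀ y : (t η).Y', y ≠ genericPoint (t η).Y' → β y = 0) →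
    c.op ((ptU s₀ η).paste (t η)) k (ChowOps.cl β hβ) = 0)

include hgen hiso hXs hYs hvan in
/-- the class vanishes on every cycle of the test scheme. -/
theorem op_s₀ : c.op s₀ k (ChowOps.cl α hα) = 0 := by
  obtain ⟨θ, hθ⟩ := exists_θ s₀ t α
  have hθk := θ_mem s₀ t α hgen hiso hYs θ hθ k hα
  haveI iG : IsProper (G s₀ t α) := isProper_G s₀ t α hYs
  haveI iG' : IsProper (pullback.snd (G s₀ t α) s₀.f') :=
    MorphismProperty.pullback_snd (P := @IsProper) _ _ iG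
  haveI jG : @IsProper (T₀ s₀ t α hYs).Y' s₀.Y' (G s₀ t α) := iG
  haveI jG' : @IsProper (T₀ s₀ t α hYs).X' s₀.X' (pullback.snd (G s₀ t α) s₀.f') := iG'
  have h0 := op_T₀ s₀ t α hgen hiso hXs hYs θ hθ k hα c hvan hθk
  have hpush := c.push s₀ (T₀ s₀ t α hYs) (G s₀ t α) (pullback.snd (G s₀ t α) s₀.f') rfl
    pullback.condition.symm rfl k
  have h1 := push_zero (isSetup_X' hXs (T₀ s₀ t α hYs)) (isSetup_X' hXs s₀) (G s₀ t α)
    (pullback.snd (G s₀ t α) s₀.f') (TSq s₀ t α hYs).compatX (c.op (T₀ s₀ t α hYs) k)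
    (c.op s₀ k) hpush θ hθk h0
  have e := map_θ s₀ t α hgen hiso hYs θ hθ k hα
  rw [← cl_congr e (cycMap_mem_Zk _ _ _ k hθk) hα]
  exact h1

end Part6

section Part7

open AlgebraicGeometry CategoryTheory TopologicalSpace Opposite CategoryTheory.Limits
  Groth.Agent.Lib.R2H1.Clopen Groth.Agent.Lib.R2H1.SigmaProper Bivar Groth.Agent.Lib.R2H1.ProperPushRat
  Groth.Agent.Lib.R2H1.BivarC1 Groth.Agent.Lib.R2H1.ChowDesc Groth.Agent.Lib.R2H1.BivarEnv
  Groth.Agent.Lib.R2H1.RelDimBC Groth.Agent.Lib.R2H1.PerfCyc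
  Groth.Agent.Lib.R2H1.Envelope Groth.Agent.Lib.R2H1.RatEquivClosed
  Groth.Agent.Lib.R2H1.C1Chow

/-- a bivariant class vanishing on proper birational modifications of all integral test
schemes vanishes. -/
theorem main17577 (X Y : Scheme.{u}) (δX : X → ℤ) (δY : Y → ℤ) (hX : Cyc.IsSetup X δX)
    (hY : Cyc.IsSetup Y δY) (f : X ⟶ Y) (p : ℤ) (c : Bivar.Cl p f δX δY)
    (h3 : ∀ (s : Bivar.Sq f δX δY) [AlgebraicGeometry.IsIntegral s.Y'],
      ∃ (t : Bivar.Sq s.f' s.δX' s.δY') (_ : IrreducibleSpace t.Y') (_ : IsProper t.g),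
        t.g (genericPoint t.Y') = genericPoint s.Y' ∧ IsIso (t.g.stalkMap (genericPoint t.Y')) ∧
        ∀ (k : ℤ) (α : AlgebraicCycle t.Y' ℤ) (hα : α ∈ Cyc.Zk t.Y' t.δY' k),
          α (genericPoint t.Y') = 1 → (∀ y : t.Y', y ≠ genericPoint t.Y' → α y = 0) →
          c.op (s.paste t) k (ChowOps.cl α hα) = 0) : c = 0 := by
  apply Cl.ext
  funext s₀ k
  apply AddMonoidHom.ext
  intro x
  obtain ⟨α, hα, rfl⟩ := exists_rep x
  have h3' : ∀ η : s₀.Y', ∃ (t : Sq (ptU s₀ η).f' (ptU s₀ η).δX' (ptU s₀ η).δY')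
      (_ : IrreducibleSpace t.Y') (_ : IsProper t.g),
      t.g (genericPoint t.Y') = genericPoint (ptU s₀ η).Y' ∧
      IsIso (t.g.stalkMap (genericPoint t.Y')) ∧
      ∀ (k : ℤ) (α : AlgebraicCycle t.Y' ℤ) (hα : α ∈ Cyc.Zk t.Y' t.δY' k),
        α (genericPoint t.Y') = 1 → (∀ y : t.Y', y ≠ genericPoint t.Y' → α y = 0) →
        c.op ((ptU s₀ η).paste t) k (ChowOps.cl α hα) = 0 := fun η => h3 (ptU s₀ η)
  choose t hirr hprop hgen hiso hvan using h3'
  exact op_s₀ s₀ t α hgen hiso hX hY k hα c hvan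

end Part7

end Groth.Agent.Lib.R2H1.BivarBirat
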