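/-
The proper pushforward f_* o c of a bivariant class (S17569; helper1, round 2).
Reusable: mkSq (square over f >> g from a square over g and a fibre product), isSetup_mk, compat_mk, cd (induced dimension
function on the canonical fibre product), T (canonical square), opP, opP_cl, opP_spec (computed on ANY fibre product),
map_congr_hom, indMap (induced map of canonical fibre products), indMap_fst/snd/isPullback/compat, sq_compat,
opP_push, opP_pull, opP_gysin, pushCl f hX hY hdf c : Cl p g dY dZ, pushCl_isProperPushClass.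
-/
import Mathlib
import Groth.Prelude
import Groth.Agent.Lib.R2H1BivarFlat
import Groth.Agent.S1859
import Groth.Agent.Lib.R2H1ZeroBC

set_option autoImplicit false
set_option linter.style.haveILetI false
set_option linter.unusedSectionVars false
universe u v

namespace Groth.Agent.Lib.R2H1.BivarPush

section Part1

open CategoryTheory AlgebraicGeometry CategoryTheory.Limits TopologicalSpace
open Bivar Groth.Agent.Lib.R2H1.ChowDesc Groth.Agent.Lib.R2H1.MVClosed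
  Groth.Agent.Lib.R2H1.BivarEnv Groth.Agent.Lib.R2H1.IsoTransport Groth.Agent.Lib.R2H1.BivarFlat

variable {X Y Z : Scheme.{u}} {δX : X → ℤ} {δY : Y → ℤ} {δZ : Z → ℤ} (f : X ⟶ Y) {g : Y ⟶ Z}

/-- the square over `f ≫ g` attached to a square over `g` and a fibre product with `X`. -/
abbrev mkSq (s : Sq g δY δZ) (X' : Scheme.{u}) (f' : X' ⟶ s.X') (gX : X' ⟶ X)
    (hp : IsPullback f' gX s.g' f) (δX' : X' → ℤ) (hX' : Cyc.DeltaCompat gX δX' δX) :
    Sq (f ≫ g) δX δZ :=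
  ⟨s.Y', X', s.g, f' ≫ s.f', gX, hp.paste_horiz s.isPullback, s.lft, s.δY', δX', s.compatY, hX'⟩

theorem isSetup_mk (hX : Cyc.IsSetup X δX) (s : Sq g δY δZ) (X' : Scheme.{u}) (f' : X' ⟶ s.X')
    (gX : X' ⟶ X) (hp : IsPullback f' gX s.g' f) (δX' : X' → ℤ)
    (hX' : Cyc.DeltaCompat gX δX' δX) : Cyc.IsSetup X' δX' :=
  isSetup_X' hX (mkSq f s X' f' gX hp δX' hX')

theorem compat_mk (hδf : Cyc.DeltaCompat f δX δY) (s : Sq g δY δZ) (X' : Scheme.{u})
    (f' : X' ⟶ s.X') [LocallyOfFiniteType f']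
    (gX : X' ⟶ X) (hp : IsPullback f' gX s.g' f) (δX' : X' → ℤ)
    (hX' : Cyc.DeltaCompat gX δX' δX) : Cyc.DeltaCompat f' δX' s.δX' := by
  apply deltaCompat_cancel f' s.g' _ s.compatX
  rw [hp.w]
  exact deltaCompat_comp gX f δX' δX δY hX' hδf

variable [LocallyOfFiniteType g]

theorem lft_snd (s : Sq g δY δZ) : LocallyOfFiniteType (pullback.snd s.g' f) := by
  haveI : LocallyOfFiniteType s.g' := lft_g' s
  infer_instance

/-- the induced dimension function on the canonical fibre product. -/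
noncomputable def cδ (δX : X → ℤ) (s : Sq g δY δZ) : ↥(pullback s.g' f) → ℤ :=
  haveI := lft_snd f s
  indDelta (pullback.snd s.g' f) δX

theorem cδ_compat (δX : X → ℤ) (s : Sq g δY δZ) :
    Cyc.DeltaCompat (pullback.snd s.g' f) (cδ f δX s) δX := by
  haveI := lft_snd f s
  exact deltaCompat_indDelta (pullback.snd s.g' f) δX

/-- the canonical square over `f ≫ g` attached to a square over `g`. -/
noncomputable abbrev T (δX : X → ℤ) (s : Sq g δY δZ) : Sq (f ≫ g) δX δZ :=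
  mkSq f s (pullback s.g' f) (pullback.fst s.g' f) (pullback.snd s.g' f)
    (IsPullback.of_hasPullback s.g' f) (cδ f δX s) (cδ_compat f δX s)

variable [IsProper f]

/-- the operation of the proper pushforward class. -/
noncomputable def opP (hX : Cyc.IsSetup X δX) (hY : Cyc.IsSetup Y δY)
    (hδf : Cyc.DeltaCompat f δX δY) {p : ℤ} (c : Cl p (f ≫ g) δX δZ) (s : Sq g δY δZ) (k : ℤ) :
    ChowOps.CH s.Y' s.δY' k →+ ChowOps.CH s.X' s.δX' (k - p) :=
  (pushCH (isSetup_mk f hX s _ _ _ (IsPullback.of_hasPullback s.g' f) _ (cδ_compat f δX s))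
    (isSetup_X' hY s) (pullback.fst s.g' f)
    (compat_mk f hδf s _ _ _ (IsPullback.of_hasPullback s.g' f) _ (cδ_compat f δX s))
    (k - p)).comp (c.op (T f δX s) k)

theorem opP_cl (hX : Cyc.IsSetup X δX) (hY : Cyc.IsSetup Y δY)
    (hδf : Cyc.DeltaCompat f δX δY) {p : ℤ} (c : Cl p (f ≫ g) δX δZ) (s : Sq g δY δZ) (k : ℤ)
    (α : AlgebraicCycle s.Y' ℤ) (hα : α ∈ Cyc.Zk s.Y' s.δY' k)
    (β : AlgebraicCycle (pullback s.g' f) ℤ) (hβ : β ∈ Cyc.Zk _ (cδ f δX s) (k - p))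
    (h : c.op (T f δX s) k (ChowOps.cl α hα) = ChowOps.cl β hβ) :
    opP f hX hY hδf c s k (ChowOps.cl α hα) =
      ChowOps.cl (AlgebraicCycle.map (pullback.fst s.g' f) (cδ f δX s) s.δX' β)
        (cycMap_mem_Zk _ _ _ (k - p) hβ) := by
  unfold opP
  rw [AddMonoidHom.comp_apply, h, pushCH_cl]

end Part1

section Part2

open CategoryTheory AlgebraicGeometry CategoryTheory.Limits TopologicalSpace
open Bivar Groth.Agent.Lib.R2H1.ChowDesc Groth.Agent.Lib.R2H1.MVClosed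
  Groth.Agent.Lib.R2H1.BivarEnv Groth.Agent.Lib.R2H1.IsoTransport Groth.Agent.Lib.R2H1.BivarFlat

variable {X Y Z : Scheme.{u}} {δX : X → ℤ} {δY : Y → ℤ} {δZ : Z → ℤ} (f : X ⟶ Y) {g : Y ⟶ Z}
  [LocallyOfFiniteType g] [IsProper f]

/-- the proper pushforward class is computed on any fibre product. -/
theorem opP_spec (hX : Cyc.IsSetup X δX) (hY : Cyc.IsSetup Y δY)
    (hδf : Cyc.DeltaCompat f δX δY) {p : ℤ} (c : Cl p (f ≫ g) δX δZ) (s : Sq g δY δZ)
    (X'' : Scheme.{u}) (f'' : X'' ⟶ s.X') [IsProper f''] (gX'' : X'' ⟶ X)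
    (hp : IsPullback f'' gX'' s.g' f) (δX'' : X'' → ℤ) (hX'' : Cyc.DeltaCompat gX'' δX'' δX)
    (k : ℤ) (α : AlgebraicCycle s.Y' ℤ) (hα : α ∈ Cyc.Zk s.Y' s.δY' k)
    (β : AlgebraicCycle X'' ℤ) (hβ : β ∈ Cyc.Zk X'' δX'' (k - p))
    (hyp : c.op (mkSq f s X'' f'' gX'' hp δX'' hX'') k (ChowOps.cl α hα) = ChowOps.cl β hβ) :
    opP f hX hY hδf c s k (ChowOps.cl α hα) =
      ChowOps.cl (AlgebraicCycle.map f'' δX'' s.δX' β)
        (cycMap_mem_Zk f'' δX'' s.δX' (k - p) hβ) := by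
  obtain ⟨e, he1, he2⟩ : ∃ e : X'' ≅ pullback s.g' f, e.hom ≫ pullback.fst s.g' f = f'' ∧
      e.hom ≫ pullback.snd s.g' f = gX'' :=
    ⟨hp.isoPullback, hp.isoPullback_hom_fst, hp.isoPullback_hom_snd⟩
  subst he1 he2
  obtain ⟨β', hβ', h1, h2⟩ := c.push (T f δX s)
    (mkSq f s X'' (e.hom ≫ pullback.fst s.g' f) (e.hom ≫ pullback.snd s.g' f) hp δX'' hX'')
    (𝟙 s.Y') e.hom (by simp) (by simp) rfl k α hα
  have hcl : ChowOps.cl β' hβ' = ChowOps.cl β hβ := h1.symm.trans hyp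
  have e0 : ChowOps.cl (AlgebraicCycle.map (𝟙 s.Y') s.δY' s.δY' α)
      (cycMap_mem_Zk (𝟙 s.Y') s.δY' s.δY' k hα) = ChowOps.cl α hα :=
    cl_congr (AlgebraicCycle.map_id _ _) _ _
  rw [e0] at h2
  rw [opP_cl f hX hY hδf c s k α hα _ _ h2]
  have hXc := isSetup_mk f hX s _ _ _ (IsPullback.of_hasPullback s.g' f) _ (cδ_compat f δX s)
  have hX''s := isSetup_mk f hX s X'' _ _ hp δX'' hX''
  have hδfst := compat_mk f hδf s _ _ _ (IsPullback.of_hasPullback s.g' f) _ (cδ_compat f δX s)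
  haveI := lft_snd f s
  have hδe : Cyc.DeltaCompat e.hom δX'' (cδ f δX s) :=
    deltaCompat_cancel e.hom (pullback.snd s.g' f) hX'' (cδ_compat f δX s)
  have h3 := push_cl_eq hX''s hXc e.hom hδe (k - p) β' β hβ' hβ hcl
  have h4 := push_cl_eq hXc (isSetup_X' hY s) (pullback.fst s.g' f) hδfst (k - p) _ _ _ _ h3
  refine h4.trans ?_
  apply cl_congr
  exact Groth.Agent.S1859.result X'' (pullback s.g' f) s.X' δX'' (cδ f δX s) s.δX' hX''s hXc
    (isSetup_X' hY s) e.hom (pullback.fst s.g' f) hδe hδfst (k - p) β hβ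

end Part2

section Part3

open CategoryTheory AlgebraicGeometry CategoryTheory.Limits TopologicalSpace
open Bivar Groth.Agent.Lib.R2H1.ChowDesc Groth.Agent.Lib.R2H1.MVClosed
  Groth.Agent.Lib.R2H1.BivarEnv Groth.Agent.Lib.R2H1.IsoTransport Groth.Agent.Lib.R2H1.BivarFlat
  Groth.Agent.Lib.R2H1.RelDimBC

theorem map_congr_hom {A B : Scheme.{u}} (f₁ f₂ : A ⟶ B) [QuasiCompact f₁] [QuasiCompact f₂]
    (e : f₁ = f₂) (wA : A → ℤ) (wB : B → ℤ) (β : AlgebraicCycle A ℤ) :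
    AlgebraicCycle.map f₁ wA wB β = AlgebraicCycle.map f₂ wA wB β := by
  subst e
  rfl

variable {X Y Z : Scheme.{u}} {δX : X → ℤ} {δY : Y → ℤ} {δZ : Z → ℤ} (f : X ⟶ Y) {g : Y ⟶ Z}

/-- the induced morphism of canonical fibre products. -/
noncomputable def indMap (s t : Sq g δY δZ) (h' : t.X' ⟶ s.X') (w₃ : h' ≫ s.g' = t.g') :
    pullback t.g' f ⟶ pullback s.g' f :=
  pullback.lift (pullback.fst t.g' f ≫ h') (pullback.snd t.g' f)
    (by rw [Category.assoc, w₃, pullback.condition])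

theorem indMap_fst (s t : Sq g δY δZ) (h' : t.X' ⟶ s.X') (w₃ : h' ≫ s.g' = t.g') :
    indMap f s t h' w₃ ≫ pullback.fst s.g' f = pullback.fst t.g' f ≫ h' :=
  pullback.lift_fst _ _ _

theorem indMap_snd (s t : Sq g δY δZ) (h' : t.X' ⟶ s.X') (w₃ : h' ≫ s.g' = t.g') :
    indMap f s t h' w₃ ≫ pullback.snd s.g' f = pullback.snd t.g' f :=
  pullback.lift_snd _ _ _

theorem indMap_isPullback (s t : Sq g δY δZ) (h' : t.X' ⟶ s.X') (w₃ : h' ≫ s.g' = t.g') :
    IsPullback (pullback.fst t.g' f) (indMap f s t h' w₃) h' (pullback.fst s.g' f) := by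
  refine IsPullback.of_bot ?_ (indMap_fst f s t h' w₃).symm (IsPullback.of_hasPullback s.g' f)
  rw [indMap_snd, w₃]
  exact IsPullback.of_hasPullback t.g' f

variable [LocallyOfFiniteType g]

theorem indMap_compat (s t : Sq g δY δZ) (h' : t.X' ⟶ s.X') (w₃ : h' ≫ s.g' = t.g')
    [LocallyOfFiniteType (indMap f s t h' w₃)] :
    Cyc.DeltaCompat (indMap f s t h' w₃) (cδ f δX t) (cδ f δX s) := by
  apply deltaCompat_cancel (indMap f s t h' w₃) (pullback.snd s.g' f) _ (cδ_compat f δX s)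
  rw [indMap_snd]
  exact cδ_compat f δX t

theorem sq_compat (s t : Sq g δY δZ) (h' : t.X' ⟶ s.X') (w₃ : h' ≫ s.g' = t.g')
    [LocallyOfFiniteType h'] : Cyc.DeltaCompat h' t.δX' s.δX' := by
  apply deltaCompat_cancel h' s.g' _ s.compatX
  rw [w₃]
  exact t.compatX

variable [IsProper f]

theorem opP_push (hX : Cyc.IsSetup X δX) (hY : Cyc.IsSetup Y δY)
    (hδf : Cyc.DeltaCompat f δX δY) {p : ℤ} (c : Cl p (f ≫ g) δX δZ)
    (s t : Sq g δY δZ) (h : t.Y' ⟶ s.Y') [IsProper h] (h' : t.X' ⟶ s.X') [IsProper h']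
    (w₁ : h ≫ s.g = t.g) (w₂ : h' ≫ s.f' = t.f' ≫ h) (w₃ : h' ≫ s.g' = t.g') (k : ℤ) :
    PushOK t.δY' t.δX' s.δY' s.δX' h h' (opP f hX hY hδf c t k) (opP f hX hY hδf c s k) := by
  intro α hα
  haveI : IsProper (indMap f s t h' w₃) :=
    MorphismProperty.of_isPullback (P := @IsProper) (indMap_isPullback f s t h' w₃) inferInstance
  obtain ⟨β, hβ, h1, h2⟩ := c.push (T f δX s) (T f δX t) h (indMap f s t h' w₃) w₁
    (by
      change indMap f s t h' w₃ ≫ pullback.fst s.g' f ≫ s.f' = (pullback.fst t.g' f ≫ t.f') ≫ h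
      rw [← Category.assoc, indMap_fst, Category.assoc, w₂, Category.assoc])
    (indMap_snd f s t h' w₃) k α hα
  refine ⟨_, _, opP_cl f hX hY hδf c t k α hα β hβ h1, ?_⟩
  rw [opP_cl f hX hY hδf c s k _ _ _ _ h2]
  apply cl_congr
  have hXs := isSetup_mk f hX s _ _ _ (IsPullback.of_hasPullback s.g' f) _ (cδ_compat f δX s)
  have hXt := isSetup_mk f hX t _ _ _ (IsPullback.of_hasPullback t.g' f) _ (cδ_compat f δX t)
  have hδs := compat_mk f hδf s _ _ _ (IsPullback.of_hasPullback s.g' f) _ (cδ_compat f δX s)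
  have hδt := compat_mk f hδf t _ _ _ (IsPullback.of_hasPullback t.g' f) _ (cδ_compat f δX t)
  rw [Groth.Agent.S1859.result _ _ _ (cδ f δX t) (cδ f δX s) s.δX' hXt hXs (isSetup_X' hY s)
      (indMap f s t h' w₃) (pullback.fst s.g' f) (indMap_compat f s t h' w₃) hδs (k - p) β hβ,
    Groth.Agent.S1859.result _ _ _ (cδ f δX t) t.δX' s.δX' hXt (isSetup_X' hY t) (isSetup_X' hY s)
      (pullback.fst t.g' f) h' hδt (sq_compat s t h' w₃) (k - p) β hβ]
  exact map_congr_hom _ _ (indMap_fst f s t h' w₃) _ _ β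

theorem opP_pull (hX : Cyc.IsSetup X δX) (hY : Cyc.IsSetup Y δY)
    (hδf : Cyc.DeltaCompat f δX δY) {p : ℤ} (c : Cl p (f ≫ g) δX δZ)
    (s t : Sq g δY δZ) (h : t.Y' ⟶ s.Y') [Flat h] (h' : t.X' ⟶ s.X') [Flat h'] (r : ℕ)
    (hr : Cyc.HasRelDim h r) (hr' : Cyc.HasRelDim h' r)
    (w₁ : h ≫ s.g = t.g) (w₂ : h' ≫ s.f' = t.f' ≫ h) (w₃ : h' ≫ s.g' = t.g') (k : ℤ) :
    PullOK s.δY' s.δX' t.δY' t.δX' h h' (r : ℤ) (opP f hX hY hδf c s k)
      (opP f hX hY hδf c t (k + r)) := by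
  intro α hα
  haveI : LocallyOfFiniteType s.g' := lft_g' s
  haveI : LocallyOfFiniteType t.g' := lft_g' t
  haveI : LocallyOfFiniteType h' := by
    haveI : LocallyOfFiniteType (h' ≫ s.g') := by rw [w₃]; infer_instance
    exact locallyOfFiniteType_of_comp h' s.g'
  haveI : Flat (indMap f s t h' w₃) :=
    MorphismProperty.of_isPullback (P := @Flat) (indMap_isPullback f s t h' w₃) inferInstance
  haveI : LocallyOfFiniteType (indMap f s t h' w₃) :=
    MorphismProperty.of_isPullback (P := @LocallyOfFiniteType) (indMap_isPullback f s t h' w₃)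
      inferInstance
  have hr'' : Cyc.HasRelDim (indMap f s t h' w₃) r :=
    hasRelDim_of_isPullback (indMap_isPullback f s t h' w₃).flip r hr'
  obtain ⟨β, hβ, h1, h2⟩ := c.pull (T f δX s) (T f δX t) h (indMap f s t h' w₃) r hr hr'' w₁
    (by
      change indMap f s t h' w₃ ≫ pullback.fst s.g' f ≫ s.f' = (pullback.fst t.g' f ≫ t.f') ≫ h
      rw [← Category.assoc, indMap_fst, Category.assoc, w₂, Category.assoc])
    (indMap_snd f s t h' w₃) k α hα
  refine ⟨_, _, opP_cl f hX hY hδf c s k α hα β hβ h1, ?_⟩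
  intro α₁ hα₁c hα₁
  obtain ⟨β₁, hβ₁, hβ₁c, h3⟩ := h2 α₁ hα₁c hα₁
  refine ⟨_, _, ?_, opP_cl f hX hY hδf c t (k + r) α₁ hα₁ β₁ hβ₁ h3⟩
  have hδs := compat_mk f hδf s _ _ _ (IsPullback.of_hasPullback s.g' f) _ (cδ_compat f δX s)
  have hδt := compat_mk f hδf t _ _ _ (IsPullback.of_hasPullback t.g' f) _ (cδ_compat f δX t)
  refine ML_sq (indMap_isPullback f s t h' w₃).flip (cδ f δX s) s.δX' t.δX' (cδ f δX t) (r : ℤ)
    hδs hδt ?_ β β₁ hβ₁c
  intro y'
  exact (Groth.Agent.Lib.R2H3.CycFlat.delta_le h' s.δX' t.δX' (isSetup_X' hY t).2.2 (r : ℤ)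
    (shift_of t.δX' s.δX' h' r hr' (sq_compat s t h' w₃)) y').1

end Part3

section Part4

open CategoryTheory AlgebraicGeometry CategoryTheory.Limits TopologicalSpace Opposite
open Bivar Groth.Agent.Lib.R2H1.ChowDesc Groth.Agent.Lib.R2H1.MVClosed
  Groth.Agent.Lib.R2H1.BivarEnv Groth.Agent.Lib.R2H1.IsoTransport Groth.Agent.Lib.R2H1.BivarFlat
  Groth.Agent.Lib.R2H1.RelDimBC Groth.Agent.Lib.R2H1.C1Chow Groth.Agent.Lib.R2H1.BivarC1
  Groth.Agent.Lib.R2H1.GysinComm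
  Groth.Agent.Lib.R2H1.ZeroBC Groth.Agent.Lib.R2H1.ZeroBC Groth.Agent.Lib.R2H1.ZeroBC Groth.Agent.Lib.R2H1.ZeroBC

variable {X Y Z : Scheme.{u}} {δX : X → ℤ} {δY : Y → ℤ} {δZ : Z → ℤ} (f : X ⟶ Y) {g : Y ⟶ Z}
  [LocallyOfFiniteType g] [IsProper f]

theorem opP_gysin (hX : Cyc.IsSetup X δX) (hY : Cyc.IsSetup Y δY)
    (hδf : Cyc.DeltaCompat f δX δY) {p : ℤ} (c : Cl p (f ≫ g) δX δZ)
    (s t : Sq g δY δZ) (i : t.Y' ⟶ s.Y') [IsClosedImmersion i] (j : t.X' ⟶ s.X')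
    [IsClosedImmersion j]
    (w₁ : i ≫ s.g = t.g) (w₂ : j ≫ s.f' = t.f' ≫ i) (w₃ : j ≫ s.g' = t.g')
    (L : s.Y'.Modules) (hL : PicF.IsInvertible L) (σ : L.presheaf.obj (Opposite.op ⊤))
    (hσ : Cyc.IsZeroSchemeOf i L σ)
    (τ : ((Scheme.Modules.pullback s.f').obj L).presheaf.obj (Opposite.op ⊤))
    (hτ : Cyc.IsZeroSchemeOf j ((Scheme.Modules.pullback s.f').obj L) τ) (k : ℤ) :
    GysinOK s.δY' t.δY' s.δX' t.δX' i L σ j ((Scheme.Modules.pullback s.f').obj L) τ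
      (opP f hX hY hδf c s k) (opP f hX hY hδf c t (k - 1)) := by
  intro α hα
  haveI : LocallyOfFiniteType s.g' := lft_g' s
  haveI : LocallyOfFiniteType t.g' := lft_g' t
  have sq := indMap_isPullback f s t j w₃
  haveI : IsClosedImmersion (indMap f s t j w₃) :=
    MorphismProperty.of_isPullback (P := @IsClosedImmersion) sq inferInstance
  have hXs := isSetup_mk f hX s _ _ _ (IsPullback.of_hasPullback s.g' f) _ (cδ_compat f δX s)
  have hXt := isSetup_mk f hX t _ _ _ (IsPullback.of_hasPullback t.g' f) _ (cδ_compat f δX t)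
  have hδs := compat_mk f hδf s _ _ _ (IsPullback.of_hasPullback s.g' f) _ (cδ_compat f δX s)
  have hδt := compat_mk f hδf t _ _ _ (IsPullback.of_hasPullback t.g' f) _ (cδ_compat f δX t)
  haveI : IsLocallyNoetherian (pullback s.g' f) := hXs.1
  have hN := inv_pull s.f' L hL
  have hM₁ := inv_pull (pullback.fst s.g' f) _ hN
  -- the zero scheme structure upstairs
  have hz0 := isZeroSchemeOf_pullback (pullback.fst s.g' f) j _ hN τ hτ
  obtain ⟨e', he1, he2⟩ : ∃ e' : pullback t.g' f ≅ pullback (pullback.fst s.g' f) j,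
      e'.hom ≫ pullback.fst (pullback.fst s.g' f) j = indMap f s t j w₃ ∧
      e'.hom ≫ pullback.snd (pullback.fst s.g' f) j = pullback.fst t.g' f :=
    ⟨sq.flip.isoPullback, sq.flip.isoPullback_hom_fst, sq.flip.isoPullback_hom_snd⟩
  have hz1 : Cyc.IsZeroSchemeOf (indMap f s t j w₃)
      ((Scheme.Modules.pullback (pullback.fst s.g' f)).obj
        ((Scheme.Modules.pullback s.f').obj L)) (pullTop (pullback.fst s.g' f) _ τ) := by
    apply isZeroSchemeOf_of_comp_iso e'.symm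
    have : e'.symm.hom ≫ indMap f s t j w₃ = pullback.fst (pullback.fst s.g' f) j := by
      rw [← he1]
      simp
    rw [this]
    exact hz0
  let Φ := (Scheme.Modules.pullbackComp (pullback.fst s.g' f) s.f').app L
  have hz2 := isZeroSchemeOf_of_moduleIso (indMap f s t j w₃) Φ _ hz1
  obtain ⟨β, hβ, h1, h2⟩ := c.gysin (T f δX s) (T f δX t) i (indMap f s t j w₃) w₁
    (by
      change indMap f s t j w₃ ≫ pullback.fst s.g' f ≫ s.f' = (pullback.fst t.g' f ≫ t.f') ≫ i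
      rw [← Category.assoc, indMap_fst, Category.assoc, w₂, Category.assoc])
    (indMap_snd f s t j w₃) L hL σ hσ _ hz2 k α hα
  refine ⟨_, _, opP_cl f hX hY hδf c s k α hα β hβ h1, ?_⟩
  intro w hw γ hγc hγ w' hw'
  obtain ⟨ζ'', hζ'', hζ''c, h3⟩ := h2 w hw γ hγc hγ
    (fun ξ => fibMap Φ ξ (v₀ _ hM₁ ξ)) (fun ξ => fibMap_ne_zero Φ hM₁ ξ _ (v₀_ne _ hM₁ ξ))
  -- dimension functions on the zero schemes
  have eX : t.δX' = fun z => s.δX' (j z) :=
    deltaCompat_unique j (sq_compat s t j w₃) (deltaCompat_closedImmersion j s.δX')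
  have eXc : cδ f δX t = fun z => cδ f δX s (indMap f s t j w₃ z) :=
    deltaCompat_unique _ (indMap_compat f s t j w₃) (deltaCompat_closedImmersion _ _)
  -- the Gysin pullback downstairs
  have hβ' := cycMap_mem_Zk (pullback.fst s.g' f) (cδ f δX s) s.δX' (k - p) hβ
  obtain ⟨hsupp, hlf, hdim⟩ := c1CapFun_gysin_props j s.δX' (isSetup_X' hY s) _ hN τ hτ
    (k - p) _ hβ' w' hw'
  obtain ⟨ζ, hζ⟩ := exists_restrict_cycle j j.isClosedEmbedding.injective _ hlf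
  have hζk : ζ ∈ Cyc.Zk t.X' t.δX' (k - 1 - p) := by
    intro d hd
    rw [hζ]
    by_contra hne
    apply hd
    have := hdim (j d) hne
    rw [eX]
    change s.δX' (j d) = k - 1 - p
    omega
  refine ⟨ζ, hζk, hζ, ?_⟩
  rw [opP_cl f hX hY hδf c t (k - 1) γ hγ ζ'' hζ'' h3]
  symm
  apply cl_eq_of_ratEquiv
  have hβ2 : β ∈ Cyc.Zk _ (cδ f δX s) (k - 1 - p + 1) := by
    rw [show k - 1 - p + 1 = k - p by ring]; exact hβ
  have key := main1932_sq s.X' (pullback s.g' f) t.X' (pullback t.g' f) s.δX' (cδ f δX s)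
    (isSetup_X' hY s) hXs (pullback.fst s.g' f) hδs _ hN τ j hτ (indMap f s t j w₃)
    (pullback.fst t.g' f) sq.flip (pullTop (pullback.fst s.g' f) _ τ) hz1 (k - 1 - p) β hβ2
    w' hw' (v₀ _ hM₁) (v₀_ne _ hM₁) ζ hζ ζ''
    (fun z => by
      rw [hζ''c z, c1CapFun_gysinChoice_moduleIso hXs.2.2 Φ hM₁]
      rfl)
  rw [← eX, ← eXc] at key
  exact key

end Part4

section Part5

open CategoryTheory AlgebraicGeometry CategoryTheory.Limits TopologicalSpace Opposite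
open Bivar

variable {X Y Z : Scheme.{u}} {δX : X → ℤ} {δY : Y → ℤ} {δZ : Z → ℤ} (f : X ⟶ Y) {g : Y ⟶ Z}
  [LocallyOfFiniteType g] [IsProper f]

/-- the proper pushforward `f_* ∘ c` of a bivariant class. -/
noncomputable def pushCl (hX : Cyc.IsSetup X δX) (hY : Cyc.IsSetup Y δY)
    (hδf : Cyc.DeltaCompat f δX δY) {p : ℤ} (c : Cl p (f ≫ g) δX δZ) : Cl p g δY δZ where
  op s k := opP f hX hY hδf c s k
  push s t h _ h' _ w₁ w₂ w₃ k := opP_push f hX hY hδf c s t h h' w₁ w₂ w₃ k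
  pull s t h _ h' _ r hr hr' w₁ w₂ w₃ k := opP_pull f hX hY hδf c s t h h' r hr hr' w₁ w₂ w₃ k
  gysin s t i _ j _ w₁ w₂ w₃ L hL σ hσ τ hτ k :=
    opP_gysin f hX hY hδf c s t i j w₁ w₂ w₃ L hL σ hσ τ hτ k

theorem pushCl_isProperPushClass (hX : Cyc.IsSetup X δX) (hY : Cyc.IsSetup Y δY)
    (hδf : Cyc.DeltaCompat f δX δY) {p : ℤ} (c : Cl p (f ≫ g) δX δZ) :
    IsProperPushClass f g c (pushCl f hX hY hδf c) :=
  ⟨inferInstance, hδf, fun s X' f' _ gX hp δX' hX' k α hα β hβ hyp =>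
    opP_spec f hX hY hδf c s X' f' gX hp δX' hX' k α hα β hβ hyp⟩

end Part5

end Groth.Agent.Lib.R2H1.BivarPush
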