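/-
Number of maximal ideals of the normalization of a reduced one-dimensional Noetherian local ring with finite normalization equals the number of minimal primes of its completion (S12529). Uses the earlier team's Helper3 Branch/MinLoc/TensorLocal libraries; new here: a Noetherian local ring with principal maximal ideal generated by a regular element is a domain; local domain property of (normalization) ⊗ (completion) at maximal ideals; identification of normRed with the integral closure for reduced rings.
-/
import Mathlib
import Groth.Prelude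
import Groth.Agent.Lib.Helper3Branch
import Groth.Agent.Lib.Helper3MinLoc
import Groth.Agent.Lib.Helper3TensorLocal
import Groth.Agent.Lib.Helper19ComplNoeth

set_option autoImplicit false
set_option linter.style.haveILetI false
set_option linter.unusedSectionVars false
universe u

open IsLocalRing TensorProduct

namespace Groth.Agent.Lib.R2H1.BrCompl

section Part1

/-- A Noetherian local ring whose maximal ideal is generated by a regular element is a domain. -/
theorem isDomain_of_maximalIdeal_eq_span_regular (R : Type*) [CommRing R] [IsNoetherianRing R]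
    [IsLocalRing R] (ϖ : R) (hm : maximalIdeal R = Ideal.span {ϖ}) (hreg : IsSMulRegular R ϖ) :
    IsDomain R := by
  have hpow : ∀ n : ℕ, IsSMulRegular R (ϖ ^ n) := fun n => hreg.pow n
  -- every nonzero element is a unit times a power of ϖ
  have key : ∀ x : R, x ≠ 0 → ∃ (n : ℕ) (u : R), IsUnit u ∧ x = u * ϖ ^ n := by
    intro x hx
    have hinf : (⨅ n : ℕ, maximalIdeal R ^ n) = ⊥ :=
      Ideal.iInf_pow_eq_bot_of_isLocalRing _ (maximalIdeal.isMaximal R).ne_top
    have hex : ∃ n : ℕ, x ∉ maximalIdeal R ^ n := by
      by_contra hcon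
      push_neg at hcon
      have : x ∈ (⨅ n : ℕ, maximalIdeal R ^ n) := by
        rw [Ideal.mem_iInf]; exact hcon
      rw [hinf] at this
      exact hx (by simpa using this)
    classical
    let n := Nat.find hex
    have hn : x ∉ maximalIdeal R ^ n := Nat.find_spec hex
    have hn0 : n ≠ 0 := by
      intro h0
      rw [h0, pow_zero, Ideal.one_eq_top] at hn
      exact hn trivial
    obtain ⟨k, hk⟩ := Nat.exists_eq_succ_of_ne_zero hn0
    have hk' : x ∈ maximalIdeal R ^ k := by
      by_contra hcon
      have := Nat.find_min' hex hcon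
      omega
    rw [hm, Ideal.span_singleton_pow, Ideal.mem_span_singleton'] at hk'
    obtain ⟨u, hu⟩ := hk'
    refine ⟨k, u, ?_, hu.symm⟩
    by_contra hnu
    have hum : u ∈ maximalIdeal R := (mem_maximalIdeal u).mpr hnu
    rw [hm, Ideal.mem_span_singleton'] at hum
    obtain ⟨v, hv⟩ := hum
    apply hn
    rw [hk, hm, Ideal.span_singleton_pow, Ideal.mem_span_singleton']
    refine ⟨v, ?_⟩
    rw [← hu, ← hv, pow_succ]
    ring
  haveI : NoZeroDivisors R := by
    refine ⟨fun {x y} hxy => ?_⟩
    by_contra hcon
    push_neg at hcon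
    obtain ⟨n, u, hu, hx⟩ := key x hcon.1
    obtain ⟨m, v, hv, hy⟩ := key y hcon.2
    have h1 : (u * v) * ϖ ^ (n + m) = 0 := by
      rw [pow_add, ← hxy, hx, hy]; ring
    have h2 : ϖ ^ (n + m) = 0 := by
      have := (hu.mul hv).mul_right_eq_zero.mp h1
      exact this
    have h3 : (1 : R) = 0 := by
      apply hpow (n + m)
      simp [h2]
    exact one_ne_zero h3
  exact NoZeroDivisors.to_isDomain R

/-- Local domain criterion along a flat ring map: if `B → T` is flat, `T` Noetherian, `M` a prime of
`T` generated by the image of `P = M ∩ B`, and `B_P` is a domain whose maximal ideal is principal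
generated by a nonzero element, then `T_M` is a domain. -/
theorem isDomain_localization_of_flat_of_principal (B T : Type*) [CommRing B] [CommRing T]
    [Algebra B T] [Module.Flat B T] [IsNoetherianRing T] (M : Ideal T) [M.IsPrime]
    (P : Ideal B) [P.IsPrime] (hPM : M.comap (algebraMap B T) = P)
    (hMP : M ≤ P.map (algebraMap B T))
    [IsDomain (Localization.AtPrime P)] (π' : Localization.AtPrime P) (hπ0 : π' ≠ 0)
    (hπ : maximalIdeal (Localization.AtPrime P) = Ideal.span {π'}) :
    IsDomain (Localization.AtPrime M) := by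
  let f : Localization.AtPrime P →+* Localization.AtPrime M :=
    Localization.localRingHom P M (algebraMap B T) hPM.symm
  letI : Algebra (Localization.AtPrime P) (Localization.AtPrime M) := f.toAlgebra
  haveI : IsScalarTower B (Localization.AtPrime P) (Localization.AtPrime M) :=
    IsScalarTower.of_algebraMap_eq (fun b => by
      show _ = f (algebraMap B (Localization.AtPrime P) b)
      rw [Localization.localRingHom_to_map]
      exact IsScalarTower.algebraMap_apply B T (Localization.AtPrime M) b)
  haveI : Module.Flat B (Localization.AtPrime M) := Module.Flat.trans B T _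
  haveI : Module.Flat (Localization.AtPrime P) (Localization.AtPrime M) :=
    (Module.flat_iff_of_isLocalization (Localization.AtPrime P) P.primeCompl _).mpr inferInstance
  have hreg : IsSMulRegular (Localization.AtPrime M) (f π') := by
    have h1 : IsSMulRegular (Localization.AtPrime P) π' := by
      intro a b hab
      exact mul_left_cancel₀ hπ0 hab
    exact IsSMulRegular.of_flat h1
  have hmax : maximalIdeal (Localization.AtPrime M) = Ideal.span {f π'} := by
    apply le_antisymm
    · rw [← Localization.AtPrime.map_eq_maximalIdeal]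
      refine (Ideal.map_mono hMP).trans ?_
      rw [Ideal.map_map, Ideal.map_le_iff_le_comap]
      intro b hb
      rw [Ideal.mem_comap, RingHom.comp_apply,
        ← IsScalarTower.algebraMap_apply B T (Localization.AtPrime M),
        IsScalarTower.algebraMap_apply B (Localization.AtPrime P) (Localization.AtPrime M)]
      have h1 : algebraMap B (Localization.AtPrime P) b ∈ maximalIdeal (Localization.AtPrime P) := by
        rw [← Localization.AtPrime.map_eq_maximalIdeal]
        exact Ideal.mem_map_of_mem _ hb
      rw [hπ, Ideal.mem_span_singleton'] at h1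
      obtain ⟨c, hc⟩ := h1
      rw [← hc, map_mul]
      exact Ideal.mul_mem_left _ _ (Ideal.subset_span rfl)
    · rw [Ideal.span_singleton_le_iff_mem]
      have h1 : π' ∈ maximalIdeal (Localization.AtPrime P) := by
        rw [hπ]; exact Ideal.subset_span rfl
      have hloc : IsLocalHom f := Localization.isLocalHom_localRingHom P M _ hPM.symm
      rw [mem_maximalIdeal, mem_nonunits_iff] at h1 ⊢
      intro hu
      exact h1 (hloc.map_nonunit _ hu)
  exact isDomain_of_maximalIdeal_eq_span_regular _ (f π') hmax hreg

end Part1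

section Part2

/-- In a reduced Noetherian local ring of dimension one the maximal ideal contains a
nonzerodivisor. -/
theorem exists_nzd_mem_maximalIdeal (A : Type*) [CommRing A] [IsNoetherianRing A] [IsLocalRing A]
    [IsReduced A] (hdim : ringKrullDim A = 1) :
    ∃ a ∈ maximalIdeal A, a ∈ nonZeroDivisors A := by
  classical
  have hfin : (minimalPrimes A).Finite := minimalPrimes.finite_of_isNoetherianRing A
  have hnot : ¬ ((maximalIdeal A : Set A) ⊆ ⋃ p ∈ (hfin.toFinset : Set (Ideal A)), (p : Set A)) := by
    intro hsub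
    have h2 : ∃ p ∈ hfin.toFinset, maximalIdeal A ≤ p := by
      by_cases hne : hfin.toFinset.Nonempty
      · obtain ⟨p0, hp0⟩ := hne
        exact (Ideal.subset_union_prime (s := hfin.toFinset) (f := fun p => p) p0 p0
          (fun p hp _ _ => ((hfin.mem_toFinset).mp hp).1.1)).mp hsub
      · rw [Finset.not_nonempty_iff_eq_empty] at hne
        rw [hne] at hsub
        simp only [Finset.coe_empty, Set.mem_empty_iff_false, Set.iUnion_of_empty,
          Set.iUnion_empty, Set.subset_empty_iff] at hsub
        exact absurd (hsub ▸ (maximalIdeal A).zero_mem : (0 : A) ∈ (∅ : Set A)) (by simp)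
    obtain ⟨p, hp, hmp⟩ := h2
    have hp' : p ∈ minimalPrimes A := (hfin.mem_toFinset).mp hp
    haveI : p.IsPrime := hp'.1.1
    have hpm : p = maximalIdeal A :=
      le_antisymm (le_maximalIdeal (Ideal.IsPrime.ne_top inferInstance)) hmp
    -- then every prime is maximal, so the dimension is ≤ 0
    have h0 : Ring.KrullDimLE 0 A := by
      refine Ring.KrullDimLE.mk₀ fun I hI => ?_
      have h1 : I ≤ maximalIdeal A := le_maximalIdeal hI.ne_top
      have h2 : p ≤ I := hp'.2 ⟨hI, bot_le⟩ (hpm ▸ h1)
      have : I = maximalIdeal A := le_antisymm h1 (hpm ▸ h2)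
      rw [this]; infer_instance
    have := Ring.krullDimLE_iff.mp h0
    rw [hdim] at this
    exact absurd this (by decide)
  rw [Set.not_subset] at hnot
  obtain ⟨a, ham, hau⟩ := hnot
  refine ⟨a, ham, ?_⟩
  rw [mem_nonZeroDivisors_iff_right]
  intro b hab
  have hb : b ∈ nilradical A := by
    rw [nilradical, ← Ideal.sInf_minimalPrimes, Ideal.mem_sInf]
    intro p hp
    haveI : p.IsPrime := hp.1.1
    have hap : a ∉ p := by
      intro h
      apply hau
      simp only [Set.mem_iUnion]
      exact ⟨p, (hfin.mem_toFinset).mpr hp, h⟩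
    have : b * a ∈ p := by rw [hab]; exact p.zero_mem
    exact (Ideal.IsPrime.mem_or_mem inferInstance this).resolve_right hap
  rw [nilradical_eq_zero] at hb
  simpa using hb

/-- Localizations of a normal integral extension of a one-dimensional local ring at maximal ideals
have principal maximal ideal. -/
theorem exists_generator_maximalIdeal_localization (A B : Type*) [CommRing A] [IsLocalRing A]
    [Ring.KrullDimLE 1 A] [CommRing B] [IsNoetherianRing B] [Algebra A B] [Algebra.IsIntegral A B]
    (a : A) (ham : a ∈ maximalIdeal A) (ha : algebraMap A B a ∈ nonZeroDivisors B)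
    (P : Ideal B) [hP : P.IsMaximal] [IsDomain (Localization.AtPrime P)]
    [IsIntegrallyClosed (Localization.AtPrime P)] :
    ∃ π' : Localization.AtPrime P, π' ≠ 0 ∧
      maximalIdeal (Localization.AtPrime P) = Ideal.span {π'} := by
  have hPA : P.comap (algebraMap A B) = maximalIdeal A :=
    IsLocalRing.eq_maximalIdeal (Ideal.isMaximal_comap_of_isIntegral_of_isMaximal P)
  have haP : algebraMap A B a ∈ P := by
    have : a ∈ P.comap (algebraMap A B) := hPA ▸ ham
    exact this
  -- not a field
  have hnf : ¬ IsField (Localization.AtPrime P) := by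
    rw [IsLocalRing.isField_iff_maximalIdeal_eq]
    intro hbot
    have h1 : algebraMap B (Localization.AtPrime P) (algebraMap A B a) ∈
        maximalIdeal (Localization.AtPrime P) := by
      rw [← Localization.AtPrime.map_eq_maximalIdeal]
      exact Ideal.mem_map_of_mem _ haP
    rw [hbot, Ideal.mem_bot, IsLocalization.map_eq_zero_iff P.primeCompl] at h1
    obtain ⟨s, hs⟩ := h1
    have hs0 : (s : B) = 0 := (mem_nonZeroDivisors_iff_right.mp ha) _ hs
    exact s.2 (hs0 ▸ P.zero_mem)
  -- every nonzero prime is maximal
  have hdim : ∀ Q' : Ideal (Localization.AtPrime P), Q' ≠ ⊥ → Q'.IsPrime →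
      Q' = maximalIdeal (Localization.AtPrime P) := by
    intro Q' hQ0 hQ'
    by_contra hne
    let Q : Ideal B := Q'.comap (algebraMap B (Localization.AtPrime P))
    let N₀ : Ideal B := (⊥ : Ideal (Localization.AtPrime P)).comap
      (algebraMap B (Localization.AtPrime P))
    haveI : Q.IsPrime := Ideal.comap_isPrime _ _
    haveI : N₀.IsPrime := Ideal.comap_isPrime _ _
    have hmapQ : Q.map (algebraMap B (Localization.AtPrime P)) = Q' :=
      IsLocalization.map_comap P.primeCompl _ Q'
    have hmapN : N₀.map (algebraMap B (Localization.AtPrime P)) = ⊥ :=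
      IsLocalization.map_comap P.primeCompl _ ⊥
    have hQP : Q ≤ P := by
      have h1 : Q' ≤ maximalIdeal (Localization.AtPrime P) := le_maximalIdeal hQ'.ne_top
      have h2 := Ideal.comap_mono (f := algebraMap B (Localization.AtPrime P)) h1
      have h3 : Ideal.comap (algebraMap B (Localization.AtPrime P))
          (maximalIdeal (Localization.AtPrime P)) = P := Localization.AtPrime.comap_maximalIdeal
      rwa [h3] at h2
    have hQneP : Q ≠ P := by
      intro h
      apply hne
      rw [← hmapQ, h, Localization.AtPrime.map_eq_maximalIdeal]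
    have hNQ : N₀ ≤ Q := Ideal.comap_mono bot_le
    have hNneQ : N₀ ≠ Q := by
      intro h
      apply hQ0
      rw [← hmapQ, ← h, hmapN]
    obtain ⟨x, hxP, hxQ⟩ := SetLike.exists_of_lt (lt_of_le_of_ne hQP hQneP)
    obtain ⟨y, hyQ, hyN⟩ := SetLike.exists_of_lt (lt_of_le_of_ne hNQ hNneQ)
    have h1 : Q.comap (algebraMap A B) < P.comap (algebraMap A B) :=
      Ideal.comap_lt_comap_of_integral_mem_sdiff hQP ⟨hxP, hxQ⟩ (Algebra.IsIntegral.isIntegral x)
    have h2 : N₀.comap (algebraMap A B) < Q.comap (algebraMap A B) :=
      Ideal.comap_lt_comap_of_integral_mem_sdiff hNQ ⟨hyQ, hyN⟩ (Algebra.IsIntegral.isIntegral y)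
    haveI : (Q.comap (algebraMap A B)).IsPrime := Ideal.comap_isPrime _ _
    haveI : (N₀.comap (algebraMap A B)).IsPrime := Ideal.comap_isPrime _ _
    rcases Ring.krullDimLE_one_iff.mp (inferInstance : Ring.KrullDimLE 1 A)
      (Q.comap (algebraMap A B)) inferInstance with hmin | hmax
    · have := hmin.2 ⟨inferInstance, bot_le⟩ h2.le
      exact absurd (lt_of_lt_of_le h2 this) (lt_irrefl _)
    · have : Q.comap (algebraMap A B) = maximalIdeal A := IsLocalRing.eq_maximalIdeal hmax
      rw [this, hPA] at h1
      exact absurd h1 (lt_irrefl _)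
  have hmne : maximalIdeal (Localization.AtPrime P) ≠ ⊥ :=
    IsLocalRing.isField_iff_maximalIdeal_eq.not.mp hnf
  have huniq : ∃! Q' : Ideal (Localization.AtPrime P), Q' ≠ ⊥ ∧ Q'.IsPrime :=
    ⟨maximalIdeal _, ⟨hmne, inferInstance⟩, fun Q' hQ' => hdim Q' hQ'.1 hQ'.2⟩
  have h34 := (IsDiscreteValuationRing.TFAE (Localization.AtPrime P) hnf).out 3 4
  have hprinc : (maximalIdeal (Localization.AtPrime P)).IsPrincipal :=
    h34.mp ⟨inferInstance, huniq⟩
  obtain ⟨π', hπ'⟩ := hprinc.principal
  refine ⟨π', ?_, ?_⟩
  · intro h0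
    apply hmne
    rw [hπ', h0]
    simp
  · rw [hπ']

end Part2

section Part3

open Groth.Agent.Lib.Helper3

variable (A : Type u) [CommRing A] [IsNoetherianRing A] [IsLocalRing A]

/-- the completion has the same residue field -/
theorem hres_completion (s : AdicCompletion (maximalIdeal A) A) :
    ∃ a : A, s - algebraMap A (AdicCompletion (maximalIdeal A) A) a ∈
      maximalIdeal (AdicCompletion (maximalIdeal A) A) := by
  rcases Ideal.Quotient.mk_surjective (s.1 1) with ⟨z, hz⟩
  refine ⟨z, ?_⟩
  rw [AdicCompletion.mem_maximalIdeal_iff_eval_one_eq_zero]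
  have : (algebraMap A (AdicCompletion (maximalIdeal A) A) z).1 1 = s.1 1 := by
    rw [← hz]; rfl
  change s.1 1 - (algebraMap A (AdicCompletion (maximalIdeal A) A) z).1 1 = 0
  rw [this, sub_self]

variable [IsReduced A]

theorem algebraMap_normRed_mem_nonZeroDivisors (a : A) (ha : a ∈ nonZeroDivisors A) :
    algebraMap A (CAlg2.normRed A) a ∈ nonZeroDivisors (CAlg2.normRed A) := by
  have h1 : Ideal.Quotient.mk (nilradical A) a ∈ nonZeroDivisors (CAlg2.red A) := by
    rw [mem_nonZeroDivisors_iff_right]
    intro y hy
    obtain ⟨b, rfl⟩ := Ideal.Quotient.mk_surjective y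
    rw [← map_mul, Ideal.Quotient.eq_zero_iff_mem, nilradical_eq_zero, Ideal.zero_eq_bot,
      Ideal.mem_bot] at hy
    have : b = 0 := (mem_nonZeroDivisors_iff_right.mp ha) b hy
    rw [this, map_zero]
  have h2 : IsUnit (algebraMap (CAlg2.red A) (FractionRing (CAlg2.red A))
      (Ideal.Quotient.mk (nilradical A) a)) :=
    IsLocalization.map_units (FractionRing (CAlg2.red A)) ⟨_, h1⟩
  rw [mem_nonZeroDivisors_iff_right]
  intro x hx
  have h3 : (x : FractionRing (CAlg2.red A)) *
      algebraMap (CAlg2.red A) (FractionRing (CAlg2.red A))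
        (Ideal.Quotient.mk (nilradical A) a) = 0 := by
    have := congrArg (Subtype.val) hx
    exact this
  have h4 : (x : FractionRing (CAlg2.red A)) = 0 := h2.mul_left_eq_zero.mp h3
  exact Subtype.ext h4

end Part3

section Part4

open Groth.Agent.Lib.Helper3 Groth.Agent.Lib.Helper3.TensorLocal

section generic

variable {A B S : Type*} [CommRing A] [CommRing B] [CommRing S] [Algebra A B] [Algebra A S]
  [IsLocalRing S] [Algebra.IsIntegral A B]

theorem le_map_comap_of_isMaximal
    (hres : ∀ s : S, ∃ a : A, s - algebraMap A S a ∈ maximalIdeal S)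
    (𝔪 : Ideal A) (hm : maximalIdeal S = 𝔪.map (algebraMap A S))
    (M : Ideal (B ⊗[A] S)) [M.IsMaximal] :
    M ≤ (M.comap (algebraMap B (B ⊗[A] S))).map (algebraMap B (B ⊗[A] S)) := by
  have hKM : K A B S ≤ M := K_le_of_isMaximal M
  have hKP : K A B S ≤ (M.comap (algebraMap B (B ⊗[A] S))).map (algebraMap B (B ⊗[A] S)) := by
    rw [K, hm, Ideal.map_map, Ideal.map_le_iff_le_comap]
    intro x hx
    rw [Ideal.mem_comap]
    have h1 : ((Algebra.TensorProduct.includeRight : S →ₐ[A] B ⊗[A] S).toRingHom.comp
        (algebraMap A S)) x = algebraMap B (B ⊗[A] S) (algebraMap A B x) := by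
      have := congr($(Algebra.TensorProduct.includeLeftRingHom_comp_algebraMap (R := A)
        (A := B) (B := S)) x)
      exact this.symm
    rw [h1]
    apply Ideal.mem_map_of_mem
    show algebraMap B (B ⊗[A] S) (algebraMap A B x) ∈ M
    rw [← h1]
    apply hKM
    apply Ideal.mem_map_of_mem
    rw [hm]
    exact Ideal.mem_map_of_mem _ hx
  intro t ht
  obtain ⟨b, hb⟩ := exists_sub_mem_K (B := B) hres t
  have hbM : b ⊗ₜ[A] (1 : S) ∈ M := by
    have := sub_mem ht (hKM hb)
    simpa using this
  have hbP : b ∈ M.comap (algebraMap B (B ⊗[A] S)) := hbM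
  have : t = (t - b ⊗ₜ[A] (1 : S)) + algebraMap B (B ⊗[A] S) b := by
    rw [Algebra.TensorProduct.algebraMap_apply]
    simp
  rw [this]
  exact add_mem (hKP hb) (Ideal.mem_map_of_mem _ hbP)

theorem ldp_tensor_generic [Module.Flat A S] [IsNoetherianRing (B ⊗[A] S)]
    (hres : ∀ s : S, ∃ a : A, s - algebraMap A S a ∈ maximalIdeal S)
    (𝔪 : Ideal A) (hm : maximalIdeal S = 𝔪.map (algebraMap A S))
    (M : Ideal (B ⊗[A] S)) [hM : M.IsMaximal]
    (hdom : IsDomain (Localization.AtPrime (M.comap (algebraMap B (B ⊗[A] S)))))
    (π' : Localization.AtPrime (M.comap (algebraMap B (B ⊗[A] S)))) (hπ0 : π' ≠ 0)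
    (hπ : maximalIdeal (Localization.AtPrime (M.comap (algebraMap B (B ⊗[A] S)))) =
      Ideal.span {π'}) :
    Branch.LDP M := by
  haveI := hdom
  have := isDomain_localization_of_flat_of_principal B (B ⊗[A] S) M
    (M.comap (algebraMap B (B ⊗[A] S))) rfl (le_map_comap_of_isMaximal hres 𝔪 hm M) π' hπ0 hπ
  exact Branch.ldp_of_isDomain_localization M this

theorem isMaximal_comap_algebraMap
    (hres : ∀ s : S, ∃ a : A, s - algebraMap A S a ∈ maximalIdeal S)
    (M : Ideal (B ⊗[A] S)) [hM : M.IsMaximal] :
    (M.comap (algebraMap B (B ⊗[A] S))).IsMaximal :=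
  Branch.isMaximal_comap_includeLeft hres M

end generic

end Part4

section Part5

open Groth.Agent.Lib.Helper3 Groth.Agent.Lib.Helper3.TensorLocal

variable (A : Type u) [CommRing A] [IsNoetherianRing A] [IsLocalRing A] [IsReduced A]

theorem isNoetherianRing_tensor_completion [Module.Finite A (CAlg2.normRed A)] :
    IsNoetherianRing ((CAlg2.normRed A) ⊗[A] (AdicCompletion (maximalIdeal A) A)) := by
  haveI : IsNoetherianRing (AdicCompletion (maximalIdeal A) A) :=
    Groth.Agent.Lib.Helper19.isNoetherianRing_adicCompletion _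
  haveI : IsNoetherianRing ((AdicCompletion (maximalIdeal A) A) ⊗[A] (CAlg2.normRed A)) :=
    Algebra.FiniteType.isNoetherianRing (AdicCompletion (maximalIdeal A) A) _
  exact isNoetherianRing_of_ringEquiv _
    (Algebra.TensorProduct.comm A (CAlg2.normRed A) (AdicCompletion (maximalIdeal A) A)).symm.toRingEquiv

theorem ldp_tensor_completion (hdim : ringKrullDim A = 1) [Module.Finite A (CAlg2.normRed A)]
    (M : Ideal ((CAlg2.normRed A) ⊗[A] (AdicCompletion (maximalIdeal A) A))) [hM : M.IsMaximal] :
    @Branch.LDP ((CAlg2.normRed A) ⊗[A] (AdicCompletion (maximalIdeal A) A)) _ M := by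
  haveI : Algebra.IsIntegral A (CAlg2.normRed A) := Algebra.IsIntegral.of_finite A _
  haveI : IsNoetherianRing (CAlg2.normRed A) := Algebra.FiniteType.isNoetherianRing A _
  haveI := isNoetherianRing_tensor_completion A
  haveI : Ring.KrullDimLE 1 A := Ring.krullDimLE_iff.mpr (by rw [hdim]; rfl)
  have hres := hres_completion A
  haveI hPmax : (M.comap (algebraMap (CAlg2.normRed A)
      ((CAlg2.normRed A) ⊗[A] (AdicCompletion (maximalIdeal A) A)))).IsMaximal :=
    isMaximal_comap_algebraMap (B := CAlg2.normRed A) hres M
  obtain ⟨hdom, hic⟩ := Branch.normal_normRed A (minimalPrimes.finite_of_isNoetherianRing A)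
    (M.comap (algebraMap (CAlg2.normRed A)
      ((CAlg2.normRed A) ⊗[A] (AdicCompletion (maximalIdeal A) A))))
  haveI := hdom
  haveI := hic
  obtain ⟨a, ham, ha⟩ := exists_nzd_mem_maximalIdeal A hdim
  obtain ⟨π', hπ0, hπ⟩ := exists_generator_maximalIdeal_localization A (CAlg2.normRed A) a ham
    (algebraMap_normRed_mem_nonZeroDivisors A a ha) (M.comap (algebraMap (CAlg2.normRed A)
      ((CAlg2.normRed A) ⊗[A] (AdicCompletion (maximalIdeal A) A))))
  exact ldp_tensor_generic (B := CAlg2.normRed A) hres (maximalIdeal A)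
    AdicCompletion.maximalIdeal_eq_map M hdom π' hπ0 hπ

/-- The count: minimal primes of the completion correspond to maximal ideals of `normRed A`. -/
theorem nonempty_equiv_minimalPrimes_completion (hdim : ringKrullDim A = 1)
    [Module.Finite A (CAlg2.normRed A)] :
    Nonempty (minimalPrimes (AdicCompletion (maximalIdeal A) A) ≃
      MaximalSpectrum (CAlg2.normRed A)) := by
  haveI : Algebra.IsIntegral A (CAlg2.normRed A) := Algebra.IsIntegral.of_finite A _
  haveI : HenselianLocalRing (AdicCompletion (maximalIdeal A) A) :=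
    Branch.henselianLocalRing_of_isAdicComplete _
  haveI : Module.FaithfullyFlat A (AdicCompletion (maximalIdeal A) A) :=
    Module.FaithfullyFlat.of_flat_of_isLocalHom
  have hres := hres_completion A
  have e1 := Set.BijOn.equiv _
    (MinLoc.bijOn_minimalPrimes_normRed_tensor A (AdicCompletion (maximalIdeal A) A))
  have h1 : ∀ q ∈ minimalPrimes ((CAlg2.normRed A) ⊗[A] (AdicCompletion (maximalIdeal A) A)),
      ∃! m : Ideal ((CAlg2.normRed A) ⊗[A] (AdicCompletion (maximalIdeal A) A)),
        m.IsMaximal ∧ q ≤ m := by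
    intro q hq
    haveI : q.IsPrime := hq.1.1
    exact Branch.existsUnique_maximal_ge _ TensorLocal.includeRight_isIntegral q
  have h2 : ∀ m : Ideal ((CAlg2.normRed A) ⊗[A] (AdicCompletion (maximalIdeal A) A)),
      m.IsMaximal → ∃! q : Ideal ((CAlg2.normRed A) ⊗[A] (AdicCompletion (maximalIdeal A) A)),
        q ∈ minimalPrimes ((CAlg2.normRed A) ⊗[A] (AdicCompletion (maximalIdeal A) A)) ∧
          q ≤ m := by
    intro m hm
    haveI : m.IsPrime := hm.isPrime
    haveI := hm
    have hL := ldp_tensor_completion A hdim m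
    exact @Branch.existsUnique_minimalPrimes_le_of_ldp
      ((CAlg2.normRed A) ⊗[A] (AdicCompletion (maximalIdeal A) A)) _ m _ hL
  obtain ⟨e2⟩ := Branch.nonempty_equiv_minimalPrimes_maximalSpectrum
    (T := (CAlg2.normRed A) ⊗[A] (AdicCompletion (maximalIdeal A) A)) h1 h2
  obtain ⟨e3⟩ := Branch.nonempty_equiv_maximalSpectrum_tensor (A := A) (B := CAlg2.normRed A)
    (S := AdicCompletion (maximalIdeal A) A) hres
  exact ⟨e1.symm.trans (e2.trans e3)⟩

end Part5

section Part6

variable (A : Type u) [CommRing A] [IsReduced A]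

/-- `A ≃ A_red` for reduced `A` -/
noncomputable def redEquiv : A ≃+* CAlg2.red A :=
  RingEquiv.ofBijective (Ideal.Quotient.mk (nilradical A))
    ⟨by
      rw [injective_iff_map_eq_zero]
      intro a ha
      rw [Ideal.Quotient.eq_zero_iff_mem, nilradical_eq_zero] at ha
      simpa using ha, Ideal.Quotient.mk_surjective⟩

noncomputable def fracEquiv : FractionRing A ≃+* FractionRing (CAlg2.red A) :=
  IsFractionRing.ringEquivOfRingEquiv (redEquiv A)

theorem fracEquiv_algebraMap (a : A) :
    fracEquiv A (algebraMap A (FractionRing A) a) =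
      algebraMap (CAlg2.red A) (FractionRing (CAlg2.red A)) (Ideal.Quotient.mk (nilradical A) a) :=
  IsFractionRing.ringEquivOfRingEquiv_algebraMap (redEquiv A) a

theorem isIntegral_fracEquiv {x : FractionRing A} (hx : IsIntegral A x) :
    IsIntegral (CAlg2.red A) (fracEquiv A x) := by
  refine IsIntegral.map_of_comp_eq (redEquiv A).toRingHom (fracEquiv A).toRingHom ?_ hx
  ext a
  exact (fracEquiv_algebraMap A a).symm

theorem isIntegral_fracEquiv_symm {y : FractionRing (CAlg2.red A)}
    (hy : IsIntegral (CAlg2.red A) y) : IsIntegral A ((fracEquiv A).symm y) := by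
  refine IsIntegral.map_of_comp_eq (redEquiv A).symm.toRingHom (fracEquiv A).symm.toRingHom ?_ hy
  ext b
  show algebraMap A (FractionRing A) ((redEquiv A).symm (redEquiv A b)) =
    (fracEquiv A).symm (algebraMap _ _ (redEquiv A b))
  rw [RingEquiv.symm_apply_apply, RingEquiv.eq_symm_apply]
  exact fracEquiv_algebraMap A b

/-- the normalization of a reduced ring agrees with `normRed` -/
noncomputable def normEquiv : integralClosure A (FractionRing A) ≃+* CAlg2.normRed A where
  toFun x := ⟨fracEquiv A x.1, isIntegral_fracEquiv A x.2⟩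
  invFun y := ⟨(fracEquiv A).symm y.1, isIntegral_fracEquiv_symm A y.2⟩
  left_inv x := Subtype.ext ((fracEquiv A).symm_apply_apply x.1)
  right_inv y := Subtype.ext ((fracEquiv A).apply_symm_apply y.1)
  map_mul' x y := Subtype.ext (map_mul (fracEquiv A) x.1 y.1)
  map_add' x y := Subtype.ext (map_add (fracEquiv A) x.1 y.1)

theorem normEquiv_algebraMap (a : A) :
    normEquiv A (algebraMap A (integralClosure A (FractionRing A)) a) =
      algebraMap A (CAlg2.normRed A) a :=
  Subtype.ext (fracEquiv_algebraMap A a)

noncomputable def normLin : integralClosure A (FractionRing A) →ₗ[A] CAlg2.normRed A where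
  toFun := normEquiv A
  map_add' := map_add (normEquiv A)
  map_smul' a x := by
    rw [Algebra.smul_def, map_mul, normEquiv_algebraMap, RingHom.id_apply, Algebra.smul_def]

theorem finite_normRed (hfin : Module.Finite A (integralClosure A (FractionRing A))) :
    Module.Finite A (CAlg2.normRed A) :=
  Module.Finite.of_surjective (normLin A) (normEquiv A).surjective

noncomputable def maxEquiv :
    {P : Ideal (integralClosure A (FractionRing A)) // P.IsMaximal} ≃
      MaximalSpectrum (CAlg2.normRed A) where
  toFun P := ⟨P.1.comap (normEquiv A).symm.toRingHom,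
    haveI := P.2; Ideal.comap_isMaximal_of_surjective _ (normEquiv A).symm.surjective⟩
  invFun Q := ⟨Q.asIdeal.comap (normEquiv A).toRingHom,
    haveI := Q.isMaximal; Ideal.comap_isMaximal_of_surjective _ (normEquiv A).surjective⟩
  left_inv P := by
    apply Subtype.ext
    show (P.1.comap (normEquiv A).symm.toRingHom).comap (normEquiv A).toRingHom = P.1
    rw [Ideal.comap_comap]
    ext x
    simp [Ideal.mem_comap]
  right_inv Q := by
    apply MaximalSpectrum.ext
    show (Q.asIdeal.comap (normEquiv A).toRingHom).comap (normEquiv A).symm.toRingHom = Q.asIdeal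
    rw [Ideal.comap_comap]
    ext x
    simp [Ideal.mem_comap]

theorem main_12529 [IsNoetherianRing A] [IsLocalRing A] (hdim : ringKrullDim A = 1)
    (hfin : Module.Finite A (integralClosure A (FractionRing A))) :
    {P : Ideal (integralClosure A (FractionRing A)) | P.IsMaximal}.ncard =
      (minimalPrimes (AdicCompletion (IsLocalRing.maximalIdeal A) A)).ncard := by
  haveI := finite_normRed A hfin
  obtain ⟨e⟩ := nonempty_equiv_minimalPrimes_completion A hdim
  rw [← Nat.card_coe_set_eq, ← Nat.card_coe_set_eq]
  exact Nat.card_congr ((maxEquiv A).trans e.symm)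

end Part6

end Groth.Agent.Lib.R2H1.BrCompl
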