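/-
The first Chern class of an invertible module commutes with operational and bivariant classes (S17573, S17574): the whole scheme is the zero scheme of the zero section, and the Gysin map of that triple is c_1 cap -; so the Gysin compatibility axiom of a bivariant class gives the commutation.
-/
import Mathlib
import Groth.Prelude
import Groth.Agent.Lib.R2H1BivarGysin

set_option autoImplicit false
set_option linter.style.haveILetI false
set_option linter.unusedSectionVars false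
universe u v

namespace Groth.Agent.Lib.R2H1.C1Central

section Part1

open AlgebraicGeometry CategoryTheory TopologicalSpace Opposite CategoryTheory.Limits
  Bivar Groth.Agent.Lib.R2H1.BivarC1 Groth.Agent.Lib.R2H1.C1Chow Groth.Agent.Lib.R2H1.ZeroBC
  Groth.Agent.Lib.R2H1.MVClosed Groth.Agent.Lib.R2H1.BivarEnv

variable {Y : Scheme.{u}}

theorem mk_germ_zero (N : Y.Modules) (x : Y) :
    (Submodule.Quotient.mk ((N.presheaf.germ ⊤ x trivial) (0 : N.presheaf.obj (op ⊤))) :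
      Cyc.secFibre N x) = 0 := by
  rw [map_zero]
  rfl

/-- with the zero section the Gysin choice of rational sections is the fallback. -/
theorem gysinChoice_zero (N : Y.Modules) (w : (ξ : Y) → Cyc.secFibre N ξ) :
    Cyc.gysinChoice N 0 w = w := by
  funext ξ
  unfold Cyc.gysinChoice
  rw [if_neg]
  exact not_not.mpr (mk_germ_zero N ξ)

/-- the whole scheme is the zero scheme of the zero section of an invertible module. -/
theorem isZeroSchemeOf_id_zero (N : Y.Modules) (hN : PicF.IsInvertible N) :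
    Cyc.IsZeroSchemeOf (𝟙 Y) N 0 := by
  refine ⟨?_, fun d => ?_⟩
  · ext x
    simp only [Set.mem_range, Set.mem_setOf_eq]
    exact ⟨fun _ => mk_germ_zero N x, fun _ => ⟨x, rfl⟩⟩
  · obtain ⟨G, hG⟩ := Groth.Agent.Lib.R2H1.C1Comm.exists_gen N hN d
    refine ⟨G.g d hG, 0, ?_, ?_, ?_⟩
    · rw [eq_top_iff]
      intro n _
      obtain ⟨c, hc⟩ := (G.g_bij d hG).2 n
      exact Submodule.mem_span_singleton.2 ⟨c, hc⟩
    · rw [map_zero, zero_smul]
    · rw [Ideal.span_singleton_eq_bot.mpr rfl]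
      have hinj : Function.Injective ((𝟙 Y : Y ⟶ Y).stalkMap d).hom := by
        haveI : IsIso ((𝟙 Y : Y ⟶ Y).stalkMap d) := inferInstance
        exact (ConcreteCategory.bijective_of_isIso ((𝟙 Y : Y ⟶ Y).stalkMap d)).1
      exact (RingHom.injective_iff_ker_eq_bot _).1 hinj

end Part1

section Part2

open AlgebraicGeometry CategoryTheory TopologicalSpace Opposite CategoryTheory.Limits
  Bivar Groth.Agent.Lib.R2H1.BivarC1 Groth.Agent.Lib.R2H1.C1Chow Groth.Agent.Lib.R2H1.ZeroBC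
  Groth.Agent.Lib.R2H1.MVClosed Groth.Agent.Lib.R2H1.BivarEnv

/-- the first Chern class of an invertible module is central among operational classes. -/
theorem main17573 (X : Scheme.{u}) (δX : X → ℤ) (hX : Cyc.IsSetup X δX) (L : X.Modules)
    (c : Bivar.OpCl 1 X δX) (hc : Bivar.IsC1Class L c) (q : ℤ) (d : Bivar.OpCl q X δX)
    (s : Bivar.OSq X δX) (k : ℤ) (x : ChowOps.CH s.Y s.δ k) :
    c.op s (k - q) (d.op s k x) =
      Bivar.chCast s.Y s.δ (sub_right_comm k 1 q) (d.op s (k - 1) (c.op s k x)) := by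
  obtain ⟨α, hα, rfl⟩ := exists_rep x
  have hS := osq_isSetup hX s
  have hN := inv_pull s.g L hc.1
  have hz := isZeroSchemeOf_id_zero ((Scheme.Modules.pullback s.g).obj L) hN
  obtain ⟨β, hβ, e1, e2⟩ := d.gysin s s (𝟙 s.Y) (Category.id_comp _) _ hN 0 hz k α hα
  obtain ⟨γ, hγc, hγ⟩ := exists_c1Cap s.δ hS _ hN k α hα (v₀ _ hN) (v₀_ne _ hN)
  obtain ⟨ζ, hζ, hζc, e3⟩ := e2 (v₀ _ hN) (v₀_ne _ hN) γ
    (fun d => by rw [gysinChoice_zero]; exact congrFun hγc d) hγ
  rw [gysinChoice_zero] at hζc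
  have hζ' : ζ ∈ Cyc.Zk s.Y s.δ (k - q - 1) := by
    rwa [sub_right_comm k q 1]
  rw [e1, hc.2 s k α hα (v₀ _ hN) (v₀_ne _ hN) γ hγc hγ, e3, chCast_cl,
    hc.2 s (k - q) β hβ (v₀ _ hN) (v₀_ne _ hN) ζ (funext hζc) hζ']

end Part2

section Part3

open AlgebraicGeometry CategoryTheory TopologicalSpace Opposite CategoryTheory.Limits
  Bivar Groth.Agent.Lib.R2H1.BivarC1 Groth.Agent.Lib.R2H1.C1Chow Groth.Agent.Lib.R2H1.ZeroBC
  Groth.Agent.Lib.R2H1.MVClosed Groth.Agent.Lib.R2H1.BivarEnv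

/-- the first Chern class of an invertible module commutes with bivariant classes. -/
theorem main17574 (X X' : Scheme.{u}) (δX : X → ℤ) (δX' : X' → ℤ) (hX : Cyc.IsSetup X δX)
    (hX' : Cyc.IsSetup X' δX') (f : X' ⟶ X) [LocallyOfFiniteType f]
    (L : X.Modules) (cX : Bivar.OpCl 1 X δX) (hcX : Bivar.IsC1Class L cX)
    (cX' : Bivar.OpCl 1 X' δX')
    (hcX' : Bivar.IsC1Class ((Scheme.Modules.pullback f).obj L) cX') (p : ℤ)
    (c : Bivar.Cl p f δX' δX) (s : Bivar.Sq f δX' δX) (k : ℤ) (x : ChowOps.CH s.Y' s.δY' k) :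
    c.op s (k - 1) (cX.op ⟨s.Y', s.g, s.lft, s.δY', s.compatY⟩ k x) =
      Bivar.chCast s.X' s.δX' (sub_right_comm k p 1)
        (cX'.op ⟨s.X', s.g', MorphismProperty.of_isPullback s.isPullback s.lft, s.δX',
          s.compatX⟩ (k - p) (c.op s k x)) := by
  obtain ⟨α, hα, rfl⟩ := exists_rep x
  have hYs := isSetup_Y' hX s
  have hXs := isSetup_X' hX' s
  haveI : IsLocallyNoetherian s.X' := hXs.1
  have hN := inv_pull s.g L hcX.1
  have hN' := inv_pull s.f' _ hN
  have hN'' := inv_pull s.g' _ hcX'.1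
  have hz := isZeroSchemeOf_id_zero ((Scheme.Modules.pullback s.g).obj L) hN
  have hz' := isZeroSchemeOf_id_zero
    ((Scheme.Modules.pullback s.f').obj ((Scheme.Modules.pullback s.g).obj L)) hN'
  let Φ : (Scheme.Modules.pullback s.g').obj ((Scheme.Modules.pullback f).obj L) ≅
      (Scheme.Modules.pullback s.f').obj ((Scheme.Modules.pullback s.g).obj L) :=
    pullIso s.g' f (s.g' ≫ f) rfl L ≪≫ (pullIso s.f' s.g (s.g' ≫ f) s.isPullback.w L).symm
  obtain ⟨β, hβ, e1, e2⟩ := c.gysin s s (𝟙 s.Y') (𝟙 s.X') (Category.id_comp _)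
    (by rw [Category.id_comp, Category.comp_id]) (Category.id_comp _) _ hN 0 hz 0 hz' k α hα
  obtain ⟨γ, hγc, hγ⟩ := exists_c1Cap s.δY' hYs _ hN k α hα (v₀ _ hN) (v₀_ne _ hN)
  obtain ⟨ζ, hζ, hζc, e3⟩ := e2 (v₀ _ hN) (v₀_ne _ hN) γ
    (fun d => by rw [gysinChoice_zero]; exact congrFun hγc d) hγ
    (fun ξ => fibMap Φ ξ (v₀ _ hN'' ξ)) (fun ξ => fibMap_ne_zero Φ hN'' ξ _ (v₀_ne _ hN'' ξ))
  rw [gysinChoice_zero, c1CapFun_fibMap hXs.2.2 Φ hN''] at hζc
  have hζ' : ζ ∈ Cyc.Zk s.X' s.δX' (k - p - 1) := by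
    rwa [sub_right_comm k p 1]
  rw [hcX.2 ⟨s.Y', s.g, s.lft, s.δY', s.compatY⟩ k α hα (v₀ _ hN) (v₀_ne _ hN) γ hγc hγ, e3, e1,
    hcX'.2 ⟨s.X', s.g', MorphismProperty.of_isPullback s.isPullback s.lft, s.δX', s.compatX⟩
      (k - p) β hβ (v₀ _ hN'') (v₀_ne _ hN'') ζ (funext hζc) hζ', chCast_cl]

end Part3

end Groth.Agent.Lib.R2H1.C1Central
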