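/-
Modules with a tensor inverse: tensoring is faithful; a nonzero section of the inverse gives a nonzero cosection; S1652 (L tensor M trivial, both with nonzero sections, on integral proper scheme over a field => L trivial).
-/
import Mathlib
import Groth.Prelude
import Groth.Agent.S14808
import Groth.Agent.Lib.Helper21ModTensor7
import Groth.Agent.Lib.Helper21Dual5

set_option autoImplicit false
set_option linter.style.haveILetI false
set_option linter.unusedSectionVars false
universe u v

namespace Groth.Agent.Lib.R2H1.InvPair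

section Part1

open CategoryTheory CategoryTheory.Limits AlgebraicGeometry TopologicalSpace Opposite
open Groth.Agent.Lib.Helper21.ModTensor Groth.Agent.Lib.Helper21.ModTensor2
open Groth.Agent.Lib.Helper21.ModTensor5 Groth.Agent.Lib.Helper21.ModTensor6
open Groth.Agent.Lib.Helper21.ModTensor7 Groth.Agent.Lib.Helper21.ModTensor3

section Site

variable {C : Type u} [SmallCategory C] {J : GrothendieckTopology C} (O : Sheaf J CommRingCat.{u})

/-- tensoring on the left with a module having a tensor inverse is faithful. -/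
theorem faithful_tL_of_inverse (L M : ModSite.Mod O)
    (e : ((ModSite.tensorBi O).obj L).obj M ≅ ModSite.unit O) :
    (tL O L).Faithful := by
  let e' : ((ModSite.tensorBi O).obj M).obj L ≅ ModSite.unit O := brdApp O M L ≪≫ e
  let e2 : tL O L ⋙ tL O M ≅ 𝟭 (ModSite.Mod O) :=
    (tLTensorIso O M L).symm ≪≫ (ModSite.tensorBi O).mapIso e' ≪≫ tLUnitIso O
  exact Functor.Faithful.of_comp_iso e2

/-- from a nonzero section of the inverse, a nonzero cosection -/
theorem exists_cosection (L M : ModSite.Mod O)
    (e : ((ModSite.tensorBi O).obj L).obj M ≅ ModSite.unit O)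
    (t : ModSite.unit O ⟶ M) (ht : t ≠ 0) : ∃ t' : L ⟶ ModSite.unit O, t' ≠ 0 := by
  haveI := faithful_tL_of_inverse O L M e
  have hTt : (tL O L).map t ≠ 0 := by
    intro h
    apply ht
    apply (tL O L).map_injective
    rw [h, Functor.map_zero]
  refine ⟨(Groth.Agent.Lib.Helper21.Dual.rU O L).inv ≫ (tL O L).map t ≫ e.hom, fun h => hTt ?_⟩
  have h2 : (Groth.Agent.Lib.Helper21.Dual.rU O L).inv ≫ ((tL O L).map t ≫ e.hom) =
      (Groth.Agent.Lib.Helper21.Dual.rU O L).inv ≫ 0 := h.trans comp_zero.symm
  have h3 : (tL O L).map t ≫ e.hom = 0 ≫ e.hom :=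
    ((cancel_epi (Groth.Agent.Lib.Helper21.Dual.rU O L).inv).mp h2).trans zero_comp.symm
  exact (cancel_mono e.hom).mp h3

end Site

theorem s1652 (k : Type u) [Field k] (X : Scheme.{u}) [X.Over (Spec (CommRingCat.of k))]
    [IsIntegral X] [IsProper (X ↘ (Spec (CommRingCat.of k)))]
    (L M : X.Modules) (hL : PicF.IsInvertible L) (hLM : ClSub.IsInverseOf L M)
    (s : Coh.structureModule X ⟶ L) (hs : s ≠ 0) (t : Coh.structureModule X ⟶ M) (ht : t ≠ 0) :
    Nonempty (L ≅ Coh.structureModule X) := by
  obtain ⟨e⟩ := hLM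
  obtain ⟨t', ht'⟩ := exists_cosection X.sheaf L M e t ht
  exact Groth.Agent.S14808.result X
    (isField_of_universallyClosed k (X ↘ Spec (CommRingCat.of k))) L hL s hs t' ht'

end Part1

end Groth.Agent.Lib.R2H1.InvPair
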