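import Mathlib
import Groth.Prelude
import Groth.Agent.Lib.R2H1OmegaDual
import Groth.Agent.Lib.R2H1Clifford
import Groth.Agent.Lib.R2H1G12
import Groth.Agent.Lib.R2H1VBRankTwo
set_option backward.isDefEq.respectTransparency.types false

/-!
Linear (semi)stability of the canonical morphism via Clifford: h1_pos_of_hom_ne_zero (nonzero map to Omega makes H1 nonzero), clifford_of_hom, linSemistable_of_hyperelliptic (S16968).
-/

set_option autoImplicit false
set_option linter.style.haveILetI false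
set_option linter.unusedSectionVars false
universe u v

open CategoryTheory CategoryTheory.Limits AlgebraicGeometry TopologicalSpace Opposite

namespace Groth.Agent.Lib.R2H1.LinStab

section Part1

open CategoryTheory CategoryTheory.Limits AlgebraicGeometry TopologicalSpace
open Groth.Agent.Lib.R2H1.OmegaDual Groth.Agent.Lib.R2H1.OmegaCurve
open Groth.Agent.Lib.R2H2.HHLin Groth.Agent.Lib.R2H2.DualRep
open Groth.Agent.Lib.R2H1.CurveEuler Groth.Agent.Lib.R2H1.CurveDegSec
open Groth.Agent.Lib.R2H1.EulerAdd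

section A

variable (k : Type u) [Field k] [IsAlgClosed k] (X : Scheme.{u}) [X.Over (Spec (CommRingCat.of k))]
  [IsIntegral X] [IsProper (X ↘ (Spec (CommRingCat.of k)))]

/-- an invertible module with a nonzero map to `Ω` is special -/
theorem h1_pos_of_hom_ne_zero (hdim : topologicalKrullDim X = 1)
    (hreg : ∀ x : X, IsRegularLocalRing (X.presheaf.stalk x))
    (M : X.Modules) (hM : Coh.IsCoh M) (ι : M ⟶ Om k X) (hι : ι ≠ 0) :
    1 ≤ Module.finrank k (Coh.HH X M 1) := by
  obtain ⟨-, ψ, -, -, hdual⟩ := serre_duality_Om k X hdim hreg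
  by_contra hlt
  have h0 : Module.finrank k (Coh.HH X M 1) = 0 := by omega
  haveI := finite_HH k X M hM 1
  haveI : Subsingleton (Coh.HH X M 1) := Module.finrank_zero_iff.mp h0
  apply hι
  refine (hdual M hM).1 ι (fun x => ?_)
  rw [Subsingleton.elim x 0, map_zero, map_zero]

/-- special invertible modules with sections satisfy Clifford's inequality -/
theorem clifford_of_hom (hdim : topologicalKrullDim X = 1)
    (hreg : ∀ x : X, IsRegularLocalRing (X.presheaf.stalk x))
    (M : X.Modules) (hM : PicF.IsInvertible M) (ι : M ⟶ Om k X) (hι : ι ≠ 0)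
    (h0 : 1 ≤ Module.finrank k (Coh.HH X M 0)) :
    2 * (Module.finrank k (Coh.HH X M 0) : ℤ) ≤ Curv2.deg k X M 1 + 2 := by
  haveI := isNoetherian_of_proper k X
  exact Groth.Agent.Lib.R2H1.Clifford.clifford k X hdim hreg M hM h0
    (h1_pos_of_hom_ne_zero k X hdim hreg M (isCoh_of_isInvertible M hM) ι hι)

/-- S16968: the canonical morphism of a hyperelliptic curve is linearly semistable, not stable -/
theorem linSemistable_of_hyperelliptic (hdim : topologicalKrullDim X = 1)
    (hreg : ∀ x : X, IsRegularLocalRing (X.presheaf.stalk x))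
    (hg : 3 ≤ Curv2.genus k X)
    (N : X.Modules) (t : Fin 2 → LinSer.Sect X N) (hN : LinSer.IsLinSer k X N 2 1 t) :
    (∀ (M : X.Modules) (ι : M ⟶ Omega.sheaf (X ↘ (Spec (CommRingCat.of k)))),
        PicF.IsInvertible M → Mono ι → ¬ IsIso ι →
        2 ≤ Module.finrank k (Coh.HH X M 0) →
        Curv2.deg k X (Omega.sheaf (X ↘ (Spec (CommRingCat.of k)))) 1 *
            ((Module.finrank k (Coh.HH X M 0) : ℤ) - 1) ≤
          Curv2.deg k X M 1 *
            ((Module.finrank k (Coh.HH X (Omega.sheaf (X ↘ (Spec (CommRingCat.of k)))) 0) : ℤ) - 1)) ∧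
      ∃ ι : N ⟶ Omega.sheaf (X ↘ (Spec (CommRingCat.of k))), Mono ι ∧ ¬ IsIso ι ∧
        Curv2.deg k X (Omega.sheaf (X ↘ (Spec (CommRingCat.of k)))) 1 *
            ((Module.finrank k (Coh.HH X N 0) : ℤ) - 1) =
          Curv2.deg k X N 1 *
            ((Module.finrank k (Coh.HH X (Omega.sheaf (X ↘ (Spec (CommRingCat.of k)))) 0) : ℤ) - 1) := by
  haveI := isNoetherian_of_proper k X
  obtain ⟨hΩ, ψ, hψ0, -, hdual⟩ := serre_duality_Om k X hdim hreg
  obtain ⟨hΩ0, -, hΩd⟩ := numerics_Om k X hdim hreg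
  have hg' : (3 : ℤ) ≤ (Curv2.genus k X : ℤ) := by exact_mod_cast hg
  constructor
  · intro M ι hM hmono hniso h2
    have hne : ι ≠ 0 := Groth.Agent.Lib.R2H1.VBRankTwo.mono_ne_zero_of_isInvertible hM ι
    have hc := clifford_of_hom k X hdim hreg M hM ι hne (by omega)
    change Curv2.deg k X (Om k X) 1 * _ ≤ _ * ((Module.finrank k (Coh.HH X (Om k X) 0) : ℤ) - 1)
    rw [hΩd, hΩ0]
    nlinarith
  · obtain ⟨hNi, hNd, hNl⟩ := hN
    have cN := isCoh_of_isInvertible N hNi
    haveI := finite_HH k X N cN 0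
    haveI := finite_HH k X N cN 1
    have h0N : 2 ≤ Module.finrank k (Coh.HH X N 0) :=
      Groth.Agent.Lib.R2H1.G12.le_finrank_of_linIndep k X N t hNl
    have e1 := euler_eq_h0_sub_h1 k X hdim.le N cN.1
    have χO := Groth.Agent.Lib.R2H1.LiftZero.euler_structure k X hdim
    have hd : Curv2.deg k X N 1 = Curv2.euler k X N - 1 * Curv2.euler k X (Coh.structureModule X) := by
      unfold Curv2.deg; simp
    rw [hd, e1, χO] at hNd
    have h1N : 1 ≤ Module.finrank k (Coh.HH X N 1) := by
      have : (2 : ℤ) ≤ (Module.finrank k (Coh.HH X N 0) : ℤ) := by exact_mod_cast h0N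
      have h3 : (1 : ℤ) ≤ (Module.finrank k (Coh.HH X N 1) : ℤ) := by
        push_cast at hNd; linarith
      exact_mod_cast h3
    have hc := Groth.Agent.Lib.R2H1.Clifford.clifford k X hdim hreg N hNi (by omega) h1N
    have hd2 : Curv2.deg k X N 1 = 2 := by
      rw [hd, e1, χO]; push_cast at hNd ⊢; linarith
    rw [hd2] at hc
    have h0N2 : Module.finrank k (Coh.HH X N 0) = 2 := by
      have : (Module.finrank k (Coh.HH X N 0) : ℤ) ≤ 2 := by linarith
      have : Module.finrank k (Coh.HH X N 0) ≤ 2 := by exact_mod_cast this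
      omega
    -- a nonzero functional on H¹(N)
    haveI : Nontrivial (Coh.HH X N 1) := Module.finrank_pos_iff.mp h1N
    obtain ⟨x, hx⟩ := exists_ne (0 : Coh.HH X N 1)
    obtain ⟨η, hη⟩ := Module.Projective.exists_dual_ne_zero k hx
    obtain ⟨φ, hφ⟩ := (hdual N cN).2 η
    have hφne : φ ≠ 0 := by
      intro h0
      apply hη
      rw [hφ x, h0]
      have : HmapL (0 : N ⟶ Om k X) 1 x = 0 := HmapL_zero 1 x
      rw [this, map_zero]
    refine ⟨φ, Groth.Agent.Lib.R2H1.InvHom.mono_of_ne_zero hNi hΩ φ hφne, ?_, ?_⟩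
    · intro hiso
      have hdeg := Groth.Agent.Lib.R2H1.CurveAmple.deg_congr k X (asIso φ) 1
      rw [hd2] at hdeg
      change (2 : ℤ) = Curv2.deg k X (Om k X) 1 at hdeg
      rw [hΩd] at hdeg
      omega
    · change Curv2.deg k X (Om k X) 1 * _ = _ * ((Module.finrank k (Coh.HH X (Om k X) 0) : ℤ) - 1)
      rw [hΩd, hΩ0, hd2, h0N2]
      push_cast
      ring

end A

end Part1

end Groth.Agent.Lib.R2H1.LinStab
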