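import Mathlib
import Groth.Prelude
import Groth.Agent.Lib.R2H1VBSub
import Groth.Agent.Lib.R2H1SerreDual
import Groth.Agent.Lib.R2H1G12
import Groth.Agent.Lib.R2H1EulerAdd
import Groth.Agent.Lib.R2H1InvPair
import Groth.Agent.Lib.R2H1PicLaw
import Groth.Agent.Lib.R2H1LinStab
import Groth.Agent.Lib.R2H1WeierGaps
import Groth.Agent.Lib.R2H1VBTwist
import Groth.Agent.Lib.R2H1PointTwistB
import Groth.Agent.Lib.R2H1SerreNum
import Groth.Agent.Lib.R2H3NegTwist
set_option backward.isDefEq.respectTransparency.types false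

/-!
helper1 (run 2): the case of equality in Clifford's theorem on an integral proper regular curve over alg closed k (S11337). API: h0_le_add (h0 subadditive on short exact sequences), h0_biprod_ge, exists_linIndep_of_finrank, exists_ker_im' (kernel/image factorisation of a map of locally free modules with ranks, degrees), deg_biprod; Site level: invNat, phiF (sections of L ⊗ F to maps M ⟶ F for M inverse to L, natural: phiF_nat, phiF_ne_zero), tw, tw_factor, key, tL_map_ne_zero; step (the sub-bundle K = L ∩ B inside T ⊂ Ω attains Clifford equality), twistMap_eq_tw, exists_b1, exists_common (a section vanishing at two points when h0 ≥ 3), reduce, iso_Om_of_deg_of_h0 (deg 2g-2 and h0 ≥ g implies ≅ Ω), deg_lt_of_mono_not_iso, exists_g12 (Part I: Clifford equality with 1 ≤ deg, h0 < g forces a g12), mult_g12 (Part II: h0 = r+1, deg 2r, r+1 ≤ g implies L ≅ N^r), clifford_equality.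
-/

set_option autoImplicit false
set_option linter.style.haveILetI false
set_option linter.unusedSectionVars false
universe u v

open CategoryTheory CategoryTheory.Limits AlgebraicGeometry TopologicalSpace Opposite

namespace Groth.Agent.Lib.R2H1.CliffordEq

section Part1

open Groth.Agent.Lib.R2H1.VBSub Groth.Agent.Lib.R2H1.CurveEuler Groth.Agent.Lib.R2H1.EulerAdd
open Groth.Agent.Lib.R2H2.HHLin Groth.Agent.Lib.R2H1.CurveDegSec
open Groth.Agent.Lib.Helper23.SecTw Groth.Agent.Lib.R2H2.PnBeilinson Groth.Agent.Lib.R2H1.G12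
open Groth.Agent.Lib.Helper23.GenLocus

attribute [local instance] Abelian.hasFiniteBiproducts

section Gen

variable (k : Type u) [Field k] (X : Scheme.{u}) [X.Over (Spec (CommRingCat.of k))]
    [IsProper (X ↘ (Spec (CommRingCat.of k)))]

/-- `h⁰` of the middle term of a short exact sequence -/
theorem h0_le_add (S : ShortComplex X.Modules) (hS : S.ShortExact)
    [Module.Finite k (Coh.HH X S.X₁ 0)] [Module.Finite k (Coh.HH X S.X₂ 0)]
    [Module.Finite k (Coh.HH X S.X₃ 0)] :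
    Module.finrank k (Coh.HH X S.X₂ 0) ≤
      Module.finrank k (Coh.HH X S.X₁ 0) + Module.finrank k (Coh.HH X S.X₃ 0) := by
  have hex := exact_fg k S hS 0
  have hrn := LinearMap.finrank_range_add_finrank_ker (HmapA k S.g 0)
  have hker : LinearMap.ker (HmapA k S.g 0) = LinearMap.range (HmapA k S.f 0) :=
    (LinearMap.exact_iff.mp hex)
  have h1 : Module.finrank k (LinearMap.range (HmapA k S.f 0)) ≤
      Module.finrank k (Coh.HH X S.X₁ 0) := LinearMap.finrank_range_le _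
  have h2 := Submodule.finrank_le (LinearMap.range (HmapA k S.g 0))
  rw [hker] at hrn
  omega

/-- `h⁰` of a binary biproduct -/
theorem h0_biprod_ge (M N : X.Modules)
    [Module.Finite k (Coh.HH X M 0)] [Module.Finite k (Coh.HH X N 0)]
    [Module.Finite k (Coh.HH X (M ⊞ N) 0)] :
    Module.finrank k (Coh.HH X M 0) + Module.finrank k (Coh.HH X N 0) ≤
      Module.finrank k (Coh.HH X (M ⊞ N) 0) := by
  have hrn := LinearMap.finrank_range_add_finrank_ker (HmapA k (biprod.snd : M ⊞ N ⟶ N) 0)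
  have hsurj : Function.Surjective (HmapA k (biprod.snd : M ⊞ N ⟶ N) 0) := by
    intro y
    refine ⟨HmapA k (biprod.inr : N ⟶ M ⊞ N) 0 y, ?_⟩
    rw [HmapA_apply, HmapA_apply, ← HmapL_comp, biprod.inr_snd, HmapL_id]
  have hr : Module.finrank k (LinearMap.range (HmapA k (biprod.snd : M ⊞ N ⟶ N) 0)) =
      Module.finrank k (Coh.HH X N 0) := by
    rw [LinearMap.range_eq_top.mpr hsurj, finrank_top]
  have hinj : Function.Injective (HmapA k (biprod.inl : M ⟶ M ⊞ N) 0) := by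
    intro a b hab
    have := congrArg (HmapA k (biprod.fst : M ⊞ N ⟶ M) 0) hab
    rw [HmapA_apply, HmapA_apply, HmapA_apply, HmapA_apply, ← HmapL_comp, ← HmapL_comp,
      biprod.inl_fst, HmapL_id, HmapL_id] at this
    exact this
  have hle : LinearMap.range (HmapA k (biprod.inl : M ⟶ M ⊞ N) 0) ≤
      LinearMap.ker (HmapA k (biprod.snd : M ⊞ N ⟶ N) 0) := by
    rintro _ ⟨x, rfl⟩
    rw [LinearMap.mem_ker, HmapA_apply, HmapA_apply, ← HmapL_comp, biprod.inl_snd, HmapL_zero]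
  have h1 := Submodule.finrank_mono hle
  rw [LinearMap.finrank_range_of_inj hinj] at h1
  omega

/-- linearly independent sections from the dimension of `H⁰` -/
theorem exists_linIndep_of_finrank (L : X.Modules) [Module.Finite k (Coh.HH X L 0)] (n : ℕ)
    (hn : Module.finrank k (Coh.HH X L 0) = n) :
    ∃ s : Fin n → LinSer.Sect X L, LinSer.LinIndep k X L s := by
  haveI : Module.Finite k (Coh.structureModule X ⟶ L) :=
    Module.Finite.equiv (clsEquiv (k := k) L).symm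
  have hn' : Module.finrank k (Coh.structureModule X ⟶ L) = n := by
    rw [(clsEquiv (k := k) L).finrank_eq, hn]
  let b := Module.finBasisOfFinrankEq k (Coh.structureModule X ⟶ L) hn'
  refine ⟨fun i => sv (b i) ⊤, ?_⟩
  intro c hc
  have h1 : sv (∑ i, c i • b i) ⊤ = 0 := by
    rw [sv_sum]
    refine Eq.trans ?_ hc
    refine Finset.sum_congr rfl fun j _ => ?_
    exact sv_smul k X (c j) (b j) _ rfl
  have h2 : ∑ i, c i • b i = 0 := by
    apply hom_ext_of_sv
    rw [h1, sv_zero]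
  have h3 := Fintype.linearIndependent_iff.mp b.linearIndependent c h2
  funext i
  exact h3 i

variable [IsIntegral X]

/-- kernel/image decomposition of a map of locally free modules on a regular integral proper
curve, with the short exact sequence -/
theorem exists_ker_im' (hdim : topologicalKrullDim X = 1)
    (hreg : ∀ x : X, IsRegularLocalRing (X.presheaf.stalk x))
    {E F : X.Modules} {r s : ℕ} (hE : FlatMod.IsFinLocFreeOfRank r E)
    (hF : FlatMod.IsFinLocFreeOfRank s F) (f : E ⟶ F) :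
    ∃ (K I : X.Modules) (a : K ⟶ E) (p : E ⟶ I) (j : I ⟶ F) (r₀ r₁ : ℕ) (w : a ≫ p = 0),
      Mono a ∧ Epi p ∧ Mono j ∧ p ≫ j = f ∧ (ShortComplex.mk a p w).ShortExact ∧
      FlatMod.IsFinLocFreeOfRank r₀ K ∧ FlatMod.IsFinLocFreeOfRank r₁ I ∧ r = r₀ + r₁ ∧
      Curv2.deg k X E r = Curv2.deg k X K r₀ + Curv2.deg k X I r₁ ∧
      (r₁ = 0 → f = 0) ∧ r₁ ≤ s := by
  haveI := isNoetherian_of_proper k X
  have cE := Groth.Agent.Lib.R2H1.DegTensor.isCoh_of_rank' hE
  have cF := Groth.Agent.Lib.R2H1.DegTensor.isCoh_of_rank' hF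
  have lE := Groth.Agent.Lib.R2H4DegAdd.isFinLocFree_of_rank hE
  have lF := Groth.Agent.Lib.R2H4DegAdd.isFinLocFree_of_rank hF
  have cQ : Coh.IsCoh (cokernel f) := Groth.Agent.Lib.R2H2.NilFilt.isCoh_cokernel cE cF f
  have cI : Coh.IsCoh (Abelian.image f) :=
    Groth.Agent.Lib.R2H2.PdSheaf.isCoh_kernel cF cQ (cokernel.π f)
  have cK : Coh.IsCoh (kernel (Abelian.factorThruImage f)) :=
    Groth.Agent.Lib.R2H2.PdSheaf.isCoh_kernel cE cI (Abelian.factorThruImage f)
  obtain ⟨r₁, hI⟩ := exists_rank_of_mono hdim.le hreg F lF (Abelian.image f) cI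
    (Abelian.image.ι f)
  obtain ⟨r₀, hK⟩ := exists_rank_of_mono hdim.le hreg E lE _ cK
    (kernel.ι (Abelian.factorThruImage f))
  let S : ShortComplex X.Modules := ShortComplex.mk (kernel.ι (Abelian.factorThruImage f))
    (Abelian.factorThruImage f) (kernel.condition _)
  have hS : S.ShortExact :=
    { exact := ShortComplex.exact_kernel _
      mono_f := inferInstanceAs (Mono (kernel.ι (Abelian.factorThruImage f)))
      epi_g := inferInstanceAs (Epi (Abelian.factorThruImage f)) }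
  have hrk : r = r₀ + r₁ := Groth.Agent.Lib.R2H4DegAdd.rank_add S hS r₀ r r₁ hK hE hI
  have hdeg := Groth.Agent.Lib.R2H4DegAdd.main k X S hS r₀ r r₁ hK hE hI
  refine ⟨_, _, kernel.ι (Abelian.factorThruImage f), Abelian.factorThruImage f,
    Abelian.image.ι f, r₀, r₁, kernel.condition _, inferInstance, inferInstance, inferInstance,
    Abelian.image.fac f, hS, hK, hI, hrk, hdeg, ?_, ?_⟩
  · intro h1
    subst h1
    have hz : IsZero (Abelian.image f) :=
      Groth.Agent.Lib.R2H2.AmpleElt.isZero_of_rank_zero hI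
    rw [← Abelian.image.fac f, hz.eq_of_tgt (Abelian.factorThruImage f) 0, zero_comp]
  · exact rank_le_of_mono hI hF (Abelian.image.ι f)

omit [IsIntegral X] in
/-- degree of a binary biproduct -/
theorem deg_biprod (M N : X.Modules) {n m : ℕ}
    (hM : FlatMod.IsFinLocFreeOfRank n M) (hN : FlatMod.IsFinLocFreeOfRank m N) :
    Curv2.deg k X (M ⊞ N) (n + m) = Curv2.deg k X M n + Curv2.deg k X N m := by
  have hS : (ShortComplex.mk (biprod.inl : M ⟶ M ⊞ N) biprod.snd biprod.inl_snd).ShortExact :=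
    (ShortComplex.Splitting.ofHasBinaryBiproduct M N).shortExact
  exact Groth.Agent.Lib.R2H4DegAdd.main k X _ hS n (n + m) m hM
    (Groth.Agent.Lib.R2H1.SerreDual.isFinLocFreeOfRank_biprod M N hM hN) hN

end Gen

end Part1

section Part2

open Groth.Agent.Lib.Helper21.ModTensor Groth.Agent.Lib.Helper21.ModTensor2
open Groth.Agent.Lib.Helper21.ModTensor5 Groth.Agent.Lib.Helper21.ModTensor6
open Groth.Agent.Lib.Helper21.ModTensor7 Groth.Agent.Lib.Helper21.ModTensor3
open Groth.Agent.Lib.Helper21.Dual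

section Site

variable {C : Type u} [SmallCategory C] {J : GrothendieckTopology C} (O : Sheaf J CommRingCat.{u})
variable (L M : ModSite.Mod O) (θ : ((ModSite.tensorBi O).obj M).obj L ≅ ModSite.unit O)

/-- `M ⊗ (L ⊗ -) ≅ 𝟭` when `M` is inverse to `L` -/
noncomputable def invNat : tL O L ⋙ tL O M ≅ 𝟭 (ModSite.Mod O) :=
  (tLTensorIso O M L).symm ≪≫ (ModSite.tensorBi O).mapIso θ ≪≫ tLUnitIso O

/-- sections of `L ⊗ F` give maps `M ⟶ F` when `M` is inverse to `L`; natural in `F` -/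
noncomputable def phiF (F : ModSite.Mod O) (σ : ModSite.unit O ⟶ (tL O L).obj F) : M ⟶ F :=
  (rU O M).inv ≫ (tL O M).map σ ≫ (invNat O L M θ).hom.app F

theorem phiF_nat {F F' : ModSite.Mod O} (ψ : F ⟶ F') (σ : ModSite.unit O ⟶ (tL O L).obj F) :
    phiF O L M θ F' (σ ≫ (tL O L).map ψ) = phiF O L M θ F σ ≫ ψ := by
  have h' : (tL O M).map ((tL O L).map ψ) ≫ (invNat O L M θ).hom.app F' =
      (invNat O L M θ).hom.app F ≫ ψ := (invNat O L M θ).hom.naturality ψ
  unfold phiF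
  rw [Functor.map_comp]
  simp only [Category.assoc]
  rw [h']

theorem phiF_ne_zero (F : ModSite.Mod O) (σ : ModSite.unit O ⟶ (tL O L).obj F) (hσ : σ ≠ 0) :
    phiF O L M θ F σ ≠ 0 := by
  intro h0
  apply hσ
  haveI := Groth.Agent.Lib.R2H1.InvPair.faithful_tL_of_inverse O M L θ
  apply (tL O M).map_injective
  rw [Functor.map_zero]
  unfold phiF at h0
  have h1 := congrArg (fun t => (rU O M).hom ≫ t ≫ (invNat O L M θ).inv.app F) h0
  simpa using h1


/-- `G ⊗ I ⟶ G` induced by `ι : I ⟶ O` -/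
noncomputable def tw (G I : ModSite.Mod O) (ι : I ⟶ ModSite.unit O) : (tL O G).obj I ⟶ G :=
  (tL O G).map ι ≫ (rU O G).hom

theorem tw_factor (G : ModSite.Mod O) {A I : ModSite.Mod O} (u' : A ⟶ I)
    (ι : I ⟶ ModSite.unit O) :
    (tL O G).map u' ≫ tw O G I ι = tw O G A (u' ≫ ι) := by
  unfold tw
  rw [Functor.map_comp, Category.assoc]

/-- the key identity: sections of `L ⊗ I_P` and `L ⊗ I_Q` with the same image in `L` give
maps `M ⟶ I_P`, `M ⟶ I_Q` with the same image in `O`, hence after tensoring with `W` -/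
theorem key (W IP IQ : ModSite.Mod O) (ιP : IP ⟶ ModSite.unit O) (ιQ : IQ ⟶ ModSite.unit O)
    (σP : ModSite.unit O ⟶ (tL O L).obj IP) (σQ : ModSite.unit O ⟶ (tL O L).obj IQ)
    (h : σP ≫ tw O L IP ιP = σQ ≫ tw O L IQ ιQ)
    {Z : ModSite.Mod O} (φ : Z ⟶ (tL O W).obj M) :
    (φ ≫ (tL O W).map (phiF O L M θ IP σP)) ≫ tw O W IP ιP =
      (φ ≫ (tL O W).map (phiF O L M θ IQ σQ)) ≫ tw O W IQ ιQ := by
  have h1 : σP ≫ (tL O L).map ιP = σQ ≫ (tL O L).map ιQ := by
    unfold tw at h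
    have h2 := congrArg (fun t => t ≫ (rU O L).inv) h
    simpa using h2
  have h3 : phiF O L M θ IP σP ≫ ιP = phiF O L M θ IQ σQ ≫ ιQ := by
    rw [← phiF_nat, ← phiF_nat, h1]
  rw [Category.assoc, Category.assoc, tw_factor, tw_factor, h3]

/-- tensoring with a module having an inverse preserves nonzero maps -/
theorem tL_map_ne_zero (W W' : ModSite.Mod O)
    (e : ((ModSite.tensorBi O).obj W).obj W' ≅ ModSite.unit O) {A B : ModSite.Mod O}
    (u : A ⟶ B) (hu : u ≠ 0) : (tL O W).map u ≠ 0 := by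
  haveI := Groth.Agent.Lib.R2H1.InvPair.faithful_tL_of_inverse O W W' e
  intro h
  apply hu
  apply (tL O W).map_injective
  rw [h, Functor.map_zero]

end Site

end Part2

section Part3

open Groth.Agent.Lib.R2H1.VBSub Groth.Agent.Lib.R2H1.CurveEuler Groth.Agent.Lib.R2H1.EulerAdd
open Groth.Agent.Lib.R2H2.HHLin Groth.Agent.Lib.R2H1.CurveDegSec
open Groth.Agent.Lib.Helper23.SecTw Groth.Agent.Lib.R2H1.OmegaCurve Groth.Agent.Lib.R2H1.OmegaDual
open Groth.Agent.Lib.R2H1.LinStab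

attribute [local instance] Abelian.hasFiniteBiproducts

variable (k : Type u) [Field k] [IsAlgClosed k] (X : Scheme.{u}) [X.Over (Spec (CommRingCat.of k))]
    [IsIntegral X] [IsProper (X ↘ (Spec (CommRingCat.of k)))]

/-- the inductive step in the equality case of Clifford's theorem -/
theorem step (hdim : topologicalKrullDim X = 1)
    (hreg : ∀ x : X, IsRegularLocalRing (X.presheaf.stalk x))
    (B L T : X.Modules) (hB : PicF.IsInvertible B) (hL : PicF.IsInvertible L)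
    (hT : PicF.IsInvertible T)
    (f₁ : B ⟶ T) (hf₁ : f₁ ≠ 0) (b₁ : L ⟶ T) (hb₁ : b₁ ≠ 0)
    (hQ : ∀ φ : L ⟶ B, φ ≫ f₁ ≠ b₁)
    (τ : T ⟶ Om k X) (hτ : τ ≠ 0)
    (hdT : Curv2.deg k X T 1 = 2 * (Curv2.genus k X : ℤ) - 3)
    (hdBL : Curv2.deg k X B 1 + Curv2.deg k X L 1 = 2 * (Curv2.genus k X : ℤ) - 2)
    (hh : Curv2.genus k X + 1 ≤
      Module.finrank k (Coh.HH X B 0) + Module.finrank k (Coh.HH X L 0))
    (hhL : Module.finrank k (Coh.HH X L 0) + 1 ≤ Curv2.genus k X) :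
    ∃ (K : X.Modules) (κ : K ⟶ L), PicF.IsInvertible K ∧ Mono κ ∧ ¬ IsIso κ ∧
      1 ≤ Curv2.deg k X K 1 ∧ 1 ≤ Module.finrank k (Coh.HH X K 0) ∧
      2 * (Module.finrank k (Coh.HH X K 0) : ℤ) = Curv2.deg k X K 1 + 2 := by
  haveI := isNoetherian_of_proper k X
  have hΩ := isInvertible_Om k X hdim hreg
  have hB1 := isFinLocFreeOfRank_one_of_isInvertible B hB
  have hL1 := isFinLocFreeOfRank_one_of_isInvertible L hL
  have hT1 := isFinLocFreeOfRank_one_of_isInvertible T hT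
  haveI : Mono f₁ := Groth.Agent.Lib.R2H1.InvHom.mono_of_ne_zero hB hT f₁ hf₁
  haveI : Mono b₁ := Groth.Agent.Lib.R2H1.InvHom.mono_of_ne_zero hL hT b₁ hb₁
  haveI : Mono τ := Groth.Agent.Lib.R2H1.InvHom.mono_of_ne_zero hT hΩ τ hτ
  have hE := Groth.Agent.Lib.R2H1.SerreDual.isFinLocFreeOfRank_biprod B L hB1 hL1
  obtain ⟨K, I, a, p, j, r₀, r₁, w, ha, hp, hj, hpj, hS, hK, hI, hrk, hdeg, hr1, hr1le⟩ :=
    exists_ker_im' k X hdim hreg hE hT1 (biprod.desc f₁ (-b₁))
  have hr1' : r₁ = 1 := by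
    rcases Nat.lt_or_ge r₁ 1 with h | h
    · exfalso
      have h0 : r₁ = 0 := by omega
      have hz := hr1 h0
      have := congrArg (fun t => (biprod.inr : L ⟶ B ⊞ L) ≫ t) hz
      simp only [biprod.inr_desc, comp_zero] at this
      exact hb₁ (neg_eq_zero.mp this)
    · omega
  have hr0' : r₀ = 1 := by omega
  subst hr1' hr0'
  have hKi := Groth.Agent.Lib.R2H1.VBTwist.isInvertible_of_rank_one hK
  have hIi := Groth.Agent.Lib.R2H1.VBTwist.isInvertible_of_rank_one hI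
  -- the relation on K
  have hrel : (a ≫ biprod.fst) ≫ f₁ = (a ≫ biprod.snd) ≫ b₁ := by
    have h1 : a ≫ biprod.desc f₁ (-b₁) = 0 := by
      rw [← hpj, ← Category.assoc, w, zero_comp]
    have h2 : a ≫ biprod.desc f₁ (-b₁) = (a ≫ biprod.fst) ≫ f₁ - (a ≫ biprod.snd) ≫ b₁ := by
      rw [biprod.desc_eq]
      simp only [Preadditive.comp_add, Preadditive.comp_neg, Category.assoc, sub_eq_add_neg]
    rw [h2] at h1
    exact sub_eq_zero.mp h1
  -- κ is mono
  haveI hκ : Mono (a ≫ (biprod.snd : B ⊞ L ⟶ L)) := by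
    refine ⟨fun {Z} z z' hz => ?_⟩
    have hz0 : (z - z') ≫ a ≫ (biprod.snd : B ⊞ L ⟶ L) = 0 := by
      rw [Preadditive.sub_comp, hz, sub_self]
    have h1 : ((z - z') ≫ a ≫ biprod.fst) ≫ f₁ = 0 := by
      have := congrArg (fun t => (z - z') ≫ t) hrel
      simp only [Category.assoc] at this ⊢
      rw [this]
      have h2 : (z - z') ≫ a ≫ biprod.snd ≫ b₁ = ((z - z') ≫ a ≫ biprod.snd) ≫ b₁ := by
        simp only [Category.assoc]
      rw [h2, hz0, zero_comp]
    have h3 : (z - z') ≫ a ≫ (biprod.fst : B ⊞ L ⟶ B) = 0 := by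
      rw [← cancel_mono f₁, h1, zero_comp]
    have h4 : (z - z') ≫ a = 0 := by
      apply biprod.hom_ext
      · rw [Category.assoc, h3, zero_comp]
      · rw [Category.assoc, hz0, zero_comp]
    have h5 : z - z' = 0 := by
      rw [← cancel_mono a, h4, zero_comp]
    exact sub_eq_zero.mp h5
  refine ⟨K, a ≫ biprod.snd, hKi, hκ, ?_, ?_⟩
  · intro hiso
    apply hQ (inv (a ≫ (biprod.snd : B ⊞ L ⟶ L)) ≫ a ≫ biprod.fst)
    have h1 := congrArg (fun t => inv (a ≫ (biprod.snd : B ⊞ L ⟶ L)) ≫ t) hrel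
    have h2 : inv (a ≫ (biprod.snd : B ⊞ L ⟶ L)) ≫ (a ≫ biprod.snd) ≫ b₁ = b₁ := by
      rw [← Category.assoc, IsIso.inv_hom_id, Category.id_comp]
    rw [Category.assoc, Category.assoc]
    simp only [Category.assoc] at h1 h2
    exact h1.trans h2
  · -- numerics
    have cB := isCoh_of_isInvertible B hB
    have cL := isCoh_of_isInvertible L hL
    have cK := isCoh_of_isInvertible K hKi
    have cI := isCoh_of_isInvertible I hIi
    have cE := Groth.Agent.Lib.R2H1.DegTensor.isCoh_of_rank' hE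
    have cΩ := isCoh_of_isInvertible _ hΩ
    haveI := finite_HH k X _ cB 0
    haveI := finite_HH k X _ cL 0
    haveI := finite_HH k X _ cK 0
    haveI := finite_HH k X _ cI 0
    haveI := finite_HH k X _ cE 0
    haveI := finite_HH k X _ cΩ 0
    haveI : Module.Finite k (Coh.HH X (ShortComplex.mk a p w).X₁ 0) := finite_HH k X _ cK 0
    haveI : Module.Finite k (Coh.HH X (ShortComplex.mk a p w).X₂ 0) := finite_HH k X _ cE 0
    haveI : Module.Finite k (Coh.HH X (ShortComplex.mk a p w).X₃ 0) := finite_HH k X _ cI 0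
    have n1 := h0_biprod_ge k X B L
    have n2 : Module.finrank k (Coh.HH X (B ⊞ L) 0) ≤
        Module.finrank k (Coh.HH X K 0) + Module.finrank k (Coh.HH X I 0) :=
      h0_le_add k X (ShortComplex.mk a p w) hS
    have d1 := deg_biprod k X B L hB1 hL1
    have d2 := (deg_le_of_mono_same_rank k X hdim hI hT1 j).1
    -- κ ≠ 0 etc.
    have hκ0 : a ≫ (biprod.snd : B ⊞ L ⟶ L) ≠ 0 :=
      Groth.Agent.Lib.R2H1.VBRankTwo.mono_ne_zero_of_isInvertible hKi _
    have n3 : Module.finrank k (Coh.HH X K 0) ≤ Module.finrank k (Coh.HH X L 0) :=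
      Groth.Agent.Lib.R2H1.WeierGaps.hh_zero_le_of_ne_zero k X K L hKi hL _ hκ0
    haveI : Mono (j ≫ τ) := mono_comp j τ
    have hjτ : j ≫ τ ≠ 0 := Groth.Agent.Lib.R2H1.VBRankTwo.mono_ne_zero_of_isInvertible hIi _
    have n4 : Module.finrank k (Coh.HH X I 0) ≤ Module.finrank k (Coh.HH X (Om k X) 0) :=
      Groth.Agent.Lib.R2H1.WeierGaps.hh_zero_le_of_ne_zero k X I _ hIi hΩ _ hjτ
    obtain ⟨h0Ω, -, -⟩ := numerics_Om k X hdim hreg
    rw [h0Ω] at n4
    haveI : Mono ((a ≫ (biprod.snd : B ⊞ L ⟶ L)) ≫ b₁ ≫ τ) := mono_comp _ _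
    have hιK : (a ≫ (biprod.snd : B ⊞ L ⟶ L)) ≫ b₁ ≫ τ ≠ 0 :=
      Groth.Agent.Lib.R2H1.VBRankTwo.mono_ne_zero_of_isInvertible hKi _
    have hK1 : 1 ≤ Module.finrank k (Coh.HH X K 0) := by omega
    have hI1 : 1 ≤ Module.finrank k (Coh.HH X I 0) := by omega
    have c1 := clifford_of_hom k X hdim hreg K hKi _ hιK hK1
    have c2 := clifford_of_hom k X hdim hreg I hIi _ hjτ hI1
    have e1 : (1 + 1 : ℕ) = 1 + 1 := rfl
    refine ⟨?_, hK1, ?_⟩ <;> omega

end Part3

section Part4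

open Groth.Agent.Lib.Helper21.ModTensor Groth.Agent.Lib.Helper21.ModTensor2
open Groth.Agent.Lib.Helper21.ModTensor5 Groth.Agent.Lib.Helper21.ModTensor6
open Groth.Agent.Lib.Helper21.ModTensor7 Groth.Agent.Lib.Helper21.ModTensor3
open Groth.Agent.Lib.Helper21.Dual
open Groth.Agent.Lib.R2H1.PointTwist Groth.Agent.Lib.R2H1.PointTwistB
open Groth.Agent.Lib.R2H1.DegCartier
open Groth.Agent.Lib.R2H1.CurveEuler Groth.Agent.Lib.R2H1.CurveDegSec
  Groth.Agent.Lib.R2H1.EulerAdd Groth.Agent.Lib.R2H2.HHLin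
  Groth.Agent.Lib.R2H1.GenusZero Groth.Agent.Lib.R2H1.OmegaCurve Groth.Agent.Lib.R2H1.OmegaDual


variable (k : Type u) [Field k] [IsAlgClosed k] (X : Scheme.{u}) [X.Over (Spec (CommRingCat.of k))]
    [IsIntegral X] [IsProper (X ↘ (Spec (CommRingCat.of k)))]

/-- the twist map is the site-level `tw` -/
theorem twistMap_eq_tw (D : X.IdealSheafData) (G : X.Modules) :
    twistMap D G = tw X.sheaf G (ClSub.idealMod D) (ClSub.idealModι D) := rfl

/-- a nonzero map `L ⟶ W ⊗ I_P` when `h⁰(M ⊗ W) ≥ 2`, `M` inverse to `L` -/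
theorem exists_b1 (hdim : topologicalKrullDim X = 1)
    (hreg : ∀ x : X, IsRegularLocalRing (X.presheaf.stalk x))
    (L M W : X.Modules) (hM : PicF.IsInvertible M) (hW : PicF.IsInvertible W)
    (θ' : CohB1.tensorMod L M ≅ Coh.structureModule X)
    (P : X) (hP : IsClosed ({P} : Set X))
    (h2 : 2 ≤ Module.finrank k (Coh.HH X (CohB1.tensorMod M W) 0)) :
    ∃ b₁ : L ⟶ ((idealSeq (Scheme.IdealSheafData.vanishingIdeal ⟨{P}, hP⟩)).map
      (DCoh.tensorBi.obj W)).X₁, b₁ ≠ 0 := by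
  haveI := isNoetherian_of_proper k X
  obtain ⟨D, hDdef⟩ : ∃ D : X.IdealSheafData, D = Scheme.IdealSheafData.vanishingIdeal ⟨{P}, hP⟩ :=
    ⟨_, rfl⟩
  have hD : BlowUp.IsEffCartierIdeal D := hDdef ▸ point_isEffCartier k X hdim hreg P hP
  have hI : PicF.IsInvertible (ClSub.idealMod D) :=
    Groth.Agent.Helper18Cart.isInvertible_of_isEffCartier D hD
  have hMW := Groth.Agent.Lib.Helper23.SecTw.isInvertible_tensorMod hM hW
  have hWI := Groth.Agent.Lib.Helper23.SecTw.isInvertible_tensorMod hW hI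
  have hMWI := Groth.Agent.Lib.Helper23.SecTw.isInvertible_tensorMod hM hWI
  have hb := (h0_point_twist_bounds k X hdim hreg 1 _
    (Groth.Agent.Lib.Helper23.SecTw.isFinLocFreeOfRank_one_of_isInvertible _ hMW) P hP).2
  rw [← hDdef] at hb ⊢
  have e : CohB1.tensorMod (CohB1.tensorMod M W) (ClSub.idealMod D) ≅
      CohB1.tensorMod M (CohB1.tensorMod W (ClSub.idealMod D)) :=
    (tLTensorIso X.sheaf M W).app _
  have e3 := Groth.Agent.Lib.R2H2.ClosedPnLin.finrank_HH_of_iso k e 0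
  have hpos : 0 < Module.finrank k (Coh.HH X
      (CohB1.tensorMod M (CohB1.tensorMod W (ClSub.idealMod D))) 0) := by omega
  obtain ⟨σ, hσ⟩ : ∃ σ : ModSite.unit X.sheaf ⟶
      (tL X.sheaf M).obj ((tL X.sheaf W).obj (ClSub.idealMod D)), σ ≠ 0 :=
    exists_section_of_pos k X _ (isCoh_of_isInvertible _ hMWI) hpos
  exact ⟨phiF X.sheaf M L θ' ((tL X.sheaf W).obj (ClSub.idealMod D)) σ,
    phiF_ne_zero X.sheaf M L θ' ((tL X.sheaf W).obj (ClSub.idealMod D)) σ hσ⟩


/-- with `h⁰(L) ≥ 3` there is a nonzero section of `L` vanishing at both `P` and `Q` -/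
theorem exists_common (hdim : topologicalKrullDim X = 1)
    (hreg : ∀ x : X, IsRegularLocalRing (X.presheaf.stalk x))
    (L : X.Modules) (hL : PicF.IsInvertible L)
    (h3 : 3 ≤ Module.finrank k (Coh.HH X L 0))
    (P Q : X) (hP : IsClosed ({P} : Set X)) (hQ : IsClosed ({Q} : Set X)) :
    ∃ (v₁ : Coh.structureModule X ⟶ ((idealSeq (Scheme.IdealSheafData.vanishingIdeal
        ⟨{P}, hP⟩)).map (DCoh.tensorBi.obj L)).X₁)
      (v₂ : Coh.structureModule X ⟶ ((idealSeq (Scheme.IdealSheafData.vanishingIdeal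
        ⟨{Q}, hQ⟩)).map (DCoh.tensorBi.obj L)).X₁),
      v₁ ≠ 0 ∧ v₁ ≫ twistMap (Scheme.IdealSheafData.vanishingIdeal ⟨{P}, hP⟩) L =
        v₂ ≫ twistMap (Scheme.IdealSheafData.vanishingIdeal ⟨{Q}, hQ⟩) L := by
  haveI := isNoetherian_of_proper k X
  have hL1 := Groth.Agent.Lib.Helper23.SecTw.isFinLocFreeOfRank_one_of_isInvertible _ hL
  have cL := isCoh_of_isInvertible L hL
  have hDP := point_isEffCartier k X hdim hreg P hP
  have hDQ := point_isEffCartier k X hdim hreg Q hQ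
  have hIP := Groth.Agent.Helper18Cart.isInvertible_of_isEffCartier _ hDP
  have hIQ := Groth.Agent.Helper18Cart.isInvertible_of_isEffCartier _ hDQ
  have cP := isCoh_of_isInvertible _ (Groth.Agent.Lib.Helper23.SecTw.isInvertible_tensorMod hL hIP)
  have cQ := isCoh_of_isInvertible _ (Groth.Agent.Lib.Helper23.SecTw.isInvertible_tensorMod hL hIQ)
  haveI mP := mono_twistMap k X hdim.le _ hDP 1 L hL1
  haveI mQ := mono_twistMap k X hdim.le _ hDQ 1 L hL1
  have bP := (h0_point_twist_bounds k X hdim hreg 1 L hL1 P hP).2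
  have bQ := (h0_point_twist_bounds k X hdim hreg 1 L hL1 Q hQ).2
  haveI := finite_HH k X _ cL 0
  haveI : Module.Finite k (Coh.HH X ((idealSeq (Scheme.IdealSheafData.vanishingIdeal
      ⟨{P}, hP⟩)).map (DCoh.tensorBi.obj L)).X₁ 0) := finite_HH k X _ cP 0
  haveI : Module.Finite k (Coh.HH X ((idealSeq (Scheme.IdealSheafData.vanishingIdeal
      ⟨{Q}, hQ⟩)).map (DCoh.tensorBi.obj L)).X₁ 0) := finite_HH k X _ cQ 0
  haveI fL : Module.Finite k (Coh.structureModule X ⟶ L) :=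
    Module.Finite.equiv (Groth.Agent.Lib.R2H2.PnBeilinson.clsEquiv (k := k) L).symm
  haveI fP : Module.Finite k (Coh.structureModule X ⟶ ((idealSeq
      (Scheme.IdealSheafData.vanishingIdeal ⟨{P}, hP⟩)).map (DCoh.tensorBi.obj L)).X₁) :=
    Module.Finite.equiv (Groth.Agent.Lib.R2H2.PnBeilinson.clsEquiv (k := k) _).symm
  haveI fQ : Module.Finite k (Coh.structureModule X ⟶ ((idealSeq
      (Scheme.IdealSheafData.vanishingIdeal ⟨{Q}, hQ⟩)).map (DCoh.tensorBi.obj L)).X₁) :=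
    Module.Finite.equiv (Groth.Agent.Lib.R2H2.PnBeilinson.clsEquiv (k := k) _).symm
  have eL := (Groth.Agent.Lib.R2H2.PnBeilinson.clsEquiv (k := k) L).finrank_eq
  have eP := (Groth.Agent.Lib.R2H2.PnBeilinson.clsEquiv (k := k) ((idealSeq
      (Scheme.IdealSheafData.vanishingIdeal ⟨{P}, hP⟩)).map (DCoh.tensorBi.obj L)).X₁).finrank_eq
  have eQ := (Groth.Agent.Lib.R2H2.PnBeilinson.clsEquiv (k := k) ((idealSeq
      (Scheme.IdealSheafData.vanishingIdeal ⟨{Q}, hQ⟩)).map (DCoh.tensorBi.obj L)).X₁).finrank_eq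
  have hXP : Module.finrank k (Coh.HH X ((idealSeq (Scheme.IdealSheafData.vanishingIdeal
      ⟨{P}, hP⟩)).map (DCoh.tensorBi.obj L)).X₁ 0) =
      Module.finrank k (Coh.HH X (CohB1.tensorMod L (ClSub.idealMod
        (Scheme.IdealSheafData.vanishingIdeal ⟨{P}, hP⟩))) 0) := rfl
  have hXQ : Module.finrank k (Coh.HH X ((idealSeq (Scheme.IdealSheafData.vanishingIdeal
      ⟨{Q}, hQ⟩)).map (DCoh.tensorBi.obj L)).X₁ 0) =
      Module.finrank k (Coh.HH X (CohB1.tensorMod L (ClSub.idealMod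
        (Scheme.IdealSheafData.vanishingIdeal ⟨{Q}, hQ⟩))) 0) := rfl
  have hgi : Function.Injective (Linear.rightComp k (Coh.structureModule X)
      (twistMap (Scheme.IdealSheafData.vanishingIdeal ⟨{Q}, hQ⟩) L)) := fun a b hab =>
    (cancel_mono (twistMap (Scheme.IdealSheafData.vanishingIdeal ⟨{Q}, hQ⟩) L)).1 hab
  obtain ⟨v₁, v₂, hv, heq⟩ := Groth.Agent.Lib.R2H1.SerreDual.exists_eq_of_finrank_lt
    (Linear.rightComp k (Coh.structureModule X)
      (twistMap (Scheme.IdealSheafData.vanishingIdeal ⟨{P}, hP⟩) L))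
    (Linear.rightComp k (Coh.structureModule X)
      (twistMap (Scheme.IdealSheafData.vanishingIdeal ⟨{Q}, hQ⟩) L)) hgi (by omega)
  exact ⟨v₁, v₂, hv, heq⟩

end Part4

section Part5

open Groth.Agent.Lib.Helper21.ModTensor Groth.Agent.Lib.Helper21.ModTensor2
open Groth.Agent.Lib.Helper21.ModTensor5 Groth.Agent.Lib.Helper21.ModTensor6
open Groth.Agent.Lib.Helper21.ModTensor7 Groth.Agent.Lib.Helper21.ModTensor3
open Groth.Agent.Lib.Helper21.Dual
open Groth.Agent.Lib.R2H1.PointTwist Groth.Agent.Lib.R2H1.PointTwistB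
open Groth.Agent.Lib.R2H1.DegCartier
open Groth.Agent.Lib.R2H1.CurveEuler Groth.Agent.Lib.R2H1.CurveDegSec
  Groth.Agent.Lib.R2H1.EulerAdd Groth.Agent.Lib.R2H2.HHLin
  Groth.Agent.Lib.R2H1.GenusZero Groth.Agent.Lib.R2H1.OmegaCurve Groth.Agent.Lib.R2H1.OmegaDual
  Groth.Agent.Lib.R2H1.SerreNum Groth.Agent.Lib.R2H1.PicLaw


variable (k : Type u) [Field k] [IsAlgClosed k] (X : Scheme.{u}) [X.Over (Spec (CommRingCat.of k))]
    [IsIntegral X] [IsProper (X ↘ (Spec (CommRingCat.of k)))]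

/-- the reduction step in the equality case of Clifford's theorem -/
theorem reduce (hdim : topologicalKrullDim X = 1)
    (hreg : ∀ x : X, IsRegularLocalRing (X.presheaf.stalk x))
    (L M : X.Modules) (hL : PicF.IsInvertible L) (hM : PicF.IsInvertible M)
    (e : CohB1.tensorMod L M ≅ Coh.structureModule X)
    (h3 : 3 ≤ Module.finrank k (Coh.HH X L 0))
    (h1 : 2 ≤ Module.finrank k (Coh.HH X (CohB1.tensorMod M (Om k X)) 0))
    (heq : 2 * (Module.finrank k (Coh.HH X L 0) : ℤ) = Curv2.deg k X L 1 + 2) :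
    ∃ (K : X.Modules) (κ : K ⟶ L), PicF.IsInvertible K ∧ Mono κ ∧ ¬ IsIso κ ∧
      1 ≤ Curv2.deg k X K 1 ∧ 1 ≤ Module.finrank k (Coh.HH X K 0) ∧
      2 * (Module.finrank k (Coh.HH X K 0) : ℤ) = Curv2.deg k X K 1 + 2 := by
  haveI := isNoetherian_of_proper k X
  have hΩ := isInvertible_Om k X hdim hreg
  have hO := Groth.Agent.Lib.Helper23.TensorUnit.isInvertible_structureModule X
  have hΩ1 := Groth.Agent.Lib.Helper23.SecTw.isFinLocFreeOfRank_one_of_isInvertible _ hΩ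
  have hL1 := Groth.Agent.Lib.Helper23.SecTw.isFinLocFreeOfRank_one_of_isInvertible _ hL
  have hM1 := Groth.Agent.Lib.Helper23.SecTw.isFinLocFreeOfRank_one_of_isInvertible _ hM
  have cL := isCoh_of_isInvertible L hL
  -- a closed point
  obtain ⟨s₀, hs₀⟩ := exists_section_of_pos k X L cL (by omega)
  obtain ⟨P, hP, -, -⟩ := exists_closed_mem_genLocus₂ k X hdim L L hL hL s₀ hs₀ s₀ hs₀
  obtain ⟨b₁, hb₁⟩ := exists_b1 k X hdim hreg L M (Om k X) hM hΩ e P hP h1
  have hDP := point_isEffCartier k X hdim hreg P hP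
  have hIP := Groth.Agent.Helper18Cart.isInvertible_of_isEffCartier _ hDP
  have hT : PicF.IsInvertible ((idealSeq (Scheme.IdealSheafData.vanishingIdeal
      ⟨{P}, hP⟩)).map (DCoh.tensorBi.obj (Om k X))).X₁ :=
    Groth.Agent.Lib.Helper23.SecTw.isInvertible_tensorMod hΩ hIP
  haveI mτ := mono_twistMap k X hdim.le _ hDP 1 (Om k X) hΩ1
  haveI : Mono s₀ := Groth.Agent.Lib.R2H1.InvHom.mono_of_ne_zero hO hL s₀ hs₀
  haveI : Mono b₁ := Groth.Agent.Lib.R2H1.InvHom.mono_of_ne_zero hL hT b₁ hb₁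
  obtain ⟨w, hwdef⟩ : ∃ w : Coh.structureModule X ⟶ Om k X,
      w = s₀ ≫ b₁ ≫ twistMap (Scheme.IdealSheafData.vanishingIdeal ⟨{P}, hP⟩) (Om k X) :=
    ⟨_, rfl⟩
  have hw : w ≠ 0 := by
    intro h
    rw [hwdef] at h
    haveI : Mono (s₀ ≫ b₁ ≫ twistMap (Scheme.IdealSheafData.vanishingIdeal ⟨{P}, hP⟩)
      (Om k X)) := mono_comp _ _
    have h2 : (𝟙 (Coh.structureModule X)) ≫ (s₀ ≫ b₁ ≫ twistMap
      (Scheme.IdealSheafData.vanishingIdeal ⟨{P}, hP⟩) (Om k X)) = 0 ≫ (s₀ ≫ b₁ ≫ twistMap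
      (Scheme.IdealSheafData.vanishingIdeal ⟨{P}, hP⟩) (Om k X)) := by
      rw [Category.id_comp, zero_comp]; exact h
    have h3 := (cancel_mono _).1 h2
    exact Groth.Agent.Lib.R2H1.VBRankTwo.not_isZero_of_isInvertible hO
      ((IsZero.iff_id_eq_zero _).2 h3)
  obtain ⟨Q, hQ, hQw, -⟩ := exists_closed_mem_genLocus₂ k X hdim _ _ hΩ hΩ w hw w hw
  obtain ⟨v₁, v₂, hv, hveq⟩ := exists_common k X hdim hreg L hL h3 P Q hP hQ
  -- the inverse pair isomorphism `M ⊗ L ≅ O`
  obtain ⟨θ, -⟩ : ∃ θ : ((ModSite.tensorBi X.sheaf).obj M).obj L ≅ ModSite.unit X.sheaf, True :=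
    ⟨brdApp X.sheaf M L ≪≫ e, trivial⟩
  -- the maps `M ⟶ I_P`, `M ⟶ I_Q`
  obtain ⟨uP, huP⟩ : ∃ uP : M ⟶ ClSub.idealMod (Scheme.IdealSheafData.vanishingIdeal ⟨{P}, hP⟩),
      uP = phiF X.sheaf L M θ
        (ClSub.idealMod (Scheme.IdealSheafData.vanishingIdeal ⟨{P}, hP⟩)) v₁ := ⟨_, rfl⟩
  obtain ⟨uQ, huQ⟩ : ∃ uQ : M ⟶ ClSub.idealMod (Scheme.IdealSheafData.vanishingIdeal ⟨{Q}, hQ⟩),
      uQ = phiF X.sheaf L M θ
        (ClSub.idealMod (Scheme.IdealSheafData.vanishingIdeal ⟨{Q}, hQ⟩)) v₂ := ⟨_, rfl⟩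
  have huP0 : uP ≠ 0 := by
    rw [huP]
    exact phiF_ne_zero X.sheaf L M θ
      (ClSub.idealMod (Scheme.IdealSheafData.vanishingIdeal ⟨{P}, hP⟩)) v₁ hv
  -- faithfulness of `Ω ⊗ -`
  obtain ⟨Q', -, ⟨eQ⟩⟩ := Groth.Agent.Lib.R2H1.InvExists.exists_inverse (Om k X) hΩ
  obtain ⟨f₁, hf₁def⟩ : ∃ f₁ : CohB1.tensorMod (Om k X) M ⟶
      ((idealSeq (Scheme.IdealSheafData.vanishingIdeal ⟨{P}, hP⟩)).map
        (DCoh.tensorBi.obj (Om k X))).X₁, f₁ = (tL X.sheaf (Om k X)).map uP := ⟨_, rfl⟩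
  have hf₁ : f₁ ≠ 0 := by
    rw [hf₁def]
    exact tL_map_ne_zero X.sheaf (Om k X) Q' eQ uP huP0
  have hB : PicF.IsInvertible (CohB1.tensorMod (Om k X) M) :=
    Groth.Agent.Lib.Helper23.SecTw.isInvertible_tensorMod hΩ hM
  -- the non-factorisation
  have hnf : ∀ φ : L ⟶ CohB1.tensorMod (Om k X) M, φ ≫ f₁ ≠ b₁ := by
    intro φ hφ
    subst hφ
    have hk := key X.sheaf L M θ (Om k X)
      (ClSub.idealMod (Scheme.IdealSheafData.vanishingIdeal ⟨{P}, hP⟩))
      (ClSub.idealMod (Scheme.IdealSheafData.vanishingIdeal ⟨{Q}, hQ⟩))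
      (ClSub.idealModι (Scheme.IdealSheafData.vanishingIdeal ⟨{P}, hP⟩))
      (ClSub.idealModι (Scheme.IdealSheafData.vanishingIdeal ⟨{Q}, hQ⟩)) v₁ v₂ hveq φ
    rw [← huP, ← huQ, ← hf₁def] at hk
    refine not_factor_of_mem_genLocus k X hdim hreg (Om k X) hΩ w Q hQ hQw
      (s₀ ≫ φ ≫ (tL X.sheaf (Om k X)).map uQ) ?_
    rw [hwdef]
    have hk' : (φ ≫ f₁) ≫ twistMap (Scheme.IdealSheafData.vanishingIdeal ⟨{P}, hP⟩) (Om k X) =
        (φ ≫ (tL X.sheaf (Om k X)).map uQ) ≫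
          twistMap (Scheme.IdealSheafData.vanishingIdeal ⟨{Q}, hQ⟩) (Om k X) := hk
    rw [hk']
    exact Category.assoc _ _ _
  -- numerics
  obtain ⟨-, -, dΩ⟩ := numerics_Om k X hdim hreg
  have dI := Groth.Agent.Lib.R2H1.SerreDual.deg_pointIdeal k X hdim hreg P hP
  have dT : Curv2.deg k X ((idealSeq (Scheme.IdealSheafData.vanishingIdeal
      ⟨{P}, hP⟩)).map (DCoh.tensorBi.obj (Om k X))).X₁ 1 =
      Curv2.deg k X (Om k X) 1 + Curv2.deg k X (ClSub.idealMod
        (Scheme.IdealSheafData.vanishingIdeal ⟨{P}, hP⟩)) 1 :=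
    Groth.Agent.Lib.R2H1.VBIndecTwo.deg_tensor_invertible k X hdim hΩ hIP
  have dB := Groth.Agent.Lib.R2H1.VBIndecTwo.deg_tensor_invertible k X hdim hΩ hM
  have dM := Groth.Agent.Lib.R2H1.VBTwist.deg_inverse k X hdim hL1 hM1 e
  have sn := (serre_numerics k X hdim hreg L M hL hM (commI M L ≪≫ e)).1
  have rr := riemann_roch k X hdim hreg L hL
  have ec := Groth.Agent.Lib.R2H2.ClosedPnLin.finrank_HH_of_iso k (commI (Om k X) M) 0
  have hτ : twistMap (Scheme.IdealSheafData.vanishingIdeal ⟨{P}, hP⟩) (Om k X) ≠ 0 :=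
    Groth.Agent.Lib.R2H1.VBRankTwo.mono_ne_zero_of_isInvertible hT _
  exact step k X hdim hreg (CohB1.tensorMod (Om k X) M) L _ hB hL hT f₁ hf₁ b₁ hb₁ hnf
    (twistMap (Scheme.IdealSheafData.vanishingIdeal ⟨{P}, hP⟩) (Om k X)) hτ
    (by omega) (by omega) (by omega) (by omega)

end Part5

section Part6

open Groth.Agent.Lib.R2H1.PointTwist
open Groth.Agent.Lib.R2H1.CurveEuler Groth.Agent.Lib.R2H1.CurveDegSec
  Groth.Agent.Lib.R2H1.EulerAdd Groth.Agent.Lib.R2H2.HHLin
  Groth.Agent.Lib.R2H1.GenusZero Groth.Agent.Lib.R2H1.OmegaCurve Groth.Agent.Lib.R2H1.OmegaDual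
  Groth.Agent.Lib.R2H1.SerreNum Groth.Agent.Lib.R2H1.PicLaw


variable (k : Type u) [Field k] [IsAlgClosed k] (X : Scheme.{u}) [X.Over (Spec (CommRingCat.of k))]
    [IsIntegral X] [IsProper (X ↘ (Spec (CommRingCat.of k)))]

/-- an invertible module of degree `2g - 2` with at least `g` sections is `Ω` -/
theorem iso_Om_of_deg_of_h0 (hdim : topologicalKrullDim X = 1)
    (hreg : ∀ x : X, IsRegularLocalRing (X.presheaf.stalk x))
    (L : X.Modules) (hL : PicF.IsInvertible L)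
    (hdeg : Curv2.deg k X L 1 = 2 * (Curv2.genus k X : ℤ) - 2)
    (hh0 : Curv2.genus k X ≤ Module.finrank k (Coh.HH X L 0)) :
    Nonempty (L ≅ Om k X) := by
  haveI := isNoetherian_of_proper k X
  have hΩ := isInvertible_Om k X hdim hreg
  have cL := isCoh_of_isInvertible L hL
  have r := riemann_roch k X hdim hreg L hL
  have hh := h1_eq_finrank_hom k X hdim hreg L cL
  obtain ⟨-, -, dΩ⟩ := numerics_Om k X hdim hreg
  have h1pos : 1 ≤ Module.finrank k (L ⟶ Om k X) := by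
    rw [← hh]
    have : (Curv2.genus k X : ℤ) ≤ Module.finrank k (Coh.HH X L 0) := by exact_mod_cast hh0
    omega
  obtain ⟨φ, hφ⟩ : ∃ φ : L ⟶ Om k X, φ ≠ 0 := by
    by_contra hcon
    push_neg at hcon
    haveI : Subsingleton (L ⟶ Om k X) := ⟨fun a b => (hcon a).trans (hcon b).symm⟩
    have := Module.finrank_zero_of_subsingleton (R := k) (M := (L ⟶ Om k X))
    omega
  obtain ⟨m1, m2⟩ := main k X hdim _ _ hL hΩ φ hφ
  haveI : IsIso φ := m2 (by
    unfold Curv2.deg at dΩ hdeg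
    have : (0 : ℤ) ≤ Module.finrank k (Coh.HH X (cokernel φ) 0) := Int.natCast_nonneg _
    omega)
  exact ⟨asIso φ⟩

/-- a non-invertible monomorphism of invertible modules strictly raises the degree -/
theorem deg_lt_of_mono_not_iso (hdim : topologicalKrullDim X = 1)
    (K L : X.Modules) (hK : PicF.IsInvertible K) (hL : PicF.IsInvertible L)
    (κ : K ⟶ L) (hκ : κ ≠ 0) (hni : ¬ IsIso κ) :
    Curv2.deg k X K 1 < Curv2.deg k X L 1 := by
  obtain ⟨m1, m2⟩ := main k X hdim _ _ hK hL κ hκ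
  have h0 : Module.finrank k (Coh.HH X (cokernel κ) 0) ≠ 0 := fun h => hni (m2 h)
  unfold Curv2.deg
  have : (1 : ℤ) ≤ Module.finrank k (Coh.HH X (cokernel κ) 0) := by
    have := Nat.pos_of_ne_zero h0
    exact_mod_cast this
  omega

/-- **Part I**: an invertible module attaining equality in Clifford's theorem, of positive
degree and with `h⁰ < g`, forces the curve to carry a `g¹₂` -/
theorem exists_g12 (hdim : topologicalKrullDim X = 1)
    (hreg : ∀ x : X, IsRegularLocalRing (X.presheaf.stalk x)) :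
    ∀ (n : ℕ) (L : X.Modules), PicF.IsInvertible L → Curv2.deg k X L 1 ≤ n →
      1 ≤ Curv2.deg k X L 1 → 1 ≤ Module.finrank k (Coh.HH X L 0) →
      2 * (Module.finrank k (Coh.HH X L 0) : ℤ) = Curv2.deg k X L 1 + 2 →
      Module.finrank k (Coh.HH X L 0) + 1 ≤ Curv2.genus k X →
      ∃ (N : X.Modules) (s : Fin 2 → LinSer.Sect X N), LinSer.IsLinSer k X N 2 1 s := by
  haveI := isNoetherian_of_proper k X
  intro n
  induction n with
  | zero =>
    intro L hL hn h1 _ _ _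
    exfalso
    simp only [Nat.cast_zero] at hn
    omega
  | succ n ih =>
    intro L hL hn hd1 hh1 heq hg
    have cL := isCoh_of_isInvertible L hL
    haveI := finite_HH k X _ cL 0
    rcases Nat.lt_or_ge (Module.finrank k (Coh.HH X L 0)) 3 with h | h
    · -- `h⁰ = 2`, `deg = 2`
      have h2 : Module.finrank k (Coh.HH X L 0) = 2 := by omega
      obtain ⟨s, hs⟩ := exists_linIndep_of_finrank k X L 2 h2
      refine ⟨L, s, hL, ?_, hs⟩
      rw [h2] at heq
      push_cast at heq ⊢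
      omega
    · obtain ⟨M, hM, ⟨e⟩⟩ := Groth.Agent.Lib.R2H1.InvExists.exists_inverse L hL
      have sn := (serre_numerics k X hdim hreg L M hL hM (commI M L ≪≫ e)).1
      have rr := riemann_roch k X hdim hreg L hL
      obtain ⟨K, κ, hK, hκm, hκi, hdK, hhK, heqK⟩ :=
        reduce k X hdim hreg L M hL hM e h (by omega) heq
      haveI := hκm
      have hκ0 : κ ≠ 0 := Groth.Agent.Lib.R2H1.VBRankTwo.mono_ne_zero_of_isInvertible hK κ
      have hlt := deg_lt_of_mono_not_iso k X hdim K L hK hL κ hκ0 hκi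
      push_cast at hn
      exact ih K hK (by omega) hdK hhK heqK (by omega)

end Part6

section Part7

open Groth.Agent.Lib.R2H1.PointTwist
open Groth.Agent.Lib.R2H1.CurveEuler Groth.Agent.Lib.R2H1.CurveDegSec
  Groth.Agent.Lib.R2H1.EulerAdd Groth.Agent.Lib.R2H2.HHLin
  Groth.Agent.Lib.R2H1.GenusZero Groth.Agent.Lib.R2H1.OmegaCurve Groth.Agent.Lib.R2H1.OmegaDual
  Groth.Agent.Lib.R2H1.SerreNum Groth.Agent.Lib.R2H1.PicLaw Groth.Agent.Lib.R2H1.Clifford


variable (k : Type u) [Field k] [IsAlgClosed k] (X : Scheme.{u}) [X.Over (Spec (CommRingCat.of k))]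
    [IsIntegral X] [IsProper (X ↘ (Spec (CommRingCat.of k)))]

/-- **Part II**: on a curve with a `g¹₂` given by `N`, an invertible module with `h⁰ = r + 1`,
degree `2r` and `r + 1 ≤ g` is `N^r` -/
theorem mult_g12 (hdim : topologicalKrullDim X = 1)
    (hreg : ∀ x : X, IsRegularLocalRing (X.presheaf.stalk x))
    (L N : X.Modules) (hL : PicF.IsInvertible L) (s : Fin 2 → LinSer.Sect X N)
    (hN : LinSer.IsLinSer k X N 2 1 s) (r : ℕ)
    (hr : Module.finrank k (Coh.HH X L 0) = r + 1)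
    (hdeg : Curv2.deg k X L 1 = 2 * (r : ℤ)) (hg : r + 1 ≤ Curv2.genus k X) :
    Nonempty (L ≅ CohB1.tensorPow N r) := by
  haveI := isNoetherian_of_proper k X
  obtain ⟨hNi, hdN, hli⟩ := hN
  have hΩ := isInvertible_Om k X hdim hreg
  have cN := isCoh_of_isInvertible N hNi
  have cL := isCoh_of_isInvertible L hL
  haveI := finite_HH k X _ cN 0
  haveI := finite_HH k X _ cL 0
  have h2 : 2 ≤ Module.finrank k (Coh.HH X N 0) :=
    Groth.Agent.Lib.R2H1.G12.le_finrank_of_linIndep k X N s hli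
  obtain ⟨h, hh⟩ : ∃ h : ℕ, Module.finrank k (Coh.HH X N 0) = h + 1 :=
    ⟨Module.finrank k (Coh.HH X N 0) - 1, by omega⟩
  have hpos : 0 < h := by omega
  obtain ⟨m, hm⟩ : ∃ m : ℕ, m + r + 1 = Curv2.genus k X := ⟨Curv2.genus k X - 1 - r, by omega⟩
  -- `A = N^m`
  have hA := Groth.Agent.Lib.Helper23.SecTw.isInvertible_tensorPow hNi m
  have cA := isCoh_of_isInvertible _ hA
  haveI := finite_HH k X _ cA 0
  have a1 := h0_tensorPow_ge k X hdim hreg N hNi h hh m
  have a2 := deg_tensorPow k X hdim N hNi m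
  have a3 : m ≤ m * h := Nat.le_mul_of_pos_right m hpos
  have nL : Nontrivial (Coh.HH X L 0) := Module.nontrivial_of_finrank_pos (R := k) (by omega)
  have nA : Nontrivial (Coh.HH X (CohB1.tensorPow N m) 0) :=
    Module.nontrivial_of_finrank_pos (R := k) (by omega)
  have a4 := s11352 k X hdim hreg L _ hL hA nL nA
  have hLA := Groth.Agent.Lib.Helper23.SecTw.isInvertible_tensorMod hL hA
  have a5 := Groth.Agent.Lib.R2H1.VBIndecTwo.deg_tensor_invertible k X hdim hL hA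
  obtain ⟨e1⟩ := iso_Om_of_deg_of_h0 k X hdim hreg _ hLA (by
    rw [a5, a2, hdeg, hdN, ← hm]; push_cast; ring) (by omega)
  -- `B = N^(g-1)`
  have hB := Groth.Agent.Lib.Helper23.SecTw.isInvertible_tensorPow hNi (m + r)
  have b1 := h0_tensorPow_ge k X hdim hreg N hNi h hh (m + r)
  have b2 := deg_tensorPow k X hdim N hNi (m + r)
  have b3 : m + r ≤ (m + r) * h := Nat.le_mul_of_pos_right (m + r) hpos
  obtain ⟨e2⟩ := iso_Om_of_deg_of_h0 k X hdim hreg _ hB (by
    rw [b2, hdN, ← hm]; push_cast; ring) (by omega)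
  -- the Picard group
  letI := lawOfIntegral X
  have hR := Groth.Agent.Lib.Helper23.SecTw.isInvertible_tensorPow hNi r
  have g1 := cls_mul_eq_of_iso hL hA hΩ e1
  have g2 : PicGrp.cls (CohB1.tensorPow N (m + r)) hB = PicGrp.cls (Om k X) hΩ :=
    (PicGrp.cls_eq_cls_iff hB hΩ).2 ⟨e2⟩
  have pA : PicGrp.cls N hNi ^ m = PicGrp.cls (CohB1.tensorPow N m) hA :=
    Subtype.ext (PicGrp.cls_pow_val hNi m)
  have pB : PicGrp.cls N hNi ^ (m + r) = PicGrp.cls (CohB1.tensorPow N (m + r)) hB :=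
    Subtype.ext (PicGrp.cls_pow_val hNi (m + r))
  have pR : PicGrp.cls N hNi ^ r = PicGrp.cls (CohB1.tensorPow N r) hR :=
    Subtype.ext (PicGrp.cls_pow_val hNi r)
  have g3 : PicGrp.cls L hL = PicGrp.cls (CohB1.tensorPow N r) hR := by
    rw [← pR]
    have : PicGrp.cls L hL * PicGrp.cls N hNi ^ m =
        PicGrp.cls N hNi ^ r * PicGrp.cls N hNi ^ m := by
      calc PicGrp.cls L hL * PicGrp.cls N hNi ^ m
          = PicGrp.cls L hL * PicGrp.cls (CohB1.tensorPow N m) hA := by rw [pA]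
        _ = PicGrp.cls (Om k X) hΩ := g1
        _ = PicGrp.cls (CohB1.tensorPow N (m + r)) hB := g2.symm
        _ = PicGrp.cls N hNi ^ (m + r) := pB.symm
        _ = PicGrp.cls N hNi ^ r * PicGrp.cls N hNi ^ m := by rw [pow_add, mul_comm]
    exact mul_right_cancel this
  exact (PicGrp.cls_eq_cls_iff hL hR).1 g3

/-- **Clifford's theorem, the case of equality**: an invertible module, neither trivial nor
canonical, attaining equality in Clifford's inequality is a multiple of a `g¹₂` -/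
theorem clifford_equality (hdim : topologicalKrullDim X = 1)
    (hreg : ∀ x : X, IsRegularLocalRing (X.presheaf.stalk x))
    (L M : X.Modules) (hL : PicF.IsInvertible L) (hM : ClSub.IsInverseOf L M)
    (hs : Nontrivial (Coh.HH X L 0))
    (hsp : Nontrivial (Coh.HH X (CohB1.tensorMod (Om k X) M) 0))
    (h0 : IsEmpty (L ≅ Coh.structureModule X)) (hK : IsEmpty (L ≅ Om k X))
    (heq : 2 * (Module.finrank k (Coh.HH X L 0) : ℤ) = Curv2.deg k X L 1 + 2) :
    ∃ (N : X.Modules) (s : Fin 2 → LinSer.Sect X N), LinSer.IsLinSer k X N 2 1 s ∧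
      Nonempty (L ≅ CohB1.tensorPow N (Module.finrank k (Coh.HH X L 0) - 1)) := by
  haveI := isNoetherian_of_proper k X
  have hMi := Groth.Agent.Lib.R2H3.NegTwist.isInvertible_of_isInverseOf L M hM
  obtain ⟨e₀⟩ := hM
  have hΩ := isInvertible_Om k X hdim hreg
  have cL := isCoh_of_isInvertible L hL
  have hΩM := Groth.Agent.Lib.Helper23.SecTw.isInvertible_tensorMod hΩ hMi
  have cΩM := isCoh_of_isInvertible _ hΩM
  haveI := finite_HH k X _ cL 0
  haveI := finite_HH k X _ cΩM 0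
  have s1 := (serre_numerics k X hdim hreg L M hL hMi (commI M L ≪≫ e₀)).1
  have ec := Groth.Agent.Lib.R2H2.ClosedPnLin.finrank_HH_of_iso k (commI (Om k X) M) 0
  have p0 : 1 ≤ Module.finrank k (Coh.HH X L 0) := Module.finrank_pos
  have p1 : 1 ≤ Module.finrank k (Coh.HH X (CohB1.tensorMod (Om k X) M) 0) :=
    Module.finrank_pos
  have rr := riemann_roch k X hdim hreg L hL
  have h2 : 2 ≤ Module.finrank k (Coh.HH X L 0) := by
    by_contra hcon
    have h1 : Module.finrank k (Coh.HH X L 0) = 1 := by omega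
    obtain ⟨s, hs⟩ := exists_section_of_pos k X L cL (by omega)
    haveI := isIso_of_deg_nonpos k X hdim L hL s hs (by
      rw [h1] at heq; push_cast at heq; omega)
    exact h0.false (asIso s).symm
  have hg : Module.finrank k (Coh.HH X L 0) + 1 ≤ Curv2.genus k X := by
    by_contra hcon
    obtain ⟨e⟩ := iso_Om_of_deg_of_h0 k X hdim hreg L hL (by omega) (by omega)
    exact hK.false e
  obtain ⟨N, s, hN⟩ := exists_g12 k X hdim hreg (Curv2.deg k X L 1).toNat L hL
    (Int.self_le_toNat _) (by omega) p0 heq hg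
  refine ⟨N, s, hN, ?_⟩
  obtain ⟨r, hr⟩ : ∃ r : ℕ, Module.finrank k (Coh.HH X L 0) = r + 1 :=
    ⟨Module.finrank k (Coh.HH X L 0) - 1, by omega⟩
  rw [hr, Nat.add_sub_cancel]
  exact mult_g12 k X hdim hreg L N hL s hN r hr (by
    rw [hr] at heq; push_cast at heq; omega) (by omega)

end Part7

end Groth.Agent.Lib.R2H1.CliffordEq
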