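/-
R2H1CompositumEt (helper1): compositum of an étale integral closure with a normal domain (S5065).
* exists_idem: idempotent cutting out a maximal ideal of a reduced Artinian ring
* exists_tmul_one_eq: smooth algebra over a normal domain is integrally closed in its generic fibre
* exists_idem_lift, surj_of_closure, idem_isIntegral, main_5065
-/
import Mathlib

set_option autoImplicit false
set_option linter.style.haveILetI false
set_option linter.unusedSectionVars false
universe u

namespace Groth.Agent.Lib.R2H1.CompositumEt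

section Part1

open TensorProduct


/-- In a reduced Artinian ring, every maximal ideal is cut out by an idempotent. -/
theorem exists_idem (P : Type*) [CommRing P] [IsArtinianRing P] [IsReduced P] (m : Ideal P)
    [hm : m.IsMaximal] :
    ∃ e : P, IsIdempotentElem e ∧ e ∉ m ∧ ∀ x ∈ m, x * e = 0 := by
  classical
  let M : MaximalSpectrum P := ⟨m, hm⟩
  let E := IsArtinianRing.equivPi P
  have hE : ∀ (x : P) (m' : MaximalSpectrum P), E x m' = Ideal.Quotient.mk m'.asIdeal x :=
    fun x m' => IsArtinianRing.equivPi_apply P x m'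
  let e : P := E.symm (Pi.single M 1)
  have hEe : E e = Pi.single M 1 := E.apply_symm_apply _
  refine ⟨e, ?_, ?_, ?_⟩
  · apply E.injective
    rw [map_mul, hEe]
    funext m'
    by_cases h : m' = M
    · subst h; simp
    · simp [Pi.single_eq_of_ne h]
  · intro hem
    have h1 : E e M = 0 := by
      rw [hE]; exact Ideal.Quotient.eq_zero_iff_mem.mpr hem
    rw [hEe, Pi.single_eq_same] at h1
    exact one_ne_zero h1
  · intro x hx
    apply E.injective
    rw [map_mul, hEe, map_zero]
    funext m'
    by_cases h : m' = M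
    · subst h
      have : E x M = 0 := by rw [hE]; exact Ideal.Quotient.eq_zero_iff_mem.mpr hx
      simp [this]
    · simp [Pi.single_eq_of_ne h]

/-- A smooth algebra over a normal domain is integrally closed in its base change to the fraction
field. -/
theorem exists_tmul_one_eq (R S : Type*) [CommRing R] [IsDomain R] [IsIntegrallyClosed R]
    [CommRing S] [Algebra R S] [Algebra.Smooth R S]
    (t : S ⊗[R] FractionRing R) (ht : IsIntegral S t) :
    ∃ s : S, s ⊗ₜ[R] (1 : FractionRing R) = t := by
  have hb : Function.Bijective (TensorProduct.toIntegralClosure R S (FractionRing R)) :=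
    TensorProduct.toIntegralClosure_bijective_of_smooth
  obtain ⟨w, hw⟩ := hb.2 ⟨t, ht⟩
  have key : ∀ w : S ⊗[R] integralClosure R (FractionRing R), ∃ l : S,
      l ⊗ₜ[R] (1 : FractionRing R) =
        ((TensorProduct.toIntegralClosure R S (FractionRing R) w :
          integralClosure S (S ⊗[R] FractionRing R)) : S ⊗[R] FractionRing R) := by
    intro w
    induction w using TensorProduct.induction_on with
    | zero => exact ⟨0, by simp⟩
    | tmul l k =>
      obtain ⟨k, hk⟩ := k
      have hk' : k ∈ (⊥ : Subalgebra R (FractionRing R)) := by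
        rw [← IsIntegrallyClosed.integralClosure_eq_bot (R := R) (K := FractionRing R)]
        exact hk
      obtain ⟨r, rfl⟩ := Algebra.mem_bot.mp hk'
      refine ⟨r • l, ?_⟩
      simp only [TensorProduct.toIntegralClosure, AlgHom.coe_codRestrict,
        Algebra.TensorProduct.map_tmul, AlgHom.coe_id, id_eq, Subalgebra.coe_val]
      rw [TensorProduct.smul_tmul, Algebra.smul_def, mul_one]
    | add x y hx hy =>
      obtain ⟨l1, h1⟩ := hx
      obtain ⟨l2, h2⟩ := hy
      refine ⟨l1 + l2, ?_⟩
      rw [TensorProduct.add_tmul, h1, h2, map_add]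
      rfl
  obtain ⟨l, hl⟩ := key w
  exact ⟨l, by rw [hl, hw]⟩

/-- Idempotent splitting a surjection from a reduced Artinian algebra onto a field, and
integral lifts. -/
theorem exists_idem_lift (R P F : Type*) [CommRing R] [CommRing P] [Algebra R P]
    [IsArtinianRing P] [IsReduced P] [Field F] [Algebra R F] (ψ : P →ₐ[R] F)
    (hψ : Function.Surjective ψ) :
    ∃ e : P, IsIdempotentElem e ∧ ψ e = 1 ∧ (∀ p, ψ p = 0 → p * e = 0) ∧
      ∀ x : F, IsIntegral R x → ∃ z : P, IsIntegral R z ∧ ψ z = x := by
  haveI hm : (RingHom.ker (ψ : P →+* F)).IsMaximal :=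
    RingHom.ker_isMaximal_of_surjective (ψ : P →+* F) hψ
  obtain ⟨e, he, hem, hmul⟩ := exists_idem P (RingHom.ker (ψ : P →+* F))
  have hψe : ψ e = 1 := by
    have h1 : ψ e * ψ e = ψ e := by rw [← map_mul, he.eq]
    have h2 : ψ e ≠ 0 := fun h => hem (by rw [RingHom.mem_ker]; exact h)
    exact mul_left_cancel₀ h2 (by rw [h1, mul_one])
  refine ⟨e, he, hψe, fun p hp => hmul p (by rw [RingHom.mem_ker]; exact hp), ?_⟩
  intro x hx
  obtain ⟨y, rfl⟩ := hψ x
  obtain ⟨f, hfm, hf⟩ := hx
  refine ⟨y * e, ?_, by rw [map_mul, hψe, mul_one]⟩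
  have h0 : (Polynomial.aeval y f) * e = 0 := by
    apply hmul
    rw [RingHom.mem_ker]
    show ψ (Polynomial.aeval y f) = 0
    rw [← Polynomial.aeval_algHom_apply, Polynomial.aeval_def]; exact hf
  refine ⟨Polynomial.X * f, Polynomial.monic_X.mul hfm, ?_⟩
  rw [← Polynomial.aeval_def, map_mul, Polynomial.aeval_X]
  let J : Ideal P := Ideal.span {1 - e}
  have h1 : Ideal.Quotient.mkₐ R J (y * e) = Ideal.Quotient.mkₐ R J y := by
    rw [Ideal.Quotient.mkₐ_eq_mk, Ideal.Quotient.eq, Ideal.mem_span_singleton']
    exact ⟨-y, by ring⟩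
  have h2 : Polynomial.aeval (y * e) f - Polynomial.aeval y f ∈ J := by
    rw [← Ideal.Quotient.eq, ← Ideal.Quotient.mkₐ_eq_mk R, ← Polynomial.aeval_algHom_apply,
      ← Polynomial.aeval_algHom_apply, h1]
  obtain ⟨q, hq⟩ := Ideal.mem_span_singleton'.mp h2
  have h3 : Polynomial.aeval (y * e) f = Polynomial.aeval y f + q * (1 - e) := by rw [hq]; ring
  rw [h3]
  have he' : e * e = e := he.eq
  calc y * e * (Polynomial.aeval y f + q * (1 - e))
      = y * (Polynomial.aeval y f * e) + y * q * (e - e * e) := by ring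
    _ = 0 := by rw [h0, he']; ring

/-- A ring hom from an Artinian ring to a field whose image generates the field is surjective. -/
theorem surj_of_closure (P F : Type*) [CommRing P] [IsArtinianRing P] [Field F] (ψ : P →+* F)
    (S : Set F) (hS : S ⊆ Set.range ψ) (hgen : Subfield.closure S = ⊤) :
    Function.Surjective ψ := by
  haveI : (RingHom.ker ψ).IsPrime := RingHom.ker_isPrime ψ
  haveI hm : (RingHom.ker ψ).IsMaximal := IsArtinianRing.isMaximal_of_isPrime _
  let T : Subfield F := { ψ.range with
    inv_mem' := by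
      rintro _ ⟨p, rfl⟩
      by_cases hp : ψ p = 0
      · rw [hp, inv_zero]; exact ⟨0, map_zero _⟩
      · obtain ⟨y, i, hi, hyi⟩ := hm.exists_inv (x := p) (by rwa [RingHom.mem_ker])
        refine ⟨y, ?_⟩
        have := congrArg ψ hyi
        rw [map_add, map_mul, map_one, (RingHom.mem_ker).mp hi, add_zero] at this
        exact (eq_inv_of_mul_eq_one_left this) }
  have hle : Subfield.closure S ≤ T := Subfield.closure_le.mpr hS
  intro x
  have : x ∈ T := hle (hgen ▸ Subfield.mem_top x)
  exact this

end Part1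

section Part2

open TensorProduct


theorem idem_isIntegral (R P : Type*) [CommRing R] [CommRing P] [Algebra R P] (e : P)
    (he : IsIdempotentElem e) : IsIntegral R e := by
  refine ⟨Polynomial.X * (Polynomial.X - Polynomial.C 1),
    Polynomial.monic_X.mul (Polynomial.monic_X_sub_C 1), ?_⟩
  rw [← Polynomial.aeval_def, map_mul, map_sub, Polynomial.aeval_X, Polynomial.aeval_C,
    map_one, mul_sub, mul_one, he.eq, sub_self]

set_option maxHeartbeats 1600000 in
theorem main_5065 (A A' L L₁ : Type u) [CommRing A] [IsDomain A]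
    [IsIntegrallyClosed A] [CommRing A'] [IsDomain A'] [IsIntegrallyClosed A'] [Algebra A A']
    [Field L] [Algebra A L] [Algebra.IsAlgebraic A L] (hinj : Function.Injective (algebraMap A L))
    [Algebra.Etale A ↥(integralClosure A L)]
    [Field L₁] [Algebra A' L₁] [Algebra L L₁] [Algebra A L₁] [IsScalarTower A A' L₁]
    [IsScalarTower A L L₁]
    (hinj' : Function.Injective (algebraMap A' L₁))
    (hgen : Subfield.closure (Set.range (algebraMap A' L₁) ∪ Set.range (algebraMap L L₁)) = ⊤) :
    Algebra.Etale A' ↥(integralClosure A' L₁) ∧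
      integralClosure A' L₁ =
        Algebra.adjoin A' ((algebraMap L L₁) '' {x : L | IsIntegral A x}) := by
  classical
  have hAL₁ : Function.Injective (algebraMap A L₁) := by
    rw [IsScalarTower.algebraMap_eq A L L₁]
    exact (algebraMap L L₁).injective.comp hinj
  have hAA' : Function.Injective (algebraMap A A') := by
    have h1 := hAL₁
    rw [IsScalarTower.algebraMap_eq A A' L₁] at h1
    exact Function.Injective.of_comp h1
  haveI : Module.Finite A (integralClosure A L) := Algebra.IsIntegral.finite
  let gC : (integralClosure A L) →ₐ[A] L₁ :=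
    (IsScalarTower.toAlgHom A L L₁).comp (integralClosure A L).val
  let φ : A' ⊗[A] (integralClosure A L) →ₐ[A'] L₁ :=
    Algebra.TensorProduct.lift (Algebra.ofId A' L₁) gC (fun _ _ => Commute.all _ _)
  have hφ : ∀ (a : A') (c : integralClosure A L),
      φ (a ⊗ₜ c) = algebraMap A' L₁ a * algebraMap L L₁ c := by
    intro a c
    simp [φ, gC, Algebra.ofId_apply]
  -- range φ = adjoin
  have hrange : φ.range = Algebra.adjoin A' ((algebraMap L L₁) '' {x : L | IsIntegral A x}) := by
    apply le_antisymm
    · have key : ∀ d, φ d ∈ Algebra.adjoin A' ((algebraMap L L₁) '' {x : L | IsIntegral A x}) := by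
        intro d
        induction d using TensorProduct.induction_on with
        | zero => simp
        | tmul a c =>
          rw [hφ, ← Algebra.smul_def]
          have hc : algebraMap L L₁ c ∈
              Algebra.adjoin A' ((algebraMap L L₁) '' {x : L | IsIntegral A x}) :=
            Algebra.subset_adjoin ⟨c.1, c.2, rfl⟩
          exact Subalgebra.smul_mem _ hc a
        | add x y hx hy =>
          rw [map_add]
          exact add_mem hx hy
      intro x hx
      obtain ⟨d, rfl⟩ := (AlgHom.mem_range φ).mp hx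
      exact key d
    · apply Algebra.adjoin_le
      rintro _ ⟨x, hx, rfl⟩
      exact (AlgHom.mem_range φ).mpr ⟨1 ⊗ₜ ⟨x, hx⟩, by rw [hφ]; simp⟩
  -- the generic fibre
  let ι : FractionRing A' →ₐ[A'] L₁ := IsFractionRing.liftAlgHom (g := Algebra.ofId A' L₁) hinj'
  have hι : ∀ a : A', ι (algebraMap A' (FractionRing A') a) = algebraMap A' L₁ a := by
    intro a
    exact ι.commutes a
  let ψ : (A' ⊗[A] (integralClosure A L)) ⊗[A'] FractionRing A' →ₐ[A'] L₁ :=
    Algebra.TensorProduct.productMap φ ι
  have hψ : ∀ d k, ψ (d ⊗ₜ k) = φ d * ι k :=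
    fun d k => Algebra.TensorProduct.productMap_apply_tmul _ _ _ _
  haveI : IsArtinianRing ((A' ⊗[A] (integralClosure A L)) ⊗[A'] FractionRing A') := by
    haveI : IsArtinianRing (FractionRing A' ⊗[A'] (A' ⊗[A] (integralClosure A L))) :=
      IsArtinianRing.of_finite (FractionRing A') (FractionRing A' ⊗[A'] (A' ⊗[A] (integralClosure A L)))
    exact (Algebra.TensorProduct.comm A' (FractionRing A')
      (A' ⊗[A] (integralClosure A L))).surjective.isArtinianRing
  haveI : IsReduced ((A' ⊗[A] (integralClosure A L)) ⊗[A'] FractionRing A') := by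
    haveI : IsReduced (FractionRing A' ⊗[A'] (A' ⊗[A] (integralClosure A L))) :=
      Algebra.FormallyUnramified.isReduced_of_field (FractionRing A') (FractionRing A' ⊗[A'] (A' ⊗[A] (integralClosure A L)))
    exact isReduced_of_injective
      (Algebra.TensorProduct.comm A' (A' ⊗[A] (integralClosure A L)) (FractionRing A')).toAlgHom
      (Algebra.TensorProduct.comm A' (A' ⊗[A] (integralClosure A L)) (FractionRing A')).injective
  -- surjectivity of ψ
  have hψsurj : Function.Surjective ψ := by
    have hsub : Set.range (algebraMap A' L₁) ∪ Set.range (algebraMap L L₁) ⊆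
        Set.range ψ.toRingHom := ?_
    · exact surj_of_closure ((A' ⊗[A] (integralClosure A L)) ⊗[A'] FractionRing A') L₁
        ψ.toRingHom _ hsub hgen
    rintro x (⟨a, rfl⟩ | ⟨l, rfl⟩)
    · refine ⟨(a ⊗ₜ 1) ⊗ₜ 1, ?_⟩
      show ψ _ = _
      rw [hψ, hφ]; simp
    · obtain ⟨y, hy0, hy⟩ := (Algebra.IsAlgebraic.isAlgebraic (R := A) l).exists_integral_multiple
      have hya : algebraMap A' L₁ (algebraMap A A' y) ≠ 0 := by
        rw [← IsScalarTower.algebraMap_apply A A' L₁]
        exact fun h => hy0 (hAL₁ (by rw [h, map_zero]))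
      refine ⟨((1 : A') ⊗ₜ (⟨y • l, hy⟩ : integralClosure A L)) ⊗ₜ
        (algebraMap A' (FractionRing A') (algebraMap A A' y))⁻¹, ?_⟩
      show ψ _ = _
      rw [hψ, hφ, map_inv₀, hι, map_one, one_mul]
      show algebraMap L L₁ (y • l) * _ = _
      rw [Algebra.smul_def, map_mul, ← IsScalarTower.algebraMap_apply A L L₁,
        ← IsScalarTower.algebraMap_apply A A' L₁]
      rw [← IsScalarTower.algebraMap_apply A A' L₁] at hya
      field_simp
  obtain ⟨e, he, hψe, hker, hlift⟩ := exists_idem_lift A' ((A' ⊗[A] (integralClosure A L)) ⊗[A'] FractionRing A') L₁ ψ hψsurj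
  have hincl : Function.Injective
      (fun d : A' ⊗[A] (integralClosure A L) => d ⊗ₜ[A'] (1 : FractionRing A')) :=
    Algebra.TensorProduct.includeLeft_injective (R := A') (S := A')
      (A := A' ⊗[A] (integralClosure A L)) (B := FractionRing A')
      (IsFractionRing.injective A' (FractionRing A'))
  have hclosed : ∀ t : (A' ⊗[A] (integralClosure A L)) ⊗[A'] FractionRing A',
      IsIntegral A' t → ∃ d, d ⊗ₜ[A'] (1 : FractionRing A') = t := fun t ht =>
    exists_tmul_one_eq A' (A' ⊗[A] (integralClosure A L)) t ht.tower_top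
  have hψ1 : ∀ d, ψ (d ⊗ₜ 1) = φ d := by
    intro d; rw [hψ, map_one, mul_one]
  -- integral closure = range φ
  have hic : integralClosure A' L₁ = φ.range := by
    apply le_antisymm
    · intro x hx
      obtain ⟨z, hz, rfl⟩ := hlift x hx
      obtain ⟨d, rfl⟩ := hclosed z hz
      exact (AlgHom.mem_range φ).mpr ⟨d, (hψ1 d).symm⟩
    · intro x hx
      obtain ⟨d, rfl⟩ := (AlgHom.mem_range φ).mp hx
      exact (Algebra.IsIntegral.isIntegral (R := A') d).map φ
  refine ⟨?_, hic.trans hrange⟩
  -- étaleness
  have hei : IsIntegral A' e := idem_isIntegral A' _ e he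
  obtain ⟨de, hde⟩ := hclosed e hei
  have hdeid : IsIdempotentElem de := by
    apply hincl
    show (de * de) ⊗ₜ[A'] (1 : FractionRing A') = de ⊗ₜ 1
    have : (de * de) ⊗ₜ[A'] (1 : FractionRing A') = (de ⊗ₜ 1) * (de ⊗ₜ 1) := by
      rw [Algebra.TensorProduct.tmul_mul_tmul, mul_one]
    rw [this, hde, he.eq]
  have hkerφ : RingHom.ker (φ : _ →+* L₁) = Ideal.span {1 - de} := by
    apply le_antisymm
    · intro d hd
      rw [RingHom.mem_ker] at hd
      have h1 : (d ⊗ₜ[A'] (1 : FractionRing A')) * e = 0 := hker _ (by rw [hψ1]; exact hd)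
      rw [← hde, Algebra.TensorProduct.tmul_mul_tmul, mul_one] at h1
      have h2 : d * de = 0 := hincl (by simpa using h1)
      rw [Ideal.mem_span_singleton']
      exact ⟨d, by rw [mul_sub, mul_one, h2, sub_zero]⟩
    · rw [Ideal.span_le, Set.singleton_subset_iff]
      show 1 - de ∈ RingHom.ker (φ : _ →+* L₁)
      rw [RingHom.mem_ker]
      show φ (1 - de) = 0
      rw [map_sub, map_one, ← hψ1 de, hde, hψe, sub_self]
  let φ' : A' ⊗[A] (integralClosure A L) →ₐ[A'] integralClosure A' L₁ :=
    φ.codRestrict (integralClosure A' L₁) (fun d => by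
      rw [hic]; exact (AlgHom.mem_range φ).mpr ⟨d, rfl⟩)
  letI : Algebra (A' ⊗[A] (integralClosure A L)) (integralClosure A' L₁) :=
    φ'.toRingHom.toAlgebra
  haveI : IsScalarTower A' (A' ⊗[A] (integralClosure A L)) (integralClosure A' L₁) :=
    IsScalarTower.of_algebraMap_eq (fun a => (φ'.commutes a).symm)
  have hφ'val : ∀ d, ((algebraMap (A' ⊗[A] (integralClosure A L)) (integralClosure A' L₁) d :
      integralClosure A' L₁) : L₁) = φ d := fun d => rfl
  haveI : IsLocalization.Away de (integralClosure A' L₁) := by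
    apply IsLocalization.away_of_isIdempotentElem hdeid
    · rw [← hkerφ]
      ext d
      rw [RingHom.mem_ker, RingHom.mem_ker, Subtype.ext_iff, hφ'val]
      rfl
    · rintro ⟨x, hx⟩
      rw [hic] at hx
      obtain ⟨d, rfl⟩ := (AlgHom.mem_range φ).mp hx
      exact ⟨d, Subtype.ext (hφ'val d)⟩
  haveI : Algebra.Etale (A' ⊗[A] (integralClosure A L)) (integralClosure A' L₁) :=
    Algebra.Etale.of_isLocalizationAway de
  exact Algebra.Etale.comp A' (A' ⊗[A] (integralClosure A L)) (integralClosure A' L₁)

end Part2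

end Groth.Agent.Lib.R2H1.CompositumEt
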