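import Mathlib
import Groth.Agent.Lib.R2H1IsoP1F
import Groth.Agent.Lib.H9SteinAlg
import Groth.Agent.S9705
set_option backward.isDefEq.respectTransparency.types false

/-!
helper1 (run 2): connectedness of a closed subscheme D of an integral proper scheme over an algebraically closed field versus H1 of its ideal (S17482, S17483). API: connected_of_h1_ideal, h1_ideal_of_connected_reduced.
-/

set_option autoImplicit false
set_option linter.style.haveILetI false
set_option linter.unusedSectionVars false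
universe u v

open CategoryTheory CategoryTheory.Limits AlgebraicGeometry TopologicalSpace Opposite

namespace Groth.Agent.Lib.R2H1.ConnDiv

section Part1

open Groth.Agent.Lib.R2H2.HHLin Groth.Agent.Lib.R2H1.DegCartier Groth.Agent.Lib.R2H1.EulerAdd
  Groth.Agent.Lib.R2H1.CurveEuler Groth.Agent.Lib.R2H1.GenusLe
open Groth.Agent.Lib.H9SteinH0 Groth.Agent.Lib.H9SteinConn Groth.Agent.Lib.H9NormFin
  Groth.Agent.Lib.H9SteinAlg



variable (k : Type u) [Field k] [IsAlgClosed k] (X : Scheme.{u}) [X.Over (Spec (CommRingCat.of k))]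
    [IsIntegral X] [IsProper (X ↘ (Spec (CommRingCat.of k)))]

include k in
/-- S17482 core: if `H¹(I_D) = 0` then `D` is connected -/
theorem connected_of_h1_ideal (D : X.IdealSheafData) (hne : Nonempty ↥D.subscheme)
    (hvan : Subsingleton (Coh.HH X (ClSub.idealMod D) 1)) : ConnectedSpace ↥D.subscheme := by
  haveI := isNoetherian_of_proper k X
  have hS := idealSeq_shortExact D
  have cO := isCoh_structureModule X
  haveI := finite_HH k X _ cO 0
  have hsurj : Function.Surjective (HmapA k (idealSeq D).g 0) := by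
    intro x₃
    have h0 : deltaL (idealSeq D) hS 0 x₃ = 0 := @Subsingleton.elim _ hvan _ _
    obtain ⟨x₂, hx₂⟩ := exact₃ (idealSeq D) hS 0 x₃ h0
    exact ⟨x₂, hx₂⟩
  have hle : Module.finrank k (Coh.HH X (ClSub.quotMod D) 0) ≤
      Module.finrank k (Coh.HH X (Coh.structureModule X) 0) :=
    LinearMap.finrank_le_finrank_of_surjective (f := HmapA k (idealSeq D).g 0) hsurj
  rw [Groth.Agent.Lib.R2H1.RegPoint.finrank_H0_structure_eq_one k X] at hle
  have hker := Groth.Agent.Lib.R2H1.IsoP1D.h0_quotMod_ker k X D.subschemeι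
  rw [Scheme.IdealSheafData.ker_subschemeι] at hker
  letI := algΓ k (D.subschemeι ≫ (X ↘ Spec (CommRingCat.of k)))
  rw [hker] at hle
  haveI : Module.Finite k Γ(D.subscheme, ⊤) :=
    finite_toGlobal k (D.subschemeι ≫ (X ↘ Spec (CommRingCat.of k)))
  haveI := nontrivial_of_nonempty D.subscheme
  rw [connectedSpace_iff_trivIdem]
  refine ⟨hne, fun e he => ?_⟩
  have h1 : Module.finrank k Γ(D.subscheme, ⊤) = 1 := by
    have : 0 < Module.finrank k Γ(D.subscheme, ⊤) := Module.finrank_pos
    omega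
  obtain ⟨c, hc⟩ : ∃ c : k, c • (1 : Γ(D.subscheme, ⊤)) = e :=
    (finrank_eq_one_iff_of_nonzero' (1 : Γ(D.subscheme, ⊤)) one_ne_zero).mp h1 e
  have he' : e * e = e := he
  rw [← hc, smul_mul_smul_comm, mul_one] at he'
  have hinj : Function.Injective (fun a : k => a • (1 : Γ(D.subscheme, ⊤))) := by
    intro a b hab
    exact smul_left_injective k (one_ne_zero : (1 : Γ(D.subscheme, ⊤)) ≠ 0) hab
  have hcc : c * c = c := hinj he'
  have hcc' : c * (c - 1) = 0 := by rw [mul_sub, hcc, mul_one, sub_self]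
  rcases mul_eq_zero.mp hcc' with h | h
  · left; rw [← hc, h, zero_smul]
  · right; rw [← hc, sub_eq_zero.mp h, one_smul]

include k in
/-- S17483 core: if `D` is connected and reduced and `H¹(O_X) = 0` then `H¹(I_D) = 0` -/
theorem h1_ideal_of_connected_reduced (hH1 : Subsingleton (Coh.HH X (Coh.structureModule X) 1))
    (D : X.IdealSheafData) [ConnectedSpace ↥D.subscheme] [IsReduced D.subscheme] :
    Subsingleton (Coh.HH X (ClSub.idealMod D) 1) := by
  haveI := isNoetherian_of_proper k X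
  have hS := idealSeq_shortExact D
  have cO := isCoh_structureModule X
  haveI := finite_HH k X _ cO 0
  have hker := Groth.Agent.Lib.R2H1.IsoP1D.h0_quotMod_ker k X D.subschemeι
  rw [Scheme.IdealSheafData.ker_subschemeι] at hker
  letI := algΓ k (D.subschemeι ≫ (X ↘ Spec (CommRingCat.of k)))
  haveI : Module.Finite k Γ(D.subscheme, ⊤) :=
    finite_toGlobal k (D.subschemeι ≫ (X ↘ Spec (CommRingCat.of k)))
  obtain ⟨hne, hti⟩ := (connectedSpace_iff_trivIdem D.subscheme).mp inferInstance
  haveI := hne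
  haveI := nontrivial_of_nonempty D.subscheme
  haveI : IsArtinianRing Γ(D.subscheme, ⊤) := IsArtinianRing.of_finite k _
  haveI : IsLocalRing Γ(D.subscheme, ⊤) := isLocalRing_of_trivIdem hti
  have hfield : IsField Γ(D.subscheme, ⊤) := IsArtinianRing.isField_of_isReduced_of_isLocalRing _
  haveI : IsDomain Γ(D.subscheme, ⊤) := hfield.isDomain
  haveI : Algebra.IsIntegral k Γ(D.subscheme, ⊤) := Algebra.IsIntegral.of_finite k _
  have hbij : Function.Bijective (algebraMap k Γ(D.subscheme, ⊤)) :=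
    IsAlgClosed.algebraMap_bijective_of_isIntegral
  have h1 : Module.finrank k Γ(D.subscheme, ⊤) = 1 := by
    have := (LinearEquiv.ofBijective (Algebra.linearMap k Γ(D.subscheme, ⊤)) hbij).finrank_eq
    rw [← this, Module.finrank_self]
  rw [← hker] at h1
  have cQ : Coh.IsCoh (ClSub.quotMod D) :=
    Groth.Agent.S0019.result D.subschemeι _ (isCoh_structureModule _)
  haveI := finite_HH k X _ cQ 0
  -- the map on `H⁰` is nonzero hence surjective
  have hg0 : (idealSeq D).g ≠ 0 := by
    intro h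
    haveI : Epi (idealSeq D).g := hS.epi_g
    have hz : IsZero (ClSub.quotMod D) := by
      have : 𝟙 (idealSeq D).X₃ = 0 := by
        rw [← cancel_epi (idealSeq D).g, Category.comp_id, comp_zero]
        exact h
      exact (IsZero.iff_id_eq_zero _).mpr this
    haveI := Groth.Agent.Lib.R2H1.TFDeg.subsingleton_HH_of_isZero X (ClSub.quotMod D) hz 0
    rw [Module.finrank_zero_of_subsingleton] at h1
    exact zero_ne_one h1
  obtain ⟨σ₀, hσ₀⟩ : ∃ σ₀ : Coh.structureModule X ⟶ (idealSeq D).X₂,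
      σ₀ ≫ (idealSeq D).g = (idealSeq D).g := ⟨𝟙 _, Category.id_comp _⟩
  have hne0 : HmapA k (idealSeq D).g 0 (Groth.Agent.Lib.R2H2.PnLinRes.cls σ₀) ≠ 0 := by
    intro h
    rw [HmapA_apply, Groth.Agent.Lib.R2H2.PnLinRes.cls_comp, hσ₀] at h
    exact hg0 (Groth.Agent.Lib.R2H2.PnLinRes.eq_zero_of_cls _ h)
  have hsurj : Function.Surjective (HmapA k (idealSeq D).g 0) := by
    intro x₃
    obtain ⟨c, hc⟩ := (finrank_eq_one_iff_of_nonzero' _ hne0).mp h1 x₃
    exact ⟨c • Groth.Agent.Lib.R2H2.PnLinRes.cls σ₀, by rw [map_smul]; exact hc⟩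
  refine subsingleton_of_forall_eq 0 fun x₁ => ?_
  obtain ⟨x₃, rfl⟩ := exact₁ (idealSeq D) hS 0 x₁ (@Subsingleton.elim _ hH1 _ _)
  obtain ⟨x₂, rfl⟩ := hsurj x₃
  rw [HmapA_apply]
  exact Groth.Agent.Lib.R2H2.PnLinRes.deltaL_HmapL_g (idealSeq D) hS 0 x₂

end Part1

end Groth.Agent.Lib.R2H1.ConnDiv
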