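import Mathlib
import Groth.Prelude.Def_Models

/-!
# Contraction of a `(-1)`-index of a numerical type (R2H1)

For a numerical type `T` on `n + 1` indices whose last index is a `(-1)`-index we construct the
contracted numerical type `contr T h` on `n` indices, show `T.IsContraction (contr T h)` and that
every contraction has the same genus.
-/

set_option autoImplicit false

namespace Groth.Agent.Lib.R2H1.Contraction

section
open Finset Models Models.NumericalType

variable {n : ℕ} (T : Models.NumericalType (n + 1))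

/-- `x i = a i l` -/
def x (i : Fin n) : ℤ := T.a i.castSucc (Fin.last n)
/-- `t i = a i l / w l` -/
def t (i : Fin n) : ℤ := x T i / T.w (Fin.last n)
/-- `s i = a i l / w i` -/
def s (i : Fin n) : ℤ := x T i / T.w i.castSucc

theorem x_nonneg (i : Fin n) : 0 ≤ x T i :=
  T.offDiag_nonneg _ _ (Fin.castSucc_lt_last i).ne

theorem x_eq_t (i : Fin n) : x T i = T.w (Fin.last n) * t T i := by
  have h : T.w (Fin.last n) ∣ x T i := by
    have := T.w_dvd (Fin.last n) i.castSucc
    rwa [T.symm.apply] at this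
  exact (Int.mul_ediv_cancel' h).symm

theorem x_eq_s (i : Fin n) : x T i = T.w i.castSucc * s T i :=
  (Int.mul_ediv_cancel' (T.w_dvd i.castSucc (Fin.last n))).symm

theorem t_nonneg (i : Fin n) : 0 ≤ t T i :=
  Int.ediv_nonneg (x_nonneg T i) (T.w_pos _).le

theorem s_nonneg (i : Fin n) : 0 ≤ s T i :=
  Int.ediv_nonneg (x_nonneg T i) (T.w_pos _).le

/-- the row sum relation at a non-last index -/
theorem row_sum (i : Fin n) :
    ∑ j : Fin n, T.a i.castSucc j.castSucc * T.m j.castSucc = - x T i * T.m (Fin.last n) := by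
  have h := congrFun T.mulVec_m i.castSucc
  simp only [Matrix.mulVec, dotProduct, Pi.zero_apply] at h
  rw [Fin.sum_univ_castSucc] at h
  unfold x
  linarith

/-- the row sum relation at the last index -/
theorem last_sum (h : T.IsMinusOne (Fin.last n)) :
    ∑ j : Fin n, x T j * T.m j.castSucc = T.w (Fin.last n) * T.m (Fin.last n) := by
  have h1 := congrFun T.mulVec_m (Fin.last n)
  simp only [Matrix.mulVec, dotProduct, Pi.zero_apply] at h1
  rw [Fin.sum_univ_castSucc, h.2] at h1
  have h2 : ∀ j : Fin n, T.a (Fin.last n) j.castSucc = x T j := fun j => by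
    unfold x; exact T.symm.apply _ _
  simp only [h2] at h1
  linarith

theorem sum_t (h : T.IsMinusOne (Fin.last n)) :
    ∑ j : Fin n, t T j * T.m j.castSucc = T.m (Fin.last n) := by
  have h1 := last_sum T h
  have h2 : ∑ j : Fin n, x T j * T.m j.castSucc =
      T.w (Fin.last n) * ∑ j : Fin n, t T j * T.m j.castSucc := by
    rw [Finset.mul_sum]
    refine Finset.sum_congr rfl fun j _ => ?_
    rw [x_eq_t]; ring
  rw [h2] at h1
  exact mul_left_cancel₀ (T.w_pos _).ne' h1

theorem n_pos (h : T.IsMinusOne (Fin.last n)) : 0 < n := by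
  rcases Nat.eq_zero_or_pos n with h0 | h0
  · exfalso
    subst h0
    have h1 := congrFun T.mulVec_m (Fin.last 0)
    simp only [Matrix.mulVec, dotProduct, Pi.zero_apply] at h1
    rw [Fin.sum_univ_castSucc] at h1
    simp only [Finset.univ_eq_empty, Finset.sum_empty, zero_add] at h1
    rw [h.2] at h1
    have := T.w_pos (Fin.last 0)
    have := T.m_pos (Fin.last 0)
    nlinarith
  · exact h0

end

section
open Finset Models Models.NumericalType

variable {n : ℕ} (T : Models.NumericalType (n + 1))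

theorem two_dvd_w_of_cond (i : Fin n) (hc : 2 ∣ t T i ∧ ¬ 2 ∣ s T i) :
    2 ∣ T.w i.castSucc := by
  have h1 : (2:ℤ) ∣ T.w i.castSucc * s T i := by
    rw [← x_eq_s, x_eq_t]
    exact Dvd.dvd.mul_left hc.1 _
  rcases Int.prime_two.dvd_or_dvd h1 with h2 | h2
  · exact h2
  · exact absurd h2 hc.2

/-- the new `w` -/
def w' (i : Fin n) : ℤ :=
  if 2 ∣ t T i ∧ ¬ 2 ∣ s T i then T.w i.castSucc / 2 else T.w i.castSucc

theorem w_eq_of_cond (i : Fin n) (hc : 2 ∣ t T i ∧ ¬ 2 ∣ s T i) :
    T.w i.castSucc = 2 * w' T i := by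
  unfold w'; rw [if_pos hc]
  exact (Int.mul_ediv_cancel' (two_dvd_w_of_cond T i hc)).symm

theorem w'_eq_of_not_cond (i : Fin n) (hc : ¬ (2 ∣ t T i ∧ ¬ 2 ∣ s T i)) :
    w' T i = T.w i.castSucc := by
  unfold w'; rw [if_neg hc]

theorem w'_pos (i : Fin n) : 0 < w' T i := by
  by_cases hc : 2 ∣ t T i ∧ ¬ 2 ∣ s T i
  · have := w_eq_of_cond T i hc
    have := T.w_pos i.castSucc
    omega
  · rw [w'_eq_of_not_cond T i hc]; exact T.w_pos _

theorem w'_dvd (i : Fin n) : w' T i ∣ T.w i.castSucc := by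
  by_cases hc : 2 ∣ t T i ∧ ¬ 2 ∣ s T i
  · have := w_eq_of_cond T i hc
    exact ⟨2, by linarith⟩
  · rw [w'_eq_of_not_cond T i hc]

/-- the correction term in the new `g` -/
def q (i : Fin n) : ℤ :=
  (x T i ^ 2 - T.w (Fin.last n) * x T i) / (2 * w' T i * T.w (Fin.last n))

theorem x_sq_sub (i : Fin n) : x T i ^ 2 - T.w (Fin.last n) * x T i =
    T.w i.castSucc * T.w (Fin.last n) * (s T i * (t T i - 1)) := by
  have h1 : x T i ^ 2 - T.w (Fin.last n) * x T i =
      (T.w i.castSucc * s T i) * (T.w (Fin.last n) * t T i - T.w (Fin.last n)) := by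
    rw [← x_eq_s, ← x_eq_t]; ring
  rw [h1]; ring

theorem x_sq_sub' (i : Fin n) : x T i ^ 2 - T.w (Fin.last n) * x T i =
    T.w (Fin.last n) * T.w (Fin.last n) * (t T i * (t T i - 1)) := by
  have h1 : x T i ^ 2 - T.w (Fin.last n) * x T i =
      (T.w (Fin.last n) * t T i) * (T.w (Fin.last n) * t T i - T.w (Fin.last n)) := by
    rw [← x_eq_t]; ring
  rw [h1]; ring

theorem q_dvd (i : Fin n) :
    2 * w' T i * T.w (Fin.last n) ∣ x T i ^ 2 - T.w (Fin.last n) * x T i := by
  by_cases hc : 2 ∣ t T i ∧ ¬ 2 ∣ s T i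
  · refine ⟨s T i * (t T i - 1), ?_⟩
    rw [x_sq_sub, w_eq_of_cond T i hc]
  · rw [w'_eq_of_not_cond T i hc]
    have h3 : (2:ℤ) ∣ s T i * (t T i - 1) := by
      by_cases h4 : 2 ∣ t T i
      · have h5 : 2 ∣ s T i := by
          by_contra h6; exact hc ⟨h4, h6⟩
        exact Dvd.dvd.mul_right h5 _
      · have : 2 ∣ t T i - 1 := by omega
        exact Dvd.dvd.mul_left this _
    obtain ⟨c, hc'⟩ := h3
    refine ⟨c, ?_⟩
    rw [x_sq_sub, hc']; ring

theorem q_spec (i : Fin n) : 2 * w' T i * T.w (Fin.last n) * q T i =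
    x T i ^ 2 - T.w (Fin.last n) * x T i :=
  Int.mul_ediv_cancel' (q_dvd T i)

theorem den_pos (i : Fin n) : 0 < 2 * w' T i * T.w (Fin.last n) :=
  mul_pos (mul_pos two_pos (w'_pos T i)) (T.w_pos _)

theorem t_mul_nonneg (i : Fin n) : 0 ≤ t T i * (t T i - 1) := by
  have := t_nonneg T i
  rcases eq_or_lt_of_le this with h0 | h0
  · rw [← h0]; simp
  · exact mul_nonneg this (by omega)

theorem q_nonneg (i : Fin n) : 0 ≤ q T i := by
  have h1 := q_spec T i
  have h2 : 0 ≤ x T i ^ 2 - T.w (Fin.last n) * x T i := by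
    rw [x_sq_sub']
    have hw := T.w_pos (Fin.last n)
    exact mul_nonneg (mul_nonneg hw.le hw.le) (t_mul_nonneg T i)
  have h4 := den_pos T i
  by_contra h5
  have := mul_neg_of_pos_of_neg h4 (not_le.mp h5)
  linarith

theorem q_eq_of_cond (i : Fin n) (hc : 2 ∣ t T i ∧ ¬ 2 ∣ s T i) :
    q T i = s T i * (t T i - 1) := by
  have h1 := q_spec T i
  have h2 : x T i ^ 2 - T.w (Fin.last n) * x T i =
      2 * w' T i * T.w (Fin.last n) * (s T i * (t T i - 1)) := by
    rw [x_sq_sub, w_eq_of_cond T i hc]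
  rw [h2] at h1
  exact mul_left_cancel₀ (den_pos T i).ne' h1

theorem one_le_q_of_cond (i : Fin n) (hc : 2 ∣ t T i ∧ ¬ 2 ∣ s T i) : 1 ≤ q T i := by
  rw [q_eq_of_cond T i hc]
  have hs := s_nonneg T i
  have hs1 : 1 ≤ s T i := by
    rcases hc with ⟨_, h2⟩; omega
  have ht : 2 ≤ t T i := by
    have hx : 0 < x T i := by
      rw [x_eq_s]; exact mul_pos (T.w_pos _) (by omega)
    have ht0 : 0 < t T i := by
      have hw := T.w_pos (Fin.last n)
      by_contra h0
      have h0' : t T i ≤ 0 := not_lt.mp h0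
      have := mul_nonpos_of_nonneg_of_nonpos hw.le h0'
      rw [← x_eq_t] at this
      linarith
    obtain ⟨c, hc'⟩ := hc.1; omega
  nlinarith

/-- the new `g` -/
def g' (i : Fin n) : ℤ := T.w i.castSucc / w' T i * (T.g i.castSucc - 1) + 1 + q T i

theorem w_div_w'_of_cond (i : Fin n) (hc : 2 ∣ t T i ∧ ¬ 2 ∣ s T i) :
    T.w i.castSucc / w' T i = 2 := by
  rw [w_eq_of_cond T i hc]; exact Int.mul_ediv_cancel _ (w'_pos T i).ne'

theorem w_div_w'_of_not_cond (i : Fin n) (hc : ¬ (2 ∣ t T i ∧ ¬ 2 ∣ s T i)) :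
    T.w i.castSucc / w' T i = 1 := by
  rw [w'_eq_of_not_cond T i hc]; exact Int.ediv_self (T.w_pos _).ne'

theorem g'_nonneg (i : Fin n) : 0 ≤ g' T i := by
  unfold g'
  have hg := T.g_nonneg i.castSucc
  by_cases hc : 2 ∣ t T i ∧ ¬ 2 ∣ s T i
  · rw [w_div_w'_of_cond T i hc]
    have := one_le_q_of_cond T i hc
    linarith
  · rw [w_div_w'_of_not_cond T i hc]
    have := q_nonneg T i
    linarith

/-- the new `a` -/
def a' (i j : Fin n) : ℤ :=
  T.a i.castSucc j.castSucc - x T i * x T j / T.a (Fin.last n) (Fin.last n)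

theorem a'_eq (h : T.IsMinusOne (Fin.last n)) (i j : Fin n) :
    a' T i j = T.a i.castSucc j.castSucc + t T i * x T j := by
  unfold a'
  rw [h.2, Int.ediv_neg]
  have : x T i * x T j / T.w (Fin.last n) = t T i * x T j := by
    apply Int.ediv_eq_of_eq_mul_right (T.w_pos _).ne'
    rw [x_eq_t T i]; ring
  rw [this]; ring

theorem a_symm (i j : Fin (n + 1)) : T.a j i = T.a i j := by
  exact T.symm.apply i j

theorem a'_symm (h : T.IsMinusOne (Fin.last n)) (i j : Fin n) : a' T j i = a' T i j := by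
  rw [a'_eq T h, a'_eq T h, a_symm T i.castSucc j.castSucc, x_eq_t T i, x_eq_t T j]
  ring

theorem a'_ne_zero_of_a (h : T.IsMinusOne (Fin.last n)) (i j : Fin n) (hij : i ≠ j)
    (ha : T.a i.castSucc j.castSucc ≠ 0) : a' T i j ≠ 0 := by
  rw [a'_eq T h]
  have h1 : 0 ≤ T.a i.castSucc j.castSucc :=
    T.offDiag_nonneg _ _ (fun he => hij (Fin.castSucc_injective _ he))
  have h2 : 0 ≤ t T i * x T j := mul_nonneg (t_nonneg T i) (x_nonneg T j)
  have : 0 < T.a i.castSucc j.castSucc := lt_of_le_of_ne h1 (Ne.symm ha)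
  exact ne_of_gt (by linarith)

theorem t_pos_of_x (i : Fin n) (hi : x T i ≠ 0) : 0 < t T i := by
  have h1 := t_nonneg T i
  rcases eq_or_lt_of_le h1 with h0 | h0
  · exfalso; apply hi; rw [x_eq_t, ← h0, mul_zero]
  · exact h0

theorem a'_ne_zero_of_x (h : T.IsMinusOne (Fin.last n)) (i j : Fin n) (hij : i ≠ j)
    (hi : x T i ≠ 0) (hj : x T j ≠ 0) : a' T i j ≠ 0 := by
  rw [a'_eq T h]
  have h1 : 0 ≤ T.a i.castSucc j.castSucc :=
    T.offDiag_nonneg _ _ (fun he => hij (Fin.castSucc_injective _ he))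
  have h2 : 0 < t T i * x T j :=
    mul_pos (t_pos_of_x T i hi) (lt_of_le_of_ne (x_nonneg T j) (Ne.symm hj))
  exact ne_of_gt (by linarith)

theorem a'_offDiag_nonneg (h : T.IsMinusOne (Fin.last n)) (i j : Fin n) (hij : i ≠ j) :
    0 ≤ a' T i j := by
  rw [a'_eq T h]
  have h1 : 0 ≤ T.a i.castSucc j.castSucc :=
    T.offDiag_nonneg _ _ (fun he => hij (Fin.castSucc_injective _ he))
  have h2 : 0 ≤ t T i * x T j := mul_nonneg (t_nonneg T i) (x_nonneg T j)
  linarith

theorem a'_connected (h : T.IsMinusOne (Fin.last n)) (I : Finset (Fin n)) (hI : I.Nonempty)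
    (hI' : I ≠ univ) : ∃ i ∈ I, ∃ j ∉ I, a' T i j ≠ 0 := by
  classical
  have key : ∀ J : Finset (Fin n), J.Nonempty → J ≠ univ →
      (∃ i ∈ J, ∃ j ∉ J, T.a i.castSucc j.castSucc ≠ 0) ∨ ∃ i ∈ J, x T i ≠ 0 := by
    intro J hJ hJ'
    have hne : (J.image Fin.castSucc).Nonempty := hJ.image _
    have hnu : J.image Fin.castSucc ≠ univ := by
      intro he
      have hl : Fin.last n ∈ J.image Fin.castSucc := he ▸ mem_univ _
      rw [Finset.mem_image] at hl
      obtain ⟨a, _, ha⟩ := hl
      exact (Fin.castSucc_lt_last a).ne ha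
    obtain ⟨i', hi', j', hj', hne⟩ := T.connected _ hne hnu
    rw [Finset.mem_image] at hi'
    obtain ⟨i, hi, rfl⟩ := hi'
    induction j' using Fin.lastCases with
    | last => right; exact ⟨i, hi, hne⟩
    | cast j =>
      left; refine ⟨i, hi, j, ?_, hne⟩
      intro hj; exact hj' (Finset.mem_image_of_mem _ hj)
  rcases key I hI hI' with ⟨i, hi, j, hj, hne⟩ | ⟨i, hi, hxi⟩
  · exact ⟨i, hi, j, hj, a'_ne_zero_of_a T h i j (by rintro rfl; exact hj hi) hne⟩
  · have hc : Iᶜ.Nonempty := by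
      rw [Finset.nonempty_iff_ne_empty]
      intro he
      exact hI' (by rwa [Finset.compl_eq_empty_iff] at he)
    have hc' : Iᶜ ≠ univ := (Finset.compl_ne_univ_iff_nonempty I).2 hI
    rcases key Iᶜ hc hc' with ⟨j, hj, k, hk, hne⟩ | ⟨j, hj, hxj⟩
    · have hk' : k ∈ I := by simpa using hk
      have hj' : j ∉ I := by simpa using hj
      refine ⟨k, hk', j, hj', a'_ne_zero_of_a T h k j ?_ ?_⟩
      · rintro rfl; exact hj' hk'
      · rwa [a_symm T k.castSucc j.castSucc] at hne
    · have hj' : j ∉ I := by simpa using hj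
      exact ⟨i, hi, j, hj', a'_ne_zero_of_x T h i j (by rintro rfl; exact hj' hi) hxi hxj⟩

theorem a'_mulVec (h : T.IsMinusOne (Fin.last n)) (i : Fin n) :
    ∑ j : Fin n, a' T i j * T.m j.castSucc = 0 := by
  simp only [a'_eq T h, add_mul, Finset.sum_add_distrib]
  rw [row_sum]
  have : ∑ j : Fin n, t T i * x T j * T.m j.castSucc =
      t T i * ∑ j : Fin n, x T j * T.m j.castSucc := by
    rw [Finset.mul_sum]
    exact Finset.sum_congr rfl fun j _ => by ring
  rw [this, last_sum T h, x_eq_t T i]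
  ring

theorem w'_dvd_a' (h : T.IsMinusOne (Fin.last n)) (i j : Fin n) : w' T i ∣ a' T i j := by
  rw [a'_eq T h]
  have h1 : w' T i ∣ T.a i.castSucc j.castSucc :=
    (w'_dvd T i).trans (T.w_dvd _ _)
  have h2 : t T i * x T j = x T i * t T j := by
    rw [x_eq_t T i, x_eq_t T j]; ring
  rw [h2]
  have h3 : w' T i ∣ x T i := (w'_dvd T i).trans (T.w_dvd _ _)
  exact dvd_add h1 (Dvd.dvd.mul_right h3 _)

/-- the contracted numerical type -/
def contr (h : T.IsMinusOne (Fin.last n)) : Models.NumericalType n where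
  m i := T.m i.castSucc
  a i j := a' T i j
  w := w' T
  g := g' T
  pos := n_pos T h
  m_pos i := T.m_pos _
  w_pos := w'_pos T
  g_nonneg := g'_nonneg T
  symm := Matrix.IsSymm.ext fun i j => a'_symm T h i j
  offDiag_nonneg := a'_offDiag_nonneg T h
  connected := a'_connected T h
  mulVec_m := by
    funext i
    simp only [Matrix.mulVec, dotProduct, Pi.zero_apply]
    exact a'_mulVec T h i
  w_dvd := w'_dvd_a' T h

theorem isContraction_contr (h : T.IsMinusOne (Fin.last n)) : T.IsContraction (contr T h) := by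
  refine ⟨fun i => rfl, fun i j => rfl, fun i => ?_, fun i => rfl⟩
  show w' T i = _
  unfold w' t s x
  congr

end

section
open Finset Models Models.NumericalType

variable {n : ℕ} (T : Models.NumericalType (n + 1))

theorem two_w'_q (i : Fin n) :
    2 * (w' T i * q T i) = T.w (Fin.last n) * (t T i * (t T i - 1)) := by
  have h1 := q_spec T i
  rw [x_sq_sub'] at h1
  apply mul_left_cancel₀ (T.w_pos (Fin.last n)).ne'
  linarith

variable {T} in
theorem w_eq_w' {T' : Models.NumericalType n} (hT' : T.IsContraction T') (i : Fin n) :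
    T'.w i = w' T i := by
  rw [hT'.2.2.1 i]; unfold w' t s x; congr

variable {T} in
theorem g_eq_g' {T' : Models.NumericalType n} (hT' : T.IsContraction T') (i : Fin n) :
    T'.g i = g' T i := by
  rw [hT'.2.2.2 i, w_eq_w' hT' i]; rfl

variable {T} in
theorem a_eq_a' {T' : Models.NumericalType n} (hT' : T.IsContraction T') (i j : Fin n) :
    T'.a i j = a' T i j := hT'.2.1 i j

theorem genus_eq (h : T.IsMinusOne (Fin.last n)) (T' : Models.NumericalType n)
    (hT' : T.IsContraction T') : T'.genus = T.genus := by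
  have hm := hT'.1
  have term1 : ∀ i : Fin n, T'.m i * T'.w i * (T'.g i - 1) =
      T.m i.castSucc * T.w i.castSucc * (T.g i.castSucc - 1) +
        T.m i.castSucc * (w' T i * q T i) := by
    intro i
    rw [hm, w_eq_w' hT', g_eq_g' hT']
    unfold g'
    have e : w' T i * (T.w i.castSucc / w' T i) = T.w i.castSucc :=
      Int.mul_ediv_cancel' (w'_dvd T i)
    linear_combination (T.m i.castSucc * (T.g i.castSucc - 1)) * e
  have term2 : ∀ i : Fin n, T'.m i * T'.a i i =
      T.m i.castSucc * T.a i.castSucc i.castSucc +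
        T.w (Fin.last n) * (T.m i.castSucc * (t T i * t T i)) := by
    intro i
    rw [hm, a_eq_a' hT', a'_eq T h, x_eq_t T i]; ring
  have e1 : ∑ i, T'.m i * T'.w i * (T'.g i - 1) =
      ∑ i : Fin n, T.m i.castSucc * T.w i.castSucc * (T.g i.castSucc - 1) +
        ∑ i : Fin n, T.m i.castSucc * (w' T i * q T i) := by
    rw [← Finset.sum_add_distrib]; exact Finset.sum_congr rfl fun i _ => term1 i
  have e2 : ∑ i, T'.m i * T'.a i i =
      ∑ i : Fin n, T.m i.castSucc * T.a i.castSucc i.castSucc +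
        T.w (Fin.last n) * ∑ i : Fin n, T.m i.castSucc * (t T i * t T i) := by
    rw [Finset.mul_sum, ← Finset.sum_add_distrib]
    exact Finset.sum_congr rfl fun i _ => term2 i
  have e3 : 2 * ∑ i : Fin n, T.m i.castSucc * (w' T i * q T i) =
      T.w (Fin.last n) * ∑ i : Fin n, T.m i.castSucc * (t T i * t T i) -
        T.w (Fin.last n) * T.m (Fin.last n) := by
    rw [← sum_t T h]
    simp only [Finset.mul_sum, ← Finset.sum_sub_distrib]
    refine Finset.sum_congr rfl fun i _ => ?_
    have := two_w'_q T i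
    linear_combination (T.m i.castSucc) * this
  unfold Models.NumericalType.genus
  rw [Fin.sum_univ_castSucc (fun i => T.m i * T.w i * (T.g i - 1)),
    Fin.sum_univ_castSucc (fun i => T.m i * T.a i i), e1, e2, h.1, h.2]
  have e4 : ∑ i : Fin n, T.m i.castSucc * T.a i.castSucc i.castSucc +
        T.w (Fin.last n) * ∑ i : Fin n, T.m i.castSucc * (t T i * t T i) =
      (∑ i : Fin n, T.m i.castSucc * T.a i.castSucc i.castSucc +
        T.w (Fin.last n) * T.m (Fin.last n)) +
      (∑ i : Fin n, T.m i.castSucc * (w' T i * q T i)) * 2 := by linarith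
  have e5 : ∑ i : Fin n, T.m i.castSucc * T.a i.castSucc i.castSucc +
        T.m (Fin.last n) * -T.w (Fin.last n) =
      (∑ i : Fin n, T.m i.castSucc * T.a i.castSucc i.castSucc +
        T.w (Fin.last n) * T.m (Fin.last n)) +
      (-(T.m (Fin.last n) * T.w (Fin.last n))) * 2 := by ring
  rw [e4, e5, Int.add_mul_ediv_right _ _ two_ne_zero, Int.add_mul_ediv_right _ _ two_ne_zero]
  ring

end

end Groth.Agent.Lib.R2H1.Contraction
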