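import Mathlib
import Groth.Prelude.Def_Models
import Groth.Agent.Lib.R2H1Contraction

/-!
# The Picard group of a contraction (R2H1)

For a contraction `T'` of a numerical type `T` along a `(-1)`-index there is an injective
homomorphism `Pic T → Pic T'` with cokernel killed by `2`.
-/

set_option autoImplicit false

namespace Groth.Agent.Lib.R2H1.Contraction

open Finset Models Models.NumericalType

variable {n : ℕ} (T : Models.NumericalType (n + 1))

/-- the ratio `w i / w' i`, which is `1` or `2` -/
def r (i : Fin n) : ℤ := T.w i.castSucc / w' T i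
/-- the complementary factor `2 / r i` -/
def ri (i : Fin n) : ℤ := if 2 ∣ t T i ∧ ¬ 2 ∣ s T i then 1 else 2

theorem r_mul_ri (i : Fin n) : r T i * ri T i = 2 := by
  unfold r ri; split_ifs with hc
  · rw [w_div_w'_of_cond T i hc]; norm_num
  · rw [w_div_w'_of_not_cond T i hc]; norm_num

theorem w'_mul_r (i : Fin n) : w' T i * r T i = T.w i.castSucc :=
  Int.mul_ediv_cancel' (w'_dvd T i)

theorem r_pos (i : Fin n) : 0 < r T i := by
  have h1 := w'_mul_r T i
  have h2 := w'_pos T i
  have h3 := T.w_pos i.castSucc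
  by_contra h4
  have := mul_nonpos_of_nonneg_of_nonpos h2.le (not_lt.mp h4)
  linarith

theorem pic_last_last (h : T.IsMinusOne (Fin.last n)) :
    T.picMatrix (Fin.last n) (Fin.last n) = -1 := by
  unfold picMatrix; rw [h.2]
  exact Int.ediv_eq_of_eq_mul_right (T.w_pos _).ne' (by ring)

theorem pic_cast_last (i : Fin n) : T.picMatrix i.castSucc (Fin.last n) = s T i := rfl

theorem pic_last_cast (k : Fin n) : T.picMatrix (Fin.last n) k.castSucc = t T k := by
  unfold picMatrix t x; rw [a_symm T k.castSucc (Fin.last n)]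

variable {T} in
theorem pic'_eq (h : T.IsMinusOne (Fin.last n)) {T' : Models.NumericalType n}
    (hT' : T.IsContraction T') (i k : Fin n) :
    T'.picMatrix i k = r T i * (T.picMatrix i.castSucc k.castSucc + s T i * t T k) := by
  unfold picMatrix
  rw [a_eq_a' hT', w_eq_w' hT', a'_eq T h]
  apply Int.ediv_eq_of_eq_mul_right (w'_pos T i).ne'
  have e1 := w'_mul_r T i
  have e2 : T.w i.castSucc * (T.a i.castSucc k.castSucc / T.w i.castSucc) =
      T.a i.castSucc k.castSucc := Int.mul_ediv_cancel' (T.w_dvd _ _)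
  have e3 : t T i * x T k = T.w i.castSucc * (s T i * t T k) := by
    calc t T i * x T k = (T.w (Fin.last n) * t T i) * t T k := by rw [x_eq_t T k]; ring
      _ = x T i * t T k := by rw [← x_eq_t]
      _ = T.w i.castSucc * (s T i * t T k) := by rw [x_eq_s T i]; ring
  have : w' T i * (r T i * (T.a i.castSucc k.castSucc / T.w i.castSucc + s T i * t T k)) =
      (w' T i * r T i) * (T.a i.castSucc k.castSucc / T.w i.castSucc) +
        (w' T i * r T i) * (s T i * t T k) := by ring
  rw [this, e1, e2, e3]

/-- the map on degree vectors inducing `Pic T → Pic T'` -/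
def phi : (Fin (n + 1) → ℤ) →ₗ[ℤ] (Fin n → ℤ) where
  toFun v i := r T i * (v i.castSucc + s T i * v (Fin.last n))
  map_add' u v := by funext i; simp only [Pi.add_apply]; ring
  map_smul' c v := by
    funext i; simp only [Pi.smul_apply, smul_eq_mul, RingHom.id_apply]; ring

theorem phi_apply (v : Fin (n + 1) → ℤ) (i : Fin n) :
    phi T v i = r T i * (v i.castSucc + s T i * v (Fin.last n)) := rfl

variable {T} in
theorem phi_mulVec (h : T.IsMinusOne (Fin.last n)) {T' : Models.NumericalType n}
    (hT' : T.IsContraction T') (u : Fin (n + 1) → ℤ) :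
    phi T (T.picMatrix.mulVec u) = T'.picMatrix.mulVec (fun k => u k.castSucc) := by
  funext i
  rw [phi_apply]
  simp only [Matrix.mulVec, dotProduct]
  rw [Fin.sum_univ_castSucc, Fin.sum_univ_castSucc (fun j => T.picMatrix (Fin.last n) j * u j),
    pic_last_last T h, pic_cast_last]
  simp only [pic_last_cast, pic'_eq h hT']
  have : ∑ k : Fin n, r T i * (T.picMatrix i.castSucc k.castSucc + s T i * t T k) * u k.castSucc =
      r T i * (∑ k : Fin n, T.picMatrix i.castSucc k.castSucc * u k.castSucc +
        s T i * ∑ k : Fin n, t T k * u k.castSucc) := by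
    rw [Finset.mul_sum (a := s T i), ← Finset.sum_add_distrib, Finset.mul_sum]
    exact Finset.sum_congr rfl fun k _ => by ring
  rw [this]; ring

variable {T} in
theorem mem_range_of_phi_mem (h : T.IsMinusOne (Fin.last n)) {T' : Models.NumericalType n}
    (hT' : T.IsContraction T') (v : Fin (n + 1) → ℤ)
    (hv : phi T v ∈ LinearMap.range (Matrix.mulVecLin T'.picMatrix)) :
    v ∈ LinearMap.range (Matrix.mulVecLin T.picMatrix) := by
  obtain ⟨u', hu'⟩ := hv
  rw [Matrix.mulVecLin_apply] at hu'
  let d : ℤ := ∑ k, t T k * u' k - v (Fin.last n)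
  let u : Fin (n + 1) → ℤ := Fin.snoc (α := fun _ => ℤ) u' d
  have hu1 : ∀ k : Fin n, u k.castSucc = u' k := fun k => by simp [u]
  have hu2 : u (Fin.last n) = d := by simp [u]
  refine ⟨u, ?_⟩
  rw [Matrix.mulVecLin_apply]
  have h1 : phi T (T.picMatrix.mulVec u) = phi T v := by
    rw [phi_mulVec h hT', ← hu']
    congr 1
    funext k; exact hu1 k
  have h2 : (T.picMatrix.mulVec u) (Fin.last n) = v (Fin.last n) := by
    simp only [Matrix.mulVec, dotProduct]
    rw [Fin.sum_univ_castSucc, pic_last_last T h, hu2]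
    simp only [pic_last_cast, hu1]
    show _ + -1 * (∑ k, t T k * u' k - v (Fin.last n)) = _
    ring
  funext j
  induction j using Fin.lastCases with
  | last => exact h2
  | cast i =>
    have h3 := congrFun h1 i
    rw [phi_apply, phi_apply, h2] at h3
    have := mul_left_cancel₀ (r_pos T i).ne' h3
    linarith

theorem exists_pic_hom (h : T.IsMinusOne (Fin.last n)) (T' : Models.NumericalType n)
    (hT' : T.IsContraction T') :
    ∃ f : T.Pic →+ T'.Pic, Function.Injective f ∧ ∀ y : T'.Pic, ∃ x : T.Pic, 2 • y = f x := by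
  have hle : LinearMap.range (Matrix.mulVecLin T.picMatrix) ≤
      (LinearMap.range (Matrix.mulVecLin T'.picMatrix)).comap (phi T) := by
    rintro _ ⟨u, rfl⟩
    rw [Submodule.mem_comap, Matrix.mulVecLin_apply, phi_mulVec h hT']
    exact ⟨fun k => u k.castSucc, rfl⟩
  refine ⟨(Submodule.mapQ _ _ (phi T) hle).toAddMonoidHom, ?_, ?_⟩
  · rw [injective_iff_map_eq_zero]
    intro x hx
    obtain ⟨v, rfl⟩ := Submodule.Quotient.mk_surjective _ x
    have hx' : Submodule.Quotient.mk (p := LinearMap.range (Matrix.mulVecLin T'.picMatrix))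
        (phi T v) = 0 := hx
    rw [Submodule.Quotient.mk_eq_zero] at hx' ⊢
    exact mem_range_of_phi_mem h hT' v hx'
  · intro y
    obtain ⟨y0, rfl⟩ := Submodule.Quotient.mk_surjective _ y
    refine ⟨Submodule.Quotient.mk (Fin.snoc (α := fun _ => ℤ) (fun i => ri T i * y0 i) 0), ?_⟩
    show _ = Submodule.Quotient.mk (phi T _)
    rw [← Submodule.Quotient.mk_smul]
    congr 1
    funext i
    rw [phi_apply]
    simp only [Fin.snoc_castSucc, Fin.snoc_last, mul_zero, add_zero, Pi.smul_apply]
    rw [← mul_assoc, r_mul_ri]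
    simp

end Groth.Agent.Lib.R2H1.Contraction
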