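import Mathlib
import Groth.Prelude.Def_Models
import Groth.Agent.Lib.R2H1ContractionPic
import Groth.Agent.Lib.Helper11Genus

/-!
# Permutation transport of numerical types; `Pic ≃ ℤ` for genus `≤ 0` (R2H1)
-/

set_option autoImplicit false
set_option linter.style.haveILetI false

namespace Groth.Agent.Lib.R2H1.Contraction

open Finset Models Models.NumericalType

section Perm

variable {n : ℕ} (T : Models.NumericalType n) (σ : Equiv.Perm (Fin n))

/-- transport of a numerical type along a permutation of the indices -/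
def perm : Models.NumericalType n where
  m i := T.m (σ i)
  a i j := T.a (σ i) (σ j)
  w i := T.w (σ i)
  g i := T.g (σ i)
  pos := T.pos
  m_pos i := T.m_pos _
  w_pos i := T.w_pos _
  g_nonneg i := T.g_nonneg _
  symm := Matrix.IsSymm.ext fun i j => T.symm.apply _ _
  offDiag_nonneg i j hij := T.offDiag_nonneg _ _ (fun he => hij (σ.injective he))
  connected I hI hI' := by
    have h1 : (I.map σ.toEmbedding).Nonempty := hI.map
    have h2 : I.map σ.toEmbedding ≠ univ := by
      intro he
      apply hI'
      rw [← Finset.map_univ_equiv σ] at he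
      exact Finset.map_injective _ he
    obtain ⟨i', hi', j', hj', hne⟩ := T.connected _ h1 h2
    rw [Finset.mem_map] at hi'
    obtain ⟨i, hi, rfl⟩ := hi'
    refine ⟨i, hi, σ.symm j', ?_, ?_⟩
    · intro hj
      apply hj'
      rw [Finset.mem_map]
      exact ⟨σ.symm j', hj, by simp⟩
    · simpa using hne
  mulVec_m := by
    funext i
    simp only [Matrix.mulVec, dotProduct, Pi.zero_apply]
    have := congrFun T.mulVec_m (σ i)
    simp only [Matrix.mulVec, dotProduct, Pi.zero_apply] at this
    rw [← this]
    exact Equiv.sum_comp σ (fun j => T.a (σ i) j * T.m j)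
  w_dvd i j := T.w_dvd _ _

theorem genus_perm : (perm T σ).genus = T.genus := by
  unfold Models.NumericalType.genus
  have e1 : ∑ i, (perm T σ).m i * (perm T σ).w i * ((perm T σ).g i - 1) =
      ∑ i, T.m i * T.w i * (T.g i - 1) :=
    Equiv.sum_comp σ (fun i => T.m i * T.w i * (T.g i - 1))
  have e2 : ∑ i, (perm T σ).m i * (perm T σ).a i i = ∑ i, T.m i * T.a i i :=
    Equiv.sum_comp σ (fun i => T.m i * T.a i i)
  rw [e1, e2]

theorem isMinusOne_perm (i : Fin n) : (perm T σ).IsMinusOne i ↔ T.IsMinusOne (σ i) := Iff.rfl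

theorem picMatrix_perm (i j : Fin n) : (perm T σ).picMatrix i j = T.picMatrix (σ i) (σ j) := rfl

theorem mulVec_perm (v : Fin n → ℤ) (i : Fin n) :
    (perm T σ).picMatrix.mulVec (fun j => v (σ j)) i = T.picMatrix.mulVec v (σ i) := by
  simp only [Matrix.mulVec, dotProduct, picMatrix_perm]
  exact Equiv.sum_comp σ (fun j => T.picMatrix (σ i) j * v j)

/-- the Picard groups of `T` and of its transport along a permutation are isomorphic -/
noncomputable def picPermEquiv : T.Pic ≃+ (perm T σ).Pic :=
  (Submodule.Quotient.equiv _ _ (LinearEquiv.funCongrLeft ℤ ℤ σ) (by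
    ext x
    simp only [Submodule.mem_map, LinearMap.mem_range, Matrix.mulVecLin_apply]
    constructor
    · rintro ⟨_, ⟨u, rfl⟩, rfl⟩
      refine ⟨fun j => u (σ j), ?_⟩
      funext i
      rw [mulVec_perm]
      rfl
    · rintro ⟨u, rfl⟩
      refine ⟨_, ⟨fun j => u (σ.symm j), rfl⟩, ?_⟩
      funext i
      have := mulVec_perm T σ (fun j => u (σ.symm j)) i
      simp only [Equiv.symm_apply_apply] at this
      rw [this]
      rfl)).toAddEquiv

end Perm

theorem equiv_int_of_injective {G : Type*} [AddCommGroup G] (g : G →+ ℤ)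
    (hg : Function.Injective g) (x0 : G) (hx0 : g x0 ≠ 0) : Nonempty (G ≃+ ℤ) := by
  haveI : IsAddCyclic G := isAddCyclic_of_injective g hg
  haveI : Infinite G := by
    refine Infinite.of_injective (fun j : ℤ => j • x0) (fun a b hab => ?_)
    have h1 := congrArg g hab
    simp only [map_zsmul, smul_eq_mul] at h1
    exact mul_right_cancel₀ hx0 h1
  have h0 : Nat.card G = 0 := Nat.card_eq_zero_of_infinite
  have e := zmodAddCyclicAddEquiv (G := G) inferInstance
  rw [h0] at e
  exact ⟨e.symm⟩

theorem base_case (T : Models.NumericalType 1) : Nonempty (T.Pic ≃+ ℤ) := by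
  have h0 : T.a 0 0 = 0 := by
    have := congrFun T.mulVec_m 0
    simp only [Matrix.mulVec, dotProduct, Pi.zero_apply, Fin.sum_univ_one] at this
    rcases mul_eq_zero.mp this with h | h
    · exact h
    · exact absurd h (T.m_pos 0).ne'
  have h1 : T.picMatrix = 0 := by
    ext i j
    have hi : i = 0 := Subsingleton.elim _ _
    have hj : j = 0 := Subsingleton.elim _ _
    subst hi hj
    simp [picMatrix, h0]
  have h2 : LinearMap.range (Matrix.mulVecLin T.picMatrix) = ⊥ := by
    rw [h1, Matrix.mulVecLin_zero, LinearMap.range_zero]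
  exact ⟨((Submodule.quotEquivOfEqBot _ h2).trans (LinearEquiv.funUnique (Fin 1) ℤ ℤ)).toAddEquiv⟩

theorem pic_equiv_int : ∀ (n : ℕ) (T : Models.NumericalType n), T.genus ≤ 0 →
    Nonempty (T.Pic ≃+ ℤ) := by
  intro n
  induction n with
  | zero => intro T; exact absurd T.pos (lt_irrefl 0)
  | succ n ih =>
    intro T hg
    rcases Nat.eq_zero_or_pos n with hn | hn
    · subst hn; exact base_case T
    · have hnm : ¬ T.IsMinimal := fun hmin => by
        have := Groth.Agent.Lib.Helper11.one_le_genus_of_isMinimal T hmin (by omega)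
        omega
      unfold IsMinimal at hnm
      rw [not_forall] at hnm
      obtain ⟨i, hi⟩ := hnm
      rw [not_not] at hi
      set σ : Equiv.Perm (Fin (n + 1)) := Equiv.swap i (Fin.last n) with hσ
      have h1 : (perm T σ).IsMinusOne (Fin.last n) := by
        rw [isMinusOne_perm, hσ, Equiv.swap_apply_right]; exact hi
      have hc := isContraction_contr (perm T σ) h1
      have hg' : (contr (perm T σ) h1).genus ≤ 0 := by
        rw [genus_eq (perm T σ) h1 _ hc, genus_perm]; exact hg
      obtain ⟨e⟩ := ih _ hg'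
      obtain ⟨f, hf, hf2⟩ := exists_pic_hom (perm T σ) h1 _ hc
      obtain ⟨x0, hx0⟩ := hf2 (e.symm 1)
      have key : Nonempty ((perm T σ).Pic ≃+ ℤ) := by
        refine equiv_int_of_injective (e.toAddMonoidHom.comp f)
          (e.injective.comp hf) x0 ?_
        show e (f x0) ≠ 0
        rw [← hx0, map_nsmul, AddEquiv.apply_symm_apply]
        norm_num
      obtain ⟨e'⟩ := key
      exact ⟨(picPermEquiv T σ).trans e'⟩

end Groth.Agent.Lib.R2H1.Contraction
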