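import Mathlib
import Groth.Agent.Lib.R2H1HyperellCanon
import Groth.Agent.Lib.R2H1DblCoverGeom
import Groth.Agent.Lib.R2H1CurveBC
import Groth.Agent.Lib.R2H2PnBott3
import Groth.Agent.Lib.R2H2QProjK0
import Groth.Agent.Lib.Helper23Restr
import Groth.Agent.Lib.R2LeadKRR
set_option backward.isDefEq.respectTransparency.types false

/-!
helper1 (round 2): a canonically embedded genus 4 curve lies on a quadric (S13461): main (dimension count h0(P3,O(2)) = 10 > 9 = h0(X, Omega^2), kernel of pullHom).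
-/

set_option autoImplicit false
set_option linter.style.haveILetI false
set_option linter.unusedSectionVars false
universe u v

open CategoryTheory CategoryTheory.Limits AlgebraicGeometry TopologicalSpace Opposite

namespace Groth.Agent.Lib.R2H1.QuadG4

section Part1

open Groth.Agent.Lib.Helper23.SecTw Groth.Agent.Lib.Helper23.PB Groth.Agent.Helper13PullbackUnit
open Groth.Agent.Lib.R2H1.HyperellCanon Groth.Agent.Lib.R2H2.PnBeilinson Groth.Agent.Lib.Helper23.GenLocus

theorem main (k : Type u) [Field k] (X : Scheme.{u}) [X.Over (Spec (CommRingCat.of k))]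
    [IsProper (X ↘ (Spec (CommRingCat.of k)))] [Smooth (X ↘ (Spec (CommRingCat.of k)))] [GeometricallyConnected (X ↘ (Spec (CommRingCat.of k)))]
    (hdim : topologicalKrullDim X = 1) (hg : Curv2.genus k X = 4)
    (i : X ⟶ CohB1.ProjSpace 3 k) [IsClosedImmersion i] (hi : i ≫ CohB1.ProjSpace.toSpec 3 k = X ↘ (Spec (CommRingCat.of k)))
    (hcan : Nonempty ((Scheme.Modules.pullback i).obj (Twist.twistProjSpace 3 k 1) ≅ Omega.sheaf (X ↘ (Spec (CommRingCat.of k))))) :
    ∃ Q : Γ(Twist.twistProjSpace 3 k 2, ⊤), Q ≠ 0 ∧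
      OmegaSh.pullSect i (Twist.twistProjSpace 3 k 2) ⊤ Q = 0 := by
  haveI : IsIntegral X := Groth.Agent.Lib.R2H1.VBSub.isIntegral_of_smooth_geomConn k X
  have hO1 : PicF.IsInvertible (Twist.twistProjSpace 3 k 1) :=
    Groth.Agent.Lib.R2Lead.KRR.isInvertible_twistProjSpace 3 k 1
  have hL : PicF.IsInvertible ((Scheme.Modules.pullback i).obj (Twist.twistProjSpace 3 k 1)) :=
    isInvertible_pullback i _ hO1
  obtain ⟨ecan⟩ := hcan
  obtain ⟨-, hdegΩ⟩ := Groth.Agent.Lib.R2H1.CurveBC.numerics_omega_of_geometricallyConnected k X hdim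
  have hdegL : Curv2.deg k X ((Scheme.Modules.pullback i).obj (Twist.twistProjSpace 3 k 1)) 1 =
      ((6 : ℕ) : ℤ) := by
    rw [Groth.Agent.Lib.R2H1.CurveAmple.deg_congr k X ecan 1, hdegΩ, hg]
    norm_num
  have hX0 := Groth.Agent.Lib.R2H1.DblCoverGeom.hX0_of_geomConn k X
  have h9 := Groth.Agent.Lib.R2H1.DblCoverGeom.finrank_H0_tensorPow k X hdim hX0 _ hL 6 hdegL 2
    (by rw [hg]; norm_num)
  obtain ⟨e1⟩ := Groth.Agent.Lib.R2H2.QProjK0.nonempty_twist_iso_tensorPow 3 k 2
  obtain ⟨e2⟩ := nonempty_pullback_tensorPow_iso i (Twist.twistProjSpace 3 k 1) hO1 2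
  have e : (Scheme.Modules.pullback i).obj (Twist.twistProjSpace 3 k 2) ≅
      CohB1.tensorPow ((Scheme.Modules.pullback i).obj (Twist.twistProjSpace 3 k 1)) 2 :=
    (Scheme.Modules.pullback i).mapIso e1 ≪≫ e2
  have hX : Module.finrank k (Coh.HH X ((Scheme.Modules.pullback i).obj (Twist.twistProjSpace 3 k 2)) 0) = 9 := by
    rw [Groth.Agent.Lib.R2H2.ClosedPnLin.finrank_HH_of_iso k e 0]
    rw [hg] at h9
    norm_num at h9
    exact_mod_cast h9
  obtain ⟨hPfin, hP⟩ := Groth.Agent.Lib.R2H2.PnBott.H0_twist k 3 2 (Or.inl (by norm_num))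
  rw [if_pos (by norm_num)] at hP
  have hP' : Module.finrank k (Coh.HH (CohB1.ProjSpace 3 k) (Twist.twistProjSpace 3 k 2) 0) = 10 := by
    rw [hP]
    decide
  have cN := Groth.Agent.Lib.R2H1.CurveDegSec.isCoh_of_isInvertible _
    (isInvertible_pullback i _ (Groth.Agent.Lib.R2Lead.KRR.isInvertible_twistProjSpace 3 k 2))
  haveI := Groth.Agent.Lib.R2H1.EulerAdd.finite_HH k X _ cN 0
  haveI : Module.Finite k (Coh.structureModule X ⟶
      (Scheme.Modules.pullback i).obj (Twist.twistProjSpace 3 k 2)) :=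
    Module.Finite.equiv (clsEquiv (k := k) ((Scheme.Modules.pullback i).obj (Twist.twistProjSpace 3 k 2))).symm
  have hni : ¬ Function.Injective (pullHom k i hi (Twist.twistProjSpace 3 k 2)) := by
    intro hinj
    have h1 := LinearMap.finrank_le_finrank_of_injective hinj
    rw [(clsEquiv (k := k) (Twist.twistProjSpace 3 k 2)).finrank_eq,
      (clsEquiv (k := k) ((Scheme.Modules.pullback i).obj (Twist.twistProjSpace 3 k 2))).finrank_eq,
      hP', hX] at h1
    omega
  obtain ⟨q, hq, hq0⟩ : ∃ q : Coh.structureModule (CohB1.ProjSpace 3 k) ⟶ Twist.twistProjSpace 3 k 2,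
      pullHom k i hi (Twist.twistProjSpace 3 k 2) q = 0 ∧ q ≠ 0 := by
    by_contra hcon
    push_neg at hcon
    apply hni
    rw [injective_iff_map_eq_zero]
    exact hcon
  refine ⟨sv q ⊤, ?_, ?_⟩
  · intro h0
    apply hq0
    apply Groth.Agent.Lib.Helper23.SecTw.hom_ext_of_sv
    rw [h0]
    rfl
  · have hz : (Scheme.Modules.pullback i).map q = 0 := by
      rw [pullHom_apply] at hq
      have := congrArg (fun t => (pullbackUnitIso i).hom ≫ t) hq
      simpa using this
    have h1 := map_unitSec i q (le_refl (i ⁻¹ᵁ ⊤)) (toS ⊤ 1)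
    rw [hz] at h1
    have h2 : unitSec i (Twist.twistProjSpace 3 k 2) (le_refl (i ⁻¹ᵁ ⊤)) (q.app ⊤ (toS ⊤ 1)) = 0 := by
      rw [← h1]
      rfl
    rw [unitSec_apply] at h2
    have h3 : OmegaSh.pullSect i (Twist.twistProjSpace 3 k 2) ⊤ (sv q ⊤) =
        ((Scheme.Modules.pullback i).obj (Twist.twistProjSpace 3 k 2)).presheaf.map
          (homOfLE (le_refl (i ⁻¹ᵁ ⊤))).op
          (((Scheme.Modules.pullbackPushforwardAdjunction i).unit.app (Twist.twistProjSpace 3 k 2)).app ⊤
            (q.app ⊤ (toS ⊤ 1))) := by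
      have h4 : (homOfLE (le_refl (i ⁻¹ᵁ (⊤ : (CohB1.ProjSpace 3 k).Opens)))).op = 𝟙 _ := rfl
      rw [h4, CategoryTheory.Functor.map_id]
      rfl
    rw [h3]
    exact h2

end Part1

end Groth.Agent.Lib.R2H1.QuadG4
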