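import Mathlib
import Groth.Agent.Lib.Helper6RatPt
import Groth.Agent.Lib.Helper2PairCons4

/-!
# Generic smoothness for regular schemes over a base with perfect function field (helper4, round 2)

* `formallySmooth_of_equiv_perfect`: an essentially-finite-type ring map from (a ring isomorphic to)
  a perfect field to a regular local ring is formally smooth.
* `isConstructible_of_isClosed_noeth`, `isLocallyConstructible_of_isClosed`: closed subsets of
  (locally) Noetherian spaces/schemes are (locally) constructible; `isLocallyConstructible_compl`.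
* `exists_dense_open_smooth`: S7776.
-/

set_option autoImplicit false
set_option linter.style.haveILetI false
universe u
open CategoryTheory CategoryTheory.Limits AlgebraicGeometry Topology TopologicalSpace

namespace Groth.Agent.Lib.R2H4.GenSmooth


/-- A ring map from (a ring isomorphic to) a perfect field to a regular local ring,
essentially of finite type, is formally smooth. -/
theorem formallySmooth_of_equiv_perfect {A B K : Type u} [CommRing A] [CommRing B] [Field K]
    [PerfectField K] (e : A ≃+* K) (φ : A →+* B) [IsLocalRing B] [IsRegularLocalRing B]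
    (h : φ.EssFiniteType) : φ.FormallySmooth := by
  letI : Field A := (e.toMulEquiv.isField (Field.toIsField K)).toField
  letI : Algebra K A := e.symm.toRingHom.toAlgebra
  haveI : Algebra.IsIntegral K A := Algebra.isIntegral_of_surjective e.symm.surjective
  haveI : Algebra.IsAlgebraic K A := Algebra.IsIntegral.isAlgebraic
  haveI : PerfectField A := Algebra.IsAlgebraic.perfectField K
  algebraize [φ]
  exact Groth.Agent.Lib.Helper6.RatPt.formallySmooth_of_isRegularLocalRing_of_perfectField A B


theorem isConstructible_of_isClosed_noeth {T : Type*} [TopologicalSpace T] [NoetherianSpace T]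
    {C : Set T} (hC : IsClosed C) : IsConstructible C := by
  rw [← isConstructible_compl]
  refine IsRetrocompact.isConstructible hC.isOpen_compl ?_
  intro U _ _
  exact NoetherianSpace.isCompact _

theorem isLocallyConstructible_of_isClosed {X : Scheme.{u}} [IsLocallyNoetherian X]
    {C : Set X} (hC : IsClosed C) : IsLocallyConstructible C := by
  intro x
  obtain ⟨_, ⟨U, hU, rfl⟩, hxU, -⟩ :=
    X.isBasis_affineOpens.exists_subset_of_mem_open (Set.mem_univ x) isOpen_univ
  haveI : IsNoetherianRing Γ(X, U) := IsLocallyNoetherian.component_noetherian ⟨U, hU⟩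
  haveI : NoetherianSpace (U : Set X) := noetherianSpace_of_isAffineOpen U hU
  refine ⟨U, U.2.mem_nhds hxU, U.2, ?_⟩
  exact isConstructible_of_isClosed_noeth (hC.preimage continuous_subtype_val)

theorem isLocallyConstructible_compl {T : Type*} [TopologicalSpace T] {s : Set T}
    (h : IsLocallyConstructible s) : IsLocallyConstructible sᶜ := by
  intro x
  obtain ⟨U, hU, hUo, hc⟩ := h x
  exact ⟨U, hU, hUo, by simpa [Set.preimage_compl] using hc.compl⟩

theorem exists_dense_open_smooth (X Y : Scheme.{u}) [IsIntegral Y]
    [IsLocallyNoetherian X] (hreg : ∀ x : X, IsRegularLocalRing (X.presheaf.stalk x))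
    (f : X ⟶ Y) [LocallyOfFinitePresentation f] [QuasiCompact f]
    [PerfectField Y.functionField] :
    ∃ V : Y.Opens, Dense (V : Set Y) ∧ Smooth (f ∣_ V) := by
  have hpt : ∀ x : X, f x = genericPoint Y → x ∈ f.smoothLocus := by
    intro x hx
    rw [Scheme.Hom.mem_smoothLocus]
    haveI := hreg x
    have e : Y.presheaf.stalk (f x) ≅ Y.presheaf.stalk (genericPoint Y) :=
      Y.presheaf.stalkCongr (.of_eq hx)
    exact formallySmooth_of_equiv_perfect (K := Y.functionField) e.commRingCatIsoToRingEquiv _
      (LocallyOfFiniteType.stalkMap f x)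
  have hZ : IsLocallyConstructible ((f.smoothLocus : Set X)ᶜ) :=
    isLocallyConstructible_of_isClosed f.smoothLocus.2.isClosed_compl
  have hE : IsLocallyConstructible (f '' (f.smoothLocus : Set X)ᶜ)ᶜ :=
    isLocallyConstructible_compl (f.isLocallyConstructible_image hZ)
  have hη : genericPoint Y ∈ (f '' (f.smoothLocus : Set X)ᶜ)ᶜ := by
    rintro ⟨x, hxZ, hx⟩
    exact hxZ (hpt x hx)
  have hint := Groth.Agent.Lib.Helper2.PairCons4.genericPoint_mem_interior _ hE hη
  refine ⟨⟨interior (f '' (f.smoothLocus : Set X)ᶜ)ᶜ, isOpen_interior⟩, ?_, ?_⟩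
  · exact isOpen_interior.dense ⟨_, hint⟩
  · set V : Y.Opens := ⟨interior (f '' (f.smoothLocus : Set X)ᶜ)ᶜ, isOpen_interior⟩ with hV
    have hsub : f ⁻¹ᵁ V ≤ f.smoothLocus := by
      intro x hx
      by_contra hx'
      exact (interior_subset (show f x ∈ interior _ from hx)) ⟨x, hx', rfl⟩
    have h1 : Smooth ((f ⁻¹ᵁ V).ι ≫ f) := by
      rw [← Scheme.Hom.smoothLocus_eq_top_iff, ← Scheme.Hom.preimage_smoothLocus_eq]
      rw [← top_le_iff]
      intro x _
      exact hsub x.2
    have h2 : Smooth (f ∣_ V ≫ V.ι) := by
      rwa [morphismRestrict_ι]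
    exact MorphismProperty.of_postcomp (W := @Smooth) (W' := @IsOpenImmersion) (f ∣_ V) V.ι
      inferInstance h2

end Groth.Agent.Lib.R2H4.GenSmooth
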