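import Mathlib
import Groth.Agent.Lib.R2H4ExtGlue

/-!
# Extension across trivialised points, with frames (helper4, round 2)

`exists_frames_of_frames` : the variant of `R2H4ExtGlue.exists_extension_of_frames` which returns the frames `ε i` of the
glued invertible module `L` on the cover `W i`, and the fact that every transition relation between the `ε i` also
holds between the given sections `φ i` of `M` (the hypothesis needed by `exists_hom_of_frames`).
-/

set_option autoImplicit false
set_option linter.style.haveILetI false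
universe u
open CategoryTheory Limits AlgebraicGeometry TopologicalSpace Opposite

namespace Groth.Agent.Lib.R2H4ExtGlueFrames
open Groth.Agent.Lib.Helper23.SecTw Groth.Agent.Lib.Helper6 Groth.Agent.Lib.R2H4CocycleGlue
  Groth.Agent.Lib.Helper23.GenNear Groth.Agent.Lib.Helper23.GenLocus Groth.Agent.Lib.Helper23.Extend

variable {X : Scheme.{u}}

theorem exists_frames_of_frames (U : X.Opens) (M : X.Modules) {ι : Type*} (W : ι → X.Opens)
    (hcov : ∀ x : X, ∃ i, x ∈ W i) (hWU : ∀ i j, i ≠ j → W i ⊓ W j ≤ U)
    (φ : ∀ i, Γ(M, W i)) (hφ : ∀ i, IsGen M (W i ⊓ U) (res M inf_le_left (φ i))) :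
    ∃ (L : X.Modules) (ε : ∀ i, Γ(L, W i)), PicF.IsInvertible L ∧ (∀ i, IsGen L (W i) (ε i)) ∧
      ∀ i j (g : Γ(X, W i ⊓ W j)),
        res L (inf_le_left : W i ⊓ W j ≤ W i) (ε i) = g • res L (inf_le_right : W i ⊓ W j ≤ W j) (ε j) →
        res M (inf_le_left : W i ⊓ W j ≤ W i) (φ i) =
          g • res M (inf_le_right : W i ⊓ W j ≤ W j) (φ j) := by
  classical
  let c : ∀ i j, Γ(X, W i ⊓ W j) := fun i j =>
    if h : i = j then 1 else
      coef (hφ i) (le_inf inf_le_left (hWU i j h) : W i ⊓ W j ≤ W i ⊓ U)
        (res M inf_le_right (φ j))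
  have hc_eq : ∀ i, c i i = 1 := fun i => dif_pos rfl
  have hc_ne : ∀ i j (h : i ≠ j), c i j =
      coef (hφ i) (le_inf inf_le_left (hWU i j h) : W i ⊓ W j ≤ W i ⊓ U)
        (res M inf_le_right (φ j)) := fun i j h => dif_neg h
  -- the defining relation
  have hspec0 : ∀ i j (h : i ≠ j), res M (inf_le_right : W i ⊓ W j ≤ W j) (φ j) =
      c i j • res M (inf_le_left : W i ⊓ W j ≤ W i) (φ i) := by
    intro i j h
    have h1 := coef_spec (hφ i) (le_inf inf_le_left (hWU i j h) : W i ⊓ W j ≤ W i ⊓ U)
      (res M inf_le_right (φ j))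
    rw [res_res] at h1
    rw [hc_ne i j h]
    exact h1.symm
  have hspec : ∀ i j (T : X.Opens) (hT : T ≤ W i ⊓ W j) (_ : T ≤ U),
      res M (hT.trans inf_le_right) (φ j) = resf hT (c i j) • res M (hT.trans inf_le_left) (φ i) := by
    intro i j T hT hTU
    by_cases h : i = j
    · subst h
      rw [hc_eq, resf, map_one, one_smul]
    · have h1 := congrArg (res M hT) (hspec0 i j h)
      rw [res_smul, res_res, res_res] at h1
      exact h1
  -- generators on smaller opens
  have hgenT : ∀ i (T : X.Opens) (hT : T ≤ W i) (hTU : T ≤ U), IsGen M T (res M hT (φ i)) := by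
    intro i T hT hTU
    have := (hφ i).mono (le_inf hT hTU)
    rwa [res_res] at this
  have hcoc : IsCoc W c := by
    refine isCoc_of_res W c (fun i j => ?_) (fun i j k => ?_)
    · by_cases h : i = j
      · subst h; rw [hc_eq]; exact isUnit_one
      · have h1 := hgenT i (W i ⊓ W j) inf_le_left (hWU i j h)
        have h2 := hgenT j (W i ⊓ W j) inf_le_right (hWU i j h)
        rw [hspec0 i j h] at h2
        exact (isGen_smul_iff h1 _).1 h2
    · by_cases hij : i = j
      · by_cases hjk : j = k
        · subst hij; subst hjk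
          rw [hc_eq]
          simp only [resf, map_one, mul_one]
        · have hTU : W i ⊓ W j ⊓ W k ≤ U :=
            (le_inf (inf_le_left.trans inf_le_right) inf_le_right).trans (hWU j k hjk)
          apply (hgenT i _ (inf_le_left.trans inf_le_left) hTU _ le_rfl).1
          simp only [res_self]
          rw [← hspec i k _ _ hTU, mul_comm, mul_smul, ← hspec i j _ _ hTU, ← hspec j k _ _ hTU]
      · have hTU : W i ⊓ W j ⊓ W k ≤ U := inf_le_left.trans (hWU i j hij)
        apply (hgenT i _ (inf_le_left.trans inf_le_left) hTU _ le_rfl).1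
        simp only [res_self]
        rw [← hspec i k _ _ hTU, mul_comm, mul_smul, ← hspec i j _ _ hTU, ← hspec j k _ _ hTU]
  obtain ⟨L, ε, hL, hgen, htr⟩ := exists_glue W hcov c hcoc
  refine ⟨L, ε, hL, hgen, fun i j g hg => ?_⟩
  · have h1 : g * c i j = 1 := by
      apply ((hgen i) (W i ⊓ W j) inf_le_left).1
      change (g * c i j) • res L inf_le_left (ε i) = (1 : Γ(X, W i ⊓ W j)) • res L inf_le_left (ε i)
      rw [one_smul, mul_smul, ← htr i j, ← hg]
    by_cases h : i = j
    · subst h
      rw [hc_eq, mul_one] at h1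
      rw [h1, one_smul]
    · rw [hspec0 i j h, ← mul_smul, h1, one_smul]

end Groth.Agent.Lib.R2H4ExtGlueFrames
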