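import Mathlib
import Groth.Agent.Lib.Helper23GenNear
import Groth.Agent.Lib.Helper23SecTw9

/-!
# An invertible module is trivial near a finite subset of an affine open (helper4, round 2)

* `isGenNear_add`, `isGenNear_add_imp`
* `exists_isGenNear_nhd` : on an affine open `U`, sections generating at `z` and only inside a prescribed neighbourhood
* `exists_section_isGenNear_of_finite` : `Z ⊆ U` finite, `U` affine: a section of `M` over `U` generating at all points of `Z`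
* `exists_frame_of_finite` : an open `G` with `Z ⊆ G ⊆ U`, `G` affine, and a frame of `M` over `G`.
-/

set_option autoImplicit false
set_option linter.style.haveILetI false
universe u
open CategoryTheory Limits AlgebraicGeometry TopologicalSpace Opposite

namespace Groth.Agent.Lib.R2H4SemiLocalFrame
open Groth.Agent.Lib.Helper23.SecTw Groth.Agent.Lib.Helper6 Groth.Agent.Lib.Helper23.GenNear
  Groth.Agent.Lib.Helper23.GenLocus Groth.Agent.Lib.Helper23.Extend

variable {X : Scheme.{u}}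

theorem isGenNear_add {M : X.Modules} (hM : PicF.IsInvertible M) {B : X.Opens} (m m' : Γ(M, B))
    (y : X) (h : IsGenNear M B m y) (h' : ¬ IsGenNear M B m' y) : IsGenNear M B (m + m') y := by
  have hy : y ∈ B := h.mem
  obtain ⟨W₀, e₀, hyW₀, hgen₀⟩ := exists_gen M hM y
  have hgen : IsGen M (W₀ ⊓ B) (res M inf_le_left e₀) := hgen₀.mono inf_le_left
  rw [isGenNear_iff_of_isGen hgen (inf_le_right : W₀ ⊓ B ≤ B) _ y ⟨hyW₀, hy⟩] at h h' ⊢
  have : res M (inf_le_right : W₀ ⊓ B ≤ B) (m + m') =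
      res M (inf_le_right : W₀ ⊓ B ≤ B) m + res M (inf_le_right : W₀ ⊓ B ≤ B) m' := map_add _ _ _
  rw [this, coef_add]
  exact mem_basicOpen_add _ _ y h h'

theorem isGenNear_add_imp {M : X.Modules} (hM : PicF.IsInvertible M) {B : X.Opens} (m m' : Γ(M, B))
    (y : X) (hy : y ∈ B) (h : IsGenNear M B (m + m') y) : IsGenNear M B m y ∨ IsGenNear M B m' y := by
  obtain ⟨W₀, e₀, hyW₀, hgen₀⟩ := exists_gen M hM y
  have hgen : IsGen M (W₀ ⊓ B) (res M inf_le_left e₀) := hgen₀.mono inf_le_left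
  rw [isGenNear_iff_of_isGen hgen (inf_le_right : W₀ ⊓ B ≤ B) _ y ⟨hyW₀, hy⟩] at h
  rw [isGenNear_iff_of_isGen hgen (inf_le_right : W₀ ⊓ B ≤ B) m y ⟨hyW₀, hy⟩,
    isGenNear_iff_of_isGen hgen (inf_le_right : W₀ ⊓ B ≤ B) m' y ⟨hyW₀, hy⟩]
  have : res M (inf_le_right : W₀ ⊓ B ≤ B) (m + m') =
      res M (inf_le_right : W₀ ⊓ B ≤ B) m + res M (inf_le_right : W₀ ⊓ B ≤ B) m' := map_add _ _ _
  rw [this, coef_add] at h
  exact basicOpen_add_le _ _ h

theorem not_isGenNear_zero {M : X.Modules} (hM : PicF.IsInvertible M) {B : X.Opens} (y : X) :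
    ¬ IsGenNear M B (0 : Γ(M, B)) y := by
  intro h
  have hy : y ∈ B := h.mem
  obtain ⟨W₀, e₀, hyW₀, hgen₀⟩ := exists_gen M hM y
  have hgen : IsGen M (W₀ ⊓ B) (res M inf_le_left e₀) := hgen₀.mono inf_le_left
  rw [isGenNear_iff_of_isGen hgen (inf_le_right : W₀ ⊓ B ≤ B) _ y ⟨hyW₀, hy⟩] at h
  have h0 : coef hgen le_rfl (res M (inf_le_right : W₀ ⊓ B ≤ B) (0 : Γ(M, B))) = 0 := by
    refine (coef_unique hgen le_rfl _ 0 ?_).symm
    rw [zero_smul, res_zero]
  rw [h0, Scheme.basicOpen_zero] at h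
  exact h

theorem exists_isGenNear_nhd {M : X.Modules} (hM : PicF.IsInvertible M) (U : X.Opens)
    (hU : IsAffineOpen U) (z : X) (hz : z ∈ U) (V : X.Opens) (hzV : z ∈ V) :
    ∃ t : Γ(M, U), IsGenNear M U t z ∧ ∀ y, IsGenNear M U t y → y ∈ V := by
  obtain ⟨W₀, e₀, hzW₀, hgen₀⟩ := exists_gen M hM z
  obtain ⟨g, hg, hzg⟩ := hU.exists_basicOpen_le (V := W₀ ⊓ V) ⟨z, ⟨hzW₀, hzV⟩⟩ hz
  obtain ⟨t, ht⟩ := exists_extension_isGenNear hM U hU.isCompact hU.isQuasiSeparated g W₀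
    (hg.trans inf_le_left) e₀
  refine ⟨t, (ht z).2 ⟨hzg, W₀, le_rfl, hzW₀, ?_⟩, fun y hy => (hg ((ht y).1 hy).1).2⟩
  rw [res_self]
  exact hgen₀

theorem exists_section_isGenNear_of_finite {M : X.Modules} (hM : PicF.IsInvertible M) (U : X.Opens)
    (hU : IsAffineOpen U) :
    ∀ (n : ℕ) (Z : Set X), Z.Finite → Z.ncard = n → Z ⊆ U →
      ∃ t : Γ(M, U), ∀ z ∈ Z, IsGenNear M U t z := by
  intro n
  induction n with
  | zero =>
    intro Z hZ hcard _
    have hZe : Z = ∅ := (Set.ncard_eq_zero hZ).1 hcard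
    exact ⟨0, fun z hz => by rw [hZe] at hz; exact absurd hz (Set.notMem_empty z)⟩
  | succ n ih =>
    intro Z hZ hcard hZU
    have hne : Z.Nonempty := by
      rw [← Set.ncard_pos hZ, hcard]; exact Nat.succ_pos n
    obtain ⟨z, hzZ, hz⟩ := exists_not_mem_closure Z hZ hne
    have hcard₀ : (Z \ {z}).ncard = n := by
      rw [Set.ncard_sdiff_singleton_of_mem hzZ, hcard]; rfl
    obtain ⟨t₀, ht₀⟩ := ih (Z \ {z}) (hZ.subset Set.sdiff_subset) hcard₀
      (Set.sdiff_subset.trans hZU)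
    by_cases hzt₀ : IsGenNear M U t₀ z
    · refine ⟨t₀, fun w hw => ?_⟩
      by_cases hwz : w = z
      · rw [hwz]; exact hzt₀
      · exact ht₀ w ⟨hw, hwz⟩
    · let V : X.Opens := ⟨(closure (Z \ {z}))ᶜ, isClosed_closure.isOpen_compl⟩
      obtain ⟨u, huz, huV⟩ := exists_isGenNear_nhd hM U hU z (hZU hzZ) V hz
      refine ⟨t₀ + u, fun w hw => ?_⟩
      by_cases hwz : w = z
      · rw [hwz, add_comm]
        exact isGenNear_add hM u t₀ z huz hzt₀
      · refine isGenNear_add hM t₀ u w (ht₀ w ⟨hw, hwz⟩) (fun hwu => ?_)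
        exact (huV w hwu) (subset_closure ⟨hw, hwz⟩)

/-- a frame of an invertible module on an affine neighbourhood of a finite subset of an affine open -/
theorem exists_frame_of_finite {M : X.Modules} (hM : PicF.IsInvertible M) (U : X.Opens)
    (hU : IsAffineOpen U) (Z : Set X) (hZ : Z.Finite) (hZU : Z ⊆ U) :
    ∃ (G : X.Opens) (e : Γ(M, G)), Z ⊆ G ∧ G ≤ U ∧ IsAffineOpen G ∧ IsGen M G e := by
  obtain ⟨t, ht⟩ := exists_section_isGenNear_of_finite hM U hU _ Z hZ rfl hZU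
  let G' := CohB1.genLocus (M.restrict U.ι) (restrSecLocal M U t)
  have h1 := isGen_sv_genLocus (M.restrict U.ι) (restrSecLocal M U t)
  rw [sv_restrSecLocal] at h1
  have h2 := isGen_of_isGen_restrict M U _ _ h1
  have haff : IsAffineOpen G' := by
    haveI : IsAffine (↑U : Scheme.{u}) := hU
    have h3 := isAffineOpen_inf_genLocus (M.restrict U.ι) (isInvertible_restrict M hM U)
      (restrSecLocal M U t) ⊤ (isAffineOpen_top _)
    rwa [top_inf_eq] at h3
  refine ⟨U.ι ''ᵁ G', _, ?_, image_le_self U G', haff.image_of_isOpenImmersion U.ι, h2⟩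
  intro z hz
  have hzU : z ∈ U := hZU hz
  exact ⟨⟨z, hzU⟩, (mem_genLocus_restrSecLocal_iff M U t ⟨z, hzU⟩).2 (ht z hz), rfl⟩

end Groth.Agent.Lib.R2H4SemiLocalFrame
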