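import Mathlib
import Groth.Agent.Lib.R2H4SemiLocalFrame

/-!
# An invertible module on the source of a finite morphism is trivial over small opens of the target (helper4)

* `exists_nhd_frame_preimage` : `f : X ⟶ Y` finite, `L` invertible on `X`, `y : Y` : there are an open `W ∋ y` and a
  frame of `L` over `f⁻¹ W`.
* `isIso_app_of_isIso_restrict` : `f` is an isomorphism over `V` ⇒ `f.app W` is an isomorphism for `W ≤ V`.
-/

set_option autoImplicit false
set_option linter.style.haveILetI false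
universe u
open CategoryTheory Limits AlgebraicGeometry TopologicalSpace Opposite

namespace Groth.Agent.Lib.R2H4FiniteTriv
open Groth.Agent.Lib.Helper23.SecTw Groth.Agent.Lib.Helper6 Groth.Agent.Lib.R2H4SemiLocalFrame

theorem exists_nhd_frame_preimage {X Y : Scheme.{u}} (f : X ⟶ Y) [IsFinite f] (L : X.Modules)
    (hL : PicF.IsInvertible L) (y : Y) :
    ∃ (W : Y.Opens) (e : Γ(L, f ⁻¹ᵁ W)), y ∈ W ∧ IsGen L (f ⁻¹ᵁ W) e := by
  obtain ⟨W₀, hW₀, hyW₀, -⟩ := exists_isAffineOpen_mem_and_subset (x := y) (U := ⊤) trivial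
  have hW₀aff : IsAffineOpen W₀ := hW₀
  have hAff : IsAffineOpen (f ⁻¹ᵁ W₀) := hW₀aff.preimage f
  have hfin : (f ⁻¹' {y}).Finite := f.finite_preimage_singleton y
  have hsub : f ⁻¹' {y} ⊆ f ⁻¹ᵁ W₀ := by
    intro x hx
    have : f x = y := hx
    change f x ∈ W₀
    rw [this]; exact hyW₀
  obtain ⟨G, e, hZG, hGD, -, hgen⟩ := exists_frame_of_finite hL (f ⁻¹ᵁ W₀) hAff _ hfin hsub
  have hC : IsClosed (f '' ((G : Set X)ᶜ)) := f.isClosedMap _ G.isOpen.isClosed_compl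
  let W : Y.Opens := W₀ ⊓ ⟨(f '' ((G : Set X)ᶜ))ᶜ, hC.isOpen_compl⟩
  have hyW : y ∈ W := by
    refine ⟨hyW₀, ?_⟩
    rintro ⟨x, hxG, hxy⟩
    exact hxG (hZG hxy)
  have hle : f ⁻¹ᵁ W ≤ G := by
    intro x hx
    by_contra hxG
    exact hx.2 ⟨x, hxG, rfl⟩
  exact ⟨W, res L hle e, hyW, hgen.mono hle⟩

/-- iso of a restriction ⇒ iso on sections over smaller opens (copied from `H9DvrPush`) -/
theorem isIso_app_of_isIso_restrict {X Y : Scheme.{u}} (π : Y ⟶ X) (U W : X.Opens) (hWU : W ≤ U)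
    [IsIso (π ∣_ U)] : IsIso (π.app W) := by
  have h : IsIso ((π ∣_ U).app (U.ι ⁻¹ᵁ W)) := inferInstance
  rw [morphismRestrict_app] at h
  have h1 : IsIso (π.app (U.ι ''ᵁ (U.ι ⁻¹ᵁ W))) := by
    have h0 : IsIso (Y.presheaf.map
        (eqToHom (image_morphismRestrict_preimage π U (U.ι ⁻¹ᵁ W))).op) := inferInstance
    exact @IsIso.of_isIso_comp_right _ _ _ _ _ _ _ h0 h
  have e : U.ι ''ᵁ (U.ι ⁻¹ᵁ W) = W := by
    rw [Scheme.Hom.image_preimage_eq_opensRange_inf, Scheme.Opens.opensRange_ι]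
    exact inf_eq_right.2 hWU
  rw [Scheme.Hom.app_eq π e.symm]
  infer_instance

end Groth.Agent.Lib.R2H4FiniteTriv
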