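import Mathlib
import Groth.Agent.Lib.R2H4ExtGlueFrames
import Groth.Agent.Lib.R2H4FiniteTriv
import Groth.Agent.Lib.Helper27PullGen

/-!
# Descent of invertible modules along a finite morphism which is an isomorphism off a discrete set (helper4)

* `exists_open_of_discrete`
* `isIso_of_frames` : a morphism of modules sending a family of frames to a family of frames is an isomorphism
* `exists_pullback_iso` : `f : X ⟶ Y` finite, an isomorphism over the open `V`, `Y ∖ V` discrete : every invertible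
  `O_X`-module is the pullback of an invertible `O_Y`-module.
-/

set_option autoImplicit false
set_option linter.style.haveILetI false
universe u
open CategoryTheory Limits AlgebraicGeometry TopologicalSpace Opposite

namespace Groth.Agent.Lib.R2H4FinitePicDesc
open Groth.Agent.Lib.Helper23.SecTw Groth.Agent.Lib.Helper6 Groth.Agent.Lib.R2H4ExtGlueFrames
  Groth.Agent.Lib.R2H4FiniteTriv Groth.Agent.Lib.Helper23.Extend Groth.Agent.Helper13PullbackUnit
  Groth.Agent.Lib.Helper27PullGen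

theorem exists_open_of_discrete {X : Scheme.{u}} (U : X.Opens)
    (hdisc : DiscreteTopology ↥((U : Set X)ᶜ)) (x : X) (hx : x ∉ U) :
    ∃ O : X.Opens, x ∈ O ∧ ∀ y ∈ O, y ∉ U → y = x := by
  have h1 : IsOpen ({⟨x, hx⟩} : Set ↥((U : Set X)ᶜ)) := isOpen_discrete _
  obtain ⟨O, hO, hOeq⟩ := isOpen_induced_iff.mp h1
  refine ⟨⟨O, hO⟩, ?_, fun y hyO hyU => ?_⟩
  · have : (⟨x, hx⟩ : ↥((U : Set X)ᶜ)) ∈ Subtype.val ⁻¹' O := by
      rw [hOeq]; exact Set.mem_singleton _
    exact this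
  · have : (⟨y, hyU⟩ : ↥((U : Set X)ᶜ)) ∈ Subtype.val ⁻¹' O := hyO
    rw [hOeq] at this
    exact congrArg Subtype.val (Set.mem_singleton_iff.mp this)

/-- a morphism sending frames to frames is an isomorphism -/
theorem isIso_of_frames {X : Scheme.{u}} {A B : X.Modules} (Ψ : A ⟶ B) {ι : Type*} (W : ι → X.Opens)
    (hcov : ∀ x : X, ∃ i, x ∈ W i) (a : ∀ i, Γ(A, W i)) (b : ∀ i, Γ(B, W i))
    (ha : ∀ i, IsGen A (W i) (a i)) (hb : ∀ i, IsGen B (W i) (b i))
    (hΨ : ∀ i (T : X.Opens) (hT : T ≤ W i) (c : Γ(X, T)),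
      Ψ.app T (c • res A hT (a i)) = c • res B hT (b i)) : IsIso Ψ := by
  refine Groth.Agent.Lib.Helper20.ZClosLib.isIso_of_bijective_on_affines Ψ (fun T _ => ?_)
  refine bijective_app_of_cover Ψ T (fun x _ => ?_)
  obtain ⟨i, hi⟩ := hcov x
  refine ⟨W i, hi, fun W' hW' => ?_⟩
  rw [ConcreteCategory.isIso_iff_bijective]
  have hf₁ := (ha i) W' hW'
  have hf₂ := (hb i) W' hW'
  have hcomp : ⇑(ConcreteCategory.hom (Ψ.app W')) ∘ (fun r : Γ(X, W') => r • res A hW' (a i)) =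
      fun r : Γ(X, W') => r • res B hW' (b i) := by
    funext r
    exact hΨ i W' hW' r
  rw [← Function.Bijective.of_comp_iff _ hf₁, hcomp]
  exact hf₂

theorem exists_pullback_iso {X Y : Scheme.{u}} (f : X ⟶ Y) [IsFinite f]
    (V : Y.Opens) (hV : IsIso (f ∣_ V)) (hdisc : DiscreteTopology ↥((V : Set Y)ᶜ))
    (L : X.Modules) (hL : PicF.IsInvertible L) :
    ∃ N : Y.Modules, PicF.IsInvertible N ∧ Nonempty ((Scheme.Modules.pullback f).obj N ≅ L) := by
  -- (a) local frames on a good cover of `Y`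
  have hloc : ∀ y : Y, ∃ (W : Y.Opens) (e : Γ(L, f ⁻¹ᵁ W)), y ∈ W ∧ IsGen L (f ⁻¹ᵁ W) e ∧
      ∀ z ∈ W, z ∉ V → z = y := by
    intro y
    obtain ⟨W₁, e₁, hyW₁, he₁⟩ := exists_nhd_frame_preimage f L hL y
    by_cases hy : y ∈ V
    · exact ⟨W₁ ⊓ V, res L (f.preimage_mono inf_le_left) e₁, ⟨hyW₁, hy⟩,
        he₁.mono (f.preimage_mono inf_le_left), fun z hz hzV => absurd hz.2 hzV⟩
    · obtain ⟨O, hyO, hO⟩ := exists_open_of_discrete V hdisc y hy
      exact ⟨W₁ ⊓ O, res L (f.preimage_mono inf_le_left) e₁, ⟨hyW₁, hyO⟩,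
        he₁.mono (f.preimage_mono inf_le_left), fun z hz hzV => hO z hz.2 hzV⟩
  choose W e hyW he hW using hloc
  have hcov : ∀ y : Y, ∃ i, y ∈ W i := fun y => ⟨y, hyW y⟩
  have hWV : ∀ i j, i ≠ j → W i ⊓ W j ≤ V := by
    intro i j hij z hz
    by_contra hzV
    exact hij ((hW i z hz.1 hzV).symm.trans (hW j z hz.2 hzV))
  -- (b) the direct image
  let M := (Scheme.Modules.pushforward f).obj L
  have hφ : ∀ i, IsGen M (W i ⊓ V) (res M inf_le_left (show Γ(M, W i) from e i)) := by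
    intro i W' hW'
    have h1 := ((he i).mono (f.preimage_mono (inf_le_left : W i ⊓ V ≤ W i)))
      (f ⁻¹ᵁ W') (f.preimage_mono hW')
    have h2 : IsIso (f.app W') := isIso_app_of_isIso_restrict f V W' (hW'.trans inf_le_right)
    exact h1.comp (ConcreteCategory.bijective_of_isIso (f.app W'))
  -- (c) glue
  obtain ⟨N, ε, hN, hgen, hc⟩ := exists_frames_of_frames V M W hcov hWV (fun i => e i) hφ
  refine ⟨N, hN, ?_⟩
  haveI : N.IsQuasicoherent := isQuasicoherent_of_isInvertible N hN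
  -- (d) the comparison morphism
  let a : ∀ i, Γ((Scheme.Modules.pullback f).obj N, f ⁻¹ᵁ W i) :=
    fun i => unitSec f N (le_refl (f ⁻¹ᵁ W i)) (ε i)
  have ha : ∀ i, IsGen ((Scheme.Modules.pullback f).obj N) (f ⁻¹ᵁ W i) (a i) :=
    fun i => isGen_pullback f N (W i) (ε i) (hgen i)
  obtain ⟨Ψ, hΨ⟩ := exists_hom_of_frames ((Scheme.Modules.pullback f).obj N) L
    (fun i => f ⁻¹ᵁ W i) (fun x => ⟨f x, hyW (f x)⟩) a e ha (fun i j g hg => by
      have hle : f ⁻¹ᵁ W i ⊓ f ⁻¹ᵁ W j ≤ f ⁻¹ᵁ (W i ⊓ W j) := fun x hx => hx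
      let g₀ := coef (hgen j) (inf_le_right : W i ⊓ W j ≤ W j) (res N inf_le_left (ε i))
      have hg₀ : g₀ • res N (inf_le_right : W i ⊓ W j ≤ W j) (ε j) = res N inf_le_left (ε i) :=
        coef_spec (hgen j) _ _
      have hM := hc i j g₀ hg₀.symm
      -- translate to `L`
      have hL₀ : res L (inf_le_left : f ⁻¹ᵁ W i ⊓ f ⁻¹ᵁ W j ≤ f ⁻¹ᵁ W i) (e i) =
          f.appLE (W i ⊓ W j) (f ⁻¹ᵁ W i ⊓ f ⁻¹ᵁ W j) hle g₀ •
            res L (inf_le_right : f ⁻¹ᵁ W i ⊓ f ⁻¹ᵁ W j ≤ f ⁻¹ᵁ W j) (e j) := by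
        rw [pushforward_smul] at hM
        have h1 : res L (f.preimage_mono (inf_le_left : W i ⊓ W j ≤ W i)) (e i) =
            (f.app (W i ⊓ W j) g₀) •
              res L (f.preimage_mono (inf_le_right : W i ⊓ W j ≤ W j)) (e j) := hM
        have h2 := congrArg (res L hle) h1
        rw [res_smul, res_res, res_res] at h2
        exact h2
      -- the pulled back relation
      have hP : res ((Scheme.Modules.pullback f).obj N)
          (inf_le_left : f ⁻¹ᵁ W i ⊓ f ⁻¹ᵁ W j ≤ f ⁻¹ᵁ W i) (a i) =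
          f.appLE (W i ⊓ W j) (f ⁻¹ᵁ W i ⊓ f ⁻¹ᵁ W j) hle g₀ •
            res ((Scheme.Modules.pullback f).obj N)
              (inf_le_right : f ⁻¹ᵁ W i ⊓ f ⁻¹ᵁ W j ≤ f ⁻¹ᵁ W j) (a j) := by
        have h1 := congrArg (unitSec f N hle) hg₀
        rw [unitSec_smul, unitSec_res, unitSec_res] at h1
        exact h1.symm
      have hgeq : f.appLE (W i ⊓ W j) (f ⁻¹ᵁ W i ⊓ f ⁻¹ᵁ W j) hle g₀ = g := by
        apply ((ha j) _ inf_le_right).1
        change _ • res ((Scheme.Modules.pullback f).obj N) inf_le_right (a j) =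
          g • res ((Scheme.Modules.pullback f).obj N) inf_le_right (a j)
        rw [← hP, hg]
      rw [hL₀, hgeq])
  have : IsIso Ψ := isIso_of_frames Ψ (fun i => f ⁻¹ᵁ W i) (fun x => ⟨f x, hyW (f x)⟩) a e ha he hΨ
  exact ⟨asIso Ψ⟩

end Groth.Agent.Lib.R2H4FinitePicDesc
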