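import Mathlib
import Groth.Agent.Lib.R2H4AffPts
import Groth.Agent.Lib.R2H4DivGlue
import Groth.Agent.Lib.R2H1GenusLe

/-!
# Lifting units along a surjection, avoiding finitely many incomparable primes (helper4, round 2)

* `surjective_app_of_le` : sections over an affine open inside `U` lift along `f`, if `f` is a closed immersion over `U`.
* `exists_unit_lift_near` : a unit of `O_X` on `f⁻¹(W ∩ U)` lifts to a unit of `O_Y` on `W' ∩ U` for a smaller affine
  neighbourhood `W'` of the isolated point `y` of `Y ∖ U`.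
* `exists_lift_not_mem` : `φ : A →+* B` surjective, `u` a unit of `B`, `P` a finite set of pairwise incomparable primes of
  `A` : there is a lift `a` of `u` lying in no member of `P`.
-/

set_option autoImplicit false
set_option linter.style.haveILetI false
universe u
open CategoryTheory Limits AlgebraicGeometry TopologicalSpace Opposite

namespace Groth.Agent.Lib.R2H4UnitLift

theorem exists_lift_not_mem {A B : Type*} [CommRing A] [CommRing B] (φ : A →+* B)
    (hφ : Function.Surjective φ) (u : B) (hu : IsUnit u) (P : Finset (Ideal A))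
    (hP : ∀ p ∈ P, p.IsPrime) (hinc : ∀ p ∈ P, ∀ q ∈ P, p ≤ q → p = q) :
    ∃ a : A, φ a = u ∧ ∀ p ∈ P, a ∉ p := by
  classical
  obtain ⟨a₀, ha₀⟩ := hφ u
  obtain ⟨w, hw⟩ := hu.exists_right_inv
  obtain ⟨b₀, hb₀⟩ := hφ w
  have hker : ∀ p ∈ P, RingHom.ker φ ≤ p → a₀ ∉ p := by
    intro p hp hle ha
    have h0 : a₀ * b₀ - 1 ∈ RingHom.ker φ := by
      rw [RingHom.mem_ker, map_sub, map_mul, ha₀, hb₀, map_one, hw, sub_self]
    have h1 : a₀ * b₀ - 1 ∈ p := hle h0
    have h2 : a₀ * b₀ ∈ p := p.mul_mem_right _ ha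
    have h3 : (1 : A) ∈ p := by
      have := p.sub_mem h2 h1
      simpa using this
    exact (hP p hp).ne_top ((Ideal.eq_top_iff_one _).2 h3)
  let S₁ := P.filter (fun p => a₀ ∈ p)
  let S₂ := P.filter (fun p => a₀ ∉ p)
  let J' : Ideal A := RingHom.ker φ ⊓ S₂.inf id
  have hnot : ¬ ((J' : Set A) ⊆ ⋃ p ∈ (S₁ : Set (Ideal A)), ((id p : Ideal A) : Set A)) := by
    intro hsub
    rw [Ideal.subset_union_prime (s := S₁) (f := id) ⊥ ⊥
      (fun p hp _ _ => hP p (Finset.mem_filter.mp hp).1)] at hsub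
    obtain ⟨p, hpS, hle⟩ := hsub
    have hpP : p ∈ P := (Finset.mem_filter.mp hpS).1
    have hap : a₀ ∈ p := (Finset.mem_filter.mp hpS).2
    have hpp := hP p hpP
    rcases hpp.inf_le.mp hle with h | h
    · exact hker p hpP h hap
    · obtain ⟨q, hqS, hqp⟩ := hpp.inf_le'.mp h
      have hqP : q ∈ P := (Finset.mem_filter.mp hqS).1
      have haq : a₀ ∉ q := (Finset.mem_filter.mp hqS).2
      have := hinc q hqP p hpP hqp
      exact haq (this ▸ hap)
  obtain ⟨j, hjJ, hj⟩ := Set.not_subset.mp hnot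
  have hjker : j ∈ RingHom.ker φ := (Ideal.mem_inf.mp hjJ).1
  have hjS₂ : ∀ q ∈ S₂, j ∈ q := by
    intro q hq
    have : S₂.inf id ≤ id q := Finset.inf_le hq
    exact this (Ideal.mem_inf.mp hjJ).2
  refine ⟨a₀ + j, by rw [map_add, ha₀, (RingHom.mem_ker).mp hjker, add_zero], fun p hp hmem => ?_⟩
  by_cases hap : a₀ ∈ p
  · have hj' : j ∈ p := by
      have := p.sub_mem hmem hap
      simpa using this
    apply hj
    simp only [Set.mem_iUnion]
    exact ⟨p, Finset.mem_coe.mpr (Finset.mem_filter.mpr ⟨hp, hap⟩), hj'⟩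
  · have hj' : j ∈ p := hjS₂ p (Finset.mem_filter.mpr ⟨hp, hap⟩)
    have := p.sub_mem hmem hj'
    exact hap (by simpa using this)


open Groth.Agent.Lib.Helper6 Groth.Agent.Lib.R2H4AffPts Groth.Agent.Lib.R2H4DivGlue

variable {X Y : Scheme.{u}} (f : X ⟶ Y)

/-- surjectivity on sections over an affine open inside `U`, for `f` a closed immersion over `U` -/
theorem surjective_app_of_le (U : Y.Opens) [IsClosedImmersion (f ∣_ U)] (D : Y.Opens)
    (hD : IsAffineOpen D) (hDU : D ≤ U) : Function.Surjective (f.app D) := by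
  have e : U.ι ''ᵁ (U.ι ⁻¹ᵁ D) = D := by
    rw [Scheme.Hom.image_preimage_eq_opensRange_inf, Scheme.Opens.opensRange_ι]
    exact inf_eq_right.2 hDU
  have haff : IsAffineOpen (U.ι ⁻¹ᵁ D) :=
    hD.preimage_of_isOpenImmersion U.ι (by rw [Scheme.Opens.opensRange_ι]; exact hDU)
  have h := Groth.Agent.Lib.R2H1.GenusLe.surjective_app_of_closedImm f U (U.ι ⁻¹ᵁ D) haff
  revert h
  generalize U.ι ''ᵁ (U.ι ⁻¹ᵁ D) = D' at e
  subst e
  exact id

theorem app_resf {A B : Y.Opens} (h : B ≤ A) (a : Γ(Y, A)) :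
    f.app B (resf h a) = resf (f.preimage_mono h) (f.app A a) := by
  have := congrArg (fun φ => φ.hom a) (f.naturality (homOfLE h).op)
  exact this

/-- **unit lifting near an isolated point of `Y ∖ U`.** -/
theorem exists_unit_lift_near (V : Y.Opens) [IsClosedImmersion (f ∣_ V)] (U : Y.Opens) (hUV : U ≤ V)
    {W : Y.Opens}
    (hW : IsAffineOpen W) (h : Γ(Y, W)) (hh : Y.basicOpen h = W ⊓ U) (y : Y) (hyW : y ∈ W) (hyU : y ∉ U)
    (hWy : ∀ z ∈ W, z ∉ U → z = y) (hfin : {z : Y | z ⤳ y}.Finite)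
    (hinc : ∀ z z' : Y, z ⤳ z' → z' ⤳ y → z' ≠ y → z = z')
    (u : Γ(X, f ⁻¹ᵁ (W ⊓ U))) (hu : IsUnit u) :
    ∃ (W' : Y.Opens) (hW' : W' ≤ W) (v : Γ(Y, W' ⊓ U)), IsAffineOpen W' ∧ y ∈ W' ∧ IsUnit v ∧
      f.app (W' ⊓ U) v = resf (f.preimage_mono (inf_le_inf_right U hW')) u := by
  classical
  have hD : IsAffineOpen (W ⊓ U) := hh ▸ hW.basicOpen h
  have hsurj := surjective_app_of_le f V (W ⊓ U) hD (inf_le_right.trans hUV)
  -- the proper generizations of `y` lie in `W ⊓ U`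
  have hmem : ∀ z : Y, z ⤳ y → z ≠ y → z ∈ W ⊓ U := by
    intro z hz hne
    have hzW : z ∈ W := hz.mem_open W.isOpen hyW
    refine ⟨hzW, ?_⟩
    by_contra hzU
    exact hne (hWy z hzW hzU)
  -- the finite set of primes
  let Z : Set ↥(W ⊓ U) := {z | z.1 ⤳ y ∧ z.1 ≠ y}
  have hZfin : Z.Finite := by
    have h1 : (Subtype.val ⁻¹' {z : Y | z ⤳ y} : Set ↥(W ⊓ U)).Finite :=
      hfin.preimage Subtype.val_injective.injOn
    exact h1.subset (fun z hz => hz.1)
  let PP : Set (Ideal Γ(Y, W ⊓ U)) := (fun z : ↥(W ⊓ U) => pr hD z.1 z.2) '' Z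
  have hPPfin : PP.Finite := hZfin.image _
  obtain ⟨a, hau, ha⟩ := exists_lift_not_mem (f.app (W ⊓ U)).hom hsurj u hu hPPfin.toFinset
    (fun p hp => by
      obtain ⟨z, -, rfl⟩ := (Set.Finite.mem_toFinset _).mp hp
      infer_instance)
    (fun p hp q hq hpq => by
      obtain ⟨z, hz, rfl⟩ := (Set.Finite.mem_toFinset _).mp hp
      obtain ⟨z', hz', rfl⟩ := (Set.Finite.mem_toFinset _).mp hq
      have h1 : z.1 ⤳ z'.1 := (pr_le_iff hD z'.1 z.1 z'.2 z.2).mp hpq
      have h2 : z.1 = z'.1 := hinc z.1 z'.1 h1 hz'.1 hz'.2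
      have h3 : z = z' := Subtype.ext h2
      rw [h3])
  -- the open where `a` is invertible
  let G : Y.Opens := Y.basicOpen a
  have hGD : G ≤ W ⊓ U := Y.basicOpen_le a
  have hGc : IsCompact (G : Set Y) := (hD.basicOpen a).isCompact
  have hZG : ∀ z : Y, z ⤳ y → z ≠ y → z ∈ G := by
    intro z hz hne
    have hzD := hmem z hz hne
    have h1 : pr hD z hzD ∈ hPPfin.toFinset :=
      (Set.Finite.mem_toFinset _).mpr ⟨⟨z, hzD⟩, ⟨hz, hne⟩, rfl⟩
    have h2 := ha _ h1
    rw [mem_pr_iff, not_not] at h2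
    exact h2
  obtain ⟨W', hW'W, hW'aff, hyW', hW'G⟩ :=
    exists_nhd_inf_le hW U y hyW hyU h hh G hGc (hGD.trans inf_le_left) hZG
  have hle : W' ⊓ U ≤ W ⊓ U := inf_le_inf_right U hW'W
  refine ⟨W', hW'W, resf hle a, hW'aff, hyW', isUnit_resf_of_le_basicOpen a hle hW'G, ?_⟩
  rw [app_resf]
  congr 1

end Groth.Agent.Lib.R2H4UnitLift
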