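import Mathlib
import Groth.Agent.Lib.R2H4UnitLift
import Groth.Agent.Lib.R2H4FinitePicDesc
import Groth.Agent.Lib.Helper7TopDim
import Groth.Agent.Lib.Helper4FibDimL

/-!
# Descent of invertible modules along a finite morphism which is generically a closed immersion (helper4, round 2)

* `exists_coc_of_units` : the coboundary-type cocycle `c i j = v i / v j` on a cover `W i` whose pairwise intersections lie
  in an open `U`, from units `v i` on `W i ∩ U`.
* `exists_pullback_iso_of_local_data` : an invertible `O_X`-module with frames `e i` on `f⁻¹(W i)` and a section `eU` on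
  `f⁻¹ U` with `eU = f^♯(v i) • e i` is a pullback of an invertible `O_Y`-module.
-/

set_option autoImplicit false
set_option linter.style.haveILetI false
universe u
open CategoryTheory Limits AlgebraicGeometry TopologicalSpace Opposite

namespace Groth.Agent.Lib.R2H4PicDescCI
open Groth.Agent.Lib.Helper23.SecTw Groth.Agent.Lib.Helper6 Groth.Agent.Lib.R2H4CocycleGlue
  Groth.Agent.Lib.R2H4FiniteTriv Groth.Agent.Lib.Helper23.Extend Groth.Agent.Helper13PullbackUnit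
  Groth.Agent.Lib.Helper27PullGen Groth.Agent.Lib.R2H4FinitePicDesc Groth.Agent.Lib.R2H4UnitLift
  Groth.Agent.Lib.Helper23.GenNear

section Coc

variable {Y : Scheme.{u}}

theorem resf_mul {A B : Y.Opens} (h : B ≤ A) (a b : Γ(Y, A)) :
    resf h (a * b) = resf h a * resf h b := map_mul _ _ _

theorem resf_one {A B : Y.Opens} (h : B ≤ A) : resf h (1 : Γ(Y, A)) = 1 := map_one _

theorem exists_coc_of_units (U : Y.Opens) {ι : Type*} (W : ι → Y.Opens)
    (hWU : ∀ i j, i ≠ j → W i ⊓ W j ≤ U) (v : ∀ i, Γ(Y, W i ⊓ U)) (hv : ∀ i, IsUnit (v i)) :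
    ∃ c : ∀ i j, Γ(Y, W i ⊓ W j), IsCoc W c ∧
      ∀ i j (T : Y.Opens) (hT : T ≤ W i ⊓ W j) (hTU : T ≤ U),
        resf hT (c i j) * resf (le_inf (hT.trans inf_le_right) hTU : T ≤ W j ⊓ U) (v j) =
          resf (le_inf (hT.trans inf_le_left) hTU : T ≤ W i ⊓ U) (v i) := by
  classical
  choose w hw using fun i => (hv i).exists_left_inv
  let c : ∀ i j, Γ(Y, W i ⊓ W j) := fun i j =>
    if h : i = j then 1 else
      resf (le_inf inf_le_left (hWU i j h) : W i ⊓ W j ≤ W i ⊓ U) (v i) *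
        resf (le_inf inf_le_right (hWU i j h) : W i ⊓ W j ≤ W j ⊓ U) (w j)
  have hc_eq : ∀ i, c i i = 1 := fun i => dif_pos rfl
  have hc_ne : ∀ i j (h : i ≠ j), c i j =
      resf (le_inf inf_le_left (hWU i j h) : W i ⊓ W j ≤ W i ⊓ U) (v i) *
        resf (le_inf inf_le_right (hWU i j h) : W i ⊓ W j ≤ W j ⊓ U) (w j) := fun i j h => dif_neg h
  have hspec : ∀ i j (T : Y.Opens) (hT : T ≤ W i ⊓ W j) (hTU : T ≤ U),
      resf hT (c i j) * resf (le_inf (hT.trans inf_le_right) hTU : T ≤ W j ⊓ U) (v j) =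
        resf (le_inf (hT.trans inf_le_left) hTU : T ≤ W i ⊓ U) (v i) := by
    intro i j T hT hTU
    by_cases h : i = j
    · subst h
      rw [hc_eq, resf_one, one_mul]
    · rw [hc_ne i j h, resf_mul, resf_resf, resf_resf, mul_assoc, ← resf_mul, hw, resf_one, mul_one]
  have hunitT : ∀ i (T : Y.Opens) (hT : T ≤ W i ⊓ U), IsUnit (resf hT (v i)) :=
    fun i T hT => (hv i).map _
  refine ⟨c, isCoc_of_res W c (fun i j => ?_) (fun i j k => ?_), hspec⟩
  · by_cases h : i = j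
    · subst h; rw [hc_eq]; exact isUnit_one
    · have h1 := hspec i j (W i ⊓ W j) le_rfl (hWU i j h)
      have h2 : resf (le_rfl : W i ⊓ W j ≤ W i ⊓ W j) (c i j) = c i j := by
        change Y.presheaf.map (𝟙 _) (c i j) = c i j
        rw [Y.presheaf.map_id]; rfl
      rw [h2] at h1
      have h3 := hunitT i _ (le_inf inf_le_left (hWU i j h) : W i ⊓ W j ≤ W i ⊓ U)
      rw [← h1] at h3
      exact isUnit_of_mul_isUnit_left h3
  · by_cases hij : i = j
    · by_cases hjk : j = k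
      · subst hij; subst hjk
        rw [hc_eq, resf_one, mul_one]
      · subst hij
        rw [hc_eq, resf_one, one_mul]
    · have hTU : W i ⊓ W j ⊓ W k ≤ U := inf_le_left.trans (hWU i j hij)
      have hk := hunitT k (W i ⊓ W j ⊓ W k) (le_inf inf_le_right hTU)
      apply hk.mul_left_injective
      change _ * _ = _ * _
      have e1 := hspec i k (W i ⊓ W j ⊓ W k) (le_inf (inf_le_left.trans inf_le_left) inf_le_right) hTU
      have e2 := hspec i j (W i ⊓ W j ⊓ W k) inf_le_left hTU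
      have e3 := hspec j k (W i ⊓ W j ⊓ W k) (le_inf (inf_le_left.trans inf_le_right) inf_le_right) hTU
      rw [mul_assoc, e3, e2]
      exact e1

end Coc

section Core

variable {X Y : Scheme.{u}} (f : X ⟶ Y)

theorem resf_self' {A : Y.Opens} (h : A ≤ A) (a : Γ(Y, A)) : resf h a = a := by
  change Y.presheaf.map (𝟙 _) a = a
  rw [Y.presheaf.map_id]; rfl

theorem exists_pullback_iso_of_local_data (L : X.Modules)
    (U : Y.Opens) (eU : Γ(L, f ⁻¹ᵁ U)) {ι : Type*} (W : ι → Y.Opens)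
    (hcov : ∀ y : Y, ∃ i, y ∈ W i) (hWU : ∀ i j, i ≠ j → W i ⊓ W j ≤ U)
    (e : ∀ i, Γ(L, f ⁻¹ᵁ W i)) (he : ∀ i, IsGen L (f ⁻¹ᵁ W i) (e i))
    (v : ∀ i, Γ(Y, W i ⊓ U)) (hv : ∀ i, IsUnit (v i))
    (hrel : ∀ i, res L (f.preimage_mono (inf_le_right : W i ⊓ U ≤ U)) eU =
      f.app (W i ⊓ U) (v i) • res L (f.preimage_mono (inf_le_left : W i ⊓ U ≤ W i)) (e i)) :
    ∃ N : Y.Modules, PicF.IsInvertible N ∧ Nonempty ((Scheme.Modules.pullback f).obj N ≅ L) := by
  classical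
  obtain ⟨c, hc, hcv⟩ := exists_coc_of_units U W hWU v hv
  obtain ⟨N, ε, hN, hgen, htr⟩ := exists_glue W hcov c hc
  refine ⟨N, hN, ?_⟩
  haveI : N.IsQuasicoherent := isQuasicoherent_of_isInvertible N hN
  let a : ∀ i, Γ((Scheme.Modules.pullback f).obj N, f ⁻¹ᵁ W i) :=
    fun i => unitSec f N (le_refl (f ⁻¹ᵁ W i)) (ε i)
  have ha : ∀ i, IsGen ((Scheme.Modules.pullback f).obj N) (f ⁻¹ᵁ W i) (a i) :=
    fun i => isGen_pullback f N (W i) (ε i) (hgen i)
  have hle : ∀ i j, f ⁻¹ᵁ W i ⊓ f ⁻¹ᵁ W j ≤ f ⁻¹ᵁ (W i ⊓ W j) := fun i j x hx => hx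
  -- the relation between the frames of `L`
  have hLrel : ∀ i j, i ≠ j →
      res L (inf_le_right : f ⁻¹ᵁ W i ⊓ f ⁻¹ᵁ W j ≤ f ⁻¹ᵁ W j) (e j) =
        f.appLE (W i ⊓ W j) (f ⁻¹ᵁ W i ⊓ f ⁻¹ᵁ W j) (hle i j) (c i j) •
          res L (inf_le_left : f ⁻¹ᵁ W i ⊓ f ⁻¹ᵁ W j ≤ f ⁻¹ᵁ W i) (e i) := by
    intro i j hij
    have hTU : W i ⊓ W j ≤ U := hWU i j hij
    have hi := congrArg (res L (f.preimage_mono (le_inf inf_le_left hTU : W i ⊓ W j ≤ W i ⊓ U))) (hrel i)
    have hj := congrArg (res L (f.preimage_mono (le_inf inf_le_right hTU : W i ⊓ W j ≤ W j ⊓ U))) (hrel j)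
    rw [res_smul, res_res, res_res,
      ← app_resf f (le_inf inf_le_left hTU : W i ⊓ W j ≤ W i ⊓ U)] at hi
    rw [res_smul, res_res, res_res,
      ← app_resf f (le_inf inf_le_right hTU : W i ⊓ W j ≤ W j ⊓ U)] at hj
    have hcv' := hcv i j (W i ⊓ W j) le_rfl hTU
    rw [resf_self'] at hcv'
    have hcv'' := congrArg (f.app (W i ⊓ W j)) hcv'
    rw [map_mul] at hcv''
    have hunit : IsUnit (f.app (W i ⊓ W j)
        (resf (le_inf inf_le_right hTU : W i ⊓ W j ≤ W j ⊓ U) (v j))) :=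
      ((hv j).map _).map _
    have key : res L (f.preimage_mono (inf_le_right : W i ⊓ W j ≤ W j)) (e j) =
        f.app (W i ⊓ W j) (c i j) • res L (f.preimage_mono (inf_le_left : W i ⊓ W j ≤ W i)) (e i) := by
      have h1 : f.app (W i ⊓ W j) (resf (le_inf inf_le_right hTU : W i ⊓ W j ≤ W j ⊓ U) (v j)) •
            res L (f.preimage_mono (inf_le_right : W i ⊓ W j ≤ W j)) (e j) =
          f.app (W i ⊓ W j) (resf (le_inf inf_le_right hTU : W i ⊓ W j ≤ W j ⊓ U) (v j)) •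
            (f.app (W i ⊓ W j) (c i j) •
              res L (f.preimage_mono (inf_le_left : W i ⊓ W j ≤ W i)) (e i)) := by
        rw [← mul_smul, mul_comm, hcv'', ← hj, hi]
      exact (hunit.smul_left_cancel).1 h1
    have h2 := congrArg (res L (hle i j)) key
    rw [res_smul, res_res, res_res] at h2
    exact h2
  obtain ⟨Ψ, hΨ⟩ := exists_hom_of_frames ((Scheme.Modules.pullback f).obj N) L
    (fun i => f ⁻¹ᵁ W i) (fun x => hcov (f x)) a e ha (fun i j g hg => by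
      by_cases hij : i = j
      · subst hij
        have hg1 : g = 1 := by
          apply ((ha i) _ inf_le_right).1
          change g • res ((Scheme.Modules.pullback f).obj N) inf_le_right (a i) =
            (1 : Γ(X, f ⁻¹ᵁ W i ⊓ f ⁻¹ᵁ W i)) • res ((Scheme.Modules.pullback f).obj N) inf_le_right (a i)
          rw [one_smul, ← hg]
        rw [hg1, one_smul]
      · have hP : res ((Scheme.Modules.pullback f).obj N)
            (inf_le_right : f ⁻¹ᵁ W i ⊓ f ⁻¹ᵁ W j ≤ f ⁻¹ᵁ W j) (a j) =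
            f.appLE (W i ⊓ W j) (f ⁻¹ᵁ W i ⊓ f ⁻¹ᵁ W j) (hle i j) (c i j) •
              res ((Scheme.Modules.pullback f).obj N)
                (inf_le_left : f ⁻¹ᵁ W i ⊓ f ⁻¹ᵁ W j ≤ f ⁻¹ᵁ W i) (a i) := by
          have h1 := congrArg (unitSec f N (hle i j)) (htr i j)
          rw [unitSec_smul, unitSec_res, unitSec_res] at h1
          exact h1
        have hgc : g * f.appLE (W i ⊓ W j) (f ⁻¹ᵁ W i ⊓ f ⁻¹ᵁ W j) (hle i j) (c i j) = 1 := by
          apply ((ha i) _ inf_le_left).1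
          change (g * _) • res ((Scheme.Modules.pullback f).obj N) inf_le_left (a i) =
            (1 : Γ(X, f ⁻¹ᵁ W i ⊓ f ⁻¹ᵁ W j)) • res ((Scheme.Modules.pullback f).obj N) inf_le_left (a i)
          rw [one_smul, mul_smul, ← hP, ← hg]
        rw [hLrel i j hij, ← mul_smul, hgc, one_smul])
  have : IsIso Ψ := isIso_of_frames Ψ (fun i => f ⁻¹ᵁ W i) (fun x => hcov (f x)) a e ha he hΨ
  exact ⟨asIso Ψ⟩

end Core

section Disjoint

variable {X : Scheme.{u}}

/-- frames on two disjoint opens glue to a frame on their union -/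
theorem exists_frame_of_disjoint (L : X.Modules) (A B Ω : X.Opens) (hA : A ≤ Ω) (hB : B ≤ Ω)
    (hΩ : Ω ≤ A ⊔ B) (hAB : A ⊓ B ≤ ⊥) (s : Γ(L, A)) (hs : IsGen L A s) (t : Γ(L, B))
    (ht : IsGen L B t) : ∃ r : Γ(L, Ω), IsGen L Ω r := by
  obtain ⟨r, hrA, hrB⟩ := exists_res_eq₂ (F := L) hA hB hΩ (inf_le_left : A ⊓ B ≤ A)
    (inf_le_right : A ⊓ B ≤ B) le_rfl s t
    ((eq_zero_of_le_bot (F := L) hAB _).trans (eq_zero_of_le_bot (F := L) hAB _).symm)
  refine ⟨r, isGen_of_cover L Ω r (fun x hx => ?_)⟩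
  rcases hΩ hx with hxA | hxB
  · exact ⟨A, hA, hxA, hrA ▸ hs⟩
  · exact ⟨B, hB, hxB, hrB ▸ ht⟩

end Disjoint

section Top

/-- complement of a dense open in a Noetherian scheme of dimension `≤ 1` is discrete -/
theorem discreteTopology_compl_of_dense (Y : Scheme.{u}) [IsNoetherian Y]
    (hdim : topologicalKrullDim Y ≤ 1) (U : Y.Opens) (hU : Dense (U : Set Y)) :
    DiscreteTopology ↥((U : Set Y)ᶜ) := by
  have h0 := Groth.Agent.Lib.R2H1.GenusLe.dim_compl_le_zero_of_dense Y hdim U hU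
  by_cases hne : Nonempty ↥((U : Set Y)ᶜ)
  · have h1 : topologicalKrullDim ↥((U : Set Y)ᶜ) = 0 :=
      le_antisymm h0 Groth.Agent.Lib.Helper7.TopDim.topologicalKrullDim_nonneg
    exact ((Groth.Agent.Lib.Helper7.TopDim.dim_eq_zero_iff_finite_discrete).mp h1).2
  · haveI : IsEmpty ↥((U : Set Y)ᶜ) := not_nonempty_iff.mp hne
    exact Subsingleton.discreteTopology

theorem eq_of_specializes_of_dim_le_one {Y : Type*} [TopologicalSpace Y] [T0Space Y]
    (hdim : topologicalKrullDim Y ≤ 1) {z z' y : Y} (h1 : z ⤳ z') (h2 : z' ⤳ y) (hne : z' ≠ y) :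
    z = z' := by
  let a : IrreducibleCloseds Y := ⟨closure {z'}, isIrreducible_singleton.closure, isClosed_closure⟩
  let b : IrreducibleCloseds Y := ⟨closure {y}, isIrreducible_singleton.closure, isClosed_closure⟩
  let c : IrreducibleCloseds Y := ⟨closure {z}, isIrreducible_singleton.closure, isClosed_closure⟩
  have hba : b ≤ a := specializes_iff_closure_subset.mp h2
  have hac : a ≤ c := specializes_iff_closure_subset.mp h1
  rcases (Order.krullDim_le_one_iff.mp hdim) a with hmin | hmax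
  · have hab : a ≤ b := hmin hba
    have h3 : y ⤳ z' := specializes_iff_closure_subset.mpr hab
    exact absurd (h2.antisymm h3).eq hne
  · have hca : c ≤ a := hmax hac
    have h3 : z' ⤳ z := specializes_iff_closure_subset.mpr hca
    exact (h1.antisymm h3).eq

theorem ringKrullDim_stalk_le (Y : Scheme.{u}) (hdim : topologicalKrullDim Y ≤ 1) (y : Y) :
    ringKrullDim (Y.presheaf.stalk y) ≤ 1 := by
  rw [Groth.Agent.Lib.Helper4.FibDim.topologicalKrullDim_eq_iSup_ringKrullDim_stalk] at hdim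
  exact (le_iSup (fun x : Y => ringKrullDim (Y.presheaf.stalk x)) y).trans hdim

end Top

section Main

open Groth.Agent.Lib.R2H4AffPts

variable {X Y : Scheme.{u}} (f : X ⟶ Y)

/-- local data near an isolated point of `Y ∖ U` -/
theorem exists_local_data [IsFinite f] (L : X.Modules) (hL : PicF.IsInvertible L)
    (V : Y.Opens) [IsClosedImmersion (f ∣_ V)] (U : Y.Opens) (hUV : U ≤ V) [QuasiCompact U.ι]
    (hdisc : DiscreteTopology ↥((U : Set Y)ᶜ)) (eU : Γ(L, f ⁻¹ᵁ U)) (heU : IsGen L (f ⁻¹ᵁ U) eU)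
    (y : Y) (hy : y ∉ U) (hN : IsNoetherianRing (Y.presheaf.stalk y))
    (hd : ringKrullDim (Y.presheaf.stalk y) ≤ 1)
    (hinc : ∀ z z' : Y, z ⤳ z' → z' ⤳ y → z' ≠ y → z = z') :
    ∃ (W : Y.Opens) (e : Γ(L, f ⁻¹ᵁ W)) (v : Γ(Y, W ⊓ U)), y ∈ W ∧ IsGen L (f ⁻¹ᵁ W) e ∧ IsUnit v ∧
      (∀ z ∈ W, z ∉ U → z = y) ∧
      res L (f.preimage_mono (inf_le_right : W ⊓ U ≤ U)) eU =
        f.app (W ⊓ U) v • res L (f.preimage_mono (inf_le_left : W ⊓ U ≤ W)) e := by
  obtain ⟨W₁, e₁, hyW₁, he₁⟩ := exists_nhd_frame_preimage f L hL y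
  obtain ⟨W₀, h₀, hW₀aff, hyW₀, hh₀, hW₀y⟩ := exists_punctured_eq_basicOpen U hdisc y hy hN hd
  obtain ⟨g, hg, hyg⟩ := hW₀aff.exists_basicOpen_le (V := W₀ ⊓ W₁) ⟨y, ⟨hyW₀, hyW₁⟩⟩ hyW₀
  have hWaff : IsAffineOpen (Y.basicOpen g) := hW₀aff.basicOpen g
  have hWW₀ : Y.basicOpen g ≤ W₀ := Y.basicOpen_le g
  have hWW₁ : Y.basicOpen g ≤ W₁ := hg.trans inf_le_right
  have hh : Y.basicOpen (resf hWW₀ h₀) = Y.basicOpen g ⊓ U := by
    rw [Scheme.basicOpen_res, hh₀, ← inf_assoc, inf_eq_left.mpr hWW₀]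
  have hWy : ∀ z ∈ Y.basicOpen g, z ∉ U → z = y := fun z hz => hW₀y z (hWW₀ hz)
  have heW : IsGen L (f ⁻¹ᵁ Y.basicOpen g) (res L (f.preimage_mono hWW₁) e₁) :=
    he₁.mono (f.preimage_mono hWW₁)
  have hB : IsGen L (f ⁻¹ᵁ (Y.basicOpen g ⊓ U))
      (res L (f.preimage_mono (inf_le_left : Y.basicOpen g ⊓ U ≤ Y.basicOpen g))
        (res L (f.preimage_mono hWW₁) e₁)) := heW.mono _
  have hA : IsGen L (f ⁻¹ᵁ (Y.basicOpen g ⊓ U))
      (res L (f.preimage_mono (inf_le_right : Y.basicOpen g ⊓ U ≤ U)) eU) := heU.mono _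
  obtain ⟨u, hu⟩ : ∃ u : Γ(X, f ⁻¹ᵁ (Y.basicOpen g ⊓ U)),
      u • res L (f.preimage_mono (inf_le_left : Y.basicOpen g ⊓ U ≤ Y.basicOpen g))
        (res L (f.preimage_mono hWW₁) e₁) =
      res L (f.preimage_mono (inf_le_right : Y.basicOpen g ⊓ U ≤ U)) eU :=
    ⟨coef heW (f.preimage_mono inf_le_left) _, coef_spec heW _ _⟩
  have huu : IsUnit u := by
    rw [← hu] at hA
    exact (isGen_smul_iff hB u).1 hA
  obtain ⟨W', hW'W, v, hW'aff, hyW', hv, hfv⟩ := exists_unit_lift_near f V U hUV hWaff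
    (resf hWW₀ h₀) hh y hyg hy hWy (finite_generizations y hN hd) hinc u huu
  refine ⟨W', res L (f.preimage_mono (hW'W.trans hWW₁)) e₁, v, hyW',
    he₁.mono _, hv, fun z hz => hWy z (hW'W hz), ?_⟩
  have h1 := congrArg (res L (f.preimage_mono (inf_le_inf_right U hW'W))) hu
  rw [res_smul, res_res, res_res, res_res] at h1
  rw [hfv, res_res]
  exact h1.symm

/-- **Descent of invertible modules along a finite morphism which is a closed immersion over a dense open of a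
Noetherian scheme of dimension `≤ 1`.** -/
theorem exists_pullback_iso_of_dense [IsFinite f] [IsNoetherian Y] (hdim : topologicalKrullDim Y ≤ 1)
    (V : Y.Opens) (hV : Dense (V : Set Y)) [IsClosedImmersion (f ∣_ V)]
    (L : X.Modules) (hL : PicF.IsInvertible L) :
    ∃ N : Y.Modules, PicF.IsInvertible N ∧ Nonempty ((Scheme.Modules.pullback f).obj N ≅ L) := by
  classical
  -- Step 1 : a maximal open inside `V` over which `L` is trivial
  let S : Set Y.Opens := {U | U ≤ V ∧ ∃ e : Γ(L, f ⁻¹ᵁ U), IsGen L (f ⁻¹ᵁ U) e}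
  have hbot : (⊥ : Y.Opens) ∈ S :=
    ⟨bot_le, ⟨0, isGen_of_cover L _ 0 (fun x hx => (hx : False).elim)⟩⟩
  obtain ⟨U, ⟨hUV, eU, heU⟩, hmax⟩ := wellFounded_gt.has_min S ⟨⊥, hbot⟩
  have hUdense : Dense (U : Set Y) := by
    by_contra hnd
    obtain ⟨y₀, hy₀⟩ : ∃ y₀, y₀ ∉ closure (U : Set Y) := by
      by_contra hcon
      push Not at hcon
      exact hnd (fun y => hcon y)
    let O : Y.Opens := ⟨(closure (U : Set Y))ᶜ, isClosed_closure.isOpen_compl⟩
    obtain ⟨y', hy'O, hy'V⟩ := hV.inter_open_nonempty O O.isOpen ⟨y₀, hy₀⟩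
    obtain ⟨W₁, e₁, hy'W₁, he₁⟩ := exists_nhd_frame_preimage f L hL y'
    let O' : Y.Opens := W₁ ⊓ V ⊓ O
    have hdisj : f ⁻¹ᵁ U ⊓ f ⁻¹ᵁ O' ≤ ⊥ := fun x hx => hx.2.2 (subset_closure hx.1)
    obtain ⟨r, hr⟩ := exists_frame_of_disjoint L (f ⁻¹ᵁ U) (f ⁻¹ᵁ O') (f ⁻¹ᵁ (U ⊔ O'))
      (f.preimage_mono le_sup_left) (f.preimage_mono le_sup_right) (fun x hx => hx) hdisj eU heU
      (res L (f.preimage_mono (inf_le_left.trans inf_le_left : O' ≤ W₁)) e₁) (he₁.mono _)
    have hmem : U ⊔ O' ∈ S := ⟨sup_le hUV (inf_le_left.trans inf_le_right), r, hr⟩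
    have hgt : U < U ⊔ O' := by
      refine lt_of_le_of_ne le_sup_left (fun heq => ?_)
      have h1 : y' ∈ U ⊔ O' := Or.inr ⟨⟨hy'W₁, hy'V⟩, hy'O⟩
      rw [← heq] at h1
      exact hy'O (subset_closure h1)
    exact hmax _ hmem hgt
  have hdisc := discreteTopology_compl_of_dense Y hdim U hUdense
  -- Step 2 : local data
  have hloc : ∀ y : Y, ∃ (W : Y.Opens) (e : Γ(L, f ⁻¹ᵁ W)) (v : Γ(Y, W ⊓ U)), y ∈ W ∧
      IsGen L (f ⁻¹ᵁ W) e ∧ IsUnit v ∧ (∀ z ∈ W, z ∉ U → z = y) ∧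
      res L (f.preimage_mono (inf_le_right : W ⊓ U ≤ U)) eU =
        f.app (W ⊓ U) v • res L (f.preimage_mono (inf_le_left : W ⊓ U ≤ W)) e := by
    intro y
    by_cases hy : y ∈ U
    · refine ⟨U, eU, 1, hy, heU, isUnit_one, fun z hz hzU => absurd hz hzU, ?_⟩
      rw [map_one, one_smul]
    · exact exists_local_data f L hL V U hUV hdisc eU heU y hy inferInstance
        (ringKrullDim_stalk_le Y hdim y)
        (fun z z' h1 h2 hne => eq_of_specializes_of_dim_le_one hdim h1 h2 hne)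
  choose W e v hyW he hv hW hrel using hloc
  refine exists_pullback_iso_of_local_data f L U eU W (fun y => ⟨y, hyW y⟩) (fun i j hij => ?_)
    e he v hv hrel
  intro z hz
  by_contra hzU
  exact hij ((hW i z hz.1 hzU).symm.trans (hW j z hz.2 hzU))

end Main

end Groth.Agent.Lib.R2H4PicDescCI
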