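import Mathlib
import Groth.Prelude
import Groth.Agent.Lib.R2H4DivGlue
import Groth.Agent.Lib.R2H4PicDescCI
import Groth.Agent.Lib.R2H1DegNonpos
import Groth.Agent.Lib.R2H3QProj
import Groth.Agent.Lib.R2H2ProjOver
import Groth.Agent.S7642

/-!
# Proper schemes of dimension at most one over a field are projective (helper4, round 2)

* `exists_isAmple` : a proper scheme of dimension `≤ 1` over a field carries an ample invertible module (`O(D)` for `D`
  an effective Cartier divisor supported at one closed point of each irreducible component, constructed with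
  `R2H4DivGlue.exists_genLocus_eq`; ampleness from helper1's degree criterion S7642 and `component_alternative`).
* `exists_closedImmersion_projSpace`.
-/

set_option autoImplicit false
set_option linter.style.haveILetI false
universe u
open CategoryTheory Limits AlgebraicGeometry TopologicalSpace Opposite

namespace Groth.Agent.Lib.R2H4CurveProj

variable (k : Type u) [Field k] (X : Scheme.{u}) [X.Over (Spec (CommRingCat.of k))]
  [IsProper (X ↘ (Spec (CommRingCat.of k)))]

include k in
theorem exists_isAmple (hdim : topologicalKrullDim X ≤ 1) : ∃ L : X.Modules, CohB1.IsAmple L := by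
  classical
  haveI := Groth.Agent.Lib.R2H1.CurveEuler.isNoetherian_of_proper k X
  have hcomp_fin : (irreducibleComponents X).Finite := NoetherianSpace.finite_irreducibleComponents
  have hclosed : ∀ Z ∈ irreducibleComponents X, ∃ x ∈ Z, IsClosed ({x} : Set X) := by
    intro Z hZ
    exact IsClosed.exists_closed_singleton (isClosed_of_mem_irreducibleComponents Z hZ)
      hZ.1.nonempty
  choose x hxZ hxcl using hclosed
  let F : Set X := Set.range (fun Z : irreducibleComponents X => x Z.1 Z.2)
  haveI : Finite ↥(irreducibleComponents X) := hcomp_fin.to_subtype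
  have hFfin : F.Finite := Set.finite_range _
  have hFcl : IsClosed F := by
    have : F = ⋃ z ∈ F, ({z} : Set X) := by simp
    rw [this]
    exact hFfin.isClosed_biUnion (fun z hz => by
      obtain ⟨Z, rfl⟩ := hz
      exact hxcl Z.1 Z.2)
  have hFpt : ∀ z ∈ F, IsClosed ({z} : Set X) := by
    rintro z ⟨Z, rfl⟩
    exact hxcl Z.1 Z.2
  let U : X.Opens := ⟨Fᶜ, hFcl.isOpen_compl⟩
  have hUc : ((U : Set X)ᶜ) = F := compl_compl F
  have hdisc : DiscreteTopology ↥((U : Set X)ᶜ) := by
    rw [hUc]
    haveI : Finite ↥F := hFfin.to_subtype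
    haveI : T1Space ↥F := ⟨fun z => by
      have h1 : IsClosed ((Subtype.val : ↥F → X) ⁻¹' {z.1}) :=
        (hFpt z.1 z.2).preimage continuous_subtype_val
      have h2 : (Subtype.val : ↥F → X) ⁻¹' {z.1} = {z} := by
        ext w
        simp [Subtype.ext_iff]
      rwa [h2] at h1⟩
    infer_instance
  have hloc : ∀ z : X, z ∉ U → IsNoetherianRing (X.presheaf.stalk z) ∧
      ringKrullDim (X.presheaf.stalk z) ≤ 1 := fun z _ =>
    ⟨inferInstance, Groth.Agent.Lib.R2H4PicDescCI.ringKrullDim_stalk_le X hdim z⟩
  obtain ⟨L, s, hL, hgl⟩ := Groth.Agent.Lib.R2H4DivGlue.exists_genLocus_eq U hdisc hloc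
  refine ⟨L, ?_⟩
  rw [Groth.Agent.S7642.result k X hdim L hL]
  intro C hC hCdim
  by_contra hneg
  push Not at hneg
  rcases Groth.Agent.Lib.R2H1.DegNonpos.component_alternative k X L hL s ⟨C, hC⟩ hCdim hneg
    with h | h
  · have h1 : x C hC ∈ (CohB1.genLocus L s : Set X) := h (hxZ C hC)
    rw [hgl] at h1
    exact h1 ⟨⟨C, hC⟩, rfl⟩
  · -- the generic point of `C` lies in `U`
    have hCirr : IsIrreducible C := hC.1
    have hCcl : IsClosed C := isClosed_of_mem_irreducibleComponents C hC
    obtain ⟨η, hη⟩ := QuasiSober.sober hCirr hCcl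
    have hηC : η ∈ C := hη.mem
    have hηU : η ∈ (CohB1.genLocus L s : Set X) := by
      rw [hgl]
      intro hηF
      have hcl : IsClosed ({η} : Set X) := hFpt η hηF
      have hCeq : C = {η} := by
        rw [← hη.def, hcl.closure_eq]
      have h0 : topologicalKrullDim ↥C = 0 := by
        rw [hCeq]
        haveI : Unique ↥({η} : Set X) := Set.uniqueSingleton η
        exact le_antisymm (topologicalKrullDim_zero_of_discreteTopology _)
          Groth.Agent.Lib.Helper7.TopDim.topologicalKrullDim_nonneg
      rw [h0] at hCdim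
      exact zero_ne_one hCdim
    exact Set.disjoint_left.mp h hηC hηU

theorem exists_closedImmersion_projSpace (hdim : topologicalKrullDim X ≤ 1) :
    ∃ (n : ℕ) (i : X ⟶ CohB1.ProjSpace n k), IsClosedImmersion i ∧
      i ≫ CohB1.ProjSpace.toSpec n k = X ↘ (Spec (CommRingCat.of k)) := by
  obtain ⟨L, hample⟩ := exists_isAmple k X hdim
  obtain ⟨n, i, hi, hif⟩ := Groth.Agent.Lib.R2H3.QProj.exists_immersion_of_isAmple
    (X ↘ (Spec (CommRingCat.of k))) L hample
  haveI := hi
  have hci := Groth.Agent.Lib.R2H3.QProj.isClosedImmersion_of_isProper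
    (X ↘ (Spec (CommRingCat.of k))) n i hif
  have hpb := Groth.Agent.Lib.R2H2.ProjOver.isPullback_a n k (𝟙 (Spec (CommRingCat.of k)))
  haveI : IsIso (Groth.Agent.Lib.R2H2.ProjOver.a n k (𝟙 (Spec (CommRingCat.of k)))) :=
    hpb.isIso_fst_of_isIso
  refine ⟨n, i ≫ inv (Groth.Agent.Lib.R2H2.ProjOver.a n k (𝟙 (Spec (CommRingCat.of k)))),
    inferInstance, ?_⟩
  rw [Category.assoc]
  have h2 := Groth.Agent.Lib.R2H2.ProjOver.a_toBase n k (𝟙 (Spec (CommRingCat.of k)))
  rw [Category.comp_id] at h2
  rw [← h2, IsIso.inv_hom_id_assoc]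
  exact hif

end Groth.Agent.Lib.R2H4CurveProj
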