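import Mathlib
import Groth.Prelude
import Groth.Agent.Lib.R2H4HodgeIdx
import Groth.Agent.Lib.R2H4AmpleSection
set_option backward.isDefEq.respectTransparency.types false

/-!
# The Hodge index inequality (helper4, round 2)

Namespace `Groth.Agent.Lib.R2H4HodgeIneq`. On a proper integral surface over a field:
`P k A B` the intersection pairing, `P_symm`, `P_comb` (bilinearity for integer combinations
`A^a ⊗ B^b`), `self_pos` (`(H·H) > 0` for ample `H`), `hodge_ineq` (`(D·D)(H·H) ≤ (D·H)²`).
-/

set_option autoImplicit false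
set_option linter.style.haveILetI false
set_option linter.unusedSectionVars false
universe u

open CategoryTheory CategoryTheory.Limits AlgebraicGeometry TopologicalSpace Opposite

namespace Groth.Agent.Lib.R2H4HodgeIneq

open Groth.Agent.Lib.R2H4TensorPows Groth.Agent.Lib.R2H4FGAAdd Groth.Agent.Lib.R2H4SurfPos
  Groth.Agent.Lib.R2H4SurfHyp Groth.Agent.Lib.R2H4SurfDual Groth.Agent.Lib.R2H4HodgeIdx

section Pair

variable (k : Type u) [Field k] {X : Scheme.{u}} [X.Over (Spec (CommRingCat.of k))]
  [IsProper (X ↘ Spec (CommRingCat.of k))] [IsIntegral X]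

/-- the intersection pairing of two invertible modules on a surface -/
noncomputable def P (A B : X.Modules) : ℤ :=
  FGA.intNum k X 2 (Fin.cons A (Fin.cons B (Fin.elim0 : Fin 0 → X.Modules)) : Fin 2 → X.Modules)
    (Coh.structureModule X)

theorem P_eq (A B : X.Modules) :
    FGA.intNum k X 2 ![A, B] (Coh.structureModule X) = P k A B := rfl

theorem P_symm (hdim : topologicalKrullDim X = 2) (A B : X.Modules) : P k A B = P k B A :=
  intNum_swap k 2 hdim.le A B (Coh.structureModule X)

/-- bilinearity in the first argument, for integer combinations -/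
theorem P_comb (hdim : topologicalKrullDim X = 2) (A A' B B' : X.Modules)
    (hA : PicF.IsInvertible A) (hB : PicF.IsInvertible B)
    (eA : CohB1.tensorMod A A' ≅ Coh.structureModule X)
    (eB : CohB1.tensorMod B B' ≅ Coh.structureModule X) (a b : ℤ)
    (C : X.Modules) (hC : PicF.IsInvertible C) :
    P k (CohB1.tensorMod (zp A A' a) (zp B B' b)) C = a * P k A C + b * P k B C := by
  have hd : topologicalKrullDim X ≤ ((2 : ℕ) : WithBot ℕ∞) := hdim.le
  have hA' : PicF.IsInvertible A' :=
    Groth.Agent.Lib.Helper2.TensorInv.isInvertible_of_tensor_iso A' A (tComm _ _ ≪≫ eA)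
  have hB' : PicF.IsInvertible B' :=
    Groth.Agent.Lib.Helper2.TensorInv.isInvertible_of_tensor_iso B' B (tComm _ _ ≪≫ eB)
  have hO : PicF.IsInvertible (Coh.structureModule X) :=
    Groth.Agent.Lib.Helper23.TensorUnit.isInvertible_structureModule X
  have cO : Coh.IsCoh (Coh.structureModule X) :=
    Groth.Agent.Lib.R2H4SSDescent.isCoh_of_isInvertible _ hO
  have hsuppO : topologicalKrullDim (CohB1.support (Coh.structureModule X)) ≤
      ((1 + 1 : ℕ) : WithBot ℕ∞) :=
    (Topology.IsInducing.subtypeVal).topologicalKrullDim_le.trans hd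
  unfold P
  rw [s3232 k 2 hd (Fin.cons C (Fin.elim0 : Fin 0 → X.Modules) : Fin 1 → X.Modules) (inv1 C hC)
      _ _ (isInvertible_zp A A' hA hA' a) (isInvertible_zp B B' hB hB' b)
      (Coh.structureModule X) cO hsuppO,
    intNum_zp k 2 hd _ (inv1 C hC) A A' hA hA' eA _ cO hsuppO,
    intNum_zp k 2 hd _ (inv1 C hC) B B' hB hB' eB _ cO hsuppO]

theorem isInvertible_comb (A A' B B' : X.Modules)
    (hA : PicF.IsInvertible A) (hB : PicF.IsInvertible B)
    (eA : CohB1.tensorMod A A' ≅ Coh.structureModule X)
    (eB : CohB1.tensorMod B B' ≅ Coh.structureModule X) (a b : ℤ) :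
    PicF.IsInvertible (CohB1.tensorMod (zp A A' a) (zp B B' b)) := by
  have hA' : PicF.IsInvertible A' :=
    Groth.Agent.Lib.Helper2.TensorInv.isInvertible_of_tensor_iso A' A (tComm _ _ ≪≫ eA)
  have hB' : PicF.IsInvertible B' :=
    Groth.Agent.Lib.Helper2.TensorInv.isInvertible_of_tensor_iso B' B (tComm _ _ ≪≫ eB)
  exact Groth.Agent.Lib.Helper23.SecTw.isInvertible_tensorMod (isInvertible_zp A A' hA hA' a)
    (isInvertible_zp B B' hB hB' b)

/-- `(H·H) > 0` for an ample `H` on a surface -/
theorem self_pos (hdim : topologicalKrullDim X = 2) (H : X.Modules) (hH : CohB1.IsAmple H) :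
    0 < P k H H := by
  have hd : topologicalKrullDim X ≤ ((2 : ℕ) : WithBot ℕ∞) := hdim.le
  have hO : PicF.IsInvertible (Coh.structureModule X) :=
    Groth.Agent.Lib.Helper23.TensorUnit.isInvertible_structureModule X
  have cO : Coh.IsCoh (Coh.structureModule X) :=
    Groth.Agent.Lib.R2H4SSDescent.isCoh_of_isInvertible _ hO
  obtain ⟨H', -, ⟨eH⟩⟩ := Groth.Agent.Lib.R2H4InvExists.exists_inverse H hH.1
  have hsupp : topologicalKrullDim (CohB1.support (Coh.structureModule X)) = ((2 : ℕ) : WithBot ℕ∞) := by
    rw [Groth.Agent.Lib.R2H4AmpleSection.support_of_isInvertible _ hO]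
    have h2 : topologicalKrullDim (Set.univ : Set X) = topologicalKrullDim X :=
      IsHomeomorph.topologicalKrullDim_eq _ (Homeomorph.Set.univ _).isHomeomorph
    rw [h2, hdim]
    rfl
  have h := Groth.Agent.Lib.R2H4FGAPos.s3233 k 2 hd
    (Fin.cons H (Fin.cons H (Fin.elim0 : Fin 0 → X.Modules)) : Fin 2 → X.Modules)
    (Fin.cons H' (Fin.cons H' (Fin.elim0 : Fin 0 → X.Modules)) : Fin 2 → X.Modules)
    (by
      intro i
      induction i using Fin.cases with
      | zero => simpa using hH
      | succ j =>
        induction j using Fin.cases with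
        | zero => simpa using hH
        | succ l => exact l.elim0)
    (by
      intro i
      induction i using Fin.cases with
      | zero => exact ⟨by simpa using eH⟩
      | succ j =>
        induction j using Fin.cases with
        | zero => exact ⟨by simpa using eH⟩
        | succ l => exact l.elim0)
    (Coh.structureModule X) cO hsupp
  have e := intNum_inv_inv k hdim H H' H H' hH.1 hH.1 eH eH
  rw [← P_eq, ← e]
  exact h

/-- **Hodge index inequality** `(D·D)(H·H) ≤ (D·H)²` -/
theorem hodge_ineq (hdim : topologicalKrullDim X = 2) (H : X.Modules) (hH : CohB1.IsAmple H)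
    (D : X.Modules) (hD : PicF.IsInvertible D) :
    P k D D * P k H H ≤ P k D H ^ 2 := by
  obtain ⟨H', -, ⟨eH⟩⟩ := Groth.Agent.Lib.R2H4InvExists.exists_inverse H hH.1
  obtain ⟨D', -, ⟨eD⟩⟩ := Groth.Agent.Lib.R2H4InvExists.exists_inverse D hD
  have hpos := self_pos k hdim H hH
  set h := P k H H with hh
  set d := P k D H with hd'
  set E := CohB1.tensorMod (zp D D' h) (zp H H' (-d)) with hE
  have hEi : PicF.IsInvertible E := isInvertible_comb D D' H H' hD hH.1 eD eH h (-d)
  have hlin : ∀ C : X.Modules, PicF.IsInvertible C → P k E C = h * P k D C + (-d) * P k H C :=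
    fun C hC => P_comb k hdim D D' H H' hD hH.1 eD eH h (-d) C hC
  have hEH : P k E H = 0 := by
    rw [hlin H hH.1]
    ring
  have hEE : P k E E = h * (h * P k D D - d ^ 2) := by
    rw [hlin E hEi, P_symm k hdim D E, P_symm k hdim H E, hlin D hD, hlin H hH.1,
      P_symm k hdim H D]
    ring
  have h1 : P k E E ≤ 0 := hodge_ample k hdim H hH E hEi hEH
  rw [hEE] at h1
  have h2 : h * P k D D - d ^ 2 ≤ 0 := by
    by_contra hc
    rw [not_le] at hc
    have := mul_pos hpos hc
    linarith
  linarith [mul_comm h (P k D D)]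

end Pair

end Groth.Agent.Lib.R2H4HodgeIneq
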