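import Mathlib
import Groth.Prelude
import Groth.Agent.Lib.R2H4FibTrivB
import Groth.Agent.Lib.R2H4FibTriv
import Groth.Agent.Lib.R2H4FieldBC
import Groth.Agent.Lib.R2H4NearFibre
import Groth.Agent.Lib.R2H4TrivInt
import Groth.Agent.Lib.R2H4InvExists

/-!
# The seesaw principle with `H¹(X_y, O) = 0`, and the Picard group of a product (helper4)

* `seesaw`: `f : X ⟶ S` proper flat of finite presentation with geometrically integral fibres and
  `H¹(X_y, O) = 0` for all `y`, `S` connected; an invertible module trivial on one fibre has invertible direct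
  image and `f^* f_* N ≅ N`;
* `subsingleton_fibre_H1`: `H¹` of the structure sheaf of the fibres of `S ×_k T ⟶ S` vanishes if `H¹(T, O) = 0`;
* `surj`, `inj`: `Pic S × Pic T ≅ Pic (S ×_k T)` (S7808).
-/

set_option autoImplicit false
set_option linter.style.haveILetI false
set_option linter.unusedSectionVars false
universe u
open CategoryTheory CategoryTheory.Limits AlgebraicGeometry TopologicalSpace Opposite
open AlgebraicGeometry.Scheme.Modules

noncomputable section

namespace Groth.Agent.Lib.R2H4PicProd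

open Groth.Agent.Lib.Helper23.SecTw Groth.Agent.Lib.Helper23.GenLocus
  Groth.Agent.Lib.Helper23.Extend Groth.Agent.Lib.Helper6 Groth.Agent.Helper13PullbackUnit
  Groth.Agent.Lib.Helper27PullGen Groth.Agent.Lib.Helper23.PB Groth.Agent.Lib.Helper23.GenNear
  Groth.Agent.Lib.R2H4TensorPows Groth.Agent.Lib.R2H4FibTriv

section Cancel

variable {X : Scheme.{u}}

/-- cancelling an invertible factor -/
def cancelIso (A A' B B' : X.Modules) (eB : CohB1.tensorMod B B' ≅ Coh.structureModule X)
    (e : CohB1.tensorMod A B ≅ CohB1.tensorMod A' B) : A ≅ A' :=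
  (rUnit A).symm ≪≫ tIso (Iso.refl A) eB.symm ≪≫ (tAssoc A B B').symm ≪≫ tIso e (Iso.refl B') ≪≫
    tAssoc A' B B' ≪≫ tIso (Iso.refl A') eB ≪≫ rUnit A'

theorem nonempty_iso_of_isGen_eq_top (L : X.Modules) (W : X.Opens) (e : Γ(L, W))
    (he : IsGen L W e) (hW : W = ⊤) : Nonempty (L ≅ Coh.structureModule X) := by
  subst hW
  exact Groth.Agent.Lib.Helper20.ParaFLib.nonempty_iso_of_triv_top L ⟨e, he⟩

end Cancel

section Seesaw

variable {X S : Scheme.{u}} (f : X ⟶ S)

/-- a generator over the preimage of an open of the base trivialises the module on the fibres over that open -/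
theorem fibre_trivial_of_isGen (N : X.Modules) [N.IsQuasicoherent] (U : S.Opens) (t : Γ(N, f ⁻¹ᵁ U))
    (ht : IsGen N (f ⁻¹ᵁ U) t) (y : S) (hy : y ∈ U) :
    Nonempty (CohIII.fiberMod f N y ≅ Coh.structureModule (f.fiber y)) := by
  have h := isGen_pullback (f.fiberι y) N (f ⁻¹ᵁ U) t ht
  refine nonempty_iso_of_isGen_eq_top _ _ _ h ?_
  ext z
  simp only [Opens.coe_top, Set.mem_univ, iff_true]
  have hz : (f.fiberι y) z ∈ f ⁻¹' {y} := by
    rw [← Scheme.Hom.range_fiberι]
    exact Set.mem_range_self z
  change f ((f.fiberι y) z) ∈ U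
  rw [show f ((f.fiberι y) z) = y from hz]
  exact hy

variable [IsProper f] [Flat f] [LocallyOfFinitePresentation f] [GeometricallyIntegral f]

/-- **seesaw with `H¹(X_y, O) = 0`**: over a connected base, an invertible module trivial on one fibre is trivial on
all fibres; its direct image is invertible and the counit is an isomorphism. -/
theorem seesaw [PreconnectedSpace S]
    (hH1 : ∀ y : S, Subsingleton (Coh.HH (f.fiber y) (Coh.structureModule (f.fiber y)) 1))
    (N : X.Modules) (hN : PicF.IsInvertible N) (y₀ : S)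
    (h₀ : Nonempty (CohIII.fiberMod f N y₀ ≅ Coh.structureModule (f.fiber y₀))) :
    PicF.IsInvertible ((pushforward f).obj N) ∧
      IsIso ((pullbackPushforwardAdjunction f).counit.app N) := by
  haveI : HasInjectiveResolutions X.Modules :=
    Groth.Agent.Lib.R2H3.RpushRestrict.hasInjectiveResolutions_modules X
  haveI : N.IsQuasicoherent := isQuasicoherent_of_isInvertible N hN
  have hfp : CohB1.IsFP N := Groth.Agent.Lib.Helper2.LocFree.isFP_of_isFinLocFree N
    (Groth.Agent.Helper18PBUnit.isFinLocFree_of_isInvertible hN)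
  have hfl : FlatMod.IsFlatOver f N := Groth.Agent.Lib.R2H4TrivInt.isFlatOver_of_isInvertible f N hN
  have hfV : ∀ V : S.Opens, IsIso (f.app V) := fun V =>
    Groth.Agent.Lib.H9CbH.main f (isIso_fiber_appTop f) V
  -- good neighbourhoods with generators around points with trivial fibre
  have hloc : ∀ y : S, Nonempty (CohIII.fiberMod f N y ≅ Coh.structureModule (f.fiber y)) →
      ∃ (U : S.Opens) (_ : y ∈ U) (t : Γ(N, f ⁻¹ᵁ U)), IsGen N (f ⁻¹ᵁ U) t := by
    rintro y ⟨efib⟩
    have h1' : Subsingleton (CohIII.fiberH f N y 1) :=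
      Groth.Agent.Lib.R2H2.PnSerre.subsingleton_HH_of_iso efib.symm 1 (hH1 y)
    obtain ⟨U, hyU, -, hgood⟩ :=
      Groth.Agent.Lib.R2H2.Bc0Bij.exists_nhd_push_of_fiberH_one f N hfp hfl y h1'
    obtain ⟨U', -, hyU', t, ht⟩ :=
      Groth.Agent.Lib.R2H4NearFibre.exists_nhd_isGen_of_good f N hN y U hyU hgood ⟨efib⟩
    exact ⟨U', hyU', t, ht⟩
  -- the locus of trivial fibres is clopen
  let Z : Set S := {y : S | Nonempty (CohIII.fiberMod f N y ≅ Coh.structureModule (f.fiber y))}
  have hcl : IsClosed Z :=
    Groth.Agent.Lib.R2H4TrivInt.isClosed_trivial_locus f (fun y => inferInstance) N hN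
  have hop : IsOpen Z := by
    rw [isOpen_iff_forall_mem_open]
    intro y hy
    obtain ⟨U, hyU, t, ht⟩ := hloc y hy
    exact ⟨U, fun y' hy' => fibre_trivial_of_isGen f N U t ht y' hy', U.2, hyU⟩
  have hZ : Z = Set.univ := IsClopen.eq_univ ⟨hcl, hop⟩ ⟨y₀, h₀⟩
  have htriv : ∀ y : S, Nonempty (CohIII.fiberMod f N y ≅ Coh.structureModule (f.fiber y)) := by
    intro y
    have : y ∈ Z := hZ ▸ Set.mem_univ y
    exact this
  exact push_invertible_of_local_gen f hfV N (fun y => hloc y (htriv y))

end Seesaw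

section FibreH1

variable (k : Type u) [Field k] {S T : Scheme.{u}} (s : S ⟶ Spec (CommRingCat.of k))
  (t : T ⟶ Spec (CommRingCat.of k)) [IsProper t]

/-- `H¹` of the structure sheaf of the fibres of `S ×_k T ⟶ S` vanishes when `H¹(T, O_T) = 0` -/
theorem subsingleton_fibre_H1 (h1 : Subsingleton (Coh.HH T (Coh.structureModule T) 1)) (y : S) :
    Subsingleton (Coh.HH ((pullback.fst s t).fiber y)
      (Coh.structureModule ((pullback.fst s t).fiber y)) 1) := by
  let f := pullback.fst s t
  let q := pullback.snd s t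
  let K := S.residueField y
  let φ : CommRingCat.of k ⟶ K := Spec.preimage (S.fromSpecResidueField y ≫ s)
  have hφ : Spec.map φ = S.fromSpecResidueField y ≫ s := Spec.map_preimage _
  letI : Algebra k K := φ.hom.toAlgebra
  letI : T.Over (Spec (CommRingCat.of k)) := ⟨t⟩
  letI : (f.fiber y).Over (Spec (CommRingCat.of K)) := ⟨f.fiberToSpecResidueField y⟩
  haveI : IsProper (T ↘ Spec (CommRingCat.of k)) := ‹IsProper t›
  let g : f.fiber y ⟶ T := f.fiberι y ≫ q
  have hpb1 : IsPullback (f.fiberι y) (f.fiberToSpecResidueField y) f (S.fromSpecResidueField y) :=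
    IsPullback.of_hasPullback f (S.fromSpecResidueField y)
  have hpb2 : IsPullback q f t s := (IsPullback.of_hasPullback s t).flip
  have hpb : IsPullback g ((f.fiber y) ↘ Spec (CommRingCat.of K)) (T ↘ Spec (CommRingCat.of k))
      (Spec.map (CommRingCat.ofHom (algebraMap k K))) := by
    have h := hpb1.paste_horiz hpb2
    rw [← hφ] at h
    exact h
  have hcoh : Coh.IsCoh (Coh.structureModule T) :=
    ⟨Groth.Agent.Lib.Helper23.Serre.isQuasicoherent_structureModule' T,
      Groth.Agent.Lib.R2H2.PnFinite.isFiniteType_structureModule T⟩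
  obtain ⟨e⟩ := Groth.Agent.Lib.R2H4FieldBC.fieldBC k K T (f.fiber y) g hpb
    (Coh.structureModule T) hcoh 1
  haveI : Subsingleton (TensorProduct k K (Coh.HH T (Coh.structureModule T) 1)) := by
    refine ⟨fun a b => ?_⟩
    induction a using TensorProduct.induction_on with
    | zero =>
      induction b using TensorProduct.induction_on with
      | zero => rfl
      | tmul x y => rw [Subsingleton.elim y 0, TensorProduct.tmul_zero]
      | add x y hx hy => rw [← hx, ← hy, add_zero]
    | tmul x y =>
      rw [Subsingleton.elim y 0, TensorProduct.tmul_zero]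
      induction b using TensorProduct.induction_on with
      | zero => rfl
      | tmul x y => rw [Subsingleton.elim y 0, TensorProduct.tmul_zero]
      | add x y hx hy => rw [← hx, ← hy, add_zero]
    | add x y hx hy =>
      have h0 : ∀ c : TensorProduct k K (Coh.HH T (Coh.structureModule T) 1), c = 0 := by
        intro c
        induction c using TensorProduct.induction_on with
        | zero => rfl
        | tmul x y => rw [Subsingleton.elim y 0, TensorProduct.tmul_zero]
        | add x y hx hy => rw [hx, hy, add_zero]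
      rw [h0 (x + y), h0 b]
  have h2 : Subsingleton (Coh.HH (f.fiber y)
      ((Scheme.Modules.pullback g).obj (Coh.structureModule T)) 1) :=
    e.symm.toEquiv.subsingleton
  exact Groth.Agent.Lib.R2H2.PnSerre.subsingleton_HH_of_iso (pullbackUnitIso g) 1 h2

end FibreH1

section Product

variable (k : Type u) [Field k] {S T : Scheme.{u}} (s : S ⟶ Spec (CommRingCat.of k))
  (t : T ⟶ Spec (CommRingCat.of k)) [IsProper t] [GeometricallyIntegral t]

/-- the residue field point at the image of a rational point factors through the rational point -/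
theorem fromSpecResidueField_rational (σ : Spec (CommRingCat.of k) ⟶ S) (hσ : σ ≫ s = 𝟙 _) :
    S.fromSpecResidueField (σ (IsLocalRing.closedPoint k)) =
      (S.fromSpecResidueField (σ (IsLocalRing.closedPoint k)) ≫ s) ≫ σ := by
  let y₀ := σ (IsLocalRing.closedPoint k)
  let ψ : S.residueField y₀ ⟶ CommRingCat.of k :=
    Scheme.descResidueField (Scheme.stalkClosedPointTo σ)
  have hψ : Spec.map ψ ≫ S.fromSpecResidueField y₀ = σ :=
    Scheme.descResidueField_stalkClosedPointTo_fromSpecResidueField k S σ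
  let φ : CommRingCat.of k ⟶ S.residueField y₀ := Spec.preimage (S.fromSpecResidueField y₀ ≫ s)
  have hφ : Spec.map φ = S.fromSpecResidueField y₀ ≫ s := Spec.map_preimage _
  have h1 : φ ≫ ψ = 𝟙 _ := by
    apply Spec.map_injective
    rw [Spec.map_comp, Spec.map_id, hφ, ← Category.assoc, hψ, hσ]
  haveI : Mono ψ := ConcreteCategory.mono_of_injective ψ (RingHom.injective ψ.hom)
  have h2 : ψ ≫ φ = 𝟙 _ := by
    rw [← cancel_mono ψ, Category.assoc, h1, Category.comp_id, Category.id_comp]
  calc S.fromSpecResidueField y₀ = Spec.map (ψ ≫ φ) ≫ S.fromSpecResidueField y₀ := by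
        rw [h2, Spec.map_id, Category.id_comp]
    _ = Spec.map φ ≫ σ := by rw [Spec.map_comp, Category.assoc, hψ]
    _ = (S.fromSpecResidueField y₀ ≫ s) ≫ σ := by rw [hφ]

/-- **surjectivity of `Pic S × Pic T ⟶ Pic (S ×_k T)`** -/
theorem surj (h1 : Subsingleton (Coh.HH T (Coh.structureModule T) 1)) [ConnectedSpace S]
    (σ : Spec (CommRingCat.of k) ⟶ S) (hσ : σ ≫ s = 𝟙 _)
    (N : (pullback s t).Modules) (hN : PicF.IsInvertible N) :
    ∃ (L : S.Modules) (M : T.Modules), PicF.IsInvertible L ∧ PicF.IsInvertible M ∧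
      Nonempty (N ≅ CohB1.tensorMod ((Scheme.Modules.pullback (pullback.fst s t)).obj L)
        ((Scheme.Modules.pullback (pullback.snd s t)).obj M)) := by
  haveI : Flat t := inferInstance
  haveI : LocallyOfFinitePresentation t := inferInstance
  let f := pullback.fst s t
  let q := pullback.snd s t
  haveI : IsProper f := inferInstance
  haveI : Flat f := inferInstance
  haveI : LocallyOfFinitePresentation f := inferInstance
  haveI : GeometricallyIntegral f :=
    MorphismProperty.pullback_fst (P := @GeometricallyIntegral) _ _ inferInstance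
  let j : T ⟶ pullback s t := pullback.lift (t ≫ σ) (𝟙 T)
    (by rw [Category.assoc, hσ, Category.comp_id, Category.id_comp])
  have hjf : j ≫ f = t ≫ σ := pullback.lift_fst _ _ _
  have hjq : j ≫ q = 𝟙 T := pullback.lift_snd _ _ _
  let M : T.Modules := (Scheme.Modules.pullback j).obj N
  have hM : PicF.IsInvertible M := isInvertible_pullback j N hN
  obtain ⟨M', hM', ⟨eM⟩⟩ := Groth.Agent.Lib.R2H4InvExists.exists_inverse M hM
  let N' : (pullback s t).Modules := CohB1.tensorMod N ((Scheme.Modules.pullback q).obj M')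
  have hN' : PicF.IsInvertible N' := isInvertible_tensorMod hN (isInvertible_pullback q M' hM')
  -- `j^* N'` is trivial
  have ej : (Scheme.Modules.pullback j).obj N' ≅ Coh.structureModule T :=
    Groth.Agent.Lib.Helper23.RestrTensor.pullbackTensorIso N ((Scheme.Modules.pullback q).obj M') j ≪≫
      tIso (Iso.refl M) ((Scheme.Modules.pullbackComp j q).app M' ≪≫
        (Scheme.Modules.pullbackCongr hjq).app M' ≪≫ (Scheme.Modules.pullbackId T).app M') ≪≫ eM
  -- the fibre over the rational point
  let y₀ : S := σ (IsLocalRing.closedPoint k)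
  let g₀ : f.fiber y₀ ⟶ T := f.fiberι y₀ ≫ q
  have hfac : f.fiberι y₀ = g₀ ≫ j := by
    apply pullback.hom_ext
    · change f.fiberι y₀ ≫ f = (g₀ ≫ j) ≫ f
      rw [Category.assoc, hjf]
      change f.fiberι y₀ ≫ f = (f.fiberι y₀ ≫ q) ≫ t ≫ σ
      rw [Category.assoc, ← Category.assoc q t σ, ← (pullback.condition : f ≫ s = q ≫ t)]
      have hc : f.fiberι y₀ ≫ f = f.fiberToSpecResidueField y₀ ≫ S.fromSpecResidueField y₀ :=
        pullback.condition
      rw [Category.assoc, ← Category.assoc (f.fiberι y₀) f, hc, Category.assoc]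
      congr 1
      rw [← Category.assoc]
      exact fromSpecResidueField_rational k s σ hσ
    · change f.fiberι y₀ ≫ q = (g₀ ≫ j) ≫ q
      rw [Category.assoc, hjq, Category.comp_id]
  have h₀ : Nonempty (CohIII.fiberMod f N' y₀ ≅ Coh.structureModule (f.fiber y₀)) :=
    ⟨(Scheme.Modules.pullbackCongr hfac).app N' ≪≫
      ((Scheme.Modules.pullbackComp g₀ j).app N').symm ≪≫
      (Scheme.Modules.pullback g₀).mapIso ej ≪≫ pullbackUnitIso g₀⟩
  obtain ⟨hinv, hcounit⟩ := seesaw f (subsingleton_fibre_H1 k s t h1) N' hN' y₀ h₀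
  haveI := hcounit
  refine ⟨(pushforward f).obj N', M, hinv, hM, ⟨?_⟩⟩
  have e1 : CohB1.tensorMod N' ((Scheme.Modules.pullback q).obj M) ≅ N :=
    tAssoc N ((Scheme.Modules.pullback q).obj M') ((Scheme.Modules.pullback q).obj M) ≪≫
      tIso (Iso.refl N) ((Groth.Agent.Lib.Helper23.RestrTensor.pullbackTensorIso M' M q).symm ≪≫
        (Scheme.Modules.pullback q).mapIso (tComm M' M ≪≫ eM) ≪≫ pullbackUnitIso q) ≪≫ rUnit N
  exact e1.symm ≪≫
    tIso (asIso ((pullbackPushforwardAdjunction f).counit.app N')).symm (Iso.refl _)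

/-- **injectivity of `Pic S × Pic T ⟶ Pic (S ×_k T)`** -/
theorem inj (σ : Spec (CommRingCat.of k) ⟶ S) (hσ : σ ≫ s = 𝟙 _)
    (L L' : S.Modules) (M M' : T.Modules) (hL : PicF.IsInvertible L) (hL' : PicF.IsInvertible L')
    (hM : PicF.IsInvertible M) (_hM' : PicF.IsInvertible M')
    (Φ : CohB1.tensorMod ((Scheme.Modules.pullback (pullback.fst s t)).obj L)
        ((Scheme.Modules.pullback (pullback.snd s t)).obj M) ≅
      CohB1.tensorMod ((Scheme.Modules.pullback (pullback.fst s t)).obj L')
        ((Scheme.Modules.pullback (pullback.snd s t)).obj M')) :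
    Nonempty (L ≅ L') ∧ Nonempty (M ≅ M') := by
  haveI : Flat t := inferInstance
  haveI : LocallyOfFinitePresentation t := inferInstance
  let f := pullback.fst s t
  let q := pullback.snd s t
  haveI : IsProper f := inferInstance
  haveI : Flat f := inferInstance
  haveI : LocallyOfFinitePresentation f := inferInstance
  haveI : GeometricallyIntegral f :=
    MorphismProperty.pullback_fst (P := @GeometricallyIntegral) _ _ inferInstance
  let j : T ⟶ pullback s t := pullback.lift (t ≫ σ) (𝟙 T)
    (by rw [Category.assoc, hσ, Category.comp_id, Category.id_comp])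
  have hjf : j ≫ f = t ≫ σ := pullback.lift_fst _ _ _
  have hjq : j ≫ q = 𝟙 T := pullback.lift_snd _ _ _
  haveI : Subsingleton ↥(Spec (CommRingCat.of k)) :=
    inferInstanceAs (Subsingleton (PrimeSpectrum k))
  haveI : Nonempty ↥(Spec (CommRingCat.of k)) :=
    inferInstanceAs (Nonempty (PrimeSpectrum k))
  -- `j^*(f^*A ⊗ q^*B) ≅ B` for invertible `A`
  have key : ∀ (A : S.Modules) (B : T.Modules), PicF.IsInvertible A →
      Nonempty ((Scheme.Modules.pullback j).obj
        (CohB1.tensorMod ((Scheme.Modules.pullback f).obj A) ((Scheme.Modules.pullback q).obj B)) ≅ B) := by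
    intro A B hA
    obtain ⟨eA⟩ := nonempty_iso_of_subsingleton ((Scheme.Modules.pullback σ).obj A)
      (isInvertible_pullback σ A hA)
    exact ⟨Groth.Agent.Lib.Helper23.RestrTensor.pullbackTensorIso _ _ j ≪≫
      tIso ((Scheme.Modules.pullbackComp j f).app A ≪≫ (Scheme.Modules.pullbackCongr hjf).app A ≪≫
          ((Scheme.Modules.pullbackComp t σ).app A).symm ≪≫
          (Scheme.Modules.pullback t).mapIso eA ≪≫ pullbackUnitIso t)
        ((Scheme.Modules.pullbackComp j q).app B ≪≫
          (Scheme.Modules.pullbackCongr hjq).app B ≪≫ (Scheme.Modules.pullbackId T).app B) ≪≫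
      lUnit B⟩
  obtain ⟨k1⟩ := key L M hL
  obtain ⟨k2⟩ := key L' M' hL'
  have eMM : M ≅ M' := k1.symm ≪≫ (Scheme.Modules.pullback j).mapIso Φ ≪≫ k2
  refine ⟨?_, ⟨eMM⟩⟩
  -- cancel `q^* M`
  obtain ⟨Mi, hMi, ⟨eMi⟩⟩ := Groth.Agent.Lib.R2H4InvExists.exists_inverse M hM
  have eB : CohB1.tensorMod ((Scheme.Modules.pullback q).obj M) ((Scheme.Modules.pullback q).obj Mi) ≅
      Coh.structureModule (pullback s t) :=
    (Groth.Agent.Lib.Helper23.RestrTensor.pullbackTensorIso M Mi q).symm ≪≫
      (Scheme.Modules.pullback q).mapIso eMi ≪≫ pullbackUnitIso q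
  have eLL : (Scheme.Modules.pullback f).obj L ≅ (Scheme.Modules.pullback f).obj L' :=
    cancelIso _ _ _ _ eB
      (Φ ≪≫ tIso (Iso.refl _) ((Scheme.Modules.pullback q).mapIso eMM.symm))
  have hfV : ∀ V : S.Opens, IsIso (f.app V) := fun V =>
    Groth.Agent.Lib.H9CbH.main f (isIso_fiber_appTop f) V
  haveI := isIso_unit_of_isInvertible f hfV L hL
  haveI := isIso_unit_of_isInvertible f hfV L' hL'
  exact ⟨asIso ((pullbackPushforwardAdjunction f).unit.app L) ≪≫ (pushforward f).mapIso eLL ≪≫
    (asIso ((pullbackPushforwardAdjunction f).unit.app L')).symm⟩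

end Product

end Groth.Agent.Lib.R2H4PicProd
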