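import Mathlib
import Groth.Prelude.Def_Omega3
import Groth.Agent.Lib.Helper20IdealModSec
import Groth.Agent.Lib.Helper20OmegaAff
import Groth.Agent.Lib.Helper18OmLS13
import Groth.Agent.Lib.Helper23FinType2

/-!
# Sections of an ideal sheaf module over affine opens, finiteness (helper3, round 2)

* `idealModEquiv` : `Γ(idealMod I, V) ≃ₗ I.ideal V` for `V` affine.
* `isFiniteType_idealMod` : if all the ideals `I.ideal V` are finitely generated, `idealMod I` is of finite type.
-/

set_option autoImplicit false
set_option linter.style.haveILetI false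
universe u
open CategoryTheory CategoryTheory.Limits AlgebraicGeometry TopologicalSpace Opposite

namespace Groth.Agent.Lib.R2H3.IdealModFin

variable {X : Scheme.{u}} (I : X.IdealSheafData)

theorem idealSect_mem (V : X.affineOpens) (s : Γ(ClSub.idealMod I, (V : X.Opens))) :
    OmegaSh.idealSect I V s ∈ I.ideal V := by
  rw [← I.ker_subschemeι_app V, RingHom.mem_ker]
  exact Groth.Agent.Lib.Helper20.IdealModSec.ι_toSubscheme I V s

theorem exists_idealSect_eq (V : X.affineOpens) (a : Γ(X, (V : X.Opens))) (ha : a ∈ I.ideal V) :
    ∃ s : Γ(ClSub.idealMod I, (V : X.Opens)), OmegaSh.idealSect I V s = a := by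
  rw [← I.ker_subschemeι_app V, RingHom.mem_ker] at ha
  exact Groth.Agent.Lib.Helper20.IdealModSec.exists_eq_ι I V a ha

/-- sections of the ideal module over an affine open are the ideal. -/
noncomputable def idealModEquiv (V : X.affineOpens) :
    Γ(ClSub.idealMod I, (V : X.Opens)) ≃ₗ[Γ(X, (V : X.Opens))] I.ideal V :=
  LinearEquiv.ofBijective
    { toFun := fun s => ⟨OmegaSh.idealSect I V s, idealSect_mem I V s⟩
      map_add' := fun s t => Subtype.ext (map_add _ s t)
      map_smul' := fun r s => Subtype.ext (Groth.Agent.Helper18OmLS.idealSect_smul I V r s) }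
    ⟨fun s t h => Groth.Agent.Helper18OmLS.idealSect_injective I V (congrArg Subtype.val h),
      fun a => by
        obtain ⟨s, hs⟩ := exists_idealSect_eq I V a.1 a.2
        exact ⟨s, Subtype.ext hs⟩⟩

/-- an ideal sheaf with finitely generated ideals on affine opens gives a module of finite type. -/
theorem isFiniteType_idealMod (h : ∀ V : X.affineOpens, (I.ideal V).FG) :
    SheafOfModules.IsFiniteType (R := X.ringCatSheaf) (ClSub.idealMod I) := by
  refine Groth.Agent.Lib.Helper23.FinType.isFiniteType_of_finite (ClSub.idealMod I)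
    (fun V : X.affineOpens => (V : X.Opens)) (iSup_affineOpens_eq_top X) (fun V => V.2) fun V => ?_
  haveI : Module.Finite Γ(X, (V : X.Opens)) (I.ideal V) := Module.Finite.of_fg (h V)
  exact Module.Finite.equiv (idealModEquiv I V).symm

end Groth.Agent.Lib.R2H3.IdealModFin
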