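import Mathlib
import Groth.Prelude
import Groth.Agent.Lib.R2H4PullIdealIso
import Groth.Agent.Lib.R2H4CurveOnSurf
import Groth.Agent.Lib.R2H4HodgeIneq
import Groth.Agent.Lib.R2H3ComapPow
import Groth.Agent.Lib.R2H4PicProd
import Groth.Agent.Lib.Helper6SepCl2
import Groth.Agent.Lib.Helper4ProdDim2
import Groth.Agent.Lib.R2H4CurveProj
import Groth.Agent.S9816
set_option backward.isDefEq.respectTransparency.types false

/-!
# Products of two curves and the Castelnuovo–Severi inequality (helper4, round 2)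

Namespace `Groth.Agent.Lib.R2H4ProdCurves`.

General (`S` a smooth proper integral surface over a field `k`):
* `inter_curve` : `(O(-C)·L⁻¹) = deg (L|_C)` with an arbitrary compatible `k`-structure on `C`;
* `fibre_ideal_iso` : for `p : S ⟶ B`, `σ` a rational point of the smooth proper curve `B` and
  `i : C ⟶ S` the fibre over `σ` (pull-back square), `p^* I_σ ≅ I_C`;
* `deg_pullback_ideal_section`, `deg_pullback_ideal_const` : degree of `j^* I_C` is `-1` for a section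
  `j` of `p`, and `0` for a curve contracted by `p` to `σ`;
* `deg_pullback_inverse` : `deg j^*A = - deg j^*A'` for `A ⊗ A' ≅ O`.

Product (`k` algebraically closed, `C₁`, `C₂` smooth proper curves):
* `surface_facts` : `C₁ × C₂` is proper, smooth, integral of dimension `2` and carries an ample module;
* `numbers` : `(ℓ₁·ℓ₁) = 0 = (ℓ₂·ℓ₂)`, `(ℓ₁·ℓ₂) = 1`, `(ℓ_j·D) = deg (D|_{ℓ_j})`;
* `quad_nonpos` : the Castelnuovo–Severi quadratic form is negative semi-definite (Hodge index);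
* `cs_int` : Cauchy–Schwarz for negative semi-definite integral binary quadratic forms.
-/

set_option autoImplicit false
set_option linter.style.haveILetI false
set_option linter.unusedSectionVars false
universe u

open CategoryTheory CategoryTheory.Limits AlgebraicGeometry TopologicalSpace Opposite

namespace Groth.Agent.Lib.R2H4ProdCurves

open Groth.Agent.Lib.R2H4TensorPows Groth.Agent.Lib.R2H4FGAAdd Groth.Agent.Lib.R2H4SurfPos
  Groth.Agent.Lib.R2H4SurfHyp Groth.Agent.Lib.R2H4SurfDual Groth.Agent.Lib.R2H4HodgeIdx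
  Groth.Agent.Lib.R2H4HodgeIneq

section Arith

/-- Cauchy–Schwarz for a negative semi-definite integral binary quadratic form -/
theorem cs_int (A B C : ℤ) (key : ∀ a b : ℤ, a ^ 2 * A + 2 * a * b * B + b ^ 2 * C ≤ 0) :
    B ^ 2 ≤ A * C := by
  have hA0 : A ≤ 0 := by have := key 1 0; nlinarith [this]
  have hC0 : C ≤ 0 := by have := key 0 1; nlinarith [this]
  rcases eq_or_lt_of_le hA0 with hA1 | hA1
  · -- `A = 0`
    have hB0 : B = 0 := by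
      by_contra hne
      have hpos : 0 < B ^ 2 := by positivity
      have h3 := key (1 - C) B
      rw [hA1] at h3
      nlinarith [h3, sq_nonneg B, sq_nonneg C, mul_nonneg (sq_nonneg B) (neg_nonneg.mpr hC0)]
    rw [hB0, hA1]; simp
  · have h1 := key B (-A)
    nlinarith [h1, sq_nonneg B, sq_nonneg A]

end Arith

section General

variable (k : Type u) [Field k] (S : Scheme.{u}) [S.Over (Spec (CommRingCat.of k))]
  [IsProper (S ↘ Spec (CommRingCat.of k))] [IsIntegral S] [Smooth (S ↘ Spec (CommRingCat.of k))]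

/-- `(O(-C) · L⁻¹) = deg (L|_C)` with an arbitrary compatible `k`-structure on the curve `C` -/
theorem inter_curve (hdim : topologicalKrullDim S = 2) (C : Scheme.{u})
    [instC : C.Over (Spec (CommRingCat.of k))] (i : C ⟶ S) [IsClosedImmersion i] [IsIntegral C]
    (hC : topologicalKrullDim C = 1)
    (hi : i ≫ (S ↘ Spec (CommRingCat.of k)) = (C ↘ Spec (CommRingCat.of k)))
    (L L' : S.Modules) (hL : PicF.IsInvertible L)
    (hLL' : Nonempty (CohB1.tensorMod L L' ≅ Coh.structureModule S)) :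
    FGA.intNum k S 2 ![ClSub.idealMod i.ker, L'] (Coh.structureModule S) =
      Curv2.deg k C ((Scheme.Modules.pullback i).obj L) 1 := by
  cases instC with
  | ofHom hom =>
    change i ≫ _ = hom at hi
    subst hi
    exact Groth.Agent.Lib.R2H4CurveOnSurf.main k S hdim C i hC L L' hL hLL'

/-- the ideal of a fibre over a rational point is the pull-back of the ideal of the point -/
theorem fibre_ideal_iso (hdim : topologicalKrullDim S = 2) (B : Scheme.{u})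
    [B.Over (Spec (CommRingCat.of k))] [IsProper (B ↘ Spec (CommRingCat.of k))] [IsIntegral B]
    [Smooth (B ↘ Spec (CommRingCat.of k))] (hB : topologicalKrullDim B = 1) (p : S ⟶ B)
    (σ : Spec (CommRingCat.of k) ⟶ B) (hσ : σ ≫ (B ↘ Spec (CommRingCat.of k)) = 𝟙 _)
    (C : Scheme.{u}) (q : C ⟶ Spec (CommRingCat.of k)) (i : C ⟶ S) [IsClosedImmersion i]
    [IsIntegral C] (hC : topologicalKrullDim C = 1) (hsq : IsPullback q i σ p) :
    Nonempty ((Scheme.Modules.pullback p).obj (ClSub.idealMod σ.ker) ≅ ClSub.idealMod i.ker) := by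
  haveI : IsClosedImmersion σ := by
    haveI : IsClosedImmersion (σ ≫ (B ↘ Spec (CommRingCat.of k))) := by rw [hσ]; infer_instance
    exact IsClosedImmersion.of_comp σ (B ↘ Spec (CommRingCat.of k))
  have hker : i.ker = σ.ker.comap p :=
    Groth.Agent.Lib.R2H3.ComapPow.ker_eq_comap_of_isPullback σ p q i hsq
  have hσC := (Groth.Agent.Lib.R2H1.TwistBC.section_facts k B hB σ hσ).1
  have h1 : PicF.IsInvertible (ClSub.idealMod σ.ker) :=
    Groth.Agent.Helper18Cart.isInvertible_of_isEffCartier _ hσC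
  have h2 : PicF.IsInvertible (ClSub.idealMod i.ker) :=
    Groth.Agent.Helper18Cart.isInvertible_of_isEffCartier _
      (Groth.Agent.Lib.R2H4CurveOnSurf.isEffCartier_ker k hdim i hC)
  rw [hker] at h2 ⊢
  exact Groth.Agent.Lib.R2H4PullIdealIso.nonempty_iso p σ.ker h1 h2

/-- the degree of the restriction of a fibre ideal to a section of the fibration is `-1` -/
theorem deg_pullback_ideal_section (B : Scheme.{u})
    [B.Over (Spec (CommRingCat.of k))] [IsProper (B ↘ Spec (CommRingCat.of k))] [IsIntegral B]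
    [Smooth (B ↘ Spec (CommRingCat.of k))] (hB : topologicalKrullDim B = 1) (p : S ⟶ B)
    (σ : Spec (CommRingCat.of k) ⟶ B) (hσ : σ ≫ (B ↘ Spec (CommRingCat.of k)) = 𝟙 _)
    (J : S.Modules) (e : (Scheme.Modules.pullback p).obj (ClSub.idealMod σ.ker) ≅ J)
    (j : B ⟶ S) (hj : j ≫ p = 𝟙 B) :
    Curv2.deg k B ((Scheme.Modules.pullback j).obj J) 1 = -1 := by
  obtain ⟨hσC, hQ1, -, -⟩ := Groth.Agent.Lib.R2H1.TwistBC.section_facts k B hB σ hσ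
  rw [Groth.Agent.Lib.R2H1.CurveAmple.deg_congr k B
    ((Scheme.Modules.pullback j).mapIso e.symm ≪≫
      (Scheme.Modules.pullbackComp j p).app _ ≪≫ (Scheme.Modules.pullbackCongr hj).app _ ≪≫
      (Scheme.Modules.pullbackId B).app _) 1]
  exact (Groth.Agent.Lib.R2H1.TwistBC.deg_idealMod k B hB σ.ker hσC hQ1).1

/-- the degree of the restriction of a fibre ideal to a curve contracted to the point is `0` -/
theorem deg_pullback_ideal_const (B : Scheme.{u})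
    [B.Over (Spec (CommRingCat.of k))] [IsProper (B ↘ Spec (CommRingCat.of k))] [IsIntegral B]
    [Smooth (B ↘ Spec (CommRingCat.of k))] (hB : topologicalKrullDim B = 1) (p : S ⟶ B)
    (σ : Spec (CommRingCat.of k) ⟶ B) (hσ : σ ≫ (B ↘ Spec (CommRingCat.of k)) = 𝟙 _)
    (J : S.Modules) (e : (Scheme.Modules.pullback p).obj (ClSub.idealMod σ.ker) ≅ J)
    (C' : Scheme.{u}) [C'.Over (Spec (CommRingCat.of k))]
    [IsProper (C' ↘ Spec (CommRingCat.of k))] [IsIntegral C']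
    (j : C' ⟶ S) (hj : j ≫ p = (C' ↘ Spec (CommRingCat.of k)) ≫ σ) :
    Curv2.deg k C' ((Scheme.Modules.pullback j).obj J) 1 = 0 := by
  obtain ⟨hσC, -, -, -⟩ := Groth.Agent.Lib.R2H1.TwistBC.section_facts k B hB σ hσ
  have h1 : PicF.IsInvertible (ClSub.idealMod σ.ker) :=
    Groth.Agent.Helper18Cart.isInvertible_of_isEffCartier _ hσC
  haveI : Subsingleton ↥(Spec (CommRingCat.of k)) :=
    inferInstanceAs (Subsingleton (PrimeSpectrum k))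
  haveI : Nonempty ↥(Spec (CommRingCat.of k)) :=
    inferInstanceAs (Nonempty (PrimeSpectrum k))
  obtain ⟨eA⟩ := Groth.Agent.Lib.R2H4FibTriv.nonempty_iso_of_subsingleton
    ((Scheme.Modules.pullback σ).obj (ClSub.idealMod σ.ker))
    (Groth.Agent.Lib.Helper23.PB.isInvertible_pullback σ _ h1)
  rw [Groth.Agent.Lib.R2H1.CurveAmple.deg_congr k C'
    ((Scheme.Modules.pullback j).mapIso e.symm ≪≫
      (Scheme.Modules.pullbackComp j p).app _ ≪≫ (Scheme.Modules.pullbackCongr hj).app _ ≪≫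
      ((Scheme.Modules.pullbackComp (C' ↘ Spec (CommRingCat.of k)) σ).app _).symm ≪≫
      (Scheme.Modules.pullback (C' ↘ Spec (CommRingCat.of k))).mapIso eA ≪≫
      Groth.Agent.Lib.Helper23.PB.pullbackUnitIso (C' ↘ Spec (CommRingCat.of k))) 1]
  unfold Curv2.deg
  push_cast
  ring

/-- the degrees of the restrictions of inverse invertible modules are opposite -/
theorem deg_pullback_inverse (C' : Scheme.{u}) [C'.Over (Spec (CommRingCat.of k))]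
    [IsProper (C' ↘ Spec (CommRingCat.of k))] [IsIntegral C'] (hC' : topologicalKrullDim C' = 1)
    (j : C' ⟶ S) (A A' : S.Modules) (hA : PicF.IsInvertible A)
    (e : CohB1.tensorMod A A' ≅ Coh.structureModule S) :
    Curv2.deg k C' ((Scheme.Modules.pullback j).obj A) 1 =
      - Curv2.deg k C' ((Scheme.Modules.pullback j).obj A') 1 := by
  have hA' : PicF.IsInvertible A' :=
    Groth.Agent.Lib.R2H4FibTriv.isInvertible_of_inverse A A' hA e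
  have hjA := Groth.Agent.Lib.Helper23.PB.isInvertible_pullback j A hA
  have hjA' := Groth.Agent.Lib.Helper23.PB.isInvertible_pullback j A' hA'
  have e7 := Groth.Agent.Lib.R2H1.GenusZeroPic.deg_tensor k C' hC' _ _ hjA hjA'
  have e8 : Curv2.deg k C' (CohB1.tensorMod ((Scheme.Modules.pullback j).obj A)
      ((Scheme.Modules.pullback j).obj A')) 1 = 0 := by
    rw [Groth.Agent.Lib.R2H1.CurveAmple.deg_congr k C'
      ((Groth.Agent.Lib.Helper23.RestrTensor.pullbackTensorIso A A' j).symm ≪≫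
        (Scheme.Modules.pullback j).mapIso e ≪≫ Groth.Agent.Lib.Helper23.PB.pullbackUnitIso j) 1]
    unfold Curv2.deg
    ring
  linarith

end General

section Product

variable (k : Type u) [Field k] [IsAlgClosed k] (C₁ C₂ : Scheme.{u})
  [C₁.Over (Spec (CommRingCat.of k))] [C₂.Over (Spec (CommRingCat.of k))]

/-- the product of two smooth proper curves over an algebraically closed field is a smooth proper
integral surface carrying an ample invertible module -/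
theorem surface_facts
    (h₁ : Curve.IsSmoothProperCurve k C₁ (C₁ ↘ Spec (CommRingCat.of k)))
    (h₂ : Curve.IsSmoothProperCurve k C₂ (C₂ ↘ Spec (CommRingCat.of k))) :
    letI : (pullback (C₁ ↘ Spec (CommRingCat.of k)) (C₂ ↘ Spec (CommRingCat.of k))).Over
        (Spec (CommRingCat.of k)) := ⟨pullback.fst _ _ ≫ (C₁ ↘ Spec (CommRingCat.of k))⟩
    IsProper ((pullback (C₁ ↘ Spec (CommRingCat.of k)) (C₂ ↘ Spec (CommRingCat.of k))) ↘
        Spec (CommRingCat.of k)) ∧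
      Smooth ((pullback (C₁ ↘ Spec (CommRingCat.of k)) (C₂ ↘ Spec (CommRingCat.of k))) ↘
        Spec (CommRingCat.of k)) ∧
      IsIntegral (pullback (C₁ ↘ Spec (CommRingCat.of k)) (C₂ ↘ Spec (CommRingCat.of k))) ∧
      topologicalKrullDim ((pullback (C₁ ↘ Spec (CommRingCat.of k))
        (C₂ ↘ Spec (CommRingCat.of k)) : Scheme.{u})) = 2 ∧
      ∃ H : (pullback (C₁ ↘ Spec (CommRingCat.of k)) (C₂ ↘ Spec (CommRingCat.of k))).Modules,
        CohB1.IsAmple H := by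
  obtain ⟨hp₁, hs₁, hi₁, hd₁⟩ := h₁
  obtain ⟨hp₂, hs₂, hi₂, hd₂⟩ := h₂
  letI : (pullback (C₁ ↘ Spec (CommRingCat.of k)) (C₂ ↘ Spec (CommRingCat.of k))).Over
      (Spec (CommRingCat.of k)) := ⟨pullback.fst _ _ ≫ (C₁ ↘ Spec (CommRingCat.of k))⟩
  refine ⟨?_, ?_, ?_, ?_, ?_⟩
  · exact inferInstanceAs (IsProper (pullback.fst (C₁ ↘ Spec (CommRingCat.of k))
      (C₂ ↘ Spec (CommRingCat.of k)) ≫ (C₁ ↘ Spec (CommRingCat.of k))))
  · exact inferInstanceAs (Smooth (pullback.fst (C₁ ↘ Spec (CommRingCat.of k))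
      (C₂ ↘ Spec (CommRingCat.of k)) ≫ (C₁ ↘ Spec (CommRingCat.of k))))
  · exact Groth.Agent.Lib.Helper6.SepCl.isIntegral_pullback_of_isAlgClosed k C₁ C₂ _ _
  · rw [Groth.Agent.Lib.Helper4.ProdDim.topologicalKrullDim_pullback_eq_add k, hd₁, hd₂]
    rfl
  · obtain ⟨A₁, hA₁⟩ := Groth.Agent.Lib.R2H4CurveProj.exists_isAmple k C₁ hd₁.le
    obtain ⟨A₂, hA₂⟩ := Groth.Agent.Lib.R2H4CurveProj.exists_isAmple k C₂ hd₂.le
    exact ⟨_, Groth.Agent.S9816.result (C₁ ↘ Spec (CommRingCat.of k))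
      (C₂ ↘ Spec (CommRingCat.of k)) A₁ A₂ hA₁ hA₂⟩

local notation "𝕜" => Spec (CommRingCat.of k)
local notation "𝕊" => pullback (C₁ ↘ Spec (CommRingCat.of k)) (C₂ ↘ Spec (CommRingCat.of k))

/-- the intersection numbers of the two rulings of `C₁ × C₂` -/
theorem numbers
    (h₁ : Curve.IsSmoothProperCurve k C₁ (C₁ ↘ 𝕜))
    (h₂ : Curve.IsSmoothProperCurve k C₂ (C₂ ↘ 𝕜))
    (x : 𝕜 ⟶ C₁) (hx : x ≫ (C₁ ↘ 𝕜) = 𝟙 _)
    (y : 𝕜 ⟶ C₂) (hy : y ≫ (C₂ ↘ 𝕜) = 𝟙 _)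
    (i₁ : C₁ ⟶ 𝕊)
    (hi₁ : i₁ ≫ pullback.fst _ _ = 𝟙 C₁ ∧ i₁ ≫ pullback.snd _ _ = (C₁ ↘ 𝕜) ≫ y)
    (i₂ : C₂ ⟶ 𝕊)
    (hi₂ : i₂ ≫ pullback.snd _ _ = 𝟙 C₂ ∧ i₂ ≫ pullback.fst _ _ = (C₂ ↘ 𝕜) ≫ x) :
    letI : (𝕊).Over 𝕜 := ⟨pullback.fst _ _ ≫ (C₁ ↘ 𝕜)⟩
    PicF.IsInvertible (ClSub.idealMod i₁.ker) ∧ PicF.IsInvertible (ClSub.idealMod i₂.ker) ∧
      (∀ L M : (𝕊).Modules,
        PicF.IsInvertible L → Nonempty (CohB1.tensorMod L M ≅ Coh.structureModule _) →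
        FGA.intNum k 𝕊 2 ![ClSub.idealMod i₁.ker, M] (Coh.structureModule _) =
            Curv2.deg k C₁ ((Scheme.Modules.pullback i₁).obj L) 1 ∧
          FGA.intNum k 𝕊 2 ![ClSub.idealMod i₂.ker, M] (Coh.structureModule _) =
            Curv2.deg k C₂ ((Scheme.Modules.pullback i₂).obj L) 1) ∧
      FGA.intNum k 𝕊 2 ![ClSub.idealMod i₁.ker, ClSub.idealMod i₁.ker] (Coh.structureModule _) = 0 ∧
      FGA.intNum k 𝕊 2 ![ClSub.idealMod i₁.ker, ClSub.idealMod i₂.ker] (Coh.structureModule _) = 1 ∧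
      FGA.intNum k 𝕊 2 ![ClSub.idealMod i₂.ker, ClSub.idealMod i₂.ker] (Coh.structureModule _) = 0 := by
  obtain ⟨hP, hSm, hInt, hdim, -⟩ := surface_facts k C₁ C₂ h₁ h₂
  obtain ⟨hp₁, hs₁, hint₁, hd₁⟩ := h₁
  obtain ⟨hp₂, hs₂, hint₂, hd₂⟩ := h₂
  letI : (𝕊).Over 𝕜 := ⟨pullback.fst _ _ ≫ (C₁ ↘ 𝕜)⟩
  haveI := hP
  haveI := hSm
  haveI := hInt
  haveI : IsClosedImmersion i₁ := by
    haveI : IsClosedImmersion (i₁ ≫ pullback.fst (C₁ ↘ 𝕜) (C₂ ↘ 𝕜)) := by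
      rw [hi₁.1]; infer_instance
    exact IsClosedImmersion.of_comp i₁ (pullback.fst (C₁ ↘ 𝕜) (C₂ ↘ 𝕜))
  haveI : IsClosedImmersion i₂ := by
    haveI : IsClosedImmersion (i₂ ≫ pullback.snd (C₁ ↘ 𝕜) (C₂ ↘ 𝕜)) := by
      rw [hi₂.1]; infer_instance
    exact IsClosedImmersion.of_comp i₂ (pullback.snd (C₁ ↘ 𝕜) (C₂ ↘ 𝕜))
  -- the two fibre squares
  have sq₁ : IsPullback (C₁ ↘ 𝕜) i₁ y (pullback.snd (C₁ ↘ 𝕜) (C₂ ↘ 𝕜)) := by
    have hout : IsPullback (i₁ ≫ pullback.fst (C₁ ↘ 𝕜) (C₂ ↘ 𝕜)) (C₁ ↘ 𝕜)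
        (C₁ ↘ 𝕜) (y ≫ (C₂ ↘ 𝕜)) := by
      rw [hi₁.1, hy]
      exact IsPullback.id_horiz _
    exact (IsPullback.of_right hout hi₁.2 (IsPullback.of_hasPullback _ _)).flip
  have sq₂ : IsPullback (C₂ ↘ 𝕜) i₂ x (pullback.fst (C₁ ↘ 𝕜) (C₂ ↘ 𝕜)) := by
    have hout : IsPullback (i₂ ≫ pullback.snd (C₁ ↘ 𝕜) (C₂ ↘ 𝕜)) (C₂ ↘ 𝕜)
        (C₂ ↘ 𝕜) (x ≫ (C₁ ↘ 𝕜)) := by
      rw [hi₂.1, hx]
      exact IsPullback.id_horiz _
    exact (IsPullback.of_right hout hi₂.2 (IsPullback.of_hasPullback _ _).flip).flip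
  obtain ⟨e₁⟩ := fibre_ideal_iso k 𝕊 hdim C₂ hd₂ (pullback.snd (C₁ ↘ 𝕜) (C₂ ↘ 𝕜)) y hy C₁ _ i₁ hd₁ sq₁
  obtain ⟨e₂⟩ := fibre_ideal_iso k 𝕊 hdim C₁ hd₁ (pullback.fst (C₁ ↘ 𝕜) (C₂ ↘ 𝕜)) x hx C₂ _ i₂ hd₂ sq₂
  have hJ₁ : PicF.IsInvertible (ClSub.idealMod i₁.ker) :=
    Groth.Agent.Helper18Cart.isInvertible_of_isEffCartier _
      (Groth.Agent.Lib.R2H4CurveOnSurf.isEffCartier_ker k hdim i₁ hd₁)
  have hJ₂ : PicF.IsInvertible (ClSub.idealMod i₂.ker) :=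
    Groth.Agent.Helper18Cart.isInvertible_of_isEffCartier _
      (Groth.Agent.Lib.R2H4CurveOnSurf.isEffCartier_ker k hdim i₂ hd₂)
  have hc₁ : i₁ ≫ ((𝕊) ↘ 𝕜) = (C₁ ↘ 𝕜) := by
    change i₁ ≫ pullback.fst (C₁ ↘ 𝕜) (C₂ ↘ 𝕜) ≫ _ = _
    rw [← Category.assoc, hi₁.1, Category.id_comp]
  have hc₂ : i₂ ≫ ((𝕊) ↘ 𝕜) = (C₂ ↘ 𝕜) := by
    change i₂ ≫ pullback.fst (C₁ ↘ 𝕜) (C₂ ↘ 𝕜) ≫ _ = _
    rw [← Category.assoc, hi₂.2, Category.assoc, hx, Category.comp_id]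
  have hc : ∀ L M : (𝕊).Modules, PicF.IsInvertible L →
      Nonempty (CohB1.tensorMod L M ≅ Coh.structureModule 𝕊) →
      FGA.intNum k 𝕊 2 ![ClSub.idealMod i₁.ker, M] (Coh.structureModule 𝕊) =
          Curv2.deg k C₁ ((Scheme.Modules.pullback i₁).obj L) 1 ∧
        FGA.intNum k 𝕊 2 ![ClSub.idealMod i₂.ker, M] (Coh.structureModule 𝕊) =
          Curv2.deg k C₂ ((Scheme.Modules.pullback i₂).obj L) 1 := fun L M hL hM =>
    ⟨inter_curve k 𝕊 hdim C₁ i₁ hd₁ hc₁ L M hL hM, inter_curve k 𝕊 hdim C₂ i₂ hd₂ hc₂ L M hL hM⟩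
  obtain ⟨L₁, hL₁, ⟨f₁⟩⟩ := Groth.Agent.Lib.R2H4InvExists.exists_inverse _ hJ₁
  obtain ⟨L₂, hL₂, ⟨f₂⟩⟩ := Groth.Agent.Lib.R2H4InvExists.exists_inverse _ hJ₂
  have g₁ : CohB1.tensorMod L₁ (ClSub.idealMod i₁.ker) ≅ Coh.structureModule 𝕊 := tComm _ _ ≪≫ f₁
  have g₂ : CohB1.tensorMod L₂ (ClSub.idealMod i₂.ker) ≅ Coh.structureModule 𝕊 := tComm _ _ ≪≫ f₂
  refine ⟨hJ₁, hJ₂, hc, ?_, ?_, ?_⟩
  · rw [(hc L₁ _ hL₁ ⟨g₁⟩).1, deg_pullback_inverse k 𝕊 C₁ hd₁ i₁ L₁ _ hL₁ g₁,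
      deg_pullback_ideal_const k 𝕊 C₂ hd₂ (pullback.snd (C₁ ↘ 𝕜) (C₂ ↘ 𝕜)) y hy _ e₁ C₁ i₁ hi₁.2]
    rfl
  · rw [(hc L₂ _ hL₂ ⟨g₂⟩).1, deg_pullback_inverse k 𝕊 C₁ hd₁ i₁ L₂ _ hL₂ g₂,
      deg_pullback_ideal_section k 𝕊 C₁ hd₁ (pullback.fst (C₁ ↘ 𝕜) (C₂ ↘ 𝕜)) x hx _ e₂ i₁ hi₁.1]
    rfl
  · rw [(hc L₂ _ hL₂ ⟨g₂⟩).2, deg_pullback_inverse k 𝕊 C₂ hd₂ i₂ L₂ _ hL₂ g₂,
      deg_pullback_ideal_const k 𝕊 C₁ hd₁ (pullback.fst (C₁ ↘ 𝕜) (C₂ ↘ 𝕜)) x hx _ e₂ C₂ i₂ hi₂.2]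
    rfl

/-- **Castelnuovo–Severi, quadratic form**: on `C₁ × C₂` the form
`a² ((D·D) − 2 d₁ d₂) + 2ab ((D·D') − d₁ d₂' − d₂ d₁') + b² ((D'·D') − 2 d₁' d₂')` is `≤ 0` -/
theorem quad_nonpos
    (h₁ : Curve.IsSmoothProperCurve k C₁ (C₁ ↘ 𝕜))
    (h₂ : Curve.IsSmoothProperCurve k C₂ (C₂ ↘ 𝕜))
    (x : 𝕜 ⟶ C₁) (hx : x ≫ (C₁ ↘ 𝕜) = 𝟙 _)
    (y : 𝕜 ⟶ C₂) (hy : y ≫ (C₂ ↘ 𝕜) = 𝟙 _)
    (i₁ : C₁ ⟶ 𝕊)
    (hi₁ : i₁ ≫ pullback.fst _ _ = 𝟙 C₁ ∧ i₁ ≫ pullback.snd _ _ = (C₁ ↘ 𝕜) ≫ y)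
    (i₂ : C₂ ⟶ 𝕊)
    (hi₂ : i₂ ≫ pullback.snd _ _ = 𝟙 C₂ ∧ i₂ ≫ pullback.fst _ _ = (C₂ ↘ 𝕜) ≫ x)
    (L M L' M' : (𝕊).Modules)
    (hL : PicF.IsInvertible L) (hM : Nonempty (CohB1.tensorMod L M ≅ Coh.structureModule _))
    (hL' : PicF.IsInvertible L') (hM' : Nonempty (CohB1.tensorMod L' M' ≅ Coh.structureModule _))
    (a b : ℤ) :
    letI : (𝕊).Over 𝕜 := ⟨pullback.fst _ _ ≫ (C₁ ↘ 𝕜)⟩
    a ^ 2 * (FGA.intNum k 𝕊 2 ![M, M] (Coh.structureModule _)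
          - 2 * Curv2.deg k C₁ ((Scheme.Modules.pullback i₁).obj L) 1
            * Curv2.deg k C₂ ((Scheme.Modules.pullback i₂).obj L) 1)
      + 2 * a * b * (FGA.intNum k 𝕊 2 ![M, M'] (Coh.structureModule _)
          - Curv2.deg k C₁ ((Scheme.Modules.pullback i₁).obj L) 1
            * Curv2.deg k C₂ ((Scheme.Modules.pullback i₂).obj L') 1
          - Curv2.deg k C₂ ((Scheme.Modules.pullback i₂).obj L) 1
            * Curv2.deg k C₁ ((Scheme.Modules.pullback i₁).obj L') 1)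
      + b ^ 2 * (FGA.intNum k 𝕊 2 ![M', M'] (Coh.structureModule _)
          - 2 * Curv2.deg k C₁ ((Scheme.Modules.pullback i₁).obj L') 1
            * Curv2.deg k C₂ ((Scheme.Modules.pullback i₂).obj L') 1) ≤ 0 := by
  obtain ⟨hP, hSm, hInt, hdim, H, hH⟩ := surface_facts k C₁ C₂ h₁ h₂
  obtain ⟨hJ₁, hJ₂, hc, n11, n12, n22⟩ := numbers k C₁ C₂ h₁ h₂ x hx y hy i₁ hi₁ i₂ hi₂
  letI : (𝕊).Over 𝕜 := ⟨pullback.fst _ _ ≫ (C₁ ↘ 𝕜)⟩
  haveI := hP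
  haveI := hSm
  haveI := hInt
  obtain ⟨eLM⟩ := hM
  obtain ⟨eLM'⟩ := hM'
  have hMi : PicF.IsInvertible M := Groth.Agent.Lib.R2H4FibTriv.isInvertible_of_inverse L M hL eLM
  have hMi' : PicF.IsInvertible M' :=
    Groth.Agent.Lib.R2H4FibTriv.isInvertible_of_inverse L' M' hL' eLM'
  have eM : CohB1.tensorMod M L ≅ Coh.structureModule 𝕊 := tComm _ _ ≪≫ eLM
  have eM' : CohB1.tensorMod M' L' ≅ Coh.structureModule 𝕊 := tComm _ _ ≪≫ eLM'
  obtain ⟨L₁, hL₁, ⟨f₁⟩⟩ := Groth.Agent.Lib.R2H4InvExists.exists_inverse _ hJ₁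
  obtain ⟨L₂, hL₂, ⟨f₂⟩⟩ := Groth.Agent.Lib.R2H4InvExists.exists_inverse _ hJ₂
  set J₁ := ClSub.idealMod i₁.ker with hJ₁def
  set J₂ := ClSub.idealMod i₂.ker with hJ₂def
  set d₁ := Curv2.deg k C₁ ((Scheme.Modules.pullback i₁).obj L) 1 with hd₁
  set d₂ := Curv2.deg k C₂ ((Scheme.Modules.pullback i₂).obj L) 1 with hd₂
  set d₁' := Curv2.deg k C₁ ((Scheme.Modules.pullback i₁).obj L') 1 with hd₁'
  set d₂' := Curv2.deg k C₂ ((Scheme.Modules.pullback i₂).obj L') 1 with hd₂'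
  -- the numbers, in terms of `P`
  have p11 : P k J₁ J₁ = 0 := n11
  have p12 : P k J₁ J₂ = 1 := n12
  have p22 : P k J₂ J₂ = 0 := n22
  have p21 : P k J₂ J₁ = 1 := by rw [P_symm k hdim]; exact p12
  have q1 : P k J₁ M = d₁ := (hc L M hL ⟨eLM⟩).1
  have q2 : P k J₂ M = d₂ := (hc L M hL ⟨eLM⟩).2
  have q1' : P k J₁ M' = d₁' := (hc L' M' hL' ⟨eLM'⟩).1
  have q2' : P k J₂ M' = d₂' := (hc L' M' hL' ⟨eLM'⟩).2
  have r1 : P k M J₁ = d₁ := by rw [P_symm k hdim]; exact q1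
  have r2 : P k M J₂ = d₂ := by rw [P_symm k hdim]; exact q2
  have r1' : P k M' J₁ = d₁' := by rw [P_symm k hdim]; exact q1'
  have r2' : P k M' J₂ = d₂' := by rw [P_symm k hdim]; exact q2'
  -- the combination
  set α : ℤ := -(a * d₂ + b * d₂') with hα
  set β : ℤ := -(a * d₁ + b * d₁') with hβ
  set G := CohB1.tensorMod (zp M L a) (zp M' L' b) with hG
  set F := CohB1.tensorMod (zp J₁ L₁ α) (zp J₂ L₂ β) with hF
  have hGi : PicF.IsInvertible G := isInvertible_comb M L M' L' hMi hMi' eM eM' a b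
  have hFi : PicF.IsInvertible F := isInvertible_comb J₁ L₁ J₂ L₂ hJ₁ hJ₂ f₁ f₂ α β
  obtain ⟨G', -, ⟨eG⟩⟩ := Groth.Agent.Lib.R2H4InvExists.exists_inverse G hGi
  obtain ⟨F', -, ⟨eF⟩⟩ := Groth.Agent.Lib.R2H4InvExists.exists_inverse F hFi
  set E := CohB1.tensorMod (zp G G' 1) (zp F F' 1) with hE
  have hEi : PicF.IsInvertible E := isInvertible_comb G G' F F' hGi hFi eG eF 1 1
  have lin : ∀ C : (𝕊).Modules, PicF.IsInvertible C →
      P k E C = a * P k M C + b * P k M' C + α * P k J₁ C + β * P k J₂ C := by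
    intro C hC
    rw [hE, P_comb k hdim G G' F F' hGi hFi eG eF 1 1 C hC, hG,
      P_comb k hdim M L M' L' hMi hMi' eM eM' a b C hC, hF,
      P_comb k hdim J₁ L₁ J₂ L₂ hJ₁ hJ₂ f₁ f₂ α β C hC]
    ring
  set Lh := CohB1.tensorMod (zp J₁ L₁ 1) (zp J₂ L₂ 1) with hLh
  have hLhi : PicF.IsInvertible Lh := isInvertible_comb J₁ L₁ J₂ L₂ hJ₁ hJ₂ f₁ f₂ 1 1
  have linh : ∀ C : (𝕊).Modules, PicF.IsInvertible C → P k Lh C = P k J₁ C + P k J₂ C := by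
    intro C hC
    rw [hLh, P_comb k hdim J₁ L₁ J₂ L₂ hJ₁ hJ₂ f₁ f₂ 1 1 C hC]
    ring
  have eJ₁ : P k E J₁ = a * d₁ + b * d₁' + β := by
    rw [lin J₁ hJ₁, r1, r1', p11, p21]; ring
  have eJ₂ : P k E J₂ = a * d₂ + b * d₂' + α := by
    rw [lin J₂ hJ₂, r2, r2', p12, p22]; ring
  have hpos : 0 < P k Lh Lh := by
    rw [linh Lh hLhi, P_symm k hdim J₁ Lh, P_symm k hdim J₂ Lh, linh J₁ hJ₁, linh J₂ hJ₂,
      p11, p21, p12, p22]
    norm_num
  have horth : P k Lh E = 0 := by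
    rw [linh E hEi, P_symm k hdim J₁ E, P_symm k hdim J₂ E, eJ₁, eJ₂, hα, hβ]
    ring
  have hneg : P k E E ≤ 0 := hodge_index k hdim H hH Lh E hLhi hEi hpos horth
  have eMM : P k E M = a * P k M M + b * P k M M' + α * d₁ + β * d₂ := by
    rw [lin M hMi, q1, q2, P_symm k hdim M' M]
  have eMM' : P k E M' = a * P k M M' + b * P k M' M' + α * d₁' + β * d₂' := by
    rw [lin M' hMi', q1', q2']
  have eEE : P k E E = a * P k E M + b * P k E M' + α * P k E J₁ + β * P k E J₂ := by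
    rw [lin E hEi, P_symm k hdim M E, P_symm k hdim M' E, P_symm k hdim J₁ E, P_symm k hdim J₂ E]
  rw [eEE, eMM, eMM', eJ₁, eJ₂, hα, hβ] at hneg
  change a ^ 2 * (P k M M - 2 * d₁ * d₂) + 2 * a * b * (P k M M' - d₁ * d₂' - d₂ * d₁') +
    b ^ 2 * (P k M' M' - 2 * d₁' * d₂') ≤ 0
  nlinarith [hneg]

end Product

end Groth.Agent.Lib.R2H4ProdCurves
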