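import Mathlib
import Groth.Prelude
import Groth.Agent.Lib.R2H4GenSmooth
import Groth.Agent.Lib.R2H4ProdCurves
import Groth.Agent.Lib.R2H1IsoP1
import Groth.Agent.Lib.R2H1IsoP1D
import Groth.Agent.Lib.R2H3DualCount
set_option backward.isDefEq.respectTransparency.types false

/-!
# Ruled surfaces: intersection numbers of a section and a fibre (helper4, round 2)

Namespace `Groth.Agent.Lib.R2H4Ruled`.

* `perfectField_functionField` : the function field of `Spec k` is perfect for `k` perfect;
* `smooth_of_regular` : a regular scheme of finite type over a perfect field is smooth;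
* `ruled_numbers` : for `π : X ⟶ C` from a regular projective integral surface to a regular proper
  integral curve over an algebraically closed field, with a section `σ`, and a closed point `y`
  whose fibre is isomorphic to `P¹`: `(I_{σ(C)} · I_f) = 1` and `(I_f · I_f) = 0`.
-/

set_option autoImplicit false
set_option linter.style.haveILetI false
set_option linter.unusedSectionVars false
universe u
open CategoryTheory CategoryTheory.Limits AlgebraicGeometry TopologicalSpace Opposite

namespace Groth.Agent.Lib.R2H4Ruled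

/-- the function field of the spectrum of a perfect field is perfect -/
theorem perfectField_functionField (k : Type u) [Field k] [PerfectField k] :
    PerfectField (Spec (CommRingCat.of k)).functionField := by
  have hU : IsAffineOpen (⊤ : (Spec (CommRingCat.of k)).Opens) := isAffineOpen_top _
  haveI : Nonempty ↥(Spec (CommRingCat.of k)) := inferInstanceAs (Nonempty (PrimeSpectrum k))
  haveI : Nonempty (⊤ : (Spec (CommRingCat.of k)).Opens) := ⟨⟨Classical.arbitrary _, trivial⟩⟩
  haveI := functionField_isFractionRing_of_isAffineOpen (Spec (CommRingCat.of k)) ⊤ hU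
  let e₁ : Γ(Spec (CommRingCat.of k), ⊤) ≃+* k :=
    (Scheme.ΓSpecIso (CommRingCat.of k)).commRingCatIsoToRingEquiv
  have hF : IsField Γ(Spec (CommRingCat.of k), ⊤) := e₁.toMulEquiv.isField (Field.toIsField k)
  have hs : Function.Surjective (algebraMap Γ(Spec (CommRingCat.of k), ⊤)
      (Spec (CommRingCat.of k)).functionField) :=
    IsFractionRing.surjective_iff_isField.mpr hF
  have hi : Function.Injective (algebraMap Γ(Spec (CommRingCat.of k), ⊤)
      (Spec (CommRingCat.of k)).functionField) := IsFractionRing.injective _ _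
  exact PerfectField.of_ringEquiv (e₁.symm.trans (RingEquiv.ofBijective _ ⟨hi, hs⟩))

/-- a regular scheme of finite type over a perfect field is smooth -/
theorem smooth_of_regular (k : Type u) [Field k] [PerfectField k] (X : Scheme.{u})
    (f : X ⟶ Spec (CommRingCat.of k)) [LocallyOfFiniteType f] [QuasiCompact f]
    (hreg : ∀ x : X, IsRegularLocalRing (X.presheaf.stalk x)) : Smooth f := by
  haveI : IsLocallyNoetherian X := LocallyOfFiniteType.isLocallyNoetherian f
  haveI : LocallyOfFinitePresentation f := by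
    rw [LocallyOfFinitePresentation.iff_locallyOfFiniteType]; infer_instance
  haveI := perfectField_functionField k
  obtain ⟨V, hV, hs⟩ := Groth.Agent.Lib.R2H4.GenSmooth.exists_dense_open_smooth X _ hreg f
  haveI : Subsingleton ↥(Spec (CommRingCat.of k)) :=
    inferInstanceAs (Subsingleton (PrimeSpectrum k))
  have hVtop : V = ⊤ := by
    obtain ⟨y, hy⟩ := hV.nonempty
    ext z
    simp only [SetLike.mem_coe, Opens.coe_top, Set.mem_univ, iff_true]
    rw [Subsingleton.elim z y]; exact hy
  subst hVtop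
  have h1 : Smooth ((f ∣_ ⊤) ≫ (⊤ : (Spec (CommRingCat.of k)).Opens).ι) := inferInstance
  rw [morphismRestrict_ι] at h1
  have h2 : f ⁻¹ᵁ (⊤ : (Spec (CommRingCat.of k)).Opens) = ⊤ := rfl
  rw [h2] at h1
  haveI : IsIso (⊤ : X.Opens).ι := ⟨X.topIso.inv, X.ι_toIso_inv, X.toIso_inv_ι⟩
  exact (MorphismProperty.cancel_left_of_respectsIso @Smooth _ f).mp h1

open Groth.Agent.Lib.R2H4TensorPows Groth.Agent.Lib.R2H4ProdCurves

variable (k : Type u) [Field k]

local notation "𝕜" => Spec (CommRingCat.of k)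

theorem ruled_numbers [IsAlgClosed k] (X : Scheme.{u})
    [X.Over (Spec (CommRingCat.of k))]
    [IsIntegral X] (hdim : topologicalKrullDim X = 2)
    (hreg : ∀ x : X, IsRegularLocalRing (X.presheaf.stalk x))
    (hproj : ∃ (n : ℕ) (ι : X ⟶ CohB1.ProjSpace n k), IsClosedImmersion ι ∧
      ι ≫ CohB1.ProjSpace.toSpec n k = (X ↘ (Spec (CommRingCat.of k))))
    (C : Scheme.{u}) [C.Over (Spec (CommRingCat.of k))]
    [IsIntegral C] [IsProper (C ↘ (Spec (CommRingCat.of k)))] (hdimC : topologicalKrullDim C = 1)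
    (hregC : ∀ x : C, IsRegularLocalRing (C.presheaf.stalk x))
    (π : X ⟶ C) (hπ : π ≫ (C ↘ (Spec (CommRingCat.of k))) = (X ↘ (Spec (CommRingCat.of k))))
    (σ : C ⟶ X) (hσ : σ ≫ π = 𝟙 C)
    [HasInjectiveResolutions X.Modules] (y : C) (hy : IsClosed ({y} : Set C))
    (hfib : Nonempty (pullback π (C.fromSpecResidueField y) ≅ CohB1.ProjSpace 1 k)) :
    FGA.intNum k X 2 ![ClSub.idealMod σ.ker,
        (ClSub.idealMod ((Scheme.IdealSheafData.vanishingIdeal ⟨{y}, hy⟩).comap π))]
        (Coh.structureModule X) = 1 ∧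
      FGA.intNum k X 2 ![(ClSub.idealMod ((Scheme.IdealSheafData.vanishingIdeal ⟨{y}, hy⟩).comap π)),
        (ClSub.idealMod ((Scheme.IdealSheafData.vanishingIdeal ⟨{y}, hy⟩).comap π))]
        (Coh.structureModule X) = 0 := by
  obtain ⟨N, ι, hιc, hι⟩ := hproj
  haveI := hιc
  haveI : IsProper (X ↘ 𝕜) :=
    Groth.Agent.Lib.R2H3.DualCount.isProper_of_closedImmersion k N ι hι
  haveI : Smooth (X ↘ 𝕜) := smooth_of_regular k X _ hreg
  haveI : Smooth (C ↘ 𝕜) := smooth_of_regular k C _ hregC
  -- the rational point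
  let s : 𝕜 ⟶ C := pointOfClosedPoint (C ↘ 𝕜) y hy
  have hs : s ≫ (C ↘ 𝕜) = 𝟙 _ := pointOfClosedPoint_comp _ _ _
  have hrange : Set.range s = {y} := by
    ext z
    simp only [Set.mem_range, Set.mem_singleton_iff]
    constructor
    · rintro ⟨a, rfl⟩; exact pointOfClosedPoint_apply _ _ _ a
    · rintro rfl
      exact ⟨IsLocalRing.closedPoint k, pointOfClosedPoint_apply _ _ _ _⟩
  haveI : IsClosedImmersion s := by
    haveI : IsClosedImmersion (s ≫ (C ↘ 𝕜)) := by rw [hs]; infer_instance
    exact IsClosedImmersion.of_comp s (C ↘ 𝕜)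
  have hker : s.ker = Scheme.IdealSheafData.vanishingIdeal ⟨{y}, hy⟩ :=
    Groth.Agent.Lib.R2H1.IsoP1D.ker_eq_vanishingIdeal s y hy hrange
  rw [← hker]
  -- the fibre
  let i : pullback π s ⟶ X := pullback.fst π s
  let q : pullback π s ⟶ 𝕜 := pullback.snd π s
  haveI : IsClosedImmersion i := inferInstanceAs (IsClosedImmersion (pullback.fst π s))
  have sq : IsPullback q i s π := (IsPullback.of_hasPullback π s).flip
  obtain ⟨eP⟩ := hfib
  let w : Spec (CommRingCat.of k) ⟶ Spec (C.residueField y) :=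
    Spec.map (residueFieldIsoBase (C ↘ 𝕜) y hy).hom
  haveI : IsIso w := inferInstanceAs (IsIso (Spec.map (residueFieldIsoBase (C ↘ 𝕜) y hy).hom))
  have hw : s = w ≫ C.fromSpecResidueField y := rfl
  let m : pullback π s ⟶ pullback π (C.fromSpecResidueField y) :=
    pullback.map π s π (C.fromSpecResidueField y) (𝟙 X) w (𝟙 C)
      (by simp) (by rw [hw]; simp)
  haveI : IsIso m := by
    dsimp only [m]
    infer_instance
  let eF : pullback π s ≅ CohB1.ProjSpace 1 k := asIso m ≪≫ eP
  haveI := Groth.Agent.Lib.R2H1.IsoP1.isIntegral_P1k k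
  haveI : Nonempty ↥(pullback π s) := by
    obtain ⟨z⟩ := (inferInstance : Nonempty ↥(CohB1.ProjSpace 1 k))
    exact ⟨eF.inv z⟩
  haveI : IsIntegral (pullback π s) := isIntegral_of_isOpenImmersion eF.hom
  have hdimF : topologicalKrullDim ↥(pullback π s) = 1 := by
    rw [← Groth.Agent.Lib.R2H1.IsoP1.dim_P1k k]
    exact IsHomeomorph.topologicalKrullDim_eq _ (Scheme.homeoOfIso eF).isHomeomorph
  letI : (pullback π s).Over 𝕜 := ⟨i ≫ (X ↘ 𝕜)⟩
  haveI : IsProper ((pullback π s) ↘ 𝕜) := inferInstanceAs (IsProper (i ≫ (X ↘ 𝕜)))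
  have hFq : ((pullback π s) ↘ 𝕜) = q := by
    change i ≫ (X ↘ 𝕜) = q
    rw [← hπ, ← Category.assoc]
    change (pullback.fst π s ≫ π) ≫ _ = _
    rw [pullback.condition, Category.assoc, hs, Category.comp_id]
  obtain ⟨e⟩ := fibre_ideal_iso k X hdim C hdimC π s hs (pullback π s) q i hdimF sq
  have hJ : PicF.IsInvertible (ClSub.idealMod i.ker) :=
    Groth.Agent.Helper18Cart.isInvertible_of_isEffCartier _
      (Groth.Agent.Lib.R2H4CurveOnSurf.isEffCartier_ker k hdim i hdimF)
  have hkeri : i.ker = s.ker.comap π :=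
    Groth.Agent.Lib.R2H3.ComapPow.ker_eq_comap_of_isPullback s π q i sq
  rw [← hkeri]
  obtain ⟨L, hL, ⟨f⟩⟩ := Groth.Agent.Lib.R2H4InvExists.exists_inverse _ hJ
  have g : CohB1.tensorMod L (ClSub.idealMod i.ker) ≅ Coh.structureModule X := tComm _ _ ≪≫ f
  haveI : IsSeparated π := by
    haveI : IsSeparated (π ≫ (C ↘ 𝕜)) := by rw [hπ]; infer_instance
    exact IsSeparated.of_comp π (C ↘ 𝕜)
  haveI : IsClosedImmersion σ := by
    haveI : IsClosedImmersion (σ ≫ π) := by rw [hσ]; infer_instance
    exact IsClosedImmersion.of_comp σ π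
  have hσk : σ ≫ (X ↘ 𝕜) = (C ↘ 𝕜) := by
    rw [← hπ, ← Category.assoc, hσ, Category.id_comp]
  have hj : i ≫ π = ((pullback π s) ↘ 𝕜) ≫ s := by
    rw [hFq]; exact pullback.condition
  constructor
  · rw [inter_curve k X hdim C σ hdimC hσk L _ hL ⟨g⟩,
      deg_pullback_inverse k X C hdimC σ L _ hL g,
      deg_pullback_ideal_section k X C hdimC π s hs _ e σ hσ]
    rfl
  · rw [inter_curve k X hdim (pullback π s) i hdimF rfl L _ hL ⟨g⟩,
      deg_pullback_inverse k X (pullback π s) hdimF i L _ hL g,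
      deg_pullback_ideal_const k X C hdimC π s hs _ e (pullback π s) i hj]
    rfl

end Groth.Agent.Lib.R2H4Ruled
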