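import Mathlib
import Groth.Prelude
import Groth.Agent.Lib.R2H1CliffordEq
import Groth.Agent.Lib.R2H1QuarticNotHyp
import Groth.Agent.Lib.R2H1HyperellPencil
import Groth.Agent.Lib.R2H4Ruled
import Groth.Agent.Lib.R2H2QProjK0
import Groth.Agent.Lib.R2H2PnBott3
import Groth.Agent.Lib.Helper23AmpleIso
import Groth.Agent.Lib.R2H1QuadG4
import Groth.Agent.Lib.R2H1Clifford
set_option backward.isDefEq.respectTransparency.types false

/-!
helper1 (run 2): space sextics with special hyperplane section are canonical curves of genus four (S12432). not_mult_g12 (a closed immersion into P^n cannot have hyperplane bundle N^m with exactly m+1 sections, N a g12 on a regular curve of positive genus over alg closed k: the g12 double cover would be birational), pullSect_eq_zero (sections killed by pullHom are killed by OmegaSh.pullSect), sextic_canonical.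
-/

set_option autoImplicit false
set_option linter.style.haveILetI false
set_option linter.unusedSectionVars false
universe u v

open CategoryTheory CategoryTheory.Limits AlgebraicGeometry TopologicalSpace Opposite

namespace Groth.Agent.Lib.R2H1.SexticCanon

section Part1

open Groth.Agent.Lib.R2H1.PointTwist
open Groth.Agent.Lib.R2H1.CurveEuler Groth.Agent.Lib.R2H1.CurveDegSec
  Groth.Agent.Lib.R2H1.EulerAdd Groth.Agent.Lib.R2H2.HHLin
  Groth.Agent.Lib.R2H1.OmegaCurve Groth.Agent.Lib.R2H1.OmegaDual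
  Groth.Agent.Lib.R2H1.SerreNum Groth.Agent.Lib.R2H1.PicLaw
  Groth.Agent.Lib.R2H1.HyperellCanon Groth.Agent.Lib.R2H2.PnBeilinson
  Groth.Agent.Lib.R2H1.QuarticNotHyp Groth.Agent.Lib.R2H1.IsoP1
  Groth.Agent.Lib.R2H1.NormPush

variable (k : Type u) [Field k] [IsAlgClosed k] (X : Scheme.{u}) [X.Over (Spec (CommRingCat.of k))]
    [IsIntegral X] [IsProper (X ↘ (Spec (CommRingCat.of k)))]

/-- a multiple `N^m` of a `g¹₂` with exactly `m + 1` sections is not the hyperplane bundle of a
closed immersion into projective space -/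
theorem not_mult_g12 (hdim : topologicalKrullDim X = 1)
    (hreg : ∀ x : X, IsRegularLocalRing (X.presheaf.stalk x))
    (hg : 1 ≤ Curv2.genus k X) (n : ℕ)
    (i : X ⟶ CohB1.ProjSpace n k) [IsClosedImmersion i]
    (hi : i ≫ CohB1.ProjSpace.toSpec n k = (X ↘ (Spec (CommRingCat.of k))))
    (N : X.Modules) (s : Fin 2 → LinSer.Sect X N) (hN : LinSer.IsLinSer k X N 2 1 s) (m : ℕ)
    (e : (Scheme.Modules.pullback i).obj (Twist.twistProjSpace n k 1) ≅ CohB1.tensorPow N m)
    (h0 : Module.finrank k (Coh.HH X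
      ((Scheme.Modules.pullback i).obj (Twist.twistProjSpace n k 1)) 0) = m + 1) : False := by
  haveI := isNoetherian_of_proper k X
  obtain ⟨hNi, hdN, hli⟩ := hN
  have cN := isCoh_of_isInvertible N hNi
  haveI := finite_HH k X _ cN 0
  have h2 : 2 ≤ Module.finrank k (Coh.HH X N 0) :=
    Groth.Agent.Lib.R2H1.G12.le_finrank_of_linIndep k X N s hli
  have hdN' : Curv2.deg k X N 1 = 2 := by rw [hdN]; norm_num
  have h2' := h0_le_deg k X hdim hreg hg N hNi (by rw [hdN']; norm_num)
  have hN0 : Module.finrank k (Coh.HH X N 0) = 2 := by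
    rw [hdN'] at h2'
    have : Module.finrank k (Coh.HH X N 0) ≤ 2 := by exact_mod_cast h2'
    omega
  have hX0 := Groth.Agent.Lib.R2H1.RegPoint.finrank_H0_structure_eq_one k X
  haveI : Smooth (X ↘ Spec (CommRingCat.of k)) :=
    Groth.Agent.Lib.R2H4Ruled.smooth_of_regular k X _ hreg
  haveI := Groth.Agent.Lib.R2H1.CurveBC.geometricallyConnected_of_h0 k X hX0
  have hgg := Groth.Agent.Lib.R2H1.HyperellPencil.isGloballyGenerated_of_deg_two_closed k X hdim
    hreg hg N hNi hdN' hN0
  obtain ⟨f, hf, hfin, hres, ⟨eN⟩⟩ :=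
    Groth.Agent.Lib.R2H1.DoubleCover.exists_double_cover_of_pencil k X hdim N hNi hgg hN0 hdN' hg
  haveI := hfin
  haveI := isIntegral_P1k k
  let f' : X ⟶ Proj (CohB1.polyGrading 1 k) := f
  haveI : IsFinite f' := hfin
  have hξ : f (genericPoint X) = genericPoint (CohB1.ProjSpace 1 k) :=
    Groth.Agent.Lib.R2H1.DblCoverGeom.map_genericPoint k X hdim hX0 f'
  -- `A = O(m)` on the line
  have hA : PicF.IsInvertible (Twist.twistProjSpace 1 k (m : ℤ)) :=
    Groth.Agent.Lib.R2Lead.KRR.isInvertible_twistProjSpace 1 k m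
  have hO1 : PicF.IsInvertible (Twist.twistProjSpace 1 k 1) :=
    Groth.Agent.Lib.R2Lead.KRR.isInvertible_twistProjSpace 1 k 1
  obtain ⟨e1⟩ := Groth.Agent.Lib.R2H2.QProjK0.nonempty_twist_iso_tensorPow 1 k m
  obtain ⟨e2⟩ := Groth.Agent.Lib.Helper23.PB.nonempty_pullback_tensorPow_iso f
    (Twist.twistProjSpace 1 k 1) hO1 m
  have β : (Scheme.Modules.pullback f).obj (Twist.twistProjSpace 1 k (m : ℤ)) ≅
      (Scheme.Modules.pullback i).obj (Twist.twistProjSpace n k 1) :=
    (Scheme.Modules.pullback f).mapIso e1 ≪≫ e2 ≪≫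
      Groth.Agent.Lib.Helper23.AmpleIso.tensorPowIso eN m ≪≫ e.symm
  -- dimensions
  obtain ⟨hPfin, hP⟩ := Groth.Agent.Lib.R2H2.PnBott.H0_twist k 1 (m : ℤ) (Or.inl le_rfl)
  rw [if_pos (by positivity), Int.toNat_natCast, Nat.choose_one_right] at hP
  have hfA := Groth.Agent.Lib.R2H2.ClosedPnLin.finrank_HH_of_iso k β 0
  have hfA' : Module.finrank k (Coh.HH X ((Scheme.Modules.pullback f).obj
      (Twist.twistProjSpace 1 k (m : ℤ))) 0) = m + 1 := hfA.trans h0
  have hNf := Groth.Agent.Lib.Helper23.PB.isInvertible_pullback f _ hA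
  haveI := finite_HH k X _ (isCoh_of_isInvertible _ hNf) 0
  haveI := hPfin
  haveI : Module.Finite k (Coh.structureModule X ⟶ (Scheme.Modules.pullback f).obj
      (Twist.twistProjSpace 1 k (m : ℤ))) :=
    Module.Finite.equiv (clsEquiv (k := k) ((Scheme.Modules.pullback f).obj
      (Twist.twistProjSpace 1 k (m : ℤ)))).symm
  haveI : Module.Finite k (Coh.structureModule (CohB1.ProjSpace 1 k) ⟶
      Twist.twistProjSpace 1 k (m : ℤ)) :=
    Module.Finite.equiv (clsEquiv (k := k) (Twist.twistProjSpace 1 k (m : ℤ))).symm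
  have hfr : Module.finrank k (Coh.structureModule (CohB1.ProjSpace 1 k) ⟶
      Twist.twistProjSpace 1 k (m : ℤ)) =
      Module.finrank k (Coh.structureModule X ⟶ (Scheme.Modules.pullback f).obj
        (Twist.twistProjSpace 1 k (m : ℤ))) := by
    rw [(clsEquiv (k := k) (Twist.twistProjSpace 1 k (m : ℤ))).finrank_eq,
      (clsEquiv (k := k) ((Scheme.Modules.pullback f).obj
        (Twist.twistProjSpace 1 k (m : ℤ)))).finrank_eq, hP, hfA']
  have hsurj : Function.Surjective (pullHom k f hf (Twist.twistProjSpace 1 k (m : ℤ))) :=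
    (LinearMap.injective_iff_surjective_of_finrank_eq_finrank hfr).1
      (pullHom_injective k f hf hξ _ hA)
  have hsec : ∀ t : Coh.structureModule X ⟶
      (Scheme.Modules.pullback i).obj (Twist.twistProjSpace n k 1),
      ∃ q : Coh.structureModule (CohB1.ProjSpace 1 k) ⟶ Twist.twistProjSpace 1 k (m : ℤ),
        t = pullS f (Twist.twistProjSpace 1 k (m : ℤ)) q ≫ β.hom := by
    intro t
    obtain ⟨q, hq⟩ := hsurj (t ≫ β.inv)
    refine ⟨q, ?_⟩
    have : pullS f (Twist.twistProjSpace 1 k (m : ℤ)) q = t ≫ β.inv := hq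
    rw [this, Category.assoc, Iso.inv_hom_id, Category.comp_id]
  let i' : X ⟶ Proj (CohB1.polyGrading n k) := i
  haveI : IsClosedImmersion i' := inferInstanceAs (IsClosedImmersion i)
  have hs := ffMap_surjective_of_sections (n := n) (k := k) i' hi f hf hξ
    (Twist.twistProjSpace 1 k (m : ℤ)) hA β hsec
  have hfr2 := Groth.Agent.Lib.R2H1.DoubleCover.finrank_functionField_eq_residueDegree f hξ
  rw [hres] at hfr2
  letI := (ffMap f hξ).toAlgebra
  have hone : Module.finrank (CohB1.ProjSpace 1 k).functionField X.functionField = 1 := by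
    have e' : (CohB1.ProjSpace 1 k).functionField ≃ₗ[(CohB1.ProjSpace 1 k).functionField]
        X.functionField :=
      LinearEquiv.ofBijective (Algebra.linearMap _ _) ⟨(ffMap f hξ).injective, hs⟩
    rw [← e'.finrank_eq, Module.finrank_self]
  omega

end Part1

section Part2

open Groth.Agent.Lib.Helper23.SecTw Groth.Agent.Lib.Helper23.PB Groth.Agent.Helper13PullbackUnit
open Groth.Agent.Lib.R2H1.HyperellCanon Groth.Agent.Lib.R2H2.PnBeilinson Groth.Agent.Lib.Helper23.GenLocus
open Groth.Agent.Lib.R2H1.CurveEuler Groth.Agent.Lib.R2H1.CurveDegSec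
  Groth.Agent.Lib.R2H1.EulerAdd
  Groth.Agent.Lib.R2H1.OmegaCurve Groth.Agent.Lib.R2H1.OmegaDual
  Groth.Agent.Lib.R2H1.SerreNum Groth.Agent.Lib.R2H1.PicLaw


section Gen

variable (k : Type u) [Field k] {X Y : Scheme.{u}} [X.Over (Spec (CommRingCat.of k))]
  [Y.Over (Spec (CommRingCat.of k))] (i : X ⟶ Y)
  (hi : i ≫ (Y ↘ Spec (CommRingCat.of k)) = X ↘ Spec (CommRingCat.of k))

/-- a global section killed by `pullHom` is killed by `pullSect` -/
theorem pullSect_eq_zero (M : Y.Modules) (q : Coh.structureModule Y ⟶ M)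
    (hq : pullHom k i hi M q = 0) : OmegaSh.pullSect i M ⊤ (sv q ⊤) = 0 := by
  have hz : (Scheme.Modules.pullback i).map q = 0 := by
    rw [pullHom_apply] at hq
    have := congrArg (fun t => (pullbackUnitIso i).hom ≫ t) hq
    simpa using this
  have h1 := map_unitSec i q (le_refl (i ⁻¹ᵁ ⊤)) (toS ⊤ 1)
  rw [hz] at h1
  have h2 : unitSec i M (le_refl (i ⁻¹ᵁ ⊤)) (q.app ⊤ (toS ⊤ 1)) = 0 := by
    rw [← h1]
    rfl
  rw [unitSec_apply] at h2
  have h3 : OmegaSh.pullSect i M ⊤ (sv q ⊤) =
      ((Scheme.Modules.pullback i).obj M).presheaf.map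
        (homOfLE (le_refl (i ⁻¹ᵁ ⊤))).op
        (((Scheme.Modules.pullbackPushforwardAdjunction i).unit.app M).app ⊤
          (q.app ⊤ (toS ⊤ 1))) := by
    have h4 : (homOfLE (le_refl (i ⁻¹ᵁ (⊤ : Y.Opens)))).op = 𝟙 _ := rfl
    rw [h4, CategoryTheory.Functor.map_id]
    rfl
  rw [h3]
  exact h2

end Gen

section Main

variable (k : Type u) [Field k] [IsAlgClosed k] (X : Scheme.{u}) [X.Over (Spec (CommRingCat.of k))]
    [IsIntegral X] [IsProper (X ↘ (Spec (CommRingCat.of k)))]

/-- a nondegenerate curve of degree six in `P³` with special hyperplane section is a canonical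
curve of genus four -/
theorem sextic_canonical (hdim : topologicalKrullDim X = 1)
    (hreg : ∀ x : X, IsRegularLocalRing (X.presheaf.stalk x))
    (i : X ⟶ CohB1.ProjSpace 3 k) [IsClosedImmersion i]
    (hi : i ≫ CohB1.ProjSpace.toSpec 3 k = (X ↘ (Spec (CommRingCat.of k))))
    (hplane : ∀ s : LinSer.Sect (CohB1.ProjSpace 3 k) (Twist.twistProjSpace 3 k 1), s ≠ 0 →
      OmegaSh.pullSect i (Twist.twistProjSpace 3 k 1) ⊤ s ≠ 0)
    (hspecial : Nontrivial (Coh.HH X
      ((Scheme.Modules.pullback i).obj (Twist.twistProjSpace 3 k 1)) 1))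
    (hdeg : Curv2.deg k X ((Scheme.Modules.pullback i).obj (Twist.twistProjSpace 3 k 1)) 1 = 6) :
    Nonempty (((Scheme.Modules.pullback i).obj (Twist.twistProjSpace 3 k 1)) ≅ Om k X) ∧
      Curv2.genus k X = 4 := by
  haveI := isNoetherian_of_proper k X
  have hO1 : PicF.IsInvertible (Twist.twistProjSpace 3 k 1) :=
    Groth.Agent.Lib.R2Lead.KRR.isInvertible_twistProjSpace 3 k 1
  have hL : PicF.IsInvertible ((Scheme.Modules.pullback i).obj (Twist.twistProjSpace 3 k 1)) :=
    isInvertible_pullback i _ hO1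
  have cL := isCoh_of_isInvertible _ hL
  haveI := finite_HH k X _ cL 0
  haveI := finite_HH k X _ cL 1
  -- at least four sections
  have hinj : Function.Injective (pullHom k i hi (Twist.twistProjSpace 3 k 1)) := by
    rw [injective_iff_map_eq_zero]
    intro q hq
    by_contra hne
    have h1 := pullSect_eq_zero k i hi _ q hq
    have h2 : sv q ⊤ ≠ 0 := by
      intro h0
      apply hne
      apply hom_ext_of_sv
      rw [h0]
      rfl
    exact hplane (sv q ⊤) h2 h1
  obtain ⟨hPfin, hP⟩ := Groth.Agent.Lib.R2H2.PnBott.H0_twist k 3 1 (Or.inl (by norm_num))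
  rw [if_pos (by norm_num)] at hP
  have hP' : Module.finrank k (Coh.HH (CohB1.ProjSpace 3 k) (Twist.twistProjSpace 3 k 1) 0) = 4 := by
    rw [hP]
    decide
  haveI := hPfin
  haveI : Module.Finite k (Coh.structureModule X ⟶
      (Scheme.Modules.pullback i).obj (Twist.twistProjSpace 3 k 1)) :=
    Module.Finite.equiv (clsEquiv (k := k)
      ((Scheme.Modules.pullback i).obj (Twist.twistProjSpace 3 k 1))).symm
  haveI : Module.Finite k (Coh.structureModule (CohB1.ProjSpace 3 k) ⟶
      Twist.twistProjSpace 3 k 1) :=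
    Module.Finite.equiv (clsEquiv (k := k) (Twist.twistProjSpace 3 k 1)).symm
  have h4 : 4 ≤ Module.finrank k (Coh.HH X
      ((Scheme.Modules.pullback i).obj (Twist.twistProjSpace 3 k 1)) 0) := by
    have h1 := LinearMap.finrank_le_finrank_of_injective hinj
    rw [(clsEquiv (k := k) (Twist.twistProjSpace 3 k 1)).finrank_eq,
      (clsEquiv (k := k) ((Scheme.Modules.pullback i).obj
        (Twist.twistProjSpace 3 k 1))).finrank_eq, hP'] at h1
    exact h1
  have h1pos : 1 ≤ Module.finrank k (Coh.HH X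
      ((Scheme.Modules.pullback i).obj (Twist.twistProjSpace 3 k 1)) 1) := Module.finrank_pos
  have cl := Groth.Agent.Lib.R2H1.Clifford.clifford k X hdim hreg _ hL (by omega) h1pos
  have h0eq : Module.finrank k (Coh.HH X
      ((Scheme.Modules.pullback i).obj (Twist.twistProjSpace 3 k 1)) 0) = 4 := by
    rw [hdeg] at cl
    omega
  have rr := riemann_roch k X hdim hreg _ hL
  obtain ⟨-, -, dΩ⟩ := numerics_Om k X hdim hreg
  by_cases hK : Nonempty ((Scheme.Modules.pullback i).obj (Twist.twistProjSpace 3 k 1) ≅ Om k X)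
  · refine ⟨hK, ?_⟩
    obtain ⟨eK⟩ := hK
    have := Groth.Agent.Lib.R2H1.CurveAmple.deg_congr k X eK 1
    rw [hdeg, dΩ] at this
    omega
  · exfalso
    obtain ⟨M, hM, ⟨e⟩⟩ := Groth.Agent.Lib.R2H1.InvExists.exists_inverse _ hL
    have s1 := (serre_numerics k X hdim hreg _ M hL hM (commI M _ ≪≫ e)).1
    have ec := Groth.Agent.Lib.R2H2.ClosedPnLin.finrank_HH_of_iso k (commI (Om k X) M) 0
    have hsp : Nontrivial (Coh.HH X (CohB1.tensorMod (Om k X) M) 0) :=
      Module.nontrivial_of_finrank_pos (R := k) (by omega)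
    have hs : Nontrivial (Coh.HH X
        ((Scheme.Modules.pullback i).obj (Twist.twistProjSpace 3 k 1)) 0) :=
      Module.nontrivial_of_finrank_pos (R := k) (by omega)
    have hO : IsEmpty ((Scheme.Modules.pullback i).obj (Twist.twistProjSpace 3 k 1) ≅
        Coh.structureModule X) := ⟨fun eO => by
      have := Groth.Agent.Lib.R2H1.CurveAmple.deg_congr k X eO 1
      rw [hdeg, Groth.Agent.Lib.R2H1.VBHZero.deg_structure k X] at this
      norm_num at this⟩
    obtain ⟨N, s, hN, ⟨eN⟩⟩ := Groth.Agent.Lib.R2H1.CliffordEq.clifford_equality k X hdim hreg _ M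
      hL ⟨e⟩ hs hsp hO ⟨fun eK => hK ⟨eK⟩⟩ (by rw [h0eq, hdeg]; norm_num)
    rw [h0eq] at eN
    exact not_mult_g12 k X hdim hreg (by omega) 3 i hi N s hN 3 eN (by rw [h0eq])

end Main

end Part2

end Groth.Agent.Lib.R2H1.SexticCanon
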