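import Mathlib
import Groth.Prelude
import Groth.Agent.Lib.R2H1SexticCanon
import Groth.Agent.Lib.R2H1DegPullback
set_option backward.isDefEq.respectTransparency.types false

/-!
helper1 (run 2): numerics of nondegenerate maps to projective space factoring through a finite flat cover of regular curves over alg closed k (S19796, S16978). pullHom_injective_of_nondeg (OmegaSh.pullSect nondegeneracy gives injective pullHom), pullHom_injective_of_comp (injective along f then g gives injective along g), cover_numerics (deg (pi g)^*O(1) = a deg g^*O(1) and deg g^*O(1) >= r + genus or >= 2r by Riemann-Roch and Clifford).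
-/

set_option autoImplicit false
set_option linter.style.haveILetI false
set_option linter.unusedSectionVars false
universe u v

open CategoryTheory CategoryTheory.Limits AlgebraicGeometry TopologicalSpace Opposite

namespace Groth.Agent.Lib.R2H1.CoverNum

section Part1

open Groth.Agent.Lib.Helper23.SecTw Groth.Agent.Lib.Helper23.PB Groth.Agent.Helper13PullbackUnit
open Groth.Agent.Lib.R2H1.HyperellCanon Groth.Agent.Lib.R2H2.PnBeilinson Groth.Agent.Lib.Helper23.GenLocus
open Groth.Agent.Lib.R2H1.CurveEuler Groth.Agent.Lib.R2H1.CurveDegSec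
  Groth.Agent.Lib.R2H1.EulerAdd
  Groth.Agent.Lib.R2H1.SerreNum Groth.Agent.Lib.R2H1.SexticCanon

section Gen

variable (k : Type u) [Field k] {X Y Z : Scheme.{u}} [X.Over (Spec (CommRingCat.of k))]
  [Y.Over (Spec (CommRingCat.of k))] [Z.Over (Spec (CommRingCat.of k))]

/-- nondegeneracy in terms of `pullSect` makes `pullHom` injective -/
theorem pullHom_injective_of_nondeg (i : X ⟶ Y)
    (hi : i ≫ (Y ↘ Spec (CommRingCat.of k)) = X ↘ Spec (CommRingCat.of k))
    (M : Y.Modules)
    (hnd : ∀ s : LinSer.Sect Y M, s ≠ 0 → OmegaSh.pullSect i M ⊤ s ≠ 0) :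
    Function.Injective (pullHom k i hi M) := by
  rw [injective_iff_map_eq_zero]
  intro q hq
  by_contra hne
  have h1 := pullSect_eq_zero k i hi _ q hq
  have h2 : sv q ⊤ ≠ 0 := by
    intro h0
    apply hne
    apply hom_ext_of_sv
    rw [h0]
    rfl
  exact hnd (sv q ⊤) h2 h1

/-- injectivity of pulling back sections along a composite gives injectivity along the second
factor -/
theorem pullHom_injective_of_comp (f : X ⟶ Y) (g : Y ⟶ Z)
    (hg : g ≫ (Z ↘ Spec (CommRingCat.of k)) = Y ↘ Spec (CommRingCat.of k))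
    (hfg : (f ≫ g) ≫ (Z ↘ Spec (CommRingCat.of k)) = X ↘ Spec (CommRingCat.of k))
    (M : Z.Modules) (hinj : Function.Injective (pullHom k (f ≫ g) hfg M)) :
    Function.Injective (pullHom k g hg M) := by
  rw [injective_iff_map_eq_zero]
  intro q hq
  apply hinj
  rw [map_zero]
  have hz : (Scheme.Modules.pullback g).map q = 0 := by
    rw [pullHom_apply] at hq
    have := congrArg (fun t => (pullbackUnitIso g).hom ≫ t) hq
    simpa using this
  have hnat := (Scheme.Modules.pullbackComp f g).hom.naturality q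
  have hz2 : (Scheme.Modules.pullback (f ≫ g)).map q = 0 := by
    have h1 : (Scheme.Modules.pullbackComp f g).hom.app _ ≫
        (Scheme.Modules.pullback (f ≫ g)).map q = 0 := by
      rw [← hnat]
      change (Scheme.Modules.pullback f).map ((Scheme.Modules.pullback g).map q) ≫ _ = 0
      rw [hz, Functor.map_zero, zero_comp]
    have h2 := congrArg (fun t => (Scheme.Modules.pullbackComp f g).inv.app _ ≫ t) h1
    simpa using h2
  rw [pullHom_apply, hz2, comp_zero]

end Gen

section Main

variable (k : Type u) [Field k] [IsAlgClosed k] (X : Scheme.{u}) [X.Over (Spec (CommRingCat.of k))]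
    [IsIntegral X] [IsProper (X ↘ (Spec (CommRingCat.of k)))]
    (Γ : Scheme.{u}) [Γ.Over (Spec (CommRingCat.of k))] [IsIntegral Γ]
    [IsProper (Γ ↘ (Spec (CommRingCat.of k)))]

/-- numerics of a nondegenerate map to projective space factoring through a finite flat cover -/
theorem cover_numerics (hdim : topologicalKrullDim X = 1)
    (hreg : ∀ x : X, IsRegularLocalRing (X.presheaf.stalk x))
    (hdimΓ : topologicalKrullDim Γ = 1)
    (hregΓ : ∀ y : Γ, IsRegularLocalRing (Γ.presheaf.stalk y))
    (π : X ⟶ Γ) (hπ : π ≫ (Γ ↘ Spec (CommRingCat.of k)) = X ↘ Spec (CommRingCat.of k))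
    [IsFinite π] [Flat π] (a : ℕ) (ha1 : 1 ≤ a) (ha : ∀ y : Γ, Scheme.Hom.finrank π y = a)
    (r : ℕ) (g : Γ ⟶ CohB1.ProjSpace r k)
    (hg : g ≫ CohB1.ProjSpace.toSpec r k = Γ ↘ Spec (CommRingCat.of k))
    (hnd : ∀ s : LinSer.Sect (CohB1.ProjSpace r k) (Twist.twistProjSpace r k 1), s ≠ 0 →
      OmegaSh.pullSect (π ≫ g) (Twist.twistProjSpace r k 1) ⊤ s ≠ 0) :
    Curv2.deg k X ((Scheme.Modules.pullback (π ≫ g)).obj (Twist.twistProjSpace r k 1)) 1 =
        (a : ℤ) * Curv2.deg k Γ ((Scheme.Modules.pullback g).obj (Twist.twistProjSpace r k 1)) 1 ∧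
      ((r : ℤ) + Curv2.genus k Γ ≤
          Curv2.deg k Γ ((Scheme.Modules.pullback g).obj (Twist.twistProjSpace r k 1)) 1 ∨
        2 * (r : ℤ) ≤
          Curv2.deg k Γ ((Scheme.Modules.pullback g).obj (Twist.twistProjSpace r k 1)) 1) := by
  haveI := isNoetherian_of_proper k X
  haveI := isNoetherian_of_proper k Γ
  haveI : Smooth (X ↘ Spec (CommRingCat.of k)) :=
    Groth.Agent.Lib.R2H4Ruled.smooth_of_regular k X _ hreg
  haveI : Smooth (Γ ↘ Spec (CommRingCat.of k)) :=
    Groth.Agent.Lib.R2H4Ruled.smooth_of_regular k Γ _ hregΓ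
  haveI : LocallyOfFinitePresentation π :=
    LocallyOfFinitePresentation.iff_locallyOfFiniteType.mpr inferInstance
  have hs := Groth.Agent.Lib.R2H1.QuarticNotHyp.surjective_of_finrank π a ha1 ha
  have hξ := Groth.Agent.Lib.R2H1.QuarticNotHyp.map_genericPoint_of_surjective π hs
  have hres := Groth.Agent.Lib.R2H1.QuarticNotHyp.residueDegree_of_finrank' k X Γ hdim hdimΓ π hξ
    a ha
  have hO1 : PicF.IsInvertible (Twist.twistProjSpace r k 1) :=
    Groth.Agent.Lib.R2Lead.KRR.isInvertible_twistProjSpace r k 1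
  have hM := isInvertible_pullback g _ hO1
  have hM1 := isFinLocFreeOfRank_one_of_isInvertible _ hM
  have d1 := Groth.Agent.Lib.R2H1.DegPullback.s7640 k X Γ hdim hdimΓ π hπ hξ 1 _ hM1
  rw [hres] at d1
  have e : (Scheme.Modules.pullback π).obj ((Scheme.Modules.pullback g).obj
      (Twist.twistProjSpace r k 1)) ≅
      (Scheme.Modules.pullback (π ≫ g)).obj (Twist.twistProjSpace r k 1) :=
    (Scheme.Modules.pullbackComp π g).app _
  have d2 := Groth.Agent.Lib.R2H1.CurveAmple.deg_congr k X e 1
  refine ⟨d2.symm.trans d1, ?_⟩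
  -- sections
  have hfg : (π ≫ g) ≫ CohB1.ProjSpace.toSpec r k = X ↘ Spec (CommRingCat.of k) := by
    rw [Category.assoc, hg, hπ]
  have hinj := pullHom_injective_of_comp k π g hg hfg _
    (pullHom_injective_of_nondeg k (π ≫ g) hfg _ hnd)
  obtain ⟨hPfin, hP⟩ := Groth.Agent.Lib.R2H2.PnBott.H0_twist k r 1 (Or.inr (by norm_num))
  rw [if_pos (by norm_num)] at hP
  have hP' : Module.finrank k (Coh.HH (CohB1.ProjSpace r k) (Twist.twistProjSpace r k 1) 0) =
      r + 1 := by
    rw [hP]
    have : (1 : ℤ).toNat + r = r + 1 := by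
      simp [Nat.add_comm]
    rw [this, Nat.choose_succ_self_right]
  have cM := isCoh_of_isInvertible _ hM
  haveI := finite_HH k Γ _ cM 0
  haveI := finite_HH k Γ _ cM 1
  haveI := hPfin
  haveI : Module.Finite k (Coh.structureModule Γ ⟶
      (Scheme.Modules.pullback g).obj (Twist.twistProjSpace r k 1)) :=
    Module.Finite.equiv (clsEquiv (k := k)
      ((Scheme.Modules.pullback g).obj (Twist.twistProjSpace r k 1))).symm
  haveI : Module.Finite k (Coh.structureModule (CohB1.ProjSpace r k) ⟶
      Twist.twistProjSpace r k 1) :=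
    Module.Finite.equiv (clsEquiv (k := k) (Twist.twistProjSpace r k 1)).symm
  have h4 : r + 1 ≤ Module.finrank k (Coh.HH Γ
      ((Scheme.Modules.pullback g).obj (Twist.twistProjSpace r k 1)) 0) := by
    have h1 := LinearMap.finrank_le_finrank_of_injective hinj
    rw [(clsEquiv (k := k) (Twist.twistProjSpace r k 1)).finrank_eq,
      (clsEquiv (k := k) ((Scheme.Modules.pullback g).obj
        (Twist.twistProjSpace r k 1))).finrank_eq, hP'] at h1
    exact h1
  have rr := riemann_roch k Γ hdimΓ hregΓ _ hM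
  rcases Nat.eq_zero_or_pos (Module.finrank k (Coh.HH Γ
      ((Scheme.Modules.pullback g).obj (Twist.twistProjSpace r k 1)) 1)) with h1 | h1
  · left
    rw [h1] at rr
    have : ((r : ℤ) + 1) ≤ Module.finrank k (Coh.HH Γ
      ((Scheme.Modules.pullback g).obj (Twist.twistProjSpace r k 1)) 0) := by exact_mod_cast h4
    push_cast at rr
    omega
  · right
    have cl := Groth.Agent.Lib.R2H1.Clifford.clifford k Γ hdimΓ hregΓ _ hM (by omega) h1
    have : ((r : ℤ) + 1) ≤ Module.finrank k (Coh.HH Γ
      ((Scheme.Modules.pullback g).obj (Twist.twistProjSpace r k 1)) 0) := by exact_mod_cast h4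
    omega

end Main

end Part1

end Groth.Agent.Lib.R2H1.CoverNum
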